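import Mathlib
import Cfsg.Statements.S0263

set_option autoImplicit false
open Cfsg

namespace Cfsg.Agent.S0263

/-- `|GL_n(q)| = q^(n(n-1)/2) * ∏ (q^(n-i) - 1)` -/
theorem card_GL_factor {F : Type*} [Field F] [Fintype F] (n : ℕ) :
    Nat.card (Matrix.GeneralLinearGroup (Fin n) F) =
      Fintype.card F ^ (n * (n - 1) / 2) *
        ∏ i ∈ Finset.range n, (Fintype.card F ^ (n - i) - 1) := by
  rw [Matrix.card_GL_field, Fin.prod_univ_eq_prod_range
    (fun i => Fintype.card F ^ n - Fintype.card F ^ i) n, ← Finset.sum_range_id,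
    ← Finset.prod_pow_eq_pow_sum, ← Finset.prod_mul_distrib]
  apply Finset.prod_congr rfl
  intro i hi
  rw [Finset.mem_range] at hi
  rw [Nat.mul_sub, mul_one, ← pow_add, Nat.add_sub_cancel' hi.le]

/-- A Sylow p-subgroup of GL_n(q), p the characteristic, has order q^(n(n-1)/2). -/
theorem result {F : Type*} [Field F] [Fintype F] {q : ℕ} (hF : Fintype.card F = q) (p : ℕ) [Fact p.Prime] [CharP F p] (n : ℕ) (P : Sylow p (Matrix.GeneralLinearGroup (Fin n) F)) : Nat.card P = q ^ (n * (n - 1) / 2) := by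
  have hp : p.Prime := Fact.out
  obtain ⟨f, -, hf⟩ := FiniteField.card F p
  rw [hF] at hf
  have hfin : Finite (Matrix.GeneralLinearGroup (Fin n) F) := inferInstance
  rw [Sylow.card_eq_multiplicity, card_GL_factor, hF]
  have hq0 : q ≠ 0 := by rw [hf]; exact pow_ne_zero _ hp.ne_zero
  have hq1 : 1 < q := by rw [← hF]; exact Fintype.one_lt_card
  have hndvd : ¬ p ∣ ∏ i ∈ Finset.range n, (q ^ (n - i) - 1) := by
    rw [Prime.dvd_finsetProd_iff (Nat.prime_iff.1 hp)]
    rintro ⟨i, hi, hdvd⟩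
    rw [Finset.mem_range] at hi
    have h1 : p ∣ q ^ (n - i) := by
      rw [hf, ← pow_mul]
      exact dvd_pow_self p (by
        have : 0 < (f : ℕ) := f.pos
        have : 0 < n - i := by omega
        positivity)
    have h2 : 1 ≤ q ^ (n - i) := Nat.one_le_pow _ _ (by omega)
    have h3 : p ∣ q ^ (n - i) - (q ^ (n - i) - 1) := Nat.dvd_sub h1 hdvd
    have h4 : q ^ (n - i) - (q ^ (n - i) - 1) = 1 := by omega
    rw [h4] at h3
    exact hp.one_lt.ne' (Nat.dvd_one.1 h3)
  have hM0 : ∏ i ∈ Finset.range n, (q ^ (n - i) - 1) ≠ 0 := fun h0 => hndvd (h0 ▸ dvd_zero p)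
  rw [Nat.factorization_mul (pow_ne_zero _ hq0) hM0, Finsupp.add_apply,
    Nat.factorization_eq_zero_of_not_dvd hndvd, add_zero, Nat.factorization_pow, Finsupp.smul_apply,
    hf, Nat.factorization_pow, Finsupp.smul_apply, Nat.Prime.factorization_self hp, smul_eq_mul,
    smul_eq_mul, mul_one, ← pow_mul, mul_comm]

end Cfsg.Agent.S0263
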