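import Cfsg.Statements.S2261
-- import your own Cfsg.Agent.* helpers here

set_option autoImplicit false
open Cfsg

namespace Cfsg.Agent.S2261

open Matrix Polynomial

/-- every power of `A` lies in the span of `A^i`, `i < d`. -/
theorem pow_mem_span {F : Type*} [Field F] {d : ℕ} (hd : 1 ≤ d) (A : Matrix (Fin d) (Fin d) F) (k : ℕ) :
    A ^ k ∈ LinearMap.range (Fintype.linearCombination F (fun i : Fin d => A ^ (i : ℕ))) := by
  have : Nonempty (Fin d) := ⟨⟨0, hd⟩⟩
  have hmon : A.charpoly.Monic := Matrix.charpoly_monic A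
  set p : F[X] := (X ^ k) %ₘ A.charpoly with hp
  have h1 : aeval A p = A ^ k := by
    rw [hp, Polynomial.aeval_modByMonic_eq_self_of_root (Matrix.aeval_self_charpoly A)]
    simp
  have hdeg : p.natDegree < d := by
    have hne : A.charpoly ≠ 1 := by
      intro h
      have := Matrix.charpoly_natDegree_eq_dim A
      rw [h] at this
      simp at this
      omega
    have := Polynomial.natDegree_modByMonic_lt (X ^ k) hmon hne
    rwa [Matrix.charpoly_natDegree_eq_dim, Fintype.card_fin] at this
  rw [Polynomial.aeval_eq_sum_range' hdeg] at h1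
  refine ⟨fun i => p.coeff i, ?_⟩
  rw [Fintype.linearCombination_apply, ← h1,
    Fin.sum_univ_eq_sum_range (fun i => p.coeff i • A ^ i) d]

theorem smul_unit_eq_zero {F : Type*} [Field F] {d : ℕ} (hd : 1 ≤ d) (B : GL (Fin d) F) (c : F)
    (h : c • (B : Matrix (Fin d) (Fin d) F) = 0) : c = 0 := by
  have h2 : c • ((B : Matrix (Fin d) (Fin d) F) * ((B⁻¹ : GL (Fin d) F) : Matrix (Fin d) (Fin d) F)) = 0 := by
    rw [← Matrix.smul_mul, h, Matrix.zero_mul]
  rw [← Units.val_mul, mul_inv_cancel, Units.val_one] at h2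
  have := congrFun (congrFun h2 ⟨0, hd⟩) ⟨0, hd⟩
  simpa using this

theorem part1 {F : Type*} [Field F] [Fintype F] (d : ℕ) (hd : 1 ≤ d)
    (g : GL (Fin d) F ⧸ Subgroup.center (GL (Fin d) F)) :
    (Fintype.card F - 1) * orderOf g ≤ Fintype.card F ^ d - 1 := by
  classical
  obtain ⟨A, rfl⟩ := QuotientGroup.mk_surjective g
  set n := orderOf (QuotientGroup.mk A : GL (Fin d) F ⧸ Subgroup.center (GL (Fin d) F)) with hn
  set M : Matrix (Fin d) (Fin d) F := (A : Matrix (Fin d) (Fin d) F) with hM
  let f := Fintype.linearCombination F (fun i : Fin d => M ^ (i : ℕ))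
  let T := LinearMap.range f
  have hT : Nat.card T ≤ Fintype.card F ^ d := by
    have := Nat.card_le_card_of_surjective f.rangeRestrict f.surjective_rangeRestrict
    have h2 : Nat.card (Fin d → F) = Fintype.card F ^ d := by simp
    rwa [h2] at this
  let ψ : Option (Fˣ × Fin n) → T := fun o => match o with
    | none => 0
    | some (c, k) => ⟨(c : F) • M ^ (k : ℕ), T.smul_mem _ (pow_mem_span hd _ _)⟩
  have hψ : Function.Injective ψ := by
    rintro (_ | ⟨c, j⟩) (_ | ⟨c', k⟩) h
    · rfl
    · exfalso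
      have h1 : (c' : F) • M ^ (k : ℕ) = 0 := by
        have := congrArg Subtype.val h
        exact this.symm
      rw [hM, ← Units.val_pow_eq_pow_val] at h1
      exact c'.ne_zero (smul_unit_eq_zero hd _ _ h1)
    · exfalso
      have h1 : (c : F) • M ^ (j : ℕ) = 0 := by
        have := congrArg Subtype.val h
        exact this
      rw [hM, ← Units.val_pow_eq_pow_val] at h1
      exact c.ne_zero (smul_unit_eq_zero hd _ _ h1)
    · have h1 : (c : F) • M ^ (j : ℕ) = (c' : F) • M ^ (k : ℕ) :=
        congrArg Subtype.val h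
      have h2 : Matrix.GeneralLinearGroup.scalar (Fin d) c * A ^ (j : ℕ)
          = Matrix.GeneralLinearGroup.scalar (Fin d) c' * A ^ (k : ℕ) := by
        apply Units.ext
        simp only [Units.val_mul, Units.val_pow_eq_pow_val]
        simpa [Matrix.GeneralLinearGroup.scalar, Matrix.smul_eq_diagonal_mul] using h1
      have hc : ∀ u : Fˣ, (QuotientGroup.mk (Matrix.GeneralLinearGroup.scalar (Fin d) u) :
          GL (Fin d) F ⧸ Subgroup.center (GL (Fin d) F)) = 1 := by
        intro u
        rw [QuotientGroup.eq_one_iff, Matrix.GeneralLinearGroup.center_eq_range_scalar]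
        exact ⟨u, rfl⟩
      have h3 := congrArg (QuotientGroup.mk : GL (Fin d) F → GL (Fin d) F ⧸ Subgroup.center (GL (Fin d) F)) h2
      rw [QuotientGroup.mk_mul, QuotientGroup.mk_mul, hc, hc, one_mul, one_mul, QuotientGroup.mk_pow,
        QuotientGroup.mk_pow] at h3
      have hjk : (j : ℕ) = k := pow_injOn_Iio_orderOf (Set.mem_Iio.2 j.2) (Set.mem_Iio.2 k.2) h3
      have hjk' : j = k := Fin.ext hjk
      subst hjk'
      have h4 : ((c : F) - c') • M ^ (j : ℕ) = 0 := by rw [sub_smul, h1, sub_self]
      rw [hM, ← Units.val_pow_eq_pow_val] at h4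
      have h5 := smul_unit_eq_zero hd _ _ h4
      have h6 : c = c' := Units.ext (sub_eq_zero.1 h5)
      rw [h6]
  have h5 := Nat.card_le_card_of_injective ψ hψ
  have h6 : Nat.card (Option (Fˣ × Fin n)) = (Fintype.card F - 1) * n + 1 := by
    simp [Nat.card_eq_fintype_card, Fintype.card_units]
  have h7 : 0 < Fintype.card F ^ d := pow_pos Fintype.card_pos d
  omega

theorem part2 {F : Type*} [Field F] [Fintype F] (d : ℕ) (hd : 1 ≤ d) :
    ∃ g : (GL (Fin d) F ⧸ Subgroup.center (GL (Fin d) F)),
      (Fintype.card F - 1) * orderOf g = Fintype.card F ^ d - 1 := by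
  classical
  obtain ⟨p, hp⟩ := CharP.exists F
  have : Fact p.Prime := ⟨CharP.char_is_prime F p⟩
  have : NeZero d := ⟨by omega⟩
  let L := FiniteField.Extension F p d
  have hfr : Module.finrank F L = d := FiniteField.finrank_extension F p d
  have hcard : Nat.card L = Fintype.card F ^ d := by
    rw [FiniteField.natCard_extension, Nat.card_eq_fintype_card]
  let b : Module.Basis (Fin d) F L := Module.finBasisOfFinrankEq F L hfr
  let φ : L →ₐ[F] Matrix (Fin d) (Fin d) F := Algebra.leftMulMatrix b
  have hφ : Function.Injective φ := Algebra.leftMulMatrix_injective b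
  have : Fintype L := Fintype.ofFinite L
  obtain ⟨ζ, hζ⟩ := IsCyclic.exists_generator (α := Lˣ)
  have hord : orderOf ζ = Fintype.card F ^ d - 1 := by
    rw [orderOf_eq_card_of_forall_mem_zpowers hζ, Nat.card_units, hcard]
  let A : GL (Fin d) F := Units.map (φ : L →* Matrix (Fin d) (Fin d) F) ζ
  refine ⟨QuotientGroup.mk A, le_antisymm (part1 d hd _) ?_⟩
  set m := orderOf (QuotientGroup.mk A : GL (Fin d) F ⧸ Subgroup.center (GL (Fin d) F)) with hm
  have hmpos : 0 < m := orderOf_pos _
  have h1 : (QuotientGroup.mk A : GL (Fin d) F ⧸ Subgroup.center (GL (Fin d) F)) ^ m = 1 :=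
    pow_orderOf_eq_one _
  rw [← QuotientGroup.mk_pow, QuotientGroup.eq_one_iff,
    Matrix.GeneralLinearGroup.center_eq_range_scalar] at h1
  obtain ⟨c, hc⟩ := h1
  have h2 : φ (algebraMap F L c) = φ ((ζ : L) ^ m) := by
    have := congrArg Units.val hc
    rw [map_pow, AlgHom.commutes]
    simpa [A, Matrix.GeneralLinearGroup.scalar, Matrix.algebraMap_eq_diagonal, Pi.algebraMap_def] using this
  have h3 : algebraMap F L c = (ζ : L) ^ m := hφ h2
  have h4 : (ζ : L) ^ (m * (Fintype.card F - 1)) = 1 := by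
    rw [pow_mul, ← h3, ← map_pow, FiniteField.pow_card_sub_one_eq_one _ c.ne_zero, map_one]
  have h5 : ζ ^ (m * (Fintype.card F - 1)) = 1 := Units.ext (by simpa using h4)
  have h6 := orderOf_dvd_of_pow_eq_one h5
  rw [hord] at h6
  have h7 : 0 < m * (Fintype.card F - 1) :=
    Nat.mul_pos hmpos (by have := Fintype.one_lt_card (α := F); omega)
  have := Nat.le_of_dvd h7 h6
  rw [mul_comm]; exact this

/-- Let F be a finite field with q elements and d ≥ 1. Then every element of PGL_d(F) = GL_d(F)/Z has order at most (q^d − 1)/(q − 1), and some element (the image of a Singer cycle) has exactly this order. -/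
theorem result {F : Type*} [Field F] [Fintype F] (d : ℕ) (hd : 1 ≤ d) :
    (∀ g : (GL (Fin d) F ⧸ Subgroup.center (GL (Fin d) F)), (Fintype.card F - 1) * orderOf g ≤ Fintype.card F ^ d - 1) ∧
    (∃ g : (GL (Fin d) F ⧸ Subgroup.center (GL (Fin d) F)), (Fintype.card F - 1) * orderOf g = Fintype.card F ^ d - 1) := by
  exact ⟨part1 d hd, part2 d hd⟩

end Cfsg.Agent.S2261
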