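import Cfsg.Statements.S0749
import Mathlib

set_option autoImplicit false
open Cfsg

namespace Cfsg.Agent.S0749

section
variable {F V : Type*} [Field F] [AddCommGroup V] [Module F V] (B : LinearMap.BilinForm F V)

/-- the transvection `v ↦ v + c B(v,w) w` as a linear map -/
def tvLin (w : V) (c : F) : V →ₗ[F] V :=
  LinearMap.id + (c • B.flip w).smulRight w

theorem tvLin_apply (w : V) (c : F) (v : V) : tvLin B w c v = v + (c * B v w) • w := by
  simp [tvLin, LinearMap.smulRight_apply, LinearMap.BilinForm.flip_apply]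

variable {B}

theorem tvLin_comp (hA : B.IsAlt) (w : V) (c d : F) :
    (tvLin B w c).comp (tvLin B w d) = tvLin B w (c + d) := by
  ext v
  rw [LinearMap.comp_apply, tvLin_apply, tvLin_apply, tvLin_apply]
  rw [map_add, LinearMap.add_apply, map_smul, LinearMap.smul_apply, hA w, smul_zero, add_zero,
    add_assoc, ← add_smul]
  congr 2
  ring

theorem tvLin_zero (w : V) : tvLin B w 0 = LinearMap.id := by
  ext v; simp [tvLin_apply]

/-- transvection as a linear equivalence -/
def tv (hA : B.IsAlt) (w : V) (c : F) : V ≃ₗ[F] V :=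
  LinearEquiv.ofLinear (tvLin B w c) (tvLin B w (-c))
    (by rw [tvLin_comp hA, add_neg_cancel, tvLin_zero])
    (by rw [tvLin_comp hA, neg_add_cancel, tvLin_zero])

theorem tv_apply (hA : B.IsAlt) (w : V) (c : F) (v : V) :
    tv hA w c v = v + (c * B v w) • w := tvLin_apply B w c v

theorem tv_isometry (hA : B.IsAlt) (w : V) (c : F) (u v : V) :
    B (tv hA w c u) (tv hA w c v) = B u v := by
  rw [tv_apply, tv_apply]
  simp only [map_add, map_smul, LinearMap.add_apply, LinearMap.smul_apply, hA w, smul_eq_mul,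
    mul_zero, add_zero]
  rw [← hA.neg_eq v w]
  ring

/-- key lemma: moving `x` to `y` fixing `X₀` pointwise -/
theorem key [FiniteDimensional F V] (hB : B.Nondegenerate) (hA : B.IsAlt) (X₀ : Submodule F V)
    (x y : V) (hx : x ∉ X₀) (hy : y ∉ X₀) (hxy : ∀ z ∈ X₀, B (y - x) z = 0) :
    ∃ t : V ≃ₗ[F] V, (∀ u v, B (t u) (t v) = B u v) ∧ (∀ z ∈ X₀, t z = z) ∧ t x = y := by
  -- one-step lemma
  have step : ∀ a b : V, B a b ≠ 0 → (∀ z ∈ X₀, B (b - a) z = 0) →
      ∃ t : V ≃ₗ[F] V, (∀ u v, B (t u) (t v) = B u v) ∧ (∀ z ∈ X₀, t z = z) ∧ t a = b := by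
    intro a b hab hperp
    refine ⟨tv hA (b - a) (B a b)⁻¹, tv_isometry hA _ _, ?_, ?_⟩
    · intro z hz
      rw [tv_apply, ← hA.neg_eq (b - a) z, hperp z hz, neg_zero, mul_zero, zero_smul, add_zero]
    · rw [tv_apply, map_sub, hA a, sub_zero, inv_mul_cancel₀ hab, one_smul]
      abel
  by_cases h0 : B x y ≠ 0
  · exact step x y h0 hxy
  push Not at h0
  -- find w ⊥ X₀ with B x w ≠ 0 and B y w ≠ 0
  have hperp : ∀ a : V, a ∉ X₀ → ∃ w ∈ B.orthogonal X₀, B w a ≠ 0 := by
    intro a ha
    by_contra hcon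
    push Not at hcon
    apply ha
    rw [← LinearMap.BilinForm.orthogonal_orthogonal hB hA.isRefl X₀]
    rw [LinearMap.BilinForm.mem_orthogonal_iff]
    exact hcon
  obtain ⟨w₁, hw₁, hw₁x⟩ := hperp x hx
  obtain ⟨w₂, hw₂, hw₂y⟩ := hperp y hy
  have : ∃ w ∈ B.orthogonal X₀, B w x ≠ 0 ∧ B w y ≠ 0 := by
    by_cases h1 : B w₁ y ≠ 0
    · exact ⟨w₁, hw₁, hw₁x, h1⟩
    push Not at h1
    by_cases h2 : B w₂ x ≠ 0
    · exact ⟨w₂, hw₂, h2, hw₂y⟩
    push Not at h2
    refine ⟨w₁ + w₂, Submodule.add_mem _ hw₁ hw₂, ?_, ?_⟩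
    · rw [map_add, LinearMap.add_apply, h2, add_zero]; exact hw₁x
    · rw [map_add, LinearMap.add_apply, h1, zero_add]; exact hw₂y
  obtain ⟨w, hw, hwx, hwy⟩ := this
  rw [LinearMap.BilinForm.mem_orthogonal_iff] at hw
  have hw' : ∀ z ∈ X₀, B w z = 0 := by
    intro z hz
    rw [← neg_eq_zero, hA.neg_eq, hw z hz]
  -- x → x + w → y
  have h1 : B x (x + w) ≠ 0 := by
    rw [map_add, hA x, zero_add, ← hA.neg_eq]
    exact neg_ne_zero.mpr hwx
  have h2 : B (x + w) y ≠ 0 := by
    rw [map_add, LinearMap.add_apply, h0, zero_add]; exact hwy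
  obtain ⟨t₁, ht₁iso, ht₁fix, ht₁x⟩ := step x (x + w) h1 (by
    intro z hz
    rw [add_sub_cancel_left]; exact hw' z hz)
  obtain ⟨t₂, ht₂iso, ht₂fix, ht₂x⟩ := step (x + w) y h2 (by
    intro z hz
    have : y - (x + w) = (y - x) - w := by abel
    rw [this, map_sub, LinearMap.sub_apply, hxy z hz, hw' z hz, sub_zero])
  refine ⟨t₁.trans t₂, ?_, ?_, ?_⟩
  · intro u v
    simp only [LinearEquiv.trans_apply]
    rw [ht₂iso, ht₁iso]
  · intro z hz
    simp only [LinearEquiv.trans_apply]
    rw [ht₁fix z hz, ht₂fix z hz]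
  · simp only [LinearEquiv.trans_apply]
    rw [ht₁x, ht₂x]

/-- Witt for linearly independent families -/
theorem witt_family [FiniteDimensional F V] (hB : B.Nondegenerate) (hA : B.IsAlt) (n : ℕ) :
    ∀ (x y : Fin n → V), LinearIndependent F x → LinearIndependent F y →
      (∀ i j, B (y i) (y j) = B (x i) (x j)) →
      ∃ g : V ≃ₗ[F] V, (∀ u v, B (g u) (g v) = B u v) ∧ ∀ i, g (x i) = y i := by
  induction n with
  | zero =>
    intro x y _ _ _
    exact ⟨LinearEquiv.refl F V, fun u v => rfl, fun i => i.elim0⟩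
  | succ n ih =>
    intro x y hx hy hxy
    have hx' : LinearIndependent F (Fin.init x) := hx.comp _ (Fin.castSucc_injective n)
    have hy' : LinearIndependent F (Fin.init y) := hy.comp _ (Fin.castSucc_injective n)
    obtain ⟨g₀, hg₀iso, hg₀⟩ := ih (Fin.init x) (Fin.init y) hx' hy'
      (fun i j => hxy (Fin.castSucc i) (Fin.castSucc j))
    set X₀ : Submodule F V := Submodule.span F (Set.range (Fin.init x)) with hX₀
    set x₁ : V := x (Fin.last n) with hx₁
    set y₁ : V := g₀.symm (y (Fin.last n)) with hy₁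
    have hx₁X₀ : x₁ ∉ X₀ := by
      have := hx
      rw [← Fin.snoc_init_self x, linearIndependent_finSnoc] at this
      exact this.2
    have hg₀X₀ : ∀ z ∈ X₀, g₀ z ∈ Submodule.span F (Set.range (Fin.init y)) := by
      intro z hz
      have : X₀ ≤ (Submodule.span F (Set.range (Fin.init y))).comap (g₀ : V →ₗ[F] V) := by
        rw [hX₀, Submodule.span_le]
        rintro _ ⟨i, rfl⟩
        show g₀ (Fin.init x i) ∈ Submodule.span F (Set.range (Fin.init y))
        rw [hg₀ i]
        exact Submodule.subset_span ⟨i, rfl⟩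
      exact this hz
    have hy₁X₀ : y₁ ∉ X₀ := by
      intro hcon
      have h1 := hg₀X₀ y₁ hcon
      rw [hy₁, LinearEquiv.apply_symm_apply] at h1
      have := hy
      rw [← Fin.snoc_init_self y, linearIndependent_finSnoc] at this
      exact this.2 h1
    have hperp : ∀ z ∈ X₀, B (y₁ - x₁) z = 0 := by
      have : X₀ ≤ LinearMap.ker (B (y₁ - x₁)) := by
        rw [hX₀, Submodule.span_le]
        rintro _ ⟨i, rfl⟩
        rw [SetLike.mem_coe, LinearMap.mem_ker, map_sub, LinearMap.sub_apply, sub_eq_zero]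
        -- B (g₀⁻¹ y_last) (x i) = B (y_last) (g₀ x_i) = B y_last y_i = B x_last x_i
        have h1 : B y₁ (Fin.init x i) = B (g₀ y₁) (g₀ (Fin.init x i)) := (hg₀iso _ _).symm
        rw [h1, hy₁, LinearEquiv.apply_symm_apply, hg₀ i]
        exact hxy (Fin.last n) (Fin.castSucc i)
      intro z hz
      exact this hz
    obtain ⟨t, htiso, htfix, htx⟩ := key hB hA X₀ x₁ y₁ hx₁X₀ hy₁X₀ hperp
    refine ⟨t.trans g₀, ?_, ?_⟩
    · intro u v
      simp only [LinearEquiv.trans_apply]
      rw [hg₀iso, htiso]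
    · intro i
      simp only [LinearEquiv.trans_apply]
      refine Fin.lastCases ?_ (fun i => ?_) i
      · rw [← hx₁, htx, hy₁, LinearEquiv.apply_symm_apply]
      · have : x (Fin.castSucc i) ∈ X₀ := Submodule.subset_span ⟨i, rfl⟩
        rw [htfix _ this]
        exact hg₀ i

end

/-- Witt's Lemma for alternating forms. If B is a non-degenerate alternating bilinear form on a finite-dimensional vector space V (over any field) and φ is a linear equivalence between subspaces X and Y of V preserving B, then φ extends to a B-preserving linear automorphism of V. -/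
theorem result {F V : Type*} [Field F] [AddCommGroup V] [Module F V] [FiniteDimensional F V] (B : LinearMap.BilinForm F V) (hB : B.Nondegenerate) (hA : B.IsAlt) (X Y : Submodule F V) (φ : X ≃ₗ[F] Y) (hφ : ∀ x x' : X, B (φ x : V) (φ x' : V) = B (x : V) (x' : V)) : ∃ g : V ≃ₗ[F] V, (∀ u v : V, B (g u) (g v) = B u v) ∧ ∀ x : X, g (x : V) = (φ x : V) := by
  let bX := Module.finBasis F X
  have hx : LinearIndependent F (fun i => (bX i : V)) :=
    bX.linearIndependent.map' X.subtype (Submodule.ker_subtype X)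
  have hy : LinearIndependent F (fun i => (φ (bX i) : V)) := by
    have h1 : LinearIndependent F (fun i => φ (bX i)) :=
      bX.linearIndependent.map' (φ : X →ₗ[F] Y) φ.ker
    exact h1.map' Y.subtype (Submodule.ker_subtype Y)
  obtain ⟨g, hgiso, hg⟩ := witt_family hB hA _ _ _ hx hy (fun i j => hφ (bX i) (bX j))
  refine ⟨g, hgiso, ?_⟩
  have : (g : V →ₗ[F] V).comp X.subtype = Y.subtype.comp (φ : X →ₗ[F] Y) := by
    apply bX.ext
    intro i
    exact hg i
  intro x
  exact congrArg (fun f : X →ₗ[F] V => f x) this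

end Cfsg.Agent.S0749
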