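import Cfsg.Statements.S0768
import Cfsg.Agent.Lib.H4.Symp
import Cfsg.Agent.S0749
-- import your own Cfsg.Agent.* helpers here

set_option autoImplicit false
open scoped LinearAlgebra.Projectivization
open Cfsg

namespace Cfsg.Agent.S0768

open Matrix
open scoped LinearAlgebra.Projectivization MatrixGroups Pointwise

variable {F : Type*} [Field F] {m : ℕ}

/-- the bilinear form -/
noncomputable def B₀ (F : Type*) [Field F] (m : ℕ) : LinearMap.BilinForm F (Fin m ⊕ Fin m → F) :=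
  Matrix.toBilin' (J (Fin m) F)

theorem B₀_apply (u v : Fin m ⊕ Fin m → F) : B₀ F m u v = Cfsg.sympForm m F u v := by
  rw [B₀, Matrix.toBilin'_apply']; rfl

theorem B₀_alt : (B₀ F m).IsAlt := fun x => by
  rw [B₀_apply]; exact Cfsg.Agent.Lib.H4.sympForm_self m x

theorem B₀_nondeg : (B₀ F m).Nondegenerate := by
  rw [B₀]
  exact Matrix.Nondegenerate.toBilin'
    (Matrix.nondegenerate_of_det_ne_zero (isUnit_det_J (Fin m) F).ne_zero)

/-- GL element of a linear equivalence -/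
noncomputable def glOfEquiv {ι : Type} [Fintype ι] [DecidableEq ι] (e : (ι → F) ≃ₗ[F] (ι → F)) :
    GL ι F :=
  ⟨LinearMap.toMatrix' (e : (ι → F) →ₗ[F] (ι → F)),
    LinearMap.toMatrix' (e.symm : (ι → F) →ₗ[F] (ι → F)),
    by rw [← LinearMap.toMatrix'_comp]; simp,
    by rw [← LinearMap.toMatrix'_comp]; simp⟩

theorem glOfEquiv_smul {ι : Type} [Fintype ι] [DecidableEq ι] (e : (ι → F) ≃ₗ[F] (ι → F))
    (v : ι → F) : glOfEquiv e • v = e v := by
  show (LinearMap.toMatrix' (e : (ι → F) →ₗ[F] (ι → F))) *ᵥ v = e v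
  rw [LinearMap.toMatrix'_mulVec]; rfl

theorem glOfEquiv_mem (e : (Fin m ⊕ Fin m → F) ≃ₗ[F] (Fin m ⊕ Fin m → F))
    (he : ∀ u v, B₀ F m (e u) (e v) = B₀ F m u v) : glOfEquiv e ∈ Cfsg.spGL m F := by
  intro u v
  have h1 : ∀ w, (Cfsg.glToMat (Fin m ⊕ Fin m) F) (glOfEquiv e) *ᵥ w = e w :=
    fun w => glOfEquiv_smul e w
  rw [h1, h1, ← B₀_apply, ← B₀_apply, he]

/-- transitivity on nonzero vectors -/
theorem exists_map (x y : Fin m ⊕ Fin m → F) (hx : x ≠ 0) (hy : y ≠ 0) :
    ∃ g : ↥(Cfsg.spGL m F), (g : GL (Fin m ⊕ Fin m) F) • x = y := by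
  have hx' : LinearIndependent F ![x] := by
    rw [linearIndependent_unique_iff]
    exact hx
  have hy' : LinearIndependent F ![y] := by
    rw [linearIndependent_unique_iff]
    exact hy
  obtain ⟨e, he, hexy⟩ := Cfsg.Agent.S0749.witt_family B₀_nondeg B₀_alt 1 ![x] ![y] hx' hy'
    (fun i j => by
      have hi : i = 0 := Subsingleton.elim _ _
      have hj : j = 0 := Subsingleton.elim _ _
      subst hi; subst hj
      simp [B₀_alt x, B₀_alt y])
  refine ⟨⟨glOfEquiv e, glOfEquiv_mem e he⟩, ?_⟩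
  rw [glOfEquiv_smul]
  exact hexy 0

/-- W1: fix `x`, move `y` to `y'` -/
theorem exists_fix_map (x y y' : Fin m ⊕ Fin m → F) (hxy : LinearIndependent F ![x, y])
    (hxy' : LinearIndependent F ![x, y']) (hf : B₀ F m x y = B₀ F m x y') :
    ∃ g : ↥(Cfsg.spGL m F), (g : GL (Fin m ⊕ Fin m) F) • x = x ∧
      (g : GL (Fin m ⊕ Fin m) F) • y = y' := by
  obtain ⟨e, he, hexy⟩ := Cfsg.Agent.S0749.witt_family B₀_nondeg B₀_alt 2 ![x, y] ![x, y']
    hxy hxy' (fun i j => by
      fin_cases i <;> fin_cases j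
      · simp
      · simpa using hf.symm
      · simp only [Fin.mk_one, Fin.zero_eta, Matrix.cons_val_one, Matrix.cons_val_zero]
        rw [← B₀_alt.neg_eq x y', ← B₀_alt.neg_eq x y, hf]
      · simp [B₀_alt y, B₀_alt y'])
  refine ⟨⟨glOfEquiv e, glOfEquiv_mem e he⟩, ?_, ?_⟩
  · rw [glOfEquiv_smul]
    exact hexy 0
  · rw [glOfEquiv_smul]
    exact hexy 1

theorem smul_mk' (g : ↥(Cfsg.spGL m F)) (v : Fin m ⊕ Fin m → F) (hv : v ≠ 0)
    (hgv : (g : GL (Fin m ⊕ Fin m) F) • v ≠ 0) :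
    g • Projectivization.mk F v hv =
      Projectivization.mk F ((g : GL (Fin m ⊕ Fin m) F) • v) hgv := by
  show (g : GL (Fin m ⊕ Fin m) F) • Projectivization.mk F v hv = _
  rw [Projectivization.smul_mk]

theorem li_of_B (x y : Fin m ⊕ Fin m → F) (h : B₀ F m x y ≠ 0) :
    LinearIndependent F ![x, y] := by
  have hx : x ≠ 0 := by
    rintro rfl
    simp at h
  rw [LinearIndependent.pair_iff' hx]
  intro a ha
  apply h
  rw [← ha, map_smul, B₀_alt x, smul_zero]

theorem li_of_ne (x y : Fin m ⊕ Fin m → F) (hx : x ≠ 0) (hy : y ≠ 0)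
    (h : Projectivization.mk F x hx ≠ Projectivization.mk F y hy) :
    LinearIndependent F ![x, y] := by
  rw [LinearIndependent.pair_iff' hx]
  intro a ha
  apply h
  rw [eq_comm, Projectivization.mk_eq_mk_iff']
  exact ⟨a, ha⟩

theorem claimA {Δ : Set (ℙ F (Fin m ⊕ Fin m → F))}
    (hΔ : MulAction.IsBlock ↥(Cfsg.spGL m F) Δ) (x y y' : Fin m ⊕ Fin m → F)
    (hx : x ≠ 0) (hy : y ≠ 0) (hy' : y' ≠ 0)
    (hxΔ : Projectivization.mk F x hx ∈ Δ) (hyΔ : Projectivization.mk F y hy ∈ Δ)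
    (hxy : B₀ F m x y ≠ 0) (hxy' : B₀ F m x y' ≠ 0) : Projectivization.mk F y' hy' ∈ Δ := by
  obtain ⟨c, hc⟩ : ∃ c, c = B₀ F m x y / B₀ F m x y' := ⟨_, rfl⟩
  have hc0 : c ≠ 0 := by rw [hc]; exact div_ne_zero hxy hxy'
  have hcy' : c • y' ≠ 0 := smul_ne_zero hc0 hy'
  have hmk : Projectivization.mk F y' hy' = Projectivization.mk F (c • y') hcy' := by
    rw [Projectivization.mk_eq_mk_iff']
    exact ⟨c⁻¹, by rw [smul_smul, inv_mul_cancel₀ hc0, one_smul]⟩
  have hB : B₀ F m x y = B₀ F m x (c • y') := by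
    rw [map_smul, smul_eq_mul, hc, div_mul_cancel₀ _ hxy']
  have hB' : B₀ F m x (c • y') ≠ 0 := by rw [← hB]; exact hxy
  obtain ⟨g, hgx, hgy⟩ := exists_fix_map x y (c • y') (li_of_B x y hxy) (li_of_B x _ hB') hB
  have h1 : g • Projectivization.mk F x hx = Projectivization.mk F x hx := by
    rw [smul_mk' g x hx (by rw [hgx]; exact hx)]
    congr 1
  have h2 : g • Δ = Δ := hΔ.smul_eq_of_mem hxΔ (by rw [h1]; exact hxΔ)
  rw [hmk, ← h2]
  refine ⟨Projectivization.mk F y hy, hyΔ, ?_⟩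
  show g • Projectivization.mk F y hy = _
  rw [smul_mk' g y hy (by rw [hgy]; exact hcy')]
  congr 1

theorem claimB {Δ : Set (ℙ F (Fin m ⊕ Fin m → F))}
    (hΔ : MulAction.IsBlock ↥(Cfsg.spGL m F) Δ) (x y y' : Fin m ⊕ Fin m → F)
    (hx : x ≠ 0) (hy : y ≠ 0) (hy' : y' ≠ 0)
    (hxΔ : Projectivization.mk F x hx ∈ Δ) (hyΔ : Projectivization.mk F y hy ∈ Δ)
    (hne : Projectivization.mk F x hx ≠ Projectivization.mk F y hy)
    (hne' : Projectivization.mk F x hx ≠ Projectivization.mk F y' hy')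
    (hxy : B₀ F m x y = 0) (hxy' : B₀ F m x y' = 0) : Projectivization.mk F y' hy' ∈ Δ := by
  obtain ⟨g, hgx, hgy⟩ := exists_fix_map x y y' (li_of_ne x y hx hy hne)
    (li_of_ne x y' hx hy' hne') (by rw [hxy, hxy'])
  have h1 : g • Projectivization.mk F x hx = Projectivization.mk F x hx := by
    rw [smul_mk' g x hx (by rw [hgx]; exact hx)]
    congr 1
  have h2 : g • Δ = Δ := hΔ.smul_eq_of_mem hxΔ (by rw [h1]; exact hxΔ)
  rw [← h2]
  refine ⟨Projectivization.mk F y hy, hyΔ, ?_⟩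
  show g • Projectivization.mk F y hy = _
  rw [smul_mk' g y hy (by rw [hgy]; exact hy')]
  congr 1

theorem B₀_swap_ne (x y : Fin m ⊕ Fin m → F) (h : B₀ F m x y ≠ 0) : B₀ F m y x ≠ 0 := by
  rw [← B₀_alt.neg_eq x y]; exact neg_ne_zero.2 h

theorem B₀_swap_eq (x y : Fin m ⊕ Fin m → F) (h : B₀ F m x y = 0) : B₀ F m y x = 0 := by
  rw [← B₀_alt.neg_eq x y, h, neg_zero]

theorem exists_nonorth (x : Fin m ⊕ Fin m → F) (hx : x ≠ 0) : ∃ u, B₀ F m x u ≠ 0 := by
  by_contra hcon
  push Not at hcon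
  exact hx (B₀_nondeg.1 x hcon)

theorem exists_nonorth₂ (x w : Fin m ⊕ Fin m → F) (hx : x ≠ 0) (hw : w ≠ 0) :
    ∃ u, B₀ F m x u ≠ 0 ∧ B₀ F m w u ≠ 0 := by
  obtain ⟨u₁, hu₁⟩ := exists_nonorth x hx
  obtain ⟨u₂, hu₂⟩ := exists_nonorth w hw
  by_cases h1 : B₀ F m w u₁ ≠ 0
  · exact ⟨u₁, hu₁, h1⟩
  rw [not_not] at h1
  by_cases h2 : B₀ F m x u₂ ≠ 0
  · exact ⟨u₂, h2, hu₂⟩
  rw [not_not] at h2
  refine ⟨u₁ + u₂, ?_, ?_⟩
  · rw [map_add, h2, add_zero]; exact hu₁
  · rw [map_add, h1, zero_add]; exact hu₂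

/-- Primitivity: for m ≥ 1 and F finite, the symplectic group of the form sympForm (as a subgroup of the general linear group) acts primitively on the projective space of F^(2m). -/
theorem result {F : Type*} [Field F] [Finite F] (m : ℕ) (hm : 1 ≤ m) : MulAction.IsPreprimitive ↥(Cfsg.spGL m F) (ℙ F (Fin m ⊕ Fin m → F)) := by
  have htrans : MulAction.IsPretransitive ↥(Cfsg.spGL m F) (ℙ F (Fin m ⊕ Fin m → F)) := by
    refine ⟨fun p q => ?_⟩
    induction p using Projectivization.ind with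
    | h x hx =>
      induction q using Projectivization.ind with
      | h y hy =>
        obtain ⟨g, hg⟩ := exists_map x y hx hy
        refine ⟨g, ?_⟩
        rw [smul_mk' g x hx (by rw [hg]; exact hy)]
        congr 1
  refine { htrans with isTrivialBlock_of_isBlock := ?_ }
  intro Δ hΔ
  by_cases hs : Δ.Subsingleton
  · exact Or.inl hs
  right
  rw [Set.not_subsingleton_iff] at hs
  obtain ⟨p, hp, p', hp', hne⟩ := hs
  induction p using Projectivization.ind with
  | h x hx =>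
  induction p' using Projectivization.ind with
  | h y hy =>
  rw [Set.eq_univ_iff_forall]
  intro r
  induction r using Projectivization.ind with
  | h w hw =>
  by_cases hxy : B₀ F m x y ≠ 0
  · by_cases hxw : B₀ F m x w ≠ 0
    · exact claimA hΔ x y w hx hy hw hp hp' hxy hxw
    · rw [not_not] at hxw
      obtain ⟨u, hxu, hwu⟩ := exists_nonorth₂ x w hx hw
      have hu : u ≠ 0 := by
        rintro rfl
        simp at hxu
      have huΔ : Projectivization.mk F u hu ∈ Δ := claimA hΔ x y u hx hy hu hp hp' hxy hxu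
      exact claimA hΔ u x w hu hx hw huΔ hp (B₀_swap_ne x u hxu) (B₀_swap_ne w u hwu)
  · rw [not_not] at hxy
    by_cases hxw : B₀ F m x w = 0
    · by_cases hxw' : Projectivization.mk F x hx = Projectivization.mk F w hw
      · rw [← hxw']; exact hp
      · exact claimB hΔ x y w hx hy hw hp hp' hne hxw' hxy hxw
    · have hwx : B₀ F m w x ≠ 0 := B₀_swap_ne x w hxw
      obtain ⟨z, hzdef⟩ : ∃ z, z = y - (B₀ F m w y / B₀ F m w x) • x := ⟨_, rfl⟩
      have hli := li_of_ne x y hx hy hne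
      rw [LinearIndependent.pair_iff' hx] at hli
      have hz : z ≠ 0 := by
        intro h
        rw [hzdef, sub_eq_zero] at h
        exact hli _ h.symm
      have hxz : B₀ F m x z = 0 := by
        rw [hzdef, map_sub, map_smul, hxy, B₀_alt x]
        simp
      have hwz : B₀ F m w z = 0 := by
        rw [hzdef, map_sub, map_smul, smul_eq_mul, div_mul_cancel₀ _ hwx, sub_self]
      have hnez : Projectivization.mk F x hx ≠ Projectivization.mk F z hz := by
        intro h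
        rw [eq_comm, Projectivization.mk_eq_mk_iff'] at h
        obtain ⟨a, ha⟩ := h
        have ha0 : a ≠ 0 := by
          rintro rfl
          rw [zero_smul] at ha
          exact hz ha.symm
        rw [← ha, map_smul, smul_eq_mul] at hwz
        exact (mul_ne_zero ha0 hwx) hwz
      have hzΔ : Projectivization.mk F z hz ∈ Δ :=
        claimB hΔ x y z hx hy hz hp hp' hne hnez hxy hxz
      have hnezw : Projectivization.mk F z hz ≠ Projectivization.mk F w hw := by
        intro h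
        rw [eq_comm, Projectivization.mk_eq_mk_iff'] at h
        obtain ⟨a, ha⟩ := h
        apply hxw
        rw [← ha, map_smul, hxz, smul_zero]
      exact claimB hΔ z x w hz hx hw hzΔ hp hnez.symm hnezw (B₀_swap_eq x z hxz)
        (B₀_swap_eq w z hwz)

end Cfsg.Agent.S0768
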