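import Cfsg.Statements.S0142
import Cfsg.Agent.Lib.H23.CentralChar
import Cfsg.Agent.Lib.H23.CharGalois

set_option autoImplicit false
open Cfsg

namespace Cfsg.Agent.S0142

/-- If the degree of an irreducible complex character is coprime to the size of a conjugacy class, the character either vanishes on that class or has absolute value equal to its degree there. -/
theorem result {G : Type*} [Group G] [Finite G] {V : Type*} [AddCommGroup V] [Module ℂ V] [FiniteDimensional ℂ V] (ρ : Representation ℂ G V) [ρ.IsIrreducible] (g : G) (hcop : Nat.Coprime (Module.finrank ℂ V) (Subgroup.centralizer ({g} : Set G)).index) : ρ.character g = 0 ∨ ‖ρ.character g‖ = (Module.finrank ℂ V : ℝ) := by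
  classical
  have := Fintype.ofFinite G
  by_cases hne : ρ.character g = 0
  · exact Or.inl hne
  right
  apply Cfsg.Agent.Lib.H23.norm_char_eq_finrank_of_isIntegral_div ρ g _ hne
  have hn0 : (Module.finrank ℂ V : ℂ) ≠ 0 :=
    Nat.cast_ne_zero.mpr (Cfsg.Agent.Lib.H23.finrank_pos_of_isIrreducible ρ).ne'
  have h1 : IsIntegral ℤ (ρ.character g) := Cfsg.Agent.Lib.L0.isIntegral_char ρ g
  have h2 := Cfsg.Agent.Lib.H23.isIntegral_centralChar_rep ρ g
  rw [Representation.char_one] at h2
  -- Bezout
  have hb : IsCoprime (Module.finrank ℂ V : ℤ) ((Subgroup.centralizer ({g} : Set G)).index : ℤ) :=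
    Nat.isCoprime_iff_coprime.mpr hcop
  obtain ⟨a, b, hab⟩ := hb
  have key : ρ.character g / (Module.finrank ℂ V : ℂ) =
      (a : ℂ) * ρ.character g + (b : ℂ) *
        (((Subgroup.centralizer ({g} : Set G)).index : ℂ) * ρ.character g /
          (Module.finrank ℂ V : ℂ)) := by
    have habC : (a : ℂ) * (Module.finrank ℂ V : ℂ) +
        (b : ℂ) * ((Subgroup.centralizer ({g} : Set G)).index : ℂ) = 1 := by
      exact_mod_cast congrArg (fun z : ℤ => (z : ℂ)) hab
    have h3 : (a : ℂ) * ρ.character g + (b : ℂ) *
        (((Subgroup.centralizer ({g} : Set G)).index : ℂ) * ρ.character g /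
          (Module.finrank ℂ V : ℂ)) =
        ((a : ℂ) * (Module.finrank ℂ V : ℂ) +
          (b : ℂ) * ((Subgroup.centralizer ({g} : Set G)).index : ℂ)) * ρ.character g /
          (Module.finrank ℂ V : ℂ) := by
      rw [eq_div_iff hn0]
      have : (Module.finrank ℂ V : ℂ)⁻¹ * (Module.finrank ℂ V : ℂ) = 1 := inv_mul_cancel₀ hn0
      rw [div_eq_mul_inv]
      linear_combination ((b : ℂ) * ((Subgroup.centralizer ({g} : Set G)).index : ℂ) *
        ρ.character g) * this
    rw [h3, habC, one_mul]
  rw [key]
  exact (isIntegral_algebraMap.mul h1).add (isIntegral_algebraMap.mul h2)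

end Cfsg.Agent.S0142
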