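import Mathlib
import Cfsg.Statements.S0193
import Cfsg.Agent.Lib.H8.Clifford
import Cfsg.Agent.Lib.L0.CharBasic

set_option autoImplicit false
open Cfsg

namespace Cfsg.Agent.S0193

open scoped ComplexConjugate
open Cfsg.Agent.Lib.H8 Cfsg.Agent.Lib.L0

/-- Let H be a normal subgroup of a finite group G and θ an irreducible character of H. Then |H| times the inner product of the induced function of θ with itself equals the number of g in G with θ(g h g⁻¹) = θ(h) for all h in H; in particular the induced character is irreducible when only elements of H stabilise θ. -/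
theorem result {G : Type*} [Group G] [Fintype G] (H : Subgroup G) [hN : H.Normal] (θ : H → ℂ) (hθ : Cfsg.IsIrrCharacter H θ) : (Nat.card H : ℂ) * Cfsg.classInner (Cfsg.indFun H θ) (Cfsg.indFun H θ) = (Nat.card {g : G // ∀ h : H, θ ⟨g * h * g⁻¹, hN.conj_mem h h.2 g⟩ = θ h} : ℂ) := by
  classical
  haveI : Fintype H := Fintype.ofFinite H
  rw [Cfsg.Agent.Lib.H8.frobenius_reciprocity H θ (Cfsg.indFun H θ) (isClassFunction_indFun H θ)]
  have hres : (fun h : H => Cfsg.indFun H θ (h : G))
      = (Nat.card H : ℂ)⁻¹ • ∑ x : G, (fun h : H => θ ⟨x * h * x⁻¹, hN.conj_mem h h.2 x⟩) := by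
    funext h
    rw [indFun_coe_of_normal, Pi.smul_apply, Finset.sum_apply, smul_eq_mul]
  rw [hres, classInner_smul_right, classInner_sum_right]
  have hterm : ∀ x : G, Cfsg.classInner θ (fun h : H => θ ⟨x * h * x⁻¹, hN.conj_mem h h.2 x⟩)
      = if (∀ h : H, θ ⟨x * h * x⁻¹, hN.conj_mem h h.2 x⟩ = θ h) then 1 else 0 := by
    intro x
    rw [irr_classInner_eq hθ (isIrrCharacter_conjNormal H θ hθ x)]
    by_cases h : ∀ h : H, θ ⟨x * h * x⁻¹, hN.conj_mem h h.2 x⟩ = θ h
    · rw [if_pos h, if_pos]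
      funext y
      exact (h y).symm
    · rw [if_neg h, if_neg]
      intro h'
      exact h (fun y => (congrFun h' y).symm)
  simp only [hterm]
  rw [Finset.sum_boole, map_inv₀, Complex.conj_natCast]
  have hcard : (Finset.univ.filter
      (fun x : G => ∀ h : H, θ ⟨x * h * x⁻¹, hN.conj_mem h h.2 x⟩ = θ h)).card
      = Nat.card {g : G // ∀ h : H, θ ⟨g * h * g⁻¹, hN.conj_mem h h.2 g⟩ = θ h} := by
    rw [Nat.card_eq_fintype_card, Fintype.card_subtype]
  rw [hcard]
  have hne : (Nat.card H : ℂ) ≠ 0 := Nat.cast_ne_zero.mpr Nat.card_pos.ne'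
  field_simp

end Cfsg.Agent.S0193
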