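import Mathlib
import Cfsg.Statements.S0916
import Cfsg.Agent.Lib.H5.SylowIn

set_option autoImplicit false
open Cfsg

namespace Cfsg.Agent.S0916

open Cfsg.Agent.Lib.H5 Subgroup

variable {G : Type*} [Group G]

/-- If `P` is a Sylow `p`-subgroup of `C(g)` and `c = a g a⁻¹` centralizes `P`, then `c = n g n⁻¹`
for some `n` normalizing `P`. -/
theorem exists_normalizer_conj [Finite G] (p : ℕ) [Fact p.Prime] (P : Subgroup G) (g a : G)
    (hS : IsSylowIn p P (centralizer ({g} : Set G)))
    (hc : a * g * a⁻¹ ∈ centralizer (P : Set G)) :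
    ∃ n ∈ normalizer (P : Set G), n * g * n⁻¹ = a * g * a⁻¹ := by
  -- P' = a⁻¹ P a ≤ C(g)
  set P' := P.map (MulAut.conj a⁻¹).toMonoidHom with hP'
  have hP'le : P' ≤ centralizer ({g} : Set G) := by
    rintro _ ⟨u, hu, rfl⟩
    rw [mem_centralizer_singleton_iff]
    have h1 : u * (a * g * a⁻¹) = (a * g * a⁻¹) * u := (mem_centralizer_iff.mp hc u hu)
    simp only [MulEquiv.coe_toMonoidHom, MulAut.conj_apply, inv_inv]
    calc a⁻¹ * u * a * g = a⁻¹ * (u * (a * g * a⁻¹)) * a := by group
      _ = a⁻¹ * ((a * g * a⁻¹) * u) * a := by rw [h1]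
      _ = g * (a⁻¹ * u * a) := by group
  have hcard : Nat.card P' = Nat.card P :=
    card_map_of_injective (MulAut.conj a⁻¹).injective
  have hS' : IsSylowIn p P' (centralizer ({g} : Set G)) :=
    isSylowIn_of_card hP'le (hcard.trans hS.card_eq)
  obtain ⟨z, hz, hzP⟩ := hS.exists_conj hS'
  have hzg : z * g = g * z := mem_centralizer_singleton_iff.mp hz
  refine ⟨a * z, ?_, ?_⟩
  · rw [mem_normalizer_iff]
    intro h
    constructor
    · intro hh
      have h1 : z * h * z⁻¹ ∈ P' := by
        rw [hzP]; exact ⟨h, hh, by simp⟩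
      obtain ⟨u, hu, hu2⟩ := h1
      simp only [MulEquiv.coe_toMonoidHom, MulAut.conj_apply, inv_inv] at hu2
      have : a * z * h * (a * z)⁻¹ = u := by
        calc a * z * h * (a * z)⁻¹ = a * (z * h * z⁻¹) * a⁻¹ := by group
          _ = a * (a⁻¹ * u * a) * a⁻¹ := by rw [hu2]
          _ = u := by group
      rw [this]; exact hu
    · intro hh
      have h1 : a⁻¹ * (a * z * h * (a * z)⁻¹) * a ∈ P' := ⟨_, hh, by simp⟩
      rw [hzP] at h1
      obtain ⟨v, hv, hv2⟩ := h1
      simp only [MulEquiv.coe_toMonoidHom, MulAut.conj_apply] at hv2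
      have : v = h := by
        have h3 : z * v * z⁻¹ = z * h * z⁻¹ := by rw [hv2]; group
        have h4 := mul_right_cancel h3
        exact mul_left_cancel h4
      rw [← this]; exact hv
  · calc a * z * g * (a * z)⁻¹ = a * (z * g) * z⁻¹ * a⁻¹ := by group
      _ = a * (g * z) * z⁻¹ * a⁻¹ := by rw [hzg]
      _ = a * g * a⁻¹ := by group

/-- If `P` is a Sylow `p`-subgroup of `C(c) ⊓ N(P)` then it is a Sylow `p`-subgroup of `C(c)`. -/
theorem sylow_of_sylow_inf_normalizer [Finite G] (p : ℕ) [Fact p.Prime] (P : Subgroup G) (c : G)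
    (hS : IsSylowIn p P (centralizer ({c} : Set G) ⊓ normalizer (P : Set G))) :
    IsSylowIn p P (centralizer ({c} : Set G)) := by
  refine ⟨hS.1.trans inf_le_left, hS.2.1, ?_⟩
  intro Q hQ hPQ hQC
  by_contra hne
  have hnil : Group.IsNilpotent Q := hQ.isNilpotent
  have hnc : NormalizerCondition Q := Group.normalizerCondition_of_isNilpotent
  have hlt : P.subgroupOf Q < ⊤ := by
    rw [lt_top_iff_ne_top]
    intro h
    apply hne
    apply le_antisymm _ hPQ
    intro x hx
    have : (⟨x, hx⟩ : Q) ∈ P.subgroupOf Q := by rw [h]; trivial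
    rwa [mem_subgroupOf] at this
  have h1 := hnc _ hlt
  set R := (normalizer ((P.subgroupOf Q : Subgroup Q) : Set Q)).map Q.subtype with hR
  have hRQ : R ≤ Q := by rintro _ ⟨x, _, rfl⟩; exact x.2
  have hRp : IsPGroup p R := hQ.to_le hRQ
  have hPR : P ≤ R := by
    intro x hx
    refine ⟨⟨x, hPQ hx⟩, ?_, rfl⟩
    apply le_normalizer
    rw [mem_subgroupOf]; exact hx
  have hRN : R ≤ normalizer (P : Set G) := by
    rintro _ ⟨x, hx, rfl⟩
    rw [SetLike.mem_coe, mem_normalizer_iff] at hx
    rw [mem_normalizer_iff]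
    intro h
    constructor
    · intro hh
      have := (hx ⟨h, hPQ hh⟩).mp (by rw [mem_subgroupOf]; exact hh)
      rw [mem_subgroupOf] at this
      exact this
    · intro hh
      have hhQ : h ∈ Q := by
        have : h = (x : G)⁻¹ * ((x : G) * h * (x : G)⁻¹) * x := by group
        rw [this]
        exact Q.mul_mem (Q.mul_mem (Q.inv_mem x.2) (hPQ hh)) x.2
      have := (hx ⟨h, hhQ⟩).mpr (by rw [mem_subgroupOf]; exact hh)
      rw [mem_subgroupOf] at this
      exact this
  have hRP : R = P := hS.2.2 R hRp hPR (le_inf (hRQ.trans hQC) hRN)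
  -- then normalizer (P.subgroupOf Q) = P.subgroupOf Q, contradiction
  have h2 : normalizer ((P.subgroupOf Q : Subgroup Q) : Set Q) ≤ P.subgroupOf Q := by
    intro x hx
    rw [mem_subgroupOf, ← hRP]
    exact ⟨x, hx, rfl⟩
  exact absurd h1 (not_lt_of_ge h2)

/-- Let P be a p-subgroup of the finite group G, C its centralizer and N its normalizer. Say that a conjugacy class (of G, or of N) has defect group P when P is a Sylow p-subgroup of the centralizer (in G, respectively in N) of some element of the class. Then: (i) if the class of g in G has defect group P, the elements of that class lying in C form a single N-class, again with defect group P; (ii) every N-class with defect group P arises this way from exactly one G-class with defect group P. -/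
theorem result {G : Type*} [Group G] [Finite G] (p : ℕ) [Fact p.Prime] (P : Subgroup G) (hP : IsPGroup p P) : (∀ g : G, (∃ S : Sylow p (Subgroup.centralizer ({g} : Set G)), (S : Subgroup (Subgroup.centralizer ({g} : Set G))).map (Subgroup.centralizer ({g} : Set G)).subtype = P) → (∃ c : G, IsConj g c ∧ c ∈ Subgroup.centralizer (P : Set G)) ∧ (∀ c₁ c₂ : G, IsConj g c₁ → IsConj g c₂ → c₁ ∈ Subgroup.centralizer (P : Set G) → c₂ ∈ Subgroup.centralizer (P : Set G) → ∃ n ∈ Subgroup.normalizer (P : Set G), n * c₁ * n⁻¹ = c₂)) ∧ (∀ c : G, c ∈ Subgroup.centralizer (P : Set G) → (∃ S : Sylow p (Subgroup.centralizer ({c} : Set G) ⊓ Subgroup.normalizer (P : Set G) : Subgroup G), (S : Subgroup ↥(Subgroup.centralizer ({c} : Set G) ⊓ Subgroup.normalizer (P : Set G))).map (Subgroup.centralizer ({c} : Set G) ⊓ Subgroup.normalizer (P : Set G)).subtype = P) → ∃ S : Sylow p (Subgroup.centralizer ({c} : Set G)), (S : Subgroup (Subgroup.centralizer ({c} : Set G))).map (Subgroup.centralizer ({c} : Set G)).subtype = P) := by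
  constructor
  · intro g hg
    rw [← isSylowIn_iff] at hg
    constructor
    · refine ⟨g, IsConj.refl g, ?_⟩
      rw [mem_centralizer_iff]
      intro u hu
      have := hg.1 hu
      rw [mem_centralizer_singleton_iff] at this
      exact this
    · intro c₁ c₂ h1 h2 hc1 hc2
      obtain ⟨a, rfl⟩ := isConj_iff.mp h1
      obtain ⟨b, rfl⟩ := isConj_iff.mp h2
      obtain ⟨n₁, hn₁, e₁⟩ := exists_normalizer_conj p P g a hg hc1
      obtain ⟨n₂, hn₂, e₂⟩ := exists_normalizer_conj p P g b hg hc2
      refine ⟨n₂ * n₁⁻¹, (normalizer (P : Set G)).mul_mem hn₂ ((normalizer (P : Set G)).inv_mem hn₁), ?_⟩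
      rw [← e₁, ← e₂]
      group
  · intro c _ hc
    rw [← isSylowIn_iff] at hc ⊢
    exact sylow_of_sylow_inf_normalizer p P c hc

end Cfsg.Agent.S0916
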