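import Cfsg.Statements.S0925
import Cfsg.Agent.Lib.H23.BlockTraceGroup
import Cfsg.Agent.Lib.H23.PPart

set_option autoImplicit false
open Cfsg

namespace Cfsg.Agent.S0925

/-- (i) Let ϑ be a class function on the finite group G and x a p-element, and suppose ϑ vanishes at every element whose p-part is conjugate to x. Then for every block B (relative to a maximal ideal M of the algebraic integers containing p) the B-part of ϑ — the sum over χ ∈ B of the inner product of ϑ with χ, times χ — also vanishes at every such element. (ii) Block orthogonality, its corollary: if the p-parts of g and h are not conjugate, then the sum over χ ∈ B of χ g * χ h⁻¹ is zero for every block B. -/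
theorem result {G : Type*} [Group G] [Finite G] (p : ℕ) [Fact p.Prime] (M : Ideal Cfsg.AlgInt) (hM : Cfsg.IsPModular p M) : (∀ (ϑ : G → ℂ), Cfsg.IsClassFunction G ϑ → ∀ x : G, (∃ k : ℕ, orderOf x = p ^ k) → (∀ u z : G, Cfsg.IsPPart p u z → IsConj x z → ϑ u = 0) → ∀ B : Set (Cfsg.IrrCharacter G), Cfsg.IsPBlock M B → ∀ u z : G, Cfsg.IsPPart p u z → IsConj x z → Cfsg.blockPart B ϑ u = 0) ∧ (∀ g h x y : G, Cfsg.IsPPart p g x → Cfsg.IsPPart p h y → ¬ IsConj x y → ∀ B : Set (Cfsg.IrrCharacter G), Cfsg.IsPBlock M B → ∑ᶠ χ ∈ B, (χ : G → ℂ) g * (χ : G → ℂ) h⁻¹ = 0) := by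
  classical
  letI : Fintype G := Fintype.ofFinite G
  haveI := Fintype.ofFinite (Cfsg.IrrCharacter G)
  have hp : p.Prime := Fact.out
  -- block orthogonality
  have hBO : ∀ g h x y : G, Cfsg.IsPPart p g x → Cfsg.IsPPart p h y → ¬ IsConj x y →
      ∀ B : Set (Cfsg.IrrCharacter G), Cfsg.IsPBlock M B →
      ∑ᶠ χ ∈ B, (χ : G → ℂ) g * (χ : G → ℂ) h⁻¹ = 0 := by
    intro g h x y hx hy hxy B hB
    obtain ⟨χ₀, rfl⟩ := hB
    obtain ⟨c, e, _, hg, hh, _, _, _, _, hconj⟩ := Cfsg.Agent.Lib.H23.IsPPart.pow_data hp hx hy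
    rw [Cfsg.Agent.Lib.H23.finsum_mem_eq_sum_ite]
    exact Cfsg.Agent.Lib.H23.block_orthogonality_aux hM χ₀ g h c e hg hh
      (fun hc => hxy (hconj hc))
  refine ⟨?_, hBO⟩
  intro ϑ _ x _ hvan B hB u z huz hxz
  show ∑ᶠ χ ∈ B, Cfsg.classInner ϑ (χ : G → ℂ) * (χ : G → ℂ) u = 0
  rw [Cfsg.Agent.Lib.H23.finsum_mem_eq_sum_ite]
  have h1 : ∀ χ : Cfsg.IrrCharacter G,
      (if χ ∈ B then Cfsg.classInner ϑ (χ : G → ℂ) * (χ : G → ℂ) u else 0) =
      (Nat.card G : ℂ)⁻¹ * ∑ g : G, ϑ g *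
        (if χ ∈ B then (χ : G → ℂ) u * (χ : G → ℂ) g⁻¹ else 0) := by
    intro χ
    split_ifs
    · unfold Cfsg.classInner
      rw [mul_assoc, Finset.sum_mul]
      congr 1
      refine Finset.sum_congr rfl (fun g _ => ?_)
      rw [Cfsg.Agent.Lib.H24.irr_inv]
      ring
    · simp
  rw [Finset.sum_congr rfl (fun χ _ => h1 χ), ← Finset.mul_sum, Finset.sum_comm]
  rw [mul_eq_zero]
  right
  refine Finset.sum_eq_zero (fun g _ => ?_)
  rw [← Finset.mul_sum]
  obtain ⟨zg, hzg⟩ := Cfsg.Agent.Lib.H23.exists_isPPart hp g (isOfFinOrder_of_finite g)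
  by_cases hc : IsConj z zg
  · rw [hvan g zg hzg (hxz.trans hc), zero_mul]
  · have := hBO u g z zg huz hzg hc B hB
    rw [Cfsg.Agent.Lib.H23.finsum_mem_eq_sum_ite] at this
    rw [this, mul_zero]

end Cfsg.Agent.S0925
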