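import Cfsg.Statements.S0840
import Cfsg.Agent.Lib.L0.CharCentral
import Cfsg.Agent.Lib.H24.CharSchur
import Cfsg.Agent.Lib.H24.CharOrth
import Cfsg.Agent.Lib.H23.DegreeDvd
-- import your own Cfsg.Agent.* helpers here

set_option autoImplicit false
open scoped ComplexConjugate
open Cfsg

namespace Cfsg.Agent.S0840

open scoped ComplexConjugate
open Cfsg.Agent.Lib.L0

section
variable {G : Type*} [Group G] [Fintype G]

open scoped Classical in
/-- `|G| = |C_G(a)| * |a^G|`. -/
theorem card_eq_centralizer_mul_class (a : G) :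
    (Nat.card G : ℂ) = (Nat.card (Subgroup.centralizer ({a} : Set G)) : ℂ) *
      ((Finset.univ.filter fun x => IsConj a x).card : ℂ) := by
  have := sum_conj_eq (fun _ => (1 : ℂ)) a
  simpa [Nat.card_eq_fintype_card] using this

open scoped Classical in
/-- Sum of `χ (x * y)` over `x` in the class of `a`. -/
theorem sum_class_mul (χ : Cfsg.IrrCharacter G) (a y : G) :
    ∑ x ∈ Finset.univ.filter (fun x => IsConj a x), (χ : G → ℂ) (x * y) =
      ((Finset.univ.filter fun x => IsConj a x).card : ℂ) * (χ : G → ℂ) a * (χ : G → ℂ) y / (χ : G → ℂ) 1 := by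
  have hC : (Nat.card (Subgroup.centralizer ({a} : Set G)) : ℂ) ≠ 0 := by
    exact_mod_cast (Nat.card_pos (α := Subgroup.centralizer ({a} : Set G))).ne'
  have h1 := sum_conj_eq (fun x => (χ : G → ℂ) (x * y)) a
  have h2 : ∑ x : G, (χ : G → ℂ) (x⁻¹ * a * x * y) = ∑ x : G, (χ : G → ℂ) (x * a * x⁻¹ * y) := by
    refine Fintype.sum_equiv (Equiv.inv G) _ _ fun x => ?_
    simp
  rw [h2, Cfsg.Agent.Lib.H24.irr_sum_conj_mul χ a y, card_eq_centralizer_mul_class a] at h1
  field_simp at h1 ⊢
  linear_combination -h1

open scoped Classical in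
/-- The class multiplication counting function. -/
noncomputable def cmc (a b : G) (z : G) : ℂ :=
  ∑ x ∈ Finset.univ.filter (fun x => IsConj a x), ∑ y ∈ Finset.univ.filter (fun y => IsConj b y),
    if x * y = z then 1 else 0

open scoped Classical in
theorem cmc_classFunction (a b : G) : Cfsg.IsClassFunction G (cmc a b) := by
  intro z g
  unfold cmc
  refine (Finset.sum_equiv (MulAut.conj g).toEquiv ?_ ?_).symm
  · intro x
    simp only [Finset.mem_filter, Finset.mem_univ, true_and, MulEquiv.toEquiv_eq_coe,
      MulEquiv.coe_toEquiv, MulAut.conj_apply]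
    exact ⟨fun h => h.trans (isConj_iff.mpr ⟨g, rfl⟩), fun h => h.trans (isConj_iff.mpr ⟨g⁻¹, by group⟩)⟩
  · intro x _
    refine Finset.sum_equiv (MulAut.conj g).toEquiv ?_ ?_
    · intro y
      simp only [Finset.mem_filter, Finset.mem_univ, true_and, MulEquiv.toEquiv_eq_coe,
        MulEquiv.coe_toEquiv, MulAut.conj_apply]
      exact ⟨fun h => h.trans (isConj_iff.mpr ⟨g, rfl⟩), fun h => h.trans (isConj_iff.mpr ⟨g⁻¹, by group⟩)⟩
    · intro y _
      simp only [MulEquiv.toEquiv_eq_coe, MulEquiv.coe_toEquiv, MulAut.conj_apply]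
      have : g * x * g⁻¹ * (g * y * g⁻¹) = g * z * g⁻¹ ↔ x * y = z := by
        constructor
        · intro h
          have h' : g * (x * y) * g⁻¹ = g * z * g⁻¹ := by rw [← h]; group
          exact mul_left_cancel (mul_right_cancel h')
        · rintro rfl; group
      simp only [this]

open scoped Classical in
theorem classInner_cmc (a b : G) (χ : Cfsg.IrrCharacter G) :
    Cfsg.classInner (cmc a b) (χ : G → ℂ) = (Nat.card G : ℂ)⁻¹ *
      conj (((Finset.univ.filter fun x => IsConj a x).card : ℂ) *
        ((Finset.univ.filter fun y => IsConj b y).card : ℂ) * (χ : G → ℂ) a * (χ : G → ℂ) b / (χ : G → ℂ) 1) := by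
  unfold Cfsg.classInner
  congr 1
  unfold cmc
  simp only [Finset.sum_mul]
  rw [Finset.sum_comm]
  have h1 : ∀ x ∈ Finset.univ.filter (fun x => IsConj a x),
      ∑ z : G, ∑ y ∈ Finset.univ.filter (fun y => IsConj b y),
        (if x * y = z then (1 : ℂ) else 0) * conj ((χ : G → ℂ) z)
      = ∑ y ∈ Finset.univ.filter (fun y => IsConj b y), conj ((χ : G → ℂ) (x * y)) := by
    intro x _
    rw [Finset.sum_comm]
    refine Finset.sum_congr rfl fun y _ => ?_
    simp [Finset.sum_ite_eq]
  rw [Finset.sum_congr rfl h1, Finset.sum_comm]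
  have h2 : ∀ y ∈ Finset.univ.filter (fun y => IsConj b y),
      ∑ x ∈ Finset.univ.filter (fun x => IsConj a x), conj ((χ : G → ℂ) (x * y))
      = conj (((Finset.univ.filter fun x => IsConj a x).card : ℂ) * (χ : G → ℂ) a * (χ : G → ℂ) b / (χ : G → ℂ) 1) := by
    intro y hy
    rw [← map_sum, sum_class_mul χ a y]
    have hyb : (χ : G → ℂ) y = (χ : G → ℂ) b :=
      (Cfsg.Agent.Lib.H24.isClassFunction_eq_of_isConj (Cfsg.Agent.Lib.H24.isClassFunction_irr χ)
        (Finset.mem_filter.mp hy).2).symm
    rw [hyb]
  rw [Finset.sum_congr rfl h2, Finset.sum_const, nsmul_eq_mul]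
  simp only [map_mul, map_div₀, Complex.conj_natCast]
  ring
end

/-- Class multiplication coefficients from the character table: for elements a, b, c of a finite group G, the number of ordered pairs (x, y) with x conjugate to a, y conjugate to b and x * y = c equals the product of the sizes of the conjugacy classes of a and b, divided by the order of G, times the sum over the irreducible characters χ of χ a * χ b * conj (χ c) / χ 1. -/
theorem result {G : Type*} [Group G] [Finite G] (a b c : G) : (Nat.card {p : G × G // IsConj a p.1 ∧ IsConj b p.2 ∧ p.1 * p.2 = c} : ℂ) = (Nat.card {x : G // IsConj a x} : ℂ) * (Nat.card {x : G // IsConj b x} : ℂ) / (Nat.card G : ℂ) * ∑ᶠ χ : Cfsg.IrrCharacter G, (χ : G → ℂ) a * (χ : G → ℂ) b * conj ((χ : G → ℂ) c) / (χ : G → ℂ) 1 := by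
  classical
  have := Fintype.ofFinite G
  have := Fintype.ofFinite (Cfsg.IrrCharacter G)
  have hexp := congrFun (Cfsg.Agent.Lib.H24.classFunction_expansion (cmc a b) (cmc_classFunction a b)) c
  -- LHS is cmc a b c
  have hL : (Nat.card {p : G × G // IsConj a p.1 ∧ IsConj b p.2 ∧ p.1 * p.2 = c} : ℂ) = cmc a b c := by
    rw [Nat.card_eq_fintype_card, Fintype.card_subtype]
    unfold cmc
    rw [Finset.card_filter, Fintype.sum_prod_type]
    push_cast
    rw [Finset.sum_filter]
    refine Finset.sum_congr rfl fun x _ => ?_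
    by_cases hx : IsConj a x
    · rw [if_pos hx, Finset.sum_filter]
      refine Finset.sum_congr rfl fun y _ => ?_
      by_cases hy : IsConj b y <;> by_cases hc : x * y = c <;>
        simp only [hx, hy, hc, and_self, and_true, and_false, false_and, true_and, if_true, if_false]
    · rw [if_neg hx]
      refine Finset.sum_eq_zero fun y _ => ?_
      simp only [hx, false_and, if_false]
  have hA : (Nat.card {x : G // IsConj a x} : ℂ) = ((Finset.univ.filter fun x => IsConj a x).card : ℂ) := by
    rw [Nat.card_eq_fintype_card, Fintype.card_subtype]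
  have hB : (Nat.card {x : G // IsConj b x} : ℂ) = ((Finset.univ.filter fun x => IsConj b x).card : ℂ) := by
    rw [Nat.card_eq_fintype_card, Fintype.card_subtype]
  rw [hL, hA, hB, finsum_eq_sum_of_fintype]
  -- cmc a b c is real (a natural number), so equals its conjugate
  have hreal : conj (cmc a b c) = cmc a b c := by
    unfold cmc
    simp only [map_sum]
    refine Finset.sum_congr rfl fun x _ => Finset.sum_congr rfl fun y _ => ?_
    split_ifs <;> simp
  rw [← hreal, hexp]
  simp only [Finset.sum_apply, Pi.smul_apply, smul_eq_mul, map_sum, map_mul, classInner_cmc,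
    Complex.conj_conj, map_inv₀, Complex.conj_natCast, map_div₀]
  rw [Finset.mul_sum]
  refine Finset.sum_congr rfl fun χ _ => ?_
  ring

end Cfsg.Agent.S0840
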