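import Cfsg.Statements.S0942
import Cfsg.Agent.Lib.H23.BlockPrincipalLocal

set_option autoImplicit false
open Cfsg

namespace Cfsg.Agent.S0942

/-- Let u be a p-element of the finite group G, let v lie in the largest normal subgroup of C_G(u) of order prime to p, and let χ belong to the principal block (relative to a maximal ideal M of the algebraic integers containing p). Then χ (u * v) = χ u. -/
theorem result {G : Type*} [Group G] [Finite G] (p : ℕ) [Fact p.Prime] (M : Ideal Cfsg.AlgInt) (hM : Cfsg.IsPModular p M) (u : G) (hu : ∃ k : ℕ, orderOf u = p ^ k) (v : G) (hv : v ∈ Cfsg.centralizerPPrimeCore p u) (χ : Cfsg.IrrCharacter G) (hχ : χ ∈ Cfsg.principalBlock M G) : (χ : G → ℂ) (u * v) = (χ : G → ℂ) u := by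
  classical
  haveI := Fintype.ofFinite G
  haveI hPr := Cfsg.Agent.Lib.H23.isPrime_of_isPModular hM
  have hp := Cfsg.Agent.Lib.H23.prime_of_isPModular hM
  set H := Subgroup.centralizer ({u} : Set G) with hH
  haveI : Fintype H := Fintype.ofFinite H
  obtain ⟨v', hv'K, rfl⟩ := hv
  set K := Cfsg.pPrimeCore p H with hK
  haveI hKn : K.Normal := Cfsg.Agent.Lib.H22.pPrimeCore_normal p
  have hKp : ¬ p ∣ Nat.card K := Cfsg.Agent.Lib.H22.not_dvd_card_pPrimeCore hp
  have huH : u ∈ H := Subgroup.mem_centralizer_singleton_iff.2 rfl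
  set P := Subgroup.zpowers u with hP
  have hPp : IsPGroup p P := by
    obtain ⟨k, hk⟩ := hu
    apply IsPGroup.of_card (n := k)
    rw [Nat.card_zpowers, hk]
  have hHc : ∀ h ∈ H, ∀ x ∈ P, x * h = h * x := by
    intro h hh x hx
    obtain ⟨n, rfl⟩ := Subgroup.mem_zpowers_iff.1 hx
    have h1 : Commute u h := (Subgroup.mem_centralizer_singleton_iff.1 hh).symm
    exact (h1.zpow_left n).eq
  have hPH : P ≤ H := by
    rw [hP, Subgroup.zpowers_le]
    exact huH
  have hCH : Subgroup.centralizer (P : Set G) ≤ H := by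
    apply Subgroup.centralizer_le
    intro x hx
    rw [Set.mem_singleton_iff] at hx
    rw [hx]
    exact Subgroup.mem_zpowers u
  have hHN : H ≤ Subgroup.normalizer (P : Set G) := by
    intro h hh
    apply Subgroup.centralizer_le_normalizer
    intro x hx
    exact hHc h hh x hx
  -- `v'` is `p`-regular and commutes with `u`
  have hvreg : ¬ p ∣ orderOf (v' : G) := by
    rw [Subgroup.orderOf_coe]
    intro hdvd
    apply hKp
    have h1 : orderOf (⟨v', hv'K⟩ : K) ∣ Nat.card K := orderOf_dvd_natCard _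
    rw [Subgroup.orderOf_mk] at h1
    exact dvd_trans hdvd h1
  have hcomm : Commute u (v' : G) := (Subgroup.mem_centralizer_singleton_iff.1 v'.2).symm
  set uH : H := ⟨u, huH⟩ with huHdef
  have hC1 : ∀ z : G, Cfsg.IsPPart p ((uH * v' : H) : G) z →
      Subgroup.centralizer ({z} : Set G) ≤ H := by
    intro z hz
    have h1 : Cfsg.IsPPart p ((uH * v' : H) : G) u :=
      Cfsg.Agent.Lib.H23.isPPart_mul hcomm hu hvreg
    rw [Cfsg.Agent.Lib.H23.IsPPart.unique hp hz h1]
  have hC2 : ∀ z : G, Cfsg.IsPPart p ((uH : H) : G) z →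
      Subgroup.centralizer ({z} : Set G) ≤ H := by
    intro z hz
    have h1 : Cfsg.IsPPart p ((uH : H) : G) u := by
      refine ⟨1, mul_one _, Commute.one_right _, hu, ?_⟩
      rw [orderOf_one]
      exact fun h => hp.one_lt.ne' (Nat.dvd_one.1 h)
    rw [Cfsg.Agent.Lib.H23.IsPPart.unique hp hz h1]
  have e1 := Cfsg.Agent.Lib.H23.principal_local hM P hPp H hPH hCH hHN χ hχ (uH * v') hC1
  have e2 := Cfsg.Agent.Lib.H23.principal_local hM P hPp H hPH hCH hHN χ hχ uH hC2
  have e1' : (χ : G → ℂ) (u * (v' : G)) = (χ : G → ℂ) ((uH * v' : H) : G) := rfl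
  have e2' : (χ : G → ℂ) u = (χ : G → ℂ) ((uH : H) : G) := rfl
  show (χ : G → ℂ) (u * (v' : G)) = (χ : G → ℂ) u
  rw [e1', e2', e1, e2]
  rw [← Equiv.sum_comp (Equiv.mulRight v')
    (fun k : H => Cfsg.blockCoeff (Cfsg.principalBlock M H) k * (χ : G → ℂ) ((k : G) * (uH : G)))]
  refine Finset.sum_congr rfl (fun k _ => ?_)
  simp only [Equiv.coe_mulRight]
  rw [Cfsg.Agent.Lib.H23.blockCoeff_mul_of_ker (Cfsg.principalBlock M H)
    (fun ψ hψ => Cfsg.Agent.Lib.H23.principalBlock_ker hM K hKp ψ hψ v' hv'K) k]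
  congr 2
  simp only [Subgroup.coe_mul, huHdef]
  rw [hcomm.eq, mul_assoc]

end Cfsg.Agent.S0942
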