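import Mathlib
import Cfsg.Prelude.Def_Solvable
import Cfsg.Agent.Lib.H20.ConjClass
import Cfsg.Agent.Lib.H20.PowDecomp
import Cfsg.Agent.Lib.H1.IndexBasic
import Cfsg.Agent.Lib.H1.Hall
import Cfsg.Agent.Lib.H1.Fitting
import Cfsg.Agent.Lib.H7.DihedralLemma2
import Cfsg.Agent.Lib.H23.BurnsidePQ
import Cfsg.Agent.Lib.H3.WielandtHall

set_option autoImplicit false
open Cfsg
open scoped Pointwise

namespace Cfsg.Agent.S4034

universe u

/-- Every `p'`-element has a centralizer of `p`-power index. -/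
def Hyp (p : ℕ) (G : Type*) [Group G] : Prop :=
  ∀ x : G, (orderOf x).Coprime p → ∃ k : ℕ, (Subgroup.centralizer ({x} : Set G)).index = p ^ k

theorem Hyp.subgroup_normal {p : ℕ} (hp : p.Prime) {G : Type*} [Group G] [Finite G]
    (h : Hyp p G) (N : Subgroup G) [N.Normal] : Hyp p ↥N := by
  intro x hx
  obtain ⟨k, hk⟩ := h (x : G) (by rwa [Subgroup.orderOf_coe])
  have h1 : Subgroup.centralizer ({x} : Set ↥N) =
      (Subgroup.centralizer ({(x : G)} : Set G)).subgroupOf N := by
    ext y
    rw [Subgroup.mem_centralizer_singleton_iff, Subgroup.mem_subgroupOf,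
      Subgroup.mem_centralizer_singleton_iff]
    constructor
    · intro e
      have := congrArg Subtype.val e
      simpa using this
    · intro e
      exact Subtype.ext (by simpa using e)
  have h2 : (Subgroup.centralizer ({(x : G)} : Set G)).relIndex N ∣ p ^ k :=
    hk ▸ Cfsg.Agent.Lib.H1.relIndex_dvd_index_of_normal_right _ N
  obtain ⟨j, -, hj⟩ := (Nat.dvd_prime_pow hp).1 h2
  exact ⟨j, by rw [h1]; exact hj⟩

theorem Hyp.quotient {p : ℕ} (hp : p.Prime) {G : Type*} [Group G] [Finite G]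
    (h : Hyp p G) (N : Subgroup G) [N.Normal] : Hyp p (G ⧸ N) := by
  intro xb hxb
  obtain ⟨y, rfl⟩ := QuotientGroup.mk_surjective xb
  obtain ⟨k, l, hkl, ⟨e, he⟩, hl⟩ :=
    Cfsg.Agent.Lib.H20.exists_pPart_pPrimePart y (isOfFinOrder_of_finite y) p hp
  have h1 : ((y ^ k : G) : G ⧸ N) = 1 := by
    have hd1 : orderOf ((y ^ k : G) : G ⧸ N) ∣ p ^ e :=
      he ▸ orderOf_map_dvd (QuotientGroup.mk' N) (y ^ k)
    have hd2 : orderOf ((y ^ k : G) : G ⧸ N) ∣ orderOf ((y : G) : G ⧸ N) := by
      rw [QuotientGroup.mk_pow]; exact orderOf_pow_dvd k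
    have hc : (orderOf ((y ^ k : G) : G ⧸ N)).Coprime (orderOf ((y ^ k : G) : G ⧸ N)) :=
      Nat.Coprime.coprime_dvd_left hd2 (Nat.Coprime.coprime_dvd_right hd1 (hxb.pow_right e))
    exact orderOf_eq_one_iff.1 ((Nat.coprime_self _).1 hc)
  have h2 : ((y ^ l : G) : G ⧸ N) = (y : G ⧸ N) := by
    conv_rhs => rw [← hkl]
    rw [QuotientGroup.mk_mul, h1, one_mul]
  obtain ⟨j, hj⟩ := h (y ^ l) hl
  have h3 : (Subgroup.centralizer ({y ^ l} : Set G)).map (QuotientGroup.mk' N) ≤
      Subgroup.centralizer ({((y : G) : G ⧸ N)} : Set (G ⧸ N)) := by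
    rintro _ ⟨c, hc, rfl⟩
    rw [SetLike.mem_coe, Subgroup.mem_centralizer_singleton_iff] at hc
    rw [Subgroup.mem_centralizer_singleton_iff]
    rw [← h2]
    show (c : G ⧸ N) * ((y ^ l : G) : G ⧸ N) = ((y ^ l : G) : G ⧸ N) * (c : G ⧸ N)
    rw [← QuotientGroup.mk_mul, ← QuotientGroup.mk_mul, hc]
  have h4 : (Subgroup.centralizer ({((y : G) : G ⧸ N)} : Set (G ⧸ N))).index ∣ p ^ j := by
    rw [← hj]
    exact (Subgroup.index_dvd_of_le h3).trans
      (Subgroup.index_map_dvd _ (QuotientGroup.mk'_surjective N))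
  obtain ⟨i, -, hi⟩ := (Nat.dvd_prime_pow hp).1 h4
  exact ⟨i, hi⟩

theorem solvable_of_hyp {p : ℕ} (hp : p.Prime) : ∀ (n : ℕ) (G : Type u) [Group G] [Finite G],
    Nat.card G = n → Hyp p G → Group.IsSolvable G := by
  intro n
  induction n using Nat.strong_induction_on with
  | _ n ih =>
  intro G _ _ hn h
  by_cases hN : ∃ N : Subgroup G, N.Normal ∧ N ≠ ⊥ ∧ N ≠ ⊤
  · obtain ⟨N, hNn, hNb, hNt⟩ := hN
    haveI := hNn
    have hmul : Nat.card (G ⧸ N) * Nat.card N = n := by
      rw [← hn]; exact (Subgroup.card_eq_card_quotient_mul_card_subgroup N).symm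
    have hN1 : 1 < Nat.card N := by
      rcases Nat.lt_or_ge 1 (Nat.card N) with h1 | h1
      · exact h1
      · exfalso
        have : Nat.card N = 1 := le_antisymm h1 Nat.card_pos
        exact hNb (Subgroup.card_eq_one.1 this)
    have hQ1 : 1 < Nat.card (G ⧸ N) := by
      rcases Nat.lt_or_ge 1 (Nat.card (G ⧸ N)) with h1 | h1
      · exact h1
      · exfalso
        have h2 : Nat.card (G ⧸ N) = 1 := le_antisymm h1 Nat.card_pos
        have h3 : N.index = 1 := h2
        exact hNt (Subgroup.index_eq_one.1 h3)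
    have hc1 : Nat.card N < n := by
      rw [← hmul]; nlinarith [Nat.card_pos (α := N)]
    have hc2 : Nat.card (G ⧸ N) < n := by
      rw [← hmul]; nlinarith [Nat.card_pos (α := G ⧸ N)]
    haveI : Group.IsSolvable N := ih _ hc1 ↥N rfl (h.subgroup_normal hp N)
    haveI : Group.IsSolvable (G ⧸ N) := ih _ hc2 (G ⧸ N) rfl (h.quotient hp N)
    exact solvable_of_ker_le_range N.subtype (QuotientGroup.mk' N)
      (by rw [QuotientGroup.ker_mk', Subgroup.range_subtype])
  · push_neg at hN
    by_cases htriv : Subsingleton G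
    · exact isSolvable_of_comm (fun a b => by rw [Subsingleton.elim a 1, Subsingleton.elim b 1])
    · rw [not_subsingleton_iff_nontrivial] at htriv
      haveI : IsSimpleGroup G := ⟨fun H hH => by
        by_cases hb : H = ⊥
        · exact Or.inl hb
        · exact Or.inr (hN H hH hb)⟩
      by_cases hx : ∃ x : G, x ≠ 1 ∧ (orderOf x).Coprime p
      · obtain ⟨x, hx1, hxp⟩ := hx
        obtain ⟨k, hk⟩ := h x hxp
        exact isSolvable_of_comm
          (Cfsg.Agent.Lib.H23.commutative_of_simple_of_prime_power_class p k hp x hx1 hk)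
      · push_neg at hx
        have hpg : IsPGroup p G := by
          intro x
          obtain ⟨k, l, hkl, ⟨e, he⟩, hl⟩ :=
            Cfsg.Agent.Lib.H20.exists_pPart_pPrimePart x (isOfFinOrder_of_finite x) p hp
          have h1 : x ^ l = 1 := by
            by_contra hne
            exact hx (x ^ l) hne hl
          refine ⟨e, ?_⟩
          have h2 : x ^ k = x := by rw [h1, mul_one] at hkl; exact hkl
          rw [← he, h2]
          exact pow_orderOf_eq_one x
        haveI : Fact p.Prime := ⟨hp⟩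
        haveI := hpg.isNilpotent
        exact inferInstance

theorem index_eq_of_card {p : ℕ} {G : Type*} [Group G] [Finite G] {m a : ℕ}
    (hG : Nat.card G = m * p ^ a) (L : Subgroup G) (hL : Nat.card L = m) : L.index = p ^ a := by
  have h1 := L.card_mul_index
  rw [hL, hG] at h1
  have hm0 : 0 < m := by rw [← hL]; exact Nat.card_pos
  exact Nat.eq_of_mul_eq_mul_left hm0 h1

/-- A `p'`-element centralizes a Hall `p'`-subgroup. -/
theorem exists_hall_le_centralizer {p : ℕ} (hp : p.Prime) {G : Type u} [Group G] [Finite G]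
    [Group.IsSolvable G] (h : Hyp p G) {m a : ℕ} (hG : Nat.card G = m * p ^ a) (hm : m.Coprime p)
    (x : G) (hx : (orderOf x).Coprime p) :
    ∃ L : Subgroup G, Nat.card L = m ∧ L ≤ Subgroup.centralizer ({x} : Set G) := by
  obtain ⟨k, hk⟩ := h x hx
  set C := Subgroup.centralizer ({x} : Set G) with hC
  have h1 : Nat.card C * p ^ k = m * p ^ a := by
    rw [← hk, ← hG]; exact C.card_mul_index
  have hpk : p ^ k ∣ p ^ a := by
    have : p ^ k ∣ m * p ^ a := ⟨Nat.card C, by rw [← h1]; ring⟩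
    exact (Nat.Coprime.dvd_mul_left ((hm.symm).pow_left k)).1 this
  have hka : k ≤ a := (Nat.pow_dvd_pow_iff_le_right hp.one_lt).1 hpk
  have hCcard : Nat.card C = m * p ^ (a - k) := by
    have h2 : m * p ^ a = m * p ^ (a - k) * p ^ k := by
      rw [mul_assoc, ← pow_add, Nat.sub_add_cancel hka]
    rw [h2] at h1
    exact Nat.eq_of_mul_eq_mul_right (pow_pos hp.pos k) h1
  obtain ⟨L, hL⟩ := Cfsg.Agent.Lib.H1.hall_exists (G := ↥C) hCcard (hm.pow_right _)
  refine ⟨L.map C.subtype, ?_, Subgroup.map_subtype_le L⟩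
  rw [Subgroup.card_map_of_injective C.subtype_injective]
  exact hL

theorem comm_of_pCore_bot {p : ℕ} [hp : Fact p.Prime] {G : Type u} [Group G] [Finite G]
    [Group.IsSolvable G] (h : Hyp p G) {m a : ℕ} (hG : Nat.card G = m * p ^ a) (hm : m.Coprime p)
    (hcore : Cfsg.pCore p G = ⊥) (H : Subgroup G) (hH : Nat.card H = m) :
    ∀ x ∈ H, ∀ y ∈ H, x * y = y * x := by
  have hF : ∀ L : Subgroup G, Nat.card L = m → Cfsg.fittingSubgroup G ≤ L := by
    intro L hL
    rw [Cfsg.Agent.Lib.H1.fittingSubgroup_eq_iSup_pCore]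
    apply iSup_le
    intro q
    haveI : Fact (q : ℕ).Prime := ⟨q.2⟩
    by_cases hqp : (q : ℕ) = p
    · rw [hqp, hcore]; exact bot_le
    · haveI := Cfsg.Agent.Lib.H1.pCore_normal (q : ℕ) G
      apply Cfsg.Agent.Lib.H1.le_of_normal_isPGroup_of_not_dvd_index
        (Cfsg.Agent.Lib.H1.pCore_isPGroup (q : ℕ) G)
      rw [index_eq_of_card hG L hL]
      intro hd
      exact hqp ((Nat.prime_dvd_prime_iff_eq q.2 hp.out).1 (q.2.dvd_of_dvd_pow hd))
  have hox : ∀ x ∈ H, (orderOf x).Coprime p := by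
    intro x hx
    have : orderOf x ∣ m := by
      rw [← hH]
      have := orderOf_dvd_natCard (⟨x, hx⟩ : H)
      rwa [Subgroup.orderOf_mk] at this
    exact Nat.Coprime.coprime_dvd_left this hm
  have hHF : H ≤ Cfsg.fittingSubgroup G := by
    intro x hx
    obtain ⟨L, hL, hLC⟩ := exists_hall_le_centralizer hp.out h hG hm x (hox x hx)
    apply Cfsg.Agent.Lib.H7.centralizer_fittingSubgroup_le_of_isSolvable G
    rw [Subgroup.mem_centralizer_iff]
    intro f hf
    have := hLC (hF L hL hf)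
    rw [Subgroup.mem_centralizer_singleton_iff] at this
    exact this
  have hHF' : H = Cfsg.fittingSubgroup G := le_antisymm hHF (hF H hH)
  intro x hx y hy
  obtain ⟨L, hL, hLC⟩ := exists_hall_le_centralizer hp.out h hG hm x (hox x hx)
  have hHL : H = L := by
    apply Subgroup.eq_of_le_of_card_ge
    · rw [hHF']; exact hF L hL
    · rw [hH, hL]
  have := hLC (hHL ▸ hy)
  rw [Subgroup.mem_centralizer_singleton_iff] at this
  exact this.symm

theorem comm_of_hall {p : ℕ} [hp : Fact p.Prime] : ∀ (n : ℕ) (G : Type u) [Group G] [Finite G]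
    [Group.IsSolvable G], Nat.card G = n → Hyp p G → ∀ (m a : ℕ), Nat.card G = m * p ^ a →
    m.Coprime p → ∀ H : Subgroup G, Nat.card H = m → ∀ x ∈ H, ∀ y ∈ H, x * y = y * x := by
  intro n
  induction n using Nat.strong_induction_on with
  | _ n ih =>
  intro G _ _ _ hn h m a hG hm H hH
  by_cases hcore : Cfsg.pCore p G = ⊥
  · exact comm_of_pCore_bot h hG hm hcore H hH
  · set N := Cfsg.pCore p G with hNdef
    haveI : N.Normal := Cfsg.Agent.Lib.H1.pCore_normal p G
    have hNp : IsPGroup p N := Cfsg.Agent.Lib.H1.pCore_isPGroup p G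
    obtain ⟨b, hb⟩ := IsPGroup.iff_card.mp hNp
    have hb1 : b ≠ 0 := by
      rintro rfl
      rw [pow_zero] at hb
      exact hcore (Subgroup.card_eq_one.1 hb)
    have hcardQ : Nat.card (G ⧸ N) * p ^ b = m * p ^ a := by
      rw [← hb, ← hG]; exact (Subgroup.card_eq_card_quotient_mul_card_subgroup N).symm
    have hpb : p ^ b ∣ p ^ a := by
      have : p ^ b ∣ m * p ^ a := ⟨Nat.card (G ⧸ N), by rw [← hcardQ]; ring⟩
      exact (Nat.Coprime.dvd_mul_left ((hm.symm).pow_left b)).1 this
    have hba : b ≤ a := (Nat.pow_dvd_pow_iff_le_right hp.out.one_lt).1 hpb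
    have hQ : Nat.card (G ⧸ N) = m * p ^ (a - b) := by
      have h2 : m * p ^ a = m * p ^ (a - b) * p ^ b := by
        rw [mul_assoc, ← pow_add, Nat.sub_add_cancel hba]
      rw [h2] at hcardQ
      exact Nat.eq_of_mul_eq_mul_right (pow_pos hp.out.pos b) hcardQ
    have hlt : Nat.card (G ⧸ N) < n := by
      rw [← hn, hG, hQ]
      have hm0 : 0 < m := by rw [← hH]; exact Nat.card_pos
      apply Nat.mul_lt_mul_of_pos_left _ hm0
      apply Nat.pow_lt_pow_right hp.out.one_lt
      omega
    have hHN : ∀ z ∈ H, z ∈ N → z = 1 := by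
      intro z hzH hzN
      have h1 : orderOf z ∣ m := by
        rw [← hH]
        have := orderOf_dvd_natCard (⟨z, hzH⟩ : H)
        rwa [Subgroup.orderOf_mk] at this
      have h2 : orderOf z ∣ p ^ b := by
        rw [← hb]
        have := orderOf_dvd_natCard (⟨z, hzN⟩ : N)
        rwa [Subgroup.orderOf_mk] at this
      have h3 : (orderOf z).Coprime (orderOf z) :=
        Nat.Coprime.coprime_dvd_left h1 (Nat.Coprime.coprime_dvd_right h2 (hm.pow_right b))
      exact orderOf_eq_one_iff.1 ((Nat.coprime_self _).1 h3)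
    set Hb := H.map (QuotientGroup.mk' N) with hHbdef
    have hHb : Nat.card Hb = m := by
      rw [← hH]
      symm
      apply Nat.card_congr
      refine Equiv.ofBijective ((QuotientGroup.mk' N).subgroupMap H) ⟨?_, ?_⟩
      · rw [injective_iff_map_eq_one]
        intro z hz
        have h1 : ((QuotientGroup.mk' N) (z : G)) = 1 := by
          have := congrArg Subtype.val hz
          simpa using this
        rw [QuotientGroup.mk'_apply, QuotientGroup.eq_one_iff] at h1
        exact Subtype.ext (hHN z z.2 h1)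
      · exact MonoidHom.subgroupMap_surjective _ _
    intro x hx y hy
    have key := ih _ hlt (G ⧸ N) rfl (h.quotient hp.out N) m (a - b) hQ hm Hb hHb
      ((QuotientGroup.mk' N) x) ⟨x, hx, rfl⟩ ((QuotientGroup.mk' N) y) ⟨y, hy, rfl⟩
    rw [← map_mul, ← map_mul] at key
    have h1 : (y * x)⁻¹ * (x * y) ∈ N := by
      rw [← QuotientGroup.eq]
      exact key.symm
    have h2 := hHN _ (H.mul_mem (H.inv_mem (H.mul_mem hy hx)) (H.mul_mem hx hy)) h1
    exact (inv_mul_eq_one.1 h2).symm

/-- Let G be a finite group and p a prime. Every conjugacy class of p-regular elements of G (elements of order prime to p) has p-power size if and only if G has an abelian p-complement, i.e. an abelian subgroup of order prime to p and p-power index. -/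
theorem result {G : Type*} [Group G] [Finite G] {p : ℕ} (hp : p.Prime) :
    (∀ x : G, (orderOf x).Coprime p → ∃ k : ℕ, (ConjClasses.mk x).carrier.ncard = p ^ k) ↔
    (∃ H : Subgroup G, IsMulCommutative H ∧ ¬ p ∣ Nat.card H ∧ ∃ k : ℕ, H.index = p ^ k) := by
  haveI : Fact p.Prime := ⟨hp⟩
  constructor
  · intro h0
    have h : Hyp p G := by
      intro x hx
      obtain ⟨k, hk⟩ := h0 x hx
      exact ⟨k, by rw [Cfsg.Agent.Lib.H20.index_centralizer_eq_ncard_carrier]; exact hk⟩
    haveI : Group.IsSolvable G := solvable_of_hyp hp _ G rfl h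
    obtain ⟨a, m, hpm, hG⟩ := Nat.exists_eq_pow_mul_and_not_dvd (Nat.card_pos (α := G)).ne' p
      hp.ne_one
    have hG' : Nat.card G = m * p ^ a := by rw [hG]; ring
    have hm : m.Coprime p := ((Nat.Prime.coprime_iff_not_dvd hp).2 hpm).symm
    obtain ⟨H, hH⟩ := Cfsg.Agent.Lib.H1.hall_exists hG' (hm.pow_right a)
    refine ⟨H, ?_, ?_, a, index_eq_of_card hG' H hH⟩
    · apply IsMulCommutative.of_comm
      intro x y
      exact Subtype.ext (comm_of_hall _ G rfl h m a hG' hm H hH x x.2 y y.2)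
    · rw [hH]; exact hpm
  · rintro ⟨H, hHc, hpH, k, hk⟩ x hx
    have hHnil : Group.IsNilpotent H := by
      letI : CommGroup H := { (inferInstance : Group H) with mul_comm := mul_comm' }
      exact CommGroup.isNilpotent
    have hHall : (Nat.card H).Coprime H.index := by
      rw [hk]
      exact (((Nat.Prime.coprime_iff_not_dvd hp).2 hpH).symm).pow_right k
    have hprimes : ∀ q : ℕ, q.Prime → q ∣ Nat.card (Subgroup.zpowers x) → q ∣ Nat.card H := by
      intro q hq hqx
      rw [Nat.card_zpowers] at hqx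
      have hqp : q ≠ p := by
        rintro rfl
        have h1 : q ∣ Nat.gcd (orderOf x) q := Nat.dvd_gcd hqx dvd_rfl
        rw [hx] at h1
        exact hq.ne_one (Nat.dvd_one.1 h1)
      have h1 : q ∣ Nat.card H * H.index := by
        rw [H.card_mul_index]
        exact hqx.trans (orderOf_dvd_natCard x)
      rcases (Nat.Prime.dvd_mul hq).1 h1 with h2 | h2
      · exact h2
      · exfalso
        rw [hk] at h2
        exact hqp ((Nat.prime_dvd_prime_iff_eq hq hp).1 (hq.dvd_of_dvd_pow h2))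
    obtain ⟨g, hg⟩ := Cfsg.Agent.Lib.H3.wielandt_nilpotent_hall H hHnil hHall _
      (Subgroup.zpowers x) rfl hprimes
    have hxg : g⁻¹ * x * g ∈ H := by
      rw [← Cfsg.Agent.Lib.H1.mem_conj_smul_iff]
      exact hg (Subgroup.mem_zpowers x)
    have hcl : ConjClasses.mk x = ConjClasses.mk (g⁻¹ * x * g) := by
      rw [ConjClasses.mk_eq_mk_iff_isConj, isConj_iff]
      exact ⟨g⁻¹, by simp⟩
    rw [hcl, ← Cfsg.Agent.Lib.H20.index_centralizer_eq_ncard_carrier]
    have hle : H ≤ Subgroup.centralizer ({g⁻¹ * x * g} : Set G) := by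
      intro y hy
      rw [Subgroup.mem_centralizer_singleton_iff]
      have := mul_comm' (⟨y, hy⟩ : H) ⟨g⁻¹ * x * g, hxg⟩
      exact congrArg Subtype.val this
    have hd : (Subgroup.centralizer ({g⁻¹ * x * g} : Set G)).index ∣ p ^ k :=
      hk ▸ Subgroup.index_dvd_of_le hle
    obtain ⟨j, -, hj⟩ := (Nat.dvd_prime_pow hp).1 hd
    exact ⟨j, hj⟩

end Cfsg.Agent.S4034
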