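import Cfsg.Statements.S3074
import Cfsg.Agent.Lib.H19.Heisenberg
import Cfsg.Agent.Lib.H27.Extraspecial
import Cfsg.Agent.Lib.H12.CardSL
import Cfsg.Agent.Lib.H14.Qd

set_option autoImplicit false
open Cfsg

namespace Cfsg.Agent.S3074

open Cfsg.Agent.Lib.H19 in
/-- The upper unitriangular matrix. -/
def utMat (p : ℕ) (u v c : ZMod p) : Matrix (Fin 3) (Fin 3) (ZMod p) := !![1, u, c; 0, 1, v; 0, 0, 1]

theorem utMat_det (p : ℕ) (u v c : ZMod p) : (utMat p u v c).det = 1 := by
  simp [utMat, Matrix.det_fin_three]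

theorem utMat_mul (p : ℕ) (u v c u' v' c' : ZMod p) :
    utMat p u v c * utMat p u' v' c' = utMat p (u + u') (v + v') (c + c' + u * v') := by
  ext i j
  fin_cases i <;> fin_cases j <;> simp [utMat, Matrix.mul_apply, Fin.sum_univ_three] <;> ring

open Cfsg.Agent.Lib.H19 in
/-- The embedding of the Heisenberg group in `SL₃`. -/
def heisHom (p : ℕ) : Heis 1 (ZMod p) →* Matrix.SpecialLinearGroup (Fin 3) (ZMod p) where
  toFun x := ⟨utMat p (x.u 0) (x.v 0) x.c, utMat_det p _ _ _⟩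
  map_one' := by
    apply Subtype.ext
    ext i j
    fin_cases i <;> fin_cases j <;> simp [utMat]
  map_mul' x y := by
    apply Subtype.ext
    show utMat p ((x * y).u 0) ((x * y).v 0) (x * y).c = utMat p _ _ _ * utMat p _ _ _
    rw [utMat_mul]
    simp [dotProduct]

open Cfsg.Agent.Lib.H19 in
theorem heisHom_injective (p : ℕ) : Function.Injective (heisHom p) := by
  intro x y h
  have h' : utMat p (x.u 0) (x.v 0) x.c = utMat p (y.u 0) (y.v 0) y.c := congrArg Subtype.val h
  have h1 := congrFun (congrFun h' 0) 1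
  have h2 := congrFun (congrFun h' 1) 2
  have h3 := congrFun (congrFun h' 0) 2
  simp [utMat] at h1 h2 h3
  ext i
  · have : i = 0 := Subsingleton.elim _ _
    subst this; exact h1
  · have : i = 0 := Subsingleton.elim _ _
    subst this; exact h2
  · exact h3

open Cfsg.Agent.Lib.H19 in
theorem heisHom_mem_qd (p : ℕ) (x : Heis 1 (ZMod p)) : heisHom p x ∈ Cfsg.qd p := by
  rw [Cfsg.Agent.Lib.H14.mem_qd_iff]
  refine ⟨?_, ?_, ?_⟩
  · show utMat p (x.u 0) (x.v 0) x.c 2 0 = 0
    simp [utMat]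
  · show utMat p (x.u 0) (x.v 0) x.c 2 1 = 0
    simp [utMat]
  · show utMat p (x.u 0) (x.v 0) x.c 2 2 = 1
    simp [utMat]

theorem coprime_pow_sub_one (p : ℕ) [hp : Fact p.Prime] (k : ℕ) (hk : 1 ≤ k) :
    Nat.Coprime p (p ^ k - 1) := by
  rw [Nat.Prime.coprime_iff_not_dvd hp.out]
  intro h
  have h1 : p ∣ p ^ k := dvd_pow_self p (by omega)
  have h2 : 1 ≤ p ^ k := Nat.one_le_pow _ _ hp.out.pos
  have h3 : p ∣ p ^ k - (p ^ k - 1) := Nat.dvd_sub h1 h
  have h4 : p ^ k - (p ^ k - 1) = 1 := by omega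
  rw [h4] at h3
  exact hp.out.one_lt.ne' (Nat.dvd_one.mp h3)

theorem not_dvd_card_SL3 (p : ℕ) [hp : Fact p.Prime] :
    ¬ p ^ 4 ∣ Nat.card (Matrix.SpecialLinearGroup (Fin 3) (ZMod p)) := by
  intro h
  have hc := Cfsg.Agent.Lib.H12.card_SL_mul (F := ZMod p) 3 (by norm_num)
  rw [Fin.prod_univ_three, ZMod.card] at hc
  simp only [Fin.val_zero, Fin.val_one, Fin.val_two, pow_zero, pow_one] at hc
  have hp1 : 1 ≤ p := hp.out.pos
  have e1 : p ^ 3 - p = p * (p ^ 2 - 1) := by
    rw [Nat.mul_sub, mul_one]; ring_nf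
  have e2 : p ^ 3 - p ^ 2 = p ^ 2 * (p - 1) := by
    rw [Nat.mul_sub, mul_one]; ring_nf
  rw [e1, e2] at hc
  have h5 : p ^ 4 ∣ (p ^ 3 - 1) * (p * (p ^ 2 - 1)) * (p ^ 2 * (p - 1)) := by
    rw [← hc]; exact Dvd.dvd.mul_left h _
  have e3 : (p ^ 3 - 1) * (p * (p ^ 2 - 1)) * (p ^ 2 * (p - 1))
      = p ^ 3 * ((p ^ 3 - 1) * (p ^ 2 - 1) * (p - 1)) := by ring
  rw [e3, show p ^ 4 = p ^ 3 * p by ring] at h5
  have h6 : p ∣ (p ^ 3 - 1) * (p ^ 2 - 1) * (p - 1) :=
    Nat.dvd_of_mul_dvd_mul_left (pow_pos hp.out.pos 3) h5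
  have c1 := coprime_pow_sub_one p 3 (by norm_num)
  have c2 := coprime_pow_sub_one p 2 (by norm_num)
  have c3 := coprime_pow_sub_one p 1 (by norm_num)
  rw [pow_one] at c3
  have c4 : Nat.Coprime p ((p ^ 3 - 1) * (p ^ 2 - 1) * (p - 1)) :=
    Nat.Coprime.mul_right (Nat.Coprime.mul_right c1 c2) c3
  exact (Nat.Prime.coprime_iff_not_dvd hp.out).mp c4 h6

open Cfsg.Agent.Lib.H19 in
theorem heis_facts (p : ℕ) [hp : Fact p.Prime] (hp2 : p ≠ 2) :
    Nat.card (Heis 1 (ZMod p)) = p ^ 3 ∧ (∀ x : Heis 1 (ZMod p), x ^ p = 1) ∧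
    Nat.card (Subgroup.center (Heis 1 (ZMod p))) = p ∧
    commutator (Heis 1 (ZMod p)) = Subgroup.center (Heis 1 (ZMod p)) := by
  refine ⟨?_, ?_, ?_, ?_⟩
  · rw [Heis.card_eq, Nat.card_eq_fintype_card, ZMod.card]
  · intro x
    apply Heis.pow_char_eq_one p
    have h2 : ((2 : ℕ) : ZMod p) ≠ 0 := by
      intro h
      rw [ZMod.natCast_eq_zero_iff] at h
      exact hp2 ((Nat.prime_dvd_prime_iff_eq hp.out Nat.prime_two).mp h)
    exact (isUnit_iff_ne_zero.mpr (by simpa using h2))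
  · rw [Heis.card_center, Nat.card_eq_fintype_card, ZMod.card]
  · exact Heis.commutator_eq_center le_rfl

/-- Transfer along an isomorphism. -/
theorem transfer {A B : Type*} [Group A] [Group B] [Finite A] (p : ℕ) [hp : Fact p.Prime]
    (e : A ≃* B) (hcard : Nat.card B = p ^ 3) (hpow : ∀ x : B, x ^ p = 1)
    (hcen : Nat.card (Subgroup.center B) = p) (hcomm : commutator B = Subgroup.center B) :
    Cfsg.IsExtraspecial p A ∧ Nat.card A = p ^ 3 ∧ Monoid.exponent A = p := by
  have hA : Nat.card A = p ^ 3 := by rw [Nat.card_congr e.toEquiv, hcard]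
  have hpA : IsPGroup p A := IsPGroup.of_card hA
  have hpowA : ∀ x : A, x ^ p = 1 := by
    intro x
    apply e.injective
    rw [map_pow, hpow, map_one]
  have hmapc : (Subgroup.center A).map e.toMonoidHom = Subgroup.center B := by
    ext y
    constructor
    · rintro ⟨x, hx, rfl⟩
      rw [Subgroup.mem_center_iff]
      intro g
      obtain ⟨g', rfl⟩ := e.surjective g
      have := Subgroup.mem_center_iff.mp hx g'
      show e g' * e x = e x * e g'
      rw [← map_mul, ← map_mul, this]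
    · intro hy
      obtain ⟨x, rfl⟩ := e.surjective y
      refine ⟨x, ?_, rfl⟩
      rw [SetLike.mem_coe, Subgroup.mem_center_iff]
      intro g
      apply e.injective
      rw [map_mul, map_mul]
      exact Subgroup.mem_center_iff.mp hy (e g)
  refine ⟨?_, hA, ?_⟩
  · apply Cfsg.Agent.Lib.H27.isExtraspecial_of_center p hpA
    · rw [← hcen, ← hmapc]
      exact (Subgroup.card_map_of_injective (f := e.toMonoidHom) e.injective).symm
    · apply Subgroup.map_injective (f := e.toMonoidHom) e.injective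
      rw [hmapc, ← hcomm, commutator_def, commutator_def, Subgroup.map_commutator]
      congr 1 <;> exact Subgroup.map_top_of_surjective _ e.surjective
    · intro x
      rw [hpowA]; exact Subgroup.one_mem _
  · have h1 : Monoid.exponent A ∣ p := Monoid.exponent_dvd_of_forall_pow_eq_one hpowA
    rcases (Nat.dvd_prime hp.out).mp h1 with h | h
    · exfalso
      have : Subsingleton A := Monoid.exp_eq_one_iff.mp h
      have h3 : Nat.card A = 1 := Nat.card_unique
      rw [hA] at h3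
      have := hp.out.one_lt
      have h4 : 1 < p ^ 3 := Nat.one_lt_pow (by norm_num) this
      omega
    · exact h

/-- Let p be an odd prime. A Sylow p-subgroup of Qd(p), the split extension of an elementary abelian group of order p² by SL₂(p) acting naturally, is extraspecial of order p³ and exponent p. -/
theorem result (p : ℕ) [Fact p.Prime] (hp : p ≠ 2) (P : Sylow p ↥(Cfsg.qd p)) :
    Cfsg.IsExtraspecial p ↥P ∧ Nat.card P = p ^ 3 ∧ Monoid.exponent ↥P = p := by
  classical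
  obtain ⟨hc1, hc2, hc3, hc4⟩ := heis_facts p hp
  -- the image of the Heisenberg group inside `qd p`
  let f : Cfsg.Agent.Lib.H19.Heis 1 (ZMod p) →* ↥(Cfsg.qd p) :=
    (heisHom p).codRestrict (Cfsg.qd p) (heisHom_mem_qd p)
  have hf : Function.Injective f := by
    intro x y h
    apply heisHom_injective p
    exact congrArg Subtype.val h
  have hU : Nat.card f.range = p ^ 3 := by
    rw [← hc1]
    exact Nat.card_congr (MonoidHom.ofInjective hf).toEquiv.symm
  have hUp : IsPGroup p f.range := IsPGroup.of_card hU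
  obtain ⟨Q, hQ⟩ := hUp.exists_le_sylow
  -- `Q` has order at most `p ^ 3`
  obtain ⟨k, hk⟩ := IsPGroup.iff_card.mp Q.2
  have hk3 : k ≤ 3 := by
    by_contra hlt
    push Not at hlt
    apply not_dvd_card_SL3 p
    have h1 : p ^ 4 ∣ p ^ k := pow_dvd_pow p hlt
    have h2 : p ^ k ∣ Nat.card ↥(Cfsg.qd p) := by
      rw [← hk]; exact Subgroup.card_subgroup_dvd_card _
    exact (h1.trans h2).trans (Subgroup.card_subgroup_dvd_card _)
  have hQU : f.range = (Q : Subgroup ↥(Cfsg.qd p)) := by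
    apply Subgroup.eq_of_le_of_card_ge hQ
    rw [hU]
    show Nat.card ↥(Q : Subgroup ↥(Cfsg.qd p)) ≤ p ^ 3
    rw [hk]
    exact Nat.pow_le_pow_right (Fact.out : p.Prime).pos hk3
  -- `P` is isomorphic to `Q`
  have e1 : ↥P ≃* ↥Q := Sylow.equiv P Q
  have e2 : ↥(Q : Subgroup ↥(Cfsg.qd p)) ≃* ↥f.range := MulEquiv.subgroupCongr hQU.symm
  have e3 : Cfsg.Agent.Lib.H19.Heis 1 (ZMod p) ≃* ↥f.range := MonoidHom.ofInjective hf
  exact transfer p ((e1.trans e2).trans e3.symm) hc1 hc2 hc3 hc4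

end Cfsg.Agent.S3074
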