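import Mathlib
import Cfsg.Statements.S1505
import Cfsg.Agent.Lib.H8.CyclicTI
import Cfsg.Agent.Lib.L0.CharOps
import Cfsg.Agent.Lib.L0.CharInner

set_option autoImplicit false
open Cfsg

namespace Cfsg.Agent.S1505

open scoped ComplexConjugate
open Cfsg.Agent.Lib.H8 Cfsg.Agent.Lib.L0

/-- Linear characters as complex functions. -/
def lin {W : Type*} [Group W] (ω : W →* ℂˣ) : W → ℂ := fun w => (ω w : ℂ)

theorem lin_injective {W : Type*} [Group W] : Function.Injective (lin : (W →* ℂˣ) → (W → ℂ)) := by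
  intro ω ω' h
  ext w
  exact congrFun h w

theorem classInner_lin {W : Type*} [Group W] [Fintype W] (ω ω' : W →* ℂˣ) [Decidable (ω = ω')] :
    Cfsg.classInner (lin ω) (lin ω') = if ω = ω' then 1 else 0 := by
  classical
  by_cases h : ω = ω'
  · subst h
    rw [if_pos rfl]
    exact irr_classInner_self (isIrrCharacter_of_hom ω)
  · rw [if_neg h]
    apply irr_classInner_ne (isIrrCharacter_of_hom ω) (isIrrCharacter_of_hom ω')
    intro h'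
    exact h (lin_injective h')

theorem mul_eq_mul_iff {G : Type*} [Group G] (W₁ W₂ : Subgroup G) (φ φ' ψ ψ' : ↥(W₁ ⊔ W₂) →* ℂˣ)
    (hφ : ∀ w : ↥(W₁ ⊔ W₂), (w : G) ∈ W₂ → φ w = 1)
    (hφ' : ∀ w : ↥(W₁ ⊔ W₂), (w : G) ∈ W₂ → φ' w = 1)
    (hψ : ∀ w : ↥(W₁ ⊔ W₂), (w : G) ∈ W₁ → ψ w = 1)
    (hψ' : ∀ w : ↥(W₁ ⊔ W₂), (w : G) ∈ W₁ → ψ' w = 1) :
    φ * ψ = φ' * ψ' ↔ φ = φ' ∧ ψ = ψ' := by
  constructor
  · intro h0
    constructor
    · apply monoidHom_ext_sup W₁ W₂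
      · intro w hw
        have := DFunLike.congr_fun h0 w
        simp only [MonoidHom.mul_apply] at this
        rw [hψ w hw, hψ' w hw, mul_one, mul_one] at this
        exact this
      · intro w hw
        rw [hφ w hw, hφ' w hw]
    · apply monoidHom_ext_sup W₁ W₂
      · intro w hw
        rw [hψ w hw, hψ' w hw]
      · intro w hw
        have := DFunLike.congr_fun h0 w
        simp only [MonoidHom.mul_apply] at this
        rw [hφ w hw, hφ' w hw, one_mul, one_mul] at this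
        exact this
  · rintro ⟨rfl, rfl⟩
    rfl

open Classical in
/-- Let W₁, W₂ ≤ G form a self-normalising cyclic subgroup W = W₁ ⊔ W₂. For nontrivial linear characters φ, φ' of W trivial on W₂ and ψ, ψ' trivial on W₁, put α = (1 − φ)(1 − ψ) and α' = (1 − φ')(1 − ψ'). Then the function induced from α to G has inner product 1 with the principal character, and the inner product of the functions induced from α and α' is 1 + a + b + ab where a = 1 if φ = φ' (else 0) and b = 1 if ψ = ψ' (else 0). -/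
theorem result {G : Type*} [Group G] [Fintype G] (W₁ W₂ : Subgroup G) (hW : Cfsg.IsSelfNormalizingCyclic W₁ W₂) (φ φ' ψ ψ' : ↥(W₁ ⊔ W₂) →* ℂˣ) (hφ : φ ≠ 1) (hφ' : φ' ≠ 1) (hψ : ψ ≠ 1) (hψ' : ψ' ≠ 1) (hφ₂ : ∀ w : ↥(W₁ ⊔ W₂), (w : G) ∈ W₂ → φ w = 1 ∧ φ' w = 1) (hψ₁ : ∀ w : ↥(W₁ ⊔ W₂), (w : G) ∈ W₁ → ψ w = 1 ∧ ψ' w = 1) : Cfsg.classInner (Cfsg.indFun (W₁ ⊔ W₂) (fun w => 1 - (φ w : ℂ) - (ψ w : ℂ) + (φ w : ℂ) * (ψ w : ℂ))) (fun _ => 1) = 1 ∧ Cfsg.classInner (Cfsg.indFun (W₁ ⊔ W₂) (fun w => 1 - (φ w : ℂ) - (ψ w : ℂ) + (φ w : ℂ) * (ψ w : ℂ))) (Cfsg.indFun (W₁ ⊔ W₂) (fun w => 1 - (φ' w : ℂ) - (ψ' w : ℂ) + (φ' w : ℂ) * (ψ' w : ℂ))) = 1 + (if φ = φ' then 1 else 0) + (if ψ = ψ' then 1 else 0) + (if φ = φ' then 1 else 0) * (if ψ = ψ' then 1 else 0) := by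
  classical
  haveI : Fintype ↥(W₁ ⊔ W₂) := Fintype.ofFinite _
  have a1 : ∀ w : ↥(W₁ ⊔ W₂), (w : G) ∈ W₂ → φ w = 1 := fun w h => (hφ₂ w h).1
  have a2 : ∀ w : ↥(W₁ ⊔ W₂), (w : G) ∈ W₂ → φ' w = 1 := fun w h => (hφ₂ w h).2
  have b1 : ∀ w : ↥(W₁ ⊔ W₂), (w : G) ∈ W₁ → ψ w = 1 := fun w h => (hψ₁ w h).1
  have b2 : ∀ w : ↥(W₁ ⊔ W₂), (w : G) ∈ W₁ → ψ' w = 1 := fun w h => (hψ₁ w h).2
  have o1 : ∀ w : ↥(W₁ ⊔ W₂), (w : G) ∈ W₂ → (1 : ↥(W₁ ⊔ W₂) →* ℂˣ) w = 1 := fun _ _ => rfl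
  have o2 : ∀ w : ↥(W₁ ⊔ W₂), (w : G) ∈ W₁ → (1 : ↥(W₁ ⊔ W₂) →* ℂˣ) w = 1 := fun _ _ => rfl
  have hα : (fun w : ↥(W₁ ⊔ W₂) => 1 - (φ w : ℂ) - (ψ w : ℂ) + (φ w : ℂ) * (ψ w : ℂ))
      = lin 1 - lin φ - lin ψ + lin (φ * ψ) := by
    funext w; simp [lin]
  have hα' : (fun w : ↥(W₁ ⊔ W₂) => 1 - (φ' w : ℂ) - (ψ' w : ℂ) + (φ' w : ℂ) * (ψ' w : ℂ))
      = lin 1 - lin φ' - lin ψ' + lin (φ' * ψ') := by
    funext w; simp [lin]
  have hone : (fun _ : ↥(W₁ ⊔ W₂) => (1 : ℂ)) = lin 1 := by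
    funext w; simp [lin]
  have hα0 : ∀ w : ↥(W₁ ⊔ W₂), ((w : G) ∈ W₁ ∨ (w : G) ∈ W₂) →
      (1 - (φ w : ℂ) - (ψ w : ℂ) + (φ w : ℂ) * (ψ w : ℂ)) = 0 := by
    intro w hw
    rcases hw with hw | hw
    · rw [b1 w hw]; simp
    · rw [a1 w hw]; simp
  have hα'0 : ∀ w : ↥(W₁ ⊔ W₂), ((w : G) ∈ W₁ ∨ (w : G) ∈ W₂) →
      (1 - (φ' w : ℂ) - (ψ' w : ℂ) + (φ' w : ℂ) * (ψ' w : ℂ)) = 0 := by
    intro w hw
    rcases hw with hw | hw
    · rw [b2 w hw]; simp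
    · rw [a2 w hw]; simp
  -- (in)equalities of linear characters, all from `mul_eq_mul_iff`
  have key := mul_eq_mul_iff W₁ W₂
  have one_mul' : ∀ ω : ↥(W₁ ⊔ W₂) →* ℂˣ, (1 : ↥(W₁ ⊔ W₂) →* ℂˣ) * ω = ω := fun ω => by
    ext w; simp
  have mul_one' : ∀ ω : ↥(W₁ ⊔ W₂) →* ℂˣ, ω * (1 : ↥(W₁ ⊔ W₂) →* ℂˣ) = ω := fun ω => by
    ext w; simp
  -- the sixteen inner products
  have t11 : Cfsg.classInner (lin (1 : ↥(W₁ ⊔ W₂) →* ℂˣ)) (lin 1) = 1 := by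
    rw [classInner_lin, if_pos rfl]
  have t12 : Cfsg.classInner (lin (1 : ↥(W₁ ⊔ W₂) →* ℂˣ)) (lin φ') = 0 := by
    rw [classInner_lin, if_neg (Ne.symm hφ')]
  have t13 : Cfsg.classInner (lin (1 : ↥(W₁ ⊔ W₂) →* ℂˣ)) (lin ψ') = 0 := by
    rw [classInner_lin, if_neg (Ne.symm hψ')]
  have t14 : Cfsg.classInner (lin (1 : ↥(W₁ ⊔ W₂) →* ℂˣ)) (lin (φ' * ψ')) = 0 := by
    rw [classInner_lin, if_neg]
    intro h
    have := (key 1 φ' 1 ψ' o1 a2 o2 b2).mp (by rw [one_mul']; exact h)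
    exact hφ' this.1.symm
  have t21 : Cfsg.classInner (lin φ) (lin 1) = 0 := by
    rw [classInner_lin, if_neg hφ]
  have t22 : Cfsg.classInner (lin φ) (lin φ') = if φ = φ' then 1 else 0 := classInner_lin _ _
  have t23 : Cfsg.classInner (lin φ) (lin ψ') = 0 := by
    rw [classInner_lin, if_neg]
    intro h
    have := (key φ 1 1 ψ' a1 o1 o2 b2).mp (by rw [one_mul', mul_one']; exact h)
    exact hφ this.1
  have t24 : Cfsg.classInner (lin φ) (lin (φ' * ψ')) = 0 := by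
    rw [classInner_lin, if_neg]
    intro h
    have := (key φ φ' 1 ψ' a1 a2 o2 b2).mp (by rw [mul_one']; exact h)
    exact hψ' this.2.symm
  have t31 : Cfsg.classInner (lin ψ) (lin 1) = 0 := by
    rw [classInner_lin, if_neg hψ]
  have t32 : Cfsg.classInner (lin ψ) (lin φ') = 0 := by
    rw [classInner_lin, if_neg]
    intro h
    have := (key 1 φ' ψ 1 o1 a2 b1 o2).mp (by rw [one_mul', mul_one']; exact h)
    exact hψ this.2
  have t33 : Cfsg.classInner (lin ψ) (lin ψ') = if ψ = ψ' then 1 else 0 := classInner_lin _ _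
  have t34 : Cfsg.classInner (lin ψ) (lin (φ' * ψ')) = 0 := by
    rw [classInner_lin, if_neg]
    intro h
    have := (key 1 φ' ψ ψ' o1 a2 b1 b2).mp (by rw [one_mul']; exact h)
    exact hφ' this.1.symm
  have t41 : Cfsg.classInner (lin (φ * ψ)) (lin 1) = 0 := by
    rw [classInner_lin, if_neg]
    intro h
    have := (key φ 1 ψ 1 a1 o1 b1 o2).mp (by rw [one_mul']; exact h)
    exact hφ this.1
  have t42 : Cfsg.classInner (lin (φ * ψ)) (lin φ') = 0 := by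
    rw [classInner_lin, if_neg]
    intro h
    have := (key φ φ' ψ 1 a1 a2 b1 o2).mp (by rw [mul_one']; exact h)
    exact hψ this.2
  have t43 : Cfsg.classInner (lin (φ * ψ)) (lin ψ') = 0 := by
    rw [classInner_lin, if_neg]
    intro h
    have := (key φ 1 ψ ψ' a1 o1 b1 b2).mp (by rw [one_mul']; exact h)
    exact hφ this.1
  have t44 : Cfsg.classInner (lin (φ * ψ)) (lin (φ' * ψ'))
      = (if φ = φ' then 1 else 0) * (if ψ = ψ' then 1 else 0) := by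
    rw [classInner_lin]
    have := key φ φ' ψ ψ' a1 a2 b1 b2
    by_cases h1 : φ = φ'
    · by_cases h2 : ψ = ψ'
      · rw [if_pos (this.mpr ⟨h1, h2⟩), if_pos h1, if_pos h2, mul_one]
      · rw [if_neg (fun h => h2 (this.mp h).2), if_neg h2, mul_zero]
    · rw [if_neg (fun h => h1 (this.mp h).1), if_neg h1, zero_mul]
  constructor
  · rw [Cfsg.Agent.Lib.H8.frobenius_reciprocity _ _ (fun _ => 1) (fun _ _ => rfl)]
    rw [hα, hone]
    simp only [classInner_add_left, classInner_sub_left, t11, t21, t31, t41]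
    ring
  · rw [Cfsg.Agent.Lib.H8.frobenius_reciprocity _ _ _ (isClassFunction_indFun _ _)]
    have hres : Cfsg.classInner
        (fun w : ↥(W₁ ⊔ W₂) => 1 - (φ w : ℂ) - (ψ w : ℂ) + (φ w : ℂ) * (ψ w : ℂ))
        (fun h : ↥(W₁ ⊔ W₂) => Cfsg.indFun (W₁ ⊔ W₂)
          (fun w => 1 - (φ' w : ℂ) - (ψ' w : ℂ) + (φ' w : ℂ) * (ψ' w : ℂ)) (h : G))
        = Cfsg.classInner
        (fun w : ↥(W₁ ⊔ W₂) => 1 - (φ w : ℂ) - (ψ w : ℂ) + (φ w : ℂ) * (ψ w : ℂ))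
        (fun w : ↥(W₁ ⊔ W₂) => 1 - (φ' w : ℂ) - (ψ' w : ℂ) + (φ' w : ℂ) * (ψ' w : ℂ)) := by
      rw [classInner_def, classInner_def]
      congr 1
      apply Finset.sum_congr rfl
      intro w _
      by_cases h1 : (w : G) ∈ W₁
      · rw [hα0 w (Or.inl h1), zero_mul, zero_mul]
      by_cases h2 : (w : G) ∈ W₂
      · rw [hα0 w (Or.inr h2), zero_mul, zero_mul]
      rw [indFun_eq_of_selfNormalizingCyclic hW _ hα'0 w h1 h2]
    rw [hres, hα, hα']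
    simp only [classInner_add_left, classInner_sub_left, classInner_add_right,
      classInner_sub_right, t11, t12, t13, t14, t21, t22, t23, t24, t31, t32, t33, t34, t41, t42,
      t43, t44]
    ring_nf

end Cfsg.Agent.S1505
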