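import Cfsg.Statements.S0887
import Mathlib
import Cfsg.Agent.Lib.H24.CentralExt
import Cfsg.Agent.Lib.H23.CliffordCorr
import Cfsg.Agent.Lib.H23.Ito
import Cfsg.Agent.Lib.H23.FullyRamified

set_option autoImplicit false
open Cfsg

namespace Cfsg.Agent.S0887

/-- Let N be a normal subgroup of the finite group G, χ an irreducible character of G and ϑ an irreducible character of N having nonzero inner product with the restriction of χ. If χ 1 = c and ϑ 1 = d as natural numbers, then d divides c and c / d divides the index of N. -/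
theorem result {G : Type*} [Group G] [Fintype G] (N : Subgroup G) [N.Normal] [Fintype N] (χ : G → ℂ) (hχ : Cfsg.IsIrrCharacter G χ) (ϑ : N → ℂ) (hϑ : Cfsg.IsIrrCharacter N ϑ) (hcon : Cfsg.classInner (fun n : N => χ n) ϑ ≠ 0) (c d : ℕ) (hc : χ 1 = c) (hd : ϑ 1 = d) : d ∣ c ∧ c / d ∣ N.index := by
  classical
  have hN : N.Normal := inferInstance
  set T : Subgroup G := Cfsg.Agent.Lib.H23.inertia N ϑ with hTdef
  have : Fintype T := Fintype.ofFinite _
  have hNT : N ≤ T := Cfsg.Agent.Lib.H23.le_inertia N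
    (Cfsg.Agent.Lib.L0.isClassFunction_of_isCharacter (Cfsg.Agent.Lib.L0.isCharacter_of_irr hϑ))
  obtain ⟨ψ, hψ, hind, hmult⟩ :=
    Cfsg.Agent.Lib.H23.clifford_correspondence N T hNT ϑ hϑ (fun g => Iff.rfl) χ hχ hcon
  have hcon2 : Cfsg.classInner (Cfsg.Agent.Lib.H23.resTo N T hNT ψ) ϑ ≠ 0 := by
    rw [hmult]; exact hcon
  have hres := Cfsg.Agent.Lib.H23.restrict_inertia_eq_smul N T hNT ϑ hϑ (fun g hg => hg) ψ hψ hcon2
  obtain ⟨e, he⟩ := Cfsg.Agent.Lib.L0.classInner_char_irr_nat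
    (Cfsg.Agent.Lib.H23.isCharacter_resTo N T hNT (Cfsg.Agent.Lib.L0.isCharacter_of_irr hψ)) hϑ
  have he0 : e ≠ 0 := by
    rintro rfl
    apply hcon2
    rw [he, Nat.cast_zero]
  have hdvd := Cfsg.Agent.Lib.H24.ramification_dvd_relIndex N T hNT ϑ hϑ (fun g hg => hg) ψ hψ e
    he he0
  -- degrees
  have hψ1 : ψ 1 = (e : ℂ) * (d : ℂ) := by
    have h1 := congrFun hres 1
    rw [he] at h1
    simp only [Pi.smul_apply, smul_eq_mul] at h1
    rw [← hd, ← h1]
    rfl
  have hc' : (c : ℂ) = ((T.index * (e * d) : ℕ) : ℂ) := by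
    rw [← hc, ← hind, Cfsg.Agent.Lib.H23.indFun_one', hψ1]
    push_cast
    ring
  have hc'' : c = T.index * (e * d) := by exact_mod_cast hc'
  have hd0 : d ≠ 0 := by
    rintro rfl
    have h0 : ϑ 1 = 0 := by rw [hd, Nat.cast_zero]
    exact Cfsg.Agent.Lib.H24.irr_one_ne_zero ⟨ϑ, hϑ⟩ h0
  constructor
  · rw [hc'']
    exact ⟨T.index * e, by ring⟩
  · have h1 : c / d = T.index * e := by
      rw [hc'', show T.index * (e * d) = (T.index * e) * d by ring]
      exact Nat.mul_div_cancel _ (Nat.pos_of_ne_zero hd0)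
    rw [h1, ← Subgroup.relIndex_mul_index hNT, mul_comm]
    exact Nat.mul_dvd_mul hdvd (dvd_refl _)

end Cfsg.Agent.S0887
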