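import Cfsg.Statements.S0606
import Cfsg.Agent.Lib.H3.Thompson
import Mathlib

set_option autoImplicit false
open Cfsg

namespace Cfsg.Agent.S0606

open Cfsg.Agent.Lib.H3

/-- Elementary abelian p-subgroups of maximal order are best offenders on any normal elementary abelian p-subgroup. -/
theorem result {G : Type*} [Group G] [Finite G] {p : ℕ} [Fact p.Prime] (V : Subgroup G) [V.Normal] (hV : Cfsg.IsElementaryAbelian p V) (A : Subgroup G) (hA : A ∈ Cfsg.maxElementaryAbelianSubgroups p G) : Cfsg.IsBestOffenderOn p V A := by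
  have hAA : A ≤ Subgroup.centralizer (A : Set G) := Subgroup.le_centralizer_iff_isMulCommutative.2 hA.1.1
  refine ⟨?_, ?_, ?_⟩
  · intro B hBA
    set W := V ⊓ Subgroup.centralizer (B : Set G) with hW
    have hBe : IsElementaryAbelian p B := elemAb_mono hBA hA.1
    have hWe : IsElementaryAbelian p W := elemAb_mono inf_le_left hV
    have hM : IsElementaryAbelian p (B ⊔ W) := elemAb_sup hBe hWe inf_le_right
    have h1 : Nat.card (B ⊔ W : Subgroup G) ≤ Nat.card A := hA.2 _ hM
    have h2 : B ⊓ W ≤ V ⊓ Subgroup.centralizer (A : Set G) := by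
      intro x hx
      exact ⟨hx.2.1, hAA (hBA hx.1)⟩
    have h3 : Nat.card (B ⊓ W : Subgroup G) ≤ Nat.card (V ⊓ Subgroup.centralizer (A : Set G) : Subgroup G) :=
      Nat.le_of_dvd Nat.card_pos (Subgroup.card_dvd_of_le h2)
    calc Nat.card B * Nat.card W ≤ Nat.card (B ⊔ W : Subgroup G) * Nat.card (B ⊓ W : Subgroup G) :=
          card_mul_card_le B W
      _ ≤ Nat.card A * Nat.card (V ⊓ Subgroup.centralizer (A : Set G) : Subgroup G) :=
          Nat.mul_le_mul h1 h3
  · have : ⁅A, A⁆ = ⊥ := Subgroup.commutator_eq_bot_iff_le_centralizer.2 hAA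
    rw [this]; exact bot_le
  · intro a ha
    rw [hA.1.2 a ha]; exact Subgroup.one_mem _

end Cfsg.Agent.S0606
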