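import Mathlib
import Cfsg.Statements.S0991

set_option autoImplicit false
open Cfsg

namespace Cfsg.Agent.S0991

/-- Embedding Theorem: if a non-abelian finite simple group has a proper subgroup of index n, then it is isomorphic to a subgroup of the alternating group of degree n. -/
theorem result {G : Type*} [Group G] [Finite G] [IsSimpleGroup G] (hG : ¬ IsMulCommutative G) (H : Subgroup G) (hH : H ≠ ⊤) : ∃ f : G →* ↥(alternatingGroup (Fin H.index)), Function.Injective f := by
  classical
  -- the action on cosets
  let e : (G ⧸ H) ≃ Fin H.index := Finite.equivFin (G ⧸ H)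
  let φ : G →* Equiv.Perm (Fin H.index) :=
    (e.permCongrHom).toMonoidHom.comp (MulAction.toPermHom G (G ⧸ H))
  have hker : φ.ker = ⊥ := by
    rcases (φ.normal_ker.eq_bot_or_eq_top) with h | h
    · exact h
    · exfalso
      apply hH
      rw [eq_top_iff]
      intro g _
      have hg : g ∈ φ.ker := by rw [h]; trivial
      rw [MonoidHom.mem_ker] at hg
      have h1 : MulAction.toPermHom G (G ⧸ H) g = 1 := by
        have : (e.permCongrHom) (MulAction.toPermHom G (G ⧸ H) g) = (e.permCongrHom) 1 := by
          rw [map_one]; exact hg
        exact (e.permCongrHom).injective this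
      have h2 : g • (QuotientGroup.mk 1 : G ⧸ H) = QuotientGroup.mk 1 := by
        have := congrArg (fun σ : Equiv.Perm (G ⧸ H) => σ (QuotientGroup.mk 1)) h1
        simpa using this
      have h3 : (QuotientGroup.mk (g * 1) : G ⧸ H) = QuotientGroup.mk 1 := h2
      rw [mul_one] at h3
      have := QuotientGroup.eq.mp h3
      simpa using this
  have hinj : Function.Injective φ := (MonoidHom.ker_eq_bot_iff φ).mp hker
  -- sign ∘ φ is trivial
  let s : G →* ℤˣ := Equiv.Perm.sign.comp φ
  have hs : s.ker = ⊤ := by
    rcases (s.normal_ker.eq_bot_or_eq_top) with h | h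
    · exfalso
      apply hG
      have sinj : Function.Injective s := (MonoidHom.ker_eq_bot_iff s).mp h
      refine ⟨⟨fun a b => sinj ?_⟩⟩
      rw [map_mul, map_mul, mul_comm]
    · exact h
  refine ⟨φ.codRestrict (alternatingGroup (Fin H.index)) ?_, ?_⟩
  · intro g
    rw [Equiv.Perm.mem_alternatingGroup]
    have : g ∈ s.ker := by rw [hs]; trivial
    exact this
  · intro a b hab
    apply hinj
    have := congrArg Subtype.val hab
    simpa using this

end Cfsg.Agent.S0991
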