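import Cfsg.Statements.S0785
import Cfsg.Agent.Lib.H4.Orth
import Cfsg.Agent.S0784

set_option autoImplicit false
universe u
open Cfsg

namespace Cfsg.Agent.S0785

theorem mem_isometryGroup_iff {F : Type*} [Field F] {n : ℕ} (Q : (Fin n → F) → F)
    (g : Matrix.GeneralLinearGroup (Fin n) F) :
    g ∈ Cfsg.isometryGroup F Q ↔ ∀ u, Q ((g : Matrix (Fin n) (Fin n) F).mulVec u) = Q u := by
  constructor
  · intro h u
    exact h u u
  · intro h u _
    exact h u

theorem result {F : Type*} [Field F] {n : ℕ} (Q : QuadraticForm F (Fin n → F)) (hQ : (QuadraticMap.polarBilin Q).Nondegenerate) : (∀ g : ↥(Cfsg.isometryGroup F ⇑Q), ((g : Matrix.GeneralLinearGroup (Fin n) F) : Matrix (Fin n) (Fin n) F).det = 1 ∨ ((g : Matrix.GeneralLinearGroup (Fin n) F) : Matrix (Fin n) (Fin n) F).det = -1) ∧ ((∃ v, Q v ≠ 0) → ∃ g : ↥(Cfsg.isometryGroup F ⇑Q), ((g : Matrix.GeneralLinearGroup (Fin n) F) : Matrix (Fin n) (Fin n) F).det = -1) := by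
  constructor
  · rintro ⟨g, hg⟩
    rw [mem_isometryGroup_iff] at hg
    set M : Matrix (Fin n) (Fin n) F := (g : Matrix (Fin n) (Fin n) F) with hM
    have hpol : ∀ u v, QuadraticMap.polarBilin Q (M.mulVec u) (M.mulVec v) = QuadraticMap.polarBilin Q u v := by
      intro u v
      simp only [QuadraticMap.polarBilin_apply_apply, QuadraticMap.polar]
      rw [← Matrix.mulVec_add, hg, hg, hg]
    set B : LinearMap.BilinForm F (Fin n → F) := QuadraticMap.polarBilin Q with hBdef
    have hcomp : B.comp (Matrix.toLin' M) (Matrix.toLin' M) = B := by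
      ext u v
      exact hpol _ _
    have hmat := LinearMap.BilinForm.toMatrix'_comp B (Matrix.toLin' M) (Matrix.toLin' M)
    rw [hcomp, LinearMap.toMatrix'_toLin'] at hmat
    have hdet : (LinearMap.BilinForm.toMatrix' B).det ≠ 0 := by
      have := (LinearMap.BilinForm.nondegenerate_iff_det_ne_zero (Pi.basisFun F (Fin n))).mp hQ
      rwa [LinearMap.BilinForm.toMatrix_basisFun] at this
    have h2 := congrArg Matrix.det hmat
    rw [Matrix.det_mul, Matrix.det_mul, Matrix.det_transpose] at h2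
    have h3 : M.det * M.det = 1 := by
      have : (LinearMap.BilinForm.toMatrix' B).det * (M.det * M.det) = (LinearMap.BilinForm.toMatrix' B).det * 1 := by
        rw [mul_one]; conv_rhs => rw [h2]
        ring
      exact mul_left_cancel₀ hdet this
    show M.det = 1 ∨ M.det = -1
    exact mul_self_eq_one_iff.mp h3
  · rintro ⟨v, hv⟩
    obtain ⟨h1, -, -, h4⟩ := Cfsg.Agent.S0784.result Q v hv
    have hdet : (Cfsg.reflectionMatrix (⇑Q) v).det ≠ 0 := by rw [h4]; simp
    refine ⟨⟨Matrix.GeneralLinearGroup.mkOfDetNeZero _ hdet, ?_⟩, ?_⟩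
    · rw [mem_isometryGroup_iff]
      intro u
      exact h1 u
    · exact h4

end Cfsg.Agent.S0785
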