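import Cfsg.Statements.S0750
-- import your own Cfsg.Agent.* helpers here

set_option autoImplicit false
open Cfsg

namespace Cfsg.Agent.S0750

variable {F V : Type*} [Field F] [AddCommGroup V] [Module F V] (Q : QuadraticForm F V)

set_option quotPrecheck false in
local notation "P" => QuadraticMap.polar (⇑Q)

theorem Q_two (v z w : V) (a b : F) :
    Q (v + a • z + b • w) = Q v + a * a * Q z + b * b * Q w + a * P v z + b * P v w
      + a * b * P z w := by
  rw [QuadraticMap.map_add (⇑Q), QuadraticMap.map_add (⇑Q), QuadraticMap.map_smul,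
    QuadraticMap.map_smul, QuadraticMap.polar_add_left, QuadraticMap.polar_smul_right,
    QuadraticMap.polar_smul_right, QuadraticMap.polar_smul_right, QuadraticMap.polar_smul_left]
  simp only [smul_eq_mul]
  ring

/-- `v ↦ v + f v • z + h v • w` -/
def twoMap (f h : V →ₗ[F] F) (z w : V) : V →ₗ[F] V :=
  LinearMap.id + f.smulRight z + h.smulRight w

theorem twoMap_apply (f h : V →ₗ[F] F) (z w v : V) :
    twoMap f h z w v = v + f v • z + h v • w := by
  simp [twoMap]

theorem polar_of_isometry (g : V →ₗ[F] V) (hg : ∀ v, Q (g v) = Q v) (u v : V) :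
    P (g u) (g v) = P u v := by
  simp only [QuadraticMap.polar, ← map_add, hg]

theorem exists_equiv_of_isometry [FiniteDimensional F V]
    (hQ : (QuadraticMap.polarBilin Q).Nondegenerate) (g : V →ₗ[F] V)
    (hg : ∀ v, Q (g v) = Q v) : ∃ t : V ≃ₗ[F] V, ∀ v, t v = g v := by
  have hinj : Function.Injective g := by
    rw [← LinearMap.ker_eq_bot, LinearMap.ker_eq_bot']
    intro v hv
    apply hQ.1 v
    intro w
    show P v w = 0
    rw [← polar_of_isometry Q g hg, hv]
    simp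
  exact ⟨LinearEquiv.ofInjectiveEndo g hinj, fun v => rfl⟩

theorem Q_sub' (w v : V) : Q (w - v) = Q w + Q v - P w v := by
  rw [sub_eq_add_neg, QuadraticMap.map_add (⇑Q), QuadraticMap.map_neg, QuadraticMap.polar_neg_right]
  ring

theorem polar_self' (v : V) : P v v = 2 * Q v := by
  simp only [QuadraticMap.polar, QuadraticMap.map_add_self]
  ring

/-- Case 1: reflection -/
theorem key_refl [FiniteDimensional F V] (hQ : (QuadraticMap.polarBilin Q).Nondegenerate)
    (X₀ : Submodule F V) (x y : V) (hQxy : Q y = Q x) (hz : Q (y - x) ≠ 0)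
    (hperp : ∀ h ∈ X₀, P (y - x) h = 0) :
    ∃ t : V ≃ₗ[F] V, (∀ v, Q (t v) = Q v) ∧ (∀ h ∈ X₀, t h = h) ∧ t x = y := by
  obtain ⟨z, hzdef⟩ : ∃ z, z = y - x := ⟨_, rfl⟩
  rw [← hzdef] at hz hperp
  obtain ⟨f, hf⟩ : ∃ f : V →ₗ[F] F, ∀ v, f v = -(Q z)⁻¹ * P z v :=
    ⟨(-(Q z)⁻¹) • (QuadraticMap.polarBilin Q z), fun v => rfl⟩
  have hg : ∀ v, Q (twoMap f 0 z 0 v) = Q v := by
    intro v
    rw [twoMap_apply, Q_two, hf, QuadraticMap.polar_comm (⇑Q) v z]
    simp only [LinearMap.zero_apply, zero_mul, mul_zero, add_zero]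
    field_simp
    ring
  obtain ⟨t, ht⟩ := exists_equiv_of_isometry Q hQ _ hg
  refine ⟨t, fun v => by rw [ht, hg], ?_, ?_⟩
  · intro h hh
    rw [ht, twoMap_apply, hf, hperp h hh]
    simp
  · rw [ht, twoMap_apply, hf]
    have e : P z x = - Q z := by
      rw [hzdef, QuadraticMap.polar_sub_left, polar_self', Q_sub', hQxy]
      ring
    rw [e]
    simp only [LinearMap.zero_apply, zero_smul, add_zero]
    rw [neg_mul_neg, inv_mul_cancel₀ hz, one_smul, hzdef]
    abel

/-- Case 2a: Siegel transformation -/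
theorem key_siegel [FiniteDimensional F V] (hQ : (QuadraticMap.polarBilin Q).Nondegenerate)
    (X₀ : Submodule F V) (x z w : V) (hz : Q z = 0) (hxz : P z x = 0)
    (hwz : P z w = 0) (hwX : ∀ h ∈ X₀, P w h = 0) (hxw : P w x = 1)
    (hperp : ∀ h ∈ X₀, P z h = 0) :
    ∃ t : V ≃ₗ[F] V, (∀ v, Q (t v) = Q v) ∧ (∀ h ∈ X₀, t h = h) ∧ t x = x + z := by
  obtain ⟨f, hf⟩ : ∃ f : V →ₗ[F] F, ∀ v, f v = P w v - Q w * P z v :=
    ⟨QuadraticMap.polarBilin Q w - (Q w) • (QuadraticMap.polarBilin Q z), fun v => rfl⟩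
  obtain ⟨k, hk⟩ : ∃ k : V →ₗ[F] F, ∀ v, k v = - P z v :=
    ⟨-(QuadraticMap.polarBilin Q z), fun v => rfl⟩
  have hg : ∀ v, Q (twoMap f k z w v) = Q v := by
    intro v
    rw [twoMap_apply, Q_two, hf, hk, hz, hwz, QuadraticMap.polar_comm (⇑Q) v z,
      QuadraticMap.polar_comm (⇑Q) v w]
    ring
  obtain ⟨t, ht⟩ := exists_equiv_of_isometry Q hQ _ hg
  refine ⟨t, fun v => by rw [ht, hg], ?_, ?_⟩
  · intro h hh
    rw [ht, twoMap_apply, hf, hk, hperp h hh, hwX h hh]
    simp
  · rw [ht, twoMap_apply, hf, hk, hxz, hxw]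
    simp

/-- Case 2b: hyperbolic rotation -/
theorem key_rot [FiniteDimensional F V] (hQ : (QuadraticMap.polarBilin Q).Nondegenerate)
    (X₀ : Submodule F V) (z z' : V) (hz : Q z = 0) (hz' : Q z' = 0) (hzz' : P z z' = 1)
    (lam : F) (hlam : lam ≠ 0) (hzX : ∀ h ∈ X₀, P z h = 0) (hz'X : ∀ h ∈ X₀, P z' h = 0) :
    ∃ t : V ≃ₗ[F] V, (∀ v, Q (t v) = Q v) ∧ (∀ h ∈ X₀, t h = h) ∧ t z = lam • z := by
  obtain ⟨f, hf⟩ : ∃ f : V →ₗ[F] F, ∀ v, f v = (lam - 1) * P z' v :=
    ⟨(lam - 1) • (QuadraticMap.polarBilin Q z'), fun v => rfl⟩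
  obtain ⟨k, hk⟩ : ∃ k : V →ₗ[F] F, ∀ v, k v = (lam⁻¹ - 1) * P z v :=
    ⟨(lam⁻¹ - 1) • (QuadraticMap.polarBilin Q z), fun v => rfl⟩
  have hg : ∀ v, Q (twoMap f k z z' v) = Q v := by
    intro v
    rw [twoMap_apply, Q_two, hf, hk, hz, hz', hzz', QuadraticMap.polar_comm (⇑Q) v z,
      QuadraticMap.polar_comm (⇑Q) v z']
    field_simp
    ring
  obtain ⟨t, ht⟩ := exists_equiv_of_isometry Q hQ _ hg
  refine ⟨t, fun v => by rw [ht, hg], ?_, ?_⟩
  · intro h hh
    rw [ht, twoMap_apply, hf, hk, hzX h hh, hz'X h hh]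
    simp
  · rw [ht, twoMap_apply, hf, hk, polar_self', hz, QuadraticMap.polar_comm (⇑Q) z' z, hzz']
    simp only [mul_zero, mul_one, zero_smul, add_zero]
    rw [sub_smul, one_smul]
    abel

/-- a vector outside `M` is detected by some vector of `M^⊥` -/
theorem exists_perp_of_not_mem [FiniteDimensional F V]
    (hQ : (QuadraticMap.polarBilin Q).Nondegenerate) (M : Submodule F V) (a : V) (ha : a ∉ M) :
    ∃ w, (∀ m ∈ M, P w m = 0) ∧ P w a ≠ 0 := by
  obtain ⟨B, hB⟩ : ∃ B : LinearMap.BilinForm F V, B = QuadraticMap.polarBilin Q := ⟨_, rfl⟩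
  have hBapp : ∀ x y, B x y = P x y := fun x y => by rw [hB]; rfl
  have hsymm : ∀ x y, B x y = B y x := fun x y => by
    rw [hBapp, hBapp, QuadraticMap.polar_comm]
  have hrefl : B.IsRefl := fun x y h => by rw [hsymm, h]
  have hQ' : B.Nondegenerate := hB ▸ hQ
  by_contra hcon
  push Not at hcon
  apply ha
  rw [← LinearMap.BilinForm.orthogonal_orthogonal hQ' hrefl M,
    LinearMap.BilinForm.mem_orthogonal_iff]
  intro w hw
  show B w a = 0
  rw [hBapp]
  apply hcon
  intro m hm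
  rw [← hBapp, hsymm]
  exact (LinearMap.BilinForm.mem_orthogonal_iff.1 hw) m hm

theorem key [FiniteDimensional F V] (hQ : (QuadraticMap.polarBilin Q).Nondegenerate)
    (X₀ : Submodule F V) (x y : V) (hx : x ∉ X₀) (hy : y ∉ X₀) (hQxy : Q y = Q x)
    (hperp : ∀ h ∈ X₀, P (y - x) h = 0) :
    ∃ t : V ≃ₗ[F] V, (∀ v, Q (t v) = Q v) ∧ (∀ h ∈ X₀, t h = h) ∧ t x = y := by
  by_cases hQz : Q (y - x) ≠ 0
  · exact key_refl Q hQ X₀ x y hQxy hQz hperp
  rw [not_not] at hQz
  obtain ⟨z, hzdef⟩ : ∃ z, z = y - x := ⟨_, rfl⟩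
  rw [← hzdef] at hQz hperp
  have hyz : y = x + z := by rw [hzdef]; abel
  have hzx : P z x = 0 := by
    have h1 : P z x = - Q z := by
      rw [hzdef, QuadraticMap.polar_sub_left, polar_self', Q_sub', hQxy]
      ring
    rw [h1, hQz, neg_zero]
  by_cases hxm : x ∈ X₀ ⊔ Submodule.span F {z}
  · -- rotation
    obtain ⟨h₀, hh₀, u, hu, hxu⟩ := Submodule.mem_sup.1 hxm
    obtain ⟨c, rfl⟩ := Submodule.mem_span_singleton.1 hu
    have hc : c ≠ 0 := by
      rintro rfl
      apply hx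
      rw [← hxu, zero_smul, add_zero]
      exact hh₀
    have hc1 : c + 1 ≠ 0 := by
      intro h
      apply hy
      rw [hyz, ← hxu]
      have : h₀ + c • z + z = h₀ + (c + 1) • z := by rw [add_smul, one_smul]; abel
      rw [this, h, zero_smul, add_zero]
      exact hh₀
    have hzX : z ∉ X₀ := by
      intro h
      apply hx
      rw [← hxu]
      exact X₀.add_mem hh₀ (X₀.smul_mem c h)
    obtain ⟨w, hwX, hwz⟩ := exists_perp_of_not_mem Q hQ X₀ z hzX
    -- normalise
    obtain ⟨z₁, hz₁⟩ : ∃ z₁, z₁ = (P w z)⁻¹ • w := ⟨_, rfl⟩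
    have hz₁z : P z z₁ = 1 := by
      rw [hz₁, QuadraticMap.polar_smul_right, QuadraticMap.polar_comm (⇑Q) z w, smul_eq_mul,
        inv_mul_cancel₀ hwz]
    have hz₁X : ∀ h ∈ X₀, P z₁ h = 0 := by
      intro h hh
      rw [hz₁, QuadraticMap.polar_smul_left, hwX h hh, smul_zero]
    obtain ⟨z', hz'⟩ : ∃ z', z' = z₁ - Q z₁ • z := ⟨_, rfl⟩
    have hQz' : Q z' = 0 := by
      rw [hz', Q_sub', QuadraticMap.map_smul, hQz, QuadraticMap.polar_smul_right,
        QuadraticMap.polar_comm (⇑Q) z₁ z, hz₁z]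
      simp
    have hzz' : P z z' = 1 := by
      rw [hz', QuadraticMap.polar_sub_right, QuadraticMap.polar_smul_right, polar_self', hQz,
        hz₁z]
      simp
    have hz'X : ∀ h ∈ X₀, P z' h = 0 := by
      intro h hh
      rw [hz', QuadraticMap.polar_sub_left, QuadraticMap.polar_smul_left, hz₁X h hh,
        hperp h hh]
      simp
    obtain ⟨t, htQ, htX, htz⟩ := key_rot Q hQ X₀ z z' hQz hQz' hzz' ((c + 1) / c)
      (div_ne_zero hc1 hc) hperp hz'X
    refine ⟨t, htQ, htX, ?_⟩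
    rw [hyz, ← hxu, map_add, map_smul, htX h₀ hh₀, htz, smul_smul, mul_div_cancel₀ _ hc,
      add_smul, one_smul]
    abel
  · -- Siegel
    obtain ⟨w₀, hw₀M, hw₀x⟩ := exists_perp_of_not_mem Q hQ _ x hxm
    obtain ⟨w, hw⟩ : ∃ w, w = (P w₀ x)⁻¹ • w₀ := ⟨_, rfl⟩
    have hwx : P w x = 1 := by
      rw [hw, QuadraticMap.polar_smul_left, smul_eq_mul, inv_mul_cancel₀ hw₀x]
    have hwM : ∀ m ∈ X₀ ⊔ Submodule.span F {z}, P w m = 0 := by
      intro m hm
      rw [hw, QuadraticMap.polar_smul_left, hw₀M m hm, smul_zero]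
    have hwz : P z w = 0 := by
      rw [QuadraticMap.polar_comm]
      exact hwM z (Submodule.mem_sup_right (Submodule.mem_span_singleton_self z))
    have hwX : ∀ h ∈ X₀, P w h = 0 := fun h hh => hwM h (Submodule.mem_sup_left hh)
    obtain ⟨t, htQ, htX, htx⟩ := key_siegel Q hQ X₀ x z w hQz hzx hwz hwX hwx hperp
    exact ⟨t, htQ, htX, by rw [htx, hyz]⟩

/-- Witt for linearly independent families -/
theorem witt_family [FiniteDimensional F V] (hQ : (QuadraticMap.polarBilin Q).Nondegenerate)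
    (n : ℕ) :
    ∀ (x y : Fin n → V), LinearIndependent F x → LinearIndependent F y →
      (∀ i, Q (y i) = Q (x i)) → (∀ i j, P (y i) (y j) = P (x i) (x j)) →
      ∃ g : V ≃ₗ[F] V, (∀ v, Q (g v) = Q v) ∧ ∀ i, g (x i) = y i := by
  induction n with
  | zero =>
    intro x y _ _ _ _
    exact ⟨LinearEquiv.refl F V, fun v => rfl, fun i => i.elim0⟩
  | succ n ih =>
    intro x y hx hy hQxy hxy
    have hx' : LinearIndependent F (Fin.init x) := hx.comp _ (Fin.castSucc_injective n)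
    have hy' : LinearIndependent F (Fin.init y) := hy.comp _ (Fin.castSucc_injective n)
    obtain ⟨g₀, hg₀iso, hg₀⟩ := ih (Fin.init x) (Fin.init y) hx' hy'
      (fun i => hQxy (Fin.castSucc i)) (fun i j => hxy (Fin.castSucc i) (Fin.castSucc j))
    have hg₀pol : ∀ u v, P (g₀ u) (g₀ v) = P u v :=
      polar_of_isometry Q (g₀ : V →ₗ[F] V) hg₀iso
    obtain ⟨X₀, hX₀⟩ : ∃ X₀ : Submodule F V, X₀ = Submodule.span F (Set.range (Fin.init x)) :=
      ⟨_, rfl⟩
    obtain ⟨x₁, hx₁⟩ : ∃ x₁ : V, x₁ = x (Fin.last n) := ⟨_, rfl⟩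
    obtain ⟨y₁, hy₁⟩ : ∃ y₁ : V, y₁ = g₀.symm (y (Fin.last n)) := ⟨_, rfl⟩
    have hx₁X₀ : x₁ ∉ X₀ := by
      have := hx
      rw [← Fin.snoc_init_self x, linearIndependent_finSnoc] at this
      rw [hx₁, hX₀]
      exact this.2
    have hg₀X₀ : ∀ z ∈ X₀, g₀ z ∈ Submodule.span F (Set.range (Fin.init y)) := by
      intro z hz
      have : X₀ ≤ (Submodule.span F (Set.range (Fin.init y))).comap (g₀ : V →ₗ[F] V) := by
        rw [hX₀, Submodule.span_le]
        rintro _ ⟨i, rfl⟩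
        show g₀ (Fin.init x i) ∈ Submodule.span F (Set.range (Fin.init y))
        rw [hg₀ i]
        exact Submodule.subset_span ⟨i, rfl⟩
      exact this hz
    have hy₁X₀ : y₁ ∉ X₀ := by
      intro hcon
      have h1 := hg₀X₀ y₁ hcon
      rw [hy₁, LinearEquiv.apply_symm_apply] at h1
      have := hy
      rw [← Fin.snoc_init_self y, linearIndependent_finSnoc] at this
      exact this.2 h1
    have hQ₁ : Q y₁ = Q x₁ := by
      rw [← hg₀iso y₁, hy₁, LinearEquiv.apply_symm_apply, hx₁]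
      exact hQxy (Fin.last n)
    have hperp : ∀ z ∈ X₀, P (y₁ - x₁) z = 0 := by
      have : X₀ ≤ LinearMap.ker (QuadraticMap.polarBilin Q (y₁ - x₁)) := by
        rw [hX₀, Submodule.span_le]
        rintro _ ⟨i, rfl⟩
        rw [SetLike.mem_coe, LinearMap.mem_ker]
        show P (y₁ - x₁) (Fin.init x i) = 0
        rw [QuadraticMap.polar_sub_left, sub_eq_zero, ← hg₀pol y₁, hy₁,
          LinearEquiv.apply_symm_apply, hg₀ i, hx₁]
        exact hxy (Fin.last n) (Fin.castSucc i)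
      intro z hz
      exact this hz
    obtain ⟨t, htiso, htfix, htx⟩ := key Q hQ X₀ x₁ y₁ hx₁X₀ hy₁X₀ hQ₁ hperp
    refine ⟨t.trans g₀, ?_, ?_⟩
    · intro v
      simp only [LinearEquiv.trans_apply]
      rw [hg₀iso, htiso]
    · intro i
      simp only [LinearEquiv.trans_apply]
      refine Fin.lastCases ?_ (fun i => ?_) i
      · rw [← hx₁, htx, hy₁, LinearEquiv.apply_symm_apply]
      · have : x (Fin.castSucc i) ∈ X₀ := by
          rw [hX₀]; exact Submodule.subset_span ⟨i, rfl⟩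
        rw [htfix _ this]
        exact hg₀ i

/-- Witt's Lemma for quadratic forms over a finite field, in any characteristic: if Q is a quadratic form on a finite-dimensional space V whose polar bilinear form is non-degenerate, then every linear equivalence between subspaces X, Y of V that preserves Q extends to a Q-preserving linear automorphism of V. (In odd characteristic this is the symmetric-bilinear case; in characteristic two it is the statement for non-degenerate quadratic forms.) -/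
theorem result {F V : Type*} [Field F] [Finite F] [AddCommGroup V] [Module F V] [FiniteDimensional F V] (Q : QuadraticForm F V) (hQ : (QuadraticMap.polarBilin Q).Nondegenerate) (X Y : Submodule F V) (φ : X ≃ₗ[F] Y) (hφ : ∀ x : X, Q (φ x : V) = Q (x : V)) : ∃ g : V ≃ₗ[F] V, (∀ v : V, Q (g v) = Q v) ∧ ∀ x : X, g (x : V) = (φ x : V) := by
  let bX := Module.finBasis F X
  have hx : LinearIndependent F (fun i => (bX i : V)) :=
    bX.linearIndependent.map' X.subtype (Submodule.ker_subtype X)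
  have hy : LinearIndependent F (fun i => (φ (bX i) : V)) := by
    have h1 : LinearIndependent F (fun i => φ (bX i)) :=
      bX.linearIndependent.map' (φ : X →ₗ[F] Y) φ.ker
    exact h1.map' Y.subtype (Submodule.ker_subtype Y)
  obtain ⟨g, hgiso, hg⟩ := witt_family Q hQ _ _ _ hx hy (fun i => hφ (bX i)) (fun i j => by
    simp only [QuadraticMap.polar]
    have h1 := hφ (bX i + bX j)
    simp only [map_add, Submodule.coe_add] at h1
    rw [h1, hφ, hφ])
  refine ⟨g, hgiso, ?_⟩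
  have : (g : V →ₗ[F] V).comp X.subtype = Y.subtype.comp (φ : X →ₗ[F] Y) := by
    apply bX.ext
    intro i
    exact hg i
  intro x
  exact congrArg (fun f : X →ₗ[F] V => f x) this

end Cfsg.Agent.S0750
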