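import Mathlib
import Cfsg.Statements.S0289
import Cfsg.Agent.Lib.H2.FiberCount

set_option autoImplicit false
open Cfsg

namespace Cfsg.Agent.S0289

open Matrix Cfsg.Agent.Lib.H2

/-- The hyperbolic quadratic form on F^(2m), m at least 1, has q^(2m-1) + q^m - q^(m-1) zeros (that is, (q^m - 1)(q^(m-1) + 1) non-zero isotropic vectors). -/
theorem result {F : Type*} [Field F] [Fintype F] {q : ℕ} (hF : Fintype.card F = q) (m : ℕ) (hm : 1 ≤ m) : Nat.card {v : Fin m ⊕ Fin m → F // Cfsg.quadFormPlus m F v = 0} = q ^ (2 * m - 1) + q ^ m - q ^ (m - 1) := by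
  classical
  have e : {v : Fin m ⊕ Fin m → F // Cfsg.quadFormPlus m F v = 0} ≃
      {p : (Fin m → F) × (Fin m → F) // p.1 ⬝ᵥ p.2 = 0} :=
    (Equiv.sumArrowEquivProdArrow (Fin m) (Fin m) F).subtypeEquiv (fun v => Iff.rfl)
  rw [Nat.card_congr e, card_hyp m (0 : F), if_pos rfl, hF]
  have h1 : q ^ m * q ^ (m - 1) = q ^ (2 * m - 1) := by
    rw [← pow_add]; congr 1; omega
  have h2 : q ^ (m - 1) ≤ q ^ (2 * m - 1) := by
    have hq : 0 < q := by rw [← hF]; exact Fintype.card_pos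
    exact Nat.pow_le_pow_right hq (by omega)
  rw [Nat.sub_mul, one_mul, h1]
  omega

end Cfsg.Agent.S0289
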