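import Cfsg.Statements.S0287
import Cfsg.Agent.Lib.H11.OrthStep
import Cfsg.Agent.Lib.H13.StdForm
import Cfsg.Agent.S0289
-- import your own Cfsg.Agent.* helpers here

set_option autoImplicit false
open Cfsg

namespace Cfsg.Agent.S0287

open Matrix Cfsg.Agent.Lib.H11.OrthStep Cfsg.Agent.Lib.H13

variable {F : Type*} [Field F]

abbrev K (m : ℕ) : Type := Fin m ⊕ Fin m

/-- `K (m+1) ≃ K m ⊕ Bool` -/
def sig (m : ℕ) : K (m + 1) ≃ K m ⊕ Bool where
  toFun := Sum.elim (Fin.lastCases (Sum.inr false) (fun i => Sum.inl (Sum.inl i)))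
    (Fin.lastCases (Sum.inr true) (fun i => Sum.inl (Sum.inr i)))
  invFun := Sum.elim (Sum.map Fin.castSucc Fin.castSucc)
    (fun b => bif b then Sum.inr (Fin.last m) else Sum.inl (Fin.last m))
  left_inv := by
    rintro (i | i) <;> refine Fin.lastCases ?_ (fun j => ?_) i <;> simp
  right_inv := by
    rintro ((i | i) | b)
    · simp
    · simp
    · cases b <;> simp

theorem emb_inl (m : ℕ) (i : Fin m) : emb (sig m) (Sum.inl i) = Sum.inl i.castSucc := rfl
theorem emb_inr (m : ℕ) (i : Fin m) : emb (sig m) (Sum.inr i) = Sum.inr i.castSucc := rfl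
theorem ia_eq (m : ℕ) : ia (sig m) = Sum.inl (Fin.last m) := rfl
theorem ib_eq (m : ℕ) : ib (sig m) = Sum.inr (Fin.last m) := rfl

theorem hstep (m : ℕ) (u : K (m + 1) → F) :
    plusQF F (m + 1) u = plusQF F m (u ∘ emb (sig m)) + u (ia (sig m)) * u (ib (sig m)) := by
  rw [plusQF_apply, plusQF_apply, Cfsg.quadFormPlus, Cfsg.quadFormPlus, Fin.sum_univ_castSucc]
  rfl

theorem nondeg (m : ℕ) : (QuadraticMap.polarBilin (plusQF F m)).Nondegenerate := by
  induction m with
  | zero =>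
    constructor
    · intro u _
      funext i
      rcases i with i | i <;> exact i.elim0
    · intro u _
      funext i
      rcases i with i | i <;> exact i.elim0
  | succ m ih => exact nondeg_step (sig m) (plusQF F m) (plusQF F (m + 1)) (hstep m) ih

theorem coe_plusQF (m : ℕ) : ⇑(plusQF F m) = Cfsg.quadFormPlus m F := funext (plusQF_apply F m)

theorem card_zero : Nat.card ↥(Cfsg.isometryGroup F (Cfsg.quadFormPlus 0 F)) = 1 := by
  have : Subsingleton (GL (K 0) F) := by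
    constructor
    intro a b
    apply Units.ext
    ext i j
    rcases i with i | i <;> exact i.elim0
  exact Nat.card_of_subsingleton 1

theorem arith_plus (q m : ℕ) (hq : 1 ≤ q) :
    q^(2*(m+2)-1) + q^(m+2) - q^(m+1) - 1 = (q^(m+2) - 1) * (q^(m+1) + 1) := by
  obtain ⟨a, ha⟩ : ∃ a, q^(m+1) = a + 1 :=
    ⟨q^(m+1) - 1, by have := pow_pos (show 0 < q from hq) (m+1); omega⟩
  obtain ⟨b, hb⟩ : ∃ b, q^(m+2) = b + 1 :=
    ⟨q^(m+2) - 1, by have := pow_pos (show 0 < q from hq) (m+2); omega⟩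
  rw [show 2*(m+2)-1 = (m+2)+(m+1) by omega, pow_add, ha, hb]
  have h1 : (b+1)*(a+1) = b*a + b + a + 1 := by ring
  have h2 : (b + 1 - 1) * (a + 1 + 1) = b*a + 2*b := by rw [Nat.add_sub_cancel]; ring
  rw [h1, h2]
  omega

theorem sq_sub_one (a : ℕ) (ha : 1 ≤ a) : (a - 1) * (a + 1) = a ^ 2 - 1 := by
  obtain ⟨b, rfl⟩ : ∃ b, a = b + 1 := ⟨a - 1, by omega⟩
  rw [Nat.add_sub_cancel]
  have : (b + 1) ^ 2 = b * (b + 1 + 1) + 1 := by ring
  rw [this, Nat.add_sub_cancel]

theorem card_succ [Fintype F] (m : ℕ) :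
    Nat.card ↥(Cfsg.isometryGroup F (Cfsg.quadFormPlus (m + 1) F)) =
      Nat.card ↥(Cfsg.isometryGroup F (Cfsg.quadFormPlus m F)) *
        ((Nat.card {v : K (m + 1) → F // Cfsg.quadFormPlus (m + 1) F v = 0} - 1) *
          Fintype.card F ^ (2 * m)) := by
  have h := card_step (sig m) (plusQF F m) (plusQF F (m + 1)) (hstep m) (nondeg (m + 1))
  simp only [coe_plusQF] at h
  rw [h]
  congr 3
  simp [K]
  ring

/-- |GO^+_{2m}(q)| = 2 q^(m(m-1)) (q^m - 1) prod_{i=1}^{m-1} (q^(2i) - 1), m at least 1, all q. -/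
theorem result {F : Type*} [Field F] [Fintype F] {q : ℕ} (hF : Fintype.card F = q) (m : ℕ) (hm : 1 ≤ m) : Nat.card (Cfsg.isometryGroup F (Cfsg.quadFormPlus m F)) = 2 * q ^ (m * (m - 1)) * (q ^ m - 1) * ∏ i ∈ Finset.range (m - 1), (q ^ (2 * (i + 1)) - 1) := by
  subst hF
  have hq : 1 ≤ Fintype.card F := Fintype.card_pos
  have hq2 : 2 ≤ Fintype.card F := Fintype.one_lt_card
  obtain ⟨k, rfl⟩ : ∃ k, m = k + 1 := ⟨m - 1, by omega⟩
  simp only [Nat.add_sub_cancel]
  induction k with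
  | zero =>
    rw [card_succ, card_zero, Cfsg.Agent.S0289.result rfl 1 le_rfl]
    simp
    omega
  | succ k ih =>
    rw [card_succ, ih (by omega), Cfsg.Agent.S0289.result rfl (k + 2) (by omega)]
    rw [show k + 2 - 1 = k + 1 by omega, arith_plus _ _ hq, Finset.prod_range_succ]
    have h1 : (Fintype.card F ^ (k + 1) - 1) * (Fintype.card F ^ (k + 1) + 1) =
        Fintype.card F ^ (2 * (k + 1)) - 1 := by
      rw [sq_sub_one _ (pow_pos (show 0 < Fintype.card F from hq) _), ← pow_mul, mul_comm]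
    rw [← h1]
    have h2 : (k + 1 + 1) * (k + 1) = (k + 1) * k + 2 * (k + 1) := by ring
    rw [h2, pow_add]
    ring

end Cfsg.Agent.S0287
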