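import Mathlib
import Cfsg.Statements.S0291
import Cfsg.Agent.Lib.H2.FiberCount

set_option autoImplicit false
open Cfsg

namespace Cfsg.Agent.S0291

open Matrix Cfsg.Agent.Lib.H2

/-- For q odd, the form x_0^2 + sum_{i<m} x_i y_i on F^(2m+1) has exactly q^(2m) zeros. -/
theorem result {F : Type*} [Field F] [Fintype F] {q : ℕ} (hF : Fintype.card F = q) (hodd : Odd q) (m : ℕ) : Nat.card {v : Unit ⊕ (Fin m ⊕ Fin m) → F // Cfsg.quadFormOdd m F v = 0} = q ^ (2 * m) := by
  classical
  let e0 : (Unit ⊕ (Fin m ⊕ Fin m) → F) ≃ (Unit → F) × ((Fin m → F) × (Fin m → F)) :=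
    (Equiv.sumArrowEquivProdArrow Unit (Fin m ⊕ Fin m) F).trans
      (Equiv.prodCongr (Equiv.refl _) (Equiv.sumArrowEquivProdArrow (Fin m) (Fin m) F))
  have e : {v : Unit ⊕ (Fin m ⊕ Fin m) → F // Cfsg.quadFormOdd m F v = 0} ≃
      {p : (Unit → F) × ((Fin m → F) × (Fin m → F)) //
        p.2.1 ⬝ᵥ p.2.2 + (fun z : Unit → F => z () ^ 2) p.1 = 0} :=
    e0.subtypeEquiv (fun v => by
      show v (.inl ()) ^ 2 + ∑ i : Fin m, v (.inr (.inl i)) * v (.inr (.inr i)) = 0 ↔
        (∑ i : Fin m, v (.inr (.inl i)) * v (.inr (.inr i))) + v (.inl ()) ^ 2 = 0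
      rw [add_comm])
  rw [Nat.card_congr e, card_hyp_add m (fun z : Unit → F => z () ^ 2) 0 (fun z => by
    constructor
    · intro h
      funext u
      cases u
      exact pow_eq_zero_iff (two_ne_zero) |>.1 h
    · intro h
      rw [h]
      simp), hF]
  have hZ : Fintype.card (Unit → F) = q := by
    rw [Fintype.card_fun, hF]; simp
  rw [hZ]
  have hq : 0 < q := by rw [← hF]; exact Fintype.card_pos
  rcases Nat.eq_zero_or_pos m with rfl | hm
  · simp
  · have h1 : q * q ^ (m - 1) = q ^ m := by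
      rw [← pow_succ']; congr 1; omega
    have h2 : 1 ≤ q ^ m := Nat.one_le_pow _ _ hq
    have h3 : q ^ (2 * m) = q ^ m * q ^ m := by rw [← pow_add]; congr 1; omega
    have h4 : ∀ A : ℕ, q ^ m + A + (q - 1) * A = q ^ m + q * A := by
      intro A
      have h5 : (q - 1) * A + A = q * A := by
        rw [← Nat.succ_mul]; congr 1; omega
      omega
    rw [h4, mul_left_comm, h1, h3, Nat.sub_mul, one_mul]
    have : q ^ m ≤ q ^ m * q ^ m := Nat.le_mul_of_pos_left _ (by positivity)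
    omega

end Cfsg.Agent.S0291
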