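import Cfsg.Statements.S0286
import Cfsg.Agent.Lib.H11.OrthStep
import Cfsg.Agent.S0287
import Cfsg.Agent.S0291
-- import your own Cfsg.Agent.* helpers here

set_option autoImplicit false
open Cfsg

namespace Cfsg.Agent.S0286

open Matrix Cfsg.Agent.Lib.H11.OrthStep

variable {F : Type*} [Field F]

abbrev K (m : ℕ) : Type := Fin m ⊕ Fin m

/-- `Cfsg.quadFormOdd` as a `QuadraticForm`. -/
noncomputable def oddQF (F : Type*) [Field F] (m : ℕ) : QuadraticForm F (Unit ⊕ K m → F) :=
  QuadraticMap.linMulLin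
    (LinearMap.proj (R := F) (φ := fun _ : Unit ⊕ K m => F) (Sum.inl ()))
    (LinearMap.proj (R := F) (φ := fun _ : Unit ⊕ K m => F) (Sum.inl ())) +
  ∑ i : Fin m, QuadraticMap.linMulLin
    (LinearMap.proj (R := F) (φ := fun _ : Unit ⊕ K m => F) (Sum.inr (Sum.inl i)))
    (LinearMap.proj (R := F) (φ := fun _ : Unit ⊕ K m => F) (Sum.inr (Sum.inr i)))

theorem oddQF_apply (m : ℕ) (x : Unit ⊕ K m → F) : oddQF F m x = Cfsg.quadFormOdd m F x := by
  simp [oddQF, Cfsg.quadFormOdd]
  ring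

theorem coe_oddQF (m : ℕ) : ⇑(oddQF F m) = Cfsg.quadFormOdd m F := funext (oddQF_apply m)

/-- index equivalence -/
def sig (m : ℕ) : Unit ⊕ K (m + 1) ≃ (Unit ⊕ K m) ⊕ Bool :=
  (Equiv.sumCongr (Equiv.refl Unit) (Cfsg.Agent.S0287.sig m)).trans
    (Equiv.sumAssoc Unit (K m) Bool).symm

theorem hstep (m : ℕ) (u : Unit ⊕ K (m + 1) → F) :
    oddQF F (m + 1) u = oddQF F m (u ∘ emb (sig m)) + u (ia (sig m)) * u (ib (sig m)) := by
  rw [oddQF_apply, oddQF_apply, Cfsg.quadFormOdd, Cfsg.quadFormOdd, Fin.sum_univ_castSucc,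
    add_assoc]
  rfl

theorem two_ne_zero_of_odd [Fintype F] (hodd : Odd (Fintype.card F)) : (2 : F) ≠ 0 := by
  apply Ring.two_ne_zero
  intro h
  have := FiniteField.even_card_of_char_two h
  rw [Nat.odd_iff] at hodd
  omega

theorem nondeg (h2 : (2 : F) ≠ 0) (m : ℕ) :
    (QuadraticMap.polarBilin (oddQF F m)).Nondegenerate := by
  induction m with
  | zero =>
    have key : ∀ u : Unit ⊕ K 0 → F, QuadraticMap.polar (⇑(oddQF F 0)) u u = 0 → u = 0 := by
      intro u hu
      rw [Cfsg.Agent.S0750.polar_self', oddQF_apply, Cfsg.quadFormOdd] at hu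
      simp at hu
      funext i
      rcases i with i | i | i
      · exact hu.resolve_left h2
      · exact i.elim0
      · exact i.elim0
    constructor
    · intro u hu
      exact key u (hu u)
    · intro u hu
      exact key u (hu u)
  | succ m ih => exact nondeg_step (sig m) (oddQF F m) (oddQF F (m + 1)) (hstep m) ih

theorem idx_eq (i : Unit ⊕ K 0) : i = Sum.inl () := by
  rcases i with i | i | i
  · rfl
  · exact i.elim0
  · exact i.elim0

theorem card_zero (h2 : (2 : F) ≠ 0) :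
    Nat.card ↥(Cfsg.isometryGroup F (Cfsg.quadFormOdd 0 F)) = 2 := by
  classical
  let f : ↥(Cfsg.isometryGroup F (Cfsg.quadFormOdd 0 F)) → F :=
    fun g => (g : GL (Unit ⊕ K 0) F).1 (Sum.inl ()) (Sum.inl ())
  have hf : Function.Injective f := by
    intro g h hgh
    apply Subtype.ext
    apply Units.ext
    ext i j
    rw [idx_eq i, idx_eq j]
    exact hgh
  have hmv : ∀ (M : Matrix (Unit ⊕ K 0) (Unit ⊕ K 0) F) (u : Unit ⊕ K 0 → F),
      (M *ᵥ u) (Sum.inl ()) = M (Sum.inl ()) (Sum.inl ()) * u (Sum.inl ()) := by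
    intro M u
    simp [Matrix.mulVec, dotProduct]
  have hQ : ∀ u : Unit ⊕ K 0 → F, Cfsg.quadFormOdd 0 F u = u (Sum.inl ()) ^ 2 := by
    intro u
    simp [Cfsg.quadFormOdd]
  have hrange : Set.range f = {1, -1} := by
    ext c
    simp only [Set.mem_range, Set.mem_insert_iff, Set.mem_singleton_iff]
    constructor
    · rintro ⟨g, rfl⟩
      have hg := (mem_iso_iff _ g.1).1 g.2 (fun _ => 1)
      rw [hQ, hQ, hmv] at hg
      simp only [mul_one, one_pow] at hg
      have : (f g - 1) * (f g + 1) = 0 := by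
        show ((g : GL (Unit ⊕ K 0) F).1 (Sum.inl ()) (Sum.inl ()) - 1) *
          ((g : GL (Unit ⊕ K 0) F).1 (Sum.inl ()) (Sum.inl ()) + 1) = 0
        linear_combination hg
      rcases mul_eq_zero.1 this with h | h
      · left; exact sub_eq_zero.1 h
      · right; exact eq_neg_of_add_eq_zero_left h
    · intro hc
      have hcc : c * c = 1 := by
        rcases hc with rfl | rfl <;> ring
      let g : GL (Unit ⊕ K 0) F :=
        ⟨c • 1, c • 1, by rw [smul_mul_smul_comm, hcc, one_smul, one_mul],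
          by rw [smul_mul_smul_comm, hcc, one_smul, one_mul]⟩
      have hg : g ∈ Cfsg.isometryGroup F (Cfsg.quadFormOdd 0 F) := by
        rw [mem_iso_iff]
        intro u
        show Cfsg.quadFormOdd 0 F ((c • (1 : Matrix (Unit ⊕ K 0) (Unit ⊕ K 0) F)) *ᵥ u) = _
        rw [hQ, hQ, Matrix.smul_mulVec, Matrix.one_mulVec, Pi.smul_apply, smul_eq_mul, mul_pow,
          sq c, hcc, one_mul]
      refine ⟨⟨g, hg⟩, ?_⟩
      show (c • (1 : Matrix (Unit ⊕ K 0) (Unit ⊕ K 0) F)) (Sum.inl ()) (Sum.inl ()) = c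
      simp
  rw [← Nat.card_range_of_injective hf, hrange, Nat.card_coe_set_eq, Set.ncard_pair]
  intro h
  have : (2 : F) = 0 := by linear_combination h
  exact h2 this

theorem card_succ [Fintype F] (h2 : (2 : F) ≠ 0) (m : ℕ) :
    Nat.card ↥(Cfsg.isometryGroup F (Cfsg.quadFormOdd (m + 1) F)) =
      Nat.card ↥(Cfsg.isometryGroup F (Cfsg.quadFormOdd m F)) *
        ((Nat.card {v : Unit ⊕ K (m + 1) → F // Cfsg.quadFormOdd (m + 1) F v = 0} - 1) *
          Fintype.card F ^ (2 * m + 1)) := by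
  have h := card_step (sig m) (oddQF F m) (oddQF F (m + 1)) (hstep m) (nondeg h2 (m + 1))
  simp only [coe_oddQF] at h
  rw [h]
  congr 3
  simp [K]
  ring

/-- |GO_{2m+1}(q)| = 2 q^(m^2) prod_{i=1}^{m} (q^(2i) - 1) for q odd. -/
theorem result {F : Type*} [Field F] [Fintype F] {q : ℕ} (hF : Fintype.card F = q) (hodd : Odd q) (m : ℕ) : Nat.card (Cfsg.isometryGroup F (Cfsg.quadFormOdd m F)) = 2 * q ^ (m ^ 2) * ∏ i ∈ Finset.range m, (q ^ (2 * (i + 1)) - 1) := by
  subst hF
  have h2 : (2 : F) ≠ 0 := two_ne_zero_of_odd hodd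
  induction m with
  | zero =>
    rw [card_zero h2]
    simp
  | succ k ih =>
    rw [card_succ h2, ih, Cfsg.Agent.S0291.result rfl hodd (k + 1), Finset.prod_range_succ]
    have : (k + 1) ^ 2 = k ^ 2 + (2 * k + 1) := by ring
    rw [this, pow_add]
    ring

end Cfsg.Agent.S0286
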