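import Mathlib
import Cfsg.Statements.S0290
import Cfsg.Agent.Lib.H2.FiberCount

set_option autoImplicit false
open Cfsg

namespace Cfsg.Agent.S0290

open Matrix Cfsg.Agent.Lib.H2

/-- The minus-type quadratic form on F^(2m), m at least 1, has q^(2m-1) + q^(m-1) - q^m zeros (that is, (q^m + 1)(q^(m-1) - 1) non-zero isotropic vectors). -/
theorem result {F : Type*} [Field F] [Fintype F] {q : ℕ} (hF : Fintype.card F = q) (m : ℕ) (hm : 1 ≤ m) (a b : F) (hab : ∀ z₁ z₂ : F, z₁ ^ 2 + a * z₁ * z₂ + b * z₂ ^ 2 = 0 → z₁ = 0 ∧ z₂ = 0) : Nat.card {v : (Fin (m - 1) ⊕ Fin (m - 1)) ⊕ Fin 2 → F // Cfsg.quadFormMinus (m - 1) F a b v = 0} = q ^ (2 * m - 1) + q ^ (m - 1) - q ^ m := by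
  classical
  obtain ⟨k, rfl⟩ : ∃ k, m = k + 1 := ⟨m - 1, by omega⟩
  show Nat.card {v : (Fin k ⊕ Fin k) ⊕ Fin 2 → F // Cfsg.quadFormMinus k F a b v = 0} =
    q ^ (2 * (k + 1) - 1) + q ^ k - q ^ (k + 1)
  let e0 : ((Fin k ⊕ Fin k) ⊕ Fin 2 → F) ≃ (Fin 2 → F) × ((Fin k → F) × (Fin k → F)) :=
    ((Equiv.sumArrowEquivProdArrow (Fin k ⊕ Fin k) (Fin 2) F).trans
      (Equiv.prodCongr (Equiv.sumArrowEquivProdArrow (Fin k) (Fin k) F) (Equiv.refl _))).trans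
      (Equiv.prodComm _ _)
  have e : {v : (Fin k ⊕ Fin k) ⊕ Fin 2 → F // Cfsg.quadFormMinus k F a b v = 0} ≃
      {p : (Fin 2 → F) × ((Fin k → F) × (Fin k → F)) //
        p.2.1 ⬝ᵥ p.2.2 + (fun z : Fin 2 → F => z 0 ^ 2 + a * z 0 * z 1 + b * z 1 ^ 2) p.1 = 0} :=
    e0.subtypeEquiv (fun v => Iff.rfl)
  rw [Nat.card_congr e, card_hyp_add k
    (fun z : Fin 2 → F => z 0 ^ 2 + a * z 0 * z 1 + b * z 1 ^ 2) 0 (fun z => by
    constructor
    · intro h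
      obtain ⟨h0, h1⟩ := hab (z 0) (z 1) h
      funext i
      fin_cases i
      · exact h0
      · exact h1
    · intro h
      rw [h]
      simp), hF]
  have hZ : Fintype.card (Fin 2 → F) = q ^ 2 := by
    rw [Fintype.card_pi_const, hF]
  rw [hZ]
  have hq : 0 < q := by rw [← hF]; exact Fintype.card_pos
  rcases Nat.eq_zero_or_pos k with rfl | hk
  · simp
  · have h1 : q ^ 2 * q ^ (k - 1) = q ^ (k + 1) := by
      rw [← pow_add]; congr 1; omega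
    have h2 : 1 ≤ q ^ k := Nat.one_le_pow _ _ hq
    have h3 : q ^ (2 * (k + 1) - 1) = q ^ k * q ^ (k + 1) := by rw [← pow_add]; congr 1; omega
    have h4 : ∀ A : ℕ, q ^ k + A + (q ^ 2 - 1) * A = q ^ k + q ^ 2 * A := by
      intro A
      have h5 : (q ^ 2 - 1) * A + A = q ^ 2 * A := by
        rw [← Nat.succ_mul]; congr 1
        have : 1 ≤ q ^ 2 := Nat.one_le_pow _ _ hq
        omega
      omega
    rw [h4, mul_left_comm, h1, h3, Nat.sub_mul, one_mul]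
    have : q ^ (k + 1) ≤ q ^ k * q ^ (k + 1) := Nat.le_mul_of_pos_left _ (by positivity)
    omega

end Cfsg.Agent.S0290
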