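import Cfsg.Statements.S0288
import Cfsg.Agent.Lib.H11.OrthStep
import Cfsg.Agent.Lib.H13.StdForm
import Cfsg.Agent.S0287
import Cfsg.Agent.S0290
import Cfsg.Agent.S0306
-- import your own Cfsg.Agent.* helpers here

set_option autoImplicit false
open Cfsg

namespace Cfsg.Agent.S0288

open Matrix Cfsg.Agent.Lib.H11.OrthStep Cfsg.Agent.Lib.H13

variable {F : Type*} [Field F]

abbrev K (m : ℕ) : Type := Fin m ⊕ Fin m

/-- index equivalence -/
def sig (k : ℕ) : K (k + 1) ⊕ Fin 2 ≃ (K k ⊕ Fin 2) ⊕ Bool :=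
  (Equiv.sumCongr (Cfsg.Agent.S0287.sig k) (Equiv.refl (Fin 2))).trans
    ((Equiv.sumAssoc (K k) Bool (Fin 2)).trans
      ((Equiv.sumCongr (Equiv.refl (K k)) (Equiv.sumComm Bool (Fin 2))).trans
        (Equiv.sumAssoc (K k) (Fin 2) Bool).symm))

theorem hstep (k : ℕ) (a b : F) (u : K (k + 1) ⊕ Fin 2 → F) :
    minusQF F (k + 1) a b u =
      minusQF F k a b (u ∘ emb (sig k)) + u (ia (sig k)) * u (ib (sig k)) := by
  rw [minusQF_apply, minusQF_apply, Cfsg.quadFormMinus, Cfsg.quadFormMinus, Fin.sum_univ_castSucc]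
  have h1 : ∀ i : Fin k, emb (sig k) (Sum.inl (Sum.inl i)) = Sum.inl (Sum.inl i.castSucc) :=
    fun i => rfl
  have h2 : ∀ i : Fin k, emb (sig k) (Sum.inl (Sum.inr i)) = Sum.inl (Sum.inr i.castSucc) :=
    fun i => rfl
  have h3 : ∀ j : Fin 2, emb (sig k) (Sum.inr j) = Sum.inr j := fun j => rfl
  have h4 : ia (sig k) = Sum.inl (Sum.inl (Fin.last k)) := rfl
  have h5 : ib (sig k) = Sum.inl (Sum.inr (Fin.last k)) := rfl
  simp only [Function.comp_apply, h1, h2, h3, h4, h5]
  ring

theorem coe_minusQF (k : ℕ) (a b : F) : ⇑(minusQF F k a b) = Cfsg.quadFormMinus k F a b :=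
  funext (minusQF_apply F k a b)

theorem nondeg [Finite F] (a b : F)
    (hab : ∀ z₁ z₂ : F, z₁ ^ 2 + a * z₁ * z₂ + b * z₂ ^ 2 = 0 → z₁ = 0 ∧ z₂ = 0) (k : ℕ) :
    (QuadraticMap.polarBilin (minusQF F k a b)).Nondegenerate := by
  induction k with
  | zero =>
    have key : ∀ u : K 0 ⊕ Fin 2 → F,
        (∀ v, QuadraticMap.polar (⇑(minusQF F 0 a b)) u v = 0) → u = 0 := by
      intro u hu
      have hu0 : u (Sum.inr 0) = 0 ∧ u (Sum.inr 1) = 0 := by
        by_cases h2 : (2 : F) = 0
        · -- characteristic two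
          have hpol : ∀ v : K 0 ⊕ Fin 2 → F, a * (u (Sum.inr 0) * v (Sum.inr 1) + v (Sum.inr 0) * u (Sum.inr 1)) = 0 := by
            intro v
            have := hu v
            rw [coe_minusQF, polar_quadFormMinus_formula] at this
            simp only [Finset.univ_eq_empty, Finset.sum_empty, zero_add, h2, zero_mul] at this
            simpa using this
          have ha : a ≠ 0 := by
            intro ha
            have : CharP F 2 := by
              have : ringChar F = 2 := by
                have h := (ringChar.spec F 2).1 (by exact_mod_cast h2)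
                rcases (Nat.dvd_prime Nat.prime_two).1 h with h1 | h1
                · exfalso
                  haveI := ringChar.charP F
                  have := CharP.ringChar_ne_one (R := F)
                  exact this h1
                · exact h1
              rw [← this]
              exact ringChar.charP F
            obtain ⟨c, hc⟩ := FiniteField.isSquare_of_char_two (F := F) (by
              exact CharP.ringChar_of_prime_eq_zero Nat.prime_two (by exact_mod_cast h2)) b
            have := hab c 1 (by rw [ha]; linear_combination (-1 : F) * hc + b * h2)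
            exact one_ne_zero this.2
          have e1 := hpol (Pi.single (Sum.inr 1) 1)
          have e2 := hpol (Pi.single (Sum.inr 0) 1)
          simp at e1 e2
          exact ⟨e1.resolve_left ha, e2.resolve_left ha⟩
        · have := hu u
          rw [Cfsg.Agent.S0750.polar_self', minusQF_apply, Cfsg.quadFormMinus] at this
          simp only [Finset.univ_eq_empty, Finset.sum_empty, zero_add] at this
          exact hab _ _ ((mul_eq_zero.1 this).resolve_left h2)
      funext i
      rcases i with (i | i) | j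
      · exact i.elim0
      · exact i.elim0
      · fin_cases j
        · exact hu0.1
        · exact hu0.2
    constructor
    · intro u hu
      exact key u hu
    · intro u hu
      apply key u
      intro v
      rw [QuadraticMap.polar_comm]
      exact hu v
  | succ k ih => exact nondeg_step (sig k) (minusQF F k a b) (minusQF F (k + 1) a b) (hstep k a b) ih

theorem card_succ [Fintype F] (a b : F)
    (hab : ∀ z₁ z₂ : F, z₁ ^ 2 + a * z₁ * z₂ + b * z₂ ^ 2 = 0 → z₁ = 0 ∧ z₂ = 0) (k : ℕ) :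
    Nat.card ↥(Cfsg.isometryGroup F (Cfsg.quadFormMinus (k + 1) F a b)) =
      Nat.card ↥(Cfsg.isometryGroup F (Cfsg.quadFormMinus k F a b)) *
        ((Nat.card {v : K (k + 1) ⊕ Fin 2 → F // Cfsg.quadFormMinus (k + 1) F a b v = 0} - 1) *
          Fintype.card F ^ (2 * k + 2)) := by
  have h := card_step (sig k) (minusQF F k a b) (minusQF F (k + 1) a b) (hstep k a b)
    (nondeg a b hab (k + 1))
  simp only [coe_minusQF] at h
  rw [h]
  congr 3
  simp [K]
  ring

theorem arith_minus (q k : ℕ) (hq : 1 ≤ q) :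
    q^(2*(k+2)-1) + q^(k+2-1) - q^(k+2) - 1 = (q^(k+2) + 1) * (q^(k+1) - 1) := by
  obtain ⟨a, ha⟩ : ∃ a, q^(k+1) = a + 1 :=
    ⟨q^(k+1) - 1, by have := pow_pos (show 0 < q from hq) (k+1); omega⟩
  obtain ⟨b, hb⟩ : ∃ b, q^(k+2) = b + 1 :=
    ⟨q^(k+2) - 1, by have := pow_pos (show 0 < q from hq) (k+2); omega⟩
  rw [show 2*(k+2)-1 = (k+2)+(k+1) by omega, show k+2-1 = k+1 by omega, pow_add, ha, hb]
  have h1 : (b+1)*(a+1) = b*a + b + a + 1 := by ring
  have h2 : (b + 1 + 1) * (a + 1 - 1) = b*a + 2*a := by rw [Nat.add_sub_cancel]; ring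
  rw [h1, h2]
  omega
theorem main_k [Fintype F] (a b : F)
    (hab : ∀ z₁ z₂ : F, z₁ ^ 2 + a * z₁ * z₂ + b * z₂ ^ 2 = 0 → z₁ = 0 ∧ z₂ = 0) (k : ℕ) :
    Nat.card ↥(Cfsg.isometryGroup F (Cfsg.quadFormMinus k F a b)) =
      2 * Fintype.card F ^ ((k + 1) * k) * (Fintype.card F ^ (k + 1) + 1) *
        ∏ i ∈ Finset.range k, (Fintype.card F ^ (2 * (i + 1)) - 1) := by
  have hq : 1 ≤ Fintype.card F := Fintype.card_pos
  induction k with
  | zero =>
    obtain ⟨e⟩ := Cfsg.Agent.S0306.result (F := F) rfl a b hab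
    rw [Nat.card_congr e.toEquiv, DihedralGroup.nat_card]
    simp
  | succ k ih =>
    rw [card_succ a b hab, ih]
    have hz := Cfsg.Agent.S0290.result (F := F) rfl (k + 2) (by omega) a b hab
    rw [show k + 2 - 1 = k + 1 by omega] at hz
    rw [hz]
    have ha := arith_minus (Fintype.card F) k hq
    rw [show k + 2 - 1 = k + 1 by omega] at ha
    rw [ha, Finset.prod_range_succ]
    have h1 : (Fintype.card F ^ (k + 1) - 1) * (Fintype.card F ^ (k + 1) + 1) =
        Fintype.card F ^ (2 * (k + 1)) - 1 := by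
      rw [Cfsg.Agent.S0287.sq_sub_one _ (pow_pos (show 0 < Fintype.card F from hq) _), ← pow_mul,
        mul_comm]
    rw [← h1]
    have h2 : (k + 1 + 1) * (k + 1) = (k + 1) * k + (2 * k + 2) := by ring
    rw [h2, pow_add]
    ring

/-- |GO^-_{2m}(q)| = 2 q^(m(m-1)) (q^m + 1) prod_{i=1}^{m-1} (q^(2i) - 1), m at least 1, all q; the form is quadFormMinus (m-1) with an anisotropic binary part. -/
theorem result {F : Type*} [Field F] [Fintype F] {q : ℕ} (hF : Fintype.card F = q) (m : ℕ) (hm : 1 ≤ m) (a b : F) (hab : ∀ z₁ z₂ : F, z₁ ^ 2 + a * z₁ * z₂ + b * z₂ ^ 2 = 0 → z₁ = 0 ∧ z₂ = 0) : Nat.card (Cfsg.isometryGroup F (Cfsg.quadFormMinus (m - 1) F a b)) = 2 * q ^ (m * (m - 1)) * (q ^ m + 1) * ∏ i ∈ Finset.range (m - 1), (q ^ (2 * (i + 1)) - 1) := by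
  subst hF
  obtain ⟨k, rfl⟩ : ∃ k, m = k + 1 := ⟨m - 1, by omega⟩
  exact main_k a b hab k

end Cfsg.Agent.S0288
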