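import Mathlib
import Cfsg.Statements.S0319
import Cfsg.Agent.Lib.H2.BN5

set_option autoImplicit false
open Cfsg

namespace Cfsg.Agent.S0319

open Cfsg.Agent.Lib.H2.BN

theorem len_mul_eq_two {G : Type*} [Group G] (P : Cfsg.BNPair G) {s₁ s₂ : G} (hs₁ : s₁ ∈ P.S)
    (hs₂ : s₂ ∈ P.S) (hne : s₁ ≠ s₂) : len P (s₁ * s₂) = 2 := by
  rcases len_smul_cases hs₁ (S_mem_N hs₂) with h | h
  · rw [h, len_S hs₂]
  · exfalso
    rw [len_S hs₂] at h
    have h0 : len P (s₁ * s₂) = 0 := by omega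
    have hB : s₁ * s₂ ∈ P.B :=
      mem_B_of_len_eq_zero (P.N.mul_mem (S_mem_N hs₁) (S_mem_N hs₂)) h0
    have h1 : Eqv P s₁⁻¹ s₂ := by simpa [Eqv] using hB
    exact hne (P.inj s₁ hs₁ s₂ hs₂ ((S_eqv_inv hs₁).trans h1))

/-- Bourbaki IV.2.7 Lemma 2: the generators in `B H` commute (mod `B ⊓ N`) with the others -/
theorem comm_mem {G : Type*} [Group G] (P : Cfsg.BNPair G) (H : Subgroup G) [hH : H.Normal]
    {s₁ s₂ : G} (hs₁ : s₁ ∈ P.S) (hs₂ : s₂ ∈ P.S) (h₁ : s₁ ∈ P.B ⊔ H) (h₂ : s₂ ∉ P.B ⊔ H) :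
    s₁ * s₂ * s₁⁻¹ * s₂⁻¹ ∈ P.B := by
  have hBM : P.B ≤ P.B ⊔ H := le_sup_left
  have hHM : H ≤ P.B ⊔ H := le_sup_right
  have hne : s₁ ≠ s₂ := fun h => h₂ (h ▸ h₁)
  have hs₁N := S_mem_N hs₁
  have hs₂N := S_mem_N hs₂
  have L12 := len_mul_eq_two P hs₁ hs₂ hne
  have L21 := len_mul_eq_two P hs₂ hs₁ (Ne.symm hne)
  obtain ⟨b, hb, h, hh, hbh⟩ := Subgroup.mem_sup_of_normal_right.1 h₁
  have hx : s₂ * (b⁻¹ * s₁) * s₂⁻¹ ∈ P.B ⊔ H := by
    apply hHM
    have : b⁻¹ * s₁ = h := by rw [← hbh]; group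
    rw [this]
    exact hH.conj_mem h hh s₂
  -- first step
  have e1 := smul_mem_C_of_len_le hs₂ hs₁N (by rw [len_S hs₁, L21]; omega) (P.B.inv_mem hb)
  obtain ⟨b₁, hb₁, b₂, hb₂, e1'⟩ := mem_C_iff.1 e1
  have hy : s₂ * (s₁ * b₂ * s₂⁻¹) ∈ P.B ⊔ H := by
    have : s₂ * (s₁ * b₂ * s₂⁻¹) = b₁⁻¹ * (s₂ * (b⁻¹ * s₁) * s₂⁻¹) := by
      have : s₂ * (b⁻¹ * s₁) * s₂⁻¹ = (s₂ * b⁻¹ * s₁) * s₂⁻¹ := by group
      rw [this, e1']
      group
    rw [this]
    exact mul_mem (inv_mem (hBM hb₁)) hx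
  -- second step
  have hinv : Eqv P (s₁ * s₂⁻¹) (s₁ * s₂) := (S_inv_eqv hs₂).mul_left s₁
  have e2 := smul_mem_C_of_len_le hs₁ (P.N.inv_mem hs₂N)
    (by rw [len_congr (S_inv_eqv hs₂), len_S hs₂, len_congr hinv, L12]; omega) hb₂
  rw [hinv.C_eq] at e2
  obtain ⟨b₃, hb₃, b₄, hb₄, e2'⟩ := mem_C_iff.1 e2
  have hz : s₂ * b₃ * (s₁ * s₂) ∈ P.B ⊔ H := by
    have : s₂ * b₃ * (s₁ * s₂) = s₂ * (s₁ * b₂ * s₂⁻¹) * b₄⁻¹ := by
      rw [e2']
      group
    rw [this]
    exact mul_mem hy (inv_mem (hBM hb₄))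
  have h12N : s₁ * s₂ ∈ P.N := P.N.mul_mem hs₁N hs₂N
  have hnN : s₂ * (s₁ * s₂) ∈ P.N := P.N.mul_mem hs₂N h12N
  rcases le_or_gt (len P (s₁ * s₂)) (len P (s₂ * (s₁ * s₂))) with hcase | hcase
  · -- length three: contradiction
    exfalso
    have e3 := smul_mem_C_of_len_le hs₂ h12N hcase hb₃
    obtain ⟨b₅, hb₅, b₆, hb₆, e3'⟩ := mem_C_iff.1 e3
    have hnM : s₂ * (s₁ * s₂) ∈ P.B ⊔ H := by
      have : s₂ * (s₁ * s₂) = b₅⁻¹ * (s₂ * b₃ * (s₁ * s₂)) * b₆⁻¹ := by
        rw [e3']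
        group
      rw [this]
      exact mul_mem (mul_mem (inv_mem (hBM hb₅)) hz) (inv_mem (hBM hb₆))
    have hlen : ([s₂, s₁, s₂] : List G).length = len P (s₂ * (s₁ * s₂)) := by
      rcases len_smul_cases hs₂ h12N with h | h
      · rw [h, L12]; rfl
      · omega
    have hl : IsWord P.S [s₂, s₁, s₂] := by
      intro x hx
      simp only [List.mem_cons, List.not_mem_nil, or_false] at hx
      rcases hx with rfl | rfl | rfl <;> assumption
    have he : Eqv P ([s₂, s₁, s₂] : List G).prod (s₂ * (s₁ * s₂)) := by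
      simp only [List.prod_cons, List.prod_nil, mul_one]
      exact Eqv.refl _
    have := letters_mem (P.B ⊔ H) hBM [s₂, s₁, s₂] (s₂ * (s₁ * s₂)) hnN
      (fun b hb => mul_mem (mul_mem hnM (hBM hb)) (inv_mem hnM)) hl hlen he s₂ (by simp)
    exact h₂ this
  · -- exchange condition
    have hl : IsWord P.S [s₁, s₂] := by
      intro x hx
      simp only [List.mem_cons, List.not_mem_nil, or_false] at hx
      rcases hx with rfl | rfl <;> assumption
    have hp : ([s₁, s₂] : List G).prod = s₁ * s₂ := by simp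
    obtain ⟨i, hi, hi'⟩ := exchange [s₁, s₂] hl s₂ hs₂ (by rw [hp]; exact hcase)
    rw [hp] at hi'
    simp only [List.length_cons, List.length_nil] at hi
    interval_cases i
    · exfalso
      simp only [List.eraseIdx_cons_zero, List.prod_cons, List.prod_nil, mul_one] at hi'
      have h1 : (s₂ * (s₁ * s₂))⁻¹ * s₂ = (s₁ * s₂)⁻¹ := by group
      rw [Eqv, h1] at hi'
      have h2 : s₁ * s₂ ∈ P.B := by simpa using P.B.inv_mem hi'
      rw [len_of_mem_B h2] at L12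
      omega
    · simp only [List.eraseIdx_cons_succ, List.eraseIdx_cons_zero, List.prod_cons, List.prod_nil,
        mul_one] at hi'
      have hu : (s₂ * (s₁ * s₂))⁻¹ * s₁ ∈ P.B := hi'
      have huN : (s₂ * (s₁ * s₂))⁻¹ * s₁ ∈ P.N := P.N.mul_mem (P.N.inv_mem hnN) hs₁N
      have k1 := T_conj hs₁N (P.B.inv_mem hu) (P.N.inv_mem huN)
      have k2 := T_conj hs₁N (P.B.inv_mem (S_sq hs₂)) (P.N.inv_mem (P.N.mul_mem hs₂N hs₂N))
      have k3 := P.B.inv_mem (P.B.mul_mem k1 k2)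
      have e : (s₁ * ((s₂ * (s₁ * s₂))⁻¹ * s₁)⁻¹ * s₁⁻¹ * (s₁ * (s₂ * s₂)⁻¹ * s₁⁻¹))⁻¹ =
          s₁ * s₂ * s₁⁻¹ * s₂⁻¹ := by group
      rwa [e] at k3

/-- Simplicity criterion for groups with a (B,N)-pair: if the distinguished generators admit no
splitting into two non-empty mutually commuting parts, `B` is solvable, `G` is perfect and the intersection
of all conjugates of `B` is trivial, then `G` is simple. -/
theorem result {G : Type*} [Group G] [Nontrivial G]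
    (P : Cfsg.BNPair G) (hirr : P.Irreducible) (hsolv : Group.IsSolvable P.B) (hperf : commutator G = ⊤)
    (hcore : P.B.normalCore = ⊥) : IsSimpleGroup G := by
  apply IsSimpleGroup.mk
  intro H hH
  have hX : {s | s ∈ P.S ∧ s ∈ P.B ⊔ H} ⊆ P.S := fun s hs => hs.1
  have hpar := eq_parabolic_of_le (P := P) (P.B ⊔ H) le_sup_left
  by_cases hXe : ({s | s ∈ P.S ∧ s ∈ P.B ⊔ H} : Set G).Nonempty
  · by_cases hXc : (P.S \ {s | s ∈ P.S ∧ s ∈ P.B ⊔ H}).Nonempty
    · exfalso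
      obtain ⟨s, hs, s', hs', hc⟩ := hirr _ hX hXe hXc
      exact hc (comm_mem P H hs.1 hs'.1 hs.2 (fun h => hs'.2 ⟨hs'.1, h⟩))
    · right
      rw [Set.not_nonempty_iff_eq_empty, Set.sdiff_eq_empty] at hXc
      have htop : P.B ⊔ H = ⊤ := by
        rw [eq_top_iff, ← parabolic_S (P := P), hpar]
        exact parabolic_mono hXc
      have hsurj : Function.Surjective ((QuotientGroup.mk' H).comp P.B.subtype) := by
        intro q
        obtain ⟨g, rfl⟩ := QuotientGroup.mk'_surjective H q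
        have hg : g ∈ P.B ⊔ H := by rw [htop]; exact Subgroup.mem_top g
        obtain ⟨b, hb, h, hh, rfl⟩ := Subgroup.mem_sup_of_normal_right.1 hg
        refine ⟨⟨b, hb⟩, ?_⟩
        simp only [MonoidHom.coe_comp, Function.comp_apply, Subgroup.subtype_apply,
          QuotientGroup.mk'_apply]
        rw [QuotientGroup.eq]
        simpa using hh
      have hsol : Group.IsSolvable (G ⧸ H) := Group.isSolvable_of_surjective hsurj
      have hperf' : commutator (G ⧸ H) = ⊤ := by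
        have h1 := Subgroup.map_commutator (⊤ : Subgroup G) ⊤ (QuotientGroup.mk' H)
        rw [Subgroup.map_top_of_surjective _ (QuotientGroup.mk'_surjective H)] at h1
        rw [commutator_def, ← h1, ← commutator_def, hperf,
          Subgroup.map_top_of_surjective _ (QuotientGroup.mk'_surjective H)]
      apply QuotientGroup.subgroup_eq_top_of_subsingleton
      by_contra hns
      rw [not_subsingleton_iff_nontrivial] at hns
      have := Group.IsSolvable.commutator_lt_top_of_nontrivial (G ⧸ H)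
      rw [hperf'] at this
      exact lt_irrefl _ this
  · left
    rw [Set.not_nonempty_iff_eq_empty] at hXe
    rw [hXe] at hpar
    have hB : P.B ⊔ H = P.B := by
      rw [hpar, BNPair.parabolic, Subgroup.closure_empty, sup_bot_eq]
    have hle : H ≤ P.B := by
      rw [← hB]; exact le_sup_right
    have := Subgroup.normal_le_normalCore.2 hle
    rw [hcore] at this
    exact le_bot_iff.1 this

end Cfsg.Agent.S0319
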