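import Cfsg.Statements.S0846
import Cfsg.Agent.Lib.L0.BrauerSuzuki

set_option autoImplicit false
open Cfsg

namespace Cfsg.Agent.S0846

/-- Suppose a Sylow 2-subgroup S of the finite group G is generalized quaternion of order at least 16. Then every Sylow 2-subgroup of the subgroup generated by the involutions of G is cyclic. -/
theorem result {G : Type*} [Group G] [Finite G] (S : Sylow 2 G) (n : ℕ) (e : (S : Subgroup G) ≃* QuaternionGroup (2 ^ (n + 2))) (Q : Sylow 2 ↥(Subgroup.closure {g : G | orderOf g = 2})) : IsCyclic Q := by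
  classical
  have := Fintype.ofFinite G
  have hne : NeZero (2 ^ (n + 2)) := ⟨by positivity⟩
  obtain ⟨a, h⟩ := Cfsg.Agent.Lib.L0.exists_quatData (S : Subgroup G) (2 ^ (n + 2)) e
  obtain ⟨M₁, M₀, -, hM₀, -, hz, ha2, -⟩ := Cfsg.Agent.Lib.L0.QuatData.exists_kernels h rfl
  have hN0 : 0 < 2 ^ (n + 2) := by positivity
  have hLM : Subgroup.closure {g : G | orderOf g = 2} ≤ M₀ := by
    rw [Subgroup.closure_le]
    intro g hg
    exact h.involution_mem hN0 hz hg
  have hp2 : Fact (Nat.Prime 2) := ⟨Nat.prime_two⟩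
  have hR : IsPGroup 2 ((Q : Subgroup ↥(Subgroup.closure {g : G | orderOf g = 2})).map (Subgroup.closure {g : G | orderOf g = 2}).subtype) :=
    Q.2.map _
  have hRM : (Q : Subgroup ↥(Subgroup.closure {g : G | orderOf g = 2})).map (Subgroup.closure {g : G | orderOf g = 2}).subtype ≤ M₀ := by
    rintro x ⟨y, -, rfl⟩
    exact hLM y.2
  obtain ⟨g, hg⟩ := h.exists_conj_mem_zpowers ha2 _ hR hRM
  let f0 : (Q : Subgroup ↥(Subgroup.closure {g : G | orderOf g = 2})) →* G :=
    (MulAut.conj g).toMonoidHom.comp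
      ((Subgroup.closure {g : G | orderOf g = 2}).subtype.comp (Q : Subgroup ↥(Subgroup.closure {g : G | orderOf g = 2})).subtype)
  have hf0 : ∀ q, f0 q ∈ Subgroup.zpowers a := by
    intro q
    have : f0 q = g * ((q : Subgroup.closure {g : G | orderOf g = 2}) : G) * g⁻¹ := rfl
    rw [this]
    exact hg _ ⟨q.1, q.2, rfl⟩
  let f : (Q : Subgroup ↥(Subgroup.closure {g : G | orderOf g = 2})) →* Subgroup.zpowers a := f0.codRestrict _ hf0
  have hf : Function.Injective f := by
    intro q₁ q₂ hq
    have h1 : f0 q₁ = f0 q₂ := congrArg Subtype.val hq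
    have h2 : g * ((q₁ : Subgroup.closure {g : G | orderOf g = 2}) : G) * g⁻¹
        = g * ((q₂ : Subgroup.closure {g : G | orderOf g = 2}) : G) * g⁻¹ := h1
    have h3 : ((q₁ : Subgroup.closure {g : G | orderOf g = 2}) : G)
        = ((q₂ : Subgroup.closure {g : G | orderOf g = 2}) : G) := by
      have := congrArg (fun w => g⁻¹ * w * g) h2
      simpa [mul_assoc] using this
    exact Subtype.ext (Subtype.ext h3)
  exact isCyclic_of_injective f hf

end Cfsg.Agent.S0846
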