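import Cfsg.Statements.S0847
import Cfsg.Agent.Lib.L0.BrauerSuzuki
import Cfsg.Agent.Lib.L0.CyclicSylowTwo
import Cfsg.Agent.Lib.H20.DirectFactor
import Cfsg.Agent.S0846

set_option autoImplicit false
open Cfsg

namespace Cfsg.Agent.S0847

/-- The Brauer–Suzuki Theorem in the case of order at least 16: if a Sylow 2-subgroup S of the finite group G is generalized quaternion of order at least 16 and G has no nontrivial normal subgroup of odd order, then the centre of G has order 2. -/
theorem result {G : Type*} [Group G] [Finite G] (S : Sylow 2 G) (n : ℕ) (e : (S : Subgroup G) ≃* QuaternionGroup (2 ^ (n + 2))) (hO : ∀ N : Subgroup G, N.Normal → Odd (Nat.card N) → N = ⊥) : Nat.card (Subgroup.center G) = 2 := by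
  classical
  have := Fintype.ofFinite G
  have hp2 : Fact (Nat.Prime 2) := ⟨Nat.prime_two⟩
  have hne : NeZero (2 ^ (n + 2)) := ⟨by positivity⟩
  obtain ⟨a, h⟩ := Cfsg.Agent.Lib.L0.exists_quatData (S : Subgroup G) (2 ^ (n + 2)) e
  have hN0 : 0 < 2 ^ (n + 2) := by positivity
  have hN2 : 2 < 2 ^ (n + 2) := by
    calc 2 < 2 ^ 2 := by norm_num
      _ ≤ 2 ^ (n + 2) := Nat.pow_le_pow_right (by norm_num) (by omega)
  -- the central involution
  have hzz : a ^ 2 ^ (n + 2) * a ^ 2 ^ (n + 2) = 1 := by rw [← sq]; exact h.pow_N_sq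
  have hz1 : a ^ 2 ^ (n + 2) ≠ 1 := h.pow_N_ne_one hN0
  have hzord : orderOf (a ^ 2 ^ (n + 2)) = 2 := orderOf_eq_prime h.pow_N_sq hz1
  -- the subgroup generated by the involutions
  have hLn : (Subgroup.closure {g : G | orderOf g = 2}).Normal := by
    apply Cfsg.Agent.Lib.H20.closure_normal_of_conj
    intro g x hx
    have : orderOf (g * x * g⁻¹) = orderOf x := Cfsg.Agent.Lib.L0.QuatData.orderOf_conj' g x
    simp only [Set.mem_setOf_eq] at hx ⊢
    rw [this, hx]
  have hzL : a ^ 2 ^ (n + 2) ∈ Subgroup.closure {g : G | orderOf g = 2} :=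
    Subgroup.subset_closure hzord
  obtain ⟨Q⟩ : Nonempty (Sylow 2 ↥(Subgroup.closure {g : G | orderOf g = 2})) := inferInstance
  have hQc : IsCyclic (Q : Subgroup ↥(Subgroup.closure {g : G | orderOf g = 2})) :=
    Cfsg.Agent.S0846.result S n e Q
  have h2L : 2 ∣ Nat.card ↥(Subgroup.closure {g : G | orderOf g = 2}) := by
    have := orderOf_dvd_natCard (⟨a ^ 2 ^ (n + 2), hzL⟩ : ↥(Subgroup.closure {g : G | orderOf g = 2}))
    rwa [Subgroup.orderOf_mk, hzord] at this
  obtain ⟨K, hKn, hKc, hKmem⟩ :=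
    Cfsg.Agent.Lib.L0.exists_odd_normal_complement_of_cyclic_sylow Q hQc h2L
  -- the image of `K` in `G` is normal of odd order, hence trivial
  have hK'n : (K.map (Subgroup.closure {g : G | orderOf g = 2}).subtype).Normal := by
    constructor
    rintro x ⟨y, hy, rfl⟩ g
    have hmem : g * (y : G) * g⁻¹ ∈ Subgroup.closure {g : G | orderOf g = 2} :=
      hLn.conj_mem _ y.2 g
    refine ⟨⟨g * (y : G) * g⁻¹, hmem⟩, ?_, rfl⟩
    apply (hKmem _).mpr
    rw [← Subgroup.orderOf_coe]
    have h1 := (hKmem y).mp hy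
    rw [← Subgroup.orderOf_coe] at h1
    simp only
    rw [Cfsg.Agent.Lib.L0.QuatData.orderOf_conj']
    exact h1
  have hK'odd : Odd (Nat.card (K.map (Subgroup.closure {g : G | orderOf g = 2}).subtype)) := by
    rw [Nat.card_congr (Subgroup.equivMapOfInjective K _
      (Subgroup.subtype_injective _)).toEquiv.symm, hKc.index_eq_card.symm]
    exact Nat.not_even_iff_odd.mp fun he => Q.not_dvd_index (even_iff_two_dvd.mp he)
  have hK'bot := hO _ hK'n hK'odd
  have hKbot : K = ⊥ := by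
    rw [eq_bot_iff]
    intro x hx
    have : (x : G) ∈ K.map (Subgroup.closure {g : G | orderOf g = 2}).subtype := ⟨x, hx, rfl⟩
    rw [hK'bot, Subgroup.mem_bot] at this
    exact Subgroup.mem_bot.mpr (Subtype.ext this)
  have hQtop : (Q : Subgroup ↥(Subgroup.closure {g : G | orderOf g = 2})) = ⊤ := by
    rw [hKbot] at hKc
    exact Subgroup.isComplement'_bot_left.mp hKc
  -- so `L` is cyclic
  obtain ⟨c, hc⟩ := hQc.exists_generator
  have hLc : ∀ x ∈ Subgroup.closure {g : G | orderOf g = 2}, x ∈ Subgroup.zpowers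
      (((c : ↥(Subgroup.closure {g : G | orderOf g = 2})) : G)) := by
    intro x hx
    have hxQ : (⟨x, hx⟩ : ↥(Subgroup.closure {g : G | orderOf g = 2})) ∈
        (Q : Subgroup ↥(Subgroup.closure {g : G | orderOf g = 2})) := by rw [hQtop]; trivial
    obtain ⟨k, hk⟩ := Subgroup.mem_zpowers_iff.mp (hc ⟨_, hxQ⟩)
    rw [Subgroup.mem_zpowers_iff]
    refine ⟨k, ?_⟩
    have := congrArg (fun w : (Q : Subgroup ↥(Subgroup.closure {g : G | orderOf g = 2})) =>
      ((w : ↥(Subgroup.closure {g : G | orderOf g = 2})) : G)) hk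
    simpa using this
  -- `z` is central
  have hzc : a ^ 2 ^ (n + 2) ∈ Subgroup.center G := by
    rw [Subgroup.mem_center_iff]
    intro g
    have hconjL : g * a ^ 2 ^ (n + 2) * g⁻¹ ∈ Subgroup.closure {g : G | orderOf g = 2} :=
      hLn.conj_mem _ hzL g
    have hcord : orderOf (((c : ↥(Subgroup.closure {g : G | orderOf g = 2})) : G)) ≠ 0 :=
      (orderOf_pos _).ne'
    have h1 : Subgroup.zpowers (g * a ^ 2 ^ (n + 2) * g⁻¹) ≤ Subgroup.zpowers (a ^ 2 ^ (n + 2)) := by
      apply Cfsg.Agent.Lib.L0.le_of_le_zpowers_of_card_dvd hcord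
        (Subgroup.zpowers_le.mpr (hLc _ hconjL)) (Subgroup.zpowers_le.mpr (hLc _ hzL))
      rw [Nat.card_zpowers, Nat.card_zpowers, Cfsg.Agent.Lib.L0.QuatData.orderOf_conj']
    have h2 := h1 (Subgroup.mem_zpowers _)
    obtain ⟨k, hk⟩ := Subgroup.mem_zpowers_iff.mp h2
    have h3 : g * a ^ 2 ^ (n + 2) * g⁻¹ = a ^ 2 ^ (n + 2) := by
      rcases Int.even_or_odd k with ⟨j, rfl⟩ | ⟨j, rfl⟩
      · exfalso
        have : (a ^ 2 ^ (n + 2)) ^ (j + j) = 1 := by
          rw [zpow_add, ← zpow_add, ← two_mul, zpow_mul, zpow_ofNat, h.pow_N_sq, one_zpow]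
        rw [this] at hk
        apply hz1
        have : a ^ 2 ^ (n + 2) = g⁻¹ * (g * a ^ 2 ^ (n + 2) * g⁻¹) * g := by group
        rw [this, ← hk]; group
      · have : (a ^ 2 ^ (n + 2)) ^ (2 * j + 1) = a ^ 2 ^ (n + 2) := by
          rw [zpow_add, zpow_mul, zpow_ofNat, h.pow_N_sq, one_zpow, one_mul, zpow_one]
        rw [← hk, this]
    calc g * a ^ 2 ^ (n + 2) = (g * a ^ 2 ^ (n + 2) * g⁻¹) * g := by group
      _ = a ^ 2 ^ (n + 2) * g := by rw [h3]
  -- every central element is `1` or `z`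
  have hcen : ∀ x ∈ Subgroup.center G, x = 1 ∨ x = a ^ 2 ^ (n + 2) := by
    intro x hx
    have hxc : ∀ g : G, g * x * g⁻¹ = x := by
      intro g
      have := (Subgroup.mem_center_iff.mp hx) g
      rw [this]; group
    -- the odd part of `x` is trivial
    obtain ⟨k, r, hr, hkr⟩ := Nat.exists_eq_two_pow_mul_odd (orderOf_pos x).ne'
    have hyn : (Subgroup.zpowers (x ^ 2 ^ k)).Normal := by
      constructor
      intro w hw g
      obtain ⟨j, rfl⟩ := Subgroup.mem_zpowers_iff.mp hw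
      have : g * (x ^ 2 ^ k) ^ j * g⁻¹ = (x ^ 2 ^ k) ^ j := by
        rw [← conj_zpow, ← conj_pow, hxc g]
      rw [this]; exact Subgroup.zpow_mem _ (Subgroup.mem_zpowers _) _
    have hyord : orderOf (x ^ 2 ^ k) = r := by
      rw [orderOf_pow_of_dvd (by positivity) ⟨r, hkr⟩, hkr, Nat.mul_div_cancel_left _ (by positivity)]
    have hybot := hO _ hyn (by rw [Nat.card_zpowers, hyord]; exact hr)
    have hr1 : r = 1 := by
      rw [← hyord, orderOf_eq_one_iff]
      have : x ^ 2 ^ k ∈ Subgroup.zpowers (x ^ 2 ^ k) := Subgroup.mem_zpowers _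
      rw [hybot, Subgroup.mem_bot] at this
      exact this
    rw [hr1, mul_one] at hkr
    have hxn : (Subgroup.zpowers x).Normal := by
      constructor
      intro w hw g
      obtain ⟨j, rfl⟩ := Subgroup.mem_zpowers_iff.mp hw
      have : g * x ^ j * g⁻¹ = x ^ j := by rw [← conj_zpow, hxc g]
      rw [this]; exact Subgroup.zpow_mem _ (Subgroup.mem_zpowers _) _
    have hxp : IsPGroup 2 (Subgroup.zpowers x) := by
      apply IsPGroup.of_card (n := k)
      rw [Nat.card_zpowers, hkr]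
    have hxS : x ∈ (S : Subgroup G) := hxp.le_sylow_of_normal S (Subgroup.mem_zpowers x)
    exact h.center hN2 hxS fun y _ => (Subgroup.mem_center_iff.mp hx) y
  rw [Nat.card_eq_two_iff]
  refine ⟨1, ⟨a ^ 2 ^ (n + 2), hzc⟩, ?_, ?_⟩
  · intro h1
    apply hz1
    exact (congrArg Subtype.val h1).symm
  · ext x
    simp only [Set.mem_insert_iff, Set.mem_singleton_iff, Set.mem_univ, iff_true]
    rcases hcen x x.2 with h1 | h1
    · left; exact Subtype.ext h1
    · right; exact Subtype.ext h1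

end Cfsg.Agent.S0847
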