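import Mathlib
import Cfsg.Statements.S0950
import Cfsg.Agent.Lib.H5.Q8Aut
import Cfsg.Agent.Lib.H5.AutomizerTools
import Cfsg.Agent.Lib.L0.FrobeniusPC
import Cfsg.Agent.Lib.L0.DihedralSylow
import Cfsg.Agent.Lib.L0.TransferPC

set_option autoImplicit false
open Cfsg

namespace Cfsg.Agent.S0950

open Subgroup Cfsg.Agent.Lib.H5 Cfsg.Agent.Lib.L0

/-- A subgroup of order four of a group isomorphic to `Q₈` is generated by an element of order
four. -/
theorem exists_gen {G : Type*} [Group G] [Finite G] (S : Subgroup G)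
    (e : S ≃* QuaternionGroup 2) (X : Subgroup G) (hX : X ≤ S) (hX4 : Nat.card X = 4) :
    ∃ x, ∃ hx : x ∈ S, (⟨x, hx⟩ : S) * ⟨x, hx⟩ ≠ 1 ∧ X = zpowers x := by
  -- an element of `X` of order four
  have hex : ∃ x ∈ X, x * x ≠ 1 := by
    by_contra hcon
    push Not at hcon
    have hsub : (X : Set G) ⊆ {1, ((e.symm (QuaternionGroup.a 2) : S) : G)} := by
      intro x hx
      have h1 := hcon x hx
      have h2 : e ⟨x, hX hx⟩ * e ⟨x, hX hx⟩ = 1 := by
        rw [← map_mul]
        have : (⟨x, hX hx⟩ : S) * ⟨x, hX hx⟩ = 1 := Subtype.ext h1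
        rw [this, map_one]
      rcases Q8A.d_inv _ h2 with h | h
      · left
        have : (⟨x, hX hx⟩ : S) = 1 := e.injective (by rw [h, map_one])
        exact congrArg Subtype.val this
      · right
        have : (⟨x, hX hx⟩ : S) = e.symm (QuaternionGroup.a 2) := by
          rw [← h, MulEquiv.symm_apply_apply]
        exact congrArg Subtype.val this
    have h3 : Nat.card X ≤ 2 := by
      have := Set.ncard_le_ncard hsub (Set.toFinite _)
      have h4 : ({1, ((e.symm (QuaternionGroup.a 2) : S) : G)} : Set G).ncard ≤ 2 := by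
        have := Set.ncard_insert_le (1 : G) ({((e.symm (QuaternionGroup.a 2) : S) : G)} : Set G)
        rw [Set.ncard_singleton] at this
        exact this
      have h5 : (X : Set G).ncard = Nat.card X := rfl
      omega
    omega
  obtain ⟨x, hxX, hxx⟩ := hex
  refine ⟨x, hX hxX, ?_, ?_⟩
  · intro h
    exact hxx (congrArg Subtype.val h)
  · symm
    apply Subgroup.eq_of_le_of_card_ge (zpowers_le.mpr hxX)
    rw [hX4, Nat.card_zpowers]
    have h4 : x ^ 4 = 1 := by
      have := Q8A.d_four (e ⟨x, hX hxX⟩)
      rw [← map_mul, ← map_mul] at this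
      have h5 : (⟨x, hX hxX⟩ : S) * ⟨x, hX hxX⟩ * (⟨x, hX hxX⟩ * ⟨x, hX hxX⟩) = 1 :=
        e.injective (by rw [this, map_one])
      have h6 := congrArg Subtype.val h5
      simp only [Subgroup.coe_mul, Subgroup.coe_one] at h6
      rw [← h6]; simp only [pow_succ, pow_zero, one_mul, mul_assoc]
    have hdvd : orderOf x ∣ 2 ^ 2 := orderOf_dvd_of_pow_eq_one (by norm_num; exact h4)
    obtain ⟨k, hk, hk'⟩ := (Nat.dvd_prime_pow Nat.prime_two).mp hdvd
    interval_cases k
    · exfalso
      rw [pow_zero, orderOf_eq_one_iff] at hk'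
      apply hxx; rw [hk', one_mul]
    · exfalso
      apply hxx
      rw [← pow_two]
      have := pow_orderOf_eq_one x
      rwa [hk', pow_one] at this
    · rw [hk']; norm_num

/-- Let S be a Sylow 2-subgroup of the finite group G that is isomorphic to the quaternion group of order 8, and suppose S has no normal complement in G. Then any two subgroups of order 4 of S are conjugate by an element of the normalizer of S. -/
theorem result {G : Type*} [Group G] [Finite G] (S : Sylow 2 G) (e : (S : Subgroup G) ≃* QuaternionGroup 2) (hnc : ∀ N : Subgroup G, N.Normal → ¬ Subgroup.IsComplement' N (S : Subgroup G)) (A B : Subgroup G) (hA : A ≤ S) (hB : B ≤ S) (hA4 : Nat.card A = 4) (hB4 : Nat.card B = 4) : ∃ n ∈ Subgroup.normalizer ((S : Subgroup G) : Set G), B = A.map (MulAut.conj n).toMonoidHom := by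
  have : Fact (Nat.Prime 2) := ⟨Nat.prime_two⟩
  by_contra hcon
  push Not at hcon
  obtain ⟨a, haS, haa, hA⟩ := exists_gen (S : Subgroup G) e A hA hA4
  obtain ⟨b, hbS, hbb, hB⟩ := exists_gen (S : Subgroup G) e B hB hB4
  have hS8 : Nat.card (S : Subgroup G) = 8 := by
    rw [Nat.card_congr e.toEquiv, Nat.card_eq_fintype_card, QuaternionGroup.card]
  have hF : FrobHyp 2 G := by
    apply FrobHyp.of_sylow S
    intro Q hQS g hg hcop
    have hodd : Odd (orderOf g) := Nat.coprime_two_right.mp hcop
    by_cases hQ : Q = (S : Subgroup G)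
    · subst hQ
      by_cases hφ : (S : Subgroup G).normalizerMonoidHom ⟨g, hg⟩ = 1
      · apply mem_centralizer_of_normalizerMonoidHom_pow (S : Subgroup G) hg 1
          (Nat.coprime_one_right _)
        rw [pow_one, hφ]
      · exfalso
        have hoddφ : Odd (orderOf ((S : Subgroup G).normalizerMonoidHom ⟨g, hg⟩)) := by
          apply Odd.of_dvd_nat hodd
          have := orderOf_map_dvd (S : Subgroup G).normalizerMonoidHom
            (⟨g, hg⟩ : normalizer ((S : Subgroup G) : Set G))
          rwa [Subgroup.orderOf_mk] at this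
        obtain ⟨k, hk⟩ := Q8A.core e _ hoddφ hφ ⟨a, haS⟩ ⟨b, hbS⟩ haa hbb
        have hgk : g ^ k ∈ normalizer ((S : Subgroup G) : Set G) := pow_mem hg k
        apply hcon (g ^ k) hgk
        rw [hA, hB, MonoidHom.map_zpowers]
        have happ := AZ.normalizerMonoidHom_pow_apply (S : Subgroup G) g hg k ⟨a, haS⟩
        have hconj : (MulAut.conj (g ^ k)).toMonoidHom a = g ^ k * a * (g ^ k)⁻¹ := rfl
        rw [hconj, ← happ]
        rcases hk with hk | hk
        · rw [hk]
        · rw [hk]
          show zpowers b = zpowers (b⁻¹)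
          rw [zpowers_inv]
    · -- proper subgroups are cyclic
      have hdvd : Nat.card Q ∣ 8 := hS8 ▸ Subgroup.card_dvd_of_le hQS
      have hne8 : Nat.card Q ≠ 8 := by
        intro h
        apply hQ
        exact Subgroup.eq_of_le_of_card_ge hQS (by rw [hS8, h])
      have hQ2 : IsPGroup 2 Q := S.2.to_le hQS
      have hcyc : IsCyclic Q := by
        have h8 : (8 : ℕ) = 2 ^ 3 := by norm_num
        rw [h8] at hdvd
        obtain ⟨k, hk, hk'⟩ := (Nat.dvd_prime_pow Nat.prime_two).mp hdvd
        interval_cases k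
        · have : Subsingleton Q := (Nat.card_eq_one_iff_unique.mp (by rw [hk']; norm_num)).1
          infer_instance
        · exact isCyclic_of_prime_card (p := 2) (by rw [hk']; norm_num)
        · obtain ⟨x, hxS, -, hQx⟩ := exists_gen (S : Subgroup G) e Q hQS (by rw [hk']; norm_num)
          rw [hQx]
          infer_instance
        · exact absurd (by rw [hk']; norm_num) hne8
      exact mem_centralizer_of_cyclic_two_group Q hcyc hQ2 hg hcop
  obtain ⟨N, hN, hc⟩ := HasNormalPComplement.forall_sylow (hasNormalPComplement_of_frobHyp hF) S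
  exact hnc N hN hc

end Cfsg.Agent.S0950
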