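import Cfsg.Statements.S0201
import Cfsg.Agent.Lib.H1.BSChar
import Cfsg.Agent.S0847
import Cfsg.Agent.S0950
import Cfsg.Agent.Lib.L0.PRegCongP

set_option autoImplicit false
open Cfsg

namespace Cfsg.Agent.S0201


open Cfsg.Agent.Lib.L0 Cfsg.Agent.Lib.H1.BSGrp in
/-- The case of the quaternion group of order eight. -/
theorem card_center_q8 {G : Type*} [Group G] [Finite G] (S : Sylow 2 G)
    (e : (S : Subgroup G) ≃* QuaternionGroup 2)
    (hO : ∀ N : Subgroup G, N.Normal → Odd (Nat.card N) → N = ⊥) :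
    Nat.card (Subgroup.center G) = 2 := by
  classical
  obtain ⟨a, h⟩ := exists_quatData (S : Subgroup G) 2 e
  apply card_center_of_central S h hO
  by_cases hnc : ∀ N : Subgroup G, N.Normal → ¬ Subgroup.IsComplement' N (S : Subgroup G)
  · have hfus : ∀ s ∈ (S : Subgroup G), s * s ≠ 1 →
        ∃ g : G, g * a * g⁻¹ = s ∨ g * a * g⁻¹ = s⁻¹ := fun s hs hs2 =>
      fusion S h (fun A B hA hB hA4 hB4 => Cfsg.Agent.S0950.result S e hnc A B hA hB hA4 hB4) hs hs2
    obtain ⟨lam, b, hbS, hbab, hsd, hval, hlama, hcore⟩ := exists_special S h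
    have hs : Setup S a b lam := ⟨h, hbS, hbab, hsd, hval, hlama, hcore, hfus⟩
    obtain ⟨M, hM⟩ := Cfsg.Agent.Lib.L0.PRegP.exists_isPModular Nat.prime_two
    letI := Fintype.ofFinite G
    obtain ⟨N, hNn, hxN, haN⟩ := hs.exists_normal hM
    exact x_central_of_normal S h hO N hNn hxN haN hfus
  · push Not at hnc
    obtain ⟨N₀, hN₀n, hcomp⟩ := hnc
    exact x_central_of_complement S h hO N₀ hN₀n hcomp

/-- Brauer–Suzuki Theorem: if a Sylow 2-subgroup of a finite group is generalized quaternion (of order at least 8) and the group has no nontrivial normal subgroup of odd order, then its centre has order 2. -/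
theorem result {G : Type*} [Group G] [Finite G] (S : Sylow 2 G) (n : ℕ) (e : (S : Subgroup G) ≃* QuaternionGroup (2 ^ (n + 1))) (hO : ∀ N : Subgroup G, N.Normal → Odd (Nat.card N) → N = ⊥) : Nat.card (Subgroup.center G) = 2 := by
  classical
  rcases n with _ | m
  · exact card_center_q8 S e hO
  · exact Cfsg.Agent.S0847.result S m e hO

end Cfsg.Agent.S0201
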