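import Cfsg.Statements.S0209
import Mathlib
import Cfsg.Agent.Lib.H2.Dihedral

set_option autoImplicit false
open Cfsg

namespace Cfsg.Agent.S0209

open Cfsg.Agent.Lib.H2

/-- If x, y are involutions whose product has even order n, the element (xy)^(n/2) is an involution that commutes with x and with y. -/
theorem result {G : Type*} [Group G] [Finite G] (x y : G) (hx : orderOf x = 2) (hy : orderOf y = 2) (heven : Even (orderOf (x * y))) : orderOf ((x * y) ^ (orderOf (x * y) / 2)) = 2 ∧ Commute ((x * y) ^ (orderOf (x * y) / 2)) x ∧ Commute ((x * y) ^ (orderOf (x * y) / 2)) y := by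
  have hx2 := mul_self_of_orderOf_two hx
  have hy2 := mul_self_of_orderOf_two hy
  have hpos : 0 < orderOf (x * y) := orderOf_pos _
  obtain ⟨k, hk⟩ := heven
  have hk' : orderOf (x * y) / 2 = k := by omega
  have hkpos : 0 < k := by omega
  rw [hk']
  have hord : orderOf ((x * y) ^ k) = 2 := by
    rw [orderOf_pow_of_dvd (by omega) ⟨2, by omega⟩]
    rw [hk]; exact Nat.div_eq_of_eq_mul_left hkpos (by ring)
  have hz2 : (x * y) ^ k * (x * y) ^ k = 1 := mul_self_of_orderOf_two hord
  have hzi : ((x * y) ^ k)⁻¹ = (x * y) ^ k := inv_of_orderOf_two hord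
  refine ⟨hord, ?_, ?_⟩
  · have := inv_zpow_swap hx2 hy2 (k : ℤ)
    rw [zpow_neg, zpow_natCast, hzi] at this
    exact this.symm
  · have := inv_zpow_swap' hx2 hy2 (k : ℤ)
    rw [zpow_neg, zpow_natCast, hzi] at this
    exact this.symm

end Cfsg.Agent.S0209
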