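import Cfsg.Statements.S0211
import Mathlib
import Cfsg.Agent.Lib.H2.Dihedral

set_option autoImplicit false
open Cfsg

namespace Cfsg.Agent.S0211

open Cfsg.Agent.Lib.H2

/-- Let x, y be involutions with xy of even order n and z = (xy)^(n/2). Then xz is conjugate to x by an element of the subgroup generated by x, y if and only if 4 divides n. -/
theorem result {G : Type*} [Group G] [Finite G] (x y : G) (hx : orderOf x = 2) (hy : orderOf y = 2) (heven : Even (orderOf (x * y))) : (∃ d ∈ Subgroup.closure ({x, y} : Set G), d * x * d⁻¹ = x * (x * y) ^ (orderOf (x * y) / 2)) ↔ 4 ∣ orderOf (x * y) := by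
  have hx2 := mul_self_of_orderOf_two hx
  have hy2 := mul_self_of_orderOf_two hy
  have hpos : 0 < orderOf (x * y) := orderOf_pos _
  obtain ⟨k, hk⟩ := heven
  have hk' : orderOf (x * y) / 2 = k := by omega
  have hkpos : 0 < k := by omega
  rw [hk']
  -- x * r^k = r^{-k} * x
  have hswap : x * (x * y) ^ k = (x * y) ^ (-(k : ℤ)) * x := by
    have := inv_zpow_swap hx2 hy2 (k : ℤ)
    rwa [zpow_natCast] at this
  constructor
  · rintro ⟨d, hd, hdx⟩
    obtain ⟨i, hi⟩ := dihedral_conj hx2 hy2 hd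
    rw [hdx, hswap] at hi
    have h1 : (x * y) ^ (2 * i + k) = 1 := by
      have := mul_right_cancel hi
      rw [zpow_add, ← this, ← zpow_add]; simp
    have h2 := (orderOf_dvd_iff_zpow_eq_one).2 h1
    rw [hk] at h2
    obtain ⟨c, hc⟩ := h2
    push_cast at hc
    have : (2 : ℤ) ∣ k := ⟨k * c - i, by linear_combination hc⟩
    have h2k : 2 ∣ k := by exact_mod_cast this
    rw [hk]
    obtain ⟨m, hm⟩ := h2k
    exact ⟨m, by omega⟩
  · intro h4
    obtain ⟨m, hm⟩ := h4
    have hkm : k = 2 * m := by omega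
    obtain ⟨d, hd, hdx⟩ := dihedral_conj_exists hx2 hy2 (-(m : ℤ))
    refine ⟨d, hd, ?_⟩
    rw [hdx, hswap]
    congr 2
    rw [hkm]; push_cast; ring

end Cfsg.Agent.S0211
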