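import Cfsg.Statements.S0216
import Mathlib
import Cfsg.Agent.Lib.H2.IsolatedProd

set_option autoImplicit false
open Cfsg

namespace Cfsg.Agent.S0216

open Cfsg.Agent.Lib.H2

/-- For an involution u in a Sylow 2-subgroup P of a finite group G, the following are equivalent: no G-conjugate of u other than u lies in P; every commutator of u with an element of G has odd order. -/
theorem result {G : Type*} [Group G] [Finite G] (P : Sylow 2 G) (u : G) (hu : orderOf u = 2) (huP : u ∈ P) : (∀ g : G, g * u * g⁻¹ ∈ P → g * u * g⁻¹ = u) ↔ (∀ g : G, Odd (orderOf (u * g * u⁻¹ * g⁻¹))) := by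
  have hui := inv_of_orderOf_two hu
  have hcomm : ∀ g : G, u * g * u⁻¹ * g⁻¹ = u * (g * u * g⁻¹) := by
    intro g; rw [hui]; simp only [mul_assoc]
  constructor
  · intro hiso g
    rw [hcomm]
    by_contra hodd
    rw [Nat.not_odd_iff_even] at hodd
    have hs : orderOf (g * u * g⁻¹) = 2 := by rw [orderOf_conj_eq, hu]
    exact (isolated_even_prod hu hiso hs hodd).2 g rfl
  · intro h g hg
    have h1 := h g
    rw [hcomm] at h1
    have hmem : u * (g * u * g⁻¹) ∈ P := mul_mem huP hg
    have h2 : ∃ k : ℕ, orderOf (⟨u * (g * u * g⁻¹), hmem⟩ : P) = 2 ^ k :=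
      (IsPGroup.iff_orderOf.1 P.isPGroup') _
    obtain ⟨k, hk⟩ := h2
    have h3 : orderOf (u * (g * u * g⁻¹)) = 2 ^ k := by
      rw [← hk]
      exact (Subgroup.orderOf_mk _ hmem).symm
    rw [h3] at h1
    have hk0 : k = 0 := by
      rcases k with _ | k
      · rfl
      · exfalso
        rw [← Nat.not_even_iff_odd] at h1
        exact h1 ⟨2 ^ k, by ring⟩
    rw [hk0, pow_zero, orderOf_eq_one_iff] at h3
    have h4 : g * u * g⁻¹ = u⁻¹ := (eq_inv_of_mul_eq_one_right h3)
    rw [h4, hui]

end Cfsg.Agent.S0216
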