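import Cfsg.Statements.S0208
import Mathlib

set_option autoImplicit false
open Cfsg

namespace Cfsg.Agent.S0208

/-- If x, y are involutions and xy has odd order, then some element of the subgroup generated by x and y conjugates x to y. -/
theorem result {G : Type*} [Group G] [Finite G] (x y : G) (hx : orderOf x = 2) (hy : orderOf y = 2) (hodd : Odd (orderOf (x * y))) : ∃ d ∈ Subgroup.closure ({x, y} : Set G), d * x * d⁻¹ = y := by
  have hx2 : x * x = 1 := by rw [← pow_two, ← hx, pow_orderOf_eq_one]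
  have hy2 : y * y = 1 := by rw [← pow_two, ← hy, pow_orderOf_eq_one]
  have hxi : x⁻¹ = x := inv_eq_of_mul_eq_one_right hx2
  have hyi : y⁻¹ = y := inv_eq_of_mul_eq_one_right hy2
  have hsc : SemiconjBy x (x * y) (y * x) := by
    unfold SemiconjBy
    rw [← mul_assoc, hx2, one_mul, mul_assoc, hx2, mul_one]
  obtain ⟨k, hk⟩ := hodd
  have hr : (y * x) ^ (2 * k + 1) = 1 := by
    rw [← hk, hsc.orderOf_eq x]
    exact pow_orderOf_eq_one _
  have hxm : x ∈ Subgroup.closure ({x, y} : Set G) := Subgroup.subset_closure (by simp)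
  have hym : y ∈ Subgroup.closure ({x, y} : Set G) := Subgroup.subset_closure (by simp)
  refine ⟨(y * x) ^ (k + 1), Subgroup.pow_mem _ (Subgroup.mul_mem _ hym hxm) _, ?_⟩
  have hsc' := hsc.pow_right (k + 1)
  unfold SemiconjBy at hsc'
  have hinv : ((y * x) ^ (k + 1))⁻¹ = (x * y) ^ (k + 1) := by
    rw [← inv_pow, mul_inv_rev, hxi, hyi]
  rw [hinv, mul_assoc, hsc', ← mul_assoc, ← pow_add]
  have : k + 1 + (k + 1) = (2 * k + 1) + 1 := by ring
  rw [this, pow_succ, hr, one_mul, mul_assoc, hx2, mul_one]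

end Cfsg.Agent.S0208
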