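import Cfsg.Statements.S0229
import Mathlib
import Cfsg.Agent.Lib.H2.IsolatedProd
import Cfsg.Agent.S0208

set_option autoImplicit false
open Cfsg

namespace Cfsg.Agent.S0229

open Cfsg.Agent.Lib.H2

/-- Let t be an involution of a Sylow 2-subgroup S of a finite group G, conjugate in G to no other element of S, and let s be an involution of G not conjugate to t. Then the order of st is twice an odd number. -/
theorem result {G : Type*} [Group G] [Finite G] (S : Sylow 2 G) (t : G) (ht : orderOf t = 2) (htS : t ∈ S) (hiso : ∀ g : G, g * t * g⁻¹ ∈ S → g * t * g⁻¹ = t) (s : G) (hs : orderOf s = 2) (hns : ¬ IsConj s t) : orderOf (s * t) % 4 = 2 := by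
  have hs2 := mul_self_of_orderOf_two hs
  have hord : orderOf (s * t) = orderOf (t * s) := (semiconj_left (y := t) hs2).orderOf_eq s
  rw [hord]
  have heven : Even (orderOf (t * s)) := by
    rw [← Nat.not_odd_iff_even]
    intro hodd
    obtain ⟨d, -, hd⟩ := Cfsg.Agent.S0208.result t s ht hs hodd
    apply hns
    exact (isConj_iff.2 ⟨d, hd⟩).symm
  have h4 := (isolated_even_prod ht hiso hs heven).1
  obtain ⟨k, hk⟩ := heven
  omega

end Cfsg.Agent.S0229
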