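import Cfsg.Statements.S1182
import Cfsg.Agent.Lib.H6.Dihedral

set_option autoImplicit false
open Cfsg

namespace Cfsg.Agent.S1182

/-- Let z be an isolated involution of the finite group G and H a subgroup normalized by z. If x, y ∈ H both commute with z and y = h x h⁻¹ for some h ∈ H, then y = c x c⁻¹ for some c ∈ H commuting with z. -/
theorem result {G : Type*} [Group G] [Finite G] (z : G) (hz : Cfsg.IsIsolatedInvolution z) (H : Subgroup G) (hzH : z ∈ Subgroup.normalizer (H : Set G)) (x y : G) (hx : x ∈ H) (hy : y ∈ H) (hxz : Commute x z) (hyz : Commute y z) (h : G) (hh : h ∈ H) (hconj : h * x * h⁻¹ = y) : ∃ c ∈ H, Commute c z ∧ c * x * c⁻¹ = y := by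
  have ha : z * z = 1 := Cfsg.Agent.Lib.H6.isolated_mul_self hz
  have hzinv : z⁻¹ = z := inv_eq_of_mul_eq_one_right ha
  obtain ⟨n, -, -, hk⟩ := Cfsg.Agent.Lib.H6.isolated_exists_K hz h
  -- h z h⁻¹ z ∈ H
  have hmem : h * z * h⁻¹ * z ∈ H := by
    have h1 : z * h⁻¹ * z⁻¹ ∈ H := (Subgroup.mem_normalizer_iff.mp hzH h⁻¹).mp (H.inv_mem hh)
    rw [hzinv] at h1
    have : h * z * h⁻¹ * z = h * (z * h⁻¹ * z) := by group
    rw [this]
    exact H.mul_mem hh h1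
  have hkH : (h * z * h⁻¹ * z) ^ n ∈ H := H.pow_mem hmem n
  -- h z h⁻¹ z commutes with y
  have hcy : Commute (h * z * h⁻¹ * z) y := by
    have h1 : Commute (h * z * h⁻¹) y := by
      rw [← hconj]
      show h * z * h⁻¹ * (h * x * h⁻¹) = h * x * h⁻¹ * (h * z * h⁻¹)
      calc h * z * h⁻¹ * (h * x * h⁻¹) = h * (z * x) * h⁻¹ := by group
        _ = h * (x * z) * h⁻¹ := by rw [hxz.eq]
        _ = h * x * h⁻¹ * (h * z * h⁻¹) := by group
    exact h1.mul_left hyz.symm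
  have hky : Commute ((h * z * h⁻¹ * z) ^ n) y := hcy.pow_left n
  refine ⟨((h * z * h⁻¹ * z) ^ n)⁻¹ * h, H.mul_mem (H.inv_mem hkH) hh, ?_, ?_⟩
  · show ((h * z * h⁻¹ * z) ^ n)⁻¹ * h * z = z * (((h * z * h⁻¹ * z) ^ n)⁻¹ * h)
    calc ((h * z * h⁻¹ * z) ^ n)⁻¹ * h * z
        = ((h * z * h⁻¹ * z) ^ n)⁻¹ * (h * z * h⁻¹) * h := by group
      _ = ((h * z * h⁻¹ * z) ^ n)⁻¹ * ((h * z * h⁻¹ * z) ^ n * z * ((h * z * h⁻¹ * z) ^ n)⁻¹) * h := by rw [hk]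
      _ = z * (((h * z * h⁻¹ * z) ^ n)⁻¹ * h) := by group
  · calc ((h * z * h⁻¹ * z) ^ n)⁻¹ * h * x * (((h * z * h⁻¹ * z) ^ n)⁻¹ * h)⁻¹
        = ((h * z * h⁻¹ * z) ^ n)⁻¹ * (h * x * h⁻¹) * ((h * z * h⁻¹ * z) ^ n) := by group
      _ = ((h * z * h⁻¹ * z) ^ n)⁻¹ * (y * ((h * z * h⁻¹ * z) ^ n)) := by rw [hconj]; group
      _ = ((h * z * h⁻¹ * z) ^ n)⁻¹ * (((h * z * h⁻¹ * z) ^ n) * y) := by rw [hky.eq]
      _ = y := by group

end Cfsg.Agent.S1182
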