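import Cfsg.Statements.S1499

set_option autoImplicit false
open Cfsg

namespace Cfsg.Agent.S1499

/-- conjugation as a plain function commutes with natural powers -/
theorem conj_pow {G : Type*} [Group G] (g x : G) (n : ℕ) : (g * x * g⁻¹) ^ n = g * x ^ n * g⁻¹ := by
  simp

theorem conj_zpow {G : Type*} [Group G] (g x : G) (n : ℤ) : (g * x * g⁻¹) ^ n = g * x ^ n * g⁻¹ := by
  simp

theorem orderOf_conj' {G : Type*} [Group G] (g x : G) : orderOf (g * x * g⁻¹) = orderOf x := by
  simpa using orderOf_injective (MulAut.conj g).toMonoidHom (MulAut.conj g).injective x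

/-- The key power argument. -/
theorem pow_lemma {G : Type*} [Group G] (g a u b v : G) (m : ℕ)
    (hau : a * u = u * a) (hbv : b * v = v * b) (hu : u ^ m = 1) (hv : v ^ m = 1)
    (hma : (orderOf a).Coprime m) (hmb : (orderOf b).Coprime m)
    (h : g * (a * u) * g⁻¹ = b * v) : g * a * g⁻¹ = b := by
  have h1 : g * a ^ m * g⁻¹ = b ^ m := by
    have := congrArg (fun x => x ^ m) h
    simp only [conj_pow] at this
    rw [(Commute.mul_pow hau m), (Commute.mul_pow hbv m), hu, hv, mul_one, mul_one] at this
    exact this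
  have hord : orderOf a = orderOf b := by
    have e1 : orderOf (a ^ m) = orderOf a := hma.orderOf_pow
    have e2 : orderOf (b ^ m) = orderOf b := hmb.orderOf_pow
    rw [← e1, ← e2, ← h1, orderOf_conj']
  -- Bezout
  have hbez := Nat.gcd_eq_gcd_ab (orderOf a) m
  rw [hma.gcd_eq_one] at hbez
  set n := orderOf a with hn
  have key : ∀ x : G, orderOf x = n → x = (x ^ m) ^ (Nat.gcdB n m) := by
    intro x hx
    have : x ^ ((n : ℤ) * Nat.gcdA n m + (m : ℤ) * Nat.gcdB n m) = x := by
      rw [← hbez]; simp
    rw [zpow_add, zpow_mul, zpow_mul, zpow_natCast, zpow_natCast] at this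
    have h0 : x ^ n = 1 := by rw [← hx]; exact pow_orderOf_eq_one x
    rw [h0, one_zpow, one_mul] at this
    exact this.symm
  have ka := key a rfl
  have kb := key b hord.symm
  rw [ka, ← conj_zpow, h1, ← kb]

theorem orderOf_coprime_card {G : Type*} [Group G] [Finite G] (A : Set G) (L : Subgroup G) (H : G → Subgroup G)
    (hD : Cfsg.DadeHypothesis A L H) (a b : G) (ha : a ∈ A) (hb : b ∈ A) :
    (orderOf a).Coprime (Nat.card (H b)) := by
  have hmem : a ∈ L ⊓ Subgroup.centralizer ({a} : Set G) := by
    refine Subgroup.mem_inf.mpr ⟨hD.subset ha, ?_⟩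
    rw [Subgroup.mem_centralizer_iff]
    intro h hh
    rw [Set.mem_singleton_iff.mp hh]
  have hdvd : orderOf a ∣ Nat.card ↥(L ⊓ Subgroup.centralizer ({a} : Set G)) := by
    have := Subgroup.orderOf_dvd_natCard (L ⊓ Subgroup.centralizer ({a} : Set G)) hmem
    exact this
  exact ((hD.coprime b hb a ha).symm.coprime_dvd_left hdvd)

theorem pow_card_eq_one_of_mem {G : Type*} [Group G] [Finite G] (K : Subgroup G) (u : G) (hu : u ∈ K) :
    u ^ Nat.card K = 1 := by
  have h : (⟨u, hu⟩ : K) ^ Nat.card K = 1 := pow_card_eq_one'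
  have h2 := congrArg (fun z : K => (z : G)) h
  simpa only [Subgroup.coe_pow, Subgroup.coe_one] using h2

/-- Under the Dade hypothesis for (A, L, H), let a, b ∈ A. If an element of the coset a·H(a) is conjugate in G to an element of b·H(b), then a and b are conjugate by an element of L. Moreover the set normaliser of the coset a·H(a) is the centraliser of a. -/
theorem result {G : Type*} [Group G] [Finite G] (A : Set G) (L : Subgroup G) (H : G → Subgroup G) (hD : Cfsg.DadeHypothesis A L H) (a b : G) (ha : a ∈ A) (hb : b ∈ A) : ((∃ u ∈ H a, ∃ v ∈ H b, ∃ g : G, g * (a * u) * g⁻¹ = b * v) → ∃ x ∈ L, x * a * x⁻¹ = b) ∧ Subgroup.normalizer ((fun u : G => a * u) '' (H a : Set G)) = Subgroup.centralizer ({a} : Set G) := by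
  have comm : ∀ c ∈ A, ∀ u ∈ H c, c * u = u * c := by
    intro c hc u hu
    have := hD.le_centralizer c hc hu
    rw [Subgroup.mem_centralizer_iff] at this
    exact this c rfl
  constructor
  · rintro ⟨u, hu, v, hv, g, hg⟩
    have hgab : g * a * g⁻¹ = b := by
      apply pow_lemma g a u b v (Nat.card (H a) * Nat.card (H b)) (comm a ha u hu) (comm b hb v hv)
      · rw [pow_mul, pow_card_eq_one_of_mem (H a) u hu, one_pow]
      · rw [mul_comm, pow_mul, pow_card_eq_one_of_mem (H b) v hv, one_pow]
      · exact Nat.Coprime.mul_right (orderOf_coprime_card A L H hD a a ha ha) (orderOf_coprime_card A L H hD a b ha hb)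
      · exact Nat.Coprime.mul_right (orderOf_coprime_card A L H hD b a hb ha) (orderOf_coprime_card A L H hD b b hb hb)
      · exact hg
    obtain ⟨x, hx, hxa⟩ := hD.fusion a ha g (by rw [hgab]; exact hb)
    exact ⟨x, hx, by rw [hxa, hgab]⟩
  · ext g
    rw [Subgroup.mem_set_normalizer_iff, Subgroup.mem_centralizer_iff]
    constructor
    · intro hg
      have h1 : a ∈ (fun u : G => a * u) '' (H a : Set G) := ⟨1, (H a).one_mem, by simp⟩
      obtain ⟨u, hu, hua⟩ := (hg a).mp h1
      simp only at hua
      have hgaa : g * a * g⁻¹ = a := by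
        apply pow_lemma g a 1 a u (Nat.card (H a)) (by simp) (comm a ha u hu) (by simp)
          (pow_card_eq_one_of_mem (H a) u hu) (orderOf_coprime_card A L H hD a a ha ha)
          (orderOf_coprime_card A L H hD a a ha ha)
        rw [mul_one, hua]
      intro h hh
      rw [Set.mem_singleton_iff.mp hh]
      calc a * g = (g * a * g⁻¹) * g := by rw [hgaa]
        _ = g * a := by group
    · intro hg
      have hga : a * g = g * a := hg a rfl
      have hgc : g ∈ Subgroup.centralizer ({a} : Set G) := by
        rw [Subgroup.mem_centralizer_iff]; exact hg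
      have hgc' : g⁻¹ ∈ Subgroup.centralizer ({a} : Set G) := Subgroup.inv_mem _ hgc
      have hga' : g * a * g⁻¹ = a := by rw [← hga]; group
      have hga'' : g⁻¹ * a * g = a := by
        calc g⁻¹ * a * g = g⁻¹ * (a * g) := by group
          _ = g⁻¹ * (g * a) := by rw [hga]
          _ = a := by group
      intro n
      constructor
      · rintro ⟨u, hu, rfl⟩
        refine ⟨g * u * g⁻¹, hD.conj_mem_H a ha g hgc u hu, ?_⟩
        simp only
        calc a * (g * u * g⁻¹) = (g * a * g⁻¹) * (g * u * g⁻¹) := by rw [hga']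
          _ = g * (a * u) * g⁻¹ := by group
      · rintro ⟨u, hu, hun⟩
        simp only at hun
        refine ⟨g⁻¹ * u * g, ?_, ?_⟩
        · have := hD.conj_mem_H a ha g⁻¹ hgc' u hu
          simpa using this
        · simp only
          calc a * (g⁻¹ * u * g) = (g⁻¹ * a * g) * (g⁻¹ * u * g) := by rw [hga'']
            _ = g⁻¹ * (a * u) * g := by group
            _ = g⁻¹ * (g * n * g⁻¹) * g := by rw [hun]
            _ = n := by group

end Cfsg.Agent.S1499
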