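import Cfsg.Statements.S0042
import Mathlib
import Cfsg.Agent.Lib.H1.FpfNilpotent
import Cfsg.Agent.Lib.H18.FrobStructure

set_option autoImplicit false
open Cfsg

namespace Cfsg.Agent.S0042

/-- In a finite Frobenius group, the Frobenius kernel is (the carrier of) a normal subgroup which is nilpotent. -/
theorem result {G : Type*} [Group G] [Finite G] (H : Subgroup G) (hH : Cfsg.IsFrobeniusComplement H) :
    ∃ N : Subgroup G, (N : Set G) = Cfsg.frobeniusKernel H ∧ N.Normal ∧ Group.IsNilpotent N := by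
  classical
  refine ⟨Cfsg.Agent.Lib.H18.frobKer H hH, Cfsg.Agent.Lib.H18.coe_frobKer H hH,
    Cfsg.Agent.Lib.H18.frobKer_normal H hH, ?_⟩
  -- an element of prime order in `H`
  have hcard : Nat.card H ≠ 1 := fun h => hH.1 (Subgroup.card_eq_one.mp h)
  obtain ⟨p, hp, hpdvd⟩ := Nat.exists_prime_and_dvd hcard
  haveI : Fact p.Prime := ⟨hp⟩
  obtain ⟨h, hh⟩ := exists_prime_orderOf_dvd_card' p hpdvd
  have hhG : orderOf (h : G) = p := by rw [Subgroup.orderOf_coe]; exact hh
  have hh1 : (h : G) ≠ 1 := by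
    intro h1
    rw [h1, orderOf_one] at hhG
    exact hp.one_lt.ne hhG
  haveI := Cfsg.Agent.Lib.H18.frobKer_normal H hH
  refine Cfsg.Agent.Lib.H1.fpf_prime_nilpotent hp _ _ rfl
    (MulAut.conjNormal (h : G) : MulAut (Cfsg.Agent.Lib.H18.frobKer H hH)) ?_ ?_
  · intro k hk
    have h1 : (h : G) * (k : G) * (h : G)⁻¹ = k := by
      have := congrArg Subtype.val hk
      rwa [MulAut.conjNormal_apply] at this
    have h2 : (k : G) * (h : G) = (h : G) * (k : G) := by
      calc (k : G) * (h : G) = ((h : G) * (k : G) * (h : G)⁻¹) * (h : G) := by rw [h1]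
        _ = (h : G) * (k : G) := by group
    have h3 : (k : G) ∈ H := Cfsg.Agent.Lib.H18.frob_commute_mem hH h.2 hh1 h2
    have h4 := Cfsg.Agent.Lib.H18.frob_inf_eq_one hH k.2 h3
    exact Subtype.ext h4
  · rw [← map_pow, ← hhG, pow_orderOf_eq_one, map_one]

end Cfsg.Agent.S0042
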