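import Cfsg.Statements.S0040
import Mathlib
import Cfsg.Agent.S0016
import Cfsg.Agent.Lib.H1.FpfAction

set_option autoImplicit false
open Cfsg

namespace Cfsg.Agent.S0040

theorem aux {G : Type*} [Group G] [Finite G] (K H : Subgroup G) [K.Normal]
    (hc : Subgroup.IsComplement' K H) (hK : K ≠ ⊥)
    (hfpf : ∀ h ∈ H, h ≠ 1 → K ⊓ Subgroup.centralizer {h} = ⊥)
    (p : ℕ) [hp : Fact p.Prime] (P : Sylow p H) :
    ∀ X Y : Subgroup (P : Subgroup H), Nat.card X = p → Nat.card Y = p → X = Y := by
  classical
  -- the key claim: every subgroup of order p equals a fixed central one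
  have hPp : IsPGroup p (P : Subgroup H) := P.isPGroup'
  by_cases hne : ∃ X : Subgroup (P : Subgroup H), Nat.card X = p
  swap
  · intro X Y hX _
    exact absurd ⟨X, hX⟩ hne
  obtain ⟨X₀, hX₀⟩ := hne
  haveI : Nontrivial (P : Subgroup H) := by
    have h1 : 1 < Nat.card X₀ := by rw [hX₀]; exact hp.out.one_lt
    have h2 : Nat.card X₀ ≤ Nat.card (P : Subgroup H) := Subgroup.card_le_card_group X₀
    exact Finite.one_lt_card_iff_nontrivial.mp (lt_of_lt_of_le h1 h2)
  haveI := hPp.center_nontrivial
  have hdvd : p ∣ Nat.card (Subgroup.center (P : Subgroup H)) := by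
    rcases (hPp.to_subgroup (Subgroup.center (P : Subgroup H))).card_eq_or_dvd with h1 | h1
    · exfalso
      have := Finite.one_lt_card_iff_nontrivial.mpr
        (inferInstance : Nontrivial (Subgroup.center (P : Subgroup H)))
      omega
    · exact h1
  obtain ⟨z', hz'⟩ := exists_prime_orderOf_dvd_card' p hdvd
  set z : (P : Subgroup H) := (z' : (P : Subgroup H)) with hz
  have hzord : orderOf z = p := by
    rw [hz, Subgroup.orderOf_coe]; exact hz'
  have hz1 : z ≠ 1 := by
    intro h; rw [h, orderOf_one] at hzord; exact hp.out.one_lt.ne hzord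
  have hzp : z ^ p = 1 := by
    have := pow_orderOf_eq_one z
    rwa [hzord] at this
  have hzc : ∀ t : (P : Subgroup H), t * z = z * t := fun t => Subgroup.mem_center_iff.mp z'.2 t
  set Z := Subgroup.zpowers z with hZ
  have hZcard : Nat.card Z = p := by rw [hZ, Nat.card_zpowers, hzord]
  suffices hall : ∀ Y : Subgroup (P : Subgroup H), Nat.card Y = p → Y = Z by
    intro X Y hX hY
    rw [hall X hX, hall Y hY]
  intro Y hY
  by_contra hYZ
  -- a generator of Y
  haveI : Nontrivial Y := Finite.one_lt_card_iff_nontrivial.mp (by rw [hY]; exact hp.out.one_lt)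
  obtain ⟨y', hy'⟩ := exists_ne (1 : Y)
  set y : (P : Subgroup H) := (y' : (P : Subgroup H)) with hy
  have hy1 : y ≠ 1 := fun h => hy' (Subtype.ext h)
  have hyp : y ^ p = 1 := by
    have h1 : y' ^ Nat.card Y = 1 := pow_card_eq_one'
    rw [hY] at h1
    have := congrArg Subtype.val h1
    simpa using this
  have hyord : orderOf y = p := orderOf_eq_prime hyp hy1
  have hyZ : y ∉ Z := by
    intro hmem
    apply hYZ
    have h1 : Subgroup.zpowers y = Y := by
      apply Subgroup.eq_of_le_of_card_ge (Subgroup.zpowers_le.mpr y'.2)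
      rw [Nat.card_zpowers, hyord, hY]
    have h2 : Y ≤ Z := by rw [← h1]; exact Subgroup.zpowers_le.mpr hmem
    exact Subgroup.eq_of_le_of_card_ge h2 (by rw [hZcard, hY])
  have hzy : ∀ i : ℕ, z ^ i * y ≠ 1 := by
    intro i h
    apply hyZ
    have : y = (z ^ i)⁻¹ := eq_inv_of_mul_eq_one_right h
    rw [this]
    exact Z.inv_mem (Z.pow_mem (Subgroup.mem_zpowers z) i)
  -- move to G
  set P' : Subgroup G := ((P : Subgroup H).map H.subtype) with hP'
  have hP'H : P' ≤ H := Subgroup.map_subtype_le _
  have hP'p : IsPGroup p P' := hPp.map H.subtype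
  have hfpf' : ∀ a ∈ P', a ≠ 1 → K ⊓ Subgroup.centralizer {a} = ⊥ :=
    fun a ha => hfpf a (hP'H ha)
  have hnorm : P' ≤ Subgroup.normalizer (K : Set G) := by
    rw [Subgroup.normalizer_eq_top_iff.mpr inferInstance]; exact le_top
  have hcop := Lib.H1.coprime_of_fpf hnorm hfpf'
  haveI : Group.IsNilpotent P' := hP'p.isNilpotent
  have hca : Lib.H1.CoprimeAction P' K := ⟨hnorm, hcop, Or.inl inferInstance⟩
  set x : G := ((z : H) : G) with hx
  set w : G := ((y : H) : G) with hw
  have hxP' : x ∈ P' := ⟨(z : H), z.2, rfl⟩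
  have hwP' : w ∈ P' := ⟨(y : H), y.2, rfl⟩
  have hxw : x * w = w * x := by
    have := hzc y
    have h2 := congrArg (fun t : (P : Subgroup H) => ((t : H) : G)) this
    simp only [Subgroup.coe_mul] at h2
    exact h2.symm
  have hxp : x ^ p = 1 := by
    have h2 := congrArg (fun t : (P : Subgroup H) => ((t : H) : G)) hzp
    simpa using h2
  have hwp : w ^ p = 1 := by
    have h2 := congrArg (fun t : (P : Subgroup H) => ((t : H) : G)) hyp
    simpa using h2
  have hx1 : x ≠ 1 := by
    intro h
    apply hz1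
    apply Subtype.ext
    apply Subtype.ext
    exact h
  have hpP' : p ∣ Nat.card P' := by
    have h1 : orderOf (⟨x, hxP'⟩ : P') = p := by
      apply orderOf_eq_prime
      · apply Subtype.ext; simpa using hxp
      · intro h; exact hx1 (congrArg Subtype.val h)
    rw [← h1]
    exact orderOf_dvd_natCard _
  have hKp : (Nat.card K).Coprime p := (Nat.Coprime.coprime_dvd_left hpP' hcop).symm
  apply hK
  rw [eq_bot_iff]
  apply Lib.H9.le_of_centralizers_le (p := p) hca hKp hxP' hwP' hxw hxp hwp
  · exact (hfpf' x hxP' hx1).le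
  · intro i
    refine (hfpf' _ (P'.mul_mem (P'.pow_mem hxP' i) hwP') ?_).le
    intro h
    apply hzy i
    apply Subtype.ext
    apply Subtype.ext
    simpa using h

/-- Sylow subgroups of Frobenius complements: if H complements a nontrivial normal subgroup K and every nonidentity element of H has trivial centraliser in K, then each Sylow subgroup of H is cyclic or isomorphic to a generalized quaternion group. -/
theorem result {G : Type*} [Group G] [Finite G] (K H : Subgroup G) [K.Normal]
    (hc : Subgroup.IsComplement' K H) (hK : K ≠ ⊥) (hfpf : ∀ h ∈ H, h ≠ 1 → K ⊓ Subgroup.centralizer {h} = ⊥)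
    (p : ℕ) [Fact p.Prime] (P : Sylow p H) :
    IsCyclic P ∨ ∃ n : ℕ, Nonempty (P ≃* QuaternionGroup (2 ^ n)) := by
  classical
  have hmain := Cfsg.Agent.S0016.result (G := (P : Subgroup H)) p P.isPGroup' (aux K H hc hK hfpf p P)
  rcases hmain with h | ⟨-, n, hn⟩
  · exact Or.inl h
  · exact Or.inr ⟨n, hn⟩

end Cfsg.Agent.S0040
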