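import Cfsg.Statements.S0069
import Mathlib
import Cfsg.Agent.S0040
import Cfsg.Agent.Lib.H1.FpfAction
import Cfsg.Agent.Lib.H1.FrobeniusConj2
import Cfsg.Agent.Lib.H1.CoprimeAbelian
import Cfsg.Agent.Lib.H1.IndexBasic

set_option autoImplicit false
open Cfsg

namespace Cfsg.Agent.S0069

open Cfsg.Agent.Lib.H1 in
theorem exists_invariant_abelian {G : Type*} [Group G] [Finite G] {A K : Subgroup G}
    (hca : CoprimeAction A K) (hK : K ≠ ⊥) :
    ∃ V : Subgroup G, V ≤ K ∧ V ≠ ⊥ ∧ IsMulCommutative V ∧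
      A ≤ Subgroup.normalizer (V : Set G) := by
  have hKcard : Nat.card K ≠ 1 := fun h => hK (Subgroup.card_eq_one.mp h)
  obtain ⟨r, hr, hrdvd⟩ := Nat.exists_prime_and_dvd hKcard
  haveI : Fact r.Prime := ⟨hr⟩
  obtain ⟨R, hRsyl, hFR⟩ := coprime_exists_invariant_sylow hca r
  have hRne : R ≠ ⊥ := hRsyl.ne_bot hrdvd
  refine ⟨R ⊓ Subgroup.centralizer (R : Set G), inf_le_left.trans hRsyl.le, ?_, ?_,
    hFR.trans (normalizer_le_normalizer_inf_centralizer R)⟩
  · haveI : Nontrivial R := (Subgroup.nontrivial_iff_ne_bot R).mpr hRne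
    haveI := hRsyl.isPGroup.center_nontrivial
    obtain ⟨z, hz⟩ := exists_ne (1 : Subgroup.center R)
    intro h
    have hzV : ((z : R) : G) ∈ R ⊓ Subgroup.centralizer (R : Set G) := by
      refine ⟨(z : R).2, ?_⟩
      show ((z : R) : G) ∈ Subgroup.centralizer (R : Set G)
      rw [Subgroup.mem_centralizer_iff]
      intro y hy
      have := Subgroup.mem_center_iff.mp z.2 ⟨y, hy⟩
      exact congrArg Subtype.val this
    rw [h, Subgroup.mem_bot] at hzV
    apply hz
    apply Subtype.ext
    apply Subtype.ext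
    exact hzV
  · refine ⟨⟨fun a b => ?_⟩⟩
    apply Subtype.ext
    have h1 : (a : G) ∈ Subgroup.centralizer (R : Set G) := a.2.2
    have := (Subgroup.mem_centralizer_iff.mp h1) (b : G) b.2.1
    simp only [Subgroup.coe_mul]
    exact this.symm

open Cfsg.Agent.Lib.H1 in
theorem isCyclic_of_fpf_card_pq' {G : Type*} [Group G] [Finite G] {A K : Subgroup G} (hK : K ≠ ⊥)
    (hAK : A ≤ Subgroup.normalizer (K : Set G))
    (hfpf : ∀ a ∈ A, a ≠ 1 → K ⊓ Subgroup.centralizer {a} = ⊥)
    {p q : ℕ} (hp : p.Prime) (hq : q.Prime) (hcard : Nat.card A = p * q) : IsCyclic A := by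
  have hcop := coprime_of_fpf hAK hfpf
  have hsolv : Group.IsSolvable A := by
    by_cases hpq : p = q
    · subst hpq
      haveI : Fact p.Prime := ⟨hp⟩
      have : IsPGroup p A := IsPGroup.of_card (n := 2) (by rw [hcard]; ring)
      haveI := this.isNilpotent
      infer_instance
    · have : Squarefree (Nat.card A) := by
        rw [hcard]
        exact (Nat.squarefree_mul_iff).mpr
          ⟨(Nat.coprime_primes hp hq).mpr hpq, hp.squarefree, hq.squarefree⟩
      haveI := IsZGroup.of_squarefree this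
      infer_instance
  obtain ⟨V, hVK, hVne, hVc, hAV⟩ := exists_invariant_abelian ⟨hAK, hcop, Or.inl hsolv⟩ hK
  haveI := hVc
  exact isCyclic_of_fpf_of_card_pq hVne hAV (fun a ha ha1 => by
     rw [eq_bot_iff, ← hfpf a ha ha1]; exact inf_le_inf_right _ hVK) hp hq hcard

/-- an involution of `H` acting without fixed points inverts `K` -/
theorem involution_inverts {G : Type*} [Group G] [Finite G] (K : Subgroup G) [K.Normal]
    {t : G} (ht2 : t * t = 1) (hfix : K ⊓ Subgroup.centralizer {t} = ⊥) :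
    ∀ k ∈ K, t * k * t⁻¹ = k⁻¹ := by
  have htinv : t⁻¹ = t := inv_eq_of_mul_eq_one_left ht2
  let f : K → K := fun k => ⟨(k : G)⁻¹ * (t * k * t⁻¹),
    K.mul_mem (K.inv_mem k.2) (‹K.Normal›.conj_mem _ k.2 t)⟩
  have hinj : Function.Injective f := by
    intro k l hkl
    have h1 : (k : G)⁻¹ * (t * k * t⁻¹) = (l : G)⁻¹ * (t * l * t⁻¹) := congrArg Subtype.val hkl
    have h2 : (l : G) * (k : G)⁻¹ ∈ K ⊓ Subgroup.centralizer {t} := by
      refine ⟨K.mul_mem l.2 (K.inv_mem k.2), ?_⟩
      show (l : G) * (k : G)⁻¹ ∈ Subgroup.centralizer {t}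
      rw [Subgroup.mem_centralizer_iff]
      intro y hy
      rw [Set.mem_singleton_iff] at hy
      subst hy
      have h3 : y * (k : G) * y⁻¹ = (k : G) * ((l : G)⁻¹ * (y * l * y⁻¹)) := by
        rw [← h1]; group
      calc y * ((l : G) * (k : G)⁻¹) = (y * l * y⁻¹) * (y * (k : G) * y⁻¹)⁻¹ * y := by group
        _ = (y * l * y⁻¹) * ((k : G) * ((l : G)⁻¹ * (y * l * y⁻¹)))⁻¹ * y := by rw [h3]
        _ = (l : G) * (k : G)⁻¹ * y := by group
    rw [hfix, Subgroup.mem_bot] at h2
    apply Subtype.ext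
    have : (l : G) = k := by
      have := mul_inv_eq_one.mp h2
      exact this
    exact this.symm
  have hsurj : Function.Surjective f := Finite.surjective_of_injective hinj
  intro k hk
  obtain ⟨m, hm⟩ := hsurj ⟨k, hk⟩
  have hm' : (m : G)⁻¹ * (t * m * t⁻¹) = k := congrArg Subtype.val hm
  rw [← hm', htinv]
  have e1 : t * ((m : G)⁻¹ * (t * m * t)) * t = t * (m : G)⁻¹ * t * m * (t * t) := by group
  have e2 : ((m : G)⁻¹ * (t * m * t))⁻¹ = t⁻¹ * (m : G)⁻¹ * t⁻¹ * m := by group
  rw [e1, e2, ht2, htinv, mul_one]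

theorem involution_central {G : Type*} [Group G] [Finite G] (K H : Subgroup G) [K.Normal]
    (hK : K ≠ ⊥) (hfpf : ∀ h ∈ H, h ≠ 1 → K ⊓ Subgroup.centralizer {h} = ⊥)
    {t : G} (ht : t ∈ H) (ht1 : t ≠ 1) (ht2 : t * t = 1) :
    ∀ h ∈ H, h * t = t * h := by
  intro h hh
  have htinv : t⁻¹ = t := inv_eq_of_mul_eq_one_left ht2
  set s := h * t * h⁻¹ with hs
  have hsH : s ∈ H := H.mul_mem (H.mul_mem hh ht) (H.inv_mem hh)
  have hs1 : s ≠ 1 := by
    intro h1
    apply ht1
    have : t = h⁻¹ * s * h := by rw [hs]; group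
    rw [this, h1]; group
  have hs2 : s * s = 1 := by
    have : s * s = h * (t * t) * h⁻¹ := by rw [hs]; group
    rw [this, ht2]; group
  have hsinv : s⁻¹ = s := inv_eq_of_mul_eq_one_left hs2
  have it := involution_inverts K ht2 (hfpf t ht ht1)
  have is := involution_inverts K hs2 (hfpf s hsH hs1)
  have hts : t * s = 1 := by
    by_contra hne
    apply hK
    rw [eq_bot_iff, ← hfpf (t * s) (H.mul_mem ht hsH) hne]
    intro k hk
    refine ⟨hk, ?_⟩
    show k ∈ Subgroup.centralizer {t * s}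
    rw [Subgroup.mem_centralizer_iff]
    intro y hy
    rw [Set.mem_singleton_iff] at hy
    subst hy
    have h1 := is k hk
    have h2 := it k⁻¹ (K.inv_mem hk)
    rw [inv_inv] at h2
    have : t * s * k * (t * s)⁻¹ = k := by
      calc t * s * k * (t * s)⁻¹ = t * (s * k * s⁻¹) * t⁻¹ := by group
        _ = k := by rw [h1, h2]
    calc t * s * k = (t * s * k * (t * s)⁻¹) * (t * s) := by group
      _ = k * (t * s) := by rw [this]
  have hst : s = t := by
    have : s = t⁻¹ := eq_inv_of_mul_eq_one_right hts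
    rw [this, htinv]
  have : h * t = s * h := by rw [hs]; group
  rw [this, hst]

/-- every cyclic subgroup inside a cyclic normal subgroup is normal -/
theorem zpowers_normal_of_mem_cyclic_normal {H : Type*} [Group H] (D : Subgroup H) [D.Normal]
    [hD : IsCyclic D] {y : H} (hy : y ∈ D) : (Subgroup.zpowers y).Normal := by
  obtain ⟨g, hg⟩ := hD.exists_generator
  obtain ⟨k, hk⟩ := hg ⟨y, hy⟩
  have hk' : (g : H) ^ k = y := by
    have := congrArg Subtype.val hk
    simpa using this
  refine ⟨fun a ha h => ?_⟩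
  obtain ⟨n, rfl⟩ := Subgroup.mem_zpowers_iff.mp ha
  have hconj : h * (g : H) * h⁻¹ ∈ D := ‹D.Normal›.conj_mem _ g.2 h
  obtain ⟨m, hm⟩ := hg ⟨_, hconj⟩
  have hm' : (g : H) ^ m = h * (g : H) * h⁻¹ := by
    have := congrArg Subtype.val hm
    simpa using this
  have h1 : h * y * h⁻¹ = y ^ m := by
    rw [← hk']
    have : h * (g : H) ^ k * h⁻¹ = (h * (g : H) * h⁻¹) ^ k := by
      rw [conj_zpow]
    rw [this, ← hm', ← zpow_mul, ← zpow_mul, mul_comm]
  have h2 : h * y ^ n * h⁻¹ = (y ^ m) ^ n := by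
    rw [← h1, conj_zpow]
  rw [h2]
  exact Subgroup.zpow_mem _ (Subgroup.zpow_mem _ (Subgroup.mem_zpowers y) m) n

open Cfsg.Agent.Lib.H1 in
open scoped commutatorElement in
theorem center_ne_bot_of_isZGroup {H : Type*} [Group H] [Finite H] [IsZGroup H] [Nontrivial H]
    (hpq : ∀ (A : Subgroup H) (p q : ℕ), p.Prime → q.Prime → Nat.card A = p * q → IsCyclic A) :
    Subgroup.center H ≠ ⊥ := by
  classical
  set D : Subgroup H := commutator H with hDdef
  haveI hDn : D.Normal := by rw [hDdef]; infer_instance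
  haveI hDcyc : IsCyclic D := IsZGroup.isCyclic_commutator H
  have hcop : (Nat.card D).Coprime D.index := IsZGroup.coprime_commutator_index H
  obtain ⟨B, hB⟩ := Subgroup.exists_right_complement'_of_coprime hcop
  have hBcard : D.index = Nat.card B := hB.symm.index_eq_card
  have hDlt : D < ⊤ := IsZGroup.commutator_lt H
  have hBne1 : Nat.card B ≠ 1 := by
    rw [← hBcard]
    intro h
    exact hDlt.ne (Subgroup.index_eq_one.mp h)
  obtain ⟨q, hq, hqdvd⟩ := Nat.exists_prime_and_dvd hBne1
  haveI : Fact q.Prime := ⟨hq⟩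
  obtain ⟨x', hx'⟩ := exists_prime_orderOf_dvd_card' q hqdvd
  set x : H := (x' : H) with hx
  have hxord : orderOf x = q := by rw [hx, Subgroup.orderOf_coe]; exact hx'
  have hx1 : x ≠ 1 := by
    intro h; rw [h, orderOf_one] at hxord; exact hq.one_lt.ne hxord
  have hqD : q.Coprime (Nat.card D) := by
    have : q ∣ D.index := by rw [hBcard]; exact hqdvd
    exact (Nat.Coprime.coprime_dvd_right this hcop).symm
  -- B is abelian
  have hBab : ∀ b ∈ B, x * b = b * x := by
    intro b hb
    have h1 : ⁅x, b⁆ ∈ D := by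
      rw [hDdef, commutator_def]
      exact Subgroup.commutator_mem_commutator (Subgroup.mem_top x) (Subgroup.mem_top b)
    have h2 : ⁅x, b⁆ ∈ B := by
      rw [commutatorElement_def]
      exact B.mul_mem (B.mul_mem (B.mul_mem x'.2 hb) (B.inv_mem x'.2)) (B.inv_mem hb)
    have h3 : ⁅x, b⁆ ∈ D ⊓ B := ⟨h1, h2⟩
    rw [hB.disjoint.eq_bot, Subgroup.mem_bot] at h3
    exact commutatorElement_eq_one_iff_mul_comm.mp h3
  -- x centralizes D
  set A : Subgroup H := Subgroup.zpowers x with hA
  have hAcard : Nat.card A = q := by rw [hA, Nat.card_zpowers, hxord]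
  have hAD : A ≤ Subgroup.normalizer (D : Set H) := by
    rw [Subgroup.normalizer_eq_top_iff.mpr hDn]; exact le_top
  haveI hDcomm : IsMulCommutative D := ⟨⟨fun a b => (IsCyclic.commGroup (α := D)).mul_comm a b⟩⟩
  have hcopAD : (Nat.card A).Coprime (Nat.card D) := by rw [hAcard]; exact hqD
  have hinf := coprime_abelian_centralizer_inf_commutator hAD hcopAD
  have hcomm : ⁅D, A⁆ = ⊥ := by
    by_contra hW
    have hWD : ⁅D, A⁆ ≤ D := Subgroup.commutator_le_left D A
    have hWcard : Nat.card (⁅D, A⁆ : Subgroup H) ≠ 1 := fun h => hW (Subgroup.card_eq_one.mp h)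
    obtain ⟨p, hp, hpdvd⟩ := Nat.exists_prime_and_dvd hWcard
    haveI : Fact p.Prime := ⟨hp⟩
    obtain ⟨y', hy'⟩ := exists_prime_orderOf_dvd_card' p hpdvd
    set y : H := (y' : H) with hy
    have hyord : orderOf y = p := by rw [hy, Subgroup.orderOf_coe]; exact hy'
    have hy1 : y ≠ 1 := by
      intro h; rw [h, orderOf_one] at hyord; exact hp.one_lt.ne hyord
    have hyD : y ∈ D := hWD y'.2
    have hpD : p ∣ Nat.card D := hpdvd.trans (Subgroup.card_dvd_of_le hWD)
    have hpq' : q ≠ p := by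
      intro h
      rw [h] at hqD
      have := Nat.Coprime.eq_one_of_dvd hqD hpD
      exact hp.one_lt.ne' this
    have hyn : (Subgroup.zpowers y).Normal := zpowers_normal_of_mem_cyclic_normal D hyD
    have hcopxy : (Nat.card (Subgroup.zpowers y)).Coprime (Nat.card (Subgroup.zpowers x)) := by
      rw [Nat.card_zpowers, Nat.card_zpowers, hxord, hyord]
      exact (Nat.coprime_primes hp hq).mpr (Ne.symm hpq')
    have hinfxy : Subgroup.zpowers y ⊓ Subgroup.zpowers x = ⊥ :=
      (Subgroup.disjoint_of_coprime_natCard hcopxy).eq_bot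
    have hcard2 := card_sup_mul_card_inf (Subgroup.zpowers x) (Subgroup.zpowers y)
    rw [hinfxy, Subgroup.card_bot, mul_one, Nat.card_zpowers, Nat.card_zpowers, hxord, hyord]
      at hcard2
    have hcyc := hpq _ q p hq hp hcard2
    have hxy : x * y = y * x := by
      have hxm : x ∈ Subgroup.zpowers x ⊔ Subgroup.zpowers y :=
        (le_sup_left : Subgroup.zpowers x ≤ _) (Subgroup.mem_zpowers x)
      have hym : y ∈ Subgroup.zpowers x ⊔ Subgroup.zpowers y :=
        (le_sup_right : Subgroup.zpowers y ≤ _) (Subgroup.mem_zpowers y)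
      have := (IsCyclic.commGroup (α := ↥(Subgroup.zpowers x ⊔ Subgroup.zpowers y))).mul_comm
        ⟨x, hxm⟩ ⟨y, hym⟩
      exact congrArg Subtype.val this
    have hyC : y ∈ Subgroup.centralizer (A : Set H) := by
      rw [Subgroup.mem_centralizer_iff]
      intro a ha
      obtain ⟨n, rfl⟩ := Subgroup.mem_zpowers_iff.mp ha
      exact ((Commute.zpow_left (show Commute x y from hxy) n).eq)
    have hmem : y ∈ (D ⊓ Subgroup.centralizer (A : Set H)) ⊓ ⁅D, A⁆ := ⟨⟨hyD, hyC⟩, y'.2⟩
    rw [hinf, Subgroup.mem_bot] at hmem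
    exact hy1 hmem
  have hDcent : ∀ d ∈ D, x * d = d * x := by
    intro d hd
    have h1 : D ≤ Subgroup.centralizer (A : Set H) :=
      Subgroup.commutator_eq_bot_iff_le_centralizer.mp hcomm
    exact (Subgroup.mem_centralizer_iff.mp (h1 hd)) x (Subgroup.mem_zpowers x)
  -- conclude
  have hxc : x ∈ Subgroup.center H := by
    rw [Subgroup.mem_center_iff]
    intro g
    have hg : g ∈ D ⊔ B := by rw [hB.sup_eq_top]; exact Subgroup.mem_top g
    rw [Subgroup.mem_sup_of_normal_left] at hg
    obtain ⟨d, hd, b, hb, rfl⟩ := hg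
    rw [mul_assoc, ← hBab b hb, ← mul_assoc, ← hDcent d hd, mul_assoc]
  intro h
  rw [h, Subgroup.mem_bot] at hxc
  exact hx1 hxc

/-- A Frobenius complement has nontrivial centre: if H ≠ 1 complements a nontrivial normal subgroup K and every nonidentity element of H has trivial centraliser in K, then the centre of H is nontrivial. -/
theorem result {G : Type*} [Group G] [Finite G] (K H : Subgroup G) [K.Normal]
    (hc : Subgroup.IsComplement' K H) (hK : K ≠ ⊥) (hH : H ≠ ⊥) (hfpf : ∀ h ∈ H, h ≠ 1 → K ⊓ Subgroup.centralizer {h} = ⊥) :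
    Subgroup.center H ≠ ⊥ := by
  classical
  haveI : Nontrivial H := (Subgroup.nontrivial_iff_ne_bot H).mpr hH
  by_cases h2 : 2 ∣ Nat.card H
  · haveI : Fact (Nat.Prime 2) := ⟨Nat.prime_two⟩
    obtain ⟨t', ht'⟩ := exists_prime_orderOf_dvd_card' 2 h2
    have ht'1 : t' ≠ 1 := by
      intro h; rw [h, orderOf_one] at ht'; omega
    have ht1 : (t' : G) ≠ 1 := fun h => ht'1 (Subtype.ext h)
    have ht2 : (t' : G) * t' = 1 := by
      have h1 : t' ^ 2 = 1 := by rw [← ht']; exact pow_orderOf_eq_one t'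
      have h3 := congrArg Subtype.val h1
      rw [pow_two] at h3
      simpa using h3
    have hcent := involution_central K H hK hfpf t'.2 ht1 ht2
    intro hbot
    have hmem : t' ∈ Subgroup.center H := by
      rw [Subgroup.mem_center_iff]
      intro g
      apply Subtype.ext
      simp only [Subgroup.coe_mul]
      exact hcent g g.2
    rw [hbot, Subgroup.mem_bot] at hmem
    exact ht'1 hmem
  · haveI : IsZGroup H := by
      refine ⟨fun p hp P => ?_⟩
      haveI : Fact p.Prime := ⟨hp⟩
      rcases Cfsg.Agent.S0040.result K H hc hK hfpf p P with h | ⟨n, ⟨e⟩⟩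
      · exact h
      · exfalso
        apply h2
        have h3 : Nat.card (P : Subgroup H) = 4 * 2 ^ n := by
          haveI : NeZero (2 ^ n) := ⟨pow_ne_zero _ (by norm_num)⟩
          rw [Nat.card_congr e.toEquiv, Nat.card_eq_fintype_card, QuaternionGroup.card]
        have h4 : Nat.card (P : Subgroup H) ∣ Nat.card H := Subgroup.card_subgroup_dvd_card _
        rw [h3] at h4
        exact (Dvd.intro (2 * 2 ^ n) (by ring)).trans h4
    apply center_ne_bot_of_isZGroup
    intro A p q hp hq hcard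
    have hcyc : IsCyclic (A.map H.subtype) := by
      refine isCyclic_of_fpf_card_pq' (K := K) hK ?_ (fun a ha => hfpf a (Subgroup.map_subtype_le A ha))
        hp hq ?_
      · rw [Subgroup.normalizer_eq_top_iff.mpr inferInstance]; exact le_top
      · rw [Subgroup.card_map_of_injective H.subtype_injective]; exact hcard
    exact isCyclic_of_surjective (A.equivMapOfInjective _ H.subtype_injective).symm
      (MulEquiv.surjective _)

end Cfsg.Agent.S0069
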