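import Cfsg.Statements.S4296
import Cfsg.Agent.S0069
import Cfsg.Agent.Lib.H18.QuatSquare
import Cfsg.Agent.Lib.H18.FrobeniusThm
import Cfsg.Agent.Lib.H1.FrobeniusConj
import Cfsg.Agent.Lib.H22.NilpotentCoprime
import Cfsg.Agent.Lib.H22.UniqueInvolution
import Cfsg.Agent.Lib.H22.UniqueOrderP
import Cfsg.Agent.Lib.H5.WreathedQuat

set_option autoImplicit false
open Cfsg

namespace Cfsg.Agent.S4296

/-- A normal subgroup `K` of odd order on which `i, j` act by conjugation like the quaternion units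
(with `i² = j² = z` inverting `K` and `ij = jiz`) has square order. -/
theorem isSquare_card_normal_of_quat {L : Type*} [Group L] [Finite L] (K : Subgroup L) [hKn : K.Normal]
    (i j z : L) (hz : ∀ k ∈ K, z * k * z⁻¹ = k⁻¹) (hii : i * i = z) (hjj : j * j = z)
    (hij : i * j = j * i * z) (hodd : Odd (Nat.card K)) : IsSquare (Nat.card K) := by
  have hcomm : ∀ x y : K, x * y = y * x := by
    intro x y
    apply Subtype.ext
    have h1 := hz _ (K.mul_mem x.2 y.2)
    have h2 := hz _ x.2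
    have h3 := hz _ y.2
    have h4 : z * ((x : L) * y) * z⁻¹ = (z * x * z⁻¹) * (z * y * z⁻¹) := by group
    rw [h1, h2, h3] at h4
    have h5 : ((x : L) * y)⁻¹⁻¹ = ((x : L)⁻¹ * (y : L)⁻¹)⁻¹ := by rw [h4]
    simpa using h5
  letI : CommGroup K := { (inferInstance : Group K) with mul_comm := hcomm }
  let cj : L → (Additive K →+ Additive K) := fun g =>
    MonoidHom.toAdditive (MulAut.conjNormal g : MulAut K).toMonoidHom
  have hcj : ∀ (g : L) (x : Additive K), ((cj g x).toMul : L) = g * (x.toMul : L) * g⁻¹ := by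
    intro g x
    rfl
  have hext : ∀ x y : Additive K, ((x.toMul : K) : L) = ((y.toMul : K) : L) → x = y := by
    intro x y h
    exact Additive.toMul.injective (Subtype.ext h)
  have hneg : ∀ x : Additive K, (((-x).toMul : K) : L) = ((x.toMul : K) : L)⁻¹ := fun x => rfl
  have h := Cfsg.Agent.Lib.H18.isSquare_card_of_quaternion_action (A := Additive K) (cj i) (cj j)
    ?_ ?_ ?_ ?_
  · exact h
  · intro x
    apply hext
    rw [hcj, hcj, hneg, ← hz _ (x.toMul).2, ← hii]
    group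
  · intro x
    apply hext
    rw [hcj, hcj, hneg, ← hz _ (x.toMul).2, ← hjj]
    group
  · intro x
    apply hext
    rw [hcj, hcj, hneg, hcj, hcj]
    set y : L := ((x.toMul : K) : L) with hy
    have hyK : y ∈ K := (x.toMul).2
    calc i * (j * y * j⁻¹) * i⁻¹ = (i * j) * y * (i * j)⁻¹ := by group
      _ = (j * i * z) * y * (j * i * z)⁻¹ := by rw [hij]
      _ = (j * i) * (z * y * z⁻¹) * (j * i)⁻¹ := by group
      _ = (j * i) * y⁻¹ * (j * i)⁻¹ := by rw [hz y hyK]
      _ = (j * (i * y * i⁻¹) * j⁻¹)⁻¹ := by group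
  · exact hodd


open Cfsg.Agent.Lib.H1 Cfsg.Agent.Lib.H18 Cfsg.Agent.Lib.H22 in
/-- an abelian group acting without fixed points on a nontrivial group is cyclic -/
theorem isCyclic_of_fpf_abelian {G : Type*} [Group G] [Finite G] {A K : Subgroup G} (hK : K ≠ ⊥)
    (hAK : A ≤ Subgroup.normalizer (K : Set G))
    (hfpf : ∀ a ∈ A, a ≠ 1 → K ⊓ Subgroup.centralizer {a} = ⊥) [IsMulCommutative A] :
    IsCyclic A := by
  have hcop := coprime_of_fpf hAK hfpf
  have hsolv : Group.IsSolvable A := isSolvable_of_isMulCommutative A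
  obtain ⟨V, hVK, hVne, hVc, hAV⟩ :=
    Cfsg.Agent.S0069.exists_invariant_abelian ⟨hAK, hcop, Or.inl hsolv⟩ hK
  haveI := hVc
  exact isCyclic_of_fpf_of_comm hVne hAV (fun a ha ha1 => by
     rw [eq_bot_iff, ← hfpf a ha ha1]; exact inf_le_inf_right _ hVK)

open Cfsg.Agent.Lib.H1 Cfsg.Agent.Lib.H18 Cfsg.Agent.Lib.H22 Cfsg.Agent.Lib.H5 in
/-- Elements `i, j, z` of a complement `H` acting fixed-point-freely, when a Sylow subgroup is not
cyclic. -/
theorem exists_quat_of_noncyclic_sylow {L : Type*} [Group L] [Finite L] (K H : Subgroup L)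
    [hKn : K.Normal] (hK : K ≠ ⊥)
    (hfpf : ∀ h ∈ H, h ≠ 1 → K ⊓ Subgroup.centralizer {h} = ⊥)
    (hZ : ∃ (p : ℕ) (_ : Fact p.Prime) (P : Sylow p H), ¬ IsCyclic P) :
    ∃ i j z : L, i ∈ H ∧ j ∈ H ∧ z ∈ H ∧ z ≠ 1 ∧ z * z = 1 ∧ i * i = z ∧ j * j = z ∧
      i * j = j * i * z := by
  obtain ⟨p, hp, P, hPnc⟩ := hZ
  have hHK : H ≤ Subgroup.normalizer (K : Set L) := by
    rw [Subgroup.normalizer_eq_top_iff.2 hKn]; exact le_top
  -- abelian subgroups of P are cyclic
  set φ : P →* L := H.subtype.comp (P : Subgroup H).subtype with hφ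
  have hφinj : Function.Injective φ := by
    intro a b hab
    exact Subtype.ext (Subtype.ext hab)
  have hab : ∀ B : Subgroup P, (∀ a ∈ B, ∀ b ∈ B, a * b = b * a) → IsCyclic B := by
    intro B hB
    have hB'H : B.map φ ≤ H := by
      rintro _ ⟨x, -, rfl⟩
      exact (x : H).2
    haveI : IsMulCommutative (B.map φ) := by
      refine ⟨⟨?_⟩⟩
      rintro ⟨_, ⟨x, hx, rfl⟩⟩ ⟨_, ⟨y, hy, rfl⟩⟩
      apply Subtype.ext
      show φ x * φ y = φ y * φ x
      rw [← map_mul, ← map_mul, hB x hx y hy]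
    haveI : IsCyclic (B.map φ) := isCyclic_of_fpf_abelian hK (hB'H.trans hHK)
      (fun a ha ha1 => hfpf a (hB'H ha) ha1)
    exact isCyclic_of_surjective (B.equivMapOfInjective φ hφinj).symm.toMonoidHom
      (B.equivMapOfInjective φ hφinj).symm.surjective
  have hamo : AtMostOneOrderP p P := atMostOne_of_abelian_cyclic P.isPGroup' hab
  have hp2 : p = 2 := by
    by_contra hp2
    exact hPnc (isCyclic_of_atMostOne_of_odd hp2 _ P rfl P.isPGroup' hamo)
  subst hp2
  rcases cyclic_or_quaternion_of_atMostOne P.isPGroup' hamo with hc | ⟨n, hn, ⟨e⟩⟩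
  · exact absurd hc hPnc
  haveI : NeZero (2 ^ n) := ⟨pow_ne_zero _ two_ne_zero⟩
  obtain ⟨R, T, -, -, hRo, hTR, hTT, -⟩ := Cfsg.Agent.Lib.H5.Wr.quat_abstract_gens (P : Subgroup H) ⟨e⟩
  obtain ⟨m, rfl⟩ : ∃ m, n = m + 1 := ⟨n - 1, by omega⟩
  have hz1 : R ^ 2 ^ (m + 1) ≠ 1 := by
    apply pow_ne_one_of_lt_orderOf (pow_ne_zero _ two_ne_zero)
    rw [hRo]
    have : 0 < 2 ^ (m + 1) := pow_pos two_pos _
    omega
  have hzz : R ^ 2 ^ (m + 1) * R ^ 2 ^ (m + 1) = 1 := by
    rw [← pow_add, ← two_mul, ← hRo, pow_orderOf_eq_one]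
  have hii : R ^ 2 ^ m * R ^ 2 ^ m = R ^ 2 ^ (m + 1) := by
    rw [← pow_add, ← two_mul, ← pow_succ']
  have hTi : T * R ^ 2 ^ m * T⁻¹ = (R ^ 2 ^ m)⁻¹ := by
    rw [← conj_pow, hTR, inv_pow]
  have hij : R ^ 2 ^ m * T = T * R ^ 2 ^ m * R ^ 2 ^ (m + 1) := by
    set i := R ^ 2 ^ m with hi
    have h1 : T * i = i⁻¹ * T := by
      have : T * i = (T * i * T⁻¹) * T := by group
      rw [this, hTi]
    rw [h1, ← hTT, ← mul_assoc, mul_assoc i⁻¹ T T, hTT, ← hii]
    group
  refine ⟨((R ^ 2 ^ m : H) : L), (T : L), ((R ^ 2 ^ (m + 1) : H) : L), (R ^ 2 ^ m).2, T.2,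
    (R ^ 2 ^ (m + 1)).2, ?_, ?_, ?_, ?_, ?_⟩
  · intro h
    exact hz1 (Subtype.ext h)
  · exact congrArg Subtype.val hzz
  · exact congrArg Subtype.val hii
  · exact congrArg Subtype.val hTT
  · exact congrArg Subtype.val hij


open Cfsg.Agent.Lib.H1 Cfsg.Agent.Lib.H18 in
/-- The kernel of a Frobenius complement with a non-cyclic Sylow subgroup has odd square order
(subgroup form). -/
theorem frobKer_odd_square {L : Type*} [Group L] [Finite L] (H : Subgroup L)
    (hF : Cfsg.IsFrobeniusComplement H)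
    (hZ : ∃ (p : ℕ) (_ : Fact p.Prime) (P : Sylow p H), ¬ IsCyclic P) :
    Odd (Nat.card (frobKer H hF)) ∧ IsSquare (Nat.card (frobKer H hF)) := by
  set K := frobKer H hF with hKdef
  have hK : K ≠ ⊥ := by
    intro h
    have h1 : Nat.card K = H.index := card_frobKer H hF
    rw [h, Subgroup.card_bot] at h1
    exact hF.2.1 (Subgroup.index_eq_one.1 h1.symm)
  have hfpf : ∀ h ∈ H, h ≠ 1 → K ⊓ Subgroup.centralizer {h} = ⊥ :=
    fun h hh h1 => frobKer_inf_centralizer hF hh h1
  have hHK : H ≤ Subgroup.normalizer (K : Set L) := by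
    rw [Subgroup.normalizer_eq_top_iff.2 inferInstance]; exact le_top
  obtain ⟨i, j, z, hi, hj, hz, hz1, hzz, hii, hjj, hij⟩ :=
    exists_quat_of_noncyclic_sylow K H hK hfpf hZ
  have hinv := Cfsg.Agent.S0069.involution_inverts K hzz (hfpf z hz hz1)
  have hodd : Odd (Nat.card K) := by
    have hcop := coprime_of_fpf hHK hfpf
    have h2 : 2 ∣ Nat.card H := by
      have ho : orderOf z = 2 := orderOf_eq_prime (by rw [pow_two]; exact hzz) hz1
      rw [← ho]
      exact Subgroup.orderOf_dvd_natCard H hz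
    rw [← Nat.not_even_iff_odd, even_iff_two_dvd]
    intro h
    have := Nat.eq_one_of_dvd_coprimes hcop h2 h
    omega
  exact ⟨hodd, isSquare_card_normal_of_quat K i j z hinv hii hjj hij hodd⟩

open Cfsg.Agent.Lib.H18 in
/-- Let H be a Frobenius complement in a finite group, and suppose some Sylow subgroup of H is not cyclic. Then the number of elements of the Frobenius kernel (the identity together with the elements lying in no conjugate of H) is an odd perfect square. -/
theorem result {L : Type*} [Group L] [Finite L] (H : Subgroup L) (hF : Cfsg.IsFrobeniusComplement H)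
    (hZ : ∃ (p : ℕ) (_ : Fact p.Prime) (P : Sylow p H), ¬ IsCyclic P) :
    Odd (Nat.card (Cfsg.frobeniusKernel H)) ∧ IsSquare (Nat.card (Cfsg.frobeniusKernel H)) := by
  have hcard : Nat.card (Cfsg.frobeniusKernel H) = Nat.card (frobKer H hF) := by
    rw [← coe_frobKer H hF]
    rfl
  rw [hcard]
  exact frobKer_odd_square H hF hZ

end Cfsg.Agent.S4296
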