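import Mathlib
import Cfsg.Statements.S0989
import Cfsg.Agent.Lib.H5.SimpleTools
import Cfsg.Agent.Lib.H5.OrderCount

set_option autoImplicit false
open Cfsg

namespace Cfsg.Agent.S0989

open Cfsg.Agent.Lib.H5 Subgroup Equiv

/-- In `S_n` with `p ≤ n < 2p`, an element has order `p` iff its cycle type is `{p}`. -/
theorem orderOf_eq_iff_cycleType {α : Type*} [Fintype α] [DecidableEq α] (p : ℕ) [Fact p.Prime]
    (hα : Fintype.card α < 2 * p) (σ : Perm α) : orderOf σ = p ↔ σ.cycleType = {p} := by
  have hp : p.Prime := Fact.out
  constructor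
  · intro h
    obtain ⟨n, hn⟩ := Perm.cycleType_prime_order (σ := σ) (by rw [h]; exact hp)
    rw [h] at hn
    have h1 := Perm.sum_cycleType_le σ
    rw [hn, Multiset.sum_replicate, smul_eq_mul] at h1
    have hn0 : n = 0 := by
      by_contra hne
      have : 2 * p ≤ (n + 1) * p := Nat.mul_le_mul_right p (by omega)
      omega
    rw [hn, hn0]
    rfl
  · intro h
    rw [← Perm.lcm_cycleType, h]
    simp

/-- In the symmetric group on p or p + 1 letters, p a prime, the normalizer of a Sylow p-subgroup has order p * (p - 1). -/
theorem result {α : Type*} [Fintype α] [DecidableEq α] (p : ℕ) [Fact p.Prime] (hα : Fintype.card α = p ∨ Fintype.card α = p + 1) (P : Sylow p (Equiv.Perm α)) : Nat.card ↥(Subgroup.normalizer ((P : Subgroup (Equiv.Perm α)) : Set (Equiv.Perm α))) = p * (p - 1) := by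
  have hp : p.Prime := Fact.out
  have hp2 : 2 ≤ p := hp.two_le
  have hlt : Fintype.card α < 2 * p := by rcases hα with h | h <;> omega
  have hle : p ≤ Fintype.card α := by rcases hα with h | h <;> omega
  -- the order of the group
  have hG : Nat.card (Perm α) = (Fintype.card α).factorial := by
    rw [Nat.card_perm, Nat.card_eq_fintype_card]
  -- n! = p * m with p ∤ m
  obtain ⟨m, hm, hpm⟩ : ∃ m, (Fintype.card α).factorial = p ^ 1 * m ∧ ¬ p ∣ m := by
    have hpred : ¬ p ∣ (p - 1).factorial := by
      rw [hp.dvd_factorial]; omega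
    rcases hα with h | h
    · refine ⟨(p - 1).factorial, ?_, hpred⟩
      rw [h, pow_one]
      conv_lhs => rw [show p = (p - 1) + 1 by omega, Nat.factorial_succ]
      congr 1
      omega
    · refine ⟨(p + 1) * (p - 1).factorial, ?_, ?_⟩
      · rw [h, pow_one, Nat.factorial_succ]
        conv_lhs => rw [show p = (p - 1) + 1 by omega, Nat.factorial_succ]
        have : p - 1 + 1 = p := by omega
        rw [this]; ring
      · intro hd
        rcases (hp.dvd_mul).mp hd with h1 | h1
        · have : p ∣ 1 := (Nat.dvd_add_right (dvd_refl p)).mp h1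
          have := Nat.le_of_dvd one_pos this
          omega
        · exact hpred h1
  have hcard : ∀ Q : Sylow p (Perm α), Nat.card (Q : Subgroup (Perm α)) = p := by
    intro Q
    have := (sylow_card_and_index Q (k := 1) (m := m) (by rw [hG, hm]) hpm).1
    simpa using this
  -- count elements of order p
  have hcount := card_orderOf_eq_prime hcard
  have hcyc : Nat.card {g : Perm α // orderOf g = p} * p = (Fintype.card α).factorial := by
    have h1 := Perm.card_of_cycleType_mul_eq α ({p} : Multiset ℕ)
    have hcond : ({p} : Multiset ℕ).sum ≤ Fintype.card α ∧ ∀ a ∈ ({p} : Multiset ℕ), 2 ≤ a := by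
      simp only [Multiset.sum_singleton, Multiset.mem_singleton, forall_eq]
      exact ⟨hle, hp2⟩
    rw [if_pos hcond] at h1
    have h2 : (Fintype.card α - ({p} : Multiset ℕ).sum).factorial = 1 := by
      simp only [Multiset.sum_singleton]
      rcases hα with h | h
      · rw [h]; simp
      · rw [h]; simp
    rw [h2] at h1
    simp only [Multiset.prod_singleton, Multiset.toFinset_singleton, Finset.prod_singleton,
      Multiset.count_singleton_self, Nat.factorial_one, one_mul, mul_one] at h1
    rw [← h1]
    congr 1
    rw [Nat.card_eq_fintype_card, Fintype.card_subtype]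
    congr 1
    ext g
    simp only [Finset.mem_filter, Finset.mem_univ, true_and]
    exact orderOf_eq_iff_cycleType p hlt g
  have hN := card_normalizer_mul_card_sylow P
  rw [hG, ← hcyc, hcount] at hN
  have hpos : 0 < Nat.card (Sylow p (Perm α)) := Nat.card_pos
  have : Nat.card (normalizer ((P : Subgroup (Perm α)) : Set (Perm α))) * Nat.card (Sylow p (Perm α))
      = (p * (p - 1)) * Nat.card (Sylow p (Perm α)) := by
    rw [hN]; ring
  exact Nat.eq_of_mul_eq_mul_right hpos this

end Cfsg.Agent.S0989
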