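import Mathlib
import Cfsg.Statements.S0990

set_option autoImplicit false
open Cfsg

namespace Cfsg.Agent.S0990

open Subgroup Equiv

theorem card_subgroupOf {G : Type*} [Group G] (H K : Subgroup G) :
    Nat.card (H.subgroupOf K) = Nat.card (H ⊓ K : Subgroup G) := by
  rw [← subgroupOf_map_subtype H K, card_map_of_injective K.subtype_injective]

/-- Let p be an odd prime and P a Sylow p-subgroup of the symmetric group on a finite set with at least two elements. Then P is contained in the alternating group, and twice the order of the normalizer of P inside the alternating group equals the order of the normalizer of P in the symmetric group. -/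
theorem result {α : Type*} [Fintype α] [DecidableEq α] (hα : 2 ≤ Fintype.card α) (p : ℕ) [Fact p.Prime] (hp : p ≠ 2) (P : Sylow p (Equiv.Perm α)) : (P : Subgroup (Equiv.Perm α)) ≤ alternatingGroup α ∧ 2 * Nat.card ↥(Subgroup.normalizer ((((P : Subgroup (Equiv.Perm α)).subgroupOf (alternatingGroup α) : Subgroup ↥(alternatingGroup α)) : Set ↥(alternatingGroup α)))) = Nat.card ↥(Subgroup.normalizer ((P : Subgroup (Equiv.Perm α)) : Set (Equiv.Perm α))) := by
  have hpp : p.Prime := Fact.out
  have hodd : Odd p := hpp.odd_of_ne_two hp
  have : Nontrivial α := Fintype.one_lt_card_iff_nontrivial.mp (by omega)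
  have hPA : (P : Subgroup (Perm α)) ≤ alternatingGroup α := by
    intro σ hσ
    rw [Perm.mem_alternatingGroup]
    obtain ⟨k, hk⟩ := (IsPGroup.iff_orderOf.mp P.2) ⟨σ, hσ⟩
    rw [Subgroup.orderOf_mk] at hk
    have h1 : (Perm.sign σ) ^ (p ^ k) = 1 := by
      rw [← map_pow, ← hk, pow_orderOf_eq_one, map_one]
    rcases Int.units_eq_one_or (Perm.sign σ) with h | h
    · exact h
    · rw [h, (hodd.pow).neg_one_pow] at h1
      exact absurd h1 (by decide)
  refine ⟨hPA, ?_⟩
  set A := alternatingGroup α with hA
  set N := normalizer ((P : Subgroup (Perm α)) : Set (Perm α)) with hN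
  -- Frattini
  have hfrat : N ⊔ A = ⊤ := by
    have := Sylow.normalizer_sup_eq_top (P.subtype hPA)
    rwa [Sylow.coe_subtype, map_subgroupOf_eq_of_le hPA] at this
  have hrel : A.relIndex N = 2 := by
    rw [← relIndex_sup_right N A, hfrat, relIndex_top_right, hA, alternatingGroup.index_eq_two]
  have h1 : Nat.card (A.subgroupOf N) * 2 = Nat.card N := by
    rw [← hrel]; exact (A.subgroupOf N).card_mul_index
  rw [← subgroupOf_normalizer_eq hPA, card_subgroupOf, ← h1, card_subgroupOf, inf_comm, mul_comm]

end Cfsg.Agent.S0990
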