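import Mathlib
import Cfsg.Statements.S1018
import Cfsg.Agent.Lib.H5.OrderCount
import Cfsg.Agent.Lib.H5.SylowIn

set_option autoImplicit false
open Cfsg

namespace Cfsg.Agent.S1018

open Cfsg.Agent.Lib.H5 Subgroup MulAction

variable {G : Type*} [Group G]

theorem smul_mk_eq_iff (N : Subgroup G) (y g : G) :
    y • (QuotientGroup.mk g : G ⧸ N) = QuotientGroup.mk g ↔ g⁻¹ * y * g ∈ N := by
  rw [MulAction.Quotient.smul_mk, QuotientGroup.eq]
  constructor
  · intro h
    have := N.inv_mem h
    simpa [mul_assoc] using this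
  · intro h
    have := N.inv_mem h
    simpa [mul_assoc] using this

/-- An element of order `p` fixes exactly one coset of `N(P)` when `|P| = p`. -/
theorem fixedBy_eq_singleton [Finite G] (p : ℕ) [Fact p.Prime] (P : Sylow p G)
    (hP : Nat.card ↥(P : Subgroup G) = p) (y : G) (hy : orderOf y = p) :
    ∃ g₀ : G, MulAction.fixedBy (G ⧸ Subgroup.normalizer ((P : Subgroup G) : Set G)) y =
      {(QuotientGroup.mk g₀ : G ⧸ Subgroup.normalizer ((P : Subgroup G) : Set G))} := by
  have hcardQ : ∀ Q : Sylow p G, Nat.card (Q : Subgroup G) = p := by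
    intro Q
    rw [Sylow.card_eq_multiplicity, ← Sylow.card_eq_multiplicity P, hP]
  obtain ⟨Q, hyQ⟩ := exists_sylow_mem_of_orderOf_eq y hy
  obtain ⟨g₀, hg₀⟩ := MulAction.exists_smul_eq G P Q
  refine ⟨g₀, ?_⟩
  ext q
  induction q using QuotientGroup.induction_on with
  | H g =>
    rw [MulAction.mem_fixedBy, Set.mem_singleton_iff, smul_mk_eq_iff]
    constructor
    · intro hfix
      -- g⁻¹ y g ∈ N(P) is a p-element, hence in P
      have hord : orderOf (g⁻¹ * y * g) = p := by
        have := (MulAut.conj g⁻¹).orderOf_eq y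
        simp only [MulAut.conj_apply, inv_inv] at this
        rw [this, hy]
      have hpg : IsPGroup p (zpowers (g⁻¹ * y * g)) := by
        apply IsPGroup.of_card (n := 1)
        rw [Nat.card_zpowers, hord, pow_one]
      have h1 := hpg.inf_normalizer_sylow P
      have hmem : g⁻¹ * y * g ∈ zpowers (g⁻¹ * y * g) ⊓ normalizer (P : Set G) :=
        ⟨mem_zpowers _, hfix⟩
      rw [h1] at hmem
      have hyP : y ∈ (g • P : Sylow p G) := (sylow_mem_smul_iff g P y).mpr hmem.2
      -- g • P = Q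
      have e1 := zpowers_eq_sylow_of_mem (g • P) (hcardQ _) y hy hyP
      have e2 := zpowers_eq_sylow_of_mem Q (hcardQ _) y hy hyQ
      have hgQ : g • P = Q := Sylow.ext (e1.symm.trans e2)
      rw [← hg₀] at hgQ
      -- g₀⁻¹ g ∈ N(P)
      rw [eq_comm, QuotientGroup.eq]
      apply Sylow.smul_eq_iff_mem_normalizer.mp
      rw [mul_smul, hgQ, ← mul_smul, inv_mul_cancel, one_smul]
    · intro hq
      rw [QuotientGroup.eq] at hq
      -- g = g₀ n
      have hn := hq
      have hyg₀ : g₀⁻¹ * y * g₀ ∈ (P : Subgroup G) := by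
        have : y ∈ (g₀ • P : Sylow p G) := hg₀ ▸ hyQ
        exact (sylow_mem_smul_iff g₀ P y).mp this
      have : g⁻¹ * y * g = (g⁻¹ * g₀) * (g₀⁻¹ * y * g₀) * (g⁻¹ * g₀)⁻¹ := by group
      rw [this]
      have hn' : g⁻¹ * g₀ ∈ normalizer ((P : Subgroup G) : Set G) := hn
      exact (normalizer ((P : Subgroup G) : Set G)).mul_mem
          ((normalizer ((P : Subgroup G) : Set G)).mul_mem hn' (le_normalizer hyg₀))
          ((normalizer ((P : Subgroup G) : Set G)).inv_mem hn')

theorem result {G : Type*} [Group G] [Finite G] (p : ℕ) [Fact p.Prime] (P : Sylow p G) (hP : Nat.card ↥(P : Subgroup G) = p) : (∀ y : G, orderOf y = p → Nat.card (MulAction.fixedBy (G ⧸ Subgroup.normalizer ((P : Subgroup G) : Set G)) y) = 1) ∧ ∀ x : G, x ∈ Subgroup.normalizer ((P : Subgroup G) : Set G) → x ∉ Subgroup.centralizer ((P : Subgroup G) : Set G) → Nat.card (MulAction.fixedBy (G ⧸ Subgroup.normalizer ((P : Subgroup G) : Set G)) x) ≤ Nat.card (MulAction.orbitRel.Quotient ↥(P : Subgroup G) (G ⧸ Subgroup.normalizer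 ((P : Subgroup G) : Set G))) := by
  have part1 : ∀ y : G, orderOf y = p → Nat.card (MulAction.fixedBy
      (G ⧸ Subgroup.normalizer ((P : Subgroup G) : Set G)) y) = 1 := by
    intro y hy
    obtain ⟨g₀, hg₀⟩ := fixedBy_eq_singleton p P hP y hy
    rw [hg₀, Nat.card_coe_set_eq, Set.ncard_singleton]
  refine ⟨part1, ?_⟩
  intro x hxN hxC
  let f : MulAction.fixedBy (G ⧸ Subgroup.normalizer ((P : Subgroup G) : Set G)) x →
      MulAction.orbitRel.Quotient ↥(P : Subgroup G)
        (G ⧸ Subgroup.normalizer ((P : Subgroup G) : Set G)) :=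
    fun q => Quotient.mk'' q.1
  apply Nat.card_le_card_of_injective f
  rintro ⟨q1, hq1⟩ ⟨q2, hq2⟩ h12
  apply Subtype.ext
  show q1 = q2
  have h12' : q1 ∈ MulAction.orbit ↥(P : Subgroup G) q2 := by
    have := Quotient.exact' h12
    exact this
  obtain ⟨u, hu⟩ := h12'
  -- hu : u • q2 = q1
  have hu' : (u : G) • q2 = q1 := hu
  rw [MulAction.mem_fixedBy] at hq1 hq2
  by_cases hu1 : (u : G) = 1
  · rw [← hu', hu1, one_smul]
  -- w = u⁻¹ * (x u x⁻¹) ∈ P fixes q2
  have hxux : x * (u : G) * x⁻¹ ∈ (P : Subgroup G) := (mem_normalizer_iff.mp hxN _).mp u.2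
  have hw : ((u : G)⁻¹ * (x * (u : G) * x⁻¹)) • q2 = q2 := by
    have h1 : (x * (u : G) * x⁻¹) • q2 = (u : G) • q2 := by
      have : (x * (u : G) * x⁻¹) • q2 = x • ((u : G) • (x⁻¹ • q2)) := by
        rw [mul_smul, mul_smul]
      rw [this]
      have hx' : x⁻¹ • q2 = q2 := by
        conv_lhs => rw [← hq2]
        rw [inv_smul_smul]
      rw [hx', hu', hq1]
    rw [mul_smul, h1, inv_smul_smul]
  by_cases hw1 : (u : G)⁻¹ * (x * (u : G) * x⁻¹) = 1
  · -- x commutes with u, which generates P
    exfalso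
    apply hxC
    have hcomm : x * (u : G) = (u : G) * x := by
      have : x * (u : G) * x⁻¹ = (u : G) := by
        have := congrArg (fun t => (u : G) * t) hw1
        simpa using this
      calc x * (u : G) = x * (u : G) * x⁻¹ * x := by group
        _ = (u : G) * x := by rw [this]
    have hou : orderOf (u : G) = p := orderOf_eq_of_mem_of_card_prime (P : Subgroup G) hP _ u.2 hu1
    have hzp := zpowers_eq_sylow_of_mem P hP (u : G) hou u.2
    rw [← hzp, zpowers_eq_closure, centralizer_closure, mem_centralizer_singleton_iff]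
    exact hcomm
  · -- w has order p, fixes exactly one point, namely the trivial coset
    have hwP : (u : G)⁻¹ * (x * (u : G) * x⁻¹) ∈ (P : Subgroup G) :=
      (P : Subgroup G).mul_mem ((P : Subgroup G).inv_mem u.2) hxux
    have how := orderOf_eq_of_mem_of_card_prime (P : Subgroup G) hP _ hwP hw1
    obtain ⟨g₀, hg₀⟩ := fixedBy_eq_singleton p P hP _ how
    have hone : (QuotientGroup.mk (1 : G) : G ⧸ Subgroup.normalizer ((P : Subgroup G) : Set G)) ∈
        MulAction.fixedBy (G ⧸ Subgroup.normalizer ((P : Subgroup G) : Set G))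
          ((u : G)⁻¹ * (x * (u : G) * x⁻¹)) := by
      rw [MulAction.mem_fixedBy, smul_mk_eq_iff]
      simpa using le_normalizer hwP
    have hq2' : q2 ∈ MulAction.fixedBy (G ⧸ Subgroup.normalizer ((P : Subgroup G) : Set G))
          ((u : G)⁻¹ * (x * (u : G) * x⁻¹)) := hw
    rw [hg₀, Set.mem_singleton_iff] at hone hq2'
    have hq2one : q2 = QuotientGroup.mk (1 : G) := hq2'.trans hone.symm
    rw [← hu', hq2one, MulAction.Quotient.smul_mk, QuotientGroup.eq]
    simpa using (normalizer ((P : Subgroup G) : Set G)).inv_mem (le_normalizer u.2)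

end Cfsg.Agent.S1018
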