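import Mathlib
import Cfsg.Statements.S1019

set_option autoImplicit false
open Cfsg

namespace Cfsg.Agent.S1019

theorem card_fixedBy_conj {G : Type*} [Group G] [Finite G] (H : Subgroup G) (x a : G) :
    Nat.card (MulAction.fixedBy (G ⧸ H) (a * x * a⁻¹)) = Nat.card (MulAction.fixedBy (G ⧸ H) x) := by
  apply Nat.card_congr
  refine ⟨fun q => ⟨a⁻¹ • q.1, ?_⟩, fun q => ⟨a • q.1, ?_⟩, ?_, ?_⟩
  · have := q.2
    rw [MulAction.mem_fixedBy] at this ⊢
    conv_rhs => rw [← this]
    simp [mul_smul]
  · have := q.2
    rw [MulAction.mem_fixedBy] at this ⊢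
    conv_rhs => rw [← this]
    simp [mul_smul]
  · intro q; simp
  · intro q; simp

theorem card_conj_fix_coset {G : Type*} [Group G] [Finite G] (H : Subgroup G) (x g : G) :
    Nat.card {y : G // IsConj x y ∧ y • (QuotientGroup.mk g : G ⧸ H) = QuotientGroup.mk g} =
      Nat.card {y : G // IsConj x y ∧ y ∈ H} := by
  apply Nat.card_congr
  have key : ∀ y : G, y • (QuotientGroup.mk g : G ⧸ H) = QuotientGroup.mk g ↔ g⁻¹ * y * g ∈ H := by
    intro y
    rw [MulAction.Quotient.smul_mk, eq_comm, QuotientGroup.eq, smul_eq_mul, mul_assoc]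
  refine ⟨fun y => ⟨g⁻¹ * y.1 * g, ?_, ?_⟩, fun y => ⟨g * y.1 * g⁻¹, ?_, ?_⟩, ?_, ?_⟩
  · have h1 : IsConj y.1 (g⁻¹ * y.1 * g) := isConj_iff.mpr ⟨g⁻¹, by simp⟩
    exact y.2.1.trans h1
  · exact (key y.1).mp y.2.2
  · have h1 : IsConj y.1 (g * y.1 * g⁻¹) := isConj_iff.mpr ⟨g, rfl⟩
    exact y.2.1.trans h1
  · rw [key]
    have : g⁻¹ * (g * y.1 * g⁻¹) * g = y.1 := by group
    rw [this]; exact y.2.2
  · intro y; ext; simp only; group
  · intro y; ext; simp only; group

/-- Let H be a subgroup of a finite group G and x an element of H. In the action of G on the left cosets of H, the number of cosets fixed by x, multiplied by the size of the conjugacy class of x, equals the index of H multiplied by the number of conjugates of x that lie in H. -/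
theorem result {G : Type*} [Group G] [Finite G] (H : Subgroup G) (x : G) (hx : x ∈ H) : Nat.card (MulAction.fixedBy (G ⧸ H) x) * Nat.card {g : G // IsConj x g} = H.index * Nat.card {g : G // IsConj x g ∧ g ∈ H} := by
  classical
  have : Fintype G := Fintype.ofFinite G
  have : Fintype (G ⧸ H) := Fintype.ofFinite _
  -- double count pairs (y, q) with y conjugate to x and y • q = q
  have h1 : ∑ y ∈ (Finset.univ.filter fun y : G => IsConj x y),
      (Finset.univ.filter fun q : G ⧸ H => y • q = q).card
      = (Finset.univ.filter fun y : G => IsConj x y).card * Nat.card (MulAction.fixedBy (G ⧸ H) x) := by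
    rw [Finset.sum_const_nat]
    intro y hy
    rw [Finset.mem_filter] at hy
    obtain ⟨a, ha⟩ := isConj_iff.mp hy.2
    rw [← card_fixedBy_conj H x a, ha, Nat.card_eq_fintype_card, Fintype.card_subtype]
    rfl
  have h2 : ∑ q : G ⧸ H, (Finset.univ.filter fun y : G => IsConj x y ∧ y • q = q).card
      = Fintype.card (G ⧸ H) * Nat.card {g : G // IsConj x g ∧ g ∈ H} := by
    rw [Finset.sum_const_nat, Finset.card_univ]
    intro q _
    induction q using QuotientGroup.induction_on with
    | H g =>
      rw [← card_conj_fix_coset H x g, Nat.card_eq_fintype_card, Fintype.card_subtype]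
  have h3 : ∑ y ∈ (Finset.univ.filter fun y : G => IsConj x y),
      (Finset.univ.filter fun q : G ⧸ H => y • q = q).card
      = ∑ q : G ⧸ H, (Finset.univ.filter fun y : G => IsConj x y ∧ y • q = q).card := by
    simp_rw [Finset.card_filter]
    rw [Finset.sum_filter]
    conv_rhs => rw [Finset.sum_comm]
    apply Finset.sum_congr rfl
    intro y _
    by_cases hy : IsConj x y
    · simp only [hy, if_true, true_and]
    · simp only [hy, if_false, false_and]
      simp
  rw [h1, h2] at h3
  have h4 : Nat.card {g : G // IsConj x g} = (Finset.univ.filter fun y : G => IsConj x y).card := by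
    rw [Nat.card_eq_fintype_card, Fintype.card_subtype]
  have h5 : H.index = Fintype.card (G ⧸ H) := by
    rw [Subgroup.index, Nat.card_eq_fintype_card]
  rw [h4, h5, mul_comm, h3]

end Cfsg.Agent.S1019
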