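import Cfsg.Statements.S0493
import Cfsg.Agent.Lib.H5.SimpleTools
import Cfsg.Agent.Lib.H5.OrderCount

set_option autoImplicit false
open Cfsg

namespace Cfsg.Agent.S0493

open Subgroup Cfsg.Agent.Lib.H5

section

variable {G : Type*} [Group G] [Finite G] [IsSimpleGroup G]

theorem not_comm_of_not_cyclic (hG : ¬ IsCyclic G) : ¬ IsMulCommutative G := by
  intro hc
  let _ : CommGroup G := { ‹Group G› with mul_comm := hc.is_comm.comm }
  exact hG (IsSimpleGroup.isCyclic (α := G))

theorem not_isPGroup_of_card {n p k m : ℕ} [Fact p.Prime] (hn : Nat.card G = n)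
    (hnk : n = p ^ k * m) (hpm : ¬ p ∣ m) (hm : m ≠ 1) : ¬ IsPGroup p G := by
  have hp : p.Prime := Fact.out
  intro h
  obtain ⟨j, hj⟩ := IsPGroup.iff_card.mp h
  have h1 : m ∣ p ^ j := by
    rw [← hj, hn, hnk]; exact Dvd.intro_left _ rfl
  obtain ⟨i, -, hi⟩ := (Nat.dvd_prime_pow hp).1 h1
  rcases Nat.eq_zero_or_pos i with h0 | h0
  · rw [h0, pow_zero] at hi; exact hm hi
  · apply hpm
    rw [hi]
    exact dvd_pow_self p h0.ne'

theorem ne_ppow (hG : ¬ IsCyclic G) (p k : ℕ) (hp : p.Prime) : Nat.card G ≠ p ^ k := by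
  intro hn
  have : Fact p.Prime := ⟨hp⟩
  have hpg : IsPGroup p G := IsPGroup.of_card hn
  have hcn : Nontrivial (center G) := hpg.center_nontrivial
  have hct : center G = ⊤ := by
    rcases (inferInstance : (center G).Normal).eq_bot_or_eq_top with h | h
    · exfalso
      rw [Subgroup.nontrivial_iff_ne_bot] at hcn
      exact hcn h
    · exact h
  apply not_comm_of_not_cyclic hG
  refine ⟨⟨fun a b => ?_⟩⟩
  have hb : b ∈ center G := hct ▸ mem_top b
  exact (mem_center_iff.1 hb a)

theorem ne_of_check (hnc : ¬ IsMulCommutative G) (n p k m : ℕ) [Fact p.Prime]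
    (hnk : n = p ^ k * m) (hpm : ¬ p ∣ m) (hk : k ≠ 0) (hm : m ≠ 1)
    (hchk : ∀ d ∈ (Nat.divisors m).filter (fun d => d % p = 1),
      d = 1 ∨ ¬ (2 * n ∣ d.factorial)) : Nat.card G ≠ n := by
  intro hn
  have hp : p.Prime := Fact.out
  have hnp := not_isPGroup_of_card hn hnk hpm hm
  have hpd : p ∣ Nat.card G := by
    rw [hn, hnk]; exact (dvd_pow_self p hk).mul_right m
  let P : Sylow p G := default
  have hm0 : m ≠ 0 := fun h => hpm (h ▸ dvd_zero p)
  obtain ⟨-, hidx⟩ := sylow_card_and_index P (k := k) (m := m) (by rw [hn, hnk]) hpm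
  have h1 := card_sylow_mem_filter_divisors P hm0 hidx
  have h2 := card_sylow_ne_one_of_simple (G := G) (p := p) hpd hnp
  rcases hchk _ h1 with h3 | h3
  · exact h2 h3
  · apply h3
    have hidx' := index_normalizer_eq_card_sylow P
    have hne : normalizer ((P : Subgroup G) : Set G) ≠ ⊤ := by
      intro h
      rw [h, index_top] at hidx'
      exact h2 hidx'.symm
    have := two_mul_card_dvd_factorial_index hnc _ hne
    rwa [hidx', hn] at this

theorem ne_two_odd (m : ℕ) (hm : m % 2 = 1 ∧ m ≠ 1) :
    Nat.card G ≠ 2 * m := by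
  intro hn
  have : Fact (Nat.Prime 2) := ⟨Nat.prime_two⟩
  have hpm : ¬ 2 ∣ m := by omega
  have hnp := not_isPGroup_of_card (p := 2) (k := 1) (m := m) hn (by ring) hpm hm.2
  have hpd : 2 ∣ Nat.card G := by rw [hn]; exact Dvd.intro _ rfl
  have hmin : (Nat.card G).minFac = 2 := (Nat.minFac_eq_two_iff _).2 hpd
  let P : Sylow 2 G := default
  obtain ⟨hc, -⟩ := sylow_card_and_index P (k := 1) (m := m) (by rw [hn]; ring) hpm
  rw [pow_one] at hc
  have hcyc : IsCyclic P := isCyclic_of_prime_card hc
  exact not_normalizer_le_centralizer_of_simple hpd hnp P (hcyc.normalizer_le_centralizer hmin)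

theorem ne_56 (hnc : ¬ IsMulCommutative G) : Nat.card G ≠ 56 := by
  intro hn
  have : Fact (Nat.Prime 2) := ⟨Nat.prime_two⟩
  have : Fact (Nat.Prime 7) := ⟨by norm_num⟩
  have h7 : ∀ Q : Sylow 7 G, Nat.card (Q : Subgroup G) = 7 ∧ (Q : Subgroup G).index = 8 := by
    intro Q
    have := sylow_card_and_index Q (k := 1) (m := 8) (by rw [hn]; norm_num) (by norm_num)
    simpa using this
  have h2 : ∀ Q : Sylow 2 G, Nat.card (Q : Subgroup G) = 8 := by
    intro Q
    have := sylow_card_and_index Q (k := 3) (m := 7) (by rw [hn]; norm_num) (by norm_num)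
    simpa using this.1
  have hnp7 : ¬ IsPGroup 7 G :=
    not_isPGroup_of_card (p := 7) (k := 1) (m := 8) hn (by norm_num) (by norm_num) (by norm_num)
  have hnp2 : ¬ IsPGroup 2 G :=
    not_isPGroup_of_card (p := 2) (k := 3) (m := 7) hn (by norm_num) (by norm_num) (by norm_num)
  have hn7 : Nat.card (Sylow 7 G) = 8 := by
    have h1 := card_sylow_mem_filter_divisors (default : Sylow 7 G) (by norm_num) (h7 _).2
    have h2 := card_sylow_ne_one_of_simple (G := G) (p := 7) (by rw [hn]; norm_num) hnp7
    have h3 : (Nat.divisors 8).filter (fun d => d % 7 = 1) = {1, 8} := by decide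
    rw [h3] at h1
    simp only [Finset.mem_insert, Finset.mem_singleton] at h1
    omega
  have hc7 := card_orderOf_eq_prime (G := G) (p := 7) (fun Q => (h7 Q).1)
  rw [hn7] at hc7
  -- every Sylow 2-subgroup is the complement of the set of elements of order 7
  have hsub : ∀ Q : Sylow 2 G, ((Q : Subgroup G) : Set G) = {g : G | orderOf g ≠ 7} := by
    intro Q
    have hfin : ({g : G | orderOf g ≠ 7} : Set G).Finite := Set.toFinite _
    apply Set.eq_of_subset_of_ncard_le _ _ hfin
    · intro g hg
      show orderOf g ≠ 7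
      intro h7o
      have h1 : orderOf (⟨g, hg⟩ : (Q : Subgroup G)) ∣ 8 := h2 Q ▸ orderOf_dvd_natCard _
      rw [Subgroup.orderOf_mk, h7o] at h1
      revert h1; decide
    · have h1 : ({g : G | orderOf g ≠ 7} : Set G).ncard + ({g : G | orderOf g = 7} : Set G).ncard
          = Nat.card G := by
        have := Set.ncard_add_ncard_compl ({g : G | orderOf g = 7} : Set G)
        have e : ({g : G | orderOf g ≠ 7} : Set G) = ({g : G | orderOf g = 7} : Set G)ᶜ := by
          ext g; simp
        rw [add_comm, e]
        exact this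
      have h3 : ({g : G | orderOf g = 7} : Set G).ncard = 48 := by
        rw [← Nat.card_coe_set_eq]; exact hc7
      have h4 : ((Q : Subgroup G) : Set G).ncard = 8 := by
        rw [← Nat.card_coe_set_eq]; exact h2 Q
      rw [h4]
      omega
  have hss : Subsingleton (Sylow 2 G) := by
    refine ⟨fun Q R => ?_⟩
    apply Sylow.ext
    apply SetLike.coe_injective
    rw [hsub Q, hsub R]
  exact sylow_not_normal_of_simple (p := 2) (by rw [hn]; norm_num) hnp2 (default : Sylow 2 G)
    (Sylow.normal_of_subsingleton _)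

end

/-- A finite simple group of order at most 100 that is not cyclic has order 60. -/
theorem result {G : Type*} [Group G] [Finite G] [IsSimpleGroup G]
    (hG : ¬ IsCyclic G) (h : Nat.card G ≤ 100) : Nat.card G = 60 := by
  have hnc := not_comm_of_not_cyclic hG
  obtain ⟨n, hn⟩ : ∃ n, Nat.card G = n := ⟨_, rfl⟩
  rw [hn] at h ⊢
  interval_cases n
  · exact absurd hn Nat.card_pos.ne'
  · have := (Nat.card_eq_one_iff_unique.1 hn).1
    exact absurd isCyclic_of_subsingleton hG
  · exact absurd hn (ne_ppow hG 2 1 (by norm_num) )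
  · exact absurd hn (ne_ppow hG 3 1 (by norm_num) )
  · exact absurd hn (ne_ppow hG 2 2 (by norm_num) )
  · exact absurd hn (ne_ppow hG 5 1 (by norm_num) )
  · have : Fact (Nat.Prime 2) := ⟨by norm_num⟩
    exact absurd hn (ne_of_check hnc 6 2 1 3 (by norm_num) (by norm_num) (by norm_num) (by norm_num) (by decide))
  · exact absurd hn (ne_ppow hG 7 1 (by norm_num) )
  · exact absurd hn (ne_ppow hG 2 3 (by norm_num) )
  · exact absurd hn (ne_ppow hG 3 2 (by norm_num) )
  · have : Fact (Nat.Prime 5) := ⟨by norm_num⟩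
    exact absurd hn (ne_of_check hnc 10 5 1 2 (by norm_num) (by norm_num) (by norm_num) (by norm_num) (by decide))
  · exact absurd hn (ne_ppow hG 11 1 (by norm_num) )
  · have : Fact (Nat.Prime 2) := ⟨by norm_num⟩
    exact absurd hn (ne_of_check hnc 12 2 2 3 (by norm_num) (by norm_num) (by norm_num) (by norm_num) (by decide))
  · exact absurd hn (ne_ppow hG 13 1 (by norm_num) )
  · have : Fact (Nat.Prime 7) := ⟨by norm_num⟩
    exact absurd hn (ne_of_check hnc 14 7 1 2 (by norm_num) (by norm_num) (by norm_num) (by norm_num) (by decide))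
  · have : Fact (Nat.Prime 3) := ⟨by norm_num⟩
    exact absurd hn (ne_of_check hnc 15 3 1 5 (by norm_num) (by norm_num) (by norm_num) (by norm_num) (by decide))
  · exact absurd hn (ne_ppow hG 2 4 (by norm_num) )
  · exact absurd hn (ne_ppow hG 17 1 (by norm_num) )
  · have : Fact (Nat.Prime 3) := ⟨by norm_num⟩
    exact absurd hn (ne_of_check hnc 18 3 2 2 (by norm_num) (by norm_num) (by norm_num) (by norm_num) (by decide))
  · exact absurd hn (ne_ppow hG 19 1 (by norm_num) )
  · have : Fact (Nat.Prime 5) := ⟨by norm_num⟩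
    exact absurd hn (ne_of_check hnc 20 5 1 4 (by norm_num) (by norm_num) (by norm_num) (by norm_num) (by decide))
  · have : Fact (Nat.Prime 7) := ⟨by norm_num⟩
    exact absurd hn (ne_of_check hnc 21 7 1 3 (by norm_num) (by norm_num) (by norm_num) (by norm_num) (by decide))
  · have : Fact (Nat.Prime 11) := ⟨by norm_num⟩
    exact absurd hn (ne_of_check hnc 22 11 1 2 (by norm_num) (by norm_num) (by norm_num) (by norm_num) (by decide))
  · exact absurd hn (ne_ppow hG 23 1 (by norm_num) )
  · have : Fact (Nat.Prime 2) := ⟨by norm_num⟩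
    exact absurd hn (ne_of_check hnc 24 2 3 3 (by norm_num) (by norm_num) (by norm_num) (by norm_num) (by decide))
  · exact absurd hn (ne_ppow hG 5 2 (by norm_num) )
  · have : Fact (Nat.Prime 13) := ⟨by norm_num⟩
    exact absurd hn (ne_of_check hnc 26 13 1 2 (by norm_num) (by norm_num) (by norm_num) (by norm_num) (by decide))
  · exact absurd hn (ne_ppow hG 3 3 (by norm_num) )
  · have : Fact (Nat.Prime 7) := ⟨by norm_num⟩
    exact absurd hn (ne_of_check hnc 28 7 1 4 (by norm_num) (by norm_num) (by norm_num) (by norm_num) (by decide))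
  · exact absurd hn (ne_ppow hG 29 1 (by norm_num) )
  · exact absurd hn (ne_two_odd 15 (by decide))
  · exact absurd hn (ne_ppow hG 31 1 (by norm_num) )
  · exact absurd hn (ne_ppow hG 2 5 (by norm_num) )
  · have : Fact (Nat.Prime 3) := ⟨by norm_num⟩
    exact absurd hn (ne_of_check hnc 33 3 1 11 (by norm_num) (by norm_num) (by norm_num) (by norm_num) (by decide))
  · have : Fact (Nat.Prime 17) := ⟨by norm_num⟩
    exact absurd hn (ne_of_check hnc 34 17 1 2 (by norm_num) (by norm_num) (by norm_num) (by norm_num) (by decide))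
  · have : Fact (Nat.Prime 5) := ⟨by norm_num⟩
    exact absurd hn (ne_of_check hnc 35 5 1 7 (by norm_num) (by norm_num) (by norm_num) (by norm_num) (by decide))
  · have : Fact (Nat.Prime 3) := ⟨by norm_num⟩
    exact absurd hn (ne_of_check hnc 36 3 2 4 (by norm_num) (by norm_num) (by norm_num) (by norm_num) (by decide))
  · exact absurd hn (ne_ppow hG 37 1 (by norm_num) )
  · have : Fact (Nat.Prime 19) := ⟨by norm_num⟩
    exact absurd hn (ne_of_check hnc 38 19 1 2 (by norm_num) (by norm_num) (by norm_num) (by norm_num) (by decide))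
  · have : Fact (Nat.Prime 13) := ⟨by norm_num⟩
    exact absurd hn (ne_of_check hnc 39 13 1 3 (by norm_num) (by norm_num) (by norm_num) (by norm_num) (by decide))
  · have : Fact (Nat.Prime 2) := ⟨by norm_num⟩
    exact absurd hn (ne_of_check hnc 40 2 3 5 (by norm_num) (by norm_num) (by norm_num) (by norm_num) (by decide))
  · exact absurd hn (ne_ppow hG 41 1 (by norm_num) )
  · have : Fact (Nat.Prime 7) := ⟨by norm_num⟩
    exact absurd hn (ne_of_check hnc 42 7 1 6 (by norm_num) (by norm_num) (by norm_num) (by norm_num) (by decide))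
  · exact absurd hn (ne_ppow hG 43 1 (by norm_num) )
  · have : Fact (Nat.Prime 11) := ⟨by norm_num⟩
    exact absurd hn (ne_of_check hnc 44 11 1 4 (by norm_num) (by norm_num) (by norm_num) (by norm_num) (by decide))
  · have : Fact (Nat.Prime 3) := ⟨by norm_num⟩
    exact absurd hn (ne_of_check hnc 45 3 2 5 (by norm_num) (by norm_num) (by norm_num) (by norm_num) (by decide))
  · have : Fact (Nat.Prime 23) := ⟨by norm_num⟩
    exact absurd hn (ne_of_check hnc 46 23 1 2 (by norm_num) (by norm_num) (by norm_num) (by norm_num) (by decide))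
  · exact absurd hn (ne_ppow hG 47 1 (by norm_num) )
  · have : Fact (Nat.Prime 2) := ⟨by norm_num⟩
    exact absurd hn (ne_of_check hnc 48 2 4 3 (by norm_num) (by norm_num) (by norm_num) (by norm_num) (by decide))
  · exact absurd hn (ne_ppow hG 7 2 (by norm_num) )
  · have : Fact (Nat.Prime 5) := ⟨by norm_num⟩
    exact absurd hn (ne_of_check hnc 50 5 2 2 (by norm_num) (by norm_num) (by norm_num) (by norm_num) (by decide))
  · have : Fact (Nat.Prime 3) := ⟨by norm_num⟩
    exact absurd hn (ne_of_check hnc 51 3 1 17 (by norm_num) (by norm_num) (by norm_num) (by norm_num) (by decide))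
  · have : Fact (Nat.Prime 13) := ⟨by norm_num⟩
    exact absurd hn (ne_of_check hnc 52 13 1 4 (by norm_num) (by norm_num) (by norm_num) (by norm_num) (by decide))
  · exact absurd hn (ne_ppow hG 53 1 (by norm_num) )
  · have : Fact (Nat.Prime 3) := ⟨by norm_num⟩
    exact absurd hn (ne_of_check hnc 54 3 3 2 (by norm_num) (by norm_num) (by norm_num) (by norm_num) (by decide))
  · have : Fact (Nat.Prime 11) := ⟨by norm_num⟩
    exact absurd hn (ne_of_check hnc 55 11 1 5 (by norm_num) (by norm_num) (by norm_num) (by norm_num) (by decide))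
  · exact absurd hn (ne_56 hnc)
  · have : Fact (Nat.Prime 19) := ⟨by norm_num⟩
    exact absurd hn (ne_of_check hnc 57 19 1 3 (by norm_num) (by norm_num) (by norm_num) (by norm_num) (by decide))
  · have : Fact (Nat.Prime 29) := ⟨by norm_num⟩
    exact absurd hn (ne_of_check hnc 58 29 1 2 (by norm_num) (by norm_num) (by norm_num) (by norm_num) (by decide))
  · exact absurd hn (ne_ppow hG 59 1 (by norm_num) )
  · rfl
  · exact absurd hn (ne_ppow hG 61 1 (by norm_num) )
  · have : Fact (Nat.Prime 31) := ⟨by norm_num⟩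
    exact absurd hn (ne_of_check hnc 62 31 1 2 (by norm_num) (by norm_num) (by norm_num) (by norm_num) (by decide))
  · have : Fact (Nat.Prime 7) := ⟨by norm_num⟩
    exact absurd hn (ne_of_check hnc 63 7 1 9 (by norm_num) (by norm_num) (by norm_num) (by norm_num) (by decide))
  · exact absurd hn (ne_ppow hG 2 6 (by norm_num) )
  · have : Fact (Nat.Prime 5) := ⟨by norm_num⟩
    exact absurd hn (ne_of_check hnc 65 5 1 13 (by norm_num) (by norm_num) (by norm_num) (by norm_num) (by decide))
  · have : Fact (Nat.Prime 11) := ⟨by norm_num⟩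
    exact absurd hn (ne_of_check hnc 66 11 1 6 (by norm_num) (by norm_num) (by norm_num) (by norm_num) (by decide))
  · exact absurd hn (ne_ppow hG 67 1 (by norm_num) )
  · have : Fact (Nat.Prime 17) := ⟨by norm_num⟩
    exact absurd hn (ne_of_check hnc 68 17 1 4 (by norm_num) (by norm_num) (by norm_num) (by norm_num) (by decide))
  · have : Fact (Nat.Prime 3) := ⟨by norm_num⟩
    exact absurd hn (ne_of_check hnc 69 3 1 23 (by norm_num) (by norm_num) (by norm_num) (by norm_num) (by decide))
  · have : Fact (Nat.Prime 5) := ⟨by norm_num⟩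
    exact absurd hn (ne_of_check hnc 70 5 1 14 (by norm_num) (by norm_num) (by norm_num) (by norm_num) (by decide))
  · exact absurd hn (ne_ppow hG 71 1 (by norm_num) )
  · have : Fact (Nat.Prime 3) := ⟨by norm_num⟩
    exact absurd hn (ne_of_check hnc 72 3 2 8 (by norm_num) (by norm_num) (by norm_num) (by norm_num) (by decide))
  · exact absurd hn (ne_ppow hG 73 1 (by norm_num) )
  · have : Fact (Nat.Prime 37) := ⟨by norm_num⟩
    exact absurd hn (ne_of_check hnc 74 37 1 2 (by norm_num) (by norm_num) (by norm_num) (by norm_num) (by decide))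
  · have : Fact (Nat.Prime 5) := ⟨by norm_num⟩
    exact absurd hn (ne_of_check hnc 75 5 2 3 (by norm_num) (by norm_num) (by norm_num) (by norm_num) (by decide))
  · have : Fact (Nat.Prime 19) := ⟨by norm_num⟩
    exact absurd hn (ne_of_check hnc 76 19 1 4 (by norm_num) (by norm_num) (by norm_num) (by norm_num) (by decide))
  · have : Fact (Nat.Prime 7) := ⟨by norm_num⟩
    exact absurd hn (ne_of_check hnc 77 7 1 11 (by norm_num) (by norm_num) (by norm_num) (by norm_num) (by decide))
  · have : Fact (Nat.Prime 13) := ⟨by norm_num⟩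
    exact absurd hn (ne_of_check hnc 78 13 1 6 (by norm_num) (by norm_num) (by norm_num) (by norm_num) (by decide))
  · exact absurd hn (ne_ppow hG 79 1 (by norm_num) )
  · have : Fact (Nat.Prime 2) := ⟨by norm_num⟩
    exact absurd hn (ne_of_check hnc 80 2 4 5 (by norm_num) (by norm_num) (by norm_num) (by norm_num) (by decide))
  · exact absurd hn (ne_ppow hG 3 4 (by norm_num) )
  · have : Fact (Nat.Prime 41) := ⟨by norm_num⟩
    exact absurd hn (ne_of_check hnc 82 41 1 2 (by norm_num) (by norm_num) (by norm_num) (by norm_num) (by decide))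
  · exact absurd hn (ne_ppow hG 83 1 (by norm_num) )
  · have : Fact (Nat.Prime 7) := ⟨by norm_num⟩
    exact absurd hn (ne_of_check hnc 84 7 1 12 (by norm_num) (by norm_num) (by norm_num) (by norm_num) (by decide))
  · have : Fact (Nat.Prime 5) := ⟨by norm_num⟩
    exact absurd hn (ne_of_check hnc 85 5 1 17 (by norm_num) (by norm_num) (by norm_num) (by norm_num) (by decide))
  · have : Fact (Nat.Prime 43) := ⟨by norm_num⟩
    exact absurd hn (ne_of_check hnc 86 43 1 2 (by norm_num) (by norm_num) (by norm_num) (by norm_num) (by decide))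
  · have : Fact (Nat.Prime 3) := ⟨by norm_num⟩
    exact absurd hn (ne_of_check hnc 87 3 1 29 (by norm_num) (by norm_num) (by norm_num) (by norm_num) (by decide))
  · have : Fact (Nat.Prime 11) := ⟨by norm_num⟩
    exact absurd hn (ne_of_check hnc 88 11 1 8 (by norm_num) (by norm_num) (by norm_num) (by norm_num) (by decide))
  · exact absurd hn (ne_ppow hG 89 1 (by norm_num) )
  · exact absurd hn (ne_two_odd 45 (by decide))
  · have : Fact (Nat.Prime 7) := ⟨by norm_num⟩
    exact absurd hn (ne_of_check hnc 91 7 1 13 (by norm_num) (by norm_num) (by norm_num) (by norm_num) (by decide))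
  · have : Fact (Nat.Prime 23) := ⟨by norm_num⟩
    exact absurd hn (ne_of_check hnc 92 23 1 4 (by norm_num) (by norm_num) (by norm_num) (by norm_num) (by decide))
  · have : Fact (Nat.Prime 31) := ⟨by norm_num⟩
    exact absurd hn (ne_of_check hnc 93 31 1 3 (by norm_num) (by norm_num) (by norm_num) (by norm_num) (by decide))
  · have : Fact (Nat.Prime 47) := ⟨by norm_num⟩
    exact absurd hn (ne_of_check hnc 94 47 1 2 (by norm_num) (by norm_num) (by norm_num) (by norm_num) (by decide))
  · have : Fact (Nat.Prime 5) := ⟨by norm_num⟩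
    exact absurd hn (ne_of_check hnc 95 5 1 19 (by norm_num) (by norm_num) (by norm_num) (by norm_num) (by decide))
  · have : Fact (Nat.Prime 2) := ⟨by norm_num⟩
    exact absurd hn (ne_of_check hnc 96 2 5 3 (by norm_num) (by norm_num) (by norm_num) (by norm_num) (by decide))
  · exact absurd hn (ne_ppow hG 97 1 (by norm_num) )
  · have : Fact (Nat.Prime 7) := ⟨by norm_num⟩
    exact absurd hn (ne_of_check hnc 98 7 2 2 (by norm_num) (by norm_num) (by norm_num) (by norm_num) (by decide))
  · have : Fact (Nat.Prime 3) := ⟨by norm_num⟩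
    exact absurd hn (ne_of_check hnc 99 3 2 11 (by norm_num) (by norm_num) (by norm_num) (by norm_num) (by decide))
  · have : Fact (Nat.Prime 5) := ⟨by norm_num⟩
    exact absurd hn (ne_of_check hnc 100 5 2 4 (by norm_num) (by norm_num) (by norm_num) (by norm_num) (by decide))

end Cfsg.Agent.S0493
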