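import Cfsg.Statements.S0434
import Cfsg.Agent.Lib.H14.M7920STRUCT
import Cfsg.Agent.Lib.H13.M7920T3
import Cfsg.Agent.Lib.H7.M7920FINAL144
-- import your own Cfsg.Agent.* helpers here

set_option autoImplicit false
open Cfsg

namespace Cfsg.Agent.S0434

/-- Sylow 3-normalisers in a simple group of order 7920 have order 144 (so there are 55 Sylow 3-subgroups). -/
theorem result {G : Type*} [Group G] [Finite G] (hG : Cfsg.IsM11 G) (P : Sylow 3 G) : Nat.card (Subgroup.normalizer ((P : Subgroup G) : Set G)) = 144 := by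
  classical
  obtain ⟨hs, hcard⟩ := hG
  have := hs
  have : Fintype G := Fintype.ofFinite G
  -- the structure data of S4429 (pieces of helpers 10, 11, 12, 16, 21, 22, 23, 28, 4 and mine)
  obtain ⟨x, y, ψ, ψ₄, χ₁, χ₂, θ, θ', φ, hx, hCx, hCy, hall, hinj, hdist, hne1, hdeg, hvalx, hF5,
    hvaly⟩ := Cfsg.Agent.Lib.H14.M7920.structure_7920 hcard
  -- (T3) helper13: every element of order 3 has centralizer of order 18 (route of helper7)
  have h18 : ∀ t : G, orderOf t = 3 → Nat.card (Subgroup.centralizer ({t} : Set G)) = 18 :=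
    fun t ht => Cfsg.Agent.Lib.H13.M7920.card_centralizer_order3 hcard x y hx hCx hCy ψ ψ₄ χ₁ χ₂ θ θ' φ
      hall hinj hdist hne1 hdeg hvalx hF5 hvaly t ht
  -- (TI3) + (FINAL144) helper7: Frobenius count
  exact Cfsg.Agent.Lib.H7.M7920.card_normalizer_sylow3 hcard h18 P

end Cfsg.Agent.S0434
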