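-- S0435 (helper19): involution centralisers in a simple group of order 7920 have order 48.
-- Corollary of the character-table data of S4429 (`H19.M7920.structure_7920`, assembled from the team's
-- S4429 pieces) + integrality / second orthogonality / class multiplication at an involution
-- (`H19.O7920.card_centralizer_involution`, arithmetic by helper23).
import Cfsg.Statements.S0435
import Cfsg.Agent.Lib.H19.M7920STRUCT
import Cfsg.Agent.Lib.H19.O7920FINAL48

set_option autoImplicit false
open Cfsg

namespace Cfsg.Agent.S0435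

/-- Involution centralisers in a simple group of order 7920 have order 48. -/
theorem result {G : Type*} [Group G] [Finite G] (hG : Cfsg.IsM11 G) (x : G) (hx : orderOf x = 2) : Nat.card (Subgroup.centralizer ({x} : Set G)) = 48 := by
  classical
  obtain ⟨hS, hcard⟩ := hG
  haveI : IsSimpleGroup G := hS
  haveI : Fintype G := Fintype.ofFinite G
  obtain ⟨x₀, y₀, ψ, ψ₄, χ₁, χ₂, θ, θ', φ, hx₀, hCx, hCy, hall, hinj, hdist, hne1, hdeg, hvalx, hF5, hvaly⟩ :=
    Cfsg.Agent.Lib.H19.M7920.structure_7920 (G := G) hcard
  exact Cfsg.Agent.Lib.H19.O7920.card_centralizer_involution hcard x₀ y₀ hx₀ hCx hCy ψ ψ₄ χ₁ χ₂ θ θ' φ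
    hall hinj hdist hne1 hdeg hvalx hF5 hvaly x hx

end Cfsg.Agent.S0435
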