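import Cfsg.Statements.S4755
import Cfsg.Agent.Lib.H24.CharSchur
import Cfsg.Agent.Lib.L0.CharLinear

set_option autoImplicit false
open Cfsg

namespace Cfsg.Agent.S4755

open Cfsg.Agent.Lib.H24 Cfsg.Agent.Lib.L0
open scoped ComplexConjugate

/-- A linear character is constant on the cosets of the commutator subgroup. -/
theorem linear_eq_of_mem_commutator {G : Type*} [Group G] (χ : IrrCharacter G)
    (h1 : (χ : G → ℂ) 1 = 1) (u z : G) (hz : u⁻¹ * z ∈ commutator G) :
    (χ : G → ℂ) z = (χ : G → ℂ) u := by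
  have hχ := isCharacter_of_irr χ.2
  set f := linearCharHom hχ h1 with hf
  have hker : u⁻¹ * z ∈ f.ker := Abelianization.commutator_subset_ker f hz
  have h2 : f (u⁻¹ * z) = 1 := MonoidHom.mem_ker.mp hker
  have h3 : f z = f u := by
    have : f z = f (u * (u⁻¹ * z)) := by congr 1; group
    rw [this, map_mul, h2, mul_one]
  have := congrArg (fun t : ℂˣ => (t : ℂ)) h3
  simpa [hf, linearCharHom_apply] using this

/-- Let x, y be non-identity elements of the finite group G such that χ(x' y') = χ(x') χ(y') for all conjugates x' of x, y' of y and every irreducible character χ. Then the conjugacy class of x y is the set of all products of a conjugate of x with a conjugate of y; every irreducible character of degree greater than 1 vanishes at x y; and the conjugacy class of x y is the coset of the commutator subgroup containing x y. -/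
theorem result {G : Type*} [Group G] [Finite G] (x y : G) (hx : x ≠ 1) (hy : y ≠ 1) (h : ∀ (a b : G) (χ : Cfsg.IrrCharacter G), (χ : G → ℂ) (a * x * a⁻¹ * (b * y * b⁻¹)) = (χ : G → ℂ) (a * x * a⁻¹) * (χ : G → ℂ) (b * y * b⁻¹)) : (∀ z : G, IsConj (x * y) z ↔ ∃ a b : G, z = a * x * a⁻¹ * (b * y * b⁻¹)) ∧ (∀ χ : Cfsg.IrrCharacter G, (χ : G → ℂ) 1 ≠ 1 → (χ : G → ℂ) (x * y) = 0) ∧ (∀ z : G, IsConj (x * y) z ↔ (x * y)⁻¹ * z ∈ commutator G) := by
  classical
  have := Fintype.ofFinite G
  have := Fintype.ofFinite (IrrCharacter G)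
  have hG : (Nat.card G : ℂ) ≠ 0 := by exact_mod_cast (Nat.card_pos (α := G)).ne'
  -- basic consequence of the hypothesis
  have hprod : ∀ (a b : G) (χ : IrrCharacter G),
      (χ : G → ℂ) (a * x * a⁻¹ * (b * y * b⁻¹)) = (χ : G → ℂ) x * (χ : G → ℂ) y := by
    intro a b χ
    rw [h a b χ, irr_conj, irr_conj]
  have hxy : ∀ χ : IrrCharacter G, (χ : G → ℂ) (x * y) = (χ : G → ℂ) x * (χ : G → ℂ) y := by
    intro χ
    have := hprod 1 1 χ
    simpa using this
  -- (2) nonlinear characters vanish at x y
  have hvan : ∀ χ : Cfsg.IrrCharacter G, (χ : G → ℂ) 1 ≠ 1 → (χ : G → ℂ) (x * y) = 0 := by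
    intro χ hne
    have h1 : (χ : G → ℂ) 1 ≠ 0 := irr_one_ne_zero χ
    have hsum := irr_sum_conj_mul χ x y
    have hsum2 : ∑ c : G, (χ : G → ℂ) (c * x * c⁻¹ * y) =
        (Nat.card G : ℂ) * ((χ : G → ℂ) x * (χ : G → ℂ) y) := by
      rw [Finset.sum_congr rfl (fun c _ => ?_), Finset.sum_const, Finset.card_univ,
        nsmul_eq_mul, Nat.card_eq_fintype_card]
      have := hprod c 1 χ
      simpa using this
    rw [hsum2] at hsum
    have h3 : (Nat.card G : ℂ) * (((χ : G → ℂ) x * (χ : G → ℂ) y) * ((χ : G → ℂ) 1 - 1)) = 0 := by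
      have := congrArg (fun t => t * (χ : G → ℂ) 1) hsum
      rw [div_mul_cancel₀ _ h1] at this
      linear_combination this
    rcases mul_eq_zero.mp h3 with h4 | h4
    · exact absurd h4 hG
    · rcases mul_eq_zero.mp h4 with h5 | h5
      · rw [hxy χ, h5]
      · exact absurd (sub_eq_zero.mp h5) hne
  refine ⟨?_, hvan, ?_⟩
  · intro z
    constructor
    · rintro ⟨c, hc⟩
      refine ⟨(c : G), (c : G), ?_⟩
      have : z = (c : G) * (x * y) * (c : G)⁻¹ := by
        have := hc
        rw [SemiconjBy] at this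
        rw [eq_mul_inv_iff_mul_eq]
        exact this.symm
      rw [this]
      group
    · rintro ⟨a, b, rfl⟩
      rw [isConj_iff_forall_irr_eq]
      intro χ
      rw [hprod a b χ, hxy χ]
  · intro z
    constructor
    · rintro ⟨c, hc⟩
      have hz : z = (c : G) * (x * y) * (c : G)⁻¹ := by
        have := hc
        rw [SemiconjBy] at this
        rw [eq_mul_inv_iff_mul_eq]
        exact this.symm
      rw [hz]
      have : (x * y)⁻¹ * ((c : G) * (x * y) * (c : G)⁻¹) =
          (x * y)⁻¹ * (c : G) * ((x * y)⁻¹)⁻¹ * (c : G)⁻¹ := by group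
      rw [this, commutator_def]
      exact Subgroup.commutator_mem_commutator (Subgroup.mem_top ((x * y)⁻¹))
        (Subgroup.mem_top (c : G))
    · intro hz
      by_contra hnc
      have h1 := second_orthogonality (G := G) (x * y) z
      rw [if_neg hnc] at h1
      have h2 := second_orthogonality (G := G) (x * y) (x * y)
      rw [if_pos (IsConj.refl _)] at h2
      have h3 : ∑ χ : IrrCharacter G, (χ : G → ℂ) (x * y) * conj ((χ : G → ℂ) z) =
          ∑ χ : IrrCharacter G, (χ : G → ℂ) (x * y) * conj ((χ : G → ℂ) (x * y)) := by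
        refine Finset.sum_congr rfl (fun χ _ => ?_)
        by_cases hlin : (χ : G → ℂ) 1 = 1
        · rw [linear_eq_of_mem_commutator χ hlin (x * y) z hz]
        · rw [hvan χ hlin, zero_mul, zero_mul]
      rw [h1, h2] at h3
      have h4 : Nat.card (Subgroup.centralizer ({x * y} : Set G)) = 0 := by exact_mod_cast h3.symm
      exact (Nat.card_pos (α := Subgroup.centralizer ({x * y} : Set G))).ne' h4

end Cfsg.Agent.S4755
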