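import Cfsg.Statements.S0320
import Cfsg.Agent.Lib.H2.CoxExch
import Cfsg.Agent.Lib.H2.BN5

set_option autoImplicit false
set_option linter.unusedSectionVars false
open Cfsg

namespace Cfsg.Agent.S0320

open Cfsg.Agent.Lib.H2.BN Cfsg.Agent.Lib.H2.CoxExch

section

variable {G : Type*} [Group G] (P : Cfsg.BNPair G)
  [hN : ((P.B ⊓ P.N).subgroupOf P.N).Normal]

/-- the generators of the Weyl group -/
def sg (s : P.S) : P.N ⧸ (P.B ⊓ P.N).subgroupOf P.N :=
  QuotientGroup.mk (⟨(s : G), P.subset s.2⟩ : P.N)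

theorem mk_eq_iff (x y : P.N) :
    (QuotientGroup.mk x : P.N ⧸ (P.B ⊓ P.N).subgroupOf P.N) = QuotientGroup.mk y ↔
      Eqv P (x : G) y := by
  rw [QuotientGroup.eq, Subgroup.mem_subgroupOf, Subgroup.mem_inf]
  constructor
  · intro h
    exact h.1
  · intro h
    exact ⟨h, (x⁻¹ * y).2⟩

/-- the underlying list in `G` -/
def lw (ω : List P.S) : List G := ω.map Subtype.val

theorem isWord_lw (ω : List P.S) : IsWord P.S (lw P ω) := by
  intro x hx
  simp only [lw, List.mem_map] at hx
  obtain ⟨s, _, rfl⟩ := hx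
  exact s.2

theorem lw_length (ω : List P.S) : (lw P ω).length = ω.length := by simp [lw]

theorem prod_lw_mem (ω : List P.S) : (lw P ω).prod ∈ P.N :=
  (isWord_lw P ω).prod_mem_N (le_refl _)

theorem wp_sg (ω : List P.S) :
    wp (sg P) ω = QuotientGroup.mk (⟨(lw P ω).prod, prod_lw_mem P ω⟩ : P.N) := by
  induction ω with
  | nil =>
    simp only [wp_nil]
    rfl
  | cons s ω ih =>
    rw [wp_cons, ih]
    rfl

theorem exists_lift {l : List G} (hl : IsWord P.S l) : ∃ ω : List P.S, lw P ω = l := by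
  induction l with
  | nil => exact ⟨[], rfl⟩
  | cons s l ih =>
    obtain ⟨hs, hl'⟩ := hl.of_cons
    obtain ⟨ω, rfl⟩ := ih hl'
    exact ⟨⟨s, hs⟩ :: ω, rfl⟩

theorem wp_eq_iff (ω ω' : List P.S) :
    wp (sg P) ω = wp (sg P) ω' ↔ Eqv P (lw P ω).prod (lw P ω').prod := by
  rw [wp_sg, wp_sg, mk_eq_iff]

theorem len_of_red {ω : List P.S} (h : Red (sg P) ω) : len P (lw P ω).prod = ω.length := by
  apply le_antisymm
  · have := len_le (isWord_lw P ω) (Eqv.refl (P := P) _)
    rwa [lw_length] at this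
  · obtain ⟨l, hl, hlen, he⟩ := exists_reduced (prod_lw_mem P ω)
    obtain ⟨ω', rfl⟩ := exists_lift P hl
    have := h ω' ((wp_eq_iff P ω' ω).2 he)
    rw [← hlen, lw_length]
    exact this

theorem exch_sg : Exch (sg P) where
  sq := by
    intro s
    have : sg P s * sg P s = wp (sg P) [s, s] := by simp
    rw [this, ← wp_nil (sg P), wp_eq_iff]
    simp only [lw, List.map_cons, List.map_nil, List.prod_cons, List.prod_nil, mul_one]
    exact Eqv.of_mem_B (S_sq s.2) P.B.one_mem
  exch := by
    intro ω s hr hnr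
    have hlen := len_of_red P hr
    have hlt : len P ((s : G) * (lw P ω).prod) < len P (lw P ω).prod := by
      unfold Red at hnr
      push Not at hnr
      obtain ⟨ω', hw, hl⟩ := hnr
      have h1 : Eqv P (lw P ω').prod ((s : G) * (lw P ω).prod) := by
        have := (wp_eq_iff P ω' (s :: ω)).1 hw
        simpa [lw] using this
      have h2 := len_le (isWord_lw P ω') h1
      rw [lw_length] at h2
      rw [List.length_cons] at hl
      rcases len_smul_cases s.2 (prod_lw_mem P ω) with h3 | h3 <;> omega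
    obtain ⟨j, hj, he⟩ := exchange (lw P ω) (isWord_lw P ω) s s.2 hlt
    rw [lw_length] at hj
    refine ⟨j, hj, ?_⟩
    have : sg P s * wp (sg P) ω = wp (sg P) (s :: ω) := by simp
    rw [this, wp_eq_iff]
    have e : lw P (ω.eraseIdx j) = (lw P ω).eraseIdx j := by
      simp only [lw, List.eraseIdx_map]
    rw [e]
    simpa [lw] using he

theorem sg_injective : Function.Injective (sg P) := by
  intro s s' h
  have h1 : Eqv P (s : G) s' := (mk_eq_iff P _ _).1 h
  exact Subtype.ext (P.inj s s.2 s' s'.2 h1)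

theorem closure_sg : Subgroup.closure (Set.range (sg P)) = ⊤ := by
  rw [eq_top_iff]
  intro w _
  induction w using QuotientGroup.induction_on with
  | H n =>
    obtain ⟨l, hl, he⟩ := exists_word n.2
    obtain ⟨ω, rfl⟩ := exists_lift P hl
    have h1 : wp (sg P) ω = QuotientGroup.mk n := by
      rw [wp_sg, mk_eq_iff]
      exact he
    rw [← h1]
    apply Subgroup.list_prod_mem
    intro x hx
    simp only [List.mem_map] at hx
    obtain ⟨s, _, rfl⟩ := hx
    exact Subgroup.subset_closure ⟨s, rfl⟩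

end

/-- The Weyl group `W = N / (B ⊓ N)` of a (B,N)-pair, with its distinguished involutions, is a Coxeter system. -/
theorem result {G : Type*} [Group G] (P : Cfsg.BNPair G)
    [hN : ((P.B ⊓ P.N).subgroupOf P.N).Normal] :
    ∃ (M : CoxeterMatrix P.S) (cs : CoxeterSystem M (P.N ⧸ (P.B ⊓ P.N).subgroupOf P.N)),
      ∀ s : P.S, cs.simple s = QuotientGroup.mk (⟨(s : G), P.subset s.2⟩ : P.N) := by
  exact exists_coxeterSystem (exch_sg P) (sg_injective P) (closure_sg P)

end Cfsg.Agent.S0320
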