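import Cfsg.Statements.S0297
import Cfsg.Agent.Lib.H11.OmegaAll
import Cfsg.Agent.S0288
import Cfsg.Agent.S0789
-- import your own Cfsg.Agent.* helpers here

set_option autoImplicit false
open Cfsg

namespace Cfsg.Agent.S0297



/-- PΩ^-_{2m}(q) is simple for m at least 4 (the form is quadFormMinus (m-1) with anisotropic binary part). -/
theorem result {F : Type*} [Field F] [Fintype F] (m : ℕ) (hm : 4 ≤ m) (a b : F) (hab : ∀ z₁ z₂ : F, z₁ ^ 2 + a * z₁ * z₂ + b * z₂ ^ 2 = 0 → z₁ = 0 ∧ z₂ = 0) : IsSimpleGroup (Cfsg.POmega F (Cfsg.quadFormMinus (m - 1) F a b)) := by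
  have hcard : Fintype.card ((Fin (m - 1) ⊕ Fin (m - 1)) ⊕ Fin 2) = (m - 1) + (m - 1) + 2 := by
    rw [Fintype.card_sum, Fintype.card_sum, Fintype.card_fin, Fintype.card_fin]
  have hnd := Cfsg.Agent.S0288.nondeg (F := F) a b hab (m - 1)
  have := Cfsg.Agent.Lib.H11.OmegaAll.simple_any (Cfsg.Agent.Lib.H13.minusQF F (m - 1) a b) hnd
    (by rw [hcard]; omega) (fun h2 => by
      have : CharP F 2 := CharTwo.of_one_ne_zero_of_two_eq_zero one_ne_zero h2
      exact Cfsg.Agent.S0789.result (by rw [hcard]; omega) _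
        (Cfsg.Agent.Lib.H11.IsoReindex.nondeg_trQF _ _ hnd) (Or.inr (by rw [hcard]; omega)))
  rw [Cfsg.Agent.S0288.coe_minusQF] at this
  exact this

end Cfsg.Agent.S0297
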