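import Cfsg.Statements.S0296
import Cfsg.Agent.Lib.H11.OmegaAll
import Cfsg.Agent.S0287
import Cfsg.Agent.S0789
-- import your own Cfsg.Agent.* helpers here

set_option autoImplicit false
open Cfsg

namespace Cfsg.Agent.S0296



/-- PΩ^+_{2m}(q) is simple for m at least 4. -/
theorem result {F : Type*} [Field F] [Fintype F] (m : ℕ) (hm : 4 ≤ m) : IsSimpleGroup (Cfsg.POmega F (Cfsg.quadFormPlus m F)) := by
  have hcard : Fintype.card (Fin m ⊕ Fin m) = m + m := by
    rw [Fintype.card_sum, Fintype.card_fin]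
  have hnd := Cfsg.Agent.S0287.nondeg (F := F) m
  have := Cfsg.Agent.Lib.H11.OmegaAll.simple_any (Cfsg.Agent.Lib.H13.plusQF F m) hnd
    (by rw [hcard]; omega) (fun h2 => by
      have : CharP F 2 := CharTwo.of_one_ne_zero_of_two_eq_zero one_ne_zero h2
      exact Cfsg.Agent.S0789.result (by rw [hcard]; omega) _
        (Cfsg.Agent.Lib.H11.IsoReindex.nondeg_trQF _ _ hnd) (Or.inr (by rw [hcard]; omega)))
  rw [Cfsg.Agent.S0287.coe_plusQF] at this
  exact this

end Cfsg.Agent.S0296
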