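import Cfsg.Statements.S0039
import Mathlib
import Cfsg.Agent.Lib.H1.Frobenius

set_option autoImplicit false
open Cfsg

namespace Cfsg.Agent.S0039

/-- In a finite group that is a semidirect product of a normal subgroup K by a nontrivial subgroup H, H is a Frobenius complement exactly when each nonidentity element of H acts without nonidentity fixed points on K by conjugation. -/
theorem result {G : Type*} [Group G] [Finite G] (K H : Subgroup G) [K.Normal]
    (hc : Subgroup.IsComplement' K H) (hK : K ≠ ⊥) (hH : H ≠ ⊥) :
    Cfsg.IsFrobeniusComplement H ↔ ∀ h ∈ H, h ≠ 1 → K ⊓ Subgroup.centralizer {h} = ⊥ := by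
  have hdisj : Disjoint K H := hc.disjoint
  constructor
  · intro hF h hh h1
    rw [eq_bot_iff]
    intro k hk
    rw [Subgroup.mem_inf] at hk
    obtain ⟨hkK, hkC⟩ := hk
    rw [Subgroup.mem_bot]
    have hcomm : k * h = h * k := by
      have := Subgroup.mem_centralizer_iff.mp hkC h (Set.mem_singleton h)
      exact this.symm
    have hkH : k ∈ H := by
      apply Lib.H1.frob_mem_of_conj_mem hF hh h1
      have : k * h * k⁻¹ = h := by rw [hcomm]; group
      rw [this]
      exact hh
    exact Subgroup.disjoint_def.mp hdisj hkK hkH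
  · intro hfpf
    refine ⟨hH, ?_, ?_⟩
    · intro htop
      apply hK
      rw [eq_bot_iff]
      intro k hk
      exact Subgroup.disjoint_def.mp hdisj hk (htop ▸ Subgroup.mem_top k)
    · intro g hg
      rw [eq_bot_iff]
      intro x hx
      rw [Subgroup.mem_inf] at hx
      obtain ⟨hxH, hxg⟩ := hx
      rw [Subgroup.mem_bot]
      by_contra hx1
      obtain ⟨k, hk, h, hh, rfl⟩ := Lib.H1.isComplement'_exists_mul hc g
      have hk1 : k ≠ 1 := by
        rintro rfl
        apply hg
        simpa using hh
      rw [Lib.H1.mem_conj_smul_iff] at hxg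
      -- `y = k⁻¹ x k ∈ H`
      set y := k⁻¹ * x * k with hy
      have hyH : y ∈ H := by
        have : y = h * ((k * h)⁻¹ * x * (k * h)) * h⁻¹ := by rw [hy]; group
        rw [this]
        exact H.mul_mem (H.mul_mem hh hxg) (H.inv_mem hh)
      have hxy : x * y⁻¹ ∈ K := by
        have : x * y⁻¹ = (x * k⁻¹ * x⁻¹) * k := by rw [hy]; group
        rw [this]
        exact K.mul_mem (Subgroup.Normal.conj_mem inferInstance _ (K.inv_mem hk) x) hk
      have hxy' : x * y⁻¹ ∈ H := H.mul_mem hxH (H.inv_mem hyH)
      have hxy1 : x * y⁻¹ = 1 := Subgroup.disjoint_def.mp hdisj hxy hxy'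
      have hxeq : x = y := by
        have := mul_inv_eq_one.mp hxy1
        exact this
      have hkC : k ∈ K ⊓ Subgroup.centralizer {x} := by
        rw [Subgroup.mem_inf]
        refine ⟨hk, ?_⟩
        rw [Subgroup.mem_centralizer_iff]
        intro z hz
        rw [Set.mem_singleton_iff] at hz
        rw [hz]
        have : k * y = x * k := by rw [hy]; group
        rw [← hxeq] at this
        exact this.symm
      rw [hfpf x hxH hx1, Subgroup.mem_bot] at hkC
      exact hk1 hkC

end Cfsg.Agent.S0039
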