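import Mathlib
import Cfsg.Statements.S0855
import Cfsg.Agent.Lib.H24.CharSchur
import Cfsg.Agent.Lib.H24.CharBasic
import Cfsg.Agent.Lib.H24.CharOrth
import Cfsg.Agent.Lib.H23.Ito
import Cfsg.Agent.Lib.H23.DegreeDvd
import Cfsg.Agent.Lib.H8.Clifford
import Cfsg.Agent.Lib.L0.CharLinear
import Cfsg.Agent.Lib.L0.CharBasic
import Cfsg.Agent.Lib.L0.CharOps
import Cfsg.Agent.Lib.L0.CharInd
import Cfsg.Agent.Lib.L0.CharIndChar
import Cfsg.Agent.Lib.H23.FullyRamified
import Cfsg.Agent.Lib.H24.ChiefFactor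

set_option autoImplicit false
open Cfsg

namespace Cfsg.Agent.S0855

open Cfsg.Agent.Lib.H24 Cfsg.Agent.Lib.L0 Cfsg.Agent.Lib.H23
open scoped commutatorElement

/-- A natural number quotient which is an algebraic integer is an integer. -/
theorem nat_dvd_of_isIntegral_div {a b : ℕ} (hb : b ≠ 0)
    (h : IsIntegral ℤ ((a : ℂ) / (b : ℂ))) : b ∣ a := by
  have hn : (b : ℚ) ≠ 0 := Nat.cast_ne_zero.mpr hb
  have h2 : IsIntegral ℤ ((a : ℚ) / (b : ℚ)) := by
    rw [← isIntegral_algebraMap_iff (algebraMap ℚ ℂ).injective]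
    simpa using h
  obtain ⟨y, hy⟩ := IsIntegrallyClosed.isIntegral_iff.mp h2
  have h3 : (a : ℚ) = (b : ℚ) * y := by
    rw [eq_div_iff hn] at hy
    simp only [algebraMap_int_eq, eq_intCast] at hy
    linarith
  have h4 : (a : ℤ) = (b : ℤ) * y := by exact_mod_cast h3
  exact Int.natCast_dvd_natCast.mp ⟨y, h4⟩

/-- If all irreducible degrees are powers of `p` and `G` is not abelian, then `p` divides
`|G : G'|`. -/
theorem prime_dvd_index_commutator {G : Type*} [Group G] [Finite G] (p : ℕ) (hp : p.Prime)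
    (hdeg : ∀ χ : IrrCharacter G, ∃ k : ℕ, (χ : G → ℂ) 1 = (p : ℂ) ^ k)
    (hne : commutator G ≠ ⊥) : p ∣ (commutator G).index := by
  classical
  have := Fintype.ofFinite G
  have := Fintype.ofFinite (IrrCharacter G)
  obtain ⟨g, hg1⟩ := (Subgroup.ne_bot_iff_exists_ne_one (H := commutator G)).mp hne
  have hg1' : (g : G) ≠ 1 := fun h => hg1 (Subtype.ext h)
  have hsum := sum_irr_one_mul (g : G)
  rw [if_neg hg1'] at hsum
  choose k hk using hdeg
  have hpC : (p : ℂ) ≠ 0 := Nat.cast_ne_zero.mpr hp.ne_zero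
  -- linear characters are trivial on g
  have hlin : ∀ χ : IrrCharacter G, (χ : G → ℂ) 1 = 1 → (χ : G → ℂ) (g : G) = 1 := by
    intro χ h1
    have hker : (g : G) ∈ (linearCharHom (isCharacter_of_irr χ.2) h1).ker :=
      Abelianization.commutator_subset_ker _ g.2
    have h2 := MonoidHom.mem_ker.mp hker
    have h3 := linearCharHom_apply (isCharacter_of_irr χ.2) h1 (g : G)
    rw [h2] at h3
    simpa using h3.symm
  have hk0 : ∀ χ : IrrCharacter G, k χ = 0 ↔ (χ : G → ℂ) 1 = 1 := by
    intro χ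
    constructor
    · intro h; rw [hk χ, h, pow_zero]
    · intro h
      by_contra hne0
      have h2 := hk χ
      rw [h] at h2
      have h3 : ((1 : ℕ) : ℂ) = ((p ^ k χ : ℕ) : ℂ) := by push_cast; exact h2
      have h4 : 1 = p ^ k χ := by exact_mod_cast h3
      have h5 : p ∣ p ^ k χ := dvd_pow_self p hne0
      rw [← h4] at h5
      exact hp.one_lt.ne' (Nat.dvd_one.mp h5)
  -- split the sum
  have hsplit : ∑ χ : IrrCharacter G, (χ : G → ℂ) 1 * (χ : G → ℂ) (g : G) =
      ((commutator G).index : ℂ) + (p : ℂ) *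
        ∑ χ ∈ Finset.univ.filter (fun χ : IrrCharacter G => k χ ≠ 0),
          (p : ℂ) ^ (k χ - 1) * (χ : G → ℂ) (g : G) := by
    rw [← Finset.sum_filter_add_sum_filter_not Finset.univ (fun χ : IrrCharacter G => k χ = 0)]
    congr 1
    · have h1 : ∀ χ ∈ Finset.univ.filter (fun χ : IrrCharacter G => k χ = 0),
          (χ : G → ℂ) 1 * (χ : G → ℂ) (g : G) = 1 := by
        intro χ hχ
        rw [Finset.mem_filter] at hχ
        have h2 := (hk0 χ).mp hχ.2
        rw [h2, hlin χ h2, mul_one]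
      rw [Finset.sum_congr rfl h1, Finset.sum_const, nsmul_eq_mul, mul_one]
      congr 1
      rw [← card_linear_irr (G := G), Nat.card_eq_fintype_card, Fintype.card_subtype]
      congr 1
      ext χ
      simp only [Finset.mem_filter, Finset.mem_univ, true_and]
      exact hk0 χ
    · rw [Finset.mul_sum]
      refine Finset.sum_congr rfl fun χ hχ => ?_
      rw [Finset.mem_filter] at hχ
      rw [hk χ, ← mul_assoc, ← pow_succ', Nat.sub_add_cancel (Nat.one_le_iff_ne_zero.mpr hχ.2)]
  rw [hsplit] at hsum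
  have hint : IsIntegral ℤ (∑ χ ∈ Finset.univ.filter (fun χ : IrrCharacter G => k χ ≠ 0),
      (p : ℂ) ^ (k χ - 1) * (χ : G → ℂ) (g : G)) := by
    apply IsIntegral.sum
    intro χ _
    apply IsIntegral.mul
    · apply IsIntegral.pow
      have h := isIntegral_algebraMap (R := ℤ) (A := ℂ) (x := (p : ℤ))
      simpa using h
    · exact isCharacter_isIntegral (isCharacter_of_irr χ.2) _
  apply nat_dvd_of_isIntegral_div hp.ne_zero
  have heq : ((commutator G).index : ℂ) / (p : ℂ) =
      -∑ χ ∈ Finset.univ.filter (fun χ : IrrCharacter G => k χ ≠ 0),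
        (p : ℂ) ^ (k χ - 1) * (χ : G → ℂ) (g : G) := by
    rw [div_eq_iff hpC]
    linear_combination hsum
  rw [heq]
  exact hint.neg

/-- Every irreducible character of a subgroup lies under some irreducible character. -/
theorem exists_irr_over {G : Type*} [Group G] [Fintype G] (N : Subgroup G) [Fintype N]
    (ψ : N → ℂ) (hψ : IsIrrCharacter N ψ) :
    ∃ χ : G → ℂ, IsIrrCharacter G χ ∧ classInner (fun n : N => χ n) ψ ≠ 0 := by
  have hind : IsCharacter G (indFun N ψ) := isCharacter_indFun N (isCharacter_of_irr hψ)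
  have h1 : indFun N ψ 1 ≠ 0 := by
    rw [indFun_one']
    apply mul_ne_zero
    · exact Nat.cast_ne_zero.mpr (Subgroup.index_ne_zero_of_finite)
    · exact irr_one_ne_zero ⟨ψ, hψ⟩
  obtain ⟨χ, hχ, hc⟩ := exists_irr_constituent hind h1
  refine ⟨χ, hχ, ?_⟩
  rw [frobenius_reciprocity N ψ χ (isClassFunction_of_isCharacter (isCharacter_of_irr hχ))] at hc
  intro h0
  apply hc
  rw [← classInner_conj_symm, h0, map_zero]

/-- The degree of an irreducible character of a normal subgroup divides the degree of any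
irreducible character above it. -/
theorem degree_dvd_of_over {G : Type*} [Group G] [Fintype G] (N : Subgroup G) [hN : N.Normal]
    [Fintype N] (χ : G → ℂ) (hχ : IsIrrCharacter G χ) (ψ : N → ℂ) (hψ : IsIrrCharacter N ψ)
    (hc : classInner (fun n : N => χ n) ψ ≠ 0) (a b : ℕ) (ha : χ 1 = a) (hb : ψ 1 = b) :
    b ∣ a := by
  classical
  obtain ⟨F, hF, -, hsum⟩ := clifford_finset N χ hχ ψ hψ hc
  obtain ⟨c, hcn⟩ := classInner_char_irr_nat (isCharacter_restrict N (isCharacter_of_irr hχ)) hψ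
  have h1 := congrFun hsum 1
  simp only [Pi.smul_apply, Finset.sum_apply, smul_eq_mul] at h1
  have h2 : ∀ φ ∈ F, φ 1 = (b : ℂ) := by
    intro φ hφ
    obtain ⟨k, rfl⟩ := hF φ hφ
    rw [conjChar_apply, ← hb]
    congr 1
    apply Subtype.ext
    show k * ((1 : N) : G) * k⁻¹ = ((1 : N) : G)
    simp
  rw [Finset.sum_congr rfl h2, Finset.sum_const, nsmul_eq_mul, hcn] at h1
  have h3 : χ ((1 : N) : G) = χ 1 := rfl
  rw [h3, ha] at h1
  have h4 : a = c * (F.card * b) := by exact_mod_cast h1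
  exact ⟨c * F.card, by rw [h4]; ring⟩

/-- The hypothesis "all degrees are powers of `p`" passes to normal subgroups. -/
theorem degrees_pow_of_normal {G : Type*} [Group G] [Finite G] (p : ℕ) (hp : p.Prime)
    (hdeg : ∀ χ : IrrCharacter G, ∃ k : ℕ, (χ : G → ℂ) 1 = (p : ℂ) ^ k)
    (N : Subgroup G) [hN : N.Normal] :
    ∀ ψ : IrrCharacter N, ∃ k : ℕ, (ψ : N → ℂ) 1 = (p : ℂ) ^ k := by
  classical
  have := Fintype.ofFinite G
  have := Fintype.ofFinite N
  intro ψ
  obtain ⟨χ, hχ, hc⟩ := exists_irr_over N ψ.1 ψ.2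
  obtain ⟨k, hk⟩ := hdeg ⟨χ, hχ⟩
  obtain ⟨b, -, hb⟩ := irr_one_eq ψ
  have ha : χ 1 = ((p ^ k : ℕ) : ℂ) := by push_cast; exact hk
  have hdvd := degree_dvd_of_over N χ hχ ψ.1 ψ.2 hc (p ^ k) b ha hb
  obtain ⟨j, -, hj⟩ := (Nat.dvd_prime_pow hp).mp hdvd
  refine ⟨j, ?_⟩
  rw [hb, hj]
  push_cast
  rfl

/-- An element of order prime to `p` lies in every normal subgroup of `p`-power index. -/
theorem mem_of_coprime_of_index_pow {N : Type*} [Group N] (A : Subgroup N) [A.Normal] (p k : ℕ)
    (hp0 : p ≠ 0) (hidx : A.index = p ^ k) (x : N) (hx : (orderOf x).Coprime p) : x ∈ A := by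
  rw [← QuotientGroup.eq_one_iff]
  have h1 : ((x : N ⧸ A)) ^ orderOf x = 1 := by
    rw [← QuotientGroup.mk_pow, pow_orderOf_eq_one, QuotientGroup.mk_one]
  have hfin : Finite (N ⧸ A) := by
    apply Nat.finite_of_card_ne_zero
    rw [← Subgroup.index_eq_card, hidx]
    exact pow_ne_zero _ hp0
  have h2 : ((x : N ⧸ A)) ^ (p ^ k) = 1 := by
    rw [← hidx, Subgroup.index_eq_card]
    exact pow_card_eq_one'
  have h3 : orderOf (x : N ⧸ A) ∣ Nat.gcd (orderOf x) (p ^ k) :=
    Nat.dvd_gcd (orderOf_dvd_of_pow_eq_one h1) (orderOf_dvd_of_pow_eq_one h2)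
  rw [Nat.Coprime.pow_right k hx] at h3
  exact orderOf_eq_one_iff.mp (Nat.dvd_one.mp h3)

theorem exists_complement_aux (p : ℕ) (hp : p.Prime) :
    ∀ (n : ℕ) (G : Type*) [Group G] [Finite G], Nat.card G = n →
      (∀ χ : IrrCharacter G, ∃ k : ℕ, (χ : G → ℂ) 1 = (p : ℂ) ^ k) →
      ∃ A : Subgroup G, A.Normal ∧ (∀ a ∈ A, ∀ b ∈ A, a * b = b * a) ∧
        Nat.Coprime (Nat.card A) p ∧ ∃ k : ℕ, A.index = p ^ k := by
  intro n
  induction n using Nat.strong_induction_on with
  | _ n ih =>
  intro G _ _ hcard hdeg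
  classical
  have hpF : Fact p.Prime := ⟨hp⟩
  have : Finite (Abelianization G) := inferInstanceAs (Finite (G ⧸ commutator G))
  set q := Nat.card (Abelianization G) with hq
  have hqpos : 0 < q := Nat.card_pos
  set m := q / p ^ q.factorization p with hm
  have hmcop : m.Coprime p := (Nat.coprime_ordCompl hp hqpos.ne').symm
  have hqm : p ^ q.factorization p * m = q := Nat.ordProj_mul_ordCompl_eq_self q p
  let f : G →* Abelianization G := (powMonoidHom m).comp Abelianization.of
  have hf : ∀ x : G, f x = (Abelianization.of x) ^ m := fun x => rfl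
  -- the range of f is a p-group
  have hrange : IsPGroup p f.range := by
    intro y
    refine ⟨q.factorization p, ?_⟩
    obtain ⟨y, x, rfl⟩ := y
    apply Subtype.ext
    show (f x) ^ (p ^ q.factorization p) = 1
    rw [hf, ← pow_mul, mul_comm, hqm, hq]
    exact pow_card_eq_one'
  obtain ⟨j, hj⟩ := IsPGroup.iff_card.mp hrange
  have hidx : f.ker.index = p ^ j := by rw [Subgroup.index_ker, hj]
  by_cases htop : f.ker = ⊤
  · -- G/G' is a p'-group, hence G abelian and a p'-group
    have hall : ∀ y : Abelianization G, y ^ m = 1 := by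
      intro y
      obtain ⟨x, rfl⟩ := QuotientGroup.mk_surjective y
      have : x ∈ f.ker := by rw [htop]; trivial
      exact MonoidHom.mem_ker.mp this
    have hnd : ¬ p ∣ q := by
      intro hpq
      obtain ⟨y, hy⟩ := exists_prime_orderOf_dvd_card' p hpq
      have h1 : orderOf y ∣ m := orderOf_dvd_of_pow_eq_one (hall y)
      rw [hy] at h1
      exact (Nat.Prime.coprime_iff_not_dvd hp).mp hmcop.symm h1
    have hidxq : (commutator G).index = q := by
      rw [hq, Subgroup.index_eq_card]; rfl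
    have hbot : commutator G = ⊥ := by
      by_contra hne
      exact hnd (hidxq ▸ prime_dvd_index_commutator p hp hdeg hne)
    refine ⟨⊤, inferInstance, ?_, ?_, 0, by simp⟩
    · intro a _ b _
      have h1 : ⁅a, b⁆ ∈ commutator G := Subgroup.commutator_mem_commutator (Subgroup.mem_top a) (Subgroup.mem_top b)
      rw [hbot, Subgroup.mem_bot, commutatorElement_eq_one_iff_mul_comm] at h1
      exact h1
    · rw [Subgroup.card_top]
      have h2 : Nat.card G = q := by
        rw [← hidxq, hbot, Subgroup.index_bot]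
      rw [h2]
      exact (Nat.Prime.coprime_iff_not_dvd hp).mpr hnd |>.symm
  · -- proper normal subgroup of p-power index
    set N := f.ker with hN
    have hNn : N.Normal := MonoidHom.normal_ker f
    have hlt : Nat.card N < n := by
      rw [← hcard]
      have h1 := Subgroup.card_mul_index N
      have h2 : N.index ≠ 1 := fun h => htop (Subgroup.index_eq_one.mp h)
      have h3 : 0 < N.index := Nat.pos_of_ne_zero Subgroup.index_ne_zero_of_finite
      have h4 : 2 ≤ N.index := by omega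
      have h5 : 0 < Nat.card N := Nat.card_pos
      nlinarith
    obtain ⟨A', hA'n, hA'c, hA'cop, k, hA'k⟩ :=
      ih (Nat.card N) hlt N rfl (degrees_pow_of_normal p hp hdeg N)
    refine ⟨A'.map N.subtype, ?_, ?_, ?_, k + j, ?_⟩
    · -- normality
      constructor
      intro a ha g
      obtain ⟨a', ha', rfl⟩ := ha
      have hmem : g * (a' : G) * g⁻¹ ∈ N := hNn.conj_mem _ a'.2 g
      refine ⟨⟨g * (a' : G) * g⁻¹, hmem⟩, ?_, rfl⟩
      apply mem_of_coprime_of_index_pow A' p k hp.ne_zero hA'k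
      have h1 : orderOf (⟨g * (a' : G) * g⁻¹, hmem⟩ : N) = orderOf a' := by
        rw [← Subgroup.orderOf_coe, ← Subgroup.orderOf_coe]
        symm
        apply SemiconjBy.orderOf_eq g
        show g * (a' : G) = g * (a' : G) * g⁻¹ * g
        group
      rw [h1]
      have h2 : orderOf a' ∣ Nat.card A' := by
        have := Subgroup.orderOf_dvd_natCard A' ha'
        exact this
      exact Nat.Coprime.coprime_dvd_left h2 hA'cop
    · rintro a ⟨a', ha', rfl⟩ b ⟨b', hb', rfl⟩
      have := hA'c a' ha' b' hb'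
      exact congrArg Subtype.val this
    · rw [Subgroup.card_map_of_injective N.subtype_injective]
      exact hA'cop
    · have h1 : (A'.map N.subtype).index = A'.index * N.index := by
        rw [Subgroup.index_map_subtype]
      rw [h1, hA'k, hidx, pow_add]

theorem result {G : Type*} [Group G] [Finite G] (p : ℕ) (hp : p.Prime) : (∀ χ : Cfsg.IrrCharacter G, ∃ k : ℕ, (χ : G → ℂ) 1 = (p : ℂ) ^ k) ↔ ∃ A : Subgroup G, A.Normal ∧ (∀ a ∈ A, ∀ b ∈ A, a * b = b * a) ∧ Nat.Coprime (Nat.card A) p ∧ ∃ k : ℕ, A.index = p ^ k := by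
  constructor
  · intro hdeg
    exact exists_complement_aux p hp (Nat.card G) G rfl hdeg
  · rintro ⟨A, hAn, hAc, -, k, hk⟩ χ
    classical
    have := Fintype.ofFinite G
    obtain ⟨d, hd, hdvd⟩ := ito_char A hAc χ.2
    rw [hk] at hdvd
    obtain ⟨j, -, hj⟩ := (Nat.dvd_prime_pow hp).mp hdvd
    refine ⟨j, ?_⟩
    rw [hd, hj]
    push_cast
    rfl

end Cfsg.Agent.S0855
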