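import Cfsg.Statements.S0856
import Cfsg.Agent.Lib.H24.CharGallagher

set_option autoImplicit false
open Cfsg

namespace Cfsg.Agent.S0856

open Cfsg.Agent.Lib.H24 Cfsg.Agent.Lib.L0

/-- Let N be a normal subgroup of the finite group G and φ, ϑ irreducible characters of N that are invariant under conjugation by G, such that the pointwise product φ * ϑ is irreducible and ϑ is the restriction of an irreducible character χ of G. Then multiplication by χ is a bijection from the set of irreducible characters of G having nonzero inner product with the function induced from φ onto the set of those having nonzero inner product with the function induced from φ * ϑ. -/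
theorem result {G : Type*} [Group G] [Fintype G] (N : Subgroup G) [hN : N.Normal] (φ ϑ : N → ℂ) (hφ : Cfsg.IsIrrCharacter N φ) (hϑ : Cfsg.IsIrrCharacter N ϑ) (hφinv : ∀ (g : G) (n : N), φ ⟨g * n * g⁻¹, hN.conj_mem (n : G) n.2 g⟩ = φ n) (hϑinv : ∀ (g : G) (n : N), ϑ ⟨g * n * g⁻¹, hN.conj_mem (n : G) n.2 g⟩ = ϑ n) (hprod : Cfsg.IsIrrCharacter N (φ * ϑ)) (χ : G → ℂ) (hχ : Cfsg.IsIrrCharacter G χ) (hext : ∀ n : N, χ n = ϑ n) : Set.BijOn (fun β : G → ℂ => β * χ) {β : G → ℂ | Cfsg.IsIrrCharacter G β ∧ Cfsg.classInner (Cfsg.indFun N φ) β ≠ 0} {ψ : G → ℂ | Cfsg.IsIrrCharacter G ψ ∧ Cfsg.classInner (Cfsg.indFun N (φ * ϑ)) ψ ≠ 0} := by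
  classical
  have := Fintype.ofFinite N
  have := Fintype.ofFinite (IrrCharacter G)
  have hχc := isCharacter_of_irr hχ
  have hφchar : IsCharacter G (indFun N φ) := isCharacter_indFun N (isCharacter_of_irr hφ)
  have hϑeq : ϑ = fun n : N => χ n := funext (fun n => (hext n).symm)
  have hkey := gallagher_orthonormal N φ ϑ hφ hφinv hϑinv hprod χ hχ hext
  -- multiplicities
  have he : ∀ β : IrrCharacter G, ∃ e : ℕ, classInner (indFun N φ) (β : G → ℂ) = e :=
    fun β => classInner_char_irr_nat hφchar β.2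
  choose e he using he
  have hexp : indFun N φ = ∑ β : IrrCharacter G, (e β : ℂ) • (β : G → ℂ) := by
    have h1 := classFunction_expansion (indFun N φ) (indFun_isClassFunction N φ)
    simp only [he] at h1
    exact h1
  have hexp2 : indFun N (φ * ϑ) = ∑ β : IrrCharacter G, (e β : ℂ) • ((β : G → ℂ) * χ) := by
    rw [hϑeq, indFun_mul_restrict N φ χ (isClassFunction_of_isCharacter hχc)]
    conv_lhs => rw [hexp]
    rw [Finset.sum_mul]
    refine Finset.sum_congr rfl fun β _ => ?_
    rw [smul_mul_assoc]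
  have hinner : ∀ β : IrrCharacter G, e β ≠ 0 →
      classInner (indFun N (φ * ϑ)) ((β : G → ℂ) * χ) = e β := by
    intro β hβ
    have hβ' : classInner (indFun N φ) (β : G → ℂ) ≠ 0 := by
      rw [he]; exact_mod_cast hβ
    rw [hexp2, classInner_sum_left]
    rw [Finset.sum_eq_single β]
    · rw [classInner_smul_left, hkey β β hβ' hβ', if_pos rfl, mul_one]
    · intro b _ hb
      by_cases hb0 : e b = 0
      · rw [hb0]; simp [classInner_zero_left]
      · have hb' : classInner (indFun N φ) (b : G → ℂ) ≠ 0 := by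
          rw [he]; exact_mod_cast hb0
        rw [classInner_smul_left, hkey b β hb' hβ', if_neg hb, mul_zero]
    · intro h; exact absurd (Finset.mem_univ β) h
  refine ⟨?_, ?_, ?_⟩
  · -- maps to
    rintro β ⟨hβirr, hβ⟩
    have hβ0 : e ⟨β, hβirr⟩ ≠ 0 := by
      intro h0; apply hβ
      have := he ⟨β, hβirr⟩
      rw [h0] at this; simpa using this
    refine ⟨?_, ?_⟩
    · apply isIrrCharacter_of_classInner_self_eq_one (isCharacter_mul (isCharacter_of_irr hβirr) hχc)
      have := hkey ⟨β, hβirr⟩ ⟨β, hβirr⟩ hβ hβ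
      rw [if_pos rfl] at this
      exact this
    · have := hinner ⟨β, hβirr⟩ hβ0
      show classInner (indFun N (φ * ϑ)) (β * χ) ≠ 0
      rw [this]
      exact_mod_cast hβ0
  · -- injective
    rintro β ⟨hβirr, hβ⟩ β' ⟨hβ'irr, hβ'⟩ heq
    by_contra hne
    have h1 := hkey ⟨β, hβirr⟩ ⟨β', hβ'irr⟩ hβ hβ'
    have h2 := hkey ⟨β, hβirr⟩ ⟨β, hβirr⟩ hβ hβ
    rw [if_pos rfl] at h2
    rw [if_neg (fun h => hne (congrArg Subtype.val h))] at h1
    simp only at heq h1 h2
    rw [← heq, h2] at h1
    exact one_ne_zero h1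
  · -- surjective
    rintro ψ ⟨hψirr, hψ⟩
    rw [hexp2, classInner_sum_left] at hψ
    obtain ⟨β, _, hβne⟩ := Finset.exists_ne_zero_of_sum_ne_zero hψ
    rw [classInner_smul_left] at hβne
    have hβ0 : e β ≠ 0 := by
      intro h0; apply hβne; rw [h0]; simp
    have hβ' : classInner (indFun N φ) (β : G → ℂ) ≠ 0 := by
      rw [he]; exact_mod_cast hβ0
    have hirr : IsIrrCharacter G ((β : G → ℂ) * χ) := by
      apply isIrrCharacter_of_classInner_self_eq_one (isCharacter_mul (isCharacter_of_irr β.2) hχc)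
      have := hkey β β hβ' hβ'
      rw [if_pos rfl] at this
      exact this
    have hinn : classInner ((β : G → ℂ) * χ) ψ ≠ 0 := right_ne_zero_of_mul hβne
    have heq : (β : G → ℂ) * χ = ψ := by
      by_contra hne
      exact hinn (irr_classInner_ne hirr hψirr hne)
    exact ⟨β, ⟨β.2, hβ'⟩, heq⟩

end Cfsg.Agent.S0856
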