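import Cfsg.Statements.S0868
import Cfsg.Agent.S0856
import Cfsg.Agent.Lib.H24.CharGallagher
import Cfsg.Agent.Lib.H24.CharKernel
import Cfsg.Agent.Lib.H24.CharDefl

set_option autoImplicit false
open scoped ComplexConjugate
open Cfsg

namespace Cfsg.Agent.S0868

open Cfsg.Agent.Lib.H24 Cfsg.Agent.Lib.L0

/-- Averaging an irreducible character over a coset of a normal subgroup. -/
theorem avg_irr {G : Type*} [Group G] [Fintype G] (N : Subgroup G) [N.Normal] [Fintype N]
    (β : IrrCharacter G) (g : G) [Decidable (∀ x ∈ N, (β : G → ℂ) x = (β : G → ℂ) 1)] :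
    (Nat.card N : ℂ)⁻¹ * ∑ n : N, (β : G → ℂ) ((n : G) * g) =
      if (∀ x ∈ N, (β : G → ℂ) x = (β : G → ℂ) 1) then (β : G → ℂ) g else 0 := by
  have hNpos : (Nat.card N : ℂ) ≠ 0 := by exact_mod_cast (Nat.card_pos (α := N)).ne'
  split_ifs with h
  · obtain ⟨ψ, hψ⟩ := exists_deflation β N h
    have : ∀ n : N, (β : G → ℂ) ((n : G) * g) = (β : G → ℂ) g := by
      intro n
      rw [← hψ, ← hψ]
      congr 1
      rw [QuotientGroup.mk_mul, (QuotientGroup.eq_one_iff (n : G)).mpr n.2, one_mul]
    simp only [this, Finset.sum_const, Finset.card_univ, nsmul_eq_mul]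
    rw [← Nat.card_eq_fintype_card]
    field_simp
  · push_neg at h
    obtain ⟨x, hx, hne⟩ := h
    have h1 := irr_sum_normal_mul_eq_zero β N ⟨x, hx, hne⟩ g
    have h2 : ∑ n : N, (β : G → ℂ) ((n : G) * g) = ∑ n : N, (β : G → ℂ) (g * n) := by
      refine Finset.sum_congr rfl fun n _ => ?_
      have := irr_conj β ((n : G) * g) g
      rw [← this]; congr 1; group
    rw [h2, h1, mul_zero]

/-- Let N be a normal subgroup of the finite group G, χ an irreducible character of G whose restriction ϑ to N is irreducible, and ψ an irreducible character of G. Define η on G by η g = (1 / order of N) * Σ over n in N of ψ (n * g) * conj (χ (n * g)). Then: if the restriction of ψ to N has nonzero inner product with ϑ, η is an irreducible character of G; if that inner product is zero, η vanishes identically; and if ψ = χ then η is identically 1. -/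
theorem result {G : Type*} [Group G] [Fintype G] (N : Subgroup G) [N.Normal] [Fintype N] (χ : G → ℂ) (hχ : Cfsg.IsIrrCharacter G χ) (hχN : Cfsg.IsIrrCharacter N (fun n : N => χ n)) (ψ : G → ℂ) (hψ : Cfsg.IsIrrCharacter G ψ) (η : G → ℂ) (hη : η = fun g => (Nat.card N : ℂ)⁻¹ * ∑ n : N, ψ ((n : G) * g) * conj (χ ((n : G) * g))) : (Cfsg.classInner (fun n : N => ψ n) (fun n : N => χ n) ≠ 0 → Cfsg.IsIrrCharacter G η) ∧ (Cfsg.classInner (fun n : N => ψ n) (fun n : N => χ n) = 0 → η = 0) ∧ (ψ = χ → η = fun _ => 1) := by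
  classical
  have := Fintype.ofFinite (IrrCharacter G)
  have hχc := isCharacter_of_irr hχ
  have hψc := isCharacter_of_irr hψ
  have hNpos : (Nat.card N : ℂ) ≠ 0 := by exact_mod_cast (Nat.card_pos (α := N)).ne'
  set ϑ : N → ℂ := fun n : N => χ n with hϑ
  let B : Finset (IrrCharacter G) :=
    Finset.univ.filter (fun β => ∀ x ∈ N, (β : G → ℂ) x = (β : G → ℂ) 1)
  have hFcf : IsClassFunction G (fun g => ψ g * conj (χ g)) := by
    intro g h
    simp only
    rw [isClassFunction_of_isCharacter hψc g h, isClassFunction_of_isCharacter hχc g h]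
  have hFexp := classFunction_expansion _ hFcf
  have hηform : ∀ g, η g = ∑ β ∈ B, classInner ψ ((β : G → ℂ) * χ) * (β : G → ℂ) g := by
    intro g
    rw [hη]
    simp only
    have h1 : ∀ n : N, ψ ((n : G) * g) * conj (χ ((n : G) * g)) =
        ∑ β : IrrCharacter G, classInner (fun g => ψ g * conj (χ g)) (β : G → ℂ) *
          (β : G → ℂ) ((n : G) * g) := by
      intro n
      have := congrFun hFexp ((n : G) * g)
      simp only [Finset.sum_apply, Pi.smul_apply, smul_eq_mul] at this
      exact this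
    simp only [h1]
    rw [Finset.sum_comm, Finset.mul_sum, Finset.sum_filter]
    refine Finset.sum_congr rfl fun β _ => ?_
    rw [← Finset.mul_sum, mul_left_comm, avg_irr N β g]
    split_ifs with hβ
    · congr 1
      unfold classInner
      congr 1
      refine Finset.sum_congr rfl fun x _ => ?_
      simp only [Pi.mul_apply, map_mul]
      ring
    · rw [mul_zero]
  have hone : IsIrrCharacter N (1 : N → ℂ) := Cfsg.Agent.Lib.L0.isIrrCharacter_one
  have hBmem : ∀ β : IrrCharacter G,
      β ∈ B ↔ classInner (indFun N (1 : N → ℂ)) (β : G → ℂ) ≠ 0 := by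
    intro β
    rw [frobenius_reciprocity N (1 : N → ℂ) _ (irr_isClassFunction β)]
    have h1 : classInner (1 : N → ℂ) (fun h : N => (β : G → ℂ) h) =
        conj ((Nat.card N : ℂ)⁻¹ * ∑ n : N, (β : G → ℂ) ((n : G) * 1)) := by
      unfold classInner
      simp only [Pi.one_apply, one_mul, mul_one, map_mul, map_sum, map_inv₀, Complex.conj_natCast]
    rw [h1, avg_irr N β 1]
    simp only [B, Finset.mem_filter, Finset.mem_univ, true_and]
    split_ifs with h
    · constructor
      · intro _
        simpa using irr_one_ne_zero β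
      · intro _; exact h
    · simp only [map_zero, ne_eq, not_true_eq_false, iff_false]
      exact h
  have hinv1 : ∀ (g : G) (n : N),
      (1 : N → ℂ) ⟨g * n * g⁻¹, ‹N.Normal›.conj_mem (n : G) n.2 g⟩ = (1 : N → ℂ) n :=
    fun _ _ => rfl
  have hϑinv : ∀ (g : G) (n : N),
      ϑ ⟨g * n * g⁻¹, ‹N.Normal›.conj_mem (n : G) n.2 g⟩ = ϑ n :=
    fun g n => isClassFunction_of_isCharacter hχc n g
  have hprod : IsIrrCharacter N ((1 : N → ℂ) * ϑ) := by rw [one_mul]; exact hχN
  have hkey := gallagher_orthonormal N 1 ϑ hone hinv1 hϑinv hprod χ hχ (fun n => rfl)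
  have hcase : ∀ β₀ : IrrCharacter G, β₀ ∈ B → ψ = (β₀ : G → ℂ) * χ → η = (β₀ : G → ℂ) := by
    intro β₀ hβ₀ hψeq
    funext g
    rw [hηform g, Finset.sum_eq_single β₀]
    · rw [hψeq, hkey β₀ β₀ ((hBmem β₀).mp hβ₀) ((hBmem β₀).mp hβ₀), if_pos rfl, one_mul]
    · intro b hb hne
      rw [hψeq, hkey β₀ b ((hBmem β₀).mp hβ₀) ((hBmem b).mp hb), if_neg (Ne.symm hne), zero_mul]
    · intro h; exact absurd hβ₀ h
  refine ⟨?_, ?_, ?_⟩
  · intro hne
    have hbij := Cfsg.Agent.S0856.result N 1 ϑ hone hχN hinv1 hϑinv hprod χ hχ (fun n => rfl)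
    have hmem : ψ ∈ {ψ : G → ℂ | IsIrrCharacter G ψ ∧
        classInner (indFun N ((1 : N → ℂ) * ϑ)) ψ ≠ 0} := by
      refine ⟨hψ, ?_⟩
      rw [one_mul, frobenius_reciprocity N ϑ _ (isClassFunction_of_isCharacter hψc),
        ← classInner_conj_symm]
      intro h0
      apply hne
      have := congrArg conj h0
      simpa using this
    obtain ⟨β, ⟨hβirr, hβne⟩, hβψ⟩ := hbij.surjOn hmem
    have hβB : (⟨β, hβirr⟩ : IrrCharacter G) ∈ B := (hBmem ⟨β, hβirr⟩).mpr hβne
    have := hcase ⟨β, hβirr⟩ hβB hβψ.symm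
    rw [this]
    exact hβirr
  · intro h0
    funext g
    rw [hηform g]
    apply Finset.sum_eq_zero
    intro β hβ
    have hβ' := (hBmem β).mp hβ
    have hβN : ∀ x ∈ N, (β : G → ℂ) x = (β : G → ℂ) 1 := by
      simpa [B] using hβ
    have hinn : classInner ψ ((β : G → ℂ) * χ) = 0 := by
      by_contra hne
      have hirr : IsIrrCharacter G ((β : G → ℂ) * χ) := by
        apply isIrrCharacter_of_classInner_self_eq_one
          (isCharacter_mul (isCharacter_of_irr β.2) hχc)
        have := hkey β β hβ' hβ'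
        rw [if_pos rfl] at this
        exact this
      have heq : ψ = (β : G → ℂ) * χ := by
        by_contra hne2
        exact hne (irr_classInner_ne hψ hirr hne2)
      apply irr_one_ne_zero β
      have h1 : (fun n : N => ψ n) = ((β : G → ℂ) 1) • ϑ := by
        funext n
        rw [heq]
        simp only [Pi.mul_apply, Pi.smul_apply, smul_eq_mul, hϑ]
        rw [hβN n n.2]
      rw [h1, classInner_smul_left, irr_classInner_self hχN, mul_one] at h0
      exact h0
    rw [hinn, zero_mul]
  · intro hψχ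
    have h1 : trivialIrr G ∈ B := by
      simp [B, trivialIrr]
    have h2 : ψ = (trivialIrr G : G → ℂ) * χ := by
      rw [hψχ]
      funext g
      simp [trivialIrr]
    rw [hcase (trivialIrr G) h1 h2]
    rfl

end Cfsg.Agent.S0868
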