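import Cfsg.Statements.S4455
import Mathlib
import Cfsg.Agent.Lib.H24.PResidualChar

set_option autoImplicit false
open Cfsg

namespace Cfsg.Agent.S4455

/-- Fix a prime p and a finite group G. Let s be the sum of χ(1)² over the irreducible characters χ of G whose degree is not divisible by p and whose determinantal order o(χ) is not divisible by p. Then the order of O^p(G), the subgroup generated by the elements of order prime to p, is congruent to s modulo p. -/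
theorem result {G : Type*} [Group G] [Finite G] (p : ℕ) (hp : p.Prime) : (Nat.card (Cfsg.pResidual p G) : ℤ) ≡ (∑ᶠ χ ∈ {χ : Cfsg.IrrCharacter G | ¬ p ∣ Cfsg.charDegree (χ : G → ℂ) ∧ ¬ p ∣ Cfsg.detOrder (χ : G → ℂ)}, (Cfsg.charDegree (χ : G → ℂ) : ℤ) ^ 2) [ZMOD p] := by
  classical
  haveI hpF : Fact p.Prime := ⟨hp⟩
  have := Fintype.ofFinite G
  haveI hKn : (Cfsg.pResidual p G).Normal := Cfsg.Agent.Lib.H6.pResidual_normal p
  obtain ⟨j, hj⟩ : ∃ j, (Cfsg.pResidual p G).index = p ^ j :=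
    Cfsg.Agent.Lib.H6.index_pResidual p
  have hKtop : Cfsg.pResidual p (Cfsg.pResidual p G) = ⊤ :=
    Cfsg.Agent.Lib.L0.pResidual_pResidual_eq_top p
  generalize Cfsg.pResidual p G = K at hKn hj hKtop ⊢
  have := Fintype.ofFinite K
  have := Fintype.ofFinite (IrrCharacter G)
  have := Fintype.ofFinite (IrrCharacter K)
  have hA := Cfsg.Agent.Lib.H24.card_modEq_sum_invariant K p hp j hj
  have hfs : (∑ᶠ χ ∈ {χ : Cfsg.IrrCharacter G | ¬ p ∣ Cfsg.charDegree (χ : G → ℂ) ∧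
      ¬ p ∣ Cfsg.detOrder (χ : G → ℂ)}, (Cfsg.charDegree (χ : G → ℂ) : ℤ) ^ 2) =
      ∑ χ ∈ Finset.univ.filter (fun χ : IrrCharacter G => ¬ p ∣ Cfsg.charDegree (χ : G → ℂ) ∧
        ¬ p ∣ Cfsg.detOrder (χ : G → ℂ)), (Cfsg.charDegree (χ : G → ℂ) : ℤ) ^ 2 := by
    rw [finsum_mem_eq_finite_toFinset_sum _ (Set.toFinite _)]
    congr 1
    ext χ
    simp
  rw [hfs]
  have hpcop : ∀ n : ℕ, ¬ p ∣ n → Nat.Coprime (p ^ j) n := fun n hn =>
    Nat.Coprime.pow_left j ((Nat.Prime.coprime_iff_not_dvd hp).mpr hn)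
  have hdetK : ∀ ψ : IrrCharacter K, ¬ p ∣ Cfsg.detOrder ψ.1 := by
    intro ψ hdvd
    have h1 := Cfsg.Agent.Lib.H24.coprime_detOrder p hp hKtop ψ.1
      (Cfsg.Agent.Lib.L0.isCharacter_of_irr ψ.2)
    exact (Nat.Prime.coprime_iff_not_dvd hp).mp h1.symm hdvd
  have hbij : ∑ χ ∈ Finset.univ.filter (fun χ : IrrCharacter G =>
      ¬ p ∣ Cfsg.charDegree (χ : G → ℂ) ∧ ¬ p ∣ Cfsg.detOrder (χ : G → ℂ)),
        Cfsg.charDegree (χ : G → ℂ) ^ 2 =
      ∑ ψ ∈ Finset.univ.filter (fun ψ : IrrCharacter K =>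
        (∀ (g : G) (n : K), ψ.1 ⟨g * n * g⁻¹, hKn.conj_mem n n.2 g⟩ = ψ.1 n) ∧
          ¬ p ∣ Cfsg.charDegree ψ.1), Cfsg.charDegree ψ.1 ^ 2 := by
    refine Finset.sum_bij (fun χ hχ => (⟨fun n : K => χ.1 n,
      Cfsg.Agent.Lib.H24.isIrrCharacter_restrict_of_index_pow K p hp j hj χ.1 χ.2
        (Finset.mem_filter.mp hχ).2.1⟩ : IrrCharacter K)) ?_ ?_ ?_ ?_
    · intro χ hχ
      refine Finset.mem_filter.mpr ⟨Finset.mem_univ _, ?_, (Finset.mem_filter.mp hχ).2.1⟩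
      intro g n
      exact Cfsg.Agent.Lib.H24.irr_conj χ n g
    · intro χ₁ h₁ χ₂ h₂ heq
      have hm₁ := (Finset.mem_filter.mp h₁).2
      have hm₂ := (Finset.mem_filter.mp h₂).2
      have hirr := Cfsg.Agent.Lib.H24.isIrrCharacter_restrict_of_index_pow K p hp j hj χ₁.1 χ₁.2
        hm₁.1
      have hinv : ∀ (g : G) (n : K), (fun n : K => χ₁.1 n) ⟨g * n * g⁻¹, hKn.conj_mem n n.2 g⟩ =
          (fun n : K => χ₁.1 n) n := fun g n => Cfsg.Agent.Lib.H24.irr_conj χ₁ n g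
      have hd : (fun n : K => χ₁.1 n) 1 = (Cfsg.charDegree χ₁.1 : ℂ) :=
        Cfsg.Agent.Lib.H23.apply_one_eq_charDegree χ₁.1 χ₁.2
      have hcop : Nat.Coprime K.index (Cfsg.detOrder (fun n : K => χ₁.1 n) *
          Cfsg.charDegree χ₁.1) := by
        rw [hj]
        exact Nat.Coprime.mul_right (hpcop _ (hdetK ⟨_, hirr⟩)) (hpcop _ hm₁.1)
      obtain ⟨χ₀, -, huniq⟩ := Cfsg.Agent.S0867.result K (fun n : K => χ₁.1 n) hirr hinv
        (Cfsg.charDegree χ₁.1) hd hcop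
      have e₁ : χ₁.1 = χ₀ := huniq χ₁.1 χ₁.2 (fun n => rfl) (by rw [hj]; exact hpcop _ hm₁.2)
      have e₂ : χ₂.1 = χ₀ := huniq χ₂.1 χ₂.2
        (fun n => (congrFun (congrArg Subtype.val heq) n).symm) (by rw [hj]; exact hpcop _ hm₂.2)
      exact Subtype.ext (e₁.trans e₂.symm)
    · intro ψ hψ
      have hm := (Finset.mem_filter.mp hψ).2
      have hcop : Nat.Coprime K.index (Cfsg.detOrder ψ.1 * Cfsg.charDegree ψ.1) := by
        rw [hj]
        exact Nat.Coprime.mul_right (hpcop _ (hdetK ψ)) (hpcop _ hm.2)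
      obtain ⟨χ, ⟨hχ, hres, hdet⟩, -⟩ := Cfsg.Agent.S0867.result K ψ.1 ψ.2 hm.1
        (Cfsg.charDegree ψ.1) (Cfsg.Agent.Lib.H23.apply_one_eq_charDegree ψ.1 ψ.2) hcop
      have hdeg : Cfsg.charDegree χ = Cfsg.charDegree ψ.1 := by
        unfold Cfsg.charDegree
        rw [← hres 1]
        rfl
      refine ⟨⟨χ, hχ⟩, Finset.mem_filter.mpr ⟨Finset.mem_univ _, ?_, ?_⟩, ?_⟩
      · show ¬ p ∣ Cfsg.charDegree χ
        rw [hdeg]; exact hm.2
      · show ¬ p ∣ Cfsg.detOrder χ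
        rw [hdet]; exact hdetK ψ
      · exact Subtype.ext (funext hres)
    · intro χ hχ
      rfl
  have hfin : ((Nat.card K : ℕ) : ℤ) ≡ ((∑ χ ∈ Finset.univ.filter (fun χ : IrrCharacter G =>
      ¬ p ∣ Cfsg.charDegree (χ : G → ℂ) ∧ ¬ p ∣ Cfsg.detOrder (χ : G → ℂ)),
        Cfsg.charDegree (χ : G → ℂ) ^ 2 : ℕ) : ℤ) [ZMOD p] := by
    rw [Int.natCast_modEq_iff, hbij]
    exact hA
  push_cast at hfin
  exact hfin

end Cfsg.Agent.S4455
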