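import Mathlib
import Cfsg.Statements.S4456
import Cfsg.Agent.S4455
import Cfsg.Agent.Lib.L0.CharLinear

set_option autoImplicit false
open Cfsg

namespace Cfsg.Agent.S4456

open Cfsg.Agent.Lib.L0 Cfsg.Agent.Lib.H23

/-- The elements of order prime to `p` in a commutative group. -/
def coprimeOrderSubgroup (A : Type*) [CommGroup A] (p : ℕ) : Subgroup A where
  carrier := {f | Nat.Coprime (orderOf f) p}
  one_mem' := by simp
  mul_mem' := by
    intro a b ha hb
    have h1 : orderOf (a * b) ∣ Nat.lcm (orderOf a) (orderOf b) :=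
      (Commute.all a b).orderOf_mul_dvd_lcm
    have h2 : Nat.lcm (orderOf a) (orderOf b) ∣ orderOf a * orderOf b := Nat.lcm_dvd_mul _ _
    exact Nat.Coprime.coprime_dvd_left (h1.trans h2) (Nat.Coprime.mul_left ha hb)
  inv_mem' := by
    intro a ha
    show Nat.Coprime (orderOf a⁻¹) p
    rw [orderOf_inv]
    exact ha

theorem not_dvd_card_coprimeOrderSubgroup (A : Type*) [CommGroup A] [Finite A] (p : ℕ)
    (hp : p.Prime) : ¬ p ∣ Nat.card (coprimeOrderSubgroup A p) := by
  intro hdvd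
  haveI : Fact p.Prime := ⟨hp⟩
  obtain ⟨x, hx⟩ := exists_prime_orderOf_dvd_card' p hdvd
  have h1 : Nat.Coprime (orderOf (x : A)) p := x.2
  rw [Subgroup.orderOf_coe, hx, Nat.coprime_self] at h1
  exact hp.ne_one h1

/-- Let p be a prime and G a finite group such that p divides the degree of every irreducible character of G of degree greater than one. Then G has a normal p-complement: a normal subgroup of order prime to p whose index is a power of p. -/
theorem result {G : Type*} [Group G] [Finite G] (p : ℕ) (hp : p.Prime) (hdeg : ∀ χ : Cfsg.IrrCharacter G, Cfsg.charDegree (χ : G → ℂ) ≠ 1 → p ∣ Cfsg.charDegree (χ : G → ℂ)) : ∃ N : Subgroup G, N.Normal ∧ (Nat.card N).Coprime p ∧ ∃ k : ℕ, N.index = p ^ k := by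
  classical
  haveI : Fact p.Prime := ⟨hp⟩
  have := Fintype.ofFinite (IrrCharacter G)
  refine ⟨Cfsg.pResidual p G, Cfsg.Agent.Lib.H6.pResidual_normal p, ?_,
    Cfsg.Agent.Lib.H6.index_pResidual p⟩
  have hmod := Cfsg.Agent.S4455.result (G := G) p hp
  have hfs : (∑ᶠ χ ∈ {χ : Cfsg.IrrCharacter G | ¬ p ∣ Cfsg.charDegree (χ : G → ℂ) ∧
      ¬ p ∣ Cfsg.detOrder (χ : G → ℂ)}, (Cfsg.charDegree (χ : G → ℂ) : ℤ) ^ 2) =
      ∑ χ ∈ Finset.univ.filter (fun χ : IrrCharacter G => ¬ p ∣ Cfsg.charDegree (χ : G → ℂ) ∧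
        ¬ p ∣ Cfsg.detOrder (χ : G → ℂ)), (Cfsg.charDegree (χ : G → ℂ) : ℤ) ^ 2 := by
    rw [finsum_mem_eq_finite_toFinset_sum _ (Set.toFinite _)]
    congr 1
    ext χ
    simp
  rw [hfs] at hmod
  have hone : ∀ χ ∈ Finset.univ.filter (fun χ : IrrCharacter G =>
      ¬ p ∣ Cfsg.charDegree (χ : G → ℂ) ∧ ¬ p ∣ Cfsg.detOrder (χ : G → ℂ)),
      (Cfsg.charDegree (χ : G → ℂ) : ℤ) ^ 2 = 1 := by
    intro χ hχ
    have h1 := (Finset.mem_filter.mp hχ).2.1
    have h2 : Cfsg.charDegree (χ : G → ℂ) = 1 := by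
      by_contra hne
      exact h1 (hdeg χ hne)
    rw [h2]
    norm_num
  rw [Finset.sum_congr rfl hone, Finset.sum_const, nsmul_eq_mul, mul_one] at hmod
  -- the linear characters of order prime to `p`
  have hfinHom : Finite (G →* ℂˣ) :=
    Finite.of_injective (fun f => (⟨homToFun G f, isIrrCharacter_of_hom f⟩ : IrrCharacter G))
      (fun f₁ f₂ h => homToFun_injective (congrArg Subtype.val h))
  have := Fintype.ofFinite (coprimeOrderSubgroup (G →* ℂˣ) p)
  have hcard : (Finset.univ.filter (fun χ : IrrCharacter G =>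
      ¬ p ∣ Cfsg.charDegree (χ : G → ℂ) ∧ ¬ p ∣ Cfsg.detOrder (χ : G → ℂ))).card =
      Nat.card (coprimeOrderSubgroup (G →* ℂˣ) p) := by
    rw [Nat.card_eq_fintype_card, ← Finset.card_univ]
    symm
    refine Finset.card_bij (fun f _ => (⟨homToFun G f.1, isIrrCharacter_of_hom f.1⟩ :
      IrrCharacter G)) ?_ ?_ ?_
    · intro f _
      refine Finset.mem_filter.mpr ⟨Finset.mem_univ _, ?_, ?_⟩
      · show ¬ p ∣ Cfsg.charDegree (homToFun G f.1)
        have : homToFun G f.1 1 = ((1 : ℕ) : ℂ) := by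
          rw [homToFun_apply, map_one, Units.val_one, Nat.cast_one]
        rw [charDegree_eq_of_apply_one this]
        exact hp.one_lt.ne' ∘ Nat.dvd_one.mp
      · show ¬ p ∣ Cfsg.detOrder (homToFun G f.1)
        unfold Cfsg.detOrder
        rw [detChar_homToFun, orderOf_homToFun]
        have hf : Nat.Coprime (orderOf f.1) p := f.2
        exact fun hd => (Nat.Prime.coprime_iff_not_dvd hp).mp hf.symm hd
    · intro f₁ _ f₂ _ h
      exact Subtype.ext (homToFun_injective (congrArg Subtype.val h))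
    · intro χ hχ
      have hm := (Finset.mem_filter.mp hχ).2
      have h2 : Cfsg.charDegree (χ : G → ℂ) = 1 := by
        by_contra hne
        exact hm.1 (hdeg χ hne)
      have h1 : (χ : G → ℂ) 1 = 1 := by
        rw [apply_one_eq_charDegree χ.1 χ.2, h2, Nat.cast_one]
      have hχc := isCharacter_of_irr χ.2
      have hfun : homToFun G (linearCharHom hχc h1) = χ.1 := homToFun_linearCharHom hχc h1
      have hmem : linearCharHom hχc h1 ∈ coprimeOrderSubgroup (G →* ℂˣ) p := by
        show Nat.Coprime (orderOf (linearCharHom hχc h1)) p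
        have h3 := hm.2
        unfold Cfsg.detOrder at h3
        rw [← hfun, detChar_homToFun, orderOf_homToFun] at h3
        exact ((Nat.Prime.coprime_iff_not_dvd hp).mpr h3).symm
      exact ⟨⟨linearCharHom hχc h1, hmem⟩, Finset.mem_univ _, Subtype.ext hfun⟩
  rw [hcard] at hmod
  rw [Nat.coprime_comm, Nat.Prime.coprime_iff_not_dvd hp]
  intro hdvd
  apply not_dvd_card_coprimeOrderSubgroup (G →* ℂˣ) p hp
  have h1 : ((p : ℕ) : ℤ) ∣ (Nat.card (Cfsg.pResidual p G) : ℤ) := Int.natCast_dvd_natCast.mpr hdvd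
  have h2 := (Int.ModEq.dvd_iff hmod).mp h1
  exact Int.natCast_dvd_natCast.mp h2
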