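import Cfsg.Statements.S4457
import Mathlib
import Cfsg.Agent.Lib.H24.TwoDegrees

set_option autoImplicit false
open Cfsg

namespace Cfsg.Agent.S4457

/-- Let G be a finite group whose irreducible character degrees are exactly 1 and m (m ≠ 1). Then either G has an abelian normal subgroup of index m, or m is a power of a prime p and G is the direct product of a p-group and an abelian group: there are normal subgroups P and A with P a p-group, A abelian, P ⊓ A = 1 and P ⊔ A = G. -/
theorem result {G : Type*} [Group G] [Finite G] (m : ℕ) (hcd : ∀ χ : Cfsg.IrrCharacter G, Cfsg.charDegree (χ : G → ℂ) = 1 ∨ Cfsg.charDegree (χ : G → ℂ) = m) (hm : ∃ χ : Cfsg.IrrCharacter G, Cfsg.charDegree (χ : G → ℂ) = m) (hm1 : m ≠ 1) : (∃ A : Subgroup G, A.Normal ∧ (∀ a ∈ A, ∀ b ∈ A, a * b = b * a) ∧ A.index = m) ∨ ∃ p e : ℕ, p.Prime ∧ m = p ^ e ∧ ∃ P A : Subgroup G, P.Normal ∧ A.Normal ∧ IsPGroup p P ∧ (∀ a ∈ A, ∀ b ∈ A, a * b = b * a) ∧ P ⊓ A = ⊥ ∧ P ⊔ A = ⊤ := by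
  classical
  have := Fintype.ofFinite G
  obtain ⟨χ₀, hχ₀⟩ := hm
  have hm0 : m ≠ 0 := by
    rw [← hχ₀]
    exact (Cfsg.Agent.Lib.H23.charDegree_pos χ₀.1 χ₀.2).ne'
  set O : Subgroup G := Cfsg.Agent.Lib.H24.hallCore G m with hOdef
  haveI hOn : O.Normal := Cfsg.Agent.Lib.H24.hallCore_normal m
  have := Fintype.ofFinite O
  have hOab' := Cfsg.Agent.Lib.H24.hallCore_comm (G := G) m hm0 hcd
  have hOab : ∀ a ∈ O, ∀ b ∈ O, a * b = b * a := fun a ha b hb =>
    congrArg Subtype.val (hOab' ⟨a, ha⟩ ⟨b, hb⟩)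
  have hOcop : (Nat.card O).Coprime O.index :=
    Cfsg.Agent.Lib.H24.coprime_card_index_hallCore m hm0 hcd
  by_cases hinv : ∀ f : O →* ℂˣ,
      Cfsg.Agent.Lib.H23.inertia O (Cfsg.Agent.Lib.H23.homToFun O f) = ⊤
  · -- `O` is central
    have hOc : O ≤ Subgroup.center G := by
      intro n hn
      rw [Subgroup.mem_center_iff]
      intro g
      by_contra hne
      have hne' : (⟨g * n * g⁻¹, hOn.conj_mem n hn g⟩ : O) ≠ ⟨n, hn⟩ := by
        intro h
        apply hne
        have h1 : g * n * g⁻¹ = n := congrArg Subtype.val h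
        calc g * n = g * n * g⁻¹ * g := by group
          _ = n * g := by rw [h1]
      obtain ⟨χ, hχ⟩ := Cfsg.Agent.Lib.H24.exists_irr_ne_of_ne hOab' hne'
      have hχ1 : (χ : O → ℂ) 1 = 1 := Cfsg.Agent.Lib.H24.irr_apply_one_of_comm hOab' χ
      have hχc := Cfsg.Agent.Lib.L0.isCharacter_of_irr χ.2
      have h2 := hinv (Cfsg.Agent.Lib.L0.linearCharHom hχc hχ1)
      have h3 : g ∈ Cfsg.Agent.Lib.H23.inertia O
          (Cfsg.Agent.Lib.H23.homToFun O (Cfsg.Agent.Lib.L0.linearCharHom hχc hχ1)) := by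
        rw [h2]; trivial
      exact hχ ((Cfsg.Agent.Lib.H23.mem_inertia O _ g).mp h3 ⟨n, hn⟩)
    by_cases hpp : IsPrimePow m
    · right
      obtain ⟨p, e, hp, he, hpe⟩ := (isPrimePow_nat_iff m).mp hpp
      haveI : Fact p.Prime := ⟨hp⟩
      obtain P : Sylow p G := default
      have hOp : (Nat.card O).Coprime p := by
        have h1 : (Nat.card O).Coprime m :=
          Cfsg.Agent.Lib.H24.coprime_card_hallCore (G := G) m hm0 hcd
        have h2 : p ∣ m := by rw [← hpe]; exact dvd_pow_self p he.ne'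
        exact Nat.Coprime.coprime_dvd_right h2 h1
      have hsup : (P : Subgroup G) ⊔ O = ⊤ := by
        rw [← Subgroup.index_eq_one, Nat.eq_one_iff_not_exists_prime_dvd]
        intro r hr hrd
        have h1 : r ∣ O.index := dvd_trans hrd (Subgroup.index_dvd_of_le le_sup_right)
        have h2 : r ∣ m := Cfsg.Agent.Lib.H24.prime_dvd_of_dvd_index_hallCore m r hr h1
        rw [← hpe] at h2
        have h3 : r = p := (Nat.prime_dvd_prime_iff_eq hr hp).mp (hr.dvd_of_dvd_pow h2)
        rw [h3] at hrd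
        exact P.not_dvd_index (dvd_trans hrd (Subgroup.index_dvd_of_le le_sup_left))
      refine ⟨p, e, hp, hpe.symm, (P : Subgroup G), O, ?_, hOn, P.2, hOab, ?_, hsup⟩
      · rw [← Subgroup.normalizer_eq_top_iff, eq_top_iff, ← hsup]
        apply sup_le Subgroup.le_normalizer
        intro n hn
        rw [Subgroup.mem_normalizer_iff]
        intro h
        have h1 := Subgroup.mem_center_iff.mp (hOc hn)
        have h2 : n * h * n⁻¹ = h := by
          rw [← h1 h, mul_assoc, mul_inv_cancel, mul_one]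
        rw [h2]
      · apply Disjoint.eq_bot
        apply Subgroup.disjoint_of_coprime_natCard
        obtain ⟨k, hk⟩ := (IsPGroup.iff_card.mp P.2)
        rw [hk]
        exact Nat.Coprime.pow_left k hOp.symm
    · exfalso
      have hG' : commutator G ≤ O := by
        rw [hOdef]
        unfold Cfsg.Agent.Lib.H24.hallCore
        apply le_iInf₂
        intro p hp
        have hpp' := Nat.mem_primeFactors.mp hp
        have : Fact p.Prime := ⟨hpp'.1⟩
        have := Cfsg.Agent.Lib.H6.pResidual_normal (G := G) p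
        apply Cfsg.Agent.Lib.H24.commutator_le_of_quotient_linear
        intro ψ
        have h1 : IsIrrCharacter G ((ψ : G ⧸ Cfsg.pResidual p G → ℂ) ∘
            (QuotientGroup.mk' (Cfsg.pResidual p G))) :=
          Cfsg.Agent.Lib.L0.isIrrCharacter_comp_of_surjective _
            (QuotientGroup.mk'_surjective _) ψ.2
        have h2 := Cfsg.Agent.Lib.H23.apply_one_eq_charDegree ψ.1 ψ.2
        have h3 : charDegree ((ψ : G ⧸ Cfsg.pResidual p G → ℂ) ∘
            (QuotientGroup.mk' (Cfsg.pResidual p G))) = charDegree ψ.1 := by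
          apply Cfsg.Agent.Lib.H23.charDegree_eq_of_apply_one
          rw [Function.comp_apply, map_one]
          exact h2
        have h4 := Cfsg.Agent.Lib.H23.charDegree_dvd_card ψ.1 ψ.2
        obtain ⟨k, hk⟩ := Cfsg.Agent.Lib.H6.index_pResidual (G := G) p
        rw [← Subgroup.index_eq_card, hk] at h4
        obtain ⟨j, -, hj⟩ := (Nat.dvd_prime_pow hpp'.1).mp h4
        rcases hcd ⟨_, h1⟩ with h | h
        · rw [h2, ← h3]
          have : charDegree ((ψ : G ⧸ Cfsg.pResidual p G → ℂ) ∘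
            (QuotientGroup.mk' (Cfsg.pResidual p G))) = 1 := h
          rw [this, Nat.cast_one]
        · exfalso
          have h5 : charDegree ((ψ : G ⧸ Cfsg.pResidual p G → ℂ) ∘
            (QuotientGroup.mk' (Cfsg.pResidual p G))) = m := h
          rw [h3, hj] at h5
          rcases Nat.eq_zero_or_pos j with hj0 | hj0
          · rw [hj0, pow_zero] at h5
            exact hm1 h5.symm
          · apply hpp
            rw [← h5]
            exact hpp'.1.isPrimePow.pow hj0.ne'
      have hGab := Cfsg.Agent.Lib.H24.comm_of_central_hall O hOc hG' hOcop.symm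
      have h1 := Cfsg.Agent.Lib.H24.irr_apply_one_of_comm hGab χ₀
      rw [Cfsg.Agent.Lib.H23.apply_one_eq_charDegree χ₀.1 χ₀.2, hχ₀] at h1
      exact hm1 (by exact_mod_cast h1)
  · left
    push Not at hinv
    obtain ⟨f, hT⟩ := hinv
    obtain ⟨hidx, hcomm⟩ := Cfsg.Agent.Lib.H24.inertia_index_eq m hcd O hOcop f hT
    have hcent := Cfsg.Agent.Lib.H24.inertia_centralizes m hm1 hcd O hOab hOcop f hT
    have hG'T := Cfsg.Agent.Lib.H24.commutator_le_of_index_eq m hm1 hcd _ hidx
    have hTn := Cfsg.Agent.Lib.H24.normal_of_commutator_le' hG'T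
    set T : Subgroup G := Cfsg.Agent.Lib.H23.inertia O (Cfsg.Agent.Lib.H23.homToFun O f) with hTdef
    have hOT : O ≤ T := Cfsg.Agent.Lib.H23.le_inertia O
      (Cfsg.Agent.Lib.L0.isClassFunction_of_isCharacter
        (Cfsg.Agent.Lib.L0.isCharacter_of_irr (Cfsg.Agent.Lib.L0.isIrrCharacter_of_hom f)))
    have hKc : O.subgroupOf T ≤ Subgroup.center T := by
      intro k hk
      rw [Subgroup.mem_center_iff]
      intro t
      apply Subtype.ext
      exact hcent t t.2 k (Subgroup.mem_subgroupOf.mp hk)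
    have hKcop : Nat.Coprime (O.subgroupOf T).index (Nat.card (O.subgroupOf T)) := by
      have h1 : (O.subgroupOf T).index ∣ O.index := Subgroup.relIndex_dvd_index_of_normal O T
      have h2 : Nat.card (O.subgroupOf T) = Nat.card O :=
        Nat.card_congr (Subgroup.subgroupOfEquivOfLe hOT).toEquiv
      rw [h2]
      exact (Nat.Coprime.coprime_dvd_right h1 hOcop).symm
    have hTab := Cfsg.Agent.Lib.H24.comm_of_central_hall (O.subgroupOf T) hKc hcomm hKcop
    exact ⟨T, hTn, fun a ha b hb => congrArg Subtype.val (hTab ⟨a, ha⟩ ⟨b, hb⟩), hidx⟩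

end Cfsg.Agent.S4457
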