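import Mathlib
import Cfsg.Statements.S4458
import Cfsg.Agent.S4457
import Cfsg.Agent.Lib.H24.TwoDegrees
import Cfsg.Agent.Lib.H23.MGroup
import Cfsg.Agent.Lib.H1.Fitting

set_option autoImplicit false
open Cfsg

namespace Cfsg.Agent.S4458

open Cfsg.Agent.Lib.L0 Cfsg.Agent.Lib.H23 Cfsg.Agent.Lib.H24

/-- A constituent of the restriction to `G'` of a character induced from a linear character of a
subgroup containing `G'` is linear. -/
theorem linear_of_constituent_ind {G : Type*} [Group G] [Fintype G] (H : Subgroup G)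
    (hDH : commutator G ≤ H) (lam : H →* ℂˣ) [Fintype (commutator G)]
    (ψ : IrrCharacter (commutator G))
    (hc : classInner (fun d : commutator G => Cfsg.indFun H (fun h => (lam h : ℂ)) d)
      (ψ : commutator G → ℂ) ≠ 0) : (ψ : commutator G → ℂ) 1 = 1 := by
  classical
  have hDn : (commutator G).Normal := inferInstance
  have hconj : ∀ (x : G) (d : commutator G), x⁻¹ * (d : G) * x ∈ H := by
    intro x d
    apply hDH
    have := hDn.conj_mem (d : G) d.2 x⁻¹
    rwa [inv_inv] at this
  let μ : G → (commutator G →* ℂˣ) := fun x =>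
    { toFun := fun d => lam ⟨x⁻¹ * (d : G) * x, hconj x d⟩
      map_one' := by
        have : (⟨x⁻¹ * ((1 : commutator G) : G) * x, hconj x 1⟩ : H) = 1 := by
          apply Subtype.ext
          simp
        rw [this, map_one]
      map_mul' := by
        intro d d'
        rw [← map_mul]
        congr 1
        apply Subtype.ext
        simp only [Subgroup.coe_mul]
        group }
  have hμ : ∀ x d, μ x d = lam ⟨x⁻¹ * (d : G) * x, hconj x d⟩ := fun _ _ => rfl
  have hres : (fun d : commutator G => Cfsg.indFun H (fun h => (lam h : ℂ)) d) =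
      (Nat.card H : ℂ)⁻¹ • ∑ x : G, (fun d : commutator G => ((μ x d : ℂˣ) : ℂ)) := by
    funext d
    rw [indFun_apply, Pi.smul_apply, Finset.sum_apply, smul_eq_mul]
    congr 1
    refine Finset.sum_congr rfl (fun x _ => ?_)
    rw [extendByZero_apply_of_mem H _ (hconj x d), hμ]
  rw [hres, classInner_smul_left, classInner_sum_left] at hc
  have hex : ∃ x : G, classInner (fun d : commutator G => ((μ x d : ℂˣ) : ℂ))
      (ψ : commutator G → ℂ) ≠ 0 := by
    by_contra hcon
    push Not at hcon
    apply hc
    rw [Finset.sum_congr rfl (fun x _ => hcon x), Finset.sum_const_zero, mul_zero]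
  obtain ⟨x, hx⟩ := hex
  have hirr : IsIrrCharacter (commutator G) (fun d : commutator G => ((μ x d : ℂˣ) : ℂ)) :=
    isIrrCharacter_of_hom (μ x)
  have horth := irr_orthonormal (⟨_, hirr⟩ : IrrCharacter (commutator G)) ψ
  by_cases heq : (⟨_, hirr⟩ : IrrCharacter (commutator G)) = ψ
  · rw [← heq]
    show ((μ x 1 : ℂˣ) : ℂ) = 1
    rw [map_one, Units.val_one]
  · rw [if_neg heq] at horth
    exact absurd horth hx

/-- If a finite group has exactly two irreducible character degrees, 1 and m with m ≠ 1, then its commutator subgroup is abelian. -/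
theorem result {G : Type*} [Group G] [Finite G] (m : ℕ) (hcd : ∀ χ : Cfsg.IrrCharacter G, Cfsg.charDegree (χ : G → ℂ) = 1 ∨ Cfsg.charDegree (χ : G → ℂ) = m) (hm : ∃ χ : Cfsg.IrrCharacter G, Cfsg.charDegree (χ : G → ℂ) = m) (hm1 : m ≠ 1) : ∀ a ∈ commutator G, ∀ b ∈ commutator G, a * b = b * a := by
  classical
  have := Fintype.ofFinite G
  rcases Cfsg.Agent.S4457.result m hcd hm hm1 with ⟨A, hAn, hAab, hAidx⟩ |
    ⟨p, e, hp, hme, P, A, hPn, hAn, hPp, hAab, hPA, hPAtop⟩
  · have h := commutator_le_of_index_eq m hm1 hcd A hAidx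
    intro a ha b hb
    exact hAab a (h ha) b (h hb)
  · -- `G` is nilpotent
    have : Fact p.Prime := ⟨hp⟩
    have hPnil : Group.IsNilpotent P := hPp.isNilpotent
    have hAnil : Group.IsNilpotent A := by
      let _ : CommGroup A :=
        { (inferInstance : Group A) with
          mul_comm := fun a b => Subtype.ext (hAab a a.2 b b.2) }
      exact CommGroup.isNilpotent
    have hF : Cfsg.fittingSubgroup G = ⊤ := by
      rw [eq_top_iff, ← hPAtop]
      exact sup_le (Cfsg.Agent.Lib.H1.le_fittingSubgroup hPn hPnil)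
        (Cfsg.Agent.Lib.H1.le_fittingSubgroup hAn hAnil)
    have hnil : Group.IsNilpotent G := by
      rw [← Group.isNilpotent_top, ← hF]
      exact Cfsg.Agent.Lib.H1.fittingSubgroup_isNilpotent
    have := Fintype.ofFinite (commutator G)
    have hlin : ∀ ψ : IrrCharacter (commutator G), (ψ : commutator G → ℂ) 1 = 1 := by
      intro ψ
      obtain ⟨χ, hχ, hc⟩ := Cfsg.Agent.S0855.exists_irr_over (commutator G) ψ.1 ψ.2
      obtain ⟨H, lam, hind⟩ := monomial_of_nilpotent χ hχ
      have hdeg : χ 1 = ((H.index : ℕ) : ℂ) := by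
        rw [hind, indFun_one', map_one, Units.val_one, mul_one]
      have hdeg' : charDegree χ = H.index := charDegree_eq_of_apply_one hdeg
      have hDH : commutator G ≤ H := by
        rcases hcd ⟨χ, hχ⟩ with h | h
        · have h1 : H.index = 1 := by rw [← hdeg']; exact h
          rw [Subgroup.index_eq_one.mp h1]
          exact le_top
        · have h1 : H.index = m := by rw [← hdeg']; exact h
          exact commutator_le_of_index_eq m hm1 hcd H h1
      apply linear_of_constituent_ind H hDH lam ψ
      rw [← hind]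
      exact hc
    intro a ha b hb
    exact congrArg Subtype.val (comm_of_forall_irr_one hlin ⟨a, ha⟩ ⟨b, hb⟩)

end Cfsg.Agent.S4458
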