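import Cfsg.Statements.S4448
import Mathlib
import Cfsg.Agent.Lib.H24.CoprimeAbove

set_option autoImplicit false
open Cfsg

namespace Cfsg.Agent.S4448

/-- Inside a finite group Γ let S normalise G and also normalise a normal subgroup N of G, with the order of S coprime to the index of N in G and G/N solvable. Then for every S-invariant irreducible character ϑ of N, the induced character ϑ^G has an S-invariant irreducible constituent. -/
theorem result {Γ : Type*} [Group Γ] [Fintype Γ] (G S N : Subgroup Γ) [Fintype G] [Fintype N] (hnorm : ∀ s ∈ S, ∀ g ∈ G, s * g * s⁻¹ ∈ G) (hNG : N ≤ G) [hNn : (N.subgroupOf G).Normal] (hNS : ∀ s ∈ S, ∀ n ∈ N, s * n * s⁻¹ ∈ N) (hcop : (N.relIndex G).Coprime (Nat.card S)) (hsolv : Group.IsSolvable (G ⧸ N.subgroupOf G)) (θ : Cfsg.IrrCharacter N) (hinv : (∀ s ∈ S, ∀ g g' : N, (g' : Γ) = s * g * s⁻¹ → (θ : N → ℂ) g' = (θ : N → ℂ) g)) : ∃ χ : Cfsg.IrrCharacter G, Cfsg.classInner (fun n : N =>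 (χ : G → ℂ) ⟨n, hNG n.2⟩) (θ : N → ℂ) ≠ 0 ∧ (∀ s ∈ S, ∀ g g' : G, (g' : Γ) = s * g * s⁻¹ → (χ : G → ℂ) g' = (χ : G → ℂ) g) := by
  classical
  have hSG : S ≤ Subgroup.normalizer (G : Set Γ) := by
    intro s hs
    rw [Subgroup.mem_normalizer_iff]
    intro h
    constructor
    · intro hh; exact hnorm s hs h hh
    · intro hh
      have := hnorm s⁻¹ (S.inv_mem hs) _ hh
      simpa [mul_assoc] using this
  set σ : S →* MulAut G := G.normalizerMonoidHom.comp (Subgroup.inclusion hSG) with hσ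
  have hσa : ∀ (s : S) (g : G), ((σ s g : G) : Γ) = (s : Γ) * g * (s : Γ)⁻¹ := fun s g => rfl
  set N' : Subgroup G := N.subgroupOf G with hN'
  haveI : Fintype N' := Fintype.ofFinite _
  have hN'σ : ∀ s, ∀ n ∈ N', σ s n ∈ N' := by
    intro s n hn
    rw [hN', Subgroup.mem_subgroupOf] at hn ⊢
    rw [hσa]
    exact hNS s s.2 _ hn
  have hcop' : N'.index.Coprime (Nat.card S) := hcop
  obtain ⟨k, hk⟩ : ∃ k, derivedSeries G k ≤ N' := by
    obtain ⟨k, hk⟩ := (isSolvable_def (G ⧸ N')).mp hsolv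
    refine ⟨k, ?_⟩
    have h1 := map_derivedSeries_le_derivedSeries (QuotientGroup.mk' N') k
    rw [hk, le_bot_iff] at h1
    have h2 := (Subgroup.map_eq_bot_iff _).mp h1
    rwa [QuotientGroup.ker_mk'] at h2
  set e : N' ≃* N := Subgroup.subgroupOfEquivOfLe hNG with he
  set θ' : N' → ℂ := (θ : N → ℂ) ∘ e with hθ'
  have hθ'irr : Cfsg.IsIrrCharacter N' θ' :=
    Cfsg.Agent.Lib.L0.isIrrCharacter_comp_of_surjective e.toMonoidHom e.surjective θ.2
  have hinv' : ∀ s (n : N'), θ' ⟨σ s n, hN'σ s n n.2⟩ = θ' n := by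
    intro s n
    show (θ : N → ℂ) (e _) = (θ : N → ℂ) (e n)
    apply hinv s s.2
    rfl
  obtain ⟨χ, hχ1, hχ2⟩ := Cfsg.Agent.Lib.H24.exists_invariant_over σ k N' hN'σ hcop' hk θ' hθ'irr
    hinv'
  refine ⟨χ, ?_, ?_⟩
  · have hres : (fun n : N' => (χ : G → ℂ) n) = (fun n : N => (χ : G → ℂ) ⟨n, hNG n.2⟩) ∘ e := by
      funext n
      rfl
    rw [hres, hθ', Cfsg.Agent.Lib.H23.classInner_comp_equiv] at hχ1
    exact hχ1
  · intro s hs g g' hg
    have : g' = σ ⟨s, hs⟩ g := Subtype.ext (by rw [hg, hσa])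
    rw [this]
    exact hχ2 ⟨s, hs⟩ g

end Cfsg.Agent.S4448
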