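-- Statement S4784
import Cfsg.Statements.S4784
import Cfsg.Agent.Lib.H24.CharFSInd
import Cfsg.Agent.Lib.H24.CharOdd
import Cfsg.Agent.Lib.H24.CharDefl
import Cfsg.Agent.Lib.L0.CharIndChar

set_option autoImplicit false
open Cfsg

namespace Cfsg.Agent.S4784

open Cfsg.Agent.Lib.H24 Cfsg.Agent.Lib.L0 Cfsg.Agent.Lib.H23
open scoped ComplexConjugate

section

variable {G : Type*} [Group G] [Fintype G] (H : Subgroup G)

/-- The permutation character on the cosets of `H`. -/
noncomputable def permChar : G → ℂ := indFun H (fun _ : H => (1 : ℂ))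

/-- The number of `x` with `x⁻¹ g x ∈ H`. -/
noncomputable def cnt (g : G) : ℕ := by
  classical exact (Finset.univ.filter (fun x : G => x⁻¹ * g * x ∈ H)).card

theorem permChar_apply (g : G) : permChar H g = (Nat.card H : ℂ)⁻¹ * (cnt H g : ℂ) := by
  classical
  unfold permChar cnt
  rw [indFun_apply]
  congr 1
  rw [Finset.card_filter]
  push_cast
  refine Finset.sum_congr rfl (fun x _ => ?_)
  split_ifs with h
  · rw [extendByZero_apply_of_mem H _ h]
  · rw [extendByZero_apply_not_mem H _ h]

theorem isCharacter_permChar : IsCharacter G (permChar H) :=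
  isCharacter_indFun H (isCharacter_of_irr Cfsg.Agent.Lib.H24.isIrrCharacter_one)

theorem permChar_conj (g : G) : conj (permChar H g) = permChar H g := by
  rw [permChar_apply]
  simp

theorem cnt_le_sq (s : G) : cnt H s ≤ cnt H (s * s) := by
  classical
  unfold cnt
  apply Finset.card_le_card
  intro x hx
  simp only [Finset.mem_filter, Finset.mem_univ, true_and] at hx ⊢
  have : x⁻¹ * (s * s) * x = (x⁻¹ * s * x) * (x⁻¹ * s * x) := by group
  rw [this]
  exact H.mul_mem hx hx

theorem classInner_permChar_one :
    classInner (permChar H) (fun _ => (1 : ℂ)) = 1 := by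
  classical
  have := Fintype.ofFinite H
  unfold permChar
  rw [frobenius_reciprocity H _ _ (fun _ _ => rfl)]
  simp only [classInner, map_one, mul_one, Finset.sum_const, Finset.card_univ, nsmul_eq_mul]
  rw [← Nat.card_eq_fintype_card]
  have hH : (Nat.card H : ℂ) ≠ 0 := by exact_mod_cast (Nat.card_pos (α := H)).ne'
  exact inv_mul_cancel₀ hH

theorem sum_cnt : ∑ s : G, cnt H s = Nat.card G * Nat.card H := by
  have h := classInner_permChar_one H
  simp only [classInner, map_one, mul_one, permChar_apply] at h
  rw [← Finset.mul_sum] at h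
  have hH : (Nat.card H : ℂ) ≠ 0 := by exact_mod_cast (Nat.card_pos (α := H)).ne'
  have hG : (Nat.card G : ℂ) ≠ 0 := by exact_mod_cast (Nat.card_pos (α := G)).ne'
  have h2 : ((∑ s : G, cnt H s : ℕ) : ℂ) = ((Nat.card G * Nat.card H : ℕ) : ℂ) := by
    push_cast
    field_simp at h
    linear_combination h
  exact_mod_cast h2

/-- The main identity: `∑ χ ν(χ) [π, χ] = |G|⁻¹ |H|⁻¹ ∑ s, cnt (s²)`. -/
theorem sum_fsInd_mul [Fintype (IrrCharacter G)] :
    ∑ χ : IrrCharacter G, fsInd (χ : G → ℂ) * classInner (χ : G → ℂ) (permChar H) =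
      (Nat.card G : ℂ)⁻¹ * ((Nat.card H : ℂ)⁻¹ * ((∑ s : G, cnt H (s * s) : ℕ) : ℂ)) := by
  have h1 : classInner (sqrtCount (G := G)) (permChar H) =
      ∑ χ : IrrCharacter G, fsInd (χ : G → ℂ) * classInner (χ : G → ℂ) (permChar H) := by
    conv_lhs => rw [classFunction_expansion (sqrtCount (G := G)) isClassFunction_sqrtCount]
    rw [classInner_sum_left]
    refine Finset.sum_congr rfl (fun χ _ => ?_)
    rw [classInner_smul_left, classInner_sqrtCount]
  rw [← h1]
  simp only [classInner]
  rw [sum_sqrtCount_mul (fun g => conj (permChar H g))]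
  have h2 : ∀ g : G, conj (permChar H g) = (Nat.card H : ℂ)⁻¹ * (cnt H g : ℂ) := by
    intro g
    rw [permChar_conj, permChar_apply]
  simp only [h2]
  rw [← Finset.mul_sum]
  push_cast
  rfl

end

/-- Let H be a subgroup of the finite group G and consider the permutation character of G on the cosets of H (the function induced from the principal character of H). Then exactly one irreducible constituent of it is real-valued with Frobenius–Schur indicator +1 (namely the principal character) if and only if the normal core of H has odd index in G. -/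
theorem result {G : Type*} [Group G] [Fintype G] (H : Subgroup G) : Nat.card {χ : Cfsg.IrrCharacter G // Cfsg.classInner (Cfsg.indFun H (fun _ : H => (1 : ℂ))) (χ : G → ℂ) ≠ 0 ∧ (∀ g : G, (starRingEnd ℂ) ((χ : G → ℂ) g) = (χ : G → ℂ) g) ∧ (Nat.card G : ℂ)⁻¹ * ∑ g : G, (χ : G → ℂ) (g * g) = 1} = 1 ↔ Odd H.normalCore.index := by
  classical
  have := Fintype.ofFinite (IrrCharacter G)
  have := Fintype.ofFinite H
  set N := H.normalCore with hNdef
  have hNH : N ≤ H := Subgroup.normalCore_le H
  have hHpos : (Nat.card H : ℂ) ≠ 0 := by exact_mod_cast (Nat.card_pos (α := H)).ne'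
  have hGpos : (Nat.card G : ℂ) ≠ 0 := by exact_mod_cast (Nat.card_pos (α := G)).ne'
  -- the trivial character belongs to the set
  have htriv : classInner (indFun H (fun _ : H => (1 : ℂ))) (trivialIrr G : G → ℂ) ≠ 0 ∧
      (∀ g : G, (starRingEnd ℂ) ((trivialIrr G : G → ℂ) g) = (trivialIrr G : G → ℂ) g) ∧
      (Nat.card G : ℂ)⁻¹ * ∑ g : G, (trivialIrr G : G → ℂ) (g * g) = 1 := by
    refine ⟨?_, fun g => by simp, fsInd_trivialIrr⟩
    have := classInner_permChar_one H
    unfold permChar at this
    show classInner (indFun H (fun _ : H => (1 : ℂ))) (fun _ => (1 : ℂ)) ≠ 0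
    rw [this]
    exact one_ne_zero
  constructor
  · -- if the index is even there is a second such character
    intro hcard
    by_contra hodd
    rw [Nat.not_odd_iff_even] at hodd
    obtain ⟨hsub, _⟩ := Nat.card_eq_one_iff_unique.mp hcard
    have honly : ∀ χ : IrrCharacter G,
        classInner (indFun H (fun _ : H => (1 : ℂ))) (χ : G → ℂ) ≠ 0 →
        fsInd (χ : G → ℂ) = 1 → χ = trivialIrr G := by
      intro χ h1 h2
      have hreal : ∀ g : G, (starRingEnd ℂ) ((χ : G → ℂ) g) = (χ : G → ℂ) g := by
        intro g
        apply Complex.conj_eq_iff_im.mpr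
        apply real_of_fsInd_ne_zero χ
        rw [h2]; exact one_ne_zero
      have := @Subsingleton.elim _ hsub ⟨χ, h1, hreal, h2⟩ ⟨trivialIrr G, htriv⟩
      exact congrArg Subtype.val this
    -- an element t outside N with t² ∈ N
    have h2dvd : 2 ∣ Nat.card (G ⧸ N) := by
      rw [← Subgroup.index_eq_card]
      exact even_iff_two_dvd.mp hodd
    haveI : Fact (Nat.Prime 2) := ⟨Nat.prime_two⟩
    obtain ⟨q, hq⟩ := exists_prime_orderOf_dvd_card' (G := G ⧸ N) 2 h2dvd
    obtain ⟨t, rfl⟩ := QuotientGroup.mk_surjective q
    have htN : t ∉ N := by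
      intro h
      have : ((t : G) : G ⧸ N) = 1 := (QuotientGroup.eq_one_iff t).mpr h
      rw [this, orderOf_one] at hq
      norm_num at hq
    have ht2 : t * t ∈ N := by
      have h1 : ((t : G) : G ⧸ N) ^ 2 = 1 := by rw [← hq]; exact pow_orderOf_eq_one _
      rw [← QuotientGroup.mk_pow, QuotientGroup.eq_one_iff, pow_two] at h1
      exact h1
    -- strict inequality of counts
    have hlt : ∑ s : G, cnt H s < ∑ s : G, cnt H (s * s) := by
      apply Finset.sum_lt_sum (fun s _ => cnt_le_sq H s)
      refine ⟨t, Finset.mem_univ _, ?_⟩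
      unfold cnt
      have hall : (Finset.univ.filter (fun x : G => x⁻¹ * (t * t) * x ∈ H)) = Finset.univ := by
        apply Finset.filter_true_of_mem
        intro x _
        apply hNH
        have := (inferInstance : N.Normal).conj_mem (t * t) ht2 x⁻¹
        simpa using this
      rw [hall]
      apply Finset.card_lt_card
      rw [Finset.ssubset_univ_iff]
      intro hfull
      apply htN
      intro b
      have : b⁻¹ ∈ Finset.univ.filter (fun x : G => x⁻¹ * t * x ∈ H) := by
        rw [hfull]; exact Finset.mem_univ _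
      simpa using this
    rw [sum_cnt] at hlt
    -- integrality
    have hm : ∀ χ : IrrCharacter G, ∃ m : ℕ, classInner (χ : G → ℂ) (permChar H) = m :=
      fun χ => classInner_irr_char_nat (isCharacter_permChar H) χ.2
    choose m hm using hm
    have hr : ∀ χ : IrrCharacter G, ∃ r : ℤ, fsInd (χ : G → ℂ) = r ∧ (r = 1 ∨ r ≤ 0) := by
      intro χ
      rcases fsInd_irr_cases χ with ⟨h0, _⟩ | ⟨h1 | h1, _⟩
      · exact ⟨0, by rw [h0]; simp, Or.inr le_rfl⟩
      · exact ⟨1, by rw [h1]; simp, Or.inl rfl⟩
      · exact ⟨-1, by rw [h1]; simp, Or.inr (by norm_num)⟩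
    choose r hr hr' using hr
    have hkey := sum_fsInd_mul H
    have hint : ((∑ χ : IrrCharacter G, r χ * (m χ : ℤ)) * ((Nat.card G * Nat.card H : ℕ) : ℤ) : ℤ) =
        ((∑ s : G, cnt H (s * s) : ℕ) : ℤ) := by
      have hc : (((∑ χ : IrrCharacter G, r χ * (m χ : ℤ)) * ((Nat.card G * Nat.card H : ℕ) : ℤ) : ℤ) : ℂ) =
          ((((∑ s : G, cnt H (s * s) : ℕ) : ℤ)) : ℂ) := by
        push_cast
        have h3 : ∑ χ : IrrCharacter G, (r χ : ℂ) * (m χ : ℂ) =
            ∑ χ : IrrCharacter G, fsInd (χ : G → ℂ) * classInner (χ : G → ℂ) (permChar H) := by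
          refine Finset.sum_congr rfl (fun χ _ => ?_)
          rw [hr χ, hm χ]
        rw [h3, hkey]
        push_cast
        field_simp
      exact_mod_cast hc
    -- but the sum is at most 1
    have hle : ∑ χ : IrrCharacter G, r χ * (m χ : ℤ) ≤ 1 := by
      rw [← Finset.add_sum_erase Finset.univ _ (Finset.mem_univ (trivialIrr G))]
      have h1 : r (trivialIrr G) * (m (trivialIrr G) : ℤ) = 1 := by
        have hr1 : r (trivialIrr G) = 1 := by
          have := hr (trivialIrr G)
          rw [fsInd_trivialIrr] at this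
          exact_mod_cast this.symm
        have hm1 : m (trivialIrr G) = 1 := by
          have := hm (trivialIrr G)
          have h2 : classInner (trivialIrr G : G → ℂ) (permChar H) = 1 := by
            rw [← classInner_conj_symm]
            have := classInner_permChar_one H
            show conj (classInner (permChar H) (fun _ => (1 : ℂ))) = 1
            rw [this, map_one]
          rw [h2] at this
          exact_mod_cast this.symm
        rw [hr1, hm1]; norm_num
      rw [h1]
      have h2 : ∑ χ ∈ Finset.univ.erase (trivialIrr G), r χ * (m χ : ℤ) ≤ 0 := by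
        apply Finset.sum_nonpos
        intro χ hχ
        have hne : χ ≠ trivialIrr G := Finset.ne_of_mem_erase hχ
        rcases hr' χ with h | h
        · -- r χ = 1 forces m χ = 0
          have hm0 : m χ = 0 := by
            by_contra hm0
            apply hne
            apply honly χ
            · have h3 : classInner (indFun H (fun _ : H => (1 : ℂ))) (χ : G → ℂ) =
                  conj (classInner (χ : G → ℂ) (permChar H)) := by
                rw [classInner_conj_symm]; rfl
              rw [h3, hm χ]
              simp only [Complex.conj_natCast]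
              exact_mod_cast hm0
            · rw [hr χ, h]; simp
          rw [hm0]; simp
        · exact mul_nonpos_of_nonpos_of_nonneg h (Int.natCast_nonneg _)
      linarith
    have hpos : (0 : ℤ) < ((Nat.card G * Nat.card H : ℕ) : ℤ) := by
      have : 0 < Nat.card G * Nat.card H := Nat.mul_pos Nat.card_pos Nat.card_pos
      exact_mod_cast this
    have hlt' : ((Nat.card G * Nat.card H : ℕ) : ℤ) < ((∑ s : G, cnt H (s * s) : ℕ) : ℤ) := by
      exact_mod_cast hlt
    rw [← hint] at hlt'
    nlinarith
  · -- odd index: only the trivial character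
    intro hodd
    rw [Nat.card_eq_one_iff_unique]
    refine ⟨⟨?_⟩, ⟨⟨trivialIrr G, htriv⟩⟩⟩
    have hall : ∀ χ : IrrCharacter G,
        classInner (indFun H (fun _ : H => (1 : ℂ))) (χ : G → ℂ) ≠ 0 →
        (∀ g : G, (starRingEnd ℂ) ((χ : G → ℂ) g) = (χ : G → ℂ) g) → χ = trivialIrr G := by
      intro χ h1 hreal
      -- N is in the kernel of χ
      have hNker : ∀ n ∈ N, (χ : G → ℂ) n = (χ : G → ℂ) 1 := by
        by_contra hcon
        push Not at hcon
        apply h1
        rw [frobenius_reciprocity H _ _ (isClassFunction_irr χ)]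
        simp only [classInner, one_mul]
        have hz : ∑ h : H, conj ((χ : G → ℂ) h) = 0 := by
          have := Fintype.ofFinite N
          have hNpos : (Nat.card N : ℂ) ≠ 0 := by exact_mod_cast (Nat.card_pos (α := N)).ne'
          have h2 : ∀ n : N, ∑ h : H, conj ((χ : G → ℂ) h) =
              ∑ h : H, conj ((χ : G → ℂ) ((h : G) * (n : G))) := by
            intro n
            let e : H ≃ H := Equiv.mulRight ⟨(n : G), hNH n.2⟩
            exact (Fintype.sum_equiv e (fun h : H => conj ((χ : G → ℂ) ((h : G) * (n : G))))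
              (fun h : H => conj ((χ : G → ℂ) h)) (fun h => rfl)).symm
          have h3 : (Nat.card N : ℂ) * ∑ h : H, conj ((χ : G → ℂ) h) = 0 := by
            calc (Nat.card N : ℂ) * ∑ h : H, conj ((χ : G → ℂ) h)
                = ∑ n : N, ∑ h : H, conj ((χ : G → ℂ) h) := by
                  rw [Finset.sum_const, Finset.card_univ, nsmul_eq_mul, Nat.card_eq_fintype_card]
              _ = ∑ n : N, ∑ h : H, conj ((χ : G → ℂ) ((h : G) * (n : G))) :=
                  Finset.sum_congr rfl (fun n _ => h2 n)
              _ = ∑ h : H, conj (∑ n : N, (χ : G → ℂ) ((h : G) * (n : G))) := by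
                  rw [Finset.sum_comm]
                  simp only [map_sum]
              _ = 0 := by
                  simp only [irr_sum_normal_mul_eq_zero χ N hcon, map_zero, Finset.sum_const_zero]
          rcases mul_eq_zero.mp h3 with h | h
          · exact absurd h hNpos
          · exact h
        rw [hz, mul_zero]
      obtain ⟨ψ, hψ⟩ := exists_deflation χ N hNker
      have hψreal : ∀ q : G ⧸ N, ((ψ : G ⧸ N → ℂ) q).im = 0 := by
        intro q
        obtain ⟨g, rfl⟩ := QuotientGroup.mk_surjective q
        rw [hψ g]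
        exact Complex.conj_eq_iff_im.mp (hreal g)
      have hoddQ : Odd (Nat.card (G ⧸ N)) := by
        rw [← Subgroup.index_eq_card]; exact hodd
      have hψtriv := real_irr_eq_trivial_of_odd hoddQ ψ hψreal
      apply Subtype.ext
      funext g
      rw [← hψ g, hψtriv]
      rfl
    rintro ⟨χ, h1, h2, _⟩ ⟨θ, h1', h2', _⟩
    apply Subtype.ext
    show χ = θ
    exact (hall χ h1 h2).trans (hall θ h1' h2').symm

end Cfsg.Agent.S4784
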