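import Mathlib
import Cfsg.Statements.S0174
import Cfsg.Agent.Lib.H8.Clifford
import Cfsg.Agent.Lib.H8.CharMisc
import Cfsg.Agent.Lib.L0.CharIndChar
import Cfsg.Agent.Lib.H24.CharOrth
import Cfsg.Agent.S1486

set_option autoImplicit false
open Cfsg

namespace Cfsg.Agent.S0174

open scoped ComplexConjugate
open Cfsg.Agent.Lib.H8 Cfsg.Agent.Lib.L0 Cfsg.Agent.Lib.H24

/-- The Clifford Theorem for characters: if θ is an irreducible character of a finite group G, N is a normal subgroup and χ is an irreducible character of N occurring in the restriction of θ, then θ restricted to N equals e times the sum of the distinct G-conjugates of χ, where e is the inner product of the restriction with χ. -/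
theorem result {G : Type*} [Group G] [Fintype G] (N : Subgroup G) [Fintype N] (hN : N.Normal) (θ : G → ℂ) (hθ : Cfsg.IsIrrCharacter G θ) (χ : N → ℂ) (hχ : Cfsg.IsIrrCharacter N χ) (hconst : Cfsg.classInner (fun n : N => θ n) χ ≠ 0) : (fun n : N => θ n) = Cfsg.classInner (fun n : N => θ n) χ • ∑ᶠ ψ ∈ {ψ : N → ℂ | ∃ g : G, ψ = fun n : N => χ ⟨g * n * g⁻¹, hN.conj_mem n n.2 g⟩}, ψ := by
  classical
  haveI : N.Normal := hN
  haveI : Fintype (IrrCharacter N) := Fintype.ofFinite _
  have hθc : Cfsg.IsCharacter G θ := isCharacter_of_irr hθ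
  have hθcl : Cfsg.IsClassFunction G θ := isClassFunction_of_isCharacter hθc
  have hθNc : Cfsg.IsCharacter N (fun n : N => θ n) := isCharacter_restrict N hθc
  set cF : G → (N → ℂ) := fun g n => χ ⟨g * n * g⁻¹, hN.conj_mem n n.2 g⟩ with hcF
  have hcFirr : ∀ g, Cfsg.IsIrrCharacter N (cF g) := fun g => isIrrCharacter_conjNormal N χ hχ g
  -- (a) the multiplicity is constant on the orbit
  have ha : ∀ g, Cfsg.classInner (fun n : N => θ n) (cF g) = Cfsg.classInner (fun n : N => θ n) χ := by
    intro g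
    rw [classInner_def, classInner_def]
    congr 1
    apply Fintype.sum_equiv (MulAut.conjNormal g : MulAut N).toEquiv
    intro n
    have h1 : θ (((MulAut.conjNormal g : MulAut N) n : N) : G) = θ n := by
      rw [MulAut.conjNormal_apply]; exact hθcl n g
    have h2 : χ ((MulAut.conjNormal g : MulAut N) n) = cF g n :=
      congrArg χ (Subtype.ext (MulAut.conjNormal_apply g n))
    simp only [MulEquiv.toEquiv_eq_coe, MulEquiv.coe_toEquiv]
    rw [h1, h2]
  -- (b) irreducible characters outside the orbit do not occur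
  have hb : ∀ ξ : N → ℂ, Cfsg.IsIrrCharacter N ξ → (¬ ∃ g, ξ = cF g) →
      Cfsg.classInner (fun n : N => θ n) ξ = 0 := by
    intro ξ hξ hne
    have h0 : Cfsg.classInner (Cfsg.indFun N ξ) (Cfsg.indFun N χ) = 0 :=
      (Cfsg.Agent.S1486.result N χ ξ hχ hξ).2 hne
    have hB : Cfsg.classInner (Cfsg.indFun N χ) θ ≠ 0 := by
      rw [Cfsg.Agent.Lib.H8.frobenius_reciprocity N χ θ hθcl, ← classInner_conj_symm]
      intro h
      apply hconst
      have := congrArg conj h
      simpa using this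
    have h3 := classInner_irr_eq_zero_of_orthogonal (isCharacter_indFun N (isCharacter_of_irr hξ))
      (isCharacter_indFun N (isCharacter_of_irr hχ)) hθ h0 hB
    rw [Cfsg.Agent.Lib.H8.frobenius_reciprocity N ξ θ hθcl] at h3
    rw [← classInner_conj_symm, h3, map_zero]
  -- the orbit as a finset
  have hset : {ψ : N → ℂ | ∃ g : G, ψ = fun n : N => χ ⟨g * n * g⁻¹, hN.conj_mem n n.2 g⟩}
      = ↑(Finset.univ.image cF) := by
    ext ψ
    simp only [Set.mem_ofPred_eq, Finset.coe_image, Finset.coe_univ, Set.image_univ, Set.mem_range]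
    constructor
    · rintro ⟨g, rfl⟩; exact ⟨g, rfl⟩
    · rintro ⟨g, rfl⟩; exact ⟨g, rfl⟩
  rw [hset, finsum_mem_coe_finset]
  have hexp := classFunction_expansion (fun n : N => θ n) (isClassFunction_of_isCharacter hθNc)
  obtain ⟨S, hSdef⟩ : ∃ S : Finset (IrrCharacter N),
      S = Finset.univ.filter (fun ξ : IrrCharacter N => (ξ : N → ℂ) ∈ Finset.univ.image cF) :=
    ⟨_, rfl⟩
  have hSmem : ∀ ξ : IrrCharacter N, ξ ∈ S ↔ ∃ g, cF g = (ξ : N → ℂ) := by
    intro ξ
    rw [hSdef]
    simp only [Finset.mem_image, Finset.mem_filter, Finset.mem_univ, true_and]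
  have hS : S.image (fun ξ : IrrCharacter N => (ξ : N → ℂ)) = Finset.univ.image cF := by
    ext ψ
    simp only [Finset.mem_image, Finset.mem_univ, true_and, hSmem]
    constructor
    · rintro ⟨ξ, ⟨g, hg⟩, rfl⟩
      exact ⟨g, hg⟩
    · rintro ⟨g, rfl⟩
      exact ⟨⟨cF g, hcFirr g⟩, ⟨g, rfl⟩, rfl⟩
  calc (fun n : N => θ n)
      = ∑ ξ : IrrCharacter N, Cfsg.classInner (fun n : N => θ n) (ξ : N → ℂ) • (ξ : N → ℂ) := hexp
    _ = ∑ ξ ∈ S, Cfsg.classInner (fun n : N => θ n) (ξ : N → ℂ) • (ξ : N → ℂ) := by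
        symm
        apply Finset.sum_subset (Finset.subset_univ _)
        intro ξ _ hmem
        rw [hb ξ.1 ξ.2, zero_smul]
        rintro ⟨g, hg⟩
        exact hmem ((hSmem ξ).mpr ⟨g, hg.symm⟩)
    _ = ∑ ξ ∈ S, Cfsg.classInner (fun n : N => θ n) χ • (ξ : N → ℂ) := by
        apply Finset.sum_congr rfl
        intro ξ hξ
        obtain ⟨g, hg⟩ := (hSmem ξ).mp hξ
        rw [← hg, ha g]
    _ = Cfsg.classInner (fun n : N => θ n) χ • ∑ ψ ∈ Finset.univ.image cF, ψ := by
        rw [← Finset.smul_sum, ← hS, Finset.sum_image]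
        intro x _ y _ hxy
        exact Subtype.ext hxy

end Cfsg.Agent.S0174
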