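import Cfsg.Statements.S0270
import Cfsg.Agent.S0768
import Cfsg.Agent.Lib.H2.SpPerfect
import Cfsg.Agent.Lib.H2.SpCenter
-- import your own Cfsg.Agent.* helpers here

set_option autoImplicit false
open Cfsg

namespace Cfsg.Agent.S0270

open Matrix Cfsg.Agent.Lib.H4 Cfsg.Agent.Lib.H2.Sp
open scoped LinearAlgebra.Projectivization MatrixGroups Pointwise

variable {F : Type*} [Field F] {m : ℕ}

/-- `Sp → GL` -/
def toGL : Matrix.symplecticGroup (Fin m) F →* GL (K m) F :=
  (Units.map (Matrix.symplecticGroup (Fin m) F).subtype).comp toUnits.toMonoidHom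

theorem toGL_val (g : Matrix.symplecticGroup (Fin m) F) :
    ((toGL g : GL (K m) F) : Matrix (K m) (K m) F) = g.1 := rfl

theorem toGL_smul (g : Matrix.symplecticGroup (Fin m) F) (v : K m → F) :
    (toGL g : GL (K m) F) • v = g.1 *ᵥ v := rfl

theorem toGL_mem (g : Matrix.symplecticGroup (Fin m) F) : toGL g ∈ Cfsg.spGL m F := by
  intro u v
  exact (mem_symplecticGroup_iff_sympForm m g.1).1 g.2 u v

def toSpGL : Matrix.symplecticGroup (Fin m) F →* ↥(Cfsg.spGL m F) :=
  toGL.codRestrict _ toGL_mem

theorem toSpGL_surj : Function.Surjective (toSpGL (F := F) (m := m)) := by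
  rintro ⟨A, hA⟩
  have hA' : A.1 ∈ Matrix.symplecticGroup (Fin m) F :=
    (mem_symplecticGroup_iff_sympForm m A.1).2 hA
  exact ⟨⟨A.1, hA'⟩, Subtype.ext (Units.ext rfl)⟩

/-- the action on projective points -/
def actP : MulAction (Matrix.symplecticGroup (Fin m) F) (ℙ F (K m → F)) :=
  MulAction.compHom _ toGL

attribute [local instance] actP

theorem smul_def' (g : Matrix.symplecticGroup (Fin m) F) (p : ℙ F (K m → F)) :
    g • p = (toGL g : GL (K m) F) • p := rfl

theorem smul_mk (g : Matrix.symplecticGroup (Fin m) F) (v : K m → F) (hv : v ≠ 0)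
    (hgv : g.1 *ᵥ v ≠ 0) :
    g • Projectivization.mk F v hv = Projectivization.mk F (g.1 *ᵥ v) hgv := by
  rw [smul_def', Projectivization.smul_mk]
  rfl

theorem mulVec_ne_zero (g : Matrix.symplecticGroup (Fin m) F) (v : K m → F) (hv : v ≠ 0) :
    g.1 *ᵥ v ≠ 0 := by
  intro h
  apply hv
  have : (g⁻¹ * g).1 *ᵥ v = v := by rw [inv_mul_cancel]; simp
  rw [← this, Submonoid.coe_mul, ← Matrix.mulVec_mulVec, h, Matrix.mulVec_zero]

theorem isPreprimitive [Finite F] (hm : 1 ≤ m) :
    MulAction.IsPreprimitive (Matrix.symplecticGroup (Fin m) F) (ℙ F (K m → F)) := by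
  have := Cfsg.Agent.S0768.result (F := F) m hm
  let f : (ℙ F (K m → F)) →ₑ[(toSpGL (F := F) (m := m))] (ℙ F (K m → F)) :=
    { toFun := id
      map_smul' := fun g p => rfl }
  exact (MulAction.isPreprimitive_congr (f := f) toSpGL_surj Function.bijective_id).2 this

/-- root subgroup of a point -/
def rootSub (p : ℙ F (K m → F)) : Subgroup (Matrix.symplecticGroup (Fin m) F) where
  carrier := {g | ∃ c : F, g = tv m p.rep c}
  mul_mem' := by
    rintro _ _ ⟨c, rfl⟩ ⟨d, rfl⟩
    exact ⟨c + d, tv_mul _ _ _⟩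
  one_mem' := ⟨0, (tv_zero_right _).symm⟩
  inv_mem' := by
    rintro _ ⟨c, rfl⟩
    refine ⟨-c, ?_⟩
    rw [inv_eq_iff_mul_eq_one, tv_mul, add_neg_cancel, tv_zero_right]

theorem tv_mem_rootSub (v : K m → F) (hv : v ≠ 0) (c : F) :
    tv m v c ∈ rootSub (Projectivization.mk F v hv) := by
  obtain ⟨a, ha⟩ := Projectivization.exists_smul_eq_mk_rep F v hv
  have hv' : v = (a⁻¹ : Fˣ) • (Projectivization.mk F v hv).rep := by
    rw [← ha, smul_smul, inv_mul_cancel, one_smul]
  refine ⟨c * ((a⁻¹ : Fˣ) : F) ^ 2, ?_⟩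
  conv_lhs => rw [hv']
  exact tv_smul _ _ _

theorem rootSub_conj (g : Matrix.symplecticGroup (Fin m) F) (p : ℙ F (K m → F)) :
    rootSub (g • p) = MulAut.conj g • rootSub p := by
  have key : ∀ (g : Matrix.symplecticGroup (Fin m) F) (p : ℙ F (K m → F)),
      MulAut.conj g • rootSub p ≤ rootSub (g • p) := by
    intro g p
    rintro _ ⟨_, ⟨c, rfl⟩, rfl⟩
    show g * tv m p.rep c * g⁻¹ ∈ rootSub (g • p)
    rw [conj_tv]
    have hp : p = Projectivization.mk F p.rep p.rep_nonzero := (Projectivization.mk_rep p).symm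
    have : g • p = Projectivization.mk F (g.1 *ᵥ p.rep) (mulVec_ne_zero g _ p.rep_nonzero) := by
      conv_lhs => rw [hp]
      exact smul_mk g _ _ _
    rw [this]
    exact tv_mem_rootSub _ _ _
  apply le_antisymm
  · have h1 := key g⁻¹ (g • p)
    rw [inv_smul_smul] at h1
    intro x hx
    rw [Subgroup.mem_pointwise_smul_iff_inv_smul_mem]
    apply h1
    rw [← map_inv]
    exact Subgroup.smul_mem_pointwise_smul _ _ _ hx
  · exact key g p

def iwasawa : MulAction.IwasawaStructure (Matrix.symplecticGroup (Fin m) F) (ℙ F (K m → F)) where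
  T := rootSub
  is_comm := fun p => ⟨⟨by
    rintro ⟨_, c, rfl⟩ ⟨_, d, rfl⟩
    apply Subtype.ext
    show tv m p.rep c * tv m p.rep d = tv m p.rep d * tv m p.rep c
    rw [tv_mul, tv_mul, add_comm]⟩⟩
  is_conj := rootSub_conj
  is_generator := by
    rw [eq_top_iff, ← TS_eq_top m]
    unfold TS
    rw [Subgroup.closure_le]
    rintro _ ⟨v, c, rfl⟩
    by_cases hv : v = 0
    · have : tv m v c = 1 := by
        apply Subtype.ext
        rw [tv_val, Matrix.ext_iff_mulVec]
        intro x
        rw [sympTransvection_mulVec, hv, smul_zero, add_zero]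
        simp
      rw [this]
      exact Subgroup.one_mem _
    · exact (le_iSup rootSub (Projectivization.mk F v hv)) (tv_mem_rootSub v hv c)

/-- an element fixing every point is central -/
theorem central_of_fix (hm : 1 ≤ m) (A : Matrix.symplecticGroup (Fin m) F)
    (hA : ∀ p : ℙ F (K m → F), A • p = p) :
    A ∈ Subgroup.center (Matrix.symplecticGroup (Fin m) F) := by
  classical
  have eig : ∀ v : K m → F, v ≠ 0 → ∃ c : F, A.1 *ᵥ v = c • v := by
    intro v hv
    have h1 := hA (Projectivization.mk F v hv)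
    rw [smul_mk A v hv (mulVec_ne_zero A v hv), Projectivization.mk_eq_mk_iff'] at h1
    obtain ⟨a, ha⟩ := h1
    exact ⟨a, ha.symm⟩
  have hne : ∀ i : K m, (Pi.single i 1 : K m → F) ≠ 0 := by
    intro i h
    have := congrFun h i
    simp at this
  choose lam hlam using fun i => eig (Pi.single i 1) (hne i)
  have hAe : ∀ k i, (A : Matrix _ _ F) k i = lam i * (if k = i then 1 else 0) := by
    intro k i
    have := congrFun (hlam i) k
    rw [Matrix.mulVec_single_one] at this
    rw [show (A : Matrix _ _ F) k i = ((A : Matrix _ _ F).col i) k from rfl, this]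
    simp [Pi.single_apply]
  have heq : ∀ i j, lam i = lam j := by
    intro i j
    by_cases hij : i = j
    · rw [hij]
    have hv : (Pi.single i 1 + Pi.single j 1 : K m → F) ≠ 0 := by
      intro h
      have := congrFun h i
      simp [hij] at this
    obtain ⟨μ, hμ⟩ := eig _ hv
    rw [Matrix.mulVec_add, hlam i, hlam j] at hμ
    have hi := congrFun hμ i
    have hj := congrFun hμ j
    simp [hij, Ne.symm hij] at hi hj
    rw [hi, hj]
  let i₀ : K m := Sum.inl ⟨0, hm⟩
  have hsc : (A : Matrix (K m) (K m) F) = lam i₀ • 1 := by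
    ext k i
    rw [hAe, heq i i₀, Matrix.smul_apply, Matrix.one_apply, smul_eq_mul]
  rw [Subgroup.mem_center_iff]
  intro g
  apply Subtype.ext
  rw [Submonoid.coe_mul, Submonoid.coe_mul, hsc]
  simp

/-- PSp_{2m}(q) is simple for m at least 2 and (m, q) other than (2, 2). -/
theorem result {F : Type*} [Field F] [Fintype F] (m : ℕ) (hm : 2 ≤ m) (h : m = 2 → 3 ≤ Fintype.card F) : IsSimpleGroup (Cfsg.PSp m F) := by
  have hm1 : 1 ≤ m := by omega
  have hperf : commutator (Matrix.symplecticGroup (Fin m) F) = ⊤ := by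
    apply perfect
    by_cases h3 : 3 ≤ m
    · exact Or.inl h3
    · have : m = 2 := by omega
      exact Or.inr (Or.inl ⟨this, h this⟩)
  have hprim := isPreprimitive (F := F) hm1
  -- dichotomy
  have dich : ∀ N : Subgroup (Matrix.symplecticGroup (Fin m) F), N.Normal →
      N ≤ Subgroup.center (Matrix.symplecticGroup (Fin m) F) ∨ N = ⊤ := by
    intro N hN
    by_cases hfix : MulAction.fixedPoints N (ℙ F (K m → F)) = Set.univ
    · left
      intro g hg
      apply central_of_fix hm1
      intro p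
      have : p ∈ MulAction.fixedPoints N (ℙ F (K m → F)) := by rw [hfix]; trivial
      exact this ⟨g, hg⟩
    · right
      have := iwasawa.commutator_le N hfix
      rw [hperf] at this
      exact top_le_iff.1 this
  have hcne : Subgroup.center (Matrix.symplecticGroup (Fin m) F) ≠ ⊤ := by
    intro htop
    have hcomm : commutator (Matrix.symplecticGroup (Fin m) F) = ⊥ := by
      rw [commutator_def, Subgroup.commutator_eq_bot_iff_le_centralizer, Subgroup.coe_top,
        Subgroup.centralizer_univ, htop]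
    have hbt : (⊥ : Subgroup (Matrix.symplecticGroup (Fin m) F)) = ⊤ := by rw [← hcomm, hperf]
    -- the group is trivial, but it moves e to f
    let e : K m → F := Pi.single (Sum.inl ⟨0, hm1⟩) 1
    let f : K m → F := Pi.single (Sum.inr ⟨0, hm1⟩) 1
    have he : e ≠ 0 := by
      intro h0
      have := congrFun h0 (Sum.inl ⟨0, hm1⟩)
      simp [e] at this
    have hf : f ≠ 0 := by
      intro h0
      have := congrFun h0 (Sum.inr ⟨0, hm1⟩)
      simp [f] at this
    obtain ⟨g, hg⟩ := MulAction.exists_smul_eq (Matrix.symplecticGroup (Fin m) F)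
      (Projectivization.mk F e he) (Projectivization.mk F f hf)
    have hg1 : g = 1 := by
      have : g ∈ (⊤ : Subgroup (Matrix.symplecticGroup (Fin m) F)) := Subgroup.mem_top g
      rw [← hbt, Subgroup.mem_bot] at this
      exact this
    rw [hg1, one_smul, Projectivization.mk_eq_mk_iff'] at hg
    obtain ⟨a, ha⟩ := hg
    have := congrFun ha (Sum.inl ⟨0, hm1⟩)
    simp [e, f] at this
  have : Nontrivial (Cfsg.PSp m F) := by
    rw [Cfsg.PSp, QuotientGroup.nontrivial_iff]
    exact hcne
  refine ⟨fun N' hN' => ?_⟩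
  rcases dich (N'.comap (QuotientGroup.mk' _)) (Subgroup.Normal.comap hN' _) with h1 | h1
  · left
    rw [Subgroup.eq_bot_iff_forall]
    intro x hx
    obtain ⟨g, rfl⟩ := QuotientGroup.mk_surjective x
    have : g ∈ Subgroup.center (Matrix.symplecticGroup (Fin m) F) := h1 hx
    exact (QuotientGroup.eq_one_iff g).2 this
  · right
    rw [eq_top_iff]
    intro x _
    obtain ⟨g, rfl⟩ := QuotientGroup.mk_surjective x
    have : g ∈ N'.comap (QuotientGroup.mk' _) := by rw [h1]; trivial
    exact this

end Cfsg.Agent.S0270
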