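import Cfsg.Statements.S5080
import Cfsg.Agent.Lib.H25.Fusion
import Cfsg.Agent.Lib.H25.Basic

set_option autoImplicit false
open Cfsg

namespace Cfsg.Agent.S5080

open Cfsg.FusionSystem Cfsg.Agent.Lib.H25

/-- In a saturated fusion system over a finite p-group, every essential subgroup is radical (it is centric and fully normalized by definition, so it is centric-radical and fully normalized). -/
theorem result {Ω : Type*} [Group Ω] {S : Subgroup Ω} [Finite S] (p : ℕ) [Fact p.Prime] (hS : IsPGroup p S) (F : Cfsg.FusionSystem S) (hF : F.IsSaturated p) (P : Subgroup Ω) (hP : F.IsEssential p P) : F.IsRadical p P := by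
  obtain ⟨hcen, -, hnorm, E, hE⟩ := hP
  have hPS : P ≤ S := hcen.1
  refine ⟨hPS, ?_⟩
  have hfinP : Finite P := Finite.of_injective (Subgroup.inclusion hPS) (Subgroup.inclusion_injective hPS)
  have hfinA : Finite (F.autGroup P) := inferInstance
  -- Inn P ≤ Aut_F(P)
  have hInn : Inn P ≤ F.autGroup P := by
    rintro _ ⟨x, rfl⟩
    apply autInducedBy_le_autGroup F hPS
    rw [mem_autInducedBy_iff]
    exact ⟨x, hPS x.2, fun y => rfl⟩
  -- Inn P is a p-group
  have hPp : IsPGroup p P := hS.to_le hPS
  have hInnp : IsPGroup p (Inn P) := by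
    have : IsPGroup p (MulAut.conj : P →* MulAut P).range := hPp.to_quotient _ |>.of_equiv
      (QuotientGroup.quotientKerEquivRange (MulAut.conj : P →* MulAut P))
    exact this
  set A := F.autGroup P with hA
  set I := (Inn P).subgroupOf A with hI
  have hIp : IsPGroup p I := hInnp.comap_subtype
  have hXcore : pCore p (A ⧸ I) = ⊥ := pCore_eq_bot_of_stronglyPEmbedded hE
  have hC : pCore p A = I := by
    apply le_antisymm
    · -- image of the core in the quotient is a normal p-subgroup
      have h1 : (pCore p A).map (QuotientGroup.mk' I) ≤ pCore p (A ⧸ I) := by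
        apply le_pCore
        · exact Subgroup.Normal.map inferInstance _ (QuotientGroup.mk'_surjective I)
        · exact (pCore_isPGroup p A).map _
      rw [hXcore, le_bot_iff, Subgroup.map_eq_bot_iff, QuotientGroup.ker_mk'] at h1
      exact h1
    · exact le_pCore hnorm hIp
  rw [hC, hI, Subgroup.subgroupOf_map_subtype, inf_eq_left.2 hInn]

end Cfsg.Agent.S5080
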