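import Cfsg.Statements.S5096
import Cfsg.Agent.Lib.H25.Fusion

set_option autoImplicit false
open Cfsg

namespace Cfsg.Agent.S5096

open Cfsg.FusionSystem Cfsg.Agent.Lib.H25

variable {Ω : Type*} [Group Ω] {S : Subgroup Ω}

/-- Function-level description of the maps of the normalizer system. -/
theorem mem_normalizerHom_iff (F : FusionSystem S) (Q P : Subgroup Ω) (φ : P →* Ω) :
    φ ∈ F.normalizerHom Q P ↔ φ ∈ F.Hom P ∧ P ≤ normalizerIn S Q ∧ (∀ x : P, φ x ∈ normalizerIn S Q) ∧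
      ∃ (f : Ω → Ω) (B : Subgroup Ω), IsIso F (P ⊔ Q) B f ∧ (∀ x : P, f x = φ x) ∧
        (∀ x ∈ Q, f x ∈ Q) ∧ (∀ y ∈ Q, ∃ x ∈ Q, f x = y) := by
  constructor
  · rintro ⟨h1, h2, h3, ψ, hψ, hψφ, hψQ⟩
    refine ⟨h1, h2, h3, ext1 ψ, ψ.range, isIso_of_mem F hψ, fun x => ?_, fun x hx => ?_, fun y hy => ?_⟩
    · rw [← hψφ x]
      exact ext1_apply_mem ψ _
    · rw [ext1_apply_mem ψ ((le_sup_right : Q ≤ P ⊔ Q) hx)]
      have : ψ ⟨x, (le_sup_right : Q ≤ P ⊔ Q) hx⟩ ∈ (Q.subgroupOf (P ⊔ Q)).map ψ :=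
        ⟨_, Subgroup.mem_subgroupOf.2 hx, rfl⟩
      rwa [hψQ] at this
    · have : y ∈ (Q.subgroupOf (P ⊔ Q)).map ψ := by rw [hψQ]; exact hy
      obtain ⟨x, hx, rfl⟩ := this
      exact ⟨x, Subgroup.mem_subgroupOf.1 hx, ext1_apply ψ x⟩
  · rintro ⟨h1, h2, h3, f, B, hf, hfφ, hfQ, hfQ'⟩
    obtain ⟨ψ, hψ, hψf, -⟩ := hf
    refine ⟨h1, h2, h3, ψ, hψ, fun x => ?_, ?_⟩
    · rw [hψf]; exact hfφ x
    · ext y
      constructor
      · rintro ⟨x, hx, rfl⟩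
        rw [hψf]
        exact hfQ _ (Subgroup.mem_subgroupOf.1 hx)
      · intro hy
        obtain ⟨x, hx, rfl⟩ := hfQ' y hy
        exact ⟨⟨x, (le_sup_right : Q ≤ P ⊔ Q) hx⟩, Subgroup.mem_subgroupOf.2 hx, hψf _⟩

/-- The normalizer system as a fusion system over `N_S(Q)`. -/
def normSys (F : FusionSystem S) (Q : Subgroup Ω) (hQ : Q ≤ S) : FusionSystem (normalizerIn S Q) where
  Hom P := F.normalizerHom Q P
  le_of_mem h := ⟨h.2.1, h.2.2.1⟩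
  injective_of_mem h := F.injective_of_mem h.1
  conj_mem := by
    intro P g hP hg
    have hPS : P ≤ S := hP.trans inf_le_left
    have hPQ : P ⊔ Q ≤ S := sup_le hPS hQ
    rw [mem_normalizerHom_iff]
    refine ⟨F.conj_mem hPS hg.1, hP, fun x => ?_, fun x => g * x * g⁻¹, _,
      IsIso.conj hPQ hg.1, fun x => rfl, fun x hx => ?_, fun y hy => ?_⟩
    · exact Subgroup.mul_mem _ (Subgroup.mul_mem _ hg (hP x.2)) (Subgroup.inv_mem _ hg)
    · exact (Subgroup.mem_normalizer_iff.1 hg.2 x).1 hx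
    · refine ⟨g⁻¹ * y * g, ?_, by group⟩
      have := (Subgroup.mem_normalizer_iff.1 (Subgroup.inv_mem _ hg.2) y).1 hy
      simpa using this
  comp_mem := by
    intro P R φ ψ hφ hψ h
    rw [mem_normalizerHom_iff] at hφ hψ ⊢
    obtain ⟨hφ1, hφ2, hφ3, f, B, hf, hfφ, hfQ, hfQ'⟩ := hφ
    obtain ⟨hψ1, hψ2, hψ3, k, C, hk, hkψ, hkQ, hkQ'⟩ := hψ
    refine ⟨F.comp_mem hφ1 hψ1 h, hφ2, fun x => hψ3 _, ?_⟩
    -- f maps P ⊔ Q into R ⊔ Q
    have hB : B ≤ R ⊔ Q := by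
      intro y hy
      obtain ⟨x, hx, rfl⟩ := hf.surjOn hy
      have : P ⊔ Q ≤ hf.pre (R ⊔ Q) := by
        apply sup_le
        · intro a ha
          refine ⟨(le_sup_left : P ≤ P ⊔ Q) ha, (le_sup_left : R ≤ R ⊔ Q) ?_⟩
          rw [hfφ ⟨a, ha⟩]
          exact h ⟨a, ha⟩
        · intro a ha
          exact ⟨(le_sup_right : Q ≤ P ⊔ Q) ha, (le_sup_right : Q ≤ R ⊔ Q) (hfQ a ha)⟩
      exact (this hx).2
    obtain ⟨C', -, hk', -⟩ := hk.restrict hB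
    refine ⟨k ∘ f, C', hf.trans hk', fun x => ?_, fun x hx => ?_, fun y hy => ?_⟩
    · show k (f x) = ψ ⟨φ x, h x⟩
      rw [hfφ x]
      exact hkψ ⟨φ x, h x⟩
    · exact hkQ _ (hfQ x hx)
    · obtain ⟨z, hz, rfl⟩ := hkQ' y hy
      obtain ⟨x, hx, rfl⟩ := hfQ' z hz
      exact ⟨x, hx, rfl⟩
  inv_mem := by
    intro P φ hφ
    rw [mem_normalizerHom_iff] at hφ
    obtain ⟨hφ1, hφ2, hφ3, f, B, hf, hfφ, hfQ, hfQ'⟩ := hφ
    obtain ⟨g, hg, hgf, hfg⟩ := hf.symm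
    -- restriction of f to P and Q
    have hfP : IsIso F P φ.range f := by
      refine hf.restrict' le_sup_left (fun x hx => ⟨⟨x, hx⟩, (hfφ ⟨x, hx⟩).symm⟩) ?_
      rintro _ ⟨x, rfl⟩
      exact ⟨x, x.2, hfφ x⟩
    have hfQQ : IsIso F Q Q f := hf.restrict' le_sup_right hfQ hfQ'
    have hB : B = φ.range ⊔ Q := hf.image_sup hfP hfQQ
    subst hB
    have hgP : IsIso F φ.range P g := by
      refine hg.restrict' le_sup_left ?_ ?_
      · rintro _ ⟨x, rfl⟩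
        rw [← hfφ x, hgf _ ((le_sup_left : P ≤ P ⊔ Q) x.2)]
        exact x.2
      · intro x hx
        exact ⟨f x, ⟨⟨x, hx⟩, (hfφ ⟨x, hx⟩).symm⟩, hgf _ ((le_sup_left : P ≤ P ⊔ Q) hx)⟩
    obtain ⟨ψ, hψ, hψg, -⟩ := hgP
    refine ⟨ψ, ?_, fun x => ?_⟩
    · rw [mem_normalizerHom_iff]
      refine ⟨hψ, ?_, fun y => ?_, g, _, hg, fun y => (hψg y).symm, fun x hx => ?_, fun y hy => ?_⟩
      · rintro _ ⟨x, rfl⟩
        exact hφ3 x
      · obtain ⟨_, x, rfl⟩ := y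
        rw [hψg]
        show g (φ x) ∈ _
        rw [← hfφ x, hgf _ ((le_sup_left : P ≤ P ⊔ Q) x.2)]
        exact hφ2 x.2
      · obtain ⟨z, hz, rfl⟩ := hfQ' x hx
        rw [hgf _ ((le_sup_right : Q ≤ P ⊔ Q) hz)]
        exact hz
      · exact ⟨f y, hfQ y hy, hgf _ ((le_sup_right : Q ≤ P ⊔ Q) hy)⟩
    · rw [hψg]
      show g (φ x) = x
      rw [← hfφ x, hgf _ ((le_sup_left : P ≤ P ⊔ Q) x.2)]

/-- For any fusion system over a subgroup S and any Q ≤ S, the maps of the normalizer system N_F(Q) — those maps between subgroups of N_S(Q) that extend to the subgroup generated with Q carrying Q onto Q — form a fusion system over N_S(Q). -/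
theorem result {Ω : Type*} [Group Ω] {S : Subgroup Ω} (F : Cfsg.FusionSystem S) (Q : Subgroup Ω) (hQ : Q ≤ S) : ∃ E : Cfsg.FusionSystem (Cfsg.FusionSystem.normalizerIn S Q), F.IsNormalizerSystem Q E :=
  ⟨normSys F Q hQ, fun _ => rfl⟩

end Cfsg.Agent.S5096
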