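import Cfsg.Statements.S5097
import Cfsg.Agent.Lib.H25.Fusion

set_option autoImplicit false
open Cfsg

namespace Cfsg.Agent.S5097

open Cfsg.FusionSystem Cfsg.Agent.Lib.H25

variable {Ω : Type*} [Group Ω] {S : Subgroup Ω}

/-- Function-level description of the maps of the centralizer system. -/
theorem mem_centralizerHom_iff (F : FusionSystem S) (Q P : Subgroup Ω) (φ : P →* Ω) :
    φ ∈ F.centralizerHom Q P ↔ φ ∈ F.Hom P ∧ P ≤ centralizerIn S Q ∧ (∀ x : P, φ x ∈ centralizerIn S Q) ∧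
      ∃ (f : Ω → Ω) (B : Subgroup Ω), IsIso F (P ⊔ Q) B f ∧ (∀ x : P, f x = φ x) ∧
        (∀ x ∈ Q, f x = x) := by
  constructor
  · rintro ⟨h1, h2, h3, ψ, hψ, hψφ, hψQ⟩
    refine ⟨h1, h2, h3, ext1 ψ, ψ.range, isIso_of_mem F hψ, fun x => ?_, fun x hx => ?_⟩
    · rw [← hψφ x]
      exact ext1_apply_mem ψ _
    · rw [ext1_apply_mem ψ ((le_sup_right : Q ≤ P ⊔ Q) hx)]
      exact hψQ ⟨x, hx⟩
  · rintro ⟨h1, h2, h3, f, B, hf, hfφ, hfQ⟩
    obtain ⟨ψ, hψ, hψf, -⟩ := hf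
    refine ⟨h1, h2, h3, ψ, hψ, fun x => ?_, fun x => ?_⟩
    · rw [hψf]; exact hfφ x
    · rw [hψf]; exact hfQ x x.2

/-- The centralizer system as a fusion system over `C_S(Q)`. -/
def centSys (F : FusionSystem S) (Q : Subgroup Ω) (hQ : Q ≤ S) : FusionSystem (centralizerIn S Q) where
  Hom P := F.centralizerHom Q P
  le_of_mem h := ⟨h.2.1, h.2.2.1⟩
  injective_of_mem h := F.injective_of_mem h.1
  conj_mem := by
    intro P g hP hg
    have hPS : P ≤ S := hP.trans inf_le_left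
    have hPQ : P ⊔ Q ≤ S := sup_le hPS hQ
    rw [mem_centralizerHom_iff]
    refine ⟨F.conj_mem hPS hg.1, hP, fun x => ?_, fun x => g * x * g⁻¹, _,
      IsIso.conj hPQ hg.1, fun x => rfl, fun x hx => ?_⟩
    · exact Subgroup.mul_mem _ (Subgroup.mul_mem _ hg (hP x.2)) (Subgroup.inv_mem _ hg)
    · have := hg.2 x hx
      show g * x * g⁻¹ = x
      rw [← this]; group
  comp_mem := by
    intro P R φ ψ hφ hψ h
    rw [mem_centralizerHom_iff] at hφ hψ ⊢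
    obtain ⟨hφ1, hφ2, hφ3, f, B, hf, hfφ, hfQ⟩ := hφ
    obtain ⟨hψ1, hψ2, hψ3, k, C, hk, hkψ, hkQ⟩ := hψ
    refine ⟨F.comp_mem hφ1 hψ1 h, hφ2, fun x => hψ3 _, ?_⟩
    have hB : B ≤ R ⊔ Q := by
      intro y hy
      obtain ⟨x, hx, rfl⟩ := hf.surjOn hy
      have : P ⊔ Q ≤ hf.pre (R ⊔ Q) := by
        apply sup_le
        · intro a ha
          refine ⟨(le_sup_left : P ≤ P ⊔ Q) ha, (le_sup_left : R ≤ R ⊔ Q) ?_⟩
          rw [hfφ ⟨a, ha⟩]
          exact h ⟨a, ha⟩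
        · intro a ha
          refine ⟨(le_sup_right : Q ≤ P ⊔ Q) ha, (le_sup_right : Q ≤ R ⊔ Q) ?_⟩
          rw [hfQ a ha]; exact ha
      exact (this hx).2
    obtain ⟨C', -, hk', -⟩ := hk.restrict hB
    refine ⟨k ∘ f, C', hf.trans hk', fun x => ?_, fun x hx => ?_⟩
    · show k (f x) = ψ ⟨φ x, h x⟩
      rw [hfφ x]
      exact hkψ ⟨φ x, h x⟩
    · show k (f x) = x
      rw [hfQ x hx, hkQ x hx]
  inv_mem := by
    intro P φ hφ
    rw [mem_centralizerHom_iff] at hφ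
    obtain ⟨hφ1, hφ2, hφ3, f, B, hf, hfφ, hfQ⟩ := hφ
    obtain ⟨g, hg, hgf, hfg⟩ := hf.symm
    have hfP : IsIso F P φ.range f := by
      refine hf.restrict' le_sup_left (fun x hx => ⟨⟨x, hx⟩, (hfφ ⟨x, hx⟩).symm⟩) ?_
      rintro _ ⟨x, rfl⟩
      exact ⟨x, x.2, hfφ x⟩
    have hfQQ : IsIso F Q Q f :=
      hf.restrict' le_sup_right (fun x hx => by rw [hfQ x hx]; exact hx)
        (fun y hy => ⟨y, hy, hfQ y hy⟩)
    have hB : B = φ.range ⊔ Q := hf.image_sup hfP hfQQ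
    subst hB
    have hgP : IsIso F φ.range P g := by
      refine hg.restrict' le_sup_left ?_ ?_
      · rintro _ ⟨x, rfl⟩
        rw [← hfφ x, hgf _ ((le_sup_left : P ≤ P ⊔ Q) x.2)]
        exact x.2
      · intro x hx
        exact ⟨f x, ⟨⟨x, hx⟩, (hfφ ⟨x, hx⟩).symm⟩, hgf _ ((le_sup_left : P ≤ P ⊔ Q) hx)⟩
    obtain ⟨ψ, hψ, hψg, -⟩ := hgP
    refine ⟨ψ, ?_, fun x => ?_⟩
    · rw [mem_centralizerHom_iff]
      refine ⟨hψ, ?_, fun y => ?_, g, _, hg, fun y => (hψg y).symm, fun x hx => ?_⟩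
      · rintro _ ⟨x, rfl⟩
        exact hφ3 x
      · obtain ⟨_, x, rfl⟩ := y
        rw [hψg]
        show g (φ x) ∈ _
        rw [← hfφ x, hgf _ ((le_sup_left : P ≤ P ⊔ Q) x.2)]
        exact hφ2 x.2
      · have := hgf x ((le_sup_right : Q ≤ P ⊔ Q) hx)
        rwa [hfQ x hx] at this
    · rw [hψg]
      show g (φ x) = x
      rw [← hfφ x, hgf _ ((le_sup_left : P ≤ P ⊔ Q) x.2)]

/-- For any fusion system over a subgroup S and any Q ≤ S, the maps of the centralizer system C_F(Q) — those maps between subgroups of C_S(Q) that extend to the subgroup generated with Q fixing Q elementwise — form a fusion system over C_S(Q). -/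
theorem result {Ω : Type*} [Group Ω] {S : Subgroup Ω} (F : Cfsg.FusionSystem S) (Q : Subgroup Ω) (hQ : Q ≤ S) : ∃ E : Cfsg.FusionSystem (Cfsg.FusionSystem.centralizerIn S Q), F.IsCentralizerSystem Q E :=
  ⟨centSys F Q hQ, fun _ => rfl⟩

end Cfsg.Agent.S5097
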