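import Cfsg.Statements.S0119
import Mathlib
import Cfsg.Agent.Lib.H16.ClassTwo
import Cfsg.Agent.Lib.H16.PGroupCenter
import Cfsg.Agent.Lib.H1.PGroupBasic

set_option autoImplicit false
open Cfsg

namespace Cfsg.Agent.S0119

open Cfsg.Agent.Lib.H16
open scoped commutatorElement

section trace

variable {G : Type*} [Group G] [Finite G]

/-- The "trace" homomorphism `x ↦ ∏_{a ∈ A} a(x)` into the abelianization. -/
noncomputable def traceHom (A : Subgroup (MulAut G)) [Fintype A] : G →* Abelianization G :=
  ∏ a : A, (Abelianization.of).comp ((a : MulAut G).toMonoidHom)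

theorem traceHom_apply (A : Subgroup (MulAut G)) [Fintype A] (x : G) :
    traceHom A x = ∏ a : A, Abelianization.of ((a : MulAut G) x) := by
  unfold traceHom
  rw [MonoidHom.finset_prod_apply]
  rfl

theorem traceHom_apply_aut (A : Subgroup (MulAut G)) [Fintype A] (a₀ : A) (x : G) :
    traceHom A ((a₀ : MulAut G) x) = traceHom A x := by
  rw [traceHom_apply, traceHom_apply]
  apply Fintype.prod_equiv (Equiv.mulRight a₀)
  intro a
  rfl

/-- If `G = [G, A]` then the trace homomorphism is trivial. -/
theorem traceHom_eq_one (A : Subgroup (MulAut G)) [Fintype A]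
    (hGA : Subgroup.closure {x : G | ∃ g : G, ∃ a ∈ A, x = g⁻¹ * a g} = ⊤) (x : G) :
    traceHom A x = 1 := by
  have hle : Subgroup.closure {x : G | ∃ g : G, ∃ a ∈ A, x = g⁻¹ * a g} ≤ (traceHom A).ker := by
    rw [Subgroup.closure_le]
    rintro _ ⟨g, a, ha, rfl⟩
    change _ ∈ (traceHom A).ker
    rw [MonoidHom.mem_ker, map_mul, map_inv]
    have := traceHom_apply_aut A ⟨a, ha⟩ g
    rw [show ((⟨a, ha⟩ : A) : MulAut G) g = a g from rfl] at this
    rw [this, inv_mul_cancel]
  rw [hGA] at hle
  exact hle (Subgroup.mem_top x)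

/-- **Coprime action, no fixed points modulo `N`**: if `G = [G, A]` is a `p`-group, `A` a
`p'`-group, `N` a normal subgroup containing `G'`, and `g` is fixed by `A` modulo `N`, then
`g ∈ N`. -/
theorem mem_of_fixed_mod {p : ℕ} [Fact p.Prime] (hG : IsPGroup p G) (A : Subgroup (MulAut G))
    (hA : Nat.Coprime (Nat.card A) p)
    (hGA : Subgroup.closure {x : G | ∃ g : G, ∃ a ∈ A, x = g⁻¹ * a g} = ⊤)
    (N : Subgroup G) (hN : commutator G ≤ N) (g : G) (hg : ∀ a ∈ A, g⁻¹ * a g ∈ N) : g ∈ N := by
  classical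
  haveI : Finite (MulAut G) :=
    Finite.of_injective (fun a : MulAut G => (a : G → G)) DFunLike.coe_injective
  haveI : Fintype A := Fintype.ofFinite A
  have h1 := traceHom_eq_one A hGA g
  rw [traceHom_apply] at h1
  have h2 : ∀ a : A, Abelianization.of ((a : MulAut G) g) =
      Abelianization.of g * Abelianization.of (g⁻¹ * (a : MulAut G) g) := by
    intro a
    rw [← map_mul]
    congr 1
    group
  simp_rw [h2] at h1
  rw [Finset.prod_mul_distrib, Finset.prod_const, Finset.card_univ] at h1
  have h3 : (∏ a : A, Abelianization.of (g⁻¹ * (a : MulAut G) g)) ∈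
      N.map (Abelianization.of) := by
    apply Subgroup.prod_mem
    intro a _
    exact Subgroup.mem_map_of_mem _ (hg a a.2)
  have h4 : Abelianization.of (g ^ Fintype.card A) ∈ N.map (Abelianization.of) := by
    rw [map_pow]
    have : Abelianization.of g ^ Fintype.card A =
        (∏ a : A, Abelianization.of (g⁻¹ * (a : MulAut G) g))⁻¹ := eq_inv_of_mul_eq_one_left h1
    rw [this]
    exact Subgroup.inv_mem _ h3
  have h5 : g ^ Fintype.card A ∈ N := by
    have h6 : g ^ Fintype.card A ∈ (N.map (Abelianization.of)).comap (Abelianization.of) := h4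
    rw [Subgroup.comap_map_eq, Abelianization.ker_of] at h6
    rwa [sup_eq_left.mpr hN] at h6
  obtain ⟨m, hm⟩ := IsPGroup.iff_orderOf.mp hG g
  have hcop : (Fintype.card A).Coprime (orderOf g) := by
    rw [hm, ← Nat.card_eq_fintype_card]
    exact Nat.Coprime.pow_right _ hA
  obtain ⟨u, hu⟩ := exists_pow_eq_self_of_coprime hcop
  rw [← hu]
  exact N.pow_mem h5 u

end trace

theorem commutatorElement_central_mul_left {G : Type*} [Group G] {z : G}
    (hz : z ∈ Subgroup.center G) (g b : G) : ⁅z * g, b⁆ = ⁅g, b⁆ := by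
  have h1 := Subgroup.mem_center_iff.mp hz (g * b * g⁻¹)
  calc ⁅z * g, b⁆ = z * (g * b * g⁻¹) * z⁻¹ * b⁻¹ := by rw [commutatorElement_def]; group
    _ = (g * b * g⁻¹) * z * z⁻¹ * b⁻¹ := by rw [h1]
    _ = ⁅g, b⁆ := by rw [commutatorElement_def]; group

theorem commutatorElement_central_mul_right {G : Type*} [Group G] {z : G}
    (hz : z ∈ Subgroup.center G) (a h : G) : ⁅a, z * h⁆ = ⁅a, h⁆ := by
  have h1 := Subgroup.mem_center_iff.mp hz a
  have h2 := Subgroup.mem_center_iff.mp hz (a * h * a⁻¹ * h⁻¹)
  calc ⁅a, z * h⁆ = (a * z) * h * a⁻¹ * h⁻¹ * z⁻¹ := by rw [commutatorElement_def]; group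
    _ = (z * a) * h * a⁻¹ * h⁻¹ * z⁻¹ := by rw [h1]
    _ = z * (a * h * a⁻¹ * h⁻¹) * z⁻¹ := by group
    _ = (a * h * a⁻¹ * h⁻¹) * z * z⁻¹ := by rw [h2]
    _ = ⁅a, h⁆ := by rw [commutatorElement_def]; group

/-- An element of the second centre commutes with every commutator. -/
theorem commute_commutator_of_mem_secondCenter {G : Type*} [Group G] {x : G}
    (hx : ∀ g : G, ⁅x, g⁆ ∈ Subgroup.center G) (g h : G) : Commute x ⁅g, h⁆ := by
  have h1 : x * ⁅g, h⁆ * x⁻¹ = ⁅⁅x, g⁆ * g, ⁅x, h⁆ * h⁆ := by
    simp only [commutatorElement_def]; group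
  rw [commutatorElement_central_mul_left (hx g), commutatorElement_central_mul_right (hx h)] at h1
  have : x * ⁅g, h⁆ = ⁅g, h⁆ * x := by
    calc x * ⁅g, h⁆ = x * ⁅g, h⁆ * x⁻¹ * x := by group
      _ = ⁅g, h⁆ * x := by rw [h1]
  exact this


/-- If a p'-group A of automorphisms of a p-group G satisfies G = [G, A] and acts trivially on every characteristic abelian subgroup, then G is special with centre equal to the fixed points of A. -/
theorem result {G : Type*} [Group G] [Finite G] {p : ℕ} [Fact p.Prime] (hG : IsPGroup p G) (A : Subgroup (MulAut G)) (hA : Nat.Coprime (Nat.card A) p) (hGA : Subgroup.closure {x : G | ∃ g : G, ∃ a ∈ A, x = g⁻¹ * a g} = ⊤) (hchar : ∀ H : Subgroup G, H.Characteristic → IsMulCommutative H → ∀ a ∈ A, ∀ h ∈ H, a h = h) : Cfsg.IsSpecial p G ∧ (∀ g : G, (g ∈ Subgroup.center G ↔ ∀ a ∈ A, a g = g)) := by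
  have hp : p.Prime := Fact.out
  -- Step A: characteristic abelian subgroups are central
  have stepA : ∀ M : Subgroup G, M.Characteristic → IsMulCommutative M → M ≤ Subgroup.center G := by
    intro M hMc hMa m hm
    have hMn : M.Normal := inferInstance
    have hfix := hchar M hMc hMa
    have hle : Subgroup.closure {x : G | ∃ g : G, ∃ a ∈ A, x = g⁻¹ * a g} ≤
        Subgroup.centralizer ({m} : Set G) := by
      rw [Subgroup.closure_le]
      rintro _ ⟨g, a, ha, rfl⟩
      change _ ∈ Subgroup.centralizer ({m} : Set G)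
      rw [Subgroup.mem_centralizer_singleton_iff]
      have hx' : g * m * g⁻¹ ∈ M := hMn.conj_mem m hm g
      have e := hfix a ha _ hx'
      rw [map_mul, map_mul, map_inv, hfix a ha m hm] at e
      have e2 : a g * m = g * m * g⁻¹ * a g := by
        rw [← e]; group
      calc g⁻¹ * a g * m = g⁻¹ * (a g * m) := by group
        _ = g⁻¹ * (g * m * g⁻¹ * a g) := by rw [e2]
        _ = m * (g⁻¹ * a g) := by group
    rw [hGA] at hle
    rw [Subgroup.mem_center_iff]
    intro g
    have := hle (Subgroup.mem_top g)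
    rw [Subgroup.mem_centralizer_singleton_iff] at this
    exact this
  set Z : Subgroup G := Subgroup.center G with hZ
  -- Step B: class at most two
  have stepB : commutator G ≤ Z := by
    set Y : Subgroup G := Subgroup.upperCentralSeries G 2 ⊓ commutator G with hY
    have hmemZ2 : ∀ x : G, x ∈ Subgroup.upperCentralSeries G 2 ↔ ∀ g : G, ⁅x, g⁆ ∈ Subgroup.center G := by
      intro x
      rw [show (2 : ℕ) = 1 + 1 from rfl, Subgroup.mem_upperCentralSeries_succ_iff,
        Subgroup.upperCentralSeries_one]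
    have hYchar : Y.Characteristic := by
      rw [Subgroup.characteristic_iff_map_le]
      rintro φ _ ⟨y, hy, rfl⟩
      obtain ⟨hy2, hyc⟩ := Subgroup.mem_inf.mp hy
      have h1 : (Subgroup.upperCentralSeries G 2).Characteristic := inferInstance
      have h2 : (commutator G).Characteristic := by rw [commutator_def]; infer_instance
      exact Subgroup.mem_inf.mpr
        ⟨Subgroup.characteristic_iff_map_le.mp h1 φ (Subgroup.mem_map_of_mem _ hy2),
          Subgroup.characteristic_iff_map_le.mp h2 φ (Subgroup.mem_map_of_mem _ hyc)⟩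
    have hYab : IsMulCommutative Y := by
      rw [isMulCommutative_iff_of_setLike]
      intro x hx y hy
      obtain ⟨hx2, -⟩ := Subgroup.mem_inf.mp hx
      obtain ⟨-, hyc⟩ := Subgroup.mem_inf.mp hy
      have hx2' := (hmemZ2 x).mp hx2
      have hle : commutator G ≤ Subgroup.centralizer ({x} : Set G) := by
        rw [commutator_def, Subgroup.commutator_def, Subgroup.closure_le]
        rintro _ ⟨g, -, h, -, rfl⟩
        change _ ∈ Subgroup.centralizer ({x} : Set G)
        rw [Subgroup.mem_centralizer_singleton_iff]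
        exact (commute_commutator_of_mem_secondCenter hx2' g h).eq.symm
      have := hle hyc
      rw [Subgroup.mem_centralizer_singleton_iff] at this
      exact this.symm
    have hYZ : Y ≤ Z := stepA Y hYchar hYab
    by_contra hnot
    set Nb : Subgroup (G ⧸ Z) := (commutator G).map (QuotientGroup.mk' Z) with hNb
    haveI : Nb.Normal := Subgroup.Normal.map inferInstance _ (QuotientGroup.mk'_surjective Z)
    have hNbne : Nb ≠ ⊥ := by
      intro hb
      apply hnot
      intro d hd
      have h1 : (QuotientGroup.mk' Z) d ∈ Nb := Subgroup.mem_map_of_mem _ hd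
      rw [hb, Subgroup.mem_bot, QuotientGroup.mk'_apply, QuotientGroup.eq_one_iff] at h1
      exact h1
    have hPb : IsPGroup p (G ⧸ Z) := hG.to_quotient Z
    obtain ⟨z, hzN, hz1, hzc⟩ := exists_ne_one_mem_center_of_normal' hp hPb Nb hNbne
    obtain ⟨d, hd, hdz⟩ := Subgroup.mem_map.mp hzN
    have hd2 : d ∈ Subgroup.upperCentralSeries G 2 := by
      rw [hmemZ2]
      intro g
      change ⁅d, g⁆ ∈ Z
      rw [← QuotientGroup.eq_one_iff]
      have h1 : ((⁅d, g⁆ : G) : G ⧸ Z) = ⁅(QuotientGroup.mk' Z) d, (QuotientGroup.mk' Z) g⁆ := by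
        rw [← map_commutatorElement]; rfl
      rw [h1, hdz, commutatorElement_eq_one_iff_commute]
      exact (Subgroup.mem_center_iff.mp hzc _).symm
    have hdZ : d ∈ Z := hYZ (Subgroup.mem_inf.mpr ⟨hd2, hd⟩)
    apply hz1
    rw [← hdz, QuotientGroup.mk'_apply, QuotientGroup.eq_one_iff]
    exact hdZ
  have hcc : ∀ g h k : G, Commute ⁅g, h⁆ k := by
    intro g h k
    have : ⁅g, h⁆ ∈ Z := stepB (Subgroup.commutator_mem_commutator (Subgroup.mem_top g)
      (Subgroup.mem_top h))
    exact (Subgroup.mem_center_iff.mp this k).symm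
  -- Step C: p-th powers are central
  have descent : ∀ e : ℕ, 1 ≤ e → (∀ x : G, x ^ (p ^ (e + 1)) ∈ Z) → ∀ x : G, x ^ (p ^ e) ∈ Z := by
    intro e he hpow x
    set S : Set G := {y | ∃ x : G, y = x ^ (p ^ e)} with hS
    have hXchar : (Subgroup.closure S).Characteristic := by
      rw [Subgroup.characteristic_iff_map_le]
      intro φ
      rw [MonoidHom.map_closure, Subgroup.closure_le]
      rintro _ ⟨_, ⟨x, rfl⟩, rfl⟩
      apply Subgroup.subset_closure
      exact ⟨φ x, by simp⟩
    have hXab : IsMulCommutative (Subgroup.closure S) := by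
      apply Subgroup.isMulCommutative_closure
      rintro _ ⟨x, rfl⟩ _ ⟨y, rfl⟩
      -- x^n and y^n commute
      set n := p ^ e with hn
      have hc : y * x = x * y * ⁅y⁻¹, x⁻¹⁆ := by rw [commutatorElement_def]; group
      set c := ⁅y⁻¹, x⁻¹⁆ with hcdef
      have hcx : ∀ k : G, Commute c k := fun k => hcc _ _ k
      have hcp : c ^ (p ^ (e + 1)) = 1 := by
        apply pow_eq_one_of_pow_commute hc (hcx y)
        exact (Subgroup.mem_center_iff.mp (hpow y) x).symm
      have h1 : y ^ n * x = x * y ^ n * c ^ n := pow_mul_comm_of_central hc (hcx y) n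
      have h2 : x * y ^ n = y ^ n * x * (c ^ n)⁻¹ := by
        rw [h1]; group
      have hcn : Commute (c ^ n)⁻¹ x := ((hcx x).pow_left n).inv_left
      have h3 := pow_mul_comm_of_central h2 hcn n
      have h4 : ((c ^ n)⁻¹) ^ n = 1 := by
        rw [inv_pow, inv_eq_one, ← pow_mul, hn, ← pow_add]
        have : p ^ (e + e) = p ^ (e + 1) * p ^ (e - 1) := by
          rw [← pow_add]; congr 1; omega
        rw [this, pow_mul, hcp, one_pow]
      rw [h4, mul_one] at h3
      exact h3
    have := stepA _ hXchar hXab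
    exact this (Subgroup.subset_closure ⟨x, rfl⟩)
  have stepC : ∀ x : G, x ^ p ∈ Z := by
    obtain ⟨k, hk⟩ := IsPGroup.iff_card.mp hG
    have hk1 : ∀ x : G, x ^ (p ^ k) ∈ Z := by
      intro x
      rw [← hk, pow_card_eq_one']
      exact Z.one_mem
    have hdown : ∀ j : ℕ, (∀ x : G, x ^ (p ^ (1 + j)) ∈ Z) → ∀ x : G, x ^ (p ^ 1) ∈ Z := by
      intro j
      induction j with
      | zero => intro h; exact h
      | succ j ih =>
        intro h
        apply ih
        exact descent (1 + j) (by omega) h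
    intro x
    rcases Nat.eq_zero_or_pos k with h0 | h0
    · have := hk1 x
      rw [h0, pow_zero, pow_one] at this
      exact Z.pow_mem this p
    · have h1 := hdown (k - 1) (by rw [show 1 + (k - 1) = k by omega]; exact hk1) x
      rwa [pow_one] at h1
  -- Step E
  have hZfix : ∀ z ∈ Z, ∀ a ∈ A, a z = z := by
    intro z hz a ha
    exact hchar Z inferInstance inferInstance a ha z hz
  have hZle : Z ≤ commutator G := by
    intro z hz
    apply mem_of_fixed_mod hG A hA hGA (commutator G) le_rfl z
    intro a ha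
    rw [hZfix z hz a ha, inv_mul_cancel]
    exact Subgroup.one_mem _
  have hDZ : commutator G = Z := le_antisymm stepB hZle
  have hΦZ : frattini G = Z := by
    apply le_antisymm
    · exact Cfsg.Agent.Lib.H1.frattini_le_of_commutator_le_of_pow_mem (p := p) Z stepB stepC
    · rw [← hDZ]
      exact Cfsg.Agent.Lib.H1.isPGroup_commutator_le_frattini hG
  refine ⟨⟨hG, hΦZ, hDZ⟩, fun g => ⟨fun hg a ha => hZfix g hg a ha, fun hg => ?_⟩⟩
  apply mem_of_fixed_mod hG A hA hGA Z stepB g
  intro a ha
  rw [hg a ha, inv_mul_cancel]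
  exact Z.one_mem

end Cfsg.Agent.S0119
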