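import Cfsg.Statements.S3749
import Mathlib
import Cfsg.Agent.Lib.H19.SylowAux
import Cfsg.Agent.Lib.H19.Cores

set_option autoImplicit false
open Cfsg

namespace Cfsg.Agent.S3749

open Cfsg.Agent.Lib.H19
open scoped Pointwise

variable {G : Type*} [Group G]


/-- a `p`-group acting on a normal subgroup `N` with `C_N(P) = 1` forces `p ∤ |N|` -/
theorem not_dvd_card_of_centralizer [Finite G] {p : ℕ} [Fact p.Prime] (P N : Subgroup G)
    [N.Normal] (hP : IsPGroup p P) (hC : N ⊓ Subgroup.centralizer (P : Set G) = ⊥) :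
    ¬ p ∣ Nat.card N := by
  let φ : ↥P →* MulAut ↥N := (MulAut.conjNormal).comp P.subtype
  let _ : MulAction ↥P ↥N := MulAction.compHom ↥N φ
  have hsm : ∀ (x : ↥P) (a : ↥N), ((x • a : ↥N) : G) = x.1 * a.1 * x.1⁻¹ := by
    intro x a
    show ((φ x a : ↥N) : G) = _
    simp [φ, MulAut.conjNormal_apply]
  have h := hP.card_modEq_card_fixedPoints (α := ↥N)
  have hfix : Nat.card (MulAction.fixedPoints ↥P ↥N) = 1 := by
    rw [Nat.card_eq_one_iff_unique]
    constructor
    · constructor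
      have key : ∀ a : MulAction.fixedPoints ↥P ↥N, a = ⟨1, fun x => by
          apply Subtype.ext; rw [hsm]; simp⟩ := by
        rintro ⟨a, ha⟩
        apply Subtype.ext
        apply Subtype.ext
        show (a : G) = 1
        have hmem : (a : G) ∈ N ⊓ Subgroup.centralizer (P : Set G) := by
          refine Subgroup.mem_inf.2 ⟨a.2, ?_⟩
          rw [Subgroup.mem_centralizer_iff]
          intro x hx
          have := congrArg Subtype.val (ha ⟨x, hx⟩)
          rw [hsm] at this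
          calc x * (a : G) = x * a * x⁻¹ * x := by group
            _ = a * x := by rw [this]
        rw [hC, Subgroup.mem_bot] at hmem
        exact hmem
      intro a b
      rw [key a, key b]
    · exact ⟨⟨1, fun x => by apply Subtype.ext; rw [hsm]; simp⟩⟩
  rw [hfix] at h
  intro hdvd
  have h2 : Nat.card N % p = 0 := Nat.mod_eq_zero_of_dvd hdvd
  have h3 : Nat.card N % p = 1 % p := h
  rw [h2] at h3
  have hp2 : 2 ≤ p := (Fact.out : p.Prime).two_le
  rw [Nat.mod_eq_of_lt (by omega)] at h3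
  omega

/-- existence of a `P`-invariant Sylow `q`-subgroup of `N` when `p ∤ |N|` -/
theorem exists_invariant_sylow [Finite G] {p : ℕ} [Fact p.Prime] (q : ℕ) [Fact q.Prime]
    (P N : Subgroup G) [N.Normal] (hP : IsPGroup p P) (hpN : ¬ p ∣ Nat.card N) :
    ∃ Q : Sylow q ↥N,
      P ≤ Subgroup.normalizer (((Q : Subgroup N).map N.subtype : Subgroup G) : Set G) := by
  let ψ : ↥P →* ConjAct G := (ConjAct.toConjAct.toMonoidHom).comp P.subtype
  let _ : MulAction ↥P (Sylow q ↥N) := MulAction.compHom (Sylow q ↥N) ψ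
  have hcard : ¬ p ∣ Nat.card (Sylow q ↥N) := by
    intro h
    obtain ⟨Q0⟩ : Nonempty (Sylow q ↥N) := inferInstance
    have h1 : Nat.card (Sylow q ↥N) ∣ (Q0 : Subgroup N).index := Sylow.card_dvd_index Q0
    have h2 : (Q0 : Subgroup N).index ∣ Nat.card N := Subgroup.index_dvd_card _
    exact hpN (h.trans (h1.trans h2))
  obtain ⟨Q, hQ⟩ := hP.nonempty_fixed_point_of_prime_not_dvd_card (Sylow q ↥N) hcard
  refine ⟨Q, ?_⟩
  intro x hx
  have hxQ : (ConjAct.toConjAct x) • Q = Q := hQ ⟨x, hx⟩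
  have hsub : (ConjAct.toConjAct x) • (Q : Subgroup N) = (Q : Subgroup N) := by
    rw [← Sylow.pointwise_smul_def, hxQ]
  have hle : ∀ y ∈ (Q : Subgroup N).map N.subtype, x * y * x⁻¹ ∈ (Q : Subgroup N).map N.subtype := by
    rintro _ ⟨y, hy, rfl⟩
    have h1 : (ConjAct.toConjAct x) • y ∈ (ConjAct.toConjAct x) • (Q : Subgroup N) :=
      Subgroup.smul_mem_pointwise_smul _ _ _ hy
    rw [hsub] at h1
    refine ⟨_, h1, ?_⟩
    rw [Subgroup.subtype_apply, ConjAct.Subgroup.val_conj_smul, ConjAct.toConjAct_smul]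
    rfl
  rw [mem_normalizer_iff_map_conj]
  apply Subgroup.eq_of_le_of_card_ge
  · intro y hy
    rw [mem_map_conj] at hy
    have := hle _ hy
    have h2 : x * (x⁻¹ * y * x) * x⁻¹ = y := by group
    rwa [h2] at this
  · exact (card_map_conj _ x).ge



theorem map_conj_mem_normalizer {Q : Subgroup G} {x y : G} (hx : x ∈ Subgroup.normalizer (Q : Set G))
    (hy : y ∈ Subgroup.normalizer (Q : Set G)) : x * y ∈ Subgroup.normalizer (Q : Set G) :=
  Subgroup.mul_mem _ hx hy

/-- uniqueness of the `P`-invariant Sylow `q`-subgroup of `N` when `N_N(P) = 1` -/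
theorem invariant_sylow_unique [Finite G] {p q : ℕ} [Fact p.Prime] [Fact q.Prime]
    (P N : Subgroup G) [N.Normal] (hP : IsPGroup p P) (hpN : ¬ p ∣ Nat.card N)
    (hNP : N ⊓ Subgroup.normalizer (P : Set G) = ⊥)
    {Q₁ Q₂ : Subgroup G} (h1N : Q₁ ≤ N) (h2N : Q₂ ≤ N) (h1q : IsPGroup q Q₁) (h2q : IsPGroup q Q₂)
    (h1i : ¬ q ∣ Q₁.relIndex N) (h2i : ¬ q ∣ Q₂.relIndex N)
    (h1P : P ≤ Subgroup.normalizer (Q₁ : Set G)) (h2P : P ≤ Subgroup.normalizer (Q₂ : Set G)) :
    Q₁ = Q₂ := by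
  obtain ⟨n, hnN, hn⟩ := exists_conj_of_relIndex h1N h2N h1q h2q h1i h2i
  -- `P' = n⁻¹ P n` normalizes `Q₁`
  have hP'norm : P.map (MulAut.conj n⁻¹).toMonoidHom ≤ Subgroup.normalizer (Q₁ : Set G) := by
    intro y hy
    rw [mem_map_conj, inv_inv] at hy
    have h1 := h2P hy
    rw [mem_normalizer_iff_map_conj, hn, ← map_conj_mul] at h1
    rw [mem_normalizer_iff_map_conj]
    have h2 : y = n⁻¹ * (n * y * n⁻¹ * n) := by group
    rw [h2, map_conj_mul, h1, ← map_conj_mul, inv_mul_cancel, map_conj_one]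
  have hNK : N ≤ N ⊔ P := le_sup_left
  have hPK : P ≤ N ⊔ P := le_sup_right
  have hP'K : P.map (MulAut.conj n⁻¹).toMonoidHom ≤ N ⊔ P := by
    intro y hy
    rw [mem_map_conj, inv_inv] at hy
    have h2 : y = n⁻¹ * (n * y * n⁻¹) * n := by group
    rw [h2]
    exact Subgroup.mul_mem _ (Subgroup.mul_mem _ (Subgroup.inv_mem _ (hNK hnN)) (hPK hy)) (hNK hnN)
  have hPL : P ≤ Subgroup.normalizer (Q₁ : Set G) ⊓ (N ⊔ P) := le_inf h1P hPK
  have hP'L : P.map (MulAut.conj n⁻¹).toMonoidHom ≤ Subgroup.normalizer (Q₁ : Set G) ⊓ (N ⊔ P) :=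
    le_inf hP'norm hP'K
  have hidx : ¬ p ∣ P.relIndex (Subgroup.normalizer (Q₁ : Set G) ⊓ (N ⊔ P)) := by
    intro h
    have h1 : P.relIndex (Subgroup.normalizer (Q₁ : Set G) ⊓ (N ⊔ P)) ∣ P.relIndex (N ⊔ P) :=
      Dvd.intro _ (Subgroup.relIndex_mul_relIndex P _ (N ⊔ P) hPL inf_le_right)
    have h2 : P.relIndex (N ⊔ P) = (P ⊓ N).relIndex N := by
      rw [sup_comm, relIndex_inf_normal_eq]
    have h3 : (P ⊓ N).relIndex N ∣ Nat.card N := Subgroup.relIndex_dvd_card _ _
    exact hpN (h.trans (h1.trans (h2 ▸ h3)))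
  have hidx' : ¬ p ∣ (P.map (MulAut.conj n⁻¹).toMonoidHom).relIndex
      (Subgroup.normalizer (Q₁ : Set G) ⊓ (N ⊔ P)) := by
    have h1 := card_mul_relIndex hPL
    have h2 := card_mul_relIndex hP'L
    rw [card_map_conj] at h2
    have hpos : 0 < Nat.card P := Nat.card_pos
    have : (P.map (MulAut.conj n⁻¹).toMonoidHom).relIndex
        (Subgroup.normalizer (Q₁ : Set G) ⊓ (N ⊔ P))
        = P.relIndex (Subgroup.normalizer (Q₁ : Set G) ⊓ (N ⊔ P)) :=
      Nat.eq_of_mul_eq_mul_left hpos (h2.trans h1.symm)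
    rw [this]; exact hidx
  obtain ⟨l, hlL, hl⟩ := exists_conj_of_relIndex hPL hP'L hP (hP.map _) hidx hidx'
  obtain ⟨n', hn'N, x, hxP, rfl⟩ := Subgroup.mem_sup_of_normal_left.1 hlL.2
  rw [map_conj_mul, map_conj_eq_of_mem hxP] at hl
  -- `n * n'` normalizes `P`
  have hnn' : n * n' ∈ Subgroup.normalizer (P : Set G) := by
    rw [mem_normalizer_iff_map_conj, map_conj_mul, ← hl, ← map_conj_mul, mul_inv_cancel,
      map_conj_one]
  have h1 : n * n' ∈ N ⊓ Subgroup.normalizer (P : Set G) :=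
    ⟨N.mul_mem hnN hn'N, hnn'⟩
  rw [hNP, Subgroup.mem_bot] at h1
  have hn'eq : n' = n⁻¹ := eq_inv_of_mul_eq_one_right h1
  have hn'norm : n' ∈ Subgroup.normalizer (Q₁ : Set G) := by
    have h2 : n' = n' * x * x⁻¹ := by group
    rw [h2]
    exact Subgroup.mul_mem _ hlL.1 (Subgroup.inv_mem _ (h1P hxP))
  have hnnorm : n ∈ Subgroup.normalizer (Q₁ : Set G) := by
    have := Subgroup.inv_mem _ hn'norm
    rwa [hn'eq, inv_inv] at this
  rw [hn, mem_normalizer_iff_map_conj.1 hnnorm]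


theorem main [Finite G] (M : Subgroup G) (hM : M ≠ ⊤) (hprim : ∀ N : Subgroup G, N ≤ M → M ≤ Subgroup.normalizer (N : Set G) → N ≠ ⊥ → Subgroup.normalizer (N : Set G) = M) {p : ℕ} [Fact p.Prime] (hOp : Cfsg.pCore p ↥M ≠ ⊥) (N : Subgroup G) [N.Normal] (hMN : M ⊓ N = ⊥) : ¬ p ∣ Nat.card N ∧ (∀ q : ℕ, [Fact q.Prime] → ∃! Q : Sylow q ↥N, M ≤ Subgroup.normalizer ((Q : Subgroup ↥N).map N.subtype : Set G)) ∧ ((∃ q r : ℕ, q.Prime ∧ r.Prime ∧ q ≠ r ∧ q ∣ Nat.card N ∧ r ∣ Nat.card N) → ¬ IsCoatom M) := by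
  -- the subgroup `P = O_p(M)`
  have hPM : (Cfsg.pCore p ↥M).map M.subtype ≤ M := Subgroup.map_subtype_le _
  have hPne : (Cfsg.pCore p ↥M).map M.subtype ≠ ⊥ := by
    intro h
    rw [Subgroup.map_eq_bot_iff_of_injective _ (Subgroup.subtype_injective M)] at h
    exact hOp h
  have hPp : IsPGroup p ((Cfsg.pCore p ↥M).map M.subtype : Subgroup G) :=
    (pCore_isPGroup p ↥M).map _
  have hcn : (Cfsg.pCore p ↥M).Normal := Subgroup.sSup_normal _ (fun _ h => h.1)
  have hMP : M ≤ Subgroup.normalizer (((Cfsg.pCore p ↥M).map M.subtype : Subgroup G) : Set G) := by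
    have h1 := Subgroup.le_normalizer_map (H := Cfsg.pCore p ↥M) M.subtype
    rw [Subgroup.normalizer_eq_top_iff.2 hcn, ← MonoidHom.range_eq_map, Subgroup.range_subtype] at h1
    exact h1
  have hNP := hprim _ hPM hMP hPne
  have hNnorm : N ⊓ Subgroup.normalizer (((Cfsg.pCore p ↥M).map M.subtype : Subgroup G) : Set G) = ⊥ := by
    rw [hNP, inf_comm]; exact hMN
  have hNcent : N ⊓ Subgroup.centralizer (((Cfsg.pCore p ↥M).map M.subtype : Subgroup G) : Set G) = ⊥ := by
    rw [eq_bot_iff, ← hNnorm]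
    exact inf_le_inf_left _ (Subgroup.centralizer_le_normalizer _)
  have hpN : ¬ p ∣ Nat.card N := not_dvd_card_of_centralizer _ N hPp hNcent
  -- facts about the image of a Sylow subgroup of `N`
  have hQfacts : ∀ (q : ℕ) [Fact q.Prime] (Q : Sylow q ↥N),
      (Q : Subgroup N).map N.subtype ≤ N ∧ IsPGroup q ((Q : Subgroup N).map N.subtype : Subgroup G) ∧
      ¬ q ∣ ((Q : Subgroup N).map N.subtype).relIndex N := by
    intro q _ Q
    refine ⟨Subgroup.map_subtype_le _, Q.isPGroup'.map _, ?_⟩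
    have : ((Q : Subgroup N).map N.subtype).relIndex N = (Q : Subgroup N).index := by
      unfold Subgroup.relIndex
      rw [Subgroup.subgroupOf, Subgroup.comap_map_eq_self_of_injective (Subgroup.subtype_injective N)]
    rw [this]; exact Q.not_dvd_index
  have hb : ∀ q : ℕ, [Fact q.Prime] → ∃! Q : Sylow q ↥N,
      M ≤ Subgroup.normalizer ((Q : Subgroup ↥N).map N.subtype : Set G) := by
    intro q _
    obtain ⟨Q, hQ⟩ := exists_invariant_sylow q _ N hPp hpN
    obtain ⟨hQN, hQq, hQi⟩ := hQfacts q Q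
    refine ⟨Q, ?_, ?_⟩
    · -- `M` normalizes `Q`
      intro m hm
      show m ∈ Subgroup.normalizer ((((Q : Subgroup ↥N).map N.subtype : Subgroup G)) : Set G)
      rw [mem_normalizer_iff_map_conj]
      symm
      apply invariant_sylow_unique _ N hPp hpN hNnorm hQN _ hQq (hQq.map _) hQi _ hQ _
      · intro y hy
        rw [mem_map_conj] at hy
        have h1 := hQN hy
        have := (inferInstance : N.Normal).conj_mem _ h1 m
        have h2 : m * (m⁻¹ * y * m) * m⁻¹ = y := by group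
        rwa [h2] at this
      · -- relIndex of conjugate
        have h1 := card_mul_relIndex hQN
        have h2 : ((Q : Subgroup ↥N).map N.subtype).map (MulAut.conj m).toMonoidHom ≤ N := by
          intro y hy
          rw [mem_map_conj] at hy
          have h1 := hQN hy
          have := (inferInstance : N.Normal).conj_mem _ h1 m
          have h2 : m * (m⁻¹ * y * m) * m⁻¹ = y := by group
          rwa [h2] at this
        have h3 := card_mul_relIndex h2
        rw [card_map_conj] at h3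
        have hpos : 0 < Nat.card ((Q : Subgroup ↥N).map N.subtype : Subgroup G) := Nat.card_pos
        have : (((Q : Subgroup ↥N).map N.subtype).map (MulAut.conj m).toMonoidHom).relIndex N
            = ((Q : Subgroup ↥N).map N.subtype).relIndex N :=
          Nat.eq_of_mul_eq_mul_left hpos (h3.trans h1.symm)
        rw [this]; exact hQi
      · -- `P`-invariance of the conjugate
        intro x hx
        rw [mem_normalizer_iff_map_conj, ← map_conj_mul]
        have hx' : m⁻¹ * x * m ∈ (Cfsg.pCore p ↥M).map M.subtype := by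
          have h1 := hMP (M.inv_mem hm)
          rw [mem_normalizer_iff_map_conj] at h1
          rw [← h1, mem_map_conj]
          have h2 : m⁻¹⁻¹ * (m⁻¹ * x * m) * m⁻¹ = x := by group
          rw [h2]; exact hx
        have h3 : x * m = m * (m⁻¹ * x * m) := by group
        rw [h3, map_conj_mul, mem_normalizer_iff_map_conj.1 (hQ hx')]
    · intro Q' hQ'
      obtain ⟨hQN', hQq', hQi'⟩ := hQfacts q Q'
      have h1 := invariant_sylow_unique _ N hPp hpN hNnorm hQN' hQN hQq' hQq hQi' hQi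
        (hPM.trans hQ') hQ
      apply Sylow.ext
      exact Subgroup.map_injective (Subgroup.subtype_injective N) h1
  refine ⟨hpN, hb, ?_⟩
  rintro ⟨q, r, hq, hr, hqr, hqN, hrN⟩ hco
  have : Fact q.Prime := ⟨hq⟩
  obtain ⟨Q, hQ, -⟩ := hb q
  obtain ⟨hQN, hQq, hQi⟩ := hQfacts q Q
  have hQne : (Q : Subgroup N) ≠ ⊥ := Q.ne_bot_of_dvd_card hqN
  rcases hco.le_iff.1 (le_sup_left : M ≤ M ⊔ (Q : Subgroup N).map N.subtype) with h | h
  · -- `M ⊔ Q = ⊤`
    have hNQ : N ≤ (Q : Subgroup N).map N.subtype := by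
      intro n hn
      have hn' : n ∈ (((M ⊔ (Q : Subgroup N).map N.subtype : Subgroup G)) : Set G) := by
        rw [h]; trivial
      rw [Subgroup.coe_mul_of_left_le_normalizer_right M _ hQ] at hn'
      obtain ⟨m, hm, y, hy, rfl⟩ := hn'
      change m * y ∈ N at hn
      change m * y ∈ _
      have hmN : m ∈ N := by
        have h2 : m = m * y * y⁻¹ := by group
        rw [h2]; exact N.mul_mem hn (N.inv_mem (hQN hy))
      have hm1 : m ∈ M ⊓ N := ⟨hm, hmN⟩
      rw [hMN, Subgroup.mem_bot] at hm1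
      rw [hm1, one_mul]; exact hy
    have hNq : IsPGroup q N := hQq.to_le hNQ
    obtain ⟨k, hk⟩ := hNq.exists_card_eq
    rw [hk] at hrN
    have := (Nat.prime_dvd_prime_iff_eq hr hq).1 (hr.dvd_of_dvd_pow hrN)
    exact hqr this.symm
  · -- `Q ≤ M`
    have h1 : (Q : Subgroup N).map N.subtype ≤ M ⊓ N := le_inf (h ▸ le_sup_right) hQN
    rw [hMN, le_bot_iff, Subgroup.map_eq_bot_iff_of_injective _ (Subgroup.subtype_injective N)] at h1
    exact hQne h1

/-- Call a proper subgroup M of G primitive when M = N_G(N) for every non-trivial normal subgroup N of M. Let M be a primitive subgroup of the finite group G, p a prime with O_p(M) ≠ 1, and N a normal subgroup of G with M ∩ N = 1. Then p does not divide the order of N; for every prime q there is exactly one Sylow q-subgroup of N normalized by M; and if the order of N has at least two prime divisors then M is not a maximal subgroup of G. -/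
theorem result {G : Type*} [Group G] [Finite G] (M : Subgroup G) (hM : M ≠ ⊤) (hprim : ∀ N : Subgroup G, N ≤ M → M ≤ Subgroup.normalizer (N : Set G) → N ≠ ⊥ → Subgroup.normalizer (N : Set G) = M) {p : ℕ} [Fact p.Prime] (hOp : Cfsg.pCore p ↥M ≠ ⊥) (N : Subgroup G) [N.Normal] (hMN : M ⊓ N = ⊥) : ¬ p ∣ Nat.card N ∧ (∀ q : ℕ, [Fact q.Prime] → ∃! Q : Sylow q ↥N, M ≤ Subgroup.normalizer ((Q : Subgroup ↥N).map N.subtype : Set G)) ∧ ((∃ q r : ℕ, q.Prime ∧ r.Prime ∧ q ≠ r ∧ q ∣ Nat.card N ∧ r ∣ Nat.card N) → ¬ IsCoatom M) :=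
  main M hM hprim hOp N hMN

end Cfsg.Agent.S3749
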