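import Cfsg.Statements.S3869
import Mathlib
import Cfsg.Agent.Lib.H19.IrredCyclic
import Cfsg.Agent.Lib.H19.SylowAux

set_option autoImplicit false
open Cfsg

namespace Cfsg.Agent.S3869

open Cfsg.Agent.Lib.H19

variable {G : Type*} [Group G]

theorem isPClosed_of_isPGroup {H : Type*} [Group H] {p : ℕ} (h : IsPGroup p H) :
    Cfsg.IsPClosed p H := by
  intro S
  have h1 : (⊤ : Subgroup H) = S := S.3 (fun g => by
    obtain ⟨k, hk⟩ := h g.1
    exact ⟨k, Subtype.ext hk⟩) le_top
  rw [← h1]; infer_instance

theorem isPClosed_of_coprime {H : Type*} [Group H] [Finite H] {p : ℕ} [Fact p.Prime]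
    (h : (Nat.card H).Coprime p) : Cfsg.IsPClosed p H := by
  intro S
  have h1 : (S : Subgroup H) = ⊥ := by
    obtain ⟨k, hk⟩ := S.isPGroup'.exists_card_eq
    have h2 : Nat.card (S : Subgroup H) ∣ Nat.card H := Subgroup.card_subgroup_dvd_card _
    rw [hk] at h2
    have h3 : p ^ k = 1 := by
      have := Nat.Coprime.coprime_dvd_left h2 h
      rcases Nat.eq_zero_or_pos k with hk0 | hk0
      · rw [hk0, pow_zero]
      · exfalso
        have h4 : p ∣ p ^ k := dvd_pow_self p hk0.ne'
        have h5 := Nat.Coprime.coprime_dvd_left h4 this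
        rw [Nat.coprime_self] at h5
        exact (Fact.out : p.Prime).one_lt.ne' h5
    rw [h3] at hk
    exact Subgroup.card_eq_one.1 hk
  rw [h1]; infer_instance

/-- a normal subgroup of prime index is maximal -/
theorem eq_top_of_lt_of_index_prime [Finite G] {p : ℕ} (hp : p.Prime) {A K : Subgroup G}
    (hidx : A.index = p) (hAK : A ≤ K) (hne : ¬ K ≤ A) : K = ⊤ := by
  have h1 := Subgroup.relIndex_mul_index hAK
  rw [hidx] at h1
  have h2 : K.index ∣ p := Dvd.intro_left _ h1
  rcases (Nat.dvd_prime hp).1 h2 with h | h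
  · exact Subgroup.index_eq_one.1 h
  · exfalso
    rw [h] at h1
    have h3 : A.relIndex K = 1 := by
      have hp0 : 0 < p := hp.pos
      exact Nat.eq_of_mul_eq_mul_right hp0 (by rw [h1, one_mul])
    exact hne (Subgroup.relIndex_eq_one.1 h3)

/-- a subgroup meeting `A` trivially and not inside `A` has order `p` -/
theorem card_eq_of_inf_eq_bot [Finite G] {p : ℕ} (hp : p.Prime) {A H : Subgroup G} [A.Normal]
    (hidx : A.index = p) (hne : ¬ H ≤ A) (hinf : H ⊓ A = ⊥) : Nat.card H = p := by
  have htop : H ⊔ A = ⊤ := eq_top_of_lt_of_index_prime hp hidx le_sup_right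
    (fun h => hne (le_sup_left.trans h))
  have h1 : A.relIndex (H ⊔ A) = A.relIndex H := Subgroup.relIndex_sup_right H A
  rw [htop, Subgroup.relIndex_top_right, hidx, ← Subgroup.inf_relIndex_right, inf_comm, hinf,
    Subgroup.relIndex_bot_left] at h1
  exact h1.symm

theorem main [Finite G] {p q : ℕ} [hp : Fact p.Prime] (hq : q.Prime) (hpq : q ≠ p)
    (hna : ¬ IsMulCommutative G) (A : Subgroup G) [hAn : A.Normal]
    (hA : Cfsg.IsElementaryAbelian q A) (hidx : A.index = p)
    (hmin : ∀ B : Subgroup G, B.Normal → B ≤ A → B = ⊥ ∨ B = A) :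
    Nat.card ↥A = q ^ orderOf (q : ZMod p) ∧ ¬ Cfsg.IsPClosed p G ∧
      (∀ H : Subgroup G, H ≠ ⊤ → Cfsg.IsPClosed p ↥H) ∧
      ∀ (N : Subgroup G) [N.Normal], N ≠ ⊥ → Cfsg.IsPClosed p (G ⧸ N) := by
  have hqF : Fact q.Prime := ⟨hq⟩
  obtain ⟨hAab, hAq⟩ := hA
  have hAp : IsPGroup q A := fun a => ⟨1, by rw [pow_one]; exact Subtype.ext (hAq a.1 a.2)⟩
  obtain ⟨k, hk⟩ := hAp.exists_card_eq
  have hcardG : Nat.card G = q ^ k * p := by rw [← hk, ← hidx]; exact (A.card_mul_index).symm
  have hcomm : ∀ a ∈ A, ∀ b ∈ A, a * b = b * a := by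
    intro a ha b hb
    exact congrArg Subtype.val (hAab.is_comm.comm (⟨a, ha⟩ : A) ⟨b, hb⟩)
  -- an element of order `p`
  obtain ⟨x, hx⟩ := exists_prime_orderOf_dvd_card' (G := G) p (by rw [hcardG]; exact dvd_mul_left _ _)
  have hxA : x ∉ A := by
    intro h
    have h1 : orderOf (⟨x, h⟩ : A) ∣ Nat.card A := orderOf_dvd_natCard _
    rw [Subgroup.orderOf_mk, hx, hk] at h1
    exact hpq ((Nat.prime_dvd_prime_iff_eq hp.out hq).1 (hp.out.dvd_of_dvd_pow h1)).symm
  -- every element is `a * x ^ i`
  have hdecomp : ∀ g : G, ∃ a ∈ A, ∃ i : ℕ, g = a * x ^ i := by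
    have htop : Subgroup.zpowers x ⊔ A = ⊤ := eq_top_of_lt_of_index_prime hp.out hidx le_sup_right
      (fun h => hxA (h (Subgroup.mem_sup_left (Subgroup.mem_zpowers x))))
    intro g
    have hg : g ∈ Subgroup.zpowers x ⊔ A := by rw [htop]; trivial
    obtain ⟨y, hy, a, ha, rfl⟩ := Subgroup.mem_sup_of_normal_right.1 hg
    have hfin : IsOfFinOrder x := isOfFinOrder_of_finite x
    rw [← mem_powers_iff_mem_zpowers, Submonoid.mem_powers_iff] at hy
    obtain ⟨i, rfl⟩ := hy
    refine ⟨x ^ i * a * (x ^ i)⁻¹, hAn.conj_mem a ha _, i, ?_⟩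
    group
  -- `A ≠ ⊥`
  have hAne : A ≠ ⊥ := by
    intro h
    apply hna
    rw [h, Subgroup.index_bot] at hidx
    have : Fact (Nat.card G).Prime := ⟨hidx ▸ hp.out⟩
    have hcyc : IsCyclic G := isCyclic_of_prime_card rfl
    exact ⟨⟨fun a b => hcyc.commGroup.mul_comm a b⟩⟩
  -- `x` does not centralize `A`
  have hxc : x ∉ Subgroup.centralizer (A : Set G) := by
    intro h
    apply hna
    have hxa : ∀ a ∈ A, ∀ i : ℕ, x ^ i * a = a * x ^ i := by
      intro a ha i
      have h1 : Commute x a := ((Subgroup.mem_centralizer_iff.1 h) a ha).symm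
      exact (h1.pow_left i).eq
    constructor
    constructor
    intro g1 g2
    obtain ⟨a, ha, i, rfl⟩ := hdecomp g1
    obtain ⟨b, hb, j, rfl⟩ := hdecomp g2
    calc a * x ^ i * (b * x ^ j) = a * (x ^ i * b) * x ^ j := by group
      _ = a * (b * x ^ i) * x ^ j := by rw [hxa b hb i]
      _ = (a * b) * (x ^ i * x ^ j) := by group
      _ = (b * a) * (x ^ j * x ^ i) := by rw [hcomm a ha b hb, ← pow_add, ← pow_add, add_comm]
      _ = b * (a * x ^ j) * x ^ i := by group
      _ = b * (x ^ j * a) * x ^ i := by rw [hxa a ha j]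
      _ = b * x ^ j * (a * x ^ i) := by group
  -- `x`-invariant subgroups of `A` are normal
  have hinv : ∀ B : Subgroup G, B ≤ A → (∀ b ∈ B, x * b * x⁻¹ ∈ B) → B = ⊥ ∨ B = A := by
    intro B hBA hBx
    apply hmin B _ hBA
    have hpow : ∀ (i : ℕ), ∀ b ∈ B, x ^ i * b * (x ^ i)⁻¹ ∈ B := by
      intro i
      induction i with
      | zero => intro b hb; simpa using hb
      | succ i ih =>
        intro b hb
        have := hBx _ (ih b hb)
        have h2 : x ^ (i + 1) * b * (x ^ (i + 1))⁻¹ = x * (x ^ i * b * (x ^ i)⁻¹) * x⁻¹ := by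
          rw [pow_succ']; group
        rw [h2]; exact this
    refine ⟨fun b hb g => ?_⟩
    obtain ⟨a, ha, i, rfl⟩ := hdecomp g
    have h1 := hpow i b hb
    have h2 : a * x ^ i * b * (a * x ^ i)⁻¹ = a * (x ^ i * b * (x ^ i)⁻¹) * a⁻¹ := by group
    rw [h2, hcomm a ha _ (hBA h1)]
    have h3 : x ^ i * b * (x ^ i)⁻¹ * a * a⁻¹ = x ^ i * b * (x ^ i)⁻¹ := by group
    rw [h3]; exact h1
  have hxn : x ∈ Subgroup.normalizer (A : Set G) := by
    rw [Subgroup.normalizer_eq_top_iff.2 hAn]; trivial
  have hxp : x ^ p ∈ Subgroup.centralizer (A : Set G) := by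
    rw [← hx, pow_orderOf_eq_one]; exact Subgroup.one_mem _
  have hcardA := card_eq_pow_orderOf_of_minimal hpq A hAab hAq hAne x hxn hxp hxc hinv
  -- `G` is not `p`-closed
  have hnc : ¬ Cfsg.IsPClosed p G := by
    intro hcl
    have hxpg : IsPGroup p (Subgroup.zpowers x) := by
      apply IsPGroup.of_card (n := 1)
      rw [Nat.card_zpowers, hx, pow_one]
    obtain ⟨P, hP⟩ := hxpg.exists_le_sylow
    have hPn : (P : Subgroup G).Normal := hcl P
    have hdis : Disjoint (P : Subgroup G) A := by
      apply Subgroup.disjoint_of_coprime_natCard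
      obtain ⟨j, hj⟩ := P.isPGroup'.exists_card_eq
      rw [hj, hk]
      exact Nat.Coprime.pow j k ((Nat.coprime_primes hp.out hq).2 (Ne.symm hpq))
    apply hxc
    rw [Subgroup.mem_centralizer_iff]
    intro a ha
    have := Subgroup.commute_of_normal_of_disjoint _ _ hPn hAn hdis x a
      (hP (Subgroup.mem_zpowers x)) ha
    exact this.eq.symm
  refine ⟨hcardA, hnc, ?_, ?_⟩
  · -- proper subgroups
    intro H hH
    by_cases hHA : H ≤ A
    · apply isPClosed_of_coprime
      have h1 : Nat.card H ∣ Nat.card A := Subgroup.card_dvd_of_le hHA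
      rw [hk] at h1
      exact Nat.Coprime.coprime_dvd_left h1
        (Nat.Coprime.pow_left k ((Nat.coprime_primes hq hp.out).2 hpq))
    · have htop : H ⊔ A = ⊤ := eq_top_of_lt_of_index_prime hp.out hidx le_sup_right
        (fun h => hHA (le_sup_left.trans h))
      have hBn : (H ⊓ A).Normal := by
        rw [← Subgroup.normalizer_eq_top_iff, eq_top_iff, ← htop]
        apply sup_le
        · intro h hh
          rw [Subgroup.mem_normalizer_iff]
          intro y
          constructor
          · rintro ⟨h1, h2⟩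
            exact ⟨H.mul_mem (H.mul_mem hh h1) (H.inv_mem hh), hAn.conj_mem y h2 h⟩
          · rintro ⟨h1, h2⟩
            have hy : y = h⁻¹ * (h * y * h⁻¹) * h := by group
            refine ⟨?_, ?_⟩
            · rw [hy]; exact H.mul_mem (H.mul_mem (H.inv_mem hh) h1) hh
            · have := hAn.conj_mem _ h2 h⁻¹
              rw [inv_inv] at this
              rw [hy]; exact this
        · intro a ha
          rw [Subgroup.mem_normalizer_iff]
          intro y
          constructor
          · rintro ⟨h1, h2⟩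
            have : a * y * a⁻¹ = y := by rw [hcomm a ha y h2]; group
            rw [this]; exact ⟨h1, h2⟩
          · rintro ⟨h1, h2⟩
            have hyA : y ∈ A := by
              have := hAn.conj_mem _ h2 a⁻¹
              rw [inv_inv] at this
              have hy : y = a⁻¹ * (a * y * a⁻¹) * a := by group
              rw [hy]; exact this
            have : a * y * a⁻¹ = y := by rw [hcomm a ha y hyA]; group
            rw [this] at h1
            exact ⟨h1, hyA⟩
      rcases hmin _ hBn inf_le_right with h | h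
      · have hcardH := card_eq_of_inf_eq_bot hp.out hidx hHA h
        apply isPClosed_of_isPGroup
        exact IsPGroup.of_card (n := 1) (by rw [hcardH, pow_one])
      · exfalso
        have hAH : A ≤ H := by rw [← h]; exact inf_le_left
        exact hH (eq_top_of_lt_of_index_prime hp.out hidx hAH hHA)
  · -- proper quotients
    intro N hNn hN
    have hBn : (N ⊓ A).Normal := inferInstance
    rcases hmin _ hBn inf_le_right with h | h
    · exfalso
      have hNA : ¬ N ≤ A := by
        intro hle
        apply hN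
        rw [← inf_eq_left.2 hle, h]
      have hcardN := card_eq_of_inf_eq_bot hp.out hidx hNA h
      -- `N` is a normal Sylow `p`-subgroup
      apply hnc
      intro P
      have hNp : IsPGroup p N := IsPGroup.of_card (n := 1) (by rw [hcardN, pow_one])
      have hNidx : ¬ p ∣ N.index := by
        intro hd
        have h1 := N.card_mul_index
        rw [hcardN, hcardG] at h1
        obtain ⟨c, hc⟩ := hd
        rw [hc] at h1
        have h2 : p * c = q ^ k := by
          have hp0 : 0 < p := hp.out.pos
          apply Nat.eq_of_mul_eq_mul_left hp0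
          rw [h1]; ring
        have h3 : p ∣ q ^ k := Dvd.intro _ h2
        exact hpq ((Nat.prime_dvd_prime_iff_eq hp.out hq).1 (hp.out.dvd_of_dvd_pow h3)).symm
      obtain ⟨g, hg⟩ := MulAction.exists_smul_eq G (hNp.toSylow hNidx) P
      have h4 : (P : Subgroup G) = N := by
        rw [← hg, Sylow.coe_subgroup_smul]
        exact Subgroup.Normal.conj_smul_eq_self g N
      rw [h4]; exact hNn
    · have hAN : A ≤ N := by rw [← h]; exact inf_le_left
      have h1 := Subgroup.relIndex_mul_index hAN
      rw [hidx] at h1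
      have h2 : N.index ∣ p := Dvd.intro_left _ h1
      apply isPClosed_of_isPGroup
      rcases (Nat.dvd_prime hp.out).1 h2 with h3 | h3
      · apply IsPGroup.of_card (n := 0)
        rw [← Subgroup.index_eq_card, h3, pow_zero]
      · apply IsPGroup.of_card (n := 1)
        rw [← Subgroup.index_eq_card, h3, pow_one]

/-- Let p and q be distinct primes and G a finite non-abelian group with a normal elementary abelian q-subgroup A that is a minimal normal subgroup of G and has index p. Then A has order q^e with e the multiplicative order of q modulo p, and G is minimal non-p-closed: its Sylow p-subgroups are not normal, while in every proper subgroup and in every proper quotient of G the Sylow p-subgroups are normal. -/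
theorem result {G : Type*} [Group G] [Finite G] {p q : ℕ} [Fact p.Prime] (hq : q.Prime) (hpq : q ≠ p)
    (hna : ¬ IsMulCommutative G) (A : Subgroup G) [A.Normal] (hA : Cfsg.IsElementaryAbelian q A) (hidx : A.index = p)
    (hmin : ∀ B : Subgroup G, B.Normal → B ≤ A → B = ⊥ ∨ B = A) :
    Nat.card ↥A = q ^ orderOf (q : ZMod p) ∧ ¬ Cfsg.IsPClosed p G ∧ (∀ H : Subgroup G, H ≠ ⊤ → Cfsg.IsPClosed p ↥H) ∧
      ∀ (N : Subgroup G) [N.Normal], N ≠ ⊥ → Cfsg.IsPClosed p (G ⧸ N) :=
  main hq hpq hna A hA hidx hmin

end Cfsg.Agent.S3869
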