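import Cfsg.Statements.S1452
import Cfsg.Agent.Lib.H22.Alperin
import Cfsg.Agent.Lib.H22.MaxNormalAbelian
import Cfsg.Agent.Lib.H8.PGroup

set_option autoImplicit false
open Cfsg

namespace Cfsg.Agent.S1452

open Cfsg.Agent.Lib.H22

/-- Let p be an odd prime and R a finite p-group containing an elementary abelian subgroup of order p ^ 3. If E is a normal elementary abelian subgroup of R of order p ^ 2, then E ≤ A for some normal subgroup A of R with C_R(A) = A that contains an elementary abelian subgroup of order p ^ 3. -/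
theorem result {R : Type*} [Group R] [Finite R] (p : ℕ) [Fact p.Prime] (hp : p ≠ 2) (hR : IsPGroup p R) (hr : ¬ Cfsg.PRankLE p 2 R)
    (E : Subgroup R) [E.Normal] (hE : Cfsg.IsElementaryAbelian p E) (hE2 : Nat.card E = p ^ 2) :
    ∃ A : Subgroup R, E ≤ A ∧ A.Normal ∧ Subgroup.centralizer (A : Set R) = A ∧ ¬ Cfsg.PRankLE p 2 A := by
  have hp' : Fact p.Prime := inferInstance
  have hEn : E.Normal := inferInstance
  obtain ⟨hEc, hEe⟩ := hE
  have hEab : ∀ a ∈ E, ∀ b ∈ E, a * b = b * a := by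
    intro a ha b hb
    have := hEc.is_comm.comm (⟨a, ha⟩ : E) ⟨b, hb⟩
    exact congrArg Subtype.val this
  unfold Cfsg.PRankLE at hr
  push Not at hr
  obtain ⟨V, hVc, hVe, hVcard⟩ := hr
  have hVab : ∀ a ∈ V, ∀ b ∈ V, a * b = b * a := by
    intro a ha b hb
    have := hVc.is_comm.comm (⟨a, ha⟩ : V) ⟨b, hb⟩
    exact congrArg Subtype.val this
  set C := Subgroup.centralizer (E : Set R) with hC
  have hCn : C.Normal := inferInstance
  have hEC : E ≤ C := by
    intro a ha
    rw [hC, Subgroup.mem_centralizer_iff]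
    intro b hb
    exact hEab b hb a ha
  -- index of C
  obtain ⟨M, -, hME, hMcard, hMidx⟩ :=
    exists_normal_index_centralizer_le hR E hEab 2 (le_of_eq hE2.symm)
  have hME' : M = E := Subgroup.eq_of_le_of_card_ge hME (by rw [hMcard, hE2])
  rw [hME'] at hMidx
  norm_num at hMidx
  -- D = V ⊓ C
  have hVD : Nat.card V = Nat.card ↥(V ⊓ C) * (C.subgroupOf V).index := by
    have h1 := Subgroup.card_mul_index (C.subgroupOf V)
    rw [← Subgroup.inf_subgroupOf_right C V,
      Nat.card_congr (Subgroup.subgroupOfEquivOfLe (inf_le_right : C ⊓ V ≤ V)).toEquiv,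
      inf_comm] at h1
    rw [← h1, Subgroup.inf_subgroupOf_left]
  have hrel : (C.subgroupOf V).index ≤ p := by
    have h1 : (C.subgroupOf V).index ∣ C.index := Subgroup.relIndex_dvd_index_of_normal C V
    have hpos : 0 < C.index := Nat.pos_of_ne_zero Subgroup.index_ne_zero_of_finite
    exact le_trans (Nat.le_of_dvd hpos h1) hMidx
  -- D is not contained in E
  have hDE : ¬ (V ⊓ C ≤ E) := by
    intro hle
    have h1 : Nat.card ↥(V ⊓ C) ≤ p ^ 2 := by
      rw [← hE2]; exact Subgroup.card_le_of_le hle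
    have h2 : p ^ 2 < Nat.card ↥(V ⊓ C) * p := by
      calc p ^ 2 < Nat.card V := hVcard
        _ = Nat.card ↥(V ⊓ C) * (C.subgroupOf V).index := hVD
        _ ≤ Nat.card ↥(V ⊓ C) * p := Nat.mul_le_mul_left _ hrel
    -- so |D| = p², D = E, E ≤ V, V ≤ C
    have h3 : Nat.card ↥(V ⊓ C) = p ^ 2 := by
      apply le_antisymm h1
      obtain ⟨j, hj⟩ := (IsPGroup.iff_card).mp (hR.to_subgroup (V ⊓ C))
      rw [hj] at h2 ⊢
      have : p ^ 2 < p ^ (j + 1) := by rwa [pow_succ]
      have := (Nat.pow_lt_pow_iff_right hp'.out.one_lt).mp this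
      exact Nat.pow_le_pow_right hp'.out.pos (by omega)
    have h4 : V ⊓ C = E := Subgroup.eq_of_le_of_card_ge hle (by rw [h3, hE2])
    have hEV : E ≤ V := h4 ▸ inf_le_left
    have hVC : V ≤ C := by
      intro v hv
      rw [hC, Subgroup.mem_centralizer_iff]
      intro e he
      exact hVab e (hEV he) v hv
    have h5 : V ⊓ C = V := inf_eq_left.mpr hVC
    rw [h5] at h3
    omega
  obtain ⟨d, hdD, hdE⟩ := SetLike.not_le_iff_exists.mp hDE
  obtain ⟨hdV, hdC⟩ := Subgroup.mem_inf.mp hdD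
  -- maximal normal elementary abelian subgroup above E
  obtain ⟨A₀, hEA₀, hA₀max⟩ := Finite.exists_le_maximal
    (p := fun A : Subgroup R => A.Normal ∧ (∀ a ∈ A, ∀ b ∈ A, a * b = b * a) ∧ ∀ a ∈ A, a ^ p = 1)
    (a := E) ⟨hEn, hEab, hEe⟩
  obtain ⟨⟨hA₀n, hA₀ab, hA₀e⟩, hA₀max'⟩ := hA₀max
  have hA₀card : p ^ 2 < Nat.card A₀ := by
    by_contra hle
    push Not at hle
    have hA₀E : E = A₀ := Subgroup.eq_of_le_of_card_ge hEA₀ (by rw [hE2]; exact hle)
    -- Alperin
    have hn : p ^ 1 ≠ 2 := by rw [pow_one]; exact hp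
    have : d ∈ E := by
      apply mem_of_mem_centralizer_of_pow_eq_one hR 1 hn E hEab (by simpa using hEe) ?_ d hdC
        (by simpa using hVe d hdV)
      intro B' hB'n hB'ab hB'e hEB'
      apply le_antisymm _ hEB'
      have := hA₀max' ⟨hB'n, hB'ab, by simpa using hB'e⟩ (hA₀E ▸ hEB')
      rw [hA₀E]; exact this
    exact hdE this
  have hA₀c : IsMulCommutative A₀ := ⟨⟨fun a b => Subtype.ext (hA₀ab a a.2 b b.2)⟩⟩
  obtain ⟨A, hA₀A, hAn, -, hCA⟩ := Cfsg.Agent.Lib.H8.exists_normal_selfCentralizing hR A₀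
  refine ⟨A, le_trans hEA₀ hA₀A, hAn, hCA, ?_⟩
  unfold Cfsg.PRankLE
  push Not
  refine ⟨A₀.subgroupOf A, ?_, ?_, ?_⟩
  · exact ⟨⟨fun a b => Subtype.ext (Subtype.ext (hA₀ab a.1 a.2 b.1 b.2))⟩⟩
  · intro a ha
    apply Subtype.ext
    exact hA₀e a ha
  · rw [Nat.card_congr (Subgroup.subgroupOfEquivOfLe hA₀A).toEquiv]
    exact hA₀card

end Cfsg.Agent.S1452
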