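-- Statement S2428
import Cfsg.Statements.S2428
import Cfsg.Agent.Lib.H12.SL2Reg
import Cfsg.Agent.Lib.H12.SL2Ind2

set_option autoImplicit false
open Cfsg

namespace Cfsg.Agent.S2428

open Matrix Cfsg.Agent.Lib.H12

variable {F : Type*} [Field F]

local notation "SL2" => Matrix.SpecialLinearGroup (Fin 2) F
local notation "M2" => Matrix (Fin 2) (Fin 2) F

theorem bval (x : Fˣ × F) :
    ((borelMkSL' x : SL2) : M2) = !![(x.1 : F), x.2; 0, ((x.1⁻¹ : Fˣ) : F)] := rfl

/-- diagonal elements -/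
theorem diag_entries (d : SL2) (hd01 : (d : M2) 0 1 = 0) (hd10 : (d : M2) 1 0 = 0) :
    (d : M2) 0 0 * (d : M2) 1 1 = 1 := by
  have := d.det_coe
  rw [Matrix.det_fin_two, hd01, zero_mul, sub_zero] at this
  exact this

theorem trace_sq_ne (d : SL2) (hd01 : (d : M2) 0 1 = 0) (hd10 : (d : M2) 1 0 = 0)
    (hda : (d : M2) 0 0 ^ 2 ≠ 1) : (d : M2).trace ^ 2 ≠ 4 := by
  have h1 := diag_entries d hd01 hd10
  intro h
  rw [Matrix.trace_fin_two] at h
  have h0 : (d : M2) 0 0 ≠ 0 := left_ne_zero_of_mul_eq_one h1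
  have h3 : ((d : M2) 0 0 - (d : M2) 1 1) ^ 2 = 0 := by linear_combination h - 4 * h1
  have h4 : (d : M2) 0 0 = (d : M2) 1 1 := sub_eq_zero.mp (pow_eq_zero_iff (by norm_num) |>.mp h3)
  apply hda
  rw [sq]
  nth_rewrite 2 [h4]
  exact h1

theorem mem_centralizer_iff_diag (d : SL2) (hd01 : (d : M2) 0 1 = 0) (hd10 : (d : M2) 1 0 = 0)
    (hda : (d : M2) 0 0 ^ 2 ≠ 1) (g : SL2) :
    g ∈ Subgroup.centralizer ({d} : Set SL2) ↔ ((g : M2) 0 1 = 0 ∧ (g : M2) 1 0 = 0) := by
  have ht := trace_sq_ne d hd01 hd10 hda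
  have hd : NonScalar (d : M2) := nonScalar_of_trace_sq_ne d ht
  constructor
  · intro hg
    obtain ⟨α, β, h⟩ := (mem_centralizer_iff_span hd g).mp hg
    rw [h]
    simp [hd01, hd10]
  · rintro ⟨h1, h2⟩
    rw [Subgroup.mem_centralizer_singleton_iff]
    apply Subtype.ext
    rw [Matrix.SpecialLinearGroup.coe_mul, Matrix.SpecialLinearGroup.coe_mul]
    ext i j
    fin_cases i <;> fin_cases j <;> simp [Matrix.mul_apply, Fin.sum_univ_two, h1, h2, hd01, hd10] <;>
      ring

theorem card_centralizer [Fintype F] (d : SL2) (hd01 : (d : M2) 0 1 = 0) (hd10 : (d : M2) 1 0 = 0)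
    (hda : (d : M2) 0 0 ^ 2 ≠ 1) :
    Nat.card (Subgroup.centralizer ({d} : Set SL2)) = Fintype.card F - 1 := by
  have hmem := mem_centralizer_iff_diag d hd01 hd10 hda
  let f : Fˣ → Subgroup.centralizer ({d} : Set SL2) := fun a =>
    ⟨borelMkSL' (a, 0), by rw [hmem, bval]; simp⟩
  have hf : Function.Bijective f := by
    constructor
    · intro a b hab
      have h1 : borelMkSL' (a, (0 : F)) = borelMkSL' (b, (0 : F)) := congrArg Subtype.val hab
      have h2 := congrArg (fun x : SL2 => (x : M2) 0 0) h1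
      simp only [bval] at h2
      apply Units.ext
      simpa using h2
    · rintro ⟨g, hg⟩
      obtain ⟨h1, h2⟩ := (hmem g).mp hg
      have h3 := diag_entries g h1 h2
      have h0 : (g : M2) 0 0 ≠ 0 := left_ne_zero_of_mul_eq_one h3
      refine ⟨Units.mk0 _ h0, ?_⟩
      apply Subtype.ext
      apply Subtype.ext
      show ((borelMkSL' (Units.mk0 _ h0, (0 : F)) : SL2) : M2) = (g : M2)
      rw [bval]
      ext i j
      fin_cases i <;> fin_cases j <;> simp [h1, h2]
      exact (eq_inv_of_mul_eq_one_right h3).symm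
  rw [← Nat.card_congr (Equiv.ofBijective f hf), Nat.card_units, Nat.card_eq_fintype_card]

/-- Let F be a finite field with q elements, q odd, and let d be a diagonal element of SL₂ over F whose diagonal entry a has a² ≠ 1 (such d exist exactly when q > 3). Then the centraliser of d is precisely the diagonal subgroup T; the normaliser of T has order 2(q − 1) and exactly (q + 5)/2 conjugacy classes; and every element of that normaliser outside T has square equal to −1. -/
theorem result {F : Type*} [Field F] [Fintype F] (hodd : Odd (Fintype.card F))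
    (d : Matrix.SpecialLinearGroup (Fin 2) F) (hd01 : (d : Matrix (Fin 2) (Fin 2) F) 0 1 = 0) (hd10 : (d : Matrix (Fin 2) (Fin 2) F) 1 0 = 0) (hda : (d : Matrix (Fin 2) (Fin 2) F) 0 0 ^ 2 ≠ 1) :
    (∀ g : Matrix.SpecialLinearGroup (Fin 2) F, g ∈ Subgroup.centralizer ({d} : Set (Matrix.SpecialLinearGroup (Fin 2) F)) ↔ ((g : Matrix (Fin 2) (Fin 2) F) 0 1 = 0 ∧ (g : Matrix (Fin 2) (Fin 2) F) 1 0 = 0)) ∧
    Nat.card (Subgroup.normalizer ((Subgroup.centralizer ({d} : Set (Matrix.SpecialLinearGroup (Fin 2) F))) : Set (Matrix.SpecialLinearGroup (Fin 2) F))) = 2 * (Fintype.card F - 1) ∧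
    Nat.card (ConjClasses (Subgroup.normalizer ((Subgroup.centralizer ({d} : Set (Matrix.SpecialLinearGroup (Fin 2) F))) : Set (Matrix.SpecialLinearGroup (Fin 2) F)))) = (Fintype.card F + 5) / 2 ∧
    ∀ g : Matrix.SpecialLinearGroup (Fin 2) F, g ∈ Subgroup.normalizer ((Subgroup.centralizer ({d} : Set (Matrix.SpecialLinearGroup (Fin 2) F))) : Set (Matrix.SpecialLinearGroup (Fin 2) F)) →
      g ∉ Subgroup.centralizer ({d} : Set (Matrix.SpecialLinearGroup (Fin 2) F)) → ((g * g) : Matrix (Fin 2) (Fin 2) F) = -1 := by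
  have h2 : (2 : F) ≠ 0 := two_ne_zero_of_odd hodd
  have ht := trace_sq_ne d hd01 hd10 hda
  obtain ⟨hN, hK⟩ := classes_normalizer hodd ht
  have hC := card_centralizer d hd01 hd10 hda
  have hq : 2 ≤ Fintype.card F := Fintype.one_lt_card
  refine ⟨mem_centralizer_iff_diag d hd01 hd10 hda, ?_, ?_, ?_⟩
  · rw [hN, hC]
  · rw [hC] at hK
    omega
  · intro g hg hgC
    exact sq_eq_neg_one_of_mem_normalizer h2 ht hg hgC

end Cfsg.Agent.S2428
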