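import Cfsg.Statements.S4866
import Cfsg.Agent.Lib.H24.OrbitCount
import Cfsg.Agent.Lib.H24.CharPermLemma
import Cfsg.Agent.Lib.H24.CharConj
import Cfsg.Agent.Lib.H8.Clifford

set_option autoImplicit false
open Cfsg

namespace Cfsg.Agent.S4866

open Cfsg.Agent.Lib.H24 Cfsg.Agent.Lib.L0 MulAction
open scoped ComplexConjugate

section setup

variable {G : Type*} [Group G] (K : Subgroup G) [hK : K.Normal]

theorem conj_mem' (g : G) (k : K) : g⁻¹ * (k : G) * g ∈ K := by
  have := hK.conj_mem k k.2 g⁻¹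
  simpa using this

/-- `f ↦ f ∘ (conjugation by g⁻¹)`. -/
def conjFun (g : G) (f : K → ℂ) : K → ℂ := fun k => f ⟨g⁻¹ * (k : G) * g, conj_mem' K g k⟩

theorem conjFun_apply (g : G) (f : K → ℂ) (k : K) :
    conjFun K g f k = f ⟨g⁻¹ * (k : G) * g, conj_mem' K g k⟩ := rfl

theorem conjFun_one (f : K → ℂ) : conjFun K 1 f = f := by
  funext k
  rw [conjFun_apply]
  congr 1
  apply Subtype.ext
  simp

theorem conjFun_mul (g h : G) (f : K → ℂ) :
    conjFun K (g * h) f = conjFun K g (conjFun K h f) := by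
  funext k
  rw [conjFun_apply, conjFun_apply, conjFun_apply]
  congr 1
  apply Subtype.ext
  simp only [mul_inv_rev]
  group

theorem isIrrCharacter_conjFun (g : G) (f : K → ℂ) (hf : IsIrrCharacter K f) :
    IsIrrCharacter K (conjFun K g f) := by
  have := Cfsg.Agent.Lib.H8.isIrrCharacter_conjNormal K f hf g⁻¹
  convert this using 1
  funext k
  rw [conjFun_apply]
  congr 1
  apply Subtype.ext
  simp

/-- The stabilizer of a function under `conjFun`. -/
def funStab (f : K → ℂ) : Subgroup G where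
  carrier := {h | conjFun K h f = f}
  one_mem' := conjFun_one K f
  mul_mem' := by
    intro a b ha hb
    show conjFun K (a * b) f = f
    rw [conjFun_mul, show conjFun K b f = f from hb]
    exact ha
  inv_mem' := by
    intro a ha
    show conjFun K a⁻¹ f = f
    have h1 : conjFun K a⁻¹ (conjFun K a f) = f := by
      rw [← conjFun_mul, inv_mul_cancel, conjFun_one]
    rw [show conjFun K a f = f from ha] at h1
    exact h1

theorem mem_funStab (f : K → ℂ) (h : G) : h ∈ funStab K f ↔ conjFun K h f = f := Iff.rfl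

/-- The map `k ↦ g⁻¹ k⁻¹ g`. -/
def tau (g : G) (k : K) : K := ⟨g⁻¹ * (k : G)⁻¹ * g, conj_mem' K g k⁻¹⟩

theorem tau_tau (g : G) (k : K) : ((tau K g (tau K g k) : K) : G) = (g ^ 2)⁻¹ * (k : G) * g ^ 2 := by
  simp only [tau, mul_inv_rev, inv_inv, pow_two]
  group

/-- The action of `G` on the real-valued irreducible characters of `K`. -/
@[instance_reducible]
def realIrrAction [Finite G] :
    MulAction G {θ : IrrCharacter K // ∀ k : K, ((θ : K → ℂ) k).im = 0} where
  smul g θ := ⟨⟨conjFun K g θ.1.1, isIrrCharacter_conjFun K g _ θ.1.2⟩, fun _ => θ.2 _⟩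
  one_smul θ := by
    apply Subtype.ext; apply Subtype.ext
    exact conjFun_one K _
  mul_smul g h θ := by
    apply Subtype.ext; apply Subtype.ext
    exact conjFun_mul K g h _

/-- The action of `G` on the real classes of `K`. -/
@[instance_reducible]
def realClassAction :
    MulAction G {C : ConjClasses K // ∀ k : K, ConjClasses.mk k = C → IsConj k k⁻¹} :=
  letI := conjClassesAction K
  { smul := fun g C => ⟨g • C.1, by
      obtain ⟨k₀, hk₀⟩ := ConjClasses.mk_surjective C.1
      have h0 := C.2 k₀ hk₀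
      intro k hk
      rw [← hk₀] at hk
      have h1 : IsConj k ((MulAut.conjNormal g : MulAut K) k₀) :=
        ConjClasses.mk_eq_mk_iff_isConj.mp hk
      have h2 : IsConj ((MulAut.conjNormal g : MulAut K) k₀)
          ((MulAut.conjNormal g : MulAut K) k₀⁻¹) :=
        (MulAut.conjNormal g : MulAut K).toMonoidHom.map_isConj h0
      have h3 : IsConj ((MulAut.conjNormal g : MulAut K) k₀)⁻¹ k⁻¹ := isConj_inv_inv h1.symm
      rw [← map_inv] at h3
      exact (h1.trans h2).trans h3⟩
    one_smul := fun C => Subtype.ext (one_smul G C.1)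
    mul_smul := fun g h C => Subtype.ext (mul_smul g h C.1) }

end setup


section lemmas

variable {G : Type*} [Group G] [Finite G] (K : Subgroup G) [hK : K.Normal]

theorem le_funStab (χ : IrrCharacter K) : K ≤ funStab K (χ : K → ℂ) := by
  intro h hh
  rw [mem_funStab]
  funext k
  rw [conjFun_apply]
  have := irr_conj χ k (⟨h, hh⟩ : K)⁻¹
  rw [← this]
  refine congrArg _ (Subtype.ext ?_)
  simp

/-- Lemma A: characters. -/
theorem comp_tau_eq_iff (hodd : Odd K.index) (g : G) (χ : IrrCharacter K) :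
    (χ : K → ℂ) ∘ tau K g = (χ : K → ℂ) ↔
      (∀ k : K, ((χ : K → ℂ) k).im = 0) ∧ conjFun K g (χ : K → ℂ) = (χ : K → ℂ) := by
  constructor
  · intro h
    have hk : ∀ k : K, (χ : K → ℂ) (tau K g k) = (χ : K → ℂ) k := fun k => congrFun h k
    have hg2 : g ^ 2 ∈ funStab K (χ : K → ℂ) := by
      rw [mem_funStab]
      funext k
      rw [conjFun_apply]
      have h1 := hk (tau K g k)
      rw [hk k] at h1
      rw [← h1]
      refine congrArg _ (Subtype.ext ?_)
      rw [tau_tau]
    have hg := mem_of_sq_mem_of_odd_index K _ hodd (le_funStab K χ) g hg2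
    rw [mem_funStab] at hg
    refine ⟨?_, hg⟩
    intro k
    have h1 : (χ : K → ℂ) k⁻¹ = (χ : K → ℂ) k := by
      have h2 := congrFun hg k⁻¹
      rw [conjFun_apply] at h2
      rw [← h2, ← hk k]
      rfl
    rw [irr_inv χ k] at h1
    exact Complex.conj_eq_iff_im.mp h1
  · rintro ⟨hreal, hg⟩
    funext k
    simp only [Function.comp_apply]
    have h2 := congrFun hg k⁻¹
    rw [conjFun_apply] at h2
    have h3 : (χ : K → ℂ) (tau K g k) = (χ : K → ℂ) k⁻¹ := h2
    rw [h3, irr_inv χ k]
    exact Complex.conj_eq_iff_im.mpr (hreal k)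

/-- Lemma B: classes. -/
theorem tau_class_iff (hodd : Odd K.index) (g : G) (C : ConjClasses K) :
    (∀ k : K, ConjClasses.mk k = C → IsConj (tau K g k) k) ↔
      (∀ k : K, ConjClasses.mk k = C → IsConj k k⁻¹) ∧ (conjClassesAction K).smul g C = C := by
  letI := conjClassesAction K
  have hsmul : ∀ (a : G) (k : K), a • (ConjClasses.mk k : ConjClasses K) =
      ConjClasses.mk ((MulAut.conjNormal a : MulAut K) k) := fun a k => rfl
  have htau : ∀ k : K, tau K g k = ((MulAut.conjNormal g⁻¹ : MulAut K) k)⁻¹ := by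
    intro k
    apply Subtype.ext
    simp [tau, mul_assoc]
  constructor
  · intro h
    -- K fixes C
    have hKstab : K ≤ stabilizer G C := by
      intro a ha
      rw [mem_stabilizer_iff]
      obtain ⟨k₀, rfl⟩ := ConjClasses.mk_surjective C
      rw [hsmul, ConjClasses.mk_eq_mk_iff_isConj]
      refine isConj_iff.mpr ⟨(⟨a, ha⟩ : K)⁻¹, ?_⟩
      apply Subtype.ext
      simp only [Subgroup.coe_mul, Subgroup.coe_inv, MulAut.conjNormal_apply, inv_inv]
      group
    have hg2 : g ^ 2 ∈ stabilizer G C := by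
      have h1 : (g ^ 2)⁻¹ ∈ stabilizer G C := by
        rw [mem_stabilizer_iff]
        obtain ⟨k₀, rfl⟩ := ConjClasses.mk_surjective C
        rw [hsmul, ConjClasses.mk_eq_mk_iff_isConj]
        have h2 : IsConj (tau K g k₀) k₀ := h k₀ rfl
        have h3 : IsConj (tau K g (tau K g k₀)) (tau K g k₀) :=
          h _ (ConjClasses.mk_eq_mk_iff_isConj.mpr h2)
        have h4 : (MulAut.conjNormal (g ^ 2)⁻¹ : MulAut K) k₀ = tau K g (tau K g k₀) := by
          apply Subtype.ext
          rw [tau_tau, MulAut.conjNormal_apply]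
          simp
        rw [h4]
        exact h3.trans h2
      have := (stabilizer G C).inv_mem h1
      simpa using this
    have hg := mem_of_sq_mem_of_odd_index K _ hodd hKstab g hg2
    have hginv : g⁻¹ ∈ stabilizer G C := (stabilizer G C).inv_mem hg
    refine ⟨?_, mem_stabilizer_iff.mp hg⟩
    intro k hk
    have h1 : IsConj (tau K g k) k := h k hk
    have h2 : IsConj ((MulAut.conjNormal g⁻¹ : MulAut K) k) k := by
      rw [mem_stabilizer_iff, ← hk, hsmul, ConjClasses.mk_eq_mk_iff_isConj] at hginv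
      exact hginv
    have h3 : IsConj ((MulAut.conjNormal g⁻¹ : MulAut K) k)⁻¹ k⁻¹ := isConj_inv_inv h2
    rw [← htau] at h3
    exact h1.symm.trans h3
  · rintro ⟨hreal, hg⟩ k hk
    have hg' : g ∈ stabilizer G C := mem_stabilizer_iff.mpr hg
    have hginv : g⁻¹ ∈ stabilizer G C := (stabilizer G C).inv_mem hg'
    have h2 : IsConj ((MulAut.conjNormal g⁻¹ : MulAut K) k) k := by
      rw [mem_stabilizer_iff, ← hk, hsmul, ConjClasses.mk_eq_mk_iff_isConj] at hginv
      exact hginv
    have h3 : IsConj ((MulAut.conjNormal g⁻¹ : MulAut K) k)⁻¹ k⁻¹ := isConj_inv_inv h2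
    rw [← htau] at h3
    exact h3.trans (hreal k hk).symm

theorem isIrrCharacter_comp_tau (g : G) (χ : IrrCharacter K) :
    IsIrrCharacter K ((χ : K → ℂ) ∘ tau K g) := by
  have h1 : (χ : K → ℂ) ∘ tau K g = conjFun K g (fun k => conj ((χ : K → ℂ) k)) := by
    funext k
    simp only [Function.comp_apply]
    rw [conjFun_apply, ← irr_inv χ]
    refine congrArg _ (Subtype.ext ?_)
    simp [tau, mul_assoc]
  rw [h1]
  exact isIrrCharacter_conjFun K g _ (isIrrCharacter_conj χ.2)

end lemmas

/-- Let K be a normal subgroup of odd index in the finite group G. Then G has as many orbits on the real-valued irreducible complex characters of K (acting by conjugation) as it has orbits on the conjugacy classes of K that are real in K; equivalently, the number of G-orbits of real-valued irreducible characters of K equals the number of G-conjugacy classes of elements of K that are conjugate in K to their inverses. -/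
theorem result {G : Type*} [Group G] [Finite G] (K : Subgroup G) [K.Normal] (hodd : Odd K.index) : Nat.card (Quot (fun θ η : {θ : Cfsg.IrrCharacter ↥K // (∀ k : ↥K, ((θ : ↥K → ℂ) k).im = 0)} => ∃ g : G, ∀ k k' : ↥K, (k' : G) = g * (k : G) * g⁻¹ → (η.1 : ↥K → ℂ) k' = (θ.1 : ↥K → ℂ) k)) = Nat.card (Quot (fun x y : {x : ↥K // IsConj x x⁻¹} => ∃ g : G, (y.1 : G) = g * x.1 * g⁻¹)) := by
  classical
  letI actX := realIrrAction K
  letI actC := conjClassesAction K
  letI actY := realClassAction K
  have hfinI : Finite (IrrCharacter K) := finite_irr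
  have hfix : ∀ g : G,
      Nat.card (fixedBy {θ : IrrCharacter ↥K // (∀ k : ↥K, ((θ : ↥K → ℂ) k).im = 0)} g) =
      Nat.card (fixedBy {C : ConjClasses K // ∀ k : K, ConjClasses.mk k = C → IsConj k k⁻¹} g) := by
    intro g
    have hperm := perm_lemma (G := K) (tau K g) (fun χ => isIrrCharacter_comp_tau K g χ)
    have e1 : fixedBy {θ : IrrCharacter ↥K // (∀ k : ↥K, ((θ : ↥K → ℂ) k).im = 0)} g ≃
        {χ : IrrCharacter K // (χ : K → ℂ) ∘ tau K g = (χ : K → ℂ)} :=
      { toFun := fun θ => ⟨θ.1.1, (comp_tau_eq_iff K hodd g θ.1.1).mpr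
          ⟨θ.1.2, congrArg (fun z : {θ : IrrCharacter ↥K //
            (∀ k : ↥K, ((θ : ↥K → ℂ) k).im = 0)} => (z.1 : K → ℂ)) θ.2⟩⟩
        invFun := fun χ => ⟨⟨χ.1, ((comp_tau_eq_iff K hodd g χ.1).mp χ.2).1⟩, by
          rw [mem_fixedBy]
          apply Subtype.ext; apply Subtype.ext
          exact ((comp_tau_eq_iff K hodd g χ.1).mp χ.2).2⟩
        left_inv := fun θ => rfl
        right_inv := fun χ => rfl }
    have e2 : {C : ConjClasses K // ∀ k : K, ConjClasses.mk k = C → IsConj (tau K g k) k} ≃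
        fixedBy {C : ConjClasses K // ∀ k : K, ConjClasses.mk k = C → IsConj k k⁻¹} g :=
      { toFun := fun C => ⟨⟨C.1, ((tau_class_iff K hodd g C.1).mp C.2).1⟩, by
          rw [mem_fixedBy]
          exact Subtype.ext ((tau_class_iff K hodd g C.1).mp C.2).2⟩
        invFun := fun D => ⟨D.1.1, (tau_class_iff K hodd g D.1.1).mpr
          ⟨D.1.2, congrArg Subtype.val D.2⟩⟩
        left_inv := fun C => rfl
        right_inv := fun D => rfl }
    rw [Nat.card_congr e1, hperm, Nat.card_congr e2]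
  have hX : ∀ θ η : {θ : IrrCharacter ↥K // (∀ k : ↥K, ((θ : ↥K → ℂ) k).im = 0)},
      (∃ g : G, ∀ k k' : ↥K, (k' : G) = g * (k : G) * g⁻¹ →
        (η.1 : ↥K → ℂ) k' = (θ.1 : ↥K → ℂ) k) ↔ ∃ g : G, g • θ = η := by
    intro θ η
    constructor
    · rintro ⟨g, hg⟩
      refine ⟨g, ?_⟩
      apply Subtype.ext; apply Subtype.ext
      funext k'
      have := hg ⟨g⁻¹ * (k' : G) * g, conj_mem' K g k'⟩ k' (by simp only; group)
      rw [this]
      rfl
    · rintro ⟨g, hg⟩
      refine ⟨g, ?_⟩
      intro k k' hk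
      rw [← hg]
      show conjFun K g (θ.1 : K → ℂ) k' = (θ.1 : ↥K → ℂ) k
      rw [conjFun_apply]
      refine congrArg _ (Subtype.ext ?_)
      simp only [hk]
      group
  have h1 := card_quot_eq_of_card_fixedBy_eq (G := G)
    (X := {θ : IrrCharacter ↥K // (∀ k : ↥K, ((θ : ↥K → ℂ) k).im = 0)})
    (Y := {C : ConjClasses K // ∀ k : K, ConjClasses.mk k = C → IsConj k k⁻¹}) _ hX
    (fun C D => ∃ g : G, g • C = D) (fun _ _ => Iff.rfl) hfix
  rw [h1]
  symm
  -- the bijection between orbits on real elements and orbits on real classes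
  have hreal : ∀ x : {x : ↥K // IsConj x x⁻¹}, ∀ k : K,
      ConjClasses.mk k = ConjClasses.mk x.1 → IsConj k k⁻¹ := by
    intro x k hk
    have h2 : IsConj k x.1 := ConjClasses.mk_eq_mk_iff_isConj.mp hk
    exact (h2.trans x.2).trans (isConj_inv_inv h2.symm)
  let π : {x : ↥K // IsConj x x⁻¹} →
      {C : ConjClasses K // ∀ k : K, ConjClasses.mk k = C → IsConj k k⁻¹} :=
    fun x => ⟨ConjClasses.mk x.1, hreal x⟩
  have hsm : ∀ (g : G) (x : {x : ↥K // IsConj x x⁻¹}),
      ((g • π x : {C : ConjClasses K // ∀ k : K, ConjClasses.mk k = C → IsConj k k⁻¹}) :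
        ConjClasses K) = ConjClasses.mk ((MulAut.conjNormal g : MulAut K) x.1) := fun g x => rfl
  let Φ : Quot (fun x y : {x : ↥K // IsConj x x⁻¹} => ∃ g : G, (y.1 : G) = g * x.1 * g⁻¹) →
      Quot (fun C D : {C : ConjClasses K // ∀ k : K, ConjClasses.mk k = C → IsConj k k⁻¹} =>
        ∃ g : G, g • C = D) :=
    Quot.lift (fun x => Quot.mk _ (π x)) (by
      rintro x y ⟨g, hg⟩
      refine Quot.sound ⟨g, ?_⟩
      apply Subtype.ext
      rw [hsm]
      refine congrArg _ (Subtype.ext ?_)
      rw [MulAut.conjNormal_apply, hg])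
  refine Nat.card_congr (Equiv.ofBijective Φ ⟨?_, ?_⟩)
  · intro a b
    induction a using Quot.ind with | _ x => ?_
    induction b using Quot.ind with | _ y => ?_
    intro hab
    have h2 : Quot.mk (fun C D : {C : ConjClasses K // ∀ k : K, ConjClasses.mk k = C →
        IsConj k k⁻¹} => ∃ g : G, g • C = D) (π x) = Quot.mk _ (π y) := hab
    rw [quot_eq_iff_of_orbit (G := G) _ (fun _ _ => Iff.rfl)] at h2
    obtain ⟨g, hg⟩ := h2
    have h3 := congrArg Subtype.val hg
    rw [hsm] at h3
    have h4 : IsConj ((MulAut.conjNormal g : MulAut K) x.1) y.1 :=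
      ConjClasses.mk_eq_mk_iff_isConj.mp h3
    obtain ⟨c, hc⟩ := isConj_iff.mp h4
    refine Quot.sound ⟨(c : G) * g, ?_⟩
    have h5 := congrArg Subtype.val hc
    simp only [Subgroup.coe_mul, Subgroup.coe_inv, MulAut.conjNormal_apply] at h5
    rw [← h5]
    group
  · intro b
    induction b using Quot.ind with | _ C => ?_
    obtain ⟨k₀, hk₀⟩ := ConjClasses.mk_surjective C.1
    refine ⟨Quot.mk _ ⟨k₀, C.2 k₀ hk₀⟩, ?_⟩
    show Quot.mk _ (π ⟨k₀, C.2 k₀ hk₀⟩) = Quot.mk _ C
    congr 1
    exact Subtype.ext hk₀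

end Cfsg.Agent.S4866
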