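import Mathlib
import Cfsg.Statements.S1473
import Cfsg.Agent.Lib.H8.Nilpotent
import Cfsg.Agent.Lib.H7.CoprimeQuot
import Cfsg.Agent.Lib.H16.PGroupCenter
import Cfsg.Agent.Lib.H1.SolvableBasic

set_option autoImplicit false
open Cfsg
open Cfsg.Agent.Lib.H8

namespace Cfsg.Agent.S1473

universe u

/-- subgroups of nilpotent subgroups are nilpotent -/
theorem isNilpotent_of_le {G : Type*} [Group G] {K M : Subgroup G} (hM : Group.IsNilpotent M)
    (h : K ≤ M) : Group.IsNilpotent K := by
  haveI := hM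
  exact Group.nilpotent_of_mulEquiv (Subgroup.subgroupOfEquivOfLe h)

/-- images of nilpotent subgroups are nilpotent -/
theorem isNilpotent_map {G G' : Type*} [Group G] [Group G'] (f : G →* G') {K : Subgroup G}
    (hK : Group.IsNilpotent K) : Group.IsNilpotent (K.map f) := by
  haveI := hK
  exact Group.nilpotent_of_surjective (f.subgroupMap K) (f.subgroupMap_surjective K)

theorem mem_centralizer_singleton {G : Type*} [Group G] {x c : G} :
    c ∈ Subgroup.centralizer ({x} : Set G) ↔ x * c = c * x := by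
  rw [Subgroup.mem_centralizer_iff]
  constructor
  · intro h; exact h x rfl
  · intro h y hy; rw [Set.mem_singleton_iff.mp hy]; exact h

theorem isCNGroup_of_mulEquiv {G G' : Type*} [Group G] [Group G'] (e : G ≃* G')
    (h : Cfsg.IsCNGroup G) : Cfsg.IsCNGroup G' := by
  intro g' hg'
  have hg : e.symm g' ≠ 1 := by
    intro h1
    apply hg'
    have := congrArg e h1
    simpa using this
  have hnil := h (e.symm g') hg
  have heq : Subgroup.centralizer ({g'} : Set G') =
      (Subgroup.centralizer ({e.symm g'} : Set G)).map e.toMonoidHom := by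
    ext y
    rw [mem_centralizer_singleton, Subgroup.mem_map]
    constructor
    · intro hy
      refine ⟨e.symm y, ?_, by simp⟩
      rw [mem_centralizer_singleton, ← map_mul, ← map_mul, hy]
    · rintro ⟨z, hz, rfl⟩
      rw [mem_centralizer_singleton] at hz
      have := congrArg e hz
      simpa using this
  rw [heq]
  exact isNilpotent_map _ hnil

theorem exists_pow_eq_one_of_isPGroup {G : Type*} [Group G] {p : ℕ} {P : Subgroup G}
    (hP : IsPGroup p P) {u : G} (hu : u ∈ P) : ∃ k : ℕ, u ^ p ^ k = 1 := by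
  obtain ⟨k, hk⟩ := hP ⟨u, hu⟩
  refine ⟨k, ?_⟩
  have := congrArg Subtype.val hk
  rwa [Subgroup.coe_pow, Subgroup.coe_one] at this

theorem isPGroup_zpowers {G : Type*} [Group G] {p : ℕ} {x : G} {k : ℕ} (hk : x ^ p ^ k = 1) :
    IsPGroup p (Subgroup.zpowers x) := by
  rintro ⟨d, hd⟩
  obtain ⟨i, rfl⟩ := Subgroup.mem_zpowers_iff.mp hd
  refine ⟨k, ?_⟩
  apply Subtype.ext
  simp only [Subgroup.coe_pow, Subgroup.coe_one]
  rw [← zpow_natCast, ← zpow_mul, mul_comm, zpow_mul, zpow_natCast, hk, one_zpow]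

/-- A `q`-subgroup `B` of `C` lies in a `q`-subgroup of `C` of full `q`-power order. -/
theorem exists_sylow_subgroup {G : Type*} [Group G] [Finite G] (C : Subgroup G) (q : ℕ)
    [Fact q.Prime] (B : Subgroup G) (hB : IsPGroup q B) (hBC : B ≤ C) :
    ∃ Q : Subgroup G, B ≤ Q ∧ Q ≤ C ∧ IsPGroup q Q ∧
      Nat.card Q = q ^ (Nat.card C).factorization q := by
  have hB' : IsPGroup q (B.subgroupOf C) := hB.comap_subtype
  obtain ⟨Q₀, hQ₀⟩ := hB'.exists_le_sylow
  refine ⟨(Q₀ : Subgroup C).map C.subtype, ?_, Subgroup.map_subtype_le _, Q₀.isPGroup'.map _, ?_⟩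
  · intro b hb
    exact ⟨⟨b, hBC hb⟩, hQ₀ (Subgroup.mem_subgroupOf.mpr hb), rfl⟩
  · rw [Subgroup.card_subtype, Sylow.card_eq_multiplicity]

/-- The case of a `p`-element over a `p`-group. -/
theorem key_same {G : Type u} [Group G] [Finite G] (hCN : Cfsg.IsCNGroup G) (p : ℕ)
    [hpf : Fact p.Prime] (N : Subgroup G) [hNn : N.Normal] (hNp : IsPGroup p N)
    (hNab : ∀ a ∈ N, ∀ b ∈ N, a * b = b * a) (hN1 : N ≠ ⊥) (x : G) (k : ℕ) (hk : x ^ p ^ k = 1)
    (hxN : QuotientGroup.mk' N x ≠ 1) :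
    Group.IsNilpotent (Subgroup.centralizer ({QuotientGroup.mk' N x} : Set (G ⧸ N))) := by
  have hp : p.Prime := hpf.out
  obtain ⟨π, hπ⟩ : ∃ π : G →* G ⧸ N, π = QuotientGroup.mk' N := ⟨_, rfl⟩
  rw [← hπ] at hxN ⊢
  have hπN : ∀ n ∈ N, π n = 1 := by
    intro n hn; rw [hπ]; exact (QuotientGroup.eq_one_iff n).mpr hn
  obtain ⟨C, hC⟩ : ∃ C : Subgroup G, C = (Subgroup.centralizer ({π x} : Set (G ⧸ N))).comap π :=
    ⟨_, rfl⟩
  have hmemC : ∀ c, c ∈ C ↔ π x * π c = π c * π x := by
    intro c; rw [hC, Subgroup.mem_comap, mem_centralizer_singleton]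
  have hNC : N ≤ C := by
    intro n hn; rw [hmemC, hπN n hn]; simp
  have hx1 : x ≠ 1 := by
    rintro rfl; exact hxN (map_one π)
  -- the p-group `X`
  have hzx : IsPGroup p (Subgroup.zpowers x) := isPGroup_zpowers hk
  have hXp : IsPGroup p (N ⊔ Subgroup.zpowers x : Subgroup G) := hNp.to_sup_of_normal_left hzx
  have hnormN : ∀ (X : Subgroup G), X ≤ Subgroup.normalizer (N : Set G) := by
    intro X
    rw [Subgroup.normalizer_eq_top]
    exact le_top
  have horderN : ∀ n ∈ N, ∃ i, orderOf n = p ^ i := by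
    intro n hn
    obtain ⟨i, hi⟩ := (IsPGroup.iff_orderOf.mp hNp) ⟨n, hn⟩
    rw [Subgroup.orderOf_mk] at hi
    exact ⟨i, hi⟩
  -- Step 1
  have step1 : ∀ y ∈ C, ∀ q : ℕ, q.Prime → q ≠ p → (∃ j : ℕ, y ^ q ^ j = 1) →
      ∀ n ∈ N, y * n = n * y := by
    intro y hy q hq hqp ⟨j, hj⟩
    haveI : Fact q.Prime := ⟨hq⟩
    have hpq : ∀ i l : ℕ, Nat.Coprime (p ^ i) (q ^ l) := fun i l =>
      Nat.Coprime.pow _ _ ((Nat.coprime_primes hp hq).mpr hqp.symm)
    have hcop : (Nat.card N).Coprime q := by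
      obtain ⟨m, hm⟩ := (IsPGroup.iff_card.mp hNp)
      rw [hm]
      simpa using hpq m 1
    have hzq : IsPGroup q (Subgroup.zpowers y) := isPGroup_zpowers hj
    have hxcent : QuotientGroup.mk' N x ∈ Subgroup.centralizer
        (((Subgroup.zpowers y).map (QuotientGroup.mk' N) : Subgroup (G ⧸ N)) : Set (G ⧸ N)) := by
      rw [Subgroup.mem_centralizer_iff]
      rintro _ ⟨d, hd, rfl⟩
      obtain ⟨i, rfl⟩ := Subgroup.mem_zpowers_iff.mp hd
      rw [← hπ, map_zpow]
      have := (hmemC y).mp hy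
      exact ((show Commute (π x) (π y) from this).zpow_right i).eq.symm
    obtain ⟨x', hx'cent, hx'π⟩ :=
      Cfsg.Agent.Lib.H7.exists_mem_centralizer_of_mk_mem_centralizer q hcop hzq hxcent
    rw [← hπ] at hx'π
    have hx'y : y * x' = x' * y :=
      (Subgroup.mem_centralizer_iff.mp hx'cent) y (Subgroup.mem_zpowers y)
    have hx'1 : x' ≠ 1 := by
      rintro rfl
      apply hxN
      rw [← hx'π, map_one]
    have hx'X : x' ∈ (N ⊔ Subgroup.zpowers x : Subgroup G) := by
      have h1 : x⁻¹ * x' ∈ N := by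
        rw [← QuotientGroup.eq_one_iff, ← QuotientGroup.mk'_apply, ← hπ, map_mul, map_inv, hx'π]
        simp
      have h2 : x' = x * (x⁻¹ * x') := by group
      rw [h2]
      exact Subgroup.mul_mem _ (Subgroup.mem_sup_right (Subgroup.mem_zpowers x))
        (Subgroup.mem_sup_left h1)
    obtain ⟨a, haN, ha1, hac⟩ := Cfsg.Agent.Lib.H16.exists_ne_one_central_of_le_normalizer hp
      (N ⊔ Subgroup.zpowers x) N hXp le_sup_left (hnormN _) hN1
    have hax' : x' * a = a * x' := hac x' hx'X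
    have hMnil := hCN x' hx'1
    have haM : a ∈ Subgroup.centralizer ({x'} : Set G) := mem_centralizer_singleton.mpr hax'
    have hyM : y ∈ Subgroup.centralizer ({x'} : Set G) := mem_centralizer_singleton.mpr hx'y.symm
    have hyord : orderOf y ∣ q ^ j := orderOf_dvd_of_pow_eq_one hj
    have hay : a * y = y * a := by
      obtain ⟨i, hi⟩ := horderN a haN
      apply mul_comm_of_coprime_of_mem_nilpotent _ hMnil haM hyM
      rw [hi]
      exact Nat.Coprime.coprime_dvd_right hyord (hpq i j)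
    intro n hn
    have hMa := hCN a ha1
    have hyMa : y ∈ Subgroup.centralizer ({a} : Set G) := mem_centralizer_singleton.mpr hay
    have hnMa : n ∈ Subgroup.centralizer ({a} : Set G) :=
      mem_centralizer_singleton.mpr (hNab a haN n hn)
    obtain ⟨i, hi⟩ := horderN n hn
    apply mul_comm_of_coprime_of_mem_nilpotent _ hMa hyMa hnMa
    rw [hi]
    exact (Nat.Coprime.coprime_dvd_right hyord (hpq i j)).symm
  -- Step 2
  obtain ⟨P, hNP, hPC, hPp, hPcard⟩ := exists_sylow_subgroup C p N hNp hNC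
  obtain ⟨a, haN, ha1, hac⟩ := Cfsg.Agent.Lib.H16.exists_ne_one_central_of_le_normalizer hp
    P N hPp hNP (hnormN _) hN1
  have hCa : C ≤ Subgroup.centralizer ({a} : Set G) := by
    obtain ⟨K, hK⟩ : ∃ K : Subgroup G, K = C ⊓ Subgroup.centralizer (N : Set G) := ⟨_, rfl⟩
    have hJC : P ⊔ K ≤ C := sup_le hPC (hK ▸ inf_le_left)
    have hJa : P ⊔ K ≤ Subgroup.centralizer ({a} : Set G) := by
      apply sup_le
      · intro g hg
        exact mem_centralizer_singleton.mpr (hac g hg).symm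
      · intro g hg
        rw [hK] at hg
        exact mem_centralizer_singleton.mpr ((Subgroup.mem_centralizer_iff.mp hg.2) a haN)
    have hdvd : Nat.card C ∣ Nat.card (P ⊔ K : Subgroup G) := by
      rw [← Nat.factorization_prime_le_iff_dvd Nat.card_pos.ne' Nat.card_pos.ne']
      intro q hq
      haveI : Fact q.Prime := ⟨hq⟩
      rw [← hq.pow_dvd_iff_le_factorization Nat.card_pos.ne']
      by_cases hqp : q = p
      · subst hqp
        rw [← hPcard]
        exact Subgroup.card_dvd_of_le le_sup_left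
      · obtain ⟨Q, -, hQC, hQq, hQcard⟩ :=
          exists_sylow_subgroup C q ⊥ (IsPGroup.of_bot) bot_le
        rw [← hQcard]
        apply Subgroup.card_dvd_of_le
        refine le_trans ?_ le_sup_right
        intro u hu
        rw [hK]
        refine Subgroup.mem_inf.mpr ⟨hQC hu, ?_⟩
        rw [Subgroup.mem_centralizer_iff]
        intro n hn
        exact (step1 u (hQC hu) q hq hqp (exists_pow_eq_one_of_isPGroup hQq hu) n hn).symm
    have hJeq : (P ⊔ K : Subgroup G) = C :=
      Subgroup.eq_of_le_of_card_ge hJC (Nat.le_of_dvd Nat.card_pos hdvd)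
    rw [← hJeq]
    exact hJa
  have hCnil : Group.IsNilpotent C := isNilpotent_of_le (hCN a ha1) hCa
  have hsurj : Function.Surjective π := by rw [hπ]; exact QuotientGroup.mk'_surjective N
  have : Subgroup.centralizer ({π x} : Set (G ⧸ N)) = C.map π := by
    rw [hC, Subgroup.map_comap_eq_self_of_surjective hsurj]
  rw [this]
  exact isNilpotent_map π hCnil

/-- The coprime case. -/
theorem key_diff {G : Type u} [Group G] [Finite G] (hCN : Cfsg.IsCNGroup G) (p : ℕ)
    [hpf : Fact p.Prime] (N : Subgroup G) [hNn : N.Normal] (hNp : IsPGroup p N)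
    (r : ℕ) (hr : r.Prime) (hrp : r ≠ p) (x : G) (k : ℕ) (hk : x ^ r ^ k = 1)
    (hxN : QuotientGroup.mk' N x ≠ 1) :
    Group.IsNilpotent (Subgroup.centralizer ({QuotientGroup.mk' N x} : Set (G ⧸ N))) := by
  have hp : p.Prime := hpf.out
  haveI : Fact r.Prime := ⟨hr⟩
  have hx1 : x ≠ 1 := by
    rintro rfl; exact hxN (map_one _)
  have hcop : (Nat.card N).Coprime r := by
    obtain ⟨m, hm⟩ := (IsPGroup.iff_card.mp hNp)
    rw [hm]
    exact Nat.Coprime.pow_left _ ((Nat.coprime_primes hp hr).mpr hrp.symm)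
  have hzr : IsPGroup r (Subgroup.zpowers x) := isPGroup_zpowers hk
  have hmap := Cfsg.Agent.Lib.H7.map_centralizer_of_coprime r hcop hzr
  have h1 : Subgroup.centralizer ((Subgroup.zpowers x : Subgroup G) : Set G) =
      Subgroup.centralizer ({x} : Set G) := by
    ext c
    rw [mem_centralizer_singleton, Subgroup.mem_centralizer_iff]
    constructor
    · intro h; exact h x (Subgroup.mem_zpowers x)
    · intro h d hd
      obtain ⟨i, rfl⟩ := Subgroup.mem_zpowers_iff.mp hd
      exact ((show Commute x c from h).zpow_left i).eq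
  have h2 : Subgroup.centralizer ((((Subgroup.zpowers x).map (QuotientGroup.mk' N) :
      Subgroup (G ⧸ N))) : Set (G ⧸ N)) =
      Subgroup.centralizer ({QuotientGroup.mk' N x} : Set (G ⧸ N)) := by
    ext c
    rw [mem_centralizer_singleton, Subgroup.mem_centralizer_iff]
    constructor
    · intro h; exact h _ ⟨x, Subgroup.mem_zpowers x, rfl⟩
    · rintro h _ ⟨d, hd, rfl⟩
      obtain ⟨i, rfl⟩ := Subgroup.mem_zpowers_iff.mp hd
      rw [map_zpow]
      exact ((show Commute (QuotientGroup.mk' N x) c from h).zpow_left i).eq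
  rw [← h2, ← hmap, h1]
  exact isNilpotent_map _ (hCN x hx1)

theorem key {G : Type u} [Group G] [Finite G] (hCN : Cfsg.IsCNGroup G) (p : ℕ)
    [hpf : Fact p.Prime] (N : Subgroup G) [hNn : N.Normal] (hNp : IsPGroup p N)
    (hNab : ∀ a ∈ N, ∀ b ∈ N, a * b = b * a) (hN1 : N ≠ ⊥) (xb : G ⧸ N) (r : ℕ) (hr : r.Prime)
    (hxb : orderOf xb = r) :
    Group.IsNilpotent (Subgroup.centralizer ({xb} : Set (G ⧸ N))) := by
  obtain ⟨x₀, hx₀⟩ := QuotientGroup.mk'_surjective N xb
  obtain ⟨c₁, c₂, hc₁, hc₂, hdec, ⟨k, hk⟩, hc₂r⟩ :=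
    exists_p_decomp x₀ (orderOf_pos x₀).ne' r hr
  have hxb1 : xb ≠ 1 := by
    intro h
    rw [h, orderOf_one] at hxb
    exact hr.one_lt.ne' hxb.symm
  have hπc₂ : QuotientGroup.mk' N c₂ = 1 := by
    obtain ⟨i, rfl⟩ := Subgroup.mem_zpowers_iff.mp hc₂
    have e1 : (QuotientGroup.mk' N (x₀ ^ i)) ^ r = 1 := by
      rw [map_zpow, hx₀, ← zpow_natCast, ← zpow_mul, mul_comm, zpow_mul, zpow_natCast, ← hxb,
        pow_orderOf_eq_one, one_zpow]
    have e2 : (QuotientGroup.mk' N (x₀ ^ i)) ^ orderOf (x₀ ^ i) = 1 := by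
      rw [← map_pow, pow_orderOf_eq_one, map_one]
    have := Nat.eq_one_of_dvd_coprimes hc₂r (orderOf_dvd_of_pow_eq_one e2)
      (orderOf_dvd_of_pow_eq_one e1)
    exact orderOf_eq_one_iff.mp this
  have hπc₁ : QuotientGroup.mk' N c₁ = xb := by
    rw [← hx₀, hdec, map_mul, hπc₂, mul_one]
  rw [← hπc₁] at hxb1 ⊢
  by_cases hrp : r = p
  · subst hrp
    exact key_same hCN r N hNp hNab hN1 c₁ k hk hxb1
  · exact key_diff hCN p N hNp r hr hrp c₁ k hk hxb1

theorem cn_quotient_abelian_pgroup {G : Type u} [Group G] [Finite G] (hCN : Cfsg.IsCNGroup G)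
    (p : ℕ) [hpf : Fact p.Prime] (N : Subgroup G) [hNn : N.Normal] (hNp : IsPGroup p N)
    (hNab : ∀ a ∈ N, ∀ b ∈ N, a * b = b * a) (hN1 : N ≠ ⊥) : Cfsg.IsCNGroup (G ⧸ N) := by
  intro xb hxb1
  have hn1 : orderOf xb ≠ 1 := fun h => hxb1 (orderOf_eq_one_iff.mp h)
  have hr : (orderOf xb).minFac.Prime := Nat.minFac_prime hn1
  have hrdvd : (orderOf xb).minFac ∣ orderOf xb := Nat.minFac_dvd _
  have hord : orderOf (xb ^ (orderOf xb / (orderOf xb).minFac)) = (orderOf xb).minFac :=
    orderOf_pow_orderOf_div (orderOf_pos xb).ne' hrdvd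
  have hnil := key hCN p N hNp hNab hN1 _ _ hr hord
  apply isNilpotent_of_le hnil
  intro c hc
  rw [mem_centralizer_singleton] at hc ⊢
  exact ((show Commute xb c from hc).pow_left _).eq

/-- A nontrivial solvable normal subgroup contains a nontrivial abelian `p`-subgroup which is
normal in the whole group. -/
theorem exists_normal_abelian_pgroup {G : Type u} [Group G] [Finite G] (H : Subgroup G)
    [hHn : H.Normal] (hH : Group.IsSolvable H) (hH1 : H ≠ ⊥) :
    ∃ (p : ℕ) (_ : p.Prime) (N : Subgroup G), N ≤ H ∧ N.Normal ∧ IsPGroup p N ∧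
      (∀ a ∈ N, ∀ b ∈ N, a * b = b * a) ∧ N ≠ ⊥ := by
  haveI := hH
  haveI : Nontrivial H := (Subgroup.nontrivial_iff_ne_bot H).mpr hH1
  obtain ⟨D, hDc, hDcomm, hDne⟩ :=
    Cfsg.Agent.Lib.H1.exists_characteristic_commutative_ne_bot_of_isSolvable (G := H)
  have hcard : Nat.card D ≠ 1 := fun h => hDne (Subgroup.card_eq_one.mp h)
  obtain ⟨p, hp, hpd⟩ := Nat.exists_prime_and_dvd hcard
  haveI : Fact p.Prime := ⟨hp⟩
  obtain ⟨d₀, hd₀⟩ := exists_prime_orderOf_dvd_card' p hpd
  -- commutativity in `D`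
  have hDab : ∀ a b : H, a ∈ D → b ∈ D → a * b = b * a := by
    intro a b ha hb
    have := hDcomm.is_comm.comm (⟨a, ha⟩ : D) ⟨b, hb⟩
    exact congrArg Subtype.val this
  -- conjugation invariance of `D`
  have hDconj : ∀ (g : G) (d : H), d ∈ D → (MulAut.conjNormal g : MulAut H) d ∈ D := by
    intro g d hd
    have := (Subgroup.characteristic_iff_map_eq.mp hDc) (MulAut.conjNormal g : MulAut H)
    rw [← this]
    exact ⟨d, hd, rfl⟩
  obtain ⟨N, hNdef⟩ : ∃ N : Subgroup G, ∀ g, g ∈ N ↔ ∃ h : g ∈ H, (⟨g, h⟩ : H) ∈ D ∧ g ^ p = 1 := by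
    refine ⟨{ carrier := {g | ∃ h : g ∈ H, (⟨g, h⟩ : H) ∈ D ∧ g ^ p = 1}
              mul_mem' := ?_
              one_mem' := ?_
              inv_mem' := ?_ }, fun g => Iff.rfl⟩
    · rintro a b ⟨ha, haD, hap⟩ ⟨hb, hbD, hbp⟩
      refine ⟨H.mul_mem ha hb, D.mul_mem haD hbD, ?_⟩
      have hc : a * b = b * a := congrArg Subtype.val (hDab ⟨a, ha⟩ ⟨b, hb⟩ haD hbD)
      rw [(show Commute a b from hc).mul_pow, hap, hbp, one_mul]
    · exact ⟨H.one_mem, D.one_mem, one_pow _⟩
    · rintro a ⟨ha, haD, hap⟩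
      exact ⟨H.inv_mem ha, D.inv_mem haD, by rw [inv_pow, hap, inv_one]⟩
  refine ⟨p, hp, N, ?_, ?_, ?_, ?_, ?_⟩
  · intro a ha
    obtain ⟨ha', -, -⟩ := (hNdef a).mp ha
    exact ha'
  · constructor
    intro a haN g
    obtain ⟨ha, haD, hap⟩ := (hNdef a).mp haN
    rw [hNdef]
    refine ⟨hHn.conj_mem a ha g, ?_, ?_⟩
    · have := hDconj g ⟨a, ha⟩ haD
      have e : (MulAut.conjNormal g : MulAut H) ⟨a, ha⟩ = ⟨g * a * g⁻¹, hHn.conj_mem a ha g⟩ := by
        apply Subtype.ext
        simp [MulAut.conjNormal_apply]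
      rwa [e] at this
    · rw [conj_pow, hap]; group
  · rintro ⟨a, haN⟩
    obtain ⟨ha, haD, hap⟩ := (hNdef a).mp haN
    refine ⟨1, ?_⟩
    apply Subtype.ext
    simpa using hap
  · intro a haN b hbN
    obtain ⟨ha, haD, -⟩ := (hNdef a).mp haN
    obtain ⟨hb, hbD, -⟩ := (hNdef b).mp hbN
    exact congrArg Subtype.val (hDab ⟨a, ha⟩ ⟨b, hb⟩ haD hbD)
  · intro hbot
    have hmem : ((d₀ : H) : G) ∈ N := by
      rw [hNdef]
      refine ⟨(d₀ : H).2, d₀.2, ?_⟩
      have := pow_orderOf_eq_one d₀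
      rw [hd₀] at this
      have h2 := congrArg (fun z : D => ((z : H) : G)) this
      simpa using h2
    rw [hbot, Subgroup.mem_bot] at hmem
    have : d₀ = 1 := by
      apply Subtype.ext
      apply Subtype.ext
      simpa using hmem
    rw [this, orderOf_one] at hd₀
    exact hp.one_lt.ne' hd₀.symm

theorem main : ∀ (n : ℕ) (G : Type u) [Group G] [Finite G], Cfsg.IsCNGroup G →
    ∀ (H : Subgroup G) [H.Normal], Group.IsSolvable H → Nat.card H = n →
      Cfsg.IsCNGroup (G ⧸ H) := by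
  intro n
  induction n using Nat.strong_induction_on with
  | _ n ih =>
    intro G _ _ hCN H hHn hH hn
    by_cases hH1 : H = ⊥
    · subst hH1
      exact isCNGroup_of_mulEquiv (QuotientGroup.quotientBot (G := G)).symm hCN
    · obtain ⟨p, hp, N, hNH, hNn, hNp, hNab, hN1⟩ := exists_normal_abelian_pgroup H hH hH1
      haveI := hNn
      haveI : Fact p.Prime := ⟨hp⟩
      have hCN' := cn_quotient_abelian_pgroup hCN p N hNp hNab hN1
      haveI := hH
      have hsurj := (QuotientGroup.mk' N).subgroupMap_surjective H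
      have hH's : Group.IsSolvable (H.map (QuotientGroup.mk' N)) :=
        Group.isSolvable_of_surjective hsurj
      have hcard : Nat.card (H.map (QuotientGroup.mk' N)) < n := by
        rw [← hn]
        haveI : Fintype H := Fintype.ofFinite H
        haveI : Fintype (H.map (QuotientGroup.mk' N)) := Fintype.ofFinite _
        rw [Nat.card_eq_fintype_card, Nat.card_eq_fintype_card]
        apply Fintype.card_lt_of_surjective_not_injective _ hsurj
        intro hinj
        apply hN1
        rw [Subgroup.eq_bot_iff_forall]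
        intro a ha
        have h1 : (QuotientGroup.mk' N).subgroupMap H ⟨a, hNH ha⟩ =
            (QuotientGroup.mk' N).subgroupMap H 1 := by
          apply Subtype.ext
          simp only [MonoidHom.subgroupMap]
          exact (QuotientGroup.eq_one_iff a).mpr ha
        have := hinj h1
        exact congrArg Subtype.val this
      have := ih _ hcard (G ⧸ N) hCN' (H.map (QuotientGroup.mk' N)) hH's rfl
      exact isCNGroup_of_mulEquiv (QuotientGroup.quotientQuotientEquivQuotient N H hNH) this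

/-- Let G be a finite group in which the centralizer of every non-identity element is nilpotent, and H a solvable normal subgroup of G. Then in G/H the centralizer of every non-identity element is nilpotent. -/
theorem result {G : Type*} [Group G] [Finite G] (hCN : Cfsg.IsCNGroup G) (H : Subgroup G) [H.Normal] (hH : Group.IsSolvable H) :
    Cfsg.IsCNGroup (G ⧸ H) := by
  exact main _ G hCN H hH rfl

end Cfsg.Agent.S1473
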