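import Mathlib
import Cfsg.Statements.S1475
import Cfsg.Agent.S1473
import Cfsg.Agent.Lib.H8.FrobFpf

set_option autoImplicit false
open Cfsg
open Cfsg.Agent.Lib.H8

namespace Cfsg.Agent.S1475

universe u

/-- In a group whose elements have prime power order, commuting non-identity elements cannot have
coprime orders. -/
theorem no_comm {G : Type*} [Group G] [Finite G] (h : ∀ g : G, IsPrimePow (orderOf g) ∨ g = 1)
    {a b : G} (hab : a * b = b * a) (ha1 : a ≠ 1) (hb1 : b ≠ 1)
    (hcop : (orderOf a).Coprime (orderOf b)) : False := by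
  have hord : orderOf (a * b) = orderOf a * orderOf b :=
    (show Commute a b from hab).orderOf_mul_eq_mul_orderOf_of_coprime hcop
  have hoa : orderOf a ≠ 1 := fun h1 => ha1 (orderOf_eq_one_iff.mp h1)
  have hob : orderOf b ≠ 1 := fun h1 => hb1 (orderOf_eq_one_iff.mp h1)
  rcases h (a * b) with hpp | h1
  · rw [hord, isPrimePow_iff_unique_prime_dvd] at hpp
    obtain ⟨l, -, hl⟩ := hpp
    obtain ⟨l₁, hl₁, hd₁⟩ := Nat.exists_prime_and_dvd hoa
    obtain ⟨l₂, hl₂, hd₂⟩ := Nat.exists_prime_and_dvd hob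
    have e1 := hl l₁ ⟨hl₁, Dvd.dvd.mul_right hd₁ _⟩
    have e2 := hl l₂ ⟨hl₂, Dvd.dvd.mul_left hd₂ _⟩
    have : l₁ = l₂ := e1.trans e2.symm
    subst this
    exact hl₁.one_lt.ne' (Nat.eq_one_of_dvd_coprimes hcop hd₁ hd₂)
  · rw [h1, orderOf_one] at hord
    have := Nat.eq_one_of_mul_eq_one_right hord.symm
    exact hoa this

theorem main : ∀ (n : ℕ) (G : Type u) [Group G] [Finite G] [Group.IsSolvable G],
    Nat.card G = n → (∀ g : G, IsPrimePow (orderOf g) ∨ g = 1) →
      (Nat.card G).primeFactors.card ≤ 2 := by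
  intro n
  induction n using Nat.strong_induction_on with
  | _ n ih =>
    intro G _ _ _ hn h
    by_cases htriv : Subsingleton G
    · haveI := htriv
      rw [Nat.card_unique]
      simp
    rw [not_subsingleton_iff_nontrivial] at htriv
    haveI := htriv
    -- a normal abelian p-subgroup
    obtain ⟨p, hp, N, -, hNn, hNp, hNab, hN1⟩ :=
      Cfsg.Agent.S1473.exists_normal_abelian_pgroup (⊤ : Subgroup G) inferInstance top_ne_bot
    haveI := hNn
    haveI : Fact p.Prime := ⟨hp⟩
    -- the quotient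
    have hquot : ∀ gb : G ⧸ N, IsPrimePow (orderOf gb) ∨ gb = 1 := by
      intro gb
      obtain ⟨g, rfl⟩ := QuotientGroup.mk_surjective gb
      rcases h g with hpp | h1
      · rw [isPrimePow_nat_iff] at hpp
        obtain ⟨r, k, hr, hk, hrk⟩ := hpp
        have hdvd : orderOf (QuotientGroup.mk g : G ⧸ N) ∣ r ^ k := by
          rw [hrk]
          apply orderOf_dvd_of_pow_eq_one
          rw [← QuotientGroup.mk_pow, pow_orderOf_eq_one]; rfl
        obtain ⟨j, -, hj⟩ := (Nat.dvd_prime_pow hr).mp hdvd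
        rcases Nat.eq_zero_or_pos j with hj0 | hj0
        · right
          rw [hj0, pow_zero] at hj
          exact orderOf_eq_one_iff.mp hj
        · left
          rw [hj]
          exact hr.isPrimePow.pow hj0.ne'
      · right; rw [h1]; rfl
    have hcardG : Nat.card G = Nat.card (G ⧸ N) * Nat.card N :=
      Subgroup.card_eq_card_quotient_mul_card_subgroup N
    obtain ⟨mN, hmN⟩ := IsPGroup.iff_card.mp hNp
    have hmN0 : mN ≠ 0 := by
      rintro rfl
      rw [pow_zero] at hmN
      exact hN1 (Subgroup.card_eq_one.mp hmN)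
    have hNgt : 1 < Nat.card N := by
      rw [hmN]; exact Nat.one_lt_pow hmN0 hp.one_lt
    have hlt : Nat.card (G ⧸ N) < n := by
      rw [← hn, hcardG]
      have : 0 < Nat.card (G ⧸ N) := Nat.card_pos
      nlinarith
    have ihq := ih _ hlt (G ⧸ N) rfl hquot
    by_contra hcon
    push Not at hcon
    have hpf : (Nat.card G).primeFactors = (Nat.card (G ⧸ N)).primeFactors ∪ {p} := by
      rw [hcardG, Nat.primeFactors_mul Nat.card_pos.ne' Nat.card_pos.ne', hmN,
        Nat.primeFactors_prime_pow hmN0 hp]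
    rw [hpf] at hcon
    have hpnot : p ∉ (Nat.card (G ⧸ N)).primeFactors := by
      intro hmem
      have : (Nat.card (G ⧸ N)).primeFactors ∪ {p} = (Nat.card (G ⧸ N)).primeFactors := by
        apply Finset.union_eq_left.mpr
        simpa using hmem
      rw [this] at hcon
      omega
    have hcard2 : (Nat.card (G ⧸ N)).primeFactors.card = 2 := by
      have := Finset.card_union_le (Nat.card (G ⧸ N)).primeFactors {p}
      simp only [Finset.card_singleton] at this
      omega
    have hpndvd : ¬ p ∣ Nat.card (G ⧸ N) := by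
      intro hd
      exact hpnot (Nat.mem_primeFactors.mpr ⟨hp, hd, Nat.card_pos.ne'⟩)
    have hindex : N.index = Nat.card (G ⧸ N) := Subgroup.index_eq_card N
    have hcopN : (Nat.card N).Coprime N.index := by
      rw [hmN, hindex]
      exact Nat.Coprime.pow_left _ ((Nat.Prime.coprime_iff_not_dvd hp).mpr hpndvd)
    obtain ⟨K, hK⟩ := Subgroup.exists_right_complement'_of_coprime hcopN
    have hKcard : Nat.card K = Nat.card (G ⧸ N) := by
      have h1 := hK.card_mul_card
      rw [hcardG, mul_comm] at h1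
      exact Nat.eq_of_mul_eq_mul_right Nat.card_pos h1
    have hcopKN : ∀ k ∈ K, ∀ a ∈ N, (orderOf k).Coprime (orderOf a) := by
      intro k hk a ha
      have h1 : orderOf k ∣ Nat.card K := Subgroup.orderOf_dvd_natCard K hk
      have h2 : orderOf a ∣ Nat.card N := Subgroup.orderOf_dvd_natCard N ha
      rw [hKcard] at h1
      rw [hmN] at h2
      exact Nat.Coprime.coprime_dvd_left h1 (Nat.Coprime.coprime_dvd_right h2
        (Nat.Coprime.pow_right _ ((Nat.Prime.coprime_iff_not_dvd hp).mpr hpndvd).symm))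
    -- the two primes
    obtain ⟨q, r, hqr, hpfK⟩ := Finset.card_eq_two.mp hcard2
    have hqmem : q ∈ (Nat.card (G ⧸ N)).primeFactors := by rw [hpfK]; simp
    have hrmem : r ∈ (Nat.card (G ⧸ N)).primeFactors := by rw [hpfK]; simp
    have hq : q.Prime := (Nat.mem_primeFactors.mp hqmem).1
    have hr : r.Prime := (Nat.mem_primeFactors.mp hrmem).1
    have hqK : q ∣ Nat.card K := hKcard ▸ (Nat.mem_primeFactors.mp hqmem).2.1
    have hrK : r ∣ Nat.card K := hKcard ▸ (Nat.mem_primeFactors.mp hrmem).2.1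
    -- a normal abelian s-subgroup of K
    haveI : Nontrivial K := by
      rw [← Finite.one_lt_card_iff_nontrivial]
      exact lt_of_lt_of_le hq.one_lt (Nat.le_of_dvd Nat.card_pos hqK)
    obtain ⟨s, hs, M₀, -, hM₀n, hM₀p, hM₀ab, hM₀1⟩ :=
      Cfsg.Agent.S1473.exists_normal_abelian_pgroup (⊤ : Subgroup K) inferInstance top_ne_bot
    haveI : Fact s.Prime := ⟨hs⟩
    obtain ⟨mM, hmM⟩ := IsPGroup.iff_card.mp hM₀p
    have hmM0 : mM ≠ 0 := by
      rintro rfl
      rw [pow_zero] at hmM
      exact hM₀1 (Subgroup.card_eq_one.mp hmM)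
    have hsK : s ∣ Nat.card K := by
      have : s ∣ Nat.card M₀ := by rw [hmM]; exact dvd_pow_self s hmM0
      exact this.trans (Subgroup.card_subgroup_dvd_card M₀)
    have hsmem : s ∈ (Nat.card (G ⧸ N)).primeFactors :=
      Nat.mem_primeFactors.mpr ⟨hs, hKcard ▸ hsK, Nat.card_pos.ne'⟩
    obtain ⟨t, ht, htK, hts⟩ : ∃ t : ℕ, t.Prime ∧ t ∣ Nat.card K ∧ t ≠ s := by
      rw [hpfK] at hsmem
      simp only [Finset.mem_insert, Finset.mem_singleton] at hsmem
      rcases hsmem with rfl | rfl
      · exact ⟨r, hr, hrK, hqr.symm⟩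
      · exact ⟨q, hq, hqK, hqr⟩
    haveI : Fact t.Prime := ⟨ht⟩
    obtain ⟨y₀, hy₀⟩ := exists_prime_orderOf_dvd_card' t htK
    have hyord : orderOf (y₀ : G) = t := by rw [Subgroup.orderOf_coe]; exact hy₀
    have hy1 : (y₀ : G) ≠ 1 := by
      intro h1
      rw [h1, orderOf_one] at hyord
      exact ht.one_lt.ne' hyord.symm
    -- the subgroup M
    obtain ⟨M, hMdef⟩ : ∃ M : Subgroup G, M = M₀.map K.subtype := ⟨_, rfl⟩
    have hMK : M ≤ K := by rw [hMdef]; exact Subgroup.map_subtype_le _
    have hMcard : Nat.card M = s ^ mM := by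
      rw [hMdef, Subgroup.card_subtype, hmM]
    have hM1 : M ≠ ⊥ := by
      intro h0
      rw [h0, Subgroup.card_bot] at hMcard
      have : 1 < s ^ mM := Nat.one_lt_pow hmM0 hs.one_lt
      omega
    have hMord : ∀ m ∈ M, orderOf m ∣ s ^ mM := by
      intro m hm
      rw [← hMcard]; exact Subgroup.orderOf_dvd_natCard M hm
    have hts' : ∀ k : ℕ, Nat.Coprime t (s ^ k) := fun k =>
      Nat.Coprime.pow_right k ((Nat.coprime_primes ht hs).mpr hts)
    have hyM : ∀ m ∈ M, (y₀ : G) * m * (y₀ : G)⁻¹ ∈ M := by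
      intro m hm
      rw [hMdef] at hm ⊢
      obtain ⟨m₀, hm₀, rfl⟩ := hm
      refine ⟨y₀ * m₀ * y₀⁻¹, hM₀n.conj_mem m₀ hm₀ y₀, ?_⟩
      simp
    have hfinal := pow_card_eq_one_of_fpf N M hNab hM1 (y₀ : G) t ht.pos
      (by rw [← hyord]; exact pow_orderOf_eq_one _) hyM
      (by
        intro m hm hm1 a ha hcomm
        by_contra ha1
        exact no_comm h hcomm hm1 ha1 (hcopKN m (hMK hm) a ha))
      (by
        intro a ha hcomm
        by_contra ha1
        exact no_comm h hcomm hy1 ha1 (hcopKN _ y₀.2 a ha))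
      (by
        intro i hi0 hit m hm hcomm
        by_contra hm1
        have hyi1 : (y₀ : G) ^ i ≠ 1 := by
          intro h1
          have := orderOf_dvd_of_pow_eq_one h1
          rw [hyord] at this
          exact absurd (Nat.le_of_dvd hi0 this) (not_le.mpr hit)
        have hyiord : orderOf ((y₀ : G) ^ i) ∣ t := by
          rw [← hyord]; exact orderOf_pow_dvd i
        exact no_comm h hcomm hyi1 hm1
          (Nat.Coprime.coprime_dvd_left hyiord (Nat.Coprime.coprime_dvd_right (hMord m hm)
            (hts' mM))))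
    -- contradiction
    obtain ⟨a, ha, ha1⟩ : ∃ a ∈ N, a ≠ 1 := by
      rw [Ne, Subgroup.eq_bot_iff_forall] at hN1
      push Not at hN1
      exact hN1
    have h1 : orderOf a ∣ s ^ mM := by
      rw [← hMcard]; exact orderOf_dvd_of_pow_eq_one (hfinal a ha)
    have h2 : orderOf a ∣ p ^ mN := by
      rw [← hmN]; exact Subgroup.orderOf_dvd_natCard N ha
    have hsp : s ≠ p := by
      rintro rfl
      exact hpndvd (hKcard ▸ hsK)
    have hcop : Nat.Coprime (s ^ mM) (p ^ mN) :=
      Nat.Coprime.pow _ _ ((Nat.coprime_primes hs hp).mpr hsp)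
    exact ha1 (orderOf_eq_one_iff.mp (Nat.eq_one_of_dvd_coprimes hcop h1 h2))

/-- Let G be a finite solvable group such that the order of every element is a prime power (1 included). Then at most two distinct primes divide the order of G. -/
theorem result {G : Type*} [Group G] [Finite G] [Group.IsSolvable G] (h : ∀ g : G, IsPrimePow (orderOf g) ∨ g = 1) :
    (Nat.card G).primeFactors.card ≤ 2 := by
  exact main _ G rfl h

end Cfsg.Agent.S1475
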