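import Cfsg.Statements.S4400
import Cfsg.Agent.Lib.H1.CharSubgroup
import Cfsg.Agent.Lib.H1.PGroupBasic
import Cfsg.Agent.Lib.H1.NilpotentBasic

set_option autoImplicit false
open Cfsg
open scoped commutatorElement

namespace Cfsg.Agent.S4400

open Cfsg.Agent.Lib.H1

section general
variable {S : Type*} [Group S]

/-- A normal subgroup of order 2 is central. -/
theorem mem_center_of_normal_card_two (Z : Subgroup S) [hZ : Z.Normal] (h : Nat.card Z = 2)
    {z : S} (hz : z ∈ Z) : z ∈ Subgroup.center S := by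
  rw [Subgroup.mem_center_iff]
  intro g
  by_cases hz1 : z = 1
  · subst hz1
    simp
  · have hc := hZ.conj_mem z hz g
    obtain ⟨y, hy, huniq⟩ := (Nat.card_eq_two_iff' (1 : Z)).mp h
    have e1 := huniq ⟨z, hz⟩ (fun h' => hz1 (congrArg Subtype.val h'))
    have hc1 : g * z * g⁻¹ ≠ 1 := by
      intro h1
      apply hz1
      have h3 : z = g⁻¹ * (g * z * g⁻¹) * g := by group
      rw [h3, h1]
      group
    have e2 := huniq ⟨g * z * g⁻¹, hc⟩ (fun h' => hc1 (congrArg Subtype.val h'))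
    have h4 : g * z * g⁻¹ = z := congrArg Subtype.val (e2.trans e1.symm)
    calc g * z = (g * z * g⁻¹) * g := by group
      _ = z * g := by rw [h4]

/-- The image in `S` of a characteristic subgroup of a normal subgroup is normal. -/
theorem char_map_normal (P : Subgroup S) [hP : P.Normal] (C : Subgroup ↥P) [C.Characteristic] :
    (C.map P.subtype).Normal := by
  constructor
  intro n hn g
  have hg : g ∈ Subgroup.normalizer (P : Set S) := by
    rw [Subgroup.normalizer_eq_top]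
    exact Subgroup.mem_top g
  exact conj_mem_map_of_characteristic hg hn

/-- Product formula for a subgroup and a normal subgroup. -/
theorem card_sup_mul_card_inf [Finite S] (A B : Subgroup S) [B.Normal] :
    Nat.card ↥(A ⊔ B) * Nat.card ↥(A ⊓ B) = Nat.card A * Nat.card B := by
  have h1 : Nat.card ↥(A ⊔ B) = Nat.card B * B.relIndex A := by
    rw [← Subgroup.relIndex_bot_left, ← Subgroup.relIndex_bot_left (H := B),
      ← Subgroup.relIndex_sup_right (H := A) (K := B)]
    exact (Subgroup.relIndex_mul_relIndex ⊥ B (A ⊔ B) bot_le le_sup_right).symm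
  have h2 : Nat.card A = Nat.card ↥(A ⊓ B) * B.relIndex A := by
    have h3 : B.relIndex A = (A ⊓ B).relIndex A := by
      rw [inf_comm, Subgroup.inf_relIndex_right]
    rw [h3, ← Subgroup.relIndex_bot_left, ← Subgroup.relIndex_bot_left (H := A ⊓ B)]
    exact (Subgroup.relIndex_mul_relIndex ⊥ (A ⊓ B) A bot_le inf_le_left).symm
  rw [h1, h2]
  ring

/-- In a group generated by pairwise commuting involutions (or trivial elements), every element
squares to one and any two elements commute. -/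
theorem closure_comm_sq (T : Set S) (hcomm : ∀ x ∈ T, ∀ y ∈ T, x * y = y * x)
    (hsq : ∀ x ∈ T, x ^ 2 = 1) :
    (∀ g ∈ Subgroup.closure T, ∀ h ∈ Subgroup.closure T, g * h = h * g) ∧
      ∀ g ∈ Subgroup.closure T, g ^ 2 = 1 := by
  have hc : ∀ g ∈ Subgroup.closure T, ∀ h ∈ Subgroup.closure T, g * h = h * g := by
    intro g hg h hh
    have hinst := Subgroup.isMulCommutative_closure hcomm
    have h1 := hinst.is_comm.comm (⟨g, hg⟩ : Subgroup.closure T) ⟨h, hh⟩
    exact congrArg Subtype.val h1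
  refine ⟨hc, ?_⟩
  intro g hg
  induction hg using Subgroup.closure_induction with
  | mem x hx => exact hsq x hx
  | one => exact one_pow 2
  | mul x y hx hy ihx ihy =>
    have h1 : Commute x y := hc x hx y hy
    rw [h1.mul_pow, ihx, ihy, one_mul]
  | inv x hx ihx => rw [inv_pow, ihx, inv_one]

end general

section pgroup

/-- In a finite `2`-group with centre of order `2`, every nontrivial normal subgroup contains the
centre. -/
theorem center_le_of_normal {P : Type*} [Group P] [Finite P] (hP : IsPGroup 2 P)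
    (hZ : Nat.card (Subgroup.center P) = 2) (I : Subgroup P) [I.Normal] (hI : I ≠ ⊥) :
    Subgroup.center P ≤ I := by
  have : Fact (Nat.Prime 2) := ⟨Nat.prime_two⟩
  have : Group.IsNilpotent P := hP.isNilpotent
  have h1 := normal_inf_center_ne_bot I hI
  set J := I ⊓ Subgroup.center P with hJ
  have hJle : J ≤ Subgroup.center P := inf_le_right
  have hJcard : Nat.card J = 2 := by
    have hd : Nat.card J ∣ 2 := hZ ▸ Subgroup.card_dvd_of_le hJle
    rcases (Nat.dvd_prime Nat.prime_two).mp hd with h | h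
    · exact absurd (Subgroup.card_eq_one.mp h) h1
    · exact h
  have h2 : J = Subgroup.center P := Subgroup.eq_of_le_of_card_ge hJle (by rw [hJcard, hZ])
  rw [← h2]
  exact inf_le_left

/-- A nonabelian finite `2`-group has Frattini quotient of order at least `4`. -/
theorem four_mul_card_frattini_le {P : Type*} [Group P] [Finite P] (hP : IsPGroup 2 P)
    (hna : ¬ IsMulCommutative P) : 4 * Nat.card (frattini P) ≤ Nat.card P := by
  obtain ⟨n, hn⟩ := IsPGroup.iff_card.mp hP
  have hdvd : (frattini P).index ∣ 2 ^ n := hn ▸ Subgroup.index_dvd_card _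
  obtain ⟨j, hj, hidx⟩ := (Nat.dvd_prime_pow Nat.prime_two).mp hdvd
  have hcard := Subgroup.card_mul_index (frattini P)
  have hj2 : 2 ≤ j := by
    by_contra hlt
    rw [not_le] at hlt
    interval_cases j
    · have htop : frattini P = ⊤ := Subgroup.index_eq_one.mp (by simpa using hidx)
      have hbot : (⊥ : Subgroup P) = ⊤ := frattini_nongenerating (by rw [htop]; simp)
      apply hna
      refine ⟨⟨fun a b => ?_⟩⟩
      have ha : a ∈ (⊥ : Subgroup P) := hbot ▸ Subgroup.mem_top a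
      have hb : b ∈ (⊥ : Subgroup P) := hbot ▸ Subgroup.mem_top b
      rw [Subgroup.mem_bot] at ha hb
      rw [ha, hb]
    · have hcard2 : Nat.card (P ⧸ frattini P) = 2 := by
        rw [← Subgroup.index_eq_card]
        simpa using hidx
      have : Fact (Nat.Prime 2) := ⟨Nat.prime_two⟩
      have hcyc : IsCyclic (P ⧸ frattini P) := isCyclic_of_prime_card hcard2
      obtain ⟨gbar, hg⟩ := hcyc.exists_generator
      obtain ⟨g, rfl⟩ := QuotientGroup.mk_surjective gbar
      have hsup : Subgroup.zpowers g ⊔ frattini P = ⊤ := by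
        rw [eq_top_iff]
        intro y _
        obtain ⟨i, hi⟩ := Subgroup.mem_zpowers_iff.mp (hg (y : P ⧸ frattini P))
        have h3 : (g ^ i)⁻¹ * y ∈ frattini P := by
          rw [← QuotientGroup.eq]
          simpa using hi
        have h4 : y = g ^ i * ((g ^ i)⁻¹ * y) := by group
        rw [h4]
        exact Subgroup.mul_mem_sup (Subgroup.zpow_mem_zpowers g i) h3
      have htop := frattini_nongenerating hsup
      apply hna
      refine ⟨⟨fun a b => ?_⟩⟩
      have ha : a ∈ Subgroup.zpowers g := htop ▸ Subgroup.mem_top a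
      have hb : b ∈ Subgroup.zpowers g := htop ▸ Subgroup.mem_top b
      obtain ⟨i, rfl⟩ := Subgroup.mem_zpowers_iff.mp ha
      obtain ⟨k, rfl⟩ := Subgroup.mem_zpowers_iff.mp hb
      rw [← zpow_add, ← zpow_add, add_comm]
  rw [← hcard, hidx]
  have h4 : 4 ≤ 2 ^ j := by
    calc 4 = 2 ^ 2 := by norm_num
      _ ≤ 2 ^ j := Nat.pow_le_pow_right (by norm_num) hj2
  nlinarith [Nat.zero_le (Nat.card (frattini P))]

/-- In a nonabelian finite `2`-group with centre of order 2, the centre lies in the Frattini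
subgroup. -/
theorem center_le_frattini {P : Type*} [Group P] [Finite P] (hP : IsPGroup 2 P)
    (hZ : Nat.card (Subgroup.center P) = 2) (hna : ¬ IsMulCommutative P) :
    Subgroup.center P ≤ frattini P := by
  have : Fact (Nat.Prime 2) := ⟨Nat.prime_two⟩
  have hne : commutator P ≠ ⊥ := by
    intro h
    apply hna
    refine ⟨⟨fun a b => ?_⟩⟩
    have h1 : ⁅a, b⁆ ∈ commutator P :=
      Subgroup.commutator_mem_commutator (Subgroup.mem_top a) (Subgroup.mem_top b)
    rw [h, Subgroup.mem_bot] at h1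
    exact commutatorElement_eq_one_iff_mul_comm.mp h1
  exact (center_le_of_normal hP hZ (commutator P) hne).trans (isPGroup_commutator_le_frattini hP)

end pgroup

section main
variable {S : Type*} [Group S] [Finite S]

theorem center_map_le_of_normal (h2 : IsPGroup 2 S) (P : Subgroup S)
    (hZP : Nat.card ↥(Subgroup.center ↥P) = 2) (I : Subgroup S) [I.Normal] (hIP : I ≤ P)
    (hI : I ≠ ⊥) : (Subgroup.center ↥P).map P.subtype ≤ I := by
  have hne : I.subgroupOf P ≠ ⊥ := by
    intro h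
    apply hI
    rw [Subgroup.subgroupOf_eq_bot, disjoint_iff, inf_eq_left.mpr hIP] at h
    exact h
  have h3 := center_le_of_normal (h2.to_subgroup P) hZP (I.subgroupOf P) hne
  intro z hz
  obtain ⟨w, hw, rfl⟩ := hz
  exact Subgroup.mem_subgroupOf.mp (h3 hw)

omit [Finite S] in
theorem card_map_subtype (P : Subgroup S) (C : Subgroup ↥P) :
    Nat.card ↥(C.map P.subtype) = Nat.card C :=
  Nat.card_congr (Subgroup.equivMapOfInjective C P.subtype P.subtype_injective).symm.toEquiv

theorem inf_eq_bot_of_centers (h2 : IsPGroup 2 S) (P Q : Subgroup S) [P.Normal] [Q.Normal]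
    (hZP : Nat.card ↥(Subgroup.center ↥P) = 2) (hZQ : Nat.card ↥(Subgroup.center ↥Q) = 2)
    (hne : (Subgroup.center ↥P).map P.subtype ≠ (Subgroup.center ↥Q).map Q.subtype) :
    P ⊓ Q = ⊥ := by
  by_contra hI
  have hn1 : ((Subgroup.center ↥P).map P.subtype).Normal := char_map_normal P _
  have h1 := center_map_le_of_normal h2 P hZP (P ⊓ Q) inf_le_left hI
  have hcP : Nat.card ↥((Subgroup.center ↥P).map P.subtype) = 2 := by
    rw [card_map_subtype, hZP]
  have hcQ : Nat.card ↥((Subgroup.center ↥Q).map Q.subtype) = 2 := by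
    rw [card_map_subtype, hZQ]
  have hle : (Subgroup.center ↥P).map P.subtype ≤ (Subgroup.center ↥Q).map Q.subtype := by
    intro z hz
    have hzc := mem_center_of_normal_card_two _ hcP hz
    have hzQ : z ∈ Q := (h1 hz).2
    refine ⟨⟨z, hzQ⟩, ?_, rfl⟩
    rw [SetLike.mem_coe, Subgroup.mem_center_iff]
    intro g
    apply Subtype.ext
    exact (Subgroup.mem_center_iff.mp hzc) g
  exact hne (Subgroup.eq_of_le_of_card_ge hle (by rw [hcP, hcQ]))

theorem centralizer_le (h2 : IsPGroup 2 S) (hr : Cfsg.SectionalPRankLE 2 4 S)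
    (P Q : Subgroup S) [P.Normal] [Q.Normal] (hP : ¬ IsMulCommutative ↥P)
    (hQ : ¬ IsMulCommutative ↥Q)
    (hZP : Nat.card ↥(Subgroup.center ↥P) = 2) (hZQ : Nat.card ↥(Subgroup.center ↥Q) = 2)
    (hinf : P ⊓ Q = ⊥) (hPQ : ∀ a ∈ P, ∀ b ∈ Q, a * b = b * a) :
    Subgroup.centralizer ((P ⊔ Q : Subgroup S) : Set S) ≤ P ⊔ Q := by
  classical
  have : Fact (Nat.Prime 2) := ⟨Nat.prime_two⟩
  intro x₀ hx₀
  by_contra hx₀n
  obtain ⟨x, hxC, hxn, hx2⟩ : ∃ x, x ∈ Subgroup.centralizer ((P ⊔ Q : Subgroup S) : Set S) ∧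
      x ∉ P ⊔ Q ∧ x ^ 2 ∈ P ⊔ Q := by
    have hex : ∃ i, x₀ ^ (2 ^ i) ∈ P ⊔ Q := by
      obtain ⟨k, hk⟩ := h2 x₀
      exact ⟨k, by rw [hk]; exact Subgroup.one_mem _⟩
    have hi : x₀ ^ (2 ^ Nat.find hex) ∈ P ⊔ Q := Nat.find_spec hex
    have hi0 : Nat.find hex ≠ 0 := by
      intro h0
      rw [h0, pow_zero, pow_one] at hi
      exact hx₀n hi
    obtain ⟨j, hj⟩ := Nat.exists_eq_succ_of_ne_zero hi0
    refine ⟨x₀ ^ (2 ^ j), Subgroup.pow_mem _ hx₀ _, Nat.find_min hex (by omega), ?_⟩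
    rw [← pow_mul, ← pow_succ, ← Nat.succ_eq_add_one, ← hj]
    exact hi
  have hxP : ∀ a ∈ P, a * x = x * a := fun a ha =>
    (Subgroup.mem_centralizer_iff.mp hxC) a (Subgroup.mem_sup_left ha)
  have hxQ : ∀ b ∈ Q, b * x = x * b := fun b hb =>
    (Subgroup.mem_centralizer_iff.mp hxC) b (Subgroup.mem_sup_right hb)
  set ΦP := (frattini ↥P).map P.subtype with hΦP
  set ΦQ := (frattini ↥Q).map Q.subtype with hΦQ
  have hnP : ΦP.Normal := char_map_normal P _
  have hnQ : ΦQ.Normal := char_map_normal Q _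
  set N := ΦP ⊔ ΦQ with hN
  have hNn : N.Normal := inferInstance
  have hPp : IsPGroup 2 ↥P := h2.to_subgroup P
  have hQp : IsPGroup 2 ↥Q := h2.to_subgroup Q
  have hsqP : ∀ a ∈ P, a ^ 2 ∈ N := fun a ha =>
    Subgroup.mem_sup_left ⟨⟨a, ha⟩ ^ 2, isPGroup_pow_mem_frattini hPp ⟨a, ha⟩, rfl⟩
  have hsqQ : ∀ a ∈ Q, a ^ 2 ∈ N := fun a ha =>
    Subgroup.mem_sup_right ⟨⟨a, ha⟩ ^ 2, isPGroup_pow_mem_frattini hQp ⟨a, ha⟩, rfl⟩
  have hcmP : ∀ a ∈ P, ∀ b ∈ P, (a * b)⁻¹ * (b * a) ∈ N := fun a ha b hb => by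
    refine Subgroup.mem_sup_left ⟨⁅(⟨b, hb⟩ : ↥P)⁻¹, (⟨a, ha⟩ : ↥P)⁻¹⁆, ?_, ?_⟩
    · exact isPGroup_commutator_le_frattini hPp
        (Subgroup.commutator_mem_commutator (Subgroup.mem_top _) (Subgroup.mem_top _))
    · simp [commutatorElement_def]
      group
  have hcmQ : ∀ a ∈ Q, ∀ b ∈ Q, (a * b)⁻¹ * (b * a) ∈ N := fun a ha b hb => by
    refine Subgroup.mem_sup_right ⟨⁅(⟨b, hb⟩ : ↥Q)⁻¹, (⟨a, ha⟩ : ↥Q)⁻¹⁆, ?_, ?_⟩
    · exact isPGroup_commutator_le_frattini hQp
        (Subgroup.commutator_mem_commutator (Subgroup.mem_top _) (Subgroup.mem_top _))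
    · simp [commutatorElement_def]
      group
  -- `x ^ 2 ∈ N`
  have hsqx : x ^ 2 ∈ N := by
    obtain ⟨a, ha, b, hb, hab⟩ : ∃ a ∈ P, ∃ b ∈ Q, a * b = x ^ 2 := by
      have h3 := hx2
      rw [← SetLike.mem_coe, Subgroup.mul_normal] at h3
      obtain ⟨a, ha, b, hb, h⟩ := Set.mem_mul.mp h3
      exact ⟨a, ha, b, hb, h⟩
    have hx2P : ∀ c ∈ P, c * x ^ 2 = x ^ 2 * c := fun c hc => by
      rw [pow_two, ← mul_assoc, hxP c hc, mul_assoc, hxP c hc, mul_assoc]
    have hx2Q : ∀ c ∈ Q, c * x ^ 2 = x ^ 2 * c := fun c hc => by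
      rw [pow_two, ← mul_assoc, hxQ c hc, mul_assoc, hxQ c hc, mul_assoc]
    have haZ : a ∈ (Subgroup.center ↥P).map P.subtype := by
      refine ⟨⟨a, ha⟩, ?_, rfl⟩
      rw [SetLike.mem_coe, Subgroup.mem_center_iff]
      intro c
      apply Subtype.ext
      have h4 := hx2P c c.2
      rw [← hab, ← mul_assoc] at h4
      have h5 : a * b * (c : S) = a * c * b := by rw [mul_assoc, (hPQ c c.2 b hb).symm, mul_assoc]
      rw [h5] at h4
      exact mul_right_cancel h4
    have hbZ : b ∈ (Subgroup.center ↥Q).map Q.subtype := by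
      refine ⟨⟨b, hb⟩, ?_, rfl⟩
      rw [SetLike.mem_coe, Subgroup.mem_center_iff]
      intro c
      apply Subtype.ext
      have h4 := hx2Q c c.2
      rw [← hab, ← mul_assoc, (hPQ a ha c c.2).symm, mul_assoc, mul_assoc] at h4
      exact mul_left_cancel h4
    rw [← hab]
    exact Subgroup.mul_mem_sup
      (Subgroup.map_mono (center_le_frattini hPp hZP hP) haZ)
      (Subgroup.map_mono (center_le_frattini hQp hZQ hQ) hbZ)
  -- the quotient
  let π : S →* S ⧸ N := QuotientGroup.mk' N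
  set T : Set S := {g | g ∈ P ∨ g ∈ Q ∨ g = x} with hT
  have hcommT : ∀ u ∈ π '' T, ∀ v ∈ π '' T, u * v = v * u := by
    rintro _ ⟨a, ha, rfl⟩ _ ⟨b, hb, rfl⟩
    have hcases : a * b = b * a ∨ (a ∈ P ∧ b ∈ P) ∨ (a ∈ Q ∧ b ∈ Q) := by
      rcases ha with ha | ha | ha <;> rcases hb with hb | hb | hb
      · exact Or.inr (Or.inl ⟨ha, hb⟩)
      · exact Or.inl (hPQ a ha b hb)
      · subst hb; exact Or.inl (hxP a ha)
      · exact Or.inl (hPQ b hb a ha).symm
      · exact Or.inr (Or.inr ⟨ha, hb⟩)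
      · subst hb; exact Or.inl (hxQ a ha)
      · subst ha; exact Or.inl (hxP b hb).symm
      · subst ha; exact Or.inl (hxQ b hb).symm
      · subst ha; subst hb; exact Or.inl rfl
    rw [← map_mul, ← map_mul]
    rcases hcases with h | ⟨h, h'⟩ | ⟨h, h'⟩
    · rw [h]
    · exact QuotientGroup.eq.mpr (hcmP a h b h')
    · exact QuotientGroup.eq.mpr (hcmQ a h b h')
  have hsqT : ∀ u ∈ π '' T, u ^ 2 = 1 := by
    rintro _ ⟨a, ha, rfl⟩
    rw [← map_pow]
    apply (QuotientGroup.eq_one_iff _).mpr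
    rcases ha with ha | ha | ha
    · exact hsqP a ha
    · exact hsqQ a ha
    · subst ha; exact hsqx
  obtain ⟨hcl_comm, hcl_sq⟩ := closure_comm_sq (π '' T) hcommT hsqT
  set H := Subgroup.closure T with hH
  have hHmap : ∀ h ∈ H, π h ∈ Subgroup.closure (π '' T) := by
    intro h hh
    have h3 := Subgroup.mem_map_of_mem π hh
    rwa [MonoidHom.map_closure] at h3
  have hPH : P ≤ H := fun a ha => Subgroup.subset_closure (Or.inl ha)
  have hQH : Q ≤ H := fun a ha => Subgroup.subset_closure (Or.inr (Or.inl ha))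
  have hxH : x ∈ H := Subgroup.subset_closure (Or.inr (Or.inr rfl))
  have hΦPP : ΦP ≤ P := by
    rintro _ ⟨w, _, rfl⟩
    exact w.2
  have hΦQQ : ΦQ ≤ Q := by
    rintro _ ⟨w, _, rfl⟩
    exact w.2
  have hNH : N ≤ H := sup_le (hΦPP.trans hPH) (hΦQQ.trans hQH)
  have hPQH : P ⊔ Q ≤ H := sup_le hPH hQH
  -- the section
  have hcommA : ∀ u v : ↥H ⧸ N.subgroupOf H, u * v = v * u := by
    intro u v
    induction u using QuotientGroup.induction_on with
    | H h =>
      induction v using QuotientGroup.induction_on with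
      | H k =>
        rw [← QuotientGroup.mk_mul, ← QuotientGroup.mk_mul, QuotientGroup.eq,
          Subgroup.mem_subgroupOf]
        have h3 := hcl_comm (π h) (hHmap h h.2) (π k) (hHmap k k.2)
        rw [← map_mul, ← map_mul] at h3
        have h4 := QuotientGroup.eq.mp h3
        simpa using h4
  have hsqA : ∀ u : ↥H ⧸ N.subgroupOf H, u ^ 2 = 1 := by
    intro u
    induction u using QuotientGroup.induction_on with
    | H h =>
      rw [← QuotientGroup.mk_pow, QuotientGroup.eq_one_iff, Subgroup.mem_subgroupOf]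
      have h3 := hcl_sq (π h) (hHmap h h.2)
      rw [← map_pow] at h3
      have h4 := (QuotientGroup.eq_one_iff _).mp h3
      simpa using h4
  have hrank := hr H (N.subgroupOf H) (⊤ : Subgroup (↥H ⧸ N.subgroupOf H))
    ⟨⟨fun a b => Subtype.ext (hcommA a b)⟩⟩ (fun a _ => hsqA a)
  have hcardA : Nat.card (⊤ : Subgroup (↥H ⧸ N.subgroupOf H)) = N.relIndex H := by
    rw [Subgroup.card_top, ← Subgroup.index_eq_card]
    rfl
  rw [hcardA] at hrank
  -- counting
  have c1 : Nat.card N * N.relIndex H = Nat.card H := by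
    rw [← Subgroup.relIndex_bot_left, ← Subgroup.relIndex_bot_left (H := H)]
    exact Subgroup.relIndex_mul_relIndex ⊥ N H bot_le hNH
  have c2 : Nat.card ↥(P ⊔ Q) * (P ⊔ Q).relIndex H = Nat.card H := by
    rw [← Subgroup.relIndex_bot_left, ← Subgroup.relIndex_bot_left (H := H)]
    exact Subgroup.relIndex_mul_relIndex ⊥ (P ⊔ Q) H bot_le hPQH
  have hHpos : 0 < Nat.card H := Nat.card_pos
  have c3 : 2 ≤ (P ⊔ Q).relIndex H := by
    have h0 : (P ⊔ Q).relIndex H ≠ 0 := by
      intro h0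
      rw [h0, mul_zero] at c2
      omega
    have h1 : (P ⊔ Q).relIndex H ≠ 1 := by
      intro h1
      exact hxn (Subgroup.relIndex_eq_one.mp h1 hxH)
    omega
  have c4 : Nat.card ↥(P ⊔ Q) = Nat.card P * Nat.card Q := by
    have h3 := card_sup_mul_card_inf P Q
    rw [hinf, Subgroup.card_bot, mul_one] at h3
    exact h3
  have c5 : Nat.card N ≤ Nat.card ΦP * Nat.card ΦQ := by
    have h3 := card_sup_mul_card_inf ΦP ΦQ
    rw [← h3]
    exact Nat.le_mul_of_pos_right _ Nat.card_pos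
  have c6 : 4 * Nat.card ΦP ≤ Nat.card P := by
    rw [hΦP, card_map_subtype]
    exact four_mul_card_frattini_le hPp hP
  have c7 : 4 * Nat.card ΦQ ≤ Nat.card Q := by
    rw [hΦQ, card_map_subtype]
    exact four_mul_card_frattini_le hQp hQ
  have hu : 0 < Nat.card ΦP := Nat.card_pos
  have hv : 0 < Nat.card ΦQ := Nat.card_pos
  have hNpos : 0 < Nat.card N := Nat.card_pos
  -- |H| ≤ 16 |N| ≤ 16 u v and |H| ≥ 2 |P| |Q| ≥ 32 u v
  have d1 : Nat.card H ≤ 16 * (Nat.card ΦP * Nat.card ΦQ) := by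
    rw [← c1]
    calc Nat.card N * N.relIndex H ≤ Nat.card N * 2 ^ 4 := Nat.mul_le_mul_left _ hrank
      _ ≤ (Nat.card ΦP * Nat.card ΦQ) * 2 ^ 4 := Nat.mul_le_mul_right _ c5
      _ = 16 * (Nat.card ΦP * Nat.card ΦQ) := by ring
  have d2 : 32 * (Nat.card ΦP * Nat.card ΦQ) ≤ Nat.card H := by
    rw [← c2, c4]
    calc 32 * (Nat.card ΦP * Nat.card ΦQ) = (4 * Nat.card ΦP) * (4 * Nat.card ΦQ) * 2 := by ring
      _ ≤ (Nat.card P * Nat.card Q) * 2 :=
        Nat.mul_le_mul_right _ (Nat.mul_le_mul c6 c7)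
      _ ≤ (Nat.card P * Nat.card Q) * (P ⊔ Q).relIndex H := Nat.mul_le_mul_left _ c3
  have d3 : 0 < Nat.card ΦP * Nat.card ΦQ := Nat.mul_pos hu hv
  omega

/-- Let S be a finite 2-group of sectional 2-rank at most 4, and let P and Q be normal non-abelian subgroups of S whose centres have order 2 and are different. Then P and Q commute elementwise and intersect trivially, and PQ contains its own centralizer in S. -/
theorem result {S : Type*} [Group S] [Finite S] (h2 : IsPGroup 2 S) (hr : Cfsg.SectionalPRankLE 2 4 S)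
    (P Q : Subgroup S) [P.Normal] [Q.Normal] (hP : ¬ IsMulCommutative ↥P) (hQ : ¬ IsMulCommutative ↥Q)
    (hZP : Nat.card ↥(Subgroup.center ↥P) = 2) (hZQ : Nat.card ↥(Subgroup.center ↥Q) = 2)
    (hne : (Subgroup.center ↥P).map P.subtype ≠ (Subgroup.center ↥Q).map Q.subtype) :
    ⁅P, Q⁆ = ⊥ ∧ P ⊓ Q = ⊥ ∧ Subgroup.centralizer ((P ⊔ Q : Subgroup S) : Set S) ≤ P ⊔ Q := by
  have hinf : P ⊓ Q = ⊥ := inf_eq_bot_of_centers h2 P Q hZP hZQ hne
  have hcomm : ⁅P, Q⁆ = ⊥ := by
    rw [eq_bot_iff, ← hinf]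
    exact Subgroup.commutator_le_inf P Q
  refine ⟨hcomm, hinf, ?_⟩
  apply centralizer_le h2 hr P Q hP hQ hZP hZQ hinf
  intro a ha b hb
  have h3 : ⁅a, b⁆ ∈ ⁅P, Q⁆ := Subgroup.commutator_mem_commutator ha hb
  rw [hcomm, Subgroup.mem_bot] at h3
  exact commutatorElement_eq_one_iff_mul_comm.mp h3

end main

end Cfsg.Agent.S4400
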