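import Cfsg.Statements.S0300
import Cfsg.Agent.Lib.H29.ExcIso
import Cfsg.Agent.S0242
import Cfsg.Agent.S0288
import Cfsg.Agent.Lib.H29.OmegaBound
import Cfsg.Agent.Lib.H2.GOMinus2
import Cfsg.Agent.Lib.H2.SLMapEquiv

set_option autoImplicit false
open Cfsg

namespace Cfsg.Agent.S0300

open Matrix QuadraticAlgebra Cfsg.Agent.Lib.H2.GOMinus2

abbrev ι : Type := (Fin 1 ⊕ Fin 1) ⊕ Fin 2

section basic

variable {F : Type*} [Field F] (a b : F)

/-- the element `z₁ + z₂ ω` -/
def wOf (v : ι → F) : E a b := ⟨v (.inr 0), v (.inr 1)⟩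

/-- Hermitian matrix `[[x, w], [w̄, -y]]` of a vector -/
def Hf (v : ι → F) : Matrix (Fin 2) (Fin 2) (E a b) :=
  !![QuadraticAlgebra.C (v (.inl (.inl 0))), wOf a b v;
     star (wOf a b v), - QuadraticAlgebra.C (v (.inl (.inr 0)))]

/-- coordinates of a matrix -/
def Cf (M : Matrix (Fin 2) (Fin 2) (E a b)) : ι → F
  | .inl (.inl _) => (M 0 0).re
  | .inl (.inr _) => -(M 1 1).re
  | .inr 0 => (M 0 1).re
  | .inr 1 => (M 0 1).im

theorem Cf_Hf (v : ι → F) : Cf a b (Hf a b v) = v := by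
  funext k
  rcases k with (k | k) | k <;> fin_cases k <;> simp [Cf, Hf, wOf]

theorem Hf_herm (v : ι → F) : (Hf a b v)ᴴ = Hf a b v := by
  apply Matrix.ext
  intro i j
  fin_cases i <;> fin_cases j <;> ext <;> simp [Hf, Matrix.conjTranspose_apply]

theorem Hf_det (v : ι → F) :
    (Hf a b v).det = - QuadraticAlgebra.C (Cfsg.quadFormMinus 1 F a b v) := by
  rw [Matrix.det_fin_two]
  ext <;> simp [Hf, wOf, Cfsg.quadFormMinus, pow_two] <;> ring

theorem im_zero_of_star_eq [Finite F]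
    (hab : ∀ z₁ z₂ : F, z₁ ^ 2 + a * z₁ * z₂ + b * z₂ ^ 2 = 0 → z₁ = 0 ∧ z₂ = 0)
    (z : E a b) (hz : star z = z) : z.im = 0 := by
  by_contra him
  have h1 := congrArg QuadraticAlgebra.re hz
  have h2 := congrArg QuadraticAlgebra.im hz
  simp at h1 h2
  have ha : a = 0 := by
    rcases h1 with h | h
    · exact h
    · exact absurd h him
  have h2' : (2 : F) = 0 := by
    have : (2 : F) * z.im = 0 := by linear_combination -h2
    exact (mul_eq_zero.1 this).resolve_right him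
  haveI : CharP F 2 := CharTwo.of_one_ne_zero_of_two_eq_zero one_ne_zero h2'
  obtain ⟨c, hc⟩ := FiniteField.isSquare_of_char_two (ringChar.eq F 2) b
  have := hab c 1 (by rw [ha, hc]; linear_combination (c * c) * h2')
  exact one_ne_zero this.2

theorem Hf_Cf [Finite F]
    (hab : ∀ z₁ z₂ : F, z₁ ^ 2 + a * z₁ * z₂ + b * z₂ ^ 2 = 0 → z₁ = 0 ∧ z₂ = 0)
    (M : Matrix (Fin 2) (Fin 2) (E a b)) (hM : Mᴴ = M) : Hf a b (Cf a b M) = M := by
  have h00 : star (M 0 0) = M 0 0 := by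
    have := congrFun (congrFun hM 0) 0
    rwa [Matrix.conjTranspose_apply] at this
  have h11 : star (M 1 1) = M 1 1 := by
    have := congrFun (congrFun hM 1) 1
    rwa [Matrix.conjTranspose_apply] at this
  have h10 : star (M 0 1) = M 1 0 := by
    have := congrFun (congrFun hM 1) 0
    rwa [Matrix.conjTranspose_apply] at this
  have i00 := im_zero_of_star_eq a b hab _ h00
  have i11 := im_zero_of_star_eq a b hab _ h11
  apply Matrix.ext
  intro i j
  fin_cases i <;> fin_cases j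
  · ext <;> simp [Hf, Cf, i00]
  · ext <;> simp [Hf, Cf, wOf]
  · show star (wOf a b (Cf a b M)) = M 1 0
    rw [← h10]
    congr 1
  · ext <;> simp [Hf, Cf, i11]

/-- `Hf` as a linear map -/
def Hfl : (ι → F) →ₗ[F] Matrix (Fin 2) (Fin 2) (E a b) where
  toFun := Hf a b
  map_add' u v := by
    apply Matrix.ext
    intro i j
    fin_cases i <;> fin_cases j <;> ext <;> simp [Hf, wOf] <;> ring
  map_smul' c v := by
    apply Matrix.ext
    intro i j
    fin_cases i <;> fin_cases j <;> ext <;> simp [Hf, wOf] <;> ring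

/-- `Cf` as a linear map -/
def Cfl : Matrix (Fin 2) (Fin 2) (E a b) →ₗ[F] (ι → F) where
  toFun := Cf a b
  map_add' u v := by
    funext k
    rcases k with (k | k) | k <;> fin_cases k <;> simp [Cf] <;> ring
  map_smul' c v := by
    funext k
    rcases k with (k | k) | k <;> fin_cases k <;> simp [Cf]

/-- the `4 × 4` matrix of `M ↦ g M gᴴ` -/
def r4 (g : Matrix (Fin 2) (Fin 2) (E a b)) : Matrix ι ι F :=
  LinearMap.toMatrix' ((Cfl a b) ∘ₗ (LinearMap.mulLeft F g) ∘ₗ (LinearMap.mulRight F gᴴ) ∘ₗ (Hfl a b))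

theorem r4_mulVec (g : Matrix (Fin 2) (Fin 2) (E a b)) (v : ι → F) :
    r4 a b g *ᵥ v = Cf a b (g * (Hf a b v * gᴴ)) := by
  rw [r4, LinearMap.toMatrix'_mulVec]
  rfl

theorem Hf_r4 [Finite F]
    (hab : ∀ z₁ z₂ : F, z₁ ^ 2 + a * z₁ * z₂ + b * z₂ ^ 2 = 0 → z₁ = 0 ∧ z₂ = 0)
    (g : Matrix (Fin 2) (Fin 2) (E a b)) (v : ι → F) :
    Hf a b (r4 a b g *ᵥ v) = g * (Hf a b v * gᴴ) := by
  rw [r4_mulVec, Hf_Cf a b hab]
  rw [Matrix.conjTranspose_mul, Matrix.conjTranspose_mul, Matrix.conjTranspose_conjTranspose,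
    Hf_herm, mul_assoc]

theorem Hf_injective : Function.Injective (Hf a b) := by
  intro u v huv
  rw [← Cf_Hf a b u, ← Cf_Hf a b v, huv]

theorem mat_ext {m n : Type*} [Fintype n] [DecidableEq n] (M N : Matrix m n F)
    (h : ∀ v, M *ᵥ v = N *ᵥ v) : M = N := by
  apply Matrix.toLin'.injective
  apply LinearMap.ext
  intro v
  rw [Matrix.toLin'_apply, Matrix.toLin'_apply]
  exact h v

variable [Finite F]
  (hab : ∀ z₁ z₂ : F, z₁ ^ 2 + a * z₁ * z₂ + b * z₂ ^ 2 = 0 → z₁ = 0 ∧ z₂ = 0)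

include hab in
theorem r4_one : r4 a b (1 : Matrix (Fin 2) (Fin 2) (E a b)) = 1 := by
  apply mat_ext
  intro v
  apply Hf_injective a b
  rw [Hf_r4 a b hab, Matrix.one_mulVec, Matrix.conjTranspose_one, mul_one, one_mul]

include hab in
theorem r4_mul (g h : Matrix (Fin 2) (Fin 2) (E a b)) : r4 a b (g * h) = r4 a b g * r4 a b h := by
  apply mat_ext
  intro v
  apply Hf_injective a b
  rw [← Matrix.mulVec_mulVec, Hf_r4 a b hab, Hf_r4 a b hab, Hf_r4 a b hab,
    Matrix.conjTranspose_mul]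
  simp only [mul_assoc]

include hab in
theorem r4_Q (g : Matrix (Fin 2) (Fin 2) (E a b)) (hg : g.det = 1) (v : ι → F) :
    Cfsg.quadFormMinus 1 F a b (r4 a b g *ᵥ v) = Cfsg.quadFormMinus 1 F a b v := by
  apply QuadraticAlgebra.C_injective (a := -b) (b := a)
  have h1 := Hf_det a b (r4 a b g *ᵥ v)
  rw [Hf_r4 a b hab, Matrix.det_mul, Matrix.det_mul, Matrix.det_conjTranspose, hg, star_one,
    mul_one, one_mul, Hf_det] at h1
  exact neg_injective h1.symm

/-- `SL₂(E) → Mat₄(F)` -/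
def r4Hom : Matrix.SpecialLinearGroup (Fin 2) (E a b) →* Matrix ι ι F where
  toFun g := r4 a b g.1
  map_one' := r4_one a b hab
  map_mul' g h := by
    rw [Matrix.SpecialLinearGroup.coe_mul]
    exact r4_mul a b hab _ _

/-- `SL₂(E) → O⁻₄(F)` -/
def rho : Matrix.SpecialLinearGroup (Fin 2) (E a b) →*
    ↥(Cfsg.isometryGroup F (Cfsg.quadFormMinus 1 F a b)) :=
  (r4Hom a b hab).toHomUnits.codRestrict _ (by
    intro g u _
    exact r4_Q a b hab g.1 g.2 u)

theorem rho_coe (g : Matrix.SpecialLinearGroup (Fin 2) (E a b)) :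
    (((rho a b hab g : ↥(Cfsg.isometryGroup F (Cfsg.quadFormMinus 1 F a b))) : GL ι F) :
      Matrix ι ι F) = r4 a b g.1 := rfl

include hab in
theorem ker_rho_scalar (g : Matrix.SpecialLinearGroup (Fin 2) (E a b))
    (hg : g ∈ (rho a b hab).ker) :
    ∃ r : E a b, (r = 1 ∨ r = -1) ∧ Matrix.scalar (Fin 2) r = g.1 := by
  haveI := fact_of_aniso a b hab
  have h1 : r4 a b g.1 = 1 := by
    rw [← rho_coe a b hab, MonoidHom.mem_ker.1 hg]; rfl
  have hfix : ∀ v, g.1 * (Hf a b v * g.1ᴴ) = Hf a b v := by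
    intro v
    rw [← Hf_r4 a b hab, h1, Matrix.one_mulVec]
  have hdet : g.1 0 0 * g.1 1 1 - g.1 0 1 * g.1 1 0 = 1 := by
    rw [← Matrix.det_fin_two]; exact g.2
  have hx := hfix (Pi.single (.inl (.inl 0)) 1)
  have hy := hfix (Pi.single (.inl (.inr 0)) 1)
  have hz := hfix (Pi.single (.inr 0) 1)
  have hx00 := congrFun (congrFun hx 0) 0
  have hx01 := congrFun (congrFun hx 0) 1
  have hy11 := congrFun (congrFun hy 1) 1
  have hy01 := congrFun (congrFun hy 0) 1
  have hz01 := congrFun (congrFun hz 0) 1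
  have ex : Hf a b (Pi.single (.inl (.inl 0)) 1) = !![1, 0; 0, 0] := by
    apply Matrix.ext
    intro i j
    fin_cases i <;> fin_cases j <;> ext <;> simp [Hf, wOf]
  have ey : Hf a b (Pi.single (.inl (.inr 0)) 1) = !![0, 0; 0, -1] := by
    apply Matrix.ext
    intro i j
    fin_cases i <;> fin_cases j <;> ext <;> simp [Hf, wOf]
  have ez : Hf a b (Pi.single (.inr 0) 1) = !![0, 1; 1, 0] := by
    apply Matrix.ext
    intro i j
    fin_cases i <;> fin_cases j <;> ext <;> simp [Hf, wOf]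
  rw [ex] at hx00 hx01
  rw [ey] at hy11 hy01
  rw [ez] at hz01
  simp [Matrix.mul_apply, Fin.sum_univ_two, Matrix.conjTranspose_apply, Matrix.vecMul, dotProduct]
    at hx00 hx01 hy11 hy01 hz01
  have hα : g.1 0 0 ≠ 0 := by intro h0; rw [h0] at hx00; simp at hx00
  have hδ : g.1 1 1 ≠ 0 := by intro h0; rw [h0] at hy11; simp at hy11
  have hγ : g.1 1 0 = 0 := hx01.resolve_left hα
  have hβ : g.1 0 1 = 0 := hy01.resolve_right hδ
  rw [hβ, hγ] at hdet
  rw [hβ] at hz01
  simp at hdet hz01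
  have hδs : star (g.1 1 1) = g.1 1 1 := by
    have : g.1 0 0 * (star (g.1 1 1) - g.1 1 1) = 0 := by linear_combination hz01 - hdet
    exact sub_eq_zero.1 ((mul_eq_zero.1 this).resolve_left hα)
  rw [hδs] at hy11
  have hαδ : g.1 0 0 = g.1 1 1 := by linear_combination g.1 1 1 * hdet - g.1 0 0 * hy11
  refine ⟨g.1 1 1, ?_, ?_⟩
  · have h4 : (g.1 1 1 - 1) * (g.1 1 1 + 1) = 0 := by linear_combination hy11
    rcases mul_eq_zero.1 h4 with h | h
    · left; exact sub_eq_zero.1 h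
    · right; exact eq_neg_of_add_eq_zero_left h
  · apply Matrix.ext
    intro i j
    fin_cases i <;> fin_cases j <;> simp [hβ, hγ, hαδ]

include hab in
theorem card_ker_le_two : Nat.card (rho a b hab).ker ≤ 2 := by
  classical
  let f : (rho a b hab).ker → ↥({1, -1} : Finset (E a b)) := fun g =>
    ⟨g.1.1 0 0, by
      obtain ⟨r, hr, hA⟩ := ker_rho_scalar a b hab g.1 g.2
      rw [← hA]
      simp only [Matrix.scalar_apply, Matrix.diagonal_apply_eq, Finset.mem_insert,
        Finset.mem_singleton]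
      exact hr⟩
  have hf : Function.Injective f := by
    intro g h hgh
    have h0 : g.1.1 0 0 = h.1.1 0 0 := congrArg Subtype.val hgh
    obtain ⟨r, hr, hA⟩ := ker_rho_scalar a b hab g.1 g.2
    obtain ⟨r', hr', hA'⟩ := ker_rho_scalar a b hab h.1 h.2
    apply Subtype.ext
    apply Subtype.ext
    rw [← hA, ← hA'] at h0 ⊢
    simp only [Matrix.scalar_apply, Matrix.diagonal_apply_eq] at h0
    rw [h0]
  haveI : Finite (E a b) := Finite.of_equiv _ (QuadraticAlgebra.equivProd (-b) a).symm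
  calc Nat.card (rho a b hab).ker ≤ Nat.card ↥({1, -1} : Finset (E a b)) :=
        Nat.card_le_card_of_injective f hf
    _ = ({1, -1} : Finset (E a b)).card := by
        rw [Nat.card_eq_fintype_card, Fintype.card_coe]
    _ ≤ 2 := Finset.card_le_two

include hab in
theorem ker_rho_eq_bot (h2 : (2 : F) = 0) : (rho a b hab).ker = ⊥ := by
  rw [eq_bot_iff]
  intro g hg
  obtain ⟨r, hr, hA⟩ := ker_rho_scalar a b hab g hg
  have h2' : (2 : E a b) = 0 := by
    ext <;> simp [h2]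
  have h1 : (-1 : E a b) = 1 := by linear_combination -h2'
  have hr1 : r = 1 := by
    rcases hr with h | h
    · exact h
    · rw [h, h1]
  rw [Subgroup.mem_bot]
  apply Subtype.ext
  rw [← hA, hr1]
  simp

include hab in
theorem central_of_comm (g : Matrix.SpecialLinearGroup (Fin 2) (E a b))
    (H : ∀ h, rho a b hab (g * h) = rho a b hab (h * g)) :
    g ∈ Subgroup.center (Matrix.SpecialLinearGroup (Fin 2) (E a b)) := by
  haveI := fact_of_aniso a b hab
  apply Cfsg.Agent.Lib.H29.ExcIso.SL2_central_of_comm_sign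
  intro h
  have hk : g * h * (h * g)⁻¹ ∈ (rho a b hab).ker := by
    rw [MonoidHom.mem_ker, map_mul, map_inv, H, mul_inv_cancel]
  obtain ⟨r, hr, hA⟩ := ker_rho_scalar a b hab _ hk
  refine ⟨r, hr, ?_⟩
  have e1 : (g * h * (h * g)⁻¹) * (h * g) = g * h := by group
  have e2 := congrArg Subtype.val e1
  rw [Matrix.SpecialLinearGroup.coe_mul, ← hA, Matrix.SpecialLinearGroup.coe_mul,
    Matrix.SpecialLinearGroup.coe_mul] at e2
  rw [← e2, Matrix.scalar_apply, ← Matrix.smul_eq_diagonal_mul]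

include hab in
theorem perfect_SL : commutator (Matrix.SpecialLinearGroup (Fin 2) (E a b)) = ⊤ := by
  haveI := fact_of_aniso a b hab
  apply Matrix.SL2.commutator_eq_top (a := (ω : E a b))
  · intro h
    have := congrArg QuadraticAlgebra.im h
    simp at this
  · intro h
    have h1 := congrArg QuadraticAlgebra.re h
    have h2 := congrArg QuadraticAlgebra.im h
    simp [pow_two] at h1 h2
    have := hab 1 1 (by rw [h2]; linear_combination -h1)
    exact one_ne_zero this.1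

include hab in
theorem rho_mem_Omega (g : Matrix.SpecialLinearGroup (Fin 2) (E a b)) :
    rho a b hab g ∈ Cfsg.Omega F (Cfsg.quadFormMinus 1 F a b) := by
  have h1 := Abelianization.commutator_subset_ker ((Abelianization.of).comp (rho a b hab))
  rw [perfect_SL a b hab] at h1
  have h2 := h1 (Subgroup.mem_top g)
  have h3 : rho a b hab g ∈ (Abelianization.of :
      ↥(Cfsg.isometryGroup F (Cfsg.quadFormMinus 1 F a b)) →* _).ker := h2
  rwa [Abelianization.ker_of] at h3

end basic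

section cards

variable {F : Type*} [Field F] [Fintype F] (a b : F)
  (hab : ∀ z₁ z₂ : F, z₁ ^ 2 + a * z₁ * z₂ + b * z₂ ^ 2 = 0 → z₁ = 0 ∧ z₂ = 0)

include hab in
theorem card_Omega_le_range :
    Nat.card ↥(Cfsg.Omega F (Cfsg.quadFormMinus 1 F a b)) ≤ Nat.card ↥(rho a b hab).range := by
  haveI := fact_of_aniso a b hab
  have hker := Subgroup.card_mul_index (rho a b hab).ker
  rw [Subgroup.index_ker] at hker
  set q := Fintype.card F with hq
  have hq2 : 2 ≤ q := Fintype.one_lt_card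
  have h1 := Cfsg.Agent.S0242.result (F := E a b) (card_E a b rfl) 2 (by norm_num)
  have hO := Cfsg.Agent.S0288.result (F := F) rfl 2 (by norm_num) a b hab
  rw [← hq] at h1 hO
  simp only [Fin.prod_univ_two, Finset.prod_range_succ, Finset.prod_range_zero] at h1 hO
  simp at h1 hO
  have p1 : 1 ≤ q := by omega
  have p2 : 1 ≤ q ^ 2 := Nat.one_le_pow _ _ p1
  have l1 : q ^ 2 ≤ (q ^ 2) ^ 2 := by nlinarith
  have e1 : (q ^ 2) ^ 2 - q ^ 2 = q ^ 2 * (q ^ 2 - 1) := by zify [l1, p2]; ring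
  have p4 : 1 ≤ (q ^ 2) ^ 2 := Nat.one_le_pow _ _ p2
  have e2 : (q ^ 2) ^ 2 - 1 = (q ^ 2 + 1) * (q ^ 2 - 1) := by zify [p4, p2]; ring
  rw [e1, e2] at h1
  have hA : 0 < q ^ 2 - 1 := by
    have : 4 ≤ q ^ 2 := by nlinarith
    omega
  have h3 : (q ^ 2 - 1) * Nat.card (Matrix.SpecialLinearGroup (Fin 2) (E a b)) =
      (q ^ 2 - 1) * (q ^ 2 * (q ^ 2 + 1) * (q ^ 2 - 1)) := by
    rw [h1]; ring
  have h4 := Nat.eq_of_mul_eq_mul_left hA h3
  have hOS : Nat.card ↥(Cfsg.isometryGroup F (Cfsg.quadFormMinus 1 F a b)) =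
      2 * Nat.card (Matrix.SpecialLinearGroup (Fin 2) (E a b)) := by
    rw [hO, h4]; ring
  by_cases h2 : (2 : F) = 0
  · have hi := Cfsg.Agent.Lib.H29.OmegaBound.card_Omega_even (Cfsg.Agent.Lib.H13.minusQF F 1 a b)
      (Cfsg.Agent.S0288.nondeg a b hab 1) h2
    rw [Cfsg.Agent.S0288.coe_minusQF] at hi
    rw [ker_rho_eq_bot a b hab h2, Subgroup.card_bot] at hker
    omega
  · have hi := Cfsg.Agent.Lib.H29.OmegaBound.card_Omega_odd (Cfsg.Agent.Lib.H13.minusQF F 1 a b)
      (Cfsg.Agent.S0288.nondeg a b hab 1) h2 (by simp)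
    rw [Cfsg.Agent.S0288.coe_minusQF] at hi
    have hk := card_ker_le_two a b hab
    have : Nat.card (Matrix.SpecialLinearGroup (Fin 2) (E a b)) ≤
        2 * Nat.card ↥(rho a b hab).range := by
      rw [← hker]
      exact Nat.mul_le_mul_right _ hk
    omega

end cards

/-- PΩ^-_4(q) is isomorphic to PSL_2(q^2). -/
theorem result {F K : Type*} [Field F] [Fintype F] [Field K] [Fintype K] {q : ℕ} (hF : Fintype.card F = q) (hK : Fintype.card K = q ^ 2) (a b : F) (hab : ∀ z₁ z₂ : F, z₁ ^ 2 + a * z₁ * z₂ + b * z₂ ^ 2 = 0 → z₁ = 0 ∧ z₂ = 0) : Nonempty (Cfsg.POmega F (Cfsg.quadFormMinus 1 F a b) ≃* Matrix.ProjectiveSpecialLinearGroup (Fin 2) K) := by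
  haveI := fact_of_aniso a b hab
  obtain ⟨e⟩ := Cfsg.Agent.Lib.H29.ExcIso.excIso (rho a b hab) (rho_mem_Omega a b hab)
    (card_Omega_le_range a b hab) (central_of_comm a b hab)
  have hc : Fintype.card (E a b) = Fintype.card K := by
    rw [card_E a b hF, hK]
  let r : E a b ≃+* K := FiniteField.ringEquivOfCardEq hc
  obtain ⟨e'⟩ := Cfsg.Agent.Lib.H29.ExcIso.quot_center_congr
    (Cfsg.Agent.Lib.H2.slMapEquiv (n := Fin 2) r)
  exact ⟨e.trans e'⟩

end Cfsg.Agent.S0300
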