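import Cfsg.Statements.S0825
import Cfsg.Agent.S0287
import Cfsg.Agent.Lib.H29.PermMod
import Cfsg.Agent.Lib.H29.IsoTransport
-- import your own Cfsg.Agent.* helpers here

set_option autoImplicit false
open Cfsg

namespace Cfsg.Agent.S0825

open Matrix Equiv Cfsg.Agent.Lib.H29

abbrev κ : Type := Fin 3 ⊕ Fin 3

def ev : Fin 3 → Fin 8 → ZMod 2 :=
  ![![1, 1, 1, 1, 0, 0, 0, 0], ![1, 0, 0, 1, 1, 1, 0, 0], ![0, 0, 1, 1, 1, 0, 1, 0]]

def fv : Fin 3 → Fin 8 → ZMod 2 :=
  ![![1, 1, 1, 0, 1, 0, 0, 0], ![0, 1, 0, 1, 1, 1, 0, 0], ![1, 1, 0, 0, 0, 1, 1, 0]]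

def Lm : Matrix (Fin 8) κ (ZMod 2) := Matrix.of fun i k =>
  match k with
  | .inl j => ev j i
  | .inr j => fv j i

def Rm : Matrix κ (Fin 8) (ZMod 2) := Matrix.of fun k i =>
  match k with
  | .inl j => fv j i
  | .inr j => ev j i

def D : PermMod.Data 8 κ (ZMod 2) where
  L := Lm
  R := Rm
  d := ![1, 1, 1, 1, 1, 1, 1, 0]
  a := ![0, 0, 0, 0, 0, 0, 0, 1]
  RL := by decide
  R1 := by decide
  oneL := by decide
  expand := by decide

abbrev Q2 : (κ → ZMod 2) → ZMod 2 := Cfsg.quadFormPlus 3 (ZMod 2)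

set_option maxRecDepth 100000 in
theorem hq : ∀ y : κ → ZMod 2, PermMod.q (D.L *ᵥ y) = Q2 y := by decide +kernel

set_option maxRecDepth 100000 in
theorem hq1 : ∀ (x : Fin 8 → ZMod 2) (c : ZMod 2), ∑ i, x i = 0 →
    PermMod.q (x + c • (1 : Fin 8 → ZMod 2)) = PermMod.q x := by decide +kernel

/-- the permutation representation lands in the isometry group -/
noncomputable def psi : Perm (Fin 8) →* ↥(Cfsg.isometryGroup (ZMod 2) Q2) :=
  D.phiGL.codRestrict _ (by
    intro σ u _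
    exact D.phi_isometry Q2 hq hq1 σ u)

theorem psi_coe (σ : Perm (Fin 8)) :
    (((psi σ : ↥(Cfsg.isometryGroup (ZMod 2) Q2)) : GL κ (ZMod 2)) : Matrix κ κ (ZMod 2)) = D.phi σ := rfl

def cc : Perm (Fin 8) := swap 0 1 * swap 2 3

theorem cc_mem : cc ∈ alternatingGroup (Fin 8) := by
  rw [Equiv.Perm.mem_alternatingGroup]
  decide

theorem phi_cc_ne : D.phi cc ≠ 1 := by decide

theorem psi_injective : Function.Injective psi := by
  rw [← MonoidHom.ker_eq_bot_iff]
  by_contra hne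
  have hnt : Nontrivial psi.ker := by
    rw [Subgroup.nontrivial_iff_ne_bot]; exact hne
  have hle := Equiv.Perm.alternatingGroup_le_of_normal (α := Fin 8) (by simp) hnt
  have := hle cc_mem
  rw [MonoidHom.mem_ker] at this
  apply phi_cc_ne
  have h2 := congrArg (fun g : ↥(Cfsg.isometryGroup (ZMod 2) Q2) => ((g : GL κ (ZMod 2)) : Matrix κ κ (ZMod 2))) this
  simpa [psi_coe] using h2

theorem card_iso : Nat.card ↥(Cfsg.isometryGroup (ZMod 2) Q2) = Nat.card (Perm (Fin 8)) := by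
  have h := Cfsg.Agent.S0287.result (F := ZMod 2) (q := 2) (by simp) 3 (by norm_num)
  rw [show Q2 = Cfsg.quadFormPlus 3 (ZMod 2) from rfl, h]
  simp [Finset.prod_range_succ, Nat.card_eq_fintype_card, Fintype.card_perm]
  decide

theorem psi_bijective : Function.Bijective psi := by
  have : Finite ↥(Cfsg.isometryGroup (ZMod 2) Q2) := inferInstance
  rw [Nat.bijective_iff_injective_and_card]
  exact ⟨psi_injective, card_iso.symm⟩

/-- O⁺_6(2) ≅ S_8: the isometry group of the hyperbolic form x_1y_1 + x_2y_2 + x_3y_3 over the field with 2 elements is isomorphic to the symmetric group on 8 letters. -/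
theorem result {F : Type*} [Field F] [Fintype F] (hF : Fintype.card F = 2) : Nonempty (↥(Cfsg.isometryGroup F (Cfsg.quadFormPlus 3 F)) ≃* Equiv.Perm (Fin 8)) := by
  let e : F ≃+* ZMod 2 := (ZMod.ringEquivOfPrime F Nat.prime_two hF).symm
  have hQ : ∀ v : κ → F, Q2 (⇑e ∘ v) = e (Cfsg.quadFormPlus 3 F v) := by
    intro v
    simp [Q2, Cfsg.quadFormPlus, map_sum, map_mul]
  exact ⟨(IsoTransport.isoEquiv e _ Q2 hQ).trans (MulEquiv.ofBijective psi psi_bijective).symm⟩

end Cfsg.Agent.S0825
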