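import Cfsg.Statements.S0256
import Cfsg.Agent.S0825
import Cfsg.Agent.S0242
import Cfsg.Agent.S0249
import Cfsg.Agent.Lib.H2.SLGen

set_option autoImplicit false
open Cfsg

namespace Cfsg.Agent.S0256

open Matrix

abbrev κ : Type := Fin 3 ⊕ Fin 3

/-- ordered pairs indexing Plücker coordinates -/
def pr : κ → Fin 4 × Fin 4
  | .inl 0 => (0, 1)
  | .inl 1 => (0, 2)
  | .inl 2 => (0, 3)
  | .inr 0 => (2, 3)
  | .inr 1 => (3, 1)
  | .inr 2 => (1, 2)

variable {R : Type*} [CommRing R]

/-- exterior square of a `4 × 4` matrix in Plücker coordinates -/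
def ext2 (g : Matrix (Fin 4) (Fin 4) R) : Matrix κ κ R :=
  Matrix.of fun k l => g (pr k).1 (pr l).1 * g (pr k).2 (pr l).2
    - g (pr k).1 (pr l).2 * g (pr k).2 (pr l).1

set_option maxHeartbeats 1600000 in
theorem ext2_mul (g h : Matrix (Fin 4) (Fin 4) R) : ext2 (g * h) = ext2 g * ext2 h := by
  ext k l
  rcases k with k | k <;> rcases l with l | l <;> fin_cases k <;> fin_cases l <;>
    simp [ext2, pr, Matrix.mul_apply, Fin.sum_univ_four, Fintype.sum_sum_type,
      Fin.sum_univ_three] <;> ring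

theorem ext2_one : ext2 (1 : Matrix (Fin 4) (Fin 4) R) = 1 := by
  ext k l
  rcases k with k | k <;> rcases l with l | l <;> fin_cases k <;> fin_cases l <;>
    simp [ext2, pr, Matrix.one_apply]

theorem det4 {R : Type*} [CommRing R] (g : Matrix (Fin 4) (Fin 4) R) :
    g.det = g 0 0 * (g 1 1 * (g 2 2 * g 3 3 - g 2 3 * g 3 2) - g 1 2 * (g 2 1 * g 3 3 - g 2 3 * g 3 1)
        + g 1 3 * (g 2 1 * g 3 2 - g 2 2 * g 3 1))
      - g 0 1 * (g 1 0 * (g 2 2 * g 3 3 - g 2 3 * g 3 2) - g 1 2 * (g 2 0 * g 3 3 - g 2 3 * g 3 0)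
        + g 1 3 * (g 2 0 * g 3 2 - g 2 2 * g 3 0))
      + g 0 2 * (g 1 0 * (g 2 1 * g 3 3 - g 2 3 * g 3 1) - g 1 1 * (g 2 0 * g 3 3 - g 2 3 * g 3 0)
        + g 1 3 * (g 2 0 * g 3 1 - g 2 1 * g 3 0))
      - g 0 3 * (g 1 0 * (g 2 1 * g 3 2 - g 2 2 * g 3 1) - g 1 1 * (g 2 0 * g 3 2 - g 2 2 * g 3 0)
        + g 1 2 * (g 2 0 * g 3 1 - g 2 1 * g 3 0)) := by
  rw [Matrix.det_succ_row_zero, Fin.sum_univ_four]
  simp only [Matrix.det_fin_three, Matrix.submatrix_apply]
  simp [Fin.succAbove]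
  ring

/-- the Klein quadric form -/
def Qk (v : κ → R) : R := ∑ i : Fin 3, v (.inl i) * v (.inr i)

set_option maxHeartbeats 3200000 in
theorem ext2_Q (g : Matrix (Fin 4) (Fin 4) R) (v : κ → R) :
    Qk (ext2 g *ᵥ v) = g.det * Qk v := by
  rw [det4]
  simp [Qk, ext2, pr, Matrix.mulVec, dotProduct, Fin.sum_univ_three, Fintype.sum_sum_type]
  ring


section

variable {F : Type*} [Field F]

/-- `Λ²` as a monoid homomorphism on `SL₄`. -/
def ext2Hom : Matrix.SpecialLinearGroup (Fin 4) F →* Matrix κ κ F where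
  toFun g := ext2 g.1
  map_one' := ext2_one
  map_mul' g h := by
    rw [Matrix.SpecialLinearGroup.coe_mul]
    exact ext2_mul _ _

/-- `Λ²` into the orthogonal group of the Klein quadric. -/
def rho : Matrix.SpecialLinearGroup (Fin 4) F →* ↥(Cfsg.isometryGroup F (Cfsg.quadFormPlus 3 F)) :=
  (ext2Hom (F := F)).toHomUnits.codRestrict _ (by
    intro g u _
    show Cfsg.quadFormPlus 3 F (ext2 g.1 *ᵥ u) = Cfsg.quadFormPlus 3 F u
    have := ext2_Q g.1 u
    rw [g.2, one_mul] at this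
    exact this)

theorem rho_coe (g : Matrix.SpecialLinearGroup (Fin 4) F) :
    (((rho g : ↥(Cfsg.isometryGroup F (Cfsg.quadFormPlus 3 F))) : GL κ F) : Matrix κ κ F)
      = ext2 g.1 := rfl

/-- a transvection -/
def x0 : Matrix.SpecialLinearGroup (Fin 4) F :=
  ⟨transvection 0 1 1, det_transvection_of_ne _ _ (by decide) _⟩

theorem rho_x0_ne_one : rho (x0 : Matrix.SpecialLinearGroup (Fin 4) F) ≠ 1 := by
  intro h
  have h1 : ext2 (x0 : Matrix.SpecialLinearGroup (Fin 4) F).1 = 1 := by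
    rw [← rho_coe, h]; rfl
  have h2 := congrFun (congrFun h1 (.inl 1)) (.inr 2)
  simp [ext2, pr, x0, transvection, Matrix.single_apply, Matrix.one_apply] at h2

variable [Fintype F]

theorem eq_one_of_ne_zero (hF : Fintype.card F = 2) (r : F) (hr : r ≠ 0) : r = 1 := by
  classical
  have h1 : Fintype.card Fˣ = 1 := by rw [Fintype.card_units, hF]
  have h2 : Subsingleton Fˣ := (Fintype.card_le_one_iff_subsingleton).1 h1.le
  have := Subsingleton.elim (Units.mk0 r hr) 1
  exact congrArg Units.val this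

theorem center_eq_bot (hF : Fintype.card F = 2) :
    Subgroup.center (Matrix.SpecialLinearGroup (Fin 4) F) = ⊥ := by
  rw [eq_bot_iff]
  intro A hA
  rw [Matrix.SpecialLinearGroup.mem_center_iff] at hA
  obtain ⟨r, hr, hA⟩ := hA
  have hr0 : r ≠ 0 := by
    rintro rfl
    simp at hr
  rw [eq_one_of_ne_zero hF r hr0] at hA
  rw [Subgroup.mem_bot]
  apply Subtype.ext
  rw [← hA]
  simp

/-- `PSL₄(F) ≃* SL₄(F)` when `|F| = 2`. -/
noncomputable def eSL (hF : Fintype.card F = 2) :
    Matrix.ProjectiveSpecialLinearGroup (Fin 4) F ≃* Matrix.SpecialLinearGroup (Fin 4) F :=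
  (QuotientGroup.quotientMulEquivOfEq (center_eq_bot hF)).trans QuotientGroup.quotientBot

theorem isSimple_SL (hF : Fintype.card F = 2) :
    IsSimpleGroup (Matrix.SpecialLinearGroup (Fin 4) F) := by
  have h1 : IsSimpleGroup (Matrix.ProjectiveSpecialLinearGroup (Fin 4) F) :=
    Cfsg.Agent.S0249.result 4 (by norm_num)
  exact (eSL hF).symm.isSimpleGroup

theorem rho_injective (hF : Fintype.card F = 2) : Function.Injective (rho (F := F)) := by
  have := isSimple_SL hF
  rw [← MonoidHom.ker_eq_bot_iff]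
  rcases (rho (F := F)).normal_ker.eq_bot_or_eq_top with h | h
  · exact h
  · exfalso
    apply rho_x0_ne_one (F := F)
    have : (x0 : Matrix.SpecialLinearGroup (Fin 4) F) ∈ (rho (F := F)).ker := h ▸ Subgroup.mem_top _
    exact this

end

/-- PSL_4(2) is isomorphic to A_8. -/
theorem result {F : Type*} [Field F] [Fintype F] (hF : Fintype.card F = 2) : Nonempty (Matrix.ProjectiveSpecialLinearGroup (Fin 4) F ≃* alternatingGroup (Fin 8)) := by
  classical
  obtain ⟨e⟩ := Cfsg.Agent.S0825.result hF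
  let ψ : Matrix.SpecialLinearGroup (Fin 4) F →* Equiv.Perm (Fin 8) := e.toMonoidHom.comp rho
  have hψ : Function.Injective ψ := e.injective.comp (rho_injective hF)
  have hperf : commutator (Matrix.SpecialLinearGroup (Fin 4) F) = ⊤ :=
    Cfsg.Agent.Lib.H2.SL_commutator_eq_top (by simp)
  have hmem : ∀ g, ψ g ∈ alternatingGroup (Fin 8) := by
    intro g
    rw [Equiv.Perm.mem_alternatingGroup]
    have h1 := Abelianization.commutator_subset_ker (Equiv.Perm.sign.comp ψ)
    rw [hperf] at h1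
    exact h1 (Subgroup.mem_top g)
  let ψ' : Matrix.SpecialLinearGroup (Fin 4) F →* alternatingGroup (Fin 8) := ψ.codRestrict _ hmem
  have hψ' : Function.Injective ψ' := by
    intro g h hgh
    apply hψ
    exact congrArg Subtype.val hgh
  have hcard : Nat.card (Matrix.SpecialLinearGroup (Fin 4) F) =
      Nat.card (alternatingGroup (Fin 8)) := by
    have h1 := Cfsg.Agent.S0242.result hF 4 (by norm_num)
    have h2 : 2 * Nat.card (alternatingGroup (Fin 8)) = Nat.card (Equiv.Perm (Fin 8)) :=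
      two_mul_nat_card_alternatingGroup
    rw [Nat.card_perm, Nat.card_fin] at h2
    simp [Fin.prod_univ_four] at h1
    have h3 : Nat.factorial 8 = 40320 := by decide
    rw [h3] at h2
    rw [Nat.card_eq_fintype_card (α := Matrix.SpecialLinearGroup (Fin 4) F), h1]
    omega
  have hbij : Function.Bijective ψ' := by
    rw [Nat.bijective_iff_injective_and_card]
    exact ⟨hψ', hcard⟩
  exact ⟨(eSL hF).trans (MulEquiv.ofBijective ψ' hbij)⟩

end Cfsg.Agent.S0256
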