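import Cfsg.Statements.S0302
import Cfsg.Agent.S0256
import Cfsg.Agent.S0242
import Cfsg.Agent.S0287
import Cfsg.Agent.Lib.H11.OmegaGen
import Cfsg.Agent.Lib.H13.Char2Omega
import Cfsg.Agent.Lib.H13.StdForm
import Cfsg.Agent.Lib.H2.PSLSimple

set_option autoImplicit false
open Cfsg

namespace Cfsg.Agent.S0302

open Matrix Cfsg.Agent.S0256
open scoped commutatorElement

section general

variable {G H : Type*} [Group G] [Group H]

/-- a surjection inducing an isomorphism of central quotients -/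
theorem quot_center_equiv (f : G →* H) (hf : Function.Surjective f)
    (hc : (Subgroup.center H).comap f = Subgroup.center G) :
    Nonempty (G ⧸ Subgroup.center G ≃* H ⧸ Subgroup.center H) := by
  let φ : G →* H ⧸ Subgroup.center H := (QuotientGroup.mk' _).comp f
  have hφ : Function.Surjective φ := (QuotientGroup.mk'_surjective _).comp hf
  have hker : φ.ker = Subgroup.center G := by
    rw [← hc]
    ext x
    simp [φ, MonoidHom.mem_ker]
  exact ⟨(QuotientGroup.quotientMulEquivOfEq hker.symm).trans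
    (QuotientGroup.quotientKerEquivOfSurjective φ hφ)⟩

end general

section SL

variable {F : Type*} [Field F]

/-- a proper normal subgroup of `SL₄(F)` is central -/
theorem le_center_of_normal (N : Subgroup (Matrix.SpecialLinearGroup (Fin 4) F)) [N.Normal]
    (hN : N ≠ ⊤) : N ≤ Subgroup.center (Matrix.SpecialLinearGroup (Fin 4) F) := by
  have hs : IsSimpleGroup (Matrix.ProjectiveSpecialLinearGroup (Fin 4) F) :=
    Cfsg.Agent.Lib.H2.PSL_simple_of_three_le (by simp)
  have hperf : commutator (Matrix.SpecialLinearGroup (Fin 4) F) = ⊤ :=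
    Cfsg.Agent.Lib.H2.SL_commutator_eq_top (by simp)
  let π : Matrix.SpecialLinearGroup (Fin 4) F →* Matrix.ProjectiveSpecialLinearGroup (Fin 4) F :=
    QuotientGroup.mk' _
  have hπ : Function.Surjective π := QuotientGroup.mk'_surjective _
  have hn : (N.map π).Normal := Subgroup.Normal.map inferInstance π hπ
  rcases hn.eq_bot_or_eq_top with h | h
  · intro x hx
    have h1 : π x ∈ N.map π := Subgroup.mem_map_of_mem π hx
    rw [h, Subgroup.mem_bot] at h1
    exact (QuotientGroup.eq_one_iff x).1 h1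
  · exfalso
    apply hN
    rw [eq_top_iff, ← hperf, commutator_def, Subgroup.commutator_le]
    have key : ∀ g : Matrix.SpecialLinearGroup (Fin 4) F, ∃ n ∈ N, ∃ z ∈ Subgroup.center
        (Matrix.SpecialLinearGroup (Fin 4) F), g = n * z := by
      intro g
      have h1 : π g ∈ N.map π := h ▸ Subgroup.mem_top _
      obtain ⟨n, hn, hng⟩ := h1
      refine ⟨n, hn, n⁻¹ * g, ?_, by group⟩
      exact QuotientGroup.eq.1 hng
    intro g₁ _ g₂ _
    obtain ⟨n₁, hn₁, z₁, hz₁, rfl⟩ := key g₁
    obtain ⟨n₂, hn₂, z₂, hz₂, rfl⟩ := key g₂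
    let p : Matrix.SpecialLinearGroup (Fin 4) F →* Matrix.SpecialLinearGroup (Fin 4) F ⧸ N :=
      QuotientGroup.mk' N
    have e1 : p (n₁ * z₁) = p z₁ := by
      have : p n₁ = 1 := (QuotientGroup.eq_one_iff n₁).2 hn₁
      rw [map_mul, this, one_mul]
    have e2 : p (n₂ * z₂) = p z₂ := by
      have : p n₂ = 1 := (QuotientGroup.eq_one_iff n₂).2 hn₂
      rw [map_mul, this, one_mul]
    have e3 : ⁅p (n₁ * z₁), p (n₂ * z₂)⁆ = 1 := by
      rw [commutatorElement_eq_one_iff_mul_comm, e1, e2, ← map_mul, ← map_mul,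
        Subgroup.mem_center_iff.1 hz₂ z₁]
    rw [← map_commutatorElement] at e3
    exact (QuotientGroup.eq_one_iff _).1 e3

end SL

section main

variable {F : Type*} [Field F]

theorem rho_mem_Omega (g : Matrix.SpecialLinearGroup (Fin 4) F) :
    rho g ∈ Cfsg.Omega F (Cfsg.quadFormPlus 3 F) := by
  have hperf : commutator (Matrix.SpecialLinearGroup (Fin 4) F) = ⊤ :=
    Cfsg.Agent.Lib.H2.SL_commutator_eq_top (by simp)
  have h1 := Abelianization.commutator_subset_ker ((Abelianization.of).comp (rho (F := F)))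
  rw [hperf] at h1
  have h2 := h1 (Subgroup.mem_top g)
  have h3 : rho g ∈ (Abelianization.of :
      ↥(Cfsg.isometryGroup F (Cfsg.quadFormPlus 3 F)) →* _).ker := h2
  rwa [Abelianization.ker_of] at h3

theorem ker_rho_le_center :
    (rho (F := F)).ker ≤ Subgroup.center (Matrix.SpecialLinearGroup (Fin 4) F) := by
  apply le_center_of_normal
  intro h
  apply rho_x0_ne_one (F := F)
  have : (x0 : Matrix.SpecialLinearGroup (Fin 4) F) ∈ (rho (F := F)).ker := h ▸ Subgroup.mem_top _
  exact this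

theorem ker_rho_scalar (g : Matrix.SpecialLinearGroup (Fin 4) F) (hg : g ∈ (rho (F := F)).ker) :
    ∃ r : F, (r = 1 ∨ r = -1) ∧ Matrix.scalar (Fin 4) r = g.1 := by
  have h1 := ker_rho_le_center hg
  rw [Matrix.SpecialLinearGroup.mem_center_iff] at h1
  obtain ⟨r, hr, hA⟩ := h1
  refine ⟨r, ?_, hA⟩
  have h2 : ext2 g.1 = 1 := by
    rw [← rho_coe, MonoidHom.mem_ker.1 hg]; rfl
  have h3 := congrFun (congrFun h2 (.inl 0)) (.inl 0)
  rw [← hA] at h3
  simp [ext2, pr, Matrix.scalar_apply] at h3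
  have h4 : (r - 1) * (r + 1) = 0 := by linear_combination h3
  rcases mul_eq_zero.1 h4 with h | h
  · left; exact sub_eq_zero.1 h
  · right; exact eq_neg_of_add_eq_zero_left h

theorem card_ker_le_two [Finite F] : Nat.card (rho (F := F)).ker ≤ 2 := by
  classical
  let f : (rho (F := F)).ker → ↥({1, -1} : Finset F) := fun g =>
    ⟨g.1.1 0 0, by
      obtain ⟨r, hr, hA⟩ := ker_rho_scalar g.1 g.2
      rw [← hA]
      simp only [Matrix.scalar_apply, Matrix.diagonal_apply_eq, Finset.mem_insert,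
        Finset.mem_singleton]
      exact hr⟩
  have hf : Function.Injective f := by
    intro g h hgh
    have h0 : g.1.1 0 0 = h.1.1 0 0 := congrArg Subtype.val hgh
    obtain ⟨r, hr, hA⟩ := ker_rho_scalar g.1 g.2
    obtain ⟨r', hr', hA'⟩ := ker_rho_scalar h.1 h.2
    apply Subtype.ext
    apply Subtype.ext
    rw [← hA, ← hA'] at h0 ⊢
    simp only [Matrix.scalar_apply, Matrix.diagonal_apply_eq] at h0
    rw [h0]
  calc Nat.card (rho (F := F)).ker ≤ Nat.card ↥({1, -1} : Finset F) :=
        Nat.card_le_card_of_injective f hf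
    _ = ({1, -1} : Finset F).card := by
        rw [Nat.card_eq_fintype_card, Fintype.card_coe]
    _ ≤ 2 := Finset.card_le_two

theorem ker_rho_eq_bot (h2 : (2 : F) = 0) : (rho (F := F)).ker = ⊥ := by
  rw [eq_bot_iff]
  intro g hg
  obtain ⟨r, hr, hA⟩ := ker_rho_scalar g hg
  have h1 : (-1 : F) = 1 := by linear_combination -h2
  have hr1 : r = 1 := by
    rcases hr with h | h
    · exact h
    · rw [h, h1]
  rw [Subgroup.mem_bot]
  apply Subtype.ext
  rw [← hA, hr1]
  simp

end main

section cards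

variable {F : Type*} [Field F] [Fintype F]

theorem card_O_eq : Nat.card ↥(Cfsg.isometryGroup F (Cfsg.quadFormPlus 3 F)) =
    2 * Nat.card (Matrix.SpecialLinearGroup (Fin 4) F) := by
  set q := Fintype.card F with hq
  have hq2 : 2 ≤ q := Fintype.one_lt_card
  have h1 := Cfsg.Agent.S0242.result (F := F) rfl 4 (by norm_num)
  have h2 := Cfsg.Agent.S0287.result (F := F) rfl 3 (by norm_num)
  rw [← hq] at h1 h2
  simp only [Fin.prod_univ_four, Finset.prod_range_succ, Finset.prod_range_zero] at h1 h2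
  simp at h1 h2
  have p1 : 1 ≤ q := by omega
  have p2 : 1 ≤ q ^ 2 := Nat.one_le_pow _ _ p1
  have p3 : 1 ≤ q ^ 3 := Nat.one_le_pow _ _ p1
  have p4 : 1 ≤ q ^ 4 := Nat.one_le_pow _ _ p1
  have l1 : q ≤ q ^ 4 := by nlinarith [Nat.pow_le_pow_right p1 (show 1 ≤ 4 by norm_num)]
  have l2 : q ^ 2 ≤ q ^ 4 := Nat.pow_le_pow_right p1 (by norm_num)
  have l3 : q ^ 3 ≤ q ^ 4 := Nat.pow_le_pow_right p1 (by norm_num)
  have e1 : q ^ 4 - q = q * (q ^ 3 - 1) := by zify [l1, p3]; ring
  have e2 : q ^ 4 - q ^ 2 = q ^ 2 * (q ^ 2 - 1) := by zify [l2, p2]; ring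
  have e3 : q ^ 4 - q ^ 3 = q ^ 3 * (q - 1) := by zify [l3, p1]; ring
  rw [e1, e2, e3] at h1
  have hA : 0 < q - 1 := by omega
  have h3 : (q - 1) * Nat.card (Matrix.SpecialLinearGroup (Fin 4) F) =
      (q - 1) * (q ^ 6 * (q ^ 2 - 1) * (q ^ 3 - 1) * (q ^ 4 - 1)) := by
    rw [h1]; ring
  have h4 := Nat.eq_of_mul_eq_mul_left hA h3
  rw [h2, h4]; ring

end cards

section final

variable {F : Type*} [Field F] [Fintype F]

theorem coe_plusQF : ⇑(Cfsg.Agent.Lib.H13.plusQF F 3) = Cfsg.quadFormPlus 3 F :=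
  funext (Cfsg.Agent.Lib.H13.plusQF_apply F 3)

theorem card_Omega_le_range :
    Nat.card ↥(Cfsg.Omega F (Cfsg.quadFormPlus 3 F)) ≤ Nat.card ↥(rho (F := F)).range := by
  have hO := card_O_eq (F := F)
  have hidx := Subgroup.card_mul_index (Cfsg.Omega F (Cfsg.quadFormPlus 3 F))
  have hker := Subgroup.card_mul_index (rho (F := F)).ker
  rw [Subgroup.index_ker] at hker
  by_cases h2 : (2 : F) = 0
  · haveI : CharP F 2 := CharTwo.of_one_ne_zero_of_two_eq_zero one_ne_zero h2
    have hi := Cfsg.Agent.Lib.H13.Char2Omega.index_Omega (Cfsg.Agent.Lib.H13.plusQF F 3)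
      (Cfsg.Agent.S0287.nondeg 3) (Or.inr (by simp))
    rw [coe_plusQF] at hi
    rw [hi] at hidx
    rw [ker_rho_eq_bot h2, Subgroup.card_bot] at hker
    omega
  · have hi := Cfsg.Agent.Lib.H11.OmegaGen.index_omega (Cfsg.Agent.Lib.H13.plusQF F 3)
      (Cfsg.Agent.S0287.nondeg 3) h2 (by simp)
    rw [coe_plusQF] at hi
    rw [hi] at hidx
    have hk := card_ker_le_two (F := F)
    have : Nat.card (Matrix.SpecialLinearGroup (Fin 4) F) ≤ 2 * Nat.card ↥(rho (F := F)).range := by
      rw [← hker]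
      exact Nat.mul_le_mul_right _ hk
    omega

theorem range_rho : (rho (F := F)).range = Cfsg.Omega F (Cfsg.quadFormPlus 3 F) := by
  apply Subgroup.eq_of_le_of_card_ge
  · rintro _ ⟨g, rfl⟩
    exact rho_mem_Omega g
  · exact card_Omega_le_range

/-- `Λ²` onto `Ω⁺₆(F)` -/
def rho' : Matrix.SpecialLinearGroup (Fin 4) F →* ↥(Cfsg.Omega F (Cfsg.quadFormPlus 3 F)) :=
  (rho (F := F)).codRestrict _ rho_mem_Omega

theorem rho'_surjective : Function.Surjective (rho' (F := F)) := by
  intro y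
  have h1 : y.1 ∈ (rho (F := F)).range := by
    rw [range_rho]; exact y.2
  obtain ⟨g, hg⟩ := h1
  exact ⟨g, Subtype.ext hg⟩

theorem comap_center :
    (Subgroup.center ↥(Cfsg.Omega F (Cfsg.quadFormPlus 3 F))).comap (rho' (F := F)) =
      Subgroup.center (Matrix.SpecialLinearGroup (Fin 4) F) := by
  apply le_antisymm
  · apply le_center_of_normal
    intro h
    apply rho_x0_ne_one (F := F)
    have hperf : commutator (Matrix.SpecialLinearGroup (Fin 4) F) = ⊤ :=
      Cfsg.Agent.Lib.H2.SL_commutator_eq_top (by simp)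
    have hle : commutator (Matrix.SpecialLinearGroup (Fin 4) F) ≤ (rho' (F := F)).ker := by
      rw [commutator_def, Subgroup.commutator_le]
      intro g₁ _ g₂ _
      rw [MonoidHom.mem_ker, map_commutatorElement, commutatorElement_eq_one_iff_mul_comm]
      have hg : g₂ ∈ (Subgroup.center ↥(Cfsg.Omega F (Cfsg.quadFormPlus 3 F))).comap
          (rho' (F := F)) := h ▸ Subgroup.mem_top _
      rw [Subgroup.mem_comap, Subgroup.mem_center_iff] at hg
      exact hg _
    rw [hperf] at hle
    have h1 : rho' (x0 : Matrix.SpecialLinearGroup (Fin 4) F) = 1 :=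
      MonoidHom.mem_ker.1 (hle (Subgroup.mem_top _))
    exact congrArg Subtype.val h1
  · intro z hz
    rw [Subgroup.mem_comap, Subgroup.mem_center_iff]
    intro y
    obtain ⟨g, rfl⟩ := rho'_surjective y
    rw [← map_mul, ← map_mul, Subgroup.mem_center_iff.1 hz g]

end final

/-- PΩ^+_6(q) is isomorphic to PSL_4(q). -/
theorem result {F : Type*} [Field F] [Fintype F] : Nonempty (Cfsg.POmega F (Cfsg.quadFormPlus 3 F) ≃* Matrix.ProjectiveSpecialLinearGroup (Fin 4) F) := by
  obtain ⟨e⟩ := quot_center_equiv (rho' (F := F)) rho'_surjective comap_center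
  exact ⟨e.symm⟩

end Cfsg.Agent.S0302
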