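import Cfsg.Statements.S0303
import Cfsg.Agent.S0256
import Cfsg.Agent.S0300
import Cfsg.Agent.Lib.H2.GOMinus2
import Cfsg.Agent.Lib.H2.Unitary5
import Cfsg.Agent.Lib.H11.UnitarySimple6
import Cfsg.Agent.S0302
import Cfsg.Agent.S0288
import Cfsg.Agent.Lib.H29.OmegaBound
import Cfsg.Agent.Lib.H29.ExcIso
import Cfsg.Agent.Lib.H13.HermPlus
import Cfsg.Agent.Lib.H2.SLMapEquiv

set_option autoImplicit false
open Cfsg

namespace Cfsg.Agent.S0303

open Matrix QuadraticAlgebra Cfsg.Agent.Lib.H2.GOMinus2 Cfsg.Agent.S0256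

section generic

variable {R : Type*} [CommRing R]

theorem ext2_transpose (g : Matrix (Fin 4) (Fin 4) R) : ext2 gᵀ = (ext2 g)ᵀ := by
  ext k l
  simp only [ext2, Matrix.of_apply, Matrix.transpose_apply]
  ring

theorem ext2_map {R' : Type*} [CommRing R'] (f : R →+* R') (g : Matrix (Fin 4) (Fin 4) R) :
    ext2 (g.map f) = (ext2 g).map f := by
  ext k l
  simp [ext2]

set_option maxHeartbeats 3200000 in
theorem ext2_swap (g : Matrix (Fin 4) (Fin 4) R) :
    (ext2 g)ᵀ * (ext2 g).submatrix Sum.swap Sum.swap = g.det • (1 : Matrix κ κ R) := by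
  ext k l
  rw [det4]
  rcases k with k | k <;> rcases l with l | l <;> fin_cases k <;> fin_cases l <;>
    simp [ext2, pr, Matrix.mul_apply, Fintype.sum_sum_type, Fin.sum_univ_three,
      Matrix.one_apply] <;> ring

end generic

abbrev ι : Type := (Fin 2 ⊕ Fin 2) ⊕ Fin 2

section coords

variable {F : Type*} [Field F] (a b : F)
  (φ : (Fin 2 → E a b) ≃ₗ[F] (Fin 2 ⊕ Fin 2 → F))

theorem vec2_eta {α : Type*} (y : Fin 2 → α) : ![y 0, y 1] = y := by
  funext i
  fin_cases i <;> rfl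

/-- the hyperbolic part of a vector -/
def hypPart (v : ι → F) : Fin 2 ⊕ Fin 2 → F := fun k => v (.inl k)

/-- the three `E`-coordinates of a vector -/
def Wf (v : ι → F) : Fin 3 → E a b :=
  ![φ.symm (hypPart v) 0, φ.symm (hypPart v) 1, ⟨v (.inr 0), v (.inr 1)⟩]

/-- the point of `V₀ ⊆ E⁶` attached to a vector -/
def Hf (v : ι → F) : κ → E a b := Sum.elim (Wf a b φ v) (fun i => star (Wf a b φ v i))

/-- coordinates of a point of `E⁶` -/
def Cf (u : κ → E a b) : ι → F :=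
  Sum.elim (φ ![u (.inl 0), u (.inl 1)]) ![(u (.inl 2)).re, (u (.inl 2)).im]

theorem Cf_Hf (v : ι → F) : Cf a b φ (Hf a b φ v) = v := by
  funext k
  rcases k with k | k
  · show φ ![φ.symm (hypPart v) 0, φ.symm (hypPart v) 1] k = v (.inl k)
    rw [vec2_eta, LinearEquiv.apply_symm_apply]
    rfl
  · fin_cases k <;> rfl

/-- the fixed space of the semilinear involution -/
def InV0 (u : κ → E a b) : Prop := ∀ i, u (.inr i) = star (u (.inl i))

theorem Hf_mem (v : ι → F) : InV0 a b (Hf a b φ v) := fun _ => rfl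

theorem Hf_Cf (u : κ → E a b) (hu : InV0 a b u) : Hf a b φ (Cf a b φ u) = u := by
  have h1 : hypPart (Cf a b φ u) = φ ![u (.inl 0), u (.inl 1)] := rfl
  have hW : ∀ i, Wf a b φ (Cf a b φ u) i = u (.inl i) := by
    intro i
    fin_cases i
    · show φ.symm (hypPart (Cf a b φ u)) 0 = _
      rw [h1, LinearEquiv.symm_apply_apply]; rfl
    · show φ.symm (hypPart (Cf a b φ u)) 1 = _
      rw [h1, LinearEquiv.symm_apply_apply]; rfl
    · rfl
  funext k
  rcases k with i | i
  · exact hW i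
  · show star (Wf a b φ (Cf a b φ u) i) = _
    rw [hW, hu]

theorem Hf_injective : Function.Injective (Hf a b φ) := by
  intro u v huv
  rw [← Cf_Hf a b φ u, ← Cf_Hf a b φ v, huv]

theorem InV0_swap (u : κ → E a b) (hu : InV0 a b u) (k : κ) : u k.swap = star (u k) := by
  rcases k with i | i
  · exact hu i
  · show u (.inl i) = star (u (.inr i))
    rw [hu, star_star]

theorem star_smul' (c : F) (z : E a b) : star (c • z) = c • star z := by
  ext <;> simp <;> ring

/-- `Hf` as a linear map -/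
def Hfl : (ι → F) →ₗ[F] (κ → E a b) where
  toFun := Hf a b φ
  map_add' u v := by
    have h1 : hypPart (u + v) = hypPart u + hypPart v := rfl
    have hW : ∀ i, Wf a b φ (u + v) i = Wf a b φ u i + Wf a b φ v i := by
      intro i
      fin_cases i
      · show φ.symm (hypPart (u + v)) 0 = φ.symm (hypPart u) 0 + φ.symm (hypPart v) 0
        rw [h1, map_add]; rfl
      · show φ.symm (hypPart (u + v)) 1 = φ.symm (hypPart u) 1 + φ.symm (hypPart v) 1
        rw [h1, map_add]; rfl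
      · show (⟨(u + v) (.inr 0), (u + v) (.inr 1)⟩ : E a b) = ⟨u (.inr 0), u (.inr 1)⟩ + ⟨v (.inr 0), v (.inr 1)⟩
        ext <;> simp
    funext k
    rcases k with i | i
    · exact hW i
    · show star (Wf a b φ (u + v) i) = star (Wf a b φ u i) + star (Wf a b φ v i)
      rw [hW, star_add]
  map_smul' c v := by
    have h1 : hypPart (c • v) = c • hypPart v := rfl
    have hW : ∀ i, Wf a b φ (c • v) i = c • Wf a b φ v i := by
      intro i
      fin_cases i
      · show φ.symm (hypPart (c • v)) 0 = c • φ.symm (hypPart v) 0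
        rw [h1, map_smul]; rfl
      · show φ.symm (hypPart (c • v)) 1 = c • φ.symm (hypPart v) 1
        rw [h1, map_smul]; rfl
      · show (⟨(c • v) (.inr 0), (c • v) (.inr 1)⟩ : E a b) = c • ⟨v (.inr 0), v (.inr 1)⟩
        ext <;> simp
    funext k
    rcases k with i | i
    · exact hW i
    · show star (Wf a b φ (c • v) i) = c • star (Wf a b φ v i)
      rw [hW, star_smul']

/-- `Cf` as a linear map -/
def Cfl : (κ → E a b) →ₗ[F] (ι → F) where
  toFun := Cf a b φ
  map_add' u v := by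
    have h1 : (![(u + v) (.inl 0), (u + v) (.inl 1)] : Fin 2 → E a b) =
        ![u (.inl 0), u (.inl 1)] + ![v (.inl 0), v (.inl 1)] := by
      funext i; fin_cases i <;> rfl
    funext k
    rcases k with k | k
    · show φ ![(u + v) (.inl 0), (u + v) (.inl 1)] k = φ ![u (.inl 0), u (.inl 1)] k + φ ![v (.inl 0), v (.inl 1)] k
      rw [h1, map_add]; rfl
    · fin_cases k <;> simp [Cf]
  map_smul' c u := by
    have h1 : (![(c • u) (.inl 0), (c • u) (.inl 1)] : Fin 2 → E a b) =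
        c • ![u (.inl 0), u (.inl 1)] := by
      funext i; fin_cases i <;> rfl
    funext k
    rcases k with k | k
    · show φ ![(c • u) (.inl 0), (c • u) (.inl 1)] k = c • φ ![u (.inl 0), u (.inl 1)] k
      rw [h1, map_smul]; rfl
    · fin_cases k <;> simp [Cf]

end coords

section rep

variable {F : Type*} [Field F] (a b : F)
  (φ : (Fin 2 → E a b) ≃ₗ[F] (Fin 2 ⊕ Fin 2 → F))

/-- the `6 × 6` matrix over `F` of `Λ² g` restricted to `V₀` -/
def r6 (g : Matrix (Fin 4) (Fin 4) (E a b)) : Matrix ι ι F :=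
  LinearMap.toMatrix' ((Cfl a b φ) ∘ₗ ((Matrix.mulVecLin (ext2 g)).restrictScalars F) ∘ₗ
    (Hfl a b φ))

theorem r6_mulVec (g : Matrix (Fin 4) (Fin 4) (E a b)) (v : ι → F) :
    r6 a b φ g *ᵥ v = Cf a b φ (ext2 g *ᵥ Hf a b φ v) := by
  rw [r6, LinearMap.toMatrix'_mulVec]
  rfl

/-- unitary matrices of determinant one -/
def IsU (g : Matrix (Fin 4) (Fin 4) (E a b)) : Prop :=
  gᵀ * g.map (starRingEnd (E a b)) = 1 ∧ g.det = 1

theorem ext2_star (g : Matrix (Fin 4) (Fin 4) (E a b)) (hg : IsU a b g) (k l : κ) :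
    ext2 g k.swap l.swap = star (ext2 g k l) := by
  have h1 : (ext2 g)ᵀ * (ext2 g).map (starRingEnd (E a b)) = 1 := by
    rw [← ext2_transpose, ← ext2_map, ← ext2_mul, hg.1, ext2_one]
  have h2 : (ext2 g)ᵀ * (ext2 g).submatrix Sum.swap Sum.swap = 1 := by
    rw [ext2_swap, hg.2, one_smul]
  have h3 : (ext2 g).submatrix Sum.swap Sum.swap = (ext2 g).map (starRingEnd (E a b)) := by
    rw [← Matrix.inv_eq_right_inv h1, ← Matrix.inv_eq_right_inv h2]
  have h4 := congrFun (congrFun h3 k) l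
  simp only [Matrix.submatrix_apply, Matrix.map_apply] at h4
  exact h4

theorem V0_pres (g : Matrix (Fin 4) (Fin 4) (E a b)) (hg : IsU a b g) (u : κ → E a b)
    (hu : InV0 a b u) : InV0 a b (ext2 g *ᵥ u) := by
  intro i
  show (ext2 g *ᵥ u) (Sum.swap (.inl i)) = _
  simp only [Matrix.mulVec, dotProduct]
  rw [star_sum, ← Equiv.sum_comp (Equiv.sumComm (Fin 3) (Fin 3))]
  apply Finset.sum_congr rfl
  intro l _
  rw [star_mul', ← ext2_star a b g hg, ← InV0_swap a b u hu]
  rfl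

theorem Hf_r6 (g : Matrix (Fin 4) (Fin 4) (E a b)) (hg : IsU a b g) (v : ι → F) :
    Hf a b φ (r6 a b φ g *ᵥ v) = ext2 g *ᵥ Hf a b φ v := by
  rw [r6_mulVec, Hf_Cf]
  exact V0_pres a b g hg _ (Hf_mem a b φ v)

theorem r6_one : r6 a b φ (1 : Matrix (Fin 4) (Fin 4) (E a b)) = 1 := by
  apply Cfsg.Agent.S0300.mat_ext
  intro v
  rw [r6_mulVec, ext2_one, Matrix.one_mulVec, Matrix.one_mulVec, Cf_Hf]

theorem r6_mul (g h : Matrix (Fin 4) (Fin 4) (E a b)) (hh : IsU a b h) :
    r6 a b φ (g * h) = r6 a b φ g * r6 a b φ h := by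
  apply Cfsg.Agent.S0300.mat_ext
  intro v
  rw [← Matrix.mulVec_mulVec, r6_mulVec, r6_mulVec, Hf_r6 a b φ h hh, ext2_mul,
    Matrix.mulVec_mulVec]

variable (hφ : ∀ v : Fin 2 → E a b,
  (QuadraticAlgebra.C (Cfsg.quadFormPlus 2 F (φ v)) : E a b) = v 0 * star (v 0) + v 1 * star (v 1))

include hφ in
theorem Qk_Hf (v : ι → F) :
    Qk (Hf a b φ v) = QuadraticAlgebra.C (Cfsg.quadFormMinus 2 F a b v) := by
  have h1 := hφ (φ.symm (hypPart v))
  rw [LinearEquiv.apply_symm_apply] at h1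
  have h2 : Cfsg.quadFormMinus 2 F a b v = Cfsg.quadFormPlus 2 F (hypPart v) +
      (v (.inr 0) ^ 2 + a * v (.inr 0) * v (.inr 1) + b * v (.inr 1) ^ 2) := rfl
  rw [h2, QuadraticAlgebra.C_add, h1]
  simp only [Qk, Fin.sum_univ_three]
  show Wf a b φ v 0 * star (Wf a b φ v 0) + Wf a b φ v 1 * star (Wf a b φ v 1) +
    Wf a b φ v 2 * star (Wf a b φ v 2) = _
  congr 1
  show (⟨v (.inr 0), v (.inr 1)⟩ : E a b) * star (⟨v (.inr 0), v (.inr 1)⟩ : E a b) = _
  ext <;> simp [pow_two] <;> ring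

include hφ in
theorem r6_Q (g : Matrix (Fin 4) (Fin 4) (E a b)) (hg : IsU a b g) (v : ι → F) :
    Cfsg.quadFormMinus 2 F a b (r6 a b φ g *ᵥ v) = Cfsg.quadFormMinus 2 F a b v := by
  apply QuadraticAlgebra.C_injective (a := -b) (b := a)
  rw [← Qk_Hf a b φ hφ, ← Qk_Hf a b φ hφ, Hf_r6 a b φ g hg, ext2_Q, hg.2, one_mul]

end rep


section transfer

variable {G G' : Type*} [Group G] [Group G']

theorem perfect_of_equiv (e : G ≃* G') (h : commutator G' = ⊤) : commutator G = ⊤ := by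
  have h2 : (commutator G).map e.toMonoidHom = commutator G' := by
    rw [commutator_def, commutator_def, Subgroup.map_commutator, ← MonoidHom.range_eq_map,
      MonoidHom.range_eq_top.2 e.surjective]
  rw [eq_top_iff]
  intro g _
  have h1 : e g ∈ commutator G' := h ▸ Subgroup.mem_top _
  rw [← h2] at h1
  obtain ⟨x, hx, hxg⟩ := h1
  have := e.injective hxg
  rwa [← this]

theorem dichotomy_of_equiv (e : G ≃* G')
    (h : ∀ N' : Subgroup G', N'.Normal → N' ≤ Subgroup.center G' ∨ N' = ⊤)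
    (N : Subgroup G) [hN : N.Normal] : N ≤ Subgroup.center G ∨ N = ⊤ := by
  have hn : (N.map e.toMonoidHom).Normal := Subgroup.Normal.map hN _ e.surjective
  rcases h _ hn with h1 | h1
  · left
    intro g hg
    have h2 : e g ∈ Subgroup.center G' := h1 (Subgroup.mem_map_of_mem _ hg)
    rw [Subgroup.mem_center_iff] at h2 ⊢
    intro x
    apply e.injective
    rw [map_mul, map_mul]
    exact h2 (e x)
  · right
    rw [eq_top_iff]
    intro g _
    have h2 : e g ∈ N.map e.toMonoidHom := h1 ▸ Subgroup.mem_top _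
    obtain ⟨x, hx, hxg⟩ := h2
    have := e.injective hxg
    rwa [← this]

end transfer

section group

variable {F : Type*} [Field F] [Fintype F] (a b : F) [Hab : Fact (∀ r : F, r ^ 2 ≠ -b + a * r)]
  {q : ℕ} (hF : Fintype.card F = q)
  (φ : (Fin 2 → E a b) ≃ₗ[F] (Fin 2 ⊕ Fin 2 → F))
  (hφ : ∀ v : Fin 2 → E a b,
    (QuadraticAlgebra.C (Cfsg.quadFormPlus 2 F (φ v)) : E a b) = v 0 * star (v 0) + v 1 * star (v 1))

include hF in
theorem isU_of_mem (A : Cfsg.SU 4 (E a b) q) : IsU a b A.1.1 := by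
  refine ⟨?_, A.1.2⟩
  have hq : q ≠ 0 := by rw [← hF]; exact Fintype.card_ne_zero
  apply Matrix.ext
  intro i j
  have h1 := A.2 (Pi.single i 1) (Pi.single j 1)
  rw [Cfsg.Agent.Lib.H2.Unitary.hermForm_single i j hq] at h1
  change Cfsg.hermForm 4 (E a b) q (A.1.1 *ᵥ Pi.single i 1) (A.1.1 *ᵥ Pi.single j 1) = _ at h1
  rw [Matrix.mulVec_single_one, Matrix.mulVec_single_one] at h1
  rw [Matrix.mul_apply, Matrix.one_apply, ← h1]
  unfold Cfsg.hermForm
  apply Finset.sum_congr rfl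
  intro k _
  show A.1.1 k i * star (A.1.1 k j) = A.1.1 k i * A.1.1 k j ^ q
  rw [star_eq_pow a b hF]

/-- `SU₄(E) → Mat₆(F)` -/
def r6Hom : Cfsg.SU 4 (E a b) q →* Matrix ι ι F where
  toFun A := r6 a b φ A.1.1
  map_one' := r6_one a b φ
  map_mul' A B := r6_mul a b φ _ _ (isU_of_mem a b hF B)

/-- `SU₄(E) → O⁻₆(F)` -/
def rho : Cfsg.SU 4 (E a b) q →* ↥(Cfsg.isometryGroup F (Cfsg.quadFormMinus 2 F a b)) :=
  (r6Hom a b hF φ).toHomUnits.codRestrict _ (by
    intro A u _
    exact r6_Q a b φ hφ A.1.1 (isU_of_mem a b hF A) u)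

theorem rho_coe (A : Cfsg.SU 4 (E a b) q) :
    (((rho a b hF φ hφ A : ↥(Cfsg.isometryGroup F (Cfsg.quadFormMinus 2 F a b))) : GL ι F) :
      Matrix ι ι F) = r6 a b φ A.1.1 := rfl


/-- the semilinear involution -/
def theta (u : κ → E a b) : κ → E a b := fun k => star (u k.swap)

omit [Fintype F] Hab in
theorem add_theta_mem (u : κ → E a b) : InV0 a b (u + theta a b u) := by
  intro i
  show u (.inr i) + star (u (.inl i)) = star (u (.inl i) + star (u (.inr i)))
  rw [star_add, star_star, add_comm]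

include hF in
theorem ext2_eq_one_of_ker (A : Cfsg.SU 4 (E a b) q) (hA : A ∈ (rho a b hF φ hφ).ker) :
    ext2 A.1.1 = 1 := by
  have hU := isU_of_mem a b hF A
  have h1 : r6 a b φ A.1.1 = 1 := by
    rw [← rho_coe a b hF φ hφ, MonoidHom.mem_ker.1 hA]; rfl
  have hfix : ∀ u, InV0 a b u → ext2 A.1.1 *ᵥ u = u := by
    intro u hu
    rw [← Hf_Cf a b φ u hu, ← Hf_r6 a b φ A.1.1 hU, h1, Matrix.one_mulVec]
  have hd : (ω : E a b) - star (ω : E a b) ≠ 0 := by
    intro h
    have h2 := congrArg QuadraticAlgebra.im h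
    have h3 := congrArg QuadraticAlgebra.re h
    simp at h2 h3
    have h4 : (2 : F) = 0 := by linear_combination h2
    have ha : a = 0 := by first | exact h3 | linear_combination -h3
    have : CharP F 2 := CharTwo.of_one_ne_zero_of_two_eq_zero one_ne_zero h4
    obtain ⟨c, hc⟩ := FiniteField.isSquare_of_char_two (ringChar.eq F 2) b
    have := Hab.out c
    apply this
    rw [ha, hc]
    linear_combination (c * c) * h4
  apply Cfsg.Agent.S0300.mat_ext
  intro u
  rw [Matrix.one_mulVec]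
  have e1 : ((ω : E a b) - star (ω : E a b)) • u =
      ((ω : E a b) • u + theta a b ((ω : E a b) • u)) - star (ω : E a b) • (u + theta a b u) := by
    funext k
    simp only [theta, Pi.smul_apply, Pi.add_apply, Pi.sub_apply, smul_eq_mul, star_mul']
    ring
  have e2 : ext2 A.1.1 *ᵥ (((ω : E a b) - star (ω : E a b)) • u) =
      ((ω : E a b) - star (ω : E a b)) • u := by
    rw [e1, Matrix.mulVec_sub, Matrix.mulVec_smul, hfix _ (add_theta_mem a b _),
      hfix _ (add_theta_mem a b _)]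
  rw [Matrix.mulVec_smul] at e2
  funext k
  have e3 := congrFun e2 k
  simp only [Pi.smul_apply, smul_eq_mul] at e3
  exact mul_left_cancel₀ hd e3

include hF in
theorem ker_rho_scalar (A : Cfsg.SU 4 (E a b) q) (hA : A ∈ (rho a b hF φ hφ).ker) :
    ∃ r : E a b, (r = 1 ∨ r = -1) ∧ Matrix.scalar (Fin 4) r = A.1.1 := by
  apply Cfsg.Agent.S0302.ker_rho_scalar A.1
  rw [MonoidHom.mem_ker]
  apply Subtype.ext
  apply Units.ext
  rw [Cfsg.Agent.S0256.rho_coe]
  exact ext2_eq_one_of_ker a b hF φ hφ A hA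

include hF in
theorem card_ker_le_two : Nat.card (rho a b hF φ hφ).ker ≤ 2 := by
  classical
  let f : (rho a b hF φ hφ).ker → ↥({1, -1} : Finset (E a b)) := fun g =>
    ⟨g.1.1.1 0 0, by
      obtain ⟨r, hr, hA⟩ := ker_rho_scalar a b hF φ hφ g.1 g.2
      rw [← hA]
      simp only [Matrix.scalar_apply, Matrix.diagonal_apply_eq, Finset.mem_insert,
        Finset.mem_singleton]
      exact hr⟩
  have hf : Function.Injective f := by
    intro g h hgh
    have h0 : g.1.1.1 0 0 = h.1.1.1 0 0 := congrArg Subtype.val hgh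
    obtain ⟨r, hr, hA⟩ := ker_rho_scalar a b hF φ hφ g.1 g.2
    obtain ⟨r', hr', hA'⟩ := ker_rho_scalar a b hF φ hφ h.1 h.2
    apply Subtype.ext
    apply Subtype.ext
    apply Subtype.ext
    rw [← hA, ← hA'] at h0 ⊢
    simp only [Matrix.scalar_apply, Matrix.diagonal_apply_eq] at h0
    rw [h0]
  calc Nat.card (rho a b hF φ hφ).ker ≤ Nat.card ↥({1, -1} : Finset (E a b)) :=
        Nat.card_le_card_of_injective f hf
    _ = ({1, -1} : Finset (E a b)).card := by
        rw [Nat.card_eq_fintype_card, Fintype.card_coe]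
    _ ≤ 2 := Finset.card_le_two

include hF in
theorem ker_rho_eq_bot (h2 : (2 : F) = 0) : (rho a b hF φ hφ).ker = ⊥ := by
  rw [eq_bot_iff]
  intro g hg
  obtain ⟨r, hr, hA⟩ := ker_rho_scalar a b hF φ hφ g hg
  have h2' : (2 : E a b) = 0 := by
    ext <;> simp [h2]
  have h1 : (-1 : E a b) = 1 := by linear_combination -h2'
  have hr1 : r = 1 := by
    rcases hr with h | h
    · exact h
    · rw [h, h1]
  rw [Subgroup.mem_bot]
  apply Subtype.ext
  apply Subtype.ext
  rw [← hA, hr1]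
  simp


include hF in
theorem perfect_SU : commutator ↥(Cfsg.SU 4 (E a b) q) = ⊤ := by
  have hE := card_E a b hF
  obtain ⟨ψ, hψ, hψ2⟩ := Cfsg.Agent.Lib.H4.exists_frob hE
  have hψne := Cfsg.Agent.S0837.phi_ne_id ψ hE hψ
  exact perfect_of_equiv Cfsg.Agent.Lib.H11.USimple.suIso
    (Cfsg.Agent.Lib.H11.USimple.perfect (n := 4) ψ hE hψ hψ2 hψne (by norm_num) (by omega))

include hF in
theorem dichotomy_SU (N : Subgroup ↥(Cfsg.SU 4 (E a b) q)) [N.Normal] :
    N ≤ Subgroup.center ↥(Cfsg.SU 4 (E a b) q) ∨ N = ⊤ := by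
  have hE := card_E a b hF
  obtain ⟨ψ, hψ, hψ2⟩ := Cfsg.Agent.Lib.H4.exists_frob hE
  have hψne := Cfsg.Agent.S0837.phi_ne_id ψ hE hψ
  exact dichotomy_of_equiv Cfsg.Agent.Lib.H11.USimple.suIso
    (Cfsg.Agent.Lib.H11.USimple.dichotomy (n := 4) ψ hE hψ hψ2 hψne (by norm_num) (by omega)) N

include hF in
theorem rho_mem_Omega (A : Cfsg.SU 4 (E a b) q) :
    rho a b hF φ hφ A ∈ Cfsg.Omega F (Cfsg.quadFormMinus 2 F a b) := by
  have h1 := Abelianization.commutator_subset_ker ((Abelianization.of).comp (rho a b hF φ hφ))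
  rw [perfect_SU a b hF] at h1
  have h2 := h1 (Subgroup.mem_top A)
  have h3 : rho a b hF φ hφ A ∈ (Abelianization.of :
      ↥(Cfsg.isometryGroup F (Cfsg.quadFormMinus 2 F a b)) →* _).ker := h2
  rwa [Abelianization.ker_of] at h3

include hF in
theorem card_SU : Nat.card ↥(Cfsg.SU 4 (E a b) q) =
    q ^ 6 * ((q ^ 2 - 1) * (q ^ 3 + 1) * (q ^ 4 - 1)) := by
  have h1 := Cfsg.Agent.Lib.H2.Unitary.card_SU_mul (card_E a b hF) (n := 4) (by norm_num)
  have h2 : Cfsg.Agent.Lib.H2.Unitary.ordGU q 4 =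
      (q + 1) * (q ^ 6 * ((q ^ 2 - 1) * (q ^ 3 + 1) * (q ^ 4 - 1))) := by
    unfold Cfsg.Agent.Lib.H2.Unitary.ordGU
    simp [Finset.prod_range_succ, Nat.even_add_one]
    ring
  rw [h2] at h1
  exact Nat.eq_of_mul_eq_mul_left (by omega) h1


include hF in
theorem card_O_eq
    (hab : ∀ z₁ z₂ : F, z₁ ^ 2 + a * z₁ * z₂ + b * z₂ ^ 2 = 0 → z₁ = 0 ∧ z₂ = 0) :
    Nat.card ↥(Cfsg.isometryGroup F (Cfsg.quadFormMinus 2 F a b)) =
      2 * Nat.card ↥(Cfsg.SU 4 (E a b) q) := by
  have hO := Cfsg.Agent.S0288.result (F := F) hF 3 (by norm_num) a b hab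
  rw [card_SU a b hF]
  simp only [Finset.prod_range_succ, Finset.prod_range_zero] at hO
  simp at hO
  rw [hO]
  ring

include hF in
theorem card_Omega_le_range
    (hab : ∀ z₁ z₂ : F, z₁ ^ 2 + a * z₁ * z₂ + b * z₂ ^ 2 = 0 → z₁ = 0 ∧ z₂ = 0) :
    Nat.card ↥(Cfsg.Omega F (Cfsg.quadFormMinus 2 F a b)) ≤
      Nat.card ↥(rho a b hF φ hφ).range := by
  have hker := Subgroup.card_mul_index (rho a b hF φ hφ).ker
  rw [Subgroup.index_ker] at hker
  have hOS := card_O_eq a b hF hab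
  by_cases h2 : (2 : F) = 0
  · have hi := Cfsg.Agent.Lib.H29.OmegaBound.card_Omega_even (Cfsg.Agent.Lib.H13.minusQF F 2 a b)
      (Cfsg.Agent.S0288.nondeg a b hab 2) h2
    rw [Cfsg.Agent.S0288.coe_minusQF] at hi
    rw [ker_rho_eq_bot a b hF φ hφ h2, Subgroup.card_bot] at hker
    omega
  · have hi := Cfsg.Agent.Lib.H29.OmegaBound.card_Omega_odd (Cfsg.Agent.Lib.H13.minusQF F 2 a b)
      (Cfsg.Agent.S0288.nondeg a b hab 2) h2 (by simp)
    rw [Cfsg.Agent.S0288.coe_minusQF] at hi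
    have hk := card_ker_le_two a b hF φ hφ
    have : Nat.card ↥(Cfsg.SU 4 (E a b) q) ≤ 2 * Nat.card ↥(rho a b hF φ hφ).range := by
      rw [← hker]
      exact Nat.mul_le_mul_right _ hk
    omega

include hF in
theorem central_of_comm (A : Cfsg.SU 4 (E a b) q)
    (H : ∀ B, rho a b hF φ hφ (A * B) = rho a b hF φ hφ (B * A)) :
    A ∈ Subgroup.center ↥(Cfsg.SU 4 (E a b) q) := by
  let N : Subgroup ↥(Cfsg.SU 4 (E a b) q) :=
    (Subgroup.center ↥(rho a b hF φ hφ).range).comap (rho a b hF φ hφ).rangeRestrict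
  have hAN : A ∈ N := by
    rw [Subgroup.mem_comap, Subgroup.mem_center_iff]
    rintro ⟨_, B, rfl⟩
    apply Subtype.ext
    show rho a b hF φ hφ B * rho a b hF φ hφ A = rho a b hF φ hφ A * rho a b hF φ hφ B
    rw [← map_mul, ← map_mul, H]
  rcases dichotomy_SU a b hF N with h | h
  · exact h hAN
  · exfalso
    -- the range is abelian, so `rho` is trivial on the perfect group `SU`
    have hle : commutator ↥(Cfsg.SU 4 (E a b) q) ≤ (rho a b hF φ hφ).ker := by
      rw [commutator_def, Subgroup.commutator_le]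
      intro g₁ _ g₂ _
      rw [MonoidHom.mem_ker, map_commutatorElement, commutatorElement_eq_one_iff_mul_comm]
      have hg : g₂ ∈ N := h ▸ Subgroup.mem_top _
      rw [Subgroup.mem_comap, Subgroup.mem_center_iff] at hg
      have := hg ((rho a b hF φ hφ).rangeRestrict g₁)
      exact congrArg Subtype.val this
    rw [perfect_SU a b hF] at hle
    have h1 : Nat.card ↥(Cfsg.SU 4 (E a b) q) ≤ 2 := by
      have h2 : (rho a b hF φ hφ).ker = ⊤ := top_le_iff.1 hle
      have h3 := card_ker_le_two a b hF φ hφ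
      rw [h2, Subgroup.card_top] at h3
      exact h3
    rw [card_SU a b hF] at h1
    have hq2 : 2 ≤ q := by rw [← hF]; exact Fintype.one_lt_card
    have p1 : 64 ≤ q ^ 6 := by
      calc 64 = 2 ^ 6 := by norm_num
        _ ≤ q ^ 6 := Nat.pow_le_pow_left hq2 6
    have p2 : 3 ≤ q ^ 2 - 1 := by
      have : 4 ≤ q ^ 2 := by nlinarith
      omega
    have p3 : 1 ≤ q ^ 3 + 1 := by omega
    have p4 : 3 ≤ q ^ 4 - 1 := by
      have : 4 ≤ q ^ 4 := by nlinarith [Nat.pow_le_pow_left hq2 4]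
      omega
    have : 64 * (3 * 1 * 3) ≤ q ^ 6 * ((q ^ 2 - 1) * (q ^ 3 + 1) * (q ^ 4 - 1)) :=
      Nat.mul_le_mul p1 (Nat.mul_le_mul (Nat.mul_le_mul p2 p3) p4)
    omega

end group


section congr

variable {E K : Type*} [Field E] [Field K] (r : E ≃+* K) (n q : ℕ)

theorem hermForm_map (u v : Fin n → E) :
    Cfsg.hermForm n K q (fun i => r (u i)) (fun i => r (v i)) = r (Cfsg.hermForm n E q u v) := by
  unfold Cfsg.hermForm
  rw [map_sum]
  apply Finset.sum_congr rfl
  intro i _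
  rw [map_mul, map_pow]

theorem map_mem_SU (g : Matrix.SpecialLinearGroup (Fin n) E) (hg : g ∈ Cfsg.SU n E q) :
    Cfsg.Agent.Lib.H2.slMapEquiv r g ∈ Cfsg.SU n K q := by
  intro u v
  have key : ∀ w : Fin n → K,
      (Cfsg.slToMat n K (Cfsg.Agent.Lib.H2.slMapEquiv r g)) *ᵥ w =
        fun i => r ((g.1 *ᵥ fun j => r.symm (w j)) i) := by
    intro w
    funext i
    show ((g.1.map r.toRingHom) *ᵥ w) i = _
    simp only [Matrix.mulVec, dotProduct, map_sum, map_mul, Matrix.map_apply]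
    apply Finset.sum_congr rfl
    intro j _
    simp
  rw [key u, key v, hermForm_map]
  have h1 := hg (fun j => r.symm (u j)) (fun j => r.symm (v j))
  change Cfsg.hermForm n E q (g.1 *ᵥ _) (g.1 *ᵥ _) = _ at h1
  rw [h1, ← hermForm_map]
  simp

/-- a ring isomorphism induces an isomorphism of special unitary groups -/
def suCongr : ↥(Cfsg.SU n E q) ≃* ↥(Cfsg.SU n K q) where
  toFun g := ⟨Cfsg.Agent.Lib.H2.slMapEquiv r g.1, map_mem_SU r n q g.1 g.2⟩
  invFun g := ⟨Cfsg.Agent.Lib.H2.slMapEquiv r.symm g.1, map_mem_SU r.symm n q g.1 g.2⟩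
  left_inv g := by
    apply Subtype.ext
    exact (Cfsg.Agent.Lib.H2.slMapEquiv r).left_inv g.1
  right_inv g := by
    apply Subtype.ext
    exact (Cfsg.Agent.Lib.H2.slMapEquiv r).right_inv g.1
  map_mul' g h := by
    apply Subtype.ext
    exact map_mul (Cfsg.Agent.Lib.H2.slMapEquiv r) g.1 h.1

end congr

/-- PΩ^-_6(q) is isomorphic to PSU_4(q). -/
theorem result {F K : Type*} [Field F] [Fintype F] [Field K] [Fintype K] {q : ℕ} (hF : Fintype.card F = q) (hK : Fintype.card K = q ^ 2) (a b : F) (hab : ∀ z₁ z₂ : F, z₁ ^ 2 + a * z₁ * z₂ + b * z₂ ^ 2 = 0 → z₁ = 0 ∧ z₂ = 0) : Nonempty (Cfsg.POmega F (Cfsg.quadFormMinus 2 F a b) ≃* Cfsg.PSU 4 K q) := by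
  have := fact_of_aniso a b hab
  have hE : Fintype.card (E a b) = Fintype.card F ^ 2 := card_E a b rfl
  obtain ⟨bb, hbb⟩ := Cfsg.Agent.Lib.H13.exists_plus_basis_hermQF (F := F) (K := E a b) hE 2
    (by decide)
  let φ : (Fin 2 → E a b) ≃ₗ[F] (Fin 2 ⊕ Fin 2 → F) := bb.equivFun
  have hφ : ∀ v : Fin 2 → E a b,
      (QuadraticAlgebra.C (Cfsg.quadFormPlus 2 F (φ v)) : E a b) =
        v 0 * star (v 0) + v 1 * star (v 1) := by
    intro v
    rw [← hbb v, QuadraticAlgebra.C_eq_algebraMap, Cfsg.Agent.Lib.H13.algebraMap_hermQF]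
    unfold Cfsg.hermForm
    rw [Fin.sum_univ_two, star_eq_pow a b rfl, star_eq_pow a b rfl]
  obtain ⟨e⟩ := Cfsg.Agent.Lib.H29.ExcIso.excIso (rho a b hF φ hφ) (rho_mem_Omega a b hF φ hφ)
    (card_Omega_le_range a b hF φ hφ hab) (central_of_comm a b hF φ hφ)
  have hc : Fintype.card (E a b) = Fintype.card K := by
    rw [card_E a b hF, hK]
  let r : E a b ≃+* K := FiniteField.ringEquivOfCardEq hc
  obtain ⟨e'⟩ := Cfsg.Agent.Lib.H29.ExcIso.quot_center_congr (suCongr r 4 q)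
  exact ⟨e.trans e'⟩

end Cfsg.Agent.S0303
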