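import Cfsg.Statements.S0299
import Cfsg.Agent.Lib.H29.ExcIso
import Cfsg.Agent.S0242
import Cfsg.Agent.S0287
import Cfsg.Agent.Lib.H11.OmegaGen
import Cfsg.Agent.Lib.H13.Char2Omega
import Cfsg.Agent.Lib.H13.StdForm

set_option autoImplicit false
open Cfsg

namespace Cfsg.Agent.S0299

open Matrix

abbrev κ : Type := Fin 2 ⊕ Fin 2

section ring

variable {R : Type*} [CommRing R]

/-- left multiplication `M ↦ g M` on `M = [[x₁, x₂], [-y₂, y₁]]` in coordinates `(x₁,x₂,y₁,y₂)` -/
def Lm (g : Matrix (Fin 2) (Fin 2) R) : Matrix κ κ R :=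
  Matrix.of fun k l =>
    match k, l with
    | .inl 0, .inl 0 => g 0 0
    | .inl 0, .inr 1 => - g 0 1
    | .inl 1, .inl 1 => g 0 0
    | .inl 1, .inr 0 => g 0 1
    | .inr 1, .inl 0 => - g 1 0
    | .inr 1, .inr 1 => g 1 1
    | .inr 0, .inl 1 => g 1 0
    | .inr 0, .inr 0 => g 1 1
    | _, _ => 0

/-- right multiplication `M ↦ M adj(h)` -/
def Rm (h : Matrix (Fin 2) (Fin 2) R) : Matrix κ κ R :=
  Matrix.of fun k l =>
    match k, l with
    | .inl 0, .inl 0 => h 1 1
    | .inl 0, .inl 1 => - h 1 0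
    | .inl 1, .inl 0 => - h 0 1
    | .inl 1, .inl 1 => h 0 0
    | .inr 1, .inr 1 => h 1 1
    | .inr 1, .inr 0 => h 1 0
    | .inr 0, .inr 1 => h 0 1
    | .inr 0, .inr 0 => h 0 0
    | _, _ => 0

theorem Lm_mul (g h : Matrix (Fin 2) (Fin 2) R) : Lm (g * h) = Lm g * Lm h := by
  ext k l
  rcases k with k | k <;> rcases l with l | l <;> fin_cases k <;> fin_cases l <;>
    simp [Lm, Matrix.mul_apply, Fin.sum_univ_two, Fintype.sum_sum_type] <;> ring

theorem Rm_mul (g h : Matrix (Fin 2) (Fin 2) R) : Rm (g * h) = Rm g * Rm h := by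
  ext k l
  rcases k with k | k <;> rcases l with l | l <;> fin_cases k <;> fin_cases l <;>
    simp [Rm, Matrix.mul_apply, Fin.sum_univ_two, Fintype.sum_sum_type] <;> ring

theorem Lm_one : Lm (1 : Matrix (Fin 2) (Fin 2) R) = 1 := by
  ext k l
  rcases k with k | k <;> rcases l with l | l <;> fin_cases k <;> fin_cases l <;>
    simp [Lm]

theorem Rm_one : Rm (1 : Matrix (Fin 2) (Fin 2) R) = 1 := by
  ext k l
  rcases k with k | k <;> rcases l with l | l <;> fin_cases k <;> fin_cases l <;>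
    simp [Rm]

theorem Lm_Rm_comm (g h : Matrix (Fin 2) (Fin 2) R) : Lm g * Rm h = Rm h * Lm g := by
  ext k l
  rcases k with k | k <;> rcases l with l | l <;> fin_cases k <;> fin_cases l <;>
    simp [Lm, Rm, Matrix.mul_apply, Fin.sum_univ_two, Fintype.sum_sum_type] <;> ring

/-- the form `x₁ y₁ + x₂ y₂` -/
def Qp (v : κ → R) : R := ∑ i : Fin 2, v (.inl i) * v (.inr i)

theorem Lm_Q (g : Matrix (Fin 2) (Fin 2) R) (v : κ → R) :
    Qp (Lm g *ᵥ v) = g.det * Qp v := by
  rw [Matrix.det_fin_two]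
  simp [Qp, Lm, Matrix.mulVec, dotProduct, Fintype.sum_sum_type, Fin.sum_univ_two]
  ring

theorem Rm_Q (g : Matrix (Fin 2) (Fin 2) R) (v : κ → R) :
    Qp (Rm g *ᵥ v) = g.det * Qp v := by
  rw [Matrix.det_fin_two]
  simp [Qp, Rm, Matrix.mulVec, dotProduct, Fintype.sum_sum_type, Fin.sum_univ_two]
  ring

end ring

section field

variable {F : Type*} [Field F]

def LHom : Matrix.SpecialLinearGroup (Fin 2) F →* Matrix κ κ F where
  toFun g := Lm g.1
  map_one' := Lm_one
  map_mul' g h := by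
    rw [Matrix.SpecialLinearGroup.coe_mul]
    exact Lm_mul _ _

def RHom : Matrix.SpecialLinearGroup (Fin 2) F →* Matrix κ κ F where
  toFun g := Rm g.1
  map_one' := Rm_one
  map_mul' g h := by
    rw [Matrix.SpecialLinearGroup.coe_mul]
    exact Rm_mul _ _

def rhoL : Matrix.SpecialLinearGroup (Fin 2) F →* ↥(Cfsg.isometryGroup F (Cfsg.quadFormPlus 2 F)) :=
  (LHom (F := F)).toHomUnits.codRestrict _ (by
    intro g u _
    show Cfsg.quadFormPlus 2 F (Lm g.1 *ᵥ u) = Cfsg.quadFormPlus 2 F u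
    have := Lm_Q g.1 u
    rw [g.2, one_mul] at this
    exact this)

def rhoR : Matrix.SpecialLinearGroup (Fin 2) F →* ↥(Cfsg.isometryGroup F (Cfsg.quadFormPlus 2 F)) :=
  (RHom (F := F)).toHomUnits.codRestrict _ (by
    intro g u _
    show Cfsg.quadFormPlus 2 F (Rm g.1 *ᵥ u) = Cfsg.quadFormPlus 2 F u
    have := Rm_Q g.1 u
    rw [g.2, one_mul] at this
    exact this)

theorem rhoL_coe (g : Matrix.SpecialLinearGroup (Fin 2) F) :
    (((rhoL g : ↥(Cfsg.isometryGroup F (Cfsg.quadFormPlus 2 F))) : GL κ F) : Matrix κ κ F)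
      = Lm g.1 := rfl

theorem rhoR_coe (g : Matrix.SpecialLinearGroup (Fin 2) F) :
    (((rhoR g : ↥(Cfsg.isometryGroup F (Cfsg.quadFormPlus 2 F))) : GL κ F) : Matrix κ κ F)
      = Rm g.1 := rfl

theorem rho_comm (g h : Matrix.SpecialLinearGroup (Fin 2) F) :
    Commute (rhoL g) (rhoR h) := by
  apply Subtype.ext
  apply Units.ext
  show Lm g.1 * Rm h.1 = Rm h.1 * Lm g.1
  exact Lm_Rm_comm _ _

/-- `SL₂(F) × SL₂(F) → O⁺₄(F)` -/
def rho : Matrix.SpecialLinearGroup (Fin 2) F × Matrix.SpecialLinearGroup (Fin 2) F →*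
    ↥(Cfsg.isometryGroup F (Cfsg.quadFormPlus 2 F)) :=
  MonoidHom.noncommCoprod rhoL rhoR rho_comm

theorem rho_coe (x : Matrix.SpecialLinearGroup (Fin 2) F × Matrix.SpecialLinearGroup (Fin 2) F) :
    (((rho x : ↥(Cfsg.isometryGroup F (Cfsg.quadFormPlus 2 F))) : GL κ F) : Matrix κ κ F)
      = Lm x.1.1 * Rm x.2.1 := rfl

theorem ker_rho_scalar
    (x : Matrix.SpecialLinearGroup (Fin 2) F × Matrix.SpecialLinearGroup (Fin 2) F)
    (hx : x ∈ (rho (F := F)).ker) :
    ∃ r : F, (r = 1 ∨ r = -1) ∧ Matrix.scalar (Fin 2) r = x.1.1 ∧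
      Matrix.scalar (Fin 2) r = x.2.1 := by
  obtain ⟨g, h⟩ := x
  have h2 : Lm g.1 * Rm h.1 = 1 := by
    rw [← rho_coe (g, h), MonoidHom.mem_ker.1 hx]; rfl
  have hdet : h.1 0 0 * h.1 1 1 - h.1 0 1 * h.1 1 0 = 1 := by
    rw [← Matrix.det_fin_two]; exact h.2
  have k1 := congrFun (congrFun h2 (.inl 0)) (.inl 0)
  have k2 := congrFun (congrFun h2 (.inl 1)) (.inl 0)
  have k3 := congrFun (congrFun h2 (.inr 1)) (.inl 0)
  have k4 := congrFun (congrFun h2 (.inr 0)) (.inr 0)
  have k5 := congrFun (congrFun h2 (.inl 1)) (.inr 0)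
  have k6 := congrFun (congrFun h2 (.inr 1)) (.inr 0)
  have k7 := congrFun (congrFun h2 (.inl 1)) (.inl 1)
  simp [Lm, Rm, Matrix.mul_apply, Fin.sum_univ_two, Fintype.sum_sum_type] at k1 k2 k3 k4 k5 k6 k7
  have ha : g.1 0 0 ≠ 0 := by intro h0; rw [h0] at k1; simp at k1
  have ht : h.1 1 1 ≠ 0 := by intro h0; rw [h0] at k1; simp at k1
  have hd : g.1 1 1 ≠ 0 := by intro h0; rw [h0] at k4; simp at k4
  have hp : h.1 0 0 ≠ 0 := by intro h0; rw [h0] at k4; simp at k4
  have r0 : h.1 0 1 = 0 := k2.resolve_left ha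
  have c0 : g.1 1 0 = 0 := k3.resolve_right ht
  have b0 : g.1 0 1 = 0 := k5.resolve_right hp
  have s0 : h.1 1 0 = 0 := k6.resolve_left hd
  have hpt : h.1 1 1 = h.1 0 0 := by
    have : g.1 0 0 * (h.1 1 1 - h.1 0 0) = 0 := by linear_combination k1 - k7
    exact sub_eq_zero.1 ((mul_eq_zero.1 this).resolve_left ha)
  rw [r0, hpt] at hdet
  have hpp : h.1 0 0 * h.1 0 0 = 1 := by linear_combination hdet
  have hap : g.1 0 0 = h.1 0 0 := by linear_combination h.1 0 0 * k7 - g.1 0 0 * hpp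
  have hdp : g.1 1 1 = h.1 0 0 := by linear_combination h.1 0 0 * k4 - g.1 1 1 * hpp
  refine ⟨h.1 0 0, ?_, ?_, ?_⟩
  · have h4 : (h.1 0 0 - 1) * (h.1 0 0 + 1) = 0 := by linear_combination hpp
    rcases mul_eq_zero.1 h4 with h | h
    · left; exact sub_eq_zero.1 h
    · right; exact eq_neg_of_add_eq_zero_left h
  · ext i j
    fin_cases i <;> fin_cases j <;> simp [b0, c0, hap, hdp]
  · ext i j
    fin_cases i <;> fin_cases j <;> simp [r0, s0, hpt]

theorem card_ker_le_two [Finite F] : Nat.card (rho (F := F)).ker ≤ 2 := by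
  classical
  let f : (rho (F := F)).ker → ↥({1, -1} : Finset F) := fun g =>
    ⟨g.1.1.1 0 0, by
      obtain ⟨r, hr, hA, _⟩ := ker_rho_scalar g.1 g.2
      rw [← hA]
      simp only [Matrix.scalar_apply, Matrix.diagonal_apply_eq, Finset.mem_insert,
        Finset.mem_singleton]
      exact hr⟩
  have hf : Function.Injective f := by
    intro g h hgh
    have h0 : g.1.1.1 0 0 = h.1.1.1 0 0 := congrArg Subtype.val hgh
    obtain ⟨r, hr, hA, hB⟩ := ker_rho_scalar g.1 g.2
    obtain ⟨r', hr', hA', hB'⟩ := ker_rho_scalar h.1 h.2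
    rw [← hA, ← hA'] at h0
    simp only [Matrix.scalar_apply, Matrix.diagonal_apply_eq] at h0
    apply Subtype.ext
    apply Prod.ext
    · apply Subtype.ext
      rw [← hA, ← hA', h0]
    · apply Subtype.ext
      rw [← hB, ← hB', h0]
  calc Nat.card (rho (F := F)).ker ≤ Nat.card ↥({1, -1} : Finset F) :=
        Nat.card_le_card_of_injective f hf
    _ = ({1, -1} : Finset F).card := by
        rw [Nat.card_eq_fintype_card, Fintype.card_coe]
    _ ≤ 2 := Finset.card_le_two

theorem ker_rho_eq_bot (h2 : (2 : F) = 0) : (rho (F := F)).ker = ⊥ := by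
  rw [eq_bot_iff]
  intro g hg
  obtain ⟨r, hr, hA, hB⟩ := ker_rho_scalar g hg
  have h1 : (-1 : F) = 1 := by linear_combination -h2
  have hr1 : r = 1 := by
    rcases hr with h | h
    · exact h
    · rw [h, h1]
  rw [Subgroup.mem_bot]
  apply Prod.ext
  · apply Subtype.ext
    rw [← hA, hr1]
    simp
  · apply Subtype.ext
    rw [← hB, hr1]
    simp

theorem central_of_comm
    (x : Matrix.SpecialLinearGroup (Fin 2) F × Matrix.SpecialLinearGroup (Fin 2) F)
    (H : ∀ y, rho (x * y) = rho (y * x)) :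
    x ∈ Subgroup.center
      (Matrix.SpecialLinearGroup (Fin 2) F × Matrix.SpecialLinearGroup (Fin 2) F) := by
  have hk : ∀ y, x * y * (y * x)⁻¹ ∈ (rho (F := F)).ker := by
    intro y
    rw [MonoidHom.mem_ker, map_mul, map_inv, H, mul_inv_cancel]
  rw [Subgroup.center_prod, Subgroup.mem_prod]
  constructor
  · rw [Subgroup.mem_center_iff]
    intro g'
    obtain ⟨r, hr, hA, hB⟩ := ker_rho_scalar _ (hk (g', 1))
    have hr1 : r = 1 := by
      have := congrFun (congrFun hB 0) 0
      simpa using this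
    rw [hr1] at hA
    have e1 : x.1 * g' * (g' * x.1)⁻¹ = 1 := by
      apply Subtype.ext
      rw [Matrix.SpecialLinearGroup.coe_one]
      rw [← map_one (Matrix.scalar (Fin 2)), hA]
      rfl
    exact (mul_inv_eq_one.1 e1).symm
  · rw [Subgroup.mem_center_iff]
    intro g'
    obtain ⟨r, hr, hA, hB⟩ := ker_rho_scalar _ (hk (1, g'))
    have hr1 : r = 1 := by
      have := congrFun (congrFun hA 0) 0
      simpa using this
    rw [hr1] at hB
    have e1 : x.2 * g' * (g' * x.2)⁻¹ = 1 := by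
      apply Subtype.ext
      rw [Matrix.SpecialLinearGroup.coe_one]
      rw [← map_one (Matrix.scalar (Fin 2)), hB]
      rfl
    exact (mul_inv_eq_one.1 e1).symm

end field

section cards

variable {F : Type*} [Field F] [Fintype F]

theorem coe_plusQF : ⇑(Cfsg.Agent.Lib.H13.plusQF F 2) = Cfsg.quadFormPlus 2 F :=
  funext (Cfsg.Agent.Lib.H13.plusQF_apply F 2)

theorem exists_ne (hF : 3 ≤ Fintype.card F) : ∃ a : F, a ≠ 0 ∧ a ≠ 1 := by
  classical
  by_contra hcon
  push Not at hcon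
  have : Fintype.card F ≤ 2 := by
    calc Fintype.card F = (Finset.univ : Finset F).card := rfl
      _ ≤ ({0, 1} : Finset F).card := Finset.card_le_card (by
          intro a _
          simp only [Finset.mem_insert, Finset.mem_singleton]
          by_cases h : a = 0
          · left; exact h
          · right; exact hcon a h)
      _ ≤ 2 := Finset.card_le_two
  omega

theorem hom_trivial (hF : 3 ≤ Fintype.card F)
    (φ : Matrix.SpecialLinearGroup (Fin 2) F →*
      Abelianization ↥(Cfsg.isometryGroup F (Cfsg.quadFormPlus 2 F)))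
    (g : Matrix.SpecialLinearGroup (Fin 2) F) : φ g = 1 := by
  by_cases h2 : (2 : F) = 0
  · obtain ⟨a, ha0, ha1⟩ := exists_ne hF
    have hasq : a ^ 2 ≠ 1 := by
      intro h
      apply ha1
      have h1 : (-1 : F) = 1 := by linear_combination -h2
      have : (a - 1) * (a - 1) = 0 := by linear_combination h - (a - 1) * h2
      rcases mul_eq_zero.1 this with h | h <;> exact sub_eq_zero.1 h
    have hperf := Matrix.SL2.commutator_eq_top ha0 hasq
    have h1 := Abelianization.commutator_subset_ker φ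
    rw [hperf] at h1
    exact h1 (Subgroup.mem_top g)
  · haveI : Finite (Abelianization ↥(Cfsg.isometryGroup F (Cfsg.quadFormPlus 2 F))) :=
      inferInstanceAs (Finite (↥(Cfsg.isometryGroup F (Cfsg.quadFormPlus 2 F)) ⧸ _))
    have hi := Cfsg.Agent.Lib.H11.OmegaGen.index_omega (Cfsg.Agent.Lib.H13.plusQF F 2)
      (Cfsg.Agent.S0287.nondeg 2) h2 (by simp)
    rw [coe_plusQF] at hi
    have hc : Nat.card (Abelianization ↥(Cfsg.isometryGroup F (Cfsg.quadFormPlus 2 F))) = 4 := by
      rw [← hi]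
      exact (Subgroup.index_eq_card _).symm
    have hodd : Odd (Fintype.card F) := by
      by_contra hne
      rw [Nat.not_odd_iff_even] at hne
      apply h2
      obtain ⟨p, hchar⟩ := CharP.exists F
      haveI := hchar
      obtain ⟨n, hpp, hn⟩ := FiniteField.card F p
      have hp2 : p = 2 := by
        have : 2 ∣ p ^ (n : ℕ) := by rw [← hn]; exact even_iff_two_dvd.1 hne
        exact ((Nat.prime_dvd_prime_iff_eq Nat.prime_two hpp).1
          (Nat.Prime.dvd_of_dvd_pow Nat.prime_two this)).symm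
      subst hp2
      exact_mod_cast CharP.cast_eq_zero F 2
    exact Cfsg.Agent.Lib.H29.ExcIso.SL_hom_trivial φ (by
      rw [hc]
      have : Nat.Coprime 2 (Fintype.card F) := (Nat.coprime_two_left).2 hodd
      exact Nat.Coprime.pow_left 2 this) g

theorem rho_mem_Omega (hF : 3 ≤ Fintype.card F)
    (x : Matrix.SpecialLinearGroup (Fin 2) F × Matrix.SpecialLinearGroup (Fin 2) F) :
    rho x ∈ Cfsg.Omega F (Cfsg.quadFormPlus 2 F) := by
  have h1 := hom_trivial hF ((Abelianization.of).comp ((rho (F := F)).comp (MonoidHom.inl _ _))) x.1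
  have h2 := hom_trivial hF ((Abelianization.of).comp ((rho (F := F)).comp (MonoidHom.inr _ _))) x.2
  have hx : x = (MonoidHom.inl _ _ x.1) * (MonoidHom.inr _ _ x.2) := by
    apply Prod.ext <;> simp
  have h3 : rho x ∈ (Abelianization.of :
      ↥(Cfsg.isometryGroup F (Cfsg.quadFormPlus 2 F)) →* _).ker := by
    rw [MonoidHom.mem_ker]
    rw [hx, map_mul, map_mul]
    simp only [MonoidHom.comp_apply] at h1 h2
    rw [h1, h2, one_mul]
  rwa [Abelianization.ker_of] at h3

theorem card_Omega_le_range (hF : 3 ≤ Fintype.card F) :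
    Nat.card ↥(Cfsg.Omega F (Cfsg.quadFormPlus 2 F)) ≤ Nat.card ↥(rho (F := F)).range := by
  have hidx := Subgroup.card_mul_index (Cfsg.Omega F (Cfsg.quadFormPlus 2 F))
  have hker := Subgroup.card_mul_index (rho (F := F)).ker
  rw [Subgroup.index_ker, Nat.card_prod] at hker
  set q := Fintype.card F with hq
  have h1 := Cfsg.Agent.S0242.result (F := F) rfl 2 (by norm_num)
  have hO := Cfsg.Agent.S0287.result (F := F) rfl 2 (by norm_num)
  rw [← hq] at h1 hO
  simp only [Fin.prod_univ_two, Finset.prod_range_succ, Finset.prod_range_zero] at h1 hO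
  simp at h1 hO
  have p1 : 1 ≤ q := by omega
  have l1 : q ≤ q ^ 2 := by nlinarith
  have e1 : q ^ 2 - q = q * (q - 1) := by zify [l1, p1]; ring
  rw [e1] at h1
  have hA : 0 < q - 1 := by omega
  have h3 : (q - 1) * Nat.card (Matrix.SpecialLinearGroup (Fin 2) F) =
      (q - 1) * (q * (q ^ 2 - 1)) := by
    rw [h1]; ring
  have h4 := Nat.eq_of_mul_eq_mul_left hA h3
  have hOS : Nat.card ↥(Cfsg.isometryGroup F (Cfsg.quadFormPlus 2 F)) =
      2 * (Nat.card (Matrix.SpecialLinearGroup (Fin 2) F) *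
        Nat.card (Matrix.SpecialLinearGroup (Fin 2) F)) := by
    rw [hO, h4]; ring
  rw [hOS] at hidx
  by_cases h2 : (2 : F) = 0
  · haveI : CharP F 2 := CharTwo.of_one_ne_zero_of_two_eq_zero one_ne_zero h2
    have hi := Cfsg.Agent.Lib.H13.Char2Omega.index_Omega (Cfsg.Agent.Lib.H13.plusQF F 2)
      (Cfsg.Agent.S0287.nondeg 2) (Or.inl (by
        rw [Nat.card_eq_fintype_card]; omega))
    rw [coe_plusQF] at hi
    rw [hi] at hidx
    rw [ker_rho_eq_bot h2, Subgroup.card_bot] at hker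
    omega
  · have hi := Cfsg.Agent.Lib.H11.OmegaGen.index_omega (Cfsg.Agent.Lib.H13.plusQF F 2)
      (Cfsg.Agent.S0287.nondeg 2) h2 (by simp)
    rw [coe_plusQF] at hi
    rw [hi] at hidx
    have hk := card_ker_le_two (F := F)
    have : Nat.card (Matrix.SpecialLinearGroup (Fin 2) F) *
        Nat.card (Matrix.SpecialLinearGroup (Fin 2) F) ≤ 2 * Nat.card ↥(rho (F := F)).range := by
      rw [← hker]
      exact Nat.mul_le_mul_right _ hk
    omega

end cards

theorem prod_center_equiv {G H : Type*} [Group G] [Group H] :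
    Nonempty ((G × H) ⧸ Subgroup.center (G × H) ≃*
      (G ⧸ Subgroup.center G) × (H ⧸ Subgroup.center H)) := by
  let φ : G × H →* (G ⧸ Subgroup.center G) × (H ⧸ Subgroup.center H) :=
    MonoidHom.prodMap (QuotientGroup.mk' _) (QuotientGroup.mk' _)
  have hφ : Function.Surjective φ :=
    Function.Surjective.prodMap (QuotientGroup.mk'_surjective _) (QuotientGroup.mk'_surjective _)
  have hker : φ.ker = Subgroup.center (G × H) := by
    ext ⟨g, h⟩
    rw [Subgroup.center_prod, Subgroup.mem_prod, MonoidHom.mem_ker]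
    simp [φ, Prod.ext_iff]
  exact ⟨(QuotientGroup.quotientMulEquivOfEq hker.symm).trans
    (QuotientGroup.quotientKerEquivOfSurjective φ hφ)⟩

/-- PΩ^+_4(q) is isomorphic to PSL_2(q) x PSL_2(q) for q at least 3. -/
theorem result {F : Type*} [Field F] [Fintype F] (hF : 3 ≤ Fintype.card F) : Nonempty (Cfsg.POmega F (Cfsg.quadFormPlus 2 F) ≃* Matrix.ProjectiveSpecialLinearGroup (Fin 2) F × Matrix.ProjectiveSpecialLinearGroup (Fin 2) F) := by
  obtain ⟨e⟩ := Cfsg.Agent.Lib.H29.ExcIso.excIso (rho (F := F)) (rho_mem_Omega hF)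
    (card_Omega_le_range hF) central_of_comm
  obtain ⟨e'⟩ := prod_center_equiv (G := Matrix.SpecialLinearGroup (Fin 2) F)
    (H := Matrix.SpecialLinearGroup (Fin 2) F)
  exact ⟨e.trans e'⟩

end Cfsg.Agent.S0299
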