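import Cfsg.Statements.S3780
import Mathlib
import Cfsg.Agent.Lib.H1.PGroupBasic

set_option autoImplicit false
open Cfsg

namespace Cfsg.Agent.S3780

open Polynomial

theorem lin_sub_one_pow {M : Type*} [AddCommGroup M] {p : ℕ} [Fact p.Prime] [Module (ZMod p) M]
    (b : Module.End (ZMod p) M) (hb : b ^ p = 1) : (b - 1) ^ p = 0 := by
  have key1 : ((X : (ZMod p)[X]) - 1) ^ p = X ^ p - 1 := by
    rw [sub_pow_char, one_pow]
  have h1 := congrArg (Polynomial.aeval b) key1
  simp only [map_pow, map_sub, aeval_X, map_one] at h1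
  rw [h1, hb, sub_self]

theorem lin_sub_one_iter {M : Type*} [AddCommGroup M] {p : ℕ} [Fact p.Prime] [Module (ZMod p) M]
    (b : M →+ M) (hb : ∀ m, b^[p] m = m) : ∀ m, (fun x => b x - x)^[p] m = 0 := by
  have hbi : ∀ (i : ℕ) (m : M), ((b.toZModLinearMap p : Module.End (ZMod p) M) ^ i) m = b^[i] m := by
    intro i
    induction i with
    | zero => intro m; rfl
    | succ i ih =>
      intro m
      rw [pow_succ, Module.End.mul_apply, ih, Function.iterate_succ_apply]
      rfl
  have hbp : (b.toZModLinearMap p : Module.End (ZMod p) M) ^ p = 1 := by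
    apply LinearMap.ext
    intro m
    rw [hbi, hb]; rfl
  have key2 := lin_sub_one_pow _ hbp
  have hdi : ∀ (i : ℕ) (m : M),
      (((b.toZModLinearMap p : Module.End (ZMod p) M) - 1) ^ i) m = (fun x => b x - x)^[i] m := by
    intro i
    induction i with
    | zero => intro m; rfl
    | succ i ih =>
      intro m
      rw [pow_succ, Module.End.mul_apply, ih, Function.iterate_succ_apply]
      rfl
  intro m
  rw [← hdi, key2]
  rfl

theorem add_sub_one_pow {M : Type*} [AddCommGroup M] {p : ℕ} [Fact p.Prime] (hM : ∀ x : M, p • x = 0)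
    (b : M →+ M) (hb : ∀ m, b^[p] m = m) : ∀ m, (fun x => b x - x)^[p] m = 0 :=
  @lin_sub_one_iter M _ p _ (AddCommGroup.zmodModule hM) b hb

theorem iterate_div_eq_one {W : Type*} [CommGroup W] {p : ℕ} [Fact p.Prime]
    (hW : ∀ w : W, w ^ p = 1) (β : W →* W) (hβ : ∀ w, β^[p] w = w) :
    ∀ w, (fun x => β x * x⁻¹)^[p] w = 1 := by
  have hM : ∀ x : Additive W, p • x = 0 := by
    intro x
    show Additive.ofMul (x.toMul ^ p) = 0
    rw [hW]; rfl
  have h := add_sub_one_pow hM (MonoidHom.toAdditive β) (fun m => hβ m.toMul)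
  intro w
  have h2 := h (Additive.ofMul w)
  have h3 : ∀ (i : ℕ) (m : Additive W),
      (fun x : Additive W => (MonoidHom.toAdditive β) x - x)^[i] m
        = Additive.ofMul ((fun x => β x * x⁻¹)^[i] m.toMul) := by
    intro i
    induction i with
    | zero => intro m; rfl
    | succ i ih =>
      intro m
      rw [Function.iterate_succ_apply, ih, Function.iterate_succ_apply]
      congr 1
      rw [toMul_sub, div_eq_mul_inv]
      rfl
  rw [h3] at h2
  exact congrArg Additive.toMul h2

theorem card_eq_ker_mul_range {A B : Type*} [Group A] [Group B] [Finite A] (f : A →* B) :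
    Nat.card A = Nat.card f.ker * Nat.card f.range := by
  rw [← Subgroup.index_ker, Subgroup.card_mul_index]

theorem card_ker_comp_le {W : Type*} [Group W] [Finite W] (f g : W →* W) :
    Nat.card (f.comp g).ker ≤ Nat.card g.ker * Nat.card f.ker := by
  let g' : (f.comp g).ker →* f.ker := (g.comp (f.comp g).ker.subtype).codRestrict f.ker (fun k => by
    rw [MonoidHom.mem_ker]
    exact k.2)
  have h1 := card_eq_ker_mul_range g'
  have h2 : Nat.card g'.ker ≤ Nat.card g.ker := by
    apply Nat.card_le_card_of_injective (fun k : g'.ker => (⟨k.1.1, by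
      have := k.2
      rw [MonoidHom.mem_ker] at this ⊢
      exact congrArg (Subtype.val : f.ker → W) this⟩ : g.ker))
    intro a b hab
    have := congrArg Subtype.val hab
    exact Subtype.ext (Subtype.ext this)
  have h3 : Nat.card g'.range ≤ Nat.card f.ker := Subgroup.card_le_card_group _
  rw [h1]
  exact Nat.mul_le_mul h2 h3

/-- iterates of an endomorphism, as homomorphisms -/
def iterHom {W : Type*} [Group W] (δ : W →* W) : ℕ → (W →* W)
  | 0 => MonoidHom.id W
  | (i + 1) => (iterHom δ i).comp δ

theorem iterHom_apply {W : Type*} [Group W] (δ : W →* W) (i : ℕ) (w : W) :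
    iterHom δ i w = δ^[i] w := by
  induction i generalizing w with
  | zero => rfl
  | succ i ih =>
    show iterHom δ i (δ w) = _
    rw [ih, Function.iterate_succ_apply]

theorem card_ker_iterHom_le {W : Type*} [Group W] [Finite W] (δ : W →* W) (i : ℕ) :
    Nat.card (iterHom δ i).ker ≤ Nat.card δ.ker ^ i := by
  induction i with
  | zero =>
    have : (iterHom δ 0).ker = ⊥ := by
      rw [eq_bot_iff]
      intro w hw
      rw [MonoidHom.mem_ker] at hw
      exact hw
    rw [this, Subgroup.card_bot, pow_zero]
  | succ i ih =>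
    have h1 := card_ker_comp_le (iterHom δ i) δ
    calc Nat.card (iterHom δ (i + 1)).ker ≤ Nat.card δ.ker * Nat.card (iterHom δ i).ker := h1
      _ ≤ Nat.card δ.ker * Nat.card δ.ker ^ i := Nat.mul_le_mul_left _ ih
      _ = Nat.card δ.ker ^ (i + 1) := by rw [pow_succ, mul_comm]

/-- greedy generation modulo a subgroup in a finite `p`-group -/
theorem exists_gen {V : Type*} [Group V] [Finite V] {p : ℕ} [Fact p.Prime] (hV : IsPGroup p V)
    (F : Subgroup V) (d : ℕ) (hd : Nat.card V ≤ p ^ d * Nat.card F) :
    ∃ S : Finset V, S.card ≤ d ∧ Subgroup.closure (S : Set V) ⊔ F = ⊤ := by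
  classical
  have key : ∀ k : ℕ, ∃ S : Finset V, S.card ≤ k ∧ (Subgroup.closure (S : Set V) ⊔ F = ⊤ ∨
      p ^ k * Nat.card F ≤ Nat.card (Subgroup.closure (S : Set V) ⊔ F : Subgroup V)) := by
    intro k
    induction k with
    | zero =>
      refine ⟨∅, le_rfl, Or.inr ?_⟩
      simp
    | succ k ih =>
      obtain ⟨S, hS, h⟩ := ih
      rcases h with h | h
      · exact ⟨S, hS.trans (Nat.le_succ k), Or.inl h⟩
      · by_cases htop : Subgroup.closure (S : Set V) ⊔ F = ⊤
        · exact ⟨S, hS.trans (Nat.le_succ k), Or.inl htop⟩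
        · obtain ⟨x, hx⟩ : ∃ x, x ∉ Subgroup.closure (S : Set V) ⊔ F := by
            by_contra hno
            apply htop
            rw [eq_top_iff]
            intro y _
            by_contra hy
            exact hno ⟨y, hy⟩
          refine ⟨insert x S, (Finset.card_insert_le x S).trans (Nat.succ_le_succ hS), Or.inr ?_⟩
          set T := Subgroup.closure (S : Set V) ⊔ F with hT
          set T' := Subgroup.closure ((insert x S : Finset V) : Set V) ⊔ F with hT'
          have hle : T ≤ T' := by
            apply sup_le_sup_right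
            apply Subgroup.closure_mono
            intro y hy
            simp only [Finset.coe_insert]
            exact Set.mem_insert_of_mem _ hy
          have hxT' : x ∈ T' := by
            apply Subgroup.mem_sup_left
            apply Subgroup.subset_closure
            simp
          have hne : T.relIndex T' ≠ 1 := by
            intro h1
            rw [Subgroup.relIndex_eq_one] at h1
            exact hx (h1 hxT')
          have hcard : Nat.card T * T.relIndex T' = Nat.card T' := by
            have := Subgroup.relIndex_mul_relIndex (⊥ : Subgroup V) T T' bot_le hle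
            rwa [Subgroup.relIndex_bot_left, Subgroup.relIndex_bot_left] at this
          obtain ⟨b, hb⟩ := (hV.to_subgroup T').exists_card_eq
          have hdvd : T.relIndex T' ∣ p ^ b := by
            rw [← hb, ← hcard]; exact dvd_mul_left _ _
          obtain ⟨c, _, hc⟩ := (Nat.dvd_prime_pow (Fact.out : p.Prime)).1 hdvd
          have hc0 : c ≠ 0 := by
            intro h0
            rw [h0, pow_zero] at hc
            exact hne hc
          have hpc : p ≤ T.relIndex T' := by
            rw [hc]
            calc p = p ^ 1 := (pow_one p).symm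
              _ ≤ p ^ c := Nat.pow_le_pow_right (Fact.out : p.Prime).pos (Nat.one_le_iff_ne_zero.2 hc0)
          calc p ^ (k + 1) * Nat.card F = p * (p ^ k * Nat.card F) := by ring
            _ ≤ p * Nat.card T := Nat.mul_le_mul_left _ h
            _ ≤ T.relIndex T' * Nat.card T := Nat.mul_le_mul_right _ hpc
            _ = Nat.card T' := by rw [mul_comm]; exact hcard
  obtain ⟨S, hS, h⟩ := key d
  refine ⟨S, hS, ?_⟩
  rcases h with h | h
  · exact h
  · have h1 : Nat.card (Subgroup.closure (S : Set V) ⊔ F : Subgroup V) ≤ Nat.card V :=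
      Subgroup.card_le_card_group _
    have h2 : Nat.card (Subgroup.closure (S : Set V) ⊔ F : Subgroup V) = Nat.card V :=
      le_antisymm h1 (hd.trans h)
    exact (Subgroup.card_eq_iff_eq_top _).1 h2


theorem main {V : Type*} [CommGroup V] [Finite V] {p : ℕ} [Fact p.Prime] (hV : IsPGroup p V)
    (α : MulAut V) (hα : orderOf α = p) (n : ℕ) (hfix : Nat.card {v : V // α v = v} = p ^ n) :
    ∃ S : Finset V, S.card ≤ p * n ∧ Subgroup.closure (S : Set V) = ⊤ := by
  -- `Ω = ker (x ↦ x^p)`, `F = range (x ↦ x^p)`
  set P : V →* V := powMonoidHom p with hP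
  have hΩ : ∀ w : P.ker, w ^ p = 1 := by
    intro w
    apply Subtype.ext
    have := w.2
    rw [MonoidHom.mem_ker] at this
    exact this
  -- the restriction of `α` to `Ω`
  let β : P.ker →* P.ker := (α.toMonoidHom.comp P.ker.subtype).codRestrict P.ker (fun w => by
    rw [MonoidHom.mem_ker]
    have h1 := w.2
    rw [MonoidHom.mem_ker] at h1
    show (α w.1) ^ p = 1
    rw [← map_pow]
    have h2 : w.1 ^ p = 1 := h1
    rw [h2, map_one])
  have hβv : ∀ w : P.ker, ((β w : P.ker) : V) = α w.1 := fun w => rfl
  have hαi : ∀ (i : ℕ) (v : V), (α ^ i) v = (⇑α)^[i] v := by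
    intro i
    induction i with
    | zero => intro v; rfl
    | succ i ih =>
      intro v
      rw [pow_succ, MulAut.mul_apply, ih, Function.iterate_succ_apply]
  have hβi : ∀ (i : ℕ) (w : P.ker), (((⇑β)^[i] w : P.ker) : V) = (⇑α)^[i] w.1 := by
    intro i
    induction i with
    | zero => intro w; rfl
    | succ i ih =>
      intro w
      rw [Function.iterate_succ_apply, ih, Function.iterate_succ_apply, hβv]
  have hβp : ∀ w : P.ker, (⇑β)^[p] w = w := by
    intro w
    apply Subtype.ext
    rw [hβi, ← hαi, ← hα, pow_orderOf_eq_one]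
    rfl
  -- the endomorphism `δ = β - 1`
  let δ : P.ker →* P.ker :=
    { toFun := fun x => β x * x⁻¹
      map_one' := by simp
      map_mul' := by
        intro a b
        rw [map_mul, mul_inv]
        exact mul_mul_mul_comm _ _ _ _ }
  have hδ : ∀ w : P.ker, (⇑δ)^[p] w = 1 := iterate_div_eq_one hΩ β hβp
  have hker_top : (iterHom δ p).ker = ⊤ := by
    rw [eq_top_iff]
    intro w _
    rw [MonoidHom.mem_ker, iterHom_apply]
    exact hδ w
  have h1 := card_ker_iterHom_le δ p
  rw [hker_top, Subgroup.card_top] at h1
  -- `ker δ` injects into the fixed points of `α`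
  have h2 : Nat.card δ.ker ≤ p ^ n := by
    rw [← hfix]
    apply Nat.card_le_card_of_injective (fun w : δ.ker => (⟨w.1.1, by
      have := w.2
      rw [MonoidHom.mem_ker] at this
      have h3 : β w.1 * (w.1)⁻¹ = 1 := this
      have h4 : β w.1 = w.1 := mul_inv_eq_one.1 h3
      have h5 := congrArg Subtype.val h4
      rw [hβv] at h5
      exact h5⟩ : {v : V // α v = v}))
    intro a b hab
    have := congrArg Subtype.val hab
    exact Subtype.ext (Subtype.ext this)
  have h3 : Nat.card P.ker ≤ p ^ (p * n) := by
    calc Nat.card P.ker ≤ Nat.card δ.ker ^ p := h1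
      _ ≤ (p ^ n) ^ p := Nat.pow_le_pow_left h2 p
      _ = p ^ (p * n) := by rw [← pow_mul, mul_comm]
  have h4 : Nat.card V ≤ p ^ (p * n) * Nat.card P.range := by
    rw [card_eq_ker_mul_range P]
    exact Nat.mul_le_mul_right _ h3
  obtain ⟨S, hS, hgen⟩ := exists_gen hV P.range (p * n) h4
  refine ⟨S, hS, ?_⟩
  have hF : P.range ≤ frattini V := by
    rintro _ ⟨x, rfl⟩
    exact Cfsg.Agent.Lib.H1.isPGroup_pow_mem_frattini hV x
  apply frattini_nongenerating
  rw [eq_top_iff, ← hgen]
  exact sup_le_sup_left hF _

/-- Let V be a finite abelian p-group and α an automorphism of V of order p whose fixed-point subgroup has order p^n. Then V can be generated by pn elements: some subset of V with at most pn elements generates V. -/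
theorem result {V : Type*} [CommGroup V] [Finite V] {p : ℕ} [Fact p.Prime] (hV : IsPGroup p V) (α : MulAut V) (hα : orderOf α = p) (n : ℕ) (hfix : Nat.card {v : V // α v = v} = p ^ n) : ∃ S : Finset V, S.card ≤ p * n ∧ Subgroup.closure (S : Set V) = ⊤ :=
  main hV α hα n hfix

end Cfsg.Agent.S3780
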