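import Cfsg.Statements.S1282
import Cfsg.Agent.Lib.H7.Signalizer2

set_option autoImplicit false
open Cfsg
open Cfsg.Agent.Lib.H7
set_option autoImplicit false

namespace Cfsg.Agent.S1282

/-- Let A be an elementary abelian p-subgroup of rank at least 3 of the finite group G, q ≠ p a prime, and Q₁, Q₂ q-subgroups normalized by A with D = Q₁ ∩ Q₂ different from both. Then there is a non-identity a ∈ A such that, for i = 1 and i = 2, N_{Q_i}(D) ∩ C_G(a) is not contained in D. -/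
theorem result {G : Type*} [Group G] [Finite G] (p : ℕ) [Fact p.Prime] (A : Subgroup G) (hA : Cfsg.IsElementaryAbelian p A) (hA3 : p ^ 3 ≤ Nat.card ↥A) (q : ℕ) [Fact q.Prime] (hqp : q ≠ p) (Q₁ Q₂ : Subgroup G) (h₁ : IsPGroup q ↥Q₁) (h₂ : IsPGroup q ↥Q₂) (hA₁ : A ≤ Subgroup.normalizer (Q₁ : Set G)) (hA₂ : A ≤ Subgroup.normalizer (Q₂ : Set G)) (hD₁ : Q₁ ⊓ Q₂ ≠ Q₁) (hD₂ : Q₁ ⊓ Q₂ ≠ Q₂) : ∃ a ∈ A, a ≠ 1 ∧ ¬ (Subgroup.normalizer ((Q₁ ⊓ Q₂ : Subgroup G) : Set G) ⊓ Q₁ ⊓ Subgroup.centralizer {a} ≤ Q₁ ⊓ Q₂) ∧ ¬ (Subgroup.normalizer ((Q₁ ⊓ Q₂ : Subgroup G) : Set G) ⊓ Q₂ ⊓ Subgroup.centralizer {a} ≤ Q₁ ⊓ Q₂) := by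
  have hp : p.Prime := Fact.out
  have hq : q.Prime := Fact.out
  have hAc : ∀ a ∈ A, ∀ b ∈ A, a * b = b * a := by
    intro a ha b hb
    have := hA.1
    have h := mul_comm' (⟨a, ha⟩ : A) ⟨b, hb⟩
    exact congrArg Subtype.val h
  have hAD : A ≤ Subgroup.normalizer ((Q₁ ⊓ Q₂ : Subgroup G) : Set G) := le_normalizer_inf hA₁ hA₂
  have hcop : ∀ Q : Subgroup G, IsPGroup q Q → ∀ N : Subgroup G, N ≤ Q → (Nat.card N).Coprime p := by
    intro Q hQ N hNQ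
    obtain ⟨k, hk⟩ := IsPGroup.iff_card.1 (hQ.to_le hNQ)
    rw [hk]
    exact Nat.Coprime.pow_left k ((Nat.coprime_primes hq hp).2 hqp)
  have hAN : ∀ Q : Subgroup G, A ≤ Subgroup.normalizer (Q : Set G) →
      A ≤ Subgroup.normalizer ((Subgroup.normalizer ((Q₁ ⊓ Q₂ : Subgroup G) : Set G) ⊓ Q :
        Subgroup G) : Set G) := fun Q hQ =>
    le_normalizer_inf (hAD.trans Subgroup.le_normalizer) hQ
  obtain ⟨x₁, hx₁, hx₁D⟩ := exists_mem_normalizer_notMem q h₁ inf_le_left hD₁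
  obtain ⟨x₂, hx₂, hx₂D⟩ := exists_mem_normalizer_notMem q h₂ inf_le_right hD₂
  obtain ⟨B₁, hB₁A, hB₁p, hB₁⟩ := exists_hyp_centralizer_not_le p hAc hA.2
    (hcop Q₁ h₁ _ inf_le_right) (hAN Q₁ hA₁) (fun h => hx₁D (h hx₁))
  obtain ⟨B₂, hB₂A, hB₂p, hB₂⟩ := exists_hyp_centralizer_not_le p hAc hA.2
    (hcop Q₂ h₂ _ inf_le_right) (hAN Q₂ hA₂) (fun h => hx₂D (h hx₂))
  -- B₁ ⊓ B₂ is nontrivial
  have hidx : (B₁ ⊓ B₂).relIndex A ≤ p * p :=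
    le_trans Subgroup.relIndex_inf_le (Nat.mul_le_mul hB₁p hB₂p)
  have hcard := card_mul_relIndex_of_le (inf_le_left.trans hB₁A : B₁ ⊓ B₂ ≤ A)
  have hne : B₁ ⊓ B₂ ≠ ⊥ := by
    intro hbot
    rw [hbot, Subgroup.card_bot, one_mul] at hcard
    rw [hbot] at hidx
    have : p ^ 3 = p * p * p := by ring
    have h2 : p * p < p * p * p := by
      have := hp.one_lt
      have hpp : 0 < p * p := Nat.mul_pos hp.pos hp.pos
      nlinarith
    omega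
  obtain ⟨⟨a, ha⟩, ha1⟩ := (Subgroup.ne_bot_iff_exists_ne_one.1 hne)
  have ha1' : a ≠ 1 := fun h => ha1 (Subtype.ext h)
  refine ⟨a, hB₁A ha.1, ha1', ?_, ?_⟩
  · intro hle
    apply hB₁
    refine le_trans (inf_le_inf_left _ ?_) hle
    intro c hc
    exact Subgroup.mem_centralizer_singleton_iff.2 (Subgroup.mem_centralizer_iff.1 hc a ha.1).symm
  · intro hle
    apply hB₂
    refine le_trans (inf_le_inf_left _ ?_) hle
    intro c hc
    exact Subgroup.mem_centralizer_singleton_iff.2 (Subgroup.mem_centralizer_iff.1 hc a ha.2).symm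

end Cfsg.Agent.S1282
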