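import Cfsg.Statements.S1467

set_option autoImplicit false
open Cfsg

namespace Cfsg.Agent.S1467

theorem puigStep_anti {G : Type*} [Group G] {X Y : Subgroup G} (h : X ≤ Y) :
    Cfsg.puigStep Y ≤ Cfsg.puigStep X := by
  unfold Cfsg.puigStep
  apply sSup_le_sSup
  rintro A ⟨hA, hYA⟩
  exact ⟨hA, h.trans hYA⟩

theorem puigSeq_succ {G : Type*} [Group G] (n : ℕ) :
    Cfsg.puigSeq G (n + 1) = Cfsg.puigStep (Cfsg.puigSeq G n) := rfl

theorem puigSeq_one {G : Type*} [Group G] : Cfsg.puigSeq G 1 = ⊤ := by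
  rw [puigSeq_succ, eq_top_iff]
  intro g _
  have h : Subgroup.zpowers g ≤ Cfsg.puigStep (Cfsg.puigSeq G 0) := by
    unfold Cfsg.puigStep
    apply le_sSup
    refine ⟨inferInstance, ?_⟩
    change (⊥ : Subgroup G) ≤ _
    exact bot_le
  exact h (Subgroup.mem_zpowers g)

theorem even_odd_step {G : Type*} [Group G] (n : ℕ) :
    Cfsg.puigSeq G (2 * n) ≤ Cfsg.puigSeq G (2 * n + 2) ∧
      Cfsg.puigSeq G (2 * n + 3) ≤ Cfsg.puigSeq G (2 * n + 1) := by
  induction n with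
  | zero =>
    have h0 : Cfsg.puigSeq G 0 ≤ Cfsg.puigSeq G 2 := by
      change (⊥ : Subgroup G) ≤ _; exact bot_le
    exact ⟨h0, puigStep_anti h0⟩
  | succ n ih =>
    have h1 : Cfsg.puigSeq G (2 * (n + 1)) ≤ Cfsg.puigSeq G (2 * (n + 1) + 2) := by
      have : Cfsg.puigSeq G (2 * n + 2) ≤ Cfsg.puigSeq G (2 * n + 4) := puigStep_anti ih.2
      exact this
    exact ⟨h1, puigStep_anti h1⟩

theorem even_le_odd_same {G : Type*} [Group G] (n : ℕ) :
    Cfsg.puigSeq G (2 * n) ≤ Cfsg.puigSeq G (2 * n + 1) := by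
  induction n with
  | zero => change (⊥ : Subgroup G) ≤ _; exact bot_le
  | succ n ih =>
    have h1 : Cfsg.puigSeq G (2 * n + 2) ≤ Cfsg.puigSeq G (2 * n + 1) := puigStep_anti ih
    have h2 : Cfsg.puigSeq G (2 * n + 2) ≤ Cfsg.puigSeq G (2 * n + 3) := puigStep_anti h1
    exact h2

theorem even_mono {G : Type*} [Group G] : Monotone (fun n => Cfsg.puigSeq G (2 * n)) :=
  monotone_nat_of_le_succ (fun n => (even_odd_step n).1)

theorem odd_anti {G : Type*} [Group G] : Antitone (fun n => Cfsg.puigSeq G (2 * n + 1)) :=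
  antitone_nat_of_succ_le (fun n => (even_odd_step n).2)

theorem even_le_odd {G : Type*} [Group G] (n m : ℕ) :
    Cfsg.puigSeq G (2 * n) ≤ Cfsg.puigSeq G (2 * m + 1) := by
  calc Cfsg.puigSeq G (2 * n) ≤ Cfsg.puigSeq G (2 * (max n m)) := even_mono (le_max_left n m)
    _ ≤ Cfsg.puigSeq G (2 * (max n m) + 1) := even_le_odd_same _
    _ ≤ Cfsg.puigSeq G (2 * m + 1) := odd_anti (le_max_right n m)

/-- Let G be a finite group with Puig series L_n(G). Then L_0 = 1, L_1 = G; L_{2n} ≤ L_{2n+2} ≤ L_{2m+3} ≤ L_{2m+1} for all n, m; there is k with L_{2n}(G) = L_*(G) and L_{2n+1}(G) = L(G) for all n ≥ k; L_*(G) ≤ L(G); and applying one Puig step to L_*(G) gives L(G) and to L(G) gives L_*(G). -/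
theorem result {G : Type*} [Group G] [Finite G] :
    Cfsg.puigSeq G 0 = ⊥ ∧ Cfsg.puigSeq G 1 = ⊤ ∧
      (∀ n m : ℕ, Cfsg.puigSeq G (2 * n) ≤ Cfsg.puigSeq G (2 * n + 2) ∧ Cfsg.puigSeq G (2 * n) ≤ Cfsg.puigSeq G (2 * m + 1) ∧
        Cfsg.puigSeq G (2 * m + 3) ≤ Cfsg.puigSeq G (2 * m + 1)) ∧
      (∃ k : ℕ, ∀ n : ℕ, k ≤ n → Cfsg.puigSeq G (2 * n) = Cfsg.puigLower G ∧ Cfsg.puigSeq G (2 * n + 1) = Cfsg.puigSubgroup G) ∧
      Cfsg.puigLower G ≤ Cfsg.puigSubgroup G ∧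
      Cfsg.puigStep (Cfsg.puigLower G) = Cfsg.puigSubgroup G ∧ Cfsg.puigStep (Cfsg.puigSubgroup G) = Cfsg.puigLower G := by
  have hstab : ∃ k : ℕ, ∀ n : ℕ, k ≤ n → Cfsg.puigSeq G (2 * n) = Cfsg.puigLower G ∧ Cfsg.puigSeq G (2 * n + 1) = Cfsg.puigSubgroup G := by
    obtain ⟨k1, hk1⟩ := WellFoundedGT.monotone_chain_condition
      (⟨fun n => Cfsg.puigSeq G (2 * n), even_mono⟩ : ℕ →o Subgroup G)
    obtain ⟨k2, hk2⟩ := WellFoundedLT.antitone_chain_condition (odd_anti (G := G))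
    simp only [OrderHom.coe_mk] at hk1
    refine ⟨max k1 k2, fun n hn => ⟨?_, ?_⟩⟩
    · have hn1 : k1 ≤ n := (le_max_left _ _).trans hn
      unfold Cfsg.puigLower
      apply le_antisymm
      · exact le_iSup (fun n => Cfsg.puigSeq G (2 * n)) n
      · apply iSup_le
        intro m
        calc Cfsg.puigSeq G (2 * m) ≤ Cfsg.puigSeq G (2 * (max m n)) := even_mono (le_max_left m n)
          _ = Cfsg.puigSeq G (2 * k1) := (hk1 _ (hn1.trans (le_max_right m n))).symm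
          _ = Cfsg.puigSeq G (2 * n) := hk1 _ hn1
    · have hn2 : k2 ≤ n := (le_max_right _ _).trans hn
      unfold Cfsg.puigSubgroup
      apply le_antisymm
      · apply le_iInf
        intro m
        calc Cfsg.puigSeq G (2 * n + 1) = Cfsg.puigSeq G (2 * k2 + 1) := (hk2 _ hn2).symm
          _ = Cfsg.puigSeq G (2 * (max m n) + 1) := hk2 _ (hn2.trans (le_max_right m n))
          _ ≤ Cfsg.puigSeq G (2 * m + 1) := odd_anti (le_max_left m n)
      · exact iInf_le (fun n => Cfsg.puigSeq G (2 * n + 1)) n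
  refine ⟨rfl, puigSeq_one, fun n m => ⟨(even_odd_step n).1, even_le_odd n m, (even_odd_step m).2⟩, hstab, ?_, ?_, ?_⟩
  · unfold Cfsg.puigLower Cfsg.puigSubgroup
    exact iSup_le fun n => le_iInf fun m => even_le_odd n m
  · obtain ⟨k, hk⟩ := hstab
    rw [← (hk k le_rfl).1, ← (hk k le_rfl).2]
    rfl
  · obtain ⟨k, hk⟩ := hstab
    rw [← (hk k le_rfl).2, ← (hk (k + 1) (Nat.le_succ k)).1]
    rfl

end Cfsg.Agent.S1467
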