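import Cfsg.Statements.S1466
import Cfsg.Agent.S1467
import Cfsg.Agent.Lib.H8.PGroup

set_option autoImplicit false
open Cfsg

namespace Cfsg.Agent.S1466

open Cfsg.Agent.S1467 Cfsg.Agent.Lib.H8

theorem two_le {R : Type*} [Group R] (i : ℕ) (hi : 0 < i) :
    Cfsg.puigSeq R 2 ≤ Cfsg.puigSeq R i := by
  rcases Nat.even_or_odd' i with ⟨k, rfl | rfl⟩
  · have hk : 1 ≤ k := by omega
    exact even_mono hk
  · exact even_le_odd 1 k

/-- Let p be a prime and R a nontrivial finite p-group. Then for every i > 0, Z(R) ≤ C_R(L_i(R)) ≤ L_i(R); likewise Z(R) ≤ C_R(L_*(R)) ≤ L_*(R) and Z(R) ≤ C_R(L(R)) ≤ L(R); and L(R) ≠ 1, L_*(R) ≠ 1. -/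
theorem result {R : Type*} [Group R] [Finite R] (p : ℕ) [Fact p.Prime] (hR : IsPGroup p R) [Nontrivial R] :
    (∀ i : ℕ, 0 < i → Subgroup.center R ≤ Subgroup.centralizer ((Cfsg.puigSeq R i : Subgroup R) : Set R) ∧
        Subgroup.centralizer ((Cfsg.puigSeq R i : Subgroup R) : Set R) ≤ Cfsg.puigSeq R i) ∧
      (Subgroup.center R ≤ Subgroup.centralizer ((Cfsg.puigLower R : Subgroup R) : Set R) ∧ Subgroup.centralizer ((Cfsg.puigLower R : Subgroup R) : Set R) ≤ Cfsg.puigLower R) ∧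
      (Subgroup.center R ≤ Subgroup.centralizer ((Cfsg.puigSubgroup R : Subgroup R) : Set R) ∧ Subgroup.centralizer ((Cfsg.puigSubgroup R : Subgroup R) : Set R) ≤ Cfsg.puigSubgroup R) ∧
      Cfsg.puigSubgroup R ≠ ⊥ ∧ Cfsg.puigLower R ≠ ⊥ := by
  obtain ⟨A, -, hAn, hAc, hCA⟩ := exists_normal_selfCentralizing hR (⊥ : Subgroup R)
  have hA2 : A ≤ Cfsg.puigSeq R 2 := by
    change A ≤ Cfsg.puigStep (Cfsg.puigSeq R 1)
    unfold Cfsg.puigStep
    apply le_sSup
    refine ⟨hAc, ?_⟩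
    rw [Subgroup.normalizer_eq_top]
    exact le_top
  have key : ∀ X : Subgroup R, Cfsg.puigSeq R 2 ≤ X →
      Subgroup.center R ≤ Subgroup.centralizer (X : Set R) ∧ Subgroup.centralizer (X : Set R) ≤ X := by
    intro X hX
    refine ⟨Subgroup.center_le_centralizer _, ?_⟩
    calc Subgroup.centralizer (X : Set R) ≤ Subgroup.centralizer (A : Set R) :=
          Subgroup.centralizer_le (hA2.trans hX)
      _ = A := hCA
      _ ≤ X := hA2.trans hX
  have hlow : Cfsg.puigSeq R 2 ≤ Cfsg.puigLower R := by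
    unfold Cfsg.puigLower
    exact le_iSup (fun n => Cfsg.puigSeq R (2 * n)) 1
  have hup : Cfsg.puigSeq R 2 ≤ Cfsg.puigSubgroup R := by
    unfold Cfsg.puigSubgroup
    exact le_iInf fun m => even_le_odd 1 m
  have hZA : Subgroup.center R ≤ A := by
    rw [← hCA]; exact Subgroup.center_le_centralizer _
  have hZ : Subgroup.center R ≠ ⊥ := (IsPGroup.bot_lt_center hR).ne'
  have hne : ∀ X : Subgroup R, Cfsg.puigSeq R 2 ≤ X → X ≠ ⊥ := by
    intro X hX h
    apply hZ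
    rw [eq_bot_iff, ← h]
    exact hZA.trans (hA2.trans hX)
  exact ⟨fun i hi => key _ (two_le i hi), key _ hlow, key _ hup, hne _ hup, hne _ hlow⟩

end Cfsg.Agent.S1466
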