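import Cfsg.Statements.S1465
-- import your own Cfsg.Agent.* helpers here
import Mathlib
import Cfsg.Agent.Lib.H16.OddStable

set_option autoImplicit false
open Cfsg

namespace Cfsg.Agent.S1465

open Cfsg.Agent.Lib.H16

/-- an abelian subgroup `B` normalized by `P` acts quadratically on `P`, elementwise. -/
theorem quad_of_normalized {G : Type*} [Group G] (P B : Subgroup G) (hB : IsMulCommutative B)
    (hPB : P ≤ Subgroup.normalizer (B : Set G)) (b : G) (hb : b ∈ B) :
    ⁅⁅P, Subgroup.zpowers b⁆, Subgroup.zpowers b⁆ = ⊥ := by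
  have hz : Subgroup.zpowers b ≤ B := Subgroup.zpowers_le.2 hb
  have h1 : ⁅P, Subgroup.zpowers b⁆ ≤ B := by
    rw [Subgroup.commutator_le]
    intro x hx y hy
    have hyB := hz hy
    have h2 : x * y * x⁻¹ ∈ B := (Subgroup.mem_normalizer_iff.1 (hPB hx) y).1 hyB
    rw [commutatorElement_def]
    exact B.mul_mem h2 (B.inv_mem hyB)
  rw [eq_bot_iff]
  refine le_trans (Subgroup.commutator_mono h1 hz) ?_
  rw [Subgroup.commutator_le]
  intro x hx y hy
  rw [Subgroup.mem_bot, commutatorElement_eq_one_iff_mul_comm]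
  exact congrArg Subtype.val (hB.is_comm.comm ⟨x, hx⟩ ⟨y, hy⟩)

/-- Let p be an odd prime, G a solvable group of odd order, P a normal p-subgroup of G, and X the subgroup generated by a family of abelian p-subgroups of G each normalized by P. Then the image of X in G/C_G(P) lies in O_p(G/C_G(P)); and if O_{p'}(G) = 1 and O_p(G) ∩ C_G(P) ≤ P then X ≤ O_p(G). -/
theorem result {G : Type*} [Group G] [Finite G] [Group.IsSolvable G] (hodd : Odd (Nat.card G)) (p : ℕ) [Fact p.Prime] (hp : p ≠ 2) (P : Subgroup G) [P.Normal] (hP : IsPGroup p P)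
    (S : Set (Subgroup G)) (hS : ∀ B ∈ S, IsMulCommutative B ∧ IsPGroup p B ∧ P ≤ Subgroup.normalizer (B : Set G)) :
    (sSup S).map (QuotientGroup.mk' (Subgroup.centralizer (P : Set G))) ≤ Cfsg.pCore p (G ⧸ Subgroup.centralizer (P : Set G)) ∧
      (Cfsg.pPrimeCore p G = ⊥ → Cfsg.pCore p G ⊓ Subgroup.centralizer (P : Set G) ≤ P → sSup S ≤ Cfsg.pCore p G) := by
  classical
  have hs : Group.IsSolvable G := inferInstance
  have h1 : (sSup S).map (QuotientGroup.mk' (Subgroup.centralizer (P : Set G))) ≤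
      Cfsg.pCore p (G ⧸ Subgroup.centralizer (P : Set G)) := by
    rw [Subgroup.map_le_iff_le_comap]
    apply sSup_le
    intro B hB b hb
    obtain ⟨hBc, _, hBn⟩ := hS B hB
    exact odd_quadratic_mem_pCore hp hodd P hP b (quad_of_normalized P B hBc hBn b hb)
  refine ⟨h1, ?_⟩
  intro hO hC
  have hCp := isPGroup_centralizer_of_inf_le (p := p) hs P hO hC
  refine le_trans ?_ (comap_pCore_le_pCore (p := p) (Subgroup.centralizer (P : Set G)) hCp)
  rw [← Subgroup.map_le_iff_le_comap]
  exact h1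

end Cfsg.Agent.S1465
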