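import Cfsg.Statements.S1457
-- import your own Cfsg.Agent.* helpers here
import Mathlib
import Cfsg.Agent.Lib.H16.OddStable
import Cfsg.Agent.S1465

set_option autoImplicit false
open Cfsg

namespace Cfsg.Agent.S1457

open Cfsg.Agent.Lib.H16

/-- Let G be a solvable group of odd order, p a prime, S a Sylow p-subgroup of G and A an abelian subgroup of S normal in S. Then A ≤ O_{p',p}(G). -/
theorem result {G : Type*} [Group G] [Finite G] [Group.IsSolvable G] (hodd : Odd (Nat.card G)) (p : ℕ) [Fact p.Prime] (S : Sylow p G) (A : Subgroup G) (hA : A ≤ (S : Subgroup G)) (hAc : IsMulCommutative A)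
    (hAn : (S : Subgroup G) ≤ Subgroup.normalizer (A : Set G)) :
    A ≤ Cfsg.pPrimePCore p G := by
  classical
  have hpp : p.Prime := Fact.out
  by_cases hp : p = 2
  · -- Sylow 2-subgroups of an odd-order group are trivial
    have hS : (S : Subgroup G) = ⊥ := by
      obtain ⟨k, hk⟩ := IsPGroup.iff_card.1 S.isPGroup'
      have hdvd : Nat.card (S : Subgroup G) ∣ Nat.card G := Subgroup.card_subgroup_dvd_card _
      have hoddS : Odd (Nat.card (S : Subgroup G)) := Odd.of_dvd_nat hodd hdvd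
      rw [hk, hp] at hoddS
      have hk0 : k = 0 := by
        by_contra h0
        exact (Nat.not_even_iff_odd.2 hoddS) ((Nat.even_pow' h0).2 even_two)
      rw [hk0, pow_zero] at hk
      exact Subgroup.card_eq_one.1 hk
    rw [hS] at hA
    exact le_trans hA bot_le
  · obtain ⟨N, hNdef⟩ : ∃ N : Subgroup G, N = Cfsg.pPrimeCore p G := ⟨_, rfl⟩
    have hNn : N.Normal := hNdef ▸ inferInstance
    change A ≤ (Cfsg.pCore p (G ⧸ Cfsg.pPrimeCore p G)).comap (QuotientGroup.mk' (Cfsg.pPrimeCore p G))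
    have hObot : Cfsg.pPrimeCore p (G ⧸ Cfsg.pPrimeCore p G) = ⊥ :=
      Cfsg.Agent.Lib.H9.pPrimeCore_quotient_eq_bot p
    obtain ⟨π, hπ⟩ : ∃ π : G →* G ⧸ Cfsg.pPrimeCore p G, π = QuotientGroup.mk' _ := ⟨_, rfl⟩
    have hπs : Function.Surjective π := hπ ▸ QuotientGroup.mk'_surjective _
    rw [← hπ, ← Subgroup.map_le_iff_le_comap]
    have hoddq : Odd (Nat.card (G ⧸ Cfsg.pPrimeCore p G)) :=
      Odd.of_dvd_nat hodd (Subgroup.card_quotient_dvd_card _)
    haveI : (Cfsg.pCore p (G ⧸ Cfsg.pPrimeCore p G)).Normal := Cfsg.Agent.Lib.H1.pCore_normal p _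
    have hPp := Cfsg.Agent.Lib.H1.pCore_isPGroup p (G ⧸ Cfsg.pPrimeCore p G)
    have hAc' : IsMulCommutative (A.map π) := by
      constructor
      constructor
      rintro ⟨u, hu⟩ ⟨v, hv⟩
      obtain ⟨x, hx, rfl⟩ := hu
      obtain ⟨y, hy, rfl⟩ := hv
      apply Subtype.ext
      change π x * π y = π y * π x
      rw [← map_mul, ← map_mul]
      exact congrArg π (congrArg Subtype.val (hAc.is_comm.comm ⟨x, hx⟩ ⟨y, hy⟩))
    have hAp' : IsPGroup p (A.map π) := (S.isPGroup'.to_le hA).map π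
    have hPA : Cfsg.pCore p (G ⧸ Cfsg.pPrimeCore p G) ≤ Subgroup.normalizer ((A.map π : Subgroup _) : Set _) := by
      have h1 : Cfsg.pCore p (G ⧸ Cfsg.pPrimeCore p G) ≤ (S : Subgroup G).map π := by
        have := Cfsg.Agent.Lib.H1.pCore_le_sylow (S.mapSurjective hπs)
        rwa [Sylow.coe_mapSurjective] at this
      refine le_trans h1 ?_
      refine le_trans (Subgroup.map_mono hAn) ?_
      exact Subgroup.le_normalizer_map π
    have h := (Cfsg.Agent.S1465.result hoddq p hp (Cfsg.pCore p (G ⧸ Cfsg.pPrimeCore p G)) hPp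
      {A.map π} (by
        intro B hB
        rw [Set.mem_singleton_iff] at hB
        subst hB
        exact ⟨hAc', hAp', hPA⟩)).2 hObot inf_le_left
    rwa [sSup_singleton] at h

end Cfsg.Agent.S1457
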