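import Cfsg.Statements.S1396
import Cfsg.Agent.Lib.H7.GorT12
import Cfsg.Agent.Lib.H7.PConstrained4
import Cfsg.Agent.Lib.H7.DihedralLemma2
import Cfsg.Agent.Lib.H7.BG7c
import Cfsg.Agent.Lib.H10.SylowIn

set_option autoImplicit false
open Cfsg
open scoped commutatorElement
set_option autoImplicit false
set_option linter.style.haveILetI false
set_option linter.unusedVariables false
set_option linter.deprecated false

namespace Cfsg.Agent.S1396

/-- Let G be a minimal simple group of odd order, p a prime dividing the order of G and A an abelian p-subgroup. Suppose either (1) A consists exactly of the elements x of C_G(A) with x^p = 1, and every proper subgroup of G has p-length at most one, or (2) A is normal and self-centralizing in some Sylow p-subgroup of G and has rank at least 2. Then A satisfies the transitivity hypothesis. -/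
theorem result {G : Type*} [Group G] [Finite G] (hG : Cfsg.IsMinSimpleOddOrder G)
    (p : ℕ) [Fact p.Prime] (hp : p ∣ Nat.card G) (A : Subgroup G) (hAp : IsPGroup p A) (hAc : IsMulCommutative A)
    (h : (∀ x ∈ Subgroup.centralizer (A : Set G), x ^ p = 1 ↔ x ∈ A) ∧ (∀ H : Subgroup G, H ≠ ⊤ → Cfsg.PLengthLE p 1 H) ∨
      ∃ P : Sylow p G, Cfsg.IsSCN (P : Subgroup G) A ∧ ¬ Cfsg.PRankLE p 1 A) :
    Cfsg.TransitivityHypothesis A := by
  have hpP : p.Prime := Fact.out
  have hp2 : p ≠ 2 := by
    intro h2
    rw [h2] at hp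
    have := hG.1
    rw [Nat.odd_iff] at this
    omega
  have hAc' : ∀ x ∈ A, ∀ y ∈ A, x * y = y * x := by
    intro x hx y hy
    have h := mul_comm' (⟨x, hx⟩ : A) ⟨y, hy⟩
    exact congrArg Subtype.val h
  -- `A ≠ ⊥`
  have hA1 : A ≠ ⊥ := by
    rcases h with ⟨h1, -⟩ | ⟨P, -, hr⟩
    · intro hA
      obtain ⟨x, hx⟩ := exists_prime_orderOf_dvd_card' (G := G) p hp
      have hxC : x ∈ Subgroup.centralizer (A : Set G) := by
        rw [hA, Subgroup.mem_centralizer_iff]
        intro y hy
        have : y = 1 := by simpa using hy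
        rw [this]; simp
      have hxp : x ^ p = 1 := by rw [← hx]; exact pow_orderOf_eq_one x
      have := (h1 x hxC).1 hxp
      rw [hA, Subgroup.mem_bot] at this
      rw [this, orderOf_one] at hx
      exact hpP.ne_one hx.symm
    · intro hA
      obtain ⟨B, hBA, hB, hcard⟩ := Cfsg.Agent.Lib.H7.BG7.exists_elemAb_of_not_pRankLE hpP hr
      rw [hA] at hBA
      have hB1 : B = ⊥ := le_bot_iff.1 hBA
      rw [hB1, Subgroup.card_bot] at hcard
      have := hpP.two_le
      have : 2 ^ (1 + 1) ≤ p ^ (1 + 1) := Nat.pow_le_pow_left this _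
      omega
  -- `A ≠ ⊤`
  have hA2 : A ≠ ⊤ := by
    intro hA
    apply Cfsg.Agent.Lib.H7.BG7.normalizer_ne_top_of_isPGroup hG hAp hA1
    rw [hA]
    exact Subgroup.normalizer_eq_top _
  obtain ⟨k, hk⟩ := IsPGroup.iff_card.1 hAp
  have hk0 : k ≠ 0 := by
    rintro rfl
    rw [pow_zero] at hk
    exact hA1 (Subgroup.card_eq_one.1 hk)
  have hπ : primesNotDvd (Nat.card A) = primesNotDvd p := by
    ext q
    simp only [primesNotDvd, Set.mem_setOf_eq]
    constructor
    · rintro ⟨hq, hqA⟩
      refine ⟨hq, fun hqp => hqA ?_⟩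
      rw [hk]
      exact hqp.trans (dvd_pow_self p hk0)
    · rintro ⟨hq, hqp⟩
      refine ⟨hq, fun hqA => hqp ?_⟩
      rw [hk] at hqA
      exact hq.dvd_of_dvd_pow hqA
  refine ⟨hA1, hA2, ?_⟩
  intro X hX hAX
  rw [hπ]
  haveI hXs : Group.IsSolvable ↥X := Cfsg.Agent.Lib.H7.BG7.solvable_of_ne_top hG hX
  have core : ∀ K : Subgroup G, K ≤ X → (Nat.card K).Coprime p →
      A ≤ Subgroup.normalizer (K : Set G) → K ≤ piCoreOf (primesNotDvd p) X := by
    intro K hKX hK hAK
    rcases h with ⟨h1, h2⟩ | ⟨P, hscn, hr⟩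
    · -- case 1
      have hl : PLengthLE p 1 ↥X := h2 X hX
      have h3 : K.subgroupOf X ≤ pPrimeCore p ↥X := by
        apply Cfsg.Agent.Lib.H7.GorT.le_pPrimeCore_of_plength_one hp2 hXs hl (A.subgroupOf X)
          (hAp.of_equiv (Subgroup.subgroupOfEquivOfLe hAX).symm)
        · intro x hx hxp
          rw [Subgroup.mem_subgroupOf]
          apply (h1 (x : G) ?_).1
          · have := congrArg Subtype.val hxp
            simpa using this
          · rw [Subgroup.mem_centralizer_iff]
            intro b hb
            have := Subgroup.mem_centralizer_iff.1 hx ⟨b, hAX hb⟩ (Subgroup.mem_subgroupOf.2 hb)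
            exact congrArg Subtype.val this
        · rw [Nat.card_congr (Subgroup.subgroupOfEquivOfLe hKX).toEquiv]; exact hK
        · intro b hb
          rw [Subgroup.mem_normalizer_iff]
          intro k
          rw [Subgroup.mem_subgroupOf, Subgroup.mem_subgroupOf]
          exact Subgroup.mem_normalizer_iff.1 (hAK (Subgroup.mem_subgroupOf.1 hb)) (k : G)
      have h4 := Subgroup.map_mono (f := X.subtype) h3
      rw [Subgroup.map_subgroupOf_eq_of_le hKX] at h4
      set M : Subgroup G := (pPrimeCore p ↥X).map X.subtype with hM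
      haveI : (pPrimeCore p ↥X).Normal := Cfsg.Agent.Lib.H22.pPrimeCore_normal p
      have hXM : X ≤ Subgroup.normalizer (M : Set G) :=
        Cfsg.Agent.Lib.H7.PrimPair.le_normalizer_map_subtype _
      have hMc : (Nat.card M).Coprime p := by
        have : Nat.card M = Nat.card (pPrimeCore p ↥X) :=
          (Nat.card_congr ((pPrimeCore p ↥X).equivMapOfInjective X.subtype
            (Subgroup.subtype_injective X)).toEquiv).symm
        rw [this]
        exact Cfsg.Agent.Lib.H22.card_pPrimeCore_coprime p
      have hMX : M ≤ X := Subgroup.map_subtype_le _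
      have h5 : M ≤ piCoreOf (primesNotDvd p) X := by
        apply Cfsg.Agent.Lib.H7.BG7.le_piCoreOf hMX hXM
        exact Cfsg.Agent.Lib.H7.GorT.isPiCard_primesNotDvd_of_coprime hMc
      exact h4.trans h5
    · -- case 2
      obtain ⟨hAP, hPN, hPC⟩ := hscn
      have hXc : IsPConstrained p ↥X := by
        rw [Cfsg.Agent.Lib.H7.isPConstrained_iff_layer_quotient_eq_bot]
        haveI : Group.IsSolvable (↥X ⧸ pPrimeCore p ↥X) :=
          Group.isSolvable_of_surjective (QuotientGroup.mk'_surjective _)
        exact Cfsg.Agent.Lib.H7.layer_eq_bot_of_isSolvable _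
      have hBfull : ∀ x ∈ Subgroup.centralizer (A : Set G),
          IsPGroup p (Subgroup.zpowers x) → x ∈ A := by
        intro x hx hxp
        set C : Subgroup G := Subgroup.centralizer (A : Set G) with hC
        set N : Subgroup G := Subgroup.normalizer (A : Set G) with hN
        have hBC : A ≤ C := by
          intro b hb
          rw [hC, Subgroup.mem_centralizer_iff]
          intro y hy
          exact hAc' _ hy _ hb
        have hCN : C ≤ N := Subgroup.centralizer_le_normalizer _
        have hNC : N ≤ Subgroup.normalizer (C : Set G) :=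
          Cfsg.Agent.Lib.H7.BG7.normalizer_le_normalizer_centralizer _
        set U : Subgroup G := Subgroup.zpowers x ⊔ A with hU
        have hzC : Subgroup.zpowers x ≤ C := (Subgroup.zpowers_le).2 hx
        have hUp : IsPGroup p U := IsPGroup.to_sup_of_normal_right' hxp hAp (hzC.trans hCN)
        have hUC : U ≤ C := sup_le hzC hBC
        have hPi : ¬ p ∣ (P : Subgroup G).relIndex N := by
          intro hdvd
          apply P.not_dvd_index
          rw [← Subgroup.relIndex_mul_index hPN]
          exact hdvd.mul_right _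
        obtain ⟨m, hmN, hmU⟩ := Cfsg.Agent.Lib.H10.exists_mem_map_conj_le_of_sylowIn P.isPGroup'
          hPN hPi hUp (hUC.trans hCN)
        have hUB : U.map (MulAut.conj m).toMonoidHom ≤ A := by
          rw [← hPC]
          refine le_inf hmU ?_
          rintro _ ⟨u, hu, rfl⟩
          exact (Subgroup.mem_normalizer_iff.1 (hNC hmN) u).1 (hUC hu)
        have hcard : Nat.card U ≤ Nat.card A := by
          rw [← Cfsg.Agent.Lib.H10.card_map_conj m U]
          exact Subgroup.card_le_of_le hUB
        have hBU : A ≤ U := le_sup_right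
        have : A = U := Subgroup.eq_of_le_of_card_ge hBU hcard
        rw [this]
        exact Subgroup.mem_sup_left (Subgroup.mem_zpowers x)
      exact Cfsg.Agent.Lib.H7.GorT.le_piCoreOf_of_invariant X hXc X le_rfl Subgroup.le_normalizer
        A hAX hAp hAc' (fun x hx hxp => hBfull x hx.2 hxp) K hKX hK hAK (Or.inl hp2)
  apply le_antisymm
  · apply sSup_le
    rintro Y ⟨hYX, hYπ, hAY⟩
    apply core Y hYX _ hAY
    exact (Cfsg.Agent.Lib.H7.BG7.coprime_of_isPiCard p hYπ).symm
  · apply le_sSup
    exact ⟨Cfsg.Agent.Lib.H7.BG7.piCoreOf_le _ _, Cfsg.Agent.Lib.H7.BG7.piCoreOf_isPiCard _ _,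
      hAX.trans (Cfsg.Agent.Lib.H7.BG7.le_normalizer_piCoreOf _ _)⟩

end Cfsg.Agent.S1396
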