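import Cfsg.Statements.S0093
import Mathlib
import Cfsg.Agent.Lib.H16.ClassTwo
import Cfsg.Agent.Lib.H16.PGroupCenter
import Cfsg.Agent.Lib.H1.PGroupBasic

set_option autoImplicit false
open Cfsg

namespace Cfsg.Agent.S0093

open Cfsg.Agent.Lib.H16
open scoped commutatorElement

/-- A nontrivial element of a `p`-group has a `p`-power power of order `p`. -/
theorem exists_pow_ne_one_pow_eq_one {X : Type*} [Group X] {p : ℕ} [hp : Fact p.Prime]
    (hX : IsPGroup p X) {x : X} (hx : x ≠ 1) : ∃ j : ℕ, x ^ (p ^ j) ≠ 1 ∧ (x ^ (p ^ j)) ^ p = 1 := by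
  obtain ⟨m, hm⟩ := IsPGroup.iff_orderOf.mp hX x
  have hm0 : m ≠ 0 := by
    intro h0
    rw [h0, pow_zero, orderOf_eq_one_iff] at hm
    exact hx hm
  obtain ⟨j, rfl⟩ := Nat.exists_eq_succ_of_ne_zero hm0
  refine ⟨j, ?_, ?_⟩
  · apply pow_ne_one_of_lt_orderOf (pow_pos hp.out.pos j).ne'
    rw [hm]
    exact Nat.pow_lt_pow_right hp.out.one_lt (Nat.lt_succ_self j)
  · rw [← pow_mul, ← pow_succ, ← hm, pow_orderOf_eq_one]

/-- "Characteristic abelian" in elementwise form. -/
def CharAb {P : Type*} [Group P] (M : Subgroup P) : Prop :=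
  (∀ φ : P ≃* P, ∀ m ∈ M, φ m ∈ M) ∧ ∀ a ∈ M, ∀ b ∈ M, a * b = b * a

theorem CharAb.conj_mem {P : Type*} [Group P] {M : Subgroup P} (h : CharAb M) (g : P) {m : P}
    (hm : m ∈ M) : g * m * g⁻¹ ∈ M := by
  have := h.1 (MulAut.conj g) m hm
  simpa [MulAut.conj_apply] using this

/-- The subgroup `H` of the critical subgroup construction: the elements of `C_P(M)` which are
central of order dividing `p` modulo `M`. -/
def critSub {P : Type*} [Group P] (p : ℕ) (M : Subgroup P) (hM : CharAb M) : Subgroup P where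
  carrier := {x | x ∈ Subgroup.centralizer (M : Set P) ∧ x ^ p ∈ M ∧ ∀ g : P, ⁅x, g⁆ ∈ M}
  one_mem' := ⟨Subgroup.one_mem _, by rw [one_pow]; exact M.one_mem, fun g => by
    rw [commutatorElement_one_left]; exact M.one_mem⟩
  mul_mem' := by
    rintro x y ⟨hxC, hxp, hxg⟩ ⟨hyC, hyp, hyg⟩
    refine ⟨Subgroup.mul_mem _ hxC hyC, ?_, ?_⟩
    · set c : P := (x * y)⁻¹ * ⁅y, x⁆ * (x * y) with hc
      have hcM : c ∈ M := by
        have := hM.conj_mem (x * y)⁻¹ (hyg x)
        rwa [inv_inv] at this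
      have hyx : y * x = x * y * c := by rw [hc, commutatorElement_def]; group
      have hcx : Commute c x := (Subgroup.mem_centralizer_iff.mp hxC c hcM)
      have hcy : Commute c y := (Subgroup.mem_centralizer_iff.mp hyC c hcM)
      rw [mul_pow_of_central hyx hcx hcy p]
      exact M.mul_mem (M.mul_mem hxp hyp) (M.pow_mem hcM _)
    · intro g
      have : ⁅x * y, g⁆ = x * ⁅y, g⁆ * x⁻¹ * ⁅x, g⁆ := by
        simp only [commutatorElement_def]; group
      rw [this]
      exact M.mul_mem (hM.conj_mem x (hyg g)) (hxg g)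
  inv_mem' := by
    rintro x ⟨hxC, hxp, hxg⟩
    refine ⟨Subgroup.inv_mem _ hxC, ?_, ?_⟩
    · rw [inv_pow]; exact M.inv_mem hxp
    · intro g
      have : ⁅x⁻¹, g⁆ = x⁻¹ * (⁅x, g⁆)⁻¹ * (x⁻¹)⁻¹ := by
        simp only [commutatorElement_def]; group
      rw [this]
      exact hM.conj_mem x⁻¹ (M.inv_mem (hxg g))

theorem mem_critSub {P : Type*} [Group P] {p : ℕ} {M : Subgroup P} {hM : CharAb M} {x : P} :
    x ∈ critSub p M hM ↔
      x ∈ Subgroup.centralizer (M : Set P) ∧ x ^ p ∈ M ∧ ∀ g : P, ⁅x, g⁆ ∈ M := Iff.rfl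

/-- Every finite p-group has a critical subgroup: a characteristic subgroup H whose Frattini subgroup and whose commutator with the whole group lie in the centre of H, and whose centralizer is contained in H. -/
theorem result {P : Type*} [Group P] [Finite P] {p : ℕ} [Fact p.Prime] (hP : IsPGroup p P) : ∃ H : Subgroup P, H.Characteristic ∧ (frattini H).map H.subtype ≤ Subgroup.centralizer (H : Set P) ∧ ⁅H, (⊤ : Subgroup P)⁆ ≤ H ⊓ Subgroup.centralizer (H : Set P) ∧ Subgroup.centralizer (H : Set P) ≤ H := by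
  have hp : p.Prime := Fact.out
  -- a maximal characteristic abelian subgroup
  have hbot : CharAb (⊥ : Subgroup P) := by
    refine ⟨fun φ m hm => ?_, fun a ha b hb => ?_⟩
    · rw [Subgroup.mem_bot] at hm ⊢; rw [hm, map_one]
    · rw [Subgroup.mem_bot] at ha hb; rw [ha, hb]
  obtain ⟨M, -, hMmax⟩ := Finite.exists_le_maximal (p := fun M : Subgroup P => CharAb M) hbot
  have hM : CharAb M := hMmax.prop
  set H : Subgroup P := critSub p M hM with hH
  have hMchar : M.Characteristic := by
    rw [Subgroup.characteristic_iff_map_le]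
    rintro φ _ ⟨m, hm, rfl⟩
    exact hM.1 φ m hm
  haveI hMn : M.Normal := inferInstance
  -- H is characteristic (elementwise)
  have hHchar' : ∀ φ : P ≃* P, ∀ x ∈ H, φ x ∈ H := by
    intro φ x hx
    obtain ⟨hxC, hxp, hxg⟩ := mem_critSub.mp hx
    refine mem_critSub.mpr ⟨?_, ?_, ?_⟩
    · rw [Subgroup.mem_centralizer_iff]
      intro m hm
      have h1 : φ.symm m ∈ M := hM.1 φ.symm m hm
      have h2 := Subgroup.mem_centralizer_iff.mp hxC _ h1
      have h3 := congrArg φ h2
      rwa [map_mul, map_mul, MulEquiv.apply_symm_apply] at h3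
    · rw [← map_pow]; exact hM.1 φ _ hxp
    · intro g
      have h1 := hM.1 φ _ (hxg (φ.symm g))
      rwa [map_commutatorElement, MulEquiv.apply_symm_apply] at h1
  have hHchar : H.Characteristic := by
    rw [Subgroup.characteristic_iff_map_le]
    rintro φ _ ⟨x, hx, rfl⟩
    exact hHchar' φ x hx
  haveI hHn : H.Normal := inferInstance
  -- M ≤ H
  have hMH : M ≤ H := by
    intro m hm
    refine mem_critSub.mpr ⟨?_, M.pow_mem hm p, fun g => ?_⟩
    · rw [Subgroup.mem_centralizer_iff]
      intro b hb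
      exact hM.2 b hb m hm
    · have : ⁅m, g⁆ = m * (g * m⁻¹ * g⁻¹) := by rw [commutatorElement_def]; group
      rw [this]
      exact M.mul_mem hm (hM.conj_mem g (M.inv_mem hm))
  have hMcH : M ≤ Subgroup.centralizer (H : Set P) := by
    intro m hm
    rw [Subgroup.mem_centralizer_iff]
    intro x hx
    exact Subgroup.mem_centralizer_iff.mp (mem_critSub.mp hx).1 m hm |>.symm
  -- Z(H) = M
  have hZ : H ⊓ Subgroup.centralizer (H : Set P) = M := by
    apply le_antisymm
    · apply hMmax.le_of_ge ?_ (le_inf hMH hMcH)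
      refine ⟨fun φ z hz => ?_, fun a ha b hb => ?_⟩
      · obtain ⟨hzH, hzc⟩ := Subgroup.mem_inf.mp hz
        refine Subgroup.mem_inf.mpr ⟨hHchar' φ z hzH, ?_⟩
        rw [Subgroup.mem_centralizer_iff]
        intro x hx
        have h1 : φ.symm x ∈ H := hHchar' φ.symm x hx
        have h2 := Subgroup.mem_centralizer_iff.mp hzc _ h1
        have h3 := congrArg φ h2
        rwa [map_mul, map_mul, MulEquiv.apply_symm_apply] at h3
      · obtain ⟨haH, hac⟩ := Subgroup.mem_inf.mp ha
        obtain ⟨hbH, hbc⟩ := Subgroup.mem_inf.mp hb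
        exact (Subgroup.mem_centralizer_iff.mp hbc a haH)
    · exact le_inf hMH hMcH
  refine ⟨H, hHchar, ?_, ?_, ?_⟩
  · -- Frattini
    have hfr : frattini H ≤ M.subgroupOf H := by
      apply Cfsg.Agent.Lib.H1.frattini_le_of_commutator_le_of_pow_mem (p := p)
      · rw [commutator_def, Subgroup.commutator_le]
        intro a _ b _
        rw [Subgroup.mem_subgroupOf]
        have := (mem_critSub.mp a.2).2.2 (b : P)
        have h1 : ((⁅a, b⁆ : H) : P) = ⁅(a : P), (b : P)⁆ := by
          simp only [commutatorElement_def]; rfl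
        rw [h1]
        exact this
      · intro x
        rw [Subgroup.mem_subgroupOf]
        have := (mem_critSub.mp x.2).2.1
        simpa using this
    rintro _ ⟨y, hy, rfl⟩
    exact hMcH (Subgroup.mem_subgroupOf.mp (hfr hy))
  · rw [Subgroup.commutator_le]
    intro x hx g _
    rw [hZ]
    exact (mem_critSub.mp hx).2.2 g
  · -- C_P(H) ≤ H
    by_contra hnot
    rw [SetLike.not_le_iff_exists] at hnot
    obtain ⟨q, hqQ, hqH⟩ := hnot
    set Q : Subgroup P := Subgroup.centralizer (H : Set P) with hQ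
    haveI : Q.Normal := by rw [hQ]; infer_instance
    set Nb : Subgroup (P ⧸ M) := Q.map (QuotientGroup.mk' M) with hNb
    haveI : Nb.Normal := Subgroup.Normal.map inferInstance _ (QuotientGroup.mk'_surjective M)
    have hNbne : Nb ≠ ⊥ := by
      intro hb
      have h1 : (QuotientGroup.mk' M) q ∈ Nb := Subgroup.mem_map_of_mem _ hqQ
      rw [hb, Subgroup.mem_bot, QuotientGroup.mk'_apply, QuotientGroup.eq_one_iff] at h1
      exact hqH (hMH h1)
    have hPb : IsPGroup p (P ⧸ M) := hP.to_quotient M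
    obtain ⟨z, hzN, hz1, hzc⟩ := exists_ne_one_mem_center_of_normal' hp hPb Nb hNbne
    obtain ⟨j, hj1, hjp⟩ := exists_pow_ne_one_pow_eq_one hPb hz1
    have hz'N : z ^ (p ^ j) ∈ Nb := Nb.pow_mem hzN _
    have hz'c : z ^ (p ^ j) ∈ Subgroup.center (P ⧸ M) := Subgroup.pow_mem _ hzc _
    obtain ⟨k, hkQ, hk⟩ := Subgroup.mem_map.mp hz'N
    have hkH : k ∈ H := by
      refine mem_critSub.mpr ⟨?_, ?_, ?_⟩
      · exact Subgroup.centralizer_le hMH hkQ
      · rw [← QuotientGroup.eq_one_iff, QuotientGroup.mk_pow]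
        rw [QuotientGroup.mk'_apply] at hk
        rw [hk, hjp]
      · intro g
        rw [← QuotientGroup.eq_one_iff]
        have h1 : ((⁅k, g⁆ : P) : P ⧸ M) = ⁅(QuotientGroup.mk' M) k, (QuotientGroup.mk' M) g⁆ := by
          rw [← map_commutatorElement]; rfl
        rw [h1, hk, commutatorElement_eq_one_iff_commute]
        exact (Subgroup.mem_center_iff.mp hz'c _).symm
    have hkM : k ∈ M := by
      rw [← hZ]
      exact Subgroup.mem_inf.mpr ⟨hkH, hkQ⟩
    apply hj1
    rw [← hk, QuotientGroup.mk'_apply, QuotientGroup.eq_one_iff]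
    exact hkM

end Cfsg.Agent.S0093
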