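import Cfsg.Statements.S0096
import Mathlib
import Cfsg.Agent.Lib.H16.ClassTwo

set_option autoImplicit false
open Cfsg

namespace Cfsg.Agent.S0096

open Cfsg.Agent.Lib.H16
open scoped commutatorElement

/-- In a group of class at most two, every commutator is central. -/
theorem commute_commutator_of_class_two {P : Type*} [Group P]
    (h2 : ⁅commutator P, (⊤ : Subgroup P)⁆ = ⊥) (a b g : P) : Commute ⁅a, b⁆ g := by
  have h1 : ⁅⁅a, b⁆, g⁆ ∈ ⁅commutator P, (⊤ : Subgroup P)⁆ :=
    Subgroup.commutator_mem_commutator
      (Subgroup.commutator_mem_commutator (Subgroup.mem_top a) (Subgroup.mem_top b))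
      (Subgroup.mem_top g)
  rw [h2, Subgroup.mem_bot] at h1
  exact commutatorElement_eq_one_iff_commute.mp h1

/-- Core: for odd `n`, in a group of class at most two the elements with `x ^ n = 1` generate a
subgroup of exponent dividing `n`. -/
theorem pow_eq_one_of_mem_closure {P : Type*} [Group P]
    (h2 : ⁅commutator P, (⊤ : Subgroup P)⁆ = ⊥) {n : ℕ} (hn : Odd n) (g : P)
    (hg : g ∈ Subgroup.closure {x : P | x ^ n = 1}) : g ^ n = 1 := by
  induction hg using Subgroup.closure_induction with
  | mem x hx => exact hx
  | one => exact one_pow n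
  | mul x y _ _ hx hy =>
    have h : y * x = x * y * ⁅y⁻¹, x⁻¹⁆ := by rw [commutatorElement_def]; group
    exact mul_pow_eq_one_of_central h (commute_commutator_of_class_two h2 _ _ x)
      (commute_commutator_of_class_two h2 _ _ y) hn hx hy
  | inv x _ hx => rw [inv_pow, hx, inv_one]

/-- For odd p, in a p-group of class at most two the elements of order dividing p generate a subgroup of exponent dividing p. -/
theorem result {P : Type*} [Group P] [Finite P] {p : ℕ} [Fact p.Prime] (hp : p ≠ 2) (hP : IsPGroup p P) (h2 : ⁅commutator P, (⊤ : Subgroup P)⁆ = ⊥) (g : P) (hg : g ∈ Subgroup.closure {x : P | x ^ p = 1}) : g ^ p = 1 := by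
  have hodd : Odd p := (Fact.out : p.Prime).odd_of_ne_two hp
  exact pow_eq_one_of_mem_closure h2 hodd g hg

end Cfsg.Agent.S0096
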