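import Mathlib
import Cfsg.Statements.S0121

set_option autoImplicit false
open Cfsg

namespace Cfsg.Agent.S0121

/-- A p'-automorphism of a p-group acting trivially on a critical subgroup is trivial. -/
theorem result {G : Type*} [Group G] [Finite G] {p : ℕ} [Fact p.Prime] (hG : IsPGroup p G) (H : Subgroup G) (hH : H.Characteristic) (h1 : (frattini H).map H.subtype ≤ Subgroup.centralizer (H : Set G)) (h2 : ⁅H, (⊤ : Subgroup G)⁆ ≤ H ⊓ Subgroup.centralizer (H : Set G)) (h3 : Subgroup.centralizer (H : Set G) ≤ H) (a : MulAut G) (ha : Nat.Coprime (orderOf a) p) (h : ∀ x ∈ H, a x = x) : a = 1 := by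
  have hn : H.Normal := inferInstance
  ext g
  rw [MulAut.one_apply]
  -- c = g⁻¹ a(g) centralizes H
  have hc : g⁻¹ * a g ∈ Subgroup.centralizer (H : Set G) := by
    rw [Subgroup.mem_centralizer_iff]
    intro x hx
    have hx' : g * x * g⁻¹ ∈ H := hn.conj_mem x hx g
    have e := h _ hx'
    rw [map_mul, map_mul, map_inv, h x hx] at e
    -- e : a g * x * (a g)⁻¹ = g * x * g⁻¹
    have e2 : a g * x = g * x * g⁻¹ * a g := by
      rw [← e]; group
    calc x * (g⁻¹ * a g) = g⁻¹ * (g * x * g⁻¹ * a g) := by group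
      _ = g⁻¹ * (a g * x) := by rw [e2]
      _ = g⁻¹ * a g * x := by group
  have hcH := h3 hc
  have hac : a (g⁻¹ * a g) = g⁻¹ * a g := h _ hcH
  have hpow : ∀ k : ℕ, (a ^ k) g = g * (g⁻¹ * a g) ^ k := by
    intro k
    induction k with
    | zero => simp
    | succ k ih =>
      rw [pow_succ', MulAut.mul_apply, ih, map_mul, map_pow, hac, pow_succ', ← mul_assoc,
        ← mul_assoc, mul_inv_cancel, one_mul]
  have hk := hpow (orderOf a)
  rw [pow_orderOf_eq_one, MulAut.one_apply] at hk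
  have hck : (g⁻¹ * a g) ^ orderOf a = 1 := by
    have := mul_left_cancel (a := g) (b := 1) (c := (g⁻¹ * a g) ^ orderOf a) (by rw [mul_one]; exact hk)
    exact this.symm
  have hd : orderOf (g⁻¹ * a g) ∣ orderOf a := orderOf_dvd_of_pow_eq_one hck
  obtain ⟨m, hm⟩ := IsPGroup.iff_orderOf.mp hG (g⁻¹ * a g)
  have hcop : Nat.Coprime (orderOf (g⁻¹ * a g)) (orderOf (g⁻¹ * a g)) := by
    have h1 : Nat.Coprime (orderOf (g⁻¹ * a g)) (p ^ m) :=
      (Nat.Coprime.coprime_dvd_left hd ha).pow_right m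
    rwa [← hm] at h1
  have h1 : orderOf (g⁻¹ * a g) = 1 := by
    rwa [Nat.coprime_self] at hcop
  rw [orderOf_eq_one_iff] at h1
  have : a g = g * (g⁻¹ * a g) := by group
  rw [this, h1, mul_one]

end Cfsg.Agent.S0121
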