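import Cfsg.Statements.S0120
import Mathlib
import Cfsg.Agent.Lib.H16.ClassTwo
import Cfsg.Agent.Lib.H1.PGroupBasic
import Cfsg.Agent.S0093
import Cfsg.Agent.S0121

set_option autoImplicit false
open Cfsg

namespace Cfsg.Agent.S0120

open Cfsg.Agent.Lib.H16
open scoped commutatorElement

universe u

/-- A `p'`-automorphism `a` of a `p`-group fixing every "commutator" `g⁻¹ a(g)` is trivial. -/
theorem eq_one_of_fixes_comm {G : Type*} [Group G] {p : ℕ} [Fact p.Prime]
    (hG : IsPGroup p G) (a : MulAut G) (ha : Nat.Coprime (orderOf a) p)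
    (h : ∀ g : G, a (g⁻¹ * a g) = g⁻¹ * a g) : a = 1 := by
  ext g
  rw [MulAut.one_apply]
  have hac := h g
  have hpow : ∀ k : ℕ, (a ^ k) g = g * (g⁻¹ * a g) ^ k := by
    intro k
    induction k with
    | zero => simp
    | succ k ih =>
      rw [pow_succ', MulAut.mul_apply, ih, map_mul, map_pow, hac, pow_succ', ← mul_assoc,
        ← mul_assoc, mul_inv_cancel, one_mul]
  have hk := hpow (orderOf a)
  rw [pow_orderOf_eq_one, MulAut.one_apply] at hk
  have hck : (g⁻¹ * a g) ^ orderOf a = 1 := by
    have := mul_left_cancel (a := g) (b := 1) (c := (g⁻¹ * a g) ^ orderOf a)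
      (by rw [mul_one]; exact hk)
    exact this.symm
  have hd : orderOf (g⁻¹ * a g) ∣ orderOf a := orderOf_dvd_of_pow_eq_one hck
  obtain ⟨m, hm⟩ := IsPGroup.iff_orderOf.mp hG (g⁻¹ * a g)
  have hcop : Nat.Coprime (orderOf (g⁻¹ * a g)) (orderOf (g⁻¹ * a g)) := by
    have h1 : Nat.Coprime (orderOf (g⁻¹ * a g)) (p ^ m) :=
      (Nat.Coprime.coprime_dvd_left hd ha).pow_right m
    rwa [← hm] at h1
  have h1 : orderOf (g⁻¹ * a g) = 1 := by
    rwa [Nat.coprime_self] at hcop
  rw [orderOf_eq_one_iff] at h1
  have : a g = g * (g⁻¹ * a g) := by group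
  rw [this, h1, mul_one]

/-- The subgroup of `p`-th powers, when `x ↦ x ^ p` is multiplicative. -/
def powSub {G : Type*} [Group G] (p : ℕ) (hmul : ∀ x y : G, (x * y) ^ p = x ^ p * y ^ p) :
    Subgroup G :=
  (MonoidHom.mk' (fun x : G => x ^ p) hmul).range

theorem mem_powSub {G : Type*} [Group G] {p : ℕ} {hmul : ∀ x y : G, (x * y) ^ p = x ^ p * y ^ p}
    {z : G} : z ∈ powSub p hmul ↔ ∃ x : G, x ^ p = z := Iff.rfl

theorem powSub_characteristic {G : Type*} [Group G] (p : ℕ)
    (hmul : ∀ x y : G, (x * y) ^ p = x ^ p * y ^ p) : (powSub p hmul).Characteristic := by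
  rw [Subgroup.characteristic_iff_map_le]
  rintro φ _ ⟨z, hz, rfl⟩
  obtain ⟨x, rfl⟩ := mem_powSub.mp hz
  exact mem_powSub.mpr ⟨φ x, by simp⟩

theorem core {p : ℕ} [Fact p.Prime] (hp : p ≠ 2) :
    ∀ (N : ℕ) (G : Type u) [Group G] [Finite G], Nat.card G = N → IsPGroup p G →
      ∀ a : MulAut G, Nat.Coprime (orderOf a) p → (∀ x : G, x ^ p = 1 → a x = x) → a = 1 := by
  intro N
  induction N using Nat.strong_induction_on with
  | _ N ih =>
  intro G _ _ hN hG a ha hfix
  have hpp : p.Prime := Fact.out
  have hodd : Odd p := hpp.odd_of_ne_two hp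
  obtain ⟨H, hHchar, h1, h2, h3⟩ := Cfsg.Agent.S0093.result hG
  by_cases hHtop : H = ⊤
  · -- class two case
    have hcent : ∀ z ∈ Subgroup.centralizer (H : Set G), ∀ g : G, Commute z g := by
      intro z hz g
      rw [hHtop] at hz
      exact (Subgroup.mem_centralizer_iff.mp hz g (Subgroup.mem_top g)).symm
    have hcomm : ∀ x g k : G, Commute ⁅x, g⁆ k := by
      intro x g k
      apply hcent
      have : ⁅x, g⁆ ∈ ⁅H, (⊤ : Subgroup G)⁆ :=
        Subgroup.commutator_mem_commutator (by rw [hHtop]; exact Subgroup.mem_top x)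
          (Subgroup.mem_top g)
      exact (h2 this).2
    have hpowc : ∀ x g : G, Commute (x ^ p) g := by
      intro x g
      apply hcent
      have hxH : x ∈ H := by rw [hHtop]; exact Subgroup.mem_top x
      have hHp : IsPGroup p H := hG.to_subgroup H
      have h4 := Cfsg.Agent.Lib.H1.isPGroup_pow_mem_frattini hHp (⟨x, hxH⟩ : H)
      apply h1
      exact ⟨_, h4, rfl⟩
    have hmul : ∀ x y : G, (x * y) ^ p = x ^ p * y ^ p := by
      intro x y
      have hc : y * x = x * y * ⁅y⁻¹, x⁻¹⁆ := by rw [commutatorElement_def]; group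
      have hcp : ⁅y⁻¹, x⁻¹⁆ ^ p = 1 :=
        pow_eq_one_of_pow_commute hc (hcomm _ _ y) (hpowc y x)
      exact mul_pow_eq_of_central hc (hcomm _ _ x) (hcomm _ _ y) hodd hcp
    set K : Subgroup G := powSub p hmul with hK
    have hKchar : K.Characteristic := powSub_characteristic p hmul
    by_cases htriv : Subsingleton G
    · ext g
      exact Subsingleton.elim _ _
    · rw [not_subsingleton_iff_nontrivial] at htriv
      -- an element of order p
      have hKlt : Nat.card K < N := by
        obtain ⟨g, hg⟩ := exists_ne (1 : G)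
        obtain ⟨j, hj1, hjp⟩ := Cfsg.Agent.S0093.exists_pow_ne_one_pow_eq_one hG hg
        -- the power hom has nontrivial kernel
        let θ : G →* G := MonoidHom.mk' (fun x : G => x ^ p) hmul
        have hker : θ.ker ≠ ⊥ := by
          intro hb
          have : g ^ (p ^ j) ∈ θ.ker := hjp
          rw [hb, Subgroup.mem_bot] at this
          exact hj1 this
        have h5 : Nat.card K = θ.ker.index := (Subgroup.index_ker θ).symm
        have h6 := Subgroup.card_mul_index θ.ker
        have h7 : 1 < Nat.card θ.ker := by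
          rw [Subgroup.one_lt_card_iff_ne_bot]; exact hker
        rw [h5, ← hN, ← h6]
        have h8 : 0 < θ.ker.index := Nat.pos_of_ne_zero Subgroup.index_ne_zero_of_finite
        nlinarith
      have haK : MulAut.characteristic K a = 1 := by
        apply ih (Nat.card K) hKlt K rfl (hG.to_subgroup K)
        · exact Nat.Coprime.coprime_dvd_left (orderOf_map_dvd _ a) ha
        · intro x hx
          apply Subtype.ext
          have h5 : ((MulAut.characteristic K a x : K) : G) = a (x : G) := rfl
          rw [h5]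
          apply hfix
          have := congrArg Subtype.val hx
          simpa using this
      have hKfix : ∀ k ∈ K, a k = k := by
        intro k hk
        have h5 : ((MulAut.characteristic K a ⟨k, hk⟩ : K) : G) = a k := rfl
        rw [haK] at h5
        exact h5.symm
      apply eq_one_of_fixes_comm hG a ha
      intro g
      apply hfix
      rw [hmul, inv_pow, ← map_pow, hKfix (g ^ p) (mem_powSub.mpr ⟨g, rfl⟩), inv_mul_cancel]
  · -- proper critical subgroup
    have := hHchar
    have hHlt : Nat.card H < N := by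
      rw [← hN]
      rw [← H.index_mul_card]
      exact lt_mul_of_one_lt_left Nat.card_pos (Subgroup.one_lt_index_of_ne_top hHtop)
    have haH : MulAut.characteristic H a = 1 := by
      apply ih (Nat.card H) hHlt H rfl (hG.to_subgroup H)
      · exact Nat.Coprime.coprime_dvd_left (orderOf_map_dvd _ a) ha
      · intro x hx
        apply Subtype.ext
        have h5 : ((MulAut.characteristic H a x : H) : G) = a (x : G) := rfl
        rw [h5]
        apply hfix
        have := congrArg Subtype.val hx
        simpa using this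
    have hHfix : ∀ x ∈ H, a x = x := by
      intro k hk
      have h5 : ((MulAut.characteristic H a ⟨k, hk⟩ : H) : G) = a k := rfl
      rw [haH] at h5
      exact h5.symm
    exact Cfsg.Agent.S0121.result hG H hHchar h1 h2 h3 a ha hHfix

/-- For odd p, a p'-automorphism of a p-group acting trivially on the elements of order dividing p is trivial. -/
theorem result {G : Type*} [Group G] [Finite G] {p : ℕ} [Fact p.Prime] (hp : p ≠ 2) (hG : IsPGroup p G) (a : MulAut G) (ha : Nat.Coprime (orderOf a) p) (h : ∀ x : G, x ^ p = 1 → a x = x) : a = 1 :=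
  core hp (Nat.card G) G rfl hG a ha h

end Cfsg.Agent.S0120
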