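import Cfsg.Statements.S1450
-- import your own Cfsg.Agent.* helpers here
import Mathlib
import Cfsg.Agent.Lib.H16.RankTwoSolv
import Cfsg.Agent.Lib.L0.NPCBasic
import Cfsg.Agent.Lib.L0.TransferPC

set_option autoImplicit false
open Cfsg

namespace Cfsg.Agent.S1450

open Cfsg.Agent.Lib.H16.RankTwo

/-- An odd prime `q ≠ p` dividing `p ^ 2 - 1` for an odd prime `p` is smaller than `p`. -/
theorem lt_of_dvd_sq_sub_one {p q : ℕ} (hp : p.Prime) (hq : q.Prime) (hp2 : p ≠ 2) (hq2 : q ≠ 2)
    (h : q ∣ p ^ 2 - 1) : q < p := by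
  have hpodd : Odd p := hp.odd_of_ne_two hp2
  have hqodd : Odd q := hq.odd_of_ne_two hq2
  have hp1 : 2 ≤ p := hp.two_le
  have hfac : p ^ 2 - 1 = (p - 1) * (p + 1) := by
    obtain ⟨k, rfl⟩ : ∃ k, p = k + 1 := ⟨p - 1, by omega⟩
    apply Nat.sub_eq_of_eq_add
    simp only [Nat.add_sub_cancel]
    ring
  rw [hfac] at h
  rcases (Nat.Prime.dvd_mul hq).mp h with h | h
  · have := Nat.le_of_dvd (by omega) h
    omega
  · have h2 : 2 ∣ p + 1 := by
      obtain ⟨k, hk⟩ := hpodd
      exact ⟨k + 1, by omega⟩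
    have hcop : Nat.Coprime 2 q := (Nat.coprime_primes Nat.prime_two hq).mpr (Ne.symm hq2)
    have h3 : 2 * q ∣ p + 1 := Nat.Coprime.mul_dvd_of_dvd_of_dvd hcop h2 h
    have := Nat.le_of_dvd (by omega) h3
    omega

/-- Let G be a solvable group of odd order, p a prime dividing its order with G having no elementary abelian subgroup of order p ^ 3. Then every prime dividing the index of O_{p'}(G) is at most p; if p = 3 or p is the smallest prime divisor of #G then G has a normal p-complement; the derived subgroup G' has a normal p-complement; every subgroup of G' of order coprime to p lies in O_{p'}(G'); and G/O_{p',p}(G) is abelian of order coprime to p. -/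
theorem result {G : Type*} [Group G] [Finite G] [Group.IsSolvable G] (hodd : Odd (Nat.card G)) (p : ℕ) [Fact p.Prime] (hpG : p ∣ Nat.card G) (hr : Cfsg.PRankLE p 2 G) :
    (∀ q : ℕ, q.Prime → q ∣ (Cfsg.pPrimeCore p G).index → q ≤ p) ∧
      ((p = 3 ∨ ∀ q : ℕ, q.Prime → q ∣ Nat.card G → p ≤ q) → Cfsg.HasNormalPComplement p G) ∧
      Cfsg.HasNormalPComplement p ↥(commutator G) ∧
      (∀ L : Subgroup ↥(commutator G), (Nat.card L).Coprime p → L ≤ Cfsg.pPrimeCore p ↥(commutator G)) ∧
      commutator G ≤ Cfsg.pPrimePCore p G ∧ ((Cfsg.pPrimePCore p G).index).Coprime p := by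
  classical
  have hpp : p.Prime := Fact.out
  have hp2 : p ≠ 2 := by
    intro h
    rw [h] at hpG
    obtain ⟨k, hk⟩ := hodd
    omega
  have hs : Group.IsSolvable G := inferInstance
  obtain ⟨h1, h2, h3⟩ := structure_quotient hp2 hs hodd hr
  set N : Subgroup G := Cfsg.pPrimeCore p G with hN
  set π : G →* G ⧸ N := QuotientGroup.mk' N with hπ
  have hsurj : Function.Surjective π := QuotientGroup.mk'_surjective N
  have hNc : (Nat.card N).Coprime p := Cfsg.Agent.Lib.H22.card_pPrimeCore_coprime p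
  have hNp : ¬ p ∣ Nat.card N := fun h =>
    hpp.one_lt.ne' (Nat.eq_one_of_dvd_coprimes hNc h dvd_rfl)
  have hcardQ : Nat.card (G ⧸ N) ∣ Nat.card G := by
    rw [← Subgroup.index_eq_card]
    exact Subgroup.index_dvd_card _
  have hq2 : ∀ q : ℕ, q ∣ Nat.card G → q ≠ 2 := by
    intro q hq h
    rw [h] at hq
    obtain ⟨k, hk⟩ := hodd
    omega
  have hlt : ∀ q : ℕ, q.Prime → q ≠ p → q ∣ Nat.card (G ⧸ N) → q < p := by
    intro q hq hqp hqd
    exact lt_of_dvd_sq_sub_one hpp hq hp2 (hq2 q (hqd.trans hcardQ)) (h3 q hq hqp hqd)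
  set M : Subgroup G := Cfsg.pPrimePCore p G with hM
  have hMdef : M = (Cfsg.pCore p (G ⧸ N)).comap π := rfl
  have hcommM : commutator G ≤ M := by
    rw [hMdef, ← Subgroup.map_le_iff_le_comap]
    refine le_trans ?_ h1
    rw [commutator_def, Subgroup.map_commutator, commutator_def]
    exact Subgroup.commutator_mono le_top le_top
  have hNM : N ≤ M := by
    intro x hx
    rw [hMdef, Subgroup.mem_comap, hπ, QuotientGroup.mk'_apply, (QuotientGroup.eq_one_iff x).mpr hx]
    exact Subgroup.one_mem _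
  -- `M` has a normal `p`-complement
  have hMnpc : Cfsg.HasNormalPComplement p ↥M := by
    haveI : (N.subgroupOf M).Normal := Subgroup.normal_subgroupOf
    apply Cfsg.Agent.Lib.L0.hasNormalPComplement_of_normal (N.subgroupOf M)
    · rw [Nat.card_congr (Subgroup.subgroupOfEquivOfLe hNM).toEquiv]
      exact hNp
    · have h4 : N.relIndex M = Nat.card (Cfsg.pCore p (G ⧸ N)) := by
        have h5 := Subgroup.relIndex_ker π (K := M)
        rw [hMdef, Subgroup.map_comap_eq_self_of_surjective hsurj, hπ, QuotientGroup.ker_mk'] at h5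
        exact h5
      obtain ⟨k, hk⟩ := IsPGroup.iff_card.mp (Cfsg.Agent.Lib.H1.pCore_isPGroup p (G ⧸ N))
      exact ⟨k, by rw [← hk, ← h4]; rfl⟩
  have hDnpc : Cfsg.HasNormalPComplement p ↥(commutator G) :=
    Cfsg.Agent.Lib.L0.HasNormalPComplement.of_le hcommM hMnpc
  refine ⟨?_, ?_, hDnpc, ?_, hcommM, ?_⟩
  · intro q hq hqd
    rw [Subgroup.index_eq_card] at hqd
    by_cases hqp : q = p
    · exact hqp.le
    · exact (hlt q hq hqp hqd).le
  · intro hyp
    have hQp : IsPGroup p (G ⧸ N) := by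
      apply IsPGroup.of_card (n := (Nat.card (G ⧸ N)).primeFactorsList.length)
      apply Nat.eq_prime_pow_of_unique_prime_dvd Nat.card_pos.ne'
      intro q hq hqd
      by_contra hqp
      have hqlt := hlt q hq hqp hqd
      rcases hyp with h | h
      · have hq2' := hq2 q (hqd.trans hcardQ)
        have := hq.two_le
        omega
      · have := h q hq (hqd.trans hcardQ)
        omega
    exact Cfsg.Agent.Lib.L0.hasNormalPComplement_of_quotient N hNp
      (Cfsg.Agent.Lib.L0.hasNormalPComplement_of_isPGroup hQp)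
  · intro L hL
    obtain ⟨ND, hNDn, hpND, k, hk⟩ := Cfsg.Agent.Lib.L0.HasNormalPComplement.exists_normal hDnpc
    haveI := hNDn
    have hle : ND ≤ Cfsg.pPrimeCore p ↥(commutator G) :=
      Cfsg.Agent.Lib.H22.le_pPrimeCore p ND hNDn
        ((Nat.Prime.coprime_iff_not_dvd hpp).mpr hpND).symm
    intro l hl
    apply hle
    apply Cfsg.Agent.Lib.L0.mem_of_coprime_orderOf_of_index_pow ND k hk l
    have h5 : orderOf (⟨l, hl⟩ : L) = orderOf l := Subgroup.orderOf_mk l hl
    rw [← h5]
    exact Nat.Coprime.coprime_dvd_left (orderOf_dvd_natCard _) hL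
  · rw [hMdef, Subgroup.index_comap_of_surjective _ hsurj]
    exact ((Nat.Prime.coprime_iff_not_dvd hpp).mpr h2).symm

end Cfsg.Agent.S1450
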