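import Cfsg.Statements.S1398
-- import your own Cfsg.Agent.* helpers here
import Mathlib
import Cfsg.Agent.Lib.H16.BGl
import Cfsg.Agent.Lib.H7.CoprimeGen

set_option autoImplicit false
open Cfsg

namespace Cfsg.Agent.S1398

open Cfsg.Agent.Lib.H16.BG

/-- Let G be a minimal simple group of odd order, M a maximal subgroup, p a prime, and B a noncyclic elementary abelian p-subgroup of M. If C_G(b) ≤ M for every non-identity b ∈ B, or if every subgroup of G of order coprime to p normalized by B is contained in M, then M is the only maximal subgroup of G containing B. -/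
theorem result {G : Type*} [Group G] [Finite G] (hG : Cfsg.IsMinSimpleOddOrder G)
    (M : Subgroup G) (hM : IsCoatom M) (p : ℕ) [Fact p.Prime] (B : Subgroup G) (hBM : B ≤ M)
    (hBe : Cfsg.IsElementaryAbelian p B) (hBnc : ¬ IsCyclic B)
    (h : (∀ b ∈ B, b ≠ 1 → Subgroup.centralizer ({b} : Set G) ≤ M) ∨
      ∀ Y ∈ Cfsg.invSubgroups ⊤ B (Cfsg.primesNotDvd p), Y ≤ M) :
    Cfsg.InUniqueMaximal B := by
  have hpp : p.Prime := Fact.out
  have hBp : IsPGroup p B := Cfsg.Agent.Lib.H7.BG7.isPGroup_of_elemAb hBe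
  -- subgroups of index at most `p` in `B` are nontrivial
  have hsub : ∀ B' : Subgroup G, B' ≤ B → B'.relIndex B ≤ p → B' ≠ ⊥ := by
    rintro B' hB'B hri rfl
    apply hBnc
    rw [Subgroup.relIndex_bot_left] at hri
    obtain ⟨k, hk⟩ := IsPGroup.iff_card.1 hBp
    have hk1 : k ≤ 1 := by
      by_contra hlt
      push Not at hlt
      have : p ^ 2 ≤ p ^ k := Nat.pow_le_pow_right hpp.pos hlt
      have h2 : p < p ^ 2 := by nlinarith [hpp.one_lt]
      omega
    interval_cases k
    · rw [pow_zero] at hk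
      haveI : Subsingleton B := (Nat.card_eq_one_iff_unique.1 hk).1
      exact isCyclic_of_subsingleton
    · rw [pow_one] at hk
      exact isCyclic_of_prime_card hk
  have hB1 : B ≠ ⊥ := hsub B le_rfl (by rw [Subgroup.relIndex_self]; exact hpp.one_lt.le)
  have hall : ∀ Y : Subgroup G, (Nat.card Y).Coprime p →
      B ≤ Subgroup.normalizer (Y : Set G) → Y ≤ M := by
    intro Y hY hBY
    rcases h with h | h
    · have hcomm : ∀ a ∈ B, ∀ b ∈ B, a * b = b * a := by
        intro a ha b hb
        exact congrArg Subtype.val (hBe.1.is_comm.comm ⟨a, ha⟩ ⟨b, hb⟩)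
      refine (Cfsg.Agent.Lib.H7.le_hypGen p hcomm hBe.2 hY hBY).trans ?_
      unfold Cfsg.Agent.Lib.H7.hypGen
      apply iSup_le
      rintro ⟨B', hB'B, hri⟩
      have hne := hsub B' hB'B hri
      obtain ⟨b, hb1⟩ := (Subgroup.ne_bot_iff_exists_ne_one).1 hne
      have hbB' : (b : G) ∈ B' := b.2
      have hb1' : (b : G) ≠ 1 := fun h0 => hb1 (Subtype.ext h0)
      refine inf_le_right.trans ((Subgroup.centralizer_le ?_).trans (h b (hB'B hbB') hb1'))
      intro x hx
      rw [Set.mem_singleton_iff] at hx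
      rw [hx]; exact hbB'
    · apply h Y
      refine ⟨le_top, ?_, hBY⟩
      exact (isPiCard_primesNotDvd_iff Nat.card_pos.ne').2 hY.symm
  exact (SigIn.mk hM hBM hBp hB1 hall).inUniqueMaximal hG

end Cfsg.Agent.S1398
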