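import Cfsg.Statements.S1451
-- import your own Cfsg.Agent.* helpers here
import Mathlib
import Cfsg.Agent.Lib.H16.RankTwoFitD
import Cfsg.Agent.Lib.H16.RankTwoFitE

set_option autoImplicit false
open Cfsg

namespace Cfsg.Agent.S1451

open Cfsg.Agent.Lib.H16.RankTwo

theorem pRankLE_of_injective {H K : Type*} [Group H] [Group K] {p k : ℕ} (f : H →* K)
    (hf : Function.Injective f) (h : Cfsg.PRankLE p k K) : Cfsg.PRankLE p k H := by
  intro A hA hexp
  have h1 : Nat.card (A.map f) = Nat.card A := Subgroup.card_map_of_injective hf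
  rw [← h1]
  apply h
  · exact Subgroup.map_isMulCommutative A f
  · rintro _ ⟨a, ha, rfl⟩
    rw [← map_pow, hexp a ha, map_one]

/-- Let G be a solvable group of odd order such that G, or its Fitting subgroup, has no elementary abelian subgroup of order q ^ 3 for any prime q. Then G' is nilpotent; for every Sylow subgroup S of G, every characteristic subgroup T of S with T ≤ [S, S] is normal in G; and for every prime p, G has a characteristic subgroup that is a Hall subgroup for the set of primes greater than p. -/
theorem result {G : Type*} [Group G] [Finite G] [Group.IsSolvable G] (hodd : Odd (Nat.card G)) (hr : Cfsg.RankLE 2 G ∨ Cfsg.RankLE 2 (Cfsg.fittingSubgroup G)) :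
    Group.IsNilpotent ↥(commutator G) ∧
      (∀ (q : ℕ) [Fact q.Prime] (S : Sylow q G) (T : Subgroup ↥(S : Subgroup G)), T.Characteristic → T.map (S : Subgroup G).subtype ≤ ⁅(S : Subgroup G), (S : Subgroup G)⁆ →
        (T.map (S : Subgroup G).subtype).Normal) ∧
      ∀ p : ℕ, ∃ N : Subgroup G, N.Characteristic ∧ Cfsg.IsPiHall {q | q.Prime ∧ p < q} N := by
  classical
  have hs : Group.IsSolvable G := inferInstance
  have hrk : ∀ q : ℕ, q.Prime → Cfsg.PRankLE q 2 ↥(Cfsg.pCore q G) := by
    intro q hq
    rcases hr with h | h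
    · exact pRankLE_subgroup (h q hq) _
    · have : Fact q.Prime := ⟨hq⟩
      have hle : Cfsg.pCore q G ≤ Cfsg.fittingSubgroup G :=
        Cfsg.Agent.Lib.H1.le_fittingSubgroup (Cfsg.pCore_normal q G)
          (Cfsg.Agent.Lib.H1.pCore_isPGroup q G).isNilpotent
      exact pRankLE_of_injective (Subgroup.inclusion hle) (Subgroup.inclusion_injective hle)
        (h q hq)
  refine ⟨?_, ?_, ?_⟩
  · have hle := commutator_le_fittingSubgroup hs hodd hrk
    haveI : Group.IsNilpotent ↥(Cfsg.fittingSubgroup G) :=
      Cfsg.Agent.Lib.H1.fittingSubgroup_isNilpotent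
    have hinj := Subgroup.inclusion_injective hle
    exact Group.nilpotent_of_mulEquiv (MonoidHom.ofInjective hinj).symm
  · intro q hq S T hT hle
    exact normal_of_char_le_commutator hs hodd hrk q S T hT hle
  · intro p
    exact ⟨Cfsg.piCore {q | q.Prime ∧ p < q} G, inferInstance, isPiHall_piCore hs hodd hrk p⟩

end Cfsg.Agent.S1451
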