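import Cfsg.Statements.S3770
import Cfsg.Agent.Lib.H19.ModRepBridge
import Cfsg.Agent.Lib.H20.FrobGiven

set_option autoImplicit false
open Cfsg

namespace Cfsg.Agent.S3770

open Cfsg.Agent.Lib.H19.ModRep Cfsg.Agent.Lib.H1.QuadMul
open scoped TensorProduct commutatorElement

/-- Let G and V be subgroups of a finite group with G a Frobenius group with complement R of prime order and kernel K, G normalizing V, and V an elementary abelian ℓ-group for a prime ℓ not dividing the order of G. If C_V(R) has order ℓ, then the derived subgroup of K centralizes V. -/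
theorem result {X : Type*} [Group X] [Finite X] (G : Subgroup X) (V : Subgroup X) {ℓ : ℕ} (hℓ : ℓ.Prime) (hV : Cfsg.IsElementaryAbelian ℓ V) (hℓG : ¬ ℓ ∣ Nat.card G) (hGV : G ≤ Subgroup.normalizer (V : Set X)) (R : Subgroup ↥G) (hR : Cfsg.IsFrobeniusComplement R) (hRp : (Nat.card R).Prime) (hCV : Nat.card ↥(V ⊓ Subgroup.centralizer ((R.map G.subtype : Subgroup X) : Set X)) = ℓ) : ⁅Subgroup.closure (Subtype.val '' Cfsg.frobeniusKernel R), Subgroup.closure (Subtype.val '' Cfsg.frobeniusKernel R)⁆ ≤ Subgroup.centralizer (V : Set X) := by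
  classical
  haveI : Fact ℓ.Prime := ⟨hℓ⟩
  haveI : IsEA ℓ ↥V := isEA_of hV
  set N := Cfsg.Agent.Lib.H18.frobKer R hR with hN
  have hNcoe : Cfsg.frobeniusKernel R = (N : Set ↥G) :=
    (Cfsg.Agent.Lib.H18.coe_frobKer R hR).symm
  set r := Nat.card R with hr
  -- a generator of `R`
  obtain ⟨x, hxR, hx1⟩ : ∃ x ∈ R, x ≠ 1 := by
    obtain ⟨x, hx⟩ := Subgroup.ne_bot_iff_exists_ne_one.mp hR.1
    exact ⟨x.1, x.2, fun h => hx (Subtype.ext h)⟩
  have hxord : orderOf x = r := by
    have h1 : orderOf (⟨x, hxR⟩ : R) ∣ r := orderOf_dvd_natCard _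
    have h2 : orderOf (⟨x, hxR⟩ : R) ≠ 1 := by
      intro h
      apply hx1
      have := orderOf_eq_one_iff.mp h
      exact congrArg Subtype.val this
    have h3 := (Nat.dvd_prime hRp).mp h1
    rw [← Subgroup.orderOf_mk x hxR]
    exact h3.resolve_left h2
  have hRx : ∀ y ∈ R, ∃ i : ℕ, y = x ^ i := by
    intro y hy
    haveI : Fact r.Prime := ⟨hRp⟩
    have h1 : Subgroup.zpowers (⟨x, hxR⟩ : R) = ⊤ :=
      zpowers_eq_top_of_prime_card hr.symm (fun h => hx1 (congrArg Subtype.val h))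
    have h2 : (⟨y, hy⟩ : R) ∈ Subgroup.zpowers (⟨x, hxR⟩ : R) := by rw [h1]; trivial
    obtain ⟨i, hi⟩ := (mem_powers_iff_mem_zpowers.mpr h2)
    refine ⟨i, ?_⟩
    have := congrArg (Subtype.val : R → ↥G) hi
    simpa using this.symm
  have hF : FrobData N x r :=
    { normal := Cfsg.Agent.Lib.H20.FG.normal hR hNcoe
      pos := hRp.pos
      pow := by rw [← hxord]; exact pow_orderOf_eq_one x
      fpf := by
        intro j hj0 hjr n hn hcomm
        have hxj : x ^ j ≠ 1 := by
          intro h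
          have := orderOf_dvd_of_pow_eq_one h
          rw [hxord] at this
          exact absurd (Nat.le_of_dvd hj0 this) (by omega)
        exact Cfsg.Agent.Lib.H20.FG.fpf hR hNcoe (x ^ j) (R.pow_mem hxR j) hxj n hn hcomm
      nil := Cfsg.Agent.Lib.H20.FG.nilpotent hR hNcoe }
  -- the representation
  set ρ := conjRep (ℓ := ℓ) G V hGV with hρ
  let k := AlgebraicClosure (ZMod ℓ)
  have hk : (Nat.card ↥G : k) ≠ 0 := by
    intro h
    apply hℓG
    exact (CharP.cast_eq_zero_iff k ℓ _).mp h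
  haveI : Module.Finite (ZMod ℓ) (EA ℓ ↥V) := Module.Finite.of_finite
  -- the fixed vectors of `x` lie on a line
  have hline : ∃ v₀ : EA ℓ ↥V, ∀ v : EA ℓ ↥V, ρ x v = v → ∃ c : ZMod ℓ, v = c • v₀ := by
    let S := {v : EA ℓ ↥V // ρ x v = v}
    let e : S ≃ ↥(V ⊓ Subgroup.centralizer ((R.map G.subtype : Subgroup X) : Set X)) :=
      { toFun := fun v => ⟨((v.1.val : ↥V) : X), by
          refine Subgroup.mem_inf.mpr ⟨v.1.val.2, ?_⟩
          rw [Subgroup.mem_centralizer_iff]
          rintro _ ⟨y, hy, rfl⟩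
          obtain ⟨i, rfl⟩ := hRx y hy
          have h1 := (conjRep_eq_self_iff G V hGV x v.1).mp v.2
          have h2 : Commute ((x : X)) ((v.1.val : ↥V) : X) := h1
          have h3 := h2.pow_left i
          simpa using h3.eq⟩
        invFun := fun u => ⟨EA.of ℓ ⟨u.1, (Subgroup.mem_inf.mp u.2).1⟩, by
          rw [hρ, conjRep_eq_self_iff]
          have h1 := (Subgroup.mem_inf.mp u.2).2
          rw [Subgroup.mem_centralizer_iff] at h1
          exact h1 (x : X) ⟨x, hxR, rfl⟩⟩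
        left_inv := fun v => rfl
        right_inv := fun u => rfl }
    have hcardS : Nat.card S = ℓ := by rw [Nat.card_congr e, hCV]
    haveI : Finite S := Nat.finite_of_card_ne_zero (by rw [hcardS]; exact hℓ.ne_zero)
    have hzero : ρ x (0 : EA ℓ ↥V) = 0 := map_zero _
    obtain ⟨s, hs⟩ : ∃ s : S, s ≠ ⟨0, hzero⟩ := by
      haveI : Nontrivial S := (Finite.one_lt_card_iff_nontrivial).mp (by rw [hcardS]; exact hℓ.one_lt)
      exact exists_ne _
    have hs0 : s.1 ≠ 0 := fun h => hs (Subtype.ext h)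
    let φ : ZMod ℓ → S := fun c => ⟨c • s.1, by rw [map_smul, s.2]⟩
    have hφinj : Function.Injective φ := by
      intro c c' h
      have h1 : c • s.1 = c' • s.1 := congrArg Subtype.val h
      have h2 : (c - c') • s.1 = 0 := by rw [sub_smul, h1, sub_self]
      rcases smul_eq_zero.mp h2 with h3 | h3
      · exact sub_eq_zero.mp h3
      · exact absurd h3 hs0
    have hφbij : Function.Bijective φ := by
      apply hφinj.bijective_of_nat_card_le
      rw [hcardS, Nat.card_zmod]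
    refine ⟨s.1, fun v hv => ?_⟩
    obtain ⟨c, hc⟩ := hφbij.2 ⟨v, hv⟩
    exact ⟨c, (congrArg Subtype.val hc).symm⟩
  obtain ⟨v₀, hv₀⟩ := hline
  have hdep := dep_bc k hk ρ x v₀ hv₀
  have hcomm := comm_of_dep hk hF _ (k ⊗[ZMod ℓ] EA ℓ ↥V) (bc k ρ) rfl hdep
  have hcomm' : ∀ n ∈ N, ∀ n' ∈ N, ρ n * ρ n' = ρ n' * ρ n :=
    fun n hn n' hn' => comm_of_bc_comm k ρ (hcomm n hn n' hn')
  -- the conclusion
  have hK : Subgroup.closure (Subtype.val '' Cfsg.frobeniusKernel R) = N.map G.subtype := by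
    rw [hNcoe]
    have : (Subtype.val '' (N : Set ↥G) : Set X) = ((N.map G.subtype : Subgroup X) : Set X) := by
      rw [Subgroup.coe_map]
      rfl
    rw [this, Subgroup.closure_eq]
  rw [hK, Subgroup.commutator_le]
  rintro _ ⟨n, hn, rfl⟩ _ ⟨n', hn', rfl⟩
  have h1 : ρ (n * n' * n⁻¹ * n'⁻¹) = 1 := by
    have e1 : ρ (n * n' * n⁻¹ * n'⁻¹) = (ρ n * ρ n') * ρ n⁻¹ * ρ n'⁻¹ := by
      simp only [map_mul]
    rw [e1, hcomm' n hn n' hn']
    simp only [← map_mul]
    rw [show n' * n * n⁻¹ * n'⁻¹ = 1 by group, map_one]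
  have h2 := (conjRep_eq_one_iff G V hGV _).mp h1
  rw [commutatorElement_def]
  simpa using h2

end Cfsg.Agent.S3770
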