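import Mathlib
import Cfsg.Statements.S1460
import Cfsg.Agent.Lib.H1.SchurZassenhaus
import Cfsg.Agent.Lib.H1.Complement

set_option autoImplicit false
open Cfsg
open Cfsg.Agent.Lib.H1
open Pointwise
open scoped commutatorElement

namespace Cfsg.Agent.S1460

theorem conj_smul_eq_map {G : Type*} [Group G] (g : G) (H : Subgroup G) :
    MulAut.conj g • H = H.map (MulAut.conj g).toMonoidHom := rfl

/-- the third claim -/
theorem part_three {G : Type*} [Group G] [Finite G] [Group.IsSolvable G] (K U H : Subgroup G)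
    [hKn : K.Normal] (hKU : K ⊔ U = ⊤) (hH : H ≤ U) (hcop : (Nat.card H).Coprime (Nat.card K))
    (g : G) (hg : H.map (MulAut.conj g).toMonoidHom ≤ U) :
    ∃ u ∈ U, ∃ c ∈ K ⊓ Subgroup.centralizer (H : Set G), g = u * c := by
  -- g = u * k
  have hginv : g⁻¹ ∈ K ⊔ U := by rw [hKU]; exact Subgroup.mem_top _
  obtain ⟨k', hk', u', hu', hku⟩ := Subgroup.mem_sup_of_normal_left.mp hginv
  obtain ⟨u, hu, hudef⟩ : ∃ u ∈ U, u = u'⁻¹ := ⟨_, U.inv_mem hu', rfl⟩
  obtain ⟨k, hk, hkdef⟩ : ∃ k ∈ K, k = k'⁻¹ := ⟨_, K.inv_mem hk', rfl⟩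
  have hguk : g = u * k := by
    rw [hudef, hkdef, ← mul_inv_rev, hku, inv_inv]
  -- H₁ = k H k⁻¹ ≤ U
  have hH₁U : MulAut.conj k • H ≤ U := by
    rw [conj_smul_le_iff]
    intro h hh
    have h1 : g * h * g⁻¹ ∈ U := hg ⟨h, hh, rfl⟩
    have h2 : k * h * k⁻¹ = u⁻¹ * (g * h * g⁻¹) * u := by rw [hguk]; group
    rw [h2]
    exact U.mul_mem (U.mul_mem (U.inv_mem hu) h1) hu
  have hUV : U ≤ Subgroup.normalizer ((K ⊓ U : Subgroup G) : Set G) := le_normalizer_inf_of_normal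
  have hcopV : (Nat.card (K ⊓ U : Subgroup G)).Coprime (Nat.card H) :=
    (Nat.Coprime.coprime_dvd_right (Subgroup.card_dvd_of_le inf_le_left) hcop).symm
  have hdH : Disjoint (K ⊓ U) H := Subgroup.disjoint_of_coprime_natCard hcopV
  have hdH₁ : Disjoint (K ⊓ U) (MulAut.conj k • H) := by
    apply Subgroup.disjoint_of_coprime_natCard
    rw [card_conj_smul]; exact hcopV
  have hsup : (K ⊓ U) ⊔ H = (K ⊓ U) ⊔ MulAut.conj k • H := by
    apply le_antisymm
    · apply sup_le le_sup_left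
      intro h hh
      have h1 : k * h * k⁻¹ ∈ MulAut.conj k • H := conj_mem_conj_smul hh
      have h2 : h * (k * h⁻¹ * k⁻¹) ∈ K ⊓ U := by
        refine ⟨?_, ?_⟩
        · have : h * (k * h⁻¹ * k⁻¹) = (h * k * h⁻¹) * k⁻¹ := by group
          rw [this]
          exact K.mul_mem (hKn.conj_mem k hk h) (K.inv_mem hk)
        · have e : k * h⁻¹ * k⁻¹ = (k * h * k⁻¹)⁻¹ := by group
          rw [e]
          exact U.mul_mem (hH hh) (U.inv_mem (hH₁U h1))
      have e : h = (h * (k * h⁻¹ * k⁻¹)) * (k * h * k⁻¹) := by group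
      rw [e]
      exact Subgroup.mul_mem _ (Subgroup.mem_sup_left h2) (Subgroup.mem_sup_right h1)
    · apply sup_le le_sup_left
      intro x hx
      rw [mem_conj_smul_iff] at hx
      obtain ⟨h, hh, hxh⟩ : ∃ h ∈ H, x = k * h * k⁻¹ := ⟨_, hx, by group⟩
      have hxU : x ∈ U := hH₁U (by rw [hxh]; exact conj_mem_conj_smul hh)
      have h2 : x * h⁻¹ ∈ K ⊓ U := by
        refine ⟨?_, U.mul_mem hxU (U.inv_mem (hH hh))⟩
        have : x * h⁻¹ = k * (h * k⁻¹ * h⁻¹) := by rw [hxh]; group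
        rw [this]
        exact K.mul_mem hk (hKn.conj_mem _ (K.inv_mem hk) h)
      have e : x = (x * h⁻¹) * h := by group
      rw [e]
      exact Subgroup.mul_mem _ (Subgroup.mem_sup_left h2) (Subgroup.mem_sup_right hh)
  obtain ⟨v, hv, hvH⟩ := sz_conj_internal (N := K ⊓ U) (H := H) (K := MulAut.conj k • H)
    (hH.trans hUV) (hH₁U.trans hUV) hcopV hdH hdH₁ hsup (Or.inl inferInstance)
  -- c = v⁻¹ k normalizes H
  have hcK : v⁻¹ * k ∈ K := K.mul_mem (K.inv_mem hv.1) hk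
  have hcnorm : ∀ h ∈ H, (v⁻¹ * k) * h * (v⁻¹ * k)⁻¹ ∈ H := by
    intro h hh
    have h1 : k * h * k⁻¹ ∈ MulAut.conj v • H := by rw [hvH]; exact conj_mem_conj_smul hh
    rw [mem_conj_smul_iff] at h1
    have e : (v⁻¹ * k) * h * (v⁻¹ * k)⁻¹ = v⁻¹ * (k * h * k⁻¹) * v := by group
    rw [e]; exact h1
  have hcC : v⁻¹ * k ∈ Subgroup.centralizer (H : Set G) := by
    rw [Subgroup.mem_centralizer_iff]
    intro h hh
    have h1 : (v⁻¹ * k) * h * (v⁻¹ * k)⁻¹ * h⁻¹ ∈ H := H.mul_mem (hcnorm h hh) (H.inv_mem hh)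
    have h2 : (v⁻¹ * k) * h * (v⁻¹ * k)⁻¹ * h⁻¹ ∈ K := by
      have e : (v⁻¹ * k) * h * (v⁻¹ * k)⁻¹ * h⁻¹ = (v⁻¹ * k) * (h * (v⁻¹ * k)⁻¹ * h⁻¹) := by group
      rw [e]
      exact K.mul_mem hcK (hKn.conj_mem _ (K.inv_mem hcK) h)
    have hd : Disjoint H K := Subgroup.disjoint_of_coprime_natCard hcop
    have h3 := (Subgroup.disjoint_def.mp hd) h1 h2
    have h4 : (v⁻¹ * k) * h = h * (v⁻¹ * k) := by
      calc (v⁻¹ * k) * h = ((v⁻¹ * k) * h * (v⁻¹ * k)⁻¹ * h⁻¹) * (h * (v⁻¹ * k)) := by group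
        _ = h * (v⁻¹ * k) := by rw [h3, one_mul]
    exact h4.symm
  refine ⟨u * v, U.mul_mem hu hv.2, v⁻¹ * k, ⟨hcK, hcC⟩, ?_⟩
  rw [hguk]; group

/-- the first claim -/
theorem part_one {G : Type*} [Group G] [Finite G] (K U H : Subgroup G)
    [hKn : K.Normal] (hKU : K ⊔ U = ⊤) (hH : H ≤ U) (hcop : (Nat.card H).Coprime (Nat.card K)) :
    H ⊓ commutator G = H ⊓ ⁅U, U⁆ := by
  apply le_antisymm
  · -- Step A: G' ≤ K ⊔ U'
    have hA : commutator G ≤ K ⊔ ⁅U, U⁆ := by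
      rw [commutator, Subgroup.commutator_le]
      intro g₁ _ g₂ _
      have hg₁ : g₁ ∈ K ⊔ U := by rw [hKU]; exact Subgroup.mem_top _
      have hg₂ : g₂ ∈ K ⊔ U := by rw [hKU]; exact Subgroup.mem_top _
      obtain ⟨k₁, hk₁, u₁, hu₁, rfl⟩ := Subgroup.mem_sup_of_normal_left.mp hg₁
      obtain ⟨k₂, hk₂, u₂, hu₂, rfl⟩ := Subgroup.mem_sup_of_normal_left.mp hg₂
      have hπ : (QuotientGroup.mk' K) ⁅k₁ * u₁, k₂ * u₂⁆ = (QuotientGroup.mk' K) ⁅u₁, u₂⁆ := by
        have e1 : (QuotientGroup.mk' K) k₁ = 1 := (QuotientGroup.eq_one_iff k₁).mpr hk₁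
        have e2 : (QuotientGroup.mk' K) k₂ = 1 := (QuotientGroup.eq_one_iff k₂).mpr hk₂
        simp only [commutatorElement_def, map_mul, map_inv, e1, e2, one_mul]
      have hmem : ⁅u₁, u₂⁆⁻¹ * ⁅k₁ * u₁, k₂ * u₂⁆ ∈ K := by
        rw [← QuotientGroup.eq_one_iff, ← QuotientGroup.mk'_apply, map_mul, map_inv, hπ]
        exact inv_mul_cancel _
      have e : ⁅k₁ * u₁, k₂ * u₂⁆ = ⁅u₁, u₂⁆ * (⁅u₁, u₂⁆⁻¹ * ⁅k₁ * u₁, k₂ * u₂⁆) := by group
      rw [e]
      exact Subgroup.mul_mem _ (Subgroup.mem_sup_right (Subgroup.commutator_mem_commutator hu₁ hu₂))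
        (Subgroup.mem_sup_left hmem)
    have hDU : ⁅U, U⁆ ≤ U := Subgroup.commutator_le.mpr (fun a ha b hb =>
      U.mul_mem (U.mul_mem (U.mul_mem ha hb) (U.inv_mem ha)) (U.inv_mem hb))
    have hDnorm : ∀ u ∈ U, ∀ d ∈ ⁅U, U⁆, u⁻¹ * d * u ∈ ⁅U, U⁆ := by
      intro u hu d hd
      have h1 : ⁅u⁻¹, d⁆ ∈ ⁅U, U⁆ := Subgroup.commutator_mem_commutator (U.inv_mem hu) (hDU hd)
      have e : u⁻¹ * d * u = ⁅u⁻¹, d⁆ * d := by rw [commutatorElement_def]; group
      rw [e]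
      exact Subgroup.mul_mem _ h1 hd
    rintro h ⟨hhH, hhG⟩
    refine ⟨hhH, ?_⟩
    obtain ⟨k, hk, d, hd, hkd⟩ := Subgroup.mem_sup_of_normal_left.mp (hA hhG)
    have hkU : k ∈ U := by
      have : k = h * d⁻¹ := by rw [← hkd]; group
      rw [this]
      exact U.mul_mem (hH hhH) (U.inv_mem (hDU hd))
    -- powers
    have hpow : ∀ j : ℕ, ∃ dj ∈ ⁅U, U⁆, (k * d) ^ j = k ^ j * dj := by
      intro j
      induction j with
      | zero => exact ⟨1, Subgroup.one_mem _, by simp⟩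
      | succ j ih =>
        obtain ⟨dj, hdj, e⟩ := ih
        refine ⟨(k⁻¹ * dj * k) * d, Subgroup.mul_mem _ (hDnorm k hkU dj hdj) hd, ?_⟩
        rw [pow_succ, e, pow_succ]
        group
    obtain ⟨dm, hdm, hm⟩ := hpow (Nat.card K)
    have hkm : k ^ Nat.card K = 1 := by
      have := pow_card_eq_one' (G := K) (x := ⟨k, hk⟩)
      have h2 := congrArg Subtype.val this
      rwa [Subgroup.coe_pow, Subgroup.coe_one] at h2
    rw [hkd, hkm, one_mul] at hm
    have hhm : h ^ Nat.card K ∈ ⁅U, U⁆ := by rw [hm]; exact hdm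
    have hhH' : h ^ Nat.card H = 1 := by
      have := pow_card_eq_one' (G := H) (x := ⟨h, hhH⟩)
      have h2 := congrArg Subtype.val this
      rwa [Subgroup.coe_pow, Subgroup.coe_one] at h2
    have hbez := Nat.gcd_eq_gcd_ab (Nat.card H) (Nat.card K)
    rw [hcop.gcd_eq_one] at hbez
    have : h = (h ^ Nat.card K) ^ (Nat.gcdB (Nat.card H) (Nat.card K)) := by
      have e : h = h ^ (((Nat.card H : ℕ) : ℤ) * Nat.gcdA (Nat.card H) (Nat.card K) +
          ((Nat.card K : ℕ) : ℤ) * Nat.gcdB (Nat.card H) (Nat.card K)) := by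
        rw [← hbez]; simp
      rw [zpow_add, zpow_mul, zpow_mul, zpow_natCast, zpow_natCast, hhH', one_zpow, one_mul] at e
      exact e
    rw [this]
    exact Subgroup.zpow_mem _ hhm _
  · exact inf_le_inf_left H (Subgroup.commutator_mono le_top le_top)

/-- Let G be a finite solvable group, K a normal subgroup and U a subgroup with G = KU, and H ≤ U a subgroup whose order is coprime to that of K. Then H ∩ G' = H ∩ U'; N_G(H) is generated by K ∩ C_G(H) and U ∩ N_G(H); and if gHg⁻¹ ≤ U for some g ∈ G then g = u c with u ∈ U and c ∈ K ∩ C_G(H). -/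
theorem result {G : Type*} [Group G] [Finite G] [Group.IsSolvable G] (K U H : Subgroup G) [K.Normal] (hKU : K ⊔ U = ⊤) (hH : H ≤ U) (hcop : (Nat.card H).Coprime (Nat.card K)) :
    H ⊓ commutator G = H ⊓ ⁅U, U⁆ ∧
      Subgroup.normalizer (H : Set G) = (K ⊓ Subgroup.centralizer (H : Set G)) ⊔ (U ⊓ Subgroup.normalizer (H : Set G)) ∧
      ∀ g : G, H.map (MulAut.conj g).toMonoidHom ≤ U → ∃ u ∈ U, ∃ c ∈ K ⊓ Subgroup.centralizer (H : Set G), g = u * c := by
  refine ⟨part_one K U H hKU hH hcop, ?_, fun g hg => part_three K U H hKU hH hcop g hg⟩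
  apply le_antisymm
  · intro g hg
    have hmap : H.map (MulAut.conj g).toMonoidHom ≤ U := by
      rintro _ ⟨h, hh, rfl⟩
      apply hH
      simp only [MulEquiv.coe_toMonoidHom, MulAut.conj_apply]
      exact (Subgroup.mem_normalizer_iff.mp hg h).mp hh
    obtain ⟨u, hu, c, hc, hguc⟩ := part_three K U H hKU hH hcop g hmap
    have hcN : c ∈ Subgroup.normalizer (H : Set G) := Subgroup.centralizer_le_normalizer _ hc.2
    have huN : u ∈ Subgroup.normalizer (H : Set G) := by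
      have : u = g * c⁻¹ := by rw [hguc]; group
      rw [this]
      exact Subgroup.mul_mem _ hg (Subgroup.inv_mem _ hcN)
    rw [hguc]
    exact Subgroup.mul_mem _ (Subgroup.mem_sup_right ⟨hu, huN⟩) (Subgroup.mem_sup_left hc)
  · apply sup_le
    · exact inf_le_right.trans (Subgroup.centralizer_le_normalizer _)
    · exact inf_le_right

end Cfsg.Agent.S1460
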