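import Mathlib
import Cfsg.Statements.S1461
import Cfsg.Agent.S1460
import Cfsg.Agent.Lib.H22.PPrimeCore
import Cfsg.Agent.Lib.H1.PCore
import Cfsg.Agent.Lib.H1.QuotientBasic

set_option autoImplicit false
open Cfsg
open Cfsg.Agent.Lib.H1
open Pointwise

namespace Cfsg.Agent.S1461

/-- Unfolding of the upper `p`-series without generating on-demand equation lemmas. -/
theorem upper_succ_raw {G : Type*} [Group G] (p j : ℕ) : upperPSeries p G (j+1) =
    (if Even j then ⟨(pPrimeCore p (G ⧸ (upperPSeries p G j).1)).comap (QuotientGroup.mk' _), inferInstance⟩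
     else ⟨(pCore p (G ⧸ (upperPSeries p G j).1)).comap (QuotientGroup.mk' _), inferInstance⟩) := rfl

/-- Structure of a group of `p`-length at most one. -/
theorem plength_one_structure {G : Type*} [Group G] [Finite G] (p : ℕ) [hpf : Fact p.Prime]
    (hpl : Cfsg.PLengthLE p 1 G) (S : Sylow p G) :
    ∃ K : Subgroup G, K.Normal ∧ (Nat.card K).Coprime p ∧ (K ⊔ (S : Subgroup G)).Normal := by
  have hp : p.Prime := hpf.out
  obtain ⟨U₁, hU₁⟩ : ∃ U₁ : Subgroup G, U₁ = (upperPSeries p G 1).1 := ⟨_, rfl⟩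
  obtain ⟨U₂, hU₂⟩ : ∃ U₂ : Subgroup G, U₂ = (upperPSeries p G 2).1 := ⟨_, rfl⟩
  haveI hU₁n : U₁.Normal := by rw [hU₁]; infer_instance
  haveI hU₂n : U₂.Normal := by rw [hU₂]; infer_instance
  -- |U₁| coprime to p
  have hU₁cop : (Nat.card U₁).Coprime p := by
    have e : (upperPSeries p G 1).1 = (pPrimeCore p (G ⧸ (upperPSeries p G 0).1)).comap
        (QuotientGroup.mk' _) := by
      rw [upper_succ_raw, if_pos (by decide : Even 0)]
    rw [hU₁, e]
    have hinj : Function.Injective (QuotientGroup.mk' (upperPSeries p G 0).1) := by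
      rw [← MonoidHom.ker_eq_bot_iff, QuotientGroup.ker_mk']
      rfl
    exact Nat.Coprime.coprime_dvd_left (Subgroup.card_comap_dvd_of_injective _ _ hinj)
      (Cfsg.Agent.Lib.H22.card_pPrimeCore_coprime p)
  -- U₂ is the preimage of O_p(G/U₁)
  have hU₂eq : U₂ = (pCore p (G ⧸ U₁)).comap (QuotientGroup.mk' U₁) := by
    have e : (upperPSeries p G 2).1 = (pCore p (G ⧸ (upperPSeries p G 1).1)).comap
        (QuotientGroup.mk' _) := by
      rw [upper_succ_raw, if_neg (by decide : ¬ Even 1)]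
    rw [hU₂, e]
    subst hU₁
    rfl
  -- G/U₂ is a p'-group
  have hidx : (Nat.card (G ⧸ U₂)).Coprime p := by
    have e : (upperPSeries p G 3).1 = (pPrimeCore p (G ⧸ (upperPSeries p G 2).1)).comap
        (QuotientGroup.mk' _) := by
      rw [upper_succ_raw, if_pos (by decide : Even 2)]
    have h3 : (upperPSeries p G 3).1 = ⊤ := hpl
    rw [e] at h3
    have h4 : pPrimeCore p (G ⧸ (upperPSeries p G 2).1) = ⊤ := by
      have := congrArg (Subgroup.map (QuotientGroup.mk' (upperPSeries p G 2).1)) h3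
      rw [Subgroup.map_comap_eq_self_of_surjective (QuotientGroup.mk'_surjective _),
        Subgroup.map_top_of_surjective _ (QuotientGroup.mk'_surjective _)] at this
      exact this
    have h5 := Cfsg.Agent.Lib.H22.card_pPrimeCore_coprime (G := G ⧸ (upperPSeries p G 2).1) p
    rw [h4, Subgroup.card_top] at h5
    subst hU₂
    exact h5
  refine ⟨U₁, hU₁n, hU₁cop, ?_⟩
  -- S ≤ U₂
  have hSU₂ : (S : Subgroup G) ≤ U₂ := by
    intro s hs
    rw [← QuotientGroup.eq_one_iff]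
    obtain ⟨k, hk⟩ := S.isPGroup' ⟨s, hs⟩
    have hk' : s ^ p ^ k = 1 := by
      have := congrArg Subtype.val hk
      rwa [Subgroup.coe_pow, Subgroup.coe_one] at this
    have h1 : orderOf ((s : G) : G ⧸ U₂) ∣ p ^ k := by
      apply orderOf_dvd_of_pow_eq_one
      rw [← QuotientGroup.mk_pow, hk']; rfl
    have h2 : orderOf ((s : G) : G ⧸ U₂) ∣ Nat.card (G ⧸ U₂) := orderOf_dvd_natCard _
    have := Nat.eq_one_of_dvd_coprimes (Nat.Coprime.pow_right k hidx) h2 h1
    exact orderOf_eq_one_iff.mp this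
  have hU₁U₂ : U₁ ≤ U₂ := by rw [hU₂eq]; exact le_comap_mk' U₁ _
  have hle : U₁ ⊔ (S : Subgroup G) ≤ U₂ := sup_le hU₁U₂ hSU₂
  -- cardinalities
  have hcardU₂ : Nat.card U₂ = Nat.card (pCore p (G ⧸ U₁)) * Nat.card U₁ := by
    rw [hU₂eq]; exact card_comap_mk' U₁ _
  obtain ⟨a, ha⟩ := IsPGroup.iff_card.mp (pCore_isPGroup p (G ⧸ U₁))
  have hale : p ^ a ≤ Nat.card (S : Subgroup G) := by
    rw [Sylow.card_eq_multiplicity]
    apply Nat.pow_le_pow_right hp.pos
    rw [← hp.pow_dvd_iff_le_factorization Nat.card_pos.ne', ← ha]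
    exact (Subgroup.card_subgroup_dvd_card _).trans
      ⟨Nat.card U₁, Subgroup.card_eq_card_quotient_mul_card_subgroup U₁⟩
  have hdvd : Nat.card U₁ * Nat.card (S : Subgroup G) ∣ Nat.card (U₁ ⊔ (S : Subgroup G) : Subgroup G) := by
    apply Nat.Coprime.mul_dvd_of_dvd_of_dvd
    · obtain ⟨b, hb⟩ := IsPGroup.iff_card.mp S.isPGroup'
      rw [hb]
      exact Nat.Coprime.pow_right b hU₁cop
    · exact Subgroup.card_dvd_of_le le_sup_left
    · exact Subgroup.card_dvd_of_le le_sup_right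
  have hge : Nat.card U₂ ≤ Nat.card (U₁ ⊔ (S : Subgroup G) : Subgroup G) := by
    calc Nat.card U₂ = p ^ a * Nat.card U₁ := by rw [hcardU₂, ha]
      _ ≤ Nat.card (S : Subgroup G) * Nat.card U₁ := Nat.mul_le_mul_right _ hale
      _ = Nat.card U₁ * Nat.card (S : Subgroup G) := mul_comm _ _
      _ ≤ _ := Nat.le_of_dvd Nat.card_pos hdvd
  have heq : U₁ ⊔ (S : Subgroup G) = U₂ := Subgroup.eq_of_le_of_card_ge hle hge
  rw [heq]
  exact hU₂n

/-- Let G be a finite solvable group, p a prime with G = O_{p',p,p'}(G), and S a Sylow p-subgroup. Then: if S ≤ G' then S ≤ [N_G(S), N_G(S)]; if Y ⊆ S and xYx⁻¹ ⊆ S then x = g c for some g ∈ N_G(S) and c centralizing Y; and for every p-subgroup Q there is x ∈ C_G(Q ∩ S) with xQx⁻¹ ≤ S. -/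
theorem result {G : Type*} [Group G] [Finite G] [Group.IsSolvable G] (p : ℕ) [Fact p.Prime] (hpl : Cfsg.PLengthLE p 1 G) (S : Sylow p G) :
    ((S : Subgroup G) ≤ commutator G → (S : Subgroup G) ≤ ⁅Subgroup.normalizer ((S : Subgroup G) : Set G), Subgroup.normalizer ((S : Subgroup G) : Set G)⁆) ∧
      (∀ (Y : Set G) (x : G), Y ⊆ (S : Subgroup G) → (fun y => x * y * x⁻¹) '' Y ⊆ (S : Subgroup G) →
        ∃ g ∈ Subgroup.normalizer ((S : Subgroup G) : Set G), ∃ c ∈ Subgroup.centralizer Y, g * c = x) ∧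
      ∀ Q : Subgroup G, IsPGroup p Q → ∃ x ∈ Subgroup.centralizer ((Q ⊓ (S : Subgroup G) : Subgroup G) : Set G), Q.map (MulAut.conj x).toMonoidHom ≤ (S : Subgroup G) := by
  have hp : p.Prime := Fact.out
  obtain ⟨K, hKn, hKcop, hKSn⟩ := plength_one_structure p hpl S
  haveI := hKn
  haveI := hKSn
  obtain ⟨U, hU⟩ : ∃ U : Subgroup G, U = Subgroup.normalizer ((S : Subgroup G) : Set G) := ⟨_, rfl⟩
  rw [← hU]
  have hSU : (S : Subgroup G) ≤ U := by rw [hU]; exact Subgroup.le_normalizer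
  -- Frattini
  have hKU : K ⊔ U = ⊤ := by
    have h1 : U ⊔ (K ⊔ (S : Subgroup G)) = ⊤ := by
      rw [hU]
      exact Sylow.normalizer_sup_eq_top' (N := K ⊔ (S : Subgroup G)) S le_sup_right
    apply top_le_iff.mp
    rw [← h1]
    apply sup_le le_sup_right
    exact sup_le le_sup_left (hSU.trans le_sup_right)
  -- coprimality for subgroups of S
  have hcopS : ∀ R : Subgroup G, R ≤ (S : Subgroup G) → (Nat.card R).Coprime (Nat.card K) := by
    intro R hR
    obtain ⟨b, hb⟩ := IsPGroup.iff_card.mp (S.isPGroup'.to_le hR)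
    rw [hb]
    exact Nat.Coprime.pow_left b hKcop.symm
  have hUnorm : ∀ u ∈ U, ∀ s : G, s ∈ (S : Subgroup G) ↔ u * s * u⁻¹ ∈ (S : Subgroup G) := by
    intro u hu s
    rw [hU] at hu
    exact Subgroup.mem_normalizer_iff.mp hu s
  refine ⟨?_, ?_, ?_⟩
  · intro hSG
    have h1 := Cfsg.Agent.S1460.part_one K U (S : Subgroup G) hKU hSU (hcopS _ le_rfl)
    have h2 : (S : Subgroup G) ⊓ commutator G = (S : Subgroup G) := inf_eq_left.mpr hSG
    rw [h2] at h1
    rw [h1]
    exact inf_le_right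
  · intro Y x hYS hxY
    have hcl : Subgroup.closure Y ≤ (S : Subgroup G) := (Subgroup.closure_le _).mpr hYS
    have hmap : (Subgroup.closure Y).map (MulAut.conj x).toMonoidHom ≤ U := by
      refine le_trans ?_ hSU
      rw [MonoidHom.map_closure, Subgroup.closure_le]
      rintro _ ⟨y, hy, rfl⟩
      exact hxY ⟨y, hy, rfl⟩
    obtain ⟨u, hu, c, hc, hxuc⟩ := Cfsg.Agent.S1460.part_three K U (Subgroup.closure Y) hKU
      (hcl.trans hSU) (hcopS _ hcl) x hmap
    refine ⟨u, hu, c, ?_, hxuc.symm⟩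
    exact Subgroup.centralizer_le Subgroup.subset_closure hc.2
  · intro Q hQ
    obtain ⟨S', hQS'⟩ := hQ.exists_le_sylow
    obtain ⟨g, hg⟩ := MulAction.exists_smul_eq G S S'
    have hgtop : g ∈ K ⊔ U := by rw [hKU]; exact Subgroup.mem_top _
    obtain ⟨k, hk, u, hu, hkug⟩ := Subgroup.mem_sup_of_normal_left.mp hgtop
    -- k⁻¹ Q k ≤ S
    have hQk : ∀ q ∈ Q, k⁻¹ * q * k ∈ (S : Subgroup G) := by
      intro q hq
      have h1 : q ∈ (S' : Subgroup G) := hQS' hq
      rw [← hg] at h1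
      have h1' : q ∈ MulAut.conj g • (S : Subgroup G) := h1
      have h2 : g⁻¹ * q * g ∈ (S : Subgroup G) := mem_conj_smul_iff.mp h1'
      have h3 := (hUnorm u hu (g⁻¹ * q * g)).mp h2
      have e : u * (g⁻¹ * q * g) * u⁻¹ = k⁻¹ * q * k := by
        rw [← hkug]; group
      rwa [e] at h3
    obtain ⟨R, hR⟩ : ∃ R : Subgroup G, R = Q ⊓ (S : Subgroup G) := ⟨_, rfl⟩
    have hRS : R ≤ (S : Subgroup G) := by rw [hR]; exact inf_le_right
    have hmap : R.map (MulAut.conj k⁻¹).toMonoidHom ≤ U := by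
      refine le_trans ?_ hSU
      rintro _ ⟨r, hr, rfl⟩
      rw [hR] at hr
      simp only [MulEquiv.coe_toMonoidHom, MulAut.conj_apply, inv_inv]
      exact hQk r hr.1
    obtain ⟨u', hu', c, hc, hkuc⟩ := Cfsg.Agent.S1460.part_three K U R hKU (hRS.trans hSU)
      (hcopS _ hRS) k⁻¹ hmap
    rw [← hR]
    refine ⟨c, hc.2, ?_⟩
    rintro _ ⟨q, hq, rfl⟩
    simp only [MulEquiv.coe_toMonoidHom, MulAut.conj_apply]
    have h1 := hQk q hq
    have h2 := (hUnorm u'⁻¹ (U.inv_mem hu') (k⁻¹ * q * k)).mp h1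
    have e : u'⁻¹ * (k⁻¹ * q * k) * u'⁻¹⁻¹ = c * q * c⁻¹ := by
      have hc' : c = u'⁻¹ * k⁻¹ := by rw [hkuc]; group
      rw [hc']; group
    rwa [e] at h2

end Cfsg.Agent.S1461
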