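import Cfsg.Statements.S1448
-- import your own Cfsg.Agent.* helpers here
import Mathlib
import Cfsg.Agent.Lib.H16.RkStructH
import Cfsg.Agent.Lib.H1.FpfAction

set_option autoImplicit false
open Cfsg

namespace Cfsg.Agent.S1448

open scoped commutatorElement

/-- Let G be a finite group, p an odd prime, R a nontrivial p-subgroup with no elementary abelian subgroup of order p ^ 3, and A a subgroup of odd order coprime to p normalizing R with [R, A] = R. Then 3 < p, and either R is abelian or R is generated by two elementwise-commuting subgroups R₁, R₂ with R₁ non-abelian of order p ^ 3 and exponent p, R₂ cyclic, and the elements of R₂ of order dividing p generating exactly [R₁, R₁]. -/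
theorem result {G : Type*} [Group G] [Finite G] (p : ℕ) [Fact p.Prime] (hp : p ≠ 2) (R A : Subgroup G) (hR : IsPGroup p R) (hR1 : R ≠ ⊥) (hr : Cfsg.PRankLE p 2 R)
    (hA : (A ≤ Subgroup.normalizer (R : Set G))) (hcop : (Nat.card A).Coprime p) (hAodd : Odd (Nat.card A)) (hRA : ⁅R, A⁆ = R) :
    3 < p ∧ (IsMulCommutative R ∨ ∃ R₁ R₂ : Subgroup G, R₁ ⊔ R₂ = R ∧ (∀ a ∈ R₁, ∀ b ∈ R₂, a * b = b * a) ∧
        ¬ IsMulCommutative R₁ ∧ Nat.card R₁ = p ^ 3 ∧ Monoid.exponent R₁ = p ∧ IsCyclic R₂ ∧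
        Subgroup.closure {x : G | x ∈ R₂ ∧ x ^ p = 1} = ⁅R₁, R₁⁆) := by
  classical
  have hpp : p.Prime := Fact.out
  let ρ : ↥A →* MulAut ↥R := Cfsg.Agent.Lib.H1.conjAutHom hA
  set 𝒳 : Subgroup (MulAut ↥R) := ρ.range with h𝒳
  have hfin : Finite (MulAut ↥R) := Cfsg.Agent.Lib.H16.AutAct.finite_mulAut
  have hdvd : Nat.card 𝒳 ∣ Nat.card A := Subgroup.card_range_dvd ρ
  have hfull : Cfsg.Agent.Lib.H16.AutAct.autComm 𝒳 = ⊤ := by
    rw [eq_top_iff]
    have hle : ⁅R, A⁆ ≤ (Cfsg.Agent.Lib.H16.AutAct.autComm 𝒳).map R.subtype := by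
      rw [Subgroup.commutator_le]
      intro r hr' a ha
      have h1 : ρ ⟨a, ha⟩ ⟨r, hr'⟩ * (⟨r, hr'⟩ : ↥R)⁻¹ ∈ Cfsg.Agent.Lib.H16.AutAct.autComm 𝒳 :=
        Cfsg.Agent.Lib.H16.AutAct.mem_autComm (⟨⟨a, ha⟩, rfl⟩ : ρ ⟨a, ha⟩ ∈ 𝒳) _
      have h2 : ⁅r, a⁆ = (R.subtype (ρ ⟨a, ha⟩ ⟨r, hr'⟩ * (⟨r, hr'⟩ : ↥R)⁻¹))⁻¹ := by
        rw [map_mul, map_inv]
        show ⁅r, a⁆ = (a * r * a⁻¹ * r⁻¹)⁻¹
        rw [commutatorElement_def]
        group
      rw [h2]
      exact Subgroup.inv_mem _ (Subgroup.mem_map_of_mem _ h1)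
    rintro ⟨r, hr'⟩ -
    have h3 : r ∈ (Cfsg.Agent.Lib.H16.AutAct.autComm 𝒳).map R.subtype := hle (hRA.symm ▸ hr')
    obtain ⟨y, hy, hyr⟩ := h3
    have : y = ⟨r, hr'⟩ := Subtype.ext hyr
    rw [← this]
    exact hy
  have hnt : Nontrivial ↥R := (Subgroup.nontrivial_iff_ne_bot R).mpr hR1
  obtain ⟨h3, hstr⟩ := Cfsg.Agent.Lib.H16.RkStruct.main hp hR hr hnt 𝒳
    (Odd.of_dvd_nat hAodd hdvd) (Nat.Coprime.coprime_dvd_left hdvd hcop) hfull
  refine ⟨h3, ?_⟩
  rcases hstr with hc | ⟨P₁, P₂, hsup, hcomm, hnc, hcard, hexp, hcyc, hcl⟩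
  · left
    exact ⟨⟨hc⟩⟩
  · right
    refine ⟨P₁.map R.subtype, P₂.map R.subtype, ?_, ?_, ?_, ?_, ?_, ?_, ?_⟩
    · rw [← Subgroup.map_sup, hsup, ← MonoidHom.range_eq_map, Subgroup.range_subtype]
    · rintro _ ⟨a, ha, rfl⟩ _ ⟨b, hb, rfl⟩
      have := hcomm a ha b hb
      exact congrArg Subtype.val this
    · intro hc
      apply hnc
      intro a ha b hb
      have h1 := hc.is_comm.comm (⟨R.subtype a, Subgroup.mem_map_of_mem _ ha⟩ : ↥(P₁.map R.subtype))
        ⟨R.subtype b, Subgroup.mem_map_of_mem _ hb⟩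
      have h2 := congrArg Subtype.val h1
      apply Subtype.ext
      exact h2
    · rw [Subgroup.card_map_of_injective R.subtype_injective, hcard]
    · have hdvd' : Monoid.exponent ↥(P₁.map R.subtype) ∣ p := by
        apply Monoid.exponent_dvd_of_forall_pow_eq_one
        rintro ⟨_, ⟨a, ha, rfl⟩⟩
        apply Subtype.ext
        rw [Subgroup.coe_pow, Subgroup.coe_one]
        have := hexp a ha
        have h2 := congrArg Subtype.val this
        simpa using h2
      rcases (Nat.dvd_prime hpp).mp hdvd' with h1 | h1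
      · exfalso
        have hsub : Subsingleton ↥(P₁.map R.subtype) := by
          constructor
          intro x y
          have hx : x ^ Monoid.exponent ↥(P₁.map R.subtype) = 1 := Monoid.pow_exponent_eq_one x
          have hy : y ^ Monoid.exponent ↥(P₁.map R.subtype) = 1 := Monoid.pow_exponent_eq_one y
          rw [h1, pow_one] at hx hy
          rw [hx, hy]
        have hc1 : Nat.card ↥(P₁.map R.subtype) = 1 := Nat.card_eq_one_iff_unique.mpr ⟨hsub, ⟨1⟩⟩
        rw [Subgroup.card_map_of_injective R.subtype_injective, hcard] at hc1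
        have : 1 < p ^ 3 := Nat.one_lt_pow (by norm_num) hpp.one_lt
        omega
      · exact h1
    · exact (Subgroup.equivMapOfInjective P₂ R.subtype R.subtype_injective).isCyclic.mp hcyc
    · rw [← Subgroup.map_commutator, ← hcl, MonoidHom.map_closure]
      congr 1
      ext x
      constructor
      · rintro ⟨⟨y, hy, rfl⟩, hxp⟩
        refine ⟨y, ⟨hy, ?_⟩, rfl⟩
        apply Subtype.ext
        simpa using hxp
      · rintro ⟨y, ⟨hy, hyp⟩, rfl⟩
        refine ⟨Subgroup.mem_map_of_mem _ hy, ?_⟩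
        have h2 := congrArg Subtype.val hyp
        simpa using h2

end Cfsg.Agent.S1448
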