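import Cfsg.Statements.S1979
import Mathlib
import Cfsg.Agent.Lib.H10.KInfMap

set_option autoImplicit false
open Cfsg

namespace Cfsg.Agent.S1979

open Cfsg.Agent.Lib.H10

theorem map_sSup_le {H P : Type*} [Group H] [Group P] (f : H →* P) {𝒮 : Set (Subgroup H)}
    {X : Subgroup P} (h : ∀ B ∈ 𝒮, B.map f ≤ X) : (sSup 𝒮).map f ≤ X := by
  rw [Subgroup.map_le_iff_le_comap]
  exact sSup_le fun B hB => Subgroup.map_le_iff_le_comap.mp (h B hB)

theorem result {P : Type*} [Group P] [Finite P] {p : ℕ} [Fact p.Prime] (hP : IsPGroup p P) (Q : Subgroup P) (hQ : ∀ n : ℕ, Cfsg.kSeqEven P n ≤ Q ∧ Cfsg.kSeqOdd P (n + 1) ≤ Q) : (Cfsg.kInfLower ↥Q).map Q.subtype = Cfsg.kInfLower P ∧ (Cfsg.kInfUpper ↥Q).map Q.subtype = Cfsg.kInfUpper P := by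
  have hf : Function.Injective Q.subtype := Q.subtype_injective
  -- step lemmas
  have stepE : ∀ n : ℕ, kSeqOdd P (n + 1) ≤ (kSeqOdd ↥Q n).map Q.subtype →
      (kSeqOdd ↥Q n).map Q.subtype ≤ kSeqOdd P n →
      kSeqEven P n ≤ (kSeqEven ↥Q n).map Q.subtype ∧
        (kSeqEven ↥Q n).map Q.subtype ≤ kSeqEven P (n + 1) := by
    intro n h1 h2
    constructor
    · apply sSup_le
      intro B hB
      have hBQ : B ≤ Q := (le_sSup hB).trans (hQ n).1
      have hB' : B ∈ kLowerStarFamily ((kSeqOdd ↥Q n).map Q.subtype) := kLowerStarFamily_anti h2 hB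
      rw [← Subgroup.map_subgroupOf_eq_of_le hBQ, map_mem_lower_iff hf] at hB'
      rw [← Subgroup.map_subgroupOf_eq_of_le hBQ]
      exact Subgroup.map_mono (le_sSup hB')
    · apply map_sSup_le
      intro B' hB'
      have := (map_mem_lower_iff hf).mpr hB'
      exact le_sSup (kLowerStarFamily_anti h1 this)
  have stepO : ∀ n : ℕ, kSeqEven P n ≤ (kSeqEven ↥Q n).map Q.subtype →
      (kSeqEven ↥Q n).map Q.subtype ≤ kSeqEven P (n + 1) →
      kSeqOdd P (n + 2) ≤ (kSeqOdd ↥Q (n + 1)).map Q.subtype ∧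
        (kSeqOdd ↥Q (n + 1)).map Q.subtype ≤ kSeqOdd P (n + 1) := by
    intro n h1 h2
    constructor
    · rw [kSeqOdd_succ_eq (n + 1)]
      apply sSup_le
      intro B hB
      have hBQ : B ≤ Q := by
        refine le_trans ?_ (hQ (n + 1)).2
        rw [kSeqOdd_succ_eq (n + 1)]
        exact le_sSup hB
      have hB' : B ∈ kUpperStarFamily ((kSeqEven ↥Q n).map Q.subtype) := kUpperStarFamily_anti h2 hB
      rw [← Subgroup.map_subgroupOf_eq_of_le hBQ, map_mem_upper_iff hf] at hB'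
      rw [← Subgroup.map_subgroupOf_eq_of_le hBQ, kSeqOdd_succ_eq n]
      exact Subgroup.map_mono (le_sSup hB')
    · rw [kSeqOdd_succ_eq n, kSeqOdd_succ_eq n]
      apply map_sSup_le
      intro B' hB'
      have := (map_mem_upper_iff hf).mpr hB'
      exact le_sSup (kUpperStarFamily_anti h1 this)
  -- the interleaving
  have main : ∀ n : ℕ, (kSeqOdd P (n + 1) ≤ (kSeqOdd ↥Q n).map Q.subtype ∧
      (kSeqOdd ↥Q n).map Q.subtype ≤ kSeqOdd P n) := by
    intro n
    induction n with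
    | zero =>
      constructor
      · have : (kSeqOdd ↥Q 0).map Q.subtype = Q := by
          change (⊤ : Subgroup Q).map Q.subtype = Q
          rw [← MonoidHom.range_eq_map, Subgroup.range_subtype]
        rw [this]
        exact (hQ 0).2
      · exact le_top
    | succ n ih =>
      obtain ⟨e1, e2⟩ := stepE n ih.1 ih.2
      exact stepO n e1 e2
  have mainE : ∀ n : ℕ, kSeqEven P n ≤ (kSeqEven ↥Q n).map Q.subtype ∧
      (kSeqEven ↥Q n).map Q.subtype ≤ kSeqEven P (n + 1) :=
    fun n => stepE n (main n).1 (main n).2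
  constructor
  · change (⨆ n, kSeqEven ↥Q n).map Q.subtype = ⨆ n, kSeqEven P n
    rw [Subgroup.map_iSup]
    apply le_antisymm
    · exact iSup_le fun n => (mainE n).2.trans (le_iSup (fun n => kSeqEven P n) (n + 1))
    · exact iSup_le fun n => (mainE n).1.trans
        (le_iSup (fun n => (kSeqEven ↥Q n).map Q.subtype) n)
  · change (⨅ n, kSeqOdd ↥Q n).map Q.subtype = ⨅ n, kSeqOdd P n
    rw [Subgroup.map_iInf _ hf]
    apply le_antisymm
    · exact le_iInf fun n => (iInf_le (fun n => (kSeqOdd ↥Q n).map Q.subtype) n).trans (main n).2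
    · exact le_iInf fun n => (iInf_le (fun n => kSeqOdd P n) (n + 1)).trans (main n).1

end Cfsg.Agent.S1979
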