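import Cfsg.Statements.S1972
import Cfsg.Agent.Lib.H10.SecTransfer2
import Cfsg.Agent.Lib.H10.DualTrace

set_option autoImplicit false
universe u
open Cfsg

namespace Cfsg.Agent.S1972

open Cfsg.Agent.Lib Cfsg.Agent.Lib.H10

open scoped commutatorElement


theorem iterCommutator_map {G G' : Type*} [Group G] [Group G'] (f : G →* G') (U Z : Subgroup G)
    (k : ℕ) : (Cfsg.iterCommutator U Z k).map f = Cfsg.iterCommutator (U.map f) (Z.map f) k := by
  induction k with
  | zero => rfl
  | succ k ih =>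
    show (⁅Cfsg.iterCommutator U Z k, Z⁆).map f = ⁅Cfsg.iterCommutator (U.map f) (Z.map f) k, Z.map f⁆
    rw [Subgroup.map_commutator, ih]

/-- chief factors pull back along isomorphisms -/
theorem isChiefFactor_comap_equiv {A B : Type*} [Group A] [Group B] (e : A ≃* B)
    {U V : Subgroup B} (h : Cfsg.IsChiefFactor U V) :
    Cfsg.IsChiefFactor (U.comap e.toMonoidHom) (V.comap e.toMonoidHom) := by
  obtain ⟨hlt, hUn, hVn, hmin⟩ := h
  refine ⟨?_, hUn.comap _, hVn.comap _, ?_⟩
  · rw [lt_iff_le_and_ne]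
    refine ⟨Subgroup.comap_mono hlt.le, ?_⟩
    intro heq
    apply hlt.ne
    rw [← Subgroup.map_comap_eq_self_of_surjective (f := e.toMonoidHom) e.surjective V, heq,
      Subgroup.map_comap_eq_self_of_surjective (f := e.toMonoidHom) e.surjective U]
  · intro N hN hVN hNU
    have h1 : (N.map e.toMonoidHom).Normal := hN.map _ e.surjective
    have h2 : V ≤ N.map e.toMonoidHom := by
      rw [← Subgroup.map_comap_eq_self_of_surjective (f := e.toMonoidHom) e.surjective V]
      exact Subgroup.map_mono hVN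
    have h3 : N.map e.toMonoidHom ≤ U := by
      rw [← Subgroup.map_comap_eq_self_of_surjective (f := e.toMonoidHom) e.surjective U]
      exact Subgroup.map_mono hNU
    have h4 : N = (N.map e.toMonoidHom).comap e.toMonoidHom :=
      (Subgroup.comap_map_eq_self_of_injective e.injective N).symm
    rcases hmin _ h1 h2 h3 with h5 | h5
    · left; rw [h4, h5]
    · right; rw [h4, h5]

/-- The constrained case. -/
theorem constrained_case {H : Type u} [Group H] [Finite H] {p : ℕ} [hp : Fact p.Prime]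
    (W : ∀ (Q : Type u) [Group Q], Subgroup Q) (hW : Cfsg.IsCharPFunctor.{u} p W)
    (S : Sylow p H)
    (ih : ∀ L : Subgroup H, L ≠ ⊤ → (S : Subgroup H) ≤ L →
      (S : Subgroup H) ⊓ ⁅L, L⁆ ≤
        TF (IF ({W} : Set (∀ (Q : Type u) [Group Q], Subgroup Q)) H) ⊤ (S : Subgroup H))
    (hEngel : ¬ (Cfsg.inducedFunctor (G := H) W (S : Subgroup H)).Normal →
      ∃ g : H, g ∈ (S : Subgroup H) ∧ g ∉ Cfsg.pCore p H ∧
        ∀ U V : Subgroup H, Cfsg.IsChiefFactor U V → U ≤ Cfsg.pCore p H →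
          Cfsg.iterCommutator U (Subgroup.zpowers g) (p - 1) ≤ V) :
    Cfsg.pCore p H ⊓ ⁅(⊤ : Subgroup H), ⊤⁆ ≤
      TF (IF ({W} : Set (∀ (Q : Type u) [Group Q], Subgroup Q)) H) ⊤ (S : Subgroup H) := by
  have h𝓦 : ∀ W' ∈ ({W} : Set (∀ (Q : Type u) [Group Q], Subgroup Q)), IsCharPFunctor.{u} p W' := by
    intro W' hW'
    rw [Set.mem_singleton_iff] at hW'
    rw [hW']; exact hW
  have hc : IsConjugacyFunctor p (Cfsg.inducedFunctor (G := H) W) :=
    isConjugacyFunctor_of_mem_IF (H := H) h𝓦 _ ⟨W, Set.mem_singleton W, rfl⟩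
  set N := Subgroup.normalizer ((Cfsg.inducedFunctor (G := H) W (S : Subgroup H) : Subgroup H) : Set H)
    with hN
  have hA₀ : TF (IF ({W} : Set (∀ (Q : Type u) [Group Q], Subgroup Q)) H) ⊤ (S : Subgroup H) =
      (S : Subgroup H) ⊓ ⁅N, N⁆ := by
    rw [TF_IF, iSup_singleton, top_inf_eq]
  rw [hA₀] at ih ⊢
  set P := Cfsg.pCore p H with hP
  haveI hPn : P.Normal := H1.pCore_normal p H
  have hPS : P ≤ (S : Subgroup H) := H1.pCore_le_sylow S
  by_cases hWn : (Cfsg.inducedFunctor (G := H) W (S : Subgroup H)).Normal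
  · have : N = ⊤ := Subgroup.normalizer_eq_top_iff.2 hWn
    rw [this]
    exact inf_le_inf_right _ hPS
  obtain ⟨g, hgS, hgP, hE⟩ := hEngel hWn
  have hSN : (S : Subgroup H) ≤ N :=
    Subgroup.le_normalizer.trans (normalizer_le_normalizer_functor hc S.2)
  set A₀ := (S : Subgroup H) ⊓ ⁅N, N⁆ with hA₀def
  have hS'A₀ : ⁅(S : Subgroup H), (S : Subgroup H)⁆ ≤ A₀ :=
    le_inf (Subgroup.commutator_le_self _) (Subgroup.commutator_mono hSN hSN)
  have hA₀S : A₀ ≤ (S : Subgroup H) := inf_le_left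
  -- the quotient `S / A₀`
  set K : Subgroup ↥(S : Subgroup H) := A₀.subgroupOf (S : Subgroup H) with hK
  have hcommK : ∀ a b : ↥(S : Subgroup H), a * b * a⁻¹ * b⁻¹ ∈ K := by
    intro a b
    rw [hK, Subgroup.mem_subgroupOf]
    apply hS'A₀
    have : ((a * b * a⁻¹ * b⁻¹ : ↥(S : Subgroup H)) : H) = ⁅(a : H), (b : H)⁆ := by
      rw [commutatorElement_def]; rfl
    rw [this]
    exact Subgroup.commutator_mem_commutator a.2 b.2
  haveI hKn : K.Normal := by
    constructor
    intro n hn s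
    have h1 := hcommK s n
    have h2 : s * n * s⁻¹ = (s * n * s⁻¹ * n⁻¹) * n := by group
    rw [h2]
    exact K.mul_mem h1 hn
  letI instQ : CommGroup (↥(S : Subgroup H) ⧸ K) :=
    { (inferInstance : Group (↥(S : Subgroup H) ⧸ K)) with
      mul_comm := by
        intro a b
        induction a using QuotientGroup.induction_on with
        | H a =>
        induction b using QuotientGroup.induction_on with
        | H b =>
        rw [← QuotientGroup.mk_mul, ← QuotientGroup.mk_mul, QuotientGroup.eq]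
        have h1 := hcommK b⁻¹ a⁻¹
        have h2 : (a * b)⁻¹ * (b * a) = b⁻¹ * a⁻¹ * b⁻¹⁻¹ * a⁻¹⁻¹ := by group
        rw [h2]; exact h1 }
  set ψ : ↥(S : Subgroup H) →* (↥(S : Subgroup H) ⧸ K) := QuotientGroup.mk' K with hψ
  obtain ⟨k, hk⟩ := IsPGroup.iff_card.1 S.2
  have hQ : ∀ q : ↥(S : Subgroup H) ⧸ K, q ^ (p ^ k) = 1 := by
    intro q
    induction q using QuotientGroup.induction_on with
    | H s =>
    rw [← QuotientGroup.mk_pow, ← hk, pow_card_eq_one']
    rfl
  have hψL : ∀ L : Subgroup H, L ≠ ⊤ → (S : Subgroup H) ≤ L →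
      ∀ (s : H) (hs : s ∈ (S : Subgroup H)), s ∈ ⁅L, L⁆ → ψ ⟨s, hs⟩ = 1 := by
    intro L hL hSL s hs hsL
    rw [hψ, QuotientGroup.mk'_apply, QuotientGroup.eq_one_iff, hK, Subgroup.mem_subgroupOf]
    exact ih L hL hSL (Subgroup.mem_inf.2 ⟨hs, hsL⟩)
  have hmain := commutator_pCore_le_ker_of_engel S hQ ψ hψL g hgS hgP hE
  have hker : (ψ.ker).map (S : Subgroup H).subtype = A₀ := by
    rw [hψ, QuotientGroup.ker_mk', hK, Subgroup.map_subgroupOf_eq_of_le hA₀S]
  rw [hker] at hmain
  exact (inf_commutator_le_sup_commutator_top S P hPS).trans (sup_le hS'A₀ hmain)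


/-- Let p be a prime, G a finite group and W an isomorphism-invariant p-group functor (W assigns to every group Q a subgroup W(Q), nontrivial whenever Q is a nontrivial finite p-group, and every isomorphism from a finite p-group Q onto a group R carries W(Q) onto W(R)). Suppose that whenever G* = K/R is a section of G with C_{G*}(O_p(G*)) ≤ O_p(G*) and S* is a Sylow p-subgroup of G* with W(S*) not normal in G*, there is an element g of S* outside O_p(G*) such that [X, g, …, g] ≤ Y with p − 1 entries g, for every chief factor X/Y of G* with X ≤ O_p(G*). Then W controls transfer in every section of G. -/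
theorem result {G : Type u} [Group G] [Finite G] {p : ℕ} [Fact p.Prime] (W : ∀ (Q : Type u) [Group Q], Subgroup Q) (hW : Cfsg.IsCharPFunctor.{u} p W) (hloc : ∀ (K R : Subgroup G) [hR : (R.subgroupOf K).Normal], Subgroup.centralizer ((Cfsg.pCore p (↥K ⧸ R.subgroupOf K) : Subgroup (↥K ⧸ R.subgroupOf K)) : Set (↥K ⧸ R.subgroupOf K)) ≤ Cfsg.pCore p (↥K ⧸ R.subgroupOf K) → ∀ T : Sylow p (↥K ⧸ R.subgroupOf K), ¬ (Cfsg.inducedFunctor (G := (↥K ⧸ R.subgroupOf K)) W ((T : Subgroup (↥K ⧸ R.subgroupOf K)))).Normal → ∃ g : (↥K ⧸ R.subgroupOf K), g ∈ (T : Subgroup (↥K ⧸ R.subgroupOf K)) ∧ g ∉ Cfsg.pCore p (↥K ⧸ R.subgroupOf K) ∧ ∀ U V : Subgroup (↥K ⧸ R.subgroupOf K), Cfsg.IsChiefFactor U V → U ≤ Cfsg.pCore p (↥K ⧸ R.subgroupOf K) → Cfsg.iterCommutator U (Subgroup.zpowers g) (p - 1) ≤ V) : ∀ (K R : Subgroup G) [hR : (R.subgroupOf K).Normal], Cfsg.ControlsTransferIn p (Cfsg.inducedFunctor (G := (↥K ⧸ R.subgroupOf K)) W) ⊤ := by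
  have h𝓦 : ∀ W' ∈ ({W} : Set (∀ (Q : Type u) [Group Q], Subgroup Q)), IsCharPFunctor.{u} p W' := by
    intro W' hW'
    rw [Set.mem_singleton_iff] at hW'
    rw [hW']; exact hW
  have hloc' : ∀ (H : Type u) [Group H] [Finite H], IsSec G H →
      Subgroup.centralizer ((Cfsg.pCore p H : Subgroup H) : Set H) ≤ Cfsg.pCore p H →
      ∀ S : Sylow p H,
      (∀ L : Subgroup H, L ≠ ⊤ → (S : Subgroup H) ≤ L →
        (S : Subgroup H) ⊓ ⁅L, L⁆ ≤
          TF (IF ({W} : Set (∀ (Q : Type u) [Group Q], Subgroup Q)) H) ⊤ (S : Subgroup H)) →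
      Cfsg.pCore p H ⊓ ⁅(⊤ : Subgroup H), ⊤⁆ ≤
        TF (IF ({W} : Set (∀ (Q : Type u) [Group Q], Subgroup Q)) H) ⊤ (S : Subgroup H) := by
    intro H _ _ hsec hcon S ih
    apply constrained_case W hW S ih
    intro hWn
    obtain ⟨K, R, hR, ⟨ε⟩⟩ := hsec.exists_equiv
    have hcon' := constrained_of_mulEquiv p ε hcon
    -- the Sylow subgroup of `K / R`
    have hT'p : IsPGroup p ((S : Subgroup H).map ε.symm.toMonoidHom) := S.2.map _
    have hT'i : ¬ p ∣ ((S : Subgroup H).map ε.symm.toMonoidHom).index := by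
      have := Subgroup.index_map_equiv (S : Subgroup H) ε.symm
      rw [show ((ε.symm : H →* (↥K ⧸ R.subgroupOf K))) = ε.symm.toMonoidHom from rfl] at this
      rw [this]
      exact S.not_dvd_index
    let T' : Sylow p (↥K ⧸ R.subgroupOf K) := hT'p.toSylow hT'i
    have hT' : (T' : Subgroup (↥K ⧸ R.subgroupOf K)) = (S : Subgroup H).map ε.symm.toMonoidHom :=
      hT'p.toSylow_coe hT'i
    have hmapT : (T' : Subgroup (↥K ⧸ R.subgroupOf K)).map ε.toMonoidHom = (S : Subgroup H) := by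
      rw [hT', Subgroup.map_map]
      have : ε.toMonoidHom.comp ε.symm.toMonoidHom = MonoidHom.id H := by
        ext x; simp
      rw [this, Subgroup.map_id]
    have hmapW : (Cfsg.inducedFunctor (G := (↥K ⧸ R.subgroupOf K)) W
        ((T' : Subgroup (↥K ⧸ R.subgroupOf K)))).map ε.toMonoidHom =
        Cfsg.inducedFunctor (G := H) W (S : Subgroup H) := by
      rw [inducedFunctor_map_equiv hW ε _ T'.2, hmapT]
    have hWn' : ¬ (Cfsg.inducedFunctor (G := (↥K ⧸ R.subgroupOf K)) W
        ((T' : Subgroup (↥K ⧸ R.subgroupOf K)))).Normal := by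
      intro hn
      apply hWn
      rw [← hmapW]
      exact hn.map _ ε.surjective
    obtain ⟨g', hg'T, hg'P, hE'⟩ := hloc K R hcon' T' hWn'
    have hpc : (Cfsg.pCore p (↥K ⧸ R.subgroupOf K)).map ε.toMonoidHom = Cfsg.pCore p H :=
      pCore_map_mulEquiv p ε
    refine ⟨ε g', ?_, ?_, ?_⟩
    · rw [← hmapT]
      exact Subgroup.mem_map_of_mem _ hg'T
    · intro h
      rw [← hpc] at h
      obtain ⟨y, hy, hyg⟩ := h
      have : y = g' := ε.injective hyg
      rw [this] at hy
      exact hg'P hy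
    · intro U V hUV hUP
      have h1 := isChiefFactor_comap_equiv ε hUV
      have h2 : U.comap ε.toMonoidHom ≤ Cfsg.pCore p (↥K ⧸ R.subgroupOf K) := by
        intro y hy
        have h3 : ε y ∈ Cfsg.pCore p H := hUP hy
        rw [← hpc] at h3
        obtain ⟨z, hz, hzy⟩ := h3
        have : z = y := ε.injective hzy
        rw [← this]; exact hz
      have h4 := hE' _ _ h1 h2
      have h5 := Subgroup.map_mono (f := ε.toMonoidHom) h4
      rw [iterCommutator_map, Subgroup.map_comap_eq_self_of_surjective (f := ε.toMonoidHom) ε.surjective,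
        Subgroup.map_comap_eq_self_of_surjective (f := ε.toMonoidHom) ε.surjective,
        MonoidHom.map_zpowers] at h5
      exact h5
  intro K R hR
  have hmain := familyTransfer_of_constrained_sections' G {W} h𝓦 hloc' _
    (↥K ⧸ R.subgroupOf K) rfl (isSec_section K R)
  obtain ⟨T, hT1, hT2, hT3, hT4⟩ := hmain
  refine ⟨T, hT1, hT2, hT3, ?_⟩
  rw [hT4]
  have hIF : IF ({W} : Set (∀ (Q : Type u) [Group Q], Subgroup Q)) (↥K ⧸ R.subgroupOf K) =
      {inducedFunctor (G := (↥K ⧸ R.subgroupOf K)) W} := by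
    unfold IF
    rw [Set.image_singleton]
  rw [hIF, iSup_singleton]

end Cfsg.Agent.S1972
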