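import Cfsg.Statements.S1984
import Mathlib
import Cfsg.Agent.Lib.H10.KInfEngel
import Cfsg.Agent.S1972

set_option autoImplicit false
universe u
open Cfsg

namespace Cfsg.Agent.S1984

open Cfsg.Agent.Lib Cfsg.Agent.Lib.H10


/-- `K_∞` (or `K^∞`) controls transfer for `p ≥ 5`, general version for a functor `W` equal to one of the two. -/
theorem controlsTransfer_of_engel {G : Type u} [Group G] [Finite G] {p : ℕ} [Fact p.Prime]
    (W : ∀ (Q : Type u) [Group Q], Subgroup Q) (hW : Cfsg.IsCharPFunctor.{u} p W)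
    (hE : ∀ (H : Type u) [Group H] [Finite H] (S : Sylow p H),
      ¬ (Cfsg.inducedFunctor (G := H) W (S : Subgroup H)).Normal →
      ∃ g : H, g ∈ (S : Subgroup H) ∧ g ∉ Cfsg.pCore p H ∧
        ∀ U V : Subgroup H, Cfsg.IsChiefFactor U V → U ≤ Cfsg.pCore p H →
          Cfsg.iterCommutator U (Subgroup.zpowers g) (p - 1) ≤ V) :
    Cfsg.ControlsTransferIn p (Cfsg.inducedFunctor (G := G) W) ⊤ := by
  have h𝓦 : ∀ W' ∈ ({W} : Set (∀ (Q : Type u) [Group Q], Subgroup Q)), IsCharPFunctor.{u} p W' := by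
    intro W' hW'
    rw [Set.mem_singleton_iff] at hW'
    rw [hW']; exact hW
  have hloc' : ∀ (H : Type u) [Group H] [Finite H], IsSec G H →
      Subgroup.centralizer ((Cfsg.pCore p H : Subgroup H) : Set H) ≤ Cfsg.pCore p H →
      ∀ S : Sylow p H,
      (∀ L : Subgroup H, L ≠ ⊤ → (S : Subgroup H) ≤ L →
        (S : Subgroup H) ⊓ ⁅L, L⁆ ≤
          TF (IF ({W} : Set (∀ (Q : Type u) [Group Q], Subgroup Q)) H) ⊤ (S : Subgroup H)) →
      Cfsg.pCore p H ⊓ ⁅(⊤ : Subgroup H), ⊤⁆ ≤
        TF (IF ({W} : Set (∀ (Q : Type u) [Group Q], Subgroup Q)) H) ⊤ (S : Subgroup H) := by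
    intro H _ _ _ _ S ih
    exact Cfsg.Agent.S1972.constrained_case W hW S ih (hE H S)
  have hmain := familyTransfer_of_constrained_sections' G {W} h𝓦 hloc' _ G rfl isSec_self
  obtain ⟨T, hT1, hT2, hT3, hT4⟩ := hmain
  refine ⟨T, hT1, hT2, hT3, ?_⟩
  rw [hT4]
  have hIF : IF ({W} : Set (∀ (Q : Type u) [Group Q], Subgroup Q)) G =
      {inducedFunctor (G := G) W} := by
    unfold IF
    rw [Set.image_singleton]
  rw [hIF, iSup_singleton]

/-- Let p ≥ 5 be a prime and G a finite group. Then the lower K-infinity subgroup controls transfer in G: for some (equivalently, every) Sylow p-subgroup S of G, S ∩ G' = S ∩ (N_G(K))', where K is the lower K-infinity subgroup of S. -/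
theorem result {G : Type u} [Group G] [Finite G] {p : ℕ} [Fact p.Prime] (hp : 5 ≤ p) : Cfsg.ControlsTransferIn p (Cfsg.inducedFunctor (G := G) Cfsg.kInfLower) ⊤ := by
  apply controlsTransfer_of_engel Cfsg.kInfLower (isCharPFunctor_kInfLower.{u} p)
  intro H _ _ S hn
  exact exists_engel_of_not_normal hp S (Or.inl hn)

end Cfsg.Agent.S1984
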