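import Cfsg.Statements.S1978
import Cfsg.Agent.Lib.H10.PGroup
import Cfsg.Agent.Lib.H10.KInf

set_option autoImplicit false
open Cfsg

namespace Cfsg.Agent.S1978

theorem result {P : Type*} [Group P] [Finite P] {p : ℕ} [Fact p.Prime] (hP : IsPGroup p P) : Subgroup.centralizer (Cfsg.kInfLower P : Set P) ≤ Cfsg.kInfLower P ∧ Subgroup.center P ≤ Subgroup.centralizer (Cfsg.kInfLower P : Set P) ∧ Subgroup.centralizer (Cfsg.kInfUpper P : Set P) ≤ Cfsg.kInfUpper P ∧ Subgroup.center P ≤ Subgroup.centralizer (Cfsg.kInfUpper P : Set P) := by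
  obtain ⟨C, hCn, -, -, -, hC⟩ := Cfsg.Agent.Lib.H10.exists_scn hP (⊤ : Subgroup P) (⊥ : Subgroup P) bot_le
    (by refine ⟨⟨fun a b => ?_⟩⟩; exact Subsingleton.elim _ _)
  rw [top_inf_eq] at hC
  have hCc : IsMulCommutative ↥C := Subgroup.le_centralizer_iff_isMulCommutative.mp hC.ge
  haveI := hCn
  have h1 : C ≤ Cfsg.kInfLower P :=
    le_trans (Cfsg.Agent.Lib.H10.normal_abelian_le_kSeqEven C hCc 0) (le_iSup (fun n => Cfsg.kSeqEven P n) 0)
  have h2 : C ≤ Cfsg.kInfUpper P :=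
    le_iInf (fun n => Cfsg.Agent.Lib.H10.normal_abelian_le_kSeqOdd C hCc n)
  refine ⟨?_, Subgroup.center_le_centralizer _, ?_, Subgroup.center_le_centralizer _⟩
  · calc Subgroup.centralizer (Cfsg.kInfLower P : Set P) ≤ Subgroup.centralizer (C : Set P) :=
          Subgroup.centralizer_le h1
      _ = C := hC
      _ ≤ _ := h1
  · calc Subgroup.centralizer (Cfsg.kInfUpper P : Set P) ≤ Subgroup.centralizer (C : Set P) :=
          Subgroup.centralizer_le h2
      _ = C := hC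
      _ ≤ _ := h2

end Cfsg.Agent.S1978
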