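import Cfsg.Statements.S2006
import Cfsg.Agent.Lib.H10.ThompsonNPC
import Cfsg.Agent.Lib.H10.EngelChief

set_option autoImplicit false
universe u
open Cfsg

namespace Cfsg.Agent.S2006

open Cfsg.Agent.Lib Cfsg.Agent.Lib.H10

theorem hasNPC_of_mulEquiv {A B : Type u} [Group A] [Group B] [Finite A] {p : ℕ} [Fact p.Prime]
    (e : A ≃* B) (h : Cfsg.HasNormalPComplement p A) : Cfsg.HasNormalPComplement p B := by
  haveI : Finite B := Finite.of_equiv A e.toEquiv
  rw [hasNPC_iff_npc_top] at h ⊢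
  have := h.map e.toMonoidHom
  rwa [Subgroup.map_top_of_surjective _ e.surjective] at this

/-- Let p be a prime, G a finite group with Sylow p-subgroup S, and W an isomorphism-invariant p-group functor (W assigns to every group Q a subgroup W(Q), nontrivial whenever Q is a nontrivial finite p-group, and every isomorphism from a finite p-group Q onto a group R carries W(Q) onto W(R)). Suppose N_G(W(S)) has a normal p-complement, and that whenever G* = K/R is a section of G with C_{G*}(O_p(G*)) ≤ O_p(G*) and S* is a Sylow p-subgroup of G* with W(S*) not normal in G*, there are an element g of S* outside O_p(G*) and a chief factor X/Y of G* with X ≤ O_p(G*) such that [X, g, …, g] ≤ Y with p − 1 entries g but [X, g] ≰ Y. Then G has a normal p-complement. -/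
theorem result {G : Type u} [Group G] [Finite G] {p : ℕ} [Fact p.Prime] (W : ∀ (Q : Type u) [Group Q], Subgroup Q) (hW : Cfsg.IsCharPFunctor.{u} p W) (S : Sylow p G) (hN : Cfsg.HasNormalPComplement p ↥(Subgroup.normalizer ((Cfsg.inducedFunctor (G := G) W (S : Subgroup G) : Subgroup G) : Set G))) (hloc : ∀ (K R : Subgroup G) [hR : (R.subgroupOf K).Normal], Subgroup.centralizer ((Cfsg.pCore p (↥K ⧸ R.subgroupOf K) : Subgroup (↥K ⧸ R.subgroupOf K)) : Set (↥K ⧸ R.subgroupOf K)) ≤ Cfsg.pCore p (↥K ⧸ R.subgroupOf K) → ∀ T : Sylow p (↥K ⧸ R.subgroupOf K), ¬ (Cfsg.inducedFunctor (G := (↥K ⧸ R.subgroupOf K)) W ((T : Subgroup (↥K ⧸ R.subgroupOf K)))).Normal → ∃ g : (↥K ⧸ R.subgroupOf K), g ∈ (T : Subgroup (↥K ⧸ R.subgroupOf K)) ∧ g ∉ Cfsg.pCore p (↥K ⧸ R.subgroupOf K) ∧ ∃ U V : Subgroup (↥K ⧸ R.subgroupOf K), Cfsg.IsChiefFactor U V ∧ U ≤ Cfsg.pCore p (↥K ⧸ R.subgroupOf K) ∧ Cfsg.iterCommutator U (Subgroup.zpowers g) (p - 1) ≤ V ∧ ¬ ⁅U, Subgroup.zpowers g⁆ ≤ V)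 : Cfsg.HasNormalPComplement p G := by
  rw [hasNPC_iff_npc_top]
  have hN' := (hasNPC_subgroup_iff _).1 hN
  apply npc_of_sections G W hW ?_ _ G rfl isSec_self S hN'
  intro H _ _ hsec hcon hquot T hcoatom hNT
  obtain ⟨K, R, hR, ⟨ε⟩⟩ := hsec.exists_equiv
  have hcon' := constrained_of_mulEquiv p ε hcon
  have hquot' : Cfsg.HasNormalPComplement p
      ((↥K ⧸ R.subgroupOf K) ⧸ Cfsg.pCore p (↥K ⧸ R.subgroupOf K)) := by
    have e2 : (↥K ⧸ R.subgroupOf K) ⧸ Cfsg.pCore p (↥K ⧸ R.subgroupOf K) ≃* H ⧸ Cfsg.pCore p H :=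
      QuotientGroup.congr _ _ ε (pCore_map_mulEquiv p ε)
    exact hasNPC_of_mulEquiv e2.symm hquot
  -- the Sylow subgroup of `K / R`
  have hT'p : IsPGroup p ((T : Subgroup H).map ε.symm.toMonoidHom) := T.2.map _
  have hT'i : ¬ p ∣ ((T : Subgroup H).map ε.symm.toMonoidHom).index := by
    have := Subgroup.index_map_equiv (T : Subgroup H) ε.symm
    rw [show ((ε.symm : H →* (↥K ⧸ R.subgroupOf K))) = ε.symm.toMonoidHom from rfl] at this
    rw [this]
    exact T.not_dvd_index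
  let T' : Sylow p (↥K ⧸ R.subgroupOf K) := hT'p.toSylow hT'i
  have hT' : (T' : Subgroup (↥K ⧸ R.subgroupOf K)) = (T : Subgroup H).map ε.symm.toMonoidHom :=
    hT'p.toSylow_coe hT'i
  have hcoatom' : IsCoatom (T' : Subgroup (↥K ⧸ R.subgroupOf K)) := by
    rw [hT']
    exact (ε.symm.mapSubgroup.isCoatom_iff (T : Subgroup H)).2 hcoatom
  by_cases hnorm : (Cfsg.inducedFunctor (G := (↥K ⧸ R.subgroupOf K)) W
      ((T' : Subgroup (↥K ⧸ R.subgroupOf K)))).Normal
  · have hmapT : (T' : Subgroup (↥K ⧸ R.subgroupOf K)).map ε.toMonoidHom = (T : Subgroup H) := by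
      rw [hT', Subgroup.map_map]
      have : ε.toMonoidHom.comp ε.symm.toMonoidHom = MonoidHom.id H := by
        ext x; simp
      rw [this, Subgroup.map_id]
    have hnormH : (inducedFunctor W (T : Subgroup H)).Normal := by
      rw [← hmapT, ← inducedFunctor_map_equiv hW ε _ T'.2]
      exact hnorm.map _ ε.surjective
    have : Subgroup.normalizer ((inducedFunctor W (T : Subgroup H) : Subgroup H) : Set H) = ⊤ :=
      Subgroup.normalizer_eq_top_iff.2 hnormH
    rw [this] at hNT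
    exact hNT
  · exfalso
    obtain ⟨g, hgT, hgP, U, V, hUV, hUP, hE, hne⟩ := hloc K R hcon' T' hnorm
    exact false_of_engel_chief hquot' T' hcoatom' g hgT hgP U V hUV hUP hE hne

end Cfsg.Agent.S2006
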