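import Cfsg.Statements.S1988
import Cfsg.Agent.Lib.H10.KInfCritical
import Cfsg.Agent.Lib.H10.NPC
import Cfsg.Agent.Lib.H10.SylowIn
import Cfsg.Agent.Lib.H10.WellPlaced
import Cfsg.Agent.S2006
import Cfsg.Agent.S1978

set_option autoImplicit false
universe u
open Cfsg

namespace Cfsg.Agent.S1988

open Cfsg.Agent.Lib Cfsg.Agent.Lib.H10


/-- the hypothesis of S2006 for the lower K-infinity functor, `p` odd -/
theorem hloc_kInfLower {H : Type u} [Group H] [Finite H] {p : ℕ} [hp : Fact p.Prime] (hp2 : p ≠ 2)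
    (hcon : Subgroup.centralizer ((Cfsg.pCore p H : Subgroup H) : Set H) ≤ Cfsg.pCore p H)
    (T : Sylow p H) (hWn : ¬ (Cfsg.inducedFunctor Cfsg.kInfLower (T : Subgroup H)).Normal) :
    ∃ g : H, g ∈ (T : Subgroup H) ∧ g ∉ Cfsg.pCore p H ∧ ∃ U V : Subgroup H,
      Cfsg.IsChiefFactor U V ∧ U ≤ Cfsg.pCore p H ∧
      Cfsg.iterCommutator U (Subgroup.zpowers g) (p - 1) ≤ V ∧ ¬ ⁅U, Subgroup.zpowers g⁆ ≤ V := by
  obtain ⟨A, hAn, hAT, -, hA2, hA3, hA4⟩ := exists_critical_pCore H p
  have := hAn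
  have hA5 := coprime_aut_trivial_of_critical A hAT hA4
  obtain ⟨g, hgS, hgT, -, -, U, V, hUV, hUA, hq, hn⟩ :=
    exists_goodElt_of_not_normal T A hAT hA2 hA3 hA4 hA5 hcon (Or.inl hWn)
  refine ⟨g, hgS, hgT, U, V, hUV, hUA.trans hAT, ?_, hn⟩
  have hVn : V.Normal := hUV.2.2.1
  have h2 : Cfsg.iterCommutator U (Subgroup.zpowers g) 2 ≤ V := hq
  have hp3 : 2 ≤ p - 1 := by
    have := hp.out.two_le
    omega
  exact iterCommutator_le_of_le U _ hp3 h2

theorem normalizer_le_normalizer_centralizer {G : Type*} [Group G] (K : Subgroup G) :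
    Subgroup.normalizer ((K : Subgroup G) : Set G) ≤
      Subgroup.normalizer ((Subgroup.centralizer ((K : Subgroup G) : Set G) : Subgroup G) : Set G) := by
  apply le_normalizer_of_conj_mem
  intro m hm q hq
  rw [Subgroup.mem_centralizer_iff] at hq ⊢
  intro k hk
  have hk' : m⁻¹ * k * m⁻¹⁻¹ ∈ K :=
    conj_mem_of_le_normalizer le_rfl (Subgroup.inv_mem _ hm) hk
  have := hq _ hk'
  calc k * (m * q * m⁻¹) = m * ((m⁻¹ * k * m⁻¹⁻¹) * q) * m⁻¹ := by group
    _ = m * (q * (m⁻¹ * k * m⁻¹⁻¹)) * m⁻¹ := by rw [this]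
    _ = m * q * m⁻¹ * k := by group

/-- Let p be an odd prime, G a finite group with Sylow p-subgroup S and K the lower K-infinity subgroup of S. If N_G(K) has a normal p-complement, or if N_G(K)/C_G(K) is a p-group (every element of N_G(K) of order prime to p centralizes K), then G has a normal p-complement. -/
theorem result {G : Type u} [Group G] [Finite G] {p : ℕ} [Fact p.Prime] (hp : p ≠ 2) (S : Sylow p G) (h : Cfsg.HasNormalPComplement p ↥(Subgroup.normalizer ((Cfsg.inducedFunctor Cfsg.kInfLower (S : Subgroup G) : Subgroup G) : Set G)) ∨ ∀ g ∈ Subgroup.normalizer ((Cfsg.inducedFunctor Cfsg.kInfLower (S : Subgroup G) : Subgroup G) : Set G), (orderOf g).Coprime p → g ∈ Subgroup.centralizer ((Cfsg.inducedFunctor Cfsg.kInfLower (S : Subgroup G) : Subgroup G) : Set G)) : Cfsg.HasNormalPComplement p G := by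
  have hW := isCharPFunctor_kInfLower.{u} p
  have hc : Cfsg.IsConjugacyFunctor p (Cfsg.inducedFunctor (G := G) Cfsg.kInfLower) :=
    isConjugacyFunctor_inducedFunctor hW
  set K := Cfsg.inducedFunctor Cfsg.kInfLower (S : Subgroup G) with hK
  set N := Subgroup.normalizer ((K : Subgroup G) : Set G) with hN
  set C := Subgroup.centralizer ((K : Subgroup G) : Set G) with hC
  have hloc : ∀ (K' R : Subgroup G) [hR : (R.subgroupOf K').Normal],
      Subgroup.centralizer ((Cfsg.pCore p (↥K' ⧸ R.subgroupOf K') : Subgroup (↥K' ⧸ R.subgroupOf K')) :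
        Set (↥K' ⧸ R.subgroupOf K')) ≤ Cfsg.pCore p (↥K' ⧸ R.subgroupOf K') →
      ∀ T : Sylow p (↥K' ⧸ R.subgroupOf K'),
      ¬ (Cfsg.inducedFunctor (G := (↥K' ⧸ R.subgroupOf K')) Cfsg.kInfLower
        ((T : Subgroup (↥K' ⧸ R.subgroupOf K')))).Normal →
      ∃ g : (↥K' ⧸ R.subgroupOf K'), g ∈ (T : Subgroup (↥K' ⧸ R.subgroupOf K')) ∧
        g ∉ Cfsg.pCore p (↥K' ⧸ R.subgroupOf K') ∧ ∃ U V : Subgroup (↥K' ⧸ R.subgroupOf K'),
        Cfsg.IsChiefFactor U V ∧ U ≤ Cfsg.pCore p (↥K' ⧸ R.subgroupOf K') ∧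
        Cfsg.iterCommutator U (Subgroup.zpowers g) (p - 1) ≤ V ∧ ¬ ⁅U, Subgroup.zpowers g⁆ ≤ V := by
    intro K' R hR hcon T hWn
    exact hloc_kInfLower hp hcon T hWn
  have hmain : Cfsg.HasNormalPComplement p ↥N → Cfsg.HasNormalPComplement p G := by
    intro hNpc
    exact Cfsg.Agent.S2006.result Cfsg.kInfLower hW S hNpc hloc
  rcases h with h | h
  · exact hmain h
  · apply hmain
    -- basic facts
    have hKS : K ≤ (S : Subgroup G) := Subgroup.map_subtype_le _
    have hSN : (S : Subgroup G) ≤ N :=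
      Subgroup.le_normalizer.trans (normalizer_le_normalizer_functor hc S.2)
    have hCN : C ≤ N := Subgroup.centralizer_le_normalizer _
    have hNC : N ≤ Subgroup.normalizer ((C : Subgroup G) : Set G) :=
      normalizer_le_normalizer_centralizer K
    have hSCK : (S : Subgroup G) ⊓ C ≤ K := by
      rintro x ⟨hxS, hxC⟩
      have h1 := (Cfsg.Agent.S1978.result (P := ↥(S : Subgroup G)) S.2).1
      have h2 : (⟨x, hxS⟩ : ↥(S : Subgroup G)) ∈
          Subgroup.centralizer (Cfsg.kInfLower ↥(S : Subgroup G) : Set ↥(S : Subgroup G)) := by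
        rw [Subgroup.mem_centralizer_iff]
        intro y hy
        apply Subtype.ext
        have hyK : (y : G) ∈ K := ⟨y, hy, rfl⟩
        exact Subgroup.mem_centralizer_iff.mp hxC (y : G) hyK
      exact ⟨⟨x, hxS⟩, h1 h2, rfl⟩
    -- `C` has a normal `p`-complement by Burnside
    have hCnpc : Cfsg.HasNormalPComplement p ↥C := by
      let PC : Sylow p ↥C := default
      apply L0.hasNormalPComplement_of_normalizer_le_centralizer PC
      intro c _
      rw [Subgroup.mem_centralizer_iff]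
      intro x hx
      set Q := (PC : Subgroup ↥C).map C.subtype with hQ
      have hQp : IsPGroup p ↥Q := PC.2.map _
      have hQC : Q ≤ C := Subgroup.map_subtype_le _
      obtain ⟨m, hmN, hmQ⟩ := exists_mem_map_conj_le_of_sylowIn S.2 hSN
        (not_dvd_relIndex_of_sylow_le S hSN) hQp (hQC.trans hCN)
      have hQK : Q ≤ K := by
        intro q hq
        have h1 : m * q * m⁻¹ ∈ (S : Subgroup G) := by
          apply hmQ
          rw [mem_map_conj]
          have : m⁻¹ * (m * q * m⁻¹) * m = q := by group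
          rw [this]; exact hq
        have h2 : m * q * m⁻¹ ∈ C := conj_mem_of_le_normalizer hNC hmN (hQC hq)
        have h3 : m * q * m⁻¹ ∈ K := hSCK ⟨h1, h2⟩
        have h4 := conj_mem_of_le_normalizer (le_rfl : N ≤ N) (N.inv_mem hmN) h3
        have : m⁻¹ * (m * q * m⁻¹) * m⁻¹⁻¹ = q := by group
        rw [this] at h4
        exact h4
      have hxK : (x : G) ∈ K := hQK ⟨x, hx, rfl⟩
      apply Subtype.ext
      exact Subgroup.mem_centralizer_iff.mp c.2 (x : G) hxK
    rw [hasNPC_subgroup_iff] at hCnpc ⊢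
    intro hdvd
    apply hCnpc
    refine hdvd.trans (Subgroup.card_dvd_of_le ?_)
    apply Subgroup.closure_mono
    rintro x ⟨hxN, hxc⟩
    exact ⟨h x hxN hxc, hxc⟩

end Cfsg.Agent.S1988
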