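import Cfsg.Statements.S1412
-- import your own Cfsg.Agent.* helpers here
import Mathlib
import Cfsg.Agent.S1448
import Cfsg.Agent.S1450
import Cfsg.Agent.S1984
import Cfsg.Agent.S1988
import Cfsg.Agent.Lib.H10.LocalGlobalTransfer
import Cfsg.Agent.Lib.H10.CharFunctor
import Cfsg.Agent.Lib.H10.KInfFunctor
import Cfsg.Agent.Lib.H10.WellPlaced
import Cfsg.Agent.Lib.H16.SylCommB
import Cfsg.Agent.Lib.H16.SylCommC
import Cfsg.Agent.Lib.H16.NarrowSolv
import Cfsg.Agent.Lib.H16.RankTwoC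

set_option autoImplicit false
open Cfsg

namespace Cfsg.Agent.S1412

open scoped commutatorElement
open Cfsg.Agent.Lib.H16.SylComm

/-- Let G be a minimal simple group of odd order, p a prime and P a Sylow p-subgroup of G with no elementary abelian subgroup of order p ^ 3. Then either P is abelian, or P is generated by two elementwise-commuting subgroups P₁, P₂ with P₁ nonabelian of order p ^ 3 and exponent p, P₂ cyclic, and the elements of P₂ of order dividing p generating exactly the centre of P₁. -/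
theorem result {G : Type*} [Group G] [Finite G] (hG : Cfsg.IsMinSimpleOddOrder G) (p : ℕ) [Fact p.Prime] (P : Sylow p G) (hr : Cfsg.PRankLE p 2 (P : Subgroup G)) :
    IsMulCommutative (P : Subgroup G) ∨ ∃ P₁ P₂ : Subgroup G, P₁ ⊔ P₂ = (P : Subgroup G) ∧ (∀ a ∈ P₁, ∀ b ∈ P₂, a * b = b * a) ∧
        ¬ IsMulCommutative P₁ ∧ Nat.card P₁ = p ^ 3 ∧ Monoid.exponent P₁ = p ∧ IsCyclic P₂ ∧
        Subgroup.closure {x : G | x ∈ P₂ ∧ x ^ p = 1} = P₁ ⊓ Subgroup.centralizer (P₁ : Set G) := by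
  classical
  obtain ⟨hodd, hs, hnc, hsolv⟩ := hG
  have hpp : p.Prime := Fact.out
  by_cases hP1 : (P : Subgroup G) = ⊥
  · left
    refine ⟨⟨fun a b => ?_⟩⟩
    have ha : (a : G) = 1 := by
      have h0 : (a : G) ∈ (⊥ : Subgroup G) := hP1 ▸ a.2
      exact Subgroup.mem_bot.mp h0
    apply Subtype.ext
    rw [Subgroup.coe_mul, Subgroup.coe_mul, ha, one_mul, mul_one]
  have hdP : p ∣ Nat.card (P : Subgroup G) := by
    obtain ⟨n, hn⟩ := IsPGroup.iff_card.mp P.2
    have hn0 : n ≠ 0 := by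
      intro h0
      apply hP1
      apply Subgroup.card_eq_one.mp
      rw [hn, h0, pow_zero]
    rw [hn]
    exact dvd_pow_self p hn0
  have hp2 : p ≠ 2 := by
    intro h2
    have hd2 : p ∣ Nat.card G := hdP.trans (Subgroup.card_subgroup_dvd_card _)
    rw [h2] at hd2
    exact (Nat.not_even_iff_odd.mpr hodd) (even_iff_two_dvd.mpr hd2)
  have hW := Cfsg.Agent.Lib.H10.isCharPFunctor_kInfLower p
  have hconj := Cfsg.Agent.Lib.H10.isConjugacyFunctor_inducedFunctor (H := G) hW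
  obtain ⟨hWP, hWne, -⟩ := hconj (P : Subgroup G) P.2
  have hW1 := hWne hP1
  have hPM : (P : Subgroup G) ≤ Subgroup.normalizer
      ((Cfsg.inducedFunctor Cfsg.kInfLower (P : Subgroup G) : Subgroup G) : Set G) :=
    Subgroup.le_normalizer.trans (Cfsg.Agent.Lib.H10.normalizer_le_normalizer_functor hconj P.2)
  have hnotp : ¬ IsPGroup p G := not_isPGroup_of_simple hs hnc
  have hMtop : Subgroup.normalizer
      ((Cfsg.inducedFunctor Cfsg.kInfLower (P : Subgroup G) : Subgroup G) : Set G) ≠ ⊤ := by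
    intro h
    have hWn : (Cfsg.inducedFunctor Cfsg.kInfLower (P : Subgroup G) : Subgroup G).Normal :=
      Subgroup.normalizer_eq_top_iff.mp h
    rcases hWn.eq_bot_or_eq_top with h0 | h0
    · exact hW1 h0
    · apply hnotp
      have hPtop : (P : Subgroup G) = ⊤ := eq_top_iff.mpr (h0 ▸ hWP)
      have h4 : IsPGroup p (⊤ : Subgroup G) := hPtop ▸ P.2
      exact h4.of_equiv Subgroup.topEquiv
  obtain ⟨Mn, hMn⟩ : ∃ Mn : Subgroup G, Mn = Subgroup.normalizer
      ((Cfsg.inducedFunctor Cfsg.kInfLower (P : Subgroup G) : Subgroup G) : Set G) := ⟨_, rfl⟩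
  rw [← hMn] at hPM hMtop
  have hsolM : Group.IsSolvable ↥Mn := hsolv Mn hMtop
  have hoddM : Odd (Nat.card ↥Mn) := Odd.of_dvd_nat hodd (Subgroup.card_subgroup_dvd_card Mn)
  have hrG : Cfsg.PRankLE p 2 G := Cfsg.Agent.Lib.H16.Narrow.pRankLE_of_sylow P hr
  have hrM : Cfsg.PRankLE p 2 ↥Mn := Cfsg.Agent.Lib.H16.RankTwo.pRankLE_subgroup hrG Mn
  have hpM : p ∣ Nat.card ↥Mn := hdP.trans (Subgroup.card_dvd_of_le hPM)
  obtain ⟨-, h2, -, -, h5, -⟩ := Cfsg.Agent.S1450.result hoddM p hpM hrM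
  by_cases hp3 : p = 3
  · exfalso
    have hc : Cfsg.HasNormalPComplement p ↥Mn := h2 (Or.inl hp3)
    have hcG : Cfsg.HasNormalPComplement p G :=
      Cfsg.Agent.S1988.result hp2 P (Or.inl (hMn ▸ hc))
    exact not_hasNormalPComplement_of_simple hs hnc P hP1 hcG
  have hp5 : 5 ≤ p := five_le_of_prime hpp hp2 hp3
  have hc := Cfsg.Agent.S1984.result (G := G) (p := p) hp5
  have h1 := Cfsg.Agent.Lib.H10.controlsTransferIn_sylowIn hconj hc P.2 le_top
    (by rw [Subgroup.relIndex_top_right]; exact P.not_dvd_index)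
  simp only [top_inf_eq] at h1
  rw [← hMn] at h1
  have hperf : ⁅(⊤ : Subgroup G), (⊤ : Subgroup G)⁆ = (⊤ : Subgroup G) := by
    have hn : (commutator G).Normal := inferInstance
    rcases hn.eq_bot_or_eq_top with h | h
    · exfalso
      apply hnc
      refine ⟨⟨fun a b => ?_⟩⟩
      have h3 : ⁅a, b⁆ ∈ ⁅(⊤ : Subgroup G), (⊤ : Subgroup G)⁆ :=
        Subgroup.commutator_mem_commutator (Subgroup.mem_top a) (Subgroup.mem_top b)
      rw [← commutator_def, h, Subgroup.mem_bot] at h3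
      exact (commutatorElement_eq_one_iff_commute.mp h3).eq
    · rw [← commutator_def]
      exact h
  have hPcomm : (P : Subgroup G) ≤ ⁅Mn, Mn⁆ := by
    rw [hperf, inf_top_eq] at h1
    have h3 : (P : Subgroup G) ⊓ ⁅Mn, Mn⁆ ≤ ⁅Mn, Mn⁆ := inf_le_right
    rwa [← h1] at h3
  set P₀ : Sylow p ↥Mn := P.subtype hPM with hP₀
  have hP₀c : (P₀ : Subgroup ↥Mn) = (P : Subgroup G).subgroupOf Mn := Sylow.coe_subtype P hPM
  have hP₀comm : (P₀ : Subgroup ↥Mn) ≤ commutator ↥Mn := by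
    intro x hx
    rw [hP₀c, Subgroup.mem_subgroupOf] at hx
    have h3 := hPcomm hx
    rw [← Subgroup.map_subtype_commutator] at h3
    obtain ⟨y, hy, hyx⟩ := h3
    have : y = x := Subtype.ext hyx
    rw [← this]
    exact hy
  have hP₀L : (P₀ : Subgroup ↥Mn) ≤ Cfsg.pPrimePCore p ↥Mn := hP₀comm.trans h5
  obtain ⟨A₀, hA₀N, hA₀c, hA₀comm⟩ := exists_compl_comm_eq P₀ hP₀comm hP₀L
  have hmapP : (P₀ : Subgroup ↥Mn).map Mn.subtype = (P : Subgroup G) := by
    rw [hP₀c, Subgroup.subgroupOf_map_subtype, inf_of_le_left hPM]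
  have hAN : A₀.map Mn.subtype ≤ Subgroup.normalizer ((P : Subgroup G) : Set G) := by
    apply le_normalizer_of_conj_mem
    rintro _ ⟨a, ha, rfl⟩ x hx
    have hx0 : (⟨x, hPM hx⟩ : ↥Mn) ∈ (P₀ : Subgroup ↥Mn) := by
      rw [hP₀c, Subgroup.mem_subgroupOf]
      exact hx
    have h3 := (Subgroup.mem_normalizer_iff.mp (hA₀N ha) ⟨x, hPM hx⟩).mp hx0
    rw [hP₀c, Subgroup.mem_subgroupOf] at h3
    exact h3
  have hAcop : (Nat.card (A₀.map Mn.subtype)).Coprime p := by
    rw [Subgroup.card_map_of_injective Mn.subtype_injective]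
    exact hA₀c
  have hAodd : Odd (Nat.card (A₀.map Mn.subtype)) :=
    Odd.of_dvd_nat hodd (Subgroup.card_subgroup_dvd_card _)
  have hRA : ⁅(P : Subgroup G), A₀.map Mn.subtype⁆ = (P : Subgroup G) := by
    have h3 := congrArg (Subgroup.map Mn.subtype) hA₀comm
    rw [Subgroup.map_commutator, hmapP] at h3
    exact h3
  obtain ⟨-, hstr⟩ := Cfsg.Agent.S1448.result p hp2 (P : Subgroup G) (A₀.map Mn.subtype) P.2 hP1 hr
    hAN hAcop hAodd hRA
  rcases hstr with hcm | ⟨R₁, R₂, hsup, hcomm, hncR, hcard, hexp, hcyc, hcl⟩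
  · left
    exact hcm
  · right
    refine ⟨R₁, R₂, hsup, hcomm, hncR, hcard, hexp, hcyc, ?_⟩
    rw [hcl]
    exact commutator_eq_inf_centralizer_of_card_cube R₁ hcard hncR

end Cfsg.Agent.S1412
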