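import Cfsg.Statements.S1462
-- import your own Cfsg.Agent.* helpers here
import Mathlib
import Cfsg.Agent.Lib.H19.PLength
import Cfsg.Agent.Lib.H16.SolvableCore
import Cfsg.Agent.Lib.H16.SylowMore
import Cfsg.Agent.Lib.H16.ThompsonPQ
import Cfsg.Agent.Lib.H15.OmegaOdd

set_option autoImplicit false
open Cfsg

namespace Cfsg.Agent.S1462

open scoped commutatorElement

/-- adjoining a commuting element of order dividing `p` to an elementary abelian subgroup -/
theorem elemAb_adjoin {G : Type*} [Group G] (p : ℕ) (E : Subgroup G)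
    (hE : Cfsg.IsElementaryAbelian p E) (x : G) (hx : x ^ p = 1)
    (hxE : ∀ e ∈ E, x * e = e * x) :
    Cfsg.IsElementaryAbelian p (Subgroup.closure ((E : Set G) ∪ {x})) := by
  have hEc : ∀ a ∈ E, ∀ b ∈ E, a * b = b * a := fun a ha b hb =>
    congrArg Subtype.val (hE.1.is_comm.comm ⟨a, ha⟩ ⟨b, hb⟩)
  have hpair : ∀ a ∈ ((E : Set G) ∪ {x}), ∀ b ∈ ((E : Set G) ∪ {x}), a * b = b * a := by
    rintro a (ha | ha) b (hb | hb)
    · exact hEc a ha b hb
    · rw [Set.mem_singleton_iff] at hb; rw [hb]; exact (hxE a ha).symm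
    · rw [Set.mem_singleton_iff] at ha; rw [ha]; exact hxE b hb
    · rw [Set.mem_singleton_iff] at ha hb; rw [ha, hb]
  have hBc : IsMulCommutative (Subgroup.closure ((E : Set G) ∪ {x})) :=
    Subgroup.isMulCommutative_closure hpair
  refine ⟨hBc, ?_⟩
  have hcomm : ∀ a ∈ Subgroup.closure ((E : Set G) ∪ {x}),
      ∀ b ∈ Subgroup.closure ((E : Set G) ∪ {x}), a * b = b * a := fun a ha b hb =>
    congrArg Subtype.val (hBc.is_comm.comm ⟨a, ha⟩ ⟨b, hb⟩)
  intro a ha
  induction ha using Subgroup.closure_induction with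
  | mem a ha =>
    rcases ha with ha | ha
    · exact hE.2 a ha
    · rw [Set.mem_singleton_iff] at ha; rw [ha]; exact hx
  | one => exact one_pow p
  | mul a b ha hb iha ihb =>
    have hc : Commute a b := hcomm a ha b hb
    rw [hc.mul_pow, iha, ihb, one_mul]
  | inv a _ iha => rw [inv_pow, iha, inv_one]

open Cfsg.Agent.Lib.H19 Cfsg.Agent.Lib.H16 in
theorem main {G : Type*} [Group G] [Finite G] [Group.IsSolvable G] (p : ℕ) [Fact p.Prime]
    (hp : p ≠ 2) (hpl : Cfsg.PLengthLE p 1 G) (E L : Subgroup G)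
    (hE : Cfsg.IsElementaryAbelian p E)
    (hEmax : ∀ B : Subgroup G, Cfsg.IsElementaryAbelian p B → E ≤ B → B = E)
    (hL : (Nat.card L).Coprime p) (hEL : E ≤ Subgroup.normalizer (L : Set G)) :
    L ≤ Cfsg.pPrimeCore p G := by
  have hpp : p.Prime := Fact.out
  set N1 := Cfsg.pPrimeCore p G with hN1
  haveI hN1n : N1.Normal := Cfsg.Agent.Lib.H22.pPrimeCore_normal p
  have hN1card : (Nat.card N1).Coprime p := Cfsg.Agent.Lib.H22.card_pPrimeCore_coprime p
  set π := QuotientGroup.mk' N1 with hπ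
  have hπs : Function.Surjective π := QuotientGroup.mk'_surjective N1
  have hO : Cfsg.pPrimeCore p (G ⧸ N1) = ⊥ := Cfsg.Agent.Lib.H9.pPrimeCore_quotient_eq_bot p
  set Pb := Cfsg.pCore p (G ⧸ N1) with hPb
  haveI hPbn : Pb.Normal := Cfsg.Agent.Lib.H1.pCore_normal p _
  have hPbp : IsPGroup p Pb := Cfsg.Agent.Lib.H1.pCore_isPGroup p _
  have hHH : Subgroup.centralizer (Pb : Set (G ⧸ N1)) ≤ Pb :=
    centralizer_pCore_le_of_isSolvable p inferInstance hO
  -- `E` is a `p`-group
  have hEp : IsPGroup p E := by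
    intro a
    refine ⟨1, ?_⟩
    apply Subtype.ext
    rw [pow_one]
    exact hE.2 a a.2
  -- a Sylow `p`-subgroup containing `E`
  obtain ⟨P, hEP⟩ := hEp.exists_le_sylow
  -- `π` is injective on `P`
  have hPN : (P : Subgroup G) ⊓ N1 = ⊥ := by
    apply Subgroup.inf_eq_bot_of_coprime
    obtain ⟨k, hk⟩ := IsPGroup.iff_card.mp P.2
    rw [hk]
    exact (Nat.Coprime.pow_right k hN1card).symm
  have hinj : ∀ a ∈ (P : Subgroup G), π a = 1 → a = 1 := by
    intro a ha h1
    have : a ∈ N1 := by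
      rw [hπ, QuotientGroup.mk'_apply, QuotientGroup.eq_one_iff] at h1; exact h1
    have : a ∈ (P : Subgroup G) ⊓ N1 := ⟨ha, this⟩
    rw [hPN] at this
    exact this
  -- `Pb ≤ π(P)`
  have hPbP : Pb ≤ (P : Subgroup G).map π := by
    have := Cfsg.Agent.Lib.H1.pCore_le_sylow (P.mapSurjective hπs)
    rwa [Sylow.coe_mapSurjective] at this
  -- upper series: `U2` has index prime to `p` and `π(U2)` is a `p`-group
  set U1 := (Cfsg.upperPSeries p G 1).1 with hU1
  set U2 := (Cfsg.upperPSeries p G 2).1 with hU2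
  have hU1card : (Nat.card U1).Coprime p := by
    have := upper_relIndex_even (G := G) p (j := 0) (by decide)
    rw [upper_zero, Subgroup.relIndex_bot_left] at this
    exact this
  have hU1N1 : U1 ≤ N1 := Cfsg.Agent.Lib.H22.le_pPrimeCore p U1 inferInstance hU1card
  have hU12 : U1 ≤ U2 := upper_le_succ p 1
  obtain ⟨m, hm⟩ : ∃ m : ℕ, U1.relIndex U2 = p ^ m :=
    upper_relIndex_odd (G := G) p (j := 1) (by decide)
  have hU2idx : (U2.index).Coprime p := by
    have := upper_relIndex_even (G := G) p (j := 2) (by decide)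
    have h3 : (Cfsg.upperPSeries p G (2 + 1)).1 = ⊤ := hpl
    rw [h3, Subgroup.relIndex_top_right] at this
    exact this
  have hU2map : U2.map π ≤ Pb := by
    apply Cfsg.Agent.Lib.H1.le_pCore (Subgroup.Normal.map inferInstance π hπs)
    have hd : Nat.card (U2.map π) ∣ p ^ m := by
      rw [card_map_mk' N1 U2, ← hm]
      -- N1.relIndex U2 ∣ U1.relIndex U2
      exact Subgroup.relIndex_dvd_of_le_left U2 hU1N1
    obtain ⟨i, -, hi⟩ := (Nat.dvd_prime_pow hpp).1 hd
    exact IsPGroup.of_card hi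
  have hEU2 : E ≤ U2 := by
    intro e he
    apply mem_of_normal_of_coprime_index U2 e p 1 _ hU2idx.symm
    rw [pow_one]; exact hE.2 e he
  set Eb := E.map π with hEb
  set Lb := L.map π with hLb
  have hEbPb : Eb ≤ Pb := (Subgroup.map_mono hEU2).trans hU2map
  have hEbp : IsPGroup p Eb := hEp.map π
  have hLbcard : (Nat.card Lb).Coprime p :=
    Nat.Coprime.coprime_dvd_left (Subgroup.card_map_dvd L π) hL
  have hLbPb : Lb ⊓ Pb = ⊥ := by
    apply Subgroup.inf_eq_bot_of_coprime
    obtain ⟨k, hk⟩ := IsPGroup.iff_card.mp hPbp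
    rw [hk]
    exact Nat.Coprime.pow_right k hLbcard
  have hEbLb : Eb ≤ Subgroup.normalizer (Lb : Set (G ⧸ N1)) := by
    rw [hEb, hLb]
    exact (Subgroup.map_mono hEL).trans (Subgroup.le_normalizer_map π)
  -- `Lb` centralizes `Eb`
  have hcent : ∀ l ∈ Lb, ∀ e ∈ Eb, l * e = e * l := by
    intro l hl e he
    have h1 : ⁅l, e⁆ ∈ Lb := by
      have h2 : e * l⁻¹ * e⁻¹ ∈ Lb :=
        (Subgroup.mem_normalizer_iff.mp (hEbLb he) l⁻¹).mp (Lb.inv_mem hl)
      have : ⁅l, e⁆ = l * (e * l⁻¹ * e⁻¹) := by simp [commutatorElement_def, mul_assoc]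
      rw [this]
      exact Lb.mul_mem hl h2
    have h2 : ⁅l, e⁆ ∈ Pb := by
      have : ⁅l, e⁆ = (l * e * l⁻¹) * e⁻¹ := by simp [commutatorElement_def]
      rw [this]
      exact Pb.mul_mem (hPbn.conj_mem e (hEbPb he) l) (Pb.inv_mem (hEbPb he))
    have h3 : ⁅l, e⁆ ∈ Lb ⊓ Pb := ⟨h1, h2⟩
    rw [hLbPb, Subgroup.mem_bot, commutatorElement_eq_one_iff_mul_comm] at h3
    exact h3
  -- elements of order dividing `p` in `C_{Pb}(Eb)` lie in `Eb`
  have hΩ : ∀ xb ∈ Pb ⊓ Subgroup.centralizer (Eb : Set (G ⧸ N1)), xb ^ p = 1 → xb ∈ Eb := by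
    intro xb hxb hxp
    obtain ⟨x, hxP, rfl⟩ := hPbP hxb.1
    have hxp' : x ^ p = 1 := by
      apply hinj _ (Subgroup.pow_mem _ hxP p)
      rw [map_pow]; exact hxp
    have hxE : ∀ e ∈ E, x * e = e * x := by
      intro e he
      have hc := (Subgroup.mem_centralizer_iff.mp hxb.2) (π e) (Subgroup.mem_map_of_mem π he)
      -- hc : π e * π x = π x * π e
      have h1 : x * e * (e * x)⁻¹ = 1 := by
        apply hinj _ (Subgroup.mul_mem _ (Subgroup.mul_mem _ hxP (hEP he))
          (Subgroup.inv_mem _ (Subgroup.mul_mem _ (hEP he) hxP)))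
        rw [map_mul, map_inv, map_mul, map_mul, hc, mul_inv_cancel]
      exact mul_inv_eq_one.mp h1
    have hB := elemAb_adjoin p E hE x hxp' hxE
    have hEB : E ≤ Subgroup.closure ((E : Set G) ∪ {x}) := fun e he =>
      Subgroup.subset_closure (Or.inl he)
    have := hEmax _ hB hEB
    have hxE' : x ∈ E := by
      rw [← this]
      exact Subgroup.subset_closure (Or.inr rfl)
    exact Subgroup.mem_map_of_mem π hxE'
  -- each `l ∈ Lb` centralizes `C_{Pb}(Eb)`
  have hCp : IsPGroup p ↥(Pb ⊓ Subgroup.centralizer (Eb : Set (G ⧸ N1))) := hPbp.to_le inf_le_left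
  have hLC : Pb ⊓ Subgroup.centralizer (Eb : Set (G ⧸ N1)) ≤
      Subgroup.centralizer (Lb : Set (G ⧸ N1)) := by
    intro c hc
    rw [Subgroup.mem_centralizer_iff]
    intro l hl
    have hlord : (orderOf l).Coprime p :=
      Nat.Coprime.coprime_dvd_left (Subgroup.orderOf_dvd_natCard Lb hl) hLbcard
    have hlN : l ∈ Subgroup.normalizer
        ((Pb ⊓ Subgroup.centralizer (Eb : Set (G ⧸ N1)) : Subgroup (G ⧸ N1)) : Set (G ⧸ N1)) := by
      rw [Subgroup.mem_normalizer_iff]
      intro h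
      have key : ∀ (t : G ⧸ N1), t ∈ Lb → ∀ y, y ∈ Pb ⊓ Subgroup.centralizer (Eb : Set (G ⧸ N1)) →
          t * y * t⁻¹ ∈ Pb ⊓ Subgroup.centralizer (Eb : Set (G ⧸ N1)) := by
        intro t ht y hy
        refine Subgroup.mem_inf.2 ⟨hPbn.conj_mem y hy.1 t, ?_⟩
        rw [Subgroup.mem_centralizer_iff]
        intro e he
        have h1 := (Subgroup.mem_centralizer_iff.mp hy.2) e he
        have h2 := hcent t ht e he
        have h3 : t⁻¹ * e = e * t⁻¹ := by
          have := hcent t⁻¹ (Lb.inv_mem ht) e he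
          exact this
        calc e * (t * y * t⁻¹) = (e * t) * y * t⁻¹ := by group
          _ = (t * e) * y * t⁻¹ := by rw [h2]
          _ = t * (e * y) * t⁻¹ := by group
          _ = t * (y * e) * t⁻¹ := by rw [h1]
          _ = t * y * (e * t⁻¹) := by group
          _ = t * y * (t⁻¹ * e) := by rw [h3]
          _ = t * y * t⁻¹ * e := by group
      constructor
      · intro hh; exact key l hl h hh
      · intro hh
        have := key l⁻¹ (Lb.inv_mem hl) _ hh
        have e : l⁻¹ * (l * h * l⁻¹) * l⁻¹⁻¹ = h := by group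
        rwa [e] at this
    have := Cfsg.Agent.Lib.H15.commute_of_commute_omega hp hlord hCp hlN
      (fun x hx hxp => hcent l hl x (hΩ x hx hxp)) c hc
    exact this
  -- Thompson's lemma
  have hEbPbn : Eb ≤ Subgroup.normalizer (Pb : Set (G ⧸ N1)) := by
    rw [Subgroup.normalizer_eq_top_iff.2 hPbn]; exact le_top
  have hLbPbn : Lb ≤ Subgroup.normalizer (Pb : Set (G ⧸ N1)) := by
    rw [Subgroup.normalizer_eq_top_iff.2 hPbn]; exact le_top
  have hT := thompson_pq_odd hp Eb Lb hEbp hLbcard hEbLb _ Pb rfl hPbp hEbPbn hLbPbn hLC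
  have hLbbot : Lb = ⊥ := by
    rw [eq_bot_iff, ← hLbPb]
    exact le_inf le_rfl (hT.trans hHH)
  intro l hl
  have : π l ∈ Lb := Subgroup.mem_map_of_mem π hl
  rw [hLbbot, Subgroup.mem_bot, hπ, QuotientGroup.mk'_apply, QuotientGroup.eq_one_iff] at this
  exact this

/-- Let G be a finite solvable group, p an odd prime with G = O_{p',p,p'}(G), E an elementary abelian p-subgroup contained in no larger elementary abelian p-subgroup of G, and L a subgroup of order coprime to p normalized by E. Then L ≤ O_{p'}(G). -/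
theorem result {G : Type*} [Group G] [Finite G] [Group.IsSolvable G] (p : ℕ) [Fact p.Prime] (hp : p ≠ 2) (hpl : Cfsg.PLengthLE p 1 G) (E L : Subgroup G) (hE : Cfsg.IsElementaryAbelian p E)
    (hEmax : ∀ B : Subgroup G, Cfsg.IsElementaryAbelian p B → E ≤ B → B = E) (hL : (Nat.card L).Coprime p) (hEL : E ≤ Subgroup.normalizer (L : Set G)) :
    L ≤ Cfsg.pPrimeCore p G := by
  exact main p hp hpl E L hE hEmax hL hEL

end Cfsg.Agent.S1462
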