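import Cfsg.Statements.S1422
import Mathlib
import Cfsg.Agent.Lib.H20.BGU4
import Cfsg.Agent.S1412
import Cfsg.Agent.Lib.H7.BG124
import Cfsg.Agent.S1417

set_option autoImplicit false
open Cfsg

namespace Cfsg.Agent.S1422

/-- Let G be a minimal simple group of odd order, p a prime and P a non-abelian p-subgroup of G. Then P lies in exactly one maximal subgroup of G. -/
theorem result {G : Type*} [Group G] [Finite G] (hG : Cfsg.IsMinSimpleOddOrder G) (p : ℕ) [Fact p.Prime] (P : Subgroup G) (hP : IsPGroup p P) (hPna : ¬ IsMulCommutative P) :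
    Cfsg.InUniqueMaximal P := by
  classical
  have h17' : Cfsg.Agent.Lib.H8.BG12.Hyp1417 G := fun M'' hM'' p'' _ hp'' A'' hA'' =>
    Cfsg.Agent.S1417.result hG M'' hM'' p'' hp'' A'' hA''
  have h16 : Cfsg.Agent.Lib.H20.BGT.H1416a G := fun M' hM' p _ A hAM hAe hAc =>
    (Cfsg.Agent.Lib.H7.BG124.thm_12_4 hG h17' M' hM' p A ⟨hAM, hAe, hAc⟩).1
  have h16b : Cfsg.Agent.Lib.H20.BGU.H1416b G := fun M' hM' p _ A hAM hAe hAc =>
    (Cfsg.Agent.Lib.H7.BG124.thm_12_4 hG h17' M' hM' p A ⟨hAM, hAe, hAc⟩).2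
  have hT : Cfsg.Agent.Lib.H8.BG12.HypTau2 G := by
    intro M' hM' q _ hq A hAM hAe hAc
    obtain ⟨-, hb, -, -, he, -⟩ := Cfsg.Agent.S1417.result hG M' hM' q hq A ⟨hAM, hAe, hAc⟩
    exact ⟨fun P => ⟨(hb P).1, fun hle => ((hb P).2 hle).1⟩, he⟩
  have h12 : Cfsg.Agent.Lib.H20.BGU.H1412 G := by
    intro q _ Q hr
    rcases Cfsg.Agent.S1412.result hG q Q hr with h | ⟨P₁, P₂, hsup, -, hna, hc, he, -, -⟩
    · exact Or.inl h
    · exact Or.inr ⟨P₁, by rw [← hsup]; exact le_sup_left, hna, hc, he⟩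
  exact Cfsg.Agent.Lib.H20.BGU.nonabelian_inUniqueMaximal hG h16 h16b hT h12 p P hP hPna

end Cfsg.Agent.S1422
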