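import Cfsg.Statements.S0110
import Mathlib
import Cfsg.Agent.Lib.H16.CommHom
import Cfsg.Agent.Lib.H16.PGroupCenter
import Cfsg.Agent.Lib.H1.BurnsideBasis

set_option autoImplicit false
open Cfsg

namespace Cfsg.Agent.S0110

open Cfsg.Agent.Lib.H16
open scoped commutatorElement

/-- A nontrivial subgroup of a group of prime order is the whole group (subgroup form). -/
theorem eq_of_le_of_card_prime {G : Type*} [Group G] {p : ℕ} (hp : p.Prime) {K D : Subgroup G}
    (hKD : K ≤ D) (hD : Nat.card D = p) (hK : K ≠ ⊥) : K = D := by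
  haveI : Finite D := Nat.finite_of_card_ne_zero (by rw [hD]; exact hp.ne_zero)
  have h1 : Nat.card K ∣ Nat.card D := Subgroup.card_dvd_of_le hKD
  rw [hD] at h1
  rcases (Nat.dvd_prime hp).mp h1 with h | h
  · exact absurd (Subgroup.card_eq_one.mp h) hK
  · exact Subgroup.eq_of_le_of_card_ge hKD (by rw [hD, h])

/-- In a p-group G, an extraspecial subgroup E with [G, E] ≤ Z(E) satisfies G = E C_G(E). -/
theorem result {G : Type*} [Group G] [Finite G] {p : ℕ} [Fact p.Prime] (hG : IsPGroup p G) (E : Subgroup G) (hE : Cfsg.IsExtraspecial p E) (h : ⁅(⊤ : Subgroup G), E⁆ ≤ E ⊓ Subgroup.centralizer (E : Set G)) : E ⊔ Subgroup.centralizer (E : Set G) = ⊤ := by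
  classical
  have hp : p.Prime := Fact.out
  obtain ⟨⟨hEp, hΦ, hD⟩, hcard⟩ := hE
  set Z : Subgroup G := E ⊓ Subgroup.centralizer (E : Set G) with hZ
  have hcen : Subgroup.center E = Z.subgroupOf E := by
    ext x
    rw [Subgroup.mem_center_iff, Subgroup.mem_subgroupOf, hZ, Subgroup.mem_inf,
      Subgroup.mem_centralizer_iff]
    constructor
    · intro hx
      refine ⟨x.2, fun e he => ?_⟩
      exact congrArg Subtype.val (hx ⟨e, he⟩)
    · intro hx e
      apply Subtype.ext
      exact hx.2 e e.2
  have hZcard : Nat.card Z = p := by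
    rw [← hcard, hcen]
    exact (Nat.card_congr (Subgroup.subgroupOfEquivOfLe (inf_le_left : Z ≤ E)).toEquiv).symm
  have hcomm : ∀ g x, x ∈ E → ⁅g, x⁆ ∈ Z := fun g x hx =>
    h (Subgroup.commutator_mem_commutator (Subgroup.mem_top g) hx)
  have hZn : Z.Normal := by
    constructor
    intro z hz g
    have : g * z * g⁻¹ = ⁅g, z⁆ * z := by rw [commutatorElement_def]; group
    rw [this]
    exact Z.mul_mem (hcomm g z hz.1) hz
  have hEn : E.Normal := by
    constructor
    intro e he g
    have : g * e * g⁻¹ = ⁅g, e⁆ * e := by rw [commutatorElement_def]; group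
    rw [this]
    exact E.mul_mem (hcomm g e he).1 he
  have hZc : Z ≤ Subgroup.center G := by
    have hZne : Z ≠ ⊥ := by
      intro hb
      rw [hb, Subgroup.card_bot] at hZcard
      exact hp.one_lt.ne hZcard
    obtain ⟨x, hxZ, hx1, hxc⟩ := exists_ne_one_mem_center_of_normal' hp hG Z hZne
    have h1 : Z ⊓ Subgroup.center G = Z := by
      apply eq_of_le_of_card_prime hp inf_le_left hZcard
      intro hb
      have : x ∈ Z ⊓ Subgroup.center G := ⟨hxZ, hxc⟩
      rw [hb, Subgroup.mem_bot] at this
      exact hx1 this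
    rw [← h1]
    exact inf_le_right
  have hZcomm : ∀ d ∈ Z, ∀ g : G, Commute d g := fun d hd g =>
    (Subgroup.mem_center_iff.mp (hZc hd) g).symm
  -- each centralizer of an element of E has index at most p
  have hidx : ∀ x ∈ E, (Subgroup.centralizer ({x} : Set G)).index ≤ p := by
    intro x hx
    have h1 := relIndex_centralizer_dvd_card (⊤ : Subgroup G) Z x (fun k _ => hcomm k x hx)
      (fun d hd => hZcomm d hd x) (fun d hd k _ => hZcomm d hd k)
    rw [Subgroup.relIndex_top_right, hZcard] at h1
    exact Nat.le_of_dvd hp.pos h1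
  -- generators
  obtain ⟨k, hk⟩ := hEp.index (Subgroup.center E)
  have hfr : (frattini E).index = p ^ k := by rw [hΦ, hk]
  haveI : Fintype E := Fintype.ofFinite E
  obtain ⟨T, -, hTcard, hTgen⟩ := Cfsg.Agent.Lib.H1.burnside_basis hEp hfr (Finset.univ)
    (by rw [Finset.coe_univ, Subgroup.closure_univ])
  set C : Subgroup G := Subgroup.centralizer (E : Set G) with hC
  have hle : (⨅ t : T, Subgroup.centralizer ({((t : E) : G)} : Set G)) ≤ C := by
    intro g hg
    rw [Subgroup.mem_iInf] at hg
    rw [hC, Subgroup.mem_centralizer_iff]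
    have hK : Subgroup.closure (T : Set E) ≤ (Subgroup.centralizer ({g} : Set G)).subgroupOf E := by
      rw [Subgroup.closure_le]
      intro t ht
      have h1 := hg ⟨t, ht⟩
      rw [Subgroup.mem_centralizer_singleton_iff] at h1
      change t ∈ (Subgroup.centralizer ({g} : Set G)).subgroupOf E
      rw [Subgroup.mem_subgroupOf, Subgroup.mem_centralizer_singleton_iff]
      exact h1.symm
    rw [hTgen] at hK
    intro e he
    have h1 : (⟨e, he⟩ : E) ∈ (Subgroup.centralizer ({g} : Set G)).subgroupOf E :=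
      hK (Subgroup.mem_top _)
    rw [Subgroup.mem_subgroupOf, Subgroup.mem_centralizer_singleton_iff] at h1
    exact h1
  have hCidx : C.index ≤ p ^ k := by
    have h1 : C.index ∣ (⨅ t : T, Subgroup.centralizer ({((t : E) : G)} : Set G)).index :=
      Subgroup.index_dvd_of_le hle
    have h2 : (⨅ t : T, Subgroup.centralizer ({((t : E) : G)} : Set G)).index ≠ 0 :=
      Subgroup.index_ne_zero_of_finite
    have h3 := Nat.le_of_dvd (Nat.pos_of_ne_zero h2) h1
    have h4 := Subgroup.index_iInf_le (fun t : T => Subgroup.centralizer ({((t : E) : G)} : Set G))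
    have h5 : ∏ t : T, (Subgroup.centralizer ({((t : E) : G)} : Set G)).index ≤ ∏ _t : T, p :=
      Finset.prod_le_prod (fun _ _ => Nat.zero_le _) (fun t _ => hidx _ (t : E).2)
    rw [Finset.prod_const, Finset.card_univ, Fintype.card_coe, hTcard] at h5
    omega
  -- the relative index of C in E is p ^ k
  have hrel : C.relIndex E = p ^ k := by
    rw [← hk, hcen, hZ, ← Subgroup.inf_relIndex_left]
    rfl
  haveI : C.Normal := by rw [hC]; infer_instance
  have h1 : C.relIndex (E ⊔ C) = p ^ k := by rw [Subgroup.relIndex_sup_right, hrel]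
  have h2 := Subgroup.relIndex_mul_index (le_sup_right : C ≤ E ⊔ C)
  rw [h1] at h2
  have h3 : (E ⊔ C).index ≠ 0 := Subgroup.index_ne_zero_of_finite
  have h4 : (E ⊔ C).index = 1 := by
    by_contra hne
    have : 2 ≤ (E ⊔ C).index := by omega
    have h5 : p ^ k * 2 ≤ p ^ k * (E ⊔ C).index := Nat.mul_le_mul_left _ this
    have h6 : 0 < p ^ k := pow_pos hp.pos k
    omega
  exact Subgroup.index_eq_one.mp h4

end Cfsg.Agent.S0110
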