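import Cfsg.Statements.S0095
import Mathlib
import Cfsg.Agent.Lib.H16.CommHom
import Cfsg.Agent.S0110

set_option autoImplicit false
open Cfsg

namespace Cfsg.Agent.S0095

open Cfsg.Agent.Lib.H16
open scoped commutatorElement

/-- A subgroup `H` of a finite group with `|[H,H]| = p` and `[H,H]` central in `H` has centre of
index an even positive power of `p`. -/
theorem even_index_center {G : Type*} [Group G] [Finite G] {p : ℕ} (hp : p.Prime) :
    ∀ (N : ℕ) (H : Subgroup G), Nat.card H = N → Nat.card (⁅H, H⁆ : Subgroup G) = p →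
      ⁅H, H⁆ ≤ Subgroup.centralizer (H : Set G) →
      ∃ n : ℕ, 1 ≤ n ∧ (H ⊓ Subgroup.centralizer (H : Set G)).relIndex H = p ^ (2 * n) := by
  intro N
  induction N using Nat.strong_induction_on with
  | _ N ih =>
  intro H hN hD hc
  have : Fact p.Prime := ⟨hp⟩
  set D : Subgroup G := ⁅H, H⁆ with hDdef
  have hDne : D ≠ ⊥ := by
    intro hb
    rw [hb, Subgroup.card_bot] at hD
    exact hp.one_lt.ne hD
  have hmemD : ∀ k ∈ H, ∀ z ∈ H, ⁅k, z⁆ ∈ D := fun k hk z hz =>
    Subgroup.commutator_mem_commutator hk hz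
  have hDH : ∀ d ∈ D, ∀ k ∈ H, Commute d k := fun d hd k hk =>
    (Subgroup.mem_centralizer_iff.mp (hc hd) k hk).symm
  -- non-commuting x, y
  have hnc : ¬ H ≤ Subgroup.centralizer (H : Set G) := by
    intro hle
    exact hDne (Subgroup.commutator_eq_bot_iff_le_centralizer.mpr hle)
  rw [SetLike.not_le_iff_exists] at hnc
  obtain ⟨x, hx, hxc⟩ := hnc
  rw [Subgroup.mem_centralizer_iff] at hxc
  push Not at hxc
  obtain ⟨y, hy, hyx⟩ := hxc
  -- hyx : y * x ≠ x * y
  set Hy : Subgroup G := H ⊓ Subgroup.centralizer ({y} : Set G) with hHy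
  set Q : Subgroup G := Hy ⊓ Subgroup.centralizer ({x} : Set G) with hQ
  have hQH : Q ≤ H := inf_le_left.trans inf_le_left
  have ha1 : (Subgroup.centralizer ({y} : Set G)).relIndex H = p :=
    relIndex_centralizer_eq_prime hp H D y hD (fun k hk => hmemD k hk y hy)
      (fun d hd => hDH d hd y hy) hDH ⟨x, hx, fun h => hyx h.symm⟩
  have hyHy : y ∈ Hy := ⟨hy, Subgroup.mem_centralizer_singleton_iff.mpr rfl⟩
  have ha2 : (Subgroup.centralizer ({x} : Set G)).relIndex Hy = p :=
    relIndex_centralizer_eq_prime hp Hy D x hD (fun k hk => hmemD k hk.1 x hx)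
      (fun d hd => hDH d hd x hx) (fun d hd k hk => hDH d hd k hk.1) ⟨y, hyHy, hyx⟩
  have ha3 : Q.relIndex H = p * p := by
    rw [← Subgroup.relIndex_mul_relIndex Q Hy H inf_le_left inf_le_left, hQ,
      Subgroup.inf_relIndex_left, ha2, hHy, Subgroup.inf_relIndex_left, ha1]
  -- (b) the centres agree
  have hZ : Q ⊓ Subgroup.centralizer (Q : Set G) = H ⊓ Subgroup.centralizer (H : Set G) := by
    apply le_antisymm
    · intro w hw
      obtain ⟨hwQ, hwc⟩ := Subgroup.mem_inf.mp hw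
      have hwQ1 : w ∈ Hy := (Subgroup.mem_inf.mp hwQ).1
      have hwQ2 : w ∈ Subgroup.centralizer ({x} : Set G) := (Subgroup.mem_inf.mp hwQ).2
      have hwQ3 : w ∈ Subgroup.centralizer ({y} : Set G) := (Subgroup.mem_inf.mp hwQ1).2
      refine Subgroup.mem_inf.mpr ⟨hQH hwQ, ?_⟩
      rw [Subgroup.mem_centralizer_iff]
      intro g hg
      -- decompose g
      let ψy := commHom H D y (fun k hk => hmemD k hk y hy) (fun d hd => hDH d hd y hy) hDH
      let ψx := commHom H D x (fun k hk => hmemD k hk x hx) (fun d hd => hDH d hd x hx) hDH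
      have hcardD : Nat.card D = p := hD
      have hψyx : ψy ⟨x, hx⟩ ≠ 1 := by
        intro h1
        have h2 : (⟨x, hx⟩ : H) ∈ ψy.ker := h1
        rw [ker_commHom, Subgroup.mem_subgroupOf, Subgroup.mem_centralizer_singleton_iff] at h2
        exact hyx h2.symm
      have hψxy : ψx ⟨y, hy⟩ ≠ 1 := by
        intro h1
        have h2 : (⟨y, hy⟩ : H) ∈ ψx.ker := h1
        rw [ker_commHom, Subgroup.mem_subgroupOf, Subgroup.mem_centralizer_singleton_iff] at h2
        exact hyx h2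
      obtain ⟨i, hi⟩ := Subgroup.mem_zpowers_iff.mp
        (mem_zpowers_of_prime_card hcardD hψyx (g' := ψy ⟨g, hg⟩))
      set g₁ : H := ⟨g, hg⟩ * (⟨x, hx⟩ : H) ^ (-i) with hg₁
      have hg₁y : g₁ ∈ ψy.ker := by
        rw [MonoidHom.mem_ker, hg₁, map_mul, map_zpow, ← hi, zpow_neg, mul_inv_cancel]
      obtain ⟨j, hj⟩ := Subgroup.mem_zpowers_iff.mp
        (mem_zpowers_of_prime_card hcardD hψxy (g' := ψx g₁))
      set g₂ : H := g₁ * (⟨y, hy⟩ : H) ^ (-j) with hg₂
      have hg₂x : g₂ ∈ ψx.ker := by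
        rw [MonoidHom.mem_ker, hg₂, map_mul, map_zpow, ← hj, zpow_neg, mul_inv_cancel]
      have hyy : (⟨y, hy⟩ : H) ∈ ψy.ker := by
        rw [ker_commHom, Subgroup.mem_subgroupOf, Subgroup.mem_centralizer_singleton_iff]
      have hg₂y : g₂ ∈ ψy.ker := by
        rw [hg₂]
        exact ψy.ker.mul_mem hg₁y (ψy.ker.zpow_mem hyy _)
      have hg₂Q : (g₂ : G) ∈ Q := by
        rw [ker_commHom, Subgroup.mem_subgroupOf] at hg₂x hg₂y
        exact ⟨⟨g₂.2, hg₂y⟩, hg₂x⟩
      have hgeq : g = (g₂ : G) * y ^ j * x ^ i := by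
        have h1 : (⟨g, hg⟩ : H) = g₂ * (⟨y, hy⟩ : H) ^ j * (⟨x, hx⟩ : H) ^ i := by
          rw [hg₂, hg₁]; group
        have := congrArg Subtype.val h1
        simpa using this
      have hw2 : Commute w (g₂ : G) :=
        ((Subgroup.mem_centralizer_iff.mp hwc) _ hg₂Q).symm
      have hwy : Commute w y := Subgroup.mem_centralizer_singleton_iff.mp hwQ3
      have hwx : Commute w x := Subgroup.mem_centralizer_singleton_iff.mp hwQ2
      have hwg : Commute w g := by
        rw [hgeq]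
        exact (hw2.mul_right (hwy.zpow_right j)).mul_right (hwx.zpow_right i)
      exact hwg.eq.symm
    · intro w hw
      obtain ⟨hwH, hwc⟩ := Subgroup.mem_inf.mp hw
      have hwc' := Subgroup.mem_centralizer_iff.mp hwc
      have h1 : w ∈ Subgroup.centralizer ({y} : Set G) :=
        Subgroup.mem_centralizer_singleton_iff.mpr (hwc' y hy).symm
      have h2 : w ∈ Subgroup.centralizer ({x} : Set G) :=
        Subgroup.mem_centralizer_singleton_iff.mpr (hwc' x hx).symm
      exact Subgroup.mem_inf.mpr ⟨Subgroup.mem_inf.mpr ⟨Subgroup.mem_inf.mpr ⟨hwH, h1⟩, h2⟩,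
        Subgroup.centralizer_le hQH hwc⟩
  by_cases hab : Q ≤ Subgroup.centralizer (Q : Set G)
  · refine ⟨1, le_rfl, ?_⟩
    rw [← hZ, inf_eq_left.mpr hab, ha3, mul_one, pow_two]
  · have hD1ne : ⁅Q, Q⁆ ≠ ⊥ := fun hb => hab (Subgroup.commutator_eq_bot_iff_le_centralizer.mp hb)
    have hD1le : ⁅Q, Q⁆ ≤ D := Subgroup.commutator_mono hQH hQH
    have hD1 : ⁅Q, Q⁆ = D := Cfsg.Agent.S0110.eq_of_le_of_card_prime hp hD1le hD hD1ne
    have hcardlt : Nat.card Q < N := by
      have h1 : Nat.card Q * Q.relIndex H = Nat.card H := by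
        have := Subgroup.relIndex_mul_relIndex ⊥ Q H bot_le hQH
        rwa [Subgroup.relIndex_bot_left, Subgroup.relIndex_bot_left] at this
      rw [ha3, hN] at h1
      have h2 : 0 < Nat.card Q := Nat.card_pos
      have h3 : 2 ≤ p := hp.two_le
      have h4 : 4 ≤ p * p := by nlinarith
      nlinarith
    obtain ⟨m, hm1, hm⟩ := ih (Nat.card Q) hcardlt Q rfl (by rw [hD1]; exact hD)
      (by rw [hD1]; exact hc.trans (Subgroup.centralizer_le hQH))
    refine ⟨m + 1, by omega, ?_⟩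
    rw [← Subgroup.relIndex_mul_relIndex _ Q H (by rw [← hZ]; exact inf_le_left) hQH, ← hZ, hm, ha3]
    ring

/-- The order of an extraspecial p-group is an odd power p^(2n+1) of p with n ≥ 1. -/
theorem result {P : Type*} [Group P] [Finite P] {p : ℕ} [Fact p.Prime] (h : Cfsg.IsExtraspecial p P) : ∃ n : ℕ, 1 ≤ n ∧ Nat.card P = p ^ (2 * n + 1) := by
  have hp : p.Prime := Fact.out
  obtain ⟨⟨hPp, hΦ, hD⟩, hcard⟩ := h
  have hcomm : ⁅(⊤ : Subgroup P), (⊤ : Subgroup P)⁆ = Subgroup.center P := by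
    rw [← hD, commutator_def]
  have hcent : Subgroup.centralizer (((⊤ : Subgroup P)) : Set P) = Subgroup.center P := by
    rw [Subgroup.coe_top, Subgroup.centralizer_univ]
  obtain ⟨n, hn1, hn⟩ := even_index_center hp (Nat.card (⊤ : Subgroup P)) ⊤ rfl
    (by rw [hcomm, hcard]) (by rw [hcomm, hcent])
  refine ⟨n, hn1, ?_⟩
  rw [hcent, top_inf_eq, Subgroup.relIndex_top_right] at hn
  rw [← Subgroup.card_mul_index (Subgroup.center P), hn, hcard, pow_succ, mul_comm]

end Cfsg.Agent.S0095
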