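import Cfsg.Statements.S1423
import Mathlib
import Cfsg.Agent.Lib.H20.BGV2
import Cfsg.Agent.S1412
import Cfsg.Agent.S1414
import Cfsg.Agent.S1422

set_option autoImplicit false
open Cfsg

namespace Cfsg.Agent.S1423

/-- Let G be a minimal simple group of odd order, M a maximal subgroup, p ∈ σ(M), X ≤ M a subgroup of order p and P a Sylow p-subgroup of M_σ. If p ∈ β(M) or X ≤ (M_σ)', then C_G(X) ≤ M, M is the unique maximal subgroup containing C_G(X), and M is the unique maximal subgroup containing P. -/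
theorem result {G : Type*} [Group G] [Finite G] (hG : Cfsg.IsMinSimpleOddOrder G)
    (M : Subgroup G) (hM : IsCoatom M) (p : ℕ) [Fact p.Prime] (hp : p ∈ Cfsg.sigma M) (X : Subgroup G) (hXM : X ≤ M) (hX : Nat.card X = p)
    (P : Sylow p ↥(Cfsg.sigmaCore M)) (h : p ∈ Cfsg.beta M ∨ X ≤ ⁅Cfsg.sigmaCore M, Cfsg.sigmaCore M⁆) :
    (Subgroup.centralizer (X : Set G) ≤ M ∧ ∀ L : Subgroup G, IsCoatom L → Subgroup.centralizer (X : Set G) ≤ L → L = M) ∧ Cfsg.InUniqueMaximal ((P : Subgroup ↥(Cfsg.sigmaCore M)).map (Cfsg.sigmaCore M).subtype) ∧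
      (P : Subgroup ↥(Cfsg.sigmaCore M)).map (Cfsg.sigmaCore M).subtype ≤ M := by
  classical
  have h12 : Cfsg.Agent.Lib.H20.BGV.H1412s G := by
    intro q _ Q hr
    rcases Cfsg.Agent.S1412.result hG q Q hr with h | ⟨P₁, P₂, hsup, hc, hna, hcard, -, hcyc, -⟩
    · exact Or.inl h
    · exact Or.inr ⟨P₁, P₂, hsup, hc, hna, hcard, hcyc⟩
  have h14 : Cfsg.Agent.Lib.H20.BGV.H1414c G := fun M' hM' q hq hqM hqβ =>
    ((Cfsg.Agent.S1414.result hG M' hM').2.2.2.2 q hq hqM hqβ).2.1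
  have h22 : Cfsg.Agent.Lib.H20.BGV.H1422 G := fun q _ Q hQ hQna =>
    Cfsg.Agent.S1422.result hG q Q hQ hQna
  exact Cfsg.Agent.Lib.H20.BGV.lemma_12_14 hG h12 h14 h22 M hM p hp X hXM hX P h

end Cfsg.Agent.S1423
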