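import Cfsg.Statements.S0663
import Mathlib

set_option autoImplicit false
open Cfsg

namespace Cfsg.Agent.S0663

open scoped commutatorElement

section basic
variable {L : Type*} [Group L]

/-- Conjugate of a subgroup. -/
abbrev cj (x : L) (H : Subgroup L) : Subgroup L := H.map (MulAut.conj x).toMonoidHom

theorem mem_cj {x y : L} {H : Subgroup L} : y ∈ cj x H ↔ x⁻¹ * y * x ∈ H := by
  constructor
  · rintro ⟨z, hz, rfl⟩
    change x⁻¹ * (x * z * x⁻¹) * x ∈ H
    have : x⁻¹ * (x * z * x⁻¹) * x = z := by group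
    rw [this]
    exact hz
  · intro h
    refine ⟨x⁻¹ * y * x, h, ?_⟩
    change x * (x⁻¹ * y * x) * x⁻¹ = y
    group

theorem mem_normalizer_iff_cj {x : L} {H : Subgroup L} :
    x ∈ Subgroup.normalizer (H : Set L) ↔ cj x H = H :=
  Subgroup.mem_normalizer_iff_map_conj_eq

theorem cj_commutator (x : L) (H K : Subgroup L) : cj x ⁅H, K⁆ = ⁅cj x H, cj x K⁆ :=
  Subgroup.map_commutator H K _

theorem card_cj [Finite L] (x : L) (H : Subgroup L) : Nat.card (cj x H) = Nat.card H :=
  Subgroup.card_map_of_injective (MulAut.conj x).injective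

theorem le_normalizer_commutator {X H K : Subgroup L} (h1 : X ≤ Subgroup.normalizer (H : Set L))
    (h2 : X ≤ Subgroup.normalizer (K : Set L)) :
    X ≤ Subgroup.normalizer ((⁅H, K⁆ : Subgroup L) : Set L) := by
  intro x hx
  rw [mem_normalizer_iff_cj, cj_commutator, mem_normalizer_iff_cj.1 (h1 hx),
    mem_normalizer_iff_cj.1 (h2 hx)]

theorem commutator_le_of_le_normalizer {H G : Subgroup L}
    (h : G ≤ Subgroup.normalizer (H : Set L)) : ⁅H, G⁆ ≤ H :=
  Subgroup.le_normalizer_iff_commutator_le_left.1 h

/-- `[A, B]` is normalised by `A`. -/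
theorem le_normalizer_commutator_left (A B : Subgroup L) :
    A ≤ Subgroup.normalizer ((⁅A, B⁆ : Subgroup L) : Set L) := by
  have key : ∀ a ∈ A, ∀ y ∈ ⁅A, B⁆, a * y * a⁻¹ ∈ ⁅A, B⁆ := by
    intro a ha y hy
    rw [Subgroup.commutator_def] at hy
    induction hy using Subgroup.closure_induction with
    | mem z hz =>
      obtain ⟨x, hx, b, hb, rfl⟩ := hz
      have : a * ⁅x, b⁆ * a⁻¹ = ⁅a * x, b⁆ * ⁅a, b⁆⁻¹ := by
        simp only [commutatorElement_def]
        group
      rw [this]
      exact Subgroup.mul_mem _ (Subgroup.commutator_mem_commutator (A.mul_mem ha hx) hb)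
        (Subgroup.inv_mem _ (Subgroup.commutator_mem_commutator ha hb))
    | one =>
      rw [mul_one, mul_inv_cancel]
      exact Subgroup.one_mem _
    | mul y z _ _ ihy ihz =>
      have : a * (y * z) * a⁻¹ = (a * y * a⁻¹) * (a * z * a⁻¹) := by group
      rw [this]
      exact Subgroup.mul_mem _ ihy ihz
    | inv y _ ih =>
      have : a * y⁻¹ * a⁻¹ = (a * y * a⁻¹)⁻¹ := by group
      rw [this]
      exact Subgroup.inv_mem _ ih
  intro a ha
  rw [Subgroup.mem_normalizer_iff]
  intro y
  constructor
  · exact key a ha y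
  · intro h
    have := key a⁻¹ (A.inv_mem ha) _ h
    have e : a⁻¹ * (a * y * a⁻¹) * a⁻¹⁻¹ = y := by group
    rwa [e] at this

/-- A conjugate of an invariant subgroup by an element whose commutators with `G` normalise it is
again invariant. -/
theorem cj_invariant {G M : Subgroup L} (hM : G ≤ Subgroup.normalizer (M : Set L)) (x : L)
    (hx : ∀ g ∈ G, ⁅x⁻¹, g⁆ ∈ Subgroup.normalizer (M : Set L)) :
    G ≤ Subgroup.normalizer ((cj x M : Subgroup L) : Set L) := by
  intro g hg
  rw [Subgroup.mem_normalizer_iff]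
  intro y
  rw [mem_cj, mem_cj]
  have h1 := Subgroup.mem_normalizer_iff.1 (hM hg)
  have h2 := Subgroup.mem_normalizer_iff.1 (hx g hg)
  have e : x⁻¹ * (g * y * g⁻¹) * x = ⁅x⁻¹, g⁆ * (g * (x⁻¹ * y * x) * g⁻¹) * ⁅x⁻¹, g⁆⁻¹ := by
    simp only [commutatorElement_def]
    group
  rw [e, ← h2, ← h1]


/-- If `A` and `B` normalise `K` and have commutators with `G` inside `K` (where `G` normalises
`K`), the same holds for `A ⊔ B`. -/
theorem commutator_sup_le {G K A B : Subgroup L} (hG : G ≤ Subgroup.normalizer (K : Set L))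
    (hA : A ≤ Subgroup.normalizer (K : Set L)) (hB : B ≤ Subgroup.normalizer (K : Set L))
    (hAK : ⁅A, G⁆ ≤ K) (hBK : ⁅B, G⁆ ≤ K) : ⁅A ⊔ B, G⁆ ≤ K := by
  let C : Subgroup L :=
    { carrier := {y | y ∈ Subgroup.normalizer (K : Set L) ∧ ∀ g ∈ G, ⁅y, g⁆ ∈ K}
      mul_mem' := by
        rintro y z ⟨hy, hy'⟩ ⟨hz, hz'⟩
        refine ⟨Subgroup.mul_mem _ hy hz, fun g hg => ?_⟩
        have e : ⁅y * z, g⁆ = y * ⁅z, g⁆ * y⁻¹ * ⁅y, g⁆ := by
          simp only [commutatorElement_def]
          group
        rw [e]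
        exact K.mul_mem ((Subgroup.mem_normalizer_iff.1 hy _).1 (hz' g hg)) (hy' g hg)
      one_mem' := by
        refine ⟨Subgroup.one_mem _, fun g _ => ?_⟩
        rw [commutatorElement_one_left]
        exact K.one_mem
      inv_mem' := by
        rintro y ⟨hy, hy'⟩
        refine ⟨Subgroup.inv_mem _ hy, fun g hg => ?_⟩
        have e : ⁅y⁻¹, g⁆ = y⁻¹ * ⁅y, g⁆⁻¹ * y⁻¹⁻¹ := by
          simp only [commutatorElement_def]
          group
        rw [e]
        exact (Subgroup.mem_normalizer_iff.1 (Subgroup.inv_mem _ hy) _).1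
          (K.inv_mem (hy' g hg)) }
  have hAC : A ≤ C := fun a ha =>
    ⟨hA ha, fun g hg => hAK (Subgroup.commutator_mem_commutator ha hg)⟩
  have hBC : B ≤ C := fun b hb =>
    ⟨hB hb, fun g hg => hBK (Subgroup.commutator_mem_commutator hb hg)⟩
  rw [Subgroup.commutator_le]
  intro y hy g hg
  exact ((sup_le hAC hBC) hy).2 g hg

/-- Strictness of the commutator for `p`-groups. -/
theorem commutator_lt_of_isPGroup {p : ℕ} [Fact p.Prime] [Finite L] {Q B : Subgroup L}
    (hQ : IsPGroup p Q) (hB : IsPGroup p B) (hBQ : B ≤ Subgroup.normalizer (Q : Set L))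
    (hQ1 : Q ≠ ⊥) : ⁅Q, B⁆ < Q := by
  refine lt_of_le_of_ne (commutator_le_of_le_normalizer hBQ) ?_
  intro h
  have hNp : IsPGroup p (Q ⊔ B : Subgroup L) := IsPGroup.to_sup_of_normal_left' hQ hB hBQ
  have hNn : Group.IsNilpotent (Q ⊔ B : Subgroup L) := hNp.isNilpotent
  obtain ⟨k, hk⟩ := (Subgroup.isNilpotent_iff_lowerCentralSeries (Q ⊔ B)).1 hNn
  have key : ∀ j, Q ≤ (Q ⊔ B).lowerCentralSeries j := by
    intro j
    induction j with
    | zero => rw [Subgroup.lowerCentralSeries_zero]; exact le_sup_left
    | succ j ih =>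
      rw [Subgroup.lowerCentralSeries_succ]
      calc Q = ⁅Q, B⁆ := h.symm
        _ ≤ ⁅(Q ⊔ B).lowerCentralSeries j, Q ⊔ B⁆ := Subgroup.commutator_mono ih le_sup_right
  apply hQ1
  rw [eq_bot_iff, ← hk]
  exact key k

/-- A proper subgroup of a `p`-group has at most `1/p` of its order. -/
theorem card_mul_le_of_lt {p : ℕ} [Fact p.Prime] [Finite L] {A B : Subgroup L}
    (hB : IsPGroup p B) (hlt : A < B) : p * Nat.card A ≤ Nat.card B := by
  have h1 : A.relIndex B * Nat.card A = Nat.card B := by
    have := Subgroup.relIndex_mul_relIndex ⊥ A B bot_le hlt.le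
    rw [Subgroup.relIndex_bot_left, Subgroup.relIndex_bot_left] at this
    rw [mul_comm]
    exact this
  have h2 : A.relIndex B ≠ 1 := by
    intro e
    rw [Subgroup.relIndex_eq_one] at e
    exact absurd (le_antisymm hlt.le e) hlt.ne
  obtain ⟨k, hk⟩ := hB.exists_card_eq
  have h3 : A.relIndex B ∣ p ^ k := by
    rw [← hk, ← h1]
    exact dvd_mul_right _ _
  obtain ⟨j, _, hj⟩ := (Nat.dvd_prime_pow (Fact.out (p := p.Prime))).1 h3
  have hj0 : j ≠ 0 := by
    rintro rfl
    exact h2 (by rw [hj, pow_zero])
  have h4 : p ≤ A.relIndex B := by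
    rw [hj]
    calc p = p ^ 1 := (pow_one p).symm
      _ ≤ p ^ j := Nat.pow_le_pow_right (Fact.out (p := p.Prime)).pos (by omega)
  calc p * Nat.card A ≤ A.relIndex B * Nat.card A := Nat.mul_le_mul_right _ h4
    _ = Nat.card B := h1

theorem relIndex_eq_of_card {p : ℕ} [Finite L] {A B : Subgroup L} (hAB : A ≤ B)
    (h : Nat.card B = p * Nat.card A) : A.relIndex B = p := by
  have h1 : A.relIndex B * Nat.card A = Nat.card B := by
    have := Subgroup.relIndex_mul_relIndex ⊥ A B bot_le hAB
    rw [Subgroup.relIndex_bot_left, Subgroup.relIndex_bot_left] at this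
    rw [mul_comm]
    exact this
  rw [h] at h1
  exact Nat.eq_of_mul_eq_mul_right Nat.card_pos h1

theorem card_of_relIndex {p : ℕ} [Finite L] {A B : Subgroup L} (hAB : A ≤ B)
    (h : A.relIndex B = p) : Nat.card B = p * Nat.card A := by
  have h1 : A.relIndex B * Nat.card A = Nat.card B := by
    have := Subgroup.relIndex_mul_relIndex ⊥ A B bot_le hAB
    rw [Subgroup.relIndex_bot_left, Subgroup.relIndex_bot_left] at this
    rw [mul_comm]
    exact this
  rw [← h1, h]

end basic

section iter
variable {L : Type*} [Group L] (N G : Subgroup L)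

theorem iter_zero : Cfsg.iterCommutator N G 0 = N := rfl

theorem iter_succ (i : ℕ) :
    Cfsg.iterCommutator N G (i + 1) = ⁅Cfsg.iterCommutator N G i, G⁆ := rfl

theorem iter_shift (i : ℕ) :
    Cfsg.iterCommutator (Cfsg.iterCommutator N G 1) G i = Cfsg.iterCommutator N G (i + 1) := by
  induction i with
  | zero => rfl
  | succ i ih => rw [iter_succ, ih, ← iter_succ]

variable {N G}

theorem iter_inv (hGN : G ≤ Subgroup.normalizer (N : Set L)) (i : ℕ) :
    G ≤ Subgroup.normalizer ((Cfsg.iterCommutator N G i : Subgroup L) : Set L) := by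
  induction i with
  | zero => exact hGN
  | succ i ih =>
    rw [iter_succ]
    exact le_normalizer_commutator ih Subgroup.le_normalizer

theorem iter_succ_le (hGN : G ≤ Subgroup.normalizer (N : Set L)) (i : ℕ) :
    Cfsg.iterCommutator N G (i + 1) ≤ Cfsg.iterCommutator N G i := by
  rw [iter_succ]
  exact commutator_le_of_le_normalizer (iter_inv hGN i)

theorem iter_anti (hGN : G ≤ Subgroup.normalizer (N : Set L)) {i j : ℕ} (hij : i ≤ j) :
    Cfsg.iterCommutator N G j ≤ Cfsg.iterCommutator N G i := by
  induction hij with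
  | refl => exact le_rfl
  | step _ ih => exact (iter_succ_le hGN _).trans ih

theorem iter_le (hGN : G ≤ Subgroup.normalizer (N : Set L)) (i : ℕ) :
    Cfsg.iterCommutator N G i ≤ N := iter_anti hGN (Nat.zero_le i)

end iter


section core
variable {L : Type*} [Group L] [Finite L] {p : ℕ} [Fact p.Prime]

/-- The package of conclusions about a uniserial action. -/
def Good (p : ℕ) (N G : Subgroup L) (n : ℕ) : Prop :=
  (∀ i ≤ n, Nat.card (Cfsg.iterCommutator N G i) = p ^ (n - i)) ∧
  (∀ H : Subgroup L, H ≤ N → G ≤ Subgroup.normalizer (H : Set L) →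
    ∃ i ≤ n, H = Cfsg.iterCommutator N G i) ∧
  (∀ H : Subgroup L, H ≤ N → G ≤ Subgroup.normalizer (H : Set L) → H ≠ ⊥ →
    (⁅H, G⁆).relIndex H = p) ∧
  (∀ i ≤ n, N ≤ Subgroup.normalizer ((Cfsg.iterCommutator N G i : Subgroup L) : Set L))

theorem core (G : Subgroup L) (hG : IsPGroup p G) : ∀ (n : ℕ) (N : Subgroup L), IsPGroup p N →
    G ≤ Subgroup.normalizer (N : Set L) → Nat.card N = p ^ n →
    (Cfsg.iterCommutator N G (n - 1) ≠ ⊥ ∨ n = 0) → Good p N G n := by
  have hp : p.Prime := Fact.out
  intro n
  induction n with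
  | zero =>
    intro N hN hGN hcard _
    have hNbot : N = ⊥ := by
      rw [pow_zero] at hcard
      exact Subgroup.card_eq_one.1 hcard
    refine ⟨?_, ?_, ?_, ?_⟩
    · intro i hi
      have : i = 0 := by omega
      subst this
      rw [iter_zero, hcard]
    · intro H hH _
      refine ⟨0, le_refl _, ?_⟩
      rw [iter_zero, hNbot]
      rw [hNbot] at hH
      exact le_bot_iff.1 hH
    · intro H hH _ hne
      rw [hNbot] at hH
      exact absurd (le_bot_iff.1 hH) hne
    · intro i _
      rw [hNbot]
      exact bot_le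
  | succ n' ih =>
    intro N hN hGN hcard hbot
    have hbot' : Cfsg.iterCommutator N G n' ≠ ⊥ := by
      rcases hbot with h | h
      · simpa using h
      · omega
    obtain ⟨N₁, hN₁def⟩ : ∃ N₁, N₁ = Cfsg.iterCommutator N G 1 := ⟨_, rfl⟩
    have hN₁comm : N₁ = ⁅N, G⁆ := hN₁def
    have hNne : N ≠ ⊥ := by
      intro e
      rw [e, Subgroup.card_bot] at hcard
      have : 1 < p ^ (n' + 1) := Nat.one_lt_pow (by omega) hp.one_lt
      omega
    have hN1lt : N₁ < N := by
      rw [hN₁comm]
      exact commutator_lt_of_isPGroup hN hG hGN hNne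
    have hN₁p : IsPGroup p N₁ := hN.to_le hN1lt.le
    have hGN₁ : G ≤ Subgroup.normalizer (N₁ : Set L) := by
      rw [hN₁def]
      exact iter_inv hGN 1
    -- lower bounds on the orders along the chain
    have hlow : ∀ j, j ≤ n' → p ^ (j + 1) ≤ Nat.card (Cfsg.iterCommutator N G (n' - j)) := by
      intro j
      induction j with
      | zero =>
        intro _
        have h1 : (⊥ : Subgroup L) < Cfsg.iterCommutator N G n' := bot_lt_iff_ne_bot.2 hbot'
        have := card_mul_le_of_lt (hN.to_le (iter_le hGN n')) h1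
        rw [Subgroup.card_bot, mul_one] at this
        simpa using this
      | succ j ihj =>
        intro hj
        have h0 := ihj (by omega)
        have hne : Cfsg.iterCommutator N G (n' - (j + 1)) ≠ ⊥ := by
          intro e
          apply hbot'
          have := iter_anti hGN (show n' - (j + 1) ≤ n' by omega)
          rw [e] at this
          exact le_bot_iff.1 this
        have hlt : Cfsg.iterCommutator N G (n' - j) < Cfsg.iterCommutator N G (n' - (j + 1)) := by
          have e : n' - j = (n' - (j + 1)) + 1 := by omega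
          rw [e, iter_succ]
          exact commutator_lt_of_isPGroup (hN.to_le (iter_le hGN _)) hG (iter_inv hGN _) hne
        have := card_mul_le_of_lt (hN.to_le (iter_le hGN _)) hlt
        calc p ^ (j + 1 + 1) = p * p ^ (j + 1) := by rw [pow_succ']
          _ ≤ p * Nat.card (Cfsg.iterCommutator N G (n' - j)) := Nat.mul_le_mul_left _ h0
          _ ≤ _ := this
    have hcard1 : Nat.card N₁ = p ^ n' := by
      apply le_antisymm
      · have := card_mul_le_of_lt hN hN1lt
        rw [hcard, pow_succ'] at this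
        exact Nat.le_of_mul_le_mul_left this hp.pos
      · rcases Nat.eq_zero_or_pos n' with h0 | hpos
        · rw [h0, pow_zero]
          exact Nat.card_pos
        · have := hlow (n' - 1) (by omega)
          have e1 : n' - 1 + 1 = n' := by omega
          have e2 : n' - (n' - 1) = 1 := by omega
          rw [e1, e2, ← hN₁def] at this
          exact this
    have hbot1 : Cfsg.iterCommutator N₁ G (n' - 1) ≠ ⊥ ∨ n' = 0 := by
      rcases Nat.eq_zero_or_pos n' with h0 | hpos
      · exact Or.inr h0
      · left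
        rw [hN₁def, iter_shift]
        have e1 : n' - 1 + 1 = n' := by omega
        rw [e1]
        exact hbot'
    obtain ⟨i', ii', iii', iv'⟩ := ih N₁ hN₁p hGN₁ hcard1 hbot1
    have hshift : ∀ k, Cfsg.iterCommutator N₁ G k = Cfsg.iterCommutator N G (k + 1) := by
      intro k
      rw [hN₁def, iter_shift]
    -- (i)
    have hi : ∀ i ≤ n' + 1, Nat.card (Cfsg.iterCommutator N G i) = p ^ (n' + 1 - i) := by
      intro i hi
      rcases Nat.eq_zero_or_pos i with h0 | hpos
      · rw [h0, iter_zero, hcard, Nat.sub_zero]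
      · obtain ⟨k, rfl⟩ : ∃ k, i = k + 1 := ⟨i - 1, by omega⟩
        rw [← hshift, i' k (by omega)]
        congr 1
        omega
    have hcardN : Nat.card N = p * Nat.card N₁ := by
      rw [hcard, hcard1, pow_succ']
    -- key claim
    have hkey : ∀ H : Subgroup L, H ≤ N → G ≤ Subgroup.normalizer (H : Set L) → ¬ H ≤ N₁ →
        H = N := by
      intro H hHN hHinv hHN₁
      have hHp : IsPGroup p H := hN.to_le hHN
      rcases Nat.eq_zero_or_pos n' with h0 | hpos
      · have hHne : H ≠ ⊥ := by
          intro e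
          rw [e] at hHN₁
          exact hHN₁ bot_le
        have h1 := card_mul_le_of_lt hHp (bot_lt_iff_ne_bot.2 hHne)
        rw [Subgroup.card_bot, mul_one] at h1
        apply Subgroup.eq_of_le_of_card_ge hHN
        rw [hcard, h0]
        simpa using h1
      · have hc1 : ⁅H, G⁆ ≤ N₁ := by
          rw [hN₁comm]
          exact Subgroup.commutator_mono hHN le_rfl
        have hc2 : G ≤ Subgroup.normalizer ((⁅H, G⁆ : Subgroup L) : Set L) :=
          le_normalizer_commutator hHinv Subgroup.le_normalizer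
        obtain ⟨j, hj, hcj⟩ := ii' _ hc1 hc2
        rcases Nat.eq_zero_or_pos j with hj0 | hjpos
        · rw [hj0, iter_zero] at hcj
          have hle : N₁ ≤ H := by
            rw [← hcj]
            exact commutator_le_of_le_normalizer hHinv
          have hlt : N₁ < H := lt_of_le_of_ne hle (fun e => hHN₁ (by rw [e]))
          have := card_mul_le_of_lt hHp hlt
          apply Subgroup.eq_of_le_of_card_ge hHN
          rw [hcardN]
          exact this
        · exfalso
          obtain ⟨N₂, hN₂def⟩ : ∃ N₂, N₂ = Cfsg.iterCommutator N₁ G 1 := ⟨_, rfl⟩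
          have hcN₂ : ⁅H, G⁆ ≤ N₂ := by
            rw [hcj, hN₂def]
            exact iter_anti hGN₁ (by omega)
          have hN₂N₁ : N₂ ≤ N₁ := by
            rw [hN₂def]
            exact iter_le hGN₁ 1
          have hGN₂ : G ≤ Subgroup.normalizer (N₂ : Set L) := by
            rw [hN₂def]
            exact iter_inv hGN₁ 1
          have hN₁N₂ : N₁ ≤ Subgroup.normalizer (N₂ : Set L) := by
            rw [hN₂def]
            exact iv' 1 (by omega)
          have hcardN₂ : Nat.card N₂ = p ^ (n' - 1) := by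
            rw [hN₂def]
            exact i' 1 (by omega)
          have hHN₂ : H ≤ Subgroup.normalizer (N₂ : Set L) := by
            intro h hh
            have hM1 : cj h N₂ ≤ N₁ := by
              have h1 : cj h N₂ ≤ cj h N₁ := Subgroup.map_mono hN₂N₁
              have h2 : cj h N₁ = N₁ := by
                rw [← mem_normalizer_iff_cj, hN₁comm]
                exact le_normalizer_commutator_left N G (hHN hh)
              rwa [h2] at h1
            have hM2 : G ≤ Subgroup.normalizer ((cj h N₂ : Subgroup L) : Set L) := by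
              apply cj_invariant hGN₂
              intro g hg
              exact Subgroup.le_normalizer (hcN₂ (Subgroup.commutator_mem_commutator
                (H.inv_mem hh) hg))
            obtain ⟨k, hk, hMk⟩ := ii' _ hM1 hM2
            have hcardM : Nat.card (cj h N₂) = p ^ (n' - 1) := by
              rw [card_cj, hcardN₂]
            rw [hMk, i' k hk] at hcardM
            have hk1 : k = 1 := by
              have := Nat.pow_right_injective hp.two_le hcardM
              omega
            rw [hk1, ← hN₂def] at hMk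
            exact mem_normalizer_iff_cj.2 hMk
          have hsup : ⁅H ⊔ N₁, G⁆ ≤ N₂ := by
            apply commutator_sup_le hGN₂ hHN₂ hN₁N₂ hcN₂
            rw [hN₂def, iter_succ, iter_zero]
          have hsupN : H ⊔ N₁ = N := by
            have hle : H ⊔ N₁ ≤ N := sup_le hHN hN1lt.le
            have hlt : N₁ < H ⊔ N₁ := by
              refine lt_of_le_of_ne le_sup_right ?_
              intro e
              apply hHN₁
              rw [e]
              exact le_sup_left
            have := card_mul_le_of_lt (hN.to_le hle) hlt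
            apply Subgroup.eq_of_le_of_card_ge hle
            rw [hcardN]
            exact this
          rw [hsupN, ← hN₁comm] at hsup
          have := Subgroup.card_le_of_le hsup
          rw [hcard1, hcardN₂] at this
          have h2 : p ^ (n' - 1) < p ^ n' := Nat.pow_lt_pow_right hp.one_lt (by omega)
          omega
    -- (ii)
    have hii : ∀ H : Subgroup L, H ≤ N → G ≤ Subgroup.normalizer (H : Set L) →
        ∃ i ≤ n' + 1, H = Cfsg.iterCommutator N G i := by
      intro H hHN hHinv
      by_cases hH₁ : H ≤ N₁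
      · obtain ⟨k, hk, hHk⟩ := ii' H hH₁ hHinv
        exact ⟨k + 1, by omega, by rw [hHk, hshift]⟩
      · exact ⟨0, by omega, by rw [iter_zero]; exact hkey H hHN hHinv hH₁⟩
    refine ⟨hi, hii, ?_, ?_⟩
    · intro H hHN hHinv hHne
      by_cases hH₁ : H ≤ N₁
      · exact iii' H hH₁ hHinv hHne
      · have := hkey H hHN hHinv hH₁
        rw [this, ← hN₁comm]
        exact relIndex_eq_of_card hN1lt.le hcardN
    · intro i hile
      rcases Nat.eq_zero_or_pos i with h0 | hpos
      · rw [h0, iter_zero]
        exact Subgroup.le_normalizer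
      · obtain ⟨k, rfl⟩ : ∃ k, i = k + 1 := ⟨i - 1, by omega⟩
        intro x hx
        obtain ⟨M₀, hM₀⟩ : ∃ M₀, M₀ = Cfsg.iterCommutator N G (k + 1) := ⟨_, rfl⟩
        rw [← hM₀]
        have hM₀N : M₀ ≤ N := by rw [hM₀]; exact iter_le hGN _
        have hM1 : cj x M₀ ≤ N := by
          have h1 : cj x M₀ ≤ cj x N := Subgroup.map_mono hM₀N
          have h2 : cj x N = N := mem_normalizer_iff_cj.1 (Subgroup.le_normalizer hx)
          rwa [h2] at h1
        have hM2 : G ≤ Subgroup.normalizer ((cj x M₀ : Subgroup L) : Set L) := by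
          apply cj_invariant (by rw [hM₀]; exact iter_inv hGN _)
          intro g hg
          have h1 : ⁅x⁻¹, g⁆ ∈ N₁ := by
            rw [hN₁comm]
            exact Subgroup.commutator_mem_commutator (N.inv_mem hx) hg
          have h2 := iv' k (by omega) h1
          rwa [hshift, ← hM₀] at h2
        obtain ⟨m, hm, hMm⟩ := hii _ hM1 hM2
        have hcardM : Nat.card (cj x M₀) = p ^ (n' + 1 - (k + 1)) := by
          rw [card_cj, hM₀, hi (k + 1) hile]
        rw [hMm, hi m hm] at hcardM
        have hmk : m = k + 1 := by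
          have := Nat.pow_right_injective hp.two_le hcardM
          omega
        rw [hmk, ← hM₀] at hMm
        exact mem_normalizer_iff_cj.2 hMm

end core


/-- Uniseriality forces the chain to have full length. -/
theorem chain_of_uniserial {L : Type*} [Group L] [Finite L] {p : ℕ} [Fact p.Prime]
    (N G : Subgroup L) (hGN : G ≤ Subgroup.normalizer (N : Set L)) (n : ℕ)
    (hn : Nat.card N = p ^ n)
    (hU : ∀ H : Subgroup L, H ≤ N → G ≤ Subgroup.normalizer (H : Set L) → H ≠ ⊥ →
      (⁅H, G⁆).relIndex H = p) :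
    ∀ i ≤ n, Nat.card (Cfsg.iterCommutator N G i) = p ^ (n - i) := by
  have hp : p.Prime := Fact.out
  intro i
  induction i with
  | zero =>
    intro _
    rw [iter_zero, hn, Nat.sub_zero]
  | succ i ih =>
    intro hi
    have h1 := ih (by omega)
    have hne : Cfsg.iterCommutator N G i ≠ ⊥ := by
      intro e
      rw [e, Subgroup.card_bot] at h1
      have : 1 < p ^ (n - i) := Nat.one_lt_pow (by omega) hp.one_lt
      omega
    have h2 := hU _ (iter_le hGN i) (iter_inv hGN i) hne
    have h3 := card_of_relIndex (commutator_le_of_le_normalizer (iter_inv hGN i)) h2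
    rw [h1, ← iter_succ] at h3
    have e : n - i = (n - (i + 1)) + 1 := by omega
    rw [e, pow_succ'] at h3
    exact (Nat.eq_of_mul_eq_mul_left hp.pos h3).symm

theorem result {L : Type*} [Group L] [Finite L] {p : ℕ} [Fact p.Prime] (N G : Subgroup L) (hN : IsPGroup p N) (hG : IsPGroup p G) (hGN : G ≤ Subgroup.normalizer (N : Set L)) (n : ℕ) (hn : Nat.card N = p ^ n) : ((∀ H : Subgroup L, H ≤ N → G ≤ Subgroup.normalizer (H : Set L) → H ≠ ⊥ → (⁅H, G⁆).relIndex H = p) ↔ Cfsg.iterCommutator N G (n - 1) ≠ ⊥ ∨ n = 0) ∧ ((∀ H : Subgroup L, H ≤ N → G ≤ Subgroup.normalizer (H : Set L) → H ≠ ⊥ → (⁅H, G⁆).relIndex H = p) → ∀ H : Subgroup L, H ≤ N → G ≤ Subgroup.normalizer (H : Set L) → (∃ i ≤ n, H = Cfsg.iterCommutator N G i) ∧ N ≤ Subgroup.normalizer (H : Set L)) := by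
  have hp : p.Prime := Fact.out
  have hforward : (∀ H : Subgroup L, H ≤ N → G ≤ Subgroup.normalizer (H : Set L) → H ≠ ⊥ →
      (⁅H, G⁆).relIndex H = p) → Cfsg.iterCommutator N G (n - 1) ≠ ⊥ ∨ n = 0 := by
    intro hU
    rcases Nat.eq_zero_or_pos n with h0 | hpos
    · exact Or.inr h0
    · left
      have h1 := chain_of_uniserial N G hGN n hn hU (n - 1) (by omega)
      intro e
      rw [e, Subgroup.card_bot] at h1
      have e2 : n - (n - 1) = 1 := by omega
      rw [e2, pow_one] at h1
      have := hp.one_lt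
      omega
  refine ⟨⟨hforward, fun h => (core G hG n N hN hGN hn h).2.2.1⟩, ?_⟩
  intro hU H hHN hHinv
  obtain ⟨_, hii, _, hiv⟩ := core G hG n N hN hGN hn (hforward hU)
  obtain ⟨i, hi, hHi⟩ := hii H hHN hHinv
  refine ⟨⟨i, hi, hHi⟩, ?_⟩
  rw [hHi]
  exact hiv i hi

end Cfsg.Agent.S0663
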