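import Cfsg.Statements.S0649
import Mathlib

set_option autoImplicit false
open Cfsg

namespace Cfsg.Agent.S0649

/-- In the Glauberman replacement situation, if B does not normalize A then some element of B normalizes N_S(A) without normalizing A. -/
theorem result {S : Type*} [Group S] [Finite S] {p : ℕ} [Fact p.Prime] (hS : IsPGroup p S) (B : Subgroup S) [B.Normal] (hB2 : p = 2 → IsMulCommutative B) (A : Subgroup S) (hA : IsMulCommutative A) (hBA : ⁅B, B⁆ ≤ A) (hnot : ¬ B ≤ Subgroup.normalizer (A : Set S)) : ∃ b ∈ B, b ∈ Subgroup.normalizer ((Subgroup.normalizer (A : Set S)) : Set S) ∧ b ∉ Subgroup.normalizer (A : Set S) := by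
  set N : Subgroup S := Subgroup.normalizer (A : Set S) with hN
  set M : Subgroup S := B ⊔ N with hM
  have hNM : N ≤ M := le_sup_right
  have hBM : B ≤ M := le_sup_left
  have hnil : Group.IsNilpotent M := (hS.to_subgroup M).isNilpotent
  have hcond := Group.normalizerCondition_of_isNilpotent (G := M)
  let N' : Subgroup M := N.subgroupOf M
  have hN'top : N' ≠ ⊤ := by
    intro h
    rw [Subgroup.subgroupOf_eq_top] at h
    exact hnot (hBM.trans h)
  have hlt := hcond N' (lt_top_iff_ne_top.mpr hN'top)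
  obtain ⟨y, hyn, hyN'⟩ := SetLike.exists_of_lt hlt
  have hyM : (y : S) ∈ ((B ⊔ N : Subgroup S) : Set S) := y.2
  rw [Subgroup.normal_mul] at hyM
  obtain ⟨b, hb, n, hn, hbn⟩ := hyM
  -- y normalizes N in S
  have hynorm : (y : S) ∈ Subgroup.normalizer (N : Set S) := by
    rw [Subgroup.mem_normalizer_iff] at hyn ⊢
    intro h
    constructor
    · intro hh
      have := (hyn ⟨h, hNM hh⟩).mp (Subgroup.mem_subgroupOf.mpr hh)
      exact Subgroup.mem_subgroupOf.mp this
    · intro hh
      have hhM : h ∈ M := by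
        have h1 : (y : S) * h * (y : S)⁻¹ ∈ M := hNM hh
        have h2 : h = (y : S)⁻¹ * ((y : S) * h * (y : S)⁻¹) * (y : S) := by group
        rw [h2]
        exact M.mul_mem (M.mul_mem (M.inv_mem y.2) h1) y.2
      have := (hyn ⟨h, hhM⟩).mpr (Subgroup.mem_subgroupOf.mpr hh)
      exact Subgroup.mem_subgroupOf.mp this
  refine ⟨b, hb, ?_, ?_⟩
  · have hb_eq : b = (y : S) * n⁻¹ := by rw [← hbn]; group
    rw [hb_eq]
    exact Subgroup.mul_mem _ hynorm (Subgroup.inv_mem _ (Subgroup.le_normalizer hn))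
  · intro hbN
    apply hyN'
    rw [Subgroup.mem_subgroupOf, ← hbn]
    exact N.mul_mem hbN hn

end Cfsg.Agent.S0649
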