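import Cfsg.Statements.S0648
import Mathlib

set_option autoImplicit false
open Cfsg

namespace Cfsg.Agent.S0648

open scoped commutatorElement

section abstract
variable {G : Type*} [Group G]

theorem conj_eq_of_commute {y c : G} (h : Commute y c) : y * c * y⁻¹ = c := by
  rw [h.eq, mul_assoc, mul_inv_cancel, mul_one]

/-- The basic identity obtained by applying an automorphism fixing `⁅x, y⁆`. -/
theorem abstract_identity (x dx y dy : G)
    (E : ⁅x * dx, y * dy⁆ = ⁅x, y⁆)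
    (h1 : Commute y ⁅dx, dy⁆) (h2 : Commute x ⁅dx, dy⁆) (h3 : Commute x ⁅dx, y⁆)
    (h4 : Commute y ⁅x, dy⁆) (h5 : Commute ⁅x, y⁆ ⁅x, dy⁆) :
    ⁅dx, y⁆ * ⁅dx, dy⁆ * ⁅x, dy⁆ = 1 := by
  have H : ⁅x * dx, y * dy⁆ =
      x * (⁅dx, y⁆ * (y * ⁅dx, dy⁆ * y⁻¹)) * x⁻¹ * (⁅x, y⁆ * (y * ⁅x, dy⁆ * y⁻¹)) := by
    simp only [commutatorElement_def]
    group
  rw [conj_eq_of_commute h1, conj_eq_of_commute h4, conj_eq_of_commute (h3.mul_right h2)] at H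
  rw [H, h5.eq] at E
  have : ⁅dx, y⁆ * ⁅dx, dy⁆ * ⁅x, dy⁆ * ⁅x, y⁆ = 1 * ⁅x, y⁆ := by
    rw [one_mul, mul_assoc]
    exact E
  exact mul_right_cancel this

end abstract


section struct
variable {G : Type*} [Group G] {A B : Subgroup G}

/-- Conjugate of a subgroup. -/
abbrev cj (x : G) (H : Subgroup G) : Subgroup G := H.map (MulAut.conj x).toMonoidHom

theorem mem_normalizer_iff_cj {x : G} {H : Subgroup G} :
    x ∈ Subgroup.normalizer (H : Set G) ↔ cj x H = H :=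
  Subgroup.mem_normalizer_iff_map_conj_eq

theorem cj_commutator (x : G) (H K : Subgroup G) : cj x ⁅H, K⁆ = ⁅cj x H, cj x K⁆ :=
  Subgroup.map_commutator H K _

theorem le_normalizer_commutator {X H K : Subgroup G} (h1 : X ≤ Subgroup.normalizer (H : Set G))
    (h2 : X ≤ Subgroup.normalizer (K : Set G)) :
    X ≤ Subgroup.normalizer ((⁅H, K⁆ : Subgroup G) : Set G) := by
  intro x hx
  rw [mem_normalizer_iff_cj, cj_commutator, mem_normalizer_iff_cj.1 (h1 hx),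
    mem_normalizer_iff_cj.1 (h2 hx)]

theorem comm_self_le (B : Subgroup G) : ⁅B, B⁆ ≤ B := by
  rw [Subgroup.commutator_le]
  intro x hx y hy
  exact B.mul_mem (B.mul_mem (B.mul_mem hx hy) (B.inv_mem hx)) (B.inv_mem hy)

theorem D_le_B (hAB : A ≤ Subgroup.normalizer (B : Set G)) : ⁅B, A⁆ ≤ B :=
  Subgroup.le_normalizer_iff_commutator_le_left.1 hAB

theorem DA_le_D (hAB : A ≤ Subgroup.normalizer (B : Set G)) : ⁅⁅B, A⁆, A⁆ ≤ ⁅B, A⁆ :=
  Subgroup.le_normalizer_iff_commutator_le_left.1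
    (le_normalizer_commutator hAB Subgroup.le_normalizer)

theorem B'B_le_B' : ⁅⁅B, B⁆, B⁆ ≤ ⁅B, B⁆ :=
  Subgroup.le_normalizer_iff_commutator_le_left.1
    (le_normalizer_commutator Subgroup.le_normalizer Subgroup.le_normalizer)

/-- `[B, A]` centralises `[B, B]`. -/
theorem F3 (hc : ⁅⁅B, B⁆, A⁆ = ⊥) : ⁅⁅B, A⁆, ⁅B, B⁆⁆ = ⊥ := by
  apply Subgroup.commutator_commutator_eq_bot_of_rotate
  · rw [Subgroup.commutator_comm A, hc]
    exact Subgroup.commutator_bot_left _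
  · rw [eq_bot_iff, ← hc]
    exact Subgroup.commutator_mono B'B_le_B' le_rfl

/-- The derived subgroup of `[B, A]` is central in `B`. -/
theorem F2 (hAB : A ≤ Subgroup.normalizer (B : Set G)) (hc : ⁅⁅B, B⁆, A⁆ = ⊥) :
    ⁅⁅⁅B, A⁆, ⁅B, A⁆⁆, B⁆ = ⊥ := by
  have h1 : ⁅⁅B, A⁆, B⁆ ≤ ⁅B, B⁆ := Subgroup.commutator_mono (D_le_B hAB) le_rfl
  have h2 : ⁅B, ⁅B, A⁆⁆ ≤ ⁅B, B⁆ := Subgroup.commutator_mono le_rfl (D_le_B hAB)
  have h3 : ⁅⁅B, B⁆, ⁅B, A⁆⁆ = ⊥ := by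
    rw [Subgroup.commutator_comm]
    exact F3 hc
  apply Subgroup.commutator_commutator_eq_bot_of_rotate
  · rw [eq_bot_iff, ← h3]
    exact Subgroup.commutator_mono h1 le_rfl
  · rw [eq_bot_iff, ← h3]
    exact Subgroup.commutator_mono h2 le_rfl

theorem part1 (hAB : A ≤ Subgroup.normalizer (B : Set G)) (hc : ⁅⁅B, B⁆, A⁆ = ⊥) :
    ⁅⁅B, A⁆, ⁅B, A⁆⁆ ≤ B ⊓ Subgroup.centralizer (B : Set G) := by
  refine le_inf ?_ ?_
  · exact (Subgroup.commutator_mono (D_le_B hAB) (D_le_B hAB)).trans (comm_self_le B)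
  · exact Subgroup.commutator_eq_bot_iff_le_centralizer.1 (F2 hAB hc)


theorem comm_D_B' (hc : ⁅⁅B, B⁆, A⁆ = ⊥) {x z : G} (hx : x ∈ ⁅B, A⁆) (hz : z ∈ ⁅B, B⁆) :
    Commute x z := by
  have h := Subgroup.commutator_eq_bot_iff_le_centralizer.1 (F3 hc) hx
  rw [Subgroup.mem_centralizer_iff] at h
  exact (h z hz).symm

theorem comm_B_D' (hAB : A ≤ Subgroup.normalizer (B : Set G)) (hc : ⁅⁅B, B⁆, A⁆ = ⊥) {y c : G}
    (hy : y ∈ B) (hcD : c ∈ ⁅⁅B, A⁆, ⁅B, A⁆⁆) : Commute y c := by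
  have h := Subgroup.commutator_eq_bot_iff_le_centralizer.1 (F2 hAB hc) hcD
  rw [Subgroup.mem_centralizer_iff] at h
  exact h y hy

theorem fix_B' (hc : ⁅⁅B, B⁆, A⁆ = ⊥) {a z : G} (ha : a ∈ A) (hz : z ∈ ⁅B, B⁆) :
    a * z * a⁻¹ = z := by
  have h := Subgroup.commutator_eq_bot_iff_le_centralizer.1 hc hz
  rw [Subgroup.mem_centralizer_iff] at h
  exact conj_eq_of_commute (h a ha)

theorem delta_eq (x a : G) : x⁻¹ * (a * x * a⁻¹) = ⁅x⁻¹, a⁆ := by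
  simp only [commutatorElement_def]
  group

/-- The key identity for `x ∈ [B, A]`, `y ∈ B` and `a ∈ A`. -/
theorem key_identity (hAB : A ≤ Subgroup.normalizer (B : Set G)) (hc : ⁅⁅B, B⁆, A⁆ = ⊥)
    {a x y : G} (ha : a ∈ A) (hx : x ∈ ⁅B, A⁆) (hy : y ∈ B) :
    ⁅x⁻¹ * (a * x * a⁻¹), y⁆ * ⁅x⁻¹ * (a * x * a⁻¹), y⁻¹ * (a * y * a⁻¹)⁆ *
      ⁅x, y⁻¹ * (a * y * a⁻¹)⁆ = 1 := by
  have hxB : x ∈ B := D_le_B hAB hx
  have hdx : x⁻¹ * (a * x * a⁻¹) ∈ ⁅B, A⁆ := by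
    rw [delta_eq]
    exact DA_le_D hAB (Subgroup.commutator_mem_commutator (Subgroup.inv_mem _ hx) ha)
  have hdy : y⁻¹ * (a * y * a⁻¹) ∈ ⁅B, A⁆ := by
    rw [delta_eq]
    exact Subgroup.commutator_mem_commutator (B.inv_mem hy) ha
  apply abstract_identity
  · have e1 : x * (x⁻¹ * (a * x * a⁻¹)) = a * x * a⁻¹ := by group
    have e2 : y * (y⁻¹ * (a * y * a⁻¹)) = a * y * a⁻¹ := by group
    rw [e1, e2]
    have e3 : ⁅a * x * a⁻¹, a * y * a⁻¹⁆ = a * ⁅x, y⁆ * a⁻¹ := by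
      simp only [commutatorElement_def]
      group
    rw [e3]
    exact fix_B' hc ha (Subgroup.commutator_mem_commutator hxB hy)
  · exact comm_B_D' hAB hc hy (Subgroup.commutator_mem_commutator hdx hdy)
  · exact comm_B_D' hAB hc hxB (Subgroup.commutator_mem_commutator hdx hdy)
  · exact comm_D_B' hc hx (Subgroup.commutator_mem_commutator (D_le_B hAB hdx) hy)
  · exact comm_B_D' hAB hc hy (Subgroup.commutator_mem_commutator hx hdy)
  · exact comm_B_D' hAB hc (comm_self_le B (Subgroup.commutator_mem_commutator hxB hy))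
      (Subgroup.commutator_mem_commutator hx hdy)


/-- The commutator of two generators `[b⁻¹, a]`, `[b⁻¹, a']` squares to one. -/
theorem gen_sq (hAB : A ≤ Subgroup.normalizer (B : Set G)) (hc : ⁅⁅B, B⁆, A⁆ = ⊥)
    (hA : IsMulCommutative A) {b : G} (hb : b ∈ B) {X : Subgroup G}
    (hXgen : ∀ a ∈ A, b⁻¹ * (a * b * a⁻¹) ∈ X)
    (hX2 : ⁅⁅X, A⁆, A⁆ = ⊥) {a a' : G} (ha : a ∈ A) (ha' : a' ∈ A) :
    ⁅b⁻¹ * (a * b * a⁻¹), b⁻¹ * (a' * b * a'⁻¹)⁆ ^ 2 = 1 := by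
  obtain ⟨u, hu⟩ : ∃ u, u = b⁻¹ * (a * b * a⁻¹) := ⟨_, rfl⟩
  obtain ⟨v, hv⟩ : ∃ v, v = b⁻¹ * (a' * b * a'⁻¹) := ⟨_, rfl⟩
  rw [← hu, ← hv]
  have huX : u ∈ X := hu ▸ hXgen a ha
  have hvX : v ∈ X := hv ▸ hXgen a' ha'
  have huD : u ∈ ⁅B, A⁆ := by
    rw [hu, delta_eq]
    exact Subgroup.commutator_mem_commutator (B.inv_mem hb) ha
  have hvD : v ∈ ⁅B, A⁆ := by
    rw [hv, delta_eq]
    exact Subgroup.commutator_mem_commutator (B.inv_mem hb) ha'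
  obtain ⟨Su, hSu⟩ : ∃ Su, Su = u⁻¹ * (a' * u * a'⁻¹) := ⟨_, rfl⟩
  obtain ⟨Tv, hTv⟩ : ∃ Tv, Tv = v⁻¹ * (a * v * a⁻¹) := ⟨_, rfl⟩
  have hcent : ⁅X, A⁆ ≤ Subgroup.centralizer (A : Set G) :=
    Subgroup.commutator_eq_bot_iff_le_centralizer.1 hX2
  have hSuXA : Su ∈ ⁅X, A⁆ := by
    rw [hSu, delta_eq]
    exact Subgroup.commutator_mem_commutator (X.inv_mem huX) ha'
  have hTvXA : Tv ∈ ⁅X, A⁆ := by
    rw [hTv, delta_eq]
    exact Subgroup.commutator_mem_commutator (X.inv_mem hvX) ha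
  have hSuD : Su ∈ ⁅B, A⁆ := by
    rw [hSu, delta_eq]
    exact DA_le_D hAB (Subgroup.commutator_mem_commutator (Subgroup.inv_mem _ huD) ha')
  have hTvD : Tv ∈ ⁅B, A⁆ := by
    rw [hTv, delta_eq]
    exact DA_le_D hAB (Subgroup.commutator_mem_commutator (Subgroup.inv_mem _ hvD) ha)
  have hSufix : Su⁻¹ * (a' * Su * a'⁻¹) = 1 := by
    have h := Subgroup.mem_centralizer_iff.1 (hcent hSuXA) a' ha'
    rw [conj_eq_of_commute h, inv_mul_cancel]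
  have hTvfix : Tv⁻¹ * (a * Tv * a⁻¹) = 1 := by
    have h := Subgroup.mem_centralizer_iff.1 (hcent hTvXA) a ha
    rw [conj_eq_of_commute h, inv_mul_cancel]
  -- the four identities
  have hA1 := key_identity hAB hc ha' huD hb
  rw [← hSu, ← hv] at hA1
  have hA0 := key_identity hAB hc ha' hSuD hb
  rw [hSufix, ← hv, commutatorElement_one_left, commutatorElement_one_left, one_mul,
    one_mul] at hA0
  rw [hA0, mul_one] at hA1
  have hB1 := key_identity hAB hc ha hvD hb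
  rw [← hTv, ← hu] at hB1
  have hB0 := key_identity hAB hc ha hTvD hb
  rw [hTvfix, ← hu, commutatorElement_one_left, commutatorElement_one_left, one_mul,
    one_mul] at hB0
  rw [hB0, mul_one] at hB1
  -- commutativity of `A`
  have hcomm : a * a' = a' * a :=
    congrArg Subtype.val (hA.is_comm.comm ⟨a, ha⟩ ⟨a', ha'⟩)
  have hTS : Tv = ⁅v⁻¹, u⁻¹⁆ * Su := by
    have e1 : a * (a' * b * a'⁻¹) * a⁻¹ = a' * (a * b * a⁻¹) * a'⁻¹ := by
      have : a * (a' * b * a'⁻¹) * a⁻¹ = (a * a') * b * (a * a')⁻¹ := by group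
      rw [this, hcomm]
      group
    have e2 : a * b * a⁻¹ = b * u := by rw [hu]; group
    have e3 : a' * b * a'⁻¹ = b * v := by rw [hv]; group
    rw [e2, e3] at e1
    -- e1 : a * (b * v) * a⁻¹ = a' * (b * u) * a'⁻¹
    have e4 : a * (b * v) * a⁻¹ = (b * u) * (v * Tv) := by
      rw [hTv]
      have : a * (b * v) * a⁻¹ = (a * b * a⁻¹) * (a * v * a⁻¹) := by group
      rw [this, e2]
      group
    have e5 : a' * (b * u) * a'⁻¹ = (b * v) * (u * Su) := by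
      rw [hSu]
      have : a' * (b * u) * a'⁻¹ = (a' * b * a'⁻¹) * (a' * u * a'⁻¹) := by group
      rw [this, e3]
      group
    rw [e4, e5] at e1
    have e6 : Tv = v⁻¹ * u⁻¹ * b⁻¹ * ((b * u) * (v * Tv)) := by group
    rw [e6, e1]
    simp only [commutatorElement_def]
    group
  -- `[Tv, b] = [Su, b]`
  have hz : ⁅v⁻¹, u⁻¹⁆ ∈ ⁅⁅B, A⁆, ⁅B, A⁆⁆ :=
    Subgroup.commutator_mem_commutator (Subgroup.inv_mem _ hvD) (Subgroup.inv_mem _ huD)
  have hTb : ⁅Tv, b⁆ = ⁅Su, b⁆ := by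
    rw [hTS]
    have h1 : Commute b ⁅v⁻¹, u⁻¹⁆ := comm_B_D' hAB hc hb hz
    have h2 : Commute (Su * b * Su⁻¹) ⁅v⁻¹, u⁻¹⁆ :=
      comm_B_D' hAB hc (B.mul_mem (B.mul_mem (D_le_B hAB hSuD) hb)
        (B.inv_mem (D_le_B hAB hSuD))) hz
    have e : ⁅⁅v⁻¹, u⁻¹⁆ * Su, b⁆ =
        ⁅v⁻¹, u⁻¹⁆ * (Su * b * Su⁻¹) * ⁅v⁻¹, u⁻¹⁆⁻¹ * b⁻¹ := by
      simp only [commutatorElement_def]
      group
    rw [e, ← h2.eq, mul_assoc (Su * b * Su⁻¹), mul_inv_cancel, mul_one]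
    simp only [commutatorElement_def]
  -- conclusion
  have h1 : ⁅u, v⁆ = ⁅Su, b⁆⁻¹ := by
    rw [eq_inv_iff_mul_eq_one, ← hA1]
    exact (comm_B_D' hAB hc (comm_self_le B (Subgroup.commutator_mem_commutator
      (D_le_B hAB hSuD) hb)) (Subgroup.commutator_mem_commutator huD hvD)).eq.symm
  have h2 : ⁅v, u⁆ = ⁅Su, b⁆⁻¹ := by
    rw [← hTb, eq_inv_iff_mul_eq_one, ← hB1]
    exact (comm_B_D' hAB hc (comm_self_le B (Subgroup.commutator_mem_commutator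
      (D_le_B hAB hTvD) hb)) (Subgroup.commutator_mem_commutator hvD huD)).eq.symm
  have h3 : ⁅u, v⁆ = ⁅v, u⁆ := by rw [h1, h2]
  have h4 : ⁅u, v⁆ * ⁅v, u⁆ = 1 := by
    simp only [commutatorElement_def]
    group
  rw [pow_two]
  nth_rewrite 2 [h3]
  exact h4

end struct


theorem sq_mul_of_commute {G : Type*} [Group G] {x y : G} (h : Commute x y) (hx : x ^ 2 = 1)
    (hy : y ^ 2 = 1) : (x * y) ^ 2 = 1 := by
  rw [h.mul_pow, hx, hy, one_mul]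

theorem result {G : Type*} [Group G] [Finite G] (A B : Subgroup G) (hAB : A ≤ Subgroup.normalizer (B : Set G)) (hc : ⁅⁅B, B⁆, A⁆ = ⊥) : ⁅⁅B, A⁆, ⁅B, A⁆⁆ ≤ B ⊓ Subgroup.centralizer (B : Set G) ∧ (IsMulCommutative A → ∀ b ∈ B, ⁅⁅(Subgroup.closure {g : G | ∃ a ∈ A, g = b⁻¹ * a * b * a⁻¹}), A⁆, A⁆ = ⊥ → ∀ w ∈ ⁅(Subgroup.closure {g : G | ∃ a ∈ A, g = b⁻¹ * a * b * a⁻¹}), (Subgroup.closure {g : G | ∃ a ∈ A, g = b⁻¹ * a * b * a⁻¹})⁆, w ^ 2 = 1) := by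
  refine ⟨part1 hAB hc, ?_⟩
  intro hA b hb
  obtain ⟨X, hX⟩ : ∃ X, X = Subgroup.closure {g : G | ∃ a ∈ A, g = b⁻¹ * a * b * a⁻¹} := ⟨_, rfl⟩
  rw [← hX]
  intro hX2
  have hXgen : ∀ a ∈ A, b⁻¹ * (a * b * a⁻¹) ∈ X := by
    intro a ha
    rw [hX]
    apply Subgroup.subset_closure
    exact ⟨a, ha, by group⟩
  have hXD : X ≤ ⁅B, A⁆ := by
    rw [hX, Subgroup.closure_le]
    rintro g ⟨a, ha, rfl⟩
    have : b⁻¹ * a * b * a⁻¹ = ⁅b⁻¹, a⁆ := by
      simp only [commutatorElement_def]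
      group
    rw [this]
    exact Subgroup.commutator_mem_commutator (B.inv_mem hb) ha
  have hXB : X ≤ B := hXD.trans (D_le_B hAB)
  have hcentral : ∀ x ∈ X, ∀ y ∈ X, ∀ z ∈ B, Commute z ⁅x, y⁆ := fun x hx y hy z hz =>
    comm_B_D' hAB hc hz (Subgroup.commutator_mem_commutator (hXD hx) (hXD hy))
  -- squares of commutators of elements of X
  have hsq : ∀ x ∈ X, ∀ y ∈ X, ⁅x, y⁆ ^ 2 = 1 := by
    intro x hx y hy
    rw [hX] at hx hy
    induction hx, hy using Subgroup.closure_induction₂ with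
    | mem x y hx hy =>
      obtain ⟨a, ha, rfl⟩ := hx
      obtain ⟨a', ha', rfl⟩ := hy
      have e1 : b⁻¹ * a * b * a⁻¹ = b⁻¹ * (a * b * a⁻¹) := by group
      have e2 : b⁻¹ * a' * b * a'⁻¹ = b⁻¹ * (a' * b * a'⁻¹) := by group
      rw [e1, e2]
      exact gen_sq hAB hc hA hb hXgen hX2 ha ha'
    | one_left x hx => rw [commutatorElement_one_left, one_pow]
    | one_right x hx => rw [commutatorElement_one_right, one_pow]
    | mul_left x y z hx hy hz h1 h2 =>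
      rw [← hX] at hx hy hz
      have e : ⁅x * y, z⁆ = x * ⁅y, z⁆ * x⁻¹ * ⁅x, z⁆ := by
        simp only [commutatorElement_def]
        group
      rw [e, conj_eq_of_commute (hcentral y hy z hz x (hXB hx))]
      exact sq_mul_of_commute (hcentral x hx z hz _ (comm_self_le B
        (Subgroup.commutator_mem_commutator (hXB hy) (hXB hz)))) h2 h1
    | mul_right y z x hy hz hx h1 h2 =>
      rw [← hX] at hx hy hz
      have e : ⁅x, y * z⁆ = ⁅x, y⁆ * (y * ⁅x, z⁆ * y⁻¹) := by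
        simp only [commutatorElement_def]
        group
      rw [e, conj_eq_of_commute (hcentral x hx z hz y (hXB hy))]
      exact sq_mul_of_commute (hcentral x hx z hz _ (comm_self_le B
        (Subgroup.commutator_mem_commutator (hXB hx) (hXB hy)))) h1 h2
    | inv_left x y hx hy h =>
      rw [← hX] at hx hy
      have e : ⁅x⁻¹, y⁆ = x⁻¹ * ⁅x, y⁆⁻¹ * x⁻¹⁻¹ := by
        simp only [commutatorElement_def]
        group
      rw [e, conj_eq_of_commute ((hcentral x hx y hy x⁻¹ (B.inv_mem (hXB hx))).inv_right),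
        inv_pow, h, inv_one]
    | inv_right x y hx hy h =>
      rw [← hX] at hx hy
      have e : ⁅x, y⁻¹⁆ = y⁻¹ * ⁅x, y⁆⁻¹ * y⁻¹⁻¹ := by
        simp only [commutatorElement_def]
        group
      rw [e, conj_eq_of_commute ((hcentral x hx y hy y⁻¹ (B.inv_mem (hXB hy))).inv_right),
        inv_pow, h, inv_one]
  intro w hw
  rw [Subgroup.commutator_def] at hw
  have hwB : ∀ w ∈ Subgroup.closure {g | ∃ g₁ ∈ X, ∃ g₂ ∈ X, ⁅g₁, g₂⁆ = g},
      w ∈ ⁅⁅B, A⁆, ⁅B, A⁆⁆ := by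
    intro w hw
    rw [← Subgroup.commutator_def] at hw
    exact Subgroup.commutator_mono hXD hXD hw
  induction hw using Subgroup.closure_induction with
  | mem z hz =>
    obtain ⟨x, hx, y, hy, rfl⟩ := hz
    exact hsq x hx y hy
  | one => exact one_pow 2
  | mul y z hy hz ihy ihz =>
    refine sq_mul_of_commute ?_ ihy ihz
    exact comm_B_D' hAB hc ((part1 hAB hc (hwB y hy)).1) (hwB z hz)
  | inv y _ ih => rw [inv_pow, ih, inv_one]

end Cfsg.Agent.S0648
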