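import Cfsg.Statements.S0650
import Cfsg.Agent.S0648

set_option autoImplicit false
open Cfsg

namespace Cfsg.Agent.S0650

open scoped commutatorElement

section general
variable {S : Type*} [Group S]

/-- Product formula for subgroups one of which normalises the other. -/
theorem card_sup_mul_card_inf (H K : Subgroup S) (h : H ≤ Subgroup.normalizer (K : Set S)) :
    Nat.card (H ⊔ K : Subgroup S) * Nat.card (H ⊓ K : Subgroup S) = Nat.card H * Nat.card K := by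
  obtain ⟨M, hM⟩ : ∃ M, M = Subgroup.normalizer (K : Set S) := ⟨_, rfl⟩
  have hHM : H ≤ M := hM ▸ h
  have hKM : K ≤ M := hM ▸ Subgroup.le_normalizer
  haveI : (K.subgroupOf M).Normal := by
    rw [hM]
    exact Subgroup.normal_in_normalizer
  have e1 : Nat.card (H.subgroupOf M) = Nat.card H :=
    Nat.card_congr (Subgroup.subgroupOfEquivOfLe hHM).toEquiv
  have e2 : Nat.card (K.subgroupOf M) = Nat.card K :=
    Nat.card_congr (Subgroup.subgroupOfEquivOfLe hKM).toEquiv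
  have e3 : Nat.card ((H ⊔ K).subgroupOf M) = Nat.card (H ⊔ K : Subgroup S) :=
    Nat.card_congr (Subgroup.subgroupOfEquivOfLe (sup_le hHM hKM)).toEquiv
  have e4 : Nat.card ((H ⊓ K).subgroupOf M) = Nat.card (H ⊓ K : Subgroup S) :=
    Nat.card_congr (Subgroup.subgroupOfEquivOfLe (inf_le_left.trans hHM)).toEquiv
  have e5 : (H ⊔ K).subgroupOf M = H.subgroupOf M ⊔ K.subgroupOf M :=
    Subgroup.subgroupOf_sup hHM hKM
  have e6 : (H ⊓ K).subgroupOf M = H.subgroupOf M ⊓ K.subgroupOf M := by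
    ext x
    simp [Subgroup.mem_subgroupOf]
  rw [← e1, ← e2, ← e3, ← e4, e5, e6]
  obtain ⟨H', hH'⟩ : ∃ H', H' = H.subgroupOf M := ⟨_, rfl⟩
  obtain ⟨K', hK'⟩ : ∃ K', K' = K.subgroupOf M := ⟨_, rfl⟩
  rw [← hH', ← hK']
  haveI : K'.Normal := hK' ▸ this
  have r1 : K'.relIndex (H' ⊔ K') = K'.relIndex H' := Subgroup.relIndex_sup_right H' K'
  have r2 : Nat.card K' * K'.relIndex (H' ⊔ K') = Nat.card (H' ⊔ K' : Subgroup M) := by
    have := Subgroup.relIndex_mul_relIndex ⊥ K' (H' ⊔ K') bot_le le_sup_right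
    rwa [Subgroup.relIndex_bot_left, Subgroup.relIndex_bot_left] at this
  have r3 : Nat.card (H' ⊓ K' : Subgroup M) * K'.relIndex H' = Nat.card H' := by
    have := Subgroup.relIndex_mul_relIndex ⊥ (H' ⊓ K') H' bot_le inf_le_left
    rw [Subgroup.relIndex_bot_left, Subgroup.relIndex_bot_left, inf_comm,
      Subgroup.inf_relIndex_right] at this
    rwa [inf_comm]
  rw [← r2, ← r3, r1]
  ring

/-- Class-two power formula. -/
theorem mul_pow_class_two {a c w : S} (hw : c * a = w * a * c) (hwa : Commute w a)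
    (hwc : Commute w c) (n : ℕ) : (a * c) ^ n = a ^ n * c ^ n * w ^ (n.choose 2) := by
  have hcn : ∀ n : ℕ, c ^ n * a = w ^ n * a * c ^ n := by
    intro n
    induction n with
    | zero => simp
    | succ n ih =>
      have hc : Commute c (w ^ n) := (hwc.pow_left n).symm
      calc c ^ (n + 1) * a = c * (c ^ n * a) := by rw [pow_succ', mul_assoc]
        _ = c * (w ^ n * (a * c ^ n)) := by rw [ih, mul_assoc]
        _ = w ^ n * (c * (a * c ^ n)) := hc.left_comm _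
        _ = w ^ n * ((c * a) * c ^ n) := by rw [mul_assoc]
        _ = w ^ n * ((w * a * c) * c ^ n) := by rw [hw]
        _ = (w ^ n * w) * a * (c * c ^ n) := by simp only [mul_assoc]
        _ = w ^ (n + 1) * a * c ^ (n + 1) := by rw [← pow_succ, ← pow_succ']
  induction n with
  | zero => simp
  | succ n ih =>
    have h1 : (n + 1).choose 2 = n + n.choose 2 := by
      rw [Nat.choose_succ_succ' n 1, Nat.choose_one_right]
    have h2 : Commute (w ^ (n.choose 2)) (a * c) := (hwa.mul_right hwc).pow_left _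
    have h3 : Commute (w ^ n) (a ^ n) := (hwa.pow_left n).pow_right n
    have h4 : Commute (w ^ n) (a ^ (n + 1) * c ^ (n + 1)) :=
      ((hwa.pow_left n).pow_right _).mul_right ((hwc.pow_left n).pow_right _)
    calc (a * c) ^ (n + 1) = (a * c) ^ n * (a * c) := pow_succ _ _
      _ = a ^ n * c ^ n * w ^ (n.choose 2) * (a * c) := by rw [ih]
      _ = a ^ n * c ^ n * ((a * c) * w ^ (n.choose 2)) := by rw [mul_assoc, h2.eq]
      _ = a ^ n * ((c ^ n * a) * (c * w ^ (n.choose 2))) := by simp only [mul_assoc]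
      _ = a ^ n * ((w ^ n * a * c ^ n) * (c * w ^ (n.choose 2))) := by rw [hcn]
      _ = (a ^ n * w ^ n) * (a * (c ^ n * c)) * w ^ (n.choose 2) := by simp only [mul_assoc]
      _ = (w ^ n * a ^ n) * (a * (c ^ n * c)) * w ^ (n.choose 2) := by rw [h3.eq]
      _ = w ^ n * (a ^ (n + 1) * c ^ (n + 1)) * w ^ (n.choose 2) := by
        rw [pow_succ a, pow_succ c]; simp only [mul_assoc]
      _ = (a ^ (n + 1) * c ^ (n + 1)) * w ^ n * w ^ (n.choose 2) := by rw [h4.eq]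
      _ = a ^ (n + 1) * c ^ (n + 1) * w ^ ((n + 1).choose 2) := by
        rw [h1, pow_add w, mul_assoc]

end general


section rep
variable {S : Type*} [Group S]

/-- Conjugate of `A` by `b⁻¹`, i.e. `b⁻¹ A b`. -/
abbrev Ab (A : Subgroup S) (b : S) : Subgroup S := A.map (MulAut.conj (b⁻¹)).toMonoidHom

theorem mem_Ab {A : Subgroup S} {b y : S} : y ∈ Ab A b ↔ b * y * b⁻¹ ∈ A := by
  constructor
  · rintro ⟨z, hz, rfl⟩
    change b * (b⁻¹ * z * b⁻¹⁻¹) * b⁻¹ ∈ A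
    have : b * (b⁻¹ * z * b⁻¹⁻¹) * b⁻¹ = z := by group
    rw [this]
    exact hz
  · intro h
    refine ⟨b * y * b⁻¹, h, ?_⟩
    change b⁻¹ * (b * y * b⁻¹) * b⁻¹⁻¹ = y
    group

theorem mem_Z {A : Subgroup S} {b z : S} : z ∈ A ⊓ Ab A b ↔ z ∈ A ∧ b * z * b⁻¹ ∈ A := by
  rw [Subgroup.mem_inf, mem_Ab]

/-- A finite-subgroup criterion for membership in the normaliser. -/
theorem mem_normalizer_of_conj_le [Finite S] {g : S} {K : Subgroup S}
    (hK : ∀ n ∈ K, g * n * g⁻¹ ∈ K) : g ∈ Subgroup.normalizer (K : Set S) :=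
  Subgroup.mem_normalizer_fintype (S := (K : Set S)) hK

/-- The hypotheses of the replacement theorem. -/
structure Rep (A B : Subgroup S) (b : S) : Prop where
  Bnorm : B.Normal
  comm : ∀ x ∈ A, ∀ y ∈ A, x * y = y * x
  hBA : ⁅B, B⁆ ≤ A
  hb : b ∈ B
  hbN : b ∈ Subgroup.normalizer ((Subgroup.normalizer (A : Set S)) : Set S)

namespace Rep
variable {A B : Subgroup S} {b : S} (h : Rep A B b)

/-- The generator `[a, b⁻¹]`. -/
abbrev x (b a : S) : S := a * b⁻¹ * a⁻¹ * b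

/-- The `b`-conjugate of `a⁻¹`. -/
abbrev c (b a : S) : S := b⁻¹ * a⁻¹ * b

theorem x_eq (a : S) : x b a = a * c b a := by
  simp only [x, c]; group

theorem c_mem {a : S} (ha : a ∈ A) : c b a ∈ Ab A b := by
  rw [mem_Ab]
  have : b * c b a * b⁻¹ = a⁻¹ := by simp only [c]; group
  rw [this]
  exact A.inv_mem ha

include h

theorem conj_B {y : S} (g : S) (hy : y ∈ B) : g * y * g⁻¹ ∈ B :=
  h.Bnorm.conj_mem y hy g

theorem Ab_le_N {y : S} (hy : y ∈ Ab A b) : y ∈ Subgroup.normalizer (A : Set S) := by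
  rw [mem_Ab] at hy
  exact (Subgroup.mem_normalizer_iff.1 h.hbN y).2 (Subgroup.le_normalizer hy)

theorem conj_b_N {g : S} (hg : g ∈ Subgroup.normalizer (A : Set S)) :
    b * g * b⁻¹ ∈ Subgroup.normalizer (A : Set S) :=
  (Subgroup.mem_normalizer_iff.1 h.hbN g).1 hg

/-- `A` normalises `b⁻¹ A b`. -/
theorem A_norm_Ab {a y : S} (ha : a ∈ A) (hy : y ∈ Ab A b) : a * y * a⁻¹ ∈ Ab A b := by
  rw [mem_Ab] at hy ⊢
  have h1 := h.conj_b_N (Subgroup.le_normalizer ha)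
  have e : b * (a * y * a⁻¹) * b⁻¹ = (b * a * b⁻¹) * (b * y * b⁻¹) * (b * a * b⁻¹)⁻¹ := by group
  rw [e]
  exact (Subgroup.mem_normalizer_iff.1 h1 _).1 hy

theorem Ab_comm {y z : S} (hy : y ∈ Ab A b) (hz : z ∈ Ab A b) : y * z = z * y := by
  rw [mem_Ab] at hy hz
  have := h.comm _ hy _ hz
  have e1 : y * z = b⁻¹ * ((b * y * b⁻¹) * (b * z * b⁻¹)) * b := by group
  have e2 : z * y = b⁻¹ * ((b * z * b⁻¹) * (b * y * b⁻¹)) * b := by group
  rw [e1, e2, this]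

/-- Commutators between `A` and `b⁻¹ A b` lie in the intersection. -/
theorem comm_mem_Z {a y : S} (ha : a ∈ A) (hy : y ∈ Ab A b) : ⁅a, y⁆ ∈ A ⊓ Ab A b := by
  rw [Subgroup.mem_inf]
  constructor
  · have h1 : y * a⁻¹ * y⁻¹ ∈ A :=
      (Subgroup.mem_normalizer_iff.1 (h.Ab_le_N hy) _).1 (A.inv_mem ha)
    have e : ⁅a, y⁆ = a * (y * a⁻¹ * y⁻¹) := by
      simp only [commutatorElement_def]; group
    rw [e]
    exact A.mul_mem ha h1
  · have e : ⁅a, y⁆ = (a * y * a⁻¹) * y⁻¹ := by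
      simp only [commutatorElement_def]
    rw [e]
    exact Subgroup.mul_mem _ (h.A_norm_Ab ha hy) (Subgroup.inv_mem _ hy)

theorem comm_mem_Z' {a y : S} (ha : a ∈ A) (hy : y ∈ Ab A b) : ⁅y, a⁆ ∈ A ⊓ Ab A b := by
  have := Subgroup.inv_mem _ (h.comm_mem_Z ha hy)
  rwa [commutatorElement_inv] at this

theorem Z_comm_A {z a : S} (hz : z ∈ A ⊓ Ab A b) (ha : a ∈ A) : Commute z a :=
  h.comm z (Subgroup.mem_inf.1 hz).1 a ha

theorem Z_comm_Ab {z y : S} (hz : z ∈ A ⊓ Ab A b) (hy : y ∈ Ab A b) : Commute z y :=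
  h.Ab_comm (Subgroup.mem_inf.1 hz).2 hy

theorem Z_comm_x {z a : S} (hz : z ∈ A ⊓ Ab A b) (ha : a ∈ A) : Commute z (x b a) := by
  rw [x_eq]
  exact (h.Z_comm_A hz ha).mul_right (h.Z_comm_Ab hz (c_mem ha))

/-- Derived subgroup of `B` lies in the intersection. -/
theorem B'_le_Z : ⁅B, B⁆ ≤ A ⊓ Ab A b := by
  haveI := h.Bnorm
  intro y hy
  rw [mem_Z]
  refine ⟨h.hBA hy, ?_⟩
  have hn : (⁅B, B⁆ : Subgroup S).Normal := Subgroup.commutator_normal B B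
  exact h.hBA (hn.conj_mem y hy b)

/-- `A ∩ B` lies in the intersection. -/
theorem AB_le_Z {a : S} (ha : a ∈ A) (haB : a ∈ B) : a ∈ A ⊓ Ab A b := by
  rw [mem_Z]
  refine ⟨ha, ?_⟩
  have e : b * a * b⁻¹ = ⁅b, a⁆ * a := by
    simp only [commutatorElement_def]; group
  rw [e]
  exact A.mul_mem (h.hBA (Subgroup.commutator_mem_commutator h.hb haB)) ha

theorem x_mem_B {a : S} : x b a ∈ B := by
  have e : x b a = (a * b⁻¹ * a⁻¹) * b := by simp only [x]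
  rw [e]
  exact B.mul_mem (h.conj_B a (B.inv_mem h.hb)) h.hb

/-- `b⁻¹ z b ∈ Z` for `z ∈ Z`. -/
theorem Z_conj_b {z : S} (hz : z ∈ A ⊓ Ab A b) : b⁻¹ * z * b ∈ A ⊓ Ab A b := by
  rw [mem_Z] at hz ⊢
  constructor
  · have hz2 := hz.2
    -- k = a₀⁻¹ z with a₀ = b z b⁻¹
    have hkA : (b * z * b⁻¹)⁻¹ * z ∈ A := A.mul_mem (A.inv_mem hz2) hz.1
    have hkB : (b * z * b⁻¹)⁻¹ * z ∈ B := by
      have e : (b * z * b⁻¹)⁻¹ * z = b * (z⁻¹ * b⁻¹ * z⁻¹⁻¹) := by group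
      rw [e]
      exact B.mul_mem h.hb (h.conj_B z⁻¹ (B.inv_mem h.hb))
    have e : b⁻¹ * z * b = z * (((b * z * b⁻¹)⁻¹ * z) *
        ⁅((b * z * b⁻¹)⁻¹ * z)⁻¹, b⁻¹⁆) := by
      simp only [commutatorElement_def]; group
    rw [e]
    exact A.mul_mem hz.1 (A.mul_mem hkA (h.hBA (Subgroup.commutator_mem_commutator
      (B.inv_mem hkB) (B.inv_mem h.hb))))
  · have e : b * (b⁻¹ * z * b) * b⁻¹ = z := by group
    rw [e]
    exact hz.1


theorem binv_norm_Z [Finite S] : b⁻¹ ∈ Subgroup.normalizer ((A ⊓ Ab A b : Subgroup S) : Set S) := by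
  apply mem_normalizer_of_conj_le
  intro z hz
  rw [inv_inv]
  exact h.Z_conj_b hz

theorem b_norm_Z [Finite S] : b ∈ Subgroup.normalizer ((A ⊓ Ab A b : Subgroup S) : Set S) := by
  have := Subgroup.inv_mem _ h.binv_norm_Z
  rwa [inv_inv] at this

theorem Z_conj_b' [Finite S] {z : S} (hz : z ∈ A ⊓ Ab A b) : b * z * b⁻¹ ∈ A ⊓ Ab A b :=
  (Subgroup.mem_normalizer_iff.1 h.b_norm_Z z).1 hz

/-- Multiplication rule for the generators modulo the central intersection. -/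
theorem x_mul {a a' : S} (ha : a ∈ A) (ha' : a' ∈ A) :
    x b a * x b a' = ⁅a'⁻¹, c b a⁆ * x b (a * a') := by
  have hw : ⁅a'⁻¹, c b a⁆ ∈ A ⊓ Ab A b := h.comm_mem_Z (A.inv_mem ha') (c_mem ha)
  have h1 : Commute ⁅a'⁻¹, c b a⁆ (a * a') := h.Z_comm_A hw (A.mul_mem ha ha')
  have e1 : x b a * x b a' = (a * a') * ⁅a'⁻¹, c b a⁆ * (c b a * c b a') := by
    simp only [x, c, commutatorElement_def]; group
  have e2 : c b a * c b a' = c b (a * a') := by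
    have : a * a' = a' * a := h.comm a ha a' ha'
    simp only [c]
    rw [this]
    group
  rw [e1, e2, ← h1.eq, mul_assoc, ← x_eq]

/-- The replacement subgroup, as an explicit set of products. -/
def T (h : Rep A B b) : Subgroup S where
  carrier := {y | ∃ z ∈ A ⊓ Ab A b, ∃ a ∈ A, y = z * x b a}
  mul_mem' := by
    rintro _ _ ⟨z, hz, a, ha, rfl⟩ ⟨z', hz', a', ha', rfl⟩
    have hw : ⁅a'⁻¹, c b a⁆ ∈ A ⊓ Ab A b := h.comm_mem_Z (A.inv_mem ha') (c_mem ha)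
    refine ⟨z * z' * ⁅a'⁻¹, c b a⁆, Subgroup.mul_mem _ (Subgroup.mul_mem _ hz hz') hw,
      a * a', A.mul_mem ha ha', ?_⟩
    have h1 : Commute z' (x b a) := h.Z_comm_x hz' ha
    calc z * x b a * (z' * x b a') = z * (x b a * z') * x b a' := by simp only [mul_assoc]
      _ = z * (z' * x b a) * x b a' := by rw [h1.eq]
      _ = z * z' * (x b a * x b a') := by simp only [mul_assoc]
      _ = z * z' * (⁅a'⁻¹, c b a⁆ * x b (a * a')) := by rw [h.x_mul ha ha']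
      _ = z * z' * ⁅a'⁻¹, c b a⁆ * x b (a * a') := by simp only [mul_assoc]
  one_mem' := ⟨1, Subgroup.one_mem _, 1, A.one_mem, by simp [x]⟩
  inv_mem' := by
    rintro _ ⟨z, hz, a, ha, rfl⟩
    have hw : ⁅a⁻¹⁻¹, c b a⁆ ∈ A ⊓ Ab A b :=
      h.comm_mem_Z (A.inv_mem (A.inv_mem ha)) (c_mem ha)
    have h2 := h.x_mul ha (A.inv_mem ha)
    rw [mul_inv_cancel] at h2
    have hx1 : x b (1 : S) = 1 := by simp [x]
    rw [hx1, mul_one] at h2
    -- x a * x a⁻¹ = w  ⇒ (x a)⁻¹ = x a⁻¹ * w⁻¹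
    refine ⟨z⁻¹ * ⁅a⁻¹⁻¹, c b a⁆⁻¹, Subgroup.mul_mem _ (Subgroup.inv_mem _ hz)
      (Subgroup.inv_mem _ hw), a⁻¹, A.inv_mem ha, ?_⟩
    have h3 : Commute z (x b a) := h.Z_comm_x hz ha
    have h4 : Commute ⁅a⁻¹⁻¹, c b a⁆⁻¹ (x b a⁻¹) :=
      (h.Z_comm_x hw (A.inv_mem ha)).inv_left
    rw [mul_assoc, h4.eq, ← h2, mul_inv_rev, ← h3.inv_inv.eq]
    congr 1
    group

theorem mem_T {y : S} : y ∈ h.T ↔ ∃ z ∈ A ⊓ Ab A b, ∃ a ∈ A, y = z * x b a := Iff.rfl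

theorem Z_le_T : A ⊓ Ab A b ≤ h.T := fun z hz =>
  ⟨z, hz, 1, A.one_mem, by simp [x]⟩

theorem x_mem_T {a : S} (ha : a ∈ A) : x b a ∈ h.T :=
  ⟨1, Subgroup.one_mem _, a, ha, by rw [one_mul]⟩

theorem Astar_eq_T :
    (A ⊓ Ab A b) ⊔ Subgroup.closure {g : S | ∃ a ∈ A, g = a * b⁻¹ * a⁻¹ * b} = h.T := by
  apply le_antisymm
  · refine sup_le h.Z_le_T ?_
    rw [Subgroup.closure_le]
    rintro g ⟨a, ha, rfl⟩
    exact h.x_mem_T ha
  · rintro _ ⟨z, hz, a, ha, rfl⟩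
    exact Subgroup.mul_mem _ (Subgroup.mem_sup_left hz)
      (Subgroup.mem_sup_right (Subgroup.subset_closure ⟨a, ha, rfl⟩))


theorem T_le_N : h.T ≤ Subgroup.normalizer (A : Set S) := by
  rintro _ ⟨z, hz, a, ha, rfl⟩
  rw [x_eq]
  exact Subgroup.mul_mem _ (Subgroup.le_normalizer (Subgroup.mem_inf.1 hz).1)
    (Subgroup.mul_mem _ (Subgroup.le_normalizer ha) (h.Ab_le_N (c_mem ha)))

theorem A_norm_T [Finite S] : A ≤ Subgroup.normalizer ((h.T : Subgroup S) : Set S) := by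
  intro a' ha'
  apply mem_normalizer_of_conj_le
  rintro _ ⟨z, hz, a, ha, rfl⟩
  have hw : ⁅a', c b a⁆ ∈ A ⊓ Ab A b := h.comm_mem_Z ha' (c_mem ha)
  refine ⟨z * ⁅a', c b a⁆, Subgroup.mul_mem _ hz hw, a, ha, ?_⟩
  have h1 : a' * z * a'⁻¹ = z := by
    have := (h.Z_comm_A hz ha').eq
    rw [← this, mul_assoc, mul_inv_cancel, mul_one]
  have h2 : a' * a * a'⁻¹ = a := by
    rw [h.comm a' ha' a ha, mul_assoc, mul_inv_cancel, mul_one]
  have e : a' * (z * x b a) * a'⁻¹ = (a' * z * a'⁻¹) * ((a' * a * a'⁻¹) *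
      (⁅a', c b a⁆ * c b a)) := by
    rw [x_eq]
    simp only [commutatorElement_def]
    group
  rw [e, h1, h2, x_eq]
  have h3 : Commute ⁅a', c b a⁆ a := h.Z_comm_A hw ha
  rw [← mul_assoc a, ← h3.eq]
  simp only [mul_assoc]

theorem binv_conj_T {y : S} (hy : y ∈ h.T) : b⁻¹ * y * b ∈ h.T := by
  obtain ⟨z, hz, a, ha, rfl⟩ := hy
  have hw : ⁅(x b a)⁻¹, b⁻¹⁆ ∈ A ⊓ Ab A b :=
    h.B'_le_Z (Subgroup.commutator_mem_commutator (B.inv_mem h.x_mem_B) (B.inv_mem h.hb))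
  refine ⟨(b⁻¹ * z * b) * ⁅(x b a)⁻¹, b⁻¹⁆, Subgroup.mul_mem _ (h.Z_conj_b hz) hw, a, ha, ?_⟩
  have h1 : Commute ⁅(x b a)⁻¹, b⁻¹⁆ (x b a) := h.Z_comm_x hw ha
  have e : b⁻¹ * (z * x b a) * b = (b⁻¹ * z * b) * (x b a * ⁅(x b a)⁻¹, b⁻¹⁆) := by
    simp only [commutatorElement_def]
    group
  rw [e, ← h1.eq]
  simp only [mul_assoc]

theorem b_norm_T [Finite S] : b ∈ Subgroup.normalizer ((h.T : Subgroup S) : Set S) := by
  have h1 : b⁻¹ ∈ Subgroup.normalizer ((h.T : Subgroup S) : Set S) := by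
    apply mem_normalizer_of_conj_le
    intro y hy
    rw [inv_inv]
    exact h.binv_conj_T hy
  have := Subgroup.inv_mem _ h1
  rwa [inv_inv] at this

theorem B'_le_T : ⁅B, B⁆ ≤ h.T := h.B'_le_Z.trans h.Z_le_T

theorem exists_x_not_mem [Finite S] (hbA : b ∉ Subgroup.normalizer (A : Set S)) :
    ∃ a ∈ A, x b a ∉ A := by
  by_contra hall
  push Not at hall
  apply hbA
  have h1 : b⁻¹ ∈ Subgroup.normalizer (A : Set S) := by
    apply mem_normalizer_of_conj_le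
    intro a ha
    rw [inv_inv]
    have h2 := hall a⁻¹ (A.inv_mem ha)
    have e : b⁻¹ * a * b = a * x b a⁻¹ := by simp only [x]; group
    rw [e]
    exact A.mul_mem ha h2
  have := Subgroup.inv_mem _ h1
  rwa [inv_inv] at this

theorem lt1 [Finite S] (hbA : b ∉ Subgroup.normalizer (A : Set S)) : A ⊓ B < h.T ⊓ B := by
  have hle : A ⊓ B ≤ h.T ⊓ B := by
    intro a ha
    rw [Subgroup.mem_inf] at ha ⊢
    exact ⟨h.Z_le_T (h.AB_le_Z ha.1 ha.2), ha.2⟩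
  refine lt_of_le_of_ne hle ?_
  intro e
  obtain ⟨a, ha, hxa⟩ := h.exists_x_not_mem hbA
  apply hxa
  have : x b a ∈ h.T ⊓ B := Subgroup.mem_inf.2 ⟨h.x_mem_T ha, h.x_mem_B⟩
  rw [← e] at this
  exact (Subgroup.mem_inf.1 this).1

theorem lt2 (hbA : b ∉ Subgroup.normalizer (A : Set S)) : h.T ⊓ B < B := by
  refine lt_of_le_of_ne inf_le_right ?_
  intro e
  apply hbA
  have : b ∈ h.T ⊓ B := by rw [e]; exact h.hb
  exact h.T_le_N (Subgroup.mem_inf.1 this).1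

theorem N_le_NT [Finite S] :
    Subgroup.normalizer (A : Set S) ≤ Subgroup.normalizer ((h.T : Subgroup S) : Set S) := by
  intro g hg
  apply mem_normalizer_of_conj_le
  rintro _ ⟨z, hz, a, ha, rfl⟩
  have hgA : ∀ y ∈ A, g * y * g⁻¹ ∈ A := fun y hy => (Subgroup.mem_normalizer_iff.1 hg y).1 hy
  -- conjugate of z
  have hz' : g * z * g⁻¹ ∈ A ⊓ Ab A b := by
    rw [mem_Z] at hz ⊢
    refine ⟨hgA z hz.1, ?_⟩
    have h1 := h.conj_b_N hg
    have e : b * (g * z * g⁻¹) * b⁻¹ = (b * g * b⁻¹) * (b * z * b⁻¹) * (b * g * b⁻¹)⁻¹ := by group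
    rw [e]
    exact (Subgroup.mem_normalizer_iff.1 h1 _).1 hz.2
  -- n = [g, b]
  have hnN : ⁅g, b⁆ ∈ Subgroup.normalizer (A : Set S) := by
    have e : ⁅g, b⁆ = g * (b * g⁻¹ * b⁻¹) := by simp only [commutatorElement_def]; group
    rw [e]
    exact Subgroup.mul_mem _ hg (h.conj_b_N (Subgroup.inv_mem _ hg))
  have hnB : ⁅g, b⁆ ∈ B := by
    have e : ⁅g, b⁆ = (g * b * g⁻¹) * b⁻¹ := by simp only [commutatorElement_def]
    rw [e]
    exact B.mul_mem (h.conj_B g h.hb) (B.inv_mem h.hb)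
  obtain ⟨a₁, ha₁def⟩ : ∃ a₁, a₁ = g * a * g⁻¹ := ⟨_, rfl⟩
  have ha₁ : a₁ ∈ A := ha₁def ▸ hgA a ha
  obtain ⟨a₂, ha₂def⟩ : ∃ a₂, a₂ = ⁅g, b⁆⁻¹ * a₁ * ⁅g, b⁆⁻¹⁻¹ := ⟨_, rfl⟩
  have ha₂ : a₂ ∈ A := by
    rw [ha₂def]
    exact (Subgroup.mem_normalizer_iff.1 (Subgroup.inv_mem _ hnN) a₁).1 ha₁
  have hk : a₁ * a₂⁻¹ ∈ A ⊓ Ab A b := by
    apply h.AB_le_Z (A.mul_mem ha₁ (A.inv_mem ha₂))
    have e : a₁ * a₂⁻¹ = (a₁ * ⁅g, b⁆⁻¹ * a₁⁻¹) * ⁅g, b⁆ := by
      rw [ha₂def]; group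
    rw [e]
    exact B.mul_mem (h.conj_B a₁ (B.inv_mem hnB)) hnB
  refine ⟨(g * z * g⁻¹) * (a₁ * a₂⁻¹), Subgroup.mul_mem _ hz' hk, a₂, ha₂, ?_⟩
  rw [ha₂def, ha₁def]
  simp only [x, commutatorElement_def]
  group

theorem N_lt [Finite S] (hbA : b ∉ Subgroup.normalizer (A : Set S)) :
    Subgroup.normalizer (A : Set S) < Subgroup.normalizer ((h.T : Subgroup S) : Set S) := by
  refine lt_of_le_of_ne h.N_le_NT ?_
  intro e
  apply hbA
  rw [e]
  exact h.b_norm_T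

theorem T_inf_A [Finite S] : h.T ⊓ A = A ⊓ Ab A b := by
  apply le_antisymm
  · intro y hy
    rw [Subgroup.mem_inf] at hy
    obtain ⟨⟨z, hz, a, ha, rfl⟩, hyA⟩ := hy
    have hzA : z ∈ A := (Subgroup.mem_inf.1 hz).1
    have hxA : x b a ∈ A := by
      have : x b a = z⁻¹ * (z * x b a) := by rw [inv_mul_cancel_left]
      rw [this]
      exact A.mul_mem (A.inv_mem hzA) hyA
    have hcA : c b a ∈ A := by
      have : c b a = a⁻¹ * x b a := by rw [x_eq, inv_mul_cancel_left]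
      rw [this]
      exact A.mul_mem (A.inv_mem ha) hxA
    have hcZ : c b a ∈ A ⊓ Ab A b := Subgroup.mem_inf.2 ⟨hcA, c_mem ha⟩
    have haZ : a ∈ A ⊓ Ab A b := by
      have h1 := h.Z_conj_b' hcZ
      have e : b * c b a * b⁻¹ = a⁻¹ := by simp only [c]; group
      rw [e] at h1
      have := Subgroup.inv_mem _ h1
      rwa [inv_inv] at this
    rw [x_eq]
    exact Subgroup.mul_mem _ hz (Subgroup.mul_mem _ haZ hcZ)
  · exact le_inf h.Z_le_T inf_le_left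

theorem T_sup_A : h.T ⊔ A = Ab A b ⊔ A := by
  apply le_antisymm
  · refine sup_le ?_ le_sup_right
    rintro _ ⟨z, hz, a, ha, rfl⟩
    rw [x_eq]
    exact Subgroup.mul_mem _ (Subgroup.mem_sup_right (Subgroup.mem_inf.1 hz).1)
      (Subgroup.mul_mem _ (Subgroup.mem_sup_right ha) (Subgroup.mem_sup_left (c_mem ha)))
  · refine sup_le ?_ le_sup_right
    intro y hy
    have hy' := hy
    rw [mem_Ab] at hy'
    have ha : (b * y * b⁻¹)⁻¹ ∈ A := A.inv_mem hy'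
    have e : y = ((b * y * b⁻¹)⁻¹)⁻¹ * x b (b * y * b⁻¹)⁻¹ := by
      simp only [x]; group
    rw [e]
    exact Subgroup.mul_mem _ (Subgroup.mem_sup_right (A.inv_mem ha))
      (Subgroup.mem_sup_left (h.x_mem_T ha))

theorem card_T [Finite S] : Nat.card h.T = Nat.card A := by
  have F1 := card_sup_mul_card_inf (Ab A b) A (fun y hy => h.Ab_le_N hy)
  have F2 := card_sup_mul_card_inf h.T A h.T_le_N
  rw [h.T_sup_A, h.T_inf_A, inf_comm A] at F2
  rw [F1] at F2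
  have h1 : Nat.card (Ab A b) = Nat.card A :=
    Subgroup.card_map_of_injective (MulAut.conj b⁻¹).injective
  rw [h1] at F2
  exact (Nat.eq_of_mul_eq_mul_right Nat.card_pos F2).symm


/-- The generators commute (this is where `p` odd or `B` abelian is used). -/
theorem x_comm [Finite S] {p : ℕ} [Fact p.Prime] (hS : IsPGroup p S)
    (hB2 : p = 2 → IsMulCommutative B) {a a' : S} (ha : a ∈ A) (ha' : a' ∈ A) :
    Commute (x b a) (x b a') := by
  have hp : p.Prime := Fact.out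
  by_cases hp2 : p = 2
  · have hB := hB2 hp2
    exact congrArg Subtype.val (hB.is_comm.comm ⟨x b a, h.x_mem_B⟩ ⟨x b a', h.x_mem_B⟩)
  · haveI := h.Bnorm
    have hAB : A ≤ Subgroup.normalizer (B : Set S) := by
      rw [Subgroup.normalizer_eq_top]
      exact le_top
    have hc : ⁅⁅B, B⁆, A⁆ = ⊥ := by
      rw [eq_bot_iff, Subgroup.commutator_le]
      intro y hy a₀ ha₀
      rw [Subgroup.mem_bot, commutatorElement_eq_one_iff_mul_comm]
      exact h.comm y (h.hBA hy) a₀ ha₀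
    have hAcomm : IsMulCommutative A :=
      ⟨⟨fun y z => Subtype.ext (h.comm y y.2 z z.2)⟩⟩
    obtain ⟨X', hX'⟩ : ∃ X', X' = Subgroup.closure {g : S | ∃ a ∈ A, g = b⁻¹ * a * b * a⁻¹} :=
      ⟨_, rfl⟩
    have hX'T : X' ≤ h.T := by
      rw [hX', Subgroup.closure_le]
      rintro g ⟨a₀, ha₀, rfl⟩
      have e : b⁻¹ * a₀ * b * a₀⁻¹ = (x b a₀)⁻¹ := by simp only [x]; group
      rw [e]
      exact Subgroup.inv_mem _ (h.x_mem_T ha₀)
    have hX'A : ⁅X', A⁆ ≤ A := by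
      rw [Subgroup.commutator_le]
      intro y hy a₀ ha₀
      have hyN := h.T_le_N (hX'T hy)
      have e : ⁅y, a₀⁆ = (y * a₀ * y⁻¹) * a₀⁻¹ := by simp only [commutatorElement_def]
      rw [e]
      exact A.mul_mem ((Subgroup.mem_normalizer_iff.1 hyN a₀).1 ha₀) (A.inv_mem ha₀)
    have hX2 : ⁅⁅X', A⁆, A⁆ = ⊥ := by
      rw [eq_bot_iff, Subgroup.commutator_le]
      intro y hy a₀ ha₀
      rw [Subgroup.mem_bot, commutatorElement_eq_one_iff_mul_comm]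
      exact h.comm y (hX'A hy) a₀ ha₀
    have hxX' : ∀ a₀ ∈ A, x b a₀ ∈ X' := by
      intro a₀ ha₀
      have e : x b a₀ = (b⁻¹ * a₀ * b * a₀⁻¹)⁻¹ := by simp only [x]; group
      rw [e, hX']
      exact Subgroup.inv_mem _ (Subgroup.subset_closure ⟨a₀, ha₀, rfl⟩)
    have hsq := (Cfsg.Agent.S0648.result A B hAB hc).2 hAcomm b h.hb
    rw [← hX'] at hsq
    have hw2 := hsq hX2 ⁅x b a, x b a'⁆
      (Subgroup.commutator_mem_commutator (hxX' a ha) (hxX' a' ha'))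
    obtain ⟨k, hk⟩ := hS ⁅x b a, x b a'⁆
    have h1 : orderOf ⁅x b a, x b a'⁆ ∣ 2 := orderOf_dvd_of_pow_eq_one hw2
    have h2 : orderOf ⁅x b a, x b a'⁆ ∣ p ^ k := orderOf_dvd_of_pow_eq_one hk
    have hcop : Nat.Coprime 2 (p ^ k) :=
      Nat.Coprime.pow_right k ((Nat.coprime_primes Nat.prime_two hp).2 (Ne.symm hp2))
    have h3 : orderOf ⁅x b a, x b a'⁆ ∣ 1 := by
      rw [← hcop.gcd_eq_one]
      exact Nat.dvd_gcd h1 h2
    have h4 : ⁅x b a, x b a'⁆ = 1 := orderOf_eq_one_iff.1 (Nat.dvd_one.1 h3)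
    exact commutatorElement_eq_one_iff_commute.1 h4

theorem T_comm [Finite S] {p : ℕ} [Fact p.Prime] (hS : IsPGroup p S)
    (hB2 : p = 2 → IsMulCommutative B) : IsMulCommutative h.T := by
  refine ⟨⟨fun y y' => Subtype.ext ?_⟩⟩
  obtain ⟨z, hz, a, ha, hy⟩ := y.2
  obtain ⟨z', hz', a', ha', hy'⟩ := y'.2
  change (y : S) * (y' : S) = (y' : S) * (y : S)
  rw [hy, hy']
  have h1 : Commute z z' := h.Z_comm_A hz (Subgroup.mem_inf.1 hz').1
  have h2 : Commute z (x b a') := h.Z_comm_x hz ha'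
  have h3 : Commute (x b a) z' := (h.Z_comm_x hz' ha).symm
  have h4 : Commute (x b a) (x b a') := h.x_comm hS hB2 ha ha'
  exact ((h1.mul_right h2).mul_left (h3.mul_right h4)).eq

theorem T_exponent [Finite S] {p : ℕ} [Fact p.Prime] (hS : IsPGroup p S) (hp2 : p ≠ 2) :
    Monoid.exponent h.T ∣ Monoid.exponent A := by
  have hp : p.Prime := Fact.out
  obtain ⟨e, he⟩ : ∃ e, e = Monoid.exponent A := ⟨_, rfl⟩
  rw [← he]
  have hA1 : ∀ y ∈ A, y ^ e = 1 := by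
    intro y hy
    have := Monoid.pow_exponent_eq_one (⟨y, hy⟩ : A)
    rw [← he] at this
    exact congrArg Subtype.val this
  have hodd : Odd e := by
    have h1 : e ∣ Nat.card A := he ▸ Group.exponent_dvd_nat_card
    obtain ⟨k, hk⟩ := (hS.to_subgroup A).exists_card_eq
    rw [hk] at h1
    obtain ⟨j, _, hj⟩ := (Nat.dvd_prime_pow hp).1 h1
    rw [hj]
    exact Odd.pow (hp.odd_of_ne_two hp2)
  have hchoose : e ∣ e.choose 2 := by
    obtain ⟨m, hm⟩ := hodd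
    rw [Nat.choose_two_right, hm]
    have : (2 * m + 1) * (2 * m + 1 - 1) / 2 = (2 * m + 1) * m := by
      have : 2 * m + 1 - 1 = 2 * m := by omega
      rw [this]
      have : (2 * m + 1) * (2 * m) = 2 * ((2 * m + 1) * m) := by ring
      rw [this, Nat.mul_div_cancel_left _ (by norm_num : 0 < 2)]
    rw [this]
    exact dvd_mul_right _ _
  apply Monoid.exponent_dvd_of_forall_pow_eq_one
  intro y
  apply Subtype.ext
  obtain ⟨z, hz, a, ha, hy⟩ := y.2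
  change (y : S) ^ e = 1
  rw [hy, (h.Z_comm_x hz ha).mul_pow, hA1 z (Subgroup.mem_inf.1 hz).1, one_mul, x_eq]
  have hw : ⁅c b a, a⁆ ∈ A ⊓ Ab A b := h.comm_mem_Z' ha (c_mem ha)
  have hrel : c b a * a = ⁅c b a, a⁆ * a * c b a := by
    simp only [commutatorElement_def]; group
  rw [mul_pow_class_two hrel (h.Z_comm_A hw ha) (h.Z_comm_Ab hw (c_mem ha)) e, hA1 a ha, one_mul]
  have hc1 : (c b a) ^ e = 1 := by
    have : c b a = b⁻¹ * a⁻¹ * b⁻¹⁻¹ := by simp only [c]; group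
    rw [this, conj_pow, hA1 _ (A.inv_mem ha)]
    group
  obtain ⟨m, hm⟩ := hchoose
  rw [hc1, one_mul, hm, pow_mul, hA1 _ (Subgroup.mem_inf.1 hw).1, one_pow]

end Rep
end rep


theorem result {S : Type*} [Group S] [Finite S] {p : ℕ} [Fact p.Prime] (hS : IsPGroup p S) (B : Subgroup S) [B.Normal] (hB2 : p = 2 → IsMulCommutative B) (A : Subgroup S) (hA : IsMulCommutative A) (hBA : ⁅B, B⁆ ≤ A) (hnot : ¬ B ≤ Subgroup.normalizer (A : Set S)) (b : S) (hb : b ∈ B) (hbN : b ∈ Subgroup.normalizer ((Subgroup.normalizer (A : Set S)) : Set S)) (hbA : b ∉ Subgroup.normalizer (A : Set S)) : Nat.card ↥((A ⊓ A.map (MulAut.conj (b⁻¹)).toMonoidHom) ⊔ Subgroup.closure {g : S | ∃ a ∈ A, g = a * b⁻¹ * a⁻¹ * b}) = Nat.card A ∧ IsMulCommutative ↥((A ⊓ A.map (MulAut.conj (b⁻¹)).toMonoidHom) ⊔ Subgroup.closure {g : S | ∃ a ∈ A, g = a * b⁻¹ * a⁻¹ * b}) ∧ ⁅B, B⁆ ≤ ((A ⊓ A.map (MulAut.conj (b⁻¹)).toMonoidHom) ⊔ Subgroup.closure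 {g : S | ∃ a ∈ A, g = a * b⁻¹ * a⁻¹ * b}) ∧ A ⊓ B < ((A ⊓ A.map (MulAut.conj (b⁻¹)).toMonoidHom) ⊔ Subgroup.closure {g : S | ∃ a ∈ A, g = a * b⁻¹ * a⁻¹ * b}) ⊓ B ∧ ((A ⊓ A.map (MulAut.conj (b⁻¹)).toMonoidHom) ⊔ Subgroup.closure {g : S | ∃ a ∈ A, g = a * b⁻¹ * a⁻¹ * b}) ⊓ B < B ∧ A ≤ Subgroup.normalizer (((A ⊓ A.map (MulAut.conj (b⁻¹)).toMonoidHom) ⊔ Subgroup.closure {g : S | ∃ a ∈ A, g = a * b⁻¹ * a⁻¹ * b} : Subgroup S) : Set S) ∧ ((A ⊓ A.map (MulAut.conj (b⁻¹)).toMonoidHom) ⊔ Subgroup.closure {g : S | ∃ a ∈ A, g = a * b⁻¹ * a⁻¹ * b}) ≤ Subgroup.normalizer (A : Set S) ∧ b ∈ Subgroup.normalizer (((A ⊓ A.map (MulAut.conj (b⁻¹)).toMonoidHom) ⊔ Subgroup.closure {g : S | ∃ a ∈ A, g = a * b⁻¹ * a⁻¹ * b} : Subgroup S) : Set S) ∧ Subgroup.normalizer (A : Set S) < Subgroup.normalizer (((A ⊓ A.map (MulAut.conj (b⁻¹)).toMonoidHom) ⊔ Subgroup.closure {g : S | ∃ a ∈ A, g = a * b⁻¹ * a⁻¹ * b} : Subgroup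 S) : Set S) ∧ (p ≠ 2 → Monoid.exponent ↥((A ⊓ A.map (MulAut.conj (b⁻¹)).toMonoidHom) ⊔ Subgroup.closure {g : S | ∃ a ∈ A, g = a * b⁻¹ * a⁻¹ * b}) ∣ Monoid.exponent A) := by
  have h : Rep A B b :=
    { Bnorm := inferInstance
      comm := fun x hx y hy => congrArg Subtype.val (hA.is_comm.comm ⟨x, hx⟩ ⟨y, hy⟩)
      hBA := hBA
      hb := hb
      hbN := hbN }
  have hT := h.Astar_eq_T
  change (A ⊓ A.map (MulAut.conj (b⁻¹)).toMonoidHom) ⊔
    Subgroup.closure {g : S | ∃ a ∈ A, g = a * b⁻¹ * a⁻¹ * b} = h.T at hT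
  rw [hT]
  exact ⟨h.card_T, h.T_comm hS hB2, h.B'_le_T, h.lt1 hbA, h.lt2 hbA, h.A_norm_T, h.T_le_N,
    h.b_norm_T, h.N_lt hbA, h.T_exponent hS⟩

end Cfsg.Agent.S0650
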