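import Cfsg.Statements.S0651
import Cfsg.Agent.S0649
import Cfsg.Agent.S0650

set_option autoImplicit false
open Cfsg

namespace Cfsg.Agent.S0651

section
variable {S : Type*} [Group S]

theorem card_lt_of_lt [Finite S] {H K : Subgroup S} (h : H < K) : Nat.card H < Nat.card K := by
  have h1 : (H : Set S) ⊂ (K : Set S) := SetLike.coe_ssubset_coe.2 h
  have := Set.ncard_lt_ncard h1 (Set.toFinite _)
  rwa [← Nat.card_coe_set_eq, ← Nat.card_coe_set_eq] at this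

/-- The replacement subgroup stays inside a normal subgroup containing `A`. -/
theorem astar_le (D : Subgroup S) [D.Normal] {A : Subgroup S} (hAD : A ≤ D) (b : S) :
    (A ⊓ A.map (MulAut.conj (b⁻¹)).toMonoidHom) ⊔
      Subgroup.closure {g : S | ∃ a ∈ A, g = a * b⁻¹ * a⁻¹ * b} ≤ D := by
  refine sup_le (inf_le_left.trans hAD) ?_
  rw [Subgroup.closure_le]
  rintro g ⟨a, ha, rfl⟩
  have e : a * b⁻¹ * a⁻¹ * b = a * (b⁻¹ * a⁻¹ * b⁻¹⁻¹) := by group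
  rw [e]
  exact D.mul_mem (hAD ha) (Subgroup.Normal.conj_mem inferInstance _ (D.inv_mem (hAD ha)) _)

theorem map_subgroupOf_eq {D T : Subgroup S} (h : T ≤ D) : (T.subgroupOf D).map D.subtype = T :=
  Subgroup.map_subgroupOf_eq_of_le h

theorem comm_subgroupOf {D T : Subgroup S} (hT : IsMulCommutative T) :
    IsMulCommutative (T.subgroupOf D) := by
  refine ⟨⟨fun x y => ?_⟩⟩
  apply Subtype.ext
  apply Subtype.ext
  have := hT.is_comm.comm ⟨((x : D) : S), x.2⟩ ⟨((y : D) : S), y.2⟩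
  have h2 : ((x : D) : S) * ((y : D) : S) = ((y : D) : S) * ((x : D) : S) :=
    congrArg Subtype.val this
  exact h2

theorem comm_map {D : Subgroup S} {A₀ : Subgroup D} (h : IsMulCommutative A₀) :
    IsMulCommutative (A₀.map D.subtype) := by
  refine ⟨⟨fun x y => ?_⟩⟩
  apply Subtype.ext
  obtain ⟨x₀, hx₀, hx⟩ := x.2
  obtain ⟨y₀, hy₀, hy⟩ := y.2
  change (x : S) * (y : S) = (y : S) * (x : S)
  rw [← hx, ← hy]
  have := h.is_comm.comm ⟨x₀, hx₀⟩ ⟨y₀, hy₀⟩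
  have h2 := congrArg Subtype.val this
  exact congrArg Subtype.val h2

end

theorem result {S : Type*} [Group S] [Finite S] {p : ℕ} [Fact p.Prime] (hS : IsPGroup p S) (hp : p ≠ 2) (D : Subgroup S) [D.Normal] : ∀ (B : Subgroup S) [B.Normal], ⁅⁅B, B⁆, B⁆ = ⊥ → (∃ U ∈ (Set.image (fun A : Subgroup ↥D => A.map D.subtype) (Cfsg.maxAbelianSubgroups ↥D)), ⁅B, B⁆ ≤ U ∧ ¬ B ≤ U) → ∃ A ∈ (Set.image (fun A : Subgroup ↥D => A.map D.subtype) (Cfsg.maxAbelianSubgroups ↥D)), ⁅B, B⁆ ≤ A ∧ ¬ B ≤ A ∧ B ≤ Subgroup.normalizer (A : Set S) := by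
  intro B _ _ hex
  let 𝒰 : Set (Subgroup S) := {A | A ∈ (Set.image (fun A : Subgroup ↥D => A.map D.subtype)
    (Cfsg.maxAbelianSubgroups ↥D)) ∧ ⁅B, B⁆ ≤ A ∧ ¬ B ≤ A}
  have hne : 𝒰.Nonempty := by
    obtain ⟨U, hU, h1, h2⟩ := hex
    exact ⟨U, hU, h1, h2⟩
  obtain ⟨A, hA𝒰, hmax⟩ := Set.exists_max_image 𝒰 (fun A => Nat.card (A ⊓ B : Subgroup S))
    (Set.toFinite 𝒰) hne
  obtain ⟨hAimg, hBA, hBnA⟩ := hA𝒰
  refine ⟨A, hAimg, hBA, hBnA, ?_⟩
  by_contra hnot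
  obtain ⟨A₀, hA₀, hA₀A⟩ := hAimg
  change A₀.map D.subtype = A at hA₀A
  obtain ⟨hA₀comm, hA₀max⟩ := hA₀
  have hAcomm : IsMulCommutative A := hA₀A ▸ comm_map hA₀comm
  have hAD : A ≤ D := by
    rw [← hA₀A]
    exact Subgroup.map_subtype_le _
  have hcardA : Nat.card A = Nat.card A₀ := by
    rw [← hA₀A]
    exact Subgroup.card_map_of_injective D.subtype_injective
  have hB2 : p = 2 → IsMulCommutative B := fun h => absurd h hp
  obtain ⟨b, hb, hbN, hbA⟩ := Cfsg.Agent.S0649.result hS B hB2 A hAcomm hBA hnot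
  obtain ⟨h1, h2, h3, h4, h5, -⟩ :=
    Cfsg.Agent.S0650.result hS B hB2 A hAcomm hBA hnot b hb hbN hbA
  obtain ⟨T, hT⟩ : ∃ T, T = (A ⊓ A.map (MulAut.conj (b⁻¹)).toMonoidHom) ⊔
      Subgroup.closure {g : S | ∃ a ∈ A, g = a * b⁻¹ * a⁻¹ * b} := ⟨_, rfl⟩
  rw [← hT] at h1 h2 h3 h4 h5
  have hTD : T ≤ D := hT ▸ astar_le D hAD b
  have hT𝒰 : T ∈ 𝒰 := by
    refine ⟨⟨T.subgroupOf D, ⟨comm_subgroupOf h2, ?_⟩, map_subgroupOf_eq hTD⟩, h3, ?_⟩
    · intro B' hB'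
      have e : Nat.card (T.subgroupOf D) = Nat.card T :=
        Nat.card_congr (Subgroup.subgroupOfEquivOfLe hTD).toEquiv
      rw [e, h1, hcardA]
      exact hA₀max B' hB'
    · intro hBT
      have : T ⊓ B = B := inf_eq_right.2 hBT
      rw [this] at h5
      exact lt_irrefl _ h5
  have := hmax T hT𝒰
  have h6 := card_lt_of_lt h4
  exact absurd this (not_le.2 h6)

end Cfsg.Agent.S0651
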