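import Mathlib
import Cfsg.Statements.S1474
import Cfsg.Agent.Lib.H8.CNFrob
import Cfsg.Agent.Lib.H20.Frobenius

set_option autoImplicit false
open Cfsg
open Cfsg.Agent.Lib.H8

namespace Cfsg.Agent.S1474

theorem main {G : Type*} [Group G] [Finite G] (hCN : Cfsg.IsCNGroup G) (hnn : ¬ Group.IsNilpotent G) (p : ℕ) [Fact p.Prime] (P : Sylow p G)
    (hP1 : (P : Subgroup G) ≠ ⊥) (hPn : (P : Subgroup G).Normal) (H : Subgroup G) [hHn : H.Normal]
    (hHdef : H = Cfsg.fittingHall G) :
    H ≠ ⊥ ∧ H ≠ ⊤ ∧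
      (∃ E : Subgroup G, Subgroup.IsComplement' H E ∧ Cfsg.IsFrobeniusComplement E ∧
        ∀ e ∈ E, e ≠ 1 → H ⊓ Subgroup.centralizer ({e} : Set G) = ⊥) ∧
      Group.IsNilpotent (G ⧸ H) := by
  have hHcop : (Nat.card H).Coprime H.index := by
    rw [hHdef]; exact Cfsg.Agent.Lib.H7.fittingHall_coprime
  haveI hHnil : Group.IsNilpotent H := by rw [hHdef]; exact fittingHall_isNilpotent
  -- P ≤ H
  have hPH : (P : Subgroup G) ≤ H := by
    rw [hHdef]
    exact le_fittingHall hPn P.isPGroup'.isNilpotent P.card_coprime_index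
  have hH1 : H ≠ ⊥ := fun h => hP1 (le_bot_iff.mp (h ▸ hPH))
  have hH2 : H ≠ ⊤ := by
    intro h
    apply hnn
    rw [h] at hHnil
    exact Group.nilpotent_of_mulEquiv Subgroup.topEquiv
  -- complement
  obtain ⟨E, hHE⟩ := Subgroup.exists_right_complement'_of_coprime hHcop
  have hsup : H ⊔ E = ⊤ := hHE.sup_eq_top
  have hinf : H ⊓ E = ⊥ := hHE.disjoint.eq_bot
  have hEcard : Nat.card E = H.index := hHE.symm.index_eq_card.symm
  -- V = Z(H)
  obtain ⟨V, hVdef⟩ : ∃ V : Subgroup G, V = (Subgroup.center H).map H.subtype := ⟨_, rfl⟩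
  have hVH : V ≤ H := by rw [hVdef]; exact Subgroup.map_subtype_le _
  haveI hVn : V.Normal := by rw [hVdef]; infer_instance
  haveI hVc : IsMulCommutative V := by rw [hVdef]; infer_instance
  have hV1 : V ≠ ⊥ := by
    rw [hVdef]
    intro h
    rw [Subgroup.map_eq_bot_iff_of_injective _ H.subtype_injective] at h
    have hHne : (⊤ : Subgroup H) ≠ ⊥ := by
      intro h'
      apply hH1
      rw [Subgroup.eq_bot_iff_forall]
      intro x hx
      have : (⟨x, hx⟩ : H) ∈ (⊤ : Subgroup H) := Subgroup.mem_top _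
      rw [h', Subgroup.mem_bot] at this
      exact congrArg Subtype.val this
    have := Cfsg.Agent.Lib.H1.normal_inf_center_ne_bot (⊤ : Subgroup H) hHne
    rw [top_inf_eq] at this
    exact this h
  have hHV : ∀ h ∈ H, ∀ v ∈ V, h * v = v * h := by
    intro h hh v hv
    rw [hVdef] at hv
    obtain ⟨z, hz, rfl⟩ := hv
    have := Subgroup.mem_center_iff.mp hz ⟨h, hh⟩
    exact congrArg Subtype.val this
  have hCH : Subgroup.centralizer (V : Set G) ≤ H := by
    rw [hHdef]
    exact centralizer_le_fittingHall hCN V hV1 (hHdef ▸ hVH)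
  -- fixed-point-freeness
  have hfpfH : ∀ e ∈ E, e ≠ 1 → H ⊓ Subgroup.centralizer ({e} : Set G) = ⊥ := by
    intro e he he1
    rw [Subgroup.eq_bot_iff_forall]
    rintro h ⟨hhH, hhC⟩
    by_contra hh1
    have hnil := hCN h hh1
    have heC : e ∈ Subgroup.centralizer ({h} : Set G) := by
      rw [mem_centralizer_singleton']
      exact (mem_centralizer_singleton'.mp hhC).symm
    have heV : e ∈ Subgroup.centralizer (V : Set G) := by
      rw [Subgroup.mem_centralizer_iff]
      intro v hv
      have hvC : v ∈ Subgroup.centralizer ({h} : Set G) := by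
        rw [mem_centralizer_singleton']
        exact hHV h hhH v hv
      have hcop : (orderOf v).Coprime (orderOf e) := by
        have h1 : orderOf v ∣ Nat.card H := by
          have := orderOf_dvd_natCard (⟨v, hVH hv⟩ : H)
          rwa [Subgroup.orderOf_mk] at this
        have h2 : orderOf e ∣ H.index := by
          rw [← hEcard]
          have := orderOf_dvd_natCard (⟨e, he⟩ : E)
          rwa [Subgroup.orderOf_mk] at this
        exact Nat.Coprime.coprime_dvd_left h1 (Nat.Coprime.coprime_dvd_right h2 hHcop)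
      exact mul_comm_of_coprime_of_mem_nilpotent _ hnil hvC heC hcop
    have heH : e ∈ H ⊓ E := ⟨hCH heV, he⟩
    rw [hinf, Subgroup.mem_bot] at heH
    exact he1 heH
  have hE1 : E ≠ ⊥ := by
    intro h
    rw [h, sup_bot_eq] at hsup
    exact hH2 hsup
  have hE2 : E ≠ ⊤ := by
    intro h
    rw [h, inf_top_eq] at hinf
    exact hH1 hinf
  -- Frobenius complement
  have hfrob := (Cfsg.Agent.Lib.H20.frobenius_of_fpf H E hsup hinf hH1 hE1 (by
    intro e he he1 n hn hne
    have : n ∈ H ⊓ Subgroup.centralizer ({e} : Set G) :=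
      ⟨hn, mem_centralizer_singleton'.mpr hne.symm⟩
    rw [hfpfH e he he1, Subgroup.mem_bot] at this
    exact this)).1
  -- E is nilpotent
  have hEnil : Group.IsNilpotent E := by
    apply nilpotent_of_fpf_cn hCN V E hV1
    · rw [Subgroup.normalizer_eq_top_iff.mpr hVn]; exact le_top
    · intro e he he1
      rw [eq_bot_iff, ← hfpfH e he he1]
      exact inf_le_inf_right _ hVH
  refine ⟨hH1, hH2, ⟨E, hHE, hfrob, hfpfH⟩, ?_⟩
  -- G/H nilpotent
  haveI := hEnil
  apply Group.nilpotent_of_surjective ((QuotientGroup.mk' H).comp E.subtype)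
  intro x
  obtain ⟨g, rfl⟩ := QuotientGroup.mk'_surjective H x
  have hg : g ∈ H ⊔ E := by rw [hsup]; exact Subgroup.mem_top g
  obtain ⟨h, hh, e, he, rfl⟩ := Subgroup.mem_sup_of_normal_left.mp hg
  refine ⟨⟨e, he⟩, ?_⟩
  rw [MonoidHom.comp_apply, Subgroup.subtype_apply]
  apply (QuotientGroup.eq).mpr
  have : e⁻¹ * (h * e) = e⁻¹ * h * e := by group
  rw [this]
  have := hHn.conj_mem h hh e⁻¹
  rwa [inv_inv] at this

/-- Let G be a finite group in which every non-identity element has nilpotent centralizer, not itself nilpotent, and having a nontrivial normal Sylow p-subgroup for some prime p. Let H be the largest normal nilpotent Hall subgroup of G. Then H is a nontrivial proper normal subgroup with a complement E that is a Frobenius complement in G (no non-identity element of E centralizes a non-identity element of H), and G/H is nilpotent. -/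
theorem result {G : Type*} [Group G] [Finite G] (hCN : Cfsg.IsCNGroup G) (hnn : ¬ Group.IsNilpotent G) (p : ℕ) [Fact p.Prime] (P : Sylow p G)
    (hP1 : (P : Subgroup G) ≠ ⊥) (hPn : (P : Subgroup G).Normal) :
    Cfsg.fittingHall G ≠ ⊥ ∧ Cfsg.fittingHall G ≠ ⊤ ∧
      (∃ E : Subgroup G, Subgroup.IsComplement' (Cfsg.fittingHall G) E ∧ Cfsg.IsFrobeniusComplement E ∧
        ∀ e ∈ E, e ≠ 1 → Cfsg.fittingHall G ⊓ Subgroup.centralizer ({e} : Set G) = ⊥) ∧
      Group.IsNilpotent (G ⧸ Cfsg.fittingHall G) :=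
  main hCN hnn p P hP1 hPn (Cfsg.fittingHall G) rfl

end Cfsg.Agent.S1474
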