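import Cfsg.Statements.S1425
import Mathlib
import Cfsg.Agent.Lib.H20.BGT6
import Cfsg.Agent.Lib.H7.BG124
import Cfsg.Agent.S1417

set_option autoImplicit false
open Cfsg

namespace Cfsg.Agent.S1425

/-- Let G be a minimal simple group of odd order, M a maximal subgroup and Y a nontrivial subgroup of G all of whose prime divisors lie in σ(M). Then gYg⁻¹ ≤ M_σ for some g ∈ G. -/
theorem result {G : Type*} [Group G] [Finite G] (hG : Cfsg.IsMinSimpleOddOrder G)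
    (M : Subgroup G) (hM : IsCoatom M) (Y : Subgroup G) (hY1 : Y ≠ ⊥) (hY : ∀ p : ℕ, p.Prime → p ∣ Nat.card Y → p ∈ Cfsg.sigma M) :
    ∃ g : G, Y.map (MulAut.conj g).toMonoidHom ≤ Cfsg.sigmaCore M := by
  classical
  have h17' : Cfsg.Agent.Lib.H8.BG12.Hyp1417 G := fun M'' hM'' p'' _ hp'' A'' hA'' =>
    Cfsg.Agent.S1417.result hG M'' hM'' p'' hp'' A'' hA''
  have h16 : Cfsg.Agent.Lib.H20.BGT.H1416a G := fun M' hM' p _ A hAM hAe hAc =>
    (Cfsg.Agent.Lib.H7.BG124.thm_12_4 hG h17' M' hM' p A ⟨hAM, hAe, hAc⟩).1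
  have h17 : Cfsg.Agent.Lib.H20.BGT.H1417 G := fun M' hM' p _ hp A hA =>
    Cfsg.Agent.S1417.result hG M' hM' p hp A hA
  exact Cfsg.Agent.Lib.H20.BGT.sigma_conj hG h16 h17 hM hY1 hY

end Cfsg.Agent.S1425
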