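import Cfsg.Statements.S1365
-- import your own Cfsg.Agent.* helpers here
import Mathlib
import Cfsg.Agent.Lib.H16.BGSect
import Cfsg.Agent.Lib.H16.BGw
import Cfsg.Agent.Lib.H7.BG14u
import Cfsg.Agent.Lib.H7.BG14t
import Cfsg.Agent.Lib.H20.BGZ1
import Cfsg.Agent.S1426

set_option autoImplicit false
open Cfsg

namespace Cfsg.Agent.S1365

/-- Let G be a minimal simple group of odd order and M a maximal subgroup with standard factorisation M = K U M_σ and K ≠ 1. Then the derived subgroup of M is generated by U and M_σ, and M_σ ∩ C_G(K) is contained in the second derived subgroup of M. -/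
theorem result {G : Type*} [Group G] [Finite G] (hG : Cfsg.IsMinSimpleOddOrder G)
    (M : Subgroup G) (hM : IsCoatom M) (K U : Subgroup G) (hKU : Cfsg.IsSigmaDecomposition M K U) (hK1 : K ≠ ⊥) :
    ⁅M, M⁆ = U ⊔ Cfsg.sigmaCore M ∧ (Cfsg.sigmaCore M ⊓ Subgroup.centralizer (K : Set G)) ≤ ⁅⁅M, M⁆, ⁅M, M⁆⁆ := by
  classical
  have hU3 := Cfsg.Agent.Lib.H20.BGT.uniq3 hG
  have hκ : Cfsg.kappa M ⊆ Cfsg.tau1 M :=
    Cfsg.Agent.Lib.H7.BG13t.kappa_subset_tau1 hG hM hKU.cyclic hKU.hall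
  obtain ⟨N, hN, hcN, hnorm⟩ := Cfsg.Agent.Lib.H20.BGY.exists_normal_hall_kappa_compl hG hM hκ
  have hsup : U ⊔ Cfsg.sigmaCore M = N :=
    Cfsg.Agent.Lib.H20.BGY.sup_sigmaCore_eq hG hM hKU hN hcN hnorm
  have hσc : Cfsg.sigmaCore M ≤ ⁅M, M⁆ := Cfsg.Agent.Lib.H7.BG10.sigmaCore_le_commutator hG hU3 hM
  have hKM : K ≤ M := hKU.hall.1
  have hUM : U ≤ M := hKU.compl.1
  have hσM : Cfsg.sigmaCore M ≤ M := Cfsg.Agent.Lib.H20.BGS.sigmaCore_le M
  have hMσ : M ≤ Subgroup.normalizer ((Cfsg.sigmaCore M : Subgroup G) : Set G) :=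
    Cfsg.Agent.Lib.H20.BGS.le_normalizer_sigmaCore M
  obtain ⟨k, hk1⟩ := (Subgroup.ne_bot_iff_exists_ne_one.1 hK1)
  -- `U = [U, K]`
  have hCU : U ⊓ Subgroup.centralizer (K : Set G) = ⊥ := by
    rw [eq_bot_iff]
    have h1 := Cfsg.Agent.Lib.H7.BG14u.inf_centralizer_singleton_eq_bot hG hM hKU k.2
      (fun h => hk1 (Subtype.ext h))
    rw [← h1]
    exact inf_le_inf_left _ (Subgroup.centralizer_le (Set.singleton_subset_iff.2 k.2))
  have hcopKU : (Nat.card ↥K).Coprime (Nat.card ↥U) :=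
    Cfsg.Agent.Lib.H19.coprime_of_isPiCard hKU.hall.2.1
      (Cfsg.Agent.Lib.H20.BGZ.isPiHallOf_U hG hM hKU).2.1
  haveI : Group.IsSolvable ↥M := Cfsg.Agent.Lib.H16.BG.solvable_of_coatom hG hM
  have hactKU : Cfsg.Agent.Lib.H1.CoprimeAction K U :=
    ⟨hKU.normal, hcopKU, Or.inl (Cfsg.Agent.Lib.H7.BG7.solvable_of_le_ne_top hG hM.1 hKM)⟩
  have hUcomm : ⁅U, K⁆ = U := Cfsg.Agent.Lib.H16.BG.commutator_eq_of_centralizer_eq_bot hactKU hCU
  have hUc : U ≤ ⁅M, M⁆ := by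
    rw [← hUcomm]
    exact Subgroup.commutator_mono hUM hKM
  have h1 : ⁅M, M⁆ = U ⊔ Cfsg.sigmaCore M :=
    le_antisymm (hsup ▸ hcN) (sup_le hUc hσc)
  refine ⟨h1, ?_⟩
  -- second part
  set S : Subgroup G := Cfsg.sigmaCore M with hS
  set D : Subgroup G := ⁅⁅M, M⁆, ⁅M, M⁆⁆ with hD
  have hE := Cfsg.Agent.Lib.H20.BGZ.isComplIn_sup hG hM hKU
  have hSE : ⁅S, K ⊔ U⁆ = S := (Cfsg.Agent.S1426.result hG M hM (K ⊔ U) hE).2.1
  have hMM' : M ≤ Subgroup.normalizer ((⁅M, M⁆ : Subgroup G) : Set G) :=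
    Cfsg.Agent.Lib.H16.BG.le_normalizer_commutator Subgroup.le_normalizer Subgroup.le_normalizer
  have hMD : M ≤ Subgroup.normalizer ((D : Subgroup G) : Set G) :=
    Cfsg.Agent.Lib.H16.BG.le_normalizer_commutator hMM' hMM'
  have hMN : M ≤ Subgroup.normalizer ((S ⊓ D : Subgroup G) : Set G) := by
    intro m hm
    rw [Subgroup.mem_normalizer_iff]
    intro g
    rw [Subgroup.mem_inf, Subgroup.mem_inf, ← Subgroup.mem_normalizer_iff.1 (hMσ hm) g,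
      ← Subgroup.mem_normalizer_iff.1 (hMD hm) g]
  have hcopKS : (Nat.card ↥K).Coprime (Nat.card ↥S) :=
    Nat.Coprime.coprime_dvd_left (Subgroup.card_dvd_of_le (le_sup_left : K ≤ K ⊔ U))
      (Cfsg.Agent.Lib.H7.BG14t.coprimeAction_compl hG hM hE).coprime
  have hSS : ⁅S, S⁆ ≤ S ⊓ D :=
    le_inf (Subgroup.commutator_le_self S) (Subgroup.commutator_mono hσc hσc)
  have hcomSK : ⁅S, K⁆ ≤ S :=
    (Subgroup.le_normalizer_iff_commutator_le_left).mp (hKM.trans hMσ)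
  have hgen : S ≤ ⁅S, K⁆ ⊔ (S ⊓ D) :=
    Cfsg.Agent.Lib.H16.BGSect.le_commutator_sup hSE hKU.normal (hUM.trans hMσ) (hKM.trans hMσ)
      hσc hUc
  have key := Cfsg.Agent.Lib.H16.BGSect.inf_centralizer_le_of_section (hKM.trans hMσ) hcopKS
    (hσM.trans hMN) (hKM.trans hMN) hSS hgen
  exact key.trans inf_le_right

end Cfsg.Agent.S1365
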