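import Mathlib
import Cfsg.Statements.S1485
import Cfsg.Agent.Lib.H8.ClassFun

set_option autoImplicit false
open Cfsg

namespace Cfsg.Agent.S1485

open Cfsg.Agent.Lib.H8

theorem theta_congr {G : Type*} [Group G] (H : Subgroup G) (θ : H → ℂ) {a b : G} (ha : a ∈ H)
    (hb : b ∈ H) (hab : a = b) : θ ⟨a, ha⟩ = θ ⟨b, hb⟩ := by
  subst hab; rfl

/-- Let H be a normal subgroup of the finite group G and θ an irreducible character of H. On H, the function induced from θ equals r times the sum of the distinct G-conjugates of θ, where r is the number of elements of G fixing θ under conjugation divided by the order of H (the index of H in the inertia group). -/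
theorem result {G : Type*} [Group G] [Fintype G] (H : Subgroup G) [hN : H.Normal] (θ : H → ℂ) (hθ : Cfsg.IsIrrCharacter H θ) : (fun h : H => Cfsg.indFun H θ h) = ((Nat.card {g : G // ∀ h : H, θ ⟨g * h * g⁻¹, hN.conj_mem h h.2 g⟩ = θ h} : ℂ) / (Nat.card H : ℂ)) • ∑ᶠ ψ ∈ {ψ : H → ℂ | ∃ g : G, ψ = fun h : H => θ ⟨g * h * g⁻¹, hN.conj_mem h h.2 g⟩}, ψ := by
  classical
  set cF : G → (H → ℂ) := fun g h => θ ⟨g * h * g⁻¹, hN.conj_mem h h.2 g⟩ with hcF
  have hset : {ψ : H → ℂ | ∃ g : G, ψ = fun h : H => θ ⟨g * h * g⁻¹, hN.conj_mem h h.2 g⟩}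
      = ↑(Finset.univ.image cF) := by
    ext ψ
    simp only [Set.mem_setOf_eq, Finset.coe_image, Finset.coe_univ, Set.image_univ, Set.mem_range]
    constructor
    · rintro ⟨g, rfl⟩; exact ⟨g, rfl⟩
    · rintro ⟨g, rfl⟩; exact ⟨g, rfl⟩
  rw [hset, finsum_mem_coe_finset]
  -- fiber cardinalities
  have hfib : ∀ ψ ∈ Finset.univ.image cF,
      (Finset.univ.filter (fun a => cF a = ψ)).card
        = Nat.card {g : G // ∀ h : H, θ ⟨g * h * g⁻¹, hN.conj_mem h h.2 g⟩ = θ h} := by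
    intro ψ hψ
    obtain ⟨g₀, -, rfl⟩ := Finset.mem_image.mp hψ
    rw [← Fintype.card_subtype, Fintype.card_eq_nat_card]
    apply Nat.card_congr
    refine
      { toFun := fun x => ⟨x.1 * g₀⁻¹, ?_⟩
        invFun := fun t => ⟨t.1 * g₀, ?_⟩
        left_inv := fun x => by simp
        right_inv := fun t => by simp }
    · intro h
      have hm : g₀⁻¹ * h * g₀ ∈ H := by simpa using hN.conj_mem h h.2 g₀⁻¹
      have hx : cF x.1 ⟨g₀⁻¹ * h * g₀, hm⟩ = cF g₀ ⟨g₀⁻¹ * h * g₀, hm⟩ := congrFun x.2 _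
      simp only [hcF] at hx
      calc θ ⟨x.1 * g₀⁻¹ * h * (x.1 * g₀⁻¹)⁻¹, hN.conj_mem h h.2 (x.1 * g₀⁻¹)⟩
          = θ ⟨x.1 * (g₀⁻¹ * h * g₀) * x.1⁻¹, hN.conj_mem _ hm x.1⟩ :=
            theta_congr H θ _ _ (by group)
        _ = θ ⟨g₀ * (g₀⁻¹ * h * g₀) * g₀⁻¹, hN.conj_mem _ hm g₀⟩ := hx
        _ = θ ⟨h.1, h.2⟩ := theta_congr H θ _ _ (by group)
    · funext h
      have hm : g₀ * h * g₀⁻¹ ∈ H := hN.conj_mem h h.2 g₀
      have ht := t.2 ⟨g₀ * h * g₀⁻¹, hm⟩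
      simp only [hcF]
      calc θ ⟨t.1 * g₀ * h * (t.1 * g₀)⁻¹, hN.conj_mem h h.2 (t.1 * g₀)⟩
          = θ ⟨t.1 * (g₀ * h * g₀⁻¹) * t.1⁻¹, hN.conj_mem _ hm t.1⟩ :=
            theta_congr H θ _ _ (by group)
        _ = θ ⟨g₀ * h * g₀⁻¹, hm⟩ := ht
  funext h
  have hsum : ∑ x : G, Cfsg.extendByZero H θ (x⁻¹ * (h : G) * x) = ∑ x : G, cF x h := by
    rw [← Equiv.sum_comp (Equiv.inv G) (fun x => cF x h)]
    apply Finset.sum_congr rfl
    intro x _
    have hm : x⁻¹ * (h : G) * x ∈ H := by simpa using hN.conj_mem h h.2 x⁻¹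
    rw [extendByZero_of_mem H θ hm]
    simp only [hcF, Equiv.inv_apply]
    exact theta_congr H θ _ _ (by group)
  have hsum2 : ∑ x : G, cF x h
      = ∑ ψ ∈ Finset.univ.image cF,
          (Finset.univ.filter (fun a => cF a = ψ)).card • ψ h :=
    Finset.sum_comp (fun ψ : H → ℂ => ψ h) cF
  have hsum3 : ∑ ψ ∈ Finset.univ.image cF,
          (Finset.univ.filter (fun a => cF a = ψ)).card • ψ h
      = (Nat.card {g : G // ∀ h : H, θ ⟨g * h * g⁻¹, hN.conj_mem h h.2 g⟩ = θ h} : ℂ)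
          * ∑ ψ ∈ Finset.univ.image cF, ψ h := by
    rw [Finset.mul_sum]
    apply Finset.sum_congr rfl
    intro ψ hψ
    rw [hfib ψ hψ, nsmul_eq_mul]
  show Cfsg.indFun H θ (h : G) = _
  rw [indFun_apply, hsum, hsum2, hsum3, Pi.smul_apply, Finset.sum_apply, smul_eq_mul]
  ring

end Cfsg.Agent.S1485
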