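import Cfsg.Statements.S1270
import Cfsg.Agent.Lib.H7.OrbitDiag2

set_option autoImplicit false
open Cfsg
open Cfsg.Agent.Lib.H7
set_option autoImplicit false

namespace Cfsg.Agent.S1270

/-- Let G be finite with O_{p'}(G) = 1, x of order p, and L a component with ⁅L, ⟨x⟩⁆ ≠ L. Then ⁅L, O_{p'}(C_G(x))⁆ = 1. -/
theorem result {G : Type*} [Group G] [Finite G] (p : ℕ) [Fact p.Prime] (hO : Cfsg.pPrimeCore p G = ⊥) (x : G) (hx : orderOf x = p) (L : Subgroup G) (hL : Cfsg.IsComponent L) (hne : ⁅L, Subgroup.zpowers x⁆ ≠ L) : ⁅L, Cfsg.centralizerPPrimeCore p x⁆ = ⊥ := by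
  have hp : p.Prime := Fact.out
  have hxp : x ^ p = 1 := by rw [← hx]; exact pow_orderOf_eq_one x
  by_cases hLx : L.map (MulAut.conj x).toMonoidHom = L
  · -- `x` normalizes `L`, hence centralizes it
    have hxN : x ∈ Subgroup.normalizer (L : Set G) := by
      rw [Subgroup.mem_normalizer_iff_map_conj_eq]; exact hLx
    have hzN : Subgroup.zpowers x ≤ Subgroup.normalizer (L : Set G) := by
      rw [Subgroup.zpowers_le]; exact hxN
    have hNL : ⁅L, Subgroup.zpowers x⁆ ≤ L :=
      Subgroup.le_normalizer_iff_commutator_le_left.1 hzN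
    have hLN : L ≤ Subgroup.normalizer ((⁅L, Subgroup.zpowers x⁆ : Subgroup G) : Set G) :=
      Subgroup.normalizer_commutator_ge_left L (Subgroup.zpowers x)
    have hnorm : ((⁅L, Subgroup.zpowers x⁆ : Subgroup G).subgroupOf L).Normal :=
      Subgroup.normal_subgroupOf_of_le_normalizer hLN
    have hcen : ⁅L, Subgroup.zpowers x⁆ ≤ Subgroup.centralizer (L : Set G) := by
      rcases quasisimple_normal hL.2 ((⁅L, Subgroup.zpowers x⁆ : Subgroup G).subgroupOf L) with h | h
      · exfalso
        apply hne
        rw [Subgroup.subgroupOf_eq_top] at h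
        exact le_antisymm hNL h
      · intro n hn
        rw [Subgroup.mem_centralizer_iff]
        intro l hl
        have h1 := h (Subgroup.mem_subgroupOf.2 (show ((⟨n, hNL hn⟩ : L) : G) ∈ _ from hn))
        have h2 := Subgroup.mem_center_iff.1 h1 ⟨l, hl⟩
        exact congrArg Subtype.val h2
    have h1 : ⁅⁅L, Subgroup.zpowers x⁆, L⁆ = ⊥ := by
      rw [Subgroup.commutator_eq_bot_iff_le_centralizer]; exact hcen
    have h2 : ⁅⁅Subgroup.zpowers x, L⁆, L⁆ = ⊥ := by
      rw [Subgroup.commutator_comm (Subgroup.zpowers x) L]; exact h1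
    have h3 := Subgroup.commutator_commutator_eq_bot_of_rotate h1 h2
    rw [component_commutator_self hL] at h3
    have hLC : L ≤ Subgroup.centralizer ({x} : Set G) := by
      rw [Subgroup.commutator_comm, Subgroup.commutator_eq_bot_iff_le_centralizer] at h3
      intro l hl
      rw [Subgroup.mem_centralizer_singleton_iff]
      exact Subgroup.mem_centralizer_iff.1 (h3 (Subgroup.mem_zpowers x)) l hl
    have hcomp := isComponent_subgroupOf hL hLC
    have hOn : (pPrimeCore p ↥(Subgroup.centralizer ({x} : Set G))).Normal := inferInstance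
    rcases component_le_or_commutator_eq_bot hcomp hOn.isSubnormal with h | h
    · exfalso
      apply not_coprime_card_component p hO hL
      have hcard : Nat.card (L.subgroupOf (Subgroup.centralizer ({x} : Set G))) = Nat.card L :=
        Nat.card_congr (Subgroup.subgroupOfEquivOfLe hLC).toEquiv
      rw [← hcard]
      exact Nat.Coprime.coprime_dvd_left (Subgroup.card_dvd_of_le h)
        (Cfsg.Agent.Lib.H22.card_pPrimeCore_coprime p)
    · have h4 := congrArg (Subgroup.map (Subgroup.centralizer ({x} : Set G)).subtype) h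
      rw [Subgroup.map_commutator, Subgroup.map_subgroupOf_eq_of_le hLC, Subgroup.map_bot] at h4
      exact h4
  · exact commutator_cppc_eq_bot_of_moved hp hxp hO hL hLx

end Cfsg.Agent.S1270
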