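import Cfsg.Statements.S0910
import Cfsg.Agent.Lib.H23.BurnsidePQ
import Cfsg.Agent.Lib.H23.BlockOsima
import Cfsg.Agent.Lib.H24.CharKer

set_option autoImplicit false
open Cfsg

namespace Cfsg.Agent.S0910

/-- Let G be a non-abelian finite simple group and p a prime. If an irreducible character χ lies in the principal block (relative to a maximal ideal of the algebraic integers containing p) and χ 1 is a power of p, then χ is the principal character. -/
theorem result {G : Type*} [Group G] [Finite G] (p : ℕ) [Fact p.Prime] (M : Ideal Cfsg.AlgInt) (hM : Cfsg.IsPModular p M) [IsSimpleGroup G] (hna : ∃ a b : G, a * b ≠ b * a) (χ : Cfsg.IrrCharacter G) (hχ : χ ∈ Cfsg.principalBlock M G) (k : ℕ) (hdeg : (χ : G → ℂ) 1 = (p : ℂ) ^ k) : (χ : G → ℂ) = fun _ => 1 := by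
  classical
  haveI := Fintype.ofFinite G
  haveI hPr := Cfsg.Agent.Lib.H23.isPrime_of_isPModular hM
  have hp := Cfsg.Agent.Lib.H23.prime_of_isPModular hM
  obtain ⟨a₀, b₀, hab⟩ := hna
  have hnc : ¬ ∀ a b : G, a * b = b * a := fun h => hab (h a₀ b₀)
  obtain ⟨n, ρ, hirr, hρχ⟩ := χ.2
  haveI := hirr
  have hker : (ρ : G →* ((Fin n → ℂ) →ₗ[ℂ] (Fin n → ℂ))).ker = ⊥ ∨
      (ρ : G →* ((Fin n → ℂ) →ₗ[ℂ] (Fin n → ℂ))).ker = ⊤ :=
    IsSimpleGroup.eq_bot_or_eq_top_of_normal _ (MonoidHom.normal_ker _)
  rcases hker with hbot | htop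
  · exfalso
    have hinj : Function.Injective ρ := (MonoidHom.ker_eq_bot_iff _).mp hbot
    have hχ1 : ρ.character 1 = (p : ℂ) ^ k := by rw [hρχ]; exact hdeg
    rw [Representation.char_one] at hχ1
    have hfr : Module.finrank ℂ (Fin n → ℂ) = p ^ k := by exact_mod_cast hχ1
    -- central elements are trivial
    have hcenter : ∀ g : G, (∃ c : ℂ, ρ g = c • 1) → g = 1 := by
      intro g ⟨c, hc⟩
      by_contra hg
      have hcen : g ∈ Subgroup.center G := by
        rw [Subgroup.mem_center_iff]
        intro x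
        apply hinj
        rw [map_mul, map_mul, hc]
        simp
      have hcne : Subgroup.center G ≠ ⊥ := by
        intro h
        rw [h, Subgroup.mem_bot] at hcen
        exact hg hcen
      have hctop : Subgroup.center G = ⊤ :=
        (IsSimpleGroup.eq_bot_or_eq_top_of_normal _ inferInstance).resolve_left hcne
      apply hnc
      intro a b
      have ha : a ∈ Subgroup.center G := by rw [hctop]; trivial
      exact ((Subgroup.mem_center_iff.mp ha) b).symm
    rcases Nat.eq_zero_or_pos k with hk0 | hkpos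
    · -- linear character
      rw [hk0, pow_zero] at hfr
      apply hnc
      intro a b
      have h1 : (χ : G → ℂ) 1 = 1 := by rw [hdeg, hk0, pow_zero]
      have h2 := Cfsg.Agent.Lib.H24.linear_commutator
        (Cfsg.Agent.Lib.L0.isCharacter_of_irr χ.2) h1 a b
      have h3 : ρ (a * b * a⁻¹ * b⁻¹) = 1 := by
        apply (Cfsg.Agent.Lib.L0.char_eq_char_one_iff ρ _).1
        rw [hρχ, h2, h1]
      have h4 : a * b * a⁻¹ * b⁻¹ = 1 := hinj (by rw [h3, map_one])
      calc a * b = (a * b * a⁻¹ * b⁻¹) * (b * a) := by group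
        _ = b * a := by rw [h4, one_mul]
    · -- `p ∣ |G|`
      have hdvd : p ∣ Nat.card G := by
        have h1 := Cfsg.Agent.Lib.H23.charDegree_dvd_card (χ : G → ℂ) χ.2
        have h2 : Cfsg.charDegree (χ : G → ℂ) = p ^ k := by
          unfold Cfsg.charDegree
          rw [hdeg]
          have : ((p : ℂ) ^ k).re = ((p ^ k : ℕ) : ℝ) := by
            have : ((p : ℂ) ^ k) = (((p ^ k : ℕ) : ℝ) : ℂ) := by push_cast; rfl
            rw [this, Complex.ofReal_re]
          rw [this, Nat.floor_natCast]
        rw [h2] at h1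
        exact dvd_trans (dvd_pow_self p hkpos.ne') h1
      obtain ⟨P⟩ : Nonempty (Sylow p G) := inferInstance
      have hPnt : Nontrivial (P : Subgroup G) := by
        exact (Subgroup.nontrivial_iff_ne_bot _).2 (P.ne_bot_of_dvd_card hdvd)
      haveI := hPnt
      have hZnt := IsPGroup.center_nontrivial P.isPGroup'
      obtain ⟨⟨z, hzc⟩, hz1⟩ := exists_ne (1 : Subgroup.center (P : Subgroup G))
      have hz1' : (z : G) ≠ 1 := by
        intro h
        apply hz1
        apply Subtype.ext
        apply Subtype.ext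
        exact h
      have hle : (P : Subgroup G) ≤ Subgroup.centralizer ({(z : G)} : Set G) := by
        intro x hx
        rw [Subgroup.mem_centralizer_singleton_iff]
        have := (Subgroup.mem_center_iff.1 hzc) ⟨x, hx⟩
        have h2 := congrArg Subtype.val this
        simpa using h2
      have hidx : ¬ p ∣ (Subgroup.centralizer ({(z : G)} : Set G)).index := by
        intro h
        exact P.not_dvd_index (dvd_trans h (Subgroup.index_dvd_of_le hle))
      have hcop : Nat.Coprime (Module.finrank ℂ (Fin n → ℂ))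
          (Subgroup.centralizer ({(z : G)} : Set G)).index := by
        rw [hfr]
        exact Nat.Coprime.pow_left k ((Nat.Prime.coprime_iff_not_dvd hp).2 hidx)
      rcases Cfsg.Agent.S0142.result ρ (z : G) hcop with h0 | hn
      · have hsb : Cfsg.SameBlock M (fun _ : G => (1 : ℂ)) (χ : G → ℂ) := hχ
        have h1 := hsb (z : G)
        unfold Cfsg.centralChar at h1
        rw [← hρχ, h0] at h1
        simp only [mul_one, div_one, mul_zero, zero_div, sub_zero] at h1
        exact hidx ((Cfsg.Agent.Lib.H23.natCast_memLocalIdeal_iff hM _).1 h1)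
      · exact hz1' (hcenter _ ((Cfsg.Agent.Lib.L0.norm_char_eq_finrank_iff ρ (z : G)).mp hn))
  · have htriv : ∀ x : G, ρ x = 1 := by
      intro x
      have hx : x ∈ (ρ : G →* ((Fin n → ℂ) →ₗ[ℂ] (Fin n → ℂ))).ker := by rw [htop]; trivial
      exact (MonoidHom.mem_ker).mp hx
    have hdim : Module.finrank ℂ (Fin n → ℂ) = 1 :=
      Cfsg.Agent.Lib.H23.finrank_eq_one_of_forall_smul ρ (fun x => ⟨1, by rw [htriv x, one_smul]⟩)
    rw [← hρχ]
    exact Cfsg.Agent.Lib.H23.character_eq_one_of_forall_eq_one ρ hdim htriv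

end Cfsg.Agent.S0910
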