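import Cfsg.Statements.S0904
import Cfsg.Agent.Lib.H4.BrauerTuan

set_option autoImplicit false
open Cfsg

namespace Cfsg.Agent.S0904

/-- Let G be a finite simple group of order p ^ a * q ^ b * r with p, q, r distinct primes. Then every Sylow r-subgroup S of G satisfies C_G(S) = S. -/
theorem result {G : Type*} [Group G] [Finite G] [IsSimpleGroup G] (p q r a b : ℕ) (hp : p.Prime) (hq : q.Prime) [Fact r.Prime] (hpq : p ≠ q) (hpr : p ≠ r) (hqr : q ≠ r) (hcard : Nat.card G = p ^ a * q ^ b * r) (S : Sylow r G) : Subgroup.centralizer (S : Set G) = (S : Subgroup G) := by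
  classical
  have hr : r.Prime := Fact.out
  have hrG : r ∣ Nat.card G := by rw [hcard]; exact dvd_mul_left r _
  have hrpq : ¬ r ∣ p ^ a * q ^ b := by
    intro h
    rcases (Nat.Prime.dvd_mul hr).1 h with h | h
    · exact hpr ((Nat.prime_dvd_prime_iff_eq hr hp).1 (hr.dvd_of_dvd_pow h)).symm
    · exact hqr ((Nat.prime_dvd_prime_iff_eq hr hq).1 (hr.dvd_of_dvd_pow h)).symm
  -- the Sylow subgroup has order `r`
  have hScard : Nat.card (S : Subgroup G) = r := by
    obtain ⟨n, hn⟩ := IsPGroup.iff_card.1 S.isPGroup'
    have hSdvd : Nat.card (S : Subgroup G) ∣ Nat.card G := Subgroup.card_subgroup_dvd_card _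
    have hne : (S : Subgroup G) ≠ ⊥ := Sylow.ne_bot_of_dvd_card S hrG
    have hn0 : n ≠ 0 := by
      intro h0
      apply hne
      rw [h0, pow_zero] at hn
      exact Subgroup.card_eq_one.1 hn
    have hn2 : n < 2 := by
      by_contra hge
      push Not at hge
      apply hrpq
      have h1 : r ^ 2 ∣ Nat.card G := dvd_trans (dvd_trans (pow_dvd_pow r hge) hn.symm.dvd) hSdvd
      rw [hcard, pow_two] at h1
      exact Nat.dvd_of_mul_dvd_mul_right hr.pos h1
    have hn1 : n = 1 := by omega
    rw [hn, hn1, pow_one]
  haveI hScyc : IsCyclic (S : Subgroup G) := isCyclic_of_prime_card hScard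
  -- an element of order `r` in `S`
  obtain ⟨s, hs⟩ := exists_prime_orderOf_dvd_card' (G := (S : Subgroup G)) r (by rw [hScard])
  have hsG : orderOf (s : G) = r := by rw [Subgroup.orderOf_coe]; exact hs
  apply le_antisymm
  · intro g hg
    by_cases hab : ∀ x y : G, x * y = y * x
    · -- the commutative case: `G` has prime order, hence order `r`
      letI : CommGroup G := { (inferInstance : Group G) with mul_comm := hab }
      have hprime : (Nat.card G).Prime := IsSimpleGroup.prime_card (α := G)
      have hGr : Nat.card G = r := ((Nat.prime_dvd_prime_iff_eq hr hprime).1 hrG).symm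
      have hpg : IsPGroup r (⊤ : Subgroup G) := by
        refine IsPGroup.of_card (n := 1) ?_
        rw [Subgroup.card_top, hGr, pow_one]
      have htop := S.is_maximal' hpg le_top
      have : g ∈ (⊤ : Subgroup G) := Subgroup.mem_top g
      rw [htop] at this
      exact this
    · push_neg at hab
      have hna : ∃ x y : G, x * y ≠ y * x := hab
      have hcomm : Commute g (s : G) := by
        have := hg (s : G) s.2
        exact this.symm
      -- `g` is an `r`-element
      have hgord : ∀ ℓ : ℕ, ℓ.Prime → ℓ ∣ orderOf g → ℓ = r := by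
        intro ℓ hℓ hℓg
        by_contra hne
        have hℓG : ℓ ∣ Nat.card G := dvd_trans hℓg (orderOf_dvd_natCard g)
        -- an element of order `ℓ` commuting with `s`
        set g' := g ^ (orderOf g / ℓ) with hg'
        have hg'ord : orderOf g' = ℓ := by
          rw [hg']
          have hpos : 0 < orderOf g := orderOf_pos g
          have := orderOf_pow_of_dvd (x := g) (n := orderOf g / ℓ)
            (by
              intro h0
              have : orderOf g = ℓ * (orderOf g / ℓ) := (Nat.mul_div_cancel' hℓg).symm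
              rw [h0, mul_zero] at this
              exact hpos.ne' this)
            (Nat.div_dvd_of_dvd hℓg)
          rw [this, Nat.div_div_self hℓg hpos.ne']
        have hcomm' : Commute g' (s : G) := hcomm.pow_left _
        have hcop : Nat.Coprime (orderOf g') (orderOf (s : G)) := by
          rw [hg'ord, hsG]
          exact (Nat.coprime_primes hℓ hr).2 hne
        have hord : orderOf (g' * (s : G)) = ℓ * r := by
          rw [hcomm'.orderOf_mul_eq_mul_orderOf_of_coprime hcop, hg'ord, hsG]
        have hℓy : ℓ ∣ orderOf (g' * (s : G)) := by rw [hord]; exact dvd_mul_right ℓ r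
        have hry : r ∣ orderOf (g' * (s : G)) := by rw [hord]; exact dvd_mul_left r ℓ
        -- `ℓ` is `p` or `q`
        rw [hcard] at hℓG
        rcases (Nat.Prime.dvd_mul hℓ).1 hℓG with h | h
        · rcases (Nat.Prime.dvd_mul hℓ).1 h with h | h
          · have hℓp : ℓ = p := (Nat.prime_dvd_prime_iff_eq hℓ hp).1 (hℓ.dvd_of_dvd_pow h)
            subst hℓp
            exact Cfsg.Agent.Lib.H4.BT.no_mixed_order hna ℓ q r a b hp hq hr hpq hpr hqr hcard
              _ hℓy hry
          · have hℓq : ℓ = q := (Nat.prime_dvd_prime_iff_eq hℓ hq).1 (hℓ.dvd_of_dvd_pow h)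
            subst hℓq
            have hcard' : Nat.card G = ℓ ^ b * p ^ a * r := by rw [hcard]; ring
            exact Cfsg.Agent.Lib.H4.BT.no_mixed_order hna ℓ p r b a hq hp hr hpq.symm hqr hpr hcard'
              _ hℓy hry
        · exact hne ((Nat.prime_dvd_prime_iff_eq hℓ hr).1 h)
      have hgpow : ∃ k : ℕ, orderOf g = r ^ k := by
        refine ⟨(orderOf g).primeFactorsList.length, ?_⟩
        exact Nat.eq_prime_pow_of_unique_prime_dvd (orderOf_pos g).ne' (fun {ℓ} hℓ hd => hgord ℓ hℓ hd)
      have hZ : IsPGroup r (Subgroup.zpowers g) := by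
        obtain ⟨k, hk⟩ := hgpow
        refine IsPGroup.of_card (n := k) ?_
        rw [Nat.card_zpowers, hk]
      have hnorm : Subgroup.zpowers g ≤ Subgroup.normalizer ((S : Subgroup G) : Set G) := by
        rw [Subgroup.zpowers_le]
        exact Subgroup.centralizer_le_normalizer _ hg
      have hsup : IsPGroup r (Subgroup.zpowers g ⊔ (S : Subgroup G) : Subgroup G) :=
        IsPGroup.to_sup_of_normal_right' hZ S.isPGroup' hnorm
      have heq := S.is_maximal' hsup le_sup_right
      have hgm : g ∈ Subgroup.zpowers g ⊔ (S : Subgroup G) :=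
        (le_sup_left : Subgroup.zpowers g ≤ _) (Subgroup.mem_zpowers g)
      rw [heq] at hgm
      exact hgm
  · intro g hg x hx
    have h1 : (⟨g, hg⟩ : (S : Subgroup G)) * ⟨x, hx⟩ = ⟨x, hx⟩ * ⟨g, hg⟩ := by
      obtain ⟨c, hc⟩ := hScyc.exists_generator
      obtain ⟨i, hi⟩ := Subgroup.mem_zpowers_iff.1 (hc ⟨g, hg⟩)
      obtain ⟨j, hj⟩ := Subgroup.mem_zpowers_iff.1 (hc ⟨x, hx⟩)
      rw [← hi, ← hj, ← zpow_add, ← zpow_add, add_comm]
    have := congrArg Subtype.val h1
    simpa using this.symm
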