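import Cfsg.Statements.S0756
-- import your own Cfsg.Agent.* helpers here

set_option autoImplicit false
open Cfsg

namespace Cfsg.Agent.S0756

open Polynomial Module

theorem card_odd_of_two_ne_zero {F : Type*} [Field F] [Fintype F] (h2 : (2 : F) ≠ 0) :
    Fintype.card F % 2 = 1 := by
  apply FiniteField.odd_card_of_char_ne_two
  intro h
  apply h2
  have := CharP.cast_eq_zero F (ringChar F)
  rw [h] at this
  exact_mod_cast this

theorem diag_universal {F : Type*} [Field F] [Finite F] (h2 : (2 : F) ≠ 0) (a d : F) (ha : a ≠ 0)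
    (hd : d ≠ 0) : ∃ x y : F, a * x ^ 2 + d * y ^ 2 = 1 := by
  have : Fintype F := Fintype.ofFinite F
  have hcard := card_odd_of_two_ne_zero h2
  have hf : degree (C a * X ^ 2 : F[X]) = 2 := degree_C_mul_X_pow 2 ha
  have hg : degree (C d * X ^ 2 - C 1 : F[X]) = 2 := by
    rw [degree_sub_eq_left_of_degree_lt]
    · exact degree_C_mul_X_pow 2 hd
    · rw [degree_C_mul_X_pow 2 hd]
      exact lt_of_le_of_lt degree_C_le (by norm_num)
  obtain ⟨x, y, hxy⟩ := FiniteField.exists_root_sum_quadratic hf hg hcard
  refine ⟨x, y, ?_⟩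
  simp only [eval_mul, eval_C, eval_pow, eval_X, eval_sub] at hxy
  linear_combination hxy


/-- a nondegenerate symmetric form in dimension ≥ 2 over a finite field of odd order represents 1 -/
theorem exists_norm_one {F V : Type*} [Field F] [Finite F] [AddCommGroup V] [Module F V]
    [FiniteDimensional F V] (h2 : (2 : F) ≠ 0) (B : LinearMap.BilinForm F V) (hS : B.IsSymm)
    (hB : B.Nondegenerate) (hdim : 2 ≤ Module.finrank F V) : ∃ v : V, B v v = 1 := by
  have : Invertible (2 : F) := invertibleOfNonzero h2
  obtain ⟨e, he⟩ := LinearMap.BilinForm.exists_orthogonal_basis (LinearMap.BilinForm.isSymm_iff.1 hS)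
  let i₀ : Fin (Module.finrank F V) := ⟨0, by omega⟩
  let i₁ : Fin (Module.finrank F V) := ⟨1, by omega⟩
  have h01 : i₀ ≠ i₁ := by
    intro h
    have := congrArg Fin.val h
    simp [i₀, i₁] at this
  have ha := LinearMap.BilinForm.iIsOrtho.not_isOrtho_basis_self_of_nondegenerate he hB i₀
  have hd := LinearMap.BilinForm.iIsOrtho.not_isOrtho_basis_self_of_nondegenerate he hB i₁
  obtain ⟨x, y, hxy⟩ := diag_universal h2 _ _ ha hd
  refine ⟨x • e i₀ + y • e i₁, ?_⟩
  have h1 : B (e i₀) (e i₁) = 0 := he h01
  have h2' : B (e i₁) (e i₀) = 0 := he h01.symm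
  simp only [map_add, map_smul, LinearMap.add_apply, LinearMap.smul_apply, smul_eq_mul, h1, h2']
  linear_combination hxy

/-- square classes in a finite field of odd order -/
theorem square_class {F : Type*} [Field F] [Finite F] (h2 : (2 : F) ≠ 0) (α : F)
    (hα : ¬ IsSquare α) (a : F) (ha : a ≠ 0) : ∃ c : F, c ≠ 0 ∧ (a = c ^ 2 ∨ a = α * c ^ 2) := by
  have : Fintype F := Fintype.ofFinite F
  have hchar : ringChar F ≠ 2 := by
    intro h
    apply h2
    have := CharP.cast_eq_zero F (ringChar F)
    rw [h] at this
    exact_mod_cast this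
  have hα0 : α ≠ 0 := by
    rintro rfl
    exact hα ⟨0, by simp⟩
  by_cases hsq : IsSquare a
  · obtain ⟨c, hc⟩ := hsq
    refine ⟨c, ?_, Or.inl (by rw [hc, pow_two])⟩
    rintro rfl
    apply ha
    rw [hc, mul_zero]
  · have h1 : a ^ (Fintype.card F / 2) = -1 := by
      rcases FiniteField.pow_dichotomy hchar ha with h | h
      · exact absurd ((FiniteField.isSquare_iff hchar ha).2 h) hsq
      · exact h
    have h3 : α ^ (Fintype.card F / 2) = -1 := by
      rcases FiniteField.pow_dichotomy hchar hα0 with h | h
      · exact absurd ((FiniteField.isSquare_iff hchar hα0).2 h) hα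
      · exact h
    have h4 : IsSquare (a / α) := by
      rw [FiniteField.isSquare_iff hchar (div_ne_zero ha hα0), div_pow, h1, h3]
      simp
    obtain ⟨c, hc⟩ := h4
    refine ⟨c, ?_, Or.inr ?_⟩
    · rintro rfl
      rw [mul_zero] at hc
      exact (div_ne_zero ha hα0) hc
    · rw [pow_two, ← hc]
      field_simp

universe u

theorem classify {F : Type*} [Field F] [Finite F] (h2 : (2 : F) ≠ 0) (α : F) (hα : ¬ IsSquare α) :
    ∀ (n : ℕ) {V : Type u} [AddCommGroup V] [Module F V] [FiniteDimensional F V]
      (B : LinearMap.BilinForm F V) (_ : B.IsSymm) (_ : B.Nondegenerate)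
      (_ : Module.finrank F V = n + 1),
      ∃ b : Module.Basis (Fin (n + 1)) F V, (∀ i j, i ≠ j → B (b i) (b j) = 0) ∧
        (∀ i, i ≠ Fin.last n → B (b i) (b i) = 1) ∧
        (B (b (Fin.last n)) (b (Fin.last n)) = 1 ∨ B (b (Fin.last n)) (b (Fin.last n)) = α) := by
  intro n
  induction n with
  | zero =>
    intro V _ _ _ B hS hB hn
    let e : Module.Basis (Fin 1) F V := Module.finBasisOfFinrankEq F V hn
    have ha : B (e 0) (e 0) ≠ 0 := by
      intro h0
      apply e.ne_zero 0
      apply hB.1
      intro y
      have hy : y = (e.repr y 0) • e 0 := by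
        conv_lhs => rw [← e.sum_repr y]
        simp
      rw [hy, map_smul, h0, smul_zero]
    obtain ⟨c, hc0, hc⟩ := square_class h2 α hα _ ha
    let b := e.unitsSMul (fun _ => Units.mk0 c⁻¹ (inv_ne_zero hc0))
    have hb0 : b 0 = c⁻¹ • e 0 := by
      simp [b, Module.Basis.unitsSMul_apply]
    refine ⟨b, ?_, ?_, ?_⟩
    · intro i j hij
      exact absurd (Fin.ext (by have := i.2; have := j.2; omega)) hij
    · intro i hi
      exact absurd (Fin.ext (by have := i.2; simp)) hi
    · have hlast : Fin.last 0 = 0 := rfl
      rw [hlast, hb0]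
      simp only [map_smul, LinearMap.smul_apply, smul_eq_mul]
      rcases hc with hc | hc
      · left
        rw [hc]
        field_simp
      · right
        rw [hc]
        field_simp
  | succ n ih =>
    intro V _ _ _ B hS hB hn
    obtain ⟨v, hv⟩ := exists_norm_one h2 B hS hB (by omega)
    have hv0 : B v v ≠ 0 := by rw [hv]; exact one_ne_zero
    set W := B.orthogonal (Submodule.span F {v}) with hW
    have hWnd : (B.restrict W).Nondegenerate :=
      LinearMap.BilinForm.restrict_nondegenerate_orthogonal_spanSingleton B hB hS.isRefl hv0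
    have hWdim : Module.finrank F W = n + 1 := by
      have h1 := Submodule.finrank_add_eq_of_isCompl
        (LinearMap.BilinForm.isCompl_span_singleton_orthogonal hv0)
      have hvne : v ≠ 0 := by
        rintro rfl
        simp at hv0
      rw [finrank_span_singleton hvne, hn, ← hW] at h1
      omega
    obtain ⟨b', hb1, hb2, hb3⟩ := ih (B.restrict W) (hS.restrict W) hWnd hWdim
    have hWmem : ∀ x ∈ W, B v x = 0 := by
      intro x hx
      exact hx v (Submodule.mem_span_singleton_self v)
    let b := Module.Basis.mkFinCons v b'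
      (by
        intro c x hx hc
        have h3 : B v (c • v + x) = 0 := by rw [hc, map_zero]
        rw [map_add, map_smul, hv, hWmem x hx, smul_eq_mul, mul_one, add_zero] at h3
        exact h3)
      (by
        intro z
        refine ⟨-B v z, ?_⟩
        intro y hy
        obtain ⟨d, rfl⟩ := Submodule.mem_span_singleton.1 hy
        show B (d • v) (z + -(B v) z • v) = 0
        rw [map_smul, LinearMap.smul_apply, map_add, map_smul, hv]
        simp)
    have hbcoe : (b : Fin (n + 1 + 1) → V) = Fin.cons v ((↑) ∘ b') := Module.Basis.coe_mkFinCons _ _ _ _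
    refine ⟨b, ?_, ?_, ?_⟩
    · intro i j
      rw [hbcoe]
      refine Fin.cases ?_ (fun i => ?_) i <;> refine Fin.cases ?_ (fun j => ?_) j <;> intro hij <;>
        simp only [Fin.cons_zero, Fin.cons_succ, Function.comp_apply]
      · exact (hij rfl).elim
      · exact hWmem _ (b' j).2
      · rw [← hS.eq]
        exact hWmem _ (b' i).2
      · exact hb1 i j (fun h => hij (by rw [h]))
    · intro i
      rw [hbcoe]
      refine Fin.cases ?_ (fun i => ?_) i
      · intro _
        simpa using hv
      · intro hi
        simp only [Fin.cons_succ, Function.comp_apply]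
        apply hb2 i
        intro h
        apply hi
        rw [h, Fin.succ_last]
    · rw [hbcoe, ← Fin.succ_last]
      simp only [Fin.cons_succ, Function.comp_apply]
      exact hb3

/-- Classification of symmetric bilinear forms over finite fields of odd characteristic: if B is non-degenerate symmetric on V of dimension n + 1 and α is a fixed non-square of F, there is an orthogonal basis b_0, ..., b_n with B(b_i, b_i) = 1 for i < n and B(b_n, b_n) ∈ {1, α}. -/
theorem result {F V : Type*} [Field F] [Finite F] [AddCommGroup V] [Module F V] [FiniteDimensional F V] (h2 : (2 : F) ≠ 0) (B : LinearMap.BilinForm F V) (hS : B.IsSymm) (hB : B.Nondegenerate) {n : ℕ} (hn : Module.finrank F V = n + 1) (α : F) (hα : ¬ IsSquare α) : ∃ b : Module.Basis (Fin (n + 1)) F V, (∀ i j, i ≠ j → B (b i) (b j) = 0) ∧ (∀ i, i ≠ Fin.last n → B (b i) (b i) = 1) ∧ (B (b (Fin.last n)) (b (Fin.last n)) = 1 ∨ B (b (Fin.last n)) (b (Fin.last n)) = α) := by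
  exact classify h2 α hα n B hS hB hn

end Cfsg.Agent.S0756
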