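import Cfsg.Statements.S0601
-- import your own Cfsg.Agent.* helpers here
import Cfsg.Agent.Lib.H27.Basic
import Cfsg.Agent.Lib.H3.HallSystem3
import Mathlib

set_option autoImplicit false
open Cfsg

namespace Cfsg.Agent.S0601
open scoped Pointwise

/-- When O_p(G) contains its centralizer, the normal closure of Ω₁(Z(S)) is elementary abelian and G has no nontrivial normal p-subgroup modulo its centralizer. -/
theorem result {G : Type*} [Group G] [Finite G] {p : ℕ} [Fact p.Prime] (hc : Subgroup.centralizer (Cfsg.pCore p G : Set G) ≤ Cfsg.pCore p G) : (⨆ S : Sylow p G, Cfsg.omegaOne p (((S : Subgroup G)) ⊓ Subgroup.centralizer ((S : Subgroup G) : Set G))).Normal ∧ Cfsg.IsElementaryAbelian p (⨆ S : Sylow p G, Cfsg.omegaOne p (((S : Subgroup G)) ⊓ Subgroup.centralizer ((S : Subgroup G) : Set G))) ∧ ∀ D : Subgroup G, D.Normal → Subgroup.centralizer ((⨆ S : Sylow p G, Cfsg.omegaOne p (((S : Subgroup G)) ⊓ Subgroup.centralizer ((S : Subgroup G) : Set G)) : Subgroup G) : Set G) ≤ D → (∃ k : ℕ, (Subgroup.centralizer ((⨆ S : Sylow p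 G, Cfsg.omegaOne p (((S : Subgroup G)) ⊓ Subgroup.centralizer ((S : Subgroup G) : Set G)) : Subgroup G) : Set G)).relIndex D = p ^ k) → D = Subgroup.centralizer ((⨆ S : Sylow p G, Cfsg.omegaOne p (((S : Subgroup G)) ⊓ Subgroup.centralizer ((S : Subgroup G) : Set G)) : Subgroup G) : Set G) := by
  classical
  set Z : Sylow p G → Subgroup G := fun S => (S : Subgroup G) ⊓
    Subgroup.centralizer ((S : Subgroup G) : Set G) with hZ
  have hgoal : ∀ V : Subgroup G, V = (⨆ S : Sylow p G, Cfsg.omegaOne p (Z S)) →
      V.Normal ∧ Cfsg.IsElementaryAbelian p V ∧ ∀ D : Subgroup G, D.Normal →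
        Subgroup.centralizer (V : Set G) ≤ D →
        (∃ k : ℕ, (Subgroup.centralizer (V : Set G)).relIndex D = p ^ k) →
        D = Subgroup.centralizer (V : Set G) := by
    intro V hV
    refine ⟨?_, ?_, ?_⟩
    · -- normal
      constructor
      intro x hx g
      have hmap : V.map (MulAut.conj g).toMonoidHom ≤ V := by
        rw [hV, Subgroup.map_iSup]
        apply iSup_le
        intro S
        refine le_trans ?_ (le_iSup (fun S => Cfsg.omegaOne p (Z S)) (g • S))
        unfold Cfsg.omegaOne
        rw [MonoidHom.map_closure, Subgroup.closure_le]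
        rintro _ ⟨y, ⟨hyZ, hyp⟩, rfl⟩
        apply Subgroup.subset_closure
        refine ⟨⟨?_, ?_⟩, ?_⟩
        · rw [Sylow.coe_subgroup_smul]
          exact Subgroup.smul_mem_pointwise_smul y (MulAut.conj g) _ hyZ.1
        · rw [Sylow.coe_subgroup_smul]
          show _ ∈ Subgroup.centralizer _
          rw [Subgroup.mem_centralizer_iff]
          intro h hh
          obtain ⟨s, hs, rfl⟩ := (Subgroup.mem_smul_pointwise_iff_exists h _ _).1 hh
          have hsy : s * y = y * s := Subgroup.mem_centralizer_iff.1 hyZ.2 s hs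
          show g * s * g⁻¹ * (g * y * g⁻¹) = g * y * g⁻¹ * (g * s * g⁻¹)
          have e1 : g * s * g⁻¹ * (g * y * g⁻¹) = g * (s * y) * g⁻¹ := by group
          have e2 : g * y * g⁻¹ * (g * s * g⁻¹) = g * (y * s) * g⁻¹ := by group
          rw [e1, e2, hsy]
        · show (g * y * g⁻¹) ^ p = 1
          rw [conj_pow, hyp, mul_one, mul_inv_cancel]
      exact hmap ⟨x, hx, rfl⟩
    · -- elementary abelian
      set O := Cfsg.pCore p G with hO
      set A := O ⊓ Subgroup.centralizer (O : Set G) with hA
      let W : Subgroup G :=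
        { carrier := {x | x ∈ A ∧ x ^ p = 1}
          one_mem' := ⟨A.one_mem, one_pow p⟩
          mul_mem' := by
            rintro a b ⟨haA, hap⟩ ⟨hbA, hbp⟩
            refine ⟨A.mul_mem haA hbA, ?_⟩
            have hcomm : Commute a b := Subgroup.mem_centralizer_iff.1 hbA.2 a haA.1
            rw [hcomm.mul_pow, hap, hbp, one_mul]
          inv_mem' := by
            rintro a ⟨haA, hap⟩
            exact ⟨A.inv_mem haA, by rw [inv_pow, hap, inv_one]⟩ }
      have hVW : V ≤ W := by
        rw [hV]
        apply iSup_le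
        intro S
        unfold Cfsg.omegaOne
        rw [Subgroup.closure_le]
        rintro x ⟨hxZ, hxp⟩
        have hOS : O ≤ (S : Subgroup G) := Cfsg.Agent.Lib.H27.pCore_le_sylow S
        have h1 : x ∈ Subgroup.centralizer (O : Set G) :=
          Subgroup.centralizer_le hOS hxZ.2
        exact ⟨⟨hc h1, h1⟩, hxp⟩
      refine ⟨⟨⟨fun a b => Subtype.ext ?_⟩⟩, fun a ha => (hVW ha).2⟩
      have ha := (hVW a.2).1
      have hb := (hVW b.2).1
      exact Subgroup.mem_centralizer_iff.1 hb.2 a.1 ha.1
    · -- no normal p-subgroup above the centralizer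
      set C := Subgroup.centralizer (V : Set G) with hC
      rintro D hDn hCD ⟨k, hk⟩
      apply le_antisymm _ hCD
      rw [hC, Subgroup.le_centralizer_iff, hV]
      apply iSup_le
      intro S
      rw [← Subgroup.le_centralizer_iff]
      have hDS : D ≤ C ⊔ ((S : Subgroup G) ⊓ D) := by
        rw [← Subgroup.relIndex_eq_one]
        have h1 : (C ⊔ ((S : Subgroup G) ⊓ D)).relIndex D ∣ p ^ k := by
          rw [← hk]; exact Subgroup.relIndex_dvd_of_le_left D le_sup_left
        have h2 : (C ⊔ ((S : Subgroup G) ⊓ D)).relIndex D ∣ (S : Subgroup G).index := by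
          refine (Subgroup.relIndex_dvd_of_le_left D le_sup_right).trans ?_
          rw [Subgroup.inf_relIndex_right]
          exact Cfsg.Agent.Lib.H3.relIndex_dvd_index_of_normal_right (S : Subgroup G) D
        have hcop : (p ^ k).Coprime (S : Subgroup G).index :=
          ((Fact.out : p.Prime).coprime_pow_of_not_dvd S.not_dvd_index).symm
        exact Nat.eq_one_of_dvd_coprimes hcop h1 h2
      refine hDS.trans (sup_le ?_ ?_)
      · apply Subgroup.centralizer_le
        have h3 : Cfsg.omegaOne p (Z S) ≤ V := by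
          rw [hV]; exact le_iSup (fun S => Cfsg.omegaOne p (Z S)) S
        exact h3
      · refine inf_le_left.trans ?_
        rw [Subgroup.le_centralizer_iff]
        unfold Cfsg.omegaOne
        rw [Subgroup.closure_le]
        rintro x ⟨hx, _⟩
        exact hx.2
  exact hgoal _ rfl

end Cfsg.Agent.S0601
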