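import Cfsg.Statements.S0600
-- import your own Cfsg.Agent.* helpers here
import Mathlib

set_option autoImplicit false
open Cfsg

namespace Cfsg.Agent.S0600

/-- A normal elementary abelian p-subgroup generated by the fixed points of the Sylow p-subgroups admits no nontrivial normal p-subgroup of G modulo its centralizer. -/
theorem result {G : Type*} [Group G] [Finite G] {p : ℕ} [Fact p.Prime] (V : Subgroup G) [V.Normal] (hV : Cfsg.IsElementaryAbelian p V) (hgen : V = ⨆ S : Sylow p G, V ⊓ Subgroup.centralizer ((S : Subgroup G) : Set G)) : Cfsg.pCore p (G ⧸ Subgroup.centralizer (V : Set G)) = ⊥ := by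
  classical
  set C := Subgroup.centralizer (V : Set G) with hC
  set π := QuotientGroup.mk' C with hπ
  have hπs : Function.Surjective π := QuotientGroup.mk'_surjective C
  unfold Cfsg.pCore
  rw [sSup_eq_bot]
  rintro Nb ⟨hNbn, hNbp⟩
  set D := Nb.comap π with hD
  have hDS : ∀ S : Sylow p G, D ≤ (S : Subgroup G) ⊔ C := by
    intro S
    have h1 : Nb ≤ (S : Subgroup G).map π := by
      set P : Sylow p (G ⧸ C) := S.mapSurjective hπs with hP
      have h2 : IsPGroup p (Nb ⊔ (P : Subgroup (G ⧸ C)) : Subgroup (G ⧸ C)) :=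
        IsPGroup.to_sup_of_normal_left hNbp P.2
      have h3 : Nb ⊔ (P : Subgroup (G ⧸ C)) = P := P.is_maximal' h2 le_sup_right
      have h4 : Nb ≤ (P : Subgroup (G ⧸ C)) := by rw [← h3]; exact le_sup_left
      exact h4
    have h5 : D ≤ ((S : Subgroup G).map π).comap π := Subgroup.comap_mono h1
    rwa [Subgroup.comap_map_eq, hπ, QuotientGroup.ker_mk'] at h5
  have hDC : D ≤ C := by
    rw [hC, Subgroup.le_centralizer_iff]
    refine hgen.le.trans (iSup_le ?_)
    intro S
    rw [← Subgroup.le_centralizer_iff]
    refine (hDS S).trans (sup_le ?_ ?_)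
    · intro s hs
      rw [Subgroup.mem_centralizer_iff]
      intro x hx
      exact ((Subgroup.mem_centralizer_iff.1 hx.2) s hs).symm
    · exact Subgroup.centralizer_le inf_le_left
  have h6 : Nb = D.map π := (Subgroup.map_comap_eq_self_of_surjective hπs Nb).symm
  rw [h6, Subgroup.map_eq_bot_iff, hπ, QuotientGroup.ker_mk']
  exact hDC

end Cfsg.Agent.S0600
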