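import Cfsg.Statements.S0618
-- import your own Cfsg.Agent.* helpers here
import Cfsg.Agent.Lib.H3.QT4
import Cfsg.Agent.S0600
import Cfsg.Agent.S0601
import Cfsg.Agent.S0608
import Cfsg.Agent.Lib.H10.PSolvable
import Mathlib

set_option autoImplicit false
open Cfsg

namespace Cfsg.Agent.S0618

theorem centralizer_iSup_set {G : Type*} [Group G] {ι : Sort*} (f : ι → Subgroup G) :
    Subgroup.centralizer (⨆ i, ((f i : Subgroup G) : Set G)) =
      Subgroup.centralizer (((⨆ i, f i : Subgroup G)) : Set G) := by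
  apply le_antisymm
  · intro x hx
    have h1 : (⨆ i, f i) ≤ Subgroup.centralizer ({x} : Set G) := by
      apply iSup_le
      intro i y hy
      rw [Subgroup.mem_centralizer_iff]
      intro z hz
      rw [Set.mem_singleton_iff] at hz
      subst hz
      have := Subgroup.mem_centralizer_iff.1 hx y (Set.mem_iUnion.2 ⟨i, hy⟩)
      exact this.symm
    rw [Subgroup.mem_centralizer_iff]
    intro y hy
    have := Subgroup.mem_centralizer_iff.1 (h1 hy) x rfl
    exact this.symm
  · apply Subgroup.centralizer_le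
    intro y hy
    obtain ⟨i, hi⟩ := Set.mem_iUnion.1 hy
    exact (le_iSup f i) hi

/-- A p-separable group with trivial p'-core in which the Thompson factorization fails has p = 2 or 3, and J(G) induces on the normal closure of Ω₁(Z(S)) a group containing a normal SL(2, p). -/
theorem result {G : Type*} [Group G] [Finite G] {p : ℕ} [Fact p.Prime] (hsep : Cfsg.IsPSolvable p G) (hO : Cfsg.pPrimeCore p G = ⊥) (hnf : ¬ Cfsg.IsThompsonFactorizable p G) : (p = 2 ∨ p = 3) ∧ ∃ E : Subgroup G, Subgroup.centralizer ((⨆ S : Sylow p G, Cfsg.omegaOne p ((S : Subgroup G) ⊓ Subgroup.centralizer ((S : Subgroup G) : Set G))) : Set G) ≤ E ∧ E ≤ Cfsg.thompsonSubgroup p G ⊔ Subgroup.centralizer ((⨆ S : Sylow p G, Cfsg.omegaOne p ((S : Subgroup G) ⊓ Subgroup.centralizer ((S : Subgroup G) : Set G))) : Set G) ∧ Cfsg.thompsonSubgroup p G ⊔ Subgroup.centralizer ((⨆ S : Sylow p G, Cfsg.omegaOne p ((S : Subgroup G) ⊓ Subgroup.centralizer ((S : Subgroup G) : Set G))) : Set G) ≤ Subgroup.normalizer (E : Set G)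 ∧ ∃ hn : ((Subgroup.centralizer ((⨆ S : Sylow p G, Cfsg.omegaOne p ((S : Subgroup G) ⊓ Subgroup.centralizer ((S : Subgroup G) : Set G))) : Set G)).subgroupOf E).Normal, Nonempty ((↥E ⧸ (Subgroup.centralizer ((⨆ S : Sylow p G, Cfsg.omegaOne p ((S : Subgroup G) ⊓ Subgroup.centralizer ((S : Subgroup G) : Set G))) : Set G)).subgroupOf E) ≃* Matrix.SpecialLinearGroup (Fin 2) (ZMod p)) := by
  have hc := Cfsg.Agent.Lib.H10.centralizer_pCore_le_of_isPSolvable p hsep hO
  obtain ⟨hWn, hWe, -⟩ := Cfsg.Agent.S0601.result hc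
  have hgen : ∀ W : Subgroup G, W = (⨆ S : Sylow p G, Cfsg.omegaOne p ((S : Subgroup G) ⊓
      Subgroup.centralizer ((S : Subgroup G) : Set G))) →
      W = ⨆ S : Sylow p G, W ⊓ Subgroup.centralizer ((S : Subgroup G) : Set G) := by
    intro W hW
    apply le_antisymm
    · conv_lhs => rw [hW]
      apply iSup_le
      intro S
      refine le_trans ?_ (le_iSup (fun S : Sylow p G =>
        W ⊓ Subgroup.centralizer ((S : Subgroup G) : Set G)) S)
      refine le_inf ?_ (Cfsg.Agent.Lib.H3.omegaZ_le_centralizer p (S : Subgroup G))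
      rw [hW]
      exact le_iSup (fun S : Sylow p G => Cfsg.omegaOne p ((S : Subgroup G) ⊓
        Subgroup.centralizer ((S : Subgroup G) : Set G))) S
    · exact iSup_le fun S => inf_le_left
  haveI := hWn
  have hO' := Cfsg.Agent.S0600.result _ hWe (hgen _ rfl)
  have hJ := (not_congr (Cfsg.Agent.S0608.result hO)).1 hnf
  have key := Cfsg.Agent.Lib.H3.QT.exists_SL2 _ hWe hsep hO' hJ
  rw [centralizer_iSup_set]
  exact key

end Cfsg.Agent.S0618
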