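import Cfsg.Statements.S0751
-- import your own Cfsg.Agent.* helpers here

set_option autoImplicit false
open Cfsg

namespace Cfsg.Agent.S0751

variable {F V : Type*} [Field F] [AddCommGroup V] [Module F V] {σ : F →+* F}
  (B : V →ₛₗ[σ] V →ₗ[F] F)

theorem B_smul_left (a : F) (u v : V) : B (a • u) v = σ a * B u v := by
  rw [map_smulₛₗ, LinearMap.smul_apply, smul_eq_mul]

theorem B_smul_right (a : F) (u v : V) : B u (a • v) = a * B u v := by
  rw [map_smul, smul_eq_mul]

/-- quasi-reflection `v ↦ v + (α B(u,v)) u` -/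
def qr (u : V) (α : F) : V →ₗ[F] V := LinearMap.id + (α • B u).smulRight u

theorem qr_apply (u : V) (α : F) (v : V) : qr B u α v = v + (α * B u v) • u := by
  simp [qr]

theorem qr_isometry (hS : B.IsSymm) (u : V) (α : F)
    (hα : α + σ α + α * σ α * B u u = 0) (v v' : V) :
    B (qr B u α v) (qr B u α v') = B v v' := by
  rw [qr_apply, qr_apply]
  simp only [map_add, LinearMap.add_apply, B_smul_left, B_smul_right, map_mul]
  rw [hS.eq u v]
  linear_combination (B u v' * B v u) * hα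

theorem exists_equiv_of_isometry [FiniteDimensional F V] (hB : B.Nondegenerate)
    (g : V →ₗ[F] V) (hg : ∀ u v, B (g u) (g v) = B u v) :
    ∃ t : V ≃ₗ[F] V, ∀ v, t v = g v := by
  have hinj : Function.Injective g := by
    rw [← LinearMap.ker_eq_bot, LinearMap.ker_eq_bot']
    intro v hv
    apply hB.1 v
    intro w
    rw [← hg, hv]
    simp
  exact ⟨LinearEquiv.ofInjectiveEndo g hinj, fun v => rfl⟩

/-- one-step lemma -/
theorem step [FiniteDimensional F V] (hS : B.IsSymm) (hB : B.Nondegenerate)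
    (X₀ : Submodule F V) (a b : V) (hab : B (b - a) a ≠ 0) (hn : B b b = B a a)
    (hperp : ∀ h ∈ X₀, B (b - a) h = 0) :
    ∃ t : V ≃ₗ[F] V, (∀ u v, B (t u) (t v) = B u v) ∧ (∀ h ∈ X₀, t h = h) ∧ t a = b := by
  obtain ⟨z, hz⟩ : ∃ z, z = b - a := ⟨_, rfl⟩
  rw [← hz] at hab hperp
  obtain ⟨β, hβ⟩ : ∃ β, β = B z a := ⟨_, rfl⟩
  rw [← hβ] at hab
  have hσβ : σ β = B a z := by rw [hβ, hS.eq]
  have hσβ0 : σ β ≠ 0 := fun h => hab ((map_eq_zero σ).1 h)
  have hzz : B z z = -(β + σ β) := by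
    rw [hσβ, hβ, hz]
    simp only [map_sub, LinearMap.sub_apply, hn]
    ring
  have hα : β⁻¹ + σ β⁻¹ + β⁻¹ * σ β⁻¹ * B z z = 0 := by
    rw [hzz, map_inv₀]
    field_simp
    ring
  have hiso := qr_isometry B hS z β⁻¹ hα
  obtain ⟨t, ht⟩ := exists_equiv_of_isometry B hB _ hiso
  refine ⟨t, fun u v => by rw [ht, ht, hiso], ?_, ?_⟩
  · intro h hh
    rw [ht, qr_apply, hperp h hh, mul_zero, zero_smul, add_zero]
  · rw [ht, qr_apply, ← hβ, inv_mul_cancel₀ hab, one_smul, hz]
    abel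

theorem exists_perp [Finite F] [FiniteDimensional F V] (hB : B.Nondegenerate)
    (X₀ : Submodule F V) (x : V) (hx : x ∉ X₀) :
    ∃ w, (∀ h ∈ X₀, B w h = 0) ∧ B w x ≠ 0 := by
  obtain ⟨f, hfx, hf⟩ := Submodule.exists_le_ker_of_notMem hx
  have : Finite V := Module.finite_of_finite F
  have : Finite (Module.Dual F V) := Module.finite_of_finite F
  have hinj : Function.Injective (fun w : V => (B w : Module.Dual F V)) := by
    intro w w' h
    have h' : B (w - w') = 0 := by rw [map_sub]; exact sub_eq_zero.2 h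
    have : w - w' = 0 := by
      apply hB.1
      intro v
      rw [h']; rfl
    exact sub_eq_zero.1 this
  have hbij := hinj.bijective_of_nat_card_le (by
    rw [Module.natCard_eq_pow_finrank (K := F) (V := V),
      Module.natCard_eq_pow_finrank (K := F) (V := Module.Dual F V), Subspace.dual_finrank_eq])
  obtain ⟨w, hw⟩ := hbij.2 f
  have hw' : B w = f := hw
  refine ⟨w, ?_, ?_⟩
  · intro h hh
    rw [hw']
    exact hf hh
  · rw [hw']; exact hfx

theorem norm_eq (hσ : σ ≠ RingHom.id F) (hσ2 : ∀ a : F, σ (σ a) = a) (γ κ : F) (hγ : γ ≠ 0)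
    (hκ : σ κ = κ) : ∃ c : F, c ≠ 0 ∧ c * γ + σ c * σ γ + c * σ c * κ = 0 := by
  obtain ⟨a, ha⟩ : ∃ a, σ a ≠ a := by
    by_contra hcon
    push Not at hcon
    exact hσ (RingHom.ext hcon)
  have hσγ : σ γ ≠ 0 := fun h => hγ ((map_eq_zero σ).1 h)
  by_cases hκ0 : κ = 0
  · refine ⟨(a - σ a) / γ, div_ne_zero (sub_ne_zero.2 (Ne.symm ha)) hγ, ?_⟩
    rw [hκ0, map_div₀, map_sub, hσ2]
    field_simp
    ring
  · obtain ⟨f, hf⟩ : ∃ f : F, f + σ f ≠ 0 := by
      by_cases h1 : a + σ a ≠ 0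
      · exact ⟨a, h1⟩
      rw [not_not] at h1
      refine ⟨1, ?_⟩
      rw [map_one]
      intro h2
      apply ha
      have h3 : σ a = -a := by linear_combination h1
      have h4 : (-a : F) = a := by linear_combination (-a) * h2
      rw [h3, h4]
    have hf0 : f ≠ 0 := by
      rintro rfl
      simp at hf
    have hσf : σ f ≠ 0 := fun h => hf0 ((map_eq_zero σ).1 h)
    refine ⟨-(f + σ f) * σ γ / (κ * σ f), ?_, ?_⟩
    · exact div_ne_zero (mul_ne_zero (neg_ne_zero.2 hf) hσγ) (mul_ne_zero hκ0 hσf)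
    · rw [map_div₀, map_mul, map_mul, map_neg, map_add, hσ2, hσ2, hκ]
      field_simp
      ring

theorem key [Finite F] [FiniteDimensional F V] (hσ : σ ≠ RingHom.id F)
    (hσ2 : ∀ a : F, σ (σ a) = a) (hS : B.IsSymm) (hB : B.Nondegenerate)
    (X₀ : Submodule F V) (x y : V) (hx : x ∉ X₀) (hy : y ∉ X₀) (hn : B y y = B x x)
    (hperp : ∀ h ∈ X₀, B (y - x) h = 0) :
    ∃ t : V ≃ₗ[F] V, (∀ u v, B (t u) (t v) = B u v) ∧ (∀ h ∈ X₀, t h = h) ∧ t x = y := by
  by_cases h0 : B (y - x) x ≠ 0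
  · exact step B hS hB X₀ x y h0 hn hperp
  rw [not_not] at h0
  -- find w ⊥ X₀ with B w x ≠ 0 and B w y ≠ 0
  obtain ⟨w₁, hw₁, hw₁x⟩ := exists_perp B hB X₀ x hx
  obtain ⟨w₂, hw₂, hw₂y⟩ := exists_perp B hB X₀ y hy
  have : ∃ w, (∀ h ∈ X₀, B w h = 0) ∧ B w x ≠ 0 ∧ B w y ≠ 0 := by
    by_cases h1 : B w₁ y ≠ 0
    · exact ⟨w₁, hw₁, hw₁x, h1⟩
    rw [not_not] at h1
    by_cases h2 : B w₂ x ≠ 0
    · exact ⟨w₂, hw₂, h2, hw₂y⟩
    rw [not_not] at h2
    refine ⟨w₁ + w₂, ?_, ?_, ?_⟩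
    · intro h hh
      rw [map_add, LinearMap.add_apply, hw₁ h hh, hw₂ h hh, add_zero]
    · rw [map_add, LinearMap.add_apply, h2, add_zero]; exact hw₁x
    · rw [map_add, LinearMap.add_apply, h1, zero_add]; exact hw₂y
  obtain ⟨w, hw, hwx, hwy⟩ := this
  have hxw : B x w ≠ 0 := by
    rw [← hS.eq w x]; exact fun h => hwx ((map_eq_zero σ).1 h)
  have hκ : σ (B w w) = B w w := hS.eq w w
  obtain ⟨c, hc0, hc⟩ := norm_eq hσ hσ2 (B x w) (B w w) hxw hκ
  rw [hS.eq x w] at hc
  have hσc : σ c ≠ 0 := fun h => hc0 ((map_eq_zero σ).1 h)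
  obtain ⟨u, hu⟩ : ∃ u, u = x + c • w := ⟨_, rfl⟩
  have hux : u - x = c • w := by rw [hu]; abel
  have hnu : B u u = B x x := by
    rw [hu]
    simp only [map_add, LinearMap.add_apply, B_smul_left, B_smul_right]
    linear_combination hc
  have h1 : B (u - x) x ≠ 0 := by
    rw [hux, B_smul_left]
    exact mul_ne_zero hσc hwx
  have hp1 : ∀ h ∈ X₀, B (u - x) h = 0 := by
    intro h hh
    rw [hux, B_smul_left, hw h hh, mul_zero]
  have hyu : y - u = (y - x) - c • w := by rw [hu]; abel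
  have hzw : B (y - x) w = B y w - B x w := by
    rw [map_sub, LinearMap.sub_apply]
  have h2 : B (y - u) u ≠ 0 := by
    have e : B (y - u) u = c * B y w := by
      rw [hyu, hu]
      simp only [map_add, map_sub, LinearMap.sub_apply, B_smul_left,
        B_smul_right]
      have h0' : B y x - B x x = 0 := by
        rw [← h0, map_sub, LinearMap.sub_apply]
      linear_combination h0' - hc
    rw [e]
    refine mul_ne_zero hc0 ?_
    rw [← hS.eq w y]; exact fun h => hwy ((map_eq_zero σ).1 h)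
  have hp2 : ∀ h ∈ X₀, B (y - u) h = 0 := by
    intro h hh
    rw [hyu, map_sub, LinearMap.sub_apply, hperp h hh, B_smul_left, hw h hh, mul_zero, sub_zero]
  obtain ⟨t₁, ht₁iso, ht₁fix, ht₁x⟩ := step B hS hB X₀ x u h1 hnu hp1
  obtain ⟨t₂, ht₂iso, ht₂fix, ht₂x⟩ := step B hS hB X₀ u y h2 (by rw [hn, hnu]) hp2
  refine ⟨t₁.trans t₂, ?_, ?_, ?_⟩
  · intro a b
    simp only [LinearEquiv.trans_apply]
    rw [ht₂iso, ht₁iso]
  · intro z hz
    simp only [LinearEquiv.trans_apply]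
    rw [ht₁fix z hz, ht₂fix z hz]
  · simp only [LinearEquiv.trans_apply]
    rw [ht₁x, ht₂x]

/-- Witt for linearly independent families -/
theorem witt_family [Finite F] [FiniteDimensional F V] (hσ : σ ≠ RingHom.id F)
    (hσ2 : ∀ a : F, σ (σ a) = a) (hS : B.IsSymm) (hB : B.Nondegenerate) (n : ℕ) :
    ∀ (x y : Fin n → V), LinearIndependent F x → LinearIndependent F y →
      (∀ i j, B (y i) (y j) = B (x i) (x j)) →
      ∃ g : V ≃ₗ[F] V, (∀ u v, B (g u) (g v) = B u v) ∧ ∀ i, g (x i) = y i := by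
  induction n with
  | zero =>
    intro x y _ _ _
    exact ⟨LinearEquiv.refl F V, fun u v => rfl, fun i => i.elim0⟩
  | succ n ih =>
    intro x y hx hy hxy
    have hx' : LinearIndependent F (Fin.init x) := hx.comp _ (Fin.castSucc_injective n)
    have hy' : LinearIndependent F (Fin.init y) := hy.comp _ (Fin.castSucc_injective n)
    obtain ⟨g₀, hg₀iso, hg₀⟩ := ih (Fin.init x) (Fin.init y) hx' hy'
      (fun i j => hxy (Fin.castSucc i) (Fin.castSucc j))
    obtain ⟨X₀, hX₀⟩ : ∃ X₀ : Submodule F V, X₀ = Submodule.span F (Set.range (Fin.init x)) :=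
      ⟨_, rfl⟩
    obtain ⟨x₁, hx₁⟩ : ∃ x₁ : V, x₁ = x (Fin.last n) := ⟨_, rfl⟩
    obtain ⟨y₁, hy₁⟩ : ∃ y₁ : V, y₁ = g₀.symm (y (Fin.last n)) := ⟨_, rfl⟩
    have hx₁X₀ : x₁ ∉ X₀ := by
      have := hx
      rw [← Fin.snoc_init_self x, linearIndependent_finSnoc] at this
      rw [hx₁, hX₀]
      exact this.2
    have hg₀X₀ : ∀ z ∈ X₀, g₀ z ∈ Submodule.span F (Set.range (Fin.init y)) := by
      intro z hz
      have : X₀ ≤ (Submodule.span F (Set.range (Fin.init y))).comap (g₀ : V →ₗ[F] V) := by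
        rw [hX₀, Submodule.span_le]
        rintro _ ⟨i, rfl⟩
        show g₀ (Fin.init x i) ∈ Submodule.span F (Set.range (Fin.init y))
        rw [hg₀ i]
        exact Submodule.subset_span ⟨i, rfl⟩
      exact this hz
    have hy₁X₀ : y₁ ∉ X₀ := by
      intro hcon
      have h1 := hg₀X₀ y₁ hcon
      rw [hy₁, LinearEquiv.apply_symm_apply] at h1
      have := hy
      rw [← Fin.snoc_init_self y, linearIndependent_finSnoc] at this
      exact this.2 h1
    have hn₁ : B y₁ y₁ = B x₁ x₁ := by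
      rw [← hg₀iso y₁ y₁, hy₁, LinearEquiv.apply_symm_apply, hx₁]
      exact hxy (Fin.last n) (Fin.last n)
    have hperp : ∀ z ∈ X₀, B (y₁ - x₁) z = 0 := by
      have : X₀ ≤ LinearMap.ker (B (y₁ - x₁)) := by
        rw [hX₀, Submodule.span_le]
        rintro _ ⟨i, rfl⟩
        rw [SetLike.mem_coe, LinearMap.mem_ker, map_sub, LinearMap.sub_apply, sub_eq_zero]
        have h1 : B y₁ (Fin.init x i) = B (g₀ y₁) (g₀ (Fin.init x i)) := (hg₀iso _ _).symm
        rw [h1, hy₁, LinearEquiv.apply_symm_apply, hg₀ i, hx₁]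
        exact hxy (Fin.last n) (Fin.castSucc i)
      intro z hz
      exact this hz
    obtain ⟨t, htiso, htfix, htx⟩ := key B hσ hσ2 hS hB X₀ x₁ y₁ hx₁X₀ hy₁X₀ hn₁ hperp
    refine ⟨t.trans g₀, ?_, ?_⟩
    · intro u v
      simp only [LinearEquiv.trans_apply]
      rw [hg₀iso, htiso]
    · intro i
      simp only [LinearEquiv.trans_apply]
      refine Fin.lastCases ?_ (fun i => ?_) i
      · rw [← hx₁, htx, hy₁, LinearEquiv.apply_symm_apply]
      · have : x (Fin.castSucc i) ∈ X₀ := by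
          rw [hX₀]; exact Submodule.subset_span ⟨i, rfl⟩
        rw [htfix _ this]
        exact hg₀ i

/-- Witt's Lemma for Hermitian forms. Let σ be a non-identity involutive automorphism of a finite field F and B a non-degenerate σ-sesquilinear form on a finite-dimensional F-space V which is conjugate-symmetric (σ (B x y) = B y x). Then every linear equivalence between subspaces X, Y of V preserving B extends to a B-preserving linear automorphism of V. -/
theorem result {F V : Type*} [Field F] [Finite F] [AddCommGroup V] [Module F V] [FiniteDimensional F V] (σ : F →+* F) (hσ : σ ≠ RingHom.id F) (hσ2 : ∀ a : F, σ (σ a) = a) (B : V →ₛₗ[σ] V →ₗ[F] F) (hS : B.IsSymm) (hB : B.Nondegenerate) (X Y : Submodule F V) (φ : X ≃ₗ[F] Y) (hφ : ∀ x x' : X, B (φ x : V) (φ x' : V) = B (x : V) (x' : V)) : ∃ g : V ≃ₗ[F] V, (∀ u v : V, B (g u) (g v) = B u v) ∧ ∀ x : X, g (x : V) = (φ x : V) := by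
  let bX := Module.finBasis F X
  have hx : LinearIndependent F (fun i => (bX i : V)) :=
    bX.linearIndependent.map' X.subtype (Submodule.ker_subtype X)
  have hy : LinearIndependent F (fun i => (φ (bX i) : V)) := by
    have h1 : LinearIndependent F (fun i => φ (bX i)) :=
      bX.linearIndependent.map' (φ : X →ₗ[F] Y) φ.ker
    exact h1.map' Y.subtype (Submodule.ker_subtype Y)
  obtain ⟨g, hgiso, hg⟩ := witt_family B hσ hσ2 hS hB _ _ _ hx hy (fun i j => hφ (bX i) (bX j))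
  refine ⟨g, hgiso, ?_⟩
  have : (g : V →ₗ[F] V).comp X.subtype = Y.subtype.comp (φ : X →ₗ[F] Y) := by
    apply bX.ext
    intro i
    exact hg i
  intro x
  exact congrArg (fun f : X →ₗ[F] V => f x) this

end Cfsg.Agent.S0751
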