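import Cfsg.Statements.S0514
import Cfsg.Agent.Lib.L0.DihedralInv
import Cfsg.Agent.Lib.H6.FourSC
import Cfsg.Agent.Lib.H1.Complement
-- import your own Cfsg.Agent.* helpers here

set_option autoImplicit false
open Cfsg

namespace Cfsg.Agent.S0514

open Cfsg.Agent.Lib.L0 Cfsg.Agent.Lib.H10

/-- In a group with dihedral Sylow 2-subgroups, the centralizer of an involution satisfies the
Frobenius hypothesis for the prime 2. -/
theorem frobHyp_centralizer {X : Type*} [Group X] [Finite X]
    (S : Sylow 2 X) (n : ℕ) (hn : 2 ≤ n) (eS : (S : Subgroup X) ≃* DihedralGroup n) (t : X)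
    (ht : orderOf t = 2) : FrobHyp 2 (Subgroup.centralizer ({t} : Set X)) := by
  have hp2 : Fact (Nat.Prime 2) := ⟨Nat.prime_two⟩
  have hnne : NeZero n := ⟨by omega⟩
  set H := Subgroup.centralizer ({t} : Set X) with hH
  have htH : t ∈ H := by
    rw [hH, Subgroup.mem_centralizer_iff]
    intro y hy
    rw [Set.mem_singleton_iff.mp hy]
  have hcommH : ∀ h ∈ H, t * h = h * t := by
    intro h hh
    rw [hH, Subgroup.mem_centralizer_iff] at hh
    exact hh t rfl
  have ht1 : t ≠ 1 := by
    intro h; rw [h, orderOf_one] at ht; omega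
  intro Q hQ g hg hodd
  set t' : H := ⟨t, htH⟩ with ht'
  -- enlarge `Q` by the central involution
  have hZ2 : IsPGroup 2 (Subgroup.zpowers t') := by
    apply IsPGroup.of_card (n := 1)
    rw [Nat.card_zpowers, Subgroup.orderOf_mk, ht, pow_one]
  have hQnorm : Q ≤ Subgroup.normalizer ((Subgroup.zpowers t' : Subgroup H) : Set H) := by
    intro q _
    rw [Subgroup.mem_normalizer_iff]
    intro y
    have hcomm : ∀ y : H, q * y * q⁻¹ ∈ Subgroup.zpowers t' ↔ y ∈ Subgroup.zpowers t' := by
      intro y
      constructor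
      · intro hy
        obtain ⟨k, hk⟩ := Subgroup.mem_zpowers_iff.mp hy
        have hqt : q⁻¹ * t' ^ k * q = t' ^ k := by
          have h1 : Commute q t' := by
            apply Subtype.ext
            exact (hcommH q q.2).symm
          have h2 : Commute q (t' ^ k) := h1.zpow_right k
          rw [mul_assoc, ← h2.eq, ← mul_assoc, inv_mul_cancel, one_mul]
        have : y = q⁻¹ * (q * y * q⁻¹) * q := by group
        rw [this, ← hk, hqt]
        exact Subgroup.zpow_mem _ (Subgroup.mem_zpowers _) k
      · intro hy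
        obtain ⟨k, hk⟩ := Subgroup.mem_zpowers_iff.mp hy
        have h1 : Commute q t' := by
          apply Subtype.ext
          exact (hcommH q q.2).symm
        have h2 : Commute q (t' ^ k) := h1.zpow_right k
        rw [← hk, h2.eq, mul_assoc, mul_inv_cancel, mul_one]
        exact Subgroup.zpow_mem _ (Subgroup.mem_zpowers _) k
    exact (hcomm y).symm
  have hQ2 : IsPGroup 2 (Q ⊔ Subgroup.zpowers t' : Subgroup H) :=
    IsPGroup.to_sup_of_normal_right' hQ hZ2 hQnorm
  have hQ2' : IsPGroup 2 ((Q ⊔ Subgroup.zpowers t' : Subgroup H).map H.subtype) := hQ2.map _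
  obtain ⟨P, hP⟩ := hQ2'.exists_le_sylow
  obtain ⟨x, hx⟩ := MulAction.exists_smul_eq X S P
  have hPeq : (P : Subgroup X) = (S : Subgroup X).map (MulAut.conj x).toMonoidHom := by
    rw [← hx, coe_smul_sylow_eq_map]
  let eP : (P : Subgroup X) ≃* DihedralGroup n :=
    ((MulEquiv.subgroupCongr hPeq).trans ((MulAut.conj x).subgroupMap (S : Subgroup X)).symm).trans eS
  obtain ⟨R₀, -, hcyc, h2, h3, -⟩ := exists_dihedral_rotation_subgroup (P : Subgroup X) n eP
  set Q' := Q.map H.subtype with hQ'
  have hQ'P : Q' ≤ (P : Subgroup X) :=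
    (Subgroup.map_mono le_sup_left).trans hP
  have htP : t ∈ (P : Subgroup X) := by
    apply hP
    exact ⟨t', Subgroup.mem_sup_right (Subgroup.mem_zpowers t'), rfl⟩
  have hg' : (g : X) ∈ Subgroup.normalizer (Q' : Set X) := by
    apply mem_normalizer_of_forall_conj_mem
    rintro _ ⟨q, hq, rfl⟩
    refine ⟨g * q * g⁻¹, (Subgroup.mem_normalizer_iff.mp hg q).mp hq, ?_⟩
    simp
  have hodd' : (orderOf (g : X)).Coprime 2 := by rw [Subgroup.orderOf_coe]; exact hodd
  have hQ'H : ∀ q ∈ Q', q ∈ H := by
    rintro _ ⟨q, -, rfl⟩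
    exact q.2
  have hcent : (g : X) ∈ Subgroup.centralizer (Q' : Set X) := by
    apply mem_centralizer_of_dihedralLike (P : Subgroup X) R₀ P.2 hcyc h2 h3 Q' hQ'P (g : X) hg' hodd'
    intro hK
    -- `t ∈ Q'` since four-subgroups of dihedral groups are self-centralizing
    have hFour : Cfsg.Agent.Lib.H6.FourSC.FourSC (P : Subgroup X) :=
      Cfsg.Agent.Lib.H6.FourSC.FourSC.of_equiv eP Cfsg.Agent.Lib.H6.FourSC.fourSC_dihedral
    have htQ' : t ∈ Q' := by
      have h1 := hFour (Q'.subgroupOf (P : Subgroup X))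
        (by rw [Cfsg.Agent.Lib.H1.card_subgroupOf_of_le hQ'P]; exact hK.card_four)
        (by
          intro v hv
          rw [Subgroup.mem_subgroupOf] at hv
          have h5 := IsKleinFour.mul_self (⟨(v : X), hv⟩ : Q')
          have h6 : (v : X) * (v : X) = 1 := by
            have h7 := congrArg (fun w : Q' => (w : X)) h5
            simpa using h7
          apply Subtype.ext
          exact h6)
        ⟨t, htP⟩
        (by
          intro v hv
          rw [Subgroup.mem_subgroupOf] at hv
          apply Subtype.ext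
          exact hcommH _ (hQ'H _ hv))
      rw [Subgroup.mem_subgroupOf] at h1
      exact h1
    have hgt : (g : X) * t * (g : X)⁻¹ = t := by
      rw [← hcommH _ g.2, mul_assoc, mul_inv_cancel, mul_one]
    exact klein_fix Q' hK t htQ' ht1 (g : X) hg' hgt hodd'
  rw [Subgroup.mem_centralizer_iff] at hcent ⊢
  intro q hq
  apply Subtype.ext
  exact hcent _ ⟨q, hq, rfl⟩

/-- In a finite group whose Sylow 2-subgroups are dihedral of order at least 4, the centralizer of any involution has a
normal subgroup of odd order whose index in the centralizer is a power of 2. -/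
theorem result {X : Type*} [Group X] [Finite X]
    (S : Sylow 2 X) (n : ℕ) (hn : 2 ≤ n) (hS : Nonempty ((S : Subgroup X) ≃* DihedralGroup n)) (t : X)
    (ht : orderOf t = 2) :
    ∃ N : Subgroup (Subgroup.centralizer ({t} : Set X)), N.Normal ∧ Odd (Nat.card N) ∧ ∃ k : ℕ, N.index = 2 ^ k := by
  have hp2 : Fact (Nat.Prime 2) := ⟨Nat.prime_two⟩
  obtain ⟨eS⟩ := hS
  have h := Cfsg.Agent.Lib.L0.hasNormalPComplement_of_frobHyp (frobHyp_centralizer S n hn eS t ht)
  obtain ⟨N, hN, hodd, hidx⟩ := Cfsg.Agent.Lib.L0.HasNormalPComplement.exists_normal h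
  refine ⟨N, hN, ?_, hidx⟩
  rw [Nat.odd_iff]
  omega

end Cfsg.Agent.S0514
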