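import Cfsg.Statements.S0801
import Cfsg.Agent.Lib.H4.Dickson.CardNine

set_option autoImplicit false
open Cfsg

namespace Cfsg.Agent.S0801

open Matrix Cfsg.Agent.Lib.H4.Dickson Cfsg.Agent.Lib.H4.Dickson.F9

theorem prime_eq_three {p k : ℕ} (hp : p.Prime) (h : 3 = p ^ k) : p = 3 := by
  have hk : k ≠ 0 := by
    rintro rfl
    simp at h
  have : p ∣ 3 := by rw [h]; exact dvd_pow_self p hk
  exact (Nat.prime_dvd_prime_iff_eq hp Nat.prime_three).1 this

/-- Let F be a finite field of odd characteristic and λ ≠ 0 an element generating F as a field. Then the lower and upper unitriangular matrices with off-diagonal entries 1 and λ generate SL_2(F), unless |F| = 9 and λ² = −1, in which case they generate a subgroup of order 120. -/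
theorem result {F : Type*} [Field F] [Fintype F] (h2 : (2 : F) ≠ 0) (lam : F) (hlam : lam ≠ 0) (hgen : Subfield.closure ({lam} : Set F) = ⊤) : (Subgroup.closure {g : Matrix.SpecialLinearGroup (Fin 2) F | (g : Matrix (Fin 2) (Fin 2) F) = !![1, 0; 1, 1] ∨ (g : Matrix (Fin 2) (Fin 2) F) = !![1, lam; 0, 1]} = ⊤ ∧ ¬ (Fintype.card F = 9 ∧ lam ^ 2 = -1)) ∨ (Fintype.card F = 9 ∧ lam ^ 2 = -1 ∧ Nat.card ↥(Subgroup.closure {g : Matrix.SpecialLinearGroup (Fin 2) F | (g : Matrix (Fin 2) (Fin 2) F) = !![1, 0; 1, 1] ∨ (g : Matrix (Fin 2) (Fin 2) F) = !![1, lam; 0, 1]}) = 120) := by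
  classical
  obtain ⟨L, hLdef⟩ : ∃ L : Subgroup (Matrix.SpecialLinearGroup (Fin 2) F), L = Subgroup.closure
    {g : Matrix.SpecialLinearGroup (Fin 2) F | (g : Matrix (Fin 2) (Fin 2) F) = !![1, 0; 1, 1] ∨
      (g : Matrix (Fin 2) (Fin 2) F) = !![1, lam; 0, 1]} := ⟨_, rfl⟩
  rw [← hLdef]
  have hM : ll (1 : F) ∈ L := by
    rw [hLdef]; exact Subgroup.subset_closure (Or.inl (ll_val 1))
  have hL : uu lam ∈ L := by
    rw [hLdef]; exact Subgroup.subset_closure (Or.inr (uu_val lam))
  obtain ⟨p, hpc⟩ : ∃ p : ℕ, CharP F p := ⟨ringChar F, inferInstance⟩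
  haveI := hpc
  have hpp : p.Prime := CharP.char_is_prime F p
  haveI : Fact p.Prime := ⟨hpp⟩
  have hp2 : p ≠ 2 := by
    rintro rfl
    apply h2
    have := CharP.cast_eq_zero F 2
    exact_mod_cast this
  have one_ne : (1 : F) ≠ 0 := one_ne_zero
  rcases dichotomy p hp2 hlam hL one_ne hM with hidx | ⟨hq, hr, hidx⟩
  · -- the generic case
    left
    have htop := eq_top_of_generic p hp2 hidx hL hM hgen
    refine ⟨htop, ?_⟩
    rintro ⟨h9, hsq⟩
    -- `p = 3`
    obtain ⟨n, -, hn⟩ := FiniteField.card F p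
    have hp3 : p = 3 := by
      rw [h9] at hn
      have hd : p ∣ 3 ^ 2 := by
        rw [show (3 : ℕ) ^ 2 = 9 by norm_num, hn]
        exact dvd_pow_self p n.ne_zero
      exact (Nat.prime_dvd_prime_iff_eq hpp Nat.prime_three).1 (hpp.dvd_of_dvd_pow hd)
    subst hp3
    have hle := card_closure_le hsq
    rw [← hLdef] at hle
    -- but `|L| = 10 * 9 * r` with `r` even
    have hall : ∀ a : F, a ∈ AA L := fun a => by rw [mem_AA, htop]; exact Subgroup.mem_top _
    have hqA : Nat.card (AA L) = 9 := by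
      have : (AA L) = ⊤ := by
        rw [eq_top_iff]; intro a _; exact hall a
      rw [this, Nat.card_congr (AddSubgroup.topEquiv (G := F)).toEquiv, Nat.card_eq_fintype_card, h9]
    have hneg : (-1 : Matrix.SpecialLinearGroup (Fin 2) F) ∈ L := by
      rw [htop]; exact Subgroup.mem_top _
    have hz := card_ZL_of_neg_one_mem hneg
    have hdvd := card_ZL_dvd (L := L)
    rw [hz] at hdvd
    have hrpos : 0 < Nat.card (RR L) := Nat.card_pos
    have hr2 : 2 ≤ Nat.card (RR L) := Nat.le_of_dvd hrpos hdvd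
    have hcard : Nat.card L = 10 * (9 * Nat.card (RR L)) := by
      rw [← Subgroup.card_mul_index (SS L), hidx, card_SS, hqA]; ring
    rw [hcard] at hle
    omega
  · -- the exceptional case
    obtain ⟨k, hk⟩ := card_AA_pow (L := L) p
    have hp3 : p = 3 := prime_eq_three hpp (hq.symm.trans hk)
    subst hp3
    by_cases h1A : (1 : F) ∈ AA L
    · left
      have hlam1 : lam = 1 ∨ lam = -1 := by
        rcases AA_cases hq hlam hL h1A with h | h | h
        · exact absurd h one_ne
        · exact Or.inl h.symm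
        · right; rw [h, neg_neg]
      have hcc : ∃ k : ZMod 3, lam = cc F k := by
        rcases hlam1 with h | h
        · exact ⟨1, by rw [h, map_one]⟩
        · exact ⟨-1, by rw [h, map_neg, map_one]⟩
      obtain ⟨k0, hk0⟩ := hcc
      have hall : ∀ a : F, ∃ j : ZMod 3, a = cc F j := exists_cc_eq hgen k0 hk0
      refine ⟨?_, ?_⟩
      · apply eq_top_of_all
        · intro a
          obtain ⟨j, rfl⟩ := hall a
          have := cc_mul_mem (AA L) h1A j
          rwa [mul_one] at this
        · intro b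
          obtain ⟨j, rfl⟩ := hall b
          have := cc_mul_mem (BB L) ((mem_BB L).2 hM) j
          rwa [mul_one] at this
      · rintro ⟨-, hsq⟩
        apply h2
        rcases hlam1 with h | h <;> rw [h] at hsq <;> linear_combination hsq
    · right
      have hnu : (1 : F)⁻¹ ∉ AA L := by rwa [inv_one]
      have hsq := exc_sq hq hr hidx hlam hL one_ne hM hnu
      rw [mul_one] at hsq
      refine ⟨card_eq_nine hsq hgen, hsq, ?_⟩
      have hneg := neg_one_mem_of_sq hL hM (by rwa [mul_one])
      exact card_L_exc hq hr hidx hneg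

end Cfsg.Agent.S0801
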