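import Mathlib
import Cfsg.Statements.S0879

set_option autoImplicit false
open Cfsg

namespace Cfsg.Agent.S0879

open Subgroup MulAction

theorem result {G Ω : Type*} [Group G] [Finite G] [MulAction G Ω] [Fintype Ω] (hZ : Cfsg.IsZassenhausGroup G Ω) {a b : Ω} (hab : a ≠ b) : (∀ g : G, g ∉ Subgroup.normalizer ((MulAction.stabilizer G a ⊓ MulAction.stabilizer G b : Subgroup G) : Set G) → ∀ x ∈ (MulAction.stabilizer G a ⊓ MulAction.stabilizer G b : Subgroup G), g * x * g⁻¹ ∈ (MulAction.stabilizer G a ⊓ MulAction.stabilizer G b : Subgroup G) → x = 1) ∧ ((MulAction.stabilizer G a ⊓ MulAction.stabilizer G b : Subgroup G).subgroupOf (Subgroup.normalizer ((MulAction.stabilizer G a ⊓ MulAction.stabilizer G b : Subgroup G) : Set G))).index = 2 := by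
  obtain ⟨_, h2t, h3, ⟨g₀, hg₀1, c₀, d₀, hcd, hg₀c, hg₀d⟩, _⟩ := hZ
  rw [MulAction.is_two_pretransitive_iff] at h2t
  set D : Subgroup G := MulAction.stabilizer G a ⊓ MulAction.stabilizer G b with hD
  have memD : ∀ x : G, x ∈ D ↔ x • a = a ∧ x • b = b := by
    intro x
    rw [hD, Subgroup.mem_inf, MulAction.mem_stabilizer_iff, MulAction.mem_stabilizer_iff]
  -- non-identity elements of D fix only a and b
  have hfix : ∀ x ∈ D, x ≠ 1 → ∀ c : Ω, x • c = c → c = a ∨ c = b := by
    intro x hx hx1 c hc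
    by_contra hcon
    push Not at hcon
    rw [memD] at hx
    exact hx1 (h3 x a b c hab (Ne.symm hcon.2) (Ne.symm hcon.1) hx.1 hx.2 hc)
  -- elements preserving {a, b}
  let Pres : G → Prop := fun g => (g • a = a ∧ g • b = b) ∨ (g • a = b ∧ g • b = a)
  have pres_inv : ∀ g : G, Pres g → Pres g⁻¹ := by
    rintro g (⟨h1, h2⟩ | ⟨h1, h2⟩)
    · left
      exact ⟨by rw [inv_smul_eq_iff, h1], by rw [inv_smul_eq_iff, h2]⟩
    · right
      exact ⟨by rw [inv_smul_eq_iff, h2], by rw [inv_smul_eq_iff, h1]⟩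
  have conj_mem : ∀ g : G, Pres g → ∀ h ∈ D, g * h * g⁻¹ ∈ D := by
    intro g hg h hh
    rw [memD] at hh ⊢
    rcases pres_inv g hg with ⟨h1, h2⟩ | ⟨h1, h2⟩
    · rcases hg with ⟨k1, k2⟩ | ⟨k1, k2⟩
      · exact ⟨by rw [mul_smul, mul_smul, h1, hh.1, k1], by rw [mul_smul, mul_smul, h2, hh.2, k2]⟩
      · exfalso
        have : g⁻¹ • g • a = a := inv_smul_smul g a
        rw [k1, h2] at this
        exact hab this.symm
    · rcases hg with ⟨k1, k2⟩ | ⟨k1, k2⟩
      · exfalso
        have : g⁻¹ • g • a = a := inv_smul_smul g a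
        rw [k1, h1] at this
        exact hab this.symm
      · exact ⟨by rw [mul_smul, mul_smul, h1, hh.2, k2], by rw [mul_smul, mul_smul, h2, hh.1, k1]⟩
  have hnorm : ∀ g : G, Pres g → g ∈ normalizer (D : Set G) := by
    intro g hg
    rw [mem_normalizer_iff]
    intro h
    constructor
    · exact conj_mem g hg h
    · intro hh
      have := conj_mem g⁻¹ (pres_inv g hg) _ hh
      have e : g⁻¹ * (g * h * g⁻¹) * g⁻¹⁻¹ = h := by group
      rwa [e] at this
  have hpres : ∀ g x : G, x ∈ D → x ≠ 1 → g * x * g⁻¹ ∈ D → Pres g := by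
    intro g x hx hx1 hy
    have hy1 : g * x * g⁻¹ ≠ 1 := by
      intro h1
      apply hx1
      have : x = g⁻¹ * (g * x * g⁻¹) * g := by group
      rw [this, h1]; group
    have hxm := (memD x).mp hx
    have ha' : (g * x * g⁻¹) • (g • a) = g • a := by
      rw [mul_smul, mul_smul, inv_smul_smul, hxm.1]
    have hb' : (g * x * g⁻¹) • (g • b) = g • b := by
      rw [mul_smul, mul_smul, inv_smul_smul, hxm.2]
    have hne : g • a ≠ g • b := fun h => hab (MulAction.injective g h)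
    rcases hfix _ hy hy1 _ ha' with h1 | h1 <;> rcases hfix _ hy hy1 _ hb' with h2 | h2
    · exact absurd (h1.trans h2.symm) hne
    · exact Or.inl ⟨h1, h2⟩
    · exact Or.inr ⟨h1, h2⟩
    · exact absurd (h1.trans h2.symm) hne
  refine ⟨?_, ?_⟩
  · intro g hg x hx hy
    by_contra hx1
    exact hg (hnorm g (hpres g x hx hx1 hy))
  · -- D is nontrivial
    obtain ⟨k, hk1, hk2⟩ := h2t hcd hab
    have hx₀ : k * g₀ * k⁻¹ ∈ D := by
      rw [memD]
      constructor
      · rw [mul_smul, mul_smul, ← hk1, inv_smul_smul, hg₀c]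
      · rw [mul_smul, mul_smul, ← hk2, inv_smul_smul, hg₀d]
    have hx₀1 : k * g₀ * k⁻¹ ≠ 1 := by
      intro h1
      apply hg₀1
      have : g₀ = k⁻¹ * (k * g₀ * k⁻¹) * k := by group
      rw [this, h1]; group
    obtain ⟨t, ht1, ht2⟩ := h2t hab hab.symm
    show D.relIndex (normalizer (D : Set G)) = 2
    rw [relIndex_eq_two_iff_exists_notMem_and]
    refine ⟨t, hnorm t (Or.inr ⟨ht1, ht2⟩), ?_, ?_⟩
    · intro htD
      rw [memD] at htD
      exact hab (htD.1.symm.trans ht1)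
    · intro g hg
      have hconj : g * (k * g₀ * k⁻¹) * g⁻¹ ∈ D := (mem_normalizer_iff.mp hg _).mp hx₀
      rcases hpres g _ hx₀ hx₀1 hconj with ⟨h1, h2⟩ | ⟨h1, h2⟩
      · right
        rw [memD]
        exact ⟨h1, h2⟩
      · left
        rw [memD]
        exact ⟨by rw [mul_smul, ht1, h2], by rw [mul_smul, ht2, h1]⟩

end Cfsg.Agent.S0879
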