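import Cfsg.Statements.S0681
import Cfsg.Agent.Lib.H4.NearFieldBasic

set_option autoImplicit false
open Cfsg

namespace Cfsg.Agent.S0681

open Cfsg.Agent.Lib.H4.NF

variable {F : Type*} [Cfsg.NearField F]

/-- the affine permutation `x ↦ x * a + b`. -/
def aff (a a' b : F) (h1 : a * a' = 1) (h2 : a' * a = 1) : Equiv.Perm F where
  toFun x := x * a + b
  invFun y := (y - b) * a'
  left_inv x := by
    show (x * a + b - b) * a' = x
    rw [add_sub_cancel_right, mul_assoc, h1, mul_one]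
  right_inv y := by
    show (y - b) * a' * a + b = y
    rw [mul_assoc, h2, mul_one, sub_add_cancel]

def affH (F : Type*) [Cfsg.NearField F] : Subgroup (Equiv.Perm F) where
  carrier := {σ | ∃ a b : F, a ≠ 0 ∧ ∀ x : F, σ x = x * a + b}
  one_mem' := ⟨1, 0, one_ne_zero', fun x => by simp⟩
  mul_mem' := by
    rintro σ τ ⟨a, b, ha, hσ⟩ ⟨c, d, hc, hτ⟩
    refine ⟨c * a, d * a + b, mul_ne_zero' ha hc, fun x => ?_⟩
    rw [Equiv.Perm.mul_apply, hτ, hσ, rdistrib, mul_assoc, add_assoc]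
  inv_mem' := by
    rintro σ ⟨a, b, ha, hσ⟩
    obtain ⟨a', h1, h2⟩ := exists_inv' ha
    refine ⟨a', (-b) * a', inv_ne_zero' h1, fun y => ?_⟩
    apply σ.injective
    rw [Equiv.Perm.inv_def, Equiv.apply_symm_apply, hσ, rdistrib, mul_assoc, h2, mul_one,
      mul_assoc, h2, mul_one, neg_add_cancel_right]

theorem mem_affH (σ : Equiv.Perm F) :
    σ ∈ affH F ↔ ∃ a b : F, a ≠ 0 ∧ ∀ x : F, σ x = x * a + b := Iff.rfl

theorem two_trans : MulAction.IsMultiplyPretransitive (affH F) F 2 := by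
  rw [MulAction.is_two_pretransitive_iff]
  intro x1 x2 y1 y2 hx hy
  have hx' : x1 - x2 ≠ 0 := sub_ne_zero.mpr hx
  have hy' : y1 - y2 ≠ 0 := sub_ne_zero.mpr hy
  obtain ⟨u, hu1, hu2⟩ := exists_inv' hx'
  have hu0 : u ≠ 0 := inv_ne_zero' hu1
  have ha : u * (y1 - y2) ≠ 0 := mul_ne_zero' hy' hu0
  obtain ⟨a', h1, h2⟩ := exists_inv' ha
  set a := u * (y1 - y2) with ha_def
  have key : (x1 - x2) * a = y1 - y2 := by
    rw [ha_def, ← mul_assoc, hu1, one_mul]
  have key2 : x1 * a - x2 * a = y1 - y2 := by rw [← sub_mul', key]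
  refine ⟨⟨aff a a' (-(x1 * a) + y1) h1 h2, ?_⟩, ?_, ?_⟩
  · exact ⟨a, _, ha, fun x => rfl⟩
  · show x1 * a + (-(x1 * a) + y1) = y1
    rw [add_neg_cancel_left]
  · show x2 * a + (-(x1 * a) + y1) = y2
    have : x2 * a + -(x1 * a) = -(y1 - y2) := by
      rw [← key2, neg_sub, sub_eq_add_neg]
    rw [← add_assoc, this, neg_sub, sub_add_cancel]

theorem stab_bot (x : Fin 2 ↪ F) : MulAction.stabilizer (affH F) x = ⊥ := by
  rw [Subgroup.eq_bot_iff_forall]
  rintro ⟨σ, a, b, ha, hσ⟩ hg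
  rw [MulAction.mem_stabilizer_iff] at hg
  have h0 : σ (x 0) = x 0 := DFunLike.congr_fun hg 0
  have h1 : σ (x 1) = x 1 := DFunLike.congr_fun hg 1
  rw [hσ] at h0 h1
  have hne : x 0 - x 1 ≠ 0 := by
    rw [sub_ne_zero]
    intro h
    have := x.injective h
    exact absurd this (by decide)
  have e : (x 0 - x 1) * a = x 0 - x 1 := by
    rw [sub_mul']
    have : x 0 * a - x 1 * a = (x 0 * a + b) - (x 1 * a + b) := by
      rw [add_sub_add_right_eq_sub]
    rw [this, h0, h1]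
  obtain ⟨u, hu1, hu2⟩ := exists_inv' hne
  have ha1 : a = 1 := by
    calc a = (u * (x 0 - x 1)) * a := by rw [hu2, one_mul]
      _ = u * ((x 0 - x 1) * a) := by rw [mul_assoc]
      _ = 1 := by rw [e, hu2]
  have hb : b = 0 := by
    rw [ha1, mul_one] at h0
    exact add_left_cancel (a := x 0) (by rw [h0, add_zero])
  apply Subtype.ext
  apply Equiv.ext
  intro y
  show σ y = y
  rw [hσ, ha1, hb, mul_one, add_zero]

theorem result {F : Type*} [Cfsg.NearField F] : ∃ H : Subgroup (Equiv.Perm F), (∀ σ : Equiv.Perm F, σ ∈ H ↔ ∃ a b : F, a ≠ 0 ∧ ∀ x : F, σ x = x * a + b) ∧ MulAction.IsMultiplyPretransitive H F 2 ∧ ∀ x : Fin 2 ↪ F, MulAction.stabilizer H x = ⊥ :=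
  ⟨affH F, mem_affH, two_trans, stab_bot⟩

end Cfsg.Agent.S0681
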