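import Cfsg.Statements.S0683
import Mathlib
import Cfsg.Agent.Lib.H2.FrobAct

set_option autoImplicit false
open Cfsg

namespace Cfsg.Agent.S0683

open Equiv

/-- The data from which the near-field is built. -/
structure Setup (α : Type*) (H : Subgroup (Equiv.Perm α)) where
  N : Subgroup (Equiv.Perm α)
  o : α
  e : α
  hoe : o ≠ e
  τ : α → Equiv.Perm α
  μ : α → Equiv.Perm α
  τ_mem : ∀ b, τ b ∈ N
  τ_o : ∀ b, τ b o = b
  τ_unique : ∀ n ∈ N, n = τ (n o)
  N_le : N ≤ H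
  N_norm : ∀ h ∈ H, ∀ n ∈ N, h * n * h⁻¹ ∈ N
  μ_mem : ∀ a, a ≠ o → μ a ∈ H
  μ_o : ∀ a, a ≠ o → μ a o = o
  μ_e : ∀ a, a ≠ o → μ a e = a
  μ_unique : ∀ h ∈ H, h o = o → h = μ (h e)

namespace Setup

variable {α : Type*} {H : Subgroup (Equiv.Perm α)} (s : Setup α H)

theorem τ_mul (y z : α) : s.τ z * s.τ y = s.τ (s.τ z y) := by
  have := s.τ_unique (s.τ z * s.τ y) (s.N.mul_mem (s.τ_mem z) (s.τ_mem y))
  rw [this, Equiv.Perm.mul_apply, s.τ_o]

theorem μ_ne {a b : α} (ha : a ≠ s.o) (hb : b ≠ s.o) : s.μ b a ≠ s.o := by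
  intro h
  apply ha
  apply (s.μ b).injective
  rw [h, s.μ_o b hb]

theorem μ_mul {a b : α} (ha : a ≠ s.o) (hb : b ≠ s.o) : s.μ b * s.μ a = s.μ (s.μ b a) := by
  have := s.μ_unique (s.μ b * s.μ a) (H.mul_mem (s.μ_mem b hb) (s.μ_mem a ha))
    (by rw [Equiv.Perm.mul_apply, s.μ_o a ha, s.μ_o b hb])
  rw [this, Equiv.Perm.mul_apply, s.μ_e a ha]

theorem μ_one : s.μ s.e = 1 := by
  have := s.μ_unique 1 H.one_mem rfl
  rw [this]
  rfl

open Classical in
/-- multiplication of the near-field -/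
noncomputable def mul (x a : α) : α := if a = s.o then s.o else s.μ a x

/-- addition of the near-field -/
def add (x y : α) : α := s.τ y x

/-- negation of the near-field -/
def neg (y : α) : α := (s.τ y)⁻¹ s.o

theorem mul_o (x : α) : s.mul x s.o = s.o := by simp [mul]

theorem mul_ne {a : α} (ha : a ≠ s.o) (x : α) : s.mul x a = s.μ a x := by simp [mul, ha]

theorem o_mul (a : α) : s.mul s.o a = s.o := by
  by_cases ha : a = s.o
  · rw [ha, mul_o]
  · rw [mul_ne s ha, s.μ_o a ha]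

theorem mul_ne_o {x a : α} (hx : x ≠ s.o) (ha : a ≠ s.o) : s.mul x a ≠ s.o := by
  rw [mul_ne s ha]
  exact s.μ_ne hx ha

theorem mul_assoc' (x a b : α) : s.mul (s.mul x a) b = s.mul x (s.mul a b) := by
  by_cases hb : b = s.o
  · rw [hb, mul_o, mul_o, mul_o]
  by_cases ha : a = s.o
  · rw [ha, mul_o, o_mul, mul_o]
  rw [mul_ne s hb, mul_ne s ha, mul_ne s (mul_ne_o s ha hb), mul_ne s hb, ← s.μ_mul ha hb,
    Equiv.Perm.mul_apply]

theorem e_mul (a : α) : s.mul s.e a = a := by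
  by_cases ha : a = s.o
  · rw [ha, mul_o]
  · rw [mul_ne s ha, s.μ_e a ha]

theorem mul_e (x : α) : s.mul x s.e = x := by
  rw [mul_ne s s.hoe.symm, s.μ_one]
  rfl

theorem add_assoc' (x y z : α) : s.add (s.add x y) z = s.add x (s.add y z) := by
  show s.τ z (s.τ y x) = s.τ (s.τ z y) x
  rw [← s.τ_mul, Equiv.Perm.mul_apply]

theorem o_add (y : α) : s.add s.o y = y := s.τ_o y

theorem neg_add (y : α) : s.add (s.neg y) y = s.o := by
  show s.τ y ((s.τ y)⁻¹ s.o) = s.o
  simp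

theorem τ_conj {c : α} (hc : c ≠ s.o) (y : α) :
    s.μ c * s.τ y * (s.μ c)⁻¹ = s.τ (s.μ c y) := by
  have h1 := s.τ_unique _ (s.N_norm _ (s.μ_mem c hc) _ (s.τ_mem y))
  rw [h1]
  congr 1
  have h2 : (s.μ c)⁻¹ s.o = s.o := by
    rw [Equiv.Perm.inv_eq_iff_eq, s.μ_o c hc]
  rw [Equiv.Perm.mul_apply, Equiv.Perm.mul_apply, h2, s.τ_o]

theorem right_distrib' (x y c : α) : s.mul (s.add x y) c = s.add (s.mul x c) (s.mul y c) := by
  by_cases hc : c = s.o
  · rw [hc, mul_o, mul_o, mul_o, o_add]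
  rw [mul_ne s hc, mul_ne s hc, mul_ne s hc]
  show s.μ c (s.τ y x) = s.τ (s.μ c y) (s.μ c x)
  rw [← s.τ_conj hc]
  simp

theorem exists_inv' (a : α) (ha : a ≠ s.o) : ∃ b, s.mul a b = s.e ∧ s.mul b a = s.e := by
  have hb : (s.μ a)⁻¹ s.e ≠ s.o := by
    intro h
    rw [Equiv.Perm.inv_eq_iff_eq, s.μ_o a ha] at h
    exact s.hoe h.symm
  have hμb : (s.μ a)⁻¹ = s.μ ((s.μ a)⁻¹ s.e) := by
    apply s.μ_unique _ (H.inv_mem (s.μ_mem a ha))
    rw [Equiv.Perm.inv_eq_iff_eq, s.μ_o a ha]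
  refine ⟨(s.μ a)⁻¹ s.e, ?_, ?_⟩
  · rw [mul_ne s hb, ← hμb, Equiv.Perm.inv_eq_iff_eq, s.μ_e a ha]
  · rw [mul_ne s ha]
    simp

/-- the additive group -/
@[reducible] noncomputable def addGroup : AddGroup α :=
  letI : Add α := ⟨s.add⟩
  letI : Zero α := ⟨s.o⟩
  letI : Neg α := ⟨s.neg⟩
  AddGroup.ofLeftAxioms s.add_assoc' s.o_add s.neg_add

/-- the multiplicative monoid -/
@[reducible] noncomputable def monoid : Monoid α where
  mul := s.mul
  one := s.e
  mul_assoc := s.mul_assoc'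
  one_mul := s.e_mul
  mul_one := s.mul_e

/-- the near-field -/
@[reducible] noncomputable def nearField : Cfsg.NearField α :=
  { s.addGroup, s.monoid with
    right_distrib := s.right_distrib'
    mul_zero := s.mul_o
    zero_ne_one := s.hoe
    exists_inv := s.exists_inv' }

theorem mem_iff (σ : Equiv.Perm α) :
    σ ∈ H ↔ ∃ a b : α, a ≠ s.o ∧ ∀ x : α, σ x = s.add (s.mul x a) b := by
  constructor
  · intro hσ
    have hτ : s.τ (σ s.o) ∈ H := s.N_le (s.τ_mem _)
    have hh : (s.τ (σ s.o))⁻¹ * σ ∈ H := H.mul_mem (H.inv_mem hτ) hσ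
    have ho : ((s.τ (σ s.o))⁻¹ * σ) s.o = s.o := by
      rw [Equiv.Perm.mul_apply, Equiv.Perm.inv_eq_iff_eq, s.τ_o]
    have hμ := s.μ_unique _ hh ho
    have hne : ((s.τ (σ s.o))⁻¹ * σ) s.e ≠ s.o := by
      intro h
      have h' : ((s.τ (σ s.o))⁻¹ * σ) s.e = ((s.τ (σ s.o))⁻¹ * σ) s.o := h.trans ho.symm
      exact s.hoe ((Equiv.injective _ h').symm)
    refine ⟨_, σ s.o, hne, fun x => ?_⟩
    rw [mul_ne s hne, ← hμ]
    show σ x = s.τ (σ s.o) (((s.τ (σ s.o))⁻¹ * σ) x)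
    simp
  · rintro ⟨a, b, ha, h⟩
    have : σ = s.τ b * s.μ a := by
      ext x
      rw [h x, mul_ne s ha]
      rfl
    rw [this]
    exact H.mul_mem (s.N_le (s.τ_mem b)) (s.μ_mem a ha)

end Setup

section exist

open MulAction

variable {α : Type*} [Fintype α] [DecidableEq α] (H : Subgroup (Equiv.Perm α))

theorem T2 [h2t : MulAction.IsMultiplyPretransitive H α 2] {a b c d : α} (hab : a ≠ b)
    (hcd : c ≠ d) : ∃ h ∈ H, h a = c ∧ h b = d := by
  obtain ⟨g, h1, h2⟩ := MulAction.is_two_pretransitive_iff.mp h2t hab hcd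
  exact ⟨g, g.2, h1, h2⟩

theorem S2 (hsharp : ∀ x : Fin 2 ↪ α, MulAction.stabilizer H x = ⊥) {h : Equiv.Perm α}
    (hh : h ∈ H) {x y : α} (hxy : x ≠ y) (hx : h x = x) (hy : h y = y) : h = 1 := by
  have hmem : (⟨h, hh⟩ : H) ∈ MulAction.stabilizer H (Function.Embedding.embFinTwo hxy) := by
    rw [MulAction.mem_stabilizer_iff]
    ext i
    change h (Function.Embedding.embFinTwo hxy i) = _
    by_cases hi : i = 0
    · rw [hi, Function.Embedding.embFinTwo_apply_zero]; exact hx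
    · rw [Fin.eq_one_of_ne_zero i hi, Function.Embedding.embFinTwo_apply_one]; exact hy
  rw [hsharp, Subgroup.mem_bot] at hmem
  exact congrArg Subtype.val hmem

/-- A regular normal subgroup. -/
theorem exists_regular_normal [h2t : MulAction.IsMultiplyPretransitive H α 2]
    (hsharp : ∀ x : Fin 2 ↪ α, MulAction.stabilizer H x = ⊥) (h2 : 2 ≤ Fintype.card α) :
    ∃ N : Subgroup (Equiv.Perm α), N ≤ H ∧ (∀ h ∈ H, ∀ n ∈ N, h * n * h⁻¹ ∈ N) ∧
      (∀ x y : α, ∃ n ∈ N, n x = y) ∧ (∀ n ∈ N, ∀ x : α, n x = x → n = 1) := by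
  have htrans : ∀ x y : α, ∃ h ∈ H, h x = y := by
    intro x y
    by_cases hxy : x = y
    · exact ⟨1, H.one_mem, by rw [hxy]; rfl⟩
    · obtain ⟨h, hh, h1, _⟩ := T2 H hxy (Ne.symm hxy)
      exact ⟨h, hh, h1⟩
  by_cases h3 : Fintype.card α = 2
  · refine ⟨H, le_rfl, fun h hh n hn => H.mul_mem (H.mul_mem hh hn) (H.inv_mem hh), htrans, ?_⟩
    intro n hn x hx
    have hother : ∃ y, y ≠ x ∧ ∀ z, z = x ∨ z = y := by
      have hc : Nat.card α = 2 := by rw [Nat.card_eq_fintype_card]; exact h3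
      obtain ⟨y, hy, huniq⟩ := (Nat.card_eq_two_iff' x).mp hc
      refine ⟨y, hy, fun z => ?_⟩
      by_cases hz : z = x
      · exact Or.inl hz
      · exact Or.inr (huniq z hz)
    obtain ⟨y, hyx, hall⟩ := hother
    have hy : n y = y := by
      rcases hall (n y) with h | h
      · exfalso
        rw [← hx] at h
        exact hyx (n.injective h)
      · exact h
    exact S2 H hsharp hn (Ne.symm hyx) hx hy
  · have h3' : 3 ≤ Fintype.card α := by omega
    have hfrob : Cfsg.Agent.Lib.H2.FrobAct.IsFrobAct ↥H (Set.univ : Set α) := by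
      refine ⟨fun _ _ _ => Set.mem_univ _, ?_, ?_, ?_, ?_⟩
      · intro x _ y _
        obtain ⟨h, hh, hxy⟩ := htrans x y
        exact ⟨⟨h, hh⟩, hxy⟩
      · intro x _
        obtain ⟨y, z, hyx, hzx, hyz⟩ : ∃ y z : α, y ≠ x ∧ z ≠ x ∧ y ≠ z := by
          have hcard : 2 < Fintype.card α := by omega
          obtain ⟨y, hy⟩ := Fintype.exists_ne_of_one_lt_card (by omega : 1 < Fintype.card α) x
          have : ∃ z, z ∉ ({x, y} : Finset α) := by
            by_contra hcon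
            push Not at hcon
            have : Fintype.card α ≤ ({x, y} : Finset α).card := by
              rw [← Finset.card_univ]
              exact Finset.card_le_card (fun z _ => hcon z)
            have h2c : ({x, y} : Finset α).card ≤ 2 := Finset.card_le_two
            omega
          obtain ⟨z, hz⟩ := this
          simp only [Finset.mem_insert, Finset.mem_singleton, not_or] at hz
          exact ⟨y, z, hy, hz.1, fun h => hz.2 h.symm⟩
        obtain ⟨g, hg, hgx, hgy⟩ := T2 H (Ne.symm hyx) (Ne.symm hzx)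
        refine ⟨⟨g, hg⟩, ?_, hgx⟩
        intro h1
        have : g = 1 := congrArg Subtype.val h1
        rw [this] at hgy
        exact hyz hgy
      · intro x _ y _ hxy g hgx hgy
        apply Subtype.ext
        exact S2 H hsharp g.2 hxy hgx hgy
      · obtain ⟨x, y, hxy⟩ := Fintype.exists_pair_of_one_lt_card (by omega : 1 < Fintype.card α)
        exact ⟨x, Set.mem_univ _, y, Set.mem_univ _, hxy⟩
    refine ⟨(Cfsg.Agent.Lib.H2.FrobAct.FK hfrob).map H.subtype, ?_, ?_, ?_, ?_⟩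
    · rintro _ ⟨u, _, rfl⟩
      exact u.2
    · rintro h hh _ ⟨u, hu, rfl⟩
      refine ⟨⟨h, hh⟩ * u * ⟨h, hh⟩⁻¹, ?_, rfl⟩
      exact (Cfsg.Agent.Lib.H2.FrobAct.FK_normal hfrob).conj_mem u hu ⟨h, hh⟩
    · intro x y
      obtain ⟨u, hu, hxy⟩ := Cfsg.Agent.Lib.H2.FrobAct.FK_transitive hfrob (Set.mem_univ x)
        (Set.mem_univ y)
      exact ⟨u, ⟨u, hu, rfl⟩, hxy⟩
    · rintro _ ⟨u, hu, rfl⟩ x hx
      have := Cfsg.Agent.Lib.H2.FrobAct.eq_one_of_mem_FK_of_smul_eq hfrob hu (Set.mem_univ x) hx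
      rw [this]
      rfl

/-- The data for the near-field exist. -/
theorem exists_setup [h2t : MulAction.IsMultiplyPretransitive H α 2]
    (hsharp : ∀ x : Fin 2 ↪ α, MulAction.stabilizer H x = ⊥) (h2 : 2 ≤ Fintype.card α) :
    Nonempty (Setup α H) := by
  obtain ⟨N, hNH, hNn, hNt, hNs⟩ := exists_regular_normal H hsharp h2
  obtain ⟨o, e, hoe⟩ := Fintype.exists_pair_of_one_lt_card (by omega : 1 < Fintype.card α)
  choose τ hτ using fun b => hNt o b
  have hμex : ∀ a : α, ∃ m : Equiv.Perm α, a ≠ o → m ∈ H ∧ m o = o ∧ m e = a := by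
    intro a
    by_cases ha : a = o
    · exact ⟨1, fun h => absurd ha h⟩
    · obtain ⟨m, hm, h1, h2⟩ := T2 H hoe (Ne.symm ha)
      exact ⟨m, fun _ => ⟨hm, h1, h2⟩⟩
  choose μ hμ using hμex
  refine ⟨{ N := N, o := o, e := e, hoe := hoe, τ := τ, μ := μ,
            τ_mem := fun b => (hτ b).1, τ_o := fun b => (hτ b).2,
            τ_unique := ?_, N_le := hNH, N_norm := hNn,
            μ_mem := fun a ha => (hμ a ha).1, μ_o := fun a ha => (hμ a ha).2.1,
            μ_e := fun a ha => (hμ a ha).2.2, μ_unique := ?_ }⟩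
  · intro n hn
    have h1 : (τ (n o))⁻¹ * n ∈ N := N.mul_mem (N.inv_mem (hτ (n o)).1) hn
    have h2 : ((τ (n o))⁻¹ * n) o = o := by
      rw [Equiv.Perm.mul_apply, Equiv.Perm.inv_eq_iff_eq, (hτ (n o)).2]
    have := hNs _ h1 o h2
    exact (inv_mul_eq_one.mp this).symm
  · intro h hh ho
    have hne : h e ≠ o := by
      intro h'
      rw [← ho] at h'
      exact hoe (h.injective h').symm
    obtain ⟨hm, hmo, hme⟩ := hμ (h e) hne
    have h1 : (μ (h e))⁻¹ * h ∈ H := H.mul_mem (H.inv_mem hm) hh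
    have h2 : ((μ (h e))⁻¹ * h) o = o := by
      rw [Equiv.Perm.mul_apply, ho, Equiv.Perm.inv_eq_iff_eq, hmo]
    have h3 : ((μ (h e))⁻¹ * h) e = e := by
      rw [Equiv.Perm.mul_apply, Equiv.Perm.inv_eq_iff_eq, hme]
    have := S2 H hsharp h1 hoe h2 h3
    exact (inv_mul_eq_one.mp this).symm

end exist

/-- A finite sharply doubly transitive permutation group is the affine group of a near-field: the permuted set carries a near-field structure for which the group consists exactly of the maps `x ↦ x * a + b` with `a ≠ 0`. -/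
theorem result {α : Type*} [Fintype α] [DecidableEq α] (H : Subgroup (Equiv.Perm α)) [MulAction.IsMultiplyPretransitive H α 2] (hsharp : ∀ x : Fin 2 ↪ α, MulAction.stabilizer H x = ⊥) (h2 : 2 ≤ Fintype.card α) : ∃ _ : Cfsg.NearField α, ∀ σ : Equiv.Perm α, σ ∈ H ↔ ∃ a b : α, a ≠ 0 ∧ ∀ x : α, σ x = x * a + b := by
  obtain ⟨s⟩ := exists_setup H hsharp h2
  exact ⟨s.nearField, fun σ => s.mem_iff σ⟩

end Cfsg.Agent.S0683
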