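import Cfsg.Statements.S0682
import Cfsg.Agent.Lib.H4.NearFieldBasic

set_option autoImplicit false
open Cfsg

namespace Cfsg.Agent.S0682

open Cfsg.Agent.Lib.H4.NF

/-- A finite near-field has prime-power order; its additive group is commutative of prime exponent. -/
theorem result {F : Type*} [Cfsg.NearField F] [Finite F] : ∃ p j : ℕ, p.Prime ∧ 1 ≤ j ∧ Nat.card F = p ^ j ∧ (∀ x y : F, x + y = y + x) ∧ ∀ x : F, p • x = 0 := by
  classical
  have hnt : Nontrivial F := ⟨⟨0, 1, Cfsg.NearField.zero_ne_one⟩⟩
  have hcard : 1 < Nat.card F := Finite.one_lt_card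
  set p := (Nat.card F).minFac with hp_def
  have hp : p.Prime := Nat.minFac_prime (by omega)
  have hpdvd : p ∣ Nat.card F := Nat.minFac_dvd _
  have : Fact p.Prime := ⟨hp⟩
  obtain ⟨y, hy⟩ := exists_prime_addOrderOf_dvd_card' (G := F) p hpdvd
  have hy0 : y ≠ 0 := by
    rintro rfl
    rw [addOrderOf_zero] at hy
    exact hp.one_lt.ne hy
  have hpy : p • y = 0 := by rw [← hy]; exact addOrderOf_nsmul_eq_zero y
  obtain ⟨y', hy1, hy2⟩ := exists_inv' hy0
  have hexp : ∀ x : F, p • x = 0 := by
    intro x
    have : x = y * (y' * x) := by rw [← mul_assoc, hy1, one_mul]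
    rw [this, ← nsmul_mul', hpy, zero_mul']
  -- p-group
  have hPG : IsPGroup p (Multiplicative F) := by
    intro g
    refine ⟨1, ?_⟩
    rw [pow_one]
    exact congrArg Multiplicative.ofAdd (hexp (Multiplicative.toAdd g))
  have : Finite (Multiplicative F) := inferInstanceAs (Finite F)
  have : Nontrivial (Multiplicative F) := inferInstanceAs (Nontrivial F)
  obtain ⟨j, hj⟩ := (IsPGroup.iff_card (p := p) (G := Multiplicative F)).mp hPG
  have hj' : Nat.card F = p ^ j := by
    rw [← hj]; rfl
  have hj1 : 1 ≤ j := by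
    rcases Nat.eq_zero_or_pos j with h | h
    · rw [h, pow_zero] at hj'
      omega
    · exact h
  -- center nontrivial
  have hcen : Nontrivial (Subgroup.center (Multiplicative F)) := hPG.center_nontrivial
  obtain ⟨⟨z, hz⟩, hz1⟩ := exists_ne (1 : Subgroup.center (Multiplicative F))
  have hz0 : Multiplicative.toAdd z ≠ 0 := by
    intro h
    apply hz1
    apply Subtype.ext
    exact h
  set z0 : F := Multiplicative.toAdd z with hz0_def
  have hzc : ∀ x : F, x + z0 = z0 + x := by
    intro x
    have := (Subgroup.mem_center_iff.mp hz) (Multiplicative.ofAdd x)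
    exact congrArg Multiplicative.toAdd this
  obtain ⟨z', hz1', hz2'⟩ := exists_inv' hz0
  have hcomm : ∀ w x : F, w + x = x + w := by
    intro w x
    by_cases hw : w = 0
    · rw [hw, zero_add, add_zero]
    · have hc0 : z' * w ≠ 0 := mul_ne_zero' hw (inv_ne_zero' hz1')
      obtain ⟨c', hc1, hc2⟩ := exists_inv' hc0
      have hwz : w = z0 * (z' * w) := by rw [← mul_assoc, hz1', one_mul]
      have hx : x = (x * c') * (z' * w) := by rw [mul_assoc, hc2, mul_one]
      calc w + x = z0 * (z' * w) + (x * c') * (z' * w) := by rw [← hwz, ← hx]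
        _ = (z0 + x * c') * (z' * w) := by rw [rdistrib]
        _ = (x * c' + z0) * (z' * w) := by rw [hzc]
        _ = x + w := by rw [rdistrib, ← hwz, ← hx]
  exact ⟨p, j, hp, hj1, hj', hcomm, hexp⟩

end Cfsg.Agent.S0682
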