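import Cfsg.Statements.S0738
import Mathlib
import Cfsg.Agent.Lib.H1.FpfNilpotent

set_option autoImplicit false
open Cfsg

namespace Cfsg.Agent.S0738

section general

variable {G : Type*} [Group G]

/-- a subgroup acting freely by conjugation on a finite set of elements -/
theorem card_dvd_of_conj_free [Finite G] (H : Subgroup G) (X : Set G)
    (hinv : ∀ h ∈ H, ∀ x ∈ X, h * x * h⁻¹ ∈ X)
    (hfree : ∀ h ∈ H, ∀ x ∈ X, h * x * h⁻¹ = x → h = 1) : Nat.card H ∣ Nat.card X := by
  letI : MulAction H X :=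
    { smul := fun h x => ⟨(h : G) * x * (h : G)⁻¹, hinv h h.2 x x.2⟩
      one_smul := by
        intro x
        apply Subtype.ext
        show ((1 : H) : G) * x * ((1 : H) : G)⁻¹ = x
        simp
      mul_smul := by
        intro g h x
        apply Subtype.ext
        show ((g * h : H) : G) * x * ((g * h : H) : G)⁻¹ = (g : G) * ((h : G) * x * (h : G)⁻¹) * (g : G)⁻¹
        simp only [Subgroup.coe_mul]
        group }
  have hst : ∀ x : X, MulAction.stabilizer H x = ⊥ := by
    intro x
    rw [Subgroup.eq_bot_iff_forall]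
    intro h hh
    rw [MulAction.mem_stabilizer_iff] at hh
    have h1 : (h : G) * x * (h : G)⁻¹ = x := congrArg Subtype.val hh
    exact Subtype.ext (hfree h h.2 x x.2 h1)
  have e := MulAction.selfEquivOrbitsQuotientProd hst
  rw [Nat.card_congr e, Nat.card_prod]
  exact dvd_mul_left _ _

/-- conjugation by an element normalizing `F`, as an automorphism of `F` -/
def conjF (F : Subgroup G) (h : G) (hn : ∀ u ∈ F, h * u * h⁻¹ ∈ F)
    (hn' : ∀ u ∈ F, h⁻¹ * u * h ∈ F) : F ≃* F where
  toFun u := ⟨h * u * h⁻¹, hn u u.2⟩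
  invFun u := ⟨h⁻¹ * u * h, hn' u u.2⟩
  left_inv u := by
    apply Subtype.ext
    show h⁻¹ * (h * u * h⁻¹) * h = u
    group
  right_inv u := by
    apply Subtype.ext
    show h * (h⁻¹ * u * h) * h⁻¹ = u
    group
  map_mul' u v := by
    apply Subtype.ext
    show h * ((u * v : F) : G) * h⁻¹ = (h * u * h⁻¹) * (h * v * h⁻¹)
    simp only [Subgroup.coe_mul]
    group

theorem conjF_pow (F : Subgroup G) (h : G) (hn : ∀ u ∈ F, h * u * h⁻¹ ∈ F)
    (hn' : ∀ u ∈ F, h⁻¹ * u * h ∈ F) (k : ℕ) (u : F) :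
    (((conjF F h hn hn') ^ k) u : G) = h ^ k * u * (h ^ k)⁻¹ := by
  induction k generalizing u with
  | zero => simp
  | succ k ih =>
    rw [pow_succ, MulAut.mul_apply, ih]
    show h ^ k * (h * u * h⁻¹) * (h ^ k)⁻¹ = h ^ (k + 1) * u * (h ^ (k + 1))⁻¹
    rw [pow_succ]
    group

end general

section irreducible

variable {G : Type*} [Group G]

/-- `H`-irreducibility of `F` from the orbit count -/
theorem eq_of_invariant [Finite G] (H F K : Subgroup G) (hKF : K ≤ F) (hK : K ≠ ⊥)
    (hHF : ∀ h ∈ H, ∀ u ∈ F, h * u * h⁻¹ ∈ F) (hHK : ∀ h ∈ H, ∀ u ∈ K, h * u * h⁻¹ ∈ K)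
    (hfree : ∀ h ∈ H, ∀ u ∈ F, u ≠ 1 → h * u * h⁻¹ = u → h = 1)
    (hcard : Nat.card F - 1 ≤ 2 * Nat.card H) : K = F := by
  by_contra hne
  have hlt : K < F := lt_of_le_of_ne hKF hne
  set X₁ : Set G := (K : Set G) \ {1} with hX₁
  set X₂ : Set G := (F : Set G) \ (K : Set G) with hX₂
  have hc1 : Nat.card X₁ = Nat.card K - 1 := by
    rw [Nat.card_coe_set_eq, hX₁, Set.ncard_sdiff_singleton_of_mem (K.one_mem), ← Nat.card_coe_set_eq]
    rfl
  have hc2 : Nat.card X₂ = Nat.card F - Nat.card K := by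
    rw [Nat.card_coe_set_eq, hX₂, Set.ncard_sdiff (show (K : Set G) ⊆ F from hKF),
      ← Nat.card_coe_set_eq, ← Nat.card_coe_set_eq]
    rfl
  have hd1 : Nat.card H ∣ Nat.card X₁ := by
    apply card_dvd_of_conj_free H X₁
    · intro h hh x hx
      refine ⟨hHK h hh x hx.1, ?_⟩
      intro h1
      apply hx.2
      have h1' : h * x * h⁻¹ = 1 := h1
      have : x = h⁻¹ * (h * x * h⁻¹) * h := by group
      rw [this, h1']; simp
    · intro h hh x hx hfix
      exact hfree h hh x (hKF hx.1) (fun h1 => hx.2 h1) hfix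
  have hd2 : Nat.card H ∣ Nat.card X₂ := by
    apply card_dvd_of_conj_free H X₂
    · intro h hh x hx
      refine ⟨hHF h hh x hx.1, ?_⟩
      intro h1
      apply hx.2
      have h2 := hHK h⁻¹ (H.inv_mem hh) _ h1
      have : h⁻¹ * (h * x * h⁻¹) * h⁻¹⁻¹ = x := by group
      rw [this] at h2
      exact h2
    · intro h hh x hx hfix
      refine hfree h hh x hx.1 ?_ hfix
      intro h1
      apply hx.2
      rw [h1]; exact K.one_mem
  have hk2 : 2 ≤ Nat.card K := by
    have h1 : Nat.card K ≠ 1 := fun h => hK (Subgroup.card_eq_one.1 h)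
    have h2 : 0 < Nat.card K := Nat.card_pos
    omega
  have hkf : Nat.card K < Nat.card F := by
    apply lt_of_le_of_ne (Subgroup.card_le_of_le hKF)
    intro h
    exact hne (Subgroup.eq_of_le_of_card_ge hKF (le_of_eq h.symm))
  have hlag : Nat.card K ∣ Nat.card F := Subgroup.card_dvd_of_le hKF
  have hdpos : 0 < Nat.card H := Nat.card_pos
  rw [hc1] at hd1
  rw [hc2] at hd2
  generalize Nat.card H = d at *
  generalize Nat.card K = k at *
  generalize Nat.card F = f at *
  obtain ⟨i, hi⟩ := hd1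
  obtain ⟨j, hj⟩ := hd2
  obtain ⟨c, hc⟩ := hlag
  have hi1 : 1 ≤ i := by
    rcases Nat.eq_zero_or_pos i with h | h
    · rw [h, mul_zero] at hi; omega
    · exact h
  have hj1 : 1 ≤ j := by
    rcases Nat.eq_zero_or_pos j with h | h
    · rw [h, mul_zero] at hj; omega
    · exact h
  have h1 : d ≤ d * i := Nat.le_mul_of_pos_right d hi1
  have h2 : d ≤ d * j := Nat.le_mul_of_pos_right d hj1
  have hk : k = d + 1 := by omega
  have hf : f = 2 * d + 1 := by omega
  have hc2' : 2 ≤ c := by
    rcases Nat.lt_or_ge c 2 with h | h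
    · interval_cases c
      · omega
      · omega
    · exact h
  have h3 : k * 2 ≤ k * c := Nat.mul_le_mul_left k hc2'
  omega

end irreducible

/-- Let a finite Zassenhaus group of degree `n + 1` have two-point stabilisers of order `d` with `2d ≥ n - 1`. Then a normal subgroup of a point stabiliser acting regularly on the remaining points is elementary abelian, and the degree is a prime power plus one. -/
theorem result {G Ω : Type*} [Group G] [Finite G] [MulAction G Ω] [Fintype Ω] (hZ : Cfsg.IsZassenhausGroup G Ω) {a b : Ω} (hab : a ≠ b) (hd : Fintype.card Ω - 2 ≤ 2 * Nat.card ↥(MulAction.stabilizer G a ⊓ MulAction.stabilizer G b)) (F : Subgroup G) (hFle : F ≤ MulAction.stabilizer G a) (hFn : (F.subgroupOf (MulAction.stabilizer G a)).Normal) (hreg : ∀ y z : Ω, y ≠ a → z ≠ a → ∃! u : F, (u : G) • y = z) : IsMulCommutative F ∧ ∃ p f : ℕ, p.Prime ∧ (∀ u ∈ F, u ^ p = 1) ∧ Fintype.card Ω = p ^ f + 1 := by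
  classical
  obtain ⟨-, h2t, h3, -, -⟩ := hZ
  set H : Subgroup G := MulAction.stabilizer G a ⊓ MulAction.stabilizer G b with hH
  have hmemH : ∀ g : G, g ∈ H ↔ g • a = a ∧ g • b = b := by
    intro g
    rw [hH, Subgroup.mem_inf, MulAction.mem_stabilizer_iff, MulAction.mem_stabilizer_iff]
  have hFa : ∀ u ∈ F, u • a = a := fun u hu => hFle hu
  -- `|F| = |Ω| - 1`
  have hFcard : Nat.card F = Fintype.card Ω - 1 := by
    have hne : ∀ u : F, (u : G) • b ≠ a := by
      intro u e
      apply hab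
      have := (hFa u u.2)
      exact (MulAction.injective (u : G) (e.trans this.symm)).symm
    let f : F → {z : Ω // z ≠ a} := fun u => ⟨(u : G) • b, hne u⟩
    have hf : Function.Bijective f := by
      constructor
      · intro u v huv
        have huv' : (u : G) • b = (v : G) • b := congrArg Subtype.val huv
        obtain ⟨u₀, -, huniq⟩ := hreg b ((v : G) • b) (Ne.symm hab) (hne v)
        exact (huniq u huv').trans (huniq v rfl).symm
      · rintro ⟨z, hz⟩
        obtain ⟨u, hu, -⟩ := hreg b z (Ne.symm hab) hz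
        exact ⟨u, Subtype.ext hu⟩
    rw [Nat.card_congr (Equiv.ofBijective f hf), Nat.card_eq_fintype_card,
      Fintype.card_subtype_compl, Fintype.card_subtype_eq]
  have hΩ2 : 2 ≤ Fintype.card Ω := by
    have : 1 < Fintype.card Ω := Fintype.one_lt_card_iff.2 ⟨a, b, hab⟩
    omega
  -- `H` normalizes `F`
  have hHF : ∀ h ∈ H, ∀ u ∈ F, h * u * h⁻¹ ∈ F := by
    intro h hh u hu
    have hha : h ∈ MulAction.stabilizer G a := hh.1
    have := hFn.conj_mem ⟨u, hFle hu⟩ (Subgroup.mem_subgroupOf.2 hu) ⟨h, hha⟩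
    exact Subgroup.mem_subgroupOf.1 this
  -- freeness
  have hfree : ∀ h ∈ H, ∀ u ∈ F, u ≠ 1 → h * u * h⁻¹ = u → h = 1 := by
    intro h hh u hu hu1 hfix
    obtain ⟨hha, hhb⟩ := (hmemH h).1 hh
    have hua : u • a = a := hFa u hu
    have hca : u • b ≠ a := by
      intro e
      apply hab
      exact (MulAction.injective u (e.trans hua.symm)).symm
    have hcb : u • b ≠ b := by
      intro e
      obtain ⟨u₀, -, huniq⟩ := hreg b b (Ne.symm hab) (Ne.symm hab)
      have h1 := huniq ⟨u, hu⟩ e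
      have h2 := huniq 1 (by simp)
      apply hu1
      exact congrArg Subtype.val (h1.trans h2.symm)
    have hhc : h • (u • b) = u • b := by
      have e : h * u = u * h := by
        calc h * u = (h * u * h⁻¹) * h := by group
          _ = u * h := by rw [hfix]
      rw [← mul_smul, e, mul_smul, hhb]
    exact h3 h a b (u • b) hab (Ne.symm hcb) (Ne.symm hca) hha hhb hhc
  have hcardle : Nat.card F - 1 ≤ 2 * Nat.card H := by
    rw [hFcard]; omega
  -- nilpotency
  have hnil : Group.IsNilpotent F := by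
    by_cases hH1 : H = ⊥
    · have hc1 : Nat.card H = 1 := by rw [hH1]; exact Subgroup.card_bot
      rw [hc1] at hcardle
      have hF3 : Nat.card F ≤ 3 := by omega
      have hF0 : 0 < Nat.card F := Nat.card_pos
      have hp : ∃ p k : ℕ, p.Prime ∧ Nat.card F = p ^ k := by
        interval_cases (Nat.card F)
        · exact ⟨2, 0, Nat.prime_two, rfl⟩
        · exact ⟨2, 1, Nat.prime_two, rfl⟩
        · exact ⟨3, 1, Nat.prime_three, rfl⟩
      obtain ⟨p, k, hp, hk⟩ := hp
      haveI : Fact p.Prime := ⟨hp⟩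
      exact (IsPGroup.of_card hk).isNilpotent
    · -- an element of prime order in `H`
      have hHcard : Nat.card H ≠ 1 := fun h => hH1 (Subgroup.card_eq_one.1 h)
      obtain ⟨r, hr, hrdvd⟩ := Nat.exists_prime_and_dvd hHcard
      haveI : Fact r.Prime := ⟨hr⟩
      obtain ⟨h', hh'⟩ := exists_prime_orderOf_dvd_card' (G := H) r hrdvd
      obtain ⟨h, hhH⟩ := h'
      have hho : orderOf h = r := by
        rw [← hh']; exact (Subgroup.orderOf_mk h hhH).symm
      have hhr : h ^ r = 1 := by rw [← hho]; exact pow_orderOf_eq_one h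
      have hh1 : h ≠ 1 := by
        intro e; rw [e, orderOf_one] at hho; exact hr.one_lt.ne hho
      have hn' : ∀ u ∈ F, h⁻¹ * u * h ∈ F := by
        intro u hu
        have := hHF h⁻¹ (H.inv_mem hhH) u hu
        rwa [inv_inv] at this
      set φ : F ≃* F := conjF F h (hHF h hhH) hn' with hφ
      have hfpf : Cfsg.Agent.Lib.H1.Fpf φ := by
        intro u hu
        by_contra hu1
        apply hh1
        apply hfree h hhH u u.2 (fun e => hu1 (Subtype.ext e))
        exact congrArg Subtype.val hu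
      have hpow : φ ^ r = 1 := by
        apply MulEquiv.ext
        intro u
        apply Subtype.ext
        rw [hφ, conjF_pow, hhr]
        simp
      exact Cfsg.Agent.Lib.H1.fpf_prime_nilpotent hr _ F rfl φ hfpf hpow
  -- trivial case
  by_cases hF1 : F = ⊥
  · refine ⟨?_, 2, 0, Nat.prime_two, ?_, ?_⟩
    · rw [hF1]; infer_instance
    · intro u hu
      rw [hF1, Subgroup.mem_bot] at hu
      rw [hu, one_pow]
    · rw [hF1, Subgroup.card_bot] at hFcard
      omega
  -- abelian
  have hcomm : IsMulCommutative F := by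
    haveI : Nontrivial F := (Subgroup.nontrivial_iff_ne_bot F).mpr hF1
    have hc := Group.IsNilpotent.center_ne_bot (G := F)
    set Z : Subgroup G := F ⊓ Subgroup.centralizer (F : Set G) with hZdef
    have hZ1 : Z ≠ ⊥ := by
      rw [Ne, Subgroup.eq_bot_iff_forall] at hc
      push Not at hc
      obtain ⟨z, hz, hz1⟩ := hc
      intro hbot
      apply hz1
      have hzZ : (z : G) ∈ Z := by
        refine Subgroup.mem_inf.mpr ⟨z.2, ?_⟩
        rw [Subgroup.mem_centralizer_iff]
        intro v hv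
        have := Subgroup.mem_center_iff.mp hz ⟨v, hv⟩
        exact congrArg Subtype.val this
      rw [hbot, Subgroup.mem_bot] at hzZ
      exact Subtype.ext hzZ
    have hZinv : ∀ h ∈ H, ∀ u ∈ Z, h * u * h⁻¹ ∈ Z := by
      intro h hh u hu
      refine Subgroup.mem_inf.mpr ⟨hHF h hh u hu.1, ?_⟩
      rw [Subgroup.mem_centralizer_iff]
      intro v hv
      have hv' : h⁻¹ * v * h ∈ F := by
        have := hHF h⁻¹ (H.inv_mem hh) v hv
        rwa [inv_inv] at this
      have hcomm := (Subgroup.mem_centralizer_iff.1 hu.2) _ hv'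
      calc v * (h * u * h⁻¹) = h * ((h⁻¹ * v * h) * u) * h⁻¹ := by group
        _ = h * (u * (h⁻¹ * v * h)) * h⁻¹ := by rw [hcomm]
        _ = h * u * h⁻¹ * v := by group
    have hZF : Z = F := eq_of_invariant H F Z inf_le_left hZ1 hHF hZinv hfree hcardle
    rw [← Subgroup.le_centralizer_iff_isMulCommutative]
    intro u hu
    rw [← hZF] at hu
    exact hu.2
  refine ⟨hcomm, ?_⟩
  -- exponent
  have hFcard1 : Nat.card F ≠ 1 := fun h => hF1 (Subgroup.card_eq_one.1 h)
  obtain ⟨p, hp, hpdvd⟩ := Nat.exists_prime_and_dvd hFcard1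
  haveI : Fact p.Prime := ⟨hp⟩
  obtain ⟨x', hx'⟩ := exists_prime_orderOf_dvd_card' (G := F) p hpdvd
  obtain ⟨x, hxF⟩ := x'
  have hxo : orderOf x = p := by
    rw [← hx']; exact (Subgroup.orderOf_mk x hxF).symm
  have hcommF : ∀ u ∈ F, ∀ v ∈ F, u * v = v * u := by
    intro u hu v hv
    have := mul_comm' (⟨u, hu⟩ : F) ⟨v, hv⟩
    exact congrArg Subtype.val this
  let K : Subgroup G :=
    { carrier := {u | u ∈ F ∧ u ^ p = 1}
      one_mem' := ⟨F.one_mem, one_pow p⟩
      mul_mem' := by
        intro u v hu hv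
        refine ⟨F.mul_mem hu.1 hv.1, ?_⟩
        rw [(show Commute u v from hcommF u hu.1 v hv.1).mul_pow, hu.2, hv.2, one_mul]
      inv_mem' := by
        intro u hu
        exact ⟨F.inv_mem hu.1, by rw [inv_pow, hu.2, inv_one]⟩ }
  have hKF : K ≤ F := fun u hu => hu.1
  have hK1 : K ≠ ⊥ := by
    intro hbot
    have hxK : x ∈ K := ⟨hxF, by rw [← hxo]; exact pow_orderOf_eq_one x⟩
    rw [hbot, Subgroup.mem_bot] at hxK
    rw [hxK, orderOf_one] at hxo
    exact hp.one_lt.ne hxo
  have hKinv : ∀ h ∈ H, ∀ u ∈ K, h * u * h⁻¹ ∈ K := by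
    intro h hh u hu
    refine ⟨hHF h hh u hu.1, ?_⟩
    rw [conj_pow, hu.2]; simp
  have hKeq : K = F := eq_of_invariant H F K hKF hK1 hHF hKinv hfree hcardle
  have hexp : ∀ u ∈ F, u ^ p = 1 := by
    intro u hu
    rw [← hKeq] at hu
    exact hu.2
  have hpg : IsPGroup p F := by
    intro u
    refine ⟨1, ?_⟩
    apply Subtype.ext
    rw [pow_one, Subgroup.coe_pow]
    exact hexp u u.2
  obtain ⟨f, hf⟩ := (IsPGroup.iff_card).1 hpg
  refine ⟨p, f, hp, hexp, ?_⟩
  rw [← hf, hFcard]
  omega

end Cfsg.Agent.S0738
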