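import Cfsg.Statements.S0740
import Mathlib

set_option autoImplicit false
open Cfsg

namespace Cfsg.Agent.S0740

open MulAction

section
variable {G Ω : Type*} [Group G] [MulAction G Ω]

theorem card_fixedBy_le_two [Finite Ω]
    (h3fix : ∀ g : G, ∀ a b c : Ω, a ≠ b → b ≠ c → a ≠ c → g • a = a → g • b = b → g • c = c → g = 1)
    {s : G} (hs : s ≠ 1) : Nat.card (fixedBy Ω s) ≤ 2 := by
  by_contra hcon
  push Not at hcon
  have h2 : 2 < (fixedBy Ω s).ncard := by
    rw [← Nat.card_coe_set_eq]; exact hcon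
  obtain ⟨a, b, c, ha, hb, hc, hab, hac, hbc⟩ := (Set.two_lt_ncard_iff (Set.toFinite _)).mp h2
  exact hs (h3fix s a b c hab hbc hac ha hb hc)

theorem card_fixedBy_parity [Fintype Ω] {s : G} (hs : s ^ 2 = 1) :
    Fintype.card Ω ≡ Nat.card (fixedBy Ω s) [MOD 2] := by
  classical
  have : Fact (Nat.Prime 2) := ⟨Nat.prime_two⟩
  let f : Function.End Ω := fun x => s • x
  have hf : f ^ 2 ^ 1 = 1 := by
    rw [pow_one, pow_two]
    funext x
    show s • s • x = x
    rw [← mul_smul, ← pow_two, hs, one_smul]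
  have := Equiv.Perm.card_fixedPoints_modEq (f := f) hf
  have heq : Fintype.card (Function.fixedPoints f) = Nat.card (fixedBy Ω s) := by
    rw [← Nat.card_eq_fintype_card]
    rfl
  rw [heq] at this
  exact this

end

/-- In a finite Zassenhaus group any two points `a ≠ b` are swapped by an involution; every such involution has exactly one fixed point when the degree is odd and 0 or 2 fixed points when the degree is even; and if the two-point stabiliser has even order, some such involution has exactly 2 fixed points. -/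
theorem result {G Ω : Type*} [Group G] [Finite G] [MulAction G Ω] [Fintype Ω] (hZ : Cfsg.IsZassenhausGroup G Ω) {a b : Ω} (hab : a ≠ b) : (∃ s : G, orderOf s = 2 ∧ s • a = b ∧ s • b = a) ∧ (∀ s : G, orderOf s = 2 → s • a = b → s • b = a → (Odd (Fintype.card Ω) → Nat.card (MulAction.fixedBy Ω s) = 1) ∧ (Even (Fintype.card Ω) → Nat.card (MulAction.fixedBy Ω s) = 0 ∨ Nat.card (MulAction.fixedBy Ω s) = 2)) ∧ (Even (Fintype.card Ω) → Even (Nat.card ↥(MulAction.stabilizer G a ⊓ MulAction.stabilizer G b)) → ∃ s : G, orderOf s = 2 ∧ s • a = b ∧ s • b = a ∧ Nat.card (MulAction.fixedBy Ω s) = 2) := by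
  classical
  obtain ⟨hfaith, h2t, h3fix, -, -⟩ := hZ
  have h2t' : ∀ {a b c d : Ω} (_ : a ≠ b) (_ : c ≠ d), ∃ g : G, g • a = c ∧ g • b = d :=
    is_two_pretransitive_iff.mp h2t
  -- conjugating an involution that moves a point
  have hconj : ∀ u : G, orderOf u = 2 → ∀ c : Ω, u • c ≠ c →
      ∃ g : G, orderOf (g * u * g⁻¹) = 2 ∧ (g * u * g⁻¹) • a = b ∧ (g * u * g⁻¹) • b = a ∧
        g • c = a ∧ g • u • c = b := by
    intro u hu c hc
    obtain ⟨g, hg1, hg2⟩ := h2t' (Ne.symm hc) hab
    have hu2 : u ^ 2 = 1 := by rw [← hu]; exact pow_orderOf_eq_one u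
    have huu : u • u • c = c := by rw [← mul_smul, ← pow_two, hu2, one_smul]
    have hginva : g⁻¹ • a = c := by rw [inv_smul_eq_iff, hg1]
    have hginvb : g⁻¹ • b = u • c := by rw [inv_smul_eq_iff, hg2]
    refine ⟨g, ?_, ?_, ?_, hg1, hg2⟩
    · apply orderOf_eq_prime
      · rw [conj_pow, hu2, mul_one, mul_inv_cancel]
      · intro h
        have h1 : u = 1 := by
          have : u = g⁻¹ * (g * u * g⁻¹) * g := by group
          rw [this, h]; group
        rw [h1, orderOf_one] at hu
        norm_num at hu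
    · rw [mul_smul, mul_smul, hginva, hg2]
    · rw [mul_smul, mul_smul, hginvb, huu, hg1]
  have hne1 : ∀ s : G, orderOf s = 2 → s ≠ 1 := by
    intro s hs h
    rw [h, orderOf_one] at hs
    norm_num at hs
  have hmoves : ∀ u : G, u ≠ 1 → ∃ c : Ω, u • c ≠ c := by
    intro u hu
    by_contra hcon
    push Not at hcon
    apply hu
    apply hfaith.eq_of_smul_eq_smul
    intro c
    rw [hcon c, one_smul]
  refine ⟨?_, ?_, ?_⟩
  · -- existence: |G| is even
    have hdvd : 2 ∣ Nat.card G := by
      have hpt : IsPretransitive G (Fin 2 ↪ Ω) := h2t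
      let x : Fin 2 ↪ Ω := Function.Embedding.embFinTwo hab
      have h1 : (stabilizer G x).index = Nat.card (Fin 2 ↪ Ω) := by
        rw [MulAction.index_stabilizer, MulAction.orbit_eq_univ, Set.ncard_univ]
      have h2 : Nat.card (Fin 2 ↪ Ω) = Fintype.card Ω * (Fintype.card Ω - 1) := by
        rw [Nat.card_eq_fintype_card, Fintype.card_embedding_eq, Fintype.card_fin]
        simp [Nat.descFactorial]
        ring
      have h3 : (stabilizer G x).index ∣ Nat.card G := Subgroup.index_dvd_card _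
      rw [h1, h2] at h3
      exact (Nat.even_mul_pred_self _).two_dvd.trans h3
    have : Fact (Nat.Prime 2) := ⟨Nat.prime_two⟩
    obtain ⟨u, hu⟩ := exists_prime_orderOf_dvd_card' 2 hdvd
    obtain ⟨c, hc⟩ := hmoves u (hne1 u hu)
    obtain ⟨g, h1, h2, h3, -, -⟩ := hconj u hu c hc
    exact ⟨_, h1, h2, h3⟩
  · intro s hs hsa hsb
    have hs1 := hne1 s hs
    have hs2 : s ^ 2 = 1 := by rw [← hs]; exact pow_orderOf_eq_one s
    have hle := card_fixedBy_le_two h3fix hs1
    have hpar := card_fixedBy_parity (Ω := Ω) hs2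
    constructor
    · intro hodd
      rw [Nat.odd_iff] at hodd
      have : Nat.card (fixedBy Ω s) % 2 = 1 := by rw [← hpar, hodd]
      omega
    · intro hev
      rw [Nat.even_iff] at hev
      have : Nat.card (fixedBy Ω s) % 2 = 0 := by rw [← hpar, hev]
      omega
  · intro _ hevH
    have : Fact (Nat.Prime 2) := ⟨Nat.prime_two⟩
    obtain ⟨u, hu⟩ := exists_prime_orderOf_dvd_card' 2 hevH.two_dvd
    have hu' : orderOf (u : G) = 2 := by rw [Subgroup.orderOf_coe, hu]
    have hustab := u.2
    rw [Subgroup.mem_inf, mem_stabilizer_iff, mem_stabilizer_iff] at hustab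
    obtain ⟨c, hc⟩ := hmoves u (hne1 _ hu')
    obtain ⟨g, h1, h2, h3, -, -⟩ := hconj u hu' c hc
    refine ⟨_, h1, h2, h3, ?_⟩
    have hle := card_fixedBy_le_two h3fix (hne1 _ h1)
    have hge : 2 ≤ Nat.card (fixedBy Ω (g * (u : G) * g⁻¹)) := by
      have hga : g • a ∈ fixedBy Ω (g * (u : G) * g⁻¹) := by
        rw [mem_fixedBy, mul_smul, mul_smul, inv_smul_smul, hustab.1]
      have hgb : g • b ∈ fixedBy Ω (g * (u : G) * g⁻¹) := by
        rw [mem_fixedBy, mul_smul, mul_smul, inv_smul_smul, hustab.2]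
      have hne : (⟨g • a, hga⟩ : fixedBy Ω (g * (u : G) * g⁻¹)) ≠ ⟨g • b, hgb⟩ := by
        intro h
        exact hab (smul_left_cancel g (congrArg Subtype.val h))
      have : Nontrivial (fixedBy Ω (g * (u : G) * g⁻¹)) := ⟨⟨_, _, hne⟩⟩
      exact Finite.one_lt_card
    omega

end Cfsg.Agent.S0740
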