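import Cfsg.Statements.S0741
import Mathlib

set_option autoImplicit false
open Cfsg

namespace Cfsg.Agent.S0741

/-- If the two-point stabilisers of a finite Zassenhaus group of degree `n + 1` have even order `d`, then `2d ≥ n - 1`. -/
theorem result {G Ω : Type*} [Group G] [Finite G] [MulAction G Ω] [Fintype Ω] (hZ : Cfsg.IsZassenhausGroup G Ω) {a b : Ω} (hab : a ≠ b) (heven : Even (Nat.card ↥(MulAction.stabilizer G a ⊓ MulAction.stabilizer G b))) : Fintype.card Ω - 2 ≤ 2 * Nat.card ↥(MulAction.stabilizer G a ⊓ MulAction.stabilizer G b) := by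
  classical
  obtain ⟨-, h2t, h3, -, -⟩ := hZ
  haveI := Fintype.ofFinite G
  have T2 : ∀ {x y x' y' : Ω}, x ≠ y → x' ≠ y' → ∃ g : G, g • x = x' ∧ g • y = y' :=
    fun hxy hxy' => MulAction.is_two_pretransitive_iff.mp h2t hxy hxy'
  set H : Subgroup G := MulAction.stabilizer G a ⊓ MulAction.stabilizer G b with hH
  have hmemH : ∀ g : G, g ∈ H ↔ g • a = a ∧ g • b = b := by
    intro g
    rw [hH, Subgroup.mem_inf, MulAction.mem_stabilizer_iff, MulAction.mem_stabilizer_iff]
  -- an involution in `H`
  haveI : Fact (Nat.Prime 2) := ⟨Nat.prime_two⟩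
  obtain ⟨t', ht'⟩ := exists_prime_orderOf_dvd_card' (G := H) 2 (even_iff_two_dvd.1 heven)
  obtain ⟨t, htH⟩ := t'
  have hto : orderOf t = 2 := by
    rw [← ht']; exact (Subgroup.orderOf_mk t htH).symm
  have ht2 : t * t = 1 := by
    rw [← pow_two, ← hto]; exact pow_orderOf_eq_one t
  have ht1 : t ≠ 1 := by
    intro h; rw [h, orderOf_one] at hto; omega
  obtain ⟨hta, htb⟩ := (hmemH t).1 htH
  have hfix : ∀ c : Ω, t • c = c → c = a ∨ c = b := by
    intro c hc
    by_contra hne
    push Not at hne
    exact ht1 (h3 t a b c hab (Ne.symm hne.2) (Ne.symm hne.1) hta htb hc)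
  have htt : ∀ c : Ω, t • (t • c) = c := by
    intro c; rw [smul_smul, ht2, one_smul]
  -- the finsets
  set d := Nat.card H with hd
  have hdH : (Finset.univ.filter (fun g : G => g ∈ H)).card = d := by
    rw [hd, Nat.card_eq_fintype_card, Fintype.card_subtype]
  have hdpos : 0 < d := Nat.card_pos
  set Y : Finset G := Finset.univ.filter (fun h : G => t • (h • a) = h • b) with hY
  set SP : Finset G := Finset.univ.filter (fun u : G => u • a = b ∧ u • b = a) with hSP
  set C : Finset G := Finset.univ.filter (fun g : G => g * t = t * g) with hC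
  -- (c) `|SP| ≤ d`
  have hSPcard : SP.card ≤ d := by
    obtain ⟨s₀, hs₀a, hs₀b⟩ := T2 hab (Ne.symm hab)
    rw [← hdH]
    apply Finset.card_le_card_of_injOn (fun u => s₀⁻¹ * u)
    · intro u hu
      have hu' : u • a = b ∧ u • b = a := by simpa [hSP] using hu
      simp only [Finset.coe_filter, Finset.mem_univ, true_and, Set.mem_ofPred_eq]
      rw [hmemH, mul_smul, mul_smul, hu'.1, hu'.2]
      constructor
      · rw [inv_smul_eq_iff]; exact hs₀a.symm
      · rw [inv_smul_eq_iff]; exact hs₀b.symm
    · intro u _ v _ huv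
      exact mul_left_cancel huv
  -- (d) `|C| ≤ 2d`
  have hCcard : C.card ≤ 2 * d := by
    have hsub : C ⊆ (Finset.univ.filter (fun g : G => g ∈ H)) ∪ SP := by
      intro g hg
      have hg' : g * t = t * g := by simpa [hC] using hg
      have h1 : t • (g • a) = g • a := by
        rw [← mul_smul, ← hg', mul_smul, hta]
      have h2 : t • (g • b) = g • b := by
        rw [← mul_smul, ← hg', mul_smul, htb]
      have hne : g • a ≠ g • b := fun h => hab (MulAction.injective g h)
      rw [Finset.mem_union]
      rcases hfix _ h1 with ha | ha <;> rcases hfix _ h2 with hb | hb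
      · exact absurd (ha.trans hb.symm) hne
      · left; simp only [Finset.mem_filter, Finset.mem_univ, true_and]; exact (hmemH g).2 ⟨ha, hb⟩
      · right; simp only [hSP, Finset.mem_filter, Finset.mem_univ, true_and]; exact ⟨ha, hb⟩
      · exact absurd (ha.trans hb.symm) hne
    calc C.card ≤ ((Finset.univ.filter (fun g : G => g ∈ H)) ∪ SP).card := Finset.card_le_card hsub
      _ ≤ (Finset.univ.filter (fun g : G => g ∈ H)).card + SP.card := Finset.card_union_le _ _
      _ ≤ d + d := by rw [hdH]; exact Nat.add_le_add_left hSPcard d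
      _ = 2 * d := by ring
  -- (b) `|Y| ≤ |C| * |SP|`
  have hYle : Y.card ≤ C.card * SP.card := by
    have h1 := Finset.card_le_mul_card_image (f := fun h : G => h⁻¹ * t * h) Y C.card (by
      intro u hu
      rw [Finset.mem_image] at hu
      obtain ⟨h₀, hh₀, rfl⟩ := hu
      apply Finset.card_le_card_of_injOn (fun h => h * h₀⁻¹)
      · intro h hh
        have hh' : h⁻¹ * t * h = h₀⁻¹ * t * h₀ := by
          have := (Finset.mem_filter.1 hh).2
          exact this
        simp only [hC, Finset.coe_filter, Finset.mem_univ, true_and, Set.mem_ofPred_eq]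
        have e1 : t * h = h * (h₀⁻¹ * t * h₀) := by rw [← hh']; group
        calc h * h₀⁻¹ * t = h * (h₀⁻¹ * t * h₀) * h₀⁻¹ := by group
          _ = t * h * h₀⁻¹ := by rw [← e1]
          _ = t * (h * h₀⁻¹) := by group
      · intro h _ h' _ hhh
        exact mul_right_cancel hhh)
    have h2 : (Y.image (fun h : G => h⁻¹ * t * h)).card ≤ SP.card := by
      apply Finset.card_le_card
      intro u hu
      rw [Finset.mem_image] at hu
      obtain ⟨h, hh, rfl⟩ := hu
      have hh' : t • (h • a) = h • b := by simpa [hY] using hh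
      simp only [hSP, Finset.mem_filter, Finset.mem_univ, true_and]
      constructor
      · rw [mul_smul, mul_smul, hh', inv_smul_smul]
      · rw [mul_smul, mul_smul, ← hh', htt, inv_smul_smul]
    calc Y.card ≤ C.card * (Y.image (fun h : G => h⁻¹ * t * h)).card := h1
      _ ≤ C.card * SP.card := Nat.mul_le_mul_left _ h2
  -- (a) `(|Ω| - 2) * d ≤ |Y|`
  have hYge : (Fintype.card Ω - 2) * d ≤ Y.card := by
    set R : Finset Ω := Finset.univ.filter (fun c : Ω => c ≠ a ∧ c ≠ b) with hR
    have hRcard : R.card = Fintype.card Ω - 2 := by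
      have h1 : R = Finset.univ \ {a, b} := by
        ext c
        simp only [hR, Finset.mem_filter, Finset.mem_univ, true_and, Finset.mem_sdiff,
          Finset.mem_insert, Finset.mem_singleton, not_or]
      rw [h1, Finset.card_sdiff_of_subset (Finset.subset_univ _), Finset.card_univ,
        Finset.card_pair hab]
    have hmaps : ∀ h ∈ Y, h • a ∈ R := by
      intro h hh
      have hh' : t • (h • a) = h • b := by simpa [hY] using hh
      have hne : h • a ≠ h • b := fun e => hab (MulAction.injective h e)
      simp only [hR, Finset.mem_filter, Finset.mem_univ, true_and]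
      constructor
      · intro e; rw [e, hta] at hh'; exact hne (e.trans hh')
      · intro e; rw [e, htb] at hh'; exact hne (e.trans hh')
    rw [Finset.card_eq_sum_card_fiberwise hmaps, ← hRcard, ← smul_eq_mul]
    apply Finset.card_nsmul_le_sum
    intro c hc
    have hc' : c ≠ a ∧ c ≠ b := by simpa [hR] using hc
    have hcne : c ≠ t • c := by
      intro e
      rcases hfix c e.symm with h | h
      · exact hc'.1 h
      · exact hc'.2 h
    obtain ⟨h₀, hh₀a, hh₀b⟩ := T2 hab hcne
    rw [← hdH]
    apply Finset.card_le_card_of_injOn (fun g => h₀ * g)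
    · intro g hg
      have hg' : g ∈ H := by simpa using hg
      obtain ⟨hga, hgb⟩ := (hmemH g).1 hg'
      simp only [hY, Finset.coe_filter, Finset.mem_filter, Finset.mem_univ, true_and, Set.mem_ofPred_eq]
      rw [mul_smul, mul_smul, hga, hgb, hh₀a, hh₀b]
      exact ⟨rfl, rfl⟩
    · intro g _ g' _ hgg
      exact mul_left_cancel hgg
  -- conclusion
  have hfinal : (Fintype.card Ω - 2) * d ≤ (2 * d) * d :=
    calc (Fintype.card Ω - 2) * d ≤ Y.card := hYge
      _ ≤ C.card * SP.card := hYle
      _ ≤ (2 * d) * d := Nat.mul_le_mul hCcard hSPcard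
  exact Nat.le_of_mul_le_mul_right hfinal hdpos

end Cfsg.Agent.S0741
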