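import Cfsg.Statements.S0742
import Mathlib
import Cfsg.Agent.Lib.H4.Zas.Main

set_option autoImplicit false
open Cfsg

namespace Cfsg.Agent.S0742

/-- a carrier in the lowest universe without any algebraic structure -/
structure Box (n : ℕ) : Type where
  /-- the underlying index -/
  val : Fin n

/-- boxes are indexed by `Fin n` -/
def boxEquiv (n : ℕ) : Box n ≃ Fin n where
  toFun := Box.val
  invFun := Box.mk
  left_inv := fun _ => rfl
  right_inv := fun _ => rfl

theorem exists_small_field {L : Type*} [Field L] [Fintype L] :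
    ∃ (K : Type) (_ : Field K) (_ : Fintype K), Fintype.card K = Fintype.card L ∧
      Nonempty (L ≃+* K) := by
  let eqv : Box (Fintype.card L) ≃ L := (boxEquiv _).trans (Fintype.equivFin L).symm
  refine ⟨Box (Fintype.card L), eqv.field, Fintype.ofEquiv _ (boxEquiv _).symm, ?_, ⟨?_⟩⟩
  · rw [Fintype.ofEquiv_card, Fintype.card_fin]
  · exact @RingEquiv.symm (Box (Fintype.card L)) L eqv.mul _ eqv.add _ (Equiv.ringEquiv eqv)

open MulAction Cfsg.Agent.Lib.H2.Zass Cfsg.Agent.Lib.H4.Zas in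
/-- A finite Zassenhaus group of degree `n + 1` with two-point stabilisers of even order `d` satisfying `2d ≤ n - 1` has `n = p^f` for an odd prime `p` and is isomorphic to `PSL(2, p^f)`. -/
theorem result {G Ω : Type*} [Group G] [Finite G] [MulAction G Ω] [Fintype Ω] (hZ : Cfsg.IsZassenhausGroup G Ω) {a b : Ω} (hab : a ≠ b) (heven : Even (Nat.card ↥(MulAction.stabilizer G a ⊓ MulAction.stabilizer G b))) (hd : 2 * Nat.card ↥(MulAction.stabilizer G a ⊓ MulAction.stabilizer G b) ≤ Fintype.card Ω - 2) : ∃ (p f : ℕ) (K : Type) (_ : Field K) (_ : Fintype K), p.Prime ∧ p ≠ 2 ∧ Fintype.card K = p ^ f ∧ Fintype.card Ω = p ^ f + 1 ∧ Nonempty (G ≃* Matrix.ProjectiveSpecialLinearGroup (Fin 2) K) := by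
  classical
  obtain ⟨p, f, L, fL, finL, hp, hLcard, hΩ, hLd, ⟨C⟩⟩ := exists_coord hZ hab heven hd
  haveI : Fintype L := Fintype.ofFinite L
  have hP := pre_of_zassenhaus hZ
  have hcardG := card_eq hP a b hab
  obtain ⟨d, hd'⟩ : ∃ d : ℕ, d = Nat.card ↥(MulAction.stabilizer G a ⊓ MulAction.stabilizer G b) :=
    ⟨_, rfl⟩
  rw [← hd'] at hcardG hLd
  have hdpos : 0 < d := by rw [hd']; exact Nat.card_pos
  have hq : Fintype.card L = 2 * d + 1 := by
    rw [← Nat.card_eq_fintype_card]; exact hLd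
  have hNatΩ : Nat.card Ω = 2 * d + 1 + 1 := by
    rw [Nat.card_eq_fintype_card, hΩ, ← hLcard, hLd]
  have hodd : Odd (Fintype.card L) := ⟨d, hq⟩
  have hcard : 2 * Nat.card G = Fintype.card L * (Fintype.card L ^ 2 - 1) := by
    rw [hcardG, hNatΩ, hq]
    have h1 : (2 * d + 1) ^ 2 - 1 = 4 * d * d + 4 * d := by
      have : (2 * d + 1) ^ 2 = 4 * d * d + 4 * d + 1 := by ring
      omega
    rw [h1, Nat.add_sub_cancel]
    ring
  obtain ⟨φ⟩ := C.nonempty_PSL hP.faithful hodd hcard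
  obtain ⟨K, fK, ftK, hKcard, ⟨ψ⟩⟩ := exists_small_field (L := L)
  obtain ⟨ψ'⟩ := nonempty_PSL_congr (n := Fin 2) ψ
  have hp2 : p ≠ 2 := by
    rintro rfl
    rw [hLd] at hLcard
    rcases Nat.eq_zero_or_pos f with hf | hf
    · rw [hf, pow_zero] at hLcard
      omega
    · have : 2 ∣ 2 ^ f := dvd_pow_self 2 hf.ne'
      omega
  refine ⟨p, f, K, fK, ftK, hp, hp2, ?_, hΩ, ⟨φ.trans ψ'⟩⟩
  rw [hKcard, ← Nat.card_eq_fintype_card, hLcard]

end Cfsg.Agent.S0742
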