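import Cfsg.Statements.S0731
import Mathlib
import Cfsg.Agent.S0741
import Cfsg.Agent.S0742
import Cfsg.Agent.Lib.H4.Feit.Reduce
import Cfsg.Agent.Lib.H4.Feit.OddPSL
import Cfsg.Agent.Lib.H21.OrbitCount

set_option autoImplicit false
open Cfsg

namespace Cfsg.Agent.S0731

open MulAction Cfsg.Agent.Lib.H2.Zass Cfsg.Agent.Lib.H4.Zas Cfsg.Agent.Lib.H4.Feit in
/-- a Zassenhaus group whose two point stabilizers have order `n - 2` is sharply triply
transitive -/
theorem sharp_three {G Ω : Type*} [Group G] [Finite G] [MulAction G Ω] [Finite Ω]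
    (hP : Pre G Ω) {a b : Ω} (hab : a ≠ b)
    (he : Nat.card ↥(stabilizer G a ⊓ stabilizer G b) = Nat.card Ω - 2) :
    MulAction.IsMultiplyPretransitive G Ω 3 ∧ ∀ t : Fin 3 ↪ Ω, MulAction.stabilizer G t = ⊥ := by
  classical
  haveI : Fintype Ω := Fintype.ofFinite Ω
  have key : ∀ c d : Ω, c ≠ d → ∀ y z : Ω, y ≠ c → y ≠ d → z ≠ c → z ≠ d →
      ∃ h : G, h • c = c ∧ h • d = d ∧ h • y = z := by
    intro c d hcd y z hyc hyd hzc hzd
    have hcard : Nat.card ↥(stabilizer G c ⊓ stabilizer G d) = Nat.card Ω - 2 := by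
      rw [card_inf_eq hP hab hcd, he]
    have memH : ∀ h : G, h ∈ stabilizer G c ⊓ stabilizer G d ↔ h • c = c ∧ h • d = d := by
      intro h
      rw [Subgroup.mem_inf, mem_stabilizer_iff, mem_stabilizer_iff]
    let f : ↥(stabilizer G c ⊓ stabilizer G d) → {w : Ω // w ≠ c ∧ w ≠ d} := fun h =>
      ⟨(h : G) • y, by
        have hh := (memH _).1 h.2
        constructor
        · intro e
          exact hyc (smul_left_cancel (h : G) (e.trans hh.1.symm))
        · intro e
          exact hyd (smul_left_cancel (h : G) (e.trans hh.2.symm))⟩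
    have hf : Function.Injective f := by
      intro h h' hhh
      have e1 : (h : G) • y = (h' : G) • y := congrArg Subtype.val hhh
      have hh := (memH _).1 h.2
      have hh' := (memH _).1 h'.2
      have e2 : ((h' : G)⁻¹ * (h : G)) = 1 := by
        apply hP.three _ c d y hcd (Ne.symm hyd) (Ne.symm hyc)
        · rw [mul_smul, hh.1, inv_smul_eq_iff, hh'.1]
        · rw [mul_smul, hh.2, inv_smul_eq_iff, hh'.2]
        · rw [mul_smul, e1, inv_smul_smul]
      apply Subtype.ext
      exact (inv_mul_eq_one.1 e2).symm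
    have hcardX : Nat.card {w : Ω // w ≠ c ∧ w ≠ d} = Nat.card Ω - 2 := by
      have h5 : {w : Ω | w ≠ c ∧ w ≠ d} = ({c, d} : Set Ω)ᶜ := by
        ext w
        simp
      have h6 := Set.ncard_compl_add_ncard ({c, d} : Set Ω)
      rw [Set.ncard_pair hcd, ← h5] at h6
      have h7 : Nat.card {w : Ω // w ≠ c ∧ w ≠ d} = {w : Ω | w ≠ c ∧ w ≠ d}.ncard := rfl
      omega
    have hbij : Function.Bijective f := by
      rw [Nat.bijective_iff_injective_and_card]
      exact ⟨hf, by rw [hcard, hcardX]⟩
    obtain ⟨h, hh⟩ := hbij.2 ⟨z, hzc, hzd⟩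
    have := (memH _).1 h.2
    exact ⟨h, this.1, this.2, congrArg Subtype.val hh⟩
  constructor
  · rw [MulAction.isMultiplyPretransitive_iff]
    intro t t'
    have h01 : t 0 ≠ t 1 := t.injective.ne (by decide)
    have h02 : t 0 ≠ t 2 := t.injective.ne (by decide)
    have h12 : t 1 ≠ t 2 := t.injective.ne (by decide)
    have h01' : t' 0 ≠ t' 1 := t'.injective.ne (by decide)
    have h02' : t' 0 ≠ t' 2 := t'.injective.ne (by decide)
    have h12' : t' 1 ≠ t' 2 := t'.injective.ne (by decide)
    obtain ⟨g, hg0, hg1⟩ := hP.two _ _ _ _ h01 h01'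
    have hy0 : g • t 2 ≠ t' 0 := by
      rw [← hg0]
      intro e
      exact h02 (smul_left_cancel g e).symm
    have hy1 : g • t 2 ≠ t' 1 := by
      rw [← hg1]
      intro e
      exact h12 (smul_left_cancel g e).symm
    obtain ⟨h, hh0, hh1, hh2⟩ := key _ _ h01' (g • t 2) (t' 2) hy0 hy1 h02'.symm h12'.symm
    refine ⟨h * g, ?_⟩
    ext i
    fin_cases i
    · show (h * g) • t 0 = t' 0
      rw [mul_smul, hg0, hh0]
    · show (h * g) • t 1 = t' 1
      rw [mul_smul, hg1, hh1]
    · show (h * g) • t 2 = t' 2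
      rw [mul_smul, hh2]
  · intro t
    rw [eq_bot_iff]
    intro g hg
    rw [Subgroup.mem_bot]
    rw [mem_stabilizer_iff] at hg
    have h01 : t 0 ≠ t 1 := t.injective.ne (by decide)
    have h02 : t 0 ≠ t 2 := t.injective.ne (by decide)
    have h12 : t 1 ≠ t 2 := t.injective.ne (by decide)
    have hgi : ∀ i, g • t i = t i := fun i => by
      conv_rhs => rw [← hg]
      rfl
    exact hP.three g _ _ _ h01 h12 h02 (hgi 0) (hgi 1) (hgi 2)

open MulAction Cfsg.Agent.Lib.H2.Zass Cfsg.Agent.Lib.H4.Zas Cfsg.Agent.Lib.H4.Feit in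
/-- A finite Zassenhaus group whose point stabiliser has an abelian regular normal subgroup on the remaining points is sharply triply transitive or isomorphic to `PSL(2, F)` for a finite field `F` of odd characteristic. -/
theorem result {G Ω : Type*} [Group G] [Finite G] [MulAction G Ω] [Finite Ω] (hZ : Cfsg.IsZassenhausGroup G Ω) (x : Ω) (F : Subgroup G) (hFle : F ≤ MulAction.stabilizer G x) (hFn : (F.subgroupOf (MulAction.stabilizer G x)).Normal) (hFab : IsMulCommutative F) (hreg : ∀ y z : Ω, y ≠ x → z ≠ x → ∃! u : F, (u : G) • y = z) : (MulAction.IsMultiplyPretransitive G Ω 3 ∧ ∀ t : Fin 3 ↪ Ω, MulAction.stabilizer G t = ⊥) ∨ ∃ (K : Type) (_ : Field K) (_ : Fintype K), ringChar K ≠ 2 ∧ Nonempty (G ≃* Matrix.ProjectiveSpecialLinearGroup (Fin 2) K) := by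
  classical
  haveI : Fintype Ω := Fintype.ofFinite Ω
  haveI : Fintype G := Fintype.ofFinite G
  have hP := pre_of_zassenhaus hZ
  have hR := noReg_of_zassenhaus hZ
  obtain ⟨b, hb⟩ : ∃ b : Ω, b ≠ x := by
    obtain ⟨p, q, hp, hq, hpq⟩ := exists_two_ne hP x
    exact ⟨p, hp⟩
  have hab : x ≠ b := Ne.symm hb
  have hn3 : 3 ≤ Nat.card Ω := Reduce.three_le_natCard hP
  -- `F` is the kernel
  have hFker : IsKer F x :=
    { le := hFle
      card := by
        let f : F → {w : Ω // w ≠ x} := fun u =>
          ⟨(u : G) • b, by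
            intro e
            have hu : (u : G) • x = x := hFle u.2
            exact hb (smul_left_cancel (u : G) (e.trans hu.symm))⟩
        have hf : Function.Bijective f := by
          constructor
          · intro u v huv
            have e1 : (u : G) • b = (v : G) • b := congrArg Subtype.val huv
            obtain ⟨w, -, hw⟩ := hreg b ((v : G) • b) hb (by
              intro e
              have hv : (v : G) • x = x := hFle v.2
              exact hb (smul_left_cancel (v : G) (e.trans hv.symm)))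
            rw [hw u e1, hw v rfl]
          · rintro ⟨z, hz⟩
            obtain ⟨u, hu, -⟩ := hreg b z hb hz
            exact ⟨u, Subtype.ext hu⟩
        have h1 : Nat.card F = Nat.card {w : Ω // w ≠ x} := Nat.card_congr (Equiv.ofBijective f hf)
        have h5 : {w : Ω | w ≠ x} = ({x} : Set Ω)ᶜ := by
          ext w
          simp
        have h6 := Set.ncard_compl_add_ncard ({x} : Set Ω)
        rw [Set.ncard_singleton, ← h5] at h6
        have h7 : Nat.card {w : Ω // w ≠ x} = {w : Ω | w ≠ x}.ncard := rfl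
        rw [← Nat.card_eq_fintype_card]
        omega
      fix := by
        intro u hu hu1 c hc
        by_contra hcx
        obtain ⟨w, -, hw⟩ := hreg c c hcx hcx
        have e1 := hw ⟨u, hu⟩ hc
        have e2 := hw 1 (one_smul _ _)
        apply hu1
        have : (⟨u, hu⟩ : F) = 1 := e1.trans e2.symm
        exact congrArg Subtype.val this }
  have hFK : F = K hP x := hFker.eq_K hP
  have habel : ∀ u ∈ K hP x, ∀ v ∈ K hP x, u * v = v * u := by
    rw [← hFK]
    intro u hu v hv
    have := hFab.is_comm.comm (⟨u, hu⟩ : F) ⟨v, hv⟩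
    exact congrArg Subtype.val this
  have memH : ∀ h : G, h ∈ stabilizer G x ⊓ stabilizer G b ↔ h • x = x ∧ h • b = b := by
    intro h
    rw [Subgroup.mem_inf, mem_stabilizer_iff, mem_stabilizer_iff]
  -- `e` divides `n - 2`
  have hdvd : Nat.card ↥(stabilizer G x ⊓ stabilizer G b) ∣ Nat.card Ω - 2 := by
    let X : Set Ω := {y | y ≠ x ∧ y ≠ b}
    have hXinv : ∀ g : ↥(stabilizer G x ⊓ stabilizer G b), ∀ y ∈ X, g • y ∈ X := by
      intro g y hy
      have hg := (memH _).1 g.2
      constructor
      · intro e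
        exact hy.1 (smul_left_cancel (g : G) (e.trans hg.1.symm))
      · intro e
        exact hy.2 (smul_left_cancel (g : G) (e.trans hg.2.symm))
    have hXfree : ∀ y ∈ X, stabilizer ↥(stabilizer G x ⊓ stabilizer G b) y = ⊥ := by
      intro y hy
      rw [eq_bot_iff]
      intro g hg
      rw [Subgroup.mem_bot]
      have hg' := (memH _).1 g.2
      have e : (g : G) • y = y := hg
      exact Subtype.ext (hP.three _ x b y hab (Ne.symm hy.2) (Ne.symm hy.1) hg'.1 hg'.2 e)
    have h1 := Cfsg.Agent.Lib.H21.card_dvd_ncard_of_free X (Set.toFinite X) hXinv hXfree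
    have h5 : X = ({x, b} : Set Ω)ᶜ := by
      ext y
      simp [X]
    have h6 := Set.ncard_compl_add_ncard ({x, b} : Set Ω)
    rw [Set.ncard_pair hab, ← h5] at h6
    have : X.ncard = Nat.card Ω - 2 := by omega
    rwa [this] at h1
  obtain ⟨e, he⟩ : ∃ e : ℕ, e = Nat.card ↥(stabilizer G x ⊓ stabilizer G b) := ⟨_, rfl⟩
  have hepos : 0 < e := by rw [he]; exact Nat.card_pos
  -- the inequality `n - 2 ≤ 2 e`
  have hbound : Nat.card Ω - 2 ≤ 2 * e ∧ (Nat.card Ω - 2 = 2 * e →
      ∃ (K : Type) (_ : Field K) (_ : Fintype K), ringChar K ≠ 2 ∧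
        Nonempty (G ≃* Matrix.ProjectiveSpecialLinearGroup (Fin 2) K)) := by
    rcases Nat.even_or_odd e with heven | hodd
    · rw [he] at heven
      have h1 := Cfsg.Agent.S0741.result hZ hab heven
      rw [← Nat.card_eq_fintype_card, ← he] at h1
      refine ⟨h1, fun heq => ?_⟩
      have h2 : 2 * Nat.card ↥(stabilizer G x ⊓ stabilizer G b) ≤ Fintype.card Ω - 2 := by
        rw [← Nat.card_eq_fintype_card, ← he]
        omega
      obtain ⟨p, f, K, fK, ftK, hp, hp2, hKcard, -, hiso⟩ :=
        Cfsg.Agent.S0742.result hZ hab heven h2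
      refine ⟨K, fK, ftK, ?_, hiso⟩
      intro hch
      have h3 := FiniteField.even_card_of_char_two hch
      rw [hKcard] at h3
      have h4 : 2 ∣ p ^ f := Nat.dvd_of_mod_eq_zero h3
      have h5 : 2 ∣ p := Nat.Prime.dvd_of_dvd_pow Nat.prime_two h4
      exact hp2 ((Nat.prime_dvd_prime_iff_eq Nat.prime_two hp).1 h5).symm
    · rw [he] at hodd
      obtain ⟨h1, h2⟩ := feit_bound hP hR hab hodd habel
      rw [← he] at h1 h2
      refine ⟨by omega, fun heq => ?_⟩
      haveI : IsSimpleGroup G := h2 (by omega)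
      have hS := oddSimple_of hZ hab hodd
      have hd : Fintype.card Ω = 2 * Nat.card ↥(stabilizer G x ⊓ stabilizer G b) + 2 := by
        rw [← Nat.card_eq_fintype_card, ← he]
        omega
      obtain ⟨L, fL, ftL, hL2, ⟨φ⟩⟩ := hS.nonempty_PSL hab hd
      obtain ⟨K, fK, ftK, hKcard, ⟨ψ⟩⟩ := Cfsg.Agent.S0742.exists_small_field (L := L)
      obtain ⟨ψ'⟩ := nonempty_PSL_congr (n := Fin 2) ψ
      refine ⟨K, fK, ftK, ?_, ⟨φ.trans ψ'⟩⟩
      intro hch
      have h3 := FiniteField.even_card_of_char_two hch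
      rw [hKcard] at h3
      exact hL2 (FiniteField.even_card_iff_char_two.2 h3)
  obtain ⟨k, hk⟩ := hdvd
  rw [← he] at hk
  have hk2 : k ≤ 2 := by
    by_contra hcon
    push Not at hcon
    have : e * 3 ≤ e * k := Nat.mul_le_mul_left _ hcon
    omega
  have hk0 : k ≠ 0 := by
    rintro rfl
    omega
  rcases (by omega : k = 1 ∨ k = 2) with rfl | rfl
  · left
    exact sharp_three hP hab (by rw [← he]; omega)
  · right
    exact hbound.2 (by omega)

end Cfsg.Agent.S0731
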