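import Cfsg.Statements.S0635
-- import your own Cfsg.Agent.* helpers here
import Mathlib
import Cfsg.Agent.Lib.H19.PLength
import Cfsg.Agent.Lib.H10.PSolvable
import Cfsg.Agent.Lib.H10.PSolvable2

set_option autoImplicit false
open Cfsg

namespace Cfsg.Agent.S0635

universe u

open Cfsg.Agent.Lib.H19 in
theorem pPrimeCore_quotient_upper_one {G : Type u} [Group G] [Finite G] (p : ℕ) [Fact p.Prime] :
    pPrimeCore p (G ⧸ (upperPSeries p G 1).1) = ⊥ := by
  set N1 := (upperPSeries p G 1).1 with hN1
  set M := pPrimeCore p (G ⧸ N1) with hM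
  haveI : M.Normal := Cfsg.Agent.Lib.H22.pPrimeCore_normal p
  set M' := M.comap (QuotientGroup.mk' N1) with hM'
  have hM'n : M'.Normal := inferInstance
  have hN1M' : N1 ≤ M' := by
    intro x hx
    rw [hM', Subgroup.mem_comap]
    have : (QuotientGroup.mk' N1) x = 1 := by
      rw [QuotientGroup.mk'_apply, QuotientGroup.eq_one_iff]; exact hx
    rw [this]; exact M.one_mem
  have hcardN1 : (Nat.card N1).Coprime p := by
    have := upper_relIndex_even (G := G) p (j := 0) (by decide)
    rw [upper_zero, Subgroup.relIndex_bot_left] at this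
    exact this
  have hrel : N1.relIndex M' = Nat.card M := by
    rw [← card_map_mk' N1 M', hM',
      Subgroup.map_comap_eq_self_of_surjective (QuotientGroup.mk'_surjective N1)]
  have hcardM : (Nat.card M).Coprime p := Cfsg.Agent.Lib.H22.card_pPrimeCore_coprime p
  have hcardM' : (Nat.card M').Coprime p := by
    have := Subgroup.relIndex_mul_relIndex ⊥ N1 M' bot_le hN1M'
    rw [Subgroup.relIndex_bot_left, Subgroup.relIndex_bot_left, hrel] at this
    rw [← this]; exact Nat.Coprime.mul_left hcardN1 hcardM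
  have hreach : Reach p 1 M' :=
    Reach.even Reach.zero (by decide) bot_le hM'n
      (by rw [Subgroup.relIndex_bot_left]; exact hcardM')
  have hle : M' ≤ N1 := hreach.le_upper
  rw [eq_bot_iff]
  calc M = M'.map (QuotientGroup.mk' N1) :=
        (Subgroup.map_comap_eq_self_of_surjective (QuotientGroup.mk'_surjective N1) M).symm
    _ ≤ N1.map (QuotientGroup.mk' N1) := Subgroup.map_mono hle
    _ = ⊥ := QuotientGroup.map_mk'_self N1

open Cfsg.Agent.Lib.H19 Cfsg.Agent.Lib.H10 in
theorem center_le_upper_two {G : Type u} [Group G] [Finite G] {p : ℕ} [Fact p.Prime]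
    (hsol : IsPSolvable p G) (S : Sylow p G) (z : G)
    (hc : ∀ y ∈ (S : Subgroup G), z * y = y * z) : z ∈ (upperPSeries p G 2).1 := by
  set N1 := (upperPSeries p G 1).1 with hN1
  have e : (upperPSeries p G 2).1 =
      (pCore p (G ⧸ N1)).comap (QuotientGroup.mk' N1) := upper_succ_odd p (j := 1) (by decide)
  rw [e, Subgroup.mem_comap]
  have hsolQ : IsPSolvable p (G ⧸ N1) := isPSolvable_quotient hsol N1
  have hHH := centralizer_pCore_le_of_isPSolvable p hsolQ (pPrimeCore_quotient_upper_one p)
  apply hHH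
  rw [Subgroup.mem_centralizer_iff]
  intro ybar hy
  have hS' : ybar ∈ ((S.mapSurjective (QuotientGroup.mk'_surjective N1) : Sylow p (G ⧸ N1)) :
      Subgroup (G ⧸ N1)) := Cfsg.Agent.Lib.H1.pCore_le_sylow _ hy
  rw [Sylow.coe_mapSurjective] at hS'
  obtain ⟨y, hyS, rfl⟩ := hS'
  rw [← map_mul, ← map_mul, hc y hyS]

theorem class_image_le {G : Type u} [Group G] [Finite G] {p : ℕ} [Fact p.Prime]
    (hsol : IsPSolvable p G) (S : Sylow p G) :
    Group.nilpotencyClass
      ↥((S.mapSurjective (QuotientGroup.mk'_surjective (upperPSeries p G 2).1) :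
        Sylow p (G ⧸ (upperPSeries p G 2).1)) : Subgroup (G ⧸ (upperPSeries p G 2).1)) ≤
      Group.nilpotencyClass ↥(S : Subgroup G) - 1 := by
  set U2 := (upperPSeries p G 2).1 with hU2
  haveI : Group.IsNilpotent ↥(S : Subgroup G) := S.2.isNilpotent
  let f : ↥(S : Subgroup G) →* ↥((S : Subgroup G).map (QuotientGroup.mk' U2)) :=
    (QuotientGroup.mk' U2).subgroupMap (S : Subgroup G)
  have hf : Function.Surjective f := MonoidHom.subgroupMap_surjective _ _
  have hker : Subgroup.center ↥(S : Subgroup G) ≤ f.ker := by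
    intro z hz
    rw [MonoidHom.mem_ker]
    apply Subtype.ext
    change (QuotientGroup.mk' U2) (z : G) = 1
    rw [QuotientGroup.mk'_apply, QuotientGroup.eq_one_iff]
    apply center_le_upper_two hsol S
    intro y hy
    have := Subgroup.mem_center_iff.mp hz ⟨y, hy⟩
    exact (congrArg Subtype.val this).symm
  let g : ↥(S : Subgroup G) ⧸ Subgroup.center ↥(S : Subgroup G) →*
      ↥((S : Subgroup G).map (QuotientGroup.mk' U2)) :=
    QuotientGroup.lift (Subgroup.center ↥(S : Subgroup G)) f hker
  have hg : Function.Surjective g := by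
    intro y
    obtain ⟨x, rfl⟩ := hf y
    exact ⟨(x : ↥(S : Subgroup G) ⧸ Subgroup.center ↥(S : Subgroup G)), rfl⟩
  have h1 := Group.nilpotencyClass_le_of_surjective g hg
  rw [Group.nilpotencyClass_quotient_center] at h1
  exact h1

open Cfsg.Agent.Lib.H19 Cfsg.Agent.Lib.H10 in
theorem main {p : ℕ} [Fact p.Prime] : ∀ (c : ℕ) (G : Type u) [Group G] [Finite G],
    IsPSolvable p G → (∃ S : Sylow p G, Group.nilpotencyClass ↥(S : Subgroup G) ≤ c) →
    PLengthLE p c G := by
  intro c
  induction c with
  | zero =>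
    intro G _ _ _ hS
    obtain ⟨S, hS⟩ := hS
    haveI : Group.IsNilpotent ↥(S : Subgroup G) := S.2.isNilpotent
    have h0 : Group.nilpotencyClass ↥(S : Subgroup G) = 0 := Nat.le_zero.mp hS
    rw [Group.nilpotencyClass_zero_iff_subsingleton] at h0
    apply plengthLE_zero_of_coprime
    have hbot : (S : Subgroup G) = ⊥ := Subgroup.eq_bot_of_subsingleton _
    have hnd : ¬ p ∣ (S : Subgroup G).index := S.not_dvd_index
    rw [hbot, Subgroup.index_bot] at hnd
    exact ((Nat.Prime.coprime_iff_not_dvd Fact.out).2 hnd).symm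
  | succ c ih =>
    intro G _ _ hsol hS
    obtain ⟨S, hS⟩ := hS
    set U2 := (upperPSeries p G 2).1 with hU2
    have hQ : PLengthLE p c (G ⧸ U2) :=
      ih (G ⧸ U2) (isPSolvable_quotient hsol U2)
        ⟨S.mapSurjective (QuotientGroup.mk'_surjective U2),
          (class_image_le hsol S).trans (by omega)⟩
    rw [plengthLE_iff] at hQ ⊢
    have hU2r : Reach p (2 * 1 + 1) U2 := (reach_upper p 2).succ
    have h2 := Reach.comap_of_reach U2 hU2r hQ
    rw [Subgroup.comap_top] at h2
    have e : 2 * 1 + max (2 * c + 1) 1 = 2 * (c + 1) + 1 := by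
      rw [max_eq_left (by omega)]; ring
    rwa [e] at h2

/-- The p-length of a p-soluble group is at most the nilpotency class of its Sylow p-subgroups. -/
theorem result {G : Type*} [Group G] [Finite G] {p : ℕ} [Fact p.Prime] (hsol : Cfsg.IsPSolvable p G) (S : Sylow p G) : Cfsg.PLengthLE p (Group.nilpotencyClass ↥(S : Subgroup G)) G := by
  exact main _ G hsol ⟨S, le_rfl⟩

end Cfsg.Agent.S0635
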