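import Cfsg.Statements.S0790
import Cfsg.Agent.Lib.H11.SpinSignGen
import Cfsg.Agent.S0287
import Cfsg.Agent.S0286
-- import your own Cfsg.Agent.* helpers here

set_option autoImplicit false
open Cfsg

namespace Cfsg.Agent.S0790

open Cfsg.Agent.Lib.H11.SqCount Cfsg.Agent.Lib.H13

variable {F : Type*} [Field F]

/-- hyperbolic diagonalisation `x y = s^2 - t^2` -/
def hypEquiv (h2 : (2 : F) ≠ 0) (m : ℕ) : (Fin m ⊕ Fin m → F) ≃ (Fin m ⊕ Fin m → F) where
  toFun u := Sum.elim (fun i => (u (.inl i) + u (.inr i)) / 2)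
    (fun i => (u (.inl i) - u (.inr i)) / 2)
  invFun t := Sum.elim (fun i => t (.inl i) + t (.inr i)) (fun i => t (.inl i) - t (.inr i))
  left_inv u := by
    funext j
    rcases j with i | i
    · simp only [Sum.elim_inl, Sum.elim_inr]
      field_simp
      ring
    · simp only [Sum.elim_inl, Sum.elim_inr]
      field_simp
      ring
  right_inv t := by
    funext j
    rcases j with i | i
    · simp only [Sum.elim_inl, Sum.elim_inr]
      field_simp
      ring
    · simp only [Sum.elim_inl, Sum.elim_inr]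
      field_simp
      ring

/-- the weights `(1,…,1,-1,…,-1)` -/
def wt (F : Type*) [Field F] (m : ℕ) : Fin m ⊕ Fin m → F := Sum.elim (fun _ => 1) (fun _ => -1)

theorem sum_hyp (h2 : (2 : F) ≠ 0) (m : ℕ) (u : Fin m ⊕ Fin m → F) :
    ∑ j, wt F m j * (hypEquiv h2 m u j * hypEquiv h2 m u j) = Cfsg.quadFormPlus m F u := by
  rw [Fintype.sum_sum_type, ← Finset.sum_add_distrib, Cfsg.quadFormPlus]
  apply Finset.sum_congr rfl
  intro i _
  simp only [wt, hypEquiv, Equiv.coe_fn_mk, Sum.elim_inl, Sum.elim_inr]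
  field_simp
  ring

theorem exists_one : ∃ s : F, (1 : F) * (s * s) = 1 := ⟨1, by ring⟩

theorem exists_neg_one_iff : (∃ s : F, (-1 : F) * (s * s) = 1) ↔ IsSquare (-1 : F) := by
  constructor
  · rintro ⟨s, hs⟩
    exact ⟨s, by linear_combination hs⟩
  · rintro ⟨r, hr⟩
    exact ⟨r, by rw [← hr]; ring⟩

open scoped Classical in
theorem R_wt [Fintype F] (m : ℕ) :
    R (wt F m) 1 = m + if IsSquare (-1 : F) then m else 0 := by
  unfold wt
  rw [R_sum_elim, R_const, R_const, if_pos exists_one, Fintype.card_fin]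
  congr 1
  by_cases h : IsSquare (-1 : F)
  · rw [if_pos h, if_pos (exists_neg_one_iff.2 h)]
  · rw [if_neg h, if_neg (fun h' => h (exists_neg_one_iff.1 h'))]

theorem three_pow_mod (m : ℕ) : (Even m → 3 ^ m % 4 = 1) ∧ (¬ Even m → 3 ^ m % 4 = 3) := by
  induction m with
  | zero => simp
  | succ m ih =>
    rw [Nat.even_add_one, not_not, pow_succ]
    constructor
    · intro h
      have := ih.2 h
      omega
    · intro h
      have := ih.1 h
      omega

theorem pow_mod_four_of_one (q m : ℕ) (h : q % 4 = 1) : q ^ m % 4 = 1 := by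
  rw [Nat.pow_mod, h, one_pow]
  rfl

theorem pow_mod_four_of_three (q m : ℕ) (h : q % 4 = 3) :
    (Even m → q ^ m % 4 = 1) ∧ (¬ Even m → q ^ m % 4 = 3) := by
  rw [Nat.pow_mod, h]
  exact three_pow_mod m

/-- −1 ∈ Ω⁺_2m(q) iff q^m ≡ 1 (mod 4), for q odd and m ≥ 1 (so that in the other case SO⁺_2m(q) = 2 × Ω⁺_2m(q)). -/
theorem result {F : Type*} [Field F] [Fintype F] {q : ℕ} (hF : Fintype.card F = q) (hodd : Odd q) (m : ℕ) (hm : 1 ≤ m) : (∃ g : ↥(Cfsg.isometryGroup F (Cfsg.quadFormPlus m F)), g ∈ Cfsg.Omega F (Cfsg.quadFormPlus m F) ∧ ((g : Matrix.GeneralLinearGroup (Fin m ⊕ Fin m) F) : Matrix (Fin m ⊕ Fin m) (Fin m ⊕ Fin m) F) = -1) ↔ q ^ m % 4 = 1 := by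
  classical
  have h2 : (2 : F) ≠ 0 := Cfsg.Agent.S0286.two_ne_zero_of_odd (hF ▸ hodd)
  have hcard : Fintype.card (Fin m ⊕ Fin m) = m + m := by
    rw [Fintype.card_sum, Fintype.card_fin]
  have key := Cfsg.Agent.Lib.H11.SpinSignGen.neg_one_mem_iff_diag (plusQF F m)
    (Cfsg.Agent.S0287.nondeg m) h2 (by rw [hcard]; omega) (by rw [hcard]; exact ⟨m, rfl⟩)
    1 one_ne_zero (wt F m) (hypEquiv h2 m)
    (fun x => by rw [sum_hyp, plusQF_apply])
  rw [Cfsg.Agent.S0287.coe_plusQF] at key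
  rw [key, R_wt]
  have hsq := FiniteField.isSquare_neg_one_iff (F := F)
  rw [hF] at hsq
  rw [Nat.odd_iff] at hodd
  by_cases h : IsSquare (-1 : F)
  · rw [if_pos h]
    have h4 : q % 4 = 1 := by
      have := hsq.1 h
      omega
    rw [pow_mod_four_of_one q m h4]
    simp only [iff_true]
    exact ⟨m, rfl⟩
  · rw [if_neg h, add_zero]
    have h4 : q % 4 = 3 := by
      by_contra h'
      exact h (hsq.2 h')
    have := pow_mod_four_of_three q m h4
    constructor
    · exact this.1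
    · intro h1
      by_contra hme
      have := this.2 hme
      omega

end Cfsg.Agent.S0790
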