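import Cfsg.Statements.S0791
import Cfsg.Agent.Lib.H11.SpinSignGen
import Cfsg.Agent.S0288
import Cfsg.Agent.S0790
-- import your own Cfsg.Agent.* helpers here

set_option autoImplicit false
open Cfsg

namespace Cfsg.Agent.S0791

open Cfsg.Agent.Lib.H11.SqCount Cfsg.Agent.Lib.H13 Cfsg.Agent.S0790

variable {F : Type*} [Field F]

abbrev K (m : ℕ) : Type := Fin m ⊕ Fin m

/-- diagonalisation of the minus form: hyperbolic part and completing the square -/
def minEquiv (h2 : (2 : F) ≠ 0) (k : ℕ) (a : F) : (K k ⊕ Fin 2 → F) ≃ (K k ⊕ Fin 2 → F) where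
  toFun u := Sum.elim (hypEquiv h2 k (u ∘ Sum.inl))
    ![u (.inr 0) + a / 2 * u (.inr 1), u (.inr 1)]
  invFun t := Sum.elim ((hypEquiv h2 k).symm (t ∘ Sum.inl))
    ![t (.inr 0) - a / 2 * t (.inr 1), t (.inr 1)]
  left_inv u := by
    funext j
    rcases j with j | j
    · have : (Sum.elim (hypEquiv h2 k (u ∘ Sum.inl))
          ![u (.inr 0) + a / 2 * u (.inr 1), u (.inr 1)] : K k ⊕ Fin 2 → F) ∘ Sum.inl =
          hypEquiv h2 k (u ∘ Sum.inl) := by
        funext i; rfl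
      simp only [Sum.elim_inl, this, Equiv.symm_apply_apply, Function.comp_apply]
    · fin_cases j
      · simp
      · simp
  right_inv t := by
    funext j
    rcases j with j | j
    · have : (Sum.elim ((hypEquiv h2 k).symm (t ∘ Sum.inl))
          ![t (.inr 0) - a / 2 * t (.inr 1), t (.inr 1)] : K k ⊕ Fin 2 → F) ∘ Sum.inl =
          (hypEquiv h2 k).symm (t ∘ Sum.inl) := by
        funext i; rfl
      simp only [Sum.elim_inl, this, Equiv.apply_symm_apply, Function.comp_apply]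
    · fin_cases j
      · simp
      · simp

/-- the weights -/
def wtm (k : ℕ) (a b : F) : K k ⊕ Fin 2 → F := Sum.elim (wt F k) ![1, b - a ^ 2 / 4]

theorem sum_min (h2 : (2 : F) ≠ 0) (k : ℕ) (a b : F) (u : K k ⊕ Fin 2 → F) :
    ∑ j, wtm k a b j * (minEquiv h2 k a u j * minEquiv h2 k a u j) =
      Cfsg.quadFormMinus k F a b u := by
  rw [Fintype.sum_sum_type, Cfsg.quadFormMinus]
  have h1 := sum_hyp h2 k (u ∘ Sum.inl)
  simp only [wtm, minEquiv, Equiv.coe_fn_mk, Sum.elim_inl, Sum.elim_inr] at h1 ⊢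
  rw [h1, Fin.sum_univ_two, Cfsg.quadFormPlus]
  simp only [Function.comp_apply, Matrix.cons_val_zero, Matrix.cons_val_one]
  congr 1
  have h4 : (4 : F) ≠ 0 := by
    have : (4 : F) = 2 * 2 := by norm_num
    rw [this]
    exact mul_ne_zero h2 h2
  field_simp
  ring

open scoped Classical in
theorem R_fin_two [Fintype F] (w : Fin 2 → F) (c : F) :
    R w c = (if ∃ s : F, w 0 * (s * s) = c then 1 else 0) +
      (if ∃ s : F, w 1 * (s * s) = c then 1 else 0) := by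
  unfold R
  rw [Nat.card_eq_fintype_card, Fintype.card_subtype, Finset.card_filter, Fin.sum_univ_two]

theorem aniso_iff [Finite F] (h2 : (2 : F) ≠ 0) (a b : F)
    (hab : ∀ z₁ z₂ : F, z₁ ^ 2 + a * z₁ * z₂ + b * z₂ ^ 2 = 0 → z₁ = 0 ∧ z₂ = 0) :
    (∃ s : F, (b - a ^ 2 / 4) * (s * s) = 1) ↔ ¬ IsSquare (-1 : F) := by
  have h4 : (4 : F) ≠ 0 := by
    have : (4 : F) = 2 * 2 := by norm_num
    rw [this]
    exact mul_ne_zero h2 h2
  constructor
  · rintro ⟨s, hs⟩ ⟨i, hi⟩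
    have := hab (i - a * s / 2) s (by
      field_simp at hs ⊢
      linear_combination hs - 4 * hi)
    rw [this.2] at hs
    simp at hs
  · intro h
    have hd : b - a ^ 2 / 4 ≠ 0 := by
      intro hd
      have := hab (-a / 2) 1 (by
        field_simp at hd ⊢
        linear_combination hd)
      exact one_ne_zero this.2
    obtain ⟨c, hc, hc' | hc'⟩ := Cfsg.Agent.S0756.square_class h2 (-1) h _ hd
    · refine ⟨c⁻¹, ?_⟩
      rw [hc']
      field_simp
    · exfalso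
      have := hab (c - a / 2) 1 (by
        field_simp at hc' ⊢
        linear_combination hc')
      exact one_ne_zero this.2

open scoped Classical in
theorem R_wtm [Fintype F] (h2 : (2 : F) ≠ 0) (k : ℕ) (a b : F)
    (hab : ∀ z₁ z₂ : F, z₁ ^ 2 + a * z₁ * z₂ + b * z₂ ^ 2 = 0 → z₁ = 0 ∧ z₂ = 0) :
    R (wtm k a b) 1 = (k + if IsSquare (-1 : F) then k else 0) +
      (1 + if IsSquare (-1 : F) then 0 else 1) := by
  unfold wtm
  rw [R_sum_elim, R_wt, R_fin_two]
  have hiff : (∃ s : F, (![1, b - a ^ 2 / 4] : Fin 2 → F) 1 * (s * s) = 1) ↔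
      ¬ IsSquare (-1 : F) := aniso_iff h2 a b hab
  have h0 : ∃ s : F, (![1, b - a ^ 2 / 4] : Fin 2 → F) 0 * (s * s) = 1 := ⟨1, by simp⟩
  rw [if_pos h0]
  by_cases h : IsSquare (-1 : F)
  · rw [if_pos h, if_pos h, if_neg (fun h' => (hiff.1 h') h)]
  · rw [if_neg h, if_neg h, if_pos (hiff.2 h)]

theorem main_k {F : Type*} [Field F] [Fintype F] {q : ℕ} (hF : Fintype.card F = q) (hodd : Odd q)
    (k : ℕ) (a b : F)
    (hab : ∀ z₁ z₂ : F, z₁ ^ 2 + a * z₁ * z₂ + b * z₂ ^ 2 = 0 → z₁ = 0 ∧ z₂ = 0) :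
    (∃ g : ↥(Cfsg.isometryGroup F (Cfsg.quadFormMinus k F a b)),
      g ∈ Cfsg.Omega F (Cfsg.quadFormMinus k F a b) ∧
      ((g : Matrix.GeneralLinearGroup ((Fin k ⊕ Fin k) ⊕ Fin 2) F) :
        Matrix ((Fin k ⊕ Fin k) ⊕ Fin 2) ((Fin k ⊕ Fin k) ⊕ Fin 2) F) = -1) ↔
      q ^ (k + 1) % 4 = 3 := by
  classical
  have h2 : (2 : F) ≠ 0 := Cfsg.Agent.S0286.two_ne_zero_of_odd (hF ▸ hodd)
  have hcard : Fintype.card ((Fin k ⊕ Fin k) ⊕ Fin 2) = k + k + 2 := by
    rw [Fintype.card_sum, Fintype.card_sum, Fintype.card_fin, Fintype.card_fin]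
  have key := Cfsg.Agent.Lib.H11.SpinSignGen.neg_one_mem_iff_diag (minusQF F k a b)
    (Cfsg.Agent.S0288.nondeg a b hab k) h2 (by rw [hcard]; omega)
    (by rw [hcard]; exact ⟨k + 1, by ring⟩)
    1 one_ne_zero (wtm k a b) (minEquiv h2 k a)
    (fun x => by rw [sum_min, minusQF_apply])
  rw [Cfsg.Agent.S0288.coe_minusQF] at key
  rw [key, R_wtm h2 k a b hab]
  have hsq := FiniteField.isSquare_neg_one_iff (F := F)
  rw [hF] at hsq
  rw [Nat.odd_iff] at hodd
  by_cases h : IsSquare (-1 : F)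
  · rw [if_pos h, if_pos h]
    have h4 : q % 4 = 1 := by
      have := hsq.1 h
      omega
    rw [pow_mod_four_of_one q (k + 1) h4]
    simp only [add_zero, OfNat.one_ne_ofNat, iff_false, Nat.not_even_iff_odd]
    exact ⟨k, by ring⟩
  · rw [if_neg h, if_neg h, add_zero]
    have h4 : q % 4 = 3 := by
      by_contra h'
      exact h (hsq.2 h')
    have := pow_mod_four_of_three q (k + 1) h4
    rw [Nat.even_add_one] at this
    have he : Even (k + (1 + 1)) ↔ Even k := by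
      rw [← add_assoc, Nat.even_add_one, Nat.even_add_one, not_not]
    rw [he]
    constructor
    · intro hk
      exact this.2 (not_not.2 hk)
    · intro h1
      by_contra hk
      have := this.1 hk
      omega

/-- −1 ∈ Ω⁻_2m(q) iff q^m ≡ −1 (mod 4), for q odd and m ≥ 1; for the minus-type form quadFormMinus (m−1) with anisotropic binary part. -/
theorem result {F : Type*} [Field F] [Fintype F] {q : ℕ} (hF : Fintype.card F = q) (hodd : Odd q) (m : ℕ) (hm : 1 ≤ m) (a b : F) (hab : ∀ z₁ z₂ : F, z₁ ^ 2 + a * z₁ * z₂ + b * z₂ ^ 2 = 0 → z₁ = 0 ∧ z₂ = 0) : (∃ g : ↥(Cfsg.isometryGroup F (Cfsg.quadFormMinus (m - 1) F a b)), g ∈ Cfsg.Omega F (Cfsg.quadFormMinus (m - 1) F a b) ∧ ((g : Matrix.GeneralLinearGroup ((Fin (m - 1) ⊕ Fin (m - 1)) ⊕ Fin 2) F) : Matrix ((Fin (m - 1) ⊕ Fin (m - 1)) ⊕ Fin 2) ((Fin (m - 1) ⊕ Fin (m - 1)) ⊕ Fin 2) F) = -1) ↔ q ^ m % 4 = 3 := by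
  obtain ⟨k, rfl⟩ : ∃ k, m = k + 1 := ⟨m - 1, by omega⟩
  exact main_k hF hodd k a b hab

end Cfsg.Agent.S0791
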