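import Cfsg.Statements.S0099
import Mathlib
import Cfsg.Agent.Lib.H1.ExtraGlue

set_option autoImplicit false
open Cfsg

namespace Cfsg.Agent.S0099

universe u v

open Cfsg.Agent.Lib.H1
open scoped commutatorElement

section two

variable {E : Type*} [Group E]

theorem central_cases (h : IsHeis 2 E) {c : E} (hc : c ∈ Subgroup.center E) (hc1 : c ≠ 1)
    {w : E} (hw : w ∈ Subgroup.center E) : w = 1 ∨ w = c := by
  haveI : Fact (Nat.Prime 2) := ⟨Nat.prime_two⟩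
  have ho : orderOf c = 2 := h.orderOf_eq hc hc1
  have hc2 : c ^ (2 : ℤ) = 1 := by
    have := pow_orderOf_eq_one c
    rw [ho] at this
    exact_mod_cast this
  obtain ⟨k, hk⟩ := Subgroup.mem_zpowers_iff.mp (h.mem_zpowers hc hc1 hw)
  rcases Int.even_or_odd' k with ⟨m, hm | hm⟩
  · left; rw [← hk, hm, zpow_mul, hc2, one_zpow]
  · right; rw [← hk, hm, zpow_add, zpow_mul, hc2, one_zpow, one_mul, zpow_one]

theorem sq_cases (h : IsHeis 2 E) {c : E} (hc : c ∈ Subgroup.center E) (hc1 : c ≠ 1) (g : E) :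
    g ^ 2 = 1 ∨ g ^ 2 = c := central_cases h hc hc1 (h.pow_mem g)

theorem comm_eq_of_ne (h : IsHeis 2 E) {c : E} (hc : c ∈ Subgroup.center E) (hc1 : c ≠ 1)
    {a b : E} (hab : ⁅a, b⁆ ≠ 1) : ⁅a, b⁆ = c :=
  (central_cases h hc hc1 (h.comm_mem a b)).resolve_left hab

theorem c_sq (h : IsHeis 2 E) {c : E} (hc : c ∈ Subgroup.center E) (hc1 : c ≠ 1) : c * c = 1 := by
  haveI : Fact (Nat.Prime 2) := ⟨Nat.prime_two⟩
  have ho : orderOf c = 2 := h.orderOf_eq hc hc1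
  have := pow_orderOf_eq_one c
  rw [ho, pow_two] at this
  exact this

/-- `(ab)² = ⁅b,a⁆ a² b²` when commutators are central -/
theorem mul_sq (h : IsHeis 2 E) (a b : E) : (a * b) ^ 2 = ⁅b, a⁆ * a ^ 2 * b ^ 2 := by
  have hz : ∀ g : E, g * ⁅b, a⁆ = ⁅b, a⁆ * g := fun g => Subgroup.mem_center_iff.mp (h.comm_mem b a) g
  have h1 : b * a = ⁅b, a⁆ * (a * b) := by rw [commutatorElement_def]; group
  calc (a * b) ^ 2 = a * (b * a) * b := by rw [pow_two]; group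
    _ = a * (⁅b, a⁆ * (a * b)) * b := by rw [h1]
    _ = (a * ⁅b, a⁆) * a * b * b := by simp only [mul_assoc]
    _ = (⁅b, a⁆ * a) * a * b * b := by rw [hz]
    _ = ⁅b, a⁆ * a ^ 2 * b ^ 2 := by rw [pow_two, pow_two]; simp only [mul_assoc]

theorem comm_mul_self_right (h : IsHeis 2 E) (a b : E) : ⁅a, a * b⁆ = ⁅a, b⁆ := by
  have hz : ∀ g : E, g * ⁅a, b⁆ = ⁅a, b⁆ * g := fun g => Subgroup.mem_center_iff.mp (h.comm_mem a b) g
  calc ⁅a, a * b⁆ = a * ⁅a, b⁆ * a⁻¹ := by rw [commutatorElement_def, commutatorElement_def]; group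
    _ = ⁅a, b⁆ * a * a⁻¹ := by rw [hz]
    _ = ⁅a, b⁆ := by group

/-- from a noncentral involution we get a hyperbolic pair of involutions -/
theorem exists_involution_pair (h : IsHeis 2 E) {x y₀ : E} (hx : x ^ 2 = 1) (hxy : ⁅x, y₀⁆ ≠ 1) :
    ∃ y : E, y ^ 2 = 1 ∧ ⁅x, y⁆ ≠ 1 := by
  have hc := h.comm_mem x y₀
  rcases sq_cases h hc hxy y₀ with hy | hy
  · exact ⟨y₀, hy, hxy⟩
  · refine ⟨x * y₀, ?_, by rw [comm_mul_self_right h]; exact hxy⟩
    have h1 : ⁅y₀, x⁆ = ⁅x, y₀⁆ := by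
      have h2 : ⁅y₀, x⁆ ≠ 1 := by
        intro h3
        apply hxy
        rw [← commutatorElement_inv, h3, inv_one]
      exact comm_eq_of_ne h hc hxy h2
    rw [mul_sq h, hx, hy, h1, mul_one]
    exact c_sq h hc hxy

end two


/-- the "type" of a group obtained by iterated central products with dihedral groups of order 8
from a base which is dihedral (`true`) or quaternion (`false`) of order 8 -/
inductive HasTy : Bool → ∀ (E : Type u) [Group E], Prop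
  | baseD (E : Type u) [Group E] (x y : E) : Nat.card E = 8 → ⁅x, y⁆ ≠ 1 → x ^ 2 = 1 → y ^ 2 = 1 →
      HasTy true E
  | baseQ (E : Type u) [Group E] (x y : E) : Nat.card E = 8 → ⁅x, y⁆ ≠ 1 → x ^ 2 = ⁅x, y⁆ →
      y ^ 2 = ⁅x, y⁆ → HasTy false E
  | step (b : Bool) (E : Type u) [Group E] (x y : E) : ⁅x, y⁆ ≠ 1 → x ^ 2 = 1 → y ^ 2 = 1 →
      HasTy b (pairCentralizer x y) → HasTy b E

theorem HasTy.card_ge {b : Bool} {E : Type u} [Group E] (h : HasTy b E) :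
    IsHeis 2 E → Finite E → 8 ≤ Nat.card E := by
  haveI : Fact (Nat.Prime 2) := ⟨Nat.prime_two⟩
  induction h with
  | baseD E x y hc _ _ _ => intro _ _; omega
  | baseQ E x y hc _ _ _ => intro _ _; omega
  | step b E x y hxy _ _ _ ih =>
    intro hH hF
    have h1 := ih (hH.pairCentralizer_isHeis hxy) inferInstance
    have h2 := hH.card_pairCentralizer hxy
    omega

/-- a group isomorphism maps the centre into the centre -/
theorem map_mem_center {A : Type*} {B : Type*} [Group A] [Group B] (β : A ≃* B) {z : A}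
    (hz : z ∈ Subgroup.center A) : β z ∈ Subgroup.center B := by
  rw [Subgroup.mem_center_iff] at hz ⊢
  intro g
  obtain ⟨a, rfl⟩ := β.surjective g
  rw [← map_mul, ← map_mul, hz a]

/-- the base isomorphism between pair centralizers of order two -/
theorem exists_base_iso {E₁ : Type u} {E₂ : Type v} [Group E₁] [Group E₂] [Finite E₁] [Finite E₂]
    (h₁ : IsHeis 2 E₁) (h₂ : IsHeis 2 E₂) {x₁ y₁ : E₁} {x₂ y₂ : E₂} (hxy₁ : ⁅x₁, y₁⁆ ≠ 1)
    (hxy₂ : ⁅x₂, y₂⁆ ≠ 1) (hc₁ : Nat.card E₁ = 8) (hc₂ : Nat.card E₂ = 8) :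
    ∃ β : pairCentralizer x₁ y₁ ≃* pairCentralizer x₂ y₂,
      ∀ h : ⁅x₁, y₁⁆ ∈ pairCentralizer x₁ y₁,
        ((β ⟨_, h⟩ : pairCentralizer x₂ y₂) : E₂) = ⁅x₂, y₂⁆ := by
  haveI : Fact (Nat.Prime 2) := ⟨Nat.prime_two⟩
  have hq₁ : Nat.card (pairCentralizer x₁ y₁) = 2 := by
    have := h₁.card_pairCentralizer hxy₁; omega
  have hq₂ : Nat.card (pairCentralizer x₂ y₂) = 2 := by
    have := h₂.card_pairCentralizer hxy₂; omega
  have hm₁ : ⁅x₁, y₁⁆ ∈ pairCentralizer x₁ y₁ :=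
    center_le_pairCentralizer _ _ (h₁.comm_mem _ _)
  have hm₂ : ⁅x₂, y₂⁆ ∈ pairCentralizer x₂ y₂ :=
    center_le_pairCentralizer _ _ (h₂.comm_mem _ _)
  set g₁ : pairCentralizer x₁ y₁ := ⟨_, hm₁⟩ with hg₁
  set g₂ : pairCentralizer x₂ y₂ := ⟨_, hm₂⟩ with hg₂
  have hg₁1 : g₁ ≠ 1 := fun h => hxy₁ (congrArg Subtype.val h)
  have hg₂1 : g₂ ≠ 1 := fun h => hxy₂ (congrArg Subtype.val h)
  have hgen₁ : ∀ w, w ∈ Subgroup.zpowers g₁ := fun w => mem_zpowers_of_prime_card hq₁ hg₁1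
  have hgen₂ : ∀ w, w ∈ Subgroup.zpowers g₂ := fun w => mem_zpowers_of_prime_card hq₂ hg₂1
  have ho : orderOf g₁ = orderOf g₂ := by
    rw [orderOf_eq_prime (p := 2) (by rw [← hq₁]; exact pow_card_eq_one') hg₁1,
      orderOf_eq_prime (p := 2) (by rw [← hq₂]; exact pow_card_eq_one') hg₂1]
  refine ⟨mulEquivOfOrderOfEq hgen₁ hgen₂ ho, fun h => ?_⟩
  have := mulEquivOfOrderOfEq_apply_gen hgen₁ hgen₂ ho
  exact congrArg Subtype.val this

theorem one_mem_image {E₁ : Type u} {E₂ : Type v} [Group E₁] [Group E₂] {Q₁ : Subgroup E₁}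
    {Q₂ : Subgroup E₂} (β : Q₁ ≃* Q₂) (w : E₁) (hw : w ∈ Q₁) (hw1 : w = 1) :
    ((β ⟨w, hw⟩ : Q₂) : E₂) = 1 := by
  subst hw1
  have : (⟨1, hw⟩ : Q₁) = 1 := rfl
  rw [this, map_one]; rfl

/-- groups of the same type and order are isomorphic -/
theorem iso_of_hasTy {b : Bool} {E₁ : Type u} [Group E₁] (t₁ : HasTy b E₁) :
    IsHeis 2 E₁ → Finite E₁ → ∀ (E₂ : Type v) [Group E₂], HasTy b E₂ → IsHeis 2 E₂ → Finite E₂ →
      Nat.card E₁ = Nat.card E₂ → Nonempty (E₁ ≃* E₂) := by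
  haveI : Fact (Nat.Prime 2) := ⟨Nat.prime_two⟩
  induction t₁ with
  | baseD E₁ x₁ y₁ hc₁ hxy₁ hx₁ hy₁ =>
    intro h₁ _ E₂ _ t₂ h₂ _ hcard
    cases t₂ with
    | baseD _ x₂ y₂ hc₂ hxy₂ hx₂ hy₂ =>
      obtain ⟨β, hβ⟩ := exists_base_iso h₁ h₂ hxy₁ hxy₂ hc₁ hc₂
      obtain ⟨γ, -⟩ := glue_exists (h₁.glueData hxy₁) (h₂.glueData hxy₂) β hβ
        (fun h => by rw [one_mem_image β _ h hx₁, hx₂])
        (fun h => by rw [one_mem_image β _ h hy₁, hy₂])
      exact ⟨γ⟩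
    | step _ _ x₂ y₂ hxy₂ hx₂ hy₂ tQ₂ =>
      exfalso
      have h3 := tQ₂.card_ge (h₂.pairCentralizer_isHeis hxy₂) inferInstance
      have h4 := h₂.card_pairCentralizer hxy₂
      omega
  | baseQ E₁ x₁ y₁ hc₁ hxy₁ hx₁ hy₁ =>
    intro h₁ _ E₂ _ t₂ h₂ _ hcard
    cases t₂ with
    | baseQ _ x₂ y₂ hc₂ hxy₂ hx₂ hy₂ =>
      obtain ⟨β, hβ⟩ := exists_base_iso h₁ h₂ hxy₁ hxy₂ hc₁ hc₂
      have hm₁ : ⁅x₁, y₁⁆ ∈ pairCentralizer x₁ y₁ :=
        center_le_pairCentralizer _ _ (h₁.comm_mem _ _)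
      have key : ∀ (w : E₁) (hw : w ∈ pairCentralizer x₁ y₁), w = ⁅x₁, y₁⁆ →
          ((β ⟨w, hw⟩ : pairCentralizer x₂ y₂) : E₂) = ⁅x₂, y₂⁆ := by
        intro w hw hw1
        subst hw1
        exact hβ hw
      obtain ⟨γ, -⟩ := glue_exists (h₁.glueData hxy₁) (h₂.glueData hxy₂) β hβ
        (fun h => by rw [key _ h hx₁, hx₂])
        (fun h => by rw [key _ h hy₁, hy₂])
      exact ⟨γ⟩
    | step _ _ x₂ y₂ hxy₂ hx₂ hy₂ tQ₂ =>
      exfalso
      have h3 := tQ₂.card_ge (h₂.pairCentralizer_isHeis hxy₂) inferInstance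
      have h4 := h₂.card_pairCentralizer hxy₂
      omega
  | step b E₁ x₁ y₁ hxy₁ hx₁ hy₁ tQ₁ ih =>
    intro h₁ _ E₂ _ t₂ h₂ _ hcard
    have hQ₁ := h₁.pairCentralizer_isHeis hxy₁
    have hk₁ := h₁.card_pairCentralizer hxy₁
    have hge₁ := tQ₁.card_ge hQ₁ inferInstance
    have hstep : ∀ (x₂ y₂ : E₂), ⁅x₂, y₂⁆ ≠ 1 → x₂ ^ 2 = 1 → y₂ ^ 2 = 1 →
        HasTy b (pairCentralizer x₂ y₂) → Nonempty (E₁ ≃* E₂) := by
      intro x₂ y₂ hxy₂ hx₂ hy₂ tQ₂
      have hQ₂ := h₂.pairCentralizer_isHeis hxy₂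
      have hk₂ := h₂.card_pairCentralizer hxy₂
      obtain ⟨β⟩ := ih hQ₁ inferInstance (pairCentralizer x₂ y₂) tQ₂ hQ₂ inferInstance (by omega)
      have hm₁ : ⁅x₁, y₁⁆ ∈ pairCentralizer x₁ y₁ :=
        center_le_pairCentralizer _ _ (h₁.comm_mem _ _)
      have hβc : ∀ h : ⁅x₁, y₁⁆ ∈ pairCentralizer x₁ y₁,
          ((β ⟨_, h⟩ : pairCentralizer x₂ y₂) : E₂) = ⁅x₂, y₂⁆ := by
        intro h
        have hz₁ : (⟨⁅x₁, y₁⁆, h⟩ : pairCentralizer x₁ y₁) ∈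
            Subgroup.center (pairCentralizer x₁ y₁) := by
          rw [h₁.center_pairCentralizer hxy₁, Subgroup.mem_subgroupOf]
          exact h₁.comm_mem _ _
        have hz₂ := map_mem_center β hz₁
        rw [h₂.center_pairCentralizer hxy₂, Subgroup.mem_subgroupOf] at hz₂
        have hne : ((β ⟨⁅x₁, y₁⁆, h⟩ : pairCentralizer x₂ y₂) : E₂) ≠ 1 := by
          intro h1
          have h2 : β ⟨⁅x₁, y₁⁆, h⟩ = 1 := Subtype.ext h1
          have h3 := (map_eq_one_iff β β.injective).mp h2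
          exact hxy₁ (congrArg Subtype.val h3)
        exact (central_cases h₂ (h₂.comm_mem x₂ y₂) hxy₂ hz₂).resolve_left hne
      obtain ⟨γ, -⟩ := glue_exists (h₁.glueData hxy₁) (h₂.glueData hxy₂) β hβc
        (fun h => by rw [one_mem_image β _ h hx₁, hx₂])
        (fun h => by rw [one_mem_image β _ h hy₁, hy₂])
      exact ⟨γ⟩
    cases t₂ with
    | baseD _ x₂ y₂ hc₂ hxy₂ hx₂ hy₂ => exfalso; omega
    | baseQ _ x₂ y₂ hc₂ hxy₂ hx₂ hy₂ => exfalso; omega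
    | step _ _ x₂ y₂ hxy₂ hx₂ hy₂ tQ₂ => exact hstep x₂ y₂ hxy₂ hx₂ hy₂ tQ₂

theorem comm_ne_one_symm {E : Type*} [Group E] {a b : E} (h : ⁅a, b⁆ ≠ 1) : ⁅b, a⁆ ≠ 1 := by
  intro h3
  apply h
  rw [← commutatorElement_inv, h3, inv_one]

/-- every nonabelian member of the class has a type -/
theorem exists_hasTy : ∀ (n : ℕ) (E : Type u) [Group E] [Finite E], IsHeis 2 E →
    (∃ a b : E, a * b ≠ b * a) → Nat.card E = n → ∃ b, HasTy b E := by
  intro n
  induction n using Nat.strong_induction_on with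
  | _ n ih =>
  intro E _ _ h hab hn
  haveI : Fact (Nat.Prime 2) := ⟨Nat.prime_two⟩
  obtain ⟨a, b, hab⟩ := hab
  have hab1 : ⁅a, b⁆ ≠ 1 := fun h' => hab (commutatorElement_eq_one_iff_mul_comm.mp h')
  have hcz := h.comm_mem a b
  by_cases h8 : Nat.card E = 8
  · rcases sq_cases h hcz hab1 a with ha | ha
    · obtain ⟨y, hy, hxy⟩ := exists_involution_pair h ha hab1
      exact ⟨true, HasTy.baseD E a y h8 hxy ha hy⟩
    · rcases sq_cases h hcz hab1 b with hb | hb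
      · obtain ⟨y, hy, hxy⟩ := exists_involution_pair h hb (comm_ne_one_symm hab1)
        exact ⟨true, HasTy.baseD E b y h8 hxy hb hy⟩
      · exact ⟨false, HasTy.baseQ E a b h8 hab1 ha hb⟩
  · have hna : ∀ {x y : E}, ⁅x, y⁆ ≠ 1 → ∃ u v : pairCentralizer x y, u * v ≠ v * u := by
      intro x y hxy
      have hQ := h.pairCentralizer_isHeis hxy
      have hk := h.card_pairCentralizer hxy
      by_contra hcon
      push Not at hcon
      have := (hQ.card_eq_iff_comm).mpr hcon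
      omega
    obtain ⟨u, v, huv⟩ := hna hab1
    have huv1 : ⁅(u : E), (v : E)⁆ ≠ 1 := by
      intro h'
      apply huv
      apply Subtype.ext
      exact commutatorElement_eq_one_iff_mul_comm.mp h'
    have hx : ∃ x y₀ : E, x ^ 2 = 1 ∧ ⁅x, y₀⁆ ≠ 1 := by
      rcases sq_cases h hcz hab1 a with ha | ha
      · exact ⟨a, b, ha, hab1⟩
      · rcases sq_cases h hcz hab1 (u : E) with hu | hu
        · exact ⟨u, v, hu, huv1⟩
        · refine ⟨a * u, b, ?_, ?_⟩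
          · rw [mul_sq h, GlueData.comm_x_of_mem_Q u.2, ha, hu, one_mul]
            exact c_sq h hcz hab1
          · rw [commutator_mul_left_of_central (h.comm_mem _ _), GlueData.comm_y_of_mem_Q u.2,
              mul_one]
            exact hab1
    obtain ⟨x, y₀, hx2, hxy₀⟩ := hx
    obtain ⟨y, hy2, hxy⟩ := exists_involution_pair h hx2 hxy₀
    have hQ' := h.pairCentralizer_isHeis hxy
    have hk' := h.card_pairCentralizer hxy
    have hpos : 0 < Nat.card (pairCentralizer x y) := Nat.card_pos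
    obtain ⟨b', hb'⟩ := ih (Nat.card (pairCentralizer x y)) (by omega) (pairCentralizer x y) hQ'
      (hna hxy) rfl
    exact ⟨b', HasTy.step b' E x y hxy hx2 hy2 hb'⟩

theorem nonabelian_of_isExtraspecial {E : Type*} [Group E] [Finite E]
    (h : Cfsg.IsExtraspecial 2 E) : ∃ a b : E, a * b ≠ b * a := by
  by_contra hcon
  push Not at hcon
  have h1 : commutator E = ⊥ := by
    rw [commutator_def, Subgroup.commutator_eq_bot_iff_le_centralizer]
    intro g _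
    rw [Subgroup.mem_centralizer_iff]
    intro k _
    exact hcon k g
  have h2 := h.2
  rw [← h.1.2.2, h1, Subgroup.card_bot] at h2
  omega

/-- Among three extraspecial 2-groups of equal order, some two are isomorphic. -/
theorem result {E₁ : Type*} {E₂ : Type*} {E₃ : Type*} [Group E₁] [Group E₂] [Group E₃] [Finite E₁] [Finite E₂] [Finite E₃] (h₁ : Cfsg.IsExtraspecial 2 E₁) (h₂ : Cfsg.IsExtraspecial 2 E₂) (h₃ : Cfsg.IsExtraspecial 2 E₃) (h12 : Nat.card E₁ = Nat.card E₂) (h23 : Nat.card E₂ = Nat.card E₃) : Nonempty (E₁ ≃* E₂) ∨ Nonempty (E₂ ≃* E₃) ∨ Nonempty (E₁ ≃* E₃) := by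
  haveI : Fact (Nat.Prime 2) := ⟨Nat.prime_two⟩
  have hH₁ := IsHeis.of_isExtraspecial h₁
  have hH₂ := IsHeis.of_isExtraspecial h₂
  have hH₃ := IsHeis.of_isExtraspecial h₃
  obtain ⟨b₁, t₁⟩ := exists_hasTy _ E₁ hH₁ (nonabelian_of_isExtraspecial h₁) rfl
  obtain ⟨b₂, t₂⟩ := exists_hasTy _ E₂ hH₂ (nonabelian_of_isExtraspecial h₂) rfl
  obtain ⟨b₃, t₃⟩ := exists_hasTy _ E₃ hH₃ (nonabelian_of_isExtraspecial h₃) rfl
  by_cases e12 : b₁ = b₂
  · subst e12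
    exact Or.inl (iso_of_hasTy t₁ hH₁ inferInstance E₂ t₂ hH₂ inferInstance h12)
  · by_cases e23 : b₂ = b₃
    · subst e23
      exact Or.inr (Or.inl (iso_of_hasTy t₂ hH₂ inferInstance E₃ t₃ hH₃ inferInstance h23))
    · have e13 : b₁ = b₃ := by
        cases b₁ <;> cases b₂ <;> cases b₃ <;> simp_all
      subst e13
      exact Or.inr (Or.inr (iso_of_hasTy t₁ hH₁ inferInstance E₃ t₃ hH₃ inferInstance (h12.trans h23)))

end Cfsg.Agent.S0099
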