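import Cfsg.Statements.S4416
import Mathlib
import Cfsg.Agent.S0099

set_option autoImplicit false
open Cfsg

namespace Cfsg.Agent.S4416

universe u v
open Cfsg.Agent.Lib.H1 Cfsg.Agent.S0099
open scoped commutatorElement

section count
variable {E : Type*} [Group E]

/-- the decomposition map `(j,i,q) ↦ q y^j x^i` -/
def decomp (x y : E) (t : (Fin 2 × Fin 2) × pairCentralizer x y) : E :=
  (t.2 : E) * y ^ (t.1.1 : ℕ) * x ^ (t.1.2 : ℕ)

theorem decomp_injective (h : IsHeis 2 E) {x y : E} (hxy : ⁅x, y⁆ ≠ 1) :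
    Function.Injective (decomp x y) := by
  have : Fact (Nat.Prime 2) := ⟨Nat.prime_two⟩
  have d := h.glueData hxy
  rintro ⟨⟨j, i⟩, q⟩ ⟨⟨j', i'⟩, q'⟩ heq
  simp only [decomp] at heq
  rw [← zpow_natCast y, ← zpow_natCast x, ← zpow_natCast y, ← zpow_natCast x] at heq
  obtain ⟨s, t, hs, ht, hq⟩ := d.decomp_unique q.2 q'.2 heq
  have hi := i.2
  have hi' := i'.2
  have hj := j.2
  have hj' := j'.2
  have hs0 : s = 0 := by push_cast at hs; omega
  have ht0 : t = 0 := by push_cast at ht; omega
  subst hs0 ht0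
  simp only [mul_zero, add_zero, Nat.cast_inj] at hs ht
  rw [zpow_zero, zpow_zero, mul_one, mul_one] at hq
  have hi2 : i = i' := Fin.ext hs
  have hj2 : j = j' := Fin.ext ht
  have hq2 : q = q' := Subtype.ext hq.symm
  rw [hi2, hj2, hq2]

theorem decomp_bijective [Finite E] (h : IsHeis 2 E) {x y : E} (hxy : ⁅x, y⁆ ≠ 1) :
    Function.Bijective (decomp x y) := by
  have : Fact (Nat.Prime 2) := ⟨Nat.prime_two⟩
  apply (decomp_injective h hxy).bijective_of_nat_card_le
  rw [Nat.card_prod, Nat.card_prod, Nat.card_fin, ← h.card_pairCentralizer hxy]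
  exact le_of_eq (mul_comm _ _)

theorem card_sq_decomp [Finite E] (h : IsHeis 2 E) {x y : E} (hxy : ⁅x, y⁆ ≠ 1) :
    Nat.card {g : E // g ^ 2 = 1} =
      ∑ ji : Fin 2 × Fin 2,
        Nat.card {q : pairCentralizer x y // (decomp x y (ji, q)) ^ 2 = 1} := by
  have e1 : {t : (Fin 2 × Fin 2) × pairCentralizer x y // (decomp x y (t.1, t.2)) ^ 2 = 1} ≃
      {g : E // g ^ 2 = 1} :=
    Equiv.subtypeEquiv (Equiv.ofBijective (decomp x y) (decomp_bijective h hxy))
      (fun t => Iff.rfl)
  rw [← Nat.card_congr e1, Nat.card_congr (Equiv.subtypeProdEquivSigmaSubtype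
    (fun ji q => (decomp x y (ji, q)) ^ 2 = 1)), Nat.card_sigma]

theorem coe_sq_eq_one_iff {x y : E} (q : pairCentralizer x y) : (q : E) ^ 2 = 1 ↔ q ^ 2 = 1 := by
  rw [← Subgroup.coe_pow, OneMemClass.coe_eq_one]

theorem card_mul_sq_of_sq_eq_one {x y w : E} (hw : ∀ q : pairCentralizer x y, Commute (q : E) w)
    (hw2 : w ^ 2 = 1) :
    Nat.card {q : pairCentralizer x y // ((q : E) * w) ^ 2 = 1} =
      Nat.card {q : pairCentralizer x y // q ^ 2 = 1} := by
  apply Nat.card_congr
  apply Equiv.subtypeEquivRight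
  intro q
  rw [(hw q).mul_pow, hw2, mul_one, coe_sq_eq_one_iff]

theorem card_mul_sq_of_sq_eq_c [Finite E] (h : IsHeis 2 E) {x y w c : E}
    (hc : c ∈ Subgroup.center E) (hc1 : c ≠ 1)
    (hw : ∀ q : pairCentralizer x y, Commute (q : E) w) (hw2 : w ^ 2 = c) :
    Nat.card {q : pairCentralizer x y // ((q : E) * w) ^ 2 = 1} +
      Nat.card {q : pairCentralizer x y // q ^ 2 = 1} = Nat.card (pairCentralizer x y) := by
  classical
  have e1 : {q : pairCentralizer x y // ((q : E) * w) ^ 2 = 1} ≃
      {q : pairCentralizer x y // ¬ (q ^ 2 = 1)} := by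
    apply Equiv.subtypeEquivRight
    intro q
    rw [(hw q).mul_pow, hw2, ← coe_sq_eq_one_iff]
    rcases sq_cases h hc hc1 (q : E) with h1 | h1
    · rw [h1, one_mul]; exact ⟨fun h2 => absurd h2 hc1, fun h2 => absurd rfl h2⟩
    · rw [h1]; exact ⟨fun _ => hc1, fun _ => c_sq h hc hc1⟩
  rw [Nat.card_congr e1, add_comm, ← Nat.card_sum]
  exact Nat.card_congr (Equiv.sumCompl _)

theorem card_sq_four_terms [Finite E] (h : IsHeis 2 E) {x y : E} (hxy : ⁅x, y⁆ ≠ 1) :
    Nat.card {g : E // g ^ 2 = 1} =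
      Nat.card {q : pairCentralizer x y // ((q : E) * 1) ^ 2 = 1} +
      Nat.card {q : pairCentralizer x y // ((q : E) * x) ^ 2 = 1} +
      Nat.card {q : pairCentralizer x y // ((q : E) * y) ^ 2 = 1} +
      Nat.card {q : pairCentralizer x y // ((q : E) * (y * x)) ^ 2 = 1} := by
  rw [card_sq_decomp h hxy, Fintype.sum_prod_type]
  simp only [Fin.sum_univ_two, decomp, Fin.val_zero, Fin.val_one, pow_zero, pow_one, mul_one,
    one_mul, mul_assoc]
  ring

theorem commute_x {x y : E} (q : pairCentralizer x y) : Commute (q : E) x :=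
  (mem_pairCentralizer_iff.mp q.2).1.symm

theorem commute_y {x y : E} (q : pairCentralizer x y) : Commute (q : E) y :=
  (mem_pairCentralizer_iff.mp q.2).2.symm

theorem count_of_involutions [Finite E] (h : IsHeis 2 E) {x y : E} (hxy : ⁅x, y⁆ ≠ 1)
    (hx : x ^ 2 = 1) (hy : y ^ 2 = 1) :
    Nat.card {g : E // g ^ 2 = 1} =
      2 * Nat.card {q : pairCentralizer x y // q ^ 2 = 1} + Nat.card (pairCentralizer x y) := by
  have h1 := card_mul_sq_of_sq_eq_one (x := x) (y := y) (w := 1)
    (fun q => Commute.one_right _) (one_pow 2)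
  have h2 := card_mul_sq_of_sq_eq_one (x := x) (y := y) (w := x) commute_x hx
  have h3 := card_mul_sq_of_sq_eq_one (x := x) (y := y) (w := y) commute_y hy
  have h4 := card_mul_sq_of_sq_eq_c h (x := x) (y := y) (w := y * x) (h.comm_mem x y) hxy
    (fun q => (commute_y q).mul_right (commute_x q))
    (by rw [mul_sq h, hx, hy, mul_one, mul_one])
  rw [card_sq_four_terms h hxy, h1, h2, h3]
  omega

theorem count_of_quaternion [Finite E] (h : IsHeis 2 E) {x y : E} (hxy : ⁅x, y⁆ ≠ 1)
    (hx : x ^ 2 = ⁅x, y⁆) (hy : y ^ 2 = ⁅x, y⁆) :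
    Nat.card {g : E // g ^ 2 = 1} + 2 * Nat.card {q : pairCentralizer x y // q ^ 2 = 1} =
      3 * Nat.card (pairCentralizer x y) := by
  have hcc := c_sq h (h.comm_mem x y) hxy
  have h1 := card_mul_sq_of_sq_eq_one (x := x) (y := y) (w := 1)
    (fun q => Commute.one_right _) (one_pow 2)
  have h2 := card_mul_sq_of_sq_eq_c h (x := x) (y := y) (w := x) (h.comm_mem x y) hxy
    commute_x hx
  have h3 := card_mul_sq_of_sq_eq_c h (x := x) (y := y) (w := y) (h.comm_mem x y) hxy
    commute_y hy
  have h4 := card_mul_sq_of_sq_eq_c h (x := x) (y := y) (w := y * x) (h.comm_mem x y) hxy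
    (fun q => (commute_y q).mul_right (commute_x q))
    (by rw [mul_sq h, hx, hy, hcc, one_mul])
  rw [card_sq_four_terms h hxy, h1]
  omega

end count

/-- the order and involution count of a group of given type -/
theorem hasTy_count {b : Bool} {E : Type u} [Group E] (t : HasTy b E) :
    IsHeis 2 E → Finite E → ∃ m : ℕ, 1 ≤ m ∧ Nat.card E = 2 ^ (2 * m + 1) ∧
      (b = true → Nat.card {g : E // g ^ 2 = 1} = 2 ^ (2 * m) + 2 ^ m) ∧
      (b = false → Nat.card {g : E // g ^ 2 = 1} + 2 ^ m = 2 ^ (2 * m)) := by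
  have : Fact (Nat.Prime 2) := ⟨Nat.prime_two⟩
  have hbase : ∀ (E : Type u) [Group E] [Finite E] (x y : E), IsHeis 2 E → Nat.card E = 8 →
      ⁅x, y⁆ ≠ 1 → Nat.card (pairCentralizer x y) = 2 ∧
        Nat.card {q : pairCentralizer x y // q ^ 2 = 1} = 2 := by
    intro E _ _ x y h hc hxy
    have h1 := h.card_pairCentralizer hxy
    have h2 : Nat.card (pairCentralizer x y) = 2 := by omega
    refine ⟨h2, ?_⟩
    rw [← h2]
    apply Nat.card_congr
    apply Equiv.subtypeUnivEquiv
    intro q
    exact pow_card_eq_one'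
  induction t with
  | baseD E x y hc hxy hx hy =>
    intro h _
    obtain ⟨h1, h2⟩ := hbase E x y h hc hxy
    have h3 := count_of_involutions h hxy hx hy
    refine ⟨1, le_refl 1, by rw [hc]; norm_num, fun _ => ?_, fun hb => (by cases hb)⟩
    rw [h3, h1, h2]; norm_num
  | baseQ E x y hc hxy hx hy =>
    intro h _
    obtain ⟨h1, h2⟩ := hbase E x y h hc hxy
    have h3 := count_of_quaternion h hxy hx hy
    refine ⟨1, le_refl 1, by rw [hc]; norm_num, fun hb => (by cases hb), fun _ => ?_⟩
    rw [h1, h2] at h3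
    norm_num
    omega
  | step b E x y hxy hx hy tQ ih =>
    intro h _
    obtain ⟨m, hm1, hcard, hT, hF⟩ := ih (h.pairCentralizer_isHeis hxy) inferInstance
    have h1 := h.card_pairCentralizer hxy
    have h3 := count_of_involutions h hxy hx hy
    have e1 : 2 ^ (2 * (m + 1) + 1) = 4 * 2 ^ (2 * m + 1) := by ring
    have e2 : 2 ^ (2 * (m + 1)) = 4 * 2 ^ (2 * m) := by ring
    have e3 : 2 ^ (m + 1) = 2 * 2 ^ m := by ring
    have e4 : 2 ^ (2 * m + 1) = 2 * 2 ^ (2 * m) := by ring
    refine ⟨m + 1, by omega, by rw [e1, ← hcard, ← h1]; ring, fun hb => ?_, fun hb => ?_⟩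
    · have := hT hb
      rw [h3, e2, e3, this, hcard, e4]; ring
    · have := hF hb
      rw [h3, e2, e3, hcard, e4]; omega

/-- Classification of extraspecial 2-groups in intrinsic form. An extraspecial 2-group has order 2^(2m+1) for some m ≥ 1, and the number of its elements squaring to the identity is either 2^(2m) + 2^m or 2^(2m) − 2^m; two extraspecial 2-groups of the same order with the same number of such elements are isomorphic. (The two cases are the central products of m dihedral groups of order 8, and of m − 1 dihedral groups with one quaternion group.) -/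
theorem result (E : Type*) [Group E] [Finite E] (hE : Cfsg.IsExtraspecial 2 E) :
    (∃ m : ℕ, 1 ≤ m ∧ Nat.card E = 2 ^ (2 * m + 1) ∧
      (Nat.card {x : E // x ^ 2 = 1} = 2 ^ (2 * m) + 2 ^ m ∨ Nat.card {x : E // x ^ 2 = 1} = 2 ^ (2 * m) - 2 ^ m)) ∧
    ∀ (E' : Type*) [Group E'] [Finite E'], Cfsg.IsExtraspecial 2 E' → Nat.card E' = Nat.card E →
      Nat.card {x : E' // x ^ 2 = 1} = Nat.card {x : E // x ^ 2 = 1} → Nonempty (E ≃* E') := by
  have : Fact (Nat.Prime 2) := ⟨Nat.prime_two⟩
  have hH := IsHeis.of_isExtraspecial hE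
  obtain ⟨b, t⟩ := exists_hasTy _ E hH (nonabelian_of_isExtraspecial hE) rfl
  obtain ⟨m, hm1, hcard, hT, hF⟩ := hasTy_count t hH inferInstance
  refine ⟨⟨m, hm1, hcard, ?_⟩, ?_⟩
  · cases b with
    | true => exact Or.inl (hT rfl)
    | false =>
      right
      have := hF rfl
      omega
  · intro E' _ _ hE' hc hN
    have hH' := IsHeis.of_isExtraspecial hE'
    obtain ⟨b', t'⟩ := exists_hasTy _ E' hH' (nonabelian_of_isExtraspecial hE') rfl
    obtain ⟨m', hm1', hcard', hT', hF'⟩ := hasTy_count t' hH' inferInstance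
    have hmm : m' = m := by
      rw [hcard, hcard'] at hc
      have := Nat.pow_right_injective (le_refl 2) hc
      omega
    subst hmm
    have hpos : 0 < 2 ^ m' := by positivity
    have hbb : b = b' := by
      cases b with
      | true =>
        cases b' with
        | true => rfl
        | false =>
          exfalso
          have h1 := hT rfl
          have h2 := hF' rfl
          omega
      | false =>
        cases b' with
        | false => rfl
        | true =>
          exfalso
          have h1 := hF rfl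
          have h2 := hT' rfl
          omega
    subst hbb
    exact iso_of_hasTy t hH inferInstance E' t' hH' inferInstance hc.symm

end Cfsg.Agent.S4416
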