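import Cfsg.Statements.S3763
import Mathlib
import Cfsg.Agent.S4416

set_option autoImplicit false
open Cfsg

namespace Cfsg.Agent.S3763

universe u v
open Cfsg.Agent.Lib.H1 Cfsg.Agent.S0099
open scoped commutatorElement

section general

variable {E : Type*} [Group E]

/-- the closure of a set of commuting involutions is commutative of exponent two -/
theorem closure_comm_exp_two {S : Set E} (hc : ∀ a ∈ S, ∀ b ∈ S, a * b = b * a)
    (h2 : ∀ a ∈ S, a ^ 2 = 1) :
    IsMulCommutative (Subgroup.closure S) ∧ ∀ g ∈ Subgroup.closure S, g ^ 2 = 1 := by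
  have hle : Subgroup.closure S ≤ Subgroup.centralizer (Subgroup.closure S : Set E) := by
    rw [Subgroup.closure_le, Subgroup.centralizer_closure]
    intro s hs
    rw [SetLike.mem_coe, Subgroup.mem_centralizer_iff]
    intro t ht
    exact hc t ht s hs
  have hcomm : ∀ a ∈ Subgroup.closure S, ∀ b ∈ Subgroup.closure S, a * b = b * a := by
    intro a ha b hb
    exact Subgroup.mem_centralizer_iff.mp (hle hb) a ha
  refine ⟨⟨⟨fun a b => Subtype.ext (hcomm a a.2 b b.2)⟩⟩, ?_⟩
  intro g hg
  induction hg using Subgroup.closure_induction with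
  | mem a ha => exact h2 a ha
  | one => exact one_pow 2
  | mul a b ha hb iha ihb =>
    have : Commute a b := hcomm a ha b hb
    rw [this.mul_pow, iha, ihb, one_mul]
  | inv a ha iha => rw [inv_pow, iha, inv_one]

/-- a proper subgroup has at most half the order -/
theorem two_mul_card_le_of_lt [Finite E] {B A : Subgroup E} (h : B < A) :
    2 * Nat.card B ≤ Nat.card A := by
  obtain ⟨k, hk⟩ := Subgroup.card_dvd_of_le h.le
  have hApos : 0 < Nat.card A := Nat.card_pos
  have hk1 : k ≠ 1 := by
    intro h1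
    rw [h1, mul_one] at hk
    exact h.ne (Subgroup.eq_of_le_of_card_ge h.le hk.le)
  have hk0 : k ≠ 0 := by
    intro h0
    rw [h0, mul_zero] at hk
    omega
  have hk2 : 2 ≤ k := by omega
  calc 2 * Nat.card B ≤ k * Nat.card B := Nat.mul_le_mul_right _ hk2
    _ = Nat.card A := by rw [hk, mul_comm]

/-- a covering by two cosets -/
theorem card_le_two_mul [Finite E] (A B : Subgroup E) (t : E)
    (h : ∀ a ∈ A, a ∈ B ∨ a * t ∈ B) : Nat.card A ≤ 2 * Nat.card B := by
  classical
  let f : A → B × Bool := fun a =>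
    if ha : (a : E) ∈ B then (⟨a, ha⟩, true) else (⟨a * t, (h a a.2).resolve_left ha⟩, false)
  have hf : Function.Injective f := by
    intro a b hab
    by_cases ha : (a : E) ∈ B <;> by_cases hb : (b : E) ∈ B
    · simp only [f, dif_pos ha, dif_pos hb, Prod.mk.injEq, Subtype.mk.injEq, and_true] at hab
      exact Subtype.ext hab
    · simp [f, dif_pos ha, dif_neg hb] at hab
    · simp [f, dif_neg ha, dif_pos hb] at hab
    · simp only [f, dif_neg ha, dif_neg hb, Prod.mk.injEq, Subtype.mk.injEq, and_true] at hab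
      exact Subtype.ext (mul_right_cancel hab)
  have := Nat.card_le_card_of_injective f hf
  rw [Nat.card_prod, Nat.card_eq_fintype_card (α := Bool), Fintype.card_bool, mul_comm] at this
  exact this

end general

section step

variable {E : Type*} [Group E] [Finite E]

theorem comm_of_mem {A : Subgroup E} (hAc : IsMulCommutative A) {a b : E} (ha : a ∈ A)
    (hb : b ∈ A) : a * b = b * a :=
  congrArg Subtype.val (hAc.is_comm.comm ⟨a, ha⟩ ⟨b, hb⟩)

/-- an elementary abelian subgroup containing `x` is covered by two cosets of its part in `Q` -/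
theorem card_le_of_mem (h : IsHeis 2 E) {x y : E} (hxy : ⁅x, y⁆ ≠ 1) (A : Subgroup E)
    (hAc : IsMulCommutative A) (hxA : x ∈ A) :
    Nat.card A ≤ 2 * Nat.card (A.subgroupOf (pairCentralizer x y)) := by
  have hcard : Nat.card (A.subgroupOf (pairCentralizer x y)) =
      Nat.card (A ⊓ pairCentralizer x y : Subgroup E) := by
    rw [← Subgroup.inf_subgroupOf_right]
    exact Nat.card_congr (Subgroup.subgroupOfEquivOfLe inf_le_right).toEquiv
  rw [hcard]
  apply card_le_two_mul A (A ⊓ pairCentralizer x y) x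
  intro a ha
  have hax : a * x = x * a := comm_of_mem hAc ha hxA
  by_cases hay : y * a = a * y
  · left; exact ⟨ha, mem_pairCentralizer_iff.mpr ⟨hax.symm, hay⟩⟩
  · right
    refine ⟨A.mul_mem ha hxA, mem_pairCentralizer_iff.mpr ⟨?_, ?_⟩⟩
    · rw [← mul_assoc, ← hax]
    · have h1 : ⁅a, y⁆ ≠ 1 := fun h' => hay (commutatorElement_eq_one_iff_mul_comm.mp h').symm
      have h2 : ⁅a, y⁆ = ⁅x, y⁆ := comm_eq_of_ne h (h.comm_mem x y) hxy h1
      have h3 : ⁅a * x, y⁆ = 1 := by
        rw [commutator_mul_left_of_central (h.comm_mem x y), h2]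
        exact c_sq h (h.comm_mem x y) hxy
      exact (commutatorElement_eq_one_iff_mul_comm.mp h3).symm

/-- every elementary abelian subgroup can be replaced by one containing `x` -/
theorem exists_enlarge (h : IsHeis 2 E) {x y : E} (hxy : ⁅x, y⁆ ≠ 1) (hx : x ^ 2 = 1)
    (A : Subgroup E) (hAc : IsMulCommutative A) (hA2 : ∀ a ∈ A, a ^ 2 = 1) :
    ∃ A' : Subgroup E, IsMulCommutative A' ∧ (∀ a ∈ A', a ^ 2 = 1) ∧ x ∈ A' ∧
      Nat.card A ≤ Nat.card A' := by
  obtain ⟨A₁, hA₁⟩ : ∃ A₁ : Subgroup E, A₁ = A ⊓ Subgroup.centralizer {x} := ⟨_, rfl⟩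
  have hA₁A : A₁ ≤ A := by rw [hA₁]; exact inf_le_left
  have hA₁x : ∀ a ∈ A₁, a * x = x * a := by
    intro a ha
    rw [hA₁] at ha
    exact Subgroup.mem_centralizer_singleton_iff.mp ha.2
  obtain ⟨S, hS⟩ : ∃ S : Set E, S = (A₁ : Set E) ∪ {x} := ⟨_, rfl⟩
  have hcS : ∀ a ∈ S, ∀ b ∈ S, a * b = b * a := by
    intro a ha b hb
    rw [hS] at ha hb
    rcases ha with ha | ha <;> rcases hb with hb | hb
    · exact comm_of_mem hAc (hA₁A ha) (hA₁A hb)
    · rw [Set.mem_singleton_iff] at hb; rw [hb]; exact hA₁x a ha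
    · rw [Set.mem_singleton_iff] at ha; rw [ha]; exact (hA₁x b hb).symm
    · rw [Set.mem_singleton_iff] at ha hb; rw [ha, hb]
  have h2S : ∀ a ∈ S, a ^ 2 = 1 := by
    intro a ha
    rw [hS] at ha
    rcases ha with ha | ha
    · exact hA2 a (hA₁A ha)
    · rw [Set.mem_singleton_iff] at ha; rw [ha]; exact hx
  obtain ⟨hc', h2'⟩ := closure_comm_exp_two hcS h2S
  have hxA' : x ∈ Subgroup.closure S := Subgroup.subset_closure (by rw [hS]; exact Or.inr rfl)
  have hA₁A' : A₁ ≤ Subgroup.closure S := by
    intro a ha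
    exact Subgroup.subset_closure (by rw [hS]; exact Or.inl ha)
  refine ⟨Subgroup.closure S, hc', h2', hxA', ?_⟩
  by_cases hxA : x ∈ A
  · apply Subgroup.card_le_of_le
    intro a ha
    apply hA₁A'
    rw [hA₁]
    exact ⟨ha, Subgroup.mem_centralizer_singleton_iff.mpr (comm_of_mem hAc ha hxA)⟩
  · have hlt : A₁ < Subgroup.closure S := by
      refine lt_of_le_of_ne hA₁A' ?_
      intro heq
      apply hxA
      apply hA₁A
      rw [heq]
      exact hxA'
    have h1 := two_mul_card_le_of_lt hlt
    have h3 : Nat.card A ≤ 2 * Nat.card A₁ := by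
      by_cases hall : ∀ a ∈ A, a * x = x * a
      · apply card_le_two_mul A A₁ 1
        intro a ha
        left
        rw [hA₁]
        exact ⟨ha, Subgroup.mem_centralizer_singleton_iff.mpr (hall a ha)⟩
      · push Not at hall
        obtain ⟨t, htA, htx⟩ := hall
        apply card_le_two_mul A A₁ t
        intro a ha
        by_cases hax : a * x = x * a
        · left
          rw [hA₁]
          exact ⟨ha, Subgroup.mem_centralizer_singleton_iff.mpr hax⟩
        · right
          rw [hA₁]
          refine ⟨A.mul_mem ha htA, Subgroup.mem_centralizer_singleton_iff.mpr ?_⟩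
          have h4 : ⁅a, x⁆ = ⁅x, y⁆ := comm_eq_of_ne h (h.comm_mem x y) hxy
            (fun h' => hax (commutatorElement_eq_one_iff_mul_comm.mp h'))
          have h5 : ⁅t, x⁆ = ⁅x, y⁆ := comm_eq_of_ne h (h.comm_mem x y) hxy
            (fun h' => htx (commutatorElement_eq_one_iff_mul_comm.mp h'))
          have h6 : ⁅a * t, x⁆ = 1 := by
            rw [commutator_mul_left_of_central (h.comm_mem t x), h4, h5]
            exact c_sq h (h.comm_mem x y) hxy
          exact commutatorElement_eq_one_iff_mul_comm.mp h6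
    omega

/-- the upper bound for the rank goes up by at most one -/
theorem pRankLE_step (h : IsHeis 2 E) {x y : E} (hxy : ⁅x, y⁆ ≠ 1) (hx : x ^ 2 = 1) (r : ℕ)
    (hQ : PRankLE 2 r (pairCentralizer x y)) : PRankLE 2 (r + 1) E := by
  intro A hAc hA2
  obtain ⟨A', hc', h2', hxA', hle⟩ := exists_enlarge h hxy hx A hAc hA2
  have h1 := card_le_of_mem h hxy A' hc' hxA'
  have h2 : Nat.card (A'.subgroupOf (pairCentralizer x y)) ≤ 2 ^ r := by
    apply hQ
    · exact ⟨⟨fun a b => Subtype.ext (Subtype.ext (comm_of_mem hc' a.2 b.2))⟩⟩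
    · intro a ha
      apply Subtype.ext
      rw [Subgroup.coe_pow]
      exact h2' _ (Subgroup.mem_subgroupOf.mp ha)
  rw [pow_succ]
  omega

/-- the lower bound for the rank goes up by one -/
theorem not_pRankLE_step (h : IsHeis 2 E) {x y : E} (hxy : ⁅x, y⁆ ≠ 1) (hx : x ^ 2 = 1) (r : ℕ)
    (hr : 1 ≤ r) (hQ : ¬ PRankLE 2 (r - 1) (pairCentralizer x y)) : ¬ PRankLE 2 r E := by
  intro hE
  apply hQ
  intro B hBc hB2
  by_contra hlt
  push Not at hlt
  obtain ⟨B', hB'⟩ : ∃ B' : Subgroup E, B' = B.map (pairCentralizer x y).subtype := ⟨_, rfl⟩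
  have hcardB' : Nat.card B' = Nat.card B := by
    rw [hB']
    exact Subgroup.card_map_of_injective (Subgroup.subtype_injective _)
  have hB'Q : ∀ b ∈ B', b ∈ pairCentralizer x y := by
    intro b hb
    rw [hB'] at hb
    obtain ⟨q, _, rfl⟩ := hb
    exact q.2
  have hB'c : ∀ a ∈ B', ∀ b ∈ B', a * b = b * a := by
    intro a ha b hb
    rw [hB'] at ha hb
    obtain ⟨q, hq, rfl⟩ := ha
    obtain ⟨q', hq', rfl⟩ := hb
    have := congrArg Subtype.val (hBc.is_comm.comm ⟨q, hq⟩ ⟨q', hq'⟩)
    exact congrArg Subtype.val this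
  have hB'2 : ∀ a ∈ B', a ^ 2 = 1 := by
    intro a ha
    rw [hB'] at ha
    obtain ⟨q, hq, rfl⟩ := ha
    have := hB2 q hq
    have h3 := congrArg Subtype.val this
    simpa using h3
  obtain ⟨S, hS⟩ : ∃ S : Set E, S = (B' : Set E) ∪ {x} := ⟨_, rfl⟩
  have hcS : ∀ a ∈ S, ∀ b ∈ S, a * b = b * a := by
    intro a ha b hb
    rw [hS] at ha hb
    rcases ha with ha | ha <;> rcases hb with hb | hb
    · exact hB'c a ha b hb
    · rw [Set.mem_singleton_iff] at hb; rw [hb]
      exact ((mem_pairCentralizer_iff.mp (hB'Q a ha)).1).symm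
    · rw [Set.mem_singleton_iff] at ha; rw [ha]
      exact (mem_pairCentralizer_iff.mp (hB'Q b hb)).1
    · rw [Set.mem_singleton_iff] at ha hb; rw [ha, hb]
  have h2S : ∀ a ∈ S, a ^ 2 = 1 := by
    intro a ha
    rw [hS] at ha
    rcases ha with ha | ha
    · exact hB'2 a ha
    · rw [Set.mem_singleton_iff] at ha; rw [ha]; exact hx
  obtain ⟨hc', h2'⟩ := closure_comm_exp_two hcS h2S
  have hxA' : x ∈ Subgroup.closure S := Subgroup.subset_closure (by rw [hS]; exact Or.inr rfl)
  have hB'A' : B' ≤ Subgroup.closure S := by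
    intro a ha
    exact Subgroup.subset_closure (by rw [hS]; exact Or.inl ha)
  have hxQ : x ∉ pairCentralizer x y := by
    intro hxQ
    apply hxy
    rw [commutatorElement_eq_one_iff_mul_comm]
    exact ((mem_pairCentralizer_iff.mp hxQ).2).symm
  have hlt' : B' < Subgroup.closure S := by
    refine lt_of_le_of_ne hB'A' ?_
    intro heq
    apply hxQ
    apply hB'Q
    rw [heq]
    exact hxA'
  have h1 := two_mul_card_le_of_lt hlt'
  have h3 := hE (Subgroup.closure S) hc' h2'
  have h4 : 2 ^ r = 2 * 2 ^ (r - 1) := by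
    obtain ⟨k, rfl⟩ : ∃ k, r = k + 1 := ⟨r - 1, by omega⟩
    rw [pow_succ, Nat.add_sub_cancel, mul_comm]
  omega

end step

/-- the order and rank of a group of given type -/
theorem hasTy_rank {b : Bool} {E : Type u} [Group E] (t : HasTy b E) :
    IsHeis 2 E → Finite E → ∃ n : ℕ, 1 ≤ n ∧ Nat.card E = 2 ^ (2 * n + 1) ∧
      ∃ r : ℕ, 1 ≤ r ∧ (b = true → r = n + 1) ∧ (b = false → r = n) ∧
        PRankLE 2 r E ∧ ¬ PRankLE 2 (r - 1) E := by
  have : Fact (Nat.Prime 2) := ⟨Nat.prime_two⟩
  -- the centre gives a subgroup of order two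
  have hcen : ∀ (E : Type u) [Group E] [Finite E] (x y : E), IsHeis 2 E → ⁅x, y⁆ ≠ 1 →
      ¬ PRankLE 2 0 E := by
    intro E _ _ x y h hxy hP
    have hc2 : ⁅x, y⁆ ^ 2 = 1 := by rw [pow_two]; exact c_sq h (h.comm_mem x y) hxy
    have h1 := hP (Subgroup.zpowers ⁅x, y⁆) inferInstance (by
      intro a ha
      obtain ⟨k, rfl⟩ := Subgroup.mem_zpowers_iff.mp ha
      rw [← zpow_natCast, ← zpow_mul, mul_comm, zpow_mul, zpow_natCast, hc2, one_zpow])
    rw [Nat.card_zpowers, h.orderOf_eq (h.comm_mem x y) hxy] at h1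
    norm_num at h1
  have hbase : ∀ (E : Type u) [Group E] [Finite E] (x y : E), IsHeis 2 E → Nat.card E = 8 →
      ⁅x, y⁆ ≠ 1 → Nat.card (pairCentralizer x y) = 2 := by
    intro E _ _ x y h hc hxy
    have h1 := h.card_pairCentralizer hxy
    omega
  induction t with
  | baseD E x y hc hxy hx hy =>
    intro h _
    have hQ2 := hbase E x y h hc hxy
    have hQle : PRankLE 2 1 (pairCentralizer x y) := by
      intro A _ _
      rw [pow_one, ← hQ2]
      exact Subgroup.card_le_card_group A
    have hQn : ¬ PRankLE 2 (1 - 1) (pairCentralizer x y) := by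
      intro hP
      have h1 := hP ⊤ ?_ ?_
      · rw [Subgroup.card_top, hQ2] at h1; norm_num at h1
      · have hcyc : IsCyclic (pairCentralizer x y) := isCyclic_of_prime_card hQ2
        have hQc : IsMulCommutative (pairCentralizer x y) := hcyc.commutative
        exact ⟨⟨fun a b => Subtype.ext (hQc.is_comm.comm a.1 b.1)⟩⟩
      · intro a _
        rw [← hQ2]
        exact pow_card_eq_one'
    refine ⟨1, le_refl 1, by rw [hc]; norm_num, 2, by norm_num, fun _ => rfl,
      fun hb => (by cases hb), pRankLE_step h hxy hx 1 hQle, ?_⟩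
    exact not_pRankLE_step h hxy hx 1 (le_refl 1) hQn
  | baseQ E x y hc hxy hx hy =>
    intro h _
    have hQ2 := hbase E x y h hc hxy
    have hnQ : Nat.card {q : pairCentralizer x y // q ^ 2 = 1} = 2 := by
      rw [← hQ2]
      apply Nat.card_congr
      apply Equiv.subtypeUnivEquiv
      intro q
      exact pow_card_eq_one'
    have hcount := Cfsg.Agent.S4416.count_of_quaternion h hxy hx hy
    rw [hnQ, hQ2] at hcount
    have hN : Nat.card {g : E // g ^ 2 = 1} = 2 := by omega
    refine ⟨1, le_refl 1, by rw [hc]; norm_num, 1, le_refl 1, fun hb => (by cases hb),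
      fun _ => rfl, ?_, hcen E x y h hxy⟩
    intro A _ hA2
    rw [pow_one, ← hN]
    refine Nat.card_le_card_of_injective
      (fun a : A => (⟨a.1, hA2 a.1 a.2⟩ : {g : E // g ^ 2 = 1})) ?_
    intro a b hab
    have h3 := congrArg Subtype.val hab
    exact Subtype.ext h3
  | step b E x y hxy hx hy tQ ih =>
    intro h _
    obtain ⟨m, hm1, hcard, r, hr1, hrT, hrF, hle, hnle⟩ :=
      ih (h.pairCentralizer_isHeis hxy) inferInstance
    have h1 := h.card_pairCentralizer hxy
    have e1 : 2 ^ (2 * (m + 1) + 1) = 4 * 2 ^ (2 * m + 1) := by ring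
    refine ⟨m + 1, by omega, by rw [e1, ← hcard, ← h1]; ring, r + 1, by omega,
      fun hb => by rw [hrT hb], fun hb => by rw [hrF hb], pRankLE_step h hxy hx r hle, ?_⟩
    rw [Nat.add_sub_cancel]
    exact not_pRankLE_step h hxy hx r hr1 hnle

/-- Let E be an extraspecial 2-group of order 2^(2n+1). Then the largest elementary abelian subgroups of E have order 2^n or 2^(n+1); and two extraspecial 2-groups of the same order whose largest elementary abelian subgroups have the same order are isomorphic. -/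
theorem result {E : Type*} [Group E] [Finite E] (hE : Cfsg.IsExtraspecial 2 E) (n : ℕ) (hn : Nat.card E = 2 ^ (2 * n + 1)) : ((Cfsg.PRankLE 2 n E ∧ ¬ Cfsg.PRankLE 2 (n - 1) E) ∨ (Cfsg.PRankLE 2 (n + 1) E ∧ ¬ Cfsg.PRankLE 2 n E)) ∧ ∀ (E' : Type*) [Group E'] [Finite E'], Cfsg.IsExtraspecial 2 E' → Nat.card E' = Nat.card E → (∀ k : ℕ, Cfsg.PRankLE 2 k E ↔ Cfsg.PRankLE 2 k E') → Nonempty (E ≃* E') := by
  have : Fact (Nat.Prime 2) := ⟨Nat.prime_two⟩
  have hH := IsHeis.of_isExtraspecial hE
  obtain ⟨b, t⟩ := exists_hasTy _ E hH (nonabelian_of_isExtraspecial hE) rfl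
  obtain ⟨m, hm1, hcard, r, hr1, hrT, hrF, hle, hnle⟩ := hasTy_rank t hH inferInstance
  have hmn : m = n := by
    rw [hcard] at hn
    have := Nat.pow_right_injective (le_refl 2) hn
    omega
  subst hmn
  refine ⟨?_, ?_⟩
  · cases b with
    | true =>
      right
      have hr := hrT rfl
      subst hr
      exact ⟨hle, by rw [Nat.add_sub_cancel] at hnle; exact hnle⟩
    | false =>
      left
      have hr := hrF rfl
      subst hr
      exact ⟨hle, hnle⟩
  · intro E' _ _ hE' hc hiff
    have hH' := IsHeis.of_isExtraspecial hE'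
    obtain ⟨b', t'⟩ := exists_hasTy _ E' hH' (nonabelian_of_isExtraspecial hE') rfl
    obtain ⟨m', hm1', hcard', r', hr1', hrT', hrF', hle', hnle'⟩ := hasTy_rank t' hH' inferInstance
    have hmm : m' = m := by
      rw [hcard, hcard'] at hc
      have := Nat.pow_right_injective (le_refl 2) hc
      omega
    subst hmm
    have hbb : b = b' := by
      cases b with
      | true =>
        cases b' with
        | true => rfl
        | false =>
          exfalso
          have hr := hrT rfl
          have hr' := hrF' rfl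
          subst hr hr'
          rw [Nat.add_sub_cancel] at hnle
          exact hnle ((hiff _).mpr hle')
      | false =>
        cases b' with
        | false => rfl
        | true =>
          exfalso
          have hr := hrF rfl
          have hr' := hrT' rfl
          subst hr hr'
          rw [Nat.add_sub_cancel] at hnle'
          exact hnle' ((hiff _).mp hle)
    subst hbb
    exact iso_of_hasTy t hH inferInstance E' t' hH' inferInstance hc.symm

end Cfsg.Agent.S3763
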