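import Cfsg.Statements.S0295
import Cfsg.Agent.Lib.H11.OmegaSimple
import Cfsg.Agent.S0286
-- import your own Cfsg.Agent.* helpers here

set_option autoImplicit false
open Cfsg

namespace Cfsg.Agent.S0295



/-- PΩ_{2m+1}(q) is simple for q odd and m at least 3. -/
theorem result {F : Type*} [Field F] [Fintype F] (hodd : Odd (Fintype.card F)) (m : ℕ) (hm : 3 ≤ m) : IsSimpleGroup (Cfsg.POmega F (Cfsg.quadFormOdd m F)) := by
  have h2 : (2 : F) ≠ 0 := Cfsg.Agent.S0286.two_ne_zero_of_odd hodd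
  have hcard : Fintype.card (Unit ⊕ (Fin m ⊕ Fin m)) = 1 + (m + m) := by
    rw [Fintype.card_sum, Fintype.card_sum, Fintype.card_fin, Fintype.card_unique]
  have hnd := Cfsg.Agent.S0286.nondeg (F := F) h2 m
  have := Cfsg.Agent.Lib.H11.OmegaSimple.simple_general (Cfsg.Agent.S0286.oddQF F m) hnd h2
    (by rw [hcard]; omega)
  rw [Cfsg.Agent.S0286.coe_oddQF] at this
  exact this

end Cfsg.Agent.S0295
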