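import Mathlib
import Cfsg.Statements.S0326

set_option autoImplicit false
open Cfsg

namespace Cfsg.Agent.S0326

/-- the affine part of the ovoid -/
def ovVec {F : Type*} [Field F] (m : ℕ) (x y : F) : Fin 4 → F :=
  ![x * y + x ^ (2 ^ (m + 1) + 2) + y ^ (2 ^ (m + 1)), y, x, 1]

theorem ovVec_ne_zero {F : Type*} [Field F] (m : ℕ) (x y : F) : ovVec m x y ≠ 0 := by
  intro h
  have := congrFun h 3
  simp [ovVec] at this

theorem inf_ne_zero {F : Type*} [Field F] : (![1, 0, 0, 0] : Fin 4 → F) ≠ 0 := by
  intro h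
  have := congrFun h 0
  simp at this

/-- the parametrisation of the ovoid -/
noncomputable def param {F : Type*} [Field F] (m : ℕ) : Option (F × F) → Cfsg.suzukiOvoid F m
  | none => ⟨Projectivization.mk F ![1, 0, 0, 0] inf_ne_zero,
      ![1, 0, 0, 0], inf_ne_zero, rfl, Or.inl rfl⟩
  | some (x, y) => ⟨Projectivization.mk F (ovVec m x y) (ovVec_ne_zero m x y),
      ovVec m x y, ovVec_ne_zero m x y, rfl, Or.inr ⟨x, y, rfl⟩⟩

theorem param_injective {F : Type*} [Field F] (m : ℕ) : Function.Injective (param (F := F) m) := by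
  intro a b hab
  have hab' := congrArg Subtype.val hab
  rcases a with _ | ⟨x, y⟩ <;> rcases b with _ | ⟨x', y'⟩
  · rfl
  · exfalso
    simp only [param] at hab'
    rw [Projectivization.mk_eq_mk_iff'] at hab'
    obtain ⟨a, ha⟩ := hab'
    have h3 := congrFun ha 3
    have h0 := congrFun ha 0
    simp [ovVec] at h3 h0
    rw [h3] at h0
    simp at h0
  · exfalso
    simp only [param] at hab'
    rw [Projectivization.mk_eq_mk_iff'] at hab'
    obtain ⟨a, ha⟩ := hab'
    have h3 := congrFun ha 3
    simp [ovVec] at h3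
  · simp only [param] at hab'
    rw [Projectivization.mk_eq_mk_iff'] at hab'
    obtain ⟨a, ha⟩ := hab'
    have h3 := congrFun ha 3
    have h2 := congrFun ha 2
    have h1 := congrFun ha 1
    simp [ovVec] at h3 h2 h1
    rw [h3] at h2 h1
    simp at h2 h1
    rw [h2, h1]

theorem param_surjective {F : Type*} [Field F] (m : ℕ) :
    Function.Surjective (param (F := F) m) := by
  rintro ⟨p, v, hv, rfl, h | ⟨x, y, h⟩⟩
  · subst h
    exact ⟨none, rfl⟩
  · subst h
    exact ⟨some (x, y), rfl⟩

/-- The Suzuki–Tits ovoid over a finite field with `q` elements has `q² + 1` points. -/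
theorem result {F : Type*} [Field F] [Fintype F] (m : ℕ) :
    Nat.card (Cfsg.suzukiOvoid F m) = Fintype.card F ^ 2 + 1 := by
  rw [← Nat.card_congr (Equiv.ofBijective _ ⟨param_injective (F := F) m, param_surjective m⟩),
    Nat.card_eq_fintype_card, Fintype.card_option, Fintype.card_prod, pow_two]

end Cfsg.Agent.S0326
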