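import Mathlib
import Cfsg.Statements.S0327
import Cfsg.Agent.Lib.H2.Sz7
import Cfsg.Agent.Lib.H1.Frobenius

set_option autoImplicit false
set_option linter.unusedSectionVars false
open Cfsg

namespace Cfsg.Agent.S0327

open Matrix Projectivization MulAction Cfsg.Agent.Lib.H2.Sz
open scoped Pointwise

section

variable {F : Type*} [Field F] [Fintype F] {m : ℕ}

/-- translations `T 0 b` with `b ≠ 0` fix only `∞` -/
theorem T_zero_fix (h : Fld F m) {b : F} (hb : b ≠ 0) {p : Projectivization F (Fin 4 → F)}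
    (hp : p ∈ suzukiOvoid F m) (hfix : T m 0 b • p = p) : p = pinf := by
  rcases (mem_ovoid_iff p).1 hp with rfl | ⟨x, y, rfl⟩
  · rfl
  · exfalso
    rw [T_smul_pt h] at hfix
    obtain ⟨-, e2⟩ := pt_injective hfix
    apply hb
    simp at e2
    exact e2

theorem T_zero_mul_self (h : Fld F m) (b : F) : T m 0 b * T m 0 b = 1 := by
  rw [T_mul h, ← T_zero (m := m)]
  congr 1
  · ring
  · rw [θ_zero]
    linear_combination b * h.two

/-- no normal subgroup of the Suzuki group is regular on the ovoid -/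
theorem no_regular_normal (h : Fld F m) (hm : 1 ≤ m) (hF : Fintype.card F = 2 ^ (2 * m + 1))
    (N : Subgroup (Sz F m)) (hN : N.Normal) (htr : IsPretransitive N (suzukiOvoid F m)) :
    ∃ a : suzukiOvoid F m, stabilizer N a ≠ ⊥ := by
  by_contra hcon
  push Not at hcon
  have hfin : Finite (Sz F m) := inferInstance
  let P : suzukiOvoid F m := ⟨pinf, pinf_mem⟩
  -- fixed-point-free action of the translations `T 0 b`
  have hfpf : ∀ b : F, b ≠ 0 → N ⊓ Subgroup.centralizer {(⟨T m 0 b, T_mem h 0 b⟩ : Sz F m)} = ⊥ := by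
    intro b hb
    rw [eq_bot_iff]
    intro n hn
    rw [Subgroup.mem_bot]
    obtain ⟨hnN, hnc⟩ := hn
    replace hnN : n ∈ N := hnN
    replace hnc : n ∈ Subgroup.centralizer {(⟨T m 0 b, T_mem h 0 b⟩ : Sz F m)} := hnc
    rw [Subgroup.mem_centralizer_iff] at hnc
    have hc := hnc _ (Set.mem_singleton _)
    -- `n • ∞` is fixed by `T 0 b`
    have h1 : T m 0 b • ((n : SpecialLinearGroup (Fin 4) F) • (pinf : Projectivization F (Fin 4 → F)))
        = (n : SpecialLinearGroup (Fin 4) F) • pinf := by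
      have hc' : T m 0 b * (n : SpecialLinearGroup (Fin 4) F) =
          (n : SpecialLinearGroup (Fin 4) F) * T m 0 b := congrArg Subtype.val hc
      rw [← mul_smul, hc', mul_smul, T_smul_pinf]
    have h2 := T_zero_fix h hb (smul_mem_of_mem_Sz n.2 pinf_mem) h1
    have h3 : (⟨n, hnN⟩ : N) ∈ stabilizer N P := by
      apply Subtype.ext
      exact h2
    rw [hcon P, Subgroup.mem_bot] at h3
    exact congrArg Subtype.val h3
  have hinv : ∀ b : F, b ≠ 0 → ∀ k ∈ N,
      (⟨T m 0 b, T_mem h 0 b⟩ : Sz F m) * k * (⟨T m 0 b, T_mem h 0 b⟩ : Sz F m)⁻¹ = k⁻¹ := by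
    intro b hb
    have hs : (⟨T m 0 b, T_mem h 0 b⟩ : Sz F m) * ⟨T m 0 b, T_mem h 0 b⟩ = 1 :=
      Subtype.ext (T_zero_mul_self h b)
    exact (Cfsg.Agent.Lib.H1.inverts_of_fpf_involution hs (hfpf b hb)).1
  -- an element `c ≠ 0, 1`
  have hcard : 2 < Fintype.card F := by
    rw [hF]
    calc 2 < 2 ^ 2 := by norm_num
      _ ≤ 2 ^ (2 * m + 1) := Nat.pow_le_pow_right (by norm_num) (by omega)
  obtain ⟨c, hc0, hc1⟩ : ∃ c : F, c ≠ 0 ∧ c ≠ 1 := by
    by_contra hne
    push Not at hne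
    have : Fintype.card F ≤ 2 := by
      classical
      calc Fintype.card F = (Finset.univ : Finset F).card := rfl
        _ ≤ ({0, 1} : Finset F).card := Finset.card_le_card (by
            intro x _
            by_cases hx : x = 0
            · simp [hx]
            · simp [hne x hx])
        _ ≤ 2 := Finset.card_le_two
    omega
  have hc1' : 1 + c ≠ 0 := by
    intro h0
    apply hc1
    have := h.add_self (1 : F)
    linear_combination h0 - this
  -- every element of `N` is an involution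
  have hsq : ∀ n ∈ N, n * n = 1 := by
    intro n hn
    have e1 := hinv 1 one_ne_zero n hn
    have e2 := hinv c hc0 n⁻¹ (N.inv_mem hn)
    have e3 := hinv (1 + c) hc1' n hn
    have e4 : (⟨T m 0 (1 + c), T_mem h 0 (1 + c)⟩ : Sz F m) =
        ⟨T m 0 c, T_mem h 0 c⟩ * ⟨T m 0 1, T_mem h 0 1⟩ := by
      apply Subtype.ext
      show T m 0 (1 + c) = T m 0 c * T m 0 1
      rw [T_mul h]
      congr 1
      · ring
      · rw [θ_zero]
        ring
    rw [e4] at e3
    have e5 : (⟨T m 0 c, T_mem h 0 c⟩ * ⟨T m 0 1, T_mem h 0 1⟩ : Sz F m) * n *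
        (⟨T m 0 c, T_mem h 0 c⟩ * ⟨T m 0 1, T_mem h 0 1⟩ : Sz F m)⁻¹ =
        ⟨T m 0 c, T_mem h 0 c⟩ * (⟨T m 0 1, T_mem h 0 1⟩ * n * (⟨T m 0 1, T_mem h 0 1⟩ : Sz F m)⁻¹) *
          (⟨T m 0 c, T_mem h 0 c⟩ : Sz F m)⁻¹ := by group
    rw [e5, e1, e2, inv_inv] at e3
    calc n * n = n * n⁻¹ := by rw [← e3]
      _ = 1 := mul_inv_cancel n
  -- `N` has odd order `q² + 1`
  have hcardN : Nat.card N = Fintype.card F ^ 2 + 1 := by
    have h1 := index_stabilizer_of_transitive N P
    rw [hcon P, Subgroup.index_bot] at h1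
    rw [h1]
    exact Cfsg.Agent.S0326.result m
  have hN1 : ∀ n ∈ N, n = 1 := by
    intro n hn
    have h1 : orderOf (⟨n, hn⟩ : N) ∣ 2 := by
      apply orderOf_dvd_of_pow_eq_one
      rw [pow_two]
      exact Subtype.ext (hsq n hn)
    have h2 : orderOf (⟨n, hn⟩ : N) ∣ Nat.card N := orderOf_dvd_natCard _
    have h3 : orderOf (⟨n, hn⟩ : N) ∣ 1 := by
      have : Nat.gcd 2 (Nat.card N) = 1 := by
        rw [hcardN, hF]
        have : (2 ^ (2 * m + 1)) ^ 2 + 1 = 2 * (2 ^ (2 * m) * 2 ^ (2 * m + 1)) + 1 := by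
          rw [pow_two, pow_succ (2 : ℕ) (2 * m)]
          ring
        rw [this]
        simp
      rw [← this]
      exact Nat.dvd_gcd h1 h2
    have h4 : (⟨n, hn⟩ : N) = 1 := orderOf_eq_one_iff.1 (Nat.dvd_one.1 h3)
    exact congrArg Subtype.val h4
  -- contradiction with transitivity
  obtain ⟨n, hn⟩ := htr.exists_smul_eq P ⟨pt m (0 : F) 0, pt_mem _ _⟩
  have hn1 := hN1 n n.2
  have h5 : ((n : Sz F m) : SpecialLinearGroup (Fin 4) F) • (pinf : Projectivization F (Fin 4 → F))
      = pt m 0 0 := congrArg Subtype.val hn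
  rw [hn1] at h5
  have h6 : (pinf : Projectivization F (Fin 4 → F)) = pt m 0 0 := by
    rw [← h5]
    exact (one_smul _ _).symm
  exact pt_ne_pinf _ _ h6.symm

end

/-- The Suzuki group (`m ≥ 1`) is a Zassenhaus group on the `q² + 1` points of the Suzuki–Tits ovoid. -/
theorem result {F : Type*} [Field F] [Fintype F] {m : ℕ} (hm : 1 ≤ m)
    (hF : Fintype.card F = 2 ^ (2 * m + 1)) :
    Cfsg.IsZassenhausGroup (Cfsg.Sz F m) (Cfsg.suzukiOvoid F m) := by
  have h := fld_of_card hF
  refine ⟨?_, ?_, ?_, ?_, ?_⟩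
  · -- faithful
    refine ⟨fun {g₁ g₂} hh => ?_⟩
    have h1 : ((g₂⁻¹ * g₁ : Sz F m) : SpecialLinearGroup (Fin 4) F) = 1 := by
      apply eq_one_of_fix_all h hm hF (g₂⁻¹ * g₁).2
      intro p hp
      have := congrArg Subtype.val (hh ⟨p, hp⟩)
      show ((g₂ : SpecialLinearGroup (Fin 4) F)⁻¹ * (g₁ : SpecialLinearGroup (Fin 4) F)) • p = p
      rw [mul_smul, inv_smul_eq_iff]
      exact this
    have h2 : g₂⁻¹ * g₁ = 1 := Subtype.ext h1
    exact (inv_mul_eq_one.1 h2).symm
  · -- doubly transitive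
    rw [is_two_pretransitive_iff]
    intro a b c d hab hcd
    obtain ⟨g, hg, h1, h2⟩ := two_transitive h a.2 b.2 c.2 d.2
      (fun e => hab (Subtype.ext e)) (fun e => hcd (Subtype.ext e))
    exact ⟨⟨g, hg⟩, Subtype.ext h1, Subtype.ext h2⟩
  · -- three points
    intro g a b c hab hbc hac ha hb hc
    apply Subtype.ext
    exact eq_one_of_fix_three h hm hF g.2 a.2 b.2 c.2 (fun e => hab (Subtype.ext e))
      (fun e => hbc (Subtype.ext e)) (fun e => hac (Subtype.ext e))
      (congrArg Subtype.val ha) (congrArg Subtype.val hb) (congrArg Subtype.val hc)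
  · -- an element fixing two points
    have hcard : 2 < Fintype.card F := by
      rw [hF]
      calc 2 < 2 ^ 2 := by norm_num
        _ ≤ 2 ^ (2 * m + 1) := Nat.pow_le_pow_right (by norm_num) (by omega)
    have : 1 < Nat.card Fˣ := by
      rw [Nat.card_units, Nat.card_eq_fintype_card]
      omega
    have : Nontrivial Fˣ := (Finite.one_lt_card_iff_nontrivial).1 this
    obtain ⟨k, hk⟩ := exists_ne (1 : Fˣ)
    refine ⟨⟨D m k, D_mem h k⟩, ?_, ⟨pinf, pinf_mem⟩, ⟨pt m 0 0, pt_mem _ _⟩, ?_, ?_, ?_⟩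
    · intro h1
      apply hk
      apply D_injective (m := m)
      rw [D_one]
      exact congrArg Subtype.val h1
    · intro h1
      exact pt_ne_pinf (m := m) (0 : F) 0 (congrArg Subtype.val h1).symm
    · exact Subtype.ext (D_smul_pinf k)
    · exact Subtype.ext (D_smul_pt_zero h k)
  · intro N hN htr
    exact no_regular_normal h hm hF N hN htr

end Cfsg.Agent.S0327
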