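import Cfsg.Statements.S0338
import Cfsg.Agent.Lib.H2.Zass1
import Cfsg.Agent.S0740

set_option autoImplicit false
open Cfsg

namespace Cfsg.Agent.S0338

open MulAction Cfsg.Agent.Lib.H2.Zass

section

variable {G Ω : Type*} [Group G] [MulAction G Ω] [Fintype Ω]

/-- an involution in a Zassenhaus group of odd degree has exactly one fixed point -/
theorem exists_unique_fixed (hP : Pre G Ω) (hodd : Odd (Fintype.card Ω)) {t : G}
    (ht : orderOf t = 2) : ∃ a : Ω, t • a = a ∧ ∀ y : Ω, t • y = y → y = a := by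
  have ht1 : t ≠ 1 := by
    intro h
    rw [h, orderOf_one] at ht
    omega
  have ht2 : t ^ 2 = 1 := by rw [← ht]; exact pow_orderOf_eq_one t
  have h1 := Cfsg.Agent.S0740.card_fixedBy_parity (G := G) (Ω := Ω) ht2
  have h2 := Cfsg.Agent.S0740.card_fixedBy_le_two (G := G) (Ω := Ω) hP.three ht1
  have h3 : Nat.card (fixedBy Ω t) = 1 := by
    have : Fintype.card Ω % 2 = 1 := Nat.odd_iff.1 hodd
    unfold Nat.ModEq at h1
    omega
  rw [Nat.card_eq_one_iff_unique] at h3
  obtain ⟨hsub, ⟨a⟩⟩ := h3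
  refine ⟨a, a.2, ?_⟩
  intro y hy
  have := hsub.elim ⟨y, hy⟩ a
  exact congrArg Subtype.val this

end

/-- A Zassenhaus group of odd degree is a simple group. -/
theorem result {G Ω : Type*} [Group G] [MulAction G Ω] [Fintype Ω]
    (hZ : Cfsg.IsZassenhausGroup G Ω) (hodd : Odd (Fintype.card Ω)) : IsSimpleGroup G := by
  have hP := pre_of_zassenhaus hZ
  have hR := noReg_of_zassenhaus hZ
  have hfin := finite_of_pre hP
  have hnt : Nontrivial G := by
    obtain ⟨g, hg1, -⟩ := hP.fix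
    exact ⟨⟨g, 1, hg1⟩⟩
  refine { exists_pair_ne := hnt.exists_pair_ne, eq_bot_or_eq_top_of_normal := ?_ }
  intro N hN
  by_cases hne : N = ⊥
  · exact Or.inl hne
  right
  -- involutions lie in `N`
  have hinv : ∀ t : G, orderOf t = 2 → t ∈ N := by
    intro t ht
    obtain ⟨a, hta, huniq⟩ := exists_unique_fixed hP hodd ht
    apply K_le_normal hP N hR hne a
    rw [mem_K_iff]
    refine ⟨hta, Or.inr ?_⟩
    intro y hy hty
    exact hy (huniq y hty)
  obtain ⟨a, b, -, hab, -, -⟩ := exists_three hP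
  obtain ⟨s, hs2, hsa, hsb⟩ := (Cfsg.Agent.S0740.result hZ hab).1
  have hsN : s ∈ N := hinv s hs2
  obtain ⟨c, hsc, hcuniq⟩ := exists_unique_fixed hP hodd hs2
  have hca : c ≠ a := by
    rintro rfl
    rw [hsc] at hsa
    exact hab hsa
  have hcb : c ≠ b := by
    rintro rfl
    rw [hsc] at hsb
    exact hab hsb.symm
  have hsinva : s⁻¹ • a = b := by rw [inv_smul_eq_iff, hsb]
  have hsinvb : s⁻¹ • b = a := by rw [inv_smul_eq_iff, hsa]
  -- the two-point stabiliser lies in `N`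
  have hH : stabilizer G a ⊓ stabilizer G b ≤ N := by
    let φ : (stabilizer G a ⊓ stabilizer G b : Subgroup G) →
        ((stabilizer G a ⊓ stabilizer G b) ⊓ N : Subgroup G) := fun h =>
      ⟨s * h * s⁻¹ * (h : G)⁻¹, by
        have ha : (h : G) • a = a := h.2.1
        have hb : (h : G) • b = b := h.2.2
        refine ⟨⟨?_, ?_⟩, ?_⟩
        · show (s * h * s⁻¹ * (h : G)⁻¹) • a = a
          rw [mul_smul, mul_smul, mul_smul, inv_smul_eq_iff.2 ha.symm, hsinva, hb, hsb]
        · show (s * h * s⁻¹ * (h : G)⁻¹) • b = b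
          rw [mul_smul, mul_smul, mul_smul, inv_smul_eq_iff.2 hb.symm, hsinvb, ha, hsa]
        · have h1 : (h : G) * s⁻¹ * (h : G)⁻¹ ∈ N := hN.conj_mem _ (N.inv_mem hsN) h
          have h2 : s * h * s⁻¹ * (h : G)⁻¹ = s * ((h : G) * s⁻¹ * (h : G)⁻¹) := by group
          rw [h2]
          exact N.mul_mem hsN h1⟩
    have hφ : Function.Injective φ := by
      intro h h' hhh
      have h1 : s * h * s⁻¹ * (h : G)⁻¹ = s * h' * s⁻¹ * (h' : G)⁻¹ := congrArg Subtype.val hhh
      -- `d = h'⁻¹ h` commutes with `s`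
      have h2 : ((h' : G)⁻¹ * h) * s = s * ((h' : G)⁻¹ * h) := by
        have e1 : (h : G) * s⁻¹ * (h : G)⁻¹ = h' * s⁻¹ * (h' : G)⁻¹ := by
          have := congrArg (fun x => s⁻¹ * x) h1
          simpa [mul_assoc] using this
        have e2 : ((h' : G)⁻¹ * h) * s⁻¹ = s⁻¹ * ((h' : G)⁻¹ * h) := by
          calc ((h' : G)⁻¹ * h) * s⁻¹ = (h' : G)⁻¹ * ((h : G) * s⁻¹ * (h : G)⁻¹) * h := by group
            _ = (h' : G)⁻¹ * (h' * s⁻¹ * (h' : G)⁻¹) * h := by rw [e1]
            _ = s⁻¹ * ((h' : G)⁻¹ * h) := by group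
        calc ((h' : G)⁻¹ * h) * s = s * (s⁻¹ * ((h' : G)⁻¹ * h)) * s := by group
          _ = s * (((h' : G)⁻¹ * h) * s⁻¹) * s := by rw [e2]
          _ = s * ((h' : G)⁻¹ * h) := by group
      have h3 : ((h' : G)⁻¹ * h) • c = c := by
        apply hcuniq
        rw [← mul_smul, ← h2, mul_smul, hsc]
      have h4 : ((h' : G)⁻¹ * h) • a = a := by
        rw [mul_smul, h.2.1, inv_smul_eq_iff, h'.2.1]
      have h5 : ((h' : G)⁻¹ * h) • b = b := by
        rw [mul_smul, h.2.2, inv_smul_eq_iff, h'.2.2]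
      have h6 := hP.three _ a b c hab hcb.symm hca.symm h4 h5 h3
      exact Subtype.ext (inv_mul_eq_one.1 h6).symm
    have hcard := Nat.card_le_card_of_injective φ hφ
    have heq : (stabilizer G a ⊓ stabilizer G b) ⊓ N = stabilizer G a ⊓ stabilizer G b :=
      Subgroup.eq_of_le_of_card_ge inf_le_left hcard
    exact heq ▸ inf_le_right
  rw [eq_top_iff]
  intro g _
  obtain ⟨u, hu, hua⟩ := normal_transitive hP N hne (g • a) a
  have hba : (u * g) • b ≠ a := by
    intro h
    have h1 : (u * g) • a = a := by rw [mul_smul, hua]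
    exact hab (smul_left_cancel _ (h1.trans h.symm))
  obtain ⟨k, hk, hkb⟩ := K_transitive hP a hba (Ne.symm hab)
  have hkN : k ∈ N := K_le_normal hP N hR hne a hk
  have hka : k • a = a := K_le_stabilizer hP a hk
  have hmem : k * (u * g) ∈ stabilizer G a ⊓ stabilizer G b := by
    refine ⟨?_, ?_⟩
    · show (k * (u * g)) • a = a
      rw [mul_smul, mul_smul, hua, hka]
    · show (k * (u * g)) • b = b
      rw [mul_smul, hkb]
  have h1 := hH hmem
  have h2 : g = u⁻¹ * (k⁻¹ * (k * (u * g))) := by group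
  rw [h2]
  exact N.mul_mem (N.inv_mem hu) (N.mul_mem (N.inv_mem hkN) h1)

end Cfsg.Agent.S0338
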