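import Mathlib
import Cfsg.Statements.S0325
import Cfsg.Agent.S0327
import Cfsg.Agent.S0338

set_option autoImplicit false
open Cfsg

namespace Cfsg.Agent.S0325

/-- The Suzuki group over a field with `2^(2m+1)` elements, `m ≥ 1`, is a simple group. -/
theorem result {F : Type*} [Field F] [Fintype F] {m : ℕ} (hm : 1 ≤ m)
    (hF : Fintype.card F = 2 ^ (2 * m + 1)) :
    IsSimpleGroup (Cfsg.Sz F m) := by
  have hZ := Cfsg.Agent.S0327.result hm hF
  have : Fintype (Cfsg.suzukiOvoid F m) := Fintype.ofFinite _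
  apply Cfsg.Agent.S0338.result hZ
  rw [← Nat.card_eq_fintype_card, Cfsg.Agent.S0326.result, hF]
  have : (2 ^ (2 * m + 1)) ^ 2 + 1 = 2 * (2 ^ (2 * m) * 2 ^ (2 * m + 1)) + 1 := by
    rw [pow_two, pow_succ (2 : ℕ) (2 * m)]
    ring
  rw [this]
  exact odd_two_mul_add_one _

end Cfsg.Agent.S0325
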