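import Cfsg.Statements.S0292
import Cfsg.Agent.Lib.H11.OmegaGen
import Cfsg.Agent.S0286
-- import your own Cfsg.Agent.* helpers here

set_option autoImplicit false
open Cfsg

namespace Cfsg.Agent.S0292

open Cfsg.Agent.Lib.H11.OmegaGen

theorem card_quot_center_of_bot {G : Type*} [Group G] (h : Subgroup.center G = ⊥) :
    Nat.card (G ⧸ Subgroup.center G) = Nat.card G := by
  rw [← Subgroup.index_eq_card, h, Subgroup.index_bot]

/-- 2 |PΩ_{2m+1}(q)| = q^(m^2) prod_{i=1}^{m} (q^(2i) - 1), for q odd and m at least 3 (type B_m). -/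
theorem result {F : Type*} [Field F] [Fintype F] {q : ℕ} (hF : Fintype.card F = q) (hodd : Odd q) (m : ℕ) (hm : 3 ≤ m) : 2 * Nat.card (Cfsg.POmega F (Cfsg.quadFormOdd m F)) = q ^ (m ^ 2) * ∏ i ∈ Finset.range m, (q ^ (2 * (i + 1)) - 1) := by
  have h2 : (2 : F) ≠ 0 := Cfsg.Agent.S0286.two_ne_zero_of_odd (hF ▸ hodd)
  have hcard : Fintype.card (Unit ⊕ (Fin m ⊕ Fin m)) = 1 + (m + m) := by
    rw [Fintype.card_sum, Fintype.card_sum, Fintype.card_fin, Fintype.card_unique]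
  have hnd := Cfsg.Agent.S0286.nondeg (F := F) h2 m
  have hidx := index_omega (Cfsg.Agent.S0286.oddQF F m) hnd h2 (by rw [hcard]; omega)
  have hcen := center_omega_eq_bot_of_odd (Cfsg.Agent.S0286.oddQF F m) hnd h2
    (by rw [hcard]; omega) (by rw [hcard]; exact ⟨m, by ring⟩)
  rw [Cfsg.Agent.S0286.coe_oddQF] at hidx hcen
  have hO := Cfsg.Agent.S0286.result hF hodd m
  have h1 : Nat.card (Cfsg.POmega F (Cfsg.quadFormOdd m F)) =
      Nat.card ↥(Cfsg.Omega F (Cfsg.quadFormOdd m F)) := card_quot_center_of_bot hcen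
  have h3 := Subgroup.card_mul_index (Cfsg.Omega F (Cfsg.quadFormOdd m F))
  rw [hidx, hO] at h3
  rw [h1]
  have h4 : 2 * (q ^ (m ^ 2) * ∏ i ∈ Finset.range m, (q ^ (2 * (i + 1)) - 1)) =
      2 * q ^ (m ^ 2) * ∏ i ∈ Finset.range m, (q ^ (2 * (i + 1)) - 1) := by ring
  omega

end Cfsg.Agent.S0292
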