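import Cfsg.Statements.S0298
import Cfsg.Agent.Lib.H29.ExcIso
import Cfsg.Agent.S0242
import Cfsg.Agent.S0286
import Cfsg.Agent.Lib.H11.OmegaGen

set_option autoImplicit false
open Cfsg

namespace Cfsg.Agent.S0298

open Matrix

abbrev κ : Type := Unit ⊕ (Fin 1 ⊕ Fin 1)

section ring

variable {R : Type*} [CommRing R]

/-- the adjoint action `M ↦ g M adj(g)` on trace-zero `2 × 2` matrices `[[x, y], [z, -x]]`
in coordinates `(x, y, z)` -/
def ad2 (g : Matrix (Fin 2) (Fin 2) R) : Matrix κ κ R :=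
  Matrix.of fun k l =>
    match k, l with
    | .inl _, .inl _ => g 0 0 * g 1 1 + g 0 1 * g 1 0
    | .inl _, .inr (.inl _) => - (g 0 0 * g 1 0)
    | .inl _, .inr (.inr _) => g 0 1 * g 1 1
    | .inr (.inl _), .inl _ => - (2 * g 0 0 * g 0 1)
    | .inr (.inl _), .inr (.inl _) => g 0 0 ^ 2
    | .inr (.inl _), .inr (.inr _) => - g 0 1 ^ 2
    | .inr (.inr _), .inl _ => 2 * g 1 0 * g 1 1
    | .inr (.inr _), .inr (.inl _) => - g 1 0 ^ 2
    | .inr (.inr _), .inr (.inr _) => g 1 1 ^ 2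

theorem ad2_mul (g h : Matrix (Fin 2) (Fin 2) R) : ad2 (g * h) = ad2 g * ad2 h := by
  ext k l
  rcases k with k | k | k <;> rcases l with l | l | l <;>
    simp [ad2, Matrix.mul_apply, Fin.sum_univ_two, Fintype.sum_sum_type] <;> ring

theorem ad2_one : ad2 (1 : Matrix (Fin 2) (Fin 2) R) = 1 := by
  ext k l
  rcases k with k | k | k <;> rcases l with l | l | l <;>
    simp [ad2, Matrix.one_apply] <;> intro h <;> exact absurd (Subsingleton.elim _ _) h

/-- the quadratic form `x² + y z` -/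
def Qo (v : κ → R) : R := v (.inl ()) ^ 2 + v (.inr (.inl 0)) * v (.inr (.inr 0))

theorem ad2_Q (g : Matrix (Fin 2) (Fin 2) R) (v : κ → R) :
    Qo (ad2 g *ᵥ v) = g.det ^ 2 * Qo v := by
  rw [Matrix.det_fin_two]
  simp [Qo, ad2, Matrix.mulVec, dotProduct, Fintype.sum_sum_type]
  ring

end ring

section field

variable {F : Type*} [Field F]

/-- the adjoint representation as a monoid homomorphism on `SL₂` -/
def ad2Hom : Matrix.SpecialLinearGroup (Fin 2) F →* Matrix κ κ F where
  toFun g := ad2 g.1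
  map_one' := ad2_one
  map_mul' g h := by
    rw [Matrix.SpecialLinearGroup.coe_mul]
    exact ad2_mul _ _

/-- `SL₂(F) → O₃(F)` -/
def rho : Matrix.SpecialLinearGroup (Fin 2) F →* ↥(Cfsg.isometryGroup F (Cfsg.quadFormOdd 1 F)) :=
  (ad2Hom (F := F)).toHomUnits.codRestrict _ (by
    intro g u _
    show Cfsg.quadFormOdd 1 F (ad2 g.1 *ᵥ u) = Cfsg.quadFormOdd 1 F u
    have := ad2_Q g.1 u
    rw [g.2, one_pow, one_mul] at this
    simpa [Cfsg.quadFormOdd, Qo] using this)

theorem rho_coe (g : Matrix.SpecialLinearGroup (Fin 2) F) :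
    (((rho g : ↥(Cfsg.isometryGroup F (Cfsg.quadFormOdd 1 F))) : GL κ F) : Matrix κ κ F)
      = ad2 g.1 := rfl

theorem ker_rho_scalar (g : Matrix.SpecialLinearGroup (Fin 2) F) (hg : g ∈ (rho (F := F)).ker) :
    ∃ r : F, (r = 1 ∨ r = -1) ∧ Matrix.scalar (Fin 2) r = g.1 := by
  have h2 : ad2 g.1 = 1 := by
    rw [← rho_coe, MonoidHom.mem_ker.1 hg]; rfl
  have hyy := congrFun (congrFun h2 (.inr (.inl 0))) (.inr (.inl 0))
  have hyz := congrFun (congrFun h2 (.inr (.inl 0))) (.inr (.inr 0))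
  have hzy := congrFun (congrFun h2 (.inr (.inr 0))) (.inr (.inl 0))
  have hxx := congrFun (congrFun h2 (.inl ())) (.inl ())
  simp [ad2] at hyy hyz hzy hxx
  rw [hyz, hzy] at hxx
  simp at hxx
  have hd : g.1 1 1 = g.1 0 0 := by
    rcases hyy with h | h
    · rw [h] at hxx ⊢; simpa using hxx
    · rw [h] at hxx ⊢; linear_combination -hxx
  refine ⟨g.1 0 0, hyy, ?_⟩
  · ext i j
    fin_cases i <;> fin_cases j <;> simp [hyz, hzy, hd]

theorem card_ker_le_two [Finite F] : Nat.card (rho (F := F)).ker ≤ 2 := by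
  classical
  let f : (rho (F := F)).ker → ↥({1, -1} : Finset F) := fun g =>
    ⟨g.1.1 0 0, by
      obtain ⟨r, hr, hA⟩ := ker_rho_scalar g.1 g.2
      rw [← hA]
      simp only [Matrix.scalar_apply, Matrix.diagonal_apply_eq, Finset.mem_insert,
        Finset.mem_singleton]
      exact hr⟩
  have hf : Function.Injective f := by
    intro g h hgh
    have h0 : g.1.1 0 0 = h.1.1 0 0 := congrArg Subtype.val hgh
    obtain ⟨r, hr, hA⟩ := ker_rho_scalar g.1 g.2
    obtain ⟨r', hr', hA'⟩ := ker_rho_scalar h.1 h.2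
    apply Subtype.ext
    apply Subtype.ext
    rw [← hA, ← hA'] at h0 ⊢
    simp only [Matrix.scalar_apply, Matrix.diagonal_apply_eq] at h0
    rw [h0]
  calc Nat.card (rho (F := F)).ker ≤ Nat.card ↥({1, -1} : Finset F) :=
        Nat.card_le_card_of_injective f hf
    _ = ({1, -1} : Finset F).card := by
        rw [Nat.card_eq_fintype_card, Fintype.card_coe]
    _ ≤ 2 := Finset.card_le_two

end field

section final

variable {F : Type*} [Field F]

theorem comm_scalar (g h : Matrix.SpecialLinearGroup (Fin 2) F)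
    (H : rho (g * h) = rho (h * g)) :
    ∃ r : F, (r = 1 ∨ r = -1) ∧ g.1 * h.1 = r • (h.1 * g.1) := by
  have hk : g * h * (h * g)⁻¹ ∈ (rho (F := F)).ker := by
    rw [MonoidHom.mem_ker, map_mul, map_inv, H, mul_inv_cancel]
  obtain ⟨r, hr, hA⟩ := ker_rho_scalar _ hk
  refine ⟨r, hr, ?_⟩
  have e1 : (g * h * (h * g)⁻¹) * (h * g) = g * h := by group
  have e2 := congrArg Subtype.val e1
  rw [Matrix.SpecialLinearGroup.coe_mul, ← hA, Matrix.SpecialLinearGroup.coe_mul,
    Matrix.SpecialLinearGroup.coe_mul] at e2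
  rw [← e2, Matrix.scalar_apply, ← Matrix.smul_eq_diagonal_mul]

theorem central_of_comm (h2 : (2 : F) ≠ 0) (g : Matrix.SpecialLinearGroup (Fin 2) F)
    (H : ∀ h, rho (g * h) = rho (h * g)) :
    g ∈ Subgroup.center (Matrix.SpecialLinearGroup (Fin 2) F) := by
  have hdet : g.1 0 0 * g.1 1 1 - g.1 0 1 * g.1 1 0 = 1 := by
    rw [← Matrix.det_fin_two]; exact g.2
  obtain ⟨r, hr, e⟩ := comm_scalar g (SpecialLinearGroup.transvection (zero_ne_one (α := Fin 2)) 1)
    (H _)
  obtain ⟨r', hr', e'⟩ := comm_scalar g (SpecialLinearGroup.transvection (one_ne_zero (α := Fin 2)) 1)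
    (H _)
  have e00 := congrFun (congrFun e 0) 0
  have e01 := congrFun (congrFun e 0) 1
  have e10 := congrFun (congrFun e 1) 0
  have e11 := congrFun (congrFun e 1) 1
  have f00 := congrFun (congrFun e' 0) 0
  have f01 := congrFun (congrFun e' 0) 1
  have f10 := congrFun (congrFun e' 1) 0
  have f11 := congrFun (congrFun e' 1) 1
  simp [SpecialLinearGroup.transvection_coe, Matrix.mul_apply, Fin.sum_univ_two, Matrix.add_mul,
    Matrix.single_apply] at e00 e01 e10 e11 f00 f01 f10 f11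
  have hc : g.1 1 0 = 0 ∧ g.1 0 0 = g.1 1 1 := by
    rcases hr with rfl | rfl
    · constructor
      · linear_combination -e00
      · linear_combination e01
    · exfalso
      have c0 : g.1 1 0 = 0 := by
        have : (2 : F) * g.1 1 0 = 0 := by linear_combination e10
        exact (mul_eq_zero.1 this).resolve_left h2
      have a0 : g.1 0 0 = 0 := by
        have : (2 : F) * g.1 0 0 = 0 := by linear_combination e00 - c0
        exact (mul_eq_zero.1 this).resolve_left h2
      rw [c0, a0] at hdet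
      simp at hdet
  have hb : g.1 0 1 = 0 := by
    rcases hr' with rfl | rfl
    · linear_combination f00
    · have : (2 : F) * g.1 0 1 = 0 := by linear_combination f01
      exact (mul_eq_zero.1 this).resolve_left h2
  rw [Matrix.SpecialLinearGroup.mem_center_iff]
  refine ⟨g.1 0 0, ?_, ?_⟩
  · rw [Fintype.card_fin]
    rw [hc.1, hb, ← hc.2] at hdet
    linear_combination hdet
  · ext i j
    fin_cases i <;> fin_cases j <;> simp [hc.1, hb, hc.2]

end final

section cards

variable {F : Type*} [Field F] [Fintype F]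

theorem index_Omega (h2 : (2 : F) ≠ 0) :
    (Cfsg.Omega F (Cfsg.quadFormOdd 1 F)).index = 4 := by
  have hi := Cfsg.Agent.Lib.H11.OmegaGen.index_omega (Cfsg.Agent.S0286.oddQF F 1)
    (Cfsg.Agent.S0286.nondeg h2 1) h2 (by simp)
  rw [Cfsg.Agent.S0286.coe_oddQF] at hi
  exact hi

theorem rho_mem_Omega (hodd : Odd (Fintype.card F)) (h2 : (2 : F) ≠ 0)
    (g : Matrix.SpecialLinearGroup (Fin 2) F) :
    rho g ∈ Cfsg.Omega F (Cfsg.quadFormOdd 1 F) := by
  haveI : Finite (Abelianization ↥(Cfsg.isometryGroup F (Cfsg.quadFormOdd 1 F))) :=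
    inferInstanceAs (Finite (↥(Cfsg.isometryGroup F (Cfsg.quadFormOdd 1 F)) ⧸ _))
  have hc : Nat.card (Abelianization ↥(Cfsg.isometryGroup F (Cfsg.quadFormOdd 1 F))) = 4 := by
    rw [← index_Omega h2]
    exact (Subgroup.index_eq_card _).symm
  have h1 := Cfsg.Agent.Lib.H29.ExcIso.SL_hom_trivial
    ((Abelianization.of).comp (rho (F := F))) (by
      rw [hc]
      have : Nat.Coprime 2 (Fintype.card F) := (Nat.coprime_two_left).2 hodd
      exact Nat.Coprime.pow_left 2 this) g
  have h3 : rho g ∈ (Abelianization.of :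
      ↥(Cfsg.isometryGroup F (Cfsg.quadFormOdd 1 F)) →* _).ker := h1
  rwa [Abelianization.ker_of] at h3

theorem card_Omega_le_range (hodd : Odd (Fintype.card F)) (h2 : (2 : F) ≠ 0) :
    Nat.card ↥(Cfsg.Omega F (Cfsg.quadFormOdd 1 F)) ≤ Nat.card ↥(rho (F := F)).range := by
  have hidx := Subgroup.card_mul_index (Cfsg.Omega F (Cfsg.quadFormOdd 1 F))
  have hker := Subgroup.card_mul_index (rho (F := F)).ker
  rw [Subgroup.index_ker] at hker
  rw [index_Omega h2] at hidx
  set q := Fintype.card F with hq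
  have hq2 : 2 ≤ q := Fintype.one_lt_card
  have h1 := Cfsg.Agent.S0242.result (F := F) rfl 2 (by norm_num)
  have hO := Cfsg.Agent.S0286.result (F := F) rfl hodd 1
  rw [← hq] at h1 hO
  simp only [Fin.prod_univ_two, Finset.prod_range_succ, Finset.prod_range_zero] at h1 hO
  simp at h1 hO
  have p1 : 1 ≤ q := by omega
  have l1 : q ≤ q ^ 2 := by nlinarith
  have e1 : q ^ 2 - q = q * (q - 1) := by zify [l1, p1]; ring
  rw [e1] at h1
  have hA : 0 < q - 1 := by omega
  have h3 : (q - 1) * Nat.card (Matrix.SpecialLinearGroup (Fin 2) F) =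
      (q - 1) * (q * (q ^ 2 - 1)) := by
    rw [h1]; ring
  have h4 := Nat.eq_of_mul_eq_mul_left hA h3
  have hk := card_ker_le_two (F := F)
  have : Nat.card (Matrix.SpecialLinearGroup (Fin 2) F) ≤ 2 * Nat.card ↥(rho (F := F)).range := by
    rw [← hker]
    exact Nat.mul_le_mul_right _ hk
  rw [hO] at hidx
  rw [h4] at this
  have e5 : 2 * q * (q ^ 2 - 1) = 2 * (q * (q ^ 2 - 1)) := by ring
  omega

end cards

/-- PΩ_3(q) is isomorphic to PSL_2(q) for q odd. -/
theorem result {F : Type*} [Field F] [Fintype F] (hodd : Odd (Fintype.card F)) : Nonempty (Cfsg.POmega F (Cfsg.quadFormOdd 1 F) ≃* Matrix.ProjectiveSpecialLinearGroup (Fin 2) F) := by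
  have h2 : (2 : F) ≠ 0 := by
    intro h
    haveI : CharP F 2 := CharTwo.of_one_ne_zero_of_two_eq_zero one_ne_zero h
    have : (2 : ℕ) ∣ Fintype.card F := by
      have := Nat.cast_card_eq_zero F
      exact (CharP.cast_eq_zero_iff F 2 _).1 this
    exact (Nat.not_even_iff_odd.2 hodd) (even_iff_two_dvd.2 this)
  exact Cfsg.Agent.Lib.H29.ExcIso.excIso (rho (F := F)) (rho_mem_Omega hodd h2)
    (card_Omega_le_range hodd h2) (central_of_comm h2)

end Cfsg.Agent.S0298
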