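import Cfsg.Statements.S0301
import Cfsg.Agent.Lib.H29.ExcIso
import Cfsg.Agent.S0302
import Cfsg.Agent.S0286
import Cfsg.Agent.Lib.H11.OmegaGen
import Cfsg.Agent.Lib.H2.SpSimple
import Cfsg.Agent.Lib.H2.SpOrder

set_option autoImplicit false
open Cfsg

namespace Cfsg.Agent.S0301

open Matrix Cfsg.Agent.S0256
open scoped commutatorElement

abbrev κ5 : Type := Unit ⊕ (Fin 2 ⊕ Fin 2)

/-- reindexing `Fin 4 ≃ Fin 2 ⊕ Fin 2` -/
def e4 : Fin 4 ≃ Fin 2 ⊕ Fin 2 where
  toFun := ![.inl 0, .inl 1, .inr 0, .inr 1]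
  invFun := Sum.elim ![0, 1] ![2, 3]
  left_inv := by decide
  right_inv := by decide

section ring

variable {R : Type*} [CommRing R]

/-- the symplectic Gram matrix `J` in `Fin 4` coordinates -/
def J4 : Matrix (Fin 4) (Fin 4) R := !![0, 0, -1, 0; 0, 0, 0, -1; 1, 0, 0, 0; 0, 1, 0, 0]

theorem J_submatrix : (Matrix.J (Fin 2) R).submatrix e4 e4 = J4 := by
  ext i j
  fin_cases i <;> fin_cases j <;> simp [Matrix.J, e4, J4]

/-- the bivector of the symplectic form -/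
def ω : κ → R
  | .inl 1 => -1
  | .inr 1 => 1
  | _ => 0

theorem ext2_ω (g : Matrix (Fin 4) (Fin 4) R) (k : κ) :
    (ext2 g *ᵥ ω) k = (g * J4 * gᵀ : Matrix (Fin 4) (Fin 4) R) (pr k).1 (pr k).2 := by
  rcases k with k | k <;> fin_cases k <;>
    simp [ext2, pr, ω, J4, Matrix.mulVec, dotProduct, Fintype.sum_sum_type, Fin.sum_univ_three,
      Matrix.mul_apply, Fin.sum_univ_four] <;> ring

theorem ext2_ω_fixed (g : Matrix (Fin 4) (Fin 4) R) (hg : g * J4 * gᵀ = J4) :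
    ext2 g *ᵥ ω = ω := by
  funext k
  rw [ext2_ω, hg]
  rcases k with k | k <;> fin_cases k <;> simp [pr, ω, J4]

/-- polar form of the Klein form -/
def Bk (u w : κ → R) : R := Qk (u + w) - Qk u - Qk w

theorem ext2_B (g : Matrix (Fin 4) (Fin 4) R) (u w : κ → R) :
    Bk (ext2 g *ᵥ u) (ext2 g *ᵥ w) = g.det * Bk u w := by
  unfold Bk
  rw [← Matrix.mulVec_add, ext2_Q, ext2_Q, ext2_Q]
  ring

theorem Bk_ω (u : κ → R) : Bk u ω = u (.inl 1) - u (.inr 1) := by
  simp [Bk, Qk, ω, Fin.sum_univ_three]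
  ring

theorem Qk_ω : Qk (ω : κ → R) = -1 := by
  simp [Qk, ω, Fin.sum_univ_three]

/-- embedding of the 5-space as `ω^⊥` -/
def Ef (v : κ5 → R) : κ → R
  | .inl 0 => v (.inr (.inl 0))
  | .inr 0 => v (.inr (.inr 0))
  | .inl 2 => v (.inr (.inl 1))
  | .inr 2 => v (.inr (.inr 1))
  | .inl 1 => v (.inl ())
  | .inr 1 => v (.inl ())

/-- projection -/
def Pf (u : κ → R) : κ5 → R
  | .inr (.inl 0) => u (.inl 0)
  | .inr (.inr 0) => u (.inr 0)
  | .inr (.inl 1) => u (.inl 2)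
  | .inr (.inr 1) => u (.inr 2)
  | .inl _ => u (.inl 1)

def Em : Matrix κ κ5 R := Matrix.of fun k c => Ef (Pi.single c 1) k

def Pm : Matrix κ5 κ R := Matrix.of fun c k => Pf (Pi.single k 1) c

theorem Em_mulVec (v : κ5 → R) : Em *ᵥ v = Ef v := by
  funext k
  rcases k with k | k <;> fin_cases k <;>
    simp [Em, Ef, Matrix.mulVec, dotProduct, Pi.single_apply]

theorem Pm_mulVec (u : κ → R) : Pm *ᵥ u = Pf u := by
  funext c
  rcases c with c | c | c <;> try fin_cases c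
  all_goals
    simp [Pm, Pf, Matrix.mulVec, dotProduct, Pi.single_apply]

theorem Pf_Ef (v : κ5 → R) : Pf (Ef v) = v := by
  funext c
  rcases c with c | c | c <;> try fin_cases c
  all_goals simp [Pf, Ef]

theorem Ef_Pf (u : κ → R) (hu : u (.inl 1) = u (.inr 1)) : Ef (Pf u) = u := by
  funext k
  rcases k with k | k <;> fin_cases k <;> simp [Pf, Ef, hu]

theorem Ef_mem (v : κ5 → R) : Ef v (.inl 1) = Ef v (.inr 1) := rfl

theorem Qk_Ef (v : κ5 → R) :
    Qk (Ef v) = v (.inl ()) ^ 2 + ∑ i : Fin 2, v (.inr (.inl i)) * v (.inr (.inr i)) := by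
  simp [Qk, Ef, Fin.sum_univ_three, Fin.sum_univ_two]
  ring

end ring

section field

variable {F : Type*} [Field F]

theorem mat_ext {m n : Type*} [Fintype n] [DecidableEq n] (M N : Matrix m n F)
    (h : ∀ v, M *ᵥ v = N *ᵥ v) : M = N := by
  apply Matrix.toLin'.injective
  apply LinearMap.ext
  intro v
  rw [Matrix.toLin'_apply, Matrix.toLin'_apply]
  exact h v

/-- the `4 × 4` matrix of a symplectic element -/
def toM4 (A : Matrix.symplecticGroup (Fin 2) F) : Matrix (Fin 4) (Fin 4) F := A.1.submatrix e4 e4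

theorem toM4_mul (A B : Matrix.symplecticGroup (Fin 2) F) : toM4 (A * B) = toM4 A * toM4 B := by
  unfold toM4
  rw [Matrix.submatrix_mul_equiv]
  rfl

theorem toM4_one : toM4 (1 : Matrix.symplecticGroup (Fin 2) F) = 1 := by
  unfold toM4
  exact Matrix.submatrix_one_equiv e4

theorem toM4_J (A : Matrix.symplecticGroup (Fin 2) F) : toM4 A * J4 * (toM4 A)ᵀ = J4 := by
  have h := (SymplecticGroup.mem_iff).1 A.2
  rw [← J_submatrix, toM4, Matrix.transpose_submatrix, Matrix.submatrix_mul_equiv,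
    Matrix.submatrix_mul_equiv, h]

theorem toM4_det (A : Matrix.symplecticGroup (Fin 2) F) : (toM4 A).det = 1 := by
  have h1 := ext2_ω_fixed _ (toM4_J A)
  have h2 := ext2_Q (toM4 A) ω
  rw [h1, Qk_ω] at h2
  linear_combination h2

theorem inv_perp (A : Matrix.symplecticGroup (Fin 2) F) (u : κ → F)
    (hu : u (.inl 1) = u (.inr 1)) :
    (ext2 (toM4 A) *ᵥ u) (.inl 1) = (ext2 (toM4 A) *ᵥ u) (.inr 1) := by
  have := ext2_B (toM4 A) u ω
  rw [ext2_ω_fixed _ (toM4_J A), toM4_det, one_mul, Bk_ω, Bk_ω] at this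
  linear_combination this + hu

/-- the `5 × 5` matrix -/
def r5 (A : Matrix.symplecticGroup (Fin 2) F) : Matrix κ5 κ5 F :=
  (Pm : Matrix κ5 κ F) * ext2 (toM4 A) * (Em : Matrix κ κ5 F)

theorem r5_mulVec (A : Matrix.symplecticGroup (Fin 2) F) (v : κ5 → F) :
    r5 A *ᵥ v = Pf (ext2 (toM4 A) *ᵥ Ef v) := by
  rw [r5, ← Matrix.mulVec_mulVec, ← Matrix.mulVec_mulVec, Em_mulVec, Pm_mulVec]

theorem Ef_r5 (A : Matrix.symplecticGroup (Fin 2) F) (v : κ5 → F) :
    Ef (r5 A *ᵥ v) = ext2 (toM4 A) *ᵥ Ef v := by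
  rw [r5_mulVec, Ef_Pf _ (inv_perp A _ (Ef_mem v))]

def r5Hom : Matrix.symplecticGroup (Fin 2) F →* Matrix κ5 κ5 F where
  toFun A := r5 A
  map_one' := by
    apply mat_ext
    intro v
    rw [r5_mulVec, toM4_one, ext2_one, Matrix.one_mulVec, Matrix.one_mulVec, Pf_Ef]
  map_mul' A B := by
    apply mat_ext
    intro v
    rw [← Matrix.mulVec_mulVec, r5_mulVec A, Ef_r5, r5_mulVec, toM4_mul, ext2_mul,
      Matrix.mulVec_mulVec]

/-- `Sp₄(F) → O₅(F)` -/
def rho : Matrix.symplecticGroup (Fin 2) F →* ↥(Cfsg.isometryGroup F (Cfsg.quadFormOdd 2 F)) :=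
  (r5Hom (F := F)).toHomUnits.codRestrict _ (by
    intro A u _
    show Cfsg.quadFormOdd 2 F (r5 A *ᵥ u) = Cfsg.quadFormOdd 2 F u
    have e : ∀ w : κ5 → F, Cfsg.quadFormOdd 2 F w = Qk (Ef w) := fun w => (Qk_Ef w).symm
    rw [e, e, Ef_r5, ext2_Q, toM4_det, one_mul])

theorem rho_coe (A : Matrix.symplecticGroup (Fin 2) F) :
    (((rho A : ↥(Cfsg.isometryGroup F (Cfsg.quadFormOdd 2 F))) : GL κ5 F) : Matrix κ5 κ5 F)
      = r5 A := rfl

theorem ext2_eq_one_of_ker (h2 : (2 : F) ≠ 0) (A : Matrix.symplecticGroup (Fin 2) F)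
    (hA : A ∈ (rho (F := F)).ker) : ext2 (toM4 A) = 1 := by
  have hr : r5 A = 1 := by
    rw [← rho_coe, MonoidHom.mem_ker.1 hA]; rfl
  have hfix : ∀ v, ext2 (toM4 A) *ᵥ Ef v = Ef v := by
    intro v
    rw [← Ef_r5, hr, Matrix.one_mulVec]
  apply mat_ext
  intro u
  rw [Matrix.one_mulVec]
  set c : F := (u (.inr 1) - u (.inl 1)) / 2 with hc
  have hu : u = Ef (Pf (u - c • ω)) + c • ω := by
    rw [Ef_Pf]
    · simp
    · simp only [Pi.sub_apply, Pi.smul_apply, ω, smul_eq_mul]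
      rw [hc]
      field_simp
      ring
  rw [hu, Matrix.mulVec_add, hfix, Matrix.mulVec_smul, ext2_ω_fixed _ (toM4_J A)]

theorem ker_rho_scalar (h2 : (2 : F) ≠ 0) (A : Matrix.symplecticGroup (Fin 2) F)
    (hA : A ∈ (rho (F := F)).ker) :
    ∃ r : F, (r = 1 ∨ r = -1) ∧ Matrix.scalar (Fin 2 ⊕ Fin 2) r = A.1 := by
  have h1 := ext2_eq_one_of_ker h2 A hA
  let g : Matrix.SpecialLinearGroup (Fin 4) F := ⟨toM4 A, toM4_det A⟩
  have hg : g ∈ (Cfsg.Agent.S0256.rho (F := F)).ker := by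
    rw [MonoidHom.mem_ker]
    apply Subtype.ext
    apply Units.ext
    rw [Cfsg.Agent.S0256.rho_coe]
    exact h1
  obtain ⟨r, hr, hs⟩ := Cfsg.Agent.S0302.ker_rho_scalar g hg
  refine ⟨r, hr, ?_⟩
  ext i j
  have h3 : toM4 A (e4.symm i) (e4.symm j) = A.1 i j := by
    simp [toM4]
  rw [← h3]
  have h4 : toM4 A = Matrix.scalar (Fin 4) r := hs.symm
  rw [h4]
  simp only [Matrix.scalar_apply, Matrix.diagonal_apply, EmbeddingLike.apply_eq_iff_eq]

theorem card_ker_le_two [Finite F] (h2 : (2 : F) ≠ 0) : Nat.card (rho (F := F)).ker ≤ 2 := by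
  classical
  let f : (rho (F := F)).ker → ↥({1, -1} : Finset F) := fun g =>
    ⟨g.1.1 (.inl 0) (.inl 0), by
      obtain ⟨r, hr, hA⟩ := ker_rho_scalar h2 g.1 g.2
      rw [← hA]
      simp only [Matrix.scalar_apply, Matrix.diagonal_apply_eq, Finset.mem_insert,
        Finset.mem_singleton]
      exact hr⟩
  have hf : Function.Injective f := by
    intro g h hgh
    have h0 : g.1.1 (.inl 0) (.inl 0) = h.1.1 (.inl 0) (.inl 0) := congrArg Subtype.val hgh
    obtain ⟨r, hr, hA⟩ := ker_rho_scalar h2 g.1 g.2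
    obtain ⟨r', hr', hA'⟩ := ker_rho_scalar h2 h.1 h.2
    apply Subtype.ext
    apply Subtype.ext
    rw [← hA, ← hA'] at h0 ⊢
    simp only [Matrix.scalar_apply, Matrix.diagonal_apply_eq] at h0
    rw [h0]
  calc Nat.card (rho (F := F)).ker ≤ Nat.card ↥({1, -1} : Finset F) :=
        Nat.card_le_card_of_injective f hf
    _ = ({1, -1} : Finset F).card := by
        rw [Nat.card_eq_fintype_card, Fintype.card_coe]
    _ ≤ 2 := Finset.card_le_two

end field

section cards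

variable {F : Type*} [Field F] [Fintype F]

theorem index_Omega (h2 : (2 : F) ≠ 0) :
    (Cfsg.Omega F (Cfsg.quadFormOdd 2 F)).index = 4 := by
  have hi := Cfsg.Agent.Lib.H11.OmegaGen.index_omega (Cfsg.Agent.S0286.oddQF F 2)
    (Cfsg.Agent.S0286.nondeg h2 2) h2 (by simp)
  rw [Cfsg.Agent.S0286.coe_oddQF] at hi
  exact hi

theorem perfect_Sp (hF : 3 ≤ Fintype.card F) :
    commutator (Matrix.symplecticGroup (Fin 2) F) = ⊤ :=
  Cfsg.Agent.Lib.H2.Sp.perfect 2 (Or.inr (Or.inl ⟨rfl, hF⟩))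

theorem rho_mem_Omega (hF : 3 ≤ Fintype.card F) (g : Matrix.symplecticGroup (Fin 2) F) :
    rho g ∈ Cfsg.Omega F (Cfsg.quadFormOdd 2 F) := by
  have h1 := Abelianization.commutator_subset_ker ((Abelianization.of).comp (rho (F := F)))
  rw [perfect_Sp hF] at h1
  have h2 := h1 (Subgroup.mem_top g)
  have h3 : rho g ∈ (Abelianization.of :
      ↥(Cfsg.isometryGroup F (Cfsg.quadFormOdd 2 F)) →* _).ker := h2
  rwa [Abelianization.ker_of] at h3

theorem card_Omega_le_range (hodd : Odd (Fintype.card F)) (h2 : (2 : F) ≠ 0) :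
    Nat.card ↥(Cfsg.Omega F (Cfsg.quadFormOdd 2 F)) ≤ Nat.card ↥(rho (F := F)).range := by
  have hidx := Subgroup.card_mul_index (Cfsg.Omega F (Cfsg.quadFormOdd 2 F))
  have hker := Subgroup.card_mul_index (rho (F := F)).ker
  rw [Subgroup.index_ker] at hker
  rw [index_Omega h2] at hidx
  have h1 := Cfsg.Agent.Lib.H2.Sp.card_Sp (F := F) 2
  have hO := Cfsg.Agent.S0286.result (F := F) rfl hodd 2
  have hk := card_ker_le_two (F := F) h2
  have : Nat.card (Matrix.symplecticGroup (Fin 2) F) ≤ 2 * Nat.card ↥(rho (F := F)).range := by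
    rw [← hker]
    exact Nat.mul_le_mul_right _ hk
  rw [hO] at hidx
  rw [h1] at this
  have e5 : 2 * Fintype.card F ^ 2 ^ 2 *
      ∏ i ∈ Finset.range 2, (Fintype.card F ^ (2 * (i + 1)) - 1) = 2 * (Fintype.card F ^ 2 ^ 2 *
      ∏ i ∈ Finset.range 2, (Fintype.card F ^ (2 * (i + 1)) - 1)) := by ring
  omega

end cards

/-- PΩ_5(q) is isomorphic to PSp_4(q) for q odd. -/
theorem result {F : Type*} [Field F] [Fintype F] (hodd : Odd (Fintype.card F)) : Nonempty (Cfsg.POmega F (Cfsg.quadFormOdd 2 F) ≃* Cfsg.PSp 2 F) := by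
  have h2 : (2 : F) ≠ 0 := by
    intro h
    haveI : CharP F 2 := CharTwo.of_one_ne_zero_of_two_eq_zero one_ne_zero h
    have : (2 : ℕ) ∣ Fintype.card F := by
      have := Nat.cast_card_eq_zero F
      exact (CharP.cast_eq_zero_iff F 2 _).1 this
    exact (Nat.not_even_iff_odd.2 hodd) (even_iff_two_dvd.2 this)
  have hF : 3 ≤ Fintype.card F := by
    have h1 : 1 < Fintype.card F := Fintype.one_lt_card
    rcases hodd with ⟨k, hk⟩
    omega
  have hperf := perfect_Sp hF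
  refine Cfsg.Agent.Lib.H29.ExcIso.excIso' (rho (F := F)) (rho_mem_Omega hF)
    (card_Omega_le_range hodd h2)
    (fun N hN => Cfsg.Agent.Lib.H2.Sp.normal_dichotomy (le_refl 2) hperf N) ?_
  by_contra hcon
  push Not at hcon
  -- then `ρ` kills all commutators, so its kernel is everything
  have hle : commutator (Matrix.symplecticGroup (Fin 2) F) ≤ (rho (F := F)).ker := by
    rw [commutator_def, Subgroup.commutator_le]
    intro g₁ _ g₂ _
    rw [MonoidHom.mem_ker, map_commutatorElement, commutatorElement_eq_one_iff_mul_comm,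
      ← map_mul, ← map_mul]
    exact hcon g₁ g₂
  rw [hperf] at hle
  -- a transvection is not scalar
  let v : Fin 2 ⊕ Fin 2 → F := Pi.single (Sum.inl 0) 1
  obtain ⟨r, hr, hs⟩ := ker_rho_scalar h2 (Cfsg.Agent.Lib.H2.Sp.tv 2 v 1) (hle (Subgroup.mem_top _))
  have h3 := congrArg (fun M : Matrix (Fin 2 ⊕ Fin 2) (Fin 2 ⊕ Fin 2) F =>
    (M *ᵥ (Pi.single (Sum.inr 0) 1)) (Sum.inl 0)) hs
  simp only [Cfsg.Agent.Lib.H2.Sp.tv_mulVec] at h3
  have h4 : Cfsg.sympForm 2 F (Pi.single (Sum.inr 0) 1) v = 1 := by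
    simp [Cfsg.sympForm, v, Matrix.J, Matrix.fromBlocks_mulVec]
  rw [h4] at h3
  simp [v] at h3

end Cfsg.Agent.S0301
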