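import Cfsg.Statements.S0794
import Cfsg.Agent.S0750
import Cfsg.Agent.Lib.H4.Orth
-- import your own Cfsg.Agent.* helpers here

set_option autoImplicit false
open Cfsg

namespace Cfsg.Agent.S0794

open Matrix Cfsg.Agent.Lib.H4

variable {F : Type*} [Field F] {n : ℕ} (Q : QuadraticForm F (Fin n → F))

set_option quotPrecheck false in
local notation "P" => QuadraticMap.polar (⇑Q)

noncomputable def glOfEquiv (e : (Fin n → F) ≃ₗ[F] (Fin n → F)) : GL (Fin n) F :=
  ⟨LinearMap.toMatrix' (e : (Fin n → F) →ₗ[F] (Fin n → F)),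
    LinearMap.toMatrix' (e.symm : (Fin n → F) →ₗ[F] (Fin n → F)),
    by rw [← LinearMap.toMatrix'_comp]; simp,
    by rw [← LinearMap.toMatrix'_comp]; simp⟩

theorem glOfEquiv_mulVec (e : (Fin n → F) ≃ₗ[F] (Fin n → F)) (v : Fin n → F) :
    (glOfEquiv e).1 *ᵥ v = e v := by
  show (LinearMap.toMatrix' (e : (Fin n → F) →ₗ[F] (Fin n → F))) *ᵥ v = e v
  rw [LinearMap.toMatrix'_mulVec]; rfl

theorem mem_iso_iff (g : GL (Fin n) F) :
    g ∈ Cfsg.isometryGroup F (⇑Q) ↔ ∀ x, Q (g.1 *ᵥ x) = Q x := by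
  constructor
  · intro h x; exact h x 0
  · intro h x _; exact h x

theorem polar_mulVec (M : Matrix (Fin n) (Fin n) F) (hM : ∀ x, Q (M *ᵥ x) = Q x) (x y : Fin n → F) :
    P (M *ᵥ x) (M *ᵥ y) = P x y := by
  simp only [QuadraticMap.polar, ← Matrix.mulVec_add, hM]

variable (u v : Fin n → F)

theorem siegel_Q (hu : Q u = 0) (hv : Q v = 0) (huv : P u v = 0) (c : F) (x : Fin n → F) :
    Q (Cfsg.siegelMatrix (⇑Q) u v c *ᵥ x) = Q x := by
  rw [siegelMatrix_mulVec, sub_eq_add_neg, ← neg_smul, Cfsg.Agent.S0750.Q_two, hu, hv,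
    QuadraticMap.polar_comm (⇑Q) v u, huv, QuadraticMap.polar_comm (⇑Q) x v,
    QuadraticMap.polar_comm (⇑Q) x u]
  ring

theorem siegel_mul (hu : Q u = 0) (hv : Q v = 0) (huv : P u v = 0) (c d : F) :
    Cfsg.siegelMatrix (⇑Q) u v c * Cfsg.siegelMatrix (⇑Q) u v d =
      Cfsg.siegelMatrix (⇑Q) u v (c + d) := by
  have huu : P u u = 0 := by rw [polar_self, hu, mul_zero]
  have hvv : P v v = 0 := by rw [polar_self, hv, mul_zero]
  have hvu : P v u = 0 := by rw [QuadraticMap.polar_comm, huv]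
  rw [Matrix.ext_iff_mulVec]
  intro x
  rw [← Matrix.mulVec_mulVec, siegelMatrix_mulVec Q u v d, siegelMatrix_mulVec, siegelMatrix_mulVec]
  simp only [QuadraticMap.polar_add_right, QuadraticMap.polar_sub_right,
    QuadraticMap.polar_smul_right, huu, hvv, huv, hvu, smul_eq_mul, mul_zero, add_zero, sub_zero]
  module

theorem siegel_zero : Cfsg.siegelMatrix (⇑Q) u v 0 = 1 := by
  simp [Cfsg.siegelMatrix]

theorem siegel_neg (c : F) :
    Cfsg.siegelMatrix (⇑Q) u (-v) c = Cfsg.siegelMatrix (⇑Q) u v (-c) := by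
  rw [Matrix.ext_iff_mulVec]
  intro x
  rw [siegelMatrix_mulVec, siegelMatrix_mulVec]
  simp only [QuadraticMap.polar_neg_left]
  module

theorem siegel_conj (M : Matrix (Fin n) (Fin n) F) (hM : ∀ x, Q (M *ᵥ x) = Q x) (c : F) :
    M * Cfsg.siegelMatrix (⇑Q) u v c = Cfsg.siegelMatrix (⇑Q) (M *ᵥ u) (M *ᵥ v) c * M := by
  rw [Matrix.ext_iff_mulVec]
  intro x
  rw [← Matrix.mulVec_mulVec, ← Matrix.mulVec_mulVec, siegelMatrix_mulVec, siegelMatrix_mulVec,
    polar_mulVec Q M hM, polar_mulVec Q M hM, Matrix.mulVec_sub, Matrix.mulVec_add,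
    Matrix.mulVec_smul, Matrix.mulVec_smul]

theorem siegel_smul_left (μ : F) (c : F) : Cfsg.siegelMatrix (⇑Q) (μ • v) v c = 1 := by
  rw [Matrix.ext_iff_mulVec]
  intro x
  rw [siegelMatrix_mulVec, Matrix.one_mulVec]
  simp only [QuadraticMap.polar_smul_left, smul_eq_mul]
  module

theorem siegel_right_zero (c : F) : Cfsg.siegelMatrix (⇑Q) u 0 c = 1 := by
  rw [Matrix.ext_iff_mulVec]
  intro x
  rw [siegelMatrix_mulVec, Matrix.one_mulVec]
  simp [QuadraticMap.polar_zero_left]

theorem siegel_dep (h : ¬ LinearIndependent F ![u, v]) (c : F) :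
    Cfsg.siegelMatrix (⇑Q) u v c = 1 := by
  rw [LinearIndependent.pair_iff] at h
  push Not at h
  obtain ⟨s, t, hst, hne⟩ := h
  by_cases hs : s = 0
  · have ht : t ≠ 0 := hne hs
    rw [hs, zero_smul, zero_add] at hst
    have hv0 : v = 0 := by
      rcases smul_eq_zero.1 hst with h | h
      · exact absurd h ht
      · exact h
    rw [hv0]
    exact siegel_right_zero Q u c
  · have hu' : u = (-(t / s)) • v := by
      have h1 : s • u = -(t • v) := eq_neg_of_add_eq_zero_left hst
      have h2 : u = s⁻¹ • (s • u) := by rw [smul_smul, inv_mul_cancel₀ hs, one_smul]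
      rw [h2, h1, smul_neg, smul_smul, neg_smul]
      congr 2
      field_simp
    rw [hu']
    exact siegel_smul_left Q v _ c

/-- For q odd, n ≥ 5 and Q with non-degenerate polar form: an isometry whose matrix is a Siegel transformation T_(u,v)(c) (u, v singular and orthogonal) is a commutator in the isometry group, so lies in Ω. -/
theorem result {F : Type*} [Field F] [Fintype F] (h2 : (2 : F) ≠ 0) {n : ℕ} (hn : 5 ≤ n) (Q : QuadraticForm F (Fin n → F)) (hQ : (QuadraticMap.polarBilin Q).Nondegenerate) (u v : Fin n → F) (hu : Q u = 0) (hv : Q v = 0) (huv : QuadraticMap.polar ⇑Q u v = 0) (c : F) (g : ↥(Cfsg.isometryGroup F ⇑Q)) (hg : ((g : Matrix.GeneralLinearGroup (Fin n) F) : Matrix (Fin n) (Fin n) F) = Cfsg.siegelMatrix ⇑Q u v c) : g ∈ commutatorSet ↥(Cfsg.isometryGroup F ⇑Q) ∧ g ∈ Cfsg.Omega F ⇑Q := by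
  have key : g ∈ commutatorSet ↥(Cfsg.isometryGroup F ⇑Q) := by
    by_cases hli : LinearIndependent F ![u, v]
    · obtain ⟨e, he, hexy⟩ := Cfsg.Agent.S0750.witt_family Q hQ 2 ![u, v] ![u, -v] hli
        (by
          rw [LinearIndependent.pair_iff] at hli ⊢
          intro s t hst
          have := hli s (-t) (by rw [neg_smul, ← smul_neg]; exact hst)
          exact ⟨this.1, neg_eq_zero.1 this.2⟩)
        (by
          intro i
          fin_cases i
          · rfl
          · simp [hv])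
        (by
          intro i j
          have hvu : QuadraticMap.polar ⇑Q v u = 0 := by rw [QuadraticMap.polar_comm, huv]
          fin_cases i <;> fin_cases j <;> simp [QuadraticMap.polar_neg_left,
            QuadraticMap.polar_neg_right, huv, hvu])
      have heu : e u = u := hexy 0
      have hev : e v = -v := hexy 1
      set H : GL (Fin n) F := glOfEquiv e with hH
      have hHQ : ∀ x, Q (H.1 *ᵥ x) = Q x := fun x => by rw [hH, glOfEquiv_mulVec]; exact he x
      have hHmem : H ∈ Cfsg.isometryGroup F ⇑Q := (mem_iso_iff Q H).2 hHQ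
      set d : F := -(c / 2) with hd
      let T : GL (Fin n) F := ⟨Cfsg.siegelMatrix ⇑Q u v d, Cfsg.siegelMatrix ⇑Q u v (-d),
        by rw [siegel_mul Q u v hu hv huv, add_neg_cancel, siegel_zero],
        by rw [siegel_mul Q u v hu hv huv, neg_add_cancel, siegel_zero]⟩
      have hTmem : T ∈ Cfsg.isometryGroup F ⇑Q :=
        (mem_iso_iff Q T).2 (fun x => siegel_Q Q u v hu hv huv d x)
      refine ⟨⟨H, hHmem⟩, ⟨T, hTmem⟩, ?_⟩
      rw [commutatorElement_def, eq_comm, eq_mul_inv_iff_mul_eq, eq_mul_inv_iff_mul_eq]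
      apply Subtype.ext
      apply Units.ext
      show g.1.1 * Cfsg.siegelMatrix ⇑Q u v d * H.1 = H.1 * Cfsg.siegelMatrix ⇑Q u v d
      rw [siegel_conj Q u v H.1 hHQ, hH, glOfEquiv_mulVec, glOfEquiv_mulVec, heu, hev, siegel_neg,
        hg, siegel_mul Q u v hu hv huv]
      congr 2
      rw [hd]
      field_simp
      ring
    · have h1 : g = 1 := by
        apply Subtype.ext
        apply Units.ext
        rw [hg, siegel_dep Q u v hli]
        rfl
      rw [h1]
      exact ⟨1, 1, by simp⟩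
  refine ⟨key, ?_⟩
  rw [Cfsg.Omega, commutator_eq_closure]
  exact Subgroup.subset_closure key

end Cfsg.Agent.S0794
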