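import Cfsg.Statements.S3879
import Cfsg.Agent.Lib.H19.MetaBasic

set_option autoImplicit false
open Cfsg

namespace Cfsg.Agent.S3879

theorem result {G : Type*} [Group G] [Finite G] {p : ℕ} [Fact p.Prime] (hp : p ≠ 2) (hG : IsPGroup p G) (hmc : Cfsg.IsMetacyclic G) : (Subgroup.center G).index = Nat.card ↥(commutator G) ^ 2 := by
  obtain ⟨N, hNn, hNc, hQ⟩ := hmc
  exact Cfsg.Agent.Lib.H19.MC.index_center_eq N hNc hQ hp hG

end Cfsg.Agent.S3879
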