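import Cfsg.Statements.S5358
import Mathlib

set_option autoImplicit false
open scoped MatrixGroups
open Cfsg

namespace Cfsg.Agent.S5358

theorem polarVec_dot {n : ℕ} (Q : QuadraticForm (ZMod 3) (Fin n → ZMod 3)) (v x : Fin n → ZMod 3) :
    Cfsg.polarVec (⇑Q) v ⬝ᵥ x = QuadraticMap.polar (⇑Q) v x := by
  conv_rhs => rw [pi_eq_sum_univ' x]
  rw [← QuadraticMap.polarBilin_apply_apply, map_sum]
  unfold dotProduct Cfsg.polarVec
  apply Finset.sum_congr rfl
  intro j _
  rw [map_smul, QuadraticMap.polarBilin_apply_apply, smul_eq_mul, mul_comm]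


/-- Let Q be a non-degenerate quadratic form on the n-dimensional coordinate space over the field with three elements and u, v vectors of the same non-zero norm Q(u) = Q(v) spanning different lines (v ≠ u and v ≠ −u). Then the reflection matrices of u and v commute if and only if u and v are orthogonal for the polar form of Q. -/
theorem result (n : ℕ) (Q : QuadraticForm (ZMod 3) (Fin n → ZMod 3)) (hQ : (QuadraticMap.polarBilin Q).Nondegenerate) (u v : Fin n → ZMod 3) (hu : Q u ≠ 0) (huv : Q u = Q v) (h1 : v ≠ u) (h2 : v ≠ -u) : Commute (Cfsg.reflectionMatrix (⇑Q) u) (Cfsg.reflectionMatrix (⇑Q) v) ↔ QuadraticMap.polar (⇑Q) u v = 0 := by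
  have hv : Q v ≠ 0 := huv ▸ hu
  set a : ZMod 3 := (Q u)⁻¹ with ha
  set b : ZMod 3 := (Q v)⁻¹ with hb
  have ha0 : a ≠ 0 := inv_ne_zero hu
  have hb0 : b ≠ 0 := inv_ne_zero hv
  set wu := Cfsg.polarVec (⇑Q) u with hwu
  set wv := Cfsg.polarVec (⇑Q) v with hwv
  set A : Matrix (Fin n) (Fin n) (ZMod 3) := Matrix.vecMulVec u wu with hA
  set B : Matrix (Fin n) (Fin n) (ZMod 3) := Matrix.vecMulVec v wv with hB
  set β : ZMod 3 := QuadraticMap.polar (⇑Q) u v with hβ
  have hβ' : QuadraticMap.polar (⇑Q) v u = β := QuadraticMap.polar_comm _ _ _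
  have hAB : A * B = β • Matrix.vecMulVec u wv := by
    rw [hA, hB, Matrix.vecMulVec_mul_vecMulVec, hwu, polarVec_dot, Matrix.vecMulVec_smul]
  have hBA : B * A = β • Matrix.vecMulVec v wu := by
    rw [hA, hB, Matrix.vecMulVec_mul_vecMulVec, hwv, polarVec_dot, hβ', Matrix.vecMulVec_smul]
  have hru : Cfsg.reflectionMatrix (⇑Q) u = 1 - a • A := rfl
  have hrv : Cfsg.reflectionMatrix (⇑Q) v = 1 - b • B := rfl
  have hcomm : Commute (Cfsg.reflectionMatrix (⇑Q) u) (Cfsg.reflectionMatrix (⇑Q) v) ↔
      A * B = B * A := by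
    rw [hru, hrv, commute_iff_eq]
    have e1 : (1 - a • A) * (1 - b • B) = 1 - a • A - b • B + (a * b) • (A * B) := by
      rw [sub_mul, mul_sub, mul_sub, one_mul, mul_one, one_mul, smul_mul_smul_comm]
      abel
    have e2 : (1 - b • B) * (1 - a • A) = 1 - a • A - b • B + (a * b) • (B * A) := by
      rw [sub_mul, mul_sub, mul_sub, one_mul, mul_one, one_mul, smul_mul_smul_comm, mul_comm b a]
      abel
    rw [e1, e2]
    constructor
    · intro h
      have h' := add_left_cancel h
      exact smul_right_injective _ (mul_ne_zero ha0 hb0) h'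
    · intro h
      rw [h]
  rw [hcomm]
  constructor
  · intro h
    by_contra hβ0
    rw [hAB, hBA] at h
    have h3 : Matrix.vecMulVec u wv = Matrix.vecMulVec v wu := smul_right_injective _ hβ0 h
    have h4 : (2 * Q v) • u = β • v := by
      have h40 := congrArg (fun M : Matrix (Fin n) (Fin n) (ZMod 3) => Matrix.mulVec M v) h3
      simp only [Matrix.vecMulVec_mulVec, op_smul_eq_smul] at h40
      rw [hwv, hwu, polarVec_dot, polarVec_dot, QuadraticMap.polar_self, two_smul, ← two_mul] at h40
      exact h40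
    -- h4 : (2 * Q v) • u = β • v
    have hs : (2 * Q v) ≠ 0 := by
      apply mul_ne_zero _ hv
      decide
    have hdec : ∀ s t : ZMod 3, s ≠ 0 → t ≠ 0 → s = t ∨ s = -t := by decide
    rcases hdec _ _ hs hβ0 with h5 | h5
    · rw [h5] at h4
      exact h1 (smul_right_injective _ hβ0 h4).symm
    · rw [h5, neg_smul, ← smul_neg] at h4
      have := smul_right_injective _ hβ0 h4
      exact h2 this.symm
  · intro h
    rw [hAB, hBA, h, zero_smul, zero_smul]


end Cfsg.Agent.S5358
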