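import Cfsg.Statements.S3360
import Cfsg.Agent.Lib.H29.Zsigmondy
import Cfsg.Agent.Lib.H4.Hup.QP5

set_option autoImplicit false
open Cfsg

namespace Cfsg.Agent.S3360

open Cfsg.Agent.Lib.H4.Hup in
/-- Let q be a prime and V a non-trivial finite vector space over the field with q elements, and let G be a finite solvable group acting faithfully and linearly on V and transitively on the non-zero vectors. Then either V can be identified with the additive group of a finite field F in such a way that every element of G acts as x ↦ a·σ(x) for some a ∈ F and some field automorphism σ, or the number of elements of V is one of 3^2, 5^2, 7^2, 11^2, 23^2, 3^4. -/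
theorem result
    (q : ℕ) [Fact q.Prime] {V : Type*} [AddCommGroup V] [Module (ZMod q) V] [Finite V] [Nontrivial V]
    {G : Type*} [Group G] [Finite G] (hsol : Group.IsSolvable G)
    (ρ : G →* (V ≃ₗ[ZMod q] V)) (hρ : Function.Injective ρ)
    (htrans : ∀ v w : V, v ≠ 0 → w ≠ 0 → ∃ g : G, ρ g v = w) :
    (∃ (F : Type) (_ : Field F) (_ : Fintype F) (e : V ≃+ F),
        ∀ g : G, ∃ (a : F) (σ : F ≃+* F), ∀ v : V, e (ρ g v) = a * σ (e v)) ∨
    Nat.card V ∈ ({9, 25, 49, 121, 529, 81} : Set ℕ) := by
  classical
  haveI hq : Fact q.Prime := inferInstance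
  have hq2 := hq.out.two_le
  obtain ⟨n, hn⟩ : ∃ n, Nat.card V = q ^ n :=
    ⟨Module.finrank (ZMod q) V, by rw [Module.natCard_eq_pow_finrank (K := ZMod q), Nat.card_zmod]⟩
  have hn1 : 1 ≤ n := by
    by_contra h0
    have h1 : n = 0 := by omega
    rw [h1, pow_zero] at hn
    have := Finite.one_lt_card (α := V)
    omega
  -- orbit–stabilizer
  have hdvd : q ^ n - 1 ∣ Nat.card G := by
    letI : MulAction G V := MulAction.compHom V ρ
    have hsmul : ∀ (g : G) (v : V), g • v = ρ g v := fun g v => rfl
    obtain ⟨v0, hv0⟩ := exists_ne (0 : V)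
    have horb : MulAction.orbit G v0 = ({0} : Set V)ᶜ := by
      ext v
      rw [MulAction.mem_orbit_iff, Set.mem_compl_iff, Set.mem_singleton_iff]
      constructor
      · rintro ⟨g, rfl⟩ h0
        rw [hsmul] at h0
        have : ρ g v0 = ρ g 0 := by rw [h0, map_zero]
        exact hv0 ((ρ g).injective this)
      · intro hv
        obtain ⟨g, hg⟩ := htrans v0 v hv0 hv
        exact ⟨g, hg⟩
    have h1 := MulAction.index_stabilizer G v0
    rw [horb, Set.ncard_compl, Set.ncard_singleton, hn] at h1
    rw [← h1]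
    exact Subgroup.index_dvd_card _
  have hmodel : HasIrr ρ → ∃ (F : Type) (_ : Field F) (_ : Fintype F) (e : V ≃+ F),
      ∀ g : G, ∃ (a : F) (σ : F ≃+* F), ∀ v : V, e (ρ g v) = a * σ (e v) :=
    fun h => model_of_hasIrr h
  by_cases hn1' : n = 1
  · -- one-dimensional
    left
    apply hmodel
    refine ⟨1, by rw [Subgroup.zpowers_one_eq_bot]; infer_instance, ?_⟩
    intro W _
    have hfin : Module.finrank (ZMod q) V = 1 := by
      have h1 : Nat.card V = q ^ Module.finrank (ZMod q) V := by
        rw [Module.natCard_eq_pow_finrank (K := ZMod q), Nat.card_zmod]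
      rw [hn, hn1'] at h1
      exact (Nat.pow_right_injective hq2 h1).symm
    have hle : Module.finrank (ZMod q) W ≤ 1 := hfin ▸ Submodule.finrank_le W
    rcases Nat.le_one_iff_eq_zero_or_eq_one.mp hle with h | h
    · left
      exact Submodule.finrank_eq_zero.mp h
    · right
      exact Submodule.eq_top_of_finrank_eq (h.trans hfin.symm)
  by_cases hn2 : n = 2
  · subst hn2
    rcases case_two hsol hρ htrans hn hdvd with h | h
    · exact Or.inl (hmodel h)
    · exact Or.inr h
  by_cases h26 : q = 2 ∧ n = 6
  · obtain ⟨hq2', hn6⟩ := h26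
    subst hq2'
    subst hn6
    left
    apply hmodel
    exact case_two_six hsol hρ htrans hn (by norm_num at hdvd ⊢; exact hdvd)
  -- Zsigmondy
  obtain ⟨p, hp, hpdvd, hppd⟩ := Cfsg.Agent.Lib.H29.Zsig.zsigmondy q n (by omega) (by omega) h26
    (fun h => hn2 h.1)
  haveI : Fact p.Prime := ⟨hp⟩
  obtain ⟨x, hx⟩ := exists_prime_orderOf_dvd_card' p (hpdvd.trans hdvd)
  have hpq : p ≠ q := by
    intro hpq'
    rw [hpq'] at hpdvd
    have h1 : q ∣ q ^ n := dvd_pow_self q (by omega)
    have h2 : 1 ≤ q ^ n := Nat.one_le_pow _ _ (by omega)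
    have h3 : q ∣ q ^ n - (q ^ n - 1) := Nat.dvd_sub h1 hpdvd
    have h4 : q ^ n - (q ^ n - 1) = 1 := by omega
    rw [h4] at h3
    have := Nat.le_of_dvd one_pos h3
    omega
  have hctx : Ctx ρ n p x :=
    { inj := hρ
      card := hn
      two_le := by omega
      prime := hp
      ne := hpq
      ppd := hppd
      pow := by rw [← hx]; exact pow_orderOf_eq_one x
      ne_one := by
        intro h1
        rw [h1, orderOf_one] at hx
        exact hp.one_lt.ne hx }
  exact ppd_case hsol hctx hdvd

end Cfsg.Agent.S3360
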