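import Cfsg.Statements.S0058
import Mathlib
import Cfsg.Agent.Lib.H1.NoncyclicAbelian
import Cfsg.Agent.Lib.H1.Misc
import Cfsg.Agent.Lib.H9.CoprimeGeneration

set_option autoImplicit false
open Cfsg

namespace Cfsg.Agent.S0058

open scoped IsMulCommutative in
theorem aux {G : Type*} [Group G] [Finite G] (A : Subgroup G) [IsMulCommutative A]
    (hA : ¬ IsCyclic A) :
    ∃ p : ℕ, p.Prime ∧ ∃ x y : A, x ^ p = 1 ∧ y ^ p = 1 ∧ x ≠ 1 ∧ ∀ i : ℕ, x ^ i * y ≠ 1 :=
  Lib.H1.exists_independent_of_not_isCyclic hA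

/-- Generation by centralisers: when a noncyclic abelian group A normalises K with coprime orders, K is generated by the fixed-point subgroups of the nonidentity elements of A. -/
theorem result {G : Type*} [Group G] [Finite G] (A K : Subgroup G)
    [IsMulCommutative A] (hA : ¬ IsCyclic A) (hAK : A ≤ Subgroup.normalizer (K : Set G)) (hcop : (Nat.card A).Coprime (Nat.card K)) :
    (⨆ a ∈ {a : G | a ∈ A ∧ a ≠ 1}, K ⊓ Subgroup.centralizer {a}) = K := by
  classical
  have hsolv : Group.IsSolvable A := Lib.H1.isSolvable_of_isMulCommutative A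
  have hca : Lib.H1.CoprimeAction A K := ⟨hAK, hcop, Or.inl hsolv⟩
  obtain ⟨p, hp, x', y', hx'p, hy'p, hx'1, hxy'⟩ :=
    aux A hA
  haveI : Fact p.Prime := ⟨hp⟩
  have hxA : (x' : G) ∈ A := x'.2
  have hyA : (y' : G) ∈ A := y'.2
  have hxp : (x' : G) ^ p = 1 := by
    have := congrArg Subtype.val hx'p
    simpa using this
  have hyp : (y' : G) ^ p = 1 := by
    have := congrArg Subtype.val hy'p
    simpa using this
  have hx1 : (x' : G) ≠ 1 := fun h => hx'1 (Subtype.ext h)
  have hxy : (x' : G) * (y' : G) = (y' : G) * (x' : G) := by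
    have := mul_comm' x' y'
    exact congrArg Subtype.val this
  have hpA : p ∣ Nat.card A := by
    have h1 : orderOf x' = p := orderOf_eq_prime hx'p hx'1
    rw [← h1]
    exact orderOf_dvd_natCard x'
  have hKp : (Nat.card K).Coprime p := (Nat.Coprime.coprime_dvd_left hpA hcop).symm
  apply le_antisymm
  · exact iSup₂_le fun a _ => inf_le_left
  · apply Lib.H9.le_of_centralizers_le (p := p) hca hKp hxA hyA hxy hxp hyp
    · exact le_iSup₂_of_le (x' : G) ⟨hxA, hx1⟩ le_rfl
    · intro i
      refine le_iSup₂_of_le ((x' : G) ^ i * (y' : G)) ⟨A.mul_mem (A.pow_mem hxA i) hyA, ?_⟩ le_rfl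
      intro h
      apply hxy' i
      apply Subtype.ext
      simpa using h

end Cfsg.Agent.S0058
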