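import Cfsg.Statements.S3443
import Mathlib

set_option autoImplicit false
open Cfsg

namespace Cfsg.Agent.S3443

theorem dvd_or_dvd {x y p : ℕ} (hp : p.Prime) (hx0 : 0 < x) (hy0 : 0 < y)
    (hx : x ∣ y * p) (hy : y ∣ x * p) : x ∣ y ∨ y ∣ x := by
  obtain ⟨a, b, hab, hxa, hyb⟩ := Nat.exists_coprime x y
  set g := Nat.gcd x y with hg
  have hg0 : 0 < g := Nat.gcd_pos_of_pos_left _ hx0
  have ha : a ∣ p := by
    have h1 : a * g ∣ (b * g) * p := by rw [← hxa, ← hyb]; exact hx
    have h2 : a ∣ b * p := by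
      have : g * a ∣ g * (b * p) := by
        have e1 : a * g = g * a := Nat.mul_comm _ _
        have e2 : b * g * p = g * (b * p) := by ring
        rw [e1, e2] at h1; exact h1
      exact (Nat.mul_dvd_mul_iff_left hg0).1 this
    exact hab.dvd_of_dvd_mul_left h2
  have hb : b ∣ p := by
    have h1 : b * g ∣ (a * g) * p := by rw [← hxa, ← hyb]; exact hy
    have h2 : b ∣ a * p := by
      have : g * b ∣ g * (a * p) := by
        have e1 : b * g = g * b := Nat.mul_comm _ _
        have e2 : a * g * p = g * (a * p) := by ring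
        rw [e1, e2] at h1; exact h1
      exact (Nat.mul_dvd_mul_iff_left hg0).1 this
    exact hab.symm.dvd_of_dvd_mul_left h2
  rcases (Nat.dvd_prime hp).1 ha with ha1 | hap
  · left
    rw [hxa, ha1, one_mul]
    exact Nat.gcd_dvd_right x y
  · rcases (Nat.dvd_prime hp).1 hb with hb1 | hbp
    · right
      rw [hyb, hb1, one_mul]
      exact Nat.gcd_dvd_left x y
    · exfalso
      rw [hap, hbp] at hab
      have : p = 1 := by simpa using hab
      exact hp.one_lt.ne' this

theorem lcm_eq_or {x y p : ℕ} (hp : p.Prime) (hx0 : 0 < x) (hy0 : 0 < y)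
    (hx : x ∣ y * p) (hy : y ∣ x * p) : Nat.lcm x y = x ∨ Nat.lcm x y = y := by
  rcases dvd_or_dvd hp hx0 hy0 hx hy with h | h
  · right; exact Nat.lcm_eq_right h
  · left; exact Nat.lcm_eq_left h

variable {G : Type*} [Group G]

theorem orderOf_dvd_of_mk_eq (V : Subgroup G) [V.Normal] (p : ℕ)
    (hexp : ∀ x : V, x ^ p = 1) (a b : G)
    (hab : (QuotientGroup.mk a : G ⧸ V) = QuotientGroup.mk b) :
    orderOf a ∣ orderOf b * p := by
  have h1 : (QuotientGroup.mk (a ^ orderOf b) : G ⧸ V) = 1 := by
    rw [QuotientGroup.mk_pow, hab, ← QuotientGroup.mk_pow, pow_orderOf_eq_one, QuotientGroup.mk_one]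
  have h2 : a ^ orderOf b ∈ V := (QuotientGroup.eq_one_iff _).1 h1
  have h3 := hexp ⟨a ^ orderOf b, h2⟩
  have h4 : (a ^ orderOf b) ^ p = 1 := by
    have := congrArg Subtype.val h3
    simpa using this
  rw [← pow_mul] at h4
  exact orderOf_dvd_of_pow_eq_one h4

/-- The homomorphism `(v, g) ↦ v * g`. -/
noncomputable def mulHom (V : Subgroup G) [V.Normal] : V ⋊[MulAut.conjNormal] G →* G :=
  SemidirectProduct.lift V.subtype (MonoidHom.id G) (by
    intro g
    ext v
    simp [MulAut.conjNormal_apply])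

theorem mulHom_apply (V : Subgroup G) [V.Normal] (z : V ⋊[MulAut.conjNormal] G) :
    mulHom V z = (z.left : G) * z.right := by
  simp [mulHom, SemidirectProduct.lift]

theorem prodHom_injective (V : Subgroup G) [V.Normal] :
    Function.Injective ((mulHom V).prod (SemidirectProduct.rightHom : V ⋊[MulAut.conjNormal] G →* G)) := by
  intro z w h
  have h1 : mulHom V z = mulHom V w := congrArg Prod.fst h
  have h2 : z.right = w.right := congrArg Prod.snd h
  rw [mulHom_apply, mulHom_apply, h2] at h1
  have h3 : (z.left : G) = w.left := mul_right_cancel h1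
  exact SemidirectProduct.ext (Subtype.ext h3) h2

theorem result {G : Type*} [Group G] [Finite G] (V : Subgroup G) [V.Normal] (p : ℕ) (hp : p.Prime)
    (hcomm : ∀ x y : V, x * y = y * x) (hexp : ∀ x : V, x ^ p = 1) :
    Set.range (orderOf : V ⋊[MulAut.conjNormal] G → ℕ) = Set.range (orderOf : G → ℕ) := by
  apply Set.eq_of_subset_of_subset
  · rintro n ⟨z, rfl⟩
    have hinj := prodHom_injective V
    have h1 : orderOf z = orderOf (((mulHom V).prod (SemidirectProduct.rightHom : V ⋊[MulAut.conjNormal] G →* G)) z) :=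
      (orderOf_injective _ hinj z).symm
    rw [h1, MonoidHom.prod_apply, Prod.orderOf_mk]
    set a := mulHom V z with ha
    set b := (SemidirectProduct.rightHom : V ⋊[MulAut.conjNormal] G →* G) z with hb
    have hmk : (QuotientGroup.mk a : G ⧸ V) = QuotientGroup.mk b := by
      rw [ha, hb, mulHom_apply, SemidirectProduct.rightHom_eq_right, QuotientGroup.mk_mul]
      have : (QuotientGroup.mk (z.left : G) : G ⧸ V) = 1 := (QuotientGroup.eq_one_iff _).2 z.left.2
      rw [this, one_mul]
    have hxa := orderOf_dvd_of_mk_eq V p hexp a b hmk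
    have hxb := orderOf_dvd_of_mk_eq V p hexp b a hmk.symm
    rcases lcm_eq_or hp (orderOf_pos a) (orderOf_pos b) hxa hxb with h | h
    · rw [h]; exact ⟨a, rfl⟩
    · rw [h]; exact ⟨b, rfl⟩
  · rintro n ⟨g, rfl⟩
    refine ⟨SemidirectProduct.inr g, ?_⟩
    exact orderOf_injective _ SemidirectProduct.inr_injective g

end Cfsg.Agent.S3443
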