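import Cfsg.Statements.S3021
import Cfsg.Agent.Lib.H15.PGroup
import Cfsg.Agent.Lib.H15.Conj

set_option autoImplicit false
open Cfsg

namespace Cfsg.Agent.S3021

open Cfsg.Agent.Lib.H15

theorem normalizer_le {G : Type*} [Group G] [Finite G] {p : ℕ} [Fact p.Prime] (H : Subgroup G)
    (hcl : Cfsg.IsExtremelyClosed H) (Q : Subgroup G) (hQ : IsPGroup p Q) (hHQ : H ≤ Q) :
    Subgroup.normalizer (Q : Set G) ≤ Subgroup.normalizer (H : Set G) := by
  intro g hg
  have hgQ : cj g Q = Q := mem_normalizer_iff_cj_eq.mp hg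
  have h1 : cj g H ≤ Q := by rw [← hgQ]; exact cj_mono g hHQ
  have hTQ : H ⊔ cj g H ≤ Q := sup_le hHQ h1
  have hTp : IsPGroup p ↥(H ⊔ cj g H) := hQ.to_le hTQ
  have hTn : Group.IsNilpotent ↥(H ⊔ cj g H) := hTp.isNilpotent
  have heq : H = H ⊔ cj g H := by
    by_contra hne
    obtain ⟨x, hxT, hxN, hxH⟩ := exists_mem_normalizer_not_mem hTn le_sup_left hne
    apply hxH
    have := hcl g
    rw [← this]
    exact ⟨hxT, hxN⟩
  have h2 : cj g H ≤ H := sup_eq_left.mp heq.symm
  exact mem_normalizer_of_cj_le h2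

/-- Let G be a finite group, p a prime and H a p-subgroup of G that is extremely closed (for every g, the subgroup generated by H and g H g⁻¹ meets N_G(H) exactly in H). Then every p-subgroup Q of G containing H has N_G(Q) ≤ N_G(H); in particular every Sylow p-subgroup P of G containing H normalizes H, and H is strongly closed in P with respect to G. -/
theorem result {G : Type*} [Group G] [Finite G] {p : ℕ} [Fact p.Prime] (H : Subgroup G) (hHp : IsPGroup p H) (hcl : Cfsg.IsExtremelyClosed H) : (∀ Q : Subgroup G, IsPGroup p Q → H ≤ Q → Subgroup.normalizer (Q : Set G) ≤ Subgroup.normalizer (H : Set G)) ∧ ∀ P : Sylow p G, H ≤ (P : Subgroup G) → (P : Subgroup G) ≤ Subgroup.normalizer (H : Set G) ∧ Cfsg.IsStronglyClosed H (P : Subgroup G) := by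
  refine ⟨fun Q hQ hHQ => normalizer_le H hcl Q hQ hHQ, ?_⟩
  intro P hHP
  have hPN : (P : Subgroup G) ≤ Subgroup.normalizer (H : Set G) :=
    Subgroup.le_normalizer.trans (normalizer_le H hcl P P.isPGroup' hHP)
  refine ⟨hPN, hHP, ?_⟩
  intro x hx g hgP
  have h1 : g * x * g⁻¹ ∈ H ⊔ cj g H := (le_sup_right : cj g H ≤ _) (conj_mem_cj hx)
  have h2 := hcl g
  have h3 : g * x * g⁻¹ ∈ (H ⊔ cj g H) ⊓ Subgroup.normalizer (H : Set G) := ⟨h1, hPN hgP⟩
  rw [h2] at h3
  exact h3

end Cfsg.Agent.S3021
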