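import Cfsg.Statements.S3020
import Cfsg.Agent.S3021
import Cfsg.Agent.Lib.H22.PPrimeCore

set_option autoImplicit false
open Cfsg

namespace Cfsg.Agent.S3020

open Cfsg.Agent.Lib.H15

theorem burnside_complement {T : Type*} [Group T] [Finite T] {p : ℕ} [Fact p.Prime] (P : Sylow p T)
    (hP : Subgroup.normalizer ((P : Subgroup T) : Set T) ≤ Subgroup.centralizer ((P : Subgroup T) : Set T)) :
    ∃ K : Subgroup T, K.Normal ∧ K ⊔ (P : Subgroup T) = ⊤ ∧ ¬ p ∣ Nat.card K := by
  refine ⟨(MonoidHom.transferSylow P hP).ker, inferInstance, ?_, ?_⟩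
  · exact (MonoidHom.ker_transferSylow_isComplement' P hP).sup_eq_top
  · exact MonoidHom.not_dvd_card_ker_transferSylow P hP

theorem main {T : Type*} [Group T] [Finite T] {p : ℕ} [Fact p.Prime] (P : Sylow p T)
    (hP : Subgroup.normalizer ((P : Subgroup T) : Set T) ≤ Subgroup.centralizer ((P : Subgroup T) : Set T)) :
    (P : Subgroup T) ⊔ Cfsg.pPrimeCore p T = ⊤ ∧ (P : Subgroup T) ⊓ Cfsg.pPrimeCore p T = ⊥ := by
  obtain ⟨K, hKn, hKP, hKc⟩ := burnside_complement P hP
  have hp : p.Prime := Fact.out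
  have hKO : K ≤ Cfsg.pPrimeCore p T := by
    apply Cfsg.Agent.Lib.H22.le_pPrimeCore p K hKn
    exact (Nat.Coprime.symm ((Nat.Prime.coprime_iff_not_dvd hp).mpr hKc))
  constructor
  · apply top_le_iff.mp
    rw [← hKP, sup_comm]
    exact sup_le_sup_left hKO _
  · apply Subgroup.inf_eq_bot_of_coprime
    have h1 := Cfsg.Agent.Lib.H22.card_pPrimeCore_coprime (G := T) p
    obtain ⟨n, hn⟩ := IsPGroup.iff_card.mp P.isPGroup'
    rw [hn]
    exact Nat.Coprime.pow_left n h1.symm

/-- Let G be a finite group, p a prime and H an abelian p-subgroup of G that is extremely closed (for every g, the subgroup generated by H and g H g⁻¹ meets N_G(H) exactly in H). Then for every g ∈ G, the subgroup T generated by H and g H g⁻¹ is the product of H with O_{p'}(T), and H meets O_{p'}(T) trivially; that is, O_{p'}(T) is a normal p-complement of H in T. -/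
theorem result {G : Type*} [Group G] [Finite G] {p : ℕ} [Fact p.Prime] (H : Subgroup G) (hHp : IsPGroup p H) (hHab : IsMulCommutative H) (hcl : Cfsg.IsExtremelyClosed H) (g : G) (T : Subgroup G) (hT : T = H ⊔ H.map (MulAut.conj g).toMonoidHom) : H ⊔ (Cfsg.pPrimeCore p ↥T).map T.subtype = T ∧ H ⊓ (Cfsg.pPrimeCore p ↥T).map T.subtype = ⊥ := by
  have hHT : H ≤ T := by rw [hT]; exact le_sup_left
  have hTdef : T = H ⊔ cj g H := hT
  -- H.subgroupOf T is a Sylow p-subgroup of T
  have hHTp : IsPGroup p ↥(H.subgroupOf T) := hHp.comap_subtype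
  obtain ⟨P, hP⟩ := hHTp.exists_le_sylow
  have hPG : IsPGroup p ↥((P : Subgroup ↥T).map T.subtype) := P.isPGroup'.map T.subtype
  have hHPG : H ≤ (P : Subgroup ↥T).map T.subtype := by
    intro x hx
    exact ⟨⟨x, hHT hx⟩, hP (Subgroup.mem_subgroupOf.mpr hx), rfl⟩
  have hPGN : (P : Subgroup ↥T).map T.subtype ≤ Subgroup.normalizer (H : Set G) :=
    Subgroup.le_normalizer.trans (Cfsg.Agent.S3021.normalizer_le H hcl _ hPG hHPG)
  have hPGT : (P : Subgroup ↥T).map T.subtype ≤ T := by
    rintro _ ⟨y, _, rfl⟩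
    exact y.2
  have hPGH : (P : Subgroup ↥T).map T.subtype ≤ H := by
    have h1 := hcl g
    rw [← hTdef] at h1
    rw [← h1]
    exact le_inf hPGT hPGN
  have hPeq : (P : Subgroup ↥T) = H.subgroupOf T := by
    apply le_antisymm _ hP
    intro y hy
    rw [Subgroup.mem_subgroupOf]
    exact hPGH ⟨y, hy, rfl⟩
  -- normalizer condition
  have hNC : Subgroup.normalizer ((P : Subgroup ↥T) : Set ↥T) ≤ Subgroup.centralizer ((P : Subgroup ↥T) : Set ↥T) := by
    rw [hPeq, ← Subgroup.subgroupOf_normalizer_eq hHT]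
    intro y hy
    rw [Subgroup.mem_subgroupOf] at hy
    have hyH : (y : G) ∈ H := by
      have h1 := hcl g
      rw [← hTdef] at h1
      rw [← h1]
      exact ⟨y.2, hy⟩
    rw [Subgroup.mem_centralizer_iff]
    intro z hz
    have hzH : (z : G) ∈ H := Subgroup.mem_subgroupOf.mp hz
    apply Subtype.ext
    have := setLike_mul_comm hzH hyH
    simpa using this
  obtain ⟨h1, h2⟩ := main P hNC
  rw [hPeq] at h1 h2
  have hmapH : (H.subgroupOf T).map T.subtype = H := by
    rw [Subgroup.subgroupOf_map_subtype]; exact inf_eq_left.mpr hHT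
  constructor
  · have := congrArg (Subgroup.map T.subtype) h1
    rw [Subgroup.map_sup, hmapH] at this
    rw [this, ← MonoidHom.range_eq_map, Subgroup.range_subtype]
  · have := congrArg (Subgroup.map T.subtype) h2
    rw [Subgroup.map_inf _ _ _ T.subtype_injective, hmapH, Subgroup.map_bot] at this
    exact this

end Cfsg.Agent.S3020
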