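import Cfsg.Statements.S0752
import Mathlib

set_option autoImplicit false
open Cfsg

namespace Cfsg.Agent.S0752

universe u v

theorem core {F : Type v} [Field F] (n : ℕ) : ∀ (V : Type u) [AddCommGroup V] [Module F V]
    [FiniteDimensional F V] (B : LinearMap.BilinForm F V), B.IsAlt → Module.finrank F V = n →
    ∃ (m k : ℕ) (e f : Fin m → V) (r : Fin k → V),
      (∀ i j, B (e i) (f j) = if i = j then 1 else 0) ∧ (∀ i j, B (e i) (e j) = 0) ∧
      (∀ i j, B (f i) (f j) = 0) ∧ (∀ j w, B (r j) w = 0) ∧ m + m + k = n ∧
      ⊤ ≤ Submodule.span F (Set.range (Sum.elim (Sum.elim e f) r)) := by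
  induction n using Nat.strong_induction_on with
  | _ n IH =>
    intro V _ _ _ B hA hn
    by_cases hB : B = 0
    · -- zero form
      refine ⟨0, n, Fin.elim0, Fin.elim0, fun j => Module.finBasis F V (Fin.cast hn.symm j),
        fun i => i.elim0, fun i => i.elim0, fun i => i.elim0, ?_, by omega, ?_⟩
      · intro j w; rw [hB]; rfl
      · rw [← (Module.finBasis F V).span_eq]
        apply Submodule.span_mono
        rintro _ ⟨j, rfl⟩
        exact ⟨Sum.inr (Fin.cast hn j), by simp⟩
    · -- nonzero: hyperbolic pair
      have : ∃ u v, B u v ≠ 0 := by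
        by_contra hcon
        push Not at hcon
        apply hB
        ext u v
        exact hcon u v
      obtain ⟨u₀, v, huv⟩ := this
      obtain ⟨u, hu⟩ : ∃ u : V, u = (B u₀ v)⁻¹ • u₀ := ⟨_, rfl⟩
      have huv1 : B u v = 1 := by
        rw [hu, map_smul, LinearMap.smul_apply, smul_eq_mul, inv_mul_cancel₀ huv]
      have hvu : B v u = -1 := by
        rw [← hA.neg_eq, huv1]
      have huu : B u u = 0 := hA u
      have hvv : B v v = 0 := hA v
      let W : Submodule F V := LinearMap.ker (B u) ⊓ LinearMap.ker (B v)
      have hWmem : ∀ x : V, x ∈ W ↔ B u x = 0 ∧ B v x = 0 := by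
        intro x
        simp only [W, Submodule.mem_inf, LinearMap.mem_ker]
      -- dimension of W
      let φ : V →ₗ[F] F × F := (B u).prod (B v)
      have hker : LinearMap.ker φ = W := by
        ext x
        rw [hWmem]
        simp [φ, LinearMap.mem_ker, Prod.ext_iff]
      have hrange : LinearMap.range φ = ⊤ := by
        rw [LinearMap.range_eq_top]
        rintro ⟨a, b⟩
        refine ⟨a • v - b • u, ?_⟩
        ext
        · simp [φ, huv1, huu]
        · simp [φ, hvv, hvu]
      have hdim : Module.finrank F W + 2 = n := by
        have h1 := LinearMap.finrank_range_add_finrank_ker φ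
        rw [hrange, hker, finrank_top, Module.finrank_prod, Module.finrank_self, hn] at h1
        omega
      have hWlt : Module.finrank F W < n := by omega
      obtain ⟨m', k, e', f', r', hef, hee, hff, hr, hcount, hspan⟩ :=
        IH (Module.finrank F W) hWlt W (B.restrict W) (fun x => hA x) rfl
      -- decomposition of any x
      have hdecomp : ∀ x : V, x - B x v • u + B x u • v ∈ W := by
        intro x
        rw [hWmem]
        constructor
        · rw [map_add, map_sub, map_smul, map_smul, huu, huv1, smul_eq_mul, smul_eq_mul,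
            mul_zero, mul_one, sub_zero, ← hA.neg_eq x u]
          ring
        · rw [map_add, map_sub, map_smul, map_smul, hvu, hvv, smul_eq_mul, smul_eq_mul,
            mul_zero, add_zero, ← hA.neg_eq x v]
          ring
      have hWu : ∀ w : W, B u w = 0 := fun w => ((hWmem w).mp w.2).1
      have hWv : ∀ w : W, B v w = 0 := fun w => ((hWmem w).mp w.2).2
      have hWu' : ∀ w : W, B w u = 0 := fun w => by rw [← neg_eq_zero, hA.neg_eq, hWu]
      have hWv' : ∀ w : W, B w v = 0 := fun w => by rw [← neg_eq_zero, hA.neg_eq, hWv]
      refine ⟨m' + 1, k, Fin.cons u (fun i => (e' i : V)), Fin.cons v (fun i => (f' i : V)),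
        fun j => (r' j : V), ?_, ?_, ?_, ?_, by omega, ?_⟩
      · intro i j
        refine Fin.cases ?_ (fun i => ?_) i <;> refine Fin.cases ?_ (fun j => ?_) j
        · simp [huv1]
        · simp only [Fin.cons_zero, Fin.cons_succ]
          rw [hWu, if_neg (Fin.succ_ne_zero j).symm]
        · simp only [Fin.cons_zero, Fin.cons_succ]
          rw [hWv', if_neg (Fin.succ_ne_zero i)]
        · simp only [Fin.cons_succ]
          have : B (e' i : V) (f' j : V) = if i = j then 1 else 0 := hef i j
          rw [this]
          simp [Fin.succ_inj]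
      · intro i j
        refine Fin.cases ?_ (fun i => ?_) i <;> refine Fin.cases ?_ (fun j => ?_) j
        · simp [huu]
        · simp only [Fin.cons_zero, Fin.cons_succ]; exact hWu _
        · simp only [Fin.cons_zero, Fin.cons_succ]; exact hWu' _
        · simp only [Fin.cons_succ]
          exact hee i j
      · intro i j
        refine Fin.cases ?_ (fun i => ?_) i <;> refine Fin.cases ?_ (fun j => ?_) j
        · simp [hvv]
        · simp only [Fin.cons_zero, Fin.cons_succ]; exact hWv _
        · simp only [Fin.cons_zero, Fin.cons_succ]; exact hWv' _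
        · simp only [Fin.cons_succ]
          exact hff i j
      · intro j x
        have hx : x = (x - B x v • u + B x u • v) + B x v • u - B x u • v := by abel
        rw [hx, map_sub, map_add, map_smul, map_smul, hWu', hWv', smul_zero, smul_zero, add_zero,
          sub_zero]
        exact hr j ⟨_, hdecomp x⟩
      · -- spanning
        set fam : (Fin (m' + 1) ⊕ Fin (m' + 1)) ⊕ Fin k → V :=
          Sum.elim (Sum.elim (Fin.cons u (fun i => (e' i : V))) (Fin.cons v (fun i => (f' i : V))))
            (fun j => (r' j : V)) with hfam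
        have hu_mem : u ∈ Submodule.span F (Set.range fam) :=
          Submodule.subset_span ⟨Sum.inl (Sum.inl 0), by simp [hfam]⟩
        have hv_mem : v ∈ Submodule.span F (Set.range fam) :=
          Submodule.subset_span ⟨Sum.inl (Sum.inr 0), by simp [hfam]⟩
        have hW_mem : ∀ w : W, (w : V) ∈ Submodule.span F (Set.range fam) := by
          intro w
          have h1 : w ∈ Submodule.span F (Set.range (Sum.elim (Sum.elim e' f') r')) := hspan trivial
          have h2 : (w : V) ∈ (Submodule.span F (Set.range (Sum.elim (Sum.elim e' f') r'))).map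
              W.subtype := ⟨w, h1, rfl⟩
          rw [Submodule.map_span] at h2
          refine Submodule.span_mono ?_ h2
          rintro _ ⟨_, ⟨i, rfl⟩, rfl⟩
          rcases i with (i | i) | j
          · exact ⟨Sum.inl (Sum.inl i.succ), by simp [hfam]⟩
          · exact ⟨Sum.inl (Sum.inr i.succ), by simp [hfam]⟩
          · exact ⟨Sum.inr j, by simp [hfam]⟩
        intro x _
        have hx : x = (x - B x v • u + B x u • v) + B x v • u - B x u • v := by abel
        rw [hx]
        refine Submodule.sub_mem _ (Submodule.add_mem _ (hW_mem ⟨_, hdecomp x⟩) ?_) ?_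
        · exact Submodule.smul_mem _ _ hu_mem
        · exact Submodule.smul_mem _ _ hv_mem

/-- Classification of alternating forms: for an alternating bilinear form B on a finite-dimensional space over any field there is a basis indexed by (Fin m ⊕ Fin m) ⊕ Fin k such that B (e_i, f_j) = δ_ij, the e's are pairwise orthogonal, the f's are pairwise orthogonal, and the last k basis vectors are orthogonal to everything (they span the radical). -/
theorem result {F V : Type*} [Field F] [AddCommGroup V] [Module F V] [FiniteDimensional F V] (B : LinearMap.BilinForm F V) (hA : B.IsAlt) : ∃ (m k : ℕ) (b : Module.Basis ((Fin m ⊕ Fin m) ⊕ Fin k) F V), (∀ i j : Fin m, B (b (Sum.inl (Sum.inl i))) (b (Sum.inl (Sum.inr j))) = if i = j then 1 else 0) ∧ (∀ i j : Fin m, B (b (Sum.inl (Sum.inl i))) (b (Sum.inl (Sum.inl j))) = 0) ∧ (∀ i j : Fin m, B (b (Sum.inl (Sum.inr i))) (b (Sum.inl (Sum.inr j))) = 0) ∧ (∀ (j : Fin k) (v : V), B (b (Sum.inr j)) v = 0) := by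
  obtain ⟨m, k, e, f, r, hef, hee, hff, hr, hcount, hspan⟩ :=
    core (Module.finrank F V) V B hA rfl
  have hcard : Fintype.card ((Fin m ⊕ Fin m) ⊕ Fin k) = Module.finrank F V := by
    simp [hcount]
  refine ⟨m, k, basisOfTopLeSpanOfCardEqFinrank _ hspan hcard, ?_, ?_, ?_, ?_⟩
  · intro i j
    rw [coe_basisOfTopLeSpanOfCardEqFinrank]
    exact hef i j
  · intro i j
    rw [coe_basisOfTopLeSpanOfCardEqFinrank]
    exact hee i j
  · intro i j
    rw [coe_basisOfTopLeSpanOfCardEqFinrank]
    exact hff i j
  · intro j w
    rw [coe_basisOfTopLeSpanOfCardEqFinrank]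
    exact hr j w

end Cfsg.Agent.S0752
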