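import Cfsg.Statements.S0837
import Cfsg.Agent.Lib.H4.Herm
import Cfsg.Agent.S0755
-- import your own Cfsg.Agent.* helpers here

set_option autoImplicit false
open Cfsg

namespace Cfsg.Agent.S0837

open Matrix Module
open scoped MatrixGroups

variable {F : Type*} [Field F] (φ : F →+* F)

/-- unitary matrix w.r.t. `φ` -/
def IsU {ι : Type*} [Fintype ι] [DecidableEq ι] (M : Matrix ι ι F) : Prop :=
  Mᵀ * M.map φ = 1

/-- the form `u ⬝ φ(v)` -/
def hf {ι : Type*} [Fintype ι] (u v : ι → F) : F := u ⬝ᵥ (fun i => φ (v i))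

theorem hf_mulVec {ι κ : Type*} [Fintype ι] [Fintype κ] (M : Matrix ι κ F) (u v : κ → F) :
    hf φ (M *ᵥ u) (M *ᵥ v) = u ⬝ᵥ ((Mᵀ * M.map φ) *ᵥ (fun i => φ (v i))) := by
  have h1 : (fun i => φ ((M *ᵥ v) i)) = M.map φ *ᵥ (fun j => φ (v j)) := by
    funext i
    rw [RingHom.map_mulVec]
    rfl
  rw [hf, h1, ← Matrix.mulVec_mulVec, Matrix.dotProduct_mulVec u, Matrix.vecMul_transpose]

theorem isU_iff {ι : Type*} [Fintype ι] [DecidableEq ι] (M : Matrix ι ι F) :
    IsU φ M ↔ ∀ u v, hf φ (M *ᵥ u) (M *ᵥ v) = hf φ u v := by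
  constructor
  · intro h u v
    rw [hf_mulVec, h, Matrix.one_mulVec]; rfl
  · intro h
    ext i j
    have := h (Pi.single i 1) (Pi.single j 1)
    rw [hf_mulVec] at this
    have e : (fun k => φ ((Pi.single j (1:F) : ι → F) k)) = Pi.single j 1 := by
      funext k
      by_cases hk : k = j
      · subst hk; simp
      · simp [Pi.single_eq_of_ne hk]
    rw [hf, e, Matrix.mulVec_single_one, single_one_dotProduct, single_one_dotProduct] at this
    rw [Matrix.one_apply]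
    simp only [Matrix.col_apply] at this
    rw [this, Pi.single_apply]

section conj
variable {n k l : ℕ} (P : Matrix (Fin n) (Fin k ⊕ Fin l) F) (Q : Matrix (Fin k ⊕ Fin l) (Fin n) F)

theorem Qmap (h1 : P * Q = 1) (hP : Pᵀ * P.map φ = 1) : Q.map φ = Pᵀ := by
  have h3 : P.map φ * Q.map φ = 1 := by
    rw [← Matrix.map_mul, h1, Matrix.map_one _ (map_zero φ) (map_one φ)]
  calc Q.map φ = (Pᵀ * P.map φ) * Q.map φ := by rw [hP, Matrix.one_mul]
    _ = Pᵀ * (P.map φ * Q.map φ) := by rw [Matrix.mul_assoc]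
    _ = Pᵀ := by rw [h3, Matrix.mul_one]

theorem hQ (h1 : P * Q = 1) (hP : Pᵀ * P.map φ = 1) : Qᵀ * Q.map φ = 1 := by
  rw [Qmap φ P Q h1 hP, ← Matrix.transpose_mul, h1, Matrix.transpose_one]

theorem conj_isU (h1 : P * Q = 1) (hP : Pᵀ * P.map φ = 1)
    (X : Matrix (Fin k ⊕ Fin l) (Fin k ⊕ Fin l) F) (hX : IsU φ X) : IsU φ (P * X * Q) := by
  unfold IsU at hX ⊢
  rw [Matrix.map_mul, Matrix.map_mul, Matrix.transpose_mul, Matrix.transpose_mul]
  calc Qᵀ * (Xᵀ * Pᵀ) * (P.map φ * X.map φ * Q.map φ)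
      = Qᵀ * (Xᵀ * (Pᵀ * P.map φ) * X.map φ) * Q.map φ := by simp only [Matrix.mul_assoc]
    _ = 1 := by rw [hP, Matrix.mul_one, hX, Matrix.mul_one, hQ φ P Q h1 hP]

theorem conj_isU' (h1 : P * Q = 1) (hP : Pᵀ * P.map φ = 1)
    (g : Matrix (Fin n) (Fin n) F) (hg : IsU φ g) : IsU φ (Q * g * P) := by
  unfold IsU at hg ⊢
  rw [Matrix.map_mul, Matrix.map_mul, Matrix.transpose_mul, Matrix.transpose_mul]
  calc Pᵀ * (gᵀ * Qᵀ) * (Q.map φ * g.map φ * P.map φ)
      = Pᵀ * (gᵀ * (Qᵀ * Q.map φ) * g.map φ) * P.map φ := by simp only [Matrix.mul_assoc]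
    _ = 1 := by rw [hQ φ P Q h1 hP, Matrix.mul_one, hg, Matrix.mul_one, hP]

end conj

theorem blocks_isU {k l : ℕ} (A : Matrix (Fin k) (Fin k) F) (D : Matrix (Fin l) (Fin l) F) :
    IsU φ (fromBlocks A 0 0 D) ↔ IsU φ A ∧ IsU φ D := by
  unfold IsU
  rw [fromBlocks_map, fromBlocks_transpose, fromBlocks_multiply, ← fromBlocks_one,
    Matrix.fromBlocks_inj]
  simp

theorem upper_isU {k l : ℕ} (A : Matrix (Fin k) (Fin k) F) (B : Matrix (Fin k) (Fin l) F)
    (D : Matrix (Fin l) (Fin l) F) (h : IsU φ (fromBlocks A B 0 D)) :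
    IsU φ A ∧ B = 0 ∧ IsU φ D := by
  unfold IsU at h
  rw [fromBlocks_map, fromBlocks_transpose, fromBlocks_multiply, ← fromBlocks_one,
    Matrix.fromBlocks_inj] at h
  simp only [Matrix.map_zero _ (map_zero φ), transpose_zero, Matrix.zero_mul, Matrix.mul_zero,
    add_zero] at h
  obtain ⟨hA, hAB, -, hBD⟩ := h
  have hA' : A.map φ * Aᵀ = 1 := mul_eq_one_comm.1 hA
  have hBφ : B.map φ = 0 := by
    calc B.map φ = (A.map φ * Aᵀ) * B.map φ := by rw [hA', Matrix.one_mul]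
      _ = A.map φ * (Aᵀ * B.map φ) := by rw [Matrix.mul_assoc]
      _ = 0 := by rw [hAB, Matrix.mul_zero]
  have hB : B = 0 := by
    ext i j
    have := congrFun (congrFun hBφ i) j
    simpa using this
  subst hB
  refine ⟨hA, rfl, ?_⟩
  simpa [IsU, Matrix.map_zero _ (map_zero φ)] using hBD

section grp
variable {q : ℕ} (hφ : ∀ x, φ x = x ^ q)
include hφ

theorem hermForm_eq_hf {n : ℕ} (u v : Fin n → F) : Cfsg.hermForm n F q u v = hf φ u v := by
  simp only [Cfsg.hermForm, hf, dotProduct, hφ]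

theorem mem_GU_iff' {n : ℕ} (g : GL (Fin n) F) :
    g ∈ Cfsg.GU n F q ↔ IsU φ (g : Matrix (Fin n) (Fin n) F) := by
  rw [isU_iff]
  constructor
  · intro h u v
    rw [← hermForm_eq_hf φ hφ, ← hermForm_eq_hf φ hφ]
    exact h u v
  · intro h u v
    show Cfsg.hermForm n F q ((g : Matrix (Fin n) (Fin n) F) *ᵥ u)
      ((g : Matrix (Fin n) (Fin n) F) *ᵥ v) = Cfsg.hermForm n F q u v
    rw [hermForm_eq_hf φ hφ, hermForm_eq_hf φ hφ]
    exact h u v

end grp

/-- conjugation `X ↦ P X Q` as a monoid hom -/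
def conjHom {n k l : ℕ} (P : Matrix (Fin n) (Fin k ⊕ Fin l) F) (Q : Matrix (Fin k ⊕ Fin l) (Fin n) F)
    (h1 : P * Q = 1) (h2 : Q * P = 1) :
    Matrix (Fin k ⊕ Fin l) (Fin k ⊕ Fin l) F →* Matrix (Fin n) (Fin n) F where
  toFun X := P * X * Q
  map_one' := by rw [Matrix.mul_one, h1]
  map_mul' X Y := by
    calc P * (X * Y) * Q = P * X * (Q * P) * Y * Q := by rw [h2]; simp only [Matrix.mul_assoc, Matrix.one_mul]
      _ = P * X * Q * (P * Y * Q) := by simp only [Matrix.mul_assoc]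

/-- block diagonal embedding as a monoid hom -/
def blockHom (k l : ℕ) :
    Matrix (Fin k) (Fin k) F × Matrix (Fin l) (Fin l) F →*
      Matrix (Fin k ⊕ Fin l) (Fin k ⊕ Fin l) F where
  toFun x := fromBlocks x.1 0 0 x.2
  map_one' := fromBlocks_one
  map_mul' x y := by simp [fromBlocks_multiply]

/-- the combined hom on GL -/
def Psi0 {n k l : ℕ} (P : Matrix (Fin n) (Fin k ⊕ Fin l) F) (Q : Matrix (Fin k ⊕ Fin l) (Fin n) F)
    (h1 : P * Q = 1) (h2 : Q * P = 1) : GL (Fin k) F × GL (Fin l) F →* GL (Fin n) F :=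
  (Units.map ((conjHom P Q h1 h2).comp (blockHom k l))).comp
    (MulEquiv.prodUnits.symm.toMonoidHom)

theorem Psi0_val {n k l : ℕ} (P : Matrix (Fin n) (Fin k ⊕ Fin l) F)
    (Q : Matrix (Fin k ⊕ Fin l) (Fin n) F) (h1 : P * Q = 1) (h2 : Q * P = 1)
    (x : GL (Fin k) F × GL (Fin l) F) :
    ((Psi0 P Q h1 h2 x : GL (Fin n) F) : Matrix (Fin n) (Fin n) F) =
      P * fromBlocks (x.1 : Matrix (Fin k) (Fin k) F) 0 0 (x.2 : Matrix (Fin l) (Fin l) F) * Q :=
  rfl

theorem stab_equiv_U {q : ℕ} (hφ : ∀ x, φ x = x ^ q) {n k l : ℕ}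
    (P : Matrix (Fin n) (Fin k ⊕ Fin l) F) (Q : Matrix (Fin k ⊕ Fin l) (Fin n) F)
    (h1 : P * Q = 1) (h2 : Q * P = 1) (hP : Pᵀ * P.map φ = 1)
    (S : Set (Fin n → F)) (hS : ∀ v, v ∈ S ↔ ∀ j, (Q *ᵥ v) (Sum.inr j) = 0) :
    Nonempty (↥((Cfsg.stabilizing (Cfsg.glToMat (Fin n) F) S).subgroupOf (Cfsg.GU n F q)) ≃*
      ↥(Cfsg.GU k F q) × ↥(Cfsg.GU l F q)) := by
  -- membership in GU
  have hmemGU : ∀ x : ↥(Cfsg.GU k F q) × ↥(Cfsg.GU l F q),
      Psi0 P Q h1 h2 ((x.1 : GL (Fin k) F), (x.2 : GL (Fin l) F)) ∈ Cfsg.GU n F q := by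
    intro x
    rw [mem_GU_iff' φ hφ, Psi0_val]
    apply conj_isU φ P Q h1 hP
    rw [blocks_isU]
    exact ⟨(mem_GU_iff' φ hφ _).1 x.1.2, (mem_GU_iff' φ hφ _).1 x.2.2⟩
  have hmemS : ∀ x : ↥(Cfsg.GU k F q) × ↥(Cfsg.GU l F q),
      Psi0 P Q h1 h2 ((x.1 : GL (Fin k) F), (x.2 : GL (Fin l) F)) ∈
        Cfsg.stabilizing (Cfsg.glToMat (Fin n) F) S := by
    intro x v
    show v ∈ S ↔ ((Psi0 P Q h1 h2 ((x.1 : GL (Fin k) F), (x.2 : GL (Fin l) F)) : GL (Fin n) F) :
      Matrix (Fin n) (Fin n) F) *ᵥ v ∈ S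
    rw [Psi0_val, hS, hS]
    obtain ⟨A, D⟩ := x
    simp only
    have : Q *ᵥ ((P * fromBlocks (A.1 : Matrix (Fin k) (Fin k) F) 0 0
        (D.1 : Matrix (Fin l) (Fin l) F) * Q) *ᵥ v) =
        fromBlocks (A.1 : Matrix (Fin k) (Fin k) F) 0 0 (D.1 : Matrix (Fin l) (Fin l) F) *ᵥ
          (Q *ᵥ v) := by
      rw [Matrix.mulVec_mulVec, Matrix.mulVec_mulVec]; congr 1
      rw [← Matrix.mul_assoc, ← Matrix.mul_assoc, h2, Matrix.one_mul]
    rw [this, Matrix.fromBlocks_mulVec]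
    simp only [Sum.elim_inr, Matrix.zero_mulVec, zero_add]
    have hinv : ((D.1⁻¹ : GL (Fin l) F) : Matrix (Fin l) (Fin l) F) *
        (D.1 : Matrix (Fin l) (Fin l) F) = 1 := by
      rw [← Units.val_mul, inv_mul_cancel, Units.val_one]
    constructor
    · intro h j
      have h0 : (Q *ᵥ v) ∘ Sum.inr = 0 := funext h
      rw [h0, Matrix.mulVec_zero]; rfl
    · intro h
      have h0 : (D.1 : Matrix (Fin l) (Fin l) F) *ᵥ ((Q *ᵥ v) ∘ Sum.inr) = 0 := funext h
      have h3 : (Q *ᵥ v) ∘ Sum.inr = ((D.1⁻¹ : GL (Fin l) F) : Matrix (Fin l) (Fin l) F) *ᵥ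
          ((D.1 : Matrix (Fin l) (Fin l) F) *ᵥ ((Q *ᵥ v) ∘ Sum.inr)) := by
        rw [Matrix.mulVec_mulVec, hinv, Matrix.one_mulVec]
      intro j
      have := congrFun h3 j
      rw [h0, Matrix.mulVec_zero] at this
      exact this
  -- the hom
  let ψ₁ : ↥(Cfsg.GU k F q) × ↥(Cfsg.GU l F q) →* ↥(Cfsg.GU n F q) :=
    ((Psi0 P Q h1 h2).comp (MonoidHom.prodMap (Cfsg.GU k F q).subtype
      (Cfsg.GU l F q).subtype)).codRestrict (Cfsg.GU n F q) hmemGU
  let ψ : ↥(Cfsg.GU k F q) × ↥(Cfsg.GU l F q) →*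
      ↥((Cfsg.stabilizing (Cfsg.glToMat (Fin n) F) S).subgroupOf (Cfsg.GU n F q)) :=
    ψ₁.codRestrict _ (fun x => by
      rw [Subgroup.mem_subgroupOf]
      exact hmemS x)
  have hψval : ∀ x, (((ψ x : ↥(Cfsg.GU n F q)) : GL (Fin n) F) : Matrix (Fin n) (Fin n) F) =
      P * fromBlocks ((x.1 : GL (Fin k) F) : Matrix (Fin k) (Fin k) F) 0 0
        ((x.2 : GL (Fin l) F) : Matrix (Fin l) (Fin l) F) * Q := fun x => rfl
  have hcancel : ∀ X Y : Matrix (Fin k ⊕ Fin l) (Fin k ⊕ Fin l) F,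
      P * X * Q = P * Y * Q → X = Y := by
    intro X Y h
    calc X = (Q * P) * X * (Q * P) := by rw [h2]; simp
      _ = Q * (P * X * Q) * P := by simp only [Matrix.mul_assoc]
      _ = Q * (P * Y * Q) * P := by rw [h]
      _ = (Q * P) * Y * (Q * P) := by simp only [Matrix.mul_assoc]
      _ = Y := by rw [h2]; simp
  have hinj : Function.Injective ψ := by
    intro x y hxy
    have h := congrArg (fun z : ↥((Cfsg.stabilizing (Cfsg.glToMat (Fin n) F) S).subgroupOf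
      (Cfsg.GU n F q)) => (((z : ↥(Cfsg.GU n F q)) : GL (Fin n) F) : Matrix (Fin n) (Fin n) F)) hxy
    simp only [hψval] at h
    have h' := hcancel _ _ h
    rw [Matrix.fromBlocks_inj] at h'
    exact Prod.ext (Subtype.ext (Units.ext h'.1)) (Subtype.ext (Units.ext h'.2.2.2))
  have hsurj : Function.Surjective ψ := by
    rintro ⟨⟨g, hgU⟩, hgS⟩
    rw [Subgroup.mem_subgroupOf] at hgS
    have hgS' : ∀ v, v ∈ S ↔ (g : Matrix (Fin n) (Fin n) F) *ᵥ v ∈ S := hgS
    have hgU' := (mem_GU_iff' φ hφ g).1 hgU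
    have hX := conj_isU' φ P Q h1 hP _ hgU'
    obtain ⟨X, hXdef⟩ : ∃ X, X = Q * (g : Matrix (Fin n) (Fin n) F) * P := ⟨_, rfl⟩
    rw [← hXdef] at hX
    obtain ⟨A, hAdef⟩ : ∃ A, A = X.toBlocks₁₁ := ⟨_, rfl⟩
    obtain ⟨B, hBdef⟩ : ∃ B, B = X.toBlocks₁₂ := ⟨_, rfl⟩
    obtain ⟨C, hCdef⟩ : ∃ C, C = X.toBlocks₂₁ := ⟨_, rfl⟩
    obtain ⟨D, hDdef⟩ : ∃ D, D = X.toBlocks₂₂ := ⟨_, rfl⟩
    have hXb : X = fromBlocks A B C D := by
      rw [hAdef, hBdef, hCdef, hDdef, fromBlocks_toBlocks]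
    have hgX : (g : Matrix (Fin n) (Fin n) F) = P * X * Q := by
      rw [hXdef]
      calc (g : Matrix (Fin n) (Fin n) F)
          = (P * Q) * (g : Matrix (Fin n) (Fin n) F) * (P * Q) := by rw [h1]; simp
        _ = _ := by simp only [Matrix.mul_assoc]
    have hC : C = 0 := by
      ext i j
      have hv : P *ᵥ (Pi.single (Sum.inl j) 1) ∈ S := by
        rw [hS]
        intro j'
        rw [Matrix.mulVec_mulVec, h2, Matrix.one_mulVec]
        simp
      have hgv := (hgS' _).1 hv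
      rw [hS] at hgv
      have := hgv i
      rw [Matrix.mulVec_mulVec, Matrix.mulVec_mulVec, ← hXdef,
        Matrix.mulVec_single_one, hXb] at this
      simpa using this
    subst hC
    rw [hXb] at hX
    obtain ⟨hA, hB, hD⟩ := upper_isU φ A B D hX
    subst hB
    have hAdet : A.det ≠ 0 := by
      intro h0
      have := congrArg Matrix.det hA
      rw [Matrix.det_mul, Matrix.det_transpose, h0, zero_mul, Matrix.det_one] at this
      exact zero_ne_one this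
    have hDdet : D.det ≠ 0 := by
      intro h0
      have := congrArg Matrix.det hD
      rw [Matrix.det_mul, Matrix.det_transpose, h0, zero_mul, Matrix.det_one] at this
      exact zero_ne_one this
    refine ⟨(⟨Matrix.GeneralLinearGroup.mkOfDetNeZero A hAdet, (mem_GU_iff' φ hφ _).2 hA⟩,
      ⟨Matrix.GeneralLinearGroup.mkOfDetNeZero D hDdet, (mem_GU_iff' φ hφ _).2 hD⟩), ?_⟩
    apply Subtype.ext; apply Subtype.ext; apply Units.ext
    rw [hψval]
    show P * fromBlocks A 0 0 D * Q = (g : Matrix (Fin n) (Fin n) F)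
    rw [hgX, hXb]
  exact ⟨(MulEquiv.ofBijective ψ ⟨hinj, hsurj⟩).symm⟩


/-- the sesquilinear form `B u v = Σ v_i φ(u_i)` -/
def Bs (n : ℕ) : (Fin n → F) →ₛₗ[φ] (Fin n → F) →ₗ[F] F :=
  LinearMap.mk₂'ₛₗ φ (RingHom.id F) (fun u v => ∑ i, v i * φ (u i))
    (fun u u' v => by simp [mul_add, Finset.sum_add_distrib])
    (fun c u v => by simp [Finset.mul_sum, mul_left_comm])
    (fun u v v' => by simp [add_mul, Finset.sum_add_distrib])
    (fun c u v => by simp [Finset.mul_sum, mul_assoc])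

theorem Bs_apply (n : ℕ) (u v : Fin n → F) : Bs φ n u v = ∑ i, v i * φ (u i) := rfl

theorem Bs_symm (hφ2 : ∀ x, φ (φ x) = x) (n : ℕ) : (Bs φ n).IsSymm := by
  refine ⟨fun u v => ?_⟩
  rw [Bs_apply, Bs_apply, map_sum]
  refine Finset.sum_congr rfl fun i _ => ?_
  rw [map_mul, hφ2, mul_comm]

theorem Bs_nondeg (n : ℕ) : (Bs φ n).Nondegenerate := by
  constructor
  · intro u hu
    funext i
    have := hu (Pi.single i 1)
    rw [Bs_apply] at this
    simp only [Pi.single_apply, ite_mul, one_mul, zero_mul, Finset.sum_ite_eq',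
      Finset.mem_univ, if_true] at this
    exact (map_eq_zero φ).1 this
  · intro v hv
    funext i
    have := hv (Pi.single i 1)
    rw [Bs_apply] at this
    have e : ∀ j, φ ((Pi.single i (1:F) : Fin n → F) j) = if j = i then 1 else 0 := by
      intro j
      rw [Pi.single_apply]
      split_ifs <;> simp
    simp only [e, mul_ite, mul_one, mul_zero, Finset.sum_ite_eq', Finset.mem_univ,
      if_true] at this
    exact this

theorem phi_ne_id [Fintype F] {q : ℕ} (hF : Fintype.card F = q ^ 2) (hφ : ∀ x, φ x = x ^ q) :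
    φ ≠ RingHom.id F := by
  classical
  intro h
  have hq2 : 2 ≤ q := by
    have h1 : 1 < Fintype.card F := Fintype.one_lt_card
    rw [hF] at h1
    by_contra hlt
    have : q ≤ 1 := by omega
    have : q ^ 2 ≤ 1 := by
      calc q ^ 2 ≤ 1 ^ 2 := Nat.pow_le_pow_left this 2
        _ = 1 := one_pow 2
    omega
  obtain ⟨ζ, hζ⟩ := IsCyclic.exists_generator (α := Fˣ)
  have hord : orderOf ζ = q ^ 2 - 1 := by
    rw [orderOf_eq_card_of_forall_mem_zpowers hζ, Nat.card_eq_fintype_card, Fintype.card_units, hF]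
  have h1 : (ζ : F) ^ q = ζ := by
    rw [← hφ, h]; rfl
  have h2 : ζ ^ (q - 1) = 1 := by
    apply Units.ext
    rw [Units.val_pow_eq_pow_val, Units.val_one]
    have h3 : (ζ : F) ^ (q - 1) * ζ = 1 * ζ := by
      rw [← pow_succ, Nat.sub_add_cancel (by omega), h1, one_mul]
    exact mul_right_cancel₀ ζ.ne_zero h3
  have h3 := orderOf_dvd_of_pow_eq_one h2
  rw [hord] at h3
  have h4 := Nat.le_of_dvd (by omega) h3
  have h5 : 2 * q ≤ q ^ 2 := by nlinarith
  omega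

/-- If W ≤ F^n (|F| = q²) is a k-dimensional subspace on which the Hermitian form Σ x_i y_i^q is non-degenerate, then the stabiliser of W in GU_n(q) is isomorphic to GU_k(q) × GU_(n−k)(q). -/
theorem result {F : Type*} [Field F] [Fintype F] {q : ℕ} (hF : Fintype.card F = q ^ 2) (n k : ℕ) (hk : k ≤ n) (W : Submodule F (Fin n → F)) (hWk : Module.finrank F W = k) (hW : ∀ u ∈ W, (∀ v ∈ W, Cfsg.hermForm n F q u v = 0) → u = 0) : Nonempty (↥((Cfsg.stabilizing (Cfsg.glToMat (Fin n) F) (W : Set (Fin n → F))).subgroupOf (Cfsg.GU n F q)) ≃* ↥(Cfsg.GU k F q) × ↥(Cfsg.GU (n - k) F q)) := by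
  classical
  obtain ⟨φ, hφ, hφ2⟩ := Cfsg.Agent.Lib.H4.exists_frob hF
  have hφne := phi_ne_id φ hF hφ
  obtain ⟨B, hBdef⟩ : ∃ B : (Fin n → F) →ₛₗ[φ] (Fin n → F) →ₗ[F] F, B = Bs φ n := ⟨_, rfl⟩
  have hBapp : ∀ u v, B u v = Cfsg.hermForm n F q v u := by
    intro u v
    rw [hBdef, Bs_apply, Cfsg.hermForm]
    simp only [hφ]
  have hBS : B.IsSymm := hBdef ▸ Bs_symm φ hφ2 n
  have hBnd : B.Nondegenerate := hBdef ▸ Bs_nondeg φ n
  -- restriction to W
  obtain ⟨BW, hBW⟩ : ∃ BW : W →ₛₗ[φ] W →ₗ[F] F, BW = B.domRestrict₁₂ W W := ⟨_, rfl⟩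
  have hBWapp : ∀ u v : W, BW u v = B u v := fun u v => by rw [hBW]; rfl
  have hBWS : BW.IsSymm := ⟨fun u v => by rw [hBWapp, hBWapp, hBS.eq]⟩
  have hWsep : ∀ u : W, (∀ v : W, BW u v = 0) → u = 0 := by
    intro u hu
    apply Subtype.ext
    apply hW u.1 u.2
    intro v hv
    have := hu ⟨v, hv⟩
    rw [hBWapp, ← hBS.eq, map_eq_zero, hBapp] at this
    exact this
  have hBWnd : BW.Nondegenerate := by
    refine ⟨hWsep, ?_⟩
    intro v hv
    apply hWsep v
    intro u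
    rw [← hBWS.eq, hv u, map_zero]
  obtain ⟨b₁, hb₁⟩ := Cfsg.Agent.S0755.herm_onb φ hφne hφ2 k BW hBWS hBWnd hWk
  have hb₁' : ∀ i j, B (b₁ i : Fin n → F) (b₁ j : Fin n → F) = if i = j then 1 else 0 :=
    fun i j => by rw [← hBWapp]; exact hb₁ i j
  -- orthogonal complement
  obtain ⟨W', hW'⟩ : ∃ W' : Submodule F (Fin n → F), ∀ v, v ∈ W' ↔ ∀ w ∈ W, B w v = 0 := by
    refine ⟨⨅ w : W, LinearMap.ker (B (w : Fin n → F)), ?_⟩
    intro v
    simp only [Submodule.mem_iInf, LinearMap.mem_ker, Subtype.forall]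
  have hBW_all : ∀ x : Fin n → F, (∀ j, B (b₁ j : Fin n → F) x = 0) → ∀ w ∈ W, B w x = 0 := by
    intro x hx w hw
    have h2 : w = ∑ j, b₁.repr ⟨w, hw⟩ j • (b₁ j : Fin n → F) := by
      calc w = ((∑ j, b₁.repr ⟨w, hw⟩ j • b₁ j : W) : Fin n → F) := by rw [b₁.sum_repr]
        _ = ∑ j, b₁.repr ⟨w, hw⟩ j • (b₁ j : Fin n → F) := by
          rw [Submodule.coe_sum]; rfl
    rw [h2, map_sum, LinearMap.sum_apply]
    refine Finset.sum_eq_zero fun j _ => ?_
    rw [map_smulₛₗ, LinearMap.smul_apply, hx j, smul_zero]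
  have hc : IsCompl W W' := by
    constructor
    · rw [Submodule.disjoint_def]
      intro v hvW hvW'
      have h1 := (hW' v).1 hvW'
      have : (⟨v, hvW⟩ : W) = 0 := by
        apply hBWnd.2
        intro u
        rw [hBWapp]
        exact h1 u u.2
      exact congrArg Subtype.val this
    · rw [codisjoint_iff, eq_top_iff]
      intro v _
      obtain ⟨π, hπ⟩ : ∃ π : Fin n → F, π = ∑ i, B (b₁ i : Fin n → F) v • (b₁ i : Fin n → F) :=
        ⟨_, rfl⟩
      have hπW : π ∈ W := by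
        rw [hπ]
        exact Submodule.sum_mem _ fun i _ => W.smul_mem _ (b₁ i).2
      have hvπ : v - π ∈ W' := by
        rw [hW']
        apply hBW_all
        intro j
        rw [map_sub, hπ, map_sum]
        simp only [map_smul, smul_eq_mul, hb₁', mul_ite, mul_one, mul_zero, Finset.sum_ite_eq,
          Finset.mem_univ, if_true, sub_self]
      have : v = π + (v - π) := by abel
      rw [this]
      exact Submodule.add_mem_sup hπW hvπ
  have hfW' : finrank F W' = n - k := by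
    have := Submodule.finrank_add_eq_of_isCompl hc
    rw [hWk, Module.finrank_fintype_fun_eq_card, Fintype.card_fin] at this
    omega
  obtain ⟨BW', hBW'⟩ : ∃ BW' : W' →ₛₗ[φ] W' →ₗ[F] F, BW' = B.domRestrict₁₂ W' W' := ⟨_, rfl⟩
  have hBW'app : ∀ u v : W', BW' u v = B u v := fun u v => by rw [hBW']; rfl
  have hBW'S : BW'.IsSymm := ⟨fun u v => by rw [hBW'app, hBW'app, hBS.eq]⟩
  have hW'sep : ∀ u : W', (∀ v : W', BW' u v = 0) → u = 0 := by
    intro u hu
    apply Subtype.ext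
    apply hBnd.1
    intro x
    have hx : x ∈ W ⊔ W' := by rw [hc.sup_eq_top]; exact Submodule.mem_top
    obtain ⟨w, hw, w', hw', rfl⟩ := Submodule.mem_sup.1 hx
    rw [map_add]
    have e1 : B (u : Fin n → F) w = 0 := by
      rw [← hBS.eq, (hW' u.1).1 u.2 w hw, map_zero]
    have e2 : B (u : Fin n → F) w' = 0 := by
      have := hu ⟨w', hw'⟩
      rw [hBW'app] at this
      exact this
    rw [e1, e2, add_zero]
  have hBW'nd : BW'.Nondegenerate := by
    refine ⟨hW'sep, ?_⟩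
    intro v hv
    apply hW'sep v
    intro u
    rw [← hBW'S.eq, hv u, map_zero]
  obtain ⟨b₂, hb₂⟩ := Cfsg.Agent.S0755.herm_onb φ hφne hφ2 (n - k) BW' hBW'S hBW'nd hfW'
  have hb₂' : ∀ i j, B (b₂ i : Fin n → F) (b₂ j : Fin n → F) = if i = j then 1 else 0 :=
    fun i j => by rw [← hBW'app]; exact hb₂ i j
  -- combined basis
  obtain ⟨c, hcdef⟩ : ∃ c : Basis (Fin k ⊕ Fin (n - k)) F (Fin n → F),
      c = (b₁.prod b₂).map (W.prodEquivOfIsCompl W' hc) := ⟨_, rfl⟩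
  have hcl : ∀ i, c (Sum.inl i) = (b₁ i : Fin n → F) := by
    intro i
    rw [hcdef]
    simp
  have hcr : ∀ i, c (Sum.inr i) = (b₂ i : Fin n → F) := by
    intro i
    rw [hcdef]
    simp
  have hGram : ∀ a b, B (c a) (c b) = if a = b then 1 else 0 := by
    intro a b
    rcases a with a | a <;> rcases b with b | b
    · rw [hcl, hcl, hb₁']; simp
    · rw [hcl, hcr, (hW' _).1 (b₂ b).2 _ (b₁ a).2]; simp
    · rw [hcr, hcl, ← hBS.eq, (hW' _).1 (b₂ a).2 _ (b₁ b).2]; simp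
    · rw [hcr, hcr, hb₂']; simp
  refine stab_equiv_U φ hφ (((Pi.basisFun F (Fin n)).toMatrix c))
    (c.toMatrix (Pi.basisFun F (Fin n))) (Basis.toMatrix_mul_toMatrix_flip _ _)
    (Basis.toMatrix_mul_toMatrix_flip _ _) ?_ _ ?_
  · ext a b
    rw [Matrix.mul_apply]
    simp only [Matrix.transpose_apply, Matrix.map_apply, Basis.toMatrix_apply,
      Pi.basisFun_repr]
    have := hGram b a
    rw [hBdef, Bs_apply] at this
    rw [this, Matrix.one_apply]
    simp [eq_comm]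
  · intro v
    have hrepr : c.toMatrix (Pi.basisFun F (Fin n)) *ᵥ v = c.repr v := by
      have := Basis.toMatrix_mulVec_repr (Pi.basisFun F (Fin n)) c v
      have e : ⇑((Pi.basisFun F (Fin n)).repr v) = v :=
        funext fun i => Pi.basisFun_repr F (Fin n) v i
      rw [e] at this
      exact this
    rw [hrepr, SetLike.mem_coe, ← Submodule.prodEquivOfIsCompl_symm_apply_snd_eq_zero W W' hc]
    rw [hcdef]
    simp only [Basis.map_repr, LinearEquiv.trans_apply, Basis.prod_repr_inr]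
    constructor
    · intro h j
      rw [h]; simp
    · intro h
      apply b₂.repr.injective
      ext j
      rw [h j]; simp

end Cfsg.Agent.S0837
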