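import Cfsg.Statements.S0782
import Mathlib
import Cfsg.Agent.Lib.H11.UnitaryTI
import Cfsg.Agent.Lib.H2.Unitary4
import Cfsg.Agent.S0768
import Cfsg.Agent.S0751
-- import your own Cfsg.Agent.* helpers here

set_option autoImplicit false
open Cfsg

namespace Cfsg.Agent.S0782

open Matrix


section ms
variable {F : Type*} [Field F]
/-- group element with invertible matrix mapping a submodule into itself stabilises it -/
theorem mem_stab_iff' {H : Type*} [Group H] {ι : Type} [Fintype ι] [DecidableEq ι]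
    (toMat : H →* Matrix ι ι F) (W : Submodule F (ι → F)) (g : H) :
    g ∈ Cfsg.stabilizing toMat (W : Set (ι → F)) ↔ ∀ v ∈ W, toMat g *ᵥ v ∈ W := by
  have hinv : ∀ x : ι → F, toMat g⁻¹ *ᵥ (toMat g *ᵥ x) = x := by
    intro x
    rw [Matrix.mulVec_mulVec, ← map_mul, inv_mul_cancel, map_one, Matrix.one_mulVec]
  constructor
  · intro h v hv
    exact (h v).1 hv
  · intro h v
    refine ⟨h v, fun hgv => ?_⟩
    let f : W →ₗ[F] W := (Matrix.toLin' (toMat g)).restrict (p := W) (q := W)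
      (fun x hx => by simpa [Matrix.toLin'_apply] using h x hx)
    have hinj : Function.Injective f := by
      intro x y hxy
      have h1 : toMat g *ᵥ (x : ι → F) = toMat g *ᵥ (y : ι → F) := by
        have := congrArg Subtype.val hxy
        simpa [f, Matrix.toLin'_apply] using this
      have h2 := congrArg (fun z => toMat g⁻¹ *ᵥ z) h1
      simp only [hinv] at h2
      exact Subtype.ext h2
    have hsurj : Function.Surjective f := LinearMap.surjective_of_injective hinj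
    obtain ⟨w, hw⟩ := hsurj ⟨_, hgv⟩
    have h1 : toMat g *ᵥ (w : ι → F) = toMat g *ᵥ v := by
      have := congrArg Subtype.val hw
      simpa [f, Matrix.toLin'_apply] using this
    have h2 := congrArg (fun z => toMat g⁻¹ *ᵥ z) h1
    simp only [hinv] at h2
    rw [← h2]
    exact w.2


end ms


/-- orbit-stabiliser, phrased with a surjective map whose fibres are the left cosets of `S` -/
theorem card_eq_of_transitive {G X : Type*} [Group G] [Finite G] (φ : G → X)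
    (hsurj : Function.Surjective φ) (S : Subgroup G)
    (hS : ∀ g h, φ g = φ h ↔ g⁻¹ * h ∈ S) : Nat.card G = Nat.card X * Nat.card S := by
  rw [Subgroup.card_eq_card_quotient_mul_card_subgroup S]
  congr 1
  let ψ : G ⧸ S → X := Quotient.lift φ (fun a b hab => by
    have : a⁻¹ * b ∈ S := QuotientGroup.leftRel_apply.1 hab
    exact (hS a b).2 this)
  have hψ : Function.Bijective ψ := by
    constructor
    · intro a b
      induction a using Quotient.inductionOn with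
      | h a =>
        induction b using Quotient.inductionOn with
        | h b =>
          intro hab
          apply Quotient.sound
          exact QuotientGroup.leftRel_apply.2 ((hS a b).1 hab)
    · intro x
      obtain ⟨g, hg⟩ := hsurj x
      exact ⟨Quotient.mk _ g, hg⟩
  exact Nat.card_congr (Equiv.ofBijective ψ hψ)

section gu
open Cfsg.Agent.Lib.H11.UFrames
open Cfsg.Agent.S0837 (Bs Bs_apply Bs_symm Bs_nondeg)
variable {F : Type*} [Field F] {q n : ℕ} (φ : F →+* F)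

theorem Bs_eq_herm (hφ : ∀ x, φ x = x ^ q) (u v : Fin n → F) :
    Bs φ n u v = Cfsg.hermForm n F q v u := by
  rw [Bs_apply]
  unfold Cfsg.hermForm
  simp [hφ]

theorem gu_preserves (hφ : ∀ x, φ x = x ^ q) (g : Cfsg.GU n F q) (u v : Fin n → F) :
    Bs φ n (g.1.1 *ᵥ u) (g.1.1 *ᵥ v) = Bs φ n u v := by
  rw [Bs_eq_herm φ hφ, Bs_eq_herm φ hφ]
  exact g.2 v u

noncomputable def guOfEquiv (hφ : ∀ x, φ x = x ^ q) (e : (Fin n → F) ≃ₗ[F] (Fin n → F))
    (he : ∀ u v, Bs φ n (e u) (e v) = Bs φ n u v) : Cfsg.GU n F q :=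
  ⟨Cfsg.Agent.S0768.glOfEquiv e, by
    intro u v
    have h1 : ∀ w, (Cfsg.slToMat n F) 1 *ᵥ w = w := by
      intro w; simp
    have h2 : ∀ w : Fin n → F, ((Cfsg.Agent.S0768.glOfEquiv e : GL (Fin n) F) : Matrix _ _ F) *ᵥ w = e w :=
      fun w => Cfsg.Agent.S0768.glOfEquiv_smul e w
    show Cfsg.hermForm n F q (((Cfsg.Agent.S0768.glOfEquiv e : GL (Fin n) F) : Matrix _ _ F) *ᵥ u)
      (((Cfsg.Agent.S0768.glOfEquiv e : GL (Fin n) F) : Matrix _ _ F) *ᵥ v) = _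
    rw [h2, h2, ← Bs_eq_herm φ hφ, ← Bs_eq_herm φ hφ, he]⟩

theorem guOfEquiv_mulVec (hφ : ∀ x, φ x = x ^ q) (e : (Fin n → F) ≃ₗ[F] (Fin n → F))
    (he : ∀ u v, Bs φ n (e u) (e v) = Bs φ n u v) (v : Fin n → F) :
    (guOfEquiv φ hφ e he).1.1 *ᵥ v = e v :=
  Cfsg.Agent.S0768.glOfEquiv_smul e v

theorem gu_inv_mulVec (g : Cfsg.GU n F q) (v : Fin n → F) :
    (g⁻¹).1.1 *ᵥ (g.1.1 *ᵥ v) = v := by
  have hl : (g⁻¹).1.1 * g.1.1 = 1 := by
    have : (g⁻¹ * g : Cfsg.GU n F q) = 1 := inv_mul_cancel g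
    have := congrArg (fun z : Cfsg.GU n F q => (z.1.1 : Matrix (Fin n) (Fin n) F)) this
    simpa using this
  rw [Matrix.mulVec_mulVec, hl, Matrix.one_mulVec]

theorem gu_mul_inv_mulVec (g : Cfsg.GU n F q) (v : Fin n → F) :
    g.1.1 *ᵥ ((g⁻¹).1.1 *ᵥ v) = v := by
  have := gu_inv_mulVec g⁻¹ v
  rwa [inv_inv] at this

theorem gu_ker (g : Cfsg.GU n F q) : LinearMap.ker (Matrix.toLin' g.1.1) = ⊥ := by
  rw [LinearMap.ker_eq_bot]
  intro x y hxy
  rw [Matrix.toLin'_apply, Matrix.toLin'_apply] at hxy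
  have := congrArg (fun z => (g⁻¹).1.1 *ᵥ z) hxy
  simpa only [gu_inv_mulVec] using this

/-- the frame map -/
noncomputable def frameMapU (hφ : ∀ x, φ x = x ^ q) {k : ℕ} (f₀ : UFrame (Bs φ n) k)
    (g : Cfsg.GU n F q) : UFrame (Bs φ n) k :=
  ⟨fun i => g.1.1 *ᵥ f₀.1 i, by
    have := f₀.2.1.map' (Matrix.toLin' g.1.1) (gu_ker g)
    exact this, fun i j => by rw [gu_preserves φ hφ]; exact f₀.2.2 i j⟩

/-- pointwise stabiliser of a frame -/
def frameStabU {k : ℕ} (f₀ : Fin k → (Fin n → F)) : Subgroup (Cfsg.GU n F q) where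
  carrier := {g | ∀ i, g.1.1 *ᵥ f₀ i = f₀ i}
  mul_mem' := by
    intro a b ha hb i
    show (a.1.1 * b.1.1) *ᵥ f₀ i = f₀ i
    rw [← Matrix.mulVec_mulVec, hb i, ha i]
  one_mem' := fun i => Matrix.one_mulVec _
  inv_mem' := by
    intro a ha i
    have := gu_inv_mulVec a (f₀ i)
    rw [ha i] at this
    exact this

theorem frameMapU_eq_iff (hφ : ∀ x, φ x = x ^ q) {k : ℕ} (f₀ : UFrame (Bs φ n) k)
    (g h : Cfsg.GU n F q) :
    frameMapU φ hφ f₀ g = frameMapU φ hφ f₀ h ↔ g⁻¹ * h ∈ frameStabU (q := q) f₀.1 := by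
  constructor
  · intro hgh i
    have h1 : g.1.1 *ᵥ f₀.1 i = h.1.1 *ᵥ f₀.1 i := congrFun (congrArg Subtype.val hgh) i
    show ((g⁻¹).1.1 * h.1.1) *ᵥ f₀.1 i = f₀.1 i
    rw [← Matrix.mulVec_mulVec, ← h1, gu_inv_mulVec]
  · intro hgh
    apply Subtype.ext
    funext i
    have h1 : ((g⁻¹).1.1 * h.1.1) *ᵥ f₀.1 i = f₀.1 i := hgh i
    show g.1.1 *ᵥ f₀.1 i = h.1.1 *ᵥ f₀.1 i
    rw [← Matrix.mulVec_mulVec] at h1
    have h2 : g.1.1 *ᵥ ((g⁻¹).1.1 *ᵥ h.1.1 *ᵥ f₀.1 i) = g.1.1 *ᵥ f₀.1 i :=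
      congrArg (fun z => g.1.1 *ᵥ z) h1
    rw [gu_mul_inv_mulVec] at h2
    exact h2.symm

theorem frameMapU_surj [Finite F] (hφ : ∀ x, φ x = x ^ q) (hφne : φ ≠ RingHom.id F)
    (hφ2 : ∀ x, φ (φ x) = x) {k : ℕ} (f₀ : UFrame (Bs φ n) k) :
    Function.Surjective (frameMapU φ hφ f₀) := by
  intro f'
  obtain ⟨e, he, hef⟩ := Cfsg.Agent.S0751.witt_family (Bs φ n) hφne hφ2 (Bs_symm φ hφ2 n)
    (Bs_nondeg φ n) k f₀.1 f'.1 f₀.2.1 f'.2.1 (fun i j => by rw [f₀.2.2, f'.2.2])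
  refine ⟨guOfEquiv φ hφ e he, ?_⟩
  apply Subtype.ext
  funext i
  show (guOfEquiv φ hφ e he).1.1 *ᵥ f₀.1 i = f'.1 i
  rw [guOfEquiv_mulVec, hef]

theorem card_gu_eq [Fintype F] (hφ : ∀ x, φ x = x ^ q) (hφne : φ ≠ RingHom.id F)
    (hφ2 : ∀ x, φ (φ x) = x) {k : ℕ} (f₀ : UFrame (Bs φ n) k) :
    Nat.card (Cfsg.GU n F q) =
      Nat.card (UFrame (Bs φ n) k) * Nat.card (frameStabU (q := q) f₀.1) :=
  card_eq_of_transitive (frameMapU φ hφ f₀) (frameMapU_surj φ hφ hφne hφ2 f₀) (frameStabU f₀.1)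
    (frameMapU_eq_iff φ hφ f₀)

end gu

section parabU
open Cfsg.Agent.Lib.H11.UFrames
open Cfsg.Agent.S0837 (Bs Bs_apply Bs_symm Bs_nondeg)
variable {F : Type*} [Field F] {q n : ℕ} (φ : F →+* F)

theorem mulVec_mem_of_span' {k : ℕ} (g : Matrix (Fin n) (Fin n) F)
    (f : Fin k → (Fin n → F)) (W : Submodule F (Fin n → F))
    (h : ∀ i, g *ᵥ f i ∈ W) (v : Fin n → F) (hv : v ∈ Submodule.span F (Set.range f)) :
    g *ᵥ v ∈ W := by
  induction hv using Submodule.span_induction with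
  | mem x hx =>
    obtain ⟨i, rfl⟩ := hx
    exact h i
  | zero => rw [Matrix.mulVec_zero]; exact W.zero_mem
  | add x y _ _ hx hy => rw [Matrix.mulVec_add]; exact W.add_mem hx hy
  | smul a x _ hx => rw [Matrix.mulVec_smul]; exact W.smul_mem a hx

theorem card_PU_eq [Fintype F] (hφ : ∀ x, φ x = x ^ q) (hφne : φ ≠ RingHom.id F)
    (hφ2 : ∀ x, φ (φ x) = x) {k : ℕ} (W : Submodule F (Fin n → F))
    (hWk : Module.finrank F W = k)
    (hW : ∀ u ∈ W, ∀ v ∈ W, Cfsg.hermForm n F q u v = 0) :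
    ∃ f₀ : UFrame (Bs φ n) k,
      Nat.card ↥((Cfsg.stabilizing (Cfsg.glToMat (Fin n) F) (W : Set (Fin n → F))).subgroupOf
        (Cfsg.GU n F q)) =
        (∏ i : Fin k, (Fintype.card F ^ k - Fintype.card F ^ (i : ℕ))) *
          Nat.card (frameStabU (q := q) f₀.1) := by
  classical
  obtain ⟨b⟩ : Nonempty (Module.Basis (Fin k) F W) := ⟨Module.finBasisOfFinrankEq F W hWk⟩
  have hWB : ∀ u ∈ W, ∀ v ∈ W, Bs φ n u v = 0 := fun u hu v hv => by
    rw [Bs_eq_herm φ hφ]; exact hW v hv u hu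
  obtain ⟨f₀, hf₀⟩ : ∃ f₀ : UFrame (Bs φ n) k, f₀.1 = fun i => (b i : Fin n → F) :=
    ⟨⟨fun i => (b i : Fin n → F),
      b.linearIndependent.map' W.subtype (Submodule.ker_subtype W),
      fun i j => hWB _ (b i).2 _ (b j).2⟩, rfl⟩
  have hf₀i : ∀ i, f₀.1 i = (b i : Fin n → F) := fun i => by rw [hf₀]
  have hspan : Submodule.span F (Set.range f₀.1) = W := by
    have h1 : Set.range f₀.1 = W.subtype '' Set.range b := by
      rw [← Set.range_comp, hf₀]; rfl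
    rw [h1, ← Submodule.map_span, b.span_eq, Submodule.map_subtype_top]
  refine ⟨f₀, ?_⟩
  obtain ⟨P, hP⟩ : ∃ P, P = (Cfsg.stabilizing (Cfsg.glToMat (Fin n) F)
      (W : Set (Fin n → F))).subgroupOf (Cfsg.GU n F q) := ⟨_, rfl⟩
  rw [← hP]
  have hPmem : ∀ g : Cfsg.GU n F q, g ∈ P ↔ ∀ v ∈ W, g.1.1 *ᵥ v ∈ W := by
    intro g
    rw [hP, Subgroup.mem_subgroupOf]
    exact mem_stab_iff' (Cfsg.glToMat (Fin n) F) W g.1
  have hfW : ∀ i, f₀.1 i ∈ W := fun i => by rw [hf₀i]; exact (b i).2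
  let ψ : ↥P → {s : Fin k → W // LinearIndependent F s} := fun g =>
    ⟨fun i => ⟨g.1.1.1 *ᵥ f₀.1 i, (hPmem g.1).1 g.2 _ (hfW i)⟩, by
      apply LinearIndependent.of_comp W.subtype
      exact (frameMapU φ hφ f₀ g.1).2.1⟩
  have hψsurj : Function.Surjective ψ := by
    rintro ⟨s, hs⟩
    have hs' : LinearIndependent F (fun i => (s i : Fin n → F)) :=
      hs.map' W.subtype (Submodule.ker_subtype W)
    obtain ⟨e, he, hef⟩ := Cfsg.Agent.S0751.witt_family (Bs φ n) hφne hφ2 (Bs_symm φ hφ2 n)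
      (Bs_nondeg φ n) k f₀.1 (fun i => (s i : Fin n → F)) f₀.2.1 hs'
      (fun i j => by rw [f₀.2.2]; exact hWB _ (s i).2 _ (s j).2)
    have hgP : guOfEquiv φ hφ e he ∈ P := by
      rw [hPmem]
      intro v hv
      rw [← hspan] at hv
      apply mulVec_mem_of_span' _ f₀.1 W _ v hv
      intro i
      rw [guOfEquiv_mulVec, hef]
      exact (s i).2
    refine ⟨⟨guOfEquiv φ hφ e he, hgP⟩, ?_⟩
    apply Subtype.ext
    funext i
    apply Subtype.ext
    show (guOfEquiv φ hφ e he).1.1 *ᵥ f₀.1 i = s i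
    rw [guOfEquiv_mulVec, hef]
  have hψfib : ∀ g h : ↥P, ψ g = ψ h ↔ g⁻¹ * h ∈ (frameStabU (q := q) f₀.1).subgroupOf P := by
    intro g h
    rw [Subgroup.mem_subgroupOf]
    show _ ↔ (g.1)⁻¹ * h.1 ∈ frameStabU f₀.1
    rw [← frameMapU_eq_iff φ hφ]
    constructor
    · intro hgh
      apply Subtype.ext
      funext i
      have := congrArg (fun z : {s : Fin k → W // LinearIndependent F s} => ((z.1 i : W) : Fin n → F)) hgh
      exact this
    · intro hgh
      apply Subtype.ext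
      funext i
      apply Subtype.ext
      exact congrFun (congrArg Subtype.val hgh) i
  have hle : frameStabU (q := q) f₀.1 ≤ P := by
    intro g hg
    rw [hPmem]
    intro v hv
    rw [← hspan] at hv
    apply mulVec_mem_of_span' _ f₀.1 W _ v hv
    intro i
    rw [hg i]
    exact hfW i
  haveI : Finite ↥P := inferInstance
  rw [card_eq_of_transitive ψ hψsurj _ hψfib, Nat.card_congr (Subgroup.subgroupOfEquivOfLe hle).toEquiv]
  congr 1
  have := card_linearIndependent (K := F) (V := W) (k := k) (by rw [hWk])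
  rw [this, hWk]

end parabU


section hyp
variable {F : Type*} [Field F] {φ : F →+* F} {V : Type*} [AddCommGroup V] [Module F V]

theorem hyp_rot_isometry (hφ2 : ∀ x, φ (φ x) = x) (B : V →ₛₗ[φ] V →ₗ[F] F) (hS : B.IsSymm) (e f : V)
    (hee : B e e = 0) (hff : B f f = 0) (hef : B e f = 1) (hfe : B f e = 1) (a : F) (ha : a ≠ 0)
    (x y : V) :
    B (x + (a - 1) • (B f x • e) + ((φ a)⁻¹ - 1) • (B e x • f))
      (y + (a - 1) • (B f y • e) + ((φ a)⁻¹ - 1) • (B e y • f)) = B x y := by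
  have h1 : φ (B f x) = B x f := hS.eq f x
  have h2 : φ (B e x) = B x e := hS.eq e x
  have hφa : φ a ≠ 0 := (map_ne_zero φ).2 ha
  simp only [map_add, map_smulₛₗ, map_smul, LinearMap.add_apply, LinearMap.smul_apply, smul_eq_mul,
    map_mul, map_sub, map_one, map_inv₀, hφ2, h1, h2, hee, hff, hef, hfe, mul_zero, mul_one, add_zero,
    zero_add, RingHom.id_apply]
  field_simp
  ring

end hyp

section rot
open Cfsg.Agent.S0837 (Bs Bs_apply Bs_symm Bs_nondeg)
variable {F : Type*} [Field F] {n : ℕ} (φ : F →+* F)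

/-- rank one update `x ↦ x + A · B(f, x) · e` -/
def Tm (A : F) (e f : Fin n → F) : Matrix (Fin n) (Fin n) F :=
  1 + A • Matrix.vecMulVec e (fun j => φ (f j))

theorem Tm_mulVec (A : F) (e f x : Fin n → F) :
    Tm φ A e f *ᵥ x = x + A • (Bs φ n f x • e) := by
  rw [Tm, Matrix.add_mulVec, Matrix.one_mulVec, Matrix.smul_mulVec, Matrix.vecMulVec_mulVec,
    op_smul_eq_smul]
  congr 3
  rw [Bs_apply, dotProduct]
  exact Finset.sum_congr rfl (fun i _ => mul_comm _ _)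

theorem Tm_det (A : F) (e f : Fin n → F) : (Tm φ A e f).det = 1 + A * Bs φ n f e := by
  have h : A • Matrix.vecMulVec e (fun j => φ (f j)) =
      Matrix.replicateCol Unit (A • e) * Matrix.replicateRow Unit (fun j => φ (f j)) := by
    rw [← Matrix.vecMulVec_eq]
    ext i j
    simp [Matrix.vecMulVec_apply, mul_assoc]
  rw [Tm, h, Matrix.det_one_add_replicateCol_mul_replicateRow, Bs_apply, dotProduct]
  congr 1
  rw [Finset.mul_sum]
  exact Finset.sum_congr rfl (fun i _ => by simp; ring)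

/-- the hyperbolic rotation -/
def rot (a : F) (e f : Fin n → F) : Matrix (Fin n) (Fin n) F :=
  Tm φ (a - 1) e f * Tm φ ((φ a)⁻¹ - 1) f e

theorem rot_mulVec (a : F) (e f : Fin n → F) (hff : Bs φ n f f = 0) (x : Fin n → F) :
    rot φ a e f *ᵥ x =
      x + (a - 1) • (Bs φ n f x • e) + ((φ a)⁻¹ - 1) • (Bs φ n e x • f) := by
  rw [rot, ← Matrix.mulVec_mulVec, Tm_mulVec, Tm_mulVec]
  simp only [map_add, map_smul, hff, smul_eq_mul, mul_zero, add_zero]
  abel

theorem rot_det (a : F) (ha : a ≠ 0) (e f : Fin n → F) (hef : Bs φ n e f = 1) (hfe : Bs φ n f e = 1) :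
    (rot φ a e f).det = a * (φ a)⁻¹ := by
  rw [rot, Matrix.det_mul, Tm_det, Tm_det, hef, hfe]
  ring

theorem rot_preserves (hφ2 : ∀ x, φ (φ x) = x) (a : F) (ha : a ≠ 0) (e f : Fin n → F)
    (hee : Bs φ n e e = 0) (hff : Bs φ n f f = 0) (hef : Bs φ n e f = 1) (hfe : Bs φ n f e = 1)
    (x y : Fin n → F) :
    Bs φ n (rot φ a e f *ᵥ x) (rot φ a e f *ᵥ y) = Bs φ n x y := by
  rw [rot_mulVec φ a e f hff, rot_mulVec φ a e f hff]
  exact hyp_rot_isometry hφ2 (Bs φ n) (Bs_symm φ hφ2 n) e f hee hff hef hfe a ha x y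

end rot

section partner
variable {F : Type*} [Field F] {φ : F →+* F} {V : Type*} [AddCommGroup V] [Module F V]

theorem exists_trace [Finite F] (hφne : φ ≠ RingHom.id F) (hφ2 : ∀ x, φ (φ x) = x) (κ : F)
    (hκ : φ κ = κ) : ∃ t : F, t + φ t + κ = 0 := by
  obtain ⟨c, hc0, hc⟩ := Cfsg.Agent.S0751.norm_eq hφne hφ2 (1 : F) κ one_ne_zero hκ
  have hφc : φ c ≠ 0 := (map_ne_zero φ).2 hc0
  refine ⟨(φ c)⁻¹, ?_⟩
  rw [map_inv₀, hφ2]
  rw [map_one, mul_one, mul_one] at hc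
  field_simp
  linear_combination hc

theorem exists_hyp_partner [Finite F] (hφne : φ ≠ RingHom.id F) (hφ2 : ∀ x, φ (φ x) = x)
    (B : V →ₛₗ[φ] V →ₗ[F] F) (hS : B.IsSymm) (hB : B.Nondegenerate) (e : V) (he0 : e ≠ 0)
    (hee : B e e = 0) : ∃ f, B f f = 0 ∧ B e f = 1 ∧ B f e = 1 := by
  obtain ⟨f₀, hf₀⟩ : ∃ f₀, B e f₀ ≠ 0 := by
    by_contra hcon
    push Not at hcon
    exact he0 (hB.1 e hcon)
  obtain ⟨f₁, hf₁⟩ : ∃ f₁, B e f₁ = 1 := by
    refine ⟨(B e f₀)⁻¹ • f₀, ?_⟩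
    rw [map_smul, smul_eq_mul, inv_mul_cancel₀ hf₀]
  have hf₁' : B f₁ e = 1 := by
    rw [← hS.eq e f₁, hf₁, map_one]
  obtain ⟨t, ht⟩ := exists_trace hφne hφ2 (B f₁ f₁) (hS.eq f₁ f₁)
  refine ⟨f₁ + t • e, ?_, ?_, ?_⟩
  · simp only [map_add, map_smulₛₗ, map_smul, LinearMap.add_apply, LinearMap.smul_apply, smul_eq_mul,
      hee, hf₁, hf₁', mul_zero, mul_one, add_zero]
    linear_combination ht
  · rw [map_add, map_smul, hee, hf₁, smul_zero, add_zero]
  · rw [map_add, LinearMap.add_apply, map_smulₛₗ, LinearMap.smul_apply, hee, hf₁', smul_zero, add_zero]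

theorem hilbert90 (hφne : φ ≠ RingHom.id F) (hφ2 : ∀ x, φ (φ x) = x) (l : F) (hl : l * φ l = 1) :
    ∃ a : F, a ≠ 0 ∧ a * (φ a)⁻¹ = l := by
  have key : ∃ θ : F, θ + l * φ θ ≠ 0 := by
    by_contra hcon
    push Not at hcon
    have h1 := hcon 1
    rw [map_one, mul_one] at h1
    have hl1 : l = -1 := by linear_combination h1
    apply hφne
    ext θ
    have := hcon θ
    rw [hl1] at this
    rw [RingHom.id_apply]
    linear_combination -this
  obtain ⟨θ, hθ⟩ := key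
  refine ⟨θ + l * φ θ, hθ, ?_⟩
  have h2 : φ (θ + l * φ θ) ≠ 0 := (map_ne_zero φ).2 hθ
  rw [mul_inv_eq_iff_eq_mul₀ h2, map_add, map_mul, hφ2]
  linear_combination (-θ) * hl

end partner

section detsurj
open Cfsg.Agent.Lib.H11.UFrames
open Cfsg.Agent.S0837 (Bs Bs_apply Bs_symm Bs_nondeg)
open Cfsg.Agent.Lib.H2.Unitary (detGU detGU_val range_detGU suEquivKer card_GU ordGU)
variable {F : Type*} [Field F] [Fintype F] {q n : ℕ} (φ : F →+* F)

theorem det_surj_of_pos (hφ : ∀ x, φ x = x ^ q) (hφne : φ ≠ RingHom.id F)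
    (hφ2 : ∀ x, φ (φ x) = x) {k : ℕ} (hk : 1 ≤ k) (W : Submodule F (Fin n → F))
    (hWk : Module.finrank F W = k)
    (hW : ∀ u ∈ W, ∀ v ∈ W, Cfsg.hermForm n F q u v = 0) (l : Fˣ) (hl : l ^ (q + 1) = 1) :
    ∃ g : Cfsg.GU n F q, g.1 ∈ Cfsg.stabilizing (Cfsg.glToMat (Fin n) F) (W : Set (Fin n → F)) ∧
      detGU n F q g = l := by
  have hWB : ∀ u ∈ W, ∀ v ∈ W, Bs φ n u v = 0 := fun u hu v hv => by
    rw [Bs_eq_herm φ hφ]; exact hW v hv u hu
  have hWne : W ≠ ⊥ := by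
    rw [← Submodule.one_le_finrank_iff, hWk]; exact hk
  obtain ⟨e, heW, he0⟩ := Submodule.exists_mem_ne_zero_of_ne_bot hWne
  have hee : Bs φ n e e = 0 := hWB e heW e heW
  obtain ⟨f, hff, hef, hfe⟩ := exists_hyp_partner hφne hφ2 (Bs φ n) (Bs_symm φ hφ2 n)
    (Bs_nondeg φ n) e he0 hee
  have hl' : (l : F) * φ (l : F) = 1 := by
    rw [hφ, ← pow_succ']
    have := congrArg Units.val hl
    rwa [Units.val_pow_eq_pow_val, Units.val_one] at this
  obtain ⟨a, ha0, hal⟩ := hilbert90 hφne hφ2 (l : F) hl'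
  have hdet : (rot φ a e f).det = l := by rw [rot_det φ a ha0 e f hef hfe, hal]
  have hdet0 : (rot φ a e f).det ≠ 0 := by rw [hdet]; exact l.ne_zero
  obtain ⟨g, hg⟩ : ∃ g : GL (Fin n) F, g = Matrix.GeneralLinearGroup.mkOfDetNeZero _ hdet0 := ⟨_, rfl⟩
  have hgM : (g : Matrix (Fin n) (Fin n) F) = rot φ a e f := by rw [hg]; rfl
  have hgGU : g ∈ Cfsg.GU n F q := by
    intro u v
    show Cfsg.hermForm n F q ((g : Matrix (Fin n) (Fin n) F) *ᵥ u)
      ((g : Matrix (Fin n) (Fin n) F) *ᵥ v) = _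
    rw [hgM, ← Bs_eq_herm φ hφ, ← Bs_eq_herm φ hφ]
    exact rot_preserves φ hφ2 a ha0 e f hee hff hef hfe v u
  refine ⟨⟨g, hgGU⟩, ?_, ?_⟩
  · rw [mem_stab_iff' (Cfsg.glToMat (Fin n) F) W g]
    intro x hx
    show (g : Matrix (Fin n) (Fin n) F) *ᵥ x ∈ W
    rw [hgM, rot_mulVec φ a e f hff, hWB e heW x hx, zero_smul, smul_zero, add_zero]
    exact W.add_mem hx (W.smul_mem _ (W.smul_mem _ heW))
  · apply Units.ext
    rw [detGU_val]
    show (g : Matrix (Fin n) (Fin n) F).det = l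
    rw [hgM, hdet]

theorem card_Pg_eq (hF : Fintype.card F = q ^ 2) (hφ : ∀ x, φ x = x ^ q) (hφne : φ ≠ RingHom.id F)
    (hφ2 : ∀ x, φ (φ x) = x) (hn : 1 ≤ n) {k : ℕ} (W : Submodule F (Fin n → F))
    (hWk : Module.finrank F W = k)
    (hW : ∀ u ∈ W, ∀ v ∈ W, Cfsg.hermForm n F q u v = 0) :
    Nat.card ↥((Cfsg.stabilizing (Cfsg.glToMat (Fin n) F) (W : Set (Fin n → F))).subgroupOf
        (Cfsg.GU n F q)) =
      (q + 1) * Nat.card ↥((Cfsg.stabilizing (Cfsg.slToMat n F) (W : Set (Fin n → F))).subgroupOf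
        (Cfsg.SU n F q)) := by
  obtain ⟨Pg, hPg⟩ : ∃ Pg, Pg = (Cfsg.stabilizing (Cfsg.glToMat (Fin n) F)
      (W : Set (Fin n → F))).subgroupOf (Cfsg.GU n F q) := ⟨_, rfl⟩
  obtain ⟨Ps, hPs⟩ : ∃ Ps, Ps = (Cfsg.stabilizing (Cfsg.slToMat n F)
      (W : Set (Fin n → F))).subgroupOf (Cfsg.SU n F q) := ⟨_, rfl⟩
  rw [← hPg, ← hPs]
  obtain ⟨detP, hdetP⟩ : ∃ detP : ↥Pg →* Fˣ, detP = (detGU n F q).comp Pg.subtype := ⟨_, rfl⟩
  have hmemPg : ∀ g : Cfsg.GU n F q, g ∈ Pg ↔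
      g.1 ∈ Cfsg.stabilizing (Cfsg.glToMat (Fin n) F) (W : Set (Fin n → F)) := by
    intro g; rw [hPg, Subgroup.mem_subgroupOf]
  have hmemPs : ∀ A : Cfsg.SU n F q, A ∈ Ps ↔
      A.1 ∈ Cfsg.stabilizing (Cfsg.slToMat n F) (W : Set (Fin n → F)) := by
    intro A; rw [hPs, Subgroup.mem_subgroupOf]
  have hdetP_apply : ∀ g : ↥Pg, detP g = detGU n F q g.1 := by
    intro g; rw [hdetP]; rfl
  have hrange : detP.range = (powMonoidHom (q + 1) : Fˣ →* Fˣ).ker := by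
    apply le_antisymm
    · rw [← range_detGU hF hn]
      rintro _ ⟨g, rfl⟩
      rw [hdetP_apply]
      exact ⟨g.1, rfl⟩
    · intro l hl
      rw [MonoidHom.mem_ker, powMonoidHom_apply] at hl
      rcases Nat.eq_zero_or_pos k with hk0 | hk0
      · have hl2 : l ∈ (detGU n F q).range := by
          rw [range_detGU hF hn, MonoidHom.mem_ker, powMonoidHom_apply]; exact hl
        obtain ⟨g, hg⟩ := hl2
        have hWbot : W = ⊥ := by
          rw [← Submodule.finrank_eq_zero, hWk, hk0]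
        have hgP : g ∈ Pg := by
          rw [hmemPg, mem_stab_iff' (Cfsg.glToMat (Fin n) F) W g.1]
          intro v hv
          rw [hWbot, Submodule.mem_bot] at hv
          rw [hv, Matrix.mulVec_zero]
          exact W.zero_mem
        exact ⟨⟨g, hgP⟩, by rw [hdetP_apply]; exact hg⟩
      · obtain ⟨g, hg1, hg2⟩ := det_surj_of_pos φ hφ hφne hφ2 hk0 W hWk hW l hl
        have hgP : g ∈ Pg := (hmemPg g).2 hg1
        exact ⟨⟨g, hgP⟩, by rw [hdetP_apply]; exact hg2⟩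
  -- kernel
  have hkermem : ∀ g : detP.ker, g.1.1 ∈ (detGU n F q).ker := by
    intro g
    have := g.2
    rw [MonoidHom.mem_ker, hdetP_apply] at this
    exact this
  have hker : Nat.card detP.ker = Nat.card Ps := by
    let e : detP.ker ≃ Ps :=
      { toFun := fun g => ⟨suEquivKer.symm ⟨g.1.1, hkermem g⟩, by
            rw [hmemPs]
            exact (hmemPg g.1.1).1 g.1.2⟩
        invFun := fun A => ⟨⟨(suEquivKer A.1).1, by
            rw [hmemPg]
            exact (hmemPs A.1).1 A.2⟩, by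
            rw [MonoidHom.mem_ker, hdetP_apply]
            exact (suEquivKer A.1).2⟩
        left_inv := fun g => by
          apply Subtype.ext
          apply Subtype.ext
          show (suEquivKer (suEquivKer.symm (⟨g.1.1, hkermem g⟩ : (detGU n F q).ker))).1 = g.1.1
          rw [suEquivKer.apply_symm_apply]
        right_inv := fun A => by
          apply Subtype.ext
          exact suEquivKer.symm_apply_apply A.1 }
    exact Nat.card_congr e
  have h1 := Subgroup.card_mul_index detP.ker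
  rw [Subgroup.index_ker, hrange, Cfsg.Agent.Lib.H2.Herm.card_ker_pow hF, hker] at h1
  rw [← h1, mul_comm]

end detsurj

section arith
open Cfsg.Agent.Lib.H11.UFrames
open Cfsg.Agent.Lib.H2.Unitary (ordGU ordGU_succ)

theorem ordGU_two (q m : ℕ) :
    ordGU q (m + 2) = ordGU q m * (q ^ (2 * m + 1) * isoNZ q (m + 2)) := by
  rw [show m + 2 = (m + 1) + 1 from rfl, ordGU_succ, ordGU_succ]
  simp only [Nat.add_sub_cancel, isoNZ]
  by_cases he : Even m
  · have h1 : ¬ Even (m + 1) := by rw [Nat.even_add_one]; exact not_not.2 he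
    have h2 : Even (m + 1 + 1) := by rw [Nat.even_add_one]; exact h1
    simp only [if_neg h1, if_pos h2]
    have : 2 * m + 1 = m + (m + 1) := by ring
    rw [this, pow_add]
    ring
  · have h1 : Even (m + 1) := by rw [Nat.even_add_one]; exact he
    have h2 : ¬ Even (m + 1 + 1) := by rw [Nat.even_add_one]; exact not_not.2 h1
    simp only [if_pos h1, if_neg h2]
    have : 2 * m + 1 = m + (m + 1) := by ring
    rw [this, pow_add]
    ring

theorem ordGU_rec (q : ℕ) : ∀ k r : ℕ,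
    ordGU q (2 * k + r) = q ^ (k * (k + 2 * r)) * ordGU q r *
      ∏ j ∈ Finset.range k, ((q ^ 2) ^ j * isoNZ q (2 * k + r - 2 * j)) := by
  intro k
  induction k with
  | zero => intro r; simp
  | succ k ih =>
    intro r
    have e1 : 2 * (k + 1) + r = (2 * k + r) + 2 := by ring
    rw [Finset.prod_range_succ', e1, ordGU_two, ih r]
    have hprod : ∏ j ∈ Finset.range k, ((q ^ 2) ^ (j + 1) * isoNZ q (2 * k + r + 2 - 2 * (j + 1))) =
        (q ^ 2) ^ k * ∏ j ∈ Finset.range k, ((q ^ 2) ^ j * isoNZ q (2 * k + r - 2 * j)) := by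
      have hc : (q ^ 2) ^ k = ∏ _j ∈ Finset.range k, (q ^ 2) := by
        rw [Finset.prod_const, Finset.card_range]
      rw [hc, ← Finset.prod_mul_distrib]
      apply Finset.prod_congr rfl
      intro j hj
      rw [Finset.mem_range] at hj
      have : 2 * k + r + 2 - 2 * (j + 1) = 2 * k + r - 2 * j := by omega
      rw [this, pow_succ]
      ring
    rw [hprod]
    simp only [pow_zero, one_mul, mul_zero, Nat.sub_zero]
    have hexp : q ^ ((k + 1) * (k + 1 + 2 * r)) * (q ^ 2) ^ k =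
        q ^ (k * (k + 2 * r)) * q ^ (2 * (2 * k + r) + 1) := by
      rw [← pow_mul, ← pow_add, ← pow_add]
      congr 1
      ring
    calc q ^ (k * (k + 2 * r)) * ordGU q r *
          (∏ j ∈ Finset.range k, ((q ^ 2) ^ j * isoNZ q (2 * k + r - 2 * j))) *
          (q ^ (2 * (2 * k + r) + 1) * isoNZ q (2 * k + r + 2))
        = (q ^ (k * (k + 2 * r)) * q ^ (2 * (2 * k + r) + 1)) * ordGU q r *
          (∏ j ∈ Finset.range k, ((q ^ 2) ^ j * isoNZ q (2 * k + r - 2 * j))) *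
          isoNZ q (2 * k + r + 2) := by ring
      _ = _ := by rw [← hexp]; ring

end arith

section final
open Cfsg.Agent.Lib.H11.UFrames
open Cfsg.Agent.S0837 (Bs Bs_apply Bs_symm Bs_nondeg)
open Cfsg.Agent.Lib.H2.Unitary (ordGU card_GU)

theorem isoNZ_pos (q d : ℕ) (hq : 2 ≤ q) (hd : 2 ≤ d) : 0 < isoNZ q d := by
  unfold isoNZ
  have h1 : 1 < q ^ d := Nat.one_lt_pow (by omega) (by omega)
  have h2 : 1 < q ^ (d - 1) := Nat.one_lt_pow (by omega) (by omega)
  split_ifs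
  · exact Nat.mul_pos (by omega) (by omega)
  · exact Nat.mul_pos (by omega) (by omega)

end final

/-- Maximal parabolics of SU_n(q): if W is a k-dimensional subspace of F^n (n ≥ 1, |F| = q²) on which the Hermitian form vanishes, then (q + 1) times the order of its stabiliser in SU_n(q) equals q^(k(2n−3k)) · |GL_k(q²)| · |GU_(n−2k)(q)|, where |GU_m(q)| = q^(m(m−1)/2) Π_(i=1..m) (q^i − (−1)^i). -/
theorem result {F : Type*} [Field F] [Fintype F] {q : ℕ} (hF : Fintype.card F = q ^ 2) (n k : ℕ) (hn : 1 ≤ n) (hk : 2 * k ≤ n) (W : Submodule F (Fin n → F)) (hWk : Module.finrank F W = k) (hW : ∀ u ∈ W, ∀ v ∈ W, Cfsg.hermForm n F q u v = 0) : (q + 1) * Nat.card ↥((Cfsg.stabilizing (Cfsg.slToMat n F) (W : Set (Fin n → F))).subgroupOf (Cfsg.SU n F q)) = q ^ (k * (2 * n - 3 * k)) * (∏ i : Fin k, ((q ^ 2) ^ k - (q ^ 2) ^ (i : ℕ))) * (q ^ ((n - 2 * k) * ((n - 2 * k) - 1) / 2) * ∏ i ∈ Finset.range (n - 2 * k), (if Even i then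 q ^ (i + 1) + 1 else q ^ (i + 1) - 1)) := by
  obtain ⟨φ, hφ, hφ2⟩ := Cfsg.Agent.Lib.H4.exists_frob hF
  have hφne := Cfsg.Agent.S0837.phi_ne_id φ hF hφ
  have hq : 2 ≤ q := Cfsg.Agent.Lib.H2.Herm.two_le_q hF
  rw [← card_Pg_eq φ hF hφ hφne hφ2 hn W hWk hW]
  obtain ⟨f₀, hP⟩ := card_PU_eq φ hφ hφne hφ2 W hWk hW
  have h1 := card_gu_eq φ hφ hφne hφ2 f₀
  rw [Cfsg.Agent.Lib.H11.UFrames.card_uFrame hF hφ hφne hφ2 (Cfsg.Agent.S0837.Bs φ n)
    (Cfsg.Agent.S0837.Bs_symm φ hφ2 n) (Cfsg.Agent.S0837.Bs_nondeg φ n) k,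
    Cfsg.Agent.Lib.H2.Unitary.card_GU hF, hF, Module.finrank_fintype_fun_eq_card, Fintype.card_fin,
    Fin.prod_univ_eq_prod_range (fun j => (q ^ 2) ^ j * Cfsg.Agent.Lib.H11.UFrames.isoNZ q (n - 2 * j)) k]
    at h1
  rw [hF] at hP
  obtain ⟨r, rfl⟩ : ∃ r, n = 2 * k + r := ⟨n - 2 * k, by omega⟩
  have h2 := ordGU_rec q k r
  have hUpos : 0 < ∏ j ∈ Finset.range k,
      ((q ^ 2) ^ j * Cfsg.Agent.Lib.H11.UFrames.isoNZ q (2 * k + r - 2 * j)) := by
    apply Finset.prod_pos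
    intro j hj
    rw [Finset.mem_range] at hj
    exact Nat.mul_pos (by positivity) (isoNZ_pos q _ hq (by omega))
  apply Nat.eq_of_mul_eq_mul_right hUpos
  have e1 : 2 * k + r - 2 * k = r := by omega
  have e2 : 2 * (2 * k + r) - 3 * k = k + 2 * r := by omega
  rw [hP, e1, e2]
  have e3 : q ^ (r * (r - 1) / 2) * ∏ i ∈ Finset.range r, (if Even i then q ^ (i + 1) + 1 else q ^ (i + 1) - 1) =
      Cfsg.Agent.Lib.H2.Unitary.ordGU q r := rfl
  rw [e3]
  calc (∏ i : Fin k, ((q ^ 2) ^ k - (q ^ 2) ^ (i : ℕ))) * Nat.card ↥(frameStabU (q := q) f₀.1) *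
        ∏ j ∈ Finset.range k, ((q ^ 2) ^ j * Cfsg.Agent.Lib.H11.UFrames.isoNZ q (2 * k + r - 2 * j))
      = (∏ i : Fin k, ((q ^ 2) ^ k - (q ^ 2) ^ (i : ℕ))) *
        ((∏ j ∈ Finset.range k, ((q ^ 2) ^ j * Cfsg.Agent.Lib.H11.UFrames.isoNZ q (2 * k + r - 2 * j))) *
          Nat.card ↥(frameStabU (q := q) f₀.1)) := by ring
    _ = (∏ i : Fin k, ((q ^ 2) ^ k - (q ^ 2) ^ (i : ℕ))) * Cfsg.Agent.Lib.H2.Unitary.ordGU q (2 * k + r) := by
      rw [← h1]
    _ = _ := by rw [h2]; ring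

end Cfsg.Agent.S0782
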