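import Cfsg.Statements.S0781
import Mathlib
import Cfsg.Agent.S0782
-- import your own Cfsg.Agent.* helpers here

set_option autoImplicit false
open Cfsg

namespace Cfsg.Agent.S0781

open Matrix
open Cfsg.Agent.S0837 (Bs Bs_apply Bs_symm Bs_nondeg)
open Cfsg.Agent.S0782 (Tm Tm_mulVec Tm_det Bs_eq_herm exists_trace)
open Cfsg.Agent.Lib.H11.UFrames

section eichler
variable {F : Type*} [Field F] {φ : F →+* F} {V : Type*} [AddCommGroup V] [Module F V]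

/-- abstract isometry computation for Eichler transformations -/
theorem eichler_isometry (B : V →ₛₗ[φ] V →ₗ[F] F) (hS : B.IsSymm) (v w : V) (s : F)
    (hvv : B v v = 0) (hvw : B v w = 0) (hwv : B w v = 0) (hs : s + φ s + B w w = 0) (x y : V) :
    B (x + B v x • w + (s * B v x - B w x) • v) (y + B v y • w + (s * B v y - B w y) • v) = B x y := by
  have h1 : φ (B v x) = B x v := hS.eq v x
  have h2 : φ (B w x) = B x w := hS.eq w x
  simp only [map_add, map_smulₛₗ, map_smul, LinearMap.add_apply, LinearMap.smul_apply, smul_eq_mul,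
    map_mul, map_sub, h1, h2, hvv, hvw, hwv, mul_zero, add_zero, zero_add, RingHom.id_apply]
  linear_combination (B x v * B v y) * hs

end eichler

section mat
variable {F : Type*} [Field F] {n : ℕ} (φ : F →+* F)

/-- Eichler transformation `x ↦ x + B(v,x) w + (s B(v,x) - B(w,x)) v` -/
def Em (v w : Fin n → F) (s : F) : Matrix (Fin n) (Fin n) F :=
  Tm φ 1 w v * Tm φ 1 v (-w + φ s • v)

theorem Em_mulVec (hφ2 : ∀ x, φ (φ x) = x) (v w : Fin n → F) (s : F) (hvv : Bs φ n v v = 0)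
    (x : Fin n → F) :
    Em φ v w s *ᵥ x = x + Bs φ n v x • w + (s * Bs φ n v x - Bs φ n w x) • v := by
  rw [Em, ← Matrix.mulVec_mulVec, Tm_mulVec, Tm_mulVec]
  simp only [map_add, map_neg, map_smulₛₗ, map_smul, LinearMap.add_apply, LinearMap.neg_apply,
    LinearMap.smul_apply, smul_eq_mul, hvv, hφ2, mul_zero, add_zero, one_smul]
  module

theorem Em_det (hφ2 : ∀ x, φ (φ x) = x) (v w : Fin n → F) (s : F) (hvv : Bs φ n v v = 0)
    (hvw : Bs φ n v w = 0) (hwv : Bs φ n w v = 0) : (Em φ v w s).det = 1 := by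
  rw [Em, Matrix.det_mul, Tm_det, Tm_det]
  simp only [map_add, map_neg, map_smulₛₗ, LinearMap.add_apply, LinearMap.neg_apply,
    LinearMap.smul_apply, smul_eq_mul, hvv, hvw, hwv, mul_zero, add_zero, neg_zero, mul_one]

theorem Em_preserves (hφ2 : ∀ x, φ (φ x) = x) (v w : Fin n → F) (s : F) (hvv : Bs φ n v v = 0)
    (hvw : Bs φ n v w = 0) (hwv : Bs φ n w v = 0) (hs : s + φ s + Bs φ n w w = 0)
    (x y : Fin n → F) :
    Bs φ n (Em φ v w s *ᵥ x) (Em φ v w s *ᵥ y) = Bs φ n x y := by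
  rw [Em_mulVec φ hφ2 v w s hvv, Em_mulVec φ hφ2 v w s hvv]
  exact eichler_isometry (Bs φ n) (Bs_symm φ hφ2 n) v w s hvv hvw hwv hs x y

/-- commutation relation on vectors -/
theorem Em_comm (hφ2 : ∀ x, φ (φ x) = x) (v w₁ w₂ : Fin n → F) (s₁ s₂ : F) (hvv : Bs φ n v v = 0)
    (hvw₁ : Bs φ n v w₁ = 0) (hw₁v : Bs φ n w₁ v = 0) (hvw₂ : Bs φ n v w₂ = 0)
    (hw₂v : Bs φ n w₂ v = 0) (x : Fin n → F) :
    Em φ v w₁ s₁ *ᵥ (Em φ v w₂ s₂ *ᵥ x) =
      Tm φ (Bs φ n w₂ w₁ - Bs φ n w₁ w₂) v v *ᵥ (Em φ v w₂ s₂ *ᵥ (Em φ v w₁ s₁ *ᵥ x)) := by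
  rw [Tm_mulVec]
  simp only [Em_mulVec φ hφ2 _ _ _ hvv]
  simp only [map_add, map_sub, map_smul, LinearMap.add_apply, LinearMap.sub_apply, smul_eq_mul, hvv,
    hvw₁, hw₁v, hvw₂, hw₂v, mul_zero, add_zero, sub_zero]
  module

end mat
section solve
variable {F : Type*} [Field F] {φ : F →+* F}

theorem exists_skew [Finite F] (hφne : φ ≠ RingHom.id F) (hφ2 : ∀ x, φ (φ x) = x) (c : F)
    (hc : c + φ c = 0) : ∃ μ : F, μ - φ μ = c := by
  obtain ⟨a, ha⟩ : ∃ a, φ a ≠ a := by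
    by_contra hcon
    push Not at hcon
    exact hφne (RingHom.ext hcon)
  obtain ⟨ε, hε⟩ : ∃ ε, ε = a - φ a := ⟨_, rfl⟩
  have hε0 : ε ≠ 0 := by
    rw [hε]; exact sub_ne_zero.2 (Ne.symm ha)
  have hφε : φ ε = -ε := by
    rw [hε, map_sub, hφ2]; ring
  have hφc : φ c = -c := by linear_combination hc
  obtain ⟨t, ht⟩ := exists_trace hφne hφ2 (-c / ε) (by
    rw [map_div₀, map_neg, hφc, hφε]
    field_simp)
  refine ⟨ε * t, ?_⟩
  rw [map_mul, hφε]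
  field_simp at ht
  linear_combination ht

end solve

/-- In SU_n(q) with n ≥ 4, or n = 3 and q > 2, every element whose matrix is a unitary transvection x ↦ x + c h(x, v) v (v isotropic) is a commutator ⁅B, C⁆ of two elements of SU_n(q). -/
theorem result {F : Type*} [Field F] [Fintype F] {q : ℕ} (hF : Fintype.card F = q ^ 2) (n : ℕ) (hn : 4 ≤ n ∨ (n = 3 ∧ 3 ≤ q)) (A : ↥(Cfsg.SU n F q)) (v : Fin n → F) (c : F) (hv0 : Cfsg.hermForm n F q v v = 0) (hA : ((A : Matrix.SpecialLinearGroup (Fin n) F) : Matrix (Fin n) (Fin n) F) = Cfsg.unitaryTransvection n q v c) : A ∈ commutatorSet ↥(Cfsg.SU n F q) := by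
  obtain ⟨φ, hφ, hφ2⟩ := Cfsg.Agent.Lib.H4.exists_frob hF
  have hφne := Cfsg.Agent.S0837.phi_ne_id φ hF hφ
  have hφs : Function.Surjective φ := fun x => ⟨φ x, hφ2 x⟩
  have hS := Bs_symm φ hφ2 n
  have hB := Bs_nondeg φ n
  have hn3 : 3 ≤ n := by omega
  have hvv : Bs φ n v v = 0 := by rw [Bs_eq_herm φ hφ]; exact hv0
  have hAm : ((A : Matrix.SpecialLinearGroup (Fin n) F) : Matrix (Fin n) (Fin n) F) = Tm φ c v v := by
    rw [hA, Cfsg.unitaryTransvection, Tm]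
    congr 3
    funext j
    rw [hφ]
  by_cases hv : v = 0
  · have hA1 : A = 1 := by
      apply Subtype.ext
      apply Subtype.ext
      rw [hAm, Tm, hv]
      simp
    rw [hA1]
    exact ⟨1, 1, by simp⟩
  -- c + φ c = 0
  obtain ⟨x, hx⟩ : ∃ x, Bs φ n v x ≠ 0 := by
    by_contra hcon
    push Not at hcon
    exact hv (hB.1 v hcon)
  have hc : c + φ c = 0 := by
    have h1 := A.2 x x
    change Cfsg.hermForm n F q (((A : Matrix.SpecialLinearGroup (Fin n) F) : Matrix (Fin n) (Fin n) F) *ᵥ x)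
      (((A : Matrix.SpecialLinearGroup (Fin n) F) : Matrix (Fin n) (Fin n) F) *ᵥ x) = _ at h1
    rw [← Bs_eq_herm φ hφ, ← Bs_eq_herm φ hφ, hAm, Tm_mulVec] at h1
    have h2 : φ (Bs φ n v x) = Bs φ n x v := hS.eq v x
    have hx' : Bs φ n x v ≠ 0 := by
      rw [← h2]; exact (map_ne_zero φ).2 hx
    simp only [map_add, map_smulₛₗ, map_smul, LinearMap.add_apply, LinearMap.smul_apply, smul_eq_mul,
      map_mul, h2, hvv, mul_zero, add_zero, RingHom.id_apply] at h1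
    have h3 : (c + φ c) * (Bs φ n v x * Bs φ n x v) = 0 := by linear_combination h1
    rcases mul_eq_zero.1 h3 with h | h
    · exact h
    · exact absurd h (mul_ne_zero hx hx')
  -- the vectors w₁, w₂
  obtain ⟨N, hN⟩ : ∃ N : Submodule F (Fin n → F), N = Submodule.span F {v} := ⟨_, rfl⟩
  have hNfin : Module.finrank F N = 1 := by
    rw [hN]; exact finrank_span_singleton hv
  have hNle : N ≤ orth (Bs φ n) N := by
    rw [hN, Submodule.span_le]
    rintro _ rfl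
    intro w hw
    obtain ⟨a, rfl⟩ := Submodule.mem_span_singleton.1 hw
    rw [map_smulₛₗ, LinearMap.smul_apply, hvv, smul_zero]
  have horthfin : Module.finrank F (orth (Bs φ n) N) = n - 1 := by
    rw [finrank_orth hφs (Bs φ n) hB, hNfin, Module.finrank_fintype_fun_eq_card, Fintype.card_fin]
  obtain ⟨w₁, hw₁, hw₁N⟩ : ∃ w₁ ∈ orth (Bs φ n) N, w₁ ∉ N := by
    by_contra hcon
    push Not at hcon
    have : orth (Bs φ n) N ≤ N := hcon
    have := Submodule.finrank_mono this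
    omega
  obtain ⟨u, hu, huw⟩ : ∃ u ∈ orth (Bs φ n) N, Bs φ n u w₁ ≠ 0 := by
    by_contra hcon
    push Not at hcon
    apply hw₁N
    rw [← orth_orth hφs hS hB N]
    exact hcon
  obtain ⟨μ, hμ⟩ := exists_skew hφne hφ2 c hc
  obtain ⟨γ, hγ⟩ : ∃ γ, γ = Bs φ n u w₁ := ⟨_, rfl⟩
  obtain ⟨w₂, hw₂⟩ : ∃ w₂, w₂ = φ (μ / γ) • u := ⟨_, rfl⟩
  have hw₂orth : w₂ ∈ orth (Bs φ n) N := by rw [hw₂]; exact Submodule.smul_mem _ _ hu
  have hvN : v ∈ N := by rw [hN]; exact Submodule.mem_span_singleton_self v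
  have hvw₁ : Bs φ n v w₁ = 0 := hw₁ v hvN
  have hvw₂ : Bs φ n v w₂ = 0 := hw₂orth v hvN
  have hw₁v : Bs φ n w₁ v = 0 := symm_zero hS hvw₁
  have hw₂v : Bs φ n w₂ v = 0 := symm_zero hS hvw₂
  have hcw : Bs φ n w₂ w₁ - Bs φ n w₁ w₂ = c := by
    have h1 : Bs φ n w₂ w₁ = μ := by
      rw [hw₂, map_smulₛₗ, LinearMap.smul_apply, hφ2, ← hγ, smul_eq_mul, div_mul_cancel₀ _ (by rw [hγ]; exact huw)]
    have h2 : Bs φ n w₁ w₂ = φ μ := by
      rw [← hS.eq w₂ w₁, h1]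
    rw [h1, h2, hμ]
  obtain ⟨s₁, hs₁⟩ := exists_trace hφne hφ2 (Bs φ n w₁ w₁) (hS.eq w₁ w₁)
  obtain ⟨s₂, hs₂⟩ := exists_trace hφne hφ2 (Bs φ n w₂ w₂) (hS.eq w₂ w₂)
  -- the two elements of SU
  have hmk : ∀ (w : Fin n → F) (s : F), Bs φ n v w = 0 → Bs φ n w v = 0 → s + φ s + Bs φ n w w = 0 →
      ∃ E : ↥(Cfsg.SU n F q), ((E : Matrix.SpecialLinearGroup (Fin n) F) : Matrix (Fin n) (Fin n) F) = Em φ v w s := by
    intro w s h1 h2 h3
    refine ⟨⟨⟨Em φ v w s, Em_det φ hφ2 v w s hvv h1 h2⟩, ?_⟩, rfl⟩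
    intro a b
    show Cfsg.hermForm n F q (Em φ v w s *ᵥ a) (Em φ v w s *ᵥ b) = _
    rw [← Bs_eq_herm φ hφ, ← Bs_eq_herm φ hφ]
    exact Em_preserves φ hφ2 v w s hvv h1 h2 h3 b a
  obtain ⟨E₁, hE₁⟩ := hmk w₁ s₁ hvw₁ hw₁v hs₁
  obtain ⟨E₂, hE₂⟩ := hmk w₂ s₂ hvw₂ hw₂v hs₂
  have hrel : E₁ * E₂ = A * (E₂ * E₁) := by
    apply Subtype.ext
    apply Subtype.ext
    show ((E₁ : Matrix.SpecialLinearGroup (Fin n) F) : Matrix (Fin n) (Fin n) F) *
        ((E₂ : Matrix.SpecialLinearGroup (Fin n) F) : Matrix (Fin n) (Fin n) F) =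
      ((A : Matrix.SpecialLinearGroup (Fin n) F) : Matrix (Fin n) (Fin n) F) *
        (((E₂ : Matrix.SpecialLinearGroup (Fin n) F) : Matrix (Fin n) (Fin n) F) *
          ((E₁ : Matrix.SpecialLinearGroup (Fin n) F) : Matrix (Fin n) (Fin n) F))
    rw [hE₁, hE₂, hAm, Matrix.ext_iff_mulVec]
    intro x
    rw [← Matrix.mulVec_mulVec, ← Matrix.mulVec_mulVec, ← Matrix.mulVec_mulVec,
      Em_comm φ hφ2 v w₁ w₂ s₁ s₂ hvv hvw₁ hw₁v hvw₂ hw₂v x, hcw]
  refine ⟨E₁, E₂, ?_⟩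
  rw [commutatorElement_def, hrel]
  group

end Cfsg.Agent.S0781
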