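import Cfsg.Statements.S0519
import Cfsg.Agent.Lib.H22.NormalSeries
import Cfsg.Agent.Lib.H22.CyclicIndexP
import Cfsg.Agent.Lib.H22.AbelianCyclicExt
import Cfsg.Agent.Lib.H22.MaxClass2
import Cfsg.Agent.Lib.H16.NormalFour
import Cfsg.Agent.Lib.H8.PGroup
-- import your own Cfsg.Agent.* helpers here

set_option autoImplicit false
open Cfsg

namespace Cfsg.Agent.S0519

open Cfsg.Agent.Lib

/-- elements of `⟨a⟩` (order `2^n`) killed by `2^k` are in `⟨a^(2^(n-k))⟩`. -/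
theorem mem_zpowers_pow_of_pow_eq_one {G : Type*} [Group G] {a g : G} {n k : ℕ}
    (ha : orderOf a = 2 ^ n) (hk : k ≤ n) (hg : g ∈ Subgroup.zpowers a) (hgk : g ^ (2 ^ k) = 1) :
    g ∈ Subgroup.zpowers (a ^ (2 ^ (n - k))) := by
  have hfin : IsOfFinOrder a := by
    rw [← orderOf_pos_iff, ha]; positivity
  rw [← hfin.mem_powers_iff_mem_zpowers] at hg
  obtain ⟨j, rfl⟩ := hg
  rw [← pow_mul] at hgk
  have hdvd := orderOf_dvd_of_pow_eq_one hgk
  rw [ha] at hdvd
  have e : 2 ^ n = 2 ^ (n - k) * 2 ^ k := by rw [← pow_add]; congr 1; omega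
  rw [e] at hdvd
  have hd2 : 2 ^ (n - k) ∣ j := Nat.dvd_of_mul_dvd_mul_right (by positivity) hdvd
  obtain ⟨m, rfl⟩ := hd2
  show a ^ (2 ^ (n - k) * m) ∈ _
  rw [pow_mul]
  exact Subgroup.pow_mem _ (Subgroup.mem_zpowers _) m

/-- a 2-element whose square is nontrivial has a power of order exactly 4 -/
theorem exists_pow_order_four {G : Type*} [Group G] {g : G} {m : ℕ} (hg : g ^ (2 ^ m) = 1)
    (hg2 : g ^ 2 ≠ 1) : ∃ i : ℕ, (g ^ i) ^ 4 = 1 ∧ (g ^ i) ^ 2 ≠ 1 := by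
  have hdvd := orderOf_dvd_of_pow_eq_one hg
  obtain ⟨e, -, he⟩ := (Nat.dvd_prime_pow Nat.prime_two).mp hdvd
  have he2 : 2 ≤ e := by
    by_contra hlt
    push Not at hlt
    apply hg2
    have : orderOf g ∣ 2 := by
      rw [he]
      interval_cases e
      · norm_num
      · norm_num
    exact orderOf_dvd_iff_pow_eq_one.mp this
  refine ⟨2 ^ (e - 2), ?_, ?_⟩
  · rw [← pow_mul]
    have : 2 ^ (e - 2) * 4 = 2 ^ e := by
      have : (4 : ℕ) = 2 ^ 2 := by norm_num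
      rw [this, ← pow_add]; congr 1; omega
    rw [this, ← he, pow_orderOf_eq_one]
  · rw [← pow_mul]
    have : 2 ^ (e - 2) * 2 = 2 ^ (e - 1) := by
      rw [← pow_succ]; congr 1; omega
    rw [this]
    apply pow_ne_one_of_lt_orderOf (by positivity)
    rw [he]
    exact Nat.pow_lt_pow_right (by norm_num) (by omega)


theorem eq_of_sq_eq_one_of_isCyclic {G : Type*} [Group G] [Finite G] [IsCyclic G] {x y : G}
    (hx : x ^ 2 = 1) (hy : y ^ 2 = 1) (hx1 : x ≠ 1) (hy1 : y ≠ 1) : x = y := by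
  classical
  have := Fintype.ofFinite G
  by_contra hne
  have hle := IsCyclic.card_pow_eq_one_le (α := G) (n := 2) (by norm_num)
  have hsub : ({1, x, y} : Finset G) ⊆ Finset.univ.filter (fun a : G => a ^ 2 = 1) := by
    intro g hg
    simp only [Finset.mem_insert, Finset.mem_singleton] at hg
    simp only [Finset.mem_filter, Finset.mem_univ, true_and]
    rcases hg with rfl | rfl | rfl
    · exact one_pow _
    · exact hx
    · exact hy
  have hcard : ({1, x, y} : Finset G).card = 3 := by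
    rw [Finset.card_insert_of_notMem, Finset.card_insert_of_notMem, Finset.card_singleton]
    · simpa using hne
    · simp only [Finset.mem_insert, Finset.mem_singleton, not_or]
      exact ⟨Ne.symm hx1, Ne.symm hy1⟩
  have := Finset.card_le_card hsub
  omega

/-- if `b a b⁻¹ a⁻¹ ∈ N` (normal), then all commutators of `⟨a⟩⟨b⟩` lie in `N`. -/
theorem comm_mem_of_gens {P : Type*} [Group P] (N : Subgroup P) [N.Normal] (a b : P)
    (hb : b * a * b⁻¹ * a⁻¹ ∈ N) :
    ∀ g ∈ Subgroup.zpowers a ⊔ Subgroup.zpowers b, ∀ h ∈ Subgroup.zpowers a ⊔ Subgroup.zpowers b,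
      g * h * g⁻¹ * h⁻¹ ∈ N := by
  let π := QuotientGroup.mk' N
  have hab : π b * π a = π a * π b := by
    have h1 : π (b * a * b⁻¹ * a⁻¹) = 1 := (QuotientGroup.eq_one_iff _).mpr hb
    simp only [map_mul, map_inv] at h1
    calc π b * π a = (π b * π a * (π b)⁻¹ * (π a)⁻¹) * π a * π b := by group
      _ = π a * π b := by rw [h1, one_mul]
  have key : ∀ u : P ⧸ N, π a * u = u * π a → π b * u = u * π b →
      ∀ g ∈ Subgroup.zpowers a ⊔ Subgroup.zpowers b, π g * u = u * π g := by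
    intro u hua hub g hg
    have hle : Subgroup.zpowers a ⊔ Subgroup.zpowers b ≤
        (Subgroup.centralizer ({u} : Set (P ⧸ N))).comap π := by
      apply sup_le
      · rw [Subgroup.zpowers_le, Subgroup.mem_comap, Subgroup.mem_centralizer_iff]
        intro v hv
        rw [Set.mem_singleton_iff] at hv
        subst hv
        exact hua.symm
      · rw [Subgroup.zpowers_le, Subgroup.mem_comap, Subgroup.mem_centralizer_iff]
        intro v hv
        rw [Set.mem_singleton_iff] at hv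
        subst hv
        exact hub.symm
    have := hle hg
    rw [Subgroup.mem_comap, Subgroup.mem_centralizer_iff] at this
    exact (this u rfl).symm
  have s1 : ∀ g ∈ Subgroup.zpowers a ⊔ Subgroup.zpowers b, π g * π a = π a * π g :=
    key (π a) rfl hab
  have s2 : ∀ g ∈ Subgroup.zpowers a ⊔ Subgroup.zpowers b, π g * π b = π b * π g :=
    key (π b) hab.symm rfl
  intro g hg h hh
  have s3 := key (π h) (s1 h hh).symm (s2 h hh).symm g hg
  rw [← QuotientGroup.eq_one_iff]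
  show π (g * h * g⁻¹ * h⁻¹) = 1
  simp only [map_mul, map_inv]
  rw [s3]
  group

structure Ctx (P : Type*) [Group P] [Finite P] (a : P) (n : ℕ) : Prop where
  hP : IsPGroup 2 P
  hn : ∀ A : Subgroup P, A.Normal → IsMulCommutative A → IsCyclic A
  ord : orderOf a = 2 ^ n
  normal : (Subgroup.zpowers a).Normal
  cent : Subgroup.centralizer (Subgroup.zpowers a : Set P) = Subgroup.zpowers a
  ne_top : Subgroup.zpowers a ≠ ⊤

namespace Ctx

variable {P : Type*} [Group P] [Finite P] {a : P} {n : ℕ}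

theorem mem_of_comm (h : Ctx P a n) {x : P} (hx : x * a = a * x) : x ∈ Subgroup.zpowers a := by
  rw [← h.cent, Subgroup.mem_centralizer_iff]
  intro g hg
  obtain ⟨i, rfl⟩ := Subgroup.mem_zpowers_iff.mp hg
  exact ((Commute.zpow_right (show Commute x a from hx) i).eq).symm

theorem exists_not_mem (h : Ctx P a n) : ∃ y : P, y ∉ Subgroup.zpowers a := by
  by_contra hno
  push Not at hno
  exact h.ne_top (eq_top_iff.mpr fun y _ => hno y)

theorem two_le (h : Ctx P a n) : 2 ≤ n := by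
  by_contra hlt
  push Not at hlt
  obtain ⟨y, hy⟩ := h.exists_not_mem
  apply hy
  apply h.mem_of_comm
  have hn1 : n = 0 ∨ n = 1 := by omega
  rcases hn1 with rfl | rfl
  · have : a = 1 := by
      have := h.ord
      rwa [pow_zero, orderOf_eq_one_iff] at this
    rw [this, mul_one, one_mul]
  · have hnm := h.normal
    obtain ⟨k, hk, hc⟩ := H16.exists_odd_pow_of_normal (le_refl 1) h.ord hnm y
    have h1 := hc a (Subgroup.mem_zpowers a)
    obtain ⟨t, rfl⟩ := hk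
    have ha2 : a ^ 2 = 1 := by
      have := pow_orderOf_eq_one a
      rwa [h.ord, pow_one] at this
    rw [pow_succ, pow_mul, ha2, one_pow, one_mul] at h1
    calc y * a = y * a * y⁻¹ * y := by group
      _ = a * y := by rw [h1]

theorem w_sq (h : Ctx P a n) : (a ^ (2 ^ (n - 2))) ^ 2 = a ^ (2 ^ (n - 1)) := by
  have := h.two_le
  rw [← pow_mul, ← pow_succ]
  congr 2; omega

theorem z_sq (h : Ctx P a n) : (a ^ (2 ^ (n - 1))) ^ 2 = 1 := by
  have := h.two_le
  rw [← pow_mul, ← pow_succ]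
  have e : n - 1 + 1 = n := by omega
  rw [e, ← h.ord, pow_orderOf_eq_one]

theorem z_ne_one (h : Ctx P a n) : a ^ (2 ^ (n - 1)) ≠ 1 := by
  have := h.two_le
  apply pow_ne_one_of_lt_orderOf (by positivity)
  rw [h.ord]
  exact Nat.pow_lt_pow_right (by norm_num) (by omega)

theorem w_pow_four (h : Ctx P a n) : (a ^ (2 ^ (n - 2))) ^ 4 = 1 := by
  have e : (4 : ℕ) = 2 * 2 := by norm_num
  rw [e, pow_mul, h.w_sq, h.z_sq]

theorem z_mem (h : Ctx P a n) : a ^ (2 ^ (n - 1)) ∈ Subgroup.zpowers a :=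
  Subgroup.pow_mem _ (Subgroup.mem_zpowers a) _

theorem w_mem (h : Ctx P a n) : a ^ (2 ^ (n - 2)) ∈ Subgroup.zpowers a :=
  Subgroup.pow_mem _ (Subgroup.mem_zpowers a) _

theorem exists_odd (h : Ctx P a n) (s : P) :
    ∃ k : ℕ, Odd k ∧ ∀ x ∈ Subgroup.zpowers a, s * x * s⁻¹ = x ^ k :=
  H16.exists_odd_pow_of_normal (by have := h.two_le; omega) h.ord h.normal s

theorem z_central (h : Ctx P a n) (s : P) : s * a ^ (2 ^ (n - 1)) = a ^ (2 ^ (n - 1)) * s := by
  obtain ⟨k, hk, hc⟩ := h.exists_odd s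
  have h1 := hc _ h.z_mem
  obtain ⟨t, rfl⟩ := hk
  rw [pow_succ, pow_mul, h.z_sq, one_pow, one_mul] at h1
  calc s * a ^ (2 ^ (n - 1)) = s * a ^ (2 ^ (n - 1)) * s⁻¹ * s := by group
    _ = _ := by rw [h1]

theorem conj_w (h : Ctx P a n) (s : P) :
    s * a ^ (2 ^ (n - 2)) * s⁻¹ = a ^ (2 ^ (n - 2)) ∨
    s * a ^ (2 ^ (n - 2)) * s⁻¹ = (a ^ (2 ^ (n - 2)))⁻¹ := by
  obtain ⟨k, hk, hc⟩ := h.exists_odd s
  have h1 := hc _ h.w_mem
  rw [h1]
  obtain ⟨t, rfl⟩ := hk
  rcases Nat.even_or_odd' t with ⟨u, rfl | rfl⟩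
  · left
    have : 2 * (2 * u) + 1 = 4 * u + 1 := by ring
    rw [this, pow_succ, pow_mul, h.w_pow_four, one_pow, one_mul]
  · right
    have : 2 * (2 * u + 1) + 1 = 4 * u + 3 := by ring
    rw [this, pow_add, pow_mul, h.w_pow_four, one_pow, one_mul]
    apply eq_inv_of_mul_eq_one_left
    rw [← pow_succ]
    exact h.w_pow_four

theorem mem_zpowers_w (h : Ctx P a n) {g : P} (hg : g ∈ Subgroup.zpowers a) (hg4 : g ^ 4 = 1) :
    g ∈ Subgroup.zpowers (a ^ (2 ^ (n - 2))) :=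
  mem_zpowers_pow_of_pow_eq_one h.ord h.two_le hg (by simpa using hg4)

theorem eq_one_or_z (h : Ctx P a n) {g : P} (hg : g ∈ Subgroup.zpowers a) (hg2 : g ^ 2 = 1) :
    g = 1 ∨ g = a ^ (2 ^ (n - 1)) := by
  have h1 : g ∈ Subgroup.zpowers (a ^ (2 ^ (n - 1))) :=
    mem_zpowers_pow_of_pow_eq_one h.ord (by have := h.two_le; omega) hg (by simpa using hg2)
  obtain ⟨i, rfl⟩ := Subgroup.mem_zpowers_iff.mp h1
  rcases Int.even_or_odd' i with ⟨u, rfl | rfl⟩
  · left
    rw [zpow_mul, zpow_two, ← pow_two, h.z_sq, one_zpow]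
  · right
    rw [zpow_add, zpow_mul, zpow_two, ← pow_two, h.z_sq, one_zpow, one_mul, zpow_one]

theorem pow_two_pow_eq_one (h : Ctx P a n) {g : P} (hg : g ∈ Subgroup.zpowers a) :
    g ^ (2 ^ n) = 1 := by
  obtain ⟨i, rfl⟩ := Subgroup.mem_zpowers_iff.mp hg
  rw [← zpow_natCast, ← zpow_mul, mul_comm, zpow_mul, zpow_natCast, ← h.ord, pow_orderOf_eq_one,
    one_zpow]

/-- if `s` both centralizes and inverts `g ∈ ⟨a⟩`, with `s` acting trivially or by inversion on `w`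
compatible, then `g² = 1`.  Precisely: if `s` centralizes `g` and inverts `w`, or inverts `g` and
centralizes `w`, then `g^2 = 1`. -/
theorem sq_eq_one_of_cent_inv (h : Ctx P a n) {g s : P} (hg : g ∈ Subgroup.zpowers a)
    (hc : (s * g * s⁻¹ = g ∧ s * a ^ (2 ^ (n - 2)) * s⁻¹ = (a ^ (2 ^ (n - 2)))⁻¹) ∨
      (s * g * s⁻¹ = g⁻¹ ∧ s * a ^ (2 ^ (n - 2)) * s⁻¹ = a ^ (2 ^ (n - 2)))) : g ^ 2 = 1 := by
  by_contra hg2
  obtain ⟨i, hi4, hi2⟩ := exists_pow_order_four (h.pow_two_pow_eq_one hg) hg2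
  have hmem : g ^ i ∈ Subgroup.zpowers (a ^ (2 ^ (n - 2))) :=
    h.mem_zpowers_w (Subgroup.pow_mem _ hg i) hi4
  obtain ⟨j, hj⟩ := Subgroup.mem_zpowers_iff.mp hmem
  apply hi2
  rcases hc with ⟨h1, h2⟩ | ⟨h1, h2⟩
  · -- s centralizes g^i, inverts it
    have e1 : s * g ^ i * s⁻¹ = g ^ i := by rw [← conj_pow, h1]
    have e2 : s * g ^ i * s⁻¹ = (g ^ i)⁻¹ := by
      rw [← hj, ← conj_zpow, h2, inv_zpow]
    rw [e1] at e2
    rw [pow_two]
    nth_rewrite 1 [e2]
    exact inv_mul_cancel _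
  · have e1 : s * g ^ i * s⁻¹ = (g ^ i)⁻¹ := by rw [← conj_pow, h1, inv_pow]
    have e2 : s * g ^ i * s⁻¹ = g ^ i := by
      rw [← hj, ← conj_zpow, h2]
    rw [e1] at e2
    rw [pow_two]
    nth_rewrite 1 [← e2]
    exact inv_mul_cancel _

theorem comm_of_mem (h : Ctx P a n) {g k : P} (hg : g ∈ Subgroup.zpowers a)
    (hk : k ∈ Subgroup.zpowers a) : g * k = k * g := by
  obtain ⟨i, rfl⟩ := Subgroup.mem_zpowers_iff.mp hg
  obtain ⟨j, rfl⟩ := Subgroup.mem_zpowers_iff.mp hk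
  rw [← zpow_add, ← zpow_add, add_comm]

theorem key1 (h : Ctx P a n) {x : P} (hx : x * a ^ (2 ^ (n - 2)) = a ^ (2 ^ (n - 2)) * x) :
    x ∈ Subgroup.zpowers a := by
  by_contra hxA
  have hAn := h.normal
  have hWn : (Subgroup.zpowers (a ^ (2 ^ (n - 2)))).Normal := by
    constructor
    intro g hg s
    obtain ⟨i, rfl⟩ := Subgroup.mem_zpowers_iff.mp hg
    rw [← conj_zpow]
    apply Subgroup.zpow_mem
    rcases h.conj_w s with e | e
    · rw [e]; exact Subgroup.mem_zpowers _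
    · rw [e]; exact Subgroup.inv_mem _ (Subgroup.mem_zpowers _)
  have hCn : (Subgroup.centralizer (Subgroup.zpowers (a ^ (2 ^ (n - 2))) : Set P)).Normal :=
    Subgroup.normal_centralizer
  have hmemC : ∀ g : P, g ∈ Subgroup.centralizer (Subgroup.zpowers (a ^ (2 ^ (n - 2))) : Set P) ↔
      g * a ^ (2 ^ (n - 2)) = a ^ (2 ^ (n - 2)) * g := by
    intro g
    rw [Subgroup.mem_centralizer_iff]
    constructor
    · intro hg
      exact (hg _ (Subgroup.mem_zpowers _)).symm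
    · intro hg v hv
      obtain ⟨i, rfl⟩ := Subgroup.mem_zpowers_iff.mp hv
      exact ((Commute.zpow_right (show Commute g _ from hg) i).eq).symm
  have hAC : Subgroup.zpowers a ≤
      Subgroup.centralizer (Subgroup.zpowers (a ^ (2 ^ (n - 2))) : Set P) := by
    intro g hg
    rw [hmemC]
    exact h.comm_of_mem hg h.w_mem
  have hlt : Subgroup.zpowers a <
      Subgroup.centralizer (Subgroup.zpowers (a ^ (2 ^ (n - 2))) : Set P) :=
    lt_of_le_of_ne hAC (fun e => hxA (e ▸ (hmemC x).mpr hx))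
  have : Fact (Nat.Prime 2) := ⟨Nat.prime_two⟩
  obtain ⟨B, hBn, hAB, hBC, hcard, hcomm, b, hbB, hbA, hb2, hBeq⟩ :=
    H22.exists_normal_step h.hP _ _ hlt
  have hbw : b * a ^ (2 ^ (n - 2)) = a ^ (2 ^ (n - 2)) * b := (hmemC b).mp (hBC hbB)
  have hbw' : b * a ^ (2 ^ (n - 2)) * b⁻¹ = a ^ (2 ^ (n - 2)) := by
    rw [hbw]; group
  -- the commutator c
  have hcA : b * a * b⁻¹ * a⁻¹ ∈ Subgroup.zpowers a :=
    Subgroup.mul_mem _ (hAn.conj_mem a (Subgroup.mem_zpowers a) b)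
      (Subgroup.inv_mem _ (Subgroup.mem_zpowers a))
  have hb2c : b * b * a = a * (b * b) := by
    have : b * b ∈ Subgroup.zpowers a := by rw [← pow_two]; exact hb2
    exact h.comm_of_mem this (Subgroup.mem_zpowers a)
  have hinv : b * (b * a * b⁻¹ * a⁻¹) * b⁻¹ = (b * a * b⁻¹ * a⁻¹)⁻¹ := by
    calc b * (b * a * b⁻¹ * a⁻¹) * b⁻¹ = (b * b * a) * b⁻¹ * b⁻¹ * (b * a⁻¹ * b⁻¹) := by group
      _ = (a * (b * b)) * b⁻¹ * b⁻¹ * (b * a⁻¹ * b⁻¹) := by rw [hb2c]
      _ = _ := by group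
  have hc2 : (b * a * b⁻¹ * a⁻¹) ^ 2 = 1 := h.sq_eq_one_of_cent_inv hcA (Or.inr ⟨hinv, hbw'⟩)
  have hc1 : b * a * b⁻¹ * a⁻¹ ≠ 1 := by
    intro e
    apply hbA
    apply h.mem_of_comm
    calc b * a = (b * a * b⁻¹ * a⁻¹) * a * b := by group
      _ = a * b := by rw [e, one_mul]
  have hba : b * a * b⁻¹ * a⁻¹ = a ^ (2 ^ (n - 1)) := by
    rcases h.eq_one_or_z hcA hc2 with e | e
    · exact absurd e hc1
    · exact e
  -- N = <z>
  have hNcent : ∀ ζ ∈ Subgroup.zpowers (a ^ (2 ^ (n - 1))), ∀ s : P, s * ζ = ζ * s := by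
    intro ζ hζ s
    obtain ⟨i, rfl⟩ := Subgroup.mem_zpowers_iff.mp hζ
    exact (Commute.zpow_right (show Commute s _ from h.z_central s) i).eq
  have hNsq : ∀ ζ ∈ Subgroup.zpowers (a ^ (2 ^ (n - 1))), ζ ^ 2 = 1 := by
    intro ζ hζ
    obtain ⟨i, rfl⟩ := Subgroup.mem_zpowers_iff.mp hζ
    rw [← zpow_natCast, ← zpow_mul, mul_comm, zpow_mul, zpow_natCast, h.z_sq, one_zpow]
  have hNA : Subgroup.zpowers (a ^ (2 ^ (n - 1))) ≤ Subgroup.zpowers a := by
    rw [Subgroup.zpowers_le]; exact h.z_mem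
  have hNn : (Subgroup.zpowers (a ^ (2 ^ (n - 1)))).Normal := by
    constructor
    intro ζ hζ s
    rw [hNcent ζ hζ s, mul_inv_cancel_right]
    exact hζ
  have hcommB : ∀ g ∈ B, ∀ k ∈ B, g * k * g⁻¹ * k⁻¹ ∈ Subgroup.zpowers (a ^ (2 ^ (n - 1))) := by
    rw [hBeq]
    apply comm_mem_of_gens
    rw [hba]
    exact Subgroup.mem_zpowers _
  -- the subgroup T
  let T : Subgroup P :=
    { carrier := {g | g ∈ B ∧ g ^ 2 ∈ Subgroup.zpowers (a ^ (2 ^ (n - 1)))}
      one_mem' := ⟨B.one_mem, by rw [one_pow]; exact Subgroup.one_mem _⟩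
      inv_mem' := by
        intro g hg
        exact ⟨B.inv_mem hg.1, by rw [inv_pow]; exact Subgroup.inv_mem _ hg.2⟩
      mul_mem' := by
        intro g k hg hk
        refine ⟨B.mul_mem hg.1 hk.1, ?_⟩
        have e : (g * k) ^ 2 = g ^ 2 * (g⁻¹ * k * g⁻¹⁻¹ * k⁻¹) * k ^ 2 := by
          simp only [pow_two]; group
        rw [e]
        exact Subgroup.mul_mem _ (Subgroup.mul_mem _ hg.2 (hcommB _ (B.inv_mem hg.1) _ hk.1)) hk.2 }
  have hTmem : ∀ g : P, g ∈ T ↔ g ∈ B ∧ g ^ 2 ∈ Subgroup.zpowers (a ^ (2 ^ (n - 1))) :=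
    fun g => Iff.rfl
  have hTn : T.Normal := by
    constructor
    intro g hg s
    rw [hTmem] at hg ⊢
    refine ⟨hBn.conj_mem g hg.1 s, ?_⟩
    rw [conj_pow, hNcent _ hg.2 s, mul_inv_cancel_right]
    exact hg.2
  have hTA : ∀ g ∈ T, g ∈ Subgroup.zpowers a → g ∈ Subgroup.zpowers (a ^ (2 ^ (n - 2))) := by
    intro g hg hgA
    apply h.mem_zpowers_w hgA
    have e : (4 : ℕ) = 2 * 2 := by norm_num
    rw [e, pow_mul]
    exact hNsq _ hg.2
  have hBcommW : ∀ g ∈ B, ∀ v ∈ Subgroup.zpowers (a ^ (2 ^ (n - 2))), g * v = v * g := by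
    intro g hg v hv
    have := hBC hg
    rw [Subgroup.mem_centralizer_iff] at this
    exact (this v hv).symm
  have hidx : ((Subgroup.zpowers a).subgroupOf B).index = 2 := by
    have h1 := Subgroup.card_mul_index ((Subgroup.zpowers a).subgroupOf B)
    rw [Nat.card_congr (Subgroup.subgroupOfEquivOfLe hAB).toEquiv, hcard] at h1
    have hpos : 0 < Nat.card (Subgroup.zpowers a) := Nat.card_pos
    have : Nat.card (Subgroup.zpowers a) * ((Subgroup.zpowers a).subgroupOf B).index =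
        Nat.card (Subgroup.zpowers a) * 2 := by rw [h1, mul_comm]
    exact Nat.eq_of_mul_eq_mul_left hpos this
  have hmul : ∀ g ∈ B, ∀ k ∈ B, g * k ∈ Subgroup.zpowers a ↔
      (g ∈ Subgroup.zpowers a ↔ k ∈ Subgroup.zpowers a) := by
    intro g hg k hk
    have := Subgroup.mul_mem_iff_of_index_two hidx (a := ⟨g, hg⟩) (b := ⟨k, hk⟩)
    simpa [Subgroup.mem_subgroupOf] using this
  have hTcomm : ∀ g ∈ T, ∀ k ∈ T, g * k = k * g := by
    intro g hg k hk
    by_cases hgA : g ∈ Subgroup.zpowers a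
    · by_cases hkA : k ∈ Subgroup.zpowers a
      · exact h.comm_of_mem hgA hkA
      · exact (hBcommW k hk.1 g (hTA g hg hgA)).symm
    · by_cases hkA : k ∈ Subgroup.zpowers a
      · exact hBcommW g hg.1 k (hTA k hk hkA)
      · have h1 : g⁻¹ * k ∈ Subgroup.zpowers a := by
          rw [hmul _ (B.inv_mem hg.1) _ hk.1, inv_mem_iff]
          exact ⟨fun e => absurd e hgA, fun e => absurd e hkA⟩
        have h2 : g⁻¹ * k ∈ T := T.mul_mem (T.inv_mem hg) hk
        have h3 := hBcommW g hg.1 _ (hTA _ h2 h1)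
        calc g * k = g * (g * (g⁻¹ * k)) := by group
          _ = g * ((g⁻¹ * k) * g) := by rw [h3]
          _ = k * g := by group
  have hTc : IsMulCommutative T := ⟨⟨fun x y => Subtype.ext (hTcomm x.1 x.2 y.1 y.2)⟩⟩
  have hTcyc : IsCyclic T := h.hn T hTn hTc
  -- an element of T outside A
  have hfin : IsOfFinOrder a := by
    rw [← orderOf_pos_iff, h.ord]; positivity
  have hb2' := hb2
  rw [← hfin.mem_powers_iff_mem_zpowers] at hb2'
  obtain ⟨j, hj⟩ := hb2'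
  have hj : a ^ j = b ^ 2 := hj
  have hbza : b * a * b⁻¹ = a ^ (2 ^ (n - 1)) * a := by
    rw [← hba]; group
  have hzacomm : Commute (a ^ (2 ^ (n - 1))) a := (Commute.refl a).pow_left _
  have hconjpow : ∀ i : ℕ, b * a ^ i * b⁻¹ = (a ^ (2 ^ (n - 1))) ^ i * a ^ i := by
    intro i
    rw [← conj_pow, hbza, hzacomm.mul_pow]
  have hzj : (a ^ (2 ^ (n - 1))) ^ j = 1 := by
    have h1 := hconjpow j
    have h2 : b * a ^ j * b⁻¹ = a ^ j := by
      rw [hj, pow_two]; group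
    rw [h2] at h1
    exact (mul_eq_right.mp h1.symm)
  have hjeven : Even j := by
    by_contra hodd
    rw [Nat.not_even_iff_odd] at hodd
    obtain ⟨i, rfl⟩ := hodd
    rw [pow_succ, pow_mul, h.z_sq, one_pow, one_mul] at hzj
    exact h.z_ne_one hzj
  obtain ⟨i, rfl⟩ := hjeven
  have hbb : b * b = a ^ i * a ^ i := by
    rw [← pow_two, ← hj, pow_add]
  have hζ : (a ^ (2 ^ (n - 1))) ^ i ∈ Subgroup.zpowers (a ^ (2 ^ (n - 1))) :=
    Subgroup.pow_mem _ (Subgroup.mem_zpowers _) i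
  have hζc := hNcent _ (Subgroup.inv_mem _ hζ)
  have htB : (a ^ i)⁻¹ * b ∈ B :=
    B.mul_mem (B.inv_mem (hAB (Subgroup.pow_mem _ (Subgroup.mem_zpowers a) i))) hbB
  have ht2 : ((a ^ i)⁻¹ * b) ^ 2 = ((a ^ (2 ^ (n - 1))) ^ i)⁻¹ := by
    calc ((a ^ i)⁻¹ * b) ^ 2 = (a ^ i)⁻¹ * (b * a ^ i * b⁻¹)⁻¹ * (b * b) := by
          simp only [pow_two]; group
      _ = (a ^ i)⁻¹ * ((a ^ (2 ^ (n - 1))) ^ i * a ^ i)⁻¹ * (a ^ i * a ^ i) := by
          rw [hconjpow, hbb]
      _ = ((a ^ i)⁻¹ * (a ^ i)⁻¹) * ((a ^ (2 ^ (n - 1))) ^ i)⁻¹ * (a ^ i * a ^ i) := by group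
      _ = ((a ^ (2 ^ (n - 1))) ^ i)⁻¹ * ((a ^ i)⁻¹ * (a ^ i)⁻¹) * (a ^ i * a ^ i) := by
          rw [hζc]
      _ = _ := by group
  have htT : (a ^ i)⁻¹ * b ∈ T := by
    rw [hTmem]
    refine ⟨htB, ?_⟩
    rw [ht2]
    exact Subgroup.inv_mem _ hζ
  have htA : (a ^ i)⁻¹ * b ∉ Subgroup.zpowers a := by
    intro hmem
    apply hbA
    have : b = a ^ i * ((a ^ i)⁻¹ * b) := by group
    rw [this]
    exact Subgroup.mul_mem _ (Subgroup.pow_mem _ (Subgroup.mem_zpowers a) i) hmem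
  have hwT : a ^ (2 ^ (n - 2)) ∈ T := by
    rw [hTmem]
    refine ⟨hAB h.w_mem, ?_⟩
    rw [h.w_sq]
    exact Subgroup.mem_zpowers _
  obtain ⟨u, huT, huA, hu2⟩ : ∃ u ∈ T, u ∉ Subgroup.zpowers a ∧ u ^ 2 = 1 := by
    have h1 : ((a ^ i)⁻¹ * b) ^ 2 ∈ Subgroup.zpowers (a ^ (2 ^ (n - 1))) := htT.2
    rcases h.eq_one_or_z (hNA h1) (hNsq _ h1) with e | e
    · exact ⟨_, htT, htA, e⟩
    · refine ⟨(a ^ i)⁻¹ * b * (a ^ (2 ^ (n - 2)))⁻¹, T.mul_mem htT (T.inv_mem hwT), ?_, ?_⟩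
      · intro hmem
        apply htA
        have : (a ^ i)⁻¹ * b = ((a ^ i)⁻¹ * b * (a ^ (2 ^ (n - 2)))⁻¹) * a ^ (2 ^ (n - 2)) := by
          group
        rw [this]
        exact Subgroup.mul_mem _ hmem h.w_mem
      · have hc := hBcommW _ htB _ (Subgroup.inv_mem _ (Subgroup.mem_zpowers (a ^ (2 ^ (n - 2)))))
        calc ((a ^ i)⁻¹ * b * (a ^ (2 ^ (n - 2)))⁻¹) ^ 2
            = (a ^ i)⁻¹ * b * ((a ^ (2 ^ (n - 2)))⁻¹ * ((a ^ i)⁻¹ * b)) * (a ^ (2 ^ (n - 2)))⁻¹ := by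
              simp only [pow_two]; group
          _ = (a ^ i)⁻¹ * b * (((a ^ i)⁻¹ * b) * (a ^ (2 ^ (n - 2)))⁻¹) * (a ^ (2 ^ (n - 2)))⁻¹ := by
              rw [hc]
          _ = ((a ^ i)⁻¹ * b) ^ 2 * ((a ^ (2 ^ (n - 2))) ^ 2)⁻¹ := by
              simp only [pow_two]; group
          _ = 1 := by rw [e, h.w_sq, mul_inv_cancel]
  have hzT : a ^ (2 ^ (n - 1)) ∈ T := by
    rw [hTmem]
    refine ⟨hAB h.z_mem, ?_⟩
    rw [h.z_sq]
    exact Subgroup.one_mem _
  have := @eq_of_sq_eq_one_of_isCyclic T _ _ hTcyc ⟨_, hzT⟩ ⟨u, huT⟩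
    (Subtype.ext (by simpa using h.z_sq)) (Subtype.ext (by simpa using hu2))
    (fun e => h.z_ne_one (by simpa using congrArg Subtype.val e))
    (fun e => huA (by
      have : u = 1 := by simpa using congrArg Subtype.val e
      rw [this]; exact Subgroup.one_mem _))
  apply huA
  have e : a ^ (2 ^ (n - 1)) = u := by simpa using congrArg Subtype.val this
  rw [← e]
  exact h.z_mem


theorem inverts_w (h : Ctx P a n) {y : P} (hy : y ∉ Subgroup.zpowers a) :
    y * a ^ (2 ^ (n - 2)) * y⁻¹ = (a ^ (2 ^ (n - 2)))⁻¹ := by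
  rcases h.conj_w y with e | e
  · exfalso
    apply hy
    apply h.key1
    calc y * a ^ (2 ^ (n - 2)) = y * a ^ (2 ^ (n - 2)) * y⁻¹ * y := by group
      _ = _ := by rw [e]
  · exact e

theorem mul_inv_mem (h : Ctx P a n) {y g : P} (hy : y ∉ Subgroup.zpowers a)
    (hg : g ∉ Subgroup.zpowers a) : g * y⁻¹ ∈ Subgroup.zpowers a := by
  apply h.key1
  have h1 := h.inverts_w hy
  have h2 := h.inverts_w hg
  have h3 : y⁻¹ * a ^ (2 ^ (n - 2)) * y = (a ^ (2 ^ (n - 2)))⁻¹ := by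
    have : a ^ (2 ^ (n - 2)) = y⁻¹ * (y * a ^ (2 ^ (n - 2)) * y⁻¹) * y := by group
    rw [h1] at this
    calc y⁻¹ * a ^ (2 ^ (n - 2)) * y = (y⁻¹ * (a ^ (2 ^ (n - 2)))⁻¹ * y)⁻¹ := by group
      _ = _ := by rw [← this]
  calc g * y⁻¹ * a ^ (2 ^ (n - 2)) = g * (y⁻¹ * a ^ (2 ^ (n - 2)) * y) * g⁻¹ * (g * y⁻¹) := by group
    _ = (g * a ^ (2 ^ (n - 2)) * g⁻¹)⁻¹ * (g * y⁻¹) := by rw [h3]; group
    _ = _ := by rw [h2, inv_inv]

theorem index_two (h : Ctx P a n) : (Subgroup.zpowers a).index = 2 := by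
  obtain ⟨y, hy⟩ := h.exists_not_mem
  rw [Subgroup.index_eq_two_iff]
  refine ⟨y⁻¹, fun g => ?_⟩
  by_cases hg : g ∈ Subgroup.zpowers a
  · right
    refine ⟨hg, fun hmem => hy ?_⟩
    have : y⁻¹ = g⁻¹ * (g * y⁻¹) := by group
    rw [← inv_mem_iff, this]
    exact Subgroup.mul_mem _ (Subgroup.inv_mem _ hg) hmem
  · left
    exact ⟨h.mul_inv_mem hy hg, hg⟩

theorem card_eq (h : Ctx P a n) : Nat.card P = 2 ^ (n + 1) := by
  have := Subgroup.card_mul_index (Subgroup.zpowers a)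
  rw [h.index_two, Nat.card_zpowers, h.ord] at this
  rw [← this, pow_succ]

theorem sup_eq_top (h : Ctx P a n) {y : P} (hy : y ∉ Subgroup.zpowers a) :
    Subgroup.zpowers a ⊔ Subgroup.zpowers y = ⊤ := by
  rw [eq_top_iff]
  intro g _
  by_cases hg : g ∈ Subgroup.zpowers a
  · exact (le_sup_left : Subgroup.zpowers a ≤ _) hg
  · have : g = (g * y⁻¹) * y := by group
    rw [this]
    exact Subgroup.mul_mem _ ((le_sup_left : Subgroup.zpowers a ≤ _) (h.mul_inv_mem hy hg))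
      ((le_sup_right : Subgroup.zpowers y ≤ _) (Subgroup.mem_zpowers y))

theorem commutator_index (h : Ctx P a n) : (commutator P).index = 4 := by
  obtain ⟨y, hy⟩ := h.exists_not_mem
  have hAn := h.normal
  have h1 := H22.card_commutator_mul_card_centralizer (Subgroup.zpowers a)
    (fun b hb c hc => h.comm_of_mem hb hc) y (h.sup_eq_top hy)
  have h2 : Subgroup.zpowers a ⊓ Subgroup.centralizer {y} =
      Subgroup.zpowers (a ^ (2 ^ (n - 1))) := by
    apply le_antisymm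
    · intro g hg
      rw [Subgroup.mem_inf, Subgroup.mem_centralizer_iff] at hg
      have hgy : y * g * y⁻¹ = g := by
        have := hg.2 y rfl
        rw [this]; group
      have hg2 := h.sq_eq_one_of_cent_inv hg.1 (Or.inl ⟨hgy, h.inverts_w hy⟩)
      rcases h.eq_one_or_z hg.1 hg2 with e | e
      · rw [e]; exact Subgroup.one_mem _
      · rw [e]; exact Subgroup.mem_zpowers _
    · rw [Subgroup.zpowers_le, Subgroup.mem_inf, Subgroup.mem_centralizer_iff]
      refine ⟨h.z_mem, ?_⟩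
      intro v hv
      rw [Set.mem_singleton_iff] at hv
      subst hv
      exact h.z_central v
  have h3 : Nat.card (Subgroup.zpowers (a ^ (2 ^ (n - 1)))) = 2 := by
    rw [Nat.card_zpowers]
    exact orderOf_eq_prime h.z_sq h.z_ne_one
  rw [h2, h3, Nat.card_zpowers, h.ord] at h1
  have h4 := Subgroup.card_mul_index (commutator P)
  rw [h.card_eq] at h4
  have hn2 := h.two_le
  have e1 : 2 ^ n = 2 ^ (n - 1) * 2 := by rw [← pow_succ]; congr 1; omega
  have e2 : 2 ^ (n + 1) = 2 ^ (n - 1) * 4 := by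
    have : (4 : ℕ) = 2 ^ 2 := by norm_num
    rw [this, ← pow_add]; congr 1; omega
  rw [e1] at h1
  have h5 : Nat.card (commutator P) = 2 ^ (n - 1) := Nat.eq_of_mul_eq_mul_right (by norm_num) h1
  rw [h5, e2] at h4
  exact Nat.eq_of_mul_eq_mul_left (by positivity) h4


theorem three_le (h : Ctx P a n)
    (hm : ∃ B : Subgroup P, IsMulCommutative B ∧ ¬ IsCyclic B) : 3 ≤ n := by
  by_contra hlt
  push Not at hlt
  have hn2 : n = 2 := by have := h.two_le; omega
  subst hn2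
  obtain ⟨B, hBc, hBnc⟩ := hm
  have hcard := h.card_eq
  have hdvd : Nat.card B ∣ 2 ^ 3 := by
    have := Subgroup.card_subgroup_dvd_card B
    rwa [hcard] at this
  obtain ⟨k, hk, hkc⟩ := (Nat.dvd_prime_pow Nat.prime_two).mp hdvd
  have hci := Subgroup.card_mul_index B
  rw [hcard, hkc] at hci
  apply hBnc
  interval_cases k
  · have : Subsingleton B := by
      rw [← Finite.card_le_one_iff_subsingleton, hkc]; norm_num
    exact isCyclic_of_subsingleton
  · have : Fact (Nat.Prime 2) := ⟨Nat.prime_two⟩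
    exact isCyclic_of_prime_card (p := 2) (by rw [hkc]; norm_num)
  · have hidx : B.index = 2 := by omega
    exact h.hn B (Subgroup.normal_of_index_eq_two hidx) hBc
  · exfalso
    have htop : B = ⊤ := by
      rw [← Subgroup.card_eq_iff_eq_top, hkc, hcard]
    obtain ⟨y, hy⟩ := h.exists_not_mem
    apply hy
    apply h.key1
    have hyB : y ∈ B := htop ▸ Subgroup.mem_top y
    have hwB : a ^ (2 ^ (2 - 2)) ∈ B := htop ▸ Subgroup.mem_top _
    have := hBc.is_comm.comm ⟨y, hyB⟩ ⟨_, hwB⟩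
    exact congrArg Subtype.val this

theorem final (h : Ctx P a n)
    (hm : ∃ B : Subgroup P, IsMulCommutative B ∧ ¬ IsCyclic B) :
    (∃ n : ℕ, Nonempty (P ≃* QuaternionGroup n)) ∨
      (∃ n : ℕ, 8 ≤ n ∧ Nonempty (P ≃* DihedralGroup n)) ∨ Cfsg.IsQuasiDihedral P := by
  have hn3 := h.three_le hm
  obtain ⟨m, rfl⟩ : ∃ m, n = m + 2 := ⟨n - 2, by omega⟩
  have hcard : Nat.card P = 2 ^ (m + 3) := h.card_eq
  obtain ⟨a', y', hD, -⟩ := H22.exists_maxClassData m P hcard h.commutator_index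
  rcases hD.conj with hc | ⟨hm1, hc⟩
  · rcases hD.sq with hs | hs
    · right; left
      refine ⟨2 ^ (m + 2), ?_, hD.equiv_dihedral hc hs⟩
      have : 2 ^ 3 ≤ 2 ^ (m + 2) := Nat.pow_le_pow_right (by norm_num) (by omega)
      simpa using this
    · left
      exact ⟨2 ^ (m + 1), hD.equiv_quaternion hc hs⟩
  · right; right
    obtain ⟨b, hb2, -, hbc⟩ := hD.exists_semidihedral hc
    exact ⟨m + 2, by omega, hcard, a', b, hD.orderOf_a, hb2, hbc⟩


end Ctx


theorem odd_case {P : Type*} [Group P] [Finite P] {p : ℕ} [hp : Fact p.Prime] (hp2 : p ≠ 2)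
    (hP : IsPGroup p P) (hn : ∀ A : Subgroup P, A.Normal → IsMulCommutative A → IsCyclic A)
    (a : P) (hAn : (Subgroup.zpowers a).Normal)
    (hcent : Subgroup.centralizer (Subgroup.zpowers a : Set P) = Subgroup.zpowers a)
    (hne : Subgroup.zpowers a ≠ ⊤) : False := by
  obtain ⟨B, hBn, hAB, -, hcard, -, b, hbB, hbA, -, -⟩ :=
    H22.exists_normal_step hP (Subgroup.zpowers a) ⊤ (lt_top_iff_ne_top.mpr hne)
  have hBp : IsPGroup p B := hP.to_subgroup B
  have hCcyc : IsCyclic ((Subgroup.zpowers a).subgroupOf B) :=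
    isCyclic_of_surjective (Subgroup.subgroupOfEquivOfLe hAB).symm (MulEquiv.surjective _)
  have hCi : ((Subgroup.zpowers a).subgroupOf B).index = p := by
    have h1 := Subgroup.card_mul_index ((Subgroup.zpowers a).subgroupOf B)
    rw [Nat.card_congr (Subgroup.subgroupOfEquivOfLe hAB).toEquiv, hcard] at h1
    have hpos : 0 < Nat.card (Subgroup.zpowers a) := Nat.card_pos
    have : Nat.card (Subgroup.zpowers a) * ((Subgroup.zpowers a).subgroupOf B).index =
        Nat.card (Subgroup.zpowers a) * p := by rw [h1, mul_comm]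
    exact Nat.eq_of_mul_eq_mul_left hpos this
  have hnc : ¬ IsCyclic B := by
    intro hc
    apply hbA
    rw [← hcent, Subgroup.mem_centralizer_iff]
    intro g hg
    have := (IsCyclic.commGroup (α := B)).mul_comm ⟨g, hAB hg⟩ ⟨b, hbB⟩
    exact congrArg Subtype.val this
  have hK := H22.card_ker_powHomOfCyclicIndexP hp2 hBp hnc _ hCcyc hCi
  set K := (H22.powHomOfCyclicIndexP hp2 hBp _ hCcyc hCi).ker with hKdef
  have hKmem : ∀ x : B, x ∈ K ↔ x ^ p = 1 := by
    intro x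
    rw [hKdef, MonoidHom.mem_ker, H22.powHomOfCyclicIndexP_apply]
  have hK'mem : ∀ g : P, g ∈ K.map B.subtype ↔ g ∈ B ∧ g ^ p = 1 := by
    intro g
    rw [Subgroup.mem_map]
    constructor
    · rintro ⟨x, hx, rfl⟩
      refine ⟨x.2, ?_⟩
      have := (hKmem x).mp hx
      simpa using congrArg Subtype.val this
    · rintro ⟨hgB, hgp⟩
      refine ⟨⟨g, hgB⟩, (hKmem _).mpr (Subtype.ext (by simpa using hgp)), rfl⟩
  have hK'n : (K.map B.subtype).Normal := by
    constructor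
    intro g hg s
    rw [hK'mem] at hg ⊢
    refine ⟨hBn.conj_mem g hg.1 s, ?_⟩
    rw [conj_pow, hg.2, mul_one, mul_inv_cancel]
  have hK'card : Nat.card (K.map B.subtype) = p ^ 2 := by
    rw [Subgroup.card_map_of_injective B.subtype_injective, hK]
  have hK'c : IsMulCommutative (K.map B.subtype) :=
    IsPGroup.isMulCommutative_of_card_eq_prime_sq hK'card
  have hK'cyc := hn _ hK'n hK'c
  obtain ⟨g, hg⟩ := IsCyclic.exists_ofOrder_eq_natCard (α := K.map B.subtype)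
  rw [hK'card] at hg
  have hgp : g ^ p = 1 := by
    have := ((hK'mem g.1).mp g.2).2
    exact Subtype.ext (by simpa using this)
  have := orderOf_dvd_of_pow_eq_one hgp
  rw [hg] at this
  have h1 := Nat.le_of_dvd hp.out.pos this
  have h2 : p < p ^ 2 := by
    have := hp.out.one_lt
    nlinarith
  omega



/-- Let P be a finite p-group in which every abelian normal subgroup is cyclic, but which has a non-cyclic abelian
subgroup. Then p = 2 and P is generalized quaternion, dihedral of order at least 16, or quasi-dihedral. -/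
theorem result {P : Type*} [Group P] [Finite P] (p : ℕ) [Fact p.Prime]
    (hP : IsPGroup p P) (hn : ∀ A : Subgroup P, A.Normal → IsMulCommutative A → IsCyclic A)
    (hm : ∃ B : Subgroup P, IsMulCommutative B ∧ ¬ IsCyclic B) :
    p = 2 ∧ ((∃ n : ℕ, Nonempty (P ≃* QuaternionGroup n)) ∨ (∃ n : ℕ, 8 ≤ n ∧ Nonempty (P ≃* DihedralGroup n)) ∨
      Cfsg.IsQuasiDihedral P) := by
  obtain ⟨A, -, hAn, hAc, hAcent⟩ := H8.exists_normal_selfCentralizing hP (⊥ : Subgroup P)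
  have hAcyc := hn A hAn hAc
  obtain ⟨a, rfl⟩ := (Subgroup.isCyclic_iff_exists_zpowers_eq_top A).mp hAcyc
  have hne : Subgroup.zpowers a ≠ ⊤ := by
    intro htop
    obtain ⟨B, -, hBnc⟩ := hm
    have : IsCyclic P := isCyclic_iff_exists_zpowers_eq_top.mpr ⟨a, htop⟩
    exact hBnc inferInstance
  have hp2 : p = 2 := by
    by_contra hp2
    exact odd_case hp2 hP hn a hAn hAcent hne
  subst hp2
  refine ⟨rfl, ?_⟩
  obtain ⟨n, hn'⟩ := (hP.to_subgroup (Subgroup.zpowers a)).exists_card_eq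
  rw [Nat.card_zpowers] at hn'
  have hctx : Ctx P a n := ⟨hP, hn, hn', hAn, hAcent, hne⟩
  exact hctx.final hm


end Cfsg.Agent.S0519
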