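import Cfsg.Statements.S0684
import Mathlib
import Cfsg.Agent.Lib.H1.NoncyclicAbelian

set_option autoImplicit false
open Cfsg

namespace Cfsg.Agent.S0684

section general

variable {R : Type*} [Semiring R] {V : Type*} [AddCommGroup V] [Module R V]

/-- the norm sum of `g` is fixed by `g` when `g ^ r = 1` -/
theorem normsum_fixed (g : V ≃ₗ[R] V) (r : ℕ) (hg : g ^ r = 1) (v : V) :
    g (∑ k ∈ Finset.range r, (g ^ k) v) = ∑ k ∈ Finset.range r, (g ^ k) v := by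
  rw [map_sum]
  have h1 : ∀ k, g ((g ^ k) v) = (g ^ (k + 1)) v := by
    intro k
    rw [pow_succ']; rfl
  simp only [h1]
  have h2 := Finset.sum_range_succ (fun k => (g ^ k) v) r
  have h3 := Finset.sum_range_succ' (fun k => (g ^ k) v) r
  rw [h2] at h3
  simp only [hg, pow_zero] at h3
  exact (add_right_cancel h3).symm

/-- double counting with two commuting fixed-point-free maps of order `r` -/
theorem rank_two_nsmul (g h : V ≃ₗ[R] V) (hc : Commute g h) (r : ℕ) (hr : 0 < r) (hg : g ^ r = 1)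
    (hh : h ^ r = 1)
    (ha : ∀ i, ∀ v : V, (g ^ i * h) v = v → v = 0)
    (hb : ∀ j, 0 < j → j < r → ∀ v : V, (g ^ j) v = v → v = 0) (v : V) : r • v = 0 := by
  have hS1 : ∑ i ∈ Finset.range r, ∑ j ∈ Finset.range r, ((g ^ i * h) ^ j) v = 0 := by
    apply Finset.sum_eq_zero
    intro i _
    apply ha i
    apply normsum_fixed
    rw [(hc.pow_left i).mul_pow, ← pow_mul, mul_comm i r, pow_mul, hg, one_pow, hh, one_mul]
  have hterm : ∀ i j, ((g ^ i * h) ^ j) v = (h ^ j) (((g ^ j) ^ i) v) := by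
    intro i j
    rw [(hc.pow_left i).mul_pow, ← pow_mul, ← pow_mul, mul_comm j i,
      ((hc.pow_left (i * j)).pow_right j).eq]
    rfl
  rw [Finset.sum_comm] at hS1
  simp only [hterm] at hS1
  have hS2 : ∑ j ∈ Finset.range r, ∑ i ∈ Finset.range r, (h ^ j) (((g ^ j) ^ i) v) = r • v := by
    rw [Finset.sum_eq_single 0]
    · simp
    · intro j hj hj0
      rw [Finset.mem_range] at hj
      rw [← map_sum]
      have : ∑ i ∈ Finset.range r, ((g ^ j) ^ i) v = 0 := by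
        apply hb j (Nat.pos_of_ne_zero hj0) hj
        apply normsum_fixed
        rw [← pow_mul, mul_comm, pow_mul, hg, one_pow]
      rw [this, map_zero]
    · intro h0
      exact absurd (Finset.mem_range.2 hr) h0
  rw [← hS2]
  exact hS1

end general

section regular

variable {p : ℕ} [hpf : Fact p.Prime] {V : Type*} [AddCommGroup V] [Module (ZMod p) V]
  (H : Subgroup (V ≃ₗ[ZMod p] V))

/-- semiregularity -/
theorem semireg (hreg : ∀ v w : V, v ≠ 0 → w ≠ 0 → ∃! h : H, (h : V ≃ₗ[ZMod p] V) v = w)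
    (h : H) (v : V) (hv : v ≠ 0) (hfix : (h : V ≃ₗ[ZMod p] V) v = v) : h = 1 := by
  obtain ⟨h₀, _, huniq⟩ := hreg v v hv hv
  exact (huniq h hfix).trans (huniq 1 (by simp)).symm

/-- the number of non-zero vectors -/
theorem card_nonzero [Finite V] : Nat.card {v : V // v ≠ 0} = Nat.card V - 1 := by
  have h1 : Nat.card {v : V // v ≠ 0} = Set.ncard ({0} : Set V)ᶜ := by
    rw [← Nat.card_coe_set_eq]; rfl
  rw [h1, Set.ncard_compl, Set.ncard_singleton]

theorem card_H [Finite V] (hreg : ∀ v w : V, v ≠ 0 → w ≠ 0 → ∃! h : H, (h : V ≃ₗ[ZMod p] V) v = w)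
    (v₀ : V) (hv₀ : v₀ ≠ 0) : Nat.card H = Nat.card V - 1 := by
  rw [← card_nonzero]
  let f : H → {v : V // v ≠ 0} := fun h => ⟨(h : V ≃ₗ[ZMod p] V) v₀, by
    intro h0
    apply hv₀
    have := (LinearEquiv.map_eq_zero_iff (h : V ≃ₗ[ZMod p] V)).1 h0
    exact this⟩
  have hf : Function.Bijective f := by
    constructor
    · intro a b hab
      have hab' : (a : V ≃ₗ[ZMod p] V) v₀ = (b : V ≃ₗ[ZMod p] V) v₀ := congrArg Subtype.val hab
      have hbne : (b : V ≃ₗ[ZMod p] V) v₀ ≠ 0 := (f b).2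
      obtain ⟨h₀, _, huniq⟩ := hreg v₀ _ hv₀ hbne
      exact (huniq a hab').trans (huniq b rfl).symm
    · rintro ⟨w, hw⟩
      obtain ⟨h₀, hh₀, _⟩ := hreg v₀ w hv₀ hw
      exact ⟨h₀, Subtype.ext hh₀⟩
  exact Nat.card_congr (Equiv.ofBijective f hf)

theorem card_V_pow [Finite V] : Nat.card V = p ^ Module.finrank (ZMod p) V := by
  haveI : Module.Finite (ZMod p) V := Module.Finite.of_finite
  rw [Module.natCard_eq_pow_finrank (K := ZMod p) (V := V), Nat.card_zmod]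

theorem not_dvd_card_H [Finite V]
    (hreg : ∀ v w : V, v ≠ 0 → w ≠ 0 → ∃! h : H, (h : V ≃ₗ[ZMod p] V) v = w)
    (v₀ : V) (hv₀ : v₀ ≠ 0) : ¬ p ∣ Nat.card H := by
  haveI : Module.Finite (ZMod p) V := Module.Finite.of_finite
  haveI : Nontrivial V := ⟨⟨v₀, 0, hv₀⟩⟩
  have hp := hpf.out
  rw [card_H H hreg v₀ hv₀, card_V_pow (p := p) (V := V)]
  have hn : 0 < Module.finrank (ZMod p) V := Module.finrank_pos
  intro hdvd
  have h1 : p ∣ p ^ Module.finrank (ZMod p) V := dvd_pow_self p hn.ne'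
  have hpos : 1 ≤ p ^ Module.finrank (ZMod p) V := Nat.one_le_pow _ _ hp.pos
  have h2 : p ∣ 1 := by
    have := (Nat.dvd_sub h1 hdvd)
    rwa [Nat.sub_sub_self hpos] at this
  exact hp.one_lt.ne' (Nat.dvd_one.1 h2)

/-- an abelian subgroup of `H` is cyclic -/
theorem isCyclic_of_comm [Finite V]
    (hreg : ∀ v w : V, v ≠ 0 → w ≠ 0 → ∃! h : H, (h : V ≃ₗ[ZMod p] V) v = w)
    (v₀ : V) (hv₀ : v₀ ≠ 0) (A : Subgroup H) (hAc : IsMulCommutative A) : IsCyclic A := by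
  open scoped IsMulCommutative in
  by_contra hnc
  have hp := hpf.out
  haveI : Finite H := by
    apply Nat.finite_of_card_ne_zero
    rw [card_H H hreg v₀ hv₀]
    have := Finite.one_lt_card_iff_nontrivial.2 (⟨⟨v₀, 0, hv₀⟩⟩ : Nontrivial V)
    omega
  obtain ⟨r, hr, x, y, hx, hy, hx1, hxy⟩ := Cfsg.Agent.Lib.H1.exists_independent_of_not_isCyclic hnc
  -- the linear maps
  set g : V ≃ₗ[ZMod p] V := ((x : H) : V ≃ₗ[ZMod p] V) with hg
  set h : V ≃ₗ[ZMod p] V := ((y : H) : V ≃ₗ[ZMod p] V) with hh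
  have hcoe : ∀ a : A, ∀ n : ℕ, (((a ^ n : A) : H) : V ≃ₗ[ZMod p] V) = ((a : H) : V ≃ₗ[ZMod p] V) ^ n := by
    intro a n; simp
  have hgr : g ^ r = 1 := by
    rw [hg, ← hcoe, hx]; simp
  have hhr : h ^ r = 1 := by
    rw [hh, ← hcoe, hy]; simp
  have hc : Commute g h := by
    have : x * y = y * x := mul_comm x y
    have h2 := congrArg (fun a : A => ((a : H) : V ≃ₗ[ZMod p] V)) this
    show g * h = h * g
    simpa using h2
  have ha : ∀ i, ∀ v : V, (g ^ i * h) v = v → v = 0 := by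
    intro i v hv
    by_contra hv0
    have h1 : ((x ^ i * y : A) : H) = 1 := by
      apply semireg H hreg _ v hv0
      have : (((x ^ i * y : A) : H) : V ≃ₗ[ZMod p] V) = g ^ i * h := by simp [hg, hh]
      rw [this]; exact hv
    apply hxy i
    exact Subtype.ext h1
  have hb : ∀ j, 0 < j → j < r → ∀ v : V, (g ^ j) v = v → v = 0 := by
    intro j hj0 hjr v hv
    by_contra hv0
    have h1 : ((x ^ j : A) : H) = 1 := by
      apply semireg H hreg _ v hv0
      rw [hcoe]; exact hv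
    have h2 : x ^ j = 1 := Subtype.ext h1
    have h3 : orderOf x = r := by
      haveI : Fact r.Prime := ⟨hr⟩
      exact orderOf_eq_prime hx hx1
    have h4 : r ∣ j := by rw [← h3]; exact orderOf_dvd_of_pow_eq_one h2
    exact absurd (Nat.le_of_dvd hj0 h4) (by omega)
  have hzero := rank_two_nsmul g h hc r hr.pos hgr hhr ha hb v₀
  -- hence `p = r`
  have h5 : ((r : ℕ) : ZMod p) • v₀ = 0 := by
    rw [Nat.cast_smul_eq_nsmul]; exact hzero
  have h6 : ((r : ℕ) : ZMod p) = 0 := by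
    rcases smul_eq_zero.1 h5 with h | h
    · exact h
    · exact absurd h hv₀
  have h7 : p ∣ r := (ZMod.natCast_eq_zero_iff r p).1 h6
  have h8 : p = r := (Nat.prime_dvd_prime_iff_eq hp hr).1 h7
  apply not_dvd_card_H H hreg v₀ hv₀
  have h9 : orderOf x = r := by
    haveI : Fact r.Prime := ⟨hr⟩
    exact orderOf_eq_prime hx hx1
  have h10 : orderOf x ∣ Nat.card H :=
    dvd_trans (orderOf_dvd_natCard x) (Subgroup.card_subgroup_dvd_card A)
  rw [h9, ← h8] at h10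
  exact h10

end regular

section minimal

variable {p : ℕ} [hpf : Fact p.Prime] {V : Type*} [AddCommGroup V] [Module (ZMod p) V]
  (H : Subgroup (V ≃ₗ[ZMod p] V))

theorem exists_minimal_invariant [Finite V] (A : Subgroup H) (W₀ : Submodule (ZMod p) V)
    (hW₀ : W₀ ≠ ⊥) (hinv : ∀ a ∈ A, ∀ v ∈ W₀, ((a : H) : V ≃ₗ[ZMod p] V) v ∈ W₀) :
    ∃ W : Submodule (ZMod p) V, W ≠ ⊥ ∧ W ≤ W₀ ∧
      (∀ a ∈ A, ∀ v ∈ W, ((a : H) : V ≃ₗ[ZMod p] V) v ∈ W) ∧
      ∀ W' : Submodule (ZMod p) V, W' ≤ W →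
        (∀ a ∈ A, ∀ v ∈ W', ((a : H) : V ≃ₗ[ZMod p] V) v ∈ W') → W' = ⊥ ∨ W' = W := by
  haveI : Finite (Submodule (ZMod p) V) :=
    Finite.of_injective (fun W : Submodule (ZMod p) V => (W : Set V)) SetLike.coe_injective
  obtain ⟨W, hW⟩ := exists_minimal_of_wellFoundedLT
    (fun W : Submodule (ZMod p) V => W ≠ ⊥ ∧ W ≤ W₀ ∧
      ∀ a ∈ A, ∀ v ∈ W, ((a : H) : V ≃ₗ[ZMod p] V) v ∈ W) ⟨W₀, hW₀, le_refl _, hinv⟩
  obtain ⟨⟨h1, h2, h3⟩, hmin⟩ := hW
  refine ⟨W, h1, h2, h3, ?_⟩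
  intro W' hW'le hW'inv
  by_cases hb : W' = ⊥
  · left; exact hb
  · right
    exact le_antisymm hW'le (hmin ⟨hb, le_trans hW'le h2, hW'inv⟩ hW'le)

/-- the action of `A` on the non-zero vectors of an invariant subspace -/
@[reducible] def actW (A : Subgroup H) (W : Submodule (ZMod p) V)
    (hinv : ∀ a ∈ A, ∀ v ∈ W, ((a : H) : V ≃ₗ[ZMod p] V) v ∈ W) : MulAction A {w : W // w ≠ 0} where
  smul a w := ⟨⟨((a : H) : V ≃ₗ[ZMod p] V) (w.1 : V), hinv a a.2 _ w.1.2⟩, by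
    intro h0
    apply w.2
    have h1 : ((a : H) : V ≃ₗ[ZMod p] V) (w.1 : V) = 0 := congrArg Subtype.val h0
    have h2 := (LinearEquiv.map_eq_zero_iff ((a : H) : V ≃ₗ[ZMod p] V)).1 h1
    exact Subtype.ext h2⟩
  one_smul w := by
    apply Subtype.ext
    apply Subtype.ext
    show (((1 : A) : H) : V ≃ₗ[ZMod p] V) (w.1 : V) = (w.1 : V)
    simp
  mul_smul a b w := by
    apply Subtype.ext
    apply Subtype.ext
    show (((a * b : A) : H) : V ≃ₗ[ZMod p] V) (w.1 : V) =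
      ((a : H) : V ≃ₗ[ZMod p] V) (((b : H) : V ≃ₗ[ZMod p] V) (w.1 : V))
    simp

theorem card_dvd_of_invariant [Finite V]
    (hreg : ∀ v w : V, v ≠ 0 → w ≠ 0 → ∃! h : H, (h : V ≃ₗ[ZMod p] V) v = w)
    (A : Subgroup H) (W : Submodule (ZMod p) V)
    (hinv : ∀ a ∈ A, ∀ v ∈ W, ((a : H) : V ≃ₗ[ZMod p] V) v ∈ W) :
    Nat.card A ∣ p ^ Module.finrank (ZMod p) W - 1 := by
  letI := actW H A W hinv
  have hst : ∀ w : {w : W // w ≠ 0}, MulAction.stabilizer A w = ⊥ := by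
    intro w
    rw [Subgroup.eq_bot_iff_forall]
    intro a ha
    rw [MulAction.mem_stabilizer_iff] at ha
    have h1 : ((a : H) : V ≃ₗ[ZMod p] V) (w.1 : V) = (w.1 : V) :=
      congrArg (fun u : {w : W // w ≠ 0} => ((u.1 : W) : V)) ha
    have hne : ((w.1 : W) : V) ≠ 0 := by
      intro h0
      exact w.2 (Subtype.ext h0)
    have h2 := semireg H hreg (a : H) _ hne h1
    exact Subtype.ext h2
  have e := MulAction.selfEquivOrbitsQuotientProd hst
  have h1 := Nat.card_congr e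
  rw [Nat.card_prod, card_nonzero, card_V_pow (p := p) (V := W)] at h1
  rw [h1]
  exact dvd_mul_left _ _

end minimal

/-- Point stabiliser of a sharply doubly transitive group not of semilinear type: a maximal normal abelian subgroup `A` of a linear group `H` that is regular on non-zero vectors and has no irreducible cyclic normal subgroup is cyclic and reducible, and the order of `A` divides `p ^ k - 1` for `k` the dimension of a minimal `A`-invariant subspace. -/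
theorem result {p : ℕ} [Fact p.Prime] {V : Type*} [AddCommGroup V] [Module (ZMod p) V] [Finite V] (H : Subgroup (V ≃ₗ[ZMod p] V)) (hreg : ∀ v w : V, v ≠ 0 → w ≠ 0 → ∃! h : H, (h : V ≃ₗ[ZMod p] V) v = w) (hI : ∀ A : Subgroup H, A.Normal → IsCyclic A → ∃ W : Submodule (ZMod p) V, W ≠ ⊥ ∧ W ≠ ⊤ ∧ ∀ a ∈ A, ∀ v ∈ W, ((a : H) : V ≃ₗ[ZMod p] V) v ∈ W) (A : Subgroup H) (hAn : A.Normal) (hAc : IsMulCommutative A) (hAmax : ∀ B : Subgroup H, B.Normal → IsMulCommutative B → A ≤ B → B = A) : IsCyclic A ∧ ∃ W : Submodule (ZMod p) V, W ≠ ⊥ ∧ W ≠ ⊤ ∧ (∀ a ∈ A, ∀ v ∈ W, ((a : H) : V ≃ₗ[ZMod p] V) v ∈ W) ∧ (∀ W' : Submodule (ZMod p) V, W' ≤ W → (∀ a ∈ A, ∀ v ∈ W', ((a : H) : V ≃ₗ[ZMod p] V) v ∈ W') → W' = ⊥ ∨ W' = W) ∧ Nat.card A ∣ p ^ Module.finrank (ZMod p) W - 1 := by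
  -- a nonzero vector exists
  obtain ⟨W₁, hW₁b, -, -⟩ := hI ⊥ inferInstance inferInstance
  obtain ⟨v₀, -, hv₀⟩ := Submodule.exists_mem_ne_zero_of_ne_bot hW₁b
  have hcyc : IsCyclic A := isCyclic_of_comm H hreg v₀ hv₀ A hAc
  obtain ⟨W₀, hW₀b, hW₀t, hW₀inv⟩ := hI A hAn hcyc
  obtain ⟨W, hWb, hWle, hWinv, hWmin⟩ := exists_minimal_invariant H A W₀ hW₀b hW₀inv
  refine ⟨hcyc, W, hWb, ?_, hWinv, hWmin, card_dvd_of_invariant H hreg A W hWinv⟩
  intro hWt
  apply hW₀t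
  rw [hWt] at hWle
  exact top_le_iff.1 hWle

end Cfsg.Agent.S0684
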