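import Cfsg.Statements.S3380
import Mathlib
import Cfsg.Agent.S0519
import Cfsg.Agent.S0016
import Cfsg.Agent.S0684

set_option autoImplicit false
open Cfsg

namespace Cfsg.Agent.S3380

section grouptheory

open Cfsg.Agent.Lib.H22

variable {G : Type*} [Group G] [Finite G]

/-- a non-cyclic `p`-group all of whose abelian subgroups are cyclic has a unique subgroup of order `p` -/
theorem huniq_of_abelian_cyclic (p : ℕ) [hp : Fact p.Prime] (hG : IsPGroup p G) (hnc : ¬ IsCyclic G)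
    (hm : ∀ B : Subgroup G, IsMulCommutative B → IsCyclic B) :
    ∀ H K : Subgroup G, Nat.card H = p → Nat.card K = p → H = K := by
  haveI : Nontrivial G := by
    by_contra hnt
    rw [not_nontrivial_iff_subsingleton] at hnt
    exact hnc isCyclic_of_subsingleton
  obtain ⟨z, -, hzc, hzo⟩ := exists_central_orderOf_eq_prime hG (⊤ : Subgroup G) top_ne_bot
  have key : ∀ H : Subgroup G, Nat.card H = p → H = Subgroup.zpowers z := by
    intro H hH
    -- a generator of H
    haveI : Finite H := Nat.finite_of_card_ne_zero (by rw [hH]; exact hp.out.ne_zero)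
    have hHne : H ≠ ⊥ := by
      intro h; rw [h, Subgroup.card_bot] at hH; exact hp.out.one_lt.ne hH
    obtain ⟨⟨h, hhH⟩, hh1⟩ := (Subgroup.ne_bot_iff_exists_ne_one).1 hHne
    have hh1' : h ≠ 1 := fun e => hh1 (Subtype.ext e)
    have hhp : h ^ p = 1 := by
      have := pow_card_eq_one' (G := H) (x := ⟨h, hhH⟩)
      rw [hH] at this
      have := congrArg (fun u : H => (u : G)) this
      simpa using this
    have hho : orderOf h = p := orderOf_eq_prime hhp hh1'
    have hHz : H = Subgroup.zpowers h := by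
      symm
      apply Subgroup.eq_of_le_of_card_ge (Subgroup.zpowers_le.2 hhH)
      rw [Nat.card_zpowers, hho, hH]
    -- the abelian subgroup generated by h and z
    have hcomm : ∀ x ∈ ({h, z} : Set G), ∀ y ∈ ({h, z} : Set G), x * y = y * x := by
      have hz : ∀ g : G, g * z = z * g := fun g => (Subgroup.mem_center_iff.1 hzc g)
      intro x hx y hy
      rcases hx with rfl | rfl <;> rcases hy with rfl | rfl
      · rfl
      · exact hz x
      · exact (hz y).symm
      · rfl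
    set L : Subgroup G := Subgroup.closure {h, z} with hL
    have hLc : IsMulCommutative L := Subgroup.isMulCommutative_closure hcomm
    have hLcyc : IsCyclic L := hm L hLc
    have hhL : h ∈ L := Subgroup.subset_closure (by simp)
    have hzL : z ∈ L := Subgroup.subset_closure (by simp)
    have hat := atMostOne_of_isCyclic p hp.out.pos (G := L)
    have h1 : Nat.card (Subgroup.zpowers (⟨h, hhL⟩ : L)) = p := by
      rw [Nat.card_zpowers, Subgroup.orderOf_mk, hho]
    have h2 : Nat.card (Subgroup.zpowers (⟨z, hzL⟩ : L)) = p := by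
      rw [Nat.card_zpowers, Subgroup.orderOf_mk, hzo]
    have h3 := hat _ _ h1 h2
    have h4 : (⟨h, hhL⟩ : L) ∈ Subgroup.zpowers (⟨z, hzL⟩ : L) := by
      rw [← h3]; exact Subgroup.mem_zpowers _
    obtain ⟨k, hk⟩ := Subgroup.mem_zpowers_iff.1 h4
    have hk' : z ^ k = h := by
      have := congrArg (fun u : L => (u : G)) hk
      simpa using this
    rw [hHz]
    apply Subgroup.eq_of_le_of_card_ge
    · rw [Subgroup.zpowers_le, ← hk']
      exact Subgroup.zpow_mem_zpowers z k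
    · rw [Nat.card_zpowers, Nat.card_zpowers, hho, hzo]
  intro H K hH hK
  rw [key H hH, key K hK]

/-- a `p`-group which is not cyclic, quaternion, dihedral or quasidihedral has a normal
four-group-like subgroup `⟨z, y⟩` -/
theorem exists_zy (p : ℕ) [hp : Fact p.Prime] (hG : IsPGroup p G)
    (hnc : ¬ IsCyclic G) (hnq : ∀ n : ℕ, ¬ Nonempty (G ≃* QuaternionGroup n))
    (hnd : ∀ n : ℕ, ¬ Nonempty (G ≃* DihedralGroup n)) (hnsd : ¬ Cfsg.IsQuasiDihedral G) :
    ∃ z y : G, z ∈ Subgroup.center G ∧ orderOf z = p ∧ y ^ p = 1 ∧ y ∉ Subgroup.zpowers z ∧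
      ∀ g : G, g * y * g⁻¹ * y⁻¹ ∈ Subgroup.zpowers z := by
  -- a noncyclic normal abelian subgroup
  obtain ⟨A, hAn, hAc, hAnc⟩ : ∃ A : Subgroup G, A.Normal ∧ IsMulCommutative A ∧ ¬ IsCyclic A := by
    by_contra hcon
    push Not at hcon
    by_cases hm : ∃ B : Subgroup G, IsMulCommutative B ∧ ¬ IsCyclic B
    · obtain ⟨-, hcases⟩ := Cfsg.Agent.S0519.result p hG hcon hm
      rcases hcases with ⟨n, hn⟩ | ⟨n, -, hn⟩ | h
      · exact hnq n hn
      · exact hnd n hn
      · exact hnsd h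
    · push Not at hm
      have huniq := huniq_of_abelian_cyclic p hG hnc hm
      rcases Cfsg.Agent.S0016.result p hG huniq with h | ⟨-, n, hn⟩
      · exact hnc h
      · exact hnq _ hn
  -- the subgroup of elements of order dividing p
  have hcommA : ∀ a ∈ A, ∀ b ∈ A, a * b = b * a := by
    intro a ha b hb
    have := mul_comm' (⟨a, ha⟩ : A) ⟨b, hb⟩
    exact congrArg Subtype.val this
  let B : Subgroup G :=
    { carrier := {a | a ∈ A ∧ a ^ p = 1}
      one_mem' := ⟨A.one_mem, one_pow p⟩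
      mul_mem' := by
        intro u v hu hv
        refine ⟨A.mul_mem hu.1 hv.1, ?_⟩
        rw [(show Commute u v from hcommA u hu.1 v hv.1).mul_pow, hu.2, hv.2, one_mul]
      inv_mem' := by
        intro u hu
        exact ⟨A.inv_mem hu.1, by rw [inv_pow, hu.2, inv_one]⟩ }
  have hBmem : ∀ a : G, a ∈ B ↔ a ∈ A ∧ a ^ p = 1 := fun a => Iff.rfl
  haveI hBn : B.Normal := by
    refine ⟨fun a ha g => ?_⟩
    refine ⟨hAn.conj_mem a ha.1 g, ?_⟩
    rw [conj_pow, ha.2]; simp
  have hAne : A ≠ ⊥ := by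
    intro h
    apply hAnc
    rw [h]
    exact isCyclic_of_subsingleton
  have hBne : B ≠ ⊥ := by
    haveI : Nontrivial A := (Subgroup.nontrivial_iff_ne_bot A).mpr hAne
    obtain ⟨k, hk⟩ := (IsPGroup.iff_card).1 (hG.to_subgroup A)
    have hk0 : k ≠ 0 := by
      intro h0
      rw [h0, pow_zero] at hk
      have := Finite.one_lt_card (α := A)
      omega
    have hdvd : p ∣ Nat.card A := by rw [hk]; exact dvd_pow_self p hk0
    obtain ⟨a, ha⟩ := exists_prime_orderOf_dvd_card' (G := A) p hdvd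
    intro hbot
    have haB : (a : G) ∈ B := by
      refine ⟨a.2, ?_⟩
      have := pow_orderOf_eq_one a
      rw [ha] at this
      have := congrArg Subtype.val this
      simpa using this
    rw [hbot, Subgroup.mem_bot] at haB
    have ha1 : a = 1 := Subtype.ext haB
    rw [ha1, orderOf_one] at ha
    exact hp.out.one_lt.ne ha
  obtain ⟨z, hzB, hzc, hzo⟩ := exists_central_orderOf_eq_prime hG B hBne
  -- an element of B outside ⟨z⟩
  obtain ⟨b, hbB, hbz⟩ : ∃ b ∈ B, b ∉ Subgroup.zpowers z := by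
    by_contra hcon
    push Not at hcon
    apply hAnc
    apply isCyclic_of_comm_of_atMostOne (hG.to_subgroup A) ?_ (fun a b => mul_comm' a b)
    have key : ∀ H : Subgroup A, Nat.card H = p → H.map A.subtype = Subgroup.zpowers z := by
      intro H hH
      haveI : Finite H := Nat.finite_of_card_ne_zero (by rw [hH]; exact hp.out.ne_zero)
      apply Subgroup.eq_of_le_of_card_ge
      · rintro x ⟨h, hhH, rfl⟩
        apply hcon
        refine ⟨h.2, ?_⟩
        have := pow_card_eq_one' (G := H) (x := ⟨h, hhH⟩)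
        rw [hH] at this
        have := congrArg (fun u : H => ((u : A) : G)) this
        simpa using this
      · rw [Nat.card_zpowers, hzo, Subgroup.card_map_of_injective A.subtype_injective, hH]
    intro H K hH hK
    exact Subgroup.map_injective A.subtype_injective ((key H hH).trans (key K hK).symm)
  -- the quotient by ⟨z⟩
  set N : Subgroup G := Subgroup.zpowers z with hN
  haveI hNn : N.Normal := by
    refine ⟨fun n hn g => ?_⟩
    obtain ⟨k, rfl⟩ := Subgroup.mem_zpowers_iff.1 hn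
    have : g * z ^ k * g⁻¹ = z ^ k := by
      have hz : g * z = z * g := Subgroup.mem_center_iff.1 hzc g
      have : Commute g (z ^ k) := (show Commute g z from hz).zpow_right k
      rw [this.eq]; group
    rw [this]
    exact Subgroup.zpow_mem_zpowers z k
  set Bq : Subgroup (G ⧸ N) := B.map (QuotientGroup.mk' N) with hBq
  haveI hBqn : Bq.Normal := hBn.map (QuotientGroup.mk' N) (QuotientGroup.mk'_surjective N)
  have hBqne : Bq ≠ ⊥ := by
    intro hbot
    have h1 : (QuotientGroup.mk' N) b ∈ Bq := Subgroup.mem_map_of_mem _ hbB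
    rw [hbot, Subgroup.mem_bot] at h1
    exact hbz ((QuotientGroup.eq_one_iff b).1 h1)
  obtain ⟨yq, hyqB, hyqc, hyqo⟩ := exists_central_orderOf_eq_prime (hG.to_quotient N) Bq hBqne
  obtain ⟨y, hyB, rfl⟩ := hyqB
  refine ⟨z, y, hzc, hzo, hyB.2, ?_, ?_⟩
  · intro hyN
    have h1 : (QuotientGroup.mk' N) y = 1 := (QuotientGroup.eq_one_iff y).2 hyN
    rw [h1, orderOf_one] at hyqo
    exact hp.out.one_lt.ne hyqo
  · intro g
    have h1 := Subgroup.mem_center_iff.1 hyqc ((QuotientGroup.mk' N) g)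
    rw [← (QuotientGroup.eq_one_iff _)]
    have h2 : ((g * y * g⁻¹ * y⁻¹ : G) : G ⧸ N) =
        (QuotientGroup.mk' N) g * (QuotientGroup.mk' N) y * ((QuotientGroup.mk' N) g)⁻¹ *
          ((QuotientGroup.mk' N) y)⁻¹ := by
      simp
    rw [h2, h1]
    group

end grouptheory

section linear

variable {q : ℕ} [hqf : Fact q.Prime] {V : Type*} [AddCommGroup V] [Module (ZMod q) V]
  {G : Type*} [Group G] (ρ : G →* (V ≃ₗ[ZMod q] V))

/-- the fixed space of `ρ g` -/
def fixSp (g : G) : Submodule (ZMod q) V where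
  carrier := {v | ρ g v = v}
  add_mem' := by
    intro a b ha hb
    simp only [Set.mem_ofPred_eq] at *
    rw [map_add, ha, hb]
  zero_mem' := by simp
  smul_mem' := by
    intro c a ha
    simp only [Set.mem_ofPred_eq] at *
    rw [map_smul, ha]

theorem mem_fixSp (g : G) (v : V) : v ∈ fixSp ρ g ↔ ρ g v = v := Iff.rfl

theorem rho_mul_apply (g h : G) (v : V) : ρ (g * h) v = ρ g (ρ h v) := by
  rw [map_mul]; rfl

theorem rho_inv_apply (g : G) (v : V) : ρ g⁻¹ (ρ g v) = v := by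
  rw [← rho_mul_apply, inv_mul_cancel, map_one]; rfl

theorem rho_apply_inv (g : G) (v : V) : ρ g (ρ g⁻¹ v) = v := by
  rw [← rho_mul_apply, mul_inv_cancel, map_one]; rfl

theorem map_fixSp (g t : G) :
    (fixSp ρ t).map ((ρ g : V ≃ₗ[ZMod q] V) : V →ₗ[ZMod q] V) = fixSp ρ (g * t * g⁻¹) := by
  ext v
  rw [Submodule.mem_map, mem_fixSp]
  constructor
  · rintro ⟨w, hw, rfl⟩
    rw [mem_fixSp] at hw
    show ρ (g * t * g⁻¹) (ρ g w) = ρ g w
    rw [rho_mul_apply, rho_mul_apply, rho_inv_apply, hw]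
  · intro hv
    refine ⟨ρ g⁻¹ v, ?_, rho_apply_inv ρ g v⟩
    rw [mem_fixSp]
    have h1 : ρ g⁻¹ (ρ (g * t * g⁻¹) v) = ρ g⁻¹ v := by rw [hv]
    rw [rho_mul_apply, rho_mul_apply, rho_inv_apply] at h1
    exact h1

/-- a central element which is not the identity has no non-zero fixed vector -/
theorem fixSp_central_eq_bot (hρ : Function.Injective ρ)
    (hirr : ∀ W : Submodule (ZMod q) V, (∀ g : G, ∀ w ∈ W, ρ g w ∈ W) → W = ⊥ ∨ W = ⊤)
    (u : G) (hu : u ∈ Subgroup.center G) (hu1 : u ≠ 1) : fixSp ρ u = ⊥ := by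
  have hinv : ∀ g : G, ∀ w ∈ fixSp ρ u, ρ g w ∈ fixSp ρ u := by
    intro g w hw
    rw [mem_fixSp] at hw ⊢
    have hc : u * g = g * u := (Subgroup.mem_center_iff.1 hu g).symm
    rw [← rho_mul_apply, hc, rho_mul_apply, hw]
  rcases hirr _ hinv with h | h
  · exact h
  · exfalso
    apply hu1
    apply hρ
    rw [map_one]
    ext v
    have : v ∈ fixSp ρ u := by rw [h]; trivial
    exact this

/-- the norm sum as a linear map -/
noncomputable def nsum (g : G) (r : ℕ) : V →ₗ[ZMod q] V :=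
  ∑ k ∈ Finset.range r, ((ρ (g ^ k) : V ≃ₗ[ZMod q] V) : V →ₗ[ZMod q] V)

theorem nsum_apply (g : G) (r : ℕ) (v : V) : nsum ρ g r v = ∑ k ∈ Finset.range r, ρ (g ^ k) v := by
  simp [nsum, LinearMap.sum_apply]

theorem nsum_mem_fixSp (g : G) (r : ℕ) (hg : g ^ r = 1) (v : V) : nsum ρ g r v ∈ fixSp ρ g := by
  rw [mem_fixSp, nsum_apply]
  have h1 := Cfsg.Agent.S0684.normsum_fixed (ρ g) r (by rw [← map_pow, hg, map_one]) v
  simp only [← map_pow] at h1
  exact h1

theorem nsum_of_mem_fixSp (g : G) (r : ℕ) (v : V) (hv : v ∈ fixSp ρ g) : nsum ρ g r v = r • v := by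
  rw [nsum_apply]
  have h1 : ∀ k : ℕ, ρ (g ^ k) v = v := by
    intro k
    induction k with
    | zero => simp
    | succ k ih => rw [pow_succ, rho_mul_apply, (mem_fixSp ρ g v).1 hv, ih]
  simp only [h1]
  simp

/-- if `t' = u * t` with `u` central-like (commuting with `t`), then on the fixed space of `t`
the norm sum of `t'` is the norm sum of `u` -/
theorem nsum_eq_of_mul (t u : G) (hc : Commute u t) (r : ℕ) (v : V) (hv : v ∈ fixSp ρ t) :
    nsum ρ (u * t) r v = nsum ρ u r v := by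
  rw [nsum_apply, nsum_apply]
  apply Finset.sum_congr rfl
  intro k _
  rw [hc.mul_pow, rho_mul_apply]
  have h1 : ∀ k : ℕ, ρ (t ^ k) v = v := by
    intro k
    induction k with
    | zero => simp
    | succ k ih => rw [pow_succ, rho_mul_apply, (mem_fixSp ρ t v).1 hv, ih]
  rw [h1]

/-- the double sum identity -/
theorem double_sum (z y : G) (hc : Commute z y) (r : ℕ) (hr : 0 < r) (hz : z ^ r = 1)
    (hb : ∀ j, 0 < j → j < r → fixSp ρ (z ^ j) = ⊥) (v : V) :
    ∑ i ∈ Finset.range r, nsum ρ (z ^ i * y) r v = r • v := by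
  simp only [nsum_apply]
  have hterm : ∀ i j, ρ ((z ^ i * y) ^ j) v = ρ (y ^ j) (ρ ((z ^ j) ^ i) v) := by
    intro i j
    rw [← rho_mul_apply]
    congr 2
    rw [(hc.pow_left i).mul_pow, ← pow_mul, ← pow_mul, mul_comm j i,
      ((hc.pow_left (i * j)).pow_right j).eq]
  rw [Finset.sum_comm]
  simp only [hterm]
  rw [Finset.sum_eq_single 0]
  · simp
  · intro j hj hj0
    rw [Finset.mem_range] at hj
    rw [← map_sum]
    have h1 : ∑ i ∈ Finset.range r, ρ ((z ^ j) ^ i) v = 0 := by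
      have h2 := nsum_mem_fixSp ρ (z ^ j) r (by rw [← pow_mul, mul_comm, pow_mul, hz, one_pow]) v
      rw [hb j (Nat.pos_of_ne_zero hj0) hj, Submodule.mem_bot, nsum_apply] at h2
      exact h2
    rw [h1, map_zero]
  · intro h0
    exact absurd (Finset.mem_range.2 hr) h0

end linear

section main

variable {q : ℕ} [hqf : Fact q.Prime] {V : Type*} [AddCommGroup V] [Module (ZMod q) V]
  {G : Type*} [Group G] (ρ : G →* (V ≃ₗ[ZMod q] V))

theorem q_ne_p [Finite V] [Nontrivial V] [Finite G] [Nontrivial G] (p : ℕ) [hp : Fact p.Prime]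
    (hG : IsPGroup p G) (hρ : Function.Injective ρ)
    (hirr : ∀ W : Submodule (ZMod q) V, (∀ g : G, ∀ w ∈ W, ρ g w ∈ W) → W = ⊥ ∨ W = ⊤) : q ≠ p := by
  intro hqp
  haveI : Module.Finite (ZMod q) V := Module.Finite.of_finite
  letI : MulAction G V := MulAction.compHom V ρ
  have hsmul : ∀ (g : G) (v : V), g • v = ρ g v := fun g v => rfl
  have hcard : p ∣ Nat.card V := by
    have h1 := Cfsg.Agent.S0684.card_V_pow (p := q) (V := V)
    rw [h1]
    have hpq : p ∣ q := by rw [hqp]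
    exact dvd_trans hpq (dvd_pow_self q (Module.finrank_pos).ne')
  have h0 : (0 : V) ∈ MulAction.fixedPoints G V := by
    intro g; rw [hsmul]; simp
  obtain ⟨b, hb, hb0⟩ := hG.exists_fixed_point_of_prime_dvd_card_of_fixed_point V hcard h0
  -- the fixed subspace
  set W : Submodule (ZMod q) V := ⨅ g : G, fixSp ρ g with hW
  have hWmem : ∀ v : V, v ∈ W ↔ ∀ g : G, ρ g v = v := by
    intro v
    rw [hW, Submodule.mem_iInf]
    rfl
  have hinv : ∀ g : G, ∀ w ∈ W, ρ g w ∈ W := by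
    intro g w hw
    rw [(hWmem w).1 hw g]; exact hw
  have hbW : b ∈ W := (hWmem b).2 (fun g => hb g)
  rcases hirr W hinv with h | h
  · rw [h, Submodule.mem_bot] at hbW
    exact hb0 hbW.symm
  · obtain ⟨g, hg⟩ := exists_ne (1 : G)
    apply hg
    apply hρ
    rw [map_one]
    ext v
    have : v ∈ W := by rw [h]; trivial
    exact (hWmem v).1 this g

/-- the rotation of `Fin p` by `k` -/
def rot (p k : ℕ) (hp : 0 < p) (hk : k ≤ p) : Equiv.Perm (Fin p) where
  toFun i := ⟨(i.val + k) % p, Nat.mod_lt _ hp⟩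
  invFun i := ⟨(i.val + (p - k)) % p, Nat.mod_lt _ hp⟩
  left_inv i := by
    apply Fin.ext
    show ((i.val + k) % p + (p - k)) % p = i.val
    rw [Nat.mod_add_mod, show i.val + k + (p - k) = i.val + p by omega, Nat.add_mod_right,
      Nat.mod_eq_of_lt i.2]
  right_inv i := by
    apply Fin.ext
    show ((i.val + (p - k)) % p + k) % p = i.val
    rw [Nat.mod_add_mod, show i.val + (p - k) + k = i.val + p by omega, Nat.add_mod_right,
      Nat.mod_eq_of_lt i.2]

theorem rot_apply (p k : ℕ) (hp : 0 < p) (hk : k ≤ p) (i : Fin p) :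
    ((rot p k hp hk) i).val = (i.val + k) % p := rfl

theorem rot_pow_apply (p k : ℕ) (hp : 0 < p) (hk : k ≤ p) (m : ℕ) (i : Fin p) :
    (((rot p k hp hk) ^ m) i).val = (i.val + m * k) % p := by
  induction m generalizing i with
  | zero => simp [Nat.mod_eq_of_lt i.2]
  | succ m ih =>
    rw [pow_succ, Equiv.Perm.mul_apply, ih, rot_apply, Nat.mod_add_mod]
    congr 1
    ring

theorem orderOf_rot (p k : ℕ) [hpf : Fact p.Prime] (hk0 : 0 < k) (hk : k < p) :
    orderOf (rot p k hpf.out.pos hk.le) = p := by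
  apply orderOf_eq_prime
  · ext i
    rw [rot_pow_apply]
    simp [Nat.mod_eq_of_lt i.2]
  · intro h
    have h1 := congrArg (fun σ : Equiv.Perm (Fin p) => (σ ⟨0, hpf.out.pos⟩).val) h
    simp only [rot_apply, Equiv.Perm.coe_one, id_eq, zero_add] at h1
    rw [Nat.mod_eq_of_lt hk] at h1
    omega

end main

section final

theorem main_of_zy {q : ℕ} [hqf : Fact q.Prime] {V : Type*} [AddCommGroup V] [Module (ZMod q) V]
    [Nontrivial V]
    {G : Type*} [Group G] [Finite G] (p : ℕ) [hpf : Fact p.Prime] (hqp : q ≠ p)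
    (ρ : G →* (V ≃ₗ[ZMod q] V)) (hρ : Function.Injective ρ)
    (hirr : ∀ W : Submodule (ZMod q) V, (∀ g : G, ∀ w ∈ W, ρ g w ∈ W) → W = ⊥ ∨ W = ⊤)
    (z y : G) (hzc : z ∈ Subgroup.center G) (hzo : orderOf z = p) (hyp : y ^ p = 1)
    (hyz : y ∉ Subgroup.zpowers z) (hcomm : ∀ g : G, g * y * g⁻¹ * y⁻¹ ∈ Subgroup.zpowers z) :
    ∃ (H : Subgroup G) (W : Fin p → Submodule (ZMod q) V), H.index = p ∧
      iSup W = ⊤ ∧ iSupIndep W ∧
      (∀ h ∈ H, ∀ i, ∀ w ∈ W i, ρ h w ∈ W i) ∧
      (∀ i, ∃ h ∈ H, h ≠ 1 ∧ ∀ w ∈ W i, ρ h w = w) ∧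
      ∀ g : G, g ∉ H → ∃ σ : Equiv.Perm (Fin p), orderOf σ = p ∧
        ∀ i, (W i).map (ρ g : V →ₗ[ZMod q] V) = W (σ i) := by
  have hp : p.Prime := hpf.out
  have hq : q.Prime := hqf.out
  have hzcomm : ∀ g : G, g * z = z * g := fun g => Subgroup.mem_center_iff.1 hzc g
  have hzpc : ∀ i : ℕ, z ^ i ∈ Subgroup.center G := fun i => Subgroup.pow_mem _ hzc i
  have hzpow_comm : ∀ (i : ℕ) (g : G), g * z ^ i = z ^ i * g :=
    fun i g => Subgroup.mem_center_iff.1 (hzpc i) g
  have hc : Commute z y := (hzcomm y).symm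
  have hzp : z ^ p = 1 := by rw [← hzo]; exact pow_orderOf_eq_one z
  have hzpow_p : ∀ u ∈ Subgroup.zpowers z, u ^ p = 1 := by
    intro u hu
    obtain ⟨n, rfl⟩ := Subgroup.mem_zpowers_iff.1 hu
    rw [← zpow_natCast, ← zpow_mul, mul_comm, zpow_mul, zpow_natCast, hzp, one_zpow]
  have hzpow_c : ∀ u ∈ Subgroup.zpowers z, u ∈ Subgroup.center G := by
    intro u hu
    obtain ⟨n, rfl⟩ := Subgroup.mem_zpowers_iff.1 hu
    exact Subgroup.zpow_mem _ hzc n
  have htp : ∀ i : ℕ, (z ^ i * y) ^ p = 1 := by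
    intro i
    rw [(hc.pow_left i).mul_pow, hyp, mul_one]
    exact hzpow_p _ (Subgroup.pow_mem _ (Subgroup.mem_zpowers z) i)
  have hzj : ∀ j, 0 < j → j < p → z ^ j ≠ 1 := by
    intro j h0 hj
    exact pow_ne_one_of_lt_orderOf h0.ne' (by rw [hzo]; exact hj)
  have hcast : ((p : ℕ) : ZMod q) ≠ 0 := by
    intro h
    rw [ZMod.natCast_eq_zero_iff] at h
    exact hqp ((Nat.prime_dvd_prime_iff_eq hq hp).1 h)
  have hpsmul : ∀ v : V, p • v = 0 → v = 0 := by
    intro v hv
    rw [← Nat.cast_smul_eq_nsmul (ZMod q)] at hv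
    exact (smul_eq_zero.1 hv).resolve_left hcast
  have hbotc : ∀ u ∈ Subgroup.center G, u ≠ 1 → fixSp ρ u = ⊥ :=
    fun u hu hu1 => fixSp_central_eq_bot ρ hρ hirr u hu hu1
  have hbot : ∀ j, 0 < j → j < p → fixSp ρ (z ^ j) = ⊥ := fun j h0 hj =>
    hbotc (z ^ j) (hzpc j) (hzj j h0 hj)
  have hty1 : ∀ i : ℕ, z ^ i * y ≠ 1 := by
    intro i h
    apply hyz
    have h1 : y = (z ^ i)⁻¹ := eq_inv_of_mul_eq_one_right h
    rw [h1]
    exact Subgroup.inv_mem _ (Subgroup.pow_mem _ (Subgroup.mem_zpowers z) i)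
  set W : Fin p → Submodule (ZMod q) V := fun i => fixSp ρ (z ^ (i : ℕ) * y) with hW
  -- the sum is everything
  have hsup : iSup W = ⊤ := by
    rw [eq_top_iff]
    intro v _
    have h1 : p • v ∈ iSup W := by
      rw [← double_sum ρ z y hc p hp.pos hzp hbot v]
      apply Submodule.sum_mem
      intro i hi
      rw [Finset.mem_range] at hi
      exact (le_iSup W ⟨i, hi⟩) (nsum_mem_fixSp ρ (z ^ i * y) p (htp i) v)
    have h2 : v = ((p : ZMod q))⁻¹ • (p • v) := by
      rw [← Nat.cast_smul_eq_nsmul (ZMod q), smul_smul, inv_mul_cancel₀ hcast, one_smul]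
    rw [h2]
    exact Submodule.smul_mem _ _ h1
  -- the norm sum of `z^i y` kills `W j`
  have hker : ∀ i j : Fin p, i ≠ j → ∀ w ∈ W j, nsum ρ (z ^ (i : ℕ) * y) p w = 0 := by
    intro i j hij w hw
    have huz : z ^ (i : ℕ) * (z ^ (j : ℕ))⁻¹ ∈ Subgroup.zpowers z :=
      Subgroup.mul_mem _ (Subgroup.pow_mem _ (Subgroup.mem_zpowers z) _)
        (Subgroup.inv_mem _ (Subgroup.pow_mem _ (Subgroup.mem_zpowers z) _))
    have huc := hzpow_c _ huz
    have hup := hzpow_p _ huz
    have hu1 : z ^ (i : ℕ) * (z ^ (j : ℕ))⁻¹ ≠ 1 := by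
      intro h
      rw [mul_inv_eq_one] at h
      have := pow_injOn_Iio_orderOf (x := z) (by rw [Set.mem_Iio, hzo]; exact i.2)
        (by rw [Set.mem_Iio, hzo]; exact j.2) h
      exact hij (Fin.ext this)
    have hut : z ^ (i : ℕ) * (z ^ (j : ℕ))⁻¹ * (z ^ (j : ℕ) * y) = z ^ (i : ℕ) * y := by
      group
    have hcu : Commute (z ^ (i : ℕ) * (z ^ (j : ℕ))⁻¹) (z ^ (j : ℕ) * y) :=
      (Subgroup.mem_center_iff.1 huc _).symm
    have h1 := nsum_eq_of_mul ρ (z ^ (j : ℕ) * y) _ hcu p w hw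
    rw [hut] at h1
    rw [h1]
    have h2 := nsum_mem_fixSp ρ _ p hup w
    rw [hbotc _ huc hu1, Submodule.mem_bot] at h2
    exact h2
  have hind : iSupIndep W := by
    rw [iSupIndep_def]
    intro i
    rw [Submodule.disjoint_def]
    intro v hv1 hv2
    apply hpsmul
    rw [← nsum_of_mem_fixSp ρ (z ^ (i : ℕ) * y) p v hv1]
    have hle : (⨆ j, ⨆ (_ : j ≠ i), W j) ≤ LinearMap.ker (nsum ρ (z ^ (i : ℕ) * y) p) := by
      apply iSup_le; intro j; apply iSup_le; intro hji w hw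
      rw [LinearMap.mem_ker]
      exact hker i j (Ne.symm hji) w hw
    exact LinearMap.mem_ker.1 (hle hv2)
  -- the commutator homomorphism
  let c : G →* Subgroup.zpowers z := MonoidHom.mk' (fun g => ⟨g * y * g⁻¹ * y⁻¹, hcomm g⟩) (by
    intro a b
    apply Subtype.ext
    show a * b * y * (a * b)⁻¹ * y⁻¹ = (a * y * a⁻¹ * y⁻¹) * (b * y * b⁻¹ * y⁻¹)
    have hkc : ∀ g : G, g * (b * y * b⁻¹ * y⁻¹) = (b * y * b⁻¹ * y⁻¹) * g :=
      fun g => Subgroup.mem_center_iff.1 (hzpow_c _ (hcomm b)) g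
    calc a * b * y * (a * b)⁻¹ * y⁻¹
        = a * (b * y * b⁻¹ * y⁻¹) * (y * a⁻¹ * y⁻¹) := by group
      _ = (b * y * b⁻¹ * y⁻¹) * a * (y * a⁻¹ * y⁻¹) := by rw [hkc a]
      _ = (b * y * b⁻¹ * y⁻¹) * (a * y * a⁻¹ * y⁻¹) := by group
      _ = (a * y * a⁻¹ * y⁻¹) * (b * y * b⁻¹ * y⁻¹) := (hkc _).symm)
  have hcval : ∀ g : G, ((c g : Subgroup.zpowers z) : G) = g * y * g⁻¹ * y⁻¹ := fun g => rfl
  have hmemH : ∀ g : G, g ∈ c.ker ↔ g * y * g⁻¹ = y := by
    intro g
    rw [MonoidHom.mem_ker, Subtype.ext_iff, hcval, Subgroup.coe_one, mul_inv_eq_one]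
  -- conjugation of `z^i y` by elements of the kernel
  have hconjH : ∀ h ∈ c.ker, ∀ i : ℕ, h * (z ^ i * y) * h⁻¹ = z ^ i * y := by
    intro h hh i
    have h1 := (hmemH h).1 hh
    calc h * (z ^ i * y) * h⁻¹ = (h * z ^ i) * y * h⁻¹ := by group
      _ = z ^ i * h * y * h⁻¹ := by rw [hzpow_comm i h]
      _ = z ^ i * (h * y * h⁻¹) := by group
      _ = z ^ i * y := by rw [h1]
  have hindex : c.ker.index = p := by
    have h1 : c.ker.index ∣ p := by
      rw [Subgroup.index_ker, ← hzo, ← Nat.card_zpowers z]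
      exact Subgroup.card_subgroup_dvd_card _
    rcases (Nat.dvd_prime hp).1 h1 with h | h
    · exfalso
      rw [Subgroup.index_eq_one] at h
      have hyc : ∀ i : ℕ, z ^ i * y ∈ Subgroup.center G := by
        intro i
        rw [Subgroup.mem_center_iff]
        intro g
        have h2 := hconjH g (by rw [h]; trivial) i
        calc g * (z ^ i * y) = (g * (z ^ i * y) * g⁻¹) * g := by group
          _ = z ^ i * y * g := by rw [h2]
      have hWbot : ∀ i, W i = ⊥ := fun i => hbotc _ (hyc i) (hty1 i)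
      have : iSup W = ⊥ := by
        rw [iSup_eq_bot]; exact hWbot
      rw [hsup] at this
      exact top_ne_bot this
    · exact h
  refine ⟨c.ker, W, hindex, hsup, hind, ?_, ?_, ?_⟩
  · intro h hh i w hw
    have h1 : ρ h w ∈ (W i).map ((ρ h : V ≃ₗ[ZMod q] V) : V →ₗ[ZMod q] V) :=
      Submodule.mem_map_of_mem hw
    rw [hW] at h1
    simp only at h1
    rw [map_fixSp, hconjH h hh] at h1
    exact h1
  · intro i
    refine ⟨z ^ (i : ℕ) * y, ?_, hty1 _, fun w hw => hw⟩
    rw [hmemH]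
    calc z ^ (i : ℕ) * y * y * (z ^ (i : ℕ) * y)⁻¹
        = z ^ (i : ℕ) * y * (z ^ (i : ℕ))⁻¹ := by group
      _ = y * z ^ (i : ℕ) * (z ^ (i : ℕ))⁻¹ := by rw [hzpow_comm]
      _ = y := by group
  · intro g hg
    obtain ⟨n, hn⟩ := (Submonoid.mem_powers_iff _ _).1
      (mem_powers_iff_mem_zpowers.2 (hcomm g))
    have hk : n % p < p := Nat.mod_lt n hp.pos
    have hzk : z ^ (n % p) = g * y * g⁻¹ * y⁻¹ := by
      have h1 := pow_mod_orderOf z n
      rw [hzo] at h1
      rw [h1, hn]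
    have hk0 : 0 < n % p := by
      rcases Nat.eq_zero_or_pos (n % p) with h | h
      · exfalso
        apply hg
        rw [hmemH]
        rw [h, pow_zero] at hzk
        exact mul_inv_eq_one.1 hzk.symm
      · exact h
    have hgy : g * y * g⁻¹ = z ^ (n % p) * y := by
      rw [hzk]; group
    refine ⟨rot p (n % p) hp.pos hk.le, orderOf_rot p (n % p) hk0 hk, ?_⟩
    intro i
    show (fixSp ρ (z ^ (i : ℕ) * y)).map ((ρ g : V ≃ₗ[ZMod q] V) : V →ₗ[ZMod q] V) =
      fixSp ρ (z ^ ((rot p (n % p) hp.pos hk.le i : Fin p) : ℕ) * y)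
    rw [map_fixSp, rot_apply]
    have h1 := pow_mod_orderOf z ((i : ℕ) + n % p)
    rw [hzo] at h1
    rw [h1]
    congr 1
    calc g * (z ^ (i : ℕ) * y) * g⁻¹ = (g * z ^ (i : ℕ)) * y * g⁻¹ := by group
      _ = z ^ (i : ℕ) * g * y * g⁻¹ := by rw [hzpow_comm]
      _ = z ^ (i : ℕ) * (g * y * g⁻¹) := by group
      _ = z ^ (i : ℕ) * (z ^ (n % p) * y) := by rw [hgy]
      _ = z ^ ((i : ℕ) + n % p) * y := by rw [pow_add]; group

end final

/-- Let a finite p-group G act faithfully and irreducibly on a non-trivial finite vector space V over the field with q elements (q prime), and suppose G is not cyclic, generalized quaternion, dihedral or semidihedral. Then G has a subgroup H of index p and V is the direct sum of p subspaces, each invariant under H, on none of which H acts faithfully, and which every element of G outside H permutes in a single p-cycle. -/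
theorem result
    (q : ℕ) [Fact q.Prime] {V : Type*} [AddCommGroup V] [Module (ZMod q) V] [Finite V] [Nontrivial V]
    {G : Type*} [Group G] [Finite G] (p : ℕ) [Fact p.Prime] (hG : IsPGroup p G)
    (ρ : G →* (V ≃ₗ[ZMod q] V)) (hρ : Function.Injective ρ)
    (hirr : ∀ W : Submodule (ZMod q) V, (∀ g : G, ∀ w ∈ W, ρ g w ∈ W) → W = ⊥ ∨ W = ⊤)
    (hnc : ¬ IsCyclic G) (hnq : ∀ n : ℕ, ¬ Nonempty (G ≃* QuaternionGroup n))
    (hnd : ∀ n : ℕ, ¬ Nonempty (G ≃* DihedralGroup n)) (hnsd : ¬ Cfsg.IsQuasiDihedral G) :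
    ∃ (H : Subgroup G) (W : Fin p → Submodule (ZMod q) V), H.index = p ∧
      iSup W = ⊤ ∧ iSupIndep W ∧
      (∀ h ∈ H, ∀ i, ∀ w ∈ W i, ρ h w ∈ W i) ∧
      (∀ i, ∃ h ∈ H, h ≠ 1 ∧ ∀ w ∈ W i, ρ h w = w) ∧
      ∀ g : G, g ∉ H → ∃ σ : Equiv.Perm (Fin p), orderOf σ = p ∧ ∀ i, (W i).map (ρ g : V →ₗ[ZMod q] V) = W (σ i) := by
  obtain ⟨z, y, hzc, hzo, hyp, hyz, hcomm⟩ := exists_zy p hG hnc hnq hnd hnsd
  haveI : Nontrivial G := by
    by_contra h
    rw [not_nontrivial_iff_subsingleton] at h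
    exact hnc isCyclic_of_subsingleton
  exact main_of_zy p (q_ne_p ρ p hG hρ hirr) ρ hρ hirr z y hzc hzo hyp hyz hcomm

end Cfsg.Agent.S3380
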