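import Cfsg.Statements.S2307
import Cfsg.Agent.Lib.H12.SL2Cliff
import Cfsg.Agent.Lib.H12.GL2Ind3

set_option autoImplicit false
open Cfsg

namespace Cfsg.Agent.S2307

open Cfsg.Agent.Lib.H12 Cfsg.Agent.Lib.L0 Matrix

/-- Over a finite field F with q elements, q odd, let α be the multiplicative character of F of order 2. The character of SL₂ induced from the linear character b ↦ α(b₁₁) of the upper triangular subgroup is the sum of two distinct irreducible characters, each of degree (q + 1)/2, which are conjugate under GL₂: some fixed element of GL₂ conjugates the one into the other. -/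
theorem result {F : Type*} [Field F] [Fintype F] [DecidableEq F] (hodd : Odd (Fintype.card F)) (α : MulChar F ℂ)
    (hα : α ^ 2 = 1) (hα1 : α ≠ 1) :
    ∃ χ₁ χ₂ : Matrix.SpecialLinearGroup (Fin 2) F → ℂ, Cfsg.IsIrrCharacter (Matrix.SpecialLinearGroup (Fin 2) F) χ₁ ∧ Cfsg.IsIrrCharacter (Matrix.SpecialLinearGroup (Fin 2) F) χ₂ ∧ χ₁ ≠ χ₂ ∧
      Cfsg.indFun ((Cfsg.upperTriangularGL 2 F).comap Matrix.SpecialLinearGroup.toGL) (fun b => α (((b : Matrix.SpecialLinearGroup (Fin 2) F) : Matrix (Fin 2) (Fin 2) F) 0 0)) = χ₁ + χ₂ ∧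
      χ₁ 1 = (((Fintype.card F + 1) / 2 : ℕ) : ℂ) ∧ χ₂ 1 = (((Fintype.card F + 1) / 2 : ℕ) : ℂ) ∧
      ∃ x : Matrix.GeneralLinearGroup (Fin 2) F, ∀ g h : Matrix.SpecialLinearGroup (Fin 2) F,
        Matrix.SpecialLinearGroup.toGL h = x * Matrix.SpecialLinearGroup.toGL g * x⁻¹ → χ₂ h = χ₁ g := by
  classical
  have hinv : α⁻¹ = α := by
    rw [inv_eq_iff_mul_eq_one, ← sq]
    exact hα
  have hnorm : Cfsg.classInner (psCharSL α) (psCharSL α) = 2 := by
    rw [classInner_psCharSL]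
    simp only [hinv, if_true]
    norm_num
  obtain ⟨χ₁, χ₂, h₁, h₂, h12, hsum⟩ := exists_two_irr_of_norm_two (isCharacter_psCharSL α) hnorm
  have hres : resSL (psChar α 1) = psCharSL α := by
    rw [resSL_psChar, inv_one, mul_one]
  have hπ : Cfsg.IsIrrCharacter (GL (Fin 2) F) (psChar α 1) := isIrrCharacter_indFun_borelChar α 1 hα1
  have hc₁ : Cfsg.classInner ((psChar α 1) ∘ Matrix.SpecialLinearGroup.toGL) χ₁ ≠ 0 := by
    show Cfsg.classInner (resSL (psChar α 1)) χ₁ ≠ 0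
    rw [hres, hsum, classInner_add_left, irr_classInner_self h₁,
      irr_classInner_ne h₂ h₁ (fun h => h12 h.symm)]
    norm_num
  have hc₂ : Cfsg.classInner ((psChar α 1) ∘ Matrix.SpecialLinearGroup.toGL) χ₂ ≠ 0 := by
    show Cfsg.classInner (resSL (psChar α 1)) χ₂ ≠ 0
    rw [hres, hsum, classInner_add_left, irr_classInner_self h₂, irr_classInner_ne h₁ h₂ h12]
    norm_num
  obtain ⟨x, hx⟩ := exists_conj_of_constituents (Matrix.SpecialLinearGroup.toGL) toGL_injective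
    conjSL toGL_conjSL hπ h₁ h₂ hc₁ hc₂
  have hdeg : χ₂ 1 = χ₁ 1 := by
    have := hx 1
    rwa [conjSL_one] at this
  have hone : psCharSL α 1 = (Fintype.card F : ℂ) + 1 := by
    rw [← hres, resSL_one, psChar_one]
  have h1sum : χ₁ 1 + χ₂ 1 = (Fintype.card F : ℂ) + 1 := by
    rw [← hone, hsum, Pi.add_apply]
  have hhalf : (((Fintype.card F + 1) / 2 : ℕ) : ℂ) = ((Fintype.card F : ℂ) + 1) / 2 := by
    obtain ⟨k, hk⟩ := hodd
    have : (Fintype.card F + 1) / 2 = k + 1 := by omega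
    rw [this, hk]
    push_cast
    ring
  have hχ₁ : χ₁ 1 = ((Fintype.card F : ℂ) + 1) / 2 := by
    rw [hdeg] at h1sum
    linear_combination h1sum / 2
  refine ⟨χ₁, χ₂, h₁, h₂, h12, hsum, ?_, ?_, x, ?_⟩
  · rw [hhalf, hχ₁]
  · rw [hhalf, hdeg, hχ₁]
  · intro g h hgh
    have : h = conjSL x g := by
      apply toGL_injective
      rw [hgh, toGL_conjSL]
    rw [this, hx]

end Cfsg.Agent.S2307
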