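import Cfsg.Statements.S2331
import Cfsg.Agent.Lib.H12.SL2

set_option autoImplicit false
open Cfsg

namespace Cfsg.Agent.S2331

open Cfsg.Agent.Lib.H12

/-- Over a finite field with q elements, q even, the special linear group SL₂ has exactly q + 1 conjugacy classes. -/
theorem result {F : Type*} [Field F] [Fintype F] [CharP F 2] :
    Nat.card (ConjClasses (Matrix.SpecialLinearGroup (Fin 2) F)) = Fintype.card F + 1 := by
  have hF : ∀ a : F, IsSquare a := FiniteField.isSquare_of_char_two (ringChar.eq F 2)
  have e : Unit ⊕ F ≃ ConjClasses (Matrix.SpecialLinearGroup (Fin 2) F) :=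
    Equiv.ofBijective sl2ClassMapEven ⟨sl2ClassMapEven_injective, sl2ClassMapEven_surjective hF⟩
  rw [← Nat.card_congr e, Nat.card_sum, Nat.card_unique, Nat.card_eq_fintype_card, add_comm]

end Cfsg.Agent.S2331
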