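import Cfsg.Statements.S2157
-- import your own Cfsg.Agent.* helpers here

set_option autoImplicit false
open Cfsg

namespace Cfsg.Agent.S2157

open Cfsg.Lie

/-- iterate `v ↦ r + v` along the chain table -/
def walk (D : ChevalleyDatum) (r s : ℕ) : ℕ → Option ℕ
  | 0 => some s
  | k+1 => (walk D r s k).bind fun v => if v < D.nroots then D.chainRoot r v 1 else none

def chainOK (D : ChevalleyDatum) : Bool :=
  (List.range D.nroots).all fun r => (D.chain.getD r #[]).toList.all fun e =>
    decide (e.1 < D.nroots) && (e.2.toList.zipIdx).all fun q => walk D r e.1 (q.2 + 1) == some q.1.1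

theorem walk_char {F : Type*} [Field F] (D : ChevalleyDatum) (χ : ℕ → Fˣ) (hχ : D.IsRootCharacter χ)
    (r s : ℕ) (hr : r < D.nroots) (hs : s < D.nroots) :
    ∀ (k u : ℕ), walk D r s k = some u → χ u = χ r ^ k * χ s := by
  intro k
  induction k with
  | zero =>
    intro u h
    simp only [walk, Option.some.injEq] at h
    subst h
    simp
  | succ k ih =>
    intro u h
    simp only [walk] at h
    rw [Option.bind_eq_some_iff] at h
    obtain ⟨v, hv, hvu⟩ := h
    split_ifs at hvu with hvn
    rw [hχ.2 r v u hr hvn hvu, ih v hv, pow_succ]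
    rw [mul_comm (χ r ^ k) (χ r), mul_assoc]

theorem chainCoeff_char {F : Type*} [Field F] (D : ChevalleyDatum) (hOK : chainOK D = true) (χ : ℕ → Fˣ)
    (hχ : D.IsRootCharacter χ) (r s u : ℕ) (hr : r < D.nroots) (km : ℕ × ℤ)
    (hkm : km ∈ D.chainCoeff r s u) : χ u = χ r ^ km.1 * χ s := by
  unfold ChevalleyDatum.chainCoeff at hkm
  rw [List.mem_flatMap] at hkm
  obtain ⟨e, he, hq⟩ := hkm
  rw [List.mem_filter] at he
  obtain ⟨he1, he2⟩ := he
  rw [List.mem_map] at hq
  obtain ⟨q, hq1, hq2⟩ := hq
  rw [List.mem_filter] at hq1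
  obtain ⟨hq3, hq4⟩ := hq1
  have hes : e.1 = s := by simpa using he2
  have hqu : q.1.1 = u := by simpa using hq4
  unfold chainOK at hOK
  rw [List.all_eq_true] at hOK
  have h1 := hOK r (List.mem_range.2 hr)
  rw [List.all_eq_true] at h1
  have h2 := h1 e he1
  rw [Bool.and_eq_true] at h2
  obtain ⟨h3, h4⟩ := h2
  rw [List.all_eq_true] at h4
  have h5 := h4 q hq3
  have h6 : walk D r e.1 (q.2 + 1) = some q.1.1 := by simpa using h5
  have hs : s < D.nroots := by
    rw [← hes]
    simpa using h3
  rw [hes, hqu] at h6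
  have := walk_char D χ hχ r s hr hs _ _ h6
  rw [← hq2]
  exact this

theorem sum_scale {F : Type*} [Field F] (L : List (ℕ × ℤ)) (a b c t : F)
    (h : ∀ km ∈ L, a * b = c ^ km.1) :
    a * (L.map fun km => ((km.2 : ℤ) : F) * t ^ km.1).sum * b =
      (L.map fun km => ((km.2 : ℤ) : F) * (c * t) ^ km.1).sum := by
  induction L with
  | nil => simp
  | cons x L ih =>
    have hx := h x (List.mem_cons_self)
    have ih' := ih (fun km hkm => h km (List.mem_cons_of_mem _ hkm))
    simp only [List.map_cons, List.sum_cons]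
    rw [mul_add, add_mul, ih', mul_pow, ← hx]
    ring

theorem main {F : Type*} [Field F] (D : ChevalleyDatum) (hOK : chainOK D = true) (χ : ℕ → Fˣ)
    (hχ : D.IsRootCharacter χ) (r : ℕ) (hr : r < D.nroots) (t : F) :
    D.charDiag F χ * D.x F r t * D.charDiag F (fun s => (χ s)⁻¹) = D.x F r ((χ r : F) * t) := by
  unfold ChevalleyDatum.x
  rw [dif_pos hr, dif_pos hr]
  unfold ChevalleyDatum.charDiag
  ext row col
  rw [Matrix.mul_diagonal, Matrix.diagonal_mul]
  rcases col with i | s <;> rcases row with i' | u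
  · simp only [ChevalleyDatum.xMat, Matrix.of_apply, Sum.elim_inl]
    split_ifs <;> simp
  · simp only [ChevalleyDatum.xMat, Matrix.of_apply, Sum.elim_inl, Sum.elim_inr]
    split_ifs with h
    · subst h
      simp only [mul_one]
      ring
    · simp
  · simp only [ChevalleyDatum.xMat, Matrix.of_apply, Sum.elim_inl, Sum.elim_inr]
    split_ifs with h1 h2
    · simp
    · have hs : s.val = D.neg r := h2
      have := hχ.1 r hr
      rw [← hs] at this
      rw [this]
      simp only [inv_inv, one_mul]
      ring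
    · simp
  · simp only [ChevalleyDatum.xMat, Matrix.of_apply, Sum.elim_inr]
    split_ifs with h1 h2 h3 h4 h5 h6 h7
    · subst h1
      subst h2
      simp
    · simp
    · subst h4
      simp
    · subst h5
      have := hχ.1 r hr
      have hs : (s : ℕ) = D.neg r := h3
      rw [← hs] at this
      rw [this]
      simp only [inv_inv]
      ring
    · simp
    · subst h6
      have key := sum_scale (D.chainCoeff r ↑u ↑u) (↑(χ ↑u)) (↑(χ ↑u)⁻¹) (↑(χ r)) t (by
        intro km hkm
        have h' := mul_inv_eq_of_eq_mul (chainCoeff_char D hOK χ hχ r u u hr km hkm)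
        have := congrArg (fun x : Fˣ => (x : F)) h'
        simpa only [Units.val_mul, Units.val_pow_eq_pow_val] using this)
      rw [mul_add, add_mul, key]
      simp
    · have key := sum_scale (D.chainCoeff r ↑s ↑u) (↑(χ ↑u)) (↑(χ ↑s)⁻¹) (↑(χ r)) t (by
        intro km hkm
        have h' := mul_inv_eq_of_eq_mul (chainCoeff_char D hOK χ hχ r s u hr km hkm)
        have := congrArg (fun x : Fˣ => (x : F)) h'
        simpa only [Units.val_mul, Units.val_pow_eq_pow_val] using this)
      rw [zero_add, zero_add, key]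


set_option maxRecDepth 100000 in
theorem chainOK_G2 : chainOK chevG2 = true := by decide +kernel

set_option maxRecDepth 100000 in
theorem chainOK_B2 : chainOK chevB2 = true := by decide +kernel

set_option maxRecDepth 100000 in
theorem chainOK_D4 : chainOK chevD4 = true := by decide +kernel

set_option maxRecDepth 100000 in
theorem chainOK_F4 : chainOK chevF4 = true := by decide +kernel

set_option maxRecDepth 100000 in
theorem chainOK_E6 : chainOK chevE6 = true := by decide +kernel

set_option maxRecDepth 100000 in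
theorem chainOK_E7 : chainOK chevE7 = true := by decide +kernel

set_option maxRecDepth 100000 in
theorem chainOK_E8 : chainOK chevE8 = true := by decide +kernel

/-- In a Chevalley group of type G₂, B₂, D₄, F₄, E₆, E₇ or E₈, for every character `χ` of the root lattice with values in `Fˣ` the diagonal matrix `ĥ(χ)` (identity on the coroot coordinates, `χ(s)` on the coordinate of `e_s`) conjugates each root element `x_r(t)` to `x_r(χ(r) t)`: `ĥ(χ) x_r(t) ĥ(χ)⁻¹ = x_r(χ(r) t)` as matrices, with `ĥ(χ)⁻¹` written as `ĥ(χ⁻¹)`. -/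
theorem result {F : Type*} [Field F] (D : Cfsg.Lie.ChevalleyDatum) (hD : D ∈ [Cfsg.Lie.chevG2, Cfsg.Lie.chevB2, Cfsg.Lie.chevD4, Cfsg.Lie.chevF4, Cfsg.Lie.chevE6, Cfsg.Lie.chevE7, Cfsg.Lie.chevE8]) (χ : ℕ → Fˣ) (hχ : D.IsRootCharacter χ) (r : ℕ) (hr : r < D.nroots) (t : F) :
    D.charDiag F χ * D.x F r t * D.charDiag F (fun s => (χ s)⁻¹) = D.x F r ((χ r : F) * t) := by
  have hOK : chainOK D = true := by
    simp only [List.mem_cons, List.not_mem_nil, or_false] at hD
    rcases hD with rfl | rfl | rfl | rfl | rfl | rfl | rfl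
    exacts [chainOK_G2, chainOK_B2, chainOK_D4, chainOK_F4, chainOK_E6, chainOK_E7, chainOK_E8]
  exact main D hOK χ hχ r hr t

end Cfsg.Agent.S2157
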