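import Mathlib
import Cfsg.Statements.S1496

set_option autoImplicit false
open Cfsg

namespace Cfsg.Agent.S1496

/-- Sylow conjugation in the special case where `H` is normal and `G = H⟨g⟩`. -/
theorem lemA {G : Type*} [Group G] [Finite G] (H : Subgroup G) [hHn : H.Normal] (g : G)
    (hsup : H ⊔ Subgroup.zpowers g = ⊤) (hcop : (orderOf g).Coprime (Nat.card H))
    (p : ℕ) [hp : Fact p.Prime] (e k : ℕ) (he : 0 < e) (hn : orderOf g = p ^ e * k) (hk : ¬ p ∣ k)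
    (z : G) (hz : z ^ (p ^ e) = 1) (hzg : z⁻¹ * g ^ k ∈ H) :
    ∃ x ∈ H, x * z * x⁻¹ = g ^ k := by
  have hn0 : orderOf g ≠ 0 := (orderOf_pos g).ne'
  have hk0 : k ≠ 0 := by
    rintro rfl
    rw [mul_zero] at hn
    exact hn0 hn
  have hdisj : H ⊓ Subgroup.zpowers g = ⊥ := by
    apply disjoint_iff.mp
    apply Subgroup.disjoint_of_coprime_natCard
    rw [Nat.card_zpowers]; exact hcop.symm
  have hindex : H.index = orderOf g := by
    rw [← Subgroup.relIndex_top_right, ← hsup, Subgroup.relIndex_sup_left,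
      ← Subgroup.inf_relIndex_right, hdisj, Subgroup.relIndex_bot_left, Nat.card_zpowers]
  have hcard : Nat.card G = Nat.card H * (p ^ e * k) := by
    rw [← hn, ← hindex, Subgroup.card_mul_index]
  have hpH : ¬ p ∣ Nat.card H := by
    intro h
    have hpn : p ∣ orderOf g := by
      rw [hn]; exact Dvd.dvd.mul_right (dvd_pow_self p he.ne') k
    have := Nat.eq_one_of_dvd_coprimes hcop hpn h
    exact hp.out.one_lt.ne' this
  have hpe0 : p ^ e ≠ 0 := pow_ne_zero _ hp.out.ne_zero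
  have hfac : (Nat.card G).factorization p = e := by
    rw [hcard, Nat.factorization_mul Nat.card_pos.ne' (mul_ne_zero hpe0 hk0),
      Nat.factorization_mul hpe0 hk0]
    simp [Nat.factorization_eq_zero_of_not_dvd hpH, Nat.factorization_eq_zero_of_not_dvd hk,
      hp.out.factorization_pow]
  have hord : orderOf (g ^ k) = p ^ e := by
    rw [orderOf_pow_of_dvd hk0 (by rw [hn]; exact dvd_mul_left k _), hn,
      Nat.mul_div_cancel _ (Nat.pos_of_ne_zero hk0)]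
  let P : Sylow p G := Sylow.ofCard (Subgroup.zpowers (g ^ k)) (by rw [Nat.card_zpowers, hord, hfac])
  have hQ : IsPGroup p (Subgroup.zpowers z) := by
    obtain ⟨j, -, hj⟩ := (Nat.dvd_prime_pow hp.out).mp (orderOf_dvd_of_pow_eq_one hz)
    exact IsPGroup.of_card (n := j) (by rw [Nat.card_zpowers, hj])
  obtain ⟨S, hS⟩ := hQ.exists_le_sylow
  obtain ⟨c, hc⟩ := MulAction.exists_smul_eq G S P
  have hczP : c * z * c⁻¹ ∈ (P : Subgroup G) := by
    have h1 : c * z * c⁻¹ ∈ ((c • S : Sylow p G) : Subgroup G) := by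
      rw [Sylow.smul_def, Sylow.pointwise_smul_def]
      exact Subgroup.smul_mem_pointwise_smul z (MulAut.conj c) _ (hS (Subgroup.mem_zpowers z))
    rw [hc] at h1; exact h1
  have hP : (P : Subgroup G) = Subgroup.zpowers (g ^ k) := Sylow.coe_ofCard _ _
  rw [hP] at hczP
  obtain ⟨t, ht⟩ := Subgroup.mem_zpowers_iff.mp hczP
  have hcmem : c⁻¹ ∈ H ⊔ Subgroup.zpowers g := by rw [hsup]; trivial
  obtain ⟨y, hy, w, hw, hyw⟩ := Subgroup.mem_sup_of_normal_left.mp hcmem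
  obtain ⟨s, hs⟩ := Subgroup.mem_zpowers_iff.mp hw
  have hcomm : w * (g ^ k) ^ t = (g ^ k) ^ t * w := by
    rw [← hs, ← zpow_natCast, ← zpow_mul, ← zpow_add, ← zpow_add, add_comm]
  have hu : y⁻¹ * z * y⁻¹⁻¹ = (g ^ k) ^ t := by
    have hc' : c = w⁻¹ * y⁻¹ := by rw [← mul_inv_rev, hyw, inv_inv]
    rw [hc'] at ht
    calc y⁻¹ * z * y⁻¹⁻¹ = w * (w⁻¹ * y⁻¹ * z * (w⁻¹ * y⁻¹)⁻¹) * w⁻¹ := by group
      _ = w * (g ^ k) ^ t * w⁻¹ := by rw [← ht]
      _ = (g ^ k) ^ t := by rw [hcomm]; group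
  refine ⟨y⁻¹, H.inv_mem hy, ?_⟩
  rw [hu]
  have hmem1 : ((g ^ k) ^ t)⁻¹ * g ^ k ∈ Subgroup.zpowers g := by
    apply Subgroup.mul_mem
    · apply Subgroup.inv_mem
      apply Subgroup.zpow_mem
      exact Subgroup.pow_mem _ (Subgroup.mem_zpowers g) k
    · exact Subgroup.pow_mem _ (Subgroup.mem_zpowers g) k
  have hmem2 : ((g ^ k) ^ t)⁻¹ * g ^ k ∈ H := by
    rw [← hu]
    have e1 : (y⁻¹ * z * y⁻¹⁻¹)⁻¹ * g ^ k = (y⁻¹ * (z⁻¹ * y * z⁻¹⁻¹)) * (z⁻¹ * g ^ k) := by group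
    rw [e1]
    exact H.mul_mem (H.mul_mem (H.inv_mem hy) (hHn.conj_mem y hy z⁻¹)) hzg
  have hboth : ((g ^ k) ^ t)⁻¹ * g ^ k ∈ H ⊓ Subgroup.zpowers g := ⟨hmem2, hmem1⟩
  rw [hdisj, Subgroup.mem_bot] at hboth
  exact inv_mul_eq_one.mp hboth

/-- The same, for an arbitrary subgroup `H` normalised by `g`. -/
theorem lemA' {G : Type*} [Group G] [Finite G] (H : Subgroup G) (g : G)
    (hg : g ∈ Subgroup.normalizer (H : Set G)) (hcop : (orderOf g).Coprime (Nat.card H))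
    (p : ℕ) [hp : Fact p.Prime] (e k : ℕ) (he : 0 < e) (hn : orderOf g = p ^ e * k) (hk : ¬ p ∣ k)
    (z : G) (hzK : z ∈ Subgroup.zpowers g ⊔ H) (hz : z ^ (p ^ e) = 1) (hzg : z⁻¹ * g ^ k ∈ H) :
    ∃ x ∈ H, x * z * x⁻¹ = g ^ k := by
  let K : Subgroup G := Subgroup.zpowers g ⊔ H
  have hgK : g ∈ K := Subgroup.mem_sup_left (Subgroup.mem_zpowers g)
  have hHK : H ≤ K := le_sup_right
  have hZK : Subgroup.zpowers g ≤ K := le_sup_left
  have hle : Subgroup.zpowers g ≤ Subgroup.normalizer (H : Set G) := by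
    rw [Subgroup.zpowers_le]; exact hg
  have hnorm : (H.subgroupOf K).Normal := Subgroup.normal_subgroupOf_sup_of_le_normalizer hle
  let g' : K := ⟨g, hgK⟩
  let z' : K := ⟨z, hzK⟩
  have hzp : Subgroup.zpowers g' = (Subgroup.zpowers g).subgroupOf K := by
    ext w
    rw [Subgroup.mem_subgroupOf, Subgroup.mem_zpowers_iff, Subgroup.mem_zpowers_iff]
    constructor
    · rintro ⟨j, rfl⟩
      exact ⟨j, by simp [g']⟩
    · rintro ⟨j, hj⟩
      exact ⟨j, Subtype.ext (by simpa [g'] using hj)⟩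
  have hsup : H.subgroupOf K ⊔ Subgroup.zpowers g' = ⊤ := by
    rw [hzp, ← Subgroup.subgroupOf_sup hHK hZK, sup_comm]
    exact Subgroup.subgroupOf_self K
  have hord : orderOf g' = orderOf g := Subgroup.orderOf_mk g hgK
  have hcardH : Nat.card (H.subgroupOf K) = Nat.card H :=
    Nat.card_congr (Subgroup.subgroupOfEquivOfLe hHK).toEquiv
  have hz' : z' ^ (p ^ e) = 1 := Subtype.ext (by simpa [z'] using hz)
  have hzg' : z'⁻¹ * g' ^ k ∈ H.subgroupOf K := by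
    rw [Subgroup.mem_subgroupOf]; simpa [z', g'] using hzg
  obtain ⟨x, hx, hxz⟩ := lemA (H.subgroupOf K) g' hsup (by rw [hord, hcardH]; exact hcop) p e k he
    (by rw [hord]; exact hn) hk z' hz' hzg'
  refine ⟨(x : G), Subgroup.mem_subgroupOf.mp hx, ?_⟩
  have := congrArg (fun w : K => (w : G)) hxz
  simpa [z', g'] using this

theorem pow_coset {G : Type*} [Group G] (H : Subgroup G) (g : G)
    (hg : g ∈ Subgroup.normalizer (H : Set G)) (h : G) (hh : h ∈ H) (j : ℕ) :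
    ∃ hj ∈ H, (h * g) ^ j = hj * g ^ j := by
  induction j with
  | zero => exact ⟨1, H.one_mem, by simp⟩
  | succ j ih =>
    obtain ⟨hj, hhj, e⟩ := ih
    have hgj : g ^ j ∈ Subgroup.normalizer (H : Set G) := Subgroup.pow_mem _ hg j
    refine ⟨hj * (g ^ j * h * (g ^ j)⁻¹),
      H.mul_mem hhj ((Subgroup.mem_normalizer_iff.mp hgj h).mp hh), ?_⟩
    rw [pow_succ, e, pow_succ]; group

theorem mem_normalizer_of_conj {G : Type*} [Group G] (S : Subgroup G) (g : G)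
    (h1 : ∀ w ∈ S, g * w * g⁻¹ ∈ S) (h2 : ∀ w ∈ S, g⁻¹ * w * g ∈ S) :
    g ∈ Subgroup.normalizer (S : Set G) := by
  rw [Subgroup.mem_normalizer_iff]
  intro w
  constructor
  · exact h1 w
  · intro hw
    have := h2 _ hw
    have e : g⁻¹ * (g * w * g⁻¹) * g = w := by group
    rw [e] at this; exact this

theorem main {G : Type*} [Group G] [Finite G] : ∀ (n : ℕ) (g : G), orderOf g = n →
    ∀ (H : Subgroup G), g ∈ Subgroup.normalizer (H : Set G) → (orderOf g).Coprime (Nat.card H) →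
    ∀ h ∈ H, ∃ x ∈ H, ∃ c ∈ H, c * g = g * c ∧ x * (h * g) * x⁻¹ = c * g := by
  intro n
  induction n using Nat.strong_induction_on with
  | _ n ih =>
  intro g hgn H hg hcop h hh
  by_cases hn1 : n = 1
  · have hg1 : g = 1 := orderOf_eq_one_iff.mp (hgn.trans hn1)
    subst hg1
    exact ⟨1, H.one_mem, h, hh, by simp, by simp⟩
  have hn0 : n ≠ 0 := by rw [← hgn]; exact (orderOf_pos g).ne'
  have hp : (n.minFac).Prime := Nat.minFac_prime hn1
  have : Fact (n.minFac).Prime := ⟨hp⟩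
  obtain ⟨e, k, hk, hnk⟩ := Nat.exists_eq_pow_mul_and_not_dvd hn0 n.minFac hp.ne_one
  have he : 0 < e := by
    rcases Nat.eq_zero_or_pos e with h0 | h0
    · exfalso
      rw [h0, pow_zero, one_mul] at hnk
      rw [← hnk] at hk
      exact hk (Nat.minFac_dvd n)
    · exact h0
  have hq1 : 1 < n.minFac ^ e := Nat.one_lt_pow he.ne' hp.one_lt
  have hk0 : k ≠ 0 := by
    rintro rfl
    exact hn0 (by rw [hnk, mul_zero])
  have hgord : orderOf g = n.minFac ^ e * k := hgn.trans hnk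
  have hqm : (n.minFac ^ e).Coprime (Nat.card H) :=
    Nat.Coprime.coprime_dvd_left (Dvd.intro k hgord.symm) hcop
  obtain ⟨m', -, hm'⟩ := Nat.exists_mul_mod_eq_one_of_coprime hqm.symm hq1
  -- the element z
  have hzdef : ∃ z : G, z = (h * g) ^ (k * (Nat.card H * m')) := ⟨_, rfl⟩
  obtain ⟨z, hz⟩ := hzdef
  -- z = hz' * g^k
  have hgpow : g ^ (k * (Nat.card H * m')) = g ^ k := by
    rw [pow_eq_pow_iff_modEq, hgord]
    have h1 : Nat.card H * m' ≡ 1 [MOD n.minFac ^ e] := by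
      unfold Nat.ModEq
      rw [hm', Nat.mod_eq_of_lt hq1]
    have h2 := Nat.ModEq.mul_left' k h1
    rw [mul_one, mul_comm k (n.minFac ^ e)] at h2
    exact h2
  obtain ⟨h', hh', hzh'⟩ := pow_coset H g hg h hh (k * (Nat.card H * m'))
  rw [← hz, hgpow] at hzh'
  have hgk : g ^ k ∈ Subgroup.normalizer (H : Set G) := Subgroup.pow_mem _ hg k
  have hzg : z⁻¹ * g ^ k ∈ H := by
    rw [hzh']
    have e1 : (h' * g ^ k)⁻¹ * g ^ k = (g ^ k)⁻¹ * h'⁻¹ * (g ^ k)⁻¹⁻¹ := by group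
    rw [e1]
    exact (Subgroup.mem_normalizer_iff.mp (Subgroup.inv_mem _ hgk) _).mp (H.inv_mem hh')
  have hzK : z ∈ Subgroup.zpowers g ⊔ H := by
    rw [hzh']
    exact Subgroup.mul_mem _ (Subgroup.mem_sup_right hh')
      (Subgroup.mem_sup_left (Subgroup.pow_mem _ (Subgroup.mem_zpowers g) k))
  have hzq : z ^ (n.minFac ^ e) = 1 := by
    obtain ⟨h'', hh'', hyn⟩ := pow_coset H g hg h hh (orderOf g)
    rw [pow_orderOf_eq_one, mul_one] at hyn
    have h3 : ((h * g) ^ orderOf g) ^ Nat.card H = 1 := by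
      rw [hyn]
      have h4 : (⟨h'', hh''⟩ : H) ^ Nat.card H = 1 := pow_card_eq_one'
      have h5 := congrArg (fun w : H => (w : G)) h4
      simpa only [Subgroup.coe_pow, Subgroup.coe_one] using h5
    rw [hz, ← pow_mul]
    have e2 : k * (Nat.card H * m') * n.minFac ^ e = orderOf g * Nat.card H * m' := by
      rw [hgord]; ring
    rw [e2, pow_mul, pow_mul, h3, one_pow]
  obtain ⟨x', hx', hx'z⟩ := lemA' H g hg hcop n.minFac e k he hgord hk z hzK hzq hzg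
  -- y₁
  have hy1pow : (x' * (h * g) * x'⁻¹) ^ (k * (Nat.card H * m')) = g ^ k := by
    have : (x' * (h * g) * x'⁻¹) ^ (k * (Nat.card H * m')) = x' * (h * g) ^ (k * (Nat.card H * m')) * x'⁻¹ := by
      simp
    rw [this, ← hz, hx'z]
  have hy1comm : (x' * (h * g) * x'⁻¹) * g ^ k = g ^ k * (x' * (h * g) * x'⁻¹) := by
    rw [← hy1pow, ← pow_succ, ← pow_succ']
  -- h₁
  have hgx : g * x'⁻¹ * g⁻¹ ∈ H := (Subgroup.mem_normalizer_iff.mp hg _).mp (H.inv_mem hx')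
  have hh1 : x' * h * (g * x'⁻¹ * g⁻¹) ∈ H := H.mul_mem (H.mul_mem hx' hh) hgx
  have hy1 : x' * (h * g) * x'⁻¹ = (x' * h * (g * x'⁻¹ * g⁻¹)) * g := by group
  have hggk : g * g ^ k = g ^ k * g := by rw [← pow_succ, ← pow_succ']
  have hh1comm : (x' * h * (g * x'⁻¹ * g⁻¹)) * g ^ k = g ^ k * (x' * h * (g * x'⁻¹ * g⁻¹)) := by
    have e3 : x' * h * (g * x'⁻¹ * g⁻¹) = (x' * (h * g) * x'⁻¹) * g⁻¹ := by group
    have hginv : g⁻¹ * g ^ k = g ^ k * g⁻¹ := by
      calc g⁻¹ * g ^ k = g⁻¹ * (g ^ k * g) * g⁻¹ := by group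
        _ = g⁻¹ * (g * g ^ k) * g⁻¹ := by rw [hggk]
        _ = g ^ k * g⁻¹ := by group
    rw [e3, mul_assoc, hginv, ← mul_assoc, hy1comm, mul_assoc]
  -- the smaller subgroup
  let H₁ : Subgroup G := H ⊓ Subgroup.centralizer ({g ^ k} : Set G)
  have hmemH₁ : ∀ w : G, w ∈ H₁ ↔ w ∈ H ∧ w * g ^ k = g ^ k * w := by
    intro w
    rw [Subgroup.mem_inf, Subgroup.mem_centralizer_iff]
    constructor
    · rintro ⟨h1, h2⟩; exact ⟨h1, (h2 _ rfl).symm⟩
    · rintro ⟨h1, h2⟩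
      refine ⟨h1, fun u hu => ?_⟩
      rw [Set.mem_singleton_iff.mp hu]; exact h2.symm
  -- Bezout
  have hcopqk : (n.minFac ^ e).Coprime k := by
    apply Nat.Coprime.pow_left
    exact (Nat.Prime.coprime_iff_not_dvd hp).mpr hk
  have hbez := Nat.gcd_eq_gcd_ab (n.minFac ^ e) k
  rw [hcopqk.gcd_eq_one] at hbez
  -- g'' := g ^ (q * a), gp-part := (g^k)^b
  have hgsplit : g = g ^ ((n.minFac ^ e : ℕ) * Nat.gcdA (n.minFac ^ e) k : ℤ) * (g ^ k) ^ (Nat.gcdB (n.minFac ^ e) k) := by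
    rw [← zpow_natCast g k, ← zpow_mul, ← zpow_add, ← hbez]
    simp
  obtain ⟨g'', hg''⟩ : ∃ g'' : G, g'' = g ^ ((n.minFac ^ e : ℕ) * Nat.gcdA (n.minFac ^ e) k : ℤ) := ⟨_, rfl⟩
  rw [← hg''] at hgsplit
  have hg''N : g'' ∈ Subgroup.normalizer (H : Set G) := by
    rw [hg'']; exact Subgroup.zpow_mem _ hg _
  have hg''comm : g'' * g ^ k = g ^ k * g'' := by
    rw [hg'', ← zpow_natCast g k, ← zpow_add, ← zpow_add, add_comm]
  have hg''ord : orderOf g'' ∣ k := by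
    apply orderOf_dvd_of_pow_eq_one
    rw [hg'', ← zpow_natCast, ← zpow_mul]
    have e4 : ((n.minFac ^ e : ℕ) * Nat.gcdA (n.minFac ^ e) k : ℤ) * (k : ℤ) = (orderOf g : ℤ) * Nat.gcdA (n.minFac ^ e) k := by
      rw [hgord]; push_cast; ring
    rw [e4, zpow_mul, zpow_natCast, pow_orderOf_eq_one, one_zpow]
  have hklt : k < n := by
    rw [hnk]
    calc k = 1 * k := (one_mul k).symm
      _ < n.minFac ^ e * k := Nat.mul_lt_mul_of_pos_right hq1 (Nat.pos_of_ne_zero hk0)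
  have hg''lt : orderOf g'' < n := lt_of_le_of_lt (Nat.le_of_dvd (Nat.pos_of_ne_zero hk0) hg''ord) hklt
  have hg''N₁ : g'' ∈ Subgroup.normalizer (H₁ : Set G) := by
    have hinvcomm : g''⁻¹ * g ^ k = g ^ k * g''⁻¹ := by
      calc g''⁻¹ * g ^ k = g''⁻¹ * (g ^ k * g'') * g''⁻¹ := by group
        _ = g''⁻¹ * (g'' * g ^ k) * g''⁻¹ := by rw [hg''comm]
        _ = g ^ k * g''⁻¹ := by group
    apply mem_normalizer_of_conj
    · intro w hw
      rw [hmemH₁] at hw ⊢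
      refine ⟨(Subgroup.mem_normalizer_iff.mp hg''N w).mp hw.1, ?_⟩
      calc g'' * w * g''⁻¹ * g ^ k = g'' * w * (g''⁻¹ * g ^ k) := by group
        _ = g'' * w * (g ^ k * g''⁻¹) := by rw [hinvcomm]
        _ = g'' * (w * g ^ k) * g''⁻¹ := by group
        _ = g'' * (g ^ k * w) * g''⁻¹ := by rw [hw.2]
        _ = (g'' * g ^ k) * w * g''⁻¹ := by group
        _ = (g ^ k * g'') * w * g''⁻¹ := by rw [hg''comm]
        _ = g ^ k * (g'' * w * g''⁻¹) := by group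
    · intro w hw
      rw [hmemH₁] at hw ⊢
      have hinvN := Subgroup.inv_mem _ hg''N
      have := (Subgroup.mem_normalizer_iff.mp hinvN w).mp hw.1
      rw [inv_inv] at this
      refine ⟨this, ?_⟩
      calc g''⁻¹ * w * g'' * g ^ k = g''⁻¹ * w * (g'' * g ^ k) := by group
        _ = g''⁻¹ * w * (g ^ k * g'') := by rw [hg''comm]
        _ = g''⁻¹ * (w * g ^ k) * g'' := by group
        _ = g''⁻¹ * (g ^ k * w) * g'' := by rw [hw.2]
        _ = (g''⁻¹ * g ^ k) * w * g'' := by group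
        _ = (g ^ k * g''⁻¹) * w * g'' := by rw [hinvcomm]
        _ = g ^ k * (g''⁻¹ * w * g'') := by group
  have hcop₁ : (orderOf g'').Coprime (Nat.card H₁) := by
    have h6 : orderOf g'' ∣ orderOf g := hg''ord.trans (Dvd.intro_left _ hgord.symm)
    have h7 : Nat.card H₁ ∣ Nat.card H := Subgroup.card_dvd_of_le inf_le_left
    exact Nat.Coprime.coprime_dvd_left h6 (Nat.Coprime.coprime_dvd_right h7 hcop)
  have hh1H₁ : x' * h * (g * x'⁻¹ * g⁻¹) ∈ H₁ := (hmemH₁ _).mpr ⟨hh1, hh1comm⟩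
  obtain ⟨x₁, hx₁, c, hc, hcg'', hconj⟩ := ih (orderOf g'') hg''lt g'' rfl H₁ hg''N₁ hcop₁ _ hh1H₁
  rw [hmemH₁] at hx₁ hc
  have hx₁inv : x₁⁻¹ * g ^ k = g ^ k * x₁⁻¹ := by
    calc x₁⁻¹ * g ^ k = x₁⁻¹ * (g ^ k * x₁) * x₁⁻¹ := by group
      _ = x₁⁻¹ * (x₁ * g ^ k) * x₁⁻¹ := by rw [hx₁.2]
      _ = g ^ k * x₁⁻¹ := by group
  -- powers of g^k commute with x₁⁻¹ and c
  have hzx : ∀ j : ℤ, x₁⁻¹ * (g ^ k) ^ j = (g ^ k) ^ j * x₁⁻¹ := by
    intro j
    exact ((Commute.zpow_right (show Commute x₁⁻¹ (g ^ k) from hx₁inv) j)).eq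
  have hzc : ∀ j : ℤ, c * (g ^ k) ^ j = (g ^ k) ^ j * c := by
    intro j
    exact ((Commute.zpow_right (show Commute c (g ^ k) from hc.2) j)).eq
  have hzg'' : ∀ j : ℤ, g'' * (g ^ k) ^ j = (g ^ k) ^ j * g'' := by
    intro j
    exact ((Commute.zpow_right (show Commute g'' (g ^ k) from hg''comm) j)).eq
  set b := Nat.gcdB (n.minFac ^ e) k with hb
  refine ⟨x₁ * x', H.mul_mem hx₁.1 hx', c, hc.1, ?_, ?_⟩
  · have h1 : Commute c (g'' * (g ^ k) ^ b) :=
      Commute.mul_right hcg'' (Commute.zpow_right hc.2 b)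
    rw [← hgsplit] at h1
    exact h1.eq
  · have e5 : x₁ * x' * (h * g) * (x₁ * x')⁻¹ = x₁ * (x' * (h * g) * x'⁻¹) * x₁⁻¹ := by group
    rw [e5, hy1]
    -- x₁ * (h₁ * g) * x₁⁻¹ with g = g'' * (g^k)^b
    have e6 : x₁ * (x' * h * (g * x'⁻¹ * g⁻¹) * g) * x₁⁻¹
        = x₁ * (x' * h * (g * x'⁻¹ * g⁻¹) * g'') * ((g ^ k) ^ b * x₁⁻¹) := by
      conv_lhs => rw [show x' * h * (g * x'⁻¹ * g⁻¹) * g = x' * h * (g * x'⁻¹ * g⁻¹) * (g'' * (g ^ k) ^ b) from by rw [← hgsplit]]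
      group
    rw [e6, ← hzx b]
    calc x₁ * (x' * h * (g * x'⁻¹ * g⁻¹) * g'') * (x₁⁻¹ * (g ^ k) ^ b)
        = (x₁ * (x' * h * (g * x'⁻¹ * g⁻¹) * g'') * x₁⁻¹) * (g ^ k) ^ b := by group
      _ = c * g'' * (g ^ k) ^ b := by rw [hconj]
      _ = c * g := by rw [mul_assoc, ← hgsplit]

/-- Let H be a subgroup of the finite group G and g an element normalising H whose order is coprime to the order of H. Then for every h ∈ H there are x ∈ H and c ∈ H commuting with g such that x * (h * g) * x⁻¹ = c * g. -/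
theorem result {G : Type*} [Group G] [Finite G] (H : Subgroup G) (g : G) (hg : g ∈ Subgroup.normalizer (H : Set G)) (hcop : Nat.Coprime (orderOf g) (Nat.card H)) (h : G) (hh : h ∈ H) : ∃ x ∈ H, ∃ c ∈ H, c * g = g * c ∧ x * (h * g) * x⁻¹ = c * g :=
  main (orderOf g) g rfl H hg hcop h hh

end Cfsg.Agent.S1496
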