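import Cfsg.Statements.S5251
import Cfsg.Agent.Lib.H25.Normal
import Cfsg.Agent.Lib.H25.SatEquiv
import Cfsg.Agent.Lib.H26.Stability

set_option autoImplicit false
open Cfsg

namespace Cfsg.Agent.S5251

open Cfsg.Agent.Lib.H25 Cfsg.Agent.Lib.H26 Cfsg.FusionSystem

variable {Ω : Type*} [Group Ω] {S : Subgroup Ω}

/-- Normalizer growth: if `P` normalizes `C` and `C ≰ P` (all inside the `p`-group `S`), some
element of `C` outside `P` normalizes `P`. -/
theorem exists_mem_normalizer_of_normalizes [Finite S] {p : ℕ} [Fact p.Prime] (hS : IsPGroup p S)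
    {P C : Subgroup Ω} (hP : P ≤ S) (hC : C ≤ S) (hnorm : P ≤ Subgroup.normalizer (C : Set Ω))
    (hCP : ¬ C ≤ P) : ∃ c ∈ C, c ∉ P ∧ c ∈ Subgroup.normalizer (P : Set Ω) := by
  have hMS : P ⊔ C ≤ S := sup_le hP hC
  have hfinM : Finite ↥(P ⊔ C) := finite_of_le S hMS
  have hMp : IsPGroup p ↥(P ⊔ C) := hS.to_le hMS
  have hPM : P ≤ P ⊔ C := le_sup_left
  have hne : P ≠ P ⊔ C := fun h => hCP (by rw [h]; exact le_sup_right)
  obtain ⟨g, hgN, hgP⟩ := exists_mem_normalizerIn_not_mem (S := P ⊔ C) hMp hPM hne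
  have hmul := Subgroup.coe_mul_of_left_le_normalizer_right P C hnorm
  have hg' : g ∈ ((P ⊔ C : Subgroup Ω) : Set Ω) := hgN.1
  rw [hmul] at hg'
  obtain ⟨y, hy, c, hc, rfl⟩ := hg'
  refine ⟨c, hc, fun hcP => hgP (P.mul_mem hy hcP), ?_⟩
  have : c = y⁻¹ * (y * c) := by group
  rw [this]
  exact Subgroup.mul_mem _ (Subgroup.inv_mem _ (Subgroup.le_normalizer hy)) hgN.2

/-- Let F be a saturated fusion system over a finite p-group S, E a normal subsystem of F over T, and P an F-centric subgroup of S such that P ∩ T is not E-centric. Then some F-conjugate P* of P satisfies Out_S(P*) ∩ O_p(Out_F(P*)) ≠ 1: there is an element of N_S(P*) outside P* whose conjugation action on P* lies in O_p(Aut_F(P*)). In particular P is not both centric and radical in F. -/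
theorem result {Ω : Type*} [Group Ω] {S : Subgroup Ω} [Finite S] (p : ℕ) [Fact p.Prime] (hS : IsPGroup p S) (F : Cfsg.FusionSystem S) (hF : F.IsSaturated p) {T : Subgroup Ω} (E : Cfsg.FusionSystem T) (hE : E.IsNormalIn F p) (P : Subgroup Ω) (hP : F.IsCentric P) (hPT : ¬ E.IsCentric (P ⊓ T)) : (∃ φ ∈ F.Hom P, ∃ x ∈ S ⊓ Subgroup.normalizer (φ.range : Set Ω), x ∉ φ.range ∧ ∃ α ∈ ((Cfsg.pCore p ↥(F.autGroup φ.range)).map (F.autGroup φ.range).subtype : Subgroup (MulAut ↥φ.range)), ∀ y : ↥φ.range, ((α y : ↥φ.range) : Ω) = x * (y : Ω) * x⁻¹) ∧ ¬ F.IsRadical p P := by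
  obtain ⟨⟨hEs, -, hinv⟩, -⟩ := hE
  have hT : F.StronglyClosed T := hinv.2.1
  have hTS : T ≤ S := hT.1
  have hPS : P ≤ S := hP.1
  have hfinP : Finite P := finite_of_le S hPS
  set Q := P ⊓ T with hQdef
  have hQT : Q ≤ T := inf_le_right
  have hQP : Q ≤ P := inf_le_left
  have hQS : Q ≤ S := hQT.trans hTS
  -- a non-self-centralizing `E`-conjugate
  have hex : ∃ Q'', E.IsConj Q Q'' ∧ ¬ centralizerIn T Q'' ≤ Q'' := by
    by_contra h
    push Not at h
    exact hPT ⟨hQT, h⟩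
  obtain ⟨Q'', ⟨φ₀, hφ₀, hφ₀r⟩, hC''⟩ := hex
  have hFQQ'' : F.IsConj Q Q'' := ⟨φ₀, hinv.1 Q hφ₀, hφ₀r⟩
  obtain ⟨Q₁, hQQ₁, hQ₁fn⟩ := exists_fullyNormalized_conj F hQS
  obtain ⟨hfc, hfa⟩ := fullyNormalized_props hS hF hQ₁fn
  have hrec : F.IsReceptive Q₁ := isReceptive_of_fullyCentralized hS hF hfc
  have hQ₁S : Q₁ ≤ S := hQ₁fn.1
  obtain ⟨f, N', hf, hN', hfQ⟩ := exists_normalizer_map hS hfa hrec hQQ₁
  -- `P ≤ N_S(Q)`
  have hTn : S ≤ Subgroup.normalizer (T : Set Ω) := stronglyClosed_le_normalizer hT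
  have hPN : P ≤ normalizerIn S Q := by
    intro g hg
    refine ⟨hPS hg, ?_⟩
    show g ∈ Subgroup.normalizer (Q : Set Ω)
    rw [Subgroup.mem_normalizer_iff]
    intro x
    have hgT := Subgroup.mem_normalizer_iff.1 (hTn (hPS hg)) x
    constructor
    · rintro ⟨hxP, hxT⟩
      exact ⟨P.mul_mem (P.mul_mem hg hxP) (P.inv_mem hg), hgT.1 hxT⟩
    · rintro ⟨hxP, hxT⟩
      refine ⟨?_, hgT.2 hxT⟩
      have : x = g⁻¹ * (g * x * g⁻¹) * g := by group
      rw [this]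
      exact P.mul_mem (P.mul_mem (P.inv_mem hg) hxP) hg
  obtain ⟨P', hP'N', hfP, hP'mem⟩ := hf.restrict hPN
  have hP'S : P' ≤ S := hfP.le_right
  have hfinP' : Finite P' := finite_of_le S hP'S
  obtain ⟨g', hg', hg'f, hfg'⟩ := hfP.symm
  have hQ₁T : Q₁ ≤ T := stronglyClosed_image_le hT hfQ hQT
  have hQ₁P' : Q₁ ≤ P' := by
    intro y hy
    obtain ⟨x, hx, rfl⟩ := hfQ.surjOn hy
    exact hfP.map_mem (hQP hx)
  -- `P' ∩ T = Q₁`
  have hP'T : ∀ y, y ∈ P' → y ∈ T → y ∈ Q₁ := by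
    intro y hyP' hyT
    obtain ⟨x, hx, rfl⟩ := hfP.surjOn hyP'
    -- `x = g' (f x) ∈ T`
    have hle : P' ⊓ T ≤ P' := inf_le_left
    obtain ⟨R, -, hR, -⟩ := hg'.restrict hle
    have h1 := stronglyClosed_map_mem hT hR inf_le_right (x := f x) ⟨hyP', hyT⟩
    rw [hg'f x hx] at h1
    exact hfQ.map_mem ⟨hx, h1⟩
  -- `C_T(Q₁) ≰ Q₁`
  have hCQ₁ : ¬ centralizerIn T Q₁ ≤ Q₁ := by
    intro hle
    apply hC''
    -- iso `Q'' → Q₁`
    have hQ''Q₁ : F.IsConj Q'' Q₁ := isConj_trans F (isConj_symm F hFQQ'') hQQ₁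
    obtain ⟨ψ₀, hψ₀, hψ₀r⟩ := hQ''Q₁
    have hQ''S : Q'' ≤ S := hom_le F hψ₀
    obtain ⟨ψ, hψ, hψψ₀⟩ := hrec.2 Q'' ψ₀ hψ₀ hψ₀r
    have hQ''ext : Q'' ≤ extender S Q'' ψ₀ := le_extender F hψ₀
    intro c hc
    have hcext : c ∈ extender S Q'' ψ₀ :=
      centralizerIn_le_extender S Q'' ψ₀ ⟨hTS hc.1, hc.2⟩
    -- `ψ c ∈ C_T(Q₁)`
    have hψcT : ψ ⟨c, hcext⟩ ∈ T := by
      have hzc : Subgroup.zpowers c ≤ extender S Q'' ψ₀ := Subgroup.zpowers_le.2 hcext
      have hzT : Subgroup.zpowers c ≤ T := Subgroup.zpowers_le.2 hc.1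
      have := hT.2 (Subgroup.zpowers c) hzT _ (restrict_mem F hψ hzc)
        ⟨c, Subgroup.mem_zpowers c⟩
      exact this
    have hψcC : ψ ⟨c, hcext⟩ ∈ Subgroup.centralizer (Q₁ : Set Ω) := by
      rw [Subgroup.mem_centralizer_iff]
      intro y hy
      have hy' : y ∈ ψ₀.range := by rw [hψ₀r]; exact hy
      obtain ⟨q, rfl⟩ := hy'
      rw [← hψψ₀ q q.2 (hQ''ext q.2), ← map_mul, ← map_mul]
      congr 1
      apply Subtype.ext
      exact (Subgroup.mem_centralizer_iff.1 hc.2) q q.2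
    have h1 : ψ ⟨c, hcext⟩ ∈ Q₁ := hle ⟨hψcT, hψcC⟩
    have h1' : ψ ⟨c, hcext⟩ ∈ ψ₀.range := by rw [hψ₀r]; exact h1
    obtain ⟨q, hq⟩ := h1'
    rw [← hψψ₀ q q.2 (hQ''ext q.2)] at hq
    have := F.injective_of_mem hψ hq
    have hcq : c = q := (congrArg Subtype.val this).symm
    rw [hcq]
    exact q.2
  -- an element of `C_T(Q₁)` normalizing `P'` outside `P'`
  have hCS : centralizerIn T Q₁ ≤ S := inf_le_left.trans hTS
  have hnorm : P' ≤ Subgroup.normalizer ((centralizerIn T Q₁ : Subgroup Ω) : Set Ω) := by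
    intro y hy
    rw [Subgroup.mem_normalizer_iff]
    have hyT := Subgroup.mem_normalizer_iff.1 (hTn (hP'S hy))
    -- `y` normalizes `Q₁`
    have hyQ₁ : ∀ q, q ∈ Q₁ ↔ y * q * y⁻¹ ∈ Q₁ := by
      intro q
      constructor
      · intro hq
        exact hP'T _ (P'.mul_mem (P'.mul_mem hy (hQ₁P' hq)) (P'.inv_mem hy)) ((hyT q).1 (hQ₁T hq))
      · intro hq
        have h1 : q = y⁻¹ * (y * q * y⁻¹) * y := by group
        have h2 : q ∈ P' := by
          rw [h1]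
          exact P'.mul_mem (P'.mul_mem (P'.inv_mem hy) (hQ₁P' hq)) hy
        exact hP'T _ h2 ((hyT q).2 (hQ₁T hq))
    intro c
    constructor
    · rintro ⟨hcT, hcC⟩
      refine ⟨(hyT c).1 hcT, ?_⟩
      show y * c * y⁻¹ ∈ Subgroup.centralizer (Q₁ : Set Ω)
      have hcC : c ∈ Subgroup.centralizer (Q₁ : Set Ω) := hcC
      rw [Subgroup.mem_centralizer_iff] at hcC ⊢
      intro q hq
      have hq' : y⁻¹ * q * y ∈ Q₁ := by
        rw [hyQ₁]
        have : y * (y⁻¹ * q * y) * y⁻¹ = q := by group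
        rw [this]
        exact hq
      have h1 := hcC _ hq'
      calc q * (y * c * y⁻¹) = y * ((y⁻¹ * q * y) * c) * y⁻¹ := by group
        _ = y * (c * (y⁻¹ * q * y)) * y⁻¹ := by rw [h1]
        _ = y * c * y⁻¹ * q := by group
    · rintro ⟨hcT, hcC⟩
      refine ⟨(hyT c).2 hcT, ?_⟩
      show c ∈ Subgroup.centralizer (Q₁ : Set Ω)
      have hcC : y * c * y⁻¹ ∈ Subgroup.centralizer (Q₁ : Set Ω) := hcC
      rw [Subgroup.mem_centralizer_iff] at hcC ⊢
      intro q hq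
      have hq' : y * q * y⁻¹ ∈ Q₁ := (hyQ₁ q).1 hq
      have h1 := hcC _ hq'
      calc q * c = y⁻¹ * ((y * q * y⁻¹) * (y * c * y⁻¹)) * y := by group
        _ = y⁻¹ * ((y * c * y⁻¹) * (y * q * y⁻¹)) * y := by rw [h1]
        _ = c * q := by group
  have hCP' : ¬ centralizerIn T Q₁ ≤ P' := by
    intro hle
    apply hCQ₁
    intro c hc
    exact hP'T c (hle hc) hc.1
  obtain ⟨x, hxC, hxP', hxN⟩ := exists_mem_normalizer_of_normalizes hS hP'S hCS hnorm hCP'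
  have hxS : x ∈ S := hCS hxC
  have hxNS : x ∈ normalizerIn S P' := ⟨hxS, hxN⟩
  have hcx : IsIso F P' P' (fun y => x * y * x⁻¹) := isIso_conj_normalizer F hP'S hxNS
  -- the commutator `y⁻¹ x y x⁻¹` lies in `Q₁`
  have hcomm : ∀ y ∈ P', y⁻¹ * (x * y * x⁻¹) ∈ Q₁ := by
    intro y hy
    apply hP'T
    · exact P'.mul_mem (P'.inv_mem hy) (hcx.map_mem hy)
    · have h1 : y⁻¹ * x * y ∈ T := by
        have := (Subgroup.mem_normalizer_iff.1 (hTn (hP'S (P'.inv_mem hy))) x).1 hxC.1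
        simpa using this
      have : y⁻¹ * (x * y * x⁻¹) = (y⁻¹ * x * y) * x⁻¹ := by group
      rw [this]
      exact T.mul_mem h1 (T.inv_mem hxC.1)
  have hxcent : ∀ q ∈ Q₁, x * q * x⁻¹ = q := by
    intro q hq
    have := (Subgroup.mem_centralizer_iff.1 hxC.2) q hq
    calc x * q * x⁻¹ = (q * x) * x⁻¹ := by rw [this]
      _ = q := by group
  -- invariance of `Q₁` under `Aut_F(P')`
  have hinvQ₁ : ∀ γ ∈ F.autGroup P', ∀ y : P', (y : Ω) ∈ Q₁ → ((γ y : P') : Ω) ∈ Q₁ := by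
    intro γ hγ y hy
    apply hP'T _ (γ y).2
    have h1 := isIso_of_mem_autGroup F hP'S hγ
    obtain ⟨R, -, hR, -⟩ := h1.restrict hQ₁P'
    have := stronglyClosed_map_mem hT hR hQ₁T hy
    rwa [ext1_apply_mem _ (hQ₁P' hy)] at this
  have hfinQ₁ : Finite Q₁ := finite_of_le S hQ₁S
  have hQ₁p : IsPGroup p Q₁ := hS.to_le hQ₁S
  constructor
  · obtain ⟨φ, hφ, hφf, hφr⟩ := hfP
    subst hφr
    refine ⟨φ, hφ, x, ⟨hxS, hxN⟩, hxP', ?_⟩
    obtain ⟨α, hα, hαx⟩ := exists_mem_autGroup_of_isIso F hcx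
    refine ⟨α, ?_, hαx⟩
    have hαB : α ∈ stabChain F φ.range Q₁ := by
      refine ⟨hα, fun y => ?_, fun y hy => ?_⟩
      · rw [hαx]
        exact hcomm y y.2
      · apply Subtype.ext
        rw [hαx]
        exact hxcent y hy
    have hBn : ((stabChain F φ.range Q₁).subgroupOf (F.autGroup φ.range)).Normal := by
      constructor
      intro β hβ γ
      rw [Subgroup.mem_subgroupOf] at hβ ⊢
      exact stabChain_normal F hQ₁P' hinvQ₁ γ γ.2 β hβ
    have hBp : IsPGroup p ((stabChain F φ.range Q₁).subgroupOf (F.autGroup φ.range)) :=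
      (stabChain_isPGroup F hQ₁P' hQ₁p).comap_subtype
    have hle := le_pCore hBn hBp
    exact ⟨⟨α, hα⟩, hle (Subgroup.mem_subgroupOf.2 hαB), rfl⟩
  · intro hr
    -- transport `c_x` to an automorphism of `P`
    have hk : IsIso F P P (g' ∘ ((fun y => x * y * x⁻¹) ∘ f)) := (hfP.trans hcx).trans hg'
    obtain ⟨β, hβ, hβk⟩ := exists_mem_autGroup_of_isIso F hk
    have hβv : ∀ z : P, ((β z : P) : Ω) = g' (x * f z * x⁻¹) := hβk
    have hfβ : ∀ z : P, f ((β z : P) : Ω) = x * f z * x⁻¹ := by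
      intro z
      rw [hβv]
      exact hfg' _ (hcx.map_mem (hfP.map_mem z.2))
    have hβB : β ∈ stabChain F P Q := by
      refine ⟨hβ, fun z => ?_, fun z hz => ?_⟩
      · refine ⟨P.mul_mem (P.inv_mem z.2) (β z).2, ?_⟩
        -- `f (z⁻¹ β z) ∈ Q₁`
        have h1 : f ((z : Ω)⁻¹ * ((β z : P) : Ω)) ∈ Q₁ := by
          rw [hfP.map_mul (P.inv_mem z.2) (β z).2, hfP.map_inv z.2, hfβ]
          exact hcomm _ (hfP.map_mem z.2)
        obtain ⟨R, -, hR, -⟩ := hg'.restrict hQ₁P'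
        have h2 := stronglyClosed_map_mem hT hR hQ₁T h1
        rwa [hg'f _ (P.mul_mem (P.inv_mem z.2) (β z).2)] at h2
      · apply Subtype.ext
        rw [hβv, hxcent _ (hfQ.map_mem hz), hg'f _ z.2]
    have hPc : F.IsCentric P := hP
    have hBn : ((stabChain F P Q).subgroupOf (F.autGroup P)).Normal := by
      constructor
      intro γ hγ δ
      rw [Subgroup.mem_subgroupOf] at hγ ⊢
      refine stabChain_normal F hQP ?_ δ δ.2 γ hγ
      intro γ' hγ' y hy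
      refine ⟨(γ' y).2, ?_⟩
      have h1 := isIso_of_mem_autGroup F hPS hγ'
      obtain ⟨R, -, hR, -⟩ := h1.restrict hQP
      have := stronglyClosed_map_mem hT hR hQT hy
      rwa [ext1_apply_mem _ (hQP hy)] at this
    have hfinQ : Finite Q := finite_of_le S hQS
    have hBp : IsPGroup p ((stabChain F P Q).subgroupOf (F.autGroup P)) :=
      (stabChain_isPGroup F hQP (hS.to_le hQS)).comap_subtype
    have hle := le_pCore hBn hBp
    have hβInn : β ∈ Inn P := by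
      rw [← hr.2]
      exact ⟨⟨β, hβ⟩, hle (Subgroup.mem_subgroupOf.2 hβB), rfl⟩
    obtain ⟨y, hy⟩ := hβInn
    -- `(f y)⁻¹ x` centralizes `P'`
    have hcent : (f y)⁻¹ * x ∈ centralizerIn S P' := by
      refine ⟨S.mul_mem (S.inv_mem (hP'S (hfP.map_mem y.2))) hxS, ?_⟩
      show _ ∈ Subgroup.centralizer (P' : Set Ω)
      rw [Subgroup.mem_centralizer_iff]
      intro w hw
      obtain ⟨z, hz, rfl⟩ := hfP.surjOn hw
      have h1 := hfβ ⟨z, hz⟩
      rw [← hy] at h1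
      have h2 : f (y * z * (y : Ω)⁻¹) = x * f z * x⁻¹ := by
        rw [← h1]
        simp [MulAut.conj_apply]
      rw [hfP.map_mul (P.mul_mem y.2 hz) (P.inv_mem y.2), hfP.map_mul y.2 hz,
        hfP.map_inv y.2] at h2
      calc f z * ((f y)⁻¹ * x) = (f y)⁻¹ * (f y * f z * (f y)⁻¹) * x := by group
        _ = (f y)⁻¹ * (x * f z * x⁻¹) * x := by rw [h2]
        _ = (f y)⁻¹ * x * f z := by group
    have h3 := hP.2 P' hfP.isConj hcent
    apply hxP'
    have : x = f y * ((f y)⁻¹ * x) := by group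
    rw [this]
    exact P'.mul_mem (hfP.map_mem y.2) h3

end Cfsg.Agent.S5251
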