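import Cfsg.Statements.S5114
import Cfsg.Agent.Lib.H25.AlperinInd
import Cfsg.Agent.Lib.H25.SysOfPred
import Cfsg.Agent.Lib.H25.SatEquiv
import Cfsg.Agent.Lib.H25.SatCriteria
import Cfsg.Agent.Lib.H25.KNormSat
import Cfsg.Agent.Lib.H25.ProductSat

set_option autoImplicit false
open Cfsg

namespace Cfsg.Agent.S5114

open Cfsg.Agent.Lib.H25 Cfsg.FusionSystem

variable {Ω : Type*} [Group Ω] {S : Subgroup Ω}

/-- A pair of mutually inverse automorphisms of `S` in the system, at function level. -/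
def AutS (F : FusionSystem S) (b b' : Ω → Ω) : Prop :=
  IsIso F S S b ∧ IsIso F S S b' ∧ (∀ x ∈ S, b' (b x) = x) ∧ ∀ x ∈ S, b (b' x) = x

theorem AutS.refl (F : FusionSystem S) : AutS F id id :=
  ⟨IsIso.refl le_rfl, IsIso.refl le_rfl, fun _ _ => rfl, fun _ _ => rfl⟩

theorem AutS.symm {F : FusionSystem S} {b b' : Ω → Ω} (h : AutS F b b') : AutS F b' b :=
  ⟨h.2.1, h.1, h.2.2.2, h.2.2.1⟩

theorem AutS.trans {F : FusionSystem S} {a a' b b' : Ω → Ω} (ha : AutS F a a')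
    (hb : AutS F b b') : AutS F (a ∘ b) (b' ∘ a') := by
  refine ⟨hb.1.trans ha.1, ha.2.1.trans hb.2.1, fun x hx => ?_, fun x hx => ?_⟩
  · show b' (a' (a (b x))) = x
    rw [ha.2.2.1 _ (hb.1.map_mem hx), hb.2.2.1 x hx]
  · show a (b (b' (a' x))) = x
    rw [hb.2.2.2 _ (ha.2.1.map_mem hx), ha.2.2.2 x hx]

theorem AutS.exists_inv {F : FusionSystem S} {a : Ω → Ω} (h : IsIso F S S a) :
    ∃ a', AutS F a a' := by
  obtain ⟨a', ha', h1, h2⟩ := h.symm
  exact ⟨a', h, ha', h1, h2⟩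

/-- The image of a subgroup of `S` under an automorphism of `S` in the system. -/
theorem AutS.exists_image {F : FusionSystem S} {b b' : Ω → Ω} (h : AutS F b b')
    {P : Subgroup Ω} (hP : P ≤ S) : ∃ P', IsIso F P P' b :=
  let ⟨P', _, hP', _⟩ := h.1.restrict hP
  ⟨P', hP'⟩

/-- Isomorphisms of `⋂ β E β⁻¹`, `β ∈ Aut_F(S)`, at function level. -/
def Iso₀ (F E : FusionSystem S) (P Q : Subgroup Ω) (f : Ω → Ω) : Prop :=
  IsIso F P Q f ∧ ∀ b b' : Ω → Ω, AutS F b b' → ∀ P' Q' : Subgroup Ω, IsIso F P P' b →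
    IsIso F Q Q' b → IsIso E P' Q' (b ∘ f ∘ b')

namespace Iso₀

variable {F E : FusionSystem S} {P Q R : Subgroup Ω} {f g : Ω → Ω}

theorem toF (h : Iso₀ F E P Q f) : IsIso F P Q f := h.1

theorem toE (h : Iso₀ F E P Q f) : IsIso E P Q f := by
  have hP := h.1.le_left
  have hQ := h.1.le_right
  exact h.2 id id (AutS.refl F) P Q (IsIso.refl hP) (IsIso.refl hQ)

theorem congr (h : Iso₀ F E P Q f) (hfg : ∀ x ∈ P, f x = g x) : Iso₀ F E P Q g := by
  refine ⟨h.1.congr hfg, fun b b' hb P' Q' hP' hQ' => ?_⟩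
  refine (h.2 b b' hb P' Q' hP' hQ').congr (fun y hy => ?_)
  obtain ⟨x, hx, rfl⟩ := hP'.surjOn hy
  show b (f (b' (b x))) = b (g (b' (b x)))
  rw [hb.2.2.1 x (h.1.le_left hx), hfg x hx]

theorem trans (h1 : Iso₀ F E P Q f) (h2 : Iso₀ F E Q R g) : Iso₀ F E P R (g ∘ f) := by
  refine ⟨h1.1.trans h2.1, fun b b' hb P' R' hP' hR' => ?_⟩
  obtain ⟨Q', hQ'⟩ := hb.exists_image h1.1.le_right
  have e1 := h1.2 b b' hb P' Q' hP' hQ'
  have e2 := h2.2 b b' hb Q' R' hQ' hR'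
  refine (e1.trans e2).congr (fun y hy => ?_)
  obtain ⟨x, hx, rfl⟩ := hP'.surjOn hy
  show b (g (b' (b (f (b' (b x)))))) = b (g (f (b' (b x))))
  rw [hb.2.2.1 x (h1.1.le_left hx), hb.2.2.1 _ (h1.1.le_right (h1.1.map_mem hx))]

theorem symm (h : Iso₀ F E P Q f) (hg : IsIso F Q P g) (hgf : ∀ x ∈ P, g (f x) = x) :
    Iso₀ F E Q P g := by
  refine ⟨hg, fun b b' hb Q' P' hQ' hP' => ?_⟩
  have e1 := h.2 b b' hb P' Q' hP' hQ'
  obtain ⟨k, hk, hk1, hk2⟩ := e1.symm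
  refine hk.congr (fun y hy => ?_)
  obtain ⟨x', hx', rfl⟩ := e1.surjOn hy
  rw [hk1 x' hx']
  obtain ⟨x, hx, rfl⟩ := hP'.surjOn hx'
  show b x = b (g (b' (b (f (b' (b x))))))
  rw [hb.2.2.1 x (h.1.le_left hx), hb.2.2.1 _ (h.1.le_right (h.1.map_mem hx)), hgf x hx]

theorem restrict (h : Iso₀ F E P Q f) {P₁ Q₁ : Subgroup Ω} (hP₁ : P₁ ≤ P)
    (h₁ : IsIso F P₁ Q₁ f) : Iso₀ F E P₁ Q₁ f := by
  refine ⟨h₁, fun b b' hb P₁' Q₁' hP₁' hQ₁' => ?_⟩
  obtain ⟨P', hP'⟩ := hb.exists_image h.1.le_left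
  obtain ⟨Q', hQ'⟩ := hb.exists_image h.1.le_right
  have e := h.2 b b' hb P' Q' hP' hQ'
  have hle : P₁' ≤ P' := by
    intro y hy
    obtain ⟨x, hx, rfl⟩ := hP₁'.surjOn hy
    exact hP'.map_mem (hP₁ hx)
  refine e.restrict' hle (fun y hy => ?_) (fun z hz => ?_)
  · obtain ⟨x, hx, rfl⟩ := hP₁'.surjOn hy
    show b (f (b' (b x))) ∈ Q₁'
    rw [hb.2.2.1 x (h₁.le_left hx)]
    exact hQ₁'.map_mem (h₁.map_mem hx)
  · obtain ⟨w, hw, rfl⟩ := hQ₁'.surjOn hz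
    obtain ⟨x, hx, rfl⟩ := h₁.surjOn hw
    refine ⟨b x, hP₁'.map_mem hx, ?_⟩
    show b (f (b' (b x))) = b (f x)
    rw [hb.2.2.1 x (h₁.le_left hx)]

/-- Invariance under `Aut_F(S)`. -/
theorem conj (h : Iso₀ F E P Q f) {a a' : Ω → Ω} (ha : AutS F a a') {P₁ Q₁ : Subgroup Ω}
    (hP₁ : IsIso F P P₁ a) (hQ₁ : IsIso F Q Q₁ a) : Iso₀ F E P₁ Q₁ (a ∘ f ∘ a') := by
  have hPS := h.1.le_left
  have hQS := h.1.le_right
  have ha'P : IsIso F P₁ P a' := by
    refine (ha.2.1.restrict' hP₁.le_right (Q' := P) ?_ ?_)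
    · intro y hy
      obtain ⟨x, hx, rfl⟩ := hP₁.surjOn hy
      rw [ha.2.2.1 x (hPS hx)]
      exact hx
    · intro x hx
      exact ⟨a x, hP₁.map_mem hx, ha.2.2.1 x (hPS hx)⟩
  refine ⟨(ha'P.trans h.1).trans hQ₁, fun b b' hb P' Q' hP' hQ' => ?_⟩
  have hba := hb.trans ha
  have e := h.2 (b ∘ a) (a' ∘ b') hba P' Q' (hP₁.trans hP') (hQ₁.trans hQ')
  exact e

end Iso₀

/-- Conjugation by an element of `S` lies in `⋂ β E β⁻¹`. -/
theorem iso₀_conj (F E : FusionSystem S) {P : Subgroup Ω} (hP : P ≤ S) {s : Ω} (hs : s ∈ S) :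
    ∃ Q, Iso₀ F E P Q (fun x => s * x * s⁻¹) := by
  have hc : IsIso F P (P.map (MulAut.conj s).toMonoidHom) (fun x => s * x * s⁻¹) :=
    IsIso.conj hP hs
  refine ⟨_, hc, fun b b' hb P' Q' hP' hQ' => ?_⟩
  have hP'S : P' ≤ S := hP'.le_right
  have hbs : b s ∈ S := hb.1.map_mem hs
  have hc' : IsIso E P' (P'.map (MulAut.conj (b s)).toMonoidHom) (fun y => b s * y * (b s)⁻¹) :=
    IsIso.conj hP'S hbs
  have hval : ∀ y ∈ P', (fun y => b s * y * (b s)⁻¹) y = (b ∘ (fun x => s * x * s⁻¹) ∘ b') y := by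
    intro y hy
    obtain ⟨x, hx, rfl⟩ := hP'.surjOn hy
    show b s * b x * (b s)⁻¹ = b (s * b' (b x) * s⁻¹)
    rw [hb.2.2.1 x (hP hx), hb.1.map_mul (S.mul_mem hs (hP hx)) (S.inv_mem hs),
      hb.1.map_mul hs (hP hx), hb.1.map_inv hs]
  have hc'' := hc'.congr hval
  refine hc''.restrict' le_rfl (fun y hy => ?_) (fun z hz => ?_)
  · obtain ⟨x, hx, rfl⟩ := hP'.surjOn hy
    show b (s * b' (b x) * s⁻¹) ∈ Q'
    rw [hb.2.2.1 x (hP hx)]
    exact hQ'.map_mem (hc.map_mem hx)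
  · obtain ⟨w, hw, rfl⟩ := hQ'.surjOn hz
    obtain ⟨x, hx, rfl⟩ := hc.surjOn hw
    refine ⟨b x, hP'.map_mem hx, ?_⟩
    show b (s * b' (b x) * s⁻¹) = b (s * x * s⁻¹)
    rw [hb.2.2.1 x (hP hx)]

/-- A conjugate of a centric subgroup is centric. -/
theorem isCentric_of_isIso {F : FusionSystem S} {R R' : Subgroup Ω} {b : Ω → Ω}
    (hR : F.IsCentric R) (hb : IsIso F R R' b) : F.IsCentric R' :=
  ⟨hb.le_right, fun Q hQ => hR.2 Q (isConj_trans F hb.isConj hQ)⟩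

/-- The hypothesis on automizers of centric subgroups puts the automorphisms of `p`-power order
of centric subgroups into `⋂ β E β⁻¹`. -/
theorem iso₀_of_pPower {p : ℕ} {F E : FusionSystem S}
    (h : ∀ P : Subgroup Ω, F.IsCentric P →
      (Subgroup.closure {α : ↥(F.autGroup P) | ∃ k : ℕ, orderOf α = p ^ k}).map
        (F.autGroup P).subtype ≤ E.autGroup P)
    {R : Subgroup Ω} (hR : F.IsCentric R) {γ : MulAut R} (hγ : γ ∈ F.autGroup R) {k : ℕ}
    (hk : orderOf γ = p ^ k) : Iso₀ F E R R (aut1 γ) := by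
  have hRS := hR.1
  refine ⟨isIso_aut1 F hRS hγ, fun b b' hb R' R'' hR' hR'' => ?_⟩
  have hRe : R' = R'' := IsIso.target_eq hR' hR'' (fun _ _ => rfl)
  subst hRe
  have hcen : F.IsCentric R' := isCentric_of_isIso hR hR'
  have hγ' : MulAut.congr hR'.toMulEquiv γ ∈ F.autGroup R' :=
    congr_mem_autGroup hR' hR'.toMulEquiv (fun x => hR'.toMulEquiv_apply x) hγ
  have hord : orderOf (MulAut.congr hR'.toMulEquiv γ) = p ^ k := by
    rw [MulEquiv.orderOf_eq]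
    exact hk
  have hmemE : MulAut.congr hR'.toMulEquiv γ ∈ E.autGroup R' := by
    apply h R' hcen
    refine ⟨⟨_, hγ'⟩, Subgroup.subset_closure ⟨k, ?_⟩, rfl⟩
    rw [← hord]
    exact Subgroup.orderOf_mk _ hγ'
  have hiso := isIso_aut1 E hR'.le_right hmemE
  refine hiso.congr (fun y hy => ?_)
  obtain ⟨x, hx, rfl⟩ := hR'.surjOn hy
  rw [aut1_apply_mem _ hy]
  show ((hR'.toMulEquiv (γ (hR'.toMulEquiv.symm ⟨b x, hy⟩)) : R') : Ω) = b (aut1 γ (b' (b x)))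
  have e1 : hR'.toMulEquiv.symm ⟨b x, hy⟩ = ⟨x, hx⟩ := by
    rw [MulEquiv.symm_apply_eq]
    exact Subtype.ext (hR'.toMulEquiv_apply ⟨x, hx⟩).symm
  rw [e1, hb.2.2.1 x (hRS hx), hR'.toMulEquiv_apply, aut1_apply_mem γ hx]

/-- Factorable isomorphisms: an isomorphism of `⋂ β E β⁻¹` followed by an element of `Aut_F(S)`. -/
def FIso (F E : FusionSystem S) (P Q : Subgroup Ω) (f : Ω → Ω) : Prop :=
  IsIso F P Q f ∧ ∃ (a a' f₀ : Ω → Ω) (P₀ : Subgroup Ω), AutS F a a' ∧ Iso₀ F E P P₀ f₀ ∧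
    ∀ x ∈ P, f x = a (f₀ x)

theorem fiso_of_iso₀ {F E : FusionSystem S} {P Q : Subgroup Ω} {f : Ω → Ω}
    (h : Iso₀ F E P Q f) : FIso F E P Q f :=
  ⟨h.1, id, id, f, Q, AutS.refl F, h, fun _ _ => rfl⟩

theorem fiso_of_autS {F : FusionSystem S} (E : FusionSystem S) {a : Ω → Ω}
    (h : IsIso F S S a) : FIso F E S S a := by
  obtain ⟨a', ha⟩ := AutS.exists_inv h
  have hid : Iso₀ F E S S id := by
    refine ⟨IsIso.refl le_rfl, fun b b' hb P' Q' hP' hQ' => ?_⟩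
    have h1 : P' = S := IsIso.target_eq hP' hb.1 (fun _ _ => rfl)
    have h2 : Q' = S := IsIso.target_eq hQ' hb.1 (fun _ _ => rfl)
    subst h1
    rw [h2]
    refine (IsIso.refl (F := E) le_rfl).congr (fun y hy => ?_)
    show y = b (b' y)
    rw [hb.2.2.2 y hy]
  exact ⟨h, a, a', id, S, ha, hid, fun _ _ => rfl⟩

theorem isoPred_fiso (F E : FusionSystem S) : IsoPred F (FIso F E) where
  sub := fun h => h.1
  congr := by
    rintro P Q f g ⟨hf, a, a', f₀, P₀, ha, h₀, hv⟩ hfg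
    exact ⟨hf.congr hfg, a, a', f₀, P₀, ha, h₀, fun x hx => by rw [← hfg x hx, hv x hx]⟩
  conj := by
    intro P hP s hs
    obtain ⟨Q, hQ⟩ := iso₀_conj F E hP hs
    exact ⟨Q, fiso_of_iso₀ hQ⟩
  restrict := by
    rintro P Q P' Q' f ⟨hf, a, a', f₀, P₀, ha, h₀, hv⟩ hP' hf'
    obtain ⟨P₀', -, hP₀', -⟩ := h₀.1.restrict hP'
    exact ⟨hf', a, a', f₀, P₀', ha, h₀.restrict hP' hP₀', fun x hx => hv x (hP' hx)⟩
  trans := by
    rintro P Q R f g ⟨hf, a, a', f₀, P₀, ha, h₀, hv⟩ ⟨hg, b, b', g₀, Q₀, hb, k₀, hw⟩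
    -- `f = a f₀`, `g = b g₀`; `g f = (b a) (a' g₀ a) f₀`
    have hPS := hf.le_left
    have hQS := hf.le_right
    have hP₀S := h₀.1.le_right
    have hQ₀S := k₀.1.le_right
    -- `a` maps `P₀` onto `Q`
    have haP₀ : IsIso F P₀ Q a := by
      refine ha.1.restrict' hP₀S (fun y hy => ?_) (fun z hz => ?_)
      · obtain ⟨x, hx, rfl⟩ := h₀.1.surjOn hy
        rw [← hv x hx]
        exact hf.map_mem hx
      · obtain ⟨x, hx, rfl⟩ := hf.surjOn hz
        exact ⟨f₀ x, h₀.1.map_mem hx, (hv x hx).symm⟩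
    -- `a'` maps `Q` onto `P₀` and `Q₀` onto some `Q₀'`
    have ha'Q : IsIso F Q P₀ a' := by
      refine ha.2.1.restrict' hQS (fun y hy => ?_) (fun z hz => ?_)
      · obtain ⟨x, hx, rfl⟩ := haP₀.surjOn hy
        rw [ha.2.2.1 x (hP₀S hx)]
        exact hx
      · exact ⟨a z, haP₀.map_mem hz, ha.2.2.1 z (hP₀S hz)⟩
    obtain ⟨Q₀', hQ₀'⟩ := ha.symm.exists_image hQ₀S
    have hconj : Iso₀ F E P₀ Q₀' (a' ∘ g₀ ∘ a) := k₀.conj ha.symm ha'Q hQ₀'
    have htr : Iso₀ F E P Q₀' ((a' ∘ g₀ ∘ a) ∘ f₀) := h₀.trans hconj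
    refine ⟨hf.trans hg, b ∘ a, a' ∘ b', (a' ∘ g₀ ∘ a) ∘ f₀, Q₀', hb.trans ha, htr,
      fun x hx => ?_⟩
    show g (f x) = b (a (a' (g₀ (a (f₀ x)))))
    rw [← hv x hx, ha.2.2.2 _ (hQ₀S (k₀.1.map_mem (hf.map_mem hx))), hw _ (hf.map_mem hx)]
  symm := by
    rintro P Q f g ⟨hf, a, a', f₀, P₀, ha, h₀, hv⟩ hg hgf
    have hPS := hf.le_left
    have hQS := hf.le_right
    have hP₀S := h₀.1.le_right
    have haP₀ : IsIso F P₀ Q a := by
      refine ha.1.restrict' hP₀S (fun y hy => ?_) (fun z hz => ?_)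
      · obtain ⟨x, hx, rfl⟩ := h₀.1.surjOn hy
        rw [← hv x hx]
        exact hf.map_mem hx
      · obtain ⟨x, hx, rfl⟩ := hf.surjOn hz
        exact ⟨f₀ x, h₀.1.map_mem hx, (hv x hx).symm⟩
    obtain ⟨k₀, hk₀, hk1, hk2⟩ := h₀.1.symm
    have hk₀' : Iso₀ F E P₀ P k₀ := h₀.symm hk₀ hk1
    obtain ⟨P₁, hP₁⟩ := ha.exists_image hPS
    have hconj : Iso₀ F E Q P₁ (a ∘ k₀ ∘ a') := hk₀'.conj ha haP₀ hP₁
    refine ⟨hg, a', a, a ∘ k₀ ∘ a', P₁, ha.symm, hconj, fun y hy => ?_⟩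
    obtain ⟨x, hx, rfl⟩ := hf.surjOn hy
    show g (f x) = a' (a (k₀ (a' (f x))))
    rw [hgf x hx, hv x hx, ha.2.2.1 _ (hP₀S (h₀.1.map_mem hx)), hk1 x hx, ha.2.2.1 x (hPS hx)]

theorem iso₀_refl (F E : FusionSystem S) {P : Subgroup Ω} (hP : P ≤ S) : Iso₀ F E P P id := by
  refine ⟨IsIso.refl hP, fun b b' hb P' Q' hP' hQ' => ?_⟩
  have h1 : P' = Q' := IsIso.target_eq hP' hQ' (fun _ _ => rfl)
  subst h1
  refine (IsIso.refl (F := E) hP'.le_right).congr (fun y hy => ?_)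
  obtain ⟨x, hx, rfl⟩ := hP'.surjOn hy
  show b x = b (b' (b x))
  rw [hb.2.2.1 x (hP hx)]

/-- The automorphisms of `P` that are factorable, as a subgroup of `Aut(P)`. -/
def fAut (F E : FusionSystem S) (P : Subgroup Ω) (hP : P ≤ S) : Subgroup (MulAut P) where
  carrier := {α | α ∈ F.autGroup P ∧ FIso F E P P (aut1 α)}
  one_mem' := by
    refine ⟨Subgroup.one_mem _, ?_⟩
    refine (isoPred_fiso F E).congr (fiso_of_iso₀ (iso₀_refl F E hP)) (fun x hx => ?_)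
    rw [aut1_apply_mem _ hx]
    rfl
  mul_mem' := by
    rintro α β ⟨hα, hα'⟩ ⟨hβ, hβ'⟩
    refine ⟨Subgroup.mul_mem _ hα hβ, ?_⟩
    refine (isoPred_fiso F E).congr ((isoPred_fiso F E).trans hβ' hα') (fun x hx => ?_)
    show aut1 α (aut1 β x) = aut1 (α * β) x
    rw [aut1_apply_mem β hx, aut1_apply, aut1_apply_mem _ hx]
    rfl
  inv_mem' := by
    rintro α ⟨hα, hα'⟩
    refine ⟨Subgroup.inv_mem _ hα, ?_⟩
    refine (isoPred_fiso F E).symm hα' (isIso_aut1 F hP (Subgroup.inv_mem _ hα)) (fun x hx => ?_)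
    rw [aut1_apply_mem α hx, aut1_apply]
    simp

theorem autGroup_le_of_isIso {F M : FusionSystem S} {P : Subgroup Ω} (hP : P ≤ S)
    (h : ∀ f : Ω → Ω, IsIso F P P f → IsIso M P P f) : F.autGroup P ≤ M.autGroup P := by
  intro α hα
  obtain ⟨β, hβ, hβv⟩ := exists_mem_autGroup_of_isIso M (h _ (isIso_aut1 F hP hα))
  have : β = α := by
    ext x
    rw [hβv, aut1_apply]
  rw [← this]
  exact hβ

/-- The Frattini step: for an essential subgroup `P`, every element of `Aut_F(P)` is factorable as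
soon as all maps of `F` between larger subgroups are. -/
theorem fiso_essential [Finite S] {p : ℕ} [hp : Fact p.Prime] (hS : IsPGroup p S)
    {F : FusionSystem S} (hF : F.IsSaturated p) (E : FusionSystem S)
    (h : ∀ P : Subgroup Ω, F.IsCentric P →
      (Subgroup.closure {α : ↥(F.autGroup P) | ∃ k : ℕ, orderOf α = p ^ k}).map
        (F.autGroup P).subtype ≤ E.autGroup P)
    {P : Subgroup Ω} (hcen : F.IsCentric P) (hfn : F.IsFullyNormalized P) (hne : P ≠ S)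
    (IH : ∀ (Q' Q'' : Subgroup Ω) (k : Ω → Ω), Nat.card P < Nat.card Q' → IsIso F Q' Q'' k →
      FIso F E Q' Q'' k)
    {β : MulAut P} (hβ : β ∈ F.autGroup P) : FIso F E P P (aut1 β) := by
  have hPS : P ≤ S := hcen.1
  have hfinP : Finite P := finite_of_le S hPS
  obtain ⟨hfc, hfa⟩ := fullyNormalized_props hS hF hfn
  have hrec : F.IsReceptive P := isReceptive_of_fullyCentralized hS hF hfc
  -- the subgroup `N = O^{p'}(Aut_F(P))`
  obtain ⟨N, hN⟩ : ∃ N : Subgroup (MulAut P), N =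
      (Subgroup.closure {α : ↥(F.autGroup P) | ∃ k : ℕ, orderOf α = p ^ k}).map
        (F.autGroup P).subtype := ⟨_, rfl⟩
  have hNA : N ≤ F.autGroup P := by
    rw [hN]
    rintro _ ⟨α, -, rfl⟩
    exact α.2
  have hgenN : ∀ γ : MulAut P, γ ∈ F.autGroup P → (∃ k : ℕ, orderOf γ = p ^ k) → γ ∈ N := by
    intro γ hγ ⟨k, hk⟩
    rw [hN]
    refine ⟨⟨γ, hγ⟩, Subgroup.subset_closure ⟨k, ?_⟩, rfl⟩
    rw [← hk]
    exact Subgroup.orderOf_mk _ hγ
  have hNf : N ≤ fAut F E P hPS := by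
    rw [hN, Subgroup.map_le_iff_le_comap, Subgroup.closure_le]
    rintro γ ⟨k, hk⟩
    have hk' : orderOf (γ : MulAut P) = p ^ k := by rw [Subgroup.orderOf_coe]; exact hk
    exact ⟨γ.2, fiso_of_iso₀ (iso₀_of_pPower h hcen γ.2 hk')⟩
  -- `T = Aut_S(P)` is a Sylow subgroup inside `N`
  have hTp : IsPGroup p (autInducedBy S P) := autInducedBy_isPGroup hS P
  have hTA : autInducedBy S P ≤ F.autGroup P := autInducedBy_le_autGroup F hPS
  have hTN : autInducedBy S P ≤ N := by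
    intro t ht
    obtain ⟨k, hk⟩ := (IsPGroup.iff_orderOf.1 hTp) ⟨t, ht⟩
    refine hgenN t (hTA ht) ⟨k, ?_⟩
    rw [← hk]
    exact (Subgroup.orderOf_mk _ ht).symm
  have hcardT : Nat.card (autInducedBy S P) = p ^ (Nat.card N).factorization p :=
    sylow_card_of_le hTN hNA (card_autInducedBy_of_fullyAutomized hfa)
  have hDN : (autInducedBy S P).map (MulAut.conj β).toMonoidHom ≤ N := by
    rintro _ ⟨t, ht, rfl⟩
    obtain ⟨k, hk⟩ := (IsPGroup.iff_orderOf.1 hTp) ⟨t, ht⟩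
    refine hgenN _ ?_ ⟨k, ?_⟩
    · exact Subgroup.mul_mem _ (Subgroup.mul_mem _ hβ (hTA ht)) (Subgroup.inv_mem _ hβ)
    · rw [← hk]
      show orderOf ((MulAut.conj β) t) = _
      rw [MulEquiv.orderOf_eq]
      exact (Subgroup.orderOf_mk _ ht).symm
  obtain ⟨η, hηN, hη⟩ := sylow_conj hTN hcardT hDN (hTp.map _)
  -- `ν = η β` normalizes `T`
  have hνA : η * β ∈ F.autGroup P := Subgroup.mul_mem _ (hNA hηN) hβ
  have hνT : ∀ t ∈ autInducedBy S P, (η * β) * t * (η * β)⁻¹ ∈ autInducedBy S P := by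
    intro t ht
    have := hη _ ⟨t, ht, rfl⟩
    have e : η * ((MulAut.conj β).toMonoidHom t) * η⁻¹ = (η * β) * t * (η * β)⁻¹ := by
      show η * (β * t * β⁻¹) * η⁻¹ = _
      group
    rwa [e] at this
  -- `ν` extends to a larger subgroup
  obtain ⟨g, hgN, hgP⟩ := exists_mem_normalizerIn_not_mem hS hPS hne
  have hgext : g ∈ extender S P (P.subtype.comp (η * β).toMonoidHom) := by
    rw [mem_extender_iff]
    obtain ⟨t, htA, htv⟩ := exists_mem_autGroup_of_isIso F (isIso_conj_normalizer F hPS hgN)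
    have htT : t ∈ autInducedBy S P := (mem_autInducedBy_iff S P t).2 ⟨g, hgN.1, htv⟩
    obtain ⟨h', hh'S, hh'v⟩ := (mem_autInducedBy_iff S P _).1 (hνT t htT)
    refine ⟨hgN.1, hgN.2, h', hh'S, fun x hx => ?_⟩
    have e1 := hh'v ((η * β) x)
    have e2 : ((η * β) * t * (η * β)⁻¹) ((η * β) x) = (η * β) (t x) := by
      simp [MulAut.mul_apply]
    rw [e2] at e1
    have e3 : t x = ⟨g * (x : Ω) * g⁻¹, hx⟩ := Subtype.ext (htv x)
    rw [e3] at e1
    exact e1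
  have hνext : η * β ∈ extGens F P := mem_extGens_of_extender hrec hνA hgext hgP
  obtain ⟨Q', hPQ', φ', hφ', hφ'v⟩ := hνext
  have hQ'S : Q' ≤ S := hom_le F hφ'
  have hfisoQ' : FIso F E Q' φ'.range (ext1 φ') :=
    IH _ _ _ (card_lt_of_lt' hQ'S hPQ') (isIso_of_mem F hφ')
  have hval : ∀ x ∈ P, aut1 (η * β) x = ext1 φ' x := by
    intro x hx
    rw [aut1_apply_mem _ hx, ext1_apply_mem φ' (hPQ'.le hx), ← hφ'v ⟨x, hx⟩]
    rfl
  have hνF : FIso F E P P (aut1 (η * β)) := by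
    have h1 : IsIso F P P (ext1 φ') := (isIso_aut1 F hPS hνA).congr hval
    have h2 := (isoPred_fiso F E).restrict hfisoQ' hPQ'.le h1
    exact (isoPred_fiso F E).congr h2 (fun x hx => (hval x hx).symm)
  -- assemble `β = η⁻¹ (η β)`
  have hηf : η⁻¹ ∈ fAut F E P hPS := Subgroup.inv_mem _ (hNf hηN)
  have hνf : η * β ∈ fAut F E P hPS := ⟨hνA, hνF⟩
  have hβf : η⁻¹ * (η * β) ∈ fAut F E P hPS := Subgroup.mul_mem _ hηf hνf
  rw [inv_mul_cancel_left] at hβf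
  exact hβf.2

/-- Every isomorphism of `F` is factorable. -/
theorem fiso_all [Finite S] {p : ℕ} [hp : Fact p.Prime] (hS : IsPGroup p S)
    {F : FusionSystem S} (hF : F.IsSaturated p) (E : FusionSystem S)
    (h : ∀ P : Subgroup Ω, F.IsCentric P →
      (Subgroup.closure {α : ↥(F.autGroup P) | ∃ k : ℕ, orderOf α = p ^ k}).map
        (F.autGroup P).subtype ≤ E.autGroup P) :
    ∀ (P Q : Subgroup Ω) (f : Ω → Ω), IsIso F P Q f → FIso F E P Q f := by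
  have hM := alperin_ind hS F hF (sysOfPred (isoPred_fiso F E)) (fun P hP IH => ?_)
  · intro P Q f hf
    obtain ⟨φ, hφ, hφf, hr⟩ := hf
    exact (isIso_sysOfPred_iff (isoPred_fiso F E)).1 ⟨φ, hM P hφ, hφf, hr⟩
  · have hPS : P ≤ S := by
      rcases hP with rfl | hP
      · exact le_rfl
      · exact hP.1.1
    apply autGroup_le_of_isIso hPS
    intro f hf
    rw [isIso_sysOfPred_iff]
    by_cases hPeq : P = S
    · rw [hPeq] at hf ⊢
      exact fiso_of_autS E hf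
    · rcases hP with hP | hP
      · exact absurd hP hPeq
      · obtain ⟨hcen, hfn, -⟩ := hP
        obtain ⟨β, hβ, hβv⟩ := exists_mem_autGroup_of_isIso F hf
        have IH' : ∀ (Q' Q'' : Subgroup Ω) (k : Ω → Ω), Nat.card P < Nat.card Q' →
            IsIso F Q' Q'' k → FIso F E Q' Q'' k := by
          intro Q' Q'' k hlt hk
          obtain ⟨ψ, hψ, hψk, hr⟩ := hk
          exact (isIso_sysOfPred_iff (isoPred_fiso F E)).1
            ⟨ψ, IH Q' (hom_le F hψ) hlt hψ, hψk, hr⟩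
        have := fiso_essential hS hF E h hcen hfn hPeq IH' hβ
        refine (isoPred_fiso F E).congr this (fun x hx => ?_)
        rw [aut1_apply_mem β hx]
        exact hβv ⟨x, hx⟩

/-- `P C_S(P)` is centric when `P` is fully centralized. -/
theorem isCentric_sup_centralizerIn [Finite S] {F : FusionSystem S} {P : Subgroup Ω}
    (hfc : F.IsFullyCentralized P) : F.IsCentric (P ⊔ centralizerIn S P) := by
  have hPS := hfc.1
  have hRS : P ⊔ centralizerIn S P ≤ S := sup_le hPS inf_le_left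
  refine ⟨hRS, fun R' hR' => ?_⟩
  obtain ⟨φ, hφ⟩ := (isConj_iff F).1 hR'
  obtain ⟨P', hP'R', hP', hP'mem⟩ := hφ.restrict (le_sup_left : P ≤ P ⊔ centralizerIn S P)
  obtain ⟨C', hC'R', hC', hC'mem⟩ :=
    hφ.restrict (le_sup_right : centralizerIn S P ≤ P ⊔ centralizerIn S P)
  have hR'S : R' ≤ S := hφ.le_right
  have hC'le : C' ≤ centralizerIn S P' := by
    intro y hy
    obtain ⟨c, hc, rfl⟩ := (hC'mem y).1 hy
    refine ⟨hR'S (hC'R' hy), ?_⟩
    show φ c ∈ Subgroup.centralizer (P' : Set Ω)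
    rw [Subgroup.mem_centralizer_iff]
    intro z hz
    obtain ⟨x, hx, rfl⟩ := (hP'mem z).1 hz
    have hxR : x ∈ P ⊔ centralizerIn S P := (le_sup_left : P ≤ _) hx
    have hcR : c ∈ P ⊔ centralizerIn S P := (le_sup_right : centralizerIn S P ≤ _) hc
    rw [← hφ.map_mul hxR hcR, ← hφ.map_mul hcR hxR]
    congr 1
    exact hc.2 x hx
  have hfinC : Finite (centralizerIn S P') := finite_of_le S inf_le_left
  have hcard : Nat.card (centralizerIn S P') ≤ Nat.card C' := by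
    rw [← hC'.card_eq]
    exact hfc.2 P' hP'.isConj
  have hCeq : C' = centralizerIn S P' := Subgroup.eq_of_le_of_card_ge hC'le hcard
  intro y hy
  apply hC'R'
  rw [hCeq]
  refine ⟨hy.1, ?_⟩
  show y ∈ Subgroup.centralizer (P' : Set Ω)
  rw [Subgroup.mem_centralizer_iff]
  intro z hz
  exact hy.2 z (hP'R' hz)

/-- Automorphisms of `S` in the system preserve the order of centralizers. -/
theorem AutS.card_centralizerIn_le [Finite S] {F : FusionSystem S} {b b' : Ω → Ω}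
    (hb : AutS F b b') {P P' : Subgroup Ω} (hP : IsIso F P P' b) :
    Nat.card (centralizerIn S P) ≤ Nat.card (centralizerIn S P') := by
  have key : ∀ c : centralizerIn S P, b c ∈ centralizerIn S P' := by
    intro c
    refine ⟨hb.1.map_mem c.2.1, ?_⟩
    show b c ∈ Subgroup.centralizer (P' : Set Ω)
    rw [Subgroup.mem_centralizer_iff]
    intro z hz
    obtain ⟨x, hx, rfl⟩ := hP.surjOn hz
    have hxS : x ∈ S := hP.le_left hx
    rw [← hb.1.map_mul hxS c.2.1, ← hb.1.map_mul c.2.1 hxS]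
    congr 1
    exact c.2.2 x hx
  have hfin : Finite (centralizerIn S P') := finite_of_le S inf_le_left
  refine Nat.card_le_card_of_injective (fun c : centralizerIn S P => (⟨b c, key c⟩ : centralizerIn S P')) ?_
  intro c d hcd
  have : b c = b d := congrArg Subtype.val hcd
  exact Subtype.ext (hb.1.injOn c.2.1 d.2.1 this)

/-- For a fully centralized subgroup, automorphisms of `p`-power order lie in `Aut_E`. -/
theorem pPower_mem_fc [Finite S] {p : ℕ} [hp : Fact p.Prime] (hS : IsPGroup p S)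
    {F : FusionSystem S} (hF : F.IsSaturated p) (E : FusionSystem S)
    (h : ∀ P : Subgroup Ω, F.IsCentric P →
      (Subgroup.closure {α : ↥(F.autGroup P) | ∃ k : ℕ, orderOf α = p ^ k}).map
        (F.autGroup P).subtype ≤ E.autGroup P)
    {P₀ : Subgroup Ω} (hfc : F.IsFullyCentralized P₀) {γ₀ : MulAut P₀}
    (hγ₀ : γ₀ ∈ F.autGroup P₀) {k : ℕ} (hk : γ₀ ^ (p ^ k) = 1) : γ₀ ∈ E.autGroup P₀ := by
  have hP₀S := hfc.1
  have hfinP₀ : Finite P₀ := finite_of_le S hP₀S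
  have hrec : F.IsReceptive P₀ := isReceptive_of_fullyCentralized hS hF hfc
  have hRcen : F.IsCentric (P₀ ⊔ centralizerIn S P₀) := isCentric_sup_centralizerIn hfc
  have hRS := hRcen.1
  have hfinR : Finite ↥(P₀ ⊔ centralizerIn S P₀) := finite_of_le S hRS
  have hiso : IsIso F P₀ P₀ (aut1 γ₀) := isIso_aut1 F hP₀S hγ₀
  have hiso' := hiso
  obtain ⟨φ, hφ, hφv, hr⟩ := hiso'
  have hle : P₀ ⊔ centralizerIn S P₀ ≤ extender S P₀ φ :=
    sup_le (le_extender F hφ) (centralizerIn_le_extender S P₀ φ)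
  obtain ⟨k', N', hi, hv⟩ := IsReceptive_extend hrec hiso (P₀ ⊔ centralizerIn S P₀)
    (fun n hn => (mem_extender_iff' hφv n).1 (hle hn))
  have hv' : ∀ x ∈ P₀, k' x = aut1 γ₀ x := fun x hx => hv x hx ((le_sup_left : P₀ ≤ _) hx)
  have hpre : P₀ ⊔ centralizerIn S P₀ ≤ hi.pre (P₀ ⊔ centralizerIn S P₀) := by
    apply sup_le
    · intro x hx
      refine ⟨(le_sup_left : P₀ ≤ _) hx, (le_sup_left : P₀ ≤ _) ?_⟩
      rw [hv' x hx]
      exact hiso.map_mem hx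
    · intro c hc
      have hcR : c ∈ P₀ ⊔ centralizerIn S P₀ := (le_sup_right : centralizerIn S P₀ ≤ _) hc
      refine ⟨hcR, (le_sup_right : centralizerIn S P₀ ≤ _) ⟨hi.le_right (hi.map_mem hcR), ?_⟩⟩
      show k' c ∈ Subgroup.centralizer (P₀ : Set Ω)
      rw [Subgroup.mem_centralizer_iff]
      intro z hz
      obtain ⟨x, hx, rfl⟩ := hiso.surjOn hz
      have hxR : x ∈ P₀ ⊔ centralizerIn S P₀ := (le_sup_left : P₀ ≤ _) hx
      rw [← hv' x hx, ← hi.map_mul hxR hcR, ← hi.map_mul hcR hxR]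
      congr 1
      exact hc.2 x hx
  have hN'le : N' ≤ P₀ ⊔ centralizerIn S P₀ := by
    intro y hy
    obtain ⟨x, hx, rfl⟩ := hi.surjOn hy
    exact (hpre hx).2
  have hN'eq : N' = P₀ ⊔ centralizerIn S P₀ :=
    Subgroup.eq_of_le_of_card_ge hN'le (le_of_eq hi.card_eq)
  rw [hN'eq] at hi
  obtain ⟨δ, hδ, hδv⟩ := exists_mem_autGroup_of_isIso F hi
  obtain ⟨j, c, hjc, hjγ⟩ := exists_pow_pPower_and_fix (p := p) δ (isOfFinOrder_of_finite δ) γ₀ hk
  have hδj : δ ^ j ∈ F.autGroup (P₀ ⊔ centralizerIn S P₀) := Subgroup.pow_mem _ hδ j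
  obtain ⟨c', -, hc'⟩ := (Nat.dvd_prime_pow hp.out).1 (orderOf_dvd_of_pow_eq_one hjc)
  have hδjE : δ ^ j ∈ E.autGroup (P₀ ⊔ centralizerIn S P₀) := by
    apply h _ hRcen
    refine ⟨⟨_, hδj⟩, Subgroup.subset_closure ⟨c', ?_⟩, rfl⟩
    rw [← hc']
    exact Subgroup.orderOf_mk _ hδj
  have hres : ∀ x : P₀, (((δ ^ j) ⟨x, (le_sup_left : P₀ ≤ P₀ ⊔ centralizerIn S P₀) x.2⟩ :
      ↥(P₀ ⊔ centralizerIn S P₀)) : Ω) = ((γ₀ x : P₀) : Ω) := by
    intro x
    have := restrict_pow (le_sup_left : P₀ ≤ P₀ ⊔ centralizerIn S P₀) δ γ₀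
      (fun x => by rw [hδv]; show k' (x : Ω) = _; rw [hv' x x.2, aut1_apply]) j x
    rw [this, hjγ]
  have hisoE : IsIso E (P₀ ⊔ centralizerIn S P₀) (P₀ ⊔ centralizerIn S P₀) (aut1 (δ ^ j)) :=
    isIso_aut1 E hRS hδjE
  have hval : ∀ x ∈ P₀, aut1 (δ ^ j) x = aut1 γ₀ x := by
    intro x hx
    rw [aut1_apply_mem _ ((le_sup_left : P₀ ≤ P₀ ⊔ centralizerIn S P₀) hx), aut1_apply_mem _ hx]
    exact hres ⟨x, hx⟩
  have hisoE' : IsIso E P₀ P₀ (aut1 (δ ^ j)) := by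
    refine hisoE.restrict' le_sup_left (fun x hx => ?_) (fun y hy => ?_)
    · rw [hval x hx]
      exact hiso.map_mem hx
    · obtain ⟨x, hx, rfl⟩ := hiso.surjOn hy
      exact ⟨x, hx, hval x hx⟩
  obtain ⟨ε, hε, hεv⟩ := exists_mem_autGroup_of_isIso E hisoE'
  have : ε = γ₀ := by
    ext x
    rw [hεv, hval x x.2, aut1_apply]
  rw [← this]
  exact hε

/-- In a factorization `f = a ∘ f₀`, the automorphism `a` maps `P₀` onto `Q` and its inverse maps
`Q` onto `P₀`. -/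
theorem factor_images {F E : FusionSystem S} {P Q P₀ : Subgroup Ω} {f a a' f₀ : Ω → Ω}
    (hf : IsIso F P Q f) (ha : AutS F a a') (h₀ : Iso₀ F E P P₀ f₀)
    (hv : ∀ x ∈ P, f x = a (f₀ x)) : IsIso F P₀ Q a ∧ IsIso F Q P₀ a' := by
  have hP₀S := h₀.1.le_right
  have hQS := hf.le_right
  have haP₀ : IsIso F P₀ Q a := by
    refine ha.1.restrict' hP₀S (fun y hy => ?_) (fun z hz => ?_)
    · obtain ⟨x, hx, rfl⟩ := h₀.1.surjOn hy
      rw [← hv x hx]
      exact hf.map_mem hx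
    · obtain ⟨x, hx, rfl⟩ := hf.surjOn hz
      exact ⟨f₀ x, h₀.1.map_mem hx, (hv x hx).symm⟩
  refine ⟨haP₀, ha.2.1.restrict' hQS (fun y hy => ?_) (fun z hz => ?_)⟩
  · obtain ⟨x, hx, rfl⟩ := haP₀.surjOn hy
    rw [ha.2.2.1 x (hP₀S hx)]
    exact hx
  · exact ⟨a z, haP₀.map_mem hz, ha.2.2.1 z (hP₀S hz)⟩

/-- Automorphisms of `p`-power order of any subgroup of `S` lie in `Aut_E`. -/
theorem pPower_mem [Finite S] {p : ℕ} [hp : Fact p.Prime] (hS : IsPGroup p S)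
    {F : FusionSystem S} (hF : F.IsSaturated p) (E : FusionSystem S)
    (h : ∀ P : Subgroup Ω, F.IsCentric P →
      (Subgroup.closure {α : ↥(F.autGroup P) | ∃ k : ℕ, orderOf α = p ^ k}).map
        (F.autGroup P).subtype ≤ E.autGroup P)
    {P : Subgroup Ω} (hP : P ≤ S) {γ : MulAut P} (hγ : γ ∈ F.autGroup P) {k : ℕ}
    (hk : orderOf γ = p ^ k) : γ ∈ E.autGroup P := by
  obtain ⟨P₁, hconj, hfc₁⟩ := exists_fullyCentralized_conj F hP
  obtain ⟨f, hf⟩ := (isConj_iff F).1 hconj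
  obtain ⟨-, a, a', f₀, P₀, ha, h₀, hv⟩ := fiso_all hS hF E h P P₁ f hf
  obtain ⟨haP₀, ha'P₁⟩ := factor_images hf ha h₀ hv
  have hfc₀ : F.IsFullyCentralized P₀ := by
    refine ⟨h₀.1.le_right, fun Q hQ => ?_⟩
    have h1 : F.IsConj P₁ Q :=
      isConj_trans F (isConj_trans F (isConj_symm F hconj) h₀.1.isConj) hQ
    exact (hfc₁.2 Q h1).trans (ha.symm.card_centralizerIn_le ha'P₁)
  have he : ∀ x : P, ((h₀.1.toMulEquiv x : P₀) : Ω) = f₀ x := fun x => h₀.1.toMulEquiv_apply x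
  have hγ₀ : MulAut.congr h₀.1.toMulEquiv γ ∈ F.autGroup P₀ :=
    congr_mem_autGroup h₀.1 h₀.1.toMulEquiv he hγ
  have hpow : (MulAut.congr h₀.1.toMulEquiv γ) ^ (p ^ k) = 1 := by
    rw [← map_pow, ← hk, pow_orderOf_eq_one, map_one]
  have hγ₀E := pPower_mem_fc hS hF E h hfc₀ hγ₀ hpow
  obtain ⟨g, hg, heg, -, -⟩ := h₀.toE.symm_equiv h₀.1.toMulEquiv he
  have hback := congr_mem_autGroup hg h₀.1.toMulEquiv.symm heg hγ₀E
  have : MulAut.congr h₀.1.toMulEquiv.symm (MulAut.congr h₀.1.toMulEquiv γ) = γ := by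
    ext x
    simp [MulAut.congr]
  rwa [this] at hback

/-- Let F be a saturated fusion system over a finite p-group S and E a fusion system over S contained in F. If Aut_E(P) contains the subgroup of Aut_F(P) generated by its elements of p-power order for every subgroup P that is centric in F, then the same holds for every subgroup of S (E has index prime to p in F), every map of F with source a subgroup P of S is an element of Aut_F(S) composed with a map of E, and a subgroup is centric in E exactly when it is centric in F. -/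
theorem result {Ω : Type*} [Group Ω] {S : Subgroup Ω} [Finite S] (p : ℕ) [Fact p.Prime] (hS : IsPGroup p S) (F : Cfsg.FusionSystem S) (hF : F.IsSaturated p) (E : Cfsg.FusionSystem S) (hEF : E.IsSubsystemOf F) (h : ∀ P : Subgroup Ω, F.IsCentric P → (Subgroup.closure {α : ↥(F.autGroup P) | ∃ k : ℕ, orderOf α = p ^ k}).map (F.autGroup P).subtype ≤ E.autGroup P) : E.HasPrimeToPIndexIn F p ∧ (∀ (P : Subgroup Ω) (φ : P →* Ω), φ ∈ F.Hom P → ∃ α ∈ F.autGroup S, ∃ φ₀ ∈ E.Hom P, ∀ (x : P) (hx : φ₀ x ∈ S), φ x = ((α ⟨φ₀ x, hx⟩ : S) : Ω)) ∧ ∀ P : Subgroup Ω, E.IsCentric P ↔ F.IsCentric P := by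
  have hall := fiso_all hS hF E h
  have hfrat : ∀ (P : Subgroup Ω) (φ : P →* Ω), φ ∈ F.Hom P → ∃ α ∈ F.autGroup S,
      ∃ φ₀ ∈ E.Hom P, ∀ (x : P) (hx : φ₀ x ∈ S), φ x = ((α ⟨φ₀ x, hx⟩ : S) : Ω) := by
    intro P φ hφ
    obtain ⟨-, a, a', f₀, P₀, ha, h₀, hv⟩ := hall P φ.range (ext1 φ) (isIso_of_mem F hφ)
    obtain ⟨α, hα, hαv⟩ := exists_mem_autGroup_of_isIso F ha.1
    obtain ⟨φ₀, hφ₀, hφ₀v, -⟩ := h₀.toE
    refine ⟨α, hα, φ₀, hφ₀, fun x hx => ?_⟩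
    rw [hαv]
    show φ x = a (φ₀ x)
    rw [hφ₀v, ← hv x x.2, ext1_apply]
  refine ⟨⟨hEF, fun P hP => ?_⟩, hfrat, fun P => ⟨fun hPE => ?_, fun hPF => ?_⟩⟩
  · rw [Subgroup.map_le_iff_le_comap, Subgroup.closure_le]
    rintro γ ⟨k, hk⟩
    have hk' : orderOf (γ : MulAut P) = p ^ k := by rw [Subgroup.orderOf_coe]; exact hk
    exact pPower_mem hS hF E h hP γ.2 hk'
  · refine ⟨hPE.1, fun Q hQ => ?_⟩
    obtain ⟨f, hf⟩ := (isConj_iff F).1 hQ
    obtain ⟨-, a, a', f₀, P₀, ha, h₀, hv⟩ := hall P Q f hf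
    obtain ⟨haP₀, ha'Q⟩ := factor_images hf ha h₀ hv
    have hP₀ : centralizerIn S P₀ ≤ P₀ := hPE.2 P₀ h₀.toE.isConj
    intro c hc
    have hc' : a' c ∈ centralizerIn S P₀ := by
      refine ⟨ha.2.1.map_mem hc.1, ?_⟩
      show a' c ∈ Subgroup.centralizer (P₀ : Set Ω)
      rw [Subgroup.mem_centralizer_iff]
      intro z hz
      obtain ⟨y, hy, rfl⟩ := ha'Q.surjOn hz
      have hyS : y ∈ S := hf.le_right hy
      rw [← ha.2.1.map_mul hyS hc.1, ← ha.2.1.map_mul hc.1 hyS]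
      congr 1
      exact hc.2 y hy
    have := haP₀.map_mem (hP₀ hc')
    rwa [ha.2.2.2 c hc.1] at this
  · refine ⟨hPF.1, fun Q hQ => ?_⟩
    obtain ⟨φ, hφ, hr⟩ := hQ
    exact hPF.2 Q ⟨φ, hEF P hφ, hr⟩

end Cfsg.Agent.S5114
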