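import Cfsg.Statements.S5119
import Cfsg.Agent.Lib.H25.KNormMore
import Cfsg.Agent.Lib.H25.Normal

set_option autoImplicit false
open Cfsg

namespace Cfsg.Agent.S5119

open Cfsg.Agent.Lib.H25 Cfsg.FusionSystem

variable {Ω : Type*} [Group Ω] {S : Subgroup Ω}

/-- The strong invariance condition. -/
def SI (F : FusionSystem S) {T : Subgroup Ω} (E : FusionSystem T) : Prop :=
  ∀ (P Q : Subgroup Ω) (hPQ : P ≤ Q) (_ : Q ≤ T) (φ : P →* Ω) (_ : φ ∈ E.Hom P)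
    (hφQ : ∀ x : P, φ x ∈ Q) (ψ : Q →* Ω) (_ : ψ ∈ F.Hom Q),
    ∃ χ ∈ E.Hom ((P.subgroupOf Q).map ψ),
      ∀ (x : P) (hx : ψ (Subgroup.inclusion hPQ x) ∈ (P.subgroupOf Q).map ψ),
        χ ⟨ψ (Subgroup.inclusion hPQ x), hx⟩ = ψ ⟨φ x, hφQ x⟩

/-- Function-level strong invariance. -/
theorem SI.fn {F : FusionSystem S} {T : Subgroup Ω} {E : FusionSystem T} (h : SI F E)
    {P P₁ Q Q' : Subgroup Ω} {f g : Ω → Ω} (hPQ : P ≤ Q) (hP₁Q : P₁ ≤ Q) (hQT : Q ≤ T)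
    (hf : IsIso E P P₁ f) (hg : IsIso F Q Q' g) :
    ∃ (χ : Ω → Ω) (R R₁ : Subgroup Ω), IsIso E R R₁ χ ∧ (∀ y, y ∈ R ↔ ∃ x ∈ P, g x = y) ∧
      ∀ x ∈ P, χ (g x) = g (f x) := by
  obtain ⟨φ, hφ, hφf, hr⟩ := hf
  obtain ⟨ψ, hψ, hψg, -⟩ := hg
  have hφQ : ∀ x : P, φ x ∈ Q := fun x => hP₁Q (hr ▸ ⟨x, rfl⟩)
  obtain ⟨χ, hχ, hχv⟩ := h P Q hPQ hQT φ hφ hφQ ψ hψ
  refine ⟨ext1 χ, _, _, isIso_of_mem E hχ, fun y => ?_, fun x hx => ?_⟩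
  · constructor
    · rintro ⟨x, hx, rfl⟩
      exact ⟨x, Subgroup.mem_subgroupOf.1 hx, (hψg x).symm⟩
    · rintro ⟨x, hx, rfl⟩
      exact ⟨⟨x, hPQ hx⟩, Subgroup.mem_subgroupOf.2 hx, hψg _⟩
  · have hmem : ψ (Subgroup.inclusion hPQ ⟨x, hx⟩) ∈ (P.subgroupOf Q).map ψ :=
      ⟨_, Subgroup.mem_subgroupOf.2 hx, rfl⟩
    have h1 := hχv ⟨x, hx⟩ hmem
    have h2 : g x = ψ (Subgroup.inclusion hPQ ⟨x, hx⟩) :=
      (hψg (Subgroup.inclusion hPQ ⟨x, hx⟩)).symm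
    rw [h2, ext1_apply_mem χ hmem, h1, hψg]
    show g (φ ⟨x, hx⟩) = g (f x)
    rw [hφf]

/-- Under strong invariance, conjugation by an element of `N_T(Z)` transported back along an
isomorphism `g : P → Z` of `F` is an element of `Aut_E(P)`. -/
theorem SI.aut_of_normalizer {F : FusionSystem S} {T : Subgroup Ω} {E : FusionSystem T}
    (h : SI F E) {P Z : Subgroup Ω} {g : Ω → Ω} (hPT : P ≤ T) (hZT : Z ≤ T)
    (hg : IsIso F P Z g) {y : Ω} (hy : y ∈ normalizerIn T Z) :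
    ∃ k ∈ E.autGroup P, ∀ x : P, g ((k x : P) : Ω) = y * g x * y⁻¹ := by
  have hcy : IsIso E Z Z (fun z => y * z * y⁻¹) := isIso_conj_normalizer E hZT hy
  obtain ⟨g', hg', hg'g, hgg'⟩ := hg.symm
  obtain ⟨χ, R, R₁, hχ, hR, hχv⟩ := h.fn le_rfl le_rfl hZT hcy hg'
  have hRP : R = P := by
    ext x
    rw [hR]
    constructor
    · rintro ⟨z, hz, rfl⟩
      exact hg'.map_mem hz
    · intro hx
      exact ⟨g x, hg.map_mem hx, hg'g x hx⟩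
  subst hRP
  have hconj : ∀ z ∈ Z, y * z * y⁻¹ ∈ Z := fun z hz => hcy.map_mem hz
  have hχx : ∀ x ∈ R, χ x = g' (y * g x * y⁻¹) := by
    intro x hx
    have := hχv (g x) (hg.map_mem hx)
    rwa [hg'g x hx] at this
  have hχP : IsIso E R R χ := by
    refine hχ.restrict' le_rfl (fun x hx => ?_) (fun x' hx' => ?_)
    · rw [hχx x hx]
      exact hg'.map_mem (hconj _ (hg.map_mem hx))
    · obtain ⟨z, hz, hzx⟩ := hcy.surjOn (hg.map_mem hx')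
      refine ⟨g' z, hg'.map_mem hz, ?_⟩
      rw [hχx _ (hg'.map_mem hz), hgg' z hz]
      have hzx' : y * z * y⁻¹ = g x' := hzx
      rw [hzx', hg'g x' hx']
  obtain ⟨k, hk, hkv⟩ := exists_mem_autGroup_of_isIso E hχP
  refine ⟨k, hk, fun x => ?_⟩
  rw [hkv, hχx x x.2, hgg' _ (hconj _ (hg.map_mem x.2))]

/-- The Frattini property of a subgroup `P ≤ T`, function-level. -/
def Fr (F : FusionSystem S) {T : Subgroup Ω} (E : FusionSystem T) (P : Subgroup Ω) : Prop :=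
  ∀ (P' : Subgroup Ω) (f : Ω → Ω), IsIso F P P' f →
    ∃ (a f₀ : Ω → Ω) (P₀ : Subgroup Ω), IsIso F T T a ∧ IsIso E P P₀ f₀ ∧ ∀ x ∈ P, f x = a (f₀ x)

theorem frattini_aux [Finite S] {p : ℕ} [Fact p.Prime] (hS : IsPGroup p S) {F : FusionSystem S}
    (hF : F.IsSaturated p) {T : Subgroup Ω} {E : FusionSystem T} (hsub : E.IsSubsystemOf F)
    (hT : F.StronglyClosed T) (h : SI F E) :
    ∀ (m : ℕ) (P : Subgroup Ω), P ≤ T → Nat.card T - Nat.card P = m → Fr F E P := by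
  have hTS : T ≤ S := hT.1
  have hfinT : Finite T := finite_of_le S hTS
  have hTp : IsPGroup p T := hS.to_le hTS
  intro m
  induction m using Nat.strong_induction_on with
  | _ m ih =>
  intro P hPT hm P' f hf
  have hPS : P ≤ S := hPT.trans hTS
  by_cases hPeq : P = T
  · subst hPeq
    have hP'T : P' ≤ P := stronglyClosed_image_le hT hf le_rfl
    have hP' : P' = P := Subgroup.eq_of_le_of_card_ge hP'T (le_of_eq hf.card_eq)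
    subst hP'
    exact ⟨f, id, P', hf, IsIso.refl le_rfl, fun x _ => rfl⟩
  · obtain ⟨W, h₀, hh₀, hmax⟩ := exists_isKMax F hPS (E.autGroup P)
    obtain ⟨hWrec, hcard⟩ := hmax.props hS hF hh₀
    have star : ∀ (Z : Subgroup Ω) (g : Ω → Ω), IsIso F P Z g →
        ∃ χ ∈ E.autGroup P, ∃ (a e : Ω → Ω) (Z₁ : Subgroup Ω), IsIso F T T a ∧ IsIso E Z Z₁ e ∧
          ∀ x : P, h₀ ((χ x : P) : Ω) = a (e (g x)) := by
      intro Z g hg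
      obtain ⟨χ, ψ, N, N', hχA, hψ, hNKle, hZN, hψg, hrel⟩ :=
        K_extend hS (E.autGroup P) hWrec hh₀ hcard hg
      have hZT : Z ≤ T := stronglyClosed_image_le hT hg hPT
      have hcardZ : Nat.card P = Nat.card Z := hg.card_eq
      have hZne : Z ≠ T := by
        intro hZ
        apply hPeq
        apply Subgroup.eq_of_le_of_card_ge hPT
        rw [hcardZ, hZ]
      obtain ⟨y₀, hy₀N, hy₀Z⟩ := exists_mem_normalizerIn_not_mem hTp hZT hZne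
      have hMNK : normalizerIn T Z ≤ NK S (E.autGroup P) g := by
        intro y hy
        obtain ⟨k, hk, hkv⟩ := h.aut_of_normalizer hPT hZT hg hy
        exact ⟨hTS hy.1, k, hk, hkv⟩
      obtain ⟨M', -, hψM, -⟩ := hψ.restrict (hMNK.trans hNKle)
      have hZM : Z ≤ normalizerIn T Z := le_normalizerIn hZT
      have hlt : Nat.card Z < Nat.card (normalizerIn T Z) := by
        apply card_lt_of_lt' (S := T) inf_le_left
        exact lt_of_le_of_ne hZM (fun heq => hy₀Z (heq ▸ hy₀N))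
      have hle : Nat.card (normalizerIn T Z) ≤ Nat.card T := Subgroup.card_le_of_le inf_le_left
      obtain ⟨a, e₀, M₀, ha, he₀, hv⟩ := ih (Nat.card T - Nat.card (normalizerIn T Z))
        (by omega) (normalizerIn T Z) inf_le_left rfl M' ψ hψM
      obtain ⟨Z₁, -, he, -⟩ := he₀.restrict hZM
      refine ⟨χ, hχA.1, a, e₀, Z₁, ha, he, fun x => ?_⟩
      rw [← hψg x, hv _ (hZM (hg.map_mem x.2))]
    obtain ⟨χ₁, hχ₁, a₁, e₁, P₁, ha₁, he₁, hv₁⟩ := star P id (IsIso.refl hPS)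
    obtain ⟨χ₂, hχ₂, a₂, e₂, P₂, ha₂, he₂, hv₂⟩ := star P' f hf
    have hκ : χ₁⁻¹ * χ₂ ∈ E.autGroup P :=
      Subgroup.mul_mem _ (Subgroup.inv_mem _ hχ₁) hχ₂
    have hη : IsIso E P P₁ (e₁ ∘ aut1 (χ₁⁻¹ * χ₂)) := (isIso_aut1 E hPT hκ).trans he₁
    obtain ⟨a₂', ha₂', ha₂'a₂, ha₂a₂'⟩ := ha₂.symm
    have hb : IsIso F T T (a₂' ∘ a₁) := ha₁.trans ha₂'
    have hP₂T : P₂ ≤ T := he₂.le_right
    have hP'T : P' ≤ T := he₂.le_left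
    have key : ∀ x ∈ P, e₂ (f x) = a₂' (a₁ (e₁ (aut1 (χ₁⁻¹ * χ₂) x))) := by
      intro x hx
      rw [aut1_apply_mem _ hx]
      have h1 := hv₁ ((χ₁⁻¹ * χ₂) ⟨x, hx⟩)
      have h2 : χ₁ ((χ₁⁻¹ * χ₂) ⟨x, hx⟩) = χ₂ ⟨x, hx⟩ := by
        show χ₁ (χ₁⁻¹ (χ₂ ⟨x, hx⟩)) = χ₂ ⟨x, hx⟩
        simp
      rw [h2, hv₂ ⟨x, hx⟩] at h1
      have h3 : a₁ (e₁ (((χ₁⁻¹ * χ₂) ⟨x, hx⟩ : P) : Ω)) = a₂ (e₂ (f x)) := h1.symm
      rw [h3, ha₂'a₂ _ (hP₂T (he₂.map_mem (hf.map_mem hx)))]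
    obtain ⟨b', hb', hb'b, hbb'⟩ := hb.symm
    obtain ⟨e₂', he₂', he₂'e₂, he₂e₂'⟩ := he₂.symm
    obtain ⟨γ, R, R₁, hγ, hR, hγv⟩ := h.fn hP₂T hP'T le_rfl he₂' hb'
    have hP₁T : P₁ ≤ T := he₁.le_right
    have hηmem : ∀ x ∈ P, (e₁ ∘ aut1 (χ₁⁻¹ * χ₂)) x ∈ P₁ := fun x hx => hη.map_mem hx
    have hbη : ∀ x ∈ P, b' (e₂ (f x)) = (e₁ ∘ aut1 (χ₁⁻¹ * χ₂)) x := by
      intro x hx
      rw [key x hx]
      exact hb'b _ (hP₁T (hηmem x hx))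
    have hP₁R : P₁ ≤ R := by
      intro x₁ hx₁
      obtain ⟨x, hx, rfl⟩ := hη.surjOn hx₁
      rw [hR]
      exact ⟨e₂ (f x), he₂.map_mem (hf.map_mem hx), hbη x hx⟩
    obtain ⟨P₀, -, hγP₁, -⟩ := hγ.restrict hP₁R
    refine ⟨a₂' ∘ a₁, γ ∘ (e₁ ∘ aut1 (χ₁⁻¹ * χ₂)), P₀, hb, hη.trans hγP₁, fun x hx => ?_⟩
    show f x = (a₂' ∘ a₁) (γ ((e₁ ∘ aut1 (χ₁⁻¹ * χ₂)) x))
    rw [← hbη x hx, hγv _ (he₂.map_mem (hf.map_mem hx)), he₂'e₂ _ (hf.map_mem hx),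
      hbb' _ (hP'T (hf.map_mem hx))]

/-- Invariance implies strong invariance. -/
theorem si_of_inv {F : FusionSystem S} {T : Subgroup Ω} {E : FusionSystem T}
    (hinv : E.IsInvariantIn F) : SI F E := by
  obtain ⟨hsub, hTsc, hconj, hfrat⟩ := hinv
  intro P Q hPQ hQT φ hφ hφQ ψ hψ
  obtain ⟨α, hα, ψ₀, hψ₀, hψα⟩ := hfrat Q hQT ψ hψ
  have hψ₀T : ∀ x : Q, ψ₀ x ∈ T := fun x => hom_mem_S E hψ₀ x
  have hf : IsIso E P φ.range (ext1 φ) := isIso_of_mem E hφ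
  have hg₀ : IsIso E Q ψ₀.range (ext1 ψ₀) := isIso_of_mem E hψ₀
  have hP₁Q : φ.range ≤ Q := by
    rintro _ ⟨x, rfl⟩
    exact hφQ x
  obtain ⟨P', -, hg₀P, hP'mem⟩ := hg₀.restrict hPQ
  obtain ⟨P₁', -, hg₀P₁, -⟩ := hg₀.restrict hP₁Q
  obtain ⟨g₀', hg₀', hg₀'g₀, hg₀g₀'⟩ := hg₀P.symm
  have hρ : IsIso E P' P₁' (ext1 ψ₀ ∘ (ext1 φ ∘ g₀')) := (hg₀'.trans hf).trans hg₀P₁
  obtain ⟨ρ, hρE, hρv, -⟩ := hρ
  have hP'T : P' ≤ T := hg₀P.le_right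
  obtain ⟨χ, hχ, hχv⟩ := hconj P' hP'T ρ hρE α hα
  have hψ₀P' : ∀ x : P, ψ₀ (Subgroup.inclusion hPQ x) ∈ P' := by
    intro x
    rw [hP'mem]
    exact ⟨x, x.2, ext1_apply ψ₀ (Subgroup.inclusion hPQ x)⟩
  have hψeq : ∀ x : P, ψ (Subgroup.inclusion hPQ x) =
      ((α ⟨ψ₀ (Subgroup.inclusion hPQ x), hP'T (hψ₀P' x)⟩ : T) : Ω) := fun x => hψα _ _
  have heq : (P'.subgroupOf T).map (T.subtype.comp α.toMonoidHom) = (P.subgroupOf Q).map ψ := by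
    ext z
    constructor
    · rintro ⟨y, hy, rfl⟩
      obtain ⟨x, hx, hxy⟩ := (hP'mem _).1 (Subgroup.mem_subgroupOf.1 hy)
      refine ⟨⟨x, hPQ hx⟩, Subgroup.mem_subgroupOf.2 hx, ?_⟩
      have h1 := hψeq ⟨x, hx⟩
      have h2 : (⟨ψ₀ (Subgroup.inclusion hPQ ⟨x, hx⟩), hP'T (hψ₀P' ⟨x, hx⟩)⟩ : T) = y := by
        apply Subtype.ext
        rw [← hxy]
        exact (ext1_apply ψ₀ (Subgroup.inclusion hPQ ⟨x, hx⟩)).symm
      rw [h2] at h1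
      exact h1
    · rintro ⟨x, hx, rfl⟩
      have hxP : (x : Ω) ∈ P := Subgroup.mem_subgroupOf.1 hx
      have h1 := hψeq ⟨x, hxP⟩
      refine ⟨⟨ψ₀ (Subgroup.inclusion hPQ ⟨x, hxP⟩), hP'T (hψ₀P' ⟨x, hxP⟩)⟩,
        Subgroup.mem_subgroupOf.2 (hψ₀P' ⟨x, hxP⟩), ?_⟩
      exact h1.symm
  refine ⟨χ.comp (MulEquiv.subgroupCongr heq.symm).toMonoidHom, hom_cast E heq hχ,
    fun x hx => ?_⟩
  have hy : ψ₀ (Subgroup.inclusion hPQ x) ∈ P' := hψ₀P' x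
  have hρy : ρ ⟨ψ₀ (Subgroup.inclusion hPQ x), hy⟩ ∈ T := hom_mem_S E hρE _
  have hαy : ((α ⟨((⟨ψ₀ (Subgroup.inclusion hPQ x), hy⟩ : P') : Ω), hP'T hy⟩ : T) : Ω) ∈
      (P'.subgroupOf T).map (T.subtype.comp α.toMonoidHom) :=
    ⟨⟨_, hP'T hy⟩, Subgroup.mem_subgroupOf.2 hy, rfl⟩
  have h1 := hχv ⟨ψ₀ (Subgroup.inclusion hPQ x), hy⟩ hρy hαy
  have h2 : (χ.comp (MulEquiv.subgroupCongr heq.symm).toMonoidHom)
      ⟨ψ (Subgroup.inclusion hPQ x), hx⟩ =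
      χ ⟨((α ⟨((⟨ψ₀ (Subgroup.inclusion hPQ x), hy⟩ : P') : Ω), hP'T hy⟩ : T) : Ω), hαy⟩ := by
    show χ _ = χ _
    congr 1
    apply Subtype.ext
    exact hψeq x
  rw [h2, h1]
  have h3 : ρ ⟨ψ₀ (Subgroup.inclusion hPQ x), hy⟩ = ψ₀ ⟨φ x, hφQ x⟩ := by
    rw [hρv]
    show ext1 ψ₀ (ext1 φ (g₀' (ψ₀ (Subgroup.inclusion hPQ x)))) = _
    have h4 : g₀' (ψ₀ (Subgroup.inclusion hPQ x)) = x := by
      have := hg₀'g₀ x x.2
      rwa [show ext1 ψ₀ (x : Ω) = ψ₀ (Subgroup.inclusion hPQ x) from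
        ext1_apply ψ₀ (Subgroup.inclusion hPQ x)] at this
    rw [h4, ext1_apply φ x]
    exact ext1_apply ψ₀ ⟨φ x, hφQ x⟩
  have h5 := hψα ⟨φ x, hφQ x⟩ (hψ₀T _)
  rw [h5]
  congr 2
  exact Subtype.ext h3

/-- Let F be a saturated fusion system over a finite p-group S and E a subsystem of F over a subgroup T that is strongly closed in F. Then E is invariant in F (invariance under Aut_F(T) plus the Frattini condition) if and only if the strong invariance condition holds: for P ≤ Q ≤ T, every map φ of E from P into Q and every map ψ of F with source Q, the transported map ψ φ ψ⁻¹ on ψ(P) is a map of E. -/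
theorem result {Ω : Type*} [Group Ω] {S : Subgroup Ω} [Finite S] (p : ℕ) [Fact p.Prime] (hS : IsPGroup p S) (F : Cfsg.FusionSystem S) (hF : F.IsSaturated p) {T : Subgroup Ω} (E : Cfsg.FusionSystem T) (hE : E.IsSubsystemOf F) (hT : F.StronglyClosed T) : E.IsInvariantIn F ↔ ∀ (P Q : Subgroup Ω) (hPQ : P ≤ Q) (_ : Q ≤ T) (φ : P →* Ω) (_ : φ ∈ E.Hom P) (hφQ : ∀ x : P, φ x ∈ Q) (ψ : Q →* Ω) (_ : ψ ∈ F.Hom Q), ∃ χ ∈ E.Hom ((P.subgroupOf Q).map ψ), ∀ (x : P) (hx : ψ (Subgroup.inclusion hPQ x) ∈ (P.subgroupOf Q).map ψ), χ ⟨ψ (Subgroup.inclusion hPQ x), hx⟩ = ψ ⟨φ x, hφQ x⟩ := by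
  constructor
  · exact fun hinv => si_of_inv hinv
  · intro h
    have hTS : T ≤ S := hT.1
    refine ⟨hE, hT, ?_, ?_⟩
    · intro P hPT φ hφ α hα
      have hψ : T.subtype.comp α.toMonoidHom ∈ F.Hom T := (mem_autGroup_iff F hTS α).1 hα
      obtain ⟨χ, hχ, hχv⟩ := h P T hPT le_rfl φ hφ (fun x => hom_mem_S E hφ x) _ hψ
      exact ⟨χ, hχ, fun x hφx hαx => hχv x hαx⟩
    · intro P hPT φ hφ
      obtain ⟨a, f₀, P₀, ha, hf₀, hv⟩ := frattini_aux hS hF hE hT h _ P hPT rfl φ.range (ext1 φ)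
        (isIso_of_mem F hφ)
      obtain ⟨α, hα, hαv⟩ := exists_mem_autGroup_of_isIso F ha
      obtain ⟨φ₀, hφ₀, hφ₀v, -⟩ := hf₀
      refine ⟨α, hα, φ₀, hφ₀, fun x hx => ?_⟩
      rw [hαv]
      show φ x = a (φ₀ x)
      rw [hφ₀v, ← hv x x.2, ext1_apply]

end Cfsg.Agent.S5119
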