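import Cfsg.Statements.S5134
import Cfsg.Agent.Lib.H25.Factor

set_option autoImplicit false
open Cfsg

namespace Cfsg.Agent.S5134

open Cfsg.FusionSystem Cfsg.Agent.Lib.H25

/-- Let F be a saturated fusion system over a finite p-group S, S₀ a subgroup strongly closed in F, and E the factor system of F modulo S₀ read through θ (a homomorphism on S with kernel S₀ and image the group of E). Then θ is a surjective morphism of fusion systems from F onto E: in particular every map of F, and not only the maps whose source contains S₀, induces along θ a map of E. -/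
theorem result {Ω : Type*} [Group Ω] {S : Subgroup Ω} [Finite S] (p : ℕ) [Fact p.Prime] (hS : IsPGroup p S) (F : Cfsg.FusionSystem S) (hF : F.IsSaturated p) (S₀ : Subgroup Ω) (hS₀ : F.StronglyClosed S₀) {Ω' : Type*} [Group Ω'] {S' : Subgroup Ω'} (θ : S →* Ω') (E : Cfsg.FusionSystem S') (hE : F.IsFactorSystem S₀ θ E) : F.IsSurjectiveMorphism E θ := by
  obtain ⟨hS₀S, hker, hrange, hE⟩ := hE
  have hθS' : ∀ s : S, θ s ∈ S' := fun s => hrange ▸ ⟨s, rfl⟩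
  refine ⟨⟨hθS', fun P φ hφ => ?_⟩, hrange, fun P' hP' φ' hφ' => ((hE P' φ').1 hφ').2⟩
  have hPS := hom_le F hφ
  have hφS := hom_mem_S F hφ
  -- `φ` maps `P ∩ S₀` into `S₀`
  have hφS₀ : ∀ x : P, (x : Ω) ∈ S₀ → φ x ∈ S₀ := by
    intro x hx
    obtain ⟨Q', -, hQ', -⟩ := (isIso_of_mem F hφ).restrict (inf_le_left : P ⊓ S₀ ≤ P)
    have := stronglyClosed_map_mem hS₀ hQ' inf_le_right (⟨x.2, hx⟩ : (x : Ω) ∈ P ⊓ S₀)
    rwa [ext1_apply] at this
  have hk : ∀ x : P, θ ⟨x, hPS x.2⟩ = 1 → θ ⟨φ x, hφS x⟩ = 1 := by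
    intro x hx
    exact (hker _).2 (hφS₀ x ((hker _).1 hx))
  have himg : ∀ x : P, θ ⟨x, hPS x.2⟩ ∈ imageAlong θ P := fun x =>
    (mem_imageAlong_iff θ P _).2 ⟨x, hPS x.2, x.2, rfl⟩
  refine ⟨inducedHom θ hPS φ hφS hk, ?_, hPS, hφS, himg,
    fun x => inducedHom_apply θ hPS φ hφS hk x (himg x)⟩
  rw [hE]
  refine ⟨?_, ?_⟩
  · intro y hy
    obtain ⟨x, hxS, -, rfl⟩ := (mem_imageAlong_iff θ P y).1 hy
    exact hθS' _
  · obtain ⟨g, R, hg, hgf⟩ := exists_extMod hS hF hS₀ (isIso_of_mem F hφ)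
    rw [← preimageAlong_imageAlong θ hker hS₀S hPS] at hg
    have hgT : ∀ t ∈ S₀, g t ∈ S₀ := by
      intro t ht
      have hle : S₀ ≤ preimageAlong θ (imageAlong θ P) := by
        rw [preimageAlong_imageAlong θ hker hS₀S hPS]; exact le_sup_right
      exact (stronglyClosed_isIso_self hS₀ hg hle).map_mem ht
    have hPpre : P ≤ preimageAlong θ (imageAlong θ P) := by
      rw [preimageAlong_imageAlong θ hker hS₀S hPS]; exact le_sup_left
    have hS₀pre : S₀ ≤ preimageAlong θ (imageAlong θ P) := by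
      rw [preimageAlong_imageAlong θ hker hS₀S hPS]; exact le_sup_right
    obtain ⟨φ₁, hφ₁, hφ₁g, -⟩ := hg.exists_hom
    have hpreS := preimageAlong_le θ (imageAlong θ P)
    have hφ₁S := hom_mem_S F hφ₁
    have hmem : ∀ y : ↥(preimageAlong θ (imageAlong θ P)), θ ⟨y, hpreS y.2⟩ ∈ imageAlong θ P := by
      intro y
      obtain ⟨_, h⟩ := (mem_preimageAlong_iff θ _ _).1 y.2
      exact h
    refine ⟨φ₁, hφ₁, hpreS, hφ₁S, hmem, fun y => ?_⟩
    obtain ⟨x, hxS, hxP, hxy⟩ := (mem_imageAlong_iff θ P _).1 (hmem y)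
    have h1 : (⟨θ ⟨y, hpreS y.2⟩, hmem y⟩ : ↥(imageAlong θ P)) =
        ⟨θ ⟨((⟨x, hxP⟩ : P) : Ω), hPS hxP⟩, himg ⟨x, hxP⟩⟩ := Subtype.ext hxy.symm
    rw [h1, inducedHom_apply θ hPS φ hφS hk ⟨x, hxP⟩ (himg ⟨x, hxP⟩)]
    -- `y = x t` with `t ∈ S₀`
    have ht : x⁻¹ * (y : Ω) ∈ S₀ := by
      have h2 : θ (⟨x, hxS⟩⁻¹ * ⟨y, hpreS y.2⟩) = 1 := by rw [map_mul, map_inv, hxy, inv_mul_cancel]
      exact (hker _).1 h2
    have hy : (y : Ω) = x * (x⁻¹ * (y : Ω)) := by group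
    have hgy : g (y : Ω) = g x * g (x⁻¹ * (y : Ω)) := by
      rw [← hg.map_mul (hPpre hxP) (hS₀pre ht), ← hy]
    -- rewrite everything through `extTo θ`
    rw [← extTo_mem θ (hφS ⟨x, hxP⟩), ← extTo_mem θ (hφ₁S y), hφ₁g y, hgy]
    have hgxS : g x ∈ S := hg.le_right (hg.map_mem (hPpre hxP))
    have hgtS : g (x⁻¹ * (y : Ω)) ∈ S := hS₀S (hgT _ ht)
    rw [extTo_mul θ hgxS hgtS]
    have h3 : extTo θ (g (x⁻¹ * (y : Ω))) = 1 := by
      rw [extTo_mem θ hgtS]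
      exact (hker _).2 (hgT _ ht)
    rw [h3, mul_one]
    -- `θ (φ x) = θ (g x)`
    have h4 := hgf x hxP
    rw [ext1_apply_mem φ hxP] at h4
    have h5 : g x = φ ⟨x, hxP⟩ * ((φ ⟨x, hxP⟩)⁻¹ * g x) := by group
    rw [h5, extTo_mul θ (hφS ⟨x, hxP⟩) (hS₀S h4)]
    have h6 : extTo θ ((φ ⟨x, hxP⟩)⁻¹ * g x) = 1 := by
      rw [extTo_mem θ (hS₀S h4)]
      exact (hker _).2 h4
    rw [h6, mul_one]

end Cfsg.Agent.S5134
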