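import Cfsg.Statements.S5250
import Cfsg.Agent.Lib.H26.ModelInduct
import Cfsg.Agent.S5090

set_option autoImplicit false
universe u
open Cfsg

namespace Cfsg.Agent.S5250

/-- Let F be a saturated fusion system over a finite p-group S such that Qd(p) (the natural semidirect product of an elementary abelian group of order p² by SL₂(p)) is involved in no model of the normalizer system of any fully normalized subgroup that is both centric and radical in F. Then F is Qd(p)-free: Qd(p) is involved in no model of the normalizer system of any fully normalized centric subgroup. -/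
theorem result {Ω : Type u} [Group Ω] {S : Subgroup Ω} [Finite S] (p : ℕ) [Fact p.Prime] (hS : IsPGroup p S) (F : Cfsg.FusionSystem S) (hF : F.IsSaturated p) (h : ∀ Q : Subgroup Ω, F.IsFullyNormalized Q → F.IsCentric Q → F.IsRadical p Q → ∀ N : Cfsg.FusionSystem (Cfsg.FusionSystem.normalizerIn S Q), F.IsNormalizerSystem Q N → ∀ (L : Type u) [Group L] (ι : ↥(Cfsg.FusionSystem.normalizerIn S Q) →* L), N.IsModel p L ι → ¬ Cfsg.Involves ↥(Cfsg.qd p) L) : F.IsSectionFree p ↥(Cfsg.qd p) := by
  suffices key : ∀ n : ℕ, ∀ Q : Subgroup Ω, Nat.card S ≤ Nat.card Q + n →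
      F.IsFullyNormalized Q → F.IsCentric Q →
      ∀ N : Cfsg.FusionSystem (Cfsg.FusionSystem.normalizerIn S Q), F.IsNormalizerSystem Q N →
      ∀ (L : Type u) [Group L] (ι : ↥(Cfsg.FusionSystem.normalizerIn S Q) →* L),
        N.IsModel p L ι → ¬ Cfsg.Involves ↥(Cfsg.qd p) L by
    intro Q hQfn hQc N hN L _ ι hM
    exact key (Nat.card S) Q (Nat.le_add_left _ _) hQfn hQc N hN L ι hM
  intro n
  induction n using Nat.strong_induction_on with
  | _ n ih =>
    intro Q hcard hQfn hQc N hN L _ ι hM
    by_cases hrad : F.IsRadical p Q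
    · exact h Q hQfn hQc hrad N hN L ι hM
    · obtain ⟨R', hR'fn, hR'c, hlt, hstep⟩ :=
        Cfsg.Agent.Lib.H26.Model.exists_bigger.{u, u, u, 0} hS hF hQfn hQc hN hM hrad
      obtain ⟨NR', hNR'⟩ := Cfsg.Agent.S5096.result F R' hR'fn.1
      have hcon := Cfsg.Agent.Lib.H25.normalizerSystem_isConstrained hS hF hR'fn hR'c NR' hNR'
      haveI : Finite ↥(Cfsg.FusionSystem.normalizerIn S R') :=
        Cfsg.Agent.Lib.H25.finite_of_le S inf_le_left
      have hST' : IsPGroup p ↥(Cfsg.FusionSystem.normalizerIn S R') := hS.to_le inf_le_left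
      obtain ⟨LR, _, ιR, hMR⟩ := Cfsg.Agent.S5090.result p hST' NR' hcon
      intro hinv
      have hR'le : Nat.card R' ≤ Nat.card S := Subgroup.card_le_of_le hR'fn.1
      have hn1 : n ≥ 1 := by omega
      exact ih (n - 1) (by omega) R' (by omega) hR'fn hR'c NR' hNR' LR ιR hMR
        (hstep NR' hNR' LR ιR hMR _ hinv)

end Cfsg.Agent.S5250
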