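import Cfsg.Statements.S5240
import Cfsg.Agent.Lib.H26.ModelLocalTwo
import Cfsg.Agent.Lib.H26.ModelInduct
import Cfsg.Agent.S5090
import Cfsg.Agent.S5250

set_option autoImplicit false
open Cfsg

namespace Cfsg.Agent.S5240

/-- Let F be a saturated fusion system over a finite p-group S that is Qd(p)-free (Qd(p), the natural semidirect product of an elementary abelian group of order p² by SL₂(p), is not involved in any model of the normalizer system of a fully normalized centric subgroup), and let Q be a fully normalized subgroup of S. Then every normalizer fusion system of Q in F is Qd(p)-free. -/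
theorem result {Ω : Type*} [Group Ω] {S : Subgroup Ω} [Finite S] (p : ℕ) [Fact p.Prime] (hS : IsPGroup p S) (F : Cfsg.FusionSystem S) (hF : F.IsSaturated p) (hfree : F.IsSectionFree p ↥(Cfsg.qd p)) (Q : Subgroup Ω) (hQ : F.IsFullyNormalized Q) (N : Cfsg.FusionSystem (Cfsg.FusionSystem.normalizerIn S Q)) (hN : F.IsNormalizerSystem Q N) : N.IsSectionFree p ↥(Cfsg.qd p) := by
  have hQS := hQ.1
  haveI hfinT : Finite ↥(Cfsg.FusionSystem.normalizerIn S Q) :=
    Cfsg.Agent.Lib.H25.finite_of_le S inf_le_left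
  have hST : IsPGroup p ↥(Cfsg.FusionSystem.normalizerIn S Q) := hS.to_le inf_le_left
  have hNsat : N.IsSaturated p := Cfsg.Agent.Lib.H25.normalizerSystem_isSaturated hS hF hQ N hN
  have hQnN : N.IsNormal Q := Cfsg.Agent.Lib.H25.normalizerSystem_isNormal hQS hN
  apply Cfsg.Agent.S5250.result p hST N hNsat
  intro P hPfnN hPcN hPrN NP hNP LP _ ιP hMP hinv
  have hQP : Q ≤ P := Cfsg.Agent.Lib.H25.isNormal_le_of_centric_radical hST hQnN hPcN hPrN
  have hPT : P ≤ Cfsg.FusionSystem.normalizerIn S Q := hPfnN.1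
  have hPS : P ≤ S := hPT.trans inf_le_left
  have hPc : F.IsCentric P :=
    Cfsg.Agent.Lib.H26.isCentric_of_normalizerSystem hS hF hQ hN hQP hPcN
  obtain ⟨P', hPP', hP'fn⟩ := Cfsg.Agent.Lib.H25.exists_fullyNormalized_conj F hPS
  obtain ⟨hP'fc, hP'fa⟩ := Cfsg.Agent.Lib.H25.fullyNormalized_props hS hF hP'fn
  have hP'rec := Cfsg.Agent.Lib.H25.isReceptive_of_fullyCentralized hS hF hP'fc
  obtain ⟨χ, N'', hχN, hN'', hχP⟩ :=
    Cfsg.Agent.Lib.H25.exists_normalizer_map hS hP'fa hP'rec hPP'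
  have hP'c : F.IsCentric P' := Cfsg.Agent.Lib.H26.isCentric_of_isConj hPc hPP'
  obtain ⟨N', hN'⟩ := Cfsg.Agent.S5096.result F P' hP'fn.1
  have hcon' := Cfsg.Agent.Lib.H25.normalizerSystem_isConstrained hS hF hP'fn hP'c N' hN'
  haveI : Finite ↥(Cfsg.FusionSystem.normalizerIn S P') :=
    Cfsg.Agent.Lib.H25.finite_of_le S inf_le_left
  have hST' : IsPGroup p ↥(Cfsg.FusionSystem.normalizerIn S P') := hS.to_le inf_le_left
  obtain ⟨L', _, ι', hM'⟩ := Cfsg.Agent.S5090.result p hST' N' hcon'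
  have hnot := hfree P' hP'fn hP'c N' hN' L' ι' hM'
  obtain ⟨M, e, hMloc⟩ := Cfsg.Agent.Lib.H26.Model.local_model_two hS hF hQ hN hQP hPfnN hNP
    hP'fn hP'c hN' hM' hχN hN'' hχP
  haveI hfinTP : Finite ↥(Cfsg.FusionSystem.normalizerIn (Cfsg.FusionSystem.normalizerIn S Q) P) :=
    Cfsg.Agent.Lib.H25.finite_of_le S (inf_le_left.trans inf_le_left)
  have hSTP : IsPGroup p ↥(Cfsg.FusionSystem.normalizerIn (Cfsg.FusionSystem.normalizerIn S Q) P) :=
    hS.to_le (inf_le_left.trans inf_le_left)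
  have hconP := Cfsg.Agent.Lib.H25.normalizerSystem_isConstrained hST hNsat hPfnN hPcN NP hNP
  obtain ⟨Φ, -⟩ := Cfsg.Agent.Lib.H26.Model.model_unique hSTP hconP hMP hMloc
  apply hnot
  refine Cfsg.Agent.Lib.H26.involves_of_injective (M.subtype.comp Φ.toMonoidHom) ?_ hinv
  exact (Subgroup.subtype_injective _).comp Φ.injective

end Cfsg.Agent.S5240
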