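import Cfsg.Statements.S0379
import Cfsg.Agent.Lib.H28.M23M22Simple
import Cfsg.Agent.Lib.H28.PointStabEquiv

set_option autoImplicit false
open Cfsg

namespace Cfsg.Agent.S0379

/-- A two-point stabiliser in the group of the length-24 code is simple. -/
theorem result (p q : Cfsg.GolayPt) (hpq : p ≠ q) : IsSimpleGroup ↥(MulAction.stabilizer Cfsg.M24 p ⊓ MulAction.stabilizer Cfsg.M24 q) := by
  classical
  obtain ⟨g, hg, hgp⟩ := Cfsg.Agent.Lib.H28.exists_M24_map (n := 2) (by norm_num)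
    ![Cfsg.Agent.Lib.H28.gPt 23, Cfsg.Agent.Lib.H28.gPt 0] ![p, q]
    (Cfsg.Agent.Lib.H28.injective_pair (by decide)) (Cfsg.Agent.Lib.H28.injective_pair hpq)
  have hgp' : g (Cfsg.Agent.Lib.H28.gPt 23) = p := hgp 0
  have hgq' : g (Cfsg.Agent.Lib.H28.gPt 0) = q := hgp 1
  have := Cfsg.Agent.Lib.H28.isSimpleGroup_fixSub_0_23
  refine (Cfsg.Agent.Lib.H28.fixSubEquiv hg [0, 23]
    (MulAction.stabilizer Cfsg.M24 p ⊓ MulAction.stabilizer Cfsg.M24 q) ?_).isSimpleGroup
  intro x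
  rw [Subgroup.mem_inf, MulAction.mem_stabilizer_iff, MulAction.mem_stabilizer_iff]
  constructor
  · rintro ⟨h1, h2⟩ k hk
    rw [List.mem_cons, List.mem_singleton] at hk
    rcases hk with rfl | rfl
    · rw [hgq']; exact h2
    · rw [hgp']; exact h1
  · intro h
    have h1 := h 23 (by simp)
    have h2 := h 0 (by simp)
    rw [hgp'] at h1
    rw [hgq'] at h2
    exact ⟨h1, h2⟩

end Cfsg.Agent.S0379
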