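import Mathlib
import Cfsg.Statements.S1012
import Cfsg.Agent.Lib.H5.SimpleTools
import Cfsg.Agent.Lib.H5.SubgroupCard

set_option autoImplicit false
open Cfsg

namespace Cfsg.Agent.S1012

open Cfsg.Agent.Lib.H5 Subgroup

theorem result {G : Type*} [Group G] [Finite G] (h : Nat.card G = 24) (h6 : ∀ g : G, orderOf g ≠ 6) : Nonempty (G ≃* Equiv.Perm (Fin 4)) := by
  classical
  have : Fact (Nat.Prime 3) := ⟨by norm_num⟩
  have : Fact (Nat.Prime 2) := ⟨by norm_num⟩
  have : Fintype (Sylow 3 G) := Fintype.ofFinite _
  have hno : ∀ t y : G, orderOf t = 2 → orderOf y = 3 → ¬ Commute t y := by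
    intro t y ht hy hc
    have := hc.orderOf_mul_eq_mul_orderOf_of_coprime (by rw [ht, hy]; norm_num)
    rw [ht, hy] at this
    exact h6 _ this
  let P : Sylow 3 G := default
  obtain ⟨hPc, hPi⟩ := sylow_card_and_index P (k := 1) (m := 8) (by rw [h]; norm_num) (by norm_num)
  rw [pow_one] at hPc
  -- an element of order 3 in P
  obtain ⟨y', hy'⟩ := exists_prime_orderOf_dvd_card' (G := (P : Subgroup G)) 3 (by rw [hPc])
  have hy3 : orderOf (y' : G) = 3 := by rw [Subgroup.orderOf_coe]; exact hy'
  have hmem := card_sylow_mem_filter_divisors P (by norm_num) hPi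
  have hfil : (Nat.divisors 8).filter (fun d => d % 3 = 1) = {1, 4} := by decide
  rw [hfil] at hmem
  simp only [Finset.mem_insert, Finset.mem_singleton] at hmem
  rcases hmem with h1 | h4
  · -- n_3 = 1
    exfalso
    have hN := card_normalizer_mul_card_sylow P
    rw [h1, mul_one, h] at hN
    have hdvd := relIndex_centralizer_normalizer_dvd_of_card_prime (P : Subgroup G) (p := 3) hPc
    have hmul := card_centralizer_mul_relIndex_normalizer (P : Subgroup G)
    rw [hN] at hmul
    have h2 : 2 ∣ Nat.card (centralizer ((P : Subgroup G) : Set G)) := by
      have hle : (centralizer ((P : Subgroup G) : Set G)).relIndex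
          (normalizer ((P : Subgroup G) : Set G)) ≤ 2 := Nat.le_of_dvd (by norm_num) hdvd
      generalize (centralizer ((P : Subgroup G) : Set G)).relIndex
          (normalizer ((P : Subgroup G) : Set G)) = r at hmul hle hdvd
      generalize Nat.card (centralizer ((P : Subgroup G) : Set G)) = c at hmul
      interval_cases r
      · omega
      · omega
      · omega
    obtain ⟨t', ht'⟩ := exists_prime_orderOf_dvd_card'
      (G := centralizer ((P : Subgroup G) : Set G)) 2 h2
    have ht2 : orderOf (t' : G) = 2 := by rw [Subgroup.orderOf_coe]; exact ht'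
    apply hno (t' : G) (y' : G) ht2 hy3
    have := t'.2
    rw [mem_centralizer_iff] at this
    exact (this (y' : G) y'.2).symm
  · -- n_3 = 4
    have hNcard : ∀ Q : Sylow 3 G, Nat.card (normalizer ((Q : Subgroup G) : Set G)) = 6 := by
      intro Q
      have hN := card_normalizer_mul_card_sylow Q
      rw [h4, h] at hN
      omega
    have hQcard : ∀ Q : Sylow 3 G, Nat.card (Q : Subgroup G) = 3 := by
      intro Q
      simpa using (sylow_card_and_index Q (k := 1) (m := 8) (by rw [h]; norm_num) (by norm_num)).1
    let φ := MulAction.toPermHom G (Sylow 3 G)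
    have hK : ∀ g : G, g ∈ φ.ker → ∀ Q : Sylow 3 G, g ∈ normalizer ((Q : Subgroup G) : Set G) := by
      intro g hg Q
      rw [MonoidHom.mem_ker] at hg
      have : g • Q = Q := by
        have := congrArg (fun σ => σ Q) hg
        simpa [φ] using this
      exact Sylow.smul_eq_iff_mem_normalizer.mp this
    -- elements of the kernel have order 1 or 2
    have hKord : ∀ g : G, g ∈ φ.ker → orderOf g = 1 ∨ orderOf g = 2 := by
      intro g hg
      have hd : orderOf g ∣ 6 := by
        have := orderOf_dvd_natCard (⟨g, hK g hg P⟩ : normalizer ((P : Subgroup G) : Set G))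
        rwa [hNcard P, Subgroup.orderOf_mk] at this
      have hmem : orderOf g ∈ Nat.divisors 6 := Nat.mem_divisors.mpr ⟨hd, by norm_num⟩
      have hdiv : Nat.divisors 6 = {1, 2, 3, 6} := by decide
      rw [hdiv] at hmem
      simp only [Finset.mem_insert, Finset.mem_singleton] at hmem
      rcases hmem with h' | h' | h' | h'
      · exact Or.inl h'
      · exact Or.inr h'
      · exfalso
        have hpg : IsPGroup 3 (zpowers g) := by
          apply IsPGroup.of_card (n := 1)
          rw [Nat.card_zpowers, h', pow_one]
        have hall : ∀ Q : Sylow 3 G, (Q : Subgroup G) = zpowers g := by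
          intro Q
          have h1 := hpg.inf_normalizer_sylow Q
          have hmem : g ∈ zpowers g ⊓ normalizer (Q : Set G) := ⟨mem_zpowers g, hK g hg Q⟩
          rw [h1] at hmem
          have hle : zpowers g ≤ (Q : Subgroup G) := by rw [zpowers_le]; exact hmem.2
          exact (Subgroup.eq_of_le_of_card_ge hle (by rw [hQcard Q, Nat.card_zpowers, h'])).symm
        have hsub : Subsingleton (Sylow 3 G) :=
          ⟨fun Q R => Sylow.ext ((hall Q).trans (hall R).symm)⟩
        have : Nat.card (Sylow 3 G) ≤ 1 := Finite.card_le_one_iff_subsingleton.mpr hsub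
        omega
      · exact absurd h' (h6 g)
    have hker : φ.ker = ⊥ := by
      rw [eq_bot_iff]
      intro g hg
      rw [mem_bot]
      by_contra hg1
      have hg2 : orderOf g = 2 := by
        rcases hKord g hg with h' | h'
        · exact absurd (orderOf_eq_one_iff.mp h') hg1
        · exact h'
      -- the conjugate of g by y' lies in the kernel
      have hconj : (y' : G) * g * (y' : G)⁻¹ ∈ φ.ker := φ.normal_ker.conj_mem g hg _
      by_cases hc : (y' : G) * g * (y' : G)⁻¹ = g
      · apply hno g (y' : G) hg2 hy3
        have : (y' : G) * g = g * (y' : G) := by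
          calc (y' : G) * g = (y' : G) * g * (y' : G)⁻¹ * (y' : G) := by group
            _ = g * (y' : G) := by rw [hc]
        exact this.symm
      · -- the product g * (y g y⁻¹) lies in the kernel and has order 1 or 2, so they commute
        set g' := (y' : G) * g * (y' : G)⁻¹ with hg'
        have hg'2 : orderOf g' = 2 := by
          have := (MulAut.conj (y' : G)).orderOf_eq g
          simp only [MulAut.conj_apply] at this
          rw [hg', this, hg2]
        -- the subgroup generated: {1, g, g', g g'} has 4 elements, in the kernel, inside N(P) of order 6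
        have hprod : g * g' ∈ φ.ker := mul_mem hg hconj
        have hsq : ∀ a : G, a ∈ φ.ker → a * a = 1 := by
          intro a ha
          rcases hKord a ha with h' | h'
          · rw [orderOf_eq_one_iff] at h'
            rw [h', mul_one]
          · rw [← pow_two, ← h']
            exact pow_orderOf_eq_one a
        -- |ker| divides 6 and ker has the 3 distinct elements 1, g, g', and is a 2-group
        have hcard_dvd : Nat.card φ.ker ∣ 6 := by
          have hle : φ.ker ≤ normalizer ((P : Subgroup G) : Set G) := fun a ha => hK a ha P
          have := Subgroup.card_dvd_of_le hle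
          rwa [hNcard P] at this
        have h3not : ¬ 3 ∣ Nat.card φ.ker := by
          intro h3
          obtain ⟨a, ha⟩ := exists_prime_orderOf_dvd_card' (G := φ.ker) 3 h3
          have ha3 : orderOf (a : G) = 3 := by rw [Subgroup.orderOf_coe]; exact ha
          rcases hKord (a : G) a.2 with h' | h' <;> omega
        have hcard_le : Nat.card φ.ker ≤ 2 := by
          have hmem : Nat.card φ.ker ∈ Nat.divisors 6 :=
            Nat.mem_divisors.mpr ⟨hcard_dvd, by norm_num⟩
          have hdiv : Nat.divisors 6 = {1, 2, 3, 6} := by decide
          rw [hdiv] at hmem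
          simp only [Finset.mem_insert, Finset.mem_singleton] at hmem
          rcases hmem with h' | h' | h' | h'
          · omega
          · omega
          · exact absurd (by rw [h']) h3not
          · exact absurd (by rw [h']; norm_num) h3not
        -- but 1, g, g' are three distinct elements of the kernel
        have hg'1 : g' ≠ 1 := by
          intro h1
          rw [h1, orderOf_one] at hg'2
          omega
        have hthree : 3 ≤ Nat.card φ.ker := by
          have hinj : Function.Injective (fun i : Fin 3 =>
              (![⟨1, one_mem _⟩, ⟨g, hg⟩, ⟨g', hconj⟩] i : φ.ker)) := by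
            intro i j hij
            fin_cases i <;> fin_cases j <;> simp [Subtype.ext_iff] at hij ⊢
            · exact hg1 hij.symm
            · exact hg'1 hij.symm
            · exact hg1 hij
            · exact hc hij.symm
            · exact hg'1 hij
            · exact hc hij
          have := Nat.card_le_card_of_injective _ hinj
          simpa using this
        omega
    have hinj : Function.Injective φ := (MonoidHom.ker_eq_bot_iff φ).mp hker
    have hbij : Function.Bijective φ := by
      rw [Nat.bijective_iff_injective_and_card]
      refine ⟨hinj, ?_⟩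
      rw [Nat.card_perm, h4, h]
      rfl
    have hcard4 : Fintype.card (Sylow 3 G) = 4 := by
      rw [← Nat.card_eq_fintype_card, h4]
    let e : Sylow 3 G ≃ Fin 4 := Fintype.equivFinOfCardEq hcard4
    exact ⟨(MulEquiv.ofBijective φ hbij).trans e.permCongrHom⟩

end Cfsg.Agent.S1012
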