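import Mathlib
import Cfsg.Statements.S0992
import Cfsg.Agent.Lib.H5.SimpleTools
import Cfsg.Agent.Lib.H5.AutIndex
import Cfsg.Agent.Lib.H5.Order168c

set_option autoImplicit false
open Cfsg

namespace Cfsg.Agent.S0992

open Cfsg.Agent.Lib.H5 Subgroup

/-- A group of order `2 ^ k` with `k ≤ 2` is commutative. -/
theorem comm_of_card_two_pow {H : Type*} [Group H] {k : ℕ} (hk : k ≤ 2) (hH : Nat.card H = 2 ^ k) :
    IsMulCommutative H := by
  have : Fact (Nat.Prime 2) := ⟨Nat.prime_two⟩
  interval_cases k
  · have : Subsingleton H := by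
      have := Nat.finite_of_card_ne_zero (α := H) (by rw [hH]; norm_num)
      exact Finite.card_le_one_iff_subsingleton.mp (by rw [hH]; norm_num)
    exact ⟨⟨fun a b => Subsingleton.elim _ _⟩⟩
  · have : IsCyclic H := isCyclic_of_prime_card (p := 2) (by rw [hH]; norm_num)
    exact this.isMulCommutative
  · exact IsPGroup.isMulCommutative_of_card_eq_prime_sq (p := 2) hH

theorem result {G : Type*} [Group G] [Finite G] [IsSimpleGroup G] (hG : ¬ IsMulCommutative G) (h2 : Even (Nat.card G)) (h8 : ¬ 8 ∣ Nat.card G) (T : Sylow 2 G) : IsKleinFour ↥(T : Subgroup G) ∧ (Subgroup.centralizer ((T : Subgroup G) : Set G)).relIndex (Subgroup.normalizer ((T : Subgroup G) : Set G)) = 3 := by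
  have : Fact (Nat.Prime 2) := ⟨Nat.prime_two⟩
  have h2' : 2 ∣ Nat.card G := even_iff_two_dvd.mp h2
  have hcard := Sylow.card_eq_multiplicity T
  have hG0 : Nat.card G ≠ 0 := Nat.card_pos.ne'
  have hk1 : 1 ≤ (Nat.card G).factorization 2 :=
    (Nat.Prime.dvd_iff_one_le_factorization Nat.prime_two hG0).mp h2'
  have hk2 : (Nat.card G).factorization 2 ≤ 2 := by
    by_contra hcon
    push Not at hcon
    apply h8
    have : 2 ^ 3 ∣ Nat.card G :=
      (Nat.Prime.pow_dvd_iff_le_factorization Nat.prime_two hG0).mpr hcon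
    simpa using this
  have hnp : ¬ IsPGroup 2 G := by
    intro hp
    apply hG
    obtain ⟨j, hj⟩ := IsPGroup.iff_card.mp hp
    have hj2 : j ≤ 2 := by
      have : (Nat.card G).factorization 2 = j := by
        rw [hj, Nat.Prime.factorization_pow Nat.prime_two]
        simp
      omega
    exact comm_of_card_two_pow hj2 hj
  have hburn := not_normalizer_le_centralizer_of_simple h2' hnp T
  have hne1 : (centralizer ((T : Subgroup G) : Set G)).relIndex
      (normalizer ((T : Subgroup G) : Set G)) ≠ 1 := fun h => hburn (relIndex_eq_one.mp h)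
  have hTcomm : IsMulCommutative (T : Subgroup G) := comm_of_card_two_pow hk2 hcard
  have hodd := not_dvd_relIndex_centralizer_normalizer T hTcomm
  have hfac := relIndex_centralizer_normalizer_dvd_factorial (T : Subgroup G)
  have hnotcyc : Nat.card (T : Subgroup G) = 4 → ¬ IsCyclic (T : Subgroup G) := by
    intro hc4 hcyc
    have h1 := relIndex_centralizer_normalizer_dvd (T : Subgroup G)
    rw [IsCyclic.card_mulAut, hc4] at h1
    have hphi : Nat.totient 4 = 2 := by decide
    rw [hphi] at h1
    rcases (Nat.dvd_prime Nat.prime_two).mp h1 with h' | h'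
    · exact hne1 h'
    · exact hodd (by rw [h'])
  generalize (centralizer ((T : Subgroup G) : Set G)).relIndex
      (normalizer ((T : Subgroup G) : Set G)) = r at hne1 hodd hfac ⊢
  generalize (Nat.card G).factorization 2 = k at hcard hk1 hk2
  have hk : k = 1 ∨ k = 2 := by omega
  rcases hk with rfl | rfl
  · exfalso
    rw [hcard] at hfac
    have : r ∣ 2 := by simpa using hfac
    rcases (Nat.dvd_prime Nat.prime_two).mp this with h' | h'
    · exact hne1 h'
    · exact hodd (by rw [h'])
  · have hc4 : Nat.card (T : Subgroup G) = 4 := by rw [hcard]; norm_num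
    have hr3 : r = 3 := by
      rw [hc4] at hfac
      have h24 : r ∣ 24 := by simpa [Nat.factorial] using hfac
      have hmem : r ∈ Nat.divisors 24 := Nat.mem_divisors.mpr ⟨h24, by norm_num⟩
      have hdiv : Nat.divisors 24 = {1, 2, 3, 4, 6, 8, 12, 24} := by decide
      rw [hdiv] at hmem
      simp only [Finset.mem_insert, Finset.mem_singleton] at hmem
      rcases hmem with h' | h' | h' | h' | h' | h' | h' | h'
      · exact absurd h' hne1
      · exact absurd (h' ▸ (by norm_num : 2 ∣ 2)) hodd
      · exact h'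
      · exact absurd (h' ▸ (by norm_num : 2 ∣ 4)) hodd
      · exact absurd (h' ▸ (by norm_num : 2 ∣ 6)) hodd
      · exact absurd (h' ▸ (by norm_num : 2 ∣ 8)) hodd
      · exact absurd (h' ▸ (by norm_num : 2 ∣ 12)) hodd
      · exact absurd (h' ▸ (by norm_num : 2 ∣ 24)) hodd
    refine ⟨?_, hr3⟩
    -- T is not cyclic
    apply O168.isKleinFour_of_card_of_sq hc4
    intro g
    have hd : orderOf g ∣ 4 := hc4 ▸ orderOf_dvd_natCard g
    have hmem : orderOf g ∈ Nat.divisors 4 := Nat.mem_divisors.mpr ⟨hd, by norm_num⟩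
    have hdiv : Nat.divisors 4 = {1, 2, 4} := by decide
    rw [hdiv] at hmem
    simp only [Finset.mem_insert, Finset.mem_singleton] at hmem
    rcases hmem with h' | h' | h'
    · rw [orderOf_eq_one_iff] at h'
      rw [h', mul_one]
    · have := pow_orderOf_eq_one g
      rwa [h', pow_two] at this
    · exfalso
      exact hnotcyc hc4 (isCyclic_of_orderOf_eq_card g (by rw [h', hc4]))

end Cfsg.Agent.S0992
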