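import Mathlib
import Cfsg.Statements.S0985
import Cfsg.Agent.Lib.H5.Orbits

set_option autoImplicit false
open Cfsg

namespace Cfsg.Agent.S0985

open Cfsg.Agent.Lib.H5 Subgroup MulAction

theorem stabilizer_sylow {G : Type*} [Group G] {p : ℕ} [Fact p.Prime] (P R : Sylow p G) :
    stabilizer (P : Subgroup G) R = (R : Subgroup G).subgroupOf (P : Subgroup G) := by
  ext u
  rw [mem_stabilizer_iff, mem_subgroupOf, Subgroup.smul_def, Sylow.smul_eq_iff_mem_normalizer]
  have h := P.2.inf_normalizer_sylow R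
  constructor
  · intro hu
    have : (u : G) ∈ (P : Subgroup G) ⊓ normalizer (R : Set G) := ⟨u.2, hu⟩
    rw [h] at this
    exact this.2
  · intro hu
    have : (u : G) ∈ (P : Subgroup G) ⊓ (R : Subgroup G) := ⟨u.2, hu⟩
    rw [← h] at this
    exact this.2

theorem card_orbit_sylow {G : Type*} [Group G] [Finite G] {p : ℕ} [Fact p.Prime] (P R : Sylow p G) :
    Nat.card (orbit (P : Subgroup G) R) = ((R : Subgroup G).subgroupOf (P : Subgroup G)).index := by
  rw [← stabilizer_sylow, index_stabilizer, Nat.card_coe_set_eq]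

/-- If the number of Sylow p-subgroups of a finite group is not congruent to 1 modulo p^k, then there are two distinct Sylow p-subgroups P and R such that the index of P ∩ R in P is at most p^(k-1). -/
theorem result {G : Type*} [Group G] [Finite G] (p k : ℕ) [Fact p.Prime] (h : ¬ Nat.card (Sylow p G) ≡ 1 [MOD p ^ k]) : ∃ P R : Sylow p G, P ≠ R ∧ ((R : Subgroup G).subgroupOf (P : Subgroup G)).index ≤ p ^ (k - 1) := by
  have hp : p.Prime := Fact.out
  by_contra hcon
  push Not at hcon
  apply h
  let P : Sylow p G := default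
  have hfix : ∀ R : Sylow p G, R ∈ fixedPoints (P : Subgroup G) (Sylow p G) ↔ R = P := by
    intro R
    rw [P.2.sylow_mem_fixedPoints_iff]
    constructor
    · intro hle; exact (Sylow.ext (P.is_maximal' R.2 hle))
    · intro hR; rw [hR]
  have hcardfix : Nat.card (fixedPoints (P : Subgroup G) (Sylow p G)) = 1 := by
    rw [Nat.card_eq_one_iff_unique]
    refine ⟨⟨fun a b => Subtype.ext ?_⟩, ⟨⟨P, (hfix P).mpr rfl⟩⟩⟩
    rw [(hfix a.1).mp a.2, (hfix b.1).mp b.2]
  have key := card_modEq_card_fixedPoints_of_dvd (P := (P : Subgroup G)) (X := Sylow p G) (p ^ k) ?_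
  · rwa [hcardfix] at key
  intro R hR
  have hne : P ≠ R := fun hPR => hR ((hfix R).mpr hPR.symm)
  have hlt := hcon P R hne
  rw [card_orbit_sylow]
  -- the index is a power of p
  have hdvd : ((R : Subgroup G).subgroupOf (P : Subgroup G)).index ∣ Nat.card (P : Subgroup G) :=
    Subgroup.index_dvd_card _
  obtain ⟨n, hn⟩ := P.2.exists_card_eq
  rw [hn] at hdvd
  obtain ⟨j, _, hj⟩ := (Nat.dvd_prime_pow hp).mp hdvd
  rw [hj] at hlt ⊢
  apply pow_dvd_pow
  have := (Nat.pow_lt_pow_iff_right hp.one_lt).mp hlt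
  omega

end Cfsg.Agent.S0985
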