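import Cfsg.Statements.S0783
import Cfsg.Agent.Lib.H4.Herm
-- import your own Cfsg.Agent.* helpers here

set_option autoImplicit false
open Cfsg

namespace Cfsg.Agent.S0783

open Matrix
open scoped MatrixGroups

variable {F : Type*} [Field F] {q : ℕ} {n : ℕ}

theorem mem_GU_iff (g : GL (Fin n) F) :
    g ∈ Cfsg.GU n F q ↔ ∀ u v, Cfsg.hermForm n F q ((g : Matrix (Fin n) (Fin n) F) *ᵥ u)
      ((g : Matrix (Fin n) (Fin n) F) *ᵥ v) = Cfsg.hermForm n F q u v := Iff.rfl

/-- diagonal element of GL -/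
def diagGL (d : Fin n → Fˣ) : GL (Fin n) F :=
  ⟨Matrix.diagonal (fun i => (d i : F)), Matrix.diagonal (fun i => ((d i)⁻¹ : Fˣ)),
    by rw [Matrix.diagonal_mul_diagonal]; simp,
    by rw [Matrix.diagonal_mul_diagonal]; simp⟩

theorem diagGL_val (d : Fin n → Fˣ) :
    ((diagGL d : GL (Fin n) F) : Matrix (Fin n) (Fin n) F) = Matrix.diagonal (fun i => (d i : F)) := rfl

theorem diagGL_mem (d : Fin n → Fˣ) (hd : ∀ i, (d i : F) ^ (q + 1) = 1) :
    diagGL d ∈ Cfsg.GU n F q := by
  rw [mem_GU_iff]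
  intro u v
  simp only [Cfsg.hermForm, diagGL_val, Matrix.mulVec_diagonal]
  refine Finset.sum_congr rfl fun i _ => ?_
  have : (d i : F) * u i * ((d i : F) * v i) ^ q = (d i : F) ^ (q + 1) * (u i * v i ^ q) := by ring
  rw [this, hd, one_mul]

theorem det_diagGL (d : Fin n → Fˣ) :
    Matrix.GeneralLinearGroup.det (diagGL d) = ∏ i, d i := by
  apply Units.ext
  rw [Matrix.GeneralLinearGroup.val_det_apply, diagGL_val, Matrix.det_diagonal]
  simp

/-- permutation element of GL -/
def permGL (σ : Equiv.Perm (Fin n)) : GL (Fin n) F :=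
  Units.map (Matrix.permMatrixHom (n := Fin n) (R := F)) (toUnits σ)

theorem permGL_val (σ : Equiv.Perm (Fin n)) :
    ((permGL σ : GL (Fin n) F) : Matrix (Fin n) (Fin n) F) = (σ⁻¹).permMatrix F := rfl

theorem permGL_mem (σ : Equiv.Perm (Fin n)) : (permGL σ : GL (Fin n) F) ∈ Cfsg.GU n F q := by
  rw [mem_GU_iff]
  intro u v
  simp only [Cfsg.hermForm, permGL_val, Matrix.permMatrix_mulVec, Function.comp_apply]
  exact Equiv.sum_comp (σ⁻¹) (fun i => u i * v i ^ q)

theorem q_ne_zero [Fintype F] (hF : Fintype.card F = q ^ 2) : q ≠ 0 := by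
  rintro rfl
  have := Fintype.card_pos (α := F)
  rw [hF] at this
  simp at this

theorem det_pow_of_mem [Fintype F] (hF : Fintype.card F = q ^ 2) (g : GL (Fin n) F)
    (hg : g ∈ Cfsg.GU n F q) : (Matrix.GeneralLinearGroup.det g : Fˣ) ^ (q + 1) = 1 := by
  obtain ⟨φ, hφ, -⟩ := Cfsg.Agent.Lib.H4.exists_frob hF
  have hq := q_ne_zero hF
  have key : (g : Matrix (Fin n) (Fin n) F)ᵀ * (g : Matrix (Fin n) (Fin n) F).map φ = 1 := by
    ext i j
    have := (mem_GU_iff g).1 hg (Pi.single i 1) (Pi.single j 1)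
    simp only [Matrix.mulVec_single_one, Cfsg.hermForm] at this
    rw [Matrix.mul_apply]
    simp only [Matrix.transpose_apply, Matrix.map_apply, hφ]
    simp only [Matrix.col_apply] at this
    rw [this, Matrix.one_apply]
    simp only [Pi.single_apply]
    split_ifs with h
    · subst h
      have : ∀ x : Fin n, ((if x = i then (1:F) else 0) * (if x = i then (1:F) else 0) ^ q) =
          if x = i then 1 else 0 := by
        intro x
        split_ifs <;> simp [hq]
      simp only [this, Finset.sum_ite_eq', Finset.mem_univ, if_true]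
    · have : ∀ x : Fin n, ((if x = i then (1:F) else 0) * (if x = j then (1:F) else 0) ^ q) = 0 := by
        intro x
        split_ifs with h1 h2
        · exact absurd (h1.symm.trans h2) h
        · simp [hq]
        · simp
        · simp
      simp only [this, Finset.sum_const_zero]
  have hdet := congrArg Matrix.det key
  rw [Matrix.det_mul, Matrix.det_transpose, Matrix.det_one] at hdet
  have h2 : ((g : Matrix (Fin n) (Fin n) F).map φ).det = ((g : Matrix (Fin n) (Fin n) F).det) ^ q := by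
    rw [← hφ, RingHom.map_det]; rfl
  rw [h2, ← pow_succ'] at hdet
  apply Units.ext
  rw [Units.val_pow_eq_pow_val, Matrix.GeneralLinearGroup.val_det_apply, Units.val_one]
  exact hdet


theorem central_scalar [Fintype F] (hF : Fintype.card F = q ^ 2) (hn : 1 ≤ n)
    (z : ↥(Cfsg.GU n F q)) (hz : z ∈ Subgroup.center ↥(Cfsg.GU n F q))
    (lam : Fˣ) (hlam : (lam : F) ^ (q + 1) = 1) (hlam1 : lam ≠ 1) :
    ∃ c : Fˣ, (c : F) ^ (q + 1) = 1 ∧
      ((z : GL (Fin n) F) : Matrix (Fin n) (Fin n) F) = Matrix.diagonal (fun _ => (c : F)) := by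
  have hq := q_ne_zero hF
  rw [Subgroup.mem_center_iff] at hz
  obtain ⟨Z, hZ⟩ : ∃ Z : Matrix (Fin n) (Fin n) F, Z = ((z : GL (Fin n) F) : Matrix (Fin n) (Fin n) F) :=
    ⟨_, rfl⟩
  have hcomm : ∀ g : GL (Fin n) F, g ∈ Cfsg.GU n F q →
      (g : Matrix (Fin n) (Fin n) F) * Z = Z * (g : Matrix (Fin n) (Fin n) F) := by
    intro g hg
    have := hz ⟨g, hg⟩
    have h2 := congrArg (fun x : ↥(Cfsg.GU n F q) => ((x : GL (Fin n) F) : Matrix (Fin n) (Fin n) F)) this
    simp only [Subgroup.coe_mul, Units.val_mul] at h2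
    rw [hZ]; exact h2
  have hoff : ∀ a b, a ≠ b → Z a b = 0 := by
    intro a b hab
    have hd : ∀ i, ((Function.update (1 : Fin n → Fˣ) b lam i : Fˣ) : F) ^ (q + 1) = 1 := by
      intro i
      by_cases h : i = b
      · subst h; simp [hlam]
      · simp [Function.update_of_ne h]
    have := hcomm _ (diagGL_mem _ hd)
    rw [diagGL_val] at this
    have h2 := congrFun (congrFun this a) b
    rw [Matrix.diagonal_mul, Matrix.mul_diagonal] at h2
    simp only [Function.update_of_ne hab, Function.update_self, Pi.one_apply, Units.val_one,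
      one_mul] at h2
    have h3 : Z a b * ((lam : F) - 1) = 0 := by rw [mul_sub, mul_one, ← h2, sub_self]
    rcases mul_eq_zero.1 h3 with h | h
    · exact h
    · exfalso
      apply hlam1
      apply Units.ext
      rw [Units.val_one]
      exact sub_eq_zero.1 h
  have hdiag : ∀ a b, Z a a = Z b b := by
    intro a b
    have := hcomm _ (permGL_mem (q := q) (Equiv.swap a b))
    rw [permGL_val, Equiv.Perm.permMatrix, PEquiv.toMatrix_toPEquiv_mul,
      PEquiv.mul_toMatrix_toPEquiv] at this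
    have h2 := congrFun (congrFun this a) ((Equiv.swap a b)⁻¹ a)
    simp only [Matrix.submatrix_apply, id, Equiv.symm_apply_apply] at h2
    have h3 : (Equiv.swap a b)⁻¹ a = b := by simp
    rw [h3] at h2
    exact h2.symm
  obtain ⟨i0⟩ : Nonempty (Fin n) := ⟨⟨0, hn⟩⟩
  have hZd : Z = Matrix.diagonal (fun _ => Z i0 i0) := by
    ext a b
    by_cases hab : a = b
    · subst hab; rw [Matrix.diagonal_apply_eq]; exact hdiag a i0
    · rw [Matrix.diagonal_apply_ne _ hab]; exact hoff a b hab
  have hc : (Z i0 i0) ^ (q + 1) = 1 := by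
    obtain ⟨e0, he0⟩ : ∃ e0 : Fin n → F, e0 = Pi.single i0 1 := ⟨_, rfl⟩
    have := (mem_GU_iff (z : GL (Fin n) F)).1 z.2 e0 e0
    rw [← hZ, hZd] at this
    simp only [Cfsg.hermForm, Matrix.mulVec_diagonal] at this
    have e : ∀ x : Fin n, Z i0 i0 * (e0 x) * (Z i0 i0 * e0 x) ^ q =
        (Z i0 i0) ^ (q + 1) * (e0 x * (e0 x) ^ q) := by
      intro x; ring
    simp only [e, ← Finset.mul_sum] at this
    have e2 : ∑ x : Fin n, (e0 x * (e0 x) ^ q) = 1 := by
      have : ∀ x : Fin n, (e0 x * (e0 x) ^ q) = if x = i0 then 1 else 0 := by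
        intro x
        rw [he0]
        simp only [Pi.single_apply]
        split_ifs <;> simp [hq]
      simp only [this, Finset.sum_ite_eq', Finset.mem_univ, if_true]
    rw [e2, mul_one] at this
    exact this
  have hc0 : Z i0 i0 ≠ 0 := by
    intro h
    rw [h, zero_pow (by omega)] at hc
    exact zero_ne_one hc
  exact ⟨Units.mk0 _ hc0, hc, by rw [← hZ, Units.val_mk0]; exact hZd⟩


theorem cyclic_equiv (Q : Type*) [Group Q] [IsCyclic Q] (d : ℕ) (h : Nat.card Q = d) :
    Nonempty (Q ≃* Multiplicative (ZMod d)) := by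
  subst h
  exact ⟨(zmodCyclicMulEquiv ‹_›).symm⟩

/-- the group of (q+1)-th roots of unity -/
def mu (F : Type*) [Field F] (q : ℕ) : Subgroup Fˣ := (powMonoidHom (q + 1) : Fˣ →* Fˣ).ker

theorem mem_mu (x : Fˣ) : x ∈ mu F q ↔ x ^ (q + 1) = 1 := by
  rw [mu, MonoidHom.mem_ker, powMonoidHom_apply]

theorem mem_mu' (x : Fˣ) : x ∈ mu F q ↔ (x : F) ^ (q + 1) = 1 := by
  rw [mem_mu, ← Units.val_pow_eq_pow_val, Units.ext_iff, Units.val_one]

theorem card_mu [Fintype F] (hF : Fintype.card F = q ^ 2) : Nat.card (mu F q) = q + 1 := by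
  classical
  rw [mu, IsCyclic.card_powMonoidHom_ker, Nat.card_eq_fintype_card, Fintype.card_units, hF]
  apply Nat.gcd_eq_right
  refine ⟨q - 1, ?_⟩
  rcases Nat.eq_zero_or_pos q with rfl | hq
  · simp
  · obtain ⟨r, rfl⟩ : ∃ r, q = r + 1 := ⟨q - 1, by omega⟩
    simp only [Nat.add_sub_cancel]
    have : (r + 1) ^ 2 = (r + 1 + 1) * r + 1 := by ring
    rw [this, Nat.add_sub_cancel]

/-- PGU_n(q)/PSU_n(q) is cyclic of order (n, q+1): for n ≥ 2 and |F| = q² there is a surjective homomorphism from GU_n(q) onto the cyclic group of order gcd(n, q + 1) whose kernel is generated by the determinant-one elements together with the centre. -/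
theorem result {F : Type*} [Field F] [Fintype F] {q : ℕ} (hF : Fintype.card F = q ^ 2) (n : ℕ) (hn : 2 ≤ n) : ∃ φ : ↥(Cfsg.GU n F q) →* Multiplicative (ZMod (Nat.gcd n (q + 1))), Function.Surjective φ ∧ φ.ker = (Matrix.GeneralLinearGroup.det : Matrix.GeneralLinearGroup (Fin n) F →* Fˣ).ker.subgroupOf (Cfsg.GU n F q) ⊔ Subgroup.center ↥(Cfsg.GU n F q) := by
  classical
  have hq := q_ne_zero hF
  -- det restricted
  let detμ : ↥(Cfsg.GU n F q) →* ↥(mu F q) :=
    ((Matrix.GeneralLinearGroup.det : GL (Fin n) F →* Fˣ).comp (Cfsg.GU n F q).subtype).codRestrict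
      (mu F q) (fun g => (mem_mu _).2 (det_pow_of_mem hF g.1 g.2))
  have hdetμ : ∀ g : ↥(Cfsg.GU n F q), ((detμ g : ↥(mu F q)) : Fˣ) =
      Matrix.GeneralLinearGroup.det (g : GL (Fin n) F) := fun g => rfl
  obtain ⟨i0⟩ : Nonempty (Fin n) := ⟨⟨0, by omega⟩⟩
  have hdetμ_surj : Function.Surjective detμ := by
    rintro ⟨y, hy⟩
    have hd : ∀ i, ((Function.update (1 : Fin n → Fˣ) i0 y i : Fˣ) : F) ^ (q + 1) = 1 := by
      intro i
      by_cases h : i = i0
      · subst h; simpa using (mem_mu' y).1 hy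
      · simp [Function.update_of_ne h]
    refine ⟨⟨diagGL _, diagGL_mem _ hd⟩, ?_⟩
    apply Subtype.ext
    rw [hdetμ]
    show Matrix.GeneralLinearGroup.det (diagGL _) = y
    rw [det_diagGL, Finset.prod_update_of_mem (Finset.mem_univ _)]
    simp
  obtain ⟨R, hR⟩ : ∃ R : Subgroup ↥(mu F q), R = (powMonoidHom n : ↥(mu F q) →* ↥(mu F q)).range :=
    ⟨_, rfl⟩
  have hRidx : R.index = Nat.gcd n (q + 1) := by
    rw [hR, IsCyclic.index_powMonoidHom_range, card_mu hF, Nat.gcd_comm]
  have hcardQ : Nat.card (↥(mu F q) ⧸ R) = Nat.gcd n (q + 1) := by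
    rw [← hRidx]; rfl
  have : IsCyclic (↥(mu F q) ⧸ R) :=
    isCyclic_of_surjective (QuotientGroup.mk' R) (QuotientGroup.mk'_surjective R)
  obtain ⟨iso⟩ := cyclic_equiv (↥(mu F q) ⧸ R) _ hcardQ
  refine ⟨iso.toMonoidHom.comp ((QuotientGroup.mk' R).comp detμ), ?_, ?_⟩
  · exact iso.surjective.comp ((QuotientGroup.mk'_surjective R).comp hdetμ_surj)
  · have hker : ∀ g : ↥(Cfsg.GU n F q),
        g ∈ (iso.toMonoidHom.comp ((QuotientGroup.mk' R).comp detμ)).ker ↔
          ∃ y : ↥(mu F q), y ^ n = detμ g := by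
      intro g
      rw [MonoidHom.mem_ker]
      simp only [MonoidHom.comp_apply, MulEquiv.coe_toMonoidHom,
        EmbeddingLike.map_eq_one_iff, QuotientGroup.mk'_apply, QuotientGroup.eq_one_iff]
      rw [hR, MonoidHom.mem_range]
      simp only [powMonoidHom_apply]
    -- scalar elements
    have hscal : ∀ y : ↥(mu F q), ∃ s : ↥(Cfsg.GU n F q), s ∈ Subgroup.center ↥(Cfsg.GU n F q) ∧
        detμ s = y ^ n := by
      intro y
      have hd : ∀ i : Fin n, (((fun _ => (y : Fˣ)) : Fin n → Fˣ) i : F) ^ (q + 1) = 1 :=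
        fun i => (mem_mu' _).1 y.2
      refine ⟨⟨diagGL (fun _ => (y : Fˣ)), diagGL_mem _ hd⟩, ?_, ?_⟩
      · rw [Subgroup.mem_center_iff]
        intro g
        apply Subtype.ext
        apply Units.ext
        simp only [Subgroup.coe_mul, Units.val_mul, diagGL_val]
        rw [← Matrix.smul_one_eq_diagonal]
        simp
      · apply Subtype.ext
        rw [hdetμ]
        show Matrix.GeneralLinearGroup.det (diagGL _) = _
        rw [det_diagGL]
        simp
    apply le_antisymm
    · intro g hg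
      obtain ⟨y, hy⟩ := (hker g).1 hg
      obtain ⟨s, hs, hsdet⟩ := hscal y
      have hgs : g * s⁻¹ ∈ (Matrix.GeneralLinearGroup.det : GL (Fin n) F →* Fˣ).ker.subgroupOf
          (Cfsg.GU n F q) := by
        rw [Subgroup.mem_subgroupOf, MonoidHom.mem_ker]
        have h1 : detμ (g * s⁻¹) = 1 := by
          rw [map_mul, map_inv, hsdet, ← hy, mul_inv_cancel]
        have h2 := congrArg (fun x : ↥(mu F q) => (x : Fˣ)) h1
        simpa [hdetμ] using h2
      have : g = (g * s⁻¹) * s := by group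
      rw [this]
      exact Subgroup.mul_mem_sup hgs hs
    · apply sup_le
      · intro g hg
        rw [Subgroup.mem_subgroupOf, MonoidHom.mem_ker] at hg
        rw [hker]
        refine ⟨1, ?_⟩
        apply Subtype.ext
        rw [hdetμ, hg]
        simp
      · intro z hz
        rw [hker]
        -- nontrivial element of mu
        have hcard := card_mu hF
        have : Nontrivial ↥(mu F q) := by
          rw [← Finite.one_lt_card_iff_nontrivial, hcard]
          omega
        obtain ⟨lam, hlam1⟩ := exists_ne (1 : ↥(mu F q))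
        obtain ⟨c, hc, hZ⟩ := central_scalar hF (by omega) z hz (lam : Fˣ) ((mem_mu' _).1 lam.2)
          (fun h => hlam1 (Subtype.ext h))
        refine ⟨⟨c, (mem_mu' c).2 hc⟩, ?_⟩
        apply Subtype.ext
        rw [hdetμ]
        apply Units.ext
        rw [Matrix.GeneralLinearGroup.val_det_apply, hZ, Matrix.det_diagonal]
        simp

end Cfsg.Agent.S0783
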