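import Cfsg.Statements.S2571
import Cfsg.Agent.Lib.H13.RegUnip

set_option autoImplicit false
open Cfsg

namespace Cfsg.Agent.S2571

open Matrix Module

section
variable {F : Type*} [Field F] {n : ℕ}

/-- the polynomial `∑ a_i N^i` -/
def phi (N : Matrix (Fin n) (Fin n) F) (a : Fin n → F) : Matrix (Fin n) (Fin n) F :=
  ∑ i : Fin n, a i • N ^ (i : ℕ)

theorem phi_commute (N : Matrix (Fin n) (Fin n) F) (a : Fin n → F) (A : Matrix (Fin n) (Fin n) F)
    (hA : Commute A N) : Commute A (phi N a) := by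
  unfold phi
  apply Commute.sum_right
  intro i _
  exact (hA.pow_right _).smul_right _

theorem phi_mulVec (N : Matrix (Fin n) (Fin n) F) (a : Fin n → F) (v : Fin n → F) :
    phi N a *ᵥ v = ∑ i : Fin n, a i • (N ^ (i : ℕ) *ᵥ v) := by
  unfold phi
  rw [Matrix.sum_mulVec]
  apply Finset.sum_congr rfl
  intro i _
  rw [Matrix.smul_mulVec]

theorem phi_inj_aux (N : Matrix (Fin n) (Fin n) F) (hnil : N ^ n = 0) (v : Fin n → F)
    (hv : N ^ (n - 1) *ᵥ v ≠ 0) (a : Fin n → F) (h : phi N a *ᵥ v = 0) : a = 0 := by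
  by_contra hne
  have hex : ∃ j, a j ≠ 0 := by
    by_contra h'
    push Not at h'
    exact hne (funext h')
  obtain ⟨j, hj, hmin⟩ := wellFounded_lt.has_min {j | a j ≠ 0} hex
  have hmin' : ∀ i < j, a i = 0 := by
    intro i hi
    by_contra h0
    exact hmin i h0 hi
  have h1 : N ^ (n - 1 - (j : ℕ)) *ᵥ (phi N a *ᵥ v) = a j • (N ^ (n - 1) *ᵥ v) := by
    rw [phi_mulVec, Matrix.mulVec_sum]
    rw [Finset.sum_eq_single j]
    · rw [Matrix.mulVec_smul, Matrix.mulVec_mulVec, ← pow_add]
      congr 3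
      have := j.2
      omega
    · intro i _ hij
      rw [Matrix.mulVec_smul, Matrix.mulVec_mulVec, ← pow_add]
      rcases lt_or_gt_of_ne hij with hlt | hgt
      · rw [hmin' i hlt, zero_smul]
      · have hge : n ≤ n - 1 - (j : ℕ) + (i : ℕ) := by
          have := j.2
          have : (j : ℕ) < (i : ℕ) := hgt
          omega
        have : N ^ (n - 1 - (j : ℕ) + (i : ℕ)) = 0 := by
          obtain ⟨d, hd⟩ := Nat.exists_eq_add_of_le hge
          rw [hd, pow_add, hnil, zero_mul]
        rw [this, Matrix.zero_mulVec, smul_zero]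
    · intro hj'
      exact absurd (Finset.mem_univ j) hj'
  rw [h, Matrix.mulVec_zero] at h1
  rcases smul_eq_zero.mp h1.symm with h2 | h2
  · exact hj h2
  · exact hv h2

/-- the linear map `a ↦ (∑ a_i N^i) v` -/
def PhiL (N : Matrix (Fin n) (Fin n) F) (v : Fin n → F) : (Fin n → F) →ₗ[F] (Fin n → F) where
  toFun a := phi N a *ᵥ v
  map_add' a b := by
    rw [phi_mulVec, phi_mulVec, phi_mulVec, ← Finset.sum_add_distrib]
    apply Finset.sum_congr rfl
    intro i _
    rw [Pi.add_apply, add_smul]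
  map_smul' c a := by
    rw [phi_mulVec, phi_mulVec, Finset.smul_sum]
    apply Finset.sum_congr rfl
    intro i _
    rw [Pi.smul_apply, smul_eq_mul, mul_smul, RingHom.id_apply]

theorem PhiL_bij (N : Matrix (Fin n) (Fin n) F) (hnil : N ^ n = 0) (v : Fin n → F)
    (hv : N ^ (n - 1) *ᵥ v ≠ 0) : Function.Bijective (PhiL N v) := by
  have hinj : Function.Injective (PhiL N v) := by
    rw [← LinearMap.ker_eq_bot, LinearMap.ker_eq_bot']
    intro a ha
    exact phi_inj_aux N hnil v hv a ha
  exact ⟨hinj, LinearMap.injective_iff_surjective.mp hinj⟩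

theorem commutant_eq (N : Matrix (Fin n) (Fin n) F) (hnil : N ^ n = 0) (v : Fin n → F)
    (hv : N ^ (n - 1) *ᵥ v ≠ 0) (A : Matrix (Fin n) (Fin n) F) (hA : Commute A N) :
    ∃ a, A = phi N a := by
  obtain ⟨a, ha⟩ := (PhiL_bij N hnil v hv).2 (A *ᵥ v)
  refine ⟨a, ?_⟩
  have ha' : phi N a *ᵥ v = A *ᵥ v := ha
  apply Matrix.toLin'.injective
  apply LinearMap.ext
  intro w
  obtain ⟨b, hb⟩ := (PhiL_bij N hnil v hv).2 w
  have hb' : phi N b *ᵥ v = w := hb
  rw [Matrix.toLin'_apply, Matrix.toLin'_apply, ← hb', Matrix.mulVec_mulVec, Matrix.mulVec_mulVec]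
  have c1 : A * phi N b = phi N b * A := phi_commute N b A hA
  have c2 : phi N a * phi N b = phi N b * phi N a :=
    phi_commute N b (phi N a) (phi_commute N a N (Commute.refl N)).symm
  rw [c1, c2, ← Matrix.mulVec_mulVec, ← Matrix.mulVec_mulVec, ha']

theorem phi_split (N : Matrix (Fin n) (Fin n) F) (hn : 1 ≤ n) (a : Fin n → F) :
    ∃ K, Commute N K ∧ phi N a = a ⟨0, hn⟩ • 1 + N * K := by
  refine ⟨∑ i : Fin n, if (i : ℕ) = 0 then 0 else a i • N ^ ((i : ℕ) - 1), ?_, ?_⟩
  · apply Commute.sum_right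
    intro i _
    split_ifs
    · exact Commute.zero_right _
    · exact ((Commute.refl N).pow_right _).smul_right _
  · unfold phi
    rw [Finset.mul_sum]
    rw [← Finset.add_sum_erase _ _ (Finset.mem_univ (⟨0, hn⟩ : Fin n))]
    rw [← Finset.add_sum_erase (f := fun i : Fin n => N * (if (i : ℕ) = 0 then 0 else a i • N ^ ((i : ℕ) - 1)))
      _ (Finset.mem_univ (⟨0, hn⟩ : Fin n))]
    simp only [pow_zero, if_true, mul_zero, zero_add]
    congr 1
    apply Finset.sum_congr rfl
    intro i hi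
    have hi0 : (i : ℕ) ≠ 0 := by
      intro h0
      rw [Finset.mem_erase] at hi
      exact hi.1 (Fin.ext h0)
    rw [if_neg hi0, Matrix.mul_smul, ← pow_succ']
    congr 2
    omega

theorem phi_isUnit_iff (N : Matrix (Fin n) (Fin n) F) (hnil : N ^ n = 0) (hn : 1 ≤ n) (a : Fin n → F) :
    IsUnit (phi N a) ↔ a ⟨0, hn⟩ ≠ 0 := by
  obtain ⟨K, hK, hsplit⟩ := phi_split N hn a
  have hnilNK : IsNilpotent (N * K) := ⟨n, by rw [hK.mul_pow, hnil, zero_mul]⟩
  have : Nonempty (Fin n) := ⟨⟨0, hn⟩⟩
  constructor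
  · intro hu h0
    rw [hsplit, h0, zero_smul, zero_add] at hu
    exact hu.not_isNilpotent hnilNK
  · intro h0
    rw [hsplit]
    apply hnilNK.isUnit_add_left_of_commute
    · rw [← Algebra.algebraMap_eq_smul_one]
      exact (algebraMap F (Matrix (Fin n) (Fin n) F)).isUnit_map (IsUnit.mk0 _ h0)
    · exact (Commute.one_right _).smul_right _

end

theorem result {F : Type*} [Field F] [Fintype F] {q n : ℕ} (hF : Fintype.card F = q) (hn : 1 ≤ n)
    (u : GL (Fin n) F) (hnil : ((u : Matrix (Fin n) (Fin n) F) - 1) ^ n = 0)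
    (hreg : ((u : Matrix (Fin n) (Fin n) F) - 1).rank = n - 1) :
    Nat.card ↥(Subgroup.centralizer ({u} : Set (GL (Fin n) F))) = (q - 1) * q ^ (n - 1) := by
  classical
  set N : Matrix (Fin n) (Fin n) F := (u : Matrix (Fin n) (Fin n) F) - 1 with hN
  -- cyclic vector
  obtain ⟨v, hv⟩ : ∃ v, N ^ (n - 1) *ᵥ v ≠ 0 := by
    by_contra h
    push Not at h
    have h1 := Lib.H13.regular_finrank_ker_pow N hnil hreg (n - 1) (by omega)
    have h2 : LinearMap.ker (Matrix.mulVecLin (N ^ (n - 1))) = ⊤ := by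
      rw [eq_top_iff]
      intro w _
      rw [LinearMap.mem_ker, Matrix.mulVecLin_apply]
      exact h w
    rw [h2, finrank_top] at h1
    simp at h1
    omega
  -- membership in centralizer
  have hmem : ∀ g : GL (Fin n) F, g ∈ Subgroup.centralizer ({u} : Set (GL (Fin n) F)) ↔
      Commute (g : Matrix (Fin n) (Fin n) F) N := by
    intro g
    rw [Subgroup.mem_centralizer_iff]
    simp only [Set.mem_singleton_iff, forall_eq]
    constructor
    · intro h
      have h' : (u : Matrix (Fin n) (Fin n) F) * g = g * u := by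
        rw [← Units.val_mul, h, Units.val_mul]
      show (g : Matrix (Fin n) (Fin n) F) * N = N * g
      rw [hN, mul_sub, sub_mul, h', mul_one, one_mul]
    · intro h
      apply Units.ext
      rw [Units.val_mul, Units.val_mul]
      have h' : (g : Matrix (Fin n) (Fin n) F) * N = N * g := h
      rw [hN, mul_sub, sub_mul, mul_one, one_mul] at h'
      exact (sub_left_inj.mp h').symm
  -- the bijection
  let f : {a : Fin n → F // a ⟨0, hn⟩ ≠ 0} → ↥(Subgroup.centralizer ({u} : Set (GL (Fin n) F))) :=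
    fun a => ⟨((phi_isUnit_iff N hnil hn a.1).mpr a.2).unit, by
      rw [hmem]
      show Commute (phi N a.1) N
      exact (phi_commute N a.1 N (Commute.refl N)).symm⟩
  have hf : Function.Bijective f := by
    constructor
    · intro a b hab
      have h1 : phi N a.1 = phi N b.1 := by
        have := congrArg (fun g : ↥(Subgroup.centralizer ({u} : Set (GL (Fin n) F))) =>
          ((g : GL (Fin n) F) : Matrix (Fin n) (Fin n) F)) hab
        exact this
      apply Subtype.ext
      apply (PhiL_bij N hnil v hv).1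
      show phi N a.1 *ᵥ v = phi N b.1 *ᵥ v
      rw [h1]
    · intro g
      obtain ⟨a, ha⟩ := commutant_eq N hnil v hv (g.1 : Matrix (Fin n) (Fin n) F) ((hmem g.1).mp g.2)
      have ha0 : a ⟨0, hn⟩ ≠ 0 := by
        rw [← phi_isUnit_iff N hnil hn a, ← ha]
        exact Units.isUnit _
      refine ⟨⟨a, ha0⟩, ?_⟩
      apply Subtype.ext
      apply Units.ext
      exact ha.symm
  rw [← Nat.card_congr (Equiv.ofBijective f hf)]
  -- count
  let e : {a : Fin n → F // a ⟨0, hn⟩ ≠ 0} ≃ {x : F // x ≠ 0} × ({j : Fin n // j ≠ ⟨0, hn⟩} → F) :=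
    { toFun := fun a => (⟨a.1 ⟨0, hn⟩, a.2⟩, fun j => a.1 j.1)
      invFun := fun p => ⟨fun i => if h : i = ⟨0, hn⟩ then p.1.1 else p.2 ⟨i, h⟩, by simp [p.1.2]⟩
      left_inv := by
        intro a
        apply Subtype.ext
        funext i
        by_cases h : i = ⟨0, hn⟩
        · subst h; simp
        · simp [h]
      right_inv := by
        intro p
        apply Prod.ext
        · apply Subtype.ext; simp
        · funext j
          simp [j.2] }
  rw [Nat.card_congr e, Nat.card_prod, Nat.card_eq_fintype_card, Nat.card_eq_fintype_card,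
    Fintype.card_fun, Fintype.card_subtype_compl, Fintype.card_subtype_compl, hF]
  simp

end Cfsg.Agent.S2571
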