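import Cfsg.Statements.S2578
import Cfsg.Agent.S2571

set_option autoImplicit false
open Cfsg

namespace Cfsg.Agent.S2578

open Matrix Module
open Cfsg.Agent.S2571 (phi phi_commute phi_mulVec PhiL PhiL_bij commutant_eq phi_split phi_isUnit_iff)

section
variable {F : Type*} [Field F]

/-- determinant of scalar plus nilpotent -/
theorem det_smul_one_add_nilpotent {n : ℕ} (c : F) (M : Matrix (Fin n) (Fin n) F)
    (hM : IsNilpotent M) :
    (c • (1 : Matrix (Fin n) (Fin n) F) + M).det = c ^ n := by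
  have h1 : M.charpoly = Polynomial.X ^ n := by
    have := Matrix.isNilpotent_charpoly_sub_pow_of_isNilpotent hM
    rw [Fintype.card_fin] at this
    exact sub_eq_zero.mp (isNilpotent_iff_eq_zero.mp this)
  have h2 := Matrix.eval_charpoly M (-c)
  rw [h1] at h2
  have h3 : (Matrix.scalar (Fin n) (-c) - M) = -(c • (1 : Matrix (Fin n) (Fin n) F) + M) := by
    rw [Matrix.scalar_apply, neg_add, ← Matrix.diagonal_neg, sub_eq_add_neg]
    congr 1
    ext i j
    by_cases hij : i = j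
    · subst hij; simp
    · simp [hij]
  rw [h3, Matrix.det_neg, Fintype.card_fin, Polynomial.eval_pow, Polynomial.eval_X, neg_pow] at h2
  have h4 : ((-1 : F)) ^ n ≠ 0 := pow_ne_zero _ (neg_ne_zero.mpr one_ne_zero)
  exact (mul_left_cancel₀ h4 h2).symm

theorem exists_cyclic {n : ℕ} (hn : 1 ≤ n) (N : Matrix (Fin n) (Fin n) F) (hnil : N ^ n = 0)
    (hreg : N.rank = n - 1) : ∃ v, N ^ (n - 1) *ᵥ v ≠ 0 := by
  by_contra h
  push Not at h
  have h1 := Lib.H13.regular_finrank_ker_pow N hnil hreg (n - 1) (by omega)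
  have h2 : LinearMap.ker (Matrix.mulVecLin (N ^ (n - 1))) = ⊤ := by
    rw [eq_top_iff]
    intro w _
    rw [LinearMap.mem_ker, Matrix.mulVecLin_apply]
    exact h w
  rw [h2, finrank_top] at h1
  simp at h1
  omega

variable {m : ℕ}

/-- shift of coordinates -/
def shiftL : (Fin (m + 1) → F) →ₗ[F] (Fin (m + 1) → F) where
  toFun a := (Fin.cons 0 (fun i : Fin m => a (Fin.castSucc i)) : Fin (m + 1) → F)
  map_add' a b := by
    funext i
    refine Fin.cases ?_ (fun j => ?_) i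
    · simp
    · simp
  map_smul' c a := by
    funext i
    refine Fin.cases ?_ (fun j => ?_) i
    · simp
    · simp

theorem shiftL_zero (a : Fin (m + 1) → F) : shiftL a 0 = 0 := rfl

theorem shiftL_succ (a : Fin (m + 1) → F) (j : Fin m) : shiftL a j.succ = a j.castSucc := by
  show (Fin.cons 0 (fun i : Fin m => a (Fin.castSucc i)) : Fin (m + 1) → F) j.succ = _
  rw [Fin.cons_succ]

theorem mul_phi_eq (N : Matrix (Fin (m + 1)) (Fin (m + 1)) F) (hnil : N ^ (m + 1) = 0)
    (a : Fin (m + 1) → F) : N * phi N a = phi N (shiftL a) := by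
  unfold phi
  rw [Finset.mul_sum, Fin.sum_univ_castSucc,
    Fin.sum_univ_succ (f := fun i : Fin (m + 1) => shiftL a i • N ^ (i : ℕ))]
  simp only [shiftL_zero, zero_smul, zero_add, shiftL_succ, Fin.val_last, Fin.val_castSucc,
    Fin.val_succ]
  rw [Matrix.mul_smul, ← pow_succ', hnil, smul_zero, add_zero]
  apply Finset.sum_congr rfl
  intro i _
  rw [Matrix.mul_smul, ← pow_succ']

theorem shiftL_pow_apply (k : ℕ) (a : Fin (m + 1) → F) (i : Fin (m + 1)) (hi : (i : ℕ) < k) :
    ((shiftL : Module.End F (Fin (m + 1) → F)) ^ k) a i = 0 := by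
  induction k generalizing i with
  | zero => omega
  | succ k ih =>
    rw [pow_succ', Module.End.mul_apply]
    revert hi
    refine Fin.cases ?_ (fun j => ?_) i
    · intro _
      exact shiftL_zero _
    · intro hi
      rw [shiftL_succ]
      apply ih
      simp only [Fin.val_succ, Fin.val_castSucc] at hi ⊢
      omega

/-- the shift matrix -/
def shiftM (F : Type*) [Field F] (m : ℕ) : Matrix (Fin (m + 1)) (Fin (m + 1)) F :=
  LinearMap.toMatrix' (shiftL : (Fin (m + 1) → F) →ₗ[F] (Fin (m + 1) → F))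

theorem shiftM_mulVecLin : (shiftM F m).mulVecLin = shiftL := by
  rw [← Matrix.toLin'_apply', shiftM, Matrix.toLin'_toMatrix']

theorem shiftM_mulVec (a : Fin (m + 1) → F) : shiftM F m *ᵥ a = shiftL a := by
  rw [← Matrix.mulVecLin_apply, shiftM_mulVecLin]

theorem shiftM_pow : shiftM F m ^ (m + 1) = 0 := by
  apply Matrix.toLin'.injective
  rw [Matrix.toLin'_apply', ← Lib.H13.mulVecLin_pow', shiftM_mulVecLin, map_zero]
  apply LinearMap.ext
  intro a
  funext i
  rw [shiftL_pow_apply (m + 1) a i i.2]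
  simp

theorem shiftM_rank : (shiftM F m).rank = m := by
  unfold Matrix.rank
  rw [shiftM_mulVecLin]
  have hr : LinearMap.range (shiftL : (Fin (m + 1) → F) →ₗ[F] (Fin (m + 1) → F)) =
      LinearMap.ker (LinearMap.proj 0 : (Fin (m + 1) → F) →ₗ[F] F) := by
    ext b
    constructor
    · rintro ⟨a, rfl⟩
      rw [LinearMap.mem_ker, LinearMap.proj_apply]
      exact shiftL_zero a
    · intro hb
      rw [LinearMap.mem_ker, LinearMap.proj_apply] at hb
      refine ⟨(Fin.snoc (fun j : Fin m => b j.succ) 0 : Fin (m + 1) → F), ?_⟩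
      funext i
      refine Fin.cases ?_ (fun j => ?_) i
      · rw [shiftL_zero, hb]
      · rw [shiftL_succ, Fin.snoc_castSucc]
  rw [hr]
  have hne : (LinearMap.proj 0 : (Fin (m + 1) → F) →ₗ[F] F) ≠ 0 := by
    intro h0
    have := LinearMap.congr_fun h0 (Pi.single 0 1)
    simp at this
  have := Module.Dual.finrank_ker_add_one_of_ne_zero
    (f := (LinearMap.proj 0 : (Fin (m + 1) → F) →ₗ[F] F)) hne
  rw [Module.finrank_pi, Fintype.card_fin] at this
  omega

/-- every regular nilpotent matrix is conjugate to the shift matrix -/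
theorem exists_conj_shift (N : Matrix (Fin (m + 1)) (Fin (m + 1)) F) (hnil : N ^ (m + 1) = 0)
    (hreg : N.rank = m + 1 - 1) :
    ∃ g : GL (Fin (m + 1)) F, N * (g : Matrix (Fin (m + 1)) (Fin (m + 1)) F) = g * shiftM F m := by
  obtain ⟨v, hv⟩ := exists_cyclic (by omega) N hnil hreg
  have hbij := PhiL_bij N hnil v hv
  have hunit : IsUnit (LinearMap.toMatrix' (PhiL N v)) := by
    have h1 : IsUnit (PhiL N v : Module.End F (Fin (m + 1) → F)) :=
      (Module.End.isUnit_iff _).mpr hbij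
    exact h1.map (LinearMap.toMatrixAlgEquiv' : Module.End F (Fin (m + 1) → F) ≃ₐ[F] _)
  refine ⟨hunit.unit, ?_⟩
  rw [IsUnit.unit_spec]
  apply Matrix.toLin'.injective
  apply LinearMap.ext
  intro a
  rw [Matrix.toLin'_apply, Matrix.toLin'_apply, ← Matrix.mulVec_mulVec, ← Matrix.mulVec_mulVec,
    shiftM_mulVec, ← Matrix.toLin'_apply (LinearMap.toMatrix' (PhiL N v)),
    ← Matrix.toLin'_apply (LinearMap.toMatrix' (PhiL N v)), Matrix.toLin'_toMatrix']
  show N *ᵥ (phi N a *ᵥ v) = phi N (shiftL a) *ᵥ v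
  rw [Matrix.mulVec_mulVec, mul_phi_eq N hnil]

end

section conj
variable {F : Type*} [Field F] {n : ℕ}

/-- conjugation of `SL` by `GL` -/
def cj (g : GL (Fin n) F) (u : Matrix.SpecialLinearGroup (Fin n) F) :
    Matrix.SpecialLinearGroup (Fin n) F :=
  ⟨(g : Matrix (Fin n) (Fin n) F) * u.1 * ((g⁻¹ : GL (Fin n) F) : Matrix (Fin n) (Fin n) F), by
    rw [Matrix.det_units_conj]; exact u.2⟩

theorem cj_coe (g : GL (Fin n) F) (u : Matrix.SpecialLinearGroup (Fin n) F) :
    ((cj g u : Matrix.SpecialLinearGroup (Fin n) F) : Matrix (Fin n) (Fin n) F) =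
      (g : Matrix (Fin n) (Fin n) F) * u.1 * ((g⁻¹ : GL (Fin n) F) : Matrix (Fin n) (Fin n) F) :=
  rfl

theorem toGL_cj (g : GL (Fin n) F) (u : Matrix.SpecialLinearGroup (Fin n) F) :
    Matrix.SpecialLinearGroup.toGL (cj g u) = g * Matrix.SpecialLinearGroup.toGL u * g⁻¹ := by
  apply Units.ext
  rfl

theorem cj_sub_one (g : GL (Fin n) F) (u : Matrix.SpecialLinearGroup (Fin n) F) :
    ((cj g u : Matrix.SpecialLinearGroup (Fin n) F) : Matrix (Fin n) (Fin n) F) - 1 =
      (g : Matrix (Fin n) (Fin n) F) * (u.1 - 1) * ((g⁻¹ : GL (Fin n) F) : Matrix (Fin n) (Fin n) F) := by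
  rw [cj_coe, mul_sub, sub_mul, mul_one, Units.mul_inv]

theorem regular_cj (g : GL (Fin n) F) (u : Matrix.SpecialLinearGroup (Fin n) F)
    (hnil : ((u : Matrix (Fin n) (Fin n) F) - 1) ^ n = 0)
    (hreg : ((u : Matrix (Fin n) (Fin n) F) - 1).rank = n - 1) :
    (((cj g u : Matrix.SpecialLinearGroup (Fin n) F) : Matrix (Fin n) (Fin n) F) - 1) ^ n = 0 ∧
    (((cj g u : Matrix.SpecialLinearGroup (Fin n) F) : Matrix (Fin n) (Fin n) F) - 1).rank = n - 1 := by
  rw [cj_sub_one]
  constructor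
  · rw [Units.conj_pow, hnil, mul_zero, zero_mul]
  · rw [Matrix.rank_mul_eq_left_of_isUnit_det _ _ (Matrix.isUnits_det_units g⁻¹),
      Matrix.rank_mul_eq_right_of_isUnit_det _ _ (Matrix.isUnits_det_units g), hreg]

/-- the main criterion -/
theorem isConj_cj_iff (hn : 1 ≤ n) (u0 : Matrix.SpecialLinearGroup (Fin n) F)
    (hnil : ((u0 : Matrix (Fin n) (Fin n) F) - 1) ^ n = 0)
    (hreg : ((u0 : Matrix (Fin n) (Fin n) F) - 1).rank = n - 1) (g h : GL (Fin n) F) :
    IsConj (cj g u0) (cj h u0) ↔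
      ∃ a : Fˣ, Matrix.GeneralLinearGroup.det g = Matrix.GeneralLinearGroup.det h * a ^ n := by
  set U0 : GL (Fin n) F := Matrix.SpecialLinearGroup.toGL u0 with hU0
  set N : Matrix (Fin n) (Fin n) F := (u0 : Matrix (Fin n) (Fin n) F) - 1 with hN
  constructor
  · intro hc
    obtain ⟨s, hs⟩ := isConj_iff.mp hc
    have hs' : s * cj g u0 = cj h u0 * s := mul_inv_eq_iff_eq_mul.mp hs
    have hs2 := congrArg Matrix.SpecialLinearGroup.toGL hs'
    rw [map_mul, map_mul, toGL_cj, toGL_cj] at hs2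
    set S' : GL (Fin n) F := Matrix.SpecialLinearGroup.toGL s with hS'
    set z : GL (Fin n) F := h⁻¹ * S' * g with hz
    have hcomm : z * U0 = U0 * z := by
      calc z * U0 = h⁻¹ * (S' * (g * U0 * g⁻¹)) * g := by rw [hz]; group
        _ = h⁻¹ * (h * U0 * h⁻¹ * S') * g := by rw [hs2]
        _ = U0 * z := by rw [hz]; group
    have hcomm' : Commute (z : Matrix (Fin n) (Fin n) F) N := by
      have h1 : (z : Matrix (Fin n) (Fin n) F) * u0.1 = u0.1 * z := by
        have := congrArg (fun x : GL (Fin n) F => (x : Matrix (Fin n) (Fin n) F)) hcomm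
        exact this
      show (z : Matrix (Fin n) (Fin n) F) * N = N * z
      rw [hN, mul_sub, sub_mul, h1, mul_one, one_mul]
    obtain ⟨v, hv⟩ := exists_cyclic hn N hnil hreg
    obtain ⟨a, ha⟩ := commutant_eq N hnil v hv _ hcomm'
    obtain ⟨K, hK, hsplit⟩ := phi_split N hn a
    have hnilNK : IsNilpotent (N * K) := ⟨n, by rw [hK.mul_pow, hnil, zero_mul]⟩
    have hdet : (z : Matrix (Fin n) (Fin n) F).det = a ⟨0, hn⟩ ^ n := by
      rw [ha, hsplit, det_smul_one_add_nilpotent _ _ hnilNK]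
    have ha0 : a ⟨0, hn⟩ ≠ 0 := by
      rw [← phi_isUnit_iff N hnil hn a, ← ha]
      exact Units.isUnit _
    refine ⟨Units.mk0 _ ha0, ?_⟩
    have hdz : Matrix.GeneralLinearGroup.det z = (Units.mk0 _ ha0) ^ n := by
      apply Units.ext
      rw [Units.val_pow_eq_pow_val, Units.val_mk0]
      exact hdet
    rw [← hdz, hz, map_mul, map_mul, map_inv, hS', Matrix.SpecialLinearGroup.coeToGL_det, mul_one,
      mul_inv_cancel_left]
  · rintro ⟨a, ha⟩
    -- scalar matrix
    set z : GL (Fin n) F :=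
      Units.map ((algebraMap F (Matrix (Fin n) (Fin n) F)) : F →* Matrix (Fin n) (Fin n) F) a with hz
    have hzc : ∀ x : GL (Fin n) F, z * x = x * z := by
      intro x
      apply Units.ext
      rw [Units.val_mul, Units.val_mul]
      exact (Algebra.commutes (a : F) (x : Matrix (Fin n) (Fin n) F))
    have hzdet : Matrix.GeneralLinearGroup.det z = a ^ n := by
      apply Units.ext
      show ((algebraMap F (Matrix (Fin n) (Fin n) F)) (a : F)).det = _
      rw [Algebra.algebraMap_eq_smul_one, Matrix.det_smul, Matrix.det_one, mul_one,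
        Fintype.card_fin, ← Units.val_pow_eq_pow_val]
    set s : GL (Fin n) F := h * z * g⁻¹ with hs
    have hsdet : (s : Matrix (Fin n) (Fin n) F).det = 1 := by
      have : Matrix.GeneralLinearGroup.det s = 1 := by
        rw [hs, map_mul, map_mul, map_inv, hzdet, ha, mul_inv_cancel]
      have := congrArg Units.val this
      exact this
    obtain ⟨sSL, hsSL⟩ : ∃ sSL : Matrix.SpecialLinearGroup (Fin n) F,
        Matrix.SpecialLinearGroup.toGL sSL = s := ⟨⟨s.1, hsdet⟩, Units.ext rfl⟩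
    rw [isConj_iff]
    refine ⟨sSL, ?_⟩
    apply Matrix.SpecialLinearGroup.toGL_injective
    rw [map_mul, map_mul, map_inv, toGL_cj, toGL_cj, hsSL, hs]
    calc h * z * g⁻¹ * (g * U0 * g⁻¹) * (h * z * g⁻¹)⁻¹ = h * (z * U0) * z⁻¹ * h⁻¹ := by group
      _ = h * (U0 * z) * z⁻¹ * h⁻¹ := by rw [hzc]
      _ = h * U0 * h⁻¹ := by group

end conj

section final
variable {F : Type*} [Field F] {m : ℕ}

/-- a section of the determinant -/
def dg (m : ℕ) (c : Fˣ) : GL (Fin (m + 1)) F :=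
  Matrix.GeneralLinearGroup.mkOfDetNeZero
    (Matrix.diagonal (Fin.cons (c : F) 1 : Fin (m + 1) → F)) (by
      rw [Matrix.det_diagonal, Fin.prod_univ_succ]
      simp)

theorem det_dg (c : Fˣ) : Matrix.GeneralLinearGroup.det (dg m c) = c := by
  apply Units.ext
  show (Matrix.diagonal (Fin.cons (c : F) 1 : Fin (m + 1) → F)).det = c
  rw [Matrix.det_diagonal, Fin.prod_univ_succ]
  simp

end final

theorem result {F : Type*} [Field F] [Fintype F] {q : ℕ} (hF : Fintype.card F = q) {n : ℕ} (hn : 2 ≤ n) : Nat.card {C : ConjClasses (Matrix.SpecialLinearGroup (Fin n) F) // ∃ u : Matrix.SpecialLinearGroup (Fin n) F, ConjClasses.mk u = C ∧ ((u : Matrix (Fin n) (Fin n) F) - 1) ^ n = 0 ∧ ((u : Matrix (Fin n) (Fin n) F) - 1).rank = n - 1} = Nat.gcd n (q - 1) := by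
  classical
  obtain ⟨m, rfl⟩ : ∃ m, n = m + 1 := ⟨n - 1, by omega⟩
  have hS1 : (1 + shiftM F m).det = 1 := by
    have := det_smul_one_add_nilpotent (1 : F) (shiftM F m) ⟨m + 1, shiftM_pow⟩
    rwa [one_smul, one_pow] at this
  obtain ⟨u0, hu0⟩ : ∃ u0 : Matrix.SpecialLinearGroup (Fin (m + 1)) F,
      (u0 : Matrix (Fin (m + 1)) (Fin (m + 1)) F) = 1 + shiftM F m := ⟨⟨_, hS1⟩, rfl⟩
  have hu0sub : (u0 : Matrix (Fin (m + 1)) (Fin (m + 1)) F) - 1 = shiftM F m := by
    rw [hu0, add_sub_cancel_left]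
  have hnil0 : ((u0 : Matrix (Fin (m + 1)) (Fin (m + 1)) F) - 1) ^ (m + 1) = 0 := by
    rw [hu0sub]; exact shiftM_pow
  have hreg0 : ((u0 : Matrix (Fin (m + 1)) (Fin (m + 1)) F) - 1).rank = m + 1 - 1 := by
    rw [hu0sub, shiftM_rank]; omega
  have hconj : ∀ u : Matrix.SpecialLinearGroup (Fin (m + 1)) F,
      ((u : Matrix (Fin (m + 1)) (Fin (m + 1)) F) - 1) ^ (m + 1) = 0 →
      ((u : Matrix (Fin (m + 1)) (Fin (m + 1)) F) - 1).rank = m + 1 - 1 →
      ∃ g : GL (Fin (m + 1)) F, u = cj g u0 := by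
    intro u hnil hreg
    obtain ⟨g, hg⟩ := exists_conj_shift _ hnil hreg
    refine ⟨g, ?_⟩
    apply Subtype.ext
    rw [cj_coe]
    show (u : Matrix (Fin (m + 1)) (Fin (m + 1)) F) =
      (g : Matrix (Fin (m + 1)) (Fin (m + 1)) F) * (u0 : Matrix (Fin (m + 1)) (Fin (m + 1)) F) *
        ((g⁻¹ : GL (Fin (m + 1)) F) : Matrix (Fin (m + 1)) (Fin (m + 1)) F)
    rw [hu0, mul_add, mul_one, ← hg, add_mul, Units.mul_inv, mul_assoc, Units.mul_inv, mul_one,
      add_sub_cancel]
  set Pn : Subgroup Fˣ := (powMonoidHom (m + 1) : Fˣ →* Fˣ).range with hPn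
  let fT : Fˣ → {C : ConjClasses (Matrix.SpecialLinearGroup (Fin (m + 1)) F) // ∃ u : Matrix.SpecialLinearGroup (Fin (m + 1)) F, ConjClasses.mk u = C ∧ ((u : Matrix (Fin (m + 1)) (Fin (m + 1)) F) - 1) ^ (m + 1) = 0 ∧ ((u : Matrix (Fin (m + 1)) (Fin (m + 1)) F) - 1).rank = m + 1 - 1} :=
    fun c => ⟨ConjClasses.mk (cj (dg m c) u0), cj (dg m c) u0, rfl, regular_cj _ _ hnil0 hreg0⟩
  have hfT : ∀ c c' : Fˣ, fT c = fT c' ↔ c⁻¹ * c' ∈ Pn := by
    intro c c'
    rw [Subtype.ext_iff]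
    show ConjClasses.mk (cj (dg m c) u0) = ConjClasses.mk (cj (dg m c') u0) ↔ _
    rw [ConjClasses.mk_eq_mk_iff_isConj, isConj_cj_iff (by omega) u0 hnil0 hreg0, det_dg, det_dg]
    constructor
    · rintro ⟨a, ha⟩
      refine ⟨a⁻¹, ?_⟩
      rw [powMonoidHom_apply, ha, inv_pow, _root_.mul_inv_rev, inv_mul_cancel_right]
    · rintro ⟨a, ha⟩
      rw [powMonoidHom_apply] at ha
      refine ⟨a⁻¹, ?_⟩
      rw [inv_pow, ha, _root_.mul_inv_rev, inv_inv, mul_inv_cancel_left]
  let φ : Fˣ ⧸ Pn → {C : ConjClasses (Matrix.SpecialLinearGroup (Fin (m + 1)) F) // ∃ u : Matrix.SpecialLinearGroup (Fin (m + 1)) F, ConjClasses.mk u = C ∧ ((u : Matrix (Fin (m + 1)) (Fin (m + 1)) F) - 1) ^ (m + 1) = 0 ∧ ((u : Matrix (Fin (m + 1)) (Fin (m + 1)) F) - 1).rank = m + 1 - 1} :=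
    Quotient.lift (s := QuotientGroup.leftRel Pn) fT
      (fun a b hab => (hfT a b).mpr (QuotientGroup.leftRel_apply.mp hab))
  have hφ : Function.Bijective φ := by
    constructor
    · intro x y
      refine QuotientGroup.induction_on x ?_
      intro a
      refine QuotientGroup.induction_on y ?_
      intro b hab
      have h1 : fT a = fT b := hab
      exact QuotientGroup.eq.mpr ((hfT a b).mp h1)
    · rintro ⟨C, u, rfl, hnil, hreg⟩
      obtain ⟨g, rfl⟩ := hconj u hnil hreg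
      refine ⟨QuotientGroup.mk (Matrix.GeneralLinearGroup.det g), ?_⟩
      show fT _ = _
      apply Subtype.ext
      show ConjClasses.mk _ = ConjClasses.mk _
      rw [ConjClasses.mk_eq_mk_iff_isConj, isConj_cj_iff (by omega) u0 hnil0 hreg0, det_dg]
      exact ⟨1, by rw [one_pow, mul_one]⟩
  rw [← Nat.card_congr (Equiv.ofBijective φ hφ)]
  change Pn.index = _
  rw [hPn, IsCyclic.index_powMonoidHom_range, Nat.card_eq_fintype_card, Fintype.card_units, hF,
    Nat.gcd_comm]

end Cfsg.Agent.S2578
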