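import Cfsg.Statements.S2469
import Cfsg.Agent.Lib.H12.PSpF

set_option autoImplicit false
open Cfsg

namespace Cfsg.Agent.S2469

/-- Adjacency of two odd primes in the prime graph of PSp(2n,q): let F be a finite field of characteristic p with q elements, n ≥ 2 with PSp(2n,F) simple, and let r ≠ s be odd primes different from p dividing the order of PSp(2n,F). Let k, l be the multiplicative orders of q modulo r and s, put η(m) = m for odd m and η(m) = m/2 for even m, and suppose η(k) ≤ η(l). Then PSp(2n,F) has NO element of order r·s if and only if η(k) + η(l) > n and l/k is not an odd integer. -/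
theorem result {F : Type*} [Field F] [Fintype F] (p : ℕ) [Fact p.Prime] [CharP F p] (n : ℕ) (hn : 2 ≤ n) (hsmall : n = 2 → 3 ≤ Fintype.card F)
    (r s : ℕ) (hr : r.Prime) (hs : s.Prime) (hr2 : r ≠ 2) (hs2 : s ≠ 2) (hrp : r ≠ p) (hsp : s ≠ p) (hrs : r ≠ s)
    (hrG : r ∣ Nat.card (Cfsg.PSp n F)) (hsG : s ∣ Nat.card (Cfsg.PSp n F))
    (k l ηk ηl : ℕ) (hk : k = orderOf ((Fintype.card F : ℕ) : ZMod r)) (hl : l = orderOf ((Fintype.card F : ℕ) : ZMod s))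
    (hηk : (Odd k ∧ ηk = k) ∨ (Even k ∧ 2 * ηk = k)) (hηl : (Odd l ∧ ηl = l) ∨ (Even l ∧ 2 * ηl = l)) (hkl : ηk ≤ ηl) :
    (r * s ∉ Set.range (orderOf : Cfsg.PSp n F → ℕ)) ↔ (n < ηk + ηl ∧ ¬ ∃ t : ℕ, Odd t ∧ l = k * t) := by
  classical
  haveI : Fact r.Prime := ⟨hr⟩
  haveI : Fact s.Prime := ⟨hs⟩
  have hηk' : Cfsg.Agent.Lib.H12.PSpG.IsEta k ηk := hηk
  have hηl' : Cfsg.Agent.Lib.H12.PSpG.IsEta l ηl := hηl
  have hn1 : 1 ≤ n := by omega
  have hln : ηl ≤ n :=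
    Cfsg.Agent.Lib.H12.PSpG.eta_le_of_hasOrd p n s hsp
      (Cfsg.Agent.Lib.H12.PSpG.hasOrd_of_dvd_card_psp n s hsG) hl hηl'
  constructor
  · intro hno
    by_contra hcon
    apply hno
    have hcase : ηk + ηl ≤ n ∨ ∃ t, Odd t ∧ l = k * t := by
      by_cases h1 : ηk + ηl ≤ n
      · left; exact h1
      · right
        by_contra h2
        exact hcon ⟨by omega, h2⟩
    have h1 : Cfsg.Agent.Lib.H12.PSpG.HasOrd F n (r * s) :=
      Cfsg.Agent.Lib.H12.PSpG.hasOrd_rs p n r s hrp hsp hrs hk hl hηk' hηl' hln hcase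
    have hd : Odd (r * s) ∨ (2 : F) = 0 :=
      Or.inl ((hr.odd_of_ne_two hr2).mul (hs.odd_of_ne_two hs2))
    obtain ⟨x, hx⟩ := Cfsg.Agent.Lib.H12.PSpG.psp_of_hasOrd n hn1 _ h1 hd
    exact ⟨x, hx⟩
  · rintro ⟨hlt, hnot⟩ hmem
    obtain ⟨x, hx⟩ := hmem
    have h1 := Cfsg.Agent.Lib.H12.PSpG.hasOrd_of_psp n x
    rw [hx] at h1
    rcases Cfsg.Agent.Lib.H12.PSpG.no_rs p n r s hr2 hs2 hrp hsp hk hl hηk' hηl' hkl h1 with h2 | h2
    · omega
    · exact hnot h2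

end Cfsg.Agent.S2469
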