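import Cfsg.Statements.S2472
import Cfsg.Agent.Lib.H12.PSpF

set_option autoImplicit false
open Cfsg

namespace Cfsg.Agent.S2472

/-- Adjacency of a prime and the characteristic in the prime graph of PSp(2n,q): let F be a finite field of characteristic p with q elements, n ≥ 2 with PSp(2n,F) simple, and let r ≠ p be an odd prime dividing the order of PSp(2n,F), with k the multiplicative order of q modulo r and η(k) = k for odd k, k/2 for even k. Then PSp(2n,F) has NO element of order r·p if and only if η(k) > n − 1. -/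
theorem result {F : Type*} [Field F] [Fintype F] (p : ℕ) [Fact p.Prime] [CharP F p] (n : ℕ) (hn : 2 ≤ n) (hsmall : n = 2 → 3 ≤ Fintype.card F)
    (r : ℕ) (hr : r.Prime) (hr2 : r ≠ 2) (hrp : r ≠ p) (hrG : r ∣ Nat.card (Cfsg.PSp n F))
    (k ηk : ℕ) (hk : k = orderOf ((Fintype.card F : ℕ) : ZMod r)) (hηk : (Odd k ∧ ηk = k) ∨ (Even k ∧ 2 * ηk = k)) :
    (r * p ∉ Set.range (orderOf : Cfsg.PSp n F → ℕ)) ↔ n - 1 < ηk := by
  classical
  haveI : Fact r.Prime := ⟨hr⟩
  have hη : Cfsg.Agent.Lib.H12.PSpG.IsEta k ηk := hηk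
  have hn1 : 1 ≤ n := by omega
  constructor
  · intro hno
    by_contra hcon
    push Not at hcon
    apply hno
    have h1 : Cfsg.Agent.Lib.H12.PSpG.HasOrd F n (r * p) :=
      Cfsg.Agent.Lib.H12.PSpG.hasOrd_rp p n r hrp hk hη (by omega)
    have hd : Odd (r * p) ∨ (2 : F) = 0 := by
      by_cases hp2 : p = 2
      · right
        have := CharP.cast_eq_zero F p
        rw [hp2] at this
        exact_mod_cast this
      · left
        exact (hr.odd_of_ne_two hr2).mul ((Fact.out : p.Prime).odd_of_ne_two hp2)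
    obtain ⟨x, hx⟩ := Cfsg.Agent.Lib.H12.PSpG.psp_of_hasOrd n hn1 _ h1 hd
    exact ⟨x, hx⟩
  · intro hlt hmem
    obtain ⟨x, hx⟩ := hmem
    have h1 := Cfsg.Agent.Lib.H12.PSpG.hasOrd_of_psp n x
    rw [hx] at h1
    exact Cfsg.Agent.Lib.H12.PSpG.no_rp p n r hr2 hrp hk hη (by omega) h1

end Cfsg.Agent.S2472
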