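-- Statement S2430
import Cfsg.Statements.S2430
import Cfsg.Agent.Lib.H12.SL2RegCard
import Cfsg.Agent.Lib.H12.Unipotent
import Cfsg.Agent.Lib.H12.CardSL

set_option autoImplicit false
open Cfsg

namespace Cfsg.Agent.S2430

open Matrix Cfsg.Agent.Lib.H12

variable {F : Type*} [Field F]

local notation "SL2" => Matrix.SpecialLinearGroup (Fin 2) F
local notation "M2" => Matrix (Fin 2) (Fin 2) F

/-- an element of trace two has order dividing `q` -/
theorem pow_card_eq_one_of_trace_two [Fintype F] (g : SL2) (htr : (g : M2).trace = 2) :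
    g ^ Fintype.card F = 1 := by
  let p := ringChar F
  have : CharP F p := ringChar.charP F
  obtain ⟨n, hp, hq⟩ := FiniteField.card F p
  have : Fact p.Prime := ⟨hp⟩
  have hN : ((g : M2) - 1) ^ 2 = 0 := by
    rw [sq, sub_mul, mul_sub, mul_sub, mul_one, one_mul, mul_one, m2_cayley _ g.det_coe, htr]
    rw [two_smul]
    abel
  have h2 : 2 ≤ p ^ (n : ℕ) := by
    calc 2 ≤ p := hp.two_le
      _ = p ^ 1 := (pow_one p).symm
      _ ≤ p ^ (n : ℕ) := Nat.pow_le_pow_right hp.pos n.pos
  have := pow_char_pow_eq_one_of_sub_one_pow p (g : M2) 2 n hN h2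
  apply Subtype.ext
  rw [Matrix.SpecialLinearGroup.coe_pow, hq, this, Matrix.SpecialLinearGroup.coe_one]

theorem trace_mul_self (g : SL2) : ((g * g : SL2) : M2).trace = (g : M2).trace ^ 2 - 2 := by
  rw [Matrix.SpecialLinearGroup.coe_mul, m2_cayley _ g.det_coe, Matrix.trace_sub, Matrix.trace_smul,
    Matrix.trace_one]
  simp
  ring

/-- elements of trace `±2` have order dividing `2q` -/
theorem pow_two_card_eq_one_of_trace_sq [Fintype F] (g : SL2) (htr : (g : M2).trace ^ 2 = 4) :
    g ^ (2 * Fintype.card F) = 1 := by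
  rw [pow_mul, sq]
  apply pow_card_eq_one_of_trace_two
  rw [trace_mul_self, htr]
  norm_num

theorem normalizer_le_normalizer_centralizer {G : Type*} [Group G] (P : Subgroup G) :
    Subgroup.normalizer (P : Set G) ≤ Subgroup.normalizer (Subgroup.centralizer (P : Set G) : Set G) := by
  have key : ∀ g : G, g ∈ Subgroup.normalizer (P : Set G) → ∀ y ∈ Subgroup.centralizer (P : Set G),
      g * y * g⁻¹ ∈ Subgroup.centralizer (P : Set G) := by
    intro g hg y hy
    rw [Subgroup.mem_centralizer_iff]
    intro p hp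
    have hp' : g⁻¹ * p * g ∈ P := by
      have := (Subgroup.mem_normalizer_iff.mp (Subgroup.inv_mem _ hg) p).mp hp
      simpa using this
    have hc := Subgroup.mem_centralizer_iff.mp hy _ hp'
    calc p * (g * y * g⁻¹) = g * ((g⁻¹ * p * g) * y) * g⁻¹ := by group
      _ = g * (y * (g⁻¹ * p * g)) * g⁻¹ := by rw [hc]
      _ = g * y * g⁻¹ * p := by group
  intro g hg
  rw [Subgroup.mem_normalizer_iff]
  intro y
  constructor
  · exact key g hg y
  · intro hy
    have := key g⁻¹ (Subgroup.inv_mem _ hg) _ hy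
    have e : g⁻¹ * (g * y * g⁻¹) * g⁻¹⁻¹ = y := by group
    rwa [e] at this

/-- the key structural statement -/
theorem main [Fintype F] (hodd : Odd (Fintype.card F)) (ℓ : ℕ) [Fact ℓ.Prime] (hℓ : ℓ ≠ 2)
    (P : Sylow ℓ SL2) (hdvd : ℓ ∣ Nat.card SL2) (hq : ¬ ℓ ∣ Fintype.card F) :
    ∃ x : SL2, (x : M2).trace ^ 2 ≠ 4 ∧
      Subgroup.centralizer ((P : Subgroup SL2) : Set SL2) = Subgroup.centralizer ({x} : Set SL2) ∧
      (P : Subgroup SL2) ≤ Subgroup.centralizer ({x} : Set SL2) ∧
      Subgroup.normalizer ((P : Subgroup SL2) : Set SL2) =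
        Subgroup.normalizer (Subgroup.centralizer ({x} : Set SL2) : Set SL2) := by
  have hℓp : ℓ.Prime := Fact.out
  have h2 : (2 : F) ≠ 0 := two_ne_zero_of_odd hodd
  have hPne : (P : Subgroup SL2) ≠ ⊥ := P.ne_bot_of_dvd_card hdvd
  have : Nontrivial (P : Subgroup SL2) := (Subgroup.nontrivial_iff_ne_bot _).mpr hPne
  have : Nontrivial (Subgroup.center (P : Subgroup SL2)) := IsPGroup.center_nontrivial P.isPGroup'
  obtain ⟨z, hz⟩ := exists_ne (1 : Subgroup.center (P : Subgroup SL2))
  set x : SL2 := ((z : (P : Subgroup SL2)) : SL2) with hx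
  have hx1 : x ≠ 1 := by
    intro h
    apply hz
    apply Subtype.ext
    apply Subtype.ext
    exact h
  obtain ⟨k, hk⟩ := P.isPGroup' (z : (P : Subgroup SL2))
  have hxk : x ^ ℓ ^ k = 1 := by
    have := congrArg (fun y : (P : Subgroup SL2) => (y : SL2)) hk
    simpa using this
  have ht : (x : M2).trace ^ 2 ≠ 4 := by
    intro h4
    have h1 := pow_two_card_eq_one_of_trace_sq x h4
    have hd1 := orderOf_dvd_of_pow_eq_one h1
    have hd2 := orderOf_dvd_of_pow_eq_one hxk
    have hcop : Nat.Coprime (ℓ ^ k) (2 * Fintype.card F) := by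
      apply Nat.Coprime.pow_left
      apply Nat.Coprime.mul_right
      · exact (Nat.coprime_primes hℓp Nat.prime_two).mpr hℓ
      · exact (Nat.Prime.coprime_iff_not_dvd hℓp).mpr hq
    have := Nat.eq_one_of_dvd_coprimes hcop hd2 hd1
    exact hx1 (orderOf_eq_one_iff.mp this)
  have hxns : NonScalar (x : M2) := nonScalar_of_trace_sq_ne x ht
  have hPle : (P : Subgroup SL2) ≤ Subgroup.centralizer ({x} : Set SL2) := by
    intro p hp
    rw [Subgroup.mem_centralizer_singleton_iff]
    have := Subgroup.mem_center_iff.mp z.2 ⟨p, hp⟩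
    have := congrArg (fun y : (P : Subgroup SL2) => (y : SL2)) this
    simpa using this
  have hxP : x ∈ (P : Subgroup SL2) := (z : (P : Subgroup SL2)).2
  have hC : Subgroup.centralizer ((P : Subgroup SL2) : Set SL2) = Subgroup.centralizer ({x} : Set SL2) := by
    apply le_antisymm
    · intro g hg
      rw [Subgroup.mem_centralizer_singleton_iff]
      exact (Subgroup.mem_centralizer_iff.mp hg x hxP).symm
    · intro g hg
      rw [Subgroup.mem_centralizer_iff]
      intro p hp
      exact centralizer_comm hxns (hPle hp) hg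
  refine ⟨x, ht, hC, hPle, ?_⟩
  apply le_antisymm
  · rw [← hC]
    exact normalizer_le_normalizer_centralizer _
  · obtain ⟨w, hw⟩ := exists_inverting hodd ht
    have hD := dicData_of_inverting h2 ht hw
    have hCN : Subgroup.centralizer ({x} : Set SL2) ≤ Subgroup.normalizer ((P : Subgroup SL2) : Set SL2) := by
      rw [← hC]
      intro g hg
      rw [Subgroup.mem_normalizer_iff]
      intro p
      have key : ∀ p ∈ (P : Subgroup SL2), g * p * g⁻¹ = p := by
        intro p hp
        have := Subgroup.mem_centralizer_iff.mp hg p hp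
        rw [← this]
        group
      constructor
      · intro hp
        rw [key p hp]
        exact hp
      · intro hp
        have h1 := Subgroup.mem_centralizer_iff.mp hg _ hp
        have h3 : p = g * p * g⁻¹ := by
          calc p = g⁻¹ * ((g * p * g⁻¹) * g) := by group
            _ = g⁻¹ * (g * (g * p * g⁻¹)) := by rw [h1]
            _ = g * p * g⁻¹ := by group
        rw [h3]
        exact hp
    have hwN : w ∈ Subgroup.normalizer ((P : Subgroup SL2) : Set SL2) := by
      rw [Subgroup.mem_normalizer_iff]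
      intro p
      constructor
      · intro hp
        rw [hD.inv p (hPle hp)]
        exact Subgroup.inv_mem _ hp
      · intro hp
        have h1 := inverts_centralizer hxns (inverting_inv hw) (hPle hp)
        have h3 : p = (w * p * w⁻¹)⁻¹ := by
          rw [← h1]
          group
        rw [h3]
        exact Subgroup.inv_mem _ hp
    intro g hg
    rcases hD.idx g hg with h | h
    · exact hCN h
    · have : g = w * (w⁻¹ * g) := by group
      rw [this]
      exact Subgroup.mul_mem _ hwN (hCN h)

theorem dvd_card_SL2 [Fintype F] (ℓ : ℕ) (h : ℓ ∣ Fintype.card F - 1 ∨ ℓ ∣ Fintype.card F + 1) :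
    ℓ ∣ Nat.card SL2 := by
  rw [card_SL2]
  have hq : 2 ≤ Fintype.card F := Fintype.one_lt_card
  have h3 : Fintype.card F ^ 2 - 1 = (Fintype.card F - 1) * (Fintype.card F + 1) := by
    obtain ⟨k, hk⟩ : ∃ k, Fintype.card F = k + 1 := ⟨Fintype.card F - 1, by omega⟩
    rw [hk]
    simp only [Nat.add_sub_cancel]
    rw [Nat.sub_eq_iff_eq_add (Nat.one_le_pow 2 (k + 1) (by omega))]
    ring
  rw [h3]
  rcases h with h | h
  · exact Dvd.dvd.mul_left (Dvd.dvd.mul_right h _) _
  · exact Dvd.dvd.mul_left (Dvd.dvd.mul_left h _) _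

/-- Let F be a finite field with q elements, q odd, ℓ an odd prime, and P a Sylow ℓ-subgroup of SL₂ over F. If ℓ divides q − 1, the centraliser of P is cyclic of order q − 1 (a split torus) and the normaliser of P has order 2(q − 1); if ℓ divides q + 1, the centraliser of P is cyclic of order q + 1 (a non-split torus) and the normaliser of P has order 2(q + 1). -/
theorem result {F : Type*} [Field F] [Fintype F] (hodd : Odd (Fintype.card F)) (ℓ : ℕ) [Fact ℓ.Prime] (hℓ : ℓ ≠ 2)
    (P : Sylow ℓ (Matrix.SpecialLinearGroup (Fin 2) F)) :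
    (ℓ ∣ Fintype.card F - 1 →
      Nat.card (Subgroup.centralizer ((P : Subgroup (Matrix.SpecialLinearGroup (Fin 2) F)) : Set (Matrix.SpecialLinearGroup (Fin 2) F))) = Fintype.card F - 1 ∧
      IsCyclic (Subgroup.centralizer ((P : Subgroup (Matrix.SpecialLinearGroup (Fin 2) F)) : Set (Matrix.SpecialLinearGroup (Fin 2) F))) ∧
      Nat.card (Subgroup.normalizer ((P : Subgroup (Matrix.SpecialLinearGroup (Fin 2) F)) : Set (Matrix.SpecialLinearGroup (Fin 2) F))) = 2 * (Fintype.card F - 1)) ∧
    (ℓ ∣ Fintype.card F + 1 →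
      Nat.card (Subgroup.centralizer ((P : Subgroup (Matrix.SpecialLinearGroup (Fin 2) F)) : Set (Matrix.SpecialLinearGroup (Fin 2) F))) = Fintype.card F + 1 ∧
      IsCyclic (Subgroup.centralizer ((P : Subgroup (Matrix.SpecialLinearGroup (Fin 2) F)) : Set (Matrix.SpecialLinearGroup (Fin 2) F))) ∧
      Nat.card (Subgroup.normalizer ((P : Subgroup (Matrix.SpecialLinearGroup (Fin 2) F)) : Set (Matrix.SpecialLinearGroup (Fin 2) F))) = 2 * (Fintype.card F + 1)) := by
  have hℓp : ℓ.Prime := Fact.out
  have hq2 : 2 ≤ Fintype.card F := Fintype.one_lt_card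
  have hℓ3 : 3 ≤ ℓ := by
    have := hℓp.two_le
    omega
  -- common part
  have common : (ℓ ∣ Fintype.card F - 1 ∨ ℓ ∣ Fintype.card F + 1) →
      ∃ x : Matrix.SpecialLinearGroup (Fin 2) F, (x : Matrix (Fin 2) (Fin 2) F).trace ^ 2 ≠ 4 ∧
      Subgroup.centralizer ((P : Subgroup (Matrix.SpecialLinearGroup (Fin 2) F)) : Set (Matrix.SpecialLinearGroup (Fin 2) F)) = Subgroup.centralizer ({x} : Set (Matrix.SpecialLinearGroup (Fin 2) F)) ∧
      Subgroup.normalizer ((P : Subgroup (Matrix.SpecialLinearGroup (Fin 2) F)) : Set (Matrix.SpecialLinearGroup (Fin 2) F)) =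
        Subgroup.normalizer (Subgroup.centralizer ({x} : Set (Matrix.SpecialLinearGroup (Fin 2) F)) : Set (Matrix.SpecialLinearGroup (Fin 2) F)) ∧
      ℓ ∣ Nat.card (Subgroup.centralizer ({x} : Set (Matrix.SpecialLinearGroup (Fin 2) F))) := by
    intro h
    have hdvd := dvd_card_SL2 ℓ h
    have hq : ¬ ℓ ∣ Fintype.card F := by
      intro hq
      rcases h with h | h
      · have := (Nat.dvd_sub hq h)
        have e : Fintype.card F - (Fintype.card F - 1) = 1 := by omega
        rw [e] at this
        have := Nat.le_of_dvd (by norm_num) this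
        omega
      · have := (Nat.dvd_sub h hq)
        have e : Fintype.card F + 1 - Fintype.card F = 1 := by omega
        rw [e] at this
        have := Nat.le_of_dvd (by norm_num) this
        omega
    obtain ⟨x, ht, hC, hPle, hN⟩ := main hodd ℓ hℓ P hdvd hq
    refine ⟨x, ht, hC, hN, ?_⟩
    have hPne : (P : Subgroup (Matrix.SpecialLinearGroup (Fin 2) F)) ≠ ⊥ := P.ne_bot_of_dvd_card hdvd
    have h1 : ℓ ∣ Nat.card (P : Subgroup (Matrix.SpecialLinearGroup (Fin 2) F)) := by
      rcases P.isPGroup'.card_eq_or_dvd with h1 | h1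
      · exfalso
        apply hPne
        exact Subgroup.card_eq_one.mp h1
      · exact h1
    exact h1.trans (Subgroup.card_dvd_of_le hPle)
  constructor
  · intro h
    obtain ⟨x, ht, hC, hN, hdv⟩ := common (Or.inl h)
    obtain ⟨hcyc, hsq, hnsq⟩ := regular_centralizer hodd x ht
    obtain ⟨hNc, -⟩ := classes_normalizer hodd ht
    have hcard : Nat.card (Subgroup.centralizer ({x} : Set (Matrix.SpecialLinearGroup (Fin 2) F))) = Fintype.card F - 1 := by
      by_cases hs : IsSquare ((x : Matrix (Fin 2) (Fin 2) F).trace ^ 2 - 4)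
      · exact hsq hs
      · exfalso
        rw [hnsq hs] at hdv
        have := Nat.dvd_sub hdv h
        have e : Fintype.card F + 1 - (Fintype.card F - 1) = 2 := by omega
        rw [e] at this
        have := Nat.le_of_dvd (by norm_num) this
        omega
    rw [hC, hN]
    exact ⟨hcard, hcyc, by rw [hNc, hcard]⟩
  · intro h
    obtain ⟨x, ht, hC, hN, hdv⟩ := common (Or.inr h)
    obtain ⟨hcyc, hsq, hnsq⟩ := regular_centralizer hodd x ht
    obtain ⟨hNc, -⟩ := classes_normalizer hodd ht
    have hcard : Nat.card (Subgroup.centralizer ({x} : Set (Matrix.SpecialLinearGroup (Fin 2) F))) = Fintype.card F + 1 := by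
      by_cases hs : IsSquare ((x : Matrix (Fin 2) (Fin 2) F).trace ^ 2 - 4)
      · exfalso
        rw [hsq hs] at hdv
        have := Nat.dvd_sub h hdv
        have e : Fintype.card F + 1 - (Fintype.card F - 1) = 2 := by omega
        rw [e] at this
        have := Nat.le_of_dvd (by norm_num) this
        omega
      · exact hnsq hs
    rw [hC, hN]
    exact ⟨hcard, hcyc, by rw [hNc, hcard]⟩

end Cfsg.Agent.S2430
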