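import Cfsg.Statements.S2622

set_option autoImplicit false
open Cfsg

namespace Cfsg.Agent.S2622

open Module LinearMap.BilinForm

section
variable {F V : Type*} [Field F] [Finite F] [CharP F 2] [AddCommGroup V] [Module F V]

theorem exists_unit_vec (B : LinearMap.BilinForm F V) (hna : ∃ v : V, B v v ≠ 0) : ∃ v : V, B v v = 1 := by
  obtain ⟨v, hv⟩ := hna
  obtain ⟨d, hd⟩ := isSquare_of_charTwo' (B v v)
  have hd0 : d ≠ 0 := by
    rintro rfl
    rw [mul_zero] at hd
    exact hv hd
  refine ⟨d⁻¹ • v, ?_⟩
  simp only [map_smul, LinearMap.smul_apply, smul_eq_mul, hd]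
  field_simp

theorem mem_orth_iff (B : LinearMap.BilinForm F V) (v w : V) :
    w ∈ B.orthogonal (F ∙ v) ↔ B v w = 0 := by
  rw [LinearMap.BilinForm.mem_orthogonal_iff]
  constructor
  · intro h
    exact h v (Submodule.mem_span_singleton_self v)
  · intro h n hn
    obtain ⟨c, rfl⟩ := Submodule.mem_span_singleton.mp hn
    show B (c • v) w = 0
    rw [map_smul, LinearMap.smul_apply, h, smul_zero]

variable [FiniteDimensional F V]

theorem exists_good_vec (B : LinearMap.BilinForm F V) (hS : B.IsSymm) (hB : B.Nondegenerate)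
    (hna : ∃ v : V, B v v ≠ 0) (hdim : 2 ≤ finrank F V) :
    ∃ v : V, B v v = 1 ∧ ∃ w ∈ B.orthogonal (F ∙ v), B w w ≠ 0 := by
  obtain ⟨v, hv⟩ := exists_unit_vec B hna
  have hv0 : B v v ≠ 0 := by rw [hv]; exact one_ne_zero
  set W := B.orthogonal (F ∙ v) with hW
  by_cases hex : ∃ w ∈ W, B w w ≠ 0
  · exact ⟨v, hv, hex⟩
  · push Not at hex
    have hcompl : IsCompl (F ∙ v) W := isCompl_span_singleton_orthogonal hv0
    have hfr := Submodule.finrank_add_eq_of_isCompl hcompl
    have hvne : v ≠ 0 := by
      rintro rfl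
      simp at hv0
    rw [finrank_span_singleton hvne] at hfr
    have hWpos : 0 < finrank F W := by omega
    obtain ⟨u, hu0⟩ : ∃ u : W, u ≠ 0 := by
      have := Module.finrank_pos_iff_exists_ne_zero.mp hWpos
      exact this
    have hnd := restrict_nondegenerate_orthogonal_spanSingleton B hB hS.isRefl hv0
    obtain ⟨w, hw⟩ : ∃ w : W, (B.restrict W) u w ≠ 0 := by
      by_contra h
      push Not at h
      exact hu0 (hnd.1 u h)
    have huw : B (u : V) (w : V) ≠ 0 := hw
    -- scale w
    set w' : V := (B (u : V) (w : V))⁻¹ • (w : V) with hw'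
    have hw'W : w' ∈ W := W.smul_mem _ w.2
    have huw' : B (u : V) w' = 1 := by
      rw [hw', map_smul, smul_eq_mul, inv_mul_cancel₀ huw]
    have hvu : B v (u : V) = 0 := (mem_orth_iff B v u).mp u.2
    have hvw : B v w' = 0 := (mem_orth_iff B v w').mp hw'W
    have huv : B (u : V) v = 0 := by rw [hS.eq]; exact hvu
    have hwv : B w' v = 0 := by rw [hS.eq]; exact hvw
    have huu : B (u : V) (u : V) = 0 := hex u u.2
    have hww : B w' w' = 0 := hex w' hw'W
    have h2 : (1 : F) + 1 = 0 := CharTwo.add_self_eq_zero 1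
    refine ⟨v + u, ?_, v + w', ?_, ?_⟩
    · simp only [map_add, LinearMap.add_apply, hv, hvu, huv, huu]
      ring
    · rw [mem_orth_iff]
      simp only [map_add, LinearMap.add_apply, hv, hvw, huv, huw']
      linear_combination h2
    · simp only [map_add, LinearMap.add_apply, hv, hvw, hwv, hww]
      simp

end

theorem main (n : ℕ) : ∀ {F V : Type*} [Field F] [Finite F] [CharP F 2] [AddCommGroup V] [Module F V]
    [FiniteDimensional F V] (_ : Module.finrank F V = n) (B : LinearMap.BilinForm F V) (_ : B.IsSymm)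
    (_ : B.Nondegenerate) (_ : ∃ v : V, B v v ≠ 0),
    ∃ b : Module.Basis (Fin n) F V, ∀ i j, B (b i) (b j) = if i = j then 1 else 0 := by
  induction n with
  | zero =>
    intro F V _ _ _ _ _ _ hV B hS hB hna
    obtain ⟨v, hv⟩ := hna
    have : v = 0 := (_root_.finrank_zero_iff_forall_zero.mp hV) v
    subst this
    simp at hv
  | succ d ih =>
    intro F V _ _ _ _ _ _ hV B hS hB hna
    -- choose v
    obtain ⟨v, hv, hgood⟩ : ∃ v : V, B v v = 1 ∧ (d = 0 ∨ ∃ w ∈ B.orthogonal (F ∙ v), B w w ≠ 0) := by
      by_cases hd : d = 0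
      · obtain ⟨v, hv⟩ := exists_unit_vec B hna
        exact ⟨v, hv, Or.inl hd⟩
      · obtain ⟨v, hv, h⟩ := exists_good_vec B hS hB hna (by omega)
        exact ⟨v, hv, Or.inr h⟩
    have hv0 : B v v ≠ 0 := by rw [hv]; exact one_ne_zero
    set W := B.orthogonal (F ∙ v) with hW
    have hcompl : IsCompl (F ∙ v) W := isCompl_span_singleton_orthogonal hv0
    have hfr := Submodule.finrank_add_eq_of_isCompl hcompl
    have hvne : v ≠ 0 := by
      rintro rfl
      simp at hv0
    rw [finrank_span_singleton hvne, hV] at hfr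
    have hWd : finrank F W = d := by omega
    have hnd := restrict_nondegenerate_orthogonal_spanSingleton B hB hS.isRefl hv0
    obtain ⟨v', hv'⟩ : ∃ b : Module.Basis (Fin d) F W, ∀ i j, B (b i : V) (b j : V) = if i = j then 1 else 0 := by
      rcases hgood with hd | ⟨w, hwW, hww⟩
      · subst hd
        exact ⟨_root_.basisOfFinrankZero hWd, fun i => i.elim0⟩
      · obtain ⟨b, hb⟩ := ih hWd (B.restrict W) (hS.restrict W) hnd ⟨⟨w, hwW⟩, hww⟩
        exact ⟨b, hb⟩
    let b : Module.Basis (Fin (d + 1)) F V :=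
      Module.Basis.mkFinCons v v'
        (by
          rintro c y hy hc
          rw [add_eq_zero_iff_neg_eq] at hc
          rw [← hc, Submodule.neg_mem_iff] at hy
          have := hcompl.disjoint
          rw [Submodule.disjoint_def] at this
          have := this (c • v) (Submodule.smul_mem _ _ <| Submodule.mem_span_singleton_self _) hy
          exact (smul_eq_zero.1 this).resolve_right hvne)
        (by
          intro y
          refine ⟨-B v y / B v v, ?_⟩
          rw [hW, mem_orth_iff]
          rw [map_add, map_smul, smul_eq_mul, div_mul_cancel₀ _ hv0, add_neg_cancel])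
    refine ⟨b, ?_⟩
    have hb : (b : Fin (d + 1) → V) = Fin.cons v ((↑) ∘ v') := Module.Basis.coe_mkFinCons _ _ _ _
    rw [hb]
    intro i j
    refine Fin.cases ?_ (fun i => ?_) i <;> refine Fin.cases ?_ (fun j => ?_) j <;>
      simp only [Fin.cons_zero, Fin.cons_succ, Function.comp_apply]
    · simpa using hv
    · have : B v (v' j : V) = 0 := (mem_orth_iff B v _).mp (v' j).2
      rw [this, if_neg (Fin.succ_ne_zero j).symm]
    · have : B v (v' i : V) = 0 := (mem_orth_iff B v _).mp (v' i).2
      rw [hS.eq, this, if_neg (Fin.succ_ne_zero i)]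
    · rw [hv' i j]
      simp only [Fin.succ_inj]

theorem result {F V : Type*} [Field F] [Finite F] [CharP F 2] [AddCommGroup V] [Module F V] [FiniteDimensional F V] {n : ℕ} (hV : Module.finrank F V = n) (B : LinearMap.BilinForm F V) (hS : B.IsSymm) (hB : B.Nondegenerate) (hna : ∃ v : V, B v v ≠ 0) : ∃ b : Module.Basis (Fin n) F V, ∀ i j, B (b i) (b j) = if i = j then 1 else 0 :=
  main n hV B hS hB hna

end Cfsg.Agent.S2622
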