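import Cfsg.Statements.S0760
-- import your own Cfsg.Agent.* helpers here

set_option autoImplicit false
open Cfsg

namespace Cfsg.Agent.S0760

open QuadraticMap Module

theorem polar_zero_of_singular {F V : Type*} [Field F] [AddCommGroup V] [Module F V]
    (Q : QuadraticForm F V) (W : Submodule F V) (h : ∀ w ∈ W, Q w = 0) :
    ∀ w ∈ W, ∀ w' ∈ W, polar Q w w' = 0 := by
  intro w hw w' hw'
  rw [polar, h _ (W.add_mem hw hw'), h w hw, h w' hw']
  simp

theorem le_of_maximal {F V : Type*} [Field F] [AddCommGroup V] [Module F V]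
    [FiniteDimensional F V] (Q : QuadraticForm F V) (hQ : (QuadraticMap.polarBilin Q).Nondegenerate)
    (W₁ W₂ : Submodule F V) (h₁ : ∀ w ∈ W₁, Q w = 0) (h₂ : ∀ w ∈ W₂, Q w = 0)
    (hmax₁ : ∀ W : Submodule F V, W₁ ≤ W → (∀ w ∈ W, Q w = 0) → W = W₁) :
    Module.finrank F W₂ ≤ Module.finrank F W₁ := by
  set b : LinearMap.BilinForm F V := QuadraticMap.polarBilin Q with hb
  have hbapp : ∀ x y, b x y = polar Q x y := fun x y => rfl
  -- W₂ ⊓ W₁^⊥ ≤ W₁
  have hkey : W₂ ⊓ b.orthogonal W₁ ≤ W₁ ⊓ W₂ := by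
    intro x hx
    obtain ⟨hx2, hx1⟩ := hx
    refine ⟨?_, hx2⟩
    have hts : ∀ w ∈ W₁ ⊔ Submodule.span F {x}, Q w = 0 := by
      intro w hw
      obtain ⟨w₁, hw₁, y, hy, rfl⟩ := Submodule.mem_sup.1 hw
      obtain ⟨c, rfl⟩ := Submodule.mem_span_singleton.1 hy
      have e : Q (w₁ + c • x) = Q w₁ + Q (c • x) + polar Q w₁ (c • x) := by
        rw [polar]; ring
      rw [e, h₁ w₁ hw₁, QuadraticMap.map_smul, h₂ x hx2, polar_smul_right]
      have : polar Q w₁ x = 0 := hx1 w₁ hw₁
      rw [this]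
      simp
    have := hmax₁ _ le_sup_left hts
    rw [← this]
    exact (le_sup_right : Submodule.span F {x} ≤ _) (Submodule.mem_span_singleton_self x)
  have hD2 : W₂ ≤ b.orthogonal (W₁ ⊓ W₂) := by
    intro w hw d hd
    exact polar_zero_of_singular Q W₂ h₂ d hd.2 w hw
  have hD1 : b.orthogonal W₁ ≤ b.orthogonal (W₁ ⊓ W₂) :=
    LinearMap.BilinForm.orthogonal_le inf_le_left
  have hsup : W₂ ⊔ b.orthogonal W₁ ≤ b.orthogonal (W₁ ⊓ W₂) := sup_le hD2 hD1
  have e1 := Submodule.finrank_sup_add_finrank_inf_eq W₂ (b.orthogonal W₁)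
  have e2 := Submodule.finrank_mono hsup
  have e3 := Submodule.finrank_mono hkey
  have e4 := LinearMap.BilinForm.finrank_orthogonal hQ W₁
  have e5 := LinearMap.BilinForm.finrank_orthogonal hQ (W₁ ⊓ W₂)
  have e6 := Submodule.finrank_le W₁
  have e7 := Submodule.finrank_le (W₁ ⊓ W₂)
  have e8 : Module.finrank F ↥(W₁ ⊓ W₂) ≤ Module.finrank F W₁ := Submodule.finrank_mono inf_le_left
  omega

/-- Witt index is well defined: if Q is a quadratic form on a finite-dimensional space V over a finite field with non-degenerate polar form, and W₁, W₂ are subspaces on which Q vanishes that are maximal with this property, then W₁ and W₂ have the same dimension, and twice this dimension is at most dim V. -/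
theorem result {F V : Type*} [Field F] [Finite F] [AddCommGroup V] [Module F V] [FiniteDimensional F V] (Q : QuadraticForm F V) (hQ : (QuadraticMap.polarBilin Q).Nondegenerate) (W₁ W₂ : Submodule F V) (h₁ : ∀ w ∈ W₁, Q w = 0) (h₂ : ∀ w ∈ W₂, Q w = 0) (hmax₁ : ∀ W : Submodule F V, W₁ ≤ W → (∀ w ∈ W, Q w = 0) → W = W₁) (hmax₂ : ∀ W : Submodule F V, W₂ ≤ W → (∀ w ∈ W, Q w = 0) → W = W₂) : Module.finrank F W₁ = Module.finrank F W₂ ∧ 2 * Module.finrank F W₁ ≤ Module.finrank F V := by
  constructor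
  · exact le_antisymm (le_of_maximal Q hQ W₂ W₁ h₂ h₁ hmax₂) (le_of_maximal Q hQ W₁ W₂ h₁ h₂ hmax₁)
  · have hle : W₁ ≤ LinearMap.BilinForm.orthogonal (QuadraticMap.polarBilin Q : LinearMap.BilinForm F V) W₁ := by
      intro w hw d hd
      exact polar_zero_of_singular Q W₁ h₁ d hd w hw
    have e1 := Submodule.finrank_mono hle
    have e2 := LinearMap.BilinForm.finrank_orthogonal (B := (QuadraticMap.polarBilin Q : LinearMap.BilinForm F V)) hQ W₁
    have e3 := Submodule.finrank_le W₁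
    omega

end Cfsg.Agent.S0760
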