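import Cfsg.Statements.S2616
import Cfsg.Agent.Lib.H13.Witt

set_option autoImplicit false
open Cfsg

namespace Cfsg.Agent.S2616

open Cfsg.Agent.Lib.H13

theorem result {F V : Type*} [Field F] [Finite F] [AddCommGroup V] [Module F V] [FiniteDimensional F V] {m : ℕ} (hm : 1 ≤ m) (hV : Module.finrank F V = 2 * m) (Q : QuadraticForm F V) (hQ : (QuadraticMap.polarBilin Q).Nondegenerate) : (∃ b : Module.Basis (Fin m ⊕ Fin m) F V, (∀ i, Q (b (Sum.inl i)) = 0 ∧ Q (b (Sum.inr i)) = 0) ∧ (∀ i j, QuadraticMap.polar ⇑Q (b (Sum.inl i)) (b (Sum.inr j)) = if i = j then 1 else 0) ∧ (∀ i j, QuadraticMap.polar ⇑Q (b (Sum.inl i)) (b (Sum.inl j)) = 0 ∧ QuadraticMap.polar ⇑Q (b (Sum.inr i)) (b (Sum.inr j)) = 0)) ∨ (∃ (b : Module.Basis ((Fin (m - 1) ⊕ Fin (m - 1)) ⊕ Fin 2) F V) (ζ : F), (∀ t : F, t ^ 2 + t + ζ ≠ 0) ∧ (∀ i, Q (b (Sum.inl (Sum.inl i))) = 0 ∧ Q (b (Sum.inl (Sum.inr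 i))) = 0) ∧ (∀ i j, QuadraticMap.polar ⇑Q (b (Sum.inl (Sum.inl i))) (b (Sum.inl (Sum.inr j))) = if i = j then 1 else 0) ∧ (∀ i j, QuadraticMap.polar ⇑Q (b (Sum.inl (Sum.inl i))) (b (Sum.inl (Sum.inl j))) = 0 ∧ QuadraticMap.polar ⇑Q (b (Sum.inl (Sum.inr i))) (b (Sum.inl (Sum.inr j))) = 0) ∧ (∀ i (k : Fin 2), QuadraticMap.polar ⇑Q (b (Sum.inl (Sum.inl i))) (b (Sum.inr k)) = 0 ∧ QuadraticMap.polar ⇑Q (b (Sum.inl (Sum.inr i))) (b (Sum.inr k)) = 0) ∧ Q (b (Sum.inr 0)) = 1 ∧ QuadraticMap.polar ⇑Q (b (Sum.inr 0)) (b (Sum.inr 1)) = 1 ∧ Q (b (Sum.inr 1)) = ζ) := by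
  obtain ⟨k, r, b, hstd, htail, hdim⟩ := witt Q hQ
  match r, b, hstd, htail, hdim with
  | 0, b, hstd, _, hdim =>
    obtain rfl : k = m := by omega
    left
    refine ⟨b.reindex (Equiv.sumEmpty (Fin k ⊕ Fin k) (Fin 0)), ?_, ?_, ?_⟩
    · intro i
      simp only [Module.Basis.reindex_apply, Equiv.sumEmpty_symm_apply]
      exact ⟨hstd.sing_l i, hstd.sing_r i⟩
    · intro i j
      simp only [Module.Basis.reindex_apply, Equiv.sumEmpty_symm_apply]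
      exact hstd.pair i j
    · intro i j
      simp only [Module.Basis.reindex_apply, Equiv.sumEmpty_symm_apply]
      exact ⟨hstd.iso_l i j, hstd.iso_r i j⟩
  | 1, _, _, _, hdim => omega
  | 2, b, hstd, htail, hdim =>
    obtain rfl : k = m - 1 := by omega
    right
    obtain ⟨ζ, hζ, h0, h01, h1⟩ := htail
    exact ⟨b, ζ, hζ, fun i => ⟨hstd.sing_l i, hstd.sing_r i⟩, hstd.pair,
      fun i j => ⟨hstd.iso_l i j, hstd.iso_r i j⟩, fun i k => ⟨hstd.orth_l i k, hstd.orth_r i k⟩,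
      h0, h01, h1⟩
  | _ + 3, _, _, htail, _ => exact htail.elim

end Cfsg.Agent.S2616
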