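import Mathlib
import Cfsg.Statements.S0331
import Cfsg.Agent.Lib.H2.Sz9
import Cfsg.Agent.Lib.H2.CycSyl
import Cfsg.Agent.Lib.H2.Singer

set_option autoImplicit false
open Cfsg

namespace Cfsg.Agent.S0331

open Matrix Cfsg.Agent.Lib.H2.Sz Cfsg.Agent.Lib.H2.CycSyl Cfsg.Agent.Lib.H2.Singer

/-- arithmetic: an odd prime dividing `q² + 1` divides none of `q`, `q - 1`, `q² - 1`, `q³ - 1` -/
theorem arith {p q : ℕ} [hp : Fact p.Prime] (hp2 : p ≠ 2) (hq : 1 ≤ q) (h : p ∣ q ^ 2 + 1) :
    ¬ p ∣ q ∧ ¬ p ∣ q - 1 ∧ ¬ p ∣ q ^ 2 - 1 ∧ ¬ p ∣ q ^ 3 - 1 := by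
  have h2 : (2 : ZMod p) ≠ 0 := by
    intro h0
    have : ((2 : ℕ) : ZMod p) = 0 := by exact_mod_cast h0
    rw [ZMod.natCast_eq_zero_iff] at this
    exact hp2 ((Nat.prime_dvd_prime_iff_eq hp.out Nat.prime_two).1 this)
  have hx : ((q : ZMod p)) ^ 2 + 1 = 0 := by
    have := (ZMod.natCast_eq_zero_iff (q ^ 2 + 1) p).2 h
    push_cast at this
    exact this
  set x : ZMod p := (q : ZMod p) with hxdef
  have q2 : 1 ≤ q ^ 2 := Nat.one_le_pow _ _ hq
  have q3 : 1 ≤ q ^ 3 := Nat.one_le_pow _ _ hq
  refine ⟨?_, ?_, ?_, ?_⟩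
  · intro hd
    have h0 : x = 0 := (ZMod.natCast_eq_zero_iff q p).2 hd
    rw [h0] at hx
    simp at hx
  · intro hd
    have h0 := (ZMod.natCast_eq_zero_iff (q - 1) p).2 hd
    rw [Nat.cast_sub hq, Nat.cast_one, ← hxdef] at h0
    apply h2
    have e : x = 1 := sub_eq_zero.1 h0
    rw [e] at hx
    linear_combination hx
  · intro hd
    have h0 := (ZMod.natCast_eq_zero_iff (q ^ 2 - 1) p).2 hd
    rw [Nat.cast_sub q2, Nat.cast_one, Nat.cast_pow, ← hxdef] at h0
    apply h2
    linear_combination hx - h0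
  · intro hd
    have h0 := (ZMod.natCast_eq_zero_iff (q ^ 3 - 1) p).2 hd
    rw [Nat.cast_sub q3, Nat.cast_one, Nat.cast_pow, ← hxdef] at h0
    -- x + 1 = 0
    have e : x + 1 = 0 := by linear_combination x * hx - h0
    apply h2
    have e' : x = -1 := by linear_combination e
    rw [e'] at hx
    linear_combination hx

/-- For every odd prime `p` the Sylow `p`-subgroups of the Suzuki group are cyclic. -/
theorem result {F : Type*} [Field F] [Fintype F] {m : ℕ} (hm : 1 ≤ m)
    (hF : Fintype.card F = 2 ^ (2 * m + 1)) {p : ℕ} [Fact p.Prime] (hp : p ≠ 2)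
    (P : Sylow p (Cfsg.Sz F m)) : IsCyclic P := by
  classical
  have h := fld_of_card hF
  have hpp : p.Prime := Fact.out
  set q : ℕ := 2 ^ (2 * m + 1) with hq
  have hq1 : 1 ≤ q := Nat.one_le_two_pow
  have hq2 : 2 ≤ q := by
    rw [hq]
    calc 2 = 2 ^ 1 := by norm_num
      _ ≤ 2 ^ (2 * m + 1) := Nat.pow_le_pow_right (by norm_num) (by omega)
  have hpq : ¬ p ∣ q := by
    intro hd
    rw [hq] at hd
    exact hp ((Nat.prime_dvd_prime_iff_eq hpp Nat.prime_two).1 (hpp.dvd_of_dvd_pow hd))
  have hcard : Nat.card (Cfsg.Sz F m) = q ^ 2 * (q ^ 2 + 1) * (q - 1) := card_Sz h hm hF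
  by_cases h1 : p ∣ q - 1
  · -- the diagonal subgroup carries the `p`-part
    let δ : Fˣ →* Cfsg.Sz F m :=
      { toFun := fun k => ⟨D m k, D_mem h k⟩
        map_one' := Subtype.ext D_one
        map_mul' := fun k k' => Subtype.ext (D_mul k k') }
    have hδ : Function.Injective δ := by
      intro k k' hkk
      exact D_injective (congrArg Subtype.val hkk)
    have hcyc : IsCyclic δ.range := isCyclic_of_surjective δ.rangeRestrict δ.rangeRestrict_surjective
    have hcardC : Nat.card δ.range = q - 1 := by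
      rw [← Nat.card_congr (MonoidHom.ofInjective hδ).toEquiv, Nat.card_units,
        Nat.card_eq_fintype_card, hF]
    have hnot : ¬ p ∣ q ^ 2 + 1 := by
      intro hd
      exact (arith hp hq1 hd).2.1 h1
    have hv : (Nat.card δ.range).factorization p = (Nat.card (Cfsg.Sz F m)).factorization p := by
      rw [hcardC, hcard]
      have hne1 : q ^ 2 ≠ 0 := by positivity
      have hne2 : q ^ 2 + 1 ≠ 0 := by positivity
      have hne3 : q - 1 ≠ 0 := by omega
      rw [Nat.factorization_mul (mul_ne_zero hne1 hne2) hne3, Nat.factorization_mul hne1 hne2,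
        Finsupp.add_apply, Finsupp.add_apply,
        Nat.factorization_eq_zero_of_not_dvd (fun hd => hpq (hpp.dvd_of_dvd_pow hd)),
        Nat.factorization_eq_zero_of_not_dvd hnot]
      simp
    exact isCyclic_sylow_of_cyclic_subgroup δ.range hv P
  · by_cases h2 : p ∣ q ^ 2 + 1
    · -- Singer cycle in `GL₄`
      obtain ⟨hq0, -, hq2', hq3'⟩ := arith hp hq1 h2
      obtain ⟨C, hCcyc, hCcard⟩ := exists_singer F 4
      let ι : Cfsg.Sz F m →* GL (Fin 4) F :=
        (Matrix.SpecialLinearGroup.toGL).comp (Cfsg.Sz F m).subtype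
      have hι : Function.Injective ι := by
        intro x y hxy
        apply Subtype.ext
        apply Subtype.ext
        have := congrArg (fun g : GL (Fin 4) F => (g : Matrix (Fin 4) (Fin 4) F)) hxy
        exact this
      have hv : (Nat.card C).factorization p = (Nat.card (GL (Fin 4) F)).factorization p := by
        rw [hCcard, Matrix.card_GL_field, hF, Fin.prod_univ_four]
        simp only [Fin.val_zero, Fin.val_one, Fin.val_two, pow_zero, pow_one]
        have e1 : q ^ 4 - q = q * (q ^ 3 - 1) := by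
          rw [Nat.mul_sub, mul_one]
          ring_nf
        have e2 : q ^ 4 - q ^ 2 = q ^ 2 * (q ^ 2 - 1) := by
          rw [Nat.mul_sub, mul_one]
          ring_nf
        have e3 : q ^ 4 - q ^ (3 : Fin 4).val = q ^ 3 * (q - 1) := by
          have : ((3 : Fin 4) : ℕ) = 3 := rfl
          rw [this, Nat.mul_sub, mul_one]
          ring_nf
        have q3 : 2 ≤ q ^ 3 := le_trans hq2 (Nat.le_self_pow (by norm_num) q)
        have q2 : 2 ≤ q ^ 2 := le_trans hq2 (Nat.le_self_pow (by norm_num) q)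
        have q4 : 2 ≤ q ^ 4 := le_trans hq2 (Nat.le_self_pow (by norm_num) q)
        have n0 : q ^ 4 - 1 ≠ 0 := by omega
        have n1 : q * (q ^ 3 - 1) ≠ 0 := mul_ne_zero (by omega) (by omega)
        have n2 : q ^ 2 * (q ^ 2 - 1) ≠ 0 := mul_ne_zero (by omega) (by omega)
        have n3 : q ^ 3 * (q - 1) ≠ 0 := mul_ne_zero (by omega) (by omega)
        have d1 : ¬ p ∣ q * (q ^ 3 - 1) := by
          rw [hpp.dvd_mul]
          rintro (hd | hd)
          · exact hq0 hd
          · exact hq3' hd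
        have d2 : ¬ p ∣ q ^ 2 * (q ^ 2 - 1) := by
          rw [hpp.dvd_mul]
          rintro (hd | hd)
          · exact hq0 (hpp.dvd_of_dvd_pow hd)
          · exact hq2' hd
        have d3 : ¬ p ∣ q ^ 3 * (q - 1) := by
          rw [hpp.dvd_mul]
          rintro (hd | hd)
          · exact hq0 (hpp.dvd_of_dvd_pow hd)
          · exact h1 hd
        rw [e1, e2, e3, Nat.factorization_mul (mul_ne_zero (mul_ne_zero n0 n1) n2) n3,
          Nat.factorization_mul (mul_ne_zero n0 n1) n2, Nat.factorization_mul n0 n1,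
          Finsupp.add_apply, Finsupp.add_apply, Finsupp.add_apply,
          Nat.factorization_eq_zero_of_not_dvd d1, Nat.factorization_eq_zero_of_not_dvd d2,
          Nat.factorization_eq_zero_of_not_dvd d3, add_zero, add_zero, add_zero]
      have hPmap : IsPGroup p ((P : Subgroup (Cfsg.Sz F m)).map ι) := P.isPGroup'.map ι
      have hcyc := isCyclic_of_isPGroup C hv _ hPmap
      let e : (P : Subgroup (Cfsg.Sz F m)) ≃* (P : Subgroup (Cfsg.Sz F m)).map ι :=
        (P : Subgroup (Cfsg.Sz F m)).equivMapOfInjective ι hι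
      exact isCyclic_of_surjective e.symm e.symm.surjective
    · -- `p` does not divide the order
      have hnd : ¬ p ∣ Nat.card (Cfsg.Sz F m) := by
        rw [hcard, hpp.dvd_mul, hpp.dvd_mul]
        rintro ((hd | hd) | hd)
        · exact hpq (hpp.dvd_of_dvd_pow hd)
        · exact h2 hd
        · exact h1 hd
      have hcardP : Nat.card P = 1 := by
        rw [P.card_eq_multiplicity, Nat.factorization_eq_zero_of_not_dvd hnd, pow_zero]
      have : Subsingleton P := (Nat.card_eq_one_iff_unique.1 hcardP).1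
      exact isCyclic_of_subsingleton

end Cfsg.Agent.S0331
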