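import Cfsg.Statements.S2610
import Cfsg.Agent.Lib.H13.OmegaCrit
import Cfsg.Agent.Lib.H11.Disc

set_option autoImplicit false
open Cfsg

namespace Cfsg.Agent.S2610

open Matrix Module
open Cfsg.Agent.Lib.H11.CD Cfsg.Agent.Lib.H11.SpinSign Cfsg.Agent.Lib.H13.OmegaCrit

section gen

variable {F : Type*} [Field F] {ι : Type} [Fintype ι] [DecidableEq ι] (Q : QuadraticForm F (ι → F))

/-- a product of reflections in pairwise orthogonal vectors negates those occurring in the list -/
theorem prod_refl_mulVec {N : Type*} (v : N → ι → F) (hv : ∀ i, Q (v i) ≠ 0)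
    (h2 : (2 : F) ≠ 0)
    (horth : ∀ i j, i ≠ j → QuadraticMap.polar (⇑Q) (v i) (v j) = 0) [DecidableEq N]
    (l : List N) (hl : l.Nodup) (j : N) :
    (l.map (fun i => Cfsg.reflectionMatrix ⇑Q (v i))).prod *ᵥ v j =
      if j ∈ l then - v j else v j := by
  induction l with
  | nil => simp
  | cons i l ih =>
    rw [List.nodup_cons] at hl
    rw [List.map_cons, List.prod_cons, ← Matrix.mulVec_mulVec, ih hl.2]
    by_cases hij : j = i
    · subst hij
      rw [if_neg hl.1, if_pos List.mem_cons_self, Cfsg.Agent.Lib.H4.reflectionMatrix_mulVec]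
      have hpol : QuadraticMap.polar (⇑Q) (v j) (v j) = 2 * Q (v j) := by
        rw [QuadraticMap.polar_self, two_nsmul, two_mul]
      rw [hpol]
      have : (Q (v j))⁻¹ * (2 * Q (v j)) = 2 := by
        field_simp [hv j]
      rw [this, two_smul]
      abel
    · have hmem : j ∈ i :: l ↔ j ∈ l := by
        rw [List.mem_cons]
        constructor
        · rintro (h | h)
          · exact absurd h hij
          · exact h
        · exact Or.inr
      have hfix : ∀ x : ι → F, QuadraticMap.polar (⇑Q) (v i) x = 0 →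
          Cfsg.reflectionMatrix ⇑Q (v i) *ᵥ x = x := by
        intro x hx
        rw [Cfsg.Agent.Lib.H4.reflectionMatrix_mulVec, hx, mul_zero, zero_smul, sub_zero]
      by_cases hjl : j ∈ l
      · rw [if_pos hjl, if_pos (hmem.mpr hjl)]
        apply hfix
        rw [QuadraticMap.polar_neg_right, horth i j (Ne.symm hij), neg_zero]
      · rw [if_neg hjl, if_neg (fun h => hjl (hmem.mp h))]
        exact hfix _ (horth i j (Ne.symm hij))

end gen

/-- For a quadratic form Q on F^n with non-degenerate polar form, F finite of odd order and n ≥ 2 even, the isometry −1 lies in Ω (the commutator subgroup of the orthogonal group) if and only if the discriminant of Q (the determinant of the Gram matrix of its polar form) is a square. -/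
theorem result {F : Type*} [Field F] [Fintype F] (h2 : (2 : F) ≠ 0) {n : ℕ} (hn : 2 ≤ n) (he : Even n) (Q : QuadraticForm F (Fin n → F)) (hQ : (QuadraticMap.polarBilin Q).Nondegenerate) : (∃ g : ↥(Cfsg.isometryGroup F ⇑Q), g ∈ Cfsg.Omega F ⇑Q ∧ ((g : Matrix.GeneralLinearGroup (Fin n) F) : Matrix (Fin n) (Fin n) F) = -1) ↔ IsSquare (Matrix.of (fun i j : Fin n => QuadraticMap.polar ⇑Q (Pi.single i 1) (Pi.single j 1))).det := by
  classical
  have : Invertible (2 : F) := invertibleOfNonzero h2
  have hsymm : (QuadraticMap.polarBilin Q).IsSymm := by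
    rw [LinearMap.isSymm_def]
    intro x y
    rw [RingHom.id_apply, QuadraticMap.polarBilin_apply_apply, QuadraticMap.polarBilin_apply_apply,
      QuadraticMap.polar_comm]
  obtain ⟨v, hv⟩ := LinearMap.BilinForm.exists_orthogonal_basis hsymm
  have hN : finrank F (Fin n → F) = n := by simp
  have hvv := hv.not_isOrtho_basis_self_of_separatingLeft hQ.1
  rw [LinearMap.isOrthoᵢ_def] at hv
  have horth : ∀ i j, i ≠ j → QuadraticMap.polar (⇑Q) (v i) (v j) = 0 := by
    intro i j hij
    have := hv i j hij
    rwa [QuadraticMap.polarBilin_apply_apply] at this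
  have hpol : ∀ i, QuadraticMap.polar (⇑Q) (v i) (v i) = 2 * Q (v i) := by
    intro i
    rw [QuadraticMap.polar_self, two_nsmul, two_mul]
  have hQv : ∀ i, Q (v i) ≠ 0 := by
    intro i h0
    apply hvv i
    rw [QuadraticMap.polarBilin_apply_apply, hpol, h0, mul_zero]
  -- the product of the reflections is -1
  set vs : List (Fin n → F) := List.ofFn (fun i => v i) with hvs
  have hprod : (vs.map (fun w => Cfsg.reflectionMatrix ⇑Q w)).prod = -1 := by
    rw [hvs, List.ofFn_eq_map, List.map_map]
    apply Matrix.ext_iff_mulVec.mpr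
    intro x
    have hx : ∀ j, ((List.finRange _).map ((fun w => Cfsg.reflectionMatrix ⇑Q w) ∘ fun i => v i)).prod
        *ᵥ v j = (-1 : Matrix (Fin n) (Fin n) F) *ᵥ v j := by
      intro j
      have := prod_refl_mulVec Q (fun i => v i) hQv h2 horth (List.finRange _)
        (List.nodup_finRange _) j
      rw [if_pos (List.mem_finRange j)] at this
      rw [Matrix.neg_mulVec, Matrix.one_mulVec]
      exact this
    have hlin : Matrix.mulVecLin ((List.finRange _).map
        ((fun w => Cfsg.reflectionMatrix ⇑Q w) ∘ fun i => v i)).prod =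
        Matrix.mulVecLin (-1 : Matrix (Fin n) (Fin n) F) := by
      apply v.ext
      intro j
      rw [Matrix.mulVecLin_apply, Matrix.mulVecLin_apply]
      exact hx j
    have := congrArg (fun f => f x) hlin
    simpa only [Matrix.mulVecLin_apply] using this
  have hvsQ : ∀ w ∈ vs, Q w ≠ 0 := by
    intro w hw
    rw [hvs, List.mem_ofFn] at hw
    obtain ⟨i, rfl⟩ := hw
    exact hQv i
  have hcrit := mem_Omega_iff_list_fin Q h2 hn hQ (negOne Q) vs hvsQ (by rw [negOne_val, hprod])
  have hlen : vs.length = n := by rw [hvs, List.length_ofFn, hN]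
  have hmapQ : (vs.map (fun w => Q w)).prod = ∏ i, Q (v i) := by
    rw [hvs, List.map_ofFn, List.prod_ofFn]
    rfl
  rw [hlen, hmapQ] at hcrit
  -- the discriminant
  obtain ⟨d, hd0, hd⟩ := Cfsg.Agent.Lib.H11.Disc.det_gram_change (QuadraticMap.polarBilin Q)
    (Pi.basisFun F (Fin n)) v
  have hstd : LinearMap.BilinForm.toMatrix (Pi.basisFun F (Fin n)) (QuadraticMap.polarBilin Q) =
      Matrix.of (fun i j : Fin n => QuadraticMap.polar ⇑Q (Pi.single i 1) (Pi.single j 1)) := by
    ext i j
    rw [LinearMap.BilinForm.toMatrix_apply, QuadraticMap.polarBilin_apply_apply, Pi.basisFun_apply,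
      Pi.basisFun_apply, Matrix.of_apply]
  have hdiag : LinearMap.BilinForm.toMatrix v (QuadraticMap.polarBilin Q) =
      Matrix.diagonal (fun i => 2 * Q (v i)) := by
    ext i j
    rw [LinearMap.BilinForm.toMatrix_apply, QuadraticMap.polarBilin_apply_apply]
    by_cases hij : i = j
    · subst hij
      rw [Matrix.diagonal_apply_eq, hpol]
    · rw [Matrix.diagonal_apply_ne _ hij, horth i j hij]
  have h2n : (2 : F) ^ finrank F (Fin n → F) = 2 ^ n := by rw [hN]
  rw [hstd, hdiag, Matrix.det_diagonal, Finset.prod_mul_distrib, Finset.prod_const,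
    Finset.card_univ, Fintype.card_fin, h2n] at hd
  obtain ⟨k, hk⟩ := he
  have hsq_iff : IsSquare (∏ i, Q (v i)) ↔
      IsSquare (Matrix.of (fun i j : Fin n => QuadraticMap.polar ⇑Q (Pi.single i 1) (Pi.single j 1))).det := by
    set D := (Matrix.of (fun i j : Fin n => QuadraticMap.polar ⇑Q (Pi.single i 1) (Pi.single j 1))).det
    set P := ∏ i, Q (v i)
    have h2k : (2 : F) ^ n = (2 ^ k) ^ 2 := by
      rw [hk, ← pow_mul, mul_two]
    rw [h2k] at hd
    have h2k0 : (2 : F) ^ k ≠ 0 := pow_ne_zero _ h2
    constructor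
    · rintro ⟨r, hr⟩
      refine ⟨2 ^ k * r / d, ?_⟩
      rw [hr] at hd
      rw [div_mul_div_comm, eq_div_iff (mul_ne_zero hd0 hd0)]
      linear_combination -hd
    · rintro ⟨r, hr⟩
      refine ⟨d * r / 2 ^ k, ?_⟩
      rw [hr] at hd
      rw [div_mul_div_comm, eq_div_iff (mul_ne_zero h2k0 h2k0)]
      linear_combination hd
  rw [← hsq_iff]
  constructor
  · rintro ⟨g, hg, hg1⟩
    rw [eq_negOne Q g hg1] at hg
    exact (hcrit.mp hg).2
  · intro h
    exact ⟨negOne Q, hcrit.mpr ⟨⟨k, hk⟩, h⟩, negOne_val Q⟩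

end Cfsg.Agent.S2610
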