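import Cfsg.Statements.S0713
import Cfsg.Agent.Lib.H18.PermLift

set_option autoImplicit false
open Cfsg

namespace Cfsg.Agent.S0713

open MulAction Equiv Cfsg.Agent.Lib.H18

variable {α : Type*} [Fintype α] [DecidableEq α]

theorem not_sq_dvd_factorial {p : ℕ} (hp : p.Prime) : ¬ p ^ 2 ∣ p.factorial := by
  intro h
  obtain ⟨k, hk⟩ : ∃ k, p = k + 1 := ⟨p - 1, by have := hp.pos; omega⟩
  rw [hk, Nat.factorial_succ, pow_two] at h
  have h2 : (k + 1) ∣ k.factorial := Nat.dvd_of_mul_dvd_mul_left (by omega) h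
  rw [← hk] at h2
  have := (hp.dvd_factorial).mp h2
  omega

omit [Fintype α] [DecidableEq α] in
theorem perm_apply_inv (f : Perm α) (x : α) : f (f⁻¹ x) = x := by simp

/-- If `σ` is disjoint from `g`, it preserves the complement of the support of `g`. -/
theorem apply_mem_compl_iff {g σ : Perm α} (hσ : σ.support ⊆ g.supportᶜ) (x : α) :
    σ x ∈ g.supportᶜ ↔ x ∈ g.supportᶜ :=
  apply_mem_iff_of_support_subset hσ x

/-- Witt's lemma in the special case of a `p`-cycle: every permutation of the fixed points of `g`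
is induced by an element of `G` normalizing `⟨g⟩`. -/
theorem exists_normalizing_lift (G : Subgroup (Perm α)) {p : ℕ} (hp : p.Prime) {g : Perm α}
    (hgc : g.IsCycle) (hgp : g.support.card = p) (hg : g ∈ G)
    (hG : IsMultiplyPretransitive G α (g.supportᶜ).card) (σ : Perm α)
    (hσ : σ.support ⊆ g.supportᶜ) :
    ∃ n ∈ G, (∀ x ∈ g.supportᶜ, n x = σ x) ∧ n * g * n⁻¹ ∈ Subgroup.zpowers g := by
  have : Fact p.Prime := ⟨hp⟩
  obtain ⟨h, hhG, hh⟩ := exists_mem_agree_on G (g.supportᶜ) _ rfl hG σ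
  -- `h` maps the support of `g` into itself
  have hsupp : ∀ y ∈ g.support, h y ∈ g.support := by
    intro y hy
    by_contra hcon
    have hcon' : h y ∈ g.supportᶜ := Finset.mem_compl.mpr hcon
    have h1 : σ⁻¹ (h y) ∈ g.supportᶜ := by
      rw [← apply_mem_compl_iff hσ, perm_apply_inv]; exact hcon'
    have h2 : h (σ⁻¹ (h y)) = h y := by rw [hh _ h1, perm_apply_inv]
    have h3 : σ⁻¹ (h y) = y := h.injective h2
    rw [h3] at h1
    exact (Finset.mem_compl.mp h1) hy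
  have hconj_supp : (h * g * h⁻¹).support ⊆ g.support := by
    rw [Perm.support_conj]
    intro x hx
    rw [Finset.mem_map] at hx
    obtain ⟨y, hy, rfl⟩ := hx
    exact hsupp y hy
  set K := suppSubgroup G g.support with hK
  have hgK : g ∈ K := ⟨hg, subset_rfl⟩
  have hbK : h * g * h⁻¹ ∈ K := ⟨G.mul_mem (G.mul_mem hhG hg) (G.inv_mem hhG), hconj_supp⟩
  have hordg : orderOf g = p := by rw [hgc.orderOf, hgp]
  have hordb : orderOf (h * g * h⁻¹) = p := by
    have := (MulAut.conj h).orderOf_eq g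
    rw [MulAut.conj_apply] at this
    rw [this, hordg]
  have hKcard : ¬ p ^ 2 ∣ Nat.card K := by
    intro hdvd
    apply not_sq_dvd_factorial hp
    have := card_suppSubgroup_dvd G g.support
    rw [hgp] at this
    exact hdvd.trans this
  obtain ⟨c, hc⟩ := exists_conj_mem_zpowers hKcard (⟨g, hgK⟩ : K) ⟨h * g * h⁻¹, hbK⟩
    (by rw [Subgroup.orderOf_mk, hordg]) (by rw [Subgroup.orderOf_mk, hordb])
  refine ⟨c.1 * h, G.mul_mem c.2.1 hhG, ?_, ?_⟩
  · intro x hx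
    rw [Perm.mul_apply, hh x hx]
    have h1 : σ x ∈ g.supportᶜ := (apply_mem_compl_iff hσ x).mpr hx
    have h2 : σ x ∉ c.1.support := fun hmem => (Finset.mem_compl.mp h1) (c.2.2 hmem)
    exact Perm.notMem_support.mp h2
  · rw [Subgroup.mem_zpowers_iff] at hc ⊢
    obtain ⟨i, hi⟩ := hc
    refine ⟨i, ?_⟩
    have := congrArg (Subtype.val) hi
    simp only [Subgroup.coe_zpow, Subgroup.coe_mul, Subgroup.coe_inv] at this
    rw [this]
    group

/-- An element commuting with the cycle `g` acts on the support of `g` like a power of `g`. -/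
theorem exists_zpow_mul_fixes {g x : Perm α} (hgc : g.IsCycle) (hx : x * g = g * x) :
    ∃ j : ℤ, ∀ y ∈ g.support, (g ^ j * x) y = y := by
  obtain ⟨d, hd⟩ : ∃ d, d ∈ g.support := by
    obtain ⟨d, hd, _⟩ := hgc
    exact ⟨d, Perm.mem_support.mpr hd⟩
  have hd' : g d ≠ d := Perm.mem_support.mp hd
  have hxd : g (x d) ≠ x d := by
    have : g (x d) = x (g d) := by
      have := congrArg (fun f : Perm α => f d) hx
      simpa [Perm.mul_apply] using this.symm
    rw [this]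
    exact fun h => hd' (x.injective h)
  obtain ⟨i, hi⟩ := hgc.exists_zpow_eq hxd hd'
  refine ⟨i, ?_⟩
  have hcomm : Commute (g ^ i * x) g := by
    have h1 : Commute x g := hx
    have h2 : Commute (g ^ i) g := (Commute.refl g).zpow_left i
    exact h2.mul_left h1
  intro y hy
  obtain ⟨k, hk⟩ := hgc.exists_zpow_eq hd' (Perm.mem_support.mp hy)
  have h3 : Commute (g ^ i * x) (g ^ k) := hcomm.zpow_right k
  rw [← hk, ← Perm.mul_apply, h3.eq, Perm.mul_apply]
  congr 1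


theorem comm_commutator {H : Type*} [Group H] (g n₁ n₂ : H)
    (h₁ : n₁ * g * n₁⁻¹ ∈ Subgroup.zpowers g) (h₂ : n₂ * g * n₂⁻¹ ∈ Subgroup.zpowers g) :
    (n₁⁻¹ * n₂⁻¹ * n₁ * n₂) * g = g * (n₁⁻¹ * n₂⁻¹ * n₁ * n₂) := by
  obtain ⟨a₁, ha₁⟩ := Subgroup.mem_zpowers_iff.mp h₁
  obtain ⟨a₂, ha₂⟩ := Subgroup.mem_zpowers_iff.mp h₂
  have k1 : (n₁ * n₂) * g * (n₁ * n₂)⁻¹ = g ^ (a₁ * a₂) := by
    calc (n₁ * n₂) * g * (n₁ * n₂)⁻¹ = n₁ * (n₂ * g * n₂⁻¹) * n₁⁻¹ := by group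
      _ = n₁ * g ^ a₂ * n₁⁻¹ := by rw [ha₂]
      _ = (n₁ * g * n₁⁻¹) ^ a₂ := (conj_zpow).symm
      _ = g ^ (a₁ * a₂) := by rw [← ha₁, zpow_mul]
  have k2 : (n₂ * n₁) * g * (n₂ * n₁)⁻¹ = g ^ (a₁ * a₂) := by
    calc (n₂ * n₁) * g * (n₂ * n₁)⁻¹ = n₂ * (n₁ * g * n₁⁻¹) * n₂⁻¹ := by group
      _ = n₂ * g ^ a₁ * n₂⁻¹ := by rw [ha₁]
      _ = (n₂ * g * n₂⁻¹) ^ a₁ := (conj_zpow).symm
      _ = g ^ (a₁ * a₂) := by rw [← ha₂, mul_comm, zpow_mul]
  have key := k1.trans k2.symm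
  calc n₁⁻¹ * n₂⁻¹ * n₁ * n₂ * g
      = (n₂ * n₁)⁻¹ * ((n₁ * n₂) * g * (n₁ * n₂)⁻¹) * (n₁ * n₂) := by group
    _ = (n₂ * n₁)⁻¹ * ((n₂ * n₁) * g * (n₂ * n₁)⁻¹) * (n₁ * n₂) := by rw [key]
    _ = g * (n₁⁻¹ * n₂⁻¹ * n₁ * n₂) := by group

omit [Fintype α] [DecidableEq α] in
theorem inv_agree {n σ : Perm α} {s : Finset α} (hσ : ∀ x, σ x ∈ s ↔ x ∈ s)
    (h : ∀ x ∈ s, n x = σ x) : ∀ x ∈ s, n⁻¹ x = σ⁻¹ x := by
  intro x hx
  have hy : σ⁻¹ x ∈ s := by rw [← hσ, perm_apply_inv]; exact hx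
  have := h _ hy
  rw [perm_apply_inv] at this
  rw [Perm.inv_eq_iff_eq, this]

/-- Jordan's Theorem: a primitive permutation group of degree `n ≥ 5` containing a `p`-cycle for a prime `p ≤ n - 3` contains the alternating group. -/
theorem result {α : Type*} [Fintype α] [DecidableEq α] (G : Subgroup (Equiv.Perm α)) (hG : MulAction.IsPreprimitive G α) {p : ℕ} (hp : p.Prime) (hn : 5 ≤ Fintype.card α) (hpn : p + 3 ≤ Fintype.card α) {g : Equiv.Perm α} (hgc : g.IsCycle) (hgp : g.support.card = p) (hg : g ∈ G) : alternatingGroup α ≤ G := by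
  obtain ⟨m, hm⟩ : ∃ m, Fintype.card α = p + m + 3 := ⟨Fintype.card α - p - 3, by omega⟩
  have hp2 := hp.two_le
  have hΓcard : (g.supportᶜ).card = m + 3 := by rw [Finset.card_compl, hgp]; omega
  have hsc : Set.ncard ((g.support : Set α)ᶜ) = (m + 2) + 1 := by
    rw [← Finset.coe_compl, Set.ncard_coe_finset, hΓcard]
  have hprim : IsPreprimitive (fixingSubgroup G ((g.support : Set α)ᶜ))
      (SubMulAction.ofFixingSubgroup G ((g.support : Set α)ᶜ)) := by
    classical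
    have := Equiv.Perm.isPretransitive_of_isCycle_mem hgc hg
    apply IsPreprimitive.of_prime_card
    convert hp
    rw [Nat.card_eq_fintype_card, Fintype.card_subtype, ← hgp]
    congr 1
    ext x
    simp [SubMulAction.mem_ofFixingSubgroup_iff]
  have hmp : IsMultiplyPreprimitive G α (m + 2 + 2) :=
    hG.isMultiplyPreprimitive hsc (by rw [Nat.card_eq_fintype_card, hm]; omega) hprim
  have hmt : IsMultiplyPretransitive G α (m + 2 + 2) := hmp.isMultiplyPretransitive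
  have hmt3 : IsMultiplyPretransitive G α (g.supportᶜ).card := by
    rw [hΓcard]
    exact isMultiplyPretransitive_of_le (n := m + 2 + 2) (by omega)
      (by rw [Nat.card_eq_fintype_card, hm]; omega)
  -- three distinct fixed points of `g`
  obtain ⟨a, ha, b, hb, c, hc, hab, hac, hbc⟩ :=
    Finset.two_lt_card.mp (by rw [hΓcard]; omega : 2 < (g.supportᶜ).card)
  have hσ₁ : (swap a b).support ⊆ g.supportᶜ := by
    rw [Perm.support_swap hab]
    intro x hx
    rcases Finset.mem_insert.mp hx with rfl | hx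
    · exact ha
    · rw [Finset.mem_singleton.mp hx]; exact hb
  have hσ₂ : (swap b c).support ⊆ g.supportᶜ := by
    rw [Perm.support_swap hbc]
    intro x hx
    rcases Finset.mem_insert.mp hx with rfl | hx
    · exact hb
    · rw [Finset.mem_singleton.mp hx]; exact hc
  obtain ⟨n₁, hn₁G, hn₁, hn₁g⟩ := exists_normalizing_lift G hp hgc hgp hg hmt3 (swap a b) hσ₁
  obtain ⟨n₂, hn₂G, hn₂, hn₂g⟩ := exists_normalizing_lift G hp hgc hgp hg hmt3 (swap b c) hσ₂
  have hcomm := comm_commutator g n₁ n₂ hn₁g hn₂g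
  set x := n₁⁻¹ * n₂⁻¹ * n₁ * n₂ with hx
  set τ := (swap a b)⁻¹ * (swap b c)⁻¹ * swap a b * swap b c with hτ
  have hxG : x ∈ G := G.mul_mem (G.mul_mem (G.mul_mem (G.inv_mem hn₁G) (G.inv_mem hn₂G)) hn₁G) hn₂G
  have hp₁ := apply_mem_compl_iff hσ₁
  have hp₂ := apply_mem_compl_iff hσ₂
  have hn₁i := inv_agree hp₁ hn₁
  have hn₂i := inv_agree hp₂ hn₂
  have hp₁i : ∀ z, (swap a b)⁻¹ z ∈ g.supportᶜ ↔ z ∈ g.supportᶜ := by
    intro z; rw [← hp₁, perm_apply_inv]
  have hp₂i : ∀ z, (swap b c)⁻¹ z ∈ g.supportᶜ ↔ z ∈ g.supportᶜ := by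
    intro z; rw [← hp₂, perm_apply_inv]
  -- `x` agrees with `τ` outside the support of `g`
  have hxτ : ∀ z ∈ g.supportᶜ, x z = τ z ∧ τ z ∈ g.supportᶜ := by
    intro z hz
    have h1 : swap b c z ∈ g.supportᶜ := (hp₂ z).mpr hz
    have h2 : swap a b (swap b c z) ∈ g.supportᶜ := (hp₁ _).mpr h1
    have h3 : (swap b c)⁻¹ (swap a b (swap b c z)) ∈ g.supportᶜ := (hp₂i _).mpr h2
    have h4 : (swap a b)⁻¹ ((swap b c)⁻¹ (swap a b (swap b c z))) ∈ g.supportᶜ := (hp₁i _).mpr h3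
    refine ⟨?_, h4⟩
    simp only [hx, hτ, Perm.mul_apply]
    rw [hn₂ z hz, hn₁ _ h1, hn₂i _ h2, hn₁i _ h3]
  obtain ⟨j, hj⟩ := exists_zpow_mul_fixes hgc hcomm
  have hyG : g ^ j * x ∈ G := G.mul_mem (G.zpow_mem hg j) hxG
  have hτsupp : ∀ z ∈ g.support, τ z = z := by
    intro z hz
    have f1 : ∀ {σ : Perm α}, σ.support ⊆ g.supportᶜ → σ z = z := by
      intro σ hσ
      by_contra hne
      exact (Finset.mem_compl.mp (hσ (Perm.mem_support.mpr hne))) hz
    have f2 : ∀ {σ : Perm α}, σ.support ⊆ g.supportᶜ → σ⁻¹ z = z := by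
      intro σ hσ
      rw [Perm.inv_eq_iff_eq, f1 hσ]
    simp only [hτ, Perm.mul_apply]
    rw [f1 hσ₂, f1 hσ₁, f2 hσ₂, f2 hσ₁]
  have hyτ : g ^ j * x = τ := by
    ext z
    by_cases hz : z ∈ g.support
    · rw [hj z hz, hτsupp z hz]
    · have hz' : z ∈ g.supportᶜ := Finset.mem_compl.mpr hz
      obtain ⟨e1, e2⟩ := hxτ z hz'
      rw [Perm.mul_apply, e1]
      apply Perm.zpow_apply_eq_self_of_apply_eq_self
      exact Perm.notMem_support.mp (Finset.mem_compl.mp e2)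
  have hτ3 : τ.IsThreeCycle := by
    have h3 : (swap b a * swap b c).IsThreeCycle :=
      Perm.isThreeCycle_swap_mul_swap_same hab.symm hbc hac
    have := Perm.IsThreeCycle.isThreeCycle_sq h3
    rw [hτ, swap_inv, swap_inv]
    rw [swap_comm b a] at this
    simpa [mul_assoc] using this
  rw [hyτ] at hyG
  exact Equiv.Perm.alternatingGroup_le_of_isPreprimitive_of_isThreeCycle_mem hG hτ3 hyG

end Cfsg.Agent.S0713
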