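import Cfsg.Statements.S0126
import Cfsg.Agent.Lib.H22.CyclicIndexP
import Cfsg.Agent.Lib.H22.NormalSeries
import Cfsg.Agent.Lib.H8.PGroup

set_option autoImplicit false
open Cfsg

namespace Cfsg.Agent.S0126

open Cfsg.Agent.Lib.H22

/-- The elements of order dividing `p` in an abelian subgroup. -/
def omegaOne {R : Type*} [Group R] (p : ℕ) (A : Subgroup R) (hA : ∀ a ∈ A, ∀ b ∈ A, a * b = b * a) :
    Subgroup R where
  carrier := {a | a ∈ A ∧ a ^ p = 1}
  one_mem' := ⟨A.one_mem, one_pow p⟩
  mul_mem' := by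
    rintro a b ⟨ha, hap⟩ ⟨hb, hbp⟩
    refine ⟨A.mul_mem ha hb, ?_⟩
    rw [(show Commute a b from hA a ha b hb).mul_pow, hap, hbp, one_mul]
  inv_mem' := by
    rintro a ⟨ha, hap⟩
    exact ⟨A.inv_mem ha, by rw [inv_pow, hap, inv_one]⟩

theorem mem_omegaOne {R : Type*} [Group R] (p : ℕ) (A : Subgroup R)
    (hA : ∀ a ∈ A, ∀ b ∈ A, a * b = b * a) (a : R) :
    a ∈ omegaOne p A hA ↔ a ∈ A ∧ a ^ p = 1 := Iff.rfl

theorem omegaOne_normal {R : Type*} [Group R] (p : ℕ) (A : Subgroup R) [hAn : A.Normal]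
    (hA : ∀ a ∈ A, ∀ b ∈ A, a * b = b * a) : (omegaOne p A hA).Normal := by
  constructor
  rintro a ⟨ha, hap⟩ g
  refine ⟨hAn.conj_mem a ha g, ?_⟩
  rw [conj_pow, hap]; group

/-- For odd p, every non-cyclic p-group contains a normal elementary abelian subgroup of order p^2. -/
theorem result {R : Type*} [Group R] [Finite R] {p : ℕ} [Fact p.Prime] (hp : p ≠ 2) (hR : IsPGroup p R) (hnc : ¬ IsCyclic R) : ∃ A : Subgroup R, A.Normal ∧ Cfsg.IsElementaryAbelian p A ∧ Nat.card A = p ^ 2 := by
  have hp' : Fact p.Prime := inferInstance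
  obtain ⟨A, -, hAn, hAc, hCA⟩ :=
    Cfsg.Agent.Lib.H8.exists_normal_selfCentralizing hR (⊥ : Subgroup R)
  have hA : ∀ a ∈ A, ∀ b ∈ A, a * b = b * a := by
    intro a ha b hb
    have := hAc.is_comm.comm (⟨a, ha⟩ : A) ⟨b, hb⟩
    exact congrArg Subtype.val this
  by_cases hcyc : IsCyclic A
  · -- A cyclic
    have hAtop : A ≠ ⊤ := by
      intro h
      apply hnc
      have e : A ≃* R := (MulEquiv.subgroupCongr h).trans Subgroup.topEquiv
      exact isCyclic_of_surjective e e.surjective
    have hlt : A < ⊤ := lt_top_iff_ne_top.mpr hAtop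
    obtain ⟨B, hBn, hAB, -, hBc, -, -⟩ := exists_normal_step hR A ⊤ hlt
    have hBnc : ¬ IsCyclic B := by
      intro hB
      have hBab := comm_of_isCyclic_subgroup B hB
      have hBA : B ≤ A := by
        rw [← hCA]
        intro b hb
        rw [Subgroup.mem_centralizer_iff]
        intro a ha
        exact hBab a (hAB ha) b hb
      have := Subgroup.card_le_of_le hBA
      rw [hBc] at this
      have hpos : 0 < Nat.card A := Nat.card_pos
      have h2 : 2 * Nat.card A ≤ p * Nat.card A := Nat.mul_le_mul_right _ hp'.out.two_le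
      omega
    have hcycC : IsCyclic (A.subgroupOf B) := by
      have e := Subgroup.subgroupOfEquivOfLe hAB
      exact isCyclic_of_surjective e.symm e.symm.surjective
    have hidx : (A.subgroupOf B).index = p := by
      have h1 := Subgroup.card_mul_index (A.subgroupOf B)
      rw [Nat.card_congr (Subgroup.subgroupOfEquivOfLe hAB).toEquiv, hBc, mul_comm] at h1
      exact Nat.eq_of_mul_eq_mul_right Nat.card_pos h1
    have hBp : IsPGroup p B := hR.to_subgroup B
    have hcard := card_ker_powHomOfCyclicIndexP hp hBp hBnc (A.subgroupOf B) hcycC hidx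
    have hKmem : ∀ x : B, x ∈ (powHomOfCyclicIndexP hp hBp (A.subgroupOf B) hcycC hidx).ker ↔
        x ^ p = 1 := by
      intro x
      rw [MonoidHom.mem_ker, powHomOfCyclicIndexP_apply]
    set K := (powHomOfCyclicIndexP hp hBp (A.subgroupOf B) hcycC hidx).ker with hKdef
    have hcard' : Nat.card (K.map B.subtype) = p ^ 2 := by
      rw [Subgroup.card_map_of_injective B.subtype_injective, hcard]
    refine ⟨K.map B.subtype, ?_, ⟨?_, ?_⟩, hcard'⟩
    · constructor
      rintro _ ⟨x, hx, rfl⟩ g
      have hmem : g * (x : R) * g⁻¹ ∈ B := hBn.conj_mem _ x.2 g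
      refine ⟨⟨g * (x : R) * g⁻¹, hmem⟩, ?_, rfl⟩
      rw [SetLike.mem_coe, hKmem] at hx ⊢
      apply Subtype.ext
      have hx' : (x : R) ^ p = 1 := by simpa using congrArg Subtype.val hx
      show (g * (x : R) * g⁻¹) ^ p = 1
      rw [conj_pow, hx']; group
    · exact IsPGroup.isMulCommutative_of_card_eq_prime_sq hcard'
    · rintro _ ⟨x, hx, rfl⟩
      rw [SetLike.mem_coe, hKmem] at hx
      simpa using congrArg Subtype.val hx
  · -- A not cyclic
    have hAp : IsPGroup p A := hR.to_subgroup A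
    have hnot : ¬ AtMostOneOrderP p A := by
      intro h
      apply hcyc
      apply isCyclic_of_comm_of_atMostOne hAp h
      intro a b
      exact hAc.is_comm.comm a b
    unfold AtMostOneOrderP at hnot
    push Not at hnot
    obtain ⟨H₁, H₂, hH₁, hH₂, hne⟩ := hnot
    have hΩn := omegaOne_normal p A hA
    have hle : ∀ H : Subgroup A, Nat.card H = p → H.map A.subtype ≤ omegaOne p A hA := by
      rintro H hH _ ⟨x, hx, rfl⟩
      refine ⟨x.2, ?_⟩
      have := pow_card_eq_one' (G := H) (x := ⟨x, hx⟩)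
      rw [hH] at this
      have h2 : x ^ p = 1 := by simpa using congrArg Subtype.val this
      simpa using congrArg Subtype.val h2
    have hsq : p ^ 2 ≤ Nat.card (omegaOne p A hA) := by
      apply sq_le_card_of_two_order_p hR _ (H₁.map A.subtype) (H₂.map A.subtype)
        (hle H₁ hH₁) (hle H₂ hH₂)
      · rw [Subgroup.card_map_of_injective A.subtype_injective, hH₁]
      · rw [Subgroup.card_map_of_injective A.subtype_injective, hH₂]
      · intro h
        exact hne (Subgroup.map_injective A.subtype_injective h)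
    obtain ⟨M, hMn, hMle, hMc⟩ := exists_normal_card_pow hR (omegaOne p A hA) 2 hsq
    refine ⟨M, hMn, ⟨?_, ?_⟩, hMc⟩
    · exact IsPGroup.isMulCommutative_of_card_eq_prime_sq hMc
    · intro a ha
      exact (hMle ha).2

end Cfsg.Agent.S0126
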