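import Cfsg.Statements.S3736
import Mathlib
import Cfsg.Agent.Lib.H19.Basic
import Cfsg.Agent.Lib.H19.NormQuot
import Cfsg.Agent.Lib.H19.CoprimeHall
import Cfsg.Agent.Lib.H1.CoprimeAction
import Cfsg.Agent.Lib.H1.CoprimeAbelian
import Cfsg.Agent.Lib.H1.PGroupBasic
import Cfsg.Agent.Lib.H16.ClassTwo
import Cfsg.Agent.Lib.H16.PGroupCenter

set_option autoImplicit false
open Cfsg

namespace Cfsg.Agent.S3736

open Cfsg.Agent.Lib.H19 Cfsg.Agent.Lib.H1
open scoped commutatorElement

variable {X : Type*} [Group X]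

/-- whatever normalizes `H` and `K` normalizes `[H, K]` -/
theorem normalizer_inf_le_normalizer_commutator (H K : Subgroup X) :
    Subgroup.normalizer (H : Set X) ⊓ Subgroup.normalizer (K : Set X) ≤
      Subgroup.normalizer ((⁅H, K⁆ : Subgroup X) : Set X) := by
  intro g hg
  have hgH : g ∈ Subgroup.normalizer (H : Set X) := (Subgroup.mem_inf.1 hg).1
  have hgK : g ∈ Subgroup.normalizer (K : Set X) := (Subgroup.mem_inf.1 hg).2
  rw [mem_normalizer_iff_map_conj] at hgH hgK ⊢
  rw [Subgroup.map_commutator, hgH, hgK]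

/-- **Key lemma**: `P` a `p`-group with `[P, A] = P`, `A` a `p'`-group, `M ⊴ P` `A`-invariant with
`P/M` abelian. An element of `P` centralized by `A` modulo `M` lies in `M`. -/
theorem mem_of_commutator_mem [Finite X] {p : ℕ} [Fact p.Prime] {P A M : Subgroup X}
    (hP : IsPGroup p P) (hAP : A ≤ Subgroup.normalizer (P : Set X)) (hAp : (Nat.card A).Coprime p)
    (hPM : P ≤ Subgroup.normalizer (M : Set X)) (hAM : A ≤ Subgroup.normalizer (M : Set X))
    (hab : ⁅P, P⁆ ≤ M) (hPA : ⁅P, A⁆ = P) {u : X} (hu : u ∈ P) (h : ∀ a ∈ A, ⁅u, a⁆ ∈ M) :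
    u ∈ M := by
  have hcomm : IsMulCommutative (bar M P) := by
    refine ⟨⟨fun a b => ?_⟩⟩
    obtain ⟨x, hx, hxP, hxa⟩ := mem_bar.1 a.2
    obtain ⟨y, hy, hyP, hyb⟩ := mem_bar.1 b.2
    apply Subtype.ext
    rw [Subgroup.coe_mul, Subgroup.coe_mul, ← hxa, ← hyb]
    rw [← commutatorElement_eq_one_iff_mul_comm, ← map_commutatorElement]
    have hm : ⁅x, y⁆ ∈ Subgroup.normalizer (M : Set X) :=
      (Subgroup.normalizer (M : Set X)).mul_mem ((Subgroup.normalizer (M : Set X)).mul_mem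
          ((Subgroup.normalizer (M : Set X)).mul_mem hx hy)
          ((Subgroup.normalizer (M : Set X)).inv_mem hx))
          ((Subgroup.normalizer (M : Set X)).inv_mem hy)
    have h1 : ⁅(⟨x, hx⟩ : ↥(Subgroup.normalizer (M : Set X))),
        (⟨y, hy⟩ : ↥(Subgroup.normalizer (M : Set X)))⁆ = ⟨⁅x, y⁆, hm⟩ := rfl
    rw [h1, nqMk_eq_one_iff]
    exact hab (Subgroup.commutator_mem_commutator hxP hyP)
  have hnorm : bar M A ≤ Subgroup.normalizer ((bar M P : Subgroup (NQ M)) : Set (NQ M)) :=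
    bar_le_normalizer_bar hAP
  obtain ⟨k, hk⟩ := hP.exists_card_eq
  have hcop : (Nat.card (bar M A)).Coprime (Nat.card (bar M P)) := by
    apply Nat.Coprime.coprime_dvd_left (card_bar_dvd M A)
    apply Nat.Coprime.coprime_dvd_right (card_bar_dvd M P)
    rw [hk]; exact Nat.Coprime.pow_right k hAp
  have hkey := coprime_abelian_centralizer_inf_commutator hnorm hcop
  -- `[V, Ā] = V`
  have hVA : bar M P ≤ ⁅bar M P, bar M A⁆ := by
    have h1 : ⁅P, A⁆ ≤ lift M ⁅bar M P, bar M A⁆ := by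
      rw [Subgroup.commutator_le]
      intro x hx a ha
      have hxn := hPM hx
      have han := hAM ha
      have hm : ⁅x, a⁆ ∈ Subgroup.normalizer (M : Set X) :=
        (Subgroup.normalizer (M : Set X)).mul_mem ((Subgroup.normalizer (M : Set X)).mul_mem
          ((Subgroup.normalizer (M : Set X)).mul_mem hxn han)
          ((Subgroup.normalizer (M : Set X)).inv_mem hxn))
          ((Subgroup.normalizer (M : Set X)).inv_mem han)
      refine mem_lift.2 ⟨hm, ?_⟩
      have h2 : (⟨⁅x, a⁆, hm⟩ : ↥(Subgroup.normalizer (M : Set X))) =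
          ⁅(⟨x, hxn⟩ : ↥(Subgroup.normalizer (M : Set X))),
            (⟨a, han⟩ : ↥(Subgroup.normalizer (M : Set X)))⁆ := rfl
      rw [h2, map_commutatorElement]
      exact Subgroup.commutator_mem_commutator (nqMk_mem_bar hxn hx) (nqMk_mem_bar han ha)
    rw [hPA] at h1
    have h3 := bar_mono (N := M) h1
    rwa [bar_lift] at h3
  have hun := hPM hu
  have hmem : nqMk M ⟨u, hun⟩ ∈ (bar M P ⊓ Subgroup.centralizer ((bar M A : Subgroup (NQ M)) : Set (NQ M))) ⊓
      ⁅bar M P, bar M A⁆ := by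
    refine Subgroup.mem_inf.2 ⟨Subgroup.mem_inf.2 ⟨nqMk_mem_bar hun hu, ?_⟩,
      hVA (nqMk_mem_bar hun hu)⟩
    rw [Subgroup.mem_centralizer_iff]
    intro y hy
    obtain ⟨a, han, haA, rfl⟩ := mem_bar.1 hy
    symm
    rw [← commutatorElement_eq_one_iff_mul_comm, ← map_commutatorElement]
    have hm : ⁅u, a⁆ ∈ Subgroup.normalizer (M : Set X) :=
      (Subgroup.normalizer (M : Set X)).mul_mem ((Subgroup.normalizer (M : Set X)).mul_mem
        ((Subgroup.normalizer (M : Set X)).mul_mem hun han)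
        ((Subgroup.normalizer (M : Set X)).inv_mem hun))
        ((Subgroup.normalizer (M : Set X)).inv_mem han)
    have h2 : ⁅(⟨u, hun⟩ : ↥(Subgroup.normalizer (M : Set X))),
        (⟨a, han⟩ : ↥(Subgroup.normalizer (M : Set X)))⁆ = ⟨⁅u, a⁆, hm⟩ := rfl
    rw [h2, nqMk_eq_one_iff]
    exact h a haA
  rw [hkey, Subgroup.mem_bot, nqMk_eq_one_iff] at hmem
  exact hmem

theorem main [Finite X] {p : ℕ} [hp : Fact p.Prime] (B A P : Subgroup X) (hP : IsPGroup p P)
    (hBP : B ≤ Subgroup.normalizer (P : Set X)) (hAB : A ≤ B)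
    (hAn : B ≤ Subgroup.normalizer (A : Set X)) (hAp : (Nat.card A).Coprime p)
    (hnt : ⁅P, A⁆ ≠ ⊥)
    (hmin : ∀ U : Subgroup X, U < P → B ≤ Subgroup.normalizer (U : Set X) → ⁅U, A⁆ = ⊥) :
    ⁅P, A⁆ = P ∧ (Cfsg.IsElementaryAbelian p P ∨ Cfsg.IsSpecial p ↥P) ∧
    (∀ U : Subgroup X, (frattini ↥P).map P.subtype ≤ U → U ≤ P →
      B ≤ Subgroup.normalizer (U : Set X) → U = (frattini ↥P).map P.subtype ∨ U = P) ∧
    (p ≠ 2 → ∀ x ∈ P, x ^ p = 1) := by
  have hAP : A ≤ Subgroup.normalizer (P : Set X) := hAB.trans hBP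
  obtain ⟨k, hk⟩ := hP.exists_card_eq
  have hPsolv : Group.IsSolvable P := by
    have : Group.IsNilpotent P := hP.isNilpotent
    infer_instance
  have hcA : CoprimeAction A P :=
    ⟨hAP, by rw [hk]; exact Nat.Coprime.pow_right k hAp, Or.inr hPsolv⟩
  -- (i)
  have hPA : ⁅P, A⁆ = P := by
    by_contra hne
    have hlt : ⁅P, A⁆ < P := lt_of_le_of_ne hcA.commutator_le hne
    have hB : B ≤ Subgroup.normalizer ((⁅P, A⁆ : Subgroup X) : Set X) :=
      (le_inf hBP hAn).trans (normalizer_inf_le_normalizer_commutator P A)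
    have h1 := hmin _ hlt hB
    rw [coprime_commutator_commutator hcA] at h1
    exact hnt h1
  -- characteristic subgroups
  set Φ := (frattini ↥P).map P.subtype with hΦ
  have hΦP : Φ ≤ P := Subgroup.map_subtype_le _
  have hNΦ : Subgroup.normalizer (P : Set X) ≤ Subgroup.normalizer (Φ : Set X) :=
    normalizer_le_normalizer_map_of_characteristic _
  have hP'Φ : ⁅P, P⁆ ≤ Φ := by
    rw [← Subgroup.map_subtype_commutator]
    exact Subgroup.map_mono (isPGroup_commutator_le_frattini hP)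
  -- (iii)
  have hirr : ∀ U : Subgroup X, Φ ≤ U → U ≤ P → B ≤ Subgroup.normalizer (U : Set X) →
      U = Φ ∨ U = P := by
    intro U hΦU hUP hBU
    by_cases hUeq : U = P
    · exact Or.inr hUeq
    left
    have hUA := hmin U (lt_of_le_of_ne hUP hUeq) hBU
    apply le_antisymm _ hΦU
    intro u hu
    apply mem_of_commutator_mem hP hAP hAp (Subgroup.le_normalizer.trans hNΦ) (hAP.trans hNΦ)
      hP'Φ hPA (hUP hu)
    intro a ha
    have : ⁅u, a⁆ ∈ ⁅U, A⁆ := Subgroup.commutator_mem_commutator hu ha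
    rw [hUA, Subgroup.mem_bot] at this
    rw [this]; exact Φ.one_mem
  -- `x ^ p ∈ Φ`
  have hpowΦ : ∀ x ∈ P, x ^ p ∈ Φ := by
    intro x hx
    exact ⟨(⟨x, hx⟩ : P) ^ p, isPGroup_pow_mem_frattini hP _, rfl⟩
  by_cases hΦbot : Φ = ⊥
  · -- elementary abelian
    have hcomm : ∀ x ∈ P, ∀ y ∈ P, x * y = y * x := by
      intro x hx y hy
      have : ⁅x, y⁆ ∈ Φ := hP'Φ (Subgroup.commutator_mem_commutator hx hy)
      rw [hΦbot, Subgroup.mem_bot] at this
      exact commutatorElement_eq_one_iff_mul_comm.1 this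
    have hexp : ∀ x ∈ P, x ^ p = 1 := by
      intro x hx
      have := hpowΦ x hx
      rwa [hΦbot, Subgroup.mem_bot] at this
    refine ⟨hPA, Or.inl ⟨⟨⟨fun a b => Subtype.ext (hcomm a.1 a.2 b.1 b.2)⟩⟩, hexp⟩, hirr,
      fun _ => hexp⟩
  · -- special
    have hPbot : P ≠ ⊥ := by
      intro h
      apply hΦbot
      rw [eq_bot_iff, ← h]; exact hΦP
    have hΦlt : Φ < P := by
      apply lt_of_le_of_ne hΦP
      intro heq
      have hnt' : Nontrivial ↥P := (Subgroup.nontrivial_iff_ne_bot P).2 hPbot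
      rcases eq_top_or_exists_le_coatom (⊥ : Subgroup ↥P) with h | ⟨M, hM, -⟩
      · exact bot_ne_top h
      · have h1 : frattini ↥P ≤ M := frattini_le_coatom hM
        have h2 : (frattini ↥P) = ⊤ := by
          apply Subgroup.map_injective (Subgroup.subtype_injective P)
          rw [← hΦ, heq, ← MonoidHom.range_eq_map, Subgroup.range_subtype]
        rw [h2] at h1
        exact hM.1 (top_le_iff.1 h1)
    have hBΦ : B ≤ Subgroup.normalizer (Φ : Set X) := hBP.trans hNΦ
    have hΦA : ⁅Φ, A⁆ = ⊥ := hmin Φ hΦlt hBΦ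
    -- `[P, Φ] = 1`
    have hPΦ : ⁅P, Φ⁆ = ⊥ := by
      have hW : ⁅P, Φ⁆ ≤ Φ :=
        (Subgroup.le_normalizer_iff_commutator_le_left).1 (Subgroup.le_normalizer.trans hNΦ)
          |> fun h => by rw [Subgroup.commutator_comm]; exact h
      have hWlt : ⁅P, Φ⁆ < P := lt_of_le_of_lt hW hΦlt
      have hBW : B ≤ Subgroup.normalizer ((⁅P, Φ⁆ : Subgroup X) : Set X) :=
        (le_inf hBP hBΦ).trans (normalizer_inf_le_normalizer_commutator P Φ)
      have h1 : ⁅⁅P, Φ⁆, A⁆ = ⊥ := hmin _ hWlt hBW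
      have h2 : ⁅⁅Φ, A⁆, P⁆ = ⊥ := by rw [hΦA, Subgroup.commutator_bot_left]
      have h3 := Subgroup.commutator_commutator_eq_bot_of_rotate h1 h2
      rwa [Subgroup.commutator_comm A P, hPA] at h3
    -- the centre
    set Z := (Subgroup.center ↥P).map P.subtype with hZ
    have hZP : Z ≤ P := Subgroup.map_subtype_le _
    have hNZ : Subgroup.normalizer (P : Set X) ≤ Subgroup.normalizer (Z : Set X) :=
      normalizer_le_normalizer_map_of_characteristic _
    have hΦZ : Φ ≤ Z := by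
      intro z hz
      rw [hZ, Cfsg.Agent.Lib.H16.mem_map_center_iff]
      refine ⟨hΦP hz, fun r hr => ?_⟩
      have : ⁅r, z⁆ ∈ ⁅P, Φ⁆ := Subgroup.commutator_mem_commutator hr hz
      rw [hPΦ, Subgroup.mem_bot] at this
      exact commutatorElement_eq_one_iff_mul_comm.1 this
    have hΦcentA : ∀ z ∈ Φ, ∀ a ∈ A, a * z = z * a := by
      intro z hz a ha
      have : ⁅z, a⁆ ∈ ⁅Φ, A⁆ := Subgroup.commutator_mem_commutator hz ha
      rw [hΦA, Subgroup.mem_bot] at this
      exact (commutatorElement_eq_one_iff_mul_comm.1 this).symm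
    have hZΦ : Z = Φ := by
      rcases hirr Z hΦZ hZP (hBP.trans hNZ) with h | h
      · exact h
      · -- `P` abelian: contradiction
        exfalso
        apply hΦbot
        rw [eq_bot_iff]
        intro u hu
        have hab : ⁅P, P⁆ ≤ (⊥ : Subgroup X) := by
          rw [Subgroup.commutator_le]
          intro x hx y hy
          rw [Subgroup.mem_bot, commutatorElement_eq_one_iff_mul_comm]
          have hyZ : y ∈ Z := by rw [h]; exact hy
          rw [hZ, Cfsg.Agent.Lib.H16.mem_map_center_iff] at hyZ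
          exact hyZ.2 x hx
        have hbotn : ∀ S : Subgroup X, S ≤ Subgroup.normalizer ((⊥ : Subgroup X) : Set X) := by
          intro S s _
          rw [Subgroup.mem_normalizer_iff]
          intro x
          simp
        apply mem_of_commutator_mem hP hAP hAp (hbotn P) (hbotn A) hab hPA (hΦP hu)
        intro a ha
        have : ⁅u, a⁆ ∈ ⁅Φ, A⁆ := Subgroup.commutator_mem_commutator hu ha
        rwa [hΦA] at this
    -- `Φ ≤ P'`
    have hNP' : Subgroup.normalizer (P : Set X) ≤ Subgroup.normalizer ((⁅P, P⁆ : Subgroup X) : Set X) := by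
      have := normalizer_inf_le_normalizer_commutator P P
      rwa [inf_idem] at this
    have hΦP' : Φ ≤ ⁅P, P⁆ := by
      intro u hu
      apply mem_of_commutator_mem hP hAP hAp (Subgroup.le_normalizer.trans hNP') (hAP.trans hNP')
        le_rfl hPA (hΦP hu)
      intro a ha
      have : ⁅u, a⁆ ∈ ⁅Φ, A⁆ := Subgroup.commutator_mem_commutator hu ha
      rw [hΦA, Subgroup.mem_bot] at this
      rw [this]; exact Subgroup.one_mem _
    have hP'eq : ⁅P, P⁆ = Φ := le_antisymm hP'Φ hΦP'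
    have hspecial : Cfsg.IsSpecial p ↥P := by
      refine ⟨hP, ?_, ?_⟩
      · apply Subgroup.map_injective (Subgroup.subtype_injective P)
        rw [← hΦ, ← hZ, hZΦ]
      · apply Subgroup.map_injective (Subgroup.subtype_injective P)
        rw [Subgroup.map_subtype_commutator, ← hZ, hZΦ, hP'eq]
    refine ⟨hPA, Or.inr hspecial, hirr, ?_⟩
    -- exponent `p` for odd `p`
    intro hp2 x hx
    -- the power formula in `P`
    have hpow : ∀ x ∈ P, ∀ y ∈ P, (x * y) ^ p = x ^ p * y ^ p := by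
      intro x hx y hy
      set c := (x * y)⁻¹ * (y * x) with hc
      have hcP' : c ∈ ⁅P, P⁆ := by
        have : c = ⁅y⁻¹, x⁻¹⁆ := by rw [hc, commutatorElement_def]; group
        rw [this]
        exact Subgroup.commutator_mem_commutator (P.inv_mem hy) (P.inv_mem hx)
      have hcZ : c ∈ Z := by rw [hZΦ, ← hP'eq]; exact hcP'
      rw [hZ, Cfsg.Agent.Lib.H16.mem_map_center_iff] at hcZ
      have hyx : y * x = x * y * c := by rw [hc]; group
      have hcx : Commute c x := (hcZ.2 x hx).symm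
      have hcy : Commute c y := (hcZ.2 y hy).symm
      have hypow : Commute (y ^ p) x := by
        have h1 : y ^ p ∈ Z := hΦZ (hpowΦ y hy)
        rw [hZ, Cfsg.Agent.Lib.H16.mem_map_center_iff] at h1
        exact (h1.2 x hx).symm
      have hcp : c ^ p = 1 := Cfsg.Agent.Lib.H16.pow_eq_one_of_pow_commute hyx hcy hypow
      rw [Cfsg.Agent.Lib.H16.mul_pow_of_central hyx hcx hcy p]
      have hodd : Odd p := hp.out.odd_of_ne_two hp2
      obtain ⟨j, hj⟩ := hodd
      have h2 : p * (p - 1) / 2 = p * j := by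
        have : p - 1 = 2 * j := by omega
        rw [this, ← mul_assoc, mul_comm p 2, mul_assoc, Nat.mul_div_cancel_left _ (by norm_num : 0 < 2)]
      rw [h2, pow_mul, hcp, one_pow, mul_one]
    -- `Ω`
    let Ω : Subgroup X :=
      { carrier := {x | x ∈ P ∧ x ^ p = 1}
        mul_mem' := by
          rintro a b ⟨ha, ha'⟩ ⟨hb, hb'⟩
          exact ⟨P.mul_mem ha hb, by rw [hpow a ha b hb, ha', hb', one_mul]⟩
        one_mem' := ⟨P.one_mem, one_pow _⟩
        inv_mem' := by
          rintro a ⟨ha, ha'⟩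
          exact ⟨P.inv_mem ha, by rw [inv_pow, ha', inv_one]⟩ }
    have hPΩ : ⁅P, A⁆ ≤ Ω := by
      rw [Subgroup.commutator_le]
      intro y hy a ha
      have hconj : a * y⁻¹ * a⁻¹ ∈ P := (Subgroup.mem_normalizer_iff.1 (hAP ha) _).1 (P.inv_mem hy)
      have hmem : ⁅y, a⁆ ∈ P := by
        have : ⁅y, a⁆ = y * (a * y⁻¹ * a⁻¹) := by rw [commutatorElement_def]; group
        rw [this]; exact P.mul_mem hy hconj
      refine ⟨hmem, ?_⟩
      have e1 : ⁅y, a⁆ = y * (a * y⁻¹ * a⁻¹) := by rw [commutatorElement_def]; group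
      rw [e1, hpow y hy _ hconj, conj_pow, inv_pow]
      have h3 := hΦcentA (y ^ p) (hpowΦ y hy) a ha
      have h4 : a * (y ^ p)⁻¹ * a⁻¹ = (y ^ p)⁻¹ := by
        calc a * (y ^ p)⁻¹ * a⁻¹ = (a * y ^ p * a⁻¹)⁻¹ := by group
          _ = (y ^ p * a * a⁻¹)⁻¹ := by rw [h3]
          _ = (y ^ p)⁻¹ := by group
      rw [h4, mul_inv_cancel]
    rw [hPA] at hPΩ
    exact (hPΩ hx).2

/-- The Hall–Higman reduction for a minimal non-trivial action. Let B, A and P be subgroups of a finite group with P a p-group, B normalizing P, and A a normal subgroup of B of order prime to p. Suppose A does not centralize P but centralizes every proper B-invariant subgroup of P. Then [P, A] = P; P is elementary abelian or special; B acts irreducibly on P/Φ(P), that is, the only B-invariant subgroups of P containing Φ(P) are Φ(P) and P; and if p is odd then every element of P has order dividing p. -/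
theorem result {X : Type*} [Group X] [Finite X] {p : ℕ} [Fact p.Prime] (B A P : Subgroup X) (hP : IsPGroup p P) (hBP : B ≤ Subgroup.normalizer (P : Set X)) (hAB : A ≤ B) (hAn : B ≤ Subgroup.normalizer (A : Set X)) (hAp : (Nat.card A).Coprime p) (hnt : ⁅P, A⁆ ≠ ⊥) (hmin : ∀ U : Subgroup X, U < P → B ≤ Subgroup.normalizer (U : Set X) → ⁅U, A⁆ = ⊥) : ⁅P, A⁆ = P ∧ (Cfsg.IsElementaryAbelian p P ∨ Cfsg.IsSpecial p ↥P) ∧ (∀ U : Subgroup X, (frattini ↥P).map P.subtype ≤ U → U ≤ P → B ≤ Subgroup.normalizer (U : Set X) → U = (frattini ↥P).map P.subtype ∨ U = P) ∧ (p ≠ 2 → ∀ x ∈ P, x ^ p = 1) :=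
  main B A P hP hBP hAB hAn hAp hnt hmin

end Cfsg.Agent.S3736
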