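import Cfsg.Statements.S3785
import Mathlib
import Cfsg.Agent.S3736
import Cfsg.Agent.Lib.H1.Fitting
import Cfsg.Agent.Lib.H1.PCore
import Cfsg.Agent.Lib.H16.SolvableCore
import Cfsg.Agent.Lib.H7.FStar

set_option autoImplicit false
open Cfsg

namespace Cfsg.Agent.S3785

open Cfsg.Agent.Lib.H1
open scoped commutatorElement

variable {X : Type*} [Group X]

/-- `p` odd, `x` a `p'`-element normalizing the `p`-group `P` and centralizing its elements of
order `p`: then `x` centralizes `P`. -/
theorem centralizes_of_centralizes_order_p [Finite X] {p : ℕ} [hp : Fact p.Prime] (hp2 : p ≠ 2)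
    {P : Subgroup X} (hP : IsPGroup p P) {x : X} (hxP : x ∈ Subgroup.normalizer (P : Set X))
    (hxp : (orderOf x).Coprime p) (hx : ∀ y ∈ P, orderOf y = p → x * y = y * x) :
    ∀ y ∈ P, x * y = y * x := by
  set A := Subgroup.zpowers x with hA
  have hAcard : Nat.card A = orderOf x := Nat.card_zpowers x
  by_contra hcon
  push Not at hcon
  obtain ⟨y0, hy0P, hy0⟩ := hcon
  have hnt : ⁅P, A⁆ ≠ ⊥ := by
    intro h
    apply hy0
    have : ⁅y0, x⁆ ∈ ⁅P, A⁆ := Subgroup.commutator_mem_commutator hy0P (Subgroup.mem_zpowers x)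
    rw [h, Subgroup.mem_bot, commutatorElement_eq_one_iff_mul_comm] at this
    exact this.symm
  have hAP : A ≤ Subgroup.normalizer (P : Set X) := by
    rw [hA, Subgroup.zpowers_le]; exact hxP
  let S : Set (Subgroup X) := {Q | Q ≤ P ∧ A ≤ Subgroup.normalizer (Q : Set X) ∧ ⁅Q, A⁆ ≠ ⊥}
  have hSne : S.Nonempty := ⟨P, le_rfl, hAP, hnt⟩
  obtain ⟨Q, ⟨hQP, hAQ, hQnt⟩, hQmin⟩ := wellFounded_lt.has_min S hSne
  have hQp : IsPGroup p Q := hP.to_le hQP
  have hmain := Cfsg.Agent.S3736.main A A Q hQp hAQ le_rfl Subgroup.le_normalizer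
    (by rw [hAcard]; exact hxp) hQnt (by
      intro U hUQ hAU
      by_contra hne
      exact hQmin U ⟨hUQ.le.trans hQP, hAU, hne⟩ hUQ)
  have hexp := hmain.2.2.2 hp2
  apply hQnt
  rw [eq_bot_iff, Subgroup.commutator_le]
  intro y hy a ha
  rw [Subgroup.mem_bot, commutatorElement_eq_one_iff_mul_comm]
  obtain ⟨k, rfl⟩ := Subgroup.mem_zpowers_iff.1 ha
  have hyp : y ^ p = 1 := hexp y hy
  have hxy : x * y = y * x := by
    rcases (Nat.dvd_prime hp.out).1 (orderOf_dvd_of_pow_eq_one hyp) with h1 | h1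
    · rw [orderOf_eq_one_iff] at h1; rw [h1, mul_one, one_mul]
    · exact hx y (hQP hy) h1
  exact ((Commute.zpow_left (show Commute x y from hxy) k).eq).symm

/-- an element lies in a subgroup as soon as its prime-power parts do -/
theorem mem_of_prime_power_parts (S : Subgroup X) :
    ∀ n : ℕ, ∀ y : X, orderOf y = n → 0 < n →
      (∀ z ∈ Subgroup.zpowers y, ∀ p k : ℕ, p.Prime → p ∣ orderOf y → orderOf z = p ^ k → z ∈ S) →
      y ∈ S := by
  intro n
  induction n using Nat.strong_induction_on with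
  | _ n ih =>
    intro y hyn hn0 h
    by_cases hn1 : n = 1
    · rw [hn1, orderOf_eq_one_iff] at hyn
      rw [hyn]; exact S.one_mem
    have hp : (n.minFac).Prime := Nat.minFac_prime hn1
    set p := n.minFac with hpdef
    have hpn : p ∣ n := Nat.minFac_dvd n
    obtain ⟨e, m, hpm, hnm⟩ := Nat.exists_eq_pow_mul_and_not_dvd hn0.ne' p hp.ne_one
    have hm0 : 0 < m := by
      rcases Nat.eq_zero_or_pos m with h0 | h0
      · rw [h0, mul_zero] at hnm; omega
      · exact h0
    have he : e ≠ 0 := by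
      rintro rfl
      rw [pow_zero, one_mul] at hnm
      rw [hnm] at hpn; exact hpm hpn
    have hpe : 1 < p ^ e := Nat.one_lt_pow he hp.one_lt
    have hpe0 : p ^ e ≠ 0 := by omega
    have hmn : m < n := by rw [hnm]; nlinarith
    have ho1 : orderOf (y ^ m) = p ^ e := by
      rw [orderOf_pow_of_dvd hm0.ne' (by rw [hyn, hnm]; exact dvd_mul_left _ _), hyn, hnm,
        Nat.mul_div_cancel _ hm0]
    have ho2 : orderOf (y ^ (p ^ e)) = m := by
      rw [orderOf_pow_of_dvd hpe0 (by rw [hyn, hnm]; exact dvd_mul_right _ _), hyn, hnm,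
        Nat.mul_div_cancel_left _ (by omega)]
    have h1 : y ^ m ∈ S :=
      h _ (Subgroup.pow_mem _ (Subgroup.mem_zpowers y) m) p e hp (hyn ▸ hpn) ho1
    have h2 : y ^ (p ^ e) ∈ S := by
      apply ih m hmn _ ho2 hm0
      intro z hz p' k hp' hp'm hzo
      refine h z ?_ p' k hp' ?_ hzo
      · exact (Subgroup.zpowers_le.2 (Subgroup.pow_mem _ (Subgroup.mem_zpowers y) _)) hz
      · rw [ho2] at hp'm; rw [hyn, hnm]; exact hp'm.trans (dvd_mul_left _ _)
    have hcop : Nat.Coprime (p ^ e) m :=
      Nat.Coprime.pow_left e ((Nat.Prime.coprime_iff_not_dvd hp).2 hpm)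
    have hb := Nat.gcd_eq_gcd_ab (p ^ e) m
    rw [hcop.gcd_eq_one] at hb
    have hy : y = (y ^ (p ^ e)) ^ (Nat.gcdA (p ^ e) m) * (y ^ m) ^ (Nat.gcdB (p ^ e) m) := by
      rw [← zpow_natCast y (p ^ e), ← zpow_natCast y m, ← zpow_mul, ← zpow_mul, ← zpow_add, ← hb]
      simp
    rw [hy]
    exact S.mul_mem (S.zpow_mem h2 _) (S.zpow_mem h1 _)

/-- a `p`-element of the Fitting subgroup lies in `O_p` -/
theorem mem_pCore_of_mem_fitting [Finite X] {p : ℕ} [hp : Fact p.Prime] {x : X}
    (hx : x ∈ fittingSubgroup X) {k : ℕ} (hxo : orderOf x = p ^ k) : x ∈ pCore p X := by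
  set N := fittingSubgroup X with hN
  have hnil : Group.IsNilpotent N := fittingSubgroup_isNilpotent
  have hNn : N.Normal := fittingSubgroup_normal X
  have hZ : IsPGroup p (Subgroup.zpowers (⟨x, hx⟩ : N)) := by
    apply IsPGroup.of_card (n := k)
    rw [Nat.card_zpowers, Subgroup.orderOf_mk, hxo]
  obtain ⟨Q, hQ⟩ := hZ.exists_le_sylow
  have hPn : (Q : Subgroup N).Normal := inferInstance
  have hPc : (Q : Subgroup N).Characteristic := Sylow.characteristic_of_normal Q hPn
  have hnorm : ((Q : Subgroup N).map N.subtype).Normal :=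
    ConjAct.normal_of_characteristic_of_normal
  have hpg : IsPGroup p ((Q : Subgroup N).map N.subtype) := Q.isPGroup'.map _
  have hle := le_pCore hnorm hpg
  apply hle
  exact ⟨⟨x, hx⟩, hQ (Subgroup.mem_zpowers _), rfl⟩

theorem normal_centralizer_of_conj_invariant {T : Set X}
    (hT : ∀ h z, z ∈ T → h⁻¹ * z * h ∈ T) : (Subgroup.centralizer T).Normal := by
  refine ⟨fun r hr h => ?_⟩
  rw [Subgroup.mem_centralizer_iff] at hr ⊢
  intro z hz
  have e := hr _ (hT h z hz)
  calc z * (h * r * h⁻¹) = h * (h⁻¹ * z * h * r) * h⁻¹ := by group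
    _ = h * (r * (h⁻¹ * z * h)) * h⁻¹ := by rw [e]
    _ = h * r * h⁻¹ * z := by group

theorem main {G : Type*} [Group G] [Finite G] (hG : Group.IsSolvable G)
    (hodd : Odd (Nat.card (fittingSubgroup G))) (g : G)
    (hg : ∀ x ∈ fittingSubgroup G, (orderOf x).Prime → g * x = x * g) :
    g ∈ fittingSubgroup G := by
  set F := fittingSubgroup G with hF
  have hFn : F.Normal := fittingSubgroup_normal G
  let T0 : Set G := {x | x ∈ F ∧ (orderOf x).Prime}
  have hT0 : ∀ h z, z ∈ T0 → h⁻¹ * z * h ∈ T0 := by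
    rintro h z ⟨hz, hzo⟩
    refine ⟨?_, ?_⟩
    · have := hFn.conj_mem z hz h⁻¹
      rwa [inv_inv] at this
    · have : orderOf (MulAut.conj h⁻¹ z) = orderOf z := MulEquiv.orderOf_eq _ _
      rw [MulAut.conj_apply, inv_inv] at this
      rw [this]; exact hzo
  set C := Subgroup.centralizer T0 with hC
  have hCn : C.Normal := normal_centralizer_of_conj_invariant hT0
  have hgC : g ∈ C := by
    rw [hC, Subgroup.mem_centralizer_iff]
    rintro x ⟨hx, hxo⟩
    exact (hg x hx hxo).symm
  have hC1 : ∀ (p : ℕ) [Fact p.Prime], ∀ y ∈ C, (orderOf y).Coprime p →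
      ∀ z ∈ pCore p G, y * z = z * y := by
    intro p hp y hyC hyp
    have hPg : IsPGroup p (pCore p G) := pCore_isPGroup p G
    have hPn : (pCore p G).Normal := pCore_normal p G
    have hPF : pCore p G ≤ F := le_fittingSubgroup hPn hPg.isNilpotent
    by_cases hp2 : p = 2
    · obtain ⟨k, hk⟩ := hPg.exists_card_eq
      have hdvd : Nat.card (pCore p G) ∣ Nat.card F := Subgroup.card_dvd_of_le hPF
      have hk0 : k = 0 := by
        by_contra hk0
        have : 2 ∣ Nat.card F := by
          rw [hk, hp2] at hdvd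
          exact (dvd_pow_self 2 hk0).trans hdvd
        exact (Nat.not_even_iff_odd.2 hodd) (even_iff_two_dvd.2 this)
      rw [hk0, pow_zero] at hk
      have hbot : pCore p G = ⊥ := Subgroup.card_eq_one.1 hk
      intro z hz
      rw [hbot, Subgroup.mem_bot] at hz
      rw [hz, mul_one, one_mul]
    · apply centralizes_of_centralizes_order_p hp2 hPg _ hyp
      · intro z hz hzo
        rw [hC, Subgroup.mem_centralizer_iff] at hyC
        exact (hyC z ⟨hPF hz, by rw [hzo]; exact hp.out⟩).symm
      · rw [Subgroup.normalizer_eq_top_iff.2 hPn]; trivial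
  have hCF : Subgroup.centralizer (F : Set G) ≤ F := by
    have h2 := Cfsg.Agent.Lib.H7.centralizer_generalizedFittingSubgroup_le (G := G)
    have h1 : generalizedFittingSubgroup G = F := by
      unfold generalizedFittingSubgroup
      rw [Cfsg.Agent.Lib.H16.layer_eq_bot_of_isSolvable hG, bot_sup_eq]
    rwa [h1] at h2
  apply mem_of_prime_power_parts F (orderOf g) g rfl (orderOf_pos g)
  intro x hxg q k hq _ hxo
  have hxC : x ∈ C := (Subgroup.zpowers_le.2 hgC) hxg
  have hqf : Fact q.Prime := ⟨hq⟩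
  let Tq : Set G := {z | ∃ p : ℕ, p.Prime ∧ p ≠ q ∧ z ∈ pCore p G}
  have hTq : ∀ h z, z ∈ Tq → h⁻¹ * z * h ∈ Tq := by
    rintro h z ⟨p, hp, hpq, hz⟩
    refine ⟨p, hp, hpq, ?_⟩
    have := (pCore_normal p G).conj_mem z hz h⁻¹
    rwa [inv_inv] at this
  set R := C ⊓ Subgroup.centralizer Tq with hR
  have hRn : R.Normal := by
    have := normal_centralizer_of_conj_invariant hTq
    exact Subgroup.normal_inf_normal _ _
  have hxR : x ∈ R := by
    refine Subgroup.mem_inf.2 ⟨hxC, ?_⟩
    rw [Subgroup.mem_centralizer_iff]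
    rintro z ⟨p, hp, hpq, hz⟩
    have : Fact p.Prime := ⟨hp⟩
    refine (hC1 p x hxC ?_ z hz).symm
    rw [hxo]; exact Nat.Coprime.pow_left k ((Nat.coprime_primes hq hp).2 (Ne.symm hpq))
  have hcent : ∀ y ∈ R, (orderOf y).Coprime q → ∀ r ∈ R, r * y = y * r := by
    intro y hyR hyq
    have hyC : y ∈ C := (Subgroup.mem_inf.1 hyR).1
    have hyT : y ∈ Subgroup.centralizer Tq := (Subgroup.mem_inf.1 hyR).2
    have h1 : ∀ p : Nat.Primes, pCore (p : ℕ) G ≤
        Subgroup.centralizer ((Subgroup.zpowers y : Subgroup G) : Set G) := by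
      intro p z hz
      have : Fact (p : ℕ).Prime := ⟨p.2⟩
      rw [Subgroup.mem_centralizer_iff]
      intro w hw
      obtain ⟨j, rfl⟩ := Subgroup.mem_zpowers_iff.1 hw
      have hyz : y * z = z * y := by
        by_cases hpq : (p : ℕ) = q
        · exact hC1 q y hyC hyq z (hpq ▸ hz)
        · rw [Subgroup.mem_centralizer_iff] at hyT
          exact (hyT z ⟨p, p.2, hpq, hz⟩).symm
      exact (Commute.zpow_left (show Commute y z from hyz) j).eq
    have h2 : F ≤ Subgroup.centralizer ((Subgroup.zpowers y : Subgroup G) : Set G) := by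
      rw [hF, fittingSubgroup_eq_iSup_pCore]
      exact iSup_le h1
    have hyF : y ∈ F := by
      apply hCF
      rw [Subgroup.mem_centralizer_iff]
      intro z hz
      have := h2 hz
      rw [Subgroup.mem_centralizer_iff] at this
      exact (this y (Subgroup.mem_zpowers y)).symm
    have h3 : y ∈ Subgroup.centralizer (R : Set G) := by
      apply mem_of_prime_power_parts _ (orderOf y) y rfl (orderOf_pos y)
      intro z hz p j hp hpy hzo
      have : Fact p.Prime := ⟨hp⟩
      have hpq : p ≠ q := by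
        rintro rfl
        exact hp.one_lt.ne' (hyq.symm.eq_one_of_dvd hpy)
      have hzF : z ∈ F := (Subgroup.zpowers_le.2 hyF) hz
      have hzp : z ∈ pCore p G := mem_pCore_of_mem_fitting hzF hzo
      rw [Subgroup.mem_centralizer_iff]
      intro r hr
      have hrT := (Subgroup.mem_inf.1 hr).2
      rw [Subgroup.mem_centralizer_iff] at hrT
      exact (hrT z ⟨p, hp, hpq, hzp⟩).symm
    intro r hr
    rw [Subgroup.mem_centralizer_iff] at h3
    exact h3 r hr
  have hRnil : Group.IsNilpotent R := by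
    apply Group.of_quotient_center_nilpotent
    have hpq : IsPGroup q (↥R ⧸ Subgroup.center ↥R) := by
      intro a
      induction a using QuotientGroup.induction_on with
      | H r =>
        obtain ⟨e, m, hqm, hnm⟩ :=
          Nat.exists_eq_pow_mul_and_not_dvd (orderOf_pos (r : G)).ne' q hq.ne_one
        refine ⟨e, ?_⟩
        rw [← QuotientGroup.mk_pow, QuotientGroup.eq_one_iff, Subgroup.mem_center_iff]
        intro s
        have hqe0 : q ^ e ≠ 0 := pow_ne_zero _ hq.ne_zero
        have ho : orderOf ((r : G) ^ (q ^ e)) = m := by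
          rw [orderOf_pow_of_dvd hqe0 (by rw [hnm]; exact dvd_mul_right _ _), hnm,
            Nat.mul_div_cancel_left _ (Nat.pos_of_ne_zero hqe0)]
        have := hcent ((r : G) ^ (q ^ e)) (R.pow_mem r.2 _)
          (by rw [ho]; exact ((Nat.Prime.coprime_iff_not_dvd hq).2 hqm).symm) s s.2
        exact Subtype.ext this
    exact hpq.isNilpotent
  exact le_fittingSubgroup hRn hRnil hxR

/-- Let G be a finite solvable group whose Fitting subgroup F(G) has odd order. If an element g of G commutes with every element of prime order of F(G), then g ∈ F(G). -/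
theorem result {G : Type*} [Group G] [Finite G] (hG : Group.IsSolvable G) (hodd : Odd (Nat.card (Cfsg.fittingSubgroup G))) (g : G) (hg : ∀ x ∈ Cfsg.fittingSubgroup G, (orderOf x).Prime → g * x = x * g) : g ∈ Cfsg.fittingSubgroup G :=
  main hG hodd g hg

end Cfsg.Agent.S3785
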