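import Cfsg.Statements.S1281
import Cfsg.Agent.Lib.H7.CoprimeFactor

set_option autoImplicit false
open Cfsg
open Cfsg.Agent.Lib.H7
set_option autoImplicit false

namespace Cfsg.Agent.S1281

/-- Let θ be a solvable A-signalizer functor on the finite group G (A a noncyclic elementary abelian p-subgroup) and N a normal subgroup of order prime to p. Then for all non-identity a, b ∈ A, the image of θ a in G / N meets the centralizer of the image of b inside the image of θ b. -/
theorem result {G : Type*} [Group G] [Finite G] (p : ℕ) [Fact p.Prime] (A : Subgroup G) (hA : Cfsg.IsElementaryAbelian p A) (hA2 : p ^ 2 ≤ Nat.card ↥A) (θ : G → Subgroup G) (hθ : Cfsg.IsSolvableSignalizerFunctor p A θ) (N : Subgroup G) [N.Normal] (hN : ¬ p ∣ Nat.card ↥N) (a b : G) (ha : a ∈ A) (ha1 : a ≠ 1) (hb : b ∈ A) (hb1 : b ≠ 1) : (θ a).map (QuotientGroup.mk' N) ⊓ Subgroup.centralizer {QuotientGroup.mk' N b} ≤ (θ b).map (QuotientGroup.mk' N) := by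
  have hp : p.Prime := Fact.out
  obtain ⟨⟨hcen, hcard, hinv, hbal⟩, -⟩ := hθ
  rintro q ⟨⟨t, ht, rfl⟩, hq⟩
  have ht : t ∈ θ a := ht
  have hq : QuotientGroup.mk' N t ∈ Subgroup.centralizer {QuotientGroup.mk' N b} := hq
  have hTc : (Nat.card (θ a)).Coprime p :=
    ((Nat.Prime.coprime_iff_not_dvd hp).2 (hcard a ha ha1)).symm
  have hMc : (Nat.card (θ a ⊓ N : Subgroup G)).Coprime p :=
    Nat.Coprime.coprime_dvd_left (Subgroup.card_dvd_of_le inf_le_left) hTc
  have hPp : IsPGroup p (Subgroup.zpowers b) := isPGroup_zpowers_of_pow_eq_one p (hA.2 b hb)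
  have hPT : Subgroup.zpowers b ≤ Subgroup.normalizer ((θ a : Subgroup G) : Set G) :=
    zpowers_le_normalizer_of_conj_mem (hinv a ha ha1 b hb)
  have hNn : ∀ K : Subgroup G, K ≤ Subgroup.normalizer (N : Set G) := by
    intro K
    rw [Subgroup.normalizer_eq_top]; exact le_top
  have hPM : Subgroup.zpowers b ≤ Subgroup.normalizer ((θ a ⊓ N : Subgroup G) : Set G) :=
    le_normalizer_inf hPT (hNn _)
  have htM : t ∈ Subgroup.normalizer ((θ a ⊓ N : Subgroup G) : Set G) :=
    le_normalizer_inf (Subgroup.le_normalizer) (hNn _) ht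
  have hcomm : ∀ u ∈ Subgroup.zpowers b, t * u * t⁻¹ * u⁻¹ ∈ θ a ⊓ N := by
    intro u hu
    constructor
    · have h2 : t * u * t⁻¹ * u⁻¹ = t * (u * t⁻¹ * u⁻¹) := by group
      rw [h2]
      exact (θ a).mul_mem ht ((Subgroup.mem_normalizer_iff.1 (hPT hu) _).1 ((θ a).inv_mem ht))
    · show t * u * t⁻¹ * u⁻¹ ∈ N
      rw [← QuotientGroup.eq_one_iff, ← QuotientGroup.mk'_apply]
      have hq' : QuotientGroup.mk' N t ∈
          Subgroup.centralizer (Subgroup.zpowers (QuotientGroup.mk' N b) : Set (G ⧸ N)) := by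
        rw [← centralizer_singleton_eq_centralizer_zpowers]; exact hq
      have hu' : QuotientGroup.mk' N u ∈ Subgroup.zpowers (QuotientGroup.mk' N b) := by
        obtain ⟨k, rfl⟩ := Subgroup.mem_zpowers_iff.1 hu
        rw [map_zpow]; exact Subgroup.zpow_mem_zpowers _ k
      have h3 := Subgroup.mem_centralizer_iff.1 hq' _ hu'
      simp only [map_mul, map_inv]
      rw [← h3]; group
  obtain ⟨n, hn, htn⟩ := exists_mul_mem_centralizer_of_commutator_mem p hMc hPp hPM htM hcomm
  refine ⟨t * n, ?_, ?_⟩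
  · apply hbal a ha ha1 b hb hb1
    refine ⟨(θ a).mul_mem ht hn.1, ?_⟩
    rw [centralizer_singleton_eq_centralizer_zpowers]; exact htn
  · rw [map_mul]
    have : QuotientGroup.mk' N n = 1 := by
      rw [QuotientGroup.mk'_apply, QuotientGroup.eq_one_iff]; exact hn.2
    rw [this, mul_one]

end Cfsg.Agent.S1281
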