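import Cfsg.Statements.S2803
import Cfsg.Agent.Lib.H14.PReduced3
import Cfsg.Agent.Lib.H14.Amalgam5

set_option autoImplicit false
open Cfsg

namespace Cfsg.Agent.S2803

open Cfsg.Agent.Lib.H14 in
theorem aux {L : Type*} [Group L] [Finite L] {p : ℕ} [Fact p.Prime]
    (hchar : Subgroup.centralizer (Cfsg.pCore p L : Set L) ≤ Cfsg.pCore p L) (T : Sylow p L)
    (Y : Subgroup L)
    (hY : (Cfsg.IsPReducedNormal p Y ∧ ∀ V : Subgroup L, Cfsg.IsPReducedNormal p V → V ≤ Y)) :
    (∀ g : L, ∃ a ∈ Subgroup.normalizer (((T : Subgroup L) ⊓ Subgroup.centralizer (Y : Set L) : Subgroup L) : Set L),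
      ∃ c ∈ Subgroup.centralizer (Y : Set L), g = a * c) ∧
    (Cfsg.pCore p ↥(Subgroup.normalizer (((T : Subgroup L) ⊓ Subgroup.centralizer (Y : Set L) : Subgroup L) : Set L))).map
      (Subgroup.normalizer (((T : Subgroup L) ⊓ Subgroup.centralizer (Y : Set L) : Subgroup L) : Set L)).subtype =
        (T : Subgroup L) ⊓ Subgroup.centralizer (Y : Set L) ∧
    Y = Cfsg.omegaOne p (((T : Subgroup L) ⊓ Subgroup.centralizer (Y : Set L)) ⊓
      Subgroup.centralizer ((((T : Subgroup L) ⊓ Subgroup.centralizer (Y : Set L)) : Subgroup L) : Set L)) := by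
  obtain ⟨hYred, hYmax⟩ := hY
  have hYred' := hYred
  rw [isPReducedNormal_iff] at hYred'
  obtain ⟨hYn, hYe, hYr⟩ := hYred'
  set C := Subgroup.centralizer (Y : Set L) with hC
  have hCn : C.Normal := centralizer_normal_of_normal Y
  set TL := (T : Subgroup L) ⊓ C with hTL
  set N := Subgroup.normalizer (TL : Set L) with hN
  have hsup : N ⊔ C = ⊤ := by
    have := Sylow.normalizer_sup_eq_top (sylowInf T C)
    rw [sylowInf_map] at this
    exact this
  have hTN : (T : Subgroup L) ≤ N := by
    apply le_nzr_inf _ _ _ Subgroup.le_normalizer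
    rw [Subgroup.normalizer_eq_top_iff.mpr hCn]; exact le_top
  -- Y ≤ T_L
  have hYp : IsPGroup p Y := isPGroup_of_isElementaryAbelian Y hYe
  have hYO : Y ≤ Cfsg.pCore p L := le_pCore_of_normal_isPGroup Y hYn hYp
  have hYT : Y ≤ (T : Subgroup L) := hYO.trans (pCore_le_sylow T)
  have hYC : Y ≤ C := by
    intro y hy
    rw [Subgroup.mem_centralizer_iff]
    intro z hz
    exact congrArg Subtype.val (hYe.1.is_comm.comm ⟨z, hz⟩ ⟨y, hy⟩)
  have hYTL : Y ≤ TL := le_inf hYT hYC
  -- reducedness relative to N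
  have hYrN : RedCritIn p N Y := by
    apply redCritIn_transfer ⊤ N Y ((redCrit_iff_redCritIn_top Y).mp hYr)
    · rw [Subgroup.normalizer_eq_top_iff.mpr hYn]
    · rw [hsup]; simp
  refine ⟨?_, ?_, ?_⟩
  · intro g
    have hg : g ∈ ((N ⊔ C : Subgroup L) : Set L) := by rw [hsup]; trivial
    rw [Subgroup.mul_normal] at hg
    obtain ⟨a, ha, c, hc, rfl⟩ := Set.mem_mul.mp hg
    exact ⟨a, ha, c, hc, rfl⟩
  · apply le_antisymm
    · have h1 : Cfsg.pCoreOf p N ≤ C := by
        apply hYrN _ (pCoreOf_le p N) (pCoreOf_normalized p N)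
        intro d hd
        obtain ⟨k, hk⟩ := (pCoreOf_isPGroup p N) ⟨d, hd⟩
        refine ⟨k, ?_⟩
        have hk' := congrArg Subtype.val hk
        simp only [SubgroupClass.coe_pow, OneMemClass.coe_one] at hk'
        rw [hk']; exact Subgroup.one_mem _
      have h2 : Cfsg.pCoreOf p N ≤ (T : Subgroup L) := by
        have := pCore_le_sylow (T.subtype hTN)
        rw [Sylow.coe_subtype] at this
        unfold Cfsg.pCoreOf
        rintro x ⟨y, hy, rfl⟩
        have := this hy
        rw [Subgroup.mem_subgroupOf] at this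
        exact this
      exact le_inf h2 h1
    · exact le_pCoreOf p N TL Subgroup.le_normalizer le_rfl (T.2.to_le inf_le_left)
  · apply le_antisymm
    · intro y hy
      apply Subgroup.subset_closure
      refine ⟨Subgroup.mem_inf.mpr ⟨hYTL hy, ?_⟩, hYe.2 y hy⟩
      rw [Subgroup.mem_centralizer_iff]
      intro z hz
      exact (Subgroup.mem_centralizer_iff.mp hz.2 y hy).symm
    · set X := Cfsg.omegaOne p (TL ⊓ Subgroup.centralizer (TL : Set L)) with hX
      have hXN : X ≤ N := ((omegaOne_le p _).trans inf_le_left).trans Subgroup.le_normalizer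
      have hNX : N ≤ Subgroup.normalizer (X : Set L) := nzr_le_nzr_oz p TL
      have hXe : Cfsg.IsElementaryAbelian p X := isElementaryAbelian_oz p TL
      have hYX : Y ≤ X := by
        intro y hy
        apply Subgroup.subset_closure
        refine ⟨Subgroup.mem_inf.mpr ⟨hYTL hy, ?_⟩, hYe.2 y hy⟩
        rw [Subgroup.mem_centralizer_iff]
        intro z hz
        exact (Subgroup.mem_centralizer_iff.mp hz.2 y hy).symm
      have hCX : Subgroup.centralizer (X : Set L) ≤ C :=
        Subgroup.centralizer_le (show (Y : Set L) ⊆ (X : Set L) from fun y hy => hYX hy)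
      have hTLX : TL ≤ Subgroup.centralizer (X : Set L) := by
        intro t ht
        rw [Subgroup.mem_centralizer_iff]
        intro x hx
        exact ((mem_oz_props p TL x hx).2.1 t ht).symm
      have hXr : RedCritIn p N X := by
        intro D hDN hND hpow
        have hDC : D ≤ C := by
          apply hYrN D hDN hND
          intro d hd
          obtain ⟨k, hk⟩ := hpow d hd
          exact ⟨k, hCX hk⟩
        -- pass to the group N
        have hDn : (D.subgroupOf N).Normal := by
          rw [Subgroup.normal_subgroupOf_iff_le_normalizer hDN]; exact hND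
        have := le_of_sylow_inf_le (D.subgroupOf N) (T.subtype hTN)
          ((Subgroup.centralizer (X : Set L)).subgroupOf N) (by
            intro x hx
            rw [Sylow.coe_subtype] at hx
            obtain ⟨h1, h2⟩ := Subgroup.mem_inf.mp hx
            rw [Subgroup.mem_subgroupOf] at h1 h2 ⊢
            exact hTLX ⟨h1, hDC h2⟩) (by
            intro x hx hc
            rw [Subgroup.mem_subgroupOf] at hx ⊢
            obtain ⟨k, hk⟩ := hpow _ hx
            apply mem_of_pow_mem_of_coprime p _ _ _ k hk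
            rwa [Subgroup.orderOf_coe])
        intro d hd
        have h1 : (⟨d, hDN hd⟩ : ↥N) ∈ D.subgroupOf N := by rw [Subgroup.mem_subgroupOf]; exact hd
        have h2 := this h1
        rw [Subgroup.mem_subgroupOf] at h2
        exact h2
      have hXred : Cfsg.IsPReducedNormal p (X.subgroupOf N) :=
        (isPReducedNormal_subgroupOf_iff N X hXN).mpr ⟨hNX, hXe, hXr⟩
      have := isPReducedNormal_normalClosure hchar T N hTN (X.subgroupOf N) hXred
      rw [Subgroup.map_subgroupOf_eq_of_le hXN] at this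
      exact Subgroup.le_normalClosure.trans (hYmax _ this)

/-- Let L be a finite group and p a prime with C_L(O_p(L)) ≤ O_p(L), T a Sylow p-subgroup, and Y the largest p-reduced normal subgroup of L. Put T_L = C_T(Y) and L_T = N_L(T_L). Then L = L_T · C_L(Y) (elementwise), T_L = O_p(L_T), and Y = Ω₁(Z(T_L)). -/
theorem result {L : Type*} [Group L] [Finite L] {p : ℕ} [Fact p.Prime] (hchar : Subgroup.centralizer (Cfsg.pCore p L : Set L) ≤ Cfsg.pCore p L) (T : Sylow p L) (Y : Subgroup L) (hY : (Cfsg.IsPReducedNormal p Y ∧ ∀ V : Subgroup L, Cfsg.IsPReducedNormal p V → V ≤ Y)) (TL : Subgroup L) (hTL : TL = (T : Subgroup L) ⊓ Subgroup.centralizer (Y : Set L)) : (∀ g : L, ∃ a ∈ Subgroup.normalizer (TL : Set L), ∃ c ∈ Subgroup.centralizer (Y : Set L), g = a * c) ∧ (Cfsg.pCore p ↥(Subgroup.normalizer (TL : Set L))).map (Subgroup.normalizer (TL : Set L)).subtype = TL ∧ Y = Cfsg.omegaOne p (TL ⊓ Subgroup.centralizer (TL : Set L)) := by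
    subst hTL
    exact aux hchar T Y hY

end Cfsg.Agent.S2803
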