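import Cfsg.Statements.S2848
import Cfsg.Agent.Lib.H14.PReduced4
import Cfsg.Agent.Lib.H14.WeaklyClosed2

set_option autoImplicit false
open Cfsg

namespace Cfsg.Agent.S2848

open Cfsg.Agent.Lib.H14 in
/-- `O_p(M) = S ∩ C_G(Y_M)` when `C_M(Y_M)` is `p`-closed. -/
theorem pCoreOf_eq {G : Type*} [Group G] [Finite G] {p : ℕ} [Fact p.Prime] (S : Sylow p G)
    (M : Subgroup G) (hSM : (S : Subgroup G) ≤ M)
    (hcl : Cfsg.IsPClosed p ↥(M ⊓ Subgroup.centralizer (Cfsg.largestPReducedOf p M : Set G))) :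
    Cfsg.pCoreOf p M = (S : Subgroup G) ⊓ Subgroup.centralizer (Cfsg.largestPReducedOf p M : Set G) := by
  obtain ⟨h1, h2, h3⟩ := largestPReducedOf_props (p := p) M
  set Y := Cfsg.largestPReducedOf p M with hY
  set C := Subgroup.centralizer (Y : Set G) with hC
  set D := M ⊓ C with hD
  have hMC : M ≤ Subgroup.normalizer (C : Set G) := h1.trans (nzr_le_nzr_centralizer Y)
  have hMD : M ≤ Subgroup.normalizer (D : Set G) := le_nzr_inf M M C Subgroup.le_normalizer hMC
  apply le_antisymm
  · exact le_inf (pCoreOf_le_sylow S M hSM) (pCoreOf_le_centralizer_largestPReducedOf M)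
  · have hSD : (S : Subgroup G) ⊓ C = (S : Subgroup G) ⊓ D := by
      apply le_antisymm
      · exact le_inf inf_le_left (le_inf (inf_le_left.trans hSM) inf_le_right)
      · exact le_inf inf_le_left (inf_le_right.trans inf_le_right)
    rw [hSD]
    obtain ⟨P, hP⟩ := exists_sylow_inf_of_le_normalizer S D (hSM.trans hMD)
    have hPn : (P : Subgroup ↥D).Normal := hcl P
    have huniq := Sylow.unique_of_normal P hPn
    apply le_pCoreOf p M _ (inf_le_left.trans hSM) _ (S.2.to_le inf_le_left)
    apply le_nzr_of_conj_mem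
    intro m hm x hx
    -- the conjugate of S ⊓ D by m is a p-subgroup of D
    have hconjD : ((S : Subgroup G) ⊓ D).map (cj m) ≤ D := by
      have : D.map (cj m) = D := map_cj_eq_of_mem_nzr D m (hMD hm)
      exact (Subgroup.map_mono inf_le_right).trans this.le
    have hconjp : IsPGroup p (((S : Subgroup G) ⊓ D).map (cj m)) :=
      (S.2.to_le inf_le_left).map _
    obtain ⟨P', hP'⟩ := (hconjp.comap_subtype (K := D)).exists_le_sylow
    have hPP' : P' = P := Subsingleton.elim _ _
    have hxm : m * x * m⁻¹ ∈ ((S : Subgroup G) ⊓ D).map (cj m) := ⟨x, hx, by simp [MulAut.conj_apply]⟩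
    have hmem : (⟨m * x * m⁻¹, hconjD hxm⟩ : ↥D) ∈ (P' : Subgroup ↥D) := hP' hxm
    rw [hPP', hP, Subgroup.mem_subgroupOf] at hmem
    exact hmem

/-- Standing hypotheses: G a finite group, S a Sylow p-subgroup, Q a nontrivial large p-subgroup of G contained in S (C_G(Q) ≤ Q and N_G(U) ≤ N_G(Q) for all nontrivial U ≤ C_G(Q)), and M a subgroup containing S with the basic property (M ∈ 𝔐_G(S)); Y_M denotes the largest p-reduced normal subgroup of M and M† = M·C_G(Y_M). Then O_p(M) is a weakly closed subgroup of M† (for p): it is the only M†-conjugate of itself inside some Sylow p-subgroup of M† containing it. -/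
theorem result {G : Type*} [Group G] [Finite G] {p : ℕ} [Fact p.Prime] (S : Sylow p G) (Q : Subgroup G) (hQp : IsPGroup p ↥Q) (hQ1 : Q ≠ ⊥) (hQS : Q ≤ (S : Subgroup G)) (hQ : Cfsg.IsLarge Q) (M : Subgroup G) (hSM : (S : Subgroup G) ≤ M) (hM : Cfsg.IsInFrakM p M) : Cfsg.IsWeaklyClosedSubgroup p (((Cfsg.pCoreOf p M)).subgroupOf (M ⊔ Subgroup.centralizer (((Cfsg.largestPReducedOf p M) : Subgroup G) : Set G))) := by
    obtain ⟨hM1, hM2, hM3, hM4, hM5, hM6⟩ := hM
    have hO := pCoreOf_eq S M hSM hM5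
    obtain ⟨h1, h2, h3⟩ := Cfsg.Agent.Lib.H14.largestPReducedOf_props (p := p) M
    set Y := Cfsg.largestPReducedOf p M with hY
    set C := Subgroup.centralizer (Y : Set G) with hC
    set Md := M ⊔ C with hMd
    set O := Cfsg.pCoreOf p M with hOdef
    have hSMd : (S : Subgroup G) ≤ Md := hSM.trans le_sup_left
    have hOS : O ≤ (S : Subgroup G) := hO.le.trans inf_le_left
    have hOC : O ≤ C := hO.le.trans inf_le_right
    have hOMd : O ≤ Md := hOS.trans hSMd
    have hMdC : Md ≤ Subgroup.normalizer (C : Set G) :=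
      sup_le (h1.trans (Cfsg.Agent.Lib.H14.nzr_le_nzr_centralizer Y)) Subgroup.le_normalizer
    refine ⟨S.subtype hSMd, ?_, ?_⟩
    · rw [Sylow.coe_subtype]
      intro x hx
      rw [Subgroup.mem_subgroupOf] at hx ⊢
      exact hOS hx
    · intro g hg
      rw [Sylow.coe_subtype] at hg
      apply Subgroup.map_injective Md.subtype_injective
      rw [Cfsg.Agent.Lib.H14.map_subtype_map_cj, Subgroup.map_subgroupOf_eq_of_le hOMd]
      have h4 := Subgroup.map_mono (f := Md.subtype) hg
      rw [Cfsg.Agent.Lib.H14.map_subtype_map_cj, Subgroup.map_subgroupOf_eq_of_le hOMd,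
        Subgroup.map_subgroupOf_eq_of_le hSMd] at h4
      have h5 : O.map (Cfsg.Agent.Lib.H14.cj (g : G)) ≤ C := by
        have : C.map (Cfsg.Agent.Lib.H14.cj (g : G)) = C :=
          Cfsg.Agent.Lib.H14.map_cj_eq_of_mem_nzr C g (hMdC g.2)
        rw [← this]
        exact Subgroup.map_mono hOC
      have h6 : O.map (Cfsg.Agent.Lib.H14.cj (g : G)) ≤ O := (le_inf h4 h5).trans hO.ge
      apply Subgroup.eq_of_le_of_card_ge h6
      have hinj : Function.Injective (Cfsg.Agent.Lib.H14.cj (g : G)) := (MulAut.conj (g : G)).injective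
      rw [Nat.card_congr (O.equivMapOfInjective _ hinj).toEquiv]

end Cfsg.Agent.S2848
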