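import Cfsg.Statements.S2821
import Cfsg.Agent.Lib.H14.PReduced4

set_option autoImplicit false
open Cfsg

namespace Cfsg.Agent.S2821

/-- Let H be a finite group, p a prime, T a Sylow p-subgroup and L a subgroup of characteristic p containing T; let Y_L be the largest p-reduced normal subgroup of L (the join of the normal elementary abelian p-subgroups V of L with O_p(L/C_L(V)) = 1). Then T₀ := C_T(Y_L) is a Sylow p-subgroup of C_H(Y_L); moreover O_p(L) ≤ T₀ ≤ C_L(Y_L) and Ω₁(Z(T)) ≤ Z_L ≤ Y_L ≤ Ω₁(Z(O_p(L))), where Z_L is generated by the Ω₁(Z(S)) over the Sylow p-subgroups S of L. -/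
theorem result {H : Type*} [Group H] [Finite H] {p : ℕ} [Fact p.Prime] (T : Sylow p H) (L : Subgroup H) (hTL : (T : Subgroup H) ≤ L) (hL : Subgroup.centralizer (Cfsg.pCore p ↥L : Set ↥L) ≤ Cfsg.pCore p ↥L) (T₀ : Subgroup H) (hT₀ : T₀ = (T : Subgroup H) ⊓ Subgroup.centralizer (((Cfsg.largestPReducedOf p L) : Subgroup H) : Set H)) : (∃ P : Sylow p ↥(Subgroup.centralizer (((Cfsg.largestPReducedOf p L) : Subgroup H) : Set H)), (P : Subgroup ↥(Subgroup.centralizer (((Cfsg.largestPReducedOf p L) : Subgroup H) : Set H))) = T₀.subgroupOf (Subgroup.centralizer (((Cfsg.largestPReducedOf p L) : Subgroup H) : Set H))) ∧ (Cfsg.pCoreOf p L) ≤ T₀ ∧ T₀ ≤ L ⊓ Subgroup.centralizer (((Cfsg.largestPReducedOf p L) : Subgroup H) : Set H) ∧ (Cfsg.omegaOne p ((T : Subgroup H) ⊓ Subgroup.centralizer (((T : Subgroup H) : Subgroup H) : Set H))) ≤ Cfsg.sylowCenterClosure p L ∧ Cfsg.sylowCenterClosure p L ≤ (Cfsg.largestPReducedOf p L) ∧ (Cfsg.largestPReducedOf p L) ≤ (Cfsg.omegaOne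 p ((Cfsg.pCoreOf p L) ⊓ Subgroup.centralizer (((Cfsg.pCoreOf p L) : Subgroup H) : Set H))) := by
    subst hT₀
    obtain ⟨h1, h2, h3⟩ := Cfsg.Agent.Lib.H14.largestPReducedOf_props (p := p) L
    set Y := Cfsg.largestPReducedOf p L with hY
    have hOC := Cfsg.Agent.Lib.H14.pCoreOf_le_centralizer_largestPReducedOf (p := p) L
    have hOT := Cfsg.Agent.Lib.H14.pCoreOf_le_sylow T L hTL
    have hYO := Cfsg.Agent.Lib.H14.largestPReducedOf_le_pCoreOf (p := p) L
    refine ⟨?_, le_inf hOT hOC, inf_le_inf_right _ hTL, ?_, ?_, ?_⟩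
    · apply Cfsg.Agent.Lib.H14.exists_sylow_inf_of_le_normalizer T
      exact (hTL.trans h1).trans (Cfsg.Agent.Lib.H14.nzr_le_nzr_centralizer _)
    · unfold Cfsg.sylowCenterClosure
      have hmap : ((T.subtype hTL : Sylow p ↥L) : Subgroup ↥L).map L.subtype = (T : Subgroup H) := by
        rw [Sylow.coe_subtype, Subgroup.map_subgroupOf_eq_of_le hTL]
      have := le_iSup (fun S : Sylow p ↥L => Cfsg.omegaOne p (((S : Subgroup ↥L).map L.subtype) ⊓
        Subgroup.centralizer (((S : Subgroup ↥L).map L.subtype : Subgroup H) : Set H))) (T.subtype hTL)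
      simp only [hmap] at this
      exact this
    · unfold Cfsg.sylowCenterClosure
      apply iSup_le
      intro S
      unfold Cfsg.omegaOne
      rw [Subgroup.closure_le]
      rintro x ⟨⟨⟨x₀, hx₀, rfl⟩, hxC⟩, hxp⟩
      have hx₀C : x₀ ∈ Subgroup.centralizer ((S : Subgroup ↥L) : Set ↥L) := by
        rw [Cfsg.Agent.Lib.H14.mem_centralizer_map_subtype_iff]
        exact hxC
      have hx₀p : x₀ ^ p = 1 := by
        apply Subtype.ext
        simpa using hxp
      have hmem : x₀ ∈ Cfsg.omegaOne p ((S : Subgroup ↥L) ⊓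
          Subgroup.centralizer ((S : Subgroup ↥L) : Set ↥L)) :=
        Subgroup.subset_closure ⟨⟨hx₀, hx₀C⟩, hx₀p⟩
      exact ⟨x₀, Cfsg.Agent.Lib.H14.oz_sylow_le_largestPReduced hL S hmem, rfl⟩
    · intro y hy
      apply Subgroup.subset_closure
      refine ⟨Subgroup.mem_inf.mpr ⟨hYO hy, ?_⟩, h2.2 y hy⟩
      rw [Subgroup.mem_centralizer_iff]
      intro z hz
      exact (Subgroup.mem_centralizer_iff.mp (hOC hz) y hy).symm

end Cfsg.Agent.S2821
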