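import Cfsg.Statements.S2824
import Cfsg.Agent.Lib.H14.PReduced10

set_option autoImplicit false
open Cfsg

namespace Cfsg.Agent.S2824

/-- Let H be a finite group, p a prime, T a Sylow p-subgroup, L and M subgroups of characteristic p containing T, Y_L the largest p-reduced normal subgroup of L and T₀ = C_T(Y_L). If M·C_H(Y_L) = L·C_H(Y_L), then L* := N_M(T₀) has Y_{L*} = Y_L and L·C_H(Y_L) = L*·C_H(Y_L). -/
theorem result {H : Type*} [Group H] [Finite H] {p : ℕ} [Fact p.Prime] (T : Sylow p H) (L M : Subgroup H) (hTL : (T : Subgroup H) ≤ L) (hTM : (T : Subgroup H) ≤ M) (hL : Subgroup.centralizer (Cfsg.pCore p ↥L : Set ↥L) ≤ Cfsg.pCore p ↥L) (hM : Subgroup.centralizer (Cfsg.pCore p ↥M : Set ↥M) ≤ Cfsg.pCore p ↥M) (T₀ : Subgroup H) (hT₀ : T₀ = (T : Subgroup H) ⊓ Subgroup.centralizer (((Cfsg.largestPReducedOf p L) : Subgroup H) : Set H)) (hfac : M ⊔ Subgroup.centralizer (((Cfsg.largestPReducedOf p L) : Subgroup H) : Set H) = L ⊔ Subgroup.centralizer (((Cfsg.largestPReducedOf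 p L) : Subgroup H) : Set H)) (Ls : Subgroup H) (hLs : Ls = M ⊓ Subgroup.normalizer ((T₀ : Subgroup H) : Set H)) : (Cfsg.largestPReducedOf p Ls) = (Cfsg.largestPReducedOf p L) ∧ L ⊔ Subgroup.centralizer (((Cfsg.largestPReducedOf p L) : Subgroup H) : Set H) = Ls ⊔ Subgroup.centralizer (((Cfsg.largestPReducedOf p L) : Subgroup H) : Set H) := by
    subst hT₀ hLs
    obtain ⟨h1, h2, h3⟩ := Cfsg.Agent.Lib.H14.largestPReducedOf_props (p := p) L
    set Y := Cfsg.largestPReducedOf p L with hY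
    set C := Subgroup.centralizer ((Y : Subgroup H) : Set H) with hC
    have hYO := Cfsg.Agent.Lib.H14.largestPReducedOf_le_pCoreOf (p := p) L
    have hYT : Y ≤ (T : Subgroup H) := hYO.trans (Cfsg.Agent.Lib.H14.pCoreOf_le_sylow T L hTL)
    have hYC : Y ≤ C := by
      intro y hy
      rw [hC, Subgroup.mem_centralizer_iff]
      intro z hz
      exact congrArg Subtype.val (h2.1.is_comm.comm ⟨z, hz⟩ ⟨y, hy⟩)
    have hCY : C ≤ Subgroup.normalizer ((Y : Subgroup H) : Set H) :=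
      Subgroup.centralizer_le_normalizer _
    have hMY : M ≤ Subgroup.normalizer ((Y : Subgroup H) : Set H) :=
      (le_sup_left.trans hfac.le).trans (sup_le h1 hCY)
    have hMC : M ≤ Subgroup.normalizer ((C : Subgroup H) : Set H) :=
      hMY.trans (Cfsg.Agent.Lib.H14.nzr_le_nzr_centralizer Y)
    have hMred : Cfsg.Agent.Lib.H14.RedCritIn p M Y :=
      Cfsg.Agent.Lib.H14.redCritIn_transfer L M Y h3 h1 hfac
    -- the Frattini argument
    have hfr := Cfsg.Agent.Lib.H14.le_nzr_sylow_inf_sup T M C hTM hMC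
    have hsup : (M ⊓ Subgroup.normalizer ((((T : Subgroup H) ⊓ C : Subgroup H)) : Set H)) ⊔ C = M ⊔ C := by
      apply le_antisymm
      · exact sup_le_sup_right inf_le_left C
      · exact sup_le hfr le_sup_right
    have hTN : (T : Subgroup H) ≤ Subgroup.normalizer ((((T : Subgroup H) ⊓ C : Subgroup H)) : Set H) :=
      Cfsg.Agent.Lib.H14.le_nzr_inf _ _ _ Subgroup.le_normalizer (hTM.trans hMC)
    have hTLs : (T : Subgroup H) ≤ M ⊓ Subgroup.normalizer ((((T : Subgroup H) ⊓ C : Subgroup H)) : Set H) :=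
      le_inf hTM hTN
    refine ⟨?_, by rw [hsup, hfac]⟩
    apply le_antisymm
    · -- `Y_{L*} ≤ Ω₁(Z(T₀)) = Y`
      set Ls := M ⊓ Subgroup.normalizer ((((T : Subgroup H) ⊓ C : Subgroup H)) : Set H) with hLs
      obtain ⟨k1, k2, k3⟩ := Cfsg.Agent.Lib.H14.largestPReducedOf_props (p := p) Ls
      have hT0O : (T : Subgroup H) ⊓ C ≤ Cfsg.pCoreOf p Ls :=
        Cfsg.Agent.Lib.H14.le_pCoreOf p Ls _ (inf_le_left.trans hTLs) inf_le_right
          (T.2.to_le inf_le_left)
      have hcent := Cfsg.Agent.Lib.H14.pCoreOf_le_centralizer_largestPReducedOf (p := p) Ls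
      have hYsT : Cfsg.largestPReducedOf p Ls ≤ (T : Subgroup H) :=
        (Cfsg.Agent.Lib.H14.largestPReducedOf_le_pCoreOf (p := p) Ls).trans
          (Cfsg.Agent.Lib.H14.pCoreOf_le_sylow T Ls hTLs)
      have hYsC0 : Cfsg.largestPReducedOf p Ls ≤
          Subgroup.centralizer ((((T : Subgroup H) ⊓ C : Subgroup H)) : Set H) := by
        rw [Subgroup.le_centralizer_iff]
        exact hT0O.trans hcent
      have hYsC : Cfsg.largestPReducedOf p Ls ≤ C := by
        rw [hC]
        exact hYsC0.trans (Subgroup.centralizer_le (SetLike.coe_subset_coe.mpr (le_inf hYT hYC)))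
      have hoz : Y = Cfsg.omegaOne p ((((T : Subgroup H) ⊓ C) ⊓
          Subgroup.centralizer ((((T : Subgroup H) ⊓ C : Subgroup H)) : Set H))) :=
        Cfsg.Agent.Lib.H14.largestPReducedOf_eq_oz T L hTL hL
      rw [hoz]
      intro y hy
      apply Subgroup.subset_closure
      exact ⟨⟨⟨hYsT hy, hYsC hy⟩, hYsC0 hy⟩, k2.2 y hy⟩
    · apply Cfsg.Agent.Lib.H14.le_largestPReducedOf _ _ (hYT.trans hTLs) (inf_le_left.trans hMY) h2
      exact Cfsg.Agent.Lib.H14.redCritIn_transfer M _ Y hMred hMY hsup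

end Cfsg.Agent.S2824
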