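import Mathlib
import Cfsg.Statements.S4370
import Cfsg.Agent.Lib.H22.UniqueInvolution
import Cfsg.Agent.Lib.H22.NilpotentCoprime

set_option autoImplicit false
open Cfsg

namespace Cfsg.Agent.S4370

open Cfsg.Agent.Lib.H22

universe u

/-- transport "abelian subgroups are cyclic" to a subgroup. -/
theorem abelian_cyclic_subgroup {G : Type*} [Group G]
    (hab : ∀ B : Subgroup G, (∀ a ∈ B, ∀ b ∈ B, a * b = b * a) → IsCyclic B) (L : Subgroup G) :
    ∀ B : Subgroup L, (∀ a ∈ B, ∀ b ∈ B, a * b = b * a) → IsCyclic B := by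
  intro B hB
  have h1 : ∀ a ∈ B.map L.subtype, ∀ b ∈ B.map L.subtype, a * b = b * a := by
    rintro _ ⟨a, ha, rfl⟩ _ ⟨b, hb, rfl⟩
    rw [← map_mul, ← map_mul, hB a ha b hb]
  have h2 := hab _ h1
  exact isCyclic_of_injective (B.equivMapOfInjective L.subtype L.subtype_injective).toMonoidHom
    (B.equivMapOfInjective L.subtype L.subtype_injective).injective

theorem forward {G : Type u} [Group G] [Finite G] (hG : Group.IsNilpotent G)
    (hna : ¬ IsMulCommutative G)
    (hcyc : ∀ x : G, x ∉ Subgroup.center G → IsCyclic (Subgroup.centralizer ({x} : Set G))) :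
    ∃ (k m : ℕ), 1 ≤ k ∧ Odd m ∧
      Nonempty (G ≃* QuaternionGroup (2 ^ k) × Multiplicative (ZMod m)) := by
  have : Fact (Nat.Prime 2) := ⟨Nat.prime_two⟩
  -- (a) abelian subgroups are cyclic
  obtain ⟨x₀, hx₀⟩ : ∃ x : G, x ∉ Subgroup.center G := by
    by_contra hne
    push Not at hne
    apply hna
    refine ⟨⟨fun a b => ?_⟩⟩
    exact (Subgroup.mem_center_iff.mp (hne b) a)
  have hab : ∀ B : Subgroup G, (∀ a ∈ B, ∀ b ∈ B, a * b = b * a) → IsCyclic B := by
    intro B hB
    by_cases hBZ : B ≤ Subgroup.center G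
    · have hle : B ≤ Subgroup.centralizer {x₀} := hBZ.trans (Subgroup.center_le_centralizer _)
      have := hcyc x₀ hx₀
      exact Subgroup.isCyclic_of_le hle
    · obtain ⟨x, hxB, hxZ⟩ := SetLike.not_le_iff_exists.mp hBZ
      have hle : B ≤ Subgroup.centralizer {x} := by
        intro b hb
        rw [Subgroup.mem_centralizer_iff]
        intro h hh
        rw [Set.mem_singleton_iff] at hh
        rw [hh]
        exact hB x hxB b hb
      have := hcyc x hxZ
      exact Subgroup.isCyclic_of_le hle
  -- (b) the Sylow 2-subgroup and its complement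
  let P : Sylow 2 G := default
  have hPn : (P : Subgroup G).Normal := inferInstance
  obtain ⟨H, hPH⟩ := Subgroup.exists_right_complement'_of_coprime (N := (P : Subgroup G))
    (Sylow.card_coprime_index P)
  have hcard := hPH.card_mul_card
  have hHidx : Nat.card H = (P : Subgroup G).index := by
    have h1 := Subgroup.card_mul_index (P : Subgroup G)
    rw [← hcard] at h1
    exact (Nat.eq_of_mul_eq_mul_left Nat.card_pos h1).symm
  have hHodd : Odd (Nat.card H) := by
    rw [hHidx, ← Nat.not_even_iff_odd, even_iff_two_dvd]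
    exact Sylow.not_dvd_index P
  have hPp : IsPGroup 2 (P : Subgroup G) := P.isPGroup'
  -- (e) P and H commute
  have hcomm : ∀ u ∈ (P : Subgroup G), ∀ h ∈ H, u * h = h * u := by
    intro u hu h hh
    apply commute_of_coprime_orderOf _ G rfl
    obtain ⟨k, hk⟩ := hPp ⟨u, hu⟩
    have h1 : orderOf u ∣ 2 ^ k := by
      apply orderOf_dvd_of_pow_eq_one
      have := congrArg Subtype.val hk
      simpa using this
    have h2 : orderOf h ∣ Nat.card H := by
      have := orderOf_dvd_natCard (⟨h, hh⟩ : H)
      rwa [Subgroup.orderOf_mk] at this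
    exact Nat.Coprime.of_dvd h1 h2 (Nat.Coprime.pow_left k (Nat.coprime_two_left.mpr hHodd))
  -- (h) H is abelian, hence cyclic
  have hHab : ∀ a b : H, a * b = b * a := by
    apply comm_of_sylow_comm
    intro q hq S a b
    have hSp : IsPGroup q (S : Subgroup H) := S.isPGroup'
    have hab' := abelian_cyclic_subgroup (abelian_cyclic_subgroup hab H) (S : Subgroup H)
    have hamo := atMostOne_of_abelian_cyclic hSp hab'
    by_cases hq2 : q = 2
    · subst hq2
      -- S is trivial
      obtain ⟨j, hj⟩ := (IsPGroup.iff_card).mp hSp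
      have hdvd : Nat.card (S : Subgroup H) ∣ Nat.card H := Subgroup.card_subgroup_dvd_card _
      have hj0 : j = 0 := by
        by_contra hj0
        have : 2 ∣ Nat.card H := by
          apply Dvd.dvd.trans _ hdvd
          rw [hj]
          exact dvd_pow_self 2 hj0
        rw [← even_iff_two_dvd, ← Nat.not_odd_iff_even] at this
        exact this hHodd
      rw [hj0, pow_zero] at hj
      have : Subsingleton (S : Subgroup H) := (Nat.card_eq_one_iff_unique.mp hj).1
      rw [Subsingleton.elim a b]
    · have hc := isCyclic_of_atMostOne_of_odd hq2 _ (S : Subgroup H) rfl hSp hamo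
      let _ := IsCyclic.commGroup (α := (S : Subgroup H))
      exact mul_comm a b
  have hHcyc : IsCyclic H := by
    apply hab
    intro a ha b hb
    exact congrArg Subtype.val (hHab ⟨a, ha⟩ ⟨b, hb⟩)
  -- (f) P has at most one involution
  have hamoP : AtMostOneOrderP 2 (P : Subgroup G) :=
    atMostOne_of_abelian_cyclic hPp (abelian_cyclic_subgroup hab (P : Subgroup G))
  -- (i) the isomorphism G ≃* P × H
  let f : ↥(P : Subgroup G) × ↥H →* G :=
    { toFun := fun x => (x.1 : G) * (x.2 : G)
      map_one' := by simp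
      map_mul' := by
        rintro ⟨u₁, h₁⟩ ⟨u₂, h₂⟩
        show ((u₁ * u₂ : (P : Subgroup G)) : G) * ((h₁ * h₂ : H) : G) = (u₁ : G) * h₁ * ((u₂ : G) * h₂)
        have := hcomm u₂ u₂.2 h₁ h₁.2
        simp only [Subgroup.coe_mul]
        calc (u₁ : G) * u₂ * (h₁ * h₂) = u₁ * (u₂ * h₁) * h₂ := by group
          _ = u₁ * (h₁ * u₂) * h₂ := by rw [this]
          _ = _ := by group }
  have hfbij : Function.Bijective f := hPH
  let e₀ : G ≃* ↥(P : Subgroup G) × ↥H := (MulEquiv.ofBijective f hfbij).symm
  -- P is not commutative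
  have hPnc : ¬ ∀ a b : (P : Subgroup G), a * b = b * a := by
    intro hPc
    apply hna
    refine ⟨⟨fun a b => ?_⟩⟩
    have : ∀ s t : ↥(P : Subgroup G) × ↥H, s * t = t * s := by
      rintro ⟨u₁, h₁⟩ ⟨u₂, h₂⟩
      ext
      · exact congrArg Subtype.val (hPc u₁ u₂)
      · exact congrArg Subtype.val (hHab h₁ h₂)
    have h1 := this (e₀ a) (e₀ b)
    rw [← map_mul, ← map_mul] at h1
    exact e₀.injective h1
  rcases cyclic_or_quaternion_of_atMostOne hPp hamoP with hc | ⟨k, hk, ⟨e₁⟩⟩
  · exfalso
    apply hPnc
    intro a b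
    let _ := IsCyclic.commGroup (α := (P : Subgroup G))
    exact mul_comm a b
  · refine ⟨k, Nat.card H, hk, hHodd, ⟨?_⟩⟩
    exact e₀.trans (MulEquiv.prodCongr e₁ (zmodCyclicMulEquiv hHcyc).symm)

theorem zmod_add_self_eq_zero (n : ℕ) [NeZero n] (j : ZMod (2 * n)) (h : j + j = 0) :
    j = 0 ∨ j = (n : ZMod (2 * n)) := by
  have hn : 0 < n := NeZero.pos n
  have h1 := congrArg ZMod.val h
  rw [ZMod.val_add, ZMod.val_zero] at h1
  have h2 : 2 * n ∣ j.val + j.val := Nat.dvd_of_mod_eq_zero h1
  have h3 : j.val < 2 * n := ZMod.val_lt j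
  have h4 : n ∣ j.val := by
    obtain ⟨c, hc⟩ := h2
    exact ⟨c, by nlinarith⟩
  obtain ⟨c, hc⟩ := h4
  have hj := ZMod.natCast_zmod_val j
  have hc01 : c = 0 ∨ c = 1 := by
    have : c < 2 := by
      by_contra hlt
      push Not at hlt
      nlinarith
    omega
  rcases hc01 with rfl | rfl
  · left
    rw [← hj, hc]; simp
  · right
    rw [← hj, hc]; simp

theorem natCast_add_self (n : ℕ) : ((n : ℕ) : ZMod (2 * n)) + (n : ZMod (2 * n)) = 0 := by
  rw [← Nat.cast_add, ← two_mul]
  exact ZMod.natCast_self (2 * n)

open QuaternionGroup in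
/-- the centralizer of a noncentral element of a generalized quaternion group is contained in a
cyclic subgroup. -/
theorem quaternion_centralizer_le (n : ℕ) [NeZero n] (q : QuaternionGroup n)
    (hq : ∃ g, g * q ≠ q * g) :
    ∃ c : QuaternionGroup n, ∀ g, g * q = q * g → g ∈ Subgroup.zpowers c := by
  have hn : 0 < n := NeZero.pos n
  rcases q with i | i
  · -- q = a i
    have hi : i + i ≠ 0 := by
      intro h0
      obtain ⟨g, hg⟩ := hq
      apply hg
      rcases g with j | j
      · rw [a_mul_a, a_mul_a, add_comm]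
      · rw [xa_mul_a, a_mul_xa]
        congr 1
        have : i = -i := eq_neg_of_add_eq_zero_left h0
        rw [sub_eq_add_neg, ← this]
    refine ⟨a 1, ?_⟩
    intro g hg
    rcases g with j | j
    · refine Subgroup.mem_zpowers_iff.mpr ⟨(j.val : ℤ), ?_⟩
      rw [zpow_natCast, a_one_pow, ZMod.natCast_zmod_val]
    · exfalso
      rw [xa_mul_a, a_mul_xa] at hg
      have h1 : j + i = j - i := by
        injection hg
      apply hi
      have : i = -i := by
        have := add_left_cancel (a := j) (b := i) (c := -i) (by rw [h1, sub_eq_add_neg])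
        exact this
      calc i + i = i + -i := by rw [← this]
        _ = 0 := add_neg_cancel i
  · -- q = xa i
    refine ⟨xa i, ?_⟩
    have hsq : (xa i : QuaternionGroup n) ^ 2 = a n := xa_sq i
    intro g hg
    rcases g with j | j
    · rw [a_mul_xa, xa_mul_a] at hg
      have h1 : i - j = i + j := by injection hg
      have h2 : j + j = 0 := by
        have : -j = j := by
          have := add_left_cancel (a := i) (b := -j) (c := j) (by rw [← sub_eq_add_neg, h1])
          exact this
        calc j + j = -j + j := by rw [this]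
          _ = 0 := neg_add_cancel j
      rcases zmod_add_self_eq_zero n j h2 with rfl | rfl
      · rw [a_zero]; exact Subgroup.one_mem _
      · rw [← hsq]; exact Subgroup.pow_mem _ (Subgroup.mem_zpowers _) 2
    · rw [xa_mul_xa, xa_mul_xa] at hg
      have h1 : (n : ZMod (2 * n)) + i - j = (n : ZMod (2 * n)) + j - i := by injection hg
      have h2 : (j - i) + (j - i) = 0 := by
        have : i - j = j - i := by
          have := add_left_cancel (a := (n : ZMod (2 * n))) (b := i - j) (c := j - i)
            (by rw [← add_sub_assoc, ← add_sub_assoc, h1])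
          exact this
        calc (j - i) + (j - i) = (i - j) + (j - i) := by rw [this]
          _ = 0 := by ring
      rcases zmod_add_self_eq_zero n (j - i) h2 with h | h
      · have : j = i := sub_eq_zero.mp h
        rw [this]; exact Subgroup.mem_zpowers _
      · have : j = i + (n : ZMod (2 * n)) := by rw [← h]; ring
        rw [this, ← xa_mul_a, ← hsq]
        exact Subgroup.mul_mem _ (Subgroup.mem_zpowers _) (Subgroup.pow_mem _ (Subgroup.mem_zpowers _) 2)

theorem backward {G : Type*} [Group G] [Finite G] (k m : ℕ) (hm : Odd m)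
    (e : G ≃* QuaternionGroup (2 ^ k) × Multiplicative (ZMod m)) (x : G)
    (hx : x ∉ Subgroup.center G) : IsCyclic (Subgroup.centralizer ({x} : Set G)) := by
  have : NeZero (2 ^ k) := ⟨pow_ne_zero _ two_ne_zero⟩
  have hm0 : m ≠ 0 := by
    rintro rfl
    simp at hm
  have : NeZero m := ⟨hm0⟩
  set q := (e x).1 with hqdef
  have hq : ∃ g, g * q ≠ q * g := by
    by_contra hne
    push Not at hne
    apply hx
    rw [Subgroup.mem_center_iff]
    intro y
    apply e.injective
    rw [map_mul, map_mul]
    ext
    · exact hne (e y).1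
    · show (e y).2 * (e x).2 = (e x).2 * (e y).2
      exact mul_comm _ _
  obtain ⟨c, hc⟩ := quaternion_centralizer_le (2 ^ k) q hq
  have hmem : ∀ g : Subgroup.centralizer ({x} : Set G), (e (g : G)).1 ∈ Subgroup.zpowers c := by
    intro g
    apply hc
    have hg := g.2
    rw [Subgroup.mem_centralizer_iff] at hg
    have h1 := hg x rfl
    have h2 := congrArg (fun t => (e t).1) h1
    simp only [map_mul, Prod.fst_mul] at h2
    exact h2.symm
  let φ₁ : Subgroup.centralizer ({x} : Set G) →* Subgroup.zpowers c :=
    MonoidHom.codRestrict ((MonoidHom.fst _ _).comp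
      (e.toMonoidHom.comp (Subgroup.subtype _))) (Subgroup.zpowers c) hmem
  let φ₂ : Subgroup.centralizer ({x} : Set G) →* Multiplicative (ZMod m) :=
    (MonoidHom.snd _ _).comp (e.toMonoidHom.comp (Subgroup.subtype _))
  have hinj : Function.Injective (φ₁.prod φ₂) := by
    intro g g' hgg
    have h1 : (e (g : G)).1 = (e (g' : G)).1 := by
      have := congrArg (fun t => ((t.1 : Subgroup.zpowers c) : QuaternionGroup (2 ^ k))) hgg
      exact this
    have h2 : (e (g : G)).2 = (e (g' : G)).2 := by
      have h2' : ((φ₁.prod φ₂) g).2 = ((φ₁.prod φ₂) g').2 := by rw [hgg]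
      exact h2'
    apply Subtype.ext
    apply e.injective
    exact Prod.ext h1 h2
  have hcyc : IsCyclic (↥(Subgroup.zpowers c) × Multiplicative (ZMod m)) := by
    rw [Group.isCyclic_prod_iff]
    refine ⟨inferInstance, inferInstance, ?_⟩
    have h1 : Nat.card (Subgroup.zpowers c) ∣ 2 ^ (k + 2) := by
      have := Subgroup.card_subgroup_dvd_card (Subgroup.zpowers c)
      rw [Nat.card_eq_fintype_card (α := QuaternionGroup (2 ^ k)), QuaternionGroup.card] at this
      have e4 : 4 * 2 ^ k = 2 ^ (k + 2) := by ring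
      rwa [e4] at this
    have h2 : Nat.card (Multiplicative (ZMod m)) = m := by
      show Nat.card (ZMod m) = m
      exact Nat.card_zmod m
    rw [h2]
    exact Nat.Coprime.of_dvd_left h1 (Nat.Coprime.pow_left _ (Nat.coprime_two_left.mpr hm))
  exact isCyclic_of_injective (φ₁.prod φ₂) hinj

/-- Let G be a finite non-abelian nilpotent group. Then the centralizer of every non-central element of G is cyclic if and only if G is isomorphic to the direct product of a generalized quaternion group and a cyclic group of odd order. -/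
theorem result {G : Type*} [Group G] [Finite G] (hG : Group.IsNilpotent G)
    (hna : ¬ IsMulCommutative G) :
    (∀ x : G, x ∉ Subgroup.center G → IsCyclic (Subgroup.centralizer ({x} : Set G))) ↔
      ∃ (k m : ℕ), 1 ≤ k ∧ Odd m ∧ Nonempty (G ≃* QuaternionGroup (2 ^ k) × Multiplicative (ZMod m)) := by
  constructor
  · exact forward hG hna
  · rintro ⟨k, m, -, hm, ⟨e⟩⟩ x hx
    exact backward k m hm e x hx

end Cfsg.Agent.S4370
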