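import Mathlib
import Cfsg.Statements.S0351

set_option autoImplicit false
open Cfsg

namespace Cfsg.Agent.S0351

open Finset

/-- Derived design: removing a point p from the blocks through p of an S(t+1, k+1, v) yields an S(t, k, v-1) on the points other than p. -/
theorem result {α : Type*} [Fintype α] [DecidableEq α] {t k : ℕ} {B : Set (Finset α)} (hB : Cfsg.IsSteinerSystem (t + 1) (k + 1) B) (p : α) : Cfsg.IsSteinerSystem t k {b' : Finset {a : α // a ≠ p} | ∃ b ∈ B, p ∈ b ∧ b' = Finset.subtype (fun a => a ≠ p) b} := by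
  obtain ⟨hcard, huniq⟩ := hB
  refine ⟨?_, ?_⟩
  · rintro b' ⟨b, hb, hpb, rfl⟩
    rw [card_subtype, filter_ne' b p, card_erase_of_mem hpb, hcard b hb]
    rfl
  · intro s hs
    -- the lifted set
    obtain ⟨s₀, hs₀⟩ : ∃ s₀ : Finset α, s₀ = insert p (s.map (Function.Embedding.subtype _)) :=
      ⟨_, rfl⟩
    have hp_notin : p ∉ s.map (Function.Embedding.subtype (fun a => a ≠ p)) := by
      rw [mem_map]
      rintro ⟨x, -, hx⟩
      exact x.2 hx
    have hs₀card : s₀.card = t + 1 := by
      rw [hs₀, card_insert_of_notMem hp_notin, card_map, hs]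
    obtain ⟨b, ⟨hbB, hsb⟩, hbu⟩ := huniq s₀ hs₀card
    have hpb : p ∈ b := hsb (by rw [hs₀]; exact mem_insert_self _ _)
    refine ⟨Finset.subtype (fun a => a ≠ p) b, ⟨⟨b, hbB, hpb, rfl⟩, ?_⟩, ?_⟩
    · intro x hx
      rw [mem_subtype]
      apply hsb
      rw [hs₀]
      apply mem_insert_of_mem
      rw [mem_map]
      exact ⟨x, hx, rfl⟩
    · rintro c' ⟨⟨c, hcB, hpc, rfl⟩, hsc⟩
      have hs₀c : s₀ ⊆ c := by
        intro y hy
        rw [hs₀, mem_insert] at hy
        rcases hy with rfl | hy
        · exact hpc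
        · rw [mem_map] at hy
          obtain ⟨x, hx, rfl⟩ := hy
          have := hsc hx
          rw [mem_subtype] at this
          exact this
      have : c = b := hbu c ⟨hcB, hs₀c⟩
      rw [this]

end Cfsg.Agent.S0351
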