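import Cfsg.Statements.S0377
import Cfsg.Agent.Lib.H28.M23M22Simple
import Cfsg.Agent.Lib.H28.PointStabEquiv

set_option autoImplicit false
open Cfsg

namespace Cfsg.Agent.S0377

/-- A point stabiliser in the group of the length-24 code is simple. -/
theorem result (p : Cfsg.GolayPt) : IsSimpleGroup (MulAction.stabilizer Cfsg.M24 p) := by
  classical
  obtain ⟨g, hg, hgp⟩ := Cfsg.Agent.Lib.H28.exists_M24_map (n := 1) (by norm_num)
    ![Cfsg.Agent.Lib.H28.gPt 23] ![p] (Function.injective_of_subsingleton _)
    (Function.injective_of_subsingleton _)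
  have hgp' : g (Cfsg.Agent.Lib.H28.gPt 23) = p := hgp 0
  have := Cfsg.Agent.Lib.H28.isSimpleGroup_fixSub_23
  refine (Cfsg.Agent.Lib.H28.fixSubEquiv hg [23] (MulAction.stabilizer Cfsg.M24 p) ?_).isSimpleGroup
  intro x
  rw [MulAction.mem_stabilizer_iff]
  constructor
  · intro h k hk
    rw [List.mem_singleton] at hk
    subst hk
    rw [hgp']
    exact h
  · intro h
    have := h 23 (List.mem_singleton.2 rfl)
    rw [hgp'] at this
    exact this

end Cfsg.Agent.S0377
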