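import Cfsg.Statements.S2827
import Cfsg.Agent.Lib.H14.Norm

set_option autoImplicit false
open Cfsg

namespace Cfsg.Agent.S2827

open Cfsg.Agent.Lib.H14 in
theorem key {H : Type*} [Group H] [Finite H] {p : ℕ} [Fact p.Prime]
    (hH : Cfsg.IsPIrreducible p H) (T : Sylow p H) (K : Subgroup H) [K.Normal]
    (hTK : (T : Subgroup H) ≤ K) : K = ⊤ := by
  have h1 : ¬ Cfsg.IsPClosed p ↥K := fun hc => hH.1 (isPClosed_of_sylow_le_pclosed K T hTK hc)
  have h2 := hH.2 K inferInstance h1
  rw [eq_top_iff, ← pResidual_sup_sylow T]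
  exact sup_le h2 hTK

open Cfsg.Agent.Lib.H14 in
theorem partd {H : Type*} [Group H] [Finite H] {p : ℕ} [Fact p.Prime]
    (hH : Cfsg.IsPIrreducible p H) (T : Sylow p H) (Y : Subgroup H) (hYT : Y ≤ (T : Subgroup H))
    (hTY : (T : Subgroup H) ≤ Subgroup.normalizer (Y : Set H)) (hY : ¬ Y ≤ Cfsg.pCore p H) :
    Cfsg.pResidual p H ≤ ⁅Cfsg.pResidual p H, Y⁆ := by
  have hRn : (Cfsg.pResidual p H).Normal := pResidual_normal'
  have hRT := pResidual_sup_sylow T
  -- N = [R, Y] is normal in H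
  have hN : (⁅Cfsg.pResidual p H, Y⁆).Normal := by
    apply normal_of_sup_le_nzr _ _ _ hRT
    · exact Subgroup.normalizer_commutator_ge_left _ _
    · exact le_nzr_commutator _ _ _ Subgroup.le_normalizer_of_normal hTY
  -- Y ⊔ N is normal in H
  have hYN : (Y ⊔ ⁅Cfsg.pResidual p H, Y⁆).Normal := by
    apply normal_of_sup_le_nzr _ _ _ hRT
    · exact le_nzr_sup_of_commutator_le _ _ _ le_rfl Subgroup.le_normalizer_of_normal
    · exact le_nzr_sup _ _ _ hTY Subgroup.le_normalizer_of_normal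
  have hYp : IsPGroup p Y := T.2.to_le hYT
  have hnc : ¬ Cfsg.IsPClosed p ↥(Y ⊔ ⁅Cfsg.pResidual p H, Y⁆) := by
    intro hc
    exact hY (le_pCore_of_pclosed_normal _ hc Y le_sup_left hYp)
  have hR := hH.2 _ hYN hnc
  conv_lhs => unfold Cfsg.pResidual
  rw [Subgroup.closure_le]
  intro x hx
  apply mem_of_mem_sup_pgroup _ Y hYp x _ hx
  rw [sup_comm]
  exact hR (Subgroup.subset_closure hx)

/-- Let H be a finite p-irreducible group (not p-closed, and O^p(H) lies in every normal subgroup that is not p-closed) and T a Sylow p-subgroup. Then H is generated by the conjugates of T and H = H'·T; O^p(H) ≤ H'; and for every normal subgroup Y of T not contained in O_p(H), O^p(H) = [O^p(H), Y] and O^p(H) is contained in the normal closure of Y in H. -/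
theorem result {H : Type*} [Group H] [Finite H] {p : ℕ} [Fact p.Prime] (hH : Cfsg.IsPIrreducible p H) (T : Sylow p H) : Subgroup.normalClosure ((T : Subgroup H) : Set H) = ⊤ ∧ commutator H ⊔ (T : Subgroup H) = ⊤ ∧ Cfsg.pResidual p H ≤ commutator H ∧ ∀ Y : Subgroup H, Y ≤ (T : Subgroup H) → (T : Subgroup H) ≤ Subgroup.normalizer (Y : Set H) → ¬ Y ≤ Cfsg.pCore p H → ⁅Cfsg.pResidual p H, Y⁆ = Cfsg.pResidual p H ∧ Cfsg.pResidual p H ≤ Subgroup.normalClosure (Y : Set H) := by
  have hRn : (Cfsg.pResidual p H).Normal := Cfsg.Agent.Lib.H14.pResidual_normal'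
  have hb : commutator H ⊔ (T : Subgroup H) = ⊤ := by
    have hn : (commutator H ⊔ (T : Subgroup H)).Normal :=
      Subgroup.Normal.of_commutator_le H le_sup_left
    exact key hH T _ le_sup_right
  refine ⟨key hH T _ Subgroup.le_normalClosure, hb, ?_, ?_⟩
  · exact Cfsg.Agent.Lib.H14.pResidual_le_of_sup_eq_top _ T T.2 hb
  · intro Y hYT hTY hY
    have h1 := partd hH T Y hYT hTY hY
    refine ⟨le_antisymm (Subgroup.commutator_le_left _ _) h1, h1.trans ?_⟩
    exact (Subgroup.commutator_mono le_rfl Subgroup.le_normalClosure).trans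
      (Subgroup.commutator_le_right _ _)

end Cfsg.Agent.S2827
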