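import Cfsg.Statements.S2829
import Cfsg.Agent.Lib.H14.Subnormal2

set_option autoImplicit false
open Cfsg

namespace Cfsg.Agent.S2829

open scoped commutatorElement

theorem pclosed_of_comm_le {H : Type*} [Group H] [Finite H] {p : ℕ} [Fact p.Prime]
    (N : Subgroup H) (hN : ⁅N, (⊤ : Subgroup H)⁆ ≤ Cfsg.pCore p H) : Cfsg.IsPClosed p ↥N := by
  intro P
  apply Subgroup.Normal.of_commutator_le
  have h1 : commutator ↥N ≤ (Cfsg.pCore p H).subgroupOf N := by
    rw [commutator_def, Subgroup.commutator_le]
    intro a _ b _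
    rw [Subgroup.mem_subgroupOf]
    apply hN
    have : ((⁅a, b⁆ : ↥N) : H) = ⁅(a : H), (b : H)⁆ := by
      simp [commutatorElement_def]
    rw [this]
    exact Subgroup.commutator_mem_commutator a.2 (Subgroup.mem_top _)
  have hn : (Cfsg.pCore p H).Normal := Cfsg.Agent.Lib.H14.pCore_normal
  have h2 : ((Cfsg.pCore p H).subgroupOf N).Normal := inferInstance
  have h3 : IsPGroup p ↥((Cfsg.pCore p H).subgroupOf N) := by
    have := (Cfsg.Agent.Lib.H14.pCore_isPGroup (G := H) (p := p))
    exact this.comap_subtype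
  exact h1.trans (h3.le_sylow_of_normal P)

/-- Every strongly p-irreducible finite group is p-irreducible. -/
theorem result {H : Type*} [Group H] [Finite H] {p : ℕ} [Fact p.Prime] (hH : Cfsg.IsStronglyPIrreducible p H) : Cfsg.IsPIrreducible p H := by
  refine ⟨hH.1, fun N hN hNc => hH.2 N hN ?_⟩
  intro hc
  exact hNc (pclosed_of_comm_le N hc)

end Cfsg.Agent.S2829
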