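import Cfsg.Statements.S2828
import Cfsg.Agent.Lib.H14.PIrrQuot

set_option autoImplicit false
open Cfsg

namespace Cfsg.Agent.S2828

open Cfsg.Agent.Lib.H14 in
theorem up {H : Type*} [Group H] [Finite H] {p : ℕ} [Fact p.Prime] (D : Subgroup H) [D.Normal]
    (hD : IsPGroup p ↥D) (N : Subgroup H) [N.Normal]
    (h : Cfsg.pResidual p (H ⧸ D) ≤ N.map (QuotientGroup.mk' D)) : Cfsg.pResidual p H ≤ N := by
  rw [← pResidual_map_of_surjective (QuotientGroup.mk' D) (QuotientGroup.mk'_surjective D)] at h
  have h1 : Cfsg.pResidual p H ≤ N ⊔ D := by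
    have h2 := Subgroup.map_le_iff_le_comap.mp h
    rw [Subgroup.comap_map_eq, QuotientGroup.ker_mk'] at h2
    exact h2
  conv_lhs => unfold Cfsg.pResidual
  rw [Subgroup.closure_le]
  intro x hx
  exact mem_of_mem_sup_pgroup N D hD x (h1 (Subgroup.subset_closure hx)) hx

open Cfsg.Agent.Lib.H14 in
theorem down {H : Type*} [Group H] [Finite H] {p : ℕ} [Fact p.Prime] (D : Subgroup H) [D.Normal]
    (Nb : Subgroup (H ⧸ D))
    (h : Cfsg.pResidual p H ≤ Nb.comap (QuotientGroup.mk' D)) : Cfsg.pResidual p (H ⧸ D) ≤ Nb := by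
  rw [← pResidual_map_of_surjective (QuotientGroup.mk' D) (QuotientGroup.mk'_surjective D)]
  exact Subgroup.map_le_iff_le_comap.mpr h

/-- Let H be a finite group, p a prime and D a normal p-subgroup of H. Then H is p-irreducible if and only if H/D is p-irreducible, and H is strongly p-irreducible if and only if H/D is strongly p-irreducible. -/
theorem result {H : Type*} [Group H] [Finite H] {p : ℕ} [Fact p.Prime] (D : Subgroup H) [D.Normal] (hD : IsPGroup p ↥D) : (Cfsg.IsPIrreducible p H ↔ Cfsg.IsPIrreducible p (H ⧸ D)) ∧ (Cfsg.IsStronglyPIrreducible p H ↔ Cfsg.IsStronglyPIrreducible p (H ⧸ D)) := by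
  have hπ : Function.Surjective (QuotientGroup.mk' D) := QuotientGroup.mk'_surjective D
  have hk : IsPGroup p (QuotientGroup.mk' D).ker := by rw [QuotientGroup.ker_mk']; exact hD
  have hA := Cfsg.Agent.Lib.H14.isPClosed_iff_of_surjective (QuotientGroup.mk' D) hπ hk
  constructor
  · constructor
    · rintro ⟨h1, h2⟩
      refine ⟨fun hc => h1 (hA.mpr hc), fun Nb hNb hNbc => ?_⟩
      apply down D Nb
      apply h2 _ (hNb.comap _)
      intro hc
      apply hNbc
      have h3 := (Cfsg.Agent.Lib.H14.isPClosed_map_iff (QuotientGroup.mk' D) hk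
        (Nb.comap (QuotientGroup.mk' D))).mp hc
      rw [Subgroup.map_comap_eq_self_of_surjective hπ] at h3
      exact h3
    · rintro ⟨h1, h2⟩
      refine ⟨fun hc => h1 (hA.mp hc), fun N hN hNc => ?_⟩
      have := hN
      apply up D hD N
      apply h2 _ (hN.map _ hπ)
      intro hc
      exact hNc ((Cfsg.Agent.Lib.H14.isPClosed_map_iff (QuotientGroup.mk' D) hk N).mpr hc)
  · constructor
    · rintro ⟨h1, h2⟩
      refine ⟨fun hc => h1 (hA.mpr hc), fun Nb hNb hNbc => ?_⟩
      apply down D Nb
      apply h2 _ (hNb.comap _)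
      intro hc
      apply hNbc
      have h3 := Subgroup.map_mono (f := QuotientGroup.mk' D) hc
      rw [Subgroup.map_commutator, Subgroup.map_comap_eq_self_of_surjective hπ,
        Subgroup.map_top_of_surjective _ hπ] at h3
      exact h3.trans (Cfsg.Agent.Lib.H14.pCore_map_le _ hπ)
    · rintro ⟨h1, h2⟩
      refine ⟨fun hc => h1 (hA.mp hc), fun N hN hNc => ?_⟩
      have := hN
      apply up D hD N
      apply h2 _ (hN.map _ hπ)
      intro hc
      apply hNc
      rw [← Subgroup.map_top_of_surjective _ hπ, ← Subgroup.map_commutator] at hc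
      exact (Subgroup.map_le_iff_le_comap.mp hc).trans (Cfsg.Agent.Lib.H14.comap_pCore_le _ hk)

end Cfsg.Agent.S2828
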