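import Cfsg.Statements.S4304
import Mathlib
import Cfsg.Agent.Lib.H21.TwoP1d

set_option autoImplicit false
open Cfsg

namespace Cfsg.Agent.S4304

open Cfsg.Agent.Lib.H21.TwoP1

universe u

instance fact7 : Fact (Nat.Prime 7) := ⟨by norm_num⟩
instance fact5 : Fact (Nat.Prime 5) := ⟨by norm_num⟩

/-- There is no minimal group with exactly `15` Sylow `7`-subgroups. -/
theorem no_minCE {G : Type u} [Group G] [Finite G] (h : MinCE 7 G) : False := by
  obtain ⟨e, he, hcard⟩ := h.exists_card (by norm_num)
  have hodd := h.odd_card (by norm_num)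
  have he6 : e ∣ 6 := he
  have hle : e ≤ 6 := Nat.le_of_dvd (by norm_num) he6
  obtain ⟨L⟩ : Nonempty (Sylow 5 G) := inferInstance
  have key : ∀ (h5 : 5 ∣ Nat.card G) (h25 : ¬ 5 ^ 2 ∣ Nat.card G)
      (hcop : Nat.Coprime (5 - 1) (Nat.card G)), False := by
    intro h5 h25 hcop
    have hL := sylow_card_eq_prime L h5 h25
    obtain ⟨M, hMn, hMi⟩ := exists_normal_index_of_sylow_prime_card L hL hcop
    haveI := hMn
    apply h.false_of_normal M
    · intro htop
      rw [htop, Subgroup.index_top] at hMi
      omega
    · rw [hMi]; norm_num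
  rw [hcard] at hodd key
  interval_cases e
  · simp at he6
  · exact key (by norm_num) (by norm_num) (by norm_num)
  · exact absurd hodd (by decide)
  · exact key (by norm_num) (by norm_num) (by norm_num)
  · norm_num at he6
  · norm_num at he6
  · exact absurd hodd (by decide)

/-- No finite group has exactly 15 Sylow 7-subgroups. -/
theorem result {G : Type*} [Group G] [Finite G] : Nat.card (Sylow 7 G) ≠ 15 := by
  have := card_sylow_ne_of_no_minCE 7 (fun G _ _ h => no_minCE h) (Nat.card G) G rfl
  exact this

end Cfsg.Agent.S4304
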