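import Cfsg.Statements.S1010
import Mathlib
import Cfsg.Agent.S4304
import Cfsg.Agent.Lib.H21.N21e

set_option autoImplicit false
open Cfsg

namespace Cfsg.Agent.S1010

open Cfsg.Agent.Lib.H21.MinN Cfsg.Agent.Lib.H21.N21

universe u

/-- There is no minimal group with exactly `21` Sylow `5`-subgroups. -/
theorem no_minN {G : Type u} [Group G] [Finite G] (h : MinN 5 21 G) : False :=
  false_of_eight_dvd h (eight_dvd_card h Cfsg.Agent.S4304.result)

/-- No finite group has exactly twenty-one Sylow 5-subgroups. -/
theorem result {G : Type*} [Group G] [Finite G] : Nat.card (Sylow 5 G) ≠ 21 := by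
  have := card_sylow_ne_of_no_minN 5 21 (fun G _ _ h => no_minN h) (Nat.card G) G rfl
  exact this

end Cfsg.Agent.S1010
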