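import Cfsg.Statements.S0547
-- import your own Cfsg.Agent.* helpers here
import Cfsg.Agent.Lib.H3.PrimSolv
import Mathlib

set_option autoImplicit false
open Cfsg

namespace Cfsg.Agent.S0547

/-- Let a finite solvable group G act faithfully and primitively on a set, and let M be a minimal normal subgroup of G. Then M is transitive with trivial point stabilizers, and the number of points equals the order of M, which is a prime power p ^ d with d ≥ 1. -/
theorem result {G : Type*} [Group G] [Finite G] [Group.IsSolvable G] {Ω : Type*} [Nonempty Ω] [MulAction G Ω] [FaithfulSMul G Ω] (hprim : MulAction.IsPreprimitive G Ω) (M : Subgroup G) [M.Normal] (hM : M ≠ ⊥) (hmin : ∀ K : Subgroup G, K.Normal → K ≤ M → K = ⊥ ∨ K = M) : MulAction.IsPretransitive M Ω ∧ (∀ ω : Ω, MulAction.stabilizer M ω = ⊥) ∧ ∃ p d : ℕ, p.Prime ∧ 0 < d ∧ Nat.card Ω = p ^ d ∧ Nat.card M = p ^ d := by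
  have hcomm := Cfsg.Agent.Lib.H3.minNormal_comm_of_isSolvable M hM hmin
  have htr := Cfsg.Agent.Lib.H3.isPretransitive_of_normal_of_isPreprimitive hprim M hM
  have hreg : ∀ ω : Ω, MulAction.stabilizer M ω = ⊥ := by
    intro ω
    rw [eq_bot_iff]
    intro m hm
    rw [Subgroup.mem_bot]
    apply Subtype.ext
    exact Cfsg.Agent.Lib.H3.eq_one_of_smul_eq_of_comm_of_isPretransitive M hcomm htr m.2
      (ω := ω) (MulAction.mem_stabilizer_iff.1 hm)
  refine ⟨htr, hreg, ?_⟩
  obtain ⟨p, d, hp, hd, hcard, -⟩ := Cfsg.Agent.Lib.H3.minNormal_exists_prime_pow M hM hmin hcomm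
  refine ⟨p, d, hp, hd, ?_, hcard⟩
  obtain ⟨ω⟩ := (inferInstance : Nonempty Ω)
  have h1 := MulAction.index_stabilizer_of_transitive M ω
  rw [hreg ω, Subgroup.index_bot] at h1
  rw [← h1, hcard]

end Cfsg.Agent.S0547
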