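import Cfsg.Statements.S0766
import Cfsg.Agent.Lib.H4.Symp

set_option autoImplicit false
open Cfsg

namespace Cfsg.Agent.S0766

open Matrix Cfsg.Agent.Lib.H4

section
variable {F : Type*} [Field F] (m : ℕ)

/-- the subgroup generated by symplectic transvections -/
abbrev T : Subgroup (Matrix.symplecticGroup (Fin m) F) :=
  Subgroup.closure {A : Matrix.symplecticGroup (Fin m) F | ∃ (w : Fin m ⊕ Fin m → F) (c : F), (A : Matrix (Fin m ⊕ Fin m) (Fin m ⊕ Fin m) F) = Cfsg.sympTransvection m w c}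

/-- transvection as element of the symplectic group -/
def tv (w : Fin m ⊕ Fin m → F) (c : F) : Matrix.symplecticGroup (Fin m) F :=
  ⟨Cfsg.sympTransvection m w c, sympTransvection_mem m w c⟩

theorem tv_mem (w : Fin m ⊕ Fin m → F) (c : F) : tv m w c ∈ T (F := F) m :=
  Subgroup.subset_closure ⟨w, c, rfl⟩

theorem tv_mulVec (w : Fin m ⊕ Fin m → F) (c : F) (x : Fin m ⊕ Fin m → F) :
    (tv m w c : Matrix (Fin m ⊕ Fin m) (Fin m ⊕ Fin m) F) *ᵥ x = x + (c * Cfsg.sympForm m F x w) • w :=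
  sympTransvection_mulVec m w c x

theorem sympForm_sub_right (u v v' : Fin m ⊕ Fin m → F) :
    Cfsg.sympForm m F u (v - v') = Cfsg.sympForm m F u v - Cfsg.sympForm m F u v' := by
  have : v - v' = v + (-1 : F) • v' := by rw [neg_one_smul, sub_eq_add_neg]
  rw [this, sympForm_add_right, sympForm_smul_right]; ring

/-- moving `v` to `v'` by one transvection, fixing everything orthogonal to `v - v'` -/
theorem L2 (v v' : Fin m ⊕ Fin m → F) (h : Cfsg.sympForm m F v v' ≠ 0) :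
    ∃ A ∈ T (F := F) m, (A : Matrix (Fin m ⊕ Fin m) (Fin m ⊕ Fin m) F) *ᵥ v = v' ∧
      ∀ u, Cfsg.sympForm m F u (v - v') = 0 →
        (A : Matrix (Fin m ⊕ Fin m) (Fin m ⊕ Fin m) F) *ᵥ u = u := by
  refine ⟨tv m (v - v') (Cfsg.sympForm m F v v')⁻¹, tv_mem m _ _, ?_, ?_⟩
  · rw [tv_mulVec, sympForm_sub_right, sympForm_self, zero_sub, mul_neg, inv_mul_cancel₀ h,
      neg_one_smul]
    abel
  · intro u hu
    rw [tv_mulVec, hu, mul_zero, zero_smul, add_zero]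

theorem mulVec_mul (A B : Matrix.symplecticGroup (Fin m) F) (x : Fin m ⊕ Fin m → F) :
    ((A * B : Matrix.symplecticGroup (Fin m) F) : Matrix (Fin m ⊕ Fin m) (Fin m ⊕ Fin m) F) *ᵥ x =
      (A : Matrix (Fin m ⊕ Fin m) (Fin m ⊕ Fin m) F) *ᵥ
        ((B : Matrix (Fin m ⊕ Fin m) (Fin m ⊕ Fin m) F) *ᵥ x) := by
  rw [Matrix.mulVec_mulVec]; rfl

theorem claimA (u u' v v' : Fin m ⊕ Fin m → F) (h : Cfsg.sympForm m F u v = 1)
    (h' : Cfsg.sympForm m F u' v' = 1) :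
    ∃ A ∈ T (F := F) m, (A : Matrix (Fin m ⊕ Fin m) (Fin m ⊕ Fin m) F) *ᵥ u = u' := by
  by_cases h0 : Cfsg.sympForm m F u u' ≠ 0
  · obtain ⟨A, hA, hAu, -⟩ := L2 m u u' h0
    exact ⟨A, hA, hAu⟩
  push Not at h0
  -- intermediate vector
  have key : ∃ z, Cfsg.sympForm m F u z ≠ 0 ∧ Cfsg.sympForm m F z u' ≠ 0 := by
    by_cases h1 : Cfsg.sympForm m F u' v ≠ 0
    · refine ⟨v, by rw [h]; exact one_ne_zero, ?_⟩
      rw [sympForm_swap]; exact neg_ne_zero.mpr h1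
    push Not at h1
    by_cases h2 : Cfsg.sympForm m F u v' ≠ 0
    · refine ⟨v', h2, ?_⟩
      rw [sympForm_swap, h']; exact neg_ne_zero.mpr one_ne_zero
    push Not at h2
    refine ⟨v + v', ?_, ?_⟩
    · rw [sympForm_add_right, h, h2, add_zero]; exact one_ne_zero
    · rw [sympForm_add_left, sympForm_swap m v u', sympForm_swap m v' u', h1, h', neg_zero,
        zero_add]
      exact neg_ne_zero.mpr one_ne_zero
  obtain ⟨z, hz1, hz2⟩ := key
  obtain ⟨A, hA, hAu, -⟩ := L2 m u z hz1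
  obtain ⟨B, hB, hBz, -⟩ := L2 m z u' hz2
  refine ⟨B * A, (T m).mul_mem hB hA, ?_⟩
  rw [mulVec_mul, hAu, hBz]

theorem claimB (u v v' : Fin m ⊕ Fin m → F) (h : Cfsg.sympForm m F u v = 1)
    (h' : Cfsg.sympForm m F u v' = 1) :
    ∃ A ∈ T (F := F) m, (A : Matrix (Fin m ⊕ Fin m) (Fin m ⊕ Fin m) F) *ᵥ u = u ∧
      (A : Matrix (Fin m ⊕ Fin m) (Fin m ⊕ Fin m) F) *ᵥ v = v' := by
  by_cases h0 : Cfsg.sympForm m F v v' ≠ 0
  · obtain ⟨A, hA, hAv, hfix⟩ := L2 m v v' h0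
    refine ⟨A, hA, hfix u ?_, hAv⟩
    rw [sympForm_sub_right, h, h', sub_self]
  push Not at h0
  have hz1 : Cfsg.sympForm m F v (v + u) ≠ 0 := by
    rw [sympForm_add_right, sympForm_self, zero_add, sympForm_swap, h]
    exact neg_ne_zero.mpr one_ne_zero
  have hz2 : Cfsg.sympForm m F (v + u) v' ≠ 0 := by
    rw [sympForm_add_left, h0, h', zero_add]; exact one_ne_zero
  obtain ⟨A, hA, hAv, hAfix⟩ := L2 m v (v + u) hz1
  obtain ⟨B, hB, hBz, hBfix⟩ := L2 m (v + u) v' hz2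
  refine ⟨B * A, (T m).mul_mem hB hA, ?_, ?_⟩
  · rw [mulVec_mul, hAfix u, hBfix u]
    · rw [sympForm_sub_right, sympForm_add_right, h, h', sympForm_self]; ring
    · rw [sympForm_sub_right, sympForm_add_right, h, sympForm_self]; ring
  · rw [mulVec_mul, hAv, hBz]

end

/-- The subgroup generated by the symplectic transvections acts transitively on ordered pairs (u, v) with f(u, v) = 1. -/
theorem result {F : Type*} [Field F] (m : ℕ) (u v u' v' : Fin m ⊕ Fin m → F) (h : Cfsg.sympForm m F u v = 1) (h' : Cfsg.sympForm m F u' v' = 1) : ∃ A ∈ Subgroup.closure {A : Matrix.symplecticGroup (Fin m) F | ∃ (w : Fin m ⊕ Fin m → F) (c : F), (A : Matrix (Fin m ⊕ Fin m) (Fin m ⊕ Fin m) F) = Cfsg.sympTransvection m w c}, (A : Matrix (Fin m ⊕ Fin m) (Fin m ⊕ Fin m) F).mulVec u = u' ∧ (A : Matrix (Fin m ⊕ Fin m) (Fin m ⊕ Fin m) F).mulVec v = v' := by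
  obtain ⟨A, hA, hAu⟩ := claimA m u u' v v' h h'
  have hpres : Cfsg.sympForm m F u' ((A : Matrix (Fin m ⊕ Fin m) (Fin m ⊕ Fin m) F) *ᵥ v) = 1 := by
    rw [← hAu, (mem_symplecticGroup_iff_sympForm m _).mp A.2, h]
  obtain ⟨B, hB, hBu, hBv⟩ := claimB m u' _ v' hpres h'
  refine ⟨B * A, Subgroup.mul_mem _ hB hA, ?_, ?_⟩
  · rw [mulVec_mul, hAu, hBu]
  · rw [mulVec_mul, hBv]

end Cfsg.Agent.S0766
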