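import Cfsg.Statements.S0765
import Cfsg.Agent.S0766

set_option autoImplicit false
open Cfsg

namespace Cfsg.Agent.S0765

open Matrix Cfsg.Agent.Lib.H4 Cfsg.Agent.S0766

section
variable {F : Type*} [Field F] (m : ℕ)

local notation "V" => Fin m ⊕ Fin m → F
local notation "Mat" => Matrix (Fin m ⊕ Fin m) (Fin m ⊕ Fin m) F

/-- `x` is orthogonal to each of four vectors -/
def Orth4 (x u v u' v' : V) : Prop :=
  Cfsg.sympForm m F x u = 0 ∧ Cfsg.sympForm m F x v = 0 ∧ Cfsg.sympForm m F x u' = 0 ∧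
    Cfsg.sympForm m F x v' = 0

theorem L2' (v v' : V) (h : Cfsg.sympForm m F v v' ≠ 0) :
    ∃ A ∈ T (F := F) m, (A : Mat) *ᵥ v = v' ∧
      ∀ x, Cfsg.sympForm m F x v = 0 → Cfsg.sympForm m F x v' = 0 → (A : Mat) *ᵥ x = x := by
  obtain ⟨A, hA, hAv, hfix⟩ := L2 m v v' h
  refine ⟨A, hA, hAv, fun x h1 h2 => hfix x ?_⟩
  rw [sympForm_sub_right, h1, h2, sub_zero]

theorem claimA' (u u' v v' : V) (h : Cfsg.sympForm m F u v = 1)
    (h' : Cfsg.sympForm m F u' v' = 1) :
    ∃ A ∈ T (F := F) m, (A : Mat) *ᵥ u = u' ∧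
      ∀ x, Orth4 m x u v u' v' → (A : Mat) *ᵥ x = x := by
  by_cases h0 : Cfsg.sympForm m F u u' ≠ 0
  · obtain ⟨A, hA, hAu, hfix⟩ := L2' m u u' h0
    exact ⟨A, hA, hAu, fun x hx => hfix x hx.1 hx.2.2.1⟩
  push Not at h0
  have key : ∃ z, Cfsg.sympForm m F u z ≠ 0 ∧ Cfsg.sympForm m F z u' ≠ 0 ∧
      ∀ x, Orth4 m x u v u' v' → Cfsg.sympForm m F x z = 0 := by
    by_cases h1 : Cfsg.sympForm m F u' v ≠ 0
    · refine ⟨v, by rw [h]; exact one_ne_zero, ?_, fun x hx => hx.2.1⟩
      rw [sympForm_swap]; exact neg_ne_zero.mpr h1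
    push Not at h1
    by_cases h2 : Cfsg.sympForm m F u v' ≠ 0
    · refine ⟨v', h2, ?_, fun x hx => hx.2.2.2⟩
      rw [sympForm_swap, h']; exact neg_ne_zero.mpr one_ne_zero
    push Not at h2
    refine ⟨v + v', ?_, ?_, ?_⟩
    · rw [sympForm_add_right, h, h2, add_zero]; exact one_ne_zero
    · rw [sympForm_add_left, sympForm_swap m v u', sympForm_swap m v' u', h1, h', neg_zero,
        zero_add]
      exact neg_ne_zero.mpr one_ne_zero
    · intro x hx
      rw [sympForm_add_right, hx.2.1, hx.2.2.2, add_zero]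
  obtain ⟨z, hz1, hz2, hzorth⟩ := key
  obtain ⟨A, hA, hAu, hAfix⟩ := L2' m u z hz1
  obtain ⟨B, hB, hBz, hBfix⟩ := L2' m z u' hz2
  refine ⟨B * A, (T m).mul_mem hB hA, ?_, ?_⟩
  · rw [mulVec_mul, hAu, hBz]
  · intro x hx
    rw [mulVec_mul, hAfix x hx.1 (hzorth x hx), hBfix x (hzorth x hx) hx.2.2.1]

theorem claimB' (u v v' : V) (h : Cfsg.sympForm m F u v = 1)
    (h' : Cfsg.sympForm m F u v' = 1) :
    ∃ A ∈ T (F := F) m, (A : Mat) *ᵥ u = u ∧ (A : Mat) *ᵥ v = v' ∧
      ∀ x, Cfsg.sympForm m F x u = 0 → Cfsg.sympForm m F x v = 0 →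
        Cfsg.sympForm m F x v' = 0 → (A : Mat) *ᵥ x = x := by
  by_cases h0 : Cfsg.sympForm m F v v' ≠ 0
  · obtain ⟨A, hA, hAv, hfix⟩ := L2 m v v' h0
    refine ⟨A, hA, hfix u ?_, hAv, ?_⟩
    · rw [sympForm_sub_right, h, h', sub_self]
    · intro x h1 h2 h3
      apply hfix
      rw [sympForm_sub_right, h2, h3, sub_zero]
  push Not at h0
  have hz1 : Cfsg.sympForm m F v (v + u) ≠ 0 := by
    rw [sympForm_add_right, sympForm_self, zero_add, sympForm_swap, h]
    exact neg_ne_zero.mpr one_ne_zero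
  have hz2 : Cfsg.sympForm m F (v + u) v' ≠ 0 := by
    rw [sympForm_add_left, h0, h', zero_add]; exact one_ne_zero
  obtain ⟨A, hA, hAv, hAfix⟩ := L2 m v (v + u) hz1
  obtain ⟨B, hB, hBz, hBfix⟩ := L2 m (v + u) v' hz2
  refine ⟨B * A, (T m).mul_mem hB hA, ?_, ?_, ?_⟩
  · rw [mulVec_mul, hAfix u, hBfix u]
    · rw [sympForm_sub_right, sympForm_add_right, h, h', sympForm_self]; ring
    · rw [sympForm_sub_right, sympForm_add_right, h, sympForm_self]; ring
  · rw [mulVec_mul, hAv, hBz]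
  · intro x h1 h2 h3
    rw [mulVec_mul, hAfix x, hBfix x]
    · rw [sympForm_sub_right, sympForm_add_right, h1, h2, h3]; ring
    · rw [sympForm_sub_right, sympForm_add_right, h1, h2]; ring

theorem pair_trans (u v u' v' : V) (h : Cfsg.sympForm m F u v = 1)
    (h' : Cfsg.sympForm m F u' v' = 1) :
    ∃ A ∈ T (F := F) m, (A : Mat) *ᵥ u = u' ∧ (A : Mat) *ᵥ v = v' ∧
      ∀ x, Orth4 m x u v u' v' → (A : Mat) *ᵥ x = x := by
  obtain ⟨A, hA, hAu, hAfix⟩ := claimA' m u u' v v' h h'
  have hpres : Cfsg.sympForm m F u' ((A : Mat) *ᵥ v) = 1 := by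
    rw [← hAu, (mem_symplecticGroup_iff_sympForm m _).mp A.2, h]
  obtain ⟨B, hB, hBu, hBv, hBfix⟩ := claimB' m u' _ v' hpres h'
  refine ⟨B * A, Subgroup.mul_mem _ hB hA, ?_, ?_, ?_⟩
  · rw [mulVec_mul, hAu, hBu]
  · rw [mulVec_mul, hBv]
  · intro x hx
    rw [mulVec_mul, hAfix x hx]
    apply hBfix x hx.2.2.1 _ hx.2.2.2
    -- f(x, A v) = f(A x, A v) = f(x, v) = 0
    have := (mem_symplecticGroup_iff_sympForm m _).mp A.2 x v
    rw [hAfix x hx] at this
    rw [this]; exact hx.2.1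

/-- basis vectors -/
abbrev e (i : Fin m) : V := Pi.single (Sum.inl i) 1
abbrev f (i : Fin m) : V := Pi.single (Sum.inr i) 1

theorem sympForm_single (a b : Fin m ⊕ Fin m) :
    Cfsg.sympForm m F (Pi.single a 1) (Pi.single b 1) = Matrix.J (Fin m) F a b := by
  unfold Cfsg.sympForm
  rw [Matrix.mulVec_single_one, single_one_dotProduct]
  rfl

theorem form_ee (i j : Fin m) : Cfsg.sympForm m F (e m i) (e m j) = 0 := by
  rw [sympForm_single]; simp [Matrix.J]

theorem form_ff (i j : Fin m) : Cfsg.sympForm m F (f m i) (f m j) = 0 := by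
  rw [sympForm_single]; simp [Matrix.J]

theorem form_fe (i j : Fin m) : Cfsg.sympForm m F (f m i) (e m j) = if i = j then 1 else 0 := by
  rw [sympForm_single]; simp [Matrix.J, Matrix.one_apply]

theorem form_ef (i j : Fin m) : Cfsg.sympForm m F (e m i) (f m j) = if i = j then -1 else 0 := by
  rw [sympForm_single]; simp [Matrix.J, Matrix.one_apply]
  split_ifs <;> simp

theorem mem_T_of_fix (d : ℕ) : ∀ k : ℕ, k + d = m → ∀ g : Matrix.symplecticGroup (Fin m) F,
    (∀ i : Fin m, i.val < k → (g : Mat) *ᵥ e m i = e m i ∧ (g : Mat) *ᵥ f m i = f m i) →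
    g ∈ T (F := F) m := by
  induction d with
  | zero =>
    intro k hk g hg
    have hg1 : g = 1 := by
      apply Subtype.ext
      show (g : Mat) = 1
      ext a b
      have hcol : (g : Mat) *ᵥ Pi.single b 1 = Pi.single b 1 := by
        rcases b with j | j
        · exact (hg j (by have := j.2; omega)).1
        · exact (hg j (by have := j.2; omega)).2
      have := congrFun hcol a
      rw [Matrix.mulVec_single_one] at this
      rw [Matrix.one_apply, Pi.single_apply] at *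
      simpa [eq_comm] using this
    rw [hg1]; exact (T m).one_mem
  | succ d ih =>
    intro k hk g hg
    have hkm : k < m := by omega
    set i₀ : Fin m := ⟨k, hkm⟩ with hi₀
    have hpres := (mem_symplecticGroup_iff_sympForm m _).mp g.2
    have h1 : Cfsg.sympForm m F ((g : Mat) *ᵥ f m i₀) ((g : Mat) *ᵥ e m i₀) = 1 := by
      rw [hpres, form_fe, if_pos rfl]
    have h1' : Cfsg.sympForm m F (f m i₀) (e m i₀) = 1 := by
      rw [form_fe, if_pos rfl]
    obtain ⟨A, hA, hAu, hAv, hAfix⟩ := pair_trans m _ _ _ _ h1 h1'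
    have hAg : A * g ∈ T (F := F) m := by
      apply ih (k + 1) (by omega)
      intro i hi
      by_cases hik : i.val < k
      · have hne : i ≠ i₀ := by
          intro h; rw [h, hi₀] at hik; simp at hik
        obtain ⟨hge, hgf⟩ := hg i hik
        rw [mulVec_mul, mulVec_mul, hge, hgf]
        constructor
        · apply hAfix
          refine ⟨?_, ?_, ?_, ?_⟩
          · rw [← hge, hpres, form_ef, if_neg hne]
          · rw [← hge, hpres, form_ee]
          · rw [form_ef, if_neg hne]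
          · rw [form_ee]
        · apply hAfix
          refine ⟨?_, ?_, ?_, ?_⟩
          · rw [← hgf, hpres, form_ff]
          · rw [← hgf, hpres, form_fe, if_neg hne]
          · rw [form_ff]
          · rw [form_fe, if_neg hne]
      · have hii : i = i₀ := by
          apply Fin.ext
          rw [hi₀]; simp; omega
        rw [hii, mulVec_mul, mulVec_mul, hAv, hAu]
        exact ⟨rfl, rfl⟩
    have : g = A⁻¹ * (A * g) := by group
    rw [this]
    exact (T m).mul_mem ((T m).inv_mem hA) hAg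

end

/-- Generation of the symplectic group by symplectic transvections: the subgroup of Sp_2m(F) generated by all matrices of maps x ↦ x + c f(x, w) w is the whole group. -/
theorem result {F : Type*} [Field F] (m : ℕ) : Subgroup.closure {A : Matrix.symplecticGroup (Fin m) F | ∃ (w : Fin m ⊕ Fin m → F) (c : F), (A : Matrix (Fin m ⊕ Fin m) (Fin m ⊕ Fin m) F) = Cfsg.sympTransvection m w c} = ⊤ := by
  rw [eq_top_iff]
  intro g _
  exact mem_T_of_fix m m 0 (by omega) g (fun i hi => absurd hi (Nat.not_lt_zero _))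

end Cfsg.Agent.S0765
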