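import Cfsg.Statements.S3836
import Cfsg.Agent.Lib.H19.Cores

set_option autoImplicit false
open Cfsg
open Cfsg.Agent.Lib.H19

namespace Cfsg.Agent.S3836

theorem result {G : Type*} [Group G] [Finite G] {p : ℕ} [Fact p.Prime] (hst : Cfsg.IsNormalizerPStable p G) (H : Subgroup G) : Cfsg.IsNormalizerPStable p ↥H := by
  intro P' hP' g' hg' hquad
  -- transport to G
  set P : Subgroup G := P'.map H.subtype with hPdef
  have hP : IsPGroup p P := hP'.map _
  have hNle : ∀ x : H, x ∈ Subgroup.normalizer (P' : Set H) → (x : G) ∈ Subgroup.normalizer (P : Set G) := by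
    intro x hx
    exact Subgroup.le_normalizer_map H.subtype ⟨x, hx, rfl⟩
  have hg : (g' : G) ∈ Subgroup.normalizer (P : Set G) := hNle g' hg'
  have hquadG : ⁅⁅P, Subgroup.zpowers (g' : G)⁆, Subgroup.zpowers (g' : G)⁆ = ⊥ := by
    have h1 : Subgroup.zpowers (g' : G) = (Subgroup.zpowers g').map H.subtype := by
      rw [MonoidHom.map_zpowers]; rfl
    rw [h1, hPdef, ← Subgroup.map_commutator, ← Subgroup.map_commutator, hquad, Subgroup.map_bot]
  have hmain := hst P hP (g' : G) hg hquadG
  -- the homomorphism between the quotients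
  let NH := Subgroup.normalizer (P' : Set H)
  let NG := Subgroup.normalizer (P : Set G)
  let CH := (Subgroup.centralizer (P' : Set H)).subgroupOf NH
  let CG := (Subgroup.centralizer (P : Set G)).subgroupOf NG
  let ι : NH →* NG :=
    { toFun := fun x => ⟨((x : H) : G), hNle x x.2⟩
      map_one' := rfl
      map_mul' := fun _ _ => rfl }
  let φ : NH →* NG ⧸ CG := (QuotientGroup.mk' CG).comp ι
  have hker : φ.ker = CH := by
    ext x
    rw [MonoidHom.mem_ker]
    show (QuotientGroup.mk' CG) (ι x) = 1 ↔ _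
    rw [QuotientGroup.mk'_apply, QuotientGroup.eq_one_iff]
    show ((x : H) : G) ∈ Subgroup.centralizer (P : Set G) ↔ (x : H) ∈ Subgroup.centralizer (P' : Set H)
    rw [Subgroup.mem_centralizer_iff, Subgroup.mem_centralizer_iff]
    constructor
    · intro h y hy
      apply Subtype.ext
      exact h (y : G) ⟨y, hy, rfl⟩
    · rintro h _ ⟨y, hy, rfl⟩
      exact congrArg Subtype.val (h y hy)
  let ψ : NH ⧸ CH →* NG ⧸ CG := QuotientGroup.lift CH φ (le_of_eq hker.symm)
  have hψinj : Function.Injective ψ := by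
    rw [← MonoidHom.ker_eq_bot_iff, QuotientGroup.ker_lift, hker]
    rw [eq_bot_iff]
    rintro _ ⟨x, hx, rfl⟩
    rw [Subgroup.mem_bot, QuotientGroup.mk'_apply, QuotientGroup.eq_one_iff]
    exact hx
  let O' : Subgroup (NH ⧸ CH) := (Cfsg.pCore p (NG ⧸ CG)).comap ψ
  have hO'n : O'.Normal := Subgroup.Normal.comap inferInstance ψ
  have hO'p : IsPGroup p O' := (pCore_isPGroup p (NG ⧸ CG)).comap_of_injective ψ hψinj
  have hle : O' ≤ Cfsg.pCore p (NH ⧸ CH) := le_pCore hO'n hO'p
  apply hle
  show ψ (QuotientGroup.mk (⟨g', hg'⟩ : NH)) ∈ Cfsg.pCore p (NG ⧸ CG)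
  exact hmain

end Cfsg.Agent.S3836
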