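import Cfsg.Statements.S1782
import Cfsg.Agent.Lib.H1.PGroupBasic
import Cfsg.Agent.Lib.H1.ActionBasic
import Cfsg.Agent.Lib.H14.Frattini
-- import your own Cfsg.Agent.* helpers here

set_option autoImplicit false
open Cfsg

namespace Cfsg.Agent.S1782

/-- Step 3: if `T` normalizes `R`, `|R| = |T|`, `R ∩ T = 1` and elements of `R` commuting with a
nontrivial element of `T` normalize `T`, then `R` and `T` commute elementwise. -/
theorem commute_of_le_normalizer {G : Type*} [Group G] [Finite G] (R T : Subgroup G)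
    (hcard : Nat.card R = Nat.card T) (hTN : T ≤ Subgroup.normalizer (R : Set G))
    (hRT : R ⊓ T = ⊥)
    (hti : ∀ u ∈ R, ∀ x ∈ T, x ≠ 1 → u * x = x * u → u ∈ Subgroup.normalizer (T : Set G)) :
    ∀ u ∈ R, ∀ x ∈ T, u * x = x * u := by
  classical
  -- elements of R normalizing T commute with T
  have h0 : ∀ u ∈ R, u ∈ Subgroup.normalizer (T : Set G) → ∀ x ∈ T, u * x = x * u := by
    intro u hu huN x hx
    have h1 : u * x * u⁻¹ * x⁻¹ ∈ R := by
      have : x * u⁻¹ * x⁻¹ ∈ R :=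
        (Subgroup.mem_normalizer_iff.mp (hTN hx) u⁻¹).mp (R.inv_mem hu)
      have e : u * x * u⁻¹ * x⁻¹ = u * (x * u⁻¹ * x⁻¹) := by group
      rw [e]; exact R.mul_mem hu this
    have h2 : u * x * u⁻¹ * x⁻¹ ∈ T := by
      have : u * x * u⁻¹ ∈ T := (Subgroup.mem_normalizer_iff.mp huN x).mp hx
      exact T.mul_mem this (T.inv_mem hx)
    have h3 : u * x * u⁻¹ * x⁻¹ ∈ R ⊓ T := ⟨h1, h2⟩
    rw [hRT, Subgroup.mem_bot] at h3
    calc u * x = (u * x * u⁻¹ * x⁻¹) * (x * u) := by group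
      _ = x * u := by rw [h3, one_mul]
  -- the action of T on the elements of R not normalizing T
  let X := {a : G // a ∈ R ∧ a ∉ Subgroup.normalizer (T : Set G)}
  let act : MulAction T X :=
    { smul := fun x a => ⟨(x : G) * a.1 * (x : G)⁻¹, by
        refine ⟨(Subgroup.mem_normalizer_iff.mp (hTN x.2) a.1).mp a.2.1, fun h => a.2.2 ?_⟩
        have hx : (x : G) ∈ Subgroup.normalizer (T : Set G) := Subgroup.le_normalizer x.2
        have e : a.1 = (x : G)⁻¹ * ((x : G) * a.1 * (x : G)⁻¹) * (x : G) := by group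
        rw [e]
        exact Subgroup.mul_mem _ (Subgroup.mul_mem _ (Subgroup.inv_mem _ hx) h) hx⟩
      one_smul := fun a => by
        apply Subtype.ext
        show ((1 : T) : G) * a.1 * ((1 : T) : G)⁻¹ = a.1
        simp
      mul_smul := fun x y a => by
        apply Subtype.ext
        show ((x * y : T) : G) * a.1 * ((x * y : T) : G)⁻¹ = (x : G) * ((y : G) * a.1 * (y : G)⁻¹) * (x : G)⁻¹
        simp only [Subgroup.coe_mul]; group }
  have hstab : ∀ a : X, (MulAction.stabilizer T a).index = Nat.card T := by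
    intro a
    have : MulAction.stabilizer T a = ⊥ := by
      rw [Subgroup.eq_bot_iff_forall]
      intro x hx
      by_contra hx1
      have h1 : (x : G) * a.1 * (x : G)⁻¹ = a.1 := congrArg Subtype.val (MulAction.mem_stabilizer_iff.mp hx)
      have h2 : a.1 * (x : G) = (x : G) * a.1 := by
        calc a.1 * (x : G) = ((x : G) * a.1 * (x : G)⁻¹) * (x : G) := by rw [h1]
          _ = (x : G) * a.1 := by group
      exact a.2.2 (hti a.1 a.2.1 x x.2 (fun h => hx1 (Subtype.ext h)) h2)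
    rw [this, Subgroup.index_bot]
  have hfinX : Finite X := Subtype.finite
  have hdvd : Nat.card T ∣ Nat.card X :=
    Cfsg.Agent.Lib.H1.dvd_card_of_forall_index_stabilizer (Nat.card T) hstab
  have hlt : Nat.card X < Nat.card R := by
    have : Fintype X := Fintype.ofFinite X
    have : Fintype R := Fintype.ofFinite R
    rw [Nat.card_eq_fintype_card, Nat.card_eq_fintype_card]
    apply Fintype.card_lt_of_injective_of_notMem (fun a : X => (⟨a.1, a.2.1⟩ : R)) (b := 1)
    · intro a b hab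
      apply Subtype.ext
      have h' : (⟨a.1, a.2.1⟩ : R) = ⟨b.1, b.2.1⟩ := hab
      have h'' := Subtype.ext_iff.mp h'
      exact h''
    · rintro ⟨a, ha⟩
      apply a.2.2
      have ha' : (⟨a.1, a.2.1⟩ : R) = 1 := ha
      have h'' := Subtype.ext_iff.mp ha'
      have : a.1 = 1 := h''
      rw [this]; exact Subgroup.one_mem _
  have hX0 : Nat.card X = 0 := Nat.eq_zero_of_dvd_of_lt hdvd (hcard ▸ hlt)
  have hXe : IsEmpty X := (Finite.card_eq_zero_iff).mp hX0
  intro u hu x hx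
  apply h0 u hu _ x hx
  by_contra hn
  exact hXe.false ⟨u, hu, hn⟩

/-- A proper subgroup `R` of a finite `p`-subgroup `P` lies in a proper subgroup of `P` invariant
under conjugation by `P`. -/
theorem exists_invariant_proper {G : Type*} [Group G] [Finite G] {p : ℕ} [Fact p.Prime]
    (P R : Subgroup G) (hP : IsPGroup p P) (hRP : R ≤ P) (hne : R ≠ P) :
    ∃ M : Subgroup G, R ≤ M ∧ M ≤ P ∧ M ≠ P ∧ ∀ g ∈ P, ∀ x ∈ M, g * x * g⁻¹ ∈ M := by
  have hR' : R.subgroupOf P ≠ ⊤ := by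
    intro h
    rw [Subgroup.subgroupOf_eq_top] at h
    exact hne (le_antisymm hRP h)
  obtain ⟨M', hM', hRM'⟩ := (eq_top_or_exists_le_coatom (R.subgroupOf P)).resolve_left hR'
  have hn : M'.Normal := Cfsg.Agent.Lib.H1.isPGroup_coatom_normal hP hM'
  refine ⟨M'.map P.subtype, ?_, ?_, ?_, ?_⟩
  · intro x hx
    exact ⟨⟨x, hRP hx⟩, hRM' (Subgroup.mem_subgroupOf.mpr hx), rfl⟩
  · rintro _ ⟨y, _, rfl⟩; exact y.2
  · intro h
    apply hM'.1
    rw [eq_top_iff]
    intro y _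
    have : (y : G) ∈ M'.map P.subtype := by rw [h]; exact y.2
    obtain ⟨y', hy', hyy'⟩ := this
    have : y' = y := Subtype.ext hyy'
    rw [← this]; exact hy'
  · rintro g hg _ ⟨y, hy, rfl⟩
    exact ⟨⟨g, hg⟩ * y * ⟨g, hg⟩⁻¹, hn.conj_mem y hy ⟨g, hg⟩, rfl⟩

/-- Step 4a. -/
theorem sq_eq_one_of_not_normalizer {G : Type*} [Group G] [Finite G] (R T : Subgroup G)
    (hT2 : IsPGroup 2 T)
    (hRcomm : ∀ g ∈ T, g ∉ Subgroup.normalizer (R : Set G) →
      ∀ a ∈ R, ∀ b ∈ R, a * (g * b * g⁻¹) = (g * b * g⁻¹) * a)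
    (hTcomm : ∀ g ∈ R, g ∉ Subgroup.normalizer (T : Set G) →
      ∀ a ∈ T, ∀ b ∈ T, a * (g * b * g⁻¹) = (g * b * g⁻¹) * a)
    (hRti : ∀ g ∈ T, g ∉ Subgroup.normalizer (R : Set G) → ∀ a ∈ R, g * a * g⁻¹ ∈ R → a = 1)
    (hnot : ¬ T ≤ Subgroup.normalizer (R : Set G)) :
    ∀ v ∈ R, v ∉ Subgroup.normalizer (T : Set G) → v * v = 1 := by
  classical
  -- an element t ∈ T \ N(R) with t² ∈ N(R)
  obtain ⟨s, hsT, hsN⟩ := SetLike.not_le_iff_exists.mp hnot
  obtain ⟨m, hm⟩ := hT2 ⟨s, hsT⟩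
  have hm' : s ^ 2 ^ m = 1 := by
    have := congrArg Subtype.val hm
    simpa using this
  have hex : ∃ k, s ^ 2 ^ k ∈ Subgroup.normalizer (R : Set G) := ⟨m, by rw [hm']; exact one_mem _⟩
  have hk0 : Nat.find hex ≠ 0 := by
    intro h0
    have := Nat.find_spec hex
    rw [h0] at this
    simp at this
    exact hsN this
  obtain ⟨k, hk⟩ := Nat.exists_eq_succ_of_ne_zero hk0
  have htN : s ^ 2 ^ k ∉ Subgroup.normalizer (R : Set G) := by
    have := Nat.find_min hex (m := k) (by omega)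
    exact this
  have ht2 : (s ^ 2 ^ k) * (s ^ 2 ^ k) ∈ Subgroup.normalizer (R : Set G) := by
    have := Nat.find_spec hex
    rw [hk, Nat.succ_eq_add_one, pow_succ, pow_mul, pow_two] at this
    exact this
  have htT : s ^ 2 ^ k ∈ T := T.pow_mem hsT _
  generalize s ^ 2 ^ k = t at htN ht2 htT
  intro v hv hvN
  have c1 := hRcomm t htT htN v hv v⁻¹ (R.inv_mem hv)
  have c2 := hTcomm v hv hvN t⁻¹ (T.inv_mem htT) t htT
  -- E1 = E2
  have E1 : (v * t * v⁻¹ * t⁻¹) * (v * t * v⁻¹ * t⁻¹) = (v * v) * (t * (v⁻¹ * v⁻¹) * t⁻¹) := by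
    calc (v * t * v⁻¹ * t⁻¹) * (v * t * v⁻¹ * t⁻¹)
        = v * ((t * v⁻¹ * t⁻¹) * v) * (t * v⁻¹ * t⁻¹) := by group
      _ = v * (v * (t * v⁻¹ * t⁻¹)) * (t * v⁻¹ * t⁻¹) := by rw [c1]
      _ = _ := by group
  have E2 : (v * t * v⁻¹ * t⁻¹) * (v * t * v⁻¹ * t⁻¹) = (v * (t * t) * v⁻¹) * (t⁻¹ * t⁻¹) := by
    calc (v * t * v⁻¹ * t⁻¹) * (v * t * v⁻¹ * t⁻¹)
        = (v * t * v⁻¹) * (t⁻¹ * (v * t * v⁻¹)) * t⁻¹ := by group
      _ = (v * t * v⁻¹) * ((v * t * v⁻¹) * t⁻¹) * t⁻¹ := by rw [c2]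
      _ = _ := by group
  have h3 : t * (v⁻¹ * v⁻¹) * t⁻¹ ∈ R := by
    have e : t * (v⁻¹ * v⁻¹) * t⁻¹ = v⁻¹ * ((t * t) * v⁻¹ * (t * t)⁻¹) := by
      have := E1.symm.trans E2
      calc t * (v⁻¹ * v⁻¹) * t⁻¹ = (v * v)⁻¹ * ((v * v) * (t * (v⁻¹ * v⁻¹) * t⁻¹)) := by group
        _ = (v * v)⁻¹ * ((v * (t * t) * v⁻¹) * (t⁻¹ * t⁻¹)) := by rw [this]
        _ = _ := by group
    rw [e]
    exact R.mul_mem (R.inv_mem hv)
      ((Subgroup.mem_normalizer_iff.mp ht2 v⁻¹).mp (R.inv_mem hv))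
  have h4 := hRti t htT htN (v⁻¹ * v⁻¹) (R.mul_mem (R.inv_mem hv) (R.inv_mem hv)) h3
  calc v * v = (v⁻¹ * v⁻¹)⁻¹ := by rw [mul_inv_rev, inv_inv]
    _ = 1 := by rw [h4, inv_one]

theorem mem_normalizer_iff_map_eq {G : Type*} [Group G] (D : Subgroup G) (g : G) :
    g ∈ Subgroup.normalizer (D : Set G) ↔ D.map (MulAut.conj g).toMonoidHom = D := by
  rw [Subgroup.mem_normalizer_iff]
  constructor
  · intro h
    ext y
    constructor
    · rintro ⟨x, hx, rfl⟩
      exact (h x).mp hx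
    · intro hy
      refine ⟨g⁻¹ * y * g, ?_, ?_⟩
      · rw [SetLike.mem_coe, h]
        have : g * (g⁻¹ * y * g) * g⁻¹ = y := by group
        rw [this]; exact hy
      · show g * (g⁻¹ * y * g) * g⁻¹ = y
        group
  · intro h y
    constructor
    · intro hy
      rw [← h]
      exact ⟨y, hy, rfl⟩
    · intro hy
      rw [← h] at hy
      obtain ⟨x, hx, hxy⟩ := hy
      have hxy' : g * x * g⁻¹ = g * y * g⁻¹ := hxy
      have : x = y := by
        calc x = g⁻¹ * (g * x * g⁻¹) * g := by group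
          _ = g⁻¹ * (g * y * g⁻¹) * g := by rw [hxy']
          _ = y := by group
      rw [← this]; exact hx

theorem comm_of_sq {G : Type*} [Group G] {a b : G} (ha : a * a = 1) (hb : b * b = 1)
    (hab : (a * b) * (a * b) = 1) : a * b = b * a := by
  symm
  calc b * a = b * a * (a * b * (a * b)) := by rw [hab, mul_one]
    _ = b * (a * a) * b * (a * b) := by group
    _ = (b * b) * (a * b) := by rw [ha, mul_one]
    _ = a * b := by rw [hb, one_mul]

/-- An involution-or-trivial-everywhere subgroup has trivial Frattini subgroup. -/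
theorem frattini_eq_bot_of_sq {G : Type*} [Group G] [Finite G] (R : Subgroup G)
    (h : ∀ v ∈ R, v * v = 1) : frattini ↥R = ⊥ := by
  have : Fact (Nat.Prime 2) := ⟨Nat.prime_two⟩
  have hexp : ∀ v : R, v ^ 2 = 1 := by
    intro v
    apply Subtype.ext
    rw [pow_two]
    exact h v.1 v.2
  apply Cfsg.Agent.Lib.H14.frattini_eq_bot_of_exponent 2 _ hexp
  intro a b
  have ha := hexp a
  have hb := hexp b
  have hab := hexp (a * b)
  rw [pow_two] at ha hb hab
  exact comm_of_sq ha hb hab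

/-- The ambient form of the statement, by induction on the order of the 2-group `P`. -/
theorem key {G : Type*} [Group G] [Finite G] : ∀ (n : ℕ) (P : Subgroup G), Nat.card P ≤ n →
    IsPGroup 2 P → ∀ (Δ : Set (Subgroup G)), (∀ R ∈ Δ, R ≤ P) →
      (∀ s ∈ P, ∀ R ∈ Δ, R.map (MulAut.conj s).toMonoidHom ∈ Δ) →
      (∀ R ∈ Δ, frattini ↥R ≠ ⊥) → (∀ R ∈ Δ, ∀ T ∈ Δ, Nat.card ↥R = Nat.card ↥T) →
      (∀ R ∈ Δ, ∀ T ∈ Δ, R = T ∨ R ⊓ T = ⊥) →
      ∀ R ∈ Δ, ∀ T ∈ Δ, R ≠ T → ∀ u ∈ R, ∀ x ∈ T, u * x = x * u := by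
  intro n
  induction n with
  | zero =>
    intro P hPn
    exfalso
    have : 0 < Nat.card P := Nat.card_pos
    omega
  | succ n ih =>
    intro P hPn hP2 Δ hΔP hinv hΦ hord hti R hR T hT hRT
    have : Fact (Nat.Prime 2) := ⟨Nat.prime_two⟩
    -- application of the induction hypothesis
    have IH : ∀ P' : Subgroup G, P' ≤ P → P' ≠ P → ∀ A ∈ Δ, ∀ B ∈ Δ, A ≤ P' → B ≤ P' → A ≠ B →
        ∀ a ∈ A, ∀ b ∈ B, a * b = b * a := by
      intro P' hP'P hP'ne A hA B hB hAP' hBP' hAB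
      have hlt : Nat.card P' < Nat.card P := by
        by_contra hge
        push Not at hge
        exact hP'ne (Subgroup.eq_of_le_of_card_ge hP'P hge)
      exact ih P' (by omega) (hP2.to_le hP'P) {D | D ∈ Δ ∧ D ≤ P'} (fun D hD => hD.2)
        (fun s hs D hD => ⟨hinv s (hP'P hs) D hD.1, by
          rintro _ ⟨y, hy, rfl⟩
          exact P'.mul_mem (P'.mul_mem hs (hD.2 hy)) (P'.inv_mem hs)⟩)
        (fun D hD => hΦ D hD.1) (fun D hD E hE => hord D hD.1 E hE.1)
        (fun D hD E hE => hti D hD.1 E hE.1) A ⟨hA, hAP'⟩ B ⟨hB, hBP'⟩ hAB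
    -- TI consequences
    have tiN : ∀ D ∈ Δ, ∀ u ∈ P, ∀ x ∈ D, x ≠ 1 → u * x = x * u →
        u ∈ Subgroup.normalizer (D : Set G) := by
      intro D hD u hu x hx hx1 hc
      rw [mem_normalizer_iff_map_eq]
      rcases hti _ (hinv u hu D hD) D hD with h | h
      · exact h
      · exfalso
        have hmem : x ∈ D.map (MulAut.conj u).toMonoidHom ⊓ D := by
          refine ⟨⟨x, hx, ?_⟩, hx⟩
          show u * x * u⁻¹ = x
          rw [hc]; group
        rw [h, Subgroup.mem_bot] at hmem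
        exact hx1 hmem
    have tiC : ∀ D ∈ Δ, ∀ g ∈ P, g ∉ Subgroup.normalizer (D : Set G) → ∀ a ∈ D,
        g * a * g⁻¹ ∈ D → a = 1 := by
      intro D hD g hg hgN a ha hga
      rcases hti _ (hinv g hg D hD) D hD with h | h
      · exact absurd ((mem_normalizer_iff_map_eq D g).mpr h) hgN
      · have hmem : g * a * g⁻¹ ∈ D.map (MulAut.conj g).toMonoidHom ⊓ D := ⟨⟨a, ha, rfl⟩, hga⟩
        rw [h, Subgroup.mem_bot] at hmem
        calc a = g⁻¹ * (g * a * g⁻¹) * g := by group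
          _ = 1 := by rw [hmem]; group
    -- conjugates commute
    have conjComm : ∀ D ∈ Δ, D ≠ P → ∀ g ∈ P, g ∉ Subgroup.normalizer (D : Set G) →
        ∀ a ∈ D, ∀ b ∈ D, a * (g * b * g⁻¹) = (g * b * g⁻¹) * a := by
      intro D hD hDne g hg hgN a ha b hb
      obtain ⟨M, hDM, hMP, hMne, hMinv⟩ := exists_invariant_proper P D hP2 (hΔP D hD) hDne
      have hne : D ≠ D.map (MulAut.conj g).toMonoidHom := fun h =>
        hgN ((mem_normalizer_iff_map_eq D g).mpr h.symm)
      exact IH M hMP hMne D hD _ (hinv g hg D hD) hDM (by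
        rintro _ ⟨y, hy, rfl⟩
        exact hMinv g hg y (hDM hy)) hne a ha _ ⟨b, hb, rfl⟩
    have hRne : R ≠ P := by
      intro h
      apply hRT
      have hTR : T ≤ R := h ▸ hΔP T hT
      exact (Subgroup.eq_of_le_of_card_ge hTR (hord R hR T hT).le).symm
    have hTne : T ≠ P := by
      intro h
      apply hRT
      have hRT' : R ≤ T := h ▸ hΔP R hR
      exact Subgroup.eq_of_le_of_card_ge hRT' (hord T hT R hR).le
    have hinf : R ⊓ T = ⊥ := (hti R hR T hT).resolve_left hRT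
    by_cases h1 : T ≤ Subgroup.normalizer (R : Set G)
    · exact commute_of_le_normalizer R T (hord R hR T hT) h1 hinf
        (fun u hu x hx hx1 hc => tiN T hT u (hΔP R hR hu) x hx hx1 hc)
    by_cases h2 : R ≤ Subgroup.normalizer (T : Set G)
    · intro u hu x hx
      exact (commute_of_le_normalizer T R (hord T hT R hR) h2 (inf_comm R T ▸ hinf)
        (fun u hu x hx hx1 hc => tiN R hR u (hΔP T hT hu) x hx hx1 hc) x hx u hu).symm
    exfalso
    have hRsq := sq_eq_one_of_not_normalizer R T (hP2.to_le (hΔP T hT))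
      (fun g hg hgN => conjComm R hR hRne g (hΔP T hT hg) hgN)
      (fun g hg hgN => conjComm T hT hTne g (hΔP R hR hg) hgN)
      (fun g hg hgN => tiC R hR g (hΔP T hT hg) hgN) h1
    have hTsq := sq_eq_one_of_not_normalizer T R (hP2.to_le (hΔP R hR))
      (fun g hg hgN => conjComm T hT hTne g (hΔP R hR hg) hgN)
      (fun g hg hgN => conjComm R hR hRne g (hΔP T hT hg) hgN)
      (fun g hg hgN => tiC T hT g (hΔP R hR hg) hgN) h2
    -- an involution in R ⊓ N(T)
    have hR0 : R ⊓ Subgroup.normalizer (T : Set G) ≠ ⊥ := by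
      intro h0
      apply hΦ R hR
      apply frattini_eq_bot_of_sq
      intro v hv
      by_cases hvN : v ∈ Subgroup.normalizer (T : Set G)
      · have : v ∈ R ⊓ Subgroup.normalizer (T : Set G) := ⟨hv, hvN⟩
        rw [h0, Subgroup.mem_bot] at this
        rw [this, one_mul]
      · exact hRsq v hv hvN
    obtain ⟨w, hw⟩ : ∃ w : ↥(R ⊓ Subgroup.normalizer (T : Set G)), orderOf w = 2 := by
      have hnt : Nontrivial ↥(R ⊓ Subgroup.normalizer (T : Set G)) :=
        (Subgroup.nontrivial_iff_ne_bot _).mpr hR0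
      have h2g : IsPGroup 2 ↥(R ⊓ Subgroup.normalizer (T : Set G)) :=
        hP2.to_le (inf_le_left.trans (hΔP R hR))
      have hdvd : 2 ∣ Nat.card ↥(R ⊓ Subgroup.normalizer (T : Set G)) := by
        rcases h2g.card_eq_or_dvd with h | h
        · exact absurd h (Finite.one_lt_card_iff_nontrivial.mpr hnt).ne'
        · exact h
      exact exists_prime_orderOf_dvd_card' 2 hdvd
    have hwR : (w : G) ∈ R := w.2.1
    have hwN : (w : G) ∈ Subgroup.normalizer (T : Set G) := w.2.2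
    have hwo : orderOf (w : G) = 2 := by rw [Subgroup.orderOf_coe]; exact hw
    have hw1 : (w : G) ≠ 1 := by
      intro h; rw [h, orderOf_one] at hwo; omega
    have hw2 : (w : G) * (w : G) = 1 := by rw [← pow_two, ← hwo, pow_orderOf_eq_one]
    generalize (w : G) = w' at hwR hwN hw1 hw2
    obtain ⟨v, hvR, hvN⟩ := SetLike.not_le_iff_exists.mp h2
    obtain ⟨t, htT, htN⟩ := SetLike.not_le_iff_exists.mp h1
    have hv2 := hRsq v hvR hvN
    have ht2 := hTsq t htT htN
    have hvwN : v * w' ∉ Subgroup.normalizer (T : Set G) := by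
      intro h
      apply hvN
      have : v = (v * w') * w'⁻¹ := by group
      rw [this]
      exact Subgroup.mul_mem _ h (Subgroup.inv_mem _ hwN)
    have hvw2 := hRsq (v * w') (R.mul_mem hvR hwR) hvwN
    have hvw : v * w' = w' * v := comm_of_sq hv2 hw2 hvw2
    have hvw' : v * (t * w' * t⁻¹) = (t * w' * t⁻¹) * v :=
      conjComm R hR hRne t (hΔP T hT htT) htN v hvR w' hwR
    have hwinv : w'⁻¹ = w' := inv_eq_of_mul_eq_one_right hw2
    have hcT : w' * (t * w' * t⁻¹) ∈ T := by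
      have h3 : w' * t * w'⁻¹ ∈ T := (Subgroup.mem_normalizer_iff.mp hwN t).mp htT
      have e : w' * (t * w' * t⁻¹) = (w' * t * w'⁻¹) * t⁻¹ := by rw [hwinv]; group
      rw [e]
      exact T.mul_mem h3 (T.inv_mem htT)
    have hvc : v * (w' * (t * w' * t⁻¹)) = (w' * (t * w' * t⁻¹)) * v := by
      calc v * (w' * (t * w' * t⁻¹)) = (v * w') * (t * w' * t⁻¹) := by group
        _ = (w' * v) * (t * w' * t⁻¹) := by rw [hvw]
        _ = w' * (v * (t * w' * t⁻¹)) := by group
        _ = w' * ((t * w' * t⁻¹) * v) := by rw [hvw']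
        _ = _ := by group
    by_cases hc : w' * (t * w' * t⁻¹) = 1
    · apply htN
      apply tiN R hR t (hΔP T hT htT) w' hwR hw1
      calc t * w' = (w' * w') * (t * w') := by rw [hw2, one_mul]
        _ = w' * (w' * (t * w' * t⁻¹)) * t := by group
        _ = w' * t := by rw [hc, mul_one]
    · exact hvN (tiN T hT v (hΔP R hR hvR) _ hcT hc hvc)



/-- Let S be a finite 2-group and Δ a set of subgroups of S closed under conjugation by S, all of the same order, each with nontrivial Frattini subgroup, and such that two distinct members of Δ meet trivially. Then any two distinct members of Δ commute elementwise. -/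
theorem result {S : Type*} [Group S] [Finite S] (hS : IsPGroup 2 S)
    (Δ : Set (Subgroup S)) (hinv : ∀ s : S, ∀ R ∈ Δ, R.map (MulAut.conj s).toMonoidHom ∈ Δ)
    (hΦ : ∀ R ∈ Δ, frattini ↥R ≠ ⊥) (hord : ∀ R ∈ Δ, ∀ T ∈ Δ, Nat.card ↥R = Nat.card ↥T)
    (hti : ∀ R ∈ Δ, ∀ T ∈ Δ, R = T ∨ R ⊓ T = ⊥) :
    ∀ R ∈ Δ, ∀ T ∈ Δ, R ≠ T → ⁅R, T⁆ = ⊥ := by
  intro R hR T hT hRT
  rw [Subgroup.commutator_eq_bot_iff_le_centralizer]
  intro u hu
  rw [Subgroup.mem_centralizer_iff]
  intro x hx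
  exact (key (Nat.card (⊤ : Subgroup S)) ⊤ le_rfl (hS.to_subgroup ⊤) Δ (fun _ _ => le_top)
    (fun s _ => hinv s) hΦ hord hti R hR T hT hRT u hu x hx).symm


end Cfsg.Agent.S1782
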