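import Cfsg.Statements.S1783
import Cfsg.Agent.S1782
import Cfsg.Agent.Lib.H9.FrattiniAction
import Cfsg.Agent.Lib.H7.PLocal
import Cfsg.Agent.Lib.H5.SylowIn
-- import your own Cfsg.Agent.* helpers here

set_option autoImplicit false
open Cfsg

namespace Cfsg.Agent.S1783

/-- The subgroup generated by the squares of the elements of `A`. -/
def sqSub {X : Type*} [Group X] (A : Subgroup X) : Subgroup X :=
  Subgroup.closure ((fun a : X => a ^ 2) '' (A : Set X))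

theorem sqSub_le {X : Type*} [Group X] (A : Subgroup X) : sqSub A ≤ A := by
  unfold sqSub
  rw [Subgroup.closure_le]
  rintro _ ⟨a, ha, rfl⟩
  exact A.pow_mem ha 2

theorem sqSub_map {X : Type*} [Group X] (A : Subgroup X) (f : X →* X) :
    (sqSub A).map f = sqSub (A.map f) := by
  unfold sqSub
  rw [MonoidHom.map_closure]
  congr 1
  ext z
  constructor
  · rintro ⟨_, ⟨a, ha, rfl⟩, rfl⟩
    exact ⟨f a, ⟨a, ha, rfl⟩, (map_pow f a 2).symm⟩
  · rintro ⟨_, ⟨a, ha, rfl⟩, rfl⟩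
    exact ⟨a ^ 2, ⟨a, ha, rfl⟩, map_pow f a 2⟩

theorem frattini_ne_bot_of_sq_ne_one {X : Type*} [Group X] [Finite X] (R : Subgroup X)
    (hR : IsPGroup 2 R) (r : X) (hr : r ∈ R) (hr2 : r ^ 2 ≠ 1) : frattini ↥R ≠ ⊥ := by
  haveI : Fact (Nat.Prime 2) := ⟨Nat.prime_two⟩
  intro h
  have h1 := Cfsg.Agent.Lib.H1.isPGroup_pow_mem_frattini hR (⟨r, hr⟩ : ↥R)
  rw [h, Subgroup.mem_bot] at h1
  apply hr2
  have := congrArg Subtype.val h1
  simpa using this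

/-- The TI hypothesis for all pairs of conjugates. -/
theorem ti_pairs {X : Type*} [Group X] (A : Subgroup X)
    (hti : ∀ h : X, A.map (MulAut.conj h).toMonoidHom = A ∨ A.map (MulAut.conj h).toMonoidHom ⊓ A = ⊥)
    (x y : X) : A.map (MulAut.conj x).toMonoidHom = A.map (MulAut.conj y).toMonoidHom ∨
      A.map (MulAut.conj x).toMonoidHom ⊓ A.map (MulAut.conj y).toMonoidHom = ⊥ := by
  have e : (A.map (MulAut.conj (y⁻¹ * x)).toMonoidHom).map (MulAut.conj y).toMonoidHom =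
      A.map (MulAut.conj x).toMonoidHom := by
    rw [Subgroup.map_map]
    congr 1
    ext z
    simp only [MonoidHom.comp_apply, MulEquiv.coe_toMonoidHom, MulAut.conj_apply]
    group
  rcases hti (y⁻¹ * x) with h | h
  · left
    rw [← e, h]
  · right
    rw [← e, ← Subgroup.map_inf _ _ _ (MulAut.conj y).injective, h, Subgroup.map_bot]
/-- The centralizer in `X` of `Q/Φ(Q)`, for a normal subgroup `Q`. -/
def frattiniKernel {X : Type*} [Group X] (Q : Subgroup X) [hQn : Q.Normal] : Subgroup X where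
  carrier := {x | ∀ q ∈ Q, x * q * x⁻¹ * q⁻¹ ∈ (frattini ↥Q).map Q.subtype}
  one_mem' := by
    intro q _
    simp only [one_mul, inv_one, mul_one, mul_inv_cancel]
    exact Subgroup.one_mem _
  mul_mem' := by
    intro x y hx hy q hq
    have hn : ∀ g : X, ∀ d ∈ (frattini ↥Q).map Q.subtype, g * d * g⁻¹ ∈ (frattini ↥Q).map Q.subtype := by
      intro g d hd
      have hg : g ∈ Subgroup.normalizer (Q : Set X) := by
        rw [Subgroup.normalizer_eq_top_iff.mpr hQn]; exact Subgroup.mem_top g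
      exact Cfsg.Agent.Lib.H1.conj_mem_map_of_characteristic hg hd
    have e : x * y * q * (x * y)⁻¹ * q⁻¹ = x * (y * q * y⁻¹ * q⁻¹) * x⁻¹ * (x * q * x⁻¹ * q⁻¹) := by
      group
    show x * y * q * (x * y)⁻¹ * q⁻¹ ∈ _
    rw [e]
    exact Subgroup.mul_mem _ (hn x _ (hy q hq)) (hx q hq)
  inv_mem' := by
    intro x hx q hq
    have hq' : x⁻¹ * q * x ∈ Q := by
      have := hQn.conj_mem q hq x⁻¹
      simpa using this
    have h1 := hx _ hq'
    have e : x⁻¹ * q * x⁻¹⁻¹ * q⁻¹ = (x * (x⁻¹ * q * x) * x⁻¹ * (x⁻¹ * q * x)⁻¹)⁻¹ := by group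
    show x⁻¹ * q * x⁻¹⁻¹ * q⁻¹ ∈ _
    rw [e]
    exact Subgroup.inv_mem _ h1

theorem mem_frattiniKernel {X : Type*} [Group X] (Q : Subgroup X) [hQn : Q.Normal] (x : X) :
    x ∈ frattiniKernel Q ↔ ∀ q ∈ Q, x * q * x⁻¹ * q⁻¹ ∈ (frattini ↥Q).map Q.subtype := Iff.rfl

theorem frattiniKernel_normal {X : Type*} [Group X] (Q : Subgroup X) [hQn : Q.Normal] :
    (frattiniKernel Q).Normal := by
  constructor
  intro x hx g q hq
  have hn : ∀ g : X, ∀ d ∈ (frattini ↥Q).map Q.subtype, g * d * g⁻¹ ∈ (frattini ↥Q).map Q.subtype := by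
    intro g d hd
    have hg : g ∈ Subgroup.normalizer (Q : Set X) := by
      rw [Subgroup.normalizer_eq_top_iff.mpr hQn]; exact Subgroup.mem_top g
    exact Cfsg.Agent.Lib.H1.conj_mem_map_of_characteristic hg hd
  have hq' : g⁻¹ * q * g ∈ Q := by
    have := hQn.conj_mem q hq g⁻¹
    simpa using this
  have h1 := hx _ hq'
  have e : g * x * g⁻¹ * q * (g * x * g⁻¹)⁻¹ * q⁻¹ =
      g * (x * (g⁻¹ * q * g) * x⁻¹ * (g⁻¹ * q * g)⁻¹) * g⁻¹ := by group
  rw [e]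
  exact hn g _ h1

/-- If `C_X(Q) ≤ Q` for the normal `2`-subgroup `Q`, the centralizer of `Q/Φ(Q)` is a `2`-group. -/
theorem frattiniKernel_isPGroup {X : Type*} [Group X] [Finite X] (Q : Subgroup X) [hQn : Q.Normal]
    (hQ2 : IsPGroup 2 Q) (hCQ : Subgroup.centralizer (Q : Set X) ≤ Q) :
    IsPGroup 2 (frattiniKernel Q) := by
  haveI : Fact (Nat.Prime 2) := ⟨Nat.prime_two⟩
  apply Cfsg.Agent.Lib.H7.isPGroup_of_coprime_eq_one
  intro y hyK hy
  have hyN : y ∈ Subgroup.normalizer (Q : Set X) := by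
    rw [Subgroup.normalizer_eq_top_iff.mpr hQn]; exact Subgroup.mem_top y
  have hcomm := Cfsg.Agent.Lib.H9.commute_of_commutator_mem_frattini hQ2 hyN hy
    (fun a ha q hq => (Subgroup.zpowers_le.mpr hyK) ha q hq)
  have hyC : y ∈ Subgroup.centralizer (Q : Set X) := by
    rw [Subgroup.mem_centralizer_iff]
    intro q hq
    exact (hcomm q hq).symm
  exact Cfsg.Agent.Lib.H7.eq_one_of_mem_of_isPGroup_of_coprime hQ2 (hCQ hyC) hy
/-- Part 1: the squares of the elements of `A` lie in `O_2(X)`. -/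
theorem part1 {X : Type*} [Group X] [Finite X]
    (hX : Cfsg.generalizedFittingSubgroup X = Cfsg.pCore 2 X) (A : Subgroup X)
    (hA2 : IsPGroup 2 ↥A) (hAa : IsMulCommutative ↥A)
    (hti : ∀ h : X, A.map (MulAut.conj h).toMonoidHom = A ∨
      A.map (MulAut.conj h).toMonoidHom ⊓ A = ⊥) : ∀ a ∈ A, a ^ 2 ∈ Cfsg.pCore 2 X := by
  haveI : Fact (Nat.Prime 2) := ⟨Nat.prime_two⟩
  haveI hQn : (Cfsg.pCore 2 X).Normal := Cfsg.Agent.Lib.H1.pCore_normal 2 X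
  have hQ2 : IsPGroup 2 (Cfsg.pCore 2 X) := Cfsg.Agent.Lib.H1.pCore_isPGroup 2 X
  have hCQ := Cfsg.Agent.Lib.H7.centralizer_pCore_le_of_generalizedFittingSubgroup_eq 2 hX
  by_cases hall : ∀ a ∈ A, a ^ 2 = 1
  · intro a ha; rw [hall a ha]; exact Subgroup.one_mem _
  push Not at hall
  obtain ⟨a₀, ha₀, ha₀2⟩ := hall
  have hAcomm : ∀ a ∈ A, ∀ b ∈ A, a * b = b * a := by
    intro a ha b hb
    have := hAa.is_comm.comm ⟨a, ha⟩ ⟨b, hb⟩
    exact congrArg Subtype.val this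
  have hP2 : IsPGroup 2 (A ⊔ Cfsg.pCore 2 X : Subgroup X) :=
    IsPGroup.to_sup_of_normal_right hA2 hQ2
  have hkey := Cfsg.Agent.S1782.key (Nat.card (A ⊔ Cfsg.pCore 2 X : Subgroup X))
      (A ⊔ Cfsg.pCore 2 X) le_rfl hP2
      {R | ∃ s ∈ A ⊔ Cfsg.pCore 2 X, R = A.map (MulAut.conj s).toMonoidHom} ?_ ?_ ?_ ?_ ?_
  rotate_left
  · rintro R ⟨s, hs, rfl⟩
    rintro _ ⟨a, ha, rfl⟩
    exact Subgroup.mul_mem _ (Subgroup.mul_mem _ hs (le_sup_left (a := A) ha))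
      (Subgroup.inv_mem _ hs)
  · rintro s hs R ⟨t, ht, rfl⟩
    refine ⟨s * t, Subgroup.mul_mem _ hs ht, ?_⟩
    rw [Subgroup.map_map]
    congr 1
    ext z
    simp [MulAut.conj_apply, mul_assoc]
  · rintro R ⟨s, hs, rfl⟩
    apply frattini_ne_bot_of_sq_ne_one _ (hA2.map _) (s * a₀ * s⁻¹) ⟨a₀, ha₀, rfl⟩
    intro h
    apply ha₀2
    rw [conj_pow] at h
    exact conj_eq_one_iff.mp h
  · rintro R ⟨s, hs, rfl⟩ T ⟨t, ht, rfl⟩
    rw [Subgroup.card_map_of_injective (MulAut.conj s).injective,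
      Subgroup.card_map_of_injective (MulAut.conj t).injective]
  · rintro R ⟨s, hs, rfl⟩ T ⟨t, ht, rfl⟩
    exact ti_pairs A hti s t
  have hcomm : ∀ q ∈ Cfsg.pCore 2 X, ∀ a ∈ A, (q * a * q⁻¹) * a = a * (q * a * q⁻¹) := by
    intro q hq a ha
    by_cases hR : A.map (MulAut.conj q).toMonoidHom = A
    · have : q * a * q⁻¹ ∈ A := by rw [← hR]; exact ⟨a, ha, rfl⟩
      exact hAcomm _ this a ha
    · refine hkey (A.map (MulAut.conj q).toMonoidHom) ⟨q, le_sup_right (a := A) hq, rfl⟩ A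
        ⟨1, Subgroup.one_mem _, ?_⟩ hR (q * a * q⁻¹) ⟨a, ha, rfl⟩ a ha
      ext z
      simp
  intro a ha
  have hK2 := frattiniKernel_isPGroup (Cfsg.pCore 2 X) hQ2 hCQ
  have hKn := frattiniKernel_normal (Cfsg.pCore 2 X)
  apply Cfsg.Agent.Lib.H1.le_pCore hKn hK2
  rw [mem_frattiniKernel]
  intro q hq
  have hd : a * q * a⁻¹ * q⁻¹ ∈ Cfsg.pCore 2 X :=
    Subgroup.mul_mem _ (hQn.conj_mem q hq a) (Subgroup.inv_mem _ hq)
  have hda : (a * q * a⁻¹ * q⁻¹) * a = a * (a * q * a⁻¹ * q⁻¹) := by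
    have h1 : Commute (q * a * q⁻¹) a := hcomm q hq a ha
    have e : a * q * a⁻¹ * q⁻¹ = a * (q * a * q⁻¹)⁻¹ := by group
    rw [e]
    have h2 : (q * a * q⁻¹)⁻¹ * a = a * (q * a * q⁻¹)⁻¹ := h1.inv_left.eq
    rw [mul_assoc, h2, mul_assoc]
  have e2 : a ^ 2 * q * (a ^ 2)⁻¹ * q⁻¹ = (a * q * a⁻¹ * q⁻¹) ^ 2 := by
    have h3 : a * (a * q * a⁻¹ * q⁻¹) * a⁻¹ = a * q * a⁻¹ * q⁻¹ := by
      rw [← hda]; group
    calc a ^ 2 * q * (a ^ 2)⁻¹ * q⁻¹
        = (a * a) * q * (a * a)⁻¹ * q⁻¹ := by rw [sq]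
      _ = (a * (a * q * a⁻¹ * q⁻¹) * a⁻¹) * (a * q * a⁻¹ * q⁻¹) := by group
      _ = (a * q * a⁻¹ * q⁻¹) ^ 2 := by rw [h3, sq]
  rw [e2]
  have := Cfsg.Agent.Lib.H1.isPGroup_pow_mem_frattini hQ2 (⟨_, hd⟩ : ↥(Cfsg.pCore 2 X))
  exact ⟨_, this, by simp⟩
/-- Part 2. -/
theorem part2 {X : Type*} [Group X] [Finite X] (A : Subgroup X)
    (hA2 : IsPGroup 2 ↥A) (hAa : IsMulCommutative ↥A)
    (hti : ∀ h : X, A.map (MulAut.conj h).toMonoidHom = A ∨
      A.map (MulAut.conj h).toMonoidHom ⊓ A = ⊥)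
    (hB : ∀ a ∈ A, a ^ 2 ∈ Cfsg.pCore 2 X)
    (hne : ¬ Cfsg.IsElementaryAbelian 2 (sqSub A)) :
    IsMulCommutative ↥(Subgroup.normalClosure ((fun a : X => a ^ 2) '' (A : Set X))) := by
  haveI : Fact (Nat.Prime 2) := ⟨Nat.prime_two⟩
  haveI hQn : (Cfsg.pCore 2 X).Normal := Cfsg.Agent.Lib.H1.pCore_normal 2 X
  have hQ2 : IsPGroup 2 (Cfsg.pCore 2 X) := Cfsg.Agent.Lib.H1.pCore_isPGroup 2 X
  have hAcomm : ∀ a ∈ A, ∀ b ∈ A, a * b = b * a := by
    intro a ha b hb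
    have := hAa.is_comm.comm ⟨a, ha⟩ ⟨b, hb⟩
    exact congrArg Subtype.val this
  have hBA : sqSub A ≤ A := sqSub_le A
  have hBQ : sqSub A ≤ Cfsg.pCore 2 X := by
    unfold sqSub
    rw [Subgroup.closure_le]
    rintro _ ⟨a, ha, rfl⟩
    exact hB a ha
  have hBcomm : IsMulCommutative ↥(sqSub A) :=
    ⟨⟨fun a b => Subtype.ext (hAcomm a (hBA a.2) b (hBA b.2))⟩⟩
  have hex : ∃ b ∈ sqSub A, b ^ 2 ≠ 1 := by
    by_contra hcon
    push Not at hcon
    exact hne ⟨hBcomm, hcon⟩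
  obtain ⟨b₀, hb₀, hb₀2⟩ := hex
  have hB2 : IsPGroup 2 (sqSub A) := hA2.to_le hBA
  have hkey := Cfsg.Agent.S1782.key (Nat.card (Cfsg.pCore 2 X)) (Cfsg.pCore 2 X) le_rfl hQ2
      {R | ∃ x : X, R = (sqSub A).map (MulAut.conj x).toMonoidHom} ?_ ?_ ?_ ?_ ?_
  rotate_left
  · rintro R ⟨x, rfl⟩
    rintro _ ⟨b, hb, rfl⟩
    exact hQn.conj_mem b (hBQ hb) x
  · rintro s hs R ⟨t, rfl⟩
    refine ⟨s * t, ?_⟩
    rw [Subgroup.map_map]
    congr 1
    ext z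
    simp [MulAut.conj_apply, mul_assoc]
  · rintro R ⟨x, rfl⟩
    apply frattini_ne_bot_of_sq_ne_one _ (hB2.map _) (x * b₀ * x⁻¹) ⟨b₀, hb₀, rfl⟩
    intro h
    apply hb₀2
    rw [conj_pow] at h
    exact conj_eq_one_iff.mp h
  · rintro R ⟨x, rfl⟩ T ⟨y, rfl⟩
    rw [Subgroup.card_map_of_injective (MulAut.conj x).injective,
      Subgroup.card_map_of_injective (MulAut.conj y).injective]
  · rintro R ⟨x, rfl⟩ T ⟨y, rfl⟩
    rcases ti_pairs A hti x y with h | h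
    · left
      rw [sqSub_map, sqSub_map, h]
    · right
      rw [eq_bot_iff, ← h]
      exact inf_le_inf (Subgroup.map_mono hBA) (Subgroup.map_mono hBA)
  unfold Subgroup.normalClosure
  apply Subgroup.isMulCommutative_closure
  intro u hu v hv
  obtain ⟨_, ⟨a, ha, rfl⟩, hau⟩ := Group.mem_conjugatesOfSet_iff.mp hu
  obtain ⟨_, ⟨b, hb, rfl⟩, hbv⟩ := Group.mem_conjugatesOfSet_iff.mp hv
  obtain ⟨x, hx⟩ := isConj_iff.mp hau
  obtain ⟨y, hy⟩ := isConj_iff.mp hbv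
  have ha2 : a ^ 2 ∈ sqSub A := Subgroup.subset_closure ⟨a, ha, rfl⟩
  have hb2 : b ^ 2 ∈ sqSub A := Subgroup.subset_closure ⟨b, hb, rfl⟩
  have huR : u ∈ (sqSub A).map (MulAut.conj x).toMonoidHom := ⟨a ^ 2, ha2, hx⟩
  have hvT : v ∈ (sqSub A).map (MulAut.conj y).toMonoidHom := ⟨b ^ 2, hb2, hy⟩
  by_cases hRT : (sqSub A).map (MulAut.conj x).toMonoidHom = (sqSub A).map (MulAut.conj y).toMonoidHom
  · rw [← hRT] at hvT
    obtain ⟨c, hc, hcv⟩ := hvT
    have hcv' : x * c * x⁻¹ = v := hcv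
    rw [← hx, ← hcv']
    have := hAcomm _ (hBA ha2) c (hBA hc)
    calc x * a ^ 2 * x⁻¹ * (x * c * x⁻¹) = x * (a ^ 2 * c) * x⁻¹ := by group
      _ = x * (c * a ^ 2) * x⁻¹ := by rw [this]
      _ = x * c * x⁻¹ * (x * a ^ 2 * x⁻¹) := by group
  · exact hkey _ ⟨x, rfl⟩ _ ⟨y, rfl⟩ hRT u huR v hvT


/-- Let X be a finite group whose generalized Fitting subgroup equals its largest normal 2-subgroup Q, and let A be an abelian 2-subgroup of X such that every conjugate of A equals A or meets A trivially. Let B be the subgroup generated by the squares of the elements of A. Then B lies in Q, and if B is not an elementary abelian 2-group then the normal closure of B in X is commutative. -/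
theorem result {X : Type*} [Group X] [Finite X]
    (hX : Cfsg.generalizedFittingSubgroup X = Cfsg.pCore 2 X) (A : Subgroup X) (hA2 : IsPGroup 2 ↥A) (hAa : IsMulCommutative ↥A)
    (hti : ∀ h : X, A.map (MulAut.conj h).toMonoidHom = A ∨ A.map (MulAut.conj h).toMonoidHom ⊓ A = ⊥) :
    Subgroup.closure ((fun a : X => a ^ 2) '' (A : Set X)) ≤ Cfsg.pCore 2 X ∧
      (¬ Cfsg.IsElementaryAbelian 2 (Subgroup.closure ((fun a : X => a ^ 2) '' (A : Set X))) →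
        IsMulCommutative ↥(Subgroup.normalClosure ((fun a : X => a ^ 2) '' (A : Set X)))) := by
  have h1 := part1 hX A hA2 hAa hti
  refine ⟨?_, fun hne => part2 A hA2 hAa hti h1 hne⟩
  rw [Subgroup.closure_le]
  rintro _ ⟨a, ha, rfl⟩
  exact h1 a ha


end Cfsg.Agent.S1783
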