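import Cfsg.Statements.S5560
import Cfsg.Agent.Lib.H1.ZStar
import Cfsg.Agent.Lib.H1.PCore
import Cfsg.Agent.Lib.H22.PPrimeCore
import Cfsg.Agent.Lib.H14.OddInv

set_option autoImplicit false
open Cfsg

namespace Cfsg.Agent.S5560

/-- A Z*-type result for an odd prime p. Let G be a finite group and d an involution of G such that the product of any two conjugates of d has order a power of p. Then the product of any two conjugates of d lies in the largest normal p-subgroup O_p(G); in other words the conjugacy class of d lies in the coset O_p(G)d, and d is central modulo O_p(G). -/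
theorem result {G : Type*} [Group G] [Finite G] {p : ℕ} (hp : p.Prime) (hp2 : p ≠ 2)
    (d : G) (hd : orderOf d = 2)
    (hprod : ∀ a ∈ conjugatesOf d, ∀ b ∈ conjugatesOf d, ∃ k : ℕ, orderOf (a * b) = p ^ k) :
    ∀ a ∈ conjugatesOf d, ∀ b ∈ conjugatesOf d, a * b ∈ Cfsg.pCore p G := by
  have hdd : d * d = 1 := by rw [← sq, ← hd]; exact pow_orderOf_eq_one d
  have hdinv : d⁻¹ = d := inv_eq_of_mul_eq_one_left hdd
  have hpow : ∀ g : G, ∃ k : ℕ, orderOf (d * g * d⁻¹ * g⁻¹) = p ^ k := by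
    intro g
    have h := hprod d mem_conjugatesOf_self (g * d * g⁻¹)
      (isConj_iff.mpr ⟨g, rfl⟩)
    have e : d * (g * d * g⁻¹) = d * g * d⁻¹ * g⁻¹ := by rw [hdinv]; group
    rwa [e] at h
  have hIso : Cfsg.Agent.Lib.H1.ZStar.Iso d :=
    ⟨hd, fun g => by
      obtain ⟨k, hk⟩ := hpow g
      rw [hk]
      exact Odd.pow (hp.odd_of_ne_two hp2)⟩
  have hZ := Cfsg.Agent.Lib.H1.ZStar.zstar d hIso
  have : (Cfsg.oddCore G).Normal := Cfsg.Agent.Lib.H22.pPrimeCore_normal 2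
  have key := Cfsg.Agent.Lib.H14.OddInv.comm_mem_pCore hp d hd (Cfsg.oddCore G)
    (Cfsg.Agent.Lib.H22.card_pPrimeCore_coprime 2) hZ hpow
  intro a ha b hb
  obtain ⟨x, rfl⟩ := isConj_iff.mp ha
  obtain ⟨y, rfl⟩ := isConj_iff.mp hb
  have hk := key (x⁻¹ * y)
  have e : x * d * x⁻¹ * (y * d⁻¹ * y⁻¹) = x * (d * (x⁻¹ * y) * d⁻¹ * (x⁻¹ * y)⁻¹) * x⁻¹ := by group
  rw [hdinv] at e hk
  rw [e]
  exact (Cfsg.Agent.Lib.H1.pCore_normal p G).conj_mem _ hk x

end Cfsg.Agent.S5560
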