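import Cfsg.Statements.S0652
import Cfsg.Agent.S0651

set_option autoImplicit false
open Cfsg

namespace Cfsg.Agent.S0652

open Cfsg.Agent.S0651

theorem result {S : Type*} [Group S] [Finite S] {p : ℕ} [Fact p.Prime] (hS : IsPGroup p S) (hp : p ≠ 2) (D : Subgroup S) [D.Normal] : ∀ (B : Subgroup S) [B.Normal], ⁅⁅B, B⁆, B⁆ = ⊥ → (∃ U ∈ (Set.image (fun A : Subgroup ↥D => A.map D.subtype) (Cfsg.maxElementaryAbelianSubgroups p ↥D)), ⁅B, B⁆ ≤ U ∧ ¬ B ≤ U) → ∃ A ∈ (Set.image (fun A : Subgroup ↥D => A.map D.subtype) (Cfsg.maxElementaryAbelianSubgroups p ↥D)), ⁅B, B⁆ ≤ A ∧ ¬ B ≤ A ∧ B ≤ Subgroup.normalizer (A : Set S) := by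
  intro B _ _ hex
  let 𝒰 : Set (Subgroup S) := {A | A ∈ (Set.image (fun A : Subgroup ↥D => A.map D.subtype)
    (Cfsg.maxElementaryAbelianSubgroups p ↥D)) ∧ ⁅B, B⁆ ≤ A ∧ ¬ B ≤ A}
  have hne : 𝒰.Nonempty := by
    obtain ⟨U, hU, h1, h2⟩ := hex
    exact ⟨U, hU, h1, h2⟩
  obtain ⟨A, hA𝒰, hmax⟩ := Set.exists_max_image 𝒰 (fun A => Nat.card (A ⊓ B : Subgroup S))
    (Set.toFinite 𝒰) hne
  obtain ⟨hAimg, hBA, hBnA⟩ := hA𝒰
  refine ⟨A, hAimg, hBA, hBnA, ?_⟩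
  by_contra hnot
  obtain ⟨A₀, hA₀, hA₀A⟩ := hAimg
  change A₀.map D.subtype = A at hA₀A
  obtain ⟨⟨hA₀comm, hA₀exp⟩, hA₀max⟩ := hA₀
  have hAcomm : IsMulCommutative A := hA₀A ▸ comm_map hA₀comm
  have hAD : A ≤ D := by
    rw [← hA₀A]
    exact Subgroup.map_subtype_le _
  have hcardA : Nat.card A = Nat.card A₀ := by
    rw [← hA₀A]
    exact Subgroup.card_map_of_injective D.subtype_injective
  have hAexp : Monoid.exponent A ∣ p := by
    apply Monoid.exponent_dvd_of_forall_pow_eq_one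
    intro a
    apply Subtype.ext
    have ha : (a : S) ∈ A₀.map D.subtype := by
      rw [hA₀A]
      exact a.2
    obtain ⟨a₀, ha₀, ha₀a⟩ := ha
    change (a : S) ^ p = 1
    rw [← ha₀a]
    have := hA₀exp a₀ ha₀
    have h2 := congrArg Subtype.val this
    exact h2
  have hB2 : p = 2 → IsMulCommutative B := fun h => absurd h hp
  obtain ⟨b, hb, hbN, hbA⟩ := Cfsg.Agent.S0649.result hS B hB2 A hAcomm hBA hnot
  obtain ⟨h1, h2, h3, h4, h5, -, -, -, -, h10⟩ :=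
    Cfsg.Agent.S0650.result hS B hB2 A hAcomm hBA hnot b hb hbN hbA
  obtain ⟨T, hT⟩ : ∃ T, T = (A ⊓ A.map (MulAut.conj (b⁻¹)).toMonoidHom) ⊔
      Subgroup.closure {g : S | ∃ a ∈ A, g = a * b⁻¹ * a⁻¹ * b} := ⟨_, rfl⟩
  rw [← hT] at h1 h2 h3 h4 h5 h10
  have hTD : T ≤ D := hT ▸ astar_le D hAD b
  have hTexp : ∀ t ∈ T, t ^ p = 1 := by
    intro t ht
    have h11 : Monoid.exponent T ∣ p := (h10 hp).trans hAexp
    have := (Monoid.exponent_dvd_iff_forall_pow_eq_one.1 h11) ⟨t, ht⟩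
    exact congrArg Subtype.val this
  have hT𝒰 : T ∈ 𝒰 := by
    refine ⟨⟨T.subgroupOf D, ⟨⟨comm_subgroupOf h2, ?_⟩, ?_⟩, map_subgroupOf_eq hTD⟩, h3, ?_⟩
    · intro t ht
      apply Subtype.ext
      exact hTexp (t : S) ht
    · intro B' hB'
      have e : Nat.card (T.subgroupOf D) = Nat.card T :=
        Nat.card_congr (Subgroup.subgroupOfEquivOfLe hTD).toEquiv
      rw [e, h1, hcardA]
      exact hA₀max B' hB'
    · intro hBT
      have : T ⊓ B = B := inf_eq_right.2 hBT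
      rw [this] at h5
      exact lt_irrefl _ h5
  have := hmax T hT𝒰
  have h6 := card_lt_of_lt h4
  exact absurd this (not_le.2 h6)

end Cfsg.Agent.S0652
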