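import Mathlib
import Cfsg.Statements.S0228
import Cfsg.Agent.Lib.H2.ActIso

set_option autoImplicit false
open Cfsg

namespace Cfsg.Agent.S0228

open Cfsg.Agent.Lib.H2

/-- a group of order 12 with a normal subgroup of order 3 has a central involution -/
theorem central_involution {G : Type*} [Group G] [Finite G] (hG : Nat.card G = 12)
    (P : Subgroup G) [hn : P.Normal] (hP : Nat.card P = 3) :
    ∃ z : G, orderOf z = 2 ∧ z ∈ Subgroup.center G := by
  have h2 : Fact (Nat.Prime 2) := ⟨Nat.prime_two⟩
  have h3 : Fact (Nat.Prime 3) := ⟨Nat.prime_three⟩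
  obtain ⟨Q, hQ⟩ := Sylow.exists_subgroup_card_pow_prime (G := G) 2 (n := 2)
    (by rw [hG]; norm_num)
  have hcycP : IsCyclic P := isCyclic_of_prime_card hP
  have hcardAut : Nat.card (MulAut P) = 2 := by
    rw [IsCyclic.card_mulAut, hP]
    exact Nat.totient_prime Nat.prime_three
  let f : Q →* MulAut P := (MulAut.conjNormal (H := P)).comp Q.subtype
  have hker_even : 2 ∣ Nat.card f.ker := by
    have h1 := f.ker.card_mul_index
    rw [Subgroup.index_ker, hQ] at h1
    have h4 : Nat.card f.range ∣ 2 := by
      rw [← hcardAut]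
      exact Subgroup.card_subgroup_dvd_card f.range
    have h5 : Nat.card f.range = 1 ∨ Nat.card f.range = 2 := by
      have := Nat.le_of_dvd (by norm_num) h4
      have hpos : 0 < Nat.card f.range := Nat.card_pos
      omega
    rcases h5 with h5 | h5
    · rw [h5] at h1
      exact ⟨2, by omega⟩
    · rw [h5] at h1
      exact ⟨1, by omega⟩
  obtain ⟨t, ht⟩ := exists_prime_orderOf_dvd_card' 2 hker_even
  refine ⟨((t : Q) : G), ?_, ?_⟩
  · rw [← ht]
    rw [Subgroup.orderOf_coe, Subgroup.orderOf_coe]
  · -- centralizer of t contains P and Q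
    have htker : f (t : Q) = 1 := t.2
    have hPle : P ≤ Subgroup.centralizer {((t : Q) : G)} := by
      intro p hp
      rw [Subgroup.mem_centralizer_singleton_iff]
      have h1 : (f (t : Q)) ⟨p, hp⟩ = ⟨p, hp⟩ := by rw [htker]; rfl
      have h2' := congrArg Subtype.val h1
      simp only [f, MonoidHom.coe_comp, Function.comp_apply, Subgroup.subtype_apply,
        MulAut.conjNormal_apply] at h2'
      -- h2' : t * p * t⁻¹ = p
      have : ((t : Q) : G) * p = p * ((t : Q) : G) := by
        calc ((t : Q) : G) * p = (((t : Q) : G) * p * ((t : Q) : G)⁻¹) * ((t : Q) : G) := by group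
          _ = p * ((t : Q) : G) := by rw [h2']
      exact this.symm
    have hQcomm : IsMulCommutative Q :=
      IsPGroup.isMulCommutative_of_card_eq_prime_sq (p := 2) (by rw [hQ])
    have hQle : Q ≤ Subgroup.centralizer {((t : Q) : G)} := by
      intro q hq
      rw [Subgroup.mem_centralizer_singleton_iff]
      have := hQcomm.is_comm.comm (⟨q, hq⟩ : Q) (t : Q)
      exact congrArg Subtype.val this
    have hcard : Nat.card (Subgroup.centralizer {((t : Q) : G)}) = 12 := by
      have d1 : 3 ∣ Nat.card (Subgroup.centralizer {((t : Q) : G)}) :=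
        hP ▸ Subgroup.card_dvd_of_le hPle
      have d2 : 4 ∣ Nat.card (Subgroup.centralizer {((t : Q) : G)}) := by
        have := Subgroup.card_dvd_of_le hQle
        rw [hQ] at this
        norm_num at this
        exact this
      have d3 : Nat.card (Subgroup.centralizer {((t : Q) : G)}) ∣ 12 :=
        hG ▸ Subgroup.card_subgroup_dvd_card _
      have := Nat.le_of_dvd (by norm_num) d3
      have hpos : 0 < Nat.card (Subgroup.centralizer {((t : Q) : G)}) := Nat.card_pos
      omega
    have htop : Subgroup.centralizer {((t : Q) : G)} = ⊤ :=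
      (Subgroup.card_eq_iff_eq_top _).1 (by rw [hcard, hG])
    rw [Subgroup.mem_center_iff]
    intro g
    have hg : g ∈ Subgroup.centralizer {((t : Q) : G)} := by rw [htop]; exact Subgroup.mem_top g
    rw [Subgroup.mem_centralizer_singleton_iff] at hg
    exact hg

/-- A group of order 12 in which no involution is central is isomorphic to the alternating group on four letters. -/
theorem result {G : Type*} [Group G] [Finite G] (hG : Nat.card G = 12) (hz : ∀ z : G, orderOf z = 2 → z ∉ Subgroup.center G) : Nonempty (G ≃* alternatingGroup (Fin 4)) := by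
  have h3 : Fact (Nat.Prime 3) := ⟨Nat.prime_three⟩
  obtain ⟨P, hP⟩ := Sylow.exists_subgroup_card_pow_prime (G := G) 3 (n := 1)
    (by rw [hG]; norm_num)
  rw [pow_one] at hP
  have hidx : P.index = 4 := by
    have := P.card_mul_index
    rw [hP, hG] at this
    omega
  have hcore_card : Nat.card P.normalCore ∣ 3 := hP ▸ Subgroup.card_dvd_of_le P.normalCore_le
  have hcases : Nat.card P.normalCore = 1 ∨ Nat.card P.normalCore = 3 :=
    (Nat.dvd_prime Nat.prime_three).1 hcore_card
  rcases hcases with h1 | h1
  · have hbot : P.normalCore = ⊥ := Subgroup.card_eq_one.1 h1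
    have hfaith : FaithfulSMul G (G ⧸ P) := by
      have hker : (MulAction.toPermHom G (G ⧸ P)).ker = ⊥ := by
        rw [← Subgroup.normalCore_eq_ker, hbot]
      have hinj : Function.Injective (MulAction.toPermHom G (G ⧸ P)) :=
        (MonoidHom.ker_eq_bot_iff _).1 hker
      refine ⟨fun {a b} h => hinj ?_⟩
      ext x
      exact h x
    exact nonempty_mulEquiv_alternating_of_card (X := G ⧸ P) 4
      (by rw [← Subgroup.index_eq_card, hidx]) (by rw [hG]; rfl)
  · exfalso
    have heq : P.normalCore = P :=
      Subgroup.eq_of_le_of_card_ge P.normalCore_le (by rw [h1, hP])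
    have hn : P.Normal := heq ▸ P.normalCore_normal
    obtain ⟨z, hz2, hzc⟩ := central_involution hG P hP
    exact hz z hz2 hzc

end Cfsg.Agent.S0228
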