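import Cfsg.Statements.S0254
import Cfsg.Agent.S0300
import Cfsg.Agent.S0288
import Cfsg.Agent.Lib.H29.PermMod
import Cfsg.Agent.Lib.H29.OmegaBound
import Cfsg.Agent.Lib.H29.ExcIso

set_option autoImplicit false
open Cfsg

namespace Cfsg.Agent.S0254

open Matrix Equiv Cfsg.Agent.Lib.H29

abbrev ι : Type := (Fin 1 ⊕ Fin 1) ⊕ Fin 2

def Lm : Matrix (Fin 6) ι (ZMod 3) := Matrix.of fun i k =>
  match k with
  | .inl (.inl _) => (![0, 0, 0, 1, 1, 1] : Fin 6 → ZMod 3) i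
  | .inl (.inr _) => (![0, 0, 1, 0, 1, 1] : Fin 6 → ZMod 3) i
  | .inr 0 => (![0, 1, 2, 2, 0, 1] : Fin 6 → ZMod 3) i
  | .inr 1 => (![0, 1, 2, 2, 1, 0] : Fin 6 → ZMod 3) i

def Rm : Matrix ι (Fin 6) (ZMod 3) := Matrix.of fun k i =>
  match k with
  | .inl (.inl _) => (![0, 0, 2, 0, 2, 2] : Fin 6 → ZMod 3) i
  | .inl (.inr _) => (![0, 0, 0, 2, 2, 2] : Fin 6 → ZMod 3) i
  | .inr 0 => (![0, 1, 2, 2, 0, 1] : Fin 6 → ZMod 3) i
  | .inr 1 => (![0, 1, 2, 2, 1, 0] : Fin 6 → ZMod 3) i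

def D : PermMod.Data 6 ι (ZMod 3) where
  L := Lm
  R := Rm
  d := ![0, 2, 2, 2, 2, 2]
  a := ![1, 0, 0, 0, 0, 0]
  RL := by decide
  R1 := by decide
  oneL := by decide
  expand := by decide

abbrev Q3 : (ι → ZMod 3) → ZMod 3 := Cfsg.quadFormMinus 1 (ZMod 3) 0 1

set_option maxRecDepth 100000 in
theorem hq : ∀ y : ι → ZMod 3, PermMod.q (D.L *ᵥ y) = Q3 y := by decide +kernel

set_option maxRecDepth 100000 in
theorem hq1 : ∀ (x : Fin 6 → ZMod 3) (c : ZMod 3), ∑ i, x i = 0 →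
    PermMod.q (x + c • (1 : Fin 6 → ZMod 3)) = PermMod.q x := by decide +kernel

/-- the permutation representation lands in the isometry group -/
noncomputable def psi : Perm (Fin 6) →* ↥(Cfsg.isometryGroup (ZMod 3) Q3) :=
  D.phiGL.codRestrict _ (by
    intro σ u _
    exact D.phi_isometry Q3 hq hq1 σ u)

theorem psi_coe (σ : Perm (Fin 6)) :
    (((psi σ : ↥(Cfsg.isometryGroup (ZMod 3) Q3)) : GL ι (ZMod 3)) : Matrix ι ι (ZMod 3)) =
      D.phi σ := rfl

def cc : Perm (Fin 6) := swap 0 1 * swap 2 3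

theorem cc_mem : cc ∈ alternatingGroup (Fin 6) := by
  rw [Equiv.Perm.mem_alternatingGroup]
  decide

theorem phi_cc_ne : D.phi cc ≠ 1 := by decide

theorem psi_injective : Function.Injective psi := by
  rw [← MonoidHom.ker_eq_bot_iff]
  by_contra hne
  have hnt : Nontrivial psi.ker := by
    rw [Subgroup.nontrivial_iff_ne_bot]; exact hne
  have hle := Equiv.Perm.alternatingGroup_le_of_normal (α := Fin 6) (by simp) hnt
  have := hle cc_mem
  rw [MonoidHom.mem_ker] at this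
  apply phi_cc_ne
  have h2 := congrArg (fun g : ↥(Cfsg.isometryGroup (ZMod 3) Q3) =>
    ((g : GL ι (ZMod 3)) : Matrix ι ι (ZMod 3))) this
  simpa [psi_coe] using h2

theorem hab3 : ∀ z₁ z₂ : ZMod 3, z₁ ^ 2 + 0 * z₁ * z₂ + 1 * z₂ ^ 2 = 0 → z₁ = 0 ∧ z₂ = 0 := by
  decide

theorem psi_mem_Omega (σ : alternatingGroup (Fin 6)) :
    psi σ.1 ∈ Cfsg.Omega (ZMod 3) Q3 := by
  have h1 := Abelianization.commutator_subset_ker ((Abelianization.of).comp psi)
  rw [alternatingGroup.commutator_perm_eq (by simp)] at h1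
  have h2 := h1 σ.2
  have h3 : psi σ.1 ∈ (Abelianization.of :
      ↥(Cfsg.isometryGroup (ZMod 3) Q3) →* _).ker := h2
  rwa [Abelianization.ker_of] at h3

/-- `A₆ → Ω⁻₄(3)` -/
noncomputable def psiA : alternatingGroup (Fin 6) →* ↥(Cfsg.Omega (ZMod 3) Q3) :=
  (psi.comp (alternatingGroup (Fin 6)).subtype).codRestrict _ psi_mem_Omega

theorem psiA_injective : Function.Injective psiA := by
  intro σ τ h
  apply Subtype.ext
  apply psi_injective
  exact congrArg Subtype.val h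

theorem card_Omega : Nat.card ↥(Cfsg.Omega (ZMod 3) Q3) = Nat.card (alternatingGroup (Fin 6)) := by
  have hi := OmegaBound.card_Omega_odd (Cfsg.Agent.Lib.H13.minusQF (ZMod 3) 1 0 1)
    (Cfsg.Agent.S0288.nondeg 0 1 hab3 1) (by decide) (by simp)
  rw [Cfsg.Agent.S0288.coe_minusQF] at hi
  have hO := Cfsg.Agent.S0288.result (F := ZMod 3) (q := 3) (by simp) 2 (by norm_num) 0 1 hab3
  have h2 : 2 * Nat.card (alternatingGroup (Fin 6)) = Nat.card (Equiv.Perm (Fin 6)) :=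
    two_mul_nat_card_alternatingGroup
  rw [Nat.card_perm, Nat.card_fin] at h2
  have h3 : Nat.factorial 6 = 720 := by decide
  rw [h3] at h2
  simp at hO
  have hQ : Q3 = Cfsg.quadFormMinus 1 (ZMod 3) 0 1 := rfl
  have h5 := hi.trans hO
  have h6 : Nat.card (alternatingGroup (Fin 6)) = 360 := by omega
  rw [h6]
  refine Nat.eq_of_mul_eq_mul_left (by norm_num : 0 < 4) ?_
  exact h5

theorem psiA_bijective : Function.Bijective psiA := by
  rw [Nat.bijective_iff_injective_and_card]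
  exact ⟨psiA_injective, card_Omega.symm⟩

/-- PSL_2(9) is isomorphic to A_6. -/
theorem result {F : Type*} [Field F] [Fintype F] (hF : Fintype.card F = 9) : Nonempty (Matrix.ProjectiveSpecialLinearGroup (Fin 2) F ≃* alternatingGroup (Fin 6)) := by
  obtain ⟨e₁⟩ := Cfsg.Agent.S0300.result (F := ZMod 3) (K := F) (q := 3) (by simp)
    (by rw [hF]; norm_num) 0 1 hab3
  let e₂ : alternatingGroup (Fin 6) ≃* ↥(Cfsg.Omega (ZMod 3) Q3) :=
    MulEquiv.ofBijective psiA psiA_bijective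
  obtain ⟨e₃⟩ := ExcIso.quot_center_congr e₂.symm
  have hc : Subgroup.center (alternatingGroup (Fin 6)) = ⊥ :=
    alternatingGroup.center_eq_bot (by simp)
  let e₄ : alternatingGroup (Fin 6) ⧸ Subgroup.center (alternatingGroup (Fin 6)) ≃*
      alternatingGroup (Fin 6) :=
    (QuotientGroup.quotientMulEquivOfEq hc).trans QuotientGroup.quotientBot
  exact ⟨e₁.symm.trans (e₃.trans e₄)⟩

end Cfsg.Agent.S0254
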