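import Cfsg.Statements.S0685
import Mathlib
import Cfsg.Agent.S0684

set_option autoImplicit false
open Cfsg

namespace Cfsg.Agent.S0685

section quot

variable {G : Type*} [Group G]

/-- a group with a self-centralizing cyclic normal subgroup `A` has order at most `|A|²` -/
theorem card_le_sq_of_self_centralizing [Finite G] (A : Subgroup G) [hAn : A.Normal]
    (hcyc : IsCyclic A) (hC : Subgroup.centralizer (A : Set G) = A) :
    Nat.card G ≤ Nat.card A * Nat.card A := by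
  classical
  obtain ⟨a₀, ha₀⟩ := hcyc.exists_generator
  let f : G → A := fun g => ⟨g * a₀ * g⁻¹, hAn.conj_mem _ a₀.2 g⟩
  have hf : ∀ g g' : G, f g = f g' → g⁻¹ * g' ∈ A := by
    intro g g' h
    have h1 : g * a₀ * g⁻¹ = g' * a₀ * g'⁻¹ := congrArg Subtype.val h
    rw [← hC, Subgroup.mem_centralizer_iff]
    intro b hb
    obtain ⟨k, hk⟩ := Subgroup.mem_zpowers_iff.1 (ha₀ ⟨b, hb⟩)
    have hb' : b = (a₀ : G) ^ k := by
      have := congrArg Subtype.val hk
      simpa using this.symm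
    have hc : (g⁻¹ * g') * a₀ = a₀ * (g⁻¹ * g') := by
      calc g⁻¹ * g' * a₀ = g⁻¹ * (g' * a₀ * g'⁻¹) * g' := by group
        _ = g⁻¹ * (g * a₀ * g⁻¹) * g' := by rw [h1]
        _ = _ := by group
    rw [hb']
    exact ((Commute.zpow_right (show Commute (g⁻¹ * g') (a₀ : G) from hc) k).eq).symm
  let rep : A → G := fun b => if h : ∃ g, f g = b then h.choose else 1
  have hrep : ∀ g : G, f (rep (f g)) = f g := by
    intro g
    have h : ∃ g', f g' = f g := ⟨g, rfl⟩
    simp only [rep, dif_pos h]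
    exact h.choose_spec
  let φ : G → A × A := fun g => (f g, ⟨(rep (f g))⁻¹ * g, hf _ _ (hrep g)⟩)
  have hφ : Function.Injective φ := by
    intro g g' h
    have h1 : f g = f g' := congrArg Prod.fst h
    have h2 : (rep (f g))⁻¹ * g = (rep (f g'))⁻¹ * g' :=
      congrArg (fun u : A × A => (u.2 : G)) h
    rw [h1] at h2
    exact mul_left_cancel h2
  have := Nat.card_le_card_of_injective φ hφ
  rwa [Nat.card_prod] at this

end quot

section dims

variable {p : ℕ} [hpf : Fact p.Prime] {V : Type*} [AddCommGroup V] [Module (ZMod p) V]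
  (H : Subgroup (V ≃ₗ[ZMod p] V))

theorem two_mul_finrank_le [Finite V]
    (hreg : ∀ v w : V, v ≠ 0 → w ≠ 0 → ∃! h : H, (h : V ≃ₗ[ZMod p] V) v = w)
    (A : Subgroup H) (hAn : A.Normal) (W : Submodule (ZMod p) V) (hWb : W ≠ ⊥) (hWt : W ≠ ⊤)
    (hWinv : ∀ a ∈ A, ∀ v ∈ W, ((a : H) : V ≃ₗ[ZMod p] V) v ∈ W)
    (hWmin : ∀ W' : Submodule (ZMod p) V, W' ≤ W →
      (∀ a ∈ A, ∀ v ∈ W', ((a : H) : V ≃ₗ[ZMod p] V) v ∈ W') → W' = ⊥ ∨ W' = W) :
    2 * Module.finrank (ZMod p) W ≤ Module.finrank (ZMod p) V := by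
  haveI : Module.Finite (ZMod p) V := Module.Finite.of_finite
  obtain ⟨w, hwW, hw0⟩ := Submodule.exists_mem_ne_zero_of_ne_bot hWb
  obtain ⟨v, hvW⟩ : ∃ v : V, v ∉ W := by
    by_contra hcon
    push Not at hcon
    exact hWt (Submodule.eq_top_iff'.2 hcon)
  have hv0 : v ≠ 0 := by
    intro h0; apply hvW; rw [h0]; exact W.zero_mem
  obtain ⟨h, hh, -⟩ := hreg w v hw0 hv0
  set W₂ : Submodule (ZMod p) V := W.map ((h : V ≃ₗ[ZMod p] V) : V →ₗ[ZMod p] V) with hW₂
  have hW₂inv : ∀ a ∈ A, ∀ u ∈ W₂, ((a : H) : V ≃ₗ[ZMod p] V) u ∈ W₂ := by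
    intro a ha u hu
    rw [hW₂, Submodule.mem_map] at hu ⊢
    obtain ⟨u', hu', rfl⟩ := hu
    have hconj : h⁻¹ * a * h⁻¹⁻¹ ∈ A := hAn.conj_mem a ha h⁻¹
    refine ⟨(((h⁻¹ * a * h⁻¹⁻¹ : H)) : V ≃ₗ[ZMod p] V) u', hWinv _ hconj u' hu', ?_⟩
    have e : h * (h⁻¹ * a * h⁻¹⁻¹) = a * h := by group
    have e2 := congrArg (fun x : H => ((x : V ≃ₗ[ZMod p] V)) u') e
    simpa using e2
  have hinf : W ⊓ W₂ = ⊥ := by
    have hinv : ∀ a ∈ A, ∀ u ∈ W ⊓ W₂, ((a : H) : V ≃ₗ[ZMod p] V) u ∈ W ⊓ W₂ := by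
      intro a ha u hu
      exact ⟨hWinv a ha u hu.1, hW₂inv a ha u hu.2⟩
    rcases hWmin (W ⊓ W₂) inf_le_left hinv with h0 | h1
    · exact h0
    · exfalso
      have hle : W ≤ W₂ := by rw [← h1]; exact inf_le_right
      have hfr : Module.finrank (ZMod p) W₂ = Module.finrank (ZMod p) W :=
        LinearEquiv.finrank_map_eq (h : V ≃ₗ[ZMod p] V) W
      have heq : W = W₂ := Submodule.eq_of_le_of_finrank_eq hle hfr.symm
      apply hvW
      rw [heq, hW₂, Submodule.mem_map]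
      exact ⟨w, hwW, hh⟩
  have hfr : Module.finrank (ZMod p) W₂ = Module.finrank (ZMod p) W :=
    LinearEquiv.finrank_map_eq (h : V ≃ₗ[ZMod p] V) W
  have h1 := Submodule.finrank_sup_add_finrank_inf_eq W W₂
  rw [hinf, finrank_bot, add_zero, hfr] at h1
  have h2 := Submodule.finrank_le (W ⊔ W₂)
  omega

end dims

/-- In a linear group over the prime field that is regular on non-zero vectors and has no irreducible cyclic normal subgroup, a maximal normal abelian subgroup is properly contained in its centraliser, which is non-abelian. -/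
theorem result {p : ℕ} [Fact p.Prime] {V : Type*} [AddCommGroup V] [Module (ZMod p) V] [Finite V] (H : Subgroup (V ≃ₗ[ZMod p] V)) (hreg : ∀ v w : V, v ≠ 0 → w ≠ 0 → ∃! h : H, (h : V ≃ₗ[ZMod p] V) v = w) (hI : ∀ A : Subgroup H, A.Normal → IsCyclic A → ∃ W : Submodule (ZMod p) V, W ≠ ⊥ ∧ W ≠ ⊤ ∧ ∀ a ∈ A, ∀ v ∈ W, ((a : H) : V ≃ₗ[ZMod p] V) v ∈ W) (A : Subgroup H) (hAn : A.Normal) (hAc : IsMulCommutative A) (hAmax : ∀ B : Subgroup H, B.Normal → IsMulCommutative B → A ≤ B → B = A) : A < Subgroup.centralizer (A : Set H) ∧ ¬ IsMulCommutative (Subgroup.centralizer (A : Set H)) := by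
  have hp := (Fact.out : p.Prime)
  have hle : A ≤ Subgroup.centralizer (A : Set H) := Subgroup.le_centralizer A
  have hCn : (Subgroup.centralizer (A : Set H)).Normal := Subgroup.normal_centralizer
  -- it suffices to show `C(A) ≠ A`
  have hne : Subgroup.centralizer (A : Set H) ≠ A := by
    intro hC
    obtain ⟨hcyc, W, hWb, hWt, hWinv, hWmin, hdvd⟩ :=
      Cfsg.Agent.S0684.result H hreg hI A hAn hAc hAmax
    obtain ⟨v₀, -, hv₀⟩ := Submodule.exists_mem_ne_zero_of_ne_bot hWb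
    haveI : Finite H := by
      apply Nat.finite_of_card_ne_zero
      rw [Cfsg.Agent.S0684.card_H H hreg v₀ hv₀]
      have := Finite.one_lt_card_iff_nontrivial.2 (⟨⟨v₀, 0, hv₀⟩⟩ : Nontrivial V)
      omega
    haveI : Module.Finite (ZMod p) V := Module.Finite.of_finite
    have h1 := card_le_sq_of_self_centralizing A hcyc hC
    have h2 := two_mul_finrank_le H hreg A hAn W hWb hWt hWinv hWmin
    have h3 : Nat.card H = p ^ Module.finrank (ZMod p) V - 1 := by
      rw [Cfsg.Agent.S0684.card_H H hreg v₀ hv₀, Cfsg.Agent.S0684.card_V_pow (p := p) (V := V)]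
    have hk : 0 < Module.finrank (ZMod p) W := by
      rw [Module.finrank_pos_iff]
      exact (Submodule.nontrivial_iff_ne_bot).2 hWb
    generalize Module.finrank (ZMod p) W = k at *
    generalize Module.finrank (ZMod p) V = n at *
    generalize Nat.card A = m at *
    have hx : 2 ≤ p ^ k := by
      calc 2 ≤ p := hp.two_le
        _ = p ^ 1 := (pow_one p).symm
        _ ≤ p ^ k := Nat.pow_le_pow_right hp.pos hk
    have hy : p ^ k * p ^ k ≤ p ^ n := by
      rw [← pow_add, ← two_mul]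
      exact Nat.pow_le_pow_right hp.pos h2
    have hm : m ≤ p ^ k - 1 := Nat.le_of_dvd (by omega) hdvd
    rw [h3] at h1
    generalize p ^ k = x at *
    generalize p ^ n = y at *
    obtain ⟨x', rfl⟩ : ∃ x', x = x' + 2 := ⟨x - 2, by omega⟩
    have hm' : m ≤ x' + 1 := by omega
    have hmm : m * m ≤ (x' + 1) * (x' + 1) := Nat.mul_le_mul hm' hm'
    have hy4 : 4 ≤ y := by nlinarith
    have h1' : y ≤ m * m + 1 := by omega
    nlinarith
  refine ⟨lt_of_le_of_ne hle (Ne.symm hne), ?_⟩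
  intro hcomm
  exact hne (hAmax _ hCn hcomm hle)

end Cfsg.Agent.S0685
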