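import Cfsg.Statements.S0728
import Mathlib

set_option autoImplicit false
open Cfsg

namespace Cfsg.Agent.S0728

open MulAction

section
variable {G : Type*} [Group G] {X : Type*} [MulAction G X]

/-- embedding from three distinct points -/
def emb3 (u v w : X) (huv : u ≠ v) (hvw : v ≠ w) (huw : u ≠ w) : Fin 3 ↪ X where
  toFun := ![u, v, w]
  inj' := by
    intro i j h
    fin_cases i <;> fin_cases j <;>
      first
        | rfl
        | (exfalso
           simp at h
           first
             | exact huv h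
             | exact huv h.symm
             | exact hvw h
             | exact hvw h.symm
             | exact huw h
             | exact huw h.symm)

theorem exists_of_three (h3 : IsMultiplyPretransitive G X 3) {u v w u' v' w' : X}
    (huv : u ≠ v) (hvw : v ≠ w) (huw : u ≠ w) (huv' : u' ≠ v') (hvw' : v' ≠ w') (huw' : u' ≠ w') :
    ∃ g : G, g • u = u' ∧ g • v = v' ∧ g • w = w' := by
  obtain ⟨g, hg⟩ := h3.exists_smul_eq (emb3 u v w huv hvw huw) (emb3 u' v' w' huv' hvw' huw')
  refine ⟨g, ?_, ?_, ?_⟩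
  · exact congrArg (fun e : Fin 3 ↪ X => e 0) hg
  · exact congrArg (fun e : Fin 3 ↪ X => e 1) hg
  · exact congrArg (fun e : Fin 3 ↪ X => e 2) hg

theorem core (h3 : IsMultiplyPretransitive G X 3)
    (sharp : ∀ g : G, ∀ u v w : X, u ≠ v → v ≠ w → u ≠ w → g • u = u → g • v = v → g • w = w → g = 1)
    {a b c : X} (hab : a ≠ b) (hca : c ≠ a) (hcb : c ≠ b) (x y : G)
    (hxa : x • a = a) (hxb : x • b = b) (hya : y • a = a) (hyb : y • b = b)
    (hx3 : x ^ 3 = 1) (hy3 : y ^ 3 = 1) (hx1 : x ≠ 1) (hy1 : y ≠ 1) (hxy : y ≠ x)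
    (hxy' : y ≠ x ^ 2) : False := by
  have sharp' : ∀ g : G, g • a = a → g • b = b → g • c = c → g = 1 :=
    fun g h1 h2 h3 => sharp g a b c hab (Ne.symm hcb) (Ne.symm hca) h1 h2 h3
  -- generic facts for an element z of order 3 fixing a b
  have facts : ∀ z : G, z • a = a → z • b = b → z ^ 3 = 1 → z ≠ 1 →
      z • c ≠ c ∧ z • z • c ≠ c ∧ z • c ≠ z • z • c ∧ z • z • z • c = c := by
    intro z hza hzb hz3 hz1
    have h1 : z • c ≠ c := fun h => hz1 (sharp' z hza hzb h)
    have h3 : z • z • z • c = c := by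
      rw [← mul_smul, ← mul_smul, ← pow_three', hz3, one_smul]
    refine ⟨h1, ?_, ?_, h3⟩
    · intro h
      rw [h] at h3
      exact h1 h3
    · intro h
      exact h1 (smul_left_cancel z h).symm
  obtain ⟨hc1, hc2, hc12, hc3⟩ := facts x hxa hxb hx3 hx1
  obtain ⟨hd1, hd2, hd12, hd3⟩ := facts y hya hyb hy3 hy1
  set c1 := x • c with hc1def
  set c2 := x • x • c with hc2def
  set d1 := y • c with hd1def
  set d2 := y • y • c with hd2def
  have hxc2 : x • c2 = c := hc3
  have hyd2 : y • d2 = c := hd3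
  obtain ⟨g, hgc, hgc1, hgc2⟩ := exists_of_three h3 (Ne.symm hc1) hc12 (Ne.symm hc2)
    (Ne.symm hd1) hd12 (Ne.symm hd2)
  obtain ⟨g', hg'c, hg'c1, hg'c2⟩ := exists_of_three h3 (Ne.symm hc1) hc12 (Ne.symm hc2)
    (Ne.symm hd2) (Ne.symm hd12) (Ne.symm hd1)
  have hginvc : g⁻¹ • c = c := by rw [inv_smul_eq_iff, hgc]
  have hginvd1 : g⁻¹ • d1 = c1 := by rw [inv_smul_eq_iff, hgc1]
  have hginvd2 : g⁻¹ • d2 = c2 := by rw [inv_smul_eq_iff, hgc2]
  have hg'invc : g'⁻¹ • c = c := by rw [inv_smul_eq_iff, hg'c]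
  have hg'invd1 : g'⁻¹ • d1 = c2 := by rw [inv_smul_eq_iff, hg'c2]
  have hg'invd2 : g'⁻¹ • d2 = c1 := by rw [inv_smul_eq_iff, hg'c1]
  -- g x g⁻¹ = y
  have hconj : g * x * g⁻¹ = y := by
    have h1 : y⁻¹ * (g * x * g⁻¹) = 1 := by
      apply sharp _ c d1 d2 (Ne.symm hd1) hd12 (Ne.symm hd2)
      · rw [mul_smul, inv_smul_eq_iff, mul_smul, mul_smul, hginvc]
        show g • c1 = d1
        exact hgc1
      · rw [mul_smul, inv_smul_eq_iff, mul_smul, mul_smul, hginvd1]
        show g • c2 = d2
        exact hgc2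
      · rw [mul_smul, inv_smul_eq_iff, mul_smul, mul_smul, hginvd2, hxc2, hgc, hyd2]
    exact (inv_mul_eq_one.mp h1).symm
  have hy2d1 : (y ^ 2) • d1 = c := by
    rw [pow_two, mul_smul]; exact hyd2
  have hy2d2 : (y ^ 2) • d2 = d1 := by
    rw [pow_two, mul_smul, hyd2]
  have hy2c : (y ^ 2) • c = d2 := by
    rw [pow_two, mul_smul]
  have hconj' : g' * x * g'⁻¹ = y ^ 2 := by
    have h1 : (y ^ 2)⁻¹ * (g' * x * g'⁻¹) = 1 := by
      apply sharp _ c d1 d2 (Ne.symm hd1) hd12 (Ne.symm hd2)
      · rw [mul_smul, inv_smul_eq_iff, mul_smul, mul_smul, hg'invc, hy2c]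
        exact hg'c1
      · rw [mul_smul, inv_smul_eq_iff, mul_smul, mul_smul, hg'invd1, hxc2, hg'c, hy2d1]
      · rw [mul_smul, inv_smul_eq_iff, mul_smul, mul_smul, hg'invd2, hy2d2]
        exact hg'c2
    exact (inv_mul_eq_one.mp h1).symm
  have hy2ne : y ^ 2 ≠ 1 := by
    intro h
    apply hy1
    have : y ^ 3 = y ^ 2 * y := pow_succ y 2
    rw [hy3, h, one_mul] at this
    exact this.symm
  have hy2a : (y ^ 2) • a = a := by rw [pow_two, mul_smul, hya, hya]
  have hy2b : (y ^ 2) • b = b := by rw [pow_two, mul_smul, hyb, hyb]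
  -- k normalizes: k maps {a,b} to {a,b}
  have hset : ∀ (k z : G), k * x * k⁻¹ = z → z ≠ 1 → z • a = a → z • b = b →
      ∀ p : X, x • p = p → k • p = a ∨ k • p = b := by
    intro k z hk hz1 hza hzb p hp
    have hfix : z • (k • p) = k • p := by
      rw [← hk, mul_smul, mul_smul, inv_smul_smul, hp]
    by_contra hcon
    push Not at hcon
    exact hz1 (sharp z a b (k • p) hab (Ne.symm hcon.2) (Ne.symm hcon.1) hza hzb hfix)
  have hswap : ∀ (k z : G), k * x * k⁻¹ = z → z ≠ 1 → z • a = a → z • b = b → k • c = c → k ≠ 1 →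
      k • a = b ∧ k • b = a := by
    intro k z hk hz1 hza hzb hkc hk1
    have h1 := hset k z hk hz1 hza hzb a hxa
    have h2 := hset k z hk hz1 hza hzb b hxb
    rcases h1 with h1 | h1 <;> rcases h2 with h2 | h2
    · exact absurd (smul_left_cancel k (h1.trans h2.symm)) hab
    · exact absurd (sharp' k h1 h2 hkc) hk1
    · exact ⟨h1, h2⟩
    · exact absurd (smul_left_cancel k (h1.trans h2.symm)) hab
  have hg1 : g ≠ 1 := by
    intro h
    rw [h, one_smul] at hgc1
    -- x c = y c
    apply hxy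
    have : y⁻¹ * x = 1 := by
      apply sharp' 
      · rw [mul_smul, hxa, inv_smul_eq_iff, hya]
      · rw [mul_smul, hxb, inv_smul_eq_iff, hyb]
      · rw [mul_smul, inv_smul_eq_iff]; exact hgc1
    exact (inv_mul_eq_one.mp this)
  have hg'1 : g' ≠ 1 := by
    intro h
    rw [h, one_smul] at hg'c1
    apply hxy'
    have hxe : (y ^ 2)⁻¹ * x = 1 := by
      apply sharp'
      · rw [mul_smul, hxa, inv_smul_eq_iff, hy2a]
      · rw [mul_smul, hxb, inv_smul_eq_iff, hy2b]
      · rw [mul_smul, inv_smul_eq_iff, hy2c]; exact hg'c1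
    have hxe' : x = y ^ 2 := (inv_mul_eq_one.mp hxe).symm
    rw [hxe', ← pow_mul]
    have : y ^ (2 * 2) = y ^ 3 * y := pow_succ y 3
    rw [this, hy3, one_mul]
  obtain ⟨hga, hgb⟩ := hswap g y hconj hy1 hya hyb hgc hg1
  obtain ⟨hg'a, hg'b⟩ := hswap g' (y ^ 2) hconj' hy2ne hy2a hy2b hg'c hg'1
  have hgg' : g⁻¹ * g' = 1 := by
    apply sharp'
    · rw [mul_smul, hg'a, inv_smul_eq_iff, hga]
    · rw [mul_smul, hg'b, inv_smul_eq_iff, hgb]
    · rw [mul_smul, hg'c, inv_smul_eq_iff, hgc]
  have : g = g' := inv_mul_eq_one.mp hgg'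
  rw [← this, hgc1] at hg'c1
  exact hd12 hg'c1

/-- a subgroup of order 3 is generated by any nonidentity element -/
theorem mem_pow_of_card_three (A : Subgroup G) (hA3 : Nat.card A = 3) {x : G} (hx : x ∈ A)
    (hx1 : x ≠ 1) : x ^ 3 = 1 ∧ ∀ z ∈ A, z = 1 ∨ z = x ∨ z = x ^ 2 := by
  have hfin : Finite A := Nat.finite_of_card_ne_zero (by omega)
  have hx3 : x ^ 3 = 1 := by
    have := pow_card_eq_one' (G := A) (x := ⟨x, hx⟩)
    rw [hA3] at this
    exact congrArg Subtype.val this
  refine ⟨hx3, ?_⟩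
  have hx2ne : x ^ 2 ≠ 1 := by
    intro h
    apply hx1
    have : x ^ 3 = x ^ 2 * x := pow_succ x 2
    rw [hx3, h, one_mul] at this
    exact this.symm
  have hx2x : x ^ 2 ≠ x := by
    intro h
    apply hx1
    have : x * x = x * 1 := by rw [← pow_two, h, mul_one]
    exact mul_left_cancel this
  intro z hz
  by_contra hcon
  push Not at hcon
  obtain ⟨hz1, hzx, hzx2⟩ := hcon
  -- four distinct elements in A
  have : 4 ≤ Nat.card A := by
    let f : Fin 4 → A := ![⟨1, A.one_mem⟩, ⟨x, hx⟩, ⟨x ^ 2, A.pow_mem hx 2⟩, ⟨z, hz⟩]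
    have hf : Function.Injective f := by
      intro i j h
      fin_cases i <;> fin_cases j <;>
        first
          | rfl
          | (exfalso
             simp [f] at h
             first
               | exact hx1 h
               | exact hx1 h.symm
               | exact hx2ne h
               | exact hx2ne h.symm
               | exact hz1 h
               | exact hz1 h.symm
               | exact hx2x h
               | exact hx2x h.symm
               | exact hzx h
               | exact hzx h.symm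
               | exact hzx2 h
               | exact hzx2 h.symm)
    have := Nat.card_le_card_of_injective f hf
    simpa using this
  omega

end

/-- In a sharply triply transitive group of even degree at least 6 (degree `q + 1`, `q` odd), a two-point stabiliser has at most one subgroup of order 3. -/
theorem result {α : Type*} [Fintype α] [DecidableEq α] (heven : Even (Fintype.card α)) (h6 : 6 ≤ Fintype.card α) (G : Subgroup (Equiv.Perm α)) (h3 : MulAction.IsMultiplyPretransitive G α 3) (hsharp : ∀ x : Fin 3 ↪ α, MulAction.stabilizer G x = ⊥) {a b : α} (hab : a ≠ b) (A B : Subgroup G) (hA : A ≤ MulAction.stabilizer G a ⊓ MulAction.stabilizer G b) (hB : B ≤ MulAction.stabilizer G a ⊓ MulAction.stabilizer G b) (hA3 : Nat.card A = 3) (hB3 : Nat.card B = 3) : A = B := by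
  classical
  have sharp : ∀ g : G, ∀ u v w : α, u ≠ v → v ≠ w → u ≠ w → g • u = u → g • v = v → g • w = w →
      g = 1 := by
    intro g u v w huv hvw huw h1 h2 h3'
    have : g ∈ MulAction.stabilizer G (emb3 u v w huv hvw huw) := by
      rw [MulAction.mem_stabilizer_iff]
      ext i
      fin_cases i
      · exact h1
      · exact h2
      · exact h3'
    rw [hsharp] at this
    exact Subgroup.mem_bot.mp this
  -- a third point
  obtain ⟨c, hca, hcb⟩ : ∃ c : α, c ≠ a ∧ c ≠ b := by
    by_contra hcon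
    push Not at hcon
    have : Fintype.card α ≤ 2 := by
      have hsub : (Finset.univ : Finset α) ⊆ {a, b} := by
        intro x _
        by_cases hx : x = a
        · simp [hx]
        · simp [hcon x hx]
      calc Fintype.card α = (Finset.univ : Finset α).card := rfl
        _ ≤ ({a, b} : Finset α).card := Finset.card_le_card hsub
        _ ≤ 2 := Finset.card_le_two
    omega
  have hfinA : Finite A := Nat.finite_of_card_ne_zero (by omega)
  have hfinB : Finite B := Nat.finite_of_card_ne_zero (by omega)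
  by_contra hAB
  -- there is y ∈ B not in A
  have hBA : ¬ B ≤ A := by
    intro hle
    apply hAB
    exact (Subgroup.eq_of_le_of_card_ge hle (by rw [hA3, hB3])).symm
  obtain ⟨y, hyB, hyA⟩ := SetLike.not_le_iff_exists.mp hBA
  have hy1 : y ≠ 1 := fun h => hyA (h ▸ A.one_mem)
  -- x ∈ A nontrivial
  have hntA : Nontrivial A := by
    rw [← Finite.one_lt_card_iff_nontrivial]; omega
  obtain ⟨⟨x, hxA⟩, hx1'⟩ := exists_ne (1 : A)
  have hx1 : x ≠ 1 := fun h => hx1' (Subtype.ext h)
  obtain ⟨hx3, -⟩ := mem_pow_of_card_three A hA3 hxA hx1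
  obtain ⟨hy3, -⟩ := mem_pow_of_card_three B hB3 hyB hy1
  have hxstab := hA hxA
  have hystab := hB hyB
  rw [Subgroup.mem_inf, MulAction.mem_stabilizer_iff, MulAction.mem_stabilizer_iff] at hxstab hystab
  exact core h3 sharp hab hca hcb x y hxstab.1 hxstab.2 hystab.1 hystab.2 hx3 hy3 hx1 hy1
    (fun h => hyA (h ▸ hxA)) (fun h => hyA (h ▸ A.pow_mem hxA 2))

end Cfsg.Agent.S0728
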