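import Cfsg.Statements.S0344
import Mathlib
import Cfsg.Agent.S0742
import Cfsg.Agent.Lib.H4.Idx2.ZasSimple

set_option autoImplicit false
open Cfsg

namespace Cfsg.Agent.S0344

open MulAction Cfsg.Agent.Lib.H2.Zass Cfsg.Agent.Lib.H4.Idx2

/-- A finite simple Zassenhaus group with a two-point stabiliser of even order is isomorphic to `PSL₂(F)` for a finite
field `F` with more than three elements. -/
theorem result {G Ω : Type*} [Group G] [Finite G] [MulAction G Ω] [Finite Ω]
    (hZ : Cfsg.IsZassenhausGroup G Ω) [IsSimpleGroup G]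
    {a b : Ω} (hab : a ≠ b) (heven : Even (Nat.card ↥(MulAction.stabilizer G a ⊓ MulAction.stabilizer G b))) :
    ∃ (F : Type) (_ : Field F) (_ : Fintype F), 3 < Fintype.card F ∧ Nonempty (G ≃* Matrix.ProjectiveSpecialLinearGroup (Fin 2) F) := by
  classical
  haveI : Fintype Ω := Fintype.ofFinite Ω
  have hP := pre_of_zassenhaus hZ
  have hdpos : 0 < Nat.card ↥(stabilizer G a ⊓ stabilizer G b) := Nat.card_pos
  have hd2 : 2 ≤ Nat.card ↥(stabilizer G a ⊓ stabilizer G b) := by
    obtain ⟨m, hm⟩ := heven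
    omega
  by_cases hd : 2 * Nat.card ↥(stabilizer G a ⊓ stabilizer G b) ≤ Fintype.card Ω - 2
  · obtain ⟨p, f, K, fld, ft, hp, hp2, hK, hΩ, hiso⟩ := Cfsg.Agent.S0742.result hZ hab heven hd
    refine ⟨K, fld, ft, ?_, hiso⟩
    rw [hK]
    omega
  · exfalso
    obtain ⟨M, hM⟩ := exists_index_two_of_large hP hab heven hd
    haveI : M.Normal := Subgroup.normal_of_index_eq_two hM
    have hcard := Cfsg.Agent.Lib.H4.Zas.card_eq hP a b hab
    have h3 : 3 ≤ Nat.card Ω := by
      obtain ⟨x, y, z, hxy, hyz, hxz⟩ := exists_three hP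
      rw [Nat.card_eq_fintype_card]
      exact Fintype.two_lt_card_iff.2 ⟨x, y, z, hxy, hxz, hyz⟩
    rcases Subgroup.Normal.eq_bot_or_eq_top (inferInstance : M.Normal) with h | h
    · rw [h, Subgroup.index_bot] at hM
      rw [hM] at hcard
      have h4 : 3 * 2 * 2 ≤ Nat.card Ω * (Nat.card Ω - 1) *
          Nat.card ↥(stabilizer G a ⊓ stabilizer G b) :=
        Nat.mul_le_mul (Nat.mul_le_mul h3 (by omega)) hd2
      omega
    · rw [h, Subgroup.index_top] at hM
      omega

end Cfsg.Agent.S0344
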