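import Cfsg.Statements.S0799
import Mathlib
import Cfsg.Agent.Lib.H5.DicksonFull
import Cfsg.Agent.Lib.H5.PSL2DihExists

set_option autoImplicit false
set_option linter.style.haveILetI false
open Cfsg

namespace Cfsg.Agent.S0799

open Matrix Cfsg.Agent.Lib.H12 Cfsg.Agent.Lib.H5.PSL2Torus Cfsg.Agent.Lib.H5
  Cfsg.Agent.Lib.H4.Dickson

/-- a copy in `Type` of `PSL₂(S)`, `PGL₂(S)` for a subfield `S` -/
theorem exists_copy {F : Type*} [Field F] [Fintype F] (S : Subfield F) :
    ∃ (K : Type) (_ : Field K) (_ : Fintype K) (m : ℕ), Fintype.card K ^ m = Fintype.card F ∧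
      Nonempty (Matrix.ProjectiveSpecialLinearGroup (Fin 2) S ≃*
        Matrix.ProjectiveSpecialLinearGroup (Fin 2) K) ∧
      Nonempty (Matrix.ProjGenLinGroup (Fin 2) S ≃* Matrix.ProjGenLinGroup (Fin 2) K) := by
  obtain ⟨F₀, hf, hft, hc0, ⟨f⟩⟩ := PSL2MaxTwo.exists_type0_copy S
  haveI : Fintype S := Fintype.ofFinite S
  refine ⟨F₀, hf, hft, Module.finrank S F, ?_, ⟨PSL2Iso.pslMapEquiv f⟩, ⟨PSL2Iso.pglMapEquiv f⟩⟩
  rw [hc0, Module.card_eq_pow_finrank (K := S) (V := F), Nat.card_eq_fintype_card]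

/-- Dickson's classification of the subgroups of PSL_2(q), q a power of the prime p, d = gcd(2, q − 1): every subgroup H is (a) cyclic or dihedral with k dividing (q+1)/d or (q−1)/d (cyclic of order k, or dihedral of order 2k), (b) isomorphic to a subgroup of the normaliser of a Sylow p-subgroup, (c) isomorphic to A_4, S_4 or A_5, or (d) isomorphic to PSL_2(K) or PGL_2(K) for a finite field K with |K|^m = q. -/
theorem result {F : Type*} [Field F] [Fintype F] {q : ℕ} (hF : Fintype.card F = q) (p : ℕ) [Fact p.Prime] [CharP F p] (H : Subgroup (Matrix.ProjectiveSpecialLinearGroup (Fin 2) F)) : (∃ k : ℕ, (k ∣ (q + 1) / Nat.gcd 2 (q - 1) ∨ k ∣ (q - 1) / Nat.gcd 2 (q - 1)) ∧ ((IsCyclic H ∧ Nat.card H = k) ∨ Nonempty (H ≃* DihedralGroup k))) ∨ (∃ (P : Sylow p (Matrix.ProjectiveSpecialLinearGroup (Fin 2) F)) (K : Subgroup (Matrix.ProjectiveSpecialLinearGroup (Fin 2) F)), K ≤ Subgroup.normalizer ((P : Subgroup (Matrix.ProjectiveSpecialLinearGroup (Fin 2) F))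 : Set (Matrix.ProjectiveSpecialLinearGroup (Fin 2) F)) ∧ Nonempty (H ≃* K)) ∨ Nonempty (H ≃* alternatingGroup (Fin 4)) ∨ Nonempty (H ≃* Equiv.Perm (Fin 4)) ∨ Nonempty (H ≃* alternatingGroup (Fin 5)) ∨ (∃ (K : Type) (_ : Field K) (_ : Fintype K) (m : ℕ), Fintype.card K ^ m = q ∧ (Nonempty (H ≃* Matrix.ProjectiveSpecialLinearGroup (Fin 2) K) ∨ Nonempty (H ≃* Matrix.ProjGenLinGroup (Fin 2) K))) := by
  subst hF
  have hq1 : 2 ≤ Fintype.card F := Fintype.one_lt_card
  rcases PSL2DihExists.even_or_odd_field (F := F) with h2 | hodd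
  · -- characteristic two
    haveI : Fact (Nat.Prime 2) := ⟨Nat.prime_two⟩
    have h2c := DicksonTwo.charP_two h2
    have hp2 : p = 2 := CharP.eq F (‹CharP F p›) h2c
    subst hp2
    have heven : Even (Fintype.card F) :=
      Nat.even_iff.mpr (FiniteField.even_card_of_char_two (ringChar.eq F 2))
    have hgcd : Nat.gcd 2 (Fintype.card F - 1) = 1 := by
      apply Nat.coprime_two_left.mpr
      obtain ⟨j, hj⟩ := heven
      exact ⟨j - 1, by omega⟩
    rw [hgcd, Nat.div_one, Nat.div_one]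
    have hmap : (H.comap (pr (F := F))).map pr = H :=
      Subgroup.map_comap_eq_self_of_surjective pr_surjective H
    have hinj : Function.Injective (pr (F := F)) := Cfsg.Agent.Lib.H5.SL2Char2.mk_injective h2
    obtain ⟨e⟩ : Nonempty (↥(H.comap (pr (F := F))) ≃* ↥H) :=
      ⟨((H.comap pr).equivMapOfInjective pr hinj).trans (MulEquiv.subgroupCongr hmap)⟩
    rcases DicksonTwo.classify2 h2 (H.comap pr) with ⟨-, hcyc, hd, -⟩ | ⟨hev, hsyl⟩ |
      ⟨x, -, -, ⟨d⟩, hd, -⟩ | ⟨Θ, S, -, hLS⟩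
    · left
      refine ⟨Nat.card H, ?_, Or.inl ⟨?_, rfl⟩⟩
      · rw [← Nat.card_congr e.toEquiv]
        rcases hd with h | h
        · exact Or.inr h
        · exact Or.inl h
      · exact isCyclic_of_surjective e e.surjective
    · right; left
      have hs : Function.Surjective ((pr (F := F)).subgroupComap H) :=
        MonoidHom.subgroupComap_surjective_of_surjective pr H pr_surjective
      have hle := Nat.card_le_card_of_surjective _ (Sylow.mapSurjective_surjective hs 2)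
      have hposM : 0 < Nat.card (Sylow 2 H) := Nat.card_pos
      have hdvd : 2 ∣ Nat.card H := by
        rw [← Nat.card_congr e.toEquiv]; exact hev.two_dvd
      obtain ⟨P, hP⟩ := PSL2Borel.le_normalizer_of_card_sylow_eq_one 2 H hdvd (by omega)
      exact ⟨P, H, hP, ⟨MulEquiv.refl _⟩⟩
    · left
      refine ⟨Nat.card (cent x), ?_, Or.inr ⟨e.symm.trans d⟩⟩
      rcases hd with h | h
      · exact Or.inr h
      · exact Or.inl h
    · right; right; right; right; right
      obtain ⟨K, hK, hKf, m, hm, ⟨f⟩, -⟩ := exists_copy S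
      have h2S : (2 : S) = 0 := by
        apply Subtype.ext
        show ((2 : S) : F) = ((0 : S) : F)
        push_cast
        exact h2
      haveI : Fintype S := Fintype.ofFinite S
      have e₁ : ↥(H.comap (pr (F := F))) ≃* Matrix.SpecialLinearGroup (Fin 2) S :=
        (((H.comap pr).equivMapOfInjective Θ.toMonoidHom Θ.injective).trans
          (MulEquiv.subgroupCongr hLS)).trans (PSL2MaxTwo.subSLEquiv S).symm
      refine ⟨K, hK, hKf, m, hm, Or.inl ⟨?_⟩⟩
      exact ((e.symm.trans e₁).trans (PSL2MaxTwo.slEquiv h2S)).trans f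
  · -- odd characteristic
    have hgcd : Nat.gcd 2 (Fintype.card F - 1) = 2 := by
      apply Nat.gcd_eq_left
      obtain ⟨j, hj⟩ := hodd
      exact ⟨j, by omega⟩
    rw [hgcd]
    have key : ∀ k : ℕ, (2 * k ∣ Fintype.card F - 1 ∨ 2 * k ∣ Fintype.card F + 1) →
        (k ∣ (Fintype.card F + 1) / 2 ∨ k ∣ (Fintype.card F - 1) / 2) := by
      intro k hk
      rcases hk with h | h
      · exact Or.inr (Nat.dvd_div_of_mul_dvd h)
      · exact Or.inl (Nat.dvd_div_of_mul_dvd h)
    rcases DicksonFull.classify_odd p hodd H with ⟨hc, hd⟩ | ⟨k, hd, hD⟩ | h | h | h |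
      ⟨-, P, hP⟩ | ⟨S, -, ⟨e⟩⟩ | ⟨S, -, ⟨e⟩⟩
    · left
      exact ⟨Nat.card H, key _ hd, Or.inl ⟨hc, rfl⟩⟩
    · left
      exact ⟨k, key _ hd, Or.inr hD⟩
    · exact Or.inr (Or.inr (Or.inl h))
    · exact Or.inr (Or.inr (Or.inr (Or.inl h)))
    · exact Or.inr (Or.inr (Or.inr (Or.inr (Or.inl h))))
    · right; left
      exact ⟨P, H, hP, ⟨MulEquiv.refl _⟩⟩
    · right; right; right; right; right
      obtain ⟨K, hK, hKf, m, hm, ⟨f⟩, -⟩ := exists_copy S
      exact ⟨K, hK, hKf, m, hm, Or.inl ⟨e.trans f⟩⟩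
    · right; right; right; right; right
      obtain ⟨K, hK, hKf, m, hm, -, ⟨f⟩⟩ := exists_copy S
      exact ⟨K, hK, hKf, m, hm, Or.inr ⟨e.trans f⟩⟩

end Cfsg.Agent.S0799
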