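import Cfsg.Statements.S0274
import Mathlib
import Cfsg.Agent.S0801
import Cfsg.Agent.Lib.H1.DicksonBridge

set_option autoImplicit false
open Cfsg

namespace Cfsg.Agent.S0274

open Cfsg.Agent.Lib.H1.QdSec Cfsg.Agent.Lib.H1.DicksonBridge

universe u

/-- S0801 gives the weak generation lemma -/
theorem dicksonGen : DicksonGen.{u} := by
  intro K _ _ h2 lam hlam hgen
  have hset : {g : Matrix.SpecialLinearGroup (Fin 2) K | (g : Matrix (Fin 2) (Fin 2) K) = !![1, 0; 1, 1] ∨
      (g : Matrix (Fin 2) (Fin 2) K) = !![1, lam; 0, 1]} = {ll (1 : K), uu lam} := by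
    ext g
    simp only [Set.mem_ofPred_eq, Set.mem_insert_iff, Set.mem_singleton_iff]
    constructor
    · rintro (h | h)
      · left; exact Subtype.ext h
      · right; exact Subtype.ext h
    · rintro (rfl | rfl)
      · left; rfl
      · right; rfl
  rcases Cfsg.Agent.S0801.result h2 lam hlam hgen with ⟨h, _⟩ | ⟨h9, hsq, _⟩
  · left; rw [← hset]; exact h
  · right; exact ⟨h9, hsq⟩

/-- Dickson's theorem, in the form used by `Lib/H1/QdSec` -/
theorem dicksonHyp {p : ℕ} [Fact p.Prime] (hp : p ≠ 2) : DicksonHyp.{u} p :=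
  dicksonHyp_of_gen hp dicksonGen

/-- Dickson's Theorem for SL_2: if p is odd and H is a subgroup of SL_2(q), q a power of p, with more than one Sylow p-subgroup, then H contains a copy of SL_2(p). -/
theorem result {F : Type*} [Field F] [Fintype F] (p : ℕ) [Fact p.Prime] [CharP F p] (hp : p ≠ 2) (H : Subgroup (Matrix.SpecialLinearGroup (Fin 2) F)) (hH : 1 < Nat.card (Sylow p H)) : ∃ K : Subgroup (Matrix.SpecialLinearGroup (Fin 2) F), K ≤ H ∧ Nonempty (K ≃* Matrix.SpecialLinearGroup (Fin 2) (ZMod p)) := by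
  exact dicksonHyp hp F H hH

end Cfsg.Agent.S0274
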