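import Cfsg.Statements.S2791
import Cfsg.Agent.Lib.H10.LocalGlobalGen
-- import your own Cfsg.Agent.* helpers here

set_option autoImplicit false
open Cfsg

namespace Cfsg.Agent.S2791

open Cfsg.Agent.Lib.H10
variable {G : Type*} [Group G]

/-- Stabilizer in `N_G(U)` of the chain `U ≥ D ≥ 1` (with `D` centralized). -/
def chainStab (U D : Subgroup G) : Subgroup G where
  carrier := {k | k ∈ Subgroup.normalizer (U : Set G) ∧ (∀ x ∈ U, x⁻¹ * k⁻¹ * x * k ∈ D) ∧
    ∀ d ∈ D, k * d = d * k}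
  one_mem' := by
    refine ⟨Subgroup.one_mem _, ?_, ?_⟩
    · intro x _
      have : x⁻¹ * (1 : G)⁻¹ * x * 1 = 1 := by group
      rw [this]; exact D.one_mem
    · intro d _; simp
  mul_mem' := by
    rintro k k' ⟨hk1, hk2, hk3⟩ ⟨hk1', hk2', hk3'⟩
    refine ⟨Subgroup.mul_mem _ hk1 hk1', ?_, ?_⟩
    · intro x hx
      have h1 := hk2 x hx
      have h2 := hk2' x hx
      have h3 := hk3' _ h1
      have : x⁻¹ * (k * k')⁻¹ * x * (k * k') =
          (x⁻¹ * k'⁻¹ * x * k') * (k'⁻¹ * ((x⁻¹ * k⁻¹ * x * k) * k')) := by group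
      rw [this, ← h3]
      have : k'⁻¹ * (k' * (x⁻¹ * k⁻¹ * x * k)) = x⁻¹ * k⁻¹ * x * k := by group
      rw [this]
      exact D.mul_mem h2 h1
    · intro d hd
      rw [mul_assoc, hk3' d hd, ← mul_assoc, hk3 d hd, mul_assoc]
  inv_mem' := by
    rintro k ⟨hk1, hk2, hk3⟩
    refine ⟨Subgroup.inv_mem _ hk1, ?_, ?_⟩
    · intro x hx
      have h1 := hk2 x hx
      have h3 := hk3 _ h1
      -- x⁻¹ k x k⁻¹ = (k δ k⁻¹)⁻¹ = δ⁻¹
      have : x⁻¹ * k⁻¹⁻¹ * x * k⁻¹ = (k * (x⁻¹ * k⁻¹ * x * k) * k⁻¹)⁻¹ := by group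
      rw [this, h3]
      have : (x⁻¹ * k⁻¹ * x * k * k * k⁻¹)⁻¹ = (x⁻¹ * k⁻¹ * x * k)⁻¹ := by group
      rw [this]
      exact D.inv_mem h1
    · intro d hd
      have := hk3 d hd
      calc k⁻¹ * d = k⁻¹ * (d * k) * k⁻¹ := by group
        _ = k⁻¹ * (k * d) * k⁻¹ := by rw [this]
        _ = d * k⁻¹ := by group

theorem mem_chainStab {U D : Subgroup G} {k : G} :
    k ∈ chainStab U D ↔ k ∈ Subgroup.normalizer (U : Set G) ∧ (∀ x ∈ U, x⁻¹ * k⁻¹ * x * k ∈ D) ∧
      ∀ d ∈ D, k * d = d * k := Iff.rfl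

theorem chainStab_le_normalizer (U D : Subgroup G) :
    chainStab U D ≤ Subgroup.normalizer (U : Set G) := fun _ hk => hk.1

theorem centralizer_le_chainStab {U D : Subgroup G} (hDU : D ≤ U) :
    Subgroup.centralizer (U : Set G) ≤ chainStab U D := by
  intro c hc
  have hcN : c ∈ Subgroup.normalizer (U : Set G) := Subgroup.centralizer_le_normalizer (U : Set G) hc
  rw [Subgroup.mem_centralizer_iff] at hc
  refine ⟨hcN, ?_, ?_⟩
  · intro x hx
    have h := hc x hx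
    have : x⁻¹ * c⁻¹ * x * c = 1 := by
      rw [mul_assoc, mul_assoc, h]; group
    rw [this]; exact D.one_mem
  · intro d hd
    exact (hc d (hDU hd)).symm

theorem chainStab_pow {U D : Subgroup G} {k : G} (hk : k ∈ chainStab U D) {x : G} (hx : x ∈ U)
    (m : ℕ) : x⁻¹ * (k ^ m)⁻¹ * x * k ^ m = (x⁻¹ * k⁻¹ * x * k) ^ m := by
  obtain ⟨hk1, hk2, hk3⟩ := hk
  induction m with
  | zero => simp
  | succ m ih =>
    have hδ : (x⁻¹ * k⁻¹ * x * k) ^ m ∈ D := D.pow_mem (hk2 x hx) m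
    have h3 := hk3 _ hδ
    have : x⁻¹ * (k ^ (m + 1))⁻¹ * x * k ^ (m + 1) =
        (x⁻¹ * k⁻¹ * x * k) * (k⁻¹ * ((x⁻¹ * (k ^ m)⁻¹ * x * k ^ m) * k)) := by
      rw [pow_succ]; group
    rw [this, ih, ← h3, pow_succ']
    group

theorem chainStab_pow_card_mem [Finite G] {U D : Subgroup G} {k : G} (hk : k ∈ chainStab U D) :
    k ^ Nat.card D ∈ Subgroup.centralizer (U : Set G) := by
  rw [Subgroup.mem_centralizer_iff]
  intro x hx
  have h1 := chainStab_pow hk hx (Nat.card D)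
  have h2 : (x⁻¹ * k⁻¹ * x * k) ^ Nat.card D = 1 := by
    have hmem := hk.2.1 x hx
    have h3 : (⟨_, hmem⟩ : D) ^ Nat.card D = 1 := pow_card_eq_one'
    have h4 := congrArg Subtype.val h3
    rw [Subgroup.coe_pow, Subgroup.coe_one] at h4
    exact h4
  rw [h2] at h1
  -- x⁻¹ (k^m)⁻¹ x k^m = 1
  calc x * k ^ Nat.card D = k ^ Nat.card D * x * (x⁻¹ * (k ^ Nat.card D)⁻¹ * x * k ^ Nat.card D) := by
        group
    _ = k ^ Nat.card D * x := by rw [h1, mul_one]

theorem chainStab_conj_mem {U D : Subgroup G}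
    (hD : ∀ n ∈ Subgroup.normalizer (U : Set G), ∀ d ∈ D, n * d * n⁻¹ ∈ D)
    {n k : G} (hn : n ∈ Subgroup.normalizer (U : Set G)) (hk : k ∈ chainStab U D) :
    n * k * n⁻¹ ∈ chainStab U D := by
  obtain ⟨hk1, hk2, hk3⟩ := hk
  have hn' : n⁻¹ ∈ Subgroup.normalizer (U : Set G) := Subgroup.inv_mem _ hn
  refine ⟨Subgroup.mul_mem _ (Subgroup.mul_mem _ hn hk1) hn', ?_, ?_⟩
  · intro x hx
    have hy : n⁻¹ * x * n⁻¹⁻¹ ∈ U := (Subgroup.mem_normalizer_iff.mp hn' x).mp hx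
    have h1 := hk2 _ hy
    have h2 := hD n hn _ h1
    have : x⁻¹ * (n * k * n⁻¹)⁻¹ * x * (n * k * n⁻¹) =
        n * ((n⁻¹ * x * n⁻¹⁻¹)⁻¹ * k⁻¹ * (n⁻¹ * x * n⁻¹⁻¹) * k) * n⁻¹ := by group
    rw [this]; exact h2
  · intro d hd
    have h1 : n⁻¹ * d * n⁻¹⁻¹ ∈ D := hD _ hn' d hd
    have h2 := hk3 _ h1
    calc n * k * n⁻¹ * d = n * (k * (n⁻¹ * d * n⁻¹⁻¹)) * n⁻¹ := by group
      _ = n * ((n⁻¹ * d * n⁻¹⁻¹) * k) * n⁻¹ := by rw [h2]
      _ = d * (n * k * n⁻¹) := by group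

theorem normalizer_le_normalizer_chainStab {U D : Subgroup G}
    (hD : ∀ n ∈ Subgroup.normalizer (U : Set G), ∀ d ∈ D, n * d * n⁻¹ ∈ D) :
    Subgroup.normalizer (U : Set G) ≤ Subgroup.normalizer ((chainStab U D : Subgroup G) : Set G) := by
  intro n hn
  rw [Subgroup.mem_normalizer_iff]
  intro k
  constructor
  · exact chainStab_conj_mem hD hn
  · intro h
    have := chainStab_conj_mem hD (Subgroup.inv_mem _ hn) h
    have e : n⁻¹ * (n * k * n⁻¹) * n⁻¹⁻¹ = k := by group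
    rwa [e] at this

theorem normalizer_le_normalizer_centralizer' (U : Subgroup G) :
    Subgroup.normalizer (U : Set G) ≤
      Subgroup.normalizer ((Subgroup.centralizer (U : Set G) : Subgroup G) : Set G) := by
  have key : ∀ n ∈ Subgroup.normalizer (U : Set G), ∀ c ∈ Subgroup.centralizer (U : Set G),
      n * c * n⁻¹ ∈ Subgroup.centralizer (U : Set G) := by
    intro n hn c hc
    rw [Subgroup.mem_centralizer_iff] at hc ⊢
    intro x hx
    have hn' : n⁻¹ ∈ Subgroup.normalizer (U : Set G) := Subgroup.inv_mem _ hn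
    have hy : n⁻¹ * x * n⁻¹⁻¹ ∈ U := (Subgroup.mem_normalizer_iff.mp hn' x).mp hx
    have h := hc _ hy
    calc x * (n * c * n⁻¹) = n * ((n⁻¹ * x * n⁻¹⁻¹) * c) * n⁻¹ := by group
      _ = n * (c * (n⁻¹ * x * n⁻¹⁻¹)) * n⁻¹ := by rw [h]
      _ = n * c * n⁻¹ * x := by group
  intro n hn
  rw [Subgroup.mem_normalizer_iff]
  intro c
  constructor
  · exact key n hn c
  · intro h
    have := key _ (Subgroup.inv_mem _ hn) _ h
    have e : n⁻¹ * (n * c * n⁻¹) * n⁻¹⁻¹ = c := by group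
    rwa [e] at this

theorem card_lt_of_lt' [Finite G] {H K : Subgroup G} (hHK : H < K) : Nat.card H < Nat.card K :=
  card_lt_card_of_lt hHK

/-- A "Sylow in `N`" subgroup meets a subgroup `K ≤ N` normalized by `N` in a "Sylow in `K`". -/
theorem not_dvd_relIndex_inf_of_normal [Finite G] {p : ℕ} [Fact p.Prime] {S N K : Subgroup G}
    (hS : IsPGroup p S) (hSN : ¬ p ∣ (S ⊓ N).relIndex N) (hKN : K ≤ N)
    (hNK : N ≤ Subgroup.normalizer (K : Set G)) : ¬ p ∣ (S ⊓ K).relIndex K := by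
  obtain ⟨R, hPR, hRK, hRp, hRi⟩ := exists_sylowIn (P := S ⊓ K) (K := K) (hS.to_le inf_le_left)
    inf_le_right
  obtain ⟨m, hmN, hm⟩ := exists_mem_map_conj_le_of_sylowIn (P := S ⊓ N) (K := N)
    (hS.to_le inf_le_left) inf_le_right hSN hRp (hRK.trans hKN)
  have hmK : K.map (MulAut.conj m).toMonoidHom = K := mem_normalizer_iff_map_conj.mp (hNK hmN)
  have h1 : R.map (MulAut.conj m).toMonoidHom ≤ S ⊓ K := by
    refine le_inf (hm.trans inf_le_left) ?_
    rw [← hmK]; exact Subgroup.map_mono hRK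
  have h2 : Nat.card R ≤ Nat.card (S ⊓ K : Subgroup G) := by
    rw [← card_map_conj m R]; exact Subgroup.card_le_of_le h1
  have h3 : (S ⊓ K : Subgroup G) = R := Subgroup.eq_of_le_of_card_ge hPR h2
  rw [h3]; exact hRi

theorem frattini_factor [Finite G] {p : ℕ} [Fact p.Prime] {S N K C : Subgroup G}
    (hS : IsPGroup p S) (hSN : ¬ p ∣ (S ⊓ N).relIndex N) (hCK : C ≤ K) (hKN : K ≤ N)
    (hNK : N ≤ Subgroup.normalizer (K : Set G)) (hNC : N ≤ Subgroup.normalizer (C : Set G))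
    (hpow : ∀ k ∈ K, ∃ j : ℕ, k ^ (p ^ j) ∈ C) :
    ∀ n ∈ N, ∃ c ∈ C, ∃ m ∈ N ⊓ Subgroup.normalizer ((S ⊓ K : Subgroup G) : Set G), n = c * m := by
  have hK := not_dvd_relIndex_inf_of_normal hS hSN hKN hNK
  have hSKp : IsPGroup p (S ⊓ K : Subgroup G) := hS.to_le inf_le_left
  -- K = (S ⊓ K) C
  have hfac : ∀ k ∈ K, ∃ t ∈ S ⊓ K, ∃ c ∈ C, k = t * c := by
    intro k hk
    have hCn : (C.subgroupOf K).Normal :=
      (Subgroup.normal_subgroupOf_iff_le_normalizer hCK).mpr (hKN.trans hNC)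
    have hP' : IsPGroup p ((S ⊓ K : Subgroup G).subgroupOf K) := hSKp.comap_subtype
    let PS : Sylow p K := hP'.toSylow hK
    have hPS : (PS : Subgroup K) = (S ⊓ K : Subgroup G).subgroupOf K := hP'.toSylow_coe hK
    have hQ : IsPGroup p (K ⧸ C.subgroupOf K) := by
      intro q
      induction q using QuotientGroup.induction_on with
      | H z =>
        obtain ⟨j, hj⟩ := hpow z z.2
        refine ⟨j, ?_⟩
        rw [← QuotientGroup.mk_pow, QuotientGroup.eq_one_iff, Subgroup.mem_subgroupOf,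
          Subgroup.coe_pow]
        exact hj
    have hsurj : Function.Surjective (QuotientGroup.mk' (C.subgroupOf K)) :=
      QuotientGroup.mk'_surjective _
    have htop : (⊤ : Subgroup (K ⧸ C.subgroupOf K)) = (PS.mapSurjective hsurj : Sylow p _) :=
      (PS.mapSurjective hsurj).is_maximal' (hQ.to_subgroup ⊤) le_top
    have hmem : QuotientGroup.mk' (C.subgroupOf K) ⟨k, hk⟩ ∈
        ((PS.mapSurjective hsurj : Sylow p _) : Subgroup (K ⧸ C.subgroupOf K)) := by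
      rw [← htop]; trivial
    rw [Sylow.coe_mapSurjective] at hmem
    obtain ⟨t, ht, hte⟩ := hmem
    have ht' : (t : G) ∈ S ⊓ K := by
      have : t ∈ (PS : Subgroup K) := ht
      rw [hPS, Subgroup.mem_subgroupOf] at this
      exact this
    have hc : t⁻¹ * ⟨k, hk⟩ ∈ C.subgroupOf K := by
      rw [← QuotientGroup.eq]
      exact hte
    rw [Subgroup.mem_subgroupOf] at hc
    refine ⟨t, ht', _, hc, ?_⟩
    simp
  intro n hn
  -- Frattini
  have hnK : K.map (MulAut.conj n).toMonoidHom = K := mem_normalizer_iff_map_conj.mp (hNK hn)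
  have hY : ((S ⊓ K : Subgroup G).map (MulAut.conj n).toMonoidHom) ≤ K := by
    have := Subgroup.map_mono (f := (MulAut.conj n).toMonoidHom) (inf_le_right : S ⊓ K ≤ K)
    rwa [hnK] at this
  obtain ⟨k, hkK, hk⟩ := exists_mem_map_conj_le_of_sylowIn (P := S ⊓ K) (K := K) hSKp inf_le_right hK
    (hSKp.map _) hY
  rw [map_conj_map_conj] at hk
  have hkn : k * n ∈ Subgroup.normalizer ((S ⊓ K : Subgroup G) : Set G) :=
    mem_normalizer_iff_map_conj.mpr (eq_of_le_of_card_map_conj hk le_rfl)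
  obtain ⟨t, ht, c, hc, hktc⟩ := hfac k hkK
  refine ⟨c⁻¹, C.inv_mem hc, t⁻¹ * (k * n), ?_, ?_⟩
  · refine Subgroup.mem_inf.mpr ⟨?_, ?_⟩
    · exact N.mul_mem (N.inv_mem (hKN ht.2)) (N.mul_mem (hKN hkK) hn)
    · exact Subgroup.mul_mem _ (Subgroup.inv_mem _ (Subgroup.le_normalizer ht)) hkn
  · rw [hktc]; group

/-- The product set `U A` as a subgroup, when `U` normalizes `A`. -/
def prodSub (U A : Subgroup G) (h : ∀ u ∈ U, ∀ a ∈ A, u * a * u⁻¹ ∈ A) : Subgroup G where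
  carrier := {g | ∃ u ∈ U, ∃ a ∈ A, g = u * a}
  one_mem' := ⟨1, U.one_mem, 1, A.one_mem, by simp⟩
  mul_mem' := by
    rintro _ _ ⟨u, hu, a, ha, rfl⟩ ⟨u', hu', a', ha', rfl⟩
    refine ⟨u * u', U.mul_mem hu hu', (u'⁻¹ * a * u'⁻¹⁻¹) * a',
      A.mul_mem (h _ (U.inv_mem hu') a ha) ha', ?_⟩
    group
  inv_mem' := by
    rintro _ ⟨u, hu, a, ha, rfl⟩
    refine ⟨u⁻¹, U.inv_mem hu, u * a⁻¹ * u⁻¹, h u hu _ (A.inv_mem ha), ?_⟩
    group

/-- `Good A B g`: the conjugation map `b ↦ g⁻¹ b g` on `B` is induced by an element of `N_G(A)`. -/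
def Good (A : Subgroup G) (B : Set G) (g : G) : Prop :=
  ∃ y ∈ Subgroup.normalizer (A : Set G), ∀ b ∈ B, g⁻¹ * b * g = y⁻¹ * b * y

theorem good_res {A : Subgroup G} {B B' : Set G} {g : G} (h : Good A B g) (hBB : B' ⊆ B) :
    Good A B' g := by
  obtain ⟨y, hy, hyb⟩ := h
  exact ⟨y, hy, fun b hb => hyb b (hBB hb)⟩

theorem good_trans {A : Subgroup G} {B : Set G} {g h : G} (h1 : Good A B g)
    (h2 : Good A (rconj g B) h) : Good A B (g * h) := by
  obtain ⟨y, hy, hyb⟩ := h1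
  obtain ⟨z, hz, hzb⟩ := h2
  refine ⟨y * z, Subgroup.mul_mem _ hy hz, ?_⟩
  intro b hb
  have h3 := hzb (g⁻¹ * b * g) ⟨b, hb, rfl⟩
  calc (g * h)⁻¹ * b * (g * h) = h⁻¹ * (g⁻¹ * b * g) * h := by group
    _ = z⁻¹ * (g⁻¹ * b * g) * z := h3
    _ = z⁻¹ * (y⁻¹ * b * y) * z := by rw [hyb b hb]
    _ = (y * z)⁻¹ * b * (y * z) := by group

theorem good_symm {A : Subgroup G} {B : Set G} {g : G} (h1 : Good A B g) :
    Good A (rconj g B) g⁻¹ := by
  obtain ⟨y, hy, hyb⟩ := h1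
  refine ⟨y⁻¹, Subgroup.inv_mem _ hy, ?_⟩
  rintro _ ⟨b, hb, rfl⟩
  show g⁻¹⁻¹ * (g⁻¹ * b * g) * g⁻¹ = y⁻¹⁻¹ * (g⁻¹ * b * g) * y⁻¹
  calc g⁻¹⁻¹ * (g⁻¹ * b * g) * g⁻¹ = b := by group
    _ = y⁻¹⁻¹ * (y⁻¹ * b * y) * y⁻¹ := by group
    _ = y⁻¹⁻¹ * (g⁻¹ * b * g) * y⁻¹ := by rw [hyb b hb]

theorem mem_normalizer_of_conj_mem [Finite G] {A S : Subgroup G} (hsc : IsStronglyClosed A S) {g : G}
    (h : ∀ a ∈ A, g * a * g⁻¹ ∈ S) : g ∈ Subgroup.normalizer (A : Set G) := by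
  apply mem_normalizer_iff_map_conj.mpr
  apply eq_of_le_of_card_map_conj _ le_rfl
  rintro _ ⟨a, ha, rfl⟩
  exact hsc.2 a ha g (h a ha)

theorem local_good [Finite G] {p : ℕ} [Fact p.Prime] (S : Sylow p G) (A : Subgroup G)
    (hA : IsMulCommutative A) (hsc : IsStronglyClosed A (S : Subgroup G)) (U : Subgroup G)
    (hU : U ≤ (S : Subgroup G))
    (hUi : ¬ p ∣ ((S : Subgroup G) ⊓ Subgroup.normalizer (U : Set G)).relIndex
      (Subgroup.normalizer (U : Set G)))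
    (hbig : ∀ Q' : Subgroup G, Q' ≤ (S : Subgroup G) → Nat.card U < Nat.card Q' → ∀ g' : G,
      Q'.map (MulAut.conj g'⁻¹).toMonoidHom ≤ (S : Subgroup G) → Good A (Q' : Set G) g') :
    ∀ x ∈ Subgroup.normalizer (U : Set G), Good A (U : Set G) x := by
  intro x hx
  have hx' : x⁻¹ ∈ Subgroup.normalizer (U : Set G) := Subgroup.inv_mem _ hx
  by_cases hAU : A ≤ U
  · refine ⟨x, ?_, fun b _ => rfl⟩
    have : x⁻¹ ∈ Subgroup.normalizer (A : Set G) := by
      apply mem_normalizer_of_conj_mem hsc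
      intro a ha
      exact hU ((Subgroup.mem_normalizer_iff.mp hx' a).mp (hAU ha))
    simpa using Subgroup.inv_mem _ this
  · -- `A` is normalized by `S`
    have hAS : ∀ s ∈ (S : Subgroup G), ∀ a ∈ A, s * a * s⁻¹ ∈ A := by
      intro s hs a ha
      exact hsc.2 a ha s (Subgroup.mul_mem _ (Subgroup.mul_mem _ hs (hsc.1 ha)) (Subgroup.inv_mem _ hs))
    -- an element of `N_A(U)` outside `U`
    obtain ⟨a, haA, haN, haU⟩ : ∃ a ∈ A, a ∈ Subgroup.normalizer (U : Set G) ∧ a ∉ U := by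
      let H := prodSub U A (fun u hu a ha => hAS u (hU hu) a ha)
      have hUH : U ≤ H := fun u hu => ⟨u, hu, 1, A.one_mem, by simp⟩
      have hAH : A ≤ H := fun a ha => ⟨1, U.one_mem, a, ha, by simp⟩
      have hHS : H ≤ (S : Subgroup G) := by
        rintro _ ⟨u, hu, a, ha, rfl⟩
        exact Subgroup.mul_mem _ (hU hu) (hsc.1 ha)
      have hlt : U < H := lt_of_le_of_ne hUH (fun he => hAU (he ▸ hAH))
      have hlt2 := lt_inf_normalizer_of_lt (S.2.to_le hHS) hlt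
      obtain ⟨h, hh, hhU⟩ := SetLike.exists_of_lt hlt2
      obtain ⟨⟨u, hu, a, ha, rfl⟩, hhN⟩ := Subgroup.mem_inf.mp hh
      refine ⟨a, ha, ?_, ?_⟩
      · have : a = u⁻¹ * (u * a) := by group
        rw [this]
        exact Subgroup.mul_mem _ (Subgroup.inv_mem _ (Subgroup.le_normalizer hu)) hhN
      · intro haU
        exact hhU (U.mul_mem hu haU)
    set D : Subgroup G := U ⊓ A with hDdef
    have hD : ∀ n ∈ Subgroup.normalizer (U : Set G), ∀ d ∈ D, n * d * n⁻¹ ∈ D := by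
      intro n hn d hd
      have h1 : n * d * n⁻¹ ∈ U := (Subgroup.mem_normalizer_iff.mp hn d).mp hd.1
      exact Subgroup.mem_inf.mpr ⟨h1, hsc.2 d hd.2 n (hU h1)⟩
    have hDp : IsPGroup p D := S.2.to_le (inf_le_left.trans hU)
    obtain ⟨j, hj⟩ := hDp.exists_card_eq
    have hpow : ∀ k ∈ chainStab U D, ∃ j : ℕ, k ^ (p ^ j) ∈ Subgroup.centralizer (U : Set G) := by
      intro k hk
      exact ⟨j, hj ▸ chainStab_pow_card_mem hk⟩
    have haK : a ∈ chainStab U D := by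
      refine ⟨haN, ?_, ?_⟩
      · intro y hy
        refine Subgroup.mem_inf.mpr ⟨?_, ?_⟩
        · have h1 : a⁻¹ * y * a⁻¹⁻¹ ∈ U :=
            (Subgroup.mem_normalizer_iff.mp (Subgroup.inv_mem _ haN) y).mp hy
          have : y⁻¹ * a⁻¹ * y * a = y⁻¹ * (a⁻¹ * y * a⁻¹⁻¹) := by group
          rw [this]
          exact U.mul_mem (U.inv_mem hy) h1
        · have h1 : y⁻¹ * a⁻¹ * y⁻¹⁻¹ ∈ A := hAS _ (Subgroup.inv_mem _ (hU hy)) _ (A.inv_mem haA)
          have : y⁻¹ * a⁻¹ * y * a = (y⁻¹ * a⁻¹ * y⁻¹⁻¹) * a := by group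
          rw [this]
          exact A.mul_mem h1 haA
      · intro d hd
        have := hA.is_comm.comm ⟨a, haA⟩ ⟨d, hd.2⟩
        exact congrArg Subtype.val this
    obtain ⟨c, hc, m, hm, hxcm⟩ := frattini_factor (S := (S : Subgroup G))
      (N := Subgroup.normalizer (U : Set G)) (K := chainStab U D)
      (C := Subgroup.centralizer (U : Set G)) S.2 hUi (centralizer_le_chainStab inf_le_left)
      (chainStab_le_normalizer U D) (normalizer_le_normalizer_chainStab hD)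
      (normalizer_le_normalizer_centralizer' U) hpow x hx
    obtain ⟨hmN, hmT⟩ := Subgroup.mem_inf.mp hm
    set T' : Subgroup G := (S : Subgroup G) ⊓ chainStab U D with hT'
    have hT1S : U ⊔ T' ≤ (S : Subgroup G) := sup_le hU inf_le_left
    have hlt : U < U ⊔ T' := by
      refine lt_of_le_of_ne le_sup_left ?_
      intro he
      apply haU
      rw [he]
      exact (le_sup_right : T' ≤ U ⊔ T') (Subgroup.mem_inf.mpr ⟨hsc.1 haA, haK⟩)
    have hmap : (U ⊔ T').map (MulAut.conj m⁻¹).toMonoidHom = U ⊔ T' := by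
      rw [Subgroup.map_sup, mem_normalizer_iff_map_conj.mp (Subgroup.inv_mem _ hmN),
        mem_normalizer_iff_map_conj.mp (Subgroup.inv_mem _ hmT)]
    obtain ⟨y, hy, hyb⟩ := hbig (U ⊔ T') hT1S (card_lt_card_of_lt hlt) m (hmap.le.trans hT1S)
    refine ⟨y, hy, ?_⟩
    intro b hb
    rw [Subgroup.mem_centralizer_iff] at hc
    have hcb := hc b hb
    rw [← hyb b ((le_sup_left : U ≤ U ⊔ T') hb), hxcm]
    calc (c * m)⁻¹ * b * (c * m) = m⁻¹ * (c⁻¹ * (b * c)) * m := by group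
      _ = m⁻¹ * (c⁻¹ * (c * b)) * m := by rw [hcb]
      _ = m⁻¹ * b * m := by group

theorem main_good [Finite G] {p : ℕ} [Fact p.Prime] (S : Sylow p G) (A : Subgroup G)
    (hA : IsMulCommutative A) (hsc : IsStronglyClosed A (S : Subgroup G)) :
    ∀ Q : Subgroup G, Q ≤ (S : Subgroup G) → ∀ g : G,
      Q.map (MulAut.conj g⁻¹).toMonoidHom ≤ (S : Subgroup G) → Good A (Q : Set G) g := by
  have key : ∀ n : ℕ, ∀ Q : Subgroup G, Q ≤ (S : Subgroup G) →
      Nat.card (S : Subgroup G) - Nat.card Q = n → ∀ g : G,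
      Q.map (MulAut.conj g⁻¹).toMonoidHom ≤ (S : Subgroup G) → Good A (Q : Set G) g := by
    intro n
    induction n using Nat.strong_induction_on with
    | _ n ih =>
      intro Q hQ hn g hg
      have hcQ : Nat.card Q ≤ Nat.card (S : Subgroup G) := Subgroup.card_le_of_le hQ
      have hbig : ∀ Q' : Subgroup G, Q' ≤ (S : Subgroup G) → Nat.card Q < Nat.card Q' → ∀ g' : G,
          Q'.map (MulAut.conj g'⁻¹).toMonoidHom ≤ (S : Subgroup G) → Good A (Q' : Set G) g' := by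
        intro Q' hQ' hlt g' hg'
        have hcQ' : Nat.card Q' ≤ Nat.card (S : Subgroup G) := Subgroup.card_le_of_le hQ'
        exact ih (Nat.card (S : Subgroup G) - Nat.card Q') (by omega) Q' hQ' rfl g' hg'
      apply alperin_step S (Good A) (fun h hB => good_res h hB) (fun h1 h2 => good_trans h1 h2)
        (fun h => good_symm h) Q hQ g hg hbig
      intro U hU hUcard x hx
      apply local_good S A hA hsc U hU.1 hU.2 ?_ x hx
      intro Q' hQ' hlt g' hg'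
      exact hbig Q' hQ' (by omega) g' hg'
  intro Q hQ g hg
  exact key _ Q hQ rfl g hg


/-- Let S be a Sylow p-subgroup of the finite group G and A an abelian subgroup of S that is strongly closed in S with respect to G. Then A controls strong fusion in G: for some Sylow p-subgroup T containing A, whenever a subset of T is conjugated into T by an element of G, the same elementwise conjugation is induced by an element of N_G(A). -/
theorem result {G : Type*} [Group G] [Finite G] {p : ℕ} [Fact p.Prime] (S : Sylow p G) (A : Subgroup G) (hA : IsMulCommutative ↥A) (hsc : Cfsg.IsStronglyClosed A (S : Subgroup G)) : Cfsg.ControlsStrongFusion p A := by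
  refine ⟨S, hsc.1, ?_⟩
  intro B hB
  refine ⟨hB, ?_⟩
  intro g hg
  have hQ : Subgroup.closure B ≤ (S : Subgroup G) := (Subgroup.closure_le _).mpr hB
  have hg' : (Subgroup.closure B).map (MulAut.conj g⁻¹⁻¹).toMonoidHom ≤ (S : Subgroup G) := by
    rw [inv_inv, MonoidHom.map_closure, Subgroup.closure_le]
    rintro _ ⟨b, hb, rfl⟩
    exact hg ⟨b, hb, rfl⟩
  obtain ⟨y, hy, hyb⟩ := main_good S A hA hsc (Subgroup.closure B) hQ g⁻¹ hg'
  refine ⟨y⁻¹, Subgroup.inv_mem _ hy, ?_⟩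
  intro a ha
  have := hyb a (Subgroup.subset_closure ha)
  rw [inv_inv] at this
  rw [this, inv_inv]


end Cfsg.Agent.S2791
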