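import Cfsg.Statements.S3058
import Cfsg.Agent.Lib.H15.SylowGraph
import Cfsg.Agent.Lib.H15.PPrime
import Cfsg.Agent.Lib.H9.CoprimeGeneration
import Cfsg.Agent.Lib.H1.CoprimeAction

set_option autoImplicit false
open Cfsg

namespace Cfsg.Agent.S3058

open Cfsg.Agent.Lib.H15 Cfsg.Agent.Lib.H5

/-- a normal subgroup of order divisible by `p` meets each Sylow `p`-subgroup in an element of order `p`. -/
theorem exists_orderOf_in_sylow {G : Type*} [Group G] [Finite G] (p : ℕ) [hp : Fact p.Prime]
    (N : Subgroup G) [hN : N.Normal] (hdvd : p ∣ Nat.card N) (S : Sylow p G) :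
    ∃ a ∈ (S : Subgroup G), a ∈ N ∧ orderOf a = p := by
  obtain ⟨x, hx⟩ := exists_prime_orderOf_dvd_card' p hdvd
  have hx' : orderOf (x : G) = p := by rw [Subgroup.orderOf_coe]; exact hx
  have hQ : IsPGroup p ↥(Subgroup.zpowers (x : G)) := by
    apply IsPGroup.of_card (n := 1)
    rw [Nat.card_zpowers, hx', pow_one]
  obtain ⟨T, hT⟩ := hQ.exists_le_sylow
  obtain ⟨g, hg⟩ := MulAction.exists_smul_eq G S T
  have hxT : (x : G) ∈ (g • S : Sylow p G) := by rw [hg]; exact hT (Subgroup.mem_zpowers _)
  rw [sylow_mem_smul_iff] at hxT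
  refine ⟨g⁻¹ * (x : G) * g, hxT, ?_, ?_⟩
  · have := hN.conj_mem (x : G) x.2 g⁻¹
    simpa using this
  · have := (MulAut.conj g⁻¹).orderOf_eq (x : G)
    rw [MulAut.conj_apply, inv_inv] at this
    rw [this, hx']

/-- Let p be a prime and G a finite group whose Sylow p-subgroups are not chain-connected through nontrivial intersections (so G has a strongly p-embedded subgroup). If N and M are normal subgroups of G whose orders are both divisible by p, then the order of N ∩ M is divisible by p. Consequently, among the normal subgroups of G whose order is divisible by p there is a smallest one (the intersection of all of them). -/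
theorem result {G : Type*} [Group G] [Finite G]
    (p : ℕ) [Fact p.Prime] (hG : ¬ Cfsg.IsSylowChainConnected p G)
    (N M : Subgroup G) [N.Normal] [M.Normal] (hN : p ∣ Nat.card N) (hM : p ∣ Nat.card M) :
    p ∣ Nat.card ↥(N ⊓ M) := by
  classical
  have hpp : p.Prime := Fact.out
  obtain ⟨H, hse⟩ := not_connected_iff_exists_classicalSE.mp hG
  by_contra hK
  set K := N ⊓ M with hKdef
  have hKn : K.Normal := by rw [hKdef]; infer_instance
  have hKcop : (Nat.card K).Coprime p := by
    rw [Nat.coprime_comm, Nat.Prime.coprime_iff_not_dvd hpp]; exact hK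
  obtain ⟨S, hSH⟩ := hse.exists_sylow_le
  obtain ⟨a, haS, haN, haord⟩ := exists_orderOf_in_sylow p N hN S
  obtain ⟨b, hbS, hbM, hbord⟩ := exists_orderOf_in_sylow p M hM S
  have hKmem : ∀ k ∈ K, k ∈ (S : Subgroup G) → k = 1 := by
    intro k hk hkS
    apply eq_one_of_mem_pgroup_of_coprime S.2 hkS
    have : orderOf k ∣ Nat.card K := by
      have := orderOf_dvd_natCard (⟨k, hk⟩ : K)
      rwa [Subgroup.orderOf_mk] at this
    exact Nat.Coprime.coprime_dvd_left this hKcop
  have hNM : ∀ n ∈ N, ∀ m ∈ M, n * m * n⁻¹ * m⁻¹ ∈ K := by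
    intro n hn m hm
    refine Subgroup.mem_inf.mpr ⟨?_, ?_⟩
    · have : n * m * n⁻¹ * m⁻¹ = n * (m * n⁻¹ * m⁻¹) := by group
      rw [this]
      exact N.mul_mem hn (‹N.Normal›.conj_mem _ (N.inv_mem hn) m)
    · exact M.mul_mem (‹M.Normal›.conj_mem _ hm n) (M.inv_mem hm)
  have hab : a * b = b * a := by
    have h1 : a * b * a⁻¹ * b⁻¹ = 1 :=
      hKmem _ (hNM a haN b hbM)
        (Subgroup.mul_mem _ (Subgroup.mul_mem _ (Subgroup.mul_mem _ haS hbS) (Subgroup.inv_mem _ haS))
          (Subgroup.inv_mem _ hbS))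
    have := congrArg (fun t => t * b * a) h1
    simpa [mul_assoc] using this
  have hap : a ^ p = 1 := by rw [← haord]; exact pow_orderOf_eq_one a
  have hbp : b ^ p = 1 := by rw [← hbord]; exact pow_orderOf_eq_one b
  have hb1 : b ≠ 1 := by
    intro h; rw [h, orderOf_one] at hbord; exact hpp.one_lt.ne hbord
  have ha1 : a ≠ 1 := by
    intro h; rw [h, orderOf_one] at haord; exact hpp.one_lt.ne haord
  -- centralizers of nontrivial elements of S lie in H
  have hcent : ∀ s ∈ (S : Subgroup G), s ≠ 1 → Subgroup.centralizer ({s} : Set G) ≤ H := by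
    intro s hs hs1
    have h1 : Subgroup.centralizer ({s} : Set G) = Subgroup.centralizer ((Subgroup.zpowers s : Subgroup G) : Set G) := by
      rw [Subgroup.zpowers_eq_closure, Subgroup.centralizer_closure]
    rw [h1]
    refine (Subgroup.centralizer_le_normalizer _).trans ?_
    apply hse.normalizer_le
    · rw [Subgroup.zpowers_le]; exact hSH hs
    · exact S.2.to_le (by rw [Subgroup.zpowers_le]; exact hs)
    · rw [Ne, Subgroup.zpowers_eq_bot]; exact hs1
  -- K ≤ H by coprime generation
  have hSK : Cfsg.Agent.Lib.H1.CoprimeAction (S : Subgroup G) K := by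
    refine ⟨?_, ?_, ?_⟩
    · rw [Subgroup.normalizer_eq_top]; exact le_top
    · obtain ⟨n, hn⟩ := IsPGroup.iff_card.mp S.2
      rw [hn]
      exact Nat.Coprime.pow_left n hKcop.symm
    · left
      haveI := S.2.isNilpotent
      infer_instance
  have hKH : K ≤ H := by
    apply Cfsg.Agent.Lib.H9.le_of_centralizers_le hSK hKcop haS hbS hab hap hbp
    · exact inf_le_right.trans (hcent a haS ha1)
    · intro i
      refine inf_le_right.trans (hcent _ (Subgroup.mul_mem _ (Subgroup.pow_mem _ haS i) hbS) ?_)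
      intro h
      have hbN : b ∈ N := by
        have : b = (a ^ i)⁻¹ := eq_inv_of_mul_eq_one_right h
        rw [this]; exact N.inv_mem (N.pow_mem haN i)
      exact hb1 (hKmem b (Subgroup.mem_inf.mpr ⟨hbN, hbM⟩) hbS)
  -- M ≤ H
  have hAK : Cfsg.Agent.Lib.H1.CoprimeAction (Subgroup.zpowers a) K := by
    refine ⟨?_, ?_, ?_⟩
    · rw [Subgroup.normalizer_eq_top]; exact le_top
    · rw [Nat.card_zpowers, haord]; exact hKcop.symm
    · left
      infer_instance
  have hAH : Subgroup.centralizer ((Subgroup.zpowers a : Subgroup G) : Set G) ≤ H := by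
    have h1 : Subgroup.centralizer ({a} : Set G) = Subgroup.centralizer ((Subgroup.zpowers a : Subgroup G) : Set G) := by
      rw [Subgroup.zpowers_eq_closure, Subgroup.centralizer_closure]
    rw [← h1]; exact hcent a haS ha1
  have hMH : M ≤ H := by
    intro m hm
    have hx : ∀ a' ∈ Subgroup.zpowers a, m⁻¹ * a' * m * a'⁻¹ ∈ K := by
      intro a' ha'
      have ha'N : a' ∈ N := by
        have : Subgroup.zpowers a ≤ N := by rw [Subgroup.zpowers_le]; exact haN
        exact this ha'
      have h1 := hNM a' ha'N m⁻¹ (M.inv_mem hm)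
      have h3 := K.inv_mem h1
      have e : (a' * m⁻¹ * a'⁻¹ * m⁻¹⁻¹)⁻¹ = m⁻¹ * a' * m * a'⁻¹ := by group
      rw [e] at h3
      exact h3
    obtain ⟨d, hd, hc⟩ := Cfsg.Agent.Lib.H1.coprime_coset_fixed hAK m hx
    have : m = (m * d) * d⁻¹ := by group
    rw [this]
    exact H.mul_mem (hAH hc) (H.inv_mem (hKH hd))
  obtain ⟨g, hg⟩ : ∃ g : G, g ∉ H := by
    by_contra h
    push Not at h
    exact hse.1 (eq_top_iff.mpr fun x _ => h x)
  apply hse.2.2 g hg
  have h1 : M ≤ H ⊓ cj g H := by
    refine le_inf hMH ?_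
    intro m hm
    rw [mem_cj_iff]
    apply hMH
    have := ‹M.Normal›.conj_mem m hm g⁻¹
    simpa using this
  exact hM.trans (Subgroup.card_dvd_of_le h1)


end Cfsg.Agent.S3058
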