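import Cfsg.Statements.S0779
import Cfsg.Agent.Lib.H4.Herm

set_option autoImplicit false
universe u
open Cfsg

namespace Cfsg.Agent.S0779

open Cfsg.Agent.Lib.H4 in
theorem result {F : Type*} [Field F] [Fintype F] {q : ℕ} (hF : Fintype.card F = q ^ 2) (n : ℕ) (v : Fin n → F) (hv : v ≠ 0) (hv0 : Cfsg.hermForm n F q v v = 0) (c : F) : (∀ x y : Fin n → F, Cfsg.hermForm n F q ((Cfsg.unitaryTransvection n q v c).mulVec x) ((Cfsg.unitaryTransvection n q v c).mulVec y) = Cfsg.hermForm n F q x y) ↔ (c = 0 ∨ c ^ (q - 1) = -1) := by
  have hq0 : q ≠ 0 := by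
    rintro rfl
    simp at hF
  have key : ∀ x y : Fin n → F,
      Cfsg.hermForm n F q ((Cfsg.unitaryTransvection n q v c).mulVec x)
        ((Cfsg.unitaryTransvection n q v c).mulVec y) =
      Cfsg.hermForm n F q x y +
        (c ^ q + c) * (Cfsg.hermForm n F q x v * Cfsg.hermForm n F q v y) := by
    intro x y
    rw [unitaryTransvection_mulVec, unitaryTransvection_mulVec]
    simp only [hermForm_add_left, hermForm_add_right n hF, hermForm_smul_left, hermForm_smul_right,
      hv0, mul_pow, hermForm_conj n hF y v]
    ring
  have hcq : c ^ q = c * c ^ (q - 1) := by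
    rw [← pow_succ']
    congr 1
    omega
  constructor
  · intro h
    -- pick a coordinate where v is nonzero
    obtain ⟨i, hi⟩ : ∃ i, v i ≠ 0 := by
      by_contra hcon
      push Not at hcon
      exact hv (funext hcon)
    have h1 := h (Pi.single i 1) (Pi.single i 1)
    rw [key] at h1
    have hx : Cfsg.hermForm n F q (Pi.single i 1) v = v i ^ q := by
      simp [Cfsg.hermForm, Pi.single_apply]
    have hy : Cfsg.hermForm n F q v (Pi.single i 1) = v i := by
      simp only [Cfsg.hermForm, Pi.single_apply]
      rw [Finset.sum_eq_single i]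
      · simp
      · intro j _ hj
        simp [hj, hq0]
      · simp
    rw [hx, hy] at h1
    have h2 : (c ^ q + c) * (v i ^ q * v i) = 0 := by
      linear_combination h1
    have h3 : v i ^ q * v i ≠ 0 := mul_ne_zero (pow_ne_zero _ hi) hi
    have h4 : c ^ q + c = 0 := by
      rcases mul_eq_zero.mp h2 with h | h
      · exact h
      · exact absurd h h3
    by_cases hc : c = 0
    · left; exact hc
    · right
      rw [hcq] at h4
      have : c * (c ^ (q - 1) + 1) = 0 := by linear_combination h4
      rcases mul_eq_zero.mp this with h | h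
      · exact absurd h hc
      · linear_combination h
  · intro h x y
    rw [key]
    have : c ^ q + c = 0 := by
      rcases h with h | h
      · rw [h, zero_pow hq0, add_zero]
      · rw [hcq, h]; ring
    rw [this, zero_mul, add_zero]

end Cfsg.Agent.S0779
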