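import Cfsg.Statements.S2530

set_option autoImplicit false
open Cfsg

namespace Cfsg.Agent.S2530

open Equiv

/-- the matrix entries of `A n` -/
theorem A_apply (n : ℕ) (i j : Fin n) :
    CoxeterMatrix.A n i j = if i = j then 1
      else (if (j : ℕ) + 1 = i ∨ (i : ℕ) + 1 = j then 3 else 2) := rfl

/-- adjacent transpositions satisfy the Coxeter relations of type `A` -/
theorem swap_liftable (n : ℕ) :
    (CoxeterMatrix.A n).IsLiftable (fun i : Fin n => swap i.castSucc i.succ) := by
  intro i j
  show (swap i.castSucc i.succ * swap j.castSucc j.succ) ^ (CoxeterMatrix.A n i j) = 1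
  rw [A_apply]
  by_cases hij : i = j
  · subst hij
    simp
  · rw [if_neg hij]
    have hne : (i : ℕ) ≠ (j : ℕ) := fun h => hij (Fin.ext h)
    by_cases hadj : (j : ℕ) + 1 = i ∨ (i : ℕ) + 1 = j
    · rw [if_pos hadj]
      rcases hadj with h | h
      · -- i = j + 1 : swap (j+1) (j+2) * swap j (j+1)
        have e1 : i.castSucc = j.succ := by
          apply Fin.ext; simp [← h]
        rw [e1, swap_comm j.castSucc j.succ]
        have h3 : (swap j.succ i.succ * swap j.succ j.castSucc).IsThreeCycle := by
          apply Equiv.Perm.isThreeCycle_swap_mul_swap_same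
          · intro h'; have := congrArg Fin.val h'; simp at this; omega
          · intro h'; have := congrArg Fin.val h'; simp at this
          · intro h'; have := congrArg Fin.val h'; simp at this; omega
        rw [← h3.orderOf]
        exact pow_orderOf_eq_one _
      · have e1 : j.castSucc = i.succ := by
          apply Fin.ext; simp [← h]
        rw [e1, swap_comm i.castSucc i.succ]
        have h3 : (swap i.succ i.castSucc * swap i.succ j.succ).IsThreeCycle := by
          apply Equiv.Perm.isThreeCycle_swap_mul_swap_same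
          · intro h'; have := congrArg Fin.val h'; simp at this
          · intro h'; have := congrArg Fin.val h'; simp at this; omega
          · intro h'; have := congrArg Fin.val h'; simp at this; omega
        rw [← h3.orderOf]
        exact pow_orderOf_eq_one _
    · rw [if_neg hadj]
      push Not at hadj
      have hd : Equiv.Perm.Disjoint (swap i.castSucc i.succ) (swap j.castSucc j.succ) := by
        apply Equiv.Perm.disjoint_swap_swap
        have h1 : i.castSucc ≠ i.succ := by
          intro h'; have := congrArg Fin.val h'; simp at this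
        have h2 : i.castSucc ≠ j.castSucc := by
          intro h'; have := congrArg Fin.val h'; simp at this; omega
        have h3 : i.castSucc ≠ j.succ := by
          intro h'; have := congrArg Fin.val h'; simp at this; omega
        have h4 : i.succ ≠ j.castSucc := by
          intro h'; have := congrArg Fin.val h'; simp at this; omega
        have h5 : i.succ ≠ j.succ := by
          intro h'; have := congrArg Fin.val h'; simp at this; omega
        have h6 : j.castSucc ≠ j.succ := by
          intro h'; have := congrArg Fin.val h'; simp at this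
        simp [h1, h2, h3, h4, h5, h6]
      rw [pow_two, hd.commute.symm.mul_mul_mul_comm]
      simp

section Count
variable (n : ℕ)

/-- the Coxeter system of type `A (n+1)` -/
noncomputable abbrev cs' : CoxeterSystem (CoxeterMatrix.A (n + 1)) (CoxeterMatrix.A (n + 1)).Group :=
  (CoxeterMatrix.A (n + 1)).toCoxeterSystem

/-- generators indexed by `ℕ` -/
noncomputable def r (t : ℕ) : (CoxeterMatrix.A (n + 1)).Group :=
  if h : t < n + 1 then (cs' n).simple ⟨t, h⟩ else 1

theorem r_of_lt {t : ℕ} (h : t < n + 1) : r n t = (cs' n).simple ⟨t, h⟩ := by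
  rw [r, dif_pos h]

theorem r_sq (t : ℕ) : r n t * r n t = 1 := by
  unfold r
  split_ifs with h
  · exact (cs' n).simple_mul_simple_self _
  · exact one_mul 1

theorem r_comm (t t' : ℕ) (h : t + 2 ≤ t') : r n t * r n t' = r n t' * r n t := by
  by_cases ht' : t' < n + 1
  · have ht : t < n + 1 := by omega
    rw [r_of_lt n ht, r_of_lt n ht']
    have h1 := (cs' n).simple_mul_simple_pow ⟨t, ht⟩ ⟨t', ht'⟩
    have hM : CoxeterMatrix.A (n + 1) ⟨t, ht⟩ ⟨t', ht'⟩ = 2 := by
      rw [A_apply]
      have hne : (⟨t, ht⟩ : Fin (n + 1)) ≠ ⟨t', ht'⟩ := by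
        intro h'; have := congrArg Fin.val h'; simp at this; omega
      rw [if_neg hne, if_neg]
      simp only [not_or]
      constructor <;> omega
    rw [hM, pow_two] at h1
    set a := (cs' n).simple ⟨t, ht⟩
    set b := (cs' n).simple ⟨t', ht'⟩
    have ha : a * a = 1 := (cs' n).simple_mul_simple_self _
    have hb : b * b = 1 := (cs' n).simple_mul_simple_self _
    calc a * b = a * b * (a * b * (b * a)) := by
          rw [mul_assoc a b (b * a), ← mul_assoc b b a, hb, one_mul, ha, mul_one]
      _ = (a * b * (a * b)) * (b * a) := by group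
      _ = b * a := by rw [h1, one_mul]
  · unfold r
    rw [dif_neg ht']
    simp

theorem r_braid (t : ℕ) (h : t + 1 < n + 1) :
    r n t * r n (t + 1) * r n t = r n (t + 1) * r n t * r n (t + 1) := by
  have ht : t < n + 1 := by omega
  rw [r_of_lt n ht, r_of_lt n h]
  have h1 := (cs' n).simple_mul_simple_pow ⟨t, ht⟩ ⟨t + 1, h⟩
  have hM : CoxeterMatrix.A (n + 1) ⟨t, ht⟩ ⟨t + 1, h⟩ = 3 := by
    rw [A_apply]
    have hne : (⟨t, ht⟩ : Fin (n + 1)) ≠ ⟨t + 1, h⟩ := by
      intro h'; have := congrArg Fin.val h'; simp at this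
    rw [if_neg hne, if_pos]
    right
    rfl
  rw [hM] at h1
  set a := (cs' n).simple ⟨t, ht⟩
  set b := (cs' n).simple ⟨t + 1, h⟩
  have ha : a * a = 1 := (cs' n).simple_mul_simple_self _
  have hb : b * b = 1 := (cs' n).simple_mul_simple_self _
  have h2 : (a * b * a) * (b * a * b) = 1 := by
    rw [← h1]
    simp only [pow_succ, pow_zero, one_mul]
    group
  have h3 : (b * a * b) * (b * a * b) = 1 := by
    calc (b * a * b) * (b * a * b) = b * a * (b * b) * a * b := by group
      _ = 1 := by rw [hb, mul_one, mul_assoc b a a, ha, mul_one, hb]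
  calc a * b * a = a * b * a * ((b * a * b) * (b * a * b)) := by rw [h3, mul_one]
    _ = ((a * b * a) * (b * a * b)) * (b * a * b) := by group
    _ = b * a * b := by rw [h2, one_mul]

/-- coset representatives -/
noncomputable def v : ℕ → (CoxeterMatrix.A (n + 1)).Group
  | 0 => 1
  | k + 1 => v k * r n k

theorem v_comm (k t : ℕ) (h : k + 1 ≤ t) : v n k * r n t = r n t * v n k := by
  induction k with
  | zero => simp [v]
  | succ k ih =>
    rw [v, mul_assoc, r_comm n k t (by omega), ← mul_assoc, ih (by omega), mul_assoc]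

theorem v_shift (k t : ℕ) (h : t + 2 ≤ k) (hk : k ≤ n + 1) :
    v n k * r n t = r n (t + 1) * v n k := by
  induction k with
  | zero => omega
  | succ k ih =>
    by_cases hk2 : t + 2 ≤ k
    · rw [v, mul_assoc, ← r_comm n t k hk2, ← mul_assoc, ih hk2 (by omega), mul_assoc]
    · have hk3 : k = t + 1 := by omega
      subst hk3
      show v n t * r n t * r n (t + 1) * r n t = r n (t + 1) * (v n t * r n t * r n (t + 1))
      calc v n t * r n t * r n (t + 1) * r n t
          = v n t * (r n t * r n (t + 1) * r n t) := by group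
        _ = v n t * (r n (t + 1) * r n t * r n (t + 1)) := by rw [r_braid n t (by omega)]
        _ = (v n t * r n (t + 1)) * r n t * r n (t + 1) := by group
        _ = (r n (t + 1) * v n t) * r n t * r n (t + 1) := by rw [v_comm n t (t + 1) le_rfl]
        _ = r n (t + 1) * (v n t * r n t * r n (t + 1)) := by group

/-- the Coxeter system of type `A n` -/
noncomputable abbrev cs0 : CoxeterSystem (CoxeterMatrix.A n) (CoxeterMatrix.A n).Group :=
  (CoxeterMatrix.A n).toCoxeterSystem

theorem succ_liftable :
    (CoxeterMatrix.A n).IsLiftable (fun i : Fin n => (cs' n).simple i.succ) := by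
  intro i j
  show ((cs' n).simple i.succ * (cs' n).simple j.succ) ^ (CoxeterMatrix.A n i j) = 1
  have h1 := (cs' n).simple_mul_simple_pow i.succ j.succ
  have hM : CoxeterMatrix.A (n + 1) i.succ j.succ = CoxeterMatrix.A n i j := by
    rw [A_apply, A_apply]
    simp only [Fin.succ_inj, Fin.val_succ, add_left_inj]
  rw [hM] at h1
  exact h1

/-- the embedding of the smaller Coxeter group -/
noncomputable def iota : (CoxeterMatrix.A n).Group →* (CoxeterMatrix.A (n + 1)).Group :=
  (cs0 n).lift ⟨fun i : Fin n => (cs' n).simple i.succ, succ_liftable n⟩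

theorem iota_simple (i : Fin n) : iota n ((cs0 n).simple i) = (cs' n).simple i.succ :=
  (cs0 n).lift_apply_simple (succ_liftable n) i

theorem r_mem_range (t : ℕ) (h1 : 1 ≤ t) (h2 : t < n + 1) : ∃ x, iota n x = r n t := by
  refine ⟨(cs0 n).simple ⟨t - 1, by omega⟩, ?_⟩
  rw [iota_simple, r_of_lt n h2]
  congr 1
  apply Fin.ext
  simp
  omega

theorem exists_rep (w : (CoxeterMatrix.A (n + 1)).Group) :
    ∃ k, k ≤ n + 1 ∧ ∃ x, w = iota n x * v n k := by
  refine (cs' n).simple_induction_right
    (p := fun w => ∃ k, k ≤ n + 1 ∧ ∃ x, w = iota n x * v n k) w ⟨0, by omega, 1, by simp [v]⟩ ?_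
  rintro w i ⟨k, hk, x, rfl⟩
  have hi : (cs' n).simple i = r n (i : ℕ) := by
    rw [r_of_lt n i.2]
  rw [hi]
  rcases lt_trichotomy (i : ℕ) k with hlt | heq | hgt
  · by_cases h1 : (i : ℕ) + 1 = k
    · -- cancel
      refine ⟨(i : ℕ), by omega, x, ?_⟩
      rw [← h1]
      show iota n x * (v n i * r n i) * r n i = iota n x * v n i
      rw [mul_assoc, mul_assoc, r_sq, mul_one]
    · obtain ⟨y, hy⟩ := r_mem_range n ((i : ℕ) + 1) (by omega) (by omega)
      refine ⟨k, hk, x * y, ?_⟩
      rw [mul_assoc, v_shift n k i (by omega) hk, map_mul, hy, mul_assoc]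
  · refine ⟨k + 1, by omega, x, ?_⟩
    rw [heq, mul_assoc]
    rfl
  · obtain ⟨y, hy⟩ := r_mem_range n (i : ℕ) (by omega) i.2
    refine ⟨k, hk, x * y, ?_⟩
    rw [mul_assoc, v_comm n k i (by omega), map_mul, hy, mul_assoc]

end Count

theorem finite_and_card (n : ℕ) :
    Finite (CoxeterMatrix.A n).Group ∧ Nat.card (CoxeterMatrix.A n).Group ≤ (n + 1).factorial := by
  induction n with
  | zero =>
    have hsub : Subsingleton (CoxeterMatrix.A 0).Group := by
      constructor
      intro a b
      have h : ∀ w : (CoxeterMatrix.A 0).Group, w = 1 := by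
        intro w
        exact (cs0 0).simple_induction (p := fun w => w = 1) w (fun i => i.elim0) rfl
          (fun w w' hw hw' => by rw [hw, hw', one_mul])
      rw [h a, h b]
    refine ⟨inferInstance, ?_⟩
    rw [Nat.card_unique]
    simp
  | succ n ih =>
    obtain ⟨hfin, hcard⟩ := ih
    let Φ : (CoxeterMatrix.A n).Group × Fin (n + 2) → (CoxeterMatrix.A (n + 1)).Group :=
      fun p => iota n p.1 * v n p.2
    have hΦ : Function.Surjective Φ := by
      intro w
      obtain ⟨k, hk, x, rfl⟩ := exists_rep n w
      exact ⟨(x, ⟨k, by omega⟩), rfl⟩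
    refine ⟨Finite.of_surjective Φ hΦ, ?_⟩
    calc Nat.card (CoxeterMatrix.A (n + 1)).Group
        ≤ Nat.card ((CoxeterMatrix.A n).Group × Fin (n + 2)) := Nat.card_le_card_of_surjective Φ hΦ
      _ = Nat.card (CoxeterMatrix.A n).Group * (n + 2) := by
          rw [Nat.card_prod, Nat.card_eq_fintype_card (α := Fin (n + 2)), Fintype.card_fin]
      _ ≤ (n + 1).factorial * (n + 2) := Nat.mul_le_mul_right _ hcard
      _ = (n + 1 + 1).factorial := by
          rw [Nat.factorial_succ (n + 1)]
          ring

/-- the canonical map onto the symmetric group -/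
noncomputable def piHom (n : ℕ) : (CoxeterMatrix.A n).Group →* Equiv.Perm (Fin (n + 1)) :=
  (cs0 n).lift ⟨fun i : Fin n => swap i.castSucc i.succ, swap_liftable n⟩

theorem piHom_simple (n : ℕ) (i : Fin n) :
    piHom n ((cs0 n).simple i) = swap i.castSucc i.succ :=
  (cs0 n).lift_apply_simple (swap_liftable n) i

theorem piHom_surjective (n : ℕ) : Function.Surjective (piHom n) := by
  rw [← MonoidHom.mrange_eq_top, eq_top_iff, ← Equiv.Perm.mclosure_swap_castSucc_succ n,
    Submonoid.closure_le]
  rintro _ ⟨i, rfl⟩
  exact ⟨(cs0 n).simple i, piHom_simple n i⟩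

theorem piHom_bijective (n : ℕ) : Function.Bijective (piHom n) := by
  obtain ⟨hfin, hcard⟩ := finite_and_card n
  apply (piHom_surjective n).bijective_of_nat_card_le
  rw [Nat.card_eq_fintype_card (α := Equiv.Perm (Fin (n + 1))), Fintype.card_perm, Fintype.card_fin]
  exact hcard

/-- The symmetric group is a Coxeter group of type A. -/
theorem result (n : ℕ) :
    ∃ cs : CoxeterSystem (CoxeterMatrix.A n) (Equiv.Perm (Fin (n + 1))), ∀ i : Fin n, cs.simple i = Equiv.swap i.castSucc i.succ := by
  refine ⟨⟨(MulEquiv.ofBijective (piHom n) (piHom_bijective n)).symm⟩, ?_⟩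
  intro i
  show (MulEquiv.ofBijective (piHom n) (piHom_bijective n)).symm.symm (PresentedGroup.of i) = _
  rw [MulEquiv.symm_symm]
  exact piHom_simple n i

end Cfsg.Agent.S2530
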