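import Mathlib
import Cfsg.Statements.S0805
import Cfsg.Agent.Lib.H5.PSL2SubfieldPGL

set_option autoImplicit false
open Cfsg

namespace Cfsg.Agent.S0805

open Cfsg.Agent.Lib.H12 Cfsg.Agent.Lib.H5.PSL2Subfield Cfsg.Agent.Lib.H5.PSL2Klein

section

variable {F K : Type*} [Field F] [Fintype F] [Field K] [Fintype K]

theorem card_K_odd (hodd : Odd (Fintype.card F)) (m : ℕ) (hK : Fintype.card K ^ m = Fintype.card F) :
    Odd (Fintype.card K) := by
  rw [← hK] at hodd
  by_contra h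
  rw [Nat.not_odd_iff_even] at h
  have hm0 : m ≠ 0 := by
    rintro rfl
    rw [pow_zero] at hK
    have := Fintype.one_lt_card (α := F)
    omega
  have : Even (Fintype.card K ^ m) := h.pow_of_ne_zero hm0
  exact (Nat.not_odd_iff_even.mpr this) hodd

/-- for `m` even every element of `K` is a square in `F` -/
theorem exists_sqrt (ι : K →+* F) (hodd : Odd (Fintype.card F)) (m : ℕ) (hm : Even m)
    (hK : Fintype.card K ^ m = Fintype.card F) (d : Kˣ) : ∃ u : Fˣ, (u : F) ^ 2 = ι d := by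
  have hkodd := card_K_odd hodd m hK
  obtain ⟨j, rfl⟩ := hm
  have h2 : (2 : F) ≠ 0 := two_ne_zero_of_odd hodd
  have hchar : ringChar F ≠ 2 := ringChar_ne_two_of_odd hodd
  have ha : ι (d : K) ≠ 0 := (map_ne_zero ι).mpr d.ne_zero
  -- `q / 2 = (k - 1) * t`
  obtain ⟨t, ht⟩ : ∃ t, Fintype.card F / 2 = (Fintype.card K - 1) * t := by
    obtain ⟨r, hr⟩ : ∃ r, r = Fintype.card K ^ j := ⟨_, rfl⟩
    have hq : Fintype.card F = r * r := by rw [← hK, pow_add, hr]
    have hrodd : Odd r := by rw [hr]; exact hkodd.pow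
    obtain ⟨c, hc⟩ := hrodd
    obtain ⟨s, hs⟩ : Fintype.card K - 1 ∣ r - 1 := by
      have := Nat.sub_dvd_pow_sub_pow (Fintype.card K) 1 j
      rwa [one_pow, ← hr] at this
    refine ⟨s * (c + 1), ?_⟩
    have h1 : r - 1 = 2 * c := by omega
    have h3 : r * r = (r - 1) * (r + 1) + 1 := by
      have : 1 ≤ r := by omega
      obtain ⟨y, rfl⟩ : ∃ y, r = y + 1 := ⟨r - 1, by omega⟩
      simp only [Nat.add_sub_cancel]; ring
    rw [hq, h3, hs]
    have h4 : r + 1 = 2 * (c + 1) := by omega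
    rw [h4]
    have : (Fintype.card K - 1) * s * (2 * (c + 1)) + 1 =
        2 * ((Fintype.card K - 1) * (s * (c + 1))) + 1 := by ring
    rw [this]
    omega
  have hsq : IsSquare (ι (d : K)) := by
    rw [FiniteField.isSquare_iff hchar ha, ht, pow_mul, ← map_pow,
      FiniteField.pow_card_sub_one_eq_one (d : K) d.ne_zero, map_one, one_pow]
  obtain ⟨u, hu⟩ := hsq
  have hu0 : u ≠ 0 := by
    rintro rfl
    rw [mul_zero] at hu
    exact ha hu
  exact ⟨Units.mk0 u hu0, by rw [Units.val_mk0, pow_two, hu]⟩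

theorem not_PGL_of_odd (hodd : Odd (Fintype.card F)) (m : ℕ) (hm : Odd m)
    (hK : Fintype.card K ^ m = Fintype.card F)
    (H : Subgroup (Matrix.ProjectiveSpecialLinearGroup (Fin 2) F))
    (e : H ≃* Matrix.ProjGenLinGroup (Fin 2) K) : False := by
  have hkodd := card_K_odd hodd m hK
  have h2 : (2 : F) ≠ 0 := two_ne_zero_of_odd hodd
  obtain ⟨k, hk⟩ : ∃ k, k = Fintype.card K := ⟨_, rfl⟩
  obtain ⟨q, hq⟩ : ∃ q, q = Fintype.card F := ⟨_, rfl⟩
  rw [← hk, ← hq] at hK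
  rw [← hk] at hkodd
  rw [← hq] at hodd
  have hH : Nat.card H = k * (k ^ 2 - 1) := by
    rw [Nat.card_congr e.toEquiv, card_PGL, hk]
  have h1 : k * (k ^ 2 - 1) ∣ Nat.card (Matrix.ProjectiveSpecialLinearGroup (Fin 2) F) :=
    hH ▸ Subgroup.card_subgroup_dvd_card H
  have h3 := card_sl2_eq_two_mul (F := F) h2
  rw [card_SL2, ← hq] at h3
  obtain ⟨c, hc⟩ := h1
  rw [hc] at h3
  -- q * (q^2 - 1) = 2 * (k * (k^2-1) * c)
  obtain ⟨j, hj⟩ := hm
  obtain ⟨S, hS, hfac⟩ := exists_odd_factor (k ^ 2) hkodd.pow j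
  have hq2 : q ^ 2 = (k ^ 2) ^ (2 * j + 1) := by
    rw [← hK, hj, ← pow_mul, ← pow_mul]; congr 1; ring
  rw [hq2, hfac] at h3
  have hk2 : 0 < k ^ 2 - 1 := by
    have : 2 ≤ k := by rw [hk]; exact Fintype.one_lt_card
    have : 4 ≤ k ^ 2 := by nlinarith
    omega
  have h5 : q * S = 2 * (k * c) := by
    have : (k ^ 2 - 1) * (q * S) = (k ^ 2 - 1) * (2 * (k * c)) := by
      rw [← mul_assoc, mul_comm (k ^ 2 - 1) q, mul_assoc, h3]; ring
    exact Nat.eq_of_mul_eq_mul_left hk2 this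
  have h6 : Odd (q * S) := hodd.mul hS
  rw [h5] at h6
  exact (Nat.not_odd_iff_even.mpr (even_two_mul _)) h6

end

/-- Subfield subgroups: let F be a finite field of odd order q and K a finite field with |K|^m = q, m ≥ 1. Then PSL_2(F) has a subgroup isomorphic to PSL_2(K), and has a subgroup isomorphic to PGL_2(K) if and only if m is even. -/
theorem result {F K : Type*} [Field F] [Fintype F] [Field K] [Fintype K] {q : ℕ} (hF : Fintype.card F = q) (hodd : Odd q) (m : ℕ) (hm : 1 ≤ m) (hK : Fintype.card K ^ m = q) : (∃ H : Subgroup (Matrix.ProjectiveSpecialLinearGroup (Fin 2) F), Nonempty (H ≃* Matrix.ProjectiveSpecialLinearGroup (Fin 2) K)) ∧ ((∃ H : Subgroup (Matrix.ProjectiveSpecialLinearGroup (Fin 2) F), Nonempty (H ≃* Matrix.ProjGenLinGroup (Fin 2) K)) ↔ Even m) := by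
  subst hF
  obtain ⟨ι⟩ := exists_ringHom (F := F) (K := K) m hK
  refine ⟨exists_PSL ι, ?_, ?_⟩
  · rintro ⟨H, ⟨e⟩⟩
    rw [← Nat.not_odd_iff_even]
    intro hmo
    exact not_PGL_of_odd hodd m hmo hK H e
  · intro hme
    exact exists_PGL ι (exists_sqrt ι hodd m hme hK)

end Cfsg.Agent.S0805
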