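import Cfsg.Statements.S1446
import Cfsg.Agent.Lib.H7.FrobNil3
import Cfsg.Agent.Lib.H7.CoprimeFactor

set_option autoImplicit false
open Cfsg
open Subgroup
set_option linter.style.haveILetI false

namespace Cfsg.Agent.S1446

/-- the Frobenius action data for a nontrivial subgroup `E` of `R` -/
theorem frobAct_of_le {X : Type*} [Group X] [Finite X] (K R M E : Subgroup X) (hK1 : K ≠ ⊥)
    (hKR : K ⊓ R = ⊥)
    (hRK : R ≤ Subgroup.normalizer (K : Set X))
    (hfrob : ∀ r ∈ R, r ≠ 1 → K ⊓ Subgroup.centralizer ({r} : Set X) = ⊥)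
    (hMn : Group.IsNilpotent M) (hKM : K ≤ Subgroup.normalizer (M : Set X))
    (hRM : R ≤ Subgroup.normalizer (M : Set X))
    (hcop : (Nat.card ↥(K ⊔ R)).Coprime (Nat.card M)) (hE : E ≤ R) (hE1 : E ≠ ⊥) :
    Cfsg.Agent.Lib.H8.FrobAct K E M := by
  have hKE : K ⊔ E ≤ K ⊔ R := sup_le_sup_left hE K
  have hnorm : K ⊔ R ≤ Subgroup.normalizer (M : Set X) := sup_le hKM hRM
  have hdisj : M ⊓ (K ⊔ R) = ⊥ := by
    rw [← disjoint_iff]
    exact Subgroup.disjoint_of_coprime_natCard hcop.symm
  refine ⟨hK1, hE1, ?_, ?_, ?_, ?_, ?_, ?_, ?_⟩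
  · rw [eq_bot_iff, ← hKR]
    exact inf_le_inf_left K hE
  · intro e he u hu
    exact (Subgroup.mem_normalizer_iff.mp (hRK (hE he)) u).mp hu
  · intro e he he1 u hu hc
    have h1 : u ∈ K ⊓ Subgroup.centralizer ({e} : Set X) := by
      refine Subgroup.mem_inf.mpr ⟨hu, ?_⟩
      rw [Subgroup.mem_centralizer_iff]
      intro y hy
      rw [Set.mem_singleton_iff] at hy
      rw [hy]
      exact hc
    rw [hfrob e (hE he) he1, Subgroup.mem_bot] at h1
    exact h1
  · intro x hx h hh
    exact (Subgroup.mem_normalizer_iff.mp (hnorm (hKE hx)) h).mp hh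
  · rw [eq_bot_iff, ← hdisj]
    exact inf_le_inf_left M hKE
  · infer_instance
  · exact (Nat.Coprime.coprime_dvd_left (Subgroup.card_dvd_of_le hKE) hcop).symm


/-- Let X be a finite group with subgroups K, R, M such that: K and R are nontrivial, K ∩ R = 1, R normalizes K, no non-identity element of R centralizes a non-identity element of K, K ⊔ R is solvable of odd order; M is nilpotent and nontrivial, normalized by K and by R, with order coprime to that of K ⊔ R, M ∩ C(K) = 1, and M ∩ C(x) = M ∩ C(R) for all non-identity x ∈ R. Then R has prime order p, #M = #(M ∩ C(R)) ^ p, and if M ∩ C(R) is cyclic then [K, K] centralizes M. -/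
theorem result {X : Type*} [Group X] [Finite X] (K R M : Subgroup X) (hK1 : K ≠ ⊥) (hR1 : R ≠ ⊥) (hKR : K ⊓ R = ⊥)
    (hRK : R ≤ Subgroup.normalizer (K : Set X)) (hfrob : ∀ r ∈ R, r ≠ 1 → K ⊓ Subgroup.centralizer ({r} : Set X) = ⊥)
    (hsolv : Group.IsSolvable ↥(K ⊔ R)) (hodd : Odd (Nat.card ↥(K ⊔ R)))
    (hM1 : M ≠ ⊥) (hMn : Group.IsNilpotent M) (hKM : K ≤ Subgroup.normalizer (M : Set X)) (hRM : R ≤ Subgroup.normalizer (M : Set X))
    (hcop : (Nat.card ↥(K ⊔ R)).Coprime (Nat.card M)) (hCK : M ⊓ Subgroup.centralizer (K : Set X) = ⊥)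
    (hpr : ∀ x ∈ R, x ≠ 1 → M ⊓ Subgroup.centralizer ({x} : Set X) = M ⊓ Subgroup.centralizer (R : Set X)) :
    (Nat.card R).Prime ∧ Nat.card M = Nat.card ↥(M ⊓ Subgroup.centralizer (R : Set X)) ^ Nat.card R ∧
      (IsCyclic ↥(M ⊓ Subgroup.centralizer (R : Set X)) → ⁅K, K⁆ ≤ Subgroup.centralizer (M : Set X)) := by
  classical
  -- an element of prime order in `R`
  have hRcard : Nat.card R ≠ 1 := fun h => hR1 (Subgroup.card_eq_one.mp h)
  obtain ⟨r, hr, hrdvd⟩ := Nat.exists_prime_and_dvd hRcard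
  haveI : Fact r.Prime := ⟨hr⟩
  obtain ⟨x₀, hx₀⟩ := exists_prime_orderOf_dvd_card' (G := ↥R) r hrdvd
  set x : X := (x₀ : X) with hx
  have hxR : x ∈ R := x₀.2
  have hxord : orderOf x = r := by rw [hx, Subgroup.orderOf_coe]; exact hx₀
  have hx1 : x ≠ 1 := by
    intro h
    rw [h, orderOf_one] at hxord
    exact hr.one_lt.ne hxord
  have hEle : zpowers x ≤ R := zpowers_le.mpr hxR
  have hE1 : zpowers x ≠ ⊥ := by
    rw [Ne, zpowers_eq_bot]
    exact hx1
  -- the two counting formulas
  have hf1 := Cfsg.Agent.Lib.H7.FrobNil.card_eq_pow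
    (frobAct_of_le K R M (zpowers x) hK1 hKR hRK hfrob hMn hKM hRM hcop hEle hE1) hCK
  have hf2 := Cfsg.Agent.Lib.H7.FrobNil.card_eq_pow
    (frobAct_of_le K R M R hK1 hKR hRK hfrob hMn hKM hRM hcop le_rfl hR1) hCK
  have hcx : M ⊓ centralizer ((zpowers x : Subgroup X) : Set X) = M ⊓ centralizer (R : Set X) := by
    rw [← Cfsg.Agent.Lib.H7.centralizer_singleton_eq_centralizer_zpowers]
    exact hpr x hxR hx1
  rw [hcx, Nat.card_zpowers, hxord] at hf1
  set c := Nat.card ↥(M ⊓ centralizer (R : Set X)) with hc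
  have hMcard : 1 < Nat.card M := by
    have h1 : Nat.card M ≠ 1 := fun h => hM1 (Subgroup.card_eq_one.mp h)
    have h2 : 0 < Nat.card M := Nat.card_pos
    omega
  have hc2 : 2 ≤ c := by
    by_contra hlt
    have : c = 0 ∨ c = 1 := by omega
    rcases this with h0 | h1
    · have : 0 < c := Nat.card_pos
      omega
    · rw [h1, one_pow] at hf1
      omega
  have hRr : Nat.card R = r := by
    have : c ^ r = c ^ Nat.card R := by rw [← hf1, ← hf2]
    exact (Nat.pow_right_injective hc2 this).symm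
  refine ⟨hRr ▸ hr, hf2, ?_⟩
  intro hcyc
  -- `R = ⟨x⟩`
  have hRx : zpowers x = R := by
    apply Subgroup.eq_of_le_of_card_ge hEle
    rw [Nat.card_zpowers, hxord, hRr]
  have hxK : x ∈ normalizer (K : Set X) := hRK hxR
  have hfpf : ∀ j, 0 < j → j < r → ∀ k ∈ K, x ^ j * k = k * x ^ j → k = 1 := by
    intro j hj0 hjr k hk hcomm
    have hxj : x ^ j ≠ 1 := by
      intro h
      have := orderOf_dvd_of_pow_eq_one h
      rw [hxord] at this
      exact absurd (Nat.le_of_dvd hj0 this) (by omega)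
    have h1 : k ∈ K ⊓ Subgroup.centralizer ({x ^ j} : Set X) := by
      refine Subgroup.mem_inf.mpr ⟨hk, ?_⟩
      rw [Subgroup.mem_centralizer_iff]
      intro y hy
      rw [Set.mem_singleton_iff] at hy
      rw [hy]
      exact hcomm
    rw [hfrob (x ^ j) (R.pow_mem hxR j) hxj, Subgroup.mem_bot] at h1
    exact h1
  -- Sylow subgroups of `M`
  have hnc : NormalizerCondition ↥M := Group.normalizerCondition_of_isNilpotent
  set B : Subgroup X := ⁅K, K⁆ with hB
  set D : Subgroup X := M ⊓ centralizer (B : Set X) with hD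
  have hQD : ∀ (q : ℕ) [Fact q.Prime], q ∣ Nat.card M → ∀ P : Sylow q ↥M,
      (P : Subgroup ↥M).map M.subtype ≤ D := by
    intro q _ hqM P
    set Q : Subgroup X := (P : Subgroup ↥M).map M.subtype with hQ
    have hQM : Q ≤ M := Subgroup.map_subtype_le _
    have hPn : (P : Subgroup ↥M).Normal := Sylow.normal_of_normalizerCondition hnc P
    have hPc : (P : Subgroup ↥M).Characteristic := Sylow.characteristic_of_normal P hPn
    have hNQ : normalizer (M : Set X) ≤ normalizer (Q : Set X) :=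
      Cfsg.Agent.Lib.H1.normalizer_le_normalizer_map_of_characteristic (P : Subgroup ↥M)
    have hQp : IsPGroup q Q := P.isPGroup'.map _
    have hcopq : ¬ q ∣ Nat.card ↥(K ⊔ zpowers x) := by
      intro hdvd
      rw [hRx] at hdvd
      have := Nat.Coprime.eq_one_of_dvd (Nat.Coprime.coprime_dvd_left hdvd hcop) hqM
      exact (Fact.out : q.Prime).one_lt.ne this.symm
    have hcycQ : IsCyclic ↥(Q ⊓ centralizer ({x} : Set X)) := by
      have hle : Q ⊓ centralizer ({x} : Set X) ≤ M ⊓ centralizer (R : Set X) := by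
        rw [← hpr x hxR hx1]
        exact inf_le_inf_right _ hQM
      exact isCyclic_of_injective (Subgroup.inclusion hle) (Subgroup.inclusion_injective hle)
    have hcen := Cfsg.Agent.Lib.H7.FrobNil.commutator_le_centralizer_of_isCyclic (q := q) hr hQp
      hxord hxK (hKM.trans hNQ) (hNQ (hRM hxR)) hfpf hcopq hcycQ
    intro v hv
    refine Subgroup.mem_inf.mpr ⟨hQM hv, ?_⟩
    rw [Subgroup.mem_centralizer_iff]
    intro b hb
    have := Subgroup.mem_centralizer_iff.mp (hcen hb) v hv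
    exact this.symm
  -- `D = M`
  have hDM : D ≤ M := inf_le_left
  have hdvd : Nat.card M ∣ Nat.card D := by
    have hM0 : Nat.card M ≠ 0 := Nat.card_pos.ne'
    have hD0 : Nat.card D ≠ 0 := Nat.card_pos.ne'
    rw [← Nat.factorization_le_iff_dvd hM0 hD0]
    intro q
    by_cases hq : q.Prime
    · haveI : Fact q.Prime := ⟨hq⟩
      by_cases hqM : q ∣ Nat.card M
      · let P : Sylow q ↥M := default
        have h1 := hQD q hqM P
        have h2 : Nat.card ((P : Subgroup ↥M).map M.subtype) ∣ Nat.card D :=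
          Subgroup.card_dvd_of_le h1
        rw [Subgroup.card_map_of_injective M.subtype_injective, Sylow.card_eq_multiplicity] at h2
        exact (hq.pow_dvd_iff_le_factorization hD0).mp h2
      · rw [Nat.factorization_eq_zero_of_not_dvd hqM]
        exact Nat.zero_le _
    · rw [Nat.factorization_eq_zero_of_not_prime _ hq]
      exact Nat.zero_le _
  have hDeq : D = M := Subgroup.eq_of_le_of_card_ge hDM (Nat.le_of_dvd Nat.card_pos hdvd)
  intro b hb
  rw [Subgroup.mem_centralizer_iff]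
  intro m hm
  have hmD : m ∈ D := by rw [hDeq]; exact hm
  have := Subgroup.mem_centralizer_iff.mp (Subgroup.mem_inf.mp hmD).2 b hb
  exact this.symm

end Cfsg.Agent.S1446
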