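import Cfsg.Statements.S1366
import Cfsg.Agent.Lib.H7.BG1366c
import Cfsg.Agent.Lib.H20.BGQ3
import Cfsg.Agent.S1367

set_option autoImplicit false
open Cfsg

namespace Cfsg.Agent.S1366

/-- Let G be a minimal simple group of odd order, M a maximal subgroup with standard factorisation M = K U M_σ, K ≠ 1, and K* = M_σ ∩ C_G(K). Then there is exactly one maximal subgroup M* of G such that K = M*_σ ∩ C_G(K*) and K* is a Hall κ(M*)-subgroup of M* (in particular κ(M*) is nonempty). -/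
theorem result {G : Type*} [Group G] [Finite G] (hG : Cfsg.IsMinSimpleOddOrder G)
    (M : Subgroup G) (hM : IsCoatom M) (K U : Subgroup G) (hKU : Cfsg.IsSigmaDecomposition M K U) (hK1 : K ≠ ⊥) :
    ∃! Mstar : Subgroup G, IsCoatom Mstar ∧ K = Cfsg.sigmaCore Mstar ⊓ Subgroup.centralizer ((Cfsg.sigmaCore M ⊓ Subgroup.centralizer (K : Set G)) : Set G) ∧
        Cfsg.IsPiHallOf (Cfsg.kappa Mstar) (Cfsg.sigmaCore M ⊓ Subgroup.centralizer (K : Set G)) Mstar := by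
  have hcov : Cfsg.Agent.Lib.H7.BG1366.HypCover G := fun b b' hne hcover =>
    Cfsg.Agent.Lib.H20.BGQ.false_of_cover hG b b' hne hcover
  obtain ⟨Ms, hMs, hKst, hKstH⟩ := Cfsg.Agent.Lib.H7.BG1366.exists_star hG hcov hM hKU hK1
  refine ⟨Ms, ⟨hMs, hKst, hKstH⟩, ?_⟩
  rintro Ms' ⟨hMs', hKst', hKstH'⟩
  obtain ⟨p, hp, Y, hYK, hYc⟩ := Cfsg.Agent.Lib.H7.BG14u.exists_le_card_prime hK1
  have hYp : (Nat.card Y).Prime := by rw [hYc]; exact hp
  have h1 := (Cfsg.Agent.S1367.result hG M hM K U hKU hK1 Ms hMs hKst hKstH).2 Y hYK hYp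
  have h2 := (Cfsg.Agent.S1367.result hG M hM K U hKU hK1 Ms' hMs' hKst' hKstH').2 Y hYK hYp
  exact h1.2 Ms' hMs' h2.1

end Cfsg.Agent.S1366
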