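import Cfsg.Statements.S3362
-- import your own Cfsg.Agent.* helpers here
import Cfsg.Agent.Lib.H3.SchreierSims3
import Mathlib

set_option autoImplicit false
open Cfsg

namespace Cfsg.Agent.S3362

open Cfsg.Agent.Lib.H3.SS

def gs : Equiv.Perm (Fin 12) := Equiv.swap (3 : Fin 12) 5 * Equiv.swap (3 : Fin 12) 4 * Equiv.swap (6 : Fin 12) 8 * Equiv.swap (6 : Fin 12) 7 * Equiv.swap (9 : Fin 12) 11 * Equiv.swap (9 : Fin 12) 10
def gt : Equiv.Perm (Fin 12) := Equiv.swap (3 : Fin 12) 9 * Equiv.swap (3 : Fin 12) 6 * Equiv.swap (4 : Fin 12) 10 * Equiv.swap (4 : Fin 12) 7 * Equiv.swap (5 : Fin 12) 11 * Equiv.swap (5 : Fin 12) 8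
def gu : Equiv.Perm (Fin 12) := Equiv.swap (4 : Fin 12) 9 * Equiv.swap (4 : Fin 12) 5 * Equiv.swap (4 : Fin 12) 6 * Equiv.swap (7 : Fin 12) 10 * Equiv.swap (7 : Fin 12) 11 * Equiv.swap (7 : Fin 12) 8
def gv : Equiv.Perm (Fin 12) := Equiv.swap (4 : Fin 12) 11 * Equiv.swap (4 : Fin 12) 5 * Equiv.swap (4 : Fin 12) 7 * Equiv.swap (6 : Fin 12) 8 * Equiv.swap (6 : Fin 12) 9 * Equiv.swap (6 : Fin 12) 10
def gw : Equiv.Perm (Fin 12) := Equiv.swap (4 : Fin 12) 8 * Equiv.swap (4 : Fin 12) 5 * Equiv.swap (4 : Fin 12) 10 * Equiv.swap (6 : Fin 12) 7 * Equiv.swap (6 : Fin 12) 9 * Equiv.swap (6 : Fin 12) 11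
def gx1 : Equiv.Perm (Fin 12) := Equiv.swap (0 : Fin 12) 3 * Equiv.swap (6 : Fin 12) 7 * Equiv.swap (8 : Fin 12) 10 * Equiv.swap (9 : Fin 12) 11
def gx2 : Equiv.Perm (Fin 12) := Equiv.swap (0 : Fin 12) 1 * Equiv.swap (6 : Fin 12) 9 * Equiv.swap (7 : Fin 12) 10 * Equiv.swap (8 : Fin 12) 11
def gx3 : Equiv.Perm (Fin 12) := Equiv.swap (1 : Fin 12) 2 * Equiv.swap (6 : Fin 12) 11 * Equiv.swap (7 : Fin 12) 9 * Equiv.swap (8 : Fin 12) 10

def G0 : List (Equiv.Perm (Fin 12)) := [gs, gt, gu, gv, gw, gx1, gx2, gx3]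

def tabs : List (List ℕ) := [[0, 1, 2, 4, 5, 3, 7, 8, 6, 10, 11, 9], [0, 1, 2, 6, 7, 8, 9, 10, 11, 3, 4, 5], [0, 1, 2, 3, 6, 9, 5, 8, 11, 4, 7, 10], [0, 1, 2, 3, 7, 11, 10, 5, 6, 8, 9, 4], [0, 1, 2, 3, 10, 8, 11, 6, 4, 7, 5, 9], [3, 1, 2, 0, 4, 5, 7, 6, 10, 11, 8, 9], [1, 0, 2, 3, 4, 5, 9, 10, 11, 6, 7, 8], [0, 2, 1, 3, 4, 5, 11, 9, 10, 7, 8, 6], [0, 1, 2, 5, 3, 4, 8, 6, 7, 11, 9, 10], [0, 1, 2, 9, 10, 11, 3, 4, 5, 6, 7, 8], [0, 1, 2, 3, 9, 6, 4, 10, 7, 5, 11, 8], [0, 1, 2, 3, 11, 7, 8, 4, 9, 10, 6, 5], [0, 1, 2, 3, 8, 10, 7, 9, 5, 11, 4, 6], [3, 1, 2, 0, 4, 5, 7, 6, 10, 11, 8, 9], [1, 0, 2, 3, 4, 5, 9, 10, 11, 6, 7, 8], [0, 2, 1, 3, 4, 5, 11, 9, 10, 7, 8, 6]]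

def lv1 : Level :=
  { b := 2, gens := [[0], [1], [2], [3], [4], [5], [6], [7]],
    Tm := [[], [7], [6, 7], [5, 6, 7], [0, 5, 6, 7], [1, 5, 6, 7], [0, 0, 5, 6, 7], [1, 0, 5, 6, 7], [4, 0, 5, 6, 7], [1, 1, 5, 6, 7], [4, 1, 5, 6, 7], [1, 0, 0, 5, 6, 7]],
    T := [[], [7], [6, 7], [5, 6, 7], [0, 5, 6, 7], [1, 5, 6, 7], [0, 0, 5, 6, 7], [1, 0, 5, 6, 7], [4, 0, 5, 6, 7], [1, 1, 5, 6, 7], [4, 1, 5, 6, 7], [1, 0, 0, 5, 6, 7]],
    imgs := [2, 1, 0, 3, 4, 6, 5, 7, 10, 9, 11, 8] }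

def lv2 : Level :=
  { b := 1, gens := [[0], [1], [2], [3], [4], [5], [6]],
    Tm := [[], [6], [5, 6], [0, 5, 6], [1, 5, 6], [0, 0, 5, 6], [1, 0, 5, 6], [4, 0, 5, 6], [1, 1, 5, 6], [4, 1, 5, 6], [1, 0, 0, 5, 6]],
    T := [[], [6], [5, 6], [0, 5, 6], [1, 5, 6], [0, 0, 5, 6], [1, 0, 5, 6], [4, 0, 5, 6], [1, 1, 5, 6], [4, 1, 5, 6], [1, 0, 0, 5, 6]],
    imgs := [1, 0, 3, 4, 6, 5, 7, 10, 9, 11, 8] }

def lv3 : Level :=
  { b := 0, gens := [[0], [1], [2], [3], [4], [5]],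
    Tm := [[], [5], [0, 5], [1, 5], [0, 0, 5], [1, 0, 5], [4, 0, 5], [1, 1, 5], [4, 1, 5], [1, 0, 0, 5]],
    T := [[], [5], [0, 5], [1, 5], [0, 0, 5], [1, 0, 5], [4, 0, 5], [1, 1, 5], [4, 1, 5], [1, 0, 0, 5]],
    imgs := [0, 3, 4, 6, 5, 7, 10, 9, 11, 8] }

def lv4 : Level :=
  { b := 3, gens := [[0], [1], [2], [3], [4]],
    Tm := [[], [0], [1], [0, 0], [1, 0], [4, 0], [1, 1], [4, 1], [1, 0, 0]],
    T := [[], [0], [1], [0, 0], [1, 0], [4, 0], [1, 1], [4, 1], [1, 0, 0]],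
    imgs := [3, 4, 6, 5, 7, 10, 9, 11, 8] }

def lv5 : Level :=
  { b := 4, gens := [[2], [3], [4]],
    Tm := [[], [0], [1], [2], [0, 0], [2, 0], [0, 1], [1, 2]],
    T := [[], [2], [3], [4], [2, 2], [4, 2], [2, 3], [3, 4]],
    imgs := [4, 6, 7, 10, 5, 11, 8, 9] }

def chain2 : List Level := [lv2, lv3, lv4, lv5]

def chain : List Level := lv1 :: chain2

theorem tabOK : TabOK G0 tabs := by decide +kernel

theorem chainOK : chainCheck 12 G0.length tabs chain = true := by decide +kernel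

theorem fullOK : fullCheck 12 [] chain = true := by decide +kernel

theorem Kc_chain : Kc G0 chain = Subgroup.closure {gs, gt, gu, gv, gw, gx1, gx2, gx3} := by
  show Subgroup.closure _ = _
  congr 1
  ext g
  simp only [Set.mem_setOf_eq, lv1, List.mem_cons, List.not_mem_nil, or_false, Set.mem_insert_iff,
    Set.mem_singleton_iff]
  constructor
  · rintro ⟨w, hw, rfl⟩
    rcases hw with rfl | rfl | rfl | rfl | rfl | rfl | rfl | rfl <;> simp [wp, letter, G0]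
  · intro hg
    rcases hg with rfl | rfl | rfl | rfl | rfl | rfl | rfl | rfl
    · exact ⟨[0], by simp, by simp [wp, letter, G0]⟩
    · exact ⟨[1], by simp, by simp [wp, letter, G0]⟩
    · exact ⟨[2], by simp, by simp [wp, letter, G0]⟩
    · exact ⟨[3], by simp, by simp [wp, letter, G0]⟩
    · exact ⟨[4], by simp, by simp [wp, letter, G0]⟩
    · exact ⟨[5], by simp, by simp [wp, letter, G0]⟩
    · exact ⟨[6], by simp, by simp [wp, letter, G0]⟩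
    · exact ⟨[7], by simp, by simp [wp, letter, G0]⟩

theorem Kc_chain2 : Kc G0 chain2 = Subgroup.closure {gs, gt, gu, gv, gw, gx1, gx2} := by
  show Subgroup.closure _ = _
  congr 1
  ext g
  simp only [Set.mem_setOf_eq, lv2, List.mem_cons, List.not_mem_nil, or_false, Set.mem_insert_iff,
    Set.mem_singleton_iff]
  constructor
  · rintro ⟨w, hw, rfl⟩
    rcases hw with rfl | rfl | rfl | rfl | rfl | rfl | rfl <;> simp [wp, letter, G0]
  · intro hg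
    rcases hg with rfl | rfl | rfl | rfl | rfl | rfl | rfl
    · exact ⟨[0], by simp, by simp [wp, letter, G0]⟩
    · exact ⟨[1], by simp, by simp [wp, letter, G0]⟩
    · exact ⟨[2], by simp, by simp [wp, letter, G0]⟩
    · exact ⟨[3], by simp, by simp [wp, letter, G0]⟩
    · exact ⟨[4], by simp, by simp [wp, letter, G0]⟩
    · exact ⟨[5], by simp, by simp [wp, letter, G0]⟩
    · exact ⟨[6], by simp, by simp [wp, letter, G0]⟩

theorem core :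
    MulAction.IsMultiplyPretransitive (Subgroup.closure {gs, gt, gu, gv, gw, gx1, gx2, gx3}) (Fin 12) 5 ∧
    (∀ y : Fin 5 ↪ Fin 12,
      MulAction.stabilizer (Subgroup.closure {gs, gt, gu, gv, gw, gx1, gx2, gx3}) y = ⊥) ∧
    Nat.card (Subgroup.closure {gs, gt, gu, gv, gw, gx1, gx2, gx3}) = 95040 ∧
    Nat.card (Subgroup.closure {gs, gt, gu, gv, gw, gx1, gx2}) = 7920 ∧
    Subgroup.closure {gs, gt, gu, gv, gw, gx1, gx2} =
      Subgroup.closure {gs, gt, gu, gv, gw, gx1, gx2, gx3} ⊓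
        MulAction.stabilizer (Equiv.Perm (Fin 12)) (2 : Fin 12) := by
  rw [← Kc_chain, ← Kc_chain2]
  have hc2 : chainCheck 12 G0.length tabs chain2 = true := by
    have := chainOK
    unfold chain chainCheck at this
    rw [Bool.and_eq_true] at this
    exact this.2
  have hl : LevelOK 12 G0.length tabs lv1 chain2 := by
    have := chainOK
    unfold chain chainCheck at this
    rw [Bool.and_eq_true] at this
    exact levelOK_of_check this.1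
  refine ⟨isMultiplyPretransitive tabOK chain chainOK fullOK,
    stabilizer_eq_bot tabOK chain chainOK fullOK, ?_, ?_, ?_⟩
  · rw [card_Kc tabOK chain chainOK]
    rfl
  · rw [card_Kc tabOK chain2 hc2]
    rfl
  · apply le_antisymm
    · intro g hg
      refine ⟨Kc_rest_le hl hg, ?_⟩
      show g ∈ MulAction.stabilizer (Equiv.Perm (Fin 12)) (2 : Fin 12)
      rw [MulAction.mem_stabilizer_iff, Equiv.Perm.smul_def]
      exact Kc_rest_fix tabOK hl hg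
    · rintro g ⟨hg1, hg2⟩
      have hg2' : g ∈ MulAction.stabilizer (Equiv.Perm (Fin 12)) (2 : Fin 12) := hg2
      rw [MulAction.mem_stabilizer_iff, Equiv.Perm.smul_def] at hg2'
      exact mem_Kc_rest_of_fix tabOK chainOK hg1 (2 : Fin 12) rfl hg2'

/-- An explicit construction of the Mathieu groups of degrees 11 and 12. On the points 0, …, 11 let s = (3 4 5)(6 7 8)(9 10 11), t = (3 6 9)(4 7 10)(5 8 11), u = (4 6 5 9)(7 8 11 10), v = (4 7 5 11)(6 10 9 8), w = (4 10 5 8)(6 11 9 7), x₁ = (0 3)(6 7)(8 10)(9 11), x₂ = (0 1)(6 9)(7 10)(8 11), x₃ = (1 2)(6 11)(7 9)(8 10) (each written as a product of transpositions). Then the group M₁₂ generated by all eight permutations is sharply 5-transitive on the 12 points and has order 95040, and the group M₁₁ generated by the first seven has order 7920 and is the stabilizer of the point 2 in M₁₂. -/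
theorem result
    (s t u v w x₁ x₂ x₃ : Equiv.Perm (Fin 12))
    (hs : s = Equiv.swap (3 : Fin 12) 5 * Equiv.swap (3 : Fin 12) 4 * Equiv.swap (6 : Fin 12) 8 * Equiv.swap (6 : Fin 12) 7 * Equiv.swap (9 : Fin 12) 11 * Equiv.swap (9 : Fin 12) 10) (ht : t = Equiv.swap (3 : Fin 12) 9 * Equiv.swap (3 : Fin 12) 6 * Equiv.swap (4 : Fin 12) 10 * Equiv.swap (4 : Fin 12) 7 * Equiv.swap (5 : Fin 12) 11 * Equiv.swap (5 : Fin 12) 8)
    (hu : u = Equiv.swap (4 : Fin 12) 9 * Equiv.swap (4 : Fin 12) 5 * Equiv.swap (4 : Fin 12) 6 * Equiv.swap (7 : Fin 12) 10 * Equiv.swap (7 : Fin 12) 11 * Equiv.swap (7 : Fin 12) 8) (hv : v = Equiv.swap (4 : Fin 12) 11 * Equiv.swap (4 : Fin 12) 5 * Equiv.swap (4 : Fin 12) 7 * Equiv.swap (6 : Fin 12) 8 * Equiv.swap (6 : Fin 12) 9 * Equiv.swap (6 : Fin 12) 10) (hw : w = Equiv.swap (4 : Fin 12) 8 * Equiv.swap (4 : Fin 12) 5 * Equiv.swap (4 : Fin 12) 10 * Equiv.swap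 (6 : Fin 12) 7 * Equiv.swap (6 : Fin 12) 9 * Equiv.swap (6 : Fin 12) 11)
    (hx₁ : x₁ = Equiv.swap (0 : Fin 12) 3 * Equiv.swap (6 : Fin 12) 7 * Equiv.swap (8 : Fin 12) 10 * Equiv.swap (9 : Fin 12) 11) (hx₂ : x₂ = Equiv.swap (0 : Fin 12) 1 * Equiv.swap (6 : Fin 12) 9 * Equiv.swap (7 : Fin 12) 10 * Equiv.swap (8 : Fin 12) 11)
    (hx₃ : x₃ = Equiv.swap (1 : Fin 12) 2 * Equiv.swap (6 : Fin 12) 11 * Equiv.swap (7 : Fin 12) 9 * Equiv.swap (8 : Fin 12) 10)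
    (M₁₂ M₁₁ : Subgroup (Equiv.Perm (Fin 12))) (hM₁₂ : M₁₂ = Subgroup.closure {s, t, u, v, w, x₁, x₂, x₃})
    (hM₁₁ : M₁₁ = Subgroup.closure {s, t, u, v, w, x₁, x₂}) :
    MulAction.IsMultiplyPretransitive M₁₂ (Fin 12) 5 ∧ (∀ y : Fin 5 ↪ Fin 12, MulAction.stabilizer M₁₂ y = ⊥) ∧
    Nat.card M₁₂ = 95040 ∧ Nat.card M₁₁ = 7920 ∧
    M₁₁ = M₁₂ ⊓ MulAction.stabilizer (Equiv.Perm (Fin 12)) (2 : Fin 12) := by
  subst hs ht hu hv hw hx₁ hx₂ hx₃ hM₁₂ hM₁₁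
  exact core

end Cfsg.Agent.S3362
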