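import Cfsg.Statements.S0540
-- import your own Cfsg.Agent.* helpers here
import Cfsg.Agent.Lib.H3.Wielandt2
import Mathlib

set_option autoImplicit false
open Pointwise
open Cfsg

namespace Cfsg.Agent.S0540
open scoped Pointwise

open Cfsg.Agent.Lib.H3

variable {G : Type*} [Group G]

/-- The zipper lemma applied inside a subgroup `V`. -/
theorem zipper_in_subgroup [Finite G] (A V : Subgroup G) (SV D : Set (Subgroup G))
    (hSV : ∀ B : Subgroup G, B ∈ SV ↔
      (∃ g : G, B = MulAut.conj g • A) ∧ B ≤ V ∧ (B.subgroupOf V).IsSubnormal)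
    (hD : D ⊂ SV) :
    ∃ C ∈ SV, C ∉ D ∧ C ≤ Subgroup.normalizer ((sSup D : Subgroup G) : Set G) := by
  set T : Set (Subgroup V) := {Y | Y.map V.subtype ∈ SV} with hT
  set T₀ : Set (Subgroup V) := {Y | Y.map V.subtype ∈ D} with hT₀
  have hself : ∀ Y : Subgroup V, (Y.map V.subtype).subgroupOf V = Y := fun Y =>
    Subgroup.comap_map_eq_self_of_injective V.subtype_injective Y
  have hTsub : ∀ Y ∈ T, Y.IsSubnormal := by
    intro Y hY
    have := ((hSV _).1 hY).2.2
    rwa [hself] at this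
  have hTconj : ∀ Y ∈ T, ∀ m : V, MulAut.conj m • Y ∈ T := by
    intro Y hY m
    show (MulAut.conj m • Y).map V.subtype ∈ SV
    obtain ⟨⟨g, hg⟩, hle, hsn⟩ := (hSV _).1 hY
    rw [hSV]
    refine ⟨⟨(m : G) * g, ?_⟩, Subgroup.map_subtype_le _, ?_⟩
    · rw [conj_smul_map_subtype, hg, map_mul, mul_smul]
    · rw [hself]
      rw [hself] at hsn
      exact hsn.smul _
  have hDV : ∀ B ∈ D, B ≤ V := fun B hB => ((hSV B).1 (hD.subset hB)).2.1
  obtain ⟨X0, hX0S, hX0D⟩ := Set.exists_of_ssubset hD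
  have hX0V : X0 ≤ V := ((hSV X0).1 hX0S).2.1
  have hTT : T₀ ⊂ T := by
    refine ⟨fun Y hY => hD.subset hY, ?_⟩
    intro hsub
    have h1 : X0.subgroupOf V ∈ T := by
      show (X0.subgroupOf V).map V.subtype ∈ SV
      rw [Subgroup.map_subgroupOf_eq_of_le hX0V]; exact hX0S
    have h2 := hsub h1
    change (X0.subgroupOf V).map V.subtype ∈ D at h2
    rw [Subgroup.map_subgroupOf_eq_of_le hX0V] at h2
    exact hX0D h2
  obtain ⟨Y, hYT, hYT₀, hYN⟩ := zipper _ V rfl T T₀ hTsub hTconj hTT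
  refine ⟨Y.map V.subtype, hYT, hYT₀, ?_⟩
  have hsup : (sSup T₀).map V.subtype = sSup D := by
    rw [map_sSup_eq]
    apply le_antisymm
    · apply iSup₂_le
      intro Z hZ
      exact le_sSup hZ
    · apply sSup_le
      intro B hB
      have h1 : B.subgroupOf V ∈ T₀ := by
        show (B.subgroupOf V).map V.subtype ∈ D
        rw [Subgroup.map_subgroupOf_eq_of_le (hDV B hB)]; exact hB
      have h2 : (B.subgroupOf V).map V.subtype ≤ ⨆ Z ∈ T₀, Z.map V.subtype :=
        le_iSup₂ (f := fun (Z : Subgroup V) (_ : Z ∈ T₀) => Z.map V.subtype) _ h1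
      rwa [Subgroup.map_subgroupOf_eq_of_le (hDV B hB)] at h2
  rw [← hsup]
  exact (Subgroup.map_mono hYN).trans (Subgroup.le_normalizer_map V.subtype)

/-- `V` normalizes the join of the conjugates of `A` that are subnormal in `V`. -/
theorem le_normalizer_sSup (A V : Subgroup G) (SV : Set (Subgroup G))
    (hSV : ∀ B : Subgroup G, B ∈ SV ↔
      (∃ g : G, B = MulAut.conj g • A) ∧ B ≤ V ∧ (B.subgroupOf V).IsSubnormal) :
    V ≤ Subgroup.normalizer ((sSup SV : Subgroup G) : Set G) := by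
  have hconj : ∀ v ∈ V, ∀ B ∈ SV, MulAut.conj v • B ∈ SV := by
    intro v hv B hB
    obtain ⟨⟨g, hg⟩, hle, hsn⟩ := (hSV _).1 hB
    rw [hSV]
    have hle' : MulAut.conj v • B ≤ V := by
      intro x hx
      rw [Subgroup.mem_pointwise_smul_iff_inv_smul_mem] at hx
      have h1 := hle hx
      have h2 : x = v * (v⁻¹ * x * v) * v⁻¹ := by group
      rw [h2]
      refine V.mul_mem (V.mul_mem hv ?_) (V.inv_mem hv)
      simpa [MulAut.smul_def, mul_assoc] using h1
    refine ⟨⟨v * g, by rw [hg, map_mul, mul_smul]⟩, hle', ?_⟩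
    have h3 : (MulAut.conj v • B).subgroupOf V =
        MulAut.conj (⟨v, hv⟩ : V) • (B.subgroupOf V) := by
      have := conj_smul_map_subtype V (B.subgroupOf V) ⟨v, hv⟩
      rw [Subgroup.map_subgroupOf_eq_of_le hle] at this
      rw [← this]
      exact (Subgroup.comap_map_eq_self_of_injective V.subtype_injective _)
    rw [h3]
    exact hsn.smul _
  have hmap : ∀ v ∈ V, (sSup SV).map (MulAut.conj v).toMonoidHom ≤ sSup SV := by
    intro v hv
    rw [map_sSup_eq]
    apply iSup₂_le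
    intro B hB
    have : B.map (MulAut.conj v).toMonoidHom = MulAut.conj v • B := rfl
    rw [this]
    exact le_sSup (hconj v hv B hB)
  intro v hv
  rw [Subgroup.mem_normalizer_iff_map_conj_eq]
  apply le_antisymm (hmap v hv)
  intro x hx
  have h1 := hmap v⁻¹ (V.inv_mem hv) (Subgroup.mem_map_of_mem _ hx)
  refine ⟨_, h1, ?_⟩
  simp only [MulEquiv.coe_toMonoidHom, MulAut.conj_apply, inv_inv]
  group

theorem main [Finite G] (A : Subgroup G) (U : Set (Subgroup G)) (hU : U.Nonempty)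
    (S : Subgroup G → Set (Subgroup G))
    (hS : ∀ V B : Subgroup G, B ∈ S V ↔
      (∃ g : G, B = MulAut.conj g • A) ∧ B ≤ V ∧ (B.subgroupOf V).IsSubnormal)
    (h1 : ∀ V ∈ U, A ∈ S V) (h2 : ∀ V ∈ U, ∀ W ∈ U, ∀ B ∈ S W, B ≤ V → B ∈ S V)
    (h3 : ∀ V ∈ U, ∀ W ∈ U, ∃ X ∈ U,
      Subgroup.normalizer ((sSup (S V ∩ S W) : Subgroup G) : Set G) ≤ X) :
    ∃ M ∈ U, ∀ V ∈ U, V ≤ M := by
  obtain ⟨M, hMU, hMmax⟩ := (Set.toFinite U).exists_maximal hU
  refine ⟨M, hMU, ?_⟩
  by_contra hcon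
  push Not at hcon
  set Bad : Set (Subgroup G) := {V | V ∈ U ∧ ¬ V ≤ M} with hBad
  have hBadne : Bad.Nonempty := by
    obtain ⟨V, hV, hVM⟩ := hcon
    exact ⟨V, hV, hVM⟩
  obtain ⟨V, ⟨hVU, hVM⟩, hVmax⟩ :=
    (Set.toFinite Bad).exists_maximalFor (fun W => S W ∩ S M) Bad hBadne
  set D := S V ∩ S M with hD
  set J : Subgroup G := sSup D with hJ
  obtain ⟨X, hXU, hNX⟩ := h3 V hVU M hMU
  have hDJ : ∀ B ∈ D, B ≤ J := fun B hB => le_sSup hB
  have hJN : J ≤ Subgroup.normalizer (J : Set G) := Subgroup.le_normalizer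
  -- Step 1: N_G(J) ≤ M
  have hNM : Subgroup.normalizer (J : Set G) ≤ M := by
    by_cases hDM : D = S M
    · -- M normalizes J, so M ≤ X and X = M
      have hMN : M ≤ Subgroup.normalizer (J : Set G) := by
        rw [hJ, hDM]; exact le_normalizer_sSup A M (S M) (hS M)
      have hMX : M ≤ X := hMN.trans hNX
      have hXM : X ≤ M := hMmax hXU hMX
      exact hNX.trans hXM
    · have hDsub : D ⊂ S M := ⟨Set.inter_subset_right, fun h => hDM (Set.Subset.antisymm Set.inter_subset_right h)⟩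
      obtain ⟨B, hBM, hBD, hBN⟩ := zipper_in_subgroup A M (S M) D (hS M) hDsub
      have hBX : B ≤ X := hBN.trans hNX
      have hBSX : B ∈ S X := h2 X hXU M hMU B hBM hBX
      have hDX : D ⊆ S X ∩ S M := by
        intro C hC
        exact ⟨h2 X hXU M hMU C hC.2 ((hDJ C hC).trans (hJN.trans hNX)), hC.2⟩
      have hXM : X ≤ M := by
        by_contra hXM
        have hXBad : X ∈ Bad := ⟨hXU, hXM⟩
        have := hVmax hXBad hDX
        exact hBD (this ⟨hBSX, hBM⟩)
      exact hNX.trans hXM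
  -- Step 2
  by_cases hDV : D = S V
  · apply hVM
    have : V ≤ Subgroup.normalizer (J : Set G) := by
      rw [hJ, hDV]; exact le_normalizer_sSup A V (S V) (hS V)
    exact this.trans hNM
  · have hDsub : D ⊂ S V := ⟨Set.inter_subset_left, fun h => hDV (Set.Subset.antisymm Set.inter_subset_left h)⟩
    obtain ⟨C, hCV, hCD, hCN⟩ := zipper_in_subgroup A V (S V) D (hS V) hDsub
    have hCM : C ≤ M := hCN.trans hNM
    exact hCD ⟨hCV, h2 M hMU V hVU C hCV hCM⟩

/-- A uniqueness lemma of zipper type. Let A be a subgroup of a finite group G and U a nonempty family of subgroups. For V in U write S(V) for the set of conjugates of A that lie in V and are subnormal in V. Assume: A belongs to S(V) for every V in U; a member of some S(W) that lies in V belongs to S(V); and for all V, W in U the normalizer of the join of S(V) ∩ S(W) lies in some member of U. Then U has a greatest element. -/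
theorem result {G : Type*} [Group G] [Finite G] (A : Subgroup G) (U : Set (Subgroup G)) (hU : U.Nonempty) (S : Subgroup G → Set (Subgroup G)) (hS : ∀ V B : Subgroup G, B ∈ S V ↔ (∃ g : G, B = MulAut.conj g • A) ∧ B ≤ V ∧ (B.subgroupOf V).IsSubnormal) (h1 : ∀ V ∈ U, A ∈ S V) (h2 : ∀ V ∈ U, ∀ W ∈ U, ∀ B ∈ S W, B ≤ V → B ∈ S V) (h3 : ∀ V ∈ U, ∀ W ∈ U, ∃ X ∈ U, Subgroup.normalizer ((sSup (S V ∩ S W) : Subgroup G) : Set G) ≤ X) : ∃ M ∈ U, ∀ V ∈ U, V ≤ M := by
  exact main A U hU S hS h1 h2 h3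

end Cfsg.Agent.S0540
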