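import Cfsg.Statements.S0293
import Cfsg.Agent.Lib.H11.OmegaAll
import Cfsg.Agent.S0287
import Cfsg.Agent.S0789
import Cfsg.Agent.S0790
-- import your own Cfsg.Agent.* helpers here

set_option autoImplicit false
open Cfsg

namespace Cfsg.Agent.S0293

open Cfsg.Agent.Lib.H11.OmegaOrder Cfsg.Agent.Lib.H11.OmegaAll

/-- gcd(4, q^m - 1) |PΩ^+_{2m}(q)| = q^(m(m-1)) (q^m - 1) prod_{i=1}^{m-1} (q^(2i) - 1), m at least 4 (type D_m). -/
theorem result {F : Type*} [Field F] [Fintype F] {q : ℕ} (hF : Fintype.card F = q) (m : ℕ) (hm : 4 ≤ m) : Nat.gcd 4 (q ^ m - 1) * Nat.card (Cfsg.POmega F (Cfsg.quadFormPlus m F)) = q ^ (m * (m - 1)) * (q ^ m - 1) * ∏ i ∈ Finset.range (m - 1), (q ^ (2 * (i + 1)) - 1) := by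
  have hcard : Fintype.card (Fin m ⊕ Fin m) = m + m := by
    rw [Fintype.card_sum, Fintype.card_fin]
  have hnd := Cfsg.Agent.S0287.nondeg (F := F) m
  have hO := Cfsg.Agent.S0287.result hF m (by omega)
  have hqpos : 0 < q := by rw [← hF]; exact Fintype.card_pos
  set X := q ^ (m * (m - 1)) * (q ^ m - 1) * ∏ i ∈ Finset.range (m - 1), (q ^ (2 * (i + 1)) - 1)
    with hX
  have hO' : Nat.card ↥(Cfsg.isometryGroup F (Cfsg.quadFormPlus m F)) = 2 * X := by
    rw [hO, hX]; ring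
  rcases Nat.even_or_odd q with heven | hodd
  · have h2 : (2 : F) = 0 := two_eq_zero_of_even (hF ▸ heven)
    have : CharP F 2 := CharTwo.of_one_ne_zero_of_two_eq_zero one_ne_zero h2
    have h1 := card_char_two_any (Cfsg.Agent.Lib.H13.plusQF F m) hnd (by rw [hcard]; omega)
      (Cfsg.Agent.S0789.result (by rw [hcard]; omega) _
        (Cfsg.Agent.Lib.H11.IsoReindex.nondeg_trQF _ _ hnd) (Or.inr (by rw [hcard]; omega)))
    rw [Cfsg.Agent.S0287.coe_plusQF, hO'] at h1
    have hg : Nat.gcd 4 (q ^ m - 1) = 1 :=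
      gcd_four_of_even _ ((Nat.even_pow' (by omega)).2 heven) (pow_pos hqpos m)
    rw [hg]
    omega
  · have h2 : (2 : F) ≠ 0 := Cfsg.Agent.S0286.two_ne_zero_of_odd (hF ▸ hodd)
    have h1 := card_pomega_odd (Cfsg.Agent.Lib.H13.plusQF F m) hnd h2 (by rw [hcard]; omega)
    have h790 := Cfsg.Agent.S0790.result hF hodd m (by omega)
    rw [Cfsg.Agent.S0287.coe_plusQF] at h1
    rw [hO'] at h1
    have hqm : q ^ m % 4 = 1 ∨ q ^ m % 4 = 3 := by
      have : Odd (q ^ m) := hodd.pow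
      rcases this with ⟨k, hk⟩
      omega
    rcases hqm with hq1 | hq3
    · rw [if_pos (h790.2 hq1)] at h1
      rw [gcd_four_of_mod_one _ hq1]
      omega
    · have hno : ¬ (∃ g : ↥(Cfsg.isometryGroup F (Cfsg.quadFormPlus m F)),
          g ∈ Cfsg.Omega F (Cfsg.quadFormPlus m F) ∧
          ((g : Matrix.GeneralLinearGroup (Fin m ⊕ Fin m) F) :
            Matrix (Fin m ⊕ Fin m) (Fin m ⊕ Fin m) F) = -1) := by
        intro h
        have := h790.1 h
        omega
      rw [if_neg hno] at h1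
      rw [gcd_four_of_mod_three _ hq3]
      omega

end Cfsg.Agent.S0293
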