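import Cfsg.Statements.S1691
-- import your own Cfsg.Agent.* helpers here

set_option autoImplicit false
open Cfsg

namespace Cfsg.Agent.S1691

open Cfsg.Spor

/-- The relator set of the presented `Fi24`. -/
abbrev R : Set (FreeGroup Fi24.Gen) := coxRelators Fi24.edges ∪ {r | r ∈ Fi24.extra}

/-- The image of a generator in the abelianization. -/
noncomputable def s (x : Fi24.Gen) : Abelianization Fi24 :=
  Abelianization.of (PresentedGroup.of x : Fi24)

theorem node_sq (x : Fi24.Gen) (hx : x ∈ coxNodes Fi24.edges) :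
    (PresentedGroup.of x : Fi24) ^ 2 = 1 := by
  have hmem : (FreeGroup.of x * FreeGroup.of x) ^ coxLabel Fi24.edges x x ∈ R :=
    Or.inl ⟨x, hx, x, hx, rfl⟩
  have h1 : coxLabel Fi24.edges x x = 1 := by simp [coxLabel]
  rw [h1, pow_one] at hmem
  have := PresentedGroup.one_of_mem hmem
  rw [map_mul] at this
  rw [pow_two]
  exact this

theorem edge_rel (x y : Fi24.Gen) (hx : x ∈ coxNodes Fi24.edges) (hy : y ∈ coxNodes Fi24.edges)
    (h3 : coxLabel Fi24.edges x y = 3) :
    ((PresentedGroup.of x : Fi24) * PresentedGroup.of y) ^ 3 = 1 := by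
  have hmem : (FreeGroup.of x * FreeGroup.of y) ^ coxLabel Fi24.edges x y ∈ R :=
    Or.inl ⟨x, hx, y, hy, rfl⟩
  rw [h3] at hmem
  have := PresentedGroup.one_of_mem hmem
  rw [map_pow, map_mul] at this
  exact this

theorem s_sq (x : Fi24.Gen) (hx : x ∈ coxNodes Fi24.edges) : s x ^ 2 = 1 := by
  unfold s
  rw [← map_pow, node_sq x hx, map_one]

theorem s_eq (x y : Fi24.Gen) (hx : x ∈ coxNodes Fi24.edges) (hy : y ∈ coxNodes Fi24.edges)
    (h3 : coxLabel Fi24.edges x y = 3) : s x = s y := by
  have h := edge_rel x y hx hy h3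
  have h' : (s x * s y) ^ 3 = 1 := by
    unfold s
    rw [← map_mul, ← map_pow, h, map_one]
  have hx2 := s_sq x hx
  have hy2 := s_sq y hy
  have hx3 : s x ^ 3 = s x := by rw [pow_succ, hx2, one_mul]
  have hy3 : s y ^ 3 = s y := by rw [pow_succ, hy2, one_mul]
  rw [mul_pow, hx3, hy3] at h'
  have hyinv : (s y)⁻¹ = s y := by
    rw [inv_eq_iff_mul_eq_one, ← pow_two, hy2]
  rw [← hyinv]
  exact eq_inv_of_mul_eq_one_left h'

theorem s_all (x : Fi24.Gen) : s x = s Fi24.Gen.a := by
  have e1 : s .l = s .k := s_eq _ _ (by decide) (by decide) (by decide)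
  have e2 : s .k = s .a := s_eq _ _ (by decide) (by decide) (by decide)
  have e3 : s .a = s .b := s_eq _ _ (by decide) (by decide) (by decide)
  have e4 : s .b = s .c := s_eq _ _ (by decide) (by decide) (by decide)
  have e5 : s .c = s .d := s_eq _ _ (by decide) (by decide) (by decide)
  have e6 : s .d = s .e := s_eq _ _ (by decide) (by decide) (by decide)
  have e7 : s .d = s .h := s_eq _ _ (by decide) (by decide) (by decide)
  have e8 : s .e = s .f := s_eq _ _ (by decide) (by decide) (by decide)
  have e9 : s .f = s .g := s_eq _ _ (by decide) (by decide) (by decide)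
  have e10 : s .g = s .j := s_eq _ _ (by decide) (by decide) (by decide)
  have e11 : s .h = s .i := s_eq _ _ (by decide) (by decide) (by decide)
  cases x
  · rw [e1, e2]
  · rw [e2]
  · rfl
  · rw [← e3]
  · rw [← e4, ← e3]
  · rw [← e5, ← e4, ← e3]
  · rw [← e6, ← e5, ← e4, ← e3]
  · rw [← e8, ← e6, ← e5, ← e4, ← e3]
  · rw [← e9, ← e8, ← e6, ← e5, ← e4, ← e3]
  · rw [← e10, ← e9, ← e8, ← e6, ← e5, ← e4, ← e3]
  · rw [← e7, ← e5, ← e4, ← e3]
  · rw [← e11, ← e7, ← e5, ← e4, ← e3]

/-- The sign homomorphism: every generator goes to `-1`. -/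
noncomputable def sgn : Fi24 →* ℤˣ :=
  PresentedGroup.toGroup (f := fun _ : Fi24.Gen => (-1 : ℤˣ)) (rels := R) (by
    rintro r (⟨x, _, y, _, rfl⟩ | hr)
    · simp
    · simp only [Fi24.extra, Set.mem_ofPred_eq, List.mem_cons, List.not_mem_nil, or_false] at hr
      rcases hr with rfl | rfl
      · simp only [map_mul, map_inv, map_pow, FreeGroup.lift_apply_of]
        decide
      · simp only [map_mul, map_inv, map_pow, FreeGroup.lift_apply_of]
        decide)

theorem sgn_of (x : Fi24.Gen) : sgn (PresentedGroup.of x) = -1 := by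
  unfold sgn
  rw [PresentedGroup.toGroup.of]


/-- The commutator subgroup of the presented group Fi₂₄ has index 2 (the presented group is Fi₂₄′:2 with Fi₂₄′ its derived subgroup). -/
theorem result : (commutator Cfsg.Spor.Fi24).index = 2 := by
  have hs1 : s Fi24.Gen.a ≠ 1 := by
    intro h
    have h1 : Abelianization.lift sgn (s Fi24.Gen.a) = -1 := by
      unfold s
      rw [Abelianization.lift_apply_of, sgn_of]
    rw [h, map_one] at h1
    exact absurd h1 (by decide)
  have hs2 : s Fi24.Gen.a ^ 2 = 1 := s_sq _ (by decide)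
  have hord : orderOf (s Fi24.Gen.a) = 2 := orderOf_eq_prime hs2 hs1
  have htop : Subgroup.zpowers (s Fi24.Gen.a) = ⊤ := by
    rw [eq_top_iff]
    intro y _
    obtain ⟨w, rfl⟩ := QuotientGroup.mk_surjective y
    have := PresentedGroup.generated_by R
      ((Subgroup.zpowers (s Fi24.Gen.a)).comap (Abelianization.of (G := Fi24))) (fun gen => by
        rw [Subgroup.mem_comap]
        have := s_all gen
        unfold s at this
        rw [this]
        exact Subgroup.mem_zpowers _) w
    exact this
  rw [Subgroup.index_eq_card]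
  have : Nat.card (Abelianization Fi24) = 2 := by
    rw [← Nat.card_congr (Subgroup.topEquiv (G := Abelianization Fi24)).toEquiv, ← htop,
      Nat.card_zpowers, hord]
  exact this


end Cfsg.Agent.S1691
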