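import Cfsg.Statements.S0219
import Mathlib

set_option autoImplicit false
open Cfsg

namespace Cfsg.Agent.S0219

/-- If a finite group has even order and a cyclic Sylow 2-subgroup, then it has a subgroup of index 2 (consider the parity of permutations in the regular representation). -/
theorem result {G : Type*} [Group G] [Finite G] (heven : Even (Nat.card G)) (T : Sylow 2 G) (hT : IsCyclic (T : Subgroup G)) : ∃ H : Subgroup G, H.index = 2 := by
  have h2 : 2 ∣ Nat.card G := even_iff_two_dvd.1 heven
  have hmin : (Nat.card G).minFac = 2 := (Nat.minFac_eq_two_iff _).2 h2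
  have hT' : IsCyclic T := hT
  have hcompl := IsCyclic.isComplement' hmin hT'
  set φ := MonoidHom.transferSylow T (hT'.normalizer_le_centralizer hmin) with hφ
  -- φ is surjective
  have hsurj : Function.Surjective φ := by
    rw [← MonoidHom.range_eq_top]
    apply Subgroup.eq_top_of_card_eq
    rw [← Subgroup.index_ker]
    exact hcompl.symm.index_eq_card
  -- T has a subgroup of index 2
  have : Fact (Nat.Prime 2) := ⟨Nat.prime_two⟩
  obtain ⟨k, hk⟩ := T.2.exists_card_eq
  have hk0 : k ≠ 0 := by
    intro h0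
    rw [h0, pow_zero] at hk
    have hdvd : 2 ∣ Nat.card T := T.dvd_card_of_dvd_card h2
    have hk' : Nat.card T = 1 := hk
    rw [hk'] at hdvd
    omega
  obtain ⟨K₀, hK₀⟩ := Sylow.exists_subgroup_card_pow_prime (G := T) 2 (n := k - 1) (by
    have hk' : Nat.card T = 2 ^ k := hk
    rw [hk']; exact pow_dvd_pow 2 (Nat.sub_le k 1))
  refine ⟨K₀.comap φ, ?_⟩
  rw [Subgroup.index_comap_of_surjective K₀ hsurj]
  have h3 := K₀.card_mul_index
  have hk' : Nat.card T = 2 ^ k := hk
  rw [hK₀, hk'] at h3
  have h4 : 2 ^ k = 2 ^ (k - 1) * 2 := by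
    rw [← pow_succ]; congr 1; omega
  rw [h4] at h3
  exact Nat.eq_of_mul_eq_mul_left (by positivity) h3

end Cfsg.Agent.S0219
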