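import Cfsg.Statements.S0220
import Mathlib
import Cfsg.Agent.S0219

set_option autoImplicit false
open Cfsg

namespace Cfsg.Agent.S0220

/-- in a finite cyclic group two elements of order 2 coincide -/
theorem eq_of_orderOf_two_of_isCyclic {A : Type*} [Group A] [Finite A] [IsCyclic A] {a b : A}
    (ha : orderOf a = 2) (hb : orderOf b = 2) : a = b := by
  classical
  have := Fintype.ofFinite A
  have hd : 2 ∣ Fintype.card A := by
    rw [← ha, ← Nat.card_eq_fintype_card]; exact orderOf_dvd_natCard a
  have h := IsCyclic.card_orderOf_eq_totient (α := A) hd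
  rw [Nat.totient_two] at h
  have h1 : (Finset.univ.filter fun x : A => orderOf x = 2).card ≤ 1 := h.le
  rw [Finset.card_le_one] at h1
  exact h1 a (by simp [ha]) b (by simp [hb])

theorem aux {G : Type*} [Group G] [Finite G] (x : G) (hx : orderOf x = 2) (C : Subgroup G)
    (hmemC : ∀ g : G, g ∈ C ↔ x * g = g * x) (S : Sylow 2 C) (hS : IsCyclic (S : Subgroup C)) :
    ∃ H : Subgroup G, H.index = 2 := by
  classical
  have hp2 : Fact (Nat.Prime 2) := ⟨Nat.prime_two⟩
  have hxC : x ∈ C := (hmemC x).2 rfl
  let xC : C := ⟨x, hxC⟩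
  have hxCo : orderOf xC = 2 := by rw [← hx]; exact Subgroup.orderOf_mk x hxC
  have hxCcomm : ∀ c : C, Commute c xC := by
    intro c
    apply Subtype.ext
    exact ((hmemC c.1).1 c.2).symm
  -- xC ∈ S
  have hxS : xC ∈ S := by
    have : (Subgroup.zpowers xC).Normal := by
      constructor
      intro n hn g
      obtain ⟨k, rfl⟩ := Subgroup.mem_zpowers_iff.1 hn
      have h1 := ((hxCcomm g).zpow_right k).eq
      rw [h1, mul_inv_cancel_right]
      exact Subgroup.zpow_mem_zpowers xC k
    have hp : IsPGroup 2 (Subgroup.zpowers xC) :=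
      IsPGroup.of_card (n := 1) (by rw [Nat.card_zpowers, hxCo, pow_one])
    exact hp.le_sylow_of_normal S (Subgroup.mem_zpowers xC)
  -- a Sylow 2-subgroup T of G containing the image of S
  have hSmap : IsPGroup 2 ((S : Subgroup C).map C.subtype) := S.isPGroup'.map C.subtype
  obtain ⟨T, hT⟩ := hSmap.exists_le_sylow
  have hST : ∀ s : C, s ∈ S → (s : G) ∈ T := fun s hs => hT ⟨s, hs, rfl⟩
  have hxT : x ∈ T := hST xC hxS
  -- T ∩ C = S
  have hQ : ((T : Subgroup G) ⊓ C).subgroupOf C = S := by
    apply S.is_maximal'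
    · exact (T.isPGroup'.to_le inf_le_left).comap_subtype
    · intro s hs
      rw [Subgroup.mem_subgroupOf]
      exact ⟨hST s hs, s.2⟩
  -- a central involution of T
  have : Nontrivial T := by
    refine ⟨⟨⟨x, hxT⟩, 1, ?_⟩⟩
    intro h
    have h1 : x = 1 := congrArg Subtype.val h
    rw [h1] at hx
    simp at hx
  have := T.isPGroup'.center_nontrivial
  have h2dvd : 2 ∣ Nat.card (Subgroup.center T) := by
    have hpc : IsPGroup 2 (Subgroup.center T) := T.isPGroup'.to_subgroup (Subgroup.center T)
    rcases hpc.card_eq_or_dvd with h | h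
    · exfalso
      have := (Nat.card_eq_one_iff_unique.1 h).1
      exact not_subsingleton _ this
    · exact h
  have := Fintype.ofFinite (Subgroup.center T)
  rw [Nat.card_eq_fintype_card] at h2dvd
  obtain ⟨z, hz⟩ := exists_prime_orderOf_dvd_card 2 h2dvd
  -- z as an element of G
  have hzo : orderOf ((z : T) : G) = 2 := by
    have h1 : orderOf ((z : T) : G) = orderOf z := by
      rw [Subgroup.orderOf_coe, Subgroup.orderOf_coe]
    exact h1.trans hz
  have hzcomm : x * ((z : T) : G) = ((z : T) : G) * x := by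
    have h1 := Subgroup.mem_center_iff.1 z.2 ⟨x, hxT⟩
    have h2 := congrArg Subtype.val h1
    simp only [Subgroup.coe_mul] at h2
    exact h2
  have hzC : ((z : T) : G) ∈ C := (hmemC _).2 hzcomm
  have hzS : (⟨((z : T) : G), hzC⟩ : C) ∈ S := by
    have h1 : (⟨((z : T) : G), hzC⟩ : C) ∈ ((T : Subgroup G) ⊓ C).subgroupOf C := by
      rw [Subgroup.mem_subgroupOf]
      exact ⟨(z : T).2, hzC⟩
    rw [hQ] at h1
    exact h1
  -- z = x by uniqueness of the involution in the cyclic group S
  have hzx : ((z : T) : G) = x := by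
    have : IsCyclic (S : Subgroup C) := hS
    have ha : orderOf (⟨⟨((z : T) : G), hzC⟩, hzS⟩ : (S : Subgroup C)) = 2 := by
      rw [Subgroup.orderOf_mk, Subgroup.orderOf_mk]; exact hzo
    have hb : orderOf (⟨xC, hxS⟩ : (S : Subgroup C)) = 2 := by
      rw [Subgroup.orderOf_mk]; exact hxCo
    have := eq_of_orderOf_two_of_isCyclic ha hb
    have h1 := congrArg (fun s : (S : Subgroup C) => ((s : C) : G)) this
    exact h1
  -- hence T ≤ C
  have hTC : (T : Subgroup G) ≤ C := by
    intro t ht
    rw [hmemC]
    have h1 := Subgroup.mem_center_iff.1 z.2 ⟨t, ht⟩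
    have h2 := congrArg Subtype.val h1
    simp only [Subgroup.coe_mul] at h2
    rw [hzx] at h2
    exact h2.symm
  -- T is the image of S, hence cyclic
  have hTS : (T : Subgroup G) = (S : Subgroup C).map C.subtype := by
    apply le_antisymm _ hT
    intro t ht
    have : (⟨t, hTC ht⟩ : C) ∈ S := by
      have h1 : (⟨t, hTC ht⟩ : C) ∈ ((T : Subgroup G) ⊓ C).subgroupOf C := by
        rw [Subgroup.mem_subgroupOf]
        exact ⟨ht, hTC ht⟩
      rw [hQ] at h1
      exact h1
    exact ⟨⟨t, hTC ht⟩, this, rfl⟩
  have hTcyc : IsCyclic (T : Subgroup G) := by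
    rw [hTS]
    have : IsCyclic (S : Subgroup C) := hS
    exact isCyclic_of_surjective ((C.subtype).subgroupMap (S : Subgroup C))
      ((C.subtype).subgroupMap_surjective (S : Subgroup C))
  have heven : Even (Nat.card G) := by
    rw [even_iff_two_dvd, ← hx]
    exact orderOf_dvd_natCard x
  exact Cfsg.Agent.S0219.result heven T hTcyc

/-- If x is an involution of a finite group G and a Sylow 2-subgroup of the centralizer of x is cyclic, then G has a subgroup of index 2; in particular G is not simple unless it has order 2. -/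
theorem result {G : Type*} [Group G] [Finite G] (x : G) (hx : orderOf x = 2) (S : Sylow 2 ↥(Subgroup.centralizer ({x} : Set G))) (hS : IsCyclic (S : Subgroup ↥(Subgroup.centralizer ({x} : Set G)))) : ∃ H : Subgroup G, H.index = 2 := by
  refine aux x hx (Subgroup.centralizer ({x} : Set G)) ?_ S hS
  intro g
  rw [Subgroup.mem_centralizer_iff]
  constructor
  · intro h; exact h x rfl
  · intro h y hy; rw [Set.mem_singleton_iff] at hy; rw [hy]; exact h

end Cfsg.Agent.S0220
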