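import Cfsg.Statements.S0213
import Mathlib
import Cfsg.Agent.Lib.H2.ClassCard
import Cfsg.Agent.Lib.H2.IsolatedProd
import Cfsg.Agent.S0208
import Cfsg.Agent.S0209
import Cfsg.Agent.S0220

set_option autoImplicit false
open Cfsg

namespace Cfsg.Agent.S0213

open Cfsg.Agent.Lib.H2

variable {G : Type*} [Group G]

theorem isConj_conj_iff (x u g : G) : IsConj x (g * u * g⁻¹) ↔ IsConj x u := by
  have h : IsConj u (g * u * g⁻¹) := isConj_iff.2 ⟨g, rfl⟩
  exact ⟨fun h' => h'.trans h.symm, fun h' => h'.trans h⟩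

theorem mem_zpowers_conj {w a : G} (g : G) (h : w ∈ Subgroup.zpowers a) :
    g * w * g⁻¹ ∈ Subgroup.zpowers (g * a * g⁻¹) := by
  obtain ⟨k, rfl⟩ := Subgroup.mem_zpowers_iff.1 h
  rw [Subgroup.mem_zpowers_iff]
  exact ⟨k, by rw [conj_zpow]⟩

theorem mem_zpowers_conj_iff (w a g : G) :
    g * w * g⁻¹ ∈ Subgroup.zpowers (g * a * g⁻¹) ↔ w ∈ Subgroup.zpowers a := by
  constructor
  · intro h
    have := mem_zpowers_conj g⁻¹ h
    simpa [mul_assoc] using this
  · exact mem_zpowers_conj g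

/-- the set of pairs attached to `w` -/
def pairSet (x₁ x₂ w : G) : Set (G × G) :=
  {p | IsConj x₁ p.1 ∧ IsConj x₂ p.2 ∧ w ∈ Subgroup.zpowers (p.1 * p.2)}

/-- conjugation of pairs -/
def conjPair (g : G) : G × G ≃ G × G where
  toFun p := (g * p.1 * g⁻¹, g * p.2 * g⁻¹)
  invFun p := (g⁻¹ * p.1 * g, g⁻¹ * p.2 * g)
  left_inv p := by simp [mul_assoc]
  right_inv p := by simp [mul_assoc]

theorem card_pairSet_conj (x₁ x₂ w g : G) :
    Nat.card (pairSet x₁ x₂ (g * w * g⁻¹)) = Nat.card (pairSet x₁ x₂ w) := by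
  symm
  apply Nat.card_congr
  refine Equiv.subtypeEquiv (conjPair g) ?_
  intro p
  simp only [pairSet, Set.mem_ofPred_eq, conjPair, Equiv.coe_fn_mk]
  rw [isConj_conj_iff, isConj_conj_iff]
  have e : g * p.1 * g⁻¹ * (g * p.2 * g⁻¹) = g * (p.1 * p.2) * g⁻¹ := by simp [mul_assoc]
  rw [e, mem_zpowers_conj_iff]


/-- for non-conjugate involutions `u`, `v` the cyclic group generated by `u * v` contains a
unique involution -/
theorem unique_involution_zpowers [Finite G] {u v : G} (hu : orderOf u = 2) (hv : orderOf v = 2)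
    (hnc : ¬ IsConj u v) :
    orderOf ((u * v) ^ (orderOf (u * v) / 2)) = 2 ∧
      ∀ w : G, orderOf w = 2 →
        (w ∈ Subgroup.zpowers (u * v) ↔ (u * v) ^ (orderOf (u * v) / 2) = w) := by
  have heven : Even (orderOf (u * v)) := by
    rw [← Nat.not_odd_iff_even]
    intro hodd
    obtain ⟨d, -, hd⟩ := Cfsg.Agent.S0208.result u v hu hv hodd
    exact hnc (isConj_iff.2 ⟨d, hd⟩)
  obtain ⟨hz, -, -⟩ := Cfsg.Agent.S0209.result u v hu hv heven
  refine ⟨hz, ?_⟩
  intro w hw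
  constructor
  · intro hmem
    have hzmem : (u * v) ^ (orderOf (u * v) / 2) ∈ Subgroup.zpowers (u * v) :=
      Subgroup.pow_mem _ (Subgroup.mem_zpowers _) _
    have ha : orderOf (⟨_, hzmem⟩ : Subgroup.zpowers (u * v)) = 2 := by
      rw [Subgroup.orderOf_mk]; exact hz
    have hb : orderOf (⟨w, hmem⟩ : Subgroup.zpowers (u * v)) = 2 := by
      rw [Subgroup.orderOf_mk]; exact hw
    have := Cfsg.Agent.S0220.eq_of_orderOf_two_of_isCyclic ha hb
    exact congrArg Subtype.val this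
  · intro h
    rw [← h]
    exact Subgroup.pow_mem _ (Subgroup.mem_zpowers _) _

/-- Thompson Order Formula, two-class case: if every involution of the finite group G is conjugate to exactly one of the non-conjugate involutions x₁, x₂, and nᵢ is the number of pairs (u, v) with u conjugate to x₁, v conjugate to x₂ and xᵢ in the cyclic group generated by uv, then |G| = |C(x₂)| n₁ + |C(x₁)| n₂. -/
theorem result {G : Type*} [Group G] [Finite G] (x₁ x₂ : G) (h₁ : orderOf x₁ = 2) (h₂ : orderOf x₂ = 2) (hnc : ¬ IsConj x₁ x₂) (hall : ∀ t : G, orderOf t = 2 → IsConj x₁ t ∨ IsConj x₂ t) : Nat.card G = Nat.card (Subgroup.centralizer ({x₂} : Set G)) * Nat.card {p : G × G // IsConj x₁ p.1 ∧ IsConj x₂ p.2 ∧ x₁ ∈ Subgroup.zpowers (p.1 * p.2)} + Nat.card (Subgroup.centralizer ({x₁} : Set G)) * Nat.card {p : G × G // IsConj x₁ p.1 ∧ IsConj x₂ p.2 ∧ x₂ ∈ Subgroup.zpowers (p.1 * p.2)} := by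
  classical
  have := Fintype.ofFinite G
  set K₁ : Finset G := Finset.univ.filter (fun u => IsConj x₁ u) with hK₁
  set K₂ : Finset G := Finset.univ.filter (fun u => IsConj x₂ u) with hK₂
  set A : Finset (G × G) := K₁ ×ˢ K₂ with hA
  set z : G × G → G := fun p => (p.1 * p.2) ^ (orderOf (p.1 * p.2) / 2) with hzdef
  have hmemK₁ : ∀ u, u ∈ K₁ ↔ IsConj x₁ u := fun u => by simp [hK₁]
  have hmemK₂ : ∀ u, u ∈ K₂ ↔ IsConj x₂ u := fun u => by simp [hK₂]
  have hoK₁ : ∀ u ∈ K₁, orderOf u = 2 := by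
    intro u hu
    obtain ⟨g, rfl⟩ := isConj_iff.1 ((hmemK₁ u).1 hu)
    rw [orderOf_conj_eq, h₁]
  have hoK₂ : ∀ u ∈ K₂, orderOf u = 2 := by
    intro u hu
    obtain ⟨g, rfl⟩ := isConj_iff.1 ((hmemK₂ u).1 hu)
    rw [orderOf_conj_eq, h₂]
  have hzA : ∀ p ∈ A, orderOf (z p) = 2 ∧ ∀ w : G, orderOf w = 2 →
      (w ∈ Subgroup.zpowers (p.1 * p.2) ↔ z p = w) := by
    intro p hp
    rw [hA, Finset.mem_product] at hp
    apply unique_involution_zpowers (hoK₁ _ hp.1) (hoK₂ _ hp.2)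
    intro h
    apply hnc
    exact ((hmemK₁ _).1 hp.1).trans (h.trans ((hmemK₂ _).1 hp.2).symm)
  have hdisj : Disjoint K₁ K₂ := by
    rw [Finset.disjoint_left]
    intro u hu1 hu2
    exact hnc (((hmemK₁ u).1 hu1).trans ((hmemK₂ u).1 hu2).symm)
  have hcardA : A.card = ∑ w ∈ K₁ ∪ K₂, (A.filter (fun p => z p = w)).card := by
    apply Finset.card_eq_sum_card_fiberwise
    intro p hp
    rw [Finset.mem_coe, Finset.mem_union, hmemK₁, hmemK₂]
    exact hall _ (hzA p hp).1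
  rw [Finset.sum_union hdisj] at hcardA
  -- the fibres
  have hfib : ∀ w : G, orderOf w = 2 →
      (A.filter (fun p => z p = w)).card = Nat.card (pairSet x₁ x₂ w) := by
    intro w hw
    symm
    apply Nat.subtype_card
    intro p
    rw [Finset.mem_filter, hA, Finset.mem_product, hmemK₁, hmemK₂]
    simp only [pairSet, Set.mem_ofPred_eq]
    constructor
    · rintro ⟨⟨hp1, hp2⟩, hzp⟩
      have hpA : p ∈ A := by rw [hA, Finset.mem_product, hmemK₁, hmemK₂]; exact ⟨hp1, hp2⟩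
      exact ⟨hp1, hp2, ((hzA p hpA).2 w hw).2 hzp⟩
    · rintro ⟨hp1, hp2, hmem⟩
      have hpA : p ∈ A := by rw [hA, Finset.mem_product, hmemK₁, hmemK₂]; exact ⟨hp1, hp2⟩
      exact ⟨⟨hp1, hp2⟩, ((hzA p hpA).2 w hw).1 hmem⟩
  have hfib1 : ∀ w ∈ K₁, (A.filter (fun p => z p = w)).card = Nat.card (pairSet x₁ x₂ x₁) := by
    intro w hw
    rw [hfib w (hoK₁ w hw)]
    obtain ⟨g, rfl⟩ := isConj_iff.1 ((hmemK₁ w).1 hw)
    exact card_pairSet_conj x₁ x₂ x₁ g
  have hfib2 : ∀ w ∈ K₂, (A.filter (fun p => z p = w)).card = Nat.card (pairSet x₁ x₂ x₂) := by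
    intro w hw
    rw [hfib w (hoK₂ w hw)]
    obtain ⟨g, rfl⟩ := isConj_iff.1 ((hmemK₂ w).1 hw)
    exact card_pairSet_conj x₁ x₂ x₂ g
  rw [Finset.sum_congr rfl hfib1, Finset.sum_congr rfl hfib2, Finset.sum_const, Finset.sum_const,
    smul_eq_mul, smul_eq_mul, hA, Finset.card_product] at hcardA
  -- class sizes
  have hc1 := ncard_conj_mul_card_centralizer x₁
  have hc2 := ncard_conj_mul_card_centralizer x₂
  have hk1 : Set.ncard {y : G | IsConj x₁ y} = K₁.card := by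
    rw [← Set.ncard_coe_finset]; congr 1; ext y; simp [hK₁]
  have hk2 : Set.ncard {y : G | IsConj x₂ y} = K₂.card := by
    rw [← Set.ncard_coe_finset]; congr 1; ext y; simp [hK₂]
  rw [hk1] at hc1
  rw [hk2] at hc2
  change Nat.card G = Nat.card (Subgroup.centralizer ({x₂} : Set G)) * Nat.card (pairSet x₁ x₂ x₁) +
    Nat.card (Subgroup.centralizer ({x₁} : Set G)) * Nat.card (pairSet x₁ x₂ x₂)
  set n₁ := Nat.card (pairSet x₁ x₂ x₁)
  set n₂ := Nat.card (pairSet x₁ x₂ x₂)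
  set c₁ := Nat.card (Subgroup.centralizer ({x₁} : Set G))
  set c₂ := Nat.card (Subgroup.centralizer ({x₂} : Set G))
  have hGpos : 0 < Nat.card G := Nat.card_pos
  apply Nat.eq_of_mul_eq_mul_left hGpos
  calc Nat.card G * Nat.card G = (K₁.card * c₁) * (K₂.card * c₂) := by rw [hc1, hc2]
    _ = (K₁.card * K₂.card) * (c₁ * c₂) := by ring
    _ = (K₁.card * n₁ + K₂.card * n₂) * (c₁ * c₂) := by rw [hcardA]
    _ = (K₁.card * c₁) * (c₂ * n₁) + (K₂.card * c₂) * (c₁ * n₂) := by ring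
    _ = Nat.card G * (c₂ * n₁ + c₁ * n₂) := by rw [hc1, hc2]; ring

end Cfsg.Agent.S0213
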