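import Cfsg.Statements.S3738
-- import your own Cfsg.Agent.* helpers here

set_option autoImplicit false
open Cfsg

namespace Cfsg.Agent.S3738

section Poly
open MvPolynomial

theorem zmod2_cases (c : ZMod 2) : c = 0 ∨ c = 1 := by
  revert c; decide

/-- quadratic functions on an F₂-space are polynomial of degree ≤ 2 in coordinates -/
theorem exists_poly {V ι : Type*} [AddCommGroup V] [Module (ZMod 2) V] [Fintype ι] [DecidableEq ι]
    (q : V → ZMod 2) (B : V → V → ZMod 2)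
    (hq : ∀ v w, q (v + w) = q v + q w + B v w)
    (hBl : ∀ u v w, B (u + v) w = B u w + B v w)
    (hBr : ∀ u v w, B u (v + w) = B u v + B u w)
    (b : ι → V) (s : Finset ι) :
    ∃ P : MvPolynomial ι (ZMod 2), P.totalDegree ≤ 2 ∧
      ∀ ε : ι → ZMod 2, eval ε P = q (∑ i ∈ s, ε i • b i) := by
  classical
  have hB0l : ∀ w, B 0 w = 0 := by
    intro w
    have := hBl 0 0 w
    simp only [add_zero] at this
    have h2 : B 0 w + B 0 w = B 0 w + 0 := by rw [add_zero]; exact this.symm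
    exact add_left_cancel h2
  have hB0r : ∀ w, B w 0 = 0 := by
    intro w
    have := hBr w 0 0
    simp only [add_zero] at this
    have h2 : B w 0 + B w 0 = B w 0 + 0 := by rw [add_zero]; exact this.symm
    exact add_left_cancel h2
  have hq0 : q 0 = 0 := by
    have := hq 0 0
    simp only [add_zero, hB0l] at this
    have h2 : q 0 + q 0 = q 0 + 0 := by rw [add_zero]; exact this.symm
    exact add_left_cancel h2
  have hqs : ∀ (c : ZMod 2) (v : V), q (c • v) = c * q v := by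
    intro c v
    rcases zmod2_cases c with rfl | rfl
    · simp [hq0]
    · simp
  have hBsl : ∀ (c : ZMod 2) (v w : V), B (c • v) w = c * B v w := by
    intro c v w
    rcases zmod2_cases c with rfl | rfl
    · simp [hB0l]
    · simp
  have hBsr : ∀ (c : ZMod 2) (v w : V), B v (c • w) = c * B v w := by
    intro c v w
    rcases zmod2_cases c with rfl | rfl
    · simp [hB0r]
    · simp
  have hBsum : ∀ (v : V) (t : Finset ι) (f : ι → V), B v (∑ i ∈ t, f i) = ∑ i ∈ t, B v (f i) := by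
    intro v t f
    induction t using Finset.induction_on with
    | empty => simp [hB0r]
    | insert a t ha ih => rw [Finset.sum_insert ha, Finset.sum_insert ha, hBr, ih]
  induction s using Finset.induction_on with
  | empty =>
    exact ⟨0, by simp, by intro ε; simp [hq0]⟩
  | insert a s ha ih =>
    obtain ⟨P, hP, hPe⟩ := ih
    refine ⟨C (q (b a)) * X a + P + X a * ∑ i ∈ s, C (B (b a) (b i)) * X i, ?_, ?_⟩
    · refine (totalDegree_add _ _).trans (max_le ((totalDegree_add _ _).trans (max_le ?_ hP)) ?_)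
      · refine (totalDegree_mul _ _).trans ?_
        rw [totalDegree_C, totalDegree_X]; norm_num
      · refine (totalDegree_mul _ _).trans ?_
        rw [totalDegree_X]
        have : (∑ i ∈ s, C (B (b a) (b i)) * X i : MvPolynomial ι (ZMod 2)).totalDegree ≤ 1 := by
          refine (totalDegree_finsetSum _ _).trans ?_
          apply Finset.sup_le
          intro i _
          refine (totalDegree_mul _ _).trans ?_
          rw [totalDegree_C, totalDegree_X]
        omega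
    · intro ε
      rw [Finset.sum_insert ha, hq, hqs, hBsl, hBsum, ← hPe]
      simp only [map_add, map_mul, eval_C, eval_X, map_sum, hBsr]
      have : ∀ x, B (b a) (b x) * ε x = ε x * B (b a) (b x) := fun x => mul_comm _ _
      simp only [this]
      ring

/-- two quadratic functions on a finite F₂-space of dimension ≥ 5 have a common nonzero zero -/
theorem exists_common_zero {V : Type*} [AddCommGroup V] [Module (ZMod 2) V] [Finite V]
    (hdim : 5 ≤ Module.finrank (ZMod 2) V)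
    (q₁ q₂ : V → ZMod 2) (B₁ B₂ : V → V → ZMod 2)
    (hq₁ : ∀ v w, q₁ (v + w) = q₁ v + q₁ w + B₁ v w)
    (hB₁l : ∀ u v w, B₁ (u + v) w = B₁ u w + B₁ v w)
    (hB₁r : ∀ u v w, B₁ u (v + w) = B₁ u v + B₁ u w)
    (hq₂ : ∀ v w, q₂ (v + w) = q₂ v + q₂ w + B₂ v w)
    (hB₂l : ∀ u v w, B₂ (u + v) w = B₂ u w + B₂ v w)
    (hB₂r : ∀ u v w, B₂ u (v + w) = B₂ u v + B₂ u w) :
    ∃ v : V, v ≠ 0 ∧ q₁ v = 0 ∧ q₂ v = 0 := by
  classical
  have : Module.Finite (ZMod 2) V := Module.Finite.of_finite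
  let b := Module.finBasis (ZMod 2) V
  set m := Module.finrank (ZMod 2) V with hm
  obtain ⟨P₁, hP₁, hP₁e⟩ := exists_poly q₁ B₁ hq₁ hB₁l hB₁r b Finset.univ
  obtain ⟨P₂, hP₂, hP₂e⟩ := exists_poly q₂ B₂ hq₂ hB₂l hB₂r b Finset.univ
  have hlt : P₁.totalDegree + P₂.totalDegree < Fintype.card (Fin m) := by
    rw [Fintype.card_fin]; omega
  have hdvd := char_dvd_card_solutions_of_add_lt (K := ZMod 2) 2 hlt
  have h0 : eval (0 : Fin m → ZMod 2) P₁ = 0 ∧ eval (0 : Fin m → ZMod 2) P₂ = 0 := by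
    rw [hP₁e, hP₂e]
    simp only [Pi.zero_apply, zero_smul, Finset.sum_const_zero]
    constructor
    · have := hq₁ 0 0
      have hb : B₁ 0 0 = 0 := by
        have := hB₁l 0 0 0
        simp only [add_zero] at this
        have h2 : B₁ 0 0 + B₁ 0 0 = B₁ 0 0 + 0 := by rw [add_zero]; exact this.symm
        exact add_left_cancel h2
      simp only [add_zero, hb] at this
      have h2 : q₁ 0 + q₁ 0 = q₁ 0 + 0 := by rw [add_zero]; exact this.symm
      exact add_left_cancel h2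
    · have := hq₂ 0 0
      have hb : B₂ 0 0 = 0 := by
        have := hB₂l 0 0 0
        simp only [add_zero] at this
        have h2 : B₂ 0 0 + B₂ 0 0 = B₂ 0 0 + 0 := by rw [add_zero]; exact this.symm
        exact add_left_cancel h2
      simp only [add_zero, hb] at this
      have h2 : q₂ 0 + q₂ 0 = q₂ 0 + 0 := by rw [add_zero]; exact this.symm
      exact add_left_cancel h2
  have hcard : 1 < Fintype.card { x : Fin m → ZMod 2 // eval x P₁ = 0 ∧ eval x P₂ = 0 } := by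
    have hpos : 0 < Fintype.card { x : Fin m → ZMod 2 // eval x P₁ = 0 ∧ eval x P₂ = 0 } :=
      Fintype.card_pos_iff.mpr ⟨⟨0, h0⟩⟩
    have := Nat.le_of_dvd hpos hdvd
    omega
  obtain ⟨⟨ε, hε⟩, hne⟩ := Fintype.exists_ne_of_one_lt_card hcard ⟨0, h0⟩
  refine ⟨∑ i, ε i • b i, ?_, ?_, ?_⟩
  · intro h0'
    apply hne
    apply Subtype.ext
    show ε = 0
    have := (Fintype.linearIndependent_iff.mp b.linearIndependent) ε h0'
    funext i; exact this i
  · rw [← hP₁e]; exact hε.1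
  · rw [← hP₂e]; exact hε.2



end Poly

theorem exists_functionals {A : Type*} [CommGroup A] [Finite A]
    (h4 : Nat.card (powMonoidHom 2 : A →* A).ker = 4) :
    ∃ l₁ l₂ : A → ZMod 2, (∀ z w, l₁ (z * w) = l₁ z + l₁ w) ∧ (∀ z w, l₂ (z * w) = l₂ z + l₂ w) ∧
      ∀ z, l₁ z = 0 → l₂ z = 0 → ∃ w : A, z = w ^ 2 := by
  classical
  set sq : A →* A := powMonoidHom 2 with hsq
  set S : Subgroup A := sq.range with hS
  have hidx : S.index = 4 := by
    have h1 := Subgroup.card_mul_index sq.ker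
    rw [Subgroup.index_ker, h4] at h1
    have h2 := Subgroup.card_mul_index S
    have hpos : 0 < Nat.card S := Nat.card_pos
    have : Nat.card S * S.index = Nat.card S * 4 := by rw [h2, ← h1, mul_comm]
    exact Nat.eq_of_mul_eq_mul_left hpos this
  have hK : IsKleinFour (A ⧸ S) := by
    refine ⟨by rw [← Subgroup.index_eq_card, hidx], ?_⟩
    have hdvd : Monoid.exponent (A ⧸ S) ∣ 2 := by
      apply Monoid.exponent_dvd_of_forall_pow_eq_one
      intro x
      induction x using QuotientGroup.induction_on with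
      | H a =>
        rw [← QuotientGroup.mk_pow, QuotientGroup.eq_one_iff]
        exact ⟨a, rfl⟩
    rcases (Nat.dvd_prime Nat.prime_two).mp hdvd with h | h
    · exfalso
      have : Subsingleton (A ⧸ S) := Monoid.exp_eq_one_iff.mp h
      have hc : Nat.card (A ⧸ S) = 1 := Nat.card_unique
      rw [← Subgroup.index_eq_card, hidx] at hc
      omega
    · exact h
  obtain ⟨φ⟩ := IsKleinFour.nonempty_mulEquiv (G₁ := A ⧸ S) (G₂ := Multiplicative (ZMod 2 × ZMod 2))
  refine ⟨fun z => (Multiplicative.toAdd (φ (QuotientGroup.mk z))).1,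
    fun z => (Multiplicative.toAdd (φ (QuotientGroup.mk z))).2, ?_, ?_, ?_⟩
  · intro z w
    simp [QuotientGroup.mk_mul]
  · intro z w
    simp [QuotientGroup.mk_mul]
  · intro z h1 h2
    have : φ (QuotientGroup.mk z) = 1 := by
      apply Multiplicative.toAdd.injective
      exact Prod.ext h1 h2
    have h3 : (QuotientGroup.mk z : A ⧸ S) = 1 := by
      have := congrArg φ.symm this
      simpa using this
    rw [QuotientGroup.eq_one_iff] at h3
    obtain ⟨w, hw⟩ := h3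
    exact ⟨w, hw.symm⟩


open scoped commutatorElement

section Quad
variable {G : Type*} [Group G]

theorem sq_mul_of_central (a b : G) (hc : a * ⁅b, a⁆ = ⁅b, a⁆ * a) :
    (a * b) ^ 2 = ⁅b, a⁆ * a ^ 2 * b ^ 2 := by
  have h1 : b * a = ⁅b, a⁆ * a * b := by
    rw [commutatorElement_def]; group
  calc (a * b) ^ 2 = a * (b * a) * b := by rw [pow_two]; simp only [mul_assoc]
    _ = a * (⁅b, a⁆ * a * b) * b := by rw [h1]
    _ = (a * ⁅b, a⁆) * a * b * b := by simp only [mul_assoc]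
    _ = ⁅b, a⁆ * a * a * b * b := by rw [hc]
    _ = ⁅b, a⁆ * a ^ 2 * b ^ 2 := by rw [pow_two, pow_two]; simp only [mul_assoc]

theorem comm_mul_right_of_central (b a a' : G) (hc : ∀ g : G, g * ⁅b, a'⁆ = ⁅b, a'⁆ * g) :
    ⁅b, a * a'⁆ = ⁅b, a⁆ * ⁅b, a'⁆ := by
  have h : ⁅b, a * a'⁆ = ⁅b, a⁆ * (a * ⁅b, a'⁆) * a⁻¹ := by
    simp only [commutatorElement_def]; group
  rw [h, hc a]; group

theorem comm_mul_left_of_central (b b' a : G) (hc : ∀ g : G, g * ⁅b', a⁆ = ⁅b', a⁆ * g) :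
    ⁅b * b', a⁆ = ⁅b, a⁆ * ⁅b', a⁆ := by
  have h : ⁅b * b', a⁆ = (b * ⁅b', a⁆) * b⁻¹ * ⁅b, a⁆ := by
    simp only [commutatorElement_def]; group
  rw [h, hc b]
  have := hc ⁅b, a⁆
  calc ⁅b', a⁆ * b * b⁻¹ * ⁅b, a⁆ = ⁅b', a⁆ * ⁅b, a⁆ := by group
    _ = ⁅b, a⁆ * ⁅b', a⁆ := this.symm

end Quad

theorem quad_data {G : Type*} [Group G]
    (hcl : ∀ u v : G, ⁅u, v⁆ ∈ Subgroup.center G)
    (hsq : ∀ u : G, u ^ 2 ∈ Subgroup.center G)
    (l : Subgroup.center G → ZMod 2) (hl : ∀ z w, l (z * w) = l z + l w) :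
    ∃ (q : G ⧸ Subgroup.center G → ZMod 2)
      (B : G ⧸ Subgroup.center G → G ⧸ Subgroup.center G → ZMod 2),
      (∀ v w, q (v * w) = q v + q w + B v w) ∧ (∀ u v w, B (u * v) w = B u w + B v w) ∧
      (∀ u v w, B u (v * w) = B u v + B u w) ∧
      ∀ a : G, q (QuotientGroup.mk a) = l ⟨a ^ 2, hsq a⟩ := by
  classical
  set qh : G → ZMod 2 := fun a => l ⟨a ^ 2, hsq a⟩ with hqh_def
  set Bh : G → G → ZMod 2 := fun a b => l ⟨⁅b, a⁆, hcl b a⟩ with hBh_def
  have hc : ∀ u v g : G, g * ⁅u, v⁆ = ⁅u, v⁆ * g :=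
    fun u v g => Subgroup.mem_center_iff.mp (hcl u v) g
  have l1 : l 1 = 0 := by
    have := hl 1 1
    rw [one_mul] at this
    have h2 : l 1 + l 1 = l 1 + 0 := by rw [add_zero]; exact this.symm
    exact add_left_cancel h2
  have hqh : ∀ a b, qh (a * b) = qh a + qh b + Bh a b := by
    intro a b
    have : (⟨(a * b) ^ 2, hsq _⟩ : Subgroup.center G) =
        ⟨⁅b, a⁆, hcl b a⟩ * ⟨a ^ 2, hsq a⟩ * ⟨b ^ 2, hsq b⟩ :=
      Subtype.ext (sq_mul_of_central a b (hc b a a))
    show l ⟨(a * b) ^ 2, hsq _⟩ = l ⟨a ^ 2, hsq a⟩ + l ⟨b ^ 2, hsq b⟩ + l ⟨⁅b, a⁆, hcl b a⟩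
    rw [this, hl, hl]; ring
  have hBhl : ∀ a a' b, Bh (a * a') b = Bh a b + Bh a' b := by
    intro a a' b
    have : (⟨⁅b, a * a'⁆, hcl _ _⟩ : Subgroup.center G) =
        ⟨⁅b, a⁆, hcl b a⟩ * ⟨⁅b, a'⁆, hcl b a'⟩ :=
      Subtype.ext (comm_mul_right_of_central b a a' (hc b a'))
    show l ⟨⁅b, a * a'⁆, hcl _ _⟩ = l ⟨⁅b, a⁆, hcl b a⟩ + l ⟨⁅b, a'⁆, hcl b a'⟩
    rw [this, hl]
  have hBhr : ∀ a b b', Bh a (b * b') = Bh a b + Bh a b' := by
    intro a b b'
    have : (⟨⁅b * b', a⁆, hcl _ _⟩ : Subgroup.center G) =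
        ⟨⁅b, a⁆, hcl b a⟩ * ⟨⁅b', a⁆, hcl b' a⟩ :=
      Subtype.ext (comm_mul_left_of_central b b' a (hc b' a))
    show l ⟨⁅b * b', a⁆, hcl _ _⟩ = l ⟨⁅b, a⁆, hcl b a⟩ + l ⟨⁅b', a⁆, hcl b' a⟩
    rw [this, hl]
  have hqz : ∀ z ∈ Subgroup.center G, qh z = 0 := by
    intro z hz
    have : (⟨z ^ 2, hsq z⟩ : Subgroup.center G) = ⟨z, hz⟩ * ⟨z, hz⟩ := Subtype.ext (pow_two z)
    show l ⟨z ^ 2, hsq z⟩ = 0
    rw [this, hl]
    exact CharTwo.add_self_eq_zero _
  have hBzl : ∀ z ∈ Subgroup.center G, ∀ b, Bh z b = 0 := by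
    intro z hz b
    have : (⟨⁅b, z⁆, hcl b z⟩ : Subgroup.center G) = 1 := by
      apply Subtype.ext
      show ⁅b, z⁆ = 1
      rw [commutatorElement_def, Subgroup.mem_center_iff.mp hz b]; group
    show l ⟨⁅b, z⁆, hcl b z⟩ = 0
    rw [this, l1]
  have hBzr : ∀ z ∈ Subgroup.center G, ∀ a, Bh a z = 0 := by
    intro z hz a
    have : (⟨⁅z, a⁆, hcl z a⟩ : Subgroup.center G) = 1 := by
      apply Subtype.ext
      show ⁅z, a⁆ = 1
      rw [commutatorElement_def, ← Subgroup.mem_center_iff.mp hz a]; group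
    show l ⟨⁅z, a⁆, hcl z a⟩ = 0
    rw [this, l1]
  have hout : ∀ a : G, ∃ z ∈ Subgroup.center G,
      (QuotientGroup.mk a : G ⧸ Subgroup.center G).out = a * z := by
    intro a
    refine ⟨a⁻¹ * (QuotientGroup.mk a : G ⧸ Subgroup.center G).out, ?_, by group⟩
    rw [← QuotientGroup.eq]
    exact (QuotientGroup.out_eq' _).symm
  refine ⟨fun w => qh w.out, fun v w => Bh v.out w.out, ?_, ?_, ?_, ?_⟩
  all_goals
    have hqmk : ∀ a : G, qh (QuotientGroup.mk a : G ⧸ Subgroup.center G).out = qh a := by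
      intro a
      obtain ⟨z, hz, h⟩ := hout a
      rw [h, hqh, hqz z hz, hBzr z hz]; ring
    have hBmk : ∀ a b : G, Bh (QuotientGroup.mk a : G ⧸ Subgroup.center G).out
        (QuotientGroup.mk b : G ⧸ Subgroup.center G).out = Bh a b := by
      intro a b
      obtain ⟨z, hz, h⟩ := hout a
      obtain ⟨z', hz', h'⟩ := hout b
      rw [h, h', hBhl, hBhr, hBhr, hBzl z hz, hBzl z hz, hBzr z' hz']; ring
  · intro v w
    induction v using QuotientGroup.induction_on with
    | H a =>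
      induction w using QuotientGroup.induction_on with
      | H b =>
        show qh (QuotientGroup.mk a * QuotientGroup.mk b : G ⧸ Subgroup.center G).out = _
        rw [← QuotientGroup.mk_mul]
        show qh (QuotientGroup.mk (a * b) : G ⧸ Subgroup.center G).out =
          qh (QuotientGroup.mk a : G ⧸ Subgroup.center G).out +
          qh (QuotientGroup.mk b : G ⧸ Subgroup.center G).out +
          Bh (QuotientGroup.mk a : G ⧸ Subgroup.center G).out
            (QuotientGroup.mk b : G ⧸ Subgroup.center G).out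
        rw [hqmk, hqmk, hqmk, hBmk, hqh]
  · intro u v w
    induction u using QuotientGroup.induction_on with
    | H a =>
      induction v using QuotientGroup.induction_on with
      | H b =>
        induction w using QuotientGroup.induction_on with
        | H c =>
          show Bh (QuotientGroup.mk a * QuotientGroup.mk b : G ⧸ Subgroup.center G).out _ = _
          rw [← QuotientGroup.mk_mul]
          show Bh (QuotientGroup.mk (a * b) : G ⧸ Subgroup.center G).out
              (QuotientGroup.mk c : G ⧸ Subgroup.center G).out =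
            Bh (QuotientGroup.mk a : G ⧸ Subgroup.center G).out
              (QuotientGroup.mk c : G ⧸ Subgroup.center G).out +
            Bh (QuotientGroup.mk b : G ⧸ Subgroup.center G).out
              (QuotientGroup.mk c : G ⧸ Subgroup.center G).out
          rw [hBmk, hBmk, hBmk, hBhl]
  · intro u v w
    induction u using QuotientGroup.induction_on with
    | H a =>
      induction v using QuotientGroup.induction_on with
      | H b =>
        induction w using QuotientGroup.induction_on with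
        | H c =>
          show Bh _ (QuotientGroup.mk b * QuotientGroup.mk c : G ⧸ Subgroup.center G).out = _
          rw [← QuotientGroup.mk_mul]
          show Bh (QuotientGroup.mk a : G ⧸ Subgroup.center G).out
              (QuotientGroup.mk (b * c) : G ⧸ Subgroup.center G).out =
            Bh (QuotientGroup.mk a : G ⧸ Subgroup.center G).out
              (QuotientGroup.mk b : G ⧸ Subgroup.center G).out +
            Bh (QuotientGroup.mk a : G ⧸ Subgroup.center G).out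
              (QuotientGroup.mk c : G ⧸ Subgroup.center G).out
          rw [hBmk, hBmk, hBmk, hBhr]
  · intro a
    exact hqmk a

theorem exists_involution {G : Type*} [Group G] [Finite G]
    (hcl : ∀ u v : G, ⁅u, v⁆ ∈ Subgroup.center G)
    (hsq : ∀ u : G, u ^ 2 ∈ Subgroup.center G)
    (hidx : 32 ≤ (Subgroup.center G).index)
    (l₁ l₂ : Subgroup.center G → ZMod 2)
    (hl₁ : ∀ z w, l₁ (z * w) = l₁ z + l₁ w) (hl₂ : ∀ z w, l₂ (z * w) = l₂ z + l₂ w)
    (hker : ∀ z, l₁ z = 0 → l₂ z = 0 → ∃ w : Subgroup.center G, z = w ^ 2) :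
    ∃ t : G, t ∉ Subgroup.center G ∧ t ^ 2 = 1 := by
  classical
  obtain ⟨q₁, B₁, hq₁, hB₁l, hB₁r, hq₁mk⟩ := quad_data hcl hsq l₁ hl₁
  obtain ⟨q₂, B₂, hq₂, hB₂l, hB₂r, hq₂mk⟩ := quad_data hcl hsq l₂ hl₂
  have hWsq : ∀ w : G ⧸ Subgroup.center G, w * w = 1 := by
    intro w
    induction w using QuotientGroup.induction_on with
    | H a =>
      rw [← QuotientGroup.mk_mul, QuotientGroup.eq_one_iff, ← pow_two]
      exact hsq a
  let cg : CommGroup (G ⧸ Subgroup.center G) :=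
    { (inferInstance : Group (G ⧸ Subgroup.center G)) with
      mul_comm := by
        intro a b
        have h1 := hWsq (a * b)
        have h2 : a * b = b⁻¹ * a⁻¹ := by
          rw [← mul_inv_rev]; exact eq_inv_of_mul_eq_one_left h1
        rw [h2, inv_eq_of_mul_eq_one_left (hWsq a), inv_eq_of_mul_eq_one_left (hWsq b)] }
  let md : Module (ZMod 2) (Additive (G ⧸ Subgroup.center G)) :=
    AddCommGroup.zmodModule (n := 2) (by
      intro x
      rw [two_nsmul]
      exact hWsq (Additive.toMul x))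
  have hfin : Module.Finite (ZMod 2) (Additive (G ⧸ Subgroup.center G)) := Module.Finite.of_finite
  have hdim : 5 ≤ Module.finrank (ZMod 2) (Additive (G ⧸ Subgroup.center G)) := by
    have h1 := Module.natCard_eq_pow_finrank (K := ZMod 2)
      (V := Additive (G ⧸ Subgroup.center G))
    rw [Nat.card_zmod] at h1
    have h2 : Nat.card (Additive (G ⧸ Subgroup.center G)) = (Subgroup.center G).index := by
      rw [Subgroup.index_eq_card]; rfl
    by_contra hlt
    push Not at hlt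
    have h3 : 2 ^ Module.finrank (ZMod 2) (Additive (G ⧸ Subgroup.center G)) ≤ 2 ^ 4 :=
      Nat.pow_le_pow_right (by norm_num) (by omega)
    rw [← h1, h2] at h3
    omega
  obtain ⟨v, hv0, hv1, hv2⟩ := exists_common_zero (V := Additive (G ⧸ Subgroup.center G)) hdim
    (fun v => q₁ (Additive.toMul v)) (fun v => q₂ (Additive.toMul v))
    (fun v w => B₁ (Additive.toMul v) (Additive.toMul w))
    (fun v w => B₂ (Additive.toMul v) (Additive.toMul w))
    (fun v w => hq₁ _ _) (fun u v w => hB₁l _ _ _) (fun u v w => hB₁r _ _ _)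
    (fun v w => hq₂ _ _) (fun u v w => hB₂l _ _ _) (fun u v w => hB₂r _ _ _)
  set w : G ⧸ Subgroup.center G := Additive.toMul v with hw
  have hw1 : w ≠ 1 := by
    intro h
    apply hv0
    exact Additive.toMul.injective h
  obtain ⟨x, hx⟩ := QuotientGroup.mk_surjective w
  have hxZ : x ∉ Subgroup.center G := by
    intro h
    apply hw1
    rw [← hx, QuotientGroup.eq_one_iff]; exact h
  have e1 : l₁ ⟨x ^ 2, hsq x⟩ = 0 := by rw [← hq₁mk, hx]; exact hv1
  have e2 : l₂ ⟨x ^ 2, hsq x⟩ = 0 := by rw [← hq₂mk, hx]; exact hv2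
  obtain ⟨z, hz⟩ := hker _ e1 e2
  have hz' : x ^ 2 = (z : G) ^ 2 := by
    have := congrArg Subtype.val hz
    simpa using this
  have hzc : ∀ g : G, g * (z : G) = (z : G) * g := Subgroup.mem_center_iff.mp z.2
  refine ⟨x * (z : G)⁻¹, ?_, ?_⟩
  · intro h
    apply hxZ
    have : x = x * (z : G)⁻¹ * z := by group
    rw [this]
    exact (Subgroup.center G).mul_mem h z.2
  · have hzi : ∀ g : G, g * (z : G)⁻¹ = (z : G)⁻¹ * g := by
      intro g
      have := hzc g
      calc g * (z : G)⁻¹ = (z : G)⁻¹ * ((z : G) * g) * (z : G)⁻¹ := by group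
        _ = (z : G)⁻¹ * (g * (z : G)) * (z : G)⁻¹ := by rw [this]
        _ = (z : G)⁻¹ * g := by group
    calc (x * (z : G)⁻¹) ^ 2 = x * ((z : G)⁻¹ * x) * (z : G)⁻¹ := by
          rw [pow_two]; simp only [mul_assoc]
      _ = x * (x * (z : G)⁻¹) * (z : G)⁻¹ := by rw [hzi x]
      _ = x ^ 2 * ((z : G) ^ 2)⁻¹ := by rw [pow_two, pow_two, mul_inv_rev]; simp only [mul_assoc]
      _ = 1 := by rw [hz', mul_inv_cancel]




section Act

/-- if `k` divides the index of every point stabilizer on an invariant finite set, `k` divides its size -/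
theorem dvd_card_of_dvd_index {D α : Type*} [Group D] [Finite D] [MulAction D α]
    (S : Set α) [Finite S] (hS : ∀ g : D, ∀ x ∈ S, g • x ∈ S) (k : ℕ)
    (hk : ∀ x ∈ S, k ∣ (MulAction.stabilizer D x).index) : k ∣ Nat.card S := by
  classical
  let Ω : SubMulAction D α := ⟨S, fun g x hx => hS g x hx⟩
  have hfin : Finite Ω := ‹Finite S›
  have : Fintype (Quotient (MulAction.orbitRel D Ω)) := Fintype.ofFinite _
  have e := MulAction.selfEquivSigmaOrbitsQuotientStabilizer D Ω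
  show k ∣ Nat.card Ω
  rw [Nat.card_congr e, Nat.card_sigma]
  apply Finset.dvd_sum
  intro ω _
  rw [← Subgroup.index_eq_card, SubMulAction.stabilizer_of_subMul]
  exact hk _ (ω.out).2

variable {X : Type*} [Group X]

theorem nine_dvd_index [Finite X] (d : X) (n : ℕ) (hd : orderOf d = 3 ^ n) (x : X)
    (hx : d ^ 3 * x * (d ^ 3)⁻¹ ≠ x) :
    9 ∣ (MulAction.stabilizer (Subgroup.zpowers (ConjAct.toConjAct d)) x).index := by
  classical
  set D' := Subgroup.zpowers (ConjAct.toConjAct d) with hD'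
  set S := MulAction.stabilizer D' x with hS
  have hcard : Nat.card D' = 3 ^ n := by
    rw [Nat.card_zpowers, ← hd]
    exact MulEquiv.orderOf_eq ConjAct.toConjAct d
  have hdvd : S.index ∣ 3 ^ n := hcard ▸ Subgroup.index_dvd_card S
  obtain ⟨j, hj, hidx⟩ := (Nat.dvd_prime_pow Nat.prime_three).mp hdvd
  by_cases hj1 : j ≤ 1
  · exfalso
    apply hx
    have h3 : S.index ∣ 3 := by
      rw [hidx]
      calc 3 ^ j ∣ 3 ^ 1 := pow_dvd_pow 3 hj1
        _ = 3 := by norm_num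
    let g : D' := ⟨ConjAct.toConjAct d, Subgroup.mem_zpowers _⟩
    have hg : g ^ S.index ∈ S := Subgroup.pow_index_mem S g
    obtain ⟨k, hk⟩ := h3
    have hg3 : g ^ 3 ∈ S := by
      rw [hk, pow_mul]
      exact S.pow_mem hg k
    rw [MulAction.mem_stabilizer_iff] at hg3
    have : (g ^ 3 : D') • x = d ^ 3 * x * (d ^ 3)⁻¹ := by
      rw [Subgroup.smul_def]
      show ((ConjAct.toConjAct d) ^ 3 : ConjAct X) • x = _
      rw [← map_pow, ConjAct.toConjAct_smul]
    rw [← this]; exact hg3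
  · push Not at hj1
    rw [hidx]
    calc 9 = 3 ^ 2 := by norm_num
      _ ∣ 3 ^ j := pow_dvd_pow 3 hj1

theorem three_dvd_index [Finite X] (d : X) (n : ℕ) (hd : orderOf d = 3 ^ n) (x : X)
    (hx : d * x * d⁻¹ ≠ x) :
    3 ∣ (MulAction.stabilizer (Subgroup.zpowers (ConjAct.toConjAct d)) x).index := by
  classical
  set D' := Subgroup.zpowers (ConjAct.toConjAct d) with hD'
  set S := MulAction.stabilizer D' x with hS
  have hcard : Nat.card D' = 3 ^ n := by
    rw [Nat.card_zpowers, ← hd]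
    exact MulEquiv.orderOf_eq ConjAct.toConjAct d
  have hdvd : S.index ∣ 3 ^ n := hcard ▸ Subgroup.index_dvd_card S
  obtain ⟨j, hj, hidx⟩ := (Nat.dvd_prime_pow Nat.prime_three).mp hdvd
  by_cases hj1 : j = 0
  · exfalso
    apply hx
    rw [hj1, pow_zero, Subgroup.index_eq_one] at hidx
    let g : D' := ⟨ConjAct.toConjAct d, Subgroup.mem_zpowers _⟩
    have hg : g ∈ S := by rw [hidx]; trivial
    rw [MulAction.mem_stabilizer_iff] at hg
    have : (g : D') • x = d * x * d⁻¹ := by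
      rw [Subgroup.smul_def]
      show (ConjAct.toConjAct d : ConjAct X) • x = _
      rw [ConjAct.toConjAct_smul]
    rw [← this]; exact hg
  · rw [hidx]
    exact dvd_pow_self 3 hj1

/-- elements of `zpowers (toConjAct d)` act as conjugation by elements of `zpowers d` -/
theorem smul_zpowers_conj (d : X) (g : Subgroup.zpowers (ConjAct.toConjAct d)) (x : X) :
    ∃ c ∈ Subgroup.zpowers d, g • x = c * x * c⁻¹ := by
  obtain ⟨g, hg⟩ := g
  obtain ⟨k, rfl⟩ := Subgroup.mem_zpowers_iff.mp hg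
  refine ⟨d ^ k, Subgroup.zpow_mem_zpowers d k, ?_⟩
  rw [Subgroup.smul_def]
  show ((ConjAct.toConjAct d) ^ k : ConjAct X) • x = _
  rw [← map_zpow, ConjAct.toConjAct_smul]

end Act


open Subgroup

section Main
variable {X : Type*} [Group X]

theorem conj_mem_of_mem_normalizer {R : Subgroup X} {g u : X}
    (hg : g ∈ normalizer (R : Set X)) (hu : u ∈ R) : g * u * g⁻¹ ∈ R :=
  (mem_normalizer_iff.mp hg u).mp hu

theorem conj_inv_mem_of_mem_normalizer {R : Subgroup X} {g u : X}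
    (hg : g ∈ normalizer (R : Set X)) (hu : u ∈ R) : g⁻¹ * u * g ∈ R := by
  have := conj_mem_of_mem_normalizer ((normalizer (R : Set X)).inv_mem hg) hu
  simpa using this

theorem mem_normalizer_of_conj_mem [Finite X] {R : Subgroup X} {g : X}
    (h : ∀ u ∈ R, g * u * g⁻¹ ∈ R) : g ∈ normalizer (R : Set X) := by
  have hpow : ∀ k : ℕ, ∀ v ∈ R, g ^ k * v * (g ^ k)⁻¹ ∈ R := by
    intro k
    induction k with
    | zero => intro v hv; simpa using hv
    | succ k ih =>
      intro v hv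
      have := h _ (ih v hv)
      have e : g ^ (k + 1) * v * (g ^ (k + 1))⁻¹ = g * (g ^ k * v * (g ^ k)⁻¹) * g⁻¹ := by
        rw [pow_succ']; group
      rw [e]; exact this
  have hinv : g ^ (orderOf g - 1) = g⁻¹ := by
    apply eq_inv_of_mul_eq_one_left
    rw [← pow_succ, Nat.sub_add_cancel (orderOf_pos g), pow_orderOf_eq_one]
  rw [mem_normalizer_iff]
  intro u
  refine ⟨h u, fun hu => ?_⟩
  have := hpow (orderOf g - 1) _ hu
  rw [hinv] at this
  simpa [mul_assoc] using this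

variable [Finite X]

/-- the minimal counterexample configuration -/
structure MC (d y : X) (n : ℕ) (Q : Subgroup X) : Prop where
  hQ : IsPGroup 2 Q
  hdQ : d ∈ normalizer (Q : Set X)
  hfpf : Q ⊓ centralizer {d} = ⊥
  hE : ∀ E : Subgroup X, E ≤ Q → (∀ a ∈ E, ∀ b ∈ E, a * b = b * a) → (∀ a ∈ E, a ^ 2 = 1) →
    Nat.card E ≤ 4
  hd : orderOf d = 3 ^ n
  hyd : y ∈ zpowers (d ^ 3)
  hy3 : y ^ 3 = 1
  hmc : ∀ R : Subgroup X, R ≤ Q → R ≠ Q → d ∈ normalizer (R : Set X) →
    y ∈ centralizer (R : Set X)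
  hny : y ∉ centralizer (Q : Set X)

namespace MC
variable {d y : X} {n : ℕ} {Q : Subgroup X}

theorem y_mem (h : MC d y n Q) : y ∈ zpowers d :=
  (zpowers_le.mpr (pow_mem (mem_zpowers d) 3)) h.hyd

theorem y_norm (h : MC d y n Q) {R : Subgroup X} (hR : d ∈ normalizer (R : Set X)) :
    y ∈ normalizer (R : Set X) :=
  (zpowers_le.mpr hR) h.y_mem

theorem comm_yd (h : MC d y n Q) : y * d = d * y := by
  obtain ⟨k, hk⟩ := mem_zpowers_iff.mp h.y_mem
  rw [← hk]
  exact ((Commute.refl d).zpow_left k).eq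

theorem eq_one_of_pow_three (h : MC d y n Q) {c : X} (hc : c ∈ Q) (h3 : c ^ 3 = 1) : c = 1 := by
  obtain ⟨k, hk⟩ := h.hQ ⟨c, hc⟩
  have hk' : c ^ (2 ^ k) = 1 := by
    have := congrArg Subtype.val hk
    simpa using this
  have h1 : orderOf c ∣ 2 ^ k := orderOf_dvd_of_pow_eq_one hk'
  have h2 : orderOf c ∣ 3 := orderOf_dvd_of_pow_eq_one h3
  have h4 : Nat.Coprime (2 ^ k) 3 := Nat.Coprime.pow_left k (by norm_num)
  have h5 : orderOf c = 1 := Nat.Coprime.eq_one_of_dvd (Nat.Coprime.coprime_dvd_left h1 h4) h2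
  exact orderOf_eq_one_iff.mp h5

theorem L2 (h : MC d y n Q) {u : X} (hu : u ∈ Q)
    (hc : y * (u⁻¹ * (y * u * y⁻¹)) * y⁻¹ = u⁻¹ * (y * u * y⁻¹)) : y * u * y⁻¹ = u := by
  set c := u⁻¹ * (y * u * y⁻¹) with hcdef
  have hcQ : c ∈ Q := Q.mul_mem (Q.inv_mem hu) (conj_mem_of_mem_normalizer (h.y_norm h.hdQ) hu)
  have h1 : y * u * y⁻¹ = u * c := by rw [hcdef]; group
  have h2 : y * (u * c) * y⁻¹ = u * c * c := by
    have : y * (u * c) * y⁻¹ = (y * u * y⁻¹) * (y * c * y⁻¹) := by group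
    rw [this, hc, h1]
  have h3 : y * (u * c * c) * y⁻¹ = u * c * c * c := by
    have : y * (u * c * c) * y⁻¹ = (y * (u * c) * y⁻¹) * (y * c * y⁻¹) := by group
    rw [this, hc, h2]
  have h4 : y * (y * (y * u * y⁻¹) * y⁻¹) * y⁻¹ = u := by
    have : y * (y * (y * u * y⁻¹) * y⁻¹) * y⁻¹ = y ^ 3 * u * (y ^ 3)⁻¹ := by
      rw [pow_succ, pow_two]; group
    rw [this, h.hy3]; group
  rw [h1, h2, h3] at h4
  have h5 : c ^ 3 = 1 := by
    have : u * (c * c * c) = u * 1 := by rw [mul_one]; simpa [mul_assoc] using h4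
    have := mul_left_cancel this
    rw [pow_succ, pow_two]; exact this
  have h6 := h.eq_one_of_pow_three hcQ h5
  rw [h1, h6, mul_one]

theorem central_of_normal (h : MC d y n Q) {N : Subgroup X} (hNQ : N ≤ Q) (hne : N ≠ Q)
    (hdN : d ∈ normalizer (N : Set X)) (hnorm : ∀ g ∈ Q, ∀ x ∈ N, g * x * g⁻¹ ∈ N) :
    ∀ g ∈ Q, ∀ x ∈ N, g * x = x * g := by
  by_cases hC : Q ⊓ centralizer (N : Set X) = Q
  · intro g hg x hx
    have : g ∈ Q ⊓ centralizer (N : Set X) := by rw [hC]; exact hg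
    exact ((mem_centralizer_iff.mp (mem_inf.mp this).2) x hx).symm
  · exfalso
    apply h.hny
    have hCle : Q ⊓ centralizer (N : Set X) ≤ Q := inf_le_left
    have hdC : d ∈ normalizer ((Q ⊓ centralizer (N : Set X) : Subgroup X) : Set X) := by
      apply mem_normalizer_of_conj_mem
      intro x hx
      rw [mem_inf] at hx ⊢
      refine ⟨conj_mem_of_mem_normalizer h.hdQ hx.1, ?_⟩
      rw [mem_centralizer_iff]
      intro m hm
      have hm' : d⁻¹ * m * d ∈ N := conj_inv_mem_of_mem_normalizer hdN hm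
      have := (mem_centralizer_iff.mp hx.2) _ hm'
      calc m * (d * x * d⁻¹) = d * ((d⁻¹ * m * d) * x) * d⁻¹ := by group
        _ = d * (x * (d⁻¹ * m * d)) * d⁻¹ := by rw [this]
        _ = d * x * d⁻¹ * m := by group
    have hyC := h.hmc _ hCle hC hdC
    have hyN := h.hmc _ hNQ hne hdN
    rw [mem_centralizer_iff]
    intro u hu
    have hcQ : u⁻¹ * (y * u * y⁻¹) ∈ Q :=
      Q.mul_mem (Q.inv_mem hu) (conj_mem_of_mem_normalizer (h.y_norm h.hdQ) hu)
    have hcN : u⁻¹ * (y * u * y⁻¹) ∈ centralizer (N : Set X) := by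
      rw [mem_centralizer_iff]
      intro m hm
      have hmy : (u * m * u⁻¹) * y = y * (u * m * u⁻¹) :=
        (mem_centralizer_iff.mp hyN) _ (hnorm u hu m hm)
      have hny : m * y = y * m := (mem_centralizer_iff.mp hyN) _ hm
      have hny' : m * y⁻¹ = y⁻¹ * m := by
        calc m * y⁻¹ = y⁻¹ * (y * m) * y⁻¹ := by group
          _ = y⁻¹ * (m * y) * y⁻¹ := by rw [hny]
          _ = y⁻¹ * m := by group
      calc m * (u⁻¹ * (y * u * y⁻¹)) = u⁻¹ * ((u * m * u⁻¹) * y) * u * y⁻¹ := by group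
        _ = u⁻¹ * (y * (u * m * u⁻¹)) * u * y⁻¹ := by rw [hmy]
        _ = u⁻¹ * y * u * (m * y⁻¹) := by group
        _ = u⁻¹ * y * u * (y⁻¹ * m) := by rw [hny']
        _ = u⁻¹ * (y * u * y⁻¹) * m := by group
    have hcC : u⁻¹ * (y * u * y⁻¹) ∈ Q ⊓ centralizer (N : Set X) := mem_inf.mpr ⟨hcQ, hcN⟩
    have hcy := (mem_centralizer_iff.mp hyC) _ hcC
    have hfix : y * (u⁻¹ * (y * u * y⁻¹)) * y⁻¹ = u⁻¹ * (y * u * y⁻¹) := by
      rw [← hcy]; group
    have := h.L2 hu hfix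
    calc u * y = (y * u * y⁻¹) * y := by rw [this]
      _ = y * u := by group


theorem comm_of_d3 (h : MC d y n Q) {a : X} (ha : d ^ 3 * a * (d ^ 3)⁻¹ = a) : a * y = y * a := by
  obtain ⟨k, hk⟩ := mem_zpowers_iff.mp h.hyd
  rw [← hk]
  have hc : Commute (d ^ 3) a := by
    show d ^ 3 * a = a * d ^ 3
    calc d ^ 3 * a = (d ^ 3 * a * (d ^ 3)⁻¹) * d ^ 3 := by group
      _ = a * d ^ 3 := by rw [ha]
  exact ((hc.zpow_left k).eq).symm

theorem orbit_subset (_h : MC d y n Q) {R : Subgroup X} (hR : d ∈ normalizer (R : Set X))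
    {a : X} (ha : a ∈ R) :
    MulAction.orbit (zpowers (ConjAct.toConjAct d)) a ⊆ (R : Set X) := by
  rintro _ ⟨g, rfl⟩
  obtain ⟨c, hc, hgc⟩ := smul_zpowers_conj d g a
  show g • a ∈ R
  rw [hgc]
  exact conj_mem_of_mem_normalizer ((zpowers_le.mpr hR) hc) ha

theorem not_elementary (h : MC d y n Q) (hcomm : ∀ a ∈ Q, ∀ b ∈ Q, a * b = b * a)
    (hexp : ∀ a ∈ Q, a ^ 2 = 1) : False := by
  apply h.hny
  have hcard : Nat.card Q ≤ 4 := h.hE Q le_rfl hcomm hexp
  rw [mem_centralizer_iff]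
  intro a ha
  apply h.comm_of_d3
  by_contra hne
  have h9 := nine_dvd_index d n h.hd a hne
  rw [MulAction.index_stabilizer] at h9
  have hsub := h.orbit_subset h.hdQ ha
  have hle : (MulAction.orbit (zpowers (ConjAct.toConjAct d)) a).ncard ≤ (Q : Set X).ncard :=
    Set.ncard_le_ncard hsub (Set.toFinite _)
  have hQc : (Q : Set X).ncard = Nat.card Q := (Nat.card_coe_set_eq _).symm
  have hpos : 0 < (MulAction.orbit (zpowers (ConjAct.toConjAct d)) a).ncard := by
    rw [Set.ncard_pos (Set.toFinite _)]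
    exact MulAction.nonempty_orbit a
  have := Nat.le_of_dvd hpos h9
  omega


/-- a nontrivial element of a 2-group has a power which is an involution -/
theorem exists_involution_pow (h : MC d y n Q) {c : X} (hc : c ∈ Q) (hc1 : c ≠ 1) :
    ∃ k : ℕ, c ^ (2 ^ k) ≠ 1 ∧ (c ^ (2 ^ k)) ^ 2 = 1 := by
  classical
  have hex : ∃ m : ℕ, c ^ (2 ^ m) = 1 := by
    obtain ⟨k, hk⟩ := h.hQ ⟨c, hc⟩
    refine ⟨k, ?_⟩
    have := congrArg Subtype.val hk
    simpa using this
  have hm0 : Nat.find hex ≠ 0 := by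
    intro h0
    have := Nat.find_spec hex
    rw [h0] at this
    simp at this
    exact hc1 this
  obtain ⟨k, hk⟩ := Nat.exists_eq_succ_of_ne_zero hm0
  refine ⟨k, ?_, ?_⟩
  · intro hk1
    have := Nat.find_min' hex hk1
    omega
  · have := Nat.find_spec hex
    rw [hk, pow_succ, pow_mul] at this
    exact this

theorem not_abelian (h : MC d y n Q) (hcomm : ∀ a ∈ Q, ∀ b ∈ Q, a * b = b * a) : False := by
  let O : Subgroup X :=
    { carrier := {x | x ∈ Q ∧ x ^ 2 = 1}
      mul_mem' := by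
        rintro a b ⟨ha, ha2⟩ ⟨hb, hb2⟩
        refine ⟨Q.mul_mem ha hb, ?_⟩
        have hc : Commute a b := hcomm a ha b hb
        rw [hc.mul_pow, ha2, hb2, mul_one]
      one_mem' := ⟨Q.one_mem, one_pow 2⟩
      inv_mem' := by
        rintro a ⟨ha, ha2⟩
        exact ⟨Q.inv_mem ha, by rw [inv_pow, ha2, inv_one]⟩ }
  have hOmem : ∀ x, x ∈ O ↔ x ∈ Q ∧ x ^ 2 = 1 := fun x => Iff.rfl
  have hOQ : O ≤ Q := fun x hx => ((hOmem x).mp hx).1
  by_cases hO : O = Q
  · apply h.not_elementary hcomm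
    intro a ha
    have : a ∈ O := by rw [hO]; exact ha
    exact ((hOmem a).mp this).2
  · have hdO : d ∈ normalizer (O : Set X) := by
      apply mem_normalizer_of_conj_mem
      intro u hu
      rw [hOmem] at hu ⊢
      refine ⟨conj_mem_of_mem_normalizer h.hdQ hu.1, ?_⟩
      rw [conj_pow, hu.2]; group
    have hyO := h.hmc O hOQ hO hdO
    apply h.hny
    rw [mem_centralizer_iff]
    intro u hu
    have hyQ := h.y_norm h.hdQ
    set c := u⁻¹ * (y * u * y⁻¹) with hcdef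
    have hcQ : c ∈ Q := Q.mul_mem (Q.inv_mem hu) (conj_mem_of_mem_normalizer hyQ hu)
    have hc1 : c = 1 := by
      by_contra hc1
      obtain ⟨k, hk1, hk2⟩ := h.exists_involution_pow hcQ hc1
      set t := c ^ (2 ^ k) with ht
      have htQ : t ∈ Q := Q.pow_mem hcQ _
      have htO : t ∈ O := (hOmem t).mpr ⟨htQ, hk2⟩
      have hty : t * y = y * t := (mem_centralizer_iff.mp hyO) t htO
      have hty' : y * t * y⁻¹ = t := by rw [← hty]; group
      have hN : c * (y * c * y⁻¹) * (y * (y * c * y⁻¹) * y⁻¹) = 1 := by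
        have : c * (y * c * y⁻¹) * (y * (y * c * y⁻¹) * y⁻¹) = u⁻¹ * (y ^ 3 * u * (y ^ 3)⁻¹) := by
          rw [hcdef, pow_succ, pow_two]; group
        rw [this, h.hy3]; group
      have hc'Q : y * c * y⁻¹ ∈ Q := conj_mem_of_mem_normalizer hyQ hcQ
      have hc''Q : y * (y * c * y⁻¹) * y⁻¹ ∈ Q := conj_mem_of_mem_normalizer hyQ hc'Q
      have hcm1 : Commute c (y * c * y⁻¹) := hcomm _ hcQ _ hc'Q
      have hcm2 : Commute (c * (y * c * y⁻¹)) (y * (y * c * y⁻¹) * y⁻¹) :=
        hcomm _ (Q.mul_mem hcQ hc'Q) _ hc''Q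
      have hpow := congrArg (fun z => z ^ (2 ^ k)) hN
      simp only [one_pow] at hpow
      rw [hcm2.mul_pow, hcm1.mul_pow, conj_pow, conj_pow, conj_pow, ← ht, hty', hty'] at hpow
      have h3 : t ^ 3 = 1 := by rw [pow_succ, pow_two]; exact hpow
      exact hk1 (h.eq_one_of_pow_three htQ h3)
    have : y * u * y⁻¹ = u := by
      have : y * u * y⁻¹ = u * c := by rw [hcdef]; group
      rw [this, hc1, mul_one]
    calc u * y = (y * u * y⁻¹) * y := by rw [this]
      _ = y * u := by group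


end MC

open scoped commutatorElement

/-- the centre of `Q`, as a subgroup of the ambient group -/
abbrev ZQ (Q : Subgroup X) : Subgroup X := Q ⊓ centralizer (Q : Set X)

theorem mem_ZQ {Q : Subgroup X} {z : X} : z ∈ ZQ Q ↔ z ∈ Q ∧ ∀ g ∈ Q, g * z = z * g := by
  rw [ZQ, mem_inf, mem_centralizer_iff]
  exact Iff.rfl

theorem normalizer_le_ZQ {Q : Subgroup X} {g : X} (hg : g ∈ normalizer (Q : Set X)) :
    g ∈ normalizer ((ZQ Q : Subgroup X) : Set X) := by
  apply mem_normalizer_of_conj_mem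
  intro z hz
  rw [mem_ZQ] at hz ⊢
  refine ⟨conj_mem_of_mem_normalizer hg hz.1, ?_⟩
  intro m hm
  have hm' : g⁻¹ * m * g ∈ Q := conj_inv_mem_of_mem_normalizer hg hm
  have := hz.2 _ hm'
  calc m * (g * z * g⁻¹) = g * ((g⁻¹ * m * g) * z) * g⁻¹ := by group
    _ = g * (z * (g⁻¹ * m * g)) * g⁻¹ := by rw [this]
    _ = g * z * g⁻¹ * m := by group

theorem normalizer_le_commutator {Q : Subgroup X} {g : X} (hg : g ∈ normalizer (Q : Set X)) :
    g ∈ normalizer ((⁅Q, Q⁆ : Subgroup X) : Set X) := by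
  apply mem_normalizer_of_conj_mem
  intro x hx
  rw [Subgroup.commutator_def] at hx
  induction hx using closure_induction with
  | mem x hx =>
    obtain ⟨a, ha, b, hb, rfl⟩ := hx
    have : g * ⁅a, b⁆ * g⁻¹ = ⁅g * a * g⁻¹, g * b * g⁻¹⁆ := by
      simp only [commutatorElement_def]; group
    rw [this]
    exact commutator_mem_commutator (conj_mem_of_mem_normalizer hg ha)
      (conj_mem_of_mem_normalizer hg hb)
  | one => simp
  | mul x y _ _ hx hy =>
    have : g * (x * y) * g⁻¹ = (g * x * g⁻¹) * (g * y * g⁻¹) := by group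
    rw [this]; exact mul_mem hx hy
  | inv x _ hx =>
    have : g * x⁻¹ * g⁻¹ = (g * x * g⁻¹)⁻¹ := by group
    rw [this]; exact inv_mem hx

theorem commutator_ne_self {Q : Subgroup X} (hQ : IsPGroup 2 Q) (hne : Q ≠ ⊥) : ⁅Q, Q⁆ ≠ Q := by
  intro heq
  have : Fact (Nat.Prime 2) := ⟨Nat.prime_two⟩
  have hnil : Group.IsNilpotent Q := hQ.isNilpotent
  have hnt : Nontrivial Q := (Subgroup.nontrivial_iff_ne_bot Q).mpr hne
  have hlt := Group.IsSolvable.commutator_lt_top_of_nontrivial Q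
  apply hlt.ne
  apply map_injective Q.subtype_injective
  rw [map_subtype_commutator, heq, ← MonoidHom.range_eq_map, Q.range_subtype]

namespace MC
variable {d y : X} {n : ℕ} {Q : Subgroup X}

theorem ZQ_ne (_h : MC d y n Q) (hnab : ¬ ∀ a ∈ Q, ∀ b ∈ Q, a * b = b * a) : ZQ Q ≠ Q := by
  intro heq
  apply hnab
  intro a ha b hb
  have : b ∈ ZQ Q := by rw [heq]; exact hb
  exact (mem_ZQ.mp this).2 a ha

theorem Q_ne_bot (_h : MC d y n Q) (hnab : ¬ ∀ a ∈ Q, ∀ b ∈ Q, a * b = b * a) : Q ≠ ⊥ := by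
  intro heq
  apply hnab
  intro a ha b hb
  rw [heq, mem_bot] at ha hb
  rw [ha, hb]

theorem comm_central (h : MC d y n Q) (hnab : ¬ ∀ a ∈ Q, ∀ b ∈ Q, a * b = b * a) :
    ∀ u ∈ Q, ∀ v ∈ Q, ⁅u, v⁆ ∈ ZQ Q := by
  have hle : ⁅Q, Q⁆ ≤ Q := by
    rw [commutator_le]
    intro a ha b hb
    rw [commutatorElement_def]
    exact Q.mul_mem (Q.mul_mem (Q.mul_mem ha hb) (Q.inv_mem ha)) (Q.inv_mem hb)
  have hne : ⁅Q, Q⁆ ≠ Q := commutator_ne_self h.hQ (h.Q_ne_bot hnab)
  have hd : d ∈ normalizer ((⁅Q, Q⁆ : Subgroup X) : Set X) := normalizer_le_commutator h.hdQ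
  have hnorm : ∀ g ∈ Q, ∀ x ∈ ⁅Q, Q⁆, g * x * g⁻¹ ∈ ⁅Q, Q⁆ := by
    intro g hg x hx
    exact conj_mem_of_mem_normalizer (normalizer_le_commutator (le_normalizer hg)) hx
  have hc := h.central_of_normal hle hne hd hnorm
  intro u hu v hv
  have hm : ⁅u, v⁆ ∈ ⁅Q, Q⁆ := commutator_mem_commutator hu hv
  rw [mem_ZQ]
  exact ⟨hle hm, fun g hg => hc g hg _ hm⟩


theorem sq_central (h : MC d y n Q) (hnab : ¬ ∀ a ∈ Q, ∀ b ∈ Q, a * b = b * a) :
    ∀ u ∈ Q, u ^ 2 ∈ ZQ Q := by
  classical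
  have hcl := h.comm_central hnab
  let N : Subgroup X :=
    { carrier := {x | x ∈ Q ∧ x ^ 2 ∈ ZQ Q}
      mul_mem' := by
        rintro a b ⟨ha, ha2⟩ ⟨hb, hb2⟩
        refine ⟨Q.mul_mem ha hb, ?_⟩
        have hc : a * ⁅b, a⁆ = ⁅b, a⁆ * a := (mem_ZQ.mp (hcl b hb a ha)).2 a ha
        rw [sq_mul_of_central a b hc]
        exact mul_mem (mul_mem (hcl b hb a ha) ha2) hb2
      one_mem' := ⟨Q.one_mem, by rw [one_pow]; exact one_mem _⟩
      inv_mem' := by
        rintro a ⟨ha, ha2⟩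
        exact ⟨Q.inv_mem ha, by rw [inv_pow]; exact inv_mem ha2⟩ }
  have hNmem : ∀ x, x ∈ N ↔ x ∈ Q ∧ x ^ 2 ∈ ZQ Q := fun x => Iff.rfl
  have hNQ : N ≤ Q := fun x hx => ((hNmem x).mp hx).1
  have hconj : ∀ g ∈ normalizer (Q : Set X), ∀ x ∈ N, g * x * g⁻¹ ∈ N := by
    intro g hg x hx
    rw [hNmem] at hx ⊢
    refine ⟨conj_mem_of_mem_normalizer hg hx.1, ?_⟩
    rw [conj_pow]
    exact conj_mem_of_mem_normalizer (normalizer_le_ZQ hg) hx.2
  by_cases hN : N = Q
  · intro u hu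
    have : u ∈ N := by rw [hN]; exact hu
    exact ((hNmem u).mp this).2
  · exfalso
    have hdN : d ∈ normalizer (N : Set X) := mem_normalizer_of_conj_mem (hconj d h.hdQ)
    have hc := h.central_of_normal hNQ hN hdN (fun g hg => hconj g (le_normalizer hg))
    have hNZ : N ≤ ZQ Q := by
      intro x hx
      rw [mem_ZQ]
      exact ⟨hNQ hx, fun g hg => hc g hg x hx⟩
    -- an element of `Q` outside the centre
    have hlt : ZQ Q < Q := lt_of_le_of_ne inf_le_left (h.ZQ_ne hnab)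
    obtain ⟨x, hxQ, hxZ⟩ := SetLike.exists_of_lt hlt
    have hex : ∃ m : ℕ, x ^ (2 ^ m) ∈ ZQ Q := by
      obtain ⟨k, hk⟩ := h.hQ ⟨x, hxQ⟩
      refine ⟨k, ?_⟩
      have : x ^ (2 ^ k) = 1 := by
        have := congrArg Subtype.val hk
        simpa using this
      rw [this]; exact one_mem _
    have hm0 : Nat.find hex ≠ 0 := by
      intro h0
      have := Nat.find_spec hex
      rw [h0] at this
      simp only [pow_zero, pow_one] at this
      exact hxZ this
    obtain ⟨k, hk⟩ := Nat.exists_eq_succ_of_ne_zero hm0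
    have h1 : x ^ (2 ^ k) ∉ ZQ Q := by
      intro hk1
      have := Nat.find_min' hex hk1
      omega
    have h2 : (x ^ (2 ^ k)) ^ 2 ∈ ZQ Q := by
      have := Nat.find_spec hex
      rw [hk, pow_succ, pow_mul] at this
      exact this
    exact h1 (hNZ ((hNmem _).mpr ⟨Q.pow_mem hxQ _, h2⟩))


theorem y_cent_ZQ (h : MC d y n Q) (hnab : ¬ ∀ a ∈ Q, ∀ b ∈ Q, a * b = b * a) :
    ∀ z ∈ ZQ Q, y * z * y⁻¹ = z := by
  have hy := h.hmc (ZQ Q) inf_le_left (h.ZQ_ne hnab) (normalizer_le_ZQ h.hdQ)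
  intro z hz
  have := (mem_centralizer_iff.mp hy) z hz
  rw [← this]; group

theorem y_moves (h : MC d y n Q) (hnab : ¬ ∀ a ∈ Q, ∀ b ∈ Q, a * b = b * a) :
    ∀ x ∈ Q, x ∉ ZQ Q → y * x * y⁻¹ ≠ x := by
  classical
  have hcl := h.comm_central hnab
  have hyZ := h.y_cent_ZQ hnab
  have hyQ := h.y_norm h.hdQ
  let F : Subgroup X :=
    { carrier := {u | u ∈ Q ∧ u⁻¹ * (y * u * y⁻¹) ∈ ZQ Q}
      mul_mem' := by
        rintro u v ⟨hu, hu2⟩ ⟨hv, hv2⟩
        refine ⟨Q.mul_mem hu hv, ?_⟩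
        have hc : v⁻¹ * (u⁻¹ * (y * u * y⁻¹)) = (u⁻¹ * (y * u * y⁻¹)) * v⁻¹ :=
          (mem_ZQ.mp hu2).2 _ (Q.inv_mem hv)
        have : (u * v)⁻¹ * (y * (u * v) * y⁻¹) =
            (u⁻¹ * (y * u * y⁻¹)) * (v⁻¹ * (y * v * y⁻¹)) := by
          calc (u * v)⁻¹ * (y * (u * v) * y⁻¹)
              = (v⁻¹ * (u⁻¹ * (y * u * y⁻¹))) * (y * v * y⁻¹) := by group
            _ = ((u⁻¹ * (y * u * y⁻¹)) * v⁻¹) * (y * v * y⁻¹) := by rw [hc]
            _ = (u⁻¹ * (y * u * y⁻¹)) * (v⁻¹ * (y * v * y⁻¹)) := by group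
        rw [this]
        exact mul_mem hu2 hv2
      one_mem' := ⟨Q.one_mem, by simp⟩
      inv_mem' := by
        rintro u ⟨hu, hu2⟩
        refine ⟨Q.inv_mem hu, ?_⟩
        have hi : (u⁻¹ * (y * u * y⁻¹))⁻¹ ∈ ZQ Q := inv_mem hu2
        have hc : u * (u⁻¹ * (y * u * y⁻¹))⁻¹ = (u⁻¹ * (y * u * y⁻¹))⁻¹ * u :=
          (mem_ZQ.mp hi).2 _ hu
        have : (u⁻¹)⁻¹ * (y * u⁻¹ * y⁻¹) = (u⁻¹ * (y * u * y⁻¹))⁻¹ := by
          calc (u⁻¹)⁻¹ * (y * u⁻¹ * y⁻¹) = (u * (u⁻¹ * (y * u * y⁻¹))⁻¹) * u⁻¹ := by group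
            _ = ((u⁻¹ * (y * u * y⁻¹))⁻¹ * u) * u⁻¹ := by rw [hc]
            _ = (u⁻¹ * (y * u * y⁻¹))⁻¹ := by group
        rw [this]; exact hi }
  have hFmem : ∀ x, x ∈ F ↔ x ∈ Q ∧ x⁻¹ * (y * x * y⁻¹) ∈ ZQ Q := fun x => Iff.rfl
  have hFQ : F ≤ Q := fun x hx => ((hFmem x).mp hx).1
  have hZF : ZQ Q ≤ F := by
    intro z hz
    rw [hFmem]
    refine ⟨(mem_ZQ.mp hz).1, ?_⟩
    rw [hyZ z hz, inv_mul_cancel]; exact one_mem _
  have hFne : F ≠ Q := by
    intro hF
    apply h.hny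
    rw [mem_centralizer_iff]
    intro u hu
    have huF : u ∈ F := by rw [hF]; exact hu
    have hk := ((hFmem u).mp huF).2
    have := h.L2 hu (hyZ _ hk)
    calc u * y = (y * u * y⁻¹) * y := by rw [this]
      _ = y * u := by group
  have hdF : d ∈ normalizer (F : Set X) := by
    apply mem_normalizer_of_conj_mem
    intro u hu
    rw [hFmem] at hu ⊢
    refine ⟨conj_mem_of_mem_normalizer h.hdQ hu.1, ?_⟩
    have hyd := h.comm_yd
    have hyd' : d⁻¹ * y⁻¹ = y⁻¹ * d⁻¹ := by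
      rw [← mul_inv_rev, ← mul_inv_rev, hyd]
    have : (d * u * d⁻¹)⁻¹ * (y * (d * u * d⁻¹) * y⁻¹) = d * (u⁻¹ * (y * u * y⁻¹)) * d⁻¹ := by
      calc (d * u * d⁻¹)⁻¹ * (y * (d * u * d⁻¹) * y⁻¹)
          = d * u⁻¹ * d⁻¹ * (y * d) * u * (d⁻¹ * y⁻¹) := by group
        _ = d * u⁻¹ * d⁻¹ * (d * y) * u * (y⁻¹ * d⁻¹) := by rw [hyd, hyd']
        _ = d * (u⁻¹ * (y * u * y⁻¹)) * d⁻¹ := by group
    rw [this]
    exact conj_mem_of_mem_normalizer (normalizer_le_ZQ h.hdQ) hu.2
  have hnorm : ∀ g ∈ Q, ∀ x ∈ F, g * x * g⁻¹ ∈ F := by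
    intro g hg x hx
    have : g * x * g⁻¹ = ⁅g, x⁆ * x := by rw [commutatorElement_def]; group
    rw [this]
    exact mul_mem (hZF (hcl g hg x (hFQ hx))) hx
  have hc := h.central_of_normal hFQ hFne hdF hnorm
  intro x hxQ hxZ hfix
  apply hxZ
  have hxF : x ∈ F := by
    rw [hFmem]
    refine ⟨hxQ, ?_⟩
    rw [hfix, inv_mul_cancel]; exact one_mem _
  rw [mem_ZQ]
  exact ⟨hxQ, fun g hg => hc g hg x hxF⟩


theorem card_ineq (h : MC d y n Q) (hnab : ¬ ∀ a ∈ Q, ∀ b ∈ Q, a * b = b * a) :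
    64 * Nat.card (ZQ Q) ≤ Nat.card Q := by
  classical
  have hfc : Finite (ConjAct X) := inferInstanceAs (Finite X)
  have hmv := h.y_moves hnab
  have hdZ : d ∈ normalizer ((ZQ Q : Subgroup X) : Set X) := normalizer_le_ZQ h.hdQ
  have hinv : ∀ g : zpowers (ConjAct.toConjAct d), ∀ x ∈ ((Q : Set X) \ (ZQ Q : Set X)),
      g • x ∈ ((Q : Set X) \ (ZQ Q : Set X)) := by
    rintro g x ⟨hxQ, hxZ⟩
    obtain ⟨c, hc, hgc⟩ := smul_zpowers_conj d g x
    rw [hgc]
    refine ⟨conj_mem_of_mem_normalizer ((zpowers_le.mpr h.hdQ) hc) hxQ, ?_⟩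
    intro hcz
    apply hxZ
    have := conj_inv_mem_of_mem_normalizer ((zpowers_le.mpr hdZ) hc) hcz
    have e : c⁻¹ * (c * x * c⁻¹) * c = x := by group
    rw [e] at this; exact this
  have h9 : ∀ x ∈ ((Q : Set X) \ (ZQ Q : Set X)),
      9 ∣ (MulAction.stabilizer (zpowers (ConjAct.toConjAct d)) x).index := by
    rintro x ⟨hxQ, hxZ⟩
    apply nine_dvd_index d n h.hd
    intro hfix
    apply hmv x hxQ hxZ
    have := h.comm_of_d3 hfix
    rw [← this]; group
  have hdvd := dvd_card_of_dvd_index _ hinv 9 h9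
  rw [Nat.card_coe_set_eq, Set.ncard_sdiff (show (ZQ Q : Set X) ⊆ (Q : Set X) from
    fun x hx => (mem_ZQ.mp hx).1) (Set.toFinite _)] at hdvd
  have hQc : (Q : Set X).ncard = Nat.card Q := (Nat.card_coe_set_eq _).symm
  have hZc : ((ZQ Q : Subgroup X) : Set X).ncard = Nat.card (ZQ Q) := (Nat.card_coe_set_eq _).symm
  rw [hQc, hZc] at hdvd
  have : Fact (Nat.Prime 2) := ⟨Nat.prime_two⟩
  obtain ⟨a, ha⟩ := IsPGroup.exists_card_eq h.hQ
  have hZp : IsPGroup 2 (ZQ Q) := h.hQ.to_le inf_le_left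
  obtain ⟨b, hb⟩ := IsPGroup.exists_card_eq hZp
  have hle : Nat.card (ZQ Q) ≤ Nat.card Q := card_le_of_le inf_le_left
  have hne : Nat.card (ZQ Q) ≠ Nat.card Q := by
    intro heq
    exact h.ZQ_ne hnab (eq_of_le_of_card_ge inf_le_left heq.ge)
  rw [ha, hb] at hdvd hle hne ⊢
  have hba : b < a := by
    have h1 : b ≤ a := (Nat.pow_le_pow_iff_right (by norm_num)).mp hle
    rcases h1.lt_or_eq with h2 | h2
    · exact h2
    · exact absurd (by rw [h2]) hne
  obtain ⟨k, rfl⟩ : ∃ k, a = b + k := ⟨a - b, by omega⟩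
  have hk0 : 0 < k := by omega
  have hfac : 2 ^ (b + k) - 2 ^ b = 2 ^ b * (2 ^ k - 1) := by
    rw [pow_add, Nat.mul_sub, mul_one]
  rw [hfac] at hdvd
  have hcop : Nat.Coprime 9 (2 ^ b) := Nat.Coprime.pow_right b (by norm_num)
  have h9k : 9 ∣ 2 ^ k - 1 := hcop.dvd_of_dvd_mul_left hdvd
  have hk6 : 6 ≤ k := by
    by_contra hlt
    push Not at hlt
    interval_cases k <;> omega
  calc 64 * 2 ^ b = 2 ^ b * 2 ^ 6 := by ring
    _ ≤ 2 ^ b * 2 ^ k := Nat.mul_le_mul_left _ (Nat.pow_le_pow_right (by norm_num) hk6)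
    _ = 2 ^ (b + k) := by rw [pow_add]


end MC

/-- the elements of order at most 2 of the centre of `Q` -/
def V0 (Q : Subgroup X) : Subgroup X where
  carrier := {z | z ∈ ZQ Q ∧ z ^ 2 = 1}
  mul_mem' := by
    rintro a b ⟨ha, ha2⟩ ⟨hb, hb2⟩
    refine ⟨mul_mem ha hb, ?_⟩
    have hc : Commute a b := (mem_ZQ.mp hb).2 a (mem_ZQ.mp ha).1
    rw [hc.mul_pow, ha2, hb2, mul_one]
  one_mem' := ⟨one_mem _, one_pow 2⟩
  inv_mem' := by
    rintro a ⟨ha, ha2⟩
    exact ⟨inv_mem ha, by rw [inv_pow, ha2, inv_one]⟩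

theorem mem_V0 {Q : Subgroup X} {z : X} : z ∈ V0 Q ↔ z ∈ ZQ Q ∧ z ^ 2 = 1 := Iff.rfl

namespace MC
variable {d y : X} {n : ℕ} {Q : Subgroup X}

theorem card_V0 (h : MC d y n Q) (hnab : ¬ ∀ a ∈ Q, ∀ b ∈ Q, a * b = b * a) :
    Nat.card (V0 Q) = 4 := by
  classical
  have hfc : Finite (ConjAct X) := inferInstanceAs (Finite X)
  have hVQ : V0 Q ≤ Q := fun x hx => (mem_ZQ.mp (mem_V0.mp hx).1).1
  have hle : Nat.card (V0 Q) ≤ 4 := by
    apply h.hE (V0 Q) hVQ
    · intro a ha b hb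
      exact (mem_ZQ.mp (mem_V0.mp hb).1).2 a (hVQ ha)
    · intro a ha
      exact (mem_V0.mp ha).2
  have hdZ : d ∈ normalizer ((ZQ Q : Subgroup X) : Set X) := normalizer_le_ZQ h.hdQ
  have hinv : ∀ g : zpowers (ConjAct.toConjAct d), ∀ x ∈ ((V0 Q : Set X) \ {1}),
      g • x ∈ ((V0 Q : Set X) \ {1}) := by
    rintro g x ⟨hxV, hx1⟩
    obtain ⟨c, hc, hgc⟩ := smul_zpowers_conj d g x
    rw [hgc]
    refine ⟨?_, ?_⟩
    · show c * x * c⁻¹ ∈ V0 Q
      rw [mem_V0]
      refine ⟨conj_mem_of_mem_normalizer ((zpowers_le.mpr hdZ) hc) (mem_V0.mp hxV).1, ?_⟩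
      rw [conj_pow, (mem_V0.mp hxV).2]; group
    · intro h1
      apply hx1
      have h1' : c * x * c⁻¹ = 1 := h1
      have e : x = c⁻¹ * (c * x * c⁻¹) * c := by group
      rw [e, h1']
      simp
  have h3 : ∀ x ∈ ((V0 Q : Set X) \ {1}),
      3 ∣ (MulAction.stabilizer (zpowers (ConjAct.toConjAct d)) x).index := by
    rintro x ⟨hxV, hx1⟩
    apply three_dvd_index d n h.hd
    intro hfix
    apply hx1
    have hx : x ∈ Q ⊓ centralizer {d} := by
      rw [mem_inf, mem_centralizer_iff]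
      refine ⟨hVQ hxV, ?_⟩
      intro g hg
      rw [Set.mem_singleton_iff] at hg
      rw [hg]
      calc d * x = (d * x * d⁻¹) * d := by group
        _ = x * d := by rw [hfix]
    rw [h.hfpf, mem_bot] at hx
    exact hx
  have hdvd := dvd_card_of_dvd_index _ hinv 3 h3
  have hsub : ({1} : Set X) ⊆ (V0 Q : Set X) := by
    intro x hx
    rw [Set.mem_singleton_iff] at hx
    rw [hx]; exact (V0 Q).one_mem
  rw [Nat.card_coe_set_eq, Set.ncard_sdiff hsub (Set.toFinite _), Set.ncard_singleton] at hdvd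
  have hVc : ((V0 Q : Subgroup X) : Set X).ncard = Nat.card (V0 Q) := (Nat.card_coe_set_eq _).symm
  rw [hVc] at hdvd
  have hne1 : Nat.card (V0 Q) ≠ 1 := by
    intro h1
    rw [Subgroup.card_eq_one] at h1
    -- a nontrivial commutator
    have hcl := h.comm_central hnab
    push Not at hnab
    obtain ⟨u, hu, v, hv, huv⟩ := hnab
    have hc1 : ⁅u, v⁆ ≠ 1 := by
      intro hc
      apply huv
      rw [commutatorElement_eq_one_iff_mul_comm] at hc
      exact hc
    have hcZ := hcl u hu v hv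
    obtain ⟨k, hk1, hk2⟩ := h.exists_involution_pow (mem_ZQ.mp hcZ).1 hc1
    have : ⁅u, v⁆ ^ (2 ^ k) ∈ V0 Q := mem_V0.mpr ⟨pow_mem hcZ _, hk2⟩
    rw [h1, mem_bot] at this
    exact hk1 this
  have hpos : 0 < Nat.card (V0 Q) := Nat.card_pos
  obtain ⟨m, hm⟩ := hdvd
  omega


open scoped IsMulCommutative in
theorem exists_invol_outside (h : MC d y n Q) (hnab : ¬ ∀ a ∈ Q, ∀ b ∈ Q, a * b = b * a) :
    ∃ t ∈ Q, t ∉ ZQ Q ∧ t ^ 2 = 1 := by
  classical
  have hcl := h.comm_central hnab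
  have hsq := h.sq_central hnab
  have hcard := h.card_ineq hnab
  have hV := h.card_V0 hnab
  have hcen : ∀ u : Q, u ∈ center Q ↔ (u : X) ∈ ZQ Q := by
    intro u
    rw [mem_center_iff, mem_ZQ]
    constructor
    · intro hu
      exact ⟨u.2, fun g hg => congrArg Subtype.val (hu ⟨g, hg⟩)⟩
    · rintro ⟨_, hu⟩ g
      exact Subtype.ext (hu g g.2)
  have hcl' : ∀ u v : Q, ⁅u, v⁆ ∈ center Q := by
    intro u v
    rw [hcen]
    have : ((⁅u, v⁆ : Q) : X) = ⁅(u : X), (v : X)⁆ := by simp [commutatorElement_def]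
    rw [this]; exact hcl u u.2 v v.2
  have hsq' : ∀ u : Q, u ^ 2 ∈ center Q := by
    intro u
    rw [hcen]
    have : ((u ^ 2 : Q) : X) = (u : X) ^ 2 := by simp
    rw [this]; exact hsq u u.2
  have hcardZ : Nat.card (center Q) = Nat.card (ZQ Q) := by
    refine Nat.card_congr
      ⟨fun z => ⟨((z : Q) : X), (hcen z.1).mp z.2⟩,
       fun z => ⟨⟨z.1, (mem_ZQ.mp z.2).1⟩, (hcen _).mpr z.2⟩, ?_, ?_⟩
    · intro z; rfl
    · intro z; rfl
  have hidx : 32 ≤ (center Q).index := by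
    have h1 := Subgroup.card_mul_index (center Q)
    rw [hcardZ] at h1
    have hpos : 0 < Nat.card (ZQ Q) := Nat.card_pos
    by_contra hlt
    push Not at hlt
    have : Nat.card (ZQ Q) * (center Q).index < Nat.card (ZQ Q) * 32 :=
      Nat.mul_lt_mul_of_pos_left hlt hpos
    omega
  have hker : Nat.card (MonoidHom.ker (powMonoidHom (α := center Q) 2)) = 4 := by
    rw [← hV]
    refine Nat.card_congr
      ⟨fun z => ⟨(((z : center Q) : Q) : X), ?_⟩,
       fun z => ⟨⟨⟨z.1, (mem_ZQ.mp (mem_V0.mp z.2).1).1⟩, (hcen _).mpr (mem_V0.mp z.2).1⟩, ?_⟩,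
       ?_, ?_⟩
    · rw [mem_V0]
      refine ⟨(hcen z.1.1).mp z.1.2, ?_⟩
      have := z.2
      rw [MonoidHom.mem_ker, powMonoidHom_apply] at this
      have h2 := congrArg (fun w : center Q => ((w : Q) : X)) this
      simpa using h2
    · rw [MonoidHom.mem_ker, powMonoidHom_apply]
      apply Subtype.ext
      apply Subtype.ext
      simpa using (mem_V0.mp z.2).2
    · intro z; rfl
    · intro z; rfl
  obtain ⟨l₁, l₂, hl₁, hl₂, hlk⟩ := exists_functionals hker
  obtain ⟨t, ht, ht2⟩ := exists_involution hcl' hsq' hidx l₁ l₂ hl₁ hl₂ hlk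
  refine ⟨(t : X), t.2, fun hz => ht ((hcen t).mpr hz), ?_⟩
  have := congrArg Subtype.val ht2
  simpa using this


theorem not_nonabelian (h : MC d y n Q) (hnab : ¬ ∀ a ∈ Q, ∀ b ∈ Q, a * b = b * a) : False := by
  classical
  obtain ⟨t, htQ, htZ, ht2⟩ := h.exists_invol_outside hnab
  have hV := h.card_V0 hnab
  have hVQ : V0 Q ≤ Q := fun x hx => (mem_ZQ.mp (mem_V0.mp hx).1).1
  have hVc : ∀ v ∈ V0 Q, ∀ g ∈ Q, g * v = v * g := fun v hv g hg =>
    (mem_ZQ.mp (mem_V0.mp hv).1).2 g hg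
  have htt : t * t = 1 := by rw [← pow_two]; exact ht2
  have hti : t⁻¹ = t := inv_eq_of_mul_eq_one_left htt
  have hrec : ∀ x : X, x = t * (t * x) := by
    intro x; rw [← mul_assoc, htt, one_mul]
  let E : Subgroup X :=
    { carrier := {x | x ∈ V0 Q ∨ t * x ∈ V0 Q}
      mul_mem' := by
        rintro x w (hx | hx) (hw | hw)
        · exact Or.inl (mul_mem hx hw)
        · right
          have : t * (x * w) = x * (t * w) := by
            rw [← mul_assoc, hVc x hx t htQ, mul_assoc]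
          show t * (x * w) ∈ V0 Q
          rw [this]; exact mul_mem hx hw
        · right
          show t * (x * w) ∈ V0 Q
          rw [← mul_assoc]; exact mul_mem hx hw
        · left
          have : x * w = (t * x) * (t * w) := by
            have h1 := hVc (t * x) hx t htQ
            calc x * w = t * (t * x) * w := by rw [← hrec x]
              _ = (t * x) * t * w := by rw [h1]
              _ = (t * x) * (t * w) := by simp only [mul_assoc]
          show x * w ∈ V0 Q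
          rw [this]; exact mul_mem hx hw
      one_mem' := Or.inl (one_mem _)
      inv_mem' := by
        rintro x (hx | hx)
        · exact Or.inl (inv_mem hx)
        · right
          have hvi : (t * x)⁻¹ ∈ V0 Q := inv_mem hx
          have h1 := hVc _ hvi t htQ
          have : t * x⁻¹ = (t * x)⁻¹ := by
            calc t * x⁻¹ = t * ((t * x)⁻¹ * t) := by rw [mul_inv_rev, mul_assoc, hti, htt, mul_one]
              _ = t * (t * (t * x)⁻¹) := by rw [h1]
              _ = (t * x)⁻¹ := (hrec _).symm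
          show t * x⁻¹ ∈ V0 Q
          rw [this]; exact hvi }
  have hEmem : ∀ x, x ∈ E ↔ x ∈ V0 Q ∨ t * x ∈ V0 Q := fun x => Iff.rfl
  have hEQ : E ≤ Q := by
    intro x hx
    rcases (hEmem x).mp hx with hx | hx
    · exact hVQ hx
    · rw [hrec x]; exact Q.mul_mem htQ (hVQ hx)
  have hVE : V0 Q ≤ E := fun x hx => (hEmem x).mpr (Or.inl hx)
  have htE : t ∈ E := (hEmem t).mpr (Or.inr (by rw [htt]; exact one_mem _))
  have hEcomm : ∀ a ∈ E, ∀ b ∈ E, a * b = b * a := by
    intro a ha b hb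
    rcases (hEmem a).mp ha with ha' | ha'
    · exact (hVc a ha' b (hEQ hb)).symm
    · rcases (hEmem b).mp hb with hb' | hb'
      · exact hVc b hb' a (hEQ ha)
      · have e1 : a * b = t * (t * a) * b := by rw [← hrec a]
        have h1 : t * (t * a) = (t * a) * t := hVc _ ha' t htQ
        have h2 : (t * b) * (t * a) = (t * a) * (t * b) := hVc _ ha' _ (hVQ hb')
        have h3 : t * (t * b) = (t * b) * t := hVc _ hb' t htQ
        calc a * b = (t * a) * t * b := by rw [e1, h1]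
          _ = (t * a) * (t * b) := by simp only [mul_assoc]
          _ = (t * b) * (t * a) := h2.symm
          _ = (t * b) * t * a := by simp only [mul_assoc]
          _ = t * (t * b) * a := by rw [h3]
          _ = b * a := by rw [← hrec b]
  have hEexp : ∀ a ∈ E, a ^ 2 = 1 := by
    intro a ha
    rcases (hEmem a).mp ha with ha' | ha'
    · exact (mem_V0.mp ha').2
    · have h1 : t * (t * a) = (t * a) * t := hVc _ ha' t htQ
      have h2 : (t * a) * (t * a) = 1 := by rw [← pow_two]; exact (mem_V0.mp ha').2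
      calc a ^ 2 = a * a := pow_two a
        _ = (t * (t * a)) * a := by rw [← hrec a]
        _ = ((t * a) * t) * a := by rw [h1]
        _ = (t * a) * (t * a) := by simp only [mul_assoc]
        _ = 1 := h2
  have hEcard : Nat.card E ≤ 4 := h.hE E hEQ hEcomm hEexp
  have hVEeq : V0 Q = E := eq_of_le_of_card_ge hVE (by rw [hV]; exact hEcard)
  apply htZ
  have : t ∈ V0 Q := by rw [hVEeq]; exact htE
  exact (mem_V0.mp this).1

theorem mc_false (h : MC d y n Q) : False := by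
  by_cases hab : ∀ a ∈ Q, ∀ b ∈ Q, a * b = b * a
  · exact h.not_abelian hab
  · exact h.not_nonabelian hab

end MC

theorem core (d y : X) (n : ℕ) (hd : orderOf d = 3 ^ n) (hyd : y ∈ zpowers (d ^ 3))
    (hy3 : y ^ 3 = 1) :
    ∀ (m : ℕ) (Q : Subgroup X), Nat.card Q ≤ m → IsPGroup 2 Q → d ∈ normalizer (Q : Set X) →
      Q ⊓ centralizer {d} = ⊥ →
      (∀ E : Subgroup X, E ≤ Q → (∀ a ∈ E, ∀ b ∈ E, a * b = b * a) → (∀ a ∈ E, a ^ 2 = 1) →
        Nat.card E ≤ 4) →
      y ∈ centralizer (Q : Set X) := by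
  intro m
  induction m with
  | zero =>
    intro Q hc
    exfalso
    have := Nat.card_pos (α := Q)
    omega
  | succ m ih =>
    intro Q hc hQ hdQ hfpf hE
    by_contra hny
    refine MC.mc_false (d := d) (y := y) (n := n) (Q := Q)
      ⟨hQ, hdQ, hfpf, hE, hd, hyd, hy3, ?_, hny⟩
    intro R hRQ hne hdR
    apply ih R ?_ (hQ.to_le hRQ) hdR ?_ ?_
    · have : Nat.card R < Nat.card Q := by
        by_contra hge
        push Not at hge
        exact hne (eq_of_le_of_card_ge hRQ hge)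
      omega
    · rw [eq_bot_iff, ← hfpf]
      exact inf_le_inf_right _ hRQ
    · intro E hER
      exact hE E (hER.trans hRQ)

end Main


/-- Let d be a non-identity 3-element of a finite group and P a 2-subgroup normalized by d on which ⟨d⟩ acts faithfully (no non-identity power of d centralizes P) and without non-identity fixed points (C_P(d) = 1). If every abelian subgroup of P has 2-rank at most 2, then d has order 3. -/
theorem result {X : Type*} [Group X] [Finite X] (d : X) (n : ℕ) (hn : 1 ≤ n) (hd : orderOf d = 3 ^ n) (P : Subgroup X) (hP : IsPGroup 2 P) (hdP : d ∈ Subgroup.normalizer (P : Set X)) (hfaith : Subgroup.zpowers d ⊓ Subgroup.centralizer (P : Set X) = ⊥) (hfpf : P ⊓ Subgroup.centralizer {d} = ⊥) (hrank : ∀ V : Subgroup X, V ≤ P → IsMulCommutative V → Cfsg.PRankLE 2 2 V) : orderOf d = 3 := by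
  have hE : ∀ E : Subgroup X, E ≤ P → (∀ a ∈ E, ∀ b ∈ E, a * b = b * a) → (∀ a ∈ E, a ^ 2 = 1) →
      Nat.card E ≤ 4 := by
    intro E hEP hcomm hexp
    have hc : IsMulCommutative E := ⟨⟨fun a b => Subtype.ext (hcomm a a.2 b b.2)⟩⟩
    have h1 := hrank E hEP hc ⊤ inferInstance (fun a _ => Subtype.ext (by
      have := hexp a a.2
      simpa using this))
    rw [Subgroup.card_top] at h1
    exact h1
  by_cases hn1 : n = 1
  · rw [hd, hn1]; norm_num
  exfalso
  have hn2 : 2 ≤ n := by omega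
  obtain ⟨k, rfl⟩ : ∃ k, n = k + 2 := ⟨n - 2, by omega⟩
  set y := d ^ (3 ^ (k + 1)) with hy
  have hyd : y ∈ Subgroup.zpowers (d ^ 3) := by
    have e : d ^ (3 ^ (k + 1)) = (d ^ 3) ^ (3 ^ k) := by
      rw [← pow_mul, pow_succ 3 k, mul_comm]
    rw [hy, e]
    exact Subgroup.pow_mem _ (Subgroup.mem_zpowers _) _
  have hy3 : y ^ 3 = 1 := by
    rw [hy, ← pow_mul, ← pow_succ, ← hd]
    exact pow_orderOf_eq_one d
  have hyc := core d y (k + 2) hd hyd hy3 (Nat.card P) P le_rfl hP hdP hfpf hE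
  have hyz : y ∈ Subgroup.zpowers d := Subgroup.pow_mem _ (Subgroup.mem_zpowers d) _
  have hy1 : y = 1 := by
    have : y ∈ Subgroup.zpowers d ⊓ Subgroup.centralizer (P : Set X) := Subgroup.mem_inf.mpr ⟨hyz, hyc⟩
    rw [hfaith, Subgroup.mem_bot] at this
    exact this
  have hdvd : orderOf d ∣ 3 ^ (k + 1) := orderOf_dvd_of_pow_eq_one hy1
  rw [hd] at hdvd
  have := Nat.le_of_dvd (by positivity) hdvd
  have h3 : 3 ^ (k + 1) < 3 ^ (k + 2) := Nat.pow_lt_pow_right (by norm_num) (by omega)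
  omega


end Cfsg.Agent.S3738
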