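import Cfsg.Statements.S0708
import Mathlib

set_option autoImplicit false
set_option linter.unusedSectionVars false
open Cfsg

namespace Cfsg.Agent.S0708

theorem finite_ncard_le_three {α : Type*} (S : Set α)
    (h : ∀ a ∈ S, ∀ b ∈ S, ∀ c ∈ S, ∀ d ∈ S,
      a ≠ b → a ≠ c → a ≠ d → b ≠ c → b ≠ d → c ≠ d → False) :
    S.Finite ∧ S.ncard ≤ 3 := by
  classical
  by_contra hcon
  have hex : ∃ s : Finset α, (s : Set α) ⊆ S ∧ s.card = 4 := by
    by_cases hfin : S.Finite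
    · have h4 : 4 ≤ S.ncard := by
        by_contra h3
        exact hcon ⟨hfin, by omega⟩
      rw [Set.ncard_eq_toFinset_card S hfin] at h4
      obtain ⟨s, hs, hcard⟩ := Finset.exists_subset_card_eq h4
      refine ⟨s, ?_, hcard⟩
      intro x hx
      have := hs hx
      simpa using this
    · exact Set.Infinite.exists_subset_card_eq hfin 4
  obtain ⟨s, hsS, hs⟩ := hex
  obtain ⟨a, t, hat, rfl, ht⟩ := Finset.card_eq_succ.1 hs
  obtain ⟨b, c, d, hbc, hbd, hcd, rfl⟩ := Finset.card_eq_three.1 ht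
  simp only [Finset.mem_insert, Finset.mem_singleton, not_or] at hat
  have haS : a ∈ S := hsS (by simp)
  have hbS : b ∈ S := hsS (by simp)
  have hcS : c ∈ S := hsS (by simp)
  have hdS : d ∈ S := hsS (by simp)
  exact h a haS b hbS c hcS d hdS hat.1 hat.2.1 hat.2.2 hbc hbd hcd

variable {G : Type*} [Group G] {Ω : Type*} [MulAction G Ω]

/-- four distinct points as an embedding -/
def emb4 (a b c d : Ω) (hab : a ≠ b) (hac : a ≠ c) (had : a ≠ d) (hbc : b ≠ c) (hbd : b ≠ d)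
    (hcd : c ≠ d) : Fin 4 ↪ Ω :=
  ⟨![a, b, c, d], by
    intro i j hij
    fin_cases i <;> fin_cases j <;> simp_all⟩

theorem exists_map4 (h4 : MulAction.IsMultiplyPretransitive G Ω 4)
    {a b c d a' b' c' d' : Ω} (hab : a ≠ b) (hac : a ≠ c) (had : a ≠ d) (hbc : b ≠ c) (hbd : b ≠ d)
    (hcd : c ≠ d) (hab' : a' ≠ b') (hac' : a' ≠ c') (had' : a' ≠ d') (hbc' : b' ≠ c')
    (hbd' : b' ≠ d') (hcd' : c' ≠ d') :
    ∃ g : G, g • a = a' ∧ g • b = b' ∧ g • c = c' ∧ g • d = d' := by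
  have := h4
  obtain ⟨g, hg⟩ := MulAction.exists_smul_eq G (emb4 a b c d hab hac had hbc hbd hcd)
    (emb4 a' b' c' d' hab' hac' had' hbc' hbd' hcd')
  refine ⟨g, ?_, ?_, ?_, ?_⟩
  · exact DFunLike.congr_fun hg 0
  · exact DFunLike.congr_fun hg 1
  · exact DFunLike.congr_fun hg 2
  · exact DFunLike.congr_fun hg 3

theorem eq_one_of_fix4 (hsharp : ∀ x : Fin 4 ↪ Ω, MulAction.stabilizer G x = ⊥)
    {a b c d : Ω} (hab : a ≠ b) (hac : a ≠ c) (had : a ≠ d) (hbc : b ≠ c) (hbd : b ≠ d)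
    (hcd : c ≠ d) {g : G} (ha : g • a = a) (hb : g • b = b) (hc : g • c = c) (hd : g • d = d) :
    g = 1 := by
  have : g ∈ MulAction.stabilizer G (emb4 a b c d hab hac had hbc hbd hcd) := by
    rw [MulAction.mem_stabilizer_iff]
    ext i
    fin_cases i
    · exact ha
    · exact hb
    · exact hc
    · exact hd
  rw [hsharp] at this
  exact Subgroup.mem_bot.1 this

theorem eq_of_agree4 (hsharp : ∀ x : Fin 4 ↪ Ω, MulAction.stabilizer G x = ⊥)
    {a b c d : Ω} (hab : a ≠ b) (hac : a ≠ c) (had : a ≠ d) (hbc : b ≠ c) (hbd : b ≠ d)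
    (hcd : c ≠ d) {g h : G} (ha : g • a = h • a) (hb : g • b = h • b) (hc : g • c = h • c)
    (hd : g • d = h • d) : g = h := by
  have : h⁻¹ * g = 1 := by
    apply eq_one_of_fix4 hsharp hab hac had hbc hbd hcd
    · rw [mul_smul, ha, inv_smul_smul]
    · rw [mul_smul, hb, inv_smul_smul]
    · rw [mul_smul, hc, inv_smul_smul]
    · rw [mul_smul, hd, inv_smul_smul]
  exact (inv_mul_eq_one.1 this).symm

/-- fixed points of a nonidentity element: at most three -/
theorem fix_le_three (hsharp : ∀ x : Fin 4 ↪ Ω, MulAction.stabilizer G x = ⊥) {g : G}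
    (hg : g ≠ 1) :
    {ω : Ω | g • ω = ω}.Finite ∧ {ω : Ω | g • ω = ω}.ncard ≤ 3 := by
  apply finite_ncard_le_three
  intro a ha b hb c hc d hd hab hac had hbc hbd hcd
  exact hg (eq_one_of_fix4 hsharp hab hac had hbc hbd hcd ha hb hc hd)

section Core

variable (h4 : MulAction.IsMultiplyPretransitive G Ω 4)
  (hsharp : ∀ x : Fin 4 ↪ Ω, MulAction.stabilizer G x = ⊥)
  {p1 p2 p3 p4 : Ω} (h12 : p1 ≠ p2) (h13 : p1 ≠ p3) (h14 : p1 ≠ p4) (h23 : p2 ≠ p3)
  (h24 : p2 ≠ p4) (h34 : p3 ≠ p4)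
  {t : G} (t1 : t • p1 = p2) (t2 : t • p2 = p1) (t3 : t • p3 = p4) (t4 : t • p4 = p3)

include hsharp h12 h13 h14 h23 h24 h34 t1 t2 t3 t4 in
theorem tt_one : t * t = 1 := by
  apply eq_one_of_fix4 hsharp h12 h13 h14 h23 h24 h34
  · rw [mul_smul, t1, t2]
  · rw [mul_smul, t2, t1]
  · rw [mul_smul, t3, t4]
  · rw [mul_smul, t4, t3]

include hsharp h12 h13 h14 h23 h24 h34 t1 t2 t3 t4 in
theorem tt_smul (ω : Ω) : t • t • ω = ω := by
  rw [← mul_smul, tt_one hsharp h12 h13 h14 h23 h24 h34 t1 t2 t3 t4, one_smul]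

include h4 hsharp h12 h13 h14 h23 h24 h34 t1 t2 t3 t4 in
/-- Lemma A: the centralizer of `t` is transitive on pairs of distinct 2-cycles of `t` -/
theorem lemmaA {ω η : Ω} (hω : t • ω ≠ ω) (hη : t • η ≠ η) (h1 : η ≠ ω) (h2 : η ≠ t • ω) :
    ∃ g : G, g * t = t * g ∧ g • p1 = ω ∧ g • p3 = η := by
  have tts := tt_smul hsharp h12 h13 h14 h23 h24 h34 t1 t2 t3 t4
  have d1 : ω ≠ t • ω := hω.symm
  have d2 : ω ≠ η := h1.symm
  have d3 : ω ≠ t • η := by
    intro h
    apply h2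
    rw [h, tts]
  have d4 : t • ω ≠ η := h2.symm
  have d5 : t • ω ≠ t • η := by
    intro h
    exact h1 ((smul_left_cancel t h).symm)
  have d6 : η ≠ t • η := hη.symm
  obtain ⟨g, g1, g2, g3, g4⟩ := exists_map4 h4 h12 h13 h14 h23 h24 h34 d1 d2 d3 d4 d5 d6
  refine ⟨g, ?_, g1, g3⟩
  apply eq_of_agree4 hsharp h12 h13 h14 h23 h24 h34
  · rw [mul_smul, mul_smul, t1, g2, g1]
  · rw [mul_smul, mul_smul, t2, g1, g2, tts]
  · rw [mul_smul, mul_smul, t3, g4, g3]
  · rw [mul_smul, mul_smul, t4, g3, g4, tts]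

include h4 hsharp h12 h13 h14 h23 h24 h34 t1 t2 t3 t4 in
/-- if `t` has at least two fixed points, the moved points are bounded -/
theorem moved_bound {e1 e2 : Ω} (he1 : t • e1 = e1) (he2 : t • e2 = e2) (he : e1 ≠ e2)
    (hF : {ω : Ω | t • ω = ω}.Finite) :
    {ω : Ω | t • ω ≠ ω}.Finite ∧
      {ω : Ω | t • ω ≠ ω}.ncard ≤
        2 + ({ω : Ω | t • ω = ω}.ncard * {ω : Ω | t • ω = ω}.ncard - {ω : Ω | t • ω = ω}.ncard) := by
  classical
  set F : Set Ω := {ω : Ω | t • ω = ω} with hFdef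
  set D0 : Set G := {g : G | g * t = t * g ∧ g • p1 = p1} with hD0
  have hp1F : t • p1 ≠ p1 := by rw [t1]; exact h12.symm
  have hp2F : t • p2 ≠ p2 := by rw [t2]; exact h12
  have hp3F : t • p3 ≠ p3 := by rw [t3]; exact h34.symm
  have hD0p2 : ∀ g ∈ D0, g • p2 = p2 := by
    intro g hg
    rw [← t1, ← mul_smul, hg.1, mul_smul, hg.2]
  have hD0F : ∀ g ∈ D0, ∀ e ∈ F, g • e ∈ F := by
    intro g hg e he'
    show t • g • e = g • e
    rw [← mul_smul, ← hg.1, mul_smul]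
    exact congrArg (g • ·) he'
  -- D0 is finite, bounded by the number of ordered pairs of distinct fixed points
  let ψ : G → Ω × Ω := fun g => (g • e1, g • e2)
  have hψmaps : Set.MapsTo ψ D0 ((hF.toFinset.offDiag : Finset (Ω × Ω)) : Set (Ω × Ω)) := by
    intro g hg
    simp only [Finset.coe_offDiag, Set.mem_offDiag, Set.Finite.coe_toFinset]
    refine ⟨hD0F g hg e1 he1, hD0F g hg e2 he2, ?_⟩
    intro h
    exact he (smul_left_cancel g h)
  have hψinj : Set.InjOn ψ D0 := by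
    intro g hg g' hg' hgg'
    have h1 : g • e1 = g' • e1 := congrArg Prod.fst hgg'
    have h2 : g • e2 = g' • e2 := congrArg Prod.snd hgg'
    have n1 : p1 ≠ e1 := fun h => hp1F (h ▸ he1)
    have n2 : p1 ≠ e2 := fun h => hp1F (h ▸ he2)
    have n3 : p2 ≠ e1 := fun h => hp2F (h ▸ he1)
    have n4 : p2 ≠ e2 := fun h => hp2F (h ▸ he2)
    apply eq_of_agree4 hsharp h12 n1 n2 n3 n4 he
    · rw [hg.2, hg'.2]
    · rw [hD0p2 g hg, hD0p2 g' hg']
    · exact h1
    · exact h2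
  have hD0fin : D0.Finite := Set.Finite.of_injOn hψmaps hψinj (Finset.finite_toSet _)
  have hD0card : D0.ncard ≤ F.ncard * F.ncard - F.ncard := by
    have := Set.ncard_le_ncard_of_injOn ψ hψmaps hψinj (Finset.finite_toSet _)
    rw [Set.ncard_coe_finset, Finset.offDiag_card, ← Set.ncard_eq_toFinset_card F hF] at this
    exact this
  -- moved points other than p1, p2 inject into D0
  set M' : Set Ω := {ω : Ω | t • ω ≠ ω ∧ ω ≠ p1 ∧ ω ≠ p2} with hM'
  have hchoose : ∀ η ∈ M', ∃ g : G, g ∈ D0 ∧ g • p3 = η := by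
    intro η hη
    obtain ⟨g, hg1, hg2, hg3⟩ := lemmaA h4 hsharp h12 h13 h14 h23 h24 h34 t1 t2 t3 t4
      (ω := p1) (η := η) hp1F hη.1 hη.2.1 (by rw [t1]; exact hη.2.2)
    exact ⟨g, ⟨hg1, hg2⟩, hg3⟩
  let γ : Ω → G := fun η => if h : η ∈ M' then Classical.choose (hchoose η h) else 1
  have hγ : ∀ η ∈ M', γ η ∈ D0 ∧ γ η • p3 = η := by
    intro η hη
    simp only [γ, dif_pos hη]
    exact Classical.choose_spec (hchoose η hη)
  have hγmaps : Set.MapsTo γ M' D0 := fun η hη => (hγ η hη).1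
  have hγinj : Set.InjOn γ M' := by
    intro η hη η' hη' h
    rw [← (hγ η hη).2, ← (hγ η' hη').2, h]
  have hM'fin : M'.Finite := Set.Finite.of_injOn hγmaps hγinj hD0fin
  have hM'card : M'.ncard ≤ D0.ncard := Set.ncard_le_ncard_of_injOn γ hγmaps hγinj hD0fin
  have hsub : {ω : Ω | t • ω ≠ ω} ⊆ M' ∪ {p1, p2} := by
    intro ω hω
    by_cases h1 : ω = p1
    · right; simp [h1]
    by_cases h2 : ω = p2
    · right; simp [h2]
    left
    exact ⟨hω, h1, h2⟩
  have hUfin : (M' ∪ {p1, p2}).Finite := hM'fin.union (by simp)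
  refine ⟨hUfin.subset hsub, ?_⟩
  calc {ω : Ω | t • ω ≠ ω}.ncard ≤ (M' ∪ {p1, p2}).ncard := Set.ncard_le_ncard hsub hUfin
    _ ≤ M'.ncard + ({p1, p2} : Set Ω).ncard := Set.ncard_union_le _ _
    _ ≤ (F.ncard * F.ncard - F.ncard) + 2 := by
        have : ({p1, p2} : Set Ω).ncard ≤ 2 := by
          rw [Set.ncard_pair h12]
        omega
    _ = 2 + (F.ncard * F.ncard - F.ncard) := by omega

include h4 hsharp h12 h13 h14 h23 h24 h34 t1 t2 t3 t4 in
/-- if `t` moves a fifth point then it has two distinct fixed points -/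
theorem two_fixed_of_moved {η : Ω} (hη : t • η ≠ η) (n1 : η ≠ p1) (n2 : η ≠ p2) (n3 : η ≠ p3)
    (n4 : η ≠ p4) : ∃ e1 e2 : Ω, t • e1 = e1 ∧ t • e2 = e2 ∧ e1 ≠ e2 := by
  have tts := tt_smul hsharp h12 h13 h14 h23 h24 h34 t1 t2 t3 t4
  have hp2F : t • p2 ≠ p2 := by rw [t2]; exact h12
  have hp3F : t • p3 ≠ p3 := by rw [t3]; exact h34.symm
  obtain ⟨v, vt, v1, v3⟩ := lemmaA h4 hsharp h12 h13 h14 h23 h24 h34 t1 t2 t3 t4
    (ω := p2) (η := p3) hp2F hp3F h23.symm (by rw [t2]; exact h13.symm)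
  have v2 : v • p2 = p1 := by
    rw [← t1, ← mul_smul, vt, mul_smul, v1, t2]
  have v4 : v • p4 = p4 := by
    rw [← t3, ← mul_smul, vt, mul_smul, v3]
  have vv : v * v = 1 := by
    apply eq_one_of_fix4 hsharp h12 h13 h14 h23 h24 h34
    · rw [mul_smul, v1, v2]
    · rw [mul_smul, v2, v1]
    · rw [mul_smul, v3, v3]
    · rw [mul_smul, v4, v4]
  have vvs : ∀ ω : Ω, v • v • ω = ω := fun ω => by rw [← mul_smul, vv, one_smul]
  have v_ne : v ≠ 1 := by
    intro h
    rw [h, one_smul] at v1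
    exact h12 v1
  have hvη : v • η ≠ η := by
    intro h
    have h' : v • t • η = t • η := by
      rw [← mul_smul, vt, mul_smul, h]
    apply v_ne
    have m1 : p3 ≠ t • η := by
      intro h3
      apply n4
      rw [← t3, h3, tts]
    have m2 : p4 ≠ t • η := by
      intro h3
      apply n3
      rw [← t4, h3, tts]
    exact eq_one_of_fix4 hsharp h34 n3.symm m1 n4.symm m2 hη.symm v3 v4 h h'
  -- p1, p2, η, v η distinct
  have k1 : p1 ≠ v • η := by
    intro h
    apply n2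
    rw [← v1, h, vvs]
  have k2 : p2 ≠ v • η := by
    intro h
    apply n1
    rw [← v2, h, vvs]
  obtain ⟨h, hh1, hh2, hh3, hh4⟩ := exists_map4 h4 h12 h13 h14 h23 h24 h34
    h12 n1.symm k1 n2.symm k2 hvη.symm
  have hconj : h * t = v * h := by
    apply eq_of_agree4 hsharp h12 h13 h14 h23 h24 h34
    · rw [mul_smul, mul_smul, t1, hh2, hh1, v1]
    · rw [mul_smul, mul_smul, t2, hh1, hh2, v2]
    · rw [mul_smul, mul_smul, t3, hh4, hh3]
    · rw [mul_smul, mul_smul, t4, hh3, hh4, vvs]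
  have hth : t * h⁻¹ = h⁻¹ * v := by
    rw [eq_inv_mul_iff_mul_eq, ← mul_assoc, hconj, mul_inv_cancel_right]
  have hfix : ∀ ω : Ω, v • ω = ω → t • h⁻¹ • ω = h⁻¹ • ω := by
    intro ω hω
    rw [← mul_smul, hth, mul_smul, hω]
  refine ⟨h⁻¹ • p3, h⁻¹ • p4, hfix p3 v3, hfix p4 v4, ?_⟩
  intro h'
  exact h34 (smul_left_cancel _ h')

end Core

/-- Tits' argument: a sharply 4-transitive group (no finiteness assumed) has finite degree at most 11, and at most 6 when the degree is even. -/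
theorem result {G : Type*} [Group G] {Ω : Type*} [MulAction G Ω] (h4 : MulAction.IsMultiplyPretransitive G Ω 4) (hsharp : ∀ x : Fin 4 ↪ Ω, MulAction.stabilizer G x = ⊥) (hne : Nonempty (Fin 4 ↪ Ω)) : Finite Ω ∧ Nat.card Ω ≤ 11 ∧ (Even (Nat.card Ω) → Nat.card Ω ≤ 6) := by
  classical
  obtain ⟨x0⟩ := hne
  have hx : ∀ i j : Fin 4, i ≠ j → x0 i ≠ x0 j := fun i j hij h => hij (x0.injective h)
  have h12 : x0 0 ≠ x0 1 := hx 0 1 (by decide)
  have h13 : x0 0 ≠ x0 2 := hx 0 2 (by decide)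
  have h14 : x0 0 ≠ x0 3 := hx 0 3 (by decide)
  have h23 : x0 1 ≠ x0 2 := hx 1 2 (by decide)
  have h24 : x0 1 ≠ x0 3 := hx 1 3 (by decide)
  have h34 : x0 2 ≠ x0 3 := hx 2 3 (by decide)
  obtain ⟨t, t1, t2, t3, t4⟩ := exists_map4 h4 h12 h13 h14 h23 h24 h34
    h12.symm h24 h23 h14 h13 h34.symm
  have tts := tt_smul hsharp h12 h13 h14 h23 h24 h34 t1 t2 t3 t4
  have t_ne : t ≠ 1 := by
    intro h
    rw [h, one_smul] at t1
    exact h12 t1
  set F : Set Ω := {ω : Ω | t • ω = ω} with hFdef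
  set M : Set Ω := {ω : Ω | t • ω ≠ ω} with hMdef
  obtain ⟨hFfin, hF3⟩ := fix_le_three hsharp t_ne
  have hMF : M ∪ F = Set.univ := by
    ext ω
    simp only [Set.mem_union, Set.mem_univ, iff_true]
    by_cases h : t • ω = ω
    · exact Or.inr h
    · exact Or.inl h
  -- bound on M
  have hM : M.Finite ∧ (F.ncard ≤ 1 → M.ncard ≤ 4) ∧ (F.ncard = 2 → M.ncard ≤ 4) ∧
      (F.ncard = 3 → M.ncard ≤ 8) := by
    by_cases hf : 1 < F.ncard
    · obtain ⟨e1, e2, he1, he2, he⟩ := (Set.one_lt_ncard_iff hFfin).1 hf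
      obtain ⟨hfin, hcard⟩ := moved_bound h4 hsharp h12 h13 h14 h23 h24 h34 t1 t2 t3 t4
        he1 he2 he hFfin
      refine ⟨hfin, fun h => by omega, fun h => ?_, fun h => ?_⟩
      · have : M.ncard ≤ 2 + (F.ncard * F.ncard - F.ncard) := hcard
        rw [h] at this
        omega
      · have : M.ncard ≤ 2 + (F.ncard * F.ncard - F.ncard) := hcard
        rw [h] at this
        omega
    · have hsub : M ⊆ {x0 0, x0 1, x0 2, x0 3} := by
        intro η hη
        by_contra hnot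
        simp only [Set.mem_insert_iff, Set.mem_singleton_iff, not_or] at hnot
        obtain ⟨e1, e2, he1, he2, he⟩ := two_fixed_of_moved h4 hsharp h12 h13 h14 h23 h24 h34
          t1 t2 t3 t4 hη hnot.1 hnot.2.1 hnot.2.2.1 hnot.2.2.2
        exact hf ((Set.one_lt_ncard_iff hFfin).2 ⟨e1, e2, he1, he2, he⟩)
      have hfin4 : ({x0 0, x0 1, x0 2, x0 3} : Set Ω).Finite := by simp
      have hc4 : ({x0 0, x0 1, x0 2, x0 3} : Set Ω).ncard ≤ 4 := by
        calc ({x0 0, x0 1, x0 2, x0 3} : Set Ω).ncard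
            ≤ ({x0 1, x0 2, x0 3} : Set Ω).ncard + 1 := Set.ncard_insert_le _ _
          _ ≤ (({x0 2, x0 3} : Set Ω).ncard + 1) + 1 := by
              have := Set.ncard_insert_le (x0 1) ({x0 2, x0 3} : Set Ω)
              omega
          _ ≤ 4 := by
              have := Set.ncard_pair h34
              omega
      have hM4 : M.ncard ≤ 4 := (Set.ncard_le_ncard hsub hfin4).trans hc4
      exact ⟨hfin4.subset hsub, fun _ => hM4, fun h => by omega, fun h => by omega⟩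
  obtain ⟨hMfin, hM1, hM2, hM3⟩ := hM
  have hfinU : (Set.univ : Set Ω).Finite := hMF ▸ hMfin.union hFfin
  haveI : Finite Ω := Set.finite_univ_iff.1 hfinU
  have hcard : Nat.card Ω ≤ M.ncard + F.ncard := by
    rw [← Set.ncard_univ, ← hMF]
    exact Set.ncard_union_le _ _
  -- parity
  haveI : Fintype Ω := Fintype.ofFinite Ω
  haveI : Fact (Nat.Prime 2) := ⟨Nat.prime_two⟩
  let fe : Function.End Ω := fun ω => t • ω
  have hfe : fe ^ 2 ^ 1 = 1 := by
    rw [pow_one, pow_two]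
    funext ω
    exact tts ω
  have hpar := Equiv.Perm.card_fixedPoints_modEq (p := 2) (n := 1) hfe
  have hfixcard : Fintype.card (Function.fixedPoints fe) = F.ncard := by
    rw [← Nat.card_eq_fintype_card, ← Nat.card_coe_set_eq]
    rfl
  rw [hfixcard, ← Nat.card_eq_fintype_card] at hpar
  refine ⟨inferInstance, ?_, ?_⟩
  · interval_cases hF : F.ncard
    · have := hM1 (by omega); omega
    · have := hM1 (by omega); omega
    · have := hM2 rfl; omega
    · have := hM3 rfl; omega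
  · intro heven
    have hmod : Nat.card Ω % 2 = F.ncard % 2 := hpar
    have h0 : Nat.card Ω % 2 = 0 := Nat.even_iff.1 heven
    interval_cases hF : F.ncard
    · have := hM1 (by omega); omega
    · omega
    · have := hM2 rfl; omega
    · omega

end Cfsg.Agent.S0708
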