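import Cfsg.Statements.S0495
-- import your own Cfsg.Agent.* helpers here
import Cfsg.Agent.Lib.H3.Zas10
import Cfsg.Agent.Lib.H3.ZasTX7
import Cfsg.Agent.S1006
import Mathlib

set_option autoImplicit false
open Cfsg

namespace Cfsg.Agent.S0495

/-- A simple group of order 168 is isomorphic to the projective special linear group of dimension 2 over the field with
7 elements. -/
theorem result {G : Type*} [Group G] [Finite G] [IsSimpleGroup G]
    (h : Nat.card G = 168) {F : Type*} [Field F] [Fintype F] (hF : Fintype.card F = 7) :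
    Nonempty (G ≃* Matrix.ProjectiveSpecialLinearGroup (Fin 2) F) := by
  haveI : Fact (Nat.Prime 7) := ⟨by norm_num⟩
  have h2 : 2 * Nat.card G = 7 * (7 ^ 2 - 1) := by rw [h]; norm_num
  obtain ⟨S⟩ := Cfsg.Agent.Lib.H3.Zas.exists_setup (p := 7) (by norm_num) h2
  have h4 := (Cfsg.Agent.S1006.result h).2.2.1
  have hne : Nonempty {g : G // orderOf g = 4} := by
    rw [← Nat.card_pos_iff.trans ⟨fun h => h.1, fun h => ⟨h, Finite.of_injective _ Subtype.val_injective⟩⟩]
    omega
  obtain ⟨g, hg⟩ := hne
  have hg4 : g ^ 4 = 1 := by rw [← hg]; exact pow_orderOf_eq_one g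
  have hg2 : g ^ 2 ≠ 1 := by
    intro h2'
    have := orderOf_dvd_of_pow_eq_one h2'
    rw [hg] at this
    omega
  have hgN : g • S.inf ≠ S.inf := by
    intro hfix
    have hmem : g ∈ MulAction.stabilizer G S.inf := MulAction.mem_stabilizer_iff.2 hfix
    have hd := Subgroup.orderOf_dvd_natCard _ hmem
    have hc1 := S.card_N'
    have hc2 := S.card_H
    rw [hg, ← hc1] at hd
    have : Nat.card S.H = 3 := by omega
    rw [this] at hd
    omega
  exact Cfsg.Agent.Lib.H3.Zas.Setup.nonempty_mulEquiv_PSL_X S Cfsg.Agent.Lib.H3.Zas.tablesX7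
    (by decide) (by norm_num) hF hg4 hg2 hgN

end Cfsg.Agent.S0495
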