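import Cfsg.Statements.S3965
import Cfsg.Agent.Lib.H20.DihedralStem
import Cfsg.Agent.Lib.H20.QuatToDihedral
import Cfsg.Agent.Lib.H20.ZModHom

set_option autoImplicit false
open Cfsg

namespace Cfsg.Agent.S3965

open Cfsg.Agent.Lib.H20

/-- For even `n ≥ 2` the dihedral group of order `2 n` has Schur multiplier cyclic of order `2`. -/
theorem result (n : ℕ) [NeZero n] (hn : Even n) : Cfsg.HasCyclicSchurMultiplier (DihedralGroup n) 2 := by
  refine ⟨⟨QuaternionGroup n, inferInstance, inferInstance, quatToDihedral n,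
    quatToDihedral_isStem n hn, ?_⟩, ?_⟩
  · haveI : Fact (Nat.Prime 2) := ⟨Nat.prime_two⟩
    have h2 : Nat.card (Multiplicative (ZMod 2)) = 2 := by
      rw [Nat.card_eq_fintype_card]; rfl
    exact ⟨mulEquivOfPrimeCardEq (card_ker_quatToDihedral n) h2⟩
  · intro Γ _ _ σ hσ
    obtain ⟨w, hker, hwn, hσw⟩ := dihedral_stem n σ hσ
    obtain ⟨m, hm⟩ := hn
    have hm0 : m ≠ 0 := by
      rintro rfl
      exact NeZero.ne n (by omega)
    -- t = w ^ m
    have htker : w ^ m ∈ σ.ker := by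
      rw [MonoidHom.mem_ker, map_pow, hσw, DihedralGroup.r_pow, DihedralGroup.one_def]
      congr 1
      have h : ((n : ℕ) : ZMod n) = 0 := ZMod.natCast_self n
      have h' : ((n : ℕ) : ZMod n) = ((m + m : ℕ) : ZMod n) := congrArg (Nat.cast (R := ZMod n)) hm
      rw [h'] at h
      push_cast at h
      linear_combination (-1 : ZMod n) * h
    have ht2 : (⟨w ^ m, htker⟩ : σ.ker) ^ 2 = 1 := by
      apply Subtype.ext
      simp only [Subgroup.coe_pow, Subgroup.coe_one]
      rw [← pow_mul, show m * 2 = n by omega, hwn]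
    apply exists_surjective_zmod_hom 2 ⟨w ^ m, htker⟩ ht2
    rintro ⟨c, hc⟩
    obtain ⟨i, rfl⟩ := Subgroup.mem_zpowers_iff.mp (hker hc)
    have h1 : σ (w ^ i) = 1 := hc
    rw [map_zpow, hσw, DihedralGroup.r_zpow, DihedralGroup.one_def] at h1
    have h2 : ((-2 : ZMod n) * (i : ZMod n)) = 0 := by
      injection h1
    have h3 : (n : ℤ) ∣ (-2) * i := by
      rw [← ZMod.intCast_zmod_eq_zero_iff_dvd]
      push_cast
      exact h2
    have h4 : (m : ℤ) ∣ i := by
      have hnm : (n : ℤ) = 2 * m := by rw [hm]; push_cast; ring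
      rw [hnm] at h3
      have h5 : (2 : ℤ) * m ∣ 2 * (-i) := by
        have : (-2 : ℤ) * i = 2 * (-i) := by ring
        rwa [this] at h3
      have h6 : (m : ℤ) ∣ -i := Int.dvd_of_mul_dvd_mul_left (by norm_num) h5
      exact (Int.dvd_neg).mp h6
    obtain ⟨j, rfl⟩ := h4
    rw [Subgroup.mem_zpowers_iff]
    refine ⟨j, ?_⟩
    apply Subtype.ext
    simp only [Subgroup.coe_zpow]
    rw [zpow_mul, zpow_natCast]

end Cfsg.Agent.S3965
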