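import Cfsg.Statements.S5014
import Cfsg.Agent.Lib.H25.RankOne

set_option autoImplicit false
open Cfsg

namespace Cfsg.Agent.S5014

open Cfsg.Agent.Lib.H25

theorem regular {G : Type*} [Group G] {A B : Subgroup G} (h : Cfsg.IsRankOnePair A B) :
    ∀ C ∈ Cfsg.unipotentSubgroups A B, ∀ D ∈ Cfsg.unipotentSubgroups A B, C ≠ A → D ≠ A →
      ∃! a : G, a ∈ A ∧ Cfsg.conjBy C a = D := by
  intro C hC D hD hCA hDA
  rw [RankOne.unipotentSubgroups_eq h] at hC hD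
  rcases hC with rfl | ⟨a1, ha1, rfl⟩
  · exact absurd rfl hCA
  rcases hD with rfl | ⟨a2, ha2, rfl⟩
  · exact absurd rfl hDA
  refine ⟨a2 * a1⁻¹, ⟨A.mul_mem ha2 (A.inv_mem ha1), ?_⟩, ?_⟩
  · rw [conjBy_conjBy]; simp
  · rintro a ⟨ha, hE⟩
    rw [conjBy_conjBy] at hE
    have := RankOne.conjBy_right_inj h (A.mul_mem ha ha1) ha2 hE
    rw [← this]; simp

theorem result {G : Type*} [Group G] {A B : Subgroup G} (h : Cfsg.IsRankOnePair A B) :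
    (∃ C₁ ∈ Cfsg.unipotentSubgroups A B, ∃ C₂ ∈ Cfsg.unipotentSubgroups A B, ∃ C₃ ∈ Cfsg.unipotentSubgroups A B,
      C₁ ≠ C₂ ∧ C₁ ≠ C₃ ∧ C₂ ≠ C₃) ∧
    (∀ C₁ ∈ Cfsg.unipotentSubgroups A B, ∀ C₂ ∈ Cfsg.unipotentSubgroups A B, ∀ D₁ ∈ Cfsg.unipotentSubgroups A B,
      ∀ D₂ ∈ Cfsg.unipotentSubgroups A B, C₁ ≠ C₂ → D₁ ≠ D₂ →
        ∃ x ∈ A ⊔ B, Cfsg.conjBy C₁ x = D₁ ∧ Cfsg.conjBy C₂ x = D₂) ∧
    (∀ C ∈ Cfsg.unipotentSubgroups A B, ∀ D ∈ Cfsg.unipotentSubgroups A B, C ≠ A → D ≠ A →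
      ∃! a : G, a ∈ A ∧ Cfsg.conjBy C a = D) := by
  refine ⟨?_, ?_, regular h⟩
  · obtain ⟨a, ha, ha1⟩ := RankOne.exists_ne_one_left h
    refine ⟨A, RankOne.left_mem_unipotentSubgroups A B, B, RankOne.right_mem_unipotentSubgroups h,
      conjBy B a, RankOne.unipotentSubgroups_conj (RankOne.right_mem_unipotentSubgroups h)
        (Subgroup.mem_sup_left ha), h.ne, (RankOne.conjBy_right_ne_left h ha).symm, ?_⟩
    intro hE
    apply ha1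
    have := RankOne.conjBy_right_inj h A.one_mem ha (by rw [conjBy_one]; exact hE)
    exact this.symm
  · intro C₁ hC₁ C₂ hC₂ D₁ hD₁ D₂ hD₂ hC hD
    obtain ⟨x1, hx1, rfl⟩ := hC₁
    obtain ⟨y1, hy1, rfl⟩ := hD₁
    have hx1' : x1⁻¹ ∈ A ⊔ B := (A ⊔ B).inv_mem hx1
    have hy1' : y1⁻¹ ∈ A ⊔ B := (A ⊔ B).inv_mem hy1
    have hC2' : conjBy C₂ x1⁻¹ ∈ unipotentSubgroups A B := RankOne.unipotentSubgroups_conj hC₂ hx1'
    have hD2' : conjBy D₂ y1⁻¹ ∈ unipotentSubgroups A B := RankOne.unipotentSubgroups_conj hD₂ hy1'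
    have hCne : conjBy C₂ x1⁻¹ ≠ A := by
      intro hE
      apply hC
      rw [conjBy_eq_iff.mp hE, inv_inv]
    have hDne : conjBy D₂ y1⁻¹ ≠ A := by
      intro hE
      apply hD
      rw [conjBy_eq_iff.mp hE, inv_inv]
    obtain ⟨a, ⟨ha, hE⟩, -⟩ := regular h _ hC2' _ hD2' hCne hDne
    refine ⟨y1 * a * x1⁻¹, ?_, ?_, ?_⟩
    · exact (A ⊔ B).mul_mem ((A ⊔ B).mul_mem hy1 (Subgroup.mem_sup_left ha)) hx1'
    · rw [conjBy_conjBy]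
      have : y1 * a * x1⁻¹ * x1 = y1 * a := by group
      rw [this, ← conjBy_conjBy, conjBy_of_mem ha]
    · have : y1 * a * x1⁻¹ = y1 * (a * x1⁻¹) := by group
      rw [this, ← conjBy_conjBy, ← conjBy_conjBy, hE, conjBy_conjBy]
      simp [conjBy_one]

end Cfsg.Agent.S5014
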