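import Cfsg.Statements.S5025
import Cfsg.Agent.Lib.H25.RootSubgroups

set_option autoImplicit false
open Cfsg

namespace Cfsg.Agent.S5025

open Cfsg.Agent.Lib.H25

theorem result {G : Type*} [Group G] {S : Set (Subgroup G)} (hS : Cfsg.IsRootSubgroupSet S)
    {A B : Subgroup G} (hA : A ∈ S) (hB : B ∈ Cfsg.rankOnePartners S A) {z : G}
    (hz : z ∈ Subgroup.centralizer ((A ⊔ B : Subgroup G) : Set G)) (hz1 : z ≠ 1) :
    ∀ a ∈ A, a ≠ 1 → z * a ∉ Cfsg.rootElements S := by
  obtain ⟨hBS, hAB⟩ := hB
  intro a ha ha1 hmem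
  obtain ⟨hza1, C, hCS, hzaC⟩ := hmem
  rw [Subgroup.mem_centralizer_iff] at hz
  have hzA : ∀ y ∈ A, y * z = z * y := fun y hy => hz y (Subgroup.mem_sup_left hy)
  have hzB : ∀ y ∈ B, y * z = z * y := fun y hy => hz y (Subgroup.mem_sup_right hy)
  -- `a` does not centralize `B`
  have haB : ¬ (∀ y ∈ B, y * a = a * y) := by
    intro hc
    apply ha1
    apply RankOne.eq_one_of_mem_normalizer hAB ha
    apply Subgroup.centralizer_le_normalizer
    rw [Subgroup.mem_centralizer_iff]
    exact hc
  rcases hS.pair C hCS B hBS with h0 | hr | hc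
  · rw [Subgroup.commutator_eq_bot_iff_le_centralizer] at h0
    have h1 := h0 hzaC
    rw [Subgroup.mem_centralizer_iff] at h1
    apply haB
    intro y hy
    have h2 := h1 y hy
    -- y * (z * a) = z * a * y, and y z = z y
    have h3 : z * (y * a) = z * (a * y) := by
      rw [← mul_assoc, ← hzB y hy, mul_assoc, h2, mul_assoc]
    exact mul_left_cancel h3
  · -- `(C, B)` rank one
    obtain ⟨b', hb', -, hE'⟩ := hr.cond_left (z * a) hzaC hza1
    obtain ⟨b, hb, -, hE⟩ := hAB.cond_left a ha ha1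
    -- conjBy B (z*a)⁻¹ = conjBy B a⁻¹
    have hBz : conjBy B (z * a)⁻¹ = conjBy B a⁻¹ := by
      have hzn : z⁻¹ ∈ Subgroup.normalizer (B : Set G) := by
        apply Subgroup.centralizer_le_normalizer
        rw [Subgroup.mem_centralizer_iff]
        intro y hy
        have := hzB y hy
        have h2 := congrArg (fun t => z⁻¹ * t * z⁻¹) this
        simpa [mul_assoc] using h2.symm
      rw [mul_inv_rev, ← conjBy_conjBy, conjBy_eq_self_iff.mpr hzn]
    rw [hBz] at hE'
    have hC : C = conjBy A (b' * b⁻¹) := by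
      rw [← conjBy_conjBy, hE, ← hE', conjBy_conjBy]; simp [conjBy_one]
    rcases RankOne.conjBy_left_by_right hAB (B.mul_mem hb' (B.inv_mem hb)) with h1 | ⟨a', ha', h1⟩
    · -- C = A: then z ∈ A centralizes B
      rw [h1] at hC
      rw [hC] at hzaC
      have hzA' : z ∈ A := by
        have := A.mul_mem hzaC (A.inv_mem ha)
        simpa [mul_assoc] using this
      apply hz1
      apply RankOne.eq_one_of_mem_normalizer hAB hzA'
      apply Subgroup.centralizer_le_normalizer
      rw [Subgroup.mem_centralizer_iff]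
      exact hzB
    · rw [h1] at hC
      rw [hC, mem_conjBy] at hzaC
      have hcomm : a'⁻¹ * (z * a) * a' = z * a := by
        have e1 : a'⁻¹ * z = z * a'⁻¹ := hzA _ (A.inv_mem ha')
        have e2 : a * a' = a' * a := comm_of_isMulCommutative (hS.commutative A hA) ha ha'
        calc a'⁻¹ * (z * a) * a' = (a'⁻¹ * z) * (a * a') := by group
          _ = (z * a'⁻¹) * (a' * a) := by rw [e1, e2]
          _ = z * a := by group
      rw [hcomm] at hzaC
      -- z * a ∈ B, B abelian ⇒ a centralizes B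
      apply haB
      intro y hy
      have h2 : y * (z * a) = (z * a) * y :=
        comm_of_isMulCommutative (hS.commutative B hBS) hy hzaC
      have h3 : z * (y * a) = z * (a * y) := by
        rw [← mul_assoc, ← hzB y hy, mul_assoc, h2, mul_assoc]
      exact mul_left_cancel h3
  · -- commutator case
    obtain ⟨b', hb', hd1⟩ := exists_commutator_ne_one hS hc hzaC hza1
    have hdmem : (z * a) * b' * (z * a)⁻¹ * b'⁻¹ ∈ ⁅C, B⁆ := by
      have := Subgroup.commutator_mem_commutator hzaC hb'
      rwa [commutatorElement_def] at this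
    have hza : z * a = a * z := (hzA a ha).symm
    have hd : (z * a) * b' * (z * a)⁻¹ * b'⁻¹ = a * b' * a⁻¹ * b'⁻¹ := by
      have e1 : b' * z = z * b' := hzB b' hb'
      calc (z * a) * b' * (z * a)⁻¹ * b'⁻¹ = (a * z) * b' * (a * z)⁻¹ * b'⁻¹ := by rw [hza]
        _ = a * (z * b') * z⁻¹ * a⁻¹ * b'⁻¹ := by group
        _ = a * (b' * z) * z⁻¹ * a⁻¹ * b'⁻¹ := by rw [e1]
        _ = a * b' * a⁻¹ * b'⁻¹ := by group
    rw [hd] at hd1 hdmem
    apply hd1
    apply RankOne.commutator_eq_one_of_central hAB ha ha1 hb'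
    · -- d commutes with z*a and with z (as d ∈ A ⊔ B)
      have h1 := hc.2.1 _ hdmem (z * a) (Subgroup.mem_sup_left hzaC)
      have hdX : a * b' * a⁻¹ * b'⁻¹ ∈ A ⊔ B :=
        (A ⊔ B).mul_mem ((A ⊔ B).mul_mem ((A ⊔ B).mul_mem (Subgroup.mem_sup_left ha)
          (Subgroup.mem_sup_right hb')) (Subgroup.mem_sup_left (A.inv_mem ha)))
          (Subgroup.mem_sup_right (B.inv_mem hb'))
      have h2 := hz _ hdX
      generalize a * b' * a⁻¹ * b'⁻¹ = d at h1 h2
      calc d * a = z⁻¹ * ((d * z) * a) := by rw [h2]; group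
        _ = z⁻¹ * (d * (z * a)) := by group
        _ = z⁻¹ * ((z * a) * d) := by rw [h1]
        _ = a * d := by group
    · intro y hy
      exact hc.2.1 _ hdmem y (Subgroup.mem_sup_right hy)

end Cfsg.Agent.S5025
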