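import Cfsg.Statements.S5061
import Cfsg.Agent.Lib.H25.RankOne
import Cfsg.Agent.Lib.H6.UnipBS

set_option autoImplicit false
open Cfsg

namespace Cfsg.Agent.S5061

/-- Let M be a finite-dimensional vector space over a field k, G ≤ GL(M), and 𝒲 a set of subgroups of G, invariant under conjugation by G, such that any two members of 𝒲 generate a subgroup acting unipotently on M (for some n all products of n endomorphisms g − 1 from it vanish). Then the subgroup generated by all members of 𝒲 acts unipotently on M and is normal in G. -/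
theorem result {k : Type*} [Field k] {M : Type*} [AddCommGroup M] [Module k M] [FiniteDimensional k M]
    {G : Subgroup (LinearMap.GeneralLinearGroup k M)} {W : Set (Subgroup (LinearMap.GeneralLinearGroup k M))} (hWG : ∀ A ∈ W, A ≤ G)
    (hWW : ∀ A ∈ W, ∀ B ∈ W, Cfsg.IsUnipotentOn (A ⊔ B)) (hWconj : ∀ A ∈ W, ∀ g ∈ G, Cfsg.conjBy A g ∈ W) :
    Cfsg.IsUnipotentOn (⨆ A ∈ W, A) ∧ ∀ g ∈ G, Cfsg.conjBy (⨆ A ∈ W, A) g = ⨆ A ∈ W, A := by

  have hsup : (⨆ A ∈ W, A) = sSup W := sSup_eq_iSup.symm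
  rw [hsup]
  have hWG' : sSup W ≤ G := sSup_le hWG
  refine ⟨Cfsg.Agent.Lib.H6.Unip.isUnipotentOn_sSup hWW
    (fun A hA g hg => hWconj A hA g (hWG' hg)), ?_⟩
  intro g hg
  apply le_antisymm
  · unfold Cfsg.conjBy
    rw [Subgroup.map_le_iff_le_comap]
    apply sSup_le
    intro A hA
    rw [← Subgroup.map_le_iff_le_comap]
    exact le_sSup (hWconj A hA g hg)
  · apply sSup_le
    intro A hA
    have h1 : Cfsg.conjBy A g⁻¹ ≤ sSup W := le_sSup (hWconj A hA g⁻¹ (G.inv_mem hg))
    have h2 := Cfsg.Agent.Lib.H25.conjBy_mono g h1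
    rwa [Cfsg.Agent.Lib.H25.conjBy_conjBy, mul_inv_cancel, Cfsg.Agent.Lib.H25.conjBy_one] at h2

end Cfsg.Agent.S5061
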