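import Cfsg.Statements.S5073
import Cfsg.Agent.Lib.H18.QP12

set_option autoImplicit false
universe u
open Cfsg

namespace Cfsg.Agent.S5073

open Cfsg.Agent.Lib.H18.QP

/-- commuting elements of the two classes force the two groups to commute -/
theorem key_a {k : Type u} [Field k] (hk2 : ringChar k ≠ 2) (hk3 : Nat.card k ≠ 3)
    {M : Type u} [AddCommGroup M] [Module k M] [FiniteDimensional k M]
    {G : Subgroup (LinearMap.GeneralLinearGroup k M)}
    {σ τ : LinearMap.GeneralLinearGroup k M} (hσ : σ ∈ Cfsg.minimalQuadraticElements G)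
    (hτ : τ ∈ Cfsg.minimalQuadraticElements G)
    {e f : LinearMap.GeneralLinearGroup k M} (he : e ∈ Cfsg.sameActionClass G σ)
    (hf : f ∈ Cfsg.sameActionClass G τ) (hef : e * f = f * e) :
    ⁅Cfsg.sameActionSubgroup G σ, Cfsg.sameActionSubgroup G τ⁆ = ⊥ := by
  -- commuting units give commuting `nu`
  have comm_nu : ∀ a b : LinearMap.GeneralLinearGroup k M, a * b = b * a →
      (a : Module.End k M) * nu b = nu b * (a : Module.End k M) := by
    intro a b hab
    have h1 : (a : Module.End k M) * (b : Module.End k M) = (b : Module.End k M) * (a : Module.End k M) := by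
      rw [← Units.val_mul, ← Units.val_mul, hab]
    unfold nu
    rw [mul_sub, sub_mul, h1, mul_one, one_mul]
  -- f normalizes E(σ), hence centralizes it
  have hfn : f ∈ Subgroup.normalizer ((Cfsg.sameActionSubgroup G σ :
      Subgroup (LinearMap.GeneralLinearGroup k M)) : Set (LinearMap.GeneralLinearGroup k M)) := by
    obtain ⟨s1, s2⟩ := stab_of_commute (comm_nu f e hef.symm)
    have := mem_normalizer_of_stab hf.1.1.1 s1 s2
    rwa [subgroup_eq_of_mem he] at this
  have hfc := centralizes_of_normalizes hk2 hk3 hσ hf.1 hfn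
  -- every σ' normalizes E(τ), hence centralizes it
  have hall : ∀ σ' ∈ Cfsg.sameActionClass G σ, ∀ τ' ∈ Cfsg.sameActionClass G τ, τ' * σ' = σ' * τ' := by
    intro σ' hσ'
    have hc := hfc σ' hσ'
    have hsn : σ' ∈ Subgroup.normalizer ((Cfsg.sameActionSubgroup G τ :
        Subgroup (LinearMap.GeneralLinearGroup k M)) : Set (LinearMap.GeneralLinearGroup k M)) := by
      obtain ⟨s1, s2⟩ := stab_of_commute (comm_nu σ' f hc)
      have := mem_normalizer_of_stab hσ'.1.1.1 s1 s2
      rwa [subgroup_eq_of_mem hf] at this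
    exact centralizes_of_normalizes hk2 hk3 hτ hσ'.1 hsn
  rw [Subgroup.commutator_eq_bot_iff_le_centralizer]
  unfold Cfsg.sameActionSubgroup
  rw [Subgroup.closure_le]
  intro σ' hσ'
  rw [SetLike.mem_coe, Subgroup.mem_centralizer_iff]
  intro h hh
  rw [SetLike.mem_coe] at hh
  induction hh using Subgroup.closure_induction with
  | mem x hx => exact hall σ' hσ' x hx
  | one => rw [one_mul, mul_one]
  | mul x y _ _ hx hy => rw [mul_assoc, hy, ← mul_assoc, hx, mul_assoc]
  | inv x _ hx =>
    have e1 : x⁻¹ * σ' = x⁻¹ * (σ' * x) * x⁻¹ := by group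
    rw [e1, ← hx]; group

/-- Let k be a field of characteristic not 2 with k not of order 3, M a finite-dimensional k-vector space and G ≤ GL(M) such that (G, M) is a quadratic pair (M irreducible for G, and G generated by its quadratically acting elements σ whose scalar family 1 + c(σ − 1), c ∈ k, lies in G). Write 𝒬_d for the quadratic elements of G of minimal commutator rank, E(σ) for the subgroup generated by the members of 𝒬_d with the same fixed space and commutator space as σ, and Σ for the set of these subgroups. Let E, F ∈ Σ. If some non-identity element of E commutes with some non-identity element of F, or some non-identity element of E normalizes F, then E and F commute elementwise. -/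
theorem result {k : Type u} [Field k] (hk2 : ringChar k ≠ 2) (hk3 : Nat.card k ≠ 3)
    {M : Type u} [AddCommGroup M] [Module k M] [FiniteDimensional k M]
    {G : Subgroup (LinearMap.GeneralLinearGroup k M)} (hG : Cfsg.IsQuadraticPair G)
    {E F : Subgroup (LinearMap.GeneralLinearGroup k M)} (hE : E ∈ Cfsg.quadraticRootSubgroups G) (hF : F ∈ Cfsg.quadraticRootSubgroups G)
    (h : (∃ e ∈ E, e ≠ 1 ∧ ∃ f ∈ F, f ≠ 1 ∧ e * f = f * e) ∨ E ⊓ Subgroup.normalizer (F : Set (LinearMap.GeneralLinearGroup k M)) ≠ ⊥) :
    ⁅E, F⁆ = ⊥ := by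
  obtain ⟨σ, hσ, rfl⟩ := hE
  obtain ⟨τ, hτ, rfl⟩ := hF
  rcases h with ⟨e, he, he1, f, hf, hf1, hef⟩ | hnb
  · exact key_a hk2 hk3 hσ hτ (mem_class_of_mem hσ he he1) (mem_class_of_mem hτ hf hf1) hef
  · have hex : ∃ e ∈ Cfsg.sameActionSubgroup G σ ⊓ Subgroup.normalizer ((Cfsg.sameActionSubgroup G τ :
        Subgroup (LinearMap.GeneralLinearGroup k M)) : Set (LinearMap.GeneralLinearGroup k M)), e ≠ 1 := by
      by_contra hcon
      push_neg at hcon
      exact hnb ((Subgroup.eq_bot_iff_forall _).mpr hcon)
    obtain ⟨e, he, he1⟩ := hex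
    rw [Subgroup.mem_inf] at he
    have hec := mem_class_of_mem hσ he.1 he1
    have hτc : τ ∈ Cfsg.sameActionClass G τ := ⟨hτ, rfl, rfl⟩
    have hcomm := centralizes_of_normalizes hk2 hk3 hτ hec.1 he.2 τ hτc
    exact key_a hk2 hk3 hσ hτ hec hτc hcomm.symm

end Cfsg.Agent.S5073
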