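import Cfsg.Statements.S5016
import Cfsg.Agent.Lib.H25.SL2RankOne

set_option autoImplicit false
open Cfsg

namespace Cfsg.Agent.S5016

open Matrix Cfsg.Agent.Lib.H25 Cfsg.Agent.Lib.H25.SL2

variable {k : Type*} [Field k]

local notation "SLk" => Matrix.SpecialLinearGroup (Fin 2) k

theorem eq_prod_of_ne {g : SLk} (hc : (g : Matrix (Fin 2) (Fin 2) k) 1 0 ≠ 0) :
    g = up (((g : Matrix (Fin 2) (Fin 2) k) 0 0 - 1) / (g : Matrix (Fin 2) (Fin 2) k) 1 0) *
        lo ((g : Matrix (Fin 2) (Fin 2) k) 1 0) *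
        up (((g : Matrix (Fin 2) (Fin 2) k) 1 1 - 1) / (g : Matrix (Fin 2) (Fin 2) k) 1 0) := by
  have hdet := det_eq g
  apply ext4
  · simp only [SL2.mul_apply', lo_00, lo_01, lo_10, lo_11, up_00, up_01, up_10]
    field_simp
    ring
  · simp only [SL2.mul_apply', lo_00, lo_01, lo_10, lo_11, up_00, up_01, up_11]
    field_simp
    linear_combination (-1 : k) * hdet
  · simp only [SL2.mul_apply', lo_00, lo_01, lo_10, lo_11, up_00, up_10, up_11]
    ring
  · simp only [SL2.mul_apply', lo_00, lo_01, lo_10, lo_11, up_01, up_10, up_11]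
    field_simp
    ring

theorem mem_sup_of_ne {g : SLk} (hc : (g : Matrix (Fin 2) (Fin 2) k) 1 0 ≠ 0) :
    g ∈ lowerUnipotentSL2 k ⊔ upperUnipotentSL2 k := by
  rw [eq_prod_of_ne hc]
  exact Subgroup.mul_mem _ (Subgroup.mul_mem _ (Subgroup.mem_sup_right (up_mem _))
    (Subgroup.mem_sup_left (lo_mem _))) (Subgroup.mem_sup_right (up_mem _))

theorem sup_eq_top : lowerUnipotentSL2 k ⊔ upperUnipotentSL2 k = ⊤ := by
  rw [eq_top_iff]
  intro g _
  by_cases hc : (g : Matrix (Fin 2) (Fin 2) k) 1 0 = 0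
  · have hdet := det_eq g
    rw [hc, mul_zero, sub_zero] at hdet
    have ha : (g : Matrix (Fin 2) (Fin 2) k) 0 0 ≠ 0 := left_ne_zero_of_mul_eq_one hdet
    have h1 : ((lo 1 * g : SLk) : Matrix (Fin 2) (Fin 2) k) 1 0 ≠ 0 := by
      rw [SL2.mul_apply', lo_10, lo_11, hc, one_mul, mul_zero, add_zero]
      exact ha
    have h2 := mem_sup_of_ne h1
    have h3 : g = lo (-1) * (lo 1 * g) := by
      rw [← mul_assoc, lo_mul, neg_add_cancel, lo_zero, one_mul]
    rw [h3]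
    exact Subgroup.mul_mem _ (Subgroup.mem_sup_left (lo_mem _)) h2
  · exact mem_sup_of_ne hc

theorem conj_eq {s t : k} (hst : s * t = 1) :
    conjBy (lowerUnipotentSL2 k) (up s)⁻¹ = conjBy (upperUnipotentSL2 k) (lo t)⁻¹ := by
  have hs : s ≠ 0 := left_ne_zero_of_mul_eq_one hst
  have ht : t = s⁻¹ := eq_inv_of_mul_eq_one_right hst
  subst ht
  ext x
  rw [mem_conjBy, mem_conjBy, inv_inv, inv_inv, mem_lower_iff, mem_upper_iff]
  simp only [SL2.mul_apply', inv_apply_00, inv_apply_01, inv_apply_10, inv_apply_11,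
    lo_00, lo_01, lo_10, lo_11, up_00, up_01, up_10, up_11]
  generalize (x : Matrix (Fin 2) (Fin 2) k) 0 0 = p
  generalize (x : Matrix (Fin 2) (Fin 2) k) 0 1 = q
  generalize (x : Matrix (Fin 2) (Fin 2) k) 1 0 = u
  generalize (x : Matrix (Fin 2) (Fin 2) k) 1 1 = v
  constructor
  · rintro ⟨h1, h2, h3⟩
    have hp : p = 1 - s * u := by linear_combination h2
    have hv : v = 1 + s * u := by linear_combination h3
    subst hp hv
    have hq : q = -(s * s * u) := by linear_combination h1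
    subst hq
    refine ⟨?_, ?_, ?_⟩ <;> field_simp <;> ring
  · rintro ⟨h1, h2, h3⟩
    have hp : p = 1 + s⁻¹ * q := by linear_combination h2
    have hv : v = 1 - s⁻¹ * q := by linear_combination h3
    subst hp hv
    have hu : u = -(s⁻¹ * s⁻¹ * q) := by linear_combination h1
    subst hu
    refine ⟨?_, ?_, ?_⟩ <;> field_simp <;> ring

theorem lower_comm : IsMulCommutative (lowerUnipotentSL2 k) := by
  refine ⟨⟨fun a b => ?_⟩⟩
  apply Subtype.ext
  show (a : SLk) * b = b * a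
  rw [eq_lo_of_mem a.2, eq_lo_of_mem b.2, lo_mul, lo_mul, add_comm]

theorem upper_comm : IsMulCommutative (upperUnipotentSL2 k) := by
  refine ⟨⟨fun a b => ?_⟩⟩
  apply Subtype.ext
  show (a : SLk) * b = b * a
  rw [eq_up_of_mem a.2, eq_up_of_mem b.2, up_mul, up_mul, add_comm]

theorem lo_ne_one {t : k} (ht : t ≠ 0) : (lo t : SLk) ≠ 1 := by
  intro h
  apply ht
  have := congrArg (fun g : SLk => (g : Matrix (Fin 2) (Fin 2) k) 1 0) h
  simpa using this

theorem up_ne_one {t : k} (ht : t ≠ 0) : (up t : SLk) ≠ 1 := by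
  intro h
  apply ht
  have := congrArg (fun g : SLk => (g : Matrix (Fin 2) (Fin 2) k) 0 1) h
  simpa using this

theorem isRankOnePair : IsRankOnePair (lowerUnipotentSL2 k) (upperUnipotentSL2 k) := by
  refine ⟨?_, ?_, ?_, ?_, ?_⟩
  · intro hE
    have h1 : (lo 1 : SLk) ∈ upperUnipotentSL2 k := hE ▸ lo_mem 1
    have := (mem_upper_iff.mp h1).1
    rw [lo_10] at this
    exact one_ne_zero this
  · exact ⟨⟨1, Subgroup.upperCentralSeries_one_eq_top_iff.mpr lower_comm⟩⟩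
  · exact ⟨⟨1, Subgroup.upperCentralSeries_one_eq_top_iff.mpr upper_comm⟩⟩
  · intro a ha ha1
    rw [eq_lo_of_mem ha] at ha1 ⊢
    set t := (a : Matrix (Fin 2) (Fin 2) k) 1 0 with ht
    have ht0 : t ≠ 0 := by
      intro h0; apply ha1; rw [h0, lo_zero]
    exact ⟨up t⁻¹, up_mem _, up_ne_one (inv_ne_zero ht0), conj_eq (inv_mul_cancel₀ ht0)⟩
  · intro b hb hb1
    rw [eq_up_of_mem hb] at hb1 ⊢
    set s := (b : Matrix (Fin 2) (Fin 2) k) 0 1 with hs
    have hs0 : s ≠ 0 := by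
      intro h0; apply hb1; rw [h0, up_zero]
    exact ⟨lo s⁻¹, lo_mem _, lo_ne_one (inv_ne_zero hs0), (conj_eq (mul_inv_cancel₀ hs0)).symm⟩

theorem special_identity {t : k} (ht0 : t ≠ 0) :
    (up t⁻¹ : SLk)⁻¹ * lo t * up t⁻¹ = (lo t)⁻¹ * (up t⁻¹)⁻¹ * lo t := by
  apply ext4 <;>
  simp only [SL2.mul_apply', inv_apply_00, inv_apply_01, inv_apply_10, inv_apply_11,
    lo_00, lo_01, lo_10, lo_11, up_00, up_01, up_10, up_11] <;> field_simp <;> ring

theorem result (k : Type*) [Field k] :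
    Cfsg.IsRankOneGroup (Matrix.SpecialLinearGroup (Fin 2) k) (Cfsg.lowerUnipotentSL2 k) (Cfsg.upperUnipotentSL2 k) ∧
    Cfsg.IsSpecialRankOnePair (Cfsg.lowerUnipotentSL2 k) (Cfsg.upperUnipotentSL2 k) ∧
    Cfsg.HasAbelianUnipotents (Cfsg.lowerUnipotentSL2 k) (Cfsg.upperUnipotentSL2 k) := by
  refine ⟨⟨sup_eq_top, isRankOnePair⟩, ⟨isRankOnePair, ?_⟩, ⟨lower_comm, upper_comm⟩⟩
  intro a ha ha1 b hb _ hE
  have ha' := eq_lo_of_mem ha
  set t := (a : Matrix (Fin 2) (Fin 2) k) 1 0 with ht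
  have ht0 : t ≠ 0 := by
    intro h0; apply ha1; rw [ha', h0, lo_zero]
  have hE' : conjBy (lowerUnipotentSL2 k) (up t⁻¹)⁻¹ = conjBy (upperUnipotentSL2 k) a⁻¹ := by
    rw [ha']; exact conj_eq (inv_mul_cancel₀ ht0)
  have hb' : b = up t⁻¹ := RankOne.partner_unique isRankOnePair hb (up_mem _) hE hE'
  rw [hb', ha']
  exact special_identity ht0

end Cfsg.Agent.S5016
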