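import Cfsg.Statements.S5029
import Cfsg.Agent.Lib.H25.CommutatorCase

set_option autoImplicit false
open Cfsg

namespace Cfsg.Agent.S5029

open Cfsg.Agent.Lib.H25
open scoped Pointwise

section Aux

variable {G : Type*} [Group G] {S : Set (Subgroup G)}

/-- The data of the situation. -/
structure Data (S : Set (Subgroup G)) (A B D : Subgroup G) : Prop where
  hS : IsRootSubgroupSet S
  hAS : A ∈ S
  hBS : B ∈ S
  hDS : D ∈ S
  hAD : IsRankOnePair A D
  hcc : RootCommutatorCase S A B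

variable {A B D : Subgroup G}

namespace Data

theorem hCS (h : Data S A B D) : ⁅A, B⁆ ∈ S := h.hcc.1

theorem hcen (h : Data S A B D) : ∀ c ∈ ⁅A, B⁆, ∀ x ∈ A ⊔ B, c * x = x * c := h.hcc.2.1

theorem comm_AC (h : Data S A B D) {a c : G} (ha : a ∈ A) (hc : c ∈ ⁅A, B⁆) : c * a = a * c :=
  h.hcen c hc a (Subgroup.mem_sup_left ha)

theorem kap_ne_one (h : Data S A B D) {a b : G} (ha : a ∈ A) (ha1 : a ≠ 1) (hb : b ∈ B)
    (hb1 : b ≠ 1) : kap a b ≠ 1 := by
  rw [Ne, kap_eq_one_iff]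
  exact not_commute_of_commutatorCase h.hS h.hAS h.hBS h.hDS h.hAD h.hcc ha ha1 hb hb1

theorem surj_right (h : Data S A B D) {a : G} (ha : a ∈ A) (ha1 : a ≠ 1) {c : G}
    (hc : c ∈ ⁅A, B⁆) : ∃ b ∈ B, kap a b = c :=
  exists_kap_right_of_closure h.hcen ha (h.hcc.2.2.1 a ha ha1) hc

theorem surj_left (h : Data S A B D) {b : G} (hb : b ∈ B) (hb1 : b ≠ 1) {c : G}
    (hc : c ∈ ⁅A, B⁆) : ∃ a ∈ A, kap a b = c :=
  exists_kap_left_of_closure h.hcen hb (h.hcc.2.2.2 b hb hb1) hc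

/-- Injectivity in the second variable. -/
theorem inj_right (h : Data S A B D) {a : G} (ha : a ∈ A) (ha1 : a ≠ 1) {b₁ b₂ : G}
    (hb₁ : b₁ ∈ B) (hb₂ : b₂ ∈ B) (hk : kap a b₁ = kap a b₂) : b₁ = b₂ := by
  by_contra hne
  have h1 : b₁ * b₂⁻¹ ≠ 1 := fun hh => hne (mul_inv_eq_one.1 hh)
  apply h.kap_ne_one ha ha1 (B.mul_mem hb₁ (B.inv_mem hb₂)) h1
  rw [kap_mul_right h.hcen ha hb₁ (B.inv_mem hb₂), kap_inv_right h.hcen ha hb₂, hk, mul_inv_cancel]

theorem mem_A_inf_C (h : Data S A B D) {x : G} (hxA : x ∈ A) (hxC : x ∈ ⁅A, B⁆) : x = 1 := by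
  by_contra hx1
  exact ne_commutator_of_commutatorCase h.hS h.hcc
    (Cfsg.Agent.S5028.core h.hS h.hAS h.hDS h.hCS h.hAD hxA hxC hx1)

theorem conj_le (h : Data S A B D) {b : G} (hb : b ∈ B) : conjBy A b ≤ A ⊔ ⁅A, B⁆ := by
  intro y hy
  rw [mem_conjBy] at hy
  have h1 := mul_kap (b⁻¹ * y * b) b⁻¹
  have h2 : (b⁻¹)⁻¹ * (b⁻¹ * y * b) * b⁻¹ = y := by group
  rw [h2] at h1
  rw [← h1]
  exact Subgroup.mul_mem _ (Subgroup.mem_sup_left hy)
    (Subgroup.mem_sup_right (kap_mem_commutator hy (B.inv_mem hb)))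

/-- Decomposition of the elements of `A ⊔ C`. -/
theorem exists_mul (h : Data S A B D) {x : G} (hx : x ∈ A ⊔ ⁅A, B⁆) :
    ∃ a ∈ A, ∃ c ∈ ⁅A, B⁆, a * c = x := by
  have hAN : A ≤ Subgroup.normalizer ((⁅A, B⁆ : Subgroup G) : Set G) := by
    intro a ha
    apply Subgroup.centralizer_le_normalizer
    rw [Subgroup.mem_centralizer_iff]
    intro c hc
    exact h.comm_AC ha hc
  have hx' : x ∈ (↑(A ⊔ ⁅A, B⁆) : Set G) := hx
  rw [Subgroup.coe_mul_of_left_le_normalizer_right A _ hAN] at hx'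
  obtain ⟨a, ha, c, hc, hac⟩ := hx'
  exact ⟨a, ha, c, hc, hac⟩

/-- The elements of `A ⊔ C` outside `C` lie in conjugates of `A` under `B`. -/
theorem exists_conj_mem (h : Data S A B D) {x : G} (hx : x ∈ A ⊔ ⁅A, B⁆) (hxC : x ∉ ⁅A, B⁆) :
    ∃ b ∈ B, x ∈ conjBy A b := by
  obtain ⟨a, ha, c, hc, rfl⟩ := h.exists_mul hx
  have ha1 : a ≠ 1 := by
    rintro rfl
    rw [one_mul] at hxC
    exact hxC hc
  obtain ⟨b, hb, rfl⟩ := h.surj_right ha ha1 hc
  refine ⟨b⁻¹, B.inv_mem hb, ?_⟩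
  rw [mem_conjBy, mul_kap]
  have : (b⁻¹)⁻¹ * (b⁻¹ * a * b) * b⁻¹ = a := by group
  rw [this]
  exact ha

/-- No non-identity element of `C` centralizes `D`. -/
theorem not_centralize (h : Data S A B D) {e : G} (he : e ∈ ⁅A, B⁆) (he1 : e ≠ 1) :
    ¬ ∀ d ∈ D, e * d = d * e := by
  intro hcd
  obtain ⟨a, ha, ha1⟩ := RankOne.exists_ne_one_left h.hAD
  have hz : e ∈ Subgroup.centralizer ((A ⊔ D : Subgroup G) : Set G) := by
    have hle : A ⊔ D ≤ Subgroup.centralizer ({e} : Set G) := by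
      refine sup_le ?_ ?_
      · intro x hx
        rw [Subgroup.mem_centralizer_iff]
        intro y hy
        rw [Set.mem_singleton_iff] at hy
        rw [hy]
        exact h.comm_AC hx he
      · intro x hx
        rw [Subgroup.mem_centralizer_iff]
        intro y hy
        rw [Set.mem_singleton_iff] at hy
        rw [hy]
        exact hcd x hx
    rw [Subgroup.mem_centralizer_iff]
    intro y hy
    have := hle hy
    rw [Subgroup.mem_centralizer_iff] at this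
    exact (this e rfl).symm
  apply Cfsg.Agent.S5025.result h.hS h.hAS ⟨h.hDS, h.hAD⟩ hz he1 a ha ha1
  obtain ⟨b, hb, hbe⟩ := h.surj_right ha ha1 he
  have h1 : e * a = b⁻¹ * a * b := by
    rw [h.comm_AC ha he, ← hbe, mul_kap]
  refine ⟨?_, conjBy A b⁻¹, h.hS.conj_mem A h.hAS _, ?_⟩
  · rw [h1]
    intro hh
    apply ha1
    have := congrArg (fun t => b * t * b⁻¹) hh
    simpa [mul_assoc] using this
  · rw [h1, mem_conjBy]
    have : (b⁻¹)⁻¹ * (b⁻¹ * a * b) * b⁻¹ = a := by group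
    rw [this]
    exact ha

/-- A member of `S` inside `C` is `C`. -/
theorem eq_of_le_C (h : Data S A B D) {E : Subgroup G} (hES : E ∈ S) (hEC : E ≤ ⁅A, B⁆) :
    E = ⁅A, B⁆ := by
  obtain ⟨e, he1⟩ := (Subgroup.ne_bot_iff_exists_ne_one).mp (h.hS.ne_bot E hES)
  have he1' : (e : G) ≠ 1 := fun hh => he1 (Subtype.ext hh)
  have heC : (e : G) ∈ ⁅A, B⁆ := hEC e.2
  have hDA : IsRankOnePair D A := RankOnePair_symm h.hAD
  -- the rank one alternative
  have hrank : ∀ F : Subgroup G, F ∈ S → F ≤ ⁅A, B⁆ → IsRankOnePair D F →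
      ∃ g, F = conjBy A g := by
    intro F _ hFC hr
    exact exists_conj_of_common_partner h.hAD (RankOnePair_symm hr)
      (fun a ha x hx => (h.comm_AC ha (hFC hx)).symm)
  rcases h.hS.pair D h.hDS E hES with h0 | hr | hcE
  · exfalso
    rw [Subgroup.commutator_eq_bot_iff_le_centralizer] at h0
    apply h.not_centralize heC he1'
    intro d hd
    have := h0 hd
    rw [Subgroup.mem_centralizer_iff] at this
    exact this e e.2
  · obtain ⟨g, hg⟩ := hrank E hES hEC hr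
    rw [hg]
    exact conj_TI h.hS h.hAS h.hDS h.hAD g h.hCS (hg ▸ e.2) heC he1'
  · rcases h.hS.pair D h.hDS _ h.hCS with h0 | hr | hcC
    · exfalso
      rw [Subgroup.commutator_eq_bot_iff_le_centralizer] at h0
      apply h.not_centralize heC he1'
      intro d hd
      have := h0 hd
      rw [Subgroup.mem_centralizer_iff] at this
      exact this e heC
    · obtain ⟨g, hg⟩ := hrank _ h.hCS le_rfl hr
      have := conj_TI h.hS h.hAS h.hDS h.hAD g hES (hg ▸ heC) e.2 he1'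
      rw [← this, ← hg]
    · -- both in the commutator case
      have hDC : Data S D ⁅A, B⁆ A := ⟨h.hS, h.hDS, h.hCS, h.hAS, hDA, hcC⟩
      have hDE : Data S D E A := ⟨h.hS, h.hDS, hES, h.hAS, hDA, hcE⟩
      obtain ⟨d₀, hd₀, hd₀1⟩ := RankOne.exists_ne_one_left hDA
      apply le_antisymm hEC
      intro c hc
      obtain ⟨d₁, hd₁, hk1⟩ := hDC.surj_left heC he1' (kap_mem_commutator hd₀ hc)
      obtain ⟨e', he', hk2⟩ := hDE.surj_right hd₀ hd₀1 (kap_mem_commutator hd₁ e.2)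
      have := hDC.inj_right hd₀ hd₀1 (hEC he') hc (hk2.trans hk1)
      rw [← this]
      exact he'

end Data

end Aux

/-- Let S be a set of abstract root subgroups of G, A ∈ S having a rank one partner in S, and B ∈ S with C = ⁅A, B⁆ ∈ S. Then the members of S contained in AC are the conjugates of A by elements of B together with C, they partition AC, the members of S inside AC partition AC so that A is a line partner of C, and for every non-identity a ∈ A the map b ↦ a⁻¹ b⁻¹ a b is an isomorphism from B onto C. -/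
theorem result {G : Type*} [Group G] {S : Set (Subgroup G)} (hS : Cfsg.IsRootSubgroupSet S)
    {A B : Subgroup G} (hA : ¬ Cfsg.IsIsolatedIn (Cfsg.FAdj S) S A) (hAS : A ∈ S) (hB : B ∈ S) (hC : ⁅A, B⁆ ∈ S) :
    Cfsg.membersIn S (A ⊔ ⁅A, B⁆) = (fun b : G => Cfsg.conjBy A b) '' (B : Set G) ∪ {⁅A, B⁆} ∧
    Cfsg.IsSubgroupPartition (A ⊔ ⁅A, B⁆) (Cfsg.membersIn S (A ⊔ ⁅A, B⁆)) ∧
    A ∈ Cfsg.linePartners S ⁅A, B⁆ ∧
    ∀ a ∈ A, a ≠ 1 → ∃ φ : ↥B ≃* ↥⁅A, B⁆, ∀ b : ↥B, (φ b : G) = a⁻¹ * (b : G)⁻¹ * a * b := by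
  obtain ⟨D, hDS, hAD⟩ := exists_partner_of_not_isolated hA hAS
  have hcc := commutatorCase_of_mem hS hAS hB hC
  have h : Data S A B D := ⟨hS, hAS, hB, hDS, hAD, hcc⟩
  have hmem : Cfsg.membersIn S (A ⊔ ⁅A, B⁆) =
      (fun b : G => Cfsg.conjBy A b) '' (B : Set G) ∪ {⁅A, B⁆} := by
    ext M
    constructor
    · rintro ⟨hMS, hMN⟩
      by_cases hMC : M ≤ ⁅A, B⁆
      · right
        exact h.eq_of_le_C hMS hMC
      · left
        rw [SetLike.not_le_iff_exists] at hMC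
        obtain ⟨x, hxM, hxC⟩ := hMC
        obtain ⟨b, hb, hxb⟩ := h.exists_conj_mem (hMN hxM) hxC
        have hx1 : x ≠ 1 := by
          rintro rfl
          exact hxC (Subgroup.one_mem _)
        exact ⟨b, hb, conj_TI hS hAS hDS hAD b hMS hxb hxM hx1⟩
    · rintro (⟨b, hb, rfl⟩ | hM)
      · exact ⟨hS.conj_mem A hAS b, h.conj_le hb⟩
      · rw [Set.mem_singleton_iff] at hM
        rw [hM]
        exact ⟨hC, le_sup_right⟩
  have hpart : Cfsg.IsSubgroupPartition (A ⊔ ⁅A, B⁆) (Cfsg.membersIn S (A ⊔ ⁅A, B⁆)) := by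
    refine ⟨fun M hM => hM.2, fun x hx hx1 => ?_, fun M₁ hM₁ M₂ hM₂ hne => ?_⟩
    · by_cases hxC : x ∈ ⁅A, B⁆
      · exact ⟨_, ⟨hC, le_sup_right⟩, hxC⟩
      · obtain ⟨b, hb, hxb⟩ := h.exists_conj_mem hx hxC
        exact ⟨_, ⟨hS.conj_mem A hAS b, h.conj_le hb⟩, hxb⟩
    · by_contra hinf
      obtain ⟨x, hx1⟩ := (Subgroup.ne_bot_iff_exists_ne_one).mp hinf
      have hx1' : (x : G) ≠ 1 := fun hh => hx1 (Subtype.ext hh)
      have hM₁' := hM₁
      have hM₂' := hM₂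
      rw [hmem] at hM₁' hM₂'
      rcases hM₁' with ⟨b, hb, rfl⟩ | hM₁C
      · exact hne (conj_TI hS hAS hDS hAD b hM₂.1 x.2.1 x.2.2 hx1')
      · rcases hM₂' with ⟨b, hb, rfl⟩ | hM₂C
        · exact hne (conj_TI hS hAS hDS hAD b hM₁.1 x.2.2 x.2.1 hx1').symm
        · rw [Set.mem_singleton_iff] at hM₁C hM₂C
          exact hne (hM₁C.trans hM₂C.symm)
  refine ⟨hmem, hpart, ⟨⟨hAS, ne_commutator_of_commutatorCase hS hcc, ?_⟩, ?_⟩, fun a ha ha1 => ?_⟩
  · rw [Subgroup.commutator_eq_bot_iff_le_centralizer]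
    intro c hc
    rw [Subgroup.mem_centralizer_iff]
    intro a ha
    exact (h.comm_AC ha hc).symm
  · rw [sup_comm]
    exact hpart
  · let f : ↥B →* ↥⁅A, B⁆ := MonoidHom.mk'
      (fun b : B => (⟨kap a b, kap_mem_commutator ha b.2⟩ : ↥⁅A, B⁆))
      (fun b₁ b₂ => Subtype.ext (kap_mul_right h.hcen ha b₁.2 b₂.2))
    have hinj : Function.Injective f := by
      intro b₁ b₂ hb
      exact Subtype.ext (h.inj_right ha ha1 b₁.2 b₂.2 (congrArg Subtype.val hb))
    have hsurj : Function.Surjective f := by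
      intro c
      obtain ⟨b, hb, hbc⟩ := h.surj_right ha ha1 c.2
      exact ⟨⟨b, hb⟩, Subtype.ext hbc⟩
    exact ⟨MulEquiv.ofBijective f ⟨hinj, hsurj⟩, fun b => rfl⟩

end Cfsg.Agent.S5029
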