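import Cfsg.Statements.S5028
import Cfsg.Agent.Lib.H25.RootSubgroups

set_option autoImplicit false
open Cfsg

namespace Cfsg.Agent.S5028

open Cfsg.Agent.Lib.H25

/-- Core: `x ∈ A ∩ C`, `x ≠ 1`, `B` a rank one partner of `A`, `C, B ∈ S` ⇒ `A = C`. -/
theorem core {G : Type*} [Group G] {S : Set (Subgroup G)} (hS : Cfsg.IsRootSubgroupSet S)
    {A B C : Subgroup G} (hAS : A ∈ S) (hBS : B ∈ S) (hCS : C ∈ S) (hAB : IsRankOnePair A B)
    {x : G} (hxA : x ∈ A) (hxC : x ∈ C) (hx1 : x ≠ 1) : A = C := by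
  by_contra hne
  rcases hS.pair C hCS B hBS with h0 | hr | hc
  · -- `C` centralizes `B`
    rw [Subgroup.commutator_eq_bot_iff_le_centralizer] at h0
    exact hx1 (RankOne.eq_one_of_mem_normalizer hAB hxA
      (Subgroup.centralizer_le_normalizer _ (h0 hxC)))
  · -- `(C, B)` rank one
    obtain ⟨b', hb', -, hE'⟩ := hr.cond_left x hxC hx1
    obtain ⟨b, hb, -, hE⟩ := hAB.cond_left x hxA hx1
    have hC : C = conjBy A (b' * b⁻¹) := by
      rw [← conjBy_conjBy, hE, ← hE', conjBy_conjBy]; simp [conjBy_one]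
    rcases RankOne.conjBy_left_by_right hAB (B.mul_mem hb' (B.inv_mem hb)) with h1 | ⟨a, ha, h1⟩
    · exact hne (by rw [hC, h1])
    · rw [h1] at hC
      rw [hC, mem_conjBy] at hxC
      have hcomm : a⁻¹ * x * a = x := by
        rw [mul_assoc, comm_of_isMulCommutative (hS.commutative A hAS) hxA ha, ← mul_assoc,
          inv_mul_cancel, one_mul]
      rw [hcomm] at hxC
      exact hx1 (RankOne.eq_one_of_mem_normalizer hAB hxA (Subgroup.le_normalizer hxC))
  · -- commutator case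
    obtain ⟨b', hb', hd1⟩ := exists_commutator_ne_one hS hc hxC hx1
    have hdmem : x * b' * x⁻¹ * b'⁻¹ ∈ ⁅C, B⁆ := by
      have := Subgroup.commutator_mem_commutator hxC hb'
      rwa [commutatorElement_def] at this
    apply hd1
    apply RankOne.commutator_eq_one_of_central hAB hxA hx1 hb'
    · exact hc.2.1 _ hdmem x (Subgroup.mem_sup_left hxC)
    · intro y hy
      exact hc.2.1 _ hdmem y (Subgroup.mem_sup_right hy)

theorem result {G : Type*} [Group G] {S : Set (Subgroup G)} (hS : Cfsg.IsRootSubgroupSet S)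
    {A : Subgroup G} (hA : ¬ Cfsg.IsIsolatedIn (Cfsg.FAdj S) S A) (hAS : A ∈ S) : ∀ B ∈ S, A ⊓ B = ⊥ ∨ A = B := by
  obtain ⟨B, hBS, hAB⟩ := exists_partner_of_not_isolated hA hAS
  intro C hCS
  by_cases h : A ⊓ C = ⊥
  · left; exact h
  · right
    obtain ⟨x, hx1⟩ := (Subgroup.ne_bot_iff_exists_ne_one).mp h
    have hx1' : (x : G) ≠ 1 := fun hh => hx1 (Subtype.ext hh)
    exact core hS hAS hBS hCS hAB x.2.1 x.2.2 hx1'

end Cfsg.Agent.S5028
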