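import Cfsg.Statements.S5034
import Cfsg.Agent.Lib.H6.Tim2L

set_option autoImplicit false
open Cfsg

namespace Cfsg.Agent.S5034

/-- Let S be a non-degenerate class of abstract root subgroups of G, A ∈ S and B a rank one partner of A. Then some line partner C of A has ⁅B, C⁆ ∈ S, and the rank one pair A, B is special. -/
theorem result {G : Type*} [Group G] {S : Set (Subgroup G)} (hS : Cfsg.IsRootSubgroupClass S) (hnd : Cfsg.IsNondegenerateRootSet S)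
    {A B : Subgroup G} (hA : A ∈ S) (hB : B ∈ Cfsg.rankOnePartners S A) :
    (∃ C ∈ Cfsg.linePartners S A, C ∈ Cfsg.commutatorPartners S B) ∧ Cfsg.IsSpecialRankOnePair A B := by

  open Cfsg.Agent.Lib.H25 Cfsg.Agent.Lib.H6.Tim2L Cfsg.Agent.Lib.H6.Tim211 Cfsg.Agent.Lib.H6.FConn
    Cfsg.Agent.Lib.H6.NatMod in
  obtain ⟨hS', hcl⟩ := hS
  obtain ⟨hBS, hAB⟩ := hB
  have hall : ∀ P ∈ S, ∃ E ∈ S, IsRankOnePair P E := by
    intro P hP
    obtain ⟨g, rfl⟩ := hcl.2 A hA P hP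
    exact ⟨conjBy B g, hS'.conj_mem B hBS g, RankOne.isRankOnePair_conj hAB g⟩
  have hni : ¬ IsIsolatedIn (FAdj S) S A := not_isolated_of_pair hA hBS hAB
  -- a line partner of `A`
  obtain ⟨A₁, hA₁, B₁, hB₁, hcc₁⟩ := hnd.2.2
  obtain ⟨g, hg⟩ := hcl.2 A₁ hA₁ A hA
  have hcc' := commutatorCase_conj hS' hA₁ hB₁ hcc₁ g
  rw [← hg] at hcc'
  obtain ⟨-, hpartD, hlineD, -⟩ :=
    Cfsg.Agent.S5029.result hS' hni hA (hS'.conj_mem B₁ hB₁ g) hcc'.1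
  obtain ⟨D, hDdef⟩ : ∃ D, D = ⁅A, conjBy B₁ g⁆ := ⟨_, rfl⟩
  rw [← hDdef] at hpartD hlineD
  have hDS : D ∈ S := hDdef ▸ hcc'.1
  obtain ⟨⟨-, hAD, hcomDA⟩, -⟩ := hlineD
  have hcmDA : Cm D A := Cm_iff_commutator.2 hcomDA
  have hAA : Cm A A := fun x hx y hy => comm_of_isMulCommutative (hS'.commutative A hA) hx hy
  have hDD : Cm D D := fun x hx y hy => comm_of_isMulCommutative (hS'.commutative D hDS) hx hy
  have hN : Line S (A ⊔ D) :=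
    ⟨hpartD, Cm.sup_left (Cm.sup_right hAA hcmDA.symm) (Cm.sup_right hcmDA hDD)⟩
  obtain ⟨C, hC, hCA, hcc, hcc3, hAF, -, hpart, -⟩ :=
    key hS' hN ⟨hA, le_sup_left⟩ ⟨hDS, le_sup_right⟩ hAD hBS hAB
      (fun P hP => hall P hP.1)
  have hcmAC : Cm A C := hN.cm ⟨hA, le_sup_left⟩ hC
  refine ⟨⟨C, ⟨⟨hC.1, hCA, Cm_iff_commutator.1 hcmAC⟩, hpart⟩, hC.1, ?_⟩, ?_⟩
  · rw [Subgroup.commutator_comm]; exact hcc.1
  · have hcfg : Cfg S ⁅C, B⁆ A C B :=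
      ⟨hS', hcc.1, hA, hC.1, hBS, by rw [Subgroup.commutator_comm]; exact hAF,
        Subgroup.commutator_comm B C⟩
    exact hcfg.special_BD

end Cfsg.Agent.S5034
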