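import Cfsg.Statements.S5032
import Cfsg.Agent.Lib.H6.FConnClass

set_option autoImplicit false
open Cfsg

namespace Cfsg.Agent.S5032

/-- Let S be a set of abstract root subgroups of G with more than one member. Then the graph of rank one pairs on S is connected if and only if S is a single conjugacy class of G and some member of S has a rank one partner in S. -/
theorem result {G : Type*} [Group G] {S : Set (Subgroup G)} (hS : Cfsg.IsRootSubgroupSet S) (h2 : ∃ A ∈ S, ∃ B ∈ S, A ≠ B) :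
    Cfsg.IsConnectedFamily (Cfsg.FAdj S) S ↔
      (Cfsg.IsConjClassOfSubgroups S ∧ ∃ A ∈ S, ¬ Cfsg.IsIsolatedIn (Cfsg.FAdj S) S A) := by
  constructor
  · intro hc
    obtain ⟨A, hA, B, hB, hAB⟩ := h2
    refine ⟨⟨⟨A, hA⟩, ?_⟩, A, hA, ?_⟩
    · intro A₁ hA₁ B₁ hB₁
      exact Cfsg.Agent.Lib.H6.FConn.exists_conj_of_rtg (hc A₁ hA₁ B₁ hB₁)
    · obtain ⟨C, hC, hAC⟩ := Cfsg.Agent.Lib.H6.FConn.exists_partner_of_rtg (hc A hA B hB) hAB.symm
      exact Cfsg.Agent.Lib.H6.FConn.not_isolated_of_pair hA hC hAC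
  · rintro ⟨hcl, A, hA, hni⟩
    obtain ⟨B, hB, hAB⟩ := Cfsg.Agent.Lib.H25.exists_partner_of_not_isolated hni hA
    exact Cfsg.Agent.Lib.H6.FConn.connected_of_class hS hcl hA hB hAB

end Cfsg.Agent.S5032
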