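import Cfsg.Statements.S5033
import Cfsg.Agent.Lib.H6.QS3
import Cfsg.Agent.S5032

set_option autoImplicit false
open Cfsg

namespace Cfsg.Agent.S5033

/-- Quasisimplicity criterion for groups generated by abstract root subgroups. Let S be a set of abstract root subgroups of G with more than one member such that: the graph of rank one pairs on S is connected; no two different members of S have the same set of commuting members of S; if S is degenerate then every member of S has more than three elements; and every rank one pair in S is special. Then for every A ∈ S one has G = G' A with A ∩ G' ≠ 1, and the commutator subgroup G' is quasisimple. Moreover G is perfect if S is non-degenerate, or if some rank one pair A, B in S generates a perfect group. -/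
theorem result {G : Type*} [Group G] {S : Set (Subgroup G)} (hS : Cfsg.IsRootSubgroupSet S) (h2 : ∃ A ∈ S, ∃ B ∈ S, A ≠ B)
    (h1 : Cfsg.IsConnectedFamily (Cfsg.FAdj S) S)
    (h2' : ∀ A ∈ S, ∀ C ∈ S, A ≠ C → Cfsg.centralizingMembers S A ≠ Cfsg.centralizingMembers S C)
    (h3 : Cfsg.IsDegenerateRootSet S → ∀ A ∈ S, 3 < ENat.card A)
    (h4 : ∀ A ∈ S, ∀ B ∈ Cfsg.rankOnePartners S A, Cfsg.IsSpecialRankOnePair A B) :
    (∀ A ∈ S, commutator G ⊔ A = ⊤ ∧ A ⊓ commutator G ≠ ⊥) ∧ Cfsg.IsQuasisimple ↥(commutator G) ∧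
    (Cfsg.IsNondegenerateRootSet S → commutator G = ⊤) ∧
    ((∃ A ∈ S, ∃ B ∈ Cfsg.rankOnePartners S A, Group.IsPerfect ↥(A ⊔ B)) → commutator G = ⊤) := by

  open Cfsg.Agent.Lib.H25 Cfsg.Agent.Lib.H6.FConn Cfsg.Agent.Lib.H6.SpR1 Cfsg.Agent.Lib.H6.QS in
  have hcl : Cfsg.IsConjClassOfSubgroups S := ((Cfsg.Agent.S5032.result hS h2).1 h1).1
  have hpartner : ∀ A ∈ S, ∃ B ∈ S, Cfsg.IsRankOnePair A B := by
    intro A hA
    obtain ⟨A₁, hA₁, B₁, hB₁, hne⟩ := h2
    by_cases hAA : A₁ = A
    · have hne' : B₁ ≠ A := fun hh => hne (hAA.trans hh.symm)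
      exact exists_partner_of_rtg (h1 A hA B₁ hB₁) hne'
    · exact exists_partner_of_rtg (h1 A hA A₁ hA₁) hAA
  have hyp : Hyp S :=
    ⟨hS, hcl, h1, hpartner, h2', fun A hA B hB hAB =>
      SpAb.of (h4 A hA B ⟨hB, hAB⟩) ⟨hS.commutative A hA, hS.commutative B hB⟩, h3⟩
  obtain ⟨r1, r2, r3⟩ := hyp.main
  refine ⟨r1, r2, r3, ?_⟩
  rintro ⟨A, hA, B, hB, hperf⟩
  have hX : ⁅A ⊔ B, A ⊔ B⁆ = A ⊔ B := Subgroup.isPerfect_iff.1 hperf
  have hAK : A ≤ commutator G := by
    have h5 : A ⊔ B ≤ commutator G := by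
      rw [← hX, commutator_def]
      exact Subgroup.commutator_mono le_top le_top
    exact le_sup_left.trans h5
  rw [← (r1 A hA).1]
  exact (sup_eq_left.2 hAK).symm

end Cfsg.Agent.S5033
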