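import Cfsg.Statements.S5060
import Cfsg.Agent.Lib.H18.SL2Alg4
import Cfsg.Agent.Lib.H18.SL2Alg5

set_option autoImplicit false
open Cfsg

namespace Cfsg.Agent.S5060

open Matrix Cfsg.Agent.Lib.H4.Dickson Cfsg.Agent.Lib.H18.SL2Alg IntermediateField

/-- The abstract form: in `SL₂(E)`, `E = k(g)` with a power basis, the elementary matrices with entries in `k`
and `k g` generate everything. -/
theorem core {k E : Type*} [Field k] [Field E] [Algebra k E] (hk2 : ringChar k ≠ 2)
    (hk3 : Nat.card k ≠ 3) (pb : PowerBasis k E) (hg : pb.gen ≠ 0)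
    {L : Subgroup (Matrix.SpecialLinearGroup (Fin 2) E)}
    (hU : ∀ c : k, uu (algebraMap k E c) ∈ L)
    (hLo : ∀ c : k, ll (algebraMap k E c * pb.gen) ∈ L) : L = ⊤ := by
  rcases finite_or_infinite k with hfin | hinf
  · haveI : Module.Finite k E := pb.finite
    haveI : Finite E := Module.finite_of_finite k
    exact eq_top_of_finite hk2 hk3 hg pb.adjoin_gen_eq_top hU hLo
  · exact eq_top_of_infinite pb (Ring.two_ne_zero hk2) hg hU hLo

/-- Let k ⊆ K be fields with the characteristic of k not 2 and k not of order 3, and let α ∈ K be a non-zero element algebraic over k. Then the subgroup of SL₂(K) generated by the upper unitriangular matrices with entry c and the lower unitriangular matrices with entry cα, c ranging over k, is exactly the group of matrices of SL₂(K) with all entries in k(α). -/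
theorem result {k K : Type*} [Field k] [Field K] [Algebra k K] (hk2 : ringChar k ≠ 2) (hk3 : Nat.card k ≠ 3)
    (α : K) (hα : IsAlgebraic k α) (hα0 : α ≠ 0) :
    (Subgroup.closure ({g : Matrix.SpecialLinearGroup (Fin 2) K | ∃ c : k, (g : Matrix (Fin 2) (Fin 2) K) = !![1, algebraMap k K c; 0, 1]} ∪
        {g : Matrix.SpecialLinearGroup (Fin 2) K | ∃ c : k, (g : Matrix (Fin 2) (Fin 2) K) = !![1, 0; algebraMap k K c * α, 1]}) :
      Set (Matrix.SpecialLinearGroup (Fin 2) K)) =
    {g : Matrix.SpecialLinearGroup (Fin 2) K | ∀ i j : Fin 2, (g : Matrix (Fin 2) (Fin 2) K) i j ∈ IntermediateField.adjoin k ({α} : Set K)} := by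
  classical
  have hint : IsIntegral k α := hα.isIntegral
  obtain ⟨pb, hpb⟩ : ∃ pb : PowerBasis k k⟮α⟯, pb.gen = AdjoinSimple.gen k α :=
    ⟨adjoin.powerBasis hint, rfl⟩
  have hgen : ((pb.gen : k⟮α⟯) : K) = α := by rw [hpb, AdjoinSimple.coe_gen]
  have hg : pb.gen ≠ 0 := by
    intro h0
    rw [h0] at hgen
    exact hα0 hgen.symm
  -- the map on `SL₂`
  obtain ⟨φ, hφ⟩ : ∃ φ : Matrix.SpecialLinearGroup (Fin 2) k⟮α⟯ →* Matrix.SpecialLinearGroup (Fin 2) K,
      φ = Matrix.SpecialLinearGroup.map (algebraMap k⟮α⟯ K) := ⟨_, rfl⟩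
  have hφe : ∀ (g : Matrix.SpecialLinearGroup (Fin 2) k⟮α⟯) (i j : Fin 2),
      ((φ g : Matrix.SpecialLinearGroup (Fin 2) K) : Matrix (Fin 2) (Fin 2) K) i j =
        (((g : Matrix (Fin 2) (Fin 2) k⟮α⟯) i j : k⟮α⟯) : K) := by
    intro g i j
    rw [hφ]
    rfl
  obtain ⟨SE, hSE⟩ : ∃ SE : Set (Matrix.SpecialLinearGroup (Fin 2) k⟮α⟯),
      SE = {g | ∃ c : k, g = uu (algebraMap k k⟮α⟯ c)} ∪ {g | ∃ c : k, g = ll (algebraMap k k⟮α⟯ c * pb.gen)} :=
    ⟨_, rfl⟩
  have htop : Subgroup.closure SE = ⊤ := by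
    apply core hk2 hk3 pb hg
    · intro c
      exact Subgroup.subset_closure (by rw [hSE]; exact Or.inl ⟨c, rfl⟩)
    · intro c
      exact Subgroup.subset_closure (by rw [hSE]; exact Or.inr ⟨c, rfl⟩)
  obtain ⟨SK, hSK⟩ : ∃ SK : Set (Matrix.SpecialLinearGroup (Fin 2) K), SK =
      {g : Matrix.SpecialLinearGroup (Fin 2) K | ∃ c : k, (g : Matrix (Fin 2) (Fin 2) K) = !![1, algebraMap k K c; 0, 1]} ∪
        {g : Matrix.SpecialLinearGroup (Fin 2) K | ∃ c : k, (g : Matrix (Fin 2) (Fin 2) K) = !![1, 0; algebraMap k K c * α, 1]} :=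
    ⟨_, rfl⟩
  rw [← hSK]
  have hcoe : ∀ c : k, ((algebraMap k k⟮α⟯ c : k⟮α⟯) : K) = algebraMap k K c := fun c => rfl
  -- generators correspond
  have himg : φ '' SE = SK := by
    ext g
    constructor
    · rintro ⟨h, hh, rfl⟩
      rw [hSE] at hh
      rw [hSK]
      rcases hh with ⟨c, rfl⟩ | ⟨c, rfl⟩
      · left
        refine ⟨c, ?_⟩
        ext i j
        rw [hφe]
        fin_cases i <;> fin_cases j <;> simp [hcoe]
      · right
        refine ⟨c, ?_⟩
        ext i j
        rw [hφe]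
        fin_cases i <;> fin_cases j <;> simp [hcoe, hgen]
    · intro hgS
      rw [hSK] at hgS
      rcases hgS with ⟨c, hc⟩ | ⟨c, hc⟩
      · refine ⟨uu (algebraMap k k⟮α⟯ c), by rw [hSE]; exact Or.inl ⟨c, rfl⟩, ?_⟩
        apply Subtype.ext
        rw [hc]
        ext i j
        rw [hφe]
        fin_cases i <;> fin_cases j <;> simp [hcoe]
      · refine ⟨ll (algebraMap k k⟮α⟯ c * pb.gen), by rw [hSE]; exact Or.inr ⟨c, rfl⟩, ?_⟩
        apply Subtype.ext
        rw [hc]
        ext i j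
        rw [hφe]
        fin_cases i <;> fin_cases j <;> simp [hcoe, hgen]
  have hcl : Subgroup.closure SK = (⊤ : Subgroup (Matrix.SpecialLinearGroup (Fin 2) k⟮α⟯)).map φ := by
    rw [← htop, MonoidHom.map_closure, himg]
  rw [hcl]
  ext g
  simp only [Subgroup.coe_map, Subgroup.coe_top, Set.image_univ, Set.mem_range, Set.mem_setOf_eq]
  constructor
  · rintro ⟨h, rfl⟩ i j
    rw [hφe]
    exact SetLike.coe_mem _
  · intro hgE
    have hdet : (Matrix.of fun i j : Fin 2 => (⟨(g : Matrix (Fin 2) (Fin 2) K) i j, hgE i j⟩ : k⟮α⟯)).det = 1 := by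
      have hinj : Function.Injective (algebraMap k⟮α⟯ K) := (algebraMap k⟮α⟯ K).injective
      apply hinj
      rw [RingHom.map_det, map_one]
      have : (algebraMap k⟮α⟯ K).mapMatrix (Matrix.of fun i j : Fin 2 =>
          (⟨(g : Matrix (Fin 2) (Fin 2) K) i j, hgE i j⟩ : k⟮α⟯)) = (g : Matrix (Fin 2) (Fin 2) K) := by
        ext i j
        rfl
      rw [this]
      exact g.det_coe
    refine ⟨⟨_, hdet⟩, ?_⟩
    apply Subtype.ext
    ext i j
    exact hφe ⟨_, hdet⟩ i j

end Cfsg.Agent.S5060
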