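import Mathlib
import Cfsg.Statements.S0957
import Cfsg.Agent.Lib.H5.Orbits

set_option autoImplicit false
open Cfsg

namespace Cfsg.Agent.S0957

open Cfsg.Agent.Lib.H5

/-- The set of pairs (y, z) with y ~ g, z ~ h, z * y⁻¹ ∈ P. -/
abbrev Om {G : Type*} [Group G] (P : Subgroup G) (g h : G) : Type _ :=
  {yz : G × G // IsConj g yz.1 ∧ IsConj h yz.2 ∧ yz.2 * yz.1⁻¹ ∈ P}

/-- The action of `P` on pairs by simultaneous conjugation. -/
@[instance_reducible]
def omAction {G : Type*} [Group G] (P : Subgroup G) (g h : G) : MulAction P (Om P g h) where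
  smul u yz := ⟨((u : G) * yz.1.1 * (u : G)⁻¹, (u : G) * yz.1.2 * (u : G)⁻¹), by
    obtain ⟨⟨y, z⟩, h1, h2, h3⟩ := yz
    refine ⟨h1.trans (isConj_iff.mpr ⟨u, rfl⟩), h2.trans (isConj_iff.mpr ⟨u, rfl⟩), ?_⟩
    simp only at h3 ⊢
    have : (u : G) * z * (u : G)⁻¹ * ((u : G) * y * (u : G)⁻¹)⁻¹ = u * (z * y⁻¹) * (u : G)⁻¹ := by group
    rw [this]
    exact P.mul_mem (P.mul_mem u.2 h3) (P.inv_mem u.2)⟩
  one_smul yz := by
    apply Subtype.ext
    show (((1 : P) : G) * yz.1.1 * ((1 : P) : G)⁻¹, ((1 : P) : G) * yz.1.2 * ((1 : P) : G)⁻¹) = yz.1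
    simp
  mul_smul u v yz := by
    apply Subtype.ext
    show (((u * v : P) : G) * yz.1.1 * ((u * v : P) : G)⁻¹, ((u * v : P) : G) * yz.1.2 * ((u * v : P) : G)⁻¹)
      = ((u : G) * ((v : G) * yz.1.1 * (v : G)⁻¹) * (u : G)⁻¹, (u : G) * ((v : G) * yz.1.2 * (v : G)⁻¹) * (u : G)⁻¹)
    simp only [Subgroup.coe_mul, mul_inv_rev, Prod.mk.injEq]
    constructor <;> group

/-- Let P be a Sylow p-subgroup of the finite group G, let g, h ∈ G and let p ^ d be the order of a Sylow p-subgroup of the centralizer of g. Then the number of pairs (y, z) with y conjugate to g, z conjugate to h and z * y⁻¹ ∈ P is divisible by the order of P divided by p ^ d. -/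
theorem result {G : Type*} [Group G] [Finite G] (p : ℕ) [Fact p.Prime] (P : Sylow p G) (g h : G) (S : Sylow p (Subgroup.centralizer ({g} : Set G))) : Nat.card P / Nat.card S ∣ Nat.card {yz : G × G // IsConj g yz.1 ∧ IsConj h yz.2 ∧ yz.2 * yz.1⁻¹ ∈ (P : Subgroup G)} := by
  have hp : p.Prime := Fact.out
  let _ := omAction (P : Subgroup G) g h
  have hsmul : ∀ (u : (P : Subgroup G)) (yz : Om (P : Subgroup G) g h),
      (u • yz).1 = ((u : G) * yz.1.1 * (u : G)⁻¹, (u : G) * yz.1.2 * (u : G)⁻¹) := fun _ _ => rfl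
  apply dvd_card_of_forall_dvd_card_orbit (P := (P : Subgroup G)) (X := Om (P : Subgroup G) g h)
  intro x
  have hos := card_orbit_mul_card_stabilizer (P := (P : Subgroup G)) x
  -- the stabilizer has order dividing |S|
  set St := MulAction.stabilizer (P : Subgroup G) x with hSt
  have hStp : IsPGroup p St := P.2.to_subgroup St
  -- embed St into the centralizer of y
  let y := x.1.1
  have hgy : IsConj g y := x.2.1
  let T : Subgroup (Subgroup.centralizer ({y} : Set G)) :=
    (St.map (P : Subgroup G).subtype).subgroupOf (Subgroup.centralizer ({y} : Set G))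
  have hle : St.map (P : Subgroup G).subtype ≤ Subgroup.centralizer ({y} : Set G) := by
    rintro _ ⟨u, hu, rfl⟩
    rw [Subgroup.mem_centralizer_singleton_iff]
    have h1 : u • x = x := hu
    have h2 := congrArg (fun w : Om (P : Subgroup G) g h => w.1.1) h1
    simp only [hsmul] at h2
    show (u : G) * y = y * u
    calc (u : G) * y = ((u : G) * y * (u : G)⁻¹) * u := by group
      _ = y * u := by rw [h2]
  have hTcard : Nat.card T = Nat.card St := by
    have e1 := (Subgroup.subgroupOfEquivOfLe hle).toEquiv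
    have e2 := (St.equivMapOfInjective (P : Subgroup G).subtype (Subgroup.subtype_injective _)).toEquiv
    rw [Nat.card_congr e1, ← Nat.card_congr e2]
  have hTp : IsPGroup p T := by
    apply IsPGroup.of_card (n := (Nat.card St).factorization p)
    rw [hTcard]
    obtain ⟨k, hk⟩ := hStp.exists_card_eq
    rw [hk, hp.factorization_pow]
    simp
  obtain ⟨Q, hQ⟩ := hTp.exists_le_sylow
  have hQcard : Nat.card Q = Nat.card S := by
    rw [Sylow.card_eq_multiplicity, Sylow.card_eq_multiplicity, card_centralizer_of_isConj hgy]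
  have hdvd1 : Nat.card St ∣ Nat.card S := by
    rw [← hTcard, ← hQcard]
    exact Subgroup.card_dvd_of_le hQ
  -- |S| divides |P|
  have hdvd2 : Nat.card S ∣ Nat.card P := by
    rw [Sylow.card_eq_multiplicity, Sylow.card_eq_multiplicity]
    apply pow_dvd_pow
    have hd : Nat.card (Subgroup.centralizer ({g} : Set G)) ∣ Nat.card G := Subgroup.card_subgroup_dvd_card _
    exact (Nat.factorization_le_iff_dvd (Nat.card_pos.ne') (Nat.card_pos.ne')).mpr hd p
  obtain ⟨k, hk⟩ := hdvd1
  obtain ⟨m, hm⟩ := hdvd2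
  have hSpos : 0 < Nat.card S := Nat.card_pos
  have hStpos : 0 < Nat.card St := Nat.card_pos
  have h1 : Nat.card (P : Subgroup G) / Nat.card S = m := by
    rw [hm]; exact Nat.mul_div_cancel_left m hSpos
  rw [h1]
  have h2 : Nat.card (MulAction.orbit (P : Subgroup G) x) = k * m := by
    have : Nat.card (MulAction.orbit (P : Subgroup G) x) * Nat.card St = (k * m) * Nat.card St := by
      rw [hos, hm, hk]; ring
    exact Nat.eq_of_mul_eq_mul_right hStpos this
  rw [h2]
  exact Dvd.intro_left k rfl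

end Cfsg.Agent.S0957
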