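import Cfsg.Statements.S0071
import Cfsg.Agent.Lib.L0.FrobeniusPC
-- import your own Cfsg.Agent.* helpers here

set_option autoImplicit false
open Cfsg

namespace Cfsg.Agent.S0071

/-- The Frobenius normal p-complement Theorem states that a Sylow p-subgroup has a normal complement exactly when, for each of its subgroups Q, every element of the normalizer of Q of order prime to p centralizes Q. -/
theorem result {G : Type*} [Group G] [Finite G] {p : ℕ} [Fact p.Prime] (P : Sylow p G) : (∃ N : Subgroup G, N.Normal ∧ N.IsComplement' (P : Subgroup G)) ↔ ∀ Q : Subgroup G, Q ≤ (P : Subgroup G) → ∀ g ∈ Subgroup.normalizer (Q : Set G), Nat.Coprime (orderOf g) p → g ∈ Subgroup.centralizer (Q : Set G) := by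
  constructor
  · rintro ⟨N, hN, hc⟩ Q hQP g hg hgp
    have hdisj : N ⊓ (P : Subgroup G) = ⊥ := hc.disjoint.eq_bot
    -- g lies in N
    have hgN : g ∈ N := by
      rw [← QuotientGroup.eq_one_iff]
      have h1 : orderOf (QuotientGroup.mk g : G ⧸ N) ∣ orderOf g :=
        orderOf_dvd_of_pow_eq_one (by rw [← QuotientGroup.mk_pow, pow_orderOf_eq_one]; rfl)
      obtain ⟨k, hk⟩ := P.2.exists_card_eq
      have h2 : orderOf (QuotientGroup.mk g : G ⧸ N) ∣ p ^ k := by
        rw [← hk, ← hc.symm.index_eq_card, Subgroup.index_eq_card]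
        exact orderOf_dvd_natCard _
      have h3 := Nat.dvd_gcd h1 h2
      rw [(Nat.Coprime.pow_right k hgp).gcd_eq_one, Nat.dvd_one] at h3
      exact orderOf_eq_one_iff.mp h3
    rw [Subgroup.mem_centralizer_iff]
    intro q hq
    have hmem : g * q * g⁻¹ * q⁻¹ ∈ N ⊓ (P : Subgroup G) := by
      constructor
      · have : g * q * g⁻¹ * q⁻¹ = g * (q * g⁻¹ * q⁻¹) := by group
        rw [this]
        exact N.mul_mem hgN (hN.conj_mem _ (N.inv_mem hgN) q)
      · apply (P : Subgroup G).mul_mem _ ((P : Subgroup G).inv_mem (hQP hq))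
        exact hQP ((Subgroup.mem_normalizer_iff.mp hg q).mp hq)
    rw [hdisj, Subgroup.mem_bot] at hmem
    have : g * q = (g * q * g⁻¹ * q⁻¹) * (q * g) := by group
    rw [this, hmem, one_mul]
  · intro h
    apply Cfsg.Agent.Lib.L0.HasNormalPComplement.forall_sylow _ P
    apply Cfsg.Agent.Lib.L0.hasNormalPComplement_of_frobHyp
    intro Q' hQ' g hg hgp
    obtain ⟨x, hx⟩ := Cfsg.Agent.Lib.H16.exists_conj_mem_sylow Q' hQ' P
    -- Q := x Q' x⁻¹ ≤ P
    have hQP : Cfsg.Agent.Lib.H16.cj x Q' ≤ (P : Subgroup G) := by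
      rw [Cfsg.Agent.Lib.H16.cj_le_iff]
      exact hx
    have hgn : x * g * x⁻¹ ∈ Subgroup.normalizer ((Cfsg.Agent.Lib.H16.cj x Q' : Subgroup G) : Set G) := by
      apply Cfsg.Agent.Lib.H16.mem_normalizer_of_conj_mem
      intro y hy
      rw [Cfsg.Agent.Lib.H16.mem_cj_iff] at hy ⊢
      have h1 := (Subgroup.mem_normalizer_iff.mp hg _).mp hy
      have : x⁻¹ * (x * g * x⁻¹ * y * (x * g * x⁻¹)⁻¹) * x = g * (x⁻¹ * y * x) * g⁻¹ := by group
      rw [this]
      exact h1
    have hord : Nat.Coprime (orderOf (x * g * x⁻¹)) p := by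
      have hsc : SemiconjBy x g (x * g * x⁻¹) := by unfold SemiconjBy; group
      rw [← hsc.orderOf_eq]
      exact hgp
    have hcent := h _ hQP _ hgn hord
    rw [Subgroup.mem_centralizer_iff] at hcent ⊢
    intro q hq
    have := hcent (x * q * x⁻¹) (Cfsg.Agent.Lib.H16.conj_mem_cj x Q' q hq)
    have e : q * g = x⁻¹ * ((x * q * x⁻¹) * (x * g * x⁻¹)) * x := by group
    rw [e, this]
    group

end Cfsg.Agent.S0071
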