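import Mathlib
import Cfsg.Agent.Lib.H3.Schmidt2
import Cfsg.Agent.Lib.H22.UniqueOrderP

set_option autoImplicit false
open Cfsg
open scoped Pointwise

namespace Cfsg.Agent.S4071

variable {G : Type*} [Group G]

theorem comm_of_isMulCommutative {A : Subgroup G} (hAc : IsMulCommutative A) :
    ∀ a ∈ A, ∀ b ∈ A, a * b = b * a := fun a ha b hb =>
  congrArg Subtype.val (hAc.is_comm.comm ⟨a, ha⟩ ⟨b, hb⟩)

theorem not_comm_exists {H : Subgroup G} (hH : ¬ IsMulCommutative H) :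
    ∃ h₁ ∈ H, ∃ h₂ ∈ H, h₁ * h₂ ≠ h₂ * h₁ := by
  by_contra hcon
  push_neg at hcon
  exact hH ⟨⟨fun a b => Subtype.ext (hcon a.1 a.2 b.1 b.2)⟩⟩

/-- the injectivity of the commutator map with a fixed-point-free element -/
theorem comm_inj {A : Subgroup G} (hAn : A.Normal) (h : G)
    (hcent : ∀ b ∈ A, h * b = b * h → b = 1) {s t : G} (hs : s ∈ A) (ht : t ∈ A)
    (hst : s * h * s⁻¹ * h⁻¹ = t * h * t⁻¹ * h⁻¹) : s = t := by
  have h1 : s * h * s⁻¹ = t * h * t⁻¹ := mul_right_cancel hst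
  have h2 : h * (t⁻¹ * s) = (t⁻¹ * s) * h := by
    have : h = t⁻¹ * (s * h * s⁻¹) * t := by rw [h1]; group
    calc h * (t⁻¹ * s) = (t⁻¹ * (s * h * s⁻¹) * t) * (t⁻¹ * s) := by rw [← this]
      _ = (t⁻¹ * s) * h := by group
  have h3 := hcent (t⁻¹ * s) (A.mul_mem (A.inv_mem ht) hs) h2
  exact (inv_mul_eq_one.mp h3).symm

theorem backward [Finite G] (x : G) (A : Subgroup G) (p : ℕ) (hp : p.Prime) (hAn : A.Normal)
    (hAc : IsMulCommutative A) (k : ℕ) (hk : orderOf x = p ^ k)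
    (hcompl : (Subgroup.zpowers x).IsComplement' A) (hz : x ^ p ∈ Subgroup.center G)
    (hfpf : ∀ a : G, a ∈ A → a ≠ 1 → x * a * x⁻¹ ≠ a)
    (H : Subgroup G) (hH : ¬ IsMulCommutative H) : Subgroup.normalizer (H : Set G) = H := by
  classical
  have hcomm := comm_of_isMulCommutative hAc
  -- decomposition
  have hdec : ∀ g : G, ∃ (i : ℤ) (a : G), a ∈ A ∧ g = x ^ i * a := by
    intro g
    obtain ⟨⟨⟨s, hs⟩, ⟨t, ht⟩⟩, hst⟩ := hcompl.2 g
    obtain ⟨i, rfl⟩ := Subgroup.mem_zpowers_iff.mp hs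
    exact ⟨i, t, ht, hst.symm⟩
  -- central powers
  have hcen : ∀ i : ℤ, (p : ℤ) ∣ i → ∀ g : G, g * x ^ i = x ^ i * g := by
    rintro i ⟨j, rfl⟩ g
    have : x ^ ((p : ℤ) * j) = (x ^ p) ^ j := by rw [zpow_mul, zpow_natCast]
    rw [this]
    exact Subgroup.mem_center_iff.mp ((Subgroup.center G).zpow_mem hz j) g
  -- an element of H outside B
  obtain ⟨h₁, hh₁, h₂, hh₂, hne⟩ := not_comm_exists hH
  have hex : ∃ h ∈ H, ∃ (i : ℤ) (a : G), a ∈ A ∧ h = x ^ i * a ∧ ¬ (p : ℤ) ∣ i := by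
    obtain ⟨i₁, a₁, ha₁, e₁⟩ := hdec h₁
    obtain ⟨i₂, a₂, ha₂, e₂⟩ := hdec h₂
    by_cases hd₁ : (p : ℤ) ∣ i₁
    · by_cases hd₂ : (p : ℤ) ∣ i₂
      · exfalso
        apply hne
        rw [e₁, e₂]
        have c1 := hcen i₁ hd₁
        have c2 := hcen i₂ hd₂
        calc x ^ i₁ * a₁ * (x ^ i₂ * a₂) = x ^ i₁ * (a₁ * x ^ i₂) * a₂ := by group
          _ = x ^ i₁ * (x ^ i₂ * a₁) * a₂ := by rw [c2 a₁]
          _ = x ^ i₁ * x ^ i₂ * (a₁ * a₂) := by group
          _ = x ^ i₂ * x ^ i₁ * (a₂ * a₁) := by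
              rw [hcomm a₁ ha₁ a₂ ha₂, (c1 (x ^ i₂)).symm]
          _ = x ^ i₂ * (x ^ i₁ * a₂) * a₁ := by group
          _ = x ^ i₂ * (a₂ * x ^ i₁) * a₁ := by rw [c1 a₂]
          _ = x ^ i₂ * a₂ * (x ^ i₁ * a₁) := by group
      · exact ⟨h₂, hh₂, i₂, a₂, ha₂, e₂, hd₂⟩
    · exact ⟨h₁, hh₁, i₁, a₁, ha₁, e₁, hd₁⟩
  obtain ⟨h, hhH, i, a, ha, rfl, hni⟩ := hex
  -- a power of h lies in x A
  have hcop : IsCoprime ((p : ℤ) ^ k) i :=
    (((Nat.prime_iff_prime_int.mp hp).irreducible.coprime_iff_not_dvd).mpr hni).pow_left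
  obtain ⟨u, v, huv⟩ := hcop
  have hxpk : x ^ ((p : ℤ) ^ k) = 1 := by
    have := pow_orderOf_eq_one x
    rw [hk] at this
    rw [← Nat.cast_pow, zpow_natCast]
    exact this
  have hxv : (x ^ i) ^ v = x := by
    have : x ^ (u * (p : ℤ) ^ k + v * i) = x := by rw [huv, zpow_one]
    rw [zpow_add, mul_comm u, zpow_mul, hxpk, one_zpow, one_mul, mul_comm v, zpow_mul] at this
    exact this
  have hmk : ∀ g : G, ∀ b ∈ A, ((g * b : G) : G ⧸ A) = (g : G ⧸ A) := by
    intro g b hb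
    rw [QuotientGroup.mk_mul, (QuotientGroup.eq_one_iff b).mpr hb, mul_one]
  obtain ⟨h', hh', hh'x⟩ : ∃ h' ∈ H, x⁻¹ * h' ∈ A := by
    refine ⟨(x ^ i * a) ^ v, H.zpow_mem hhH v, ?_⟩
    have : (x : G ⧸ A) = (((x ^ i * a) ^ v : G) : G ⧸ A) := by
      rw [QuotientGroup.mk_zpow, hmk _ a ha, ← QuotientGroup.mk_zpow, hxv]
    exact QuotientGroup.eq.mp this
  -- h' acts fixed point freely
  have hconj : ∀ b ∈ A, h' * b * h'⁻¹ = x * b * x⁻¹ := by
    intro b hb
    have e : h' = x * (x⁻¹ * h') := by group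
    have hc := hcomm _ hh'x b hb
    calc h' * b * h'⁻¹ = x * ((x⁻¹ * h') * b) * (x⁻¹ * h')⁻¹ * x⁻¹ := by group
      _ = x * (b * (x⁻¹ * h')) * (x⁻¹ * h')⁻¹ * x⁻¹ := by rw [hc]
      _ = x * b * x⁻¹ := by group
  have hcent : ∀ b ∈ A, h' * b = b * h' → b = 1 := by
    intro b hb hbc
    by_contra hb1
    apply hfpf b hb hb1
    rw [← hconj b hb, hbc]
    group
  -- every element is h'^j * b
  have hdec' : ∀ g : G, ∃ (j : ℤ) (b : G), b ∈ A ∧ g = h' ^ j * b := by
    intro g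
    obtain ⟨j, c, hc, rfl⟩ := hdec g
    refine ⟨j, (h' ^ j)⁻¹ * (x ^ j * c), ?_, by group⟩
    apply QuotientGroup.eq.mp
    rw [hmk _ c hc, QuotientGroup.mk_zpow, QuotientGroup.mk_zpow]
    congr 1
    exact (QuotientGroup.eq.mpr hh'x).symm
  refine le_antisymm (fun g hg => ?_) Subgroup.le_normalizer
  obtain ⟨j, b, hb, rfl⟩ := hdec' g
  have hjH : h' ^ j ∈ H := H.zpow_mem hh' j
  suffices hbH : b ∈ H from H.mul_mem hjH hbH
  have hbN : b ∈ Subgroup.normalizer (H : Set G) := by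
    have : b = (h' ^ j)⁻¹ * (h' ^ j * b) := by group
    rw [this]
    exact Subgroup.mul_mem _ (Subgroup.inv_mem _ (Subgroup.le_normalizer hjH)) hg
  -- the commutator of b with h'
  have hcH : b * h' * b⁻¹ * h'⁻¹ ∈ H :=
    H.mul_mem ((Subgroup.mem_normalizer_iff.mp hbN h').mp hh') (H.inv_mem hh')
  have hcA : ∀ s ∈ A, s * h' * s⁻¹ * h'⁻¹ ∈ A := by
    intro s hs
    have : s * h' * s⁻¹ * h'⁻¹ = s * (h' * s⁻¹ * h'⁻¹) := by group
    rw [this]
    exact A.mul_mem hs (hAn.conj_mem _ (A.inv_mem hs) _)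
  -- the self map on H ⊓ A
  let f : ↥(H ⊓ A) → ↥(H ⊓ A) := fun s =>
    ⟨s.1 * h' * s.1⁻¹ * h'⁻¹,
      H.mul_mem (H.mul_mem (H.mul_mem s.2.1 hh') (H.inv_mem s.2.1)) (H.inv_mem hh'),
      hcA s.1 s.2.2⟩
  have hfinj : Function.Injective f := by
    intro s t hst
    apply Subtype.ext
    exact comm_inj hAn h' hcent s.2.2 t.2.2 (congrArg Subtype.val hst)
  have hfsurj : Function.Surjective f := Finite.injective_iff_surjective.mp hfinj
  obtain ⟨s, hs⟩ := hfsurj ⟨b * h' * b⁻¹ * h'⁻¹, hcH, hcA b hb⟩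
  have := comm_inj hAn h' hcent s.2.2 hb (congrArg Subtype.val hs)
  rw [← this]
  exact s.2.1

/-- key coprime lemma: a commutator `a x a⁻¹ x⁻¹` commuting with `x` is trivial. -/
theorem comm_eq_one_of_commute [Finite G] {A : Subgroup G} (hAn : A.Normal) {p k : ℕ} (hp : p.Prime)
    (hpA : ¬ p ∣ Nat.card A) {x : G} (hk : orderOf x = p ^ k) {a : G} (ha : a ∈ A)
    (hc : (a * x * a⁻¹ * x⁻¹) * x = x * (a * x * a⁻¹ * x⁻¹)) : a * x * a⁻¹ * x⁻¹ = 1 := by
  obtain ⟨c, hcdef⟩ : ∃ c, c = a * x * a⁻¹ * x⁻¹ := ⟨_, rfl⟩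
  rw [← hcdef] at hc ⊢
  have hcA : c ∈ A := by
    have : c = a * (x * a⁻¹ * x⁻¹) := by rw [hcdef]; group
    rw [this]
    exact A.mul_mem ha (hAn.conj_mem _ (A.inv_mem ha) _)
  have h1 : (a * x * a⁻¹) ^ (p ^ k) = 1 := by
    rw [conj_pow, ← hk, pow_orderOf_eq_one]; group
  have h2 : a * x * a⁻¹ = c * x := by rw [hcdef]; group
  have hcomm : Commute c x := hc
  rw [h2, hcomm.mul_pow, ← hk, pow_orderOf_eq_one, mul_one, hk] at h1
  have h3 : orderOf c ∣ p ^ k := orderOf_dvd_of_pow_eq_one h1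
  have h4 : orderOf c ∣ Nat.card A := by
    have := orderOf_dvd_natCard (⟨c, hcA⟩ : A)
    rwa [Subgroup.orderOf_mk] at this
  have h5 : Nat.Coprime (p ^ k) (Nat.card A) :=
    Nat.Coprime.pow_left k ((Nat.Prime.coprime_iff_not_dvd hp).mpr hpA)
  have h6 : orderOf c = 1 := Nat.eq_one_of_dvd_coprimes h5 h3 h4
  exact orderOf_eq_one_iff.mp h6

theorem forward [Finite G] [Group.IsSolvable G] (hnn : ¬ Group.IsNilpotent G)
    (hyp : ∀ H : Subgroup G, ¬ IsMulCommutative H → Subgroup.normalizer (H : Set G) = H) :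
    ∃ (x : G) (A : Subgroup G) (p : ℕ), p.Prime ∧ A.Normal ∧ IsMulCommutative A ∧
      (∃ k : ℕ, orderOf x = p ^ k) ∧
      ¬ p ∣ Nat.card A ∧ (Subgroup.zpowers x).IsComplement' A ∧ x ^ p ∈ Subgroup.center G ∧
      ∀ a : G, a ∈ A → a ≠ 1 → x * a * x⁻¹ ≠ a := by
  classical
  haveI : Nontrivial G := by
    by_contra h
    rw [not_nontrivial_iff_subsingleton] at h
    exact hnn inferInstance
  obtain ⟨M, hMn, hMp⟩ := Cfsg.Agent.Lib.H3.exists_normal_prime_index (G := G)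
  obtain ⟨p, hpdef⟩ : ∃ p, p = M.index := ⟨_, rfl⟩
  rw [← hpdef] at hMp
  have hp : p.Prime := hMp
  haveI : Fact p.Prime := ⟨hp⟩
  have hMtop : M ≠ ⊤ := by
    intro h
    rw [h, Subgroup.index_top] at hpdef
    exact hp.ne_one hpdef
  -- M is abelian
  have hMab : IsMulCommutative M := by
    by_contra hc
    have h1 := hyp M hc
    have h2 : Subgroup.normalizer (M : Set G) = ⊤ := Subgroup.normalizer_eq_top_iff.mpr hMn
    exact hMtop (h1.symm.trans h2)
  have hMcomm := comm_of_isMulCommutative hMab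
  -- the p'-part of M
  obtain ⟨n', hn'⟩ : ∃ n', n' = ordCompl[p] (Nat.card M) := ⟨_, rfl⟩
  obtain ⟨a₀, ha₀⟩ : ∃ a₀, a₀ = (Nat.card M).factorization p := ⟨_, rfl⟩
  have hcardM : Nat.card M = p ^ a₀ * n' := by
    rw [ha₀, hn']; exact (Nat.ordProj_mul_ordCompl_eq_self _ _).symm
  have hcopn : Nat.Coprime p n' := by
    rw [hn']; exact Nat.coprime_ordCompl hp Nat.card_pos.ne'
  let A : Subgroup G :=
    { carrier := {g | g ∈ M ∧ g ^ n' = 1}
      mul_mem' := by
        rintro a b ⟨ha, ha'⟩ ⟨hb, hb'⟩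
        refine ⟨M.mul_mem ha hb, ?_⟩
        have hc : Commute a b := hMcomm a ha b hb
        rw [hc.mul_pow, ha', hb', one_mul]
      one_mem' := ⟨M.one_mem, one_pow _⟩
      inv_mem' := by
        rintro a ⟨ha, ha'⟩
        exact ⟨M.inv_mem ha, by rw [inv_pow, ha', inv_one]⟩ }
  have hAmem : ∀ g, g ∈ A ↔ g ∈ M ∧ g ^ n' = 1 := fun g => Iff.rfl
  have hAM : A ≤ M := fun g hg => hg.1
  have hAn : A.Normal := by
    constructor
    intro a ha g
    refine ⟨hMn.conj_mem a ha.1 g, ?_⟩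
    rw [conj_pow, ha.2]; group
  have hAcomm : ∀ a ∈ A, ∀ b ∈ A, a * b = b * a := fun a ha b hb => hMcomm a ha.1 b hb.1
  have hAab : IsMulCommutative A := ⟨⟨fun a b => Subtype.ext (hAcomm a.1 a.2 b.1 b.2)⟩⟩
  have hpA : ¬ p ∣ Nat.card A := by
    intro hd
    obtain ⟨a, ha⟩ := exists_prime_orderOf_dvd_card' p hd
    have h1 : (a : G) ^ n' = 1 := a.2.2
    have h2 : orderOf (a : G) = p := by rw [Subgroup.orderOf_coe]; exact ha
    have h3 : p ∣ n' := by rw [← h2]; exact orderOf_dvd_of_pow_eq_one h1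
    have := Nat.eq_one_of_dvd_coprimes hcopn (dvd_refl p) h3
    exact hp.ne_one this
  -- G / A is a p-group
  have hpowM : ∀ g : G, g ^ p ∈ M := by
    intro g; rw [hpdef]; exact Subgroup.pow_index_mem M g
  have hpowA : ∀ g : G, g ^ (p ^ (a₀ + 1)) ∈ A := by
    intro g
    have hm : g ^ p ∈ M := hpowM g
    have e : g ^ (p ^ (a₀ + 1)) = (g ^ p) ^ (p ^ a₀) := by
      rw [← pow_mul, pow_succ, mul_comm]
    rw [e]
    refine ⟨M.pow_mem hm _, ?_⟩
    rw [← pow_mul, ← hcardM]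
    have := pow_card_eq_one' (G := M) (x := ⟨g ^ p, hm⟩)
    exact congrArg Subtype.val this
  have hQp : IsPGroup p (G ⧸ A) := by
    intro q
    obtain ⟨g, rfl⟩ := QuotientGroup.mk_surjective q
    refine ⟨a₀ + 1, ?_⟩
    rw [← QuotientGroup.mk_pow]
    exact (QuotientGroup.eq_one_iff _).mpr (hpowA g)
  haveI hQnil : Group.IsNilpotent (G ⧸ A) := hQp.isNilpotent
  -- choose x outside M of p-power order
  obtain ⟨g₀, hg₀⟩ : ∃ g₀ : G, g₀ ∉ M := by
    by_contra hcon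
    push_neg at hcon
    exact hMtop (eq_top_iff.mpr fun g _ => hcon g)
  obtain ⟨x, hxdef⟩ : ∃ x, x = g₀ ^ n' := ⟨_, rfl⟩
  have hxM : x ∉ M := by
    intro hx
    apply hg₀
    have hc : IsCoprime (p : ℤ) (n' : ℤ) := Nat.isCoprime_iff_coprime.mpr hcopn
    obtain ⟨u, v, huv⟩ := hc
    have : g₀ = (g₀ ^ p) ^ u * (g₀ ^ n') ^ v := by
      rw [← zpow_natCast, ← zpow_natCast, ← zpow_mul, ← zpow_mul, ← zpow_add, mul_comm _ u,
        mul_comm _ v, huv, zpow_one]
    rw [this]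
    exact M.mul_mem (M.zpow_mem (hpowM g₀) u) (M.zpow_mem (hxdef ▸ hx) v)
  have hxpow : x ^ (p ^ (a₀ + 1)) = 1 := by
    have := (hpowA g₀).2
    rw [hxdef, ← pow_mul, mul_comm, pow_mul]
    exact this
  obtain ⟨k, -, hk⟩ := (Nat.dvd_prime_pow hp).mp (orderOf_dvd_of_pow_eq_one hxpow)
  -- subgroups containing M and x are everything
  have htop : ∀ C : Subgroup G, M ≤ C → x ∈ C → C = ⊤ := by
    intro C hMC hxC
    exact Cfsg.Agent.Lib.H22.eq_top_of_index_prime_of_lt hpdef.symm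
      (SetLike.lt_iff_le_and_exists.mpr ⟨hMC, x, hxC, hxM⟩)
  -- x ^ p is central
  have hxpc : x ^ p ∈ Subgroup.center G := by
    have h1 : Subgroup.centralizer ({x ^ p} : Set G) = ⊤ := by
      apply htop
      · intro m hm
        rw [Subgroup.mem_centralizer_iff]
        intro h hh
        rw [Set.mem_singleton_iff] at hh
        rw [hh]
        exact hMcomm _ (hpowM x) m hm
      · rw [Subgroup.mem_centralizer_iff]
        intro h hh
        rw [Set.mem_singleton_iff] at hh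
        rw [hh, ← pow_succ, ← pow_succ']
    rw [Subgroup.mem_center_iff]
    intro g
    have hg : g ∈ Subgroup.centralizer ({x ^ p} : Set G) := by rw [h1]; trivial
    exact (Subgroup.mem_centralizer_iff.mp hg (x ^ p) rfl).symm
  -- x does not centralize A
  have hxA : ¬ ∀ a ∈ A, x * a = a * x := by
    intro hcen
    apply hnn
    have hAZ : A ≤ Subgroup.center G := by
      intro a ha
      have h1 : Subgroup.centralizer ({a} : Set G) = ⊤ := by
        apply htop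
        · intro m hm
          rw [Subgroup.mem_centralizer_iff]
          intro h hh
          rw [Set.mem_singleton_iff] at hh
          rw [hh]
          exact hMcomm a ha.1 m hm
        · rw [Subgroup.mem_centralizer_iff]
          intro h hh
          rw [Set.mem_singleton_iff] at hh
          rw [hh]
          exact (hcen a ha).symm
      rw [Subgroup.mem_center_iff]
      intro g
      have hg : g ∈ Subgroup.centralizer ({a} : Set G) := by rw [h1]; trivial
      exact (Subgroup.mem_centralizer_iff.mp hg a rfl).symm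
    exact Subgroup.isNilpotent_of_ker_le_center (QuotientGroup.mk' A)
      (by rw [QuotientGroup.ker_mk']; exact hAZ)
  -- ⟨x⟩ A = G
  have hsup : Subgroup.zpowers x ⊔ A = ⊤ := by
    obtain ⟨H, hHdef⟩ : ∃ H, H = Subgroup.zpowers x ⊔ A := ⟨_, rfl⟩
    rw [← hHdef]
    have hxH : x ∈ H := by rw [hHdef]; exact le_sup_left (a := Subgroup.zpowers x) (Subgroup.mem_zpowers x)
    have hAH : A ≤ H := by rw [hHdef]; exact le_sup_right
    have hHna : ¬ IsMulCommutative H := by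
      intro hc
      apply hxA
      intro a ha
      exact comm_of_isMulCommutative hc x hxH a (hAH ha)
    have hN := hyp H hHna
    have hsurj : Function.Surjective (QuotientGroup.mk' A) := QuotientGroup.mk'_surjective A
    have hcm : (H.map (QuotientGroup.mk' A)).comap (QuotientGroup.mk' A) = H := by
      rw [Subgroup.comap_map_eq, QuotientGroup.ker_mk']
      exact sup_eq_left.mpr hAH
    have hN' : Subgroup.normalizer ((H.map (QuotientGroup.mk' A) : Subgroup (G ⧸ A)) : Set (G ⧸ A))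
        = H.map (QuotientGroup.mk' A) := by
      apply Subgroup.comap_injective hsurj
      rw [Subgroup.comap_normalizer_eq_of_surjective _ hsurj, hcm, hN]
    have hnc : NormalizerCondition (G ⧸ A) := normalizerCondition_of_isNilpotent
    have h3 := (normalizerCondition_iff_only_full_group_self_normalizing.mp hnc) _ hN'
    rw [← hcm, h3, Subgroup.comap_top]
  have hdisj : Disjoint (Subgroup.zpowers x) A := by
    apply Subgroup.disjoint_of_coprime_natCard
    rw [Nat.card_zpowers, hk]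
    exact Nat.Coprime.pow_left k ((Nat.Prime.coprime_iff_not_dvd hp).mpr hpA)
  have hcompl : (Subgroup.zpowers x).IsComplement' A := by
    apply Subgroup.isComplement'_of_disjoint_and_mul_eq_univ hdisj
    rw [← Subgroup.mul_normal, hsup, Subgroup.coe_top]
  refine ⟨x, A, p, hp, hAn, hAab, ⟨k, hk⟩, hpA, hcompl, hxpc, ?_⟩
  -- fixed-point-freeness
  have hφA : ∀ a ∈ A, a * x * a⁻¹ * x⁻¹ ∈ A := by
    intro a ha
    have : a * x * a⁻¹ * x⁻¹ = a * (x * a⁻¹ * x⁻¹) := by group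
    rw [this]
    exact A.mul_mem ha (hAn.conj_mem _ (A.inv_mem ha) _)
  let I : Subgroup G :=
    { carrier := {c | ∃ a ∈ A, c = a * x * a⁻¹ * x⁻¹}
      one_mem' := ⟨1, A.one_mem, by group⟩
      mul_mem' := by
        rintro _ _ ⟨a, ha, rfl⟩ ⟨b, hb, rfl⟩
        refine ⟨a * b, A.mul_mem ha hb, ?_⟩
        have ha' : x * a⁻¹ * x⁻¹ ∈ A := hAn.conj_mem _ (A.inv_mem ha) _
        have hb' : b * x * b⁻¹ * x⁻¹ ∈ A := hφA b hb
        have hc := hAcomm _ ha' _ hb'
        calc a * x * a⁻¹ * x⁻¹ * (b * x * b⁻¹ * x⁻¹)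
            = a * ((x * a⁻¹ * x⁻¹) * (b * x * b⁻¹ * x⁻¹)) := by group
          _ = a * ((b * x * b⁻¹ * x⁻¹) * (x * a⁻¹ * x⁻¹)) := by rw [hc]
          _ = a * b * x * (a * b)⁻¹ * x⁻¹ := by group
      inv_mem' := by
        rintro _ ⟨a, ha, rfl⟩
        refine ⟨a⁻¹, A.inv_mem ha, ?_⟩
        have ha' : x * a * x⁻¹ ∈ A := hAn.conj_mem _ ha _
        have hc := hAcomm _ ha' _ (A.inv_mem ha)
        calc (a * x * a⁻¹ * x⁻¹)⁻¹ = (x * a * x⁻¹) * a⁻¹ := by group
          _ = a⁻¹ * (x * a * x⁻¹) := hc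
          _ = a⁻¹ * x * a⁻¹⁻¹ * x⁻¹ := by group }
  have hIA : I ≤ A := by rintro _ ⟨a, ha, rfl⟩; exact hφA a ha
  have hIn : I.Normal := by
    rw [← Subgroup.normalizer_eq_top_iff, eq_top_iff, ← hsup]
    refine sup_le ?_ ?_
    · rw [Subgroup.zpowers_le, Subgroup.mem_normalizer_iff]
      intro h
      constructor
      · rintro ⟨a, ha, rfl⟩
        exact ⟨x * a * x⁻¹, hAn.conj_mem a ha x, by group⟩
      · rintro ⟨a, ha, hh⟩
        refine ⟨x⁻¹ * a * x, ?_, ?_⟩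
        · have := hAn.conj_mem a ha x⁻¹
          rwa [inv_inv] at this
        · have : h = x⁻¹ * (x * h * x⁻¹) * x := by group
          rw [this, hh]; group
    · intro a' ha'
      rw [Subgroup.mem_normalizer_iff]
      intro h
      constructor
      · intro hh
        have : a' * h * a'⁻¹ = h := by rw [hAcomm a' ha' h (hIA hh)]; group
        rwa [this]
      · intro hh
        have hhA : h ∈ A := by
          have : h = a'⁻¹ * (a' * h * a'⁻¹) * a'⁻¹⁻¹ := by group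
          rw [this]; exact hAn.conj_mem _ (hIA hh) _
        have : a' * h * a'⁻¹ = h := by rw [hAcomm a' ha' h hhA]; group
        rwa [this] at hh
  obtain ⟨K, hKdef⟩ : ∃ K, K = Subgroup.zpowers x ⊔ I := ⟨_, rfl⟩
  have hxK : x ∈ K := by
    rw [hKdef]; exact le_sup_left (a := Subgroup.zpowers x) (Subgroup.mem_zpowers x)
  have hIK : I ≤ K := by rw [hKdef]; exact le_sup_right
  have hKna : ¬ IsMulCommutative K := by
    intro hc
    apply hxA
    intro a ha
    have hcI : a * x * a⁻¹ * x⁻¹ ∈ I := ⟨a, ha, rfl⟩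
    have h1 := comm_of_isMulCommutative hc _ (hIK hcI) x hxK
    have h2 := comm_eq_one_of_commute hAn hp hpA hk ha h1
    have h3 : a * x * a⁻¹ = x := mul_inv_eq_one.mp h2
    calc x * a = (a * x * a⁻¹) * a := by rw [h3]
      _ = a * x := by group
  have hKN := hyp K hKna
  intro c₀ hc₀ hc₀1 hfix
  apply hc₀1
  have hc₀x : c₀ * x = x * c₀ := by
    calc c₀ * x = (x * c₀ * x⁻¹) * x := by rw [hfix]
      _ = x * c₀ := by group
  have hc₀Z : c₀ ∈ Subgroup.center G := by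
    have h1 : Subgroup.centralizer ({c₀} : Set G) = ⊤ := by
      rw [eq_top_iff, ← hsup]
      refine sup_le ?_ ?_
      · rw [Subgroup.zpowers_le, Subgroup.mem_centralizer_iff]
        intro h hh
        rw [Set.mem_singleton_iff] at hh
        rw [hh]; exact hc₀x
      · intro a ha
        rw [Subgroup.mem_centralizer_iff]
        intro h hh
        rw [Set.mem_singleton_iff] at hh
        rw [hh]; exact hAcomm c₀ hc₀ a ha
    rw [Subgroup.mem_center_iff]
    intro g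
    have hg : g ∈ Subgroup.centralizer ({c₀} : Set G) := by rw [h1]; trivial
    exact (Subgroup.mem_centralizer_iff.mp hg c₀ rfl).symm
  have hc₀N : c₀ ∈ Subgroup.normalizer (K : Set G) := by
    rw [Subgroup.mem_normalizer_iff]
    intro h
    have : c₀ * h * c₀⁻¹ = h := by
      rw [← Subgroup.mem_center_iff.mp hc₀Z h]; group
    rw [this]
  rw [hKN] at hc₀N
  have hc₀mul : c₀ ∈ ((Subgroup.zpowers x : Set G) * (I : Set G)) := by
    rw [← Subgroup.mul_normal, ← hKdef]; exact hc₀N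
  obtain ⟨y, hy, c, hc, hyc⟩ := Set.mem_mul.mp hc₀mul
  have hyA : y ∈ A := by
    have : y = c₀ * c⁻¹ := by rw [← hyc]; group
    rw [this]
    exact A.mul_mem hc₀ (A.inv_mem (hIA hc))
  have hy1 : y = 1 := Subgroup.disjoint_def.mp hdisj hy hyA
  rw [hy1, one_mul] at hyc
  obtain ⟨a, ha, hca⟩ := hc
  rw [← hyc, hca]
  apply comm_eq_one_of_commute hAn hp hpA hk ha
  rw [← hca, hyc]
  exact hc₀x

theorem result {G : Type*} [Group G] [Finite G]
    [Group.IsSolvable G] (hnn : ¬ Group.IsNilpotent G) :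
    (∀ H : Subgroup G, ¬ IsMulCommutative H → Subgroup.normalizer (H : Set G) = H) ↔
    ∃ (x : G) (A : Subgroup G) (p : ℕ), p.Prime ∧ A.Normal ∧ IsMulCommutative A ∧ (∃ k : ℕ, orderOf x = p ^ k) ∧
      ¬ p ∣ Nat.card A ∧ (Subgroup.zpowers x).IsComplement' A ∧ x ^ p ∈ Subgroup.center G ∧
      ∀ a : G, a ∈ A → a ≠ 1 → x * a * x⁻¹ ≠ a := by
  constructor
  · exact forward hnn
  · rintro ⟨x, A, p, hp, hAn, hAc, ⟨k, hk⟩, -, hcompl, hz, hfpf⟩ H hH
    exact backward x A p hp hAn hAc k hk hcompl hz hfpf H hH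

end Cfsg.Agent.S4071
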