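import Mathlib

namespace Cfsg.Agent.S4075

theorem result {G : Type*} [Group G] [Finite G]
    [Group.IsNilpotent G] :
    (∀ H : Subgroup G, ¬ IsMulCommutative H → Subgroup.normalizer (H : Set G) = H) ↔
    (IsMulCommutative G ∨ (IsPrimePow (Nat.card G) ∧ ¬ IsMulCommutative G ∧ ∀ H : Subgroup G, H ≠ ⊤ → IsMulCommutative H)) := by
  classical
  constructor
  · intro h
    by_cases hG : IsMulCommutative G
    · exact Or.inl hG
    right
    have hprop : ∀ H : Subgroup G, H ≠ ⊤ → IsMulCommutative H := by
      intro H hH
      by_contra hc
      have h1 := h H hc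
      have h2 : NormalizerCondition G := normalizerCondition_of_isNilpotent
      have h3 := (normalizerCondition_iff_only_full_group_self_normalizing.mp h2) H h1
      exact hH h3
    refine ⟨?_, hG, hprop⟩
    by_contra hpp
    apply hG
    -- every Sylow subgroup is proper, hence abelian
    have hsyl : ∀ (p : ℕ) [Fact p.Prime] (P : Sylow p G), IsMulCommutative (P : Subgroup G) := by
      intro p _ P
      apply hprop
      intro hP
      have hcard : Nat.card G = p ^ (Nat.card G).factorization p := by
        have := P.card_eq_multiplicity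
        rw [hP, Subgroup.card_top] at this
        exact this
      by_cases hk : (Nat.card G).factorization p = 0
      · rw [hk, pow_zero] at hcard
        have : Subsingleton G := (Nat.card_eq_one_iff_unique.mp hcard).1
        exact hG ⟨⟨fun a b => Subsingleton.elim _ _⟩⟩
      · apply hpp
        rw [hcard]
        exact (Fact.out : p.Prime).isPrimePow.pow hk
    have e := Sylow.directProductOfNormal (G := G) (fun {p} _ P => inferInstance)
    refine ⟨⟨fun a b => ?_⟩⟩
    obtain ⟨u, rfl⟩ := e.surjective a
    obtain ⟨v, rfl⟩ := e.surjective b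
    rw [← map_mul, ← map_mul]
    congr 1
    funext q
    funext P
    haveI : Fact (q : ℕ).Prime := ⟨Nat.prime_of_mem_primeFactors q.2⟩
    haveI := hsyl q P
    exact mul_comm' _ _
  · rintro (hG | ⟨_, hG, hprop⟩) H hH
    · exfalso
      apply hH
      refine ⟨⟨fun a b => ?_⟩⟩
      exact Subtype.ext (hG.is_comm.comm a.1 b.1)
    · by_cases hT : H = ⊤
      · subst hT
        exact Subgroup.normalizer_eq_top (⊤ : Subgroup G)
      · exact absurd (hprop H hT) hH

end Cfsg.Agent.S4075
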