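import Mathlib
import Cfsg.Agent.S4071
import Cfsg.Agent.S4075
import Cfsg.Agent.Lib.L0.FrobeniusPC

set_option autoImplicit false
open Cfsg

namespace Cfsg.Agent.S4072

universe u

/-- every non-abelian subgroup is self-normalizing -/
def SN (G : Type*) [Group G] : Prop :=
  ∀ H : Subgroup G, ¬ IsMulCommutative H → Subgroup.normalizer (H : Set G) = H

theorem SN.subgroup {G : Type*} [Group G] (h : SN G) (K : Subgroup G) : SN ↥K := by
  intro H hH
  refine le_antisymm (fun g hg => ?_) Subgroup.le_normalizer
  have hH' : ¬ IsMulCommutative (H.map K.subtype) := by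
    intro hc
    apply hH
    refine ⟨⟨fun a b => ?_⟩⟩
    have := Cfsg.Agent.S4071.comm_of_isMulCommutative hc (a : G)
      (Subgroup.mem_map_of_mem _ a.2) (b : G) (Subgroup.mem_map_of_mem _ b.2)
    apply Subtype.ext
    apply Subtype.ext
    exact this
  have h1 := h _ hH'
  have h2 : (g : G) ∈ Subgroup.normalizer ((H.map K.subtype : Subgroup G) : Set G) := by
    rw [Subgroup.mem_normalizer_iff]
    intro y
    constructor
    · rintro ⟨y', hy', rfl⟩
      exact ⟨g * y' * g⁻¹, (Subgroup.mem_normalizer_iff.mp hg y').mp hy', rfl⟩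
    · rintro ⟨w, hw, hwe⟩
      have hyK : y ∈ K := by
        have : y = (g : G)⁻¹ * (w : G) * (g : G) := by
          have hwe' : (w : G) = (g : G) * y * (g : G)⁻¹ := hwe
          rw [hwe']; group
        rw [this]
        exact K.mul_mem (K.mul_mem (K.inv_mem g.2) w.2) g.2
      refine ⟨⟨y, hyK⟩, ?_, rfl⟩
      apply (Subgroup.mem_normalizer_iff.mp hg ⟨y, hyK⟩).mpr
      have : g * ⟨y, hyK⟩ * g⁻¹ = w := by
        apply Subtype.ext
        exact hwe.symm
      rw [this]; exact hw
  rw [h1] at h2
  obtain ⟨w, hw, hwe⟩ := h2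
  have : w = g := Subtype.ext hwe
  rw [← this]; exact hw

/-- A finite group in which every nontrivial subgroup is self-normalizing is commutative. -/
theorem comm_of_all_selfnormalizing {Q : Type*} [Group Q] [Finite Q]
    (h : ∀ T : Subgroup Q, T ≠ ⊥ → Subgroup.normalizer (T : Set Q) = T) :
    ∀ a b : Q, a * b = b * a := by
  classical
  by_cases hQ : Nat.card Q = 1
  · have : Subsingleton Q := (Nat.card_eq_one_iff_unique.mp hQ).1
    intro a b; exact Subsingleton.elim _ _
  obtain ⟨q, hq, hqd⟩ := Nat.exists_prime_and_dvd hQ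
  haveI : Fact q.Prime := ⟨hq⟩
  obtain ⟨T⟩ := (inferInstance : Nonempty (Sylow q Q))
  have hT1 : (T : Subgroup Q) ≠ ⊥ := T.ne_bot_of_dvd_card hqd
  have hTN := h T hT1
  -- T is abelian, via its centre
  have hTab : ∀ a ∈ (T : Subgroup Q), ∀ b ∈ (T : Subgroup Q), a * b = b * a := by
    haveI : Nontrivial ↥(T : Subgroup Q) := (Subgroup.nontrivial_iff_ne_bot _).mpr hT1
    have hZnt : Nontrivial (Subgroup.center ↥(T : Subgroup Q)) := T.2.center_nontrivial
    obtain ⟨ZT, hZT⟩ : ∃ ZT : Subgroup Q, ZT = (Subgroup.center ↥(T : Subgroup Q)).map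
      (T : Subgroup Q).subtype := ⟨_, rfl⟩
    have hZT1 : ZT ≠ ⊥ := by
      intro hbot
      rw [hZT, Subgroup.map_eq_bot_iff_of_injective _ (Subgroup.subtype_injective _)] at hbot
      exact (Subgroup.nontrivial_iff_ne_bot _).mp hZnt hbot
    have hZN := h ZT hZT1
    have hTle : (T : Subgroup Q) ≤ Subgroup.normalizer (ZT : Set Q) := by
      intro t ht
      rw [Subgroup.mem_normalizer_iff]
      intro y
      rw [hZT]
      constructor
      · rintro ⟨y', hy', rfl⟩
        refine ⟨⟨t, ht⟩ * y' * ⟨t, ht⟩⁻¹, ?_, rfl⟩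
        exact (Subgroup.center ↥(T : Subgroup Q)).normal_of_characteristic.conj_mem y' hy' _
      · rintro ⟨w, hw, hwe⟩
        have hwe' : (w : Q) = t * y * t⁻¹ := hwe
        have hyT : y ∈ (T : Subgroup Q) := by
          have : y = t⁻¹ * (w : Q) * t := by rw [hwe']; group
          rw [this]
          exact Subgroup.mul_mem _ (Subgroup.mul_mem _ (Subgroup.inv_mem _ ht) w.2) ht
        refine ⟨⟨y, hyT⟩, ?_, rfl⟩
        have hc := (Subgroup.center ↥(T : Subgroup Q)).normal_of_characteristic.conj_mem w hw
          (⟨t, ht⟩⁻¹)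
        have : (⟨t, ht⟩ : ↥(T : Subgroup Q))⁻¹ * w * (⟨t, ht⟩⁻¹)⁻¹ = ⟨y, hyT⟩ := by
          apply Subtype.ext
          show t⁻¹ * (w : Q) * (t⁻¹)⁻¹ = y
          rw [hwe']; group
        rwa [this] at hc
    rw [hZN] at hTle
    intro a ha b hb
    have hb' := hTle hb
    rw [hZT] at hb'
    obtain ⟨w, hw, hwe⟩ := hb'
    have := Subgroup.mem_center_iff.mp hw ⟨a, ha⟩
    have h2 : a * (w : Q) = (w : Q) * a := congrArg Subtype.val this
    have hwb : (w : Q) = b := hwe
    rw [← hwb]; exact h2
  have hP : Subgroup.normalizer ((T : Subgroup Q) : Set Q) ≤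
      Subgroup.centralizer ((T : Subgroup Q) : Set Q) := by
    rw [hTN]
    intro a ha
    rw [Subgroup.mem_centralizer_iff]
    intro b hb
    exact hTab b hb a ha
  have hcompl := MonoidHom.ker_transferSylow_isComplement' T hP
  obtain ⟨K, hK⟩ : ∃ K : Subgroup Q, K = (MonoidHom.transferSylow T hP).ker := ⟨_, rfl⟩
  rw [← hK] at hcompl
  have hKn : K.Normal := by rw [hK]; infer_instance
  have hcard := hcompl.card_mul
  have hKbot : K = ⊥ := by
    by_contra hK1
    have h1 := h K hK1
    have h2 : Subgroup.normalizer (K : Set Q) = ⊤ := Subgroup.normalizer_eq_top_iff.mpr hKn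
    have h3 : K = ⊤ := h1.symm.trans h2
    rw [h3, Subgroup.card_top] at hcard
    have hpos : 0 < Nat.card Q := Nat.card_pos
    have : Nat.card (T : Subgroup Q) = 1 := by
      have : Nat.card Q * Nat.card (T : Subgroup Q) = Nat.card Q * 1 := by rw [mul_one]; exact hcard
      exact Nat.eq_of_mul_eq_mul_left hpos this
    exact hT1 (Subgroup.card_eq_one.mp this)
  rw [hKbot, Subgroup.card_bot, one_mul] at hcard
  have hTtop : (T : Subgroup Q) = ⊤ := (Subgroup.card_eq_iff_eq_top _).mp hcard
  intro a b
  exact hTab a (by rw [hTtop]; trivial) b (by rw [hTtop]; trivial)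

/-- If `G` has a self-centralizing abelian normal subgroup, then `G` is solvable. -/
theorem solvable_of_selfcentralizing {G : Type*} [Group G] [Finite G] (h : SN G) (C : Subgroup G)
    (hCn : C.Normal) (hCab : ∀ a ∈ C, ∀ b ∈ C, a * b = b * a)
    (hCC : Subgroup.centralizer (C : Set G) ≤ C) : Group.IsSolvable G := by
  have hQ : ∀ T : Subgroup (G ⧸ C), T ≠ ⊥ → Subgroup.normalizer (T : Set (G ⧸ C)) = T := by
    intro T hT
    obtain ⟨H, hH⟩ : ∃ H, H = T.comap (QuotientGroup.mk' C) := ⟨_, rfl⟩
    have hCH : C ≤ H := by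
      rw [hH]
      intro c hc
      rw [Subgroup.mem_comap, QuotientGroup.mk'_apply, (QuotientGroup.eq_one_iff c).mpr hc]
      exact T.one_mem
    have hHna : ¬ IsMulCommutative H := by
      intro hc
      apply hT
      have hHC : H ≤ C := by
        intro x hx
        apply hCC
        rw [Subgroup.mem_centralizer_iff]
        intro c hc'
        exact Cfsg.Agent.S4071.comm_of_isMulCommutative hc c (hCH hc') x hx
      rw [eq_bot_iff]
      intro t ht
      obtain ⟨g, rfl⟩ := QuotientGroup.mk_surjective t
      have hg : g ∈ H := by rw [hH]; exact ht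
      exact (QuotientGroup.eq_one_iff g).mpr (hHC hg)
    have hN := h H hHna
    have hsurj : Function.Surjective (QuotientGroup.mk' C) := QuotientGroup.mk'_surjective C
    apply Subgroup.comap_injective hsurj
    rw [Subgroup.comap_normalizer_eq_of_surjective _ hsurj, ← hH, hN]
  have hcomm := comm_of_all_selfnormalizing hQ
  haveI : Group.IsSolvable (G ⧸ C) := isSolvable_of_comm hcomm
  haveI : Group.IsSolvable C :=
    isSolvable_of_comm fun a b => Subtype.ext (hCab a.1 a.2 b.1 b.2)
  exact solvable_of_ker_le_range C.subtype (QuotientGroup.mk' C)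
    (by rw [QuotientGroup.ker_mk', Subgroup.range_subtype])

/-- In a non-solvable `SN` group every proper normal subgroup is central. -/
theorem central_of_normal {G : Type*} [Group G] [Finite G] (h : SN G) (hns : ¬ Group.IsSolvable G)
    (M : Subgroup G) (hMn : M.Normal) (hM : M ≠ ⊤) : M ≤ Subgroup.center G := by
  -- proper normal subgroups are abelian
  have hab : ∀ L : Subgroup G, L.Normal → L ≠ ⊤ → ∀ a ∈ L, ∀ b ∈ L, a * b = b * a := by
    intro L hLn hL
    have : IsMulCommutative L := by
      by_contra hc
      have h1 := h L hc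
      have h2 : Subgroup.normalizer (L : Set G) = ⊤ := Subgroup.normalizer_eq_top_iff.mpr hLn
      exact hL (h1.symm.trans h2)
    exact Cfsg.Agent.S4071.comm_of_isMulCommutative this
  have hMab := hab M hMn hM
  obtain ⟨C, hC⟩ : ∃ C, C = Subgroup.centralizer (M : Set G) := ⟨_, rfl⟩
  have hCn : C.Normal := by rw [hC]; infer_instance
  have hMC : M ≤ C := by
    intro m hm
    rw [hC, Subgroup.mem_centralizer_iff]
    intro m' hm'
    exact hMab m' hm' m hm
  by_cases hCtop : C = ⊤
  · intro m hm
    rw [Subgroup.mem_center_iff]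
    intro g
    have hg : g ∈ C := by rw [hCtop]; trivial
    rw [hC, Subgroup.mem_centralizer_iff] at hg
    exact (hg m hm).symm
  exfalso
  apply hns
  have hCab := hab C hCn hCtop
  refine solvable_of_selfcentralizing h C hCn hCab ?_
  obtain ⟨D, hD⟩ : ∃ D, D = Subgroup.centralizer (C : Set G) := ⟨_, rfl⟩
  rw [← hD]
  have hDn : D.Normal := by rw [hD]; infer_instance
  have hCD : C ≤ D := by
    intro c hc
    rw [hD, Subgroup.mem_centralizer_iff]
    intro c' hc'
    exact hCab c' hc' c hc
  have hDtop : D ≠ ⊤ := by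
    intro hDt
    apply hCtop
    rw [eq_top_iff]
    intro g _
    rw [hC, Subgroup.mem_centralizer_iff]
    intro m hm
    have hg : g ∈ D := by rw [hDt]; trivial
    rw [hD, Subgroup.mem_centralizer_iff] at hg
    exact hg m (hMC hm)
  have hDab := hab D hDn hDtop
  intro d hd
  rw [hC, Subgroup.mem_centralizer_iff]
  intro m hm
  exact hDab m (hCD (hMC hm)) d hd

open Cfsg.Agent.Lib.L0 in
theorem main : ∀ (n : ℕ) (G : Type u) [Group G] [Finite G], Nat.card G = n → SN G →
    Group.IsSolvable G ∨ IsSimpleGroup G := by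
  intro n
  induction n using Nat.strong_induction_on with
  | _ n ih =>
  intro G _ _ hn h
  classical
  by_cases hns : Group.IsSolvable G
  · exact Or.inl hns
  right
  haveI : Nontrivial G := by
    by_contra hnt
    rw [not_nontrivial_iff_subsingleton] at hnt
    exact hns inferInstance
  refine { toNontrivial := inferInstance, eq_bot_or_eq_top_of_normal := ?_ }
  intro N hN
  by_contra hcon
  push_neg at hcon
  obtain ⟨hN1, hN2⟩ := hcon
  have hNZ := central_of_normal h hns N hN hN2
  have hNcard : Nat.card N ≠ 1 := fun hc => hN1 (Subgroup.card_eq_one.mp hc)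
  obtain ⟨p, hp, hpd⟩ := Nat.exists_prime_and_dvd hNcard
  haveI : Fact p.Prime := ⟨hp⟩
  obtain ⟨z', hz'⟩ := exists_prime_orderOf_dvd_card' p hpd
  obtain ⟨z, hzdef⟩ : ∃ z : G, z = (z' : G) := ⟨_, rfl⟩
  have hzo : orderOf z = p := by rw [hzdef, Subgroup.orderOf_coe]; exact hz'
  have hzZ : z ∈ Subgroup.center G := by rw [hzdef]; exact hNZ z'.2
  have hpG : p ∣ Nat.card G := by rw [← hzo]; exact orderOf_dvd_natCard z
  -- Frobenius hypothesis
  have hF : FrobHyp p G := by
    intro Q hQ g hgN hgcop
    obtain ⟨H, hH⟩ : ∃ H : Subgroup G, H = Subgroup.normalizer (Q : Set G) := ⟨_, rfl⟩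
    have hQH : Q ≤ H := by rw [hH]; exact Subgroup.le_normalizer
    have hgH : g ∈ H := by rw [hH]; exact hgN
    rw [Subgroup.mem_centralizer_iff]
    by_cases hHtop : H = ⊤
    · have hQn : Q.Normal := Subgroup.normalizer_eq_top_iff.mp (hH ▸ hHtop)
      have hQtop : Q ≠ ⊤ := by
        intro hQt
        apply hns
        have hG : IsPGroup p G := by
          intro y
          obtain ⟨k, hk⟩ := hQ ⟨y, by rw [hQt]; trivial⟩
          exact ⟨k, congrArg Subtype.val hk⟩
        haveI := hG.isNilpotent
        infer_instance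
      have hQZ := central_of_normal h hns Q hQn hQtop
      intro u hu
      exact (Subgroup.mem_center_iff.mp (hQZ hu) g).symm
    · have hlt : Nat.card H < n := by
        rw [← hn]
        refine lt_of_le_of_ne (Subgroup.card_le_card_group H) ?_
        intro he
        exact hHtop (Subgroup.eq_top_of_card_eq H he)
      have hSNH := h.subgroup H
      by_cases hHab : IsMulCommutative H
      · intro u hu
        exact Cfsg.Agent.S4071.comm_of_isMulCommutative hHab u (hQH hu) g hgH
      have hzH : z ∈ H := by
        rw [hH]; exact Subgroup.center_le_normalizer _ hzZ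
      obtain ⟨zH, hzHdef⟩ : ∃ zH : ↥H, zH = ⟨z, hzH⟩ := ⟨_, rfl⟩
      have hzHo : orderOf zH = p := by
        rw [← hzo, ← Subgroup.orderOf_coe zH, hzHdef]
      have hzHZ : zH ∈ Subgroup.center ↥H := by
        rw [Subgroup.mem_center_iff]
        intro y
        apply Subtype.ext
        rw [hzHdef]
        exact Subgroup.mem_center_iff.mp hzZ y
      have hzH1 : zH ≠ 1 := by
        intro h1
        rw [h1, orderOf_one] at hzHo
        exact hp.ne_one hzHo.symm
      obtain ⟨gH, hgHdef⟩ : ∃ gH : ↥H, gH = ⟨g, hgH⟩ := ⟨_, rfl⟩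
      have hgHo : Nat.Coprime (orderOf gH) p := by
        rw [← Subgroup.orderOf_coe gH, hgHdef]; exact hgcop
      rcases ih _ hlt ↥H rfl hSNH with hsol | hsimp
      · by_cases hnil : Group.IsNilpotent ↥H
        · -- H has prime power order
          rcases (Cfsg.Agent.S4075.result (G := ↥H)).mp hSNH with hc | ⟨hpp, -, -⟩
          · exact absurd hc hHab
          obtain ⟨r, m, hr, hm, hrm⟩ := hpp
          have hr' : r.Prime := Nat.prime_iff.mpr hr
          have hpH : p ∣ Nat.card H := by rw [← hzHo]; exact orderOf_dvd_natCard zH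
          rw [← hrm] at hpH
          have hpr : p = r := (Nat.prime_dvd_prime_iff_eq hp hr').mp (hp.dvd_of_dvd_pow hpH)
          have hgd : orderOf gH ∣ p ^ m := by
            rw [hpr, hrm]; exact orderOf_dvd_natCard gH
          have hg1 : orderOf gH = 1 :=
            Nat.eq_one_of_dvd_coprimes (Nat.Coprime.pow_right m hgHo) (dvd_refl _) hgd
          have hg1' : g = 1 := by
            have := orderOf_eq_one_iff.mp hg1
            rw [hgHdef] at this
            exact congrArg Subtype.val this
          intro u _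
          rw [hg1', mul_one, one_mul]
        · -- the non-nilpotent solvable structure
          haveI := hsol
          obtain ⟨x, A, q, hq, hAn, hAab, ⟨k, hk⟩, hqA, hcompl, hxq, hfpf⟩ :=
            Cfsg.Agent.S4071.forward hnil hSNH
          -- p = q
          have hpq : p = q := by
            obtain ⟨⟨⟨s, hs⟩, ⟨a, ha⟩⟩, hsa⟩ := hcompl.2 zH
            have hsa' : s * a = zH := hsa
            have ha1 : a = 1 := by
              by_contra ha1
              apply hfpf a ha ha1
              have hcx : Commute x zH := (Subgroup.mem_center_iff.mp hzHZ x)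
              have hsx : Commute x s := by
                obtain ⟨i, rfl⟩ := Subgroup.mem_zpowers_iff.mp hs
                exact Commute.zpow_right (Commute.refl x) i
              have e1 : a = s⁻¹ * zH := by rw [← hsa']; group
              have hxa : Commute x a := by
                rw [e1]; exact (hsx.inv_right).mul_right hcx
              rw [hxa.eq, mul_inv_cancel_right]
            rw [ha1, mul_one] at hsa'
            have hzs : zH ∈ Subgroup.zpowers x := by rw [← hsa']; exact hs
            have hd : orderOf zH ∣ orderOf x := orderOf_dvd_of_mem_zpowers hzs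
            rw [hzHo, hk] at hd
            exact (Nat.prime_dvd_prime_iff_eq hp hq).mp (hp.dvd_of_dvd_pow hd)
          -- g ∈ A
          have hgA : gH ∈ A := by
            have hidx : A.index = p ^ k := by
              rw [hcompl.index_eq_card, Nat.card_zpowers, hk, hpq]
            have h1 : orderOf ((QuotientGroup.mk' A) gH) ∣ orderOf gH := orderOf_map_dvd _ _
            have h2 : orderOf ((QuotientGroup.mk' A) gH) ∣ p ^ k := by
              rw [← hidx, Subgroup.index_eq_card]; exact orderOf_dvd_natCard _
            have h3 : orderOf ((QuotientGroup.mk' A) gH) = 1 :=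
              Nat.eq_one_of_dvd_coprimes (Nat.Coprime.pow_right k hgHo) h1 h2
            have h4 := orderOf_eq_one_iff.mp h3
            exact (QuotientGroup.eq_one_iff gH).mp h4
          intro u hu
          obtain ⟨uH, huHdef⟩ : ∃ uH : ↥H, uH = ⟨u, hQH hu⟩ := ⟨_, rfl⟩
          obtain ⟨c, hcdef⟩ : ∃ c : ↥H, c = gH * uH * gH⁻¹ * uH⁻¹ := ⟨_, rfl⟩
          have hcA : c ∈ A := by
            have : c = gH * (uH * gH⁻¹ * uH⁻¹) := by rw [hcdef]; group
            rw [this]
            exact A.mul_mem hgA (hAn.conj_mem _ (A.inv_mem hgA) _)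
          have hcQ : (c : G) ∈ Q := by
            have : (c : G) = (g * u * g⁻¹) * u⁻¹ := by
              rw [hcdef, hgHdef, huHdef]; rfl
            rw [this]
            exact Q.mul_mem ((Subgroup.mem_normalizer_iff.mp hgN u).mp hu) (Q.inv_mem hu)
          obtain ⟨j, hj⟩ := hQ ⟨(c : G), hcQ⟩
          have hj' : (c : G) ^ (p ^ j) = 1 := congrArg Subtype.val hj
          have hd1 : orderOf c ∣ p ^ j := by
            rw [← Subgroup.orderOf_coe c]; exact orderOf_dvd_of_pow_eq_one hj'
          have hd2 : orderOf c ∣ Nat.card A := by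
            have := orderOf_dvd_natCard (⟨c, hcA⟩ : A)
            rwa [Subgroup.orderOf_mk] at this
          have hcop : Nat.Coprime (p ^ j) (Nat.card A) :=
            Nat.Coprime.pow_left j ((Nat.Prime.coprime_iff_not_dvd hp).mpr (hpq ▸ hqA))
          have hc1 : c = 1 := orderOf_eq_one_iff.mp (Nat.eq_one_of_dvd_coprimes hcop hd1 hd2)
          have hc1' : g * u * g⁻¹ * u⁻¹ = 1 := by
            have := congrArg Subtype.val hc1
            rw [hcdef, hgHdef, huHdef] at this
            exact this
          have h5 : g * u * g⁻¹ = u := mul_inv_eq_one.mp hc1'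
          calc u * g = (g * u * g⁻¹) * g := by rw [h5]
            _ = g * u := by group
      · -- simple: centre is everything
        exfalso
        apply hHab
        rcases hsimp.eq_bot_or_eq_top_of_normal (Subgroup.center ↥H) inferInstance with hb | ht
        · rw [hb, Subgroup.mem_bot] at hzHZ
          exact absurd hzHZ hzH1
        · refine ⟨⟨fun a b => ?_⟩⟩
          have hb : b ∈ Subgroup.center ↥H := by rw [ht]; trivial
          exact Subgroup.mem_center_iff.mp hb a
  obtain ⟨P, K, hKn, hKc⟩ := hasNormalPComplement_of_frobHyp hF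
  apply hns
  have hcard := hKc.card_mul_card
  have hKtop : K ≠ ⊤ := by
    intro hKt
    rw [hKt, Subgroup.card_top] at hcard
    have hpos : 0 < Nat.card G := Nat.card_pos
    have h1 : Nat.card (P : Subgroup G) = 1 := by
      have : Nat.card G * Nat.card (P : Subgroup G) = Nat.card G * 1 := by
        rw [mul_one]; exact hcard
      exact Nat.eq_of_mul_eq_mul_left hpos this
    exact P.ne_bot_of_dvd_card hpG (Subgroup.card_eq_one.mp h1)
  have hKZ := central_of_normal h hns K hKn hKtop
  haveI : Group.IsSolvable K :=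
    isSolvable_of_comm fun a b => Subtype.ext (Subgroup.mem_center_iff.mp (hKZ b.2) a.1)
  have hQp : IsPGroup p (G ⧸ K) := by
    obtain ⟨m, hm⟩ := IsPGroup.iff_card.mp P.2
    apply IsPGroup.of_card (n := m)
    have h1 : K.index = Nat.card (P : Subgroup G) := by
      have := hKc.symm.index_eq_card
      exact this
    rw [← Subgroup.index_eq_card, h1, hm]
  haveI := hQp.isNilpotent
  exact solvable_of_ker_le_range K.subtype (QuotientGroup.mk' K)
    (by rw [QuotientGroup.ker_mk', Subgroup.range_subtype])

theorem result {G : Type*} [Group G] [Finite G] (hS : ∀ H : Subgroup G, ¬ IsMulCommutative H → Subgroup.normalizer (H : Set G) = H) :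
    Group.IsSolvable G ∨ IsSimpleGroup G :=
  main _ G rfl hS

end Cfsg.Agent.S4072
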