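import Mathlib

set_option autoImplicit false

namespace Cfsg.Agent.S4074

open DihedralGroup

/-- The index of an element of the dihedral group. -/
def idx {n : ℕ} : DihedralGroup n → ZMod n
  | r i => i
  | sr i => i

/-- The "even" subgroup `⟨r 2, sr 0⟩` of the dihedral group, for `n` even. -/
def evenSub (n : ℕ) (h : 2 ∣ n) : Subgroup (DihedralGroup n) where
  carrier := {g | ZMod.castHom h (ZMod 2) (idx g) = 0}
  one_mem' := by
    show ZMod.castHom h (ZMod 2) (idx (1 : DihedralGroup n)) = 0
    rw [one_def]; simp [idx]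
  mul_mem' := by
    intro a b ha hb
    simp only [Set.mem_setOf_eq] at ha hb ⊢
    cases a <;> cases b <;> simp only [idx, r_mul_r, r_mul_sr, sr_mul_r, sr_mul_sr] at ha hb ⊢ <;>
      simp [map_add, map_sub, ha, hb]
  inv_mem' := by
    intro a ha
    simp only [Set.mem_setOf_eq] at ha ⊢
    cases a with
    | r i =>
      simp only [idx, inv_r] at ha ⊢
      rw [map_neg, ha, neg_zero]
    | sr i =>
      simp only [idx, inv_sr] at ha ⊢
      exact ha

theorem mem_evenSub {n : ℕ} (h : 2 ∣ n) (g : DihedralGroup n) :
    g ∈ evenSub n h ↔ ZMod.castHom h (ZMod 2) (idx g) = 0 := Iff.rfl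


/-- A non-commutative subgroup of a dihedral group contains a reflection. -/
theorem exists_sr_mem_of_not_comm {n : ℕ} (H : Subgroup (DihedralGroup n))
    (h : ¬ IsMulCommutative H) : ∃ i, sr i ∈ H := by
  by_contra hcon
  push_neg at hcon
  apply h
  refine ⟨⟨fun a b => ?_⟩⟩
  obtain ⟨a, ha⟩ := a
  obtain ⟨b, hb⟩ := b
  apply Subtype.ext
  show a * b = b * a
  cases a with
  | r i =>
    cases b with
    | r j => rw [r_mul_r, r_mul_r, add_comm]
    | sr j => exact absurd hb (hcon j)
  | sr i => exact absurd ha (hcon i)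

/-- For odd `n`, a subgroup of the dihedral group containing a reflection is self-normalizing. -/
theorem normalizer_eq_of_odd {n : ℕ} (hn : Odd n) (H : Subgroup (DihedralGroup n)) (i : ZMod n)
    (hi : sr i ∈ H) : Subgroup.normalizer (H : Set (DihedralGroup n)) = H := by
  apply le_antisymm _ Subgroup.le_normalizer
  have hrot : ∀ j : ZMod n, r j ∈ Subgroup.normalizer (H : Set (DihedralGroup n)) → r j ∈ H := by
    intro j hj
    have h1 := (Subgroup.mem_normalizer_iff.mp hj (sr i)).mp hi
    rw [r_mul_sr, inv_r, sr_mul_r] at h1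
    have h2 := H.mul_mem hi h1
    rw [sr_mul_sr] at h2
    have h3 := H.inv_mem h2
    rw [inv_r] at h3
    obtain ⟨m, hm⟩ := hn
    have h4 := H.pow_mem h3 (m + 1)
    rw [r_pow] at h4
    have h5 : (-(i - j + -j - i)) * ((m + 1 : ℕ) : ZMod n) = j := by
      have hn0 : ((2 * m + 1 : ℕ) : ZMod n) = 0 := by rw [← hm]; exact ZMod.natCast_self n
      push_cast at hn0 ⊢
      linear_combination j * hn0
    rw [h5] at h4
    exact h4
  intro g hg
  cases g with
  | r j => exact hrot j hg
  | sr j =>
    have h1 : sr j * sr i ∈ Subgroup.normalizer (H : Set (DihedralGroup n)) :=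
      Subgroup.mul_mem _ hg (Subgroup.le_normalizer hi)
    rw [sr_mul_sr] at h1
    have h2 := H.mul_mem (hrot _ h1) hi
    rw [r_mul_sr] at h2
    have : i - (i - j) = j := by ring
    rw [this] at h2
    exact h2

/-- A non-commutative subgroup of the dihedral group of order `8` is the whole group. -/
theorem eq_top_of_not_comm_four (H : Subgroup (DihedralGroup 4)) (h : ¬ IsMulCommutative H) :
    H = ⊤ := by
  have hcard : Nat.card H ∣ 8 := by
    have := Subgroup.card_subgroup_dvd_card H
    rwa [DihedralGroup.nat_card] at this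
  have hmem : Nat.card H ∈ Nat.divisors 8 := Nat.mem_divisors.mpr ⟨hcard, by norm_num⟩
  have hdiv : Nat.divisors 8 = {1, 2, 4, 8} := by decide
  rw [hdiv] at hmem
  simp only [Finset.mem_insert, Finset.mem_singleton] at hmem
  rcases hmem with h1 | h2 | h4 | h8
  · exfalso; apply h
    haveI : Subsingleton H := (Nat.card_eq_one_iff_unique.mp h1).1
    exact ⟨⟨fun a b => Subsingleton.elim _ _⟩⟩
  · exfalso; apply h
    haveI : Fact (Nat.Prime 2) := ⟨Nat.prime_two⟩
    haveI : IsCyclic H := isCyclic_of_prime_card h2
    exact IsCyclic.commutative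
  · exfalso; apply h
    haveI : Fact (Nat.Prime 2) := ⟨Nat.prime_two⟩
    exact ⟨⟨fun a b => IsPGroup.commutative_of_card_eq_prime_sq (p := 2) h4 a b⟩⟩
  · apply Subgroup.eq_top_of_card_eq
    rw [h8, DihedralGroup.nat_card]


/-- For n > 2, every non-abelian subgroup of the dihedral group of order 2n is self-normalizing if and only if n = 4 or n is odd. -/
theorem result (n : ℕ) (hn : 2 < n) :
    (∀ H : Subgroup (DihedralGroup n), ¬ IsMulCommutative H → Subgroup.normalizer (H : Set (DihedralGroup n)) = H) ↔
    (n = 4 ∨ Odd n) := by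
  constructor
  · intro hall
    by_contra hcon
    push_neg at hcon
    obtain ⟨hn4, hodd⟩ := hcon
    have heven : 2 ∣ n := by
      rcases Nat.even_or_odd n with h | h
      · exact h.two_dvd
      · exact absurd h hodd
    have hn6 : 6 ≤ n := by obtain ⟨k, rfl⟩ := heven; omega
    have h20 : (2 : ZMod 2) = 0 := by decide
    have hr2 : r (2 : ZMod n) ∈ evenSub n heven := by
      rw [mem_evenSub]
      simp only [idx, map_ofNat]
      exact h20
    have hs0 : sr (0 : ZMod n) ∈ evenSub n heven := by
      rw [mem_evenSub]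
      simp only [idx, map_zero]
    have hnc : ¬ IsMulCommutative (evenSub n heven) := by
      intro hc
      have h1 := hc.is_comm.comm ⟨r 2, hr2⟩ ⟨sr 0, hs0⟩
      have h2 : (r (2 : ZMod n)) * sr 0 = sr 0 * r 2 := congrArg Subtype.val h1
      rw [r_mul_sr, sr_mul_r] at h2
      have h3 := sr.inj h2
      have h4 : ((4 : ℕ) : ZMod n) = 0 := by
        push_cast
        linear_combination -h3
      rw [ZMod.natCast_eq_zero_iff] at h4
      have := Nat.le_of_dvd (by norm_num) h4
      omega
    have hnorm := hall _ hnc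
    have hz : ∀ z : ZMod 2, z - 1 + -1 = z := by decide
    have hr1 : r (1 : ZMod n) ∈ Subgroup.normalizer (evenSub n heven : Set (DihedralGroup n)) := by
      rw [Subgroup.mem_normalizer_iff]
      intro g
      cases g with
      | r i =>
        rw [r_mul_r, inv_r, r_mul_r, mem_evenSub, mem_evenSub]
        simp only [idx]
        have : (1 : ZMod n) + i + -1 = i := by ring
        rw [this]
      | sr i =>
        rw [r_mul_sr, inv_r, sr_mul_r, mem_evenSub, mem_evenSub]
        simp only [idx, map_add, map_sub, map_neg, map_one]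
        rw [hz]
    rw [hnorm, mem_evenSub] at hr1
    simp only [idx, map_one] at hr1
    exact one_ne_zero hr1
  · rintro (rfl | hodd) H hH
    · rw [eq_top_of_not_comm_four H hH]
      exact le_antisymm le_top Subgroup.le_normalizer
    · obtain ⟨i, hi⟩ := exists_sr_mem_of_not_comm H hH
      exact normalizer_eq_of_odd hodd H i hi

end Cfsg.Agent.S4074
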