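import Cfsg.Statements.S3917
import Mathlib
import Cfsg.Agent.Lib.H19.HallPi

set_option autoImplicit false
open Cfsg

namespace Cfsg.Agent.S3917

open Cfsg.Agent.Lib.H19

variable {G : Type*} [CommGroup G] [Finite G]

/-- the subgroup of `n`-torsion elements -/
abbrev tors (G : Type*) [CommGroup G] (n : ℕ) : Subgroup G := (powMonoidHom n : G →* G).ker

theorem mem_tors {n : ℕ} {a : G} : a ∈ tors G n ↔ a ^ n = 1 := by
  rw [MonoidHom.mem_ker, powMonoidHom_apply]

theorem isCyclic_of_card_tors_le (h : ∀ n : ℕ, 0 < n → Nat.card (tors G n) ≤ n) : IsCyclic G := by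
  classical
  have : Fintype G := Fintype.ofFinite G
  apply isCyclic_of_card_pow_eq_one_le
  intro n hn
  have h1 := h n hn
  rw [Nat.card_eq_fintype_card] at h1
  refine le_trans (le_of_eq ?_) h1
  symm
  apply Fintype.card_of_subtype
  intro x
  simp [mem_tors]

theorem card_le_of_isCyclic_of_pow_eq_one {H : Type*} [Group H] [Finite H] [IsCyclic H] {n : ℕ}
    (hn : 0 < n) (h : ∀ a : H, a ^ n = 1) : Nat.card H ≤ n := by
  classical
  have : Fintype H := Fintype.ofFinite H
  have h1 := IsCyclic.card_pow_eq_one_le (α := H) hn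
  have h2 : (Finset.univ.filter fun a : H => a ^ n = 1) = Finset.univ := by
    ext a; simp [h a]
  rw [h2, Finset.card_univ] at h1
  rwa [Nat.card_eq_fintype_card]

theorem main (hX : ∀ H : Subgroup G, ¬ IsCyclic ↥H → Subgroup.centralizer (H : Set G) ≤ H) :
    IsCyclic G ∨ ∃ p : ℕ, p.Prime ∧ Nat.card G = p ^ 2 ∧ Monoid.exponent G = p := by
  by_cases hcyc : IsCyclic G
  · exact Or.inl hcyc
  right
  have hX' : ∀ H : Subgroup G, ¬ IsCyclic ↥H → H = ⊤ := by
    intro H hH
    rw [eq_top_iff]
    refine le_trans ?_ (hX H hH)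
    intro x _
    rw [Subgroup.mem_centralizer_iff]
    intro y _
    exact mul_comm y x
  -- a minimal `n` with too many `n`-torsion elements
  have hex : ∃ n : ℕ, 0 < n ∧ n < Nat.card (tors G n) := by
    by_contra hne
    push Not at hne
    exact hcyc (isCyclic_of_card_tors_le hne)
  classical
  let n := Nat.find hex
  have hn : 0 < n ∧ n < Nat.card (tors G n) := Nat.find_spec hex
  have hnmin : ∀ m : ℕ, m < n → 0 < m → Nat.card (tors G m) ≤ m := by
    intro m hm hm0
    have := Nat.find_min hex hm
    push Not at this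
    exact this hm0
  have htop_of : ∀ k : ℕ, 0 < k → k < Nat.card (tors G k) → tors G k = ⊤ := by
    intro k hk0 hk
    apply hX'
    intro hc
    have := card_le_of_isCyclic_of_pow_eq_one (H := tors G k) hk0 (by
      intro a
      apply Subtype.ext
      rw [Subgroup.coe_pow, Subgroup.coe_one]
      exact mem_tors.1 a.2)
    omega
  have hntop : tors G n = ⊤ := htop_of n hn.1 hn.2
  have hGn : n < Nat.card G := by
    have := hn.2
    rwa [hntop, Subgroup.card_top] at this
  have hn1 : n ≠ 1 := by
    intro h1
    have h2 : ∀ a : G, a = 1 := by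
      intro a
      have : a ∈ tors G n := by rw [hntop]; trivial
      rw [mem_tors, h1, pow_one] at this
      exact this
    apply hcyc
    have : Subsingleton G := ⟨fun a b => by rw [h2 a, h2 b]⟩
    infer_instance
  have hp : (n.minFac).Prime := Nat.minFac_prime hn1
  set p := n.minFac with hpdef
  obtain ⟨m, hm⟩ : p ∣ n := Nat.minFac_dvd n
  have hm0 : 0 < m := by
    rcases Nat.eq_zero_or_pos m with h0 | h0
    · rw [h0, mul_zero] at hm; omega
    · exact h0
  have hmn : m < n := by
    rw [hm]; nlinarith [hp.two_le]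
  have hKm := hnmin m hmn hm0
  -- the `p`-th power map
  have hrange : (powMonoidHom p : G →* G).range ≤ tors G m := by
    rintro _ ⟨a, rfl⟩
    rw [mem_tors, powMonoidHom_apply, ← pow_mul, ← hm]
    have : a ∈ tors G n := by rw [hntop]; trivial
    exact mem_tors.1 this
  have hcard : Nat.card (tors G p) * Nat.card (powMonoidHom p : G →* G).range = Nat.card G := by
    rw [← Subgroup.index_ker]
    exact Subgroup.card_mul_index _
  have hle : Nat.card (powMonoidHom p : G →* G).range ≤ m :=
    (Subgroup.card_le_of_le hrange).trans hKm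
  have hKp : p < Nat.card (tors G p) := by
    by_contra hcon
    push Not at hcon
    have : Nat.card G ≤ p * m := by
      rw [← hcard]; exact Nat.mul_le_mul hcon hle
    omega
  have hptop : tors G p = ⊤ := htop_of p hp.pos hKp
  have hexp : ∀ a : G, a ^ p = 1 := by
    intro a
    have : a ∈ tors G p := by rw [hptop]; trivial
    exact mem_tors.1 this
  -- pick `x ≠ 1`, `y ∉ ⟨x⟩`
  have hnt : Nontrivial G := by
    by_contra hnt
    rw [not_nontrivial_iff_subsingleton] at hnt
    apply hcyc; infer_instance
  obtain ⟨x, hx1⟩ := exists_ne (1 : G)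
  have hxo : orderOf x = p := by
    rcases (Nat.dvd_prime hp).1 (orderOf_dvd_of_pow_eq_one (hexp x)) with h | h
    · exact absurd (orderOf_eq_one_iff.1 h) hx1
    · exact h
  have hZne : Subgroup.zpowers x ≠ ⊤ := by
    intro h
    apply hcyc
    have : IsCyclic (⊤ : Subgroup G) := by rw [← h]; infer_instance
    exact isCyclic_of_surjective (Subgroup.topEquiv : (⊤ : Subgroup G) ≃* G).toMonoidHom
      Subgroup.topEquiv.surjective
  obtain ⟨y, hy⟩ : ∃ y : G, y ∉ Subgroup.zpowers x := by
    by_contra hcon
    push Not at hcon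
    exact hZne (eq_top_iff.2 fun y _ => hcon y)
  set H := Subgroup.zpowers x ⊔ Subgroup.zpowers y with hH
  have hHlt : p < Nat.card H := by
    have h1 : Subgroup.zpowers x < H := by
      refine lt_of_le_of_ne le_sup_left ?_
      intro heq
      apply hy
      rw [heq]
      exact (le_sup_right : Subgroup.zpowers y ≤ H) (Subgroup.mem_zpowers y)
    have := card_lt_of_lt h1
    rwa [Nat.card_zpowers, hxo] at this
  have hHtop : H = ⊤ := by
    apply hX'
    intro hc
    have := card_le_of_isCyclic_of_pow_eq_one (H := H) hp.pos (by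
      intro a
      apply Subtype.ext
      rw [Subgroup.coe_pow, Subgroup.coe_one]
      exact hexp a)
    omega
  have hdvd : Nat.card G ∣ p * p := by
    have h1 := card_sup_dvd_mul_of_le_normalizer (U := Subgroup.zpowers x) (N := Subgroup.zpowers y)
      (by
        intro a _
        rw [Subgroup.mem_normalizer_iff]
        intro b
        rw [mul_comm a b, mul_inv_cancel_right])
    rw [← hH, hHtop, Subgroup.card_top, Nat.card_zpowers, Nat.card_zpowers, hxo] at h1
    have hyo : orderOf y ∣ p := orderOf_dvd_of_pow_eq_one (hexp y)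
    exact h1.trans (Nat.mul_dvd_mul_left p hyo)
  have hGp : p < Nat.card G := by
    have := hHlt
    rwa [hHtop, Subgroup.card_top] at this
  have hcardG : Nat.card G = p ^ 2 := by
    rw [← pow_two] at hdvd
    obtain ⟨k, hk, hkeq⟩ := (Nat.dvd_prime_pow hp).1 hdvd
    interval_cases k
    · rw [pow_zero] at hkeq; have := hp.one_lt; omega
    · rw [pow_one] at hkeq; omega
    · exact hkeq
  refine ⟨p, hp, hcardG, ?_⟩
  have hd : Monoid.exponent G ∣ p := Monoid.exponent_dvd_of_forall_pow_eq_one hexp
  rcases (Nat.dvd_prime hp).1 hd with h | h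
  · exfalso
    rw [Monoid.exp_eq_one_iff] at h
    exact not_subsingleton G h
  · exact h

/-- Say that a group has self-centralizing non-cyclic subgroups when every non-cyclic subgroup H satisfies C_G(H) ≤ H. A finite abelian group with self-centralizing non-cyclic subgroups is cyclic or elementary abelian of order p² for a prime p. -/
theorem result {G : Type*} [CommGroup G] [Finite G] (hX : (∀ H : Subgroup G, ¬ IsCyclic ↥H → Subgroup.centralizer (H : Set G) ≤ H)) :
    IsCyclic G ∨ ∃ p : ℕ, p.Prime ∧ Nat.card G = p ^ 2 ∧ Monoid.exponent G = p :=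
  main hX

end Cfsg.Agent.S3917
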