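import Cfsg.Statements.S3781
import Cfsg.Agent.Lib.H19.HallComm

set_option autoImplicit false
open Cfsg

namespace Cfsg.Agent.S3781

open Cfsg.Agent.Lib.H19

theorem lcs_normal {G : Type*} [Group G] (N : Subgroup G) [N.Normal] (j : ℕ) :
    (N.lowerCentralSeries j).Normal := by
  induction j with
  | zero => exact (inferInstance : N.Normal)
  | succ j ih => rw [Subgroup.lowerCentralSeries_succ]; infer_instance

/-- Let G be a finite p-group and n ≥ 1, and write γ_1(G) = G, γ_{k+1}(G) = [γ_k(G), G], and likewise γ_k(N) for a subgroup N. Let N be a normal subgroup of G contained in γ_n(G). If i > 1 and γ_{i+1}(N) ≠ 1, then |γ_i(N) : γ_{i+1}(N)| ≥ p^n. -/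
theorem result {G : Type*} [Group G] [Finite G] {p : ℕ} [Fact p.Prime] (hG : IsPGroup p G) (n : ℕ) (hn : 1 ≤ n) (N : Subgroup G) [N.Normal] (hN : N ≤ (⊤ : Subgroup G).lowerCentralSeries (n - 1)) (i : ℕ) (hi : 1 < i) (hne : N.lowerCentralSeries i ≠ ⊥) : p ^ n ≤ (N.lowerCentralSeries i).relIndex (N.lowerCentralSeries (i - 1)) := by
  have hp := (Fact.out : p.Prime)
  have hnil : Group.IsNilpotent G := hG.isNilpotent
  set K := N.lowerCentralSeries (i - 1) with hK
  set L := N.lowerCentralSeries i with hL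
  have hKn : K.Normal := lcs_normal N _
  have hLn : L.Normal := lcs_normal N _
  have hLK : L = ⁅K, N⁆ := by
    have : i = (i - 1) + 1 := by omega
    rw [hL, this, Subgroup.lowerCentralSeries_succ]
  have hLleK : L ≤ K := N.lowerCentralSeries_antitone (by omega)
  -- the index is a power of p
  obtain ⟨a, ha⟩ := IsPGroup.iff_card.mp hG
  have hdvd : L.relIndex K ∣ p ^ a := by
    rw [← ha]
    exact (Subgroup.relIndex_dvd_card L K).trans (Subgroup.card_subgroup_dvd_card K)
  obtain ⟨m, _, hm⟩ := (Nat.dvd_prime_pow hp).mp hdvd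
  rw [hm]
  by_contra hlt
  push Not at hlt
  have hmn : m < n := (Nat.pow_lt_pow_iff_right hp.one_lt).mp hlt
  have h1 : iterComm K m ≤ L := iterComm_le_of_relIndex_le hG m K L hLleK (le_of_eq hm)
  have h2 : L ≤ ⁅L, ⊤⁆ := by
    calc L = ⁅K, N⁆ := hLK
      _ ≤ ⁅K, (⊤ : Subgroup G).lowerCentralSeries (n - 1)⁆ := Subgroup.commutator_mono le_rfl hN
      _ ≤ ⁅K, (⊤ : Subgroup G).lowerCentralSeries m⁆ :=
          Subgroup.commutator_mono le_rfl
            ((⊤ : Subgroup G).lowerCentralSeries_antitone (by omega))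
      _ ≤ iterComm K (m + 1) := commutator_lowerCentralSeries_le m K
      _ = ⁅iterComm K m, ⊤⁆ := iterComm_succ K m
      _ ≤ ⁅L, ⊤⁆ := Subgroup.commutator_mono h1 le_rfl
  have h3 : ⁅L, ⊤⁆ ⊔ ⊥ = L := by
    rw [sup_bot_eq]
    exact le_antisymm (Subgroup.commutator_le_left L ⊤) h2
  exact hne (eq_of_commutator_sup_eq L ⊥ bot_le h3)

end Cfsg.Agent.S3781
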