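import Cfsg.Statements.S4023
import Cfsg.Agent.Lib.H22.OrderPSq
import Cfsg.Agent.Lib.H22.OrderPCube
import Cfsg.Agent.Lib.H22.UniqueInvolution

set_option autoImplicit false
open Cfsg

namespace Cfsg.Agent.S4023

open Cfsg.Agent.Lib.H22

/-- Under the hypothesis, subgroups of equal order of a `p`-subgroup are isomorphic. -/
theorem iso_of_card_eq {G : Type*} [Group G] [Finite G] {p : ℕ} [Fact p.Prime]
    (hC : ∀ H K : Subgroup G, IsPGroup p H → IsPGroup p K → Nat.card H = Nat.card K →
      ∃ g : G, K = H.map (MulAut.conj g).toMonoidHom)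
    (Q : Subgroup G) (hQ : IsPGroup p Q) (E₁ E₂ : Subgroup Q) (h : Nat.card E₁ = Nat.card E₂) :
    Nonempty (E₁ ≃* E₂) := by
  have h1 : IsPGroup p ↥(E₁.map Q.subtype) := (hQ.to_subgroup E₁).map _
  have h2 : IsPGroup p ↥(E₂.map Q.subtype) := (hQ.to_subgroup E₂).map _
  obtain ⟨g, hg⟩ := hC _ _ h1 h2 (by
    rw [Subgroup.card_map_of_injective Q.subtype_injective,
      Subgroup.card_map_of_injective Q.subtype_injective, h])
  have e1 := Subgroup.equivMapOfInjective E₁ Q.subtype Q.subtype_injective
  have e2 := Subgroup.equivMapOfInjective E₂ Q.subtype Q.subtype_injective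
  have e3 := Subgroup.equivMapOfInjective (E₁.map Q.subtype) (MulAut.conj g).toMonoidHom
    (MulAut.conj g).injective
  exact ⟨e1.trans (e3.trans ((MulEquiv.subgroupCongr hg.symm).trans e2.symm))⟩

theorem key {G : Type*} [Group G] [Finite G] {p : ℕ} [hp : Fact p.Prime]
    (hC : ∀ H K : Subgroup G, IsPGroup p H → IsPGroup p K → Nat.card H = Nat.card K →
      ∃ g : G, K = H.map (MulAut.conj g).toMonoidHom)
    (Q : Subgroup G) (hQ : IsPGroup p Q) :
    (∀ x : Q, x ^ p = 1) ∨ AtMostOneOrderP p ↥Q := by
  by_contra h
  push Not at h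
  obtain ⟨⟨x, hxp⟩, hnot⟩ := h
  obtain ⟨E, hEcard, hEnc⟩ := exists_noncyclic_sq_of_not_atMostOne hQ hnot
  obtain ⟨y, -, hyo⟩ := exists_orderOf_eq_sq_of_pow_ne_one hQ x hxp
  obtain ⟨e⟩ := iso_of_card_eq hC Q hQ (Subgroup.zpowers y) E (by rw [Nat.card_zpowers, hyo, hEcard])
  exact hEnc (isCyclic_of_surjective e e.surjective)

/-- In a generalized quaternion group of order at least 16, a cyclic subgroup of index 2 is
`⟨a⟩`. -/
theorem quaternion_cyclic_index_two (n : ℕ) (hn : 2 ≤ n) (M : Subgroup (QuaternionGroup (2 ^ n)))
    (hM : IsCyclic M) (hMi : M.index = 2) : M = Subgroup.zpowers (QuaternionGroup.a 1) := by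
  have hne : NeZero (2 ^ n) := ⟨pow_ne_zero _ two_ne_zero⟩
  have hcardQ : Nat.card (QuaternionGroup (2 ^ n)) = 4 * 2 ^ n := by
    rw [Nat.card_eq_fintype_card, QuaternionGroup.card]
  have hfin : Finite (QuaternionGroup (2 ^ n)) := inferInstance
  have hMcard : Nat.card M = 2 * 2 ^ n := by
    have h1 := Subgroup.card_mul_index M
    rw [hMi, hcardQ] at h1
    omega
  obtain ⟨⟨u, huM⟩, hgen⟩ := hM.exists_generator
  have hMz : M = Subgroup.zpowers u := by
    apply le_antisymm
    · intro a ha
      have := hgen ⟨a, ha⟩
      rw [Subgroup.mem_zpowers_iff] at this ⊢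
      obtain ⟨k, hk⟩ := this
      exact ⟨k, by simpa using congrArg Subtype.val hk⟩
    · rw [Subgroup.zpowers_le]; exact huM
  have huo : orderOf u = 2 * 2 ^ n := by
    rw [← Nat.card_zpowers, ← hMz, hMcard]
  have hacard : Nat.card (Subgroup.zpowers (QuaternionGroup.a (1 : ZMod (2 * 2 ^ n)))) = 2 * 2 ^ n := by
    rw [Nat.card_zpowers, QuaternionGroup.orderOf_a_one]
  apply Subgroup.eq_of_le_of_card_ge
  · rw [hMz, Subgroup.zpowers_le]
    cases u with
    | a i =>
      rw [Subgroup.mem_zpowers_iff]
      refine ⟨(i.val : ℤ), ?_⟩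
      rw [zpow_natCast, QuaternionGroup.a_one_pow, ZMod.natCast_zmod_val]
    | xa i =>
      exfalso
      rw [QuaternionGroup.orderOf_xa] at huo
      have : 4 ≤ 2 ^ n := by
        calc 4 = 2 ^ 2 := by norm_num
          _ ≤ 2 ^ n := Nat.pow_le_pow_right (by norm_num) hn
      omega
  · rw [hacard, hMcard]

/-- Let p be a prime and G a finite group in which any two p-subgroups of the same order are conjugate, with Sylow p-subgroup P. Then P is cyclic, or elementary abelian, or p = 2 and P is a quaternion group of order 8, or p is odd and P is non-abelian of order p³ and exponent p. -/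
theorem result {G : Type*} [Group G] [Finite G]
    {p : ℕ} [Fact p.Prime] (hC : ∀ H K : Subgroup G, IsPGroup p H → IsPGroup p K → Nat.card H = Nat.card K →
      ∃ g : G, K = H.map (MulAut.conj g).toMonoidHom) (P : Sylow p G) :
    IsCyclic P ∨ Cfsg.IsElementaryAbelian p (P : Subgroup G) ∨
      (p = 2 ∧ Nonempty ((P : Subgroup G) ≃* QuaternionGroup 2)) ∨
      (p ≠ 2 ∧ ¬ IsMulCommutative P ∧ Nat.card P = p ^ 3 ∧ Monoid.exponent P = p) := by
  have hp' : Fact p.Prime := inferInstance
  have hPp : IsPGroup p (P : Subgroup G) := P.isPGroup'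
  by_cases hcyc : IsCyclic P
  · left; exact hcyc
  right
  rcases key hC (P : Subgroup G) hPp with hexp | hamo
  · -- exponent p
    by_cases hab : ∀ a b : (P : Subgroup G), a * b = b * a
    · left
      refine ⟨⟨⟨hab⟩⟩, ?_⟩
      intro a ha
      simpa using congrArg Subtype.val (hexp ⟨a, ha⟩)
    · right; right
      push Not at hab
      have hp2 : p ≠ 2 := by
        rintro rfl
        obtain ⟨a, b, hab⟩ := hab
        exact hab (mul_comm_of_sq_eq_one hexp a b)
      have hnc : ¬ IsMulCommutative (P : Subgroup G) := by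
        intro h
        obtain ⟨a, b, hab⟩ := hab
        exact hab (h.is_comm.comm a b)
      obtain ⟨m, hm⟩ := (IsPGroup.iff_card).mp hPp
      have hm3 : 3 ≤ m := by
        by_contra hlt
        push Not at hlt
        obtain ⟨a, b, hab'⟩ := hab
        apply hab'
        have h1 := comm_of_card_le_sq (⊤ : Subgroup (P : Subgroup G)) m (by omega)
          (by rw [Subgroup.card_top, hm])
        exact h1 a (Subgroup.mem_top a) b (Subgroup.mem_top b)
      have hm4 : m < 4 := by
        by_contra hge
        push Not at hge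
        have hle : p ^ 4 ≤ Nat.card (P : Subgroup G) := by
          rw [hm]; exact Nat.pow_le_pow_right hp'.out.pos hge
        obtain ⟨A, hAab, hAcard⟩ := exists_abelian_card_cube hPp hle
        obtain ⟨K, ⟨u, huK, v, hvK, huv⟩, hKcard⟩ := exists_nonabelian_card_cube hPp hexp hab
        obtain ⟨e⟩ := iso_of_card_eq hC (P : Subgroup G) hPp A K (by rw [hAcard, hKcard])
        apply huv
        have h1 : e.symm ⟨u, huK⟩ * e.symm ⟨v, hvK⟩ = e.symm ⟨v, hvK⟩ * e.symm ⟨u, huK⟩ :=
          Subtype.ext (hAab _ (e.symm ⟨u, huK⟩).2 _ (e.symm ⟨v, hvK⟩).2)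
        rw [← map_mul, ← map_mul] at h1
        have h2 := e.symm.injective h1
        exact congrArg Subtype.val h2
      have hm' : m = 3 := by omega
      refine ⟨hp2, hnc, by rw [hm, hm'], ?_⟩
      have hdvd : Monoid.exponent (P : Subgroup G) ∣ p :=
        Monoid.exponent_dvd_of_forall_pow_eq_one hexp
      rcases (Nat.dvd_prime hp'.out).mp hdvd with h1 | h1
      · exfalso
        rw [Monoid.exp_eq_one_iff] at h1
        obtain ⟨a, b, hab'⟩ := hab
        exact hab' (by rw [Subsingleton.elim a b])
      · exact h1
  · -- at most one subgroup of order p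
    by_cases hp2 : p = 2
    · subst hp2
      rcases cyclic_or_quaternion_of_atMostOne hPp hamo with h1 | ⟨n, hn1, ⟨e⟩⟩
      · exact absurd h1 hcyc
      · right; left
        refine ⟨rfl, ?_⟩
        rcases Nat.eq_or_lt_of_le hn1 with hn | hn
        · rw [← hn] at e
          exact ⟨e⟩
        · exfalso
          -- n ≥ 2 : cyclic and non-cyclic maximal subgroups
          have hn2 : 2 ≤ n := hn
          obtain ⟨M₁, M₂, hne, hM₁, hM₂⟩ := exists_two_index_p hPp hcyc
          have huniq : ∀ M : Subgroup (P : Subgroup G), M.index = 2 → IsCyclic M →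
              M = (Subgroup.zpowers (QuaternionGroup.a (1 : ZMod (2 * 2 ^ n)))).comap e.toMonoidHom := by
            intro M hM hMc
            have h1 : (M.map e.toMonoidHom).index = 2 := by
              rw [Subgroup.index_map_of_bijective e.bijective, hM]
            have h2 : IsCyclic (M.map e.toMonoidHom) := by
              have e' := Subgroup.equivMapOfInjective M e.toMonoidHom e.injective
              exact isCyclic_of_surjective e' e'.surjective
            have h3 := quaternion_cyclic_index_two n hn2 _ h2 h1
            rw [← h3, Subgroup.comap_map_eq_self_of_injective e.injective]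
          obtain ⟨M, hMi, hMnc⟩ : ∃ M : Subgroup (P : Subgroup G), M.index = 2 ∧ ¬ IsCyclic M := by
            by_contra hall
            push Not at hall
            exact hne ((huniq M₁ hM₁ (hall M₁ hM₁)).trans (huniq M₂ hM₂ (hall M₂ hM₂)).symm)
          set A₀ := (Subgroup.zpowers (QuaternionGroup.a (1 : ZMod (2 * 2 ^ n)))).comap e.toMonoidHom
            with hA₀
          have hA₀cyc : IsCyclic A₀ := by
            have : A₀ = Subgroup.zpowers (e.symm (QuaternionGroup.a 1)) := by
              rw [hA₀]
              ext x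
              rw [Subgroup.mem_comap, Subgroup.mem_zpowers_iff, Subgroup.mem_zpowers_iff]
              constructor
              · rintro ⟨k, hk⟩
                refine ⟨k, ?_⟩
                rw [← map_zpow, hk]
                exact e.symm_apply_apply x
              · rintro ⟨k, hk⟩
                refine ⟨k, ?_⟩
                rw [← hk, map_zpow]
                show _ = (e (e.symm (QuaternionGroup.a 1))) ^ k
                rw [e.apply_symm_apply]
            rw [this]; infer_instance
          have hA₀i : A₀.index = 2 := by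
            rw [hA₀, Subgroup.index_comap_of_surjective _ e.surjective]
            have hne : NeZero (2 ^ n) := ⟨pow_ne_zero _ two_ne_zero⟩
            have hfin : Finite (QuaternionGroup (2 ^ n)) := inferInstance
            have h1 := Subgroup.card_mul_index
              (Subgroup.zpowers (QuaternionGroup.a (1 : ZMod (2 * 2 ^ n))))
            rw [Nat.card_zpowers, QuaternionGroup.orderOf_a_one, Nat.card_eq_fintype_card,
              QuaternionGroup.card] at h1
            have hpos : 0 < 2 ^ n := pow_pos (by norm_num) n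
            have h2 : 2 * 2 ^ n * 2 = 4 * 2 ^ n := by ring
            rw [← h2] at h1
            exact Nat.eq_of_mul_eq_mul_left (by omega) h1
          have hcardeq : Nat.card A₀ = Nat.card M := by
            have h1 := Subgroup.card_mul_index A₀
            have h2 := Subgroup.card_mul_index M
            rw [hA₀i] at h1
            rw [hMi] at h2
            omega
          obtain ⟨e'⟩ := iso_of_card_eq hC (P : Subgroup G) hPp A₀ M hcardeq
          exact hMnc (isCyclic_of_surjective e' e'.surjective)
    · exfalso
      exact hcyc (isCyclic_of_atMostOne_of_odd hp2 _ _ rfl hPp hamo)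

end Cfsg.Agent.S4023
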