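import Cfsg.Statements.S4451
import Mathlib
import Cfsg.Agent.Lib.H24.GlaubFPF3

set_option autoImplicit false
open Cfsg

namespace Cfsg.Agent.S4451

/-- Let the finite group Γ be generated by a normal subgroup G and a cyclic subgroup S of coprime orders such that every non-identity element of S has the same centraliser C = G ⊓ C(S) in G. Let χ be an S-invariant irreducible character of G, χ̂ its canonical extension to Γ (determinantal order coprime to the order of S), and β the irreducible character of C with χ̂(c s) = ε₀ β(c) for c ∈ C and generators s of S (ε₀ = ±1). Then there are a sign ε = ±1, which may differ from ε₀, and a linear character μ of S with μ² = 1, such that: (a) χ̂(c x) = ε β(c) μ(x) for all c ∈ C and all x ∈ S other than 1; (b) the restriction of χ to C equals |S|·ϑ + ε β for some character ϑ of C or ϑ = 0; (c) |S| divides χ(1) − ε β(1). -/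
theorem result {Γ : Type*} [Group Γ] [Fintype Γ] (G S : Subgroup Γ) [Fintype G] (hnorm : ∀ s ∈ S, ∀ g ∈ G, s * g * s⁻¹ ∈ G) (hcop : (Nat.card G).Coprime (Nat.card S)) (htop : G ⊔ S = ⊤) (hcyc : IsCyclic S) (C : Subgroup Γ) [Fintype C] (hC : C = G ⊓ Subgroup.centralizer (S : Set Γ)) (hCG : C ≤ G) (hfpf : ∀ x ∈ S, x ≠ 1 → G ⊓ Subgroup.centralizer ({x} : Set Γ) = C) (χ : Cfsg.IrrCharacter G) (hinv : (∀ s ∈ S, ∀ g g' : G, (g' : Γ) = s * g * s⁻¹ → (χ : G → ℂ) g' = (χ : G → ℂ) g)) (χh : Cfsg.IrrCharacter Γ) (hext : (∀ g : G, (χh : Γ → ℂ) g = (χ : G → ℂ) g)) (hdet : (Cfsg.detOrder (χh : Γ → ℂ)).Coprime (Nat.card S)) (β : Cfsg.IrrCharacter C) (ε₀ : ℤ) (hε₀ : ε₀ = 1 ∨ ε₀ = -1) (hβ : ∀ c : C, ∀ s : Γ, Subgroup.zpowers s = S → (χh : Γ → ℂ) ((c : Γ) * s) = (ε₀ : ℂ) * (β : C → ℂ) c) : ∃ ε : ℤ, (ε = 1 ∨ ε = -1) ∧ (∃ μ : S → ℂ, Cfsg.IsCharacter S μ ∧ μ 1 = 1 ∧ (∀ x : S, μ x * μ x = 1) ∧ ∀ c : C, ∀ x : S, x ≠ 1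 → (χh : Γ → ℂ) ((c : Γ) * x) = (ε : ℂ) * (β : C → ℂ) c * μ x) ∧ (∃ ϑ : C → ℂ, Cfsg.IsCharacter C ϑ ∧ (fun c : C => (χ : G → ℂ) ⟨c, hCG c.2⟩) = fun c => (Nat.card S : ℂ) * ϑ c + (ε : ℂ) * (β : C → ℂ) c) ∧ (Nat.card S : ℤ) ∣ (Cfsg.charDegree (χ : G → ℂ) : ℤ) - ε * (Cfsg.charDegree (β : C → ℂ) : ℤ) := by
  classical
  -- a generator of `S`
  obtain ⟨g₀, hg₀⟩ := hcyc.exists_generator
  obtain ⟨s₀, hs₀def⟩ : ∃ s₀ : Γ, s₀ = (g₀ : Γ) := ⟨_, rfl⟩
  have hs₀ : Subgroup.zpowers s₀ = S := by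
    ext x
    constructor
    · intro hx
      obtain ⟨k, rfl⟩ := Subgroup.mem_zpowers_iff.mp hx
      rw [hs₀def]
      exact S.zpow_mem g₀.2 k
    · intro hx
      obtain ⟨k, hk⟩ := Subgroup.mem_zpowers_iff.mp (hg₀ ⟨x, hx⟩)
      rw [Subgroup.mem_zpowers_iff]
      refine ⟨k, ?_⟩
      have := congrArg (Subtype.val : S → Γ) hk
      rw [Subgroup.coe_zpow] at this
      rw [hs₀def]
      exact this
  have hord : orderOf s₀ = Nat.card S := by
    rw [← Nat.card_zpowers, hs₀]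
  haveI hGn : G.Normal := Cfsg.Agent.Lib.H24.Glaub.normal_of_sup_eq_top G S hnorm htop
  have hset : Cfsg.Agent.Lib.H24.Glaub.CycSetup G s₀ :=
    Cfsg.Agent.Lib.H24.Glaub.cycSetup_of_sup_eq_top G s₀ (by rw [hs₀]; exact htop)
      (by rw [hord]; exact hcop)
  have hirr : Cfsg.IsIrrCharacter G (fun n : G => (χh : Γ → ℂ) n) := by
    have : (fun n : G => (χh : Γ → ℂ) n) = (χ : G → ℂ) := funext hext
    rw [this]
    exact χ.2
  have hdet' : (Cfsg.detOrder (χh : Γ → ℂ)).Coprime (orderOf s₀) := by rw [hord]; exact hdet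
  have hcomm : ∀ a b : S, a * b = b * a := by
    intro a b
    obtain ⟨i, hi⟩ := Subgroup.mem_zpowers_iff.mp (hg₀ a)
    obtain ⟨j, hj⟩ := Subgroup.mem_zpowers_iff.mp (hg₀ b)
    rw [← hi, ← hj]
    exact zpow_mul_comm g₀ i j
  haveI : Fintype S := Fintype.ofFinite _
  haveI : Finite (Cfsg.IrrCharacter C) := Cfsg.Agent.Lib.H24.finite_irr
  haveI : Finite (Cfsg.IrrCharacter S) := Cfsg.Agent.Lib.H24.finite_irr
  haveI : Fintype (Cfsg.IrrCharacter C) := Fintype.ofFinite _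
  haveI : Fintype (Cfsg.IrrCharacter S) := Fintype.ofFinite _
  have hχ1 := Cfsg.Agent.Lib.H24.irr_one_eq χ
  have hβ1 := Cfsg.Agent.Lib.H24.irr_one_eq β
  obtain ⟨d, _, hd⟩ := hχ1
  obtain ⟨b, _, hb⟩ := hβ1
  have hdegχ : Cfsg.charDegree (χ : G → ℂ) = d :=
    Cfsg.Agent.Lib.H23.charDegree_eq_of_apply_one hd
  have hdegβ : Cfsg.charDegree (β : C → ℂ) = b :=
    Cfsg.Agent.Lib.H23.charDegree_eq_of_apply_one hb
  by_cases hn1 : Nat.card S = 1
  · -- trivial `S`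
    have hs₀1 : s₀ = 1 := by
      rw [← orderOf_eq_one_iff, hord, hn1]
    have hSone : ∀ x : S, x = 1 := by
      intro x
      have : Subsingleton S := (Nat.card_eq_one_iff_unique.mp hn1).1
      exact Subsingleton.elim _ _
    have hχC : ∀ c : C, (χ : G → ℂ) ⟨c, hCG c.2⟩ = (ε₀ : ℂ) * (β : C → ℂ) c := by
      intro c
      have h1 := hβ c s₀ hs₀
      rw [hs₀1, mul_one] at h1
      rw [← h1]
      exact (hext ⟨c, hCG c.2⟩).symm
    refine ⟨ε₀, hε₀, ⟨fun _ => 1, ?_, rfl, fun _ => by rw [mul_one], fun c x hx => absurd (hSone x) hx⟩,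
      ⟨0, Cfsg.Agent.Lib.L0.isCharacter_zero, ?_⟩, ?_⟩
    · exact Cfsg.Agent.Lib.L0.isCharacter_of_irr Cfsg.Agent.Lib.H24.isIrrCharacter_one
    · funext c
      rw [hχC c, Pi.zero_apply, mul_zero, zero_add]
    · rw [hn1]
      exact one_dvd _
  · -- `|S| ≥ 2`
    have hg₀ne : g₀ ≠ 1 := by
      intro h
      apply hn1
      rw [← hord, hs₀def, h, Subgroup.coe_one, orderOf_one]
    have hcent : ∀ c ∈ C, ∀ x ∈ S, c * x = x * c := by
      intro c hc x hx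
      rw [hC] at hc
      have h1 := (Subgroup.mem_inf.mp hc).2
      rw [Subgroup.mem_centralizer_iff] at h1
      exact (h1 x hx).symm
    have hCx : ∀ x ∈ S, x ≠ 1 → Cfsg.Agent.Lib.H24.Glaub.fixedSub G x = C := by
      intro x hx hne
      exact hfpf x hx hne
    have hgen : ∀ x ∈ S, ∀ k : ℕ, k.Coprime (orderOf x) → ∀ c ∈ C,
        (χh : Γ → ℂ) (c * x ^ k) = (χh : Γ → ℂ) (c * x) := by
      intro x hx k hk c hc
      by_cases hx1 : x = 1
      · rw [hx1, one_pow]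
      · have hxt : orderOf x ∣ orderOf s₀ := by
          apply orderOf_dvd_of_mem_zpowers
          rw [hs₀]
          exact hx
        have hc' : c ∈ Cfsg.Agent.Lib.H24.Glaub.fixedSub G x := by
          rw [hCx x hx hx1]
          exact hc
        exact Cfsg.Agent.Lib.H24.Glaub.canonical_gen_gen hset.card_dvd hset.cop hxt
          (orderOf_pos s₀).ne'
          (fun m hm hm1 y => hset.canonical_pow χh.2 hirr hdet' hm hm1 y) hk hc'
    have hβ' : ∀ c : C, (χh : Γ → ℂ) ((c : Γ) * (g₀ : Γ)) = (ε₀ : ℂ) * (β : C → ℂ) c := by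
      intro c
      have h1 := hβ c s₀ hs₀
      rw [hs₀def] at h1
      exact h1
    obtain ⟨ε, μ, k, hε, hμ2, ha, hbb⟩ := Cfsg.Agent.Lib.H24.Glaub.fpf_core G S C hcomm hcent hCx hcop
      χh.2 hirr hgen β ε₀ hε₀ g₀ hg₀ne hβ'
    have hϑ : Cfsg.IsCharacter C (fun c : C => ∑ ξ : Cfsg.IrrCharacter C, (k ξ : ℂ) * (ξ : C → ℂ) c) := by
      have h1 := Cfsg.Agent.Lib.L0.isCharacter_finset_sum Finset.univ
        (fun ξ : Cfsg.IrrCharacter C => k ξ • (ξ : C → ℂ))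
        (fun ξ _ => Cfsg.Agent.Lib.L0.isCharacter_nsmul
          (Cfsg.Agent.Lib.L0.isCharacter_of_irr ξ.2) (k ξ))
      convert h1 using 1
      funext c
      rw [Finset.sum_apply]
      refine Finset.sum_congr rfl fun ξ _ => ?_
      rw [Pi.smul_apply, nsmul_eq_mul]
    refine ⟨ε, hε, ⟨(μ : S → ℂ), Cfsg.Agent.Lib.L0.isCharacter_of_irr μ.2,
      Cfsg.Agent.Lib.H24.irr_apply_one_of_comm hcomm μ, hμ2, ha⟩,
      ⟨_, hϑ, ?_⟩, ?_⟩
    · funext c
      rw [← hext ⟨c, hCG c.2⟩]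
      exact hbb c
    · -- degrees
      have hdeg1 : ∀ ξ : Cfsg.IrrCharacter C, ∃ t : ℕ, (ξ : C → ℂ) 1 = t := by
        intro ξ
        obtain ⟨t, _, ht⟩ := Cfsg.Agent.Lib.H24.irr_one_eq ξ
        exact ⟨t, ht⟩
      choose t ht using hdeg1
      have h1 := hbb 1
      rw [Subgroup.coe_one] at h1
      have h2 : (χh : Γ → ℂ) 1 = (d : ℂ) := by
        have := hext 1
        rw [Subgroup.coe_one] at this
        rw [this, hd]
      rw [h2, hb] at h1
      have h3 : (∑ ξ : Cfsg.IrrCharacter C, (k ξ : ℂ) * (ξ : C → ℂ) 1) =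
          ((∑ ξ : Cfsg.IrrCharacter C, k ξ * t ξ : ℕ) : ℂ) := by
        push_cast
        refine Finset.sum_congr rfl fun ξ _ => ?_
        rw [ht ξ]
      rw [h3] at h1
      have h4 : (d : ℤ) = (Nat.card S : ℤ) * ((∑ ξ : Cfsg.IrrCharacter C, k ξ * t ξ : ℕ) : ℤ) +
          ε * (b : ℤ) := by exact_mod_cast h1
      rw [hdegχ, hdegβ, h4]
      exact Dvd.intro ((∑ ξ : Cfsg.IrrCharacter C, k ξ * t ξ : ℕ) : ℤ) (by ring)

end Cfsg.Agent.S4451
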