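import Cfsg.Statements.S0094
import Mathlib
import Cfsg.Agent.Lib.H16.ClassTwo
import Cfsg.Agent.Lib.H1.PGroupBasic

set_option autoImplicit false
open Cfsg

namespace Cfsg.Agent.S0094

open Cfsg.Agent.Lib.H16
open scoped commutatorElement

/-- In a special `p`-group every commutator has order dividing `p`. -/
theorem commutatorElement_pow_eq_one {P : Type*} [Group P] [Finite P] {p : ℕ} [Fact p.Prime]
    (h : Cfsg.IsSpecial p P) (a b : P) : ⁅a, b⁆ ^ p = 1 := by
  obtain ⟨hP, hΦ, hD⟩ := h
  have hc : ⁅a, b⁆ ∈ Subgroup.center P := by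
    rw [← hD]
    exact Subgroup.commutator_mem_commutator (Subgroup.mem_top a) (Subgroup.mem_top b)
  have hap : a ^ p ∈ Subgroup.center P := by
    rw [← hΦ]
    exact Cfsg.Agent.Lib.H1.isPGroup_pow_mem_frattini hP a
  have hcomm : ∀ g : P, Commute ⁅a, b⁆ g := fun g => (Subgroup.mem_center_iff.mp hc g).symm
  have h1 : a * b = b * a * ⁅a, b⁆ := by
    have : a * b = ⁅a, b⁆ * (b * a) := by rw [commutatorElement_def]; group
    rw [this, (hcomm (b * a)).eq]
  exact pow_eq_one_of_pow_commute h1 (hcomm a) ((Subgroup.mem_center_iff.mp hap b).symm)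

/-- In a special p-group every central element has order dividing p. -/
theorem result {P : Type*} [Group P] [Finite P] {p : ℕ} [Fact p.Prime] (h : Cfsg.IsSpecial p P) (z : P) (hz : z ∈ Subgroup.center P) : z ^ p = 1 := by
  have hD : commutator P = Subgroup.center P := h.2.2
  rw [← hD, commutator_def, Subgroup.commutator_def] at hz
  induction hz using Subgroup.closure_induction with
  | mem x hx =>
    obtain ⟨a, _, b, _, rfl⟩ := hx
    exact commutatorElement_pow_eq_one h a b
  | one => exact one_pow p
  | mul x y hx _ px py =>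
    have hxc : x ∈ Subgroup.center P := by
      rw [← hD, commutator_def, Subgroup.commutator_def]; exact hx
    have hcomm : Commute x y := (Subgroup.mem_center_iff.mp hxc y).symm
    rw [hcomm.mul_pow, px, py, one_mul]
  | inv x _ px => rw [inv_pow, px, inv_one]

end Cfsg.Agent.S0094
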