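import Cfsg.Statements.S0626
import Mathlib
import Cfsg.Agent.S0595
import Cfsg.Agent.Lib.H4.ActionStable
import Cfsg.Agent.Lib.H4.FaithfulForm
import Cfsg.Agent.Lib.H4.ZJInst

set_option autoImplicit false
open Cfsg

namespace Cfsg.Agent.S0626

open Cfsg.Agent.Lib Cfsg.Agent.Lib.H4

universe u

/-- The class of finite groups all of whose Sylow 2-subgroups are abelian. -/
def AbSyl2 (X : Type u) [Group X] : Prop := ∀ T : Sylow 2 X, IsMulCommutative T

theorem abSyl2_sub (X : Type u) [Group X] [Finite X] (H : Subgroup X) (hX : AbSyl2 X) :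
    AbSyl2 ↥H := by
  intro T
  have hT2 : IsPGroup 2 ↥((T : Subgroup ↥H).map H.subtype) := T.2.map _
  obtain ⟨P, hP⟩ := hT2.exists_le_sylow
  have hPc := (ZJ.isMulCommutative_iff _).1 (hX P)
  rw [ZJ.isMulCommutative_iff]
  intro x hx y hy
  apply Subtype.ext
  exact hPc _ (hP ⟨x, hx, rfl⟩) _ (hP ⟨y, hy, rfl⟩)

theorem abSyl2_of_surjective {X Y : Type u} [Group X] [Finite X] [Group Y] (f : X →* Y)
    (hf : Function.Surjective f) (hX : AbSyl2 X) : AbSyl2 Y := by
  intro T
  obtain ⟨P, rfl⟩ := Sylow.mapSurjective_surjective hf 2 T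
  have hPc := (ZJ.isMulCommutative_iff _).1 (hX P)
  rw [ZJ.isMulCommutative_iff]
  rintro _ ⟨x, hx, rfl⟩ _ ⟨y, hy, rfl⟩
  rw [← map_mul, ← map_mul, hPc x hx y hy]

theorem abSyl2_quot (X : Type u) [Group X] [Finite X] (N : Subgroup X) [N.Normal]
    (hX : AbSyl2 X) : AbSyl2 (X ⧸ N) :=
  abSyl2_of_surjective (QuotientGroup.mk' N) (QuotientGroup.mk'_surjective N) hX

theorem bb {p : ℕ} [Fact p.Prime] (hp : p ≠ 2) (X : Type u) [Group X] [Finite X]
    (hX : AbSyl2 X) (V : Subgroup X) [V.Normal] (hV : Cfsg.IsElementaryAbelian p V) :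
    Cfsg.IsPStableOn p V := by
  apply FaithfulForm.isPStableOn_of_faithful V hV
  rintro V' H hV' hHV hf ⟨f, hfs⟩ a haH hq
  by_contra hna
  have hH : AbSyl2 ↥H := abSyl2_of_surjective f hfs hX
  obtain ⟨T⟩ : Nonempty (Sylow 2 ↥H) := inferInstance
  exact S0595.result hp V' H hV' hHV hf a haH hq hna T (hH T)

/-- For odd p, groups whose Sylow 2-subgroups are abelian are p-stable in the action sense. -/
theorem result {G : Type*} [Group G] [Finite G] {p : ℕ} [Fact p.Prime] (hp : p ≠ 2) (hab : ∀ T : Sylow 2 G, IsMulCommutative T) : Cfsg.IsActionPStable p G := by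
  exact ActionStable.actionPStable_of_class AbSyl2 abSyl2_sub abSyl2_quot
    (fun X _ _ hX V _ hV => bb hp X hX V hV) G hab

end Cfsg.Agent.S0626
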