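import Cfsg.Statements.S0237
import Mathlib

set_option autoImplicit false
open Cfsg

namespace Cfsg.Agent.S0237

/-- the elements conjugating `x` to `y` form a coset of the centralizer of `x` -/
noncomputable def conjEquiv {G : Type*} [Group G] (x y g₀ : G) (h₀ : g₀ * x * g₀⁻¹ = y) :
    {g : G // g * x * g⁻¹ = y} ≃ Subgroup.centralizer ({x} : Set G) where
  toFun g := ⟨g₀⁻¹ * g.1, by
    obtain ⟨g, hg⟩ := g
    rw [Subgroup.mem_centralizer_iff]
    intro h hh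
    rw [Set.mem_singleton_iff] at hh
    subst hh
    simp only
    have : g₀⁻¹ * g * h * (g₀⁻¹ * g)⁻¹ = h := by
      rw [mul_inv_rev, inv_inv]
      calc g₀⁻¹ * g * h * (g⁻¹ * g₀) = g₀⁻¹ * (g * h * g⁻¹) * g₀ := by simp only [mul_assoc]
        _ = g₀⁻¹ * (g₀ * h * g₀⁻¹) * g₀ := by rw [hg, h₀]
        _ = h := by simp [mul_assoc]
    calc h * (g₀⁻¹ * g) = (g₀⁻¹ * g * h * (g₀⁻¹ * g)⁻¹) * (g₀⁻¹ * g) := by rw [this]
      _ = g₀⁻¹ * g * h := inv_mul_cancel_right _ _⟩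
  invFun c := ⟨g₀ * c.1, by
    obtain ⟨c, hc⟩ := c
    rw [Subgroup.mem_centralizer_iff] at hc
    have hcx := hc x rfl
    simp only
    rw [mul_inv_rev]
    calc g₀ * c * x * (c⁻¹ * g₀⁻¹) = g₀ * (c * x) * c⁻¹ * g₀⁻¹ := by simp only [mul_assoc]
      _ = g₀ * (x * c) * c⁻¹ * g₀⁻¹ := by rw [hcx]
      _ = g₀ * x * g₀⁻¹ := by simp [mul_assoc]
      _ = y := h₀⟩
  left_inv g := by apply Subtype.ext; simp
  right_inv c := by apply Subtype.ext; simp

/-- If x is real (conjugate to x⁻¹) in a finite group G, the number of g with g x g⁻¹ = x⁻¹ equals |C_G(x)|. -/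
theorem result {G : Type*} [Group G] [Finite G] (x : G) (hreal : IsConj x x⁻¹) : Nat.card {g : G // g * x * g⁻¹ = x⁻¹} = Nat.card (Subgroup.centralizer ({x} : Set G)) := by
  obtain ⟨g₀, h₀⟩ := isConj_iff.1 hreal
  exact Nat.card_congr (conjEquiv x x⁻¹ g₀ h₀)

end Cfsg.Agent.S0237
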