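import Cfsg.Statements.S0236
import Mathlib
import Cfsg.Agent.Lib.H2.Pairs

set_option autoImplicit false
open Cfsg

namespace Cfsg.Agent.S0236

open Cfsg.Agent.Lib.H2

/-- If x is an involution, the number of ordered pairs (u, v) of involutions with uv = x, plus one, equals the number of involutions in the centralizer of x. -/
theorem result {G : Type*} [Group G] [Finite G] (x : G) (hx : orderOf x = 2) : Nat.card {p : G × G // orderOf p.1 = 2 ∧ orderOf p.2 = 2 ∧ p.1 * p.2 = x} + 1 = Nat.card {t : G // orderOf t = 2 ∧ Commute t x} := by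
  rw [Nat.card_congr (pairsEquivCommuting x hx)]
  have e : {t : G | orderOf t = 2 ∧ Commute t x} = insert x {t : G | (orderOf t = 2 ∧ Commute t x) ∧ t ≠ x} := by
    ext t
    simp only [Set.mem_ofPred_eq, Set.mem_insert_iff]
    constructor
    · intro h
      by_cases ht : t = x
      · exact Or.inl ht
      · exact Or.inr ⟨h, ht⟩
    · rintro (rfl | h)
      · exact ⟨hx, Commute.refl _⟩
      · exact h.1
  have hn : x ∉ {t : G | (orderOf t = 2 ∧ Commute t x) ∧ t ≠ x} := by
    simp
  change Nat.card ↥{t : G | (orderOf t = 2 ∧ Commute t x) ∧ t ≠ x} + 1 = Nat.card ↥{t : G | orderOf t = 2 ∧ Commute t x}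
  rw [Nat.card_coe_set_eq, Nat.card_coe_set_eq, e, Set.ncard_insert_of_notMem hn (Set.toFinite _)]

end Cfsg.Agent.S0236
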