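import Cfsg.Statements.S0238
import Mathlib
import Cfsg.Agent.Lib.H2.Pairs
import Cfsg.Agent.S0236
import Cfsg.Agent.S0237

set_option autoImplicit false
open Cfsg

namespace Cfsg.Agent.S0238

open Cfsg.Agent.Lib.H2

theorem isConj_of_pair {G : Type*} [Group G] (x : G)
    (p : {p : G × G // orderOf p.1 = 2 ∧ orderOf p.2 = 2 ∧ p.1 * p.2 = x}) :
    p.1.1 * x * p.1.1⁻¹ = x⁻¹ := by
  obtain ⟨⟨u, v⟩, hu, hv, huv⟩ := p
  simp only at hu hv huv ⊢
  rw [← huv]
  exact inverts_mul_of_involutions (mul_self_of_orderOf_two hu) (mul_self_of_orderOf_two hv)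

/-- For every x in a finite group G, the number c of ordered pairs (u, v) of involutions with uv = x is at most |C_G(x)|; c = 0 when x is not conjugate to x⁻¹; and c + 2 ≤ |C_G(x)| when x is an involution. -/
theorem result {G : Type*} [Group G] [Finite G] (x : G) : Nat.card {p : G × G // orderOf p.1 = 2 ∧ orderOf p.2 = 2 ∧ p.1 * p.2 = x} ≤ Nat.card (Subgroup.centralizer ({x} : Set G)) ∧ (¬ IsConj x x⁻¹ → Nat.card {p : G × G // orderOf p.1 = 2 ∧ orderOf p.2 = 2 ∧ p.1 * p.2 = x} = 0) ∧ (orderOf x = 2 → Nat.card {p : G × G // orderOf p.1 = 2 ∧ orderOf p.2 = 2 ∧ p.1 * p.2 = x} + 2 ≤ Nat.card (Subgroup.centralizer ({x} : Set G))) := by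
  have hempty : ¬ IsConj x x⁻¹ → IsEmpty {p : G × G // orderOf p.1 = 2 ∧ orderOf p.2 = 2 ∧ p.1 * p.2 = x} := by
    intro h
    constructor
    intro p
    exact h (isConj_iff.2 ⟨p.1.1, isConj_of_pair x p⟩)
  refine ⟨?_, ?_, ?_⟩
  · by_cases hc : IsConj x x⁻¹
    · rw [← Cfsg.Agent.S0237.result x hc]
      apply Nat.card_le_card_of_injective
        (fun p : {p : G × G // orderOf p.1 = 2 ∧ orderOf p.2 = 2 ∧ p.1 * p.2 = x} =>
          (⟨p.1.1, isConj_of_pair x p⟩ : {g : G // g * x * g⁻¹ = x⁻¹}))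
      intro p q hpq
      obtain ⟨⟨u, v⟩, hu, hv, huv⟩ := p
      obtain ⟨⟨u', v'⟩, hu', hv', huv'⟩ := q
      simp only [Subtype.mk.injEq] at hpq
      simp only at huv huv'
      subst hpq
      apply Subtype.ext
      simp only [Prod.mk.injEq, true_and]
      exact mul_left_cancel (huv.trans huv'.symm)
    · have := hempty hc
      simp
  · intro hc
    have := hempty hc
    simp
  · intro hx
    have h1 := Cfsg.Agent.S0236.result x hx
    have hsub : insert 1 {t : G | orderOf t = 2 ∧ Commute t x} ⊆ ((Subgroup.centralizer ({x} : Set G) : Subgroup G) : Set G) := by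
      intro t ht
      rcases ht with rfl | ⟨-, ht⟩
      · exact Subgroup.one_mem _
      · rw [SetLike.mem_coe, Subgroup.mem_centralizer_iff]
        intro h hh
        rw [Set.mem_singleton_iff] at hh
        rw [hh]; exact ht.eq.symm
    have hn : (1 : G) ∉ {t : G | orderOf t = 2 ∧ Commute t x} := by simp
    have h2 := Set.ncard_le_ncard hsub (Set.toFinite _)
    rw [Set.ncard_insert_of_notMem hn (Set.toFinite _)] at h2
    have h3 : Nat.card {t : G // orderOf t = 2 ∧ Commute t x} = Set.ncard {t : G | orderOf t = 2 ∧ Commute t x} := by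
      rw [← Nat.card_coe_set_eq]; rfl
    have h4 : Nat.card (Subgroup.centralizer ({x} : Set G)) = Set.ncard ((Subgroup.centralizer ({x} : Set G) : Subgroup G) : Set G) := by
      rw [← Nat.card_coe_set_eq]; rfl
    omega

end Cfsg.Agent.S0238
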