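import Cfsg.Statements.S4511
import Cfsg.Agent.Lib.L0.SubsectionTrace
import Cfsg.Agent.Lib.L0.BlockParseval
import Cfsg.Agent.Lib.L0.SectionSum
import Cfsg.Agent.Lib.H23.BlockVanishP

set_option autoImplicit false
open Cfsg

namespace Cfsg.Agent.S4511

open MonoidAlgebra Cfsg.Agent.Lib.H23 Cfsg.Agent.Lib.H24 Cfsg.Agent.Lib.L0
  Cfsg.Agent.Lib.L0.BlockRankTrace Cfsg.Agent.Lib.L0.InducedBlockPart
  Cfsg.Agent.Lib.L0.SubsectionTrace Cfsg.Agent.Lib.L0.BlockParseval
  Cfsg.Agent.Lib.L0.SectionSum
open scoped ComplexConjugate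

open scoped Classical in
/-- The contribution of the section of `x` to `k(B)`. -/
theorem per_x {G : Type*} [Group G] [Fintype G] {p : ℕ} [hpF : Fact p.Prime] {M : Ideal AlgInt}
    (hM : IsPModular p M) {x : G} (hx : ∃ k : ℕ, orderOf x = p ^ k)
    [Fintype (Subgroup.centralizer ({x} : Set G))] [Fintype (IrrCharacter G)]
    [Fintype (IrrCharacter (Subgroup.centralizer ({x} : Set G)))]
    {B : Set (IrrCharacter G)} (hB : IsPBlock M B) :
    ∑ ζ : IrrCharacter G, (if ζ ∈ B then ∑ s : Subgroup.centralizer ({x} : Set G),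
      (if p ∣ orderOf s then 0 else
        conj ((ζ : G → ℂ) (x * (s : G))) * (ζ : G → ℂ) (x * (s : G))) else 0) =
    (Nat.card (Subgroup.centralizer ({x} : Set G)) : ℂ) *
      ∑ b ∈ blocks M (Subgroup.centralizer ({x} : Set G)),
        (if IsInducedBlock M (Subgroup.centralizer ({x} : Set G)) b B then
          (blockRank p b : ℂ) else 0) := by
  haveI hPr := isPrime_of_isPModular hM
  have hC : Subgroup.centralizer ({x} : Set G) = Subgroup.centralizer ({x} : Set G) := rfl
  have h1 : ∀ ζ : IrrCharacter G, ∑ s : Subgroup.centralizer ({x} : Set G),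
      (if p ∣ orderOf s then 0 else
        conj ((ζ : G → ℂ) (x * (s : G))) * (ζ : G → ℂ) (x * (s : G))) =
      ∑ b ∈ blocks M (Subgroup.centralizer ({x} : Set G)),
        ∑ s : Subgroup.centralizer ({x} : Set G), (if p ∣ orderOf s then 0 else
          conj (proj b (sec x (Subgroup.centralizer ({x} : Set G)) (ζ : G → ℂ)) s) *
            proj b (sec x (Subgroup.centralizer ({x} : Set G)) (ζ : G → ℂ)) s) :=
    fun ζ => sum_pRegular_normSq_eq hM (sec_isClassFunction hC ζ)
  simp only [h1]
  have h2 : ∀ ζ : IrrCharacter G, (if ζ ∈ B then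
      ∑ b ∈ blocks M (Subgroup.centralizer ({x} : Set G)),
        ∑ s : Subgroup.centralizer ({x} : Set G), (if p ∣ orderOf s then 0 else
          conj (proj b (sec x (Subgroup.centralizer ({x} : Set G)) (ζ : G → ℂ)) s) *
            proj b (sec x (Subgroup.centralizer ({x} : Set G)) (ζ : G → ℂ)) s) else 0) =
      ∑ b ∈ blocks M (Subgroup.centralizer ({x} : Set G)), (if ζ ∈ B then
        ∑ s : Subgroup.centralizer ({x} : Set G), (if p ∣ orderOf s then 0 else
          conj (proj b (sec x (Subgroup.centralizer ({x} : Set G)) (ζ : G → ℂ)) s) *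
            proj b (sec x (Subgroup.centralizer ({x} : Set G)) (ζ : G → ℂ)) s) else 0) := by
    intro ζ
    split_ifs
    · rfl
    · rw [Finset.sum_const_zero]
  simp only [h2]
  rw [Finset.sum_comm, Finset.mul_sum]
  refine Finset.sum_congr rfl fun b hb => ?_
  obtain ⟨ξ₀, rfl⟩ := mem_blocks.1 hb
  by_cases hind : IsInducedBlock M (Subgroup.centralizer ({x} : Set G))
      (blockOf M (ξ₀ : Subgroup.centralizer ({x} : Set G) → ℂ)) B
  · rw [if_pos hind]
    exact sum_block_bpart_eq_card_mul_blockRank hx hC hM ξ₀ hind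
  · rw [if_neg hind, mul_zero]
    obtain ⟨χ₁, hind₁⟩ := exists_isInducedBlock_centralizer hM hx ξ₀
    refine Finset.sum_eq_zero fun ζ _ => ?_
    split_ifs with hζ
    · have hζ₁ : ζ ∉ blockOf M (χ₁ : G → ℂ) := by
        intro hmem
        apply hind
        obtain ⟨χ₀, rfl⟩ := hB
        have e1 : blockOf M (ζ : G → ℂ) = blockOf M (χ₀ : G → ℂ) := blockOf_eq_of_mem hζ
        have e2 : blockOf M (ζ : G → ℂ) = blockOf M (χ₁ : G → ℂ) := blockOf_eq_of_mem hmem
        rw [← e1, e2]
        exact hind₁
      refine Finset.sum_eq_zero fun s _ => ?_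
      split_ifs with hs
      · rfl
      · rw [proj_sec_eq_zero hx hC hM hind₁ ζ hζ₁ hs, mul_zero]
    · rfl

/-- Brauer's count of the irreducible characters in a block by subsections. Let M be a maximal ideal of the algebraic integers containing the prime p, B a p-block of the finite group G, and X a set of representatives of the conjugacy classes of p-elements of G (elements of p-power order, the identity included: every p-element is conjugate to exactly one member of X). Then the number of irreducible characters in B is the sum, over x ∈ X and over the blocks b of C_G(x) that induce B, of the p-regular rank of b (the number of irreducible Brauer characters of b, here the dimension of the span of the restrictions of the members of b to the p-regular elements of C_G(x)). -/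
theorem result {G : Type*} [Group G] [Finite G] (p : ℕ) (M : Ideal Cfsg.AlgInt) (hM : Cfsg.IsPModular p M)
    (B : Set (Cfsg.IrrCharacter G)) (hB : Cfsg.IsPBlock M B) (X : Finset G)
    (hX : ∀ x ∈ X, ∃ k : ℕ, orderOf x = p ^ k)
    (hXrep : ∀ g : G, (∃ k : ℕ, orderOf g = p ^ k) → ∃! x, x ∈ X ∧ IsConj g x) :
    Nat.card B = ∑ x ∈ X, ∑ᶠ b ∈ {b : Set (Cfsg.IrrCharacter ↥(Subgroup.centralizer ({x} : Set G))) | Cfsg.IsInducedBlock M (Subgroup.centralizer ({x} : Set G)) b B},
      Cfsg.blockRank p b := by
  classical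
  haveI := Fintype.ofFinite G
  haveI : Fintype (IrrCharacter G) := Fintype.ofFinite _
  have hp : p.Prime := hM.1
  haveI : Fact p.Prime := ⟨hp⟩
  haveI hPr := isPrime_of_isPModular hM
  apply Nat.cast_injective (R := ℂ)
  rw [Nat.cast_sum]
  -- the left side
  have hL : (Nat.card B : ℂ) = ∑ ζ : IrrCharacter G, if ζ ∈ B then (1 : ℂ) else 0 := by
    rw [Finset.sum_boole, Nat.card_eq_fintype_card, Fintype.card_subtype]
  set f : IrrCharacter G → G → ℂ := fun ζ g => conj ((ζ : G → ℂ) g) * (ζ : G → ℂ) g with hf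
  have hfcf : ∀ ζ : IrrCharacter G, IsClassFunction G (f ζ) := by
    intro ζ g h
    simp only [hf]
    rw [irr_conj]
  have h1 : ∀ ζ : IrrCharacter G, (1 : ℂ) =
      ∑ x ∈ X, (Nat.card (Subgroup.centralizer ({x} : Set G)) : ℂ)⁻¹ * secSum p (f ζ) x := by
    intro ζ
    rw [← section_sum hp X hX hXrep (hfcf ζ)]
    have h2 := irr_orthonormal ζ ζ
    rw [if_pos rfl, classInner] at h2
    rw [← h2]
    congr 1
    refine Finset.sum_congr rfl fun g _ => ?_
    simp only [hf]
    rw [mul_comm]
  have h2 : ∀ ζ : IrrCharacter G, (if ζ ∈ B then (1 : ℂ) else 0) =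
      ∑ x ∈ X, (Nat.card (Subgroup.centralizer ({x} : Set G)) : ℂ)⁻¹ *
        (if ζ ∈ B then secSum p (f ζ) x else 0) := by
    intro ζ
    split_ifs
    · exact h1 ζ
    · simp
  rw [hL, Finset.sum_congr rfl fun ζ _ => h2 ζ, Finset.sum_comm]
  refine Finset.sum_congr rfl fun x hxX => ?_
  rw [← Finset.mul_sum]
  haveI : Fintype (Subgroup.centralizer ({x} : Set G)) := Fintype.ofFinite _
  haveI : Fintype (IrrCharacter (Subgroup.centralizer ({x} : Set G))) := Fintype.ofFinite _
  have h3 : ∀ ζ : IrrCharacter G, (if ζ ∈ B then secSum p (f ζ) x else 0) =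
      (if ζ ∈ B then ∑ s : Subgroup.centralizer ({x} : Set G),
      (if p ∣ orderOf s then 0 else
        conj ((ζ : G → ℂ) (x * (s : G))) * (ζ : G → ℂ) (x * (s : G))) else 0) := by
    intro ζ
    rw [secSum_eq (f ζ) (hX x hxX)]
  rw [Finset.sum_congr rfl fun ζ _ => h3 ζ, per_x hM (hX x hxX) hB, ← mul_assoc,
    inv_mul_cancel₀, one_mul]
  · have hS : {b : Set (IrrCharacter (Subgroup.centralizer ({x} : Set G))) |
        IsInducedBlock M (Subgroup.centralizer ({x} : Set G)) b B} =
        ↑((blocks M (Subgroup.centralizer ({x} : Set G))).filter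
          (fun b => IsInducedBlock M (Subgroup.centralizer ({x} : Set G)) b B)) := by
      ext b
      simp only [Set.mem_ofPred_eq, Finset.coe_filter]
      constructor
      · intro h
        exact ⟨mem_blocks.2 h.1, h⟩
      · intro h
        exact h.2
    rw [hS, finsum_mem_coe_finset, Nat.cast_sum, Finset.sum_filter]
  · exact_mod_cast (Nat.card_pos (α := Subgroup.centralizer ({x} : Set G))).ne'

end Cfsg.Agent.S4511
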