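import Cfsg.Statements.S1304
import Mathlib

set_option autoImplicit false
open Cfsg
open scoped commutatorElement

namespace Cfsg.Agent.S1304

/-- Let X be a perfect group and α an automorphism of X with α(x) x⁻¹ central for every x. Then α is the identity. -/
theorem result {X : Type*} [Group X] (hperf : commutator X = ⊤) (α : X ≃* X) (h : ∀ x : X, α x * x⁻¹ ∈ Subgroup.center X) : ∀ x : X, α x = x := by
  -- the fixed-point subgroup of α
  let F : Subgroup X :=
    { carrier := {x | α x = x}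
      mul_mem' := by intro a b ha hb; simp only [Set.mem_ofPred_eq] at *; rw [map_mul, ha, hb]
      one_mem' := by simp
      inv_mem' := by intro a ha; simp only [Set.mem_ofPred_eq] at *; rw [map_inv, ha] }
  have hF : commutator X ≤ F := by
    rw [commutator_eq_closure, Subgroup.closure_le]
    rintro _ ⟨x, y, rfl⟩
    show α ⁅x, y⁆ = ⁅x, y⁆
    have hx := h x
    have hy := h y
    rw [Subgroup.mem_center_iff] at hx hy
    -- α x = zx * x, α y = zy * y with zx, zy central
    set zx := α x * x⁻¹ with hzx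
    set zy := α y * y⁻¹ with hzy
    have ex : α x = zx * x := by rw [hzx]; group
    have ey : α y = zy * y := by rw [hzy]; group
    rw [commutatorElement_def, map_mul, map_mul, map_mul, map_inv, map_inv, ex, ey]
    have c1 : ∀ g, g * zx = zx * g := hx
    have c2 : ∀ g, g * zy = zy * g := hy
    have c1' : ∀ g, g * zx⁻¹ = zx⁻¹ * g := by
      intro g
      have := c1 g⁻¹
      have h2 := congrArg (·⁻¹) this
      simpa using h2.symm
    have c2' : ∀ g, g * zy⁻¹ = zy⁻¹ * g := by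
      intro g
      have := c2 g⁻¹
      have h2 := congrArg (·⁻¹) this
      simpa using h2.symm
    calc zx * x * (zy * y) * (zx * x)⁻¹ * (zy * y)⁻¹
        = zx * x * zy * y * (x⁻¹ * zx⁻¹) * (y⁻¹ * zy⁻¹) := by group
      _ = zx * (x * zy) * y * x⁻¹ * zx⁻¹ * y⁻¹ * zy⁻¹ := by group
      _ = zx * (zy * x) * y * x⁻¹ * zx⁻¹ * y⁻¹ * zy⁻¹ := by rw [c2 x]
      _ = zx * zy * (x * y * x⁻¹ * zx⁻¹) * y⁻¹ * zy⁻¹ := by group
      _ = zx * zy * (zx⁻¹ * (x * y * x⁻¹)) * y⁻¹ * zy⁻¹ := by rw [c1']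
      _ = zx * (zy * zx⁻¹) * (x * y * x⁻¹ * y⁻¹) * zy⁻¹ := by group
      _ = zx * (zx⁻¹ * zy) * (x * y * x⁻¹ * y⁻¹) * zy⁻¹ := by rw [c1' zy]
      _ = zy * (x * y * x⁻¹ * y⁻¹ * zy⁻¹) := by group
      _ = zy * (zy⁻¹ * (x * y * x⁻¹ * y⁻¹)) := by rw [c2']
      _ = x * y * x⁻¹ * y⁻¹ := by group
  intro x
  have hx0 : x ∈ commutator X := by rw [hperf]; exact Subgroup.mem_top x
  exact hF hx0

end Cfsg.Agent.S1304
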