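import Cfsg.Statements.S0132
import Mathlib
import Cfsg.Agent.Lib.L0.FrobeniusPC
import Cfsg.Agent.Lib.H16.NormalComplementDescent

set_option autoImplicit false
open Cfsg

namespace Cfsg.Agent.S0132

open Cfsg.Agent.Lib.H16 Cfsg.Agent.Lib.L0
open scoped commutatorElement

universe u

variable {G : Type u} [Group G] [Finite G] {p : ℕ} [hp : Fact p.Prime]

/-- A `p`-element of order prime to `p` is trivial. -/
theorem eq_one_of_pgroup_of_coprime {Q : Subgroup G} (hQ : IsPGroup p Q) {x : G} (hx : x ∈ Q)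
    (hcop : Nat.Coprime (orderOf x) p) : x = 1 := by
  obtain ⟨j, hj⟩ := IsPGroup.iff_orderOf.mp hQ ⟨x, hx⟩
  rw [Subgroup.orderOf_mk] at hj
  rw [hj] at hcop
  rcases Nat.eq_zero_or_pos j with h0 | h0
  · rw [h0, pow_zero, orderOf_eq_one_iff] at hj
    exact hj
  · exfalso
    have h1 : p ∣ p ^ j := dvd_pow_self p h0.ne'
    have h2 : p ∣ Nat.gcd (p ^ j) p := Nat.dvd_gcd h1 dvd_rfl
    rw [hcop] at h2
    exact hp.out.one_lt.ne' (Nat.dvd_one.mp h2)

/-- The structure of a minimal non-`p`-nilpotent group: `G = Q ⋊ ⟨g⟩`. -/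
theorem structure_lemma (h1 : ¬ Cfsg.HasNormalPComplement p G)
    (h2 : ∀ H : Subgroup G, H ≠ ⊤ → Cfsg.HasNormalPComplement p H) :
    ∃ (Q : Subgroup G) (g : G), IsPGroup p Q ∧ Q.Normal ∧ Nat.Coprime (orderOf g) p ∧
      Q ⊔ Subgroup.zpowers g = ⊤ ∧ g ∉ Subgroup.centralizer (Q : Set G) := by
  have hF : ¬ FrobHyp p G := fun hF => h1 (hasNormalPComplement_of_frobHyp hF)
  unfold FrobHyp at hF
  push Not at hF
  obtain ⟨Q, hQ, g, hgN, hgp, hgC⟩ := hF
  have hconj : ∀ q ∈ Q, g * q * g⁻¹ ∈ Q := fun q hq => (Subgroup.mem_normalizer_iff.mp hgN q).mp hq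
  have htop : Q ⊔ Subgroup.zpowers g = ⊤ := by
    by_contra hne
    set L : Subgroup G := Q ⊔ Subgroup.zpowers g with hL
    obtain ⟨N, hNn, hNp, k, hk⟩ := HasNormalPComplement.exists_normal (h2 L hne)
    have hgL : g ∈ L := (le_sup_right : Subgroup.zpowers g ≤ L) (Subgroup.mem_zpowers g)
    have hg' : (⟨g, hgL⟩ : L) ∈ N := by
      apply mem_of_normal_of_coprime_orderOf N
      rw [hk, Subgroup.orderOf_mk]
      exact (Nat.Coprime.pow_left k hgp.symm)
    apply hgC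
    rw [Subgroup.mem_centralizer_iff]
    intro q hq
    have hqL : q ∈ L := (le_sup_left : Q ≤ L) hq
    -- the commutator lies in N and in Q
    have hc1 : (⟨q, hqL⟩ : L) * ⟨g, hgL⟩ * (⟨q, hqL⟩ : L)⁻¹ * (⟨g, hgL⟩ : L)⁻¹ ∈ N :=
      N.mul_mem (hNn.conj_mem _ hg' _) (N.inv_mem hg')
    have hc2 : q * g * q⁻¹ * g⁻¹ ∈ Q := by
      have : q * g * q⁻¹ * g⁻¹ = q * (g * q⁻¹ * g⁻¹) := by group
      rw [this]
      exact Q.mul_mem hq (hconj _ (Q.inv_mem hq))
    have hord : Nat.Coprime (orderOf (q * g * q⁻¹ * g⁻¹)) p := by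
      have h3 : orderOf (⟨_, hc1⟩ : N) ∣ Nat.card N := orderOf_dvd_natCard _
      rw [Subgroup.orderOf_mk] at h3
      have h4 : orderOf ((⟨q, hqL⟩ : L) * ⟨g, hgL⟩ * (⟨q, hqL⟩ : L)⁻¹ * (⟨g, hgL⟩ : L)⁻¹)
          = orderOf (q * g * q⁻¹ * g⁻¹) := by
        rw [← Subgroup.orderOf_coe]; rfl
      rw [h4] at h3
      have h5 : Nat.Coprime (Nat.card N) p :=
        ((Nat.Prime.coprime_iff_not_dvd hp.out).mpr hNp).symm
      exact Nat.Coprime.coprime_dvd_left h3 h5
    have h6 := eq_one_of_pgroup_of_coprime hQ hc2 hord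
    calc q * g = (q * g * q⁻¹ * g⁻¹) * g * q := by group
      _ = g * q := by rw [h6, one_mul]
  have hQn : Q.Normal := by
    rw [← Subgroup.normalizer_eq_top_iff, eq_top_iff, ← htop, sup_le_iff]
    refine ⟨Subgroup.le_normalizer, ?_⟩
    rw [Subgroup.zpowers_le]
    exact hgN
  exact ⟨Q, g, hQ, hQn, hgp, htop, hgC⟩

/-- In the situation of `structure_lemma`, the index of `Q` is prime to `p`. -/
theorem not_dvd_index (Q : Subgroup G) [hQn : Q.Normal] (g : G)
    (hgp : Nat.Coprime (orderOf g) p) (htop : Q ⊔ Subgroup.zpowers g = ⊤) : ¬ p ∣ Q.index := by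
  intro hd
  have h1 : Q.index = Q.relIndex (Subgroup.zpowers g) := by
    rw [← Subgroup.relIndex_top_right, ← htop, Subgroup.relIndex_sup_left]
  have h2 : Q.relIndex (Subgroup.zpowers g) ∣ Nat.card (Subgroup.zpowers g) :=
    Subgroup.relIndex_dvd_card _ _
  rw [Nat.card_zpowers] at h2
  rw [h1] at hd
  have h3 : p ∣ Nat.gcd (orderOf g) p := Nat.dvd_gcd (hd.trans h2) dvd_rfl
  rw [hgp] at h3
  exact hp.out.one_lt.ne' (Nat.dvd_one.mp h3)

/-- `G / Q` is cyclic. -/
theorem quotient_isCyclic (Q : Subgroup G) [hQn : Q.Normal] (g : G)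
    (htop : Q ⊔ Subgroup.zpowers g = ⊤) : IsCyclic (G ⧸ Q) := by
  refine ⟨⟨(QuotientGroup.mk' Q) g, ?_⟩⟩
  intro y
  obtain ⟨t, rfl⟩ := QuotientGroup.mk'_surjective Q y
  have ht : t ∈ Q ⊔ Subgroup.zpowers g := by rw [htop]; exact Subgroup.mem_top t
  rw [Subgroup.mem_sup_of_normal_left] at ht
  obtain ⟨q, hq, c, hc, rfl⟩ := ht
  obtain ⟨i, rfl⟩ := Subgroup.mem_zpowers_iff.mp hc
  refine ⟨i, ?_⟩
  change (QuotientGroup.mk' Q) g ^ i = (QuotientGroup.mk' Q) (q * g ^ i)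
  rw [map_mul, map_zpow]
  have : (QuotientGroup.mk' Q) q = 1 := by
    rw [QuotientGroup.mk'_apply, QuotientGroup.eq_one_iff]; exact hq
  rw [this, one_mul]


/-- A normal `p`-subgroup of index prime to `p` is the unique Sylow `p`-subgroup. -/
theorem sylow_normal (Q : Subgroup G) [hQn : Q.Normal] (hQ : IsPGroup p Q)
    (hidx : ¬ p ∣ Q.index) (P : Sylow p G) : (P : Subgroup G).Normal := by
  set QS : Sylow p G := hQ.toSylow hidx with hQS
  obtain ⟨x, hx⟩ := MulAction.exists_smul_eq G QS P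
  haveI : (QS : Subgroup G).Normal := by
    rw [hQS, IsPGroup.toSylow_coe]; exact hQn
  rw [← hx, Sylow.smul_eq_of_normal]
  infer_instance

/-- The group `G = Q ⋊ ⟨g⟩` with `g` acting nontrivially on `Q` is not nilpotent. -/
theorem not_nilpotent (Q : Subgroup G) [hQn : Q.Normal] (hQ : IsPGroup p Q) (g : G)
    (hgp : Nat.Coprime (orderOf g) p) (hgC : g ∉ Subgroup.centralizer (Q : Set G)) :
    ¬ Group.IsNilpotent G := by
  intro hnil
  set C : Subgroup G := Subgroup.centralizer (Q : Set G) with hC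
  haveI hCn : C.Normal := by rw [hC]; infer_instance
  have hidx : ∃ k, C.index = p ^ k := by
    refine ⟨_, Nat.eq_prime_pow_of_unique_prime_dvd Subgroup.index_ne_zero_of_finite ?_⟩
    intro r hr hrd
    by_contra hne
    haveI : Fact r.Prime := ⟨hr⟩
    obtain ⟨R⟩ : Nonempty (Sylow r G) := inferInstance
    haveI hRn : (R : Subgroup G).Normal := inferInstance
    have hRC : (R : Subgroup G) ≤ C := by
      intro y hy
      rw [hC, Subgroup.mem_centralizer_iff]
      intro x hx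
      have h1 : x * y * x⁻¹ * y⁻¹ ∈ Q := by
        have : x * y * x⁻¹ * y⁻¹ = x * (y * x⁻¹ * y⁻¹) := by group
        rw [this]
        exact Q.mul_mem hx (hQn.conj_mem _ (Q.inv_mem hx) y)
      have h2 : x * y * x⁻¹ * y⁻¹ ∈ (R : Subgroup G) :=
        (R : Subgroup G).mul_mem (hRn.conj_mem _ hy x) ((R : Subgroup G).inv_mem hy)
      have hdisj : Disjoint Q (R : Subgroup G) :=
        IsPGroup.disjoint_of_ne p r (fun h => hne h.symm) Q R hQ R.2
      have h3 : x * y * x⁻¹ * y⁻¹ ∈ Q ⊓ (R : Subgroup G) := ⟨h1, h2⟩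
      rw [hdisj.eq_bot, Subgroup.mem_bot] at h3
      calc x * y = (x * y * x⁻¹ * y⁻¹) * y * x := by group
        _ = y * x := by rw [h3, one_mul]
    exact R.not_dvd_index (hrd.trans (Subgroup.index_dvd_of_le hRC))
  obtain ⟨k, hk⟩ := hidx
  apply hgC
  apply mem_of_normal_of_coprime_orderOf C
  rw [hk]
  exact Nat.Coprime.pow_left k hgp.symm

/-- Proper subgroups of `G = Q ⋊ ⟨g⟩` with a normal `p`-complement are nilpotent. -/
theorem subgroup_nilpotent (Q : Subgroup G) [hQn : Q.Normal] (hQ : IsPGroup p Q)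
    (hidx : ¬ p ∣ Q.index) (g : G) (htop : Q ⊔ Subgroup.zpowers g = ⊤)
    (H : Subgroup G) (hH : Cfsg.HasNormalPComplement p H) : Group.IsNilpotent H := by
  obtain ⟨N, hNn, hNp, k, hk⟩ := HasNormalPComplement.exists_normal hH
  set QH : Subgroup H := Q.subgroupOf H with hQH
  haveI hQHn : QH.Normal := hQn.subgroupOf H
  have hQHp : IsPGroup p QH := hQ.comap_subtype
  have hNcop : Nat.Coprime (Nat.card N) p :=
    ((Nat.Prime.coprime_iff_not_dvd hp.out).mpr hNp).symm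
  have hdisj : QH ⊓ N = ⊥ := by
    rw [eq_bot_iff]
    intro x hx
    obtain ⟨hx1, hx2⟩ := Subgroup.mem_inf.mp hx
    rw [Subgroup.mem_bot]
    apply eq_one_of_pgroup_of_coprime hQHp hx1
    have h3 : orderOf (⟨x, hx2⟩ : N) ∣ Nat.card N := orderOf_dvd_natCard _
    rw [Subgroup.orderOf_mk] at h3
    exact Nat.Coprime.coprime_dvd_left h3 hNcop
  have comm : ∀ (q : QH) (n : N), Commute (QH.subtype q) (N.subtype n) := by
    intro q n
    have h1 : (q : H) * (n : H) * (q : H)⁻¹ * (n : H)⁻¹ ∈ QH := by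
      have : (q : H) * (n : H) * (q : H)⁻¹ * (n : H)⁻¹ = (q : H) * ((n : H) * (q : H)⁻¹ * (n : H)⁻¹) := by
        group
      rw [this]
      exact QH.mul_mem q.2 (hQHn.conj_mem _ (QH.inv_mem q.2) _)
    have h2 : (q : H) * (n : H) * (q : H)⁻¹ * (n : H)⁻¹ ∈ N :=
      N.mul_mem (hNn.conj_mem _ n.2 _) (N.inv_mem n.2)
    have h3 : (q : H) * (n : H) * (q : H)⁻¹ * (n : H)⁻¹ ∈ QH ⊓ N := ⟨h1, h2⟩
    rw [hdisj, Subgroup.mem_bot] at h3
    change (q : H) * (n : H) = (n : H) * (q : H)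
    calc (q : H) * (n : H) = ((q : H) * (n : H) * (q : H)⁻¹ * (n : H)⁻¹) * (n : H) * (q : H) := by
          group
      _ = (n : H) * (q : H) := by rw [h3, one_mul]
  haveI : IsCyclic (G ⧸ Q) := quotient_isCyclic Q g htop
  have hNcyc : IsCyclic N := by
    let f : N →* G ⧸ Q := (QuotientGroup.mk' Q).comp (H.subtype.comp N.subtype)
    apply isCyclic_of_injective f
    rw [injective_iff_map_eq_one]
    intro n hn
    have h1 : (((n : H) : G)) ∈ Q := by
      have : (QuotientGroup.mk' Q) (((n : H) : G)) = 1 := hn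
      rwa [QuotientGroup.mk'_apply, QuotientGroup.eq_one_iff] at this
    have h2 : (n : H) ∈ QH ⊓ N := ⟨Subgroup.mem_subgroupOf.mpr h1, n.2⟩
    rw [hdisj, Subgroup.mem_bot] at h2
    exact Subtype.ext h2
  letI : CommGroup N := IsCyclic.commGroup
  haveI : Group.IsNilpotent N := CommGroup.isNilpotent
  haveI : Group.IsNilpotent QH := hQHp.isNilpotent
  let φ : QH × N →* H := MonoidHom.noncommCoprod QH.subtype N.subtype comm
  apply Group.nilpotent_of_surjective φ
  have hsup : QH ⊔ N = ⊤ := by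
    rw [← Subgroup.index_eq_one]
    have h1 : (QH ⊔ N).index ∣ N.index := Subgroup.index_dvd_of_le le_sup_right
    have h2 : (QH ⊔ N).index ∣ QH.index := Subgroup.index_dvd_of_le le_sup_left
    have h3 : QH.index ∣ Q.index := by
      have : QH.index = Q.relIndex H := rfl
      rw [this]
      exact Subgroup.relIndex_dvd_index_of_normal Q H
    rw [hk] at h1
    obtain ⟨j, hj, hj2⟩ := (Nat.dvd_prime_pow hp.out).mp h1
    rcases Nat.eq_zero_or_pos j with h0 | h0
    · rw [hj2, h0, pow_zero]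
    · exfalso
      apply hidx
      have h4 : p ∣ (QH ⊔ N).index := by rw [hj2]; exact dvd_pow_self p h0.ne'
      exact h4.trans (h2.trans h3)
  intro h
  have hh : h ∈ QH ⊔ N := by rw [hsup]; exact Subgroup.mem_top h
  rw [Subgroup.mem_sup_of_normal_left] at hh
  obtain ⟨q, hq, n, hn, rfl⟩ := hh
  exact ⟨(⟨q, hq⟩, ⟨n, hn⟩), rfl⟩


/-- A minimal non-p-nilpotent finite group is a minimal non-nilpotent group with a normal Sylow p-subgroup. -/
theorem result {G : Type*} [Group G] [Finite G] {p : ℕ} [Fact p.Prime] (h1 : ¬ Cfsg.HasNormalPComplement p G) (h2 : ∀ H : Subgroup G, H ≠ ⊤ → Cfsg.HasNormalPComplement p H) : (∀ H : Subgroup G, H ≠ ⊤ → Group.IsNilpotent H) ∧ ¬ Group.IsNilpotent G ∧ ∀ P : Sylow p G, (P : Subgroup G).Normal := by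
  obtain ⟨Q, g, hQ, hQn, hgp, htop, hgC⟩ := structure_lemma h1 h2
  haveI := hQn
  have hidx : ¬ p ∣ Q.index := not_dvd_index Q g hgp htop
  exact ⟨fun H hH => subgroup_nilpotent Q hQ hidx g htop H (h2 H hH),
    not_nilpotent Q hQ g hgp hgC, fun P => sylow_normal Q hQ hidx P⟩

end Cfsg.Agent.S0132
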