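import Cfsg.Statements.S0707
import Mathlib

set_option autoImplicit false
universe u
open Cfsg

namespace Cfsg.Agent.S0707

theorem prime_card_of_isCoatom_bot {G : Type*} [Group G] (h : IsCoatom (⊥ : Subgroup G)) :
    (Nat.card G).Prime := by
  have hnt : Nontrivial G := by
    by_contra hn
    rw [not_nontrivial_iff_subsingleton] at hn
    exact h.1 (Subsingleton.elim _ _)
  obtain ⟨g, hg⟩ := exists_ne (1 : G)
  have hz : Subgroup.zpowers g = ⊤ := by
    apply h.2
    rw [bot_lt_iff_ne_bot]
    intro hb
    apply hg
    rw [← Subgroup.zpowers_eq_bot]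
    exact hb
  have hcyc : IsCyclic G := ⟨g, fun x => by
    have : x ∈ Subgroup.zpowers g := by rw [hz]; trivial
    exact this⟩
  have hsimple : IsSimpleGroup G := by
    refine ⟨fun H _ => ?_⟩
    by_cases hH : H = ⊥
    · left; exact hH
    · right
      apply h.2
      rw [bot_lt_iff_ne_bot]
      exact hH
  exact Group.is_simple_iff_prime_card.mp hsimple

theorem result {α : Type*} (G : Subgroup (Equiv.Perm α)) [MulAction.IsPreprimitive G α] (h : ¬ (Nat.card α).Prime ∨ ∃ a : α, MulAction.stabilizer G a ≠ ⊥) {a b : α} (hab : a ≠ b) : MulAction.stabilizer G a ≠ MulAction.stabilizer G b := by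
  intro heq
  have hntα : Nontrivial α := ⟨⟨a, b, hab⟩⟩
  obtain ⟨g, hg⟩ := MulAction.exists_smul_eq G a b
  have hco : IsCoatom (MulAction.stabilizer G a) := MulAction.IsPreprimitive.isCoatom_stabilizer_of_isPreprimitive G a
  have hgn : g ∈ Subgroup.normalizer ((MulAction.stabilizer G a : Subgroup G) : Set G) := by
    have h1 := MulAction.stabilizer_smul_eq_stabilizer_map_conj g a
    rw [hg, ← heq] at h1
    rw [Subgroup.mem_normalizer_iff]
    intro x
    constructor
    · intro hx
      rw [h1]
      exact ⟨x, hx, rfl⟩
    · intro hx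
      rw [h1] at hx
      obtain ⟨y, hy, hyx⟩ := hx
      simp only [MulEquiv.toMonoidHom_eq_coe, MonoidHom.coe_coe, MulAut.conj_apply] at hyx
      have : y = x := by
        have := congrArg (fun z => g⁻¹ * z * g) hyx
        simpa [mul_assoc] using this
      rw [← this]; exact hy
  have hgs : g ∉ MulAction.stabilizer G a := by
    intro hgs
    rw [MulAction.mem_stabilizer_iff] at hgs
    exact hab (hgs.symm.trans hg)
  have hN : Subgroup.normalizer ((MulAction.stabilizer G a : Subgroup G) : Set G) = ⊤ := by
    apply hco.2
    apply lt_of_le_of_ne Subgroup.le_normalizer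
    intro hh
    apply hgs
    rw [hh]; exact hgn
  have hnormal : (MulAction.stabilizer G a).Normal := Subgroup.normalizer_eq_top_iff.mp hN
  have hall : ∀ x : α, MulAction.stabilizer G x = MulAction.stabilizer G a := by
    intro x
    obtain ⟨k, hk⟩ := MulAction.exists_smul_eq G a x
    rw [← hk, MulAction.stabilizer_smul_eq_stabilizer_map_conj]
    ext y
    constructor
    · rintro ⟨z, hz, rfl⟩
      exact hnormal.conj_mem z hz k
    · intro hy
      refine ⟨k⁻¹ * y * k, ?_, ?_⟩
      · have := hnormal.conj_mem y hy k⁻¹
        simpa using this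
      · simp [mul_assoc]
  have hbot : MulAction.stabilizer G a = ⊥ := by
    rw [Subgroup.eq_bot_iff_forall]
    intro y hy
    apply Subtype.ext
    ext x
    have : y ∈ MulAction.stabilizer G x := by rw [hall x]; exact hy
    rw [MulAction.mem_stabilizer_iff] at this
    exact this
  rcases h with h | ⟨a', ha'⟩
  · apply h
    rw [hbot] at hco
    have hp := prime_card_of_isCoatom_bot hco
    have hbij : Function.Bijective (fun g : G => g • a) := by
      constructor
      · intro g1 g2 h12
        have : g1⁻¹ * g2 ∈ MulAction.stabilizer G a := by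
          rw [MulAction.mem_stabilizer_iff, mul_smul]
          simp only at h12
          rw [← h12, inv_smul_smul]
        rw [hbot, Subgroup.mem_bot] at this
        exact inv_mul_eq_one.mp this
      · intro y
        exact MulAction.exists_smul_eq G a y
    rw [← Nat.card_congr (Equiv.ofBijective _ hbij)]
    exact hp
  · apply ha'
    rw [hall a', hbot]

end Cfsg.Agent.S0707
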