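import Cfsg.Statements.S1360
import Cfsg.Agent.Lib.H20.BGZ5
import Cfsg.Agent.S1416
import Cfsg.Agent.S1417

set_option autoImplicit false
open Cfsg

namespace Cfsg.Agent.S1360

/-- Let G be a minimal simple group of odd order and M a maximal subgroup with standard factorisation M = K U M_σ. Then U has a subgroup U₀ of the same exponent as U such that no non-identity element of U₀ centralizes a non-identity element of M_σ. -/
theorem result {G : Type*} [Group G] [Finite G] (hG : Cfsg.IsMinSimpleOddOrder G)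
    (M : Subgroup G) (hM : IsCoatom M) (K U : Subgroup G) (hKU : Cfsg.IsSigmaDecomposition M K U) :
    ∃ U₀ : Subgroup G, U₀ ≤ U ∧ Monoid.exponent U₀ = Monoid.exponent U ∧ ∀ u ∈ U₀, u ∈ Cfsg.sigmaHat M → u = 1 := by
  obtain ⟨-, U₀, hU₀U, hexp, hU₀⟩ := Cfsg.Agent.Lib.H20.BGZ.conclU hG
    (fun M hM p _ A h1 h2 h3 => (Cfsg.Agent.S1416.result hG M hM p A ⟨h1, h2, h3⟩).1)
    (fun M hM p _ hp A hA => Cfsg.Agent.S1417.result hG M hM p hp A hA) hM hKU
  refine ⟨U₀, hU₀U, hexp, ?_⟩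
  rintro u hu ⟨-, y, hy, hy1, huy⟩
  by_contra hu1
  apply hy1
  have hmem : y ∈ Cfsg.sigmaCore M ⊓ Subgroup.centralizer ({u} : Set G) := by
    refine Subgroup.mem_inf.2 ⟨hy, ?_⟩
    rw [Subgroup.mem_centralizer_singleton_iff]
    exact huy.symm
  rw [hU₀ u hu hu1] at hmem
  exact Subgroup.mem_bot.1 hmem

end Cfsg.Agent.S1360
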