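import Cfsg.Statements.S1357
import Cfsg.Agent.Lib.H10.BG152i
import Cfsg.Agent.S1373

set_option autoImplicit false
open Cfsg

namespace Cfsg.Agent.S1357

theorem result {G : Type*} [Group G] [Finite G] (hG : Cfsg.IsMinSimpleOddOrder G)
    (M : Subgroup G) (hM : IsCoatom M) (K U : Subgroup G) (hKU : Cfsg.IsSigmaDecomposition M K U) (hne : Cfsg.fittingHallOf M ≠ Cfsg.sigmaCore M) :
    U = ⊥ ∧ Cfsg.IsTISubset (Cfsg.fittingOf M : Set G) ∧ (Nat.card K).Prime := by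
  have h73 : Cfsg.Agent.Lib.H10.BG152.Hyp1373 G := fun M hM K U hKU hK1 hU =>
    Cfsg.Agent.S1373.result hG M hM K U hKU hK1 hU
  exact Cfsg.Agent.Lib.H10.BG152.s1357_of_hyp hG h73 M hM K U hKU hne

end Cfsg.Agent.S1357
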