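import Cfsg.Statements.S1362
import Cfsg.Agent.Lib.H20.BGY1
import Cfsg.Agent.Lib.H1.Schmidt
import Cfsg.Agent.S1416
import Cfsg.Agent.S1417

set_option autoImplicit false
open Cfsg
open Pointwise

namespace Cfsg.Agent.S1362

open Cfsg.Agent.Lib.H16.BG in
/-- the `σ(M)'`-part `x ^ |M_σ|` of an element of `A(M) \ M_σ` has `M` as the unique maximal subgroup
containing its centralizer. -/
theorem key {G : Type*} [Group G] [Finite G] (hG : Cfsg.IsMinSimpleOddOrder G)
    (M : Subgroup G) (hM : IsCoatom M) (K U : Subgroup G) (hKU : Cfsg.IsSigmaDecomposition M K U)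
    (x : G) (hx : x ∈ Cfsg.sigmaA M U \ (Cfsg.sigmaCore M : Set G)) :
    Subgroup.centralizer ((Subgroup.zpowers (x ^ Nat.card (Cfsg.sigmaCore M)) : Subgroup G) : Set G) ≤ M ∧
      ∀ L : Subgroup G, IsCoatom L →
        Subgroup.centralizer ((Subgroup.zpowers (x ^ Nat.card (Cfsg.sigmaCore M)) : Subgroup G) : Set G) ≤ L →
          L = M := by
  have hU3 := uniq3 hG
  obtain ⟨⟨⟨hxM, y₀, hy₀σ, hy₀1, hxy₀⟩, hxN⟩, hxσ⟩ := hx
  set n := Nat.card (Cfsg.sigmaCore M) with hn
  have hhall := (Cfsg.Agent.Lib.H20.BGS.sigma_core_hall hG hU3 hM).1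
  have hnormσ := Cfsg.Agent.Lib.H20.BGS.le_normalizer_sigmaCore M
  -- (i) `x ^ n ∉ M_σ`
  have hy1 : x ^ n ∉ Cfsg.sigmaCore M := by
    intro hy
    have h1 : (x ^ n) ^ n = 1 := by
      have h2 : ((⟨x ^ n, hy⟩ : ↥(Cfsg.sigmaCore M)) ^ n : ↥(Cfsg.sigmaCore M)) = 1 :=
        pow_card_eq_one'
      have h3 := congrArg Subtype.val h2
      rw [Subgroup.coe_pow, Subgroup.coe_one] at h3
      exact h3
    have h2 : x ^ (n * n) = 1 := by rw [pow_mul]; exact h1
    have h3 : orderOf x ∣ n * n := orderOf_dvd_of_pow_eq_one h2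
    have h4 : Cfsg.Agent.Lib.H19.IsPiCard (sigma M) (Nat.card (Subgroup.zpowers x)) := by
      intro p hp hd
      rw [Nat.card_zpowers] at hd
      have h5 : p ∣ n := by
        rcases (Nat.Prime.dvd_mul hp).1 (hd.trans h3) with h | h <;> exact h
      exact hhall.2.1 p hp h5
    have h6 : Subgroup.zpowers x ≤ Cfsg.sigmaCore M :=
      Cfsg.Agent.Lib.H20.BGY.le_of_normal_hall hhall hnormσ
        (by rw [Subgroup.zpowers_le]; exact hxM) h4
    exact hxσ (h6 (Subgroup.mem_zpowers x))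
  -- (ii) the order of `x ^ n` divides `|U|`
  have hUσ : U ≤ Subgroup.normalizer ((Cfsg.sigmaCore M : Subgroup G) : Set G) :=
    hKU.compl.1.trans hnormσ
  have hdvd : orderOf (x ^ n) ∣ Nat.card U := by
    have h1 : Nat.card (U ⊔ Cfsg.sigmaCore M : Subgroup G) ∣ Nat.card U * n :=
      Cfsg.Agent.Lib.H19.card_sup_dvd_mul_of_le_normalizer hUσ
    have h2 : orderOf x ∣ Nat.card U * n := (Subgroup.orderOf_dvd_natCard _ hxN).trans h1
    have hn0 : 0 < n := Nat.card_pos
    rw [orderOf_pow' x hn0.ne']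
    have hg : 0 < Nat.gcd (orderOf x) n := Nat.gcd_pos_of_pos_right _ hn0
    have hcop : (orderOf x / Nat.gcd (orderOf x) n).Coprime (n / Nat.gcd (orderOf x) n) :=
      Nat.coprime_div_gcd_div_gcd hg
    have h3 : orderOf x / Nat.gcd (orderOf x) n ∣ Nat.card U * (n / Nat.gcd (orderOf x) n) := by
      obtain ⟨a, ha⟩ := Nat.gcd_dvd_left (orderOf x) n
      obtain ⟨b, hb⟩ := Nat.gcd_dvd_right (orderOf x) n
      have e1 : orderOf x / Nat.gcd (orderOf x) n = a := Nat.div_eq_of_eq_mul_right hg ha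
      have e2 : n / Nat.gcd (orderOf x) n = b := Nat.div_eq_of_eq_mul_right hg hb
      rw [e1, e2]
      have h4 : Nat.gcd (orderOf x) n * a ∣ Nat.gcd (orderOf x) n * (Nat.card U * b) := by
        have : Nat.gcd (orderOf x) n * (Nat.card U * b) = Nat.card U * n := by
          calc Nat.gcd (orderOf x) n * (Nat.card U * b)
              = Nat.card U * (Nat.gcd (orderOf x) n * b) := by ring
            _ = Nat.card U * n := by rw [← hb]
        rw [this, ← ha]
        exact h2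
      exact Nat.dvd_of_mul_dvd_mul_left hg h4
    exact hcop.dvd_of_dvd_mul_right h3
  have hYM : Subgroup.zpowers (x ^ n) ≤ M := by
    rw [Subgroup.zpowers_le]; exact M.pow_mem hxM n
  have hY1 : Subgroup.zpowers (x ^ n) ≠ ⊥ := by
    intro h
    rw [Subgroup.zpowers_eq_bot] at h
    rw [h] at hy1
    exact hy1 (Subgroup.one_mem _)
  have hYπ : ∀ r : ℕ, r.Prime → r ∣ Nat.card (Subgroup.zpowers (x ^ n)) →
      r ∉ sigma M ∧ r ∉ kappa M := by
    intro r hr hd
    rw [Nat.card_zpowers] at hd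
    exact Cfsg.Agent.Lib.H7.BG14.not_mem_sigma_kappa_of_isSigmaDecomposition hG hM hKU hr
      (hd.trans hdvd)
  have hYc : Cfsg.sigmaCore M ⊓
      Subgroup.centralizer ((Subgroup.zpowers (x ^ n) : Subgroup G) : Set G) ≠ ⊥ := by
    intro h
    have hmem : y₀ ∈ Cfsg.sigmaCore M ⊓
        Subgroup.centralizer ((Subgroup.zpowers (x ^ n) : Subgroup G) : Set G) := by
      refine Subgroup.mem_inf.2 ⟨hy₀σ, ?_⟩
      rw [Subgroup.mem_centralizer_iff]
      intro h' hh'
      obtain ⟨k, rfl⟩ := Subgroup.mem_zpowers_iff.1 hh'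
      have hc : Commute x y₀ := hxy₀
      exact ((hc.pow_left n).zpow_left k).eq
    rw [h] at hmem
    exact hy₀1 (Subgroup.mem_bot.1 hmem)
  have h := Cfsg.Agent.Lib.H7.BG14.nonregular_structure hG
    (fun M hM p _ A h1 h2 h3 => (Cfsg.Agent.S1416.result hG M hM p A ⟨h1, h2, h3⟩).1)
    (fun M hM p _ hp A hA => Cfsg.Agent.S1417.result hG M hM p hp A hA)
    hM hYM hY1 hYπ hYc
  exact h.2.2

open Cfsg.Agent.Lib.H16.BG in
/-- `M` normalizes `A(M) \ M_σ`. -/
theorem le_normalizer {G : Type*} [Group G] [Finite G] (hG : Cfsg.IsMinSimpleOddOrder G)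
    (M : Subgroup G) (hM : IsCoatom M) (K U : Subgroup G) (hKU : Cfsg.IsSigmaDecomposition M K U) :
    M ≤ Subgroup.normalizer (Cfsg.sigmaA M U \ (Cfsg.sigmaCore M : Set G)) := by
  have hκ := Cfsg.Agent.Lib.H7.BG13t.kappa_subset_tau1 hG hM hKU.cyclic hKU.hall
  obtain ⟨N, hN, hcN, hnorm⟩ := Cfsg.Agent.Lib.H20.BGY.exists_normal_hall_kappa_compl hG hM hκ
  have hUN : U ⊔ sigmaCore M = N :=
    Cfsg.Agent.Lib.H20.BGY.sup_sigmaCore_eq hG hM hKU hN hcN hnorm
  have hnormσ := Cfsg.Agent.Lib.H20.BGS.le_normalizer_sigmaCore M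
  have key : ∀ m ∈ M, ∀ z ∈ Cfsg.sigmaA M U \ (Cfsg.sigmaCore M : Set G),
      m * z * m⁻¹ ∈ Cfsg.sigmaA M U \ (Cfsg.sigmaCore M : Set G) := by
    intro m hm z hz
    obtain ⟨⟨⟨hzM, y₀, hy₀σ, hy₀1, hzy₀⟩, hzN⟩, hzσ⟩ := hz
    refine ⟨⟨⟨M.mul_mem (M.mul_mem hm hzM) (M.inv_mem hm), m * y₀ * m⁻¹, ?_, ?_, ?_⟩, ?_⟩, ?_⟩
    · exact ((Subgroup.mem_normalizer_iff.1 (hnormσ hm)) y₀).1 hy₀σ
    · intro h
      apply hy₀1
      have : y₀ = m⁻¹ * (m * y₀ * m⁻¹) * m := by group
      rw [this, h]; group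
    · calc m * z * m⁻¹ * (m * y₀ * m⁻¹) = m * (z * y₀) * m⁻¹ := by group
        _ = m * (y₀ * z) * m⁻¹ := by rw [hzy₀]
        _ = m * y₀ * m⁻¹ * (m * z * m⁻¹) := by group
    · rw [hUN] at hzN ⊢
      exact ((Subgroup.mem_normalizer_iff.1 (hnorm hm)) z).1 hzN
    · intro h
      apply hzσ
      have h2 := ((Subgroup.mem_normalizer_iff.1 (hnormσ hm)) z).2 h
      exact h2
  intro m hm
  rw [Subgroup.mem_set_normalizer_iff]
  intro z
  constructor
  · exact key m hm z
  · intro h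
    have := key m⁻¹ (M.inv_mem hm) _ h
    have e : m⁻¹ * (m * z * m⁻¹) * m⁻¹⁻¹ = z := by group
    rw [e] at this
    exact this

/-- Let G be a minimal simple group of odd order and M a maximal subgroup with standard factorisation M = K U M_σ, and let A(M) be the set of elements of U M_σ centralizing some non-identity element of M_σ. Then A(M) with M_σ removed is a TI-subset of G. -/
theorem result {G : Type*} [Group G] [Finite G] (hG : Cfsg.IsMinSimpleOddOrder G)
    (M : Subgroup G) (hM : IsCoatom M) (K U : Subgroup G) (hKU : Cfsg.IsSigmaDecomposition M K U) :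
    Cfsg.IsTISubset (Cfsg.sigmaA M U \ (Cfsg.sigmaCore M : Set G)) := by
  intro g hg x hx hgx
  exfalso
  apply hg
  apply le_normalizer hG M hM K U hKU
  obtain ⟨h1, h2⟩ := key hG M hM K U hKU x hx
  obtain ⟨h3, h4⟩ := key hG M hM K U hKU _ hgx
  set n := Nat.card (Cfsg.sigmaCore M) with hn
  have hMne : M ≠ ⊥ := by
    intro h
    have : x ∈ M := hx.1.1.1
    rw [h, Subgroup.mem_bot] at this
    apply hx.2
    rw [this]
    exact Subgroup.one_mem _
  have hNM : Subgroup.normalizer (M : Set G) = M :=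
    Cfsg.Agent.Lib.H16.BG.normalizer_eq_of_coatom hG hM le_rfl hMne Subgroup.le_normalizer
  have hconj : MulAut.conj g • M = M := by
    apply h4 _ (Cfsg.Agent.Lib.H1.isCoatom_conj_smul hM g)
    intro z hz
    rw [Subgroup.mem_pointwise_smul_iff_inv_smul_mem]
    apply h1
    rw [Subgroup.mem_centralizer_iff] at hz ⊢
    intro w hw
    obtain ⟨k, rfl⟩ := Subgroup.mem_zpowers_iff.1 hw
    have h5 : (g * x * g⁻¹) ^ n = g * x ^ n * g⁻¹ := conj_pow
    have h6 : ((g * x * g⁻¹) ^ n) ^ k * z = z * ((g * x * g⁻¹) ^ n) ^ k :=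
      hz _ (Subgroup.zpow_mem_zpowers _ k)
    rw [h5, conj_zpow] at h6
    simp only [MulAut.smul_def, map_inv, MulAut.conj_inv_apply]
    calc (x ^ n) ^ k * (g⁻¹ * z * g) = g⁻¹ * (g * (x ^ n) ^ k * g⁻¹ * z) * g := by group
      _ = g⁻¹ * (z * (g * (x ^ n) ^ k * g⁻¹)) * g := by rw [h6]
      _ = g⁻¹ * z * g * (x ^ n) ^ k := by group
  rw [← hNM, Subgroup.mem_normalizer_iff]
  intro z
  have e1 : ∀ w ∈ M, g * w * g⁻¹ ∈ M := by
    intro w hw
    have : g * w * g⁻¹ ∈ MulAut.conj g • M :=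
      Subgroup.mem_pointwise_smul_iff_inv_smul_mem.2 (by
        simp only [MulAut.smul_def, map_inv, MulAut.conj_inv_apply]
        have : g⁻¹ * (g * w * g⁻¹) * g = w := by group
        rw [this]; exact hw)
    rw [hconj] at this
    exact this
  constructor
  · exact e1 z
  · intro h
    rw [← hconj, Subgroup.mem_pointwise_smul_iff_inv_smul_mem] at h
    simp only [MulAut.smul_def, MulAut.conj_inv_apply] at h
    have e : g⁻¹ * (g * z * g⁻¹) * g = z := by group
    rw [e] at h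
    exact h

end Cfsg.Agent.S1362
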