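import Cfsg.Statements.S1354
import Cfsg.Agent.Lib.H7.BG14u

set_option autoImplicit false
open Cfsg

namespace Cfsg.Agent.S1354

/-- Let G be a minimal simple group of odd order, M a maximal subgroup and K a cyclic Hall κ(M)-subgroup of M, and put K* = M_σ ∩ C_G(K). Then K* ≠ 1, and if K ≠ 1 then for every non-identity k ∈ K the centralizer C_M(k) is the subgroup generated by K and K* (an internal direct product, as K ∩ M_σ = 1 and K* centralizes K). -/
theorem result {G : Type*} [Group G] [Finite G] (hG : Cfsg.IsMinSimpleOddOrder G)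
    (M : Subgroup G) (hM : IsCoatom M) (K : Subgroup G)
    (hKc : IsCyclic K) (hK : Cfsg.IsPiHallOf (Cfsg.kappa M) K M) :
    Cfsg.sigmaCore M ⊓ Subgroup.centralizer (K : Set G) ≠ ⊥ ∧
      (K ≠ ⊥ → ∀ k ∈ K, k ≠ 1 →
        M ⊓ Subgroup.centralizer ({k} : Set G) = K ⊔ (Cfsg.sigmaCore M ⊓ Subgroup.centralizer (K : Set G))) := by
  refine ⟨?_, ?_⟩
  · by_cases hK1 : K = ⊥
    · -- `K = 1`: `M_σ ≠ 1`
      have h1 : sigmaCore M ≠ ⊥ := Cfsg.Agent.Lib.H8.BG12.sigmaCore_ne_bot' hG hM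
      intro hbot
      apply h1
      rw [eq_bot_iff, ← hbot]
      refine le_inf le_rfl ?_
      rw [hK1]
      intro x _
      rw [Subgroup.mem_centralizer_iff]
      intro z hz
      have : z = 1 := Subgroup.mem_bot.1 hz
      rw [this]; simp
    · obtain ⟨p, hp, X, hXK, hXc⟩ := Cfsg.Agent.Lib.H7.BG14u.exists_le_card_prime hK1
      have h1 := Cfsg.Agent.Lib.H7.BG14u.sigmaCore_inf_centralizer_ne_bot hG hM hK hXK hp hXc
      obtain ⟨E, hE, hKE⟩ := Cfsg.Agent.Lib.H19.BG13.exists_compl_ge hG hM hK.1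
        (fun q hq hd => (hK.2.1 q hq hd).2.2.1)
      have hτ : ∀ q : ℕ, q.Prime → q ∣ Nat.card K → q ∈ tau1 M := fun q hq hd =>
        Cfsg.Agent.Lib.H7.BG13t.mem_tau1_of_mem_kappa hG hM hKc hK (hK.2.1 q hq hd)
      have h2 := Cfsg.Agent.Lib.H7.BG14t.sigmaCore_inf_centralizer_le_of_cyclic_tau1 hG hM hE hKE
        hKc hτ hXK hp hXc
      intro hbot
      apply h1
      rw [eq_bot_iff, ← hbot]
      exact le_inf inf_le_left h2
  · intro _ k hk hk1
    exact Cfsg.Agent.Lib.H7.BG14u.inf_centralizer_singleton_eq hG hM hKc hK hk hk1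

end Cfsg.Agent.S1354
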