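import Cfsg.Statements.S1449
-- import your own Cfsg.Agent.* helpers here
import Mathlib
import Cfsg.Agent.Lib.H1.FpfAction
import Cfsg.Agent.Lib.H16.RankTwoD

set_option autoImplicit false
open Cfsg

namespace Cfsg.Agent.S1449

/-- Let G be a finite group, p an odd prime, R a p-subgroup with no elementary abelian subgroup of order p ^ 3, and A a solvable subgroup of odd order normalizing R with A ∩ C_G(R) = 1. Then the derived subgroup [A, A] is a p-group. -/
theorem result {G : Type*} [Group G] [Finite G] (p : ℕ) [Fact p.Prime] (hp : p ≠ 2) (R A : Subgroup G) (hR : IsPGroup p R) (hr : Cfsg.PRankLE p 2 R)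
    (hA : (A ≤ Subgroup.normalizer (R : Set G))) (hAs : Group.IsSolvable A) (hAodd : Odd (Nat.card A)) (hfaith : A ⊓ Subgroup.centralizer (R : Set G) = ⊥) :
    IsPGroup p ↥⁅A, A⁆ := by
  classical
  have hsA : Group.IsSolvable ↥A := hAs
  let ρ : ↥A →* MulAut ↥R := Cfsg.Agent.Lib.H1.conjAutHom hA
  have hker : ρ.ker = ⊥ := by
    rw [eq_bot_iff]
    intro a ha
    rw [Subgroup.mem_bot]
    have ha' : ρ a = 1 := MonoidHom.mem_ker.mp ha
    have hcent : (a : G) ∈ Subgroup.centralizer (R : Set G) := by
      rw [Subgroup.mem_centralizer_iff]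
      intro r hr'
      have h1 := congrArg (fun β : MulAut ↥R => ((β ⟨r, hr'⟩ : ↥R) : G)) ha'
      simp only [MulAut.one_apply] at h1
      have h2 : (a : G) * r * (a : G)⁻¹ = r := h1
      calc r * (a : G) = ((a : G) * r * (a : G)⁻¹) * (a : G) := by rw [h2]
        _ = (a : G) * r := by group
    have hmem : (a : G) ∈ A ⊓ Subgroup.centralizer (R : Set G) := ⟨a.2, hcent⟩
    rw [hfaith, Subgroup.mem_bot] at hmem
    exact Subtype.ext hmem
  have hkerp : IsPGroup p ρ.ker := by
    rw [hker]
    exact IsPGroup.of_bot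
  have hmain : IsPGroup p ↥(commutator ↥A) :=
    Cfsg.Agent.Lib.H16.RankTwo.isPGroup_commutator_of_action hp hR hr hsA hAodd ρ hkerp
  have hmap : (commutator ↥A).map A.subtype = ⁅A, A⁆ := by
    rw [commutator_def, Subgroup.map_commutator, ← MonoidHom.range_eq_map, Subgroup.range_subtype]
  rw [← hmap]
  exact hmain.map A.subtype

end Cfsg.Agent.S1449
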