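import Cfsg.Statements.S4089
import Cfsg.Agent.Lib.H15.PCoreOf
import Cfsg.Agent.Lib.H15.Conj
import Cfsg.Agent.Lib.H3.SubnormalP
import Cfsg.Agent.Lib.H14.SubnClosure
-- import your own Cfsg.Agent.* helpers here

set_option autoImplicit false
open Cfsg

namespace Cfsg.Agent.S4089
open Cfsg.Agent.Lib.H15
open Cfsg.Agent.Lib.H1

variable {G : Type*} [Group G] [Finite G] {p : ℕ} [Fact p.Prime]

/-- a `p`-subgroup `H` of a `p`-group `R` normalized by `K ≥ H` is subnormal in `K`. -/
theorem subn_of_le_normalizer {H R K : Subgroup G} (hHR : H ≤ R) (hR : IsPGroup p R)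
    (hHK : H ≤ K) (hKN : K ≤ Subgroup.normalizer (R : Set G)) :
    (H.subgroupOf K).IsSubnormal := by
  have hN : ((R ⊓ K).subgroupOf K).Normal := by
    refine ⟨fun n hn k => ?_⟩
    rw [Subgroup.mem_subgroupOf] at hn ⊢
    refine ⟨?_, K.mul_mem (K.mul_mem k.2 n.2) (K.inv_mem k.2)⟩
    have := hKN k.2
    rw [Subgroup.mem_normalizer_iff] at this
    exact (this _).mp hn.1
  have hle : H.subgroupOf K ≤ (R ⊓ K).subgroupOf K := by
    intro y hy
    rw [Subgroup.mem_subgroupOf] at hy ⊢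
    exact ⟨hHR hy, y.2⟩
  have hp : IsPGroup p ↥((R ⊓ K).subgroupOf K) := by
    have h1 : IsPGroup p ↥(R ⊓ K) := hR.to_le inf_le_left
    exact h1.comap_subtype
  exact Subgroup.IsSubnormal.trans hle
    (Cfsg.Agent.Lib.H14.isSubnormal_of_isPGroup hp _) hN.isSubnormal

/-- `Φ(R) = O_p(N_G(R))` contains `R` for a `p`-subgroup `R`. -/
theorem le_pcoreOf_normalizer {R : Subgroup G} (hR : IsPGroup p R) :
    R ≤ Cfsg.pCoreOf p (Subgroup.normalizer (R : Set G)) :=
  le_pcoreOf Subgroup.le_normalizer le_rfl hR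

/-- climbing to a radical subgroup. -/
theorem exists_radical (g : G) (H : Subgroup G) :
    ∀ R : Subgroup G, IsPGroup p R → H ≤ R → g ∈ Subgroup.normalizer (R : Set G) →
      ∃ R' : Subgroup G, H ≤ R' ∧ Cfsg.pCoreOf p (Subgroup.normalizer (R' : Set G)) = R' ∧
        g ∈ Subgroup.normalizer (R' : Set G) := by
  intro R
  induction R using WellFoundedGT.induction with
  | ind R ih =>
    intro hR hHR hg
    by_cases heq : Cfsg.pCoreOf p (Subgroup.normalizer (R : Set G)) = R
    · exact ⟨R, hHR, heq, hg⟩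
    · have hle := le_pcoreOf_normalizer hR
      have hlt : R < Cfsg.pCoreOf p (Subgroup.normalizer (R : Set G)) :=
        lt_of_le_of_ne hle (Ne.symm heq)
      exact ih _ hlt (pcoreOf_isPGroup p _) (hHR.trans hle)
        (pcoreOf_normalized p (Subgroup.normalizer (R : Set G)) hg)

/-- a subnormal `p`-subgroup of `K = ⟨H, g⟩` gives a radical overgroup normalized by `g`. -/
theorem radical_of_subn {H : Subgroup G} (hH : IsPGroup p H) (g : G)
    (hsn : (H.subgroupOf (H ⊔ Subgroup.zpowers g)).IsSubnormal) :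
    ∃ R : Subgroup G, H ≤ R ∧ Cfsg.pCoreOf p (Subgroup.normalizer (R : Set G)) = R ∧
      g ∈ Subgroup.normalizer (R : Set G) := by
  obtain ⟨K, hK⟩ : ∃ K, K = H ⊔ Subgroup.zpowers g := ⟨_, rfl⟩
  rw [← hK] at hsn
  have hHK : H ≤ K := by rw [hK]; exact le_sup_left
  have hgK : g ∈ K := by rw [hK]; exact Subgroup.mem_sup_right (Subgroup.mem_zpowers g)
  have hp : IsPGroup p ↥(H.subgroupOf K) := hH.comap_subtype
  have h1 : H.subgroupOf K ≤ Cfsg.pCore p ↥K :=
    Cfsg.Agent.Lib.H3.isSubnormal_isPGroup_le_pCore hsn hp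
  have hHR : H ≤ Cfsg.pCoreOf p K := by
    intro y hy
    rw [mem_pcoreOf_iff]
    exact ⟨hHK hy, h1 (Subgroup.mem_subgroupOf.mpr hy)⟩
  exact exists_radical g H _ (pcoreOf_isPGroup p K) hHR (pcoreOf_normalized p K hgK)

theorem subn_of_radical {H R : Subgroup G} (g : G) (hHR : H ≤ R)
    (hrad : Cfsg.pCoreOf p (Subgroup.normalizer (R : Set G)) = R)
    (hg : g ∈ Subgroup.normalizer (R : Set G)) :
    (H.subgroupOf (H ⊔ Subgroup.zpowers g)).IsSubnormal := by
  have hR : IsPGroup p R := by rw [← hrad]; exact pcoreOf_isPGroup p _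
  apply subn_of_le_normalizer hHR hR le_sup_left
  apply sup_le (hHR.trans Subgroup.le_normalizer)
  rw [Subgroup.zpowers_le]
  exact hg

/-- a radical subgroup containing `H` contains the intersection of the Sylow subgroups
containing `H`. -/
theorem sInf_le_radical {H R : Subgroup G} (hHR : H ≤ R)
    (hrad : Cfsg.pCoreOf p (Subgroup.normalizer (R : Set G)) = R) :
    sInf {K : Subgroup G | ∃ Q : Sylow p G, H ≤ (Q : Subgroup G) ∧ K = (Q : Subgroup G)} ≤ R := by
  obtain ⟨N, hN⟩ : ∃ N, N = Subgroup.normalizer (R : Set G) := ⟨_, rfl⟩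
  rw [← hN] at hrad
  have hRN : R ≤ N := by rw [hN]; exact Subgroup.le_normalizer
  -- for each Sylow `T` of `N` choose a Sylow `Q_T` of `G` above it
  have hex : ∀ T : Sylow p ↥N, ∃ Q : Sylow p G,
      (T : Subgroup ↥N).map N.subtype ≤ (Q : Subgroup G) :=
    fun T => (T.isPGroup'.map N.subtype).exists_le_sylow
  choose QT hQT using hex
  have hRT : ∀ T : Sylow p ↥N, R ≤ (T : Subgroup ↥N).map N.subtype := by
    intro T r hr
    have h1 : r ∈ Cfsg.pCoreOf p N := by rw [hrad]; exact hr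
    obtain ⟨hrN, hr'⟩ := mem_pcoreOf_iff.mp h1
    exact ⟨⟨r, hrN⟩, pCore_le_sylow T hr', rfl⟩
  -- `Q_T ∩ N = T`
  have hQN : ∀ (T : Sylow p ↥N) (y : G), y ∈ (QT T : Subgroup G) → y ∈ N →
      y ∈ (T : Subgroup ↥N).map N.subtype := by
    intro T y hyQ hyN
    have hp : IsPGroup p ↥(((QT T : Subgroup G) ⊓ N).subgroupOf N) := by
      have h1 : IsPGroup p ↥((QT T : Subgroup G) ⊓ N) := (QT T).isPGroup'.to_le inf_le_left
      exact h1.comap_subtype
    have hle : (T : Subgroup ↥N) ≤ ((QT T : Subgroup G) ⊓ N).subgroupOf N := by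
      intro t ht
      rw [Subgroup.mem_subgroupOf]
      exact ⟨hQT T ⟨t, ht, rfl⟩, t.2⟩
    have heq := T.is_maximal' hp hle
    have : (⟨y, hyN⟩ : ↥N) ∈ ((QT T : Subgroup G) ⊓ N).subgroupOf N := by
      rw [Subgroup.mem_subgroupOf]; exact ⟨hyQ, hyN⟩
    rw [heq] at this
    exact ⟨⟨y, hyN⟩, this, rfl⟩
  -- `J = ⋂ Q_T`
  obtain ⟨J, hJ⟩ : ∃ J, J = ⨅ T : Sylow p ↥N, (QT T : Subgroup G) := ⟨_, rfl⟩
  have hT0 : Nonempty (Sylow p ↥N) := inferInstance
  obtain ⟨T0⟩ := hT0
  have hJp : IsPGroup p J := by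
    have : J ≤ (QT T0 : Subgroup G) := by rw [hJ]; exact iInf_le _ T0
    exact (QT T0).isPGroup'.to_le this
  have hRJ : R ≤ J := by
    rw [hJ]
    exact le_iInf (fun T => (hRT T).trans (hQT T))
  have hJN : ∀ y ∈ J, y ∈ N → y ∈ R := by
    intro y hyJ hyN
    rw [← hrad, mem_pcoreOf_iff]
    refine ⟨hyN, ?_⟩
    rw [pCore_eq_iInf_sylow, Subgroup.mem_iInf]
    intro T
    have hyQ : y ∈ (QT T : Subgroup G) := by
      have : J ≤ (QT T : Subgroup G) := by rw [hJ]; exact iInf_le _ T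
      exact this hyJ
    obtain ⟨y', hy', hyy'⟩ := hQN T y hyQ hyN
    have : y' = ⟨y, hyN⟩ := Subtype.ext hyy'
    rw [← this]; exact hy'
  -- normalizer condition in `J`
  have hnil : Group.IsNilpotent ↥J := hJp.isNilpotent
  have hnc : NormalizerCondition ↥J := Group.normalizerCondition_of_isNilpotent
  have hself : Subgroup.normalizer ((R.subgroupOf J : Subgroup ↥J) : Set ↥J) = R.subgroupOf J := by
    apply le_antisymm
    · intro y hy
      rw [Subgroup.mem_subgroupOf]
      apply hJN _ y.2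
      rw [hN]
      apply mem_normalizer_of_cj_le
      rintro _ ⟨r, hr, rfl⟩
      have h1 : (⟨r, hRJ hr⟩ : ↥J) ∈ R.subgroupOf J := Subgroup.mem_subgroupOf.mpr hr
      have h2 := (Subgroup.mem_normalizer_iff.mp hy _).mp h1
      exact Subgroup.mem_subgroupOf.mp h2
    · exact Subgroup.le_normalizer
  have htop := normalizerCondition_iff_only_full_group_self_normalizing.mp hnc _ hself
  have hJR : J ≤ R := by
    intro y hy
    have : (⟨y, hy⟩ : ↥J) ∈ R.subgroupOf J := by rw [htop]; exact Subgroup.mem_top _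
    exact Subgroup.mem_subgroupOf.mp this
  apply le_trans _ hJR
  rw [hJ]
  apply le_iInf
  intro T
  apply sInf_le
  exact ⟨QT T, (hHR.trans (hRT T)).trans (hQT T), rfl⟩

/-- Let G be a finite group, p a prime and H a p-subgroup of G. Then the set of elements g of G such that H is subnormal in the subgroup generated by H and g is the union of the normalizers N_G(R) over the subgroups R of G containing H with R = O_p(N_G(R)); and this set does not change when H is replaced by the intersection of all Sylow p-subgroups of G containing H. -/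
theorem result {G : Type*} [Group G] [Finite G] (p : ℕ) [Fact p.Prime]
    (H : Subgroup G) (hH : IsPGroup p H) :
    {g : G | ((H).subgroupOf (H ⊔ Subgroup.zpowers g)).IsSubnormal} =
      {g : G | ∃ R : Subgroup G, H ≤ R ∧ (Cfsg.pCore p (Subgroup.normalizer (R : Set G))).map (Subgroup.normalizer (R : Set G)).subtype = R ∧ g ∈ Subgroup.normalizer (R : Set G)} ∧
    ∀ g : G, (((H).subgroupOf (H ⊔ Subgroup.zpowers g)).IsSubnormal ↔
      (((sInf {K : Subgroup G | ∃ Q : Sylow p G, H ≤ (Q : Subgroup G) ∧ K = (Q : Subgroup G)})).subgroupOf ((sInf {K : Subgroup G | ∃ Q : Sylow p G, H ≤ (Q : Subgroup G) ∧ K = (Q : Subgroup G)}) ⊔ Subgroup.zpowers g)).IsSubnormal) := by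
  constructor
  · ext g
    constructor
    · intro hsn
      exact radical_of_subn hH g hsn
    · rintro ⟨R, hHR, hrad, hg⟩
      exact subn_of_radical g hHR hrad hg
  · intro g
    obtain ⟨H₀, hH₀⟩ : ∃ H₀, H₀ = sInf {K : Subgroup G | ∃ Q : Sylow p G,
        H ≤ (Q : Subgroup G) ∧ K = (Q : Subgroup G)} := ⟨_, rfl⟩
    rw [← hH₀]
    have hHH₀ : H ≤ H₀ := by
      rw [hH₀]
      apply le_sInf
      rintro K ⟨Q, hQ, rfl⟩
      exact hQ
    have hH₀p : IsPGroup p H₀ := by
      obtain ⟨Q, hQ⟩ := hH.exists_le_sylow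
      have : H₀ ≤ (Q : Subgroup G) := by
        rw [hH₀]; exact sInf_le ⟨Q, hQ, rfl⟩
      exact Q.isPGroup'.to_le this
    constructor
    · intro hsn
      obtain ⟨R, hHR, hrad, hg⟩ := radical_of_subn hH g hsn
      have hle : H₀ ≤ R := by rw [hH₀]; exact sInf_le_radical hHR hrad
      exact subn_of_radical g hle hrad hg
    · intro hsn
      obtain ⟨R, hHR, hrad, hg⟩ := radical_of_subn hH₀p g hsn
      exact subn_of_radical g (hHH₀.trans hHR) hrad hg

end Cfsg.Agent.S4089
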