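import Mathlib
import Cfsg.Statements.S1196
import Cfsg.Agent.Lib.H5.WreathedCenter

set_option autoImplicit false
open Cfsg

namespace Cfsg.Agent.S1196

open Subgroup Cfsg.Agent.Lib.H5.Wr

theorem base_unique {S : Type*} [Group S] [Finite S] {n : ℕ} {x y z : S} (d : Gens S n x y z)
    (U : Subgroup S) (hU : IsMulCommutative U) (hcard : Nat.card U = 2 ^ (2 * n)) :
    U = d.base := by
  have hle : U ≤ d.base := by
    by_contra hcon
    obtain ⟨u, hu, hub⟩ := SetLike.not_le_iff_exists.mp hcon
    rcases d.cases u with ⟨a, b, rfl⟩ | ⟨a, b, rfl⟩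
    · exact hub (d.wp_mem_base a b)
    · -- `U ⊓ base ≤ Z(S)`
      have h1 : d.base ⊓ U ≤ center S := by
        rintro g ⟨⟨c, e, rfl⟩, hgU⟩
        have hc := hU.is_comm.comm ⟨_, hu⟩ ⟨_, hgU⟩
        have hc' : (wp n x y a b * z) * wp n x y c e = wp n x y c e * (wp n x y a b * z) :=
          congrArg Subtype.val hc
        rw [d.wpz_mul_wp, d.wp_mul_wpz] at hc'
        have h2 := (d.wpz_injective _ _ _ _ hc').1
        have h3 : e = c := by linear_combination h2
        rw [h3]
        exact (d.mem_center_iff' _).mpr ⟨c, rfl⟩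
      have h2 : Nat.card (d.base ⊓ U : Subgroup S) ≤ 2 ^ n := by
        rw [← d.card_center]
        exact Subgroup.card_le_of_le h1
      have hnorm : d.base.Normal := Subgroup.normal_of_index_eq_two d.index_base
      have h3 : d.base.relIndex U ∣ 2 := by
        rw [← d.index_base]
        exact Subgroup.relIndex_dvd_index_of_normal d.base U
      have h4 : (d.base ⊓ U).relIndex U * U.index = (d.base ⊓ U).index :=
        Subgroup.relIndex_mul_index inf_le_right
      rw [Subgroup.inf_relIndex_right] at h4
      have h5 : U.index = 2 := by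
        have := U.card_mul_index
        rw [hcard, d.hcard, pow_succ] at this
        exact Nat.eq_of_mul_eq_mul_left (by positivity) this
      have h6 : (d.base ⊓ U).index ≤ 4 := by
        rw [← h4, h5]
        have := Nat.le_of_dvd (by norm_num) h3
        omega
      have h7 := (d.base ⊓ U).card_mul_index
      rw [d.hcard] at h7
      have h8 : 2 ^ (2 * n + 1) ≤ 2 ^ n * 4 := by
        rw [← h7]
        exact Nat.mul_le_mul h2 h6
      have h9 : 2 ^ (2 * n + 1) ≤ 2 ^ (n + 2) := by
        rw [pow_add 2 n 2]; exact h8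
      have h10 := (Nat.pow_le_pow_iff_right (by norm_num : 1 < 2)).mp h9
      have := d.hn
      omega
  exact Subgroup.eq_of_le_of_card_ge hle (by rw [hcard, d.card_base])

/-- A wreathed 2-group S of order 2^(2n+1) has a unique commutative subgroup of order 2^(2n), and this subgroup is isomorphic to the direct product of two cyclic groups of order 2^n. -/
theorem result {S : Type*} [Group S] [Finite S] (hS : Cfsg.IsWreathed S) (n : ℕ) (hn : Nat.card S = 2 ^ (2 * n + 1)) : (∃! U : Subgroup S, IsMulCommutative U ∧ Nat.card U = 2 ^ (2 * n)) ∧ ∀ U : Subgroup S, IsMulCommutative U → Nat.card U = 2 ^ (2 * n) → Nonempty (U ≃* Multiplicative (ZMod (2 ^ n) × ZMod (2 ^ n))) := by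
  obtain ⟨n', x, y, z, d⟩ := exists_gens hS
  have hnn : n' = n := by
    have h1 := d.hcard
    rw [hn] at h1
    have := Nat.pow_right_injective (le_refl 2) h1
    omega
  subst hnn
  refine ⟨⟨d.base, ⟨?_, d.card_base⟩, ?_⟩, ?_⟩
  · refine ⟨⟨fun a b => ?_⟩⟩
    obtain ⟨_, a1, a2, rfl⟩ := a
    obtain ⟨_, b1, b2, rfl⟩ := b
    apply Subtype.ext
    exact d.wp_comm _ _ _ _
  · rintro U ⟨hU, hcard⟩
    exact base_unique d U hU hcard
  · intro U hU hcard
    have := base_unique d U hU hcard
    subst this
    exact ⟨d.baseEquiv.symm⟩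

end Cfsg.Agent.S1196
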