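import Cfsg.Statements.S1331
import Cfsg.Agent.Lib.H7.CoprimeGen

set_option autoImplicit false
open Cfsg
open Cfsg.Agent.Lib.H7
set_option autoImplicit false

namespace Cfsg.Agent.S1331

theorem exists_hyperplane {G : Type*} [Group G] [Finite G] (p : ℕ) [Fact p.Prime] (B : Subgroup G)
    (hB : IsPGroup p B) (hB1 : B ≠ ⊥) : ∃ D : Subgroup G, D ≤ B ∧ D.relIndex B = p := by
  have hp : p.Prime := Fact.out
  obtain ⟨k, hk⟩ := IsPGroup.iff_card.1 hB
  have hk1 : k ≠ 0 := by
    rintro rfl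
    rw [pow_zero] at hk
    exact hB1 (Subgroup.card_eq_one.1 hk)
  obtain ⟨m, rfl⟩ := Nat.exists_eq_succ_of_ne_zero hk1
  obtain ⟨K, hK⟩ := Sylow.exists_subgroup_card_pow_prime (G := B) p (n := m)
    (by rw [hk]; exact pow_dvd_pow p (Nat.le_succ m))
  refine ⟨K.map B.subtype, Subgroup.map_subtype_le K, ?_⟩
  have h1 := card_mul_relIndex_of_le (Subgroup.map_subtype_le K)
  have h2 : Nat.card (K.map B.subtype) = p ^ m := by
    rw [← hK]
    exact (Nat.card_congr (K.equivMapOfInjective _ (Subgroup.subtype_injective B)).toEquiv).symm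
  rw [h2, hk, pow_succ] at h1
  exact Nat.eq_of_mul_eq_mul_left (pow_pos hp.pos m) h1


/-- Let θ be a solvable A-signalizer functor on the finite group G for the prime p, A elementary abelian of rank at least 3, X a member of the family of θ, and B ≤ A with |B| ≥ p². Then X is generated by the subgroups X ∩ ⋂_{d ∈ D, d ≠ 1} θ d, D ranging over the subgroups of index p in B. -/
theorem result {G : Type*} [Group G] [Finite G] (p : ℕ) [Fact p.Prime] (A : Subgroup G) (hA : Cfsg.IsElementaryAbelian p A) (hA3 : p ^ 3 ≤ Nat.card ↥A) (θ : G → Subgroup G) (hθ : Cfsg.IsSolvableSignalizerFunctor p A θ) (X : Subgroup G) (hX : X ∈ Cfsg.signalizerFamily p A θ) (B : Subgroup G) (hB : B ≤ A) (hB2 : p ^ 2 ≤ Nat.card ↥B) : X = ⨆ D : {D : Subgroup G // D ≤ B ∧ D.relIndex B = p}, X ⊓ Cfsg.signalizerInf (D : Subgroup G) θ := by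
  have hp : p.Prime := Fact.out
  obtain ⟨hXs, hXp, hXA, hXθ⟩ := hX
  have hXc : (Nat.card X).Coprime p := ((Nat.Prime.coprime_iff_not_dvd hp).2 hXp).symm
  have hAc : ∀ a ∈ A, ∀ b ∈ A, a * b = b * a := by
    intro a ha b hb
    have := hA.1
    have h := mul_comm' (⟨a, ha⟩ : A) ⟨b, hb⟩
    exact congrArg Subtype.val h
  have hBc : ∀ a ∈ B, ∀ b ∈ B, a * b = b * a := fun a ha b hb => hAc a (hB ha) b (hB hb)
  have hBp : ∀ a ∈ B, a ^ p = 1 := fun a ha => hA.2 a (hB ha)
  have hBX : B ≤ Subgroup.normalizer (X : Set G) := by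
    intro b hb
    have h1 := zpowers_le_normalizer_of_conj_mem (hXA b (hB hb))
    exact h1 (Subgroup.mem_zpowers b)
  have hBpg : IsPGroup p B := by
    intro g
    refine ⟨1, ?_⟩
    apply Subtype.ext
    rw [pow_one, Subgroup.coe_pow, hBp _ g.2]; rfl
  have hBne : B ≠ ⊥ := by
    rintro rfl
    rw [Subgroup.card_bot] at hB2
    have : 1 < p ^ 2 := Nat.one_lt_pow (by norm_num) hp.one_lt
    omega
  -- the key inclusion for hyperplanes
  have hkey : ∀ D : Subgroup G, D ≤ B → D.relIndex B = p →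
      X ⊓ Subgroup.centralizer (D : Set G) ≤
        ⨆ D : {D : Subgroup G // D ≤ B ∧ D.relIndex B = p},
          X ⊓ Cfsg.signalizerInf (D : Subgroup G) θ := by
    intro D hDB hDp
    refine le_trans ?_ (le_iSup (fun D : {D : Subgroup G // D ≤ B ∧ D.relIndex B = p} =>
      X ⊓ Cfsg.signalizerInf (D : Subgroup G) θ) ⟨D, hDB, hDp⟩)
    intro x hx
    refine ⟨hx.1, ?_⟩
    show x ∈ Cfsg.signalizerInf D θ
    unfold Cfsg.signalizerInf
    rw [Subgroup.mem_iInf]
    rintro ⟨d, hdD, hd1⟩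
    apply hXθ d (hB (hDB hdD)) hd1
    refine ⟨hx.1, Subgroup.mem_centralizer_singleton_iff.2 ?_⟩
    exact (Subgroup.mem_centralizer_iff.1 hx.2 d hdD).symm
  apply le_antisymm
  · refine le_trans (le_hypGen p hBc hBp hXc hBX) ?_
    apply iSup_le
    rintro ⟨D, hDB, hDp⟩
    have h1 := card_mul_relIndex_of_le hDB
    obtain ⟨k, hk⟩ := IsPGroup.iff_card.1 hBpg
    have h2 : D.relIndex B ∣ p ^ k := by rw [← hk, ← h1]; exact dvd_mul_left _ _
    obtain ⟨m, hmk, hm⟩ := (Nat.dvd_prime_pow hp).1 h2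
    have hm1 : m ≤ 1 := by
      by_contra hcon
      push Not at hcon
      have : p ^ 2 ≤ p ^ m := Nat.pow_le_pow_right hp.pos hcon
      have h3 : p < p ^ 2 := by
        calc p = p ^ 1 := (pow_one p).symm
          _ < p ^ 2 := Nat.pow_lt_pow_right hp.one_lt (by norm_num)
      rw [hm] at hDp
      omega
    interval_cases m
    · -- D = B
      rw [pow_zero] at hm
      obtain ⟨D', hD'B, hD'p⟩ := exists_hyperplane p B hBpg hBne
      have hDeq : D = B := by
        apply Subgroup.eq_of_le_of_card_ge hDB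
        rw [← h1, hm, mul_one]
      refine le_trans ?_ (hkey D' hD'B hD'p)
      show X ⊓ Subgroup.centralizer (D : Set G) ≤ X ⊓ Subgroup.centralizer (D' : Set G)
      rw [hDeq]
      exact inf_le_inf_left _ (Subgroup.centralizer_le hD'B)
    · rw [pow_one] at hm
      exact hkey D hDB hm
  · exact iSup_le fun _ => inf_le_left

end Cfsg.Agent.S1331
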