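import Cfsg.Statements.S1285
import Cfsg.Agent.Lib.H7.Signalizer3

set_option autoImplicit false
open Cfsg
open Cfsg.Agent.Lib.H7
set_option autoImplicit false

namespace Cfsg.Agent.S1285

/-- Let θ be a solvable A-signalizer functor on the finite group G with A elementary abelian of rank at least 3, and suppose that for some prime q every θ a (a ∈ A non-identity) is a q-group. Then θ is complete. -/
theorem result {G : Type*} [Group G] [Finite G] (p : ℕ) [Fact p.Prime] (A : Subgroup G) (hA : Cfsg.IsElementaryAbelian p A) (hA3 : p ^ 3 ≤ Nat.card ↥A) (θ : G → Subgroup G) (hθ : Cfsg.IsSolvableSignalizerFunctor p A θ) (q : ℕ) [Fact q.Prime] (hq : ∀ a ∈ A, a ≠ 1 → IsPGroup q ↥(θ a)) : Cfsg.IsCompleteSignalizerFunctor p A θ := by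
  have hp : p.Prime := Fact.out
  obtain ⟨Q, hQ, -⟩ := exists_isMaxQ_ge (p := p) (A := A) (θ := θ) (q := q)
    (bot_mem_family hp.one_lt) IsPGroup.of_bot
  refine ⟨hθ.1, Q, hQ.1.2.2.1, hQ.1.2.1, ?_⟩
  intro a ha ha1
  apply le_antisymm (hQ.1.2.2.2 a ha ha1)
  refine le_inf ?_ (hθ.1.1 a ha ha1)
  obtain ⟨R, hR, hθR⟩ := exists_isMaxQ_ge (theta_mem_family hθ ha ha1) (hq a ha ha1)
  obtain ⟨c, hc, hcR⟩ := transitivity_aux hA hA3 hθ q (Nat.card G) R Q hR hQ (Nat.sub_le _ _)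
  have hcθ : c ∈ θ a := signalizerInf_le_theta ha ha1 hc
  intro x hx
  have hx' : c⁻¹ * x * c ∈ θ a := (θ a).mul_mem ((θ a).mul_mem ((θ a).inv_mem hcθ) hx) hcθ
  rw [← hcR]
  refine ⟨c⁻¹ * x * c, hθR hx', ?_⟩
  simp only [MulEquiv.coe_toMonoidHom, MulAut.conj_apply]
  group

end Cfsg.Agent.S1285
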