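import Mathlib
import Cfsg.Agent.Lib.H20.FrobeniusDiv
import Cfsg.Agent.Lib.H22.UniqueOrderP
import Cfsg.Agent.Lib.H22.UniqueInvolution

set_option autoImplicit false
open Cfsg

namespace Cfsg.Agent.S3995

open Cfsg.Agent.Lib.H20 Cfsg.Agent.Lib.H22

universe u

/-- the number of elements of order `m` -/
noncomputable def f (G : Type*) [Group G] (m : ℕ) : ℕ := Nat.card {g : G // orderOf g = m}

theorem f_one (G : Type*) [Group G] : f G 1 = 1 := by
  unfold f
  rw [Nat.card_eq_one_iff_unique]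
  refine ⟨⟨?_⟩, ⟨⟨1, orderOf_one⟩⟩⟩
  rintro ⟨a, ha⟩ ⟨b, hb⟩
  apply Subtype.ext
  show a = b
  rw [orderOf_eq_one_iff.mp ha, orderOf_eq_one_iff.mp hb]

theorem f_eq_zero {G : Type*} [Group G] {m : ℕ} (h : ∀ g : G, orderOf g ≠ m) : f G m = 0 := by
  unfold f
  haveI : IsEmpty {g : G // orderOf g = m} := ⟨fun g => h g.1 g.2⟩
  exact Nat.card_of_isEmpty

theorem f_pos {G : Type*} [Group G] [Finite G] (g : G) : 0 < f G (orderOf g) := by
  unfold f
  haveI : Nonempty {x : G // orderOf x = orderOf g} := ⟨⟨g, rfl⟩⟩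
  exact Nat.card_pos

theorem even_f {G : Type*} [Group G] [Finite G] {m : ℕ} (hm : 2 < m) : Even (f G m) := by
  classical
  haveI : Fintype G := Fintype.ofFinite G
  unfold f
  rw [card_subtype_eq_card_filter]
  exact (Nat.totient_even hm).trans_dvd (totient_dvd_card_orderOf m)

/-- counting solutions of `g ^ d = 1` by orders -/
theorem cnt {G : Type*} [Group G] [Finite G] (D : Finset ℕ) (d : ℕ)
    (hD : ∀ g : G, g ^ d = 1 ↔ orderOf g ∈ D) :
    Nat.card {g : G // g ^ d = 1} = ∑ m ∈ D, f G m := by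
  classical
  haveI : Fintype G := Fintype.ofFinite G
  rw [card_subtype_eq_card_filter]
  rw [Finset.card_eq_sum_card_fiberwise (f := fun x => orderOf x) (t := D)]
  · apply Finset.sum_congr rfl
    intro m hm
    unfold f
    rw [card_subtype_eq_card_filter]
    congr 1
    ext g
    simp only [Finset.mem_filter, Finset.mem_univ, true_and]
    constructor
    · exact fun h => h.2
    · intro h
      exact ⟨(hD g).mpr (h ▸ hm), h⟩
  · intro g hg
    simp only [Finset.coe_filter, Finset.mem_univ, true_and, Set.mem_setOf_eq] at hg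
    exact Finset.mem_coe.mpr ((hD g).mp hg)

theorem frob {G : Type u} [Group G] [Finite G] (D : Finset ℕ) (d : ℕ) (hd : d ∣ Nat.card G)
    (hD : ∀ g : G, g ^ d = 1 ↔ orderOf g ∈ D) : d ∣ ∑ m ∈ D, f G m := by
  rw [← cnt D d hD]
  exact frobenius_dvd d hd

theorem frob_prime {G : Type u} [Group G] [Finite G] {p : ℕ} (hp : p.Prime)
    (hd : p ∣ Nat.card G) : p ∣ 1 + f G p := by
  have h := frob (G := G) {1, p} p hd (fun g => by
    rw [← orderOf_dvd_iff_pow_eq_one, Nat.dvd_prime hp]; simp)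
  rwa [Finset.sum_pair hp.one_lt.ne, f_one] at h

theorem frob_prime_sq {G : Type u} [Group G] [Finite G] {p : ℕ} (hp : p.Prime)
    (hd : p ^ 2 ∣ Nat.card G) : p ^ 2 ∣ 1 + f G p + f G (p ^ 2) := by
  have h2 := hp.two_le
  have h1 : p < p ^ 2 := by nlinarith
  have h := frob (G := G) {1, p, p ^ 2} (p ^ 2) hd (fun g => by
    rw [← orderOf_dvd_iff_pow_eq_one, Nat.dvd_prime_pow hp]
    simp only [Finset.mem_insert, Finset.mem_singleton]
    constructor
    · rintro ⟨j, hj, h⟩
      interval_cases j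
      · left; simpa using h
      · right; left; simpa using h
      · right; right; exact h
    · rintro (h | h | h)
      · exact ⟨0, by omega, by simpa using h⟩
      · exact ⟨1, by omega, by simpa using h⟩
      · exact ⟨2, le_refl 2, h⟩)
  rw [Finset.sum_insert (by simp only [Finset.mem_insert, Finset.mem_singleton]; omega),
    Finset.sum_pair (by omega), f_one] at h
  rw [add_assoc]; exact h

theorem frob_prime_cube {G : Type u} [Group G] [Finite G] {p : ℕ} (hp : p.Prime)
    (hd : p ^ 3 ∣ Nat.card G) : p ^ 3 ∣ 1 + f G p + f G (p ^ 2) + f G (p ^ 3) := by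
  have h2 := hp.two_le
  have h1 : p < p ^ 2 := by nlinarith
  have h3 : p ^ 2 < p ^ 3 := by
    have : p ^ 3 = p ^ 2 * p := pow_succ p 2
    nlinarith
  have h := frob (G := G) {1, p, p ^ 2, p ^ 3} (p ^ 3) hd (fun g => by
    rw [← orderOf_dvd_iff_pow_eq_one, Nat.dvd_prime_pow hp]
    simp only [Finset.mem_insert, Finset.mem_singleton]
    constructor
    · rintro ⟨j, hj, h⟩
      interval_cases j
      · left; simpa using h
      · right; left; simpa using h
      · right; right; left; exact h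
      · right; right; right; exact h
    · rintro (h | h | h | h)
      · exact ⟨0, by omega, by simpa using h⟩
      · exact ⟨1, by omega, by simpa using h⟩
      · exact ⟨2, by omega, h⟩
      · exact ⟨3, le_refl 3, h⟩)
  rw [Finset.sum_insert (by simp only [Finset.mem_insert, Finset.mem_singleton]; omega),
    Finset.sum_insert (by simp only [Finset.mem_insert, Finset.mem_singleton]; omega),
    Finset.sum_pair (by omega), f_one] at h
  rw [add_assoc, add_assoc]; exact h

theorem frob_mul {G : Type u} [Group G] [Finite G] {p q : ℕ} (hp : p.Prime) (hq : q.Prime)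
    (hpq : p ≠ q) (hd : p * q ∣ Nat.card G) : p * q ∣ 1 + f G p + f G q + f G (p * q) := by
  have h2 := hp.two_le
  have h2' := hq.two_le
  have h1 : p < p * q := by nlinarith
  have h1' : q < p * q := by nlinarith
  have h := frob (G := G) {1, p, q, p * q} (p * q) hd (fun g => by
    rw [← orderOf_dvd_iff_pow_eq_one]
    simp only [Finset.mem_insert, Finset.mem_singleton]
    constructor
    · intro h
      obtain ⟨a, b, ha, hb, hab⟩ := (Nat.dvd_mul).mp h
      rcases (Nat.dvd_prime hp).mp ha with rfl | rfl <;> rcases (Nat.dvd_prime hq).mp hb with rfl | rfl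
      · left; rw [← hab]
      · right; right; left; rw [← hab, one_mul]
      · right; left; rw [← hab, mul_one]
      · right; right; right; exact hab.symm
    · rintro (h | h | h | h) <;> rw [h]
      · exact one_dvd _
      · exact dvd_mul_right p q
      · exact dvd_mul_left q p)
  rw [Finset.sum_insert (by simp only [Finset.mem_insert, Finset.mem_singleton]; omega),
    Finset.sum_insert (by simp only [Finset.mem_insert, Finset.mem_singleton]; omega),
    Finset.sum_pair (by omega), f_one] at h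
  rw [add_assoc, add_assoc]; exact h

theorem frob_four_mul {G : Type u} [Group G] [Finite G] {p : ℕ} (hp : p.Prime) (hp2 : p ≠ 2)
    (hd : 4 * p ∣ Nat.card G) :
    4 * p ∣ 1 + f G 2 + f G 4 + f G p + f G (2 * p) + f G (4 * p) := by
  have h2 := hp.two_le
  have h3 : 3 ≤ p := by omega
  have hp4 : p ≠ 4 := by
    rintro rfl
    exact absurd hp (by norm_num)
  have h := frob (G := G) {1, 2, 4, p, 2 * p, 4 * p} (4 * p) hd (fun g => by
    rw [← orderOf_dvd_iff_pow_eq_one]
    simp only [Finset.mem_insert, Finset.mem_singleton]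
    constructor
    · intro h
      obtain ⟨a, b, ha, hb, hab⟩ := (Nat.dvd_mul).mp h
      have ha' : a = 1 ∨ a = 2 ∨ a = 4 := by
        have : a ∣ 2 ^ 2 := by norm_num; exact ha
        obtain ⟨j, hj, rfl⟩ := (Nat.dvd_prime_pow Nat.prime_two).mp this
        interval_cases j <;> simp
      rcases ha' with rfl | rfl | rfl <;> rcases (Nat.dvd_prime hp).mp hb with rfl | rfl <;>
        simp [← hab]
    · rintro (h | h | h | h | h | h) <;> rw [h]
      · exact one_dvd _
      · exact Dvd.dvd.mul_right (by norm_num) p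
      · exact dvd_mul_right 4 p
      · exact dvd_mul_left p 4
      · exact Nat.mul_dvd_mul_right (by norm_num) p)
  rw [Finset.sum_insert (by simp only [Finset.mem_insert, Finset.mem_singleton]; omega),
    Finset.sum_insert (by simp only [Finset.mem_insert, Finset.mem_singleton]; omega),
    Finset.sum_insert (by simp only [Finset.mem_insert, Finset.mem_singleton]; omega),
    Finset.sum_insert (by simp only [Finset.mem_insert, Finset.mem_singleton]; omega),
    Finset.sum_pair (by omega), f_one] at h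
  have e : 1 + f G 2 + f G 4 + f G p + f G (2 * p) + f G (4 * p) =
      1 + (f G 2 + (f G 4 + (f G p + (f G (2 * p) + f G (4 * p))))) := by ring
  rw [e]; exact h

section main

variable {G : Type u} [Group G] [Finite G] {n : ℕ}

theorem f_big (hval : ∀ g : G, f G (orderOf g) = 1 ∨ f G (orderOf g) = n) (g : G)
    (hg : 2 < orderOf g) : f G (orderOf g) = n := by
  rcases hval g with h1 | h1
  · exfalso
    have := even_f (G := G) hg
    rw [h1] at this
    exact absurd this (by decide)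
  · exact h1

theorem n_even_of_big (hval : ∀ g : G, f G (orderOf g) = 1 ∨ f G (orderOf g) = n) (g : G)
    (hg : 2 < orderOf g) : Even n := by
  rw [← f_big hval g hg]; exact even_f hg

/-- an element of order `m` when `m ∣ orderOf g` -/
theorem exists_orderOf_eq_of_dvd {m : ℕ} (hm : m ≠ 0) (g : G) (h : m ∣ orderOf g) :
    ∃ x : G, orderOf x = m := by
  have hpos : 0 < orderOf g := orderOf_pos g
  have hne : orderOf g / m ≠ 0 := by
    intro h0
    have := Nat.div_mul_cancel h
    rw [h0, zero_mul] at this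
    omega
  refine ⟨g ^ (orderOf g / m), ?_⟩
  rw [orderOf_pow_of_dvd hne (Nat.div_dvd_of_dvd h), Nat.div_div_self h hpos.ne']

theorem f_prime (hval : ∀ g : G, f G (orderOf g) = 1 ∨ f G (orderOf g) = n) {p : ℕ}
    (hp : p.Prime) (hp2 : p ≠ 2) (hd : p ∣ Nat.card G) : f G p = n ∧ p ∣ 1 + n := by
  haveI : Fact p.Prime := ⟨hp⟩
  obtain ⟨x, hx⟩ := exists_prime_orderOf_dvd_card' (G := G) p hd
  have h3 : 2 < p := by have := hp.two_le; omega
  have h1 : f G p = n := by
    have := f_big hval x (by rw [hx]; exact h3)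
    rwa [hx] at this
  refine ⟨h1, ?_⟩
  have := frob_prime (G := G) hp hd
  rwa [h1] at this

theorem no_prime_sq (hval : ∀ g : G, f G (orderOf g) = 1 ∨ f G (orderOf g) = n) {p : ℕ}
    (hp : p.Prime) (hp2 : p ≠ 2) (g : G) : ¬ p ^ 2 ∣ orderOf g := by
  intro hdvd
  obtain ⟨x, hx⟩ := exists_orderOf_eq_of_dvd (pow_ne_zero 2 hp.ne_zero) g hdvd
  have h2 := hp.two_le
  have hbig : 2 < p ^ 2 := by nlinarith
  have hd2 : p ^ 2 ∣ Nat.card G := by rw [← hx]; exact orderOf_dvd_natCard x
  have hd1 : p ∣ Nat.card G := (dvd_pow_self p two_ne_zero).trans hd2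
  obtain ⟨h1, h1'⟩ := f_prime hval hp hp2 hd1
  have h3 : f G (p ^ 2) = n := by
    have := f_big hval x (by rw [hx]; exact hbig)
    rwa [hx] at this
  have h4 := frob_prime_sq (G := G) hp hd2
  rw [h1, h3] at h4
  have h5 : p ∣ 1 + n + n := (dvd_pow_self p two_ne_zero).trans h4
  have h6 : p ∣ n := (Nat.dvd_add_right h1').mp h5
  have h7 : p ∣ 1 := (Nat.dvd_add_left h6).mp h1'
  exact hp.one_lt.ne' (Nat.dvd_one.mp h7)

theorem odd_prime_unique (hval : ∀ g : G, f G (orderOf g) = 1 ∨ f G (orderOf g) = n) {p q : ℕ}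
    (hp : p.Prime) (hp2 : p ≠ 2) (hq : q.Prime) (hq2 : q ≠ 2) (hdp : p ∣ Nat.card G)
    (hdq : q ∣ Nat.card G) : p = q := by
  by_contra hpq
  obtain ⟨h1, h1'⟩ := f_prime hval hp hp2 hdp
  obtain ⟨h2, -⟩ := f_prime hval hq hq2 hdq
  have hcop : Nat.Coprime p q := (Nat.coprime_primes hp hq).mpr hpq
  have hd : p * q ∣ Nat.card G := hcop.mul_dvd_of_dvd_of_dvd hdp hdq
  have h3 := frob_mul (G := G) hp hq hpq hd
  rw [h1, h2] at h3
  have h4 : p ∣ 1 + n + n + f G (p * q) := (dvd_mul_right p q).trans h3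
  have hp3 : 3 ≤ p := by have := hp.two_le; omega
  -- `f (p * q)` is `0` or `n`
  by_cases hex : ∃ x : G, orderOf x = p * q
  · obtain ⟨x, hx⟩ := hex
    have hbig : 2 < p * q := by have := hq.two_le; nlinarith
    have h5 : f G (p * q) = n := by
      have := f_big hval x (by rw [hx]; exact hbig)
      rwa [hx] at this
    rw [h5] at h4
    -- `p ∣ 1 + 3n` and `p ∣ 1 + n` give `p ∣ 2`
    have h6 : p ∣ 3 * (1 + n) := Dvd.dvd.mul_left h1' 3
    have h7 : 3 * (1 + n) = (1 + n + n + n) + 2 := by ring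
    rw [h7] at h6
    have h8 : p ∣ 2 := (Nat.dvd_add_right h4).mp h6
    have := Nat.le_of_dvd (by norm_num) h8
    omega
  · push_neg at hex
    rw [f_eq_zero hex, add_zero] at h4
    have h6 : p ∣ 2 * (1 + n) := Dvd.dvd.mul_left h1' 2
    have h7 : 2 * (1 + n) = (1 + n + n) + 1 := by ring
    rw [h7] at h6
    have h8 : p ∣ 1 := (Nat.dvd_add_right h4).mp h6
    exact hp.one_lt.ne' (Nat.dvd_one.mp h8)

theorem f_mem (hval : ∀ g : G, f G (orderOf g) = 1 ∨ f G (orderOf g) = n) (m : ℕ)
    (hm : 2 < m) : f G m = 0 ∨ f G m = n := by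
  by_cases hex : ∃ x : G, orderOf x = m
  · obtain ⟨x, hx⟩ := hex
    right
    have := f_big hval x (by rw [hx]; exact hm)
    rwa [hx] at this
  · push_neg at hex
    left; exact f_eq_zero hex

theorem four_facts (hval : ∀ g : G, f G (orderOf g) = 1 ∨ f G (orderOf g) = n) (y : G)
    (hy : orderOf y = 4) : f G 2 = 1 ∧ f G 4 = n ∧ 4 ∣ 2 + n := by
  have h4 : f G 4 = n := by
    have := f_big hval y (by rw [hy]; norm_num)
    rwa [hy] at this
  have hev : Even n := n_even_of_big hval y (by rw [hy]; norm_num)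
  have hd4 : 4 ∣ Nat.card G := by rw [← hy]; exact orderOf_dvd_natCard y
  have hd2 : 2 ∣ Nat.card G := Dvd.dvd.trans (by norm_num) hd4
  have hodd : 2 ∣ 1 + f G 2 := frob_prime (G := G) Nat.prime_two hd2
  obtain ⟨x, hx⟩ := exists_orderOf_eq_of_dvd (G := G) two_ne_zero y (by rw [hy]; norm_num)
  have h2 : f G 2 = 1 := by
    have := hval x
    rw [hx] at this
    rcases this with h | h
    · exact h
    · exfalso
      rw [h] at hodd
      obtain ⟨k, hk⟩ := hev
      omega
  refine ⟨h2, h4, ?_⟩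
  have := frob_prime_sq (G := G) Nat.prime_two (by norm_num; exact hd4)
  rw [h2] at this
  norm_num at this
  rw [h4] at this
  exact this

theorem no_eight (hval : ∀ g : G, f G (orderOf g) = 1 ∨ f G (orderOf g) = n) (g : G) :
    ¬ 8 ∣ orderOf g := by
  intro hdvd
  obtain ⟨x, hx⟩ := exists_orderOf_eq_of_dvd (G := G) (by norm_num) g hdvd
  obtain ⟨y, hy⟩ := exists_orderOf_eq_of_dvd (G := G) (by norm_num : (4 : ℕ) ≠ 0) x
    (by rw [hx]; norm_num)
  obtain ⟨h2, h4, h4'⟩ := four_facts hval y hy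
  have h8 : f G 8 = n := by
    have := f_big hval x (by rw [hx]; norm_num)
    rwa [hx] at this
  have hd8 : 8 ∣ Nat.card G := by rw [← hx]; exact orderOf_dvd_natCard x
  have := frob_prime_cube (G := G) Nat.prime_two (by norm_num; exact hd8)
  rw [h2] at this
  norm_num at this
  rw [h4, h8] at this
  obtain ⟨a, ha⟩ := this
  obtain ⟨b, hb⟩ := h4'
  omega

theorem mixed_facts (hval : ∀ g : G, f G (orderOf g) = 1 ∨ f G (orderOf g) = n) {p : ℕ}
    (hp : p.Prime) (hp2 : p ≠ 2) (hdp : p ∣ Nat.card G) (hd2 : 2 ∣ Nat.card G) :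
    f G 2 = 1 ∧ f G (2 * p) = n := by
  obtain ⟨h1, h1'⟩ := f_prime hval hp hp2 hdp
  have hp3 : 3 ≤ p := by have := hp.two_le; omega
  have hcop : Nat.Coprime 2 p := (Nat.coprime_primes Nat.prime_two hp).mpr (Ne.symm hp2)
  have hd : 2 * p ∣ Nat.card G := hcop.mul_dvd_of_dvd_of_dvd hd2 hdp
  have h3 := frob_mul (G := G) Nat.prime_two hp (Ne.symm hp2) hd
  rw [h1] at h3
  have h4 : p ∣ 1 + f G 2 + n + f G (2 * p) := (dvd_mul_left p 2).trans h3
  haveI : Fact (Nat.Prime 2) := ⟨Nat.prime_two⟩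
  obtain ⟨x, hx⟩ := exists_prime_orderOf_dvd_card' (G := G) 2 hd2
  have hf2 := hval x
  rw [hx] at hf2
  have hf2p := f_mem hval (2 * p) (by omega)
  obtain ⟨c, hc⟩ := h1'
  rcases hf2 with h2 | h2 <;> rcases hf2p with h5 | h5
  · exfalso
    rw [h2, h5] at h4
    obtain ⟨d, hd'⟩ := h4
    have : p * (d - c) = 1 := by
      have h6 : p * d = p * c + 1 := by omega
      have hcd : c ≤ d := by
        by_contra hlt
        push_neg at hlt
        have : p * d < p * c := by nlinarith
        omega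
      rw [Nat.mul_sub, h6]; omega
    have := Nat.eq_one_of_mul_eq_one_right this
    omega
  · exact ⟨h2, h5⟩
  · exfalso
    rw [h2, h5] at h4
    -- `p ∣ 1 + n + n`
    obtain ⟨d, hd'⟩ := h4
    have h6 : p ∣ n := by
      refine ⟨d - c, ?_⟩
      have hcd : c ≤ d := by
        by_contra hlt
        push_neg at hlt
        have : p * d < p * c := by nlinarith
        omega
      rw [Nat.mul_sub]; omega
    have h7 : p ∣ 1 := (Nat.dvd_add_left h6).mp ⟨c, hc⟩
    exact hp.one_lt.ne' (Nat.dvd_one.mp h7)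
  · exfalso
    rw [h2, h5] at h4
    -- `p ∣ 1 + 3n`
    obtain ⟨d, hd'⟩ := h4
    have h6 : p ∣ 2 := by
      refine ⟨3 * c - d, ?_⟩
      have hcd : d ≤ 3 * c := by
        by_contra hlt
        push_neg at hlt
        have : p * (3 * c) < p * d := by nlinarith
        nlinarith
      rw [Nat.mul_sub]
      have : p * (3 * c) = 3 * (p * c) := by ring
      omega
    have := Nat.le_of_dvd (by norm_num) h6
    omega

theorem no_four_of_mixed (hval : ∀ g : G, f G (orderOf g) = 1 ∨ f G (orderOf g) = n) {p : ℕ}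
    (hp : p.Prime) (hp2 : p ≠ 2) (hdp : p ∣ Nat.card G) (g : G) : ¬ 4 ∣ orderOf g := by
  intro hdvd
  obtain ⟨y, hy⟩ := exists_orderOf_eq_of_dvd (G := G) (by norm_num) g hdvd
  obtain ⟨h2, h4, -⟩ := four_facts hval y hy
  have hd4 : 4 ∣ Nat.card G := by rw [← hy]; exact orderOf_dvd_natCard y
  have hd2 : 2 ∣ Nat.card G := Dvd.dvd.trans (by norm_num) hd4
  obtain ⟨-, h2p⟩ := mixed_facts hval hp hp2 hdp hd2
  obtain ⟨h1, h1'⟩ := f_prime hval hp hp2 hdp
  have hp3 : 3 ≤ p := by have := hp.two_le; omega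
  have hcop : Nat.Coprime 4 p := by
    have : Nat.Coprime (2 ^ 2) p :=
      Nat.Coprime.pow_left 2 ((Nat.coprime_primes Nat.prime_two hp).mpr (Ne.symm hp2))
    simpa using this
  have hd : 4 * p ∣ Nat.card G := hcop.mul_dvd_of_dvd_of_dvd hd4 hdp
  have h3 := frob_four_mul (G := G) hp hp2 hd
  rw [h2, h4, h1, h2p] at h3
  have h5 : p ∣ 1 + 1 + n + n + n + f G (4 * p) := (dvd_mul_left p 4).trans h3
  obtain ⟨c, hc⟩ := h1'
  rcases f_mem hval (4 * p) (by omega) with h6 | h6
  · rw [h6] at h5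
    obtain ⟨d, hd'⟩ := h5
    have h7 : p ∣ 1 := by
      refine ⟨3 * c - d, ?_⟩
      have hcd : d ≤ 3 * c := by
        by_contra hlt
        push_neg at hlt
        have : p * (3 * c) < p * d := by nlinarith
        nlinarith
      rw [Nat.mul_sub]
      have : p * (3 * c) = 3 * (p * c) := by ring
      omega
    exact hp.one_lt.ne' (Nat.dvd_one.mp h7)
  · rw [h6] at h5
    obtain ⟨d, hd'⟩ := h5
    have h7 : p ∣ 2 := by
      refine ⟨4 * c - d, ?_⟩
      have hcd : d ≤ 4 * c := by
        by_contra hlt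
        push_neg at hlt
        have : p * (4 * c) < p * d := by nlinarith
        nlinarith
      rw [Nat.mul_sub]
      have : p * (4 * c) = 4 * (p * c) := by ring
      omega
    have := Nat.le_of_dvd (by norm_num) h7
    omega

end main

/-- a copy of a finite group in `Type` -/
theorem exists_type0_copy (K : Type u) [Group K] [Finite K] :
    ∃ (P : Type) (_ : Group P) (_ : Finite P), Nonempty (K ≃* P) := by
  let e : K ≃ {i : ℕ // i < Nat.card K} := (Finite.equivFin K).trans Fin.equivSubtype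
  letI : Group {i : ℕ // i < Nat.card K} := e.symm.group
  exact ⟨{i : ℕ // i < Nat.card K}, inferInstance, Finite.of_equiv K e,
    ⟨(e.symm.mulEquiv).symm⟩⟩

section structure_

variable {G : Type u} [Group G] [Finite G] {n : ℕ}

theorem prime_exponent [Nontrivial G] {p k : ℕ} (hp : p.Prime) (hcard : Nat.card G = p ^ k)
    (hno : ∀ g : G, ¬ p ^ 2 ∣ orderOf g) : Monoid.exponent G = p := by
  rw [Monoid.exponent_eq_prime_iff hp]
  intro g hg
  have h1 : orderOf g ∣ p ^ k := by rw [← hcard]; exact orderOf_dvd_natCard g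
  obtain ⟨j, -, hj⟩ := (Nat.dvd_prime_pow hp).mp h1
  rcases Nat.lt_or_ge j 2 with h2 | h2
  · interval_cases j
    · rw [pow_zero] at hj
      exact absurd (orderOf_eq_one_iff.mp hj) hg
    · rw [hj, pow_one]
  · exfalso
    apply hno g
    rw [hj]
    exact pow_dvd_pow p h2

theorem case_odd (hval : ∀ g : G, f G (orderOf g) = 1 ∨ f G (orderOf g) = n) [Nontrivial G]
    (h2 : ¬ 2 ∣ Nat.card G) :
    ∃ p : ℕ, p.Prime ∧ IsPGroup p G ∧ 3 ≤ Nat.card G ∧ Monoid.exponent G = p := by
  have hcard1 : Nat.card G ≠ 1 := by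
    have := Finite.one_lt_card_iff_nontrivial.mpr (inferInstance : Nontrivial G)
    omega
  obtain ⟨p, hp, hpd⟩ := Nat.exists_prime_and_dvd hcard1
  have hp2 : p ≠ 2 := by rintro rfl; exact h2 hpd
  have huniq : ∀ {d : ℕ}, d.Prime → d ∣ Nat.card G → d = p := by
    intro d hd hdd
    have hd2 : d ≠ 2 := by rintro rfl; exact h2 hdd
    exact odd_prime_unique hval hd hd2 hp hp2 hdd hpd
  have hcard := Nat.eq_prime_pow_of_unique_prime_dvd Nat.card_pos.ne' huniq
  haveI : Fact p.Prime := ⟨hp⟩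
  refine ⟨p, hp, IsPGroup.of_card hcard, ?_, ?_⟩
  · have := Nat.le_of_dvd Nat.card_pos hpd
    have := hp.two_le
    omega
  · exact prime_exponent hp hcard (fun g => no_prime_sq hval hp hp2 g)

theorem atMostOne_of_f_two (h2 : f G 2 = 1) : AtMostOneOrderP 2 G := by
  intro H K hH hK
  have key : ∀ L : Subgroup G, Nat.card L = 2 →
      ∃ x : G, orderOf x = 2 ∧ L = Subgroup.zpowers x := by
    intro L hL
    haveI : Fact (Nat.Prime 2) := ⟨Nat.prime_two⟩
    obtain ⟨x, hx⟩ := exists_prime_orderOf_dvd_card' (G := L) 2 (by rw [hL])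
    have hxo : orderOf (x : G) = 2 := by rw [Subgroup.orderOf_coe]; exact hx
    refine ⟨(x : G), hxo, ?_⟩
    symm
    apply Subgroup.eq_of_le_of_card_ge (Subgroup.zpowers_le.mpr x.2)
    rw [Nat.card_zpowers, hxo, hL]
  obtain ⟨x, hx, rfl⟩ := key H hH
  obtain ⟨y, hy, rfl⟩ := key K hK
  haveI : Subsingleton {g : G // orderOf g = 2} := (Nat.card_eq_one_iff_unique.mp h2).1
  have : (⟨x, hx⟩ : {g : G // orderOf g = 2}) = ⟨y, hy⟩ := Subsingleton.elim _ _
  rw [Subtype.mk.injEq] at this
  rw [this]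

theorem case_two (hn : n ≠ 1) (hval : ∀ g : G, f G (orderOf g) = 1 ∨ f G (orderOf g) = n)
    (hex : ∃ g : G, f G (orderOf g) = n) [Nontrivial G] {k : ℕ} (hcard : Nat.card G = 2 ^ k) :
    (∃ p : ℕ, p.Prime ∧ IsPGroup p G ∧ 3 ≤ Nat.card G ∧ Monoid.exponent G = p) ∨
      Nonempty (G ≃* QuaternionGroup 2) ∨ (IsCyclic G ∧ Nat.card G = 4) := by
  haveI : Fact (Nat.Prime 2) := ⟨Nat.prime_two⟩
  have hG : IsPGroup 2 G := IsPGroup.of_card hcard
  by_cases h4 : ∃ g : G, 4 ∣ orderOf g
  · right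
    obtain ⟨g, hg⟩ := h4
    obtain ⟨y, hy⟩ := exists_orderOf_eq_of_dvd (G := G) (by norm_num) g hg
    obtain ⟨h2, -, -⟩ := four_facts hval y hy
    have hd4 : 4 ∣ Nat.card G := by rw [← hy]; exact orderOf_dvd_natCard y
    rcases cyclic_or_quaternion_of_atMostOne hG (atMostOne_of_f_two h2) with hc | ⟨j, hj, ⟨e⟩⟩
    · right
      refine ⟨hc, ?_⟩
      obtain ⟨x, hx⟩ := hc.exists_generator
      have hxo : orderOf x = Nat.card G := orderOf_eq_card_of_forall_mem_zpowers hx
      have h8 : ¬ 8 ∣ Nat.card G := by rw [← hxo]; exact no_eight hval x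
      rw [hcard] at hd4 h8 ⊢
      have hk2 : 2 ≤ k := by
        by_contra hlt
        push_neg at hlt
        interval_cases k <;> omega
      have hk3 : k < 3 := by
        by_contra hge
        push_neg at hge
        apply h8
        exact (pow_dvd_pow 2 hge : 2 ^ 3 ∣ 2 ^ k)
      have : k = 2 := by omega
      rw [this]; norm_num
    · left
      have hxo : orderOf (e.symm (QuaternionGroup.a 1)) = 2 * 2 ^ j := by
        rw [MulEquiv.orderOf_eq]; exact QuaternionGroup.orderOf_a_one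
      have h8 := no_eight hval (e.symm (QuaternionGroup.a 1))
      rw [hxo] at h8
      have hj2 : j < 2 := by
        by_contra hge
        push_neg at hge
        apply h8
        have h4 : (2 : ℕ) ^ 2 ∣ 2 ^ j := pow_dvd_pow 2 hge
        obtain ⟨c, hc⟩ := h4
        exact ⟨c, by rw [hc]; ring⟩
      obtain rfl : j = 1 := by omega
      exact ⟨e⟩
  · left
    push_neg at h4
    refine ⟨2, Nat.prime_two, hG, ?_, prime_exponent Nat.prime_two hcard (fun g => by
      norm_num; exact h4 g)⟩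
    -- `3 ≤ |G|`
    by_contra hlt
    push_neg at hlt
    have h1 : 1 < Nat.card G := Finite.one_lt_card_iff_nontrivial.mpr inferInstance
    have hc2 : Nat.card G = 2 := by omega
    obtain ⟨g₀, hg₀⟩ := hex
    have ho : orderOf g₀ ∣ 2 := by rw [← hc2]; exact orderOf_dvd_natCard g₀
    rcases (Nat.dvd_prime Nat.prime_two).mp ho with h | h
    · rw [h, f_one] at hg₀
      exact hn hg₀.symm
    · rw [h] at hg₀
      have hle : f G 2 ≤ Nat.card G := by
        unfold f
        exact Nat.card_le_card_of_injective Subtype.val Subtype.val_injective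
      have hpos : 0 < f G 2 := by rw [← h]; exact f_pos g₀
      have hodd := frob_prime (G := G) Nat.prime_two (by rw [hc2])
      rw [hg₀] at hle hpos hodd
      rw [hc2] at hle
      have : n = 2 := by omega
      rw [this] at hodd
      omega

theorem case_mixed (hval : ∀ g : G, f G (orderOf g) = 1 ∨ f G (orderOf g) = n) {p : ℕ}
    (hp : p.Prime) (hp2 : p ≠ 2) (hdp : p ∣ Nat.card G) (hd2 : 2 ∣ Nat.card G) :
    ∃ (P : Type) (_ : Group P) (_ : Finite P), IsPGroup p P ∧ Monoid.exponent P = p ∧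
      Nonempty (G ≃* Multiplicative (ZMod 2) × P) := by
  haveI : Fact p.Prime := ⟨hp⟩
  haveI : Fact (Nat.Prime 2) := ⟨Nat.prime_two⟩
  obtain ⟨h2, -⟩ := mixed_facts hval hp hp2 hdp hd2
  have hno4 := no_four_of_mixed hval hp hp2 hdp
  have hf4 : f G 4 = 0 := f_eq_zero (fun g hg => hno4 g (by rw [hg]))
  have hn4 : ¬ 4 ∣ Nat.card G := by
    intro h4
    have := frob_prime_sq (G := G) Nat.prime_two (by norm_num; exact h4)
    rw [h2] at this
    norm_num at this
    rw [hf4] at this
    omega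
  obtain ⟨m, hm⟩ := hd2
  have hmodd : ¬ 2 ∣ m := by
    rintro ⟨c, rfl⟩
    apply hn4; rw [hm]; exact ⟨c, by ring⟩
  have hm0 : m ≠ 0 := by
    rintro rfl
    rw [mul_zero] at hm
    exact Nat.card_pos.ne' hm
  have huniq : ∀ {d : ℕ}, d.Prime → d ∣ m → d = p := by
    intro d hd hdm
    have hd2' : d ≠ 2 := by rintro rfl; exact hmodd hdm
    exact odd_prime_unique hval hd hd2' hp hp2 (by rw [hm]; exact Dvd.dvd.mul_left hdm 2) hdp
  have hmp := Nat.eq_prime_pow_of_unique_prime_dvd hm0 huniq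
  obtain ⟨j, hj⟩ : ∃ j, j = m.primeFactorsList.length := ⟨_, rfl⟩
  rw [← hj] at hmp
  have hj0 : j ≠ 0 := by
    rintro rfl
    rw [pow_zero] at hmp
    rw [hmp, mul_one] at hm
    rw [hm] at hdp
    exact hp2 ((Nat.prime_dvd_prime_iff_eq hp Nat.prime_two).mp hdp)
  obtain ⟨K, hK⟩ := Sylow.exists_subgroup_card_pow_prime p
    (show p ^ j ∣ Nat.card G by rw [hm, ← hmp]; exact dvd_mul_left m 2)
  obtain ⟨z, hz⟩ := exists_prime_orderOf_dvd_card' (G := G) 2 ⟨m, hm⟩
  haveI : Subsingleton {g : G // orderOf g = 2} := (Nat.card_eq_one_iff_unique.mp h2).1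
  have hzc : ∀ g : G, g * z * g⁻¹ = z := by
    intro g
    have ho : orderOf (g * z * g⁻¹) = 2 := by
      rw [← hz]; exact MulEquiv.orderOf_eq (MulAut.conj g) z
    have : (⟨g * z * g⁻¹, ho⟩ : {g : G // orderOf g = 2}) = ⟨z, hz⟩ := Subsingleton.elim _ _
    rwa [Subtype.mk.injEq] at this
  have hzcomm : ∀ g : G, Commute z g := by
    intro g
    show z * g = g * z
    calc z * g = (g * z * g⁻¹) * g := by rw [hzc g]
      _ = g * z := by group
  have hAcomm : ∀ a ∈ Subgroup.zpowers z, ∀ g : G, Commute a g := by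
    intro a ha g
    obtain ⟨i, rfl⟩ := Subgroup.mem_zpowers_iff.mp ha
    exact (hzcomm g).zpow_left i
  have hAcard : Nat.card (Subgroup.zpowers z) = 2 := by rw [Nat.card_zpowers, hz]
  have hcop : Nat.Coprime (Nat.card (Subgroup.zpowers z)) (Nat.card K) := by
    rw [hAcard, hK]
    exact Nat.Coprime.pow_right j ((Nat.coprime_primes Nat.prime_two hp).mpr (Ne.symm hp2))
  have hinf : Subgroup.zpowers z ⊓ K = ⊥ := Subgroup.inf_eq_bot_of_coprime hcop
  let ψ : (Subgroup.zpowers z) × K →* G :=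
    (Subgroup.zpowers z).subtype.noncommCoprod K.subtype (fun a k => hAcomm a a.2 k)
  have hψ : ∀ a : Subgroup.zpowers z, ∀ k : K, ψ (a, k) = (a : G) * (k : G) := fun a k => rfl
  have hψinj : Function.Injective ψ := by
    rw [injective_iff_map_eq_one]
    rintro ⟨a, k⟩ hak
    rw [hψ] at hak
    have hmem : (a : G) ∈ Subgroup.zpowers z ⊓ K := by
      refine Subgroup.mem_inf.mpr ⟨a.2, ?_⟩
      have : (a : G) = (k : G)⁻¹ := eq_inv_of_mul_eq_one_left hak
      rw [this]; exact K.inv_mem k.2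
    rw [hinf, Subgroup.mem_bot] at hmem
    have hk1 : (k : G) = 1 := by rw [hmem, one_mul] at hak; exact hak
    exact Prod.ext (Subtype.ext hmem) (Subtype.ext hk1)
  have hψbij : Function.Bijective ψ := by
    rw [Nat.bijective_iff_injective_and_card]
    refine ⟨hψinj, ?_⟩
    rw [Nat.card_prod, hAcard, hK, hm, hmp]
  let E₁ : (Subgroup.zpowers z) × K ≃* G := MulEquiv.ofBijective ψ hψbij
  have hZcard : Nat.card (Multiplicative (ZMod 2)) = 2 := by
    rw [Nat.card_eq_fintype_card, Fintype.card_multiplicative, ZMod.card]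
  let eA : (Subgroup.zpowers z) ≃* Multiplicative (ZMod 2) := mulEquivOfPrimeCardEq hAcard hZcard
  obtain ⟨P, hPg, hPf, ⟨eK⟩⟩ := exists_type0_copy K
  refine ⟨P, hPg, hPf, ?_, ?_, ⟨E₁.symm.trans (MulEquiv.prodCongr eA eK)⟩⟩
  · exact (IsPGroup.of_card hK).of_equiv eK
  · rw [← Monoid.exponent_eq_of_mulEquiv eK]
    haveI : Nontrivial K := by
      rw [← Finite.one_lt_card_iff_nontrivial, hK]
      exact Nat.one_lt_pow hj0 hp.one_lt
    exact prime_exponent hp hK (fun k => by
      rw [← Subgroup.orderOf_coe]; exact no_prime_sq hval hp hp2 (k : G))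

end structure_

theorem result {G : Type*} [Group G] [Finite G] (n : ℕ) (hn : n ≠ 1) (h : ((fun m : ℕ => Nat.card {g : G // orderOf g = m}) '' Set.range (orderOf : G → ℕ)) = {1, n}) :
    (∃ p : ℕ, p.Prime ∧ IsPGroup p G ∧ 3 ≤ Nat.card G ∧ Monoid.exponent G = p) ∨
      Nonempty (G ≃* QuaternionGroup 2) ∨ (IsCyclic G ∧ Nat.card G = 4) ∨
      (∃ (p : ℕ) (P : Type) (_ : Group P) (_ : Finite P), p.Prime ∧ p ≠ 2 ∧ IsPGroup p P ∧ Monoid.exponent P = p ∧
        Nonempty (G ≃* Multiplicative (ZMod 2) × P)) := by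
  have hval : ∀ g : G, f G (orderOf g) = 1 ∨ f G (orderOf g) = n := by
    intro g
    have hmem : f G (orderOf g) ∈ ((fun m : ℕ => Nat.card {g : G // orderOf g = m}) ''
        Set.range (orderOf : G → ℕ)) := ⟨orderOf g, ⟨g, rfl⟩, rfl⟩
    rw [h] at hmem
    simpa using hmem
  have hex : ∃ g : G, f G (orderOf g) = n := by
    have hmem : n ∈ ((fun m : ℕ => Nat.card {g : G // orderOf g = m}) ''
        Set.range (orderOf : G → ℕ)) := by rw [h]; simp
    obtain ⟨m, ⟨g, rfl⟩, hm⟩ := hmem
    exact ⟨g, hm⟩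
  haveI : Nontrivial G := by
    obtain ⟨g₀, hg₀⟩ := hex
    refine ⟨⟨g₀, 1, ?_⟩⟩
    rintro rfl
    rw [orderOf_one, f_one] at hg₀
    exact hn hg₀.symm
  by_cases hd2 : 2 ∣ Nat.card G
  · by_cases hodd : ∃ p : ℕ, p.Prime ∧ p ≠ 2 ∧ p ∣ Nat.card G
    · obtain ⟨p, hp, hp2, hdp⟩ := hodd
      obtain ⟨P, hPg, hPf, h1, h2, h3⟩ := case_mixed hval hp hp2 hdp hd2
      exact Or.inr (Or.inr (Or.inr ⟨p, P, hPg, hPf, hp, hp2, h1, h2, h3⟩))
    · push_neg at hodd
      have huniq : ∀ {d : ℕ}, d.Prime → d ∣ Nat.card G → d = 2 := by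
        intro d hd hdd
        by_contra hd2'
        exact hodd d hd hd2' hdd
      have hcard := Nat.eq_prime_pow_of_unique_prime_dvd Nat.card_pos.ne' huniq
      rcases case_two hn hval hex hcard with h1 | h1 | h1
      · exact Or.inl h1
      · exact Or.inr (Or.inl h1)
      · exact Or.inr (Or.inr (Or.inl h1))
  · exact Or.inl (case_odd hval hd2)

end Cfsg.Agent.S3995
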