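import Cfsg.Statements.S1124
import Mathlib
import Cfsg.Agent.Lib.H6.Dihedral

set_option autoImplicit false
open scoped Pointwise
open Cfsg

namespace Cfsg.Agent.S1124

theorem odd_orderOf_of_mem {M : Type*} [Group M] [Finite M] {X : Subgroup M} (hodd : Odd (Nat.card X))
    {x : M} (hx : x ∈ X) : Odd (orderOf x) := by
  have h1 : orderOf (⟨x, hx⟩ : X) ∣ Nat.card X := orderOf_dvd_natCard _
  have h2 : orderOf (⟨x, hx⟩ : X) = orderOf x := by
    rw [← Subgroup.orderOf_coe]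
  rw [h2] at h1
  exact Odd.of_dvd_nat hodd h1

/-- existence of the decomposition -/
theorem exists_decomp {M : Type*} [Group M] [Finite M]
    (t : M) (ht : t * t = 1) (X : Subgroup M) (hodd : Odd (Nat.card X))
    (hnorm : ∀ x ∈ X, t * x * t⁻¹ ∈ X) (x : M) (hx : x ∈ X) :
    ∃ y z : M, y ∈ X ∧ t * y = y * t ∧ z ∈ X ∧ t * z * t⁻¹ = z⁻¹ ∧ x = y * z := by
  have htinv : t⁻¹ = t := inv_eq_of_mul_eq_one_right ht
  obtain ⟨w, hw⟩ : ∃ w, w = (t * x⁻¹ * t⁻¹) * x := ⟨_, rfl⟩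
  have hwX : w ∈ X := by rw [hw]; exact X.mul_mem (hnorm _ (X.inv_mem hx)) hx
  have hwinv : t * w * t⁻¹ = w⁻¹ := by
    rw [hw, htinv]
    calc t * (t * x⁻¹ * t * x) * t = (t * t) * (x⁻¹ * t * x * t) := by group
      _ = x⁻¹ * t * x * t := by rw [ht, one_mul]
      _ = x⁻¹ * t⁻¹ * x * t⁻¹ := by rw [htinv]
      _ = (t * x⁻¹ * t * x)⁻¹ := by group
  obtain ⟨j, hj⟩ := odd_orderOf_of_mem hodd hwX
  obtain ⟨z, hz⟩ : ∃ z, z = w ^ (j + 1) := ⟨_, rfl⟩
  have hzX : z ∈ X := by rw [hz]; exact X.pow_mem hwX _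
  have hzz : z * z = w := by
    rw [hz, ← pow_add]
    have : j + 1 + (j + 1) = orderOf w + 1 := by omega
    rw [this, pow_succ, pow_orderOf_eq_one, one_mul]
  have hzinv : t * z * t⁻¹ = z⁻¹ := by
    have : t * w ^ (j + 1) * t⁻¹ = (t * w * t⁻¹) ^ (j + 1) := by rw [conj_pow]
    rw [hz, this, hwinv, inv_pow]
  refine ⟨x * z⁻¹, z, X.mul_mem hx (X.inv_mem hzX), ?_, hzX, hzinv, by group⟩
  -- t (x z⁻¹) = (x z⁻¹) t
  have h1 : t * z⁻¹ * t⁻¹ = z := by
    calc t * z⁻¹ * t⁻¹ = (t * z * t⁻¹)⁻¹ := by group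
      _ = z := by rw [hzinv, inv_inv]
  have h2 : x⁻¹ * (t * x * t⁻¹) = w⁻¹ := by
    rw [hw]; group
  have h3 : t * x * t⁻¹ = x * w⁻¹ := by
    rw [← h2]; group
  calc t * (x * z⁻¹) = (t * x * t⁻¹) * (t * z⁻¹ * t⁻¹) * t := by group
    _ = x * w⁻¹ * z * t := by rw [h3, h1]
    _ = x * (z * z)⁻¹ * z * t := by rw [hzz]
    _ = x * z⁻¹ * t := by group

/-- uniqueness of the decomposition -/
theorem decomp_unique {M : Type*} [Group M] [Finite M]
    (t : M) (ht : t * t = 1) (X : Subgroup M) (hodd : Odd (Nat.card X))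
    (y z y' z' : M) (hy : t * y = y * t) (hzX : z ∈ X) (hz : t * z * t⁻¹ = z⁻¹)
    (hy' : t * y' = y' * t) (hz'X : z' ∈ X) (hz' : t * z' * t⁻¹ = z'⁻¹)
    (h : y * z = y' * z') : y = y' ∧ z = z' := by
  have key : ∀ y z : M, t * y = y * t → t * z * t⁻¹ = z⁻¹ →
      (t * (y * z)⁻¹ * t⁻¹) * (y * z) = z ^ 2 := by
    intro y z hy hz
    have h1 : t * z⁻¹ * t⁻¹ = z := by
      calc t * z⁻¹ * t⁻¹ = (t * z * t⁻¹)⁻¹ := by group
        _ = z := by rw [hz, inv_inv]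
    have h2 : t * y⁻¹ * t⁻¹ = y⁻¹ := by
      calc t * y⁻¹ * t⁻¹ = (t * y * t⁻¹)⁻¹ := by group
        _ = y⁻¹ := by rw [hy]; group
    calc (t * (y * z)⁻¹ * t⁻¹) * (y * z) = (t * z⁻¹ * t⁻¹) * (t * y⁻¹ * t⁻¹) * y * z := by group
      _ = z ^ 2 := by rw [h1, h2, pow_two]; group
  have e1 := key y z hy hz
  have e2 := key y' z' hy' hz'
  rw [h, e2] at e1
  have hzz : z = z' := (Cfsg.Agent.Lib.H6.eq_of_sq_eq_of_odd (odd_orderOf_of_mem hodd hz'X)
    (odd_orderOf_of_mem hodd hzX) e1).symm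
  subst hzz
  exact ⟨mul_right_cancel h, rfl⟩


/-- Let `t` be an element of order 2 of a finite group normalising a subgroup `X` of odd order, `Y = C_X(t)` and `Z` the set of elements of `X` inverted by `t`. Then `(y, z) ↦ y z` is a bijection `Y × Z → X`, so `|X| = |Y| |Z|`, and the subgroup generated by `Z` is normal in `X`. -/
theorem result {M : Type*} [Group M] [Finite M]
    (t : M) (ht : orderOf t = 2) (X : Subgroup M) (hodd : Odd (Nat.card X))
    (hnorm : ∀ x ∈ X, t * x * t⁻¹ ∈ X) :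
    (∀ x ∈ X, ∃! p : M × M, p.1 ∈ X ⊓ Subgroup.centralizer {t} ∧ p.2 ∈ Cfsg.invertedBy X t ∧ x = p.1 * p.2) ∧
      Nat.card X = Nat.card ↥(X ⊓ Subgroup.centralizer {t}) * Nat.card (Cfsg.invertedBy X t) ∧
      ∀ x ∈ X, MulAut.conj x • Subgroup.closure (Cfsg.invertedBy X t) = Subgroup.closure (Cfsg.invertedBy X t) := by
  have ht2 : t * t = 1 := by
    have := pow_orderOf_eq_one t
    rw [ht, pow_two] at this; exact this
  have htinv : t⁻¹ = t := inv_eq_of_mul_eq_one_right ht2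
  have memC : ∀ y : M, y ∈ Subgroup.centralizer ({t} : Set M) ↔ t * y = y * t := by
    intro y
    rw [Subgroup.mem_centralizer_iff]
    constructor
    · intro h; exact h t (Set.mem_singleton t)
    · intro h s hs; rw [Set.mem_singleton_iff] at hs; subst hs; exact h
  have part1 : ∀ x ∈ X, ∃! p : M × M, p.1 ∈ X ⊓ Subgroup.centralizer {t} ∧
      p.2 ∈ Cfsg.invertedBy X t ∧ x = p.1 * p.2 := by
    intro x hx
    obtain ⟨y, z, hyX, hyt, hzX, hzt, hxyz⟩ := exists_decomp t ht2 X hodd hnorm x hx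
    refine ⟨(y, z), ⟨Subgroup.mem_inf.mpr ⟨hyX, (memC y).mpr hyt⟩, ⟨hzX, hzt⟩, hxyz⟩, ?_⟩
    rintro ⟨y', z'⟩ ⟨hy', ⟨hz'X, hz't⟩, hx'⟩
    rw [Subgroup.mem_inf] at hy'
    simp only at hy' hz'X hz't hx'
    have := decomp_unique t ht2 X hodd y' z' y z ((memC y').mp hy'.2) hz'X hz't hyt hzX hzt
      (by rw [← hx', ← hxyz])
    rw [Prod.mk.injEq]
    exact this
  refine ⟨part1, ?_, ?_⟩
  · -- cardinality via a bijection
    let f : ↥(X ⊓ Subgroup.centralizer ({t} : Set M)) × ↥(Cfsg.invertedBy X t) → ↥X :=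
      fun p => ⟨(p.1 : M) * (p.2 : M), X.mul_mem (Subgroup.mem_inf.mp p.1.2).1 p.2.2.1⟩
    have hf : Function.Bijective f := by
      constructor
      · rintro ⟨⟨y, hy⟩, ⟨z, hz⟩⟩ ⟨⟨y', hy'⟩, ⟨z', hz'⟩⟩ h
        have h' : y * z = y' * z' := congrArg Subtype.val h
        have := decomp_unique t ht2 X hodd y z y' z' ((memC y).mp (Subgroup.mem_inf.mp hy).2) hz.1 hz.2
          ((memC y').mp (Subgroup.mem_inf.mp hy').2) hz'.1 hz'.2 h'
        obtain ⟨rfl, rfl⟩ := this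
        rfl
      · rintro ⟨x, hx⟩
        obtain ⟨y, z, hyX, hyt, hzX, hzt, hxyz⟩ := exists_decomp t ht2 X hodd hnorm x hx
        exact ⟨(⟨y, Subgroup.mem_inf.mpr ⟨hyX, (memC y).mpr hyt⟩⟩, ⟨z, ⟨hzX, hzt⟩⟩),
          Subtype.ext hxyz.symm⟩
    rw [← Nat.card_prod]
    exact (Nat.card_congr (Equiv.ofBijective f hf)).symm
  · intro x hx
    obtain ⟨y, z, hyX, hyt, hzX, hzt, hxyz⟩ := exists_decomp t ht2 X hodd hnorm x hx
    have hyN : y ∈ Subgroup.normalizer ((Subgroup.closure (Cfsg.invertedBy X t) : Subgroup M) : Set M) := by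
      apply Subgroup.normalizer_le_normalizer_closure
      rw [Subgroup.mem_set_normalizer_iff]
      have hyt' : t * y⁻¹ = y⁻¹ * t := by
        calc t * y⁻¹ = y⁻¹ * (y * t) * y⁻¹ := by group
          _ = y⁻¹ * (t * y) * y⁻¹ := by rw [hyt]
          _ = y⁻¹ * t := by group
      have aux : ∀ (u : M), u ∈ X → t * u = u * t → ∀ h : M, h ∈ Cfsg.invertedBy X t →
          u * h * u⁻¹ ∈ Cfsg.invertedBy X t := by
        intro u huX hut h hh
        refine ⟨X.mul_mem (X.mul_mem huX hh.1) (X.inv_mem huX), ?_⟩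
        have hut' : t * u⁻¹ = u⁻¹ * t := by
          calc t * u⁻¹ = u⁻¹ * (u * t) * u⁻¹ := by group
            _ = u⁻¹ * (t * u) * u⁻¹ := by rw [hut]
            _ = u⁻¹ * t := by group
        have h1 : t * u * t⁻¹ = u := by rw [hut]; group
        have h2 : t * u⁻¹ * t⁻¹ = u⁻¹ := by rw [hut']; group
        calc t * (u * h * u⁻¹) * t⁻¹ = (t * u * t⁻¹) * (t * h * t⁻¹) * (t * u⁻¹ * t⁻¹) := by group
          _ = u * h⁻¹ * u⁻¹ := by rw [h1, hh.2, h2]
          _ = (u * h * u⁻¹)⁻¹ := by group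
      intro h
      constructor
      · intro hh; exact aux y hyX hyt h hh
      · intro hh
        have := aux y⁻¹ (X.inv_mem hyX) hyt' _ hh
        have e : y⁻¹ * (y * h * y⁻¹) * y⁻¹⁻¹ = h := by group
        rw [e] at this; exact this
    have hzN : z ∈ Subgroup.normalizer ((Subgroup.closure (Cfsg.invertedBy X t) : Subgroup M) : Set M) :=
      Subgroup.le_normalizer (Subgroup.subset_closure ⟨hzX, hzt⟩)
    have hxN : x ∈ Subgroup.normalizer ((Subgroup.closure (Cfsg.invertedBy X t) : Subgroup M) : Set M) := by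
      rw [hxyz]; exact Subgroup.mul_mem _ hyN hzN
    ext w
    rw [Subgroup.mem_pointwise_smul_iff_inv_smul_mem, MulAut.smul_def, ← map_inv, MulAut.conj_apply, inv_inv]
    exact ((Subgroup.mem_normalizer_iff''.mp hxN) w).symm

end Cfsg.Agent.S1124
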