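import Cfsg.Statements.S1225
import Cfsg.Agent.Lib.H6.StrEmb

set_option autoImplicit false
open Cfsg

namespace Cfsg.Agent.S1225

open Cfsg.Agent.Lib.H6.SE

/-- any two involutions of `H` are conjugate under `H ∩ uHu⁻¹`. -/
theorem exists_D_conj {G : Type*} [Group G] [Finite G] {H : Subgroup G} (hH : Cfsg.IsStronglyEmbedded H)
    {u : G} (hu : orderOf u = 2) (huH : u ∉ H) {s t : G} (hs : orderOf s = 2) (hsH : s ∈ H)
    (ht : orderOf t = 2) (htH : t ∈ H) :
    ∃ d ∈ (H ⊓ H.map (MulAut.conj u).toMonoidHom), d * s * d⁻¹ = t := by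
  have huinv := inv_eq hu
  have huu := sq_eq_one hu
  -- the points x = H and y = uH
  have hx1 : ∀ h : G, h ∈ H ↔ h • (QuotientGroup.mk 1 : G ⧸ H) = QuotientGroup.mk 1 := by
    intro h
    rw [smul_mk_eq_iff]
    simp
  have hsx := (hx1 s).mp hsH
  have htx := (hx1 t).mp htH
  have hxy : (QuotientGroup.mk 1 : G ⧸ H) ≠ u • (QuotientGroup.mk 1 : G ⧸ H) := by
    intro h
    exact huH ((hx1 u).mpr h.symm)
  -- j = u s u⁻¹ fixes y
  have hj : orderOf (u * s * u⁻¹) = 2 := orderOf_conj hs u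
  have hjy : (u * s * u⁻¹) • (u • (QuotientGroup.mk 1 : G ⧸ H)) = u • (QuotientGroup.mk 1 : G ⧸ H) := by
    rw [mul_smul, mul_smul, inv_smul_smul, hsx]
  obtain ⟨u', hu', hconj, hu'x, hu'y⟩ := exists_swap hH ht hj htx hjy hxy
  have hu'inv := inv_eq hu'
  have hu'u' := sq_eq_one hu'
  refine ⟨u' * u, ?_, ?_⟩
  · rw [Subgroup.mem_inf, Cfsg.Agent.Lib.H6.mem_map_conj_iff, hx1, hx1]
    constructor
    · rw [mul_smul, hu'y]
    · rw [mul_smul, mul_smul, mul_smul, ← mul_smul u u, huu, one_smul, hu'x, inv_smul_smul]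
  · have e : u' * u * s * (u' * u)⁻¹ = u' * (u * s * u⁻¹) * u'⁻¹ := by group
    rw [e, ← hconj, hu'inv]
    have e2 : u' * (u' * t * u') * u' = (u' * u') * t * (u' * u') := by group
    rw [e2, hu'u', one_mul, mul_one]

/-- Let H be a strongly embedded subgroup of the finite group G, u an involution outside H and D = H ∩ uHu⁻¹. Then any two involutions of H are conjugate by an element of D, and any two involutions of G are conjugate in G. -/
theorem result {G : Type*} [Group G] [Finite G] (H : Subgroup G) (hH : Cfsg.IsStronglyEmbedded H) (u : G) (hu : orderOf u = 2) (huH : u ∉ H) (s t : G) (hs : orderOf s = 2) (hsH : s ∈ H) (ht : orderOf t = 2) (htH : t ∈ H) : (∃ d ∈ (H ⊓ H.map (MulAut.conj u).toMonoidHom), d * s * d⁻¹ = t) ∧ ∀ a b : G, orderOf a = 2 → orderOf b = 2 → IsConj a b := by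

  refine ⟨exists_D_conj hH hu huH hs hsH ht htH, ?_⟩
  intro a b ha hb
  -- conjugate a and b into H
  obtain ⟨xa, hxa⟩ := exists_fix hH ha
  obtain ⟨xb, hxb⟩ := exists_fix hH hb
  induction xa using QuotientGroup.induction_on with
  | H ga =>
    induction xb using QuotientGroup.induction_on with
    | H gb =>
      rw [smul_mk_eq_iff] at hxa hxb
      obtain ⟨d, -, hd⟩ := exists_D_conj hH hu huH (orderOf_conj' ha ga) hxa (orderOf_conj' hb gb) hxb
      rw [isConj_iff]
      refine ⟨gb * d * ga⁻¹, ?_⟩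
      calc gb * d * ga⁻¹ * a * (gb * d * ga⁻¹)⁻¹ = gb * (d * (ga⁻¹ * a * ga) * d⁻¹) * gb⁻¹ := by group
        _ = gb * (gb⁻¹ * b * gb) * gb⁻¹ := by rw [hd]
        _ = b := by group

end Cfsg.Agent.S1225
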