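import Cfsg.Statements.S1228
import Cfsg.Agent.Lib.H6.CIT3

set_option autoImplicit false
open Cfsg

namespace Cfsg.Agent.S1228

open Cfsg.Agent.Lib.H6.CIT Cfsg.Agent.Lib.H6.SE

variable {G : Type*} [Group G] [Finite G] (T : Sylow 2 G)
  (hC : ∀ t : G, orderOf t = 2 → IsMulCommutative (Subgroup.centralizer ({t} : Set G)) ∧
    ∀ c ∈ Subgroup.centralizer ({t} : Set G), c ^ 2 = 1)
  (hnc : ¬ IsCyclic (T : Subgroup G)) (hnn : ¬ (T : Subgroup G).Normal)
  {u : G} (hu : orderOf u = 2) (huH : u ∉ Subgroup.normalizer ((T : Subgroup G) : Set G))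

include hC hnc hnn hu huH in
/-- for a coset `p ≠ H` fixed by `D` there is an involution swapping `H` and `p` and inverting `D`. -/
theorem exists_inverting_swap (g : G)
    (hp : (QuotientGroup.mk g : G ⧸ Subgroup.normalizer ((T : Subgroup G) : Set G)) ≠ QuotientGroup.mk 1)
    (hfix : ∀ d ∈ Subgroup.normalizer ((T : Subgroup G) : Set G) ⊓
      (Subgroup.normalizer ((T : Subgroup G) : Set G)).map (MulAut.conj u).toMonoidHom,
      d • (QuotientGroup.mk g : G ⧸ Subgroup.normalizer ((T : Subgroup G) : Set G)) = QuotientGroup.mk g) :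
    ∃ u' : G, orderOf u' = 2 ∧
      u' • (QuotientGroup.mk 1 : G ⧸ Subgroup.normalizer ((T : Subgroup G) : Set G)) = QuotientGroup.mk g ∧
      u' • (QuotientGroup.mk g : G ⧸ Subgroup.normalizer ((T : Subgroup G) : Set G)) = QuotientGroup.mk 1 ∧
      ∀ d ∈ Subgroup.normalizer ((T : Subgroup G) : Set G) ⊓
        (Subgroup.normalizer ((T : Subgroup G) : Set G)).map (MulAut.conj u).toMonoidHom,
        u' * d * u'⁻¹ = d⁻¹ := by
  have hT := T_ne_bot T hnc
  have hSE := normalizer_stronglyEmbedded T hC hT hnn
  obtain ⟨s₀, hs₀, hs₀T, -⟩ := exists_centralizer_eq T hC hT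
  have hs₀N : s₀ ∈ Subgroup.normalizer ((T : Subgroup G) : Set G) := Subgroup.le_normalizer hs₀T
  have hix : s₀ • (QuotientGroup.mk 1 : G ⧸ Subgroup.normalizer ((T : Subgroup G) : Set G)) =
      QuotientGroup.mk 1 := by
    rw [smul_mk_eq_iff]; simpa using hs₀N
  have hjp : (g * s₀ * g⁻¹) • (QuotientGroup.mk g : G ⧸ Subgroup.normalizer ((T : Subgroup G) : Set G)) =
      QuotientGroup.mk g := by
    rw [smul_mk_eq_iff]
    have e : g⁻¹ * (g * s₀ * g⁻¹) * g = s₀ := by group
    rw [e]; exact hs₀N
  obtain ⟨u', hu', -, hu'x, hu'p⟩ := exists_swap hSE hs₀ (orderOf_conj hs₀ g) hix hjp (Ne.symm hp)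
  refine ⟨u', hu', hu'x, hu'p, ?_⟩
  have hu'H : u' ∉ Subgroup.normalizer ((T : Subgroup G) : Set G) := by
    intro h
    apply hp
    rw [← hu'x, smul_mk_eq_iff]
    simpa using h
  have hDeq := D_eq_of_fix T hC hnc hnn hu huH hu' (by rw [hu'x]; exact hp)
    (by intro d hd; rw [hu'x]; exact hfix d hd)
  intro d hd
  rw [hDeq] at hd
  exact D_inverted T hC hT hnn hu' hu'H hd

include hC hnc hnn hu huH in
/-- the cosets fixed by `D` are `H` and `uH`. -/
theorem fixed_cosets (g : G) :
    (∀ d ∈ Subgroup.normalizer ((T : Subgroup G) : Set G) ⊓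
      (Subgroup.normalizer ((T : Subgroup G) : Set G)).map (MulAut.conj u).toMonoidHom,
      d • (QuotientGroup.mk g : G ⧸ Subgroup.normalizer ((T : Subgroup G) : Set G)) = QuotientGroup.mk g) ↔
    (QuotientGroup.mk g : G ⧸ Subgroup.normalizer ((T : Subgroup G) : Set G)) = QuotientGroup.mk 1 ∨
      (QuotientGroup.mk g : G ⧸ Subgroup.normalizer ((T : Subgroup G) : Set G)) = QuotientGroup.mk u := by
  have hT := T_ne_bot T hnc
  have huu := sq_eq_one hu
  have huinv := inv_eq hu
  constructor
  · intro hfix
    by_contra hcon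
    push Not at hcon
    obtain ⟨hp1, hp2⟩ := hcon
    obtain ⟨up, hup, hupx, hupp, hupinv⟩ := exists_inverting_swap T hC hnc hnn hu huH g hp1 hfix
    -- c = u * up centralises D and maps H to q = (u g) H
    have hc : ∀ d ∈ Subgroup.normalizer ((T : Subgroup G) : Set G) ⊓
        (Subgroup.normalizer ((T : Subgroup G) : Set G)).map (MulAut.conj u).toMonoidHom,
        (u * up) * d * (u * up)⁻¹ = d := by
      intro d hd
      have e : (u * up) * d * (u * up)⁻¹ = u * (up * d * up⁻¹) * u⁻¹ := by group
      rw [e, hupinv d hd]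
      have := D_inverted T hC hT hnn hu huH (Subgroup.inv_mem _ hd)
      rw [this, inv_inv]
    have hq1 : (QuotientGroup.mk (u * g) : G ⧸ Subgroup.normalizer ((T : Subgroup G) : Set G)) ≠
        QuotientGroup.mk 1 := by
      intro h
      apply hp2
      have h1 : u • (QuotientGroup.mk (u * g) : G ⧸ Subgroup.normalizer ((T : Subgroup G) : Set G)) =
          u • QuotientGroup.mk 1 := by rw [h]
      have e1 : u • (QuotientGroup.mk (u * g) : G ⧸ Subgroup.normalizer ((T : Subgroup G) : Set G)) =
          QuotientGroup.mk g := by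
        show QuotientGroup.mk (u * (u * g)) = _
        rw [← mul_assoc, huu, one_mul]
      have e2 : u • (QuotientGroup.mk 1 : G ⧸ Subgroup.normalizer ((T : Subgroup G) : Set G)) =
          QuotientGroup.mk u := by
        show QuotientGroup.mk (u * 1) = _
        rw [mul_one]
      rw [e1, e2] at h1
      exact h1
    have hqfix : ∀ d ∈ Subgroup.normalizer ((T : Subgroup G) : Set G) ⊓
        (Subgroup.normalizer ((T : Subgroup G) : Set G)).map (MulAut.conj u).toMonoidHom,
        d • (QuotientGroup.mk (u * g) : G ⧸ Subgroup.normalizer ((T : Subgroup G) : Set G)) =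
          QuotientGroup.mk (u * g) := by
      intro d hd
      have e1 : (QuotientGroup.mk (u * g) : G ⧸ Subgroup.normalizer ((T : Subgroup G) : Set G)) =
          u • QuotientGroup.mk g := rfl
      rw [e1, ← mul_smul]
      have e2 : d * u = u * (u⁻¹ * d * u) := by group
      have e3 : u⁻¹ * d * u = d⁻¹ := by
        have := D_inverted T hC hT hnn hu huH hd
        rw [huinv] at this ⊢
        exact this
      rw [e2, e3, mul_smul, hfix d⁻¹ (Subgroup.inv_mem _ hd)]
    obtain ⟨uq, huq, huqx, huqq, huqinv⟩ := exists_inverting_swap T hC hnc hnn hu huH (u * g) hq1 hqfix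
    -- h = uq * u * up fixes H and inverts D
    apply no_invert T hC hnc hnn hu huH (h := uq * (u * up))
    · have hx : (uq * (u * up)) • (QuotientGroup.mk 1 : G ⧸ Subgroup.normalizer ((T : Subgroup G) : Set G)) =
          QuotientGroup.mk 1 := by
        rw [mul_smul, mul_smul, hupx]
        have e1 : u • (QuotientGroup.mk g : G ⧸ Subgroup.normalizer ((T : Subgroup G) : Set G)) =
            QuotientGroup.mk (u * g) := rfl
        rw [e1, huqq]
      rw [smul_mk_eq_iff] at hx
      simpa using hx
    · intro d hd
      have e : uq * (u * up) * d * (uq * (u * up))⁻¹ = uq * ((u * up) * d * (u * up)⁻¹) * uq⁻¹ := by group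
      rw [e, hc d hd, huqinv d hd]
  · rintro (h | h)
    · intro d hd
      rw [h]
      exact ((mem_D_iff _ u d).mp hd).1
    · intro d hd
      rw [h]
      exact ((mem_D_iff _ u d).mp hd).2

/-- Let G be a finite group with a Sylow 2-subgroup T that is neither cyclic nor normal, such that the centralizer of every involution is an elementary abelian 2-group; put H = N_G(T), let u be an involution outside H and D = H ∩ uHu⁻¹. Then N_G(D) = D ⊔ ⟨u⟩, and a coset gH is fixed by every element of D exactly when gH = H or gH = uH. -/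
theorem result {G : Type*} [Group G] [Finite G] (T : Sylow 2 G) (hnc : ¬ IsCyclic (T : Subgroup G)) (hnn : ¬ (T : Subgroup G).Normal) (hC : ∀ t : G, orderOf t = 2 → IsMulCommutative (Subgroup.centralizer ({t} : Set G)) ∧ ∀ c ∈ Subgroup.centralizer ({t} : Set G), c ^ 2 = 1) (u : G) (hu : orderOf u = 2) (huH : u ∉ Subgroup.normalizer ((T : Subgroup G) : Set G)) : Subgroup.normalizer ((Subgroup.normalizer ((T : Subgroup G) : Set G) ⊓ (Subgroup.normalizer ((T : Subgroup G) : Set G)).map (MulAut.conj u).toMonoidHom : Subgroup G) : Set G) = (Subgroup.normalizer ((T : Subgroup G) : Set G) ⊓ (Subgroup.normalizer ((T : Subgroup G) : Set G)).map (MulAut.conj u).toMonoidHom) ⊔ Subgroup.zpowers u ∧ ∀ g : G, ((∀ d ∈ Subgroup.normalizer ((T : Subgroup G) : Set G) ⊓ (Subgroup.normalizer ((T : Subgroup G) : Set G)).map (MulAut.conj u).toMonoidHom, d • (QuotientGroup.mk g : G ⧸ Subgroup.normalizer ((T : Subgroup G) : Set G)) = QuotientGroup.mk g) ↔ (QuotientGroup.mk g : G ⧸ Subgroup.normalizer ((T : Subgroup G) : Set G)) = QuotientGroup.mk 1 ∨ (QuotientGroup.mk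 g : G ⧸ Subgroup.normalizer ((T : Subgroup G) : Set G)) = QuotientGroup.mk u) := by

  have hT := T_ne_bot T hnc
  have huu := sq_eq_one hu
  have huinv := inv_eq hu
  refine ⟨?_, fun g => fixed_cosets T hC hnc hnn hu huH g⟩
  apply le_antisymm
  · intro n hn
    rw [Subgroup.mem_normalizer_iff] at hn
    -- n permutes the fixed cosets of D
    have hfix : ∀ d ∈ Subgroup.normalizer ((T : Subgroup G) : Set G) ⊓
        (Subgroup.normalizer ((T : Subgroup G) : Set G)).map (MulAut.conj u).toMonoidHom,
        d • (QuotientGroup.mk n : G ⧸ Subgroup.normalizer ((T : Subgroup G) : Set G)) = QuotientGroup.mk n := by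
      intro d hd
      have e1 : (QuotientGroup.mk n : G ⧸ Subgroup.normalizer ((T : Subgroup G) : Set G)) =
          n • QuotientGroup.mk 1 := by
        show _ = QuotientGroup.mk (n * 1)
        rw [mul_one]
      rw [e1, ← mul_smul]
      have e2 : d * n = n * (n⁻¹ * d * n) := by group
      have h1 : n⁻¹ * d * n ∈ Subgroup.normalizer ((T : Subgroup G) : Set G) ⊓
          (Subgroup.normalizer ((T : Subgroup G) : Set G)).map (MulAut.conj u).toMonoidHom := by
        rw [hn (n⁻¹ * d * n)]
        have e3 : n * (n⁻¹ * d * n) * n⁻¹ = d := by group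
        rw [e3]; exact hd
      rw [e2, mul_smul, ((mem_D_iff _ u _).mp h1).1]
    rcases (fixed_cosets T hC hnc hnn hu huH n).mp hfix with h | h
    · -- n fixes H, hence also uH
      have hnN : n ∈ Subgroup.normalizer ((T : Subgroup G) : Set G) := by
        have := (QuotientGroup.eq).mp h
        simpa using (Subgroup.inv_mem_iff _).mp (by simpa using this)
      have hfix2 : ∀ d ∈ Subgroup.normalizer ((T : Subgroup G) : Set G) ⊓
          (Subgroup.normalizer ((T : Subgroup G) : Set G)).map (MulAut.conj u).toMonoidHom,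
          d • (QuotientGroup.mk (n * u) : G ⧸ Subgroup.normalizer ((T : Subgroup G) : Set G)) =
            QuotientGroup.mk (n * u) := by
        intro d hd
        have e1 : (QuotientGroup.mk (n * u) : G ⧸ Subgroup.normalizer ((T : Subgroup G) : Set G)) =
            n • QuotientGroup.mk u := rfl
        rw [e1, ← mul_smul]
        have e2 : d * n = n * (n⁻¹ * d * n) := by group
        have h1 : n⁻¹ * d * n ∈ Subgroup.normalizer ((T : Subgroup G) : Set G) ⊓
            (Subgroup.normalizer ((T : Subgroup G) : Set G)).map (MulAut.conj u).toMonoidHom := by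
          rw [hn (n⁻¹ * d * n)]
          have e3 : n * (n⁻¹ * d * n) * n⁻¹ = d := by group
          rw [e3]; exact hd
        rw [e2, mul_smul, ((mem_D_iff _ u _).mp h1).2]
      rcases (fixed_cosets T hC hnc hnn hu huH (n * u)).mp hfix2 with h2 | h2
      · exfalso
        apply huH
        have h3 := (QuotientGroup.eq).mp h2
        have h4 : (n * u)⁻¹ * 1 = u⁻¹ * n⁻¹ := by group
        rw [h4] at h3
        have h5 : u⁻¹ = (u⁻¹ * n⁻¹) * n := by group
        have h6 : u⁻¹ ∈ Subgroup.normalizer ((T : Subgroup G) : Set G) := by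
          rw [h5]; exact Subgroup.mul_mem _ h3 hnN
        exact (Subgroup.inv_mem_iff _).mp h6
      · apply Subgroup.mem_sup_left
        rw [mem_D_iff]
        constructor
        · rw [smul_mk_eq_iff]; simpa using hnN
        · exact h2
    · -- n maps H to uH; then u n lies in D
      have e : n = u * (u * n) := by rw [← mul_assoc, huu, one_mul]
      rw [e]
      apply Subgroup.mul_mem
      · exact Subgroup.mem_sup_right (Subgroup.mem_zpowers u)
      · have hunN : u * n ∈ Subgroup.normalizer ((T : Subgroup G) : Set G) := by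
          have h3 := (QuotientGroup.eq).mp h
          have h4 : n⁻¹ * u = (u * n)⁻¹ := by rw [mul_inv_rev, huinv]
          rw [h4] at h3
          exact (Subgroup.inv_mem_iff _).mp h3
        -- u n normalises D, fixes H, hence fixes uH
        have hfix2 : ∀ d ∈ Subgroup.normalizer ((T : Subgroup G) : Set G) ⊓
            (Subgroup.normalizer ((T : Subgroup G) : Set G)).map (MulAut.conj u).toMonoidHom,
            d • (QuotientGroup.mk (u * n * u) : G ⧸ Subgroup.normalizer ((T : Subgroup G) : Set G)) =
              QuotientGroup.mk (u * n * u) := by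
          intro d hd
          have e1 : (QuotientGroup.mk (u * n * u) : G ⧸ Subgroup.normalizer ((T : Subgroup G) : Set G)) =
              (u * n) • QuotientGroup.mk u := rfl
          rw [e1, ← mul_smul]
          have e2 : d * (u * n) = (u * n) * (n⁻¹ * (u⁻¹ * d * u) * n) := by group
          have h0 : u⁻¹ * d * u ∈ Subgroup.normalizer ((T : Subgroup G) : Set G) ⊓
              (Subgroup.normalizer ((T : Subgroup G) : Set G)).map (MulAut.conj u).toMonoidHom := by
            have := D_inverted T hC hT hnn hu huH hd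
            rw [huinv] at this ⊢
            rw [this]; exact Subgroup.inv_mem _ hd
          have h1 : n⁻¹ * (u⁻¹ * d * u) * n ∈ Subgroup.normalizer ((T : Subgroup G) : Set G) ⊓
              (Subgroup.normalizer ((T : Subgroup G) : Set G)).map (MulAut.conj u).toMonoidHom := by
            rw [hn (n⁻¹ * (u⁻¹ * d * u) * n)]
            have e3 : n * (n⁻¹ * (u⁻¹ * d * u) * n) * n⁻¹ = u⁻¹ * d * u := by group
            rw [e3]; exact h0
          rw [e2, mul_smul, ((mem_D_iff _ u _).mp h1).2]
        rcases (fixed_cosets T hC hnc hnn hu huH (u * n * u)).mp hfix2 with h2 | h2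
        · exfalso
          apply huH
          have h3 := (QuotientGroup.eq).mp h2
          have h4 : (u * n * u)⁻¹ * 1 = u⁻¹ * (u * n)⁻¹ := by group
          rw [h4] at h3
          have h5 : u⁻¹ = (u⁻¹ * (u * n)⁻¹) * (u * n) := by group
          have h6 : u⁻¹ ∈ Subgroup.normalizer ((T : Subgroup G) : Set G) := by
            rw [h5]; exact Subgroup.mul_mem _ h3 hunN
          exact (Subgroup.inv_mem_iff _).mp h6
        · apply Subgroup.mem_sup_left
          rw [mem_D_iff]
          constructor
          · rw [smul_mk_eq_iff]; simpa using hunN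
          · exact h2
  · apply sup_le
    · exact Subgroup.le_normalizer
    · rw [Subgroup.zpowers_le, Subgroup.mem_normalizer_iff]
      intro d
      constructor
      · intro hd
        rw [D_inverted T hC hT hnn hu huH hd]
        exact Subgroup.inv_mem _ hd
      · intro hd
        have h1 := D_inverted T hC hT hnn hu huH hd
        have e : u * (u * d * u⁻¹) * u⁻¹ = d := by
          rw [huinv]
          calc u * (u * d * u) * u = (u * u) * d * (u * u) := by group
            _ = d := by rw [huu, one_mul, mul_one]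
        rw [e] at h1
        rw [h1]
        exact Subgroup.inv_mem _ hd

end Cfsg.Agent.S1228
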