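import Cfsg.Statements.S1229
import Cfsg.Agent.Lib.H6.CIT4

set_option autoImplicit false
open Cfsg

namespace Cfsg.Agent.S1229

open Cfsg.Agent.Lib.H6.CIT Cfsg.Agent.Lib.H6.SE

/-- Let G be a finite group with a Sylow 2-subgroup T that is neither cyclic nor normal, such that the centralizer of every involution is an elementary abelian 2-group; put H = N_G(T) and X = G/H. Then G is triply transitive on X, an element fixing three distinct points of X is the identity, and T acts regularly on X minus the point H. -/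
theorem result {G : Type*} [Group G] [Finite G] (T : Sylow 2 G) (hnc : ¬ IsCyclic (T : Subgroup G)) (hnn : ¬ (T : Subgroup G).Normal) (hC : ∀ t : G, orderOf t = 2 → IsMulCommutative (Subgroup.centralizer ({t} : Set G)) ∧ ∀ c ∈ Subgroup.centralizer ({t} : Set G), c ^ 2 = 1) : (∀ x₁ x₂ x₃ y₁ y₂ y₃ : G ⧸ Subgroup.normalizer ((T : Subgroup G) : Set G), x₁ ≠ x₂ → x₁ ≠ x₃ → x₂ ≠ x₃ → y₁ ≠ y₂ → y₁ ≠ y₃ → y₂ ≠ y₃ → ∃ g : G, g • x₁ = y₁ ∧ g • x₂ = y₂ ∧ g • x₃ = y₃) ∧ (∀ g : G, ∀ x₁ x₂ x₃ : G ⧸ Subgroup.normalizer ((T : Subgroup G) : Set G), x₁ ≠ x₂ → x₁ ≠ x₃ → x₂ ≠ x₃ → g • x₁ = x₁ → g • x₂ = x₂ → g • x₃ = x₃ → g = 1) ∧ (∀ x y : G ⧸ Subgroup.normalizer ((T : Subgroup G) : Set G), x ≠ QuotientGroup.mk 1 → y ≠ QuotientGroup.mk 1 → ∃! t : G, t ∈ T ∧ t • x = y) := by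

  have hT := T_ne_bot T hnc
  obtain ⟨u, hu, huH⟩ := exists_involution_not_mem T hC hnc hnn
  have hu0 : (QuotientGroup.mk u : G ⧸ Subgroup.normalizer ((T : Subgroup G) : Set G)) ≠
      QuotientGroup.mk 1 := by
    intro h
    apply huH
    rw [mem_iff_fix, mk_one_smul]; exact h
  refine ⟨?_, ?_, ?_⟩
  · intro x₁ x₂ x₃ y₁ y₂ y₃ hx12 hx13 hx23 hy12 hy13 hy23
    obtain ⟨g₁, hg11, hg12⟩ := exists_smul_pair T hC hnc hnn hx12 hu0
    obtain ⟨g₂, hg21, hg22⟩ := exists_smul_pair T hC hnc hnn hy12 hu0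
    have hq0 : g₁ • x₃ ≠ QuotientGroup.mk 1 := by
      rw [← hg11]; intro h; exact hx13 (smul_left_cancel _ h).symm
    have hqu : g₁ • x₃ ≠ QuotientGroup.mk u := by
      rw [← hg12]; intro h; exact hx23 (smul_left_cancel _ h).symm
    have hr0 : g₂ • y₃ ≠ QuotientGroup.mk 1 := by
      rw [← hg21]; intro h; exact hy13 (smul_left_cancel _ h).symm
    have hru : g₂ • y₃ ≠ QuotientGroup.mk u := by
      rw [← hg22]; intro h; exact hy23 (smul_left_cancel _ h).symm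
    obtain ⟨d, hd, hdq⟩ := exists_D_smul T hC hnc hnn hu huH hq0 hqu hr0 hru
    obtain ⟨hd0, hdu⟩ := (mem_D_iff _ u d).mp hd
    refine ⟨g₂⁻¹ * d * g₁, ?_, ?_, ?_⟩
    · rw [mul_smul, mul_smul, hg11, hd0, ← hg21, ← mul_smul, inv_mul_cancel, one_smul]
    · rw [mul_smul, mul_smul, hg12, hdu, ← hg22, ← mul_smul, inv_mul_cancel, one_smul]
    · rw [mul_smul, mul_smul, hdq, ← mul_smul, inv_mul_cancel, one_smul]
  · intro g x₁ x₂ x₃ h12 h13 h23 hg1 hg2 hg3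
    exact eq_one_of_fix_three T hC hnc hnn h12 h13 h23 hg1 hg2 hg3
  · intro x y hx hy
    obtain ⟨n, hn, hnx⟩ := exists_T_smul T hC hnc hnn hx hy
    refine ⟨n, ⟨hn, hnx⟩, ?_⟩
    rintro t ⟨ht, htx⟩
    by_contra hne
    have h1 : n⁻¹ * t ≠ 1 := by
      intro h
      apply hne
      calc t = n * (n⁻¹ * t) := by group
        _ = n := by rw [h, mul_one]
    have h2 : (n⁻¹ * t) • x = x := by
      rw [mul_smul, htx, ← hnx, ← mul_smul, inv_mul_cancel, one_smul]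
    exact hx (T_semiregular T hC hnc hnn (Subgroup.mul_mem _ (Subgroup.inv_mem _ hn) ht) h1 h2)

end Cfsg.Agent.S1229
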