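import Cfsg.Statements.S1230
import Mathlib
import Cfsg.Agent.S1229
import Cfsg.Agent.Lib.H4.S3T.Small

set_option autoImplicit false
open Cfsg

namespace Cfsg.Agent.S1230

open MulAction Cfsg.Agent.Lib.H4.S3T

/-- a subgroup `T` of `N` acting regularly on the points of `G ⧸ N` other than the base point:
the degree is `|T| + 1` -/
theorem card_quotient_of_regular {G : Type*} [Group G] [Finite G] (T N : Subgroup G) (hTN : T ≤ N)
    (hN : N ≠ ⊤) [Fintype (G ⧸ N)]
    (hreg : ∀ x y : G ⧸ N, x ≠ QuotientGroup.mk 1 → y ≠ QuotientGroup.mk 1 →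
      ∃! t : G, t ∈ T ∧ t • x = y) : Fintype.card (G ⧸ N) = Nat.card T + 1 := by
  classical
  obtain ⟨u, hu⟩ : ∃ u : G, u ∉ N := by
    by_contra hcon
    push Not at hcon
    exact hN (eq_top_iff.2 fun x _ => hcon x)
  have hx0 : (QuotientGroup.mk u : G ⧸ N) ≠ QuotientGroup.mk 1 := by
    intro h
    rw [QuotientGroup.eq, mul_one] at h
    exact hu (by simpa using N.inv_mem h)
  have hfix : ∀ t ∈ T, ∀ x : G ⧸ N, x ≠ QuotientGroup.mk 1 → t • x ≠ QuotientGroup.mk 1 := by
    intro t ht x hx h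
    apply hx
    have h1 : t • (QuotientGroup.mk 1 : G ⧸ N) = QuotientGroup.mk 1 := by
      rw [MulAction.Quotient.smul_mk, QuotientGroup.eq]
      simpa using N.inv_mem (hTN ht)
    rw [← h1] at h
    exact smul_left_cancel t h
  let f : T → {y : G ⧸ N // y ≠ QuotientGroup.mk 1} := fun t =>
    ⟨(t : G) • (QuotientGroup.mk u : G ⧸ N), hfix t t.2 _ hx0⟩
  have hf : Function.Bijective f := by
    constructor
    · intro t t' htt'
      have h1 : (t : G) • (QuotientGroup.mk u : G ⧸ N) = (t' : G) • (QuotientGroup.mk u : G ⧸ N) :=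
        congrArg Subtype.val htt'
      obtain ⟨s, -, hs⟩ := hreg _ ((t' : G) • (QuotientGroup.mk u : G ⧸ N)) hx0
        (hfix t' t'.2 _ hx0)
      have e1 := hs t ⟨t.2, h1⟩
      have e2 := hs t' ⟨t'.2, rfl⟩
      exact Subtype.ext (e1.trans e2.symm)
    · rintro ⟨y, hy⟩
      obtain ⟨t, ⟨ht, hty⟩, -⟩ := hreg _ y hx0 hy
      exact ⟨⟨t, ht⟩, Subtype.ext hty⟩
  have h1 := Nat.card_congr (Equiv.ofBijective f hf)
  rw [Nat.card_eq_fintype_card (α := {y : G ⧸ N // y ≠ QuotientGroup.mk 1}),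
    Fintype.card_subtype_compl, Fintype.card_subtype_eq] at h1
  have hpos : 0 < Fintype.card (G ⧸ N) := Fintype.card_pos
  omega

/-- Let G be a finite group with a Sylow 2-subgroup T that is neither cyclic nor normal, such that the centralizer of every involution is an elementary abelian 2-group. Then G ≅ PSL(2,F) for a finite field F with |F| = |T|. -/
theorem result {G : Type*} [Group G] [Finite G] (T : Sylow 2 G) (hnc : ¬ IsCyclic (T : Subgroup G)) (hnn : ¬ (T : Subgroup G).Normal) (hC : ∀ t : G, orderOf t = 2 → IsMulCommutative (Subgroup.centralizer ({t} : Set G)) ∧ ∀ c ∈ Subgroup.centralizer ({t} : Set G), c ^ 2 = 1) : ∃ (F : Type) (_ : Field F) (_ : Fintype F), Fintype.card F = Nat.card T ∧ Nonempty (G ≃* Matrix.ProjectiveSpecialLinearGroup (Fin 2) F) := by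
  classical
  obtain ⟨h3t, hs3, hreg⟩ := Cfsg.Agent.S1229.result T hnc hnn hC
  have hS : Sharp3 G (G ⧸ Subgroup.normalizer ((T : Subgroup G) : Set G)) := ⟨h3t, hs3⟩
  haveI : Fintype (G ⧸ Subgroup.normalizer ((T : Subgroup G) : Set G)) := Fintype.ofFinite _
  have hN : Subgroup.normalizer ((T : Subgroup G) : Set G) ≠ ⊤ := by
    intro h
    exact hnn (Subgroup.normalizer_eq_top_iff.1 h)
  have hcard := card_quotient_of_regular (T : Subgroup G) _ Subgroup.le_normalizer hN hreg
  haveI : Fact (Nat.Prime 2) := ⟨Nat.prime_two⟩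
  obtain ⟨k, hk⟩ := (T.2 : IsPGroup 2 (T : Subgroup G)).exists_card_eq
  have hk1 : 1 ≤ k := by
    by_contra hcon
    have hk0 : k = 0 := by omega
    rw [hk0, pow_zero] at hk
    apply hnc
    have : (T : Subgroup G) = ⊥ := Subgroup.card_eq_one.1 hk
    rw [this]
    infer_instance
  have hT : Nat.card T = 2 ^ k := hk
  rw [hT] at hcard
  obtain ⟨F, fld, fin, hF, hiso⟩ := exists_PSL_of_two_pow hS hk1 hcard
  exact ⟨F, fld, fin, hF.trans hT.symm, hiso⟩

end Cfsg.Agent.S1230
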