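import Cfsg.Statements.S0660
import Mathlib

set_option autoImplicit false
open Cfsg

namespace Cfsg.Agent.S0660

/-- Maschke-type averaging in a finite abelian group with a coprime operator group. -/
theorem abstract_complement {V A : Type*} [CommGroup V] [Finite V] [Group A] [Finite A]
    (ρ : A →* MulAut V) (hcop : (Nat.card A).Coprime (Nat.card V)) (U W : Subgroup V)
    (hU : ∀ a u, u ∈ U → ρ a u ∈ U) (hUW : U ⊓ W = ⊥) (hUW' : U ⊔ W = ⊤) :
    ∃ W' : Subgroup V, (∀ a w, w ∈ W' → ρ a w ∈ W') ∧ U ⊓ W' = ⊥ ∧ U ⊔ W' = ⊤ := by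
  classical
  have : Fintype A := Fintype.ofFinite A
  -- the projection onto `U` along `W`
  let μ : U × W →* V := (U.subtype).coprod (W.subtype)
  have hμ : ∀ p : U × W, μ p = (p.1 : V) * (p.2 : V) := fun p => rfl
  have hinj : Function.Injective μ := by
    rw [injective_iff_map_eq_one]
    rintro ⟨u, w⟩ h
    rw [hμ] at h
    have hu : (u : V) ∈ U ⊓ W := by
      refine ⟨u.2, ?_⟩
      have : (u : V) = (w : V)⁻¹ := eq_inv_of_mul_eq_one_left h
      rw [this]; exact W.inv_mem w.2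
    rw [hUW, Subgroup.mem_bot] at hu
    have hw : (w : V) = 1 := by simpa [hu] using h
    exact Prod.ext (Subtype.ext hu) (Subtype.ext hw)
  have hsurj : Function.Surjective μ := by
    intro v
    have hv : v ∈ U ⊔ W := hUW' ▸ Subgroup.mem_top v
    obtain ⟨y, hy, z, hz, rfl⟩ := Subgroup.mem_sup.mp hv
    exact ⟨(⟨y, hy⟩, ⟨z, hz⟩), rfl⟩
  let e : U × W ≃* V := MulEquiv.ofBijective μ ⟨hinj, hsurj⟩
  let π : V →* V := U.subtype.comp ((MonoidHom.fst U W).comp e.symm.toMonoidHom)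
  have hπU : ∀ v, π v ∈ U := fun v => Subtype.mem _
  have hπid : ∀ u ∈ U, π u = u := by
    intro u hu
    have : e.symm u = (⟨u, hu⟩, 1) := by
      rw [MulEquiv.symm_apply_eq]
      show u = μ (⟨u, hu⟩, 1)
      rw [hμ]; simp
    show ((e.symm u).1 : V) = u
    rw [this]
  -- the averaged map
  let Q : V →* V := ∏ a : A, ((ρ a).toMonoidHom.comp (π.comp (ρ a⁻¹).toMonoidHom))
  have hQ : ∀ v, Q v = ∏ a : A, ρ a (π (ρ a⁻¹ v)) := by
    intro v
    show (∏ a : A, ((ρ a).toMonoidHom.comp (π.comp (ρ a⁻¹).toMonoidHom))) v = _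
    rw [MonoidHom.finsetProd_apply]
    rfl
  have hQU : ∀ v, Q v ∈ U := by
    intro v
    rw [hQ]
    exact Subgroup.prod_mem _ (fun a _ => hU a _ (hπU _))
  have hQid : ∀ u ∈ U, Q u = u ^ Nat.card A := by
    intro u hu
    rw [hQ]
    have : ∀ a : A, ρ a (π (ρ a⁻¹ u)) = u := by
      intro a
      rw [hπid _ (hU a⁻¹ u hu), map_inv, MulAut.apply_inv_self]
    rw [Finset.prod_congr rfl (fun a _ => this a), Finset.prod_const, Finset.card_univ,
      Nat.card_eq_fintype_card]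
  have hQeq : ∀ b v, Q (ρ b v) = ρ b (Q v) := by
    intro b v
    rw [hQ, hQ, map_prod]
    refine Fintype.prod_equiv (Equiv.mulLeft b⁻¹) _ _ (fun a => ?_)
    simp only [Equiv.coe_mulLeft]
    have h1 : ρ (b⁻¹ * a)⁻¹ v = ρ a⁻¹ (ρ b v) := by
      rw [mul_inv_rev, inv_inv, map_mul, MulAut.mul_apply]
    have h2 : ρ b (ρ (b⁻¹ * a) (π (ρ (b⁻¹ * a)⁻¹ v))) = ρ a (π (ρ (b⁻¹ * a)⁻¹ v)) := by
      rw [← MulAut.mul_apply, ← map_mul, mul_inv_cancel_left]
    rw [h2, h1]
  have hcopV : (Nat.card V).Coprime (Nat.card A) := hcop.symm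
  refine ⟨Q.ker, ?_, ?_, ?_⟩
  · intro a w hw
    rw [MonoidHom.mem_ker] at hw ⊢
    rw [hQeq, hw, map_one]
  · rw [eq_bot_iff]
    intro u hu
    obtain ⟨hu1, hu2⟩ := hu
    have hu2' : Q u = 1 := hu2
    rw [hQid u hu1] at hu2'
    rw [Subgroup.mem_bot]
    apply (Nat.Coprime.pow_left_bijective hcopV).injective
    simp only [hu2', one_pow]
  · rw [eq_top_iff]
    intro v _
    have hcopU : (Nat.card U).Coprime (Nat.card A) :=
      Nat.Coprime.coprime_dvd_left (Subgroup.card_subgroup_dvd_card U) hcopV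
    obtain ⟨u, hu⟩ := (Nat.Coprime.pow_left_bijective hcopU).surjective ⟨Q v, hQU v⟩
    have hu' : (u : V) ^ Nat.card A = Q v := by
      have := congrArg Subtype.val hu
      simpa using this
    have hker : (u : V)⁻¹ * v ∈ Q.ker := by
      rw [MonoidHom.mem_ker, map_mul, map_inv, hQid _ u.2, hu', inv_mul_cancel]
    have : v = (u : V) * ((u : V)⁻¹ * v) := by simp
    rw [this]
    exact Subgroup.mul_mem_sup u.2 hker


/-- Under a coprime action on an abelian group, an invariant subgroup that is complemented admits an invariant complement. -/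
theorem result {G : Type*} [Group G] [Finite G] (V A U : Subgroup G) (hVab : IsMulCommutative V) (hAV : A ≤ Subgroup.normalizer (V : Set G)) (hcop : (Nat.card A).Coprime (Nat.card V)) (hUV : U ≤ V) (hAU : A ≤ Subgroup.normalizer (U : Set G)) (W : Subgroup G) (hWV : W ≤ V) (hUW : U ⊓ W = ⊥) (hUWV : U ⊔ W = V) : ∃ W' : Subgroup G, W' ≤ V ∧ A ≤ Subgroup.normalizer (W' : Set G) ∧ U ⊓ W' = ⊥ ∧ U ⊔ W' = V := by
  let _ : CommGroup V :=
    { (inferInstance : Group V) with mul_comm := fun a b => hVab.is_comm.comm a b }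
  let ρ : A →* MulAut V := V.normalizerMonoidHom.comp (Subgroup.inclusion hAV)
  have hρ : ∀ (a : A) (v : V), ((ρ a v : V) : G) = a * v * (a : G)⁻¹ := fun a v => rfl
  obtain ⟨W', h1, h2, h3⟩ := abstract_complement ρ hcop (U.subgroupOf V) (W.subgroupOf V)
    (by
      intro a u hu
      rw [Subgroup.mem_subgroupOf] at hu ⊢
      rw [hρ]
      exact ((Subgroup.mem_normalizer_iff.mp (hAU a.2)) _).mp hu)
    (by
      rw [eq_bot_iff]
      intro x hx
      have : (x : G) ∈ U ⊓ W := ⟨Subgroup.mem_subgroupOf.mp hx.1, Subgroup.mem_subgroupOf.mp hx.2⟩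
      rw [hUW, Subgroup.mem_bot] at this
      exact Subgroup.mem_bot.mpr (Subtype.ext this))
    (by
      rw [← Subgroup.subgroupOf_sup hUV hWV, hUWV, Subgroup.subgroupOf_self])
  refine ⟨W'.map V.subtype, Subgroup.map_subtype_le _, ?_, ?_, ?_⟩
  · intro a ha
    apply Subgroup.mem_normalizer_fintype
    rintro n ⟨w, hw, rfl⟩
    exact ⟨ρ ⟨a, ha⟩ w, h1 ⟨a, ha⟩ w hw, rfl⟩
  · rw [eq_bot_iff]
    rintro x ⟨hxU, w, hw, rfl⟩
    have : w ∈ U.subgroupOf V ⊓ W' := ⟨Subgroup.mem_subgroupOf.mpr hxU, hw⟩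
    rw [h2, Subgroup.mem_bot] at this
    rw [this]; simp
  · have hUmap : U = (U.subgroupOf V).map V.subtype := (Subgroup.map_subgroupOf_eq_of_le hUV).symm
    conv_lhs => rw [hUmap]
    rw [← Subgroup.map_sup, h3, ← MonoidHom.range_eq_map, Subgroup.range_subtype]

end Cfsg.Agent.S0660
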