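import Mathlib
import Cfsg.Statements.S0250
import Cfsg.Agent.Lib.H2.PSLCard
import Cfsg.Agent.Lib.H2.ActIso

set_option autoImplicit false
open Cfsg

namespace Cfsg.Agent.S0250

open scoped LinearAlgebra.Projectivization

/-- SL_2(2) is isomorphic to S_3. -/
theorem result {F : Type*} [Field F] [Fintype F] (hF : Fintype.card F = 2) : Nonempty (Matrix.SpecialLinearGroup (Fin 2) F ≃* Equiv.Perm (Fin 3)) := by
  have hfin : Finite (ℙ F (Fin 2 → F)) := by
    rw [Projectivization.finite_iff_of_finite F]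
    infer_instance
  have hcenter : Subgroup.center (Matrix.SpecialLinearGroup (Fin 2) F) = ⊥ := by
    rw [← Subgroup.card_eq_one, Cfsg.Agent.Lib.H2.card_center_SL 2 (by norm_num),
      Nat.card_eq_fintype_card, hF]
    rfl
  have hfaith : FaithfulSMul (Matrix.SpecialLinearGroup (Fin 2) F) (ℙ F (Fin 2 → F)) := by
    refine ⟨fun {a b} h => ?_⟩
    have h1 : MulAction.toPermHom _ (ℙ F (Fin 2 → F)) a = MulAction.toPermHom _ _ b := by
      ext x
      exact h x
    have h2 : a⁻¹ * b ∈ (MulAction.toPermHom (Matrix.SpecialLinearGroup (Fin 2) F)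
        (ℙ F (Fin 2 → F))).ker := by
      rw [MonoidHom.mem_ker, map_mul, map_inv, h1, inv_mul_cancel]
    rw [Projectivization.SL_mulAction_ker, hcenter, Subgroup.mem_bot] at h2
    exact (inv_mul_eq_one.1 h2)
  apply Cfsg.Agent.Lib.H2.nonempty_mulEquiv_perm_of_card (X := ℙ F (Fin 2 → F)) 3
  · rw [Cfsg.Agent.Lib.H2.card_projLine, hF]
  · rw [Cfsg.Agent.Lib.H12.card_SL2, hF]
    rfl

end Cfsg.Agent.S0250
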