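import Cfsg.Statements.S0617
-- import your own Cfsg.Agent.* helpers here
import Cfsg.Agent.Lib.H3.OffenderE10
import Mathlib

set_option autoImplicit false
open Cfsg

namespace Cfsg.Agent.S0617
open scoped commutatorElement

open Cfsg.Agent.Lib.H3 in
/-- the index type of the `E`'s. -/
abbrev Idx {G : Type*} [Group G] (p : ℕ) (V H Q : Subgroup G) : Type _ :=
  {E : Subgroup G // ∃ A : Subgroup G, A ≤ H ∧ Cfsg.IsBestOffenderOn p V A ∧ ⁅V, A⁆ ≠ ⊥ ∧
    (∀ B : Subgroup G, B ≤ A → Cfsg.IsBestOffenderOn p V B → ⁅V, B⁆ ≠ ⊥ → B = A) ∧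
    E = ⁅Q, A⁆ ⊔ A}

open Cfsg.Agent.Lib.H3 in
theorem main {G : Type*} [Group G] [Finite G] {p : ℕ} [Fact p.Prime] {V H Q : Subgroup G}
    (h : FFS p V H Q)
    (hS3 : H = ⨆ A : {A : Subgroup G // A ≤ H ∧ Cfsg.IsBestOffenderOn p V A}, (A : Subgroup G))
    (hH1 : H ≠ ⊥) :
    (p = 2 ∨ p = 3) ∧
    (∀ E : Idx p V H Q, H ≤ Subgroup.normalizer ((E : Subgroup G) : Set G) ∧
      Nonempty (↥(E : Subgroup G) ≃* Matrix.SpecialLinearGroup (Fin 2) (ZMod p)) ∧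
      Nat.card ↥(⁅V, (E : Subgroup G)⁆) = p ^ 2) ∧
    iSupIndep (fun E : Idx p V H Q => (E : Subgroup G)) ∧
    (⨆ E : Idx p V H Q, (E : Subgroup G)) = H ∧
    iSupIndep (fun o : Option (Idx p V H Q) =>
      o.elim (V ⊓ Subgroup.centralizer (H : Set G)) (fun E => ⁅V, (E : Subgroup G)⁆)) ∧
    (V ⊓ Subgroup.centralizer (H : Set G)) ⊔ (⨆ E : Idx p V H Q, ⁅V, (E : Subgroup G)⁆) = V := by
  classical
  have hmo : ∀ E : Idx p V H Q, ∃ A, MO p V H A ∧ (E : Subgroup G) = ⁅Q, A⁆ ⊔ A := by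
    rintro ⟨E, A, hAH, hA, hAV, hmin, rfl⟩
    exact ⟨A, ⟨hAH, hA, (h.minimal_offender hAH hA hAV hmin).1⟩, rfl⟩
  have hidx : ∀ A, MO p V H A → ∃ E : Idx p V H Q, (E : Subgroup G) = ⁅Q, A⁆ ⊔ A := by
    intro A mA
    obtain ⟨h1, h2⟩ := h.minimal_of_card mA.le mA.card
    exact ⟨⟨⁅Q, A⁆ ⊔ A, A, mA.le, mA.bo, h1, h2, rfl⟩, rfl⟩
  have hkey : ∀ E E' : Idx p V H Q, E ≠ E' →
      (E' : Subgroup G) ≤ H ⊓ Subgroup.centralizer ((⁅V, (E : Subgroup G)⁆ : Subgroup G) : Set G) ∧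
      ⁅V, (E' : Subgroup G)⁆ ≤ V ⊓ Subgroup.centralizer (((E : Subgroup G) : Subgroup G) : Set G) := by
    intro E E' hne
    obtain ⟨A, mA, hEA⟩ := hmo E
    obtain ⟨B, mB, hEB⟩ := hmo E'
    have hne' : ⁅Q, A⁆ ⊔ A ≠ ⁅Q, B⁆ ⊔ B := by
      intro h1; apply hne; apply Subtype.ext; rw [hEA, hEB, h1]
    rw [hEA, hEB]
    exact ⟨h.E_le_K_of_ne mA mB hne', h.W_le_of_ne hS3 mA mB hne'⟩
  have hEH : ∀ E : Idx p V H Q, (E : Subgroup G) ≤ H := by
    intro E; obtain ⟨A, mA, hEA⟩ := hmo E; rw [hEA]; exact h.E_le mA.le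
  have hWV : ∀ E : Idx p V H Q, ⁅V, (E : Subgroup G)⁆ ≤ V := by
    intro E; obtain ⟨A, mA, hEA⟩ := hmo E; rw [hEA]; exact h.W_le_V mA.le
  have hsupE : (⨆ E : Idx p V H Q, (E : Subgroup G)) = H := by
    apply le_antisymm
    · exact iSup_le hEH
    · apply h.le_of_forall_MO hS3
      intro B mB
      obtain ⟨E, hE⟩ := hidx B mB
      exact (le_sup_right.trans hE.ge).trans (le_iSup (fun E : Idx p V H Q => (E : Subgroup G)) E)
  haveI : Fintype (Idx p V H Q) := Fintype.ofFinite _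
  obtain ⟨d1, d2⟩ := decomp_aux h.comm_V (fun E : Idx p V H Q => ⁅V, (E : Subgroup G)⁆)
    (fun E : Idx p V H Q => Subgroup.centralizer (((E : Subgroup G) : Subgroup G) : Set G)) hWV
    (by
      intro E
      obtain ⟨A, mA, hEA⟩ := hmo E
      have := h.W_inf mA
      rw [← hEA] at this
      rw [eq_bot_iff]
      refine le_trans ?_ this.le
      exact le_inf inf_le_left (le_inf (inf_le_left.trans (hWV E)) inf_le_right))
    (by
      intro E
      obtain ⟨A, mA, hEA⟩ := hmo E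
      have := h.W_sup mA
      rw [← hEA] at this
      exact this)
    (by
      intro E E' hne
      exact (hkey E E' hne).2.trans inf_le_right) Finset.univ
  obtain ⟨A₀, mA₀⟩ := h.exists_MO hS3 hH1
  refine ⟨(h.E_iso mA₀).1, ?_, ?_, hsupE, ?_, ?_⟩
  · intro E
    obtain ⟨A, mA, hEA⟩ := hmo E
    rw [hEA]
    exact ⟨h.H_le_normalizer_E hS3 mA, (h.E_iso mA).2, h.card_W mA⟩
  · rw [iSupIndep_def]
    intro E
    obtain ⟨A, mA, hEA⟩ := hmo E
    have h1 : (⨆ j, ⨆ (_ : j ≠ E), (j : Subgroup G)) ≤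
        H ⊓ Subgroup.centralizer ((⁅V, (E : Subgroup G)⁆ : Subgroup G) : Set G) := by
      apply iSup₂_le
      intro E' hE'
      exact (hkey E E' (Ne.symm hE')).1
    refine Disjoint.mono_right h1 ?_
    rw [disjoint_iff, hEA]
    exact h.E_inf_K mA
  · rw [iSupIndep_def]
    intro o
    cases o with
    | none =>
      rw [Subgroup.disjoint_def]
      intro x hx1 hx2
      apply d1 x
      · refine (?_ : (⨆ j, ⨆ (_ : j ≠ none), Option.elim j (V ⊓ Subgroup.centralizer (H : Set G))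
          (fun E : Idx p V H Q => ⁅V, (E : Subgroup G)⁆)) ≤ _) hx2
        apply iSup₂_le
        intro o' ho'
        cases o' with
        | none => exact absurd rfl ho'
        | some E' =>
          exact le_iSup₂ (f := fun (E : Idx p V H Q) (_ : E ∈ Finset.univ) => ⁅V, (E : Subgroup G)⁆)
            E' (Finset.mem_univ E')
      · intro E _
        exact Subgroup.centralizer_le (by exact_mod_cast hEH E) hx1.2
    | some E =>
      obtain ⟨A, mA, hEA⟩ := hmo E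
      have h1 : (⨆ j, ⨆ (_ : j ≠ some E), Option.elim j (V ⊓ Subgroup.centralizer (H : Set G))
          (fun E : Idx p V H Q => ⁅V, (E : Subgroup G)⁆)) ≤
          V ⊓ Subgroup.centralizer (((E : Subgroup G) : Subgroup G) : Set G) := by
        apply iSup₂_le
        intro o' ho'
        cases o' with
        | none =>
          exact inf_le_inf_left _ (Subgroup.centralizer_le (by exact_mod_cast hEH E))
        | some E' =>
          have hne : E ≠ E' := by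
            rintro rfl; exact ho' rfl
          exact (hkey E E' hne).2
      refine Disjoint.mono_right h1 ?_
      rw [disjoint_iff]
      show ⁅V, (E : Subgroup G)⁆ ⊓ _ = ⊥
      rw [hEA]
      exact h.W_inf mA
  · apply le_antisymm
    · exact sup_le inf_le_left (iSup_le hWV)
    · intro v hv
      obtain ⟨m, hm, c, hcV, hcC, rfl⟩ := d2 v hv
      have hm' : m ∈ ⨆ E : Idx p V H Q, ⁅V, (E : Subgroup G)⁆ := by
        simpa using hm
      have hcH : c ∈ Subgroup.centralizer (H : Set G) := by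
        have h1 : H ≤ Subgroup.centralizer ((Subgroup.zpowers c : Subgroup G) : Set G) := by
          rw [← hsupE]
          apply iSup_le
          intro E
          rw [Subgroup.le_centralizer_iff, Subgroup.zpowers_le]
          exact hcC E (Finset.mem_univ E)
        exact (Subgroup.le_centralizer_iff.1 h1) (Subgroup.mem_zpowers c)
      exact Subgroup.mul_mem _ (Subgroup.mem_sup_right hm') (Subgroup.mem_sup_left ⟨hcV, hcH⟩)

/-- Structure Theorem for failure of factorization: a faithful group generated by best offenders, with self-centralizing p'-core, is a direct product of copies of SL(2, p) (p = 2 or 3), each acting on its own plane in V, which is the direct product of these planes and C_V(H). -/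
theorem result {G : Type*} [Group G] [Finite G] {p : ℕ} [Fact p.Prime] (V H : Subgroup G) (hV : Cfsg.IsElementaryAbelian p V) (hHV : H ≤ Subgroup.normalizer (V : Set G)) (hf : H ⊓ Subgroup.centralizer (V : Set G) = ⊥) (hS1 : Subgroup.centralizer (Cfsg.pPrimeCore p ↥H : Set ↥H) ≤ Cfsg.pPrimeCore p ↥H) (hS3 : H = ⨆ A : {A : Subgroup G // A ≤ H ∧ Cfsg.IsBestOffenderOn p V A}, (A : Subgroup G)) (hH1 : H ≠ ⊥) : (p = 2 ∨ p = 3) ∧ (∀ E : {E : Subgroup G // ∃ A : Subgroup G, A ≤ H ∧ Cfsg.IsBestOffenderOn p V A ∧ ⁅V, A⁆ ≠ ⊥ ∧ (∀ B : Subgroup G, B ≤ A → Cfsg.IsBestOffenderOn p V B → ⁅V, B⁆ ≠ ⊥ → B = A) ∧ E = ⁅((Cfsg.pPrimeCore p ↥H).map H.subtype), A⁆ ⊔ A}, H ≤ Subgroup.normalizer ((E : Subgroup G) : Set G) ∧ Nonempty (↥(E : Subgroup G) ≃* Matrix.SpecialLinearGroup (Fin 2) (ZMod p)) ∧ Nat.card ↥(⁅V, (E : Subgroup G)⁆) = p ^ 2) ∧ iSupIndep (fun E : {E : Subgroup G // ∃ A : Subgroup G, A ≤ H ∧ Cfsg.IsBestOffenderOn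 p V A ∧ ⁅V, A⁆ ≠ ⊥ ∧ (∀ B : Subgroup G, B ≤ A → Cfsg.IsBestOffenderOn p V B → ⁅V, B⁆ ≠ ⊥ → B = A) ∧ E = ⁅((Cfsg.pPrimeCore p ↥H).map H.subtype), A⁆ ⊔ A} => (E : Subgroup G)) ∧ (⨆ E : {E : Subgroup G // ∃ A : Subgroup G, A ≤ H ∧ Cfsg.IsBestOffenderOn p V A ∧ ⁅V, A⁆ ≠ ⊥ ∧ (∀ B : Subgroup G, B ≤ A → Cfsg.IsBestOffenderOn p V B → ⁅V, B⁆ ≠ ⊥ → B = A) ∧ E = ⁅((Cfsg.pPrimeCore p ↥H).map H.subtype), A⁆ ⊔ A}, (E : Subgroup G)) = H ∧ iSupIndep (fun o : Option {E : Subgroup G // ∃ A : Subgroup G, A ≤ H ∧ Cfsg.IsBestOffenderOn p V A ∧ ⁅V, A⁆ ≠ ⊥ ∧ (∀ B : Subgroup G, B ≤ A → Cfsg.IsBestOffenderOn p V B → ⁅V, B⁆ ≠ ⊥ → B = A) ∧ E = ⁅((Cfsg.pPrimeCore p ↥H).map H.subtype), A⁆ ⊔ A} => o.elim (V ⊓ Subgroup.centralizer (H : Set G)) (fun E => ⁅V, (E : Subgroup G)⁆)) ∧ (V ⊓ Subgroup.centralizer (H : Set G)) ⊔ (⨆ E : {E : Subgroup G // ∃ A : Subgroup G, A ≤ H ∧ Cfsg.IsBestOffenderOn p V A ∧ ⁅V, A⁆ ≠ ⊥ ∧ (∀ B : Subgroup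 G, B ≤ A → Cfsg.IsBestOffenderOn p V B → ⁅V, B⁆ ≠ ⊥ → B = A) ∧ E = ⁅((Cfsg.pPrimeCore p ↥H).map H.subtype), A⁆ ⊔ A}, ⁅V, (E : Subgroup G)⁆) = V := by
  exact main (Cfsg.Agent.Lib.H3.ffs_of_hyps hV hHV hf hS1) hS3 hH1

end Cfsg.Agent.S0617
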