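import Cfsg.Statements.S4250
import Cfsg.Agent.Lib.H9.AlperinTame
-- import your own Cfsg.Agent.* helpers here

set_option autoImplicit false
open Cfsg

namespace Cfsg.Agent.S4250

open Cfsg.Agent.Lib.H10 Cfsg.Agent.Lib.H9
open scoped commutatorElement

variable {G : Type*} [Group G]

/-- The right-hand side of the statement. -/
def rhs (p : ℕ) (P : Sylow p G) : Subgroup G :=
  ⁅(P : Subgroup G), Subgroup.normalizer ((P : Subgroup G) : Set G)⁆ ⊔
    ⨆ (Q : Sylow p G) (_ : (¬ p ∣ ((P : Subgroup G) ⊓ Subgroup.normalizer (((P : Subgroup G) ⊓ (Q : Subgroup G) : Subgroup G) : Set G)).relIndex (Subgroup.normalizer (((P : Subgroup G) ⊓ (Q : Subgroup G) : Subgroup G) : Set G)) ∧ ¬ p ∣ ((Q : Subgroup G) ⊓ Subgroup.normalizer (((P : Subgroup G) ⊓ (Q : Subgroup G) : Subgroup G) : Set G)).relIndex (Subgroup.normalizer (((P : Subgroup G) ⊓ (Q : Subgroup G) : Subgroup G) : Set G))))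
      (x : G) (_ : x ∈ Subgroup.normalizer (((P : Subgroup G) ⊓ (Q : Subgroup G) : Subgroup G) : Set G) ∧ ∃ k : ℕ, orderOf x = p ^ k),
      ⁅(P : Subgroup G) ⊓ (Q : Subgroup G), Subgroup.zpowers x⁆

theorem step_mem {p : ℕ} (P : Sylow p G) {T : Subgroup G} {x : G} (hT : TameStep p P T x)
    {a : G} (ha : a ∈ T) : a⁻¹ * (x⁻¹ * a * x) ∈ rhs p P := by
  obtain ⟨Q, hTQ, htame, hx, hp⟩ := hT
  have e : a⁻¹ * (x⁻¹ * a * x) = ⁅a⁻¹, x⁻¹⁆ := by
    rw [commutatorElement_def]; group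
  rw [e]
  rcases hp with hQP | hk
  · apply (le_sup_left : _ ≤ rhs p P)
    have hTP : T = (P : Subgroup G) := by rw [hTQ, hQP, inf_idem]
    apply Subgroup.commutator_mem_commutator
    · exact (hTP ▸ T.inv_mem ha)
    · exact inv_mem (hTP ▸ hx)
  · apply (le_sup_right : _ ≤ rhs p P)
    have hmem : ⁅a⁻¹, x⁻¹⁆ ∈ ⁅(P : Subgroup G) ⊓ (Q : Subgroup G), Subgroup.zpowers x⁆ := by
      apply Subgroup.commutator_mem_commutator
      · exact hTQ ▸ T.inv_mem ha
      · exact inv_mem (Subgroup.mem_zpowers x)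
    refine Subgroup.mem_iSup_of_mem Q ?_
    refine Subgroup.mem_iSup_of_mem htame ?_
    refine Subgroup.mem_iSup_of_mem x ?_
    exact Subgroup.mem_iSup_of_mem ⟨hTQ ▸ hx, hk⟩ hmem

theorem reach_mem {p : ℕ} (P : Sylow p G) {A : Set G} {g : G} (hr : TReach p P A g) :
    ∀ a ∈ A, a⁻¹ * (g⁻¹ * a * g) ∈ rhs p P := by
  induction hr with
  | nil A => intro a _; simp
  | cons A T x g' hT hA _ ih =>
    intro a ha
    have h1 := step_mem P hT (hA ha)
    have h2 := ih (x⁻¹ * a * x) ⟨a, ha, rfl⟩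
    have e : a⁻¹ * ((x * g')⁻¹ * a * (x * g')) =
        (a⁻¹ * (x⁻¹ * a * x)) * ((x⁻¹ * a * x)⁻¹ * (g'⁻¹ * (x⁻¹ * a * x) * g')) := by group
    rw [e]
    exact Subgroup.mul_mem _ h1 h2


/-- Let P be a Sylow p-subgroup of a finite group G. Call an intersection H = P ∩ Q with a Sylow p-subgroup Q tame when N_P(H) and N_Q(H) are Sylow p-subgroups of N_G(H). Then P ∩ G′ is generated by [P, N_G(P)] together with the commutator subgroups [P ∩ Q, ⟨x⟩] for all tame intersections P ∩ Q and all p-elements x of N_G(P ∩ Q). -/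
theorem result {G : Type*} [Group G] [Finite G] (p : ℕ) [Fact p.Prime] (P : Sylow p G) :
    (P : Subgroup G) ⊓ commutator G =
      ⁅(P : Subgroup G), Subgroup.normalizer ((P : Subgroup G) : Set G)⁆ ⊔
        ⨆ (Q : Sylow p G) (_ : (¬ p ∣ ((P : Subgroup G) ⊓ Subgroup.normalizer (((P : Subgroup G) ⊓ (Q : Subgroup G) : Subgroup G) : Set G)).relIndex (Subgroup.normalizer (((P : Subgroup G) ⊓ (Q : Subgroup G) : Subgroup G) : Set G)) ∧ ¬ p ∣ ((Q : Subgroup G) ⊓ Subgroup.normalizer (((P : Subgroup G) ⊓ (Q : Subgroup G) : Subgroup G) : Set G)).relIndex (Subgroup.normalizer (((P : Subgroup G) ⊓ (Q : Subgroup G) : Subgroup G) : Set G))))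
          (x : G) (_ : x ∈ Subgroup.normalizer (((P : Subgroup G) ⊓ (Q : Subgroup G) : Subgroup G) : Set G) ∧ ∃ k : ℕ, orderOf x = p ^ k),
          ⁅(P : Subgroup G) ⊓ (Q : Subgroup G), Subgroup.zpowers x⁆ := by
  show _ = rhs p P
  rw [inf_comm, Subgroup.commutator_inf_eq_focalSubgroup P]
  apply le_antisymm
  · rw [Subgroup.focalSubgroup_def, Subgroup.closure_le]
    rintro z ⟨hzP, x, hxP, u, rfl⟩
    have hy : u⁻¹⁻¹ * x⁻¹ * u⁻¹ ∈ (P : Subgroup G) := by
      have : u⁻¹⁻¹ * x⁻¹ * u⁻¹ = x⁻¹ * ⁅x, u⁆ := by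
        rw [commutatorElement_def]; group
      rw [this]
      exact Subgroup.mul_mem _ (Subgroup.inv_mem _ hxP) hzP
    have hr : TReach p P ({x⁻¹} : Set G) u⁻¹ := by
      apply treach_of_subset P
      · intro a ha
        rw [Set.mem_singleton_iff] at ha
        rw [ha]; exact Subgroup.inv_mem _ hxP
      · rintro _ ⟨a, ha, rfl⟩
        rw [Set.mem_singleton_iff] at ha
        rw [ha]; exact hy
    have := reach_mem P hr x⁻¹ rfl
    have e : ⁅x, u⁆ = x⁻¹⁻¹ * (u⁻¹⁻¹ * x⁻¹ * u⁻¹) := by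
      rw [commutatorElement_def]; group
    rw [SetLike.mem_coe, e]
    exact this
  · unfold rhs
    have hgen : ∀ T K : Subgroup G, T ≤ (P : Subgroup G) → K ≤ Subgroup.normalizer (T : Set G) →
        ⁅T, K⁆ ≤ Subgroup.focalSubgroup (P : Subgroup G) := by
      intro T K hTP hKN
      rw [Subgroup.commutator_le]
      intro a ha y hy
      apply Subgroup.subset_closure
      refine ⟨?_, a, hTP ha, y, rfl⟩
      have h1 : y * a⁻¹ * y⁻¹ ∈ T := (Subgroup.mem_normalizer_iff.mp (hKN hy) a⁻¹).mp (T.inv_mem ha)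
      have e : ⁅a, y⁆ = a * (y * a⁻¹ * y⁻¹) := by rw [commutatorElement_def]; group
      rw [e]
      exact hTP (T.mul_mem ha h1)
    apply sup_le
    · exact hgen _ _ le_rfl le_rfl
    · apply iSup_le; intro Q
      apply iSup_le; intro _
      apply iSup_le; intro x
      apply iSup_le; intro hx
      apply hgen _ _ inf_le_left
      rw [Subgroup.zpowers_le]
      exact hx.1


end Cfsg.Agent.S4250
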