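import Mathlib
import Cfsg.Prelude.Def_Solvable
import Cfsg.Agent.Lib.H1.Fitting

set_option autoImplicit false
open Cfsg

namespace Cfsg.Agent.S4107

open Cfsg.Agent.Lib.H1

variable {G : Type*} [Group G]

/-- the key step: if some `O_p(G)` is not inside `N`, then `N` is a `p`-group inside `O_p(G)`. -/
theorem key [Finite G] (N : Subgroup G) [hNn : N.Normal]
    (heq : ∀ x : G, x ∉ N → ∀ n ∈ N, orderOf (x * n) = orderOf x)
    (p : ℕ) [hp : Fact p.Prime] (x : G) (hx : x ∈ Cfsg.pCore p G) (hxN : x ∉ N) :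
    N ≤ Cfsg.pCore p G := by
  have hO := pCore_isPGroup p G
  haveI hOn := pCore_normal p G
  obtain ⟨a, ha⟩ := hO ⟨x, hx⟩
  have hxa : x ^ (p ^ a) = 1 := congrArg Subtype.val ha
  have hNp : IsPGroup p N := by
    rintro ⟨n, hn⟩
    have h1 : orderOf (x * n) = orderOf x := heq x hxN n hn
    have h2 : (x * n) ^ (p ^ a) = 1 := by
      apply orderOf_dvd_iff_pow_eq_one.mp
      rw [h1]; exact orderOf_dvd_of_pow_eq_one hxa
    -- in the quotient by O_p(G)
    have h3 : ((n ^ (p ^ a) : G) : G ⧸ Cfsg.pCore p G) = 1 := by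
      have e : ((x * n : G) : G ⧸ Cfsg.pCore p G) = (n : G ⧸ Cfsg.pCore p G) := by
        rw [QuotientGroup.mk_mul, (QuotientGroup.eq_one_iff x).mpr hx, one_mul]
      rw [QuotientGroup.mk_pow, ← e, ← QuotientGroup.mk_pow, h2, QuotientGroup.mk_one]
    have h4 : n ^ (p ^ a) ∈ Cfsg.pCore p G := (QuotientGroup.eq_one_iff _).mp h3
    obtain ⟨b, hb⟩ := hO ⟨n ^ (p ^ a), h4⟩
    have hb' : (n ^ (p ^ a)) ^ (p ^ b) = 1 := congrArg Subtype.val hb
    refine ⟨a + b, ?_⟩
    apply Subtype.ext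
    show n ^ (p ^ (a + b)) = 1
    rw [pow_add, pow_mul]; exact hb'
  exact le_pCore hNn hNp

theorem result {G : Type*} [Group G] [Finite G] (N : Subgroup G) [N.Normal] (hN1 : N ≠ ⊥) (hN2 : N ≠ ⊤)
    (heq : ∀ x : G, x ∉ N → ∀ n ∈ N, orderOf (x * n) = orderOf x) :
    (N ≤ Cfsg.fittingSubgroup G ∨ Cfsg.fittingSubgroup G ≤ N) ∧
    (N < Cfsg.fittingSubgroup G → IsPrimePow (Nat.card (Cfsg.fittingSubgroup G))) := by
  classical
  have hF : Cfsg.fittingSubgroup G = ⨆ p : Nat.Primes, Cfsg.pCore (p : ℕ) G :=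
    fittingSubgroup_eq_iSup_pCore
  -- if F is not inside N then some O_p(G) is not inside N
  have hex : ¬ Cfsg.fittingSubgroup G ≤ N →
      ∃ p : Nat.Primes, ∃ x : G, x ∈ Cfsg.pCore (p : ℕ) G ∧ x ∉ N := by
    intro h
    by_contra hcon
    push_neg at hcon
    apply h
    rw [hF]
    exact iSup_le fun p x hx => hcon p x hx
  have hpF : ∀ p : Nat.Primes, Cfsg.pCore (p : ℕ) G ≤ Cfsg.fittingSubgroup G := by
    intro p
    rw [hF]
    exact le_iSup (fun q : Nat.Primes => Cfsg.pCore (q : ℕ) G) p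
  constructor
  · by_cases h : Cfsg.fittingSubgroup G ≤ N
    · exact Or.inr h
    · left
      obtain ⟨p, x, hx, hxN⟩ := hex h
      haveI : Fact (p : ℕ).Prime := ⟨p.2⟩
      exact (key N heq p x hx hxN).trans (hpF p)
  · intro hlt
    have h : ¬ Cfsg.fittingSubgroup G ≤ N := fun h => absurd hlt (not_lt_of_ge h)
    obtain ⟨p, x, hx, hxN⟩ := hex h
    haveI : Fact (p : ℕ).Prime := ⟨p.2⟩
    have hNp := key N heq p x hx hxN
    -- other cores are trivial
    have hq : ∀ q : Nat.Primes, q ≠ p → Cfsg.pCore (q : ℕ) G = ⊥ := by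
      intro q hqp
      haveI : Fact (q : ℕ).Prime := ⟨q.2⟩
      rw [Subgroup.eq_bot_iff_forall]
      intro z hz
      by_contra hz1
      have hqp' : (q : ℕ) ≠ (p : ℕ) := fun h => hqp (Subtype.ext h)
      obtain ⟨b, hb⟩ := pCore_isPGroup (q : ℕ) G ⟨z, hz⟩
      have hzb : z ^ ((q : ℕ) ^ b) = 1 := congrArg Subtype.val hb
      have hzq : orderOf z ∣ (q : ℕ) ^ b := orderOf_dvd_of_pow_eq_one hzb
      have hcopqp : Nat.Coprime (q : ℕ) (p : ℕ) := (Nat.coprime_primes q.2 p.2).mpr hqp'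
      have hzN : z ∉ N := by
        intro hzN
        obtain ⟨c, hc⟩ := pCore_isPGroup (p : ℕ) G ⟨z, hNp hzN⟩
        have hzc : z ^ ((p : ℕ) ^ c) = 1 := congrArg Subtype.val hc
        have hzp : orderOf z ∣ (p : ℕ) ^ c := orderOf_dvd_of_pow_eq_one hzc
        have : orderOf z = 1 :=
          Nat.eq_one_of_dvd_coprimes (Nat.Coprime.pow b c hcopqp) hzq hzp
        exact hz1 (orderOf_eq_one_iff.mp this)
      obtain ⟨n, hn1⟩ := (Subgroup.ne_bot_iff_exists_ne_one.mp hN1)
      have hnN : (n : G) ∈ N := n.2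
      have hnO : (n : G) ∈ Cfsg.pCore (p : ℕ) G := hNp hnN
      obtain ⟨c, hc⟩ := pCore_isPGroup (p : ℕ) G ⟨n, hnO⟩
      have hnc : (n : G) ^ ((p : ℕ) ^ c) = 1 := congrArg Subtype.val hc
      have hnp : orderOf (n : G) ∣ (p : ℕ) ^ c := orderOf_dvd_of_pow_eq_one hnc
      have hcomm : Commute z (n : G) := pCore_commute hqp' z n hz hnO
      have hcop : Nat.Coprime (orderOf z) (orderOf (n : G)) :=
        Nat.Coprime.coprime_dvd_left hzq (Nat.Coprime.coprime_dvd_right hnp
          (Nat.Coprime.pow b c hcopqp))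
      have h1 := hcomm.orderOf_mul_eq_mul_orderOf_of_coprime hcop
      have h2 := heq z hzN n hnN
      rw [h2] at h1
      have hzpos : 0 < orderOf z := orderOf_pos z
      have : orderOf (n : G) = 1 := by
        have : orderOf z * 1 = orderOf z * orderOf (n : G) := by rw [mul_one]; exact h1
        exact (Nat.eq_of_mul_eq_mul_left hzpos this).symm
      apply hn1
      apply Subtype.ext
      exact orderOf_eq_one_iff.mp this
    have hFp : Cfsg.fittingSubgroup G = Cfsg.pCore (p : ℕ) G := by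
      apply le_antisymm _ (hpF p)
      rw [hF]
      apply iSup_le
      intro q
      by_cases hqp : q = p
      · rw [hqp]
      · rw [hq q hqp]; exact bot_le
    rw [hFp]
    obtain ⟨k, hk⟩ := IsPGroup.iff_card.mp (pCore_isPGroup (p : ℕ) G)
    rw [hk]
    have hk0 : k ≠ 0 := by
      intro h0
      rw [h0, pow_zero] at hk
      have : Cfsg.pCore (p : ℕ) G = ⊥ := Subgroup.card_eq_one.mp hk
      apply hN1
      rw [eq_bot_iff, ← this]
      exact hNp
    exact p.2.isPrimePow.pow hk0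

end Cfsg.Agent.S4107
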