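import Mathlib
import Cfsg.Prelude.Def_Solvable
import Cfsg.Agent.S4107
import Cfsg.Agent.Lib.H1.Fitting
import Cfsg.Agent.Lib.H1.FpfAction
import Cfsg.Agent.Lib.H8.Nilpotent
import Cfsg.Agent.Lib.H22.UniqueOrderP
import Cfsg.Agent.Lib.H22.UniqueInvolution
import Cfsg.Agent.Lib.H22.NilpotentCoprime

set_option autoImplicit false
open Cfsg

namespace Cfsg.Agent.S4155

open Cfsg.Agent.Lib.H1 Cfsg.Agent.Lib.H8 Cfsg.Agent.Lib.H22

variable {G : Type*} [Group G]

/-- fixed points of a `q`-element modulo `N` on `r`-torsion of `N` are trivial -/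
theorem fp [Finite G] (N : Subgroup G) [hNn : N.Normal]
    (heq : ∀ x : G, x ∉ N → ∀ n ∈ N, orderOf (x * n) = orderOf x)
    {q r : ℕ} (hq : q.Prime) (hr : r.Prime) (hqr : q ≠ r) {x v : G} (hx : x ∉ N) (j : ℕ)
    (hxj : x ^ (q ^ j) ∈ N) (hv : v ∈ N) (hc : Commute x v) (hvr : v ^ r = 1) : v = 1 := by
  obtain ⟨c₁, c₂, hc₁, hc₂, hdec, ⟨k, hc₁p⟩, hc₂p⟩ :=
    exists_p_decomp x (orderOf_pos x).ne' q hq
  -- `c₂ ∈ N`
  have hc₂N : c₂ ∈ N := by
    obtain ⟨i, rfl⟩ := Subgroup.mem_zpowers_iff.mp hc₂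
    have h1 : ((x ^ i : G) : G ⧸ N) ^ (q ^ j) = 1 := by
      rw [← QuotientGroup.mk_pow, ← zpow_natCast, ← zpow_mul, mul_comm, zpow_mul, zpow_natCast]
      exact (QuotientGroup.eq_one_iff _).mpr (N.zpow_mem hxj i)
    have h2 : ((x ^ i : G) : G ⧸ N) ^ (orderOf (x ^ i)) = 1 := by
      rw [← QuotientGroup.mk_pow, pow_orderOf_eq_one, QuotientGroup.mk_one]
    have h3 : orderOf ((x ^ i : G) : G ⧸ N) = 1 :=
      Nat.eq_one_of_dvd_coprimes (Nat.Coprime.pow_right j hc₂p)
        (orderOf_dvd_of_pow_eq_one h2) (orderOf_dvd_of_pow_eq_one h1)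
    exact (QuotientGroup.eq_one_iff _).mp (orderOf_eq_one_iff.mp h3)
  have hc₁N : c₁ ∉ N := by
    intro h
    apply hx
    rw [hdec]
    exact N.mul_mem h hc₂N
  have hcomm : Commute c₁ v := by
    obtain ⟨i, rfl⟩ := Subgroup.mem_zpowers_iff.mp hc₁
    exact hc.zpow_left i
  have ho1 : orderOf c₁ ∣ q ^ k := orderOf_dvd_of_pow_eq_one hc₁p
  have ho2 : orderOf v ∣ r := orderOf_dvd_of_pow_eq_one hvr
  have hcop : Nat.Coprime (orderOf c₁) (orderOf v) :=
    Nat.Coprime.coprime_dvd_left ho1 (Nat.Coprime.coprime_dvd_right ho2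
      (Nat.Coprime.pow_left k ((Nat.coprime_primes hq hr).mpr hqr)))
  have h1 := hcomm.orderOf_mul_eq_mul_orderOf_of_coprime hcop
  rw [heq c₁ hc₁N v hv] at h1
  have hpos : 0 < orderOf c₁ := orderOf_pos c₁
  have : orderOf v = 1 := by
    have h2 : orderOf c₁ * 1 = orderOf c₁ * orderOf v := by rw [mul_one]; exact h1
    exact (Nat.eq_of_mul_eq_mul_left hpos h2).symm
  exact orderOf_eq_one_iff.mp this

/-- `Ω₁` of the `r`-part of `Z(N)`, as a subgroup of `G`. -/
def omegaZ (N : Subgroup G) (r : ℕ) : Subgroup G where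
  carrier := {v | v ∈ N ∧ (∀ n ∈ N, n * v = v * n) ∧ v ^ r = 1}
  one_mem' := ⟨N.one_mem, fun n _ => by rw [mul_one, one_mul], one_pow r⟩
  mul_mem' := by
    rintro a b ⟨ha, hac, har⟩ ⟨hb, hbc, hbr⟩
    refine ⟨N.mul_mem ha hb, fun n hn => ?_, ?_⟩
    · rw [← mul_assoc, hac n hn, mul_assoc, hbc n hn, mul_assoc]
    · have hab : Commute a b := (hbc a ha)
      rw [hab.mul_pow, har, hbr, one_mul]
  inv_mem' := by
    rintro a ⟨ha, hac, har⟩
    refine ⟨N.inv_mem ha, fun n hn => ?_, by rw [inv_pow, har, inv_one]⟩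
    have := hac n hn
    calc n * a⁻¹ = a⁻¹ * (a * n) * a⁻¹ := by group
      _ = a⁻¹ * (n * a) * a⁻¹ := by rw [this]
      _ = a⁻¹ * n := by group

theorem mem_omegaZ {N : Subgroup G} {r : ℕ} {v : G} :
    v ∈ omegaZ N r ↔ v ∈ N ∧ (∀ n ∈ N, n * v = v * n) ∧ v ^ r = 1 := Iff.rfl

instance omegaZ_normal (N : Subgroup G) [hNn : N.Normal] (r : ℕ) : (omegaZ N r).Normal := by
  constructor
  rintro v ⟨hv, hvc, hvr⟩ g
  refine ⟨hNn.conj_mem v hv g, fun n hn => ?_, ?_⟩
  · have h1 : g⁻¹ * n * g ∈ N := by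
      have := hNn.conj_mem n hn g⁻¹
      rwa [inv_inv] at this
    have h2 := hvc _ h1
    calc n * (g * v * g⁻¹) = g * ((g⁻¹ * n * g) * v) * g⁻¹ := by group
      _ = g * (v * (g⁻¹ * n * g)) * g⁻¹ := by rw [h2]
      _ = g * v * g⁻¹ * n := by group
  · rw [conj_pow, hvr, mul_one, mul_inv_cancel]

theorem omegaZ_comm (N : Subgroup G) (r : ℕ) (a b : omegaZ N r) : a * b = b * a := by
  apply Subtype.ext
  exact (b.2.2.1 a.1 a.2.1)

theorem omegaZ_ne_bot [Finite G] (N : Subgroup G) (hnil : Group.IsNilpotent N) (r : ℕ)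
    [hr : Fact r.Prime] (hdvd : r ∣ Nat.card N) : omegaZ N r ≠ ⊥ := by
  obtain ⟨P, hPN, hPp, hPcard, hPall⟩ := sylow_of_nilpotent N hnil r
  have hfac : 0 < (Nat.card N).factorization r :=
    (hr.out.factorization_pos_of_dvd Nat.card_pos.ne' hdvd)
  haveI : Nontrivial P := by
    rw [← Finite.one_lt_card_iff_nontrivial, hPcard]
    exact Nat.one_lt_pow hfac.ne' hr.out.one_lt
  haveI := hPp.center_nontrivial
  have hZp : IsPGroup r (Subgroup.center P) := hPp.to_subgroup _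
  have hdvdZ : r ∣ Nat.card (Subgroup.center P) := by
    obtain ⟨k, hk⟩ := IsPGroup.iff_card.mp hZp
    have hk0 : k ≠ 0 := by
      intro h0
      rw [h0, pow_zero] at hk
      have := Finite.one_lt_card_iff_nontrivial.mpr (inferInstance : Nontrivial (Subgroup.center P))
      omega
    rw [hk]
    exact dvd_pow_self r hk0
  obtain ⟨z, hz⟩ := exists_prime_orderOf_dvd_card' r hdvdZ
  have hzo : orderOf ((z : P) : G) = r := by
    rw [Subgroup.orderOf_coe, Subgroup.orderOf_coe]; exact hz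
  have hyc : ∀ u ∈ P, ((z : P) : G) * u = u * ((z : P) : G) := by
    intro u hu
    have := Subgroup.mem_center_iff.mp z.2 ⟨u, hu⟩
    exact (congrArg Subtype.val this).symm
  have hcen := central_of_sylow_central N hnil r P hPN hPp hPall (z : P).2 hyc
  intro hbot
  have hmem : ((z : P) : G) ∈ omegaZ N r := by
    refine ⟨hPN (z : P).2, fun n hn => (hcen n hn).symm, ?_⟩
    rw [← hzo]; exact pow_orderOf_eq_one _
  rw [hbot, Subgroup.mem_bot] at hmem
  rw [hmem, orderOf_one] at hzo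
  exact hr.out.one_lt.ne hzo

/-- the action of `G ⧸ N` on `Ω₁(O_r(Z(N)))` -/
noncomputable def act (N : Subgroup G) [hNn : N.Normal] (r : ℕ) : G ⧸ N →* MulAut (omegaZ N r) :=
  QuotientGroup.lift N (MulAut.conjNormal (H := omegaZ N r)) (by
    intro n hn
    rw [MonoidHom.mem_ker]
    ext v
    rw [MulAut.conjNormal_apply, MulAut.one_apply]
    rw [v.2.2.1 n hn, mul_assoc, mul_inv_cancel, mul_one])

theorem act_mk (N : Subgroup G) [hNn : N.Normal] (r : ℕ) (g : G) (v : omegaZ N r) :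
    ((act N r (g : G ⧸ N) v : omegaZ N r) : G) = g * (v : G) * g⁻¹ := by
  unfold act
  rw [QuotientGroup.lift_mk, MulAut.conjNormal_apply]

/-- abelian subgroups of a `q`-subgroup of `G ⧸ N` are cyclic -/
theorem abelian_cyclic [Finite G] (N : Subgroup G) [hNn : N.Normal]
    (heq : ∀ x : G, x ∉ N → ∀ n ∈ N, orderOf (x * n) = orderOf x)
    (hnil : Group.IsNilpotent N) {q r : ℕ} [hq : Fact q.Prime] [hr : Fact r.Prime] (hqr : q ≠ r)
    (hdvd : r ∣ Nat.card N) (Q : Subgroup (G ⧸ N)) (hQ : IsPGroup q Q) (B : Subgroup Q)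
    (hB : ∀ a ∈ B, ∀ b ∈ B, a * b = b * a) : IsCyclic B := by
  let S := (omegaZ N r) ⋊[act N r] (G ⧸ N)
  haveI : Finite S := Finite.of_equiv _ SemidirectProduct.equivProd.symm
  let ψ : Q →* S := (SemidirectProduct.inr : (G ⧸ N) →* S).comp Q.subtype
  have hψinj : Function.Injective ψ := by
    intro a b hab
    exact Subtype.ext (SemidirectProduct.inr_injective hab)
  let K : Subgroup S := (SemidirectProduct.inl : omegaZ N r →* S).range
  haveI hKn : K.Normal := by
    show (SemidirectProduct.inl : omegaZ N r →* S).range.Normal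
    rw [SemidirectProduct.range_inl_eq_ker_rightHom]
    infer_instance
  haveI : IsMulCommutative K := by
    refine ⟨⟨?_⟩⟩
    rintro ⟨_, ⟨x, rfl⟩⟩ ⟨_, ⟨y, rfl⟩⟩
    apply Subtype.ext
    show SemidirectProduct.inl x * SemidirectProduct.inl y
      = SemidirectProduct.inl y * SemidirectProduct.inl x
    rw [← map_mul, ← map_mul, omegaZ_comm N r x y]
  haveI : IsMulCommutative (B.map ψ) := by
    refine ⟨⟨?_⟩⟩
    rintro ⟨_, ⟨x, hx, rfl⟩⟩ ⟨_, ⟨y, hy, rfl⟩⟩
    apply Subtype.ext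
    show ψ x * ψ y = ψ y * ψ x
    rw [← map_mul, ← map_mul, hB x hx y hy]
  have hK : K ≠ ⊥ := by
    intro hbot
    apply omegaZ_ne_bot N hnil r hdvd
    rw [Subgroup.eq_bot_iff_forall]
    intro v hv
    have : (SemidirectProduct.inl (⟨v, hv⟩ : omegaZ N r) : S) ∈ K := ⟨_, rfl⟩
    rw [hbot, Subgroup.mem_bot] at this
    have h1 : (⟨v, hv⟩ : omegaZ N r) = 1 :=
      SemidirectProduct.inl_injective (this.trans (map_one _).symm)
    exact congrArg Subtype.val h1
  have hAK : B.map ψ ≤ Subgroup.normalizer (K : Set S) := by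
    rw [Subgroup.normalizer_eq_top_iff.2 hKn]; exact le_top
  have hfpf : ∀ a ∈ B.map ψ, a ≠ 1 → K ⊓ Subgroup.centralizer {a} = ⊥ := by
    rintro _ ⟨b, hb, rfl⟩ hb1
    rw [Subgroup.eq_bot_iff_forall]
    rintro s hs
    obtain ⟨⟨v, rfl⟩, hs2⟩ := Subgroup.mem_inf.mp hs
    have hcomm : ψ b * SemidirectProduct.inl v = SemidirectProduct.inl v * ψ b :=
      (Subgroup.mem_centralizer_singleton_iff.mp hs2).symm
    have h1 : (SemidirectProduct.inl (act N r (b : G ⧸ N) v) : S) = SemidirectProduct.inl v := by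
      rw [SemidirectProduct.inl_aut]
      show ψ b * SemidirectProduct.inl v * SemidirectProduct.inr ((b : G ⧸ N))⁻¹ = _
      rw [hcomm, mul_assoc]
      show SemidirectProduct.inl v * (SemidirectProduct.inr (b : G ⧸ N) *
        SemidirectProduct.inr ((b : G ⧸ N))⁻¹) = _
      rw [← map_mul, mul_inv_cancel, map_one, mul_one]
    have h2 : act N r (b : G ⧸ N) v = v := SemidirectProduct.inl_injective h1
    obtain ⟨x, hxb⟩ := QuotientGroup.mk_surjective (b : G ⧸ N)
    have hxN : x ∉ N := by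
      intro hx
      apply hb1
      have : (b : G ⧸ N) = 1 := by rw [← hxb]; exact (QuotientGroup.eq_one_iff x).mpr hx
      have hb' : b = 1 := Subtype.ext this
      rw [hb', map_one]
    obtain ⟨j, hj⟩ := hQ b
    have hxj : x ^ (q ^ j) ∈ N := by
      have : ((b : G ⧸ N)) ^ (q ^ j) = 1 := by
        have := congrArg Subtype.val hj
        simpa using this
      rw [← hxb, ← QuotientGroup.mk_pow] at this
      exact (QuotientGroup.eq_one_iff _).mp this
    have h3 : x * (v : G) * x⁻¹ = (v : G) := by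
      rw [← act_mk N r x v, hxb, h2]
    have hc : Commute x (v : G) := by
      show x * (v : G) = (v : G) * x
      calc x * (v : G) = (x * (v : G) * x⁻¹) * x := by group
        _ = (v : G) * x := by rw [h3]
    have hv1 : (v : G) = 1 :=
      fp N heq hq.out hr.out hqr hxN j hxj v.2.1 hc v.2.2.2
    have : v = 1 := Subtype.ext hv1
    rw [this, map_one]
  haveI : IsCyclic (B.map ψ) := isCyclic_of_fpf_of_comm hK hAK hfpf
  exact isCyclic_of_surjective (B.equivMapOfInjective ψ hψinj).symm.toMonoidHom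
    (B.equivMapOfInjective ψ hψinj).symm.surjective

theorem result {G : Type*} [Group G] [Finite G] (N : Subgroup G) [N.Normal] (hN1 : N ≠ ⊥) (hN2 : N ≠ ⊤)
    (heq : ∀ x : G, x ∉ N → ∀ n ∈ N, orderOf (x * n) = orderOf x)
    (hnil : Group.IsNilpotent N) (hnpp : ¬ IsPrimePow (Nat.card N)) :
    N = Cfsg.fittingSubgroup G ∧
    ∀ (q : ℕ) [Fact q.Prime] (Q : Sylow q (G ⧸ N)), IsCyclic (Q : Subgroup (G ⧸ N)) ∨ ∃ n : ℕ, Nonempty ((Q : Subgroup (G ⧸ N)) ≃* QuaternionGroup (2 ^ n)) := by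
  have hNn : N.Normal := inferInstance
  have hcard1 : Nat.card N ≠ 1 := fun h => hN1 (Subgroup.card_eq_one.mp h)
  constructor
  · -- `N = F(G)`
    have hle : N ≤ Cfsg.fittingSubgroup G := le_fittingSubgroup hNn hnil
    by_contra hne
    have hlt : N < Cfsg.fittingSubgroup G := lt_of_le_of_ne hle hne
    have hpp := (Cfsg.Agent.S4107.result N hN1 hN2 heq).2 hlt
    obtain ⟨p, k, hp, hk, hpk⟩ := (isPrimePow_nat_iff _).mp hpp
    have hdvd : Nat.card N ∣ p ^ k := by
      rw [hpk]; exact Subgroup.card_dvd_of_le hle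
    obtain ⟨i, hi, hNi⟩ := (Nat.dvd_prime_pow hp).mp hdvd
    apply hnpp
    rw [hNi]
    have hi0 : i ≠ 0 := by
      intro h0; rw [h0, pow_zero] at hNi; exact hcard1 hNi
    exact hp.isPrimePow.pow hi0
  · intro q hq Q
    -- a prime `r ≠ q` dividing `|N|`
    obtain ⟨r, hr, hrq, hrdvd⟩ : ∃ r : ℕ, r.Prime ∧ q ≠ r ∧ r ∣ Nat.card N := by
      by_contra hcon
      push_neg at hcon
      have h1 : Nat.card N = q ^ (Nat.card N).primeFactorsList.length :=
        Nat.eq_prime_pow_of_unique_prime_dvd Nat.card_pos.ne' (fun {d} hd hdvd => by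
          by_contra hdq
          exact hcon d hd (fun h => hdq h.symm) hdvd)
      apply hnpp
      rw [h1]
      have hl0 : (Nat.card N).primeFactorsList.length ≠ 0 := by
        intro h0; rw [h0, pow_zero] at h1; exact hcard1 h1
      exact hq.out.isPrimePow.pow hl0
    haveI : Fact r.Prime := ⟨hr⟩
    have hab : ∀ B : Subgroup (Q : Subgroup (G ⧸ N)), (∀ a ∈ B, ∀ b ∈ B, a * b = b * a) → IsCyclic B :=
      fun B hB => abelian_cyclic N heq hnil hrq hrdvd (Q : Subgroup (G ⧸ N)) Q.isPGroup' B hB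
    have hamo : AtMostOneOrderP q (Q : Subgroup (G ⧸ N)) := atMostOne_of_abelian_cyclic Q.isPGroup' hab
    by_cases hq2 : q = 2
    · subst hq2
      rcases cyclic_or_quaternion_of_atMostOne Q.isPGroup' hamo with hc | ⟨n, -, hn⟩
      · exact Or.inl hc
      · exact Or.inr ⟨n, hn⟩
    · exact Or.inl (isCyclic_of_atMostOne_of_odd hq2 _ (Q : Subgroup (G ⧸ N)) rfl Q.isPGroup' hamo)

end Cfsg.Agent.S4155
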