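import Mathlib
import Cfsg.Prelude.Def_Solvable
import Cfsg.Agent.Lib.L0.Tate
import Cfsg.Agent.Lib.H1.FpfNilpotent
import Cfsg.Agent.S4155
import Cfsg.Agent.Lib.H20.ConjCover
import Cfsg.Agent.Lib.H20.Wielandt
import Cfsg.Agent.Lib.H21.ClassSize
import Cfsg.Agent.Lib.H22.TwoGroupAb4
import Cfsg.Agent.Lib.H1.PGroupBasic

set_option autoImplicit false
open Cfsg

namespace Cfsg.Agent.S4140

open scoped Pointwise

variable {G : Type*} [Group G]

/-- the Camina condition -/
def Cam (N : Subgroup G) : Prop := ∀ g : G, g ∉ N → ∀ n ∈ N, ∃ x : G, x * g * x⁻¹ = g * n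

theorem Cam.heq {N : Subgroup G} (h : Cam N) :
    ∀ x : G, x ∉ N → ∀ n ∈ N, orderOf (x * n) = orderOf x := by
  intro x hx n hn
  obtain ⟨w, hw⟩ := h x hx n hn
  rw [← hw]
  have := (MulAut.conj w).orderOf_eq x
  rwa [MulAut.conj_apply] at this

theorem Cam.quotient {N : Subgroup G} (h : Cam N) (M : Subgroup G) [M.Normal] :
    Cam (N.map (QuotientGroup.mk' M)) := by
  intro g' hg' n' hn'
  obtain ⟨g, rfl⟩ := QuotientGroup.mk_surjective g'
  obtain ⟨n, hn, rfl⟩ := hn'
  have hg : g ∉ N := fun hg => hg' ⟨g, hg, rfl⟩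
  obtain ⟨x, hx⟩ := h g hg n hn
  refine ⟨(x : G ⧸ M), ?_⟩
  show (QuotientGroup.mk' M x) * (QuotientGroup.mk' M g) * (QuotientGroup.mk' M x)⁻¹
    = (QuotientGroup.mk' M g) * (QuotientGroup.mk' M n)
  rw [← map_inv, ← map_mul, ← map_mul, ← map_mul, hx]

theorem Cam.fp [Finite G] {N : Subgroup G} [N.Normal] (h : Cam N) {t s : ℕ} (ht : t.Prime)
    (hs : s.Prime) (hts : t ≠ s) {x v : G} (hx : x ∉ N) (j : ℕ) (hxj : x ^ (t ^ j) ∈ N)
    (hv : v ∈ N) (hc : Commute x v) (hvs : v ^ s = 1) : v = 1 :=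
  Cfsg.Agent.S4155.fp N h.heq ht hs hts hx j hxj hv hc hvs

theorem Cam.eq_one_of_commute [Finite G] {N : Subgroup G} [N.Normal] (h : Cam N) {t : ℕ}
    (ht : t.Prime) (hcop : ¬ t ∣ Nat.card N) {x v : G} (hx : x ∉ N) (j : ℕ)
    (hxj : x ^ (t ^ j) ∈ N) (hv : v ∈ N) (hc : Commute x v) : v = 1 := by
  by_contra hv1
  have ho1 : orderOf v ≠ 1 := fun h1 => hv1 (orderOf_eq_one_iff.mp h1)
  obtain ⟨s, hs, hsd⟩ := Nat.exists_prime_and_dvd ho1
  have hpos := orderOf_pos v
  have hdd : orderOf v / s ∣ orderOf v := Nat.div_dvd_of_dvd hsd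
  have hne : orderOf v / s ≠ 0 := by
    intro h0
    have := Nat.div_mul_cancel hsd
    rw [h0, zero_mul] at this
    omega
  obtain ⟨v', hv'def⟩ : ∃ v' : G, v' = v ^ (orderOf v / s) := ⟨_, rfl⟩
  have hv'o : orderOf v' = s := by
    rw [hv'def, orderOf_pow_of_dvd hne hdd, Nat.div_div_self hsd hpos.ne']
  have hv'N : v' ∈ N := by rw [hv'def]; exact N.pow_mem hv _
  have hsN : s ∣ Nat.card N := by
    have : orderOf (⟨v', hv'N⟩ : N) = orderOf v' := Subgroup.orderOf_mk _ hv'N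
    rw [← hv'o, ← this]
    exact orderOf_dvd_natCard _
  have hts : t ≠ s := by
    rintro rfl
    exact hcop hsN
  have hc' : Commute x v' := by rw [hv'def]; exact hc.pow_right _
  have hpow : v' ^ s = 1 := by
    have := pow_orderOf_eq_one v'
    rwa [hv'o] at this
  have h1 := h.fp ht hs hts hx j hxj hv'N hc' hpow
  rw [h1, orderOf_one] at hv'o
  exact hs.one_lt.ne hv'o

/-- the class of `y ∉ N` is a union of cosets of `N`, so `|C_G(y)|` divides `|G : N|` -/
theorem Cam.card_centralizer_dvd [Finite G] {N : Subgroup G} [hNn : N.Normal] (h : Cam N) {y : G}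
    (hy : y ∉ N) : Nat.card (Subgroup.centralizer ({y} : Set G)) ∣ N.index := by
  classical
  have hmem : ∀ (n : N) (s : {c : G // IsConj y c}), IsConj y ((n : G) * (s : G)) := by
    intro n s
    have hs := s.2
    obtain ⟨c, hc⟩ := isConj_iff.mp hs
    have hsN : (s : G) ∉ N := by
      intro hsN
      apply hy
      have : y = c⁻¹ * (s : G) * c⁻¹⁻¹ := by rw [← hc]; group
      rw [this]
      exact hNn.conj_mem _ hsN _
    have hn' : (s : G)⁻¹ * (n : G) * (s : G) ∈ N := by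
      have := hNn.conj_mem _ n.2 (s : G)⁻¹
      rwa [inv_inv] at this
    obtain ⟨w, hw⟩ := h _ hsN _ hn'
    have h2 : IsConj (s : G) ((n : G) * (s : G)) := by
      rw [isConj_iff]
      refine ⟨w, ?_⟩
      rw [hw]; group
    exact hs.trans h2
  letI : MulAction N {c : G // IsConj y c} :=
    { smul := fun n s => ⟨(n : G) * (s : G), hmem n s⟩
      one_smul := fun s => Subtype.ext (one_mul _)
      mul_smul := fun a b s => Subtype.ext (mul_assoc _ _ _) }
  have hstab : ∀ s : {c : G // IsConj y c}, Nat.card N ∣ (MulAction.stabilizer N s).index := by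
    intro s
    have : MulAction.stabilizer N s = ⊥ := by
      rw [Subgroup.eq_bot_iff_forall]
      intro n hn
      rw [MulAction.mem_stabilizer_iff] at hn
      have h1 : (n : G) * (s : G) = (s : G) := congrArg Subtype.val hn
      exact Subtype.ext (mul_eq_right.mp h1)
    rw [this, Subgroup.index_bot]
  have hdvd := Cfsg.Agent.Lib.H20.dvd_card_of_forall_dvd_index_stabilizer (G := N)
    (X := {c : G // IsConj y c}) (Nat.card N) hstab
  rw [Cfsg.Agent.Lib.H21.card_conj_eq_index_centralizer] at hdvd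
  obtain ⟨k, hk⟩ := hdvd
  have h1 := Subgroup.card_mul_index (Subgroup.centralizer ({y} : Set G))
  have h2 := Subgroup.card_mul_index N
  refine ⟨k, ?_⟩
  have hpos : 0 < Nat.card N := Nat.card_pos
  apply Nat.eq_of_mul_eq_mul_left hpos
  rw [h2, ← h1, hk]
  ring


/-- a power of `t` dividing `m ≠ 0` is at most the `t`-part -/
theorem pow_le_of_dvd {t m c : ℕ} (ht : t.Prime) (hm : m ≠ 0) (h : t ^ c ∣ m) :
    c ≤ m.factorization t :=
  (ht.pow_dvd_iff_le_factorization hm).mp h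

/-- the key counting lemma: a central element of order `t` of `TN/N` whose commutators with `T`
cover `T ∩ N` -/
theorem Cam.key [Finite G] {N : Subgroup G} [hNn : N.Normal] (h : Cam N) {t : ℕ}
    [ht : Fact t.Prime] (htidx : t ∣ N.index) (T : Sylow t G) :
    ∃ y ∈ (T : Subgroup G), y ∉ N ∧ y ^ t ∈ N ∧
      (∀ z ∈ (T : Subgroup G), z * y * z⁻¹ * y⁻¹ ∈ N) ∧
      ∀ n ∈ N, n ∈ (T : Subgroup G) → ∃ z ∈ (T : Subgroup G), z * y * z⁻¹ * y⁻¹ = n := by
  classical
  have hI0 : N.index ≠ 0 := Subgroup.index_ne_zero_of_finite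
  have hN0 : Nat.card N ≠ 0 := Nat.card_pos.ne'
  have hG0 : Nat.card G ≠ 0 := Nat.card_pos.ne'
  set vG := (Nat.card G).factorization t with hvG
  set vN := (Nat.card N).factorization t with hvN
  set vI := N.index.factorization t with hvI
  have hv : vG = vN + vI := by
    rw [hvG, ← Subgroup.card_mul_index N, Nat.factorization_mul hN0 hI0]
    rfl
  have hvI1 : 1 ≤ vI := by
    apply pow_le_of_dvd ht.out hI0
    rwa [pow_one]
  have hTcard : Nat.card (T : Subgroup G) = t ^ vG := T.card_eq_multiplicity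
  -- `T` is not contained in `N`
  have hTN : ¬ (T : Subgroup G) ≤ N := by
    intro hle
    have h1 := Subgroup.card_dvd_of_le hle
    rw [hTcard] at h1
    have := pow_le_of_dvd ht.out hN0 h1
    omega
  obtain ⟨x₀, hx₀T, hx₀N⟩ := SetLike.not_le_iff_exists.mp hTN
  -- the image of `T` in `G ⧸ N`
  set Tb : Subgroup (G ⧸ N) := (T : Subgroup G).map (QuotientGroup.mk' N) with hTb
  have hTbp : IsPGroup t Tb := T.isPGroup'.map _
  have hTbne : Tb ≠ ⊥ := by
    intro hb
    apply hx₀N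
    have : (QuotientGroup.mk' N x₀) ∈ Tb := ⟨x₀, hx₀T, rfl⟩
    rw [hb, Subgroup.mem_bot] at this
    exact (QuotientGroup.eq_one_iff x₀).mp this
  haveI : Nontrivial Tb := (Subgroup.nontrivial_iff_ne_bot Tb).mpr hTbne
  obtain ⟨z, -, hzc, hzo⟩ :=
    Cfsg.Agent.Lib.H22.exists_central_orderOf_eq_prime hTbp (⊤ : Subgroup Tb) top_ne_bot
  obtain ⟨y, hyT, hyz⟩ := z.2
  have hyz' : ((y : G) : G ⧸ N) = (z : G ⧸ N) := hyz
  have hzo' : orderOf (z : G ⧸ N) = t := by rw [Subgroup.orderOf_coe]; exact hzo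
  have hyN : y ∉ N := by
    intro hy
    have h1 : ((y : G) : G ⧸ N) = 1 := (QuotientGroup.eq_one_iff y).mpr hy
    rw [hyz'] at h1
    rw [h1, orderOf_one] at hzo'
    exact ht.out.one_lt.ne hzo'
  have hytN : y ^ t ∈ N := by
    rw [← QuotientGroup.eq_one_iff, QuotientGroup.mk_pow, hyz', ← hzo']
    exact pow_orderOf_eq_one _
  have hcommN : ∀ w ∈ (T : Subgroup G), w * y * w⁻¹ * y⁻¹ ∈ N := by
    intro w hw
    rw [← QuotientGroup.eq_one_iff, QuotientGroup.mk_mul, QuotientGroup.mk_mul, QuotientGroup.mk_mul,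
      QuotientGroup.mk_inv, QuotientGroup.mk_inv, hyz']
    have hwb : ((w : G) : G ⧸ N) ∈ Tb := ⟨w, hw, rfl⟩
    have h1 := Subgroup.mem_center_iff.mp hzc ⟨_, hwb⟩
    have h2 : ((w : G) : G ⧸ N) * (z : G ⧸ N) = (z : G ⧸ N) * ((w : G) : G ⧸ N) :=
      congrArg Subtype.val h1
    rw [h2]
    group
  refine ⟨y, hyT, hyN, hytN, hcommN, ?_⟩
  -- counting
  set y' : (T : Subgroup G) := ⟨y, hyT⟩ with hy'
  set Cy : Subgroup (T : Subgroup G) := Subgroup.centralizer ({y'} : Set (T : Subgroup G)) with hCy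
  have hCyG : Cy.map (T : Subgroup G).subtype ≤ Subgroup.centralizer ({y} : Set G) := by
    rintro _ ⟨c, hc, rfl⟩
    have hc' : c ∈ Subgroup.centralizer ({y'} : Set (T : Subgroup G)) := hc
    rw [Subgroup.mem_centralizer_singleton_iff] at hc' ⊢
    exact congrArg Subtype.val hc'
  have hCy1 : Nat.card Cy ∣ N.index := by
    have h1 := Subgroup.card_dvd_of_le hCyG
    rw [Subgroup.card_map_of_injective (T : Subgroup G).subtype_injective] at h1
    exact h1.trans (h.card_centralizer_dvd hyN)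
  have hCy2 : Nat.card Cy ∣ t ^ vG := by
    rw [← hTcard]; exact Subgroup.card_subgroup_dvd_card Cy
  obtain ⟨c, hcle, hc⟩ := (Nat.dvd_prime_pow ht.out).mp hCy2
  have hcI : c ≤ vI := by
    apply pow_le_of_dvd ht.out hI0
    rw [← hc]; exact hCy1
  have hidx : Cy.index = t ^ (vG - c) := by
    have h1 := Subgroup.card_mul_index Cy
    rw [hTcard, hc] at h1
    have h2 : t ^ vG = t ^ c * t ^ (vG - c) := by rw [← pow_add]; congr 1; omega
    rw [h2] at h1
    exact Nat.eq_of_mul_eq_mul_left (pow_pos ht.out.pos c) h1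
  set T₁ : Subgroup (T : Subgroup G) := N.subgroupOf (T : Subgroup G) with hT₁
  have hT₁card : Nat.card T₁ ≤ t ^ vN := by
    have e : T₁ ≃* (N ⊓ (T : Subgroup G) : Subgroup G) := by
      rw [hT₁, ← Subgroup.inf_subgroupOf_right]
      exact Subgroup.subgroupOfEquivOfLe inf_le_right
    rw [Nat.card_congr e.toEquiv]
    have h1 : Nat.card (N ⊓ (T : Subgroup G) : Subgroup G) ∣ Nat.card N :=
      Subgroup.card_dvd_of_le inf_le_left
    have h2 : Nat.card (N ⊓ (T : Subgroup G) : Subgroup G) ∣ t ^ vG := by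
      rw [← hTcard]; exact Subgroup.card_dvd_of_le inf_le_right
    obtain ⟨b, -, hb⟩ := (Nat.dvd_prime_pow ht.out).mp h2
    rw [hb] at h1 ⊢
    exact Nat.pow_le_pow_right ht.out.pos (pow_le_of_dvd ht.out hN0 h1)
  -- the injective map from the `T`-class of `y` to `T ∩ N`
  have hφmem : ∀ s : {c : (T : Subgroup G) // IsConj y' c}, (s : (T : Subgroup G)) * y'⁻¹ ∈ T₁ := by
    intro s
    obtain ⟨w, hw⟩ := isConj_iff.mp s.2
    rw [hT₁, Subgroup.mem_subgroupOf, ← hw]
    exact hcommN w w.2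
  let φ : {c : (T : Subgroup G) // IsConj y' c} → T₁ := fun s => ⟨_, hφmem s⟩
  have hφinj : Function.Injective φ := by
    intro a b hab
    have h1 : (a : (T : Subgroup G)) * y'⁻¹ = (b : (T : Subgroup G)) * y'⁻¹ :=
      congrArg Subtype.val hab
    exact Subtype.ext (mul_right_cancel h1)
  have hle : Nat.card T₁ ≤ Nat.card {c : (T : Subgroup G) // IsConj y' c} := by
    rw [Cfsg.Agent.Lib.H21.card_conj_eq_index_centralizer, ← hCy, hidx]
    calc Nat.card T₁ ≤ t ^ vN := hT₁card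
      _ ≤ t ^ (vG - c) := Nat.pow_le_pow_right ht.out.pos (by omega)
  have hφbij := hφinj.bijective_of_nat_card_le hle
  intro n hnN hnT
  obtain ⟨s, hs⟩ := hφbij.2 ⟨⟨n, hnT⟩, by rw [hT₁, Subgroup.mem_subgroupOf]; exact hnN⟩
  obtain ⟨w, hw⟩ := isConj_iff.mp s.2
  refine ⟨(w : G), w.2, ?_⟩
  have h1 : ((s : (T : Subgroup G)) * y'⁻¹ : (T : Subgroup G)) = ⟨n, hnT⟩ :=
    congrArg Subtype.val hs
  rw [← hw] at h1
  exact congrArg Subtype.val h1


/-- a normal Hall subgroup of a normal subgroup is normal in the whole group -/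
theorem normal_map_of_hall [Finite G] {N : Subgroup G} [hNn : N.Normal] {t : ℕ} (ht : t.Prime)
    (M₀ : Subgroup N) [hM₀ : M₀.Normal] (hcop : ¬ t ∣ Nat.card M₀) {k : ℕ}
    (hidx : M₀.index = t ^ k) : (M₀.map N.subtype).Normal := by
  have hchar : ∀ n : N, n ∈ M₀ ↔ (orderOf n).Coprime t := by
    intro n
    constructor
    · intro hn
      have h1 : orderOf n ∣ Nat.card M₀ := by
        have : orderOf (⟨n, hn⟩ : M₀) = orderOf n := Subgroup.orderOf_mk n hn
        rw [← this]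
        exact orderOf_dvd_natCard _
      exact Nat.Coprime.coprime_dvd_left h1 ((Nat.Prime.coprime_iff_not_dvd ht).mpr hcop).symm
    · intro hn
      have h1 : n ^ (t ^ k) ∈ M₀ := hidx ▸ M₀.pow_index_mem n
      obtain ⟨m, hm⟩ := exists_pow_eq_self_of_coprime (x := n) (n := t ^ k)
        (Nat.Coprime.pow_left k hn.symm)
      rw [← hm]
      exact M₀.pow_mem h1 m
  constructor
  rintro _ ⟨n, hn, rfl⟩ g
  have hmem : g * (n : G) * g⁻¹ ∈ N := hNn.conj_mem _ n.2 g
  refine ⟨⟨_, hmem⟩, ?_, rfl⟩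
  show (⟨_, hmem⟩ : N) ∈ M₀
  rw [hchar]
  have h1 : orderOf (⟨g * (n : G) * g⁻¹, hmem⟩ : N) = orderOf n := by
    rw [Subgroup.orderOf_mk, ← Subgroup.orderOf_coe n]
    have := (MulAut.conj g).orderOf_eq (n : G)
    rwa [MulAut.conj_apply] at this
  rw [h1]
  exact (hchar n).mp hn

/-- Tate: if `t ∣ |G : N|` then `N` has a normal `t`-complement, normal in `G`. -/
theorem Cam.exists_normal_complement [Finite G] {N : Subgroup G} [hNn : N.Normal] (h : Cam N)
    {t : ℕ} [ht : Fact t.Prime] (htidx : t ∣ N.index) :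
    ∃ M : Subgroup G, M.Normal ∧ M ≤ N ∧ ¬ t ∣ Nat.card M ∧ ∃ k : ℕ, ∀ n ∈ N, n ^ (t ^ k) ∈ M := by
  obtain ⟨T⟩ : Nonempty (Sylow t G) := inferInstance
  obtain ⟨y, hyT, -, -, -, hsurj⟩ := h.key htidx T
  have hle : N ⊓ (T : Subgroup G) ≤ (frattini (T : Subgroup G)).map (T : Subgroup G).subtype := by
    intro n hn
    obtain ⟨hnN, hnT⟩ := Subgroup.mem_inf.mp hn
    obtain ⟨z, hzT, hz⟩ := hsurj n hnN hnT
    have hcm : ∀ a b : (T : Subgroup G), a * b * a⁻¹ * b⁻¹ ∈ commutator (T : Subgroup G) := by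
      intro a b
      rw [commutator_def, ← commutatorElement_def]
      exact Subgroup.commutator_mem_commutator (Subgroup.mem_top _) (Subgroup.mem_top _)
    refine ⟨(⟨z, hzT⟩ : (T : Subgroup G)) * (⟨y, hyT⟩ : (T : Subgroup G)) *
      (⟨z, hzT⟩ : (T : Subgroup G))⁻¹ * (⟨y, hyT⟩ : (T : Subgroup G))⁻¹, ?_, hz⟩
    exact Cfsg.Agent.Lib.H1.isPGroup_commutator_le_frattini T.isPGroup' (hcm _ _)
  have hnpc := Cfsg.Agent.Lib.L0.tate T N hle
  obtain ⟨M₀, hM₀n, hM₀cop, k, hk⟩ := Cfsg.Agent.Lib.L0.HasNormalPComplement.exists_normal hnpc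
  refine ⟨M₀.map N.subtype, normal_map_of_hall ht.out M₀ hM₀cop hk, Subgroup.map_subtype_le M₀, ?_,
    k, ?_⟩
  · rw [Subgroup.card_map_of_injective N.subtype_injective]
    exact hM₀cop
  · intro n hn
    have h1 : (⟨n, hn⟩ : N) ^ (t ^ k) ∈ M₀ := hk ▸ M₀.pow_index_mem _
    exact ⟨_, h1, rfl⟩


open Cfsg.Agent.Lib.H22 in
/-- If `t` divides both `|N|` and `|G : N|`, then a `t`-subgroup of the quotient has more than one
subgroup of order `t`. -/
theorem Cam.false_of_atMostOne [Finite G] {N : Subgroup G} [hNn : N.Normal] (h : Cam N) {t : ℕ}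
    [ht : Fact t.Prime] (htN : t ∣ Nat.card N) (htidx : t ∣ N.index)
    {Γ : Type*} [Group Γ] (π : G →* Γ) (hker : π.ker = N)
    (huniq : ∀ Q : Subgroup Γ, IsPGroup t Q → AtMostOneOrderP t Q) : False := by
  classical
  obtain ⟨T⟩ : Nonempty (Sylow t G) := inferInstance
  obtain ⟨y, hyT, hyN, hytN, hcommN, hsurj⟩ := h.key htidx T
  have hmemker : ∀ x : G, π x = 1 ↔ x ∈ N := by
    intro x; rw [← hker, MonoidHom.mem_ker]
  -- `T ∩ N ≠ 1`
  have hT₁ne : N.subgroupOf (T : Subgroup G) ≠ ⊥ := by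
    obtain ⟨x, hx⟩ := exists_prime_orderOf_dvd_card' t htN
    have hxo : orderOf (x : G) = t := by rw [Subgroup.orderOf_coe]; exact hx
    have hZp : IsPGroup t (Subgroup.zpowers (x : G)) :=
      IsPGroup.of_card (n := 1) (by rw [Nat.card_zpowers, hxo, pow_one])
    obtain ⟨T', hT'⟩ := hZp.exists_le_sylow
    obtain ⟨g, hg⟩ := MulAction.exists_smul_eq G T' T
    have hxT' : (x : G) ∈ (T' : Subgroup G) := hT' (Subgroup.mem_zpowers _)
    have hgx : g * (x : G) * g⁻¹ ∈ (T : Subgroup G) := by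
      rw [← hg, Sylow.coe_subgroup_smul]
      have := Subgroup.smul_mem_pointwise_smul (x : G) (MulAut.conj g) (T' : Subgroup G) hxT'
      rwa [MulAut.smul_def, MulAut.conj_apply] at this
    intro hbot
    have hmem : (⟨g * (x : G) * g⁻¹, hgx⟩ : (T : Subgroup G)) ∈ N.subgroupOf (T : Subgroup G) := by
      rw [Subgroup.mem_subgroupOf]
      exact hNn.conj_mem _ x.2 g
    rw [hbot, Subgroup.mem_bot] at hmem
    have h1 : g * (x : G) * g⁻¹ = 1 := congrArg Subtype.val hmem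
    have h2 : (x : G) = 1 := by
      have : (x : G) = g⁻¹ * (g * (x : G) * g⁻¹) * g := by group
      rw [this, h1]; group
    rw [h2, orderOf_one] at hxo
    exact ht.out.one_lt.ne hxo
  obtain ⟨n₀, hn₀N, hn₀c, hn₀1⟩ :=
    Cfsg.Agent.Lib.H8.exists_central_mem_of_normal T.isPGroup' (N.subgroupOf (T : Subgroup G)) hT₁ne
  -- (c) every element of `T` outside `N` commutes with a `T`-conjugate of `y`
  have hc : ∀ a ∈ (T : Subgroup G), a ∉ N → ∃ z ∈ (T : Subgroup G), Commute a (z * y * z⁻¹) := by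
    intro a haT haN
    set Q : Subgroup Γ := (T : Subgroup G).map π with hQ
    have hQp : IsPGroup t Q := T.isPGroup'.map _
    have hun := huniq Q hQp
    have hyQ : π y ∈ Q := ⟨y, hyT, rfl⟩
    have haQ : π a ∈ Q := ⟨a, haT, rfl⟩
    have hy1 : π y ≠ 1 := fun h1 => hyN ((hmemker y).mp h1)
    have ha1 : π a ≠ 1 := fun h1 => haN ((hmemker a).mp h1)
    have hyt : (π y) ^ t = 1 := by rw [← map_pow, hmemker]; exact hytN
    -- the order of `π a`
    obtain ⟨k, hk⟩ := hQp ⟨π a, haQ⟩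
    have hk' : (π a) ^ (t ^ k) = 1 := congrArg Subtype.val hk
    obtain ⟨j, -, hj⟩ := (Nat.dvd_prime_pow ht.out).mp (orderOf_dvd_of_pow_eq_one hk')
    have hj0 : j ≠ 0 := by
      rintro rfl
      rw [pow_zero, orderOf_eq_one_iff] at hj
      exact ha1 hj
    obtain ⟨i, rfl⟩ : ∃ i, j = i + 1 := ⟨j - 1, by omega⟩
    have hbt : ((π a) ^ (t ^ i)) ^ t = 1 := by
      rw [← pow_mul, ← pow_succ, ← hj]; exact pow_orderOf_eq_one _
    have hb1 : (π a) ^ (t ^ i) ≠ 1 := by
      intro h1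
      have := orderOf_dvd_of_pow_eq_one h1
      rw [hj] at this
      have := Nat.le_of_dvd (pow_pos ht.out.pos i) this
      have h2 : t ^ i < t ^ (i + 1) := Nat.pow_lt_pow_right ht.out.one_lt (Nat.lt_succ_self i)
      omega
    have hbQ : (π a) ^ (t ^ i) ∈ Q := Q.pow_mem haQ _
    have hz := hun.mem_zpowers (x := ⟨_, hbQ⟩) (y := ⟨_, hyQ⟩)
      (Subtype.ext hbt) (fun h1 => hb1 (congrArg Subtype.val h1)) (Subtype.ext hyt)
    obtain ⟨m, hm⟩ := Subgroup.mem_zpowers_iff.mp hz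
    have hm' : ((π a) ^ (t ^ i)) ^ m = π y := by
      have := congrArg Subtype.val hm
      rwa [Subgroup.coe_zpow] at this
    set u := (a ^ (t ^ i)) ^ m with hu
    have huT : u ∈ (T : Subgroup G) := (T : Subgroup G).zpow_mem ((T : Subgroup G).pow_mem haT _) m
    have hπu : π u = π y := by rw [hu, map_zpow, map_pow]; exact hm'
    have huyN : u * y⁻¹ ∈ N := by
      rw [← hmemker, map_mul, map_inv, hπu, mul_inv_cancel]
    obtain ⟨z, hzT, hz⟩ := hsurj (u * y⁻¹) huyN ((T : Subgroup G).mul_mem huT ((T : Subgroup G).inv_mem hyT))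
    refine ⟨z, hzT, ?_⟩
    have h1 : z * y * z⁻¹ = u := by
      calc z * y * z⁻¹ = (z * y * z⁻¹ * y⁻¹) * y := by group
        _ = u := by rw [hz]; group
    rw [h1, hu]
    exact ((Commute.refl a).pow_right _).zpow_right m
  -- (d) `T = (T ∩ N) C_T(y)`
  set y' : (T : Subgroup G) := ⟨y, hyT⟩ with hy'
  set T₁ : Subgroup (T : Subgroup G) := N.subgroupOf (T : Subgroup G) with hT₁
  set M' : Subgroup (T : Subgroup G) := T₁ ⊔ Subgroup.centralizer ({y'} : Set (T : Subgroup G))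
    with hM'
  have hM'top : M' = ⊤ := by
    by_contra hne
    obtain ⟨a', ha'⟩ := Cfsg.Agent.Lib.H20.exists_not_mem_conj M' hne
    by_cases haN : (a' : G) ∈ N
    · apply ha' 1
      rw [map_one, one_smul]
      exact (le_sup_left : T₁ ≤ M') (by rw [hT₁, Subgroup.mem_subgroupOf]; exact haN)
    · obtain ⟨z, hzT, hz⟩ := hc a' a'.2 haN
      apply ha' ⟨z, hzT⟩
      have hmem : (⟨z, hzT⟩ : (T : Subgroup G))⁻¹ * a' * ⟨z, hzT⟩ ∈ M' := by
        apply (le_sup_right : Subgroup.centralizer ({y'} : Set (T : Subgroup G)) ≤ M')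
        rw [Subgroup.mem_centralizer_singleton_iff]
        apply Subtype.ext
        show z⁻¹ * (a' : G) * z * y = y * (z⁻¹ * (a' : G) * z)
        have h2 : (a' : G) * (z * y * z⁻¹) = (z * y * z⁻¹) * (a' : G) := hz
        calc z⁻¹ * (a' : G) * z * y = z⁻¹ * ((a' : G) * (z * y * z⁻¹)) * z := by group
          _ = z⁻¹ * ((z * y * z⁻¹) * (a' : G)) * z := by rw [h2]
          _ = y * (z⁻¹ * (a' : G) * z) := by group
      have := Subgroup.smul_mem_pointwise_smul _ (MulAut.conj (⟨z, hzT⟩ : (T : Subgroup G))) M' hmem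
      rw [MulAut.smul_def, MulAut.conj_apply] at this
      convert this using 1
      group
  -- (e) the map `n ↦ [n, y]` on `T ∩ N` is surjective, hence injective
  haveI : T₁.Normal := by rw [hT₁]; infer_instance
  have hνmem : ∀ n : T₁, (n : (T : Subgroup G)) * y' * (n : (T : Subgroup G))⁻¹ * y'⁻¹ ∈ T₁ := by
    intro n
    have h1 : y' * (n : (T : Subgroup G))⁻¹ * y'⁻¹ ∈ T₁ :=
      (inferInstance : T₁.Normal).conj_mem _ (T₁.inv_mem n.2) y'
    have : (n : (T : Subgroup G)) * y' * (n : (T : Subgroup G))⁻¹ * y'⁻¹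
        = (n : (T : Subgroup G)) * (y' * (n : (T : Subgroup G))⁻¹ * y'⁻¹) := by group
    rw [this]
    exact T₁.mul_mem n.2 h1
  let ν : T₁ → T₁ := fun n => ⟨_, hνmem n⟩
  have hνsurj : Function.Surjective ν := by
    rintro ⟨m, hm⟩
    have hmN : (m : G) ∈ N := by rwa [hT₁, Subgroup.mem_subgroupOf] at hm
    obtain ⟨z, hzT, hz⟩ := hsurj (m : G) hmN m.2
    have hzM : (⟨z, hzT⟩ : (T : Subgroup G)) ∈ M' := by rw [hM'top]; exact Subgroup.mem_top _
    obtain ⟨n₁, hn₁, c, hc', hnc⟩ := Subgroup.mem_sup_of_normal_left.mp hzM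
    rw [Subgroup.mem_centralizer_singleton_iff] at hc'
    refine ⟨⟨n₁, hn₁⟩, ?_⟩
    apply Subtype.ext
    apply Subtype.ext
    show (n₁ : G) * y * (n₁ : G)⁻¹ * y⁻¹ = (m : G)
    have hcy : (c : G) * y = y * (c : G) := congrArg Subtype.val hc'
    have hzz : z = (n₁ : G) * (c : G) := by
      have := congrArg Subtype.val hnc
      exact this.symm
    rw [← hz, hzz]
    calc (n₁ : G) * y * (n₁ : G)⁻¹ * y⁻¹
        = (n₁ : G) * (y * (c : G)) * (c : G)⁻¹ * (n₁ : G)⁻¹ * y⁻¹ := by group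
      _ = (n₁ : G) * ((c : G) * y) * (c : G)⁻¹ * (n₁ : G)⁻¹ * y⁻¹ := by rw [hcy]
      _ = (n₁ : G) * (c : G) * y * ((n₁ : G) * (c : G))⁻¹ * y⁻¹ := by group
  have hνinj : Function.Injective ν := Finite.injective_iff_surjective.mpr hνsurj
  have hcomm : n₀ * y' = y' * n₀ := (Subgroup.mem_center_iff.mp hn₀c y').symm
  have h1 : ν ⟨n₀, hn₀N⟩ = ν 1 := by
    apply Subtype.ext
    show n₀ * y' * n₀⁻¹ * y'⁻¹ = (1 : (T : Subgroup G)) * y' * (1 : (T : Subgroup G))⁻¹ * y'⁻¹
    rw [hcomm]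
    group
  have h2 := hνinj h1
  exact hn₀1 (congrArg Subtype.val h2)


/-- Thompson: if some prime divides `|G : N|` but not `|N|`, then `N` is nilpotent. -/
theorem Cam.nilpotent_of_prime [Finite G] {N : Subgroup G} [hNn : N.Normal] (h : Cam N) {r : ℕ}
    (hr : r.Prime) (hridx : r ∣ N.index) (hrN : ¬ r ∣ Nat.card N) : Group.IsNilpotent N := by
  haveI : Fact r.Prime := ⟨hr⟩
  have hrG : r ∣ Nat.card G := by
    rw [← Subgroup.card_mul_index N]; exact Dvd.dvd.mul_left hridx _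
  obtain ⟨x, hx⟩ := exists_prime_orderOf_dvd_card' r hrG
  have hxN : x ∉ N := by
    intro hxN
    apply hrN
    have : orderOf (⟨x, hxN⟩ : N) = r := by rw [← hx]; exact Subgroup.orderOf_mk x hxN
    rw [← this]
    exact orderOf_dvd_natCard _
  have hxr : x ^ (r ^ 1) ∈ N := by
    rw [pow_one, ← hx, pow_orderOf_eq_one]; exact N.one_mem
  refine Cfsg.Agent.Lib.H1.fpf_prime_nilpotent hr _ _ rfl (MulAut.conjNormal x : MulAut N) ?_ ?_
  · intro n hn
    have h1 : x * (n : G) * x⁻¹ = n := by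
      have := congrArg Subtype.val hn
      rwa [MulAut.conjNormal_apply] at this
    have hc : Commute x (n : G) := by
      show x * (n : G) = (n : G) * x
      calc x * (n : G) = (x * (n : G) * x⁻¹) * x := by group
        _ = (n : G) * x := by rw [h1]
    exact Subtype.ext (h.eq_one_of_commute hr hrN hxN 1 hxr n.2 hc)
  · rw [← map_pow, ← hx, pow_orderOf_eq_one, map_one]

/-- a number `≠ 1` which is not a prime power has a prime divisor different from `q` -/
theorem exists_prime_ne_dvd {m q : ℕ} (hm0 : m ≠ 0) (hm1 : m ≠ 1) (hpp : ¬ IsPrimePow m) :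
    ∃ r : ℕ, r.Prime ∧ r ≠ q ∧ r ∣ m := by
  by_contra hcon
  push Not at hcon
  obtain ⟨p, hp, hpm⟩ := Nat.exists_prime_and_dvd hm1
  have hpq : p = q := by
    by_contra hne
    exact hcon p hp hne hpm
  subst hpq
  have hall : ∀ {d : ℕ}, d.Prime → d ∣ m → d = p := by
    intro d hd hdm
    by_contra hne
    exact hcon d hd hne hdm
  have heq := Nat.eq_prime_pow_of_unique_prime_dvd hm0 hall
  apply hpp
  rw [isPrimePow_nat_iff]
  refine ⟨p, m.primeFactorsList.length, hp, ?_, heq.symm⟩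
  rcases Nat.eq_zero_or_pos m.primeFactorsList.length with h0 | h0
  · rw [h0, pow_zero] at heq
    exact absurd heq hm1
  · exact h0

open Cfsg.Agent.Lib.H22 in
/-- no prime divides both `|N|` and `|G : N|` -/
theorem Cam.coprime [Finite G] {N : Subgroup G} [hNn : N.Normal] (h : Cam N) (hN1 : N ≠ ⊥)
    (hN2 : N ≠ ⊤) (hpN : ¬ IsPrimePow (Nat.card N)) (hpI : ¬ IsPrimePow N.index) {q : ℕ}
    (hq : q.Prime) (hqN : q ∣ Nat.card N) (hqI : q ∣ N.index) : False := by
  haveI : Fact q.Prime := ⟨hq⟩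
  have hI0 : N.index ≠ 0 := Subgroup.index_ne_zero_of_finite
  have hI1 : N.index ≠ 1 := fun h1 => hN2 (Subgroup.index_eq_one.mp h1)
  have hNc0 : Nat.card N ≠ 0 := Nat.card_pos.ne'
  have hNc1 : Nat.card N ≠ 1 := fun h1 => hN1 (Subgroup.card_eq_one.mp h1)
  by_cases hA : ∃ r : ℕ, r.Prime ∧ r ≠ q ∧ r ∣ Nat.card N ∧ r ∣ N.index
  · -- Case A
    obtain ⟨r, hr, hrq, hrN, hrI⟩ := hA
    haveI : Fact r.Prime := ⟨hr⟩
    obtain ⟨M, hMn, hMN, hMcop, k, hMk⟩ := h.exists_normal_complement (t := q) hqI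
    set Nb : Subgroup (G ⧸ M) := N.map (QuotientGroup.mk' M) with hNb
    haveI hNbn : Nb.Normal := Subgroup.Normal.map hNn _ (QuotientGroup.mk'_surjective M)
    have hcam' : Cam Nb := h.quotient M
    have hNbp : IsPGroup q Nb := by
      rintro ⟨_, ⟨n, hn, rfl⟩⟩
      refine ⟨k, ?_⟩
      apply Subtype.ext
      show (QuotientGroup.mk' M n) ^ (q ^ k) = 1
      rw [← map_pow]
      exact (QuotientGroup.eq_one_iff _).mpr (hMk n hn)
    have hNbne : Nb ≠ ⊥ := by
      intro hb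
      apply hMcop
      have hle : N ≤ M := by
        intro n hn
        have : QuotientGroup.mk' M n ∈ Nb := ⟨n, hn, rfl⟩
        rw [hb, Subgroup.mem_bot] at this
        exact (QuotientGroup.eq_one_iff n).mp this
      exact hqN.trans (Subgroup.card_dvd_of_le hle)
    have hqNb : q ∣ Nat.card Nb := by
      haveI : Nontrivial Nb := (Subgroup.nontrivial_iff_ne_bot Nb).mpr hNbne
      obtain ⟨n, hn0, hn⟩ := hNbp.nontrivial_iff_card.mp inferInstance
      rw [hn]
      exact dvd_pow_self q hn0.ne'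
    have hnil : Group.IsNilpotent Nb := hNbp.isNilpotent
    let π : G →* (G ⧸ M) ⧸ Nb := (QuotientGroup.mk' Nb).comp (QuotientGroup.mk' M)
    have hker : π.ker = N := by
      ext x
      rw [MonoidHom.mem_ker]
      show ((QuotientGroup.mk' M x : G ⧸ M) : (G ⧸ M) ⧸ Nb) = 1 ↔ x ∈ N
      rw [QuotientGroup.eq_one_iff]
      constructor
      · rintro ⟨n, hn, hnx⟩
        have h1 : n⁻¹ * x ∈ M := QuotientGroup.eq.mp hnx
        have : x = n * (n⁻¹ * x) := by group
        rw [this]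
        exact N.mul_mem hn (hMN h1)
      · intro hx; exact ⟨x, hx, rfl⟩
    refine h.false_of_atMostOne (t := r) hrN hrI π hker ?_
    intro Q hQ
    exact atMostOne_of_abelian_cyclic hQ (fun B hB =>
      Cfsg.Agent.S4155.abelian_cyclic Nb hcam'.heq hnil (q := r) (r := q) hrq hqNb Q hQ B hB)
  · -- Case B
    push Not at hA
    obtain ⟨r, hr, hrq, hrI⟩ := exists_prime_ne_dvd (q := q) hI0 hI1 hpI
    have hrN : ¬ r ∣ Nat.card N := fun hrN => hA r hr hrq hrN hrI
    have hnil := h.nilpotent_of_prime hr hrI hrN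
    obtain ⟨r', hr', hr'q, hr'N⟩ := exists_prime_ne_dvd (q := q) hNc0 hNc1 hpN
    haveI : Fact r'.Prime := ⟨hr'⟩
    refine h.false_of_atMostOne (t := q) hqN hqI (QuotientGroup.mk' N) (QuotientGroup.ker_mk' N) ?_
    intro Q hQ
    exact atMostOne_of_abelian_cyclic hQ (fun B hB =>
      Cfsg.Agent.S4155.abelian_cyclic N h.heq hnil (q := q) (r := r') hr'q.symm hr'N Q hQ B hB)

/-- Let (G, N) be a Camina pair. Then G is a Frobenius group with kernel N, or N is a p-group, or G/N is a p-group. -/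
theorem result {G : Type*} [Group G] [Finite G] (N : Subgroup G) [N.Normal] (hN1 : N ≠ ⊥) (hN2 : N ≠ ⊤)
    (hcam : ∀ g : G, g ∉ N → ∀ n ∈ N, ∃ x : G, x * g * x⁻¹ = g * n) :
    (∀ x ∈ N, x ≠ 1 → Subgroup.centralizer ({x} : Set G) ≤ N) ∨ IsPrimePow (Nat.card N) ∨ IsPrimePow N.index := by
  by_cases hpN : IsPrimePow (Nat.card N)
  · exact Or.inr (Or.inl hpN)
  by_cases hpI : IsPrimePow N.index
  · exact Or.inr (Or.inr hpI)
  left
  have h : Cam N := hcam
  intro x hx hx1 z hz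
  by_contra hzN
  rw [Subgroup.mem_centralizer_singleton_iff] at hz
  -- a power of `z` of prime order modulo `N`
  have hzb1 : orderOf ((z : G) : G ⧸ N) ≠ 1 := by
    intro h1
    exact hzN ((QuotientGroup.eq_one_iff z).mp (orderOf_eq_one_iff.mp h1))
  obtain ⟨t, ht, htd⟩ := Nat.exists_prime_and_dvd hzb1
  have hpos := orderOf_pos ((z : G) : G ⧸ N)
  obtain ⟨e, he⟩ : ∃ e : ℕ, e = orderOf ((z : G) : G ⧸ N) / t := ⟨_, rfl⟩
  have hdd : e ∣ orderOf ((z : G) : G ⧸ N) := he ▸ Nat.div_dvd_of_dvd htd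
  have hne : e ≠ 0 := by
    intro h0
    have := Nat.div_mul_cancel htd
    rw [← he, h0, zero_mul] at this
    omega
  have hz'o : orderOf (((z ^ e : G)) : G ⧸ N) = t := by
    rw [QuotientGroup.mk_pow, orderOf_pow_of_dvd hne hdd, he, Nat.div_div_self htd hpos.ne']
  have hz'N : z ^ e ∉ N := by
    intro hmem
    rw [(QuotientGroup.eq_one_iff _).mpr hmem, orderOf_one] at hz'o
    exact ht.one_lt.ne hz'o
  have hz't : (z ^ e) ^ (t ^ 1) ∈ N := by
    rw [pow_one, ← QuotientGroup.eq_one_iff, QuotientGroup.mk_pow, ← hz'o]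
    exact pow_orderOf_eq_one _
  have htI : t ∣ N.index := by
    rw [Subgroup.index_eq_card, ← hz'o]
    exact orderOf_dvd_natCard _
  have htN : ¬ t ∣ Nat.card N := fun htN => h.coprime hN1 hN2 hpN hpI ht htN htI
  have hc : Commute (z ^ e) x := by
    have : Commute z x := hz
    exact this.pow_left e
  exact hx1 (h.eq_one_of_commute ht htN hz'N 1 hz't hx hc)

end Cfsg.Agent.S4140
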