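import Cfsg.Statements.S4018
import Cfsg.Agent.Lib.H21.InvFriend

set_option autoImplicit false
open Cfsg

namespace Cfsg.Agent.S4018

open Cfsg.Agent.Lib.H21.InvFriend
open scoped Pointwise

variable {G : Type*} [Group G] [Finite G]

theorem mem_zpowers_involution {u x : G} (hu : orderOf u = 2)
    (hx : x ∈ Subgroup.zpowers u) : x = 1 ∨ x = u := by
  obtain ⟨i, rfl⟩ := Subgroup.mem_zpowers_iff.mp hx
  rcases Int.even_or_odd' i with ⟨k, rfl | rfl⟩
  · left; rw [zpow_mul, zpow_two, inv_mul_self hu, one_zpow]
  · right; rw [zpow_add, zpow_mul, zpow_two, inv_mul_self hu, one_zpow, one_mul, zpow_one]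

theorem card_eq_card_mul_relIndex' {H K : Subgroup G} (h : H ≤ K) :
    Nat.card K = Nat.card H * H.relIndex K := by
  have h1 := Subgroup.relIndex_mul_relIndex ⊥ H K bot_le h
  rwa [Subgroup.relIndex_bot_left, Subgroup.relIndex_bot_left, eq_comm] at h1

/-- The hypotheses of S4018 together with simplicity. -/
structure Ctx (P : Sylow 3 G) : Prop where
  simple : IsSimpleGroup G
  hab : IsMulCommutative P
  hN : Nat.card (Subgroup.normalizer ((P : Subgroup G) : Set G)) = 4 * Nat.card P
  hC : Nat.card (Subgroup.centralizer (P : Set G)) = 2 * Nat.card P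
  hTI : Cfsg.IsTISubset (Subgroup.centralizer (P : Set G) : Set G)
  heven : ∀ H : Subgroup G, H ≠ ⊤ → 2 ∣ Nat.card H → Nat.card H ∣ 4 * Nat.card P

namespace Ctx

variable {P : Sylow 3 G}

theorem comm (h : Ctx P) {a b : G} (ha : a ∈ (P : Subgroup G)) (hb : b ∈ (P : Subgroup G)) :
    a * b = b * a := by
  have := h.hab.is_comm.comm ⟨a, ha⟩ ⟨b, hb⟩
  exact congrArg Subtype.val this

theorem le_centralizer (h : Ctx P) : (P : Subgroup G) ≤ Subgroup.centralizer (P : Set G) := by
  intro a ha
  rw [Subgroup.mem_centralizer_iff]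
  intro b hb
  exact h.comm hb ha

theorem card_pos (_h : Ctx P) : 0 < Nat.card P := Nat.card_pos

theorem exists_card (_h : Ctx P) : ∃ n, Nat.card P = 3 ^ n := IsPGroup.iff_card.mp P.isPGroup'

theorem center_eq_bot (h : Ctx P) : Subgroup.center G = ⊥ := by
  haveI := h.simple
  rcases (inferInstance : (Subgroup.center G).Normal).eq_bot_or_eq_top with h1 | h1
  · exact h1
  · exfalso
    have hc : Subgroup.centralizer (P : Set G) = ⊤ := by
      rw [eq_top_iff]
      intro g _
      rw [Subgroup.mem_centralizer_iff]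
      intro x _
      have : g ∈ Subgroup.center G := by rw [h1]; trivial
      exact (Subgroup.mem_center_iff.mp this x)
    have hn : Subgroup.normalizer ((P : Subgroup G) : Set G) = ⊤ := by
      rw [eq_top_iff, ← hc]
      exact Subgroup.centralizer_le_normalizer _
    have e1 := h.hN
    have e2 := h.hC
    rw [hn] at e1
    rw [hc] at e2
    have := h.card_pos
    omega

theorem mem_P_orderOf (h : Ctx P) {x : G} (hx : x ∈ (P : Subgroup G)) :
    ∃ k, orderOf x = 3 ^ k := by
  obtain ⟨n, hn⟩ := h.exists_card
  have h1 : orderOf x ∣ 3 ^ n := by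
    rw [← hn]
    exact Subgroup.orderOf_dvd_natCard _ hx
  obtain ⟨k, _, hk⟩ := (Nat.dvd_prime_pow Nat.prime_three).mp h1
  exact ⟨k, hk⟩

theorem not_mem_P_of_involution (h : Ctx P) {x : G} (hx : orderOf x = 2) :
    x ∉ (P : Subgroup G) := by
  intro hxP
  obtain ⟨k, hk⟩ := h.mem_P_orderOf hxP
  rw [hx] at hk
  have : (2 : ℕ) ∣ 3 ^ k := by rw [← hk]
  have := (Nat.Prime.dvd_of_dvd_pow Nat.prime_two this)
  omega

theorem relIndex_P_C (h : Ctx P) :
    (P : Subgroup G).relIndex (Subgroup.centralizer (P : Set G)) = 2 := by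
  have h1 := card_eq_card_mul_relIndex' h.le_centralizer
  rw [h.hC] at h1
  have := h.card_pos
  have h2 : Nat.card (P : Subgroup G) * 2 = Nat.card (P : Subgroup G) *
      (P : Subgroup G).relIndex (Subgroup.centralizer (P : Set G)) := by
    rw [← h1]; ring
  exact (Nat.eq_of_mul_eq_mul_left this h2).symm

theorem exists_involution (h : Ctx P) :
    ∃ v : G, orderOf v = 2 ∧ v ∈ Subgroup.centralizer (P : Set G) := by
  haveI : Fact (Nat.Prime 2) := ⟨Nat.prime_two⟩
  have h2 : 2 ∣ Nat.card (Subgroup.centralizer (P : Set G)) := by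
    rw [h.hC]; exact dvd_mul_right 2 _
  obtain ⟨x, hx⟩ := exists_prime_orderOf_dvd_card' (G := Subgroup.centralizer (P : Set G)) 2 h2
  exact ⟨x.1, by rw [Subgroup.orderOf_coe]; exact hx, x.2⟩

/-- uniqueness of the involution in `C`. -/
theorem involution_unique (h : Ctx P) {v c : G} (hv : orderOf v = 2)
    (hvC : v ∈ Subgroup.centralizer (P : Set G)) (hc : orderOf c = 2)
    (hcC : c ∈ Subgroup.centralizer (P : Set G)) : c = v := by
  have hidx : ((P : Subgroup G).subgroupOf (Subgroup.centralizer (P : Set G))).index = 2 :=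
    h.relIndex_P_C
  have hvP := h.not_mem_P_of_involution hv
  have hcP := h.not_mem_P_of_involution hc
  have hmem : (⟨c, hcC⟩ * ⟨v, hvC⟩ : Subgroup.centralizer (P : Set G)) ∈
      (P : Subgroup G).subgroupOf (Subgroup.centralizer (P : Set G)) := by
    rw [Subgroup.mul_mem_iff_of_index_two hidx]
    constructor
    · intro h1; exact absurd (Subgroup.mem_subgroupOf.mp h1) hcP
    · intro h1; exact absurd (Subgroup.mem_subgroupOf.mp h1) hvP
  have hcv : c * v ∈ (P : Subgroup G) := Subgroup.mem_subgroupOf.mp hmem
  -- c commutes with c * v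
  have h1 : (c * v) * c = c * (c * v) := (Subgroup.mem_centralizer_iff.mp hcC) (c * v) hcv
  have hcomm : v * c = c * v := by
    have : c * (v * c) = c * (c * v) := by rw [← mul_assoc]; exact h1
    exact mul_left_cancel this
  have hsq : (c * v) * (c * v) = 1 := by
    calc (c * v) * (c * v) = c * (v * c) * v := by group
      _ = c * (c * v) * v := by rw [hcomm]
      _ = (c * c) * (v * v) := by group
      _ = 1 := by rw [inv_mul_self hc, inv_mul_self hv, one_mul]
  obtain ⟨k, hk⟩ := h.mem_P_orderOf hcv
  have h2 : orderOf (c * v) ∣ 2 := orderOf_dvd_of_pow_eq_one (by rw [pow_two]; exact hsq)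
  have h3 : orderOf (c * v) = 1 := by
    rw [hk] at h2 ⊢
    rcases Nat.eq_zero_or_pos k with hk0 | hk0
    · rw [hk0, pow_zero]
    · exfalso
      have : 3 ∣ 3 ^ k := dvd_pow_self 3 hk0.ne'
      have : 3 ∣ 2 := this.trans h2
      omega
  have h4 : c * v = 1 := orderOf_eq_one_iff.mp h3
  have : c = v⁻¹ := eq_inv_of_mul_eq_one_left h4
  rw [this, inv_inv_eq hv]

/-- elements normalizing the set `C` commute with `v`. -/
theorem commute_of_mem_setNormalizer (h : Ctx P) {v g : G} (hv : orderOf v = 2)
    (hvC : v ∈ Subgroup.centralizer (P : Set G))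
    (hg : g ∈ Subgroup.normalizer (Subgroup.centralizer (P : Set G) : Set G)) :
    Commute g v := by
  have h1 : g * v * g⁻¹ ∈ (Subgroup.centralizer (P : Set G) : Set G) :=
    (Subgroup.mem_set_normalizer_iff.mp hg v).mp hvC
  have h2 : orderOf (g * v * g⁻¹) = 2 := by rw [orderOf_conj_eq, hv]
  have h3 := h.involution_unique hv hvC h2 h1
  show g * v = v * g
  calc g * v = (g * v * g⁻¹) * g := by group
    _ = v * g := by rw [h3]

theorem c2 (h : Ctx P) {v : G} (hv : orderOf v = 2)
    (hvC : v ∈ Subgroup.centralizer (P : Set G)) (g x : G)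
    (hx : x ∈ Subgroup.centralizer (P : Set G)) (hx1 : x ≠ 1)
    (hgx : g * x * g⁻¹ ∈ Subgroup.centralizer (P : Set G)) : Commute g v := by
  apply h.commute_of_mem_setNormalizer hv hvC
  by_contra hg
  exact hx1 (h.hTI g hg x hx hgx)

theorem normalizer_le (h : Ctx P) {v : G} (hv : orderOf v = 2)
    (hvC : v ∈ Subgroup.centralizer (P : Set G)) :
    Subgroup.normalizer ((P : Subgroup G) : Set G) ≤ Subgroup.centralizer {v} := by
  intro g hg
  have hginv : g⁻¹ ∈ Subgroup.normalizer ((P : Subgroup G) : Set G) := Subgroup.inv_mem _ hg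
  have h1 : g * v * g⁻¹ ∈ Subgroup.centralizer (P : Set G) := by
    rw [Subgroup.mem_centralizer_iff]
    intro x hx
    have hx' : g⁻¹ * x * g⁻¹⁻¹ ∈ ((P : Subgroup G) : Set G) :=
      (Subgroup.mem_set_normalizer_iff.mp hginv x).mp hx
    rw [inv_inv] at hx'
    have h2 : (g⁻¹ * x * g) * v = v * (g⁻¹ * x * g) :=
      (Subgroup.mem_centralizer_iff.mp hvC) _ hx'
    calc x * (g * v * g⁻¹) = g * ((g⁻¹ * x * g) * v) * g⁻¹ := by group
      _ = g * (v * (g⁻¹ * x * g)) * g⁻¹ := by rw [h2]
      _ = g * v * g⁻¹ * x := by group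
  have h2 : orderOf (g * v * g⁻¹) = 2 := by rw [orderOf_conj_eq, hv]
  have h3 := h.involution_unique hv hvC h2 h1
  rw [Subgroup.mem_centralizer_iff]
  intro y hy
  rw [Set.mem_singleton_iff] at hy
  subst hy
  calc y * g = (g * y * g⁻¹) * g := by rw [h3]
    _ = g * y := by group

theorem centralizer_v_eq (h : Ctx P) {v : G} (hv : orderOf v = 2)
    (hvC : v ∈ Subgroup.centralizer (P : Set G)) :
    Subgroup.centralizer {v} = Subgroup.normalizer ((P : Subgroup G) : Set G) := by
  symm
  apply Subgroup.eq_of_le_of_card_ge (h.normalizer_le hv hvC)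
  rw [h.hN]
  apply Nat.le_of_dvd (by have := h.card_pos; omega)
  apply h.heven
  · intro htop
    have : v ∈ Subgroup.center G := by
      rw [Subgroup.mem_center_iff]
      intro g
      have : g ∈ Subgroup.centralizer {v} := by rw [htop]; trivial
      exact ((Subgroup.mem_centralizer_iff.mp this) v rfl).symm
    rw [h.center_eq_bot, Subgroup.mem_bot] at this
    exact inv_ne_one hv this
  · have hvm : v ∈ Subgroup.centralizer {v} := by
      rw [Subgroup.mem_centralizer_iff]
      intro y hy
      rw [Set.mem_singleton_iff] at hy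
      rw [hy]
    have := Subgroup.orderOf_dvd_natCard _ hvm
    rwa [hv] at this

theorem relIndex_C_N (h : Ctx P) :
    (Subgroup.centralizer (P : Set G)).relIndex
      (Subgroup.normalizer ((P : Subgroup G) : Set G)) = 2 := by
  have hle : Subgroup.centralizer (P : Set G) ≤
      Subgroup.normalizer ((P : Subgroup G) : Set G) :=
    Subgroup.centralizer_le_normalizer _
  have h1 := card_eq_card_mul_relIndex' hle
  rw [h.hN, h.hC] at h1
  have := h.card_pos
  have h2 : (2 * Nat.card (P : Subgroup G)) * 2 = (2 * Nat.card (P : Subgroup G)) *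
      (Subgroup.centralizer (P : Set G)).relIndex
        (Subgroup.normalizer ((P : Subgroup G) : Set G)) := by
    rw [← h1]; ring
  exact (Nat.eq_of_mul_eq_mul_left (by omega) h2).symm

theorem c3 (h : Ctx P) {v : G} (hv : orderOf v = 2)
    (hvC : v ∈ Subgroup.centralizer (P : Set G)) (a b : G) (ha : Commute a v)
    (hb : Commute b v) (haC : a ∉ Subgroup.centralizer (P : Set G))
    (hbC : b ∉ Subgroup.centralizer (P : Set G)) :
    a * b ∈ Subgroup.centralizer (P : Set G) := by
  have haN : a ∈ Subgroup.normalizer ((P : Subgroup G) : Set G) := by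
    rw [← h.centralizer_v_eq hv hvC, Subgroup.mem_centralizer_iff]
    intro y hy
    rw [Set.mem_singleton_iff] at hy
    rw [hy]; exact ha.eq.symm
  have hbN : b ∈ Subgroup.normalizer ((P : Subgroup G) : Set G) := by
    rw [← h.centralizer_v_eq hv hvC, Subgroup.mem_centralizer_iff]
    intro y hy
    rw [Set.mem_singleton_iff] at hy
    rw [hy]; exact hb.eq.symm
  have hidx : ((Subgroup.centralizer (P : Set G)).subgroupOf
      (Subgroup.normalizer ((P : Subgroup G) : Set G))).index = 2 := h.relIndex_C_N
  have hmem : (⟨a, haN⟩ * ⟨b, hbN⟩ : Subgroup.normalizer ((P : Subgroup G) : Set G)) ∈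
      (Subgroup.centralizer (P : Set G)).subgroupOf
        (Subgroup.normalizer ((P : Subgroup G) : Set G)) := by
    rw [Subgroup.mul_mem_iff_of_index_two hidx]
    constructor
    · intro h1; exact absurd (Subgroup.mem_subgroupOf.mp h1) haC
    · intro h1; exact absurd (Subgroup.mem_subgroupOf.mp h1) hbC
  exact Subgroup.mem_subgroupOf.mp hmem

theorem c4 (h : Ctx P) (z : G) (hz : orderOf z = 3) :
    ∃ g : G, g * z * g⁻¹ ∈ Subgroup.centralizer (P : Set G) := by
  haveI : Fact (Nat.Prime 3) := ⟨Nat.prime_three⟩
  have hp : IsPGroup 3 (Subgroup.zpowers z) := by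
    apply IsPGroup.of_card (n := 1)
    rw [Nat.card_zpowers, hz, pow_one]
  obtain ⟨Q, hQ⟩ := hp.exists_le_sylow
  obtain ⟨g, hg⟩ := MulAction.exists_smul_eq G Q P
  refine ⟨g, h.le_centralizer ?_⟩
  have hzQ : z ∈ (Q : Subgroup G) := hQ (Subgroup.mem_zpowers z)
  have h1 : (g • Q : Sylow 3 G) = P := hg
  have h2 : ((g • Q : Sylow 3 G) : Subgroup G) = MulAut.conj g • (Q : Subgroup G) :=
    Sylow.pointwise_smul_def
  rw [← h1, h2]
  have := Subgroup.smul_mem_pointwise_smul z (MulAut.conj g) (Q : Subgroup G) hzQ
  rwa [MulAut.smul_def, MulAut.conj_apply] at this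

/-- every `2`-subgroup has order dividing `4`. -/
theorem two_group_card (h : Ctx P) (T : Subgroup G) (hT : IsPGroup 2 T) : Nat.card T ∣ 4 := by
  haveI : Fact (Nat.Prime 2) := ⟨Nat.prime_two⟩
  haveI := h.simple
  by_cases hbot : T = ⊥
  · rw [hbot, Subgroup.card_bot]; exact one_dvd _
  by_cases htop : T = ⊤
  · exfalso
    have hG : IsPGroup 2 G := by
      rw [htop] at hT
      exact hT.of_equiv Subgroup.topEquiv
    have := hG.center_nontrivial
    rw [h.center_eq_bot] at this
    exact not_nontrivial _ this
  obtain ⟨k, hk⟩ := IsPGroup.iff_card.mp hT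
  have hk0 : k ≠ 0 := by
    intro h0
    rw [h0, pow_zero] at hk
    exact hbot (Subgroup.card_eq_one.mp hk)
  have h2 : 2 ∣ Nat.card T := by rw [hk]; exact dvd_pow_self 2 hk0
  have h3 := h.heven T htop h2
  obtain ⟨n, hn⟩ := h.exists_card
  rw [hn, hk] at h3
  rw [hk]
  have hcop : Nat.Coprime (2 ^ k) (3 ^ n) := Nat.Coprime.pow k n (by norm_num)
  exact hcop.dvd_of_dvd_mul_right h3

theorem c5 (h : Ctx P) (u u' : G) (hu : orderOf u = 2) (hu' : orderOf u' = 2)
    (hc : ¬ Commute u u') : 3 ∣ orderOf (u * u') := by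
  haveI := h.simple
  by_contra h3
  set d := u * u' with hd
  have hud : u * d * u⁻¹ = d⁻¹ := by
    rw [hd, inv_inv_eq hu, mul_inv_rev, inv_inv_eq hu, inv_inv_eq hu']
    calc u * (u * u') * u = (u * u) * u' * u := by group
      _ = u' * u := by rw [inv_mul_self hu, one_mul]
  -- u normalizes zpowers d
  have hconj : ∀ x ∈ Subgroup.zpowers d, u * x * u⁻¹ ∈ Subgroup.zpowers d := by
    intro x hx
    obtain ⟨i, rfl⟩ := Subgroup.mem_zpowers_iff.mp hx
    have : u * d ^ i * u⁻¹ = (u * d * u⁻¹) ^ i := by
      rw [conj_zpow]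
    rw [this, hud]
    exact Subgroup.zpow_mem _ (Subgroup.inv_mem _ (Subgroup.mem_zpowers d)) i
  have huN : u ∈ Subgroup.normalizer (Subgroup.zpowers d : Set G) := by
    rw [Subgroup.mem_set_normalizer_iff]
    intro x
    constructor
    · intro hx; exact hconj x hx
    · intro hx
      have := hconj _ hx
      have e : u * (u * x * u⁻¹) * u⁻¹ = x := by
        rw [inv_inv_eq hu]
        calc u * (u * x * u) * u = (u * u) * x * (u * u) := by group
          _ = x := by rw [inv_mul_self hu, one_mul, mul_one]
      rwa [e] at this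
  have hdN : d ∈ Subgroup.normalizer (Subgroup.zpowers d : Set G) :=
    Subgroup.le_normalizer (Subgroup.mem_zpowers d)
  have hd1 : d ≠ 1 := by
    intro h1
    apply hc
    have : u = u'⁻¹ := eq_inv_of_mul_eq_one_left h1
    rw [this, inv_inv_eq hu']
  -- normalizer is proper
  have hNtop : Subgroup.normalizer (Subgroup.zpowers d : Set G) ≠ ⊤ := by
    intro htop
    have hnorm : (Subgroup.zpowers d).Normal := Subgroup.normalizer_eq_top_iff.mp htop
    rcases hnorm.eq_bot_or_eq_top with h1 | h1
    · apply hd1
      have : d ∈ Subgroup.zpowers d := Subgroup.mem_zpowers d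
      rwa [h1, Subgroup.mem_bot] at this
    · apply hc
      have h4 : u ∈ Subgroup.zpowers d := by rw [h1]; trivial
      have h5 : u' ∈ Subgroup.zpowers d := by rw [h1]; trivial
      obtain ⟨i, hi⟩ := Subgroup.mem_zpowers_iff.mp h4
      obtain ⟨j, hj⟩ := Subgroup.mem_zpowers_iff.mp h5
      rw [← hi, ← hj]
      exact (Commute.refl d).zpow_zpow i j
  have h2 : 2 ∣ Nat.card (Subgroup.normalizer (Subgroup.zpowers d : Set G)) := by
    have := Subgroup.orderOf_dvd_natCard _ huN
    rwa [hu] at this
  have h4 := h.heven _ hNtop h2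
  have h5 : orderOf d ∣ 4 * Nat.card P :=
    (Subgroup.orderOf_dvd_natCard _ hdN).trans h4
  obtain ⟨n, hn⟩ := h.exists_card
  rw [hn] at h5
  have hcop : Nat.Coprime (orderOf d) (3 ^ n) :=
    Nat.Coprime.pow_right n ((Nat.Prime.coprime_iff_not_dvd Nat.prime_three).mpr h3).symm
  have h6 : orderOf d ∣ 2 ^ 2 := hcop.dvd_of_dvd_mul_right h5
  obtain ⟨j, hj2, hj⟩ := (Nat.dvd_prime_pow Nat.prime_two).mp h6
  have hcomm_of_sq : d * d = 1 → False := by
    intro hsq
    apply hc
    show u * u' = u' * u
    have h7 : (u * u')⁻¹ = u * u' := inv_eq_of_mul_eq_one_left hsq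
    rw [mul_inv_rev, inv_inv_eq hu, inv_inv_eq hu'] at h7
    exact h7.symm
  interval_cases j
  · rw [pow_zero] at hj
    exact hd1 (orderOf_eq_one_iff.mp hj)
  · rw [pow_one] at hj
    apply hcomm_of_sq
    have := pow_orderOf_eq_one d
    rwa [hj, pow_two] at this
  · -- order 4
    have hj4 : orderOf d = 4 := by rw [hj]; norm_num
    have hS : IsPGroup 2 (Subgroup.zpowers d) := by
      apply IsPGroup.of_card (n := 2)
      rw [Nat.card_zpowers, hj4]; norm_num
    have hU : IsPGroup 2 (Subgroup.zpowers u) := by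
      apply IsPGroup.of_card (n := 1)
      rw [Nat.card_zpowers, hu, pow_one]
    have hle : Subgroup.zpowers u ≤ Subgroup.normalizer (Subgroup.zpowers d : Set G) := by
      rw [Subgroup.zpowers_le]; exact huN
    have hT : IsPGroup 2 (Subgroup.zpowers u ⊔ Subgroup.zpowers d : Subgroup G) :=
      IsPGroup.to_sup_of_normal_right' hU hS hle
    have hcard := h.two_group_card _ hT
    have hSle : Subgroup.zpowers d ≤ Subgroup.zpowers u ⊔ Subgroup.zpowers d := le_sup_right
    have hSeq : Subgroup.zpowers d = Subgroup.zpowers u ⊔ Subgroup.zpowers d := by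
      apply Subgroup.eq_of_le_of_card_ge hSle
      rw [Nat.card_zpowers, hj4]
      exact Nat.le_of_dvd (by norm_num) hcard
    have huS : u ∈ Subgroup.zpowers d := by
      rw [hSeq]; exact (le_sup_left : Subgroup.zpowers u ≤ _) (Subgroup.mem_zpowers u)
    obtain ⟨i, hi⟩ := Subgroup.mem_zpowers_iff.mp huS
    have hcud : Commute u d := by
      rw [← hi]; exact (Commute.refl d).zpow_left i
    apply hcomm_of_sq
    have h8 : d = d⁻¹ := by
      rw [← hud, hcud.eq]; group
    calc d * d = d * d⁻¹ := by rw [← h8]
      _ = 1 := mul_inv_cancel d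

theorem c6 (h : Ctx P) (u u' t : G) (hu : orderOf u = 2) (hu' : orderOf u' = 2)
    (ht : orderOf t = 2) (huu' : Commute u u') (htu : Commute t u) (htu' : Commute t u')
    (hne : u ≠ u') (hne1 : t ≠ u) (hne2 : t ≠ u') : t = u * u' := by
  have hU : IsPGroup 2 (Subgroup.zpowers u) := by
    apply IsPGroup.of_card (n := 1)
    rw [Nat.card_zpowers, hu, pow_one]
  have hU' : IsPGroup 2 (Subgroup.zpowers u') := by
    apply IsPGroup.of_card (n := 1)
    rw [Nat.card_zpowers, hu', pow_one]
  have hTt : IsPGroup 2 (Subgroup.zpowers t) := by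
    apply IsPGroup.of_card (n := 1)
    rw [Nat.card_zpowers, ht, pow_one]
  -- centralizing implies normalizing
  have hle1 : Subgroup.zpowers u ≤ Subgroup.normalizer (Subgroup.zpowers u' : Set G) := by
    rw [Subgroup.zpowers_le]
    apply Subgroup.centralizer_le_normalizer
    rw [Subgroup.mem_centralizer_iff]
    intro y hy
    obtain ⟨i, rfl⟩ := Subgroup.mem_zpowers_iff.mp hy
    exact (huu'.zpow_right i).eq.symm
  set K := Subgroup.zpowers u ⊔ Subgroup.zpowers u' with hK
  have hKp : IsPGroup 2 K := IsPGroup.to_sup_of_normal_right' hU hU' hle1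
  have hle2 : Subgroup.zpowers t ≤ Subgroup.normalizer (K : Set G) := by
    rw [Subgroup.zpowers_le]
    apply Subgroup.centralizer_le_normalizer
    rw [Subgroup.mem_centralizer_iff]
    have hcl : K ≤ Subgroup.centralizer {t} := by
      rw [hK, sup_le_iff, Subgroup.zpowers_le, Subgroup.zpowers_le]
      constructor
      · rw [Subgroup.mem_centralizer_iff]
        intro y hy; rw [Set.mem_singleton_iff] at hy; rw [hy]; exact htu.eq
      · rw [Subgroup.mem_centralizer_iff]
        intro y hy; rw [Set.mem_singleton_iff] at hy; rw [hy]; exact htu'.eq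
    intro y hy
    have := (Subgroup.mem_centralizer_iff.mp (hcl hy)) t rfl
    exact this.symm
  have hTp : IsPGroup 2 (Subgroup.zpowers t ⊔ K : Subgroup G) :=
    IsPGroup.to_sup_of_normal_right' hTt hKp hle2
  have hcardT := h.two_group_card _ hTp
  have hcardK := h.two_group_card _ hKp
  -- K has order 4
  have hlt : Subgroup.zpowers u < K := by
    rw [lt_iff_le_and_ne]
    refine ⟨le_sup_left, ?_⟩
    intro heq
    have : u' ∈ Subgroup.zpowers u := by
      rw [heq]; exact (le_sup_right : Subgroup.zpowers u' ≤ K) (Subgroup.mem_zpowers u')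
    rcases mem_zpowers_involution hu this with h1 | h1
    · exact inv_ne_one hu' h1
    · exact hne h1.symm
  have hK4 : Nat.card K = 4 := by
    have h1 : Nat.card (Subgroup.zpowers u) < Nat.card K := by
      have hle := Subgroup.card_le_of_le hlt.le
      rcases hle.lt_or_eq with h2 | h2
      · exact h2
      · exact absurd (Subgroup.eq_of_le_of_card_ge hlt.le h2.ge) hlt.ne
    rw [Nat.card_zpowers, hu] at h1
    have h2 : Nat.card K ≤ 4 := Nat.le_of_dvd (by norm_num) hcardK
    have h3 : Nat.card K ≠ 3 := by
      intro h3; rw [h3] at hcardK; omega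
    omega
  have hKeq : K = Subgroup.zpowers t ⊔ K := by
    apply Subgroup.eq_of_le_of_card_ge le_sup_right
    rw [hK4]
    exact Nat.le_of_dvd (by norm_num) hcardT
  have htK : t ∈ K := by
    rw [hKeq]; exact (le_sup_left : Subgroup.zpowers t ≤ _) (Subgroup.mem_zpowers t)
  -- elements of K
  have hKmem : ∀ x ∈ K, x = 1 ∨ x = u ∨ x = u' ∨ x = u * u' := by
    intro x hx
    -- use explicit 4-element subgroup
    let L : Subgroup G :=
      { carrier := {x | x = 1 ∨ x = u ∨ x = u' ∨ x = u * u'}
        one_mem' := Or.inl rfl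
        mul_mem' := by
          have e1 := inv_mul_self hu
          have e2 := inv_mul_self hu'
          have e3 := huu'.eq
          intro a b ha hb
          rcases ha with ha | ha | ha | ha <;> rcases hb with hb | hb | hb | hb <;> rw [ha, hb]
          · left; rw [one_mul]
          · right; left; rw [one_mul]
          · right; right; left; rw [one_mul]
          · right; right; right; rw [one_mul]
          · right; left; rw [mul_one]
          · left; exact e1
          · right; right; right; rfl
          · right; right; left; rw [← mul_assoc, e1, one_mul]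
          · right; right; left; rw [mul_one]
          · right; right; right; exact e3.symm
          · left; exact e2
          · right; left; rw [← mul_assoc, ← e3, mul_assoc, e2, mul_one]
          · right; right; right; rw [mul_one]
          · right; right; left
            calc u * u' * u = u * (u' * u) := by group
              _ = u * (u * u') := by rw [e3]
              _ = (u * u) * u' := by group
              _ = u' := by rw [e1, one_mul]
          · right; left; rw [mul_assoc, e2, mul_one]
          · left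
            calc u * u' * (u * u') = u * (u' * u) * u' := by group
              _ = u * (u * u') * u' := by rw [e3]
              _ = (u * u) * (u' * u') := by group
              _ = 1 := by rw [e1, e2, one_mul]
        inv_mem' := by
          intro a ha
          rcases ha with ha | ha | ha | ha <;> rw [ha]
          · left; exact inv_one
          · right; left; exact inv_inv_eq hu
          · right; right; left; exact inv_inv_eq hu'
          · right; right; right
            rw [mul_inv_rev, inv_inv_eq hu, inv_inv_eq hu', huu'.eq] }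
    have hKL : K ≤ L := by
      rw [hK, sup_le_iff, Subgroup.zpowers_le, Subgroup.zpowers_le]
      exact ⟨Or.inr (Or.inl rfl), Or.inr (Or.inr (Or.inl rfl))⟩
    exact hKL hx
  rcases hKmem t htK with h1 | h1 | h1 | h1
  · exact absurd h1 (inv_ne_one ht)
  · exact absurd h1 hne1
  · exact absurd h1 hne2
  · exact h1

end Ctx

/-- Let G be a finite group with an abelian Sylow 3-subgroup P such that the normalizer of P has order 4·#P, the centralizer C of P has order 2·#P, C meets each of its conjugates by elements outside its normalizer trivially, and every proper subgroup of G of even order has order dividing 4·#P. Then G is not simple. -/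
theorem result {G : Type*} [Group G] [Finite G]
    (P : Sylow 3 G) (hab : IsMulCommutative P)
    (hN : Nat.card (Subgroup.normalizer ((P : Subgroup G) : Set G)) = 4 * Nat.card P)
    (hC : Nat.card (Subgroup.centralizer (P : Set G)) = 2 * Nat.card P)
    (hTI : Cfsg.IsTISubset (Subgroup.centralizer (P : Set G) : Set G))
    (heven : ∀ H : Subgroup G, H ≠ ⊤ → 2 ∣ Nat.card H → Nat.card H ∣ 4 * Nat.card P) :
    ¬ IsSimpleGroup G := by
  intro hs
  have h : Ctx P := ⟨hs, hab, hN, hC, hTI, heven⟩
  obtain ⟨v, hv, hvC⟩ := h.exists_involution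
  obtain ⟨w, hw, hwall⟩ := exists_central_involution (Subgroup.centralizer (P : Set G)) v hv
    (fun c hc hco => h.involution_unique hv hvC hco hc)
    (fun g x hx hx1 hgx => h.c2 hv hvC g x hx hx1 hgx)
    (fun a b ha hb haC hbC => h.c3 hv hvC a b ha hb haC hbC)
    h.c4 h.c5 h.c6
  -- normal closure of w is inside the centralizer of w
  haveI := hs
  have hle : Subgroup.normalClosure {w} ≤ Subgroup.centralizer {w} := by
    unfold Subgroup.normalClosure
    apply (Subgroup.closure_le _).mpr
    intro x hx
    rw [Group.mem_conjugatesOfSet_iff] at hx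
    obtain ⟨a, ha, hax⟩ := hx
    rw [Set.mem_singleton_iff] at ha
    subst ha
    obtain ⟨c, hc⟩ := isConj_iff.mp hax
    have hxo : orderOf x = 2 := by rw [← hc, orderOf_conj_eq, hw]
    have := hwall x hxo
    show x ∈ Subgroup.centralizer {a}
    rw [Subgroup.mem_centralizer_iff]
    intro y hy
    rw [Set.mem_singleton_iff] at hy
    rw [hy]; exact this.eq
  have hne : Subgroup.normalClosure {w} ≠ ⊥ := by
    intro hbot
    have : w ∈ Subgroup.normalClosure {w} := Subgroup.subset_normalClosure rfl
    rw [hbot, Subgroup.mem_bot] at this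
    exact inv_ne_one hw this
  rcases (Subgroup.normalClosure_normal (s := {w})).eq_bot_or_eq_top with h1 | h1
  · exact hne h1
  · have hwc : w ∈ Subgroup.center G := by
      rw [Subgroup.mem_center_iff]
      intro g
      have : g ∈ Subgroup.centralizer {w} := hle (by rw [h1]; trivial)
      exact ((Subgroup.mem_centralizer_iff.mp this) w rfl).symm
    rw [h.center_eq_bot, Subgroup.mem_bot] at hwc
    exact inv_ne_one hw hwc

end Cfsg.Agent.S4018
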