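import Mathlib
import Cfsg.Statements.S1516
import Cfsg.Agent.Lib.H8.Coherence
import Cfsg.Agent.Lib.H8.CoherenceSystem
import Cfsg.Agent.Lib.L0.CharBasic
import Cfsg.Agent.Lib.L0.CharOps

set_option autoImplicit false
open Cfsg

namespace Cfsg.Agent.S1516

open Cfsg.Agent.Lib.H8 Cfsg.Agent.Lib.L0

theorem key {L : Type*} [Group L] [Fintype L] {G : Type*} [Group G] [Fintype G]
    {S : Set (L → ℂ)} {τ : (L → ℂ) → (G → ℂ)} {R : (L → ℂ) → Finset (G → ℂ)}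
    (hS : Cfsg.IsCoherenceSystem S τ R) (d n : (L → ℂ) → ℕ)
    (hd : ∀ φ ∈ S, φ 1 = (d φ : ℂ)) (hn : ∀ φ ∈ S, Cfsg.classInner φ φ = (n φ : ℂ))
    (S₁ : Finset (L → ℂ)) (hS₁ : ↑S₁ ⊆ S) (hS₁c : ∀ φ ∈ S₁, Cfsg.conjFun φ ∈ S₁)
    (τ₁ : (L → ℂ) → (G → ℂ))
    (hτ₁ : Cfsg.IsLinearIsometryOn (zspan (↑S₁ : Set (L → ℂ))) τ₁)
    (hagree : ∀ α ∈ zspanOn (↑S₁ : Set (L → ℂ)) ({1}ᶜ : Set L), τ₁ α = τ α)
    (χ : L → ℂ) (hχ : χ ∈ S) (hχ₁ : χ ∉ S₁) (hχ₂ : Cfsg.conjFun χ ∉ S₁) (χ₁ : L → ℂ)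
    (hχ₁S : χ₁ ∈ S₁) (a : ℕ) (ha : d χ = d χ₁ * a)
    (hineq : (2 * d χ * d χ₁ : ℝ) < ∑ φ ∈ S₁, ((d φ : ℝ) ^ 2 / (n φ : ℝ))) :
    ∃ p : (G → ℂ) → ℤ, (∀ α ∈ R χ, p α ^ 2 = p α) ∧ ∑ α ∈ R χ, p α = (n χ : ℤ) ∧
      τ (χ - (a : ℤ) • χ₁) + (a : ℤ) • τ₁ χ₁ = ∑ α ∈ R χ, p α • α := by
  classical
  have hτ := hS.isometry
  have hχ₁' : χ₁ ∈ S := hS₁ hχ₁S
  have hχc : conjFun χ ∈ S := hS.conj_mem χ hχ
  have hmemS : ∀ ξ ∈ S₁, ξ ∈ S := fun ξ hξ => hS₁ hξ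
  have hneχ : ∀ ξ ∈ S₁, ξ ≠ χ := fun ξ hξ h => hχ₁ (h ▸ hξ)
  have hneχc : ∀ ξ ∈ S₁, ξ ≠ conjFun χ := fun ξ hξ h => hχ₂ (h ▸ hξ)
  have hd₁0 : d χ₁ ≠ 0 := coh_degree_ne_zero hS hχ₁' (hd χ₁ hχ₁')
  have hdχ0 : d χ ≠ 0 := coh_degree_ne_zero hS hχ (hd χ hχ)
  have ha0 : a ≠ 0 := by
    rintro rfl
    rw [mul_zero] at ha
    exact hdχ0 ha
  have hZ₁ := isZClosed_zspan (↑S₁ : Set (L → ℂ))
  have hE := isZClosed_zspanOn S ({1}ᶜ : Set L)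
  -- β
  obtain ⟨β, hβdef⟩ : ∃ β : L → ℂ, β = χ - (a : ℤ) • χ₁ := ⟨_, rfl⟩
  rw [← hβdef]
  have hβ : β ∈ zspanOn S ({1}ᶜ : Set L) := by
    rw [mem_zspanOn_compl_one, hβdef]
    refine ⟨sub_mem_zspan (subset_zspan _ hχ) (zsmul_mem_zspan (subset_zspan _ hχ₁') _), ?_⟩
    rw [Pi.sub_apply, Pi.smul_apply, hd χ hχ, hd χ₁ hχ₁', ha, zsmul_eq_mul]
    push_cast; ring
  obtain ⟨f, hf⟩ : ∃ f : G → ℂ, f = τ β := ⟨_, rfl⟩
  rw [← hf]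
  have hfg : Cfsg.IsGeneralizedCharacter G f := by rw [hf]; exact lio_genChar hτ hβ
  have hpint : ∀ α ∈ R χ, ∃ c : ℤ, Cfsg.classInner f α = (c : ℂ) :=
    fun α hα => genChar_classInner_int hfg (hS.virtual χ hχ α hα)
  choose! p hp using hpint
  have hR := coh_orthonormal' hS hχ
  have e_χχc : Cfsg.classInner χ (conjFun χ) = 0 :=
    hS.orthogonal χ hχ _ hχc (fun h => hS.conj_ne χ hχ h.symm)
  have e_χ₁χ : Cfsg.classInner χ₁ χ = 0 := hS.orthogonal χ₁ hχ₁' χ hχ (hneχ χ₁ hχ₁S)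
  have e_χχ₁ : Cfsg.classInner χ χ₁ = 0 :=
    hS.orthogonal χ hχ χ₁ hχ₁' (Ne.symm (hneχ χ₁ hχ₁S))
  have e_χ₁χc : Cfsg.classInner χ₁ (conjFun χ) = 0 :=
    hS.orthogonal χ₁ hχ₁' _ hχc (hneχc χ₁ hχ₁S)
  have hpsum : ∑ α ∈ R χ, p α = (n χ : ℤ) := by
    have h3 := lio_inner hτ hβ (coh_sub_conj_mem hS hχ)
    rw [← hf, hS.sum_eq χ hχ, classInner_sum_right,
      Finset.sum_congr rfl (fun α hα => hp α hα)] at h3
    simp only [hβdef, classInner_sub_left, classInner_sub_right, classInner_zsmul_left] at h3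
    rw [hn χ hχ, e_χχc, e_χ₁χ, e_χ₁χc] at h3
    have h4 : ((∑ α ∈ R χ, p α : ℤ) : ℂ) = ((n χ : ℤ) : ℂ) := by
      push_cast; rw [h3]; ring
    exact_mod_cast h4
  -- P, Q
  obtain ⟨P, hP⟩ : ∃ P : G → ℂ, P = ∑ α ∈ R χ, p α • α := ⟨_, rfl⟩
  have hPg : Cfsg.IsGeneralizedCharacter G P := by
    rw [hP]
    exact isGeneralizedCharacter_sum _ _
      (fun α hα => isGeneralizedCharacter_zsmul (hS.virtual χ hχ α hα) _)
  have hPα : ∀ α ∈ R χ, Cfsg.classInner P α = (p α : ℂ) := fun α hα => by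
    rw [hP]; exact classInner_sum_zsmul_orthonormal (R χ) hR.1 hR.2 p hα
  obtain ⟨ssq, hsq⟩ : ∃ ssq : ℤ, ssq = ∑ α ∈ R χ, p α * p α := ⟨_, rfl⟩
  have hPP : Cfsg.classInner P P = (ssq : ℂ) := by
    have h1 := classInner_sum_zsmul_of_coeff (R χ) p P p hPα
    rw [← hP] at h1
    rw [h1, hsq]
  have hPf : Cfsg.classInner P f = (ssq : ℂ) := by
    rw [hP, classInner_sum_zsmul_of_coeff (R χ) p f p hp, hsq]
  have hfP : Cfsg.classInner f P = (ssq : ℂ) := by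
    rw [← classInner_conj_symm, hPf, map_intCast]
  have hff : Cfsg.classInner f f = (((n χ : ℤ) + (a : ℤ) ^ 2 * (n χ₁ : ℤ) : ℤ) : ℂ) := by
    rw [hf, lio_inner hτ hβ hβ]
    simp only [hβdef, classInner_sub_left, classInner_sub_right, classInner_zsmul_left,
      classInner_zsmul_right]
    rw [hn χ hχ, hn χ₁ hχ₁', e_χχ₁, e_χ₁χ]
    push_cast; ring
  have hsq_ge : (n χ : ℤ) ≤ ssq := by
    rw [hsq, ← hpsum]
    apply Finset.sum_le_sum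
    intro α _
    have := Int.le_self_sq (p α)
    rw [pow_two] at this
    exact this
  -- Q'
  obtain ⟨Q', hQ'⟩ : ∃ Q' : G → ℂ, Q' = f - P + (a : ℤ) • τ₁ χ₁ := ⟨_, rfl⟩
  have hτ₁g : ∀ ξ ∈ S₁, Cfsg.IsGeneralizedCharacter G (τ₁ ξ) :=
    fun ξ hξ => lio_genChar hτ₁ (subset_zspan _ hξ)
  have hQ'g : Cfsg.IsGeneralizedCharacter G Q' := by
    rw [hQ']
    exact isGeneralizedCharacter_add (isGeneralizedCharacter_sub hfg hPg)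
      (isGeneralizedCharacter_zsmul (hτ₁g χ₁ hχ₁S) _)
  have hfdec : f = P + Q' - (a : ℤ) • τ₁ χ₁ := by rw [hQ']; abel
  have hPτ₁ : ∀ ξ ∈ S₁, Cfsg.classInner P (τ₁ ξ) = 0 := by
    intro ξ hξ
    rw [hP, classInner_sum_zsmul_of_coeff (R χ) p (τ₁ ξ) (fun _ => 0)
      (fun α hα => by
        rw [coh_tau1_orth hS n hn (↑S₁) hS₁ τ₁ hτ₁ hagree hξ (hS₁c ξ hξ) hχ (hneχ ξ hξ)
          (hneχc ξ hξ) α hα]; simp)]
    simp
  have hτ₁P : ∀ ξ ∈ S₁, Cfsg.classInner (τ₁ ξ) P = 0 := fun ξ hξ => by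
    rw [← classInner_conj_symm, hPτ₁ ξ hξ, map_zero]
  -- γ
  have hγ : ∀ ξ ∈ S₁, (d χ₁ : ℤ) • ξ - (d ξ : ℤ) • χ₁ ∈
      zspanOn (↑S₁ : Set (L → ℂ)) ({1}ᶜ : Set L) := by
    intro ξ hξ
    rw [mem_zspanOn_compl_one]
    refine ⟨sub_mem_zspan (zsmul_mem_zspan (subset_zspan _ hξ) _)
      (zsmul_mem_zspan (subset_zspan _ hχ₁S) _), ?_⟩
    rw [Pi.sub_apply, Pi.smul_apply, Pi.smul_apply, hd ξ (hmemS ξ hξ), hd χ₁ hχ₁', zsmul_eq_mul,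
      zsmul_eq_mul]
    push_cast; ring
  have hγE : ∀ ξ ∈ S₁, (d χ₁ : ℤ) • ξ - (d ξ : ℤ) • χ₁ ∈ zspanOn S ({1}ᶜ : Set L) :=
    fun ξ hξ => zspanOn_mono hS₁ _ (hγ ξ hξ)
  have hτγ : ∀ ξ ∈ S₁, τ ((d χ₁ : ℤ) • ξ - (d ξ : ℤ) • χ₁) =
      (d χ₁ : ℤ) • τ₁ ξ - (d ξ : ℤ) • τ₁ χ₁ := by
    intro ξ hξ
    rw [← hagree _ (hγ ξ hξ), lio_sub hτ₁ hZ₁ (zsmul_mem_zspan (subset_zspan _ hξ) _)
      (zsmul_mem_zspan (subset_zspan _ hχ₁S) _), lio_zsmul hτ₁ (subset_zspan _ hξ),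
      lio_zsmul hτ₁ (subset_zspan _ hχ₁S)]
  -- integrality
  obtain ⟨y, hy⟩ := genChar_classInner_int hQ'g (hτ₁g χ₁ hχ₁S)
  have hyξ : ∀ ξ ∈ S₁, ∃ c : ℤ, Cfsg.classInner Q' (τ₁ ξ) = (c : ℂ) :=
    fun ξ hξ => genChar_classInner_int hQ'g (hτ₁g ξ hξ)
  choose! yy hyy using hyξ
  have hy' : Cfsg.classInner (τ₁ χ₁) Q' = (y : ℂ) := by
    rw [← classInner_conj_symm, hy, map_intCast]
  have e11 : Cfsg.classInner (τ₁ χ₁) (τ₁ χ₁) = (n χ₁ : ℂ) := by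
    rw [lio_inner hτ₁ (subset_zspan _ hχ₁S) (subset_zspan _ hχ₁S), hn χ₁ hχ₁']
  have hkeyZ : ∀ ξ ∈ S₁, (d χ₁ : ℤ) * yy ξ = (d ξ : ℤ) * y := by
    intro ξ hξ
    have h1 := lio_inner hτ hβ (hγE ξ hξ)
    rw [hτγ ξ hξ, ← hf, hfdec] at h1
    have e1 : Cfsg.classInner χ ξ = 0 :=
      hS.orthogonal χ hχ ξ (hmemS ξ hξ) (Ne.symm (hneχ ξ hξ))
    have e3 := lio_inner hτ₁ (subset_zspan _ hχ₁S) (subset_zspan _ hξ)
    simp only [hβdef, classInner_sub_left, classInner_sub_right, classInner_add_left,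
      classInner_zsmul_left, classInner_zsmul_right] at h1
    rw [hPτ₁ ξ hξ, hPτ₁ χ₁ hχ₁S, hyy ξ hξ, hy, e1, e_χχ₁, e3, e11, hn χ₁ hχ₁'] at h1
    have h2 : ((d χ₁ : ℤ) : ℂ) * (yy ξ : ℂ) = ((d ξ : ℤ) : ℂ) * (y : ℂ) := by
      linear_combination h1
    exact_mod_cast h2
  -- norm of Q'
  obtain ⟨m', hm'⟩ := genChar_classInner_int hQ'g hQ'g
  have hm'eq : m' = 2 * (a : ℤ) * y + (n χ : ℤ) - ssq := by
    have h1 := hff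
    rw [hfdec] at h1
    have hPQ' : Cfsg.classInner P Q' = 0 := by
      rw [hQ', classInner_add_right, classInner_sub_right, hPf, hPP, classInner_zsmul_right,
        hPτ₁ χ₁ hχ₁S]
      ring
    have hQ'P : Cfsg.classInner Q' P = 0 := by
      rw [← classInner_conj_symm, hPQ', map_zero]
    simp only [classInner_sub_left, classInner_sub_right, classInner_add_left,
      classInner_add_right, classInner_zsmul_left, classInner_zsmul_right] at h1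
    rw [hPP, hPQ', hQ'P, hm', hy, hy', hPτ₁ χ₁ hχ₁S, hτ₁P χ₁ hχ₁S, e11] at h1
    have h2 : ((m' : ℤ) : ℂ) = ((2 * (a : ℤ) * y + (n χ : ℤ) - ssq : ℤ) : ℂ) := by
      push_cast at h1 ⊢
      linear_combination h1
    exact_mod_cast h2
  have hm'nonneg : 0 ≤ m' := by
    obtain ⟨r, hr0, hr⟩ := classInner_self_nonneg Q'
    rw [hm'] at hr
    have : (m' : ℝ) = r := by exact_mod_cast hr
    have : (0 : ℝ) ≤ (m' : ℝ) := by rw [this]; exact hr0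
    exact_mod_cast this
  -- Bessel
  have hnposS₁ : ∀ ξ ∈ S₁, (0 : ℝ) < (n ξ : ℝ) := fun ξ hξ => by
    exact_mod_cast coh_norm_pos hS (hmemS ξ hξ) (hn ξ (hmemS ξ hξ))
  have horthτ₁ : ∀ ξ ∈ S₁, ∀ η ∈ S₁, Cfsg.classInner (τ₁ ξ) (τ₁ η) =
      if ξ = η then (((n ξ : ℕ) : ℝ) : ℂ) else 0 := by
    intro ξ hξ η hη
    rw [lio_inner hτ₁ (subset_zspan _ hξ) (subset_zspan _ hη)]
    split_ifs with h
    · rw [← h, hn ξ (hmemS ξ hξ)]; simp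
    · exact hS.orthogonal ξ (hmemS ξ hξ) η (hmemS η hη) h
  have hbes := (bessel_real S₁ τ₁ (fun ξ => ((n ξ : ℕ) : ℝ)) hnposS₁ horthτ₁ Q'
    (fun ξ => ((yy ξ : ℤ) : ℝ)) (fun ξ hξ => by rw [hyy ξ hξ]; simp) (m' : ℝ)
    (by rw [hm']; simp)).1
  have hA : (0 : ℤ) < (a : ℤ) := by exact_mod_cast Nat.pos_of_ne_zero ha0
  have hy0 : y = 0 := by
    by_contra hyne
    have hd₁R : ((d χ₁ : ℕ) : ℝ) ≠ 0 := by exact_mod_cast hd₁0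
    have hyR : (y : ℝ) ≠ 0 := by exact_mod_cast hyne
    have hterm : ∀ ξ ∈ S₁, ((yy ξ : ℤ) : ℝ) ^ 2 / ((n ξ : ℕ) : ℝ) =
        ((y : ℝ) ^ 2 / ((d χ₁ : ℕ) : ℝ) ^ 2) * (((d ξ : ℕ) : ℝ) ^ 2 / ((n ξ : ℕ) : ℝ)) := by
      intro ξ hξ
      have h := hkeyZ ξ hξ
      have hR' : ((d χ₁ : ℕ) : ℝ) * ((yy ξ : ℤ) : ℝ) = ((d ξ : ℕ) : ℝ) * (y : ℝ) := by
        exact_mod_cast h
      have hyyξ : ((yy ξ : ℤ) : ℝ) = ((d ξ : ℕ) : ℝ) * (y : ℝ) / ((d χ₁ : ℕ) : ℝ) := by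
        rw [eq_div_iff hd₁R]; linarith
      have hnξ := (hnposS₁ ξ hξ).ne'
      rw [hyyξ]
      field_simp
    rw [Finset.sum_congr rfl hterm, ← Finset.mul_sum] at hbes
    have hpos : (0 : ℝ) < (y : ℝ) ^ 2 / ((d χ₁ : ℕ) : ℝ) ^ 2 := by positivity
    have h1 := mul_lt_mul_of_pos_left hineq hpos
    have h2 : (y : ℝ) ^ 2 / ((d χ₁ : ℕ) : ℝ) ^ 2 * (2 * ((d χ : ℕ) : ℝ) * ((d χ₁ : ℕ) : ℝ)) =
        2 * (a : ℝ) * (y : ℝ) ^ 2 := by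
      rw [ha]; push_cast; field_simp
    rw [h2] at h1
    have h3 : (2 * (a : ℝ) * (y : ℝ) ^ 2) < (m' : ℝ) := lt_of_lt_of_le h1 hbes
    have h4 : 2 * (a : ℤ) * y ^ 2 < m' := by exact_mod_cast h3
    have h5 : m' ≤ 2 * (a : ℤ) * y := by rw [hm'eq]; linarith
    have h6 : (a : ℤ) * y ^ 2 < (a : ℤ) * y := by linarith
    have h7 : y ^ 2 < y := lt_of_mul_lt_mul_left h6 hA.le
    have := Int.le_self_sq y
    linarith
  subst hy0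
  have hsqeq : ssq = (n χ : ℤ) := by
    have : m' ≤ 0 := by rw [hm'eq]; linarith
    have hm0 : m' = 0 := le_antisymm this hm'nonneg
    rw [hm0] at hm'eq
    linarith
  have hm0 : m' = 0 := by rw [hm'eq, hsqeq]; ring
  have hQ'0 : Q' = 0 := by
    apply classInner_self_eq_zero
    rw [hm', hm0]; simp
  have hsq' : ∑ α ∈ R χ, p α ^ 2 ≤ (n χ : ℤ) := by
    rw [← hsqeq, hsq]
    apply le_of_eq
    apply Finset.sum_congr rfl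
    intro α _
    rw [pow_two]
  refine ⟨p, (int_sum_sq (R χ) p (n χ) hpsum hsq').1, hpsum, ?_⟩
  rw [← hP]
  have : f + (a : ℤ) • τ₁ χ₁ = P + Q' := by rw [hQ']; abel
  rw [this, hQ'0, add_zero]

/-- Let (S, τ, R) be a coherence system from L to G with degrees φ 1 = d φ and squared norms ⟨φ, φ⟩ = n φ for φ ∈ S. Let S₁ ⊆ S be a finite subset closed under complex conjugation such that (S₁, L minus 1, τ) is coherent, let χ ∈ S with χ ∉ S₁ and conj χ ∉ S₁, and let χ₁ ∈ S₁ with d χ₁ dividing d χ and 2 d χ d χ₁ < Σ_{φ ∈ S₁} (d φ)² / n φ. Then S₁ together with χ and conj χ is coherent. -/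
theorem result {L : Type*} [Group L] [Fintype L] {G : Type*} [Group G] [Fintype G] (S : Set (L → ℂ)) (τ : (L → ℂ) → (G → ℂ)) (R : (L → ℂ) → Finset (G → ℂ)) (hS : Cfsg.IsCoherenceSystem S τ R) (d n : (L → ℂ) → ℕ) (hd : ∀ φ ∈ S, φ 1 = (d φ : ℂ)) (hn : ∀ φ ∈ S, Cfsg.classInner φ φ = (n φ : ℂ)) (S₁ : Finset (L → ℂ)) (hS₁ : ↑S₁ ⊆ S) (hS₁c : ∀ φ ∈ S₁, Cfsg.conjFun φ ∈ S₁) (hcoh : Cfsg.IsCoherent (↑S₁ : Set (L → ℂ)) {1}ᶜ τ) (χ : L → ℂ) (hχ : χ ∈ S) (hχ₁ : χ ∉ S₁) (hχ₂ : Cfsg.conjFun χ ∉ S₁) (χ₁ : L → ℂ) (hχ₁S : χ₁ ∈ S₁) (hdvd : d χ₁ ∣ d χ) (hineq : (2 * d χ * d χ₁ : ℝ) < ∑ φ ∈ S₁, ((d φ : ℝ) ^ 2 / (n φ : ℝ))) : Cfsg.IsCoherent (↑S₁ ∪ {χ, Cfsg.conjFun χ} : Set (L → ℂ)) {1}ᶜ τ := by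
  classical
  obtain ⟨⟨α₀, hα₀, hα₀ne⟩, τ₁, hτ₁, hagree⟩ := hcoh
  have hτ := hS.isometry
  have hE := isZClosed_zspanOn S ({1}ᶜ : Set L)
  have hχ₁' : χ₁ ∈ S := hS₁ hχ₁S
  have hχc : conjFun χ ∈ S := hS.conj_mem χ hχ
  have hmemS : ∀ ξ ∈ S₁, ξ ∈ S := fun ξ hξ => hS₁ hξ
  have hneχ : ∀ ξ ∈ S₁, ξ ≠ χ := fun ξ hξ h => hχ₁ (h ▸ hξ)
  have hneχc : ∀ ξ ∈ S₁, ξ ≠ conjFun χ := fun ξ hξ h => hχ₂ (h ▸ hξ)
  have hχne : χ ≠ conjFun χ := fun h => hS.conj_ne χ hχ h.symm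
  have hd₁0 : d χ₁ ≠ 0 := coh_degree_ne_zero hS hχ₁' (hd χ₁ hχ₁')
  obtain ⟨a, ha⟩ := hdvd
  obtain ⟨p, hpsq, hpsum, hX⟩ :=
    key hS d n hd hn S₁ hS₁ hS₁c τ₁ hτ₁ hagree χ hχ hχ₁ hχ₂ χ₁ hχ₁S a ha hineq
  have hdχc : d (conjFun χ) = d χ := by
    have h1 := hd _ hχc
    rw [coh_conj_apply_one hS hχ, hd χ hχ] at h1
    exact_mod_cast h1.symm
  have hZ₁ := isZClosed_zspan (↑S₁ : Set (L → ℂ))
  have hR := coh_orthonormal' hS hχ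
  have hβ : χ - (a : ℤ) • χ₁ ∈ zspanOn S ({1}ᶜ : Set L) := by
    rw [mem_zspanOn_compl_one]
    refine ⟨sub_mem_zspan (subset_zspan _ hχ) (zsmul_mem_zspan (subset_zspan _ hχ₁') _), ?_⟩
    rw [Pi.sub_apply, Pi.smul_apply, hd χ hχ, hd χ₁ hχ₁', ha, zsmul_eq_mul]
    push_cast; ring
  obtain ⟨X, hXdef⟩ : ∃ X : G → ℂ, X = τ (χ - (a : ℤ) • χ₁) + (a : ℤ) • τ₁ χ₁ := ⟨_, rfl⟩
  rw [← hXdef] at hX
  obtain ⟨X', hX'def⟩ : ∃ X' : G → ℂ,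
      X' = τ (conjFun χ - (a : ℤ) • χ₁) + (a : ℤ) • τ₁ χ₁ := ⟨_, rfl⟩
  have hX' : X' = ∑ α ∈ R χ, (p α - 1) • α := by
    have e : conjFun χ - (a : ℤ) • χ₁ = (χ - (a : ℤ) • χ₁) - (χ - conjFun χ) := by abel
    rw [hX'def, e, lio_sub hτ hE hβ (coh_sub_conj_mem hS hχ), hS.sum_eq χ hχ]
    have e2 : τ (χ - (a : ℤ) • χ₁) - ∑ α ∈ R χ, α + (a : ℤ) • τ₁ χ₁ = X - ∑ α ∈ R χ, α := by
      rw [hXdef]; abel
    rw [e2, hX, ← Finset.sum_sub_distrib]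
    apply Finset.sum_congr rfl
    intro α _
    rw [sub_smul, one_smul]
  have hτ₁g : ∀ ξ ∈ S₁, IsGeneralizedCharacter G (τ₁ ξ) :=
    fun ξ hξ => lio_genChar hτ₁ (subset_zspan _ hξ)
  have hXg : IsGeneralizedCharacter G X := by
    rw [hX]
    exact isGeneralizedCharacter_sum _ _
      (fun α hα => isGeneralizedCharacter_zsmul (hS.virtual χ hχ α hα) _)
  have hX'g : IsGeneralizedCharacter G X' := by
    rw [hX']
    exact isGeneralizedCharacter_sum _ _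
      (fun α hα => isGeneralizedCharacter_zsmul (hS.virtual χ hχ α hα) _)
  have hXα : ∀ α ∈ R χ, classInner X α = (p α : ℂ) := fun α hα => by
    rw [hX]; exact classInner_sum_zsmul_orthonormal (R χ) hR.1 hR.2 p hα
  have hX'α : ∀ α ∈ R χ, classInner X' α = ((p α - 1 : ℤ) : ℂ) := fun α hα => by
    rw [hX']; exact classInner_sum_zsmul_orthonormal (R χ) hR.1 hR.2 (fun α => p α - 1) hα
  have hpp : ∀ α ∈ R χ, p α * p α = p α := fun α hα => by rw [← pow_two]; exact hpsq α hα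
  have hcard := coh_card_R hS n hn hχ
  have hXX : classInner X X = (n χ : ℂ) := by
    have h1 := classInner_sum_zsmul_of_coeff (R χ) p X p hXα
    rw [← hX] at h1
    rw [h1, Finset.sum_congr rfl hpp, hpsum]; simp
  have hX'X' : classInner X' X' = (n χ : ℂ) := by
    have h1 := classInner_sum_zsmul_of_coeff (R χ) (fun α => p α - 1) X' (fun α => p α - 1) hX'α
    rw [← hX'] at h1
    rw [h1]
    have h2 : ∑ α ∈ R χ, (p α - 1) * (p α - 1) = ∑ α ∈ R χ, (1 - p α) := by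
      apply Finset.sum_congr rfl
      intro α hα
      have := hpp α hα
      ring_nf
      ring_nf at this
      linarith
    rw [h2, Finset.sum_sub_distrib, hpsum, Finset.sum_const, hcard]
    simp
    ring
  have hXX' : classInner X X' = 0 := by
    have h1 := classInner_sum_zsmul_of_coeff (R χ) p X' (fun α => p α - 1) hX'α
    rw [← hX] at h1
    rw [h1]
    have h2 : ∑ α ∈ R χ, p α * (p α - 1) = 0 := by
      apply Finset.sum_eq_zero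
      intro α hα
      have := hpp α hα
      rw [mul_sub, this, mul_one, sub_self]
    rw [h2]; simp
  have hX'X : classInner X' X = 0 := by rw [← classInner_conj_symm, hXX', map_zero]
  have hτ₁orth : ∀ ξ ∈ S₁, ∀ α ∈ R χ, classInner (τ₁ ξ) α = ((0 : ℤ) : ℂ) := by
    intro ξ hξ α hα
    rw [coh_tau1_orth hS n hn (↑S₁) hS₁ τ₁ hτ₁ hagree hξ (hS₁c ξ hξ) hχ (hneχ ξ hξ)
      (hneχc ξ hξ) α hα]
    simp
  have hXτ₁ : ∀ ξ ∈ S₁, classInner X (τ₁ ξ) = 0 := by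
    intro ξ hξ
    rw [hX, classInner_sum_zsmul_of_coeff (R χ) p (τ₁ ξ) (fun _ => 0) (hτ₁orth ξ hξ)]
    simp
  have hX'τ₁ : ∀ ξ ∈ S₁, classInner X' (τ₁ ξ) = 0 := by
    intro ξ hξ
    rw [hX', classInner_sum_zsmul_of_coeff (R χ) (fun α => p α - 1) (τ₁ ξ) (fun _ => 0)
      (hτ₁orth ξ hξ)]
    simp
  have hτ₁X : ∀ ξ ∈ S₁, classInner (τ₁ ξ) X = 0 := fun ξ hξ => by
    rw [← classInner_conj_symm, hXτ₁ ξ hξ, map_zero]
  have hτ₁X' : ∀ ξ ∈ S₁, classInner (τ₁ ξ) X' = 0 := fun ξ hξ => by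
    rw [← classInner_conj_symm, hX'τ₁ ξ hξ, map_zero]
  -- the finite set
  obtain ⟨T, hTdef⟩ : ∃ T : Finset (L → ℂ), T = insert χ (insert (conjFun χ) S₁) := ⟨_, rfl⟩
  have hTcoe : (↑T : Set (L → ℂ)) = ↑S₁ ∪ {χ, conjFun χ} := by
    rw [hTdef]
    ext ξ
    simp only [Finset.coe_insert, Set.mem_insert_iff, Finset.mem_coe, Set.mem_union,
      Set.mem_singleton_iff]
    tauto
  rw [← hTcoe]
  have hcases : ∀ ξ ∈ T, ξ = χ ∨ ξ = conjFun χ ∨ ξ ∈ S₁ := by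
    intro ξ hξ
    rw [hTdef] at hξ
    rcases Finset.mem_insert.mp hξ with h | h
    · exact Or.inl h
    · rcases Finset.mem_insert.mp h with h | h
      · exact Or.inr (Or.inl h)
      · exact Or.inr (Or.inr h)
  have hTS : ∀ ξ ∈ T, ξ ∈ S := by
    intro ξ hξ
    rcases hcases ξ hξ with rfl | rfl | h
    · exact hχ
    · exact hχc
    · exact hmemS ξ h
  have hS₁T : ∀ ξ ∈ S₁, ξ ∈ T := fun ξ hξ => by
    rw [hTdef]; exact Finset.mem_insert_of_mem (Finset.mem_insert_of_mem hξ)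
  have hχT : χ ∈ T := by rw [hTdef]; exact Finset.mem_insert_self _ _
  have hχcT : conjFun χ ∈ T := by
    rw [hTdef]; exact Finset.mem_insert_of_mem (Finset.mem_insert_self _ _)
  have hneT : ∀ ξ ∈ T, classInner ξ ξ ≠ 0 := fun ξ hξ => coh_norm_ne_zero hS (hTS ξ hξ)
  have horthT : ∀ ξ ∈ T, ∀ η ∈ T, ξ ≠ η → classInner ξ η = 0 :=
    fun ξ hξ η hη h => hS.orthogonal ξ (hTS ξ hξ) η (hTS η hη) h
  set Y' : (L → ℂ) → (G → ℂ) :=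
    fun ξ => if ξ = χ then X else if ξ = conjFun χ then X' else τ₁ ξ with hY'
  have hY'χ : Y' χ = X := by simp [hY']
  have hY'χc : Y' (conjFun χ) = X' := by
    have : conjFun χ ≠ χ := Ne.symm hχne
    simp [hY', this]
  have hY'S : ∀ ξ ∈ S₁, Y' ξ = τ₁ ξ := fun ξ hξ => by
    simp [hY', hneχ ξ hξ, hneχc ξ hξ]
  have e_χχc : classInner χ (conjFun χ) = 0 := hS.orthogonal χ hχ _ hχc hχne
  have e_χcχ : classInner (conjFun χ) χ = 0 := hS.orthogonal _ hχc χ hχ (Ne.symm hχne)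
  have e_cc : classInner (conjFun χ) (conjFun χ) = (n χ : ℂ) := by
    rw [hn _ hχc, coh_norm_conj hS n hn hχ]
  have hY'inner : ∀ ξ ∈ T, ∀ η ∈ T, classInner (Y' ξ) (Y' η) = classInner ξ η := by
    intro ξ hξ η hη
    rcases hcases ξ hξ with rfl | rfl | hξ' <;> rcases hcases η hη with rfl | rfl | hη'
    · rw [hY'χ, hXX, hn _ hχ]
    · rw [hY'χ, hY'χc, hXX', e_χχc]
    · rw [hY'χ, hY'S η hη', hXτ₁ η hη',
        hS.orthogonal _ hχ η (hmemS η hη') (Ne.symm (hneχ η hη'))]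
    · rw [hY'χ, hY'χc, hX'X, e_χcχ]
    · rw [hY'χc, hX'X', e_cc]
    · rw [hY'χc, hY'S η hη', hX'τ₁ η hη',
        hS.orthogonal _ hχc η (hmemS η hη') (Ne.symm (hneχc η hη'))]
    · rw [hY'χ, hY'S ξ hξ', hτ₁X ξ hξ', hS.orthogonal ξ (hmemS ξ hξ') _ hχ (hneχ ξ hξ')]
    · rw [hY'χc, hY'S ξ hξ', hτ₁X' ξ hξ', hS.orthogonal ξ (hmemS ξ hξ') _ hχc (hneχc ξ hξ')]
    · rw [hY'S ξ hξ', hY'S η hη', lio_inner hτ₁ (subset_zspan _ hξ') (subset_zspan _ hη')]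
  have hY'g : ∀ ξ ∈ T, IsGeneralizedCharacter G (Y' ξ) := by
    intro ξ hξ
    rcases hcases ξ hξ with rfl | rfl | hξ'
    · rw [hY'χ]; exact hXg
    · rw [hY'χc]; exact hX'g
    · rw [hY'S ξ hξ']; exact hτ₁g ξ hξ'
  have hiso := isLinearIsometryOn_extendIso T hneT horthT Y' hY'inner hY'g
  have hTsub : (↑T : Set (L → ℂ)) ⊆ S := fun ξ hξ => hTS ξ hξ
  have hτT : IsLinearIsometryOn (zspanOn (↑T : Set (L → ℂ)) ({1}ᶜ : Set L)) τ :=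
    lio_mono hτ (zspanOn_mono hTsub _)
  have haZ : (d χ : ℤ) = (d χ₁ : ℤ) * (a : ℤ) := by exact_mod_cast ha
  have hbase : ∀ ξ ∈ T, τ ((d χ₁ : ℤ) • ξ - (d ξ : ℤ) • χ₁) =
      (d χ₁ : ℤ) • Y' ξ - (d ξ : ℤ) • Y' χ₁ := by
    intro ξ hξ
    rw [hY'S χ₁ hχ₁S]
    rcases hcases ξ hξ with rfl | rfl | hξ'
    · rw [hY'χ]
      have e : (d χ₁ : ℤ) • ξ - (d ξ : ℤ) • χ₁ = (d χ₁ : ℤ) • (ξ - (a : ℤ) • χ₁) := by
        rw [smul_sub, smul_smul, haZ]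
      rw [e, lio_zsmul hτ hβ]
      have e2 : τ (ξ - (a : ℤ) • χ₁) = X - (a : ℤ) • τ₁ χ₁ := by rw [hXdef]; abel
      rw [e2, smul_sub, smul_smul, haZ]
    · rw [hY'χc, hdχc]
      have hβ' : conjFun χ - (a : ℤ) • χ₁ ∈ zspanOn S ({1}ᶜ : Set L) := by
        rw [mem_zspanOn_compl_one]
        refine ⟨sub_mem_zspan (subset_zspan _ hχc)
          (zsmul_mem_zspan (subset_zspan _ hχ₁') _), ?_⟩
        rw [Pi.sub_apply, Pi.smul_apply, coh_conj_apply_one hS hχ, hd χ hχ, hd χ₁ hχ₁', ha,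
          zsmul_eq_mul]
        push_cast; ring
      have e : (d χ₁ : ℤ) • conjFun χ - (d χ : ℤ) • χ₁ =
          (d χ₁ : ℤ) • (conjFun χ - (a : ℤ) • χ₁) := by
        rw [smul_sub, smul_smul, haZ]
      rw [e, lio_zsmul hτ hβ']
      have e2 : τ (conjFun χ - (a : ℤ) • χ₁) = X' - (a : ℤ) • τ₁ χ₁ := by rw [hX'def]; abel
      rw [e2, smul_sub, smul_smul, haZ]
    · rw [hY'S ξ hξ']
      have hγ : (d χ₁ : ℤ) • ξ - (d ξ : ℤ) • χ₁ ∈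
          zspanOn (↑S₁ : Set (L → ℂ)) ({1}ᶜ : Set L) := by
        rw [mem_zspanOn_compl_one]
        refine ⟨sub_mem_zspan (zsmul_mem_zspan (subset_zspan _ hξ') _)
          (zsmul_mem_zspan (subset_zspan _ hχ₁S) _), ?_⟩
        rw [Pi.sub_apply, Pi.smul_apply, Pi.smul_apply, hd ξ (hmemS ξ hξ'), hd χ₁ hχ₁',
          zsmul_eq_mul, zsmul_eq_mul]
        push_cast; ring
      rw [← hagree _ hγ, lio_sub hτ₁ hZ₁ (zsmul_mem_zspan (subset_zspan _ hξ') _)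
        (zsmul_mem_zspan (subset_zspan _ hχ₁S) _), lio_zsmul hτ₁ (subset_zspan _ hξ'),
        lio_zsmul hτ₁ (subset_zspan _ hχ₁S)]
  have hagree₂ := extendIso_eq_of_base T hneT horthT Y' hτT d (fun ξ hξ => hd ξ (hTS ξ hξ))
    (hS₁T χ₁ hχ₁S) hd₁0 hbase
  have hS₁Tsub : (↑S₁ : Set (L → ℂ)) ⊆ ↑T := fun ξ hξ => hS₁T ξ hξ
  exact ⟨⟨α₀, zspanOn_mono hS₁Tsub _ hα₀, hα₀ne⟩, extendIso T Y', hiso, hagree₂⟩

end Cfsg.Agent.S1516
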