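import Cfsg.Statements.S3377
import Cfsg.Agent.Lib.H17.A5PresData

set_option autoImplicit false
open Cfsg

namespace Cfsg.Agent.S3377

open Cfsg.Agent.Lib.H17.PresCert Cfsg.Agent.Lib.H17.A5Pres

/-- the relators -/
abbrev rels : Set (FreeGroup (Fin 2)) :=
  {FreeGroup.of (0 : Fin 2) ^ 3, FreeGroup.of (1 : Fin 2) ^ 5,
    (FreeGroup.of (0 : Fin 2) * FreeGroup.of 1) ^ 2}

theorem hrel : ∀ r ∈ relW, FreeGroup.mk r ∈ rels := by
  intro r hr
  simp only [relW, List.mem_cons, List.not_mem_nil, or_false] at hr
  rcases hr with rfl | rfl | rfl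
  · left; decide
  · right; left; decide
  · right; right; decide

theorem hsub : subgroupOfWords rels hgens =
    Subgroup.zpowers (PresentedGroup.of (1 : Fin 2) : PresentedGroup rels) := by
  rw [Subgroup.zpowers_eq_closure]
  unfold subgroupOfWords
  congr 1
  ext g
  simp only [hgens, List.mem_cons, List.not_mem_nil, or_false, exists_eq_left, Set.mem_setOf_eq,
    Set.mem_singleton_iff]
  rfl

theorem y_pow : (PresentedGroup.of (1 : Fin 2) : PresentedGroup rels) ^ 5 = 1 := by
  have h : (FreeGroup.of (1 : Fin 2)) ^ 5 ∈ rels := by right; left; rfl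
  have := PresentedGroup.one_of_mem h
  rw [map_pow] at this
  exact this

theorem finH : Finite (subgroupOfWords rels hgens) := by
  rw [hsub]
  have : IsOfFinOrder (PresentedGroup.of (1 : Fin 2) : PresentedGroup rels) :=
    isOfFinOrder_iff_pow_eq_one.mpr ⟨5, by norm_num, y_pow⟩
  exact this.finite_zpowers.to_subtype

theorem cardH : Nat.card (subgroupOfWords rels hgens) ≤ 5 := by
  rw [hsub, Nat.card_zpowers]
  exact orderOf_le_of_pow_eq_one (by norm_num) y_pow

/-- generators of `A₅` -/
def X : alternatingGroup (Fin 5) :=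
  ⟨Equiv.swap 1 4 * Equiv.swap 4 2, by rw [Equiv.Perm.mem_alternatingGroup]; decide⟩
def Y : alternatingGroup (Fin 5) :=
  ⟨finRotate 5, by rw [Equiv.Perm.mem_alternatingGroup]; decide⟩

set_option maxRecDepth 100000 in
theorem X3 : X ^ 3 = 1 := by decide
set_option maxRecDepth 100000 in
theorem Y5 : Y ^ 5 = 1 := by decide
set_option maxRecDepth 100000 in
theorem XY2 : (X * Y) ^ 2 = 1 := by decide
set_option maxRecDepth 100000 in
theorem X_ne : X ≠ 1 := by decide
set_option maxRecDepth 100000 in
theorem Y_ne : Y ≠ 1 := by decide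
set_option maxRecDepth 100000 in
theorem XY_ne : X * Y ≠ 1 := by decide

/-- The alternating group of degree 5 has the presentation ⟨x, y | x³ = 1, y⁵ = 1, (xy)² = 1⟩: the group so presented is isomorphic to Alt(5). -/
theorem result :
    Nonempty (PresentedGroup ({FreeGroup.of (0 : Fin 2) ^ 3, FreeGroup.of (1 : Fin 2) ^ 5,
        (FreeGroup.of (0 : Fin 2) * FreeGroup.of 1) ^ 2} : Set (FreeGroup (Fin 2))) ≃* alternatingGroup (Fin 5)) := by
  classical
  let f : Fin 2 → alternatingGroup (Fin 5) := ![X, Y]
  have hf : ∀ r ∈ rels, FreeGroup.lift f r = 1 := by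
    intro r hr
    rcases hr with rfl | rfl | rfl
    · simp only [map_pow, FreeGroup.lift_apply_of]
      exact X3
    · simp only [map_pow, FreeGroup.lift_apply_of]
      exact Y5
    · simp only [map_pow, map_mul, FreeGroup.lift_apply_of]
      exact XY2
  let φ : PresentedGroup rels →* alternatingGroup (Fin 5) := PresentedGroup.toGroup hf
  have hφ0 : φ (PresentedGroup.of 0) = X := PresentedGroup.toGroup.of hf
  have hφ1 : φ (PresentedGroup.of 1) = Y := PresentedGroup.toGroup.of hf
  have hfinH := finH
  obtain ⟨hfinG, hcardG⟩ := card_le rels relW hgens reps [0, 1] tab hrel (by decide) tab_ok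
  have hG60 : Nat.card (PresentedGroup rels) ≤ 60 := by
    have h12 : reps.length = 12 := rfl
    rw [h12] at hcardG
    have := cardH
    omega
  have hA5 : Nat.card (alternatingGroup (Fin 5)) = 60 := by
    rw [nat_card_alternatingGroup]
    simp [Nat.factorial]
  -- surjectivity
  have hX : X ∈ φ.range := ⟨PresentedGroup.of 0, hφ0⟩
  have hY : Y ∈ φ.range := ⟨PresentedGroup.of 1, hφ1⟩
  have hXY : X * Y ∈ φ.range := mul_mem hX hY
  have : Fact (Nat.Prime 3) := ⟨Nat.prime_three⟩
  have : Fact (Nat.Prime 5) := ⟨Nat.prime_five⟩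
  have : Fact (Nat.Prime 2) := ⟨Nat.prime_two⟩
  have o3 : orderOf X = 3 := orderOf_eq_prime X3 X_ne
  have o5 : orderOf Y = 5 := orderOf_eq_prime Y5 Y_ne
  have o2 : orderOf (X * Y) = 2 := orderOf_eq_prime XY2 XY_ne
  have d3 : 3 ∣ Nat.card φ.range := by
    have := Subgroup.orderOf_dvd_natCard _ hX
    rwa [o3] at this
  have d5 : 5 ∣ Nat.card φ.range := by
    have := Subgroup.orderOf_dvd_natCard _ hY
    rwa [o5] at this
  have d2 : 2 ∣ Nat.card φ.range := by
    have := Subgroup.orderOf_dvd_natCard _ hXY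
    rwa [o2] at this
  have d30 : 30 ∣ Nat.card φ.range := by
    have h6 : 6 ∣ Nat.card φ.range :=
      Nat.Coprime.mul_dvd_of_dvd_of_dvd (by norm_num : Nat.Coprime 2 3) d2 d3
    exact Nat.Coprime.mul_dvd_of_dvd_of_dvd (by norm_num : Nat.Coprime 6 5) h6 d5
  have hidx : φ.range.index * Nat.card φ.range = 60 := by
    rw [Subgroup.index_mul_card, hA5]
  have hrange : φ.range = ⊤ := by
    obtain ⟨k, hk⟩ := d30
    have hkpos : 0 < k := by
      rcases Nat.eq_zero_or_pos k with h | h
      · rw [h, mul_zero] at hk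
        rw [hk, mul_zero] at hidx
        omega
      · exact h
    have hi : φ.range.index = 1 ∨ φ.range.index = 2 := by
      rw [hk] at hidx
      have : φ.range.index * k = 2 := by nlinarith
      have h1 : φ.range.index ∣ 2 := ⟨k, this.symm⟩
      have h2 := Nat.le_of_dvd (by norm_num) h1
      have h3 : φ.range.index ≠ 0 := by
        intro h; rw [h] at this; omega
      omega
    rcases hi with hi | hi
    · exact Subgroup.index_eq_one.mp hi
    · have hn : φ.range.Normal := Subgroup.normal_of_index_eq_two hi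
      rcases hn.eq_bot_or_eq_top with h | h
      · exfalso
        rw [h] at hX
        exact X_ne (Subgroup.mem_bot.mp hX)
      · exact h
  have hsurj : Function.Surjective φ := MonoidHom.range_eq_top.mp hrange
  have hinj : Function.Injective φ := by
    have hfinG' : Finite (PresentedGroup rels) := hfinG
    have := Nat.card_le_card_of_surjective φ hsurj
    rw [hA5] at this
    have hcard : Nat.card (PresentedGroup rels) = Nat.card (alternatingGroup (Fin 5)) := by
      rw [hA5]; omega
    exact ((Nat.bijective_iff_surjective_and_card φ).mpr ⟨hsurj, hcard⟩).1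
  exact ⟨MulEquiv.ofBijective φ ⟨hinj, hsurj⟩⟩

end Cfsg.Agent.S3377
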