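import Cfsg.Statements.S3742
import Mathlib

set_option autoImplicit false
open Cfsg

namespace Cfsg.Agent.S3742

open QuaternionGroup

abbrev Q8 := QuaternionGroup 2

/-- evaluation of the would-be automorphism determined by the images `x, y` of `a 1, xa 0` -/
def ev (x y : Q8) : Q8 → Q8
  | a k => x ^ k.val
  | xa k => y * x ^ k.val

/-- the images satisfy the defining relations (and `x` has order 4) -/
def Valid (x y : Q8) : Prop :=
  x ^ 4 = 1 ∧ x ^ 2 ≠ 1 ∧ y ^ 2 = x ^ 2 ∧ y * x * y⁻¹ = x⁻¹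

instance decValid (x y : Q8) : Decidable (Valid x y) := by unfold Valid; infer_instance

def code : Q8 → ℕ
  | a k => k.val
  | xa k => 4 + k.val

def table : List (List (Fin 4)) :=
  [[0, 1, 2, 3],
   [0, 1, 2, 3],
   [0, 1, 2, 3],
   [0, 1, 2, 3],
   [0, 1, 2, 3],
   [0, 1, 2, 3],
   [0, 1, 2, 3],
   [0, 1, 2, 3],
   [0, 1, 2, 3],
   [0, 1, 2, 3],
   [0, 1, 2, 3],
   [0, 1, 2, 3],
   [0, 1, 2, 3],
   [2, 0, 3, 1],
   [3, 2, 1, 0],
   [1, 3, 0, 2],
   [0, 1, 2, 3],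
   [0, 1, 2, 3],
   [0, 1, 2, 3],
   [0, 1, 2, 3],
   [0, 1, 2, 3],
   [0, 1, 2, 3],
   [0, 1, 2, 3],
   [0, 1, 2, 3],
   [0, 1, 2, 3],
   [0, 1, 2, 3],
   [0, 1, 2, 3],
   [0, 1, 2, 3],
   [2, 3, 0, 1],
   [3, 1, 2, 0],
   [1, 0, 3, 2],
   [0, 2, 1, 3],
   [0, 1, 2, 3],
   [1, 0, 2, 3],
   [0, 1, 2, 3],
   [3, 2, 0, 1],
   [0, 1, 2, 3],
   [0, 3, 1, 2],
   [0, 1, 2, 3],
   [2, 1, 3, 0],
   [0, 1, 2, 3],
   [0, 2, 3, 1],
   [0, 1, 2, 3],
   [1, 3, 2, 0],
   [3, 0, 1, 2],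
   [0, 1, 2, 3],
   [2, 1, 0, 3],
   [0, 1, 2, 3],
   [0, 1, 2, 3],
   [2, 3, 1, 0],
   [0, 1, 2, 3],
   [0, 1, 3, 2],
   [0, 1, 2, 3],
   [1, 2, 0, 3],
   [0, 1, 2, 3],
   [3, 0, 2, 1],
   [0, 1, 2, 3],
   [3, 1, 0, 2],
   [0, 1, 2, 3],
   [2, 0, 1, 3],
   [1, 2, 3, 0],
   [0, 1, 2, 3],
   [0, 3, 2, 1],
   [0, 1, 2, 3]]

/-- action on the four "diagonals" -/
def T (x y : Q8) (d : Fin 4) : Fin 4 :=
  ((table.getD (8 * code x + code y) []).getD d.val 0)

set_option maxRecDepth 1000000 in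
theorem L1 : ∀ x y x' y' : Q8, Valid x y → Valid x' y' → ∀ d,
    T (ev x y x') (ev x y y') d = T x y (T x' y' d) := by decide

theorem L2 : ∀ d, T (a 1) (xa 0) d = d := by decide

set_option maxRecDepth 1000000 in
theorem L3 : ∀ x y : Q8, Valid x y → (∀ d, T x y d = d) → x = a 1 ∧ y = xa 0 := by decide

set_option maxRecDepth 1000000 in
theorem L4 : ∀ π : Equiv.Perm (Fin 4), ∃ x y : Q8, Valid x y ∧ ∀ d, T x y d = π d := by decide

set_option maxRecDepth 1000000 in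
theorem L5 : ∀ x y : Q8, Valid x y → ∀ g h, ev x y (g * h) = ev x y g * ev x y h := by decide

set_option maxRecDepth 1000000 in
theorem L6 : ∀ x y : Q8, Valid x y → ∀ g h, ev x y g = ev x y h → g = h := by decide

set_option maxRecDepth 1000000 in
theorem L7 : ∀ x y : Q8, ev x y (a 1) = x ∧ ev x y (xa 0) = y := by decide

theorem L8 : Valid (a 1 : Q8) (xa 0) := by decide

theorem L9 : ∀ g : Q8, ev (a 1) (xa 0) g = g := by decide


theorem apply_eq_ev (φ : MulAut Q8) (g : Q8) : φ g = ev (φ (a 1)) (φ (xa 0)) g := by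
  have : NeZero (2 * 2) := ⟨by norm_num⟩
  cases g with
  | a k =>
    show φ (a k) = (φ (a 1)) ^ k.val
    rw [← map_pow, a_one_pow, ZMod.natCast_zmod_val]
  | xa k =>
    show φ (xa k) = φ (xa 0) * (φ (a 1)) ^ k.val
    rw [← map_pow, ← map_mul, a_one_pow, ZMod.natCast_zmod_val, xa_mul_a, zero_add]

theorem valid_of_aut (φ : MulAut Q8) : Valid (φ (a 1)) (φ (xa 0)) := by
  obtain ⟨h1, h2, h3, h4⟩ := L8
  refine ⟨?_, ?_, ?_, ?_⟩
  · rw [← map_pow, h1, map_one]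
  · rw [← map_pow]
    intro h
    apply h2
    apply φ.injective
    rw [h, map_one]
  · rw [← map_pow, ← map_pow, h3]
  · rw [← map_inv, ← map_inv, ← map_mul, ← map_mul, h4]

/-- the automorphism with prescribed images of the generators -/
noncomputable def mkAut (x y : Q8) (h : Valid x y) : MulAut Q8 :=
  MulEquiv.ofBijective
    ({ toFun := ev x y
       map_one' := by
        have := L5 x y h 1 1
        rw [mul_one] at this
        exact (mul_eq_left.mp this.symm)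
       map_mul' := L5 x y h } : Q8 →* Q8)
    ((Finite.injective_iff_bijective).mp (fun g g' hgg => L6 x y h g g' hgg))

theorem mkAut_apply (x y : Q8) (h : Valid x y) (g : Q8) : mkAut x y h g = ev x y g := rfl

/-- the action of `Aut(Q8)` on `Fin 4` -/
def act : MulAction (MulAut Q8) (Fin 4) where
  smul φ d := T (φ (a 1)) (φ (xa 0)) d
  one_smul := L2
  mul_smul := by
    intro φ ψ d
    show T ((φ * ψ) (a 1)) ((φ * ψ) (xa 0)) d = T (φ (a 1)) (φ (xa 0)) (T (ψ (a 1)) (ψ (xa 0)) d)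
    rw [MulAut.mul_apply, MulAut.mul_apply, apply_eq_ev φ (ψ (a 1)), apply_eq_ev φ (ψ (xa 0))]
    exact L1 _ _ _ _ (valid_of_aut φ) (valid_of_aut ψ) d

noncomputable def hom : MulAut Q8 →* Equiv.Perm (Fin 4) :=
  @MulAction.toPermHom (MulAut Q8) (Fin 4) _ act

theorem hom_apply (φ : MulAut Q8) (d : Fin 4) : hom φ d = T (φ (a 1)) (φ (xa 0)) d := rfl

theorem hom_injective : Function.Injective hom := by
  rw [injective_iff_map_eq_one]
  intro φ hφ
  have h1 : ∀ d, T (φ (a 1)) (φ (xa 0)) d = d := by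
    intro d
    rw [← hom_apply, hφ]; rfl
  obtain ⟨e1, e2⟩ := L3 _ _ (valid_of_aut φ) h1
  ext g
  rw [apply_eq_ev φ g, e1, e2, L9]; rfl

theorem hom_surjective : Function.Surjective hom := by
  intro π
  obtain ⟨x, y, hv, hT⟩ := L4 π
  refine ⟨mkAut x y hv, ?_⟩
  ext d
  rw [hom_apply, mkAut_apply, mkAut_apply, (L7 x y).1, (L7 x y).2, hT]

/-- The automorphism group of the quaternion group of order 8 is isomorphic to the symmetric group of degree 4. -/
theorem result : Nonempty (MulAut (QuaternionGroup 2) ≃* Equiv.Perm (Fin 4)) :=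
  ⟨MulEquiv.ofBijective hom ⟨hom_injective, hom_surjective⟩⟩

end Cfsg.Agent.S3742
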