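import Cfsg.Statements.S2434
import Cfsg.Agent.Lib.H12.SL2CuspParam

set_option autoImplicit false
open Cfsg Cfsg.Agent.Lib.H12 Cfsg.Agent.Lib.L0 Cfsg.Agent.Lib.H24

namespace Cfsg.Agent.S2434

/-- Let F be a finite field with q elements, q odd, and C a cyclic subgroup of order q + 1 of SL₂ over F (a non-split torus; it contains the centre). For every homomorphism θ from C to the non-zero complex numbers with θ² ≠ 1 there is an irreducible complex character χ of degree q − 1 such that χ(c) = −θ(c) − θ(c)⁻¹ for every non-central c in C, χ(zg) = θ(z)χ(g) for central z in C, χ vanishes at diagonal elements with entry a, a² ≠ 1, and χ takes the value −1 at every upper unitriangular element other than 1. Conversely every irreducible character of degree q − 1 has, for some such θ, the values −θ(c) − θ(c)⁻¹ at the non-central elements c of C (for q ≥ 5 these are exactly the cuspidal characters of degree q − 1). -/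
theorem result {F : Type*} [Field F] [Fintype F] (hodd : Odd (Fintype.card F))
    (C : Subgroup (Matrix.SpecialLinearGroup (Fin 2) F)) (hC : IsCyclic C) (hcard : Nat.card C = Fintype.card F + 1) :
    (∀ θ : C →* ℂˣ, (∃ c : C, θ c ^ 2 ≠ 1) →
      ∃ χ : Matrix.SpecialLinearGroup (Fin 2) F → ℂ, Cfsg.IsIrrCharacter (Matrix.SpecialLinearGroup (Fin 2) F) χ ∧ χ 1 = (Fintype.card F : ℂ) - 1 ∧
        (∀ c : C, (c : Matrix.SpecialLinearGroup (Fin 2) F) ∉ Subgroup.center (Matrix.SpecialLinearGroup (Fin 2) F) → χ c = -((θ c).val + (θ c)⁻¹.val)) ∧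
        (∀ c : C, (c : Matrix.SpecialLinearGroup (Fin 2) F) ∈ Subgroup.center (Matrix.SpecialLinearGroup (Fin 2) F) → ∀ g : Matrix.SpecialLinearGroup (Fin 2) F, χ ((c : Matrix.SpecialLinearGroup (Fin 2) F) * g) = (θ c).val * χ g) ∧
        (∀ g : Matrix.SpecialLinearGroup (Fin 2) F, (g : Matrix (Fin 2) (Fin 2) F) 0 1 = 0 → (g : Matrix (Fin 2) (Fin 2) F) 1 0 = 0 → (g : Matrix (Fin 2) (Fin 2) F) 0 0 ^ 2 ≠ 1 → χ g = 0) ∧
        (∀ g : Matrix.SpecialLinearGroup (Fin 2) F, (g : Matrix (Fin 2) (Fin 2) F) 1 0 = 0 → (g : Matrix (Fin 2) (Fin 2) F) 0 0 = 1 → (g : Matrix (Fin 2) (Fin 2) F) 1 1 = 1 → (g : Matrix (Fin 2) (Fin 2) F) 0 1 ≠ 0 → χ g = -1)) ∧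
    (∀ χ : Matrix.SpecialLinearGroup (Fin 2) F → ℂ, Cfsg.IsIrrCharacter (Matrix.SpecialLinearGroup (Fin 2) F) χ → χ 1 = (Fintype.card F : ℂ) - 1 →
      ∃ θ : C →* ℂˣ, (∃ c : C, θ c ^ 2 ≠ 1) ∧
        ∀ c : C, (c : Matrix.SpecialLinearGroup (Fin 2) F) ∉ Subgroup.center (Matrix.SpecialLinearGroup (Fin 2) F) → χ c = -((θ c).val + (θ c)⁻¹.val)) := by
  classical
  have hCt := isNonsplitTorus_of_cyclic hodd C hC hcard
  have h2F : (2 : F) ≠ 0 := two_ne_zero_of_odd hodd
  constructor
  · intro θ hθ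
    obtain ⟨π, hπ, hirr, hpar⟩ := exists_cusp_of_hom hCt hC hodd θ hθ
    refine ⟨resSL π, hirr, ?_, hpar.1, ?_, ?_, ?_⟩
    · rw [resSL_one, hπ.2.2.1]
    · intro c hc g
      rcases (hCt.mem_center_iff c).mp hc with rfl | rfl
      · rw [map_one, Units.val_one, one_mul]
        congr 1
        exact one_mul g
      · have hz : ((hCt.z : C) : Matrix.SpecialLinearGroup (Fin 2) F) = negOneSL := rfl
        rw [hz, ← (Subgroup.mem_center_iff.mp negOneSL_mem_center g)]
        exact hpar.2 g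
    · intro g h01 h10 hsq
      exact cusp_apply_split hπ g h01 h10 hsq
    · intro g h10 h00 h11 h01
      have hg : g = upSL ((g : Matrix (Fin 2) (Fin 2) F) 0 1) := by
        apply eq_upSL_of_val
        ext i j
        fin_cases i <;> fin_cases j <;> simp [h10, h00, h11]
      rw [hg]
      exact cusp_apply_upSL hπ h01
  · intro χ hχ h1
    exact irr_deg_torus_values hCt hC hodd hχ h1

end Cfsg.Agent.S2434
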