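import Mathlib
import Cfsg.Statements.S4602
import Cfsg.Agent.Lib.H10.PSolvable
import Cfsg.Agent.Lib.H10.PSolvable2
import Cfsg.Agent.Lib.H9.PPrimeCore
import Cfsg.Agent.Lib.H22.PPrimeCore
import Cfsg.Agent.Lib.H1.PCore
import Cfsg.Agent.Lib.H1.IndexBasic

set_option autoImplicit false
open Cfsg

namespace Cfsg.Agent.S4602

open Cfsg.Agent.Lib.H1 Cfsg.Agent.Lib.H10 Cfsg.Agent.Lib.H22

/-- In a `p`-solvable group, a Sylow `q`-subgroup (`q ≠ p`) normalized by a Sylow `p`-subgroup lies
in `O_{p'}(G)`. -/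
theorem sylow_le_pPrimeCore {G : Type*} [Group G] [Finite G] (p q : ℕ) [Fact p.Prime]
    [Fact q.Prime] (hpq : p ≠ q) (hsolv : Cfsg.IsPSolvable p G) (P : Sylow p G) (Q : Sylow q G)
    (hPQ : (P : Subgroup G) ≤ Subgroup.normalizer ((Q : Subgroup G) : Set G)) :
    (Q : Subgroup G) ≤ Cfsg.pPrimeCore p G := by
  set K := Cfsg.pPrimeCore p G with hK
  have : K.Normal := pPrimeCore_normal p G
  have hsol' : Cfsg.IsPSolvable p (G ⧸ K) := isPSolvable_quotient hsolv K
  have hO : Cfsg.pPrimeCore p (G ⧸ K) = ⊥ := Cfsg.Agent.Lib.H9.pPrimeCore_quotient_eq_bot p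
  have hHH := centralizer_pCore_le_of_isPSolvable p hsol' hO
  let Pbar : Sylow p (G ⧸ K) := P.mapSurjective (QuotientGroup.mk'_surjective K)
  have hOp_le : Cfsg.pCore p (G ⧸ K) ≤ (P : Subgroup G).map (QuotientGroup.mk' K) :=
    pCore_le_sylow Pbar
  have hn : (Cfsg.pCore p (G ⧸ K)).Normal := pCore_normal p _
  have hp1 : IsPGroup p (Cfsg.pCore p (G ⧸ K)) := pCore_isPGroup p _
  have hq1 : IsPGroup q ((Q : Subgroup G).map (QuotientGroup.mk' K)) := Q.2.map _
  have hdisj := IsPGroup.disjoint_of_ne p q hpq _ _ hp1 hq1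
  intro y hy
  have hcent : (QuotientGroup.mk' K) y ∈
      Subgroup.centralizer (Cfsg.pCore p (G ⧸ K) : Set (G ⧸ K)) := by
    rw [Subgroup.mem_centralizer_iff]
    intro x hx
    obtain ⟨g, hg, rfl⟩ := hOp_le hx
    have hc1 : g * y * g⁻¹ * y⁻¹ ∈ (Q : Subgroup G) := by
      have := hPQ hg
      rw [Subgroup.mem_normalizer_iff] at this
      exact mul_mem ((this y).mp hy) (inv_mem hy)
    have hc2 : (QuotientGroup.mk' K) (g * y * g⁻¹ * y⁻¹) ∈ Cfsg.pCore p (G ⧸ K) := by
      have h1 := hn.conj_mem _ (inv_mem hx) ((QuotientGroup.mk' K) y)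
      have := mul_mem hx h1
      simpa [map_mul, mul_assoc] using this
    have hc3 : (QuotientGroup.mk' K) (g * y * g⁻¹ * y⁻¹) = 1 :=
      (Subgroup.disjoint_def.mp hdisj) hc2 (Subgroup.mem_map_of_mem _ hc1)
    rw [map_mul, map_mul, map_mul, map_inv, map_inv] at hc3
    -- g y g⁻¹ y⁻¹ = 1  ⇒  g y = y g
    have : (QuotientGroup.mk' K) g * (QuotientGroup.mk' K) y =
        (QuotientGroup.mk' K) y * (QuotientGroup.mk' K) g := by
      have h := congrArg (fun z => z * ((QuotientGroup.mk' K) y * (QuotientGroup.mk' K) g)) hc3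
      simpa [mul_assoc] using h
    exact this
  have h1 : (QuotientGroup.mk' K) y ∈ Cfsg.pCore p (G ⧸ K) := hHH hcent
  have h2 : (QuotientGroup.mk' K) y = 1 :=
    (Subgroup.disjoint_def.mp hdisj) h1 (Subgroup.mem_map_of_mem _ hy)
  exact (QuotientGroup.eq_one_iff y).mp h2

/-- Let G be a finite p-solvable group and q a prime different from p. Some Sylow p-subgroup of G normalizes some Sylow q-subgroup of G if and only if q does not divide the order of G/O_{p'}(G), the quotient by the largest normal subgroup of order prime to p. -/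
theorem result {G : Type*} [Group G] [Finite G] (p q : ℕ) [Fact p.Prime] [Fact q.Prime] (hpq : p ≠ q) (hsolv : Cfsg.IsPSolvable p G) :
    (∃ (P : Sylow p G) (Q : Sylow q G), (P : Subgroup G) ≤ Subgroup.normalizer ((Q : Subgroup G) : Set G)) ↔ ¬ q ∣ (Cfsg.pPrimeCore p G).index := by
  set K := Cfsg.pPrimeCore p G with hK
  have : K.Normal := pPrimeCore_normal p G
  constructor
  · rintro ⟨P, Q, hPQ⟩
    have hle := sylow_le_pPrimeCore p q hpq hsolv P Q hPQ
    intro hdvd
    exact Q.not_dvd_index (hdvd.trans (Subgroup.index_dvd_of_le hle))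
  · intro hq
    -- a Sylow q-subgroup of K is a Sylow q-subgroup of G
    obtain ⟨Q1⟩ : Nonempty (Sylow q K) := inferInstance
    have hQ1p : IsPGroup q ((Q1 : Subgroup K).map K.subtype) := Q1.2.map _
    have hQ1i : ¬ q ∣ ((Q1 : Subgroup K).map K.subtype).index := by
      have h1 : ((Q1 : Subgroup K).map K.subtype).index = (Q1 : Subgroup K).index * K.index := by
        rw [Subgroup.index_map_subtype]
      rw [h1]
      intro hd
      rcases (Nat.Prime.dvd_mul (Fact.out : q.Prime)).mp hd with h | h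
      · exact Q1.not_dvd_index h
      · exact hq h
    let Q : Sylow q G := hQ1p.toSylow hQ1i
    have hQcoe : (Q : Subgroup G) = (Q1 : Subgroup K).map K.subtype := rfl
    -- Frattini argument
    have hfr : Subgroup.normalizer (((Q1 : Subgroup K).map K.subtype : Subgroup G) : Set G) ⊔ K = ⊤ :=
      Sylow.normalizer_sup_eq_top Q1
    set N := Subgroup.normalizer (((Q1 : Subgroup K).map K.subtype : Subgroup G) : Set G) with hN
    -- index of N divides |K|
    have hidx : N.index ∣ Nat.card K := by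
      have h1 := Cfsg.Agent.Lib.H1.card_sup_mul_card_inf N K
      rw [hfr, Subgroup.card_top] at h1
      have h2 : N.index * Nat.card N = Nat.card G := N.index_mul_card
      have hNpos : 0 < Nat.card N := Nat.card_pos
      refine ⟨Nat.card (K ⊓ N : Subgroup G), ?_⟩
      have h3 : Nat.card N * (N.index * Nat.card (K ⊓ N : Subgroup G)) = Nat.card N * Nat.card K := by
        rw [← h1, ← h2]; ring
      exact (Nat.eq_of_mul_eq_mul_left hNpos h3).symm
    have hcop : (Nat.card K).Coprime p := card_pPrimeCore_coprime p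
    have hpN : ¬ p ∣ N.index := by
      intro hd
      have := hd.trans hidx
      have h2 : p ∣ Nat.gcd (Nat.card K) p := Nat.dvd_gcd this dvd_rfl
      rw [hcop] at h2
      exact (Fact.out : p.Prime).one_lt.ne' (Nat.dvd_one.mp h2)
    obtain ⟨P0⟩ : Nonempty (Sylow p N) := inferInstance
    have hP0p : IsPGroup p ((P0 : Subgroup N).map N.subtype) := P0.2.map _
    have hP0i : ¬ p ∣ ((P0 : Subgroup N).map N.subtype).index := by
      rw [Subgroup.index_map_subtype]
      intro hd
      rcases (Nat.Prime.dvd_mul (Fact.out : p.Prime)).mp hd with h | h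
      · exact P0.not_dvd_index h
      · exact hpN h
    refine ⟨hP0p.toSylow hP0i, Q, ?_⟩
    rw [hQcoe]
    show (P0 : Subgroup N).map N.subtype ≤ N
    exact Subgroup.map_subtype_le _

end Cfsg.Agent.S4602
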