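import Mathlib
import Cfsg.Statements.S4601
import Cfsg.Agent.S4602
import Cfsg.Agent.Lib.H1.CoprimeSylow
import Cfsg.Agent.Lib.H1.CoprimeAction
import Cfsg.Agent.Lib.H1.IndexBasic

set_option autoImplicit false
open Cfsg
open Pointwise

namespace Cfsg.Agent.S4601

open Cfsg.Agent.Lib.H1 Cfsg.Agent.Lib.H10 Cfsg.Agent.Lib.H22

universe u

section aux
variable {G : Type*} [Group G] [Finite G]

/-- A subgroup of index prime to `p` contains a Sylow `p`-subgroup of `G`. -/
theorem exists_sylow_le_of_not_dvd_index (p : ℕ) [Fact p.Prime] (H : Subgroup G)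
    (h : ¬ p ∣ H.index) : ∃ P : Sylow p G, (P : Subgroup G) ≤ H := by
  obtain ⟨P0⟩ : Nonempty (Sylow p H) := inferInstance
  have hP0p : IsPGroup p ((P0 : Subgroup H).map H.subtype) := P0.2.map _
  have hP0i : ¬ p ∣ ((P0 : Subgroup H).map H.subtype).index := by
    rw [Subgroup.index_map_subtype]
    intro hd
    rcases (Nat.Prime.dvd_mul (Fact.out : p.Prime)).mp hd with h' | h'
    · exact P0.not_dvd_index h'
    · exact h h'
  exact ⟨hP0p.toSylow hP0i, Subgroup.map_subtype_le _⟩

/-- Lifting elements of `q`-power order along a surjection. -/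
theorem exists_qpow_lift {H : Type*} [Group H] (f : G →* H) (hf : Function.Surjective f)
    (q : ℕ) [Fact q.Prime] (y' : H) (hy : ∃ k : ℕ, orderOf y' = q ^ k) :
    ∃ y : G, (∃ j : ℕ, orderOf y = q ^ j) ∧ f y = y' := by
  obtain ⟨k, hk⟩ := hy
  have hq : q.Prime := Fact.out
  obtain ⟨g, rfl⟩ := hf y'
  rcases Nat.eq_zero_or_pos k with hk0 | hkpos
  · refine ⟨1, ⟨0, by simp⟩, ?_⟩
    rw [hk0, pow_zero, orderOf_eq_one_iff] at hk
    rw [hk, map_one]
  have hn0 : orderOf g ≠ 0 := (orderOf_pos g).ne'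
  obtain ⟨a, m, hm, hnm⟩ := Nat.exists_eq_pow_mul_and_not_dvd hn0 q hq.ne_one
  have hcop : Nat.Coprime m (q ^ k) :=
    Nat.Coprime.pow_right k ((Nat.Prime.coprime_iff_not_dvd hq).mpr hm).symm
  have h1lt : 1 < q ^ k := Nat.one_lt_pow hkpos.ne' hq.one_lt
  obtain ⟨m', -, hm'⟩ := Nat.exists_mul_mod_eq_one_of_coprime hcop h1lt
  refine ⟨g ^ (m * m'), ?_, ?_⟩
  · have hpow : (g ^ (m * m')) ^ (q ^ a) = 1 := by
      rw [← pow_mul]
      have : m * m' * q ^ a = orderOf g * m' := by rw [hnm]; ring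
      rw [this, pow_mul, pow_orderOf_eq_one, one_pow]
    have hdvd := orderOf_dvd_of_pow_eq_one hpow
    obtain ⟨j, _, hj⟩ := (Nat.dvd_prime_pow hq).mp hdvd
    exact ⟨j, hj⟩
  · rw [map_pow, ← pow_mod_orderOf, hk, hm', pow_one]

/-- The class-size hypothesis. -/
def Hyp (p q : ℕ) (G : Type*) [Group G] : Prop :=
  ∀ y : G, (∃ k : ℕ, orderOf y = q ^ k) → ¬ p ∣ (Subgroup.centralizer ({y} : Set G)).index

/-- The hypothesis passes to quotients. -/
theorem Hyp.quotient {p q : ℕ} [Fact q.Prime] (h : Hyp p q G) (M : Subgroup G) [M.Normal] :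
    Hyp p q (G ⧸ M) := by
  intro y' hy' hdvd
  obtain ⟨y, hy, rfl⟩ := exists_qpow_lift (QuotientGroup.mk' M) (QuotientGroup.mk'_surjective M) q y' hy'
  apply h y hy
  refine hdvd.trans ?_
  -- index of C(π y) divides index of π(C(y)) divides index of C(y)
  have hle : (Subgroup.centralizer ({y} : Set G)).map (QuotientGroup.mk' M) ≤
      Subgroup.centralizer ({(QuotientGroup.mk' M) y} : Set (G ⧸ M)) := by
    rintro _ ⟨c, hc, rfl⟩
    rw [SetLike.mem_coe, Subgroup.mem_centralizer_singleton_iff] at hc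
    rw [Subgroup.mem_centralizer_singleton_iff]
    rw [← map_mul, ← map_mul, hc]
  exact (Subgroup.index_dvd_of_le hle).trans
    (Subgroup.index_map_dvd _ (QuotientGroup.mk'_surjective M))

end aux

theorem psolv_case {G : Type*} [Group G] [Finite G] (p q : ℕ) [Fact p.Prime] [Fact q.Prime]
    (hpq : p ≠ q) (hsolv : Cfsg.IsPSolvable p G) (h : Hyp p q G) :
    ∃ (P : Sylow p G) (Q : Sylow q G),
      (P : Subgroup G) ≤ Subgroup.normalizer ((Q : Subgroup G) : Set G) := by
  rw [Cfsg.Agent.S4602.result p q hpq hsolv]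
  set K := Cfsg.pPrimeCore p G with hK
  have : K.Normal := pPrimeCore_normal p G
  have hsol' : Cfsg.IsPSolvable p (G ⧸ K) := isPSolvable_quotient hsolv K
  have hO : Cfsg.pPrimeCore p (G ⧸ K) = ⊥ := Cfsg.Agent.Lib.H9.pPrimeCore_quotient_eq_bot p
  have hHH := centralizer_pCore_le_of_isPSolvable p hsol' hO
  have hyp' : Hyp p q (G ⧸ K) := h.quotient K
  intro hdvd
  rw [Subgroup.index_eq_card] at hdvd
  obtain ⟨y', hy'⟩ := exists_prime_orderOf_dvd_card' q hdvd
  have hnd := hyp' y' ⟨1, by rw [hy', pow_one]⟩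
  obtain ⟨P', hP'⟩ := exists_sylow_le_of_not_dvd_index p _ hnd
  have h1 : y' ∈ Subgroup.centralizer (Cfsg.pCore p (G ⧸ K) : Set (G ⧸ K)) := by
    rw [Subgroup.mem_centralizer_iff]
    intro x hx
    have hx' : x ∈ Subgroup.centralizer ({y'} : Set (G ⧸ K)) := hP' (pCore_le_sylow P' hx)
    rw [Subgroup.mem_centralizer_singleton_iff] at hx'
    exact hx'
  have h2 := hHH h1
  have hpg := pCore_isPGroup p (G ⧸ K)
  obtain ⟨j, hj⟩ := hpg ⟨y', h2⟩
  have hpow : y' ^ p ^ j = 1 := by simpa using congrArg Subtype.val hj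
  have hd : q ∣ p ^ j := by rw [← hy']; exact orderOf_dvd_of_pow_eq_one hpow
  have hq : q.Prime := Fact.out
  have hp : p.Prime := Fact.out
  have := (Nat.prime_dvd_prime_iff_eq hq hp).mp (hq.dvd_of_dvd_pow hd)
  exact hpq this.symm

theorem fact_mul (p a b : ℕ) (ha : a ≠ 0) (hb : b ≠ 0) :
    (a * b).factorization p = a.factorization p + b.factorization p := by
  rw [Nat.factorization_mul ha hb]; rfl

/-- the coprime step: `M` a normal `q'`-subgroup, `P` normalizes `Q ⊔ M`. -/
theorem coprime_step {G : Type*} [Group G] [Finite G] (p q : ℕ) [Fact p.Prime] [Fact q.Prime]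
    (hyp : Hyp p q G) (M : Subgroup G) [hMn : M.Normal] (hMq : (Nat.card M).Coprime q)
    (P : Sylow p G) (Q : Sylow q G)
    (hkey : ∀ g ∈ (P : Subgroup G), ∀ y ∈ (Q : Subgroup G), g * y * g⁻¹ ∈ (Q : Subgroup G) ⊔ M) :
    ∃ (P1 : Sylow p G),
      (P1 : Subgroup G) ≤ Subgroup.normalizer ((Q : Subgroup G) : Set G) := by
  have hp : p.Prime := Fact.out
  have hq : q.Prime := Fact.out
  have hQsolv : Group.IsSolvable (Q : Subgroup G) := by
    haveI : Group.IsNilpotent (Q : Subgroup G) := Q.2.isNilpotent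
    infer_instance
  obtain ⟨kq, hkq⟩ := (IsPGroup.iff_card).mp Q.2
  have hMnorm : ∀ A : Subgroup G, A ≤ Subgroup.normalizer (M : Set G) := by
    intro A
    rw [Subgroup.normalizer_eq_top_iff.mpr hMn]; exact le_top
  have hco : CoprimeAction (Q : Subgroup G) M :=
    ⟨hMnorm _, by rw [hkq]; exact Nat.Coprime.pow_left kq hMq.symm, Or.inl hQsolv⟩
  obtain ⟨PN, hPN, hQPN⟩ := coprime_exists_invariant_sylow hco p
  -- Q centralizes PN
  have hcent : ∀ y ∈ (Q : Subgroup G), ∀ x ∈ PN, x * y = y * x := by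
    intro y hy
    set A := Subgroup.zpowers y with hA
    have hAQ : A ≤ (Q : Subgroup G) := Subgroup.zpowers_le.mpr hy
    have hcoA : CoprimeAction A M :=
      ⟨hMnorm _, Nat.Coprime.coprime_dvd_left (Subgroup.card_dvd_of_le hAQ) hco.coprime,
        Or.inl (Group.isSolvable_of_isSolvable_injective (Subgroup.inclusion_injective hAQ))⟩
    set C := Subgroup.centralizer ({y} : Set G) with hC
    have hyq : ∃ k : ℕ, orderOf y = q ^ k := by
      obtain ⟨k, hk⟩ := Q.2 ⟨y, hy⟩
      have hpow : y ^ q ^ k = 1 := by simpa using congrArg Subtype.val hk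
      obtain ⟨j, _, hj⟩ := (Nat.dvd_prime_pow hq).mp (orderOf_dvd_of_pow_eq_one hpow)
      exact ⟨j, hj⟩
    have hnd : ¬ p ∣ C.index := hyp y hyq
    have hCA : C ≤ Subgroup.centralizer (A : Set G) := by
      rw [Subgroup.le_centralizer_iff]
      rw [hA, Subgroup.zpowers_le]
      rw [Subgroup.mem_centralizer_iff]
      intro c hc
      rw [hC, SetLike.mem_coe, Subgroup.mem_centralizer_singleton_iff] at hc
      exact hc
    obtain ⟨S, hS⟩ := exists_isSylowOf p (M ⊓ C)
    have hSM : IsSylowOf p M S := by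
      refine ⟨hS.1.trans inf_le_left, ?_⟩
      rw [hS.2]
      congr 1
      have h1 : Nat.card (M ⊓ C : Subgroup G) * (M ⊓ C).relIndex M = Nat.card M :=
        card_mul_relIndex_of_le inf_le_left
      have h2 : (M ⊓ C).relIndex M = C.relIndex M := Subgroup.inf_relIndex_left M C
      have h3 : C.relIndex M ∣ C.index := relIndex_dvd_index_of_normal_right C M
      have h4 : ¬ p ∣ (M ⊓ C).relIndex M := by
        rw [h2]; exact fun hd => hnd (hd.trans h3)
      have h5 : (M ⊓ C).relIndex M ≠ 0 := by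
        intro h0; rw [h0, mul_zero] at h1
        exact (Nat.card_pos (α := M)).ne' h1.symm
      rw [← h1, fact_mul p _ _ Nat.card_pos.ne' h5,
        Nat.factorization_eq_zero_of_not_dvd h4, add_zero]
    have hSC : S ≤ C := hS.1.trans inf_le_right
    have hAS : A ≤ Subgroup.normalizer (S : Set G) := by
      refine le_trans ?_ (Subgroup.centralizer_le_normalizer _)
      rw [hA, Subgroup.zpowers_le, Subgroup.mem_centralizer_iff]
      intro s hs
      have := hSC hs
      rw [hC, Subgroup.mem_centralizer_singleton_iff] at this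
      exact this
    have hAPN : A ≤ Subgroup.normalizer (PN : Set G) := hAQ.trans hQPN
    obtain ⟨c, hc, hcS⟩ := coprime_invariant_sylow_conj hcoA hSM hPN hAS hAPN
    intro x hx
    rw [← hcS, mem_conj_smul_iff] at hx
    have h1 := hSC hx
    rw [hC, Subgroup.mem_centralizer_singleton_iff] at h1
    have h2 : c * y = y * c := by
      have := (Subgroup.mem_inf.mp hc).2
      rw [Subgroup.mem_centralizer_iff] at this
      exact (this y (Subgroup.mem_zpowers y)).symm
    -- x = c (c⁻¹ x c) c⁻¹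
    have h3 : c⁻¹ * y = y * c⁻¹ := by
      have := congrArg (fun z => c⁻¹ * z * c⁻¹) h2
      simpa [mul_assoc] using this.symm
    calc x * y = c * (c⁻¹ * x * c) * c⁻¹ * y := by group
      _ = c * (c⁻¹ * x * c) * (c⁻¹ * y) := by group
      _ = c * (c⁻¹ * x * c) * (y * c⁻¹) := by rw [h3]
      _ = c * ((c⁻¹ * x * c) * y) * c⁻¹ := by group
      _ = c * (y * (c⁻¹ * x * c)) * c⁻¹ := by rw [h1]
      _ = (c * y) * (c⁻¹ * x * c) * c⁻¹ := by group
      _ = (y * c) * (c⁻¹ * x * c) * c⁻¹ := by rw [h2]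
      _ = y * x := by group
  set N := Subgroup.normalizer ((Q : Subgroup G) : Set G) with hN
  set T := N ⊔ M with hT
  have hPNN : PN ≤ M ⊓ N := by
    refine le_inf hPN.1 ?_
    refine le_trans ?_ (Subgroup.centralizer_le_normalizer _)
    intro x hx
    rw [Subgroup.mem_centralizer_iff]
    intro y hy
    exact (hcent y hy x hx).symm
  -- P ≤ T
  have hPT : (P : Subgroup G) ≤ T := by
    intro g hg
    set H := (Q : Subgroup G) ⊔ M with hH
    have hQH : (Q : Subgroup G) ≤ H := le_sup_left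
    have hfac : (Nat.card H).factorization q = (Nat.card G).factorization q := by
      apply le_antisymm
      · exact (Nat.factorization_le_iff_dvd Nat.card_pos.ne' Nat.card_pos.ne').mpr
          (Subgroup.card_subgroup_dvd_card H) q
      · have h1 : Nat.card (Q : Subgroup G) ∣ Nat.card H := Subgroup.card_dvd_of_le hQH
        rw [Q.card_eq_multiplicity] at h1
        exact (Nat.Prime.pow_dvd_iff_le_factorization hq Nat.card_pos.ne').mp h1
    have hQS : IsSylowOf q H (Q : Subgroup G) := ⟨hQH, by rw [hfac]; exact Q.card_eq_multiplicity⟩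
    have hQgS : IsSylowOf q H (MulAut.conj g • (Q : Subgroup G)) := by
      refine ⟨?_, ?_⟩
      · rw [conj_smul_le_iff]; exact hkey g hg
      · rw [card_conj_smul, hfac]; exact Q.card_eq_multiplicity
    obtain ⟨k, hk, hkQ⟩ := hQS.exists_conj hQgS
    have hk' : k ∈ ((M ⊔ (Q : Subgroup G) : Subgroup G) : Set G) := by
      rw [sup_comm]; exact hk
    rw [Subgroup.normal_mul] at hk'
    obtain ⟨m, hm, y, hy, hmy⟩ := hk'
    have hmy' : m * y = k := hmy
    have hyQ : MulAut.conj y • (Q : Subgroup G) = Q := by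
      rw [conj_smul_eq_self_iff_mem_normalizer]
      exact Subgroup.le_normalizer hy
    have hmQ : MulAut.conj m • (Q : Subgroup G) = MulAut.conj g • (Q : Subgroup G) := by
      rw [← hkQ, ← hmy', map_mul, mul_smul, hyQ]
    have hmg : m⁻¹ * g ∈ N := by
      rw [hN, ← conj_smul_eq_self_iff_mem_normalizer, map_mul, mul_smul, ← hmQ, ← mul_smul,
        ← map_mul, inv_mul_cancel, map_one, one_smul]
    have : g = m * (m⁻¹ * g) := by group
    rw [this]
    exact mul_mem (Subgroup.mem_sup_right hm) (Subgroup.mem_sup_left hmg)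
  -- arithmetic
  have hpN : ¬ p ∣ N.index := by
    intro hd
    have e1 : N.index * Nat.card N = Nat.card G := N.index_mul_card
    have e2 : T.index * Nat.card T = Nat.card G := T.index_mul_card
    have e3 : Nat.card T * Nat.card (M ⊓ N : Subgroup G) = Nat.card N * Nat.card M :=
      card_sup_mul_card_inf N M
    have e4 : ¬ p ∣ T.index := fun h => P.not_dvd_index (h.trans (Subgroup.index_dvd_of_le hPT))
    have e5 : (Nat.card M).factorization p ≤ (Nat.card (M ⊓ N : Subgroup G)).factorization p := by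
      have h1 : Nat.card PN ∣ Nat.card (M ⊓ N : Subgroup G) := Subgroup.card_dvd_of_le hPNN
      rw [hPN.2] at h1
      exact (Nat.Prime.pow_dvd_iff_le_factorization hp Nat.card_pos.ne').mp h1
    have hNi0 : N.index ≠ 0 := by
      intro h0; rw [h0, zero_mul] at e1; exact (Nat.card_pos (α := G)).ne' e1.symm
    have hTi0 : T.index ≠ 0 := by
      intro h0; rw [h0, zero_mul] at e2; exact (Nat.card_pos (α := G)).ne' e2.symm
    have f1 : (N.index * Nat.card N).factorization p = (Nat.card G).factorization p := by rw [e1]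
    have f2 : (T.index * Nat.card T).factorization p = (Nat.card G).factorization p := by rw [e2]
    have f3 : (Nat.card T * Nat.card (M ⊓ N : Subgroup G)).factorization p =
        (Nat.card N * Nat.card M).factorization p := by rw [e3]
    rw [fact_mul p _ _ hNi0 Nat.card_pos.ne'] at f1
    rw [fact_mul p _ _ hTi0 Nat.card_pos.ne', Nat.factorization_eq_zero_of_not_dvd e4] at f2
    rw [fact_mul p _ _ Nat.card_pos.ne' Nat.card_pos.ne',
      fact_mul p _ _ Nat.card_pos.ne' Nat.card_pos.ne'] at f3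
    have f6 : 1 ≤ N.index.factorization p :=
      (Nat.Prime.dvd_iff_one_le_factorization hp hNi0).mp hd
    omega
  obtain ⟨P1, hP1⟩ := exists_sylow_le_of_not_dvd_index p N hpN
  exact ⟨P1, hP1⟩

theorem qsolv_case (p q : ℕ) [Fact p.Prime] [Fact q.Prime] :
    ∀ (n : ℕ) (G : Type u) [Group G] [Finite G], Nat.card G = n → Cfsg.IsPSolvable q G →
      Hyp p q G →
      ∃ (P : Sylow p G) (Q : Sylow q G),
        (P : Subgroup G) ≤ Subgroup.normalizer ((Q : Subgroup G) : Set G) := by
  intro n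
  induction n using Nat.strong_induction_on with
  | _ n ih =>
  intro G _ _ hn hsolv hyp
  by_cases hnt : Nontrivial G
  swap
  · rw [not_nontrivial_iff_subsingleton] at hnt
    obtain ⟨P⟩ : Nonempty (Sylow p G) := inferInstance
    obtain ⟨Q⟩ : Nonempty (Sylow q G) := inferInstance
    refine ⟨P, Q, fun x _ => ?_⟩
    rw [Subsingleton.elim x 1]; exact one_mem _
  obtain ⟨M, hMn, hMne, hM⟩ := exists_normal_of_isPSolvable hsolv
  have hlt : Nat.card (G ⧸ M) < n := by
    rw [← hn, ← Subgroup.index_eq_card, ← M.index_mul_card]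
    have h1 : 1 < Nat.card M := by
      rw [Subgroup.one_lt_card_iff_ne_bot]; exact hMne
    have h2 : 0 < M.index := Nat.pos_of_ne_zero Subgroup.index_ne_zero_of_finite
    nlinarith
  obtain ⟨P', Q', hP'Q'⟩ := ih _ hlt (G ⧸ M) rfl (isPSolvable_quotient hsolv M) (hyp.quotient M)
  obtain ⟨P, rfl⟩ := Sylow.mapSurjective_surjective (QuotientGroup.mk'_surjective M) p P'
  obtain ⟨Q, rfl⟩ := Sylow.mapSurjective_surjective (QuotientGroup.mk'_surjective M) q Q'
  rw [Sylow.coe_mapSurjective, Sylow.coe_mapSurjective] at hP'Q'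
  have hkey : ∀ g ∈ (P : Subgroup G), ∀ y ∈ (Q : Subgroup G),
      g * y * g⁻¹ ∈ (Q : Subgroup G) ⊔ M := by
    intro g hg y hy
    have h1 : (QuotientGroup.mk' M) g ∈ Subgroup.normalizer
        (((Q : Subgroup G).map (QuotientGroup.mk' M) : Subgroup (G ⧸ M)) : Set (G ⧸ M)) :=
      hP'Q' (Subgroup.mem_map_of_mem _ hg)
    rw [Subgroup.mem_normalizer_iff] at h1
    have h2 := (h1 _).mp (Subgroup.mem_map_of_mem (QuotientGroup.mk' M) hy)
    obtain ⟨y', hy', e⟩ := h2
    have e' : (QuotientGroup.mk' M) y' = (QuotientGroup.mk' M) (g * y * g⁻¹) := by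
      rw [e]; simp
    have h3 : y'⁻¹ * (g * y * g⁻¹) ∈ M := by
      have := QuotientGroup.eq.mp e'
      exact this
    have : g * y * g⁻¹ = y' * (y'⁻¹ * (g * y * g⁻¹)) := by group
    rw [this]
    exact mul_mem (Subgroup.mem_sup_left hy') (Subgroup.mem_sup_right h3)
  rcases hM with hMq | hMq
  · -- M a normal q-subgroup: M ≤ Q
    have hMQ : M ≤ (Q : Subgroup G) := hMq.le_sylow_of_normal Q
    refine ⟨P, Q, ?_⟩
    intro g hg
    apply Subgroup.mem_normalizer_fintype
    intro y hy
    have := hkey g hg y hy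
    rwa [sup_eq_left.mpr hMQ] at this
  · obtain ⟨P1, hP1⟩ := coprime_step p q hyp M hMq P Q hkey
    exact ⟨P1, Q, hP1⟩

/-- Let p and q be primes and G a finite group that is p-solvable or q-solvable, in which no q-element has conjugacy class size divisible by p. Then some Sylow p-subgroup of G normalizes some Sylow q-subgroup of G. -/
theorem result {G : Type*} [Group G] [Finite G] (p q : ℕ) [Fact p.Prime] [Fact q.Prime] (hsolv : Cfsg.IsPSolvable p G ∨ Cfsg.IsPSolvable q G)
    (h : ∀ y : G, (∃ k : ℕ, orderOf y = q ^ k) → ¬ p ∣ (Subgroup.centralizer ({y} : Set G)).index) :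
    ∃ (P : Sylow p G) (Q : Sylow q G), (P : Subgroup G) ≤ Subgroup.normalizer ((Q : Subgroup G) : Set G) := by
  by_cases hpq : p = q
  · subst hpq
    obtain ⟨P⟩ : Nonempty (Sylow p G) := inferInstance
    exact ⟨P, P, Subgroup.le_normalizer⟩
  rcases hsolv with hs | hs
  · exact psolv_case p q hpq hs h
  · exact qsolv_case p q _ G rfl hs h

end Cfsg.Agent.S4601
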