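import Mathlib
import Cfsg.Statements.S4475
import Cfsg.Agent.Lib.H24.CharFSInd

set_option autoImplicit false
open Cfsg

namespace Cfsg.Agent.S4475

open Cfsg.Agent.Lib.H24

section general

variable {G : Type*} [Group G] [Fintype G] {V : Type*} [AddCommGroup V] [Module ℂ V]
  [FiniteDimensional ℂ V]

/-- For an irreducible representation with real-valued character, a nonzero invariant bilinear
form exists. -/
theorem exists_invForm (ρ : Representation ℂ G V) (hρ : ρ.IsIrreducible)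
    (hreal : ∀ g : G, (ρ.character g).im = 0) :
    ∃ B : V →ₗ[ℂ] V →ₗ[ℂ] ℂ, B ≠ 0 ∧ IsInvForm ρ B := by
  classical
  let b := Module.finBasis ℂ V
  have hsq := sum_sq_eq_sum_avgForm ρ b
  rw [sum_sq_eq_of_irreducible ρ hρ, if_pos hreal] at hsq
  by_contra hcon
  push Not at hcon
  have hall : ∀ i j, avgForm ρ (elemForm b i j) = 0 := by
    intro i j
    by_contra h
    exact hcon _ h (isInvForm_avgForm ρ _)
  simp only [hall, LinearMap.zero_apply, Finset.sum_const_zero] at hsq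
  exact one_ne_zero hsq

/-- The symmetry sign of an invariant form is the Frobenius–Schur indicator. -/
theorem fsInd_eq_of_invForm (ρ : Representation ℂ G V) (hρ : ρ.IsIrreducible)
    (hreal : ∀ g : G, (ρ.character g).im = 0) {B : V →ₗ[ℂ] V →ₗ[ℂ] ℂ} (hne : B ≠ 0)
    (hB : IsInvForm ρ B) {ε : ℂ} (hflip : ∀ v w, B w v = ε * B v w) :
    fsInd ρ.character = ε := by
  classical
  let b := Module.finBasis ℂ V
  have hν := fsInd_eq_sum_avgForm ρ b
  have hsq := sum_sq_eq_sum_avgForm ρ b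
  rw [sum_sq_eq_of_irreducible ρ hρ, if_pos hreal] at hsq
  have hc : ∀ i j, ∃ c : ℂ, avgForm ρ (elemForm b i j) = c • B :=
    fun i j => hB.eq_smul hρ (isInvForm_avgForm ρ _) hne
  choose c hc using hc
  have : fsInd ρ.character = ε * 1 := by
    rw [hν, hsq, Finset.mul_sum]
    refine Finset.sum_congr rfl (fun i _ => ?_)
    rw [Finset.mul_sum]
    refine Finset.sum_congr rfl (fun j _ => ?_)
    rw [hc i j]
    simp only [LinearMap.smul_apply, smul_eq_mul]
    rw [hflip (b i) (b j)]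
    ring
  rw [this, mul_one]

end general

section matrix

variable {G : Type*} [Group G] {n : ℕ}

theorem isInvForm_iff (ρ : Representation ℂ G (Fin n → ℂ))
    (B : (Fin n → ℂ) →ₗ[ℂ] (Fin n → ℂ) →ₗ[ℂ] ℂ) :
    IsInvForm ρ B ↔ ∀ g : G, (LinearMap.toMatrix' (ρ g)).transpose * LinearMap.toMatrix₂' ℂ B *
      LinearMap.toMatrix' (ρ g) = LinearMap.toMatrix₂' ℂ B := by
  constructor
  · intro h g
    rw [← LinearMap.toMatrix₂'_compl₁₂]
    have : B.compl₁₂ (ρ g) (ρ g) = B := by
      apply LinearMap.ext; intro v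
      apply LinearMap.ext; intro w
      rw [LinearMap.compl₁₂_apply]
      exact h g v w
    rw [this]
  · intro h g v w
    have h1 := h g
    rw [← LinearMap.toMatrix₂'_compl₁₂] at h1
    have h2 := (LinearMap.toMatrix₂' ℂ).injective h1
    have h3 := congrArg (fun F : (Fin n → ℂ) →ₗ[ℂ] (Fin n → ℂ) →ₗ[ℂ] ℂ => F v w) h2
    simpa only [LinearMap.compl₁₂_apply] using h3

theorem toMatrix₂'_flip (B : (Fin n → ℂ) →ₗ[ℂ] (Fin n → ℂ) →ₗ[ℂ] ℂ) :
    LinearMap.toMatrix₂' ℂ B.flip = (LinearMap.toMatrix₂' ℂ B).transpose := by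
  ext i j
  simp only [LinearMap.toMatrix₂'_apply, LinearMap.flip_apply, Matrix.transpose_apply]

end matrix

theorem result {G : Type*} [Group G] [Fintype G] (n : ℕ) (ρ : Representation ℂ G (Fin n → ℂ)) (hirr : ρ.IsIrreducible) (hreal : ∀ g : G, (ρ.character g).im = 0) : (∃ M : Matrix (Fin n) (Fin n) ℂ, M ≠ 0 ∧ ∀ g : G, (LinearMap.toMatrix' (ρ g)).transpose * M * LinearMap.toMatrix' (ρ g) = M) ∧ ∀ M : Matrix (Fin n) (Fin n) ℂ, (∀ g : G, (LinearMap.toMatrix' (ρ g)).transpose * M * LinearMap.toMatrix' (ρ g) = M) → M.transpose = ((Nat.card G : ℂ)⁻¹ * ∑ s : G, ρ.character (s * s)) • M := by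
  constructor
  · obtain ⟨B, hne, hB⟩ := exists_invForm ρ hirr hreal
    refine ⟨LinearMap.toMatrix₂' ℂ B, ?_, (isInvForm_iff ρ B).1 hB⟩
    intro h
    apply hne
    exact (LinearMap.toMatrix₂' ℂ).injective (by rw [h, map_zero])
  · intro M hM
    set B : (Fin n → ℂ) →ₗ[ℂ] (Fin n → ℂ) →ₗ[ℂ] ℂ := Matrix.toLinearMap₂' ℂ M with hBdef
    have hBM : LinearMap.toMatrix₂' ℂ B = M := by
      rw [hBdef]; exact (LinearMap.toMatrix₂' ℂ).apply_symm_apply M
    have hB : IsInvForm ρ B := by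
      rw [isInvForm_iff, hBM]; exact hM
    by_cases hne : B = 0
    · have hM0 : M = 0 := by rw [← hBM, hne, map_zero]
      rw [hM0]; simp
    · obtain ⟨ε, hε⟩ := hB.eq_smul hirr hB.flip hne
      have hflip : ∀ v w, B w v = ε * B v w := by
        intro v w
        have h3 := congrArg (fun F : (Fin n → ℂ) →ₗ[ℂ] (Fin n → ℂ) →ₗ[ℂ] ℂ => F v w) hε
        simpa only [LinearMap.flip_apply, LinearMap.smul_apply, smul_eq_mul] using h3
      have hν := fsInd_eq_of_invForm ρ hirr hreal hne hB hflip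
      have h1 : M.transpose = ε • M := by
        rw [← hBM, ← toMatrix₂'_flip, hε, map_smul]
      rw [h1, ← hν]
      rfl

end Cfsg.Agent.S4475
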