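import Cfsg.Statements.S5422
import Cfsg.Agent.Lib.H22.LargeExtra3
import Cfsg.Agent.Lib.H9.CoprimeGeneration
import Cfsg.Agent.Lib.H5.NCTools
import Cfsg.Agent.Lib.H5.KleinPair
-- import your own Cfsg.Agent.* helpers here
set_option autoImplicit false
open Cfsg
namespace Cfsg.Agent.S5422
open Cfsg.Agent.Lib.H22.LargeExtra
open Cfsg.Agent.Lib.H15
open scoped commutatorElement

/-- From the hypotheses: the centre is `{1,z}` and `(Q, z)` is large-extraspecial-like. -/
theorem lx_of_extraspecial {G : Type*} [Group G] [Finite G] (Q : Subgroup G)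
    (hL1 : Cfsg.IsExtraspecial 2 ↥Q)
    (hL2 : Subgroup.centralizer (Q : Set G) = ((Subgroup.center ↥Q).map Q.subtype))
    (hL3 : Subgroup.centralizer (((Subgroup.center ↥Q).map Q.subtype) : Set G) ≤
      Subgroup.normalizer (Q : Set G)) :
    ∃ z : G, (∀ c : G, c ∈ ((Subgroup.center ↥Q).map Q.subtype) ↔ (c = 1 ∨ c = z)) ∧ LX Q z := by
  obtain ⟨_, hZle, hZcard, hZeq, hcomm, hpow⟩ := Cfsg.Agent.Lib.H27.extraspecial_data 2 Q hL1
  set Z : Subgroup G := (Subgroup.center ↥Q).map Q.subtype with hZ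
  obtain ⟨y, hy1, hy2⟩ := (Nat.card_eq_two_iff' (1 : Z)).mp hZcard
  have hz1 : (y : G) ≠ 1 := fun h => hy1 (Subtype.ext h)
  have hZ2 : ∀ c ∈ Z, c = 1 ∨ c = (y : G) := by
    intro c hc
    by_cases h : c = 1
    · left; exact h
    · right
      have := hy2 ⟨c, hc⟩ (fun hh => h (congrArg Subtype.val hh))
      exact congrArg Subtype.val this
  have hzC : (y : G) ∈ Subgroup.centralizer (Q : Set G) := by
    have : (y : G) ∈ Q ⊓ Subgroup.centralizer (Q : Set G) := by rw [hZeq]; exact y.2
    exact this.2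
  have hzz : (y : G) * (y : G) = 1 := by
    rcases hZ2 _ (Z.mul_mem y.2 y.2) with h | h
    · exact h
    · exfalso; apply hz1
      have : (y : G) = ((y : G) * (y : G)) * (y : G)⁻¹ := by group
      rw [this, h]; group
  refine ⟨(y : G), ?_, ?_⟩
  · intro c
    constructor
    · exact hZ2 c
    · rintro (rfl | rfl)
      · exact Z.one_mem
      · exact y.2
  refine ⟨hz1, hzz, hZle y.2, ?_, ?_, ?_, ?_, ?_, ?_⟩
  · intro a ha
    exact (Subgroup.mem_centralizer_iff.mp hzC) a ha
  · intro a ha b hb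
    apply hZ2
    rw [← hcomm]
    have := Subgroup.commutator_mem_commutator ha hb
    rwa [commutatorElement_def] at this
  · intro a ha
    apply hZ2
    have := hpow a ha
    rwa [pow_two] at this
  · intro c hc hcc
    apply hZ2
    rw [← hZeq]
    refine Subgroup.mem_inf.mpr ⟨hc, ?_⟩
    rw [Subgroup.mem_centralizer_iff]
    intro a ha
    exact hcc a ha
  · intro c hcc
    apply hZle
    rw [← hL2, Subgroup.mem_centralizer_iff]
    intro a ha
    exact hcc a ha
  · intro c hc a ha
    have hcC : c ∈ Subgroup.centralizer ((Z : Subgroup G) : Set G) := by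
      rw [Subgroup.mem_centralizer_iff]
      intro h hh
      rcases hZ2 h hh with rfl | rfl
      · simp
      · exact hc.symm
    have := hL3 hcC
    rw [Subgroup.mem_normalizer_iff] at this
    exact (this a).mp ha

theorem mem_normalizer_of_conj {G : Type*} [Group G] [Finite G] (T : Subgroup G) (r : G)
    (h1 : ∀ h ∈ T, r * h * r⁻¹ ∈ T) : r ∈ Subgroup.normalizer (T : Set G) := by
  rw [mem_normalizer_iff_cj_eq]
  apply Subgroup.eq_of_le_of_card_ge
  · rintro _ ⟨h, hh, rfl⟩
    exact h1 h hh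
  · rw [card_cj]

theorem pow_two_cases {G : Type*} [Group G] {z : G} (hz : z * z = 1) (i : ℕ) :
    z ^ i = 1 ∨ z ^ i = z := by
  induction i with
  | zero => left; simp
  | succ n ih =>
    rcases ih with h | h
    · right; rw [pow_succ, h, one_mul]
    · left; rw [pow_succ, h, hz]

set_option maxHeartbeats 1600000 in
/-- Let Q be an extraspecial 2-subgroup of the finite group G whose centralizer in G is its centre Z and which is normal in the centralizer of Z; suppose Q has width at least 2 (order 2^(2w+1) with w ≥ 2) and g is an element of G not normalizing Z with g Z g⁻¹ inside Q. Then Z lies inside g Q g⁻¹; writing V for the subgroup generated by Z and g Z g⁻¹ (a four-group), the normalizer of V induces on V its full automorphism group, that is, the centralizer of V has index 6 in the normalizer of V; and Q is a large extraspecial 2-subgroup of G. -/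
theorem result {G : Type*} [Group G] [Finite G] (Q : Subgroup G) (hL1 : Cfsg.IsExtraspecial 2 ↥Q) (hL2 : Subgroup.centralizer (Q : Set G) = ((Subgroup.center ↥Q).map Q.subtype)) (hL3 : Subgroup.centralizer (((Subgroup.center ↥Q).map Q.subtype) : Set G) ≤ Subgroup.normalizer (Q : Set G)) (w : ℕ) (hw : 2 ≤ w) (hcard : Nat.card ↥Q = 2 ^ (2 * w + 1)) (g : G) (hg : g ∉ Subgroup.normalizer (((Subgroup.center ↥Q).map Q.subtype) : Set G)) (hZg : (((Subgroup.center ↥Q).map Q.subtype)).map (MulAut.conj g).toMonoidHom ≤ Q) : ((Subgroup.center ↥Q).map Q.subtype) ≤ (Q).map (MulAut.conj g).toMonoidHom ∧ (Subgroup.centralizer ((((Subgroup.center ↥Q).map Q.subtype) ⊔ (((Subgroup.center ↥Q).map Q.subtype)).map (MulAut.conj g).toMonoidHom : Subgroup G) : Set G)).relIndex (Subgroup.normalizer ((((Subgroup.center ↥Q).map Q.subtype) ⊔ (((Subgroup.center ↥Q).map Q.subtype)).map (MulAut.conj g).toMonoidHom : Subgroup G) : Set G)) = 6 ∧ Cfsg.IsLargeExtraspecial Q := by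
  obtain ⟨z, hZmem, hLX⟩ := lx_of_extraspecial Q hL1 hL2 hL3
  set Z : Subgroup G := (Subgroup.center ↥Q).map Q.subtype with hZ
  have hzZ : z ∈ Z := (hZmem z).mpr (Or.inr rfl)
  obtain ⟨x, hxdef⟩ : ∃ x, x = g * z * g⁻¹ := ⟨_, rfl⟩
  have hxZg : x ∈ Z.map (MulAut.conj g).toMonoidHom := ⟨z, hzZ, by rw [hxdef]; rfl⟩
  have hxQ : x ∈ Q := hZg hxZg
  have hzz := hLX.sq_one
  have hz1 := hLX.ne_one
  have hxz : x ≠ z := by
    intro h
    apply hg
    apply mem_normalizer_of_conj
    intro c hc
    rcases (hZmem c).mp hc with h' | h'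
    · rw [h']; simp [Z.one_mem]
    · rw [h', ← hxdef, h]; exact hzZ
  have hLXx : LX (cj g Q) x := by rw [hxdef]; exact hLX.conj g
  have hconj : ∀ k : G, k * z * k⁻¹ = x → ∀ a ∈ Q, k * a * k⁻¹ ∈ cj g Q := by
    intro k hk a ha
    rw [mem_cj_iff]
    have hc : (g⁻¹ * k) * z = z * (g⁻¹ * k) := by
      apply conj_eq_self_iff.mp
      calc (g⁻¹ * k) * z * (g⁻¹ * k)⁻¹ = g⁻¹ * (k * z * k⁻¹) * g := by group
        _ = g⁻¹ * (g * z * g⁻¹) * g := by rw [hk, hxdef]
        _ = z := by group
    have := hLX.normal _ hc a ha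
    have e : g⁻¹ * k * a * (g⁻¹ * k)⁻¹ = g⁻¹ * (k * a * k⁻¹) * g := by group
    rwa [e] at this
  have hzQx : z ∈ cj g Q := LX.symm_core hLX hLXx hxQ hconj
  have hxx := hLXx.sq_one
  have hx1 := hLXx.ne_one
  have hzx_comm : z * x = x * z := (hLX.cz x hxQ).symm
  -- elements q and q'
  obtain ⟨q, hq, hqx⟩ := hLX.exists_conj_mul hxQ hx1 hxz
  obtain ⟨q', hq', hq'z⟩ := hLXx.exists_conj_mul hzQx hz1 (fun h => hxz h.symm)
  have hqz : q * z * q⁻¹ = z := conj_eq_self_iff.mpr (hLX.cz q hq)
  have hq'x : q' * x * q'⁻¹ = x := conj_eq_self_iff.mpr (hLXx.cz q' hq')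
  -- coprimality tools
  have hcardQx : Nat.card (cj g Q) = 2 ^ (2 * w + 1) := by rw [card_cj, hcard]
  refine ⟨?_, ?_, hL1, hL2, hL3, ?_⟩
  · intro c hc
    rcases (hZmem c).mp hc with h | h
    · rw [h]; exact Subgroup.one_mem _
    · rw [h]; exact hzQx
  · -- relIndex = 6
    set T : Subgroup G := Cfsg.Agent.Lib.H5.KP.kleinPair z x hzz hxx hzx_comm with hT
    have hTmem : ∀ v, v ∈ T ↔ (v = 1 ∨ v = z ∨ v = x ∨ v = z * x) := fun v => Iff.rfl
    have hV : Z ⊔ Z.map (MulAut.conj g).toMonoidHom = T := by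
      apply le_antisymm
      · apply sup_le
        · intro c hc
          rcases (hZmem c).mp hc with h | h
          · rw [h]; exact T.one_mem
          · rw [h]; exact (hTmem z).mpr (Or.inr (Or.inl rfl))
        · rintro _ ⟨c, hc, rfl⟩
          rcases (hZmem c).mp hc with h | h
          · rw [h]; simp [T.one_mem]
          · rw [h]
            refine (hTmem _).mpr (Or.inr (Or.inr (Or.inl ?_)))
            rw [hxdef]; rfl
      · intro v hv
        have h1 : z ∈ Z ⊔ Z.map (MulAut.conj g).toMonoidHom := Subgroup.mem_sup_left hzZ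
        have h2 : x ∈ Z ⊔ Z.map (MulAut.conj g).toMonoidHom := Subgroup.mem_sup_right hxZg
        rcases (hTmem v).mp hv with rfl | rfl | rfl | rfl
        · exact Subgroup.one_mem _
        · exact h1
        · exact h2
        · exact Subgroup.mul_mem _ h1 h2
    rw [hV]
    have hKl : IsKleinFour T :=
      Cfsg.Agent.Lib.H5.KP.isKleinFour_kleinPair hzz hxx hzx_comm hz1 hx1 (fun h => hxz h.symm)
    have hconjT : ∀ r : G, r * z * r⁻¹ ∈ T → r * x * r⁻¹ ∈ T → r ∈ Subgroup.normalizer (T : Set G) := by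
      intro r hrz hrx
      apply mem_normalizer_of_conj
      intro v hv
      rcases (hTmem v).mp hv with rfl | rfl | rfl | rfl
      · simp [T.one_mem]
      · exact hrz
      · exact hrx
      · have : r * (z * x) * r⁻¹ = (r * z * r⁻¹) * (r * x * r⁻¹) := by group
        rw [this]; exact T.mul_mem hrz hrx
    have hqN : q ∈ Subgroup.normalizer (T : Set G) := by
      apply hconjT
      · rw [hqz]; exact (hTmem z).mpr (Or.inr (Or.inl rfl))
      · rw [hqx]; exact (hTmem _).mpr (Or.inr (Or.inr (Or.inr rfl)))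
    have hq'N : q' ∈ Subgroup.normalizer (T : Set G) := by
      apply hconjT
      · rw [hq'z, ← hzx_comm]; exact (hTmem _).mpr (Or.inr (Or.inr (Or.inr rfl)))
      · rw [hq'x]; exact (hTmem x).mpr (Or.inr (Or.inr (Or.inl rfl)))
    have hxT : x ∈ T := (hTmem x).mpr (Or.inr (Or.inr (Or.inl rfl)))
    have hzT : z ∈ T := (hTmem z).mpr (Or.inr (Or.inl rfl))
    have hqC : q ∉ Subgroup.centralizer (T : Set G) := by
      intro h
      have h1 := (Subgroup.mem_centralizer_iff.mp h) x hxT
      -- x * q = q * x → q x q⁻¹ = x → z x = x → z = 1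
      have h2 : q * x * q⁻¹ = x := conj_eq_self_iff.mpr h1.symm
      rw [hqx] at h2
      apply hz1
      calc z = (z * x) * x⁻¹ := by group
        _ = x * x⁻¹ := by rw [h2]
        _ = 1 := by group
    have hq'C : q' ∉ Subgroup.centralizer (T : Set G) := by
      intro h
      have h1 := (Subgroup.mem_centralizer_iff.mp h) z hzT
      have h2 : q' * z * q'⁻¹ = z := conj_eq_self_iff.mpr h1.symm
      rw [hq'z] at h2
      apply hx1
      calc x = (x * z) * z⁻¹ := by group
        _ = z * z⁻¹ := by rw [h2]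
        _ = 1 := by group
    have hqqC : q * q' ∉ Subgroup.centralizer (T : Set G) := by
      intro h
      have h1 := (Subgroup.mem_centralizer_iff.mp h) z hzT
      have h2 : (q * q') * z * (q * q')⁻¹ = z := conj_eq_self_iff.mpr h1.symm
      have k1 : (q * q') * z * (q * q')⁻¹ = x := by
        calc (q * q') * z * (q * q')⁻¹ = q * (q' * z * q'⁻¹) * q⁻¹ := by group
          _ = q * (x * z) * q⁻¹ := by rw [hq'z]
          _ = (q * x * q⁻¹) * (q * z * q⁻¹) := by group
          _ = (z * x) * z := by rw [hqx, hqz]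
          _ = x := by rw [hzx_comm, mul_assoc, hzz, mul_one]
      rw [k1] at h2
      exact hxz h2
    have hdvd := Cfsg.Agent.Lib.H5.NC.relIndex_klein_dvd T hKl
    have hqq : q * q ∈ Subgroup.centralizer (T : Set G) := by
      have hqqz : q * q = 1 ∨ q * q = z := hLX.sq q hq
      rw [Subgroup.mem_centralizer_iff]
      intro v hv
      rcases hqqz with h | h
      · rw [h]; simp
      · rw [h]
        rcases (hTmem v).mp hv with rfl | rfl | rfl | rfl
        · simp
        · rfl
        · exact hzx_comm.symm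
        · rw [mul_assoc, ← hzx_comm, ← mul_assoc]
    have h2dvd := Cfsg.Agent.Lib.H5.NC.two_dvd_relIndex
      (Cfsg.Agent.Lib.H5.NC.normalizer_le_normalizer_centralizer T) hqN hqC hqq
    rcases Cfsg.Agent.Lib.H5.NC.eq_two_or_six hdvd h2dvd with h | h
    · exfalso
      have hidx : ((Subgroup.centralizer (T : Set G)).subgroupOf
          (Subgroup.normalizer (T : Set G))).index = 2 := h
      have := Subgroup.mul_mem_iff_of_index_two hidx
        (a := (⟨q, hqN⟩ : Subgroup.normalizer (T : Set G)))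
        (b := (⟨q', hq'N⟩ : Subgroup.normalizer (T : Set G)))
      rw [Subgroup.mem_subgroupOf, Subgroup.mem_subgroupOf, Subgroup.mem_subgroupOf] at this
      have h3 : q * q' ∈ Subgroup.centralizer (T : Set G) := by
        apply this.mpr
        constructor
        · intro h4; exact absurd h4 hqC
        · intro h4; exact absurd h4 hq'C
      exact hqqC h3
    · exact h
  · -- largeness
    intro K hKodd hQK
    have hcopQK : (Nat.card Q).Coprime (Nat.card K) := by
      rw [hcard]
      exact Nat.Coprime.pow_left _ (Nat.coprime_two_left.mpr hKodd)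
    have hcopQxK : (Nat.card (cj g Q)).Coprime (Nat.card K) := by
      rw [hcardQx]
      exact Nat.Coprime.pow_left _ (Nat.coprime_two_left.mpr hKodd)
    have hQK1 : Q ⊓ K = ⊥ := (Subgroup.disjoint_of_coprime_natCard hcopQK).eq_bot
    have hQxK1 : cj g Q ⊓ K = ⊥ := (Subgroup.disjoint_of_coprime_natCard hcopQxK).eq_bot
    have hKconj : ∀ a ∈ Q, ∀ k ∈ K, a * k * a⁻¹ ∈ K := by
      intro a ha k hk
      have := hQK ha
      rw [Subgroup.mem_normalizer_iff] at this
      exact (this k).mp hk
    -- Claim A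
    have hA : ∀ k ∈ K, k * z = z * k → k = 1 := by
      intro k hk hkz
      have hcen : ∀ a ∈ Q, a * k = k * a := by
        intro a ha
        have h1 : a * k * a⁻¹ * k⁻¹ ∈ K := K.mul_mem (hKconj a ha k hk) (K.inv_mem hk)
        have h2 : a * k * a⁻¹ * k⁻¹ ∈ Q := by
          have h3 : k * a⁻¹ * k⁻¹ ∈ Q := hLX.normal k hkz _ (Q.inv_mem ha)
          have : a * k * a⁻¹ * k⁻¹ = a * (k * a⁻¹ * k⁻¹) := by group
          rw [this]; exact Q.mul_mem ha h3
        have h4 : a * k * a⁻¹ * k⁻¹ ∈ Q ⊓ K := Subgroup.mem_inf.mpr ⟨h2, h1⟩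
        rw [hQK1, Subgroup.mem_bot] at h4
        have : a * k = (a * k * a⁻¹ * k⁻¹) * (k * a) := by group
        rw [this, h4, one_mul]
      have hkQ : k ∈ Q := hLX.cent k hcen
      have : k ∈ Q ⊓ K := Subgroup.mem_inf.mpr ⟨hkQ, hk⟩
      rw [hQK1, Subgroup.mem_bot] at this
      exact this
    -- Claim B
    have hB : ∀ k ∈ K, k * x = x * k → k = 1 := by
      intro k hk hkx
      apply hA k hk
      have h1 : z * k * z⁻¹ * k⁻¹ ∈ K := K.mul_mem (hKconj z hLX.mem k hk) (K.inv_mem hk)
      have h2 : z * k * z⁻¹ * k⁻¹ ∈ cj g Q := by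
        have h3 : k * z⁻¹ * k⁻¹ ∈ cj g Q := hLXx.normal k hkx _ (Subgroup.inv_mem _ hzQx)
        have : z * k * z⁻¹ * k⁻¹ = z * (k * z⁻¹ * k⁻¹) := by group
        rw [this]; exact Subgroup.mul_mem _ hzQx h3
      have h4 : z * k * z⁻¹ * k⁻¹ ∈ cj g Q ⊓ K := Subgroup.mem_inf.mpr ⟨h2, h1⟩
      rw [hQxK1, Subgroup.mem_bot] at h4
      have : k * z = (z * k * z⁻¹ * k⁻¹)⁻¹ * (z * k) := by group
      rw [this, h4]; group
    -- Claim C
    have hC : ∀ k ∈ K, k * (z * x) = (z * x) * k → k = 1 := by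
      intro k hk hkzx
      have hk' : q⁻¹ * k * q ∈ K := by
        have := hKconj q⁻¹ (Q.inv_mem hq) k hk
        rwa [inv_inv] at this
      have hcomm' : (q⁻¹ * k * q) * x = x * (q⁻¹ * k * q) := by
        have hqx' : q⁻¹ * (z * x) * q = x := by rw [← hqx]; group
        calc (q⁻¹ * k * q) * x = q⁻¹ * (k * (q * x * q⁻¹)) * q := by group
          _ = q⁻¹ * (k * (z * x)) * q := by rw [hqx]
          _ = q⁻¹ * ((z * x) * k) * q := by rw [hkzx]
          _ = (q⁻¹ * (z * x) * q) * (q⁻¹ * k * q) := by group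
          _ = x * (q⁻¹ * k * q) := by rw [hqx']
      have := hB _ hk' hcomm'
      calc k = q * (q⁻¹ * k * q) * q⁻¹ := by group
        _ = 1 := by rw [this]; group
    have hact : Cfsg.Agent.Lib.H1.CoprimeAction Q K := by
      refine ⟨hQK, hcopQK, Or.inl ?_⟩
      have hp : IsPGroup 2 Q := hL1.1.1
      have : Group.IsNilpotent Q := hp.isNilpotent
      infer_instance
    have hKle : K ≤ ⊥ := by
      apply Cfsg.Agent.Lib.H9.le_of_centralizers_le (p := 2) hact
        (Nat.coprime_comm.mp (Nat.coprime_two_left.mpr hKodd)) hLX.mem hxQ hzx_comm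
        (by rw [pow_two]; exact hzz) (by rw [pow_two]; exact hxx)
      · intro k hk
        obtain ⟨hkK, hkC⟩ := Subgroup.mem_inf.mp hk
        rw [Subgroup.mem_centralizer_singleton_iff] at hkC
        rw [Subgroup.mem_bot]
        exact hA k hkK hkC
      · intro i k hk
        obtain ⟨hkK, hkC⟩ := Subgroup.mem_inf.mp hk
        rw [Subgroup.mem_centralizer_singleton_iff] at hkC
        rw [Subgroup.mem_bot]
        rcases pow_two_cases hzz i with h | h
        · rw [h, one_mul] at hkC
          exact hB k hkK hkC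
        · rw [h] at hkC
          exact hC k hkK hkC
    exact le_bot_iff.mp hKle
end Cfsg.Agent.S5422
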