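import Cfsg.Statements.S3224
import Mathlib
import Cfsg.Agent.S0112
import Cfsg.Agent.Lib.H22.MaxClassNilp
import Cfsg.Agent.Lib.H9.Basic

set_option autoImplicit false
open Cfsg

namespace Cfsg.Agent.S3224

open Cfsg.Agent.Lib.H22

/-- A finite 2-group containing an involution whose centralizer has order 4 is dihedral, quasi-dihedral (semidihedral), or of order 4. -/
theorem result {S : Type*} [Group S] [Finite S] (hS : IsPGroup 2 S)
    (x : S) (hx : orderOf x = 2) (hC : Nat.card ↥(Subgroup.centralizer ({x} : Set S)) = 4) :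
    (∃ n : ℕ, Nonempty (S ≃* DihedralGroup n)) ∨ Cfsg.IsQuasiDihedral S ∨ Nat.card S = 4 := by
  haveI : Fact (Nat.Prime 2) := ⟨Nat.prime_two⟩
  obtain ⟨k, hk⟩ := IsPGroup.iff_card.mp hS
  set A : Subgroup S := Subgroup.centralizer ({x} : Set S) with hA
  have hxA : x ∈ A := by rw [hA, Subgroup.mem_centralizer_singleton_iff]
  have hx2 : x * x = 1 := by rw [← pow_two, ← hx, pow_orderOf_eq_one]
  have hx1 : x ≠ 1 := by
    intro h1; rw [h1, orderOf_one] at hx; omega
  -- k ≥ 2
  have hk2 : 2 ≤ k := by
    have h1 : Nat.card A ∣ Nat.card S := Subgroup.card_subgroup_dvd_card A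
    rw [hC, hk] at h1
    by_contra hlt
    push Not at hlt
    have h2 : 2 ^ k ≤ 2 ^ 1 := Nat.pow_le_pow_right (by norm_num) (by omega)
    have h3 := Nat.le_of_dvd (by positivity) h1
    omega
  by_cases hk3 : k = 2
  · right; right
    rw [hk, hk3]; norm_num
  obtain ⟨n, rfl⟩ : ∃ n, k = n + 3 := ⟨k - 3, by omega⟩
  -- A is self-centralizing
  have hAcomm : ∀ u ∈ A, ∀ v ∈ A, u * v = v * u := by
    have hA4 : Nat.card A = 2 ^ 2 := by rw [hC]; norm_num
    have := IsPGroup.commutative_of_card_eq_prime_sq hA4
    intro u hu v hv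
    have h1 := this ⟨u, hu⟩ ⟨v, hv⟩
    exact congrArg Subtype.val h1
  have hAC : Subgroup.centralizer (A : Set S) = A := by
    apply le_antisymm
    · intro y hy
      rw [hA, Subgroup.mem_centralizer_singleton_iff]
      exact (Subgroup.mem_centralizer_iff.mp hy x hxA).symm
    · intro y hy
      rw [Subgroup.mem_centralizer_iff]
      intro u hu
      exact hAcomm u hu y hy
  have hcl : Group.nilpotencyClass S = n + 3 - 1 :=
    Cfsg.Agent.S0112.result (p := 2) (n + 3) hk A (by rw [hC]; norm_num) hAC
  have hidx : (commutator S).index = 4 :=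
    index_commutator_eq_four_of_nilpotencyClass n S hk (by rw [hcl]; omega)
  obtain ⟨a, y, hD, hcen⟩ := exists_maxClassData n S hk hidx
  rcases hD.conj with hc | ⟨hn1, hc⟩
  · rcases hD.sq with hs | hs
    · left
      exact ⟨_, hD.equiv_dihedral hc hs⟩
    · -- generalized quaternion: impossible
      exfalso
      set z := a ^ (2 ^ (n + 1)) with hz
      -- x lies in ⟨a⟩
      have hxa : x ∈ Subgroup.zpowers a := by
        by_contra hxa
        have h1 : x * y⁻¹ ∈ Subgroup.zpowers a := by
          rw [Subgroup.mul_mem_iff_of_index_two hD.index_zpowers]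
          exact ⟨fun h => absurd h hxa, fun h => absurd (by simpa using h) hD.not_mem⟩
        obtain ⟨i, hi⟩ := Subgroup.mem_zpowers_iff.mp h1
        have hxy : x = a ^ i * y := by rw [hi]; group
        have h2 : y * a ^ i * y⁻¹ = (a ^ i)⁻¹ := by
          rw [← conj_zpow, hc, inv_zpow]
        have h3 : x * x = z := by
          calc x * x = a ^ i * (y * a ^ i * y⁻¹) * (y * y) := by rw [hxy]; group
            _ = z := by rw [h2, hs, mul_inv_cancel, one_mul]
        rw [hx2] at h3
        have h4 : orderOf a ∣ 2 ^ (n + 1) := orderOf_dvd_of_pow_eq_one h3.symm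
        rw [hD.orderOf_a] at h4
        have := Nat.le_of_dvd (by positivity) h4
        have h5 : 2 ^ (n + 1) < 2 ^ (n + 2) := Nat.pow_lt_pow_right (by norm_num) (by omega)
        omega
      have hzo : orderOf z = 2 := by
        apply orderOf_eq_prime
        · rw [pow_two]; exact hD.zz_sq
        · intro h1
          have h4 : orderOf a ∣ 2 ^ (n + 1) := orderOf_dvd_of_pow_eq_one h1
          rw [hD.orderOf_a] at h4
          have := Nat.le_of_dvd (by positivity) h4
          have h5 : 2 ^ (n + 1) < 2 ^ (n + 2) := Nat.pow_lt_pow_right (by norm_num) (by omega)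
          omega
      have hza : z ∈ Subgroup.zpowers a := Subgroup.pow_mem _ (Subgroup.mem_zpowers a) _
      have hxz : x = z := by
        have h1 : orderOf (⟨x, hxa⟩ : Subgroup.zpowers a) = 2 := by
          rw [← Subgroup.orderOf_coe]; exact hx
        have h2 : orderOf (⟨z, hza⟩ : Subgroup.zpowers a) = 2 := by
          rw [← Subgroup.orderOf_coe]; exact hzo
        exact congrArg Subtype.val (Cfsg.Agent.Lib.H9.eq_of_orderOf_two_of_isCyclic h1 h2)
      have hxc : x ∈ Subgroup.center S := by
        rw [hcen, hxz]; exact Subgroup.mem_zpowers z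
      have hAtop : A = ⊤ := by
        rw [eq_top_iff]
        intro g _
        rw [hA, Subgroup.mem_centralizer_singleton_iff]
        exact Subgroup.mem_center_iff.mp hxc g
      rw [hAtop, Subgroup.card_top, hk] at hC
      have : 2 ^ 3 ≤ 2 ^ (n + 3) := Nat.pow_le_pow_right (by norm_num) (by omega)
      omega
  · right; left
    obtain ⟨b, hb2, -, hbc⟩ := hD.exists_semidihedral hc
    refine ⟨n + 2, by omega, hk, a, b, hD.orderOf_a, hb2, ?_⟩
    rw [hbc, show n + 2 - 1 = n + 1 by omega]

end Cfsg.Agent.S3224
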