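import Mathlib
import Cfsg.Statements.S0333
import Cfsg.Agent.Lib.H2.Sz20

set_option autoImplicit false
open Cfsg

namespace Cfsg.Agent.S0333

open Cfsg.Agent.Lib.H2.Sz Matrix

/-- With `q = 2^(2m+1)` and `r = 2^m`, the Suzuki group has cyclic subgroups of orders `q + 2r + 1` and
`q - 2r + 1`; each is the centraliser of each of its non-identity elements and has index `4` in its normaliser. -/
theorem result {F : Type*} [Field F] [Fintype F] {m : ℕ} (hm : 1 ≤ m)
    (hF : Fintype.card F = 2 ^ (2 * m + 1)) :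
    ∀ k ∈ ({2 ^ (2 * m + 1) + 2 ^ (m + 1) + 1, 2 ^ (2 * m + 1) - 2 ^ (m + 1) + 1} : Set ℕ),
      ∃ U : Subgroup (Cfsg.Sz F m), IsCyclic U ∧ Nat.card U = k ∧
        (∀ u ∈ U, u ≠ 1 → Subgroup.centralizer {u} = U) ∧ Nat.card (Subgroup.normalizer (U : Set (Cfsg.Sz F m))) = 4 * k := by
  have h := fld_of_card hF
  obtain ⟨hall, ⟨g₁, hg₁, hc₁⟩, ⟨g₂, hg₂, hc₂⟩⟩ := tori_main h hm hF
  have hle : 2 ^ (m + 1) ≤ 2 ^ (2 * m + 1) := Nat.pow_le_pow_right (by norm_num) (by omega)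
  have key : ∀ g : Sz F m, Fpf m (g : SpecialLinearGroup (Fin 4) F) →
      ∃ U : Subgroup (Cfsg.Sz F m), IsCyclic U ∧ Nat.card U = cT g ∧
        (∀ u ∈ U, u ≠ 1 → Subgroup.centralizer {u} = U) ∧
        Nat.card (Subgroup.normalizer (U : Set (Cfsg.Sz F m))) = 4 * cT g := by
    intro g hg
    refine ⟨Subgroup.centralizer ({g} : Set (Sz F m)), isCyclic_centralizer h hm hF hg, rfl, ?_, ?_⟩
    · intro u hu hu1
      exact centralizer_eq_of_mem h hm hF hg hu hu1
    · exact (hall g hg).2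
  intro k hk
  rcases hk with rfl | hk
  · have e : 2 ^ (2 * m + 1) + 2 ^ (m + 1) + 1 = cT g₁ := by
      rw [hc₁, pow_succ 2 m]
      ring
    rw [e]
    exact key g₁ hg₁
  · rw [Set.mem_singleton_iff] at hk
    subst hk
    have e : 2 ^ (2 * m + 1) - 2 ^ (m + 1) + 1 = cT g₂ := by
      rw [hc₂, pow_succ 2 m]
      rw [pow_succ 2 m] at hle
      omega
    rw [e]
    exact key g₂ hg₂

end Cfsg.Agent.S0333
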