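import Cfsg.Statements.S0198
import Cfsg.Agent.Lib.L0.CharExceptional
import Cfsg.Agent.Lib.H24.CharOrth
-- import your own Cfsg.Agent.* helpers here

set_option autoImplicit false
open Cfsg

namespace Cfsg.Agent.S0198

/-- The isometry lemma behind exceptional characters. Let τ be a family of generalized characters of a finite group G indexed by Fin n, with τ i₀ = 0, every τ i vanishing at the identity, and inner products ⟨τ i, τ j⟩ = 2 if i = j and 1 otherwise for i, j ≠ i₀. Then there are a sign ε and pairwise distinct irreducible characters μ i with τ i = ε (μ i − μ i₀) for all i. -/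
theorem result {G : Type*} [Group G] [Fintype G] (n : ℕ) (i₀ : Fin n) (τ : Fin n → (G → ℂ)) (h0 : τ i₀ = 0) (hgen : ∀ i, Cfsg.IsGeneralizedCharacter G (τ i)) (hone : ∀ i, τ i 1 = 0) (hgram : ∀ i j, i ≠ i₀ → j ≠ i₀ → Cfsg.classInner (τ i) (τ j) = if i = j then 2 else 1) : ∃ ε : ℂ, (ε = 1 ∨ ε = -1) ∧ ∃ μ : Fin n → (G → ℂ), (∀ i, Cfsg.IsIrrCharacter G (μ i)) ∧ Function.Injective μ ∧ ∀ i, τ i = ε • (μ i - μ i₀) := by
  classical
  haveI : Finite (IrrCharacter G) := Cfsg.Agent.Lib.H24.finite_irr
  haveI : Fintype (IrrCharacter G) := Fintype.ofFinite _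
  have hdec : ∀ i, i ≠ i₀ → ∃ a b : IrrCharacter G, a ≠ b ∧ τ i = (a : G → ℂ) - (b : G → ℂ) :=
    fun i hi => Cfsg.Agent.Lib.L0.genChar_norm_two_vanish (hgen i)
      (by rw [hgram i i hi hi, if_pos rfl]) (hone i)
  let x₀ : IrrCharacter G := ⟨1, Cfsg.Agent.Lib.L0.isIrrCharacter_one⟩
  have hex2 : ∀ i, ∃ ab : IrrCharacter G × IrrCharacter G,
      i ≠ i₀ → ab.1 ≠ ab.2 ∧ τ i = (ab.1 : G → ℂ) - (ab.2 : G → ℂ) := by
    intro i
    by_cases hi : i = i₀
    · exact ⟨(x₀, x₀), fun h => absurd hi h⟩
    · obtain ⟨a, b, h1, h2⟩ := hdec i hi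
      exact ⟨(a, b), fun _ => ⟨h1, h2⟩⟩
  choose ab hab using hex2
  have hg : ∀ i j, i ≠ i₀ → j ≠ i₀ → i ≠ j →
      Cfsg.Agent.Lib.L0.kd (ab i).1 (ab j).1 - Cfsg.Agent.Lib.L0.kd (ab i).1 (ab j).2
        - Cfsg.Agent.Lib.L0.kd (ab i).2 (ab j).1 + Cfsg.Agent.Lib.L0.kd (ab i).2 (ab j).2 = 1 := by
    intro i j hi hj hij
    have := hgram i j hi hj
    rw [if_neg hij, (hab i hi).2, (hab j hj).2, Cfsg.Agent.Lib.L0.classInner_irr_sub_irr] at this
    exact_mod_cast this
  by_cases hex : ∃ i₁, i₁ ≠ i₀
  · obtain ⟨i₁, h1⟩ := hex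
    rcases Cfsg.Agent.Lib.L0.common_part (fun i => i ≠ i₀) (fun i => (ab i).1) (fun i => (ab i).2)
      (fun i hi => (hab i hi).1) hg i₁ h1 with hA | hB
    · -- common positive part
      refine ⟨-1, Or.inr rfl,
        fun i => if i = i₀ then ((ab i₁).1 : G → ℂ) else ((ab i).2 : G → ℂ), ?_, ?_, ?_⟩
      · intro i
        dsimp only
        split_ifs
        · exact (ab i₁).1.2
        · exact (ab i).2.2
      · intro i j hij
        dsimp only at hij
        by_contra hne
        by_cases hi : i = i₀ <;> by_cases hj : j = i₀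
        · exact hne (hi.trans hj.symm)
        · rw [if_pos hi, if_neg hj] at hij
          have : (ab j).1 = (ab j).2 := by rw [hA j hj]; exact Subtype.ext hij
          exact (hab j hj).1 this
        · rw [if_neg hi, if_pos hj] at hij
          have : (ab i).1 = (ab i).2 := by rw [hA i hi]; exact (Subtype.ext hij).symm
          exact (hab i hi).1 this
        · rw [if_neg hi, if_neg hj] at hij
          have hb : (ab i).2 = (ab j).2 := Subtype.ext hij
          have ha : (ab i).1 = (ab j).1 := by rw [hA i hi, hA j hj]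
          have g := hg i j hi hj hne
          have e1 : Cfsg.Agent.Lib.L0.kd (ab i).1 (ab j).1 = 1 := by
            unfold Cfsg.Agent.Lib.L0.kd; rw [if_pos ha]
          have e4 : Cfsg.Agent.Lib.L0.kd (ab i).2 (ab j).2 = 1 := by
            unfold Cfsg.Agent.Lib.L0.kd; rw [if_pos hb]
          have e2 : Cfsg.Agent.Lib.L0.kd (ab i).1 (ab j).2 = 0 :=
            Cfsg.Agent.Lib.L0.kd_of_ne (by rw [ha]; exact (hab j hj).1)
          have e3 : Cfsg.Agent.Lib.L0.kd (ab i).2 (ab j).1 = 0 :=
            Cfsg.Agent.Lib.L0.kd_of_ne (by rw [hb]; exact fun h => (hab j hj).1 h.symm)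
          rw [e1, e2, e3, e4] at g
          omega
      · intro i
        dsimp only
        by_cases hi : i = i₀
        · subst hi
          rw [h0]
          simp
        · rw [(hab i hi).2, if_neg hi, if_pos rfl, hA i hi]
          ext g
          simp
    · -- common negative part
      refine ⟨1, Or.inl rfl,
        fun i => if i = i₀ then ((ab i₁).2 : G → ℂ) else ((ab i).1 : G → ℂ), ?_, ?_, ?_⟩
      · intro i
        dsimp only
        split_ifs
        · exact (ab i₁).2.2
        · exact (ab i).1.2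
      · intro i j hij
        dsimp only at hij
        by_contra hne
        by_cases hi : i = i₀ <;> by_cases hj : j = i₀
        · exact hne (hi.trans hj.symm)
        · rw [if_pos hi, if_neg hj] at hij
          have : (ab j).1 = (ab j).2 := by rw [hB j hj]; exact (Subtype.ext hij).symm
          exact (hab j hj).1 this
        · rw [if_neg hi, if_pos hj] at hij
          have : (ab i).1 = (ab i).2 := by rw [hB i hi]; exact Subtype.ext hij
          exact (hab i hi).1 this
        · rw [if_neg hi, if_neg hj] at hij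
          have ha : (ab i).1 = (ab j).1 := Subtype.ext hij
          have hb : (ab i).2 = (ab j).2 := by rw [hB i hi, hB j hj]
          have g := hg i j hi hj hne
          have e1 : Cfsg.Agent.Lib.L0.kd (ab i).1 (ab j).1 = 1 := by
            unfold Cfsg.Agent.Lib.L0.kd; rw [if_pos ha]
          have e4 : Cfsg.Agent.Lib.L0.kd (ab i).2 (ab j).2 = 1 := by
            unfold Cfsg.Agent.Lib.L0.kd; rw [if_pos hb]
          have e2 : Cfsg.Agent.Lib.L0.kd (ab i).1 (ab j).2 = 0 :=
            Cfsg.Agent.Lib.L0.kd_of_ne (by rw [ha]; exact (hab j hj).1)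
          have e3 : Cfsg.Agent.Lib.L0.kd (ab i).2 (ab j).1 = 0 :=
            Cfsg.Agent.Lib.L0.kd_of_ne (by rw [hb]; exact fun h => (hab j hj).1 h.symm)
          rw [e1, e2, e3, e4] at g
          omega
      · intro i
        dsimp only
        by_cases hi : i = i₀
        · subst hi
          rw [h0]
          simp
        · rw [(hab i hi).2, if_neg hi, if_pos rfl, hB i hi]
          simp
  · push Not at hex
    refine ⟨1, Or.inl rfl, fun _ => (x₀ : G → ℂ), fun _ => x₀.2, ?_, ?_⟩
    · intro i j _
      rw [hex i, hex j]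
    · intro i
      rw [hex i, h0]
      simp

end Cfsg.Agent.S0198
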