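import Cfsg.Statements.S4718
import Cfsg.Agent.Lib.L0.Landau
import Cfsg.Agent.Lib.L0.BrauerFeit2
import Cfsg.Agent.Lib.L0.PrincipalCrit
import Cfsg.Agent.Lib.H24.CharOrth

set_option autoImplicit false
universe u
open Cfsg

namespace Cfsg.Agent.S4718

open Cfsg.Agent.Lib.H23 Cfsg.Agent.Lib.H24 Cfsg.Agent.Lib.L0 Cfsg.Agent.Lib.L0.BrauerFeit
  Cfsg.Agent.Lib.L0.PrincipalCrit

/-- Let p be a prime and a a natural number. There is a bound N such that every finite group whose Sylow p-subgroups have order p^a and whose only p-block (relative to a maximal ideal of the algebraic integers containing p) is the principal block has order at most N. -/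
theorem result (p : ℕ) [Fact p.Prime] (a : ℕ) : ∃ N : ℕ, ∀ (G : Type u) [Group G] [Finite G] (M : Ideal Cfsg.AlgInt), Cfsg.IsPModular p M → (Nat.card G).factorization p = a → (∀ B : Set (Cfsg.IrrCharacter G), Cfsg.IsPBlock M B → B = Cfsg.principalBlock M G) → Nat.card G ≤ N := by
  classical
  have hp : p.Prime := Fact.out
  obtain ⟨N, hN⟩ := Cfsg.Agent.Lib.L0.Landau.exists_card_bound.{u} (p ^ (2 * a) + 1)
  refine ⟨N, ?_⟩
  intro G _ _ M hM ha hone
  haveI := Fintype.ofFinite G
  haveI := Fintype.ofFinite (IrrCharacter G)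
  haveI hPr := isPrime_of_isPModular hM
  apply hN G
  rw [← card_irr_eq_card_conjClasses]
  -- every irreducible character lies in the principal block
  have hall : ∀ χ : IrrCharacter G, χ ∈ blockOf M (trivIrr G : G → ℂ) := by
    intro χ
    have h1 : blockOf M (χ : G → ℂ) = principalBlock M G := hone _ ⟨χ, rfl⟩
    have h2 : χ ∈ blockOf M (χ : G → ℂ) := mem_blockOf_self χ
    rw [h1] at h2
    exact h2
  have h4 := four_mul_card_le hM (trivIrr G)
  have hfilter : Finset.univ.filter (· ∈ blockOf M (trivIrr G : G → ℂ)) =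
      (Finset.univ : Finset (IrrCharacter G)) := by
    ext χ
    simp [hall χ]
  rw [hfilter, Finset.card_univ, ← Nat.card_eq_fintype_card] at h4
  have hd : blockDefect p (blockOf M (trivIrr G : G → ℂ)) ≤ a := by
    rw [blockDefect, ha]; exact Nat.sub_le _ _
  have hpow : p ^ (2 * blockDefect p (blockOf M (trivIrr G : G → ℂ))) ≤ p ^ (2 * a) :=
    Nat.pow_le_pow_right hp.pos (by omega)
  omega

end Cfsg.Agent.S4718
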