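import Cfsg.Statements.S0973
import Cfsg.Agent.Lib.H23.BlockExtFirstMain

set_option autoImplicit false
open Cfsg

namespace Cfsg.Agent.S0973

/-- Let B be a block of the finite group G with defect group P (relative to a maximal ideal M of the algebraic integers containing p), and let L = P ⊔ C_G(P). Then (i) some block b of L with defect group P (viewed in L) induces B, and (ii) if b and b' are blocks of L both inducing B, there is n ∈ N_G(P) carrying b to b': for every θ ∈ b there is θ' ∈ b' with θ' x = θ (n x n⁻¹) for all x ∈ L. -/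
theorem result {G : Type*} [Group G] [Finite G] (p : ℕ) [Fact p.Prime] (M : Ideal Cfsg.AlgInt) (hM : Cfsg.IsPModular p M) (B : Set (Cfsg.IrrCharacter G)) (hB : Cfsg.IsPBlock M B) (P : Subgroup G) (hP : Cfsg.IsDefectGroup p M B P) : (∃ b : Set (Cfsg.IrrCharacter ↥(P ⊔ Subgroup.centralizer (P : Set G))), Cfsg.IsDefectGroup p M b (P.subgroupOf (P ⊔ Subgroup.centralizer (P : Set G))) ∧ Cfsg.IsInducedBlock M (P ⊔ Subgroup.centralizer (P : Set G)) b B) ∧ ∀ b b' : Set (Cfsg.IrrCharacter ↥(P ⊔ Subgroup.centralizer (P : Set G))), Cfsg.IsInducedBlock M (P ⊔ Subgroup.centralizer (P : Set G)) b B → Cfsg.IsInducedBlock M (P ⊔ Subgroup.centralizer (P : Set G)) b' B → ∃ n ∈ Subgroup.normalizer (P : Set G), ∀ θ ∈ b, ∃ θ' ∈ b', ∀ x : ↥(P ⊔ Subgroup.centralizer (P : Set G)), ∀ hx : n * (x : G) * n⁻¹ ∈ P ⊔ Subgroup.centralizer (P : Set G), (θ' : ↥(P ⊔ Subgroup.centralizer (P : Set G)) → ℂ) x = (θ : ↥(P ⊔ Subgroup.centralizer (P : Set G)) → ℂ) ⟨n * (x : G) * n⁻¹, hx⟩ := by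
  classical
  haveI : Fintype G := Fintype.ofFinite G
  haveI hPr := Cfsg.Agent.Lib.H23.isPrime_of_isPModular hM
  obtain ⟨χ₀, rfl⟩ := hB
  haveI : Fintype ↥(P ⊔ Subgroup.centralizer (P : Set G)) := Fintype.ofFinite _
  haveI : Fintype ↥(Subgroup.normalizer (P : Set G)) := Fintype.ofFinite _
  haveI : Fintype ↥((P ⊔ Subgroup.centralizer (P : Set G)).subgroupOf
    (Subgroup.normalizer (P : Set G))) := Fintype.ofFinite _
  have hconj : ∀ n ∈ Subgroup.normalizer (P : Set G), ∀ x ∈ P ⊔ Subgroup.centralizer (P : Set G),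
      n * x * n⁻¹ ∈ P ⊔ Subgroup.centralizer (P : Set G) := by
    intro n hn x hx
    have h1 : (P ⊔ Subgroup.centralizer (P : Set G)).map (MulAut.conj n).toMonoidHom ≤
        P ⊔ Subgroup.centralizer (P : Set G) := by
      rw [Subgroup.map_sup]
      apply sup_le_sup
      · rintro _ ⟨y, hy, rfl⟩
        exact (Subgroup.mem_normalizer_iff.1 hn y).1 hy
      · rintro _ ⟨c, hc, rfl⟩
        rw [Subgroup.mem_centralizer_iff]
        intro y hy
        have hy' : n⁻¹ * y * n ∈ P := by
          have := (Subgroup.mem_normalizer_iff.1 (Subgroup.inv_mem _ hn) y).1 hy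
          simpa using this
        have h2 := Subgroup.mem_centralizer_iff.1 hc _ hy'
        simp only [MulEquiv.coe_toMonoidHom, MulAut.conj_apply]
        calc y * (n * c * n⁻¹) = n * ((n⁻¹ * y * n) * c) * n⁻¹ := by group
          _ = n * (c * (n⁻¹ * y * n)) * n⁻¹ := by rw [h2]
          _ = n * c * n⁻¹ * y := by group
    exact h1 ⟨x, hx, by simp⟩
  have hLN : P ⊔ Subgroup.centralizer (P : Set G) ≤ Subgroup.normalizer (P : Set G) :=
    sup_le Subgroup.le_normalizer (Subgroup.centralizer_le_normalizer _)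
  have hNL : Subgroup.normalizer (P : Set G) ≤
      Subgroup.normalizer ((P ⊔ Subgroup.centralizer (P : Set G) : Subgroup G) : Set G) := by
    intro n hn
    rw [Subgroup.mem_normalizer_iff]
    intro h
    constructor
    · exact hconj n hn h
    · intro hh
      have := hconj n⁻¹ (Subgroup.inv_mem _ hn) _ hh
      simpa [mul_assoc] using this
  haveI hnorm : ((P ⊔ Subgroup.centralizer (P : Set G)).subgroupOf
      (Subgroup.normalizer (P : Set G))).Normal :=
    Subgroup.normal_subgroupOf_of_le_normalizer hNL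
  constructor
  · obtain ⟨θ, hθD, hθind⟩ := Cfsg.Agent.Lib.H23.exists_root P
      (P ⊔ Subgroup.centralizer (P : Set G)) (Subgroup.normalizer (P : Set G)) hM rfl
      le_sup_left le_sup_right hLN χ₀ hP
    exact ⟨_, hθD, hθind⟩
  · intro b b' hb hb'
    obtain ⟨θ₁, rfl⟩ := hb.1
    obtain ⟨θ₂, rfl⟩ := hb'.1
    exact Cfsg.Agent.Lib.H23.roots_conj P
      (P ⊔ Subgroup.centralizer (P : Set G)) (Subgroup.normalizer (P : Set G)) hM rfl
      le_sup_right hLN χ₀ hP θ₁ θ₂ hb hb'

end Cfsg.Agent.S0973
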