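import Cfsg.Statements.S0631
import Cfsg.Agent.Lib.H7.PConstrained3
-- import your own Cfsg.Agent.* helpers here

set_option autoImplicit false
open Cfsg

namespace Cfsg.Agent.S0631

open Cfsg.Agent.Lib
open Cfsg.Agent.Lib.H7

/-- If `C_G(O_p(G)) ≤ O_p(G)` then `F*(C_G(P)) = O_p(C_G(P))` for every `p`-subgroup `P`. -/
theorem gfs_centralizer_eq_pCore_of_centralizer_le {G : Type*} [Group G] [Finite G] (p : ℕ)
    [Fact p.Prime] (h : Subgroup.centralizer (pCore p G : Set G) ≤ pCore p G) (P : Subgroup G)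
    (hP : IsPGroup p P) :
    generalizedFittingSubgroup ↥(Subgroup.centralizer (P : Set G)) =
      pCore p ↥(Subgroup.centralizer (P : Set G)) := by
  have hQn : (pCore p G).Normal := Cfsg.Agent.Lib.H1.pCore_normal p G
  have hQ : IsPGroup p (pCore p G) := Cfsg.Agent.Lib.H1.pCore_isPGroup p G
  have hNQ : Subgroup.normalizer ((pCore p G : Subgroup G) : Set G) = ⊤ :=
    Subgroup.normalizer_eq_top _
  apply generalizedFittingSubgroup_eq_pCore_of_le_centralizer p hQ hP
  · rw [hNQ]; exact le_top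
  · exact le_rfl
  · rw [hNQ]; exact le_top
  · exact inf_le_right
  · intro y _ hy hyQ
    exact eq_one_of_mem_of_isPGroup_of_coprime hQ (h hyQ) hy

theorem centralizer_of_pLayer_eq_bot {G : Type*} [Group G] [Finite G] (p : ℕ) [Fact p.Prime]
    (hL : pLayer p G = ⊥) (P : Subgroup G) (hP : IsPGroup p P) :
    pLayer p ↥(Subgroup.centralizer (P : Set G)) = ⊥ := by
  set N : Subgroup G := Subgroup.centralizer (P : Set G) with hN
  set O := pPrimeCore p G with hO
  set π := QuotientGroup.mk' O with hπ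
  have hOc : (Nat.card O).Coprime p := Cfsg.Agent.Lib.H22.card_pPrimeCore_coprime p
  have hF : Subgroup.centralizer (pCore p (G ⧸ O) : Set (G ⧸ O)) ≤ pCore p (G ⧸ O) :=
    centralizer_pCore_le_of_layer_eq_bot p (Cfsg.Agent.Lib.H9.pPrimeCore_quotient_eq_bot p)
      ((pLayer_eq_bot_iff_layer_quotient_eq_bot p).1 hL)
  set W : Subgroup G := (pPrimeCore p ↥N).map N.subtype with hW
  have hWN : W ≤ N := Subgroup.map_subtype_le _
  have hWc : (Nat.card W).Coprime p :=
    Nat.Coprime.coprime_dvd_left (Subgroup.card_map_dvd _ _)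
      (Cfsg.Agent.Lib.H22.card_pPrimeCore_coprime p)
  have hNW : N ≤ Subgroup.normalizer (W : Set G) := by
    intro g hg
    have hn : (pPrimeCore p ↥N).Normal := inferInstance
    rw [Subgroup.mem_normalizer_iff]
    intro x
    constructor
    · rintro ⟨y, hy, rfl⟩
      exact ⟨⟨g, hg⟩ * y * ⟨g, hg⟩⁻¹, hn.conj_mem y hy _, rfl⟩
    · rintro ⟨y, hy, hyx⟩
      refine ⟨⟨g, hg⟩⁻¹ * y * ⟨g, hg⟩, ?_, ?_⟩
      · have := hn.conj_mem y hy ⟨g, hg⟩⁻¹
        simpa using this
      · simp only [Subgroup.coe_subtype, Subgroup.coe_mul, InvMemClass.coe_inv] at hyx ⊢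
        rw [hyx]; group
  have hb : W ≤ O :=
    le_pPrimeCore_of_le_centralizer p hF hP hWc hWN hNW
  have hKeq : pPrimeCore p ↥N = O.subgroupOf N := by
    apply le_antisymm
    · intro x hx
      rw [Subgroup.mem_subgroupOf]
      exact hb ⟨x, hx, rfl⟩
    · apply Cfsg.Agent.Lib.H22.le_pPrimeCore p _ inferInstance
      have h1 : Nat.card (O.subgroupOf N) = Nat.card ((O.subgroupOf N).map N.subtype) :=
        Nat.card_congr ((O.subgroupOf N).equivMapOfInjective N.subtype
          (Subgroup.subtype_injective N)).toEquiv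
      rw [h1, Subgroup.subgroupOf_map_subtype]
      exact Nat.Coprime.coprime_dvd_left (Subgroup.card_dvd_of_le inf_le_left) hOc
  have hmapN : N.map π = Subgroup.centralizer ((P.map π : Subgroup (G ⧸ O)) : Set (G ⧸ O)) :=
    map_centralizer_of_coprime p hOc hP
  have e : (↥N ⧸ pPrimeCore p ↥N) ≃*
      ↥(Subgroup.centralizer ((P.map π : Subgroup (G ⧸ O)) : Set (G ⧸ O))) :=
    (quotientPPrimeCoreEquiv' p hKeq).trans (MulEquiv.subgroupCongr hmapN)
  have h1 := gfs_centralizer_eq_pCore_of_centralizer_le p hF (P.map π) (hP.map π)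
  have h2 := layer_eq_bot_of_gfs_eq_pCore p h1
  rw [pLayer_eq_bot_iff_layer_quotient_eq_bot]
  have h3 := layer_map_equiv e
  rw [h2] at h3
  exact (Subgroup.map_eq_bot_iff_of_injective _ e.injective).1 h3


/-- In a p-constrained group the normalizer and the centralizer of any p-subgroup are again p-constrained. -/
theorem result {G : Type*} [Group G] [Finite G] {p : ℕ} [Fact p.Prime] (hG : Cfsg.IsPConstrained p G) (P : Subgroup G) (hP : IsPGroup p P) : Cfsg.IsPConstrained p ↥(Subgroup.normalizer (P : Set G)) ∧ Cfsg.IsPConstrained p ↥(Subgroup.centralizer (P : Set G)) := by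
  have hL := (H7.isPConstrained_iff_pLayer_eq_bot p).1 hG
  refine ⟨(H7.isPConstrained_iff_pLayer_eq_bot p).2 (H7.pLocal_of_pLayer_eq_bot p hL P hP).1, ?_⟩
  rw [H7.isPConstrained_iff_pLayer_eq_bot]
  exact centralizer_of_pLayer_eq_bot p hL P hP


end Cfsg.Agent.S0631
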