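import Cfsg.Statements.S4444
import Mathlib
import Cfsg.Agent.Lib.H24.GlaubAmb7

set_option autoImplicit false
open Cfsg

namespace Cfsg.Agent.S4444

/-- The Glauberman correspondence for a p-group of operators. Inside a finite group Γ let S normalise G with the orders of G and S coprime, S a p-group, and let C = G ⊓ C(S) be the fixed points. Call an irreducible character χ of G S-invariant when χ(s g s⁻¹) = χ(g) for s ∈ S, g ∈ G. Then: (i) for every S-invariant χ there is exactly one irreducible character β of C whose multiplicity [χ_C, β] in the restriction of χ is not divisible by p; (ii) that multiplicity is ≡ 1 or ≡ −1 (mod p); (iii) distinct S-invariant χ give distinct β; (iv) every irreducible character of C arises in this way. So χ ↦ β is a bijection from the S-invariant irreducible characters of G onto the irreducible characters of C. -/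
theorem result {Γ : Type*} [Group Γ] [Fintype Γ] (G S : Subgroup Γ) [Fintype G] (hnorm : ∀ s ∈ S, ∀ g ∈ G, s * g * s⁻¹ ∈ G) (hcop : (Nat.card G).Coprime (Nat.card S)) (p : ℕ) (hp : p.Prime) (hS : IsPGroup p S) (C : Subgroup Γ) [Fintype C] (hC : C = G ⊓ Subgroup.centralizer (S : Set Γ)) (hCG : C ≤ G) : (∀ χ : Cfsg.IrrCharacter G, (∀ s ∈ S, ∀ g g' : G, (g' : Γ) = s * g * s⁻¹ → (χ : G → ℂ) g' = (χ : G → ℂ) g) → ∃! β : Cfsg.IrrCharacter C, ∃ m : ℕ, Cfsg.classInner (fun c : C => (χ : G → ℂ) ⟨c, hCG c.2⟩) (β : C → ℂ) = (m : ℂ) ∧ ¬ p ∣ m) ∧ (∀ χ : Cfsg.IrrCharacter G, (∀ s ∈ S, ∀ g g' : G, (g' : Γ) = s * g * s⁻¹ → (χ : G → ℂ) g' = (χ : G → ℂ) g) → ∀ β : Cfsg.IrrCharacter C, ∀ m : ℕ, Cfsg.classInner (fun c : C => (χ : G → ℂ) ⟨c, hCG c.2⟩) (β : C → ℂ) = (m : ℂ) → ¬ p ∣ m → ((m : ℤ) ≡ 1 [ZMOD p] ∨ (m : ℤ) ≡ -1 [ZMOD p])) ∧ (∀ χ χ' : Cfsg.IrrCharacter G, (∀ s ∈ S, ∀ g g' : G, (g' : Γ) = s * g * s⁻¹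 → (χ : G → ℂ) g' = (χ : G → ℂ) g) → (∀ s ∈ S, ∀ g g' : G, (g' : Γ) = s * g * s⁻¹ → (χ' : G → ℂ) g' = (χ' : G → ℂ) g) → ∀ β : Cfsg.IrrCharacter C, ∀ m m' : ℕ, Cfsg.classInner (fun c : C => (χ : G → ℂ) ⟨c, hCG c.2⟩) (β : C → ℂ) = (m : ℂ) → ¬ p ∣ m → Cfsg.classInner (fun c : C => (χ' : G → ℂ) ⟨c, hCG c.2⟩) (β : C → ℂ) = (m' : ℂ) → ¬ p ∣ m' → χ = χ') ∧ (∀ β : Cfsg.IrrCharacter C, ∃ χ : Cfsg.IrrCharacter G, (∀ s ∈ S, ∀ g g' : G, (g' : Γ) = s * g * s⁻¹ → (χ : G → ℂ) g' = (χ : G → ℂ) g) ∧ ∃ m : ℕ, Cfsg.classInner (fun c : C => (χ : G → ℂ) ⟨c, hCG c.2⟩) (β : C → ℂ) = (m : ℂ) ∧ ¬ p ∣ m) := by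
  classical
  -- the correspondence
  have corr : Cfsg.Agent.Lib.H24.Glaub.GCorr p hCG
      (fun χ => ∀ x ∈ S, Cfsg.Agent.Lib.H24.Glaub.InvUnder G x χ) := by
    by_cases hS1 : S = ⊥
    · have hC' : C = G := by
        rw [hC, hS1]
        ext x
        simp [Subgroup.mem_centralizer_iff]
      apply Cfsg.Agent.Lib.H24.Glaub.gcorr_of_eq hp hCG hC'
      intro χ x hx
      rw [hS1, Subgroup.mem_bot] at hx
      rw [hx]
      exact Cfsg.Agent.Lib.H24.Glaub.invUnder_one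
    · have hpS : p ∣ Nat.card S := by
        have : Fact p.Prime := ⟨hp⟩
        rcases hS.card_eq_or_dvd with h | h
        · exfalso
          exact hS1 ((Subgroup.card_eq_one).mp h)
        · exact h
      have hpG : ¬ p ∣ Nat.card G := by
        intro h
        have := Nat.eq_one_of_dvd_coprimes hcop h hpS
        exact hp.one_lt.ne' this
      exact Cfsg.Agent.Lib.H24.Glaub.pgroup_corr hp (Nat.card S) G S C rfl hnorm hS hpG hC hCG
  have hspec : ∀ (χ : Cfsg.IrrCharacter G) (β : Cfsg.IrrCharacter C),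
      Cfsg.classInner (fun c : C => (χ : G → ℂ) ⟨c, hCG c.2⟩) (β : C → ℂ) =
        (Cfsg.Agent.Lib.H24.Glaub.resMult hCG (χ : G → ℂ) (β : C → ℂ) : ℂ) := by
    intro χ β
    exact (Cfsg.Agent.Lib.H24.Glaub.resMult_spec hCG
      (Cfsg.Agent.Lib.L0.isCharacter_of_irr χ.2) β.2).symm
  have hm : ∀ (χ : Cfsg.IrrCharacter G) (β : Cfsg.IrrCharacter C) (m : ℕ),
      Cfsg.classInner (fun c : C => (χ : G → ℂ) ⟨c, hCG c.2⟩) (β : C → ℂ) = (m : ℂ) →
        Cfsg.Agent.Lib.H24.Glaub.resMult hCG (χ : G → ℂ) (β : C → ℂ) = m := by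
    intro χ β m h
    rw [hspec] at h
    exact_mod_cast h
  refine ⟨?_, ?_, ?_, ?_⟩
  · intro χ hχ
    obtain ⟨β, ε, hε, h⟩ := corr.exists_corr χ hχ
    refine ⟨β, ⟨_, hspec χ β, ?_⟩, ?_⟩
    · have h1 := h β
      rw [if_pos rfl] at h1
      exact Cfsg.Agent.Lib.H24.Glaub.not_dvd_of_dvd_sub_sign hp hε h1
    · rintro β' ⟨m', hm', hpm'⟩
      have h2 := hm χ β' m' hm'
      rw [← h2] at hpm'
      exact Cfsg.Agent.Lib.H24.Glaub.GCorr.eq_of_not_dvd h hpm'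
  · intro χ hχ β m hmβ hpm
    obtain ⟨β₀, ε, hε, h⟩ := corr.exists_corr χ hχ
    have h2 := hm χ β m hmβ
    rw [← h2] at hpm
    have e1 : β = β₀ := Cfsg.Agent.Lib.H24.Glaub.GCorr.eq_of_not_dvd h hpm
    have h3 := h β
    rw [if_pos e1, h2, mul_one] at h3
    rcases hε with rfl | rfl
    · left
      rw [Int.modEq_iff_dvd]
      exact (dvd_sub_comm).mp h3
    · right
      rw [Int.modEq_iff_dvd]
      exact (dvd_sub_comm).mp h3
  · intro χ χ' hχ hχ' β m m' hmβ hpm hmβ' hpm'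
    have h2 := hm χ β m hmβ
    have h2' := hm χ' β m' hmβ'
    rw [← h2] at hpm
    rw [← h2'] at hpm'
    exact corr.inj χ χ' hχ hχ' β hpm hpm'
  · intro β
    obtain ⟨χ, hχ, hpm⟩ := corr.surj β
    exact ⟨χ, hχ, _, hspec χ β, hpm⟩

end Cfsg.Agent.S4444
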