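import Cfsg.Statements.S4435
import Cfsg.Agent.Lib.H23.FRBlock
open Cfsg.Agent.Lib.H23 Cfsg.Agent.Lib.H23.FR Cfsg.Agent.Lib.L0

set_option autoImplicit false
open Cfsg

namespace Cfsg.Agent.S4435

/-- Let N be a normal subgroup of the finite group G, b a block of N (relative to a maximal ideal M of the algebraic integers containing p), and T the stabilizer of b in G (the elements g such that conjugating any member of b by g gives a member of b); N ≤ T. Say that a block of T (or of G) covers b when some member has a constituent in b on restriction to N. Then: (i) every block B′ of T covering b induces a block B of G, B covers b, every ψ ∈ B′ induces to an irreducible character of G, and B consists exactly of the characters induced from members of B′; (ii) distinct blocks of T covering b induce distinct blocks of G; (iii) every block of G covering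 b is induced by some block of T covering b. -/
theorem result {G : Type*} [Group G] [Fintype G] (p : ℕ) [Fact p.Prime] (M : Ideal Cfsg.AlgInt) (hM : Cfsg.IsPModular p M) (N : Subgroup G) [hN : N.Normal] [Fintype N] (b : Set (Cfsg.IrrCharacter N)) (hb : Cfsg.IsPBlock M b) (T : Subgroup G) [Fintype T] (hT : ∀ g : G, g ∈ T ↔ ∀ θ ∈ b, ∀ θ' : Cfsg.IrrCharacter N, (∀ n : N, (θ' : N → ℂ) n = (θ : N → ℂ) ⟨g * n * g⁻¹, hN.conj_mem n n.2 g⟩) → θ' ∈ b) (hNT : N ≤ T) : (∀ B' : Set (Cfsg.IrrCharacter T), Cfsg.IsPBlock M B' → (∃ ψ ∈ B', ∃ θ ∈ b, Cfsg.classInner (fun n : N => (ψ : T → ℂ) ⟨(n : G), hNT n.2⟩) (θ : N → ℂ) ≠ 0) → ∃ B : Set (Cfsg.IrrCharacter G), Cfsg.IsInducedBlock M T B' B ∧ (∃ χ ∈ B, ∃ θ ∈ b, Cfsg.classInner (fun n : N => (χ : G → ℂ) n) (θ : N → ℂ) ≠ 0) ∧ (∀ ψ ∈ B', Cfsg.IsIrrCharacter G (Cfsg.indFun T (ψ : T → ℂ))) ∧ ∀ χ : Cfsg.IrrCharacter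 G, χ ∈ B ↔ ∃ ψ ∈ B', (χ : G → ℂ) = Cfsg.indFun T (ψ : T → ℂ)) ∧ (∀ B'₁ B'₂ : Set (Cfsg.IrrCharacter T), Cfsg.IsPBlock M B'₁ → Cfsg.IsPBlock M B'₂ → (∃ ψ ∈ B'₁, ∃ θ ∈ b, Cfsg.classInner (fun n : N => (ψ : T → ℂ) ⟨(n : G), hNT n.2⟩) (θ : N → ℂ) ≠ 0) → (∃ ψ ∈ B'₂, ∃ θ ∈ b, Cfsg.classInner (fun n : N => (ψ : T → ℂ) ⟨(n : G), hNT n.2⟩) (θ : N → ℂ) ≠ 0) → ∀ B : Set (Cfsg.IrrCharacter G), Cfsg.IsInducedBlock M T B'₁ B → Cfsg.IsInducedBlock M T B'₂ B → B'₁ = B'₂) ∧ (∀ B : Set (Cfsg.IrrCharacter G), Cfsg.IsPBlock M B → (∃ χ ∈ B, ∃ θ ∈ b, Cfsg.classInner (fun n : N => (χ : G → ℂ) n) (θ : N → ℂ) ≠ 0) → ∃ B' : Set (Cfsg.IrrCharacter T), Cfsg.IsPBlock M B' ∧ (∃ ψ ∈ B', ∃ θ ∈ b, Cfsg.classInner (fun n : N => (ψ : T → ℂ) ⟨(n : G), hNT n.2⟩) (θ : N → ℂ) ≠ 0) ∧ Cfsg.IsInducedBlock M T B' B) := by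
  classical
  haveI hP := isPrime_of_isPModular hM
  obtain ⟨hTb, hdisj⟩ := stab_props N T b hb hT
  refine ⟨?_, ?_, ?_⟩
  · intro B' hB' ⟨ψ₀, hψ₀B, θ, hθ, hne⟩
    have hover₀ : OverB N T hNT b ψ₀ := ⟨θ, hθ, hne⟩
    have hB'eq := isPBlock_eq_blockOf hB' hψ₀B
    obtain ⟨χ₀, hχ₀, -, -⟩ := exists_irr_eq_indFun N T hNT b hTb hdisj ψ₀ hover₀
    have hover : ∀ ψ ∈ B', OverB N T hNT b ψ := by
      intro ψ hψ
      rw [hB'eq] at hψ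
      exact overB_of_sameBlock N T hNT hM b hb hTb ψ₀ ψ hψ hover₀
    refine ⟨blockOf M (χ₀ : G → ℂ), ?_, ?_, ?_, ?_⟩
    · rw [hB'eq]
      exact isInducedBlock_of_indFun_eq T ψ₀ χ₀ hχ₀
    · refine ⟨χ₀, mem_blockOf_self χ₀, θ, hθ, ?_⟩
      have := classInner_restrict_indFun_of_mem N T hNT b hTb hdisj ψ₀ hover₀ θ hθ
      rw [hχ₀, this]
      exact hne
    · intro ψ hψ
      obtain ⟨χ, hχ, -, -⟩ := exists_irr_eq_indFun N T hNT b hTb hdisj ψ (hover ψ hψ)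
      rw [← hχ]; exact χ.2
    · intro χ
      have := indSet_blockOf_eq N T hNT hM b hb hTb hdisj ψ₀ hover₀ χ₀ hχ₀
      rw [← this, hB'eq]
      rfl
  · intro B'₁ B'₂ hB'₁ hB'₂ ⟨ψ₁, hψ₁B, θ₁, hθ₁, hne₁⟩ ⟨ψ₂, hψ₂B, θ₂, hθ₂, hne₂⟩ B h1 h2
    have hover₁ : OverB N T hNT b ψ₁ := ⟨θ₁, hθ₁, hne₁⟩
    have hover₂ : OverB N T hNT b ψ₂ := ⟨θ₂, hθ₂, hne₂⟩
    have hB1 := isPBlock_eq_blockOf hB'₁ hψ₁B
    have hB2 := isPBlock_eq_blockOf hB'₂ hψ₂B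
    obtain ⟨χ₁, hχ₁, -, -⟩ := exists_irr_eq_indFun N T hNT b hTb hdisj ψ₁ hover₁
    obtain ⟨χ₂, hχ₂, -, -⟩ := exists_irr_eq_indFun N T hNT b hTb hdisj ψ₂ hover₂
    have e1 : B = blockOf M (χ₁ : G → ℂ) := by
      rw [hB1] at h1
      exact isInducedBlock_unique T h1 (isInducedBlock_of_indFun_eq T ψ₁ χ₁ hχ₁)
    have e2 : B = blockOf M (χ₂ : G → ℂ) := by
      rw [hB2] at h2
      exact isInducedBlock_unique T h2 (isInducedBlock_of_indFun_eq T ψ₂ χ₂ hχ₂)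
    have h3 : χ₂ ∈ indSet T (blockOf M (ψ₁ : T → ℂ)) := by
      rw [indSet_blockOf_eq N T hNT hM b hb hTb hdisj ψ₁ hover₁ χ₁ hχ₁, ← e1, e2]
      exact mem_blockOf_self χ₂
    obtain ⟨ψ, hψ, hχ⟩ := h3
    have hoverψ : OverB N T hNT b ψ := overB_of_sameBlock N T hNT hM b hb hTb ψ₁ ψ hψ hover₁
    have h4 : ψ₂ = ψ := indFun_injOn N T hNT b hTb hdisj ψ ψ₂ hoverψ hover₂ (hχ.symm.trans hχ₂)
    rw [hB1, hB2, h4]
    exact (blockOf_eq_of_mem hψ).symm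
  · intro B hB ⟨χ, hχB, θ, hθ, hne⟩
    obtain ⟨ψ, hψ, hχ⟩ := exists_over N T hNT b hTb hdisj χ θ hθ hne
    refine ⟨blockOf M (ψ : T → ℂ), ⟨ψ, rfl⟩, ⟨ψ, mem_blockOf_self ψ, θ, hθ, hψ⟩, ?_⟩
    rw [isPBlock_eq_blockOf hB hχB]
    exact isInducedBlock_of_indFun_eq T ψ χ hχ

end Cfsg.Agent.S4435
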