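import Cfsg.Statements.S4436
import Cfsg.Agent.Lib.H23.FRBlock
open Cfsg.Agent.Lib.H23 Cfsg.Agent.Lib.H23.FR Cfsg.Agent.Lib.L0

set_option autoImplicit false
open Cfsg

namespace Cfsg.Agent.S4436

/-- Let N be a normal subgroup of the finite group G, b a block of N (relative to a maximal ideal M of the algebraic integers containing p), T the stabilizer of b in G, N ≤ T, and B′ a block of T covering b (some member of B′ has a constituent in b on restriction to N) that induces the block B of G. Then every defect group of B′ is a defect group of B, and for every ψ ∈ B′ the induced character ψ^G is an irreducible character of G lying in B with the same height as ψ. -/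
theorem result {G : Type*} [Group G] [Fintype G] (p : ℕ) [Fact p.Prime] (M : Ideal Cfsg.AlgInt) (hM : Cfsg.IsPModular p M) (N : Subgroup G) [hN : N.Normal] [Fintype N] (b : Set (Cfsg.IrrCharacter N)) (hb : Cfsg.IsPBlock M b) (T : Subgroup G) [Fintype T] (hT : ∀ g : G, g ∈ T ↔ ∀ θ ∈ b, ∀ θ' : Cfsg.IrrCharacter N, (∀ n : N, (θ' : N → ℂ) n = (θ : N → ℂ) ⟨g * n * g⁻¹, hN.conj_mem n n.2 g⟩) → θ' ∈ b) (hNT : N ≤ T) (B' : Set (Cfsg.IrrCharacter T)) (hB' : Cfsg.IsPBlock M B') (hcov : (∃ ψ ∈ B', ∃ θ ∈ b, Cfsg.classInner (fun n : N => (ψ : T → ℂ) ⟨(n : G), hNT n.2⟩) (θ : N → ℂ) ≠ 0)) (B : Set (Cfsg.IrrCharacter G)) (hind : Cfsg.IsInducedBlock M T B' B) : (∀ D : Subgroup T, Cfsg.IsDefectGroup p M B' D → Cfsg.IsDefectGroup p M B (D.map T.subtype)) ∧ ∀ ψ ∈ B', ∃ χ ∈ B, (χ : G → ℂ) = Cfsg.indFun T (ψ : T → ℂ) ∧ Cfsg.blockHeight p B (χ : G → ℂ) = Cfsg.blockHeight p B' (ψ : T → ℂ) := by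
  classical
  haveI hP := isPrime_of_isPModular hM
  obtain ⟨hTb, hdisj⟩ := stab_props N T b hb hT
  obtain ⟨ψ₀, hψ₀B, θ, hθ, hne⟩ := hcov
  have hover₀ : OverB N T hNT b ψ₀ := ⟨θ, hθ, hne⟩
  have hB'eq := isPBlock_eq_blockOf hB' hψ₀B
  obtain ⟨χ₀, hχ₀, -, -⟩ := exists_irr_eq_indFun N T hNT b hTb hdisj ψ₀ hover₀
  have hBeq : B = blockOf M (χ₀ : G → ℂ) := by
    rw [hB'eq] at hind
    exact isInducedBlock_unique T hind (isInducedBlock_of_indFun_eq T ψ₀ χ₀ hχ₀)
  have hset := indSet_blockOf_eq N T hNT hM b hb hTb hdisj ψ₀ hover₀ χ₀ hχ₀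
  have hover : ∀ ψ ∈ blockOf M (ψ₀ : T → ℂ), OverB N T hNT b ψ := fun ψ hψ =>
    overB_of_sameBlock N T hNT hM b hb hTb ψ₀ ψ hψ hover₀
  have hirr : ∀ ψ ∈ blockOf M (ψ₀ : T → ℂ), IsIrrCharacter G (indFun T (ψ : T → ℂ)) := by
    intro ψ hψ
    obtain ⟨χ, hχ, -, -⟩ := exists_irr_eq_indFun N T hNT b hTb hdisj ψ (hover ψ hψ)
    rw [← hχ]; exact χ.2
  have hmin := minDeg_indSet (p := p) T (blockOf M (ψ₀ : T → ℂ)) ⟨ψ₀, mem_blockOf_self ψ₀⟩ hirr
  rw [hset] at hmin
  subst hBeq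
  subst hB'eq
  have hidx0 : T.index ≠ 0 := Subgroup.index_ne_zero_of_finite
  constructor
  · intro D hD
    obtain ⟨E, hE, hDE⟩ := defectGroup_le_of_induced T hM hind D hD
    have hcE := card_defectGroup hM χ₀ E hE
    have hcD := card_defectGroup hM ψ₀ D hD
    have hdef : blockDefect p (blockOf M (χ₀ : G → ℂ)) =
        blockDefect p (blockOf M (ψ₀ : T → ℂ)) := by
      unfold blockDefect
      rw [hmin]
      have : (Nat.card G).factorization p =
          (Nat.card T).factorization p + T.index.factorization p := by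
        rw [← T.card_mul_index, Nat.factorization_mul Nat.card_pos.ne' hidx0]
        rfl
      omega
    have : D.map T.subtype = E := by
      apply Subgroup.eq_of_le_of_card_ge hDE
      rw [Subgroup.card_map_of_injective T.subtype_injective, hcE, hcD, hdef]
    rw [this]
    exact hE
  · intro ψ hψ
    refine ⟨⟨indFun T (ψ : T → ℂ), hirr ψ hψ⟩, ?_, rfl, ?_⟩
    · rw [← hset]
      exact ⟨ψ, hψ, rfl⟩
    · unfold blockHeight
      rw [hmin]
      show (charDegree (indFun T (ψ : T → ℂ))).factorization p - _ = _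
      rw [charDegree_indFun, Nat.factorization_mul hidx0 (charDegree_pos _ ψ.2).ne']
      simp only [Finsupp.add_apply]
      omega

end Cfsg.Agent.S4436
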