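import Cfsg.Statements.S0265
import Mathlib
import Cfsg.Agent.Lib.H2.SLCard

set_option autoImplicit false
open Cfsg

namespace Cfsg.Agent.S0265

open Cfsg.Agent.Lib.H2 Matrix

theorem scalar_injective {n : Type*} [Fintype n] [DecidableEq n] [Nonempty n] {R : Type*} [CommRing R] :
    Function.Injective (GeneralLinearGroup.scalar n : Rˣ →* GL n R) := by
  intro u v h
  obtain ⟨i⟩ := (inferInstance : Nonempty n)
  have h1 := congrArg (fun g : GL n R => (g : Matrix n n R) i i) h
  simp only [GeneralLinearGroup.coe_scalar, Matrix.scalar_apply, Matrix.diagonal_apply_eq] at h1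
  exact Units.ext h1

theorem card_center_GL {n : Type*} [Fintype n] [DecidableEq n] [Nonempty n] {R : Type*} [CommRing R] :
    Nat.card (Subgroup.center (GL n R)) = Nat.card Rˣ := by
  rw [GeneralLinearGroup.center_eq_range_scalar]
  exact (Nat.card_congr (MonoidHom.ofInjective scalar_injective).toEquiv).symm

/-- |PGL_n(q)| = |SL_n(q)|: GL_n modulo its centre (the q-1 non-zero scalars) has the same order as the kernel of det. -/
theorem result {F : Type*} [Field F] [Fintype F] (n : ℕ) : Nat.card (Matrix.ProjGenLinGroup (Fin n) F) = Nat.card (Matrix.SpecialLinearGroup (Fin n) F) := by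
  change Nat.card (GL (Fin n) F ⧸ Subgroup.center (GL (Fin n) F)) = _
  rcases Nat.eq_zero_or_pos n with h0 | hpos
  · subst h0
    have h1 : Subsingleton (GL (Fin 0) F) := inferInstance
    have h2 : Subsingleton (Matrix.SpecialLinearGroup (Fin 0) F) := inferInstance
    have h3 : Subsingleton (GL (Fin 0) F ⧸ Subgroup.center (GL (Fin 0) F)) :=
      (QuotientGroup.mk_surjective).subsingleton
    rw [Nat.card_eq_one_iff_unique.2 ⟨h3, ⟨1⟩⟩, Nat.card_eq_one_iff_unique.2 ⟨h2, ⟨1⟩⟩]
  · have : Nonempty (Fin n) := ⟨⟨0, hpos⟩⟩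
    have h1 := card_SL_mul_card_units (n := Fin n) (R := F)
    have h2 := Subgroup.card_eq_card_quotient_mul_card_subgroup (Subgroup.center (GL (Fin n) F))
    rw [card_center_GL] at h2
    rw [h2] at h1
    have hpos' : 0 < Nat.card Fˣ := Nat.card_pos
    exact (Nat.eq_of_mul_eq_mul_right hpos' h1).symm

end Cfsg.Agent.S0265
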