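import Cfsg.Statements.S5752
import Mathlib
import Cfsg.Agent.Lib.H7.TWS4

set_option autoImplicit false
open Cfsg

namespace Cfsg.Agent.S5752

/-- A form of the Thompson–Wielandt Theorem on primitive permutation groups. Let G be a finite group and M₁, M₂ two distinct conjugate maximal subgroups of G with trivial core in G; define two descending sequences of subgroups by A₀ = M₁, B₀ = M₂ and, for every i, A_{i+1} = the core in M₁ of A_i ∩ B_i and B_{i+1} = the core in M₂ of A_i ∩ B_i (the core in M of a subgroup Y ≤ M is the largest normal subgroup of M contained in Y). If A₂ and B₂ are both non-trivial, then for some prime p the subgroup generated by A₂ and B₂ is a p-group, and for each j the generalized Fitting subgroups of M_j and of its first core (A₁, resp. B₁) are their largest normal p-subgroups. -/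
theorem result {G : Type*} [Group G] [Finite G] (M₁ M₂ : Subgroup G) (hmax : IsCoatom M₁) (g : G)
    (hconj : M₂ = M₁.map (MulAut.conj g).toMonoidHom) (hne : M₁ ≠ M₂) (hcore : M₁.normalCore = ⊥)
    (A B : ℕ → Subgroup G) (hA0 : A 0 = M₁) (hB0 : B 0 = M₂)
    (hA : ∀ i, A (i + 1) = ((A i ⊓ B i).subgroupOf M₁).normalCore.map M₁.subtype)
    (hB : ∀ i, B (i + 1) = ((A i ⊓ B i).subgroupOf M₂).normalCore.map M₂.subtype) (hA2 : A 2 ≠ ⊥) (hB2 : B 2 ≠ ⊥) :
    ∃ p : ℕ, p.Prime ∧ IsPGroup p ↥(A 2 ⊔ B 2) ∧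
      Cfsg.generalizedFittingSubgroup ↥M₁ = Cfsg.pCore p ↥M₁ ∧ Cfsg.generalizedFittingSubgroup ↥(A 1) = Cfsg.pCore p ↥(A 1) ∧
      Cfsg.generalizedFittingSubgroup ↥M₂ = Cfsg.pCore p ↥M₂ ∧ Cfsg.generalizedFittingSubgroup ↥(B 1) = Cfsg.pCore p ↥(B 1) := by
  have hA1 : A 1 = Cfsg.Agent.Lib.H7.TW.coreIn M₁ (M₁ ⊓ M₂) := by
    have := hA 0
    rw [hA0, hB0] at this
    exact this
  have hB1 : B 1 = Cfsg.Agent.Lib.H7.TW.coreIn M₂ (M₁ ⊓ M₂) := by
    have := hB 0
    rw [hA0, hB0] at this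
    exact this
  have hA2' : A 2 = Cfsg.Agent.Lib.H7.TW.coreIn M₁ (A 1 ⊓ B 1) := hA 1
  have hB2' : B 2 = Cfsg.Agent.Lib.H7.TW.coreIn M₂ (A 1 ⊓ B 1) := hB 1
  have hM1 := Cfsg.Agent.Lib.H7.TW.normalizer_le_of_isCoatom hmax hcore
  have hN1 := Cfsg.Agent.Lib.H7.TW.normalizer_le_map_conj g hM1
  rw [← hconj] at hN1
  have hS : Cfsg.Agent.Lib.H7.TW.Setup M₁ M₂ (A 1) (B 1) (A 2) (B 2) :=
    { hM1 := hM1
      hN1 := hN1
      A1_le := by rw [hA1]; exact Cfsg.Agent.Lib.H7.TW.coreIn_le_right _ _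
      A1_norm := by rw [hA1]; exact Cfsg.Agent.Lib.H7.TW.le_normalizer_coreIn _ _
      A1_max := by
        intro x hx hm
        rw [hA1]
        exact Cfsg.Agent.Lib.H7.TW.mem_coreIn.2 ⟨hx, fun m hm' => Subgroup.mem_inf.2
          ⟨M₁.mul_mem (M₁.mul_mem hm' hx) (M₁.inv_mem hm'), hm m hm'⟩⟩
      B1_le := by rw [hB1]; exact Cfsg.Agent.Lib.H7.TW.coreIn_le_right _ _
      B1_norm := by rw [hB1]; exact Cfsg.Agent.Lib.H7.TW.le_normalizer_coreIn _ _
      B1_max := by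
        intro x hx hm
        rw [hB1]
        exact Cfsg.Agent.Lib.H7.TW.mem_coreIn.2 ⟨hx, fun m hm' => Subgroup.mem_inf.2
          ⟨hm m hm', M₂.mul_mem (M₂.mul_mem hm' hx) (M₂.inv_mem hm')⟩⟩
      A2_le := by rw [hA2']; exact Cfsg.Agent.Lib.H7.TW.coreIn_le_right _ _
      A2_norm := by rw [hA2']; exact Cfsg.Agent.Lib.H7.TW.le_normalizer_coreIn _ _
      A2_ne := hA2
      B2_le := by rw [hB2']; exact Cfsg.Agent.Lib.H7.TW.coreIn_le_right _ _
      B2_norm := by rw [hB2']; exact Cfsg.Agent.Lib.H7.TW.le_normalizer_coreIn _ _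
      B2_ne := hB2 }
  apply hS.main hne
  intro q _
  rw [hconj, Cfsg.Agent.Lib.H14.pCoreOf_map_conj]
  exact (Subgroup.card_map_of_injective (MulAut.conj g).injective).symm

end Cfsg.Agent.S5752
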