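import Cfsg.Statements.S0572
-- import your own Cfsg.Agent.* helpers here
import Mathlib

set_option autoImplicit false
open Cfsg

namespace Cfsg.Agent.S0572
open scoped commutatorElement

variable {G : Type*} [Group G]

theorem comm_mul_left (x y z : G) : ⁅x * y, z⁆ = x * ⁅y, z⁆ * x⁻¹ * ⁅x, z⁆ := by
  simp only [commutatorElement_def]; group

theorem comm_mul_right (x y z : G) : ⁅x, y * z⁆ = ⁅x, y⁆ * (y * ⁅x, z⁆ * y⁻¹) := by
  simp only [commutatorElement_def]; group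

theorem conj_comm (g x y : G) : g * ⁅x, y⁆ * g⁻¹ = ⁅g * x * g⁻¹, g * y * g⁻¹⁆ := by
  simp only [commutatorElement_def]; group

/-- The key identity of Itô's theorem. -/
theorem key (A B : Subgroup G) (hA : ∀ x ∈ A, ∀ y ∈ A, x * y = y * x)
    (hB : ∀ x ∈ B, ∀ y ∈ B, x * y = y * x)
    (hAB : ∀ g : G, ∃ a ∈ A, ∃ b ∈ B, g = a * b)
    {a a1 b b1 : G} (ha : a ∈ A) (ha1 : a1 ∈ A) (hb : b ∈ B) (hb1 : b1 ∈ B) :
    (b1 * a1) * ⁅a, b⁆ * (b1 * a1)⁻¹ = (a1 * b1) * ⁅a, b⁆ * (a1 * b1)⁻¹ := by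
  have hBA : ∀ g : G, ∃ b ∈ B, ∃ a ∈ A, g = b * a := by
    intro g
    obtain ⟨a', ha', b', hb', h⟩ := hAB g⁻¹
    refine ⟨b'⁻¹, B.inv_mem hb', a'⁻¹, A.inv_mem ha', ?_⟩
    rw [← mul_inv_rev, ← h, inv_inv]
  have cA : ∀ {x y : G}, x ∈ A → y ∈ A → ⁅x, y⁆ = 1 := fun hx hy =>
    commutatorElement_eq_one_iff_commute.2 (hA _ hx _ hy)
  have cB : ∀ {x y : G}, x ∈ B → y ∈ B → ⁅x, y⁆ = 1 := fun hx hy =>
    commutatorElement_eq_one_iff_commute.2 (hB _ hx _ hy)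
  obtain ⟨b2, hb2, a2, ha2, e2⟩ := hBA (a1 * b * a1⁻¹)
  obtain ⟨a3, ha3, b3, hb3, e3⟩ := hAB (b1 * a * b1⁻¹)
  have ea : a1 * a * a1⁻¹ = a := by rw [hA a1 ha1 a ha, mul_inv_cancel_right]
  have ea3 : a1 * a3 * a1⁻¹ = a3 := by rw [hA a1 ha1 a3 ha3, mul_inv_cancel_right]
  have eb : b1 * b * b1⁻¹ = b := by rw [hB b1 hb1 b hb, mul_inv_cancel_right]
  have eb2 : b1 * b2 * b1⁻¹ = b2 := by rw [hB b1 hb1 b2 hb2, mul_inv_cancel_right]
  have hX : (b1 * a1) * ⁅a, b⁆ * (b1 * a1)⁻¹ = ⁅a3, b2⁆ := by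
    calc (b1 * a1) * ⁅a, b⁆ * (b1 * a1)⁻¹ = b1 * (a1 * ⁅a, b⁆ * a1⁻¹) * b1⁻¹ := by group
      _ = b1 * ⁅a, b2 * a2⁆ * b1⁻¹ := by rw [conj_comm, ea, e2]
      _ = b1 * ⁅a, b2⁆ * b1⁻¹ := by rw [comm_mul_right, cA ha ha2]; group
      _ = ⁅a3 * b3, b2⁆ := by rw [conj_comm, e3, eb2]
      _ = ⁅a3, b2⁆ := by rw [comm_mul_left, cB hb3 hb2]; group
  have hY : (a1 * b1) * ⁅a, b⁆ * (a1 * b1)⁻¹ = ⁅a3, b2⁆ := by
    calc (a1 * b1) * ⁅a, b⁆ * (a1 * b1)⁻¹ = a1 * (b1 * ⁅a, b⁆ * b1⁻¹) * a1⁻¹ := by group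
      _ = a1 * ⁅a3 * b3, b⁆ * a1⁻¹ := by rw [conj_comm, e3, eb]
      _ = a1 * ⁅a3, b⁆ * a1⁻¹ := by rw [comm_mul_left, cB hb3 hb]; group
      _ = ⁅a3, b2 * a2⁆ := by rw [conj_comm, ea3, e2]
      _ = ⁅a3, b2⁆ := by rw [comm_mul_right, cA ha3 ha2]; group
  rw [hX, hY]

theorem commute_comm (A B : Subgroup G) (hA : ∀ x ∈ A, ∀ y ∈ A, x * y = y * x)
    (hB : ∀ x ∈ B, ∀ y ∈ B, x * y = y * x)
    (hAB : ∀ g : G, ∃ a ∈ A, ∃ b ∈ B, g = a * b)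
    {a a1 b b1 : G} (ha : a ∈ A) (ha1 : a1 ∈ A) (hb : b ∈ B) (hb1 : b1 ∈ B) :
    Commute ⁅a1, b1⁆ ⁅a, b⁆ := by
  have h := key A B hA hB hAB ha (A.inv_mem ha1) hb (B.inv_mem hb1)
  set c := ⁅a, b⁆ with hc
  have e : ⁅b1, a1⁆ = (a1⁻¹ * b1⁻¹)⁻¹ * (b1⁻¹ * a1⁻¹) := by
    rw [commutatorElement_def]; group
  have h1 : Commute ⁅b1, a1⁆ c := by
    show ⁅b1, a1⁆ * c = c * ⁅b1, a1⁆
    rw [e]
    calc (a1⁻¹ * b1⁻¹)⁻¹ * (b1⁻¹ * a1⁻¹) * c
        = (a1⁻¹ * b1⁻¹)⁻¹ * ((b1⁻¹ * a1⁻¹) * c * (b1⁻¹ * a1⁻¹)⁻¹) * (b1⁻¹ * a1⁻¹) := by group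
      _ = (a1⁻¹ * b1⁻¹)⁻¹ * ((a1⁻¹ * b1⁻¹) * c * (a1⁻¹ * b1⁻¹)⁻¹) * (b1⁻¹ * a1⁻¹) := by rw [h]
      _ = c * ((a1⁻¹ * b1⁻¹)⁻¹ * (b1⁻¹ * a1⁻¹)) := by group
  have e2 : ⁅a1, b1⁆ = ⁅b1, a1⁆⁻¹ := (commutatorElement_inv b1 a1).symm
  rw [e2]
  exact h1.inv_left

theorem main (A B : Subgroup G) (hA : ∀ x ∈ A, ∀ y ∈ A, x * y = y * x)
    (hB : ∀ x ∈ B, ∀ y ∈ B, x * y = y * x)
    (hAB : ∀ g : G, ∃ a ∈ A, ∃ b ∈ B, g = a * b) : derivedSeries G 2 = ⊥ := by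
  set S : Set G := {c | ∃ a ∈ A, ∃ b ∈ B, c = ⁅a, b⁆} with hS
  set C := Subgroup.closure S with hC
  have hSC : ∀ {a b : G}, a ∈ A → b ∈ B → ⁅a, b⁆ ∈ C := fun ha hb =>
    Subgroup.subset_closure ⟨_, ha, _, hb, rfl⟩
  -- C is commutative
  have hpair : ∀ s ∈ S, ∀ t ∈ S, t * s = s * t := by
    rintro _ ⟨a, ha, b, hb, rfl⟩ _ ⟨a1, ha1, b1, hb1, rfl⟩
    exact (commute_comm A B hA hB hAB ha ha1 hb hb1).eq
  have hCcomm : C ≤ Subgroup.centralizer (C : Set G) := by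
    rw [hC, Subgroup.closure_le]
    intro s hs
    rw [SetLike.mem_coe, Subgroup.mem_centralizer_iff]
    intro y hy
    have : Subgroup.closure S ≤ Subgroup.centralizer {s} := by
      rw [Subgroup.closure_le]
      intro t ht
      rw [SetLike.mem_coe, Subgroup.mem_centralizer_singleton_iff]
      exact hpair s hs t ht
    have := this hy
    rw [Subgroup.mem_centralizer_singleton_iff] at this
    exact this
  -- C is normalized by A and B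
  have hconjA : ∀ a1 ∈ A, ∀ x ∈ C, a1 * x * a1⁻¹ ∈ C := by
    intro a1 ha1 x hx
    induction hx using Subgroup.closure_induction with
    | mem s hs =>
      obtain ⟨a, ha, b, hb, rfl⟩ := hs
      have : a1 * ⁅a, b⁆ * a1⁻¹ = ⁅a1 * a, b⁆ * ⁅a1, b⁆⁻¹ := by
        rw [comm_mul_left]; group
      rw [this]
      exact C.mul_mem (hSC (A.mul_mem ha1 ha) hb) (C.inv_mem (hSC ha1 hb))
    | one => simp [C.one_mem]
    | mul x y _ _ hx hy =>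
      have : a1 * (x * y) * a1⁻¹ = (a1 * x * a1⁻¹) * (a1 * y * a1⁻¹) := by group
      rw [this]; exact C.mul_mem hx hy
    | inv x _ hx =>
      have : a1 * x⁻¹ * a1⁻¹ = (a1 * x * a1⁻¹)⁻¹ := by group
      rw [this]; exact C.inv_mem hx
  have hconjB : ∀ b1 ∈ B, ∀ x ∈ C, b1 * x * b1⁻¹ ∈ C := by
    intro b1 hb1 x hx
    induction hx using Subgroup.closure_induction with
    | mem s hs =>
      obtain ⟨a, ha, b, hb, rfl⟩ := hs
      have : b1 * ⁅a, b⁆ * b1⁻¹ = ⁅a, b1⁆⁻¹ * ⁅a, b1 * b⁆ := by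
        rw [comm_mul_right]; group
      rw [this]
      exact C.mul_mem (C.inv_mem (hSC ha hb1)) (hSC ha (B.mul_mem hb1 hb))
    | one => simp [C.one_mem]
    | mul x y _ _ hx hy =>
      have : b1 * (x * y) * b1⁻¹ = (b1 * x * b1⁻¹) * (b1 * y * b1⁻¹) := by group
      rw [this]; exact C.mul_mem hx hy
    | inv x _ hx =>
      have : b1 * x⁻¹ * b1⁻¹ = (b1 * x * b1⁻¹)⁻¹ := by group
      rw [this]; exact C.inv_mem hx
  have hCn : C.Normal := by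
    constructor
    intro x hx g
    obtain ⟨a1, ha1, b1, hb1, rfl⟩ := hAB g
    have : a1 * b1 * x * (a1 * b1)⁻¹ = a1 * (b1 * x * b1⁻¹) * a1⁻¹ := by group
    rw [this]
    exact hconjA a1 ha1 _ (hconjB b1 hb1 x hx)
  -- G' ≤ C
  have hcomm : commutator G ≤ C := by
    rw [commutator_def, Subgroup.commutator_le]
    intro g _ h _
    rw [← QuotientGroup.eq_one_iff (N := C)]
    show QuotientGroup.mk' C ⁅g, h⁆ = 1
    rw [map_commutatorElement, commutatorElement_eq_one_iff_commute]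
    obtain ⟨a1, ha1, b1, hb1, rfl⟩ := hAB g
    obtain ⟨a2, ha2, b2, hb2, rfl⟩ := hAB h
    have cab : ∀ {a b : G}, a ∈ A → b ∈ B →
        Commute (QuotientGroup.mk' C a) (QuotientGroup.mk' C b) := by
      intro a b ha hb
      rw [← commutatorElement_eq_one_iff_commute, ← map_commutatorElement]
      exact (QuotientGroup.eq_one_iff _).2 (hSC ha hb)
    have caa : Commute (QuotientGroup.mk' C a1) (QuotientGroup.mk' C a2) := by
      show _ * _ = _ * _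
      rw [← map_mul, ← map_mul, hA a1 ha1 a2 ha2]
    have cbb : Commute (QuotientGroup.mk' C b1) (QuotientGroup.mk' C b2) := by
      show _ * _ = _ * _
      rw [← map_mul, ← map_mul, hB b1 hb1 b2 hb2]
    rw [map_mul, map_mul]
    exact (caa.mul_right (cab ha1 hb2)).mul_left ((cab ha2 hb1).symm.mul_right cbb)
  have h2 : derivedSeries G 2 = ⁅commutator G, commutator G⁆ := by
    rw [derivedSeries_succ, derivedSeries_one]
  rw [h2, eq_bot_iff]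
  calc ⁅commutator G, commutator G⁆ ≤ ⁅C, C⁆ := Subgroup.commutator_mono hcomm hcomm
    _ = ⊥ := Subgroup.commutator_eq_bot_iff_le_centralizer.2 hCcomm

/-- Itô's Theorem: if a group G is the product AB of two abelian subgroups, then the commutator subgroup of G is abelian, i.e. the second term of the derived series is trivial. -/
theorem result {G : Type*} [Group G] (A B : Subgroup G) [IsMulCommutative A] [IsMulCommutative B] (hAB : ∀ g : G, ∃ a ∈ A, ∃ b ∈ B, g = a * b) : derivedSeries G 2 = ⊥ := by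
  refine main A B ?_ ?_ hAB
  · intro x hx y hy
    have := (isMulCommutative_iff.1 (inferInstance : IsMulCommutative A)) ⟨x, hx⟩ ⟨y, hy⟩
    exact congrArg Subtype.val this
  · intro x hx y hy
    have := (isMulCommutative_iff.1 (inferInstance : IsMulCommutative B)) ⟨x, hx⟩ ⟨y, hy⟩
    exact congrArg Subtype.val this

end Cfsg.Agent.S0572
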