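import Mathlib
import Cfsg.Statements.S0995
import Cfsg.Agent.Lib.H5.SimpleTools
import Cfsg.Agent.Lib.H5.OrderCount
import Cfsg.Agent.Lib.H5.ConjCount
import Cfsg.Agent.Lib.H5.SubgroupCard
import Cfsg.Agent.Lib.H5.SylowIn

set_option autoImplicit false
open Cfsg

namespace Cfsg.Agent.S0995

open Cfsg.Agent.Lib.H5 Subgroup

variable {G : Type*} [Group G]

theorem centralizer_singleton_eq_of_zpowers_eq {a b : G} (h : zpowers a = zpowers b) :
    centralizer ({a} : Set G) = centralizer ({b} : Set G) := by
  have h1 : centralizer ((zpowers a : Subgroup G) : Set G) = centralizer ({a} : Set G) := by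
    rw [zpowers_eq_closure, centralizer_closure]
  have h2 : centralizer ((zpowers b : Subgroup G) : Set G) = centralizer ({b} : Set G) := by
    rw [zpowers_eq_closure, centralizer_closure]
  rw [← h1, ← h2, h]

/-- If `C(z) = ⟨z⟩` for an element `z` of order `p`, then a Sylow `p`-subgroup containing `z`
is `⟨z⟩`. -/
theorem sylow_eq_zpowers [Finite G] (p : ℕ) [Fact p.Prime] (z : G) (hz : orderOf z = p)
    (hC : Subgroup.centralizer ({z} : Set G) = Subgroup.zpowers z) (P : Sylow p G)
    (hzP : z ∈ (P : Subgroup G)) : (P : Subgroup G) = zpowers z := by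
  have hp : p.Prime := Fact.out
  have hz1 : z ≠ 1 := by
    intro h
    rw [h, orderOf_one] at hz
    exact hp.one_lt.ne hz
  have hnt : Nontrivial (P : Subgroup G) :=
    ⟨⟨⟨z, hzP⟩, 1, fun h => hz1 (congrArg Subtype.val h)⟩⟩
  have := IsPGroup.center_nontrivial P.2
  obtain ⟨c, hc⟩ := exists_ne (1 : center (P : Subgroup G))
  have hc1 : (c.1.1 : G) ≠ 1 := by
    intro h1
    apply hc
    ext
    exact h1
  have hccomm : ∀ t ∈ (P : Subgroup G), t * c.1.1 = c.1.1 * t := by
    intro t ht
    have := mem_center_iff.mp c.2 ⟨t, ht⟩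
    exact congrArg Subtype.val this
  have hcz : (c.1.1 : G) ∈ zpowers z := by
    rw [← hC, mem_centralizer_singleton_iff]
    exact (hccomm z hzP).symm
  have hcardz : Nat.card (zpowers z) = p := by rw [Nat.card_zpowers, hz]
  have hoc : orderOf (c.1.1 : G) = p :=
    orderOf_eq_of_mem_of_card_prime (zpowers z) hcardz _ hcz hc1
  have hzc : zpowers (c.1.1 : G) = zpowers z := by
    apply Subgroup.eq_of_le_of_card_ge
    · rw [zpowers_le]; exact hcz
    · rw [hcardz, Nat.card_zpowers, hoc]
  have hle : (P : Subgroup G) ≤ zpowers z := by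
    intro t ht
    rw [← hC, ← centralizer_singleton_eq_of_zpowers_eq hzc, mem_centralizer_singleton_iff]
    exact hccomm t ht
  exact le_antisymm hle (by rw [zpowers_le]; exact hzP)

theorem result {G : Type*} [Group G] [Finite G] (hperf : commutator G = ⊤) (p : ℕ) [Fact p.Prime] (z : G) (hz : orderOf z = p) (hC : Subgroup.centralizer ({z} : Set G) = Subgroup.zpowers z) : ∃ n t : ℕ, t = Nat.card {c : ConjClasses G // ∃ g : G, ConjClasses.mk g = c ∧ orderOf g = p} ∧ t ∣ p - 1 ∧ Nat.card (Sylow p G) = 1 + n * p ∧ Nat.card G * t = (p - 1) * p * (1 + n * p) := by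
  classical
  have hp : p.Prime := Fact.out
  obtain ⟨P, hzP⟩ := exists_sylow_mem_of_orderOf_eq z hz
  have hPz := sylow_eq_zpowers p z hz hC P hzP
  have hPcard : Nat.card (P : Subgroup G) = p := by rw [hPz, Nat.card_zpowers, hz]
  have hcardQ : ∀ Q : Sylow p G, Nat.card (Q : Subgroup G) = p := by
    intro Q
    rw [Sylow.card_eq_multiplicity, ← Sylow.card_eq_multiplicity P, hPcard]
  -- centralizers of elements of order p have order p
  have hCent : ∀ g : G, orderOf g = p → Nat.card (centralizer ({g} : Set G)) = p := by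
    intro g hg
    obtain ⟨Q, hgQ⟩ := exists_sylow_mem_of_orderOf_eq g hg
    obtain ⟨a, ha⟩ := MulAction.exists_smul_eq G P Q
    have hmem : a⁻¹ * g * a ∈ (P : Subgroup G) := by
      have : g ∈ (a • P : Sylow p G) := ha ▸ hgQ
      exact (sylow_mem_smul_iff a P g).mp this
    have hord : orderOf (a⁻¹ * g * a) = p := by
      have := (MulAut.conj a⁻¹).orderOf_eq g
      simp only [MulAut.conj_apply, inv_inv] at this
      rw [this, hg]
    have hzp : zpowers (a⁻¹ * g * a) = zpowers z := by
      rw [← hPz]
      exact zpowers_eq_sylow_of_mem P hPcard _ hord hmem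
    have h1 : centralizer ({a⁻¹ * g * a} : Set G) = zpowers z := by
      rw [centralizer_singleton_eq_of_zpowers_eq hzp, hC]
    have h2 := card_centralizer_conj a⁻¹ g
    rw [inv_inv, h1, Nat.card_zpowers, hz] at h2
    exact h2.symm
  -- n_p
  have hmod := card_sylow_modEq_one p G
  obtain ⟨n, hn⟩ : ∃ n, Nat.card (Sylow p G) = 1 + n * p := by
    refine ⟨Nat.card (Sylow p G) / p, ?_⟩
    have h1 : Nat.card (Sylow p G) % p = 1 := by
      have := hmod
      unfold Nat.ModEq at this
      rw [this, Nat.mod_eq_of_lt hp.one_lt]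
    have := Nat.div_add_mod (Nat.card (Sylow p G)) p
    rw [h1] at this
    rw [mul_comm] at this
    omega
  -- the number of elements of order p
  have hcount := card_orderOf_eq_prime (G := G) (p := p) hcardQ
  -- fibers
  let 𝒞 := {c : ConjClasses G // ∃ g : G, ConjClasses.mk g = c ∧ orderOf g = p}
  have : Fintype 𝒞 := Fintype.ofFinite _
  let φ : {g : G // orderOf g = p} → 𝒞 := fun g => ⟨ConjClasses.mk g.1, g.1, rfl, g.2⟩
  have hGp : p ∣ Nat.card G := by
    have := orderOf_dvd_natCard z
    rwa [hz] at this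
  obtain ⟨m, hm⟩ := hGp
  have hfiber : ∀ c : 𝒞, Nat.card {g : {g : G // orderOf g = p} // φ g = c} = m := by
    rintro ⟨c, x, hxc, hx⟩
    subst hxc
    have e : {g : {g : G // orderOf g = p} // φ g = ⟨ConjClasses.mk x, x, rfl, hx⟩} ≃
        {g : G // IsConj x g} := by
      refine ⟨fun g => ⟨g.1.1, ?_⟩, fun g => ⟨⟨g.1, ?_⟩, ?_⟩, ?_, ?_⟩
      · have := congrArg Subtype.val g.2
        simp only [φ] at this
        rw [ConjClasses.mk_eq_mk_iff_isConj] at this
        exact this.symm
      · rw [← orderOf_eq_of_isConj g.2, hx]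
      · apply Subtype.ext
        simp only [φ]
        rw [ConjClasses.mk_eq_mk_iff_isConj]
        exact g.2.symm
      · intro g; rfl
      · intro g; rfl
    rw [Nat.card_congr e]
    have h1 := card_conj_mul_card_centralizer x
    rw [hCent x hx, hm] at h1
    have hp0 : 0 < p := hp.pos
    nlinarith [Nat.eq_of_mul_eq_mul_left hp0 (by rw [mul_comm] at h1; exact h1 : p * Nat.card {g : G // IsConj x g} = p * m)]
  have hsum : Nat.card {g : G // orderOf g = p} = Nat.card 𝒞 * m := by
    rw [← Nat.card_congr (Equiv.sigmaFiberEquiv φ), Nat.card_sigma]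
    simp only [hfiber]
    rw [Finset.sum_const, Finset.card_univ, smul_eq_mul, Nat.card_eq_fintype_card]
  refine ⟨n, Nat.card 𝒞, rfl, ?_, hn, ?_⟩
  · -- t ∣ p - 1
    have hN := card_normalizer_mul_card_sylow P
    have hCP : centralizer ((P : Subgroup G) : Set G) = (P : Subgroup G) := by
      have : centralizer ((zpowers z : Subgroup G) : Set G) = centralizer ({z} : Set G) := by
        rw [zpowers_eq_closure, centralizer_closure]
      rw [hPz, this, hC]
    have hrel := relIndex_centralizer_normalizer_dvd_of_card_prime (P : Subgroup G) hPcard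
    have hmul := card_centralizer_mul_relIndex_normalizer (P : Subgroup G)
    rw [hCP] at hmul hrel
    rw [hPcard] at hmul
    -- |G| = p * r * n_p,  |G| = p * m, n_p (p-1) = t m
    set r := (P : Subgroup G).relIndex (normalizer ((P : Subgroup G) : Set G)) with hr
    rw [← hmul, hm] at hN
    rw [hcount] at hsum
    -- m = r * n_p
    have hm' : m = r * Nat.card (Sylow p G) := by
      have : p * (r * Nat.card (Sylow p G)) = p * m := by rw [← hN]; ring
      exact (Nat.eq_of_mul_eq_mul_left hp.pos this).symm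
    rw [hm'] at hsum
    -- n_p (p-1) = t r n_p
    have hnp0 : 0 < Nat.card (Sylow p G) := Nat.card_pos
    have : Nat.card (Sylow p G) * (p - 1) = Nat.card (Sylow p G) * (Nat.card 𝒞 * r) := by
      rw [hsum]; ring
    have := Nat.eq_of_mul_eq_mul_left hnp0 this
    exact Dvd.intro _ this.symm
  · rw [hcount] at hsum
    rw [← hn, hm]
    calc p * m * Nat.card 𝒞 = p * (Nat.card 𝒞 * m) := by ring
      _ = p * (Nat.card (Sylow p G) * (p - 1)) := by rw [hsum]
      _ = (p - 1) * p * Nat.card (Sylow p G) := by ring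

end Cfsg.Agent.S0995
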