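import Mathlib
import Cfsg.Statements.S2505

set_option autoImplicit false
open Cfsg

namespace Cfsg.Agent.S2505

/-- the maximal product of a partition of `n` -/
def gmax : ℕ → ℕ
  | 0 => 1
  | 1 => 1
  | 2 => 2
  | 3 => 3
  | 4 => 4
  | (n + 5) => 3 * gmax (n + 2)

theorem gmax_add_three (n : ℕ) (hn : 2 ≤ n) : gmax (n + 3) = 3 * gmax n := by
  obtain ⟨m, rfl⟩ : ∃ m, n = m + 2 := ⟨n - 2, by omega⟩
  show gmax (m + 5) = 3 * gmax (m + 2)
  rw [gmax]

theorem gmax_ineqs (m : ℕ) :
    gmax m ≤ gmax (m + 1) ∧ 2 * gmax m ≤ gmax (m + 2) ∧ 3 * gmax m ≤ gmax (m + 3) := by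
  induction m using Nat.strong_induction_on with
  | _ m ih =>
    rcases Nat.lt_or_ge m 5 with h5 | h5
    · interval_cases m <;> simp [gmax]
    · obtain ⟨k, rfl⟩ : ∃ k, m = k + 3 := ⟨m - 3, by omega⟩
      have hk : 2 ≤ k := by omega
      obtain ⟨h1, h2, h3⟩ := ih k (by omega)
      have e0 := gmax_add_three k hk
      have e1 : gmax (k + 3 + 1) = 3 * gmax (k + 1) := by
        have := gmax_add_three (k + 1) (by omega)
        rwa [show k + 1 + 3 = k + 3 + 1 by ring] at this
      have e2 : gmax (k + 3 + 2) = 3 * gmax (k + 2) := by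
        have := gmax_add_three (k + 2) (by omega)
        rwa [show k + 2 + 3 = k + 3 + 2 by ring] at this
      have e3 : gmax (k + 3 + 3) = 3 * gmax (k + 3) := gmax_add_three (k + 3) (by omega)
      rw [e1, e2, e3, e0]
      refine ⟨by omega, by omega, by omega⟩

theorem mul_gmax_le (a : ℕ) (ha : 1 ≤ a) : ∀ m, a * gmax m ≤ gmax (a + m) := by
  induction a using Nat.strong_induction_on with
  | _ a ih =>
    intro m
    rcases Nat.lt_or_ge a 5 with h5 | h5
    · interval_cases a
      · have := (gmax_ineqs m).1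
        rw [add_comm]; omega
      · have := (gmax_ineqs m).2.1
        rw [add_comm]; omega
      · have := (gmax_ineqs m).2.2
        rw [add_comm]; omega
      · have h1 := (gmax_ineqs m).2.1
        have h2 := (gmax_ineqs (m + 2)).2.1
        rw [show 4 + m = m + 2 + 2 by ring]
        omega
    · have h1 := ih (a - 3) (by omega) (by omega) m
      have h2 := (gmax_ineqs (a - 3 + m)).2.2
      rw [show a - 3 + m + 3 = a + m by omega] at h2
      have h3 : a * gmax m ≤ 3 * ((a - 3) * gmax m) := by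
        have : a ≤ 3 * (a - 3) := by omega
        calc a * gmax m ≤ 3 * (a - 3) * gmax m := Nat.mul_le_mul_right _ this
          _ = 3 * ((a - 3) * gmax m) := by ring
      omega

theorem prod_le_gmax {ι : Type*} (s : Finset ι) (f : ι → ℕ) (hf : ∀ i ∈ s, 1 ≤ f i) :
    ∏ i ∈ s, f i ≤ gmax (∑ i ∈ s, f i) := by
  classical
  induction s using Finset.induction_on with
  | empty => simp [gmax]
  | insert a s ha ih =>
    rw [Finset.prod_insert ha, Finset.sum_insert ha]
    have h1 := ih (fun i hi => hf i (Finset.mem_insert_of_mem hi))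
    have h2 := mul_gmax_le (f a) (hf a (Finset.mem_insert_self a s)) (∑ i ∈ s, f i)
    calc f a * ∏ i ∈ s, f i ≤ f a * gmax (∑ i ∈ s, f i) := Nat.mul_le_mul_left _ h1
      _ ≤ _ := h2

theorem gmax_three_mul (k : ℕ) : gmax (3 * k) = 3 ^ k := by
  induction k with
  | zero => simp [gmax]
  | succ k ih =>
    rcases Nat.eq_zero_or_pos k with rfl | hk
    · simp [gmax]
    · rw [show 3 * (k + 1) = 3 * k + 3 by ring, gmax_add_three _ (by omega), ih, pow_succ]
      ring

theorem gmax_three_mul_add_one (k : ℕ) (hk : 1 ≤ k) : gmax (3 * k + 1) = 4 * 3 ^ (k - 1) := by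
  induction k with
  | zero => omega
  | succ k ih =>
    rcases Nat.eq_zero_or_pos k with rfl | hk'
    · simp [gmax]
    · rw [show 3 * (k + 1) + 1 = (3 * k + 1) + 3 by ring, gmax_add_three _ (by omega), ih hk']
      have : k + 1 - 1 = (k - 1) + 1 := by omega
      rw [this, pow_succ]
      ring

theorem gmax_three_mul_add_two (k : ℕ) : gmax (3 * k + 2) = 2 * 3 ^ k := by
  induction k with
  | zero => simp [gmax]
  | succ k ih =>
    rw [show 3 * (k + 1) + 2 = (3 * k + 2) + 3 by ring, gmax_add_three _ (by omega), ih, pow_succ]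
    ring

end Cfsg.Agent.S2505

namespace Cfsg.Agent.S2505

open MulAction

theorem card_le_gmax {n : ℕ} (A : Subgroup (Equiv.Perm (Fin n))) (hA : IsMulCommutative A) :
    Nat.card A ≤ gmax n := by
  classical
  haveI : Fintype (orbitRel.Quotient A (Fin n)) := Fintype.ofFinite _
  -- the injection
  let F : A → (ω : orbitRel.Quotient A (Fin n)) → orbit A ω.out :=
    fun a ω => ⟨a • ω.out, mem_orbit _ a⟩
  have hF : Function.Injective F := by
    intro a b hab
    apply Subtype.ext
    apply Equiv.ext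
    intro y
    have h1 : (Quotient.mk'' y : orbitRel.Quotient A (Fin n)).out ∈ orbit A y := by
      have := Quotient.mk_out (s := orbitRel A (Fin n)) y
      exact (orbitRel_apply).mp this
    obtain ⟨c, hc⟩ := h1
    have hab' : a • (Quotient.mk'' y : orbitRel.Quotient A (Fin n)).out =
        b • (Quotient.mk'' y : orbitRel.Quotient A (Fin n)).out := by
      have := congrFun hab (Quotient.mk'' y)
      exact congrArg Subtype.val this
    have hy : y = c⁻¹ • (Quotient.mk'' y : orbitRel.Quotient A (Fin n)).out := by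
      rw [← hc, inv_smul_smul]
    have hcomm : ∀ u v : A, u * v = v * u := fun u v => hA.is_comm.comm u v
    show a • y = b • y
    rw [hy, smul_smul, smul_smul, hcomm a, hcomm b, ← smul_smul, ← smul_smul, hab']
  have h1 : Nat.card A ≤ ∏ ω : orbitRel.Quotient A (Fin n), Nat.card (orbit A ω.out) := by
    rw [← Nat.card_pi]
    exact Nat.card_le_card_of_injective F hF
  have h2 : ∑ ω : orbitRel.Quotient A (Fin n), Nat.card (orbit A ω.out) = n := by
    rw [← Nat.card_sigma, ← Nat.card_congr (selfEquivSigmaOrbits A (Fin n)), Nat.card_fin]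
  have h3 := prod_le_gmax Finset.univ (fun ω : orbitRel.Quotient A (Fin n) => Nat.card (orbit A ω.out))
    (fun ω _ => by
      have : Nonempty (orbit A ω.out) := ⟨⟨ω.out, mem_orbit_self _⟩⟩
      exact Nat.one_le_iff_ne_zero.mpr Nat.card_pos.ne')
  rw [h2] at h3
  exact h1.trans h3

end Cfsg.Agent.S2505

namespace Cfsg.Agent.S2505

theorem exists_abelian (a c : ℕ) [NeZero c] :
    ∃ A : Subgroup (Equiv.Perm (Fin (3 * a + c))), IsMulCommutative A ∧ Nat.card A = 3 ^ a * c := by
  classical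
  let G₃ := Multiplicative (ZMod 3)
  let Gc := Multiplicative (ZMod c)
  -- pointwise Cayley
  let ρ : (Fin a → G₃) →* (∀ _ : Fin a, Equiv.Perm G₃) :=
    { toFun := fun f i => MulAction.toPermHom G₃ G₃ (f i)
      map_one' := by
        funext i
        exact map_one (MulAction.toPermHom G₃ G₃)
      map_mul' := by
        intro f g
        funext i
        exact map_mul (MulAction.toPermHom G₃ G₃) (f i) (g i) }
  have hρ : Function.Injective ρ := by
    intro f g hfg
    funext i
    have := congrFun hfg i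
    exact MulAction.toPerm_injective this
  let Φ : (Fin a → G₃) × Gc →* Equiv.Perm ((Σ _ : Fin a, G₃) ⊕ Gc) :=
    (Equiv.Perm.sumCongrHom _ _).comp
      (MonoidHom.prodMap ((Equiv.Perm.sigmaCongrRightHom (fun _ : Fin a => G₃)).comp ρ)
        (MulAction.toPermHom Gc Gc))
  have hΦ : Function.Injective Φ := by
    apply Equiv.Perm.sumCongrHom_injective.comp
    rw [MonoidHom.coe_prodMap]
    apply Function.Injective.prodMap
    · exact Equiv.Perm.sigmaCongrRightHom_injective.comp hρ
    · exact MulAction.toPerm_injective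
  have hc3 : Nat.card G₃ = 3 := by
    rw [Nat.card_congr (Multiplicative.toAdd : G₃ ≃ ZMod 3), Nat.card_zmod]
  have hcc : Nat.card Gc = c := by
    rw [Nat.card_congr (Multiplicative.toAdd : Gc ≃ ZMod c), Nat.card_zmod]
  haveI : Finite G₃ := Nat.finite_of_card_ne_zero (by rw [hc3]; omega)
  haveI : Finite Gc := Nat.finite_of_card_ne_zero (by rw [hcc]; exact NeZero.ne c)
  have hcardX : Nat.card ((Σ _ : Fin a, G₃) ⊕ Gc) = 3 * a + c := by
    rw [Nat.card_sum, Nat.card_sigma, hcc]
    simp only [hc3, Finset.sum_const, Finset.card_univ, Fintype.card_fin, smul_eq_mul]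
    ring
  have hcardB : Nat.card ((Fin a → G₃) × Gc) = 3 ^ a * c := by
    rw [Nat.card_prod, Nat.card_pi, hcc]
    simp only [hc3, Finset.prod_const, Finset.card_univ, Fintype.card_fin]
  haveI : Finite ((Σ _ : Fin a, G₃) ⊕ Gc) := Nat.finite_of_card_ne_zero (by
    rw [hcardX]; have := NeZero.ne c; omega)
  haveI : Fintype ((Σ _ : Fin a, G₃) ⊕ Gc) := Fintype.ofFinite _
  have hcardX' : Fintype.card ((Σ _ : Fin a, G₃) ⊕ Gc) = 3 * a + c := by
    rw [← Nat.card_eq_fintype_card, hcardX]
  let e : ((Σ _ : Fin a, G₃) ⊕ Gc) ≃ Fin (3 * a + c) := Fintype.equivFinOfCardEq hcardX'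
  let Ψ : (Fin a → G₃) × Gc →* Equiv.Perm (Fin (3 * a + c)) :=
    (e.permCongrHom.toMonoidHom).comp Φ
  have hΨ : Function.Injective Ψ := e.permCongrHom.injective.comp hΦ
  refine ⟨Ψ.range, ?_, ?_⟩
  · refine ⟨⟨?_⟩⟩
    rintro ⟨_, x, rfl⟩ ⟨_, y, rfl⟩
    apply Subtype.ext
    show Ψ x * Ψ y = Ψ y * Ψ x
    rw [← map_mul, ← map_mul]
    exact congrArg Ψ (mul_comm x y)
  · rw [← hcardB]
    exact (Nat.card_congr (MonoidHom.ofInjective hΨ).toEquiv).symm

end Cfsg.Agent.S2505

namespace Cfsg.Agent.S2505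

theorem exists_abelian' (n a c : ℕ) [NeZero c] (h : n = 3 * a + c) :
    ∃ A : Subgroup (Equiv.Perm (Fin n)), IsMulCommutative A ∧ Nat.card A = 3 ^ a * c := by
  subst h
  exact exists_abelian a c

theorem result (k : ℕ) (hk : 1 ≤ k) :
    IsGreatest {c : ℕ | ∃ A : Subgroup (Equiv.Perm (Fin (3 * k))), IsMulCommutative A ∧ Nat.card A = c} (3 ^ k) ∧
    IsGreatest {c : ℕ | ∃ A : Subgroup (Equiv.Perm (Fin (3 * k + 1))), IsMulCommutative A ∧ Nat.card A = c}
      (4 * 3 ^ (k - 1)) ∧
    IsGreatest {c : ℕ | ∃ A : Subgroup (Equiv.Perm (Fin (3 * k + 2))), IsMulCommutative A ∧ Nat.card A = c}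
      (2 * 3 ^ k) := by
  refine ⟨⟨?_, ?_⟩, ⟨?_, ?_⟩, ⟨?_, ?_⟩⟩
  · obtain ⟨A, hA, hc⟩ := exists_abelian' (3 * k) (k - 1) 3 (by omega)
    refine ⟨A, hA, ?_⟩
    rw [hc, ← pow_succ]
    congr 1
    omega
  · rintro c ⟨A, hA, rfl⟩
    rw [← gmax_three_mul]
    exact card_le_gmax A hA
  · obtain ⟨A, hA, hc⟩ := exists_abelian' (3 * k + 1) (k - 1) 4 (by omega)
    exact ⟨A, hA, by rw [hc, mul_comm]⟩
  · rintro c ⟨A, hA, rfl⟩
    rw [← gmax_three_mul_add_one k hk]
    exact card_le_gmax A hA
  · obtain ⟨A, hA, hc⟩ := exists_abelian' (3 * k + 2) k 2 rfl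
    exact ⟨A, hA, by rw [hc, mul_comm]⟩
  · rintro c ⟨A, hA, rfl⟩
    rw [← gmax_three_mul_add_two]
    exact card_le_gmax A hA

end Cfsg.Agent.S2505
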