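import Mathlib
import Cfsg.Statements.S2504
import Cfsg.Agent.S2505

set_option autoImplicit false
open Cfsg

namespace Cfsg.Agent.S2504
open Cfsg.Agent.S2505

theorem sign_V4 : ∀ g : Multiplicative (ZMod 2 × ZMod 2), Equiv.Perm.sign (MulAction.toPerm g : Equiv.Perm (Multiplicative (ZMod 2 × ZMod 2))) = 1 := by
  decide

/-- the maximal product of a partition of `n` without parts equal to `2` -/
def hmax : ℕ → ℕ
  | 0 => 1
  | 1 => 1
  | 2 => 1
  | 3 => 3
  | 4 => 4
  | 5 => 5
  | 6 => 9
  | 7 => 12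
  | 8 => 16
  | (n + 9) => 3 * hmax (n + 6)

theorem hmax_add_three (n : ℕ) (hn : 6 ≤ n) : hmax (n + 3) = 3 * hmax n := by
  obtain ⟨m, rfl⟩ : ∃ m, n = m + 6 := ⟨n - 6, by omega⟩
  show hmax (m + 9) = 3 * hmax (m + 6)
  rw [hmax]

theorem hmax_ineqs (m : ℕ) :
    hmax m ≤ hmax (m + 1) ∧ 3 * hmax m ≤ hmax (m + 3) ∧ 4 * hmax m ≤ hmax (m + 4) ∧
      5 * hmax m ≤ hmax (m + 5) := by
  induction m using Nat.strong_induction_on with
  | _ m ih =>
    rcases Nat.lt_or_ge m 9 with h9 | h9
    · interval_cases m <;> simp [hmax]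
    · obtain ⟨k, rfl⟩ : ∃ k, m = k + 3 := ⟨m - 3, by omega⟩
      have hk : 6 ≤ k := by omega
      obtain ⟨h1, h3, h4, h5⟩ := ih k (by omega)
      have e0 := hmax_add_three k hk
      have e1 : hmax (k + 3 + 1) = 3 * hmax (k + 1) := by
        have := hmax_add_three (k + 1) (by omega)
        rwa [show k + 1 + 3 = k + 3 + 1 by ring] at this
      have e3 : hmax (k + 3 + 3) = 3 * hmax (k + 3) := hmax_add_three (k + 3) (by omega)
      have e4 : hmax (k + 3 + 4) = 3 * hmax (k + 4) := by
        have := hmax_add_three (k + 4) (by omega)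
        rwa [show k + 4 + 3 = k + 3 + 4 by ring] at this
      have e5 : hmax (k + 3 + 5) = 3 * hmax (k + 5) := by
        have := hmax_add_three (k + 5) (by omega)
        rwa [show k + 5 + 3 = k + 3 + 5 by ring] at this
      rw [e1, e3, e4, e5, e0]
      refine ⟨by omega, by omega, by omega, by omega⟩

theorem mul_hmax_le (a : ℕ) (ha : 1 ≤ a) (ha2 : a ≠ 2) : ∀ m, a * hmax m ≤ hmax (a + m) := by
  induction a using Nat.strong_induction_on with
  | _ a ih =>
    intro m
    rcases Nat.lt_or_ge a 6 with h6 | h6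
    · interval_cases a
      · have := (hmax_ineqs m).1
        rw [add_comm]; omega
      · exact absurd rfl ha2
      · have := (hmax_ineqs m).2.1
        rw [add_comm]; omega
      · have := (hmax_ineqs m).2.2.1
        rw [add_comm]; omega
      · have := (hmax_ineqs m).2.2.2
        rw [add_comm]; omega
    · have h1 := ih (a - 3) (by omega) (by omega) (by omega) m
      have h2 := (hmax_ineqs (a - 3 + m)).2.1
      rw [show a - 3 + m + 3 = a + m by omega] at h2
      have h3 : a * hmax m ≤ 3 * ((a - 3) * hmax m) := by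
        have : a ≤ 3 * (a - 3) := by omega
        calc a * hmax m ≤ 3 * (a - 3) * hmax m := Nat.mul_le_mul_right _ this
          _ = 3 * ((a - 3) * hmax m) := by ring
      omega

theorem prod_le_hmax {ι : Type*} (s : Finset ι) (f : ι → ℕ) (hf : ∀ i ∈ s, 1 ≤ f i)
    (hf2 : ∀ i ∈ s, f i ≠ 2) :
    ∏ i ∈ s, f i ≤ hmax (∑ i ∈ s, f i) := by
  classical
  induction s using Finset.induction_on with
  | empty => simp [hmax]
  | insert a s ha ih =>
    rw [Finset.prod_insert ha, Finset.sum_insert ha]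
    have h1 := ih (fun i hi => hf i (Finset.mem_insert_of_mem hi))
      (fun i hi => hf2 i (Finset.mem_insert_of_mem hi))
    have h2 := mul_hmax_le (f a) (hf a (Finset.mem_insert_self a s))
      (hf2 a (Finset.mem_insert_self a s)) (∑ i ∈ s, f i)
    calc f a * ∏ i ∈ s, f i ≤ f a * hmax (∑ i ∈ s, f i) := Nat.mul_le_mul_left _ h1
      _ ≤ _ := h2

theorem hmax_three_mul_add_two (k : ℕ) (hk : 2 ≤ k) : hmax (3 * k + 2) = 16 * 3 ^ (k - 2) := by
  induction k with
  | zero => omega
  | succ k ih =>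
    rcases Nat.lt_or_ge k 2 with hk' | hk'
    · have : k = 1 := by omega
      subst this
      simp [hmax]
    · rw [show 3 * (k + 1) + 2 = (3 * k + 2) + 3 by ring, hmax_add_three _ (by omega), ih hk']
      have : k + 1 - 2 = (k - 2) + 1 := by omega
      rw [this, pow_succ]
      ring

end Cfsg.Agent.S2504

namespace Cfsg.Agent.S2504
open Cfsg.Agent.S2505 MulAction

theorem card_le_prod {n : ℕ} (A : Subgroup (Equiv.Perm (Fin n))) (hA : IsMulCommutative A)
    (S : Finset (orbitRel.Quotient A (Fin n)))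
    (hS : ∀ a : A, (∀ y : Fin n, (Quotient.mk'' y : orbitRel.Quotient A (Fin n)) ∈ S → a • y = y) →
      a = 1) :
    Nat.card A ≤ ∏ ω ∈ S, Nat.card (orbit A ω.out) := by
  classical
  have hcomm : ∀ u v : A, u * v = v * u := fun u v => hA.is_comm.comm u v
  let F : A → (ω : S) → orbit A ω.1.out := fun a ω => ⟨a • ω.1.out, mem_orbit _ a⟩
  have hF : Function.Injective F := by
    intro a b hab
    have h1 : b⁻¹ * a = 1 := by
      apply hS
      intro y hy
      have h2 : (Quotient.mk'' y : orbitRel.Quotient A (Fin n)).out ∈ orbit A y := by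
        have := Quotient.mk_out (s := orbitRel A (Fin n)) y
        exact (orbitRel_apply).mp this
      obtain ⟨d, hd⟩ := h2
      have hab' : a • (Quotient.mk'' y : orbitRel.Quotient A (Fin n)).out =
          b • (Quotient.mk'' y : orbitRel.Quotient A (Fin n)).out := by
        have := congrFun hab ⟨Quotient.mk'' y, hy⟩
        exact congrArg Subtype.val this
      have hy' : y = d⁻¹ • (Quotient.mk'' y : orbitRel.Quotient A (Fin n)).out := by
        rw [← hd, inv_smul_smul]
      conv_lhs => rw [hy']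
      rw [smul_smul, hcomm _ d⁻¹, ← smul_smul, mul_smul, hab', inv_smul_smul, ← hy']
    exact (inv_mul_eq_one.mp h1).symm
  calc Nat.card A ≤ Nat.card ((ω : S) → orbit A ω.1.out) := Nat.card_le_card_of_injective F hF
    _ = ∏ ω : S, Nat.card (orbit A ω.1.out) := Nat.card_pi
    _ = ∏ ω ∈ S, Nat.card (orbit A ω.out) :=
      Finset.prod_coe_sort S (fun ω => Nat.card (orbit A ω.out))

theorem sum_card_orbits {n : ℕ} (A : Subgroup (Equiv.Perm (Fin n)))
    [Fintype (orbitRel.Quotient A (Fin n))] :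
    ∑ ω : orbitRel.Quotient A (Fin n), Nat.card (orbit A ω.out) = n := by
  rw [← Nat.card_sigma, ← Nat.card_congr (selfEquivSigmaOrbits A (Fin n)), Nat.card_fin]

end Cfsg.Agent.S2504

namespace Cfsg.Agent.S2504
open Cfsg.Agent.S2505 MulAction

theorem alt_bound {k : ℕ} (hk : 2 ≤ k) (A : Subgroup (Equiv.Perm (Fin (3 * k + 2))))
    (hA : IsMulCommutative A) (hAalt : A ≤ alternatingGroup (Fin (3 * k + 2))) :
    Nat.card A ≤ 16 * 3 ^ (k - 2) := by
  classical
  haveI : Fintype (orbitRel.Quotient A (Fin (3 * k + 2))) := Fintype.ofFinite _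
  have hpos : ∀ ω : orbitRel.Quotient A (Fin (3 * k + 2)), 1 ≤ Nat.card (orbit A ω.out) := by
    intro ω
    have : Nonempty (orbit A ω.out) := ⟨⟨ω.out, mem_orbit_self _⟩⟩
    exact Nat.one_le_iff_ne_zero.mpr Nat.card_pos.ne'
  by_cases hex : ∃ ω : orbitRel.Quotient A (Fin (3 * k + 2)), Nat.card (orbit A ω.out) = 2
  · obtain ⟨ω₀, hω₀⟩ := hex
    have hS : ∀ a : A, (∀ y : Fin (3 * k + 2),
        (Quotient.mk'' y : orbitRel.Quotient A (Fin (3 * k + 2))) ∈ Finset.univ.erase ω₀ →
          a • y = y) → a = 1 := by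
      intro a ha
      by_contra hne
      have hne' : (a : Equiv.Perm (Fin (3 * k + 2))) ≠ 1 := fun h => hne (Subtype.ext h)
      have hsupp : ((a : Equiv.Perm (Fin (3 * k + 2))).support : Set (Fin (3 * k + 2))) ⊆
          orbit A ω₀.out := by
        intro y hy
        rw [Finset.mem_coe, Equiv.Perm.mem_support] at hy
        by_contra hyo
        apply hy
        apply ha y
        rw [Finset.mem_erase]
        refine ⟨?_, Finset.mem_univ _⟩
        intro he
        apply hyo
        have h1 : (Quotient.mk'' y : orbitRel.Quotient A (Fin (3 * k + 2))) =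
            Quotient.mk'' ω₀.out := by rw [he, Quotient.out_eq']
        have h2 := Quotient.exact' h1
        exact (orbitRel_apply).mp h2
      have hcard : (a : Equiv.Perm (Fin (3 * k + 2))).support.card ≤ 2 := by
        have h1 : (orbit A ω₀.out).ncard = 2 := by
          rw [← Nat.card_coe_set_eq]; exact hω₀
        have h2 := Set.ncard_le_ncard hsupp (Set.toFinite _)
        rwa [Set.ncard_coe_finset, h1] at h2
      have h2le := Equiv.Perm.two_le_card_support_of_ne_one hne'
      have hswap : (a : Equiv.Perm (Fin (3 * k + 2))).IsSwap :=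
        Equiv.Perm.card_support_eq_two.mp (by omega)
      have hsign := hswap.sign_eq
      have halt := Equiv.Perm.mem_alternatingGroup.mp (hAalt a.2)
      rw [halt] at hsign
      exact absurd hsign (by decide)
    have h1 := card_le_prod A hA (Finset.univ.erase ω₀) hS
    have hsum : ∑ ω ∈ Finset.univ.erase ω₀, Nat.card (orbit A ω.out) = 3 * k := by
      have := Finset.add_sum_erase Finset.univ (fun ω => Nat.card (orbit A ω.out))
        (Finset.mem_univ ω₀)
      rw [sum_card_orbits, hω₀] at this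
      omega
    have h2 := prod_le_gmax (Finset.univ.erase ω₀) (fun ω => Nat.card (orbit A ω.out))
      (fun ω _ => hpos ω)
    rw [hsum, gmax_three_mul] at h2
    have h3 : 3 ^ k = 9 * 3 ^ (k - 2) := by
      obtain ⟨j, rfl⟩ : ∃ j, k = j + 2 := ⟨k - 2, by omega⟩
      rw [Nat.add_sub_cancel, pow_add]
      ring
    omega
  · push Not at hex
    have hS : ∀ a : A, (∀ y : Fin (3 * k + 2),
        (Quotient.mk'' y : orbitRel.Quotient A (Fin (3 * k + 2))) ∈ Finset.univ → a • y = y) →
          a = 1 := by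
      intro a ha
      have h1 : (a : Equiv.Perm (Fin (3 * k + 2))) = 1 := by
        apply Equiv.ext
        intro y
        rw [Equiv.Perm.one_apply]
        exact ha y (Finset.mem_univ _)
      exact Subtype.ext h1
    have h1 := card_le_prod A hA Finset.univ hS
    have hf2 : ∀ ω ∈ (Finset.univ : Finset (orbitRel.Quotient A (Fin (3 * k + 2)))),
        (fun ω => Nat.card (orbit A ω.out)) ω ≠ 2 := fun ω _ => hex ω
    have hf1 : ∀ ω ∈ (Finset.univ : Finset (orbitRel.Quotient A (Fin (3 * k + 2)))),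
        1 ≤ (fun ω => Nat.card (orbit A ω.out)) ω := fun ω _ => hpos ω
    have h2 := prod_le_hmax Finset.univ (fun ω : orbitRel.Quotient A (Fin (3 * k + 2)) =>
      Nat.card (orbit A ω.out)) hf1 hf2
    rw [sum_card_orbits, hmax_three_mul_add_two k hk] at h2
    exact h1.trans h2

end Cfsg.Agent.S2504

namespace Cfsg.Agent.S2504
open Cfsg.Agent.S2505

/-- `Equiv.prodCongrRight` as a monoid hom -/
def pcrHom (α β : Type*) : (α → Equiv.Perm β) →* Equiv.Perm (α × β) where
  toFun := Equiv.prodCongrRight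
  map_one' := by
    apply Equiv.ext
    rintro ⟨a, b⟩
    rfl
  map_mul' := by
    intro σ τ
    apply Equiv.ext
    rintro ⟨a, b⟩
    rfl

theorem pcrHom_injective (α β : Type*) : Function.Injective (pcrHom α β) := by
  intro σ τ h
  funext a
  apply Equiv.ext
  intro b
  have := congrArg (fun e : Equiv.Perm (α × β) => (e (a, b)).2) h
  exact this

/-- pointwise Cayley representation -/
def cayleyPi (ι G : Type*) [Group G] : (ι → G) →* (ι → Equiv.Perm G) where
  toFun := fun f i => MulAction.toPermHom G G (f i)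
  map_one' := by
    funext i
    exact map_one (MulAction.toPermHom G G)
  map_mul' := by
    intro f g
    funext i
    exact map_mul (MulAction.toPermHom G G) (f i) (g i)

theorem cayleyPi_injective (ι G : Type*) [Group G] : Function.Injective (cayleyPi ι G) := by
  intro f g hfg
  funext i
  have := congrFun hfg i
  exact MulAction.toPerm_injective this

theorem sign_G3 (g : Multiplicative (ZMod 3)) :
    Equiv.Perm.sign (MulAction.toPerm g : Equiv.Perm (Multiplicative (ZMod 3))) = 1 := by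
  revert g
  decide

theorem exists_abelian_alt (a b : ℕ) :
    ∃ A : Subgroup (alternatingGroup (Fin (3 * a + 4 * b))),
      IsMulCommutative A ∧ Nat.card A = 3 ^ a * 4 ^ b := by
  classical
  let G₃ := Multiplicative (ZMod 3)
  let V₄ := Multiplicative (ZMod 2 × ZMod 2)
  let Φ : (Fin a → G₃) × (Fin b → V₄) →* Equiv.Perm ((Fin a × G₃) ⊕ (Fin b × V₄)) :=
    (Equiv.Perm.sumCongrHom _ _).comp
      (MonoidHom.prodMap ((pcrHom (Fin a) G₃).comp (cayleyPi (Fin a) G₃))
        ((pcrHom (Fin b) V₄).comp (cayleyPi (Fin b) V₄)))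
  have hΦ : Function.Injective Φ := by
    apply Equiv.Perm.sumCongrHom_injective.comp
    rw [MonoidHom.coe_prodMap]
    apply Function.Injective.prodMap
    · exact (pcrHom_injective _ _).comp (cayleyPi_injective _ _)
    · exact (pcrHom_injective _ _).comp (cayleyPi_injective _ _)
  have hsign : ∀ x, Equiv.Perm.sign (Φ x) = 1 := by
    rintro ⟨f, g⟩
    show Equiv.Perm.sign (Equiv.sumCongr (Equiv.prodCongrRight (cayleyPi (Fin a) G₃ f))
      (Equiv.prodCongrRight (cayleyPi (Fin b) V₄ g))) = 1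
    rw [Equiv.Perm.sign_sumCongr, Equiv.Perm.sign_prodCongrRight, Equiv.Perm.sign_prodCongrRight]
    rw [Finset.prod_eq_one, Finset.prod_eq_one, one_mul]
    · intro i _
      exact sign_V4 (g i)
    · intro i _
      exact sign_G3 (f i)
  have hc3 : Nat.card G₃ = 3 := by
    rw [Nat.card_congr (Multiplicative.toAdd : G₃ ≃ ZMod 3), Nat.card_zmod]
  have hc4 : Nat.card V₄ = 4 := by
    rw [Nat.card_congr (Multiplicative.toAdd : V₄ ≃ ZMod 2 × ZMod 2), Nat.card_prod, Nat.card_zmod]
  haveI : Finite G₃ := Nat.finite_of_card_ne_zero (by rw [hc3]; omega)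
  haveI : Finite V₄ := Nat.finite_of_card_ne_zero (by rw [hc4]; omega)
  have hcardX : Nat.card ((Fin a × G₃) ⊕ (Fin b × V₄)) = 3 * a + 4 * b := by
    rw [Nat.card_sum, Nat.card_prod, Nat.card_prod, hc3, hc4, Nat.card_fin, Nat.card_fin]
    ring
  have hcardB : Nat.card ((Fin a → G₃) × (Fin b → V₄)) = 3 ^ a * 4 ^ b := by
    rw [Nat.card_prod, Nat.card_pi, Nat.card_pi]
    simp only [hc3, hc4, Finset.prod_const, Finset.card_univ, Fintype.card_fin]
  have hcardX' : Fintype.card ((Fin a × G₃) ⊕ (Fin b × V₄)) = 3 * a + 4 * b := by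
    rw [← Nat.card_eq_fintype_card, hcardX]
  let e : ((Fin a × G₃) ⊕ (Fin b × V₄)) ≃ Fin (3 * a + 4 * b) := Fintype.equivFinOfCardEq hcardX'
  let Ψ : (Fin a → G₃) × (Fin b → V₄) →* Equiv.Perm (Fin (3 * a + 4 * b)) :=
    (e.permCongrHom.toMonoidHom).comp Φ
  have hΨ : Function.Injective Ψ := e.permCongrHom.injective.comp hΦ
  have hΨsign : ∀ x, Ψ x ∈ alternatingGroup (Fin (3 * a + 4 * b)) := by
    intro x
    rw [Equiv.Perm.mem_alternatingGroup]
    show Equiv.Perm.sign (e.permCongr (Φ x)) = 1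
    rw [Equiv.Perm.sign_permCongr, hsign]
  let Ψ' : (Fin a → G₃) × (Fin b → V₄) →* alternatingGroup (Fin (3 * a + 4 * b)) :=
    Ψ.codRestrict _ hΨsign
  have hΨ' : Function.Injective Ψ' := by
    intro x y hxy
    apply hΨ
    exact congrArg Subtype.val hxy
  refine ⟨Ψ'.range, ?_, ?_⟩
  · refine ⟨⟨?_⟩⟩
    rintro ⟨_, x, rfl⟩ ⟨_, y, rfl⟩
    apply Subtype.ext
    show Ψ' x * Ψ' y = Ψ' y * Ψ' x
    rw [← map_mul, ← map_mul]
    exact congrArg Ψ' (mul_comm x y)
  · rw [← hcardB]
    exact (Nat.card_congr (MonoidHom.ofInjective hΨ').toEquiv).symm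

end Cfsg.Agent.S2504

namespace Cfsg.Agent.S2504
open Cfsg.Agent.S2505

theorem exists_abelian_alt' (n a b : ℕ) (h : n = 3 * a + 4 * b) :
    ∃ A : Subgroup (alternatingGroup (Fin n)),
      IsMulCommutative A ∧ Nat.card A = 3 ^ a * 4 ^ b := by
  subst h
  exact exists_abelian_alt a b

theorem map_data {n : ℕ} (A : Subgroup (alternatingGroup (Fin n))) (hA : IsMulCommutative A) :
    ∃ A' : Subgroup (Equiv.Perm (Fin n)), IsMulCommutative A' ∧ A' ≤ alternatingGroup (Fin n) ∧
      Nat.card A' = Nat.card A := by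
  refine ⟨A.map (alternatingGroup (Fin n)).subtype, ?_, Subgroup.map_subtype_le A, ?_⟩
  · refine ⟨⟨?_⟩⟩
    rintro ⟨_, x, hx, rfl⟩ ⟨_, y, hy, rfl⟩
    apply Subtype.ext
    show (alternatingGroup (Fin n)).subtype x * (alternatingGroup (Fin n)).subtype y =
      (alternatingGroup (Fin n)).subtype y * (alternatingGroup (Fin n)).subtype x
    rw [← map_mul, ← map_mul]
    have := hA.is_comm.comm ⟨x, hx⟩ ⟨y, hy⟩
    have h2 : x * y = y * x := congrArg Subtype.val this
    rw [h2]
  · exact (Nat.card_congr (A.equivMapOfInjective _ (Subgroup.subtype_injective _)).toEquiv).symm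

theorem result (k : ℕ) (hk : 2 ≤ k) :
    IsGreatest {c : ℕ | ∃ A : Subgroup (alternatingGroup (Fin (3 * k))), IsMulCommutative A ∧ Nat.card A = c} (3 ^ k) ∧
    IsGreatest {c : ℕ | ∃ A : Subgroup (alternatingGroup (Fin (3 * k + 1))), IsMulCommutative A ∧ Nat.card A = c}
      (4 * 3 ^ (k - 1)) ∧
    IsGreatest {c : ℕ | ∃ A : Subgroup (alternatingGroup (Fin (3 * k + 2))), IsMulCommutative A ∧ Nat.card A = c}
      (16 * 3 ^ (k - 2)) := by
  refine ⟨⟨?_, ?_⟩, ⟨?_, ?_⟩, ⟨?_, ?_⟩⟩
  · obtain ⟨A, hA, hc⟩ := exists_abelian_alt' (3 * k) k 0 (by omega)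
    exact ⟨A, hA, by rw [hc, pow_zero, mul_one]⟩
  · rintro c ⟨A, hA, rfl⟩
    obtain ⟨A', hA', _, hc⟩ := map_data A hA
    rw [← hc, ← gmax_three_mul]
    exact card_le_gmax A' hA'
  · obtain ⟨A, hA, hc⟩ := exists_abelian_alt' (3 * k + 1) (k - 1) 1 (by omega)
    exact ⟨A, hA, by rw [hc, pow_one, mul_comm]⟩
  · rintro c ⟨A, hA, rfl⟩
    obtain ⟨A', hA', _, hc⟩ := map_data A hA
    rw [← hc, ← gmax_three_mul_add_one k (by omega)]
    exact card_le_gmax A' hA'
  · obtain ⟨A, hA, hc⟩ := exists_abelian_alt' (3 * k + 2) (k - 2) 2 (by omega)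
    exact ⟨A, hA, by rw [hc, mul_comm]; norm_num⟩
  · rintro c ⟨A, hA, rfl⟩
    obtain ⟨A', hA', hle, hc⟩ := map_data A hA
    rw [← hc]
    exact alt_bound hk A' hA' hle

end Cfsg.Agent.S2504
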