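import Cfsg.Statements.S5084
import Cfsg.Agent.Lib.H25.Normal

set_option autoImplicit false
open Cfsg

namespace Cfsg.Agent.S5084

open Cfsg.FusionSystem Cfsg.Agent.Lib.H25

/-- In a saturated fusion system over a finite p-group S, a subgroup Q is central in the system if and only if Q ≤ S and no element of Q is conjugate in the system to any element other than itself. -/
theorem result {Ω : Type*} [Group Ω] {S : Subgroup Ω} [Finite S] (p : ℕ) [Fact p.Prime] (hS : IsPGroup p S) (F : Cfsg.FusionSystem S) (hF : F.IsSaturated p) (Q : Subgroup Ω) : F.IsCentral Q ↔ (Q ≤ S ∧ ∀ x ∈ Q, ∀ y : Ω, F.IsConjElt x y → y = x) := by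
  constructor
  · rintro ⟨hQS, hext⟩
    refine ⟨hQS, fun x hx y hxy => ?_⟩
    obtain ⟨φ, hφ, rfl⟩ := hxy
    obtain ⟨ψ, hψ, hψφ, hψQ⟩ := hext _ φ hφ
    rw [← hψφ ⟨x, Subgroup.mem_zpowers x⟩]
    exact hψQ ⟨x, hx⟩
  · rintro ⟨hQS, h⟩
    -- every isomorphism of the system fixes the elements of `Q` in its source
    have hfix : ∀ (T T' : Subgroup Ω) (f : Ω → Ω), IsIso F T T' f → ∀ x ∈ T, x ∈ Q → f x = x := by
      intro T T' f hf x hxT hxQ
      have hle : Subgroup.zpowers x ≤ T := Subgroup.zpowers_le.2 hxT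
      obtain ⟨Z', -, hZ', -⟩ := hf.restrict hle
      obtain ⟨φ, hφ, hφf, -⟩ := hZ'
      have := h x hxQ (f x) ⟨φ, hφ, hφf ⟨x, Subgroup.mem_zpowers x⟩⟩
      exact this
    -- `Q` lies in the centre of `S`
    have hcent : ∀ g ∈ S, ∀ x ∈ Q, g * x * g⁻¹ = x := by
      intro g hg x hx
      exact hfix Q _ _ (IsIso.conj (F := F) hQS hg) x hx hx
    apply isCentral_of_essential hS hF
    intro T hT
    have hTS : T ≤ S := le_of_eq_or_essential hT
    have hQT : Q ≤ T := by
      rcases hT with rfl | hT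
      · exact hQS
      · intro x hx
        apply hT.1.2 T (isConj_refl F hTS)
        refine ⟨hQS hx, ?_⟩
        show x ∈ Subgroup.centralizer (T : Set Ω)
        rw [Subgroup.mem_centralizer_iff]
        intro y hy
        have h1 := hcent y (hTS hy) x hx
        calc y * x = y * x * y⁻¹ * y := by group
          _ = x * y := by rw [h1]
    refine ⟨hQT, fun α hα x hx => ?_⟩
    have h1 := isIso_of_mem_autGroup F hTS hα
    have h2 := hfix T T _ h1 x x.2 hx
    rwa [ext1_apply] at h2

end Cfsg.Agent.S5084
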