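import Cfsg.Statements.S5092
import Cfsg.Agent.Lib.H25.Hyperfocal

set_option autoImplicit false
open Cfsg

namespace Cfsg.Agent.S5092

open Cfsg.FusionSystem Cfsg.Agent.Lib.H25
open scoped commutatorElement

/-- For a saturated fusion system over a finite p-group S, the focal subgroup is the product of the hyperfocal subgroup and the derived subgroup of S. -/
theorem result {Ω : Type*} [Group Ω] {S : Subgroup Ω} [Finite S] (p : ℕ) [Fact p.Prime] (hS : IsPGroup p S) (F : Cfsg.FusionSystem S) (hF : F.IsSaturated p) : F.focalSubgroup = F.hyperfocalSubgroup p ⊔ ⁅(S : Subgroup Ω), (S : Subgroup Ω)⁆ := by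
  set K := F.hyperfocalSubgroup p ⊔ ⁅(S : Subgroup Ω), (S : Subgroup Ω)⁆ with hK
  have hcomm : ∀ a ∈ S, ∀ b ∈ S, a⁻¹ * (b * a * b⁻¹) ∈ K := by
    intro a ha b hb
    have h1 : ⁅a⁻¹, b⁆ ∈ ⁅(S : Subgroup Ω), (S : Subgroup Ω)⁆ :=
      Subgroup.commutator_mem_commutator (S.inv_mem ha) hb
    have h2 : ⁅a⁻¹, b⁆ = a⁻¹ * (b * a * b⁻¹) := by
      rw [commutatorElement_def]; group
    rw [← h2]
    exact (le_sup_right : _ ≤ K) h1
  apply le_antisymm
  · have key := alperin_pred hS F hF (fun P φ => ∀ x : P, (x : Ω)⁻¹ * φ x ∈ K) ?_ ?_ ?_ ?_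
    · unfold focalSubgroup
      rw [Subgroup.closure_le]
      rintro _ ⟨P, φ, x, hφ, rfl⟩
      exact key P φ hφ x
    · intro P g hP hg x
      rw [conjHom_apply]
      exact hcomm _ (hP x.2) g hg
    · intro P R φ ψ hPR _ _ hφ hψ x
      have h1 := hφ x
      have h2 := hψ ⟨φ x, hPR x⟩
      have : (x : Ω)⁻¹ * (ψ.comp (φ.codRestrict R hPR)) x =
          ((x : Ω)⁻¹ * φ x) * ((φ x)⁻¹ * ψ ⟨φ x, hPR x⟩) := by
        show (x : Ω)⁻¹ * ψ ⟨φ x, hPR x⟩ = _
        group
      rw [this]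
      exact K.mul_mem h1 h2
    · intro P φ ψ _ _ hψφ hφ y
      obtain ⟨y, x, rfl⟩ := y
      rw [hψφ x]
      have h1 := K.inv_mem (hφ x)
      have : ((x : Ω)⁻¹ * φ x)⁻¹ = (φ x)⁻¹ * (x : Ω) := by group
      rw [this] at h1
      exact h1
    · intro T hT α hα x
      have hTS : T ≤ S := le_of_eq_or_essential hT
      have hfa := (fullyNormalized_props hS hF (isFullyNormalized_of_eq_or_essential hT)).2
      obtain ⟨g, hgN, u, hu, hαu⟩ := exists_conj_mul_pResidual hfa ⟨α, hα⟩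
      have h1 := hαu x
      simp only at h1
      show (x : Ω)⁻¹ * ((α x : T) : Ω) ∈ K
      rw [h1]
      have h2 : (x : Ω)⁻¹ * (((u : MulAut T) x : T) : Ω) ∈ K :=
        (le_sup_left : _ ≤ K) (mem_hyperfocal_gen F p hTS u hu x)
      have h3 := hcomm _ (hTS ((u : MulAut T) x).2) g hgN.1
      have : (x : Ω)⁻¹ * (g * (((u : MulAut T) x : T) : Ω) * g⁻¹) =
          ((x : Ω)⁻¹ * (((u : MulAut T) x : T) : Ω)) *
            ((((u : MulAut T) x : T) : Ω)⁻¹ * (g * (((u : MulAut T) x : T) : Ω) * g⁻¹)) := by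
        group
      rw [this]
      exact K.mul_mem h2 h3
  · apply sup_le
    · unfold hyperfocalSubgroup
      rw [Subgroup.closure_le]
      rintro _ ⟨P, α, x, hP, -, rfl⟩
      apply Subgroup.subset_closure
      exact ⟨P, P.subtype.comp (α : MulAut P).toMonoidHom, x,
        (mem_autGroup_iff F hP _).1 α.2, rfl⟩
    · rw [Subgroup.commutator_le]
      intro a ha b hb
      apply Subgroup.subset_closure
      refine ⟨S, conjHom S b, ⟨a⁻¹, S.inv_mem ha⟩, F.conj_mem le_rfl hb, ?_⟩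
      rw [conjHom_apply, commutatorElement_def]
      group

end Cfsg.Agent.S5092
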