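import Cfsg.Statements.S5144
import Cfsg.Agent.Lib.H25.Fusion

set_option autoImplicit false
open Cfsg

namespace Cfsg.Agent.S5144

open Cfsg.FusionSystem Cfsg.Agent.Lib.H25

variable {Ω : Type*} [Group Ω] {S : Subgroup Ω}

theorem bot_central (F : FusionSystem S) : F.IsCentral (⊥ : Subgroup Ω) := by
  refine ⟨bot_le, fun P φ hφ => ?_⟩
  have h : P = P ⊔ ⊥ := (sup_bot_eq P).symm
  refine ⟨_, hom_cast F h hφ, fun x => ?_, ?_⟩
  · show φ _ = φ x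
    congr 1
  · intro x
    have hx1 : (x : Ω) = 1 := Subgroup.mem_bot.1 x.2
    have hx2 : Subgroup.inclusion (le_sup_right : (⊥ : Subgroup Ω) ≤ P ⊔ ⊥) x = 1 := Subtype.ext hx1
    rw [hx2, map_one, hx1]

theorem sup_central (F : FusionSystem S) {Q₁ Q₂ : Subgroup Ω} (h₁ : F.IsCentral Q₁)
    (h₂ : F.IsCentral Q₂) : F.IsCentral (Q₁ ⊔ Q₂) := by
  refine ⟨sup_le h₁.1 h₂.1, fun P φ hφ => ?_⟩
  obtain ⟨ψ₁, hψ₁, hψ₁φ, hψ₁Q⟩ := h₁.2 P φ hφ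
  obtain ⟨ψ₂, hψ₂, hψ₂ψ₁, hψ₂Q⟩ := h₂.2 (P ⊔ Q₁) ψ₁ hψ₁
  have h : (P ⊔ Q₁) ⊔ Q₂ = P ⊔ (Q₁ ⊔ Q₂) := sup_assoc _ _ _
  refine ⟨_, hom_cast F h hψ₂, fun x => ?_, ?_⟩
  · rw [← hψ₁φ x, ← hψ₂ψ₁]
    show ψ₂ _ = ψ₂ _
    congr 1
  · have hQ₁ : ∀ (x : Ω) (hx : x ∈ Q₁) (hx' : x ∈ (P ⊔ Q₁) ⊔ Q₂), ψ₂ ⟨x, hx'⟩ = x := by
      intro x hx hx'
      have e : (⟨x, hx'⟩ : ↥((P ⊔ Q₁) ⊔ Q₂)) =
          Subgroup.inclusion le_sup_left (⟨x, (le_sup_right : Q₁ ≤ P ⊔ Q₁) hx⟩ : ↥(P ⊔ Q₁)) := rfl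
      rw [e, hψ₂ψ₁]
      exact hψ₁Q ⟨x, hx⟩
    have hQ₂ : ∀ (x : Ω) (hx : x ∈ Q₂) (hx' : x ∈ (P ⊔ Q₁) ⊔ Q₂), ψ₂ ⟨x, hx'⟩ = x := by
      intro x hx hx'
      exact hψ₂Q ⟨x, hx⟩
    -- the fixed points of ψ₂ form a subgroup containing Q₁ and Q₂
    let K : Subgroup ↥((P ⊔ Q₁) ⊔ Q₂) :=
      { carrier := {z | ψ₂ z = (z : Ω)}
        one_mem' := by simp
        mul_mem' := by
          intro a b ha hb
          show ψ₂ (a * b) = ((a * b : ↥((P ⊔ Q₁) ⊔ Q₂)) : Ω)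
          rw [map_mul, ha, hb]; rfl
        inv_mem' := by
          intro a ha
          show ψ₂ a⁻¹ = ((a⁻¹ : ↥((P ⊔ Q₁) ⊔ Q₂)) : Ω)
          rw [map_inv, ha]; rfl }
    have hK : Q₁ ⊔ Q₂ ≤ K.map (Subgroup.subtype _) := by
      apply sup_le
      · intro a ha
        have ha' : a ∈ (P ⊔ Q₁) ⊔ Q₂ := by
          rw [h]; exact (le_sup_right : Q₁ ⊔ Q₂ ≤ P ⊔ (Q₁ ⊔ Q₂)) ((le_sup_left : Q₁ ≤ Q₁ ⊔ Q₂) ha)
        exact ⟨⟨a, ha'⟩, hQ₁ a ha ha', rfl⟩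
      · intro a ha
        have ha' : a ∈ (P ⊔ Q₁) ⊔ Q₂ := by
          rw [h]; exact (le_sup_right : Q₁ ⊔ Q₂ ≤ P ⊔ (Q₁ ⊔ Q₂)) ((le_sup_right : Q₂ ≤ Q₁ ⊔ Q₂) ha)
        exact ⟨⟨a, ha'⟩, hQ₂ a ha ha', rfl⟩
    intro x
    obtain ⟨z, hz, hzx⟩ := hK x.2
    have hz' : ψ₂ z = (z : Ω) := hz
    show ψ₂ _ = (x : Ω)
    have e : ((MulEquiv.subgroupCongr h.symm).toMonoidHom
        (Subgroup.inclusion (le_sup_right : Q₁ ⊔ Q₂ ≤ P ⊔ (Q₁ ⊔ Q₂)) x)) = z :=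
      Subtype.ext hzx.symm
    rw [e, hz']
    exact hzx

theorem finite_subgroups_le (S : Subgroup Ω) [Finite S] : {Q : Subgroup Ω | Q ≤ S}.Finite := by
  have : Finite (Subgroup S) := inferInstance
  apply Set.Finite.of_finite_image (f := fun Q : Subgroup Ω => Q.subgroupOf S)
  · exact Set.toFinite _
  · intro Q₁ h₁ Q₂ h₂ h
    have h' : Q₁.subgroupOf S = Q₂.subgroupOf S := h
    rw [Subgroup.subgroupOf_inj] at h'
    rwa [inf_eq_left.2 h₁, inf_eq_left.2 h₂] at h'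

/-- For a fusion system over a finite subgroup S, the centre of the system (the join of all subgroups central in it) is itself central in the system, hence its largest central subgroup. -/
theorem result {Ω : Type*} [Group Ω] {S : Subgroup Ω} [Finite S] (F : Cfsg.FusionSystem S) : F.IsCentral F.center := by
  have hfin : {Q : Subgroup Ω | F.IsCentral Q}.Finite :=
    (finite_subgroups_le S).subset (fun Q hQ => hQ.1)
  have key : ∀ T : Set (Subgroup Ω), T.Finite → T ⊆ {Q | F.IsCentral Q} → F.IsCentral (sSup T) := by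
    intro T hT
    induction T, hT using Set.Finite.induction_on with
    | empty => intro _; rw [sSup_empty]; exact bot_central F
    | insert ha hT ih =>
      intro hsub
      rw [sSup_insert]
      exact sup_central F (hsub (Set.mem_insert _ _)) (ih (fun Q hQ => hsub (Set.mem_insert_of_mem _ hQ)))
  exact key _ hfin (fun Q hQ => hQ)

end Cfsg.Agent.S5144
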