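import Cfsg.Statements.S5241
import Cfsg.Agent.Lib.H26.FactorLocal
import Cfsg.Agent.Lib.H26.ModelInduct
import Cfsg.Agent.Lib.H25.MorphismSat
import Cfsg.Agent.S5090
import Cfsg.Agent.S5134
import Cfsg.Agent.S5250

set_option autoImplicit false
open Cfsg

namespace Cfsg.Agent.S5241

/-- Let F be a saturated fusion system over a finite p-group S, Q a subgroup of S normal in F (so F is the normalizer system of Q), and suppose F is Qd(p)-free (Qd(p) is not involved in any model of the normalizer system of a fully normalized centric subgroup). Then every factor system F/Q is Qd(p)-free. -/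
theorem result {Ω : Type*} [Group Ω] {S : Subgroup Ω} [Finite S] (p : ℕ) [Fact p.Prime] (hS : IsPGroup p S) (F : Cfsg.FusionSystem S) (hF : F.IsSaturated p) (Q : Subgroup Ω) (hQ : F.IsNormal Q) (hfree : F.IsSectionFree p ↥(Cfsg.qd p)) {Ω' : Type*} [Group Ω'] {S' : Subgroup Ω'} (θ : ↥S →* Ω') (E : Cfsg.FusionSystem S') (hE : F.IsFactorSystem Q θ E) : E.IsSectionFree p ↥(Cfsg.qd p) := by
  have hQsc : F.StronglyClosed Q := Cfsg.Agent.Lib.H25.isNormal_stronglyClosed hQ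
  have hsm : F.IsSurjectiveMorphism E θ := Cfsg.Agent.S5134.result p hS F hF Q hQsc θ E hE
  have hrange := hsm.2.1
  haveI hfinS' : Finite S' := Cfsg.Agent.Lib.H25.finite_S' hrange
  have hS' : IsPGroup p S' := Cfsg.Agent.Lib.H25.isPGroup_S' hrange hS
  have hEsat : E.IsSaturated p :=
    Cfsg.Agent.Lib.H25.isSaturated_of_surjectiveMorphism hS hF hsm
  have hkerQ : Cfsg.Agent.Lib.H25.kerSub θ = Q := by
    ext x
    rw [Cfsg.Agent.Lib.H25.mem_kerSub_iff]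
    constructor
    · rintro ⟨hxS, hx⟩
      rw [Cfsg.Agent.Lib.H25.al_apply θ hxS] at hx
      exact (hE.2.1 ⟨x, hxS⟩).1 hx
    · intro hx
      refine ⟨hE.1 hx, ?_⟩
      rw [Cfsg.Agent.Lib.H25.al_apply θ (hE.1 hx)]
      exact (hE.2.1 ⟨x, hE.1 hx⟩).2 hx
  have hKsc : F.StronglyClosed (Cfsg.Agent.Lib.H25.kerSub θ) := hkerQ ▸ hQsc
  have hKn : F.IsNormal (Cfsg.Agent.Lib.H25.kerSub θ) := hkerQ ▸ hQ
  apply Cfsg.Agent.S5250.result p hS' E hEsat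
  intro Pb hPbfn hPbc hPbr Nb hNb Lb _ ιb hMb hinv
  have hPfn : F.IsFullyNormalized (Cfsg.FusionSystem.preimageAlong θ Pb) :=
    Cfsg.Agent.Lib.H25.isFullyNormalized_pre hsm hKsc hPbfn
  have hPc : F.IsCentric (Cfsg.FusionSystem.preimageAlong θ Pb) :=
    Cfsg.Agent.Lib.H26.Model.isCentric_pre hsm hKsc hPbc
  have hPS := hPfn.1
  have hKP : Cfsg.Agent.Lib.H25.kerSub θ ≤ Cfsg.FusionSystem.preimageAlong θ Pb :=
    Cfsg.Agent.Lib.H25.kerSub_le_pre θ Pb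
  obtain ⟨N, hN⟩ := Cfsg.Agent.S5096.result F _ hPS
  have hcon := Cfsg.Agent.Lib.H25.normalizerSystem_isConstrained hS hF hPfn hPc N hN
  haveI hfinT : Finite ↥(Cfsg.FusionSystem.normalizerIn S (Cfsg.FusionSystem.preimageAlong θ Pb)) :=
    Cfsg.Agent.Lib.H25.finite_of_le S inf_le_left
  have hST : IsPGroup p ↥(Cfsg.FusionSystem.normalizerIn S (Cfsg.FusionSystem.preimageAlong θ Pb)) :=
    hS.to_le inf_le_left
  obtain ⟨L, _, ι, hM⟩ := Cfsg.Agent.S5090.result p hST N hcon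
  have hnot := hfree _ hPfn hPc N hN L ι hM
  have hPnN : N.IsNormal (Cfsg.FusionSystem.preimageAlong θ Pb) :=
    Cfsg.Agent.Lib.H25.normalizerSystem_isNormal hPS hN
  have hPn : (Cfsg.Agent.Lib.H26.Model.imgOf ι (Cfsg.FusionSystem.preimageAlong θ Pb)).Normal :=
    Cfsg.Agent.Lib.H26.Model.model_map_normal hM hPnN
  have hQnN : N.IsNormal (Cfsg.Agent.Lib.H25.kerSub θ) :=
    Cfsg.Agent.Lib.H26.Model.isNormal_normalizerSystem hKn hKP hPS hN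
  haveI hKnL : (Cfsg.Agent.Lib.H26.Model.imgOf ι (Cfsg.Agent.Lib.H25.kerSub θ)).Normal :=
    Cfsg.Agent.Lib.H26.Model.model_map_normal hM hQnN
  haveI hfinL : Finite L := hM.1
  have hrealb := Cfsg.Agent.Lib.H26.Model.factor_realizedBy hsm hKsc hPbfn.1 hN hNb hM.2.1 hPn
  obtain ⟨Tsyl, hTsyl⟩ := hM.2.2.1
  have hsylb : ∃ T : Sylow p (L ⧸ Cfsg.Agent.Lib.H26.Model.imgOf ι (Cfsg.Agent.Lib.H25.kerSub θ)),
      (T : Subgroup _) = (Cfsg.Agent.Lib.H26.Model.iotaBar hsm.2.1 hPbfn.1 ι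
        (Cfsg.Agent.Lib.H26.Model.imgOf ι (Cfsg.Agent.Lib.H25.kerSub θ)) le_rfl).range := by
    rw [Cfsg.Agent.Lib.H26.Model.iotaBar_range]
    exact Cfsg.Agent.Lib.H26.Model.sylow_quotient hST Tsyl hTsyl _
  haveI hfinT' : Finite ↥(Cfsg.FusionSystem.normalizerIn S' Pb) :=
    Cfsg.Agent.Lib.H25.finite_of_le S' inf_le_left
  have hST' : IsPGroup p ↥(Cfsg.FusionSystem.normalizerIn S' Pb) := hS'.to_le inf_le_left
  have hPbT' : Pb ≤ Cfsg.FusionSystem.normalizerIn S' Pb :=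
    Cfsg.Agent.Lib.H25.le_normalizerIn hPbfn.1
  have himg : Cfsg.Agent.Lib.H26.Model.imgOf (Cfsg.Agent.Lib.H26.Model.iotaBar hsm.2.1 hPbfn.1 ι
      (Cfsg.Agent.Lib.H26.Model.imgOf ι (Cfsg.Agent.Lib.H25.kerSub θ)) le_rfl) Pb =
      (Cfsg.Agent.Lib.H26.Model.imgOf ι (Cfsg.FusionSystem.preimageAlong θ Pb)).map
        (QuotientGroup.mk' _) := by
    ext y
    rw [Cfsg.Agent.Lib.H26.Model.mem_imgOf]
    constructor
    · rintro ⟨xb, hxbT, hxbP, rfl⟩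
      obtain ⟨x, hx, hxe⟩ := Cfsg.Agent.Lib.H25.exists_al_eq_of_mem hrange hPbfn.1 hxbP
      have hxT := Cfsg.Agent.Lib.H25.le_normalizerIn hPS hx
      refine ⟨ι ⟨x, hxT⟩, Cfsg.Agent.Lib.H26.Model.mem_imgOf.2 ⟨x, hxT, hx, rfl⟩, ?_⟩
      rw [← Cfsg.Agent.Lib.H26.Model.iotaBar_apply hsm.2.1 hPbfn.1 _ le_rfl]
      congr 1
      exact Subtype.ext hxe
    · rintro ⟨z, hz, rfl⟩
      obtain ⟨x, hxT, hx, rfl⟩ := Cfsg.Agent.Lib.H26.Model.mem_imgOf.1 hz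
      refine ⟨Cfsg.Agent.Lib.H25.al θ x, (Cfsg.Agent.Lib.H26.Model.thetaT hsm.2.1 hPbfn.1 ⟨x, hxT⟩).2,
        ((Cfsg.Agent.Lib.H25.mem_pre_iff θ Pb x).1 hx).2, ?_⟩
      exact Cfsg.Agent.Lib.H26.Model.iotaBar_apply hsm.2.1 hPbfn.1 _ le_rfl ⟨x, hxT⟩
  have hPbn : (Cfsg.Agent.Lib.H26.Model.imgOf (Cfsg.Agent.Lib.H26.Model.iotaBar hsm.2.1 hPbfn.1 ι
      (Cfsg.Agent.Lib.H26.Model.imgOf ι (Cfsg.Agent.Lib.H25.kerSub θ)) le_rfl) Pb).Normal := by
    rw [himg]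
    exact Subgroup.Normal.map hPn _ (QuotientGroup.mk'_surjective _)
  have hPbcent : Cfsg.FusionSystem.centralizerIn (Cfsg.FusionSystem.normalizerIn S' Pb) Pb ≤ Pb :=
    fun x hx => hPbc.2 Pb (Cfsg.Agent.Lib.H25.isConj_refl E hPbfn.1) ⟨hx.1.1, hx.2⟩
  obtain ⟨K', hK'n, hMq⟩ := Cfsg.Agent.Lib.H26.Model.exists_model_quotient hST' hrealb hsylb hPbT'
    hPbn hPbcent
  have hconb := Cfsg.Agent.Lib.H25.normalizerSystem_isConstrained hS' hEsat hPbfn hPbc Nb hNb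
  obtain ⟨Φ, -⟩ := Cfsg.Agent.Lib.H26.Model.model_unique hST' hconb hMb hMq
  apply hnot
  have h1 : Cfsg.Involves ↥(Cfsg.qd p)
      ((L ⧸ Cfsg.Agent.Lib.H26.Model.imgOf ι (Cfsg.Agent.Lib.H25.kerSub θ)) ⧸ K') :=
    Cfsg.Agent.Lib.H26.involves_of_injective Φ.toMonoidHom Φ.injective hinv
  have h2 := Cfsg.Agent.Lib.H26.Model.involves_of_surjective (QuotientGroup.mk' K')
    (QuotientGroup.mk'_surjective K') h1
  exact Cfsg.Agent.Lib.H26.Model.involves_of_surjective (QuotientGroup.mk' _)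
    (QuotientGroup.mk'_surjective _) h2

end Cfsg.Agent.S5241
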