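import Cfsg.Statements.S5204
import Cfsg.Agent.Lib.H26.NilMain
import Cfsg.Agent.S0659
import Cfsg.Agent.Lib.H4.ZJMap
import Cfsg.Agent.Lib.L0.GlaubermanNPC

set_option autoImplicit false
open Cfsg

namespace Cfsg.Agent.S5204

open Cfsg.Agent.Lib.H26.Nil Cfsg.Agent.Lib.H25

universe u

/-- `Z(J(Q))` (abelian version) is nontrivial for a nontrivial finite `p`-group. -/
theorem centerThompsonAOf_ne_bot {p : ℕ} [Fact p.Prime] {G : Type u} [Group G] (Q : Subgroup G)
    (hfin : Finite Q) (hQ : IsPGroup p Q) (hne : Q ≠ ⊥) : Cfsg.centerThompsonAOf Q ≠ ⊥ := by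
  have h1 : Cfsg.centerThompsonAOf Q = (Cfsg.centerThompsonAOf (⊤ : Subgroup Q)).map Q.subtype := by
    have := Cfsg.Agent.Lib.H4.ZJ.centerThompsonAOf_map Q.subtype ⊤ (Q.subtype_injective.injOn)
    rwa [← MonoidHom.range_eq_map, Subgroup.range_subtype] at this
  have hnt : Nontrivial Q := (Subgroup.nontrivial_iff_ne_bot Q).2 hne
  have hz : Cfsg.Agent.Lib.L0.zOf (⊤ : Subgroup Q) ≠ ⊥ := by
    have hc : Subgroup.center Q ≠ ⊥ := by
      have := hQ.center_nontrivial
      exact (Subgroup.nontrivial_iff_ne_bot _).1 this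
    intro h
    apply hc
    rw [eq_bot_iff]
    intro x hx
    rw [← h, Cfsg.Agent.Lib.L0.mem_zOf]
    refine ⟨Subgroup.mem_top _, fun s _ => ?_⟩
    exact (Subgroup.mem_center_iff.1 hx s)
  have h2 : Cfsg.centerThompsonAOf (⊤ : Subgroup Q) ≠ ⊥ := by
    intro h
    apply hz
    rw [eq_bot_iff, ← h]
    exact Cfsg.Agent.Lib.L0.zOf_le_centerThompsonAOf _
  rw [h1]
  intro h
  exact h2 ((Subgroup.map_eq_bot_iff_of_injective _ Q.subtype_injective).1 h)

/-- The functor `Q ↦ Z(J(Q))` (abelian version). -/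
noncomputable def zjFun (p : ℕ) [Fact p.Prime] : PFun.{u} p where
  W := fun Q => Cfsg.centerThompsonAOf Q
  le := fun Q => Cfsg.Agent.Lib.L0.centerThompsonAOf_le Q
  map := fun f Q _ _ hf => Cfsg.Agent.Lib.H4.ZJ.centerThompsonAOf_map f Q hf
  ne_bot := fun Q hfin hQ hne => centerThompsonAOf_ne_bot Q hfin hQ hne


/-- The Glauberman–Thompson normal p-complement criterion for fusion systems, p odd. Let F be a saturated fusion system over a finite p-group S with p odd, and let Z(J(S)) be the centre of the subgroup generated by the abelian subgroups of S of largest order. Then F is the inner fusion system of S if and only if the normalizer fusion system of Z(J(S)) in F is the inner fusion system of N_S(Z(J(S))) = S. -/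
theorem result {Ω : Type*} [Group Ω] {S : Subgroup Ω} [Finite S] (p : ℕ) [Fact p.Prime] (hS : IsPGroup p S) (F : Cfsg.FusionSystem S) (hF : F.IsSaturated p) (hp : p ≠ 2) : (∀ P : Subgroup Ω, F.Hom P = (Cfsg.innerFusionSystem S).Hom P) ↔ ∀ N : Cfsg.FusionSystem (Cfsg.FusionSystem.normalizerIn S (Cfsg.centerThompsonAOf S)), F.IsNormalizerSystem (Cfsg.centerThompsonAOf S) N → ∀ P : Subgroup Ω, N.Hom P = (Cfsg.innerFusionSystem (Cfsg.FusionSystem.normalizerIn S (Cfsg.centerThompsonAOf S))).Hom P := by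
  have hWS : Cfsg.centerThompsonAOf S ≤ S := Cfsg.Agent.Lib.L0.centerThompsonAOf_le S
  have hWn : Cfsg.FusionSystem.normalizerIn S (Cfsg.centerThompsonAOf S) = S :=
    (zjFun p).normalizerIn_self S hS
  have hWfn : F.IsFullyNormalized (Cfsg.centerThompsonAOf S) := by
    refine ⟨hWS, fun Q' _ => ?_⟩
    rw [hWn]
    exact Subgroup.card_le_of_le inf_le_left
  have hNsys : F.IsNormalizerSystem (Cfsg.centerThompsonAOf S)
      (Cfsg.Agent.S5096.normSys F (Cfsg.centerThompsonAOf S) hWS) := fun _ => rfl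
  have hfinN : Finite ↥(Cfsg.FusionSystem.normalizerIn S (Cfsg.centerThompsonAOf S)) :=
    finite_of_le S inf_le_left
  have hNp : IsPGroup p ↥(Cfsg.FusionSystem.normalizerIn S (Cfsg.centerThompsonAOf S)) :=
    hS.to_le inf_le_left
  constructor
  · intro h N hN
    have hsat := normalizerSystem_isSaturated hS hF hWfn N hN
    have hall : AllP p F := allP_of_eq_inner hS h
    have hallN : AllP p N := AllP.mono (fun P φ hφ => by rw [hN P] at hφ; exact hφ.1) hall
    exact eq_inner_of_allP hNp hsat hallN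
  · intro h
    have hN := h _ hNsys
    have hallN : AllP p (Cfsg.Agent.S5096.normSys F (Cfsg.centerThompsonAOf S) hWS) :=
      allP_of_eq_inner hNp hN
    have hnt : ¬ NT p F ((zjFun p).W S) := fun hnt => not_allP_of_NT hWS hNsys hnt hallN
    have hall : AllP p F :=
      goal_all (zjFun p) (fun G _ _ P _ hnpc => Cfsg.Agent.S0659.result hp P hnpc)
        (Nat.card S) rfl hS F hF hnt
    exact eq_inner_of_allP hS hF hall


end Cfsg.Agent.S5204
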