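import Cfsg.Statements.S1255
import Cfsg.Agent.Lib.L0.DihedralInv
-- import your own Cfsg.Agent.* helpers here

set_option autoImplicit false
open Cfsg

namespace Cfsg.Agent.S1255

open Cfsg.Agent.Lib.L0 Cfsg.Agent.Lib.H10

theorem exists_conj_mem_sylow {X : Type*} [Group X] [Finite X] {p : ℕ} [Fact p.Prime]
    (S : Sylow p X) (a : X) (ha : orderOf a = p) : ∃ x : X, x * a * x⁻¹ ∈ (S : Subgroup X) := by
  have hQ : IsPGroup p (Subgroup.zpowers a) := by
    apply IsPGroup.of_card (n := 1)
    rw [Nat.card_zpowers, ha, pow_one]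
  obtain ⟨P, hQP⟩ := hQ.exists_le_sylow
  obtain ⟨y, hy⟩ := MulAction.exists_smul_eq X S P
  refine ⟨y⁻¹, ?_⟩
  have h1 : a ∈ ((y • S : Sylow p X) : Subgroup X) := by
    rw [hy]; exact hQP (Subgroup.mem_zpowers a)
  rw [mem_smul_sylow] at h1
  simpa using h1

/-- The data extracted from a dihedral Sylow 2-subgroup. -/
theorem main {X : Type*} [Group X] [Finite X] (S : Sylow 2 X) (m : ℕ) (hm : 2 ≤ m)
    (eS : (S : Subgroup X) ≃* DihedralGroup m) :
    ∃ z : X, orderOf z = 2 ∧
      ((∀ H : Subgroup X, H.index ≠ 2) → ∀ a : X, orderOf a = 2 → IsConj a z) ∧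
      ((∀ a : X, orderOf a = 2 → IsConj a z) →
        (∀ H : Subgroup X, H.index ≠ 2) ∧ (∀ z₀ : X, ¬ Cfsg.IsIsolatedInvolution z₀)) ∧
      ((∀ U : Subgroup X, U ≤ S → IsKleinFour U →
        3 ∣ (Subgroup.centralizer (U : Set X)).relIndex (Subgroup.normalizer (U : Set X))) →
        ∀ a : X, orderOf a = 2 → IsConj a z) := by
  have hp2 : Fact (Nat.Prime 2) := ⟨Nat.prime_two⟩
  have hmne : NeZero m := ⟨by omega⟩
  have hcard : Nat.card (S : Subgroup X) = 2 * m := by
    rw [Nat.card_congr eS.toEquiv, DihedralGroup.nat_card]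
  have hm2 : 2 ∣ m := by
    obtain ⟨n, hn⟩ := S.2.exists_card_eq
    have h1 : 2 * m = 2 ^ n := by rw [← hcard]; exact hn
    have hn2 : 2 ≤ n := by
      by_contra hcon
      push Not at hcon
      have : 2 ^ n ≤ 2 ^ 1 := Nat.pow_le_pow_right (by norm_num) (by omega)
      omega
    obtain ⟨k, rfl⟩ : ∃ k, n = k + 2 := ⟨n - 2, by omega⟩
    rw [pow_add] at h1
    generalize 2 ^ k = t at h1
    exact ⟨t, by omega⟩
  set f : DihedralGroup m →* X := (S : Subgroup X).subtype.comp eS.symm.toMonoidHom with hf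
  have hfapp : ∀ d, f d = ((eS.symm d : (S : Subgroup X)) : X) := fun d => rfl
  have hfinj : Function.Injective f := by
    rw [hf]
    exact (Subgroup.subtype_injective _).comp eS.symm.injective
  have hfS : ∀ d, f d ∈ (S : Subgroup X) := fun d => (eS.symm d).2
  have hSf : ∀ s ∈ (S : Subgroup X), ∃ d, f d = s := by
    intro s hs
    refine ⟨eS ⟨s, hs⟩, ?_⟩
    rw [hfapp, MulEquiv.symm_apply_apply]
  have hford : ∀ d, orderOf (f d) = orderOf d := fun d => orderOf_injective f hfinj d
  obtain ⟨R₀, hR₀S, hcyc, h2, h3, hmem⟩ :=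
    exists_dihedral_rotation_subgroup (S : Subgroup X) m eS
  have hrel : R₀.relIndex (S : Subgroup X) = 2 :=
    relIndex_of_dihedral_rotation (S : Subgroup X) R₀ m eS hmem
  set z := f (DihedralGroup.r (Dih.hf m)) with hz
  have hzord : orderOf z = 2 := by rw [hz, hford, Dih.orderOf_r_hf hm2]
  have hKf : ∀ i, IsKleinFour ((Dih.kleinD hm2 i).map f) := fun i =>
    Dih.isKleinFour_of_mulEquiv (Subgroup.equivMapOfInjective _ f hfinj)
      (Dih.isKleinFour_kleinD hm2 i)
  have hKS : ∀ i, (Dih.kleinD hm2 i).map f ≤ (S : Subgroup X) := by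
    rintro i _ ⟨d, -, rfl⟩
    exact hfS d
  refine ⟨z, hzord, ?_, ?_, ?_⟩
  · -- Thompson transfer
    intro hno a ha
    have hord : ∀ y ∈ (S : Subgroup X), y ∉ R₀ → 2 ^ (1 - 1) < orderOf y := by
      intro y _ hyR
      have hy1 : y ≠ 1 := fun h => hyR (h ▸ R₀.one_mem)
      have h1 : orderOf y ≠ 1 := fun h => hy1 (orderOf_eq_one_iff.mp h)
      have h0 : 0 < orderOf y := orderOf_pos y
      simp only [Nat.sub_self, pow_zero]
      omega
    have hex : ∃ g : X, g * a * g⁻¹ ∈ R₀ := by
      by_contra hcon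
      push Not at hcon
      obtain ⟨K, -, hK2, -⟩ := Cfsg.Agent.Lib.H16.exists_normal_index_two_not_mem S R₀ hrel 1 hord a
        (by rw [ha, pow_one]) hcon
      exact hno K hK2
    obtain ⟨g, hg⟩ := hex
    rw [isConj_iff]
    refine ⟨g, ?_⟩
    obtain ⟨i, hi⟩ := (hmem ⟨g * a * g⁻¹, hR₀S hg⟩).mp hg
    have hgi : g * a * g⁻¹ = f (DihedralGroup.r i) := by
      rw [hfapp, ← hi, MulEquiv.symm_apply_apply]
    have hordi : orderOf (DihedralGroup.r i : DihedralGroup m) = 2 := by
      rw [← hford, ← hgi]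
      have := (MulAut.conj g).orderOf_eq a
      rw [MulAut.conj_apply] at this
      rw [this, ha]
    rcases Dih.involution_cases hm2 _ hordi with h | ⟨j, hj⟩
    · rw [hgi, h]
    · cases hj
  · -- one class of involutions gives no index two subgroup and no isolated involution
    intro hall
    constructor
    · intro H hH2
      have hHn : H.Normal := Subgroup.normal_of_index_eq_two hH2
      -- `H` has even order
      have h4 : 4 ∣ Nat.card X := by
        have h1 : Nat.card (S : Subgroup X) ∣ Nat.card X := Subgroup.card_subgroup_dvd_card _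
        rw [hcard] at h1
        obtain ⟨c, hc⟩ := hm2
        exact Dvd.dvd.trans ⟨c, by rw [hc]; ring⟩ h1
      have hHcard : Nat.card H * 2 = Nat.card X := by
        rw [← hH2]; exact Subgroup.card_mul_index H
      have hHeven : 2 ∣ Nat.card H := by omega
      obtain ⟨t, ht⟩ := exists_prime_orderOf_dvd_card' 2 hHeven
      have ht' : orderOf (t : X) = 2 := by rw [Subgroup.orderOf_coe]; exact ht
      have hinvH : ∀ a : X, orderOf a = 2 → a ∈ H := by
        intro a ha
        have h1 : IsConj (t : X) a := (hall _ ht').trans (hall a ha).symm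
        obtain ⟨c, hc⟩ := isConj_iff.mp h1
        rw [← hc]
        exact hHn.conj_mem _ t.2 c
      have hSH : (S : Subgroup X) ≤ H := by
        intro s hs
        obtain ⟨d, rfl⟩ := hSf s hs
        have hsr : ∀ j, f (DihedralGroup.sr j) ∈ H := fun j =>
          hinvH _ (by rw [hford, DihedralGroup.orderOf_sr])
        cases d with
        | r k =>
          have : (DihedralGroup.r k : DihedralGroup m) = DihedralGroup.sr 0 * DihedralGroup.sr k := by
            rw [DihedralGroup.sr_mul_sr, sub_zero]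
          rw [this, map_mul]
          exact H.mul_mem (hsr 0) (hsr k)
        | sr k => exact hsr k
      have h1 : H.index ∣ (S : Subgroup X).index := Subgroup.index_dvd_of_le hSH
      rw [hH2] at h1
      exact S.not_dvd_index h1
    · rintro z₀ ⟨hz₀ord, hz₀iso⟩
      obtain ⟨c, hc⟩ := isConj_iff.mp (hall z₀ hz₀ord)
      set t := f (DihedralGroup.sr 0) with ht
      have htord : orderOf t = 2 := by rw [ht, hford, DihedralGroup.orderOf_sr]
      have htz : t * z = z * t := by
        rw [ht, hz, ← map_mul, ← map_mul, Dih.r_hf_comm hm2]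
      set w := c⁻¹ * t * c with hw
      have hword : orderOf w = 2 := by
        have := (MulAut.conj c⁻¹).orderOf_eq t
        rw [MulAut.conj_apply, inv_inv] at this
        rw [hw, this, htord]
      have hz₀c : z₀ = c⁻¹ * z * c := by rw [← hc]; group
      have hcomm : Commute z₀ w := by
        show z₀ * w = w * z₀
        rw [hz₀c, hw]
        calc c⁻¹ * z * c * (c⁻¹ * t * c) = c⁻¹ * (z * t) * c := by group
          _ = c⁻¹ * (t * z) * c := by rw [htz]
          _ = c⁻¹ * t * c * (c⁻¹ * z * c) := by group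
      have hconj : IsConj z₀ w := (hall z₀ hz₀ord).trans (hall w hword).symm
      obtain ⟨g, hg⟩ := isConj_iff.mp hconj
      have h1 := hz₀iso g (by rw [hg]; exact hcomm)
      rw [hg] at h1
      -- `w = z₀` so `t = z`
      have h2' : t = z := by
        have : c⁻¹ * t * c = c⁻¹ * z * c := by rw [← hw, h1, hz₀c]
        have h3' : t = c * (c⁻¹ * t * c) * c⁻¹ := by group
        rw [h3', this]; group
      have h3' := hfinj h2'
      cases h3'
  · -- Klein four normalizers of order divisible by three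
    intro hyp a ha
    obtain ⟨x, hx⟩ := exists_conj_mem_sylow S a ha
    obtain ⟨d, hd⟩ := hSf _ hx
    have hdord : orderOf d = 2 := by
      rw [← hford, hd]
      have := (MulAut.conj x).orderOf_eq a
      rw [MulAut.conj_apply] at this
      rw [this, ha]
    have hax : IsConj a (f d) := isConj_iff.mpr ⟨x, hd.symm⟩
    have hz1 : z ≠ 1 := by
      intro h; rw [h, orderOf_one] at hzord; omega
    have hsr1 : ∀ j, f (DihedralGroup.sr j) ≠ 1 := by
      intro j h
      have : orderOf (f (DihedralGroup.sr j)) = 2 := by rw [hford, DihedralGroup.orderOf_sr]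
      rw [h, orderOf_one] at this; omega
    have hstep : ∀ j, j = 0 ∨ j = 1 → IsConj (f (DihedralGroup.sr j)) z := by
      intro j hj
      have h3' := hyp _ (hKS j) (hKf j)
      have hsrmem : f (DihedralGroup.sr j) ∈ (Dih.kleinD hm2 j).map f :=
        ⟨_, Or.inr (Or.inr (Or.inl rfl)), rfl⟩
      have hzmem : z ∈ (Dih.kleinD hm2 j).map f := ⟨_, Or.inr (Or.inl rfl), rfl⟩
      obtain ⟨g, -, hg⟩ := klein_three _ (hKf j) h3' _ hsrmem _ hzmem (hsr1 j) hz1
      exact isConj_iff.mpr ⟨g, hg⟩
    rcases Dih.involution_cases hm2 d hdord with h | ⟨i, rfl⟩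
    · rw [h] at hax; exact hax
    · obtain ⟨k, hk | hk⟩ := Dih.exists_conj_sr (m := m) i
      · have h1 : IsConj (f (DihedralGroup.sr i)) (f (DihedralGroup.sr 0)) := by
          rw [isConj_iff]
          refine ⟨f (DihedralGroup.r k), ?_⟩
          rw [← map_inv, ← map_mul, ← map_mul, hk]
        exact hax.trans (h1.trans (hstep 0 (Or.inl rfl)))
      · have h1 : IsConj (f (DihedralGroup.sr i)) (f (DihedralGroup.sr 1)) := by
          rw [isConj_iff]
          refine ⟨f (DihedralGroup.r k), ?_⟩
          rw [← map_inv, ← map_mul, ← map_mul, hk]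
        exact hax.trans (h1.trans (hstep 1 (Or.inr rfl)))

/-- Let X be a finite group whose Sylow 2-subgroup S is dihedral of order 2m ≥ 4. Then X has no subgroup of index 2 and no isolated involution if and only if either all involutions of X are conjugate, or for every Klein four-subgroup U ≤ S the index |N_X(U) : C_X(U)| equals 3 when |S| = 4 and equals 6 when |S| > 4. -/
theorem result {X : Type*} [Group X] [Finite X] (S : Sylow 2 X) (m : ℕ) (hm : 2 ≤ m) (eS : (S : Subgroup X) ≃* DihedralGroup m) : ((∀ H : Subgroup X, H.index ≠ 2) ∧ (∀ z : X, ¬ Cfsg.IsIsolatedInvolution z)) ↔ ((∀ a b : X, orderOf a = 2 → orderOf b = 2 → IsConj a b) ∨ (∀ U : Subgroup X, U ≤ S → IsKleinFour U → (Subgroup.centralizer (U : Set X)).relIndex (Subgroup.normalizer (U : Set X)) = (if Nat.card S = 4 then 3 else 6))) := by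
  obtain ⟨z, hzord, hA, hB, hC⟩ := main S m hm eS
  constructor
  · rintro ⟨hno, -⟩
    left
    intro a b ha hb
    exact (hA hno a ha).trans (hA hno b hb).symm
  · rintro (h | h)
    · exact hB (fun a ha => h a z ha hzord)
    · apply hB
      apply hC
      intro U hUS hU
      rw [h U hUS hU]
      split_ifs
      · exact dvd_rfl
      · exact ⟨2, by norm_num⟩

end Cfsg.Agent.S1255
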