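import Cfsg.Statements.S3838
import Mathlib
import Cfsg.Agent.Lib.H19.PComplement
import Cfsg.Agent.Lib.H6.NormGrowth

set_option autoImplicit false
open Cfsg

namespace Cfsg.Agent.S3838

open Cfsg.Agent.Lib.H19
open scoped commutatorElement

universe u

variable {G : Type u} [Group G]

/-- Burnside's normal `p`-complement theorem in the `HasNormalPComplement` form. -/
theorem burnside [Finite G] {p : ℕ} [Fact p.Prime] (S : Sylow p G)
    (h : Subgroup.normalizer ((S : Subgroup G) : Set G) ≤ Subgroup.centralizer ((S : Subgroup G) : Set G)) :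
    Cfsg.HasNormalPComplement p G :=
  ⟨S, (MonoidHom.transferSylow S h).ker, inferInstance, MonoidHom.ker_transferSylow_isComplement' S h⟩

/-- the Frattini subgroup is preserved by isomorphisms -/
theorem frattini_map_equiv {A B : Type*} [Group A] [Group B] (e : A ≃* B) :
    (frattini A).map e.toMonoidHom = frattini B := by
  have := OrderIso.map_radical (MulEquiv.mapSubgroup e)
  exact this

/-- structure of `N_G(P)` when it has a normal `p`-complement -/
theorem normalizer_decomp [Finite G] {p : ℕ} [Fact p.Prime] (P : Sylow p G)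
    (hN : Cfsg.HasNormalPComplement p ↥(Subgroup.normalizer ((P : Subgroup G) : Set G))) :
    ∀ x ∈ Subgroup.normalizer ((P : Subgroup G) : Set G), ∃ k s : G, s ∈ (P : Subgroup G) ∧
      (∀ y ∈ (P : Subgroup G), k * y = y * k) ∧ x = k * s := by
  obtain ⟨S', K, hKn, hKc⟩ := hN
  -- `P0`, the copy of `P` in its normalizer, is normal
  have hP0n : ((P : Subgroup G).subgroupOf (Subgroup.normalizer ((P : Subgroup G) : Set G))).Normal :=
    Subgroup.normal_in_normalizer
  -- the image of `S'` in `G` is `P`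
  have hS'P : (S' : Subgroup _).map (Subgroup.normalizer ((P : Subgroup G) : Set G)).subtype
      = (P : Subgroup G) := by
    -- `P0 ≤ S'`
    have hle : (P : Subgroup G).subgroupOf (Subgroup.normalizer ((P : Subgroup G) : Set G)) ≤ S' := by
      obtain ⟨S'', hS''⟩ := (P.isPGroup'.comap_subtype
        (K := Subgroup.normalizer ((P : Subgroup G) : Set G))).exists_le_sylow
      obtain ⟨g, hg⟩ := MulAction.exists_smul_eq (Subgroup.normalizer ((P : Subgroup G) : Set G)) S'' S'
      intro y hy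
      have h1 : g * y * g⁻¹ ∈ (P : Subgroup G).subgroupOf
          (Subgroup.normalizer ((P : Subgroup G) : Set G)) := hP0n.conj_mem y hy g
      have h2 : g⁻¹ * (g * y * g⁻¹) * g ∈ (S'' : Subgroup _) := by
        have := hS'' (hP0n.conj_mem _ h1 g⁻¹)
        rwa [inv_inv] at this
      have h3 : g * (g⁻¹ * (g * y * g⁻¹) * g) * g⁻¹ ∈ ((g • S'' : Sylow p _) : Subgroup _) := by
        rw [Sylow.coe_subgroup_smul]
        exact Subgroup.smul_mem_pointwise_smul _ _ _ h2
      rw [hg] at h3
      have h4 : g * (g⁻¹ * (g * y * g⁻¹) * g) * g⁻¹ = g * y * g⁻¹ := by group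
      rw [h4] at h3
      -- conjugate back
      have h5 : g⁻¹ * (g * y * g⁻¹) * g = y := by group
      have hy2 := hS'' hy
      have h6 : g * y * g⁻¹ ∈ ((g • S'' : Sylow p _) : Subgroup _) := by
        rw [Sylow.coe_subgroup_smul]
        exact Subgroup.smul_mem_pointwise_smul _ _ _ hy2
      rw [hg] at h6
      -- we only know `g y g⁻¹ ∈ S'`; use normality of `P0` to get `y ∈ S'`
      have h7 : g⁻¹ * y * g ∈ (P : Subgroup G).subgroupOf
          (Subgroup.normalizer ((P : Subgroup G) : Set G)) := by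
        have := hP0n.conj_mem y hy g⁻¹
        rwa [inv_inv] at this
      have h8 : g * (g⁻¹ * y * g) * g⁻¹ ∈ ((g • S'' : Sylow p _) : Subgroup _) := by
        rw [Sylow.coe_subgroup_smul]
        exact Subgroup.smul_mem_pointwise_smul _ _ _ (hS'' h7)
      rw [hg] at h8
      have h9 : g * (g⁻¹ * y * g) * g⁻¹ = y := by group
      rwa [h9] at h8
    apply P.3
    · exact S'.isPGroup'.map _
    · intro y hy
      have hyN : y ∈ Subgroup.normalizer ((P : Subgroup G) : Set G) := Subgroup.le_normalizer hy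
      exact ⟨⟨y, hyN⟩, hle (Subgroup.mem_subgroupOf.2 hy), rfl⟩
  have hS'eq : (S' : Subgroup _) = (P : Subgroup G).subgroupOf
      (Subgroup.normalizer ((P : Subgroup G) : Set G)) := by
    ext y
    rw [Subgroup.mem_subgroupOf]
    constructor
    · intro hy
      have h1 : (y : G) ∈ (S' : Subgroup _).map
          (Subgroup.normalizer ((P : Subgroup G) : Set G)).subtype := ⟨y, hy, rfl⟩
      rw [hS'P] at h1
      exact h1
    · intro hy
      have h1 : (y : G) ∈ (S' : Subgroup _).map
          (Subgroup.normalizer ((P : Subgroup G) : Set G)).subtype := by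
        rw [hS'P]; exact hy
      obtain ⟨z, hz, hzy⟩ := h1
      have : z = y := Subtype.ext hzy
      rw [← this]; exact hz
  have hdis : Disjoint K ((P : Subgroup G).subgroupOf
      (Subgroup.normalizer ((P : Subgroup G) : Set G))) := by
    rw [← hS'eq]; exact hKc.disjoint
  intro x hx
  obtain ⟨k, hk, s, hs, hxks⟩ := Cfsg.Agent.Lib.H1.isComplement'_exists_mul hKc ⟨x, hx⟩
  refine ⟨k.1, s.1, ?_, ?_, congrArg Subtype.val hxks⟩
  · rw [hS'eq] at hs; exact Subgroup.mem_subgroupOf.1 hs
  · intro y hy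
    have hyN : y ∈ Subgroup.normalizer ((P : Subgroup G) : Set G) := Subgroup.le_normalizer hy
    have := Subgroup.commute_of_normal_of_disjoint K _ hKn hP0n hdis k ⟨y, hyN⟩ hk
      (Subgroup.mem_subgroupOf.2 hy)
    exact congrArg Subtype.val this

theorem main [Finite G] {p : ℕ} [Fact p.Prime] (P : Sylow p G)
    (hN : Cfsg.HasNormalPComplement p ↥(Subgroup.normalizer ((P : Subgroup G) : Set G)))
    (Q : Subgroup G)
    (h1 : (commutator ↥(P : Subgroup G)).map (P : Subgroup G).subtype ≤ Q)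
    (h2 : Q ≤ (frattini ↥(P : Subgroup G)).map (P : Subgroup G).subtype) :
    Cfsg.HasNormalPComplement p ↥(Subgroup.normalizer (Q : Set G)) := by
  have hdecomp := normalizer_decomp P hN
  have hQP : Q ≤ (P : Subgroup G) := h2.trans (Subgroup.map_subtype_le _)
  -- commutators of elements of `P` lie in `Q`
  have hcomm : ∀ s ∈ (P : Subgroup G), ∀ t ∈ (P : Subgroup G), ⁅s, t⁆ ∈ Q := by
    intro s hs t ht
    apply h1
    refine ⟨⁅(⟨s, hs⟩ : (P : Subgroup G)), ⟨t, ht⟩⁆, ?_, rfl⟩
    exact Subgroup.commutator_mem_commutator (Subgroup.mem_top _) (Subgroup.mem_top _)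
  have hconj : ∀ s ∈ (P : Subgroup G), ∀ q ∈ Q, s * q * s⁻¹ ∈ Q := by
    intro s hs q hq
    have h3 : s * q * s⁻¹ = ⁅s, q⁆ * q := by rw [commutatorElement_def]; group
    rw [h3]
    exact Q.mul_mem (hcomm s hs q (hQP hq)) hq
  have hPQ : (P : Subgroup G) ≤ Subgroup.normalizer (Q : Set G) := by
    intro s hs
    rw [Subgroup.mem_normalizer_iff]
    intro q
    constructor
    · exact hconj s hs q
    · intro hq
      have := hconj s⁻¹ (Subgroup.inv_mem _ hs) _ hq
      have h3 : s⁻¹ * (s * q * s⁻¹) * s⁻¹⁻¹ = q := by group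
      rwa [h3] at this
  -- the group `X = N_G(Q)` with its Sylow subgroup and normal subgroup
  have hQXn : (Q.subgroupOf (Subgroup.normalizer (Q : Set G))).Normal := Subgroup.normal_in_normalizer
  obtain ⟨SX, hSX⟩ : ∃ SX : Sylow p ↥(Subgroup.normalizer (Q : Set G)),
      (SX : Subgroup ↥(Subgroup.normalizer (Q : Set G)))
        = (P : Subgroup G).subgroupOf (Subgroup.normalizer (Q : Set G)) := ⟨P.subtype hPQ, rfl⟩
  have hQS : Q.subgroupOf (Subgroup.normalizer (Q : Set G)) ≤ (SX : Subgroup _) := by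
    intro x hx
    rw [hSX, Subgroup.mem_subgroupOf]
    exact hQP (Subgroup.mem_subgroupOf.1 hx)
  have hQΦ : Q.subgroupOf (Subgroup.normalizer (Q : Set G)) ≤
      (frattini ↥(SX : Subgroup ↥(Subgroup.normalizer (Q : Set G)))).map
        (SX : Subgroup ↥(Subgroup.normalizer (Q : Set G))).subtype := by
    intro x hx
    have hxQ : (x : G) ∈ Q := Subgroup.mem_subgroupOf.1 hx
    obtain ⟨f, hf, hfx⟩ := h2 hxQ
    -- transport along the isomorphism `P.subgroupOf X ≃* P`
    have hxS : x ∈ (SX : Subgroup ↥(Subgroup.normalizer (Q : Set G))) := hQS hx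
    let e0 : ↥((P : Subgroup G).subgroupOf (Subgroup.normalizer (Q : Set G))) ≃* ↥(P : Subgroup G) :=
      Subgroup.subgroupOfEquivOfLe hPQ
    let e : ↥(SX : Subgroup ↥(Subgroup.normalizer (Q : Set G))) ≃* ↥(P : Subgroup G) :=
      (MulEquiv.subgroupCongr hSX).trans e0
    have hfr := frattini_map_equiv e.symm
    have hf' : e.symm f ∈ frattini ↥(SX : Subgroup ↥(Subgroup.normalizer (Q : Set G))) := by
      rw [← hfr]
      exact ⟨f, hf, rfl⟩
    refine ⟨e.symm f, hf', ?_⟩
    apply Subtype.ext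
    have h4 : e (⟨x, hxS⟩ : ↥(SX : Subgroup ↥(Subgroup.normalizer (Q : Set G)))) = f := by
      apply Subtype.ext
      have h5 : ((f : (P : Subgroup G)) : G) = x := hfx
      rw [h5]
      rfl
    rw [← h4, MulEquiv.symm_apply_apply]
    rfl
  apply hasNormalPComplement_of_quotient SX _ hQS hQΦ
  -- the quotient has a normal `p`-complement by Burnside
  have hsurj := QuotientGroup.mk'_surjective (Q.subgroupOf (Subgroup.normalizer (Q : Set G)))
  apply burnside (SX.mapSurjective hsurj)
  intro xb hxb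
  obtain ⟨x, rfl⟩ := hsurj xb
  -- `x` normalizes `P`
  have hcm : ((SX.mapSurjective hsurj : Sylow p _) : Subgroup _).comap
      (QuotientGroup.mk' (Q.subgroupOf (Subgroup.normalizer (Q : Set G))))
      = (SX : Subgroup _) := by
    rw [Sylow.coe_mapSurjective, Subgroup.comap_map_eq, QuotientGroup.ker_mk', sup_eq_left.2 hQS]
  have hxn : x ∈ Subgroup.normalizer
      ((SX : Subgroup ↥(Subgroup.normalizer (Q : Set G))) : Set (Subgroup.normalizer (Q : Set G))) := by
    have h3 := Subgroup.comap_normalizer_eq_of_surjective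
      ((SX.mapSurjective hsurj : Sylow p _) : Subgroup _) hsurj
    rw [hcm] at h3
    rw [← h3, Subgroup.mem_comap]
    exact hxb
  rw [hSX] at hxn
  have hxP : (x : G) ∈ Subgroup.normalizer ((P : Subgroup G) : Set G) :=
    (Cfsg.Agent.Lib.H6.mem_normalizer_subgroupOf_iff hPQ x).1 hxn
  obtain ⟨k, s, hs, hk, hxks⟩ := hdecomp _ hxP
  rw [Subgroup.mem_centralizer_iff]
  intro yb hyb
  rw [SetLike.mem_coe, Sylow.coe_mapSurjective] at hyb
  obtain ⟨y, hy, rfl⟩ := hyb
  rw [SetLike.mem_coe, hSX] at hy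
  have hyP : (y : G) ∈ (P : Subgroup G) := Subgroup.mem_subgroupOf.1 hy
  show (QuotientGroup.mk' _) y * (QuotientGroup.mk' _) x = (QuotientGroup.mk' _) x * (QuotientGroup.mk' _) y
  rw [← map_mul, ← map_mul]
  rw [QuotientGroup.mk'_apply, QuotientGroup.mk'_apply, QuotientGroup.eq, Subgroup.mem_subgroupOf]
  show ((y * x)⁻¹ * (x * y) : G) ∈ Q
  push_cast
  rw [hxks]
  have h3 : ((y : G) * (k * s))⁻¹ * (k * s * (y : G)) = ⁅s⁻¹, (y : G)⁻¹⁆ := by
    have hk1 : k * (y : G)⁻¹ = (y : G)⁻¹ * k := hk _ (Subgroup.inv_mem _ hyP)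
    rw [commutatorElement_def]
    calc ((y : G) * (k * s))⁻¹ * (k * s * (y : G))
        = s⁻¹ * k⁻¹ * ((y : G)⁻¹ * k) * s * (y : G) := by group
      _ = s⁻¹ * k⁻¹ * (k * (y : G)⁻¹) * s * (y : G) := by rw [hk1]
      _ = s⁻¹ * (y : G)⁻¹ * s⁻¹⁻¹ * (y : G)⁻¹⁻¹ := by group
  rw [h3]
  exact hcomm _ (Subgroup.inv_mem _ hs) _ (Subgroup.inv_mem _ hyP)

/-- Let G be a finite group with Sylow p-subgroup P such that N_G(P) has a normal p-complement. Then N_G(Q) has a normal p-complement for every subgroup Q with [P, P] ≤ Q ≤ Φ(P). -/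
theorem result {G : Type*} [Group G] [Finite G] {p : ℕ} [Fact p.Prime] (P : Sylow p G) (hN : Cfsg.HasNormalPComplement p ↥(Subgroup.normalizer ((P : Subgroup G) : Set G))) (Q : Subgroup G) (h1 : (commutator ↥(P : Subgroup G)).map (P : Subgroup G).subtype ≤ Q) (h2 : Q ≤ (frattini ↥(P : Subgroup G)).map (P : Subgroup G).subtype) : Cfsg.HasNormalPComplement p ↥(Subgroup.normalizer (Q : Set G)) :=
  main P hN Q h1 h2

end Cfsg.Agent.S3838
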