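import Cfsg.Statements.S5126
import Cfsg.Agent.Lib.H25.NormalizerSystem
import Cfsg.Agent.Lib.H25.Normal

set_option autoImplicit false
open Cfsg

namespace Cfsg.Agent.S5126

open Cfsg.Agent.Lib.H25 Cfsg.FusionSystem

variable {Ω : Type*} [Group Ω] {S : Subgroup Ω}

/-- The preimage in `Ω` of a subgroup `U` of `G` under `ι : T → G`. -/
def pre (T : Subgroup Ω) {G : Type*} [Group G] (ι : ↥T →* G) (U : Subgroup G) : Subgroup Ω :=
  (U.comap ι).map T.subtype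

theorem mem_pre {T : Subgroup Ω} {G : Type*} [Group G] {ι : ↥T →* G} {U : Subgroup G} {u : Ω} :
    u ∈ pre T ι U ↔ ∃ hu : u ∈ T, ι ⟨u, hu⟩ ∈ U := by
  constructor
  · rintro ⟨x, hx, rfl⟩
    exact ⟨x.2, hx⟩
  · rintro ⟨hu, h⟩
    exact ⟨⟨u, hu⟩, h, rfl⟩

theorem pre_le (T : Subgroup Ω) {G : Type*} [Group G] (ι : ↥T →* G) (U : Subgroup G) :
    pre T ι U ≤ T := fun _ hu => (mem_pre.1 hu).1

/-- Every element of `Aut_F(R)` is realized in a group realizing the normalizer system. -/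
theorem exists_realize {F : FusionSystem S} {R : Subgroup Ω} (hRS : R ≤ S)
    {E : FusionSystem (normalizerIn S R)} (hE : F.IsNormalizerSystem R E) {G : Type*} [Group G]
    {ι : ↥(normalizerIn S R) →* G} (hreal : E.IsRealizedBy ι) {α : MulAut R}
    (hα : α ∈ F.autGroup R) :
    ∃ g : G, ∀ x : R, ι ⟨((α x : R) : Ω), le_normalizerIn hRS (α x).2⟩ =
      g * ι ⟨x, le_normalizerIn hRS x.2⟩ * g⁻¹ := by
  have hRT : R ≤ normalizerIn S R := le_normalizerIn hRS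
  have hαE : R.subtype.comp α.toMonoidHom ∈ E.Hom R := by
    rw [hE R]
    have hαF := (mem_autGroup_iff F hRS α).1 hα
    have heq : R = R ⊔ R := (sup_idem R).symm
    refine ⟨hαF, hRT, fun x => hRT (α x).2, _, hom_cast F heq hαF, fun x => rfl, ?_⟩
    ext y
    constructor
    · rintro ⟨x, hx, rfl⟩
      exact (α ⟨x, Subgroup.mem_subgroupOf.1 hx⟩).2
    · intro hy
      refine ⟨⟨((α⁻¹ ⟨y, hy⟩ : R) : Ω), (le_sup_left : R ≤ R ⊔ R) (α⁻¹ ⟨y, hy⟩).2⟩,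
        Subgroup.mem_subgroupOf.2 (α⁻¹ ⟨y, hy⟩).2, ?_⟩
      show ((α (α⁻¹ ⟨y, hy⟩) : R) : Ω) = y
      simp
  obtain ⟨g, hg⟩ := (hreal.2 R hRT _ (fun x => hRT (α x).2)).1 hαE
  exact ⟨g, fun x => hg x⟩

/-- In a model of the normalizer system of a centric radical subgroup `R`, the largest normal
`p`-subgroup lies in the image of `R`. -/
theorem pCore_le_map [Finite S] {p : ℕ} [Fact p.Prime] (hS : IsPGroup p S) {F : FusionSystem S}
    {R : Subgroup Ω} (hRc : F.IsCentric R) (hRr : F.IsRadical p R)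
    {E : FusionSystem (normalizerIn S R)} (hE : F.IsNormalizerSystem R E) {G : Type*} [Group G]
    {ι : ↥(normalizerIn S R) →* G} (hM : E.IsModel p G ι) :
    (pCore p G : Subgroup G) ≤ (R.subgroupOf (normalizerIn S R)).map ι := by
  obtain ⟨hfinG, hreal, ⟨Tsyl, hTsyl⟩, hCU⟩ := hM
  have hinj := hreal.1
  have hRS := hRc.1
  have hRT : R ≤ normalizerIn S R := le_normalizerIn hRS
  have hUn : (pCore p G).Normal := Subgroup.sSup_normal _ (fun _ h => h.1)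
  have hUp : IsPGroup p (pCore p G) := pCore_isPGroup p G
  have hUT : pCore p G ≤ ι.range := by
    rw [← hTsyl]
    exact hUp.le_sylow_of_normal Tsyl
  have hU₀T : pre (normalizerIn S R) ι (pCore p G) ≤ normalizerIn S R := pre_le _ _ _
  have hU₀S : pre (normalizerIn S R) ι (pCore p G) ≤ S := hU₀T.trans inf_le_left
  have hBA : autInducedBy (pre (normalizerIn S R) ι (pCore p G)) R ≤ F.autGroup R :=
    (autInducedBy_mono hU₀S R).trans (autInducedBy_le_autGroup F hRS)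
  have hBp : IsPGroup p (autInducedBy (pre (normalizerIn S R) ι (pCore p G)) R) :=
    autInducedBy_isPGroup (hS.to_le hU₀S) R
  have hBn : ∀ α ∈ F.autGroup R, ∀ β ∈ autInducedBy (pre (normalizerIn S R) ι (pCore p G)) R,
      α * β * α⁻¹ ∈ autInducedBy (pre (normalizerIn S R) ι (pCore p G)) R := by
    intro α hα β hβ
    obtain ⟨u, hu, hβu⟩ := (mem_autInducedBy_iff _ R β).1 hβ
    obtain ⟨g, hg⟩ := exists_realize hRS hE hreal hα
    obtain ⟨huT, huU⟩ := mem_pre.1 hu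
    have h1 : g * ι ⟨u, huT⟩ * g⁻¹ ∈ pCore p G := hUn.conj_mem _ huU g
    obtain ⟨u', hu'⟩ := hUT h1
    have hu'U₀ : (u' : Ω) ∈ pre (normalizerIn S R) ι (pCore p G) :=
      mem_pre.2 ⟨u'.2, by rw [show (⟨(u' : Ω), u'.2⟩ : ↥(normalizerIn S R)) = u' from rfl, hu']; exact h1⟩
    rw [mem_autInducedBy_iff]
    refine ⟨u', hu'U₀, fun x => ?_⟩
    have hx1 : (((α * β * α⁻¹) x : R) : Ω) ∈ normalizerIn S R := hRT ((α * β * α⁻¹) x).2
    have hx2 : (u' : Ω) * x * (u' : Ω)⁻¹ ∈ normalizerIn S R :=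
      Subgroup.mul_mem _ (Subgroup.mul_mem _ u'.2 (hRT x.2)) (Subgroup.inv_mem _ u'.2)
    have key : (⟨_, hx1⟩ : ↥(normalizerIn S R)) = ⟨_, hx2⟩ := by
      apply hinj
      have e1 : (α * β * α⁻¹) x = α (β (α⁻¹ x)) := rfl
      have e2 : (⟨(((α * β * α⁻¹) x : R) : Ω), hx1⟩ : ↥(normalizerIn S R)) =
          ⟨((α (β (α⁻¹ x)) : R) : Ω), hRT (α (β (α⁻¹ x))).2⟩ := rfl
      rw [e2, hg (β (α⁻¹ x))]
      have e3 : (⟨((β (α⁻¹ x) : R) : Ω), hRT (β (α⁻¹ x)).2⟩ : ↥(normalizerIn S R)) =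
          ⟨u, huT⟩ * ⟨((α⁻¹ x : R) : Ω), hRT (α⁻¹ x).2⟩ * ⟨u, huT⟩⁻¹ :=
        Subtype.ext (hβu (α⁻¹ x))
      have e4 : (⟨(u' : Ω) * x * (u' : Ω)⁻¹, hx2⟩ : ↥(normalizerIn S R)) =
          u' * ⟨x, hRT x.2⟩ * u'⁻¹ := rfl
      have e5 := hg (α⁻¹ x)
      rw [show α (α⁻¹ x) = x by simp] at e5
      rw [e3, e4, map_mul, map_mul, map_inv, map_mul, map_mul, map_inv, hu', e5]
      group
    exact congrArg Subtype.val key
  intro y hy
  obtain ⟨s, rfl⟩ := hUT hy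
  have hsU₀ : (s : Ω) ∈ pre (normalizerIn S R) ι (pCore p G) := mem_pre.2 ⟨s.2, hy⟩
  obtain ⟨βs, -, hβs⟩ := exists_mem_autGroup_of_isIso F (isIso_conj_normalizer F hRS s.2)
  have hβsB : βs ∈ autInducedBy (pre (normalizerIn S R) ι (pCore p G)) R :=
    (mem_autInducedBy_iff _ R βs).2 ⟨s, hsU₀, hβs⟩
  have hsR : (s : Ω) ∈ R :=
    mem_of_centric_radical hRc hRr _ hBA hBn hBp (hU₀S hsU₀) hβsB hβs
  exact ⟨s, Subgroup.mem_subgroupOf.2 hsR, rfl⟩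

/-- In a model of the normalizer system of `R`, the image of `R` is a normal subgroup. -/
theorem map_normal [Finite S] {p : ℕ} [Fact p.Prime] {F : FusionSystem S}
    {R : Subgroup Ω} (hRS : R ≤ S)
    {E : FusionSystem (normalizerIn S R)} (hE : F.IsNormalizerSystem R E) {G : Type*} [Group G]
    {ι : ↥(normalizerIn S R) →* G} (hM : E.IsModel p G ι) :
    ((R.subgroupOf (normalizerIn S R)).map ι).Normal := by
  obtain ⟨hfinG, hreal, ⟨Tsyl, hTsyl⟩, hCU⟩ := hM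
  have hinj := hreal.1
  have hRT : R ≤ normalizerIn S R := le_normalizerIn hRS
  have hUn : (pCore p G).Normal := Subgroup.sSup_normal _ (fun _ h => h.1)
  have hUp : IsPGroup p (pCore p G) := pCore_isPGroup p G
  have hUT : pCore p G ≤ ι.range := by
    rw [← hTsyl]
    exact hUp.le_sylow_of_normal Tsyl
  have hU₀T : pre (normalizerIn S R) ι (pCore p G) ≤ normalizerIn S R := pre_le _ _ _
  have hEn : E.IsNormal R := normalizerSystem_isNormal hRS hE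
  constructor
  rintro _ ⟨r, hr, rfl⟩ g
  have hrR : (r : Ω) ∈ R := Subgroup.mem_subgroupOf.1 hr
  -- the map induced by `g` on the preimage of `O_p(G)`
  have hmemU : ∀ x : ↥(pre (normalizerIn S R) ι (pCore p G)),
      g * ι ⟨x, hU₀T x.2⟩ * g⁻¹ ∈ ι.range := by
    intro x
    obtain ⟨hu, h⟩ := mem_pre.1 x.2
    exact hUT (hUn.conj_mem _ h g)
  obtain ⟨e, he⟩ : ∃ e : ↥(normalizerIn S R) ≃* ↥ι.range, ∀ x, ((e x : ↥ι.range) : G) = ι x :=
    ⟨MonoidHom.ofInjective hinj, fun x => MonoidHom.ofInjective_apply hinj⟩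
  have hesymm : ∀ z : ↥ι.range, ι (e.symm z) = z := by
    intro z
    rw [← he]
    simp
  obtain ⟨φg, hφg⟩ : ∃ φg : ↥(pre (normalizerIn S R) ι (pCore p G)) →* Ω,
      ∀ x, ∃ h : φg x ∈ normalizerIn S R, ι ⟨φg x, h⟩ = g * ι ⟨x, hU₀T x.2⟩ * g⁻¹ := by
    refine ⟨(normalizerIn S R).subtype.comp (MonoidHom.mk'
      (fun x : ↥(pre (normalizerIn S R) ι (pCore p G)) =>
        e.symm ⟨g * ι ⟨x, hU₀T x.2⟩ * g⁻¹, hmemU x⟩) (fun a b => ?_)), fun x => ?_⟩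
    · rw [← map_mul]
      congr 1
      apply Subtype.ext
      show g * ι ⟨((a * b : ↥(pre (normalizerIn S R) ι (pCore p G))) : Ω), _⟩ * g⁻¹ =
        (g * ι ⟨a, hU₀T a.2⟩ * g⁻¹) * (g * ι ⟨b, hU₀T b.2⟩ * g⁻¹)
      have : (⟨((a * b : ↥(pre (normalizerIn S R) ι (pCore p G))) : Ω), hU₀T (a * b).2⟩ :
          ↥(normalizerIn S R)) = ⟨a, hU₀T a.2⟩ * ⟨b, hU₀T b.2⟩ := rfl
      rw [this, map_mul]
      group
    · refine ⟨(e.symm ⟨g * ι ⟨x, hU₀T x.2⟩ * g⁻¹, hmemU x⟩).2, ?_⟩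
      exact hesymm ⟨g * ι ⟨x, hU₀T x.2⟩ * g⁻¹, hmemU x⟩
  have hφgT : ∀ x, φg x ∈ normalizerIn S R := fun x => (hφg x).1
  have hφgι : ∀ x, ι ⟨φg x, hφgT x⟩ = g * ι ⟨x, hU₀T x.2⟩ * g⁻¹ := fun x => (hφg x).2
  have hφgE : φg ∈ E.Hom (pre (normalizerIn S R) ι (pCore p G)) :=
    (hreal.2 _ hU₀T φg hφgT).2 ⟨g, hφgι⟩
  obtain ⟨ψ, hψ, hψφ, hψR⟩ := hEn.2 _ φg hφgE
  have hψT : ∀ x, ψ x ∈ normalizerIn S R := fun x => hom_mem_S E hψ x
  have hsupT : pre (normalizerIn S R) ι (pCore p G) ⊔ R ≤ normalizerIn S R := sup_le hU₀T hRT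
  obtain ⟨h, hh⟩ := (hreal.2 _ hsupT ψ hψT).1 hψ
  -- `h⁻¹ g` centralizes `O_p(G)`
  have hcent : h⁻¹ * g ∈ Subgroup.centralizer ((pCore p G : Subgroup G) : Set G) := by
    rw [Subgroup.mem_centralizer_iff]
    intro y hy
    obtain ⟨s, rfl⟩ := hUT hy
    have hsU₀ : (s : Ω) ∈ pre (normalizerIn S R) ι (pCore p G) := mem_pre.2 ⟨s.2, hy⟩
    have h1 := hh ⟨s, (le_sup_left : _ ≤ pre (normalizerIn S R) ι (pCore p G) ⊔ R) hsU₀⟩
    have h2 := hψφ ⟨s, hsU₀⟩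
    have h3 := hφgι ⟨s, hsU₀⟩
    have h4 : (⟨ψ ⟨s, (le_sup_left : _ ≤ pre (normalizerIn S R) ι (pCore p G) ⊔ R) hsU₀⟩,
        hψT _⟩ : ↥(normalizerIn S R)) = ⟨φg ⟨s, hsU₀⟩, hφgT _⟩ := Subtype.ext h2
    rw [h4, h3] at h1
    have h5 : g * ι s * g⁻¹ = h * ι s * h⁻¹ := h1
    calc ι s * (h⁻¹ * g) = h⁻¹ * (h * ι s * h⁻¹) * g := by group
      _ = h⁻¹ * (g * ι s * g⁻¹) * g := by rw [h5]
      _ = h⁻¹ * g * ι s := by group
  obtain ⟨s, hs⟩ := hUT (hCU hcent)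
  -- `s r s⁻¹ ∈ R`
  have hsr : (s : Ω) * r * (s : Ω)⁻¹ ∈ R := (Subgroup.mem_normalizer_iff.1 s.2.2 r).1 hrR
  have hsrsup : (s : Ω) * r * (s : Ω)⁻¹ ∈ pre (normalizerIn S R) ι (pCore p G) ⊔ R :=
    (le_sup_right : R ≤ _) hsr
  have h6 := hh ⟨_, hsrsup⟩
  have hψR' : ψ ⟨_, hsrsup⟩ ∈ R := by
    have : ψ ⟨_, hsrsup⟩ ∈ (R.subgroupOf (pre (normalizerIn S R) ι (pCore p G) ⊔ R)).map ψ :=
      ⟨_, Subgroup.mem_subgroupOf.2 hsr, rfl⟩
    exact hψR.le this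
  refine ⟨⟨ψ ⟨_, hsrsup⟩, hψT _⟩, Subgroup.mem_subgroupOf.2 hψR', ?_⟩
  rw [h6]
  have h7 : (⟨(s : Ω) * r * (s : Ω)⁻¹, hsupT hsrsup⟩ : ↥(normalizerIn S R)) = s * r * s⁻¹ := rfl
  rw [h7, map_mul, map_mul, map_inv, hs]
  group

/-- In a saturated fusion system over a finite p-group S, the normalizer system of a fully normalized, centric, radical subgroup R is constrained, and in every model of that normalizer system the largest normal p-subgroup is the image of R. -/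
theorem result {Ω : Type*} [Group Ω] {S : Subgroup Ω} [Finite S] (p : ℕ) [Fact p.Prime] (hS : IsPGroup p S) (F : Cfsg.FusionSystem S) (hF : F.IsSaturated p) (R : Subgroup Ω) (hRn : F.IsFullyNormalized R) (hRc : F.IsCentric R) (hRr : F.IsRadical p R) (E : Cfsg.FusionSystem (Cfsg.FusionSystem.normalizerIn S R)) (hE : F.IsNormalizerSystem R E) {G : Type*} [Group G] (ι : ↥(Cfsg.FusionSystem.normalizerIn S R) →* G) : E.IsConstrained p ∧ (E.IsModel p G ι → (Cfsg.pCore p G : Subgroup G) = (R.subgroupOf (Cfsg.FusionSystem.normalizerIn S R)).map ι) := by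
  refine ⟨normalizerSystem_isConstrained hS hF hRn hRc E hE, fun hM => ?_⟩
  apply le_antisymm
  · exact pCore_le_map hS hRc hRr hE hM
  · have hn := map_normal (p := p) hRn.1 hE hM
    apply le_pCore hn
    have hT : IsPGroup p ↥(Cfsg.FusionSystem.normalizerIn S R) := hS.to_le inf_le_left
    exact (hT.to_subgroup _).map ι

end Cfsg.Agent.S5126
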