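import Cfsg.Statements.S5083
import Cfsg.Agent.Lib.H25.Alperin

set_option autoImplicit false
open Cfsg

namespace Cfsg.Agent.S5083

open Cfsg.FusionSystem Cfsg.Agent.Lib.H25

theorem fusionSystem_ext {Ω : Type*} [Group Ω] {S : Subgroup Ω} {F E : FusionSystem S}
    (h : ∀ P, F.Hom P = E.Hom P) : F = E := by
  cases F; cases E
  simp only [FusionSystem.mk.injEq]
  funext P
  exact h P

/-- If F is a saturated fusion system over a finite p-group S in which Aut_F(P) is a p-group for every P ≤ S, then F is the inner fusion system of S (all its maps are conjugations by elements of S). -/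
theorem result {Ω : Type*} [Group Ω] {S : Subgroup Ω} [Finite S] (p : ℕ) [Fact p.Prime] (hS : IsPGroup p S) (F : Cfsg.FusionSystem S) (hF : F.IsSaturated p) (h : ∀ P : Subgroup Ω, P ≤ S → IsPGroup p (F.autGroup P)) : F = Cfsg.innerFusionSystem S := by
  apply fusionSystem_ext
  intro P
  apply Set.Subset.antisymm
  · -- Alperin
    apply alperin hS F hF (innerFusionSystem S)
    rintro Q (rfl | hess)
    · -- Q = S : S is fully automized
      obtain ⟨Q', hconj, hfa, -⟩ := hF Q le_rfl
      obtain ⟨f, hf⟩ := (isConj_iff F).1 hconj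
      have hQ' : Q' = Q := by
        apply Subgroup.eq_of_le_of_card_ge hf.le_right
        rw [← hf.card_eq]
      subst hQ'
      obtain ⟨-, R, hR⟩ := hfa
      have hA := h Q' le_rfl
      have htop : IsPGroup p (⊤ : Subgroup (F.autGroup Q')) := hA.to_subgroup ⊤
      have hRtop : (⊤ : Subgroup (F.autGroup Q')) = R := R.is_maximal' htop le_top
      intro α hα
      have h1 : (⟨α, hα⟩ : F.autGroup Q') ∈ (R : Subgroup (F.autGroup Q')) := by
        rw [← hRtop]; trivial
      rw [hR] at h1
      have h2 : α ∈ autInducedBy Q' Q' := Subgroup.mem_subgroupOf.1 h1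
      exact autInducedBy_le_autGroup (innerFusionSystem Q') le_rfl h2
    · -- no essential subgroups
      exfalso
      obtain ⟨hcen, -, hnorm, E, hE⟩ := hess
      have hQS : Q ≤ S := hcen.1
      have hfinQ : Finite Q := finite_of_le S hQS
      have hcore := pCore_eq_bot_of_stronglyPEmbedded hE
      have hX : IsPGroup p (F.autGroup Q ⧸ (Inn Q).subgroupOf (F.autGroup Q)) :=
        (h Q hQS).to_quotient _
      have htop : (⊤ : Subgroup (F.autGroup Q ⧸ (Inn Q).subgroupOf (F.autGroup Q))) ≤
          pCore p (F.autGroup Q ⧸ (Inn Q).subgroupOf (F.autGroup Q)) :=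
        le_pCore inferInstance (hX.to_subgroup ⊤)
      rw [hcore] at htop
      have hsub : Subsingleton (F.autGroup Q ⧸ (Inn Q).subgroupOf (F.autGroup Q)) := by
        refine ⟨fun a b => ?_⟩
        have ha : a ∈ (⊥ : Subgroup _) := htop (Subgroup.mem_top a)
        have hb : b ∈ (⊥ : Subgroup _) := htop (Subgroup.mem_top b)
        rw [Subgroup.mem_bot] at ha hb
        rw [ha, hb]
      have hcard : Nat.card (F.autGroup Q ⧸ (Inn Q).subgroupOf (F.autGroup Q)) = 1 :=
        Nat.card_eq_one_iff_unique.2 ⟨hsub, ⟨1⟩⟩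
      have hp := hE.1
      rw [hcard] at hp
      exact (Fact.out : p.Prime).one_lt.ne' (Nat.dvd_one.1 hp)
  · -- inner ≤ F
    rintro φ ⟨hP, g, hg, hφ⟩
    have : φ = conjHom P g := MonoidHom.ext hφ
    rw [this]
    exact F.conj_mem hP hg

end Cfsg.Agent.S5083
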