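import Cfsg.Statements.S4261
import Mathlib
import Cfsg.Agent.Lib.H1.PGroupBasic

set_option autoImplicit false
open Cfsg

namespace Cfsg.Agent.S4261

open scoped Pointwise commutatorElement

universe u

/-- A nontrivial finite solvable group has a nontrivial normal abelian `p`-subgroup. -/
lemma exists_normal_abelian_pgroup {G : Type*} [Group G] [Finite G] [Nontrivial G]
    (hG : Group.IsSolvable G) :
    ∃ (p : ℕ) (_ : p.Prime) (A : Subgroup G), A.Normal ∧ A ≠ ⊥ ∧ IsPGroup p A ∧
      ∀ a ∈ A, ∀ b ∈ A, a * b = b * a := by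
  classical
  have hex : ∃ n, derivedSeries G n = ⊥ := (Group.isSolvable_def G).1 hG
  have hk1 : derivedSeries G (Nat.find hex) = ⊥ := Nat.find_spec hex
  have hk0 : Nat.find hex ≠ 0 := by
    intro h0
    rw [h0, derivedSeries_zero] at hk1
    exact top_ne_bot hk1
  obtain ⟨j, hj⟩ := Nat.exists_eq_succ_of_ne_zero hk0
  have hB : derivedSeries G j ≠ ⊥ := Nat.find_min hex (by omega)
  have hBcomm : ∀ a ∈ derivedSeries G j, ∀ b ∈ derivedSeries G j, a * b = b * a := by
    intro a ha b hb
    have h1 : ⁅a, b⁆ ∈ derivedSeries G (j + 1) := by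
      rw [derivedSeries_succ]; exact Subgroup.commutator_mem_commutator ha hb
    rw [← Nat.succ_eq_add_one, ← hj, hk1, Subgroup.mem_bot] at h1
    exact commutatorElement_eq_one_iff_mul_comm.1 h1
  have hcard : Nat.card (derivedSeries G j) ≠ 1 := by
    intro h
    exact hB (Subgroup.card_eq_one.1 h)
  obtain ⟨p, hp, hpd⟩ := Nat.exists_prime_and_dvd hcard
  haveI : Fact p.Prime := ⟨hp⟩
  obtain ⟨x, hx⟩ := exists_prime_orderOf_dvd_card' p hpd
  let A : Subgroup G :=
    { carrier := {b | b ∈ derivedSeries G j ∧ b ^ p = 1}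
      one_mem' := ⟨Subgroup.one_mem _, one_pow _⟩
      mul_mem' := by
        rintro a b ⟨ha, ha1⟩ ⟨hb, hb1⟩
        refine ⟨Subgroup.mul_mem _ ha hb, ?_⟩
        have hc : Commute a b := hBcomm a ha b hb
        rw [hc.mul_pow, ha1, hb1, one_mul]
      inv_mem' := by
        rintro a ⟨ha, ha1⟩
        exact ⟨Subgroup.inv_mem _ ha, by rw [inv_pow, ha1, inv_one]⟩ }
  refine ⟨p, hp, A, ?_, ?_, ?_, ?_⟩
  · refine ⟨fun n hn g => ?_⟩
    obtain ⟨hn1, hn2⟩ := hn
    refine ⟨(inferInstance : (derivedSeries G j).Normal).conj_mem n hn1 g, ?_⟩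
    rw [conj_pow, hn2, mul_one, mul_inv_cancel]
  · intro hA
    have hxA : (x : G) ∈ A := by
      refine ⟨x.2, ?_⟩
      have : x ^ p = 1 := by rw [← hx]; exact pow_orderOf_eq_one x
      have h2 := congrArg Subtype.val this
      simpa using h2
    rw [hA, Subgroup.mem_bot] at hxA
    have hx1 : x = 1 := Subtype.ext hxA
    rw [hx1, orderOf_one] at hx
    exact hp.one_lt.ne hx
  · rintro ⟨a, ha1, ha2⟩
    refine ⟨1, Subtype.ext ?_⟩
    simpa using ha2
  · rintro a ⟨ha, _⟩ b ⟨hb, _⟩
    exact hBcomm a ha b hb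

lemma le_normalizer_of_conj_mem {G : Type*} [Group G] (S H : Subgroup G)
    (h : ∀ g ∈ S, ∀ x ∈ H, g * x * g⁻¹ ∈ H) : S ≤ Subgroup.normalizer (H : Set G) := by
  intro g hg
  rw [Subgroup.mem_normalizer_iff]
  intro x
  constructor
  · exact h g hg x
  · intro hx
    have := h g⁻¹ (S.inv_mem hg) _ hx
    rw [inv_inv] at this
    have e : g⁻¹ * (g * x * g⁻¹) * g = x := by group
    rwa [e] at this

/-- the core-free case -/
lemma corefree {G : Type*} [Group G] [Finite G] (hG : Group.IsSolvable G) (M : Subgroup G)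
    (hM : IsCoatom M) (hexp : ∀ x : G, x ^ M.index ∈ M) (hK : M.normalCore = ⊥) : M.Normal := by
  haveI : Nontrivial G := by
    by_contra h
    rw [not_nontrivial_iff_subsingleton] at h
    exact hM.1 (Subsingleton.elim _ _)
  obtain ⟨p, hp, A, hAn, hA1, hAp, hAc⟩ := exists_normal_abelian_pgroup hG
  haveI : Fact p.Prime := ⟨hp⟩
  have hAM : ¬ A ≤ M := by
    intro h
    apply hA1
    rw [eq_bot_iff, ← hK]
    exact Subgroup.normal_le_normalCore.2 h
  have hsup : M ⊔ A = ⊤ := hM.2 _ (left_lt_sup.2 hAM)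
  -- M ⊓ A is normal, hence trivial
  have hinfN : (M ⊓ A).Normal := by
    apply Subgroup.normalizer_eq_top_iff.1
    rw [eq_top_iff, ← hsup]
    apply sup_le
    · apply le_normalizer_of_conj_mem
      rintro g hg x ⟨hxM, hxA⟩
      exact ⟨M.mul_mem (M.mul_mem hg hxM) (M.inv_mem hg), hAn.conj_mem x hxA g⟩
    · apply le_normalizer_of_conj_mem
      rintro g hg x ⟨hxM, hxA⟩
      have : g * x * g⁻¹ = x := by rw [hAc g hg x hxA, mul_inv_cancel_right]
      rw [this]
      exact ⟨hxM, hxA⟩
  have hinf : M ⊓ A = ⊥ := by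
    rw [eq_bot_iff, ← hK]
    exact Subgroup.normal_le_normalCore.2 inf_le_left
  -- index of M is a power of p
  have hcompl : Subgroup.IsComplement' A M := by
    apply Subgroup.isComplement'_of_disjoint_and_mul_eq_univ
    · rw [disjoint_iff, inf_comm, hinf]
    · rw [← Subgroup.normal_mul, sup_comm, hsup, Subgroup.coe_top]
  have hidx : M.index = Nat.card A := hcompl.index_eq_card
  obtain ⟨a, ha⟩ := IsPGroup.iff_card.1 hAp
  -- p'-elements of M centralise A
  have hcent : ∀ m ∈ M, (orderOf m).Coprime p → ∀ b ∈ A, m * b = b * m := by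
    intro m hm hcop b hb
    have hx := hexp (m * b)
    have hmd : m ^ M.index ∈ M := M.pow_mem hm _
    have h1 : (m ^ M.index)⁻¹ * (m * b) ^ M.index ∈ A := by
      rw [← QuotientGroup.eq (s := A)]
      rw [QuotientGroup.mk_pow, QuotientGroup.mk_pow, QuotientGroup.mk_mul,
        (QuotientGroup.eq_one_iff b).2 hb, mul_one]
    have h2 : (m ^ M.index)⁻¹ * (m * b) ^ M.index ∈ M ⊓ A :=
      ⟨M.mul_mem (M.inv_mem hmd) hx, h1⟩
    rw [hinf, Subgroup.mem_bot, inv_mul_eq_one] at h2
    have hcop' : (M.index).Coprime (orderOf m) := by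
      rw [hidx, ha]
      exact (Nat.Coprime.pow_left a hcop.symm)
    obtain ⟨k, hk⟩ := exists_pow_eq_self_of_coprime hcop'
    rw [h2, ← pow_mul] at hk
    have hcomm : Commute ((m * b) ^ (M.index * k)) (m * b) := (Commute.refl _).pow_left _
    rw [hk] at hcomm
    have h3 : m * (m * b) = m * (b * m) := by rw [hcomm.eq, mul_assoc]
    exact mul_left_cancel h3
  -- p'-elements of M are trivial
  have htriv : ∀ m ∈ M, (orderOf m).Coprime p → m = 1 := by
    intro m hm hcop
    have hconj : Group.conjugatesOfSet {m} ⊆ (M : Set G) := by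
      intro y hy
      rw [Group.mem_conjugatesOfSet_iff] at hy
      obtain ⟨m', hm', hy⟩ := hy
      rw [Set.mem_singleton_iff] at hm'
      subst hm'
      obtain ⟨g, rfl⟩ := isConj_iff.1 hy
      have hg : g ∈ M ⊔ A := by rw [hsup]; trivial
      rw [sup_comm, Subgroup.mem_sup_of_normal_left] at hg
      obtain ⟨b, hb, m₁, hm₁, rfl⟩ := hg
      -- b * m₁ conjugates m' to b (m₁ m' m₁⁻¹) b⁻¹
      have hm2 : m₁ * m' * m₁⁻¹ ∈ M := M.mul_mem (M.mul_mem hm₁ hm) (M.inv_mem hm₁)
      have hord : orderOf (m₁ * m' * m₁⁻¹) = orderOf m' := by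
        have hsc : SemiconjBy m₁ m' (m₁ * m' * m₁⁻¹) := by
          unfold SemiconjBy; group
        exact (hsc.orderOf_eq).symm
      have hc := hcent _ hm2 (by rw [hord]; exact hcop) b hb
      have e : b * m₁ * m' * (b * m₁)⁻¹ = b * (m₁ * m' * m₁⁻¹) * b⁻¹ := by group
      rw [e, ← hc, mul_inv_cancel_right]
      exact hm2
    have hnc : Subgroup.normalClosure {m} ≤ M := by
      rw [Subgroup.normalClosure]
      exact (Subgroup.closure_le _).2 hconj
    have hnc2 : Subgroup.normalClosure {m} ≤ M.normalCore := Subgroup.normal_le_normalCore.2 hnc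
    rw [hK] at hnc2
    have := hnc2 (Subgroup.subset_normalClosure (Set.mem_singleton m))
    exact Subgroup.mem_bot.1 this
  -- M is a p-group
  have hMp : IsPGroup p M := by
    rintro ⟨m, hm⟩
    obtain ⟨j, r, hr, ho⟩ := Nat.exists_eq_pow_mul_and_not_dvd (orderOf_pos m).ne' p hp.ne_one
    refine ⟨j, Subtype.ext ?_⟩
    show m ^ p ^ j = 1
    apply htriv _ (M.pow_mem hm _)
    have hd : p ^ j ∣ orderOf m := ⟨r, ho⟩
    have hpj : p ^ j ≠ 0 := pow_ne_zero _ hp.ne_zero
    rw [orderOf_pow_of_dvd hpj hd, ho, Nat.mul_div_cancel_left _ (Nat.pos_of_ne_zero hpj)]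
    exact ((Nat.Prime.coprime_iff_not_dvd hp).2 hr).symm
  -- G is a p-group
  have hGp : IsPGroup p G := by
    obtain ⟨b, hb⟩ := IsPGroup.iff_card.1 hMp
    apply IsPGroup.of_card (n := b + a)
    rw [← M.card_mul_index, hidx, ha, hb, pow_add]
  exact Cfsg.Agent.Lib.H1.isPGroup_coatom_normal hGp hM

theorem main : ∀ (n : ℕ) (G : Type u) [Group G] [Finite G], Nat.card G = n → Group.IsSolvable G →
    ∀ M : Subgroup G, IsCoatom M → (∀ x : G, x ^ M.index ∈ M) → M.Normal := by
  intro n
  induction n using Nat.strong_induction_on with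
  | _ n ih =>
  intro G _ _ hn hG M hM hexp
  by_cases hK : M.normalCore = ⊥
  · exact corefree hG M hM hexp hK
  · -- pass to the quotient by the core
    obtain ⟨K, hKdef⟩ : ∃ K : Subgroup G, K = M.normalCore := ⟨_, rfl⟩
    haveI : K.Normal := by rw [hKdef]; infer_instance
    rw [← hKdef] at hK
    have hKM : K ≤ M := by rw [hKdef]; exact Subgroup.normalCore_le M
    have hcard : Nat.card (G ⧸ K) < n := by
      rw [← hn, ← K.card_mul_index, ← Subgroup.index]
      have h1 : 1 < Nat.card K := by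
        rw [Subgroup.one_lt_card_iff_ne_bot]; exact hK
      have h2 : 0 < K.index := Nat.pos_of_ne_zero Subgroup.index_ne_zero_of_finite
      nlinarith
    have hsurj := QuotientGroup.mk'_surjective K
    have hker : (QuotientGroup.mk' K).ker ≤ M := by rw [QuotientGroup.ker_mk']; exact hKM
    have hcm : (M.map (QuotientGroup.mk' K)).comap (QuotientGroup.mk' K) = M := by
      rw [Subgroup.comap_map_eq, sup_of_le_left hker]
    have hM' : IsCoatom (M.map (QuotientGroup.mk' K)) := by
      constructor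
      · intro h
        apply hM.1
        rw [← hcm, h, Subgroup.comap_top]
      · intro L hL
        have h1 : M ≤ L.comap (QuotientGroup.mk' K) := by
          rw [← hcm]; exact Subgroup.comap_mono hL.le
        have h2 : L.comap (QuotientGroup.mk' K) ≠ M := by
          intro h
          have : (L.comap (QuotientGroup.mk' K)).map (QuotientGroup.mk' K) = L :=
            Subgroup.map_comap_eq_self_of_surjective hsurj L
          rw [h] at this
          exact hL.ne this
        have h3 := hM.2 _ (lt_of_le_of_ne h1 (Ne.symm h2))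
        have : (L.comap (QuotientGroup.mk' K)).map (QuotientGroup.mk' K) = L :=
          Subgroup.map_comap_eq_self_of_surjective hsurj L
        rw [h3, Subgroup.map_top_of_surjective _ hsurj] at this
        exact this.symm
    have hidx : (M.map (QuotientGroup.mk' K)).index = M.index :=
      Subgroup.index_map_eq M hsurj hker
    have hexp' : ∀ x : G ⧸ K, x ^ (M.map (QuotientGroup.mk' K)).index ∈ M.map (QuotientGroup.mk' K) := by
      intro x
      obtain ⟨y, rfl⟩ := hsurj x
      rw [hidx]
      exact ⟨y ^ M.index, hexp y, by simp⟩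
    have hsol : Group.IsSolvable (G ⧸ K) := inferInstance
    have hN := ih _ hcard (G ⧸ K) rfl hsol _ hM' hexp'
    rw [← hcm]
    exact hN.comap _

/-- Let M be a maximal subgroup of a finite solvable group G such that x^[G : M] lies in M for every x in G. Then M is normal in G. -/
theorem result {G : Type*} [Group G] [Finite G] (hG : Group.IsSolvable G) (M : Subgroup G) (hM : IsCoatom M)
    (hexp : ∀ x : G, x ^ M.index ∈ M) : M.Normal := by
  exact main _ G rfl hG M hM hexp

end Cfsg.Agent.S4261
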