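import Cfsg.Statements.S4345
import Mathlib
import Cfsg.Agent.S4261
import Cfsg.Agent.Lib.H21.SylowFrattini
import Cfsg.Agent.Lib.H19.SylowAux

set_option autoImplicit false
open Cfsg

namespace Cfsg.Agent.S4345

open Cfsg.Agent.Lib.H21

universe u

/-- the `ℓ`-part of a number -/
def lpart (ℓ m : ℕ) : ℕ := ℓ ^ m.factorization ℓ

lemma lpart_mul {ℓ a b : ℕ} (ha : a ≠ 0) (hb : b ≠ 0) : lpart ℓ (a * b) = lpart ℓ a * lpart ℓ b := by
  unfold lpart
  rw [Nat.factorization_mul ha hb, Finsupp.add_apply, pow_add]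

lemma lpart_prime_pow {ℓ q f : ℕ} (hℓ : ℓ.Prime) (hq : q.Prime) :
    lpart ℓ (q ^ f) = q ^ f ∨ lpart ℓ (q ^ f) = 1 := by
  unfold lpart
  by_cases h : ℓ = q
  · left
    subst h
    rw [Nat.factorization_pow, Finsupp.smul_apply, hℓ.factorization_self, smul_eq_mul, mul_one]
  · right
    rw [Nat.factorization_pow, Finsupp.smul_apply, hq.factorization, Finsupp.single_apply,
      if_neg (Ne.symm h), smul_zero, pow_zero]

/-- the key factorisation of the Sylow number along a normal `q`-subgroup. -/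
lemma card_sylow_factor {G : Type u} [Group G] [Finite G] (p : ℕ) [Fact p.Prime] (q : ℕ)
    (hq : q.Prime) (N : Subgroup G) [N.Normal] (hN : IsPGroup q N) :
    ∃ f : ℕ, Nat.card (Sylow p G) = Nat.card (Sylow p (G ⧸ N)) * q ^ f ∧ q ^ f ≡ 1 [MOD p] := by
  haveI : Fact q.Prime := ⟨hq⟩
  obtain ⟨P⟩ : Nonempty (Sylow p G) := inferInstance
  obtain ⟨M, hM⟩ : ∃ M : Subgroup G, M = (P : Subgroup G) ⊔ N := ⟨_, rfl⟩
  have hPM : (P : Subgroup G) ≤ M := by rw [hM]; exact le_sup_left
  have hNM : N ≤ M := by rw [hM]; exact le_sup_right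
  have hPidx : ¬ p ∣ (P : Subgroup G).relIndex M := by
    intro hd
    have h1 : (P : Subgroup G).relIndex M * M.index = (P : Subgroup G).index :=
      Subgroup.relIndex_mul_index hPM
    exact P.not_dvd_index (h1 ▸ Dvd.dvd.mul_right hd _)
  -- normalizers
  have hNPM : Subgroup.normalizer ((P : Subgroup G) : Set G) ≤ Subgroup.normalizer (M : Set G) := by
    intro g hg
    rw [Subgroup.mem_normalizer_iff_map_conj_eq] at hg ⊢
    rw [hM, Subgroup.map_sup, hg]
    congr 1
    exact (Subgroup.mem_normalizer_iff_map_conj_eq.1 (by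
      rw [Subgroup.normalizer_eq_top]; trivial))
  have h1 : Nat.card (Sylow p G) = (Subgroup.normalizer ((P : Subgroup G) : Set G)).index :=
    P.card_eq_index_normalizer
  have h2 : Nat.card (Sylow p (G ⧸ N)) = (Subgroup.normalizer (M : Set G)).index := by
    rw [hM]; exact card_sylow_quotient N P
  have h3 : (Subgroup.normalizer ((P : Subgroup G) : Set G)).relIndex (Subgroup.normalizer (M : Set G)) *
      (Subgroup.normalizer (M : Set G)).index = (Subgroup.normalizer ((P : Subgroup G) : Set G)).index :=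
    Subgroup.relIndex_mul_index hNPM
  have h4 : (Subgroup.normalizer ((P : Subgroup G) : Set G)).relIndex (Subgroup.normalizer (M : Set G)) =
      (Subgroup.normalizer ((P : Subgroup G) : Set G)).relIndex M :=
    relIndex_normalizer_eq_of_le_normalizer M (Subgroup.normalizer (M : Set G)) (P : Subgroup G)
      Subgroup.le_normalizer le_rfl hPM P.2 hPidx
  have h5 : Nat.card (Sylow p M) = (Subgroup.normalizer ((P : Subgroup G) : Set G)).relIndex M :=
    card_sylow_subgroup_eq_relIndex M (P : Subgroup G) hPM P.2 hPidx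
  -- b divides |N|
  have h6 : (Subgroup.normalizer ((P : Subgroup G) : Set G)).relIndex M ∣ Nat.card N := by
    have e1 : (Subgroup.normalizer ((P : Subgroup G) : Set G)).relIndex M ∣ (P : Subgroup G).relIndex M :=
      Subgroup.relIndex_dvd_of_le_left M Subgroup.le_normalizer
    have e2 : (P : Subgroup G).relIndex M = ((P : Subgroup G) ⊓ N).relIndex N := by
      rw [hM]; exact (Cfsg.Agent.Lib.H19.relIndex_inf_normal_eq (P : Subgroup G) N).symm
    rw [e2] at e1
    exact e1.trans (Subgroup.relIndex_dvd_card _ _)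
  obtain ⟨e, he⟩ := IsPGroup.iff_card.1 hN
  rw [he] at h6
  obtain ⟨f, _, hf⟩ := (Nat.dvd_prime_pow hq).1 h6
  refine ⟨f, ?_, ?_⟩
  · rw [h1, h2, ← h3, h4, hf, mul_comm]
  · rw [← hf, ← h5]
    exact card_sylow_modEq_one p M

theorem main (p : ℕ) [Fact p.Prime] (ℓ : ℕ) (hℓ : ℓ.Prime) :
    ∀ (n : ℕ) (G : Type u) [Group G] [Finite G], Nat.card G = n → Group.IsSolvable G →
      lpart ℓ (Nat.card (Sylow p G)) ≡ 1 [MOD p] := by
  intro n
  induction n using Nat.strong_induction_on with
  | _ n ih =>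
  intro G _ _ hn hG
  by_cases htriv : Subsingleton G
  · have : Nat.card (Sylow p G) = 1 := by
      haveI : Subsingleton (Subgroup G) := by
        constructor
        intro a b
        ext x
        rw [Subsingleton.elim x 1]
        exact ⟨fun _ => b.one_mem, fun _ => a.one_mem⟩
      haveI : Subsingleton (Sylow p G) := ⟨fun a b => Sylow.ext (Subsingleton.elim _ _)⟩
      exact Nat.card_unique
    rw [this]
    unfold lpart
    simp [Nat.ModEq]
  · rw [not_subsingleton_iff_nontrivial] at htriv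
    obtain ⟨q, hq, N, hNn, hN1, hNp, -⟩ := Cfsg.Agent.S4261.exists_normal_abelian_pgroup hG
    haveI := hNn
    obtain ⟨f, hfac, hmod⟩ := card_sylow_factor p q hq N hNp
    have hcard : Nat.card (G ⧸ N) < n := by
      rw [← hn, ← N.card_mul_index, ← Subgroup.index]
      have h1 : 1 < Nat.card N := by
        rw [Subgroup.one_lt_card_iff_ne_bot]; exact hN1
      have h2 : 0 < N.index := Nat.pos_of_ne_zero Subgroup.index_ne_zero_of_finite
      nlinarith
    have hsol : Group.IsSolvable (G ⧸ N) := inferInstance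
    have hIH := ih _ hcard (G ⧸ N) rfl hsol
    have ha : Nat.card (Sylow p (G ⧸ N)) ≠ 0 := Nat.card_pos.ne'
    have hb : q ^ f ≠ 0 := pow_ne_zero _ hq.ne_zero
    rw [hfac, lpart_mul ha hb]
    have hb1 : lpart ℓ (q ^ f) ≡ 1 [MOD p] := by
      rcases lpart_prime_pow (f := f) hℓ hq with h | h
      · rw [h]; exact hmod
      · rw [h]
    have := Nat.ModEq.mul hIH hb1
    simpa using this

/-- Let G be a finite solvable group and p, ℓ primes. Then the largest power of ℓ dividing the number of Sylow p-subgroups of G is congruent to 1 modulo p. -/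
theorem result {G : Type*} [Group G] [Finite G]
    (hG : Group.IsSolvable G) (p ℓ : ℕ) [Fact p.Prime] (hℓ : ℓ.Prime) :
    ℓ ^ (Nat.card (Sylow p G)).factorization ℓ ≡ 1 [MOD p] := by
  exact main p ℓ hℓ _ G rfl hG

end Cfsg.Agent.S4345
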