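import Cfsg.Statements.S1241
import Mathlib

set_option autoImplicit false
open Cfsg

namespace Cfsg.Agent.S1241

/-- Let G be a finite group, p a prime, H a subgroup of index prime to p, K a subgroup of H normal in H with H/K commutative, and g ∈ H ∖ K an element of p-power order such that for all integers m and all a ∈ G with a g^m a⁻¹ ∈ H one has a g^m a⁻¹ ∈ g^m K. Then g ∉ G'. -/
theorem result {G : Type*} [Group G] [Finite G] {p : ℕ} [Fact p.Prime] (H K : Subgroup G) (hHK : K ≤ H) (hKn : (K.subgroupOf H).Normal) (hab : ∀ x ∈ H, ∀ y ∈ H, x * y * x⁻¹ * y⁻¹ ∈ K) (hidx : Nat.Coprime p H.index) (g : G) (hgH : g ∈ H) (hgK : g ∉ K) (hgp : ∃ k : ℕ, orderOf g = p ^ k) (hctrl : ∀ (m : ℤ) (a : G), a * g ^ m * a⁻¹ ∈ H → (a * g ^ m * a⁻¹) * (g ^ m)⁻¹ ∈ K) : g ∉ commutator G := by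
  classical
  intro hgc
  have : (K.subgroupOf H).Normal := hKn
  -- the quotient H / K is commutative
  letI instComm : CommGroup (H ⧸ K.subgroupOf H) :=
    { (inferInstance : Group (H ⧸ K.subgroupOf H)) with
      mul_comm := by
        intro a b
        obtain ⟨a, rfl⟩ := QuotientGroup.mk_surjective a
        obtain ⟨b, rfl⟩ := QuotientGroup.mk_surjective b
        rw [← QuotientGroup.mk_mul, ← QuotientGroup.mk_mul, QuotientGroup.eq, Subgroup.mem_subgroupOf]
        have := hab (b : G)⁻¹ (H.inv_mem b.2) (a : G)⁻¹ (H.inv_mem a.2)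
        have e : (((a * b)⁻¹ * (b * a) : H) : G) = (b : G)⁻¹ * (a : G)⁻¹ * (b : G)⁻¹⁻¹ * (a : G)⁻¹⁻¹ := by
          simp only [Subgroup.coe_mul, Subgroup.coe_inv]; group
        rw [e]; exact this }
  let ϕ : H →* H ⧸ K.subgroupOf H := QuotientGroup.mk' (K.subgroupOf H)
  have : H.FiniteIndex := Subgroup.finiteIndex_of_finite_quotient
  have : Fintype (Quotient (MulAction.orbitRel (Subgroup.zpowers g) (G ⧸ H))) := Fintype.ofFinite _
  have key : ϕ.transfer g = (ϕ ⟨g, hgH⟩) ^ H.index := by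
    rw [Subgroup.index_eq_sum_minimalPeriod H g, ← Finset.prod_pow_eq_pow_sum,
      MonoidHom.transfer_eq_prod_quotient_orbitRel_zpowers_quot]
    apply Finset.prod_congr rfl
    intro q _
    rw [← map_pow]
    show (QuotientGroup.mk _ : H ⧸ K.subgroupOf H) = QuotientGroup.mk _
    rw [QuotientGroup.eq, Subgroup.mem_subgroupOf]
    set n := Function.minimalPeriod (fun x => g • x) (Quotient.out q) with hn
    have hmem : (Quotient.out (Quotient.out q))⁻¹ * g ^ n * Quotient.out (Quotient.out q) ∈ H :=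
      QuotientGroup.out_conj_pow_minimalPeriod_mem H g (Quotient.out q)
    have h1 := hctrl (n : ℤ) (Quotient.out (Quotient.out q))⁻¹ (by
      rw [zpow_natCast, inv_inv]; exact hmem)
    rw [zpow_natCast, inv_inv] at h1
    -- K ∋ (a gⁿ a⁻¹)(gⁿ)⁻¹ ; want (a gⁿ a⁻¹)⁻¹ * gⁿ
    have h2 := K.inv_mem h1
    have hKn' := hKn.conj_mem ⟨_, hHK h2⟩ (by rw [Subgroup.mem_subgroupOf]; exact h2)
      ⟨((Quotient.out (Quotient.out q))⁻¹ * g ^ n * Quotient.out (Quotient.out q))⁻¹, H.inv_mem hmem⟩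
    rw [Subgroup.mem_subgroupOf] at hKn'
    convert hKn' using 1
    simp only [Subgroup.coe_mul, Subgroup.coe_inv, Subgroup.coe_pow]
    clear_value n
    subst hn
    group
  have hker : ϕ.transfer g = 1 :=
    (Abelianization.commutator_subset_ker ϕ.transfer) hgc
  rw [key] at hker
  -- order of ϕ g divides index and p^k
  obtain ⟨k, hk⟩ := hgp
  have hd1 : orderOf (ϕ ⟨g, hgH⟩) ∣ H.index := orderOf_dvd_of_pow_eq_one hker
  have hd2 : orderOf (ϕ ⟨g, hgH⟩) ∣ p ^ k := by
    apply orderOf_dvd_of_pow_eq_one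
    rw [← map_pow]
    have : (⟨g, hgH⟩ : H) ^ p ^ k = 1 := by
      apply Subtype.ext
      simp only [Subgroup.coe_pow, Subgroup.coe_one]
      rw [← hk]; exact pow_orderOf_eq_one g
    rw [this, map_one]
  have hcop : Nat.Coprime (p ^ k) H.index := Nat.Coprime.pow_left k hidx
  have h1 : orderOf (ϕ ⟨g, hgH⟩) = 1 := Nat.eq_one_of_dvd_coprimes hcop hd2 hd1
  rw [orderOf_eq_one_iff] at h1
  have : (⟨g, hgH⟩ : H) ∈ K.subgroupOf H := (QuotientGroup.eq_one_iff _).mp h1
  rw [Subgroup.mem_subgroupOf] at this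
  exact hgK this

end Cfsg.Agent.S1241
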