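import Cfsg.Statements.S3116
import Mathlib
import Cfsg.Agent.Lib.H16.AutIndexTwo

set_option autoImplicit false
open Cfsg

namespace Cfsg.Agent.S3116

open Cfsg.Agent.Lib.H16

theorem dihedral_case (n : ℕ) (hn : 4 ≤ n) (h2 : IsPGroup 2 (DihedralGroup n)) :
    IsPGroup 2 (MulAut (DihedralGroup n)) := by
  have : NeZero n := ⟨by omega⟩
  apply isPGroup_mulAut_of_cyclic_index_two h2 (DihedralGroup.r 1)
  · rw [DihedralGroup.orderOf_r_one, DihedralGroup.nat_card]
  · intro g hg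
    rw [DihedralGroup.orderOf_r_one]
    cases g with
    | r i =>
      exfalso
      apply hg
      rw [Subgroup.mem_zpowers_iff]
      refine ⟨(i.val : ℤ), ?_⟩
      rw [zpow_natCast, DihedralGroup.r_one_pow, ZMod.natCast_zmod_val]
    | sr i =>
      rw [DihedralGroup.orderOf_sr]
      omega

theorem qd_case {X : Type*} [Group X] [Finite X] (h2 : IsPGroup 2 X)
    (h : Cfsg.IsQuasiDihedral X) : IsPGroup 2 (MulAut X) := by
  obtain ⟨n, hn, hcard, x, y, hx, hy, hconj⟩ := h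
  have hpow_lt : 4 < 2 ^ n := by
    calc 4 = 2 ^ 2 := by norm_num
      _ < 2 ^ n := Nat.pow_lt_pow_right (by norm_num) (by omega)
  have hy2 : y * y = 1 := by
    have := pow_orderOf_eq_one y
    rw [hy, pow_two] at this
    exact this
  have hyinv : y⁻¹ = y := inv_eq_of_mul_eq_one_left hy2
  have hcard' : Nat.card X = 2 * orderOf x := by rw [hcard, hx, pow_succ, mul_comm]
  have hidx := zpowers_index_two x hcard'
  -- key number facts
  obtain ⟨m, rfl⟩ : ∃ m, n = m + 3 := ⟨n - 3, by omega⟩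
  have hm1 : 2 ^ (m + 3 - 1) = 4 * 2 ^ m := by
    have : m + 3 - 1 = m + 2 := by omega
    rw [this, pow_add]; ring
  have hm2 : 2 ^ (m + 3) = 8 * 2 ^ m := by rw [pow_add]; ring
  have hmpos : 0 < 2 ^ m := by positivity
  -- y is not in ⟨x⟩
  have hynot : y ∉ Subgroup.zpowers x := by
    intro hmem
    obtain ⟨k, hk⟩ := Subgroup.mem_zpowers_iff.mp hmem
    have hcomm : y * x = x * y := by
      rw [← hk]
      exact ((Commute.refl x).zpow_left k).eq
    have h1 : x ^ (2 ^ (m + 3 - 1) - 1) = x ^ 1 := by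
      rw [← hconj, hcomm, mul_assoc, mul_inv_cancel, mul_one, pow_one]
    rw [pow_eq_pow_iff_modEq, hx, hm1, hm2] at h1
    have h3 : (8 * 2 ^ m) ∣ (4 * 2 ^ m - 1 - 1) := (Nat.modEq_iff_dvd' (by omega)).mp h1.symm
    have h4 := Nat.le_of_dvd (by omega) h3
    omega
  apply isPGroup_mulAut_of_cyclic_index_two h2 x hcard'
  intro g hg
  -- g = y * c with c ∈ ⟨x⟩
  have hc : y⁻¹ * g ∈ Subgroup.zpowers x := by
    rw [Subgroup.mul_mem_iff_of_index_two hidx, inv_mem_iff]
    exact ⟨fun h => absurd h hynot, fun h => absurd h hg⟩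
  obtain ⟨k, hk⟩ := Subgroup.mem_zpowers_iff.mp hc
  have hg' : g = y * x ^ k := by rw [hk]; group
  -- conjugation of c
  have hconjc : y * x ^ k * y⁻¹ = (x ^ k) ^ (2 ^ (m + 3 - 1) - 1) := by
    rw [← conj_zpow, hconj, ← zpow_natCast, ← zpow_natCast, ← zpow_mul, ← zpow_mul, mul_comm]
  have hsq : g * g = (x ^ k) ^ (2 ^ (m + 3 - 1)) := by
    have e1 : g * g = (y * x ^ k * y⁻¹) * (y * y) * x ^ k := by rw [hg']; group
    rw [e1, hy2, mul_one, hconjc, ← pow_succ]
    congr 1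
    have : 1 ≤ 2 ^ (m + 3 - 1) := Nat.one_le_two_pow
    omega
  have h4 : g ^ 4 = 1 := by
    have e2 : g ^ 4 = (g * g) * (g * g) := by
      rw [show (4 : ℕ) = 2 + 2 from rfl, pow_add, pow_two]
    rw [e2, hsq, ← pow_add, ← two_mul, hm1]
    have e3 : 2 * (4 * 2 ^ m) = 2 ^ (m + 3) := by rw [hm2]; ring
    rw [e3, ← zpow_natCast, ← zpow_mul, mul_comm, zpow_mul, zpow_natCast, ← hx, pow_orderOf_eq_one,
      one_zpow]
  have hle : orderOf g ≤ 4 := Nat.le_of_dvd (by norm_num) (orderOf_dvd_of_pow_eq_one h4)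
  rw [hx]
  omega

/-- The automorphism group of a dihedral 2-group of order at least 8, or of a quasi-dihedral (semidihedral) 2-group of order at least 16, is a 2-group. -/
theorem result {X : Type*} [Group X] [Finite X] (h2 : IsPGroup 2 X)
    (h : (∃ n : ℕ, 4 ≤ n ∧ Nonempty (X ≃* DihedralGroup n)) ∨ Cfsg.IsQuasiDihedral X) : IsPGroup 2 (MulAut X) := by
  rcases h with ⟨n, hn, ⟨e⟩⟩ | h
  · have h2' : IsPGroup 2 (DihedralGroup n) := h2.of_equiv e
    exact (dihedral_case n hn h2').of_equiv (MulAut.congr e).symm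
  · exact qd_case h2 h

end Cfsg.Agent.S3116
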