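import Mathlib
import Cfsg.Statements.S1210
import Cfsg.Agent.Lib.H5.WreathedCase2c

set_option autoImplicit false
open Cfsg

namespace Cfsg.Agent.S1210

open Subgroup Cfsg.Agent.Lib.H5 Cfsg.Agent.Lib.H5.Wr Cfsg.Agent.Lib.H5.WS Cfsg.Agent.Lib.H6

/-- Let G be a finite group whose Sylow 2-subgroup S is wreathed of order 2^(2n+1), U the commutative subgroup of index 2 in S, Q a quaternion subgroup of order 8 of S and V = Q Z(S). If |N_G(U) : C_G(U)| = 2 and |N_G(V) : V C_G(V)| = 6, then G has a normal subgroup K of index 2^n whose Sylow 2-subgroups are generalized quaternion and which has no subgroup of index 2; every subgroup of Z(S) is weakly closed in S; and G has exactly two classes of involutions. -/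
theorem result {G : Type*} [Group G] [Finite G] (S : Sylow 2 G) (hS : Cfsg.IsWreathed (S : Subgroup G)) (n : ℕ) (hn : Nat.card S = 2 ^ (2 * n + 1)) (U : Subgroup G) (hUS : U ≤ S) (hUab : IsMulCommutative U) (hUcard : Nat.card U = 2 ^ (2 * n)) (Q : Subgroup G) (hQS : Q ≤ S) (eQ : Q ≃* QuaternionGroup 2) (h₁ : (Subgroup.centralizer (U : Set G)).relIndex (Subgroup.normalizer (U : Set G)) = 2) (h₂ : ((Q ⊔ ((Subgroup.center (S : Subgroup G)).map (S : Subgroup G).subtype)) ⊔ Subgroup.centralizer ((Q ⊔ ((Subgroup.center (S : Subgroup G)).map (S : Subgroup G).subtype) : Subgroup G) : Set G)).relIndex (Subgroup.normalizer ((Q ⊔ ((Subgroup.center (S : Subgroup G)).map (S : Subgroup G).subtype) : Subgroup G) : Set G)) = 6) : (∃ K : Subgroup G, K.Normal ∧ K.index = 2 ^ n ∧ (∀ P : Sylow 2 ↥K, ∃ m : ℕ, 1 ≤ m ∧ Nonempty ((P : Subgroup ↥K) ≃* QuaternionGroup (2 ^ m))) ∧ (∀ H : Subgroup ↥K, H.index ≠ 2)) ∧ (∀ Z₀ : Subgroup G, Z₀ ≤ ((Subgroup.center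 (S : Subgroup G)).map (S : Subgroup G).subtype) → Cfsg.IsWeaklyClosed Z₀ (S : Subgroup G)) ∧ Nat.card {C : ConjClasses G // ∃ t : G, orderOf t = 2 ∧ ConjClasses.mk t = C} = 2 := by
  have : Fact (Nat.Prime 2) := ⟨Nat.prime_two⟩
  obtain ⟨x, y, z, d⟩ := exists_gens' S hS n hn
  have hU := eq_up_base d U hUS hUab hUcard
  rw [hU] at h₁
  have hQ' : Nonempty (Q.subgroupOf (S : Subgroup G) ≃* QuaternionGroup 2) :=
    ⟨(Subgroup.subgroupOfEquivOfLe hQS).trans eQ⟩
  have hG := d.good_of_quat _ hQ'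
  have hV : Q ⊔ ((Subgroup.center (S : Subgroup G)).map (S : Subgroup G).subtype) =
      up (Q.subgroupOf (S : Subgroup G) ⊔ center ↥(S : Subgroup G)) := by
    rw [up_sup, up_subgroupOf hQS]
  rw [hV] at h₂
  have hNS := Nsub_subgroupOf_eq_quatSub d hG h₁ h₂
  have hcf := center_fusion d hG h₁ h₂
  have hNM : normalizer ((up (Q.subgroupOf (S : Subgroup G) ⊔ center ↥(S : Subgroup G)) :
      Subgroup G) : Set G) ≤
      normalizer ((up (Q.subgroupOf (S : Subgroup G) ⊔ center ↥(S : Subgroup G)) ⊔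
        centralizer ((up (Q.subgroupOf (S : Subgroup G) ⊔ center ↥(S : Subgroup G)) :
          Subgroup G) : Set G) : Subgroup G) : Set G) :=
    (le_inf (le_refl _) (NC.normalizer_le_normalizer_centralizer _)).trans
      (NC.normalizer_inf_le_normalizer_sup' _ _)
  obtain ⟨g, hgN, hgodd, hgM⟩ := AZ.exists_odd_notMem_of_three_dvd hNM (by rw [h₂]; norm_num)
  have hbt := isConj_b_t_of_odd d hG g hgN hgodd hgM
  have hfin : Finite ↥(S : Subgroup G) := inferInstance
  have hqidx : d.quatSub.index = 2 ^ n := by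
    have h1 := d.quatSub.card_mul_index
    rw [d.card_quatSub, d.hcard] at h1
    have e : (2 : ℕ) ^ (2 * n + 1) = 2 ^ (n + 1) * 2 ^ n := by
      rw [← pow_add]; congr 1; omega
    rw [e] at h1
    exact Nat.eq_of_mul_eq_mul_left (by positivity) h1
  refine ⟨⟨TwoRes.Nsub G, TwoRes.Nsub_normal, ?_, ?_, no_index_two_Nsub d hG h₁ h₂⟩, ?_, ?_⟩
  · rw [TwoRes.index_Nsub S, hNS, hqidx]
  · intro P
    obtain ⟨e1⟩ := TwoRes.sylow_equiv_of_normal S (TwoRes.Nsub G) P
    obtain ⟨e2⟩ := d.quatSub_equiv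
    refine ⟨n - 1, ?_, ⟨(e1.trans (MulEquiv.subgroupCongr hNS)).trans e2⟩⟩
    have := d.hn
    omega
  · intro Z₀ hZ₀
    refine ⟨hZ₀.trans (up_le _), ?_⟩
    intro c hc
    have key : ∀ a ∈ Z₀, c * a * c⁻¹ = a := by
      intro a ha
      have h1 : (c⁻¹)⁻¹ * a * c⁻¹ ∈ (S : Subgroup G) := by
        rw [inv_inv]
        apply hc
        exact ⟨a, ha, rfl⟩
      have h2 := hcf a (up_le _ (hZ₀ ha)) c⁻¹ h1 (Or.inl (hZ₀ ha))
      rwa [inv_inv] at h2
    ext b
    constructor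
    · rintro ⟨a, ha, rfl⟩
      show c * a * c⁻¹ ∈ Z₀
      rw [key a ha]
      exact ha
    · intro hb
      refine ⟨b, hb, ?_⟩
      show c * b * c⁻¹ = b
      exact key b hb
  · apply card_classes_eq_two_of_b_t d hbt
    intro h
    obtain ⟨c, hc⟩ := isConj_iff.mp h
    have hzc : zetaG d ∈ up (center ↥(S : Subgroup G)) := by
      apply coe_mem_up_iff.mpr
      rw [d.mem_center_iff']
      exact ⟨_, rfl⟩
    have h1 : (c⁻¹)⁻¹ * zetaG d * c⁻¹ ∈ (S : Subgroup G) := by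
      rw [inv_inv, hc]; exact z.2
    have h2 := hcf (zetaG d) (up_le _ hzc) c⁻¹ h1 (Or.inl hzc)
    rw [inv_inv, hc] at h2
    have h3 : z = wp n x y (SD.hh n) (SD.hh n) := Subtype.ext h2
    have h4 := d.wpz_ne_wp 0 0 (SD.hh n) (SD.hh n)
    apply h4
    rw [Gens.wp_zero, one_mul]
    exact h3

end Cfsg.Agent.S1210
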