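import Mathlib
import Cfsg.Statements.S1211
import Cfsg.Agent.Lib.H5.WreathedCase3

set_option autoImplicit false
open Cfsg

namespace Cfsg.Agent.S1211

open Subgroup Cfsg.Agent.Lib.H5 Cfsg.Agent.Lib.H5.Wr Cfsg.Agent.Lib.H5.WS Cfsg.Agent.Lib.H6

/-- Let G be a finite group whose Sylow 2-subgroup S is wreathed of order 2^(2n+1), U the commutative subgroup of index 2 in S, Q a quaternion subgroup of order 8 of S and V = Q Z(S). If |N_G(U) : C_G(U)| = 6 and |N_G(V) : V C_G(V)| = 2, then G has a normal subgroup K of index 2 containing U (so U is a Sylow 2-subgroup of K) which has no subgroup of index 2, and G has exactly two classes of involutions. -/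
theorem result {G : Type*} [Group G] [Finite G] (S : Sylow 2 G) (hS : Cfsg.IsWreathed (S : Subgroup G)) (n : ℕ) (hn : Nat.card S = 2 ^ (2 * n + 1)) (U : Subgroup G) (hUS : U ≤ S) (hUab : IsMulCommutative U) (hUcard : Nat.card U = 2 ^ (2 * n)) (Q : Subgroup G) (hQS : Q ≤ S) (eQ : Q ≃* QuaternionGroup 2) (h₁ : (Subgroup.centralizer (U : Set G)).relIndex (Subgroup.normalizer (U : Set G)) = 6) (h₂ : ((Q ⊔ ((Subgroup.center (S : Subgroup G)).map (S : Subgroup G).subtype)) ⊔ Subgroup.centralizer ((Q ⊔ ((Subgroup.center (S : Subgroup G)).map (S : Subgroup G).subtype) : Subgroup G) : Set G)).relIndex (Subgroup.normalizer ((Q ⊔ ((Subgroup.center (S : Subgroup G)).map (S : Subgroup G).subtype) : Subgroup G) : Set G)) = 2) : (∃ K : Subgroup G, K.Normal ∧ K.index = 2 ∧ U ≤ K ∧ (∀ H : Subgroup ↥K, H.index ≠ 2)) ∧ Nat.card {C : ConjClasses G // ∃ t : G, orderOf t = 2 ∧ ConjClasses.mk t = C} = 2 := by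
  have : Fact (Nat.Prime 2) := ⟨Nat.prime_two⟩
  obtain ⟨x, y, z, d⟩ := exists_gens' S hS n hn
  have hU := eq_up_base d U hUS hUab hUcard
  rw [hU] at h₁ ⊢
  have hQ' : Nonempty (Q.subgroupOf (S : Subgroup G) ≃* QuaternionGroup 2) :=
    ⟨(Subgroup.subgroupOfEquivOfLe hQS).trans eQ⟩
  have hG := d.good_of_quat _ hQ'
  have hV : Q ⊔ ((Subgroup.center (S : Subgroup G)).map (S : Subgroup G).subtype) =
      up (Q.subgroupOf (S : Subgroup G) ⊔ center ↥(S : Subgroup G)) := by
    rw [up_sup, up_subgroupOf hQS]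
  rw [hV] at h₂
  obtain ⟨g, hgN, hgodd, hgC⟩ := AZ.exists_odd_notMem_of_three_dvd
    (NC.normalizer_le_normalizer_centralizer (up d.base : Subgroup G)) (by rw [h₁]; norm_num)
  have hbz := isConj_b_zeta_of_odd d g hgN hgodd hgC
  have hsc := base_strongly_closed d hG h₂
  have hNS := Nsub_subgroupOf_eq_base d hG h₁ h₂
  have hidx : (TwoRes.Nsub G).index = 2 := by
    rw [TwoRes.index_Nsub S, hNS, d.index_base]
  constructor
  · refine ⟨TwoRes.Nsub G, TwoRes.Nsub_normal, hidx, ?_, TwoRes.no_index_two_sub hidx⟩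
    rintro _ ⟨u, hu, rfl⟩
    have : u ∈ (TwoRes.Nsub G).subgroupOf (S : Subgroup G) := hNS ▸ hu
    exact mem_subgroupOf.mp this
  · apply card_classes_eq_two_of_b_zeta d hbz
    intro h
    obtain ⟨c, hc⟩ := isConj_iff.mp h
    have h1 : (c⁻¹)⁻¹ * zetaG d * c⁻¹ ∈ (S : Subgroup G) := by
      rw [inv_inv, hc]; exact z.2
    have h2 := (hsc (zetaG d) (up_le _ (zetaG_mem d)) c⁻¹ h1).mp (zetaG_mem d)
    rw [inv_inv, hc] at h2
    exact tG_notMem_base d h2

end Cfsg.Agent.S1211
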