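import Cfsg.Statements.S5103
import Cfsg.Agent.S5133
import Cfsg.Agent.Lib.H26.GroupSaturated
import Cfsg.Agent.Lib.H25.Basic
import Cfsg.Agent.Lib.H25.Normal

set_option autoImplicit false
open Cfsg

namespace Cfsg.Agent.S5103

open Cfsg.FusionSystem Cfsg.Agent.Lib.H25

section Back

variable {Ω : Type*} [Group Ω] {S : Subgroup Ω} {G : Type*} [Group G] (ι : S →* G)
  (hι : Function.Injective ι)

/-- The inverse of `ι` on its range, with values in `Ω`. -/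
noncomputable def back : ι.range →* Ω :=
  S.subtype.comp (MonoidHom.ofInjective hι).symm.toMonoidHom

theorem back_mem (t : ι.range) : back ι hι t ∈ S := ((MonoidHom.ofInjective hι).symm t).2

theorem ι_back (t : ι.range) : ι ⟨back ι hι t, back_mem ι hι t⟩ = t := by
  have h1 : (⟨back ι hι t, back_mem ι hι t⟩ : S) = (MonoidHom.ofInjective hι).symm t := rfl
  rw [h1]
  exact congrArg Subtype.val ((MonoidHom.ofInjective hι).apply_symm_apply t)

theorem back_ι (s : S) (h : ι s ∈ ι.range) : back ι hι ⟨ι s, h⟩ = s := by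
  have h1 : (⟨ι s, h⟩ : ι.range) = MonoidHom.ofInjective hι s := rfl
  show (((MonoidHom.ofInjective hι).symm ⟨ι s, h⟩ : S) : Ω) = s
  rw [h1, MulEquiv.symm_apply_apply]

theorem back_eq_iff (t : ι.range) (s : S) : back ι hι t = s ↔ (t : G) = ι s := by
  constructor
  · intro h
    rw [← ι_back ι hι t]
    congr 1
    exact Subtype.ext h
  · intro h
    have hmem : ι s ∈ ι.range := ⟨s, rfl⟩
    have : t = ⟨ι s, hmem⟩ := Subtype.ext h
    rw [this]
    exact back_ι ι hι s hmem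

end Back

section Main

variable {Ω : Type*} [Group Ω] {S : Subgroup Ω} {G : Type*} [Group G]

/-- The inverse of a realizing homomorphism is a surjective morphism from the fusion system of
the group on the image. -/
theorem isSurjectiveMorphism_back (F : FusionSystem S) (ι : S →* G) (hreal : F.IsRealizedBy ι) :
    (groupFusionSystem ι.range).IsSurjectiveMorphism F (back ι hreal.1) := by
  obtain ⟨hι, hr⟩ := hreal
  refine ⟨⟨fun t => back_mem ι hι t, fun P φ hφ => ?_⟩, ?_, fun P' hP' φ' hφ' => ?_⟩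
  · obtain ⟨hPT, hφT, g, hg⟩ := hφ
    have hyS : ∀ y : imageAlong (back ι hι) P, (y : Ω) ∈ S := by
      rintro ⟨_, t, -, rfl⟩
      exact back_mem ι hι t
    have hyP : ∀ y : imageAlong (back ι hι) P, ι ⟨y, hyS y⟩ ∈ P := by
      rintro ⟨_, t, ht, rfl⟩
      rw [ι_back ι hι t]
      exact Subgroup.mem_subgroupOf.1 ht
    let ξ : imageAlong (back ι hι) P →* P :=
      MonoidHom.mk' (fun y => ⟨ι ⟨y, hyS y⟩, hyP y⟩) (fun a b => by
        apply Subtype.ext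
        show ι ⟨(a : Ω) * b, _⟩ = ι ⟨a, _⟩ * ι ⟨b, _⟩
        rw [← map_mul]
        rfl)
    let φ' : imageAlong (back ι hι) P →* Ω :=
      (back ι hι).comp ((φ.codRestrict ι.range hφT).comp ξ)
    have hφ'v : ∀ y, φ' y = back ι hι ⟨φ (ξ y), hφT _⟩ := fun y => rfl
    have hle : imageAlong (back ι hι) P ≤ S := fun y hy => hyS ⟨y, hy⟩
    have hφ'S : ∀ y, φ' y ∈ S := fun y => back_mem ι hι _
    have hmem : φ' ∈ F.Hom (imageAlong (back ι hι) P) := by
      rw [hr _ hle φ' hφ'S]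
      refine ⟨g, fun y => ?_⟩
      have h1 : (⟨φ' y, hφ'S y⟩ : S) = ⟨back ι hι ⟨φ (ξ y), hφT _⟩, back_mem ι hι _⟩ := rfl
      rw [h1, ι_back]
      show φ (ξ y) = _
      rw [hg]
      rfl
    refine ⟨φ', hmem, hPT, hφT, fun x => ⟨⟨x, hPT x.2⟩, Subgroup.mem_subgroupOf.2 x.2, rfl⟩,
      fun x => ?_⟩
    rw [hφ'v]
    congr 1
    apply Subtype.ext
    show φ (ξ _) = φ x
    congr 1
    apply Subtype.ext
    show ι ⟨back ι hι ⟨x, hPT x.2⟩, _⟩ = (x : G)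
    rw [ι_back]
  · ext y
    constructor
    · rintro ⟨t, rfl⟩
      exact back_mem ι hι t
    · intro hy
      exact ⟨⟨ι ⟨y, hy⟩, ⟨_, rfl⟩⟩, back_ι ι hι ⟨y, hy⟩ _⟩
  · have hφ'S : ∀ x : P', φ' x ∈ S := fun x => hom_mem_S F hφ' x
    obtain ⟨g, hg⟩ := (hr P' hP' φ' hφ'S).1 hφ'
    have hPT : preimageAlong (back ι hι) P' ≤ ι.range := preimageAlong_le _ P'
    have hx' : ∀ x : preimageAlong (back ι hι) P', back ι hι ⟨x, hPT x.2⟩ ∈ P' := by
      intro x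
      obtain ⟨_, h⟩ := (mem_preimageAlong_iff (back ι hι) P' x).1 x.2
      exact h
    have hconj : ∀ x : preimageAlong (back ι hι) P',
        g * (x : G) * g⁻¹ = ι ⟨φ' ⟨back ι hι ⟨x, hPT x.2⟩, hx' x⟩, hφ'S _⟩ := by
      intro x
      rw [hg]
      have h1 : (⟨((⟨back ι hι ⟨x, hPT x.2⟩, hx' x⟩ : P') : Ω), hP' (hx' x)⟩ : S) =
          ⟨back ι hι ⟨x, hPT x.2⟩, back_mem ι hι _⟩ := rfl
      rw [h1, ι_back]
    have hφT : ∀ x : preimageAlong (back ι hι) P',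
        conjHom (preimageAlong (back ι hι) P') g x ∈ ι.range := by
      intro x
      show g * (x : G) * g⁻¹ ∈ ι.range
      rw [hconj]
      exact ⟨_, rfl⟩
    refine ⟨conjHom (preimageAlong (back ι hι) P') g, ⟨hPT, hφT, g, fun x => rfl⟩,
      hPT, hφT, hx', fun x => ?_⟩
    symm
    rw [back_eq_iff ι hι _ ⟨φ' ⟨back ι hι ⟨x, hPT x.2⟩, hx' x⟩, hφ'S _⟩]
    exact hconj x

/-- The preimage of a normal subgroup of `G` contained in the image of `S` is normal in the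
system. -/
theorem isNormal_pre {F : FusionSystem S} {ι : S →* G} (hreal : F.IsRealizedBy ι)
    (N : Subgroup G) [hNn : N.Normal] (hN : N ≤ ι.range) : F.IsNormal (preimageAlong ι N) := by
  obtain ⟨hι, hr⟩ := hreal
  have hQmem : ∀ x, x ∈ preimageAlong ι N ↔ ∃ hxS : x ∈ S, ι ⟨x, hxS⟩ ∈ N :=
    mem_preimageAlong_iff ι N
  have hQS : preimageAlong ι N ≤ S := preimageAlong_le ι N
  obtain ⟨Q, hQdef⟩ : ∃ Q, Q = preimageAlong ι N := ⟨_, rfl⟩
  rw [← hQdef] at hQmem hQS ⊢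
  apply isNormal_of_ext hQS
  intro P φ hφ
  have hPS := hom_le F hφ
  have hφS := hom_mem_S F hφ
  obtain ⟨g₀, hg₀⟩ := (hr P hPS φ hφS).1 hφ
  obtain ⟨M, hMdef⟩ : ∃ M, M = preimageAlong ι (ι.range.comap (MulAut.conj g₀).toMonoidHom) :=
    ⟨_, rfl⟩
  have hMmem : ∀ x, x ∈ M ↔ ∃ hxS : x ∈ S, g₀ * ι ⟨x, hxS⟩ * g₀⁻¹ ∈ ι.range := by
    intro x
    rw [hMdef, mem_preimageAlong_iff]
    rfl
  have hPM : P ≤ M := fun x hx =>
    (hMmem x).2 ⟨hPS hx, by rw [← hg₀ ⟨x, hx⟩]; exact ⟨_, rfl⟩⟩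
  have hQM : Q ≤ M := fun x hx => by
    obtain ⟨hxS, hxN⟩ := (hQmem x).1 hx
    exact (hMmem x).2 ⟨hxS, hN (hNn.conj_mem _ hxN g₀)⟩
  have hPQM : P ⊔ Q ≤ M := sup_le hPM hQM
  have hPQS : P ⊔ Q ≤ S := sup_le hPS hQS
  have hmem : ∀ x : (P ⊔ Q : Subgroup Ω),
      (((MulAut.conj g₀).toMonoidHom.comp ι).comp (Subgroup.inclusion hPQS)) x ∈ ι.range := by
    intro x
    obtain ⟨hxS, h⟩ := (hMmem x).1 (hPQM x.2)
    exact h
  let ψ : (P ⊔ Q : Subgroup Ω) →* Ω := (back ι hι).comp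
    ((((MulAut.conj g₀).toMonoidHom.comp ι).comp (Subgroup.inclusion hPQS)).codRestrict ι.range hmem)
  have hψS : ∀ x, ψ x ∈ S := fun x => back_mem ι hι _
  have hψι : ∀ x : (P ⊔ Q : Subgroup Ω),
      ι ⟨ψ x, hψS x⟩ = g₀ * ι ⟨x, hPQS x.2⟩ * g₀⁻¹ := by
    intro x
    have : (⟨ψ x, hψS x⟩ : S) = ⟨back ι hι _, back_mem ι hι _⟩ := rfl
    rw [this, ι_back]
    rfl
  have hψ : ψ ∈ F.Hom (P ⊔ Q) := (hr _ hPQS ψ hψS).2 ⟨g₀, hψι⟩
  refine ⟨ext1 ψ, ψ.range, isIso_of_mem F hψ, fun x => ?_, fun x hx => ?_, fun y hy => ?_⟩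
  · rw [ext1_apply_mem ψ ((le_sup_left : P ≤ P ⊔ Q) x.2)]
    have h1 : (⟨ψ ⟨x, (le_sup_left : P ≤ P ⊔ Q) x.2⟩, hψS _⟩ : S) = ⟨φ x, hφS x⟩ :=
      hι (by rw [hψι, hg₀])
    exact congrArg Subtype.val h1
  · rw [ext1_apply_mem ψ ((le_sup_right : Q ≤ P ⊔ Q) hx)]
    obtain ⟨hxS, hxN⟩ := (hQmem x).1 hx
    rw [hQmem]
    refine ⟨hψS _, ?_⟩
    rw [hψι]
    exact hNn.conj_mem _ hxN g₀
  · obtain ⟨hyS, hyN⟩ := (hQmem y).1 hy
    have h1 : g₀⁻¹ * ι ⟨y, hyS⟩ * g₀ ∈ N := by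
      have := hNn.conj_mem _ hyN g₀⁻¹
      simpa using this
    obtain ⟨s, hs⟩ := hN h1
    have hsQ : (s : Ω) ∈ Q := (hQmem s).2 ⟨s.2, by
      have : (⟨(s : Ω), s.2⟩ : S) = s := rfl
      rw [this, hs]; exact h1⟩
    refine ⟨s, hsQ, ?_⟩
    rw [ext1_apply_mem ψ ((le_sup_right : Q ≤ P ⊔ Q) hsQ)]
    have h2 : (⟨ψ ⟨s, (le_sup_right : Q ≤ P ⊔ Q) hsQ⟩, hψS _⟩ : S) = ⟨y, hyS⟩ := by
      apply hι
      rw [hψι]
      have : (⟨(s : Ω), hPQS ((le_sup_right : Q ≤ P ⊔ Q) hsQ)⟩ : S) = s := rfl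
      rw [this, hs]
      group
    exact congrArg Subtype.val h2

/-- The preimage of a self-centralizing normal subgroup of `G` contained in the image of `S` is
centric in the system. -/
theorem isCentric_pre [Finite S] {F : FusionSystem S} {ι : S →* G} (hreal : F.IsRealizedBy ι)
    (N : Subgroup G) [hNn : N.Normal] (hN : N ≤ ι.range)
    (hcent : Subgroup.centralizer (N : Set G) ≤ N) : F.IsCentric (preimageAlong ι N) := by
  have hnorm := isNormal_pre hreal N hN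
  have hQmem : ∀ x, x ∈ preimageAlong ι N ↔ ∃ hxS : x ∈ S, ι ⟨x, hxS⟩ ∈ N :=
    mem_preimageAlong_iff ι N
  have hQS : preimageAlong ι N ≤ S := preimageAlong_le ι N
  obtain ⟨Q, hQdef⟩ : ∃ Q, Q = preimageAlong ι N := ⟨_, rfl⟩
  rw [← hQdef] at hQmem hQS hnorm ⊢
  have hsc := isNormal_stronglyClosed hnorm
  refine ⟨hQS, fun Q₂ hconj => ?_⟩
  obtain ⟨f, hf⟩ := (isConj_iff F).1 hconj
  have hself := stronglyClosed_isIso_self hsc hf le_rfl
  have hQ₂ : Q₂ = Q := by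
    ext y
    constructor
    · intro hy
      obtain ⟨x, hx, rfl⟩ := hf.surjOn hy
      exact hself.map_mem hx
    · intro hy
      obtain ⟨x, hx, rfl⟩ := hself.surjOn hy
      exact hf.map_mem hx
  rw [hQ₂]
  intro c hc
  obtain ⟨hcS, hcC⟩ := hc
  rw [hQmem]
  refine ⟨hcS, hcent ?_⟩
  rw [Subgroup.mem_centralizer_iff]
  intro z hz
  obtain ⟨s, rfl⟩ := hN hz
  have hsQ : (s : Ω) ∈ Q := (hQmem _).2 ⟨s.2, hz⟩
  have h1 := hcC s hsQ
  have h2 : s * ⟨c, hcS⟩ = ⟨c, hcS⟩ * s := Subtype.ext h1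
  have h3 := congrArg ι h2
  rw [map_mul, map_mul] at h3
  exact h3

end Main

/-- A fusion system over a finite p-group that has a model (a finite group realizing it on a Sylow p-subgroup with self-centralizing largest normal p-subgroup) is constrained. -/
theorem result {Ω : Type*} [Group Ω] {S : Subgroup Ω} [Finite S] (p : ℕ) [Fact p.Prime] (hS : IsPGroup p S) (F : Cfsg.FusionSystem S) {G : Type*} [Group G] (ι : S →* G) (hG : F.IsModel p G ι) : F.IsConstrained p := by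
  obtain ⟨hfin, hreal, ⟨T, hT⟩, hcent⟩ := hG
  have hsat : F.IsSaturated p := by
    have hsatG : (groupFusionSystem ι.range).IsSaturated p :=
      hT ▸ Cfsg.Agent.Lib.H26.groupFusionSystem_isSaturated T
    have hpT : IsPGroup p ι.range := hT ▸ T.isPGroup'
    exact Cfsg.Agent.S5133.result p hpT (groupFusionSystem ι.range) hsatG F (back ι hreal.1)
      (isSurjectiveMorphism_back F ι hreal)
  have hO : pCore p G ≤ ι.range := by
    rw [← hT]
    exact (pCore_isPGroup p G).le_sylow_of_normal T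
  exact ⟨hsat, preimageAlong ι (pCore p G), isNormal_pre hreal _ hO,
    isCentric_pre hreal _ hO hcent⟩

end Cfsg.Agent.S5103
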