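import Cfsg.Statements.S5145
import Cfsg.Agent.Lib.H25.Fusion

set_option autoImplicit false
open Cfsg

namespace Cfsg.Agent.S5145

open Cfsg.FusionSystem Cfsg.Agent.Lib.H25

variable {Ω : Type*} [Group Ω] {S : Subgroup Ω}

theorem bot_normal (F : FusionSystem S) : F.IsNormal (⊥ : Subgroup Ω) := by
  refine ⟨bot_le, fun P φ hφ => ?_⟩
  have h : P = P ⊔ ⊥ := (sup_bot_eq P).symm
  refine ⟨_, hom_cast F h hφ, fun x => ?_, ?_⟩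
  · show φ _ = φ x
    congr 1
  · ext y
    constructor
    · rintro ⟨x, hx, rfl⟩
      have hx1 : (x : Ω) = 1 := Subgroup.mem_bot.1 (Subgroup.mem_subgroupOf.1 hx)
      have hx2 : x = 1 := Subtype.ext hx1
      rw [hx2, map_one]
      exact Subgroup.one_mem _
    · intro hy
      rw [Subgroup.mem_bot] at hy
      subst hy
      exact Subgroup.one_mem _

theorem sup_normal (F : FusionSystem S) {Q₁ Q₂ : Subgroup Ω} (h₁ : F.IsNormal Q₁)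
    (h₂ : F.IsNormal Q₂) : F.IsNormal (Q₁ ⊔ Q₂) := by
  refine ⟨sup_le h₁.1 h₂.1, fun P φ hφ => ?_⟩
  obtain ⟨ψ₁, hψ₁, hψ₁φ, hψ₁Q⟩ := h₁.2 P φ hφ
  obtain ⟨ψ₂, hψ₂, hψ₂ψ₁, hψ₂Q⟩ := h₂.2 (P ⊔ Q₁) ψ₁ hψ₁
  have h : (P ⊔ Q₁) ⊔ Q₂ = P ⊔ (Q₁ ⊔ Q₂) := sup_assoc _ _ _
  refine ⟨_, hom_cast F h hψ₂, fun x => ?_, ?_⟩
  · rw [← hψ₁φ x, ← hψ₂ψ₁]
    show ψ₂ _ = ψ₂ _
    congr 1
  · -- images of Q₁ and Q₂
    have hQ₁ : ∀ (x : Ω) (hx : x ∈ Q₁) (hx' : x ∈ (P ⊔ Q₁) ⊔ Q₂), ψ₂ ⟨x, hx'⟩ ∈ Q₁ := by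
      intro x hx hx'
      have e : (⟨x, hx'⟩ : ↥((P ⊔ Q₁) ⊔ Q₂)) =
          Subgroup.inclusion le_sup_left (⟨x, (le_sup_right : Q₁ ≤ P ⊔ Q₁) hx⟩ : ↥(P ⊔ Q₁)) := rfl
      rw [e, hψ₂ψ₁]
      have : ψ₁ ⟨x, (le_sup_right : Q₁ ≤ P ⊔ Q₁) hx⟩ ∈ (Q₁.subgroupOf (P ⊔ Q₁)).map ψ₁ :=
        ⟨_, Subgroup.mem_subgroupOf.2 hx, rfl⟩
      rwa [hψ₁Q] at this
    have hQ₂ : ∀ (x : Ω) (hx : x ∈ Q₂) (hx' : x ∈ (P ⊔ Q₁) ⊔ Q₂), ψ₂ ⟨x, hx'⟩ ∈ Q₂ := by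
      intro x hx hx'
      have : ψ₂ ⟨x, hx'⟩ ∈ (Q₂.subgroupOf ((P ⊔ Q₁) ⊔ Q₂)).map ψ₂ :=
        ⟨_, Subgroup.mem_subgroupOf.2 hx, rfl⟩
      rwa [hψ₂Q] at this
    apply le_antisymm
    · rintro _ ⟨x, hx, rfl⟩
      have hx' : (x : Ω) ∈ Q₁ ⊔ Q₂ := Subgroup.mem_subgroupOf.1 hx
      show ψ₂ ⟨(x : Ω), _⟩ ∈ Q₁ ⊔ Q₂
      have hK : Q₁ ⊔ Q₂ ≤ ((Q₁ ⊔ Q₂).comap ψ₂).map (Subgroup.subtype _) := by
        apply sup_le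
        · intro a ha
          have ha' : a ∈ (P ⊔ Q₁) ⊔ Q₂ := h ▸ (le_sup_right : Q₁ ⊔ Q₂ ≤ P ⊔ (Q₁ ⊔ Q₂)) ((le_sup_left : Q₁ ≤ Q₁ ⊔ Q₂) ha)
          exact ⟨⟨a, ha'⟩, (le_sup_left : Q₁ ≤ Q₁ ⊔ Q₂) (hQ₁ a ha ha'), rfl⟩
        · intro a ha
          have ha' : a ∈ (P ⊔ Q₁) ⊔ Q₂ := h ▸ (le_sup_right : Q₁ ⊔ Q₂ ≤ P ⊔ (Q₁ ⊔ Q₂)) ((le_sup_right : Q₂ ≤ Q₁ ⊔ Q₂) ha)
          exact ⟨⟨a, ha'⟩, (le_sup_right : Q₂ ≤ Q₁ ⊔ Q₂) (hQ₂ a ha ha'), rfl⟩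
      obtain ⟨z, hz, hzx⟩ := hK hx'
      have hx2 : (x : Ω) ∈ (P ⊔ Q₁) ⊔ Q₂ := by rw [h]; exact x.2
      have e : z = ⟨(x : Ω), hx2⟩ := Subtype.ext hzx
      rw [e] at hz
      exact hz
    · -- surjectivity onto Q₁ ⊔ Q₂
      apply sup_le
      · intro y hy
        have : y ∈ (Q₁.subgroupOf (P ⊔ Q₁)).map ψ₁ := by rw [hψ₁Q]; exact hy
        obtain ⟨x, hx, rfl⟩ := this
        have hx1 : (x : Ω) ∈ Q₁ := Subgroup.mem_subgroupOf.1 hx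
        refine ⟨⟨x, (le_sup_right : Q₁ ⊔ Q₂ ≤ P ⊔ (Q₁ ⊔ Q₂)) ((le_sup_left : Q₁ ≤ Q₁ ⊔ Q₂) hx1)⟩,
          Subgroup.mem_subgroupOf.2 ((le_sup_left : Q₁ ≤ Q₁ ⊔ Q₂) hx1), ?_⟩
        rw [← hψ₂ψ₁]
        show ψ₂ _ = ψ₂ _
        congr 1
      · intro y hy
        have : y ∈ (Q₂.subgroupOf ((P ⊔ Q₁) ⊔ Q₂)).map ψ₂ := by rw [hψ₂Q]; exact hy
        obtain ⟨x, hx, rfl⟩ := this
        have hx1 : (x : Ω) ∈ Q₂ := Subgroup.mem_subgroupOf.1 hx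
        refine ⟨⟨x, (le_sup_right : Q₁ ⊔ Q₂ ≤ P ⊔ (Q₁ ⊔ Q₂)) ((le_sup_right : Q₂ ≤ Q₁ ⊔ Q₂) hx1)⟩,
          Subgroup.mem_subgroupOf.2 ((le_sup_right : Q₂ ≤ Q₁ ⊔ Q₂) hx1), ?_⟩
        show ψ₂ _ = ψ₂ _
        congr 1

theorem finite_subgroups_le (S : Subgroup Ω) [Finite S] : {Q : Subgroup Ω | Q ≤ S}.Finite := by
  have : Finite (Subgroup S) := inferInstance
  apply Set.Finite.of_finite_image (f := fun Q : Subgroup Ω => Q.subgroupOf S)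
  · exact Set.toFinite _
  · intro Q₁ h₁ Q₂ h₂ h
    have h' : Q₁.subgroupOf S = Q₂.subgroupOf S := h
    rw [Subgroup.subgroupOf_inj] at h'
    rwa [inf_eq_left.2 h₁, inf_eq_left.2 h₂] at h'

/-- For a fusion system over a finite subgroup S, the join of all subgroups normal in the system is itself normal in the system, hence its largest normal subgroup. -/
theorem result {Ω : Type*} [Group Ω] {S : Subgroup Ω} [Finite S] (F : Cfsg.FusionSystem S) : F.IsNormal F.core := by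
  have hfin : {Q : Subgroup Ω | F.IsNormal Q}.Finite :=
    (finite_subgroups_le S).subset (fun Q hQ => hQ.1)
  have key : ∀ T : Set (Subgroup Ω), T.Finite → T ⊆ {Q | F.IsNormal Q} → F.IsNormal (sSup T) := by
    intro T hT
    induction T, hT using Set.Finite.induction_on with
    | empty => intro _; rw [sSup_empty]; exact bot_normal F
    | insert ha hT ih =>
      intro hsub
      rw [sSup_insert]
      exact sup_normal F (hsub (Set.mem_insert _ _)) (ih (fun Q hQ => hsub (Set.mem_insert_of_mem _ hQ)))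
  exact key _ hfin (fun Q hQ => hQ)

end Cfsg.Agent.S5145
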