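import Cfsg.Statements.S3761
import Cfsg.Agent.Lib.H9.CyclicSelfCent
-- import your own Cfsg.Agent.* helpers here

set_option autoImplicit false
open Cfsg

namespace Cfsg.Agent.S3761

open Cfsg.Agent.Lib Cfsg.Agent.Lib.H9

theorem powerClosure_zpowers {G : Type*} [Group G] (p : ℕ) (u : G) :
    Cfsg.powerClosure p 1 (Subgroup.zpowers u) = Subgroup.zpowers (u ^ p) := by
  unfold Cfsg.powerClosure
  apply le_antisymm
  · rw [Subgroup.closure_le]
    rintro _ ⟨x, hx, rfl⟩
    obtain ⟨i, rfl⟩ := Subgroup.mem_zpowers_iff.mp hx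
    rw [pow_one, SetLike.mem_coe, ← zpow_natCast (u ^ i), ← zpow_mul, mul_comm, zpow_mul,
      zpow_natCast]
    exact Subgroup.zpow_mem _ (Subgroup.mem_zpowers _) i
  · rw [Subgroup.zpowers_le]
    apply Subgroup.subset_closure
    exact ⟨u, Subgroup.mem_zpowers u, by rw [pow_one]⟩

/-- the second alternative, from a subgroup `W` of elements of order dividing `p` of `M`. -/
theorem second_alt {G : Type*} [Group G] [Finite G] {p : ℕ} [Fact p.Prime] {u : G} {n : ℕ}
    (h : CSC p G u n) {x : G} (hxM : x * u ^ p = u ^ p * x) (hxU : x ∉ Subgroup.zpowers u)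
    (W : Subgroup G) (hW : ∀ g, g ∈ W ↔ (g * u ^ p = u ^ p * g ∧ g ^ p = 1))
    (hcard : Nat.card W = p ^ 2) :
    (Subgroup.zpowers u).relIndex
        (Subgroup.centralizer (Cfsg.powerClosure p 1 (Subgroup.zpowers u) : Set G)) = p ∧
      Cfsg.IsElementaryAbelian p (Cfsg.omegaOne p
        (Subgroup.centralizer (Cfsg.powerClosure p 1 (Subgroup.zpowers u) : Set G))) ∧
      Nat.card ↥(Cfsg.omegaOne p
        (Subgroup.centralizer (Cfsg.powerClosure p 1 (Subgroup.zpowers u) : Set G))) = p ^ 2 ∧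
      (Cfsg.omegaOne p
        (Subgroup.centralizer (Cfsg.powerClosure p 1 (Subgroup.zpowers u) : Set G))).Characteristic := by
  rw [powerClosure_zpowers]
  have hom : Cfsg.omegaOne p (Subgroup.centralizer (Subgroup.zpowers (u ^ p) : Set G)) = W := by
    unfold Cfsg.omegaOne
    have : {x : G | x ∈ Subgroup.centralizer (Subgroup.zpowers (u ^ p) : Set G) ∧ x ^ p = 1} =
        (W : Set G) := by
      ext g
      rw [Set.mem_ofPred_eq, SetLike.mem_coe, hW, CSC.mem_M_iff]
    rw [this, Subgroup.closure_eq]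
  rw [hom]
  refine ⟨h.relIndex_eq hxM hxU, ⟨?_, fun a ha => ((hW a).mp ha).2⟩, hcard,
    h.characteristic_of_omega W hW⟩
  exact IsPGroup.isMulCommutative_of_card_eq_prime_sq hcard

/-- the first alternative from maximal class data -/
theorem first_alt {G : Type*} [Group G] [Finite G] {m : ℕ} {a y : G}
    (hD : H22.MaxClassData G m a y) :
    Nat.card G = 2 ^ (m + 2 + 1) ∧ ((∃ k : ℕ, Nonempty (G ≃* DihedralGroup k)) ∨
      (∃ k : ℕ, Nonempty (G ≃* QuaternionGroup k)) ∨ Cfsg.IsQuasiDihedral G) := by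
  refine ⟨hD.card_eq, ?_⟩
  rcases hD.conj with hc | ⟨hm1, hc⟩
  · rcases hD.sq with hs | hs
    · left
      exact ⟨2 ^ (m + 2), hD.equiv_dihedral hc hs⟩
    · right; left
      exact ⟨2 ^ (m + 1), hD.equiv_quaternion hc hs⟩
  · right; right
    obtain ⟨b, hb2, -, hbc⟩ := hD.exists_semidihedral hc
    exact ⟨m + 2, by omega, hD.card_eq, a, b, hD.orderOf_a, hb2, hbc⟩



/-- Let G be a finite non-abelian p-group with a cyclic normal subgroup U of order p^n such that C_G(U) = U. Then either p = 2 and G is dihedral, generalized quaternion or semidihedral of order 2^(n+1); or, writing U₁ for the subgroup generated by the p-th powers of elements of U and M = C_G(U₁), the subgroup U has index p in M and the subgroup Ω₁(M) generated by the elements of M of order dividing p is elementary abelian of order p² and characteristic in G. -/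
theorem result {G : Type*} [Group G] [Finite G] {p : ℕ} [Fact p.Prime] (hG : IsPGroup p G) (hna : ¬ IsMulCommutative G) (U : Subgroup G) [U.Normal] (hU : IsCyclic U) (n : ℕ) (hUn : Nat.card U = p ^ n) (hC : Subgroup.centralizer (U : Set G) = U) : (p = 2 ∧ Nat.card G = 2 ^ (n + 1) ∧ ((∃ m : ℕ, Nonempty (G ≃* DihedralGroup m)) ∨ (∃ m : ℕ, Nonempty (G ≃* QuaternionGroup m)) ∨ Cfsg.IsQuasiDihedral G)) ∨ (U.relIndex (Subgroup.centralizer (Cfsg.powerClosure p 1 U : Set G)) = p ∧ Cfsg.IsElementaryAbelian p (Cfsg.omegaOne p (Subgroup.centralizer (Cfsg.powerClosure p 1 U : Set G))) ∧ Nat.card ↥(Cfsg.omegaOne p (Subgroup.centralizer (Cfsg.powerClosure p 1 U : Set G))) = p ^ 2 ∧ (Cfsg.omegaOne p (Subgroup.centralizer (Cfsg.powerClosure p 1 U : Set G))).Characteristic) := by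
  have hUnorm : U.Normal := inferInstance
  obtain ⟨u, rfl⟩ := (Subgroup.isCyclic_iff_exists_zpowers_eq_top U).mp hU
  rw [Nat.card_zpowers] at hUn
  have hne : Subgroup.zpowers u ≠ ⊤ := by
    intro htop
    apply hna
    have : IsCyclic G := isCyclic_iff_exists_zpowers_eq_top.mpr ⟨u, htop⟩
    exact ⟨⟨fun a b => (IsCyclic.commGroup (α := G)).mul_comm a b⟩⟩
  have h : CSC p G u n := ⟨hG, hUn, hUnorm, hC, hne⟩
  by_cases hp2 : p = 2
  · subst hp2
    have hcases : (∀ x : G, x * u ^ (2 ^ (n - 2)) = u ^ (2 ^ (n - 2)) * x → x ∈ Subgroup.zpowers u) ∨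
        (3 ≤ n ∧ ∃ x : G, x * u ^ 2 = u ^ 2 * x ∧ x ∉ Subgroup.zpowers u) := by
      by_cases hM : ∀ x : G, x * u ^ 2 = u ^ 2 * x → x ∈ Subgroup.zpowers u
      · exact Or.inl (h.key_of_M_eq hM)
      · push Not at hM
        by_cases hn3 : 3 ≤ n
        · exact Or.inr ⟨hn3, hM⟩
        · left
          have hn2 : n = 2 := by have := h.two_le; omega
          subst hn2
          intro x hx
          apply h.mem_of_comm
          simpa using hx
    rcases hcases with key | ⟨hn3, x, hxM, hxU⟩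
    · left
      obtain ⟨m, a, y, rfl, hD⟩ := h.exists_maxClassData key
      exact ⟨rfl, first_alt hD⟩
    · right
      obtain ⟨W, hW, hcard⟩ := h.exists_omega_of_two hn3 hxM hxU
      exact second_alt h hxM hxU W hW hcard
  · right
    obtain ⟨x, hxM, hxU⟩ := h.exists_mem_M_of_odd hp2
    obtain ⟨W, hW, hcard⟩ := h.exists_omega_of_odd hp2
    exact second_alt h hxM hxU W hW hcard


end Cfsg.Agent.S3761
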