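import Cfsg.Statements.S0127
import Cfsg.Agent.Lib.H22.CyclicIndexP

set_option autoImplicit false
open Cfsg

namespace Cfsg.Agent.S0127

open Cfsg.Agent.Lib.H22

/-- For odd p, in a non-cyclic p-group with a cyclic subgroup of index p, the elements of order dividing p generate an elementary abelian subgroup of order p^2. -/
theorem result {R : Type*} [Group R] [Finite R] {p : ℕ} [Fact p.Prime] (hp : p ≠ 2) (hR : IsPGroup p R) (hnc : ¬ IsCyclic R) (C : Subgroup R) (hC : IsCyclic C) (hCi : C.index = p) : Cfsg.IsElementaryAbelian p (Subgroup.closure {x : R | x ^ p = 1}) ∧ Nat.card (Subgroup.closure {x : R | x ^ p = 1}) = p ^ 2 := by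
  have hcard := card_ker_powHomOfCyclicIndexP hp hR hnc C hC hCi
  have hKmem : ∀ x : R, x ∈ (powHomOfCyclicIndexP hp hR C hC hCi).ker ↔ x ^ p = 1 := by
    intro x
    rw [MonoidHom.mem_ker, powHomOfCyclicIndexP_apply]
  have heq : Subgroup.closure {x : R | x ^ p = 1} = (powHomOfCyclicIndexP hp hR C hC hCi).ker := by
    apply le_antisymm
    · rw [Subgroup.closure_le]
      intro x hx
      exact (hKmem x).mpr hx
    · intro x hx
      exact Subgroup.subset_closure ((hKmem x).mp hx)
  rw [heq]
  refine ⟨⟨?_, ?_⟩, hcard⟩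
  · exact IsPGroup.isMulCommutative_of_card_eq_prime_sq hcard
  · intro a ha
    exact (hKmem a).mp ha

end Cfsg.Agent.S0127
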