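import Cfsg.Statements.S3683
import Mathlib

set_option autoImplicit false
open Cfsg

namespace Cfsg.Agent.S3683

open MulAction in
open scoped Pointwise in
/-- Let a finite group G act faithfully and primitively on a set Ω, and suppose the stabilizer of a point a fixes a second point b ≠ a (a suborbit of length 1 other than {a}). Then the stabilizer of a is trivial and G is cyclic of prime order. -/
theorem result {G Ω : Type*} [Group G] [Finite G] [MulAction G Ω] [FaithfulSMul G Ω] [Finite Ω]
    (hprim : MulAction.IsPreprimitive G Ω) (a b : Ω) (hab : a ≠ b) (hfix : ∀ g : G, g • a = a → g • b = b) :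
    MulAction.stabilizer G a = ⊥ ∧ IsCyclic G ∧ (Nat.card G).Prime := by
  classical
  haveI : Nontrivial Ω := ⟨a, b, hab⟩
  have hco : IsCoatom (stabilizer G a) := IsPreprimitive.isCoatom_stabilizer_of_isPreprimitive G a
  have hcob : IsCoatom (stabilizer G b) := IsPreprimitive.isCoatom_stabilizer_of_isPreprimitive G b
  have hle : stabilizer G a ≤ stabilizer G b := fun g hg => hfix g hg
  have heq : stabilizer G b = stabilizer G a := (hco.le_iff_eq hcob.1).mp hle
  -- an element moving a to b
  obtain ⟨x, hx⟩ := MulAction.exists_smul_eq G a b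
  have hxa : x ∉ stabilizer G a := by
    intro h
    rw [mem_stabilizer_iff] at h
    exact hab (h.symm.trans hx)
  have hconj : stabilizer G b = MulAut.conj x • stabilizer G a := by
    rw [← hx]; exact stabilizer_smul_eq_stabilizer_map_conj x a
  have hxn : x ∈ Subgroup.normalizer ((stabilizer G a : Subgroup G) : Set G) := by
    rw [Subgroup.mem_normalizer_iff]
    intro h
    have h1 : ∀ g, g ∈ stabilizer G a ↔ g ∈ MulAut.conj x • stabilizer G a := by
      intro g; rw [← hconj, heq]
    rw [h1 (x * h * x⁻¹)]
    rw [Subgroup.mem_pointwise_smul_iff_inv_smul_mem]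
    simp [MulAut.smul_def, MulAut.conj_inv_apply, mul_assoc]
  have hnorm_top : Subgroup.normalizer ((stabilizer G a : Subgroup G) : Set G) = ⊤ := by
    apply hco.2
    apply lt_of_le_of_ne Subgroup.le_normalizer
    intro h
    apply hxa
    rw [h]; exact hxn
  have hnormal : (stabilizer G a).Normal := Subgroup.normalizer_eq_top_iff.mp hnorm_top
  -- the stabilizer is trivial
  have hbot : stabilizer G a = ⊥ := by
    rw [Subgroup.eq_bot_iff_forall]
    intro g hg
    apply FaithfulSMul.eq_of_smul_eq_smul (α := Ω)
    intro ω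
    obtain ⟨z, rfl⟩ := MulAction.exists_smul_eq G a ω
    have h1 : z⁻¹ * g * z ∈ stabilizer G a := by
      have := hnormal.conj_mem g hg z⁻¹
      simpa using this
    rw [mem_stabilizer_iff] at h1
    rw [one_smul]
    calc g • z • a = z • ((z⁻¹ * g * z) • a) := by simp [mul_smul]
      _ = z • a := by rw [h1]
  refine ⟨hbot, ?_⟩
  rw [hbot] at hco
  -- now ⊥ is a coatom of the subgroup lattice
  have hcard : Nat.card G ≠ 1 := by
    intro h
    have : (⊥ : Subgroup G) = ⊤ := by
      have hs : Subsingleton G := (Nat.card_eq_one_iff_unique.mp h).1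
      exact Subsingleton.elim _ _
    exact hco.1 this
  obtain ⟨p, hp, hpdvd⟩ := Nat.exists_prime_and_dvd hcard
  have : Fact p.Prime := ⟨hp⟩
  obtain ⟨y, hy⟩ := exists_prime_orderOf_dvd_card' p hpdvd
  have hy1 : y ≠ 1 := by
    intro h; rw [h, orderOf_one] at hy; exact hp.one_lt.ne hy
  have hztop : Subgroup.zpowers y = ⊤ := by
    apply hco.2
    apply lt_of_le_of_ne bot_le
    intro h
    apply hy1
    have : y ∈ Subgroup.zpowers y := Subgroup.mem_zpowers y
    rw [← h] at this
    exact Subgroup.mem_bot.mp this
  refine ⟨isCyclic_iff_exists_zpowers_eq_top.mpr ⟨y, hztop⟩, ?_⟩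
  have : Nat.card G = p := by
    rw [← Subgroup.card_top (G := G), ← hztop, Nat.card_zpowers, hy]
  rw [this]; exact hp

end Cfsg.Agent.S3683
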