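import Cfsg.Statements.S3684
import Mathlib
import Cfsg.Agent.S0069
import Cfsg.Agent.Lib.H6.TwoRes2
import Cfsg.Agent.Lib.H7.DihedralLemma

set_option autoImplicit false
set_option linter.style.haveILetI false
open Cfsg

namespace Cfsg.Agent.S3684

open MulAction in
/-- a normal subgroup contained in a point stabilizer of a transitive faithful action is trivial -/
theorem eq_bot_of_normal_le_stabilizer {G Ω : Type*} [Group G] [MulAction G Ω] [FaithfulSMul G Ω]
    [IsPretransitive G Ω] (a : Ω) (K : Subgroup G) [hK : K.Normal] (hKa : K ≤ stabilizer G a) :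
    K = ⊥ := by
  rw [eq_bot_iff]
  intro k hk
  rw [Subgroup.mem_bot]
  apply FaithfulSMul.eq_of_smul_eq_smul (α := Ω)
  intro x
  obtain ⟨g, rfl⟩ := exists_smul_eq G a x
  have h1 : g⁻¹ * k * g ∈ K := by
    have := hK.conj_mem k hk g⁻¹
    simpa using this
  have h2 : (g⁻¹ * k * g) • a = a := hKa h1
  rw [one_smul]
  calc k • g • a = g • ((g⁻¹ * k * g) • a) := by simp [mul_smul]
    _ = g • a := by rw [h2]

open MulAction in
/-- first part: the stabilizer has order two -/
theorem card_stabilizer {G Ω : Type*} [Group G] [Finite G] [MulAction G Ω] [FaithfulSMul G Ω]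
    [Finite Ω] (hprim : IsPreprimitive G Ω) (a b : Ω)
    (h2 : Nat.card (orbit (stabilizer G a) b) = 2) :
    Nat.card (stabilizer G a) = 2 := by
  haveI := hprim
  haveI : IsPretransitive G Ω := hprim.toIsPretransitive
  set H := stabilizer G a with hH
  set Hb := stabilizer G b with hHb
  -- Ω is nontrivial
  haveI : Nontrivial Ω := by
    by_contra hnt
    rw [not_nontrivial_iff_subsingleton] at hnt
    have : Nat.card (orbit H b) ≤ 1 := by
      haveI : Subsingleton (orbit H b) := inferInstance
      exact Finite.card_le_one_iff_subsingleton.2 inferInstance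
    omega
  have hstab : stabilizer H b = Hb.subgroupOf H := by
    ext x
    rw [mem_stabilizer_iff, Subgroup.mem_subgroupOf, hHb, mem_stabilizer_iff]
    rfl
  have hrel1 : Hb.relIndex H = 2 := by
    rw [Subgroup.relIndex, ← hstab, index_stabilizer, ← Nat.card_coe_set_eq]
    exact h2
  have hidx : H.index = Hb.index := by
    rw [hH, hHb, index_stabilizer_of_transitive, index_stabilizer_of_transitive]
  have hidx0 : H.index ≠ 0 := Subgroup.index_ne_zero_of_finite
  have hrel2 : H.relIndex Hb = 2 := by
    have e1 : (H ⊓ Hb).relIndex H * H.index = (H ⊓ Hb).index :=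
      Subgroup.relIndex_mul_index inf_le_left
    have e2 : (H ⊓ Hb).relIndex Hb * Hb.index = (H ⊓ Hb).index :=
      Subgroup.relIndex_mul_index inf_le_right
    rw [Subgroup.inf_relIndex_left] at e1
    rw [Subgroup.inf_relIndex_right] at e2
    rw [← hidx, ← e1, hrel1] at e2
    exact Nat.eq_of_mul_eq_mul_right (Nat.pos_of_ne_zero hidx0) e2
  -- normality
  have hn1 : H ≤ Subgroup.normalizer ((H ⊓ Hb : Subgroup G) : Set G) := by
    have : (Hb.subgroupOf H).Normal := Subgroup.normal_of_index_eq_two hrel1
    have h := Subgroup.normal_subgroupOf_iff_le_normalizer_inf.1 this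
    rwa [inf_comm] at h
  have hn2 : Hb ≤ Subgroup.normalizer ((H ⊓ Hb : Subgroup G) : Set G) := by
    have : (H.subgroupOf Hb).Normal := Subgroup.normal_of_index_eq_two hrel2
    exact Subgroup.normal_subgroupOf_iff_le_normalizer_inf.1 this
  have hco : IsCoatom H := IsPreprimitive.isCoatom_stabilizer_of_isPreprimitive (G := G) a
  have hne : ¬ Hb ≤ H := by
    intro hle
    have : Hb.relIndex H = 1 := by
      have := Subgroup.relIndex_mul_index hle
      rw [hidx] at this
      have h3 : Hb.relIndex H * Hb.index = 1 * Hb.index := by rw [this, one_mul]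
      exact Nat.eq_of_mul_eq_mul_right (Nat.pos_of_ne_zero (hidx ▸ hidx0)) h3
    omega
  have htop : Subgroup.normalizer ((H ⊓ Hb : Subgroup G) : Set G) = ⊤ := by
    by_contra hnt
    have h1 : H = Subgroup.normalizer ((H ⊓ Hb : Subgroup G) : Set G) := by
      by_contra hne'
      exact hnt (hco.2 _ (lt_of_le_of_ne hn1 hne'))
    exact hne (h1 ▸ hn2)
  haveI : (H ⊓ Hb).Normal := Subgroup.normalizer_eq_top_iff.1 htop
  have hbot : H ⊓ Hb = ⊥ := eq_bot_of_normal_le_stabilizer a _ inf_le_left
  have : Hb.relIndex H * Nat.card (Hb.subgroupOf H) = Nat.card H := by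
    rw [Subgroup.relIndex, mul_comm]
    exact Subgroup.card_mul_index _
  have hc1 : Nat.card (Hb.subgroupOf H) = 1 := by
    rw [Subgroup.card_eq_one, Subgroup.subgroupOf_eq_bot, disjoint_iff, inf_comm]
    exact hbot
  rw [hrel1, hc1] at this
  omega

theorem result {G Ω : Type*} [Group G] [Finite G] [MulAction G Ω] [FaithfulSMul G Ω] [Finite Ω]
    (hprim : MulAction.IsPreprimitive G Ω) (a b : Ω) (h2 : Nat.card (MulAction.orbit (MulAction.stabilizer G a) b) = 2) :
    Nat.card (MulAction.stabilizer G a) = 2 ∧ ∃ p : ℕ, p.Prime ∧ Nonempty (G ≃* DihedralGroup p) := by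
  have hcard := card_stabilizer hprim a b h2
  refine ⟨hcard, ?_⟩
  haveI := hprim
  haveI : MulAction.IsPretransitive G Ω := hprim.toIsPretransitive
  haveI : Fact (Nat.Prime 2) := ⟨Nat.prime_two⟩
  set H := MulAction.stabilizer G a with hH
  haveI : Nontrivial Ω := by
    by_contra hnt
    rw [not_nontrivial_iff_subsingleton] at hnt
    have : Nat.card (MulAction.orbit H b) ≤ 1 := by
      haveI : Subsingleton (MulAction.orbit H b) := inferInstance
      exact Finite.card_le_one_iff_subsingleton.2 inferInstance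
    omega
  have hco : IsCoatom H := MulAction.IsPreprimitive.isCoatom_stabilizer_of_isPreprimitive (G := G) a
  -- H is not normal
  have hHnn : ¬ H.Normal := by
    intro hn
    have := eq_bot_of_normal_le_stabilizer a H le_rfl
    rw [this, Subgroup.card_bot] at hcard
    omega
  -- the involution
  obtain ⟨t, htH, ht1⟩ : ∃ t ∈ H, t ≠ 1 := by
    by_contra hno
    push Not at hno
    have : H = ⊥ := by
      rw [eq_bot_iff]
      intro x hx
      exact hno x hx
    rw [this, Subgroup.card_bot] at hcard
    omega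
  have ht2 : t * t = 1 := by
    have h1 : (⟨t, htH⟩ : H) ^ 2 = 1 := by
      rw [← hcard]; exact pow_card_eq_one'
    have := congrArg Subtype.val h1
    simpa [pow_two] using this
  have hHt : H = Subgroup.zpowers t := by
    symm
    apply Subgroup.eq_of_le_of_card_ge (by rw [Subgroup.zpowers_le]; exact htH)
    rw [hcard, Nat.card_zpowers]
    have : orderOf t ∣ 2 := orderOf_dvd_of_pow_eq_one (by rw [pow_two]; exact ht2)
    rcases (Nat.dvd_prime Nat.prime_two).1 this with h | h
    · exact absurd (orderOf_eq_one_iff.1 h) ht1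
    · omega
  -- 4 does not divide |G|
  have h4 : ¬ 2 ^ (1 + 1) ∣ Nat.card G := by
    intro hdvd
    obtain ⟨S, hS, hHS⟩ := Sylow.exists_subgroup_card_pow_succ hdvd (H := H) (by rw [hcard, pow_one])
    have hSH : H < S := by
      refine lt_of_le_of_ne hHS ?_
      intro h
      rw [← h, hcard] at hS
      omega
    have hStop : S = ⊤ := hco.2 S hSH
    apply hHnn
    apply Subgroup.normal_of_index_eq_two
    have := Subgroup.card_mul_index H
    rw [hcard] at this
    have hG : Nat.card G = 4 := by
      rw [← Subgroup.card_top (G := G), ← hStop, hS]; norm_num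
    omega
  -- H is a Sylow 2-subgroup
  have hHp : IsPGroup 2 H := IsPGroup.of_card (n := 1) (by rw [hcard, pow_one])
  obtain ⟨P, hP⟩ := hHp.exists_le_sylow
  have hPH : (P : Subgroup G) = H := by
    symm
    apply Subgroup.eq_of_le_of_card_ge hP
    rw [hcard]
    obtain ⟨k, hk⟩ := IsPGroup.iff_card.1 P.2
    have hdvd : 2 ^ k ∣ Nat.card G := hk ▸ Subgroup.card_subgroup_dvd_card _
    have hk1 : k ≤ 1 := by
      by_contra hk2
      push Not at hk2
      exact h4 ((pow_dvd_pow 2 (by omega)).trans hdvd)
    rw [hk]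
    calc 2 ^ k ≤ 2 ^ 1 := Nat.pow_le_pow_right (by norm_num) hk1
      _ = 2 := by norm_num
  have hcyc : IsCyclic (P : Subgroup G) := by
    rw [hPH, hHt]
    infer_instance
  have hNC := Cfsg.Agent.Lib.H6.TwoRes.normalizer_le_centralizer_of_cyclic_sylow P hcyc
  set N := (MonoidHom.transferSylow P hNC).ker with hN
  have hcompl : Subgroup.IsComplement' N P := MonoidHom.ker_transferSylow_isComplement' P hNC
  have hNodd : ¬ 2 ∣ Nat.card N := MonoidHom.not_dvd_card_ker_transferSylow P hNC
  have hNH : N ⊓ H = ⊥ := by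
    rw [← hPH]
    exact hcompl.disjoint.eq_bot
  have hcardG : Nat.card N * Nat.card H = Nat.card G := by
    rw [← hPH]; exact hcompl.card_mul
  -- centralizer of t in N is trivial
  have htinv : t⁻¹ = t := inv_eq_of_mul_eq_one_left ht2
  have hC : N ⊓ Subgroup.centralizer {t} = ⊥ := by
    set C := N ⊓ Subgroup.centralizer {t} with hCdef
    by_contra hCne
    have hlt : H < H ⊔ C := by
      refine lt_of_le_of_ne le_sup_left ?_
      intro h
      have hCH : C ≤ H := h ▸ le_sup_right
      apply hCne
      rw [eq_bot_iff, ← hNH]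
      exact le_inf inf_le_left hCH
    have htop : H ⊔ C = ⊤ := hco.2 _ hlt
    -- then t is central
    have hcen : ∀ g : G, g * t = t * g := by
      intro g
      have hg : g ∈ H ⊔ C := htop ▸ Subgroup.mem_top g
      have hle : H ⊔ C ≤ Subgroup.centralizer {t} := by
        apply sup_le
        · rw [hHt, Subgroup.zpowers_le]
          rw [Subgroup.mem_centralizer_iff]
          intro x hx
          rw [Set.mem_singleton_iff] at hx
          rw [hx]
        · exact inf_le_right
      have := Subgroup.mem_centralizer_iff.1 (hle hg) t rfl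
      exact this.symm
    apply hHnn
    rw [hHt]
    refine ⟨fun x hx g => ?_⟩
    obtain ⟨k, rfl⟩ := Subgroup.mem_zpowers_iff.1 hx
    have : g * t ^ k * g⁻¹ = t ^ k := by
      have hc : Commute g t := hcen g
      have := (hc.zpow_right k).eq
      rw [this, mul_inv_cancel_right]
    rw [this]
    exact Subgroup.zpow_mem_zpowers t k
  have hinv := Cfsg.Agent.S0069.involution_inverts N ht2 hC
  -- an element of prime order in N
  have hN1 : Nat.card N ≠ 1 := by
    intro h
    rw [h, one_mul] at hcardG
    have : H = ⊤ := Subgroup.eq_top_of_card_eq H hcardG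
    exact hco.1 this
  obtain ⟨p, hp, hpdvd⟩ := Nat.exists_prime_and_dvd hN1
  haveI : Fact p.Prime := ⟨hp⟩
  obtain ⟨r, hr⟩ := exists_prime_orderOf_dvd_card' p hpdvd
  have hrG : orderOf (r : G) = p := by rw [Subgroup.orderOf_coe]; exact hr
  have hr1 : (r : G) ≠ 1 := by
    intro h
    rw [h, orderOf_one] at hrG
    exact hp.one_lt.ne hrG
  have hpodd : Odd p := by
    rcases hp.eq_two_or_odd' with h | h
    · exact absurd (h ▸ hpdvd) hNodd
    · exact h
  obtain ⟨e⟩ := Cfsg.Agent.Lib.H7.dihedral_of_inverting (b := t) (v := (r : G)) ht2 hr1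
    (hrG ▸ hpodd) (hinv r r.2)
  have htop : Subgroup.zpowers t ⊔ Subgroup.zpowers (r : G) = ⊤ := by
    apply hco.2
    rw [hHt]
    refine lt_of_le_of_ne le_sup_left ?_
    intro h
    have hrH : (r : G) ∈ H := by
      rw [hHt, h]
      exact le_sup_right (a := Subgroup.zpowers t) (Subgroup.mem_zpowers (r : G))
    have : (r : G) ∈ N ⊓ H := ⟨r.2, hrH⟩
    rw [hNH, Subgroup.mem_bot] at this
    exact hr1 this
  refine ⟨p, hp, ⟨?_⟩⟩
  rw [hrG] at e
  exact (Subgroup.topEquiv.symm.trans (MulEquiv.subgroupCongr htop.symm)).trans e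

end Cfsg.Agent.S3684
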