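import Cfsg.Statements.S5124
import Cfsg.Agent.Lib.H25.Hyperfocal

set_option autoImplicit false
open Cfsg

namespace Cfsg.Agent.S5124

open Cfsg.FusionSystem Cfsg.Agent.Lib.H25

/-- In a saturated fusion system over a finite p-group S the hyperfocal subgroup is strongly closed in the system. -/
theorem result {Ω : Type*} [Group Ω] {S : Subgroup Ω} [Finite S] (p : ℕ) [Fact p.Prime] (hS : IsPGroup p S) (F : Cfsg.FusionSystem S) (hF : F.IsSaturated p) : F.StronglyClosed (F.hyperfocalSubgroup p) := by
  apply stronglyClosed_of_essential hS hF (hyperfocal_le F p)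
  intro T hT α hα x hx
  have hTS : T ≤ S := le_of_eq_or_essential hT
  have hfa := (fullyNormalized_props hS hF (isFullyNormalized_of_eq_or_essential hT)).2
  obtain ⟨g, hgN, u, hu, hαu⟩ := exists_conj_mul_pResidual hfa ⟨α, hα⟩
  have h1 := hαu x
  simp only at h1
  rw [h1]
  apply hyperfocal_conj_mem F p hgN.1
  have h2 := mem_hyperfocal_gen F p hTS u hu x
  have h3 : (((u : MulAut T) x : T) : Ω) = (x : Ω) * ((x : Ω)⁻¹ * (((u : MulAut T) x : T) : Ω)) := by
    group
  rw [h3]
  exact Subgroup.mul_mem _ hx h2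

end Cfsg.Agent.S5124
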