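import Cfsg.Statements.S2562

set_option autoImplicit false
open Cfsg

namespace Cfsg.Agent.S2562

open Module

section
variable {F : Type*} [Field F]

theorem dot_orth_finrank (k : ℕ) (P R : Submodule F (Fin k → F)) (h : ∀ p ∈ P, ∀ r ∈ R, p ⬝ᵥ r = 0) :
    finrank F P + finrank F R ≤ k := by
  classical
  set B : LinearMap.BilinForm F (Fin k → F) := Matrix.toBilin' (1 : Matrix (Fin k) (Fin k) F) with hB
  have hnd : B.Nondegenerate := LinearMap.BilinForm.nondegenerate_toBilin'_of_det_ne_zero' 1 (by simp)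
  have hle : R ≤ B.orthogonal P := by
    intro r hr
    rw [LinearMap.BilinForm.mem_orthogonal_iff]
    intro p hp
    show B p r = 0
    rw [hB, Matrix.toBilin'_apply', Matrix.one_mulVec]
    exact h p hp r hr
  have h1 := Submodule.finrank_mono hle
  have h2 := LinearMap.BilinForm.finrank_orthogonal hnd P
  have h3 : finrank F (Fin k → F) = k := by simp
  have h4 := Submodule.finrank_le P
  omega

theorem witt_bound {V Z : Type*} [AddCommGroup V] [Module F V] [FiniteDimensional F V]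
    [AddCommGroup Z] [Module F Z]
    (k : ℕ) (x y : V →ₗ[F] (Fin k → F)) (z : V →ₗ[F] Z) (R : Z → F) (hR : ∀ w, R w = 0 → w = 0)
    (hinj : ∀ v, x v = 0 → y v = 0 → z v = 0 → v = 0)
    (U : Submodule F V) (hU : ∀ u ∈ U, x u ⬝ᵥ y u + R (z u) = 0) : finrank F U ≤ k := by
  set T : U →ₗ[F] (Fin k → F) := y ∘ₗ U.subtype with hT
  set xK : LinearMap.ker T →ₗ[F] (Fin k → F) := x ∘ₗ U.subtype ∘ₗ (LinearMap.ker T).subtype with hxK
  have hyK : ∀ u : LinearMap.ker T, y ((u : U) : V) = 0 := by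
    intro u
    have := u.2
    rw [LinearMap.mem_ker] at this
    exact this
  have hzK : ∀ u : LinearMap.ker T, z ((u : U) : V) = 0 := by
    intro u
    have := hU _ (u : U).2
    rw [hyK u, dotProduct_zero, zero_add] at this
    exact hR _ this
  have hxKinj : Function.Injective xK := by
    rw [← LinearMap.ker_eq_bot, LinearMap.ker_eq_bot']
    intro u hu
    have : ((u : U) : V) = 0 := hinj _ hu (hyK u) (hzK u)
    exact Subtype.ext (Subtype.ext this)
  have h1 : finrank F (LinearMap.range xK) = finrank F (LinearMap.ker T) :=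
    LinearMap.finrank_range_of_inj hxKinj
  have h2 := LinearMap.finrank_range_add_finrank_ker T
  have h3 := dot_orth_finrank k (LinearMap.range xK) (LinearMap.range T) (by
    rintro _ ⟨u0, rfl⟩ _ ⟨u, rfl⟩
    have hy0 := hyK u0
    have hz0 := hzK u0
    have e1 := hU _ ((u0 : U) + u).2
    have e2 := hU _ u.2
    simp only [Submodule.coe_add, map_add, hy0, hz0, zero_add] at e1
    rw [add_dotProduct] at e1
    show x ((u0 : U) : V) ⬝ᵥ y (u : V) = 0
    linear_combination e1 - e2)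
  omega

theorem finrank_ker_funLeft {ι β : Type*} [Fintype ι] [Fintype β] (f : β → ι) (hf : Function.Injective f) :
    finrank F (LinearMap.ker (LinearMap.funLeft F F f)) = Fintype.card ι - Fintype.card β := by
  have h1 := LinearMap.finrank_range_add_finrank_ker (LinearMap.funLeft F F f)
  have h2 : LinearMap.range (LinearMap.funLeft F F f) = ⊤ :=
    LinearMap.range_eq_top.mpr (LinearMap.funLeft_surjective_of_injective F F f hf)
  rw [h2, finrank_top] at h1
  simp only [Module.finrank_fintype_fun_eq_card] at h1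
  omega

end

theorem part1 (m : ℕ) : ∃ U : Submodule (ZMod 2) (Fin m ⊕ Fin m → ZMod 2),
    (∀ u ∈ U, Cfsg.quadFormPlus m (ZMod 2) u = 0) ∧ Module.finrank (ZMod 2) ↥U = m := by
  refine ⟨LinearMap.ker (LinearMap.funLeft (ZMod 2) (ZMod 2) (Sum.inr : Fin m → Fin m ⊕ Fin m)), ?_, ?_⟩
  · intro u hu
    rw [LinearMap.mem_ker] at hu
    unfold quadFormPlus
    apply Finset.sum_eq_zero
    intro i _
    have : u (Sum.inr i) = 0 := congrFun hu i
    rw [this, mul_zero]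
  · rw [finrank_ker_funLeft _ Sum.inr_injective]
    simp

theorem part2 (m : ℕ) : ∀ U : Submodule (ZMod 2) (Fin m ⊕ Fin m → ZMod 2),
    (∀ u ∈ U, Cfsg.quadFormPlus m (ZMod 2) u = 0) → Module.finrank (ZMod 2) ↥U ≤ m := by
  intro U hU
  refine witt_bound (F := ZMod 2) (Z := PUnit.{1}) m
    (LinearMap.funLeft (ZMod 2) (ZMod 2) (Sum.inl : Fin m → Fin m ⊕ Fin m))
    (LinearMap.funLeft (ZMod 2) (ZMod 2) (Sum.inr : Fin m → Fin m ⊕ Fin m))
    0 (fun _ => 0) (fun _ _ => Subsingleton.elim _ _) ?_ U ?_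
  · intro v h1 h2 _
    funext s
    rcases s with i | i
    · exact congrFun h1 i
    · exact congrFun h2 i
  · intro u hu
    have := hU u hu
    rw [add_zero]
    exact this

theorem part3 (k : ℕ) : ∃ U : Submodule (ZMod 2) ((Fin k ⊕ Fin k) ⊕ Fin 2 → ZMod 2),
    (∀ u ∈ U, Cfsg.quadFormMinus k (ZMod 2) 1 1 u = 0) ∧ Module.finrank (ZMod 2) ↥U = k := by
  refine ⟨LinearMap.ker (LinearMap.funLeft (ZMod 2) (ZMod 2)
    (Sum.map Sum.inr id : Fin k ⊕ Fin 2 → (Fin k ⊕ Fin k) ⊕ Fin 2)), ?_, ?_⟩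
  · intro u hu
    rw [LinearMap.mem_ker] at hu
    unfold quadFormMinus
    have h0 : u (Sum.inr 0) = 0 := congrFun hu (Sum.inr 0)
    have h1 : u (Sum.inr 1) = 0 := congrFun hu (Sum.inr 1)
    rw [h0, h1]
    simp only [ne_eq, OfNat.ofNat_ne_zero, not_false_eq_true, zero_pow, mul_zero, add_zero]
    apply Finset.sum_eq_zero
    intro i _
    have : u (Sum.inl (Sum.inr i)) = 0 := congrFun hu (Sum.inl i)
    rw [this, mul_zero]
  · rw [finrank_ker_funLeft]
    · simp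
    · intro a b hab
      rcases a with a | a <;> rcases b with b | b <;> simp [Sum.map] at hab ⊢ <;> exact hab

theorem part4 (k : ℕ) : ∀ U : Submodule (ZMod 2) ((Fin k ⊕ Fin k) ⊕ Fin 2 → ZMod 2),
    (∀ u ∈ U, Cfsg.quadFormMinus k (ZMod 2) 1 1 u = 0) → Module.finrank (ZMod 2) ↥U ≤ k := by
  intro U hU
  refine witt_bound (F := ZMod 2) (Z := Fin 2 → ZMod 2) k
    (LinearMap.funLeft (ZMod 2) (ZMod 2) (fun i : Fin k => (Sum.inl (Sum.inl i) : (Fin k ⊕ Fin k) ⊕ Fin 2)))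
    (LinearMap.funLeft (ZMod 2) (ZMod 2) (fun i : Fin k => (Sum.inl (Sum.inr i) : (Fin k ⊕ Fin k) ⊕ Fin 2)))
    (LinearMap.funLeft (ZMod 2) (ZMod 2) (Sum.inr : Fin 2 → (Fin k ⊕ Fin k) ⊕ Fin 2))
    (fun z => z 0 ^ 2 + 1 * z 0 * z 1 + 1 * z 1 ^ 2) ?_ ?_ U ?_
  · decide
  · intro v h1 h2 h3
    funext s
    rcases s with (i | i) | j
    · exact congrFun h1 i
    · exact congrFun h2 i
    · exact congrFun h3 j
  · intro u hu
    exact hU u hu

theorem result (m : ℕ) (hm : 1 ≤ m) :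
    (∃ U : Submodule (ZMod 2) (Fin m ⊕ Fin m → ZMod 2), (∀ u ∈ U, Cfsg.quadFormPlus m (ZMod 2) u = 0) ∧ Module.finrank (ZMod 2) ↥U = m) ∧
    (∀ U : Submodule (ZMod 2) (Fin m ⊕ Fin m → ZMod 2), (∀ u ∈ U, Cfsg.quadFormPlus m (ZMod 2) u = 0) → Module.finrank (ZMod 2) ↥U ≤ m) ∧
    (∃ U : Submodule (ZMod 2) ((Fin (m - 1) ⊕ Fin (m - 1)) ⊕ Fin 2 → ZMod 2), (∀ u ∈ U, Cfsg.quadFormMinus (m - 1) (ZMod 2) 1 1 u = 0) ∧ Module.finrank (ZMod 2) ↥U = m - 1) ∧
    (∀ U : Submodule (ZMod 2) ((Fin (m - 1) ⊕ Fin (m - 1)) ⊕ Fin 2 → ZMod 2), (∀ u ∈ U, Cfsg.quadFormMinus (m - 1) (ZMod 2) 1 1 u = 0) → Module.finrank (ZMod 2) ↥U ≤ m - 1) :=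
  ⟨part1 m, part2 m, part3 (m - 1), part4 (m - 1)⟩

end Cfsg.Agent.S2562
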