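import Cfsg.Statements.S0675
import Mathlib
import Cfsg.Agent.Lib.H17.PrimeDegree

set_option autoImplicit false
open Cfsg

namespace Cfsg.Agent.S0675

open Equiv Function

section core

variable {p : ℕ}

/-- translation by `c` on `ZMod p` -/
def tr (c : ZMod p) : Perm (ZMod p) := Equiv.addRight c

@[simp] theorem tr_apply (c x : ZMod p) : tr c x = x + c := rfl

theorem tr_mem [hp : Fact p.Prime] (H : Subgroup (Perm (ZMod p))) (hτ : tr (1 : ZMod p) ∈ H)
    (c : ZMod p) : tr c ∈ H := by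
  have h : ∀ n : ℕ, tr ((n : ℕ) : ZMod p) ∈ H := by
    intro n
    induction n with
    | zero =>
      have : tr ((0 : ℕ) : ZMod p) = 1 := by
        ext x; simp
      rw [this]; exact H.one_mem
    | succ n ih =>
      have : tr ((n + 1 : ℕ) : ZMod p) = tr ((n : ℕ) : ZMod p) * tr 1 := by
        ext x; simp [Perm.mul_apply]; ring_nf
      rw [this]; exact H.mul_mem ih hτ
  haveI : NeZero p := ⟨hp.out.ne_zero⟩
  have := h c.val
  rwa [ZMod.natCast_zmod_val] at this

end core

section core2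

variable {p : ℕ}

theorem core_dichotomy [hp : Fact p.Prime] (H : Subgroup (Perm (ZMod p)))
    (hτ : tr (1 : ZMod p) ∈ H) :
    (∀ σ ∈ H, ∃ a c : ZMod p, ∀ x, σ x = a * x + c) ∨
    (∀ d₁ d₂ : ZMod p, d₁ ≠ 0 → d₂ ≠ 0 → ∃ h ∈ H, h 0 = 0 ∧ h d₁ = d₂) := by
  classical
  haveI : NeZero p := ⟨hp.out.ne_zero⟩
  by_cases hT : ∀ d₁ d₂ : ZMod p, d₁ ≠ 0 → d₂ ≠ 0 → ∃ h ∈ H, h 0 = 0 ∧ h d₁ = d₂
  · exact Or.inr hT
  left
  push_neg at hT
  obtain ⟨d₁, d₂, hd₁, hd₂, hno⟩ := hT
  -- orbits
  let Orb : ZMod p → Finset (ZMod p) :=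
    fun d => Finset.univ.filter (fun y => ∃ h ∈ H, h 0 = 0 ∧ h d = y)
  have hOrb : ∀ d y, y ∈ Orb d ↔ ∃ h ∈ H, h 0 = 0 ∧ h d = y := by
    intro d y; simp [Orb]
  have hself : ∀ d, d ∈ Orb d := fun d => (hOrb d d).2 ⟨1, H.one_mem, rfl, rfl⟩
  have hnz : ∀ d, d ≠ 0 → (0 : ZMod p) ∉ Orb d := by
    intro d hd h0
    obtain ⟨h, _, h00, hd0⟩ := (hOrb d 0).1 h0
    exact hd (h.injective (hd0.trans h00.symm))
  have hdisj : Disjoint (Orb d₁) (Orb d₂) := by
    rw [Finset.disjoint_left]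
    intro y hy1 hy2
    obtain ⟨h1, hh1, h10, h1d⟩ := (hOrb _ _).1 hy1
    obtain ⟨h2, hh2, h20, h2d⟩ := (hOrb _ _).1 hy2
    apply hno (h2⁻¹ * h1) (H.mul_mem (H.inv_mem hh2) hh1)
    · rw [Perm.mul_apply, h10, Perm.inv_eq_iff_eq, h20]
    · rw [Perm.mul_apply, h1d, Perm.inv_eq_iff_eq, h2d]
  have hcard : (Orb d₁).card + (Orb d₂).card ≤ p - 1 := by
    rw [← Finset.card_union_of_disjoint hdisj]
    have hsub : Orb d₁ ∪ Orb d₂ ⊆ Finset.univ.erase 0 := by
      intro y hy
      rw [Finset.mem_erase]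
      refine ⟨?_, Finset.mem_univ _⟩
      rintro rfl
      rcases Finset.mem_union.1 hy with h | h
      · exact hnz _ hd₁ h
      · exact hnz _ hd₂ h
    calc _ ≤ (Finset.univ.erase (0 : ZMod p)).card := Finset.card_le_card hsub
      _ = p - 1 := by
        rw [Finset.card_erase_of_mem (Finset.mem_univ _), Finset.card_univ, ZMod.card]
  -- pick the smaller
  obtain ⟨d, hd, hB⟩ : ∃ d, d ≠ 0 ∧ 2 * (Orb d).card ≤ p - 1 := by
    rcases le_total (Orb d₁).card (Orb d₂).card with h | h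
    · exact ⟨d₁, hd₁, by omega⟩
    · exact ⟨d₂, hd₂, by omega⟩
  intro σ hσ
  apply Cfsg.Agent.Lib.H17.PrimeDegree.affine_of_preserves (Orb d) (hnz d hd) ⟨d, hself d⟩ hB σ
    σ.injective
  intro x b hb
  obtain ⟨g, hg, hg0, hgd⟩ := (hOrb _ _).1 hb
  rw [hOrb]
  refine ⟨tr (-(σ x)) * σ * tr x * g, ?_, ?_, ?_⟩
  · exact H.mul_mem (H.mul_mem (H.mul_mem (tr_mem H hτ _) hσ) (tr_mem H hτ _)) hg
  · simp only [Perm.mul_apply, hg0, tr_apply, zero_add]
    ring
  · simp only [Perm.mul_apply, hgd, tr_apply]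
    rw [add_comm b x]; ring

end core2

section solv

variable {p : ℕ}

theorem solvable_of_affine [hp : Fact p.Prime] (H : Subgroup (Perm (ZMod p)))
    (hA : ∀ σ ∈ H, ∃ a c : ZMod p, ∀ x, σ x = a * x + c) : Group.IsSolvable H := by
  haveI : NeZero p := ⟨hp.out.ne_zero⟩
  -- slope homomorphism
  have hslope : ∀ σ : H, (σ : Perm (ZMod p)) 1 - (σ : Perm (ZMod p)) 0 ≠ 0 := by
    intro σ h
    have := (σ : Perm (ZMod p)).injective (sub_eq_zero.1 h)
    exact one_ne_zero this
  let g : H →* (ZMod p)ˣ := MonoidHom.mk' (fun σ => Units.mk0 _ (hslope σ)) (by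
    intro σ₁ σ₂
    apply Units.ext
    simp only [Units.val_mk0, Units.val_mul, Subgroup.coe_mul, Perm.mul_apply]
    obtain ⟨a₁, c₁, h₁⟩ := hA _ σ₁.2
    obtain ⟨a₂, c₂, h₂⟩ := hA _ σ₂.2
    simp only [h₁, h₂]; ring)
  have hker : ∀ σ : H, σ ∈ g.ker → ∃ c, ∀ x, (σ : Perm (ZMod p)) x = x + c := by
    intro σ hσ
    rw [MonoidHom.mem_ker] at hσ
    have h1 : (σ : Perm (ZMod p)) 1 - (σ : Perm (ZMod p)) 0 = 1 := by
      have := congrArg Units.val hσ
      simpa [g] using this
    obtain ⟨a, c, h⟩ := hA _ σ.2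
    rw [h, h] at h1
    have ha : a = 1 := by linear_combination h1
    exact ⟨c, fun x => by rw [h, ha, one_mul]⟩
  haveI : Group.IsSolvable g.ker := by
    apply Group.isSolvable_of_comm
    intro a b
    obtain ⟨c₁, h₁⟩ := hker a.1 a.2
    obtain ⟨c₂, h₂⟩ := hker b.1 b.2
    apply Subtype.ext; apply Subtype.ext
    ext x
    simp only [Subgroup.coe_mul, Perm.mul_apply, h₁, h₂]; ring
  exact Group.isSolvable_of_ker_le_range g.ker.subtype g (by simp)

end solv

/-- Burnside's Theorem on permutation groups of prime degree: a transitive permutation group of prime degree that is not solvable is doubly transitive. -/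
theorem result {α : Type*} [Fintype α] [DecidableEq α] (hα : (Fintype.card α).Prime) (G : Subgroup (Equiv.Perm α)) [MulAction.IsPretransitive G α] : Group.IsSolvable G ∨ MulAction.IsMultiplyPretransitive G α 2 := by
  classical
  obtain ⟨p, hp_def⟩ : ∃ p, p = Fintype.card α := ⟨_, rfl⟩
  have hpp : p.Prime := hp_def ▸ hα
  haveI hp : Fact p.Prime := ⟨hpp⟩
  haveI : NeZero p := ⟨hpp.ne_zero⟩
  -- nonempty
  have hpos : 0 < Fintype.card α := hα.pos
  obtain ⟨a₀⟩ : Nonempty α := Fintype.card_pos_iff.1 hpos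
  -- element of order p
  have hdvd : p ∣ Nat.card G := by
    have h1 := MulAction.index_stabilizer_of_transitive G a₀
    rw [Nat.card_eq_fintype_card] at h1
    rw [hp_def, ← h1]
    exact Subgroup.index_dvd_card _
  obtain ⟨t, ht⟩ := exists_prime_orderOf_dvd_card' p hdvd
  have ht' : orderOf (t : Perm α) = p := by rw [Subgroup.orderOf_coe]; exact ht
  have hcyc : (t : Perm α).IsCycle :=
    Equiv.Perm.isCycle_of_prime_order'' hα (ht'.trans hp_def)
  have hsupp : ∀ a, (t : Perm α) a ≠ a := by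
    have h1 := hcyc.orderOf
    rw [ht', hp_def] at h1
    have h2 : (t : Perm α).support = Finset.univ := Finset.eq_univ_of_card _ h1.symm
    intro a
    rw [← Equiv.Perm.mem_support, h2]; exact Finset.mem_univ a
  have hpow : ∀ n : ℕ, (t : Perm α) ^ (n % p) = (t : Perm α) ^ n := by
    intro n
    have := pow_mod_orderOf (t : Perm α) n
    rwa [ht'] at this
  -- φ
  let φ : ZMod p → α := fun k => ((t : Perm α) ^ k.val) a₀
  have hφsurj : Function.Surjective φ := by
    intro b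
    obtain ⟨i, hi⟩ := hcyc.exists_pow_eq (hsupp a₀) (hsupp b)
    refine ⟨(i : ZMod p), ?_⟩
    show ((t : Perm α) ^ ((i : ZMod p).val)) a₀ = b
    rw [ZMod.val_natCast, hpow, hi]
  have hφbij : Function.Bijective φ := by
    rw [Fintype.bijective_iff_surjective_and_card]
    exact ⟨hφsurj, (ZMod.card p).trans hp_def⟩
  let e : ZMod p ≃ α := Equiv.ofBijective φ hφbij
  have he : ∀ k, (t : Perm α) (e k) = e (k + 1) := by
    intro k
    show (t : Perm α) (((t : Perm α) ^ k.val) a₀) = ((t : Perm α) ^ (k + 1).val) a₀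
    rw [ZMod.val_add, ZMod.val_one, hpow, pow_succ', Perm.mul_apply]
  let f : Perm α →* Perm (ZMod p) := (e.symm.permCongrHom : Perm α ≃* Perm (ZMod p)).toMonoidHom
  have hf : Function.Injective f := (e.symm.permCongrHom).injective
  have hfapp : ∀ (σ : Perm α) x, f σ x = e.symm (σ (e x)) := by
    intro σ x; rfl
  have hτ : tr (1 : ZMod p) ∈ G.map f := by
    refine ⟨t, t.2, ?_⟩
    ext x
    rw [hfapp, he, e.symm_apply_apply, tr_apply]
  rcases core_dichotomy (G.map f) hτ with hA | hT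
  · left
    haveI := solvable_of_affine (G.map f) hA
    exact Group.isSolvable_of_isSolvable_injective
      (f := (G.equivMapOfInjective f hf).toMonoidHom) (G.equivMapOfInjective f hf).injective
  · right
    rw [MulAction.is_two_pretransitive_iff]
    intro a b c d hab hcd
    have h1 : e.symm b - e.symm a ≠ 0 :=
      sub_ne_zero.2 (fun h => hab (e.symm.injective h).symm)
    have h2 : e.symm d - e.symm c ≠ 0 :=
      sub_ne_zero.2 (fun h => hcd (e.symm.injective h).symm)
    obtain ⟨h, hh, h0, hd⟩ := hT _ _ h1 h2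
    have hmem : tr (e.symm c) * h * tr (-(e.symm a)) ∈ G.map f :=
      (G.map f).mul_mem ((G.map f).mul_mem (tr_mem _ hτ _) hh) (tr_mem _ hτ _)
    obtain ⟨g, hg, hgσ⟩ := hmem
    have key : ∀ x, e.symm (g (e x)) = h (x - e.symm a) + e.symm c := by
      intro x
      rw [← hfapp, hgσ]
      simp only [Perm.mul_apply, tr_apply, sub_eq_add_neg]
    refine ⟨⟨g, hg⟩, ?_, ?_⟩
    · show g a = c
      apply e.symm.injective
      have := key (e.symm a)
      rw [e.apply_symm_apply, sub_self, h0, zero_add] at this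
      exact this
    · show g b = d
      apply e.symm.injective
      have := key (e.symm b)
      rw [e.apply_symm_apply, hd] at this
      rw [this]; ring

end Cfsg.Agent.S0675
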