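import Cfsg.Statements.S0673
import Mathlib

set_option autoImplicit false
open Cfsg

namespace Cfsg.Agent.S0673

open Polynomial Module

section setup

variable {p : ℕ} {K : Type*} [Field K]

/-- shift operator -/
def shift (p : ℕ) (K : Type*) [Field K] : (ZMod p → K) →ₗ[K] (ZMod p → K) where
  toFun f := fun j => f (j - 1)
  map_add' _ _ := rfl
  map_smul' _ _ := rfl

@[simp] theorem shift_apply (f : ZMod p → K) (j : ZMod p) : shift p K f j = f (j - 1) := rfl

theorem shift_pow_apply (n : ℕ) (f : ZMod p → K) (j : ZMod p) :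
    ((shift p K) ^ n) f j = f (j - (n : ZMod p)) := by
  induction n generalizing f j with
  | zero => simp
  | succ n ih =>
    rw [pow_succ, Module.End.mul_apply, ih, shift_apply]
    congr 1
    push_cast; ring

theorem shift_pow_p : (shift p K) ^ p = 1 := by
  ext f j
  rw [shift_pow_apply]
  simp

/-- difference operator -/
def diff (p : ℕ) (K : Type*) [Field K] : Module.End K (ZMod p → K) := shift p K - 1

theorem diff_pow_p [hp : Fact p.Prime] [CharP K p] : (diff p K) ^ p = 0 := by
  have h1 : (X - 1 : K[X]) ^ p = X ^ p - 1 := by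
    rw [sub_pow_char, one_pow]
  have h2 := congrArg (Polynomial.aeval (shift p K)) h1
  simp only [map_pow, map_sub, aeval_X, map_one] at h2
  rw [diff, h2, shift_pow_p, sub_self]

end setup

section kernels

variable {p : ℕ} {K : Type*} [Field K]

theorem ker_diff_le [NeZero p] :
    LinearMap.ker (diff p K) ≤ Submodule.span K {(fun _ : ZMod p => (1 : K))} := by
  intro f hf
  rw [LinearMap.mem_ker] at hf
  have h1 : ∀ j : ZMod p, f (j - 1) = f j := by
    intro j
    have := congrFun hf j
    simp only [diff, LinearMap.sub_apply, Module.End.one_apply, shift_apply, Pi.sub_apply,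
      Pi.zero_apply] at this
    exact sub_eq_zero.1 this
  have h2 : ∀ n : ℕ, f (n : ZMod p) = f 0 := by
    intro n
    induction n with
    | zero => simp
    | succ n ih =>
      rw [← ih, ← h1 ((n + 1 : ℕ) : ZMod p)]
      congr 1
      push_cast; ring
  rw [Submodule.mem_span_singleton]
  refine ⟨f 0, ?_⟩
  ext j
  rw [Pi.smul_apply, smul_eq_mul, mul_one, ← h2 j.val, ZMod.natCast_zmod_val]

theorem finrank_ker_diff_le [NeZero p] : finrank K (LinearMap.ker (diff p K)) ≤ 1 := by
  refine le_trans (Submodule.finrank_mono ker_diff_le) ?_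
  exact (finrank_span_le_card _).trans (by simp)

theorem finrank_ker_pow_le {V : Type*} [AddCommGroup V] [Module K V] [FiniteDimensional K V]
    (f : Module.End K V) (h1 : finrank K (LinearMap.ker f) ≤ 1) (n : ℕ) :
    finrank K (LinearMap.ker (f ^ n)) ≤ n := by
  induction n with
  | zero =>
    rw [pow_zero, Module.End.one_eq_id, LinearMap.ker_id, finrank_bot]
  | succ n ih =>
    have h := LinearMap.finrank_range_add_finrank_ker (f.domRestrict (LinearMap.ker (f ^ (n + 1))))
    have hr : finrank K (LinearMap.range (f.domRestrict (LinearMap.ker (f ^ (n + 1))))) ≤ n := by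
      refine le_trans (Submodule.finrank_mono ?_) ih
      rw [LinearMap.range_domRestrict]
      rintro _ ⟨u, hu, rfl⟩
      rw [LinearMap.mem_ker, ← Module.End.mul_apply, ← pow_succ]; exact hu
    have hk : finrank K (LinearMap.ker (f.domRestrict (LinearMap.ker (f ^ (n + 1))))) ≤ 1 := by
      rw [← Submodule.finrank_map_subtype_eq]
      refine le_trans (Submodule.finrank_mono ?_) h1
      rintro _ ⟨u, hu, rfl⟩
      exact hu
    omega

theorem eq_ker_of_invariant [hp : Fact p.Prime] [CharP K p] (W : Submodule K (ZMod p → K))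
    (hW : ∀ f ∈ W, (fun j => f (j - 1)) ∈ W) :
    W = LinearMap.ker ((diff p K) ^ finrank K W) := by
  haveI : NeZero p := ⟨hp.out.ne_zero⟩
  have hW' : ∀ f ∈ W, diff p K f ∈ W := fun f hf => W.sub_mem (hW f hf) hf
  have key : ∀ (n : ℕ) (w : W),
      (((((diff p K).restrict hW') ^ n) w : W) : ZMod p → K) = ((diff p K) ^ n) (w : ZMod p → K) := by
    intro n
    induction n with
    | zero => intro w; rfl
    | succ n ih =>
      intro w
      rw [pow_succ, Module.End.mul_apply, ih, pow_succ, Module.End.mul_apply]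
      rfl
  apply Submodule.eq_of_le_of_finrank_le
  · intro f hf
    have h1 : ((diff p K).restrict hW') ^ p = 0 := by
      ext w
      rw [key, diff_pow_p]
      rfl
    have h2 := Module.End.ker_pow_le_ker_pow_finrank ((diff p K).restrict hW') p
    rw [h1, LinearMap.ker_zero] at h2
    have h3 : (⟨f, hf⟩ : W) ∈ LinearMap.ker (((diff p K).restrict hW') ^ finrank K W) :=
      h2 Submodule.mem_top
    have h4 := congrArg Subtype.val (LinearMap.mem_ker.1 h3)
    rw [key] at h4
    exact LinearMap.mem_ker.2 h4
  · exact finrank_ker_pow_le (diff p K) (finrank_ker_diff_le (p := p) (K := K)) (finrank K W)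

end kernels

section polyfun

variable {p : ℕ} {K : Type*} [Field K]

/-- evaluation map from polynomials to functions on `ZMod p` -/
noncomputable def ev (p : ℕ) (K : Type*) [Field K] : K[X] →ₗ[K] (ZMod p → K) where
  toFun P := fun j => P.eval (ZMod.cast j : K)
  map_add' P Q := by ext j; simp
  map_smul' c P := by ext j; simp

/-- polynomial functions of degree `< r` -/
noncomputable def Wp (p : ℕ) (K : Type*) [Field K] (r : ℕ) : Submodule K (ZMod p → K) :=
  (degreeLT K r).map (ev p K)

theorem mem_Wp (r : ℕ) (f : ZMod p → K) :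
    f ∈ Wp p K r ↔ ∃ P : K[X], P.degree < r ∧ ∀ j : ZMod p, f j = P.eval (ZMod.cast j : K) := by
  constructor
  · rintro ⟨P, hP, rfl⟩; exact ⟨P, mem_degreeLT.1 hP, fun j => rfl⟩
  · rintro ⟨P, hP, h⟩; exact ⟨P, mem_degreeLT.2 hP, funext fun j => (h j).symm⟩

theorem Wp_shift [hp : Fact p.Prime] [CharP K p] (r : ℕ) (f : ZMod p → K) (hf : f ∈ Wp p K r) :
    (fun j => f (j - 1)) ∈ Wp p K r := by
  rw [mem_Wp] at hf ⊢
  obtain ⟨P, hP, h⟩ := hf
  refine ⟨taylor (-1) P, by rwa [degree_taylor], fun j => ?_⟩
  rw [h, taylor_eval, ZMod.cast_sub (dvd_refl p), ZMod.cast_one (dvd_refl p), sub_eq_add_neg]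

theorem finrank_Wp [hp : Fact p.Prime] [CharP K p] (r : ℕ) (hr : r ≤ p) :
    finrank K (Wp p K r) = r := by
  classical
  haveI : NeZero p := ⟨hp.out.ne_zero⟩
  have hinj : Function.Injective ((ev p K).domRestrict (degreeLT K r)) := by
    rw [← LinearMap.ker_eq_bot, LinearMap.ker_eq_bot']
    rintro ⟨P, hP⟩ h
    apply Subtype.ext
    show P = 0
    have hcard : (Finset.univ.image (fun j : ZMod p => (ZMod.cast j : K))).card = p := by
      rw [Finset.card_image_of_injective, Finset.card_univ, ZMod.card]
      intro a b hab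
      apply ZMod.castHom_injective K
      simpa using hab
    apply Polynomial.eq_zero_of_degree_lt_of_eval_finset_eq_zero
      (Finset.univ.image (fun j : ZMod p => (ZMod.cast j : K)))
    · rw [hcard]
      exact lt_of_lt_of_le (mem_degreeLT.1 hP) (by exact_mod_cast hr)
    · intro x hx
      obtain ⟨j, _, rfl⟩ := Finset.mem_image.1 hx
      exact congrFun h j
  rw [Wp, ← LinearMap.range_domRestrict, LinearMap.finrank_range_of_inj hinj,
    (degreeLTEquiv K r).finrank_eq, Module.finrank_fin_fun]

end polyfun

/-- In characteristic `p`, the translation-invariant subspaces of the space of functions on `ZMod p` are exactly the spaces of polynomial functions of degree less than `r`, one for each `r ≤ p`, of dimension `r`. -/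
theorem result {p : ℕ} [Fact p.Prime] {K : Type*} [Field K] [CharP K p] (W : Submodule K (ZMod p → K)) (hW : ∀ f ∈ W, (fun j => f (j - 1)) ∈ W) : ∃ r : ℕ, r ≤ p ∧ Module.finrank K W = r ∧ ∀ f : ZMod p → K, f ∈ W ↔ ∃ P : Polynomial K, P.degree < r ∧ ∀ j : ZMod p, f j = P.eval (ZMod.cast j : K) := by
  have hp : p ≠ 0 := (Fact.out : p.Prime).ne_zero
  haveI : NeZero p := ⟨hp⟩
  have hr : finrank K W ≤ p := by
    have h1 := Submodule.finrank_le W
    rwa [Module.finrank_fintype_fun_eq_card, ZMod.card] at h1
  refine ⟨finrank K W, hr, rfl, fun f => ?_⟩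
  rw [← mem_Wp]
  have h1 := eq_ker_of_invariant W hW
  have h2 := eq_ker_of_invariant (Wp p K (finrank K W)) (Wp_shift _)
  rw [finrank_Wp _ hr] at h2
  rw [h2, ← h1]

end Cfsg.Agent.S0673
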