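import Cfsg.Statements.S0674
import Mathlib
import Cfsg.Agent.S0673
import Cfsg.Agent.S0675

set_option autoImplicit false
open Cfsg

namespace Cfsg.Agent.S0674

open Polynomial Module Equiv

section polys

variable {p : ℕ} {K : Type*} [Field K]

/-- power sums over `ZMod p` vanish below `p - 1` -/
theorem sum_eval_eq_zero [hp : Fact p.Prime] [CharP K p] (R : K[X]) (hR : R.natDegree + 1 < p) :
    ∑ j : ZMod p, R.eval (ZMod.cast j : K) = 0 := by
  haveI : NeZero p := ⟨hp.out.ne_zero⟩
  have hφ : ∀ j : ZMod p, (ZMod.cast j : K) = ZMod.castHom (dvd_refl p) K j :=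
    fun j => (ZMod.castHom_apply j).symm
  simp only [hφ, Polynomial.eval_eq_sum_range]
  rw [Finset.sum_comm]
  apply Finset.sum_eq_zero
  intro i hi
  rw [← Finset.mul_sum]
  have h1 : ∑ j : ZMod p, (ZMod.castHom (dvd_refl p) K j) ^ i
      = ZMod.castHom (dvd_refl p) K (∑ j : ZMod p, j ^ i) := by
    rw [map_sum]; simp only [map_pow]
  rw [h1, FiniteField.sum_pow_lt_card_sub_one, map_zero, mul_zero]
  rw [ZMod.card]
  have := Finset.mem_range.1 hi
  omega

theorem sum_pow_pred [hp : Fact p.Prime] [CharP K p] :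
    ∑ j : ZMod p, (ZMod.cast j : K) ^ (p - 1) = -1 := by
  classical
  haveI : NeZero p := ⟨hp.out.ne_zero⟩
  have hφ : ∀ j : ZMod p, (ZMod.cast j : K) = ZMod.castHom (dvd_refl p) K j :=
    fun j => (ZMod.castHom_apply j).symm
  simp only [hφ]
  have h1 : ∑ j : ZMod p, (ZMod.castHom (dvd_refl p) K j) ^ (p - 1)
      = ZMod.castHom (dvd_refl p) K (∑ j : ZMod p, j ^ (p - 1)) := by
    rw [map_sum]; simp only [map_pow]
  rw [h1]
  have h2 : ∑ j : ZMod p, j ^ (p - 1) = (-1 : ZMod p) := by
    have hp1 : p - 1 ≠ 0 := by have := hp.out.two_le; omega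
    rw [← Finset.sum_erase (Finset.univ) (f := fun j : ZMod p => j ^ (p - 1)) (a := 0)
      (zero_pow hp1)]
    rw [Finset.sum_congr rfl (fun j hj => ZMod.pow_card_sub_one_eq_one (Finset.ne_of_mem_erase hj))]
    rw [Finset.sum_const, Finset.card_erase_of_mem (Finset.mem_univ _), Finset.card_univ,
      ZMod.card, nsmul_eq_mul, mul_one, Nat.cast_sub hp.out.one_le]
    simp
  rw [h2, map_neg, map_one]

theorem poly_eq_of_eval_eq [hp : Fact p.Prime] [CharP K p] (P Q : K[X]) (hP : P.degree < p)
    (hQ : Q.degree < p) (h : ∀ j : ZMod p, P.eval (ZMod.cast j : K) = Q.eval (ZMod.cast j : K)) :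
    P = Q := by
  classical
  haveI : NeZero p := ⟨hp.out.ne_zero⟩
  have hcard : (Finset.univ.image (fun j : ZMod p => (ZMod.cast j : K))).card = p := by
    rw [Finset.card_image_of_injective, Finset.card_univ, ZMod.card]
    intro a b hab
    apply ZMod.castHom_injective K
    simpa using hab
  rw [← sub_eq_zero]
  apply Polynomial.eq_zero_of_degree_lt_of_eval_finset_eq_zero
    (Finset.univ.image (fun j : ZMod p => (ZMod.cast j : K)))
  · rw [hcard]
    exact lt_of_le_of_lt (degree_sub_le _ _) (max_lt hP hQ)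
  · intro x hx
    obtain ⟨j, _, rfl⟩ := Finset.mem_image.1 hx
    rw [eval_sub, h j, sub_self]

end polys

section claimA

variable {p : ℕ} {K : Type*} [Field K]

theorem exists_k (r d : ℕ) (hr : 2 ≤ r) (hd : 2 ≤ d) :
    ∃ k, r ≤ k * d ∧ k * d < r + d ∧ k < r := by
  have h1 := Nat.div_mul_le_self (r + d - 1) d
  have h2 := Nat.lt_div_mul_add (a := r + d - 1) (b := d) (by omega)
  refine ⟨(r + d - 1) / d, by omega, by omega, ?_⟩
  by_contra hcon
  push_neg at hcon
  have h3 : r * d ≤ (r + d - 1) / d * d := Nat.mul_le_mul_right d hcon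
  have h4 : r + d ≤ r * d := by
    obtain ⟨a, rfl⟩ := Nat.exists_eq_add_of_le hr
    obtain ⟨b, rfl⟩ := Nat.exists_eq_add_of_le hd
    nlinarith [Nat.zero_le (a * b)]
  omega

theorem affine_of_small [hp : Fact p.Prime] [CharP K p] (r : ℕ) (hr2 : 2 ≤ r)
    (hr : 2 * r ≤ p + 1) (σ : Perm (ZMod p))
    (h : ∀ P : K[X], P.degree < r → ∃ Q : K[X], Q.degree < r ∧
      ∀ j : ZMod p, P.eval (ZMod.cast (σ j) : K) = Q.eval (ZMod.cast j : K)) :
    ∃ a c : ZMod p, ∀ x, σ x = a * x + c := by
  haveI : NeZero p := ⟨hp.out.ne_zero⟩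
  have hφ : ∀ j : ZMod p, (ZMod.cast j : K) = ZMod.castHom (dvd_refl p) K j :=
    fun j => (ZMod.castHom_apply j).symm
  have hφinj : Function.Injective (ZMod.castHom (dvd_refl p) K) := ZMod.castHom_injective K
  have hrp : r ≤ p := by omega
  obtain ⟨g, hg, hgσ⟩ := h X (by rw [degree_X]; exact_mod_cast hr2)
  simp only [eval_X] at hgσ
  have hg0 : g ≠ 0 := by
    rintro rfl
    have h0 := hgσ 0
    have h1 := hgσ 1
    simp only [eval_zero] at h0 h1
    have : σ 0 = σ 1 := hφinj (by rw [← hφ, ← hφ, h0, h1])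
    exact zero_ne_one (σ.injective this)
  have hd : g.natDegree < r := (natDegree_lt_iff_degree_lt hg0).2 hg
  have hd1 : g.natDegree ≤ 1 := by
    by_contra hcon
    push_neg at hcon
    obtain ⟨k, hk1, hk2, hk3⟩ := exists_k r g.natDegree hr2 hcon
    obtain ⟨Q, hQ, hQσ⟩ := h (X ^ k) (by rw [degree_X_pow]; exact_mod_cast hk3)
    have hQg : Q = g ^ k := by
      apply poly_eq_of_eval_eq Q (g ^ k)
      · exact lt_of_lt_of_le hQ (by exact_mod_cast hrp)
      · apply lt_of_le_of_lt degree_le_natDegree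
        rw [natDegree_pow]
        exact_mod_cast (by omega : k * g.natDegree < p)
      · intro j
        rw [← hQσ, eval_pow, eval_pow, eval_X, hgσ]
    have h1 : Q.natDegree = k * g.natDegree := by rw [hQg, natDegree_pow]
    have h2 : Q.natDegree < r :=
      (natDegree_lt_iff_degree_lt (by rw [hQg]; exact pow_ne_zero _ hg0)).2 hQ
    omega
  -- g linear
  have hglin := eq_X_add_C_of_natDegree_le_one hd1
  refine ⟨σ 1 - σ 0, σ 0, fun x => ?_⟩
  apply hφinj
  have e0 := hgσ 0
  have e1 := hgσ 1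
  have ex := hgσ x
  rw [hglin] at e0 e1 ex
  simp only [hφ, eval_add, eval_mul, eval_C, eval_X, map_zero, map_one, mul_zero, zero_add,
    mul_one] at e0 e1 ex
  rw [map_add, map_mul, map_sub, ex, e1, e0]; ring

end claimA

section mainZ

variable {p : ℕ} {K : Type*} [Field K]

/-- orthogonal complement with respect to the standard pairing `∑ f j * g j` -/
def perp [hp : Fact p.Prime] (W : Submodule K (ZMod p → K)) : Submodule K (ZMod p → K) where
  carrier := {g | ∀ f ∈ W, ∑ j, f j * g j = 0}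
  add_mem' := by
    intro a b ha hb f hf
    simp only [Pi.add_apply, mul_add, Finset.sum_add_distrib, ha f hf, hb f hf, add_zero]
  zero_mem' := by intro f _; simp
  smul_mem' := by
    intro c g hg f hf
    have h1 : ∑ j, f j * (c • g) j = c * ∑ j, f j * g j := by
      rw [Finset.mul_sum]
      apply Finset.sum_congr rfl
      intro j _
      simp only [Pi.smul_apply, smul_eq_mul]; ring
    rw [h1, hg f hf, mul_zero]

theorem mem_perp [hp : Fact p.Prime] (W : Submodule K (ZMod p → K)) (g : ZMod p → K) :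
    g ∈ perp W ↔ ∀ f ∈ W, ∑ j, f j * g j = 0 := Iff.rfl

theorem main_zmod [hp : Fact p.Prime] [CharP K p] (H : Subgroup (Perm (ZMod p)))
    (hτ : Cfsg.Agent.S0675.tr (1 : ZMod p) ∈ H) (W : Submodule K (ZMod p → K))
    (hinv : ∀ σ ∈ H, ∀ f ∈ W, (fun j => f (σ j)) ∈ W)
    (hconst : (fun _ => (1 : K)) ∈ W)
    (hsum : ∀ f ∈ W, ∑ j, f j = 0) :
    (∀ σ ∈ H, ∃ a c : ZMod p, ∀ x, σ x = a * x + c) ∨
    (∀ f ∈ W, ∃ c : K, ∀ j, f j = c) ∨
    (∀ f : ZMod p → K, ∑ j, f j = 0 → f ∈ W) := by
  classical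
  have hp2 : 2 ≤ p := hp.out.two_le
  have hshift : ∀ W'' : Submodule K (ZMod p → K),
      (∀ σ ∈ H, ∀ f ∈ W'', (fun j => f (σ j)) ∈ W'') →
      ∀ f ∈ W'', (fun j => f (j - 1)) ∈ W'' := by
    intro W'' hi f hf
    have h1 := hi _ (Cfsg.Agent.S0675.tr_mem H hτ (-1)) f hf
    have h2 : (fun j => f ((Cfsg.Agent.S0675.tr (-1 : ZMod p)) j)) = fun j => f (j - 1) := by
      funext j
      rw [Cfsg.Agent.S0675.tr_apply, sub_eq_add_neg]
    rwa [h2] at h1
  obtain ⟨r, hrp, hfr, hmem⟩ := Cfsg.Agent.S0673.result W (hshift W hinv)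
  -- r ≥ 1
  have hr1 : 1 ≤ r := by
    obtain ⟨P, hP, hPe⟩ := (hmem _).1 hconst
    by_contra hcon
    have hr0 : r = 0 := by omega
    rw [hr0] at hP
    have hP0 : P = 0 := by
      rw [← degree_eq_bot]
      by_contra hne
      obtain ⟨n, hn⟩ := WithBot.ne_bot_iff_exists.1 hne
      rw [← hn] at hP
      exact absurd (WithBot.coe_lt_coe.1 hP) (Nat.not_lt_zero _)
    have := hPe 0
    rw [hP0, eval_zero] at this
    exact one_ne_zero this
  -- r ≤ p - 1
  have hrp1 : r ≤ p - 1 := by
    by_contra hcon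
    have hrp' : r = p := by omega
    have h2 : (fun j : ZMod p => (ZMod.cast j : K) ^ (p - 1)) ∈ W :=
      (hmem _).2 ⟨X ^ (p - 1), by
        rw [degree_X_pow]; exact_mod_cast (by omega : p - 1 < r),
        fun j => by rw [eval_pow, eval_X]⟩
    have h3 := hsum _ h2
    rw [sum_pow_pred] at h3
    exact one_ne_zero (neg_eq_zero.1 h3)
  by_cases hr_one : r = 1
  · right; left
    intro f hf
    obtain ⟨P, hP, hPe⟩ := (hmem f).1 hf
    rw [hr_one] at hP
    have hP' : P.degree ≤ 0 := by
      by_cases hP0 : P = 0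
      · rw [hP0, degree_zero]; exact bot_le
      · have := (natDegree_lt_iff_degree_lt hP0).2 hP
        have h0 : P.natDegree = 0 := by omega
        rw [degree_eq_natDegree hP0, h0]; rfl
    refine ⟨P.coeff 0, fun j => ?_⟩
    rw [hPe, eq_C_of_degree_le_zero hP', eval_C, coeff_C_zero]
  by_cases hr_top : r = p - 1
  · right; right
    -- dimension count
    let sumFn : (ZMod p → K) →ₗ[K] K :=
      { toFun := fun f => ∑ j, f j
        map_add' := fun f g => by simp only [Pi.add_apply, Finset.sum_add_distrib]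
        map_smul' := fun c f => by
          simp only [Pi.smul_apply, smul_eq_mul, RingHom.id_apply, Finset.mul_sum] }
    have hle : W ≤ LinearMap.ker sumFn := fun f hf => LinearMap.mem_ker.2 (hsum f hf)
    have hne : LinearMap.ker sumFn ≠ ⊤ := by
      intro htop
      have : (Pi.single (0 : ZMod p) (1 : K)) ∈ LinearMap.ker sumFn := by
        rw [htop]; exact Submodule.mem_top
      rw [LinearMap.mem_ker] at this
      have h1 : sumFn (Pi.single (0 : ZMod p) (1 : K)) = 1 := by
        show ∑ j, (Pi.single (0 : ZMod p) (1 : K)) j = 1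
        rw [Finset.sum_pi_single']
        simp
      rw [h1] at this
      exact one_ne_zero this
    have hlt := Submodule.finrank_lt hne
    rw [Module.finrank_fintype_fun_eq_card, ZMod.card] at hlt
    have heq : W = LinearMap.ker sumFn :=
      Submodule.eq_of_le_of_finrank_le hle (by rw [hfr, hr_top]; omega)
    intro f hf
    rw [heq]
    exact LinearMap.mem_ker.2 hf
  left
  have hr2 : 2 ≤ r := by omega
  have hrp2 : r ≤ p - 2 := by omega
  have hA : ∀ (W'' : Submodule K (ZMod p → K)) (r'' : ℕ), 2 ≤ r'' → 2 * r'' ≤ p + 1 →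
      (∀ f : ZMod p → K, f ∈ W'' ↔ ∃ P : K[X], P.degree < r'' ∧
        ∀ j : ZMod p, f j = P.eval (ZMod.cast j : K)) →
      (∀ σ ∈ H, ∀ f ∈ W'', (fun j => f (σ j)) ∈ W'') →
      ∀ σ ∈ H, ∃ a c : ZMod p, ∀ x, σ x = a * x + c := by
    intro W'' r'' h2 h3 hm hi σ hσ
    apply affine_of_small (K := K) r'' h2 h3 σ
    intro P hP
    have h1 : (fun j : ZMod p => P.eval (ZMod.cast j : K)) ∈ W'' :=
      (hm _).2 ⟨P, hP, fun j => rfl⟩
    have h2 := hi σ hσ _ h1
    obtain ⟨Q, hQ, hQe⟩ := (hm _).1 h2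
    exact ⟨Q, hQ, hQe⟩
  by_cases hsmall : 2 * r ≤ p + 1
  · exact hA W r hr2 hsmall hmem hinv
  · -- dual
    have hperp_inv : ∀ σ ∈ H, ∀ g ∈ perp W, (fun j => g (σ j)) ∈ perp W := by
      intro σ hσ g hg f hf
      have h1 := hg _ (hinv σ⁻¹ (H.inv_mem hσ) f hf)
      rw [← h1]
      have h2 := Equiv.sum_comp σ (fun j => f (σ⁻¹ j) * g j)
      rw [← h2]
      apply Finset.sum_congr rfl
      intro j _
      rw [Perm.inv_def, Equiv.symm_apply_apply]
    obtain ⟨r', hr'p, hfr', hmem'⟩ := Cfsg.Agent.S0673.result (perp W) (hshift _ hperp_inv)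
    have h2r' : 2 ≤ r' := by
      have hX : (fun j : ZMod p => (ZMod.cast j : K)) ∈ perp W := by
        intro f hf
        obtain ⟨P, hP, hPe⟩ := (hmem f).1 hf
        have hPn : P.natDegree < r := by
          by_cases hP0 : P = 0
          · rw [hP0, natDegree_zero]; omega
          · exact (natDegree_lt_iff_degree_lt hP0).2 hP
        have hdeg : (P * X).natDegree + 1 < p := by
          have h1 : (P * X).natDegree ≤ P.natDegree + 1 := by
            refine natDegree_mul_le.trans ?_
            rw [natDegree_X]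
          omega
        have h3 := sum_eval_eq_zero (p := p) (P * X) hdeg
        simp only [eval_mul, eval_X] at h3
        rw [← h3]
        apply Finset.sum_congr rfl
        intro j _
        rw [hPe]
      obtain ⟨Q, hQ, hQe⟩ := (hmem' _).1 hX
      have hQX : Q = X := by
        apply poly_eq_of_eval_eq (p := p) Q X (lt_of_lt_of_le hQ (by exact_mod_cast hr'p))
        · rw [degree_X]; exact_mod_cast hp.out.one_lt
        · intro j
          rw [← hQe, eval_X]
      rw [hQX, degree_X] at hQ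
      exact_mod_cast hQ
    have hr'le : r' ≤ p - r := by
      by_contra hcon
      push_neg at hcon
      have h1 : (fun j : ZMod p => (ZMod.cast j : K) ^ (p - r)) ∈ perp W :=
        (hmem' _).2 ⟨X ^ (p - r), by rw [degree_X_pow]; exact_mod_cast hcon,
          fun j => by rw [eval_pow, eval_X]⟩
      have h2 : (fun j : ZMod p => (ZMod.cast j : K) ^ (r - 1)) ∈ W :=
        (hmem _).2 ⟨X ^ (r - 1), by
          rw [degree_X_pow]; exact_mod_cast (by omega : r - 1 < r),
          fun j => by rw [eval_pow, eval_X]⟩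
      have h3 := h1 _ h2
      simp only [← pow_add] at h3
      rw [show r - 1 + (p - r) = p - 1 by omega, sum_pow_pred] at h3
      exact one_ne_zero (neg_eq_zero.1 h3)
    exact hA (perp W) r' h2r' (by omega) hmem' hperp_inv

end mainZ

theorem exists_equiv_zmod {α : Type*} [Fintype α] [DecidableEq α] {p : ℕ} [hp : Fact p.Prime]
    (hα : Fintype.card α = p) (G : Subgroup (Equiv.Perm α)) [MulAction.IsPretransitive G α] :
    ∃ (e : ZMod p ≃ α) (t : Perm α), t ∈ G ∧ ∀ k, t (e k) = e (k + 1) := by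
  classical
  have hpp : p.Prime := hp.out
  have hp_def : p = Fintype.card α := hα.symm
  have hα' : (Fintype.card α).Prime := hα ▸ hpp
  haveI : NeZero p := ⟨hpp.ne_zero⟩
  have hpos : 0 < Fintype.card α := hα'.pos
  obtain ⟨a₀⟩ : Nonempty α := Fintype.card_pos_iff.1 hpos
  have hdvd : p ∣ Nat.card G := by
    have h1 := MulAction.index_stabilizer_of_transitive G a₀
    rw [Nat.card_eq_fintype_card] at h1
    rw [hp_def, ← h1]
    exact Subgroup.index_dvd_card _
  obtain ⟨t, ht⟩ := exists_prime_orderOf_dvd_card' p hdvd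
  have ht' : orderOf (t : Perm α) = p := by rw [Subgroup.orderOf_coe]; exact ht
  have hcyc : (t : Perm α).IsCycle :=
    Equiv.Perm.isCycle_of_prime_order'' hα' (ht'.trans hp_def)
  have hsupp : ∀ a, (t : Perm α) a ≠ a := by
    have h1 := hcyc.orderOf
    rw [ht', hp_def] at h1
    have h2 : (t : Perm α).support = Finset.univ := Finset.eq_univ_of_card _ h1.symm
    intro a
    rw [← Equiv.Perm.mem_support, h2]; exact Finset.mem_univ a
  have hpow : ∀ n : ℕ, (t : Perm α) ^ (n % p) = (t : Perm α) ^ n := by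
    intro n
    have := pow_mod_orderOf (t : Perm α) n
    rwa [ht'] at this
  let φ : ZMod p → α := fun k => ((t : Perm α) ^ k.val) a₀
  have hφsurj : Function.Surjective φ := by
    intro b
    obtain ⟨i, hi⟩ := hcyc.exists_pow_eq (hsupp a₀) (hsupp b)
    refine ⟨(i : ZMod p), ?_⟩
    show ((t : Perm α) ^ ((i : ZMod p).val)) a₀ = b
    rw [ZMod.val_natCast, hpow, hi]
  have hφbij : Function.Bijective φ := by
    rw [Fintype.bijective_iff_surjective_and_card]
    exact ⟨hφsurj, (ZMod.card p).trans hp_def⟩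
  refine ⟨Equiv.ofBijective φ hφbij, (t : Perm α), t.2, ?_⟩
  intro k
  show (t : Perm α) (((t : Perm α) ^ k.val) a₀) = ((t : Perm α) ^ (k + 1).val) a₀
  rw [ZMod.val_add, ZMod.val_one, hpow, pow_succ', Perm.mul_apply]

/-- Let `G` be a non-solvable transitive permutation group of prime degree `p` and `K` a field of characteristic `p`. Then the heart of the permutation module is irreducible: an invariant subspace containing the constants and contained in the sum-zero functions is one or the other. -/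
theorem result {α : Type*} [Fintype α] [DecidableEq α] {p : ℕ} [Fact p.Prime] (hα : Fintype.card α = p) (G : Subgroup (Equiv.Perm α)) [MulAction.IsPretransitive G α] (hG : ¬ Group.IsSolvable G) {K : Type*} [Field K] [CharP K p] (W : Subrepresentation (Cfsg.permRep K G α)) (h₁ : (Cfsg.permConstants K G α).toSubmodule ≤ W.toSubmodule) (h₂ : W.toSubmodule ≤ (Cfsg.permSumZero K G α).toSubmodule) : W = Cfsg.permConstants K G α ∨ W = Cfsg.permSumZero K G α := by
  classical
  obtain ⟨e, t, htG, he⟩ := exists_equiv_zmod hα G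
  let f : Perm α →* Perm (ZMod p) := (e.symm.permCongrHom : Perm α ≃* Perm (ZMod p)).toMonoidHom
  have hf : Function.Injective f := (e.symm.permCongrHom).injective
  have hfapp : ∀ (σ : Perm α) x, f σ x = e.symm (σ (e x)) := fun σ x => rfl
  have hτ : Cfsg.Agent.S0675.tr (1 : ZMod p) ∈ G.map f := by
    refine ⟨t, htG, ?_⟩
    ext x
    rw [hfapp, he, e.symm_apply_apply, Cfsg.Agent.S0675.tr_apply]
  let W' : Submodule K (ZMod p → K) := W.toSubmodule.comap (LinearMap.funLeft K K e.symm)
  have hW' : ∀ f' : ZMod p → K, f' ∈ W' ↔ (fun x => f' (e.symm x)) ∈ W.toSubmodule :=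
    fun f' => Iff.rfl
  have hinv : ∀ σ ∈ G.map f, ∀ f' ∈ W', (fun j => f' (σ j)) ∈ W' := by
    rintro _ ⟨g, hg, rfl⟩ f' hf'
    rw [hW'] at hf' ⊢
    have h3 := W.apply_mem_toSubmodule (⟨g, hg⟩ : G)⁻¹ hf'
    convert h3 using 1
    funext x
    show f' (f g (e.symm x)) = f' (e.symm (((⟨g, hg⟩ : G)⁻¹)⁻¹ • x))
    rw [hfapp, e.apply_symm_apply, inv_inv]
    rfl
  have hconst : (fun _ => (1 : K)) ∈ W' := by
    rw [hW']
    exact h₁ (Submodule.mem_span_singleton_self _)
  have hsum : ∀ f' ∈ W', ∑ j, f' j = 0 := by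
    intro f' hf'
    have h3 : ∑ x, f' (e.symm x) = 0 := h₂ ((hW' f').1 hf')
    rw [← h3]
    exact (Equiv.sum_comp e.symm f').symm
  rcases main_zmod (G.map f) hτ W' hinv hconst hsum with hA | hC | hS
  · exfalso
    apply hG
    haveI := Cfsg.Agent.S0675.solvable_of_affine (G.map f) hA
    exact Group.isSolvable_of_isSolvable_injective
      (f := (G.equivMapOfInjective f hf).toMonoidHom) (G.equivMapOfInjective f hf).injective
  · left
    apply Subrepresentation.toSubmodule_injective
    apply le_antisymm _ h₁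
    intro v hv
    have hv' : (fun j => v (e j)) ∈ W' := by
      rw [hW']
      simpa using hv
    obtain ⟨c, hc⟩ := hC _ hv'
    show v ∈ Submodule.span K {fun _ => 1}
    rw [Submodule.mem_span_singleton]
    refine ⟨c, funext fun x => ?_⟩
    have h3 := hc (e.symm x)
    rw [e.apply_symm_apply] at h3
    rw [h3, Pi.smul_apply, smul_eq_mul, mul_one]
  · right
    apply Subrepresentation.toSubmodule_injective
    apply le_antisymm h₂
    intro v hv
    have hv0 : ∑ x, v x = 0 := hv
    have h3 := hS (fun j => v (e j)) (by rw [← hv0]; exact Equiv.sum_comp e v)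
    rw [hW'] at h3
    simpa using h3

end Cfsg.Agent.S0674
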