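import Cfsg.Statements.S0676
import Mathlib
import Cfsg.Agent.S0674
import Cfsg.Agent.S0675
import Cfsg.Agent.Lib.H17.PrimeDegreeCoord

set_option autoImplicit false
open Cfsg

namespace Cfsg.Agent.S0676

open Equiv Function
open Cfsg.Agent.S0675 (tr tr_apply tr_mem)

theorem three_pretransitive_of {G α : Type*} [Group G] [MulAction G α]
    (h : ∀ x₁ x₂ x₃ y₁ y₂ y₃ : α, x₁ ≠ x₂ → x₁ ≠ x₃ → x₂ ≠ x₃ → y₁ ≠ y₂ → y₁ ≠ y₃ → y₂ ≠ y₃ →
      ∃ g : G, g • x₁ = y₁ ∧ g • x₂ = y₂ ∧ g • x₃ = y₃) :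
    MulAction.IsMultiplyPretransitive G α 3 := by
  refine ⟨fun x y => ?_⟩
  have hx : ∀ i j : Fin 3, i ≠ j → x i ≠ x j := fun i j hij h' => hij (x.injective h')
  have hy : ∀ i j : Fin 3, i ≠ j → y i ≠ y j := fun i j hij h' => hij (y.injective h')
  obtain ⟨g, h0, h1, h2⟩ := h (x 0) (x 1) (x 2) (y 0) (y 1) (y 2)
    (hx 0 1 (by decide)) (hx 0 2 (by decide)) (hx 1 2 (by decide))
    (hy 0 1 (by decide)) (hy 0 2 (by decide)) (hy 1 2 (by decide))
  refine ⟨g, ?_⟩
  ext i
  fin_cases i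
  · exact h0
  · exact h1
  · exact h2

section core3

variable {p : ℕ} [hp : Fact p.Prime] (G' : Subgroup (Perm (ZMod p)))

open Classical in
/-- the points `a` such that `(a, {b, c})` is in the orbit of `(0, {1, -1})` -/
noncomputable def Dset (b c : ZMod p) : Finset (ZMod p) :=
  Finset.univ.filter (fun a => ∃ h ∈ G', h 0 = a ∧
    ((h 1 = b ∧ h (-1) = c) ∨ (h 1 = c ∧ h (-1) = b)))

theorem mem_Dset (a b c : ZMod p) : a ∈ Dset G' b c ↔ ∃ h ∈ G', h 0 = a ∧
    ((h 1 = b ∧ h (-1) = c) ∨ (h 1 = c ∧ h (-1) = b)) := by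
  simp [Dset]

theorem Dset_symm (b c : ZMod p) : Dset G' c b = Dset G' b c := by
  ext a
  rw [mem_Dset, mem_Dset]
  constructor
  · rintro ⟨h, hh, h0, h1⟩; exact ⟨h, hh, h0, h1.symm⟩
  · rintro ⟨h, hh, h0, h1⟩; exact ⟨h, hh, h0, h1.symm⟩

theorem Dset_smul {g : Perm (ZMod p)} (hg : g ∈ G') {a b c : ZMod p} (ha : a ∈ Dset G' b c) :
    g a ∈ Dset G' (g b) (g c) := by
  rw [mem_Dset] at ha ⊢
  obtain ⟨h, hh, h0, h1⟩ := ha
  refine ⟨g * h, G'.mul_mem hg hh, by rw [Perm.mul_apply, h0], ?_⟩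
  rcases h1 with ⟨h1, h2⟩ | ⟨h1, h2⟩
  · left; exact ⟨by rw [Perm.mul_apply, h1], by rw [Perm.mul_apply, h2]⟩
  · right; exact ⟨by rw [Perm.mul_apply, h1], by rw [Perm.mul_apply, h2]⟩

theorem Dset_smul_iff {g : Perm (ZMod p)} (hg : g ∈ G') (a b c : ZMod p) :
    g a ∈ Dset G' (g b) (g c) ↔ a ∈ Dset G' b c := by
  refine ⟨fun h => ?_, Dset_smul G' hg⟩
  have := Dset_smul G' (G'.inv_mem hg) h
  simpa [Perm.inv_def] using this

theorem Dset_card {g : Perm (ZMod p)} (hg : g ∈ G') (b c : ZMod p) :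
    (Dset G' (g b) (g c)).card = (Dset G' b c).card := by
  classical
  have : Dset G' (g b) (g c) = (Dset G' b c).image g := by
    ext x
    rw [Finset.mem_image]
    constructor
    · intro hx
      refine ⟨g⁻¹ x, ?_, by simp [Perm.inv_def]⟩
      rw [← Dset_smul_iff G' hg]
      simpa [Perm.inv_def] using hx
    · rintro ⟨a, ha, rfl⟩
      exact Dset_smul G' hg ha
  rw [this, Finset.card_image_of_injective _ g.injective]

theorem Dset_refl (hτ : tr (1 : ZMod p) ∈ G') (hs : Equiv.neg (ZMod p) ∈ G') {a b c : ZMod p}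
    (ha : a ∈ Dset G' b c) : b + c - a ∈ Dset G' b c := by
  have hr : tr (b + c) * Equiv.neg (ZMod p) ∈ G' := G'.mul_mem (tr_mem G' hτ _) hs
  have := Dset_smul G' hr ha
  simp only [Perm.mul_apply, Equiv.neg_apply, tr_apply] at this
  have e1 : -b + (b + c) = c := by ring
  have e2 : -c + (b + c) = b := by ring
  have e3 : -a + (b + c) = b + c - a := by ring
  rw [e1, e2, e3, Dset_symm] at this
  exact this

open Classical in
/-- the vector attached to the pair `{b, c}` -/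
noncomputable def vfun (b c : ZMod p) : ZMod p → ZMod p := fun a =>
  (if a ∈ Dset G' b c then 1 else 0) -
    ((Dset G' b c).card : ZMod p) * 2⁻¹ * ((if a = b then 1 else 0) + (if a = c then 1 else 0))

theorem vfun_smul {g : Perm (ZMod p)} (hg : g ∈ G') (b c a : ZMod p) :
    vfun G' b c (g⁻¹ a) = vfun G' (g b) (g c) a := by
  classical
  have h1 : g⁻¹ a ∈ Dset G' b c ↔ a ∈ Dset G' (g b) (g c) := by
    rw [← Dset_smul_iff G' hg (g⁻¹ a) b c]
    simp [Perm.inv_def]
  have h2 : ∀ x, g⁻¹ a = x ↔ a = g x := by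
    intro x
    rw [Perm.inv_def, Equiv.symm_apply_eq]
  simp only [vfun, h1, h2, Dset_card G' hg]

theorem sum_vfun (h2 : (2 : ZMod p) ≠ 0) {b c : ZMod p} :
    ∑ a, vfun G' b c a = 0 := by
  classical
  simp only [vfun, Finset.sum_sub_distrib, ← Finset.mul_sum, Finset.sum_add_distrib,
    Finset.sum_ite_eq', Finset.mem_univ, if_true, Finset.sum_boole, Finset.filter_univ_mem]
  field_simp
  ring

theorem sum_mul_vfun (h2 : (2 : ZMod p) ≠ 0) (hτ : tr (1 : ZMod p) ∈ G')
    (hs : Equiv.neg (ZMod p) ∈ G') {b c : ZMod p} :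
    ∑ a, a * vfun G' b c a = 0 := by
  classical
  have h1 : ∑ a ∈ Dset G' b c, a = ((Dset G' b c).card : ZMod p) * 2⁻¹ * (b + c) := by
    have h3 : ∑ a ∈ Dset G' b c, a = ∑ a ∈ Dset G' b c, (b + c - a) := by
      apply Finset.sum_nbij' (fun a => b + c - a) (fun a => b + c - a)
      · intro a ha; exact Dset_refl G' hτ hs ha
      · intro a ha; exact Dset_refl G' hτ hs ha
      · intro a _; ring
      · intro a _; ring
      · intro a _; ring
    rw [Finset.sum_sub_distrib, Finset.sum_const, nsmul_eq_mul] at h3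
    field_simp
    linear_combination h3
  have h4 : ∀ a : ZMod p, a * vfun G' b c a = (if a ∈ Dset G' b c then a else 0) -
      ((Dset G' b c).card : ZMod p) * 2⁻¹ * ((if a = b then a else 0) + (if a = c then a else 0)) := by
    intro a
    simp only [vfun]
    split_ifs <;> ring
  simp only [h4, Finset.sum_sub_distrib, ← Finset.mul_sum, Finset.sum_add_distrib,
    Finset.sum_ite_eq', Finset.mem_univ, if_true, Finset.sum_ite_mem, Finset.univ_inter]
  rw [h1]; ring

end core3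

section core3b

variable {p : ℕ} [hp : Fact p.Prime] (G' : Subgroup (Perm (ZMod p)))

theorem two_ne_zero_of_odd (hp2 : p ≠ 2) : (2 : ZMod p) ≠ 0 := by
  intro h
  have h' : ((2 : ℕ) : ZMod p) = 0 := by exact_mod_cast h
  rw [ZMod.natCast_eq_zero_iff] at h'
  have := Nat.le_of_dvd (by norm_num) h'
  have := hp.out.two_le
  omega

theorem exists_fix_pm_one (hp2 : p ≠ 2) (hτ : tr (1 : ZMod p) ∈ G')
    (hs : Equiv.neg (ZMod p) ∈ G') (hns : ¬ Group.IsSolvable G') :
    ∀ a : ZMod p, a ≠ 1 → a ≠ -1 → ∃ h ∈ G', h 0 = a ∧ h 1 = 1 ∧ h (-1) = -1 := by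
  classical
  have h2 := two_ne_zero_of_odd hp2
  haveI : NeZero p := ⟨hp.out.ne_zero⟩
  haveI : MulAction.IsPretransitive G' (ZMod p) := by
    refine ⟨fun x y => ⟨⟨tr (y - x), tr_mem G' hτ _⟩, ?_⟩⟩
    show tr (y - x) x = y
    rw [tr_apply]; ring
  -- the submodule
  let S : Set (ZMod p → ZMod p) := {f | (∃ b c, b ≠ c ∧ f = vfun G' b c) ∨ f = fun _ => 1}
  let M : Subrepresentation (Cfsg.permRep (ZMod p) G' (ZMod p)) :=
    { toSubmodule := Submodule.span (ZMod p) S
      apply_mem_toSubmodule := by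
        intro g v hv
        have hle : Submodule.span (ZMod p) S ≤
            (Submodule.span (ZMod p) S).comap (Cfsg.permRep (ZMod p) G' (ZMod p) g) := by
          rw [Submodule.span_le]
          rintro f (⟨b, c, hbc, rfl⟩ | rfl)
          · apply Submodule.subset_span
            left
            refine ⟨(g : Perm (ZMod p)) b, (g : Perm (ZMod p)) c,
              fun h => hbc ((g : Perm (ZMod p)).injective h), ?_⟩
            funext a
            exact vfun_smul G' g.2 b c a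
          · apply Submodule.subset_span
            right
            rfl
        exact hle hv }
  have hMdef : M.toSubmodule = Submodule.span (ZMod p) S := rfl
  have hC : (Cfsg.permConstants (ZMod p) G' (ZMod p)).toSubmodule ≤ M.toSubmodule := by
    apply Submodule.span_mono
    intro f hf
    rw [Set.mem_singleton_iff] at hf
    right; exact hf
  have hA : M.toSubmodule ≤ (Cfsg.permSumZero (ZMod p) G' (ZMod p)).toSubmodule := by
    rw [hMdef, Submodule.span_le]
    rintro f (⟨b, c, hbc, rfl⟩ | rfl)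
    · exact sum_vfun G' h2
    · show ∑ _x : ZMod p, (1 : ZMod p) = 0
      simp [ZMod.card]
  rcases Cfsg.Agent.S0674.result (ZMod.card p) G' hns M hC hA with h | h
  · -- M = constants
    have h1 : vfun G' 1 (-1) ∈ M.toSubmodule := by
      rw [hMdef]
      apply Submodule.subset_span
      left
      refine ⟨1, -1, ?_, rfl⟩
      intro h'
      apply h2
      linear_combination h'
    rw [h] at h1
    have h1' : vfun G' 1 (-1) ∈ Submodule.span (ZMod p) {fun _ : ZMod p => (1 : ZMod p)} := h1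
    rw [Submodule.mem_span_singleton] at h1'
    obtain ⟨c, hc⟩ := h1'
    have h01 : (0 : ZMod p) ≠ 1 := zero_ne_one
    have h0m1 : (0 : ZMod p) ≠ -1 := by
      intro h'; apply h01; linear_combination -h'
    have h0D : (0 : ZMod p) ∈ Dset G' 1 (-1) := by
      rw [mem_Dset]
      exact ⟨1, G'.one_mem, rfl, Or.inl ⟨rfl, rfl⟩⟩
    have hc1 : c = 1 := by
      have := congrFun hc 0
      simp only [Pi.smul_apply, smul_eq_mul, mul_one, vfun, h0D, if_true, if_neg h01,
        if_neg h0m1, add_zero, mul_zero, sub_zero] at this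
      exact this
    intro a ha1 ham1
    have haD : a ∈ Dset G' 1 (-1) := by
      by_contra hna
      have := congrFun hc a
      simp only [Pi.smul_apply, smul_eq_mul, mul_one, vfun, if_neg hna, if_neg ha1,
        if_neg ham1, add_zero, mul_zero, sub_zero, hc1] at this
      exact one_ne_zero this
    rw [mem_Dset] at haD
    obtain ⟨h, hh, h0, h1 | h1⟩ := haD
    · exact ⟨h, hh, h0, h1.1, h1.2⟩
    · refine ⟨h * Equiv.neg (ZMod p), G'.mul_mem hh hs, ?_, ?_, ?_⟩
      · rw [Perm.mul_apply, Equiv.neg_apply, neg_zero, h0]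
      · rw [Perm.mul_apply, Equiv.neg_apply, h1.2]
      · rw [Perm.mul_apply, Equiv.neg_apply, neg_neg, h1.1]
  · -- M = sum-zero: contradiction
    exfalso
    let ℓ : (ZMod p → ZMod p) →ₗ[ZMod p] ZMod p :=
      { toFun := fun f => ∑ a, a * f a
        map_add' := fun f g => by
          simp only [Pi.add_apply, mul_add, Finset.sum_add_distrib]
        map_smul' := fun c f => by
          simp only [Pi.smul_apply, smul_eq_mul, RingHom.id_apply, Finset.mul_sum]
          apply Finset.sum_congr rfl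
          intro a _; ring }
    have hℓM : M.toSubmodule ≤ LinearMap.ker ℓ := by
      rw [hMdef, Submodule.span_le]
      rintro f (⟨b, c, hbc, rfl⟩ | rfl)
      · exact sum_mul_vfun G' h2 hτ hs
      · show ∑ a : ZMod p, a * (1 : ZMod p) = 0
        have h3 := FiniteField.sum_pow_lt_card_sub_one (ZMod p) 1 (by
          rw [ZMod.card]
          have := hp.out.two_le
          omega)
        simpa using h3
    have hδ : (fun a : ZMod p => (if a = 1 then (1 : ZMod p) else 0) - (if a = 0 then 1 else 0))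
        ∈ M.toSubmodule := by
      rw [h]
      show ∑ a : ZMod p, ((if a = 1 then (1 : ZMod p) else 0) - (if a = 0 then 1 else 0)) = 0
      simp
    have h3 := hℓM hδ
    rw [LinearMap.mem_ker] at h3
    have h4 : ℓ (fun a : ZMod p => (if a = 1 then (1 : ZMod p) else 0) - (if a = 0 then 1 else 0))
        = 1 := by
      show ∑ a : ZMod p, a * ((if a = 1 then (1 : ZMod p) else 0) - (if a = 0 then 1 else 0)) = 1
      simp [mul_sub]
    rw [h4] at h3
    exact one_ne_zero h3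

end core3b

section core3c

variable {p : ℕ} [hp : Fact p.Prime] (G' : Subgroup (Perm (ZMod p)))

theorem three_trans_zmod (hp2 : p ≠ 2) (hτ : tr (1 : ZMod p) ∈ G')
    (hs : Equiv.neg (ZMod p) ∈ G') (hns : ¬ Group.IsSolvable G') :
    ∀ x₁ x₂ x₃ y₁ y₂ y₃ : ZMod p, x₁ ≠ x₂ → x₁ ≠ x₃ → x₂ ≠ x₃ → y₁ ≠ y₂ → y₁ ≠ y₃ → y₂ ≠ y₃ →
      ∃ g ∈ G', g x₁ = y₁ ∧ g x₂ = y₂ ∧ g x₃ = y₃ := by
  have h2 := two_ne_zero_of_odd hp2
  have hfix := exists_fix_pm_one G' hp2 hτ hs hns
  -- two-transitivity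
  have h2t : ∀ d₁ d₂ : ZMod p, d₁ ≠ 0 → d₂ ≠ 0 → ∃ g ∈ G', g 0 = 0 ∧ g d₁ = d₂ := by
    rcases Cfsg.Agent.S0675.core_dichotomy G' hτ with h | h
    · exact absurd (Cfsg.Agent.S0675.solvable_of_affine G' h) hns
    · exact h
  have hstd : ∀ x₁ x₂ x₃ : ZMod p, x₁ ≠ x₂ → x₁ ≠ x₃ → x₂ ≠ x₃ →
      ∃ g ∈ G', g x₁ = 1 ∧ g x₂ = -1 ∧ g x₃ = 0 := by
    intro x₁ x₂ x₃ h12 h13 h23
    have hd : x₂ - x₁ ≠ 0 := sub_ne_zero.2 (Ne.symm h12)
    have hm2 : (-2 : ZMod p) ≠ 0 := neg_ne_zero.2 h2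
    obtain ⟨g₁, hg₁, hg₁0, hg₁d⟩ := h2t _ _ hd hm2
    obtain ⟨g₂, hg₂def⟩ : ∃ g₂ : Perm (ZMod p), g₂ = tr 1 * g₁ * tr (-x₁) := ⟨_, rfl⟩
    have hg₂ : g₂ ∈ G' := by
      rw [hg₂def]
      exact G'.mul_mem (G'.mul_mem (tr_mem G' hτ _) hg₁) (tr_mem G' hτ _)
    have e1 : g₂ x₁ = 1 := by
      rw [hg₂def]
      simp only [Perm.mul_apply, tr_apply, add_neg_cancel, hg₁0, zero_add]
    have e2 : g₂ x₂ = -1 := by
      rw [hg₂def]
      simp only [Perm.mul_apply, tr_apply]
      rw [← sub_eq_add_neg, hg₁d]; ring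
    have ha1 : g₂ x₃ ≠ 1 := by
      rw [← e1]; exact fun h => h13 (g₂.injective h).symm
    have ha2 : g₂ x₃ ≠ -1 := by
      rw [← e2]; exact fun h => h23 (g₂.injective h).symm
    obtain ⟨h, hh, h0, h1, hm1⟩ := hfix _ ha1 ha2
    refine ⟨h⁻¹ * g₂, G'.mul_mem (G'.inv_mem hh) hg₂, ?_, ?_, ?_⟩
    · rw [Perm.mul_apply, e1, Perm.inv_eq_iff_eq, h1]
    · rw [Perm.mul_apply, e2, Perm.inv_eq_iff_eq, hm1]
    · rw [Perm.mul_apply, Perm.inv_eq_iff_eq, h0]
  intro x₁ x₂ x₃ y₁ y₂ y₃ hx12 hx13 hx23 hy12 hy13 hy23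
  obtain ⟨gx, hgx, hx1, hx2, hx3⟩ := hstd x₁ x₂ x₃ hx12 hx13 hx23
  obtain ⟨gy, hgy, hy1, hy2, hy3⟩ := hstd y₁ y₂ y₃ hy12 hy13 hy23
  refine ⟨gy⁻¹ * gx, G'.mul_mem (G'.inv_mem hgy) hgx, ?_, ?_, ?_⟩
  · rw [Perm.mul_apply, hx1, Perm.inv_eq_iff_eq, hy1]
  · rw [Perm.mul_apply, hx2, Perm.inv_eq_iff_eq, hy2]
  · rw [Perm.mul_apply, hx3, Perm.inv_eq_iff_eq, hy3]

end core3c

open Cfsg.Agent.Lib.H17.PrimeDegreeCoord in
/-- A non-solvable transitive permutation group of prime degree `p` whose Sylow `p`-normaliser has even order is triply transitive. -/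
theorem result {α : Type*} [Fintype α] [DecidableEq α] {p : ℕ} [Fact p.Prime] (hα : Fintype.card α = p) (G : Subgroup (Equiv.Perm α)) [MulAction.IsPretransitive G α] (hG : ¬ Group.IsSolvable G) (P : Sylow p G) (heven : Even (Nat.card (Subgroup.normalizer ((P : Subgroup G) : Set G)))) : MulAction.IsMultiplyPretransitive G α 3 := by
  classical
  have hpp : p.Prime := Fact.out
  have hp2 : p ≠ 2 := by
    intro hp2
    apply hG
    have h1 : Nat.card G ∣ 2 := by
      have hαc : Nat.card α = 2 := by rw [Nat.card_eq_fintype_card, hα, hp2]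
      have := Subgroup.card_subgroup_dvd_card G
      rwa [Nat.card_perm, hαc, Nat.factorial_two] at this
    haveI : Fact (Nat.Prime 2) := ⟨Nat.prime_two⟩
    have hPG : IsPGroup 2 G := by
      rcases (Nat.dvd_prime Nat.prime_two).1 h1 with h | h
      · exact IsPGroup.of_card (n := 0) (by rw [h, pow_zero])
      · exact IsPGroup.of_card (n := 1) (by rw [h, pow_one])
    haveI := hPG.isNilpotent
    infer_instance
  obtain ⟨t, s, ht, hs, n, hn⟩ := exists_normalizing_involution hα G P heven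
  have ht' : orderOf (t : Perm α) = p := by rw [Subgroup.orderOf_coe]; exact ht
  have hs' : orderOf (s : Perm α) = 2 := by rw [Subgroup.orderOf_coe]; exact hs
  obtain ⟨e, het, hes⟩ := exists_coord_neg hp2 hα (t : Perm α) (s : Perm α) ht' hs' n (by
    have := congrArg (Subtype.val : G → Perm α) hn
    simpa using this)
  let f : Perm α →* Perm (ZMod p) := (e.symm.permCongrHom : Perm α ≃* Perm (ZMod p)).toMonoidHom
  have hf : Function.Injective f := (e.symm.permCongrHom).injective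
  have hfapp : ∀ (σ : Perm α) x, f σ x = e.symm (σ (e x)) := fun σ x => rfl
  have hτ : tr (1 : ZMod p) ∈ G.map f := by
    refine ⟨(t : Perm α), t.2, ?_⟩
    ext x
    rw [hfapp, het, e.symm_apply_apply, tr_apply]
  have hsmem : Equiv.neg (ZMod p) ∈ G.map f := by
    refine ⟨(s : Perm α), s.2, ?_⟩
    ext x
    rw [hfapp, hes, e.symm_apply_apply, Equiv.neg_apply]
  have hns : ¬ Group.IsSolvable (G.map f) := by
    intro hsol
    apply hG
    exact Group.isSolvable_of_isSolvable_injective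
      (f := (G.equivMapOfInjective f hf).toMonoidHom) (G.equivMapOfInjective f hf).injective
  have key := three_trans_zmod (G.map f) hp2 hτ hsmem hns
  apply three_pretransitive_of
  intro x₁ x₂ x₃ y₁ y₂ y₃ hx12 hx13 hx23 hy12 hy13 hy23
  have hne : ∀ a b : α, a ≠ b → e.symm a ≠ e.symm b := fun a b hab h => hab (e.symm.injective h)
  obtain ⟨σ, ⟨g, hg, rfl⟩, h1, h2, h3⟩ := key _ _ _ _ _ _ (hne _ _ hx12) (hne _ _ hx13)
    (hne _ _ hx23) (hne _ _ hy12) (hne _ _ hy13) (hne _ _ hy23)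
  rw [hfapp, e.apply_symm_apply] at h1 h2 h3
  exact ⟨⟨g, hg⟩, e.symm.injective h1, e.symm.injective h2, e.symm.injective h3⟩

end Cfsg.Agent.S0676
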