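import Cfsg.Statements.S5426
import Cfsg.Agent.Lib.H27.LxStructG

set_option autoImplicit false
open Cfsg

namespace Cfsg.Agent.S5426

/-- Let Q be a large extraspecial 2-subgroup of the finite group G (extraspecial; centralizer equal to its centre; normal in the centralizer of its centre; normalizing no non-trivial subgroup of odd order) with centre generated by z, and let M be the normal closure of z in G. Then one of the following holds: Q is normal in G; or M is abelian and the generalized Fitting subgroup of G is its largest normal 2-subgroup; or M is the generalized Fitting subgroup of G and is a non-abelian simple group; or M is the generalized Fitting subgroup of G and is the direct product of a non-abelian simple subgroup L and its conjugate u L u⁻¹ by some u in Q (the two meet trivially and commute elementwise), with z = z₁ (u z₁ u⁻¹) for some z₁ in L whose centralizer in L is a Sylow 2-subgroup of L with Frattini subgroup inside the subgroup generated by z₁, and Q is not the largest normal 2-subgroup of the centralizer of z. -/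
theorem result {G : Type*} [Group G] [Finite G] (Q : Subgroup G) (hQ : Cfsg.IsLargeExtraspecial Q) (z : G) (hz : ((Subgroup.center ↥Q).map Q.subtype) = Subgroup.zpowers z) (M : Subgroup G) (hM : M = Subgroup.normalClosure ({z} : Set G)) : Q.Normal ∨ (IsMulCommutative ↥M ∧ Cfsg.generalizedFittingSubgroup G = Cfsg.pCore 2 G) ∨ (M = Cfsg.generalizedFittingSubgroup G ∧ IsSimpleGroup ↥M ∧ ¬ IsMulCommutative ↥M) ∨ (M = Cfsg.generalizedFittingSubgroup G ∧ ∃ (L : Subgroup G) (u : G), u ∈ Q ∧ IsSimpleGroup ↥L ∧ ¬ IsMulCommutative ↥L ∧ L ⊓ (L).map (MulAut.conj u).toMonoidHom = ⊥ ∧ (∀ x ∈ L, ∀ y ∈ (L).map (MulAut.conj u).toMonoidHom, x * y = y * x) ∧ L ⊔ (L).map (MulAut.conj u).toMonoidHom = M ∧ ∃ z₁ ∈ L, z = z₁ * (u * z₁ * u⁻¹) ∧ (∃ R : Sylow 2 ↥L, (R : Subgroup ↥L) = (Subgroup.centralizer ({z₁} : Set G)).subgroupOf L ∧ (frattini ↥(R : Subgroup ↥L)).map ((L.subtype).comp (R : Subgroup ↥L).subtype) ≤ Subgroup.zpowers z₁) ∧ Q ≠ (Cfsg.pCore 2 ↥(Subgroup.centralizer ({z} : Set G))).map (Subgroup.centralizer ({z} : Set G)).subtype) := by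
  open Cfsg.Agent.Lib.H27.LxS Cfsg.Agent.Lib.H4.Der in
  have h := mk_lctx Q hQ z hz
  subst hM
  by_cases hT : Cfsg.pCore 2 G = ⊥
  · have hzM : z ∈ Subgroup.normalClosure ({z} : Set G) :=
      Subgroup.subset_normalClosure (Set.mem_singleton z)
    have hmin := h.minNormal
    have hnab := h.not_comm hT
    have hF := h.fstar_eq hT
    obtain ⟨T, hTrel⟩ := exists_relMin hmin.ne_bot
    have c : Ctx (Subgroup.normalClosure ({z} : Set G)) T := ⟨hmin, hTrel, hnab⟩
    rcases conj_dichotomy h c hzM with hall | ⟨u, hu, hne, hall⟩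
    · right; right; left
      have hTn : T.Normal := by
        constructor
        intro n hn g
        have := conj_mem_cj (g := g) hn
        rwa [hall g] at this
      have hTM : T = Subgroup.normalClosure ({z} : Set G) :=
        hmin.min T hTn c.hT.ne_bot c.hT.le
      refine ⟨hF, ?_, ?_⟩
      · rw [← hTM]
        exact isSimpleGroup_T c
      · rw [isMulCommutative_iff]
        intro hab
        apply hnab
        intro a ha b hb
        exact congrArg Subtype.val (hab ⟨a, ha⟩ ⟨b, hb⟩)
    · right; right; right
      have w2 : Two Q z (Subgroup.normalClosure ({z} : Set G)) T u := ⟨h, c, hzM, hu, hne, hall⟩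
      obtain ⟨t0, ht0, hzt⟩ := w2.exists_z1
      have w : Two' Q z (Subgroup.normalClosure ({z} : Set G)) T u t0 := ⟨w2, ht0, hzt⟩
      obtain ⟨R, hR⟩ := w.exists_sylow
      refine ⟨hF, T, u, hu, isSimpleGroup_T c, ?_, w2.inf_eq_bot, ?_, w2.sup_eq, t0, ht0, hzt,
        ⟨R, hR, w.frattini_le R hR⟩, w.ne_pCore⟩
      · rw [isMulCommutative_iff]
        exact not_comm_T c
      · intro x hx y hy
        exact w2.comm_TT' hx hy
  · right; left
    refine ⟨?_, h.fstar_eq_pCore hT⟩
    rw [isMulCommutative_iff]
    intro a b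
    exact Subtype.ext (h.comm_of_pCore_ne_bot hT a.2 b.2)

end Cfsg.Agent.S5426
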