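-- Statement S5433 (row 5433).
import Cfsg.Statements.S5433
import Cfsg.Agent.Lib.H27.Basic

set_option autoImplicit false
open Cfsg

namespace Cfsg.Agent.S5433

/-- In a group of order two, two non-identity elements coincide. -/
theorem eq_of_ne_one_of_card_two {G : Type*} [Group G] (Z : Subgroup G) (hZ : Nat.card Z = 2)
    {a b : G} (ha : a ∈ Z) (hb : b ∈ Z) (ha1 : a ≠ 1) (hb1 : b ≠ 1) : a = b := by
  obtain ⟨y, _, hy⟩ := (Nat.card_eq_two_iff' (1 : Z)).mp hZ
  have h1 := hy ⟨a, ha⟩ (by intro h; exact ha1 (congrArg Subtype.val h))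
  have h2 := hy ⟨b, hb⟩ (by intro h; exact hb1 (congrArg Subtype.val h))
  exact congrArg Subtype.val (h1.trans h2.symm)

/-- Let Q be a large extraspecial 2-subgroup of the finite group G (extraspecial; centralizer equal to its centre; normal in the centralizer of its centre; normalizing no non-trivial subgroup of odd order), and L a normal subgroup of G containing Q. Then G is the product of L and the normalizer of Q. -/
theorem result {G : Type*} [Group G] [Finite G] (Q : Subgroup G) (hQ : Cfsg.IsLargeExtraspecial Q) (L : Subgroup G) [L.Normal] (hQL : Q ≤ L) : L ⊔ Subgroup.normalizer (Q : Set G) = ⊤ := by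
  obtain ⟨hL1, hL2, hL3, -⟩ := hQ
  haveI : Fact (Nat.Prime 2) := ⟨Nat.prime_two⟩
  set Z : Subgroup G := (Subgroup.center ↥Q).map Q.subtype with hZdef
  have hcardZ : Nat.card Z = 2 := by
    rw [hZdef, Subgroup.card_map_of_injective Q.subtype_injective]
    exact hL1.2
  have hQ2 : IsPGroup 2 Q := hL1.1.1
  have hQ' : IsPGroup 2 (Q.subgroupOf L) := hQ2.comap_subtype
  obtain ⟨S, hS⟩ := hQ'.exists_le_sylow
  set T : Subgroup G := (S : Subgroup L).map L.subtype with hTdef
  have hQT : Q ≤ T := by
    intro q hq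
    exact ⟨⟨q, hQL hq⟩, hS (by simpa [Subgroup.mem_subgroupOf] using hq), rfl⟩
  have hT2 : IsPGroup 2 T := S.isPGroup'.map L.subtype
  -- the "centre" of T inside G
  set W : Subgroup G := T ⊓ Subgroup.centralizer (T : Set G) with hWdef
  have hWZ : W ≤ Z := by
    intro w hw
    rw [← hL2]
    exact Subgroup.centralizer_le (by exact_mod_cast hQT) (Subgroup.mem_inf.mp hw).2
  have hZne : Z ≠ ⊥ := by
    intro h
    rw [h] at hcardZ
    simp at hcardZ
  have hTnt : Nontrivial T := by
    have : T ≠ ⊥ := by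
      intro h
      apply hZne
      have : Z ≤ T := by
        rintro _ ⟨x, _, rfl⟩
        exact hQT x.2
      exact le_bot_iff.mp (h ▸ this)
    exact (Subgroup.nontrivial_iff_ne_bot T).mpr this
  have hWne : W ≠ ⊥ := by
    have hc : Nontrivial (Subgroup.center T) := hT2.center_nontrivial
    obtain ⟨c, hc1⟩ := exists_ne (1 : Subgroup.center T)
    intro h
    have hcW : ((c : T) : G) ∈ W := by
      refine Subgroup.mem_inf.mpr ⟨(c : T).2, ?_⟩
      rw [Subgroup.mem_centralizer_iff]
      intro t ht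
      have := Subgroup.mem_center_iff.mp c.2 ⟨t, ht⟩
      exact congrArg Subtype.val this
    rw [h, Subgroup.mem_bot] at hcW
    apply hc1
    apply Subtype.ext
    apply Subtype.ext
    simpa using hcW
  have hWeq : W = Z := by
    apply Subgroup.eq_of_le_of_card_ge hWZ
    rw [hcardZ]
    have h1 : Nat.card W ≠ 1 := fun h => hWne (Subgroup.card_eq_one.mp h)
    have h0 : Nat.card W ≠ 0 := Nat.card_pos.ne'
    omega
  -- the normalizer of T lies in the normalizer of Q
  have hNT : Subgroup.normalizer (T : Set G) ≤ Subgroup.normalizer (Q : Set G) := by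
    intro n hn
    apply hL3
    rw [Subgroup.mem_centralizer_iff]
    intro z hz
    by_cases hz1 : z = 1
    · subst hz1; simp
    have hzW : z ∈ W := hWeq ▸ hz
    have hnz : n * z * n⁻¹ ∈ W := by
      rw [Subgroup.mem_normalizer_iff] at hn
      refine Subgroup.mem_inf.mpr ⟨(hn z).mp (Subgroup.mem_inf.mp hzW).1, ?_⟩
      rw [Subgroup.mem_centralizer_iff]
      intro t ht
      have ht' : n⁻¹ * t * n⁻¹⁻¹ ∈ T := by
        have := (hn (n⁻¹ * t * n⁻¹⁻¹)).mpr (by simpa [mul_assoc] using ht)
        exact this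
      have hcomm := (Subgroup.mem_centralizer_iff.mp (Subgroup.mem_inf.mp hzW).2) _ ht'
      calc t * (n * z * n⁻¹) = n * ((n⁻¹ * t * n⁻¹⁻¹) * z) * n⁻¹ := by group
        _ = n * (z * (n⁻¹ * t * n⁻¹⁻¹)) * n⁻¹ := by rw [hcomm]
        _ = n * z * n⁻¹ * t := by group
    have hnz1 : n * z * n⁻¹ ≠ 1 := by
      intro h
      apply hz1
      have : z = n⁻¹ * (n * z * n⁻¹) * n := by group
      rw [this, h]; group
    have := eq_of_ne_one_of_card_two Z hcardZ (hWeq ▸ hnz) hz hnz1 hz1
    calc z * n = (n * z * n⁻¹) * n := by rw [this]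
      _ = n * z := by group
  have hfr := Sylow.normalizer_sup_eq_top S
  rw [sup_comm]
  apply top_le_iff.mp
  rw [← hfr]
  exact sup_le_sup_right hNT L

end Cfsg.Agent.S5433
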