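import Mathlib
import Cfsg.Statements.S1477
import Cfsg.Agent.Lib.H8.Nilpotent

set_option autoImplicit false
open Cfsg
open Cfsg.Agent.Lib.H8

namespace Cfsg.Agent.S1477

section
variable {G : Type*} [Group G] [Finite G]

omit [Finite G] in
/-- central nontrivial elements of a maximal nilpotent subgroup have centralizer `H` -/
theorem centralizer_eq (hCN : Cfsg.IsCNGroup G) (H : Subgroup G)
    (hmax : ∀ L : Subgroup G, Group.IsNilpotent L → H ≤ L → L = H) {z : G} (hz1 : z ≠ 1)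
    (hzc : ∀ h ∈ H, z * h = h * z) : Subgroup.centralizer ({z} : Set G) = H := by
  apply hmax _ (hCN z hz1)
  intro h hh
  rw [Subgroup.mem_centralizer_iff]
  intro y hy
  rw [Set.mem_singleton_iff.mp hy]
  exact hzc h hh

omit [Finite G] in
theorem mem_centralizer_singleton {x c : G} : c ∈ Subgroup.centralizer ({x} : Set G) ↔ x * c = c * x := by
  rw [Subgroup.mem_centralizer_iff]
  constructor
  · intro h; exact h x rfl
  · intro h y hy; rw [Set.mem_singleton_iff.mp hy]; exact h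

theorem exists_central_of_pgroup (p : ℕ) [Fact p.Prime] (P : Subgroup G) (hP : IsPGroup p P)
    (hP1 : P ≠ ⊥) : ∃ y ∈ P, y ≠ 1 ∧ ∀ u ∈ P, y * u = u * y := by
  haveI : Nontrivial P := (Subgroup.nontrivial_iff_ne_bot P).mpr hP1
  haveI := hP.center_nontrivial
  obtain ⟨⟨y, hy⟩, hy1⟩ := exists_ne (1 : Subgroup.center P)
  refine ⟨y, y.2, ?_, ?_⟩
  · intro h
    apply hy1
    apply Subtype.ext
    apply Subtype.ext
    exact h
  · intro u hu
    have := Subgroup.mem_center_iff.mp hy ⟨u, hu⟩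
    exact (congrArg Subtype.val this).symm

theorem part_a (hCN : Cfsg.IsCNGroup G) (H : Subgroup G) (hH : Group.IsNilpotent H)
    (hmax : ∀ L : Subgroup G, Group.IsNilpotent L → H ≤ L → L = H) :
    (Nat.card H).Coprime H.index := by
  by_contra hnc
  obtain ⟨p, hp, hpH, hpI⟩ := Nat.Prime.not_coprime_iff_dvd.mp hnc
  haveI : Fact p.Prime := ⟨hp⟩
  obtain ⟨P, hPH, hPp, hPcard, hPall⟩ := sylow_of_nilpotent H hH p
  have hP1 : P ≠ ⊥ := by
    intro h
    rw [h, Subgroup.card_bot] at hPcard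
    have hv : 0 < (Nat.card H).factorization p :=
      hp.factorization_pos_of_dvd Nat.card_pos.ne' hpH
    have : 1 < p ^ (Nat.card H).factorization p := Nat.one_lt_pow hv.ne' hp.one_lt
    omega
  obtain ⟨y, hyP, hy1, hyc⟩ := exists_central_of_pgroup p P hPp hP1
  have hCy : Subgroup.centralizer ({y} : Set G) = H :=
    centralizer_eq hCN H hmax hy1 (central_of_sylow_central H hH p P hPH hPp hPall hyP hyc)
  obtain ⟨S, hPS⟩ := hPp.exists_le_sylow
  have hS1 : (S : Subgroup G) ≠ ⊥ := fun h => hP1 (le_bot_iff.mp (h ▸ hPS))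
  obtain ⟨w, hwS, hw1, hwc⟩ := exists_central_of_pgroup p (S : Subgroup G) S.isPGroup' hS1
  have hwH : w ∈ H := by
    rw [← hCy, mem_centralizer_singleton]
    exact (hwc y (hPS hyP)).symm
  have hwP : w ∈ P := hPall w hwH (by
    obtain ⟨k, hk⟩ := S.isPGroup' ⟨w, hwS⟩
    exact ⟨k, by simpa using congrArg Subtype.val hk⟩)
  have hCw : Subgroup.centralizer ({w} : Set G) = H :=
    centralizer_eq hCN H hmax hw1 (central_of_sylow_central H hH p P hPH hPp hPall hwP
      (fun u hu => hwc u (hPS hu)))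
  have hSH : (S : Subgroup G) ≤ H := by
    intro s hs
    rw [← hCw, mem_centralizer_singleton]
    exact hwc s hs
  have := Subgroup.relIndex_mul_index hSH
  exact S.not_dvd_index (this ▸ Dvd.dvd.mul_left hpI _)

omit [Finite G] in
theorem exists_pow_eq_one_of_isPGroup {p : ℕ} {P : Subgroup G} (hP : IsPGroup p P) {u : G}
    (hu : u ∈ P) : ∃ k : ℕ, u ^ p ^ k = 1 := by
  obtain ⟨k, hk⟩ := hP ⟨u, hu⟩
  refine ⟨k, ?_⟩
  have := congrArg Subtype.val hk
  rwa [Subgroup.coe_pow, Subgroup.coe_one] at this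

omit [Finite G] in
theorem conj_pow_eq_one {c h : G} {n : ℕ} (hn : h ^ n = 1) : (c * h * c⁻¹) ^ n = 1 := by
  rw [conj_pow, hn]; group

theorem card_sylow_eq (H : Subgroup G) (hcop : (Nat.card H).Coprime H.index) (p : ℕ)
    (hp : p.Prime) (hpH : p ∣ Nat.card H) :
    (Nat.card H).factorization p = (Nat.card G).factorization p := by
  have h1 : Nat.card G = Nat.card H * H.index := (Subgroup.card_mul_index H).symm
  have hidx : H.index ≠ 0 := Subgroup.index_ne_zero_of_finite
  rw [h1, Nat.factorization_mul Nat.card_pos.ne' hidx]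
  have : ¬ p ∣ H.index := by
    intro hd
    exact hp.one_lt.ne' (Nat.eq_one_of_dvd_coprimes hcop hpH hd)
  simp [Nat.factorization_eq_zero_of_not_dvd this]

theorem part_b (hCN : Cfsg.IsCNGroup G) (H : Subgroup G) (hH : Group.IsNilpotent H)
    (hmax : ∀ L : Subgroup G, Group.IsNilpotent L → H ≤ L → L = H)
    (hnpp : ¬ IsPrimePow (Nat.card H)) (h1 : Nat.card H ≠ 1) (g : G)
    (hg : H.map (MulAut.conj g).toMonoidHom ≠ H) :
    H ⊓ H.map (MulAut.conj g).toMonoidHom = ⊥ := by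
  by_contra hne
  rw [Subgroup.eq_bot_iff_forall] at hne
  push Not at hne
  obtain ⟨x₀, hx₀, hx₀1⟩ := hne
  have hcop := part_a hCN H hH hmax
  -- an element of prime order in the intersection
  have hn1 : orderOf x₀ ≠ 1 := fun h => hx₀1 (orderOf_eq_one_iff.mp h)
  have hp : (orderOf x₀).minFac.Prime := Nat.minFac_prime hn1
  obtain ⟨p, hpdef⟩ : ∃ p, p = (orderOf x₀).minFac := ⟨_, rfl⟩
  rw [← hpdef] at hp
  have hpdvd : p ∣ orderOf x₀ := hpdef ▸ Nat.minFac_dvd _
  obtain ⟨x, hxdef⟩ : ∃ x, x = x₀ ^ (orderOf x₀ / p) := ⟨_, rfl⟩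
  have hxord : orderOf x = p := by
    rw [hxdef]; exact orderOf_pow_orderOf_div (orderOf_pos x₀).ne' hpdvd
  have hxmem : x ∈ H ⊓ H.map (MulAut.conj g).toMonoidHom := by
    rw [hxdef]; exact Subgroup.pow_mem _ hx₀ _
  have hx1 : x ≠ 1 := by
    intro h
    rw [h, orderOf_one] at hxord
    exact hp.one_lt.ne' hxord.symm
  have hxH : x ∈ H := hxmem.1
  obtain ⟨h₀, hh₀H, hh₀x⟩ := hxmem.2
  simp only [MulEquiv.coe_toMonoidHom, MulAut.conj_apply] at hh₀x
  have hpH : p ∣ Nat.card H := hxord ▸ Subgroup.orderOf_dvd_natCard H hxH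
  -- a second prime
  obtain ⟨q, hq, hqH, hqp⟩ : ∃ q : ℕ, q.Prime ∧ q ∣ Nat.card H ∧ q ≠ p := by
    by_contra hcon
    push Not at hcon
    have := Nat.eq_prime_pow_of_unique_prime_dvd (n := Nat.card H) (p := p) Nat.card_pos.ne'
      (fun {d} hd hdn => hcon d hd hdn)
    apply hnpp
    rw [this]
    apply hp.isPrimePow.pow
    intro h0
    rw [h0, pow_zero] at this
    exact h1 this
  haveI : Fact q.Prime := ⟨hq⟩
  obtain ⟨Q, hQH, hQq, hQcard, hQall⟩ := sylow_of_nilpotent H hH q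
  rw [card_sylow_eq H hcop q hq hqH] at hQcard
  have hQ1 : Q ≠ ⊥ := by
    intro h
    rw [h, Subgroup.card_bot] at hQcard
    have hv : 0 < (Nat.card G).factorization q := by
      rw [← card_sylow_eq H hcop q hq hqH]
      exact hq.factorization_pos_of_dvd Nat.card_pos.ne' hqH
    have : 1 < q ^ (Nat.card G).factorization q := Nat.one_lt_pow hv.ne' hq.one_lt
    omega
  have hpq : ∀ k : ℕ, Nat.Coprime p (q ^ k) := fun k =>
    Nat.Coprime.pow_right k ((Nat.coprime_primes hp hq).mpr hqp.symm)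
  have horderQ : ∀ u ∈ Q, ∃ k, orderOf u = q ^ k := by
    intro u hu
    obtain ⟨k, hk⟩ := (IsPGroup.iff_orderOf.mp hQq) ⟨u, hu⟩
    rw [Subgroup.orderOf_mk] at hk
    exact ⟨k, hk⟩
  -- Q and its conjugate centralize x
  have hQC : Q ≤ Subgroup.centralizer ({x} : Set G) := by
    intro u hu
    rw [mem_centralizer_singleton]
    obtain ⟨k, hk⟩ := horderQ u hu
    exact mul_comm_of_coprime_of_mem_nilpotent H hH hxH (hQH hu) (by rw [hxord, hk]; exact hpq k)
  have hh₀ord : orderOf h₀ ∣ p := by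
    apply orderOf_dvd_of_pow_eq_one
    have : h₀ = g⁻¹ * x * g⁻¹⁻¹ := by rw [← hh₀x]; group
    rw [this]
    apply conj_pow_eq_one
    rw [← hxord]; exact pow_orderOf_eq_one x
  have hQgC : Q.map (MulAut.conj g).toMonoidHom ≤ Subgroup.centralizer ({x} : Set G) := by
    rintro v ⟨u, hu, rfl⟩
    simp only [MulEquiv.coe_toMonoidHom, MulAut.conj_apply]
    rw [mem_centralizer_singleton]
    obtain ⟨k, hk⟩ := horderQ u hu
    have hc : h₀ * u = u * h₀ :=
      mul_comm_of_coprime_of_mem_nilpotent H hH hh₀H (hQH hu)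
        (by rw [hk]; exact Nat.Coprime.coprime_dvd_left hh₀ord (hpq k))
    rw [← hh₀x]
    calc g * h₀ * g⁻¹ * (g * u * g⁻¹) = g * (h₀ * u) * g⁻¹ := by group
      _ = g * (u * h₀) * g⁻¹ := by rw [hc]
      _ = g * u * g⁻¹ * (g * h₀ * g⁻¹) := by group
  -- the Sylow q-subgroup of the nilpotent centralizer
  obtain ⟨R, hRC, hRq, hRcard, hRall⟩ :=
    sylow_of_nilpotent (Subgroup.centralizer ({x} : Set G)) (hCN x hx1) q
  have hRle : Nat.card R ≤ Nat.card Q := by
    rw [hRcard, hQcard]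
    apply Nat.pow_le_pow_right hq.pos
    exact (Nat.factorization_le_iff_dvd Nat.card_pos.ne' Nat.card_pos.ne').mpr
      (Subgroup.card_subgroup_dvd_card _) q
  have hQR : Q ≤ R := by
    intro u hu
    exact hRall u (hQC hu) (exists_pow_eq_one_of_isPGroup hQq hu)
  have hQgq : IsPGroup q (Q.map (MulAut.conj g).toMonoidHom) := hQq.map _
  have hQgR : Q.map (MulAut.conj g).toMonoidHom ≤ R := by
    intro u hu
    exact hRall u (hQgC hu) (exists_pow_eq_one_of_isPGroup hQgq hu)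
  have hQeqR : Q = R := Subgroup.eq_of_le_of_card_ge hQR hRle
  have hQgeqR : Q.map (MulAut.conj g).toMonoidHom = R := by
    apply Subgroup.eq_of_le_of_card_ge hQgR
    rw [Subgroup.card_map_of_injective (MulAut.conj g).injective]
    exact hRle
  have hQg : Q.map (MulAut.conj g).toMonoidHom = Q := hQgeqR.trans hQeqR.symm
  -- central elements
  obtain ⟨y, hyQ, hy1, hyc⟩ := exists_central_of_pgroup q Q hQq hQ1
  have hCy : Subgroup.centralizer ({y} : Set G) = H :=
    centralizer_eq hCN H hmax hy1 (central_of_sylow_central H hH q Q hQH hQq hQall hyQ hyc)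
  have hyQg : y ∈ Q.map (MulAut.conj g).toMonoidHom := by rw [hQg]; exact hyQ
  obtain ⟨u, huQ, huy⟩ := hyQg
  simp only [MulEquiv.coe_toMonoidHom, MulAut.conj_apply] at huy
  have hu1 : u ≠ 1 := by
    rintro rfl
    apply hy1
    rw [← huy]; group
  have huc : ∀ v ∈ Q, u * v = v * u := by
    intro v hv
    have hgv : g * v * g⁻¹ ∈ Q := by
      rw [← hQg]; exact ⟨v, hv, by simp⟩
    have := hyc _ hgv
    rw [← huy] at this
    have h2 : g * (u * v) * g⁻¹ = g * (v * u) * g⁻¹ := by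
      calc g * (u * v) * g⁻¹ = g * u * g⁻¹ * (g * v * g⁻¹) := by group
        _ = g * v * g⁻¹ * (g * u * g⁻¹) := this
        _ = g * (v * u) * g⁻¹ := by group
    exact mul_left_cancel (mul_right_cancel h2)
  have hCu : Subgroup.centralizer ({u} : Set G) = H :=
    centralizer_eq hCN H hmax hu1 (central_of_sylow_central H hH q Q hQH hQq hQall huQ huc)
  apply hg
  apply Subgroup.eq_of_le_of_card_ge
  · rintro v ⟨h, hh, rfl⟩
    simp only [MulEquiv.coe_toMonoidHom, MulAut.conj_apply]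
    rw [← hCy, mem_centralizer_singleton, ← huy]
    have hc : u * h = h * u := by
      have hh' : h ∈ H := hh
      rw [← hCu, mem_centralizer_singleton] at hh'
      exact hh'
    calc g * u * g⁻¹ * (g * h * g⁻¹) = g * (u * h) * g⁻¹ := by group
      _ = g * (h * u) * g⁻¹ := by rw [hc]
      _ = g * h * g⁻¹ * (g * u * g⁻¹) := by group
  · rw [Subgroup.card_map_of_injective (MulAut.conj g).injective]

theorem part_c (hCN : Cfsg.IsCNGroup G) (H : Subgroup G) (hH : Group.IsNilpotent H)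
    (hmax : ∀ L : Subgroup G, Group.IsNilpotent L → H ≤ L → L = H)
    (hTI : ∀ g : G, H.map (MulAut.conj g).toMonoidHom ≠ H →
      H ⊓ H.map (MulAut.conj g).toMonoidHom = ⊥) :
    ∀ x ∈ H, x ≠ 1 → Subgroup.centralizer ({x} : Set G) ≤ H := by
  intro x hx hx1 c hc
  have hcop := part_a hCN H hH hmax
  have hzC : Subgroup.zpowers c ≤ Subgroup.centralizer ({x} : Set G) := by
    rw [Subgroup.zpowers_le]; exact hc
  -- elements of `⟨c⟩` normalize `H`
  have hnorm : ∀ d ∈ Subgroup.zpowers c, H.map (MulAut.conj d).toMonoidHom = H := by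
    intro d hd
    by_contra hne
    have hbot := hTI d hne
    have hdx : x * d = d * x := mem_centralizer_singleton.mp (hzC hd)
    have hxmem : x ∈ H ⊓ H.map (MulAut.conj d).toMonoidHom := by
      refine ⟨hx, ⟨x, hx, ?_⟩⟩
      simp only [MulEquiv.coe_toMonoidHom, MulAut.conj_apply]
      rw [← hdx]; group
    rw [hbot] at hxmem
    exact hx1 (Subgroup.mem_bot.mp hxmem)
  -- a central element of prime order
  haveI := hH
  haveI : Nontrivial H := ⟨⟨⟨x, hx⟩, 1, fun h => hx1 (congrArg Subtype.val h)⟩⟩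
  have hcen : Subgroup.center H ≠ ⊥ := Group.IsNilpotent.center_ne_bot H
  rw [Ne, Subgroup.eq_bot_iff_forall] at hcen
  push Not at hcen
  obtain ⟨⟨z₀, hz₀H⟩, hz₀c, hz₀1⟩ := hcen
  have hz₀1' : z₀ ≠ 1 := fun h => hz₀1 (Subtype.ext h)
  have hz₀c' : ∀ h ∈ H, z₀ * h = h * z₀ := by
    intro h hh
    have := Subgroup.mem_center_iff.mp hz₀c ⟨h, hh⟩
    exact (congrArg Subtype.val this).symm
  have hn1 : orderOf z₀ ≠ 1 := fun h => hz₀1' (orderOf_eq_one_iff.mp h)
  have hp : (orderOf z₀).minFac.Prime := Nat.minFac_prime hn1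
  obtain ⟨p, hpdef⟩ : ∃ p, p = (orderOf z₀).minFac := ⟨_, rfl⟩
  rw [← hpdef] at hp
  have hpdvd : p ∣ orderOf z₀ := hpdef ▸ Nat.minFac_dvd _
  obtain ⟨z, hzdef⟩ : ∃ z, z = z₀ ^ (orderOf z₀ / p) := ⟨_, rfl⟩
  have hzord : orderOf z = p := by
    rw [hzdef]; exact orderOf_pow_orderOf_div (orderOf_pos z₀).ne' hpdvd
  have hz1 : z ≠ 1 := by
    intro h
    rw [h, orderOf_one] at hzord
    exact hp.one_lt.ne' hzord.symm
  have hzH : z ∈ H := by rw [hzdef]; exact H.pow_mem hz₀H _
  have hzc : ∀ h ∈ H, z * h = h * z := by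
    intro h hh
    rw [hzdef]
    exact ((show Commute z₀ h from hz₀c' h hh).pow_left _).eq
  have hCz : Subgroup.centralizer ({z} : Set G) = H := centralizer_eq hCN H hmax hz1 hzc
  have hzCx : z ∈ Subgroup.centralizer ({x} : Set G) :=
    mem_centralizer_singleton.mpr (hzc x hx).symm
  haveI : Fact p.Prime := ⟨hp⟩
  have hpH : p ∣ Nat.card H := hzord ▸ Subgroup.orderOf_dvd_natCard H hzH
  -- decompose `c`
  obtain ⟨c₁, c₂, hc₁, hc₂, hdec, hc₁p, hc₂p⟩ := exists_p_decomp c (orderOf_pos c).ne' p hp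
  have hc₂H : c₂ ∈ H := by
    rw [← hCz, mem_centralizer_singleton]
    exact mul_comm_of_coprime_of_mem_nilpotent _ (hCN x hx1) hzCx (hzC hc₂)
      (by rw [hzord]; exact hc₂p.symm)
  have hc₁H : c₁ ∈ H := by
    obtain ⟨P, hPH, hPp, hPcard, hPall⟩ := sylow_of_nilpotent H hH p
    rw [card_sylow_eq H hcop p hp hpH] at hPcard
    obtain ⟨k, hk⟩ := hc₁p
    have hconj : ∀ d ∈ Subgroup.zpowers c, ∀ h ∈ P, d * h * d⁻¹ ∈ P := by
      intro d hd h hh
      apply hPall
      · rw [← hnorm d hd]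
        exact ⟨h, hPH hh, by simp⟩
      · obtain ⟨j, hj⟩ := exists_pow_eq_one_of_isPGroup hPp hh
        exact ⟨j, conj_pow_eq_one hj⟩
    have hc₁N : Subgroup.zpowers c₁ ≤ Subgroup.normalizer (P : Set G) := by
      rw [Subgroup.zpowers_le, Subgroup.mem_normalizer_iff]
      intro h
      constructor
      · intro hh; exact hconj c₁ hc₁ h hh
      · intro hh
        have := hconj c₁⁻¹ (Subgroup.inv_mem _ hc₁) _ hh
        have e : c₁⁻¹ * (c₁ * h * c₁⁻¹) * c₁⁻¹⁻¹ = h := by group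
        rwa [e] at this
    have hzp : IsPGroup p (Subgroup.zpowers c₁) := by
      rintro ⟨d, hd⟩
      obtain ⟨i, rfl⟩ := Subgroup.mem_zpowers_iff.mp hd
      refine ⟨k, ?_⟩
      apply Subtype.ext
      simp only [Subgroup.coe_pow, Subgroup.coe_one]
      rw [← zpow_natCast, ← zpow_mul, mul_comm, zpow_mul, zpow_natCast, hk, one_zpow]
    have hT : IsPGroup p (Subgroup.zpowers c₁ ⊔ P : Subgroup G) :=
      IsPGroup.to_sup_of_normal_right' hzp hPp hc₁N
    obtain ⟨S, hTS⟩ := hT.exists_le_sylow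
    have hPS : P = (S : Subgroup G) := by
      apply Subgroup.eq_of_le_of_card_ge (le_sup_right.trans hTS)
      rw [hPcard, Sylow.card_eq_multiplicity]
    apply hPH
    rw [hPS]
    exact hTS (Subgroup.mem_sup_left (Subgroup.mem_zpowers c₁))
  rw [hdec]
  exact H.mul_mem hc₁H hc₂H

end

/-- Let G be a finite group in which every non-identity element has nilpotent centralizer, and H a nilpotent subgroup not properly contained in any nilpotent subgroup. Then the order of H is coprime to its index; if the order of H is not a prime power then H ∩ gHg⁻¹ = 1 whenever gHg⁻¹ ≠ H; and if H ∩ gHg⁻¹ = 1 whenever gHg⁻¹ ≠ H, then C_G(x) ≤ H for every non-identity x ∈ H. -/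
theorem result {G : Type*} [Group G] [Finite G] (hCN : Cfsg.IsCNGroup G) (H : Subgroup G) (hH : Group.IsNilpotent H)
    (hmax : ∀ L : Subgroup G, Group.IsNilpotent L → H ≤ L → L = H) :
    (Nat.card H).Coprime H.index ∧
      (¬ IsPrimePow (Nat.card H) → Nat.card H ≠ 1 → ∀ g : G, H.map (MulAut.conj g).toMonoidHom ≠ H → H ⊓ H.map (MulAut.conj g).toMonoidHom = ⊥) ∧
      ((∀ g : G, H.map (MulAut.conj g).toMonoidHom ≠ H → H ⊓ H.map (MulAut.conj g).toMonoidHom = ⊥) → ∀ x ∈ H, x ≠ 1 → Subgroup.centralizer ({x} : Set G) ≤ H) := by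
  refine ⟨part_a hCN H hH hmax, ?_, part_c hCN H hH hmax⟩
  intro hnpp h1 g hg
  exact part_b hCN H hH hmax hnpp h1 g hg

end Cfsg.Agent.S1477
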