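import Mathlib
import Cfsg.Statements.S0183
import Cfsg.Agent.Lib.H8.MinSimpleFalse
import Cfsg.Agent.S1473

set_option autoImplicit false
open Cfsg

namespace Cfsg.Agent.S0183

universe u

open Cfsg.Agent.Lib.H8 in
/-- The CN-theorem for odd order, by induction on the order. -/
theorem cn_odd_solvable : ∀ (n : ℕ) (G : Type u) [Group G] [Finite G], Nat.card G = n →
    Odd (Nat.card G) → Cfsg.IsCNGroup G → Group.IsSolvable G := by
  intro n
  induction n using Nat.strong_induction_on with
  | _ n ih =>
    intro G _ _ hn hodd hCN
    -- proper subgroups are solvable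
    have hsub : ∀ K : Subgroup G, K ≠ ⊤ → Group.IsSolvable K := by
      intro K hK
      have hlt : Nat.card K < n := by
        rw [← hn]
        exact lt_of_le_of_ne (Subgroup.card_le_card_group K)
          (fun h => hK (Subgroup.card_eq_iff_eq_top K |>.mp h))
      exact ih _ hlt K rfl (Odd.of_dvd_nat hodd (Subgroup.card_subgroup_dvd_card K))
        (isCNGroup_of_injective K.subtype K.subtype_injective hCN)
    by_cases hnt : Nontrivial G
    · by_cases hsimple : IsSimpleGroup G
      · by_cases hcomm : IsMulCommutative G
        · exact Group.isSolvable_of_comm (fun a b => hcomm.1.1 a b)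
        · exact (minSimple_cn_false (G := G) ⟨hodd, hsimple, hcomm, hsub⟩ hCN).elim
      · -- a proper nontrivial normal subgroup
        obtain ⟨N, hNn, hN1, hN2⟩ : ∃ N : Subgroup G, N.Normal ∧ N ≠ ⊥ ∧ N ≠ ⊤ := by
          by_contra hcon
          push Not at hcon
          apply hsimple
          exact ⟨fun N hN => by
            by_cases h1 : N = ⊥
            · exact Or.inl h1
            · exact Or.inr (hcon N hN h1)⟩
        haveI := hNn
        haveI : Group.IsSolvable N := hsub N hN2
        have hCNq : Cfsg.IsCNGroup (G ⧸ N) := Cfsg.Agent.S1473.result hCN N inferInstance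
        have hcardq : Nat.card (G ⧸ N) < n := by
          rw [← hn, ← Subgroup.index_eq_card, ← Subgroup.card_mul_index N]
          have h1 : 1 < Nat.card N := N.one_lt_card_iff_ne_bot.mpr hN1
          have h2 : 0 < N.index := Nat.pos_of_ne_zero Subgroup.index_ne_zero_of_finite
          nlinarith
        have hoddq : Odd (Nat.card (G ⧸ N)) := by
          rw [← Subgroup.index_eq_card]
          exact Odd.of_dvd_nat hodd (Subgroup.index_dvd_card N)
        haveI : Group.IsSolvable (G ⧸ N) := ih _ hcardq (G ⧸ N) rfl hoddq hCNq
        apply Group.isSolvable_of_ker_le_range N.subtype (QuotientGroup.mk' N)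
        rw [QuotientGroup.ker_mk', Subgroup.range_subtype]
    · rw [not_nontrivial_iff_subsingleton] at hnt
      exact Group.isSolvable_of_comm (fun a b => Subsingleton.elim _ _)

/-- The CN-Theorem for odd order: a finite group of odd order in which every non-identity element has a nilpotent centralizer (a CN-group) is solvable. -/
theorem result {G : Type*} [Group G] [Finite G] (hodd : Odd (Nat.card G)) (hCN : Cfsg.IsCNGroup G) : Group.IsSolvable G := by
  exact cn_odd_solvable _ G rfl hodd hCN

end Cfsg.Agent.S0183
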