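import Mathlib
import Cfsg.Statements.S2507
import Cfsg.Agent.Lib.H12.SL2RegCard
import Cfsg.Agent.Lib.H12.SL2Ell
import Cfsg.Agent.Lib.H12.CardSL

set_option autoImplicit false
open Cfsg

namespace Cfsg.Agent.S2507

open Matrix Cfsg.Agent.Lib.H12

section
variable {F : Type*} [Field F]

local notation "SL2" => Matrix.SpecialLinearGroup (Fin 2) F
local notation "M2" => Matrix (Fin 2) (Fin 2) F

theorem two_eq_zero' [CharP F 2] : (2 : F) = 0 := by
  exact_mod_cast CharP.cast_eq_zero F 2

/-- a torus element -/
def uMk [CharP F 2] (y : F) : SL2 := ⟨!![1 + y, -y; y, 1 + y], by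
  have h2 : (2 : F) = 0 := two_eq_zero'
  rw [Matrix.det_fin_two_of]; linear_combination (y + y ^ 2) * h2⟩

theorem uMk_val [CharP F 2] (y : F) : ((uMk y : SL2) : M2) = !![1 + y, -y; y, 1 + y] := rfl

theorem uMk_mem [CharP F 2] (y : F) : uMk y ∈ torusT (0 : F) := by
  rw [mem_torusT, uMk_val]; simp

/-- the unipotent torus in characteristic two has `q` elements -/
theorem card_torusT_zero [Fintype F] [CharP F 2] : Nat.card (torusT (0 : F)) = Fintype.card F := by
  have h2 : (2 : F) = 0 := two_eq_zero'
  rw [← Nat.card_eq_fintype_card]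
  apply Nat.card_congr
  refine Equiv.symm
    { toFun := fun y => ⟨uMk y, uMk_mem y⟩
      invFun := fun g => (g.1 : M2) 1 0
      left_inv := fun y => by simp [uMk_val]
      right_inv := fun g => by
        obtain ⟨h01, h11⟩ := (mem_torusT _ _).mp g.2
        have hdet := g.1.det_coe
        rw [Matrix.det_fin_two, h01, h11] at hdet
        have h3 : ((g.1 : M2) 0 0 + (g.1 : M2) 1 0 + 1) ^ 2 = 0 := by
          linear_combination hdet + ((g.1 : M2) 0 0 * (g.1 : M2) 1 0 + (g.1 : M2) 0 0 + (g.1 : M2) 1 0 + 1) * h2
        have h4 : (g.1 : M2) 0 0 = 1 + (g.1 : M2) 1 0 := by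
          have := pow_eq_zero_iff (two_ne_zero) |>.mp h3
          linear_combination this - ((g.1 : M2) 1 0 + 1) * h2
        apply Subtype.ext
        apply Subtype.ext
        ext i j
        fin_cases i <;> fin_cases j
        · simp [uMk_val, h4]
        · simp [uMk_val, h01]
        · simp [uMk_val]
        · simp [uMk_val, h11, h4] }

/-- diagonal elements -/
def dMk (x : Fˣ) : SL2 := ⟨!![(x : F), 0; 0, ((x⁻¹ : Fˣ) : F)], by
  rw [Matrix.det_fin_two_of]; simp⟩

theorem dMk_val (x : Fˣ) : ((dMk x : SL2) : M2) = !![(x : F), 0; 0, ((x⁻¹ : Fˣ) : F)] := rfl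

/-- the centralizer of a regular diagonal element has `q - 1` elements -/
theorem card_centralizer_dMk [Fintype F] (r : Fˣ) (hr : (r : F) ≠ ((r⁻¹ : Fˣ) : F)) :
    Nat.card (Subgroup.centralizer ({dMk r} : Set SL2)) = Fintype.card F - 1 := by
  classical
  rw [← Fintype.card_units, ← Nat.card_eq_fintype_card]
  apply Nat.card_congr
  refine Equiv.symm
    { toFun := fun x => ⟨dMk x, by
          rw [Subgroup.mem_centralizer_singleton_iff]
          apply Subtype.ext
          rw [Matrix.SpecialLinearGroup.coe_mul, Matrix.SpecialLinearGroup.coe_mul, dMk_val, dMk_val]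
          ext i j
          fin_cases i <;> fin_cases j <;> simp [Matrix.mul_apply, Fin.sum_univ_two, mul_comm]⟩
      invFun := fun g => ⟨(g.1 : M2) 0 0, (g.1 : M2) 1 1, by
          have hg := Subgroup.mem_centralizer_singleton_iff.mp g.2
          have h' := congrArg (fun x : SL2 => (x : M2)) hg
          simp only [Matrix.SpecialLinearGroup.coe_mul, dMk_val] at h'
          have e01 := congrFun (congrFun h' 0) 1
          simp [Matrix.mul_apply, Fin.sum_univ_two] at e01
          have h01 : (g.1 : M2) 0 1 = 0 := by
            have h5 : ((r : F) - ((r⁻¹ : Fˣ) : F)) * (g.1 : M2) 0 1 = 0 := by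
              have : ((r⁻¹ : Fˣ) : F) = (r : F)⁻¹ := by simp
              rw [this]
              linear_combination -e01
            exact (mul_eq_zero.mp h5).resolve_left (sub_ne_zero.mpr hr)
          have hdet := g.1.det_coe
          rw [Matrix.det_fin_two, h01, zero_mul, sub_zero] at hdet
          exact hdet, by
          have hg := Subgroup.mem_centralizer_singleton_iff.mp g.2
          have h' := congrArg (fun x : SL2 => (x : M2)) hg
          simp only [Matrix.SpecialLinearGroup.coe_mul, dMk_val] at h'
          have e01 := congrFun (congrFun h' 0) 1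
          simp [Matrix.mul_apply, Fin.sum_univ_two] at e01
          have h01 : (g.1 : M2) 0 1 = 0 := by
            have h5 : ((r : F) - ((r⁻¹ : Fˣ) : F)) * (g.1 : M2) 0 1 = 0 := by
              have : ((r⁻¹ : Fˣ) : F) = (r : F)⁻¹ := by simp
              rw [this]
              linear_combination -e01
            exact (mul_eq_zero.mp h5).resolve_left (sub_ne_zero.mpr hr)
          have hdet := g.1.det_coe
          rw [Matrix.det_fin_two, h01, zero_mul, sub_zero] at hdet
          rw [mul_comm]
          exact hdet⟩
      left_inv := fun x => by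
        apply Units.ext
        simp [dMk_val]
      right_inv := fun g => by
        have hg := Subgroup.mem_centralizer_singleton_iff.mp g.2
        have h' := congrArg (fun x : SL2 => (x : M2)) hg
        simp only [Matrix.SpecialLinearGroup.coe_mul, dMk_val] at h'
        have e01 := congrFun (congrFun h' 0) 1
        have e10 := congrFun (congrFun h' 1) 0
        simp [Matrix.mul_apply, Fin.sum_univ_two] at e01 e10
        have hri : ((r⁻¹ : Fˣ) : F) = (r : F)⁻¹ := by simp
        have h01 : (g.1 : M2) 0 1 = 0 := by
          have h5 : ((r : F) - ((r⁻¹ : Fˣ) : F)) * (g.1 : M2) 0 1 = 0 := by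
            rw [hri]
            linear_combination -e01
          exact (mul_eq_zero.mp h5).resolve_left (sub_ne_zero.mpr hr)
        have h10 : (g.1 : M2) 1 0 = 0 := by
          have h5 : ((r : F) - ((r⁻¹ : Fˣ) : F)) * (g.1 : M2) 1 0 = 0 := by
            rw [hri]
            linear_combination e10
          exact (mul_eq_zero.mp h5).resolve_left (sub_ne_zero.mpr hr)
        apply Subtype.ext
        apply Subtype.ext
        ext i j
        fin_cases i <;> fin_cases j
        · simp [dMk_val]
        · simp [dMk_val, h01]
        · simp [dMk_val, h10]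
        · simp [dMk_val] }


/-- index of the centralizer is invariant under isomorphisms -/
theorem index_centralizer_equiv {G H : Type*} [Group G] [Group H] (e : G ≃* H) (g : G) :
    (Subgroup.centralizer ({e g} : Set H)).index = (Subgroup.centralizer ({g} : Set G)).index := by
  have h1 : (Subgroup.centralizer ({e g} : Set H)).comap e.toMonoidHom
      = Subgroup.centralizer ({g} : Set G) := by
    ext x
    rw [Subgroup.mem_comap, Subgroup.mem_centralizer_singleton_iff,
      Subgroup.mem_centralizer_singleton_iff]
    show e x * e g = e g * e x ↔ _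
    rw [← map_mul, ← map_mul, e.injective.eq_iff]
  rw [← h1, Subgroup.index_comap_of_surjective _ e.surjective]

theorem dMk_nonScalar (r : Fˣ) (hr : (r : F) ≠ ((r⁻¹ : Fˣ) : F)) : NonScalar ((dMk r : SL2) : M2) := by
  rintro ⟨-, -, h⟩
  rw [dMk_val] at h
  simp at h
  apply hr
  simpa using h

/-- centralizer orders in `SL₂` in characteristic two -/
theorem card_centralizer_cases [Fintype F] [CharP F 2] (g : SL2) (hg : g ≠ 1) :
    (g : M2).trace = 0 ∧ Nat.card (Subgroup.centralizer ({g} : Set SL2)) = Fintype.card F ∨
    (g : M2).trace ≠ 0 ∧ NoRoot (g : M2).trace ∧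
      Nat.card (Subgroup.centralizer ({g} : Set SL2)) = Fintype.card F + 1 ∨
    (g : M2).trace ≠ 0 ∧ ¬ NoRoot (g : M2).trace ∧
      Nat.card (Subgroup.centralizer ({g} : Set SL2)) = Fintype.card F - 1 := by
  have h2 : (2 : F) = 0 := two_eq_zero'
  have hsq : ∀ a : F, IsSquare a := fun a =>
    FiniteField.isSquare_of_char_two (ringChar.eq F 2) a
  have hns : NonScalar (g : M2) := by
    by_contra hcon
    obtain ⟨a, ha⟩ := (not_nonScalar_iff _).mp hcon
    apply hg
    have hdet := g.det_coe
    rw [ha] at hdet
    simp only [Matrix.det_smul, Fintype.card_fin, Matrix.det_one, mul_one] at hdet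
    have h1 : (a - 1) ^ 2 = 0 := by
      linear_combination hdet - (a - 1) * h2
    have h3 : a = 1 := by
      have := pow_eq_zero_iff (two_ne_zero) |>.mp h1
      exact sub_eq_zero.mp this
    apply Subtype.ext
    rw [ha, h3, one_smul]; rfl
  set t := (g : M2).trace with ht
  -- conjugate to the companion matrix
  have hconj : IsConj (sl2Comp t) g :=
    sl2_isConj_of_trace_of_allSquares hsq _ _ (nonScalar_compMat _ _) hns (by simp [trace_compMat, ht])
  obtain ⟨c, hc⟩ := isConj_iff.mp hconj
  have hcard : Nat.card (Subgroup.centralizer ({g} : Set SL2)) = Nat.card (torusT t) := by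
    rw [← centralizer_sl2Comp t]
    exact (Nat.card_congr (centralizerConjEquiv c _ _ hc).toEquiv).symm
  by_cases ht0 : t = 0
  · left
    refine ⟨ht0, ?_⟩
    rw [hcard, ht0, card_torusT_zero]
  · right
    by_cases hnr : NoRoot t
    · left
      refine ⟨ht0, hnr, ?_⟩
      rw [hcard]
      haveI := hnr.fact
      exact card_torusT
    · right
      refine ⟨ht0, hnr, ?_⟩
      unfold NoRoot at hnr
      push Not at hnr
      obtain ⟨r, hr⟩ := hnr
      have hr0 : r ≠ 0 := by
        rintro rfl
        have : (0 : F) = -1 := by simp at hr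
        have h1 : (1 : F) = 0 := by linear_combination this
        exact one_ne_zero h1
      set ru : Fˣ := Units.mk0 r hr0 with hru
      have hrne : (ru : F) ≠ ((ru⁻¹ : Fˣ) : F) := by
        rw [hru, Units.val_inv_eq_inv_val, Units.val_mk0]
        intro h
        have h3 : r * r = 1 := by
          field_simp at h
          linear_combination h
        have h4 : t * r = 0 := by
          linear_combination -hr + h3 + h2
        rcases mul_eq_zero.mp h4 with h5 | h5
        · exact ht0 h5
        · exact hr0 h5
      have htr : ((dMk ru : SL2) : M2).trace = t := by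
        rw [dMk_val, Matrix.trace_fin_two_of, hru, Units.val_inv_eq_inv_val, Units.val_mk0]
        field_simp
        linear_combination hr
      have hconj2 : IsConj (dMk ru) g :=
        sl2_isConj_of_trace_of_allSquares hsq _ _ (dMk_nonScalar ru hrne) hns htr
      obtain ⟨c2, hc2⟩ := isConj_iff.mp hconj2
      rw [← Nat.card_congr (centralizerConjEquiv c2 _ _ hc2).toEquiv, card_centralizer_dMk ru hrne]


/-- the possible class sizes in `SL₂` in characteristic two -/
theorem index_cases [Fintype F] [CharP F 2] (g : SL2) (hg : g ≠ 1) :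
    (g : M2).trace = 0 ∧ (Subgroup.centralizer ({g} : Set SL2)).index = Fintype.card F ^ 2 - 1 ∨
    (g : M2).trace ≠ 0 ∧ NoRoot (g : M2).trace ∧
      (Subgroup.centralizer ({g} : Set SL2)).index = Fintype.card F * (Fintype.card F - 1) ∨
    (g : M2).trace ≠ 0 ∧ ¬ NoRoot (g : M2).trace ∧
      (Subgroup.centralizer ({g} : Set SL2)).index = Fintype.card F * (Fintype.card F + 1) := by
  have hq : 2 ≤ Fintype.card F := Fintype.one_lt_card
  obtain ⟨k, hk⟩ : ∃ k, Fintype.card F = k + 2 := ⟨Fintype.card F - 2, by omega⟩
  have hmul := Subgroup.card_mul_index (Subgroup.centralizer ({g} : Set SL2))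
  rw [card_SL2, hk] at hmul
  have e1 : (k + 2) ^ 2 - 1 = (k + 1) * (k + 3) := by
    have : (k + 2) ^ 2 = (k + 1) * (k + 3) + 1 := by ring
    omega
  rcases card_centralizer_cases g hg with ⟨h1, h2⟩ | ⟨h1, h1', h2⟩ | ⟨h1, h1', h2⟩
  · left
    refine ⟨h1, ?_⟩
    rw [h2, hk] at hmul
    rw [hk]
    exact Nat.eq_of_mul_eq_mul_left (by omega) hmul
  · right; left
    refine ⟨h1, h1', ?_⟩
    rw [h2, hk, e1] at hmul
    rw [hk]
    have : k + 2 - 1 = k + 1 := by omega
    rw [this]
    have h3 : (k + 2 + 1) * (Subgroup.centralizer ({g} : Set SL2)).index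
        = (k + 2 + 1) * ((k + 2) * (k + 1)) := by
      rw [hmul]; ring
    exact Nat.eq_of_mul_eq_mul_left (by omega) h3
  · right; right
    refine ⟨h1, h1', ?_⟩
    rw [h2, hk, e1] at hmul
    rw [hk]
    have : k + 2 - 1 = k + 1 := by omega
    rw [this] at hmul
    have h3 : (k + 1) * (Subgroup.centralizer ({g} : Set SL2)).index
        = (k + 1) * ((k + 2) * (k + 2 + 1)) := by
      rw [hmul]; ring
    exact Nat.eq_of_mul_eq_mul_left (by omega) h3

theorem range_index_SL2 [Fintype F] [CharP F 2] (h4 : 4 ≤ Fintype.card F) :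
    Set.range (fun g : SL2 => (Subgroup.centralizer ({g} : Set SL2)).index) =
      {1, Fintype.card F * (Fintype.card F - 1), Fintype.card F ^ 2 - 1,
        Fintype.card F * (Fintype.card F + 1)} := by
  classical
  have h2 : (2 : F) = 0 := two_eq_zero'
  ext n
  simp only [Set.mem_range, Set.mem_insert_iff, Set.mem_singleton_iff]
  constructor
  · rintro ⟨g, rfl⟩
    by_cases hg : g = 1
    · left
      rw [hg]
      have : Subgroup.centralizer ({1} : Set SL2) = ⊤ := by
        rw [eq_top_iff]
        intro x _
        rw [Subgroup.mem_centralizer_singleton_iff, one_mul, mul_one]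
      rw [this, Subgroup.index_top]
    · rcases index_cases g hg with ⟨-, h⟩ | ⟨-, -, h⟩ | ⟨-, -, h⟩
      · right; right; left; exact h
      · right; left; exact h
      · right; right; right; exact h
  · rintro (rfl | rfl | rfl | rfl)
    · refine ⟨1, ?_⟩
      have : Subgroup.centralizer ({1} : Set SL2) = ⊤ := by
        rw [eq_top_iff]
        intro x _
        rw [Subgroup.mem_centralizer_singleton_iff, one_mul, mul_one]
      rw [this, Subgroup.index_top]
    · -- non-split
      obtain ⟨t, ht⟩ := exists_noRoot (F := F)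
      have hne : sl2Comp t ≠ 1 := by
        intro h
        have := congrArg (fun x : SL2 => (x : M2) 1 0) h
        simp [compMat] at this
      have htr : ((sl2Comp t : SL2) : M2).trace = t := trace_sl2Comp t
      refine ⟨sl2Comp t, ?_⟩
      rcases index_cases (sl2Comp t) hne with ⟨h0, -⟩ | ⟨-, -, h⟩ | ⟨-, hnr, -⟩
      · exfalso
        rw [htr] at h0
        apply ht 1
        rw [h0]
        linear_combination h2
      · exact h
      · exfalso
        rw [htr] at hnr
        exact hnr ht
    · -- unipotent
      have hne : sl2Comp (0 : F) ≠ 1 := by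
        intro h
        have := congrArg (fun x : SL2 => (x : M2) 1 0) h
        simp [compMat] at this
      have htr : ((sl2Comp (0 : F) : SL2) : M2).trace = 0 := trace_sl2Comp 0
      refine ⟨sl2Comp 0, ?_⟩
      rcases index_cases (sl2Comp (0 : F)) hne with ⟨-, h⟩ | ⟨h0, -, -⟩ | ⟨h0, -, -⟩
      · exact h
      · exact absurd htr h0
      · exact absurd htr h0
    · -- split
      have hcard : 1 < Fintype.card Fˣ := by
        rw [Fintype.card_units]; omega
      obtain ⟨a, ha⟩ := Fintype.exists_ne_of_one_lt_card hcard (1 : Fˣ)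
      have ha0 : (a : F) ≠ 0 := a.ne_zero
      have hane : (a : F) ≠ ((a⁻¹ : Fˣ) : F) := by
        rw [Units.val_inv_eq_inv_val]
        intro h
        have h3 : (a : F) * (a : F) = 1 := by
          field_simp at h
          linear_combination h
        have h4 : ((a : F) - 1) ^ 2 = 0 := by linear_combination h3 - ((a : F) - 1) * h2
        have h5 : (a : F) = 1 := by
          have := pow_eq_zero_iff (two_ne_zero) |>.mp h4
          exact sub_eq_zero.mp this
        exact ha (Units.ext h5)
      have hne : dMk a ≠ 1 := by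
        intro h
        have h00 := congrArg (fun x : SL2 => (x : M2) 0 0) h
        have h11 := congrArg (fun x : SL2 => (x : M2) 1 1) h
        simp [dMk_val] at h00 h11
        exact ha h00
      have htr : ((dMk a : SL2) : M2).trace = (a : F) + (a : F)⁻¹ := by
        rw [dMk_val, Matrix.trace_fin_two_of, Units.val_inv_eq_inv_val]
      refine ⟨dMk a, ?_⟩
      rcases index_cases (dMk a) hne with ⟨h0, -⟩ | ⟨-, hnr, -⟩ | ⟨-, -, h⟩
      · exfalso
        rw [htr] at h0
        apply hane
        rw [Units.val_inv_eq_inv_val]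
        linear_combination h0 - (a : F)⁻¹ * h2
      · exfalso
        rw [htr] at hnr
        apply hnr (a : F)
        field_simp
        ring
      · exact h


theorem center_eq_bot [CharP F 2] : Subgroup.center SL2 = ⊥ := by
  classical
  have h2 : (2 : F) = 0 := two_eq_zero'
  rw [Subgroup.eq_bot_iff_forall]
  intro A hA
  rw [Matrix.SpecialLinearGroup.mem_center_iff] at hA
  obtain ⟨r, hr, hA⟩ := hA
  rw [Fintype.card_fin] at hr
  have h1 : (r - 1) ^ 2 = 0 := by linear_combination hr - (r - 1) * h2
  have h3 : r = 1 := by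
    have := pow_eq_zero_iff (two_ne_zero) |>.mp h1
    exact sub_eq_zero.mp this
  apply Subtype.ext
  rw [← hA, h3, map_one]
  rfl

end

/-- Let F be a finite field with q = 2^f ≥ 4 elements. The conjugacy class sizes of PSL(2,F) are exactly 1, q(q − 1), q² − 1 and q(q + 1). -/
theorem result {F : Type*} [Field F] [Fintype F]
    (h2 : 2 ∣ Fintype.card F) (h4 : 4 ≤ Fintype.card F) :
    Set.range (fun g : (Matrix.ProjectiveSpecialLinearGroup (Fin 2) F) => (Subgroup.centralizer ({g} : Set (Matrix.ProjectiveSpecialLinearGroup (Fin 2) F))).index) =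
      {1, Fintype.card F * (Fintype.card F - 1), Fintype.card F ^ 2 - 1, Fintype.card F * (Fintype.card F + 1)} := by
  classical
  have hchar : ringChar F = 2 := by
    rw [FiniteField.even_card_iff_char_two]
    omega
  haveI : CharP F 2 := ringChar.of_eq hchar
  let e : Matrix.ProjectiveSpecialLinearGroup (Fin 2) F ≃* Matrix.SpecialLinearGroup (Fin 2) F :=
    (QuotientGroup.quotientMulEquivOfEq center_eq_bot).trans QuotientGroup.quotientBot
  rw [← range_index_SL2 h4]
  ext n
  simp only [Set.mem_range]
  constructor
  · rintro ⟨g, rfl⟩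
    exact ⟨e g, index_centralizer_equiv e g⟩
  · rintro ⟨g, rfl⟩
    refine ⟨e.symm g, ?_⟩
    rw [← index_centralizer_equiv e (e.symm g), e.apply_symm_apply]

end Cfsg.Agent.S2507
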