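import Cfsg.Statements.S2503
import Mathlib
import Cfsg.Agent.Lib.H12.SL2Ell
import Cfsg.Agent.S2507

set_option autoImplicit false

namespace Cfsg.Agent.S2503
open Cfsg Cfsg.Agent.Lib.H12 Matrix

variable {F : Type*} [Field F]

local notation "SL2" => Matrix.SpecialLinearGroup (Fin 2) F
local notation "M2" => Matrix (Fin 2) (Fin 2) F
local notation "PSL2" => Matrix.ProjectiveSpecialLinearGroup (Fin 2) F

/-- upper unitriangular element -/
def uU (x : F) : SL2 := ⟨!![1, x; 0, 1], by simp [Matrix.det_fin_two]⟩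

theorem uU_val (x : F) : ((uU x : SL2) : M2) = !![1, x; 0, 1] := rfl

theorem uU_mul (x y : F) : uU x * uU y = uU (x + y) := by
  apply Subtype.ext
  rw [Matrix.SpecialLinearGroup.coe_mul, uU_val, uU_val, uU_val]
  ext i j
  fin_cases i <;> fin_cases j <;> simp [Matrix.mul_apply, Fin.sum_univ_two, add_comm]

theorem uU_zero : uU (0 : F) = 1 := by
  apply Subtype.ext
  rw [uU_val, Matrix.SpecialLinearGroup.coe_one]
  ext i j
  fin_cases i <;> fin_cases j <;> simp

/-- the unipotent subgroup as a hom -/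
def uHom : Multiplicative F →* SL2 where
  toFun x := uU (Multiplicative.toAdd x)
  map_one' := by simp [uU_zero]
  map_mul' x y := by simp [uU_mul]

theorem uHom_injective : Function.Injective (uHom (F := F)) := by
  intro x y h
  have h1 := congrArg (fun g : SL2 => (g : M2) 0 1) h
  simp only [uHom, MonoidHom.coe_mk, OneHom.coe_mk, uU_val] at h1
  simpa using h1

theorem card_uHom_range [Fintype F] : Nat.card (uHom (F := F)).range = Fintype.card F := by
  rw [← Nat.card_congr (MonoidHom.ofInjective uHom_injective).toEquiv, Nat.card_eq_fintype_card,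
    Fintype.card_multiplicative]

theorem mem_uHom_range (g : SL2) : g ∈ (uHom (F := F)).range ↔ ∃ x : F, g = uU x := by
  constructor
  · rintro ⟨x, rfl⟩
    exact ⟨Multiplicative.toAdd x, rfl⟩
  · rintro ⟨x, rfl⟩
    exact ⟨Multiplicative.ofAdd x, rfl⟩

section char2
variable [Fintype F] [CharP F 2]

omit [Fintype F] in
theorem two_eq_zero : (2 : F) = 0 := Cfsg.Agent.S2507.two_eq_zero'

theorem exists_sqrt (x : F) : ∃ c : F, c * c = x := by
  have hchar : ringChar F = 2 := ringChar.eq F 2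
  obtain ⟨s, hs⟩ := FiniteField.isSquare_of_char_two hchar x
  exact ⟨s, hs.symm⟩

omit [Fintype F] [CharP F 2] in
theorem norm_form_ne_zero {t : F} (ht : NoRoot t) (x y : F) (hxy : x ≠ 0 ∨ y ≠ 0) :
    x ^ 2 + t * x * y + y ^ 2 ≠ 0 := by
  intro h
  by_cases hy : y = 0
  · subst hy
    rcases hxy with h1 | h1
    · apply h1
      have : x ^ 2 = 0 := by linear_combination h
      exact pow_eq_zero_iff (two_ne_zero) |>.mp this
    · exact h1 rfl
  · apply ht (-x / y)
    field_simp
    linear_combination h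

theorem exists_torus_col {t : F} (ht : NoRoot t) (x y : F) (hxy : x ≠ 0 ∨ y ≠ 0) :
    ∃ a : SL2, a ∈ torusT t ∧ ∃ c : F, c ≠ 0 ∧ (a : M2) 0 0 = x / c ∧ (a : M2) 1 0 = y / c := by
  obtain ⟨c, hc⟩ := exists_sqrt (x ^ 2 + t * x * y + y ^ 2)
  have hc0 : c ≠ 0 := by
    rintro rfl
    apply norm_form_ne_zero ht x y hxy
    rw [← hc, mul_zero]
  have hz : QuadraticAlgebra.norm (⟨x / c, y / c⟩ : QuadraticAlgebra F (-1) t) = 1 := by
    rw [QuadraticAlgebra.norm_def]
    field_simp
    linear_combination -hc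
  refine ⟨torusMk' t _ hz, (torusMk t _ hz).2, c, hc0, ?_, ?_⟩
  · rw [torusMk'_val]; simp
  · rw [torusMk'_val]; simp


/-- Step 1: some torus element makes the trace vanish. -/
theorem exists_trace_zero {t : F} (ht : NoRoot t) (g : SL2) :
    ∃ a : SL2, a ∈ torusT t ∧ ((g * a : SL2) : M2).trace = 0 := by
  set α := (g : M2) 0 0 + (g : M2) 1 1 with hα
  set β := (g : M2) 0 1 - (g : M2) 1 0 + t * (g : M2) 1 1 with hβ
  have key : ∀ a : SL2, a ∈ torusT t →
      ((g * a : SL2) : M2).trace = (a : M2) 0 0 * α + (a : M2) 1 0 * β := by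
    intro a ha
    obtain ⟨h1, h2⟩ := (mem_torusT t a).mp ha
    rw [Matrix.SpecialLinearGroup.coe_mul, Matrix.trace_fin_two]
    simp only [Matrix.mul_apply, Fin.sum_univ_two]
    rw [h1, h2]
    ring
  by_cases h0 : β ≠ 0 ∨ -α ≠ 0
  · obtain ⟨a, ha, c, hc0, h1, h2⟩ := exists_torus_col ht β (-α) h0
    refine ⟨a, ha, ?_⟩
    rw [key a ha, h1, h2]
    field_simp
    ring
  · rw [not_or, not_not, not_not] at h0
    refine ⟨1, Subgroup.one_mem _, ?_⟩
    rw [key 1 (Subgroup.one_mem _), h0.1]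
    have : α = 0 := by linear_combination -h0.2
    rw [this]
    ring

omit [Fintype F] in
theorem sub_one_sq (h : SL2) (hh : (h : M2).trace = 0) : ((h : M2) - 1) * ((h : M2) - 1) = 0 := by
  have h1 := m2_cayley (h : M2) h.det_coe
  rw [hh, zero_smul, zero_sub] at h1
  have h2 : (2 : M2) = 0 := by
    have : (2 : M2) = ((2 : F) • (1 : M2)) := by
      rw [two_smul]; norm_num
    rw [this, two_eq_zero, zero_smul]
  calc ((h : M2) - 1) * ((h : M2) - 1) = (h : M2) * (h : M2) - 2 * (h : M2) + 1 := by noncomm_ring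
    _ = 0 := by rw [h1, h2]; simp

/-- Step 2: an element of trace zero is conjugate under the torus into `U`. -/
theorem exists_conj_unip {t : F} (ht : NoRoot t) (h : SL2) (hh : (h : M2).trace = 0) :
    ∃ a : SL2, a ∈ torusT t ∧ ∃ β : F, a⁻¹ * h * a = uU β := by
  -- a nonzero fixed vector
  have hv : ∃ x y : F, (x ≠ 0 ∨ y ≠ 0) ∧ (h : M2) *ᵥ ![x, y] = ![x, y] := by
    by_cases h1 : (h : M2) - 1 = 0
    · refine ⟨1, 0, Or.inl one_ne_zero, ?_⟩
      rw [sub_eq_zero.mp h1, Matrix.one_mulVec]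
    · have hsq := sub_one_sq h hh
      -- some column of h - 1 is nonzero
      have hcol : ∃ j : Fin 2, (fun i => ((h : M2) - 1) i j) ≠ 0 := by
        by_contra hcon
        push Not at hcon
        apply h1
        ext i j
        exact congrFun (hcon j) i
      obtain ⟨j, hj⟩ := hcol
      refine ⟨((h : M2) - 1) 0 j, ((h : M2) - 1) 1 j, ?_, ?_⟩
      · by_contra hcon
        rw [not_or, not_not, not_not] at hcon
        apply hj
        ext i
        fin_cases i
        · exact hcon.1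
        · exact hcon.2
      · have h3 : ((h : M2) - 1) *ᵥ ![((h : M2) - 1) 0 j, ((h : M2) - 1) 1 j] = 0 := by
          have h4 : ![((h : M2) - 1) 0 j, ((h : M2) - 1) 1 j] = (fun i => ((h : M2) - 1) i j) := by
            ext i; fin_cases i <;> rfl
          rw [h4]
          ext i
          have := congrFun (congrFun hsq i) j
          rw [Matrix.mul_apply] at this
          rw [Matrix.mulVec, dotProduct]
          exact this
        rw [Matrix.sub_mulVec, Matrix.one_mulVec, sub_eq_zero] at h3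
        exact h3
  obtain ⟨x, y, hxy, hfix⟩ := hv
  obtain ⟨a, ha, c, hc0, h1, h2⟩ := exists_torus_col ht x y hxy
  refine ⟨a, ha, ?_⟩
  set b := a⁻¹ * h * a with hb
  have hae : (a : M2) *ᵥ ![1, 0] = c⁻¹ • ![x, y] := by
    ext i
    fin_cases i
    · simp [Matrix.mulVec, dotProduct, Fin.sum_univ_two, h1]; field_simp
    · simp [Matrix.mulVec, dotProduct, Fin.sum_univ_two, h2]; field_simp
  have hbe : (b : M2) *ᵥ ![1, 0] = ![1, 0] := by
    have hcoe : (b : M2) = ((a⁻¹ : SL2) : M2) * (h : M2) * (a : M2) := by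
      rw [hb, Matrix.SpecialLinearGroup.coe_mul, Matrix.SpecialLinearGroup.coe_mul]
    rw [hcoe, ← Matrix.mulVec_mulVec, ← Matrix.mulVec_mulVec, hae, Matrix.mulVec_smul, hfix,
      ← hae, Matrix.mulVec_mulVec, ← Matrix.SpecialLinearGroup.coe_mul,
      inv_mul_cancel, Matrix.SpecialLinearGroup.coe_one, Matrix.one_mulVec]
  have hb00 : (b : M2) 0 0 = 1 := by
    have := congrFun hbe 0
    simpa [Matrix.mulVec, dotProduct, Fin.sum_univ_two] using this
  have hb10 : (b : M2) 1 0 = 0 := by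
    have := congrFun hbe 1
    simpa [Matrix.mulVec, dotProduct, Fin.sum_univ_two] using this
  have hb11 : (b : M2) 1 1 = 1 := by
    have := b.det_coe
    rw [Matrix.det_fin_two, hb00, hb10] at this
    linear_combination this
  refine ⟨(b : M2) 0 1, ?_⟩
  apply Subtype.ext
  rw [uU_val]
  ext i j
  fin_cases i <;> fin_cases j <;> simp [hb00, hb10, hb11]

/-- `SL₂ = T U T` -/
theorem exists_aba {t : F} (ht : NoRoot t) (g : SL2) :
    ∃ a : SL2, a ∈ torusT t ∧ ∃ b : SL2, b ∈ (uHom (F := F)).range ∧ ∃ c : SL2, c ∈ torusT t ∧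
      g = a * b * c := by
  obtain ⟨a₀, ha₀, htr⟩ := exists_trace_zero ht g
  obtain ⟨a₁, ha₁, β, hβ⟩ := exists_conj_unip ht (g * a₀) htr
  refine ⟨a₁, ha₁, uU β, (mem_uHom_range _).mpr ⟨β, rfl⟩, a₁⁻¹ * a₀⁻¹,
    Subgroup.mul_mem _ (Subgroup.inv_mem _ ha₁) (Subgroup.inv_mem _ ha₀), ?_⟩
  rw [← hβ]
  group

end char2


/-- Let F be a finite field with q = 2^t ≥ 4 elements and L = PSL(2,F). Then L = ABA. -/
theorem result {F : Type*} [Field F] [Fintype F]
    (h2 : 2 ∣ Fintype.card F) (h4 : 4 ≤ Fintype.card F) :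
    ∃ A B : Subgroup (Matrix.ProjectiveSpecialLinearGroup (Fin 2) F),
      IsCyclic A ∧ Nat.card A = Fintype.card F + 1 ∧ IsMulCommutative B ∧ (∀ b ∈ B, b * b = 1) ∧
        Nat.card B = Fintype.card F ∧
        ∀ g : Matrix.ProjectiveSpecialLinearGroup (Fin 2) F, ∃ a ∈ A, ∃ b ∈ B, ∃ c ∈ A, g = a * b * c := by
  classical
  have hchar : ringChar F = 2 := by
    rw [FiniteField.even_card_iff_char_two]
    omega
  have : CharP F 2 := ringChar.of_eq hchar
  let e : Matrix.ProjectiveSpecialLinearGroup (Fin 2) F ≃* Matrix.SpecialLinearGroup (Fin 2) F :=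
    (QuotientGroup.quotientMulEquivOfEq Cfsg.Agent.S2507.center_eq_bot).trans QuotientGroup.quotientBot
  obtain ⟨t, ht⟩ := exists_noRoot (F := F)
  have := ht.fact
  let eA : torusT t ≃* (torusT t).map e.symm.toMonoidHom := e.symm.subgroupMap (torusT t)
  let eB : (uHom (F := F)).range ≃* ((uHom (F := F)).range).map e.symm.toMonoidHom :=
    e.symm.subgroupMap (uHom (F := F)).range
  refine ⟨(torusT t).map e.symm.toMonoidHom, ((uHom (F := F)).range).map e.symm.toMonoidHom,
    ?_, ?_, ?_, ?_, ?_, ?_⟩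
  · have : IsCyclic (torusT t) := isCyclic_torusT
    exact isCyclic_of_surjective eA eA.surjective
  · rw [← Nat.card_congr eA.toEquiv]
    exact card_torusT
  · refine ⟨⟨?_⟩⟩
    rintro ⟨x, hx⟩ ⟨y, hy⟩
    obtain ⟨x', hx', rfl⟩ := Subgroup.mem_map.mp hx
    obtain ⟨y', hy', rfl⟩ := Subgroup.mem_map.mp hy
    obtain ⟨a, rfl⟩ := (mem_uHom_range _).mp hx'
    obtain ⟨b, rfl⟩ := (mem_uHom_range _).mp hy'
    apply Subtype.ext
    show e.symm.toMonoidHom (uU a) * e.symm.toMonoidHom (uU b) =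
      e.symm.toMonoidHom (uU b) * e.symm.toMonoidHom (uU a)
    rw [← map_mul, ← map_mul, uU_mul, uU_mul, add_comm]
  · intro b hb
    obtain ⟨x', hx', rfl⟩ := Subgroup.mem_map.mp hb
    obtain ⟨a, rfl⟩ := (mem_uHom_range _).mp hx'
    rw [← map_mul, uU_mul]
    have : a + a = 0 := by
      have := two_eq_zero (F := F)
      linear_combination a * this
    rw [this, uU_zero, map_one]
  · rw [← Nat.card_congr eB.toEquiv]
    exact card_uHom_range
  · intro g
    obtain ⟨a, ha, b, hb, c, hc, hg⟩ := exists_aba ht (e g)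
    refine ⟨e.symm a, Subgroup.mem_map.mpr ⟨a, ha, rfl⟩, e.symm b, Subgroup.mem_map.mpr ⟨b, hb, rfl⟩,
      e.symm c, Subgroup.mem_map.mpr ⟨c, hc, rfl⟩, ?_⟩
    rw [← map_mul, ← map_mul, ← hg, e.symm_apply_apply]

end Cfsg.Agent.S2503
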