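import Cfsg.Statements.S5620
import Cfsg.Agent.Lib.H28.M11Pair
open Cfsg.Agent.Lib.H28

set_option autoImplicit false
open scoped Pointwise
open Cfsg

namespace Cfsg.Agent.S5620

/-- Inside the stabiliser of the dodecad of squares (a Mathieu group of degree 12), the stabiliser of the residue 0 (a point of the dodecad) and the stabiliser of the extra point (a point outside the dodecad) are isomorphic but not conjugate; conjugation by a suitable element of the code's group that maps the dodecad of squares onto its complement carries the first onto the second. -/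
theorem result : Nonempty (↥(Cfsg.Spor.M12 ⊓ MulAction.stabilizer (Equiv.Perm Cfsg.GolayPt) (none : Cfsg.GolayPt)) ≃* ↥Cfsg.Spor.M11) ∧ (¬ ∃ k ∈ Cfsg.Spor.M12, MulAut.conj k • Cfsg.Spor.M11 = Cfsg.Spor.M12 ⊓ MulAction.stabilizer (Equiv.Perm Cfsg.GolayPt) (none : Cfsg.GolayPt)) ∧ ∃ g ∈ Cfsg.M24, g • Cfsg.Spor.squareDodecad = Finset.univ \ Cfsg.Spor.squareDodecad ∧ MulAut.conj g • Cfsg.Spor.M11 = Cfsg.Spor.M12 ⊓ MulAction.stabilizer (Equiv.Perm Cfsg.GolayPt) (none : Cfsg.GolayPt) := by
  have hsq := squareDodecad_eq_ptsMask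
  have h3 : wordPerm [2] • Cfsg.Spor.squareDodecad = Finset.univ \ Cfsg.Spor.squareDodecad := by
    rw [hsq, inversion_smul_dod0, ← Finset.compl_eq_univ_sdiff, compl_ptsMask_dod0]
  have h4 : MulAut.conj (wordPerm [2]) • Cfsg.Spor.M11
      = Cfsg.Spor.M12 ⊓ MulAction.stabilizer (Equiv.Perm Cfsg.GolayPt) (none : Cfsg.GolayPt) := by
    unfold Cfsg.Spor.M11 Cfsg.Spor.M12
    rw [conj_smul_stab_set_point (wordPerm_mem_M24 _), h3, ← Finset.compl_eq_univ_sdiff, stabilizer_finset_compl,
      ← gPt_zero_eq, inversion_zero, gPt_23_eq]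
  refine ⟨?_, ?_, wordPerm [2], wordPerm_mem_M24 _, h3, h4⟩
  · exact ⟨(MulEquiv.subgroupCongr h4.symm).trans
      (Subgroup.equivSMul (MulAut.conj (wordPerm [2])) Cfsg.Spor.M11).symm⟩
  · rintro ⟨k, hk, e⟩
    have hkM : k ∈ Cfsg.M24 ∧ k • ptsMask dod0 = ptsMask dod0 := by
      unfold Cfsg.Spor.M12 at hk
      rw [Subgroup.mem_inf, MulAction.mem_stabilizer_iff, hsq] at hk
      exact hk
    have h0 : gPt 0 ∈ ptsMask dod0 := by
      rw [mem_ptsMask, gIdx_gPt (by norm_num)]
      decide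
    have hx : k (gPt 0) ∈ ptsMask dod0 := by
      have := Finset.smul_mem_smul_finset (a := k) h0
      rw [hkM.2] at this
      exact this
    have hw : wordPerm w11free ∈
        Cfsg.Spor.M12 ⊓ MulAction.stabilizer (Equiv.Perm Cfsg.GolayPt) (none : Cfsg.GolayPt) := by
      unfold Cfsg.Spor.M12
      rw [Subgroup.mem_inf, Subgroup.mem_inf, MulAction.mem_stabilizer_iff, MulAction.mem_stabilizer_iff, hsq]
      have := mem_stabMask_iff_smul.1 w11free_mem
      exact ⟨this, by rw [← gPt_23_eq]; exact w11free_fix⟩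
    rw [← e, Subgroup.mem_pointwise_smul_iff_inv_smul_mem, MulAut.smul_def, MulAut.conj_inv_apply] at hw
    unfold Cfsg.Spor.M11 at hw
    have hfix := (Subgroup.mem_inf.1 hw).2
    rw [MulAction.mem_stabilizer_iff, Equiv.Perm.smul_def, Equiv.Perm.mul_apply, Equiv.Perm.mul_apply,
      Equiv.Perm.inv_eq_iff_eq, ← gPt_zero_eq] at hfix
    exact w11free_moves hx hfix

end Cfsg.Agent.S5620
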