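import Mathlib
import Cfsg.Statements.S1560
import Cfsg.Agent.Lib.H28.GolayDodecad

set_option autoImplicit false
open Cfsg

namespace Cfsg.Agent.S1560

section abstract
open Finset
open Cfsg.Agent.Lib.H28

variable {ι : Type*} [Fintype ι] [DecidableEq ι] {C : Submodule (ZMod 2) (ι → ZMod 2)}

local notation "Oct" C => Cfsg.wordsOfWeight (C : Set (ι → ZMod 2)) 8
local notation "Dod" C => Cfsg.wordsOfWeight (C : Set (ι → ZMod 2)) 12

theorem inter_cases (hC : IsAbsGolay C) {d d' : Finset ι} (hd : d ∈ Dod C) (hd' : d' ∈ Dod C) :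
    (d ∩ d').card = 0 ∨ (d ∩ d').card = 4 ∨ (d ∩ d').card = 6 ∨ (d ∩ d').card = 8 ∨
      (d ∩ d').card = 12 := by
  rw [mem_wordsOfWeight_iff] at hd hd'
  have h1 := wt_add (ind d) (ind d')
  rw [supp_ind, supp_ind, hammingNorm_ind, hammingNorm_ind, hd.2, hd'.2] at h1
  have h2 := weight_cases hC (C.add_mem hd.1 hd'.1)
  omega

theorem eq_of_inter_twelve {d d' : Finset ι} (hd : d.card = 12) (hd' : d'.card = 12)
    (h : (d ∩ d').card = 12) : d' = d := by
  have h1 : d ∩ d' = d := eq_of_subset_of_card_le inter_subset_left (by rw [h, hd])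
  have h2 : d ⊆ d' := by rw [← h1]; exact inter_subset_right
  exact (eq_of_subset_of_card_le h2 (by rw [hd, hd'])).symm

theorem eq_compl_of_inter_zero (hcard : Fintype.card ι = 24) {d d' : Finset ι} (hd : d.card = 12)
    (hd' : d'.card = 12) (h : (d ∩ d').card = 0) : d' = dᶜ := by
  have h1 : Disjoint d' d := by
    rw [disjoint_iff_inter_eq_empty, inter_comm]
    exact card_eq_zero.mp h
  have h2 : d' ⊆ dᶜ := fun x hx => mem_compl.mpr (fun hxd => (disjoint_left.mp h1 hx hxd))
  apply eq_of_subset_of_card_le h2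
  rw [card_compl, hcard, hd, hd']

theorem inter_symmDiff_left (d o : Finset ι) : d ∩ symmDiff d o = d \ o := by
  ext x
  simp only [mem_inter, mem_symmDiff, mem_sdiff]
  tauto

theorem symmDiff_inter_left (d o : Finset ι) : symmDiff d o ∩ d = d \ o := by
  rw [inter_comm, inter_symmDiff_left]

theorem card_sdiff' (d o : Finset ι) : (d \ o).card + (d ∩ o).card = d.card :=
  card_sdiff_add_card_inter d o

/-- dodecads meeting `d` in 8 points correspond to octads meeting `d` in 4 points -/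
theorem set_eight_eq (hC : IsAbsGolay C) {d : Finset ι} (hd : d ∈ Dod C) :
    {d' : Finset ι | d' ∈ (Dod C) ∧ (d ∩ d').card = 8}
      = (fun o => symmDiff d o) '' {o : Finset ι | o ∈ (Oct C) ∧ (o ∩ d).card = 4} := by
  have hd0 := hd
  rw [mem_wordsOfWeight_iff] at hd
  ext d'
  constructor
  · rintro ⟨hd', h8⟩
    refine ⟨symmDiff d d', ⟨?_, ?_⟩, symmDiff_symmDiff_cancel_left d d'⟩
    · rw [mem_wordsOfWeight_iff] at hd' ⊢
      refine ⟨by rw [← ind_add]; exact C.add_mem hd.1 hd'.1, ?_⟩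
      have := card_symmDiff' d d'
      rw [hd.2, hd'.2, h8] at this
      omega
    · rw [symmDiff_inter_left]
      have := card_sdiff' d d'
      rw [hd.2, h8] at this
      omega
  · rintro ⟨o, ⟨ho, h4⟩, rfl⟩
    rw [inter_comm] at h4
    beta_reduce
    constructor
    · rw [mem_wordsOfWeight_iff] at ho ⊢
      refine ⟨by rw [← ind_add]; exact C.add_mem hd.1 ho.1, ?_⟩
      have := card_symmDiff' d o
      rw [hd.2, ho.2, h4] at this
      omega
    · show (d ∩ symmDiff d o).card = 8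
      rw [inter_symmDiff_left]
      have := card_sdiff' d o
      rw [hd.2, h4] at this
      omega

theorem inter_compl' (d d' : Finset ι) : d ∩ d'ᶜ = d \ d' := by
  ext x
  simp only [mem_inter, mem_compl, mem_sdiff]

/-- dodecads meeting `d` in 4 points are the complements of those meeting it in 8 points -/
theorem set_four_eq (hC : IsAbsGolay C) {d : Finset ι} (hd : d ∈ Dod C) :
    {d' : Finset ι | d' ∈ (Dod C) ∧ (d ∩ d').card = 4}
      = (fun o => oᶜ) '' {d' : Finset ι | d' ∈ (Dod C) ∧ (d ∩ d').card = 8} := by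
  have hd0 := hd
  rw [mem_wordsOfWeight_iff] at hd
  ext d'
  constructor
  · rintro ⟨hd', h4⟩
    refine ⟨d'ᶜ, ⟨compl_mem_dodecads hC hd', ?_⟩, compl_compl d'⟩
    rw [inter_compl']
    have := card_sdiff' d d'
    rw [hd.2, h4] at this
    omega
  · rintro ⟨o, ⟨ho, h8⟩, rfl⟩
    refine ⟨compl_mem_dodecads hC ho, ?_⟩
    show (d ∩ oᶜ).card = 4
    rw [inter_compl']
    have := card_sdiff' d o
    rw [hd.2, h8] at this
    omega

theorem ncard_eight (hC : IsAbsGolay C) {d : Finset ι} (hd : d ∈ Dod C) :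
    {d' : Finset ι | d' ∈ (Dod C) ∧ (d ∩ d').card = 8}.ncard = 495 := by
  rw [set_eight_eq hC hd, Set.ncard_image_of_injective _ (symmDiff_right_injective d)]
  exact card_octads_inter_four hC hd

theorem ncard_four (hC : IsAbsGolay C) {d : Finset ι} (hd : d ∈ Dod C) :
    {d' : Finset ι | d' ∈ (Dod C) ∧ (d ∩ d').card = 4}.ncard = 495 := by
  rw [set_four_eq hC hd, Set.ncard_image_of_injective _ compl_injective]
  exact ncard_eight hC hd

theorem ncard_six (hC : IsAbsGolay C) {d : Finset ι} (hd : d ∈ Dod C) :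
    {d' : Finset ι | d' ∈ (Dod C) ∧ (d ∩ d').card = 6}.ncard = 1584 := by
  have h4 := ncard_four hC hd
  have h8 := ncard_eight hC hd
  have hall := card_dodecads hC
  rw [ncard_eq_card_filter] at h4 h8 ⊢
  have hO : (Dod C).ncard = (blocksF (Dod C)).card := by
    rw [← Set.ncard_coe_finset]
    congr 1
    ext b
    simp [mem_blocksF]
  rw [hO] at hall
  have hfib := card_eq_sum_card_fiberwise (s := blocksF (Dod C))
    (t := ({0, 4, 6, 8, 12} : Finset ℕ)) (f := fun d' => (d ∩ d').card) (by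
      intro d' hd'
      rw [mem_coe, mem_blocksF] at hd'
      show (d ∩ d').card ∈ (({0, 4, 6, 8, 12} : Finset ℕ) : Set ℕ)
      rw [mem_coe]
      rcases inter_cases hC hd hd' with h | h | h | h | h <;> simp [h])
  rw [sum_insert (by decide), sum_insert (by decide), sum_insert (by decide),
    sum_insert (by decide), sum_singleton] at hfib
  have hd2 := (mem_wordsOfWeight_iff.mp hd).2
  have h12 : ((blocksF (Dod C)).filter (fun d' => (d ∩ d').card = 12)).card = 1 := by
    rw [card_eq_one]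
    refine ⟨d, ?_⟩
    ext d'
    rw [mem_filter, mem_blocksF, mem_singleton]
    constructor
    · rintro ⟨hd', h⟩
      exact eq_of_inter_twelve hd2 (mem_wordsOfWeight_iff.mp hd').2 h
    · rintro rfl
      exact ⟨hd, by rw [inter_self, hd2]⟩
  have h0 : ((blocksF (Dod C)).filter (fun d' => (d ∩ d').card = 0)).card = 1 := by
    rw [card_eq_one]
    refine ⟨dᶜ, ?_⟩
    ext d'
    rw [mem_filter, mem_blocksF, mem_singleton]
    constructor
    · rintro ⟨hd', h⟩
      exact eq_compl_of_inter_zero hC.hcard hd2 (mem_wordsOfWeight_iff.mp hd').2 h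
    · rintro rfl
      refine ⟨compl_mem_dodecads hC hd, ?_⟩
      rw [inter_compl', Finset.sdiff_self, card_empty]
  omega

end abstract

/-- Intersection numbers of dodecads: a dodecad meets every other dodecad in 0, 4, 6 or 8 points, meeting 495 of them in 4 points, 1584 in 6 points and 495 in 8 points. -/
theorem result (d : Finset Cfsg.GolayPt) (hd : d ∈ Cfsg.dodecads) : (∀ d' ∈ Cfsg.dodecads, d' ≠ d → (d ∩ d').card = 0 ∨ (d ∩ d').card = 4 ∨ (d ∩ d').card = 6 ∨ (d ∩ d').card = 8) ∧ {d' : Finset Cfsg.GolayPt | d' ∈ Cfsg.dodecads ∧ (d ∩ d').card = 4}.ncard = 495 ∧ {d' : Finset Cfsg.GolayPt | d' ∈ Cfsg.dodecads ∧ (d ∩ d').card = 6}.ncard = 1584 ∧ {d' : Finset Cfsg.GolayPt | d' ∈ Cfsg.dodecads ∧ (d ∩ d').card = 8}.ncard = 495 := by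
  have hC := Cfsg.Agent.Lib.H28.golayCode_isAbsGolay
  have hd' : d ∈ Cfsg.wordsOfWeight (Cfsg.golayCode : Set (Cfsg.GolayPt → ZMod 2)) 12 := hd
  refine ⟨?_, ncard_four hC hd', ncard_six hC hd', ncard_eight hC hd'⟩
  intro d₁ hd₁ hne
  have hd₁' : d₁ ∈ Cfsg.wordsOfWeight (Cfsg.golayCode : Set (Cfsg.GolayPt → ZMod 2)) 12 := hd₁
  rcases inter_cases hC hd' hd₁' with h | h | h | h | h
  · exact Or.inl h
  · exact Or.inr (Or.inl h)
  · exact Or.inr (Or.inr (Or.inl h))
  · exact Or.inr (Or.inr (Or.inr h))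
  · exfalso
    exact hne (eq_of_inter_twelve (Cfsg.Agent.Lib.H28.mem_wordsOfWeight_iff.mp hd').2
      (Cfsg.Agent.Lib.H28.mem_wordsOfWeight_iff.mp hd₁').2 h)

end Cfsg.Agent.S1560
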