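import Cfsg.Statements.S1268
import Mathlib
import Cfsg.Prelude.Def_Local
import Cfsg.Agent.Lib.H7.PLocal

set_option autoImplicit false
open Cfsg
open Cfsg.Agent.Lib.H7
set_option autoImplicit false

namespace Cfsg.Agent.S1268

/-- Let G be finite with F*(G) = O_p(G). Then F*(N) = O_p(N) for N the normalizer of any p-subgroup P of G. -/
theorem result {G : Type*} [Group G] [Finite G] (p : ℕ) [Fact p.Prime] (h : Cfsg.generalizedFittingSubgroup G = Cfsg.pCore p G) (P : Subgroup G) (hP : IsPGroup p ↥P) : Cfsg.generalizedFittingSubgroup ↥(Subgroup.normalizer ((P : Subgroup G) : Set G)) = Cfsg.pCore p ↥(Subgroup.normalizer ((P : Subgroup G) : Set G)) := by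
  have hQn : (pCore p G).Normal := Cfsg.Agent.Lib.H1.pCore_normal p G
  have hQ : IsPGroup p (pCore p G) := Cfsg.Agent.Lib.H1.pCore_isPGroup p G
  have hNQ : Subgroup.normalizer ((pCore p G : Subgroup G) : Set G) = ⊤ :=
    Subgroup.normalizer_eq_top _
  apply generalizedFittingSubgroup_eq_pCore_of_le_normalizer p hQ hP
  · rw [hNQ]; exact le_top
  · exact Subgroup.le_normalizer
  · exact le_rfl
  · rw [hNQ]; exact le_top
  · exact inf_le_right.trans (Subgroup.centralizer_le_normalizer _)
  · intro y _ hy hyQ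
    exact eq_one_of_mem_of_isPGroup_of_coprime hQ
      (centralizer_pCore_le_of_generalizedFittingSubgroup_eq p h hyQ) hy

end Cfsg.Agent.S1268
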