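import Mathlib
import Cfsg.Statements.S1592
import Cfsg.Agent.Lib.H8.TernaryGolay
import Cfsg.Agent.Lib.H8.SteinerCrit

set_option autoImplicit false
open Cfsg
open Cfsg.Agent.Lib.H8.TG

namespace Cfsg.Agent.S1592

theorem supp_def (x : ArrayPt → ZMod 3) :
    ternarySupport x = Finset.univ.filter fun a => x a ≠ 0 := rfl

theorem mem_supp {x : ArrayPt → ZMod 3} {p : ArrayPt} : p ∈ ternarySupport x ↔ x p ≠ 0 := by
  simp [supp_def]

theorem supp_neg (x : ArrayPt → ZMod 3) : ternarySupport (-x) = ternarySupport x := by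
  ext p; simp [mem_supp]

theorem zmod3_add : ∀ a b : ZMod 3, a ≠ 0 → b ≠ 0 → a ≠ b → a + b = 0 := by decide

theorem supp_sub_subset (x y : ArrayPt → ZMod 3) : ternarySupport (x - y) ⊆
    (ternarySupport x ∪ ternarySupport y) \
      ((ternarySupport x ∩ ternarySupport y).filter (fun p => x p = y p)) := by
  intro p hp
  rw [mem_supp, Pi.sub_apply] at hp
  rw [Finset.mem_sdiff, Finset.mem_union, mem_supp, mem_supp, Finset.mem_filter]
  constructor
  · by_contra hcon
    push Not at hcon
    rw [hcon.1, hcon.2, sub_zero] at hp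
    exact hp rfl
  · rintro ⟨-, h⟩
    rw [h, sub_self] at hp
    exact hp rfl

theorem supp_add_subset (x y : ArrayPt → ZMod 3) : ternarySupport (x + y) ⊆
    (ternarySupport x ∪ ternarySupport y) \
      ((ternarySupport x ∩ ternarySupport y).filter (fun p => ¬ x p = y p)) := by
  intro p hp
  rw [mem_supp, Pi.add_apply] at hp
  rw [Finset.mem_sdiff, Finset.mem_union, mem_supp, mem_supp, Finset.mem_filter]
  constructor
  · by_contra hcon
    push Not at hcon
    rw [hcon.1, hcon.2, add_zero] at hp
    exact hp rfl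
  · rintro ⟨hI, h⟩
    rw [Finset.mem_inter, mem_supp, mem_supp] at hI
    exact hp (zmod3_add _ _ hI.1 hI.2 h)

/-- two weight-6 words whose supports share at least 5 points are equal or opposite -/
theorem eq_or_eq_neg {x y : ArrayPt → ZMod 3} (hx : x ∈ ternaryGolayCode)
    (hy : y ∈ ternaryGolayCode) (hx6 : (ternarySupport x).card = 6)
    (hy6 : (ternarySupport y).card = 6)
    (hI : 5 ≤ (ternarySupport x ∩ ternarySupport y).card) : y = x ∨ y = -x := by
  obtain ⟨I, hIdef⟩ : ∃ I, I = ternarySupport x ∩ ternarySupport y := ⟨_, rfl⟩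
  obtain ⟨U, hUdef⟩ : ∃ U, U = ternarySupport x ∪ ternarySupport y := ⟨_, rfl⟩
  obtain ⟨Ip, hIp⟩ : ∃ Ip, Ip = I.filter (fun p => x p = y p) := ⟨_, rfl⟩
  obtain ⟨Im, hIm⟩ : ∃ Im, Im = I.filter (fun p => ¬ x p = y p) := ⟨_, rfl⟩
  have hsplit : Ip.card + Im.card = I.card := by
    rw [hIp, hIm]; exact Finset.card_filter_add_card_filter_not _
  have hU : U.card + I.card = 12 := by
    rw [hUdef, hIdef, Finset.card_union_add_card_inter, hx6, hy6]
  have hIU : I ⊆ U := by
    rw [hIdef, hUdef]; exact Finset.inter_subset_left.trans Finset.subset_union_left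
  have hIpU : Ip ⊆ U := by rw [hIp]; exact (Finset.filter_subset _ _).trans hIU
  have hImU : Im ⊆ U := by rw [hIm]; exact (Finset.filter_subset _ _).trans hIU
  rw [← hIdef] at hI
  by_cases h3 : 3 ≤ Ip.card
  · left
    have hle : (ternarySupport (x - y)).card ≤ (U \ Ip).card := by
      rw [hUdef, hIp, hIdef]; exact Finset.card_le_card (supp_sub_subset x y)
    rw [Finset.card_sdiff_of_subset hIpU] at hle
    have h0 : x - y = 0 := by
      by_contra hne
      have := six_le_wt (ternaryGolayCode.sub_mem hx hy) hne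
      omega
    exact (sub_eq_zero.mp h0).symm
  · right
    have h3' : 3 ≤ Im.card := by omega
    have hle : (ternarySupport (x + y)).card ≤ (U \ Im).card := by
      rw [hUdef, hIm, hIdef]; exact Finset.card_le_card (supp_add_subset x y)
    rw [Finset.card_sdiff_of_subset hImU] at hle
    have h0 : x + y = 0 := by
      by_contra hne
      have := six_le_wt (ternaryGolayCode.add_mem hx hy) hne
      omega
    exact (neg_eq_of_add_eq_zero_right h0).symm

theorem gen_neg (c : T) : gen (-c) = -gen c := by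
  have h := gen_info_of_mem (ternaryGolayCode.neg_mem (gen_mem c))
  rw [← h]
  rfl

theorem T_eq_neg (c : T) (h : c = -c) : c = 0 := by
  obtain ⟨c0, c1, c2, c3, c4, c5⟩ := c
  have key : ∀ a : ZMod 3, a = -a → a = 0 := by decide
  simp only [Prod.neg_mk, Prod.mk.injEq] at h
  obtain ⟨h0, h1, h2, h3, h4, h5⟩ := h
  rw [key c0 h0, key c1 h1, key c2 h2, key c3 h3, key c4 h4, key c5 h5]
  rfl

/-- weight-6 coefficient tuples -/
def S6 : Finset T := Finset.univ.filter (fun c : T => (ternarySupport (gen c)).card = 6)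

/-- the blocks -/
def blocks : Finset (Finset ArrayPt) := S6.image (fun c => ternarySupport (gen c))

theorem mem_S6 {c : T} : c ∈ S6 ↔ (ternarySupport (gen c)).card = 6 := by
  simp [S6]

theorem fiber_card (b : Finset ArrayPt) (hb : b ∈ blocks) :
    (S6.filter (fun c => ternarySupport (gen c) = b)).card = 2 := by
  obtain ⟨c₀, hc₀, rfl⟩ := Finset.mem_image.mp hb
  rw [mem_S6] at hc₀
  have hne : c₀ ≠ -c₀ := by
    intro h
    have h0 := T_eq_neg c₀ h
    rw [h0, gen_zero] at hc₀
    simp [supp_def] at hc₀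
  have : S6.filter (fun c => ternarySupport (gen c) = ternarySupport (gen c₀)) = {c₀, -c₀} := by
    ext c
    rw [Finset.mem_filter, mem_S6, Finset.mem_insert, Finset.mem_singleton]
    constructor
    · rintro ⟨h6, hs⟩
      have hI : 5 ≤ (ternarySupport (gen c₀) ∩ ternarySupport (gen c)).card := by
        rw [hs, Finset.inter_self, hc₀]; omega
      rcases eq_or_eq_neg (gen_mem c₀) (gen_mem c) hc₀ h6 hI with h | h
      · left; exact gen_injective h
      · right; rw [← gen_neg] at h; exact gen_injective h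
    · rintro (rfl | rfl)
      · exact ⟨hc₀, rfl⟩
      · rw [gen_neg, supp_neg]; exact ⟨hc₀, rfl⟩
  rw [this, Finset.card_pair hne]

theorem card_blocks : blocks.card = 132 := by
  have h1 : S6.card = 264 := wt_count6
  have h2 := Finset.card_eq_sum_card_image (fun c => ternarySupport (gen c)) S6
  rw [h1] at h2
  have h3 : ∑ b ∈ blocks, (S6.filter (fun c => ternarySupport (gen c) = b)).card
      = ∑ _b ∈ blocks, 2 := Finset.sum_congr rfl fiber_card
  rw [Finset.sum_const, smul_eq_mul] at h3
  have h4 : 264 = blocks.card * 2 := by rw [← h3]; exact h2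
  omega

theorem blocks_eq : {h : Finset ArrayPt | ∃ x ∈ ternaryGolayCode, ternarySupport x = h ∧ h.card = 6}
    = (blocks : Set (Finset ArrayPt)) := by
  ext h
  rw [Finset.mem_coe]
  constructor
  · rintro ⟨x, hx, rfl, h6⟩
    refine Finset.mem_image.mpr ⟨info x, ?_, ?_⟩
    · rw [mem_S6, gen_info_of_mem hx]; exact h6
    · rw [gen_info_of_mem hx]
  · intro hb
    obtain ⟨c, hc, rfl⟩ := Finset.mem_image.mp hb
    exact ⟨gen c, gen_mem c, rfl, mem_S6.mp hc⟩

/-- The supports of the weight-6 words of the length-12 ternary code form a Steiner system S(5, 6, 12) with 132 blocks. -/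
theorem result : Cfsg.IsSteinerSystem 5 6 {h : Finset Cfsg.ArrayPt | ∃ x ∈ Cfsg.ternaryGolayCode, Cfsg.ternarySupport x = h ∧ h.card = 6} ∧ {h : Finset Cfsg.ArrayPt | ∃ x ∈ Cfsg.ternaryGolayCode, Cfsg.ternarySupport x = h ∧ h.card = 6}.ncard = 132 := by
  rw [blocks_eq]
  refine ⟨?_, ?_⟩
  · apply Cfsg.Agent.Lib.H8.isSteinerSystem_of_count
    · intro b hb
      obtain ⟨c, hc, rfl⟩ := Finset.mem_image.mp hb
      exact mem_S6.mp hc
    · intro b hb b' hb' hne
      obtain ⟨c, hc, rfl⟩ := Finset.mem_image.mp hb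
      obtain ⟨d, hd, rfl⟩ := Finset.mem_image.mp hb'
      by_contra hcon
      push Not at hcon
      apply hne
      rcases eq_or_eq_neg (gen_mem c) (gen_mem d) (mem_S6.mp hc) (mem_S6.mp hd) hcon with h | h
      · rw [h]
      · rw [h, supp_neg]
    · rw [card_blocks]
      have : Fintype.card ArrayPt = 12 := by simp [ZMod.card]
      rw [this]
      decide
  · rw [Set.ncard_coe_finset, card_blocks]

end Cfsg.Agent.S1592
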