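import Mathlib
import Cfsg.Statements.S1593
import Cfsg.Agent.Lib.H8.TernaryGolay

set_option autoImplicit false
open Cfsg
open Cfsg.Agent.Lib.H8.TG

namespace Cfsg.Agent.S1593

/-- The only sign changes preserving the length-12 ternary code are the identity and negation of all coordinates. -/
theorem result (c : Cfsg.ArrayPt → (ZMod 3)ˣ) (h : (∀ x ∈ Cfsg.ternaryGolayCode, Cfsg.monomialMap 1 c x ∈ Cfsg.ternaryGolayCode)) : (∀ p, c p = 1) ∨ (∀ p, c p = -1) := by
  have h3 : (3 : ZMod 3) = 0 := by decide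
  have e0 : gen (info (fun p => (c p : ZMod 3) * gen (1, 0, 0, 0, 0, 0) p)) = fun p => (c p : ZMod 3) * gen (1, 0, 0, 0, 0, 0) p :=
    gen_info_of_mem (h _ (gen_mem _))
  have e1 : gen (info (fun p => (c p : ZMod 3) * gen (0, 1, 0, 0, 0, 0) p)) = fun p => (c p : ZMod 3) * gen (0, 1, 0, 0, 0, 0) p :=
    gen_info_of_mem (h _ (gen_mem _))
  have e2 : gen (info (fun p => (c p : ZMod 3) * gen (0, 0, 1, 0, 0, 0) p)) = fun p => (c p : ZMod 3) * gen (0, 0, 1, 0, 0, 0) p :=
    gen_info_of_mem (h _ (gen_mem _))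
  have e3 : gen (info (fun p => (c p : ZMod 3) * gen (0, 0, 0, 1, 0, 0) p)) = fun p => (c p : ZMod 3) * gen (0, 0, 0, 1, 0, 0) p :=
    gen_info_of_mem (h _ (gen_mem _))
  have e4 : gen (info (fun p => (c p : ZMod 3) * gen (0, 0, 0, 0, 1, 0) p)) = fun p => (c p : ZMod 3) * gen (0, 0, 0, 0, 1, 0) p :=
    gen_info_of_mem (h _ (gen_mem _))
  have e5 : gen (info (fun p => (c p : ZMod 3) * gen (0, 0, 0, 0, 0, 1) p)) = fun p => (c p : ZMod 3) * gen (0, 0, 0, 0, 0, 1) p :=
    gen_info_of_mem (h _ (gen_mem _))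
  have r5_7 : (c (2, 1) : ZMod 3) = (c (2, 0) : ZMod 3) := by
    have := congrFun e5 (2, 1)
    simp only [info, gen_00, gen_01, gen_02, gen_10, gen_11, gen_12, gen_20, gen_21, gen_22, gen_30, gen_31, gen_32] at this
    linear_combination (-1 : ZMod 3) * this
  have r5_8 : (c (2, 2) : ZMod 3) = (c (2, 0) : ZMod 3) := by
    have := congrFun e5 (2, 2)
    simp only [info, gen_00, gen_01, gen_02, gen_10, gen_11, gen_12, gen_20, gen_21, gen_22, gen_30, gen_31, gen_32] at this
    linear_combination (-1 : ZMod 3) * this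
  have r5_9 : (c (3, 0) : ZMod 3) = (c (2, 0) : ZMod 3) := by
    have := congrFun e5 (3, 0)
    simp only [info, gen_00, gen_01, gen_02, gen_10, gen_11, gen_12, gen_20, gen_21, gen_22, gen_30, gen_31, gen_32] at this
    linear_combination this + ((c (3, 0) : ZMod 3) - (c (2, 0) : ZMod 3)) * h3
  have r5_10 : (c (3, 1) : ZMod 3) = (c (2, 0) : ZMod 3) := by
    have := congrFun e5 (3, 1)
    simp only [info, gen_00, gen_01, gen_02, gen_10, gen_11, gen_12, gen_20, gen_21, gen_22, gen_30, gen_31, gen_32] at this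
    linear_combination this + ((c (3, 1) : ZMod 3) - (c (2, 0) : ZMod 3)) * h3
  have r5_11 : (c (3, 2) : ZMod 3) = (c (2, 0) : ZMod 3) := by
    have := congrFun e5 (3, 2)
    simp only [info, gen_00, gen_01, gen_02, gen_10, gen_11, gen_12, gen_20, gen_21, gen_22, gen_30, gen_31, gen_32] at this
    linear_combination this + ((c (3, 2) : ZMod 3) - (c (2, 0) : ZMod 3)) * h3
  have r0_8 : (c (2, 2) : ZMod 3) = (c (0, 0) : ZMod 3) := by
    have := congrFun e0 (2, 2)
    simp only [info, gen_00, gen_01, gen_02, gen_10, gen_11, gen_12, gen_20, gen_21, gen_22, gen_30, gen_31, gen_32] at this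
    linear_combination (-1 : ZMod 3) * this
  have r0_5 : (c (1, 2) : ZMod 3) = (c (0, 0) : ZMod 3) := by
    have := congrFun e0 (1, 2)
    simp only [info, gen_00, gen_01, gen_02, gen_10, gen_11, gen_12, gen_20, gen_21, gen_22, gen_30, gen_31, gen_32] at this
    linear_combination (-1 : ZMod 3) * this
  have r1_8 : (c (2, 2) : ZMod 3) = (c (0, 1) : ZMod 3) := by
    have := congrFun e1 (2, 2)
    simp only [info, gen_00, gen_01, gen_02, gen_10, gen_11, gen_12, gen_20, gen_21, gen_22, gen_30, gen_31, gen_32] at this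
    linear_combination this + ((c (2, 2) : ZMod 3) - (c (0, 1) : ZMod 3)) * h3
  have r2_7 : (c (2, 1) : ZMod 3) = (c (0, 2) : ZMod 3) := by
    have := congrFun e2 (2, 1)
    simp only [info, gen_00, gen_01, gen_02, gen_10, gen_11, gen_12, gen_20, gen_21, gen_22, gen_30, gen_31, gen_32] at this
    linear_combination (-1 : ZMod 3) * this
  have r3_8 : (c (2, 2) : ZMod 3) = (c (1, 0) : ZMod 3) := by
    have := congrFun e3 (2, 2)
    simp only [info, gen_00, gen_01, gen_02, gen_10, gen_11, gen_12, gen_20, gen_21, gen_22, gen_30, gen_31, gen_32] at this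
    linear_combination (-1 : ZMod 3) * this
  have r4_7 : (c (2, 1) : ZMod 3) = (c (1, 1) : ZMod 3) := by
    have := congrFun e4 (2, 1)
    simp only [info, gen_00, gen_01, gen_02, gen_10, gen_11, gen_12, gen_20, gen_21, gen_22, gen_30, gen_31, gen_32] at this
    linear_combination (-1 : ZMod 3) * this

  have hall : ∀ p, (c p : ZMod 3) = (c (2, 0) : ZMod 3) := by
    rw [forall_arrayPt]
    refine ⟨?_, ?_, ?_, ?_, ?_, ?_, rfl, r5_7, r5_8, r5_9, r5_10, r5_11⟩
    · rw [← r0_8, r5_8]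
    · rw [← r1_8, r5_8]
    · rw [← r2_7, r5_7]
    · rw [← r3_8, r5_8]
    · rw [← r4_7, r5_7]
    · rw [r0_5, ← r0_8, r5_8]
  have hall' : ∀ p, c p = c (2, 0) := fun p => Units.ext (hall p)
  have hu : ∀ v : (ZMod 3)ˣ, v = 1 ∨ v = -1 := by decide
  rcases hu (c (2, 0)) with h1 | h1
  · left; intro p; rw [hall' p, h1]
  · right; intro p; rw [hall' p, h1]

end Cfsg.Agent.S1593
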