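import Cfsg.Statements.S1061
import Cfsg.Agent.Lib.H29.D4Iso
import Cfsg.Agent.S0293

set_option autoImplicit false
open Cfsg

namespace Cfsg.Agent.S1061

/-- `gcd(2, q-1)² · |D₄(q)| = q¹² (q² - 1)(q⁴ - 1)(q⁴ - 1)(q⁶ - 1)`. -/
theorem result {F : Type*} [Field F] [Fintype F] {q : ℕ} (hq : Fintype.card F = q) : Nat.gcd 2 (q - 1) ^ 2 * Nat.card ↥(Cfsg.Lie.chevD4.group F) = q ^ 12 * (q ^ 2 - 1) * (q ^ 4 - 1) * (q ^ 4 - 1) * (q ^ 6 - 1) := by
  have h := Cfsg.Agent.S0293.result hq 4 (le_refl 4)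
  have hc : Nat.card ↥(Cfsg.Lie.chevD4.group F) =
      Nat.card (Cfsg.POmega F (Cfsg.quadFormPlus 4 F)) :=
    Nat.card_congr (Cfsg.Agent.Lib.H29.D4.isoD4 F).toEquiv
  have hq2 : 2 ≤ q := by
    rw [← hq]
    exact Fintype.one_lt_card
  have hg : Nat.gcd 4 (q ^ 4 - 1) = Nat.gcd 2 (q - 1) ^ 2 := by
    rcases Nat.even_or_odd q with he | ho
    · have h1 : Nat.gcd 4 (q ^ 4 - 1) = 1 := by
        obtain ⟨k, rfl⟩ := he
        have hk : 1 ≤ k := by omega
        have : (k + k) ^ 4 = 16 * k ^ 4 := by ring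
        have hk4 : 1 ≤ k ^ 4 := Nat.one_le_pow _ _ hk
        rw [this, Nat.gcd_rec]
        have : (16 * k ^ 4 - 1) % 4 = 3 := by omega
        rw [this]
        rfl
      have h2 : Nat.gcd 2 (q - 1) = 1 := by
        obtain ⟨k, rfl⟩ := he
        rw [Nat.gcd_rec]
        have : (k + k - 1) % 2 = 1 := by omega
        rw [this]
        rfl
      rw [h1, h2, one_pow]
    · have h1 : Nat.gcd 4 (q ^ 4 - 1) = 4 := by
        obtain ⟨k, rfl⟩ := ho
        have : (2 * k + 1) ^ 4 - 1 = 4 * (4 * k ^ 4 + 8 * k ^ 3 + 6 * k ^ 2 + 2 * k) := by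
          have e : (2 * k + 1) ^ 4 = 4 * (4 * k ^ 4 + 8 * k ^ 3 + 6 * k ^ 2 + 2 * k) + 1 := by ring
          rw [e]
          omega
        rw [this]
        exact Nat.gcd_mul_right_right _ _ ▸ (by simp)
      have h2 : Nat.gcd 2 (q - 1) = 2 := by
        obtain ⟨k, rfl⟩ := ho
        have : 2 * k + 1 - 1 = 2 * k := by omega
        rw [this]
        simp
      rw [h1, h2]
      norm_num
  rw [hc, ← hg, h]
  simp [Finset.prod_range_succ]
  ring

end Cfsg.Agent.S1061
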