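import Mathlib
import Cfsg.Agent.Lib.H20.ThreePrimes
import Cfsg.Agent.Lib.H21.ClassSize

set_option autoImplicit false
open Cfsg

namespace Cfsg.Agent.S4062

open Cfsg.Agent.Lib.H20

universe u

/-- a nonabelian group of order 6 is `S₃` -/
theorem s3_iso {G : Type*} [Group G] [Finite G] (h6 : Nat.card G = 6)
    (hnc : ¬ ∀ a b : G, a * b = b * a) : Nonempty (G ≃* Equiv.Perm (Fin 3)) := by
  haveI : Fact (Nat.Prime 2) := ⟨Nat.prime_two⟩
  obtain ⟨h, hh⟩ := exists_prime_orderOf_dvd_card' (G := G) 2 (by rw [h6]; norm_num)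
  have hH2 : Nat.card (Subgroup.zpowers h) = 2 := by rw [Nat.card_zpowers, hh]
  have hidx : (Subgroup.zpowers h).index = 3 := by
    have := Subgroup.card_mul_index (Subgroup.zpowers h)
    rw [hH2, h6] at this
    omega
  have hmemH : ∀ x ∈ Subgroup.zpowers h, x = 1 ∨ x = h := by
    intro x hx
    obtain ⟨k, rfl⟩ := Subgroup.mem_zpowers_iff.mp hx
    have h2 : h ^ (2 : ℤ) = 1 := by
      rw [zpow_ofNat, ← hh]; exact pow_orderOf_eq_one h
    rcases Int.emod_two_eq_zero_or_one k with hk | hk
    · left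
      have : k = 2 * (k / 2) := by omega
      rw [this, zpow_mul, h2, one_zpow]
    · right
      have : k = 2 * (k / 2) + 1 := by omega
      rw [this, zpow_add, zpow_mul, h2, one_zpow, one_mul, zpow_one]
  have hh1 : h ≠ 1 := by
    intro h1
    rw [h1, orderOf_one] at hh
    omega
  -- the core is trivial
  have hcore : (Subgroup.zpowers h).normalCore = ⊥ := by
    by_contra hne
    have hle : (Subgroup.zpowers h).normalCore ≤ Subgroup.zpowers h := Subgroup.normalCore_le _
    have hhmem : h ∈ (Subgroup.zpowers h).normalCore := by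
      obtain ⟨x, hx, hx1⟩ := (Subgroup.ne_bot_iff_exists_ne_one.mp hne : ∃ x : (Subgroup.zpowers h).normalCore, x ≠ 1)
        |> fun ⟨x, hx⟩ => (⟨(x : G), x.2, fun h' => hx (Subtype.ext h')⟩ :
          ∃ x : G, x ∈ (Subgroup.zpowers h).normalCore ∧ x ≠ 1)
      rcases hmemH x (hle hx) with h1 | h1
      · exact absurd h1 hx1
      · rw [h1] at hx; exact hx
    have hcent : ∀ g : G, g * h * g⁻¹ = h := by
      intro g
      have h1 : g * h * g⁻¹ ∈ (Subgroup.zpowers h).normalCore :=
        (Subgroup.normalCore_normal _).conj_mem h hhmem g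
      rcases hmemH _ (hle h1) with h2 | h2
      · exfalso
        apply hh1
        have : h = g⁻¹ * (g * h * g⁻¹) * g := by group
        rw [this, h2]; group
      · exact h2
    have hnormal : (Subgroup.zpowers h).Normal := by
      constructor
      intro x hx g
      rcases hmemH x hx with rfl | rfl
      · simp
      · rw [hcent g]; exact hx
    haveI := hnormal
    have hq3 : Nat.card (G ⧸ Subgroup.zpowers h) = 3 := by
      rw [← Subgroup.index_eq_card]; exact hidx
    haveI : Fact (Nat.Prime 3) := ⟨Nat.prime_three⟩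
    haveI : IsCyclic (G ⧸ Subgroup.zpowers h) := isCyclic_of_prime_card hq3
    apply hnc
    apply commutative_of_cyclic_center_quotient (QuotientGroup.mk' (Subgroup.zpowers h))
    rw [QuotientGroup.ker_mk']
    intro x hx
    rw [Subgroup.mem_center_iff]
    intro g
    rcases hmemH x hx with rfl | rfl
    · simp
    · have := hcent g
      calc g * x = (g * x * g⁻¹) * g := by group
        _ = x * g := by rw [this]
  -- the coset action
  have hinj : Function.Injective (MulAction.toPermHom G (G ⧸ Subgroup.zpowers h)) := by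
    rw [← MonoidHom.ker_eq_bot_iff, ← Subgroup.normalCore_eq_ker, hcore]
  have hq3 : Nat.card (G ⧸ Subgroup.zpowers h) = 3 := by
    rw [← Subgroup.index_eq_card]; exact hidx
  let e : (G ⧸ Subgroup.zpowers h) ≃ Fin 3 := Finite.equivFinOfCardEq hq3
  let f : G →* Equiv.Perm (Fin 3) :=
    (e.permCongrHom.toMonoidHom).comp (MulAction.toPermHom G (G ⧸ Subgroup.zpowers h))
  have hfinj : Function.Injective f := e.permCongrHom.injective.comp hinj
  have hfbij : Function.Bijective f := by
    rw [Nat.bijective_iff_injective_and_card]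
    refine ⟨hfinj, ?_⟩
    rw [h6, Nat.card_eq_fintype_card, Fintype.card_perm, Fintype.card_fin]
    rfl
  exact ⟨MulEquiv.ofBijective f hfbij⟩

/-- lifting lemma, when `N` is the set of all elements with `g ^ s = 1` -/
theorem exists_lift {G : Type*} [Group G] [Finite G] (N : Subgroup G) [N.Normal] {s : ℕ}
    (hs : s.Prime) (hNs : ∀ a ∈ N, a ^ s = 1) (hall : ∀ g : G, g ^ s = 1 → g ∈ N)
    (xbar : G ⧸ N) :
    ∃ x : G, (x : G ⧸ N) = xbar ∧
      orderOf x = if s ∣ orderOf xbar then orderOf xbar * s else orderOf xbar := by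
  obtain ⟨x, rfl⟩ := QuotientGroup.mk_surjective xbar
  obtain ⟨m, hm⟩ : ∃ m, m = orderOf (x : G ⧸ N) := ⟨_, rfl⟩
  rw [← hm]
  have hmpos : 0 < m := by rw [hm]; exact orderOf_pos _
  have hxm : x ^ m ∈ N := by
    rw [← QuotientGroup.eq_one_iff, QuotientGroup.mk_pow, hm, pow_orderOf_eq_one]
  have hxms : x ^ (m * s) = 1 := by rw [pow_mul]; exact hNs _ hxm
  have hdvd1 : m ∣ orderOf x := by rw [hm]; exact orderOf_map_dvd (QuotientGroup.mk' N) x
  have hdvd2 : orderOf x ∣ m * s := orderOf_dvd_of_pow_eq_one hxms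
  by_cases hsm : s ∣ m
  · rw [if_pos hsm]
    refine ⟨x, rfl, ?_⟩
    obtain ⟨d, hd⟩ := hdvd1
    have hds : d ∣ s := by
      rw [hd] at hdvd2
      exact Nat.dvd_of_mul_dvd_mul_left hmpos hdvd2
    rcases (Nat.dvd_prime hs).mp hds with rfl | rfl
    · exfalso
      rw [mul_one] at hd
      obtain ⟨c, hc⟩ := hsm
      have hc0 : c ≠ 0 := by rintro rfl; omega
      have hyo : orderOf (x ^ c) = s := by
        rw [orderOf_pow_of_dvd hc0 (by rw [hd, hc]; exact dvd_mul_left c s), hd, hc,
          Nat.mul_div_cancel _ (Nat.pos_of_ne_zero hc0)]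
      have hyN : x ^ c ∈ N := hall _ (by rw [← hyo]; exact pow_orderOf_eq_one _)
      have h1 : ((x : G ⧸ N)) ^ c = 1 := by
        rw [← QuotientGroup.mk_pow]; exact (QuotientGroup.eq_one_iff _).mpr hyN
      have hmc : m ∣ c := by rw [hm]; exact orderOf_dvd_of_pow_eq_one h1
      have h2 := Nat.le_of_dvd (Nat.pos_of_ne_zero hc0) hmc
      rw [hc] at h2
      have h3 := hs.two_le
      have h4 : 0 < c := Nat.pos_of_ne_zero hc0
      nlinarith
    · exact hd
  · rw [if_neg hsm]
    by_cases hm1 : m = 1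
    · refine ⟨1, ?_, by rw [orderOf_one, hm1]⟩
      have : (x : G ⧸ N) = 1 := orderOf_eq_one_iff.mp (hm ▸ hm1)
      rw [this]; rfl
    · have hcop : Nat.Coprime s m := (Nat.Prime.coprime_iff_not_dvd hs).mpr hsm
      obtain ⟨t, -, ht⟩ := Nat.exists_mul_mod_eq_one_of_coprime hcop (by omega)
      have hq : ((x ^ (s * t) : G) : G ⧸ N) = (x : G ⧸ N) := by
        rw [QuotientGroup.mk_pow, ← pow_mod_orderOf, ← hm, ht, pow_one]
      refine ⟨x ^ (s * t), hq, ?_⟩
      apply Nat.dvd_antisymm
      · apply orderOf_dvd_of_pow_eq_one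
        rw [← pow_mul, mul_comm (s * t) m, ← mul_assoc, pow_mul, hxms, one_pow]
      · have : orderOf ((x ^ (s * t) : G) : G ⧸ N) = m := by rw [hq, hm]
        rw [← this]
        exact orderOf_map_dvd (QuotientGroup.mk' N) _

theorem quotient_oc {G : Type*} [Group G] [Finite G] (N : Subgroup G) [N.Normal] {s : ℕ}
    (hs : s.Prime) (hNs : ∀ a ∈ N, a ^ s = 1) (hall : ∀ g : G, g ^ s = 1 → g ∈ N)
    (h : ∀ x y : G, orderOf x = orderOf y → IsConj x y) :
    ∀ x y : G ⧸ N, orderOf x = orderOf y → IsConj x y := by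
  intro xb yb hxy
  obtain ⟨x, rfl, hx⟩ := exists_lift N hs hNs hall xb
  obtain ⟨y, rfl, hy⟩ := exists_lift N hs hNs hall yb
  have : orderOf x = orderOf y := by rw [hx, hy, hxy]
  exact (QuotientGroup.mk' N).map_isConj (h x y this)

/-- the contradiction for `s = 2` -/
theorem r2_false {G : Type*} [Group G] [Finite G] (N : Subgroup G) [hNn : N.Normal]
    (hNs : ∀ a ∈ N, a ^ 2 = 1) (hall : ∀ g : G, g ^ 2 = 1 → g ∈ N)
    (h : ∀ x y : G, orderOf x = orderOf y → IsConj x y)
    (tbar : G ⧸ N) (ht : orderOf tbar = 2)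
    (hcent : ∀ gbar : G ⧸ N, gbar * tbar = tbar * gbar → gbar = 1 ∨ gbar = tbar) : False := by
  obtain ⟨t, rfl, hto⟩ := exists_lift N Nat.prime_two hNs hall tbar
  have htinv : orderOf t⁻¹ = orderOf t := orderOf_inv t
  obtain ⟨g, hg⟩ := isConj_iff.mp (h t t⁻¹ htinv.symm)
  have ht2 : (t : G ⧸ N) * (t : G ⧸ N) = 1 := by
    rw [← sq, ← ht]; exact pow_orderOf_eq_one _
  have h1 : ((t : G ⧸ N))⁻¹ = (t : G ⧸ N) := inv_eq_of_mul_eq_one_left ht2
  have hgbar : (g : G ⧸ N) * (t : G ⧸ N) = (t : G ⧸ N) * (g : G ⧸ N) := by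
    have h2 : (g : G ⧸ N) * (t : G ⧸ N) * (g : G ⧸ N)⁻¹ = ((t : G ⧸ N))⁻¹ := by
      rw [← QuotientGroup.mk_mul, ← QuotientGroup.mk_inv, ← QuotientGroup.mk_mul, hg,
        QuotientGroup.mk_inv]
    rw [h1] at h2
    calc (g : G ⧸ N) * t = ((g : G ⧸ N) * t * (g : G ⧸ N)⁻¹) * g := by group
      _ = t * g := by rw [h2]
  obtain ⟨n, hn, hnt⟩ : ∃ n ∈ N, n * t * n⁻¹ = t⁻¹ := by
    rcases hcent _ hgbar with h3 | h3
    · exact ⟨g, (QuotientGroup.eq_one_iff g).mp h3, hg⟩
    · have hmem : g * t⁻¹ ∈ N := by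
        rw [← QuotientGroup.eq_one_iff, QuotientGroup.mk_mul, QuotientGroup.mk_inv, h3,
          mul_inv_cancel]
      refine ⟨g * t⁻¹, hmem, ?_⟩
      calc g * t⁻¹ * t * (g * t⁻¹)⁻¹ = g * t * g⁻¹ := by group
        _ = t⁻¹ := hg
  have hsq : (t * n) ^ 2 = 1 := by
    have hn2 := hNs n hn
    calc (t * n) ^ 2 = (t * n) * (t * n) := sq _
      _ = t * (n * t * n⁻¹) * (n * n) := by group
      _ = 1 := by rw [hnt, ← sq, hn2]; group
  have htn : t * n ∈ N := hall _ hsq
  have htN : t ∈ N := by
    have := N.mul_mem htn (N.inv_mem hn)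
    rwa [mul_inv_cancel_right] at this
  have : (t : G ⧸ N) = 1 := (QuotientGroup.eq_one_iff t).mpr htN
  rw [this, orderOf_one] at ht
  omega

theorem s3_fact1 : orderOf (Equiv.swap (0 : Fin 3) 1) = 2 :=
  orderOf_eq_prime (by decide) (by decide)

theorem s3_fact2 : ∀ g : Equiv.Perm (Fin 3), g * Equiv.swap 0 1 = Equiv.swap 0 1 * g →
    g = 1 ∨ g = Equiv.swap 0 1 := by decide

/-- a `3`-cycle written as a commutator -/
def c3 : Equiv.Perm (Fin 3) :=
  (Equiv.swap (1 : Fin 3) 2 * Equiv.swap 0 1)⁻¹ * (Equiv.swap 0 1 * Equiv.swap 1 2)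

theorem c3_order : orderOf c3 = 3 :=
  orderOf_eq_prime (by decide) (by decide)

theorem c3_cent : ∀ g : Equiv.Perm (Fin 3), g * c3 = c3 * g → g = 1 ∨ g = c3 ∨ g = c3 ^ 2 := by
  decide

theorem main : ∀ (n : ℕ) (G : Type u) [Group G] [Finite G] [Group.IsSolvable G], Nat.card G = n →
    (∀ x y : G, orderOf x = orderOf y → IsConj x y) →
    Nat.card G = 1 ∨ Nat.card G = 2 ∨ Nonempty (G ≃* Equiv.Perm (Fin 3)) := by
  intro n
  induction n using Nat.strong_induction_on with
  | _ n ih =>
  intro G _ _ _ hn h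
  by_cases htriv : Nat.card G = 1
  · exact Or.inl htriv
  haveI : Nontrivial G := by
    rw [← Finite.one_lt_card_iff_nontrivial]
    have := Nat.card_pos (α := G); omega
  obtain ⟨s, N, hs, hNn, hN1, hNs, hNc⟩ := exists_normal_abelian_exponent_prime (G := G)
  haveI := hNn
  haveI : Fact s.Prime := ⟨hs⟩
  obtain ⟨n₀, hn₀N, hn₀1⟩ : ∃ n₀ ∈ N, n₀ ≠ 1 := by
    obtain ⟨x, hx⟩ := Subgroup.ne_bot_iff_exists_ne_one.mp hN1
    exact ⟨x, x.2, fun h' => hx (Subtype.ext h')⟩
  have hn₀o : orderOf n₀ = s := orderOf_eq_prime (hNs n₀ hn₀N) hn₀1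
  have hall : ∀ g : G, g ^ s = 1 → g ∈ N := by
    intro g hg
    by_cases hg1 : g = 1
    · rw [hg1]; exact N.one_mem
    · have hgo : orderOf g = s := orderOf_eq_prime hg hg1
      obtain ⟨c, hc⟩ := isConj_iff.mp (h n₀ g (by rw [hn₀o, hgo]))
      rw [← hc]; exact hNn.conj_mem n₀ hn₀N c
  have hQoc := quotient_oc N hs hNs hall h
  have hcardG : Nat.card G = Nat.card (G ⧸ N) * Nat.card N :=
    Subgroup.card_eq_card_quotient_mul_card_subgroup N
  have hN2 : 1 < Nat.card N := (Subgroup.one_lt_card_iff_ne_bot N).mpr hN1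
  have hlt : Nat.card (G ⧸ N) < n := by
    rw [← hn, hcardG]
    have h2 : 0 < Nat.card (G ⧸ N) := Nat.card_pos
    nlinarith
  have hsN : s ∣ Nat.card N := by
    have : orderOf (⟨n₀, hn₀N⟩ : N) = s := by rw [← hn₀o, ← Subgroup.orderOf_coe]
    rw [← this]; exact orderOf_dvd_natCard _
  -- the class of `n₀`
  have hclass : Nat.card {g : G // IsConj n₀ g} = Nat.card N - 1 := by
    have hset : {g : G | IsConj n₀ g} = (N : Set G) \ {1} := by
      ext g
      simp only [Set.mem_setOf_eq, Set.mem_diff, SetLike.mem_coe, Set.mem_singleton_iff]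
      constructor
      · intro hg
        obtain ⟨c, hc⟩ := isConj_iff.mp hg
        refine ⟨by rw [← hc]; exact hNn.conj_mem n₀ hn₀N c, ?_⟩
        rintro rfl
        apply hn₀1
        have : n₀ = c⁻¹ * (c * n₀ * c⁻¹) * c := by group
        rw [this, hc]; group
      · rintro ⟨hgN, hg1⟩
        exact h n₀ g (by rw [hn₀o, orderOf_eq_prime (hNs g hgN) hg1])
    have h1 : Nat.card {g : G // IsConj n₀ g} = ({g : G | IsConj n₀ g}).ncard :=
      Nat.card_coe_set_eq _
    rw [h1, hset, Set.ncard_diff_singleton_of_mem (show (1 : G) ∈ (N : Set G) from N.one_mem),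
      ← Nat.card_coe_set_eq]
    rfl
  have hCle : N ≤ Subgroup.centralizer ({n₀} : Set G) := by
    intro a ha
    rw [Subgroup.mem_centralizer_singleton_iff]
    exact hNc a ha n₀ hn₀N
  have hCidx : (Subgroup.centralizer ({n₀} : Set G)).index = Nat.card N - 1 := by
    rw [← hclass]; exact (Cfsg.Agent.Lib.H21.card_conj_eq_index_centralizer n₀).symm
  have hdvd : (Nat.card N - 1) ∣ Nat.card (G ⧸ N) := by
    rw [← hCidx, ← Subgroup.index_eq_card]
    exact Subgroup.index_dvd_of_le hCle
  rcases ih (Nat.card (G ⧸ N)) hlt (G ⧸ N) rfl hQoc with hq1 | hq2 | ⟨⟨e⟩⟩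
  · -- `G = N`
    rw [hq1, Nat.dvd_one] at hdvd
    right; left
    rw [hcardG, hq1]; omega
  · -- `|G/N| = 2`
    rw [hq2] at hdvd
    have hle := Nat.le_of_dvd (by norm_num) hdvd
    have hN23 : Nat.card N = 2 ∨ Nat.card N = 3 := by omega
    rcases hN23 with hN | hN
    · exfalso
      have hs2 : s = 2 := by
        rw [hN] at hsN
        exact (Nat.prime_dvd_prime_iff_eq hs Nat.prime_two).mp hsN
      subst hs2
      obtain ⟨tbar, htbar, htuniq⟩ := (Nat.card_eq_two_iff' (1 : G ⧸ N)).mp hq2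
      have hto : orderOf tbar = 2 := by
        have h1 : orderOf tbar ∣ 2 := by rw [← hq2]; exact orderOf_dvd_natCard tbar
        rcases (Nat.dvd_prime Nat.prime_two).mp h1 with h2 | h2
        · exact absurd (orderOf_eq_one_iff.mp h2) htbar
        · exact h2
      exact r2_false N hNs hall h tbar hto (fun gbar _ => by
        by_cases hg : gbar = 1
        · exact Or.inl hg
        · exact Or.inr (htuniq gbar hg))
    · right; right
      have h6 : Nat.card G = 6 := by rw [hcardG, hq2, hN]
      have hs3 : s = 3 := by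
        rw [hN] at hsN
        exact (Nat.prime_dvd_prime_iff_eq hs Nat.prime_three).mp hsN
      apply s3_iso h6
      intro hcomm
      obtain ⟨c, hc⟩ := isConj_iff.mp (h n₀ n₀⁻¹ (orderOf_inv n₀).symm)
      rw [hcomm c n₀, mul_inv_cancel_right] at hc
      have h2 : n₀ ^ 2 = 1 := by
        rw [sq]
        nth_rewrite 1 [hc]
        exact inv_mul_cancel n₀
      have := orderOf_dvd_of_pow_eq_one h2
      rw [hn₀o, hs3] at this
      omega
  · -- `G/N ≅ S₃`
    exfalso
    have hq6 : Nat.card (G ⧸ N) = 6 := by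
      rw [Nat.card_congr e.toEquiv, Nat.card_eq_fintype_card, Fintype.card_perm, Fintype.card_fin]
      rfl
    by_cases hs2 : s = 2
    · subst hs2
      refine r2_false N hNs hall h (e.symm (Equiv.swap 0 1)) ?_ ?_
      · rw [MulEquiv.orderOf_eq]; exact s3_fact1
      · intro gbar hg
        have h1 : e gbar * Equiv.swap 0 1 = Equiv.swap 0 1 * e gbar := by
          have := congrArg e hg
          rwa [map_mul, map_mul, MulEquiv.apply_symm_apply] at this
        rcases s3_fact2 _ h1 with h2 | h2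
        · left
          have := congrArg e.symm h2
          rwa [MulEquiv.symm_apply_apply, map_one] at this
        · right
          have := congrArg e.symm h2
          rwa [MulEquiv.symm_apply_apply] at this
    · rw [hq6] at hdvd
      have hle := Nat.le_of_dvd (by norm_num) hdvd
      have hN37 : Nat.card N = 3 ∨ Nat.card N = 7 := by
        have h1 : Nat.card N - 1 = 1 ∨ Nat.card N - 1 = 2 ∨ Nat.card N - 1 = 3 ∨
            Nat.card N - 1 = 6 := by
          have h0 : Nat.card N - 1 ≠ 0 := by omega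
          generalize Nat.card N - 1 = d at hdvd hle h0
          interval_cases d <;> omega
        rcases h1 with h1 | h1 | h1 | h1
        · exfalso
          have : Nat.card N = 2 := by omega
          rw [this] at hsN
          exact hs2 ((Nat.prime_dvd_prime_iff_eq hs Nat.prime_two).mp hsN)
        · left; omega
        · exfalso
          have : Nat.card N = 4 := by omega
          rw [this] at hsN
          have h4 : s ∣ 2 ^ 2 := by norm_num; exact hsN
          exact hs2 ((Nat.prime_dvd_prime_iff_eq hs Nat.prime_two).mp (hs.dvd_of_dvd_pow h4))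
        · right; omega
      -- `N` is cyclic of prime order `s`
      have hNs' : Nat.card N = s := by
        rcases hN37 with hN | hN
        · rw [hN] at hsN ⊢
          exact ((Nat.prime_dvd_prime_iff_eq hs Nat.prime_three).mp hsN).symm
        · rw [hN] at hsN ⊢
          exact ((Nat.prime_dvd_prime_iff_eq hs (by norm_num : Nat.Prime 7)).mp hsN).symm
      have hgen : ∀ x ∈ N, x ≠ 1 → ∀ y ∈ N, y ∈ Subgroup.zpowers x := by
        intro x hx hx1 y hy
        have htop := zpowers_eq_top_of_prime_card (G := N) hNs' (g := ⟨x, hx⟩)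
          (fun h' => hx1 (congrArg Subtype.val h'))
        have hy' : (⟨y, hy⟩ : N) ∈ Subgroup.zpowers (⟨x, hx⟩ : N) := by
          rw [htop]; exact Subgroup.mem_top _
        obtain ⟨k, hk⟩ := Subgroup.mem_zpowers_iff.mp hy'
        refine Subgroup.mem_zpowers_iff.mpr ⟨k, ?_⟩
        have := congrArg Subtype.val hk
        simpa using this
      rcases hN37 with hN | hN
      · -- `|N| = 3`: elements of order `9`
        have hs3 : s = 3 := by rw [← hNs', hN]
        subst hs3
        obtain ⟨s₁, hs₁, hs₁o⟩ := exists_lift N hs hNs hall (e.symm c3)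
        have hc3o : orderOf (e.symm c3) = 3 := by rw [MulEquiv.orderOf_eq]; exact c3_order
        rw [hc3o, if_pos (dvd_refl 3)] at hs₁o
        have h4o : orderOf (s₁ ^ 4) = orderOf s₁ := by
          apply Nat.Coprime.orderOf_pow
          rw [hs₁o]; decide
        obtain ⟨g, hg⟩ := isConj_iff.mp (h s₁ (s₁ ^ 4) h4o.symm)
        have hbar3 : (s₁ : G ⧸ N) ^ 3 = 1 := by
          have h3 := pow_orderOf_eq_one (e.symm c3)
          rw [hc3o] at h3
          rw [hs₁]; exact h3
        have hbar4 : (s₁ : G ⧸ N) ^ 4 = (s₁ : G ⧸ N) := by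
          rw [pow_succ, hbar3, one_mul]
        have hgbar : (g : G ⧸ N) * (s₁ : G ⧸ N) = (s₁ : G ⧸ N) * (g : G ⧸ N) := by
          have h2 : (g : G ⧸ N) * (s₁ : G ⧸ N) * (g : G ⧸ N)⁻¹ = (s₁ : G ⧸ N) ^ 4 := by
            rw [← QuotientGroup.mk_mul, ← QuotientGroup.mk_inv, ← QuotientGroup.mk_mul, hg,
              QuotientGroup.mk_pow]
          rw [hbar4] at h2
          calc (g : G ⧸ N) * s₁ = ((g : G ⧸ N) * s₁ * (g : G ⧸ N)⁻¹) * g := by group
            _ = s₁ * g := by rw [h2]
        -- `g` is `s₁ ^ i` modulo `N`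
        have hgi : ∃ i : ℕ, (g : G ⧸ N) = (s₁ : G ⧸ N) ^ i := by
          have h1 : e (g : G ⧸ N) * c3 = c3 * e (g : G ⧸ N) := by
            have := congrArg e hgbar
            rwa [map_mul, map_mul, hs₁, MulEquiv.apply_symm_apply] at this
          rcases c3_cent _ h1 with h2 | h2 | h2
          · refine ⟨0, ?_⟩
            have := congrArg e.symm h2
            rwa [MulEquiv.symm_apply_apply, map_one, ← pow_zero (s₁ : G ⧸ N)] at this
          · refine ⟨1, ?_⟩
            have := congrArg e.symm h2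
            rwa [MulEquiv.symm_apply_apply, ← hs₁, ← pow_one (s₁ : G ⧸ N)] at this
          · refine ⟨2, ?_⟩
            have := congrArg e.symm h2
            rwa [MulEquiv.symm_apply_apply, map_pow, ← hs₁] at this
        obtain ⟨i, hi⟩ := hgi
        have hmem : g * (s₁ ^ i)⁻¹ ∈ N := by
          rw [← QuotientGroup.eq_one_iff, QuotientGroup.mk_mul, QuotientGroup.mk_inv,
            QuotientGroup.mk_pow, hi, mul_inv_cancel]
        -- `N = ⟨s₁ ^ 3⟩`
        have hs13N : s₁ ^ 3 ∈ N := by
          rw [← QuotientGroup.eq_one_iff, QuotientGroup.mk_pow]; exact hbar3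
        have hs131 : s₁ ^ 3 ≠ 1 := by
          intro h3
          have := orderOf_dvd_of_pow_eq_one h3
          rw [hs₁o] at this
          omega
        have hz := hgen _ hs13N hs131 _ hmem
        obtain ⟨k, hk⟩ := Subgroup.mem_zpowers_iff.mp hz
        have hcomm : Commute (g * (s₁ ^ i)⁻¹) s₁ := by
          rw [← hk]
          exact ((Commute.refl s₁).pow_left 3).zpow_left k
        have hcomm2 : Commute g s₁ := by
          have h5 : g = (g * (s₁ ^ i)⁻¹) * s₁ ^ i := by group
          rw [h5]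
          exact hcomm.mul_left ((Commute.refl s₁).pow_left i)
        have h6 : g * s₁ * g⁻¹ = s₁ := by
          rw [hcomm2.eq, mul_inv_cancel_right]
        rw [h6] at hg
        -- `s₁ = s₁ ^ 4`
        have h7 : s₁ ^ 3 = 1 := by
          have h8 : s₁ ^ 4 = s₁ ^ 3 * s₁ := pow_succ s₁ 3
          rw [h8] at hg
          exact (mul_eq_right).mp hg.symm
        exact hs131 h7
      · -- `|N| = 7`
        have hidx6 : (Subgroup.centralizer ({n₀} : Set G)).index = 6 := by rw [hCidx, hN]
        -- lifts of the two transpositions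
        obtain ⟨a, ha⟩ := QuotientGroup.mk_surjective (e.symm (Equiv.swap (0 : Fin 3) 1))
        obtain ⟨b, hb⟩ := QuotientGroup.mk_surjective (e.symm (Equiv.swap (1 : Fin 3) 2))
        -- the commutator centralizes `n₀`
        have hconj : ∀ x : G, ∃ k : ℤ, x * n₀ * x⁻¹ = n₀ ^ k := by
          intro x
          have := hgen n₀ hn₀N hn₀1 _ (hNn.conj_mem n₀ hn₀N x)
          obtain ⟨k, hk⟩ := Subgroup.mem_zpowers_iff.mp this
          exact ⟨k, hk.symm⟩
        obtain ⟨i, hi⟩ := hconj a
        obtain ⟨j, hj⟩ := hconj b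
        have hab : (a * b) * n₀ * (a * b)⁻¹ = n₀ ^ (i * j) := by
          calc (a * b) * n₀ * (a * b)⁻¹ = a * (b * n₀ * b⁻¹) * a⁻¹ := by group
            _ = a * n₀ ^ j * a⁻¹ := by rw [hj]
            _ = (a * n₀ * a⁻¹) ^ j := by rw [conj_zpow]
            _ = n₀ ^ (i * j) := by rw [hi, zpow_mul]
        have hba : (b * a) * n₀ * (b * a)⁻¹ = n₀ ^ (i * j) := by
          calc (b * a) * n₀ * (b * a)⁻¹ = b * (a * n₀ * a⁻¹) * b⁻¹ := by group
            _ = b * n₀ ^ i * b⁻¹ := by rw [hi]
            _ = (b * n₀ * b⁻¹) ^ i := by rw [conj_zpow]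
            _ = n₀ ^ (i * j) := by rw [hj, mul_comm i j, zpow_mul]
        have hcmem : (b * a)⁻¹ * (a * b) ∈ Subgroup.centralizer ({n₀} : Set G) := by
          rw [Subgroup.mem_centralizer_singleton_iff]
          have h1 : (a * b) * n₀ * (a * b)⁻¹ = (b * a) * n₀ * (b * a)⁻¹ := by rw [hab, hba]
          calc (b * a)⁻¹ * (a * b) * n₀
              = (b * a)⁻¹ * ((a * b) * n₀ * (a * b)⁻¹) * (a * b) := by group
            _ = (b * a)⁻¹ * ((b * a) * n₀ * (b * a)⁻¹) * (a * b) := by rw [h1]
            _ = n₀ * ((b * a)⁻¹ * (a * b)) := by group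
        -- its image is `c3`
        have himg : (((b * a)⁻¹ * (a * b) : G) : G ⧸ N) = e.symm c3 := by
          rw [QuotientGroup.mk_mul, QuotientGroup.mk_inv, QuotientGroup.mk_mul,
            QuotientGroup.mk_mul, ha, hb]
          unfold c3
          rw [map_mul, map_inv, map_mul, map_mul]
        -- the image of the centralizer has index `6`, hence is trivial
        have hmapidx : ((Subgroup.centralizer ({n₀} : Set G)).map (QuotientGroup.mk' N)).index = 6 := by
          rw [Subgroup.index_map_eq _ (QuotientGroup.mk'_surjective N)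
            (by rw [QuotientGroup.ker_mk']; exact hCle)]
          exact hidx6
        have hmapcard : Nat.card ((Subgroup.centralizer ({n₀} : Set G)).map (QuotientGroup.mk' N)) = 1 := by
          have := Subgroup.card_mul_index ((Subgroup.centralizer ({n₀} : Set G)).map (QuotientGroup.mk' N))
          rw [hmapidx, hq6] at this
          omega
        have hbot := Subgroup.card_eq_one.mp hmapcard
        have hc3mem : e.symm c3 ∈ (Subgroup.centralizer ({n₀} : Set G)).map (QuotientGroup.mk' N) :=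
          ⟨_, hcmem, himg⟩
        rw [hbot, Subgroup.mem_bot] at hc3mem
        have hc3o : orderOf (e.symm c3) = 3 := by rw [MulEquiv.orderOf_eq]; exact c3_order
        rw [hc3mem, orderOf_one] at hc3o
        omega

theorem result {G : Type*} [Group G] [Finite G] [Group.IsSolvable G]
    (h : ∀ x y : G, orderOf x = orderOf y → IsConj x y) :
    Nat.card G = 1 ∨ Nat.card G = 2 ∨ Nonempty (G ≃* Equiv.Perm (Fin 3)) :=
  main _ G rfl h

end Cfsg.Agent.S4062
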