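import Cfsg.Statements.S0562
import Mathlib

set_option autoImplicit false
open Cfsg

namespace Cfsg.Agent.S0562

/-- conjugation map as a monoid hom -/
def cj {G : Type*} [Group G] (g : G) : G →* G := (MulAut.conj g).toMonoidHom

theorem cj_apply {G : Type*} [Group G] (g x : G) : cj g x = g * x * g⁻¹ := rfl

theorem cj_inj {G : Type*} [Group G] (g : G) : Function.Injective (cj g) :=
  (MulAut.conj g).injective

theorem map_cj_mul {G : Type*} [Group G] (g h : G) (X : Subgroup G) :
    X.map (cj (g * h)) = (X.map (cj h)).map (cj g) := by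
  rw [Subgroup.map_map]
  congr 1
  ext x
  simp only [cj_apply, MonoidHom.comp_apply]
  group

theorem mem_normalizer_iff_map_cj {G : Type*} [Group G] (X : Subgroup G) (g : G) :
    g ∈ Subgroup.normalizer (X : Set G) ↔ X.map (cj g) = X :=
  Subgroup.mem_normalizer_iff_map_conj_eq

/-- Let the finite group G be the product HK of subgroups, A normal in H, B normal in K, and L the normalizer of the subgroup generated by A and B. Then every element of L is a product of an element of L ∩ H and an element of L ∩ K. -/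
theorem result {G : Type*} [Group G] [Finite G] (H K A B : Subgroup G) (hHK : ∀ g : G, ∃ h ∈ H, ∃ k ∈ K, g = h * k) (hA : A ≤ H) (hAn : (A.subgroupOf H).Normal) (hB : B ≤ K) (hBn : (B.subgroupOf K).Normal) : ∀ g ∈ Subgroup.normalizer ((A ⊔ B : Subgroup G) : Set G), ∃ h ∈ Subgroup.normalizer ((A ⊔ B : Subgroup G) : Set G) ⊓ H, ∃ k ∈ Subgroup.normalizer ((A ⊔ B : Subgroup G) : Set G) ⊓ K, g = h * k := by
  have hHN : H ≤ Subgroup.normalizer (A : Set G) := Subgroup.le_normalizer_of_normal_subgroupOf hA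
  have hKN : K ≤ Subgroup.normalizer (B : Set G) := Subgroup.le_normalizer_of_normal_subgroupOf hB
  intro g hg
  obtain ⟨h, hh, k, hk, rfl⟩ := hHK g
  set X := A ⊔ B with hX
  rw [mem_normalizer_iff_map_cj] at hg
  -- Y = X.map (cj h⁻¹) = X.map (cj k)
  have hY : X.map (cj h⁻¹) = X.map (cj k) := by
    conv_lhs => rw [← hg]
    rw [← map_cj_mul]
    congr 2
    group
  have hAY : A ≤ X.map (cj h⁻¹) := by
    have : A.map (cj h⁻¹) = A := (mem_normalizer_iff_map_cj A h⁻¹).1 (hHN (H.inv_mem hh))
    rw [← this]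
    exact Subgroup.map_mono le_sup_left
  have hBY : B ≤ X.map (cj h⁻¹) := by
    rw [hY]
    have : B.map (cj k) = B := (mem_normalizer_iff_map_cj B k).1 (hKN hk)
    rw [← this]
    exact Subgroup.map_mono le_sup_right
  have hXY : X ≤ X.map (cj h⁻¹) := sup_le hAY hBY
  have hcard : Nat.card (X.map (cj h⁻¹)) = Nat.card X := Subgroup.card_map_of_injective (cj_inj _)
  have hEq : X = X.map (cj h⁻¹) := Subgroup.eq_of_le_of_card_ge hXY (le_of_eq hcard)
  have hhinv : h⁻¹ ∈ Subgroup.normalizer (X : Set G) := (mem_normalizer_iff_map_cj X _).2 hEq.symm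
  have hhN : h ∈ Subgroup.normalizer (X : Set G) := by
    have := (Subgroup.normalizer (X : Set G)).inv_mem hhinv
    simpa using this
  have hkN : k ∈ Subgroup.normalizer (X : Set G) := by
    rw [mem_normalizer_iff_map_cj, ← hY, ← hEq]
  exact ⟨h, ⟨hhN, hh⟩, k, ⟨hkN, hk⟩, rfl⟩

end Cfsg.Agent.S0562
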