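import Mathlib
import Cfsg.Statements.S0566

set_option autoImplicit false
open Pointwise
open Cfsg

namespace Cfsg.Agent.S0566

section aux
variable {G : Type*} [Group G]

/-- The product set `A * Y` is (the carrier of) a subgroup. -/
def IsProdSub (A Y : Subgroup G) : Prop :=
  ∃ S : Subgroup G, (S : Set G) = (A : Set G) * (Y : Set G)

lemma swap_of_isProdSub {A Y : Subgroup G} (h : IsProdSub A Y) {y a : G} (hy : y ∈ Y)
    (ha : a ∈ A) : ∃ a' ∈ A, ∃ y' ∈ Y, y * a = a' * y' := by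
  obtain ⟨S, hS⟩ := h
  have h1 : a⁻¹ * y⁻¹ ∈ S := by
    rw [← SetLike.mem_coe, hS]; exact Set.mul_mem_mul (A.inv_mem ha) (Y.inv_mem hy)
  have h2 : y * a ∈ S := by
    have := S.inv_mem h1
    simpa [mul_inv_rev] using this
  rw [← SetLike.mem_coe, hS] at h2
  obtain ⟨a', ha', y', hy', e⟩ := h2
  exact ⟨a', ha', y', hy', e.symm⟩

lemma swap_sup {A A' Y : Subgroup G} (h : IsProdSub A Y) (h' : IsProdSub A' Y) :
    ∀ c ∈ A ⊔ A', ∀ y ∈ Y, ∃ c' ∈ A ⊔ A', ∃ y' ∈ Y, y * c = c' * y' := by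
  intro c hc
  rw [Subgroup.sup_eq_closure] at hc
  induction hc using Subgroup.closure_induction_left with
  | one => intro y hy; exact ⟨1, one_mem _, y, hy, by simp⟩
  | mul_left x hx c0 hc0 ih =>
    intro y hy
    have hx' : ∃ a' ∈ A ⊔ A', ∃ y' ∈ Y, y * x = a' * y' := by
      rcases hx with hx | hx
      · obtain ⟨a', ha', y', hy', e⟩ := swap_of_isProdSub h hy hx
        exact ⟨a', Subgroup.mem_sup_left ha', y', hy', e⟩
      · obtain ⟨a', ha', y', hy', e⟩ := swap_of_isProdSub h' hy hx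
        exact ⟨a', Subgroup.mem_sup_right ha', y', hy', e⟩
    obtain ⟨a', ha', y', hy', e⟩ := hx'
    obtain ⟨c', hc', y'', hy'', e'⟩ := ih y' hy'
    refine ⟨a' * c', mul_mem ha' hc', y'', hy'', ?_⟩
    rw [← mul_assoc, e, mul_assoc, e', mul_assoc]
  | inv_mul_cancel x hx c0 hc0 ih =>
    intro y hy
    have hx' : ∃ a' ∈ A ⊔ A', ∃ y' ∈ Y, y * x⁻¹ = a' * y' := by
      rcases hx with hx | hx
      · obtain ⟨a', ha', y', hy', e⟩ := swap_of_isProdSub h hy (A.inv_mem hx)
        exact ⟨a', Subgroup.mem_sup_left ha', y', hy', e⟩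
      · obtain ⟨a', ha', y', hy', e⟩ := swap_of_isProdSub h' hy (A'.inv_mem hx)
        exact ⟨a', Subgroup.mem_sup_right ha', y', hy', e⟩
    obtain ⟨a', ha', y', hy', e⟩ := hx'
    obtain ⟨c', hc', y'', hy'', e'⟩ := ih y' hy'
    refine ⟨a' * c', mul_mem ha' hc', y'', hy'', ?_⟩
    rw [← mul_assoc, e, mul_assoc, e', mul_assoc]

lemma isProdSub_sup {A A' Y : Subgroup G} (h : IsProdSub A Y) (h' : IsProdSub A' Y) :
    IsProdSub (A ⊔ A') Y := by
  have hs := swap_sup h h'
  refine ⟨{ carrier := ((A ⊔ A' : Subgroup G) : Set G) * (Y : Set G)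
            mul_mem' := ?_
            one_mem' := ?_
            inv_mem' := ?_ }, rfl⟩
  · rintro _ _ ⟨c1, hc1, y1, hy1, rfl⟩ ⟨c2, hc2, y2, hy2, rfl⟩
    obtain ⟨c', hc', y', hy', e⟩ := hs c2 hc2 y1 hy1
    refine ⟨c1 * c', mul_mem hc1 hc', y' * y2, mul_mem hy' hy2, ?_⟩
    simp only
    calc c1 * c' * (y' * y2) = c1 * (c' * y') * y2 := by group
      _ = c1 * (y1 * c2) * y2 := by rw [e]
      _ = c1 * y1 * (c2 * y2) := by group
  · exact ⟨1, one_mem _, 1, one_mem _, by simp⟩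
  · rintro _ ⟨c, hc, y, hy, rfl⟩
    obtain ⟨c', hc', y', hy', e⟩ := hs c⁻¹ (inv_mem hc) y⁻¹ (inv_mem hy)
    refine ⟨c', hc', y', hy', ?_⟩
    simp only
    rw [← e, mul_inv_rev]

lemma isProdSub_conj {A Y : Subgroup G} (h : IsProdSub A Y) (b : G) :
    IsProdSub (MulAut.conj b • A) (MulAut.conj b • Y) := by
  obtain ⟨S, hS⟩ := h
  refine ⟨MulAut.conj b • S, ?_⟩
  ext g
  constructor
  · intro hg
    rw [SetLike.mem_coe, Subgroup.mem_pointwise_smul_iff_inv_smul_mem] at hg
    rw [← SetLike.mem_coe, hS] at hg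
    obtain ⟨a, ha, y, hy, e⟩ := hg
    refine ⟨MulAut.conj b • a, Subgroup.smul_mem_pointwise_smul _ _ _ ha,
      MulAut.conj b • y, Subgroup.smul_mem_pointwise_smul _ _ _ hy, ?_⟩
    have e' : a * y = (MulAut.conj b)⁻¹ • g := e
    show MulAut.conj b • a * MulAut.conj b • y = g
    rw [← smul_mul', e', smul_inv_smul]
  · rintro ⟨a, ha, y, hy, rfl⟩
    rw [SetLike.mem_coe, Subgroup.mem_pointwise_smul_iff_inv_smul_mem] at ha hy ⊢
    rw [← SetLike.mem_coe, hS, smul_mul']
    exact ⟨_, ha, _, hy, rfl⟩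

end aux

theorem key {G : Type*} [Group G] [Finite G] (B : Subgroup G) : ∀ A : Subgroup G,
    (∀ x : G, ∃ S : Subgroup G, S ≠ ⊤ ∧
      (S : Set G) = (A : Set G) * ((MulAut.conj x • B : Subgroup G) : Set G)) →
    ∃ N : Subgroup G, N.Normal ∧ N ≠ ⊤ ∧ (A ≤ N ∨ B ≤ N) := by
  intro A
  induction A using WellFoundedGT.induction with
  | ind A ih =>
  intro h
  by_cases hNA : Subgroup.normalClosure (A : Set G) = ⊤
  swap
  · exact ⟨_, Subgroup.normalClosure_normal, hNA, Or.inl Subgroup.le_normalClosure⟩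
  by_cases hNB : Subgroup.normalClosure (B : Set G) = ⊤
  swap
  · exact ⟨_, Subgroup.normalClosure_normal, hNB, Or.inr Subgroup.le_normalClosure⟩
  exfalso
  -- A is not normal
  have hAn : Subgroup.normalizer (A : Set G) ≠ ⊤ := by
    intro hn
    have : A.Normal := Subgroup.normalizer_eq_top_iff.mp hn
    rw [Subgroup.normalClosure_eq_self A] at hNA
    obtain ⟨S, hS, hSe⟩ := h 1
    apply hS
    rw [eq_top_iff]
    intro g _
    rw [← SetLike.mem_coe, hSe, hNA]
    exact ⟨g, trivial, 1, one_mem _, mul_one g⟩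
  -- some conjugate of B does not normalize A
  have hex : ∃ x : G, ¬ (MulAut.conj x • B ≤ Subgroup.normalizer (A : Set G)) := by
    by_contra hcon
    push_neg at hcon
    apply hAn
    rw [eq_top_iff, ← hNB]
    unfold Subgroup.normalClosure
    rw [Subgroup.closure_le]
    intro g hg
    rw [Group.mem_conjugatesOfSet_iff] at hg
    obtain ⟨b, hb, hconj⟩ := hg
    rw [isConj_iff] at hconj
    obtain ⟨c, rfl⟩ := hconj
    apply hcon c
    rw [Subgroup.mem_pointwise_smul_iff_inv_smul_mem]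
    simpa [MulAut.smul_def, mul_assoc] using hb
  obtain ⟨x, hx⟩ := hex
  rw [SetLike.not_le_iff_exists] at hx
  obtain ⟨b, hbx, hbA⟩ := hx
  set A1 : Subgroup G := A ⊔ MulAut.conj b • A with hA1
  have hlt : A < A1 := by
    refine lt_of_le_of_ne le_sup_left ?_
    intro heq
    apply hbA
    apply Subgroup.mem_normalizer_fintype
    intro n hn
    have : MulAut.conj b • n ∈ A1 :=
      Subgroup.mem_sup_right (Subgroup.smul_mem_pointwise_smul _ _ _ hn)
    rw [← heq] at this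
    simpa [MulAut.smul_def] using this
  obtain ⟨Sx, hSx, hSxe⟩ := h x
  have hASx : A ≤ Sx := by
    intro a ha
    rw [← SetLike.mem_coe, hSxe]
    exact ⟨a, ha, 1, one_mem _, mul_one a⟩
  have hBSx : MulAut.conj x • B ≤ Sx := by
    intro a ha
    rw [← SetLike.mem_coe, hSxe]
    exact ⟨1, one_mem _, a, ha, one_mul a⟩
  have hA1Sx : A1 ≤ Sx := by
    refine sup_le hASx ?_
    intro g hg
    rw [Subgroup.mem_pointwise_smul_iff_inv_smul_mem] at hg
    have h1 : (MulAut.conj b)⁻¹ • g ∈ Sx := hASx hg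
    have hb : b ∈ Sx := hBSx hbx
    have : b * ((MulAut.conj b)⁻¹ • g) * b⁻¹ ∈ Sx := mul_mem (mul_mem hb h1) (inv_mem hb)
    simpa [MulAut.smul_def, mul_assoc] using this
  -- A1 * (y • B) is always a subgroup
  have hprod : ∀ y : G, IsProdSub A1 (MulAut.conj y • B) := by
    intro y
    apply isProdSub_sup
    · obtain ⟨S, _, hS⟩ := h y
      exact ⟨S, hS⟩
    · obtain ⟨S, _, hS⟩ := h (b⁻¹ * y)
      have := isProdSub_conj (⟨S, hS⟩ : IsProdSub A (MulAut.conj (b⁻¹ * y) • B)) b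
      rwa [smul_smul, ← map_mul, mul_inv_cancel_left] at this
  -- by maximality, some A1 * (y • B) is everything
  have hy : ∃ y : G, ∀ g : G, g ∈ (A1 : Set G) * ((MulAut.conj y • B : Subgroup G) : Set G) := by
    by_contra hcon
    push_neg at hcon
    have hyp : ∀ y : G, ∃ S : Subgroup G, S ≠ ⊤ ∧
        (S : Set G) = (A1 : Set G) * ((MulAut.conj y • B : Subgroup G) : Set G) := by
      intro y
      obtain ⟨S, hS⟩ := hprod y
      refine ⟨S, ?_, hS⟩
      rintro rfl
      obtain ⟨g, hg⟩ := hcon y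
      apply hg
      rw [← hS]
      trivial
    obtain ⟨N, hN, hNtop, hle⟩ := ih A1 hlt hyp
    rcases hle with hle | hle
    · apply hNtop
      rw [eq_top_iff, ← hNA]
      exact Subgroup.normalClosure_le_normal (le_trans hlt.le hle)
    · apply hNtop
      rw [eq_top_iff, ← hNB]
      exact Subgroup.normalClosure_le_normal hle
  obtain ⟨y, hy⟩ := hy
  -- x • B is an A1-conjugate of y • B
  obtain ⟨a1, ha1, b', hb', hg⟩ := hy (x * y⁻¹)
  have hx' : x = a1 * b' * y := by
    have hg' : a1 * b' = x * y⁻¹ := hg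
    rw [hg']; group
  have hyB : MulAut.conj y • B ≤ Sx := by
    intro w hw
    have hw' : b'⁻¹ * w * b' ∈ MulAut.conj y • B := mul_mem (mul_mem (inv_mem hb') hw) hb'
    have h1 : a1 * w * a1⁻¹ ∈ MulAut.conj x • B := by
      rw [Subgroup.mem_pointwise_smul_iff_inv_smul_mem] at hw' ⊢
      have : (MulAut.conj x)⁻¹ • (a1 * w * a1⁻¹) = (MulAut.conj y)⁻¹ • (b'⁻¹ * w * b') := by
        simp only [MulAut.smul_def, MulAut.conj_inv_apply, hx']
        group
      rw [this]; exact hw'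
    have h2 : a1 * w * a1⁻¹ ∈ Sx := hBSx h1
    have ha1S : a1 ∈ Sx := hA1Sx ha1
    have := mul_mem (mul_mem (inv_mem ha1S) h2) ha1S
    simpa [mul_assoc] using this
  apply hSx
  rw [eq_top_iff]
  intro g _
  obtain ⟨c, hc, w, hw, e⟩ := hy g
  have e' : c * w = g := e
  rw [← e']
  exact mul_mem (hA1Sx hc) (hyB hw)

/-- Let A and B be nontrivial subgroups of a finite group G such that for every x the product set of A and xBx⁻¹ is a proper subgroup of G. Then there is a proper normal subgroup of G containing A or containing B. -/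
theorem result {G : Type*} [Group G] [Finite G] (A B : Subgroup G) (hA : A ≠ ⊥) (hB : B ≠ ⊥) (h : ∀ x : G, ∃ S : Subgroup G, S ≠ ⊤ ∧ (S : Set G) = (A : Set G) * ((MulAut.conj x • B : Subgroup G) : Set G)) : ∃ N : Subgroup G, N.Normal ∧ N ≠ ⊤ ∧ (A ≤ N ∨ B ≤ N) := by
  exact key B A h

end Cfsg.Agent.S0566
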