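import Cfsg.Statements.S1326
import Cfsg.Agent.Lib.H7.FStar

set_option autoImplicit false
open Cfsg
open Cfsg.Agent.Lib.H7

namespace Cfsg.Agent.S1326

/-- For a finite group X: the Fitting subgroup contains its centralizer if and only if the layer of X is trivial. -/
theorem result {X : Type*} [Group X] [Finite X] : Subgroup.centralizer (Cfsg.fittingSubgroup X : Set X) ≤ Cfsg.fittingSubgroup X ↔ Cfsg.layer X = ⊥ := by
  constructor
  · intro h
    rw [layer_eq_bot_iff]
    intro L hL
    apply component_not_solvable hL
    have h1 : L ≤ Subgroup.centralizer (Cfsg.fittingSubgroup X : Set X) := by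
      rw [← Subgroup.commutator_eq_bot_iff_le_centralizer, eq_bot_iff, ← layer_commutator_fitting (G := X)]
      exact Subgroup.commutator_mono (component_le_layer hL) le_rfl
    have h2 : L ≤ Cfsg.fittingSubgroup X := h1.trans h
    have := fittingSubgroup_isNilpotent (G := X)
    exact Group.isSolvable_of_isSolvable_injective (Subgroup.inclusion_injective h2)
  · intro h
    have := centralizer_generalizedFittingSubgroup_le (G := X)
    unfold generalizedFittingSubgroup at this
    rwa [h, bot_sup_eq] at this

end Cfsg.Agent.S1326
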