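import Cfsg.Statements.S0552
-- import your own Cfsg.Agent.* helpers here
import Cfsg.Agent.S1326
import Cfsg.Agent.Lib.H7.FStar
import Cfsg.Agent.Lib.H1.Fitting
import Mathlib

set_option autoImplicit false
open Cfsg

namespace Cfsg.Agent.S0552

theorem layer_eq_bot_of_isSolvable {G : Type*} [Group G] [Finite G] [Group.IsSolvable G] :
    Cfsg.layer G = ⊥ := by
  by_contra h
  have h1 := Group.IsSolvable.commutator_lt_of_ne_bot h
  rw [Cfsg.Agent.Lib.H7.layer_commutator_self] at h1
  exact lt_irrefl _ h1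

/-- Let σ be an automorphism of a finite solvable group G fixing every element of the Fitting subgroup. If σ is not the identity then the order of σ and the order of G have a common prime factor. -/
theorem result {G : Type*} [Group G] [Finite G] [Group.IsSolvable G] (σ : G ≃* G) (hσ : ∀ x ∈ Cfsg.fittingSubgroup G, σ x = x) (hne : σ ≠ MulEquiv.refl G) : ¬ (orderOf σ).Coprime (Nat.card G) := by
  intro hcop
  apply hne
  have hF : Subgroup.centralizer (Cfsg.fittingSubgroup G : Set G) ≤ Cfsg.fittingSubgroup G :=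
    Cfsg.Agent.S1326.result.2 layer_eq_bot_of_isSolvable
  have hFn : (Cfsg.fittingSubgroup G).Normal := Cfsg.Agent.Lib.H1.fittingSubgroup_normal G
  ext g
  rw [MulEquiv.refl_apply]
  set z := g⁻¹ * σ g with hz
  have hzC : z ∈ Subgroup.centralizer (Cfsg.fittingSubgroup G : Set G) := by
    rw [Subgroup.mem_centralizer_iff]
    intro f hf
    have h1 : σ (g * f * g⁻¹) = g * f * g⁻¹ := hσ _ (hFn.conj_mem f hf g)
    rw [map_mul, map_mul, map_inv, hσ f hf] at h1
    rw [hz]
    calc f * (g⁻¹ * σ g) = g⁻¹ * (g * f * g⁻¹) * σ g := by group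
      _ = g⁻¹ * (σ g * f * (σ g)⁻¹) * σ g := by rw [h1]
      _ = g⁻¹ * σ g * f := by group
  have hzF : σ z = z := hσ z (hF hzC)
  have hσg : σ g = g * z := by rw [hz]; group
  have hpow : ∀ k : ℕ, (σ ^ k) g = g * z ^ k := by
    intro k
    induction k with
    | zero => simp
    | succ k ih =>
      rw [pow_succ', MulAut.mul_apply, ih, map_mul, map_pow, hzF, hσg, pow_succ', mul_assoc]
  have h1 := hpow (orderOf σ)
  rw [pow_orderOf_eq_one, MulAut.one_apply] at h1
  have h2 : z ^ orderOf σ = 1 := by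
    have := mul_left_cancel (a := g) (b := 1) (c := z ^ orderOf σ) (by rw [mul_one]; exact h1)
    exact this.symm
  have h3 : orderOf z ∣ orderOf σ := orderOf_dvd_of_pow_eq_one h2
  have h4 : orderOf z ∣ Nat.card G := orderOf_dvd_natCard z
  have h5 : orderOf z ∣ 1 := by
    have := Nat.dvd_gcd h3 h4
    rwa [Nat.Coprime.gcd_eq_one hcop] at this
  have h6 : z = 1 := orderOf_eq_one_iff.1 (Nat.dvd_one.1 h5)
  rw [hσg, h6, mul_one]

end Cfsg.Agent.S0552
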