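import Cfsg.Statements.S0558
import Cfsg.Agent.Lib.L0.ControlFusion
import Cfsg.Agent.Lib.H10.SylowIn
-- import your own Cfsg.Agent.* helpers here

set_option autoImplicit false
open Cfsg

namespace Cfsg.Agent.S0558

open Cfsg.Agent.Lib

/-- Step A: under the normalizer hypothesis, a Sylow `p`-subgroup of `H` is normal in `H` and
is (the image of) a Sylow `p`-subgroup of `G`. -/
theorem stepA {G : Type*} [Group G] [Finite G] (H : Subgroup G) {p : ℕ} [Fact p.Prime]
    (P₀ : Sylow p H)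
    (hn : Subgroup.normalizer (((P₀ : Subgroup H).map H.subtype : Subgroup G) : Set G) = H) :
    (P₀ : Subgroup H).Normal ∧ ∃ S : Sylow p G, (S : Subgroup G) = (P₀ : Subgroup H).map H.subtype := by
  set P : Subgroup G := (P₀ : Subgroup H).map H.subtype with hPdef
  have hPH : P ≤ H := Subgroup.map_subtype_le _
  have hPp : IsPGroup p P := P₀.isPGroup'.map _
  constructor
  · constructor
    intro n hn' g
    have hg : (g : G) ∈ Subgroup.normalizer (P : Set G) := by rw [hn]; exact g.2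
    have hnP : (n : G) ∈ P := ⟨n, hn', rfl⟩
    have := (Subgroup.mem_normalizer_iff.mp hg (n : G)).mp hnP
    obtain ⟨y, hy, hy'⟩ := this
    have : y = g * n * g⁻¹ := Subtype.ext (by simpa using hy')
    rw [← this]; exact hy
  · obtain ⟨S, hS⟩ := hPp.exists_le_sylow
    refine ⟨S, ?_⟩
    by_contra hne
    have hlt : P < (S : Subgroup G) := lt_of_le_of_ne hS (Ne.symm hne)
    have h1 := H10.lt_inf_normalizer_of_lt S.isPGroup' hlt
    set R := (S : Subgroup G) ⊓ Subgroup.normalizer (P : Set G) with hR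
    have hRH : R ≤ H := by
      intro x hx
      have : x ∈ Subgroup.normalizer (P : Set G) := hx.2
      rw [hn] at this; exact this
    have hRp : IsPGroup p R := S.isPGroup'.to_le inf_le_left
    have hRp' : IsPGroup p (R.subgroupOf H) := hRp.comap_subtype
    have hle : (P₀ : Subgroup H) ≤ R.subgroupOf H := by
      intro x hx
      rw [Subgroup.mem_subgroupOf]
      exact h1.le ⟨x, hx, rfl⟩
    have heq := P₀.is_maximal' hRp' hle
    have : R ≤ P := by
      intro x hx
      have hx' : (⟨x, hRH hx⟩ : H) ∈ R.subgroupOf H := by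
        rw [Subgroup.mem_subgroupOf]; exact hx
      rw [heq] at hx'
      exact ⟨⟨x, hRH hx⟩, hx', rfl⟩
    exact absurd (le_antisymm this h1.le) h1.ne'


/-- Let H be a subgroup of a finite group G that is not a Sylow subgroup of G for any prime, and suppose that for every prime p dividing the order of H and every Sylow p-subgroup P of H the normalizer of P in G is exactly H. Then some normal subgroup of G is a complement to H. -/
theorem result {G : Type*} [Group G] [Finite G] (H : Subgroup G) (hnot : ∀ p : ℕ, p.Prime → ∀ P : Sylow p G, (P : Subgroup G) ≠ H) (hnorm : ∀ p : ℕ, p.Prime → p ∣ Nat.card H → ∀ P : Sylow p H, Subgroup.normalizer (((P : Subgroup H).map H.subtype : Subgroup G) : Set G) = H) : ∃ N : Subgroup G, N.Normal ∧ Subgroup.IsComplement' N H := by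
  classical
  -- all Sylow subgroups of H are normal, so H is nilpotent
  have hnormal : ∀ (q : ℕ) (hq : Fact q.Prime) (Q₀ : Sylow q H), (Q₀ : Subgroup H).Normal := by
    intro q hq Q₀
    by_cases hd : q ∣ Nat.card H
    · exact (stepA H Q₀ (hnorm q hq.out hd Q₀)).1
    · have hcard : Nat.card (Q₀ : Subgroup H) = 1 := by
        have h1 := Sylow.card_eq_multiplicity Q₀
        rw [Nat.factorization_eq_zero_of_not_dvd hd, pow_zero] at h1
        exact h1
      rw [Subgroup.card_eq_one] at hcard  -- Q₀ = ⊥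
      rw [hcard]; infer_instance
  have hnil : Group.IsNilpotent H := by
    have := (Group.isNilpotent_of_finite_tfae (G := H)).out 0 3
    exact this.mpr hnormal
  -- H is a Hall subgroup
  have hHall : Nat.Coprime (Nat.card H) H.index := by
    by_contra hc
    obtain ⟨p, hp, hp1, hp2⟩ := Nat.Prime.not_coprime_iff_dvd.mp hc
    have : Fact p.Prime := ⟨hp⟩
    obtain ⟨P₀⟩ : Nonempty (Sylow p H) := inferInstance
    obtain ⟨S, hS⟩ := (stepA H P₀ (hnorm p hp hp1 P₀)).2
    have hSH : (S : Subgroup G) ≤ H := by rw [hS]; exact Subgroup.map_subtype_le _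
    have := Subgroup.index_dvd_of_le hSH
    exact S.not_dvd_index (dvd_trans hp2 this)
  apply L0.exists_normal_complement_of_forall_hasNormalPComplement H hHall
  intro p hp hpH
  have : Fact p.Prime := ⟨hp⟩
  obtain ⟨P₀⟩ : Nonempty (Sylow p H) := inferInstance
  obtain ⟨hP₀n, S, hS⟩ := stepA H P₀ (hnorm p hp hpH P₀)
  have hSH : (S : Subgroup G) ≤ H := by rw [hS]; exact Subgroup.map_subtype_le _
  -- every p-element of H lies in S
  have hpel : ∀ x ∈ H, (∃ k : ℕ, x ^ (p ^ k) = 1) → x ∈ (S : Subgroup G) := by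
    intro x hx ⟨k, hk⟩
    have hz : IsPGroup p (Subgroup.zpowers (⟨x, hx⟩ : H)) := by
      rw [IsPGroup.iff_orderOf]
      rintro ⟨y, hy⟩
      obtain ⟨n, rfl⟩ := Subgroup.mem_zpowers_iff.mp hy
      have hy1 : ((⟨x, hx⟩ : H) ^ n) ^ (p ^ k) = 1 := by
        rw [← zpow_natCast, ← zpow_mul, mul_comm, zpow_mul, zpow_natCast]
        have : (⟨x, hx⟩ : H) ^ (p ^ k) = 1 := Subtype.ext (by simpa using hk)
        rw [this, one_zpow]
      rw [Subgroup.orderOf_mk]
      obtain ⟨j, _, hj⟩ := (Nat.dvd_prime_pow hp).mp (orderOf_dvd_of_pow_eq_one hy1)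
      exact ⟨j, hj⟩
    obtain ⟨Q, hQ⟩ := hz.exists_le_sylow
    obtain ⟨g, hg⟩ := MulAction.exists_smul_eq H P₀ Q
    have hQP : Q = P₀ := by
      rw [← hg]
      exact Sylow.smul_eq_of_normal
    have : (⟨x, hx⟩ : H) ∈ (P₀ : Subgroup H) := by
      rw [← hQP]; exact hQ (Subgroup.mem_zpowers _)
    rw [hS]
    exact ⟨⟨x, hx⟩, this, rfl⟩
  -- another prime q
  obtain ⟨q, hq, hqH, hqp⟩ : ∃ q : ℕ, q.Prime ∧ q ∣ Nat.card H ∧ q ≠ p := by
    by_contra hno
    push Not at hno
    have hcard : Nat.card H = p ^ (Nat.card H).primeFactorsList.length :=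
      Nat.eq_prime_pow_of_unique_prime_dvd Nat.card_pos.ne' (fun {d} hd hdH => hno d hd hdH)
    have hHp : IsPGroup p H := IsPGroup.of_card hcard
    have := S.is_maximal' hHp hSH
    exact hnot p hp S this.symm
  have : Fact q.Prime := ⟨hq⟩
  obtain ⟨Q₀⟩ : Nonempty (Sylow q H) := inferInstance
  have hNQ := hnorm q hq hqH Q₀
  obtain ⟨hQ₀n, T, hT⟩ := stepA H Q₀ hNQ
  rw [← hT] at hNQ
  have hTH : (T : Subgroup G) ≤ H := by rw [hT]; exact Subgroup.map_subtype_le _
  have hNP := hnorm p hp hpH P₀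
  rw [← hS] at hNP
  -- S and T commute elementwise
  have hcomm : ∀ x ∈ (S : Subgroup G), ∀ y ∈ (T : Subgroup G), x * y = y * x := by
    intro x hx y hy
    have hdis : Disjoint (S : Subgroup G) (T : Subgroup G) :=
      IsPGroup.disjoint_of_ne p q hqp.symm _ _ S.isPGroup' T.isPGroup'
    have hxN : x ∈ Subgroup.normalizer ((T : Subgroup G) : Set G) := by rw [hNQ]; exact hSH hx
    have hyN : y ∈ Subgroup.normalizer ((S : Subgroup G) : Set G) := by rw [hNP]; exact hTH hy
    have h1 : x * y * x⁻¹ * y⁻¹ ∈ (T : Subgroup G) :=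
      Subgroup.mul_mem _ ((Subgroup.mem_normalizer_iff.mp hxN y).mp hy) (Subgroup.inv_mem _ hy)
    have h2 : x * y * x⁻¹ * y⁻¹ ∈ (S : Subgroup G) := by
      have := (Subgroup.mem_normalizer_iff.mp hyN x⁻¹).mp (Subgroup.inv_mem _ hx)
      have h3 := Subgroup.mul_mem _ hx this
      have h4 : x * (y * x⁻¹ * y⁻¹) = x * y * x⁻¹ * y⁻¹ := by group
      rw [h4] at h3; exact h3
    have h5 : x * y * x⁻¹ * y⁻¹ = 1 := by
      have := Subgroup.disjoint_def.mp hdis h2 h1
      exact this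
    calc x * y = (x * y * x⁻¹ * y⁻¹) * (y * x) := by group
      _ = y * x := by rw [h5, one_mul]
  apply L0.hasNormalPComplement_of_control_fusion S
  intro x hx g hxg
  set y := g⁻¹ * x * g with hy
  set C := Subgroup.centralizer ({y} : Set G) with hC
  have hTC : (T : Subgroup G) ≤ C := by
    intro t ht
    rw [hC, Subgroup.mem_centralizer_singleton_iff]
    exact (hcomm y hxg t ht).symm
  have hTgC : (T : Subgroup G).map (MulAut.conj g⁻¹).toMonoidHom ≤ C := by
    intro t ht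
    rw [H10.mem_map_conj, inv_inv] at ht
    rw [hC, Subgroup.mem_centralizer_singleton_iff]
    have h1 := hcomm x hx _ ht
    -- x * (g t g⁻¹) = (g t g⁻¹) * x
    have h2 : t * y = g⁻¹ * ((g * t * g⁻¹) * x) * g := by rw [hy]; group
    have h3 : y * t = g⁻¹ * (x * (g * t * g⁻¹)) * g := by rw [hy]; group
    rw [h2, h3, h1]
  obtain ⟨c, hcC, hc⟩ := H10.exists_mem_map_conj_le_of_sylowIn T.isPGroup' hTC
    (H10.not_dvd_relIndex_of_sylow_le T hTC) (H10.isPGroup_map_conj g⁻¹ T.isPGroup') hTgC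
  rw [H10.map_conj_map_conj] at hc
  have hnT : c * g⁻¹ ∈ Subgroup.normalizer ((T : Subgroup G) : Set G) := by
    rw [H10.mem_normalizer_iff_map_conj]
    exact Subgroup.eq_of_le_of_card_ge hc (by rw [H10.card_map_conj])
  rw [hNQ] at hnT
  have hhH : g * c⁻¹ ∈ H := by
    have := H.inv_mem hnT
    have h2 : (c * g⁻¹)⁻¹ = g * c⁻¹ := by group
    rw [h2] at this; exact this
  have hcy : c * y = y * c := by
    rw [hC, Subgroup.mem_centralizer_singleton_iff] at hcC
    exact hcC
  have hyh : y = (g * c⁻¹)⁻¹ * x * (g * c⁻¹) := by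
    have h1 : (g * c⁻¹)⁻¹ * x * (g * c⁻¹) = c * (g⁻¹ * x * g) * c⁻¹ := by group
    rw [h1, ← hy, hcy]; group
  set h := g * c⁻¹ with hh
  obtain ⟨c₁, c₂, hc₁, hc₂, hdec, hc₁p, hc₂p⟩ :=
    H8.exists_p_decomp h (orderOf_pos h).ne' p hp
  have hzH : Subgroup.zpowers h ≤ H := by
    rw [Subgroup.zpowers_le]; exact hhH
  have hc₁S : c₁ ∈ (S : Subgroup G) := hpel c₁ (hzH hc₁) hc₁p
  have hcomm2 : ∀ s ∈ (S : Subgroup G), c₂ * s = s * c₂ := by
    intro s hs
    apply H8.mul_comm_of_coprime_of_mem_nilpotent H hnil (hzH hc₂) (hSH hs)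
    obtain ⟨k, hk⟩ := (IsPGroup.iff_orderOf.mp S.isPGroup') ⟨s, hs⟩
    rw [Subgroup.orderOf_mk] at hk
    rw [hk]
    exact Nat.Coprime.pow_right k hc₂p
  refine ⟨c₁, hc₁S, ?_⟩
  rw [hyh, hdec]
  have hs : c₁⁻¹ * x * c₁ ∈ (S : Subgroup G) :=
    Subgroup.mul_mem _ (Subgroup.mul_mem _ (Subgroup.inv_mem _ hc₁S) hx) hc₁S
  have h3 := hcomm2 _ hs
  calc (c₁ * c₂)⁻¹ * x * (c₁ * c₂) = c₂⁻¹ * ((c₁⁻¹ * x * c₁) * c₂) := by group
    _ = c₂⁻¹ * (c₂ * (c₁⁻¹ * x * c₁)) := by rw [h3]
    _ = c₁⁻¹ * x * c₁ := by group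


end Cfsg.Agent.S0558
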