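import Cfsg.Statements.S0560
-- import your own Cfsg.Agent.* helpers here
import Cfsg.Agent.Lib.H15.Card
import Cfsg.Agent.Lib.H3.Thompson
import Mathlib

set_option autoImplicit false
open Pointwise
open Cfsg

namespace Cfsg.Agent.S0560
open scoped Pointwise

variable {G : Type*} [Group G]

/-- If `G = HK` then `|G| · |H ∩ K| = |H| · |K|`. -/
theorem card_mul_card_inf_of_mul_eq_univ [Finite G] (H K : Subgroup G)
    (hHK : ∀ g : G, ∃ h ∈ H, ∃ k ∈ K, g = h * k) :
    Nat.card G * Nat.card (H ⊓ K : Subgroup G) = Nat.card H * Nat.card K := by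
  have hmk : ∀ g : G, ∃ h ∈ H, (QuotientGroup.mk g : G ⧸ K) = QuotientGroup.mk h := by
    intro g
    obtain ⟨h, hh, k, hk, rfl⟩ := hHK g
    refine ⟨h, hh, ?_⟩
    rw [QuotientGroup.eq]
    simpa using K.inv_mem hk
  have htr : MulAction.IsPretransitive H (G ⧸ K) := by
    constructor
    intro x y
    obtain ⟨gx, rfl⟩ := QuotientGroup.mk_surjective x
    obtain ⟨gy, rfl⟩ := QuotientGroup.mk_surjective y
    obtain ⟨h1, hh1, e1⟩ := hmk gx
    obtain ⟨h2, hh2, e2⟩ := hmk gy
    refine ⟨⟨h2 * h1⁻¹, H.mul_mem hh2 (H.inv_mem hh1)⟩, ?_⟩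
    rw [e1, e2]
    show ((h2 * h1⁻¹ * h1 : G) : G ⧸ K) = _
    rw [inv_mul_cancel_right]
  have hstab : MulAction.stabilizer H ((1 : G) : G ⧸ K) = K.subgroupOf H := by
    ext ⟨h, hh⟩
    rw [MulAction.mem_stabilizer_iff, Subgroup.mem_subgroupOf]
    show ((h * 1 : G) : G ⧸ K) = _ ↔ _
    rw [mul_one, eq_comm, QuotientGroup.eq]
    simp
  have h1 := MulAction.index_stabilizer_of_transitive H ((1 : G) : G ⧸ K)
  rw [hstab] at h1
  have h2 : K.relIndex H = K.index := by
    rw [Subgroup.relIndex, h1, Subgroup.index_eq_card]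
  have h3 := Cfsg.Agent.Lib.H3.relIndex_mul_card_inf H K
  have h4 := Subgroup.index_mul_card K
  rw [← h4, ← h3, h2]; ring

theorem mem_sylow_smul_iff {p : ℕ} (g y : G) (P : Sylow p G) :
    y ∈ ((g • P : Sylow p G) : Subgroup G) ↔ g⁻¹ * y * g ∈ (P : Subgroup G) := by
  rw [Sylow.coe_subgroup_smul, Subgroup.mem_pointwise_smul_iff_inv_smul_mem]
  simp [MulAut.smul_def]

/-- Conjugating a Sylow subgroup of `H` by an element of `H`, viewed in `G`. -/
theorem map_smul_le {p : ℕ} [Fact p.Prime] [Finite G] (H : Subgroup G) (P0 : Sylow p H)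
    (R1 : Sylow p G) (hle : (P0 : Subgroup H).map H.subtype ≤ R1) (h : G) (hh : h ∈ H) :
    (((⟨h, hh⟩ : H) • P0 : Sylow p H) : Subgroup H).map H.subtype ≤ (h • R1 : Sylow p G) := by
  rintro _ ⟨x, hx, rfl⟩
  rw [SetLike.mem_coe, mem_sylow_smul_iff] at hx
  rw [mem_sylow_smul_iff]
  have := hle ⟨_, hx, rfl⟩
  simpa using this

theorem main [Finite G] (H K : Subgroup G) (hHK : ∀ g : G, ∃ h ∈ H, ∃ k ∈ K, g = h * k)
    (p : ℕ) [hp : Fact p.Prime] :
    ∃ (P : Sylow p H) (Q : Sylow p K) (R : Sylow p G), ((R : Subgroup G) : Set G) =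
      (((P : Subgroup H).map H.subtype : Subgroup G) : Set G) *
        (((Q : Subgroup K).map K.subtype : Subgroup G) : Set G) := by
  have hpp := hp.out
  obtain ⟨P0⟩ := (inferInstance : Nonempty (Sylow p H))
  obtain ⟨Q0⟩ := (inferInstance : Nonempty (Sylow p K))
  obtain ⟨R1, hR1⟩ := (P0.isPGroup'.map H.subtype).exists_le_sylow
  obtain ⟨R2, hR2⟩ := (Q0.isPGroup'.map K.subtype).exists_le_sylow
  obtain ⟨g, hg⟩ := MulAction.exists_smul_eq G R2 R1
  obtain ⟨h, hh, k, hk, rfl⟩ := hHK g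
  -- R = k • R2 = h⁻¹ • R1
  have hR : (k • R2 : Sylow p G) = h⁻¹ • R1 := by
    rw [← hg, mul_smul, inv_smul_smul]
  set R : Sylow p G := k • R2 with hRdef
  set P : Sylow p H := (⟨h⁻¹, H.inv_mem hh⟩ : H) • P0 with hPdef
  set Q : Sylow p K := (⟨k, hk⟩ : K) • Q0 with hQdef
  have hPR : (P : Subgroup H).map H.subtype ≤ R := by
    rw [hR]; exact map_smul_le H P0 R1 hR1 h⁻¹ (H.inv_mem hh)
  have hQR : (Q : Subgroup K).map K.subtype ≤ R := map_smul_le K Q0 R2 hR2 k hk
  refine ⟨P, Q, R, ?_⟩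
  set P' := (P : Subgroup H).map H.subtype with hP'
  set Q' := (Q : Subgroup K).map K.subtype with hQ'
  -- cardinalities
  have cP : Nat.card P' = p ^ (Nat.card H).factorization p := by
    rw [hP', Subgroup.card_subtype]; exact Sylow.card_eq_multiplicity P
  have cQ : Nat.card Q' = p ^ (Nat.card K).factorization p := by
    rw [hQ', Subgroup.card_subtype]; exact Sylow.card_eq_multiplicity Q
  have cR : Nat.card (R : Subgroup G) = p ^ (Nat.card G).factorization p :=
    Sylow.card_eq_multiplicity R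
  have hfac : (Nat.card G).factorization p + (Nat.card (H ⊓ K : Subgroup G)).factorization p =
      (Nat.card H).factorization p + (Nat.card K).factorization p := by
    have := congrArg (fun n => n.factorization p) (card_mul_card_inf_of_mul_eq_univ H K hHK)
    beta_reduce at this
    rw [Nat.factorization_mul Nat.card_pos.ne' Nat.card_pos.ne',
      Nat.factorization_mul Nat.card_pos.ne' Nat.card_pos.ne'] at this
    simpa using this
  have hinfle : P' ⊓ Q' ≤ H ⊓ K :=
    inf_le_inf (Subgroup.map_subtype_le _) (Subgroup.map_subtype_le _)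
  have hinfp : IsPGroup p (P' ⊓ Q' : Subgroup G) :=
    (P.isPGroup'.map H.subtype).to_le inf_le_left
  obtain ⟨d, hd⟩ := IsPGroup.iff_card.1 hinfp
  have hdc : d ≤ (Nat.card (H ⊓ K : Subgroup G)).factorization p := by
    rw [← Nat.Prime.pow_dvd_iff_le_factorization hpp Nat.card_pos.ne', ← hd]
    exact Subgroup.card_dvd_of_le hinfle
  have hsupR : P' ⊔ Q' ≤ R := sup_le hPR hQR
  have hY : Nat.card (P' ⊔ Q' : Subgroup G) ≤ p ^ (Nat.card G).factorization p := by
    rw [← cR]; exact Subgroup.card_le_of_le hsupR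
  have hle := Cfsg.Agent.Lib.H15.card_mul_card_le P' Q'
  rw [cP, cQ, hd, ← pow_add, ← hfac] at hle
  -- p^(r+c) ≤ p^d * Y ≤ p^c * p^r
  set r := (Nat.card G).factorization p
  set c := (Nat.card (H ⊓ K : Subgroup G)).factorization p
  have hXc : p ^ d ≤ p ^ c := Nat.pow_le_pow_right hpp.pos hdc
  have hYeq : Nat.card (P' ⊔ Q' : Subgroup G) = p ^ r := by
    apply le_antisymm hY
    by_contra hlt
    rw [not_le] at hlt
    have : p ^ d * Nat.card (P' ⊔ Q' : Subgroup G) < p ^ c * p ^ r :=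
      Nat.mul_lt_mul_of_le_of_lt hXc hlt (pow_pos hpp.pos _)
    rw [← pow_add, add_comm c r] at this
    omega
  have hdeq : p ^ d = p ^ c := by
    apply le_antisymm hXc
    rw [hYeq, pow_add, mul_comm (p ^ r)] at hle
    exact Nat.le_of_mul_le_mul_right hle (pow_pos hpp.pos _)
  have hsupeq : P' ⊔ Q' = R := by
    apply Subgroup.eq_of_le_of_card_ge hsupR
    rw [hYeq, cR]
  have hcardeq : Nat.card P' * Nat.card Q' =
      Nat.card (P' ⊓ Q' : Subgroup G) * Nat.card (P' ⊔ Q' : Subgroup G) := by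
    rw [cP, cQ, hd, hYeq, hdeq, ← pow_add, ← pow_add, ← hfac, add_comm]
  rw [← hsupeq]
  exact Cfsg.Agent.Lib.H15.coe_sup_eq_mul_of_card_eq P' Q' hcardeq

/-- Let the finite group G be the product HK of two subgroups and p a prime. Then there are Sylow p-subgroups P of H and Q of K and a Sylow p-subgroup R of G whose underlying set is the product set of P and Q. -/
theorem result {G : Type*} [Group G] [Finite G] (H K : Subgroup G) (hHK : ∀ g : G, ∃ h ∈ H, ∃ k ∈ K, g = h * k) (p : ℕ) [Fact p.Prime] : ∃ (P : Sylow p H) (Q : Sylow p K) (R : Sylow p G), ((R : Subgroup G) : Set G) = (((P : Subgroup H).map H.subtype : Subgroup G) : Set G) * (((Q : Subgroup K).map K.subtype : Subgroup G) : Set G) := by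
  exact main H K hHK p

end Cfsg.Agent.S0560
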