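import Cfsg.Statements.S0549
import Mathlib

set_option autoImplicit false
open Cfsg

namespace Cfsg.Agent.S0549

theorem sup_eq_top_of_normal {G : Type*} [Group G] (U : Subgroup G) (hU : IsCoatom U)
    (hcore : U.normalCore = ⊥) (K : Subgroup G) [K.Normal] (hK : K ≠ ⊥) : K ⊔ U = ⊤ := by
  have hKU : ¬ K ≤ U := by
    intro h
    have := Subgroup.normal_le_normalCore.2 h
    rw [hcore] at this
    exact hK (le_bot_iff.1 this)
  by_contra hne
  have hlt : U < K ⊔ U := lt_of_le_of_ne le_sup_right (fun h => hKU (by rw [h]; exact le_sup_left))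
  exact hne (hU.2 _ hlt)

/-- Let U be a maximal subgroup of a finite group G whose normal core is trivial, and N a nontrivial normal subgroup with centralizer C. Then C ∩ U = 1, and either C = 1 or C is a minimal normal subgroup of G. -/
theorem result {G : Type*} [Group G] [Finite G] (U : Subgroup G) (hU : IsCoatom U) (hcore : U.normalCore = ⊥) (N : Subgroup G) [N.Normal] (hN : N ≠ ⊥) : Subgroup.centralizer (N : Set G) ⊓ U = ⊥ ∧ (Subgroup.centralizer (N : Set G) = ⊥ ∨ (Subgroup.centralizer (N : Set G) ≠ ⊥ ∧ ∀ K : Subgroup G, K.Normal → K ≤ Subgroup.centralizer (N : Set G) → K = ⊥ ∨ K = Subgroup.centralizer (N : Set G))) := by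
  set C := Subgroup.centralizer (N : Set G) with hC
  haveI : C.Normal := Subgroup.normal_centralizer
  have hNU := sup_eq_top_of_normal U hU hcore N hN
  have hD : C ⊓ U = ⊥ := by
    -- C ⊓ U is normal
    have hnorm : (C ⊓ U).Normal := by
      constructor
      intro d hd g
      have hg : g ∈ N ⊔ U := by rw [hNU]; trivial
      obtain ⟨n, hn, u, hu, rfl⟩ := Subgroup.mem_sup_of_normal_left.1 hg
      -- n u d u⁻¹ n⁻¹
      have h1 : u * d * u⁻¹ ∈ C ⊓ U :=
        ⟨‹C.Normal›.conj_mem d hd.1 u, U.mul_mem (U.mul_mem hu hd.2) (U.inv_mem hu)⟩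
      have h2 : n * (u * d * u⁻¹) * n⁻¹ = u * d * u⁻¹ := by
        have := (Subgroup.mem_centralizer_iff.1 h1.1) n hn
        rw [this]; group
      have : n * u * d * (n * u)⁻¹ = n * (u * d * u⁻¹) * n⁻¹ := by group
      rw [this, h2]; exact h1
    have := (Subgroup.normal_le_normalCore (hN := hnorm)).2 (inf_le_right : C ⊓ U ≤ U)
    rw [hcore] at this
    exact le_bot_iff.1 this
  refine ⟨hD, ?_⟩
  by_cases hCb : C = ⊥
  · exact Or.inl hCb
  · refine Or.inr ⟨hCb, fun K hKn hKC => ?_⟩
    by_cases hKb : K = ⊥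
    · exact Or.inl hKb
    · right
      haveI := hKn
      have hKU := sup_eq_top_of_normal U hU hcore K hKb
      apply le_antisymm hKC
      intro c hc
      have hg : c ∈ K ⊔ U := by rw [hKU]; trivial
      obtain ⟨k, hk, u, hu, rfl⟩ := Subgroup.mem_sup_of_normal_left.1 hg
      have huC : u ∈ C := by
        have : u = k⁻¹ * (k * u) := by group
        rw [this]; exact C.mul_mem (C.inv_mem (hKC hk)) hc
      have : u ∈ C ⊓ U := ⟨huC, hu⟩
      rw [hD, Subgroup.mem_bot] at this
      rw [this, mul_one]; exact hk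

end Cfsg.Agent.S0549
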