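import Cfsg.Statements.S0715
import Cfsg.Agent.Lib.H4.CentRingE
import Cfsg.Agent.Lib.H24.CharBasic

set_option autoImplicit false
open Cfsg

namespace Cfsg.Agent.S0715

/-- If a natural number `f` divides the degree of every non-principal irreducible constituent of the permutation character of a transitive group, then `f` divides every non-trivial subdegree. -/
theorem result {G : Type*} [Group G] [Fintype G] {Ω : Type*} [Fintype Ω] [MulAction G Ω] [MulAction.IsPretransitive G Ω] (f : ℕ) (hf : ∀ χ : G → ℂ, Cfsg.IsIrrCharacter G χ → χ ≠ (fun _ => 1) → Cfsg.classInner (fun g : G => (Nat.card (MulAction.fixedBy Ω g) : ℂ)) χ ≠ 0 → ∃ m : ℕ, χ 1 = (f : ℂ) * m) (a b : Ω) (hab : b ≠ a) : f ∣ Nat.card (MulAction.orbit (MulAction.stabilizer G a) b) := by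
  classical
  haveI : Fintype (Cfsg.IrrCharacter G) := Fintype.ofFinite _
  have hA : Lib.H4.CentRing.IsEqv G (Lib.H4.CentRing.orbMatC G a b) :=
    Lib.H4.CentRing.orbMatC_isEqv a b
  have htr := Lib.H4.CentRing.trace_eq_sum_irr hA
  rw [Lib.H4.CentRing.orbMatC_trace hab,
    ← Finset.add_sum_erase _ _ (Finset.mem_univ (Lib.H24.trivialIrr G))] at htr
  have h1 : Cfsg.classInner (Lib.H4.CentRing.cA (Lib.H4.CentRing.orbMatC G a b))
      ((Lib.H24.trivialIrr G : Cfsg.IrrCharacter G) : G → ℂ) =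
      (Nat.card (MulAction.orbit (MulAction.stabilizer G a) b) : ℂ) := by
    rw [← Lib.H4.CentRing.orbMatC_row a b]
    exact Lib.H4.CentRing.classInner_cA_one hA a
  rw [h1, Lib.H24.trivialIrr_apply, mul_one] at htr
  have key : ∀ χ : Cfsg.IrrCharacter G, χ ∈ Finset.univ.erase (Lib.H24.trivialIrr G) →
      ∃ z : ℂ, IsIntegral ℤ z ∧
        Cfsg.classInner (Lib.H4.CentRing.cA (Lib.H4.CentRing.orbMatC G a b)) (χ : G → ℂ) *
          (χ : G → ℂ) 1 = (f : ℂ) * z := by
    intro χ hχ
    have hne : (χ : G → ℂ) ≠ fun _ => 1 := by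
      intro h
      apply (Finset.mem_erase.mp hχ).1
      exact Subtype.ext h
    by_cases h0 : Cfsg.classInner (fun g : G => (Nat.card (MulAction.fixedBy Ω g) : ℂ)) (χ : G → ℂ) = 0
    · refine ⟨0, isIntegral_zero, ?_⟩
      rw [Lib.H4.CentRing.classInner_cA_eq_zero _ (Lib.L0.isCharacter_of_irr χ.2) h0, zero_mul,
        mul_zero]
    · obtain ⟨m, hm⟩ := hf χ χ.2 hne h0
      refine ⟨m * Cfsg.classInner (Lib.H4.CentRing.cA (Lib.H4.CentRing.orbMatC G a b)) (χ : G → ℂ),
        ?_, ?_⟩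
      · have hm' : IsIntegral ℤ (m : ℂ) := by
          have := isIntegral_algebraMap (R := ℤ) (A := ℂ) (x := (m : ℤ))
          simpa using this
        exact hm'.mul (Lib.H4.CentRing.isIntegral_classInner_cA (Lib.H4.CentRing.orbMat G a b) hA
            (Lib.L0.isCharacter_of_irr χ.2))
      · rw [hm]; ring
  choose! z hz1 hz2 using key
  rw [Finset.sum_congr rfl hz2, ← Finset.mul_sum] at htr
  refine Lib.H4.CentRing.nat_dvd_of_isIntegral (z := -∑ χ ∈ Finset.univ.erase (Lib.H24.trivialIrr G), z χ)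
    ?_ ?_
  · exact (IsIntegral.sum _ hz1).neg
  · linear_combination htr.symm

end Cfsg.Agent.S0715
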