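import Cfsg.Statements.S0716
import Cfsg.Agent.Lib.H4.CentRingF
import Cfsg.Agent.Lib.H23.DegreeDvd
import Cfsg.Agent.S0715

set_option autoImplicit false
open Cfsg

namespace Cfsg.Agent.S0716


open Lib.H4.CentRing in
/-- The data shared by both parts: multiplicities `e`, degrees `d`, suborbit sizes `s`. -/
theorem setup {G : Type*} [Group G] [Fintype G] {Ω : Type*} [Fintype Ω] [MulAction G Ω]
    [MulAction.IsPretransitive G Ω] (a : Ω) [Fintype (Cfsg.IrrCharacter G)]
    [DecidableEq (Cfsg.IrrCharacter G)] :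
    ∃ (e d : Cfsg.IrrCharacter G → ℕ),
      (∀ χ : Cfsg.IrrCharacter G, Cfsg.classInner
        (fun g : G => (Nat.card (MulAction.fixedBy Ω g) : ℂ)) (χ : G → ℂ) = e χ) ∧
      (∀ χ : Cfsg.IrrCharacter G, (χ : G → ℂ) 1 = d χ) ∧ (∀ χ, 0 < d χ) ∧
      e (Lib.H24.trivialIrr G) = 1 ∧ d (Lib.H24.trivialIrr G) = 1 ∧
      Fintype.card Ω = 1 + ∑ χ ∈ Finset.univ.erase (Lib.H24.trivialIrr G), e χ * d χ ∧
      Nat.card (MulAction.orbitRel.Quotient (MulAction.stabilizer G a) Ω) =
        1 + ∑ χ ∈ Finset.univ.erase (Lib.H24.trivialIrr G), e χ ^ 2 := by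
  classical
  haveI : Nonempty Ω := ⟨a⟩
  have h1 : ∀ χ : Cfsg.IrrCharacter G, ∃ n : ℕ, Cfsg.classInner (permCh G Ω) (χ : G → ℂ) = n :=
    fun χ => exists_nat_classInner_permCh (Lib.L0.isCharacter_of_irr χ.2)
  choose e he using h1
  have h2 : ∀ χ : Cfsg.IrrCharacter G, ∃ n : ℕ, 0 < n ∧ (χ : G → ℂ) 1 = n := by
    intro χ
    obtain ⟨n, h0, h1, _⟩ := Lib.H23.irr_apply_one_dvd_card (χ : G → ℂ) χ.2
    exact ⟨n, h0, h1⟩
  choose d hd0 hd using h2
  have het : e (Lib.H24.trivialIrr G) = 1 := by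
    have := he (Lib.H24.trivialIrr G)
    rw [show ((Lib.H24.trivialIrr G : Cfsg.IrrCharacter G) : G → ℂ) = fun _ => 1 from rfl,
      classInner_permCh_one] at this
    exact_mod_cast this.symm
  have hdt : d (Lib.H24.trivialIrr G) = 1 := by
    have := hd (Lib.H24.trivialIrr G)
    rw [Lib.H24.trivialIrr_apply] at this
    exact_mod_cast this.symm
  refine ⟨e, d, he, hd, hd0, het, hdt, ?_, ?_⟩
  · have h := card_eq_sum_irr (G := G) (Ω := Ω)
    rw [← Finset.add_sum_erase Finset.univ (fun χ : Cfsg.IrrCharacter G =>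
      Cfsg.classInner (permCh G Ω) (χ : G → ℂ) * (χ : G → ℂ) 1)
      (Finset.mem_univ (Lib.H24.trivialIrr G)), he, hd, het, hdt] at h
    have h' : (Fintype.card Ω : ℂ) =
        ((1 + ∑ χ ∈ Finset.univ.erase (Lib.H24.trivialIrr G), e χ * d χ : ℕ) : ℂ) := by
      rw [h]
      push_cast
      simp only [he, hd, mul_one]
    exact_mod_cast h'
  · have h := classInner_permCh_self (G := G) (Ω := Ω) e he
    rw [classInner_permCh_self_eq_rank a,
      ← Finset.add_sum_erase Finset.univ (fun χ : Cfsg.IrrCharacter G => e χ ^ 2)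
        (Finset.mem_univ (Lib.H24.trivialIrr G)), het] at h
    have h' : Nat.card (MulAction.orbitRel.Quotient (MulAction.stabilizer G a) Ω) =
        1 ^ 2 + ∑ χ ∈ Finset.univ.erase (Lib.H24.trivialIrr G), e χ ^ 2 := by exact_mod_cast h
    rw [h', one_pow]

/-- The sizes of the suborbits add up to the degree; the suborbit of `a` is trivial. -/
theorem suborbits {G : Type*} [Group G] [Fintype G] {Ω : Type*} [Fintype Ω] [MulAction G Ω] (a : Ω)
    [Fintype (MulAction.orbitRel.Quotient (MulAction.stabilizer G a) Ω)]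
    [DecidableEq (MulAction.orbitRel.Quotient (MulAction.stabilizer G a) Ω)] :
    Fintype.card Ω = 1 + ∑ ω ∈ Finset.univ.erase
      (Quotient.mk'' a : MulAction.orbitRel.Quotient (MulAction.stabilizer G a) Ω),
        Nat.card (MulAction.orbitRel.Quotient.orbit ω) := by
  classical
  have h1 : Fintype.card Ω = ∑ ω : MulAction.orbitRel.Quotient (MulAction.stabilizer G a) Ω,
      Nat.card (MulAction.orbitRel.Quotient.orbit ω) := by
    rw [← Nat.card_eq_fintype_card,
      Nat.card_congr (MulAction.selfEquivSigmaOrbits' (MulAction.stabilizer G a) Ω), Nat.card_sigma]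
  rw [h1, ← Finset.add_sum_erase Finset.univ
    (fun ω : MulAction.orbitRel.Quotient (MulAction.stabilizer G a) Ω =>
      Nat.card (MulAction.orbitRel.Quotient.orbit ω)) (Finset.mem_univ
    (Quotient.mk'' a : MulAction.orbitRel.Quotient (MulAction.stabilizer G a) Ω))]
  congr 1
  rw [MulAction.orbitRel.Quotient.orbit_mk]
  have : MulAction.orbit (MulAction.stabilizer G a) a = {a} := by
    ext y
    rw [MulAction.mem_orbit_iff, Set.mem_singleton_iff]
    constructor
    · rintro ⟨⟨g, hg⟩, rfl⟩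
      exact hg
    · rintro rfl
      exact ⟨1, one_smul _ _⟩
  rw [this]
  simp

theorem partA {G : Type*} [Group G] [Fintype G] {Ω : Type*} [Fintype Ω] [MulAction G Ω]
    [MulAction.IsPretransitive G Ω] (a : Ω) (f : ℕ)
    (hf : ∀ χ : G → ℂ, Cfsg.IsIrrCharacter G χ → χ ≠ (fun _ => 1) →
      Cfsg.classInner (fun g : G => (Nat.card (MulAction.fixedBy Ω g) : ℂ)) χ ≠ 0 → χ 1 = f) :
    (∀ χ : G → ℂ, Cfsg.IsIrrCharacter G χ →
      Cfsg.classInner (fun g : G => (Nat.card (MulAction.fixedBy Ω g) : ℂ)) χ = 0 ∨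
      Cfsg.classInner (fun g : G => (Nat.card (MulAction.fixedBy Ω g) : ℂ)) χ = 1) ∧
    ∀ b : Ω, b ≠ a → Nat.card (MulAction.orbit (MulAction.stabilizer G a) b) = f := by
  classical
  haveI : Fintype (Cfsg.IrrCharacter G) := Fintype.ofFinite _
  haveI : Fintype (MulAction.orbitRel.Quotient (MulAction.stabilizer G a) Ω) := Fintype.ofFinite _
  obtain ⟨e, d, he, hd, hd0, het, hdt, hn, hr⟩ := setup (G := G) (Ω := Ω) a
  have hso := suborbits (G := G) a
  set t := Lib.H24.trivialIrr G with ht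
  set ω₀ : MulAction.orbitRel.Quotient (MulAction.stabilizer G a) Ω := Quotient.mk'' a with hω₀
  -- degrees of the nonprincipal constituents
  have hdeg : ∀ χ ∈ Finset.univ.erase t, e χ * d χ = e χ * f := by
    intro χ hχ
    by_cases h0 : e χ = 0
    · rw [h0, zero_mul, zero_mul]
    · have hne : (χ : G → ℂ) ≠ fun _ => 1 := by
        intro h
        exact (Finset.mem_erase.mp hχ).1 (Subtype.ext h)
      have h1 := hf χ χ.2 hne (by rw [he]; exact_mod_cast h0)
      rw [hd] at h1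
      have : d χ = f := by exact_mod_cast h1
      rw [this]
  -- the nontrivial suborbits
  have hsub : ∀ ω ∈ Finset.univ.erase ω₀, f ≤ Nat.card (MulAction.orbitRel.Quotient.orbit ω) ∧
      ∀ b : Ω, Quotient.mk'' b = ω → f ∣ Nat.card (MulAction.orbit (MulAction.stabilizer G a) b) := by
    intro ω hω
    induction ω using Quotient.inductionOn' with
    | h b =>
      have hba : b ≠ a := by
        rintro rfl
        exact (Finset.mem_erase.mp hω).1 rfl
      have hdvd : ∀ b' : Ω, b' ≠ a → f ∣ Nat.card (MulAction.orbit (MulAction.stabilizer G a) b') := by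
        intro b' hb'
        refine Cfsg.Agent.S0715.result f ?_ a b' hb'
        intro χ hχ hne h0
        exact ⟨1, by rw [hf χ hχ hne h0]; simp⟩
      refine ⟨?_, ?_⟩
      · show f ≤ Nat.card (MulAction.orbitRel.Quotient.orbit (Quotient.mk'' b))
        rw [MulAction.orbitRel.Quotient.orbit_mk]
        refine Nat.le_of_dvd ?_ (hdvd b hba)
        haveI : Nonempty (MulAction.orbit (MulAction.stabilizer G a) b) :=
          ⟨⟨b, MulAction.mem_orbit_self b⟩⟩
        exact Nat.card_pos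
      · intro b' hb'
        apply hdvd
        rintro rfl
        exact (Finset.mem_erase.mp hω).1 hb'.symm
  -- arithmetic
  have hcardJ : (Finset.univ.erase ω₀).card + 1 =
      Nat.card (MulAction.orbitRel.Quotient (MulAction.stabilizer G a) Ω) := by
    rw [Finset.card_erase_of_mem (Finset.mem_univ _), Finset.card_univ, Nat.card_eq_fintype_card]
    have : 0 < Fintype.card (MulAction.orbitRel.Quotient (MulAction.stabilizer G a) Ω) :=
      Fintype.card_pos_iff.mpr ⟨ω₀⟩
    omega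
  have hE1 : ∑ ω ∈ Finset.univ.erase ω₀, Nat.card (MulAction.orbitRel.Quotient.orbit ω) = (∑ χ ∈ Finset.univ.erase t, e χ) * f := by
    rw [Finset.sum_mul, ← Finset.sum_congr rfl hdeg]
    have h5 : 1 + ∑ ω ∈ Finset.univ.erase ω₀, Nat.card (MulAction.orbitRel.Quotient.orbit ω) =
        1 + ∑ χ ∈ Finset.univ.erase t, e χ * d χ := hso.symm.trans hn
    exact Nat.add_left_cancel h5
  have hE2 : (Finset.univ.erase ω₀).card = ∑ χ ∈ Finset.univ.erase t, e χ ^ 2 := by omega
  have hge : (∑ χ ∈ Finset.univ.erase t, e χ ^ 2) * f ≤ (∑ χ ∈ Finset.univ.erase t, e χ) * f := by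
    rw [← hE1, ← hE2, ← smul_eq_mul, ← Finset.sum_const]
    exact Finset.sum_le_sum fun ω hω => (hsub ω hω).1
  have hle : ∀ χ ∈ Finset.univ.erase t, e χ ≤ e χ ^ 2 := by
    intro χ _
    rcases Nat.eq_zero_or_pos (e χ) with h | h
    · rw [h]; simp
    · nlinarith
  -- multiplicity-freeness
  have hmf : ∀ χ ∈ Finset.univ.erase t, e χ ≤ 1 := by
    rcases Nat.eq_zero_or_pos f with hf0 | hf0
    · intro χ hχ
      by_contra hcon
      have h0 : e χ ≠ 0 := by omega
      have hne : (χ : G → ℂ) ≠ fun _ => 1 := by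
        intro h
        exact (Finset.mem_erase.mp hχ).1 (Subtype.ext h)
      have h1 := hf χ χ.2 hne (by rw [he]; exact_mod_cast h0)
      rw [hd, hf0] at h1
      have : d χ = 0 := by exact_mod_cast h1
      have := hd0 χ
      omega
    · have h1 : ∑ χ ∈ Finset.univ.erase t, e χ ^ 2 ≤ ∑ χ ∈ Finset.univ.erase t, e χ :=
        Nat.le_of_mul_le_mul_right hge hf0
      have h2 : ∑ χ ∈ Finset.univ.erase t, e χ = ∑ χ ∈ Finset.univ.erase t, e χ ^ 2 :=
        le_antisymm (Finset.sum_le_sum hle) h1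
      have h3 := (Finset.sum_eq_sum_iff_of_le hle).mp h2
      intro χ hχ
      have := h3 χ hχ
      nlinarith
  have hsq : ∀ χ ∈ Finset.univ.erase t, e χ ^ 2 = e χ := by
    intro χ hχ
    have := hmf χ hχ
    interval_cases (e χ) <;> simp
  refine ⟨?_, ?_⟩
  · intro χ hχ
    by_cases hχt : (⟨χ, hχ⟩ : Cfsg.IrrCharacter G) = t
    · right
      have := he ⟨χ, hχ⟩
      simp only at this
      rw [this, hχt, het]; simp
    · have h1 := hmf ⟨χ, hχ⟩ (Finset.mem_erase.mpr ⟨hχt, Finset.mem_univ _⟩)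
      have h2 := he ⟨χ, hχ⟩
      simp only at h2
      rw [h2]
      interval_cases (e ⟨χ, hχ⟩) <;> simp
  · intro b hb
    have heq : ∑ ω ∈ Finset.univ.erase ω₀, f = ∑ ω ∈ Finset.univ.erase ω₀, Nat.card (MulAction.orbitRel.Quotient.orbit ω) := by
      rw [Finset.sum_const, smul_eq_mul, hE1, hE2, Finset.sum_congr rfl hsq]
    have h3 := (Finset.sum_eq_sum_iff_of_le fun ω hω => (hsub ω hω).1).mp heq
    have hbω : (Quotient.mk'' b : MulAction.orbitRel.Quotient (MulAction.stabilizer G a) Ω) ∈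
        Finset.univ.erase ω₀ := by
      refine Finset.mem_erase.mpr ⟨?_, Finset.mem_univ _⟩
      intro h
      have h4 : b ∈ MulAction.orbit (MulAction.stabilizer G a) a :=
        MulAction.orbitRel_apply.mp (Quotient.exact' h)
      obtain ⟨⟨g, hg⟩, hgb⟩ := h4
      apply hb
      rw [← hgb]
      exact hg
    have := h3 _ hbω
    rw [MulAction.orbitRel.Quotient.orbit_mk] at this
    exact this.symm

/-- (a) If all non-principal irreducible constituents of the permutation character of a transitive group have the same degree `f`, the character is multiplicity-free and all non-trivial subdegrees equal `f`. (b) A transitive group of rank at most 5 has multiplicity-free permutation character. -/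
theorem result {G : Type*} [Group G] [Fintype G] {Ω : Type*} [Fintype Ω] [MulAction G Ω] [MulAction.IsPretransitive G Ω] (a : Ω) : ((f : ℕ) → (∀ χ : G → ℂ, Cfsg.IsIrrCharacter G χ → χ ≠ (fun _ => 1) → Cfsg.classInner (fun g : G => (Nat.card (MulAction.fixedBy Ω g) : ℂ)) χ ≠ 0 → χ 1 = f) → (∀ χ : G → ℂ, Cfsg.IsIrrCharacter G χ → Cfsg.classInner (fun g : G => (Nat.card (MulAction.fixedBy Ω g) : ℂ)) χ = 0 ∨ Cfsg.classInner (fun g : G => (Nat.card (MulAction.fixedBy Ω g) : ℂ)) χ = 1) ∧ ∀ b : Ω, b ≠ a → Nat.card (MulAction.orbit (MulAction.stabilizer G a) b) = f) ∧ (Nat.card (MulAction.orbitRel.Quotient (MulAction.stabilizer G a) Ω) ≤ 5 → ∀ χ : G → ℂ, Cfsg.IsIrrCharacter G χ → Cfsg.classInner (fun g : G => (Nat.card (MulAction.fixedBy Ω g) : ℂ)) χ = 0 ∨ Cfsg.classInner (fun g : G => (Nat.card (MulAction.fixedBy Ω g) : ℂ)) χ = 1) := by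
  refine ⟨fun f hf => partA a f hf, ?_⟩
  intro hrank χ hχ
  classical
  haveI : Fintype (Cfsg.IrrCharacter G) := Fintype.ofFinite _
  obtain ⟨e, d, he, hd, hd0, het, hdt, hn, hr⟩ := setup (G := G) (Ω := Ω) a
  by_contra hcon
  obtain ⟨χ₁, hχ₁⟩ : ∃ χ₁ : Cfsg.IrrCharacter G, χ₁ = ⟨χ, hχ⟩ := ⟨_, rfl⟩
  have hχ₁v : (χ₁ : G → ℂ) = χ := by rw [hχ₁]
  have h2 : 2 ≤ e χ₁ := by
    by_contra hlt
    apply hcon
    have h3 := he χ₁
    rw [hχ₁v] at h3
    rw [h3]
    have : e χ₁ = 0 ∨ e χ₁ = 1 := by omega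
    rcases this with h | h
    · left; rw [h]; simp
    · right; rw [h]; simp
  have hχ₁t : χ₁ ≠ Lib.H24.trivialIrr G := by
    intro h
    rw [h, het] at h2
    omega
  have hmem : χ₁ ∈ Finset.univ.erase (Lib.H24.trivialIrr G) :=
    Finset.mem_erase.mpr ⟨hχ₁t, Finset.mem_univ _⟩
  have hsum : ∑ ψ ∈ Finset.univ.erase (Lib.H24.trivialIrr G), e ψ ^ 2 ≤ 4 := by omega
  have hsplit := Finset.add_sum_erase (Finset.univ.erase (Lib.H24.trivialIrr G))
    (fun ψ : Cfsg.IrrCharacter G => e ψ ^ 2) hmem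
  have hsq : 4 ≤ e χ₁ ^ 2 := by nlinarith
  have hzero : ∑ ψ ∈ (Finset.univ.erase (Lib.H24.trivialIrr G)).erase χ₁, e ψ ^ 2 = 0 := by omega
  have hother : ∀ ψ ∈ (Finset.univ.erase (Lib.H24.trivialIrr G)).erase χ₁, e ψ = 0 := by
    intro ψ hψ
    have := (Finset.sum_eq_zero_iff.mp hzero) ψ hψ
    exact pow_eq_zero_iff (two_ne_zero) |>.mp this
  obtain ⟨hmf, -⟩ := partA a (d χ₁) (by
    intro ψ hψ hne h0
    by_cases hψ₁ : (⟨ψ, hψ⟩ : Cfsg.IrrCharacter G) = χ₁
    · have := hd χ₁
      rw [← hψ₁] at this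
      rw [← hψ₁]
      exact this
    · exfalso
      apply h0
      have hψt : (⟨ψ, hψ⟩ : Cfsg.IrrCharacter G) ≠ Lib.H24.trivialIrr G := by
        intro h
        apply hne
        have := congrArg (fun x : Cfsg.IrrCharacter G => (x : G → ℂ)) h
        exact this
      have h5 := hother ⟨ψ, hψ⟩ (Finset.mem_erase.mpr ⟨hψ₁,
        Finset.mem_erase.mpr ⟨hψt, Finset.mem_univ _⟩⟩)
      have h6 := he ⟨ψ, hψ⟩
      simp only at h6
      rw [h6, h5]
      simp)
  exact hcon (hmf χ hχ)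

end Cfsg.Agent.S0716
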