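import Mathlib
import Cfsg.Statements.S0878
import Cfsg.Agent.Lib.H5.Orbits

set_option autoImplicit false
open Cfsg

namespace Cfsg.Agent.S0878

open Subgroup MulAction Cfsg.Agent.Lib.H5

theorem result {G Ω : Type*} [Group G] [Finite G] [MulAction G Ω] [Fintype Ω] (hZ : Cfsg.IsZassenhausGroup G Ω) (a : Ω) (H : Subgroup G) (hHa : H ≤ MulAction.stabilizer G a) (hHcard : Nat.card H + 1 = Fintype.card Ω) (hHfix : ∀ u ∈ H, u ≠ 1 → ∀ c : Ω, u • c = c → c = a) : (∀ g : G, g ∉ MulAction.stabilizer G a → ∀ u ∈ H, g * u * g⁻¹ ∈ H → u = 1) ∧ Subgroup.normalizer (H : Set G) = MulAction.stabilizer G a := by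
  classical
  have : Fintype G := Fintype.ofFinite G
  obtain ⟨hfaith, h2t, h3, ⟨g₀, hg₀1, c₀, d₀, hcd, hg₀c, hg₀d⟩, _⟩ := hZ
  rw [MulAction.is_two_pretransitive_iff] at h2t
  -- part 1
  have part1 : ∀ g : G, g ∉ MulAction.stabilizer G a → ∀ u ∈ H, g * u * g⁻¹ ∈ H → u = 1 := by
    intro g hg u hu hgu
    by_contra hu1
    apply hg
    have hgu1 : g * u * g⁻¹ ≠ 1 := by
      intro h1
      apply hu1
      have : u = g⁻¹ * (g * u * g⁻¹) * g := by group
      rw [this, h1]; group
    have hua : u • a = a := hHa hu
    have : (g * u * g⁻¹) • (g • a) = g • a := by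
      rw [mul_smul, mul_smul, inv_smul_smul, hua]
    exact hHfix _ hgu hgu1 _ this
  refine ⟨part1, ?_⟩
  -- at least three points
  have hcard3 : 3 ≤ Fintype.card Ω := by
    have hex : ∃ e₀ : Ω, g₀ • e₀ ≠ e₀ := by
      by_contra hcon
      push Not at hcon
      apply hg₀1
      apply hfaith.eq_of_smul_eq_smul
      intro x
      rw [hcon x, one_smul]
    obtain ⟨e₀, he₀⟩ := hex
    have h1 : e₀ ≠ c₀ := fun h => he₀ (h ▸ hg₀c)
    have h2 : e₀ ≠ d₀ := fun h => he₀ (h ▸ hg₀d)
    have : ({c₀, d₀, e₀} : Finset Ω).card = 3 := by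
      rw [Finset.card_insert_of_notMem, Finset.card_insert_of_notMem, Finset.card_singleton]
      · simpa using h2.symm
      · simp only [Finset.mem_insert, Finset.mem_singleton, not_or]
        exact ⟨hcd, h1.symm⟩
    calc 3 = ({c₀, d₀, e₀} : Finset Ω).card := this.symm
      _ ≤ Fintype.card Ω := Finset.card_le_univ _
  -- H is nontrivial
  have hHnt : ∃ u ∈ H, u ≠ 1 := by
    by_contra hcon
    push Not at hcon
    have : H = ⊥ := (Subgroup.eq_bot_iff_forall H).mpr hcon
    rw [this, Subgroup.card_bot] at hHcard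
    omega
  obtain ⟨u₀, hu₀, hu₀1⟩ := hHnt
  -- the finsets
  let S : Finset G := Finset.univ.filter (fun g => g • a = a)
  let X : Finset Ω := Finset.univ.filter (fun b => b ≠ a)
  have hXcard : X.card + 1 = Fintype.card Ω := by
    have := Finset.card_filter_add_card_filter_not (s := (Finset.univ : Finset Ω)) (fun b => b = a)
    have h1 : (Finset.univ.filter (fun b : Ω => b = a)).card = 1 := by
      rw [Finset.filter_eq' Finset.univ a]
      simp
    rw [h1, Finset.card_univ] at this
    have hX : X = Finset.univ.filter (fun b : Ω => ¬ b = a) := rfl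
    rw [hX]
    omega
  let r : G → Ω → Prop := fun g b => g • b = b
  have hdc := Finset.sum_card_bipartiteAbove_eq_sum_card_bipartiteBelow r (s := S) (t := X)
  -- right-hand side: each b contributes |S| / (n - 1)
  have hScard : S.card = Nat.card (MulAction.stabilizer G a) := by
    rw [Nat.card_eq_fintype_card, Fintype.card_subtype]
    rfl
  have hRHS : ∀ b ∈ X, (S.bipartiteBelow r b).card * X.card = S.card := by
    intro b hb
    have hba : b ≠ a := (Finset.mem_filter.mp hb).2
    have horb := card_orbit_mul_card_stabilizer (P := MulAction.stabilizer G a) b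
    have h1 : Nat.card (MulAction.orbit (MulAction.stabilizer G a) b) = X.card := by
      have : MulAction.orbit (MulAction.stabilizer G a) b = {c : Ω | c ≠ a} := by
        ext c
        constructor
        · rintro ⟨s, rfl⟩
          intro hsa
          apply hba
          have hs : (s : G) • a = a := s.2
          have : (s : G) • b = (s : G) • a := hsa.trans hs.symm
          exact MulAction.injective (s : G) this
        · intro hca
          obtain ⟨g, hg1, hg2⟩ := h2t (Ne.symm hba) (Ne.symm hca)
          exact ⟨⟨g, hg1⟩, hg2⟩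
      rw [this, Nat.card_eq_fintype_card, Fintype.card_subtype]
      rfl
    have h2 : Nat.card (MulAction.stabilizer (MulAction.stabilizer G a) b) =
        (S.bipartiteBelow r b).card := by
      have e : MulAction.stabilizer (MulAction.stabilizer G a) b ≃
          {g : G // g • a = a ∧ g • b = b} :=
        ⟨fun s => ⟨s.1.1, s.1.2, s.2⟩, fun g => ⟨⟨g.1, g.2.1⟩, g.2.2⟩, fun _ => rfl, fun _ => rfl⟩
      rw [Nat.card_congr e, Nat.card_eq_fintype_card, Fintype.card_subtype]
      congr 1
      ext g
      simp [S, r, Finset.bipartiteBelow]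
    rw [h1, h2, ← hScard] at horb
    rw [mul_comm]
    exact horb
  have hXpos : 0 < X.card := by omega
  have hRsum : (∑ b ∈ X, (S.bipartiteBelow r b).card) = S.card := by
    have : (∑ b ∈ X, (S.bipartiteBelow r b).card) * X.card = S.card * X.card := by
      rw [Finset.sum_mul, Finset.sum_congr rfl hRHS, Finset.sum_const, smul_eq_mul, mul_comm]
    exact Nat.eq_of_mul_eq_mul_right hXpos this
  -- left-hand side
  have h1S : (1 : G) ∈ S := by simp [S]
  have hc1 : (X.bipartiteAbove r 1).card = X.card := by
    congr 1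
    ext b
    simp [r, Finset.bipartiteAbove]
  have hcle : ∀ g ∈ S, g ≠ 1 → (X.bipartiteAbove r g).card ≤ 1 := by
    intro g hg hg1
    rw [Finset.card_le_one]
    intro b hb c hc
    simp only [Finset.bipartiteAbove, Finset.mem_filter, X, Finset.mem_univ, true_and, r] at hb hc
    by_contra hbc
    exact hg1 (h3 g a b c (Ne.symm hb.1) hbc (Ne.symm hc.1) (Finset.mem_filter.mp hg).2 hb.2 hc.2)
  -- the set of fixed-point-free elements of S \ {1}
  let Z : Finset G := (S.erase 1).filter (fun g => (X.bipartiteAbove r g).card = 0)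
  have hsplit : (∑ g ∈ S, (X.bipartiteAbove r g).card) =
      X.card + ∑ g ∈ S.erase 1, (X.bipartiteAbove r g).card := by
    rw [← Finset.add_sum_erase S _ h1S, hc1]
  have hsum01 : (∑ g ∈ S.erase 1, (X.bipartiteAbove r g).card) + Z.card = (S.erase 1).card := by
    have h1 : ∀ g ∈ S.erase 1, (X.bipartiteAbove r g).card =
        if (X.bipartiteAbove r g).card = 0 then 0 else 1 := by
      intro g hg
      have hg' := Finset.mem_erase.mp hg
      have := hcle g hg'.2 hg'.1
      split_ifs with h0
      · exact h0
      · omega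
    rw [Finset.sum_congr rfl h1, Finset.sum_ite, Finset.sum_const_zero, zero_add,
      Finset.sum_const, smul_eq_mul, mul_one]
    have := Finset.card_filter_add_card_filter_not (s := S.erase 1)
      (fun g => (X.bipartiteAbove r g).card = 0)
    show _ + ((S.erase 1).filter (fun g => (X.bipartiteAbove r g).card = 0)).card = _
    omega
  have herase : (S.erase 1).card + 1 = S.card := Finset.card_erase_add_one h1S
  have hZcard : Z.card + 1 = X.card := by
    rw [hsplit, hRsum] at hdc
    omega
  -- H \ {1} ⊆ Z
  let H' : Finset G := (Finset.univ.filter (fun g => g ∈ H)).erase 1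
  have hH'card : H'.card + 1 = Nat.card H := by
    have h1 : (1 : G) ∈ Finset.univ.filter (fun g => g ∈ H) := by simp [H.one_mem]
    rw [Finset.card_erase_add_one h1, Nat.card_eq_fintype_card, Fintype.card_subtype]
  have hsub : H' ⊆ Z := by
    intro u hu
    have hu' := Finset.mem_erase.mp hu
    have huH : u ∈ H := (Finset.mem_filter.mp hu'.2).2
    simp only [Z, Finset.mem_filter, Finset.mem_erase, S, Finset.mem_univ, true_and]
    refine ⟨⟨hu'.1, hHa huH⟩, ?_⟩
    rw [Finset.card_eq_zero, Finset.eq_empty_iff_forall_notMem]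
    intro b hb
    simp only [Finset.bipartiteAbove, Finset.mem_filter, X, Finset.mem_univ, true_and, r] at hb
    exact hb.1 (hHfix u huH hu'.1 b hb.2)
  have hHZ : H' = Z := Finset.eq_of_subset_of_card_le hsub (by omega)
  -- S normalizes H
  have hconj : ∀ s : G, s • a = a → ∀ u ∈ H, s * u * s⁻¹ ∈ H := by
    intro s hs u hu
    by_cases hu1 : u = 1
    · rw [hu1]; simp [H.one_mem]
    have hsu1 : s * u * s⁻¹ ≠ 1 := by
      intro h1
      apply hu1
      have : u = s⁻¹ * (s * u * s⁻¹) * s := by group
      rw [this, h1]; group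
    have hmem : s * u * s⁻¹ ∈ Z := by
      simp only [Z, Finset.mem_filter, Finset.mem_erase, S, Finset.mem_univ, true_and]
      have hsinv : s⁻¹ • a = a := by rw [inv_smul_eq_iff, hs]
      refine ⟨⟨hsu1, ?_⟩, ?_⟩
      · rw [mul_smul, mul_smul, hsinv, hHa hu, hs]
      · rw [Finset.card_eq_zero, Finset.eq_empty_iff_forall_notMem]
        intro b hb
        simp only [Finset.bipartiteAbove, Finset.mem_filter, X, Finset.mem_univ, true_and, r] at hb
        have hfix : u • (s⁻¹ • b) = s⁻¹ • b := by
          have := congrArg (fun t => s⁻¹ • t) hb.2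
          simp only [← mul_smul] at this
          have e : s⁻¹ * (s * u * s⁻¹) = u * s⁻¹ := by group
          rw [e, mul_smul] at this
          exact this
        have := hHfix u hu hu1 _ hfix
        apply hb.1
        rw [inv_smul_eq_iff, hs] at this
        exact this
    rw [← hHZ] at hmem
    exact (Finset.mem_filter.mp (Finset.mem_erase.mp hmem).2).2
  apply le_antisymm
  · intro g hg
    by_contra hga
    have := (mem_normalizer_iff.mp hg u₀).mp hu₀
    exact hu₀1 (part1 g hga u₀ hu₀ this)
  · intro s hs
    rw [mem_normalizer_iff]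
    intro u
    constructor
    · exact hconj s hs u
    · intro hu
      have hsinv : s⁻¹ • a = a := by rw [inv_smul_eq_iff]; exact hs.symm
      have := hconj s⁻¹ hsinv _ hu
      have e : s⁻¹ * (s * u * s⁻¹) * s⁻¹⁻¹ = u := by group
      rwa [e] at this

end Cfsg.Agent.S0878
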