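import Cfsg.Statements.S0727
import Mathlib
import Cfsg.Agent.S0728
import Cfsg.Agent.Lib.H4.S3T.PGL

set_option autoImplicit false
open Cfsg

namespace Cfsg.Agent.S0727

open MulAction Cfsg.Agent.Lib.H4.S3T

/-- transport of sharp triple transitivity along an equivariant bijection -/
theorem sharp3_of_equiv {G : Type*} [Group G] {X Y : Type*} [MulAction G X] [MulAction G Y]
    (e : Y ≃ X) (he : ∀ (g : G) (y : Y), e (g • y) = g • e y) (h : Sharp3 G X) : Sharp3 G Y := by
  constructor
  · intro u v w u' v' w' huv huw hvw huv' huw' hvw'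
    obtain ⟨g, h1, h2, h3⟩ := h.t3 (e u) (e v) (e w) (e u') (e v') (e w')
      (fun h => huv (e.injective h)) (fun h => huw (e.injective h)) (fun h => hvw (e.injective h))
      (fun h => huv' (e.injective h)) (fun h => huw' (e.injective h))
      (fun h => hvw' (e.injective h))
    refine ⟨g, ?_, ?_, ?_⟩
    · apply e.injective; rw [he, h1]
    · apply e.injective; rw [he, h2]
    · apply e.injective; rw [he, h3]
  · intro g u v w huv huw hvw h1 h2 h3
    apply h.s3 g (e u) (e v) (e w)
      (fun h => huv (e.injective h)) (fun h => huw (e.injective h)) (fun h => hvw (e.injective h))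
    · rw [← he, h1]
    · rw [← he, h2]
    · rw [← he, h3]

/-- A sharply triply transitive permutation group of degree `2^f + 1` is isomorphic to the projective general linear group of degree 2 over the field with `2^f` elements. -/
theorem result {α : Type*} [Fintype α] [DecidableEq α] {f : ℕ} (hf : 1 ≤ f) (hα : Fintype.card α = 2 ^ f + 1) (G : Subgroup (Equiv.Perm α)) (h3 : MulAction.IsMultiplyPretransitive G α 3) (hsharp : ∀ x : Fin 3 ↪ α, MulAction.stabilizer G x = ⊥) : ∃ (F : Type) (_ : Field F) (_ : Fintype F), Fintype.card F = 2 ^ f ∧ Nonempty (G ≃* Matrix.ProjGenLinGroup (Fin 2) F) := by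
  classical
  have hS : Sharp3 G α := by
    constructor
    · intro u v w u' v' w' huv huw hvw huv' huw' hvw'
      exact Cfsg.Agent.S0728.exists_of_three h3 huv hvw huw huv' hvw' huw'
    · intro g u v w huv huw hvw h1 h2 h3'
      have : g ∈ MulAction.stabilizer G (Cfsg.Agent.S0728.emb3 u v w huv hvw huw) := by
        rw [MulAction.mem_stabilizer_iff]
        ext i
        fin_cases i
        · exact h1
        · exact h2
        · exact h3'
      rw [hsharp] at this
      exact Subgroup.mem_bot.mp this
  obtain ⟨n, hn⟩ : ∃ n : ℕ, n = 2 ^ f + 1 := ⟨_, rfl⟩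
  have e : Fin n ≃ α := (Fintype.equivFinOfCardEq (hα.trans hn.symm)).symm
  letI act : MulAction G (Fin n) := Equiv.mulAction G e
  have he : ∀ (g : G) (y : Fin n), e (g • y) = g • e y := by
    intro g y
    rw [Equiv.smul_def, Equiv.apply_symm_apply]
  have hS' : Sharp3 G (Fin n) := sharp3_of_equiv e he hS
  have h2f : 2 ≤ 2 ^ f := by
    calc 2 = 2 ^ 1 := by norm_num
      _ ≤ 2 ^ f := Nat.pow_le_pow_right (by norm_num) hf
  have hodd : Odd (Fintype.card (Fin n)) := by
    rw [Fintype.card_fin, hn]
    exact Even.add_one ((Nat.even_pow' (by omega)).2 even_two)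
  have hcard : 3 ≤ Fintype.card (Fin n) := by
    rw [Fintype.card_fin, hn]; omega
  have hn0 : 0 < n := by omega
  obtain ⟨fld, ⟨φ⟩⟩ := exists_PGL hS' hodd hcard (⟨0, hn0⟩ : Fin n)
  refine ⟨Pts (⟨0, hn0⟩ : Fin n), fld, inferInstance, ?_, ⟨φ⟩⟩
  rw [Fintype.card_subtype_compl, Fintype.card_fin, Fintype.card_subtype_eq, hn]
  omega

end Cfsg.Agent.S0727
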