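import Cfsg.Statements.S0730
import Mathlib
import Cfsg.Agent.S0728
import Cfsg.Agent.Lib.H4.S3T.Odd.Main

set_option autoImplicit false
open Cfsg

namespace Cfsg.Agent.S0730

open MulAction Cfsg.Agent.Lib.H4.S3T Cfsg.Agent.Lib.H4.S3T.Odd

/-- A sharply triply transitive group of degree `p^f + 1`, `p` an odd prime and `f` odd, is isomorphic to the projective general linear group of degree 2 over the field with `p^f` elements (for even `f` there is a second, twisted, group). -/
theorem result {α : Type*} [Fintype α] [DecidableEq α] {p f : ℕ} (hp : p.Prime) (hp2 : p ≠ 2) (hfo : Odd f) (hα : Fintype.card α = p ^ f + 1) (G : Subgroup (Equiv.Perm α)) (h3 : MulAction.IsMultiplyPretransitive G α 3) (hsharp : ∀ x : Fin 3 ↪ α, MulAction.stabilizer G x = ⊥) : ∃ (F : Type) (_ : Field F) (_ : Fintype F), Fintype.card F = p ^ f ∧ Nonempty (G ≃* Matrix.ProjGenLinGroup (Fin 2) F) := by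
  classical
  have hS : Sharp3 G α := by
    constructor
    · intro u v w u' v' w' huv huw hvw huv' huw' hvw'
      exact Cfsg.Agent.S0728.exists_of_three h3 huv hvw huw huv' hvw' huw'
    · intro g u v w huv huw hvw h1 h2 h3'
      have : g ∈ MulAction.stabilizer G (Cfsg.Agent.S0728.emb3 u v w huv hvw huw) := by
        rw [MulAction.mem_stabilizer_iff]
        ext i
        fin_cases i
        · exact h1
        · exact h2
        · exact h3'
      rw [hsharp] at this
      exact Subgroup.mem_bot.mp this
  exact exists_PGL_odd_small hS hp hp2 hfo hα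

end Cfsg.Agent.S0730
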