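import Cfsg.Statements.S0680
import Cfsg.Agent.Lib.H18.FrobKernel

set_option autoImplicit false
open Cfsg

namespace Cfsg.Agent.S0680

open MulAction Equiv Cfsg.Agent.Lib.H18

theorem sharpTwo {α : Type*} [Fintype α] [DecidableEq α] (G : Subgroup (Perm α))
    [IsMultiplyPretransitive G α 2] (hsharp : ∀ x : Fin 2 ↪ α, stabilizer G x = ⊥)
    (h2 : 2 ≤ Fintype.card α) : SharpTwo G α where
  trans := isPretransitive_of_is_two_pretransitive
  free2 := by
    intro g a b hab ha hb
    let x : Fin 2 ↪ α := ⟨![a, b], by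
      intro i j hij; fin_cases i <;> fin_cases j <;> simp_all⟩
    have : g ∈ stabilizer G x := by
      rw [mem_stabilizer_iff]
      ext i
      fin_cases i
      · exact ha
      · exact hb
    rw [hsharp x, Subgroup.mem_bot] at this
    exact this
  card := by
    obtain ⟨x₀⟩ : Nonempty (Fin 2 ↪ α) :=
      Function.Embedding.nonempty_of_card_le (by simpa using h2)
    have hs1 : ∀ g : G, (∀ i, g • x₀ i = x₀ i) → g = 1 := by
      intro g hg
      have : g ∈ stabilizer G x₀ := by rw [mem_stabilizer_iff]; ext i; exact hg i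
      rwa [hsharp x₀, Subgroup.mem_bot] at this
    let f : G → (Fin 2 ↪ α) := fun g =>
      ⟨fun i => g • x₀ i, fun i j hij => x₀.injective (smul_left_cancel g hij)⟩
    have hinj : Function.Injective f := by
      intro g₁ g₂ he
      have : g₂⁻¹ * g₁ = 1 := by
        apply hs1
        intro i
        have hi : g₁ • x₀ i = g₂ • x₀ i := DFunLike.congr_fun he i
        rw [mul_smul, hi, inv_smul_smul]
      exact (inv_mul_eq_one.mp this).symm
    have hsurj : Function.Surjective f := by
      intro y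
      obtain ⟨g, hg⟩ := (inferInstance : IsMultiplyPretransitive G α 2).exists_smul_eq x₀ y
      refine ⟨g, ?_⟩
      ext i
      exact DFunLike.congr_fun hg i
    rw [Nat.card_congr (Equiv.ofBijective f ⟨hinj, hsurj⟩), Nat.card_eq_fintype_card,
      Fintype.card_embedding_eq, Nat.card_eq_fintype_card]
    simp [Nat.descFactorial, mul_comm]
  two_le := by rw [Nat.card_eq_fintype_card]; exact h2


/-- A finite sharply doubly transitive permutation group has degree a prime power `p ^ j`; a Sylow `p`-subgroup is normal, elementary abelian and regular, and consists of the identity together with the elements without fixed points. (Frobenius' Theorem is not needed.) -/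
theorem result {α : Type*} [Fintype α] [DecidableEq α] (G : Subgroup (Equiv.Perm α)) [MulAction.IsMultiplyPretransitive G α 2] (hsharp : ∀ x : Fin 2 ↪ α, MulAction.stabilizer G x = ⊥) (h2 : 2 ≤ Fintype.card α) : ∃ p j : ℕ, p.Prime ∧ 1 ≤ j ∧ Fintype.card α = p ^ j ∧ ∀ (hp : Fact p.Prime) (P : Sylow p G), (P : Subgroup G).Normal ∧ IsMulCommutative (P : Subgroup G) ∧ (∀ x ∈ (P : Subgroup G), x ^ p = 1) ∧ MulAction.IsPretransitive (P : Subgroup G) α ∧ (∀ a : α, MulAction.stabilizer (P : Subgroup G) a = ⊥) ∧ ∀ g : G, g ∈ (P : Subgroup G) ↔ g = 1 ∨ ∀ a : α, g • a ≠ a := by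
  have hS := sharpTwo G hsharp h2
  obtain ⟨N, p, j, hpp, hj1, hnj, hNj, hNn, hNmem, hNcomm, hNexp⟩ := hS.exists_kernel
  refine ⟨p, j, hpp, hj1, by rw [← Nat.card_eq_fintype_card]; exact hnj, ?_⟩
  intro hp P
  have hPN : (P : Subgroup G) = N := by
    have hNp : IsPGroup p N := IsPGroup.of_card hNj
    obtain ⟨P₀, hP₀⟩ := hNp.exists_le_sylow
    have hP₀N : (P₀ : Subgroup G) = N := by
      symm
      apply Subgroup.eq_of_le_of_card_ge hP₀
      obtain ⟨k, hk⟩ := IsPGroup.exists_card_eq P₀.2
      have hdvd : p ^ k ∣ Nat.card G := hk ▸ Subgroup.card_subgroup_dvd_card _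
      rw [hS.card, hnj] at hdvd
      have hcop : Nat.Coprime (p ^ k) (p ^ j - 1) := by
        apply Nat.Coprime.pow_left
        rw [Nat.Prime.coprime_iff_not_dvd hpp]
        intro hd
        have hpj : p ∣ p ^ j := dvd_pow_self p (by omega)
        have h1 : p ∣ 1 := by
          have := Nat.dvd_sub hpj hd
          rwa [Nat.sub_sub_self (Nat.one_le_pow _ _ hpp.pos)] at this
        exact hpp.one_lt.ne' (Nat.dvd_one.mp h1)
      have := hcop.dvd_of_dvd_mul_right hdvd
      rw [hk, hNj]
      exact Nat.le_of_dvd (pow_pos hpp.pos _) this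
    have hP₀n : (P₀ : Subgroup G).Normal := hP₀N ▸ hNn
    have := Sylow.unique_of_normal P₀ hP₀n
    rw [← hP₀N]
    congr 1
    exact Subsingleton.elim _ _
  rw [hPN]
  obtain ⟨htr, hst⟩ := hS.kernel_regular N (hNj.trans hnj.symm) (fun g hg => (hNmem g).mp hg)
  exact ⟨hNn, ⟨⟨fun a b => Subtype.ext (hNcomm a b a.2 b.2)⟩⟩, hNexp, htr, hst, hNmem⟩

end Cfsg.Agent.S0680
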