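import Cfsg.Statements.S0732
import Mathlib
import Cfsg.Agent.S0680
import Cfsg.Agent.Lib.H4.PPlus.Sharp
import Cfsg.Agent.Lib.H4.PPlus.Zas
import Cfsg.Agent.Lib.H4.PPlus.SemiAff

set_option autoImplicit false
open Cfsg

namespace Cfsg.Agent.S0732

open MulAction Cfsg.Agent.Lib.H2.Zass Cfsg.Agent.Lib.H4.PPlus in
/-- A transitive permutation group on `p + 1` points (`p` prime) of order `(p+1) p d` with `d < p` is isomorphic to `PGL(2,p)` with `d = p - 1`, or to `PSL(2,p)` with `2d = p - 1`, or else `p + 1 = 2^q` for a prime `q`, `d = 1` or `d = q`, and the group is permutation-isomorphic to a group of semi-affine maps `x ↦ a φ(x) + b` of the field with `2^q` elements. -/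
theorem result {α : Type*} [Fintype α] [DecidableEq α] {p d : ℕ} (hp : p.Prime) (hα : Fintype.card α = p + 1) (G : Subgroup (Equiv.Perm α)) [MulAction.IsPretransitive G α] (hG : Nat.card G = (p + 1) * p * d) (hd : d < p) : (d = p - 1 ∧ Nonempty (G ≃* Matrix.ProjGenLinGroup (Fin 2) (ZMod p))) ∨ (2 * d = p - 1 ∧ Nonempty (G ≃* Matrix.ProjectiveSpecialLinearGroup (Fin 2) (ZMod p))) ∨ (∃ q : ℕ, q.Prime ∧ p + 1 = 2 ^ q ∧ (d = 1 ∨ d = q) ∧ ∃ e : α ≃ GaloisField 2 q, ∀ g : G, (e.symm.trans (((g : Equiv.Perm α)).trans e)) ∈ Cfsg.semiaffineGroup (GaloisField 2 q)) := by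
  classical
  haveI := finite_G hp G hG
  have hdpos := d_pos G hG
  by_cases hd1 : d = p - 1
  · left
    exact ⟨hd1, nonempty_PGL hp hα G hG hd hd1⟩
  · right
    have hp2 : p ≠ 2 := by
      rintro rfl
      omega
    by_cases hreg : ∃ M : Subgroup G, M.Normal ∧ (∀ y z : α, ∃ u ∈ M, u • y = z) ∧
        (∀ u ∈ M, ∀ a : α, u • a = a → u = 1)
    · right
      obtain ⟨M, hMn, hMt, hMf⟩ := hreg
      exact semiaffine_case hp hp2 hα G hG hd M hMt hMf
    · left
      have hR : NoReg G α := by
        intro M hM htr
        by_contra hcon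
        push Not at hcon
        apply hreg
        refine ⟨M, hM, htr, fun u hu a hua => ?_⟩
        by_contra h
        exact hcon a u hu h hua
      have hd1' : 1 < d := by
        by_contra hcon
        have hd_one : d = 1 := by omega
        apply hreg
        haveI : IsMultiplyPretransitive G α 2 := by
          rw [is_two_pretransitive_iff]
          intro a b c e hab hce
          exact two_trans hp hα G hG a b c e hab hce
        have hsharp : ∀ t : Fin 2 ↪ α, stabilizer G t = ⊥ := by
          intro t
          rw [eq_bot_iff]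
          intro g hg
          rw [Subgroup.mem_bot]
          rw [mem_stabilizer_iff] at hg
          have h01 : t 0 ≠ t 1 := t.injective.ne (by decide)
          have hgi : ∀ i, g • t i = t i := fun i => by
            conv_rhs => rw [← hg]
            rfl
          have hmem : g ∈ stabilizer G (t 0) ⊓ stabilizer G (t 1) := by
            rw [Subgroup.mem_inf, mem_stabilizer_iff, mem_stabilizer_iff]
            exact ⟨hgi 0, hgi 1⟩
          have hc := card_inf hp hα G hG (t 0) (t 1) h01
          rw [hd_one] at hc
          haveI : Subsingleton ↥(stabilizer G (t 0) ⊓ stabilizer G (t 1)) :=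
            (Nat.card_eq_one_iff_unique.1 hc).1
          have := Subsingleton.elim (⟨g, hmem⟩ : ↥(stabilizer G (t 0) ⊓ stabilizer G (t 1))) 1
          exact congrArg Subtype.val this
        obtain ⟨p', j, hp', -, -, hSyl⟩ := Cfsg.Agent.S0680.result G hsharp (by
          rw [hα]
          have := hp.pos
          omega)
        haveI : Fact p'.Prime := ⟨hp'⟩
        obtain ⟨hPn, -, -, hPt, hPf, -⟩ := hSyl ⟨hp'⟩ (default : Sylow p' G)
        refine ⟨((default : Sylow p' G) : Subgroup G), hPn, ?_, ?_⟩
        · intro y z
          obtain ⟨u, hu⟩ := hPt.exists_smul_eq y z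
          exact ⟨u.1, u.2, hu⟩
        · intro u hu a hua
          have h1 : (⟨u, hu⟩ : ((default : Sylow p' G) : Subgroup G)) ∈
              stabilizer ((default : Sylow p' G) : Subgroup G) a := hua
          rw [hPf a, Subgroup.mem_bot] at h1
          exact congrArg Subtype.val h1
      rcases zassenhaus_case hp hα G hG hd hd1' hR with h | h
      · exact absurd h hd1
      · exact h

end Cfsg.Agent.S0732
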