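import Cfsg.Statements.S0294
import Cfsg.Agent.Lib.H11.OmegaAll
import Cfsg.Agent.S0288
import Cfsg.Agent.S0789
import Cfsg.Agent.S0791
-- import your own Cfsg.Agent.* helpers here

set_option autoImplicit false
open Cfsg

namespace Cfsg.Agent.S0294

open Cfsg.Agent.Lib.H11.OmegaOrder Cfsg.Agent.Lib.H11.OmegaAll

/-- gcd(4, q^m + 1) |PΩ^-_{2m}(q)| = q^(m(m-1)) (q^m + 1) prod_{i=1}^{m-1} (q^(2i) - 1), m at least 4 (type ²D_m). -/
theorem result {F : Type*} [Field F] [Fintype F] {q : ℕ} (hF : Fintype.card F = q) (m : ℕ) (hm : 4 ≤ m) (a b : F) (hab : ∀ z₁ z₂ : F, z₁ ^ 2 + a * z₁ * z₂ + b * z₂ ^ 2 = 0 → z₁ = 0 ∧ z₂ = 0) : Nat.gcd 4 (q ^ m + 1) * Nat.card (Cfsg.POmega F (Cfsg.quadFormMinus (m - 1) F a b)) = q ^ (m * (m - 1)) * (q ^ m + 1) * ∏ i ∈ Finset.range (m - 1), (q ^ (2 * (i + 1)) - 1) := by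
  have hcard : Fintype.card ((Fin (m - 1) ⊕ Fin (m - 1)) ⊕ Fin 2) = (m - 1) + (m - 1) + 2 := by
    rw [Fintype.card_sum, Fintype.card_sum, Fintype.card_fin, Fintype.card_fin]
  have hnd := Cfsg.Agent.S0288.nondeg (F := F) a b hab (m - 1)
  have hO := Cfsg.Agent.S0288.result hF m (by omega) a b hab
  have hqpos : 0 < q := by rw [← hF]; exact Fintype.card_pos
  set X := q ^ (m * (m - 1)) * (q ^ m + 1) * ∏ i ∈ Finset.range (m - 1), (q ^ (2 * (i + 1)) - 1)
    with hX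
  have hO' : Nat.card ↥(Cfsg.isometryGroup F (Cfsg.quadFormMinus (m - 1) F a b)) = 2 * X := by
    rw [hO, hX]; ring
  rcases Nat.even_or_odd q with heven | hodd
  · have h2 : (2 : F) = 0 := two_eq_zero_of_even (hF ▸ heven)
    have : CharP F 2 := CharTwo.of_one_ne_zero_of_two_eq_zero one_ne_zero h2
    have h1 := card_char_two_any (Cfsg.Agent.Lib.H13.minusQF F (m - 1) a b) hnd
      (by rw [hcard]; omega)
      (Cfsg.Agent.S0789.result (by rw [hcard]; omega) _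
        (Cfsg.Agent.Lib.H11.IsoReindex.nondeg_trQF _ _ hnd) (Or.inr (by rw [hcard]; omega)))
    rw [Cfsg.Agent.S0288.coe_minusQF, hO'] at h1
    have hg : Nat.gcd 4 (q ^ m + 1) = 1 :=
      gcd_four_succ_of_even _ ((Nat.even_pow' (by omega)).2 heven)
    rw [hg]
    omega
  · have h2 : (2 : F) ≠ 0 := Cfsg.Agent.S0286.two_ne_zero_of_odd (hF ▸ hodd)
    have h1 := card_pomega_odd (Cfsg.Agent.Lib.H13.minusQF F (m - 1) a b) hnd h2
      (by rw [hcard]; omega)
    have h791 := Cfsg.Agent.S0791.result hF hodd m (by omega) a b hab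
    rw [Cfsg.Agent.S0288.coe_minusQF] at h1
    rw [hO'] at h1
    have hqm : q ^ m % 4 = 1 ∨ q ^ m % 4 = 3 := by
      have : Odd (q ^ m) := hodd.pow
      rcases this with ⟨k, hk⟩
      omega
    rcases hqm with hq1 | hq3
    · have hno : ¬ (∃ g : ↥(Cfsg.isometryGroup F (Cfsg.quadFormMinus (m - 1) F a b)),
          g ∈ Cfsg.Omega F (Cfsg.quadFormMinus (m - 1) F a b) ∧
          ((g : Matrix.GeneralLinearGroup ((Fin (m - 1) ⊕ Fin (m - 1)) ⊕ Fin 2) F) :
            Matrix ((Fin (m - 1) ⊕ Fin (m - 1)) ⊕ Fin 2) ((Fin (m - 1) ⊕ Fin (m - 1)) ⊕ Fin 2) F)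
              = -1) := by
        intro h
        have := h791.1 h
        omega
      rw [if_neg hno] at h1
      rw [gcd_four_succ_of_mod_one _ hq1]
      omega
    · rw [if_pos (h791.2 hq3)] at h1
      rw [gcd_four_succ_of_mod_three _ hq3]
      omega

end Cfsg.Agent.S0294
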