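import Cfsg.Statements.S2403
import Cfsg.Agent.Lib.H12.SLCycleGen

set_option autoImplicit false
open Cfsg

namespace Cfsg.Agent.S2403

/-- Explicit two-element generation of `PSL_{n+1}(K)` over the fields with two or three elements: with `x = 1 + E₁₂` and `w` the monomial matrix with entries `1` in positions `(i, i+1)` and `(−1)^n` in position `(n+1, 1)`, the elements `x` and `w` generate `SL_{n+1}(K)` modulo its centre. -/
theorem result {K : Type*} [Field K] [Fintype K] (hK : Fintype.card K ≤ 3) (n : ℕ) (hn : 1 ≤ n)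
    (x w : Matrix.SpecialLinearGroup (Fin (n + 1)) K)
    (hx : (x : Matrix (Fin (n + 1)) (Fin (n + 1)) K) = Matrix.transvection (0 : Fin (n + 1)) (1 : Fin (n + 1)) 1)
    (hw : (w : Matrix (Fin (n + 1)) (Fin (n + 1)) K) =
      Matrix.of (fun i j => if j.val = i.val + 1 then 1 else if i.val = n ∧ j.val = 0 then (-1) ^ n else 0)) :
    Subgroup.closure ({x, w} : Set (Matrix.SpecialLinearGroup (Fin (n + 1)) K)) ⊔
      Subgroup.center (Matrix.SpecialLinearGroup (Fin (n + 1)) K) = ⊤ := by
  classical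
  set H := Subgroup.closure ({x, w} : Set (Matrix.SpecialLinearGroup (Fin (n + 1)) K)) with hH
  have hxH : x ∈ H := Subgroup.subset_closure (by simp)
  have hwH : w ∈ H := Subgroup.subset_closure (by simp)
  have h01 : (0 : Fin (n + 1)) ≠ 1 := by
    intro h
    have := congrArg Fin.val h
    rw [Fin.val_zero, Fin.val_one'] at this
    have h2 : 1 % (n + 1) = 1 := Nat.mod_eq_of_lt (by omega)
    omega
  have hx' : x = Matrix.SpecialLinearGroup.transvection h01 1 := Subtype.ext hx
  -- the prime field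
  have hK1 : AddSubgroup.zmultiples (1 : K) = ⊤ := by
    have hdvd : Nat.card (AddSubgroup.zmultiples (1 : K)) ∣ Nat.card K :=
      AddSubgroup.card_addSubgroup_dvd_card _
    have h2 : 2 ≤ Nat.card (AddSubgroup.zmultiples (1 : K)) := by
      rw [Nat.card_zmultiples]
      have h1 : addOrderOf (1 : K) ≠ 1 := by
        rw [Ne, AddMonoid.addOrderOf_eq_one_iff]
        exact one_ne_zero
      have h0 : 0 < addOrderOf (1 : K) := addOrderOf_pos (1 : K)
      omega
    have hK2 : 2 ≤ Nat.card K := by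
      rw [Nat.card_eq_fintype_card]
      exact Fintype.one_lt_card
    have hK3 : Nat.card K ≤ 3 := by rwa [Nat.card_eq_fintype_card]
    apply AddSubgroup.eq_top_of_card_eq
    have hle := Nat.le_of_dvd (by omega) hdvd
    obtain ⟨m, hm⟩ := hdvd
    rcases Nat.lt_or_ge m 2 with hm2 | hm2
    · interval_cases m
      · omega
      · omega
    · exfalso
      have : Nat.card K ≥ 2 * 2 := by
        rw [hm]
        exact Nat.mul_le_mul h2 hm2
      omega
  have hroot : Cfsg.Agent.Lib.H12.rootAddSubgroup H h01 = ⊤ := by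
    rw [eq_top_iff, ← hK1, AddSubgroup.zmultiples_le]
    rw [Cfsg.Agent.Lib.H12.mem_rootAddSubgroup, ← hx']
    exact hxH
  have hT := Cfsg.Agent.Lib.H12.Tmem_of_rootAddSubgroup_eq_top h01 hroot
  have hw' : (w : Matrix (Fin (n + 1)) (Fin (n + 1)) K) =
      Cfsg.Agent.Lib.H12.monoMat (Equiv.addRight (1 : Fin (n + 1))) (Cfsg.Agent.Lib.H12.cycSign K n) := by
    rw [hw, Cfsg.Agent.Lib.H12.cycMat_eq]
  have htop := Cfsg.Agent.Lib.H12.eq_top_of_cycle hn H w (Cfsg.Agent.Lib.H12.cycSign K n)
    Cfsg.Agent.Lib.H12.cycSign_mul_self hw' hwH hT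
  rw [htop, top_sup_eq]

end Cfsg.Agent.S2403
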