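import Cfsg.Statements.S0622
import Mathlib
import Cfsg.Agent.Lib.H3.Thompson
import Cfsg.Agent.Lib.L0.ThompsonJ

set_option autoImplicit false
universe u
open Cfsg

namespace Cfsg.Agent.S0622

open Cfsg.Agent.Lib

/-- `omegaOne` commutes with injective homs. -/
theorem omegaOne_map {A B : Type*} [Group A] [Group B] (p : ℕ) (f : A →* B)
    (hf : Function.Injective f) (K : Subgroup A) :
    (Cfsg.omegaOne p K).map f = Cfsg.omegaOne p (K.map f) := by
  unfold Cfsg.omegaOne
  rw [MonoidHom.map_closure]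
  congr 1
  ext y
  constructor
  · rintro ⟨x, ⟨hx, hxp⟩, rfl⟩
    exact ⟨Subgroup.mem_map_of_mem f hx, by rw [← map_pow, hxp, map_one]⟩
  · rintro ⟨⟨x, hx, rfl⟩, hxp⟩
    refine ⟨x, ⟨hx, ?_⟩, rfl⟩
    apply hf
    rw [map_pow, hxp, map_one]

theorem omegaOne_normal {B : Type*} [Group B] (p : ℕ) (K : Subgroup B) [hK : K.Normal] :
    (Cfsg.omegaOne p K).Normal := by
  unfold Cfsg.omegaOne
  refine ⟨fun n hn g => ?_⟩
  have hle : Subgroup.closure {x : B | x ∈ K ∧ x ^ p = 1} ≤
      (Subgroup.closure {x : B | x ∈ K ∧ x ^ p = 1}).comap (MulAut.conj g).toMonoidHom := by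
    rw [Subgroup.closure_le]
    rintro x ⟨hx, hxp⟩
    apply Subgroup.subset_closure
    refine ⟨hK.conj_mem x hx g, ?_⟩
    show (g * x * g⁻¹) ^ p = 1
    rw [conj_pow, hxp, mul_one, mul_inv_cancel]
  exact hle hn

theorem zOf_normal {B : Type*} [Group B] (K : Subgroup B) [hK : K.Normal] :
    (L0.zOf K).Normal := by
  unfold L0.zOf
  infer_instance

theorem omegaCenterThompson_eq (p : ℕ) (S : Type*) [Group S] :
    Cfsg.omegaCenterThompson p S = Cfsg.omegaOne p (L0.zOf (Cfsg.thompsonSubgroup p S)) := rfl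

theorem omegaCenterThompson_map_mulEquiv {A B : Type*} [Group A] [Group B] (p : ℕ) (e : A ≃* B) :
    (Cfsg.omegaCenterThompson p A).map e.toMonoidHom = Cfsg.omegaCenterThompson p B := by
  rw [omegaCenterThompson_eq, omegaCenterThompson_eq, omegaOne_map p _ e.injective,
    ← L0.zOf_map _ _ (fun a _ b _ hab => e.injective hab), L0.thompsonSubgroup_map_mulEquiv]

theorem central_mem_maxElemAb {S : Type*} [Group S] [Finite S] {p : ℕ} {A : Subgroup S}
    (hA : A ∈ Cfsg.maxElementaryAbelianSubgroups p S) {x : S} (hx : x ∈ Subgroup.center S)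
    (hxp : x ^ p = 1) : x ∈ A := by
  have h1 : Cfsg.IsElementaryAbelian p (A ⊔ Subgroup.zpowers x) := by
    apply H3.elemAb_sup hA.1 (H3.elemAb_zpowers hxp)
    rw [Subgroup.zpowers_le]
    exact Subgroup.center_le_centralizer _ hx
  have h2 := H3.eq_of_maxElemAb_le hA h1 le_sup_left
  rw [h2]
  exact (le_sup_right : Subgroup.zpowers x ≤ _) (Subgroup.mem_zpowers x)

theorem omegaOne_center_le {S : Type*} [Group S] [Finite S] (p : ℕ) :
    Cfsg.omegaOne p (Subgroup.center S) ≤ Cfsg.omegaCenterThompson p S := by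
  rw [omegaCenterThompson_eq]
  unfold Cfsg.omegaOne
  apply Subgroup.closure_mono
  rintro x ⟨hx, hxp⟩
  refine ⟨?_, hxp⟩
  obtain ⟨A, hA⟩ := H3.exists_maxElemAb (G := S) p
  refine ⟨H3.le_thompson hA (central_mem_maxElemAb hA hx hxp), ?_⟩
  exact Subgroup.center_le_centralizer _ hx

/-- The family defining the stable normal closure. -/
def fam (p : ℕ) (S : Type u) [Group S] : Set (Subgroup S) :=
  {W : Subgroup S | Cfsg.omegaOne p (Subgroup.center S) ≤ W ∧
    ∀ (H : Type u) [Group H] (τ : S →* H), Cfsg.IsStableEmbedding p τ → (W.map τ).Normal}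

theorem snc_eq (p : ℕ) (S : Type u) [Group S] : Cfsg.stableNormalClosure p S = sInf (fam p S) := rfl

theorem oct_mem_fam {S : Type u} [Group S] [Finite S] (p : ℕ) :
    Cfsg.omegaCenterThompson p S ∈ fam p S := by
  refine ⟨omegaOne_center_le p, ?_⟩
  intro H _ τ hτ
  obtain ⟨hinj, _, _, _, hJ, _⟩ := hτ
  rw [omegaCenterThompson_eq, omegaOne_map p τ hinj,
    ← L0.zOf_map _ _ (fun a _ b _ hab => hinj hab)]
  haveI := hJ
  haveI := zOf_normal ((Cfsg.thompsonSubgroup p S).map τ)
  exact omegaOne_normal p _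

theorem stable_comp {S S' H : Type u} [Group S] [Group S'] [Group H] (p : ℕ) (η : S ≃* S')
    (τ : S →* H) (hτ : Cfsg.IsStableEmbedding p τ) :
    Cfsg.IsStableEmbedding p (τ.comp η.symm.toMonoidHom) := by
  obtain ⟨hinj, hfin, ⟨P, hP⟩, hcent, hJ, hst⟩ := hτ
  refine ⟨hinj.comp η.symm.injective, hfin, ⟨P, ?_⟩, hcent, ?_, ?_⟩
  · rw [hP]
    ext y
    constructor
    · rintro ⟨x, rfl⟩
      exact ⟨η x, by simp⟩
    · rintro ⟨x, rfl⟩
      exact ⟨η.symm x, rfl⟩
  · rw [← Subgroup.map_map, L0.thompsonSubgroup_map_mulEquiv]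
    exact hJ
  · intro V _ hV
    rw [← Subgroup.map_map, omegaCenterThompson_map_mulEquiv] at hV
    exact hst V hV

theorem comap_mem_fam {S S' : Type u} [Group S] [Group S'] (p : ℕ) (η : S ≃* S')
    {W' : Subgroup S'} (hW' : W' ∈ fam p S') : W'.comap η.toMonoidHom ∈ fam p S := by
  refine ⟨?_, ?_⟩
  · unfold Cfsg.omegaOne
    rw [Subgroup.closure_le]
    rintro x ⟨hx, hxp⟩
    show η x ∈ W'
    apply hW'.1
    apply Subgroup.subset_closure
    refine ⟨?_, by rw [← map_pow, hxp, map_one]⟩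
    rw [Subgroup.mem_center_iff] at hx ⊢
    intro g
    obtain ⟨g, rfl⟩ := η.surjective g
    rw [← map_mul, ← map_mul, hx g]
  · intro H _ τ hτ
    have h := hW'.2 H (τ.comp η.symm.toMonoidHom) (stable_comp p η τ hτ)
    rw [← Subgroup.map_map] at h
    have h2 : W'.map η.symm.toMonoidHom = W'.comap η.toMonoidHom :=
      Subgroup.map_equiv_eq_comap_symm η.symm W'
    rw [h2] at h
    exact h

theorem map_le {S S' : Type u} [Group S] [Group S'] (p : ℕ) (η : S ≃* S') :
    (Cfsg.stableNormalClosure p S).map η.toMonoidHom ≤ Cfsg.stableNormalClosure p S' := by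
  rw [snc_eq, snc_eq]
  apply le_sInf
  intro W' hW'
  rw [Subgroup.map_le_iff_le_comap]
  exact sInf_le (comap_mem_fam p η hW')

theorem map_eq {S S' : Type u} [Group S] [Group S'] (p : ℕ) (η : S ≃* S') :
    (Cfsg.stableNormalClosure p S).map η.toMonoidHom = Cfsg.stableNormalClosure p S' := by
  apply le_antisymm (map_le p η)
  have h := Subgroup.map_mono (f := η.toMonoidHom) (map_le p η.symm)
  rw [Subgroup.map_map] at h
  have h3 : η.toMonoidHom.comp η.symm.toMonoidHom = MonoidHom.id S' := by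
    ext x; simp
  rw [h3, Subgroup.map_id] at h
  exact h

theorem omegaOne_center_ne_bot {S : Type*} [Group S] [Finite S] {p : ℕ} [hp : Fact p.Prime]
    (hS : IsPGroup p S) [Nontrivial S] : Cfsg.omegaOne p (Subgroup.center S) ≠ ⊥ := by
  haveI := hS.center_nontrivial
  obtain ⟨z, hz⟩ := exists_ne (1 : Subgroup.center S)
  obtain ⟨k, hk⟩ := (hS.to_subgroup (Subgroup.center S)) z
  -- choose minimal k
  classical
  have hex : ∃ k, z ^ p ^ k = 1 := ⟨k, hk⟩
  let m := Nat.find hex
  have hm : z ^ p ^ m = 1 := Nat.find_spec hex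
  have hm0 : m ≠ 0 := by
    intro h0
    rw [h0, pow_zero, pow_one] at hm
    exact hz hm
  obtain ⟨m', hm'⟩ := Nat.exists_eq_succ_of_ne_zero hm0
  have hne : z ^ p ^ m' ≠ 1 := by
    intro h
    have := Nat.find_min' hex h
    omega
  intro hbot
  apply hne
  have hmem : ((z ^ p ^ m' : Subgroup.center S) : S) ∈ Cfsg.omegaOne p (Subgroup.center S) := by
    apply Subgroup.subset_closure
    refine ⟨(z ^ p ^ m').2, ?_⟩
    have : (z ^ p ^ m') ^ p = 1 := by
      rw [← pow_mul, ← pow_succ, ← Nat.succ_eq_add_one, ← hm']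
      exact hm
    exact_mod_cast congrArg Subtype.val this
  rw [hbot, Subgroup.mem_bot] at hmem
  exact Subtype.ext hmem

/-- Basic properties of the stable normal closure W(S) of Ω₁(Z(S)) in a finite p-group: characteristic, squeezed between Ω₁(Z(S)) and Ω₁(Z(J(S))), nontrivial for S ≠ 1, and transported by group isomorphisms. -/
theorem result {S : Type u} [Group S] [Finite S] {p : ℕ} [Fact p.Prime] (hS : IsPGroup p S) : (Cfsg.stableNormalClosure p S).Characteristic ∧ Cfsg.omegaOne p (Subgroup.center S) ≤ Cfsg.stableNormalClosure p S ∧ Cfsg.stableNormalClosure p S ≤ Cfsg.omegaCenterThompson p S ∧ (Nontrivial S → Cfsg.stableNormalClosure p S ≠ ⊥) ∧ ∀ (S' : Type u) [Group S'] (η : S ≃* S'), (Cfsg.stableNormalClosure p S).map η.toMonoidHom = Cfsg.stableNormalClosure p S' := by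
  have h2 : Cfsg.omegaOne p (Subgroup.center S) ≤ Cfsg.stableNormalClosure p S := by
    rw [snc_eq]
    exact le_sInf (fun W hW => hW.1)
  refine ⟨?_, h2, ?_, ?_, ?_⟩
  · rw [Subgroup.characteristic_iff_map_eq]
    intro ϕ
    exact map_eq p ϕ
  · rw [snc_eq]
    exact sInf_le (oct_mem_fam p)
  · intro hnt hbot
    rw [hbot, le_bot_iff] at h2
    exact omegaOne_center_ne_bot hS h2
  · intro S' _ η
    exact map_eq p η

end Cfsg.Agent.S0622
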