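import Cfsg.Statements.S0623
import Mathlib
import Cfsg.Agent.S0622
import Cfsg.Agent.Lib.H1.PCore

set_option autoImplicit false
universe u
open Cfsg

namespace Cfsg.Agent.S0623

open Cfsg.Agent.Lib
open scoped commutatorElement

/-- the quadratic-implies-trivial property -/
def QP {S : Type*} [Group S] (U : Subgroup S) : Prop :=
  ∀ x : S, ⁅⁅U, Subgroup.zpowers x⁆, Subgroup.zpowers x⁆ = ⊥ → ⁅U, Subgroup.zpowers x⁆ = ⊥

theorem comm_zpowers_le {H : Type*} [Group H] (V : Subgroup H) {X : Subgroup H}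
    (hX : X ≤ V) {a a' : H}
    (h : (a⁻¹ * a') ∈ Subgroup.centralizer (V : Set H)) (hn : (Subgroup.centralizer (V : Set H)).Normal) :
    ⁅X, Subgroup.zpowers a'⁆ ≤ ⁅X, Subgroup.zpowers a⁆ := by
  rw [Subgroup.commutator_le]
  intro x hx g hg
  obtain ⟨i, rfl⟩ := Subgroup.mem_zpowers_iff.1 hg
  have h0 : (QuotientGroup.mk a : H ⧸ Subgroup.centralizer (V : Set H)) = QuotientGroup.mk a' :=
    QuotientGroup.eq.2 h
  have h1 : (QuotientGroup.mk (a ^ i) : H ⧸ Subgroup.centralizer (V : Set H)) =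
      QuotientGroup.mk (a' ^ i) := by
    rw [QuotientGroup.mk_zpow, QuotientGroup.mk_zpow, h0]
  rw [QuotientGroup.eq] at h1
  obtain ⟨c, hc⟩ : ∃ c, c = (a ^ i)⁻¹ * a' ^ i := ⟨_, rfl⟩
  rw [← hc] at h1
  have h3 : a' ^ i = a ^ i * c := by rw [hc]; group
  have hcx : x⁻¹ * c = c * x⁻¹ := h1 x⁻¹ (V.inv_mem (hX hx))
  have h2 : ⁅x, a' ^ i⁆ = ⁅x, a ^ i⁆ := by
    rw [h3, commutatorElement_def, commutatorElement_def]
    calc x * (a ^ i * c) * x⁻¹ * (a ^ i * c)⁻¹ = x * a ^ i * (c * x⁻¹) * c⁻¹ * (a ^ i)⁻¹ := by group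
      _ = x * a ^ i * (x⁻¹ * c) * c⁻¹ * (a ^ i)⁻¹ := by rw [hcx]
      _ = x * a ^ i * x⁻¹ * (a ^ i)⁻¹ := by group
  rw [h2]
  exact Subgroup.commutator_mem_commutator hx (Subgroup.zpow_mem_zpowers a i)

theorem quad_le {H : Type*} [Group H] (V : Subgroup H) [V.Normal] {a a' : H}
    (h : (a⁻¹ * a') ∈ Subgroup.centralizer (V : Set H)) :
    ⁅⁅V, Subgroup.zpowers a'⁆, Subgroup.zpowers a'⁆ ≤ ⁅⁅V, Subgroup.zpowers a⁆, Subgroup.zpowers a⁆ := by
  have hn : (Subgroup.centralizer (V : Set H)).Normal := inferInstance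
  refine le_trans (Subgroup.commutator_mono (comm_zpowers_le V le_rfl h hn) le_rfl) ?_
  exact comm_zpowers_le V (Subgroup.commutator_le_left V _) h hn

theorem map_conj_normal {H : Type*} [Group H] (V : Subgroup H) [hV : V.Normal] (h : H) :
    V.map (MulAut.conj h).toMonoidHom = V := by
  ext y
  constructor
  · rintro ⟨v, hv, rfl⟩
    exact hV.conj_mem v hv h
  · intro hy
    refine ⟨h⁻¹ * y * h, ?_, ?_⟩
    · have := hV.conj_mem y hy h⁻¹
      rwa [inv_inv] at this
    · show h * (h⁻¹ * y * h) * h⁻¹ = y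
      group

theorem step {S H : Type u} [Group S] [Group H] {p : ℕ} [Fact p.Prime] (τ : S →* H)
    (hτ : Cfsg.IsStableEmbedding p τ) (U : Subgroup S) (hQ : QP U)
    (hV : Subgroup.normalClosure ((U.map τ : Subgroup H) : Set H) ≤
      (Cfsg.omegaCenterThompson p S).map τ) :
    QP ((Subgroup.normalClosure ((U.map τ : Subgroup H) : Set H)).comap τ) := by
  obtain ⟨hinj, hfin, ⟨P, hP⟩, _, _, hst⟩ := hτ
  obtain ⟨V, hVdef⟩ : ∃ V, V = Subgroup.normalClosure ((U.map τ : Subgroup H) : Set H) := ⟨_, rfl⟩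
  rw [← hVdef] at hV ⊢
  haveI hVn : V.Normal := by rw [hVdef]; exact Subgroup.normalClosure_normal
  have hstV := hst V hV
  have hVrange : V ≤ τ.range := hV.trans (Subgroup.map_le_range _ _)
  have hmap : (V.comap τ).map τ = V := Subgroup.map_comap_eq_self hVrange
  have hUV : U.map τ ≤ V := by rw [hVdef]; exact Subgroup.le_normalClosure
  intro x hx
  have h1 : ⁅⁅V, Subgroup.zpowers (τ x)⁆, Subgroup.zpowers (τ x)⁆ = ⊥ := by
    have := congrArg (Subgroup.map τ) hx
    rw [Subgroup.map_commutator, Subgroup.map_commutator, hmap, MonoidHom.map_zpowers,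
      Subgroup.map_bot] at this
    exact this
  suffices hc : τ x ∈ Subgroup.centralizer (V : Set H) by
    apply (Subgroup.map_eq_bot_iff_of_injective _ hinj).1
    rw [Subgroup.map_commutator, hmap, MonoidHom.map_zpowers, Subgroup.commutator_comm,
      Subgroup.commutator_eq_bot_iff_le_centralizer, Subgroup.zpowers_le]
    exact hc
  -- the centralizer of τ x contains V
  have hle : V ≤ Subgroup.centralizer ({τ x} : Set H) := by
    rw [hVdef, Subgroup.normalClosure, Subgroup.closure_le]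
    intro y hy
    rw [Group.mem_conjugatesOfSet_iff] at hy
    obtain ⟨w, hw, hwy⟩ := hy
    obtain ⟨u, hu, rfl⟩ := hw
    rw [isConj_iff] at hwy
    obtain ⟨h, rfl⟩ := hwy
    -- a := h⁻¹ τx h
    obtain ⟨a, ha⟩ : ∃ a, a = h⁻¹ * τ x * h := ⟨_, rfl⟩
    have ha1 : (QuotientGroup.mk a : H ⧸ Subgroup.centralizer (V : Set H)) ∈
        Cfsg.pCore p (H ⧸ Subgroup.centralizer (V : Set H)) := by
      have := (H1.pCore_normal p (H ⧸ Subgroup.centralizer (V : Set H))).conj_mem _
        (hstV (τ x) h1) (QuotientGroup.mk h)⁻¹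
      rw [inv_inv] at this
      rw [ha]
      exact this
    haveI := hfin
    have hsurj : Function.Surjective (QuotientGroup.mk' (Subgroup.centralizer (V : Set H))) :=
      QuotientGroup.mk'_surjective _
    have ha2 := H1.pCore_le_sylow (P.mapSurjective hsurj) ha1
    have ha2' : (QuotientGroup.mk a : H ⧸ Subgroup.centralizer (V : Set H)) ∈
        ((P.mapSurjective hsurj : Sylow p _) : Subgroup _) := ha2
    rw [Sylow.coe_mapSurjective] at ha2'
    obtain ⟨s, hs, hsa⟩ := ha2'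
    have hs' : s ∈ τ.range := by rw [← hP]; exact hs
    obtain ⟨y, rfl⟩ := hs'
    have hsa' : (τ y)⁻¹ * a ∈ Subgroup.centralizer (V : Set H) := QuotientGroup.eq.1 hsa
    have hsa'' : a⁻¹ * τ y ∈ Subgroup.centralizer (V : Set H) := by
      have := Subgroup.inv_mem _ hsa'
      rwa [mul_inv_rev, inv_inv] at this
    -- a is quadratic on V
    have ha3 : ⁅⁅V, Subgroup.zpowers a⁆, Subgroup.zpowers a⁆ = ⊥ := by
      have := congrArg (Subgroup.map (MulAut.conj h⁻¹).toMonoidHom) h1
      rw [Subgroup.map_commutator, Subgroup.map_commutator, map_conj_normal,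
        MonoidHom.map_zpowers, Subgroup.map_bot] at this
      have h5 : (MulAut.conj h⁻¹).toMonoidHom (τ x) = a := by
        rw [ha]
        show h⁻¹ * τ x * h⁻¹⁻¹ = _
        rw [inv_inv]
      rw [h5] at this
      exact this
    have hy3 : ⁅⁅V, Subgroup.zpowers (τ y)⁆, Subgroup.zpowers (τ y)⁆ = ⊥ := by
      rw [eq_bot_iff, ← ha3]
      exact quad_le V hsa''
    have hy4 : ⁅⁅U, Subgroup.zpowers y⁆, Subgroup.zpowers y⁆ = ⊥ := by
      apply (Subgroup.map_eq_bot_iff_of_injective _ hinj).1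
      rw [Subgroup.map_commutator, Subgroup.map_commutator, MonoidHom.map_zpowers, eq_bot_iff,
        ← hy3]
      exact Subgroup.commutator_mono (Subgroup.commutator_mono hUV le_rfl) le_rfl
    have hy5 := hQ y hy4
    rw [Subgroup.commutator_eq_bot_iff_le_centralizer] at hy5
    have hyu : y * u = u * y := hy5 hu y (Subgroup.mem_zpowers y)
    have hτyu : τ y * τ u = τ u * τ y := by rw [← map_mul, ← map_mul, hyu]
    obtain ⟨c, hc⟩ : ∃ c, c = (τ y)⁻¹ * a := ⟨_, rfl⟩
    rw [← hc] at hsa'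
    have hac : a = τ y * c := by rw [hc]; group
    have hcu : τ u * c = c * τ u := hsa' (τ u) (hUV (Subgroup.mem_map_of_mem τ hu))
    have hau : a * τ u = τ u * a := by
      rw [hac, mul_assoc, ← hcu, ← mul_assoc, hτyu, mul_assoc]
    show h * τ u * h⁻¹ ∈ Subgroup.centralizer ({τ x} : Set H)
    rw [Subgroup.mem_centralizer_iff]
    intro z hz
    rw [Set.mem_singleton_iff] at hz
    subst hz
    have hτx : τ x = h * a * h⁻¹ := by rw [ha]; group
    rw [hτx]
    calc h * a * h⁻¹ * (h * τ u * h⁻¹) = h * (a * τ u) * h⁻¹ := by group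
      _ = h * (τ u * a) * h⁻¹ := by rw [hau]
      _ = h * τ u * h⁻¹ * (h * a * h⁻¹) := by group
  rw [Subgroup.mem_centralizer_iff]
  intro v hv
  have := hle hv
  rw [Subgroup.mem_centralizer_iff] at this
  exact (this (τ x) rfl).symm

theorem QP_snc {S : Type u} [Group S] [Finite S] {p : ℕ} [Fact p.Prime] (hS : IsPGroup p S) :
    QP (Cfsg.stableNormalClosure p S) := by
  obtain ⟨_, hΩW, hWoct, _, _⟩ := S0622.result hS
  obtain ⟨W, hW⟩ : ∃ W, W = Cfsg.stableNormalClosure p S := ⟨_, rfl⟩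
  rw [← hW] at hΩW hWoct ⊢
  let 𝒢 : Set (Subgroup S) := {U | Cfsg.omegaOne p (Subgroup.center S) ≤ U ∧ U ≤ W ∧ QP U}
  have hne : 𝒢.Nonempty := by
    refine ⟨Cfsg.omegaOne p (Subgroup.center S), le_rfl, hΩW, ?_⟩
    intro x _
    rw [Subgroup.commutator_eq_bot_iff_le_centralizer]
    unfold Cfsg.omegaOne
    rw [Subgroup.closure_le]
    rintro z ⟨hz, _⟩
    exact Subgroup.center_le_centralizer _ hz
  obtain ⟨U, hU⟩ := (Set.toFinite 𝒢).exists_maximal hne
  obtain ⟨⟨hU1, hU2, hU3⟩, hUmax⟩ := hU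
  have hUfam : U ∈ S0622.fam p S := by
    refine ⟨hU1, ?_⟩
    intro H _ τ hτ
    have hWn : (W.map τ).Normal := by
      have hWfam : W ∈ S0622.fam p S := by
        -- W is itself in the family: it is the intersection
        refine ⟨hΩW, ?_⟩
        intro H' _ τ' hτ'
        rw [hW, S0622.snc_eq]
        have hinj' := hτ'.1
        refine ⟨fun n hn g => ?_⟩
        obtain ⟨s, hs, rfl⟩ := hn
        have hs : s ∈ sInf (S0622.fam p S) := hs
        rw [Subgroup.mem_sInf] at hs
        have h0 := (S0622.oct_mem_fam (S := S) p).2 H' τ' hτ'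
        obtain ⟨s₀, _, hs₀⟩ := h0.conj_mem _ (Subgroup.mem_map_of_mem τ' (hs _ (S0622.oct_mem_fam p))) g
        refine ⟨s₀, ?_, hs₀⟩
        show s₀ ∈ sInf (S0622.fam p S)
        rw [Subgroup.mem_sInf]
        intro X hX
        obtain ⟨s', hs', hss'⟩ := (hX.2 H' τ' hτ').conj_mem _ (Subgroup.mem_map_of_mem τ' (hs X hX)) g
        rw [← hs₀] at hss'
        rw [← hinj' hss']
        exact hs'
      exact hWfam.2 H τ hτ
    obtain ⟨V, hVdef⟩ : ∃ V, V = Subgroup.normalClosure ((U.map τ : Subgroup H) : Set H) :=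
      ⟨_, rfl⟩
    have hVW : V ≤ W.map τ := by
      rw [hVdef]
      exact Subgroup.normalClosure_le_normal (Subgroup.map_mono hU2)
    have hVoct : V ≤ (Cfsg.omegaCenterThompson p S).map τ := hVW.trans (Subgroup.map_mono hWoct)
    have hstep : QP (V.comap τ) := by
      rw [hVdef] at hVoct ⊢
      exact step τ hτ U hU3 hVoct
    have hUV : U.map τ ≤ V := by rw [hVdef]; exact Subgroup.le_normalClosure
    have hUle : U ≤ V.comap τ := by
      rw [← Subgroup.map_le_iff_le_comap]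
      exact hUV
    have hmem : V.comap τ ∈ 𝒢 := by
      refine ⟨hU1.trans hUle, ?_, hstep⟩
      intro z hz
      have := hVW hz
      obtain ⟨w, hw, hwz⟩ := this
      rw [← hτ.1 hwz]
      exact hw
    have heq : V.comap τ ≤ U := hUmax hmem hUle
    have hVU : V = U.map τ := by
      apply le_antisymm _ hUV
      have hVrange : V ≤ τ.range := hVW.trans (Subgroup.map_le_range _ _)
      rw [← Subgroup.map_comap_eq_self hVrange]
      exact Subgroup.map_mono heq
    rw [← hVU, hVdef]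
    exact Subgroup.normalClosure_normal
  have hWU : W ≤ U := by
    rw [hW, S0622.snc_eq]
    exact sInf_le hUfam
  have : U = W := le_antisymm hU2 hWU
  rw [← this]
  exact hU3

/-- No element of a finite p-group acts quadratically and nontrivially on the stable normal closure W(S). -/
theorem result {S : Type*} [Group S] [Finite S] {p : ℕ} [Fact p.Prime] (hS : IsPGroup p S) (x : S) (hq : ⁅⁅Cfsg.stableNormalClosure p S, Subgroup.zpowers x⁆, Subgroup.zpowers x⁆ = ⊥) : ⁅Cfsg.stableNormalClosure p S, Subgroup.zpowers x⁆ = ⊥ := by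
  exact QP_snc hS x hq

end Cfsg.Agent.S0623
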