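import Cfsg.Statements.S0624
import Mathlib
import Cfsg.Agent.Lib.H4.StableW
import Cfsg.Agent.Lib.H4.ZJInst
import Cfsg.Agent.Lib.H7.PLocal
import Cfsg.Agent.Lib.H16.ReplacementJ
import Cfsg.Agent.Lib.H9.FrattiniAction
import Cfsg.Agent.Lib.L0.ThompsonJ

set_option autoImplicit false
open Cfsg

namespace Cfsg.Agent.S0624

open Cfsg.Agent.Lib Cfsg.Agent.Lib.H4
open scoped commutatorElement

universe u
variable {G : Type u} [Group G]

/-- `W(T)` seen in the ambient group. -/
def WG (p : ℕ) (T : Subgroup G) : Subgroup G :=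
  (Cfsg.stableNormalClosure p ↥T).map T.subtype

theorem WG_le (p : ℕ) (T : Subgroup G) : WG p T ≤ T := Subgroup.map_subtype_le _

theorem le_normalizer_of_conj_mem {K H : Subgroup G}
    (h : ∀ g ∈ K, ∀ x ∈ H, g * x * g⁻¹ ∈ H) : K ≤ Subgroup.normalizer (H : Set G) := by
  intro g hg
  rw [Subgroup.mem_normalizer_iff]
  intro x
  constructor
  · exact h g hg x
  · intro hx
    have := h g⁻¹ (K.inv_mem hg) _ hx
    rw [inv_inv] at this
    have e : g⁻¹ * (g * x * g⁻¹) * g = x := by group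
    rwa [e] at this

theorem WG_pred [Finite G] (p : ℕ) (T : Subgroup G) : (ZJ.eaClass p G).pred (WG p T) := by
  have h1 : WG p T ≤ ZJ.ZJ (ZJ.eaClass p G) T := by
    rw [ZJ.ZJ_eaClass]
    exact Subgroup.map_mono (StableW.snc_le_oct p)
  exact (ZJ.eaClass p G).mono _ _ (ZJ.ZJ_pred T) h1

theorem WG_comm [Finite G] (p : ℕ) (T : Subgroup G) :
    ∀ x ∈ WG p T, ∀ y ∈ WG p T, x * y = y * x := (WG_pred p T).1

theorem WG_comm_bot [Finite G] (p : ℕ) (T : Subgroup G) : ⁅WG p T, WG p T⁆ = ⊥ := by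
  rw [Subgroup.commutator_eq_bot_iff_le_centralizer]
  intro x hx
  rw [Subgroup.mem_centralizer_iff]
  intro y hy
  exact WG_comm p T y hy x hx

theorem WG_map_conj (p : ℕ) (T : Subgroup G) (g : G) :
    WG p (T.map (MulAut.conj g).toMonoidHom) = (WG p T).map (MulAut.conj g).toMonoidHom :=
  StableW.snc_map_equiv p T (MulAut.conj g)

theorem normalizer_le_normalizer_WG (p : ℕ) (T : Subgroup G) :
    Subgroup.normalizer (T : Set G) ≤ Subgroup.normalizer (WG p T : Set G) := by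
  intro g hg
  rw [Subgroup.mem_normalizer_iff_map_conj_eq] at hg ⊢
  have h1 := WG_map_conj p T g
  have h2 : (MulAut.conj g).toMonoidHom = ((MulAut.conj g : G ≃* G) : G →* G) := rfl
  rw [h2, hg] at h1
  exact h1.symm

theorem le_normalizer_WG (p : ℕ) (T : Subgroup G) :
    T ≤ Subgroup.normalizer (WG p T : Set G) :=
  Subgroup.le_normalizer.trans (normalizer_le_normalizer_WG p T)

theorem comm_le_WG (p : ℕ) (T : Subgroup G) {X : Subgroup G} (hX : X ≤ T) :
    ⁅X, WG p T⁆ ≤ WG p T := by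
  rw [Subgroup.commutator_comm]
  exact (Subgroup.commutator_mono le_rfl hX).trans
    (Subgroup.le_normalizer_iff_commutator_le_left.1 (le_normalizer_WG p T))

/-- quadratic action of elements of `W(S)` on subgroups of a bigger `p`-group -/
theorem quad_of_mem_WG [Finite G] (p : ℕ) (T : Subgroup G) {X : Subgroup G} (hX : X ≤ T) {a : G}
    (ha : a ∈ WG p T) : ⁅⁅X, Subgroup.zpowers a⁆, Subgroup.zpowers a⁆ = ⊥ := by
  have hz : Subgroup.zpowers a ≤ WG p T := Subgroup.zpowers_le.2 ha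
  rw [eq_bot_iff, ← WG_comm_bot p T]
  exact Subgroup.commutator_mono ((Subgroup.commutator_mono le_rfl hz).trans (comm_le_WG p T hX)) hz

/-- the kernel of the action on `B/Φ(B)` is a `p`-group when `C(B) ≤ B` -/
theorem sectionKernel_isPGroup [Finite G] {p : ℕ} [Fact p.Prime]
    (hc : Subgroup.centralizer (Cfsg.pCore p G : Set G) ≤ Cfsg.pCore p G)
    [hΦ : ((frattini ↥(Cfsg.pCore p G)).map (Cfsg.pCore p G).subtype).Normal] :
    IsPGroup p (Cfsg.sectionKernel (Cfsg.pCore p G)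
      ((frattini ↥(Cfsg.pCore p G)).map (Cfsg.pCore p G).subtype)) := by
  have hBn : (Cfsg.pCore p G).Normal := H1.pCore_normal p G
  have hBp : IsPGroup p (Cfsg.pCore p G) := H1.pCore_isPGroup p G
  apply H7.isPGroup_of_coprime_eq_one
  intro y hy hyc
  have hcomm : ∀ q ∈ Cfsg.pCore p G, y * q = q * y := by
    apply H9.commute_of_commutator_mem_frattini hBp _ hyc
    · intro a' ha' q hq
      have ha'K : a' ∈ Cfsg.sectionKernel (Cfsg.pCore p G)
          ((frattini ↥(Cfsg.pCore p G)).map (Cfsg.pCore p G).subtype) :=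
        (Subgroup.zpowers_le.2 hy) ha'
      unfold Cfsg.sectionKernel at ha'K
      rw [Subgroup.mem_comap, Subgroup.mem_centralizer_iff] at ha'K
      have h1 := ha'K _ (Subgroup.mem_map_of_mem _ hq)
      rw [← QuotientGroup.eq_one_iff]
      have h2 : ((a' * q * a'⁻¹ * q⁻¹ : G) : G ⧸ ((frattini ↥(Cfsg.pCore p G)).map
          (Cfsg.pCore p G).subtype)) =
          (QuotientGroup.mk' _ a') * (QuotientGroup.mk' _ q) * (QuotientGroup.mk' _ a')⁻¹ *
            (QuotientGroup.mk' _ q)⁻¹ := rfl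
      rw [h2, ← h1]
      group
    · rw [Subgroup.normalizer_eq_top_iff.2 hBn]
      exact Subgroup.mem_top y
  have hyB : y ∈ Cfsg.pCore p G := by
    apply hc
    rw [Subgroup.mem_centralizer_iff]
    intro q hq
    exact (hcomm q hq).symm
  exact H7.eq_one_of_mem_of_isPGroup_of_coprime hBp hyB hyc

theorem WG_le_pCore [Finite G] {p : ℕ} [Fact p.Prime]
    [hΦ : ((frattini ↥(Cfsg.pCore p G)).map (Cfsg.pCore p G).subtype).Normal]
    (h2 : Cfsg.IsPStableOnSection p (Cfsg.pCore p G)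
      ((frattini ↥(Cfsg.pCore p G)).map (Cfsg.pCore p G).subtype))
    (hc : Subgroup.centralizer (Cfsg.pCore p G : Set G) ≤ Cfsg.pCore p G) (S : Sylow p G) :
    WG p (S : Subgroup G) ≤ Cfsg.pCore p G := by
  intro a ha
  have hBS : Cfsg.pCore p G ≤ S := H1.pCore_le_sylow S
  have hquad : ⁅⁅Cfsg.pCore p G, Subgroup.zpowers a⁆, Subgroup.zpowers a⁆ ≤
      (frattini ↥(Cfsg.pCore p G)).map (Cfsg.pCore p G).subtype := by
    rw [quad_of_mem_WG p S hBS ha]
    exact bot_le
  obtain ⟨D, hDn, hKD, ⟨k, hk⟩, haD⟩ := h2 a hquad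
  have hKp := sectionKernel_isPGroup (G := G) (p := p) hc
  have hDp : IsPGroup p D := by
    obtain ⟨m, hm⟩ := IsPGroup.iff_card.1 hKp
    apply IsPGroup.of_card (n := m + k)
    have h3 := Subgroup.relIndex_mul_relIndex (⊥ : Subgroup G) _ D bot_le hKD
    rw [Subgroup.relIndex_bot_left, Subgroup.relIndex_bot_left, hm, hk] at h3
    rw [← h3, pow_add]
  exact H1.le_pCore hDn hDp haD

/-- `W(S)` commutes with all its conjugates (by the no-quadratic-action property). -/
theorem WG_comm_conj [Finite G] {p : ℕ} [Fact p.Prime]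
    (hB : ∀ S : Sylow p G, WG p (S : Subgroup G) ≤ Cfsg.pCore p G) (S : Sylow p G) (g : G) :
    ∀ w₁ ∈ WG p (S : Subgroup G), ∀ w₂ ∈ WG p (S : Subgroup G),
      w₁ * (g * w₂ * g⁻¹) = (g * w₂ * g⁻¹) * w₁ := by
  intro w₁ hw₁ w₂ hw₂
  obtain ⟨T, hT⟩ : ∃ T : Subgroup G, T = (S : Subgroup G).map (MulAut.conj g).toMonoidHom :=
    ⟨_, rfl⟩
  have hTS : ((g • S : Sylow p G) : Subgroup G) = T := by rw [hT]; rfl
  have hTp : IsPGroup p ↥T := by rw [← hTS]; exact (g • S).2
  have hWT : WG p T = (WG p (S : Subgroup G)).map (MulAut.conj g).toMonoidHom := by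
    rw [hT]; exact WG_map_conj p _ g
  have hWTB : WG p T ≤ Cfsg.pCore p G := by rw [← hTS]; exact hB (g • S)
  have hBT : Cfsg.pCore p G ≤ T := by rw [← hTS]; exact H1.pCore_le_sylow (g • S)
  have hw₁T : w₁ ∈ T := hBT (hB S hw₁)
  have hw₂' : g * w₂ * g⁻¹ ∈ WG p T := by
    rw [hWT]
    exact ⟨w₂, hw₂, rfl⟩
  obtain ⟨y, hy, hyw⟩ := hw₂'
  -- quadratic action of `w₁` on `W(T)`
  have hq : ⁅⁅WG p T, Subgroup.zpowers w₁⁆, Subgroup.zpowers w₁⁆ = ⊥ :=
    quad_of_mem_WG p (S : Subgroup G) (hWTB.trans (H1.pCore_le_sylow S)) hw₁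
  have hq' : ⁅⁅Cfsg.stableNormalClosure p ↥T, Subgroup.zpowers (⟨w₁, hw₁T⟩ : ↥T)⁆,
      Subgroup.zpowers (⟨w₁, hw₁T⟩ : ↥T)⁆ = ⊥ := by
    apply (Subgroup.map_eq_bot_iff_of_injective _ T.subtype_injective).1
    rw [Subgroup.map_commutator, Subgroup.map_commutator, MonoidHom.map_zpowers]
    exact hq
  have h3 := S0623.QP_snc hTp _ hq'
  rw [Subgroup.commutator_eq_bot_iff_le_centralizer] at h3
  have h4 := h3 hy _ (Subgroup.mem_zpowers _)
  have h5 := congrArg Subtype.val h4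
  rw [← hyw]
  exact h5

theorem pred_zpowers {p : ℕ} {x : G} (hx : x ^ p = 1) :
    (ZJ.eaClass p G).pred (Subgroup.zpowers x) := by
  refine ⟨ZJ.comm_zpowers x, ?_⟩
  intro a ha
  obtain ⟨m, rfl⟩ := Subgroup.mem_zpowers_iff.mp ha
  rw [← zpow_natCast, ← zpow_mul, mul_comm, zpow_mul, zpow_natCast, hx, one_zpow]

theorem V_pred [Finite G] {p : ℕ} [Fact p.Prime]
    (hB : ∀ S : Sylow p G, WG p (S : Subgroup G) ≤ Cfsg.pCore p G) (S : Sylow p G) :
    (ZJ.eaClass p G).pred (Subgroup.normalClosure ((WG p (S : Subgroup G) : Subgroup G) : Set G)) := by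
  unfold Subgroup.normalClosure
  apply ZJ.pred_closure_of_comm
  · intro x hx y hy
    rw [Group.mem_conjugatesOfSet_iff] at hx hy
    obtain ⟨w₁, hw₁, hx⟩ := hx
    obtain ⟨w₂, hw₂, hy⟩ := hy
    rw [isConj_iff] at hx hy
    obtain ⟨c₁, rfl⟩ := hx
    obtain ⟨c₂, rfl⟩ := hy
    have h := WG_comm_conj hB S (c₁⁻¹ * c₂) w₁ hw₁ w₂ hw₂
    calc c₁ * w₁ * c₁⁻¹ * (c₂ * w₂ * c₂⁻¹)
        = c₁ * (w₁ * (c₁⁻¹ * c₂ * w₂ * (c₁⁻¹ * c₂)⁻¹)) * c₁⁻¹ := by group
      _ = c₁ * ((c₁⁻¹ * c₂ * w₂ * (c₁⁻¹ * c₂)⁻¹) * w₁) * c₁⁻¹ := by rw [h]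
      _ = c₂ * w₂ * c₂⁻¹ * (c₁ * w₁ * c₁⁻¹) := by group
  · intro x hx
    rw [Group.mem_conjugatesOfSet_iff] at hx
    obtain ⟨w₁, hw₁, hx⟩ := hx
    rw [isConj_iff] at hx
    obtain ⟨c₁, rfl⟩ := hx
    apply pred_zpowers
    rw [conj_pow, (WG_pred p (S : Subgroup G)).2 w₁ hw₁, mul_one, mul_inv_cancel]

theorem V_elemAb [Finite G] {p : ℕ} [Fact p.Prime]
    (hB : ∀ S : Sylow p G, WG p (S : Subgroup G) ≤ Cfsg.pCore p G) (S : Sylow p G) :
    Cfsg.IsElementaryAbelian p
      (Subgroup.normalClosure ((WG p (S : Subgroup G) : Subgroup G) : Set G)) := by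
  have h := V_pred hB S
  exact ⟨(ZJ.isMulCommutative_iff _).2 h.1, h.2⟩

/-- `J(S)` centralizes `V = ⟨W(S)^G⟩`. -/
theorem J_le_centralizer_V [Finite G] {p : ℕ} [Fact p.Prime]
    (h1 : ∀ (V : Subgroup G) [V.Normal], Cfsg.IsElementaryAbelian p V → Cfsg.IsPStableOn p V)
    (hB : ∀ S : Sylow p G, WG p (S : Subgroup G) ≤ Cfsg.pCore p G) (S : Sylow p G) :
    Cfsg.thompsonSubgroupOf p (S : Subgroup G) ≤ Subgroup.centralizer
      ((Subgroup.normalClosure ((WG p (S : Subgroup G) : Subgroup G) : Set G) : Subgroup G) :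
        Set G) := by
  obtain ⟨V, hVdef⟩ : ∃ V, V = Subgroup.normalClosure ((WG p (S : Subgroup G) : Subgroup G) : Set G) :=
    ⟨_, rfl⟩
  rw [← hVdef]
  have hVn : V.Normal := by rw [hVdef]; exact Subgroup.normalClosure_normal
  have hVea : Cfsg.IsElementaryAbelian p V := by rw [hVdef]; exact V_elemAb hB S
  have hBn : (Cfsg.pCore p G).Normal := H1.pCore_normal p G
  have hVB : V ≤ Cfsg.pCore p G := by
    rw [hVdef]; exact Subgroup.normalClosure_le_normal (hB S)
  have hVS : V ≤ S := hVB.trans (H1.pCore_le_sylow S)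
  have hstV := h1 V hVea
  -- work inside S
  obtain ⟨VS, hVSdef⟩ : ∃ VS : Subgroup ↥(S : Subgroup G), VS = V.subgroupOf S := ⟨_, rfl⟩
  have hVSn : VS.Normal := by rw [hVSdef]; infer_instance
  have hVSea : Cfsg.IsElementaryAbelian p VS := by
    rw [hVSdef]; exact H3.elemAb_subgroupOf _ hVea
  have hVSmap : VS.map (S : Subgroup G).subtype = V := by
    rw [hVSdef]; exact Subgroup.map_subgroupOf_eq_of_le hVS
  unfold Cfsg.thompsonSubgroupOf Cfsg.thompsonSubgroup
  rw [Subgroup.map_le_iff_le_comap]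
  apply sSup_le
  intro A hA
  rw [← Subgroup.map_le_iff_le_comap]
  obtain ⟨hmax, hquad, hne⟩ := H16.thompson_replacement_J VS hVSea A hA
  obtain ⟨A', hA'⟩ : ∃ A' : Subgroup ↥(S : Subgroup G),
      A' = ⁅VS, A⁆ ⊔ (A ⊓ Subgroup.centralizer ((⁅VS, A⁆ : Subgroup ↥(S : Subgroup G)) : Set _)) :=
    ⟨_, rfl⟩
  rw [← hA'] at hmax hquad hne
  have hA'c : ⁅VS, A'⁆ = ⊥ := by
    rw [Subgroup.commutator_comm, Subgroup.commutator_eq_bot_iff_le_centralizer]
    intro x hx
    have hx2 : ⁅⁅VS, Subgroup.zpowers x⁆, Subgroup.zpowers x⁆ = ⊥ := by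
      rw [eq_bot_iff, ← hquad]
      have hz : Subgroup.zpowers x ≤ A' := Subgroup.zpowers_le.2 hx
      exact Subgroup.commutator_mono (Subgroup.commutator_mono le_rfl hz) hz
    have hx3 : ⁅⁅V, Subgroup.zpowers (x : G)⁆, Subgroup.zpowers (x : G)⁆ = ⊥ := by
      have := congrArg (Subgroup.map (S : Subgroup G).subtype) hx2
      rw [Subgroup.map_commutator, Subgroup.map_commutator, hVSmap, MonoidHom.map_zpowers,
        Subgroup.map_bot] at this
      exact this
    have hx4 := StableW.central_of_quadratic (S : Subgroup G).subtype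
      (S : Subgroup G).subtype_injective S (Subgroup.range_subtype _).symm
      (Cfsg.stableNormalClosure p ↥(S : Subgroup G)) (S0623.QP_snc S.2) V hVdef hstV (x : G) hx3
    rw [Subgroup.mem_centralizer_iff]
    intro v hv
    have hv' : (v : G) ∈ V := by rw [hVSdef] at hv; exact Subgroup.mem_subgroupOf.1 hv
    exact Subtype.ext (Subgroup.mem_centralizer_iff.1 hx4 _ hv')
  have hAc : ⁅VS, A⁆ = ⊥ := by
    by_contra hcon
    exact hne hcon hA'c
  rw [Subgroup.commutator_comm, Subgroup.commutator_eq_bot_iff_le_centralizer] at hAc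
  rintro _ ⟨a, ha, rfl⟩
  rw [Subgroup.mem_centralizer_iff]
  intro v hv
  have := Subgroup.mem_centralizer_iff.1 (hAc ha) ⟨v, hVS hv⟩
    (by rw [hVSdef]; exact Subgroup.mem_subgroupOf.2 hv)
  exact congrArg Subtype.val this

/-- Frattini argument: `G = C_G(V) N_G(J(S))`. -/
theorem frattini_J [Finite G] {p : ℕ} [Fact p.Prime] (S : Sylow p G) (V : Subgroup G) [V.Normal]
    (hJ : Cfsg.thompsonSubgroupOf p (S : Subgroup G) ≤ Subgroup.centralizer (V : Set G)) :
    Subgroup.centralizer (V : Set G) ⊔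
      Subgroup.normalizer (Cfsg.thompsonSubgroupOf p (S : Subgroup G) : Set G) = ⊤ := by
  have h1 := ZJ.frattini_inf S (Subgroup.centralizer (V : Set G))
  rw [eq_top_iff, ← h1]
  apply sup_le_sup_left
  have h2 : Cfsg.thompsonSubgroupOf p ((S : Subgroup G) ⊓ Subgroup.centralizer (V : Set G)) =
      Cfsg.thompsonSubgroupOf p (S : Subgroup G) :=
    L0.thompsonSubgroupOf_eq_of_le p inf_le_left (le_inf (L0.thompsonSubgroupOf_le' p _) hJ)
  rw [← h2]
  exact L0.normalizer_le_normalizer_thompsonSubgroupOf p _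

theorem sylow_le_normalizer_J (p : ℕ) (T : Subgroup G) :
    T ≤ Subgroup.normalizer (Cfsg.thompsonSubgroupOf p T : Set G) :=
  Subgroup.le_normalizer.trans (L0.normalizer_le_normalizer_thompsonSubgroupOf p T)

/-- `S ≤ N_G(J(S))` is a stable embedding, for an action-`p`-stable group of characteristic `p`. -/
theorem stable_N [Finite G] {p : ℕ} [Fact p.Prime]
    (h3 : ∀ (S : Sylow p G)
      (V : Subgroup ↥(Subgroup.normalizer (Cfsg.thompsonSubgroupOf p (S : Subgroup G) : Set G)))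
      [V.Normal],
      V.map (Subgroup.normalizer (Cfsg.thompsonSubgroupOf p (S : Subgroup G) : Set G)).subtype ≤
          (Cfsg.omegaCenterThompson p ↥(S : Subgroup G)).map (S : Subgroup G).subtype →
        Cfsg.IsPStableOn p V)
    (hc : Subgroup.centralizer (Cfsg.pCore p G : Set G) ≤ Cfsg.pCore p G) (S : Sylow p G) :
    Cfsg.IsStableEmbedding p
      (Subgroup.inclusion (sylow_le_normalizer_J p (S : Subgroup G))) := by
  obtain ⟨N, hN⟩ : ∃ N, N = Subgroup.normalizer (Cfsg.thompsonSubgroupOf p (S : Subgroup G) : Set G) :=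
    ⟨_, rfl⟩
  have hSN : (S : Subgroup G) ≤ Subgroup.normalizer (Cfsg.thompsonSubgroupOf p (S : Subgroup G) : Set G) :=
    sylow_le_normalizer_J p (S : Subgroup G)
  have hBn : (Cfsg.pCore p G).Normal := H1.pCore_normal p G
  have hBp : IsPGroup p (Cfsg.pCore p G) := H1.pCore_isPGroup p G
  have hJS : Cfsg.thompsonSubgroupOf p (S : Subgroup G) ≤ S := L0.thompsonSubgroupOf_le' p _
  have hJp : IsPGroup p (Cfsg.thompsonSubgroupOf p (S : Subgroup G)) := S.2.to_le hJS
  have hcomp : (Subgroup.normalizer (Cfsg.thompsonSubgroupOf p (S : Subgroup G) : Set G)).subtype.comp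
      (Subgroup.inclusion hSN) = (S : Subgroup G).subtype := by
    ext x; rfl
  refine ⟨Subgroup.inclusion_injective hSN, inferInstance, ⟨S.subtype hSN, ?_⟩, ?_, ?_, ?_⟩
  · rw [Sylow.coe_subtype, Subgroup.inclusion_range]
  · apply H7.centralizer_pCore_le_of_generalizedFittingSubgroup_eq p
    apply H7.generalizedFittingSubgroup_eq_pCore_of_le_normalizer p (Q := Cfsg.pCore p G)
      (P := Cfsg.thompsonSubgroupOf p (S : Subgroup G)) hBp hJp
    · rw [Subgroup.normalizer_eq_top_iff.2 hBn]; exact le_top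
    · exact hJS.trans hSN
    · exact le_rfl
    · rw [Subgroup.normalizer_eq_top_iff.2 hBn]; exact le_top
    · exact inf_le_right.trans (Subgroup.centralizer_le_normalizer _)
    · intro y _ hy hyc
      exact H7.eq_one_of_mem_of_isPGroup_of_coprime hBp (hc hyc) hy
  · have h5 : (Cfsg.thompsonSubgroup p ↥(S : Subgroup G)).map (Subgroup.inclusion hSN) =
        (Cfsg.thompsonSubgroupOf p (S : Subgroup G)).subgroupOf
          (Subgroup.normalizer (Cfsg.thompsonSubgroupOf p (S : Subgroup G) : Set G)) := by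
      apply Subgroup.map_injective (Subgroup.subtype_injective _)
      rw [Subgroup.map_map, hcomp, Subgroup.map_subgroupOf_eq_of_le (hJS.trans hSN)]
      rfl
    rw [h5]
    exact Subgroup.normal_subgroupOf_of_le_normalizer le_rfl
  · intro V' _ hV'
    apply h3 S V'
    rw [← hcomp, ← Subgroup.map_map]
    exact Subgroup.map_mono hV'

/-- `N_G(J(S))` normalizes `W(S)`. -/
theorem normalizer_J_le [Finite G] {p : ℕ} [Fact p.Prime]
    (h3 : ∀ (S : Sylow p G)
      (V : Subgroup ↥(Subgroup.normalizer (Cfsg.thompsonSubgroupOf p (S : Subgroup G) : Set G)))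
      [V.Normal],
      V.map (Subgroup.normalizer (Cfsg.thompsonSubgroupOf p (S : Subgroup G) : Set G)).subtype ≤
          (Cfsg.omegaCenterThompson p ↥(S : Subgroup G)).map (S : Subgroup G).subtype →
        Cfsg.IsPStableOn p V)
    (hc : Subgroup.centralizer (Cfsg.pCore p G : Set G) ≤ Cfsg.pCore p G) (S : Sylow p G) :
    Subgroup.normalizer (Cfsg.thompsonSubgroupOf p (S : Subgroup G) : Set G) ≤
      Subgroup.normalizer (WG p (S : Subgroup G) : Set G) := by
  have hSN := sylow_le_normalizer_J p (S : Subgroup G)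
  haveI : Finite ↥(S : Subgroup G) := inferInstance
  have hn := StableW.snc_map_normal p _ (stable_N h3 hc S)
  apply le_normalizer_of_conj_mem
  intro n hn' w hw
  obtain ⟨s, hs, rfl⟩ := hw
  have := hn.conj_mem _ (Subgroup.mem_map_of_mem (Subgroup.inclusion hSN) hs) ⟨n, hn'⟩
  obtain ⟨s', hs', hss'⟩ := this
  refine ⟨s', hs', ?_⟩
  have := congrArg Subtype.val hss'
  exact this


/-- The analogue of the ZJ-Theorem: in an action-p-stable group whose largest normal p-subgroup contains its centralizer, the characteristic subgroup W(S) of a Sylow p-subgroup S is normal. -/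
theorem result {G : Type*} [Group G] [Finite G] {p : ℕ} [Fact p.Prime] (hst : Cfsg.IsActionPStable p G) (hc : Subgroup.centralizer (Cfsg.pCore p G : Set G) ≤ Cfsg.pCore p G) (S : Sylow p G) : (((Cfsg.stableNormalClosure p ↥(S : Subgroup G)).map (S : Subgroup G).subtype)).Normal := by
  obtain ⟨h1, h2, h3⟩ := hst
  have hB : ∀ S : Sylow p G, WG p (S : Subgroup G) ≤ Cfsg.pCore p G :=
    fun S => WG_le_pCore h2 hc S
  obtain ⟨V, hVdef⟩ : ∃ V, V = Subgroup.normalClosure ((WG p (S : Subgroup G) : Subgroup G) : Set G) :=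
    ⟨_, rfl⟩
  have hVn : V.Normal := by rw [hVdef]; exact Subgroup.normalClosure_normal
  have hJ : Cfsg.thompsonSubgroupOf p (S : Subgroup G) ≤ Subgroup.centralizer (V : Set G) := by
    rw [hVdef]; exact J_le_centralizer_V h1 hB S
  have hfr := frattini_J S V hJ
  have hWV : WG p (S : Subgroup G) ≤ V := by rw [hVdef]; exact Subgroup.le_normalClosure
  have hle : Subgroup.centralizer (V : Set G) ⊔
      Subgroup.normalizer (Cfsg.thompsonSubgroupOf p (S : Subgroup G) : Set G) ≤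
      Subgroup.normalizer (WG p (S : Subgroup G) : Set G) := by
    apply sup_le
    · exact (Subgroup.centralizer_le hWV).trans (Subgroup.centralizer_le_normalizer _)
    · exact normalizer_J_le h3 hc S
  rw [hfr, top_le_iff] at hle
  exact Subgroup.normalizer_eq_top_iff.1 hle

end Cfsg.Agent.S0624
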