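import Cfsg.Statements.S4115
import Cfsg.Agent.Lib.H18.TIHall

set_option autoImplicit false
universe u
open Cfsg

namespace Cfsg.Agent.S4115

open Cfsg.Agent.Lib.H18

/-- Let G be a finite group and H a subgroup that meets each of its conjugates by elements outside N_G(H) trivially and whose order is coprime to its index in N_G(H). Then H has a normal complement in N_G(H) if and only if H has a normal complement in G. Moreover, if H is not normal in G and has a normal complement in N_G(H), then H is isomorphic to a Frobenius complement of some finite Frobenius group. -/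
theorem result {G : Type u} [Group G] [Finite G] (H : Subgroup G)
    (hTI : Cfsg.IsTISubset (H : Set G)) (hHall : (Nat.card H).Coprime (H.subgroupOf (Subgroup.normalizer (H : Set G))).index) :
    ((∃ K : Subgroup (Subgroup.normalizer (H : Set G)), K.Normal ∧ K.IsComplement' (H.subgroupOf (Subgroup.normalizer (H : Set G)))) ↔
      (∃ N : Subgroup G, N.Normal ∧ N.IsComplement' H)) ∧
    (¬ H.Normal → (∃ K : Subgroup (Subgroup.normalizer (H : Set G)), K.Normal ∧ K.IsComplement' (H.subgroupOf (Subgroup.normalizer (H : Set G)))) →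
      ∃ (F : Type u) (_ : Group F) (_ : Finite F) (C : Subgroup F), Cfsg.IsFrobeniusComplement C ∧ Nonempty (H ≃* C)) := by
  classical
  set M := Subgroup.normalizer (H : Set G) with hM
  have hHM : H ≤ M := Subgroup.le_normalizer
  set n := (H.subgroupOf M).index with hn
  have hTI' : ∀ g x : G, x ∈ H → x ≠ 1 → g * x * g⁻¹ ∈ H → g ∈ M := by
    intro g x hx hx1 hgx
    by_contra hg
    exact hx1 (hTI g hg x hx hgx)
  haveI hH'n : (H.subgroupOf M).Normal := Subgroup.normal_in_normalizer
  have hpow : ∀ x ∈ M, x ^ n ∈ H := by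
    intro x hx
    have := Subgroup.pow_index_mem (H.subgroupOf M) (⟨x, hx⟩ : M)
    exact this
  have hH'card : Nat.card (H.subgroupOf M) = Nat.card H :=
    Nat.card_congr (Subgroup.subgroupOfEquivOfLe hHM).toEquiv
  -- forward construction through Wielandt's theorem
  have hfwd : ∀ K : Subgroup M, K.Normal → K.IsComplement' (H.subgroupOf M) →
      ∃ (K₀ N : Subgroup G), WielandtHyp M K₀ ∧ N.Normal ∧ N ⊓ M = K₀ ∧ N ⊓ H = ⊥ ∧
        Nat.card N * Nat.card H = Nat.card G ∧ (∀ x : G, x ∉ N → ∃ y : G, y⁻¹ * x * y ∈ M) := by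
    intro K hKn hKc
    have hKidx : K.index = Nat.card H := by rw [hKc.symm.index_eq_card, hH'card]
    have hW : WielandtHyp M (K.map M.subtype) := by
      refine ⟨Subgroup.map_subtype_le K, ?_, ?_⟩
      · rintro m hm k ⟨k', hk', rfl⟩
        exact ⟨⟨m, hm⟩ * k' * ⟨m, hm⟩⁻¹, hKn.conj_mem k' hk' ⟨m, hm⟩, rfl⟩
      · intro g hg x hx hgx
        have hg' : g⁻¹ ∉ M := fun h => hg (by simpa using M.inv_mem h)
        have h1 : x ^ n ∈ H := hpow x hx
        have h2 : g⁻¹ * x ^ n * g⁻¹⁻¹ ∈ H := by
          have := hpow _ hgx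
          have e : (g⁻¹ * x * g) ^ n = g⁻¹ * x ^ n * g⁻¹⁻¹ := by
            rw [inv_inv]
            have := conj_pow (a := g⁻¹) (b := x) (i := n)
            rw [inv_inv] at this
            exact this
          rwa [e] at this
        have h3 : x ^ n = 1 := hTI g⁻¹ hg' _ h1 h2
        -- now `x ∈ K`
        have h4 : ((⟨x, hx⟩ : M) : M ⧸ K) ^ n = 1 := by
          rw [← QuotientGroup.mk_pow]
          have : (⟨x, hx⟩ : M) ^ n = 1 := Subtype.ext (by simpa using h3)
          rw [this]
          rfl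
        have h5 : orderOf ((⟨x, hx⟩ : M) : M ⧸ K) ∣ n := orderOf_dvd_of_pow_eq_one h4
        have h6 : orderOf ((⟨x, hx⟩ : M) : M ⧸ K) ∣ Nat.card H := by
          rw [← hKidx]
          exact orderOf_dvd_natCard _
        have h7 : orderOf ((⟨x, hx⟩ : M) : M ⧸ K) = 1 :=
          Nat.eq_one_of_dvd_coprimes hHall h6 h5
        rw [orderOf_eq_one_iff, QuotientGroup.eq_one_iff] at h7
        exact ⟨⟨x, hx⟩, h7, rfl⟩
    obtain ⟨N, hNn, hNM, hsup, hcardW, hout⟩ := wielandt_theorem M (K.map M.subtype) hW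
    refine ⟨K.map M.subtype, N, hW, hNn, hNM, ?_, ?_, ?_⟩
    · rw [eq_bot_iff]
      rintro x ⟨hxN, hxH⟩
      have hxK : x ∈ K.map M.subtype := by rw [← hNM]; exact ⟨hxN, hHM hxH⟩
      obtain ⟨k, hk, rfl⟩ := hxK
      have h1 : k ∈ H.subgroupOf M := Subgroup.mem_subgroupOf.mpr hxH
      have h2 := Subgroup.disjoint_def.mp hKc.disjoint hk h1
      rw [h2]
      exact Subgroup.mem_bot.mpr rfl
    · have h1 := hKc.card_mul_card
      rw [hH'card] at h1
      have h2 : Nat.card (K.map M.subtype) = Nat.card K :=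
        Subgroup.card_map_of_injective M.subtype_injective
      rw [h2, ← h1] at hcardW
      have hpos : 0 < Nat.card K := Nat.card_pos
      have h3 : Nat.card K * (Nat.card N * Nat.card H) = Nat.card K * Nat.card G := by
        calc Nat.card K * (Nat.card N * Nat.card H)
            = Nat.card N * (Nat.card K * Nat.card H) := by ring
          _ = Nat.card G * Nat.card K := hcardW
          _ = Nat.card K * Nat.card G := by ring
      exact Nat.eq_of_mul_eq_mul_left hpos h3
    · intro x hx
      obtain ⟨y, hy, _⟩ := hout x hx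
      exact ⟨y, hy⟩
  refine ⟨⟨?_, ?_⟩, ?_⟩
  · rintro ⟨K, hKn, hKc⟩
    obtain ⟨K₀, N, hW, hNn, hNM, hNH, hcard, hout⟩ := hfwd K hKn hKc
    exact ⟨N, hNn, Subgroup.isComplement'_of_card_mul_and_disjoint hcard (disjoint_iff.mpr hNH)⟩
  · rintro ⟨N, hNn, hNc⟩
    exact ⟨N.subgroupOf M, inferInstance, Lib.H1.isComplement'_subgroupOf hNc hHM⟩
  · rintro hnn ⟨K, hKn, hKc⟩
    obtain ⟨K₀, N, hW, hNn, hNM, hNH, hcard, hout⟩ := hfwd K hKn hKc
    have hHne : H ≠ ⊥ := by
      intro h
      apply hnn
      rw [h]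
      infer_instance
    have hMne : M ≠ ⊤ := by
      intro h
      exact hnn (Subgroup.normalizer_eq_top_iff.mp h)
    obtain ⟨p, hp, R, hRp, hRN, hHR, hRK⟩ :=
      exists_invariant_pgroup H M K₀ N n hHM hTI' hHall hpow hW hNM hNH hcard hout hMne
    exact frobenius_of_invariant_pgroup H M K₀ N R p hHM hW hNM hNH hHne hRp hRN hHR hRK

end Cfsg.Agent.S4115
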