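import Cfsg.Statements.S3378
import Mathlib
import Cfsg.Agent.S3377
import Cfsg.Agent.S0144
import Cfsg.Agent.S0493
import Cfsg.Agent.S0494
import Cfsg.Agent.S0201
import Cfsg.Agent.Lib.H22.QuatSylowSL23
import Cfsg.Agent.Lib.H12.CardSL

set_option autoImplicit false
open Cfsg

namespace Cfsg.Agent.S3378

open Subgroup

/-- the relators of the presentation of `A₅` -/
abbrev R2 : Set (FreeGroup (Fin 2)) :=
  {FreeGroup.of (0 : Fin 2) ^ 3, FreeGroup.of (1 : Fin 2) ^ 5,
    (FreeGroup.of (0 : Fin 2) * FreeGroup.of 1) ^ 2}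

/-- the relators of the presentation of `SL₂(5)` -/
abbrev R3 : Set (FreeGroup (Fin 3)) :=
  {FreeGroup.of (0 : Fin 3) ^ 3, FreeGroup.of (1 : Fin 3) ^ 5, FreeGroup.of (2 : Fin 3) ^ 2,
    (FreeGroup.of (2 : Fin 3))⁻¹ * FreeGroup.of 0 * FreeGroup.of 2 * (FreeGroup.of (0 : Fin 3))⁻¹,
    (FreeGroup.of (2 : Fin 3))⁻¹ * FreeGroup.of 1 * FreeGroup.of 2 * (FreeGroup.of (1 : Fin 3))⁻¹,
    (FreeGroup.of (0 : Fin 3) * FreeGroup.of 1) ^ 2 * (FreeGroup.of (2 : Fin 3))⁻¹}

theorem exists_hom_R2 {Q : Type*} [Group Q] (a b : Q) (ha : a ^ 3 = 1) (hb : b ^ 5 = 1)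
    (hab : (a * b) ^ 2 = 1) :
    ∃ τ : PresentedGroup R2 →* Q, τ (PresentedGroup.of 0) = a ∧ τ (PresentedGroup.of 1) = b := by
  obtain ⟨f, hf0, hf1⟩ : ∃ f : Fin 2 → Q, f 0 = a ∧ f 1 = b := ⟨![a, b], rfl, rfl⟩
  have hf : ∀ r ∈ R2, FreeGroup.lift f r = 1 := by
    intro r hr
    rcases hr with rfl | rfl | rfl
    · simp only [map_pow, FreeGroup.lift_apply_of, hf0]
      exact ha
    · simp only [map_pow, FreeGroup.lift_apply_of, hf1]
      exact hb
    · simp only [map_pow, map_mul, FreeGroup.lift_apply_of, hf0, hf1]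
      exact hab
  refine ⟨PresentedGroup.toGroup hf, ?_, ?_⟩
  · rw [PresentedGroup.toGroup.of, hf0]
  · rw [PresentedGroup.toGroup.of, hf1]

theorem exists_hom_R3 {G : Type*} [Group G] (x y t : G) (hx : x ^ 3 = 1) (hy : y ^ 5 = 1)
    (ht : t ^ 2 = 1) (hxt : t⁻¹ * x * t * x⁻¹ = 1) (hyt : t⁻¹ * y * t * y⁻¹ = 1)
    (hxy : (x * y) ^ 2 * t⁻¹ = 1) :
    ∃ ρ : PresentedGroup R3 →* G, ρ (PresentedGroup.of 0) = x ∧ ρ (PresentedGroup.of 1) = y ∧
      ρ (PresentedGroup.of 2) = t := by
  obtain ⟨f, hf0, hf1, hf2⟩ : ∃ f : Fin 3 → G, f 0 = x ∧ f 1 = y ∧ f 2 = t :=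
    ⟨![x, y, t], rfl, rfl, rfl⟩
  have hf : ∀ r ∈ R3, FreeGroup.lift f r = 1 := by
    intro r hr
    rcases hr with rfl | rfl | rfl | rfl | rfl | rfl
    · simp only [map_pow, FreeGroup.lift_apply_of, hf0]
      exact hx
    · simp only [map_pow, FreeGroup.lift_apply_of, hf1]
      exact hy
    · simp only [map_pow, FreeGroup.lift_apply_of, hf2]
      exact ht
    · simp only [map_mul, map_inv, FreeGroup.lift_apply_of, hf0, hf2]
      exact hxt
    · simp only [map_mul, map_inv, FreeGroup.lift_apply_of, hf1, hf2]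
      exact hyt
    · simp only [map_pow, map_mul, map_inv, FreeGroup.lift_apply_of, hf0, hf1, hf2]
      exact hxy
  refine ⟨PresentedGroup.toGroup hf, ?_, ?_, ?_⟩
  · rw [PresentedGroup.toGroup.of, hf0]
  · rw [PresentedGroup.toGroup.of, hf1]
  · rw [PresentedGroup.toGroup.of, hf2]

/-- the images of the two generators under a surjection generate -/
theorem closure_of_surjective_R2 {Q : Type*} [Group Q] (τ : PresentedGroup R2 →* Q)
    (hτ : Function.Surjective τ) :
    closure ({τ (PresentedGroup.of 0), τ (PresentedGroup.of 1)} : Set Q) = ⊤ := by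
  have h1 := PresentedGroup.closure_range_of R2
  have h2 : Set.range (PresentedGroup.of : Fin 2 → PresentedGroup R2) =
      {PresentedGroup.of 0, PresentedGroup.of 1} := by
    ext g
    constructor
    · rintro ⟨i, rfl⟩
      fin_cases i
      · left; rfl
      · right; rfl
    · rintro (rfl | rfl)
      · exact ⟨0, rfl⟩
      · exact ⟨1, rfl⟩
  rw [h2] at h1
  have h3 := congrArg (Subgroup.map τ) h1
  rw [MonoidHom.map_closure, Set.image_pair, ← MonoidHom.range_eq_map,
    MonoidHom.range_eq_top.mpr hτ] at h3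
  exact h3

theorem card_R2 : Nat.card (PresentedGroup R2) = 60 := by
  obtain ⟨e⟩ := Cfsg.Agent.S3377.result
  rw [Nat.card_congr e.toEquiv, Nat.card_eq_fintype_card]
  have h := two_mul_card_alternatingGroup (α := Fin 5)
  rw [Fintype.card_perm, Fintype.card_fin] at h
  have : Nat.factorial 5 = 120 := by decide
  omega

theorem simple_R2 : IsSimpleGroup (PresentedGroup R2) := by
  obtain ⟨e⟩ := Cfsg.Agent.S3377.result
  have h5 : IsSimpleGroup (alternatingGroup (Fin 5)) := alternatingGroup.isSimpleGroup_five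
  have : Nontrivial (PresentedGroup R2) := e.toEquiv.nontrivial
  exact IsSimpleGroup.isSimpleGroup_of_surjective e.symm.toMonoidHom e.symm.surjective

/-- generation modulo a central cyclic subgroup contained in the subgroup generated -/
theorem closure_eq_top_of_quotient {G : Type*} [Group G] (Z : Subgroup G) [Z.Normal] (x y : G)
    (hZ : Z ≤ closure ({x, y} : Set G))
    (hq : closure ({(QuotientGroup.mk' Z) x, (QuotientGroup.mk' Z) y} : Set (G ⧸ Z)) = ⊤) :
    closure ({x, y} : Set G) = ⊤ := by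
  rw [eq_top_iff]
  intro g _
  have h1 : (QuotientGroup.mk' Z) g ∈ Subgroup.map (QuotientGroup.mk' Z) (closure ({x, y} : Set G)) := by
    rw [MonoidHom.map_closure, Set.image_pair, hq]
    exact mem_top _
  obtain ⟨h, hh, hhg⟩ := h1
  have h2 : h⁻¹ * g ∈ Z := by
    apply QuotientGroup.eq.mp
    exact hhg
  have : g = h * (h⁻¹ * g) := by group
  rw [this]
  exact mul_mem hh (hZ h2)

/-- the presented group has at most 120 elements -/
theorem finite_card_R3 : Finite (PresentedGroup R3) ∧ Nat.card (PresentedGroup R3) ≤ 120 := by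
  set x : PresentedGroup R3 := PresentedGroup.of 0 with hx
  set y : PresentedGroup R3 := PresentedGroup.of 1 with hy
  set z : PresentedGroup R3 := PresentedGroup.of 2 with hz
  have r1 : x ^ 3 = 1 := by
    have := PresentedGroup.one_of_mem (rels := R3) (x := FreeGroup.of (0 : Fin 3) ^ 3)
      (by simp [R3])
    simp only [map_pow, map_mul, map_inv] at this
    exact this
  have r2 : y ^ 5 = 1 := by
    have := PresentedGroup.one_of_mem (rels := R3) (x := FreeGroup.of (1 : Fin 3) ^ 5)
      (by simp [R3])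
    simp only [map_pow, map_mul, map_inv] at this
    exact this
  have r3 : z ^ 2 = 1 := by
    have := PresentedGroup.one_of_mem (rels := R3) (x := FreeGroup.of (2 : Fin 3) ^ 2)
      (by simp [R3])
    simp only [map_pow, map_mul, map_inv] at this
    exact this
  have r4 : z⁻¹ * x * z * x⁻¹ = 1 := by
    have := PresentedGroup.one_of_mem (rels := R3)
      (x := (FreeGroup.of (2 : Fin 3))⁻¹ * FreeGroup.of 0 * FreeGroup.of 2 *
        (FreeGroup.of (0 : Fin 3))⁻¹) (by simp [R3])
    simp only [map_pow, map_mul, map_inv] at this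
    exact this
  have r5 : z⁻¹ * y * z * y⁻¹ = 1 := by
    have := PresentedGroup.one_of_mem (rels := R3)
      (x := (FreeGroup.of (2 : Fin 3))⁻¹ * FreeGroup.of 1 * FreeGroup.of 2 *
        (FreeGroup.of (1 : Fin 3))⁻¹) (by simp [R3])
    simp only [map_pow, map_mul, map_inv] at this
    exact this
  have r6 : (x * y) ^ 2 * z⁻¹ = 1 := by
    have := PresentedGroup.one_of_mem (rels := R3)
      (x := (FreeGroup.of (0 : Fin 3) * FreeGroup.of 1) ^ 2 * (FreeGroup.of (2 : Fin 3))⁻¹)
      (by simp [R3])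
    simp only [map_pow, map_mul, map_inv] at this
    exact this
  -- `z` is central
  have hzc : ∀ g : PresentedGroup R3, g * z = z * g := by
    have h1 := PresentedGroup.closure_range_of R3
    have h2 : closure (Set.range (PresentedGroup.of : Fin 3 → PresentedGroup R3)) ≤
        centralizer ({z} : Set (PresentedGroup R3)) := by
      rw [closure_le]
      rintro _ ⟨i, rfl⟩
      rw [SetLike.mem_coe, mem_centralizer_singleton_iff]
      fin_cases i
      · show x * z = z * x
        have : x * z = z * (z⁻¹ * x * z * x⁻¹) * x := by group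
        rw [this, r4, mul_one]
      · show y * z = z * y
        have : y * z = z * (z⁻¹ * y * z * y⁻¹) * y := by group
        rw [this, r5, mul_one]
      · rfl
    rw [h1] at h2
    intro g
    exact mem_centralizer_singleton_iff.mp (h2 (mem_top g))
  set Z : Subgroup (PresentedGroup R3) := zpowers z with hZ
  have hZn : Z.Normal := by
    constructor
    intro n hn g
    have hn' : n ∈ centralizer ({g} : Set (PresentedGroup R3)) := by
      have h3 : Z ≤ centralizer ({g} : Set (PresentedGroup R3)) := by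
        rw [hZ, zpowers_le, mem_centralizer_singleton_iff]
        exact (hzc g).symm
      exact h3 hn
    rw [mem_centralizer_singleton_iff] at hn'
    have : g * n * g⁻¹ = n := by rw [← hn']; group
    rw [this]
    exact hn
  have hZcard : Nat.card Z ≤ 2 := by
    rw [hZ, Nat.card_zpowers]
    exact orderOf_le_of_pow_eq_one (by norm_num) r3
  have hZfin : Finite Z := by
    rw [hZ]
    exact (Nat.finite_of_card_ne_zero (by
      rw [Nat.card_zpowers]
      exact (orderOf_pos_iff.mpr (isOfFinOrder_iff_pow_eq_one.mpr ⟨2, by norm_num, r3⟩)).ne'))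
  -- the quotient is an image of the presented `A₅`
  have hz1 : (QuotientGroup.mk' Z) z = 1 := by
    rw [QuotientGroup.mk'_apply, QuotientGroup.eq_one_iff]
    exact mem_zpowers z
  obtain ⟨τ, hτ0, hτ1⟩ := exists_hom_R2 ((QuotientGroup.mk' Z) x) ((QuotientGroup.mk' Z) y)
    (by rw [← map_pow, r1, map_one]) (by rw [← map_pow, r2, map_one])
    (by
      rw [← map_mul, ← map_pow]
      have : (x * y) ^ 2 = z := by
        have h := r6
        rw [mul_inv_eq_one] at h
        exact h
      rw [this, hz1])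
  have hτs : Function.Surjective τ := by
    rw [← MonoidHom.range_eq_top, eq_top_iff]
    have h1 := PresentedGroup.closure_range_of R3
    have h2 := congrArg (Subgroup.map (QuotientGroup.mk' Z)) h1
    rw [MonoidHom.map_closure, ← MonoidHom.range_eq_map,
      MonoidHom.range_eq_top.mpr (QuotientGroup.mk'_surjective Z)] at h2
    rw [← h2, closure_le]
    rintro _ ⟨_, ⟨i, rfl⟩, rfl⟩
    fin_cases i
    · exact ⟨PresentedGroup.of 0, hτ0⟩
    · exact ⟨PresentedGroup.of 1, hτ1⟩
    · refine ⟨1, ?_⟩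
      rw [map_one]
      exact hz1.symm
  have hΔfin : Finite (PresentedGroup R2) :=
    Nat.finite_of_card_ne_zero (by rw [card_R2]; norm_num)
  have hqfin : Finite (PresentedGroup R3 ⧸ Z) := Finite.of_surjective τ hτs
  have hqcard : Nat.card (PresentedGroup R3 ⧸ Z) ≤ 60 := by
    have := Nat.card_le_card_of_surjective τ hτs
    rwa [card_R2] at this
  have hfin : Finite (PresentedGroup R3) :=
    Finite.of_equiv _ (Subgroup.groupEquivQuotientProdSubgroup (s := Z)).symm
  refine ⟨hfin, ?_⟩
  rw [Subgroup.card_eq_card_quotient_mul_card_subgroup Z]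
  calc Nat.card (PresentedGroup R3 ⧸ Z) * Nat.card Z ≤ 60 * 2 := Nat.mul_le_mul hqcard hZcard
    _ = 120 := by norm_num


universe u

/-- every group of order less than 60 is solvable -/
theorem solvable_of_card_lt_60 : ∀ (n : ℕ) (K : Type u) [Group K] [Finite K], Nat.card K = n →
    n < 60 → Group.IsSolvable K := by
  intro n
  induction n using Nat.strong_induction_on with
  | _ n ih =>
    intro K _ _ hn hlt
    by_cases hs : IsSimpleGroup K
    · by_cases hc : IsCyclic K
      · obtain ⟨g, hg⟩ := hc.exists_generator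
        apply Group.isSolvable_of_comm
        intro a b
        obtain ⟨i, rfl⟩ := mem_zpowers_iff.mp (hg a)
        obtain ⟨j, rfl⟩ := mem_zpowers_iff.mp (hg b)
        rw [← zpow_add, ← zpow_add, add_comm]
      · exfalso
        have := Cfsg.Agent.S0493.result hc (by omega)
        omega
    · by_cases hsub : Subsingleton K
      · apply Group.isSolvable_of_comm
        intro a b
        rw [Subsingleton.elim a 1, Subsingleton.elim b 1]
      · rw [not_subsingleton_iff_nontrivial] at hsub
        have hex : ∃ N : Subgroup K, N.Normal ∧ N ≠ ⊥ ∧ N ≠ ⊤ := by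
          by_contra hcon
          push Not at hcon
          apply hs
          exact { toNontrivial := hsub
                  eq_bot_or_eq_top_of_normal := fun N hN => by
                    by_cases h : N = ⊥
                    · exact Or.inl h
                    · exact Or.inr (hcon N hN h) }
        obtain ⟨N, hNn, hNb, hNt⟩ := hex
        have hmul := Subgroup.card_eq_card_quotient_mul_card_subgroup N
        have h1 : 1 < Nat.card N := (Subgroup.one_lt_card_iff_ne_bot N).mpr hNb
        have h2 : Nat.card N < Nat.card K :=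
          lt_of_le_of_ne (Subgroup.card_le_card_group N) (fun h => hNt (Subgroup.eq_top_of_card_eq N h))
        have hq0 : 0 < Nat.card (K ⧸ N) := Nat.card_pos
        have h3 : Nat.card (K ⧸ N) < Nat.card K := by nlinarith
        have hsN : Group.IsSolvable N := ih _ (hn ▸ h2) N rfl (by omega)
        have hsQ : Group.IsSolvable (K ⧸ N) := ih _ (hn ▸ h3) (K ⧸ N) rfl (by omega)
        exact Group.isSolvable_of_ker_le_range N.subtype (QuotientGroup.mk' N) (by simp)

/-- a non-solvable group of order 60 is simple -/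
theorem simple_of_card_60 (K : Type u) [Group K] [Finite K] (hK : Nat.card K = 60)
    (hns : ¬ Group.IsSolvable K) : IsSimpleGroup K := by
  have hnt : Nontrivial K := by
    rw [← Finite.one_lt_card_iff_nontrivial, hK]; norm_num
  refine { toNontrivial := hnt, eq_bot_or_eq_top_of_normal := fun N hN => ?_ }
  by_contra hcon
  push Not at hcon
  obtain ⟨hNb, hNt⟩ := hcon
  apply hns
  have hmul := Subgroup.card_eq_card_quotient_mul_card_subgroup N
  have h1 : 1 < Nat.card N := (Subgroup.one_lt_card_iff_ne_bot N).mpr hNb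
  have h2 : Nat.card N < Nat.card K :=
    lt_of_le_of_ne (Subgroup.card_le_card_group N) (fun h => hNt (Subgroup.eq_top_of_card_eq N h))
  have hq0 : 0 < Nat.card (K ⧸ N) := Nat.card_pos
  have h3 : Nat.card (K ⧸ N) < Nat.card K := by nlinarith
  have hsN : Group.IsSolvable N := solvable_of_card_lt_60 _ N rfl (by omega)
  have hsQ : Group.IsSolvable (K ⧸ N) := solvable_of_card_lt_60 _ (K ⧸ N) rfl (by omega)
  exact Group.isSolvable_of_ker_le_range N.subtype (QuotientGroup.mk' N) (by simp)


/-- the relations of the presented `A₅` -/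
theorem rels_R2 : (PresentedGroup.of 0 : PresentedGroup R2) ^ 3 = 1 ∧
    (PresentedGroup.of 1 : PresentedGroup R2) ^ 5 = 1 ∧
    ((PresentedGroup.of 0 : PresentedGroup R2) * PresentedGroup.of 1) ^ 2 = 1 := by
  refine ⟨?_, ?_, ?_⟩
  · have := PresentedGroup.one_of_mem (rels := R2) (x := FreeGroup.of (0 : Fin 2) ^ 3)
      (by simp [R2])
    simp only [map_pow] at this
    exact this
  · have := PresentedGroup.one_of_mem (rels := R2) (x := FreeGroup.of (1 : Fin 2) ^ 5)
      (by simp [R2])
    simp only [map_pow] at this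
    exact this
  · have := PresentedGroup.one_of_mem (rels := R2)
      (x := (FreeGroup.of (0 : Fin 2) * FreeGroup.of 1) ^ 2) (by simp [R2])
    simp only [map_pow, map_mul] at this
    exact this

/-- a group of order 120 generated by `x`, `y` with the relations is the presented group -/
theorem iso_of_gens {G : Type*} [Group G] [Finite G] (hcard : Nat.card G = 120) (x y t : G)
    (hx : x ^ 3 = 1) (hy : y ^ 5 = 1) (ht : t ^ 2 = 1) (htc : ∀ g : G, g * t = t * g)
    (hxy : (x * y) ^ 2 = t) (hgen : closure ({x, y} : Set G) = ⊤) :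
    Nonempty (PresentedGroup R3 ≃* G) := by
  obtain ⟨ρ, h0, h1, h2⟩ := exists_hom_R3 x y t hx hy ht
    (by
      have := htc x
      calc t⁻¹ * x * t * x⁻¹ = t⁻¹ * (x * t) * x⁻¹ := by group
        _ = t⁻¹ * (t * x) * x⁻¹ := by rw [this]
        _ = 1 := by group)
    (by
      have := htc y
      calc t⁻¹ * y * t * y⁻¹ = t⁻¹ * (y * t) * y⁻¹ := by group
        _ = t⁻¹ * (t * y) * y⁻¹ := by rw [this]
        _ = 1 := by group)
    (by rw [hxy]; group)
  have hsurj : Function.Surjective ρ := by
    rw [← MonoidHom.range_eq_top, eq_top_iff, ← hgen, closure_le]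
    rintro _ (rfl | rfl)
    · exact ⟨_, h0⟩
    · exact ⟨_, h1⟩
  obtain ⟨hfin, hle⟩ := finite_card_R3
  have hge := Nat.card_le_card_of_surjective ρ hsurj
  have hbij : Function.Bijective ρ :=
    (Nat.bijective_iff_surjective_and_card ρ).mpr ⟨hsurj, by omega⟩
  exact ⟨MulEquiv.ofBijective ρ hbij⟩

/-- the structure of a non-solvable group of order 120 with quaternion Sylow 2-subgroups -/
theorem core (G : Type u) [Group G] [Finite G] (hcard : Nat.card G = 120)
    (hns : ¬ Group.IsSolvable G)
    (hQ : ∀ P : Sylow 2 G, Nonempty ((P : Subgroup G) ≃* QuaternionGroup 2)) :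
    ∃ x y t : G, x ^ 3 = 1 ∧ y ^ 5 = 1 ∧ t ^ 2 = 1 ∧ (∀ g : G, g * t = t * g) ∧
      (x * y) ^ 2 = t ∧ closure ({x, y} : Set G) = ⊤ := by
  have hp2 : Fact (Nat.Prime 2) := ⟨Nat.prime_two⟩
  -- the odd core is trivial
  have hO : ∀ N : Subgroup G, N.Normal → Odd (Nat.card N) → N = ⊥ := by
    intro N hN hodd
    by_contra hNb
    apply hns
    have hmul := Subgroup.card_eq_card_quotient_mul_card_subgroup N
    rw [hcard] at hmul
    have hd : Nat.card N ∣ 15 := by
      have h1 : Nat.card N ∣ 8 * 15 := ⟨Nat.card (G ⧸ N), by rw [Nat.mul_comm (Nat.card N)]; omega⟩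
      have hc : Nat.Coprime (Nat.card N) 8 := by
        have h2 : Nat.Coprime (Nat.card N) 2 := hodd.coprime_two_right
        have : (8 : ℕ) = 2 ^ 3 := by norm_num
        rw [this]
        exact Nat.Coprime.pow_right 3 h2
      exact hc.dvd_of_dvd_mul_left h1
    have h1 : 1 < Nat.card N := (Subgroup.one_lt_card_iff_ne_bot N).mpr hNb
    have hcases : Nat.card N = 3 ∨ Nat.card N = 5 ∨ Nat.card N = 15 := by
      have hle : Nat.card N ≤ 15 := Nat.le_of_dvd (by norm_num) hd
      generalize Nat.card N = d at hd h1 hle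
      interval_cases d <;> omega
    have hsN : Group.IsSolvable N := by
      rcases hcases with h | h | h
      · exact Cfsg.Agent.S0144.result 3 5 1 0 Nat.prime_three Nat.prime_five (by rw [h]; norm_num)
      · exact Cfsg.Agent.S0144.result 3 5 0 1 Nat.prime_three Nat.prime_five (by rw [h]; norm_num)
      · exact Cfsg.Agent.S0144.result 3 5 1 1 Nat.prime_three Nat.prime_five (by rw [h]; norm_num)
    have hsQ : Group.IsSolvable (G ⧸ N) := by
      rcases hcases with h | h | h
      · have h40 : Nat.card (G ⧸ N) = 40 := by rw [h] at hmul; omega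
        exact Cfsg.Agent.S0144.result 2 5 3 1 Nat.prime_two Nat.prime_five (by rw [h40]; norm_num)
      · have h24 : Nat.card (G ⧸ N) = 24 := by rw [h] at hmul; omega
        exact Cfsg.Agent.S0144.result 2 3 3 1 Nat.prime_two Nat.prime_three (by rw [h24]; norm_num)
      · have h8 : Nat.card (G ⧸ N) = 8 := by rw [h] at hmul; omega
        exact Cfsg.Agent.S0144.result 2 3 3 0 Nat.prime_two Nat.prime_three (by rw [h8]; norm_num)
    exact Group.isSolvable_of_ker_le_range N.subtype (QuotientGroup.mk' N) (by simp)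
  obtain ⟨P⟩ : Nonempty (Sylow 2 G) := inferInstance
  obtain ⟨e⟩ := hQ P
  have hZ : Nat.card (center G) = 2 := Cfsg.Agent.S0201.result P 0 e hO
  have hQcard : Nat.card (G ⧸ center G) = 60 := by
    have := Subgroup.card_eq_card_quotient_mul_card_subgroup (center G)
    rw [hcard, hZ] at this
    omega
  have hQns : ¬ Group.IsSolvable (G ⧸ center G) := by
    intro hs
    apply hns
    have : Group.IsSolvable (center G) := Group.isSolvable_of_comm
      (fun a b => Subtype.ext (Subgroup.mem_center_iff.mp b.2 a))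
    exact Group.isSolvable_of_ker_le_range (center G).subtype (QuotientGroup.mk' (center G))
      (by simp)
  have hQs : IsSimpleGroup (G ⧸ center G) := simple_of_card_60 _ hQcard hQns
  obtain ⟨ε⟩ := Cfsg.Agent.S0494.result (G := G ⧸ center G) hQcard
  obtain ⟨e5⟩ := Cfsg.Agent.S3377.result
  obtain ⟨δ, hδ⟩ : ∃ δ : PresentedGroup R2 ≃* G ⧸ center G, δ = e5.trans ε.symm := ⟨_, rfl⟩
  obtain ⟨r1, r2, r3⟩ := rels_R2
  obtain ⟨a, ha⟩ : ∃ a : G ⧸ center G, a = δ (PresentedGroup.of 0) := ⟨_, rfl⟩
  obtain ⟨b, hb⟩ : ∃ b : G ⧸ center G, b = δ (PresentedGroup.of 1) := ⟨_, rfl⟩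
  have ha3 : a ^ 3 = 1 := by rw [ha, ← map_pow, r1, map_one]
  have hb5 : b ^ 5 = 1 := by rw [hb, ← map_pow, r2, map_one]
  have hab2 : (a * b) ^ 2 = 1 := by rw [ha, hb, ← map_mul, ← map_pow, r3, map_one]
  have hgen : closure ({a, b} : Set (G ⧸ center G)) = ⊤ := by
    rw [ha, hb]
    exact closure_of_surjective_R2 δ.toMonoidHom δ.surjective
  have hab1 : a * b ≠ 1 := by
    intro h
    have hb' : b = a⁻¹ := eq_inv_of_mul_eq_one_right h
    have hle : closure ({a, b} : Set (G ⧸ center G)) ≤ zpowers a := by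
      rw [closure_le]
      rintro _ (rfl | rfl)
      · exact mem_zpowers _
      · rw [hb']; exact inv_mem (mem_zpowers _)
    rw [hgen] at hle
    have h1 : Nat.card (G ⧸ center G) ≤ Nat.card (zpowers a) := by
      rw [← Subgroup.card_top (G := G ⧸ center G)]
      exact Subgroup.card_le_of_le hle
    rw [hQcard, Nat.card_zpowers] at h1
    have h2 : orderOf a ≤ 3 := orderOf_le_of_pow_eq_one (by norm_num) ha3
    omega
  obtain ⟨x₀, hx₀⟩ := QuotientGroup.mk'_surjective (center G) a
  obtain ⟨y₀, hy₀⟩ := QuotientGroup.mk'_surjective (center G) b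
  have hsq : ∀ w ∈ center G, w ^ 2 = 1 := by
    intro w hw
    have h1 := pow_card_eq_one' (G := center G) (x := ⟨w, hw⟩)
    rw [hZ] at h1
    exact congrArg Subtype.val h1
  have hmem : ∀ g : G, (QuotientGroup.mk' (center G)) g = 1 → g ∈ center G := by
    intro g hg
    exact (QuotientGroup.eq_one_iff g).mp hg
  obtain ⟨x, hxdef⟩ : ∃ x : G, x = x₀ ^ 4 := ⟨_, rfl⟩
  obtain ⟨y, hydef⟩ : ∃ y : G, y = y₀ ^ 6 := ⟨_, rfl⟩
  have hxm : (QuotientGroup.mk' (center G)) x = a := by
    rw [hxdef, map_pow, hx₀]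
    calc a ^ 4 = a ^ 3 * a := by rw [pow_succ]
      _ = a := by rw [ha3, one_mul]
  have hym : (QuotientGroup.mk' (center G)) y = b := by
    rw [hydef, map_pow, hy₀]
    calc b ^ 6 = b ^ 5 * b := by rw [pow_succ]
      _ = b := by rw [hb5, one_mul]
  have hx3 : x ^ 3 = 1 := by
    have h1 : x₀ ^ 3 ∈ center G := hmem _ (by rw [map_pow, hx₀, ha3])
    have h2 := hsq _ h1
    calc x ^ 3 = ((x₀ ^ 3) ^ 2) ^ 2 := by rw [hxdef, ← pow_mul, ← pow_mul, ← pow_mul]
      _ = 1 := by rw [h2, one_pow]
  have hy5 : y ^ 5 = 1 := by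
    have h1 : y₀ ^ 5 ∈ center G := hmem _ (by rw [map_pow, hy₀, hb5])
    have h2 := hsq _ h1
    calc y ^ 5 = ((y₀ ^ 5) ^ 2) ^ 3 := by rw [hydef, ← pow_mul, ← pow_mul, ← pow_mul]
      _ = 1 := by rw [h2, one_pow]
  obtain ⟨t, htdef⟩ : ∃ t : G, t = (x * y) ^ 2 := ⟨_, rfl⟩
  have htZ : t ∈ center G := hmem _ (by rw [htdef, map_pow, map_mul, hxm, hym, hab2])
  have htc : ∀ g : G, g * t = t * g := fun g => Subgroup.mem_center_iff.mp htZ g
  have ht2 : t ^ 2 = 1 := hsq t htZ
  have ht1 : t ≠ 1 := by
    intro h1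
    -- `x * y` is an involution outside the centre
    have hh2 : (x * y) ^ 2 = 1 := by rw [← htdef, h1]
    have hhZ : x * y ∉ center G := by
      intro hmemZ
      apply hab1
      rw [← hxm, ← hym, ← map_mul]
      exact (QuotientGroup.eq_one_iff _).mpr hmemZ
    have hh1 : x * y ≠ 1 := fun h => hhZ (h ▸ one_mem _)
    -- the central involution
    obtain ⟨c, hcZ, hc1⟩ : ∃ c ∈ center G, c ≠ 1 := by
      have hne : center G ≠ ⊥ := by
        intro hbot
        rw [hbot, Subgroup.card_bot] at hZ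
        omega
      exact (Subgroup.ne_bot_iff_exists_ne_one).mp hne |>.elim fun c hc => ⟨c, c.2, fun h => hc (Subtype.ext h)⟩
    have hc2 : c ^ 2 = 1 := hsq c hcZ
    -- a Sylow 2-subgroup containing both
    have hpz : IsPGroup 2 (zpowers (x * y)) := by
      apply IsPGroup.of_card (n := 1)
      rw [Nat.card_zpowers, pow_one]
      exact orderOf_eq_prime hh2 hh1
    obtain ⟨P', hP'⟩ := hpz.exists_le_sylow
    have hZp : IsPGroup 2 (center G) := IsPGroup.of_card (n := 1) (by rw [hZ, pow_one])
    have hZP' : center G ≤ P' := hZp.le_sylow_of_normal P'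
    obtain ⟨e'⟩ := hQ P'
    have hhP' : x * y ∈ (P' : Subgroup G) := hP' (mem_zpowers _)
    have hcP' : c ∈ (P' : Subgroup G) := hZP' hcZ
    have heq := Cfsg.Agent.Lib.H22.quaternion_unique_involution 2 (e' ⟨x * y, hhP'⟩) (e' ⟨c, hcP'⟩)
      (by rw [← map_pow]; rw [show (⟨x * y, hhP'⟩ : (P' : Subgroup G)) ^ 2 = 1 from Subtype.ext hh2,
        map_one])
      (by
        intro h
        apply hh1
        have := e'.injective (h.trans (map_one e').symm)
        exact congrArg Subtype.val this)
      (by rw [← map_pow]; rw [show (⟨c, hcP'⟩ : (P' : Subgroup G)) ^ 2 = 1 from Subtype.ext hc2,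
        map_one])
      (by
        intro h
        apply hc1
        have := e'.injective (h.trans (map_one e').symm)
        exact congrArg Subtype.val this)
    have : x * y = c := congrArg Subtype.val (e'.injective heq)
    exact hhZ (this ▸ hcZ)
  refine ⟨x, y, t, hx3, hy5, ht2, htc, htdef.symm, ?_⟩
  apply closure_eq_top_of_quotient (center G) x y ?_ (by rw [hxm, hym]; exact hgen)
  have hzt : zpowers t = center G := by
    apply Subgroup.eq_of_le_of_card_ge (zpowers_le.mpr htZ)
    rw [hZ, Nat.card_zpowers, orderOf_eq_prime ht2 ht1]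
  rw [← hzt, zpowers_le, htdef]
  exact pow_mem (mul_mem (subset_closure (by simp)) (subset_closure (by simp))) 2

/-- `SL₂(5)` -/
abbrev SL25 := Matrix.SpecialLinearGroup (Fin 2) (ZMod 5)

/-- an element of order three -/
def mx : SL25 := ⟨!![0, -1; 1, -1], by decide⟩

/-- an element of order five -/
def my : SL25 := ⟨!![1, 1; 0, 1], by decide⟩

theorem card_SL25 : Nat.card SL25 = 120 := by
  haveI : Fact (Nat.Prime 5) := ⟨by norm_num⟩
  have h := Cfsg.Agent.Lib.H12.card_SL2 (F := ZMod 5)
  rw [ZMod.card] at h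
  exact h

theorem sl25_gens : ∃ x y t : SL25, x ^ 3 = 1 ∧ y ^ 5 = 1 ∧ t ^ 2 = 1 ∧ (∀ g : SL25, g * t = t * g) ∧
    (x * y) ^ 2 = t ∧ Subgroup.closure ({x, y} : Set SL25) = ⊤ := by
  refine ⟨mx, my, -1, by decide, by decide, by decide, fun g => by simp, by decide, ?_⟩
  have hm2 : (-1 : SL25) ^ 2 = 1 := by decide
  have hm1 : (-1 : SL25) ≠ 1 := by decide
  obtain ⟨Z, hZ⟩ : ∃ Z : Subgroup SL25, Z = zpowers (-1) := ⟨_, rfl⟩
  have hZmem : ∀ w ∈ Z, w = 1 ∨ w = -1 := by
    intro w hw
    rw [hZ] at hw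
    obtain ⟨k, rfl⟩ := mem_zpowers_iff.mp hw
    have h1 : (-1 : SL25) ^ k = (-1 : SL25) ^ (k % 2) := by
      conv_lhs => rw [← Int.mul_ediv_add_emod k 2]
      rw [zpow_add, zpow_mul]
      have : (-1 : SL25) ^ (2 : ℤ) = 1 := by
        have := hm2
        exact_mod_cast this
      rw [this, one_zpow, one_mul]
    rw [h1]
    rcases Int.emod_two_eq_zero_or_one k with h | h
    · left; rw [h, zpow_zero]
    · right; rw [h, zpow_one]
  have hZn : Z.Normal := by
    constructor
    intro n hn g
    rcases hZmem n hn with rfl | rfl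
    · simp
    · have : g * (-1 : SL25) * g⁻¹ = -1 := by simp
      rw [this]; exact hn
  have hZcard : Nat.card Z = 2 := by
    rw [hZ, Nat.card_zpowers]
    have : Fact (Nat.Prime 2) := ⟨Nat.prime_two⟩
    exact orderOf_eq_prime hm2 hm1
  have hqcard : Nat.card (SL25 ⧸ Z) = 60 := by
    have := Subgroup.card_eq_card_quotient_mul_card_subgroup Z
    rw [card_SL25, hZcard] at this
    omega
  apply closure_eq_top_of_quotient Z mx my
  · rw [hZ, zpowers_le]
    have : (-1 : SL25) = (mx * my) ^ 2 := by decide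
    rw [this]
    exact pow_mem (mul_mem (subset_closure (by simp)) (subset_closure (by simp))) 2
  · have hmZ : (QuotientGroup.mk' Z) (-1 : SL25) = 1 := by
      rw [QuotientGroup.mk'_apply, QuotientGroup.eq_one_iff, hZ]
      exact mem_zpowers _
    obtain ⟨τ, h0, h1⟩ := exists_hom_R2 ((QuotientGroup.mk' Z) mx) ((QuotientGroup.mk' Z) my)
      (by rw [← map_pow, show mx ^ 3 = 1 by decide, map_one])
      (by rw [← map_pow, show my ^ 5 = 1 by decide, map_one])
      (by rw [← map_mul, ← map_pow, show (mx * my) ^ 2 = -1 by decide, hmZ])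
    have hs := simple_R2
    have hker : τ.ker = ⊥ := by
      rcases (MonoidHom.normal_ker τ).eq_bot_or_eq_top with h | h
      · exact h
      · exfalso
        have h2 : τ (PresentedGroup.of 0) = 1 := by
          apply MonoidHom.mem_ker.mp
          rw [h]; exact mem_top _
        rw [h0, QuotientGroup.mk'_apply, QuotientGroup.eq_one_iff] at h2
        rcases hZmem mx h2 with h3 | h3
        · revert h3; decide
        · revert h3; decide
    have hinj : Function.Injective τ := (MonoidHom.ker_eq_bot_iff τ).mp hker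
    have hΔfin : Finite (PresentedGroup R2) :=
      Nat.finite_of_card_ne_zero (by rw [card_R2]; norm_num)
    have hbij : Function.Bijective τ :=
      (Nat.bijective_iff_injective_and_card τ).mpr ⟨hinj, by rw [card_R2, hqcard]⟩
    have := closure_of_surjective_R2 τ hbij.2
    rw [h0, h1] at this
    exact this


/-- Every non-solvable group of order 120 whose Sylow 2-subgroups are quaternion of order 8 is isomorphic to SL(2,5), and SL(2,5) has the presentation ⟨x, y, z | x³ = y⁵ = z² = 1, z⁻¹xz = x, z⁻¹yz = y, (xy)² = z⟩. -/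
theorem result :
    (∀ (G : Type*) [Group G] [Finite G], Nat.card G = 120 → ¬ Group.IsSolvable G →
      (∀ P : Sylow 2 G, Nonempty ((P : Subgroup G) ≃* QuaternionGroup 2)) →
      Nonempty (G ≃* Matrix.SpecialLinearGroup (Fin 2) (ZMod 5))) ∧
    Nonempty (PresentedGroup ({FreeGroup.of (0 : Fin 3) ^ 3, FreeGroup.of (1 : Fin 3) ^ 5, FreeGroup.of (2 : Fin 3) ^ 2,
        (FreeGroup.of (2 : Fin 3))⁻¹ * FreeGroup.of 0 * FreeGroup.of 2 * (FreeGroup.of (0 : Fin 3))⁻¹,
        (FreeGroup.of (2 : Fin 3))⁻¹ * FreeGroup.of 1 * FreeGroup.of 2 * (FreeGroup.of (1 : Fin 3))⁻¹,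
        (FreeGroup.of (0 : Fin 3) * FreeGroup.of 1) ^ 2 * (FreeGroup.of (2 : Fin 3))⁻¹} : Set (FreeGroup (Fin 3)))
      ≃* Matrix.SpecialLinearGroup (Fin 2) (ZMod 5)) := by
  have h2 : Nonempty (PresentedGroup R3 ≃* SL25) := by
    obtain ⟨x, y, t, hx, hy, ht, htc, hxy, hgen⟩ := sl25_gens
    exact iso_of_gens card_SL25 x y t hx hy ht htc hxy hgen
  refine ⟨?_, h2⟩
  intro G _ _ hcard hns hQ
  obtain ⟨x, y, t, hx, hy, ht, htc, hxy, hgen⟩ := core G hcard hns hQ
  obtain ⟨e1⟩ := iso_of_gens hcard x y t hx hy ht htc hxy hgen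
  obtain ⟨e2⟩ := h2
  exact ⟨e1.symm.trans e2⟩

end Cfsg.Agent.S3378
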