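import Cfsg.Statements.S1184
import Cfsg.Agent.Lib.H6.Dihedral

set_option autoImplicit false
open Cfsg

namespace Cfsg.Agent.S1184

/-- Let z be an isolated involution of the finite group G. If s and t are distinct conjugates of z, then st does not commute with z. -/
theorem result {G : Type*} [Group G] [Finite G] (z : G) (hz : Cfsg.IsIsolatedInvolution z) (g h : G) (hne : g * z * g⁻¹ ≠ h * z * h⁻¹) : ¬ Commute (g * z * g⁻¹ * (h * z * h⁻¹)) z := by
  intro hc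
  apply hne
  have ha : z * z = 1 := Cfsg.Agent.Lib.H6.isolated_mul_self hz
  have hzinv : z⁻¹ = z := inv_eq_of_mul_eq_one_right ha
  have hs : g * z * g⁻¹ * (g * z * g⁻¹) = 1 := Cfsg.Agent.Lib.H6.conj_mul_self ha g
  have ht : h * z * h⁻¹ * (h * z * h⁻¹) = 1 := Cfsg.Agent.Lib.H6.conj_mul_self ha h
  have hsq : (g * z * g⁻¹ * z) ^ 2 = (h * z * h⁻¹ * z) ^ 2 := by
    have hc' : g * z * g⁻¹ * (h * z * h⁻¹) * z = z * (g * z * g⁻¹ * (h * z * h⁻¹)) := hc.eq
    -- s t z = z s t, so  s z s z = t z t z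
    have e1 : g * z * g⁻¹ * z * (g * z * g⁻¹) * z = (g * z * g⁻¹) * (z * (g * z * g⁻¹ * (h * z * h⁻¹))) * (h * z * h⁻¹) * z := by
      have : (g * z * g⁻¹) * (z * (g * z * g⁻¹ * (h * z * h⁻¹))) * (h * z * h⁻¹) * z
          = g * z * g⁻¹ * z * (g * z * g⁻¹) * ((h * z * h⁻¹) * (h * z * h⁻¹)) * z := by group
      rw [this, ht, mul_one]
    rw [← hc'] at e1
    have e2 : (g * z * g⁻¹) * (g * z * g⁻¹ * (h * z * h⁻¹) * z) * (h * z * h⁻¹) * z
        = ((g * z * g⁻¹) * (g * z * g⁻¹)) * (h * z * h⁻¹) * z * (h * z * h⁻¹) * z := by group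
    rw [e2, hs, one_mul] at e1
    rw [pow_two, pow_two]
    calc g * z * g⁻¹ * z * (g * z * g⁻¹ * z) = g * z * g⁻¹ * z * (g * z * g⁻¹) * z := by group
      _ = h * z * h⁻¹ * z * (h * z * h⁻¹) * z := e1
      _ = h * z * h⁻¹ * z * (h * z * h⁻¹ * z) := by group
  have := Cfsg.Agent.Lib.H6.eq_of_sq_eq_of_odd (Cfsg.Agent.Lib.H6.isolated_odd_orderOf' hz g)
    (Cfsg.Agent.Lib.H6.isolated_odd_orderOf' hz h) hsq
  exact mul_right_cancel this

end Cfsg.Agent.S1184
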