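import Cfsg.Statements.S1185
import Cfsg.Agent.Lib.H6.Dihedral

set_option autoImplicit false
open Cfsg

namespace Cfsg.Agent.S1185

/-- Let z be an isolated involution of the finite group G with centralizer C. Then for every g ∈ G there is exactly one element k in the coset gC that has odd order and is inverted by z. -/
theorem result {G : Type*} [Group G] [Finite G] (z : G) (hz : Cfsg.IsIsolatedInvolution z) (g : G) : ∃! k : G, (Odd (orderOf k) ∧ z * k * z⁻¹ = k⁻¹) ∧ g⁻¹ * k ∈ Subgroup.centralizer ({z} : Set G) := by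
  have ha : z * z = 1 := Cfsg.Agent.Lib.H6.isolated_mul_self hz
  have hzinv : z⁻¹ = z := inv_eq_of_mul_eq_one_right ha
  -- key: if z inverts k then k z k⁻¹ = k^2 z
  have key : ∀ k : G, z * k * z⁻¹ = k⁻¹ → k * z * k⁻¹ = k ^ 2 * z := by
    intro k hk
    have h1 : z * k⁻¹ * z⁻¹ = k := by
      calc z * k⁻¹ * z⁻¹ = (z * k * z⁻¹)⁻¹ := by group
        _ = k := by rw [hk, inv_inv]
    calc k * z * k⁻¹ = k * (z * k⁻¹ * z⁻¹) * z := by group
      _ = k ^ 2 * z := by rw [h1, pow_two]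
  have memC : ∀ k : G, g⁻¹ * k ∈ Subgroup.centralizer ({z} : Set G) ↔ k * z * k⁻¹ = g * z * g⁻¹ := by
    intro k
    rw [Subgroup.mem_centralizer_iff]
    constructor
    · intro h
      have := h z (Set.mem_singleton z)
      calc k * z * k⁻¹ = g * (g⁻¹ * k * z) * k⁻¹ := by group
        _ = g * (z * (g⁻¹ * k)) * k⁻¹ := by rw [this]
        _ = g * z * g⁻¹ := by group
    · intro h y hy
      rw [Set.mem_singleton_iff] at hy
      subst hy
      calc y * (g⁻¹ * k) = g⁻¹ * (g * y * g⁻¹) * k := by group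
        _ = g⁻¹ * (k * y * k⁻¹) * k := by rw [h]
        _ = g⁻¹ * k * y := by group
  obtain ⟨n, h1, h2, h3⟩ := Cfsg.Agent.Lib.H6.isolated_exists_K hz g
  refine ⟨(g * z * g⁻¹ * z) ^ n, ⟨⟨h1, h2⟩, (memC _).mpr h3⟩, ?_⟩
  rintro k ⟨⟨hk1, hk2⟩, hk3⟩
  have e1 := key k hk2
  have e2 := key _ h2
  rw [(memC k).mp hk3] at e1
  rw [h3] at e2
  have : k ^ 2 = ((g * z * g⁻¹ * z) ^ n) ^ 2 := by
    have : k ^ 2 * z = ((g * z * g⁻¹ * z) ^ n) ^ 2 * z := by rw [← e1, ← e2]
    exact mul_right_cancel this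
  exact Cfsg.Agent.Lib.H6.eq_of_sq_eq_of_odd hk1 h1 this

end Cfsg.Agent.S1185
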