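import Cfsg.Statements.S1121
import Cfsg.Agent.Lib.H6.RankOne
import Cfsg.Agent.Lib.H6.Dihedral

set_option autoImplicit false
open Cfsg

namespace Cfsg.Agent.S1121

open MulAction

theorem partA {G Ω : Type*} [Group G] [Finite G] [MulAction G Ω] {a : Ω} {t : G} {Q : Subgroup G}
    (hS : Cfsg.IsRankOneSetup G Ω a t Q) (s u : G) (hs : s ∈ stabilizer G a) (hs1 : s ≠ 1)
    (hss : s * s = 1) (hu : u ∉ stabilizer G a) (huu : u * u = 1) : Odd (orderOf (s * u)) := by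
  have hsQ : s ∈ Q := Cfsg.Agent.Lib.H6.RankOne.involution_Ga_mem_Q hS hs hss
  by_contra hodd
  rw [Nat.not_odd_iff_even] at hodd
  obtain ⟨m, hm⟩ := hodd
  have hpos : 0 < orderOf (s * u) := orderOf_pos _
  have hm0 : 0 < m := by omega
  have h2m : (s * u) ^ (2 * m) = 1 := by
    rw [two_mul, ← hm]; exact pow_orderOf_eq_one _
  obtain ⟨hws, -⟩ := Cfsg.Agent.Lib.H6.even_case hss huu m h2m
  obtain ⟨w, hw⟩ : ∃ w, w = (s * u) ^ m := ⟨_, rfl⟩
  rw [← hw] at hws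
  have hw1 : w ≠ 1 := by
    rw [hw]
    intro h1
    have := orderOf_dvd_of_pow_eq_one h1
    have := Nat.le_of_dvd hm0 this
    omega
  have hww : w * w = 1 := by rw [hw, ← pow_add, ← two_mul, h2m]
  have hwu : Commute w u := by
    have h1 : Commute w (s * u) := by rw [hw]; exact (Commute.refl (s * u)).pow_left m
    have h2 : u = s⁻¹ * (s * u) := by group
    rw [h2]
    exact (hws.inv_right).mul_right h1
  -- w fixes a
  have hwa : w • a = a := by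
    apply Cfsg.Agent.Lib.H6.RankOne.eq_a_of_Q_fix hS hsQ hs1
    rw [← mul_smul, ← hws.eq, mul_smul, Cfsg.Agent.Lib.H6.RankOne.Q_smul_a hS hsQ]
  have hwQ : w ∈ Q := Cfsg.Agent.Lib.H6.RankOne.involution_Ga_mem_Q hS (mem_stabilizer_iff.mpr hwa) hww
  apply hu
  rw [mem_stabilizer_iff]
  apply Cfsg.Agent.Lib.H6.RankOne.eq_a_of_Q_fix hS hwQ hw1
  rw [← mul_smul, hwu.eq, mul_smul, hwa]

theorem conj_to_Q {G Ω : Type*} [Group G] [Finite G] [MulAction G Ω] {a : Ω} {t : G} {Q : Subgroup G}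
    (hS : Cfsg.IsRankOneSetup G Ω a t Q) (u : G) (huu : u * u = 1) :
    ∃ g : G, g * u * g⁻¹ ∈ Q := by
  have : Fact (Nat.Prime 2) := ⟨Nat.prime_two⟩
  have hcard := Cfsg.Agent.Lib.H6.RankOne.card_Omega hS
  have hodd : ¬ 2 ∣ Nat.card Ω := by
    rw [hcard, ← even_iff_two_dvd, Nat.not_even_iff_odd]
    exact hS.even_card.add_one
  have hP : IsPGroup 2 (Subgroup.zpowers u) := by
    by_cases hu1 : u = 1
    · rw [hu1, Subgroup.zpowers_one_eq_bot]; exact IsPGroup.of_bot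
    · apply IsPGroup.of_card (n := 1)
      rw [Nat.card_zpowers, pow_one]
      exact orderOf_eq_prime (by rw [pow_two]; exact huu) hu1
  obtain ⟨c, hc⟩ := hP.nonempty_fixed_point_of_prime_not_dvd_card Ω hodd
  have huc : u • c = c := hc ⟨u, Subgroup.mem_zpowers u⟩
  have := Cfsg.Agent.Lib.H6.RankOne.isPretransitive hS
  obtain ⟨g, hg⟩ := MulAction.exists_smul_eq G c a
  refine ⟨g, ?_⟩
  apply Cfsg.Agent.Lib.H6.RankOne.involution_Ga_mem_Q hS
  · rw [mem_stabilizer_iff, mul_smul, mul_smul, ← hg, inv_smul_smul, huc]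
  · exact Cfsg.Agent.Lib.H6.conj_mul_self huu g


/-- In the rank-one set-up (`G` finite and doubly transitive on `Ω`, `t` an involution moving `a`, `Q` normal in `G_a` with `G_a = Q D`, `Q ⊓ D = 1` for the two-point stabiliser `D = G_a ⊓ G_{t • a}`, `|Q|` even, `|D|` odd): if `s` is an involution of `G_a` and `u` an involution outside `G_a`, then `s u` has odd order; and any two involutions of `G` are conjugate. -/
theorem result {G Ω : Type*} [Group G] [Finite G] [MulAction G Ω] {a : Ω} {t : G} {Q : Subgroup G}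
    (hS : Cfsg.IsRankOneSetup G Ω a t Q) :
    (∀ s u : G, s ∈ MulAction.stabilizer G a → s ≠ 1 → s * s = 1 → u ∉ MulAction.stabilizer G a → u ≠ 1 → u * u = 1 → Odd (orderOf (s * u))) ∧
      ∀ u v : G, u ≠ 1 → u * u = 1 → v ≠ 1 → v * v = 1 → ∃ g : G, g * u * g⁻¹ = v := by
  refine ⟨fun s u hs hs1 hss hu _ huu => partA hS s u hs hs1 hss hu huu, ?_⟩
  intro u v hu1 huu hv1 hvv
  obtain ⟨g₁, hg₁⟩ := conj_to_Q hS u huu
  obtain ⟨g₂, hg₂⟩ := conj_to_Q hS v hvv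
  have hs1 : g₁ * u * g₁⁻¹ ≠ 1 := by
    intro h; apply hu1
    calc u = g₁⁻¹ * (g₁ * u * g₁⁻¹) * g₁ := by group
      _ = 1 := by rw [h]; group
  have hs'1 : g₂ * v * g₂⁻¹ ≠ 1 := by
    intro h; apply hv1
    calc v = g₂⁻¹ * (g₂ * v * g₂⁻¹) * g₂ := by group
      _ = 1 := by rw [h]; group
  have hss := Cfsg.Agent.Lib.H6.conj_mul_self huu g₁
  have hs's' := Cfsg.Agent.Lib.H6.conj_mul_self hvv g₂
  have htinv := Cfsg.Agent.Lib.H6.RankOne.t_inv hS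
  -- t s' t ∉ G_a
  have hnot : t * (g₂ * v * g₂⁻¹) * t⁻¹ ∉ MulAction.stabilizer G a := by
    intro h
    apply hs'1
    apply Cfsg.Agent.Lib.H6.RankOne.Q_fix_eq_one hS hg₂ (Cfsg.Agent.Lib.H6.RankOne.ta_ne hS)
    rw [MulAction.mem_stabilizer_iff, mul_smul, mul_smul, htinv] at h
    have : t • (t • (g₂ * v * g₂⁻¹) • t • a) = t • a := by rw [h]
    rwa [Cfsg.Agent.Lib.H6.RankOne.tt_smul hS] at this
  have hodd := partA hS _ _ (hS.le hg₁) hs1 hss hnot (Cfsg.Agent.Lib.H6.conj_mul_self hs's' t)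
  obtain ⟨k, hk⟩ := hodd
  have hpow : (g₁ * u * g₁⁻¹ * (t * (g₂ * v * g₂⁻¹) * t⁻¹)) ^ (2 * k + 1) = 1 := by
    rw [← hk]; exact pow_orderOf_eq_one _
  have hconj := Cfsg.Agent.Lib.H6.conj_of_pow_odd hss (Cfsg.Agent.Lib.H6.conj_mul_self hs's' t) k hpow
  obtain ⟨c, hc⟩ : ∃ c, c = (g₁ * u * g₁⁻¹ * (t * (g₂ * v * g₂⁻¹) * t⁻¹)) ^ k := ⟨_, rfl⟩
  rw [← hc] at hconj
  refine ⟨g₂⁻¹ * t⁻¹ * c * g₁, ?_⟩
  calc g₂⁻¹ * t⁻¹ * c * g₁ * u * (g₂⁻¹ * t⁻¹ * c * g₁)⁻¹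
      = g₂⁻¹ * t⁻¹ * (c * (g₁ * u * g₁⁻¹) * c⁻¹) * t * g₂ := by group
    _ = v := by rw [hconj]; group

end Cfsg.Agent.S1121
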