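import Cfsg.Statements.S1128
import Cfsg.Agent.Lib.H6.RankOne6

set_option autoImplicit false
open Cfsg

namespace Cfsg.Agent.S1128

open Cfsg.Agent.Lib.H6.RankOne

/-- In the rank-one set-up (`G` finite and doubly transitive on `Ω`, `t` an involution moving `a`, `Q` normal in `G_a` with `G_a = Q D`, `Q ⊓ D = 1` for the two-point stabiliser `D = G_a ⊓ G_{t • a}`, `|Q|` even, `|D|` odd), with the action faithful and `G` containing two distinct commuting involutions: every non-identity element of `D` inverted by `t` acts fixed-point-freely on `Q`. -/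
theorem result {G Ω : Type*} [Group G] [Finite G] [MulAction G Ω] [FaithfulSMul G Ω] {a : Ω} {t : G} {Q : Subgroup G}
    (hS : Cfsg.IsRankOneSetup G Ω a t Q)
    (h2 : ∃ x y : G, x ≠ 1 ∧ y ≠ 1 ∧ x ≠ y ∧ x * x = 1 ∧ y * y = 1 ∧ x * y = y * x)
    (x : G) (hx : x ∈ Cfsg.invertedBy (MulAction.stabilizer G a ⊓ MulAction.stabilizer G (t • a)) t) (hx1 : x ≠ 1) :
    Q ⊓ Subgroup.centralizer {x} = ⊥ := by

  classical
  rw [eq_bot_iff]
  intro q hq
  rw [Subgroup.mem_bot]
  by_contra hq1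
  obtain ⟨hqQ, hqC⟩ := Subgroup.mem_inf.mp hq
  rw [Subgroup.mem_centralizer_iff] at hqC
  have hxq : x * q = q * x := hqC x rfl
  obtain ⟨hxD, hxinv⟩ := hx
  have hxa : x • a = a := MulAction.mem_stabilizer_iff.mp (Subgroup.mem_inf.mp hxD).1
  have hxb : x • (t • a) = t • a := MulAction.mem_stabilizer_iff.mp (Subgroup.mem_inf.mp hxD).2
  have hX : ({x} : Set G) ⊆ ((MulAction.stabilizer G a ⊓ MulAction.stabilizer G (t • a) : Subgroup G) : Set G) := by
    intro y hy
    rw [Set.mem_singleton_iff] at hy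
    rw [hy]; exact hxD
  have h3 : ∃ b c d : Ω, b ≠ c ∧ b ≠ d ∧ c ≠ d ∧ ∀ y ∈ ({x} : Set G), y • b = b ∧ y • c = c ∧ y • d = d := by
    refine ⟨a, t • a, q • (t • a), (ta_ne hS).symm, (Q_smul_ne hS hqQ (ta_ne hS)).symm, ?_, ?_⟩
    · intro h
      exact hq1 (Q_fix_eq_one hS hqQ (ta_ne hS) h.symm)
    · intro y hy
      rw [Set.mem_singleton_iff] at hy
      rw [hy]
      refine ⟨hxa, hxb, ?_⟩
      rw [← mul_smul, hxq, mul_smul, hxb]
  obtain ⟨g, hgC, hgg, hga⟩ := exists_centralizer_swap hS hX h3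
  rw [Subgroup.mem_centralizer_iff] at hgC
  have hxg : x * g = g * x := hgC x rfl
  obtain ⟨hkD, -⟩ := mem_K_of_swap hS hgg hga
  have htinv := t_inv hS
  have hginv : g⁻¹ = g := inv_eq_of_mul_eq_one_right hgg
  -- k = t g inverts x
  have hk : (t * g) * x * (t * g)⁻¹ = x⁻¹ := by
    have e : (t * g) * x * (t * g)⁻¹ = t * (g * x) * g⁻¹ * t⁻¹ := by group
    rw [e, ← hxg]
    have e2 : t * (x * g) * g⁻¹ * t⁻¹ = t * x * t⁻¹ := by group
    rw [e2, hxinv]
  obtain ⟨k, hkdef⟩ : ∃ k, k = t * g := ⟨_, rfl⟩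
  rw [← hkdef] at hk hkD
  -- k² commutes with x, and k is a power of k²
  have hk2 : (k * k) * x = x * (k * k) := by
    have e1 : k * x = x⁻¹ * k := by
      calc k * x = (k * x * k⁻¹) * k := by group
        _ = x⁻¹ * k := by rw [hk]
    have e2 : k * x⁻¹ = x * k := by
      have : k * x⁻¹ * k⁻¹ = x := by
        have : k * x⁻¹ * k⁻¹ = (k * x * k⁻¹)⁻¹ := by group
        rw [this, hk, inv_inv]
      calc k * x⁻¹ = (k * x⁻¹ * k⁻¹) * k := by group
        _ = x * k := by rw [this]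
    calc (k * k) * x = k * (k * x) := by group
      _ = k * (x⁻¹ * k) := by rw [e1]
      _ = (k * x⁻¹) * k := by group
      _ = x * k * k := by rw [e2]
      _ = x * (k * k) := by group
  have hodd : Odd (orderOf k) := by
    have h1 : orderOf k ∣ Nat.card ↥(MulAction.stabilizer G a ⊓ MulAction.stabilizer G (t • a)) := by
      have := orderOf_dvd_natCard (⟨k, hkD⟩ : ↥(MulAction.stabilizer G a ⊓ MulAction.stabilizer G (t • a)))
      rwa [Subgroup.orderOf_mk] at this
    exact Odd.of_dvd_nat hS.odd_card h1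
  obtain ⟨i, hi⟩ := hodd
  have hkpow : k = (k * k) ^ (i + 1) := by
    rw [← pow_two, ← pow_mul]
    have : 2 * (i + 1) = orderOf k + 1 := by omega
    rw [this, pow_succ, pow_orderOf_eq_one, one_mul]
  have hkx : k * x = x * k := by
    have hc : Commute (k * k) x := hk2
    have := hc.pow_left (i + 1)
    rw [← hkpow] at this
    exact this
  have hxx : x⁻¹ = x := by
    rw [← hk]
    calc k * x * k⁻¹ = (x * k) * k⁻¹ := by rw [hkx]
      _ = x := by group
  have hxx' : x * x = 1 := by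
    calc x * x = x⁻¹ * x := by rw [hxx]
      _ = 1 := by group
  exact hx1 (D_sq_eq_one hS hxD hxx')

end Cfsg.Agent.S1128
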