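import Cfsg.Statements.S1129
import Cfsg.Agent.Lib.H6.RankOne7
import Cfsg.Agent.S1128
import Cfsg.Agent.S0033

set_option autoImplicit false
open Cfsg

namespace Cfsg.Agent.S1129

open Cfsg.Agent.Lib.H6.RankOne

/-- In the rank-one set-up (`G` finite and doubly transitive on `Ω`, `t` an involution moving `a`, `Q` normal in `G_a` with `G_a = Q D`, `Q ⊓ D = 1` for the two-point stabiliser `D = G_a ⊓ G_{t • a}`, `|Q|` even, `|D|` odd), with the action faithful and `G` containing two distinct commuting involutions: `Q` is nilpotent. -/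
theorem result {G Ω : Type*} [Group G] [Finite G] [MulAction G Ω] [FaithfulSMul G Ω] {a : Ω} {t : G} {Q : Subgroup G}
    (hS : Cfsg.IsRankOneSetup G Ω a t Q)
    (h2 : ∃ x y : G, x ≠ 1 ∧ y ≠ 1 ∧ x ≠ y ∧ x * x = 1 ∧ y * y = 1 ∧ x * y = y * x) :
    Group.IsNilpotent Q := by

  classical
  obtain ⟨k, hk, p, hp, hord⟩ := exists_K_prime_order hS h2
  have hk1 : k ≠ 1 := by
    rintro rfl
    rw [orderOf_one] at hord
    exact hp.one_lt.ne hord
  have hC := Cfsg.Agent.S1128.result hS h2 k hk hk1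
  have hkD := hk.1
  have hkN : k ∈ Subgroup.normalizer (Q : Set G) :=
    D_le_normalizer_Q hS (Subgroup.mem_inf.mp hkD).1
  have hQ : Q ≠ ⊥ := by
    obtain ⟨q, hq, hq1⟩ := exists_Q_ne_one hS
    intro h
    rw [h, Subgroup.mem_bot] at hq
    exact hq1 hq
  obtain ⟨hfpf, hord'⟩ := conjHom_fpf_orderOf Q k hkN hC hQ p hp hord
  exact Cfsg.Agent.S0033.result _ hfpf p hp hord'

end Cfsg.Agent.S1129
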