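import Cfsg.Statements.S1130
import Cfsg.Agent.Lib.H6.RankOne8
import Cfsg.Agent.S1129

set_option autoImplicit false
open Cfsg

namespace Cfsg.Agent.S1130

open Cfsg.Agent.Lib.H6.RankOne

/-- In the rank-one set-up (`G` finite and doubly transitive on `Ω`, `t` an involution moving `a`, `Q` normal in `G_a` with `G_a = Q D`, `Q ⊓ D = 1` for the two-point stabiliser `D = G_a ⊓ G_{t • a}`, `|Q|` even, `|D|` odd), with the action faithful and `G` containing two distinct commuting involutions: the involutions of `G_a` lie in `Z(Q)`, and together with `1` they are closed under multiplication (so form an elementary abelian 2-subgroup). -/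
theorem result {G Ω : Type*} [Group G] [Finite G] [MulAction G Ω] [FaithfulSMul G Ω] {a : Ω} {t : G} {Q : Subgroup G}
    (hS : Cfsg.IsRankOneSetup G Ω a t Q)
    (h2 : ∃ x y : G, x ≠ 1 ∧ y ≠ 1 ∧ x ≠ y ∧ x * x = 1 ∧ y * y = 1 ∧ x * y = y * x) :
    (∀ s ∈ Cfsg.involutionsIn (MulAction.stabilizer G a : Set G), s ∈ Q ∧ ∀ x ∈ Q, s * x = x * s) ∧
      ∀ s ∈ Cfsg.involutionsIn (MulAction.stabilizer G a : Set G), ∀ s' ∈ Cfsg.involutionsIn (MulAction.stabilizer G a : Set G),
        s * s' = 1 ∨ s * s' ∈ Cfsg.involutionsIn (MulAction.stabilizer G a : Set G) := by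

  classical
  have hnil : Group.IsNilpotent Q := Cfsg.Agent.S1129.result hS h2
  obtain ⟨⟨z, hzQ⟩, hz1', hzz', hzc'⟩ := exists_central_involution_of_nilpotent hS.even_card
  have hz1 : z ≠ 1 := fun h => hz1' (Subtype.ext h)
  have hzz : z * z = 1 := congrArg Subtype.val hzz'
  have hzc : ∀ x ∈ Q, z * x = x * z := fun x hx => congrArg Subtype.val (hzc' ⟨x, hx⟩)
  have hzI : z ∈ Cfsg.involutionsIn (MulAction.stabilizer G a : Set G) := ⟨hS.le hzQ, hz1, hzz⟩
  have key : ∀ s ∈ Cfsg.involutionsIn (MulAction.stabilizer G a : Set G), s ∈ Q ∧ ∀ x ∈ Q, s * x = x * s := by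
    intro s hs
    refine ⟨involution_Ga_mem_Q hS hs.1 hs.2.2, ?_⟩
    intro x hx
    obtain ⟨k, hk, hks⟩ := exists_K_conj hS hzI hs
    have hkGa : k ∈ MulAction.stabilizer G a := (Subgroup.mem_inf.mp hk.1).1
    have hx' : k * x * k⁻¹ ∈ Q := hS.conj_mem k hkGa x hx
    have h1 := hzc _ hx'
    rw [← hks]
    calc k⁻¹ * z * k * x = k⁻¹ * (z * (k * x * k⁻¹)) * k := by group
      _ = k⁻¹ * ((k * x * k⁻¹) * z) * k := by rw [h1]
      _ = x * (k⁻¹ * z * k) := by group
  refine ⟨key, ?_⟩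
  intro s hs s' hs'
  obtain ⟨hsQ, hsc⟩ := key s hs
  obtain ⟨hsQ', hsc'⟩ := key s' hs'
  by_cases h : s * s' = 1
  · exact Or.inl h
  · right
    refine ⟨hS.le (Q.mul_mem hsQ hsQ'), h, ?_⟩
    calc s * s' * (s * s') = s * (s' * s) * s' := by group
      _ = s * (s * s') * s' := by rw [hsc' s hsQ]
      _ = (s * s) * (s' * s') := by group
      _ = 1 := by rw [hs.2.2, hs'.2.2, one_mul]

end Cfsg.Agent.S1130
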