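import Cfsg.Statements.S0044
import Mathlib
import Cfsg.Agent.Lib.H1.Fitting
import Cfsg.Agent.Lib.H1.SolvableBasic
import Cfsg.Agent.Lib.H1.QuotientBasic
import Cfsg.Agent.Lib.H1.Misc

set_option autoImplicit false
open Cfsg

namespace Cfsg.Agent.S0044

/-- In a finite solvable group, the centraliser of the Fitting subgroup is contained in the Fitting subgroup. -/
theorem result {G : Type*} [Group G] [Finite G] [Group.IsSolvable G] :
    Subgroup.centralizer (Cfsg.fittingSubgroup G : Set G) ≤ Cfsg.fittingSubgroup G := by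
  set F := Cfsg.fittingSubgroup G with hF
  set C := Subgroup.centralizer (F : Set G) with hC
  have hFn : F.Normal := Lib.H1.fittingSubgroup_normal G
  have hCn : C.Normal := Subgroup.normal_centralizer
  set Z := C ⊓ F with hZ
  have hZn : Z.Normal := inferInstance
  by_contra hCF
  set C' := C.map (QuotientGroup.mk' Z) with hC'
  have hC'n : C'.Normal := Subgroup.Normal.map hCn _ (QuotientGroup.mk'_surjective Z)
  have hC'nt : Nontrivial C' := by
    rw [Subgroup.nontrivial_iff_ne_bot]
    intro hbot
    apply hCF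
    have h1 : C ≤ (QuotientGroup.mk' Z).ker := (Subgroup.map_eq_bot_iff _).mp hbot
    rw [QuotientGroup.ker_mk'] at h1
    exact h1.trans inf_le_right
  obtain ⟨D, hDc, hDcomm, hDne⟩ :=
    Lib.H1.exists_characteristic_commutative_ne_bot_of_isSolvable (G := C')
  set Ā := D.map C'.subtype with hĀ
  have hĀn : Ā.Normal := ConjAct.normal_of_characteristic_of_normal
  have hĀle : Ā ≤ C' := Subgroup.map_subtype_le D
  set A := Ā.comap (QuotientGroup.mk' Z) with hA
  have hAn : A.Normal := Subgroup.Normal.comap hĀn _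
  have hZA : Z ≤ A := Lib.H1.le_comap_mk' Z Ā
  have hAC : A ≤ C := by
    have h1 : A ≤ C'.comap (QuotientGroup.mk' Z) := Subgroup.comap_mono hĀle
    rw [hC', Lib.H1.comap_map_mk'_of_le inf_le_left] at h1
    exact h1
  -- `A` is nilpotent
  have hAnil : Group.IsNilpotent A := by
    let f : A →* (G ⧸ Z) := (QuotientGroup.mk' Z).comp A.subtype
    have hcommR : ∀ x y : f.range, x * y = y * x := by
      rintro ⟨x, a, rfl⟩ ⟨y, b, rfl⟩
      apply Subtype.ext
      have ha : f a ∈ Ā := a.2
      have hb : f b ∈ Ā := b.2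
      obtain ⟨da, hda, hda'⟩ := ha
      obtain ⟨db, hdb, hdb'⟩ := hb
      have := mul_comm' (⟨da, hda⟩ : D) ⟨db, hdb⟩
      have h2 : da * db = db * da := congrArg Subtype.val this
      have h3 := congrArg C'.subtype h2
      simp only [map_mul] at h3
      rw [hda', hdb'] at h3
      exact h3
    have : IsMulCommutative f.range := ⟨⟨hcommR⟩⟩
    have hnilR : Group.IsNilpotent f.range := Lib.H1.isNilpotent_of_isMulCommutative _
    apply Subgroup.isNilpotent_of_ker_le_center f.rangeRestrict
    rw [MonoidHom.ker_rangeRestrict]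
    intro a ha
    rw [MonoidHom.mem_ker] at ha
    have haZ : (a : G) ∈ Z := by
      have : QuotientGroup.mk' Z (a : G) = 1 := ha
      exact (QuotientGroup.eq_one_iff (a : G)).mp this
    rw [Subgroup.mem_center_iff]
    intro b
    apply Subtype.ext
    have hbC : (b : G) ∈ C := hAC b.2
    have := Subgroup.mem_centralizer_iff.mp hbC (a : G) haZ.2
    simp only [Subgroup.coe_mul]
    exact this.symm
  have hAF : A ≤ F := Lib.H1.le_fittingSubgroup hAn hAnil
  have hAZ : A ≤ Z := le_inf hAC hAF
  have hĀbot : Ā = ⊥ := by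
    rw [← Lib.H1.map_comap_mk' Z Ā, eq_bot_iff]
    have h1 : A.map (QuotientGroup.mk' Z) ≤ Z.map (QuotientGroup.mk' Z) := Subgroup.map_mono hAZ
    have h2 : Z.map (QuotientGroup.mk' Z) = ⊥ := by
      rw [Subgroup.map_eq_bot_iff, QuotientGroup.ker_mk']
    rw [h2] at h1
    exact h1
  apply hDne
  rw [hĀ, Subgroup.map_eq_bot_iff_of_injective _ C'.subtype_injective] at hĀbot
  exact hĀbot

end Cfsg.Agent.S0044
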