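import Mathlib
import Cfsg.Statements.S1500
import Cfsg.Agent.Lib.H8.Dade
import Cfsg.Agent.Lib.H8.ClassFun

set_option autoImplicit false
open Cfsg
open Cfsg.Agent.Lib.H8
open scoped ComplexConjugate
open Finset

namespace Cfsg.Agent.S1500

theorem part_two {G : Type*} [Group G] [Fintype G] (A : Set G) (L : Subgroup G) [Fintype L]
    (H : G → Subgroup G) (hD : Cfsg.DadeHypothesis A L H) (α : L → ℂ)
    (hα : Cfsg.IsClassFunction L α) (hαA : ∀ x : L, (x : G) ∉ A → α x = 0)
    (χ : G → ℂ) (ψ : L → ℂ) (hχ : Cfsg.IsClassFunction G χ)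
    (hψ : ∀ a : L, (a : G) ∈ A →
      ψ a = (Nat.card (H a) : ℂ)⁻¹ * ∑ᶠ u ∈ (H a : Set G), χ (a * u)) :
    Cfsg.classInner (Cfsg.dadeIsometry A L H α) χ = Cfsg.classInner α ψ := by
  classical
  obtain ⟨τ, hτ⟩ : ∃ τ, τ = Cfsg.dadeIsometry A L H α := ⟨_, rfl⟩
  rw [← hτ]
  have hτc : Cfsg.IsClassFunction G τ := by
    rw [hτ]; exact isClassFunction_dadeIsometry hD α hα
  obtain ⟨F, hFdef⟩ : ∃ F : G → ℂ, F = fun g => τ g * conj (χ g) := ⟨_, rfl⟩
  have hF : ∀ g x : G, F (x * g * x⁻¹) = F g := by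
    intro g x; simp only [hFdef]; rw [hτc g x, hχ g x]
  have hcount := dade_count (K := ℂ) hD F hF
  have hsupp : ∑ g : G, F g = ∑ g ∈ univ.filter
      (fun g => ∃ a ∈ A, ∃ u ∈ H a, ∃ x : G, x * g * x⁻¹ = a * u), F g := by
    rw [Finset.sum_filter]
    apply Finset.sum_congr rfl
    intro g _
    split_ifs with hg
    · rfl
    · simp only [hFdef]
      rw [hτ, dadeIsometry_eq_zero α (fun h => hg ((dade_supp_iff hD g).mp h)), zero_mul]
  have hR : ∑ a : L, α a * conj (ψ a) = ∑ a ∈ univ.filter (· ∈ A), (Nat.card (H a) : ℂ)⁻¹ *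
      ∑ u ∈ univ.filter (· ∈ H a), F (a * u) := by
    rw [sum_filter_mem_eq_sum_subtype hD]
    apply Finset.sum_congr rfl
    intro a _
    split_ifs with ha
    · rw [hψ a ha, finsum_mem_eq_sum_filter_univ, map_mul, map_inv₀, map_natCast, map_sum,
        Finset.mul_sum, Finset.mul_sum, Finset.mul_sum]
      apply Finset.sum_congr rfl
      intro u hu
      have hu' : u ∈ H a := by simpa using hu
      simp only [hFdef]
      rw [hτ, dadeIsometry_eq hD α hα ha hu' (x := 1) (by simp)]
      ring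
    · rw [hαA a ha, zero_mul]
  have hG : (Nat.card G : ℂ) ≠ 0 := Nat.cast_ne_zero.mpr Nat.card_pos.ne'
  have hL : (Nat.card L : ℂ) ≠ 0 := Nat.cast_ne_zero.mpr Nat.card_pos.ne'
  rw [classInner_def, classInner_def, hR]
  have hsum : ∑ g : G, τ g * conj (χ g) = ∑ g : G, F g := by rw [hFdef]
  rw [hsum, hsupp, inv_mul_eq_div, inv_mul_eq_div, div_eq_div_iff hG hL]
  linear_combination hcount

/-- Under the Dade hypothesis for (A, L, H), let α be a class function of L vanishing outside A. Then (i) for every class function β of L vanishing outside A, the inner product over G of the Dade images of α and β equals the inner product of α and β over L; and (ii) for every class function χ of G and every function ψ on L whose value at each a ∈ A is the average of χ over the coset a·H(a), the inner product over G of the Dade image of α with χ equals the inner product over L of α with ψ. -/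
theorem result {G : Type*} [Group G] [Fintype G] (A : Set G) (L : Subgroup G) [Fintype L] (H : G → Subgroup G) (hD : Cfsg.DadeHypothesis A L H) (α : L → ℂ) (hα : Cfsg.IsClassFunction L α) (hαA : ∀ x : L, (x : G) ∉ A → α x = 0) : (∀ β : L → ℂ, Cfsg.IsClassFunction L β → (∀ x : L, (x : G) ∉ A → β x = 0) → Cfsg.classInner (Cfsg.dadeIsometry A L H α) (Cfsg.dadeIsometry A L H β) = Cfsg.classInner α β) ∧ (∀ (χ : G → ℂ) (ψ : L → ℂ), Cfsg.IsClassFunction G χ → (∀ a : L, (a : G) ∈ A → ψ a = (Nat.card (H a) : ℂ)⁻¹ * ∑ᶠ u ∈ (H a : Set G), χ (a * u)) → Cfsg.classInner (Cfsg.dadeIsometry A L H α) χ = Cfsg.classInner α ψ) := by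
  classical
  refine ⟨?_, fun χ ψ hχ hψ => part_two A L H hD α hα hαA χ ψ hχ hψ⟩
  intro β hβ _
  apply part_two A L H hD α hα hαA _ β (isClassFunction_dadeIsometry hD β hβ)
  intro a ha
  rw [finsum_mem_eq_sum_filter_univ]
  have hH : (Nat.card (H a) : ℂ) ≠ 0 := Nat.cast_ne_zero.mpr Nat.card_pos.ne'
  have : ∀ u ∈ univ.filter (· ∈ ((H a : Subgroup G) : Set G)),
      Cfsg.dadeIsometry A L H β (a * u) = β a := by
    intro u hu
    have hu' : u ∈ H a := by simpa using hu
    exact dadeIsometry_eq hD β hβ ha hu' (x := 1) (by simp)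
  rw [Finset.sum_congr rfl this, Finset.sum_const, nsmul_eq_mul]
  have hc : (univ.filter (· ∈ ((H a : Subgroup G) : Set G))).card = Nat.card (H a) := by
    rw [← card_filter_mem_subgroup]
    congr 1
  rw [hc, ← mul_assoc, inv_mul_cancel₀ hH, one_mul]

end Cfsg.Agent.S1500
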