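import Cfsg.Statements.S1355
import Cfsg.Agent.Lib.H10.BG152j
import Cfsg.Agent.S1373

set_option autoImplicit false
open Cfsg

namespace Cfsg.Agent.S1355

theorem result {G : Type*} [Group G] [Finite G] (hG : Cfsg.IsMinSimpleOddOrder G)
    (M : Subgroup G) (hM : IsCoatom M) :
    Cfsg.fittingHallOf M ≠ ⊥ ∧ Cfsg.fittingHallOf M ≤ Cfsg.sigmaCore M ∧ Cfsg.sigmaCore M ≤ ⁅M, M⁆ ∧ ⁅M, M⁆ < M ∧
      Group.IsNilpotent ↥((commutator ↥M).map (QuotientGroup.mk' (Cfsg.fittingHall ↥M))) := by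
  have h73 : Cfsg.Agent.Lib.H10.BG152.Hyp1373 G := fun M hM K U hKU hK1 hU =>
    Cfsg.Agent.S1373.result hG M hM K U hKU hK1 hU
  exact Cfsg.Agent.Lib.H10.BG152.s1355_of_hyp hG h73 M hM

end Cfsg.Agent.S1355
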