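import Cfsg.Statements.S5349
import Cfsg.Agent.Lib.H26.ThreeTransCore

set_option autoImplicit false
open Cfsg

namespace Cfsg.Agent.S5349

/-- Let D be a conjugacy class of 3-transpositions generating the finite group G, with at least two members, and d a member of D. Then the set of members of D commuting with exactly the same members of D as d coincides with the set of members of D lying in the coset of d modulo the largest normal 2-subgroup of G, and also with the orbit of d under conjugation by that normal 2-subgroup. -/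
theorem result {G : Type*} [Group G] [Finite G] {D : Set G} (hD : Cfsg.IsThreeTranspositionClass D) (hD2 : ∃ a ∈ D, ∃ b ∈ D, a ≠ b) {d : G} (hd : d ∈ D) : {v : G | v ∈ D ∧ ∀ e ∈ D, Commute v e ↔ Commute d e} = {v : G | v ∈ D ∧ d⁻¹ * v ∈ Cfsg.pCore 2 G} ∧ {v : G | v ∈ D ∧ ∀ e ∈ D, Commute v e ↔ Commute d e} = {v : G | ∃ g ∈ Cfsg.pCore 2 G, v = g * d * g⁻¹} := by
  classical
  haveI : Fact (Nat.Prime 2) := ⟨Nat.prime_two⟩
  have hS := hD.1
  have hconj := Cfsg.Agent.Lib.H26.ThreeTrans.class_conj hD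
  haveI hQn : (Cfsg.pCore 2 G).Normal := Cfsg.Agent.Lib.H1.pCore_normal 2 G
  have hQ : IsPGroup 2 (Cfsg.pCore 2 G) := Cfsg.Agent.Lib.H25.pCore_isPGroup 2 G
  have hdinv : d⁻¹ = d := Cfsg.Agent.Lib.H26.ThreeTrans.inv_eq hS hd
  have hd2 : d * d = 1 := Cfsg.Agent.Lib.H26.ThreeTrans.sq_eq_one hS hd
  -- V ⊆ A
  have hVA : ∀ v : G, (v ∈ D ∧ ∀ e ∈ D, Commute v e ↔ Commute d e) → d⁻¹ * v ∈ Cfsg.pCore 2 G := by
    intro v hv
    rw [hdinv]
    exact Cfsg.Agent.Lib.H26.ThreeTrans.mul_mem_pCore_of_veq hS hconj hd hv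
  -- A ⊆ V
  have hAV : ∀ v : G, v ∈ D → d⁻¹ * v ∈ Cfsg.pCore 2 G →
      (v ∈ D ∧ ∀ e ∈ D, Commute v e ↔ Commute d e) := by
    intro v hv h
    rw [hdinv] at h
    exact Cfsg.Agent.Lib.H26.ThreeTrans.veq_of_mul_mem hS hQ hd hv h
  -- A ⊆ B
  have hAB : ∀ v : G, v ∈ D → d⁻¹ * v ∈ Cfsg.pCore 2 G →
      ∃ g ∈ Cfsg.pCore 2 G, v = g * d * g⁻¹ := by
    intro v hv h
    by_cases hdv : d = v
    · exact ⟨1, Subgroup.one_mem _, by rw [← hdv]; group⟩
    · have hveq := hAV v hv h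
      obtain ⟨e, he, hde⟩ := Cfsg.Agent.Lib.H26.ThreeTrans.exists_not_commute hD hD2 hd
      have hve : ¬ Commute v e := fun hc => hde ((hveq.2 e he).1 hc)
      have hcomm : Commute d v :=
        Cfsg.Agent.Lib.H26.ThreeTrans.Veq.commute hd hveq
      refine ⟨e * (d * v) * e, ?_, ?_⟩
      · rw [hdinv] at h
        have := hQn.conj_mem _ h e
        rwa [Cfsg.Agent.Lib.H26.ThreeTrans.inv_eq hS he] at this
      · exact (Cfsg.Agent.Lib.H26.ThreeTrans.conj_path hS hd hv he hcomm hde hve).symm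
  -- B ⊆ A
  have hBA : ∀ v : G, (∃ g ∈ Cfsg.pCore 2 G, v = g * d * g⁻¹) →
      v ∈ D ∧ d⁻¹ * v ∈ Cfsg.pCore 2 G := by
    rintro v ⟨g, hg, rfl⟩
    refine ⟨hconj g d hd, ?_⟩
    rw [hdinv]
    have h1 : d * g * d⁻¹ ∈ Cfsg.pCore 2 G := hQn.conj_mem _ hg d
    rw [hdinv] at h1
    have : d * (g * d * g⁻¹) = (d * g * d) * g⁻¹ := by group
    rw [this]
    exact Subgroup.mul_mem _ h1 (Subgroup.inv_mem _ hg)
  constructor
  · ext v
    constructor
    · intro hv
      exact ⟨hv.1, hVA v hv⟩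
    · rintro ⟨hv, h⟩
      exact hAV v hv h
  · ext v
    constructor
    · intro hv
      exact hAB v hv.1 (hVA v hv)
    · intro hv
      obtain ⟨hvD, h⟩ := hBA v hv
      exact hAV v hvD h

end Cfsg.Agent.S5349
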