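import Mathlib
import Cfsg.Statements.S1517
import Cfsg.Agent.Lib.H8.Coherence
import Cfsg.Agent.Lib.H8.CoherenceSystem
import Cfsg.Agent.Lib.L0.CharBasic
import Cfsg.Agent.Lib.L0.CharOps

set_option autoImplicit false
open Cfsg

namespace Cfsg.Agent.S1517

open Cfsg.Agent.Lib.H8 Cfsg.Agent.Lib.L0

/-- Let (S, τ, R) be a coherence system from L to G such that φ 1 = ψ 1 for all φ, ψ ∈ S. Then (S, L minus 1, τ) is coherent. -/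
theorem result {L : Type*} [Group L] [Fintype L] {G : Type*} [Group G] [Fintype G] (S : Set (L → ℂ)) (τ : (L → ℂ) → (G → ℂ)) (R : (L → ℂ) → Finset (G → ℂ)) (hS : Cfsg.IsCoherenceSystem S τ R) (hdeg : ∀ φ ∈ S, ∀ ψ ∈ S, φ 1 = ψ 1) : Cfsg.IsCoherent S {1}ᶜ τ := by
  classical
  obtain ⟨T, rfl⟩ := (coh_finite hS).exists_finset_coe
  obtain ⟨χ₀, hχ₀⟩ := hS.nonempty
  have hχ₀' : χ₀ ∈ T := hχ₀
  have hnat : ∀ φ ∈ (↑T : Set (L → ℂ)), ∃ m : ℕ, classInner φ φ = (m : ℂ) := fun φ hφ =>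
    classInner_char_char_nat (hS.isCharacter φ hφ) (hS.isCharacter φ hφ)
  choose! n hn using hnat
  obtain ⟨d, hd₀⟩ := isCharacter_apply_one (hS.isCharacter χ₀ hχ₀)
  have hd : ∀ φ ∈ T, φ 1 = (d : ℂ) := fun φ hφ => (hdeg φ hφ χ₀ hχ₀).trans hd₀
  have hd0 : d ≠ 0 := by
    rintro rfl
    apply coh_ne_zero hS hχ₀
    funext g
    have h1 := isCharacter_norm_le (hS.isCharacter χ₀ hχ₀) g
    rw [hd₀] at h1
    simpa using h1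
  have hdiff : ∀ φ ∈ T, ∀ ψ ∈ T, φ - ψ ∈ zspanOn (↑T : Set (L → ℂ)) ({1}ᶜ : Set L) := by
    intro φ hφ ψ hψ
    rw [mem_zspanOn_compl_one]
    exact ⟨sub_mem_zspan (subset_zspan _ hφ) (subset_zspan _ hψ), by
      rw [Pi.sub_apply, hd φ hφ, hd ψ hψ, sub_self]⟩
  have hE := isZClosed_zspanOn (↑T : Set (L → ℂ)) ({1}ᶜ : Set L)
  have hτ := hS.isometry
  have hτ0 : τ 0 = 0 := lio_zero hτ hE
  have hχ₀c : conjFun χ₀ ∈ T := hS.conj_mem χ₀ hχ₀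
  have hχ₀ne : χ₀ ≠ conjFun χ₀ := fun h => hS.conj_ne χ₀ hχ₀ h.symm
  have hR₀ := coh_orthonormal' hS hχ₀
  -- coefficients of the image of χ₀
  have hcoef : ∃ a : (G → ℂ) → ℤ, (∀ α ∈ R χ₀, a α ^ 2 = a α) ∧
      ∑ α ∈ R χ₀, a α = (n χ₀ : ℤ) ∧
      ∀ ψ ∈ T, ψ ≠ χ₀ → ψ ≠ conjFun χ₀ → ∀ α ∈ R χ₀,
        classInner (τ (χ₀ - ψ)) α = (a α : ℂ) := by
    by_cases hcase : ∃ φ₀ ∈ T, φ₀ ≠ χ₀ ∧ φ₀ ≠ conjFun χ₀
    · obtain ⟨φ₀, hφ₀, hφ₀1, hφ₀2⟩ := hcase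
      obtain ⟨a, ha, hasq, hasum, -, -, -, -⟩ :=
        coh_decomp hS n hn hχ₀ hφ₀ hφ₀1 hφ₀2 (hdiff χ₀ hχ₀' φ₀ hφ₀)
      refine ⟨a, hasq, hasum, ?_⟩
      intro ψ hψ hψ1 hψ2 α hα
      by_cases hψφ : ψ = φ₀
      · rw [hψφ]; exact ha α (Finset.mem_union_left _ hα)
      · have e : χ₀ - ψ = (χ₀ - φ₀) + (φ₀ - ψ) := by abel
        rw [e, lio_add hτ (hdiff χ₀ hχ₀' φ₀ hφ₀) (hdiff φ₀ hφ₀ ψ hψ), classInner_add_left,
          ha α (Finset.mem_union_left _ hα)]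
        suffices h : classInner (τ (φ₀ - ψ)) α = 0 by rw [h, add_zero]
        by_cases hψφbar : ψ = conjFun φ₀
        · rw [hψφbar, hS.sum_eq φ₀ hφ₀, classInner_sum_left]
          apply Finset.sum_eq_zero
          intro β hβ
          have e1 : classInner φ₀ χ₀ = 0 := hS.orthogonal φ₀ hφ₀ χ₀ hχ₀ hφ₀1
          have e2 : classInner φ₀ (conjFun χ₀) = 0 := hS.orthogonal φ₀ hφ₀ _ hχ₀c hφ₀2
          exact hS.disjoint χ₀ hχ₀ φ₀ hφ₀ e1 e2 β hβ α hα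
        · have h3 : χ₀ ≠ φ₀ := Ne.symm hφ₀1
          have h4 : χ₀ ≠ conjFun φ₀ := fun h => hφ₀2 (by rw [h, conjFun_conjFun])
          have h5 : χ₀ ≠ ψ := Ne.symm hψ1
          have h6 : χ₀ ≠ conjFun ψ := fun h => hψ2 (by rw [h, conjFun_conjFun])
          exact coh_orth hS n hn hφ₀ hψ hχ₀ hψφ hψφbar (hdiff φ₀ hφ₀ ψ hψ) h3 h4 h5 h6 α hα
    · push Not at hcase
      have hcard := coh_card_R hS n hn hχ₀
      obtain ⟨A, hA, hAcard⟩ := Finset.exists_subset_card_eq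
        (show n χ₀ ≤ (R χ₀).card by rw [hcard]; omega)
      refine ⟨fun α => if α ∈ A then 1 else 0, ?_, ?_, ?_⟩
      · intro α _
        by_cases h : α ∈ A <;> simp [h]
      · rw [Finset.sum_boole, Finset.filter_mem_eq_inter, Finset.inter_eq_right.mpr hA, hAcard]
      · intro ψ hψ hψ1 hψ2
        exact absurd (hcase ψ hψ hψ1) hψ2
  obtain ⟨a, hasq, hasum, hacl⟩ := hcoef
  obtain ⟨T₀, hT₀⟩ : ∃ T₀ : G → ℂ, T₀ = ∑ α ∈ R χ₀, a α • α := ⟨_, rfl⟩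
  have hT₀g : IsGeneralizedCharacter G T₀ := by
    rw [hT₀]
    exact isGeneralizedCharacter_sum _ _
      (fun α hα => isGeneralizedCharacter_zsmul (hS.virtual χ₀ hχ₀ α hα) _)
  have hT₀α : ∀ α ∈ R χ₀, classInner T₀ α = (a α : ℂ) := fun α hα => by
    rw [hT₀]; exact classInner_sum_zsmul_orthonormal (R χ₀) hR₀.1 hR₀.2 a hα
  have hsumsq : ∑ α ∈ R χ₀, a α * a α = (n χ₀ : ℤ) := by
    rw [← hasum]
    apply Finset.sum_congr rfl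
    intro α hα
    rw [← sq]; exact hasq α hα
  have hT₀n : classInner T₀ T₀ = (n χ₀ : ℂ) := by
    have h1 := classInner_sum_zsmul_of_coeff (R χ₀) a T₀ a hT₀α
    rw [← hT₀] at h1
    rw [h1, hsumsq]
    push_cast; rfl
  have hT₀i : ∀ ψ ∈ T, classInner T₀ (τ (χ₀ - ψ)) = classInner χ₀ (χ₀ - ψ) := by
    intro ψ hψ
    by_cases hψ1 : ψ = χ₀
    · rw [hψ1, sub_self, hτ0, classInner_zero_right, classInner_zero_right]
    · have hRHS : classInner χ₀ (χ₀ - ψ) = (n χ₀ : ℂ) := by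
        rw [classInner_sub_right, hn χ₀ hχ₀, hS.orthogonal χ₀ hχ₀ ψ hψ (Ne.symm hψ1), sub_zero]
      rw [hRHS]
      by_cases hψ2 : ψ = conjFun χ₀
      · rw [hψ2, hS.sum_eq χ₀ hχ₀, classInner_sum_right,
          Finset.sum_congr rfl (fun α hα => hT₀α α hα)]
        have : ((∑ α ∈ R χ₀, a α : ℤ) : ℂ) = ((n χ₀ : ℤ) : ℂ) := by rw [hasum]
        push_cast at this
        exact this
      · rw [hT₀, classInner_sum_zsmul_of_coeff (R χ₀) a _ a (hacl ψ hψ hψ1 hψ2), hsumsq]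
        push_cast; rfl
  -- images
  set Y : (L → ℂ) → (G → ℂ) := fun φ => T₀ - τ (χ₀ - φ) with hY
  have hYinner : ∀ φ ∈ T, ∀ ψ ∈ T, classInner (Y φ) (Y ψ) = classInner φ ψ := by
    intro φ hφ ψ hψ
    have e1 := hT₀i ψ hψ
    have e2 : classInner (τ (χ₀ - φ)) T₀ = classInner (χ₀ - φ) χ₀ := by
      rw [← classInner_conj_symm, hT₀i φ hφ, classInner_conj_symm]
    have e3 := lio_inner hτ (hdiff χ₀ hχ₀' φ hφ) (hdiff χ₀ hχ₀' ψ hψ)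
    show classInner (T₀ - τ (χ₀ - φ)) (T₀ - τ (χ₀ - ψ)) = classInner φ ψ
    rw [classInner_sub_left, classInner_sub_right, classInner_sub_right, hT₀n, e1, e2, e3]
    simp only [classInner_sub_left, classInner_sub_right]
    rw [hn χ₀ hχ₀]
    ring
  have hYg : ∀ φ ∈ T, IsGeneralizedCharacter G (Y φ) := fun φ hφ =>
    isGeneralizedCharacter_sub hT₀g (lio_genChar hτ (hdiff χ₀ hχ₀' φ hφ))
  have hneT : ∀ ξ ∈ T, classInner ξ ξ ≠ 0 := fun ξ hξ => coh_norm_ne_zero hS hξ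
  have horthT : ∀ ξ ∈ T, ∀ η ∈ T, ξ ≠ η → classInner ξ η = 0 :=
    fun ξ hξ η hη h => hS.orthogonal ξ hξ η hη h
  have hiso := isLinearIsometryOn_extendIso T hneT horthT Y hYinner hYg
  have hbase : ∀ ξ ∈ T, τ ((((fun _ => d) χ₀ : ℕ) : ℤ) • ξ - (((fun _ => d) ξ : ℕ) : ℤ) • χ₀) =
      (((fun _ => d) χ₀ : ℕ) : ℤ) • Y ξ - (((fun _ => d) ξ : ℕ) : ℤ) • Y χ₀ := by
    intro ξ hξ
    show τ ((d : ℤ) • ξ - (d : ℤ) • χ₀) = (d : ℤ) • (T₀ - τ (χ₀ - ξ)) - (d : ℤ) • (T₀ - τ (χ₀ - χ₀))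
    rw [← smul_sub, lio_zsmul hτ (hdiff ξ hξ χ₀ hχ₀'), ← smul_sub, sub_self, hτ0]
    have e : ξ - χ₀ = -(χ₀ - ξ) := by abel
    rw [e, lio_neg hτ (hdiff χ₀ hχ₀' ξ hξ)]
    congr 1
    abel
  have hagree := extendIso_eq_of_base T hneT horthT Y hτ (fun _ => d) hd hχ₀' hd0 hbase
  exact ⟨⟨χ₀ - conjFun χ₀, coh_sub_conj_mem hS hχ₀, coh_sub_conj_ne_zero hS hχ₀⟩,
    extendIso T Y, hiso, hagree⟩

end Cfsg.Agent.S1517
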