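import Cfsg.Statements.S0255
import Cfsg.Agent.S0242
import Cfsg.Agent.Lib.H29.ExcIso
import Cfsg.Agent.Lib.H29.SLNormal
import Cfsg.Agent.Lib.H2.SLCenterCard
import Cfsg.Agent.Lib.H2.SLMapEquiv

set_option autoImplicit false
open Cfsg

namespace Cfsg.Agent.S0255

open Matrix

/-- representative vector of a point of the projective line over `𝔽₇` (`7 = ∞`) -/
def pt (i : Fin 8) : Fin 2 → ZMod 7 :=
  Fin.lastCases (![1, 0] : Fin 2 → ZMod 7) (fun x : Fin 7 => (![(x : ZMod 7), 1] : Fin 2 → ZMod 7)) i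

/-- the point of a nonzero vector -/
def nrm (v : Fin 2 → ZMod 7) : Fin 8 :=
  if v 1 = 0 then Fin.last 7 else Fin.castSucc (v 0 * (v 1) ^ 5 : ZMod 7)

theorem nrm_smul : ∀ (c : ZMod 7) (v : Fin 2 → ZMod 7), c ≠ 0 → nrm (c • v) = nrm v := by
  decide +kernel

theorem pt_nrm : ∀ v : Fin 2 → ZMod 7, v ≠ 0 → ∃ c : ZMod 7, c ≠ 0 ∧ pt (nrm v) = c • v := by
  decide +kernel

theorem nrm_pt : ∀ i, nrm (pt i) = i := by decide +kernel

theorem pt_ne : ∀ i, pt i ≠ 0 := by decide +kernel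

/-- Möbius action of a `2 × 2` matrix on the eight points -/
def mobFun (g : Matrix (Fin 2) (Fin 2) (ZMod 7)) (i : Fin 8) : Fin 8 := nrm (g *ᵥ pt i)

theorem mobFun_one (i : Fin 8) : mobFun 1 i = i := by
  rw [mobFun, Matrix.one_mulVec, nrm_pt]

theorem mobFun_mul (g h : Matrix (Fin 2) (Fin 2) (ZMod 7)) (hh : IsUnit h.det) (i : Fin 8) :
    mobFun (g * h) i = mobFun g (mobFun h i) := by
  have hw : h *ᵥ pt i ≠ 0 := by
    intro h0
    apply pt_ne i
    have := congrArg (fun w => h⁻¹ *ᵥ w) h0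
    simp only [Matrix.mulVec_mulVec, Matrix.mulVec_zero] at this
    rwa [Matrix.nonsing_inv_mul _ hh, Matrix.one_mulVec] at this
  obtain ⟨c, hc, e⟩ := pt_nrm _ hw
  unfold mobFun
  rw [e, Matrix.mulVec_smul, nrm_smul c _ hc, Matrix.mulVec_mulVec]

/-- the Hamming code basis modulo the all-ones vector -/
def Lc : Matrix (Fin 8) (Fin 3) (ZMod 2) :=
  !![1, 0, 0; 1, 1, 0; 1, 1, 1; 0, 1, 1; 1, 0, 1; 0, 1, 0; 0, 0, 1; 0, 0, 0]

def Rc : Matrix (Fin 3) (Fin 8) (ZMod 2) :=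
  !![0, 0, 0, 0, 1, 0, 1, 0; 0, 0, 0, 0, 0, 1, 0, 1; 0, 0, 0, 0, 0, 0, 1, 1]

def dc : Fin 8 → ZMod 2 := ![0, 0, 0, 0, 0, 0, 0, 1]

theorem RL : Rc * Lc = 1 := by decide +kernel
theorem R1 : Rc *ᵥ (1 : Fin 8 → ZMod 2) = 0 := by decide +kernel
theorem dL : dc ᵥ* Lc = 0 := by decide +kernel
theorem d1 : dc ⬝ᵥ (1 : Fin 8 → ZMod 2) = 1 := by decide +kernel

/-- permuting rows by the Möbius action -/
def gact {μ : Type*} (g : Matrix (Fin 2) (Fin 2) (ZMod 7)) (X : Matrix (Fin 8) μ (ZMod 2)) :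
    Matrix (Fin 8) μ (ZMod 2) := X.submatrix (mobFun g) id

theorem gact_mul_right {μ ν : Type*} [Fintype μ] (g : Matrix (Fin 2) (Fin 2) (ZMod 7))
    (X : Matrix (Fin 8) μ (ZMod 2)) (N : Matrix μ ν (ZMod 2)) :
    gact g (X * N) = gact g X * N := by
  ext i j
  simp [gact, Matrix.mul_apply]

theorem gact_add {μ : Type*} (g : Matrix (Fin 2) (Fin 2) (ZMod 7))
    (X Y : Matrix (Fin 8) μ (ZMod 2)) : gact g (X + Y) = gact g X + gact g Y := by
  ext i j
  simp [gact]

theorem gact_one_vec {μ : Type*} (g : Matrix (Fin 2) (Fin 2) (ZMod 7)) (e : μ → ZMod 2) :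
    gact g (vecMulVec (1 : Fin 8 → ZMod 2) e) = vecMulVec (1 : Fin 8 → ZMod 2) e := by
  ext i j
  simp [gact, vecMulVec_apply]

theorem gact_gact {μ : Type*} (g h : Matrix (Fin 2) (Fin 2) (ZMod 7)) (hg : IsUnit g.det)
    (X : Matrix (Fin 8) μ (ZMod 2)) : gact g (gact h X) = gact (h * g) X := by
  ext i j
  simp [gact, mobFun_mul h g hg]

/-- the code is invariant under `g` -/
def Inv (g : Matrix (Fin 2) (Fin 2) (ZMod 7)) : Prop :=
  ∃ (N : Matrix (Fin 3) (Fin 3) (ZMod 2)) (e : Fin 3 → ZMod 2),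
    gact g Lc = Lc * N + vecMulVec (1 : Fin 8 → ZMod 2) e

/-- the matrix of `g` on the code modulo all-ones -/
def Nc (g : Matrix (Fin 2) (Fin 2) (ZMod 7)) : Matrix (Fin 3) (Fin 3) (ZMod 2) := Rc * gact g Lc

theorem Inv.eq {g : Matrix (Fin 2) (Fin 2) (ZMod 7)} (h : Inv g) :
    ∃ e : Fin 3 → ZMod 2, gact g Lc = Lc * Nc g + vecMulVec (1 : Fin 8 → ZMod 2) e := by
  obtain ⟨N, e, he⟩ := h
  refine ⟨e, ?_⟩
  have : Nc g = N := by
    unfold Nc
    rw [he, Matrix.mul_add, ← Matrix.mul_assoc, RL, Matrix.one_mul, Matrix.mul_vecMulVec, R1]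
    simp
  rw [this, he]

theorem Nc_mul (g h : Matrix (Fin 2) (Fin 2) (ZMod 7)) (hg : IsUnit g.det) (hh : Inv h) :
    Nc (h * g) = Nc g * Nc h := by
  obtain ⟨e, he⟩ := hh.eq
  have h1 : Nc (h * g) = Rc * gact g (gact h Lc) := by
    rw [gact_gact g h hg]; rfl
  rw [h1, he, gact_add, gact_mul_right, gact_one_vec, Matrix.mul_add,
    Matrix.mul_vecMulVec, R1, ← Matrix.mul_assoc]
  simp [Nc]

theorem Inv_mul (g h : Matrix (Fin 2) (Fin 2) (ZMod 7)) (hg : IsUnit g.det) (hgI : Inv g)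
    (hh : Inv h) : Inv (h * g) := by
  obtain ⟨e, he⟩ := hh.eq
  obtain ⟨e', he'⟩ := hgI.eq
  refine ⟨Nc g * Nc h, e' ᵥ* Nc h + e, ?_⟩
  rw [← gact_gact g h hg, he, gact_add, gact_mul_right, gact_one_vec, he', Matrix.add_mul,
    Matrix.mul_assoc, Matrix.vecMulVec_mul, Matrix.vecMulVec_add, add_assoc]

theorem Nc_one : Nc 1 = 1 := by
  unfold Nc
  have : gact 1 Lc = Lc := by
    ext i j
    simp [gact, mobFun_one]
  rw [this, RL]

theorem Inv_transvection : ∀ (i j : Fin 2) (c : ZMod 7), i ≠ j →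
    Inv (Matrix.transvection i j c) := by
  have key : ∀ (i j : Fin 2) (c : ZMod 7), i ≠ j →
      (gact (Matrix.transvection i j c) Lc = Lc * Nc (Matrix.transvection i j c) +
        vecMulVec (1 : Fin 8 → ZMod 2) (dc ᵥ* gact (Matrix.transvection i j c) Lc)) := by
    decide +kernel
  intro i j c hij
  exact ⟨_, _, key i j c hij⟩

instance fact7 : Fact (Nat.Prime 7) := ⟨by norm_num⟩

theorem isUnit_det (g : Matrix.SpecialLinearGroup (Fin 2) (ZMod 7)) : IsUnit g.1.det := by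
  rw [g.2]; exact isUnit_one

theorem Inv_all (g : Matrix.SpecialLinearGroup (Fin 2) (ZMod 7)) : Inv g.1 := by
  refine Cfsg.Agent.Lib.H2.SL_transvection_induction (fun g => Inv g.1) ?_ ?_ g
  · intro i j hij c
    have h1 : (Matrix.SpecialLinearGroup.transvection hij c).1 = Matrix.transvection i j c := rfl
    show Inv (Matrix.SpecialLinearGroup.transvection hij c).1
    rw [h1]
    exact Inv_transvection i j c hij
  · intro A B hA hB
    show Inv (A * B).1
    rw [Matrix.SpecialLinearGroup.coe_mul]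
    exact Inv_mul B.1 A.1 (isUnit_det B) hB hA

/-- the (dual) representation on the Hamming code modulo all-ones -/
def rho₀ : Matrix.SpecialLinearGroup (Fin 2) (ZMod 7) →* Matrix (Fin 3) (Fin 3) (ZMod 2) where
  toFun g := (Nc g.1)ᵀ
  map_one' := by
    rw [Matrix.SpecialLinearGroup.coe_one, Nc_one, Matrix.transpose_one]
  map_mul' g h := by
    rw [Matrix.SpecialLinearGroup.coe_mul, Nc_mul h.1 g.1 (isUnit_det h) (Inv_all g),
      Matrix.transpose_mul]

theorem det_rho₀ (g : Matrix.SpecialLinearGroup (Fin 2) (ZMod 7)) : (rho₀ g).det = 1 := by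
  have h1 : rho₀ g * rho₀ g⁻¹ = 1 := by
    rw [← map_mul, mul_inv_cancel, map_one]
  have h2 := congrArg Matrix.det h1
  rw [Matrix.det_mul, Matrix.det_one] at h2
  have key : ∀ x y : ZMod 2, x * y = 1 → x = 1 := by decide
  exact key _ _ h2

/-- `SL₂(7) → SL₃(2)` -/
def rho : Matrix.SpecialLinearGroup (Fin 2) (ZMod 7) →* Matrix.SpecialLinearGroup (Fin 3) (ZMod 2) where
  toFun g := ⟨rho₀ g, det_rho₀ g⟩
  map_one' := Subtype.ext (map_one rho₀)
  map_mul' g h := Subtype.ext (map_mul rho₀ g h)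

theorem rho_ne_one : rho (Matrix.SpecialLinearGroup.transvection (zero_ne_one (α := Fin 2)) 1) ≠ 1 := by
  intro h
  have h1 := congrArg Subtype.val h
  have h2 : (Nc (Matrix.transvection 0 1 (1 : ZMod 7)))ᵀ = 1 := h1
  revert h2
  decide +kernel

theorem perfect7 : commutator (Matrix.SpecialLinearGroup (Fin 2) (ZMod 7)) = ⊤ :=
  Matrix.SL2.commutator_eq_top (a := (2 : ZMod 7)) (by decide) (by decide)

theorem ker_le_center : rho.ker ≤ Subgroup.center (Matrix.SpecialLinearGroup (Fin 2) (ZMod 7)) := by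
  apply Cfsg.Agent.Lib.H29.SLNormal.le_center_of_normal perfect7
  intro h
  apply rho_ne_one
  have : Matrix.SpecialLinearGroup.transvection (zero_ne_one (α := Fin 2)) (1 : ZMod 7) ∈ rho.ker :=
    h ▸ Subgroup.mem_top _
  exact this

theorem center_SL3 : Subgroup.center (Matrix.SpecialLinearGroup (Fin 3) (ZMod 2)) = ⊥ := by
  rw [eq_bot_iff]
  intro A hA
  rw [Matrix.SpecialLinearGroup.mem_center_iff] at hA
  obtain ⟨r, hr, hA⟩ := hA
  have key : ∀ x : ZMod 2, x ^ 3 = 1 → x = 1 := by decide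
  have hr1 : r = 1 := key r (by simpa using hr)
  rw [Subgroup.mem_bot]
  apply Subtype.ext
  rw [← hA, hr1]
  simp

theorem card_SL2 : Nat.card (Matrix.SpecialLinearGroup (Fin 2) (ZMod 7)) = 336 := by
  have h1 := Cfsg.Agent.S0242.result (F := ZMod 7) (q := 7) (by simp) 2 (by norm_num)
  simp [Fin.prod_univ_two] at h1
  rw [Nat.card_eq_fintype_card]
  omega

theorem card_SL3 : Nat.card (Matrix.SpecialLinearGroup (Fin 3) (ZMod 2)) = 168 := by
  have h1 := Cfsg.Agent.S0242.result (F := ZMod 2) (q := 2) (by simp) 3 (by norm_num)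
  simp [Fin.prod_univ_three] at h1
  rw [Nat.card_eq_fintype_card]
  omega

theorem rho_surjective : Function.Surjective rho := by
  rw [← MonoidHom.range_eq_top]
  apply Subgroup.eq_top_of_le_card
  have hker := Subgroup.card_mul_index rho.ker
  rw [Subgroup.index_ker, card_SL2] at hker
  have hc := Cfsg.Agent.Lib.H2.card_center_SL (F := ZMod 7) 2 (by norm_num)
  have hk : Nat.card rho.ker ≤ 2 := by
    have := Subgroup.card_le_of_le ker_le_center
    rw [hc] at this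
    simpa using this
  rw [card_SL3]
  nlinarith

theorem comap_center :
    (Subgroup.center (Matrix.SpecialLinearGroup (Fin 3) (ZMod 2))).comap rho =
      Subgroup.center (Matrix.SpecialLinearGroup (Fin 2) (ZMod 7)) := by
  apply le_antisymm
  · intro g hg
    rw [Subgroup.mem_comap, center_SL3, Subgroup.mem_bot] at hg
    exact ker_le_center (MonoidHom.mem_ker.2 hg)
  · intro z hz
    rw [Subgroup.mem_comap, Subgroup.mem_center_iff]
    intro y
    obtain ⟨g, rfl⟩ := rho_surjective y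
    rw [← map_mul, ← map_mul, Subgroup.mem_center_iff.1 hz g]

/-- PSL_2(7) is isomorphic to PSL_3(2). -/
theorem result {F K : Type*} [Field F] [Fintype F] [Field K] [Fintype K] (hF : Fintype.card F = 7) (hK : Fintype.card K = 2) : Nonempty (Matrix.ProjectiveSpecialLinearGroup (Fin 2) F ≃* Matrix.ProjectiveSpecialLinearGroup (Fin 3) K) := by
  obtain ⟨e⟩ := Cfsg.Agent.Lib.H29.ExcIso.quot_center_equiv rho rho_surjective comap_center
  haveI : Fact (Nat.Prime 2) := ⟨Nat.prime_two⟩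
  let r7 : ZMod 7 ≃+* F := ZMod.ringEquivOfPrime F (by norm_num) hF
  let r2 : ZMod 2 ≃+* K := ZMod.ringEquivOfPrime K Nat.prime_two hK
  obtain ⟨e7⟩ := Cfsg.Agent.Lib.H29.ExcIso.quot_center_congr
    (Cfsg.Agent.Lib.H2.slMapEquiv (n := Fin 2) r7)
  obtain ⟨e2⟩ := Cfsg.Agent.Lib.H29.ExcIso.quot_center_congr
    (Cfsg.Agent.Lib.H2.slMapEquiv (n := Fin 3) r2)
  exact ⟨e7.symm.trans (e.trans e2)⟩

end Cfsg.Agent.S0255
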