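import Cfsg.Statements.S0944
import Cfsg.Agent.Lib.L0.CharBasic
import Cfsg.Agent.Lib.H23.DegreeDvd
-- import your own Cfsg.Agent.* helpers here

set_option autoImplicit false
open Cfsg

namespace Cfsg.Agent.S0944

open Module in
/-- For an involutory endomorphism, the trace is an integer congruent to the dimension mod 2. -/
theorem trace_involution {V : Type*} [AddCommGroup V] [Module ℂ V] [FiniteDimensional ℂ V]
    (f : Module.End ℂ V) (hf : f ^ 2 = 1) :
    ∃ n : ℤ, LinearMap.trace ℂ V f = (n : ℂ) ∧ (2 : ℤ) ∣ (finrank ℂ V : ℤ) - n := by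
  classical
  have hss := Cfsg.Agent.Lib.L0.isSemisimple_of_pow_eq_one (by norm_num : 0 < 2) hf
  have h1 := Cfsg.Agent.Lib.L0.trace_pow_eq_sum hss 1
  simp only [pow_one] at h1
  have hdim := Cfsg.Agent.Lib.L0.sum_finrank_eigenspace hss
  have hμ : ∀ μ : f.Eigenvalues, (μ : ℂ) = 1 ∨ (μ : ℂ) = -1 := fun μ =>
    sq_eq_one_iff.mp (Cfsg.Agent.Lib.L0.eigenvalue_pow_eq_one hf μ)
  refine ⟨∑ μ : f.Eigenvalues, (finrank ℂ (f.eigenspace (μ : ℂ)) : ℤ) * (if (μ : ℂ) = 1 then 1 else -1), ?_, ?_⟩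
  · rw [h1]
    push_cast
    refine Finset.sum_congr rfl fun μ _ => ?_
    rcases hμ μ with h | h
    · simp [h]
    · have : ¬ ((μ : ℂ) = 1) := by rw [h]; norm_num
      simp [h]
      norm_num
  · rw [← hdim]
    push_cast
    rw [← Finset.sum_sub_distrib]
    refine Finset.dvd_sum fun μ _ => ?_
    split_ifs
    · simp
    · refine ⟨(finrank ℂ (f.eigenspace (μ : ℂ)) : ℤ), by ring⟩

/-- Let χ be an irreducible character of the finite group G and u an involution. Then χ u is a rational integer n with n ≡ χ 1 (mod 2). -/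
theorem result {G : Type*} [Group G] [Finite G] (χ : Cfsg.IrrCharacter G) (u : G) (hu : orderOf u = 2) : ∃ n : ℤ, (χ : G → ℂ) u = (n : ℂ) ∧ (2 : ℤ) ∣ (Cfsg.charDegree (χ : G → ℂ) : ℤ) - n := by
  obtain ⟨m, ρ, hirr, hρ⟩ := χ.2
  have hf : ρ u ^ 2 = 1 := by
    rw [← hu]; exact Cfsg.Agent.Lib.L0.rep_pow_orderOf ρ u
  obtain ⟨n, hn, hdvd⟩ := trace_involution (ρ u) hf
  refine ⟨n, ?_, ?_⟩
  · rw [← hρ]; exact hn
  · have h1 : (χ : G → ℂ) 1 = (Module.finrank ℂ (Fin m → ℂ) : ℕ) := by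
      rw [← hρ]; exact Representation.char_one ρ
    rw [Cfsg.Agent.Lib.H23.charDegree_eq_of_apply_one h1]
    exact hdvd

end Cfsg.Agent.S0944
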