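import Mathlib
import Cfsg.Prelude.Def_Characters
import Cfsg.Agent.Lib.L0.D8Special
import Cfsg.Agent.Lib.L0.CharPairs
import Cfsg.Agent.Lib.H24.CharOrth
import Cfsg.Agent.S0944

set_option autoImplicit false
open Cfsg

namespace Cfsg.Agent.S0848

open Cfsg.Agent.Lib.L0 DihedralGroup Subgroup
open scoped ComplexConjugate

theorem arithA (m k : ℕ) (h : m * (k + 1) ^ 2 = 16 * (k * (2 * k + 1))) : k ≤ 3 := by
  have c1 : Nat.Coprime (k + 1) k := by simp
  have c2 : Nat.Coprime (k + 1) (2 * k + 1) := by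
    have : 2 * k + 1 = k + (k + 1) := by ring
    rw [this]; simp
  have c3 : Nat.Coprime ((k + 1) ^ 2) (k * (2 * k + 1)) :=
    Nat.Coprime.pow_left 2 (Nat.Coprime.mul_right c1 c2)
  have hd : (k + 1) ^ 2 ∣ 16 * (k * (2 * k + 1)) := ⟨m, by rw [← h]; ring⟩
  have hd2 : (k + 1) ^ 2 ∣ 16 := c3.dvd_of_dvd_mul_right hd
  have := Nat.le_of_dvd (by norm_num) hd2
  nlinarith

theorem arithB (m k : ℕ) (h : m * k ^ 2 = 16 * ((2 * k + 1) * (k + 1))) : k ≤ 4 := by
  have c1 : Nat.Coprime k (k + 1) := by simp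
  have c2 : Nat.Coprime k (2 * k + 1) := by
    have : 2 * k + 1 = k + (k + 1) := by ring
    rw [this]; simp
  have c3 : Nat.Coprime (k ^ 2) ((2 * k + 1) * (k + 1)) :=
    Nat.Coprime.pow_left 2 (Nat.Coprime.mul_right c2 c1)
  have hd : k ^ 2 ∣ 16 * ((2 * k + 1) * (k + 1)) := ⟨m, by rw [← h]; ring⟩
  have hd2 : k ^ 2 ∣ 16 := c3.dvd_of_dvd_mul_right hd
  have := Nat.le_of_dvd (by norm_num) hd2
  nlinarith

theorem arith (g d : ℕ) (n : ℤ) (hd : 0 < d) (hpar : (2 : ℤ) ∣ (d : ℤ) - n) (hn : n = 1 ∨ n = 2)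
    (h8 : 8 ∣ g) (h16 : ¬ 16 ∣ g)
    (heq : (256 : ℤ) * d * (d + 1) = g * (d ^ 2 + (6 * n - 8) * d + n ^ 2)) :
    g = 168 ∨ g = 360 := by
  obtain ⟨m, rfl⟩ := h8
  rcases hn with rfl | rfl
  · -- n = 1, d odd
    obtain ⟨j, hj⟩ := hpar
    have hdodd : ∃ k : ℕ, d = 2 * k + 1 := by
      refine ⟨(d - 1) / 2, ?_⟩
      omega
    obtain ⟨k, rfl⟩ := hdodd
    have h1 : m * k ^ 2 = 16 * ((2 * k + 1) * (k + 1)) := by
      have : ((m * k ^ 2 : ℕ) : ℤ) = ((16 * ((2 * k + 1) * (k + 1)) : ℕ) : ℤ) := by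
        push_cast
        push_cast at heq
        nlinarith
      exact_mod_cast this
    have hk0 : 0 < k := by
      rcases Nat.eq_zero_or_pos k with h0 | h0
      · rw [h0] at h1; simp at h1
      · exact h0
    have hk4 := arithB m k h1
    interval_cases k
    · exfalso; apply h16; have : m = 96 := by omega
      rw [this]; norm_num
    · exfalso; apply h16; have : m = 60 := by omega
      rw [this]; norm_num
    · exfalso; omega
    · right; omega
  · -- n = 2, d even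
    obtain ⟨j, hj⟩ := hpar
    have hdeven : ∃ k : ℕ, d = 2 * k := by
      refine ⟨d / 2, ?_⟩
      omega
    obtain ⟨k, rfl⟩ := hdeven
    have h1 : m * (k + 1) ^ 2 = 16 * (k * (2 * k + 1)) := by
      have : ((m * (k + 1) ^ 2 : ℕ) : ℤ) = ((16 * (k * (2 * k + 1)) : ℕ) : ℤ) := by
        push_cast
        push_cast at heq
        nlinarith
      exact_mod_cast this
    have hk3 := arithA m k h1
    interval_cases k
    · omega
    · exfalso; apply h16; have : m = 12 := by omega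
      rw [this]; norm_num
    · exfalso; omega
    · left; omega

theorem no_index_two {G : Type*} [Group G] (hperf : commutator G = ⊤) (H : Subgroup G) :
    H.index ≠ 2 := by
  intro hH
  haveI : H.Normal := Subgroup.normal_of_index_eq_two hH
  have hcard : Nat.card (G ⧸ H) = 2 := hH
  haveI : Fact (Nat.Prime 2) := ⟨Nat.prime_two⟩
  haveI : IsCyclic (G ⧸ H) := isCyclic_of_prime_card hcard
  letI : CommGroup (G ⧸ H) := IsCyclic.commGroup
  have h1 := Abelianization.commutator_subset_ker (QuotientGroup.mk' H)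
  rw [QuotientGroup.ker_mk', hperf] at h1
  have h2 : H = ⊤ := top_le_iff.mp h1
  rw [h2, Subgroup.index_top] at hH
  omega

/-- The three distinct characters bound the column sum. -/
theorem col_bound {G : Type*} [Group G] [Fintype G] (t : G) {χ₁ χ₂ : G → ℂ}
    (h1 : IsIrrCharacter G χ₁) (h2 : IsIrrCharacter G χ₂) (hne1 : χ₁ ≠ 1) (hne2 : χ₂ ≠ 1)
    (hne : χ₁ ≠ χ₂) (n : ℤ) (hn2 : χ₂ t = n) (hn1 : χ₁ t = n - 3)
    (hc : Nat.card (Subgroup.centralizer ({t} : Set G)) = 8) :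
    1 + n ^ 2 + (n - 3) ^ 2 ≤ 8 := by
  classical
  have := Fintype.ofFinite (IrrCharacter G)
  have hso := Cfsg.Agent.Lib.H24.second_orthogonality t t
  rw [if_pos (IsConj.refl t), hc] at hso
  have hnorm : ∀ χ : IrrCharacter G, (χ : G → ℂ) t * conj ((χ : G → ℂ) t)
      = ((Complex.normSq ((χ : G → ℂ) t) : ℝ) : ℂ) := fun χ => Complex.mul_conj _
  simp only [hnorm] at hso
  rw [← Complex.ofReal_sum] at hso
  have hso' : ∑ χ : IrrCharacter G, Complex.normSq ((χ : G → ℂ) t) = 8 := by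
    have : ((8 : ℕ) : ℂ) = ((8 : ℝ) : ℂ) := by norm_num
    rw [this] at hso
    exact Complex.ofReal_injective hso
  set s : Finset (IrrCharacter G) := {⟨1, isIrrCharacter_one⟩, ⟨χ₁, h1⟩, ⟨χ₂, h2⟩} with hs
  have hle : ∑ χ ∈ s, Complex.normSq ((χ : G → ℂ) t)
      ≤ ∑ χ : IrrCharacter G, Complex.normSq ((χ : G → ℂ) t) :=
    Finset.sum_le_univ_sum_of_nonneg (fun χ => Complex.normSq_nonneg _)
  have hsum : ∑ χ ∈ s, Complex.normSq ((χ : G → ℂ) t)
      = 1 + ((n : ℝ) - 3) ^ 2 + (n : ℝ) ^ 2 := by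
    rw [hs, Finset.sum_insert, Finset.sum_insert, Finset.sum_singleton]
    · simp only [Pi.one_apply, hn1, hn2]
      have e1 : ((n : ℂ) - 3) = (((n : ℝ) - 3 : ℝ) : ℂ) := by push_cast; ring
      have e2 : (n : ℂ) = ((n : ℝ) : ℂ) := by push_cast; ring
      rw [e1, e2, Complex.normSq_ofReal, Complex.normSq_ofReal, map_one]
      ring
    · rw [Finset.mem_singleton]
      intro h; exact hne (congrArg Subtype.val h)
    · rw [Finset.mem_insert, Finset.mem_singleton]
      rintro (h | h)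
      · exact hne1 (congrArg Subtype.val h).symm
      · exact hne2 (congrArg Subtype.val h).symm
  rw [hsum, hso'] at hle
  have : ((1 + n ^ 2 + (n - 3) ^ 2 : ℤ) : ℝ) ≤ ((8 : ℤ) : ℝ) := by
    push_cast; linarith
  exact_mod_cast this

/-- If a finite group equals its own commutator subgroup and contains an involution whose centralizer is isomorphic to the dihedral group of order 8, then the group has order 168 or 360. -/
theorem result {G : Type*} [Group G] [Finite G] (hperf : commutator G = ⊤) (t : G) (ht : orderOf t = 2) (e : Subgroup.centralizer ({t} : Set G) ≃* DihedralGroup 4) : Nat.card G = 168 ∨ Nat.card G = 360 := by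
  classical
  have := Fintype.ofFinite G
  obtain ⟨φ, h, rfl⟩ := exists_d8Cent t ht e
  have hno : ∀ H : Subgroup G, H.index ≠ 2 := no_index_two hperf
  have hconj := h.isConj_of_orderOf_eq_two hno
  have hSD := h.specialData
  have hI1 : ((D8Cent.lam φ h ⟨φ (r 1), D8Cent.mem_zpowers 1⟩ : ℂˣ) : ℂ) = Complex.I := by
    rw [h.lam_apply 1]
    have : (1 : ZMod 4).val = 1 := rfl
    rw [this, pow_one]
  have hI2 : ((D8Cent.lam φ h ⟨φ (r 2), D8Cent.mem_zpowers 2⟩ : ℂˣ) : ℂ) = -1 := by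
    rw [h.lam_apply 2]
    have : (2 : ZMod 4).val = 2 := rfl
    rw [this, Complex.I_sq]
  have hI3 : ((D8Cent.lam φ h ⟨φ (r 3), D8Cent.mem_zpowers 3⟩ : ℂˣ) : ℂ) = -Complex.I := by
    rw [h.lam_apply 3]
    have : (3 : ZMod 4).val = 3 := rfl
    rw [this, Complex.I_pow_three]
  have hI0 : ((D8Cent.lam φ h ⟨φ (r 0), D8Cent.mem_zpowers 0⟩ : ℂˣ) : ℂ) = 1 := by
    rw [h.lam_apply 0]
    have : (0 : ZMod 4).val = 0 := rfl
    rw [this, pow_zero]
  have hsq : ∃ x : zpowers (φ (r 1)), D8Cent.lam φ h x * D8Cent.lam φ h x ≠ 1 := by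
    refine ⟨⟨φ (r 1), D8Cent.mem_zpowers 1⟩, ?_⟩
    intro h1
    have h2 := congrArg (fun u : ℂˣ => (u : ℂ)) h1
    simp only [Units.val_mul, hI1, Units.val_one, Complex.I_mul_I] at h2
    norm_num at h2
  obtain ⟨χ₁, χ₂, i1, i2, hne1, hne2, hne, hdeg, hΘ⟩ := hSD.exists_decomp hsq
  -- value at `t`
  have hΘt : indFun (zpowers (φ (r 1))) (oneSub (D8Cent.lam φ h)) (φ (r 2)) = 4 := by
    have := hSD.indFun_apply_mem ⟨φ (r 2), D8Cent.mem_zpowers 2⟩
    simp only [Units.val_inv_eq_inv_val, hI2] at this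
    rw [this]; norm_num
  obtain ⟨n, hn, hpar⟩ := Cfsg.Agent.S0944.result ⟨χ₂, i2⟩ (φ (r 2)) h.orderOf_t
  simp only at hn hpar
  have hn1 : χ₁ (φ (r 2)) = n - 3 := by
    rw [hΘ] at hΘt
    simp only [Pi.sub_apply, Pi.add_apply, Pi.one_apply, hn] at hΘt
    linear_combination -hΘt
  obtain ⟨d, hd, hd2⟩ := irr_apply_one_pos i2
  have hcd : charDegree χ₂ = d := by
    unfold charDegree
    rw [hd2]; simp
  rw [hcd] at hpar
  have hbound := col_bound (φ (r 2)) i1 i2 hne1 hne2 hne n hn hn1 h.card_centralizer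
  have hn12 : n = 1 ∨ n = 2 := by
    have h1 : 1 ≤ n := by nlinarith
    have h2 : n ≤ 2 := by nlinarith
    omega
  -- the counting identity
  haveI : Fintype (zpowers (φ (r 1))) := Fintype.ofFinite _
  have key := sum_mul_card_pairs (zpowers (φ (r 1))) (oneSub (D8Cent.lam φ h)) (φ (r 2))
  rw [h.sum_zpowers, h.card_pairs hconj (r 1) (Or.inl rfl), h.card_pairs hconj (r 2) (Or.inr (Or.inl rfl)),
    h.card_pairs hconj (r 3) (Or.inr (Or.inr rfl)), h.card_zpowers] at key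
  simp only [oneSub, hI0, hI1, hI2, hI3] at key
  rw [finsum_mul_classInner_decomp i1 i2 _ hΘ
    (fun χ => (χ : G → ℂ) (φ (r 2)) * (χ : G → ℂ) (φ (r 2)) / (χ : G → ℂ) 1)] at key
  simp only [Pi.one_apply, hn, hn1, hdeg, hd2] at key
  have hK := Cfsg.Agent.Lib.H5.card_conj_mul_card_centralizer (φ (r 2))
  rw [h.card_centralizer] at hK
  have hKc : (Nat.card {g : G // IsConj (φ (r 2)) g} : ℂ) * 8 = (Nat.card G : ℂ) := by
    exact_mod_cast hK
  have hg0 : (Nat.card G : ℂ) ≠ 0 := by exact_mod_cast (Nat.card_pos (α := G)).ne'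
  have hd0 : (d : ℂ) ≠ 0 := by exact_mod_cast hd.ne'
  have hd1 : (d : ℂ) + 1 ≠ 0 := by
    have : ((d + 1 : ℕ) : ℂ) ≠ 0 := by exact_mod_cast (Nat.succ_ne_zero d)
    simpa using this
  have hKe : (Nat.card {g : G // IsConj (φ (r 2)) g} : ℂ) = (Nat.card G : ℂ) / 8 := by
    rw [← hKc]; ring
  rw [hKe] at key
  have heqC : (256 : ℂ) * d * (d + 1) = (Nat.card G : ℂ) * (d ^ 2 + (6 * n - 8) * d + n ^ 2) := by
    field_simp at key
    push_cast at key
    linear_combination (1 / 4 : ℂ) * key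
  have heq : (256 : ℤ) * d * (d + 1) = (Nat.card G : ℤ) * (d ^ 2 + (6 * n - 8) * d + n ^ 2) := by
    exact_mod_cast heqC
  -- the 2-part of the order
  obtain ⟨S, hS⟩ := h.exists_sylow
  haveI : Fact (Nat.Prime 2) := ⟨Nat.prime_two⟩
  have hScard : Nat.card S = 8 := by
    have : Nat.card (S : Subgroup G) = 8 := by rw [hS]; exact h.card_centralizer
    exact this
  have h8 : 8 ∣ Nat.card G := by
    rw [← hScard]; exact Subgroup.card_subgroup_dvd_card _
  have h16 : ¬ 16 ∣ Nat.card G := by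
    intro h16
    have : (2 : ℕ) ^ 4 ∣ Nat.card S := by
      have e16 : (2 : ℕ) ^ 4 = 16 := by norm_num
      have h16' : (2 : ℕ) ^ 4 ∣ Nat.card G := by rw [e16]; exact h16
      exact S.pow_dvd_card_of_pow_dvd_card h16'
    rw [hScard] at this
    norm_num at this
  exact arith (Nat.card G) d n hd hpar hn12 h8 h16 heq

end Cfsg.Agent.S0848
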