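import Cfsg.Statements.S3277
import Mathlib
import Cfsg.Agent.Lib.H21.C4C
import Cfsg.Agent.Lib.H21.C4D
import Cfsg.Agent.S1230
import Cfsg.Agent.S0252

set_option autoImplicit false
open Cfsg

namespace Cfsg.Agent.S3277

open Cfsg.Agent.Lib.H21.C4
open Cfsg.Agent.Lib.H6.CIT (mem_centralizer_singleton)

/-- Let G be a finite group containing an involution whose centralizer is elementary abelian of order 4. If G has no normal 2-complement and no normal elementary abelian 2-subgroup of order 2 or 4, then G is isomorphic to the alternating group of degree 5 (that is, to PSL(2, 5)). -/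
theorem result {G : Type*} [Group G] [Finite G] (x : G) (hx : orderOf x = 2)
    (hC4 : Nat.card ↥(Subgroup.centralizer ({x} : Set G)) = 4) (hCe : ∀ c ∈ Subgroup.centralizer ({x} : Set G), c ^ 2 = 1)
    (hnc : ¬ Cfsg.HasNormalPComplement 2 G)
    (hne : ∀ E : Subgroup G, E.Normal → Cfsg.IsElementaryAbelian 2 E → Nat.card ↥E ≠ 2 ∧ Nat.card ↥E ≠ 4) :
    Nonempty (G ≃* ↥(alternatingGroup (Fin 5))) := by
  classical
  have : Fact (Nat.Prime 2) := ⟨Nat.prime_two⟩
  by_cases h8 : 8 ∣ Nat.card G
  · -- the centralizer is not a Sylow subgroup: impossible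
    exfalso
    have hd : 2 ∣ Nat.card (Subgroup.normalizer ((Subgroup.centralizer ({x} : Set G) : Subgroup G) : Set G) ⧸
        (Subgroup.centralizer ({x} : Set G)).subgroupOf
          (Subgroup.normalizer ((Subgroup.centralizer ({x} : Set G) : Subgroup G) : Set G))) :=
      Sylow.prime_dvd_card_quotient_normalizer (p := 2) (n := 2) (by norm_num; exact h8)
        (H := Subgroup.centralizer ({x} : Set G)) (by rw [hC4]; norm_num)
    obtain ⟨q, hq⟩ := exists_prime_orderOf_dvd_card' 2 hd
    obtain ⟨n, rfl⟩ := QuotientGroup.mk_surjective q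
    have hnot : (n : G) ∉ Subgroup.centralizer ({x} : Set G) := by
      intro hmem
      have h1 : (QuotientGroup.mk n : Subgroup.normalizer ((Subgroup.centralizer ({x} : Set G) : Subgroup G) : Set G) ⧸
          (Subgroup.centralizer ({x} : Set G)).subgroupOf
            (Subgroup.normalizer ((Subgroup.centralizer ({x} : Set G) : Subgroup G) : Set G))) = 1 := by
        rw [QuotientGroup.eq_one_iff]
        exact Subgroup.mem_subgroupOf.mpr hmem
      rw [h1, orderOf_one] at hq
      omega
    have hsq : (n : G) * (n : G) ∈ Subgroup.centralizer ({x} : Set G) := by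
      have h1 := pow_orderOf_eq_one (QuotientGroup.mk n : Subgroup.normalizer ((Subgroup.centralizer ({x} : Set G) : Subgroup G) : Set G) ⧸
          (Subgroup.centralizer ({x} : Set G)).subgroupOf
            (Subgroup.normalizer ((Subgroup.centralizer ({x} : Set G) : Subgroup G) : Set G)))
      rw [hq, ← QuotientGroup.mk_pow, QuotientGroup.eq_one_iff, Subgroup.mem_subgroupOf] at h1
      rw [← pow_two]
      simpa using h1
    have hB : HypB x (n : G) :=
      { ord := hx, card := hC4, exp := hCe, s_not := hnot, s_norm := n.2, s_sq := hsq }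
    obtain ⟨E, hEn, hEe, hEc⟩ := hB.exists_normal
    have := hne E hEn hEe
    rcases hEc with e | e
    · exact this.1 e
    · exact this.2 e
  · -- the centralizer is a Sylow subgroup
    have h4 : 4 ∣ Nat.card G := hC4 ▸ Subgroup.card_subgroup_dvd_card (Subgroup.centralizer ({x} : Set G))
    have hG0 : Nat.card G ≠ 0 := Nat.card_pos.ne'
    have hf : (Nat.card G).factorization 2 = 2 := by
      have h1 : 2 ≤ (Nat.card G).factorization 2 :=
        (Nat.prime_two.pow_dvd_iff_le_factorization hG0).mp (by norm_num; exact h4)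
      have h2 : ¬ 3 ≤ (Nat.card G).factorization 2 := fun h => h8 (by
        have := (Nat.prime_two.pow_dvd_iff_le_factorization hG0).mpr h
        norm_num at this
        exact this)
      omega
    let T : Sylow 2 G := Sylow.ofCard (Subgroup.centralizer ({x} : Set G)) (by rw [hC4, hf]; norm_num)
    have hT : (T : Subgroup G) = Subgroup.centralizer ({x} : Set G) := Sylow.coe_ofCard _ _
    have hcardT : Nat.card (T : Subgroup G) = 4 := by rw [hT, hC4]
    have hconj := sylow_case hx hC4 hCe T hT hnc
    have hC : ∀ t : G, orderOf t = 2 → IsMulCommutative (Subgroup.centralizer ({t} : Set G)) ∧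
        ∀ c ∈ Subgroup.centralizer ({t} : Set G), c ^ 2 = 1 := by
      intro t ht
      obtain ⟨g, rfl⟩ := hconj t ht
      have key : ∀ c ∈ Subgroup.centralizer ({g * x * g⁻¹} : Set G),
          g⁻¹ * c * g ∈ Subgroup.centralizer ({x} : Set G) := by
        intro c hc
        rw [mem_centralizer_singleton] at hc ⊢
        calc x * (g⁻¹ * c * g) = g⁻¹ * (g * x * g⁻¹ * c) * g := by group
          _ = g⁻¹ * (c * (g * x * g⁻¹)) * g := by rw [hc]
          _ = g⁻¹ * c * g * x := by group
      constructor
      · refine ⟨⟨fun a b => Subtype.ext ?_⟩⟩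
        have h1 := comm_of_exp hCe (key a a.2) (key b b.2)
        simp only [Subgroup.coe_mul]
        calc (a : G) * b = g * ((g⁻¹ * a * g) * (g⁻¹ * b * g)) * g⁻¹ := by group
          _ = g * ((g⁻¹ * b * g) * (g⁻¹ * a * g)) * g⁻¹ := by rw [h1]
          _ = (b : G) * a := by group
      · intro c hc
        have h1 := hCe _ (key c hc)
        rw [pow_two] at h1 ⊢
        calc c * c = g * ((g⁻¹ * c * g) * (g⁻¹ * c * g)) * g⁻¹ := by group
          _ = 1 := by rw [h1]; group
    have hncyc : ¬ IsCyclic (T : Subgroup G) := by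
      intro hcyc
      obtain ⟨⟨g, hgT⟩, hg⟩ := IsCyclic.exists_generator (α := (T : Subgroup G))
      have h1 := orderOf_eq_card_of_forall_mem_zpowers hg
      rw [Subgroup.orderOf_mk, hcardT] at h1
      have h2 : g ^ 2 = 1 := hCe g (hT ▸ hgT)
      have h3 := orderOf_dvd_of_pow_eq_one h2
      have h4 := Nat.le_of_dvd (by norm_num) h3
      omega
    have hnn : ¬ (T : Subgroup G).Normal := by
      intro hn
      rw [hT] at hn
      have hel : Cfsg.IsElementaryAbelian 2 (Subgroup.centralizer ({x} : Set G)) :=
        ⟨⟨⟨fun a b => Subtype.ext (comm_of_exp hCe a.2 b.2)⟩⟩, hCe⟩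
      exact (hne _ hn hel).2 hC4
    obtain ⟨F, _, _, hF, ⟨e⟩⟩ := Cfsg.Agent.S1230.result T hncyc hnn hC
    have hF4 : Fintype.card F = 4 := by rw [hF]; exact hcardT
    obtain ⟨e'⟩ := Cfsg.Agent.S0252.result hF4
    exact ⟨e.trans e'⟩

end Cfsg.Agent.S3277
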