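import Mathlib
import Cfsg.Statements.S1510

set_option autoImplicit false
open Cfsg

namespace Cfsg.Agent.S1510

/-- Elements of the join of two elementwise commuting subgroups are products. -/
theorem exists_mul_of_mem_sup {L : Type*} [Group L] (W₁ W₂ : Subgroup L)
    (hcomm : ∀ a ∈ W₁, ∀ b ∈ W₂, a * b = b * a) {y : L} (hy : y ∈ W₁ ⊔ W₂) :
    ∃ a ∈ W₁, ∃ b ∈ W₂, y = a * b := by
  rw [Subgroup.sup_eq_closure_mul] at hy
  induction hy using Subgroup.closure_induction with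
  | mem x hx =>
    obtain ⟨a, ha, b, hb, rfl⟩ := hx
    exact ⟨a, ha, b, hb, rfl⟩
  | one => exact ⟨1, W₁.one_mem, 1, W₂.one_mem, by simp⟩
  | mul x y _ _ hx hy =>
    obtain ⟨a, ha, b, hb, rfl⟩ := hx
    obtain ⟨a', ha', b', hb', rfl⟩ := hy
    refine ⟨a * a', W₁.mul_mem ha ha', b * b', W₂.mul_mem hb hb', ?_⟩
    have := hcomm a' ha' b hb
    calc a * b * (a' * b') = a * (b * a') * b' := by group
      _ = a * (a' * b) * b' := by rw [this]
      _ = a * a' * (b * b') := by group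
  | inv x _ hx =>
    obtain ⟨a, ha, b, hb, rfl⟩ := hx
    refine ⟨a⁻¹, W₁.inv_mem ha, b⁻¹, W₂.inv_mem hb, ?_⟩
    have := hcomm a ha b hb
    rw [mul_inv_rev]
    have h2 : b⁻¹ * a⁻¹ = (a * b)⁻¹ := by group
    have h3 : a⁻¹ * b⁻¹ = (b * a)⁻¹ := by group
    rw [h2, h3, this]

theorem pow_eq_self_of_modEq {L : Type*} [Group L] {a : L} {n e : ℕ} (ha : a ^ n = 1)
    (he : e ≡ 1 [MOD n]) : a ^ e = a := by
  have : a ^ e = a ^ 1 := by
    rw [pow_eq_pow_iff_modEq]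
    exact he.of_dvd (orderOf_dvd_of_pow_eq_one ha)
  rw [this, pow_one]

theorem pow_eq_one_of_modEq {L : Type*} [Group L] {a : L} {n e : ℕ} (ha : a ^ n = 1)
    (he : e ≡ 0 [MOD n]) : a ^ e = 1 := by
  obtain ⟨q, rfl⟩ := (Nat.modEq_zero_iff_dvd).mp he
  rw [pow_mul, ha, one_pow]

theorem pow_card_of_mem {L : Type*} [Group L] [Finite L] (W : Subgroup L) {a : L} (ha : a ∈ W) :
    a ^ Nat.card W = 1 := by
  have := pow_card_eq_one' (G := W) (x := ⟨a, ha⟩)
  exact congrArg Subtype.val this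

/-- Let L be a finite group with a normal subgroup K and a nontrivial cyclic subgroup W₁ of order coprime to its index, K ⊓ W₁ = ⊥ and K ⊔ W₁ = ⊤; let W₂ ≠ ⊥ be a cyclic subgroup of K with K ⊓ C_L(x) = W₂ for every non-identity x ∈ W₁, and suppose W₁ ⊔ W₂ has odd order. Then (W₁, W₂) is a self-normalising cyclic pair in L. -/
theorem result {L : Type*} [Group L] [Fintype L] (K W₁ W₂ : Subgroup L) [hK : K.Normal] (hKW₁ : K ⊓ W₁ = ⊥) (hKW₁' : K ⊔ W₁ = ⊤) (hW₁ : W₁ ≠ ⊥) (hW₁c : IsCyclic W₁) (hHall : Nat.Coprime (Nat.card W₁) W₁.index) (hW₂ : W₂ ≠ ⊥) (hW₂c : IsCyclic W₂) (hW₂K : W₂ ≤ K) (hC : ∀ x ∈ W₁, x ≠ 1 → K ⊓ Subgroup.centralizer ({x} : Set L) = W₂) (hodd : Odd (Nat.card ↥(W₁ ⊔ W₂))) : Cfsg.IsSelfNormalizingCyclic W₁ W₂ := by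
  -- basic facts
  have hinf : W₁ ⊓ W₂ = ⊥ := by
    rw [eq_bot_iff, ← hKW₁]
    exact le_inf (inf_le_right.trans hW₂K) inf_le_left
  have hcomm : ∀ a ∈ W₁, ∀ b ∈ W₂, a * b = b * a := by
    intro a ha b hb
    by_cases ha1 : a = 1
    · subst ha1; simp
    · have hb' : b ∈ K ⊓ Subgroup.centralizer ({a} : Set L) := by rw [hC a ha ha1]; exact hb
      have := Subgroup.mem_centralizer_iff.mp (Subgroup.mem_inf.mp hb').2 a rfl
      exact this
  -- orders
  have hcardK : Nat.card K = W₁.index := by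
    have h1 : K.relIndex (K ⊔ W₁) = K.relIndex W₁ := Subgroup.relIndex_sup_left W₁ K
    rw [hKW₁', Subgroup.relIndex_top_right, ← Subgroup.inf_relIndex_right, hKW₁,
      Subgroup.relIndex_bot_left] at h1
    -- h1 : K.index = Nat.card W₁
    have h2 := Subgroup.index_mul_card K
    have h3 := Subgroup.index_mul_card W₁
    rw [h1] at h2
    have hpos : 0 < Nat.card W₁ := Nat.card_pos
    apply Nat.eq_of_mul_eq_mul_left hpos
    rw [h2, ← h3, mul_comm]
  set n₁ := Nat.card W₁ with hn₁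
  set n₂ := Nat.card W₂ with hn₂
  have hcop : Nat.Coprime n₁ n₂ := by
    apply Nat.Coprime.coprime_dvd_right _ hHall
    rw [← hcardK]
    exact Subgroup.card_dvd_of_le hW₂K
  obtain ⟨e₁, he₁1, he₁0⟩ := Nat.chineseRemainder hcop 1 0
  obtain ⟨e₂, he₂0, he₂1⟩ := Nat.chineseRemainder hcop 0 1
  -- generators
  obtain ⟨g₁, hg₁⟩ := (Subgroup.isCyclic_iff_exists_zpowers_eq_top W₁).mp hW₁c
  obtain ⟨g₂, hg₂⟩ := (Subgroup.isCyclic_iff_exists_zpowers_eq_top W₂).mp hW₂c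
  have hg₁m : g₁ ∈ W₁ := by rw [← hg₁]; exact Subgroup.mem_zpowers g₁
  have hg₂m : g₂ ∈ W₂ := by rw [← hg₂]; exact Subgroup.mem_zpowers g₂
  have hgc : Commute g₁ g₂ := hcomm g₁ hg₁m g₂ hg₂m
  have hz₁ : (g₁ * g₂) ^ e₁ = g₁ := by
    rw [hgc.mul_pow, pow_eq_self_of_modEq (pow_card_of_mem W₁ hg₁m) he₁1,
      pow_eq_one_of_modEq (pow_card_of_mem W₂ hg₂m) he₁0, mul_one]
  have hz₂ : (g₁ * g₂) ^ e₂ = g₂ := by
    rw [hgc.mul_pow, pow_eq_one_of_modEq (pow_card_of_mem W₁ hg₁m) he₂0,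
      pow_eq_self_of_modEq (pow_card_of_mem W₂ hg₂m) he₂1, one_mul]
  have hWz : Subgroup.zpowers (g₁ * g₂) = W₁ ⊔ W₂ := by
    apply le_antisymm
    · rw [Subgroup.zpowers_le]
      exact Subgroup.mul_mem_sup hg₁m hg₂m
    · rw [sup_le_iff, ← hg₁, ← hg₂, Subgroup.zpowers_le, Subgroup.zpowers_le]
      constructor
      · have h := Subgroup.pow_mem _ (Subgroup.mem_zpowers (g₁ * g₂)) e₁
        rwa [hz₁] at h
      · have h := Subgroup.pow_mem _ (Subgroup.mem_zpowers (g₁ * g₂)) e₂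
        rwa [hz₂] at h
  have hcyc : IsCyclic ↥(W₁ ⊔ W₂) :=
    (Subgroup.isCyclic_iff_exists_zpowers_eq_top _).mpr ⟨g₁ * g₂, hWz⟩
  -- elements of `W` commute
  have hWcomm : ∀ u ∈ W₁ ⊔ W₂, ∀ v ∈ W₁ ⊔ W₂, u * v = v * u := by
    intro u hu v hv
    rw [← hWz] at hu hv
    obtain ⟨i, rfl⟩ := Subgroup.mem_zpowers_iff.mp hu
    obtain ⟨j, rfl⟩ := Subgroup.mem_zpowers_iff.mp hv
    rw [← zpow_add, ← zpow_add, add_comm]
  refine ⟨hW₁, hW₂, hinf, hcomm, hcyc, ?_⟩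
  intro X hX hXne
  obtain ⟨y, hyX⟩ := hXne
  apply le_antisymm
  · -- the normalizer lies in `W`
    intro g hg
    have hyW : y ∈ W₁ ⊔ W₂ := (hX hyX).1
    have hy₁₂ := (hX hyX).2
    obtain ⟨a, ha, b, hb, hyab⟩ := exists_mul_of_mem_sup W₁ W₂ hcomm hyW
    have ha1 : a ≠ 1 := by
      rintro rfl
      apply hy₁₂
      right
      rw [hyab, one_mul]; exact hb
    have hgy : g * y * g⁻¹ ∈ X := (Subgroup.mem_set_normalizer_iff.mp hg y).mp hyX
    have hgyW : g * y * g⁻¹ ∈ W₁ ⊔ W₂ := (hX hgy).1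
    obtain ⟨a', ha', b', hb', hy'ab⟩ := exists_mul_of_mem_sup W₁ W₂ hcomm hgyW
    -- decompose `g = k * w`
    have hgtop : g ∈ K ⊔ W₁ := by rw [hKW₁']; exact Subgroup.mem_top g
    obtain ⟨k, hk, w, hw, rfl⟩ := Subgroup.mem_sup_of_normal_left.mp hgtop
    have hwy : w * y * w⁻¹ = y := by
      have := hWcomm w (Subgroup.mem_sup_left hw) y hyW
      rw [this]; group
    have hky : k * y * k⁻¹ = a' * b' := by
      rw [← hy'ab]
      have : k * w * y * (k * w)⁻¹ = k * (w * y * w⁻¹) * k⁻¹ := by group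
      rw [this, hwy]
    -- take `e₁`-th powers
    have hye : y ^ e₁ = a := by
      rw [hyab, Commute.mul_pow (show Commute a b from hcomm a ha b hb),
        pow_eq_self_of_modEq (pow_card_of_mem W₁ ha) he₁1,
        pow_eq_one_of_modEq (pow_card_of_mem W₂ hb) he₁0, mul_one]
    have hy'e : (a' * b') ^ e₁ = a' := by
      rw [Commute.mul_pow (show Commute a' b' from hcomm a' ha' b' hb'),
        pow_eq_self_of_modEq (pow_card_of_mem W₁ ha') he₁1,
        pow_eq_one_of_modEq (pow_card_of_mem W₂ hb') he₁0, mul_one]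
    have hka : k * a * k⁻¹ = a' := by
      rw [← hye, ← hy'e, ← hky, conj_pow]
    -- `a' * a⁻¹ ∈ K ⊓ W₁ = ⊥`
    have hmemK : a' * a⁻¹ ∈ K := by
      rw [← hka]
      have : k * a * k⁻¹ * a⁻¹ = k * (a * k⁻¹ * a⁻¹) := by group
      rw [this]
      exact K.mul_mem hk (hK.conj_mem _ (K.inv_mem hk) a)
    have hmemW : a' * a⁻¹ ∈ W₁ := W₁.mul_mem ha' (W₁.inv_mem ha)
    have h1 : a' * a⁻¹ = 1 := by
      have : a' * a⁻¹ ∈ K ⊓ W₁ := Subgroup.mem_inf.mpr ⟨hmemK, hmemW⟩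
      rw [hKW₁] at this
      exact Subgroup.mem_bot.mp this
    have haa' : a' = a := by
      have := mul_inv_eq_one.mp h1
      exact this
    have hkW₂ : k ∈ W₂ := by
      rw [← hC a ha ha1]
      refine Subgroup.mem_inf.mpr ⟨hk, ?_⟩
      rw [Subgroup.mem_centralizer_iff]
      intro u hu
      rw [Set.mem_singleton_iff] at hu
      subst hu
      rw [haa'] at hka
      calc u * k = (k * u * k⁻¹) * k := by rw [hka]
        _ = k * u := by group
    exact (W₁ ⊔ W₂).mul_mem (Subgroup.mem_sup_right hkW₂) (Subgroup.mem_sup_left hw)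
  · -- `W` normalizes `X`
    intro w hw
    rw [Subgroup.mem_set_normalizer_iff]
    intro u
    constructor
    · intro hu
      have huW := (hX hu).1
      have := hWcomm w hw u huW
      have e : w * u * w⁻¹ = u := by rw [this]; group
      rw [e]; exact hu
    · intro hu
      have huW := (hX hu).1
      have hu' : u ∈ W₁ ⊔ W₂ := by
        have : u = w⁻¹ * (w * u * w⁻¹) * w := by group
        rw [this]
        exact (W₁ ⊔ W₂).mul_mem ((W₁ ⊔ W₂).mul_mem ((W₁ ⊔ W₂).inv_mem hw) huW) hw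
      have := hWcomm w hw u hu'
      have e : w * u * w⁻¹ = u := by rw [this]; group
      rw [e] at hu; exact hu

end Cfsg.Agent.S1510
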