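import Mathlib
import Cfsg.Statements.S2238
import Cfsg.Agent.Lib.H2.Sz21

set_option autoImplicit false
open Cfsg

namespace Cfsg.Agent.S2238

open Cfsg.Agent.Lib.H2.Sz Cfsg.Agent.Lib.H2 Matrix

/-- The partition of the Suzuki group: with q = 2^(2m+1), m ≥ 1, r = 2^m and the Suzuki group realised as the stabiliser in SL₄ of the Suzuki–Tits ovoid, every non-identity element lies in exactly one subgroup that is either a Sylow 2-subgroup or a cyclic subgroup of order q − 1, q + 2r + 1 or q − 2r + 1. -/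
theorem result {F : Type*} [Field F] [Fintype F] {m : ℕ} (hm : 1 ≤ m) (hF : Fintype.card F = 2 ^ (2 * m + 1)) (g : ↥(Cfsg.Sz F m)) (hg : g ≠ 1) :
    ∃! U : Subgroup ↥(Cfsg.Sz F m), ((∃ P : Sylow 2 ↥(Cfsg.Sz F m), U = (P : Subgroup ↥(Cfsg.Sz F m))) ∨
      (IsCyclic ↥U ∧ Nat.card ↥U ∈ ({2 ^ (2 * m + 1) - 1, 2 ^ (2 * m + 1) + 2 ^ (m + 1) + 1, 2 ^ (2 * m + 1) - 2 ^ (m + 1) + 1} : Set ℕ))) ∧ g ∈ U := by
  classical
  have h := fld_of_card hF
  have : Fact (Nat.Prime 2) := ⟨Nat.prime_two⟩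
  -- a 2-element in a subgroup of odd order is trivial
  have hodd2 : ∀ (U : Subgroup (Cfsg.Sz F m)), Odd (Nat.card U) → g ∈ U →
      (∃ j, orderOf g = 2 ^ j) → False := by
    intro U hU hgU ⟨j, hj⟩
    have h1 : orderOf g ∣ Nat.card U := Subgroup.orderOf_dvd_natCard U hgU
    have hc : Nat.Coprime (Nat.card U) (2 ^ j) :=
      Nat.Coprime.pow_right _ (Nat.coprime_two_right.2 hU)
    rw [hj] at h1
    have h2 : 2 ^ j = 1 := Nat.Coprime.eq_one_of_dvd hc.symm h1
    rw [h2] at hj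
    exact hg (orderOf_eq_one_iff.1 hj)
  by_cases h4 : g ^ 4 = 1
  · -- `g` is a 2-element
    have hz : IsPGroup 2 (Subgroup.zpowers g) := by
      have hd : orderOf g ∣ 2 ^ 2 := orderOf_dvd_of_pow_eq_one h4
      obtain ⟨j, -, hj⟩ := (Nat.dvd_prime_pow Nat.prime_two).1 hd
      apply IsPGroup.of_card (n := j)
      rw [Nat.card_zpowers, hj]
    obtain ⟨P, hP⟩ := hz.exists_le_sylow
    have hgP : g ∈ P := hP (Subgroup.mem_zpowers g)
    refine ⟨P, ⟨Or.inl ⟨P, rfl⟩, hgP⟩, ?_⟩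
    rintro U' ⟨hU' | ⟨hcyc, hcard⟩, hgU'⟩
    · obtain ⟨P', rfl⟩ := hU'
      rw [sylow_ti h hm hF hg hgU' hgP]
    · exfalso
      apply hodd2 U' (PartArith.list_odd hm hcard).1 hgU'
      have hd : orderOf g ∣ 2 ^ 2 := orderOf_dvd_of_pow_eq_one h4
      obtain ⟨j, -, hj⟩ := (Nat.dvd_prime_pow Nat.prime_two).1 hd
      exact ⟨j, hj⟩
  · -- `g` lies in a torus
    have hgv4 : (g : SpecialLinearGroup (Fin 4) F) ^ 4 ≠ 1 := by
      intro h0
      apply h4
      apply Subtype.ext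
      rw [Subgroup.coe_pow, h0]
      rfl
    have key : IsCyclic (Subgroup.centralizer ({g} : Set (Cfsg.Sz F m))) ∧
        Nat.card (Subgroup.centralizer ({g} : Set (Cfsg.Sz F m))) ∈
          ({2 ^ (2 * m + 1) - 1, 2 ^ (2 * m + 1) + 2 ^ (m + 1) + 1,
            2 ^ (2 * m + 1) - 2 ^ (m + 1) + 1} : Set ℕ) := by
      by_cases hfpf : Fpf m (g : SpecialLinearGroup (Fin 4) F)
      · refine ⟨isCyclic_centralizer h hm hF hfpf, ?_⟩
        have hle : 2 ^ (m + 1) ≤ 2 ^ (2 * m + 1) := Nat.pow_le_pow_right (by norm_num) (by omega)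
        rcases ((tori_main h hm hF).1 g hfpf).1 with e | e
        · right; left
          show cT g = _
          rw [e, pow_succ 2 m]
          ring
        · right; right
          show cT g = _
          rw [e, pow_succ 2 m]
          rw [pow_succ 2 m] at hle
          omega
      · unfold Fpf at hfpf
        push Not at hfpf
        obtain ⟨p, hp, hfix⟩ := hfpf
        obtain ⟨u, hu, k, hk, huk⟩ := exists_conj_D h hm hF g.2 hgv4 hp hfix
        obtain ⟨c1, c2⟩ := centralizer_of_conj_D h hm hF (g := g) (u := ⟨u, hu⟩) hk huk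
        exact ⟨c1, Or.inl c2⟩
    have hgC : g ∈ Subgroup.centralizer ({g} : Set (Cfsg.Sz F m)) := by
      rw [Subgroup.mem_centralizer_singleton_iff]
    refine ⟨Subgroup.centralizer ({g} : Set (Cfsg.Sz F m)), ⟨Or.inr key, hgC⟩, ?_⟩
    rintro U' ⟨hU' | ⟨hcyc, hcard⟩, hgU'⟩
    · exfalso
      obtain ⟨P', rfl⟩ := hU'
      apply hodd2 _ (PartArith.list_odd hm key.2).1 hgC
      obtain ⟨j, hj⟩ := P'.isPGroup' ⟨g, hgU'⟩
      have hj' : g ^ 2 ^ j = 1 := by
        have := congrArg Subtype.val hj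
        simpa using this
      obtain ⟨i, -, hi⟩ := (Nat.dvd_prime_pow Nat.prime_two).1 (orderOf_dvd_of_pow_eq_one hj')
      exact ⟨i, hi⟩
    · have hle : U' ≤ Subgroup.centralizer ({g} : Set (Cfsg.Sz F m)) := by
        intro y hy
        rw [Subgroup.mem_centralizer_singleton_iff]
        have hcomm := (isMulCommutative_iff.1 hcyc.isMulCommutative) (⟨g, hgU'⟩ : U') ⟨y, hy⟩
        exact (congrArg Subtype.val hcomm).symm
      have hdvd : Nat.card U' ∣ Nat.card (Subgroup.centralizer ({g} : Set (Cfsg.Sz F m))) :=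
        Subgroup.card_dvd_of_le hle
      have heq := PartArith.eq_of_dvd hm hcard key.2 hdvd
      exact Subgroup.eq_of_le_of_card_ge hle heq.ge

end Cfsg.Agent.S2238
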