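import Cfsg.Statements.S2479
import Cfsg.Agent.Lib.H4.SLKDefs
import Cfsg.Agent.Lib.H4.SLKP15
import Cfsg.Agent.Lib.H10.SLKP19
import Cfsg.Agent.Lib.H11.SLKP22
import Cfsg.Agent.Lib.H15.SLKP27
import Cfsg.Agent.Lib.H11.SLKP28

set_option autoImplicit false
open Cfsg

namespace Cfsg.Agent.S2479

open Cfsg.Agent.Lib.H12.Cls Cfsg.Agent.Lib.H4.SLK

/-- The number of conjugacy classes of SL(n,q): for F a finite field with q elements, the number k of conjugacy classes of SL(n,F) satisfies q^(n−1) < k and k ≤ (5/2)·q^(n−1) for n ≥ 2, and k ≤ q^(n−1) + 3q^(n−2) for n ≥ 3. -/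
theorem result {F : Type*} [Field F] [Fintype F] (n : ℕ) (hn : 2 ≤ n) :
    Fintype.card F ^ (n - 1) < Nat.card (ConjClasses (Matrix.SpecialLinearGroup (Fin n) F)) ∧ 2 * Nat.card (ConjClasses (Matrix.SpecialLinearGroup (Fin n) F)) ≤ 5 * Fintype.card F ^ (n - 1) ∧
      (3 ≤ n → Nat.card (ConjClasses (Matrix.SpecialLinearGroup (Fin n) F)) ≤ Fintype.card F ^ (n - 1) + 3 * Fintype.card F ^ (n - 2)) := by
  have hq : Fintype.card F - 1 + 1 = Fintype.card F := by
    have : 1 < Fintype.card F := Fintype.one_lt_card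
    omega
  have hQ : 1 ≤ Fintype.card F - 1 := by
    have : 1 < Fintype.card F := Fintype.one_lt_card
    omega
  refine ⟨Cfsg.Agent.Lib.H11.SLK.card_conjClasses_SL_gt n hn, ?_⟩
  have h1 := Cfsg.Agent.Lib.H4.SLK.card_conjClasses_SL_le (F := F) n
  have h2 := Cfsg.Agent.Lib.H10.SLK.sum_idx_eq (F := F) n
  have h3 := Cfsg.Agent.Lib.H11.SLK.sum_idx_sq_le (F := F) n
  have hk : (Fintype.card F - 1) * Nat.card (ConjClasses (Matrix.SpecialLinearGroup (Fin n) F)) ≤
      Rn (Fintype.card F - 1) n :=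
    (Nat.mul_le_mul_left _ h1).trans (h2.le.trans h3)
  have := Cfsg.Agent.Lib.H15.SLK.num_main (Fintype.card F - 1) n _ hQ hn hk
  rwa [hq] at this

end Cfsg.Agent.S2479
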