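import Mathlib
import Cfsg.Statements.S1531
import Cfsg.Agent.Lib.H8.Coherence
import Cfsg.Agent.Lib.H8.SignedIrr
import Cfsg.Agent.Lib.L0.CharBasic
import Cfsg.Agent.Lib.H24.CharBasic
import Cfsg.Agent.Lib.H24.CharOrth

set_option autoImplicit false
open Cfsg

namespace Cfsg.Agent.S1531

open Cfsg.Agent.Lib.H8 Cfsg.Agent.Lib.L0

/-- Let N be a subgroup of the finite group G, S a set of irreducible characters of N, and α a linear isometry on the integer combinations of S vanishing at 1 with values virtual characters of G vanishing at 1. Let X, Y ⊆ S be disjoint, each with at least two members, and σ, τ linear isometries on ℤ[X], ℤ[Y] into virtual characters agreeing with α on the members vanishing at 1. Then ⟨σ χ, τ η⟩ = 0 for χ ∈ X, η ∈ Y; and if for some χ₀ ∈ X, η₀ ∈ Y with degrees c = χ₀ 1, e = η₀ 1 one has α (c • η₀ − e • χ₀) = c • τ η₀ − e • σ χ₀, then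 (X ∪ Y, N minus 1, α) is coherent. -/
theorem result {G : Type*} [Group G] [Fintype G] (N : Subgroup G) [Fintype N] (S X Y : Set (N → ℂ)) (hirr : ∀ ξ ∈ S, Cfsg.IsIrrCharacter N ξ) (hXS : X ⊆ S) (hYS : Y ⊆ S) (hXY : Disjoint X Y) (hX2 : ∃ a ∈ X, ∃ b ∈ X, a ≠ b) (hY2 : ∃ a ∈ Y, ∃ b ∈ Y, a ≠ b) (α : (N → ℂ) → (G → ℂ)) (hα : Cfsg.IsLinearIsometryOn (Cfsg.zspanOn S {1}ᶜ) α) (hα1 : ∀ θ ∈ Cfsg.zspanOn S {1}ᶜ, α θ 1 = 0) (σ τ : (N → ℂ) → (G → ℂ)) (hσ : Cfsg.IsLinearIsometryOn (Cfsg.zspan X) σ) (hσα : ∀ θ ∈ Cfsg.zspanOn X {1}ᶜ, σ θ = α θ) (hτ : Cfsg.IsLinearIsometryOn (Cfsg.zspan Y) τ) (hτα : ∀ θ ∈ Cfsg.zspanOn Y {1}ᶜ, τ θ = α θ) : (∀ χ ∈ X, ∀ η ∈ Y, Cfsg.classInner (σ χ) (τ η) = 0) ∧ ((∃ χ₀ ∈ X, ∃ η₀ ∈ Y, α (χ₀ 1 • η₀ - η₀ 1 • χ₀) = χ₀ 1 • τ η₀ - η₀ 1 • σ χ₀) → Cfsg.IsCoherent (X ∪ Y) {1}ᶜ α) := by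
  classical
  have hdeg : ∀ ξ ∈ S, ∃ n : ℕ, 0 < n ∧ ξ 1 = (n : ℂ) :=
    fun ξ hξ => Cfsg.Agent.Lib.H24.irr_one_eq ⟨ξ, hirr ξ hξ⟩
  choose! dg hdgpos hdg using hdeg
  have hnorm : ∀ ξ ∈ S, classInner ξ ξ = 1 := fun ξ hξ => irr_classInner_self (hirr ξ hξ)
  have horth : ∀ ξ ∈ S, ∀ η ∈ S, ξ ≠ η → classInner ξ η = 0 :=
    fun ξ hξ η hη h => irr_classInner_ne (hirr ξ hξ) (hirr η hη) h
  have hXYne : ∀ χ ∈ X, ∀ η ∈ Y, χ ≠ η := by
    intro χ hχ η hη h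
    exact Set.disjoint_left.mp hXY hχ (h ▸ hη)
  have hZX := isZClosed_zspan X
  have hZY := isZClosed_zspan Y
  have hES := isZClosed_zspanOn S ({1}ᶜ : Set N)
  have hdgC : ∀ ξ ∈ S, (dg ξ : ℂ) ≠ 0 := fun ξ hξ => by exact_mod_cast (hdgpos ξ hξ).ne'
  have hu : ∀ χ ∈ X, ∀ χ' ∈ X, (dg χ' : ℤ) • χ - (dg χ : ℤ) • χ' ∈
      zspanOn X ({1}ᶜ : Set N) := by
    intro χ hχ χ' hχ'
    rw [mem_zspanOn_compl_one]
    refine ⟨sub_mem_zspan (zsmul_mem_zspan (subset_zspan _ hχ) _)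
      (zsmul_mem_zspan (subset_zspan _ hχ') _), ?_⟩
    rw [Pi.sub_apply, Pi.smul_apply, Pi.smul_apply, hdg χ (hXS hχ), hdg χ' (hXS hχ'),
      zsmul_eq_mul, zsmul_eq_mul]
    push_cast; ring
  have hv : ∀ η ∈ Y, ∀ η' ∈ Y, (dg η' : ℤ) • η - (dg η : ℤ) • η' ∈
      zspanOn Y ({1}ᶜ : Set N) := by
    intro η hη η' hη'
    rw [mem_zspanOn_compl_one]
    refine ⟨sub_mem_zspan (zsmul_mem_zspan (subset_zspan _ hη) _)
      (zsmul_mem_zspan (subset_zspan _ hη') _), ?_⟩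
    rw [Pi.sub_apply, Pi.smul_apply, Pi.smul_apply, hdg η (hYS hη), hdg η' (hYS hη'),
      zsmul_eq_mul, zsmul_eq_mul]
    push_cast; ring
  have hαu : ∀ χ ∈ X, ∀ χ' ∈ X, α ((dg χ' : ℤ) • χ - (dg χ : ℤ) • χ') =
      (dg χ' : ℤ) • σ χ - (dg χ : ℤ) • σ χ' := by
    intro χ hχ χ' hχ'
    rw [← hσα _ (hu χ hχ χ' hχ'), lio_sub hσ hZX (zsmul_mem_zspan (subset_zspan _ hχ) _)
      (zsmul_mem_zspan (subset_zspan _ hχ') _), lio_zsmul hσ (subset_zspan _ hχ),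
      lio_zsmul hσ (subset_zspan _ hχ')]
  have hαv : ∀ η ∈ Y, ∀ η' ∈ Y, α ((dg η' : ℤ) • η - (dg η : ℤ) • η') =
      (dg η' : ℤ) • τ η - (dg η : ℤ) • τ η' := by
    intro η hη η' hη'
    rw [← hτα _ (hv η hη η' hη'), lio_sub hτ hZY (zsmul_mem_zspan (subset_zspan _ hη) _)
      (zsmul_mem_zspan (subset_zspan _ hη') _), lio_zsmul hτ (subset_zspan _ hη),
      lio_zsmul hτ (subset_zspan _ hη')]
  have hσirr : ∀ χ ∈ X, IsIrrCharacter G (σ χ) ∨ IsIrrCharacter G (-σ χ) := fun χ hχ =>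
    genChar_norm_one (lio_genChar hσ (subset_zspan _ hχ)) (by
      rw [lio_inner hσ (subset_zspan _ hχ) (subset_zspan _ hχ)]; exact hnorm χ (hXS hχ))
  have hτirr : ∀ η ∈ Y, IsIrrCharacter G (τ η) ∨ IsIrrCharacter G (-τ η) := fun η hη =>
    genChar_norm_one (lio_genChar hτ (subset_zspan _ hη)) (by
      rw [lio_inner hτ (subset_zspan _ hη) (subset_zspan _ hη)]; exact hnorm η (hYS hη))
  have hE : ∀ χ ∈ X, ∀ χ' ∈ X, ∀ η ∈ Y, ∀ η' ∈ Y,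
      (dg χ' : ℂ) * (dg η' : ℂ) * classInner (σ χ) (τ η)
        - (dg χ' : ℂ) * (dg η : ℂ) * classInner (σ χ) (τ η')
        - (dg χ : ℂ) * (dg η' : ℂ) * classInner (σ χ') (τ η)
        + (dg χ : ℂ) * (dg η : ℂ) * classInner (σ χ') (τ η') = 0 := by
    intro χ hχ χ' hχ' η hη η' hη'
    have h1 := lio_inner hα (zspanOn_mono hXS _ (hu χ hχ χ' hχ'))
      (zspanOn_mono hYS _ (hv η hη η' hη'))
    rw [hαu χ hχ χ' hχ', hαv η hη η' hη'] at h1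
    simp only [classInner_sub_left, classInner_sub_right, classInner_zsmul_left,
      classInner_zsmul_right] at h1
    rw [horth χ (hXS hχ) η (hYS hη) (hXYne χ hχ η hη),
      horth χ (hXS hχ) η' (hYS hη') (hXYne χ hχ η' hη'),
      horth χ' (hXS hχ') η (hYS hη) (hXYne χ' hχ' η hη),
      horth χ' (hXS hχ') η' (hYS hη') (hXYne χ' hχ' η' hη')] at h1
    push_cast at h1
    linear_combination h1
  have hpart1 : ∀ χ ∈ X, ∀ η ∈ Y, classInner (σ χ) (τ η) = 0 := by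
    intro χ₀ hχ₀ η₀ hη₀
    by_contra hne
    obtain ⟨χ', hχ', hχ'ne⟩ : ∃ χ' ∈ X, χ' ≠ χ₀ := by
      obtain ⟨a, ha, b, hb, hab⟩ := hX2
      by_cases h : a = χ₀
      · exact ⟨b, hb, fun hb' => hab (h.trans hb'.symm)⟩
      · exact ⟨a, ha, h⟩
    obtain ⟨η', hη', hη'ne⟩ : ∃ η' ∈ Y, η' ≠ η₀ := by
      obtain ⟨a, ha, b, hb, hab⟩ := hY2
      by_cases h : a = η₀
      · exact ⟨b, hb, fun hb' => hab (h.trans hb'.symm)⟩
      · exact ⟨a, ha, h⟩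
    obtain ⟨ε, hε⟩ : ∃ ε : ℂ, ε = classInner (σ χ₀) (τ η₀) := ⟨_, rfl⟩
    have hεne : ε ≠ 0 := by rw [hε]; exact hne
    have hσχ₀ : σ χ₀ = ε • τ η₀ := by
      rw [hε]
      exact signedIrr_eq_smul_of_classInner_ne_zero (hσirr χ₀ hχ₀) (hτirr η₀ hη₀) hne
    have hεcases : ε = 1 ∨ ε = -1 := by
      rw [hε]
      rcases signedIrr_classInner_cases (hσirr χ₀ hχ₀) (hτirr η₀ hη₀) with h | h | h
      · exact absurd h hne
      · exact Or.inl h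
      · exact Or.inr h
    have hεsq : ε * ε = 1 := by rcases hεcases with h | h <;> rw [h] <;> norm_num
    have hεconj : (starRingEnd ℂ) ε = ε := by rcases hεcases with h | h <;> rw [h] <;> simp
    have hm1 : classInner (σ χ₀) (τ η') = 0 := by
      rw [hσχ₀, classInner_smul_left, lio_inner hτ (subset_zspan _ hη₀) (subset_zspan _ hη'),
        horth η₀ (hYS hη₀) η' (hYS hη') (Ne.symm hη'ne), mul_zero]
    have hm2 : classInner (σ χ') (τ η₀) = 0 := by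
      have h1 : τ η₀ = ε • σ χ₀ := by
        rw [hσχ₀, smul_smul, hεsq, one_smul]
      rw [h1, classInner_smul_right, lio_inner hσ (subset_zspan _ hχ') (subset_zspan _ hχ₀),
        horth χ' (hXS hχ') χ₀ (hXS hχ₀) hχ'ne, mul_zero]
    have hE1 := hE χ₀ hχ₀ χ' hχ' η₀ hη₀ η' hη'
    rw [hm1, hm2, ← hε] at hE1
    obtain ⟨m', hm'⟩ : ∃ m' : ℂ, m' = classInner (σ χ') (τ η') := ⟨_, rfl⟩
    rw [← hm'] at hE1
    have hposA : (dg χ' : ℂ) * (dg η' : ℂ) ≠ 0 :=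
      mul_ne_zero (hdgC χ' (hXS hχ')) (hdgC η' (hYS hη'))
    have hm'ne : m' ≠ 0 := by
      intro h0
      rw [h0] at hE1
      have h1 : (dg χ' : ℂ) * (dg η' : ℂ) * ε = 0 := by linear_combination hE1
      rcases mul_eq_zero.mp h1 with h | h
      · exact hposA h
      · exact hεne h
    have hσχ' : σ χ' = m' • τ η' := by
      rw [hm']
      exact signedIrr_eq_smul_of_classInner_ne_zero (hσirr χ' hχ') (hτirr η' hη')
        (by rw [← hm']; exact hm'ne)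
    have hm'cases : m' = 1 ∨ m' = -1 := by
      rw [hm']
      rcases signedIrr_classInner_cases (hσirr χ' hχ') (hτirr η' hη') with h | h | h
      · exact absurd (hm'.trans h) hm'ne
      · exact Or.inl h
      · exact Or.inr h
    have hsumpos : (dg χ' : ℂ) * (dg η' : ℂ) + (dg χ₀ : ℂ) * (dg η₀ : ℂ) ≠ 0 := by
      have h1 : 0 < dg χ' * dg η' + dg χ₀ * dg η₀ :=
        Nat.add_pos_left (Nat.mul_pos (hdgpos χ' (hXS hχ')) (hdgpos η' (hYS hη'))) _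
      exact_mod_cast h1.ne'
    have hm'eq : m' = -ε := by
      rcases hεcases with h1 | h1 <;> rcases hm'cases with h2 | h2
      · exfalso
        rw [h1, h2] at hE1
        exact hsumpos (by linear_combination hE1)
      · rw [h1, h2]
      · rw [h1, h2]; norm_num
      · exfalso
        rw [h1, h2] at hE1
        exact hsumpos (by linear_combination -hE1)
    have h1 := hα1 _ (zspanOn_mono hXS _ (hu χ₀ hχ₀ χ' hχ'))
    rw [hαu χ₀ hχ₀ χ' hχ', Pi.sub_apply, Pi.smul_apply, Pi.smul_apply, zsmul_eq_mul,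
      zsmul_eq_mul] at h1
    have h2 := hα1 _ (zspanOn_mono hYS _ (hv η₀ hη₀ η' hη'))
    rw [hαv η₀ hη₀ η' hη', Pi.sub_apply, Pi.smul_apply, Pi.smul_apply, zsmul_eq_mul,
      zsmul_eq_mul] at h2
    have e1 : σ χ₀ 1 = ε * τ η₀ 1 := by
      conv_lhs => rw [hσχ₀]
      rfl
    have e2 : σ χ' 1 = -ε * τ η' 1 := by
      conv_lhs => rw [hσχ', hm'eq]
      rfl
    rw [e1, e2] at h1
    push_cast at h1 h2
    have h3 : ((dg χ' : ℂ) * (dg η₀ : ℂ) + (dg χ₀ : ℂ) * (dg η' : ℂ)) * τ η' 1 = 0 := by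
      linear_combination (ε * (dg η' : ℂ)) * h1 - (dg χ' : ℂ) * h2
        - ((dg η' : ℂ) * (dg χ' : ℂ) * τ η₀ 1 + (dg η' : ℂ) * (dg χ₀ : ℂ) * τ η' 1) * hεsq
    have hsumpos' : (dg χ' : ℂ) * (dg η₀ : ℂ) + (dg χ₀ : ℂ) * (dg η' : ℂ) ≠ 0 := by
      have h4 : 0 < dg χ' * dg η₀ + dg χ₀ * dg η' :=
        Nat.add_pos_left (Nat.mul_pos (hdgpos χ' (hXS hχ')) (hdgpos η₀ (hYS hη₀))) _
      exact_mod_cast h4.ne'
    rcases mul_eq_zero.mp h3 with h | h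
    · exact hsumpos' h
    · exact signedIrr_apply_one_ne_zero (hτirr η' hη') h
  refine ⟨hpart1, ?_⟩
  rintro ⟨χ₀, hχ₀, η₀, hη₀, hrel⟩
  -- finiteness
  have hfinS : {ξ : N → ℂ | IsIrrCharacter N ξ}.Finite := by
    have h1 : {ξ : N → ℂ | IsIrrCharacter N ξ} =
        Set.range (fun χ : IrrCharacter N => (χ : N → ℂ)) := by
      ext ξ
      constructor
      · intro h; exact ⟨⟨ξ, h⟩, rfl⟩
      · rintro ⟨χ, rfl⟩; exact χ.2
    rw [h1]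
    exact Set.finite_range _
  have hXYS : X ∪ Y ⊆ S := Set.union_subset hXS hYS
  have hfin : (X ∪ Y).Finite := hfinS.subset (fun ξ hξ => hirr ξ (hXYS hξ))
  obtain ⟨T, hT⟩ := hfin.exists_finset_coe
  have hmemT : ∀ ξ, ξ ∈ T ↔ ξ ∈ X ∨ ξ ∈ Y := by
    intro ξ
    rw [← Finset.mem_coe, hT]; rfl
  have hTS : ∀ ξ ∈ T, ξ ∈ S := fun ξ hξ => hXYS (by rw [← hT]; exact hξ)
  rw [← hT]
  have hneT : ∀ ξ ∈ T, classInner ξ ξ ≠ 0 := fun ξ hξ => by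
    rw [hnorm ξ (hTS ξ hξ)]; exact one_ne_zero
  have horthT : ∀ ξ ∈ T, ∀ η ∈ T, ξ ≠ η → classInner ξ η = 0 :=
    fun ξ hξ η hη h => horth ξ (hTS ξ hξ) η (hTS η hη) h
  set Y' : (N → ℂ) → (G → ℂ) := fun ξ => if ξ ∈ X then σ ξ else τ ξ with hY'
  have hY'X : ∀ ξ ∈ X, Y' ξ = σ ξ := fun ξ hξ => by simp [hY', hξ]
  have hY'Y : ∀ η ∈ Y, Y' η = τ η := fun η hη => by
    have : η ∉ X := fun h => hXYne η h η hη rfl
    simp [hY', this]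
  have hY'inner : ∀ ξ ∈ T, ∀ η ∈ T, classInner (Y' ξ) (Y' η) = classInner ξ η := by
    intro ξ hξ η hη
    rcases (hmemT ξ).mp hξ with hξ' | hξ' <;> rcases (hmemT η).mp hη with hη' | hη'
    · rw [hY'X ξ hξ', hY'X η hη', lio_inner hσ (subset_zspan _ hξ') (subset_zspan _ hη')]
    · rw [hY'X ξ hξ', hY'Y η hη', hpart1 ξ hξ' η hη',
        horth ξ (hXS hξ') η (hYS hη') (hXYne ξ hξ' η hη')]
    · rw [hY'Y ξ hξ', hY'X η hη', ← classInner_conj_symm, hpart1 η hη' ξ hξ', map_zero,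
        horth ξ (hYS hξ') η (hXS hη') (Ne.symm (hXYne η hη' ξ hξ'))]
    · rw [hY'Y ξ hξ', hY'Y η hη', lio_inner hτ (subset_zspan _ hξ') (subset_zspan _ hη')]
  have hY'g : ∀ ξ ∈ T, IsGeneralizedCharacter G (Y' ξ) := by
    intro ξ hξ
    rcases (hmemT ξ).mp hξ with hξ' | hξ'
    · rw [hY'X ξ hξ']; exact lio_genChar hσ (subset_zspan _ hξ')
    · rw [hY'Y ξ hξ']; exact lio_genChar hτ (subset_zspan _ hξ')
  have hiso := isLinearIsometryOn_extendIso T hneT horthT Y' hY'inner hY'g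
  have hTsub : (↑T : Set (N → ℂ)) ⊆ S := fun ξ hξ => hTS ξ hξ
  have hαT : IsLinearIsometryOn (zspanOn (↑T : Set (N → ℂ)) ({1}ᶜ : Set N)) α :=
    lio_mono hα (zspanOn_mono hTsub _)
  have hχ₀T : χ₀ ∈ T := (hmemT χ₀).mpr (Or.inl hχ₀)
  have hnat : ∀ {Z : Type _} (n : ℕ) (f : Z → ℂ), (n : ℂ) • f = (n : ℤ) • f := by
    intro Z n f
    rw [← Int.cast_smul_eq_zsmul ℂ (n : ℤ) f, Int.cast_natCast]
  have hrel' : α ((dg χ₀ : ℤ) • η₀ - (dg η₀ : ℤ) • χ₀) =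
      (dg χ₀ : ℤ) • τ η₀ - (dg η₀ : ℤ) • σ χ₀ := by
    rw [hdg χ₀ (hXS hχ₀), hdg η₀ (hYS hη₀), hnat, hnat, hnat, hnat] at hrel
    exact hrel
  have hr : (dg χ₀ : ℤ) • η₀ - (dg η₀ : ℤ) • χ₀ ∈ zspanOn S ({1}ᶜ : Set N) := by
    rw [mem_zspanOn_compl_one]
    refine ⟨sub_mem_zspan (zsmul_mem_zspan (subset_zspan _ (hYS hη₀)) _)
      (zsmul_mem_zspan (subset_zspan _ (hXS hχ₀)) _), ?_⟩
    rw [Pi.sub_apply, Pi.smul_apply, Pi.smul_apply, hdg χ₀ (hXS hχ₀), hdg η₀ (hYS hη₀),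
      zsmul_eq_mul, zsmul_eq_mul]
    push_cast; ring
  have hbase : ∀ ξ ∈ T, α ((dg χ₀ : ℤ) • ξ - (dg ξ : ℤ) • χ₀) =
      (dg χ₀ : ℤ) • Y' ξ - (dg ξ : ℤ) • Y' χ₀ := by
    intro ξ hξ
    rw [hY'X χ₀ hχ₀]
    rcases (hmemT ξ).mp hξ with hξ' | hξ'
    · rw [hY'X ξ hξ']; exact hαu ξ hξ' χ₀ hχ₀
    · rw [hY'Y ξ hξ']
      have hw : (dg χ₀ : ℤ) • ξ - (dg ξ : ℤ) • χ₀ ∈ zspanOn S ({1}ᶜ : Set N) := by
        rw [mem_zspanOn_compl_one]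
        refine ⟨sub_mem_zspan (zsmul_mem_zspan (subset_zspan _ (hYS hξ')) _)
          (zsmul_mem_zspan (subset_zspan _ (hXS hχ₀)) _), ?_⟩
        rw [Pi.sub_apply, Pi.smul_apply, Pi.smul_apply, hdg χ₀ (hXS hχ₀), hdg ξ (hYS hξ'),
          zsmul_eq_mul, zsmul_eq_mul]
        push_cast; ring
      have he : (dg η₀ : ℤ) • ((dg χ₀ : ℤ) • ξ - (dg ξ : ℤ) • χ₀) =
          (dg χ₀ : ℤ) • ((dg η₀ : ℤ) • ξ - (dg ξ : ℤ) • η₀) +
            (dg ξ : ℤ) • ((dg χ₀ : ℤ) • η₀ - (dg η₀ : ℤ) • χ₀) := by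
        module
      have hvS := zspanOn_mono hYS ({1}ᶜ : Set N) (hv ξ hξ' η₀ hη₀)
      have h1 : (dg η₀ : ℤ) • α ((dg χ₀ : ℤ) • ξ - (dg ξ : ℤ) • χ₀) =
          (dg η₀ : ℤ) • ((dg χ₀ : ℤ) • τ ξ - (dg ξ : ℤ) • σ χ₀) := by
        rw [← lio_zsmul hα hw, he, lio_add hα (zsmul_mem_zspanOn hvS _) (zsmul_mem_zspanOn hr _),
          lio_zsmul hα hvS, lio_zsmul hα hr, hαv ξ hξ' η₀ hη₀, hrel']
        module
      have he0 : (dg η₀ : ℤ) ≠ 0 := by exact_mod_cast (hdgpos η₀ (hYS hη₀)).ne'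
      exact smul_right_injective (G → ℂ) he0 h1
  have hagree := extendIso_eq_of_base T hneT horthT Y' hαT dg (fun ξ hξ => hdg ξ (hTS ξ hξ))
    hχ₀T (hdgpos χ₀ (hXS hχ₀)).ne' hbase
  refine ⟨?_, extendIso T Y', hiso, hagree⟩
  obtain ⟨a, ha, b, hb, hab⟩ := hX2
  refine ⟨(dg b : ℤ) • a - (dg a : ℤ) • b, ?_, ?_⟩
  · have h1 : X ⊆ (↑T : Set (N → ℂ)) := by rw [hT]; exact Set.subset_union_left
    exact zspanOn_mono h1 _ (hu a ha b hb)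
  · intro h0
    have h1 : classInner ((dg b : ℤ) • a - (dg a : ℤ) • b) a = 0 := by
      rw [h0, classInner_zero_left]
    rw [classInner_sub_left, classInner_zsmul_left, classInner_zsmul_left, hnorm a (hXS ha),
      horth b (hXS hb) a (hXS ha) (Ne.symm hab)] at h1
    have h2 : (dg b : ℂ) = 0 := by
      push_cast at h1
      linear_combination h1
    exact hdgC b (hXS hb) h2

end Cfsg.Agent.S1531
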