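import Cfsg.Statements.S1523
import Cfsg.Agent.Lib.H9.TICong
-- import your own Cfsg.Agent.* helpers here

set_option autoImplicit false
open Cfsg

namespace Cfsg.Agent.S1523

open Cfsg.Agent.Lib.H9.TICong Cfsg.Agent.Lib.L0
open scoped ComplexConjugate

theorem value_int {G : Type*} [Group G] [Finite G] (Z : Subgroup G)
    {ψ : G → ℂ} (hψ : IsCharacter G ψ)
    (hconst : ∀ z ∈ Z, ∀ z' ∈ Z, z ≠ 1 → z' ≠ 1 → ψ z = ψ z') (z : G) (hz : z ∈ Z) (hz1 : z ≠ 1) :
    ∃ n : ℤ, ψ z = n := by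
  classical
  have hfZ : Fintype Z := Fintype.ofFinite _
  obtain ⟨dn, hd⟩ := isCharacter_apply_one hψ
  obtain ⟨k, hk⟩ := classInner_char_irr_nat (isCharacter_restrict Z hψ) (isIrrCharacter_one (G := Z))
  have hsum : ∑ h : Z, ψ h = (Nat.card Z : ℂ) * ψ z + (ψ 1 - ψ z) := by
    have : ∀ h : Z, ψ h = ψ z + (if h = 1 then ψ 1 - ψ z else 0) := by
      intro h
      split_ifs with h1
      · rw [h1]; simp
      · rw [add_zero]
        exact hconst _ h.2 _ hz (fun h2 => h1 (Subtype.ext h2)) hz1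
    rw [Finset.sum_congr rfl (fun h _ => this h), Finset.sum_add_distrib, Finset.sum_const,
      Finset.sum_ite_eq' Finset.univ (1 : Z)]
    simp [Nat.card_eq_fintype_card]
  have hcard : 1 < Nat.card Z := by
    rw [Finite.one_lt_card_iff_nontrivial]
    exact ⟨⟨⟨z, hz⟩, 1, fun h => hz1 (congrArg Subtype.val h)⟩⟩
  rw [classInner] at hk
  have hk2 : (Nat.card Z : ℂ)⁻¹ * ∑ h : Z, ψ h = k := by
    rw [← hk]
    congr 1
    refine Finset.sum_congr rfl (fun h _ => ?_)
    simp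
  rw [hsum, hd] at hk2
  have hZne : (Nat.card Z : ℂ) ≠ 0 := by
    exact_mod_cast (by omega : Nat.card Z ≠ 0)
  have hZ1ne : (Nat.card Z : ℂ) - 1 ≠ 0 := by
    have : (Nat.card Z : ℂ) ≠ 1 := by exact_mod_cast (by omega : Nat.card Z ≠ 1)
    exact sub_ne_zero.mpr this
  have hval : ψ z = (((Nat.card Z : ℚ) * k - dn) / ((Nat.card Z : ℚ) - 1) : ℚ) := by
    push_cast
    rw [eq_div_iff hZ1ne]
    field_simp at hk2
    linear_combination hk2
  exact FrobTI.int_of_isIntegral_of_rat (isCharacter_isIntegral hψ z) _ hval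



/-- Let G be a finite group, p a prime, P a Sylow p-subgroup whose underlying set is a TI-subset of G, with L the set normaliser of P of odd order. Let Z ≠ ⊥ be a subgroup of P, normal in L and central in P, such that the centralisers in L of any two non-identity elements of Z have the same order. If ψ is an irreducible character of G taking the same value at all non-identity elements of Z, then for z ∈ Z, z ≠ 1, the value ψ z is an integer n with Nat.card P dividing ψ(1) − n (as integers, ψ 1 being the degree). -/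
theorem result {G : Type*} [Group G] [Finite G] (p : ℕ) [Fact p.Prime] (P : Sylow p G) (hTI : Cfsg.IsTISubset ((P : Subgroup G) : Set G)) (hodd : Odd (Nat.card (Subgroup.normalizer ((P : Subgroup G) : Set G)))) (Z : Subgroup G) (hZ1 : Z ≠ ⊥) (hZP : Z ≤ P) (hZn : ∀ x ∈ Subgroup.normalizer ((P : Subgroup G) : Set G), ∀ z ∈ Z, x * z * x⁻¹ ∈ Z) (hZc : ∀ z ∈ Z, ∀ y ∈ (P : Subgroup G), z * y = y * z) (hCL : ∀ z ∈ Z, ∀ z' ∈ Z, z ≠ 1 → z' ≠ 1 → Nat.card ↥(Subgroup.normalizer ((P : Subgroup G) : Set G) ⊓ Subgroup.centralizer ({z} : Set G)) = Nat.card ↥(Subgroup.normalizer ((P : Subgroup G) : Set G) ⊓ Subgroup.centralizer ({z'} : Set G))) (ψ : G → ℂ) (hψ : Cfsg.IsIrrCharacter G ψ) (hconst : ∀ z ∈ Z, ∀ z' ∈ Z, z ≠ 1 → z' ≠ 1 → ψ z = ψ z') (z : G) (hz : z ∈ Z) (hz1 : z ≠ 1) : ∃ n d : ℤ, ψ z = n ∧ ψ 1 = d ∧ (Nat.card (P : Subgroup G) : ℤ) ∣ d - n := by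
  classical
  have hfG : Fintype G := Fintype.ofFinite G
  have hchar := isCharacter_of_irr hψ
  obtain ⟨dn, hd⟩ := isCharacter_apply_one hchar
  obtain ⟨n, hn⟩ := value_int Z hchar hconst z hz hz1
  obtain ⟨c, hc, hcore⟩ := core (P : Subgroup G) hTI hodd Z hZP hZn hZc hψ hconst z hz hz1
  set C : Subgroup G := Subgroup.normalizer ((P : Subgroup G) : Set G) ⊓
    Subgroup.centralizer ({z} : Set G) with hCdef
  have hPC : (P : Subgroup G) ≤ C := by
    intro y hy
    have hyc : y ∈ Subgroup.centralizer ({z} : Set G) := by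
      rw [Subgroup.mem_centralizer_singleton_iff]
      exact (hZc z hz y hy).symm
    exact ⟨Subgroup.le_normalizer hy, hyc⟩
  have hPpos : 0 < Nat.card (P : Subgroup G) := Nat.card_pos
  have hPne : (Nat.card (P : Subgroup G) : ℂ) ≠ 0 := by exact_mod_cast hPpos.ne'
  -- c is an integer
  rw [hd, hn] at hcore
  have hcq : c = (((Nat.card C : ℚ) * ((dn : ℚ) - (n : ℚ)) / (Nat.card (P : Subgroup G) : ℚ) ^ 2 : ℚ) : ℂ) := by
    push_cast
    rw [eq_div_iff (pow_ne_zero 2 hPne)]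
    linear_combination (-1 : ℂ) * hcore
  obtain ⟨k, hk⟩ := FrobTI.int_of_isIntegral_of_rat hc _ hcq
  rw [hk] at hcore
  have hint : (Nat.card C : ℤ) * ((dn : ℤ) - n) = (Nat.card (P : Subgroup G) : ℤ) ^ 2 * k := by
    exact_mod_cast hcore
  -- |C| = |P| * e with p ∤ e
  have hcardC : Nat.card C = Nat.card (P : Subgroup G) * ((P : Subgroup G).relIndex C) := by
    rw [Subgroup.relIndex, ← Subgroup.card_mul_index ((P : Subgroup G).subgroupOf C)]
    congr 1
    exact Nat.card_congr (Subgroup.subgroupOfEquivOfLe hPC).toEquiv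
  have hnd : ¬ p ∣ (P : Subgroup G).relIndex C := by
    intro h
    have h1 := Subgroup.relIndex_mul_index hPC
    exact P.not_dvd_index (h1 ▸ Dvd.dvd.mul_right h _)
  obtain ⟨a, ha⟩ := P.2.exists_card_eq
  have hp : p.Prime := Fact.out
  have hcop : Nat.Coprime (Nat.card (P : Subgroup G)) ((P : Subgroup G).relIndex C) := by
    rw [ha]
    exact Nat.Coprime.pow_left a ((Nat.Prime.coprime_iff_not_dvd hp).mpr hnd)
  refine ⟨n, dn, hn, by exact_mod_cast hd, ?_⟩
  rw [hcardC] at hint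
  push_cast at hint
  have hPz : (Nat.card (P : Subgroup G) : ℤ) ≠ 0 := by exact_mod_cast hPpos.ne'
  have h2 : ((P : Subgroup G).relIndex C : ℤ) * ((dn : ℤ) - n) = (Nat.card (P : Subgroup G) : ℤ) * k := by
    apply mul_left_cancel₀ hPz
    linear_combination hint
  have h3 : (Nat.card (P : Subgroup G) : ℤ) ∣ ((P : Subgroup G).relIndex C : ℤ) * ((dn : ℤ) - n) :=
    ⟨k, h2⟩
  have hcopz : IsCoprime (Nat.card (P : Subgroup G) : ℤ) ((P : Subgroup G).relIndex C : ℤ) :=
    Nat.isCoprime_iff_coprime.mpr hcop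
  exact hcopz.dvd_of_dvd_mul_left h3


end Cfsg.Agent.S1523
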