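import Mathlib
import Cfsg.Statements.S1509
import Cfsg.Agent.Lib.H8.SignedIrr

set_option autoImplicit false
open Cfsg

namespace Cfsg.Agent.S1509

open scoped ComplexConjugate
open Cfsg.Agent.Lib.H8 Cfsg.Agent.Lib.L0

theorem core {X : Type*} [Group X] [Fintype X] (α β γ δ : X → ℂ)
    (hα : Cfsg.IsIrrCharacter X α ∨ Cfsg.IsIrrCharacter X (-α))
    (hβ : Cfsg.IsIrrCharacter X β ∨ Cfsg.IsIrrCharacter X (-β))
    (hγ : Cfsg.IsIrrCharacter X γ ∨ Cfsg.IsIrrCharacter X (-γ))
    (hδ : Cfsg.IsIrrCharacter X δ ∨ Cfsg.IsIrrCharacter X (-δ))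
    (u v : ℂ) (hu : u ≠ 0) (huv : u * u + v * v ≠ 0)
    (hab : Cfsg.classInner α β = 0) (hcd : Cfsg.classInner γ δ = 0)
    (hmix : u * Cfsg.classInner α γ - v * Cfsg.classInner α δ - u * Cfsg.classInner β γ
      + v * Cfsg.classInner β δ = 0)
    (h1 : α 1 = β 1) (h2 : u * γ 1 = v * δ 1) : Cfsg.classInner α γ = 0 := by
  by_contra hx
  have A1 := signedIrr_eq_smul_of_classInner_ne_zero hα hγ hx
  have hx' : Cfsg.classInner γ α ≠ 0 := by
    rw [← classInner_conj_symm]
    simpa using hx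
  have A2 := signedIrr_eq_smul_of_classInner_ne_zero hγ hα hx'
  have hy : Cfsg.classInner α δ = 0 := by
    have : Cfsg.classInner α δ = Cfsg.classInner (Cfsg.classInner α γ • γ) δ :=
      congrArg (fun f => Cfsg.classInner f δ) A1
    rw [this, classInner_smul_left, hcd, mul_zero]
  have hz : Cfsg.classInner β γ = 0 := by
    have : Cfsg.classInner β γ = Cfsg.classInner β (Cfsg.classInner γ α • α) :=
      congrArg (fun f => Cfsg.classInner β f) A2
    rw [this, classInner_smul_right, ← classInner_conj_symm α β, hab]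
    simp
  rw [hy, hz] at hmix
  have hw : Cfsg.classInner β δ ≠ 0 := by
    intro hw
    rw [hw] at hmix
    have : u * Cfsg.classInner α γ = 0 := by linear_combination hmix
    rcases mul_eq_zero.mp this with h | h
    · exact hu h
    · exact hx h
  have B1 := signedIrr_eq_smul_of_classInner_ne_zero hβ hδ hw
  have e1 : Cfsg.classInner α γ * γ 1 = Cfsg.classInner β δ * δ 1 := by
    have a1 := congrFun A1 1
    have b1 := congrFun B1 1
    simp only [Pi.smul_apply, smul_eq_mul] at a1 b1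
    rw [← a1, ← b1, h1]
  have hfin : Cfsg.classInner β δ * ((u * u + v * v) * δ 1) = 0 := by
    linear_combination (-u * u) * e1 + (u * γ 1) * hmix - (Cfsg.classInner β δ * v) * h2
  rcases mul_eq_zero.mp hfin with h | h
  · exact hw h
  · rcases mul_eq_zero.mp h with h | h
    · exact huv h
    · exact signedIrr_apply_one_ne_zero hδ h

/-- Let α, β, γ, δ be functions on a finite group X each of which is an irreducible character or the negative of one, and u, v nonzero real numbers. Suppose ⟨α, β⟩ = ⟨γ, δ⟩ = 0, ⟨α − β, uγ − vδ⟩ = 0, α 1 = β 1 and u γ 1 = v δ 1. Then also ⟨α, γ⟩ = ⟨α, δ⟩ = ⟨β, γ⟩ = ⟨β, δ⟩ = 0. -/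
theorem result {X : Type*} [Group X] [Fintype X] (α β γ δ : X → ℂ) (hα : Cfsg.IsIrrCharacter X α ∨ Cfsg.IsIrrCharacter X (-α)) (hβ : Cfsg.IsIrrCharacter X β ∨ Cfsg.IsIrrCharacter X (-β)) (hγ : Cfsg.IsIrrCharacter X γ ∨ Cfsg.IsIrrCharacter X (-γ)) (hδ : Cfsg.IsIrrCharacter X δ ∨ Cfsg.IsIrrCharacter X (-δ)) (u v : ℝ) (hu : u ≠ 0) (hv : v ≠ 0) (hab : Cfsg.classInner α β = 0) (hcd : Cfsg.classInner γ δ = 0) (hmix : Cfsg.classInner (α - β) ((u : ℂ) • γ - (v : ℂ) • δ) = 0) (h1 : α 1 = β 1) (h2 : (u : ℂ) * γ 1 = (v : ℂ) * δ 1) : Cfsg.classInner α γ = 0 ∧ Cfsg.classInner α δ = 0 ∧ Cfsg.classInner β γ = 0 ∧ Cfsg.classInner β δ = 0 := by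
  rw [classInner_sub_left, classInner_sub_right, classInner_sub_right, classInner_smul_right,
    classInner_smul_right, classInner_smul_right, classInner_smul_right, Complex.conj_ofReal,
    Complex.conj_ofReal] at hmix
  have hu' : (u : ℂ) ≠ 0 := by exact_mod_cast hu
  have hv' : (v : ℂ) ≠ 0 := by exact_mod_cast hv
  have huv : (u : ℂ) * u + v * v ≠ 0 := by
    have : 0 < u * u + v * v := by nlinarith [mul_self_pos.mpr hu, mul_self_nonneg v]
    exact_mod_cast this.ne'
  have hvu : (v : ℂ) * v + u * u ≠ 0 := by rwa [add_comm]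
  have hba : Cfsg.classInner β α = 0 := by rw [← classInner_conj_symm, hab, map_zero]
  have hdc : Cfsg.classInner δ γ = 0 := by rw [← classInner_conj_symm, hcd, map_zero]
  refine ⟨?_, ?_, ?_, ?_⟩
  · exact core α β γ δ hα hβ hγ hδ u v hu' huv hab hcd (by linear_combination hmix) h1 h2
  · exact core α β δ γ hα hβ hδ hγ v u hv' hvu hab hdc (by linear_combination -hmix) h1 h2.symm
  · exact core β α γ δ hβ hα hγ hδ u v hu' huv hba hcd (by linear_combination -hmix) h1.symm h2
  · exact core β α δ γ hβ hα hδ hγ v u hv' hvu hba hdc (by linear_combination hmix) h1.symm h2.symm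

end Cfsg.Agent.S1509
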