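import Mathlib
import Cfsg.Statements.S1514
import Cfsg.Agent.Lib.H8.GenChar
import Cfsg.Agent.Lib.H8.SignedIrr
import Cfsg.Agent.S1509

set_option autoImplicit false
open Cfsg

namespace Cfsg.Agent.S1514

open scoped ComplexConjugate
open Cfsg.Agent.Lib.H8 Cfsg.Agent.Lib.L0 Cfsg.Agent.Lib.H24

theorem conjFun_app {X : Type*} (χ : X → ℂ) (x : X) :
    Cfsg.conjFun χ x = conj (χ x) := rfl

theorem classInner_conjFun {L : Type*} [Group L] [Fintype L] (φ χ : L → ℂ) :
    Cfsg.classInner (Cfsg.conjFun φ) (Cfsg.conjFun χ) = conj (Cfsg.classInner φ χ) := by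
  simp only [Cfsg.classInner, conjFun_app, map_mul, map_inv₀, Complex.conj_natCast, map_sum]

theorem signed_neg {G : Type*} [Group G] {a : G → ℂ}
    (h : Cfsg.IsIrrCharacter G a ∨ Cfsg.IsIrrCharacter G (-a)) :
    Cfsg.IsIrrCharacter G (-a) ∨ Cfsg.IsIrrCharacter G (-(-a)) := by
  rcases h with h | h
  · right; rwa [neg_neg]
  · left; exact h

theorem signed_genChar {G : Type*} [Group G] {a : G → ℂ}
    (h : Cfsg.IsIrrCharacter G a ∨ Cfsg.IsIrrCharacter G (-a)) :
    Cfsg.IsGeneralizedCharacter G a := by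
  rcases h with h | h
  · exact isGeneralizedCharacter_of_isCharacter (isCharacter_of_irr h)
  · have := isGeneralizedCharacter_neg (isGeneralizedCharacter_of_isCharacter (isCharacter_of_irr h))
    rwa [neg_neg] at this

open Classical in
/-- Let S be a nonempty set of irreducible characters of the finite group L, closed under complex conjugation and containing no real-valued member, and τ a linear isometry on the integer combinations of S vanishing at 1, with values virtual characters of G vanishing at 1. Then there is a choice R making (S, τ, R) a coherence system. -/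
theorem result {L : Type*} [Group L] [Fintype L] {G : Type*} [Group G] [Fintype G] (S : Set (L → ℂ)) (hS : S.Nonempty) (hirr : ∀ χ ∈ S, Cfsg.IsIrrCharacter L χ) (hconj : ∀ χ ∈ S, Cfsg.conjFun χ ∈ S ∧ Cfsg.conjFun χ ≠ χ) (τ : (L → ℂ) → (G → ℂ)) (hτ : Cfsg.IsLinearIsometryOn (Cfsg.zspanOn S {1}ᶜ) τ) (hτ1 : ∀ α ∈ Cfsg.zspanOn S {1}ᶜ, τ α 1 = 0) : ∃ R : (L → ℂ) → Finset (G → ℂ), Cfsg.IsCoherenceSystem S τ R := by
  obtain ⟨hadd, hsmul, hiso, hgen⟩ := hτ
  -- the differences `χ - conj χ`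
  have hD : ∀ χ ∈ S, (χ - Cfsg.conjFun χ) ∈ Cfsg.zspanOn S {1}ᶜ := by
    intro χ hχ
    refine ⟨Submodule.sub_mem _ (Submodule.subset_span hχ) (Submodule.subset_span (hconj χ hχ).1), ?_⟩
    intro x hx
    have hx1 : x = 1 := by
      by_contra h
      exact hx h
    subst hx1
    obtain ⟨n, hn⟩ := isCharacter_apply_one (isCharacter_of_irr (hirr χ hχ))
    simp [conjFun_app, hn]
  have hDD : ∀ χ ∈ S, ∀ φ ∈ S, Cfsg.classInner (φ - Cfsg.conjFun φ) (χ - Cfsg.conjFun χ)
      = Cfsg.classInner φ χ - Cfsg.classInner φ (Cfsg.conjFun χ)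
        - conj (Cfsg.classInner φ (Cfsg.conjFun χ)) + conj (Cfsg.classInner φ χ) := by
    intro χ hχ φ hφ
    rw [classInner_sub_left, classInner_sub_right, classInner_sub_right, classInner_conjFun]
    have : Cfsg.classInner (Cfsg.conjFun φ) χ = conj (Cfsg.classInner φ (Cfsg.conjFun χ)) := by
      rw [← classInner_conjFun]
      congr 1
      funext x
      simp [conjFun_app]
    rw [this]
    ring
  have hnorm : ∀ χ ∈ S, Cfsg.classInner (τ (χ - Cfsg.conjFun χ)) (τ (χ - Cfsg.conjFun χ)) = 2 := by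
    intro χ hχ
    rw [hiso _ (hD χ hχ) _ (hD χ hχ), hDD χ hχ χ hχ, irr_classInner_self (hirr χ hχ),
      irr_classInner_ne (hirr χ hχ) (hirr _ (hconj χ hχ).1) (hconj χ hχ).2.symm]
    simp
    norm_num
  have key : ∀ χ ∈ S, ∃ a b : G → ℂ, (Cfsg.IsIrrCharacter G a ∨ Cfsg.IsIrrCharacter G (-a)) ∧
      (Cfsg.IsIrrCharacter G b ∨ Cfsg.IsIrrCharacter G (-b)) ∧
      Cfsg.classInner a b = 0 ∧ τ (χ - Cfsg.conjFun χ) = a + b :=
    fun χ hχ => genChar_norm_two (hgen _ (hD χ hχ)) (hnorm χ hχ)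
  choose a b ha hb hab hsum using key
  have hne : ∀ χ (hχ : χ ∈ S), a χ hχ ≠ b χ hχ := by
    intro χ hχ h
    have := hab χ hχ
    rw [← h, signedIrr_classInner_self (ha χ hχ)] at this
    exact one_ne_zero this
  have hba : ∀ χ (hχ : χ ∈ S), Cfsg.classInner (b χ hχ) (a χ hχ) = 0 := by
    intro χ hχ
    rw [← classInner_conj_symm, hab χ hχ, map_zero]
  have hone : ∀ χ (hχ : χ ∈ S), a χ hχ 1 = -(b χ hχ 1) := by
    intro χ hχ
    have := hτ1 _ (hD χ hχ)
    rw [hsum χ hχ, Pi.add_apply] at this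
    linear_combination this
  refine ⟨fun χ => if h : χ ∈ S then {a χ h, b χ h} else ∅, ?_⟩
  refine
    { nonempty := hS
      isCharacter := fun χ hχ => isCharacter_of_irr (hirr χ hχ)
      conj_mem := fun χ hχ => (hconj χ hχ).1
      conj_ne := fun χ hχ => (hconj χ hχ).2
      isometry := ⟨hadd, hsmul, hiso, hgen⟩
      map_one := hτ1
      orthogonal := fun χ hχ φ hφ hne => irr_classInner_ne (hirr χ hχ) (hirr φ hφ) hne
      orthonormal := ?_
      virtual := ?_
      sum_eq := ?_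
      disjoint := ?_ }
  · intro χ hχ α hα β hβ
    simp only [dif_pos hχ, Finset.mem_insert, Finset.mem_singleton] at hα hβ
    rcases hα with rfl | rfl <;> rcases hβ with rfl | rfl
    · rw [if_pos rfl]; exact signedIrr_classInner_self (ha χ hχ)
    · rw [if_neg (hne χ hχ)]; exact hab χ hχ
    · rw [if_neg (hne χ hχ).symm]; exact hba χ hχ
    · rw [if_pos rfl]; exact signedIrr_classInner_self (hb χ hχ)
  · intro χ hχ α hα
    simp only [dif_pos hχ, Finset.mem_insert, Finset.mem_singleton] at hα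
    rcases hα with rfl | rfl
    · exact signed_genChar (ha χ hχ)
    · exact signed_genChar (hb χ hχ)
  · intro χ hχ
    simp only [dif_pos hχ]
    rw [Finset.sum_pair (hne χ hχ)]
    exact hsum χ hχ
  · intro χ hχ φ hφ h1 h2 α hα β hβ
    simp only [dif_pos hχ, dif_pos hφ, Finset.mem_insert, Finset.mem_singleton] at hα hβ
    have hcross : Cfsg.classInner (τ (φ - Cfsg.conjFun φ)) (τ (χ - Cfsg.conjFun χ)) = 0 := by
      rw [hiso _ (hD φ hφ) _ (hD χ hχ), hDD χ hχ φ hφ, h1, h2]
      simp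
    rw [hsum φ hφ, hsum χ hχ] at hcross
    have hmix : Cfsg.classInner (a φ hφ - -(b φ hφ))
        (((1 : ℝ) : ℂ) • a χ hχ - ((1 : ℝ) : ℂ) • -(b χ hχ)) = 0 := by
      have e1 : a φ hφ - -(b φ hφ) = a φ hφ + b φ hφ := by abel
      have e2 : (((1 : ℝ) : ℂ) • a χ hχ - ((1 : ℝ) : ℂ) • -(b χ hχ)) = a χ hχ + b χ hχ := by
        simp
      rw [e1, e2]; exact hcross
    have h9 := Cfsg.Agent.S1509.result (a φ hφ) (-(b φ hφ)) (a χ hχ) (-(b χ hχ))
      (ha φ hφ) (signed_neg (hb φ hφ)) (ha χ hχ) (signed_neg (hb χ hχ)) 1 1 one_ne_zero one_ne_zero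
      (by rw [classInner_neg_right, hab φ hφ, neg_zero])
      (by rw [classInner_neg_right, hab χ hχ, neg_zero])
      hmix
      (by rw [Pi.neg_apply]; exact hone φ hφ)
      (by rw [Pi.neg_apply, hone χ hχ])
    obtain ⟨r1, r2, r3, r4⟩ := h9
    rw [classInner_neg_right] at r2
    rw [classInner_neg_left] at r3
    rw [classInner_neg_left, classInner_neg_right] at r4
    have r2' : Cfsg.classInner (a φ hφ) (b χ hχ) = 0 := by simpa using r2
    have r3' : Cfsg.classInner (b φ hφ) (a χ hχ) = 0 := by simpa using r3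
    have r4' : Cfsg.classInner (b φ hφ) (b χ hχ) = 0 := by simpa using r4
    rcases hα with rfl | rfl <;> rcases hβ with rfl | rfl
    · exact r1
    · exact r2'
    · exact r3'
    · exact r4'

end Cfsg.Agent.S1514
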