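import Mathlib
import Cfsg.Statements.S1535
import Cfsg.Agent.Lib.H8.FeitFrob

set_option autoImplicit false
open Cfsg

namespace Cfsg.Agent.S1535

/-- Let N be a finite group with a proper nontrivial normal subgroup H such that every element commuting with a non-identity element of H lies in H (N is a Frobenius group with kernel H); let e be the index of H and suppose Nat.card H ≠ e + 1. Let S be the set of irreducible characters χ of N with χ h ≠ χ 1 for some h ∈ H, and τ a linear isometry on the integer combinations of S vanishing at 1, with values virtual characters of a finite group G vanishing at 1. Then (S, N minus 1, τ) is coherent, or there is a prime p with Nat.card H a power of p, H non-abelian and [H : [H,H]] ≤ 4e² + 1. -/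
theorem result {N : Type*} [Group N] [Fintype N] {G : Type*} [Group G] [Fintype G] (H : Subgroup N) [H.Normal] (hH1 : H ≠ ⊥) (hH2 : H ≠ ⊤) (hC : ∀ h ∈ H, h ≠ 1 → Subgroup.centralizer ({h} : Set N) ≤ H) (he : Nat.card H ≠ H.index + 1) (τ : (N → ℂ) → (G → ℂ)) (hτ : Cfsg.IsLinearIsometryOn (Cfsg.zspanOn {χ : N → ℂ | Cfsg.IsIrrCharacter N χ ∧ ∃ h ∈ H, χ h ≠ χ 1} {1}ᶜ) τ) (hτ1 : ∀ α ∈ Cfsg.zspanOn {χ : N → ℂ | Cfsg.IsIrrCharacter N χ ∧ ∃ h ∈ H, χ h ≠ χ 1} {1}ᶜ, τ α 1 = 0) : Cfsg.IsCoherent {χ : N → ℂ | Cfsg.IsIrrCharacter N χ ∧ ∃ h ∈ H, χ h ≠ χ 1} {1}ᶜ τ ∨ ∃ p : ℕ, p.Prime ∧ (∃ m : ℕ, Nat.card H = p ^ m) ∧ ¬ IsMulCommutative H ∧ (⁅H, H⁆.subgroupOf H).index ≤ 4 * H.index ^ 2 + 1 := by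
  classical
  have hnil := Cfsg.Agent.Lib.H8.nilpotent_of_kernel_type H hH2 hC
  have hS := Cfsg.Agent.Lib.H8.feitSys_feitSet H τ hτ hτ1
  show Cfsg.IsCoherent (Cfsg.Agent.Lib.H8.feitSet H) {1}ᶜ τ ∨ _
  by_cases hab : IsMulCommutative H
  · left
    exact Cfsg.Agent.Lib.H8.feit_abelian H hC hnil hH1 hS hab he
  · by_cases hpp : ∃ p : ℕ, p.Prime ∧ ∃ m : ℕ, Nat.card H = p ^ m
    · obtain ⟨p, hp, m, hm⟩ := hpp
      by_cases hsmall : (⁅H, H⁆.subgroupOf H).index ≤ 4 * H.index ^ 2 + 1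
      · right
        exact ⟨p, hp, ⟨m, hm⟩, hab, hsmall⟩
      · left
        apply Cfsg.Agent.Lib.H8.feit_big_index H hC hnil hH1 hS
        show 4 * H.index ^ 2 + 2 ≤ (⁅H, H⁆.subgroupOf H).index
        omega
    · left
      have hcard1 : Nat.card H ≠ 1 := fun h => hH1 (Subgroup.card_eq_one.mp h)
      obtain ⟨p, hp, hpH⟩ := Nat.exists_prime_and_dvd hcard1
      have hex : ∃ q : ℕ, q.Prime ∧ q ∣ Nat.card H ∧ q ≠ p := by
        by_contra hcon
        push Not at hcon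
        apply hpp
        exact ⟨p, hp, _, Nat.eq_prime_pow_of_unique_prime_dvd Nat.card_pos.ne'
          (fun {q} hq hqd => hcon q hq hqd)⟩
      obtain ⟨q, hq, hqH, hqp⟩ := hex
      exact Cfsg.Agent.Lib.H8.feit_two_primes H hC hnil hS hp hq (Ne.symm hqp) hpH hqH

end Cfsg.Agent.S1535
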