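import Cfsg.Statements.S1534
import Mathlib
import Cfsg.Agent.Lib.H8.SibleyF
import Cfsg.Agent.Lib.H8.SibleyG
import Cfsg.Agent.Lib.H8.SibleyH
import Cfsg.Agent.S1535

set_option autoImplicit false
open Cfsg
open Cfsg.Agent.Lib.H8 Cfsg.Agent.Lib.L0 Cfsg.Agent.Lib.H24
open scoped commutatorElement

namespace Cfsg.Agent.S1534

/-- Let G be a finite group and K a nontrivial nilpotent subgroup whose underlying set is a TI-subset of G, properly contained in its set normaliser N, with C_G(k) ≤ K for every non-identity k ∈ K; let e be the index of K in N and S the set of irreducible characters χ of N with χ k ≠ χ 1 for some k ∈ K. Then one of: S has exactly one member, Nat.card K = e + 1 and K is an elementary abelian p-group for some prime p; or K is a Sylow 2-subgroup of G (Nat.card K is the largest power of 2 dividing Nat.card G) and [K : [K,K]] < 4e²; or (S, N minus 1, induction to G) is coherent. -/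
theorem result {G : Type*} [Group G] [Fintype G] (K : Subgroup G) (hK1 : K ≠ ⊥) (hnil : Group.IsNilpotent K) (hTI : Cfsg.IsTISubset (K : Set G)) (hlt : K < Subgroup.normalizer (K : Set G)) (hC : ∀ k ∈ K, k ≠ 1 → Subgroup.centralizer ({k} : Set G) ≤ K) [Fintype ↥(Subgroup.normalizer (K : Set G))] : (Nat.card {χ : ↥(Subgroup.normalizer (K : Set G)) → ℂ // Cfsg.IsIrrCharacter ↥(Subgroup.normalizer (K : Set G)) χ ∧ ∃ k : ↥(Subgroup.normalizer (K : Set G)), (k : G) ∈ K ∧ χ k ≠ χ 1} = 1 ∧ Nat.card K = (K.subgroupOf (Subgroup.normalizer (K : Set G))).index + 1 ∧ ∃ p : ℕ, p.Prime ∧ Cfsg.IsElementaryAbelian p K) ∨ (Nat.card K = 2 ^ (Nat.card G).factorization 2 ∧ (⁅K, K⁆.subgroupOf K).index < 4 * (K.subgroupOf (Subgroup.normalizer (K : Set G))).index ^ 2) ∨ Cfsg.IsCoherent {χ : ↥(Subgroup.normalizer (K : Set G)) → ℂ | Cfsg.IsIrrCharacter ↥(Subgroup.normalizer (K : Set G)) χ ∧ ∃ k : ↥(Subgroup.normalizer (K : Set G)), (k : G) ∈ K ∧ χ k ≠ χ 1} {1}ᶜ (fun α => Cfsg.indFun (Subgroup.normalizer (K : Set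 G)) α) := by
  classical
  have hKN : K ≤ Subgroup.normalizer (K : Set G) := Subgroup.le_normalizer
  have hnorm : ∀ x ∈ Subgroup.normalizer (K : Set G), ∀ y ∈ K, x * y * x⁻¹ ∈ K := by
    intro x hx y hy
    rw [Subgroup.mem_normalizer_iff] at hx
    exact (hx y).mp hy
  have hTI' : ∀ g : G, ∀ a ∈ K, a ≠ 1 → g * a * g⁻¹ ∈ K → g ∈ Subgroup.normalizer (K : Set G) := by
    intro g a ha ha1 hga
    by_contra hg
    exact ha1 (hTI g hg a ha hga)
  obtain ⟨Kn, hKdef⟩ : ∃ Kn : Subgroup ↥(Subgroup.normalizer (K : Set G)),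
      Kn = K.subgroupOf (Subgroup.normalizer (K : Set G)) := ⟨_, rfl⟩
  have hKmem : ∀ x : ↥(Subgroup.normalizer (K : Set G)), x ∈ Kn ↔ (x : G) ∈ K := fun x => by
    rw [hKdef]; exact Subgroup.mem_subgroupOf
  haveI hKn : Kn.Normal := by
    constructor
    intro k hk x
    rw [hKmem] at hk ⊢
    exact hnorm x x.2 k hk
  have hCK : ∀ k ∈ Kn, k ≠ 1 → Subgroup.centralizer
      ({k} : Set ↥(Subgroup.normalizer (K : Set G))) ≤ Kn := by
    intro k hk hk1 x hx
    rw [hKmem]
    apply hC (k : G) ((hKmem k).mp hk) (fun h => hk1 (Subtype.ext h))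
    rw [Subgroup.mem_centralizer_singleton_iff] at hx ⊢
    exact congrArg Subtype.val hx
  have hKcard : Nat.card Kn = Nat.card K := by
    rw [hKdef]
    exact Nat.card_congr (Subgroup.subgroupOfEquivOfLe hKN).toEquiv
  have hKn1 : Kn ≠ ⊥ := by
    intro h
    apply hK1
    rw [← Subgroup.card_eq_one, ← hKcard, h]
    exact Subgroup.card_bot
  have hKn2 : Kn ≠ ⊤ := by
    intro h
    apply hlt.not_ge
    intro x hx
    have : (⟨x, hx⟩ : ↥(Subgroup.normalizer (K : Set G))) ∈ Kn := by
      rw [h]; exact Subgroup.mem_top _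
    exact (hKmem _).mp this
  have hiff : ∀ χ : ↥(Subgroup.normalizer (K : Set G)) → ℂ,
      (IsIrrCharacter ↥(Subgroup.normalizer (K : Set G)) χ ∧
        ∃ k : ↥(Subgroup.normalizer (K : Set G)), (k : G) ∈ K ∧ χ k ≠ χ 1) ↔
      (IsIrrCharacter ↥(Subgroup.normalizer (K : Set G)) χ ∧ ∃ h ∈ Kn, χ h ≠ χ 1) := by
    intro χ
    constructor
    · rintro ⟨h1, x, hx, h2⟩
      exact ⟨h1, x, (hKmem x).mpr hx, h2⟩
    · rintro ⟨h1, x, hx, h2⟩
      exact ⟨h1, x, (hKmem x).mp hx, h2⟩
  have hset : {χ : ↥(Subgroup.normalizer (K : Set G)) → ℂ |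
      IsIrrCharacter ↥(Subgroup.normalizer (K : Set G)) χ ∧
        ∃ k : ↥(Subgroup.normalizer (K : Set G)), (k : G) ∈ K ∧ χ k ≠ χ 1} =
      {χ | IsIrrCharacter ↥(Subgroup.normalizer (K : Set G)) χ ∧ ∃ h ∈ Kn, χ h ≠ χ 1} := by
    ext χ
    exact hiff χ
  have hSeq : feitSet Kn = inducedIrrAbove Kn ⊥ :=
    Set.Subset.antisymm (feitSet_subset_inducedIrrAbove Kn hCK)
      (inducedIrrAbove_subset_feitSet Kn hCK ⊥)
  have hSdef : feitSet Kn = {χ : ↥(Subgroup.normalizer (K : Set G)) → ℂ |
      IsIrrCharacter ↥(Subgroup.normalizer (K : Set G)) χ ∧ ∃ h ∈ Kn, χ h ≠ χ 1} := rfl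
  have hequiv : ↥Kn ≃* ↥K := by
    rw [hKdef]; exact Subgroup.subgroupOfEquivOfLe hKN
  haveI hKnil : Group.IsNilpotent ↥Kn := (Group.isNilpotent_congr hequiv).mpr hnil
  have hcommK : (∀ a ∈ Kn, ∀ b ∈ Kn, a * b = b * a) → IsMulCommutative K := by
    intro h
    refine ⟨⟨fun a b => ?_⟩⟩
    have h1 := h ⟨(a : G), hKN a.2⟩ ((hKmem _).mpr a.2) ⟨(b : G), hKN b.2⟩ ((hKmem _).mpr b.2)
    have h2 : (a : G) * (b : G) = (b : G) * (a : G) := congrArg Subtype.val h1
    exact Subtype.ext h2
  by_cases he : Nat.card Kn = Kn.index + 1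
  · left
    refine ⟨?_, ?_, ?_⟩
    · rw [← card_feitSet_of_card_eq_index_succ Kn hCK he]
      exact Nat.card_congr (Equiv.subtypeEquivRight hiff)
    · rw [← hKcard, he, hKdef]
    · have hne1 : Nat.card Kn ≠ 1 := fun h => hKn1 (Subgroup.card_eq_one.mp h)
      refine ⟨(Nat.card Kn).minFac, Nat.minFac_prime hne1, ?_, ?_⟩
      · exact hcommK (comm_of_card_eq_index_succ Kn hCK he hKn1 hKnil)
      · intro a ha
        have h1 := pow_eq_one_of_card_eq_index_succ Kn hCK he hKn1 hKnil (Nat.card Kn).minFac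
          (Nat.minFac_prime hne1) (Nat.minFac_dvd _) ⟨a, hKN ha⟩ ((hKmem _).mpr ha)
        exact congrArg Subtype.val h1
  · right
    obtain ⟨hτ, hτ1⟩ := tifn_isometry K (Subgroup.normalizer (K : Set G)) hnorm hTI' hC
    rw [← hKdef] at hτ hτ1
    rcases Cfsg.Agent.S1535.result Kn hKn1 hKn2 hCK he
      (fun α => indFun (Subgroup.normalizer (K : Set G)) α) hτ hτ1 with
      h | ⟨p, hp, ⟨m, hm⟩, hna, hidx⟩
    · right; rw [hset]; exact h
    · haveI : Fact p.Prime := ⟨hp⟩
      have hKcard' : Nat.card K = p ^ m := by rw [← hKcard]; exact hm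
      have hKp : IsPGroup p K := IsPGroup.of_card hKcard'
      obtain ⟨P, hP⟩ := exists_sylow_eq_of_centralizer_le p K hKp hK1 hC
      have hna' : ¬ IsMulCommutative K := by
        intro hc
        apply hna
        refine ⟨⟨fun a b => ?_⟩⟩
        have h1 := hc.is_comm.comm ⟨(a : G), (hKmem a).mp a.2⟩ ⟨(b : G), (hKmem b).mp b.2⟩
        have h2 : ((a : ↥(Subgroup.normalizer (K : Set G))) : G) * (b : G) =
            (b : G) * (a : G) := congrArg Subtype.val h1
        apply Subtype.ext
        apply Subtype.ext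
        exact h2
      by_cases hp2 : p = 2
      · left
        subst hp2
        refine ⟨?_, ?_⟩
        · rw [← hP]; exact P.card_eq_multiplicity
        · -- the index bound
          have hmapK : Kn.map (Subgroup.normalizer (K : Set G)).subtype = K := by
            rw [hKdef]; exact Subgroup.map_subgroupOf_eq_of_le hKN
          have hcomm : ⁅Kn, Kn⁆ = (⁅K, K⁆).comap (Subgroup.normalizer (K : Set G)).subtype := by
            rw [← Subgroup.comap_map_eq_self_of_injective
              (Subgroup.subtype_injective (Subgroup.normalizer (K : Set G))) ⁅Kn, Kn⁆,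
              Subgroup.map_commutator, hmapK]
          have hidx_eq : (⁅Kn, Kn⁆.subgroupOf Kn).index = (⁅K, K⁆.subgroupOf K).index := by
            show ⁅Kn, Kn⁆.relIndex Kn = ⁅K, K⁆.relIndex K
            rw [hcomm, Subgroup.relIndex_comap, hmapK]
          rw [hidx_eq] at hidx
          rw [← hKdef]
          have hm0 : m ≠ 0 := by
            intro h0
            rw [h0, pow_zero] at hm
            exact hKn1 (Subgroup.card_eq_one.mp hm)
          have hrdvd : (⁅K, K⁆.subgroupOf K).index ∣ 2 ^ m := by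
            rw [← hKcard']; exact Subgroup.index_dvd_card _
          obtain ⟨j, -, hj⟩ := (Nat.dvd_prime_pow Nat.prime_two).mp hrdvd
          have hmod := frob_card_modEq Kn hCK Kn le_rfl
          have heodd : Odd Kn.index := by
            rw [← Nat.not_even_iff_odd]
            intro hev
            have h2 : (2 : ℕ) ∣ Kn.index := even_iff_two_dvd.mp hev
            have h3 : Nat.card Kn ≡ 1 [MOD 2] := hmod.of_dvd h2
            have h4 : Nat.card Kn ≡ 0 [MOD 2] := by
              rw [hm]; exact (Nat.modEq_zero_iff_dvd).mpr (dvd_pow_self 2 hm0)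
            have h5 : (1 : ℕ) ≡ 0 [MOD 2] := h3.symm.trans h4
            exact absurd h5 (by decide)
          have he1 : Kn.index ≠ 1 := fun h => hKn2 (Subgroup.index_eq_one.mp h)
          have he0 : 0 < Kn.index := Nat.pos_of_ne_zero Subgroup.index_ne_zero_of_finite
          rw [hj] at hidx ⊢
          rcases Nat.eq_zero_or_pos j with hj0 | hj0
          · rw [hj0, pow_zero]
            nlinarith
          · have hev : Even (2 ^ j) := (Nat.even_pow' hj0.ne').mpr even_two
            have hne : 2 ^ j ≠ 4 * Kn.index ^ 2 := by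
              intro heq
              have h1 : Kn.index ∣ 2 ^ j := by
                rw [heq]; exact ⟨4 * Kn.index, by ring⟩
              obtain ⟨i, -, hi⟩ := (Nat.dvd_prime_pow Nat.prime_two).mp h1
              rcases Nat.eq_zero_or_pos i with hi0 | hi0
              · rw [hi0, pow_zero] at hi; exact he1 hi
              · have : Even Kn.index := by
                  rw [hi]; exact (Nat.even_pow' hi0.ne').mpr even_two
                exact (Nat.not_even_iff_odd.mpr heodd) this
            have hne' : 2 ^ j ≠ 4 * Kn.index ^ 2 + 1 := by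
              intro heq
              rw [heq] at hev
              obtain ⟨c, hc⟩ := hev
              omega
            omega
      · right
        subst hP
        rw [hset, ← hSdef, hSeq, hKdef]
        exact sibley_sylow p hp2 P hTI _ rfl hna' hC

end Cfsg.Agent.S1534
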