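import Cfsg.Statements.S1056
import Cfsg.Agent.Lib.H29.B2Iso
import Cfsg.Agent.Lib.H2.SpSimple

set_option autoImplicit false
open Cfsg

namespace Cfsg.Agent.S1056

open Matrix Cfsg.Agent.Lib.H29.B2 Cfsg.Agent.Lib.H2.Sp

/-- `Sp₄(F)` is perfect as soon as `F` has an element outside `{0, 1, -1}` -/
theorem perfect_of_exists {F : Type*} [Field F] (a : F) (ha0 : a ≠ 0) (ha1 : a ≠ 1) (ham1 : a ≠ -1) :
    commutator (Matrix.symplecticGroup (Fin 2) F) = ⊤ := by
  have ha2 : a ^ 2 - 1 ≠ 0 := by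
    intro h
    have : (a - 1) * (a + 1) = 0 := by linear_combination h
    rcases mul_eq_zero.1 this with h | h
    · exact ha1 (sub_eq_zero.1 h)
    · exact ham1 (eq_neg_of_add_eq_zero_left h)
  apply commutator_eq_top_of
  intro v c hv
  have hav : a • v ≠ 0 := smul_ne_zero ha0 hv
  have h1 : ∀ c' : F, Abelianization.of (tv 2 v (c' * a ^ 2)) = Abelianization.of (tv 2 v c') := by
    intro c'
    rw [← tv_smul]
    exact of_tv_eq _ _ hav hv c'
  have h2 : c = (c / (a ^ 2 - 1)) * a ^ 2 + -(c / (a ^ 2 - 1)) := by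
    field_simp
    ring
  rw [h2, ← tv_mul, map_mul, h1, of_tv_neg, mul_inv_cancel]

theorem perfect {F : Type*} [Field F] (hF : ∃ a : F, a ≠ 0 ∧ a ≠ 1) :
    commutator (Matrix.symplecticGroup (Fin 2) F) = ⊤ := by
  classical
  obtain ⟨a, ha0, ha1⟩ := hF
  by_cases h : ∃ b : F, b ≠ 0 ∧ b ≠ 1 ∧ b ≠ -1
  · obtain ⟨b, hb0, hb1, hbm⟩ := h
    exact perfect_of_exists b hb0 hb1 hbm
  · push Not at h
    have hall : ∀ b : F, b = 0 ∨ b = 1 ∨ b = -1 := by
      intro b
      by_cases hb0 : b = 0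
      · exact Or.inl hb0
      · by_cases hb1 : b = 1
        · exact Or.inr (Or.inl hb1)
        · exact Or.inr (Or.inr (h b hb0 hb1))
    have hsurj : Function.Surjective (fun i : Fin 3 => (![0, 1, -1] : Fin 3 → F) i) := by
      intro b
      rcases hall b with rfl | rfl | rfl
      · exact ⟨0, rfl⟩
      · exact ⟨1, rfl⟩
      · exact ⟨2, rfl⟩
    have : Finite F := Finite.of_surjective _ hsurj
    let _ : Fintype F := Fintype.ofFinite F
    have hle : Fintype.card F ≤ 3 := by
      have := Fintype.card_le_of_surjective _ hsurj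
      simpa using this
    have hge : 3 ≤ Fintype.card F := by
      have h3 : ({0, 1, a} : Finset F).card = 3 := by
        rw [Finset.card_insert_of_notMem, Finset.card_insert_of_notMem, Finset.card_singleton]
        · simpa using ha1.symm
        · simp only [Finset.mem_insert, Finset.mem_singleton, not_or]
          exact ⟨zero_ne_one, ha0.symm⟩
      rw [← h3]
      exact Finset.card_le_univ _
    exact perfect_of_three (le_antisymm hle hge) (le_refl 2)

theorem tv_ne_one {F : Type*} [Field F] :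
    tv 2 (Pi.single (Sum.inl 0) 1 : Fin 2 ⊕ Fin 2 → F) 1 ≠ 1 := by
  intro h1
  have h3 := congrArg (fun g : Matrix.symplecticGroup (Fin 2) F =>
      ((g : Matrix (Fin 2 ⊕ Fin 2) (Fin 2 ⊕ Fin 2) F) *ᵥ
        (Pi.single (Sum.inr 0) 1 : Fin 2 ⊕ Fin 2 → F)) (Sum.inl 0)) h1
  simp only [tv_mulVec, OneMemClass.coe_one, Matrix.one_mulVec] at h3
  have hs : Cfsg.sympForm 2 F (Pi.single (Sum.inr 0) 1) (Pi.single (Sum.inl 0) 1) = 1 := by
    simp [Cfsg.sympForm, Matrix.J, Matrix.mulVec, dotProduct, Fintype.sum_sum_type,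
      Matrix.fromBlocks, Matrix.one_apply, Pi.single_apply]
  rw [hs] at h3
  simp at h3

theorem center_ne_top {F : Type*} [Field F]
    (hperf : commutator (Matrix.symplecticGroup (Fin 2) F) = ⊤) :
    Subgroup.center (Matrix.symplecticGroup (Fin 2) F) ≠ ⊤ := by
  intro htop
  rw [← commutator_eq_bot_iff_center_eq_top, hperf] at htop
  have h1 : tv 2 (Pi.single (Sum.inl 0) 1 : Fin 2 ⊕ Fin 2 → F) 1 ∈
      (⊤ : Subgroup (Matrix.symplecticGroup (Fin 2) F)) := Subgroup.mem_top _
  rw [htop, Subgroup.mem_bot] at h1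
  exact tv_ne_one h1

/-- B₂(F) is simple for every field `F` other than the field with two elements. -/
theorem result {F : Type*} [Field F] (hF : ∃ a : F, a ≠ 0 ∧ a ≠ 1) : IsSimpleGroup ↥(Cfsg.Lie.chevB2.group F) ∧ ¬ IsMulCommutative ↥(Cfsg.Lie.chevB2.group F) := by
  have hperf := perfect hF
  have hsimple : IsSimpleGroup (Cfsg.PSp 2 F) :=
    isSimpleGroup_quotient_center (center_ne_top hperf)
      (fun N hN => normal_dichotomy (le_refl 2) hperf N)
  refine ⟨(isoPSp F).isSimpleGroup, ?_⟩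
  intro hc
  apply center_ne_top hperf
  rw [eq_top_iff, ← hperf, commutator_def, Subgroup.commutator_le]
  intro g _ h _
  rw [← QuotientGroup.eq_one_iff, commutatorElement_def]
  have hcomm : ∀ x y : Cfsg.PSp 2 F, x * y = y * x := by
    intro x y
    have := hc.is_comm.comm ((isoPSp F).symm x) ((isoPSp F).symm y)
    simpa using congrArg (isoPSp F) this
  simp only [QuotientGroup.mk_mul, QuotientGroup.mk_inv]
  rw [hcomm (g : Cfsg.PSp 2 F) (h : Cfsg.PSp 2 F)]
  group

end Cfsg.Agent.S1056
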