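import Cfsg.Statements.S2411
import Cfsg.Agent.Lib.H15.SpGenF

set_option autoImplicit false
open Cfsg

namespace Cfsg.Agent.S2411

theorem sp_two_gen {F : Type*} [Field F] [Fintype F] (m : ℕ) (hm : 2 ≤ m)
    (hF : m = 2 → 2 < Fintype.card F) :
    ∃ a b : Matrix.symplecticGroup (Fin m) F,
      Subgroup.closure ({a, b} : Set (Matrix.symplecticGroup (Fin m) F)) = ⊤ := by
  obtain ⟨k, rfl⟩ : ∃ k, m = k + 1 + 1 := ⟨m - 2, by omega⟩
  by_cases hq : 3 ≤ Fintype.card F
  · exact Cfsg.Agent.Lib.H15.SpGen.exists_gen_of_three_le hq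
  · have h1 : 1 < Fintype.card F := Fintype.one_lt_card
    have h2 : Fintype.card F = 2 := by omega
    have hk : k ≠ 0 := by
      intro hk
      subst hk
      have := hF rfl
      omega
    obtain ⟨k', rfl⟩ : ∃ k', k = k' + 1 := ⟨k - 1, by omega⟩
    exact Cfsg.Agent.Lib.H15.SpGen.exists_gen_of_two h2

/-- The projective symplectic group `PSp_{2m}(q)` with `m ≥ 2` (and `q > 2` if `m = 2`) is generated by two of its elements. -/
theorem result {F : Type*} [Field F] [Fintype F] (m : ℕ) (hm : 2 ≤ m) (hF : m = 2 → 2 < Fintype.card F) :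
    ∃ a b : Cfsg.PSp m F, Subgroup.closure ({a, b} : Set (Cfsg.PSp m F)) = ⊤ := by
  obtain ⟨a, b, hab⟩ := sp_two_gen m hm hF
  refine ⟨QuotientGroup.mk a, QuotientGroup.mk b, ?_⟩
  have h1 : Subgroup.map (QuotientGroup.mk' (Subgroup.center (Matrix.symplecticGroup (Fin m) F)))
      (Subgroup.closure ({a, b} : Set (Matrix.symplecticGroup (Fin m) F))) = ⊤ := by
    rw [hab, ← MonoidHom.range_eq_map]
    exact MonoidHom.range_eq_top.2 (QuotientGroup.mk'_surjective _)
  rw [MonoidHom.map_closure, Set.image_pair] at h1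
  exact h1

end Cfsg.Agent.S2411
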