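import Cfsg.Statements.S3573
-- import your own Cfsg.Agent.* helpers here

set_option autoImplicit false
open Cfsg

namespace Cfsg.Agent.S3573

open Equiv Equiv.Perm

/-- A permutation of prime order `r` of a finite set of size `n` fixes a `k`-subset as soon as
`k ≤ n` and `k % r ≤ n % r`. -/
theorem exists_invariant {α : Type*} [Fintype α] [DecidableEq α] (σ : Perm α) (r : ℕ)
    (hr : r.Prime) (hσ : orderOf σ = r) (k : ℕ) (hkn : k ≤ Fintype.card α)
    (hmod : k % r ≤ Fintype.card α % r) : ∃ s : Finset α, s.card = k ∧ s.image σ = s := by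
  obtain ⟨a', ha'⟩ := cycleType_prime_order (σ := σ) (hσ ▸ hr)
  rw [hσ] at ha'
  set a := a' + 1 with ha
  have hsupp : σ.support.card = a * r := by
    rw [← sum_cycleType, ha', Multiset.sum_replicate, smul_eq_mul]
  have hcf : σ.cycleFactorsFinset.card = a := by
    have := congrArg Multiset.card ha'
    rw [cycleType_def, Multiset.card_map, Multiset.card_replicate] at this
    exact this
  have hcr : ∀ c ∈ σ.cycleFactorsFinset, c.support.card = r := by
    intro c hc
    have : (Finset.card ∘ support) c ∈ σ.cycleType := by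
      rw [cycleType_def]
      exact Multiset.mem_map_of_mem _ hc
    rw [ha'] at this
    exact Multiset.eq_of_mem_replicate this
  have hle : a * r ≤ Fintype.card α := hsupp ▸ Finset.card_le_univ _
  have har : a ≤ Fintype.card α / r := (Nat.le_div_iff_mul_le hr.pos).mpr hle
  have hNr : Fintype.card α / r * r + Fintype.card α % r = Fintype.card α := Nat.div_add_mod' _ _
  have hKr : k / r * r + k % r = k := Nat.div_add_mod' _ _
  have hAN : a * r ≤ Fintype.card α / r * r := Nat.mul_le_mul_right r har
  set i := min a (k / r) with hi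
  obtain ⟨T, hTsub, hTcard⟩ := Finset.exists_subset_card_eq (s := σ.cycleFactorsFinset) (n := i)
    (by rw [hcf]; exact min_le_left _ _)
  set s₁ := T.biUnion (fun c => c.support) with hs₁
  have hs₁card : s₁.card = i * r := by
    rw [hs₁, Finset.card_biUnion]
    · rw [Finset.sum_congr rfl (fun c hc => hcr c (hTsub hc)), Finset.sum_const, smul_eq_mul, hTcard]
    · intro c hc d hd hcd
      exact (cycleFactorsFinset_pairwise_disjoint σ (hTsub hc) (hTsub hd) hcd).disjoint_support
  have hs₁supp : s₁ ⊆ σ.support := by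
    intro x hx
    rw [hs₁, Finset.mem_biUnion] at hx
    obtain ⟨c, hc, hxc⟩ := hx
    exact mem_cycleFactorsFinset_support_le (hTsub hc) hxc
  have hir : i * r ≤ k / r * r := Nat.mul_le_mul_right r (min_le_right _ _)
  have hj : k - i * r ≤ (σ.support)ᶜ.card := by
    rw [Finset.card_compl, hsupp]
    rcases le_total (k / r) a with h | h
    · have : i = k / r := min_eq_right h
      rw [this]
      omega
    · have : i = a := min_eq_left h
      rw [this]
      omega
  obtain ⟨s₂, hs₂sub, hs₂card⟩ := Finset.exists_subset_card_eq hj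
  have hdisj : Disjoint s₁ s₂ := by
    rw [Finset.disjoint_left]
    intro x hx1 hx2
    have := hs₂sub hx2
    rw [Finset.mem_compl] at this
    exact this (hs₁supp hx1)
  refine ⟨s₁ ∪ s₂, ?_, ?_⟩
  · rw [Finset.card_union_of_disjoint hdisj, hs₁card, hs₂card]
    omega
  · apply Finset.eq_of_subset_of_card_le
    · intro y hy
      rw [Finset.mem_image] at hy
      obtain ⟨x, hx, rfl⟩ := hy
      rw [Finset.mem_union] at hx ⊢
      rcases hx with hx | hx
      · left
        rw [hs₁, Finset.mem_biUnion] at hx ⊢
        obtain ⟨c, hc, hxc⟩ := hx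
        refine ⟨c, hc, ?_⟩
        have h2 := (mem_cycleFactorsFinset_iff.mp (hTsub hc)).2 x hxc
        rw [← h2]
        exact apply_mem_support.mpr hxc
      · right
        have := hs₂sub hx
        rw [Finset.mem_compl, notMem_support] at this
        rw [this]
        exact hx
    · rw [Finset.card_image_of_injective _ σ.injective]

/-- If every permutation of prime order `r` of `Fin n` fixes a `k`-subset, then `k % r ≤ n % r`. -/
theorem mod_le_of_forall (n r k : ℕ) (hr : r.Prime) (hrn : r ≤ n)
    (h : ∀ σ : Perm (Fin n), orderOf σ = r → ∃ s : Finset (Fin n), s.card = k ∧ s.image σ = s) :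
    k % r ≤ n % r := by
  have : Fact r.Prime := ⟨hr⟩
  have hA : 1 ≤ n / r := (Nat.le_div_iff_mul_le hr.pos).mpr (by simpa using hrn)
  obtain ⟨σ, hσ⟩ := (exists_with_cycleType_iff (Fin n) (m := Multiset.replicate (n / r) r)).mpr
    ⟨by rw [Multiset.sum_replicate, smul_eq_mul, Fintype.card_fin]; exact Nat.div_mul_le_self n r,
     fun a ha => by rw [Multiset.eq_of_mem_replicate ha]; exact hr.two_le⟩
  have hσr : σ ^ r = 1 := by
    rw [pow_prime_eq_one_iff]
    intro c hc
    rw [hσ] at hc
    exact Multiset.eq_of_mem_replicate hc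
  have hσ1 : σ ≠ 1 := by
    intro h1
    rw [h1, cycleType_one] at hσ
    have := congrArg Multiset.card hσ
    rw [Multiset.card_replicate, Multiset.card_zero] at this
    omega
  have hord : orderOf σ = r := orderOf_eq_prime hσr hσ1
  obtain ⟨s, hsk, hsinv⟩ := h σ hord
  have hinv : ∀ x, σ x ∈ s ↔ x ∈ s := by
    intro x
    constructor
    · intro hx
      rw [← hsinv, Finset.mem_image] at hx
      obtain ⟨y, hy, hyx⟩ := hx
      rwa [← σ.injective hyx]
    · intro hx
      rw [← hsinv]
      exact Finset.mem_image_of_mem _ hx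
  set τ : Perm {x // x ∈ s} := σ.subtypePerm hinv with hτ
  have hτr : τ ^ r ^ 1 = 1 := by
    rw [pow_one, hτ, subtypePerm_pow]
    ext x
    simp [hσr]
  have hmod := card_compl_support_modEq hτr
  rw [Fintype.card_coe, hsk] at hmod
  have hsuppσ : (σ.support)ᶜ.card = n % r := by
    rw [Finset.card_compl, ← sum_cycleType, hσ, Multiset.sum_replicate, smul_eq_mul, Fintype.card_fin]
    have := Nat.div_add_mod' n r
    omega
  have hle : (τ.support)ᶜ.card ≤ (σ.support)ᶜ.card := by
    apply Finset.card_le_card_of_injOn (fun x => x.1)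
    · intro x hx
      simp only [Finset.coe_compl, Set.mem_compl_iff, Finset.mem_coe, mem_support, not_not] at hx ⊢
      have := congrArg Subtype.val hx
      simpa [hτ] using this
    · intro x _ y _ hxy
      exact Subtype.ext hxy
  have hlt : n % r < r := Nat.mod_lt _ hr.pos
  have h1 : (τ.support)ᶜ.card % r = k % r := hmod
  rw [Nat.mod_eq_of_lt (by omega)] at h1
  omega

/-- Lucas: if `k < r`, `k ≤ n % r` then `r ∤ choose n k`. -/
theorem not_dvd_choose (n k r : ℕ) (hr : r.Prime) (hkr : k < r) (hk : k ≤ n % r) :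
    ¬ r ∣ Nat.choose n k := by
  intro hd
  have : Fact r.Prime := ⟨hr⟩
  have hL := Choose.choose_modEq_choose_mod_mul_choose_div_nat (n := n) (k := k) (p := r)
  rw [Nat.mod_eq_of_lt hkr, Nat.div_eq_of_lt hkr, Nat.choose_zero_right, mul_one] at hL
  have h2 : r ∣ Nat.choose (n % r) k := (Nat.modEq_zero_iff_dvd.mp (hL.symm.trans (Nat.modEq_zero_iff_dvd.mpr hd)))
  have h3 : r ∣ (n % r).factorial := by
    rw [← Nat.choose_mul_factorial_mul_factorial hk]
    exact Dvd.dvd.mul_right (Dvd.dvd.mul_right h2 _) _
  have := (Nat.Prime.dvd_factorial hr).mp h3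
  have hlt : n % r < r := Nat.mod_lt _ hr.pos
  omega

theorem prime_le_of_dvd_choose (n k r : ℕ) (hr : r.Prime) (hkn : k ≤ n) (hd : r ∣ Nat.choose n k) :
    r ≤ n := by
  have h3 : r ∣ n.factorial := by
    rw [← Nat.choose_mul_factorial_mul_factorial hkn]
    exact Dvd.dvd.mul_right (Dvd.dvd.mul_right hd _) _
  exact (Nat.Prime.dvd_factorial hr).mp h3

theorem main_iff (n k r : ℕ) (hr : r.Prime) (hkn : k ≤ n) (hd : r ∣ Nat.choose n k) :
    (∀ σ : Perm (Fin n), orderOf σ = r → ∃ s : Finset (Fin n), s.card = k ∧ s.image σ = s) ↔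
      k % r ≤ n % r := by
  constructor
  · exact mod_le_of_forall n r k hr (prime_le_of_dvd_choose n k r hr hkn hd)
  · intro h σ hσ
    exact exists_invariant σ r hr hσ k (by simpa using hkn) (by simpa using h)


/-- Let 1 ≤ k with 2k < n and consider the symmetric group of degree n acting on the k-subsets of an n-set. Let r be a prime dividing the number C(n,k) of k-subsets. If r is odd, then every permutation of order r fixes some k-subset if and only if r ≤ k and the remainder of k modulo r is at most the remainder of n modulo r. If r = 2, then every involution fixes some k-subset if and only if k is even or n is odd. -/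
theorem result (n k : ℕ) (hk : 1 ≤ k) (hkn : 2 * k < n) (r : ℕ) (hr : r.Prime) (hrd : r ∣ Nat.choose n k) :
    (r ≠ 2 → ((∀ σ : Equiv.Perm (Fin n), orderOf σ = r → ∃ s : Finset (Fin n), s.card = k ∧ s.image σ = s) ↔
      (r ≤ k ∧ k % r ≤ n % r))) ∧
    (r = 2 → ((∀ σ : Equiv.Perm (Fin n), orderOf σ = 2 → ∃ s : Finset (Fin n), s.card = k ∧ s.image σ = s) ↔
      (Even k ∨ Odd n))) := by
  have hkn' : k ≤ n := by omega
  constructor
  · intro _
    rw [main_iff n k r hr hkn' hrd]
    constructor
    · intro h
      refine ⟨?_, h⟩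
      by_contra hlt
      push Not at hlt
      apply not_dvd_choose n k r hr hlt ?_ hrd
      rwa [Nat.mod_eq_of_lt hlt] at h
    · exact fun h => h.2
  · intro h2
    subst h2
    rw [main_iff n k 2 hr hkn' hrd]
    rw [Nat.even_iff, Nat.odd_iff]
    omega


end Cfsg.Agent.S3573
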