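import Cfsg.Statements.S4664
import Cfsg.Agent.Lib.H23.CharGalois
import Cfsg.Agent.Lib.H8.GaloisConj
import Cfsg.Agent.Lib.L0.BlockPReg
import Cfsg.Agent.Lib.H24.CharBasic
import Cfsg.Agent.Lib.H23.DegreeDvd

set_option autoImplicit false
open Cfsg

namespace Cfsg.Agent.S4664

open Cfsg.Agent.Lib.H23 Cfsg.Agent.Lib.H24 Cfsg.Agent.Lib.L0 Cfsg.Agent.Lib.L0.BlockPReg
  Cfsg.Agent.Lib.H8
open scoped ComplexConjugate

section
variable {G : Type*} [Group G] [Fintype G]

/-- The Galois conjugate `g ↦ χ (g ^ k)` of an irreducible character. -/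
noncomputable def gc (k : ℕ) (hk : k.Coprime (Nat.card G)) (χ : IrrCharacter G) :
    IrrCharacter G :=
  ⟨fun g => (χ : G → ℂ) (g ^ k), isIrrCharacter_galoisConj χ.2 k hk⟩

theorem gc_apply (k : ℕ) (hk : k.Coprime (Nat.card G)) (χ : IrrCharacter G) (g : G) :
    (gc k hk χ : G → ℂ) g = (χ : G → ℂ) (g ^ k) := rfl

theorem gc_injective (k : ℕ) (hk : k.Coprime (Nat.card G)) :
    Function.Injective (gc (G := G) k hk) := by
  intro χ ψ h
  apply Subtype.ext
  funext g
  obtain ⟨x, rfl⟩ := (powCoprime hk.symm).surjective g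
  have := congrArg (fun θ : IrrCharacter G => (θ : G → ℂ) x) h
  simpa [gc_apply] using this

theorem pow_eq_self_of_pRegular {p : ℕ} [Fact p.Prime] {k : ℕ}
    (hk1 : k ≡ 1 [MOD Nat.card G / p ^ (Nat.card G).factorization p]) {g : G}
    (hg : ¬ p ∣ orderOf g) : g ^ k = g := by
  have hp : p.Prime := Fact.out
  have h1 : orderOf g ∣ Nat.card G := orderOf_dvd_natCard g
  have h2 : orderOf g ∣ Nat.card G / p ^ (Nat.card G).factorization p := by
    have hcop : (orderOf g).Coprime (p ^ (Nat.card G).factorization p) :=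
      Nat.Coprime.pow_right _ ((Nat.Prime.coprime_iff_not_dvd hp).mpr hg).symm
    have : orderOf g ∣ p ^ (Nat.card G).factorization p *
        (Nat.card G / p ^ (Nat.card G).factorization p) := by
      rw [Nat.ordProj_mul_ordCompl_eq_self]; exact h1
    exact hcop.dvd_of_dvd_mul_left this
  have h3 : k ≡ 1 [MOD orderOf g] := hk1.of_dvd h2
  have := (pow_eq_pow_iff_modEq (x := g)).mpr h3
  rwa [pow_one] at this

theorem gc_mem_blockOf {p : ℕ} [Fact p.Prime] {M : Ideal AlgInt} (hM : IsPModular p M)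
    (χ₀ : IrrCharacter G) {k : ℕ} (hk : k.Coprime (Nat.card G))
    (hk1 : k ≡ 1 [MOD Nat.card G / p ^ (Nat.card G).factorization p])
    {χ : IrrCharacter G} (hχ : χ ∈ blockOf M (χ₀ : G → ℂ)) :
    gc k hk χ ∈ blockOf M (χ₀ : G → ℂ) := by
  haveI hP := isPrime_of_isPModular hM
  refine sameBlock_trans hχ (sameBlock_of_pRegular hM χ (gc k hk χ) fun g hg => ?_)
  have h1 : centralChar (gc k hk χ : G → ℂ) g = centralChar (χ : G → ℂ) g := by
    unfold centralChar
    rw [gc_apply, gc_apply, one_pow, pow_eq_self_of_pRegular hk1 hg]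
  rw [h1, sub_self]
  exact memLocalIdeal_zero hP.ne_top

theorem sum_gc_eq (B : Finset (IrrCharacter G)) {k : ℕ} (hk : k.Coprime (Nat.card G))
    (hB : ∀ χ ∈ B, gc k hk χ ∈ B) (f : IrrCharacter G → ℂ) :
    ∑ χ ∈ B, f (gc k hk χ) = ∑ χ ∈ B, f χ := by
  classical
  have himg : B.image (gc k hk) = B := by
    apply Finset.eq_of_subset_of_card_le
    · intro ψ hψ
      obtain ⟨χ, hχ, rfl⟩ := Finset.mem_image.mp hψ
      exact hB χ hχ
    · rw [Finset.card_image_of_injective _ (gc_injective k hk)]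
  conv_rhs => rw [← himg]
  rw [Finset.sum_image fun x _ y _ h => gc_injective k hk h]

end

/-- Fix a prime p and a maximal ideal M of the algebraic integers containing p, and let B be a p-block of the finite group G. Let m be the p'-part of the order of G and η = exp(2πi/m). Then every coefficient of the idempotent of B lies in the cyclotomic field ℚ(η). -/
theorem result {G : Type*} [Group G] [Fintype G] (p : ℕ) [Fact p.Prime] (M : Ideal Cfsg.AlgInt) (hM : Cfsg.IsPModular p M) (B : Set (Cfsg.IrrCharacter G)) (hB : Cfsg.IsPBlock M B) (g : G) : Cfsg.blockCoeff B g ∈ IntermediateField.adjoin ℚ ({Complex.exp (2 * Real.pi * Complex.I / ((Nat.card G / p ^ (Nat.card G).factorization p : ℕ) : ℂ))} : Set ℂ) := by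
  classical
  haveI := Fintype.ofFinite (IrrCharacter G)
  have hp : p.Prime := Fact.out
  obtain ⟨χ₀, rfl⟩ := hB
  set n := Nat.card G with hn
  have hn0 : 0 < n := Nat.card_pos
  haveI : NeZero n := ⟨hn0.ne'⟩
  set m := n / p ^ n.factorization p with hm
  have hm0 : 0 < m := Nat.ordCompl_pos p hn0.ne'
  have hnm : n = (p ^ n.factorization p) * m := (Nat.ordProj_mul_ordCompl_eq_self n p).symm
  set B := blockOf M (χ₀ : G → ℂ) with hBdef
  set Bf : Finset (IrrCharacter G) := Finset.univ.filter (· ∈ B) with hBf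
  have hgn : g⁻¹ ^ n = 1 := by rw [hn]; exact pow_card_eq_one'
  -- cyclotomic preimages of character values
  have hx : ∀ χ : IrrCharacter G, ∃ x : CyclotomicField n ℚ,
      ∀ σ : Gal(CyclotomicField n ℚ/ℚ),
        cycEmb n (σ x) = (χ : G → ℂ) (g⁻¹ ^ (cycPow n σ).val) := by
    intro χ
    obtain ⟨d, ρ, _, hρ⟩ := χ.2
    obtain ⟨x, hx⟩ := exists_cyc_char n ρ g⁻¹ hgn
    exact ⟨x, fun σ => by rw [hx σ, hρ]⟩
  choose X hX using hx
  set y : CyclotomicField n ℚ :=
    ((n : ℕ) : CyclotomicField n ℚ)⁻¹ *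
      ∑ χ ∈ Bf, ((charDegree (χ : G → ℂ) : ℕ) : CyclotomicField n ℚ) * X χ with hy
  have hdeg : ∀ χ : IrrCharacter G, (χ : G → ℂ) 1 = (charDegree (χ : G → ℂ) : ℂ) :=
    fun χ => apply_one_eq_charDegree _ χ.2
  have hemb : ∀ σ : Gal(CyclotomicField n ℚ/ℚ), cycEmb n (σ y) =
      (n : ℂ)⁻¹ * ∑ χ ∈ Bf, (χ : G → ℂ) 1 * (χ : G → ℂ) (g⁻¹ ^ (cycPow n σ).val) := by
    intro σ
    rw [hy, map_mul, map_mul, map_inv₀, map_inv₀, map_natCast, map_natCast, map_sum, map_sum]
    congr 1
    refine Finset.sum_congr rfl fun χ _ => ?_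
    rw [map_mul, map_mul, map_natCast, map_natCast, hX χ σ, hdeg]
  have hbc : blockCoeff B g = (n : ℂ)⁻¹ * ∑ χ ∈ Bf, (χ : G → ℂ) 1 * (χ : G → ℂ) g⁻¹ := by
    unfold blockCoeff
    congr 1
    rw [finsum_mem_eq_sum_ite, hBf, Finset.sum_filter]
    refine Finset.sum_congr rfl fun χ _ => ?_
    split_ifs
    · rw [irr_inv]
    · rfl
  have hemb1 : cycEmb n y = blockCoeff B g := by
    have := hemb 1
    rw [hbc]
    simpa [cycPow, pow_val_one_eq n g⁻¹ hgn] using this
  -- the subfield generated by the primitive m-th root of unity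
  set ζ := IsCyclotomicExtension.zeta n ℚ (CyclotomicField n ℚ) with hζ
  have hζp : IsPrimitiveRoot ζ n := IsCyclotomicExtension.zeta_spec n ℚ (CyclotomicField n ℚ)
  set w := ζ ^ (p ^ n.factorization p) with hw
  have hwp : IsPrimitiveRoot w m := hζp.pow hn0 hnm
  set F' : IntermediateField ℚ (CyclotomicField n ℚ) := IntermediateField.adjoin ℚ {w} with hF'
  have hyF : y ∈ F' := by
    rw [← IsGalois.fixedField_fixingSubgroup F', IntermediateField.mem_fixedField_iff]
    intro σ hσ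
    have hσw : σ w = w := by
      have := (IntermediateField.mem_fixingSubgroup_iff F' σ).mp hσ w
        (IntermediateField.subset_adjoin ℚ {w} (Set.mem_singleton w))
      exact this
    set k := (cycPow n σ).val with hk
    have hkcop : k.Coprime n := ZMod.val_coe_unit_coprime (cycGalEquiv n σ)
    have hk1 : k ≡ 1 [MOD m] := by
      have hwn : w ^ n = 1 := by
        have h0 : w ^ (m * p ^ n.factorization p) = 1 := by
          rw [pow_mul, hwp.pow_eq_one, one_pow]
        have e : m * p ^ n.factorization p = n := by rw [mul_comm]; exact hnm.symm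
        exact (congrArg (fun j => w ^ j) e).symm.trans h0
      have h1 : w ^ k = w ^ 1 := by
        rw [pow_one, ← cycAut_pow n σ w hwn, hσw]
      have h2 : w ^ (k % m) = w ^ (1 % m) := by
        have e1 := pow_mod_orderOf w k
        have e2 := pow_mod_orderOf w 1
        rw [← hwp.eq_orderOf] at e1 e2
        rw [e1, e2, h1]
      exact hwp.pow_inj (Nat.mod_lt _ hm0) (Nat.mod_lt _ hm0) h2
    apply cycEmb_injective n
    have h1 := hemb σ
    have h2 := hemb 1
    rw [← hk] at h1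
    rw [h1, hemb1, hbc]
    congr 1
    have hstab : ∀ χ ∈ Bf, gc k hkcop χ ∈ Bf := by
      intro χ hχ
      rw [hBf, Finset.mem_filter] at hχ ⊢
      exact ⟨Finset.mem_univ _, gc_mem_blockOf hM χ₀ hkcop hk1 hχ.2⟩
    have := sum_gc_eq Bf hkcop hstab (fun χ => (χ : G → ℂ) 1 * (χ : G → ℂ) g⁻¹)
    simp only [gc_apply, one_pow] at this
    exact this
  -- transport to ℂ
  have h1 : cycEmb n y ∈ F'.map (cycEmb n) := ⟨y, hyF, rfl⟩
  rw [hF', IntermediateField.adjoin_map, Set.image_singleton] at h1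
  rw [← hemb1]
  refine IntermediateField.adjoin_le_iff.mpr ?_ h1
  rw [Set.singleton_subset_iff]
  have hη : IsPrimitiveRoot (Complex.exp (2 * Real.pi * Complex.I / ((m : ℕ) : ℂ))) m :=
    Complex.isPrimitiveRoot_exp m hm0.ne'
  have hw1 : (cycEmb n w) ^ m = 1 := by rw [← map_pow, hwp.pow_eq_one, map_one]
  haveI : NeZero m := ⟨hm0.ne'⟩
  obtain ⟨i, _, hi⟩ := hη.eq_pow_of_pow_eq_one hw1
  rw [SetLike.mem_coe, ← hi]
  exact pow_mem (IntermediateField.subset_adjoin ℚ _ (Set.mem_singleton _)) i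

end Cfsg.Agent.S4664
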