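import Cfsg.Statements.S0007
import Mathlib

set_option autoImplicit false
open Pointwise
open Cfsg

namespace Cfsg.Agent.S0007

theorem index_inf_of_coprime {G : Type*} [Group G] [Finite G] (H K : Subgroup G)
    (h : H.index.Coprime K.index) : (H ⊓ K).index = H.index * K.index := by
  apply Nat.dvd_antisymm
  · -- (H ⊓ K).index ∣ H.index * K.index : via le and dvd
    have h1 : H.index * K.index ∣ (H ⊓ K).index :=
      h.mul_dvd_of_dvd_of_dvd (Subgroup.index_dvd_of_le inf_le_left)
        (Subgroup.index_dvd_of_le inf_le_right)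
    have h2 : (H ⊓ K).index ≤ H.index * K.index := Subgroup.index_inf_le
    have h3 : (H ⊓ K).index ≠ 0 := Subgroup.index_ne_zero_of_finite
    have := Nat.le_of_dvd (Nat.pos_of_ne_zero h3) h1
    have h4 : (H ⊓ K).index = H.index * K.index := le_antisymm h2 this
    rw [h4]
  · exact h.mul_dvd_of_dvd_of_dvd (Subgroup.index_dvd_of_le inf_le_left)
        (Subgroup.index_dvd_of_le inf_le_right)

/-- The frozen statement. -/
theorem result {G : Type*} [Group G] [Finite G] (H K : Subgroup G)
    (h : H.index.Coprime K.index) :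
    (H ⊓ K).index = H.index * K.index ∧ ∀ g : G, ∃ x ∈ H, ∃ y ∈ K, g = x * y := by
  have hidx := index_inf_of_coprime H K h
  refine ⟨hidx, ?_⟩
  -- relIndex H K = H.index
  have h1 : (H ⊓ K).relIndex K * K.index = (H ⊓ K).index := Subgroup.relIndex_mul_index inf_le_right
  have hK0 : K.index ≠ 0 := Subgroup.index_ne_zero_of_finite
  have h2 : H.relIndex K = H.index := by
    rw [← Subgroup.inf_relIndex_right]
    rw [hidx] at h1
    exact Nat.eq_of_mul_eq_mul_right (Nat.pos_of_ne_zero hK0) h1
  -- the map K ⧸ H.subgroupOf K → G ⧸ H is injective, hence surjective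
  let f : K ⧸ H.subgroupOf K → G ⧸ H :=
    Quotient.map' (fun k => (k : G)) (by
      intro a b hab
      rw [QuotientGroup.leftRel_apply] at hab ⊢
      simpa [Subgroup.mem_subgroupOf] using hab)
  have hf : Function.Injective f := by
    intro a b
    induction a using Quotient.inductionOn' with | _ a => ?_
    induction b using Quotient.inductionOn' with | _ b => ?_
    intro hab
    simp only [f, Quotient.map'_mk''] at hab
    rw [Quotient.eq''] at hab ⊢
    rw [QuotientGroup.leftRel_apply] at hab ⊢
    simpa [Subgroup.mem_subgroupOf] using hab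
  have hcard : Nat.card (K ⧸ H.subgroupOf K) = Nat.card (G ⧸ H) := by
    rw [← Subgroup.index_eq_card, ← Subgroup.index_eq_card]
    exact h2
  have hbij : Function.Bijective f := by
    rw [Nat.bijective_iff_injective_and_card]
    exact ⟨hf, hcard⟩
  intro g
  obtain ⟨q, hq⟩ := hbij.2 (QuotientGroup.mk g⁻¹ : G ⧸ H)
  induction q using Quotient.inductionOn' with | _ k => ?_
  simp only [f, Quotient.map'_mk''] at hq
  have hq' : ((k : G) : G ⧸ H) = ((g⁻¹ : G) : G ⧸ H) := hq
  rw [QuotientGroup.eq] at hq'
  -- (k)⁻¹ * g⁻¹ ∈ H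
  refine ⟨((k : G)⁻¹ * g⁻¹)⁻¹, H.inv_mem hq', (k : G)⁻¹, K.inv_mem k.2, ?_⟩
  group

end Cfsg.Agent.S0007
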