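import Cfsg.Statements.S0011
import Mathlib

set_option autoImplicit false
open Cfsg

namespace Cfsg.Agent.S0011

/-- If the Frattini quotient of a finite group is nilpotent then the group is nilpotent. -/
theorem result {G : Type*} [Group G] [Finite G]
    (h : Group.IsNilpotent (G ⧸ frattini G)) : Group.IsNilpotent G := by
  have h3 : ∀ M : Subgroup G, IsCoatom M → M.Normal := by
    intro M hM
    have hΦM : frattini G ≤ M := frattini_le_coatom hM
    set π := QuotientGroup.mk' (frattini G) with hπ
    have hker : π.ker ≤ M := by rw [hπ, QuotientGroup.ker_mk']; exact hΦM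
    have hcm : (M.map π).comap π = M := Subgroup.comap_map_eq_self hker
    have hnc : NormalizerCondition (G ⧸ frattini G) := Group.normalizerCondition_of_isNilpotent
    have hlt : M.map π < ⊤ := by
      rw [lt_top_iff_ne_top]
      intro htop
      apply hM.1
      rw [← hcm, htop, Subgroup.comap_top]
    have hlt2 := hnc (M.map π) hlt
    obtain ⟨x', hx'N, hx'M⟩ := SetLike.exists_of_lt hlt2
    obtain ⟨x, rfl⟩ := QuotientGroup.mk'_surjective (frattini G) x'
    have hxM : x ∉ M := fun hx => hx'M (Subgroup.mem_map_of_mem _ hx)
    have hxN : x ∈ Subgroup.normalizer (M : Set G) := by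
      rw [Subgroup.mem_normalizer_iff]
      intro m
      rw [Subgroup.mem_normalizer_iff] at hx'N
      have := hx'N (π m)
      rw [← hcm, Subgroup.mem_comap, Subgroup.mem_comap, map_mul, map_mul, map_inv]
      exact this
    have hlt3 : M < Subgroup.normalizer (M : Set G) :=
      lt_of_le_of_ne Subgroup.le_normalizer (fun h => hxM (h ▸ hxN))
    exact Subgroup.normalizer_eq_top_iff.mp (hM.2 _ hlt3)
  exact (Group.isNilpotent_of_finite_tfae.out 0 2 rfl rfl).mpr h3

end Cfsg.Agent.S0011
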