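import Cfsg.Statements.S0018
import Mathlib
import Cfsg.Agent.Lib.H1.PCore
import Cfsg.Agent.Lib.H1.QuotientBasic
import Cfsg.Agent.Lib.H9.PPrimeCore
import Cfsg.Agent.S0017

set_option autoImplicit false
open Cfsg

namespace Cfsg.Agent.S0018

/-- A finite solvable group whose Sylow p-subgroups are abelian has p-length one: a Sylow p-subgroup together with the largest normal subgroup of order prime to p generates a normal subgroup. -/
theorem result {G : Type*} [Group G] [Finite G] [Group.IsSolvable G]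
    (p : ℕ) [Fact p.Prime] (P : Sylow p G) (hP : IsMulCommutative P) :
    ((P : Subgroup G) ⊔ Cfsg.pPrimeCore p G).Normal := by
  set N := Cfsg.pPrimeCore p G with hN
  have hNn : N.Normal := inferInstance
  have hπ : Function.Surjective (QuotientGroup.mk' N) := QuotientGroup.mk'_surjective N
  have hbot : Cfsg.pPrimeCore p (G ⧸ N) = ⊥ := Lib.H9.pPrimeCore_quotient_eq_bot p
  have hcent := Cfsg.Agent.S0017.result (G := G ⧸ N) p hbot
  set Q := P.mapSurjective hπ with hQ
  have hQcoe : (Q : Subgroup (G ⧸ N)) = (P : Subgroup G).map (QuotientGroup.mk' N) :=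
    Sylow.coe_mapSurjective hπ P
  have hOle : Cfsg.pCore p (G ⧸ N) ≤ Q := Lib.H1.pCore_le_sylow Q
  have hQcomm : ∀ x ∈ (Q : Subgroup (G ⧸ N)), ∀ y ∈ (Q : Subgroup (G ⧸ N)), x * y = y * x := by
    intro x hx y hy
    rw [hQcoe] at hx hy
    obtain ⟨a, ha, rfl⟩ := hx
    obtain ⟨b, hb, rfl⟩ := hy
    have := mul_comm' (⟨a, ha⟩ : P) ⟨b, hb⟩
    have h2 : a * b = b * a := congrArg Subtype.val this
    rw [← map_mul, ← map_mul, h2]
  have hQle : (Q : Subgroup (G ⧸ N)) ≤ Cfsg.pCore p (G ⧸ N) := by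
    apply le_trans _ hcent
    intro x hx
    rw [Subgroup.mem_centralizer_iff]
    intro y hy
    exact hQcomm y (hOle hy) x hx
  have hQeq : (Q : Subgroup (G ⧸ N)) = Cfsg.pCore p (G ⧸ N) := le_antisymm hQle hOle
  have hQn : (Q : Subgroup (G ⧸ N)).Normal := hQeq ▸ Lib.H1.pCore_normal p (G ⧸ N)
  have hcomap : (P : Subgroup G) ⊔ N = (Q : Subgroup (G ⧸ N)).comap (QuotientGroup.mk' N) := by
    rw [hQcoe, Lib.H1.comap_map_mk']
  rw [hcomap]
  exact Subgroup.Normal.comap hQn _

end Cfsg.Agent.S0018
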