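import Cfsg.Statements.S0019
import Mathlib
import Cfsg.Agent.Lib.H1.SylowBasic
import Cfsg.Agent.Lib.H1.SolvableBasic
import Cfsg.Agent.Lib.H1.SchurZassenhaus

set_option autoImplicit false
open Cfsg

namespace Cfsg.Agent.S0019

universe u

theorem step {G : Type*} [Group G] [Finite G] {p : ℕ} [Fact p.Prime] (H₁ H₂ N : Subgroup G)
    (hNn : ∀ h ∈ H₁, ∀ n ∈ N, h * n * h⁻¹ ∈ N) (hNp : IsPGroup p N)
    (hp : ¬ p ∣ H₂.index) (h12 : ∀ g : G, ∃ x ∈ H₁, ∃ y ∈ H₂, g = x * y) :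
    Subgroup.normalClosure (N : Set G) ≤ H₂ := by
  obtain ⟨g₀, hg₀⟩ := Lib.H1.exists_conj_le_of_not_dvd_index hp hNp
  have hconj : ∀ c : G, ∀ n ∈ N, (∀ m ∈ N, m ∈ H₂) → c * n * c⁻¹ ∈ H₂ := by
    intro c n hn hNH
    obtain ⟨x, hx, y, hy, hc⟩ := h12 c⁻¹
    have hc' : c = y⁻¹ * x⁻¹ := by
      rw [← inv_inv c, hc]
      group
    have h1 : x⁻¹ * n * x ∈ N := by
      have := hNn x⁻¹ (H₁.inv_mem hx) n hn
      simpa using this
    have h2 : c * n * c⁻¹ = y⁻¹ * (x⁻¹ * n * x) * y := by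
      rw [hc']
      group
    rw [h2]
    exact H₂.mul_mem (H₂.mul_mem (H₂.inv_mem hy) (hNH _ h1)) hy
  have hNH₂ : ∀ m ∈ N, m ∈ H₂ := by
    intro m hm
    obtain ⟨x, hx, y, hy, hc⟩ := h12 g₀⁻¹
    have hg₀' : g₀ = y⁻¹ * x⁻¹ := by
      rw [← inv_inv g₀, hc]
      group
    have h1 : x * m * x⁻¹ ∈ N := hNn x hx m hm
    have h2 := hg₀ _ h1
    have h3 : g₀ * (x * m * x⁻¹) * g₀⁻¹ = y⁻¹ * m * y := by
      rw [hg₀']
      group
    rw [h3] at h2
    have h4 : m = y * (y⁻¹ * m * y) * y⁻¹ := by group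
    rw [h4]
    exact H₂.mul_mem (H₂.mul_mem hy h2) (H₂.inv_mem hy)
  rw [Subgroup.normalClosure, Subgroup.closure_le]
  intro z hz
  rw [Group.mem_conjugatesOfSet_iff] at hz
  obtain ⟨n, hn, hnz⟩ := hz
  rw [isConj_iff] at hnz
  obtain ⟨c, rfl⟩ := hnz
  exact hconj c n hn hNH₂

theorem quot_step {G : Type u} [Group G] [Finite G]
    (ih : ∀ (G' : Type u) [Group G'] [Finite G'], Nat.card G' < Nat.card G →
      ∀ (H₁ H₂ H₃ : Subgroup G'), Group.IsSolvable H₁ → Group.IsSolvable H₂ → Group.IsSolvable H₃ →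
      (∀ g : G', ∃ x ∈ H₁, ∃ y ∈ H₂, g = x * y) → (∀ g : G', ∃ x ∈ H₁, ∃ y ∈ H₃, g = x * y) →
      H₂.index.Coprime H₃.index → Group.IsSolvable G')
    (H₁ H₂ H₃ : Subgroup G)
    (h₁ : Group.IsSolvable H₁) (h₂ : Group.IsSolvable H₂) (h₃ : Group.IsSolvable H₃)
    (h12 : ∀ g : G, ∃ x ∈ H₁, ∃ y ∈ H₂, g = x * y) (h13 : ∀ g : G, ∃ x ∈ H₁, ∃ y ∈ H₃, g = x * y)
    (hcop : H₂.index.Coprime H₃.index) (M : Subgroup G) [M.Normal] (hM : M ≠ ⊥)
    (hMs : Group.IsSolvable M) : Group.IsSolvable G := by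
  have hlt : Nat.card (G ⧸ M) < Nat.card G := Lib.H1.card_quotient_lt hM
  have hsurj := QuotientGroup.mk'_surjective M
  have hmapsolv : ∀ H : Subgroup G, Group.IsSolvable H →
      Group.IsSolvable (H.map (QuotientGroup.mk' M)) := by
    intro H hH
    exact Group.isSolvable_of_surjective
      (f := ((QuotientGroup.mk' M).subgroupMap H)) ((QuotientGroup.mk' M).subgroupMap_surjective H)
  have hfac : ∀ (H K : Subgroup G), (∀ g : G, ∃ x ∈ H, ∃ y ∈ K, g = x * y) →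
      ∀ q : G ⧸ M, ∃ x ∈ H.map (QuotientGroup.mk' M), ∃ y ∈ K.map (QuotientGroup.mk' M),
        q = x * y := by
    intro H K hHK q
    obtain ⟨g, rfl⟩ := hsurj q
    obtain ⟨x, hx, y, hy, rfl⟩ := hHK g
    exact ⟨_, ⟨x, hx, rfl⟩, _, ⟨y, hy, rfl⟩, map_mul _ x y⟩
  have hcop' : (H₂.map (QuotientGroup.mk' M)).index.Coprime (H₃.map (QuotientGroup.mk' M)).index :=
    Nat.Coprime.coprime_dvd_left (Subgroup.index_map_dvd H₂ hsurj)
      (Nat.Coprime.coprime_dvd_right (Subgroup.index_map_dvd H₃ hsurj) hcop)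
  have hQ : Group.IsSolvable (G ⧸ M) :=
    ih (G ⧸ M) hlt _ _ _ (hmapsolv H₁ h₁) (hmapsolv H₂ h₂) (hmapsolv H₃ h₃)
      (hfac H₁ H₂ h12) (hfac H₁ H₃ h13) hcop'
  apply Group.isSolvable_of_ker_le_range M.subtype (QuotientGroup.mk' M)
  rw [QuotientGroup.ker_mk', Subgroup.range_subtype]

theorem aux : ∀ (n : ℕ) (G : Type u) [Group G] [Finite G], Nat.card G = n →
    ∀ (H₁ H₂ H₃ : Subgroup G), Group.IsSolvable H₁ → Group.IsSolvable H₂ → Group.IsSolvable H₃ →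
    (∀ g : G, ∃ x ∈ H₁, ∃ y ∈ H₂, g = x * y) → (∀ g : G, ∃ x ∈ H₁, ∃ y ∈ H₃, g = x * y) →
    H₂.index.Coprime H₃.index → Group.IsSolvable G := by
  intro n
  induction n using Nat.strong_induction_on with
  | _ n ih =>
  intro G _ _ hn H₁ H₂ H₃ h₁ h₂ h₃ h12 h13 hcop
  by_cases hbot : H₁ = ⊥
  · have htop : H₂ = ⊤ := by
      rw [eq_top_iff]
      intro g _
      obtain ⟨x, hx, y, hy, rfl⟩ := h12 g
      rw [hbot, Subgroup.mem_bot] at hx
      rw [hx, one_mul]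
      exact hy
    apply Group.isSolvable_of_surjective (f := H₂.subtype)
    intro g
    exact ⟨⟨g, htop ▸ Subgroup.mem_top g⟩, rfl⟩
  · have hnt : Nontrivial H₁ := (Subgroup.nontrivial_iff_ne_bot H₁).mpr hbot
    obtain ⟨p, hp, R, hRn, hRp, hRne⟩ :=
      Lib.H1.exists_normal_isPGroup_ne_bot_of_isSolvable (G := H₁)
    set N := R.map H₁.subtype with hN
    have hNp : IsPGroup p N := hRp.map _
    have hNne : N ≠ ⊥ := by
      intro h
      rw [hN, Subgroup.map_eq_bot_iff_of_injective _ H₁.subtype_injective] at h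
      exact hRne h
    have hNn : ∀ h ∈ H₁, ∀ m ∈ N, h * m * h⁻¹ ∈ N := by
      rintro h hh m ⟨r, hr, rfl⟩
      exact ⟨⟨h, hh⟩ * r * ⟨h, hh⟩⁻¹, hRn.conj_mem r hr ⟨h, hh⟩, rfl⟩
    have IH : ∀ (G' : Type u) [Group G'] [Finite G'], Nat.card G' < Nat.card G →
        ∀ (H₁ H₂ H₃ : Subgroup G'), Group.IsSolvable H₁ → Group.IsSolvable H₂ →
        Group.IsSolvable H₃ →
        (∀ g : G', ∃ x ∈ H₁, ∃ y ∈ H₂, g = x * y) → (∀ g : G', ∃ x ∈ H₁, ∃ y ∈ H₃, g = x * y) →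
        H₂.index.Coprime H₃.index → Group.IsSolvable G' := by
      intro G' _ _ hlt
      exact ih (Nat.card G') (hn ▸ hlt) G' rfl
    have hMne : Subgroup.normalClosure (N : Set G) ≠ ⊥ := by
      intro h
      apply hNne
      rw [eq_bot_iff, ← h]
      exact Subgroup.le_normalClosure
    have hdvd : ¬ p ∣ H₂.index ∨ ¬ p ∣ H₃.index := by
      by_contra hcon
      rw [not_or, not_not, not_not] at hcon
      have := Nat.dvd_gcd hcon.1 hcon.2
      rw [Nat.Coprime.gcd_eq_one hcop] at this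
      exact hp.out.one_lt.ne' (Nat.dvd_one.mp this)
    rcases hdvd with hd | hd
    · have hle := step H₁ H₂ N hNn hNp hd h12
      have hMs : Group.IsSolvable (Subgroup.normalClosure (N : Set G)) :=
        Group.isSolvable_of_isSolvable_injective (Subgroup.inclusion_injective hle)
      exact quot_step IH H₁ H₂ H₃ h₁ h₂ h₃ h12 h13 hcop _ hMne hMs
    · have hle := step H₁ H₃ N hNn hNp hd h13
      have hMs : Group.IsSolvable (Subgroup.normalClosure (N : Set G)) :=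
        Group.isSolvable_of_isSolvable_injective (Subgroup.inclusion_injective hle)
      exact quot_step IH H₁ H₂ H₃ h₁ h₂ h₃ h12 h13 hcop _ hMne hMs

/-- A finite group that factorises as H₁H₂ and as H₁H₃ with all three subgroups solvable and the indices of H₂ and H₃ coprime is solvable. -/
theorem result {G : Type*} [Group G] [Finite G] (H₁ H₂ H₃ : Subgroup G)
    (h₁ : Group.IsSolvable H₁) (h₂ : Group.IsSolvable H₂) (h₃ : Group.IsSolvable H₃)
    (h12 : ∀ g : G, ∃ x ∈ H₁, ∃ y ∈ H₂, g = x * y) (h13 : ∀ g : G, ∃ x ∈ H₁, ∃ y ∈ H₃, g = x * y)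
    (hcop : H₂.index.Coprime H₃.index) : Group.IsSolvable G := by
  exact aux _ G rfl H₁ H₂ H₃ h₁ h₂ h₃ h12 h13 hcop

end Cfsg.Agent.S0019
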