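import Cfsg.Statements.S0021
import Mathlib
import Cfsg.Agent.Lib.H1.Permutable
import Cfsg.Agent.Lib.H1.SylowSystem
import Cfsg.Agent.Lib.H1.HallConverse

set_option autoImplicit false
open Pointwise
open Cfsg

namespace Cfsg.Agent.S0021

/-- A finite group with a family of pairwise permuting Sylow subgroups, one for each prime, is solvable (this direction rests on Burnside's two-prime Theorem). -/
theorem result {G : Type*} [Group G] [Finite G]
    (S : (p : Nat.Primes) → Sylow (p : ℕ) G)
    (hS : ∀ p q : Nat.Primes, (S p : Set G) * (S q : Set G) = (S q : Set G) * (S p : Set G)) :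
    Group.IsSolvable G := by
  classical
  apply Lib.H1.isSolvable_of_hasPComplements
  have hG0 : Nat.card G ≠ 0 := Nat.card_pos.ne'
  set f : ℕ → ℕ := fun p => p ^ (Nat.card G).factorization p with hf
  set S' : ℕ → Subgroup G := fun q => if h : q.Prime then (S ⟨q, h⟩ : Subgroup G) else ⊥ with hS'
  have hS'prime : ∀ q (h : q.Prime), S' q = (S ⟨q, h⟩ : Subgroup G) := by
    intro q h
    simp only [hS', dif_pos h]
  have hS'not : ∀ q, ¬ q.Prime → S' q = ⊥ := by
    intro q h
    simp only [hS', dif_neg h]
  have hcard : ∀ q, q.Prime → Nat.card (S' q) = f q := by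
    intro q h
    rw [hS'prime q h]
    have : Fact q.Prime := ⟨h⟩
    exact (S ⟨q, h⟩).card_eq_multiplicity
  have hperm : ∀ i j, (S' i : Set G) * (S' j : Set G) = (S' j : Set G) * (S' i : Set G) := by
    intro i j
    by_cases hi : i.Prime
    · by_cases hj : j.Prime
      · rw [hS'prime i hi, hS'prime j hj]
        exact hS ⟨i, hi⟩ ⟨j, hj⟩
      · rw [hS'not j hj, Subgroup.coe_bot, Set.mul_singleton, Set.singleton_mul]
        simp
    · rw [hS'not i hi, Subgroup.coe_bot, Set.mul_singleton, Set.singleton_mul]
      simp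
  have hcop : ∀ i j, i ≠ j → (Nat.card (S' i)).Coprime (Nat.card (S' j)) := by
    intro i j hij
    by_cases hi : i.Prime
    · by_cases hj : j.Prime
      · rw [hcard i hi, hcard j hj]
        exact Nat.coprime_pow_primes _ _ hi hj hij
      · rw [hS'not j hj, Subgroup.card_bot]
        exact Nat.coprime_one_right _
    · rw [hS'not i hi, Subgroup.card_bot]
      exact Nat.coprime_one_left _
  intro p hp
  set π := (Nat.card G).primeFactors with hπ
  have hπprime : ∀ q ∈ π, q.Prime := fun q hq => Nat.prime_of_mem_primeFactors hq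
  obtain ⟨hKcard, -⟩ := Lib.H1.card_biSup_of_permutable S' hperm hcop (π.erase p)
  refine ⟨⨆ q ∈ π.erase p, S' q, ?_⟩
  have hprod : ∏ q ∈ π, f q = Nat.card G := by
    have := Nat.prod_factorization_pow_eq_self hG0
    rw [Finsupp.prod, Nat.support_factorization] at this
    exact this
  have hf1 : p ∉ π → f p = 1 := by
    intro hq
    have : (Nat.card G).factorization p = 0 := by
      rw [← Finsupp.notMem_support_iff, Nat.support_factorization]
      exact hq
    simp only [hf, this, pow_zero]
  have hK : Nat.card (⨆ q ∈ π.erase p, S' q : Subgroup G) = ∏ q ∈ π.erase p, f q := by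
    rw [hKcard]
    apply Finset.prod_congr rfl
    intro q hq
    exact hcard q (hπprime q (Finset.mem_of_mem_erase hq))
  have h1 := (⨆ q ∈ π.erase p, S' q : Subgroup G).card_mul_index
  rw [hK, ← hprod, ← Lib.H1.prod_erase_mul_of π p hf1, mul_comm] at h1
  have hpos : 0 < ∏ q ∈ π.erase p, f q := by
    apply Finset.prod_pos
    intro q hq
    exact pow_pos (hπprime q (Finset.mem_of_mem_erase hq)).pos _
  exact Nat.eq_of_mul_eq_mul_right hpos h1

end Cfsg.Agent.S0021
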