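import Cfsg.Statements.S0029
import Mathlib
import Cfsg.Agent.Lib.H1.CoprimeAction
import Cfsg.Agent.Lib.H1.CharSubgroup

set_option autoImplicit false
open Cfsg

namespace Cfsg.Agent.S0029

/-- An action that is trivial on the Frattini quotient and coprime on the Frattini subgroup is trivial: if A normalises K, the orders of A and of the Frattini subgroup of K are coprime, and every commutator of an element of A with an element of K lies in the Frattini subgroup of K, then A centralises K. -/
theorem result {G : Type*} [Group G] [Finite G] (A K : Subgroup G)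
    (hAK : A ≤ Subgroup.normalizer (K : Set G))
    (hcop : (Nat.card A).Coprime (Nat.card (frattini K)))
    (htriv : ∀ a ∈ A, ∀ k ∈ K, a * k * a⁻¹ * k⁻¹ ∈ (frattini K).map K.subtype) :
    A ≤ Subgroup.centralizer (K : Set G) := by
  set D := (frattini K).map K.subtype with hD
  have hDK : D ≤ K := Subgroup.map_subtype_le _
  have hcardD : Nat.card D = Nat.card (frattini K) :=
    Subgroup.card_map_of_injective K.subtype_injective
  have hDsolv : Group.IsSolvable D := by
    have hnil : Group.IsNilpotent (frattini K) := frattini_nilpotent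
    have hs : Group.IsSolvable (frattini K) := inferInstance
    exact Group.isSolvable_of_surjective
      (f := (K.subtype.subgroupMap (frattini K))) (K.subtype.subgroupMap_surjective _)
  have h : Lib.H1.CoprimeAction A D :=
    ⟨hAK.trans (Lib.H1.normalizer_le_normalizer_map_of_characteristic (frattini K)),
      by rw [hcardD]; exact hcop, Or.inr hDsolv⟩
  have hDnK : K ≤ Subgroup.normalizer (D : Set G) :=
    Subgroup.le_normalizer.trans (Lib.H1.normalizer_le_normalizer_map_of_characteristic (frattini K))
  have htop : (K ⊓ Subgroup.centralizer (A : Set G)).subgroupOf K ⊔ frattini K = ⊤ := by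
    rw [eq_top_iff]
    intro k _
    have hk : (k : G) ∈ K := k.2
    have hx : ∀ a ∈ A, (k : G)⁻¹ * a * k * a⁻¹ ∈ D := by
      intro a ha
      have h1 := htriv a ha k hk
      have h2 : (k : G)⁻¹ * a * k * a⁻¹ = (k : G)⁻¹ * (a * k * a⁻¹ * (k : G)⁻¹) * (k : G)⁻¹⁻¹ := by
        group
      rw [h2]
      exact (Subgroup.mem_normalizer_iff.mp (hDnK (K.inv_mem hk)) _).mp h1
    obtain ⟨d, hd, hc⟩ := Lib.H1.coprime_coset_fixed h (k : G) hx
    obtain ⟨d', hd', rfl⟩ := hd
    have hkd : k = (k * d') * d'⁻¹ := by group
    rw [hkd]
    refine Subgroup.mul_mem _ (Subgroup.mem_sup_left ?_)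
      (Subgroup.mem_sup_right (Subgroup.inv_mem _ hd'))
    rw [Subgroup.mem_subgroupOf]
    exact ⟨(k * d').2, hc⟩
  have htop' := frattini_nongenerating htop
  have hKC : K ≤ Subgroup.centralizer (A : Set G) := by
    intro k hk
    have : (⟨k, hk⟩ : K) ∈ (K ⊓ Subgroup.centralizer (A : Set G)).subgroupOf K := by
      rw [htop']
      exact Subgroup.mem_top _
    exact (Subgroup.mem_subgroupOf.mp this).2
  intro a ha
  rw [Subgroup.mem_centralizer_iff]
  intro k hk
  exact ((Subgroup.mem_centralizer_iff.mp (hKC hk)) a ha).symm

end Cfsg.Agent.S0029
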