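import Cfsg.Statements.S0031
import Mathlib
import Cfsg.Agent.Lib.H1.PCore

set_option autoImplicit false
open Cfsg

namespace Cfsg.Agent.S0031

open Pointwise in
theorem aux {G : Type*} [Group G] [Finite G] (φ : G ≃* G)
    (hφ : MonoidHom.FixedPointFree (φ : G →* G)) (p : ℕ) [Fact p.Prime] :
    ∃ P : Sylow p G, (P : Subgroup G).map (φ : G →* G) = P := by
  obtain ⟨P⟩ : Nonempty (Sylow p G) := inferInstance
  let ψ : MulAut G := φ
  obtain ⟨g, hg⟩ := MulAction.exists_smul_eq G (ψ • P) P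
  obtain ⟨y, hy⟩ := MonoidHom.FixedPointFree.commutatorMap_surjective hφ g
  have hy' : y * (φ y)⁻¹ = g := by simpa [div_eq_mul_inv] using hy
  have hg' : MulAut.conj g • ψ • (P : Subgroup G) = P := by
    have := congrArg (fun S : Sylow p G => (S : Subgroup G)) hg
    simpa [Sylow.coe_subgroup_smul, Sylow.pointwise_smul_def] using this
  have hmem : ∀ w : G, w ∈ (P : Subgroup G) ↔ φ.symm (g⁻¹ * w * g) ∈ (P : Subgroup G) := by
    intro w
    conv_lhs => rw [← hg']
    rw [Lib.H1.mem_conj_smul_iff, Subgroup.mem_pointwise_smul_iff_inv_smul_mem]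
    rfl
  refine ⟨y⁻¹ • P, ?_⟩
  rw [Sylow.coe_subgroup_smul]
  ext z
  rw [Lib.H1.mem_conj_smul_iff, Subgroup.mem_map]
  constructor
  · rintro ⟨w, hw, rfl⟩
    rw [Lib.H1.mem_conj_smul_iff] at hw
    rw [hmem]
    convert hw using 1
    rw [← hy']
    simp [mul_assoc]
  · intro hz
    refine ⟨φ.symm z, ?_, by simp⟩
    rw [Lib.H1.mem_conj_smul_iff]
    rw [hmem] at hz
    convert hz using 1
    rw [← hy']
    simp [mul_assoc]


/-- A fixed-point-free automorphism of a finite group maps some Sylow p-subgroup to itself. -/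
theorem result {G : Type*} [Group G] [Finite G] (φ : G ≃* G)
    (hφ : MonoidHom.FixedPointFree (φ : G →* G)) (p : ℕ) [Fact p.Prime] :
    ∃ P : Sylow p G, (P : Subgroup G).map (φ : G →* G) = P :=
  aux φ hφ p

end Cfsg.Agent.S0031
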