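import Cfsg.Statements.S0043
import Mathlib
import Cfsg.Agent.Lib.H1.SchurZassenhaus

set_option autoImplicit false
open Cfsg

namespace Cfsg.Agent.S0043

/-- A minimal normal subgroup of a finite solvable group is abelian, and for some prime p all of its elements have order dividing p. -/
theorem result {G : Type*} [Group G] [Finite G] [Group.IsSolvable G]
    (N : Subgroup G) [N.Normal] (hN : N ≠ ⊥) (hmin : ∀ M : Subgroup G, M.Normal → M ≤ N → M = ⊥ ∨ M = N) :
    IsMulCommutative N ∧ ∃ p : ℕ, p.Prime ∧ ∀ x ∈ N, x ^ p = 1 := by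
  have hNs : Group.IsSolvable N := inferInstance
  have hlt : ⁅N, N⁆ < N := Lib.H1.commutator_lt_of_isSolvable hNs hN
  have hcomm0 : ⁅N, N⁆ = ⊥ := by
    rcases hmin ⁅N, N⁆ inferInstance hlt.le with h | h
    · exact h
    · exact absurd h hlt.ne
  have hle : N ≤ Subgroup.centralizer (N : Set G) :=
    (Subgroup.commutator_eq_bot_iff_le_centralizer).mp hcomm0
  have hcomm : ∀ x ∈ N, ∀ y ∈ N, x * y = y * x := by
    intro x hx y hy
    exact ((Subgroup.mem_centralizer_iff.mp (hle hy)) x hx)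
  have hC : IsMulCommutative N :=
    ⟨⟨fun a b => Subtype.ext (hcomm a a.2 b b.2)⟩⟩
  refine ⟨hC, ?_⟩
  have hcard : Nat.card N ≠ 1 := fun h => hN (Subgroup.card_eq_one.mp h)
  obtain ⟨p, hp, hpdvd⟩ := Nat.exists_prime_and_dvd hcard
  refine ⟨p, hp, ?_⟩
  have : Fact p.Prime := ⟨hp⟩
  let M : Subgroup G :=
    { carrier := {x | x ∈ N ∧ x ^ p = 1}
      one_mem' := ⟨N.one_mem, one_pow p⟩
      mul_mem' := by
        rintro a b ⟨ha, hap⟩ ⟨hb, hbp⟩
        refine ⟨N.mul_mem ha hb, ?_⟩
        have : Commute a b := hcomm a ha b hb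
        rw [this.mul_pow, hap, hbp, one_mul]
      inv_mem' := by
        rintro a ⟨ha, hap⟩
        exact ⟨N.inv_mem ha, by rw [inv_pow, hap, inv_one]⟩ }
  have hMn : M.Normal := by
    constructor
    rintro a ⟨ha, hap⟩ g
    refine ⟨Subgroup.Normal.conj_mem inferInstance a ha g, ?_⟩
    rw [conj_pow, hap]
    group
  have hMN : M ≤ N := fun x hx => hx.1
  obtain ⟨x, hx⟩ := exists_prime_orderOf_dvd_card' (G := N) p hpdvd
  have hxM : (x : G) ∈ M := by
    refine ⟨x.2, ?_⟩
    have : (x : G) ^ p = ((x ^ p : N) : G) := by simp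
    rw [this, ← hx, pow_orderOf_eq_one]
    rfl
  have hx1 : (x : G) ≠ 1 := by
    intro h
    have : x = 1 := Subtype.ext h
    rw [this, orderOf_one] at hx
    exact hp.one_lt.ne hx
  rcases hmin M hMn hMN with h | h
  · exfalso
    rw [h, Subgroup.mem_bot] at hxM
    exact hx1 hxM
  · intro y hy
    rw [← h] at hy
    exact hy.2

end Cfsg.Agent.S0043
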