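import Cfsg.Statements.S0047
import Mathlib
import Cfsg.Agent.Lib.H1.Misc

set_option autoImplicit false
open Cfsg

namespace Cfsg.Agent.S0047

open scoped commutatorElement

theorem comm_mul_left {G : Type*} [Group G] (x y z : G) (h : y * z = z * y) :
    ⁅x * y, z⁆ = ⁅x, z⁆ := by
  rw [commutatorElement_def, commutatorElement_def]
  calc x * y * z * (x * y)⁻¹ * z⁻¹ = x * (y * z) * y⁻¹ * x⁻¹ * z⁻¹ := by group
    _ = x * (z * y) * y⁻¹ * x⁻¹ * z⁻¹ := by rw [h]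
    _ = x * z * x⁻¹ * z⁻¹ := by group

theorem comm_mul_right {G : Type*} [Group G] (x y z : G) (h : x * z = z * x) :
    ⁅x, y * z⁆ = ⁅x, y⁆ := by
  rw [commutatorElement_def, commutatorElement_def]
  have h' : z * x⁻¹ = x⁻¹ * z := by
    calc z * x⁻¹ = x⁻¹ * (x * z) * x⁻¹ := by group
      _ = x⁻¹ * (z * x) * x⁻¹ := by rw [h]
      _ = x⁻¹ * z := by group
  calc x * (y * z) * x⁻¹ * (y * z)⁻¹ = x * y * (z * x⁻¹) * z⁻¹ * y⁻¹ := by group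
    _ = x * y * (x⁻¹ * z) * z⁻¹ * y⁻¹ := by rw [h']
    _ = x * y * x⁻¹ * y⁻¹ := by group

theorem conj_comm {G : Type*} [Group G] (g x y : G) :
    g * ⁅x, y⁆ * g⁻¹ = ⁅g * x * g⁻¹, g * y * g⁻¹⁆ := by
  rw [commutatorElement_def, commutatorElement_def]
  group

theorem conj_eq_of_comm {G : Type*} [Group G] (g x : G) (h : g * x = x * g) : g * x * g⁻¹ = x := by
  rw [h]
  group

/-- Itô's computation. -/
theorem ito_key {G : Type*} [Group G] (A B : Subgroup G)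
    (hA : ∀ x ∈ A, ∀ y ∈ A, x * y = y * x) (hB : ∀ x ∈ B, ∀ y ∈ B, x * y = y * x)
    (hAB : ∀ g : G, ∃ a ∈ A, ∃ b ∈ B, g = a * b)
    {a a₁ b b₁ : G} (ha : a ∈ A) (ha₁ : a₁ ∈ A) (hb : b ∈ B) (hb₁ : b₁ ∈ B) :
    (a₁ * b₁) * ⁅a, b⁆ * (a₁ * b₁)⁻¹ = (b₁ * a₁) * ⁅a, b⁆ * (b₁ * a₁)⁻¹ := by
  obtain ⟨a₃, ha₃, b₃, hb₃, h1⟩ := hAB (b₁ * a * b₁⁻¹)
  -- `a₁ b a₁⁻¹ = b₂ a₂`
  obtain ⟨a₂', ha₂', b₂', hb₂', h2'⟩ := hAB ((a₁ * b * a₁⁻¹)⁻¹)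
  have h2 : a₁ * b * a₁⁻¹ = b₂'⁻¹ * a₂'⁻¹ := by
    rw [← inv_inv (a₁ * b * a₁⁻¹), h2']
    group
  have hb₂ : b₂'⁻¹ ∈ B := B.inv_mem hb₂'
  have ha₂ : a₂'⁻¹ ∈ A := A.inv_mem ha₂'
  have e1 : (a₁ * b₁) * ⁅a, b⁆ * (a₁ * b₁)⁻¹ = ⁅a₃, b₂'⁻¹⁆ := by
    calc (a₁ * b₁) * ⁅a, b⁆ * (a₁ * b₁)⁻¹ = a₁ * (b₁ * ⁅a, b⁆ * b₁⁻¹) * a₁⁻¹ := by group
      _ = a₁ * ⁅b₁ * a * b₁⁻¹, b₁ * b * b₁⁻¹⁆ * a₁⁻¹ := by rw [conj_comm]
      _ = a₁ * ⁅a₃ * b₃, b⁆ * a₁⁻¹ := by rw [h1, conj_eq_of_comm b₁ b (hB b₁ hb₁ b hb)]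
      _ = a₁ * ⁅a₃, b⁆ * a₁⁻¹ := by rw [comm_mul_left a₃ b₃ b (hB b₃ hb₃ b hb)]
      _ = ⁅a₁ * a₃ * a₁⁻¹, a₁ * b * a₁⁻¹⁆ := by rw [conj_comm]
      _ = ⁅a₃, b₂'⁻¹ * a₂'⁻¹⁆ := by rw [conj_eq_of_comm a₁ a₃ (hA a₁ ha₁ a₃ ha₃), h2]
      _ = ⁅a₃, b₂'⁻¹⁆ := comm_mul_right a₃ b₂'⁻¹ a₂'⁻¹ (hA a₃ ha₃ _ ha₂)
  have e2 : (b₁ * a₁) * ⁅a, b⁆ * (b₁ * a₁)⁻¹ = ⁅a₃, b₂'⁻¹⁆ := by
    calc (b₁ * a₁) * ⁅a, b⁆ * (b₁ * a₁)⁻¹ = b₁ * (a₁ * ⁅a, b⁆ * a₁⁻¹) * b₁⁻¹ := by group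
      _ = b₁ * ⁅a₁ * a * a₁⁻¹, a₁ * b * a₁⁻¹⁆ * b₁⁻¹ := by rw [conj_comm]
      _ = b₁ * ⁅a, b₂'⁻¹ * a₂'⁻¹⁆ * b₁⁻¹ := by rw [conj_eq_of_comm a₁ a (hA a₁ ha₁ a ha), h2]
      _ = b₁ * ⁅a, b₂'⁻¹⁆ * b₁⁻¹ := by rw [comm_mul_right a b₂'⁻¹ a₂'⁻¹ (hA a ha _ ha₂)]
      _ = ⁅b₁ * a * b₁⁻¹, b₁ * b₂'⁻¹ * b₁⁻¹⁆ := by rw [conj_comm]
      _ = ⁅a₃ * b₃, b₂'⁻¹⁆ := by rw [h1, conj_eq_of_comm b₁ b₂'⁻¹ (hB b₁ hb₁ _ hb₂)]
      _ = ⁅a₃, b₂'⁻¹⁆ := comm_mul_left a₃ b₃ b₂'⁻¹ (hB b₃ hb₃ _ hb₂)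
  rw [e1, e2]

/-- commutators `[a,b]` with `a ∈ A`, `b ∈ B` commute pairwise. -/
theorem ito_comm {G : Type*} [Group G] (A B : Subgroup G)
    (hA : ∀ x ∈ A, ∀ y ∈ A, x * y = y * x) (hB : ∀ x ∈ B, ∀ y ∈ B, x * y = y * x)
    (hAB : ∀ g : G, ∃ a ∈ A, ∃ b ∈ B, g = a * b)
    {a a₁ b b₁ : G} (ha : a ∈ A) (ha₁ : a₁ ∈ A) (hb : b ∈ B) (hb₁ : b₁ ∈ B) :
    ⁅a₁, b₁⁆ * ⁅a, b⁆ = ⁅a, b⁆ * ⁅a₁, b₁⁆ := by
  have key := ito_key A B hA hB hAB ha (A.inv_mem ha₁) hb (B.inv_mem hb₁)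
  -- `u = (b₁⁻¹ a₁⁻¹)⁻¹ (a₁⁻¹ b₁⁻¹) = a₁ b₁ a₁⁻¹ b₁⁻¹`
  have h1 : ⁅a₁, b₁⁆ * ⁅a, b⁆ * ⁅a₁, b₁⁆⁻¹ = ⁅a, b⁆ := by
    have e : ⁅a₁, b₁⁆ = (b₁⁻¹ * a₁⁻¹)⁻¹ * (a₁⁻¹ * b₁⁻¹) := by
      rw [commutatorElement_def]
      group
    calc ⁅a₁, b₁⁆ * ⁅a, b⁆ * ⁅a₁, b₁⁆⁻¹
        = (b₁⁻¹ * a₁⁻¹)⁻¹ * ((a₁⁻¹ * b₁⁻¹) * ⁅a, b⁆ * (a₁⁻¹ * b₁⁻¹)⁻¹) * (b₁⁻¹ * a₁⁻¹) := by
          rw [e]
          group
      _ = (b₁⁻¹ * a₁⁻¹)⁻¹ * ((b₁⁻¹ * a₁⁻¹) * ⁅a, b⁆ * (b₁⁻¹ * a₁⁻¹)⁻¹) * (b₁⁻¹ * a₁⁻¹) := by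
          rw [key]
      _ = ⁅a, b⁆ := by group
  calc ⁅a₁, b₁⁆ * ⁅a, b⁆ = ⁅a₁, b₁⁆ * ⁅a, b⁆ * ⁅a₁, b₁⁆⁻¹ * ⁅a₁, b₁⁆ := by group
    _ = ⁅a, b⁆ * ⁅a₁, b₁⁆ := by rw [h1]

/-- A finite group which is the product AB of two abelian subgroups A and B is solvable. -/
theorem result {G : Type*} [Group G] [Finite G] (A B : Subgroup G)
    [IsMulCommutative A] [IsMulCommutative B] (hAB : ∀ g : G, ∃ a ∈ A, ∃ b ∈ B, g = a * b) :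
    Group.IsSolvable G := by
  have hA : ∀ x ∈ A, ∀ y ∈ A, x * y = y * x := by
    intro x hx y hy
    exact congrArg Subtype.val (mul_comm' (⟨x, hx⟩ : A) ⟨y, hy⟩)
  have hB : ∀ x ∈ B, ∀ y ∈ B, x * y = y * x := by
    intro x hx y hy
    exact congrArg Subtype.val (mul_comm' (⟨x, hx⟩ : B) ⟨y, hy⟩)
  set X : Set G := { g | ∃ g₁ ∈ A, ∃ g₂ ∈ B, ⁅g₁, g₂⁆ = g } with hX
  set N : Subgroup G := ⁅A, B⁆ with hN
  have hNdef : N = Subgroup.closure X := rfl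
  -- `N` is commutative
  have hXc : X ⊆ Subgroup.centralizer X := by
    rintro x ⟨a, ha, b, hb, rfl⟩
    rw [SetLike.mem_coe, Subgroup.mem_centralizer_iff]
    rintro y ⟨a₁, ha₁, b₁, hb₁, rfl⟩
    exact ito_comm A B hA hB hAB ha ha₁ hb hb₁
  have hNc1 : N ≤ Subgroup.centralizer X := by
    rw [hNdef, Subgroup.closure_le]
    exact hXc
  have hNc2 : N ≤ Subgroup.centralizer (N : Set G) := by
    rw [hNdef, Subgroup.closure_le, ← hNdef]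
    intro x hx
    rw [SetLike.mem_coe, Subgroup.mem_centralizer_iff]
    intro y hy
    exact ((Subgroup.mem_centralizer_iff.mp (hNc1 hy)) x hx).symm
  have hNcomm : IsMulCommutative N := Subgroup.le_centralizer_iff_isMulCommutative.mp hNc2
  -- `N` is normal
  have hnorm : Subgroup.normalizer (N : Set G) = ⊤ := by
    rw [eq_top_iff]
    intro g _
    obtain ⟨a, ha, b, hb, rfl⟩ := hAB g
    exact Subgroup.mul_mem _ (Subgroup.normalizer_commutator_ge_left A B ha)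
      (Subgroup.normalizer_commutator_ge_right A B hb)
  have hNn : N.Normal := Subgroup.normalizer_eq_top_iff.mp hnorm
  -- `G ⧸ N` is commutative
  have hQ : ∀ x y : G ⧸ N, x * y = y * x := by
    have hab : ∀ a ∈ A, ∀ b ∈ B, (QuotientGroup.mk' N a) * (QuotientGroup.mk' N b) =
        (QuotientGroup.mk' N b) * (QuotientGroup.mk' N a) := by
      intro a ha b hb
      rw [← map_mul, ← map_mul]
      apply QuotientGroup.eq.mpr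
      have : (a * b)⁻¹ * (b * a) = ⁅b⁻¹, a⁻¹⁆ := by
        rw [commutatorElement_def]
        group
      rw [this, hN, Subgroup.commutator_comm]
      exact Subgroup.commutator_mem_commutator (B.inv_mem hb) (A.inv_mem ha)
    intro x y
    obtain ⟨g, rfl⟩ := QuotientGroup.mk'_surjective N x
    obtain ⟨g', rfl⟩ := QuotientGroup.mk'_surjective N y
    obtain ⟨a, ha, b, hb, rfl⟩ := hAB g
    obtain ⟨a', ha', b', hb', rfl⟩ := hAB g'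
    have haa : (QuotientGroup.mk' N a) * (QuotientGroup.mk' N a') =
        (QuotientGroup.mk' N a') * (QuotientGroup.mk' N a) := by
      rw [← map_mul, ← map_mul, hA a ha a' ha']
    have hbb : (QuotientGroup.mk' N b) * (QuotientGroup.mk' N b') =
        (QuotientGroup.mk' N b') * (QuotientGroup.mk' N b) := by
      rw [← map_mul, ← map_mul, hB b hb b' hb']
    rw [map_mul, map_mul]
    calc QuotientGroup.mk' N a * QuotientGroup.mk' N b * (QuotientGroup.mk' N a' * QuotientGroup.mk' N b')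
        = QuotientGroup.mk' N a * (QuotientGroup.mk' N b * QuotientGroup.mk' N a') * QuotientGroup.mk' N b' := by
          group
      _ = QuotientGroup.mk' N a * (QuotientGroup.mk' N a' * QuotientGroup.mk' N b) * QuotientGroup.mk' N b' := by
          rw [hab a' ha' b hb]
      _ = (QuotientGroup.mk' N a * QuotientGroup.mk' N a') * (QuotientGroup.mk' N b * QuotientGroup.mk' N b') := by
          group
      _ = (QuotientGroup.mk' N a' * QuotientGroup.mk' N a) * (QuotientGroup.mk' N b' * QuotientGroup.mk' N b) := by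
          rw [haa, hbb]
      _ = QuotientGroup.mk' N a' * (QuotientGroup.mk' N a * QuotientGroup.mk' N b') * QuotientGroup.mk' N b := by
          group
      _ = QuotientGroup.mk' N a' * (QuotientGroup.mk' N b' * QuotientGroup.mk' N a) * QuotientGroup.mk' N b := by
          rw [hab a ha b' hb']
      _ = QuotientGroup.mk' N a' * QuotientGroup.mk' N b' * (QuotientGroup.mk' N a * QuotientGroup.mk' N b) := by
          group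
  have hQs : Group.IsSolvable (G ⧸ N) := Group.isSolvable_of_comm hQ
  have hNs : Group.IsSolvable N := Lib.H1.isSolvable_of_isMulCommutative N
  apply Group.isSolvable_of_ker_le_range N.subtype (QuotientGroup.mk' N)
  rw [QuotientGroup.ker_mk', Subgroup.range_subtype]

end Cfsg.Agent.S0047
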