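import Cfsg.Statements.S0048
import Mathlib
import Cfsg.Agent.Lib.H1.QuotientBasic
import Cfsg.Agent.Lib.H1.SolvableBasic
import Cfsg.Agent.Lib.H1.SchurZassenhaus

set_option autoImplicit false
open Cfsg

namespace Cfsg.Agent.S0048

universe u

theorem aux : ∀ (n : ℕ) (G : Type u) [Group G] [Finite G] [Group.IsSolvable G] (M : Subgroup G),
    Nat.card G = n → IsCoatom M → IsPrimePow M.index := by
  intro n
  induction n using Nat.strong_induction_on with
  | _ n ih =>
  intro G _ _ _ M hn hM
  have hnt : Nontrivial G := by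
    by_contra hnt
    rw [not_nontrivial_iff_subsingleton] at hnt
    exact hM.1 (Subsingleton.elim _ _)
  obtain ⟨p, hp, R, hRn, hRp, hRne⟩ := Lib.H1.exists_normal_isPGroup_ne_bot_of_isSolvable (G := G)
  by_cases hRM : R ≤ M
  · have hlt : Nat.card (G ⧸ R) < n := hn ▸ Lib.H1.card_quotient_lt hRne
    have := ih _ hlt (G ⧸ R) (M.map (QuotientGroup.mk' R)) rfl (Lib.H1.isCoatom_map_mk' hRM hM)
    rwa [Lib.H1.index_map_mk'_of_le hRM] at this
  · have hsup : R ⊔ M = ⊤ := by
      by_contra hne
      have hlt : M < R ⊔ M := lt_of_le_of_ne le_sup_right (fun h => hRM (h ▸ le_sup_left))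
      exact hne (hM.2 _ hlt)
    have hdvd : M.index ∣ Nat.card R := Lib.H1.index_dvd_card_of_sup_eq_top hsup
    obtain ⟨k, hk⟩ := IsPGroup.iff_card.mp hRp
    rw [hk] at hdvd
    obtain ⟨j, -, hj⟩ := (Nat.dvd_prime_pow hp.out).mp hdvd
    have hj0 : j ≠ 0 := by
      rintro rfl
      rw [pow_zero] at hj
      exact hM.1 (Subgroup.index_eq_one.mp hj)
    rw [hj]
    exact IsPrimePow.pow hp.out.isPrimePow hj0

/-- In a finite solvable group every maximal subgroup has index a prime power. -/
theorem result {G : Type*} [Group G] [Finite G] [Group.IsSolvable G]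
    (M : Subgroup G) (hM : IsCoatom M) : IsPrimePow M.index := by
  exact aux _ G M rfl hM

end Cfsg.Agent.S0048
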