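import Cfsg.Statements.S0049
import Mathlib

set_option autoImplicit false
open Cfsg

namespace Cfsg.Agent.S0049

/-- A prime divisor of the order of a finite group also divides the index of the Frattini subgroup. -/
theorem result {G : Type*} [Group G] [Finite G] (p : ℕ) (hp : p.Prime) (hdvd : p ∣ Nat.card G) :
    p ∣ (frattini G).index := by
  have : Fact p.Prime := ⟨hp⟩
  by_contra hnd
  obtain ⟨P⟩ : Nonempty (Sylow p (frattini G)) := inferInstance
  set P' := (P : Subgroup (frattini G)).map (frattini G).subtype with hP'
  have hfr : Subgroup.normalizer (P' : Set G) ⊔ frattini G = ⊤ := Sylow.normalizer_sup_eq_top P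
  have hN : Subgroup.normalizer (P' : Set G) = ⊤ := frattini_nongenerating hfr
  have : P'.Normal := Subgroup.normalizer_eq_top_iff.mp hN
  have hG0 : Nat.card G ≠ 0 := Nat.card_pos.ne'
  have hcard : Nat.card P' = p ^ (Nat.card G).factorization p := by
    rw [hP', Subgroup.card_map_of_injective (frattini G).subtype_injective, P.card_eq_multiplicity]
    have h1 : Nat.card G = Nat.card (frattini G) * (frattini G).index :=
      ((frattini G).card_mul_index).symm
    have h2 : (frattini G).index ≠ 0 := by
      intro h0
      rw [h0, mul_zero] at h1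
      exact hG0 h1
    rw [h1, Nat.factorization_mul Nat.card_pos.ne' h2, Finsupp.add_apply,
      Nat.factorization_eq_zero_of_not_dvd hnd, add_zero]
  have hcop : (Nat.card P').Coprime P'.index := by
    rw [hcard]
    apply Nat.Coprime.pow_left
    rw [Nat.Prime.coprime_iff_not_dvd hp]
    intro hpi
    have : p ^ ((Nat.card G).factorization p + 1) ∣ Nat.card P' * P'.index := by
      rw [hcard, pow_succ]
      exact mul_dvd_mul_left _ hpi
    rw [P'.card_mul_index] at this
    exact Nat.pow_succ_factorization_not_dvd hG0 hp this
  obtain ⟨H, hH⟩ := Subgroup.exists_right_complement'_of_coprime hcop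
  have hsup : P' ⊔ H = ⊤ := hH.sup_eq_top
  have hP'Φ : P' ≤ frattini G := Subgroup.map_subtype_le _
  have hHtop : H = ⊤ := by
    apply frattini_nongenerating
    rw [eq_top_iff, ← hsup]
    exact sup_le (hP'Φ.trans le_sup_right) le_sup_left
  have hP'bot : P' = ⊥ := by
    have := hH.disjoint
    rw [hHtop] at this
    exact disjoint_top.mp this
  rw [hP'bot, Subgroup.card_bot] at hcard
  have hv : (Nat.card G).factorization p = 0 := by
    by_contra h0
    have : 1 < p ^ (Nat.card G).factorization p := Nat.one_lt_pow h0 hp.one_lt
    omega
  have := (hp.dvd_iff_one_le_factorization hG0).mp hdvd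
  omega

end Cfsg.Agent.S0049
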