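import Cfsg.Statements.S0050
import Mathlib
import Cfsg.Agent.Lib.H1.Hall
import Cfsg.Agent.Lib.H1.CoprimeSylow

set_option autoImplicit false
open Cfsg

namespace Cfsg.Agent.S0050

open Pointwise

/-- Frattini argument for Hall subgroups: if L is a solvable normal subgroup and H a subgroup of L of order coprime to its index in L, then L together with the normaliser of H generates the whole group. -/
theorem result {G : Type*} [Group G] [Finite G] (L : Subgroup G) [L.Normal] (hL : Group.IsSolvable L)
    (H : Subgroup G) (hHL : H ≤ L) (hHall : (Nat.card H).Coprime (H.relIndex L)) :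
    L ⊔ Subgroup.normalizer (H : Set G) = ⊤ := by
  rw [eq_top_iff]
  intro g _
  have hcardL : Nat.card L = Nat.card H * H.relIndex L := by
    have := Subgroup.relIndex_mul_relIndex ⊥ H L bot_le hHL
    rw [Subgroup.relIndex_bot_left, Subgroup.relIndex_bot_left] at this
    exact this.symm
  have hgHL : MulAut.conj g • H ≤ L := by
    rw [Lib.H1.conj_smul_le_iff]
    intro h hh
    exact Subgroup.Normal.conj_mem inferInstance h (hHL hh) g
  have h1 : Nat.card (H.subgroupOf L) = Nat.card H := Lib.H1.card_subgroupOf_of_le hHL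
  have h2 : Nat.card ((MulAut.conj g • H).subgroupOf L) = Nat.card H := by
    rw [Lib.H1.card_subgroupOf_of_le hgHL, Lib.H1.card_conj_smul]
  obtain ⟨l, hl⟩ := Lib.H1.hall_conj (G := L) hcardL hHall _ _ h1 h2
  have h3 : MulAut.conj (l : G) • H = MulAut.conj g • H :=
    Lib.H1.conj_smul_eq_of_subgroupOf hHL hgHL l hl
  have h4 : MulAut.conj ((l : G)⁻¹ * g) • H = H := by
    rw [← Lib.H1.conj_smul_conj_smul, ← h3, Lib.H1.conj_smul_conj_smul, inv_mul_cancel, map_one,
      one_smul]
  have h5 : (l : G)⁻¹ * g ∈ Subgroup.normalizer (H : Set G) :=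
    Lib.H1.conj_smul_eq_self_iff_mem_normalizer.mp h4
  have : g = (l : G) * ((l : G)⁻¹ * g) := by group
  rw [this]
  exact Subgroup.mul_mem _ (Subgroup.mem_sup_left l.2) (Subgroup.mem_sup_right h5)

end Cfsg.Agent.S0050
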