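import Cfsg.Statements.S0053
import Mathlib
import Cfsg.Agent.Lib.H1.PGroupBasic
import Cfsg.Agent.Lib.H1.Complement

set_option autoImplicit false
open Cfsg

namespace Cfsg.Agent.S0053

/-- An abelian minimal normal subgroup N of a finite group is complemented exactly when N is not inside the Frattini subgroup. -/
theorem result {G : Type*} [Group G] [Finite G]
    (N : Subgroup G) [N.Normal] [IsMulCommutative N] (hN : N ≠ ⊥)
    (hmin : ∀ M : Subgroup G, M.Normal → M ≤ N → M = ⊥ ∨ M = N) :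
    (∃ H : Subgroup G, Subgroup.IsComplement' N H) ↔ ¬ N ≤ frattini G := by
  constructor
  · rintro ⟨H, hH⟩ hNΦ
    have hsup : N ⊔ H = ⊤ := hH.sup_eq_top
    have hHtop : H = ⊤ := by
      apply frattini_nongenerating
      rw [eq_top_iff, ← hsup]
      exact sup_le (hNΦ.trans le_sup_right) le_sup_left
    have := hH.disjoint
    rw [hHtop] at this
    exact hN (disjoint_top.mp this)
  · intro hNΦ
    rw [Lib.H1.le_frattini_iff] at hNΦ
    push Not at hNΦ
    obtain ⟨M, hM, hNM⟩ := hNΦ
    have hsup : N ⊔ M = ⊤ := by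
      by_contra hne
      have hlt : M < N ⊔ M := lt_of_le_of_ne le_sup_right (fun h => hNM (h ▸ le_sup_left))
      exact hne (hM.2 _ hlt)
    have hcomm : ∀ x ∈ N, ∀ y ∈ N, x * y = y * x := by
      intro x hx y hy
      have := mul_comm' (⟨x, hx⟩ : N) ⟨y, hy⟩
      exact congrArg Subtype.val this
    have hDn : (N ⊓ M).Normal := by
      constructor
      intro d hd g
      have hg : g ∈ N ⊔ M := hsup ▸ Subgroup.mem_top g
      obtain ⟨n, hn, m, hm, rfl⟩ := Subgroup.mem_sup_of_normal_left.mp hg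
      rw [Subgroup.mem_inf] at hd ⊢
      have h1 : m * d * m⁻¹ ∈ N ⊓ M :=
        ⟨Subgroup.Normal.conj_mem inferInstance d hd.1 m, M.mul_mem (M.mul_mem hm hd.2) (M.inv_mem hm)⟩
      have h2 : n * m * d * (n * m)⁻¹ = m * d * m⁻¹ := by
        have e : n * (m * d * m⁻¹) = (m * d * m⁻¹) * n := hcomm n hn _ h1.1
        calc n * m * d * (n * m)⁻¹ = n * (m * d * m⁻¹) * n⁻¹ := by group
          _ = (m * d * m⁻¹) * n * n⁻¹ := by rw [e]
          _ = m * d * m⁻¹ := by group
      rw [h2]
      exact h1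
    rcases hmin (N ⊓ M) hDn inf_le_left with h | h
    · refine ⟨M, ?_⟩
      apply Lib.H1.isComplement'_of_disjoint_of_forall_mul (disjoint_iff.mpr h)
      intro g
      have hg : g ∈ N ⊔ M := hsup ▸ Subgroup.mem_top g
      obtain ⟨n, hn, m, hm, rfl⟩ := Subgroup.mem_sup_of_normal_left.mp hg
      exact ⟨n, hn, m, hm, rfl⟩
    · exfalso
      exact hNM (h ▸ inf_le_right)

end Cfsg.Agent.S0053
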