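import Cfsg.Statements.S0054
import Mathlib

set_option autoImplicit false
open Cfsg

namespace Cfsg.Agent.S0054

/-- A regular normal subgroup of a finite 2-transitive group is elementary abelian: it is commutative and all its elements have order dividing one prime. -/
theorem result {G : Type*} [Group G] [Finite G]
    {X : Type*} [Nonempty X] [MulAction G X] (h2 : MulAction.IsMultiplyPretransitive G X 2)
    (N : Subgroup G) [N.Normal] (htrans : MulAction.IsPretransitive N X) (hreg : ∀ x : X, MulAction.stabilizer N x = ⊥) :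
    IsMulCommutative N ∧ ∃ p : ℕ, p.Prime ∧ ∀ n ∈ N, n ^ p = 1 := by
  classical
  rw [MulAction.is_two_pretransitive_iff] at h2
  obtain ⟨x₀⟩ : Nonempty X := inferInstance
  -- semiregularity
  have hsemi : ∀ n ∈ N, n • x₀ = x₀ → n = 1 := by
    intro n hn hfix
    have h1 : (⟨n, hn⟩ : N) ∈ MulAction.stabilizer N x₀ := by
      rw [MulAction.mem_stabilizer_iff]
      exact hfix
    rw [hreg x₀, Subgroup.mem_bot] at h1
    exact congrArg Subtype.val h1
  -- all nonidentity elements are conjugate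
  have hconj : ∀ n ∈ N, ∀ m ∈ N, n ≠ 1 → m ≠ 1 → ∃ g : G, g * n * g⁻¹ = m := by
    intro n hn m hm hn1 hm1
    have h1 : x₀ ≠ n • x₀ := fun h => hn1 (hsemi n hn h.symm)
    have h2' : x₀ ≠ m • x₀ := fun h => hm1 (hsemi m hm h.symm)
    obtain ⟨g, hg1, hg2⟩ := h2 h1 h2'
    refine ⟨g, ?_⟩
    have h3 : (m⁻¹ * (g * n * g⁻¹)) • x₀ = x₀ := by
      have hg1' : g⁻¹ • x₀ = x₀ := by
        rw [inv_smul_eq_iff, hg1]
      rw [mul_smul, mul_smul, mul_smul, hg1', hg2, inv_smul_smul]
    have h4 : m⁻¹ * (g * n * g⁻¹) ∈ N := N.mul_mem (N.inv_mem hm) (‹N.Normal›.conj_mem n hn g)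
    have h5 := hsemi _ h4 h3
    rw [inv_mul_eq_one] at h5
    exact h5.symm
  by_cases hbot : N = ⊥
  · refine ⟨⟨⟨?_⟩⟩, 2, Nat.prime_two, ?_⟩
    · intro a b
      have hall : ∀ c ∈ N, c = 1 := by
        intro c hc
        rw [hbot, Subgroup.mem_bot] at hc; exact hc
      have ha : (a : G) = 1 := hall _ a.2
      have hb : (b : G) = 1 := hall _ b.2
      apply Subtype.ext
      simp [ha, hb]
    · intro n hn
      rw [hbot, Subgroup.mem_bot] at hn
      rw [hn, one_pow]
  · haveI : Nontrivial N := (Subgroup.nontrivial_iff_ne_bot N).mpr hbot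
    have hcard : Nat.card N ≠ 1 := by
      intro h
      exact hbot (Subgroup.card_eq_one.mp h)
    obtain ⟨p, hp, hpdvd⟩ := Nat.exists_prime_and_dvd hcard
    haveI : Fact p.Prime := ⟨hp⟩
    obtain ⟨n₀, hn₀⟩ := exists_prime_orderOf_dvd_card' p hpdvd
    have hn₀1 : (n₀ : G) ≠ 1 := by
      intro h
      have : n₀ = 1 := Subtype.ext h
      rw [this, orderOf_one] at hn₀
      exact hp.one_lt.ne hn₀
    have hn₀p : (n₀ : G) ^ p = 1 := by
      have := pow_orderOf_eq_one n₀
      rw [hn₀] at this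
      have h' := congrArg Subtype.val this
      simpa using h'
    have hpow : ∀ n ∈ N, n ^ p = 1 := by
      intro n hn
      by_cases h1 : n = 1
      · rw [h1, one_pow]
      · obtain ⟨g, hg⟩ := hconj n₀ n₀.2 n hn hn₀1 h1
        rw [← hg, conj_pow, hn₀p]; group
    have hpg : IsPGroup p N := by
      intro n
      refine ⟨1, ?_⟩
      rw [pow_one]
      apply Subtype.ext
      have := hpow n n.2
      simpa using this
    haveI : Finite N := inferInstance
    haveI := hpg.center_nontrivial
    obtain ⟨z, hz⟩ := exists_ne (1 : Subgroup.center N)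
    have hz1 : ((z : N) : G) ≠ 1 := by
      intro h
      apply hz
      apply Subtype.ext
      apply Subtype.ext
      exact h
    have hzc : ∀ m ∈ N, m * ((z : N) : G) = ((z : N) : G) * m := by
      intro m hm
      have := Subgroup.mem_center_iff.mp z.2 ⟨m, hm⟩
      exact congrArg Subtype.val this
    refine ⟨⟨⟨?_⟩⟩, p, hp, hpow⟩
    intro a b
    apply Subtype.ext
    simp only [Subgroup.coe_mul]
    by_cases ha : (a : G) = 1
    · rw [ha]; simp
    · obtain ⟨g, hg⟩ := hconj _ (z : N).2 a a.2 hz1 ha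
      have hb' : g⁻¹ * (b : G) * g ∈ N := by
        have := ‹N.Normal›.conj_mem b b.2 g⁻¹
        simpa using this
      have h1 := hzc _ hb'
      rw [← hg]
      calc g * ((z : N) : G) * g⁻¹ * (b : G) = g * (((z : N) : G) * (g⁻¹ * (b : G) * g)) * g⁻¹ := by group
        _ = g * ((g⁻¹ * (b : G) * g) * ((z : N) : G)) * g⁻¹ := by rw [h1]
        _ = (b : G) * (g * ((z : N) : G) * g⁻¹) := by group

end Cfsg.Agent.S0054
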