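import Cfsg.Statements.S0057
import Mathlib
import Cfsg.Agent.Lib.H1.CoprimeAction
import Cfsg.Agent.Lib.H1.CoprimeSylow
import Cfsg.Agent.Lib.H1.CoprimeAbelian
import Cfsg.Agent.Lib.H1.IndexBasic
import Cfsg.Agent.Lib.H1.FrattiniArg
import Cfsg.Agent.Lib.H1.Complement

set_option autoImplicit false
open Cfsg

namespace Cfsg.Agent.S0057

open Cfsg.Agent.Lib.H1 in
theorem card_sup_mul_card_inf_of_le {G : Type*} [Group G] {X Y K : Subgroup G} (hX : X ≤ K)
    (hY : Y ≤ K) (hn : K ≤ Subgroup.normalizer (Y : Set G)) :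
    Nat.card (X ⊔ Y : Subgroup G) * Nat.card (Y ⊓ X : Subgroup G) = Nat.card X * Nat.card Y := by
  haveI : (Y.subgroupOf K).Normal := Subgroup.normal_subgroupOf_of_le_normalizer hn
  have h1 := card_sup_mul_card_inf (X.subgroupOf K) (Y.subgroupOf K)
  have h2 : Y.subgroupOf K ⊓ X.subgroupOf K = (Y ⊓ X).subgroupOf K := by
    ext x
    simp only [Subgroup.mem_inf, Subgroup.mem_subgroupOf]
  rw [← Subgroup.subgroupOf_sup hX hY, h2, card_subgroupOf_of_le (sup_le hX hY),
    card_subgroupOf_of_le (inf_le_left.trans hY), card_subgroupOf_of_le hX,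
    card_subgroupOf_of_le hY] at h1
  exact h1

open Cfsg.Agent.Lib.H1 in
/-- the case where `C_K(A)` is normalized by `K` -/
theorem card_commutator_of_normal {G : Type*} [Group G] [Finite G] {A K : Subgroup G}
    (h : CoprimeAction A K) {p : ℕ} (hp : p.Prime)
    (hidx : (Subgroup.centralizer (A : Set G)).relIndex K = p)
    (hn : K ≤ Subgroup.normalizer ((K ⊓ Subgroup.centralizer (A : Set G) : Subgroup G) : Set G)) :
    Nat.card (⁅K, A⁆ : Subgroup G) = p := by
  classical
  set Z := Subgroup.centralizer (A : Set G) with hZ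
  set C := K ⊓ Z with hC
  set L := ⁅K, A⁆ with hL
  have hLK : L ≤ K := h.commutator_le
  have hCA : ⁅C, A⁆ = ⊥ := Subgroup.commutator_eq_bot_iff_le_centralizer.mpr inf_le_right
  -- three subgroups: `L` centralizes `C`
  have hLC : ⁅L, C⁆ = ⊥ := by
    apply Subgroup.commutator_commutator_eq_bot_of_rotate
    · rw [Subgroup.commutator_comm A C, hCA, Subgroup.commutator_bot_left]
    · have h1 : ⁅C, K⁆ ≤ C := Subgroup.le_normalizer_iff_commutator_le_left.mp hn
      rw [eq_bot_iff, ← hCA]
      exact Subgroup.commutator_mono h1 le_rfl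
  -- cardinalities
  have hcardK : Nat.card C * p = Nat.card K := by
    have := card_mul_relIndex_of_le (inf_le_left : C ≤ K)
    rw [Subgroup.inf_relIndex_left, hidx] at this
    exact this
  have hsup : L ⊔ C = K := coprime_commutator_sup_centralizer h
  have hLn : K ≤ Subgroup.normalizer (L : Set G) := Subgroup.normalizer_commutator_ge_left K A
  have hcard2 : Nat.card (C ⊔ L : Subgroup G) * Nat.card (L ⊓ C : Subgroup G) =
      Nat.card C * Nat.card L := card_sup_mul_card_inf_of_le inf_le_left hLK hLn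
  rw [sup_comm, hsup, ← hcardK] at hcard2
  -- `hcard2 : card C * p * card (L ⊓ C) = card C * card L`
  have hcardL : p * Nat.card (L ⊓ C : Subgroup G) = Nat.card L := by
    have hpos : 0 < Nat.card C := Nat.card_pos
    have : Nat.card C * (p * Nat.card (L ⊓ C : Subgroup G)) = Nat.card C * Nat.card L := by
      rw [← hcard2]; ring
    exact Nat.eq_of_mul_eq_mul_left hpos this
  -- `L` is abelian
  have hAL : A ≤ Subgroup.normalizer (L : Set G) := Subgroup.normalizer_commutator_ge_right K A
  have hLca : CoprimeAction A L := h.mono hLK hAL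
  have hLL : ⁅L, A⁆ = L := coprime_commutator_commutator h
  have hLCle : L ≤ Subgroup.centralizer (C : Set G) :=
    Subgroup.commutator_eq_bot_iff_le_centralizer.mp hLC
  set N₀ : Subgroup L := (L ⊓ C).subgroupOf L with hN₀
  have hN₀c : N₀ ≤ Subgroup.center L := by
    intro x hx
    rw [hN₀, Subgroup.mem_subgroupOf] at hx
    rw [Subgroup.mem_center_iff]
    intro g
    apply Subtype.ext
    simp only [Subgroup.coe_mul]
    exact (Subgroup.mem_centralizer_iff.mp (hLCle g.2) (x : G) hx.2).symm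
  haveI hN₀n : N₀.Normal := by
    refine ⟨fun n hn g => ?_⟩
    have := Subgroup.mem_center_iff.mp (hN₀c hn) g
    rw [this, mul_inv_cancel_right]
    exact hn
  have hN₀card : Nat.card N₀ = Nat.card (L ⊓ C : Subgroup G) := card_subgroupOf_of_le inf_le_left
  have hN₀idx : N₀.index = p := by
    have h1 := N₀.card_mul_index
    rw [hN₀card, ← hcardL, mul_comm] at h1
    exact Nat.eq_of_mul_eq_mul_right Nat.card_pos h1
  haveI : Fact p.Prime := ⟨hp⟩
  haveI : IsCyclic (L ⧸ N₀) := isCyclic_of_prime_card (p := p) (by rw [← hN₀idx]; rfl)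
  haveI hLcomm : IsMulCommutative L := by
    refine ⟨⟨fun a b => ?_⟩⟩
    exact commutative_of_cyclic_center_quotient (QuotientGroup.mk' N₀)
      (by rw [QuotientGroup.ker_mk']; exact hN₀c) a b
  have hinf := coprime_abelian_centralizer_inf_commutator hAL hLca.coprime
  rw [hLL] at hinf
  have hLZ : L ⊓ C = ⊥ := by
    rw [eq_bot_iff, ← hinf]
    intro x hx
    exact ⟨⟨hx.1, hx.2.2⟩, hx.1⟩
  rw [hLZ, Subgroup.card_bot, mul_one] at hcardL
  exact hcardL.symm

open scoped commutatorElement in
/-- Under coprime action, if the centraliser of A in K has prime index p in K then the commutator subgroup [K, A] has order exactly p. -/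
theorem result {G : Type*} [Group G] [Finite G] (A K : Subgroup G) (hAK : A ≤ Subgroup.normalizer (K : Set G))
    (hcop : (Nat.card A).Coprime (Nat.card K)) (hsolv : Group.IsSolvable A ∨ Group.IsSolvable K)
    (p : ℕ) (hp : p.Prime) (hidx : (K ⊓ Subgroup.centralizer (A : Set G)).relIndex K = p) :
    Nat.card (⁅K, A⁆ : Subgroup G) = p := by
  classical
  have h : Lib.H1.CoprimeAction A K := ⟨hAK, hcop, hsolv⟩
  set Z := Subgroup.centralizer (A : Set G) with hZ
  have hidx' : Z.relIndex K = p := by rw [← Subgroup.inf_relIndex_left]; exact hidx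
  haveI : Fact p.Prime := ⟨hp⟩
  obtain ⟨P, hPsyl, hAP⟩ := Lib.H1.coprime_exists_invariant_sylow h p
  have hPK : P ≤ K := hPsyl.le
  have hPca : Lib.H1.CoprimeAction A P := h.mono hPK hAP
  -- `|P : C_P(A)| = p`
  have hle : Z.relIndex P ≤ p := by
    rw [← hidx']
    exact Subgroup.relIndex_le_of_le_right hPK (by rw [hidx']; exact hp.ne_zero)
  have hdvd : Z.relIndex P ∣ Nat.card P := (Z.subgroupOf P).index_dvd_card
  have hne1 : Z.relIndex P ≠ 1 := by
    intro h1
    have hPZ : P ≤ Z := Subgroup.relIndex_eq_one.mp h1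
    have hPC : P ≤ K ⊓ Z := le_inf hPK hPZ
    have h2 := Subgroup.relIndex_mul_relIndex P (K ⊓ Z) K hPC inf_le_left
    rw [hidx] at h2
    have h3 : ¬ p ∣ (hPsyl.toSylow : Subgroup K).index := hPsyl.toSylow.not_dvd_index
    rw [Lib.H1.IsSylowOf.coe_toSylow] at h3
    apply h3
    show p ∣ P.relIndex K
    rw [← h2]
    exact Dvd.intro_left _ rfl
  have hPidx : Z.relIndex P = p := by
    rw [hPsyl.card_eq] at hdvd
    obtain ⟨j, -, hj⟩ := (Nat.dvd_prime_pow hp).mp hdvd
    rcases j with _ | _ | j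
    · rw [pow_zero] at hj; exact absurd hj hne1
    · rw [hj]; simp
    · exfalso
      rw [hj] at hle
      have h4 : p ^ 2 ≤ p ^ (j + 1 + 1) := Nat.pow_le_pow_right hp.pos (by omega)
      have h5 : p < p ^ 2 := by
        have := hp.one_lt
        nlinarith
      omega
  have hPn : P ≤ Subgroup.normalizer ((P ⊓ Z : Subgroup G) : Set G) := by
    rw [← Subgroup.normal_subgroupOf_iff_le_normalizer inf_le_left, Subgroup.inf_subgroupOf_left]
    apply Subgroup.normal_of_index_eq_minFac_card
    show Z.relIndex P = _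
    rw [hPidx, hPsyl.card_eq]
    refine (Nat.Prime.pow_minFac hp ?_).symm
    intro h0
    apply hne1
    have h1 : Nat.card P = 1 := by rw [hPsyl.card_eq, h0, pow_zero]
    rw [h1] at hdvd
    exact Nat.dvd_one.mp hdvd
  have hRcard := card_commutator_of_normal hPca hp hPidx hPn
  set R := ⁅P, A⁆ with hR
  have hRP : R ≤ P := hPca.commutator_le
  have hAR : A ≤ Subgroup.normalizer (R : Set G) := Subgroup.normalizer_commutator_ge_right P A
  have hRR : ⁅R, A⁆ = R := Lib.H1.coprime_commutator_commutator hPca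
  have hRZ : R ⊓ Z = ⊥ := by
    by_contra hne
    have h1 : Nat.card (R ⊓ Z : Subgroup G) ∣ p := by
      rw [← hRcard]; exact Subgroup.card_dvd_of_le inf_le_left
    rcases (Nat.dvd_prime hp).mp h1 with h2 | h2
    · exact hne (Subgroup.card_eq_one.mp h2)
    · have h3 : R ⊓ Z = R := Subgroup.eq_of_le_of_card_ge inf_le_left (by rw [h2, hRcard])
      have h4 : R ≤ Z := by rw [← h3]; exact inf_le_right
      have h5 : ⁅R, A⁆ = ⊥ := Subgroup.commutator_eq_bot_iff_le_centralizer.mpr h4
      rw [hRR] at h5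
      rw [h5, Subgroup.card_bot] at hRcard
      exact hp.one_lt.ne hRcard
  -- `K = R C`
  have hcardK : Nat.card (K ⊓ Z : Subgroup G) * p = Nat.card K := by
    have := Lib.H1.card_mul_relIndex_of_le (inf_le_left : K ⊓ Z ≤ K)
    rw [hidx] at this
    exact this
  have hcompl : Subgroup.IsComplement' (R.subgroupOf K) ((K ⊓ Z).subgroupOf K) := by
    apply Subgroup.isComplement'_of_card_mul_and_disjoint
    · rw [Lib.H1.card_subgroupOf_of_le (hRP.trans hPK), Lib.H1.card_subgroupOf_of_le inf_le_left,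
        hRcard, mul_comm]
      exact hcardK
    · rw [Subgroup.disjoint_def]
      intro x hx1 hx2
      rw [Subgroup.mem_subgroupOf] at hx1 hx2
      have : (x : G) ∈ R ⊓ Z := ⟨hx1, hx2.2⟩
      rw [hRZ, Subgroup.mem_bot] at this
      exact Subtype.ext this
  have hKR : ⁅K, A⁆ ≤ R := by
    rw [Subgroup.commutator_le]
    intro k hk a ha
    obtain ⟨⟨t, c⟩, htc, -⟩ := hcompl.existsUnique ⟨k, hk⟩
    have htR : ((t : K) : G) ∈ R := Subgroup.mem_subgroupOf.mp t.2
    have hcZ : ((c : K) : G) ∈ Z := (Subgroup.mem_subgroupOf.mp c.2).2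
    have hk' : k = ((t : K) : G) * ((c : K) : G) := by
      have := congrArg Subtype.val htc
      simpa using this.symm
    have hca : a * ((c : K) : G) = ((c : K) : G) * a :=
      Subgroup.mem_centralizer_iff.mp hcZ a ha
    have hconj : a * ((t : K) : G)⁻¹ * a⁻¹ ∈ R :=
      (Subgroup.mem_normalizer_iff.mp (hAR ha) _).mp (R.inv_mem htR)
    have : ⁅k, a⁆ = ((t : K) : G) * (a * ((t : K) : G)⁻¹ * a⁻¹) := by
      rw [hk', commutatorElement_def]
      have e : ((t : K) : G) * ((c : K) : G) * a * (((t : K) : G) * ((c : K) : G))⁻¹ * a⁻¹ =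
          ((t : K) : G) * (((c : K) : G) * a) * ((c : K) : G)⁻¹ * ((t : K) : G)⁻¹ * a⁻¹ := by group
      rw [e, ← hca]
      group
    rw [this]
    exact R.mul_mem htR hconj
  have hRK : R ≤ ⁅K, A⁆ := Subgroup.commutator_mono hPK le_rfl
  rw [le_antisymm hKR hRK]
  exact hRcard

end Cfsg.Agent.S0057
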