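import Cfsg.Statements.S0060
import Mathlib
import Cfsg.Agent.Lib.H1.PCore
import Cfsg.Agent.Lib.H1.SylowBasic

set_option autoImplicit false
open Pointwise
open Cfsg

namespace Cfsg.Agent.S0060

/-- Brodkey's Theorem: in a finite group with abelian Sylow p-subgroups and no nontrivial normal p-subgroup, some conjugate of a Sylow p-subgroup meets it trivially. -/
theorem result {G : Type*} [Group G] [Finite G] (p : ℕ) [Fact p.Prime]
    (S : Sylow p G) (hS : IsMulCommutative S) (hOp : Cfsg.pCore p G = ⊥) :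
    ∃ g : G, (S : Subgroup G) ⊓ MulAut.conj g • (S : Subgroup G) = ⊥ := by
  classical
  -- all Sylow p-subgroups are abelian
  have hab : ∀ P : Sylow p G, ∀ x ∈ (P : Subgroup G), ∀ y ∈ (P : Subgroup G), x * y = y * x := by
    intro P x hx y hy
    obtain ⟨g, hg⟩ := MulAction.exists_smul_eq G S P
    rw [← hg, Sylow.coe_subgroup_smul, Lib.H1.mem_conj_smul_iff] at hx hy
    have h := hS.is_comm.comm ⟨_, hx⟩ ⟨_, hy⟩
    have h' := congrArg Subtype.val h
    simp only [Subgroup.coe_mul] at h'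
    have h1 : g⁻¹ * (x * y) * g = g⁻¹ * (y * x) * g := by
      calc g⁻¹ * (x * y) * g = (g⁻¹ * x * g) * (g⁻¹ * y * g) := by group
        _ = (g⁻¹ * y * g) * (g⁻¹ * x * g) := h'
        _ = g⁻¹ * (y * x) * g := by group
    have h2 := mul_left_cancel (mul_right_cancel h1)
    exact h2
  obtain ⟨⟨S₀, T₀⟩, -, hmin⟩ := exists_minimalFor_of_wellFoundedLT (fun _ => True)
    (fun q : Sylow p G × Sylow p G => Nat.card ↥((q.1 : Subgroup G) ⊓ (q.2 : Subgroup G)))
    ⟨(S, S), trivial⟩
  have hmin' : ∀ P Q : Sylow p G, Nat.card ↥((P : Subgroup G) ⊓ (Q : Subgroup G)) ≤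
      Nat.card ↥((S₀ : Subgroup G) ⊓ (T₀ : Subgroup G)) →
      Nat.card ↥((S₀ : Subgroup G) ⊓ (T₀ : Subgroup G)) ≤
      Nat.card ↥((P : Subgroup G) ⊓ (Q : Subgroup G)) := fun P Q h => hmin (j := (P, Q)) trivial h
  set D : Subgroup G := (S₀ : Subgroup G) ⊓ (T₀ : Subgroup G) with hD
  set N : Subgroup G := Subgroup.normalizer (D : Set G) with hN
  have hS₀N : (S₀ : Subgroup G) ≤ N := by
    intro s hs
    rw [hN, Subgroup.mem_normalizer_iff]
    intro d
    constructor
    · intro hd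
      have : s * d * s⁻¹ = d := by
        rw [hab S₀ s hs d hd.1]; group
      rw [this]; exact hd
    · intro hd
      have h1 : s * d * s⁻¹ ∈ (S₀ : Subgroup G) := hd.1
      have h2 : d ∈ (S₀ : Subgroup G) := by
        have := (S₀ : Subgroup G).mul_mem ((S₀ : Subgroup G).mul_mem ((S₀ : Subgroup G).inv_mem hs) h1) hs
        simpa [mul_assoc] using this
      have : s * d * s⁻¹ = d := by
        rw [hab S₀ s hs d h2]; group
      rw [this] at hd; exact hd
  have hT₀N : (T₀ : Subgroup G) ≤ N := by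
    intro s hs
    rw [hN, Subgroup.mem_normalizer_iff]
    intro d
    constructor
    · intro hd
      have : s * d * s⁻¹ = d := by
        rw [hab T₀ s hs d hd.2]; group
      rw [this]; exact hd
    · intro hd
      have h1 : s * d * s⁻¹ ∈ (T₀ : Subgroup G) := hd.2
      have h2 : d ∈ (T₀ : Subgroup G) := by
        have := (T₀ : Subgroup G).mul_mem ((T₀ : Subgroup G).mul_mem ((T₀ : Subgroup G).inv_mem hs) h1) hs
        simpa [mul_assoc] using this
      have : s * d * s⁻¹ = d := by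
        rw [hab T₀ s hs d h2]; group
      rw [this] at hd; exact hd
  have hDP : ∀ P : Sylow p G, D ≤ (P : Subgroup G) := by
    intro P
    have hidx : ¬ p ∣ ((S₀ : Subgroup G).subgroupOf N).index := by
      intro hdvd
      apply S₀.not_dvd_index
      have h1 : (S₀ : Subgroup G).relIndex N ∣ (S₀ : Subgroup G).index :=
        ⟨N.index, (Subgroup.relIndex_mul_index hS₀N).symm⟩
      exact hdvd.trans h1
    have hpg : IsPGroup p (((P : Subgroup G) ⊓ N).subgroupOf N) := by
      have h1 : IsPGroup p ((P : Subgroup G) ⊓ N : Subgroup G) := P.isPGroup'.to_le inf_le_left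
      exact h1.comap_of_injective N.subtype N.subtype_injective
    obtain ⟨n, hn⟩ := Lib.H1.exists_conj_le_of_not_dvd_index hidx hpg
    have hn' : ∀ x ∈ (P : Subgroup G), x ∈ N → (n : G) * x * (n : G)⁻¹ ∈ (S₀ : Subgroup G) := by
      intro x hx hxN
      have := hn ⟨x, hxN⟩ (by rw [Subgroup.mem_subgroupOf]; exact ⟨hx, hxN⟩)
      rw [Subgroup.mem_subgroupOf] at this
      simpa using this
    have hle : (((n : G) • P : Sylow p G) : Subgroup G) ⊓ (T₀ : Subgroup G) ≤ D := by
      intro y hy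
      obtain ⟨hy1, hy2⟩ := hy
      have hy1' : y ∈ MulAut.conj (n : G) • (P : Subgroup G) := hy1
      rw [Lib.H1.mem_conj_smul_iff] at hy1'
      have hy1 := hy1'
      have hy2 : y ∈ (T₀ : Subgroup G) := hy2
      refine ⟨?_, hy2⟩
      have hxN : (n : G)⁻¹ * y * (n : G) ∈ N :=
        N.mul_mem (N.mul_mem (N.inv_mem n.2) (hT₀N hy2)) n.2
      have h3 := hn' _ hy1 hxN
      have h4 : (n : G) * ((n : G)⁻¹ * y * (n : G)) * (n : G)⁻¹ = y := by group
      rw [h4] at h3
      exact h3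
    have hcard := hmin' ((n : G) • P) T₀ (Subgroup.card_le_of_le hle)
    have heq : (((n : G) • P : Sylow p G) : Subgroup G) ⊓ (T₀ : Subgroup G) = D :=
      Subgroup.eq_of_le_of_card_ge hle hcard
    intro d hd
    have hnd : (n : G) * d * (n : G)⁻¹ ∈ D := by
      have h0 : (n : G) ∈ Subgroup.normalizer (D : Set G) := n.2
      rw [Subgroup.mem_normalizer_iff] at h0
      exact (h0 d).mp hd
    rw [← heq] at hnd
    have h1 : (n : G) * d * (n : G)⁻¹ ∈ MulAut.conj (n : G) • (P : Subgroup G) := hnd.1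
    rw [Lib.H1.mem_conj_smul_iff] at h1
    have h4 : (n : G)⁻¹ * ((n : G) * d * (n : G)⁻¹) * (n : G) = d := by group
    rw [h4] at h1
    exact h1
  have hDbot : D = ⊥ := by
    rw [eq_bot_iff, ← hOp, Lib.H1.pCore_eq_iInf_sylow]
    exact le_iInf hDP
  obtain ⟨a, ha⟩ := MulAction.exists_smul_eq G S S₀
  obtain ⟨b, hb⟩ := MulAction.exists_smul_eq G S T₀
  refine ⟨a⁻¹ * b, ?_⟩
  rw [eq_bot_iff]
  intro x hx
  obtain ⟨hx1, hx2⟩ := hx
  have hx1 : x ∈ (S : Subgroup G) := hx1
  have hx2 : x ∈ MulAut.conj (a⁻¹ * b) • (S : Subgroup G) := hx2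
  rw [Lib.H1.mem_conj_smul_iff] at hx2
  have h1 : a * x * a⁻¹ ∈ D := by
    constructor
    · rw [← ha, Sylow.coe_subgroup_smul]
      show a * x * a⁻¹ ∈ MulAut.conj a • (S : Subgroup G)
      rw [Lib.H1.mem_conj_smul_iff]
      have h4 : a⁻¹ * (a * x * a⁻¹) * a = x := by group
      rw [h4]; exact hx1
    · rw [← hb, Sylow.coe_subgroup_smul]
      show a * x * a⁻¹ ∈ MulAut.conj b • (S : Subgroup G)
      rw [Lib.H1.mem_conj_smul_iff]
      have : b⁻¹ * (a * x * a⁻¹) * b = (a⁻¹ * b)⁻¹ * x * (a⁻¹ * b) := by group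
      rw [this]; exact hx2
  rw [hDbot, Subgroup.mem_bot] at h1
  rw [Subgroup.mem_bot]
  have : x = a⁻¹ * (a * x * a⁻¹) * a := by group
  rw [this, h1]; group

end Cfsg.Agent.S0060
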