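import Cfsg.Statements.S0066
-- import your own Cfsg.Agent.* helpers here
import Mathlib
import Cfsg.Agent.S0540
import Cfsg.Agent.Lib.H14.Subnormal2

set_option autoImplicit false
open Pointwise
open Cfsg

namespace Cfsg.Agent.S0066

universe u

/-- Wielandt's hypothesis. -/
def Hyp {G : Type*} [Group G] (A : Subgroup G) : Prop :=
  ∀ g : G, (A.subgroupOf (A ⊔ MulAut.conj g • A)).IsSubnormal

theorem map_conj_smul_le {G₁ G₂ : Type*} [Group G₁] [Group G₂] (φ : G₁ →* G₂) (A₂ : Subgroup G₂)
    (x : G₁) : (MulAut.conj x • (A₂.comap φ)).map φ ≤ MulAut.conj (φ x) • A₂ := by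
  rintro _ ⟨y, hy, rfl⟩
  obtain ⟨z, hz, rfl⟩ := (Subgroup.mem_smul_pointwise_iff_exists _ _ _).mp hy
  rw [Subgroup.mem_smul_pointwise_iff_exists]
  refine ⟨φ z, hz, ?_⟩
  simp [MulAut.smul_def, MulAut.conj_apply]

/-- The hypothesis is inherited by preimages under arbitrary homomorphisms. -/
theorem Hyp.comap {G₁ G₂ : Type*} [Group G₁] [Group G₂] (φ : G₁ →* G₂) {A₂ : Subgroup G₂}
    (h : Hyp A₂) : Hyp (A₂.comap φ) := by
  intro x
  set A₁ := A₂.comap φ with hA₁
  set J₁ := A₁ ⊔ MulAut.conj x • A₁ with hJ₁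
  set J₂ := A₂ ⊔ MulAut.conj (φ x) • A₂ with hJ₂
  have hle : J₁.map φ ≤ J₂ := by
    rw [hJ₁, Subgroup.map_sup]
    refine sup_le_sup ?_ (map_conj_smul_le φ A₂ x)
    exact Subgroup.map_comap_le φ A₂
  let f : J₁ →* J₂ :=
    { toFun := fun z => ⟨φ z, hle (Subgroup.mem_map_of_mem φ z.2)⟩
      map_one' := by apply Subtype.ext; simp
      map_mul' := fun a b => by apply Subtype.ext; simp }
  have := (h (φ x)).comap f
  have heq : Subgroup.comap f (A₂.subgroupOf J₂) = A₁.subgroupOf J₁ := by
    ext z
    rfl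
  rw [heq] at this
  exact this

theorem conj_smul_eq_comap {G : Type*} [Group G] (A : Subgroup G) (g : G) :
    MulAut.conj g • A = A.comap (MulAut.conj g⁻¹).toMonoidHom := by
  ext x
  rw [Subgroup.mem_pointwise_smul_iff_inv_smul_mem, Subgroup.mem_comap, ← map_inv]
  rfl

theorem Hyp.conj {G : Type*} [Group G] {A : Subgroup G} (h : Hyp A) (g : G) :
    Hyp (MulAut.conj g • A) := by
  rw [conj_smul_eq_comap]
  exact h.comap _

theorem Hyp.subgroupOf {G : Type*} [Group G] {A : Subgroup G} (h : Hyp A) (V : Subgroup G) :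
    Hyp (A.subgroupOf V) := h.comap V.subtype

/-- subnormality passes from a subgroup `V` to a smaller subgroup `D`. -/
theorem subgroupOf_isSubnormal_of_le {G : Type*} [Group G] {B D V : Subgroup G} (hDV : D ≤ V)
    (h : (B.subgroupOf V).IsSubnormal) : (B.subgroupOf D).IsSubnormal := by
  have := h.comap (Subgroup.inclusion hDV)
  have heq : Subgroup.comap (Subgroup.inclusion hDV) (B.subgroupOf V) = B.subgroupOf D := by
    ext z
    rfl
  rw [heq] at this
  exact this

theorem wielandt_aux : ∀ (n : ℕ) (G : Type u) [Group G] [Finite G], Nat.card G = n →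
    ∀ A : Subgroup G, Hyp A → A.IsSubnormal := by
  intro n
  induction n using Nat.strong_induction_on with
  | _ n ih =>
    intro G _ _ hn A hA
    by_contra hns
    -- induction hypothesis in usable form
    have key : ∀ V : Subgroup G, V ≠ ⊤ → ∀ B : Subgroup G, (∃ g : G, B = MulAut.conj g • A) →
        (B.subgroupOf V).IsSubnormal := by
      intro V hV B hB
      obtain ⟨g, rfl⟩ := hB
      have hlt : Nat.card V < n := by
        rw [← hn]
        exact Cfsg.Agent.Lib.H14.card_lt_of_lt_top V (lt_top_iff_ne_top.mpr hV)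
      exact ih _ hlt V rfl _ ((hA.conj g).subgroupOf V)
    have hAtop : A ≠ ⊤ := by
      rintro rfl
      exact hns Subgroup.IsSubnormal.top
    -- a normal proper subgroup containing A gives a contradiction
    have hnormal : ∀ D : Subgroup G, D.Normal → A ≤ D → D ≠ ⊤ → False := by
      intro D hD hAD hDtop
      have h1 : (A.subgroupOf D).IsSubnormal := by
        have := key D hDtop A ⟨1, by simp⟩
        exact this
      exact hns (Subgroup.IsSubnormal.trans hAD h1 hD.isSubnormal)
    let U : Set (Subgroup G) := {V | A ≤ V ∧ V ≠ ⊤}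
    let S : Subgroup G → Set (Subgroup G) := fun V =>
      {B | (∃ g : G, B = MulAut.conj g • A) ∧ B ≤ V ∧ (B.subgroupOf V).IsSubnormal}
    have hAS : ∀ V ∈ U, A ∈ S V := by
      intro V hV
      exact ⟨⟨1, by simp⟩, hV.1, key V hV.2 A ⟨1, by simp⟩⟩
    obtain ⟨M, hMU, hM⟩ := Cfsg.Agent.S0540.result A U ⟨A, le_refl A, hAtop⟩ S
      (fun V B => Iff.rfl) hAS
      (fun V hV W hW B hB hBV => ⟨hB.1, hBV, key V hV.2 B hB.1⟩)
      (by
        intro V hV W hW
        set D : Subgroup G := sSup (S V ∩ S W) with hD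
        have hAD : A ≤ D := le_sSup ⟨hAS V hV, hAS W hW⟩
        have hDV : D ≤ V := sSup_le (fun B hB => hB.1.2.1)
        by_cases hN : Subgroup.normalizer (D : Set G) = ⊤
        · exfalso
          have hDn : D.Normal := Subgroup.normalizer_eq_top_iff.mp hN
          exact hnormal D hDn hAD (fun h => hV.2 (top_le_iff.mp (h ▸ hDV)))
        · exact ⟨Subgroup.normalizer (D : Set G), ⟨hAD.trans Subgroup.le_normalizer, hN⟩, le_refl _⟩)
    -- all conjugates of A lie in M
    have hconj : ∀ g : G, MulAut.conj g • A ≤ M := by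
      intro g
      have hJ : A ⊔ MulAut.conj g • A ∈ U := by
        refine ⟨le_sup_left, fun htop => ?_⟩
        have h1 := hA g
        rw [htop] at h1
        exact hns (Subgroup.IsSubnormal.trans le_top h1 Subgroup.IsSubnormal.top)
      exact le_sup_right.trans (hM _ hJ)
    have hcl : Subgroup.normalClosure (A : Set G) ≤ M := by
      unfold Subgroup.normalClosure
      rw [Subgroup.closure_le]
      intro x hx
      rw [Group.mem_conjugatesOfSet_iff] at hx
      obtain ⟨a, ha, hax⟩ := hx
      rw [isConj_iff] at hax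
      obtain ⟨c, rfl⟩ := hax
      apply hconj c
      rw [Subgroup.mem_smul_pointwise_iff_exists]
      exact ⟨a, ha, rfl⟩
    exact hnormal (Subgroup.normalClosure (A : Set G)) inferInstance Subgroup.le_normalClosure
      (fun h => hMU.2 (top_le_iff.mp (h ▸ hcl)))


/-- Wielandt's subnormality criterion: a subgroup that is subnormal in its join with each of its conjugates is subnormal in the whole finite group. -/
theorem result {G : Type*} [Group G] [Finite G] (A : Subgroup G)
    (h : ∀ g : G, (A.subgroupOf (A ⊔ MulAut.conj g • A)).IsSubnormal) : A.IsSubnormal := by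
  exact wielandt_aux _ G rfl A h

end Cfsg.Agent.S0066
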