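import Cfsg.Statements.S0068
import Mathlib
import Cfsg.Agent.Lib.H1.Frobenius

set_option autoImplicit false
open Cfsg

namespace Cfsg.Agent.S0068

/-- Frobenius complements of even order: if H complements a nontrivial normal subgroup K, each nonidentity element of H has trivial centraliser in K, and H has even order, then H contains a unique involution s, K is abelian, and s inverts every element of K. -/
theorem result {G : Type*} [Group G] [Finite G] (K H : Subgroup G) [K.Normal]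
    (hc : Subgroup.IsComplement' K H) (hK : K ≠ ⊥) (hfpf : ∀ h ∈ H, h ≠ 1 → K ⊓ Subgroup.centralizer {h} = ⊥)
    (heven : 2 ∣ Nat.card H) :
    (∃ s ∈ H, orderOf s = 2 ∧ (∀ t ∈ H, orderOf t = 2 → t = s) ∧ ∀ k ∈ K, s * k * s⁻¹ = k⁻¹) ∧ IsMulCommutative K := by
  haveI : Fact (Nat.Prime 2) := ⟨Nat.prime_two⟩
  obtain ⟨s, hs⟩ := exists_prime_orderOf_dvd_card' (G := H) 2 heven
  have hsG : orderOf (s : G) = 2 := by rw [Subgroup.orderOf_coe, hs]
  have hinv : ∀ t : G, t ∈ H → orderOf t = 2 →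
      (∀ k ∈ K, t * k * t⁻¹ = k⁻¹) ∧ IsMulCommutative K := by
    intro t ht hto
    have ht1 : t ≠ 1 := by
      rintro rfl
      rw [orderOf_one] at hto
      omega
    have htt : t * t = 1 := by
      rw [← pow_two, ← hto]
      exact pow_orderOf_eq_one t
    exact Lib.H1.inverts_of_fpf_involution htt (hfpf t ht ht1)
  obtain ⟨hsinv, hcomm⟩ := hinv s s.2 hsG
  refine ⟨⟨s, s.2, hsG, ?_, hsinv⟩, hcomm⟩
  intro t ht hto
  obtain ⟨htinv, -⟩ := hinv t ht hto
  by_contra hne
  have hst : (s : G) * t ≠ 1 := by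
    intro h1
    apply hne
    have hss : (s : G) * s = 1 := by
      rw [← pow_two, ← hsG]
      exact pow_orderOf_eq_one (s : G)
    have : t = (s : G)⁻¹ := (inv_eq_of_mul_eq_one_right h1).symm
    rw [this]
    exact inv_eq_of_mul_eq_one_left hss
  have hbot := hfpf ((s : G) * t) (H.mul_mem s.2 ht) hst
  apply hK
  rw [eq_bot_iff, ← hbot]
  intro k hk
  rw [Subgroup.mem_inf]
  refine ⟨hk, ?_⟩
  rw [Subgroup.mem_centralizer_iff]
  intro z hz
  rw [Set.mem_singleton_iff] at hz
  rw [hz]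
  have h1 : t * k * t⁻¹ = k⁻¹ := htinv k hk
  have h2 : (s : G) * k⁻¹ * (s : G)⁻¹ = k⁻¹⁻¹ := hsinv k⁻¹ (K.inv_mem hk)
  rw [inv_inv] at h2
  calc (s : G) * t * k = (s : G) * (t * k * t⁻¹) * (s : G)⁻¹ * ((s : G) * t) := by group
    _ = k * ((s : G) * t) := by rw [h1, h2]

end Cfsg.Agent.S0068
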