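import Cfsg.Statements.S0070
import Mathlib
import Cfsg.Agent.Lib.H1.FrattiniArg
import Cfsg.Agent.Lib.H1.Fitting

set_option autoImplicit false
open Cfsg

namespace Cfsg.Agent.S0070

/-- The Fitting subgroup commutes with passing to the Frattini quotient: the Fitting subgroup of G modulo its Frattini subgroup is the image of the Fitting subgroup of G. -/
theorem result {G : Type*} [Group G] [Finite G] :
    Cfsg.fittingSubgroup (G ⧸ frattini G) = (Cfsg.fittingSubgroup G).map (QuotientGroup.mk' (frattini G)) := by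
  set Φ := frattini G with hΦ
  set π := QuotientGroup.mk' Φ with hπ
  apply le_antisymm
  · rw [Lib.H1.fittingSubgroup_eq_iSup_pCore]
    apply iSup_le
    intro p
    have hpF : Fact (p : ℕ).Prime := ⟨p.2⟩
    set O := Cfsg.pCore (p : ℕ) (G ⧸ Φ) with hO
    have hOn : O.Normal := Lib.H1.pCore_normal _ _
    set Np := O.comap π with hNp
    have hNpn : Np.Normal := Subgroup.Normal.comap hOn _
    obtain ⟨P, hP⟩ := Lib.H1.exists_isSylowOf (p : ℕ) Np
    have hΦNp : Φ ≤ Np := Lib.H1.le_comap_mk' Φ O
    have h1 : (P ⊔ Φ).relIndex Np ∣ P.relIndex Np :=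
      Subgroup.relIndex_dvd_of_le_left Np le_sup_left
    have h2 : (P ⊔ Φ).relIndex Np ∣ Φ.relIndex Np :=
      Subgroup.relIndex_dvd_of_le_left Np le_sup_right
    have h3 : Φ.relIndex Np = Nat.card O := by
      have hk : Φ.relIndex Np = π.ker.relIndex Np := by rw [hπ, QuotientGroup.ker_mk']
      rw [hk, Subgroup.relIndex_ker, hNp, Lib.H1.map_comap_mk']
    obtain ⟨a, ha⟩ := IsPGroup.iff_card.mp (Lib.H1.pCore_isPGroup (p : ℕ) (G ⧸ Φ))
    have h4 : (P ⊔ Φ).relIndex Np = 1 := by
      have hd : (P ⊔ Φ).relIndex Np ∣ (p : ℕ) ^ a := by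
        rw [← ha, ← h3]
        exact h2
      obtain ⟨j, -, hj⟩ := (Nat.dvd_prime_pow p.2).mp hd
      cases j with
      | zero => simpa using hj
      | succ j =>
        exfalso
        apply hP.not_dvd_relIndex
        apply dvd_trans _ h1
        rw [hj, pow_succ]
        exact dvd_mul_left _ _
    have hNple : Np ≤ P ⊔ Φ := Subgroup.relIndex_eq_one.mp h4
    have hfr := hP.normalizer_sup_eq_top
    have hnorm : Subgroup.normalizer (P : Set G) = ⊤ := by
      apply frattini_nongenerating
      rw [eq_top_iff, ← hfr]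
      apply sup_le le_sup_left
      exact hNple.trans (sup_le (Subgroup.le_normalizer.trans le_sup_left) le_sup_right)
    have hPn : P.Normal := Subgroup.normalizer_eq_top_iff.mp hnorm
    have hPF : P ≤ Cfsg.fittingSubgroup G :=
      Lib.H1.le_fittingSubgroup hPn hP.isPGroup.isNilpotent
    have hΦmap : Φ.map π = ⊥ := by
      rw [Subgroup.map_eq_bot_iff, hπ, QuotientGroup.ker_mk']
    calc O = Np.map π := (Lib.H1.map_comap_mk' Φ O).symm
      _ ≤ (P ⊔ Φ).map π := Subgroup.map_mono hNple
      _ = P.map π := by rw [Subgroup.map_sup, hΦmap, sup_bot_eq]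
      _ ≤ (Cfsg.fittingSubgroup G).map π := Subgroup.map_mono hPF
  · apply Lib.H1.le_fittingSubgroup
    · exact Subgroup.Normal.map (Lib.H1.fittingSubgroup_normal G) π
        (QuotientGroup.mk'_surjective Φ)
    · have := Lib.H1.fittingSubgroup_isNilpotent (G := G)
      exact Group.nilpotent_of_surjective (π.subgroupMap (Cfsg.fittingSubgroup G))
        (π.subgroupMap_surjective _)

end Cfsg.Agent.S0070
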