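import Cfsg.Statements.S0072
import Cfsg.Agent.Lib.L0.FrobeniusPC
-- import your own Cfsg.Agent.* helpers here

set_option autoImplicit false
open Cfsg

namespace Cfsg.Agent.S0072

/-- A finite group has a normal p-complement if and only if every p-local subgroup (normalizer of a nontrivial p-subgroup) has one. -/
theorem result {G : Type*} [Group G] [Finite G] (p : ℕ) [Fact p.Prime] : Cfsg.HasNormalPComplement p G ↔ ∀ Q : Subgroup G, IsPGroup p Q → Q ≠ ⊥ → Cfsg.HasNormalPComplement p (Subgroup.normalizer (Q : Set G)) := by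
  constructor
  · intro h Q _ _
    exact Cfsg.Agent.Lib.L0.HasNormalPComplement.subgroup h _
  · intro h
    apply Cfsg.Agent.Lib.L0.hasNormalPComplement_of_frobHyp
    intro Q hQ g hg hgp
    by_cases hQ1 : Q = ⊥
    · rw [hQ1, Subgroup.mem_centralizer_iff]
      intro q hq
      have : q = 1 := by
        have : q ∈ (⊥ : Subgroup G) := hq
        rwa [Subgroup.mem_bot] at this
      rw [this, one_mul, mul_one]
    · have hnpc := h Q hQ hQ1
      set L := Subgroup.normalizer (Q : Set G) with hL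
      obtain ⟨M, hM, hpM, k, hk⟩ :=
        Cfsg.Agent.Lib.L0.HasNormalPComplement.exists_normal hnpc
      have hgM : (⟨g, hg⟩ : L) ∈ M := by
        apply Cfsg.Agent.Lib.L0.mem_of_coprime_orderOf_of_index_pow M k hk
        rw [← Subgroup.orderOf_coe]
        exact hgp
      rw [Subgroup.mem_centralizer_iff]
      intro q hq
      have hqL : q ∈ L := Subgroup.le_normalizer hq
      -- the commutator lies in M ∩ Q
      have hmemM : (⟨g, hg⟩ : L) * ⟨q, hqL⟩ * (⟨g, hg⟩ : L)⁻¹ * (⟨q, hqL⟩ : L)⁻¹ ∈ M := by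
        have : (⟨g, hg⟩ : L) * ⟨q, hqL⟩ * (⟨g, hg⟩ : L)⁻¹ * (⟨q, hqL⟩ : L)⁻¹
            = (⟨g, hg⟩ : L) * (⟨q, hqL⟩ * (⟨g, hg⟩ : L)⁻¹ * (⟨q, hqL⟩ : L)⁻¹) := by group
        rw [this]
        exact M.mul_mem hgM (hM.conj_mem _ (M.inv_mem hgM) _)
      have hmemQ : g * q * g⁻¹ * q⁻¹ ∈ Q := by
        apply Q.mul_mem _ (Q.inv_mem hq)
        exact (Subgroup.mem_normalizer_iff.mp hg q).mp hq
      -- its order is both a p-power and prime to p
      have hone : g * q * g⁻¹ * q⁻¹ = 1 := by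
        set c : L := (⟨g, hg⟩ : L) * ⟨q, hqL⟩ * (⟨g, hg⟩ : L)⁻¹ * (⟨q, hqL⟩ : L)⁻¹ with hc
        have hcval : (c : G) = g * q * g⁻¹ * q⁻¹ := by simp [hc]
        have h1 : orderOf c ∣ Nat.card M := by
          have := orderOf_dvd_natCard (⟨c, hmemM⟩ : M)
          rwa [Subgroup.orderOf_mk] at this
        obtain ⟨j, hj⟩ := (IsPGroup.iff_orderOf.mp hQ) ⟨g * q * g⁻¹ * q⁻¹, hmemQ⟩
        rw [Subgroup.orderOf_mk, ← hcval, Subgroup.orderOf_coe] at hj
        have hcop : Nat.Coprime (Nat.card M) p :=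
          ((Nat.Prime.coprime_iff_not_dvd Fact.out).mpr hpM).symm
        have h2 : orderOf c ∣ Nat.gcd (Nat.card M) (p ^ j) :=
          Nat.dvd_gcd h1 (hj ▸ dvd_rfl)
        rw [(Nat.Coprime.pow_right j hcop).gcd_eq_one, Nat.dvd_one, orderOf_eq_one_iff] at h2
        rw [← hcval, h2]; rfl
      have : g * q = (g * q * g⁻¹ * q⁻¹) * (q * g) := by group
      rw [this, hone, one_mul]

end Cfsg.Agent.S0072
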