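import Cfsg.Statements.S0073
import Cfsg.Agent.Lib.L0.TransferPC
-- import your own Cfsg.Agent.* helpers here

set_option autoImplicit false
open Cfsg

namespace Cfsg.Agent.S0073

/-- For a finite non-abelian simple group, either the cube of the least prime divisor of the order divides the order, or 12 does. -/
theorem result {G : Type*} [Group G] [Finite G] [IsSimpleGroup G] (hG : ∃ x y : G, x * y ≠ y * x) : (Nat.card G).minFac ^ 3 ∣ Nat.card G ∨ 12 ∣ Nat.card G := by
  classical
  have sq1 : ∀ q : ℕ, 1 ≤ q → q ^ 2 - 1 = (q - 1) * (q + 1) := by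
    intro q hq
    apply Nat.sub_eq_of_eq_add
    obtain ⟨m, rfl⟩ : ∃ m, q = m + 1 := ⟨q - 1, by omega⟩
    simp; ring
  have sq2 : ∀ q : ℕ, 1 ≤ q → q ^ 2 - q = q * (q - 1) := by
    intro q hq
    apply Nat.sub_eq_of_eq_add
    obtain ⟨m, rfl⟩ : ∃ m, q = m + 1 := ⟨q - 1, by omega⟩
    simp; ring
  have hcard1 : Nat.card G ≠ 1 := by
    intro h
    obtain ⟨x, y, hxy⟩ := hG
    have := (Nat.card_eq_one_iff_unique.mp h).1
    exact hxy (Subsingleton.elim _ _)
  set p := (Nat.card G).minFac with hp
  have hpp : p.Prime := Nat.minFac_prime hcard1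
  haveI : Fact p.Prime := ⟨hpp⟩
  have hpG : p ∣ Nat.card G := Nat.minFac_dvd _
  have hleast : ∀ r : ℕ, r.Prime → r ∣ Nat.card G → p ≤ r := fun r hr hrG => Nat.minFac_le_of_dvd hr.two_le hrG
  by_contra hcon
  push Not at hcon
  obtain ⟨hp3, h12⟩ := hcon
  obtain ⟨T⟩ : Nonempty (Sylow p G) := inferInstance
  -- no normal p-complement
  have hnoPC : ¬ Cfsg.HasNormalPComplement p G := by
    intro hPC
    obtain ⟨N, hN, hpN, k, hk⟩ := Cfsg.Agent.Lib.L0.HasNormalPComplement.exists_normal hPC
    rcases hN.eq_bot_or_eq_top with h | h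
    · -- G is a p-group, hence has nontrivial centre, hence abelian
      have hGp : IsPGroup p G := by
        apply IsPGroup.of_card (n := k)
        rw [← hk, h, Subgroup.index_bot]
      haveI : Nontrivial G := by
        obtain ⟨x, y, hxy⟩ := hG
        exact ⟨⟨x * y, y * x, hxy⟩⟩
      have hZ := hGp.center_nontrivial
      have hZtop : Subgroup.center G = ⊤ := by
        rcases (inferInstance : (Subgroup.center G).Normal).eq_bot_or_eq_top with h' | h'
        · exfalso
          rw [h'] at hZ
          exact not_nontrivial _ hZ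
        · exact h'
      obtain ⟨x, y, hxy⟩ := hG
      have hx : x ∈ Subgroup.center G := hZtop ▸ Subgroup.mem_top x
      rw [Subgroup.mem_center_iff] at hx
      exact hxy (hx y).symm
    · apply hpN
      rw [h, Subgroup.card_top]
      exact hpG
  -- the Sylow subgroup has order p or p^2
  obtain ⟨k, hk⟩ := T.2.exists_card_eq
  have hk3 : k < 3 := by
    by_contra hge
    push Not at hge
    apply hp3
    calc p ^ 3 ∣ p ^ k := pow_dvd_pow p hge
      _ ∣ Nat.card G := hk ▸ Subgroup.card_subgroup_dvd_card _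
  have hk0 : k ≠ 0 := by
    intro h0
    rw [h0, pow_zero] at hk
    have := T.card_eq_multiplicity
    rw [hk] at this
    have hpos : 0 < (Nat.card G).factorization p :=
      hpp.factorization_pos_of_dvd Nat.card_pos.ne' hpG
    have : 1 < p ^ (Nat.card G).factorization p := Nat.one_lt_pow hpos.ne' hpp.one_lt
    omega
  have hTcomm : ∀ a ∈ T, ∀ b ∈ T, a * b = b * a := by
    have hk12 : k = 1 ∨ k = 2 := by omega
    rcases hk12 with rfl | rfl
    · rw [pow_one] at hk
      haveI := isCyclic_of_prime_card hk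
      intro a ha b hb
      have := IsCyclic.commGroup.mul_comm (⟨a, ha⟩ : (T : Subgroup G)) ⟨b, hb⟩
      exact congrArg Subtype.val this
    · intro a ha b hb
      have := IsPGroup.commutative_of_card_eq_prime_sq hk (⟨a, ha⟩ : (T : Subgroup G)) ⟨b, hb⟩
      exact congrArg Subtype.val this
  have hNC : ¬ Subgroup.normalizer ((T : Subgroup G) : Set G) ≤ Subgroup.centralizer (T : Set G) :=
    fun h => hnoPC (Cfsg.Agent.Lib.L0.hasNormalPComplement_of_normalizer_le_centralizer T h)
  obtain ⟨r, hr, hrp, hrG, F, hF, hmod⟩ :=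
    Cfsg.Agent.Lib.L0.exists_prime_of_normalizer_not_le_centralizer T hTcomm hNC
  have hpr : p < r := lt_of_le_of_ne (hleast r hr hrG) (Ne.symm hrp)
  have hFdvd : Nat.card F ∣ p ^ k := hk ▸ Subgroup.card_subgroup_dvd_card F
  have hFne : Nat.card F ≠ p ^ k := by
    intro h
    apply hF
    rw [← Subgroup.card_eq_iff_eq_top, h, hk]
  obtain ⟨j, hjk, hj⟩ := (Nat.dvd_prime_pow hpp).mp hFdvd
  have hjlt : j < k := lt_of_le_of_ne hjk (fun h => hFne (by rw [hj, h]))
  rw [hk, hj] at hmod
  have hle : p ^ j ≤ p ^ k := Nat.pow_le_pow_right hpp.pos hjk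
  have hd : r ∣ p ^ k - p ^ j := (Nat.modEq_iff_dvd' hle).mp hmod.symm
  have hp2 := hpp.two_le
  -- enumerate (k, j)
  have hcases : (k = 1 ∧ j = 0) ∨ (k = 2 ∧ j = 0) ∨ (k = 2 ∧ j = 1) := by omega
  rcases hcases with ⟨rfl, rfl⟩ | ⟨rfl, rfl⟩ | ⟨rfl, rfl⟩
  · -- r ∣ p - 1
    rw [pow_one, pow_zero] at hd
    have := Nat.le_of_dvd (by omega) hd
    omega
  · -- r ∣ p^2 - 1 = (p-1)(p+1)
    rw [pow_zero] at hd
    have hfac : p ^ 2 - 1 = (p - 1) * (p + 1) := sq1 p (by omega)
    rw [hfac] at hd
    rcases (Nat.Prime.dvd_mul hr).mp hd with h | h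
    · have := Nat.le_of_dvd (by omega) h
      omega
    · have hle2 := Nat.le_of_dvd (by omega) h
      have hreq : r = p + 1 := by omega
      -- p and p+1 both prime: p = 2
      have hp2' : p = 2 := by
        rcases hpp.eq_two_or_odd with h2 | hodd
        · exact h2
        · exfalso
          have : r % 2 = 0 := by omega
          have hr2 : r = 2 := by
            rcases hr.eq_two_or_odd with h2 | h2
            · exact h2
            · omega
          omega
      have hr3 : r = 3 := by omega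
      apply h12
      have h4 : 4 ∣ Nat.card G := by
        have : p ^ 2 ∣ Nat.card G := hk ▸ Subgroup.card_subgroup_dvd_card _
        rwa [hp2'] at this
      have h3 : 3 ∣ Nat.card G := hr3 ▸ hrG
      exact Nat.Coprime.mul_dvd_of_dvd_of_dvd (by norm_num : Nat.Coprime 4 3) h4 h3
  · -- r ∣ p^2 - p = p (p - 1)
    rw [pow_one] at hd
    have hfac : p ^ 2 - p = p * (p - 1) := sq2 p (by omega)
    rw [hfac] at hd
    rcases (Nat.Prime.dvd_mul hr).mp hd with h | h
    · have := Nat.le_of_dvd hpp.pos h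
      omega
    · have := Nat.le_of_dvd (by omega) h
      omega

end Cfsg.Agent.S0073
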