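import Cfsg.Statements.S0074
import Cfsg.Agent.Lib.L0.TransferBasic
-- import your own Cfsg.Agent.* helpers here

set_option autoImplicit false
open Cfsg

namespace Cfsg.Agent.S0074

/-- For an abelian Sylow p-subgroup P, the intersection of P with the derived subgroup of G equals its intersection with the derived subgroup of the normalizer of P. -/
theorem result {G : Type*} [Group G] [Finite G] {p : ℕ} [Fact p.Prime] (P : Sylow p G) (hP : IsMulCommutative P) : commutator G ⊓ (P : Subgroup G) = ⁅Subgroup.normalizer (P : Set G), Subgroup.normalizer (P : Set G)⁆ ⊓ (P : Subgroup G) := by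
  have hP' : ∀ a ∈ P, ∀ b ∈ P, a * b = b * a := by
    intro a ha b hb
    have := mul_comm' (⟨a, ha⟩ : P) ⟨b, hb⟩
    exact congrArg Subtype.val this
  rw [Cfsg.Agent.Lib.L0.commutator_inf_sylow_of_comm P hP']
  apply le_antisymm
  · apply le_inf
    · exact Subgroup.commutator_mono Subgroup.le_normalizer le_rfl
    · rw [← Cfsg.Agent.Lib.L0.commutator_inf_sylow_of_comm P hP']
      exact inf_le_right
  · rw [← Cfsg.Agent.Lib.L0.commutator_inf_sylow_of_comm P hP']
    apply inf_le_inf_right
    exact Subgroup.commutator_mono le_top le_top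

end Cfsg.Agent.S0074
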