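import Cfsg.Statements.S0075
import Cfsg.Agent.Lib.L0.TransferBasic
-- import your own Cfsg.Agent.* helpers here

set_option autoImplicit false
open Cfsg

namespace Cfsg.Agent.S0075

/-- For an abelian Sylow p-subgroup T, its intersection with the subgroup generated by the elements of order prime to p is the commutator of T with its normalizer. -/
theorem result {G : Type*} [Group G] [Finite G] {p : ℕ} [Fact p.Prime] (T : Sylow p G) (hT : IsMulCommutative T) : (T : Subgroup G) ⊓ Cfsg.pResidual p G = ⁅(T : Subgroup G), Subgroup.normalizer (T : Set G)⁆ := by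
  have hT' : ∀ a ∈ T, ∀ b ∈ T, a * b = b * a := by
    intro a ha b hb
    have := mul_comm' (⟨a, ha⟩ : T) ⟨b, hb⟩
    exact congrArg Subtype.val this
  rw [Cfsg.Agent.Lib.L0.sylow_inf_pResidual_of_comm T hT',
    Cfsg.Agent.Lib.L0.commutator_inf_sylow_of_comm T hT']
  rfl

end Cfsg.Agent.S0075
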