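import Cfsg.Statements.S0078
import Cfsg.Agent.Lib.L0.TateGeneral
import Cfsg.Agent.S0077
-- import your own Cfsg.Agent.* helpers here

set_option autoImplicit false
open Cfsg

namespace Cfsg.Agent.S0078

open scoped Pointwise

/-- In a p-normal group, a Sylow p-subgroup P meets O^p(G) exactly where it meets O^p(V), for any subgroup V containing the normalizer of the centre of P. -/
theorem result {G : Type*} [Group G] [Finite G] {p : ℕ} [Fact p.Prime] (P : Sylow p G) (hn : ∀ Q : Sylow p G, (P : Subgroup G) ⊓ Subgroup.centralizer (P : Set G) ≤ (Q : Subgroup G) → (Q : Subgroup G) ⊓ Subgroup.centralizer (Q : Set G) = (P : Subgroup G) ⊓ Subgroup.centralizer (P : Set G)) (V : Subgroup G) (hV : Subgroup.normalizer (((P : Subgroup G) ⊓ Subgroup.centralizer (P : Set G) : Subgroup G) : Set G) ≤ V) : (P : Subgroup G) ⊓ Cfsg.pResidual p G = (P : Subgroup G) ⊓ (Cfsg.pResidual p V).map V.subtype := by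
  classical
  obtain ⟨Z, hZdef⟩ : ∃ Z : Subgroup G, Z = (P : Subgroup G) ⊓ Subgroup.centralizer (P : Set G) :=
    ⟨_, rfl⟩
  rw [← hZdef] at hV
  have hZmem : ∀ z : G, z ∈ Z ↔ z ∈ (P : Subgroup G) ∧ ∀ x ∈ (P : Subgroup G), x * z = z * x := by
    intro z
    rw [hZdef, Subgroup.mem_inf, Subgroup.mem_centralizer_iff]
    rfl
  have hZ : Z ≤ Subgroup.centralizer (P : Set G) := hZdef ▸ inf_le_right
  have hZP : Z ≤ (P : Subgroup G) := hZdef ▸ inf_le_left
  -- weak closure
  have hW : Cfsg.IsWeaklyClosed Z (P : Subgroup G) := by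
    refine ⟨hZP, ?_⟩
    intro g hg
    have hgmem : ∀ z ∈ Z, g * z * g⁻¹ ∈ (P : Subgroup G) := by
      intro z hz
      apply hg
      exact ⟨z, hz, by simp [MulAut.conj_apply]⟩
    have hQmem : ∀ y : G, y ∈ ((g⁻¹ • P : Sylow p G) : Subgroup G) ↔ g * y * g⁻¹ ∈ (P : Subgroup G) := by
      intro y
      rw [Sylow.coe_subgroup_smul, Subgroup.mem_pointwise_smul_iff_inv_smul_mem]
      simp [MulAut.smul_def, MulAut.conj_apply]
    have hZQ : Z ≤ ((g⁻¹ • P : Sylow p G) : Subgroup G) := by
      intro z hz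
      rw [hQmem]; exact hgmem z hz
    have hQ := hn (g⁻¹ • P) (hZdef ▸ hZQ)
    rw [← hZdef] at hQ
    have hkey : ∀ y : G, y ∈ Z ↔ g * y * g⁻¹ ∈ Z := by
      intro y
      have e1 : y ∈ Z ↔ (y ∈ ((g⁻¹ • P : Sylow p G) : Subgroup G) ∧
          ∀ h ∈ ((g⁻¹ • P : Sylow p G) : Subgroup G), h * y = y * h) := by
        rw [← hQ, Subgroup.mem_inf, Subgroup.mem_centralizer_iff]; rfl
      rw [e1, hZmem]
      constructor
      · rintro ⟨h1, h2⟩
        refine ⟨(hQmem y).mp h1, ?_⟩
        intro x hx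
        have hq : g⁻¹ * x * g ∈ ((g⁻¹ • P : Sylow p G) : Subgroup G) := by
          rw [hQmem]
          have : g * (g⁻¹ * x * g) * g⁻¹ = x := by group
          rw [this]; exact hx
        have := h2 _ hq
        calc x * (g * y * g⁻¹) = g * ((g⁻¹ * x * g) * y) * g⁻¹ := by group
          _ = g * (y * (g⁻¹ * x * g)) * g⁻¹ := by rw [this]
          _ = g * y * g⁻¹ * x := by group
      · rintro ⟨h1, h2⟩
        refine ⟨(hQmem y).mpr h1, ?_⟩
        intro q hq
        have hq' : g * q * g⁻¹ ∈ (P : Subgroup G) := (hQmem q).mp hq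
        have := h2 _ hq'
        calc q * y = g⁻¹ * ((g * q * g⁻¹) * (g * y * g⁻¹)) * g := by group
          _ = g⁻¹ * ((g * y * g⁻¹) * (g * q * g⁻¹)) * g := by rw [this]
          _ = y * q := by group
    ext w
    constructor
    · rintro ⟨z, hz, rfl⟩
      have := (hkey z).mp hz
      simpa [MulAut.conj_apply] using this
    · intro hw
      refine ⟨g⁻¹ * w * g, ?_, by simp [MulAut.conj_apply, mul_assoc]⟩
      rw [SetLike.mem_coe, hkey]
      have : g * (g⁻¹ * w * g) * g⁻¹ = w := by group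
      rw [this]; exact hw
  have h77 := Cfsg.Agent.S0077.result P Z hZ hW
  have hPN : (P : Subgroup G) ≤ Subgroup.normalizer (Z : Set G) := by
    intro x hx
    rw [Subgroup.mem_normalizer_iff]
    intro h
    constructor
    · intro hh
      have hc := ((hZmem h).mp hh).2 x hx
      have : x * h * x⁻¹ = h := by rw [hc]; group
      rw [this]; exact hh
    · intro hh
      have hc := ((hZmem _).mp hh).2 x⁻¹ (Subgroup.inv_mem _ hx)
      have : h = x * h * x⁻¹ := by
        calc h = x⁻¹ * (x * h * x⁻¹) * x := by group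
          _ = (x * h * x⁻¹) * x⁻¹ * x := by rw [hc]
          _ = x * h * x⁻¹ := by group
      rw [this]; exact hh
  have hPV : (P : Subgroup G) ≤ V := hPN.trans hV
  have hfocal : commutator G ⊓ (P : Subgroup G) ≤ ⁅V, V⁆ := by
    rw [h77]
    exact inf_le_left.trans (Subgroup.commutator_mono hV hV)
  have hT := Cfsg.Agent.Lib.L0.tate_general P V hPV hfocal
  apply le_antisymm
  · exact le_inf inf_le_left ((inf_comm _ _).le.trans hT)
  · exact le_inf inf_le_left (inf_le_right.trans (Cfsg.Agent.Lib.H6.map_pResidual_le p V))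

end Cfsg.Agent.S0078
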