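import Cfsg.Statements.S0080
import Cfsg.Agent.Lib.L0.TransferPC
-- import your own Cfsg.Agent.* helpers here

set_option autoImplicit false
open Cfsg

namespace Cfsg.Agent.S0080

open scoped commutatorElement IsMulCommutative

/-- When the index of H is prime to the order of H/H', the focal subgroup of H is G' ∩ H, and H/(G' ∩ H) has a normal complement. -/
theorem result {G : Type*} [Group G] [Finite G] (H : Subgroup G) (h : Nat.Coprime H.index (⁅H, H⁆.relIndex H)) : Subgroup.focalSubgroup H = commutator G ⊓ H ∧ ∃ N : Subgroup G, N.Normal ∧ N ⊓ H = commutator G ⊓ H ∧ N ⊔ H = ⊤ := by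
  classical
  -- the quotient H / H* has order coprime to the index
  have hsub : (⁅H, H⁆ : Subgroup G).subgroupOf H = commutator H := by
    rw [← Subgroup.map_subtype_commutator, Subgroup.subgroupOf,
      Subgroup.comap_map_eq_self_of_injective H.subtype_injective]
  have hcardQ : Nat.Coprime (Nat.card (H ⧸ H.focalSubgroupOf)) H.index := by
    have h1 : Nat.card (H ⧸ H.focalSubgroupOf) = H.focalSubgroupOf.index :=
      (Subgroup.index_eq_card _).symm
    have h2 : H.focalSubgroupOf.index ∣ (commutator H).index :=
      Subgroup.index_dvd_of_le H.commutator_le_focalSubgroupOf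
    have h3 : (commutator H).index = (⁅H, H⁆ : Subgroup G).relIndex H := by
      rw [Subgroup.relIndex, hsub]
    rw [h1]
    exact (Nat.Coprime.coprime_dvd_left (h3 ▸ h2) h.symm)
  let e : (H ⧸ H.focalSubgroupOf) ≃ (H ⧸ H.focalSubgroupOf) := powCoprime hcardQ
  have he : ∀ y, e y = y ^ H.index := fun y => rfl
  have hker : H.transferFocal.ker ⊓ H = H.focalSubgroup := by
    ext x
    constructor
    · rintro ⟨hx1, hx2⟩
      have h1 : H.transferFocal x = 1 := hx1
      have h2 := H.transferFocal_eq_pow ⟨x, hx2⟩
      rw [show ((⟨x, hx2⟩ : H) : G) = x from rfl] at h2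
      rw [h1] at h2
      have h3 : e ((⟨x, hx2⟩ : H) : H ⧸ H.focalSubgroupOf) = e 1 := by
        rw [he, he, one_pow, ← h2]
      have h4 := e.injective h3
      rw [QuotientGroup.eq_one_iff, Subgroup.focalSubgroupOf_def, Subgroup.mem_subgroupOf] at h4
      exact h4
    · intro hx
      have hx2 : x ∈ H := H.focalSubgroup_le hx
      refine ⟨?_, hx2⟩
      show H.transferFocal x = 1
      have h2 := H.transferFocal_eq_pow ⟨x, hx2⟩
      rw [show ((⟨x, hx2⟩ : H) : G) = x from rfl] at h2
      rw [h2]
      have : ((⟨x, hx2⟩ : H) : H ⧸ H.focalSubgroupOf) = 1 := by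
        rw [QuotientGroup.eq_one_iff, Subgroup.focalSubgroupOf_def, Subgroup.mem_subgroupOf]
        exact hx
      rw [this, one_pow]
  have hfocal : Subgroup.focalSubgroup H = commutator G ⊓ H := by
    apply le_antisymm
    · exact le_inf H.focalSubgroup_le_commutator H.focalSubgroup_le
    · rw [← hker]
      exact inf_le_inf_right _ (Abelianization.commutator_subset_ker H.transferFocal)
  refine ⟨hfocal, H.transferFocal.ker, inferInstance, ?_, ?_⟩
  · rw [hker, hfocal]
  · rw [eq_top_iff]
    intro g _
    obtain ⟨y, hy⟩ := e.surjective (H.transferFocal g)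
    obtain ⟨hh, rfl⟩ := QuotientGroup.mk_surjective y
    rw [he, ← H.transferFocal_eq_pow hh] at hy
    have hmem : g * (hh : G)⁻¹ ∈ H.transferFocal.ker := by
      rw [MonoidHom.mem_ker, map_mul, map_inv, hy, mul_inv_cancel]
    have : g = (g * (hh : G)⁻¹) * (hh : G) := by group
    rw [this]
    exact Subgroup.mul_mem_sup hmem hh.2

end Cfsg.Agent.S0080
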