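import Cfsg.Statements.S0082
import Cfsg.Agent.Lib.L0.TransferPC
-- import your own Cfsg.Agent.* helpers here

set_option autoImplicit false
open Cfsg

namespace Cfsg.Agent.S0082

open scoped commutatorElement

/-- With a cyclic Sylow p-subgroup, either there is a normal p-complement or the elements of order prime to p generate the whole group. -/
theorem result {G : Type*} [Group G] [Finite G] {p : ℕ} [Fact p.Prime] (P : Sylow p G) (hP : IsCyclic P) : Cfsg.HasNormalPComplement p G ∨ Cfsg.pResidual p G = ⊤ := by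
  obtain ⟨x0, hx0⟩ := hP.exists_generator
  have hx : Subgroup.zpowers (x0 : G) = (P : Subgroup G) := by
    ext y
    constructor
    · intro hy
      obtain ⟨k, rfl⟩ := Subgroup.mem_zpowers_iff.1 hy
      exact (P : Subgroup G).zpow_mem x0.2 k
    · intro hy
      obtain ⟨k, hk⟩ := Subgroup.mem_zpowers_iff.1 (hx0 ⟨y, hy⟩)
      rw [Subgroup.mem_zpowers_iff]
      exact ⟨k, by have := congrArg Subtype.val hk; simpa using this⟩
  have hcomm : ∀ a ∈ P, ∀ b ∈ P, a * b = b * a := by
    intro a ha b hb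
    have ha' : a ∈ Subgroup.zpowers (x0 : G) := by rw [hx]; exact ha
    have hb' : b ∈ Subgroup.zpowers (x0 : G) := by rw [hx]; exact hb
    obtain ⟨i, rfl⟩ := Subgroup.mem_zpowers_iff.1 ha'
    obtain ⟨j, rfl⟩ := Subgroup.mem_zpowers_iff.1 hb'
    rw [← zpow_add, ← zpow_add, add_comm]
  by_cases hall : ∀ g ∈ Subgroup.normalizer ((P : Subgroup G) : Set G), ∀ s : ℤ,
      g * (x0 : G) * g⁻¹ = (x0 : G) ^ s → (p : ℤ) ∣ s - 1
  · left
    apply Cfsg.Agent.Lib.L0.hasNormalPComplement_of_normalizer_le_centralizer P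
    intro g hg
    have hmem : g * (x0 : G) * g⁻¹ ∈ Subgroup.zpowers (x0 : G) := by
      rw [hx]
      exact (Subgroup.mem_normalizer_iff.mp hg _).mp x0.2
    obtain ⟨s, hs⟩ := Subgroup.mem_zpowers_iff.1 hmem
    exact Cfsg.Agent.Lib.H22.mem_centralizer_of_conj_zpow P hx hg hs.symm (hall g hg s hs.symm)
  · right
    push Not at hall
    obtain ⟨g, hg, s, hs, hps⟩ := hall
    obtain ⟨n, hn⟩ := P.2.exists_card_eq
    have hord : orderOf (x0 : G) = p ^ n := by
      rw [← Nat.card_zpowers, hx]; exact hn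
    have hcommem : (x0 : G) ^ (1 - s) ∈ Cfsg.pResidual p G := by
      apply Cfsg.Agent.Lib.L0.commutator_le_pResidual_of_comm P hcomm
      have : (x0 : G) ^ (1 - s) = ⁅(x0 : G), g⁆ := by
        rw [commutatorElement_def]
        have h2 : (x0 : G) * g * (x0 : G)⁻¹ * g⁻¹ = (x0 : G) * (g * (x0 : G) * g⁻¹)⁻¹ := by group
        rw [h2, hs, ← zpow_neg, zpow_sub, zpow_one, zpow_neg]
      rw [this]
      exact Subgroup.commutator_mem_commutator (Subgroup.mem_top _) (Subgroup.mem_top _)
    have hnd : ¬ (p : ℤ) ∣ 1 - s := by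
      intro h
      apply hps
      have : s - 1 = -(1 - s) := by ring
      rw [this]
      exact (dvd_neg).mpr h
    have hxR : (x0 : G) ∈ Cfsg.pResidual p G :=
      Cfsg.Agent.Lib.H22.mem_of_zpow_mem_of_not_dvd hord hnd hcommem
    have hPR : (P : Subgroup G) ≤ Cfsg.pResidual p G := by
      rw [← hx, Subgroup.zpowers_le]
      exact hxR
    have := Cfsg.Agent.Lib.H14.pResidual_sup_sylow (H := G) P
    rwa [sup_eq_left.mpr hPR] at this

end Cfsg.Agent.S0082
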