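import Cfsg.Statements.S0083
import Cfsg.Agent.Lib.L0.TransferPC
-- import your own Cfsg.Agent.* helpers here

set_option autoImplicit false
open Cfsg

namespace Cfsg.Agent.S0083

/-- For an abelian Sylow p-subgroup P, a normal p-complement exists exactly when the normalizer of P is an internal direct product of P with some subgroup. -/
theorem result {G : Type*} [Group G] [Finite G] {p : ℕ} [Fact p.Prime] (P : Sylow p G) (hP : IsMulCommutative P) : Cfsg.HasNormalPComplement p G ↔ ∃ Q : Subgroup G, Q ≤ Subgroup.centralizer (P : Set G) ∧ Q ⊓ (P : Subgroup G) = ⊥ ∧ Q ⊔ (P : Subgroup G) = Subgroup.normalizer (P : Set G) := by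
  have hP' : ∀ a ∈ P, ∀ b ∈ P, a * b = b * a := by
    intro a ha b hb
    have := mul_comm' (⟨a, ha⟩ : P) ⟨b, hb⟩
    exact congrArg Subtype.val this
  constructor
  · intro h
    obtain ⟨K, hK, hc⟩ := Cfsg.Agent.Lib.L0.HasNormalPComplement.forall_sylow h P
    have hdisj : K ⊓ (P : Subgroup G) = ⊥ := hc.disjoint.eq_bot
    have htop : K ⊔ (P : Subgroup G) = ⊤ := hc.sup_eq_top
    refine ⟨K ⊓ Subgroup.normalizer ((P : Subgroup G) : Set G), ?_, ?_, ?_⟩
    · intro q hq
      rw [Subgroup.mem_centralizer_iff]
      intro x hx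
      have hxP : x ∈ (P : Subgroup G) := hx
      have hmem : q * x * q⁻¹ * x⁻¹ ∈ K ⊓ (P : Subgroup G) := by
        constructor
        · have : q * x * q⁻¹ * x⁻¹ = q * (x * q⁻¹ * x⁻¹) := by group
          rw [this]
          exact K.mul_mem hq.1 (hK.conj_mem _ (K.inv_mem hq.1) x)
        · apply (P : Subgroup G).mul_mem _ ((P : Subgroup G).inv_mem hxP)
          exact (Subgroup.mem_normalizer_iff.mp hq.2 x).mp hxP
      rw [hdisj, Subgroup.mem_bot] at hmem
      have : q * x = x * q := by
        have h2 : q * x = (q * x * q⁻¹ * x⁻¹) * (x * q) := by group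
        rw [h2, hmem, one_mul]
      exact this.symm
    · rw [inf_right_comm]
      rw [hdisj]
      exact bot_inf_eq _
    · apply le_antisymm
      · exact sup_le inf_le_right Subgroup.le_normalizer
      · intro n hn
        have hn' : n ∈ K ⊔ (P : Subgroup G) := htop ▸ Subgroup.mem_top n
        rw [← SetLike.mem_coe, Subgroup.normal_mul] at hn'
        obtain ⟨k, hk, x, hx, rfl⟩ := Set.mem_mul.mp hn'
        apply Subgroup.mul_mem_sup _ hx
        refine ⟨hk, ?_⟩
        have : k = k * x * x⁻¹ := by group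
        rw [this]
        exact Subgroup.mul_mem _ hn (Subgroup.inv_mem _ (Subgroup.le_normalizer hx))
  · rintro ⟨Q, hQC, -, hQP⟩
    apply Cfsg.Agent.Lib.L0.hasNormalPComplement_of_normalizer_le_centralizer P
    have hQP' : Q ⊔ (P : Subgroup G) = Subgroup.normalizer ((P : Subgroup G) : Set G) := hQP
    rw [← hQP']
    apply sup_le hQC
    intro a ha
    rw [Subgroup.mem_centralizer_iff]
    intro b hb
    exact hP' b hb a ha

end Cfsg.Agent.S0083
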