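import Cfsg.Statements.S0084
import Cfsg.Agent.Lib.L0.TransferPC
-- import your own Cfsg.Agent.* helpers here

set_option autoImplicit false
open Cfsg

namespace Cfsg.Agent.S0084

/-- A group whose Sylow 2-subgroups are Klein four-groups and whose order is prime to 3 has a normal 2-complement. -/
theorem result {G : Type*} [Group G] [Finite G] (T : Sylow 2 G) (hT : IsKleinFour T) (h3 : ¬ 3 ∣ Nat.card G) : Cfsg.HasNormalPComplement 2 G := by
  have hcard : Nat.card (T : Subgroup G) = 4 := hT.card_four
  have hexp : ∀ a : (T : Subgroup G), a * a = 1 := by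
    intro a
    have := Monoid.pow_exponent_eq_one a
    rw [hT.exponent_two, pow_two] at this
    exact this
  have hT' : ∀ a ∈ T, ∀ b ∈ T, a * b = b * a := by
    intro a ha b hb
    have h1 := hexp (⟨a, ha⟩ * ⟨b, hb⟩)
    have h2 := hexp ⟨a, ha⟩
    have h3 := hexp ⟨b, hb⟩
    have h1' : (a * b) * (a * b) = 1 := congrArg Subtype.val h1
    have h2' : a * a = 1 := congrArg Subtype.val h2
    have h3' : b * b = 1 := congrArg Subtype.val h3
    calc a * b = a * ((a * b) * (a * b)) * b := by rw [h1', mul_one]
      _ = (a * a) * b * a * (b * b) := by group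
      _ = b * a := by rw [h2', h3', one_mul, mul_one]
  by_cases hNC : Subgroup.normalizer ((T : Subgroup G) : Set G) ≤ Subgroup.centralizer (T : Set G)
  · exact Cfsg.Agent.Lib.L0.hasNormalPComplement_of_normalizer_le_centralizer T hNC
  · exfalso
    obtain ⟨r, hr, hr2, hrG, F, hF, hmod⟩ :=
      Cfsg.Agent.Lib.L0.exists_prime_of_normalizer_not_le_centralizer T hT' hNC
    have hdvd : Nat.card F ∣ 4 := hcard ▸ Subgroup.card_subgroup_dvd_card F
    have hne : Nat.card F ≠ 4 := by
      intro h
      apply hF
      rw [← Subgroup.card_eq_iff_eq_top, h, hcard]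
    rw [hcard] at hmod
    have hle : Nat.card F ≤ 4 := Nat.le_of_dvd (by norm_num) hdvd
    have hd := (Nat.modEq_iff_dvd' hle).mp hmod.symm
    have hpos : 0 < Nat.card F := Nat.card_pos
    generalize Nat.card F = f at *
    interval_cases f
    · -- f = 1: r ∣ 3
      have : r = 3 := (Nat.prime_dvd_prime_iff_eq hr Nat.prime_three).mp hd
      exact h3 (this ▸ hrG)
    · -- f = 2: r ∣ 2
      have : r = 2 := (Nat.prime_dvd_prime_iff_eq hr Nat.prime_two).mp hd
      exact hr2 this
    · norm_num at hdvd
    · exact hne rfl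

end Cfsg.Agent.S0084
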