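import Cfsg.Statements.S0085
import Cfsg.Agent.Lib.L0.TransferPC
-- import your own Cfsg.Agent.* helpers here

set_option autoImplicit false
open Cfsg

namespace Cfsg.Agent.S0085

/-- A group whose Sylow 2-subgroups are elementary abelian of order 8 and whose order is prime to 3 and to 7 has a normal 2-complement. -/
theorem result {G : Type*} [Group G] [Finite G] (T : Sylow 2 G) (h8 : Nat.card T = 8) (he : ∀ x : T, x * x = 1) (h3 : ¬ 3 ∣ Nat.card G) (h7 : ¬ 7 ∣ Nat.card G) : Cfsg.HasNormalPComplement 2 G := by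
  have hcard : Nat.card (T : Subgroup G) = 8 := h8
  have hT' : ∀ a ∈ T, ∀ b ∈ T, a * b = b * a := by
    intro a ha b hb
    have h1 := he (⟨a, ha⟩ * ⟨b, hb⟩)
    have h2 := he ⟨a, ha⟩
    have h3 := he ⟨b, hb⟩
    have h1' : (a * b) * (a * b) = 1 := congrArg Subtype.val h1
    have h2' : a * a = 1 := congrArg Subtype.val h2
    have h3' : b * b = 1 := congrArg Subtype.val h3
    calc a * b = a * ((a * b) * (a * b)) * b := by rw [h1', mul_one]
      _ = (a * a) * b * a * (b * b) := by group
      _ = b * a := by rw [h2', h3', one_mul, mul_one]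
  by_cases hNC : Subgroup.normalizer ((T : Subgroup G) : Set G) ≤ Subgroup.centralizer (T : Set G)
  · exact Cfsg.Agent.Lib.L0.hasNormalPComplement_of_normalizer_le_centralizer T hNC
  · exfalso
    obtain ⟨r, hr, hr2, hrG, F, hF, hmod⟩ :=
      Cfsg.Agent.Lib.L0.exists_prime_of_normalizer_not_le_centralizer T hT' hNC
    have hdvd : Nat.card F ∣ 8 := hcard ▸ Subgroup.card_subgroup_dvd_card F
    have hne : Nat.card F ≠ 8 := by
      intro h
      apply hF
      rw [← Subgroup.card_eq_iff_eq_top, h, hcard]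
    rw [hcard] at hmod
    have hle : Nat.card F ≤ 8 := Nat.le_of_dvd (by norm_num) hdvd
    have hd := (Nat.modEq_iff_dvd' hle).mp hmod.symm
    have hpos : 0 < Nat.card F := Nat.card_pos
    have h2not : ¬ r ∣ 2 := fun h => hr2 ((Nat.prime_dvd_prime_iff_eq hr Nat.prime_two).mp h)
    have h3not : ¬ r ∣ 3 := fun h =>
      h3 (((Nat.prime_dvd_prime_iff_eq hr Nat.prime_three).mp h) ▸ hrG)
    generalize Nat.card F = f at *
    interval_cases f
    · -- f = 1: r ∣ 7
      have : r = 7 := (Nat.prime_dvd_prime_iff_eq hr (by norm_num)).mp hd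
      exact h7 (this ▸ hrG)
    · -- f = 2: r ∣ 6
      have h6 : r ∣ 2 * 3 := hd
      rcases (Nat.Prime.dvd_mul hr).mp h6 with h | h
      · exact h2not h
      · exact h3not h
    · norm_num at hdvd
    · -- f = 4: r ∣ 4
      have h4 : r ∣ 2 * 2 := hd
      rcases (Nat.Prime.dvd_mul hr).mp h4 with h | h
      · exact h2not h
      · exact h2not h
    · norm_num at hdvd
    · norm_num at hdvd
    · norm_num at hdvd
    · exact hne rfl

end Cfsg.Agent.S0085
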