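import Cfsg.Statements.S0086
import Mathlib

set_option autoImplicit false
open Cfsg

namespace Cfsg.Agent.S0086

/-- A normal complement to a Sylow p-subgroup is exactly the set of elements of order prime to p. -/
theorem result {G : Type*} [Group G] [Finite G] {p : ℕ} [Fact p.Prime] (P : Sylow p G) (N : Subgroup G) [N.Normal] (hN : N.IsComplement' (P : Subgroup G)) (x : G) : x ∈ N ↔ Nat.Coprime (orderOf x) p := by
  have hcard : Nat.card N * Nat.card P = Nat.card G := hN.card_mul_card
  have hidx : Nat.card N = (P : Subgroup G).index := by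
    have h2 := (P : Subgroup G).card_mul_index
    rw [mul_comm] at h2
    rw [← h2] at hcard
    exact Nat.eq_of_mul_eq_mul_right Nat.card_pos hcard
  have hcop : (Nat.card N).Coprime p := by
    rw [hidx]
    have := P.not_dvd_index
    exact ((Nat.Prime.coprime_iff_not_dvd (Fact.out)).mpr this).symm
  constructor
  · intro hx
    have h1 : orderOf x ∣ Nat.card N := by
      have := orderOf_dvd_natCard (⟨x, hx⟩ : N)
      rwa [Subgroup.orderOf_mk] at this
    exact Nat.Coprime.coprime_dvd_left h1 hcop
  · intro hx
    rw [← QuotientGroup.eq_one_iff]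
    have hq : Nat.card (G ⧸ N) = Nat.card P := by
      have h3 := Subgroup.card_eq_card_quotient_mul_card_subgroup N
      rw [← hcard, mul_comm (Nat.card N)] at h3
      exact (Nat.eq_of_mul_eq_mul_right Nat.card_pos h3).symm
    obtain ⟨k, hk⟩ := IsPGroup.iff_card.mp P.isPGroup'
    have h1 : (x : G ⧸ N) ^ orderOf x = 1 := by
      rw [← QuotientGroup.mk_pow, pow_orderOf_eq_one]; rfl
    have h2 : (x : G ⧸ N) ^ (p ^ k) = 1 := by
      rw [← hk, ← hq]; exact pow_card_eq_one'
    have h3 := pow_gcd_eq_one.mpr ⟨h1, h2⟩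
    have h4 : (orderOf x).gcd (p ^ k) = 1 := Nat.Coprime.pow_right k hx
    rw [h4, pow_one] at h3
    exact h3

end Cfsg.Agent.S0086
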