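import Cfsg.Statements.S0090
import Cfsg.Agent.Lib.L0.TransferHall
import Cfsg.Agent.Lib.H1.CoprimeAction
-- import your own Cfsg.Agent.* helpers here

set_option autoImplicit false
open Cfsg

namespace Cfsg.Agent.S0090

/-- An abelian normal Hall subgroup A splits as the internal direct product of G' ∩ A and Z(G) ∩ A, and [A, G] = G' ∩ A. -/
theorem result {G : Type*} [Group G] [Finite G] (A : Subgroup G) [A.Normal] (hc : IsMulCommutative A) (hHall : Nat.Coprime (Nat.card A) A.index) : ⁅A, (⊤ : Subgroup G)⁆ = commutator G ⊓ A ∧ (commutator G ⊓ A) ⊓ (Subgroup.center G ⊓ A) = ⊥ ∧ (commutator G ⊓ A) ⊔ (Subgroup.center G ⊓ A) = A := by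
  have hA' : ∀ a ∈ A, ∀ b ∈ A, a * b = b * a := by
    intro a ha b hb
    have := mul_comm' (⟨a, ha⟩ : A) ⟨b, hb⟩
    exact congrArg Subtype.val this
  obtain ⟨Q, hQ⟩ := Subgroup.exists_left_complement'_of_coprime hHall
  have htop : Q ⊔ A = ⊤ := hQ.sup_eq_top
  have hcardQ : Nat.card Q = A.index := hQ.index_eq_card.symm
  have hsolv : Group.IsSolvable A := by
    exact isSolvable_of_comm (fun a b => mul_comm' a b)
  have hca : Cfsg.Agent.Lib.H1.CoprimeAction Q A :=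
    { normalizes := by
        rw [Subgroup.normalizer_eq_top]
        exact le_top
      coprime := by rw [hcardQ]; exact hHall.symm
      solvable := Or.inr hsolv }
  have hdec := Cfsg.Agent.Lib.H1.coprime_commutator_sup_centralizer hca
  have hcent : A ⊓ Subgroup.centralizer (Q : Set G) ≤ Subgroup.center G ⊓ A := by
    intro a ha
    obtain ⟨haA, haQ⟩ := Subgroup.mem_inf.mp ha
    refine Subgroup.mem_inf.mpr ⟨?_, haA⟩
    rw [Subgroup.mem_center_iff]
    intro g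
    have hg : g ∈ Q ⊔ A := htop ▸ Subgroup.mem_top g
    rw [← SetLike.mem_coe, Subgroup.mul_normal] at hg
    obtain ⟨q, hq, a', ha', rfl⟩ := Set.mem_mul.mp hg
    rw [Subgroup.mem_centralizer_iff] at haQ
    have h1 : q * a = a * q := haQ q hq
    calc q * a' * a = q * (a' * a) := by group
      _ = q * (a * a') := by rw [hA' a' ha' a haA]
      _ = (q * a) * a' := by group
      _ = a * q * a' := by rw [h1]
      _ = a * (q * a') := by group
  have hcomm1 : ⁅A, Q⁆ ≤ ⁅A, (⊤ : Subgroup G)⁆ := Subgroup.commutator_mono le_rfl le_top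
  have hcomm2 : ⁅A, (⊤ : Subgroup G)⁆ ≤ commutator G ⊓ A :=
    le_inf (Subgroup.commutator_mono le_top le_rfl) (Subgroup.commutator_le_left A ⊤)
  have hbot : A ⊓ commutator G ⊓ Subgroup.center G = ⊥ :=
    Cfsg.Agent.Lib.L0.hall_inf_commutator_inf_center A hc hHall
  have hnorm : (⁅A, Q⁆ : Subgroup G) ≤ A := hca.commutator_le
  have hcommute : ∀ u ∈ ⁅A, Q⁆, ∀ v ∈ A ⊓ Subgroup.centralizer (Q : Set G), u * v = v * u :=
    fun u hu v hv => hA' u (hnorm hu) v (Subgroup.mem_inf.mp hv).1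
  have hsplit : ∀ y ∈ ⁅A, Q⁆ ⊔ (A ⊓ Subgroup.centralizer (Q : Set G)),
      ∃ c ∈ ⁅A, Q⁆, ∃ z ∈ A ⊓ Subgroup.centralizer (Q : Set G), c * z = y := by
    intro y hy
    rw [Subgroup.sup_eq_closure] at hy
    induction hy using Subgroup.closure_induction with
    | mem y hy =>
      rcases hy with hy | hy
      · exact ⟨y, hy, 1, Subgroup.one_mem _, mul_one y⟩
      · exact ⟨1, Subgroup.one_mem _, y, hy, one_mul y⟩
    | one => exact ⟨1, Subgroup.one_mem _, 1, Subgroup.one_mem _, mul_one 1⟩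
    | mul y y' _ _ ihy ihy' =>
      obtain ⟨c1, hc1, z1, hz1, rfl⟩ := ihy
      obtain ⟨c2, hc2, z2, hz2, rfl⟩ := ihy'
      refine ⟨c1 * c2, Subgroup.mul_mem _ hc1 hc2, z1 * z2, Subgroup.mul_mem _ hz1 hz2, ?_⟩
      calc c1 * c2 * (z1 * z2) = c1 * (c2 * z1) * z2 := by group
        _ = c1 * (z1 * c2) * z2 := by rw [hcommute c2 hc2 z1 hz1]
        _ = c1 * z1 * (c2 * z2) := by group
    | inv y _ ihy =>
      obtain ⟨c1, hc1, z1, hz1, rfl⟩ := ihy
      refine ⟨c1⁻¹, Subgroup.inv_mem _ hc1, z1⁻¹, Subgroup.inv_mem _ hz1, ?_⟩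
      rw [mul_inv_rev, hcommute c1⁻¹ (Subgroup.inv_mem _ hc1) z1⁻¹ (Subgroup.inv_mem _ hz1)]
  refine ⟨?_, ?_, ?_⟩
  · apply le_antisymm hcomm2
    intro x hx0
    obtain ⟨hxC, hxA⟩ := Subgroup.mem_inf.mp hx0
    have hx : x ∈ ⁅A, Q⁆ ⊔ (A ⊓ Subgroup.centralizer (Q : Set G)) := by rw [hdec]; exact hxA
    obtain ⟨c, hc', z, hz, rfl⟩ := hsplit x hx
    have hcC : c ∈ commutator G := (Subgroup.mem_inf.mp (hcomm2 (hcomm1 hc'))).1
    have hzC : z ∈ commutator G := by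
      have : z = c⁻¹ * (c * z) := by group
      rw [this]
      exact Subgroup.mul_mem _ (Subgroup.inv_mem _ hcC) hxC
    have hz1 : z ∈ A ⊓ commutator G ⊓ Subgroup.center G :=
      Subgroup.mem_inf.mpr ⟨Subgroup.mem_inf.mpr ⟨(Subgroup.mem_inf.mp hz).1, hzC⟩, (Subgroup.mem_inf.mp (hcent hz)).1⟩
    rw [hbot, Subgroup.mem_bot] at hz1
    rw [hz1, mul_one]
    exact hcomm1 hc'
  · rw [eq_bot_iff, ← hbot]
    intro x hx
    obtain ⟨h1, h2⟩ := Subgroup.mem_inf.mp hx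
    obtain ⟨hxC, hxA⟩ := Subgroup.mem_inf.mp h1
    obtain ⟨hxZ, _⟩ := Subgroup.mem_inf.mp h2
    exact Subgroup.mem_inf.mpr ⟨Subgroup.mem_inf.mpr ⟨hxA, hxC⟩, hxZ⟩
  · apply le_antisymm
    · exact sup_le inf_le_right inf_le_right
    · conv_lhs => rw [← hdec]
      exact sup_le_sup (hcomm1.trans hcomm2) hcent

end Cfsg.Agent.S0090
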