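import Cfsg.Statements.S0091
import Mathlib

set_option autoImplicit false
open Cfsg
open scoped commutatorElement

namespace Cfsg.Agent.S0091

/-- A nontrivial `p`-subgroup is not contained in its own commutator subgroup. -/
theorem not_le_commutator_self {G : Type*} [Group G] [Finite G] {p : ℕ} [Fact p.Prime]
    (P : Subgroup G) (hP : IsPGroup p P) (hne : P ≠ ⊥) : ¬ P ≤ ⁅P, P⁆ := by
  intro hle
  haveI : Nontrivial P := (Subgroup.nontrivial_iff_ne_bot P).mpr hne
  haveI : Group.IsNilpotent P := hP.isNilpotent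
  have hlt : commutator P < ⊤ := Group.IsSolvable.commutator_lt_top_of_nontrivial P
  apply hlt.ne
  rw [eq_top_iff]
  intro x _
  have hx : (x : G) ∈ ⁅P, P⁆ := hle x.2
  rw [← Subgroup.map_subtype_commutator] at hx
  obtain ⟨y, hy, hyx⟩ := hx
  have : y = x := Subtype.ext hyx
  rw [← this]
  exact hy

/-- If a nontrivial Sylow p-subgroup controls its own fusion then it is not contained in the derived subgroup. -/
theorem result {G : Type*} [Group G] [Finite G] {p : ℕ} [Fact p.Prime] (P : Sylow p G) (hp : p ∣ Nat.card G) (h : ∀ x ∈ P, ∀ y ∈ P, (∃ g : G, g * x * g⁻¹ = y) → ∃ z ∈ P, z * x * z⁻¹ = y) : ¬ (P : Subgroup G) ≤ commutator G := by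
  intro hle
  have hne : (P : Subgroup G) ≠ ⊥ := P.ne_bot_of_dvd_card hp
  have hfoc : commutator G ⊓ (P : Subgroup G) = (P : Subgroup G).focalSubgroup :=
    Subgroup.commutator_inf_eq_focalSubgroup P
  have hPfoc : (P : Subgroup G) ≤ (P : Subgroup G).focalSubgroup := by
    rw [← hfoc]; exact le_inf hle le_rfl
  have hfocle : (P : Subgroup G).focalSubgroup ≤ ⁅(P : Subgroup G), (P : Subgroup G)⁆ := by
    rw [Subgroup.focalSubgroup_def, Subgroup.closure_le]
    rintro g ⟨hgP, x, hxP, u, rfl⟩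
    -- g = x * u * x⁻¹ * u⁻¹
    have hconjP : u * x⁻¹ * u⁻¹ ∈ (P : Subgroup G) := by
      have : u * x⁻¹ * u⁻¹ = x⁻¹ * ⁅x, u⁆ := by rw [commutatorElement_def]; group
      rw [this]
      exact (P : Subgroup G).mul_mem ((P : Subgroup G).inv_mem hxP) hgP
    obtain ⟨z, hzP, hz⟩ := h x⁻¹ ((P : Subgroup G).inv_mem hxP) _ hconjP ⟨u, rfl⟩
    have : ⁅x, u⁆ = ⁅x, z⁆ := by
      rw [commutatorElement_def, commutatorElement_def]
      calc x * u * x⁻¹ * u⁻¹ = x * (u * x⁻¹ * u⁻¹) := by group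
        _ = x * (z * x⁻¹ * z⁻¹) := by rw [hz]
        _ = x * z * x⁻¹ * z⁻¹ := by group
    rw [SetLike.mem_coe, this]
    exact Subgroup.commutator_mem_commutator hxP hzP
  exact not_le_commutator_self (P : Subgroup G) P.2 hne (hPfoc.trans hfocle)

end Cfsg.Agent.S0091
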