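import Cfsg.Statements.S0097
import Mathlib
import Cfsg.Agent.Lib.H16.ClassTwo
import Cfsg.Agent.S0094
import Cfsg.Agent.S0096

set_option autoImplicit false
open Cfsg

namespace Cfsg.Agent.S0097

open Cfsg.Agent.Lib.H16
open scoped commutatorElement

/-- A special group has class at most two. -/
theorem class_two_of_isSpecial {E : Type*} [Group E] {p : ℕ} (h : Cfsg.IsSpecial p E) :
    ⁅commutator E, (⊤ : Subgroup E)⁆ = ⊥ := by
  rw [eq_bot_iff, Subgroup.commutator_le]
  intro a ha b _
  rw [h.2.2] at ha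
  rw [Subgroup.mem_bot, commutatorElement_eq_one_iff_commute]
  exact (Subgroup.mem_center_iff.mp ha b).symm

/-- In a special `p`-group with `p` odd, `x ↦ x ^ p` is multiplicative. -/
theorem mul_pow_of_isSpecial {E : Type*} [Group E] [Finite E] {p : ℕ} [Fact p.Prime] (hp : p ≠ 2)
    (h : Cfsg.IsSpecial p E) (x y : E) : (x * y) ^ p = x ^ p * y ^ p := by
  have hodd : Odd p := (Fact.out : p.Prime).odd_of_ne_two hp
  have h2 := class_two_of_isSpecial h
  have hc : y * x = x * y * ⁅y⁻¹, x⁻¹⁆ := by rw [commutatorElement_def]; group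
  exact mul_pow_eq_of_central hc (Cfsg.Agent.S0096.commute_commutator_of_class_two h2 _ _ x)
    (Cfsg.Agent.S0096.commute_commutator_of_class_two h2 _ _ y) hodd
    (Cfsg.Agent.S0094.commutatorElement_pow_eq_one h _ _)

/-- The `p`-power homomorphism of a special `p`-group, `p` odd. -/
noncomputable def powHom {E : Type*} [Group E] [Finite E] {p : ℕ} [Fact p.Prime] (hp : p ≠ 2)
    (h : Cfsg.IsSpecial p E) : E →* E :=
  MonoidHom.mk' (fun x => x ^ p) (mul_pow_of_isSpecial hp h)

/-- For odd p and E extraspecial, the subgroup generated by the elements of order dividing p has exponent dividing p and index at most p. -/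
theorem result {E : Type*} [Group E] [Finite E] {p : ℕ} [Fact p.Prime] (hp : p ≠ 2) (h : Cfsg.IsExtraspecial p E) : (Subgroup.closure {x : E | x ^ p = 1}).index ≤ p ∧ ∀ g ∈ Subgroup.closure {x : E | x ^ p = 1}, g ^ p = 1 := by
  have hodd : Odd p := (Fact.out : p.Prime).odd_of_ne_two hp
  obtain ⟨hS, hcard⟩ := h
  refine ⟨?_, fun g hg =>
    Cfsg.Agent.S0096.pow_eq_one_of_mem_closure (class_two_of_isSpecial hS) hodd g hg⟩
  set φ := powHom hp hS with hφ
  have hker : φ.ker ≤ Subgroup.closure {x : E | x ^ p = 1} := by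
    intro x hx
    apply Subgroup.subset_closure
    exact hx
  have hrange : φ.range ≤ Subgroup.center E := by
    rintro _ ⟨x, rfl⟩
    rw [← hS.2.1]
    exact Cfsg.Agent.Lib.H1.isPGroup_pow_mem_frattini hS.1 x
  have h1 : (Subgroup.closure {x : E | x ^ p = 1}).index ∣ φ.ker.index :=
    Subgroup.index_dvd_of_le hker
  have h2 : φ.ker.index = Nat.card φ.range := Subgroup.index_ker φ
  have h3 : Nat.card φ.range ≤ Nat.card (Subgroup.center E) := Subgroup.card_le_of_le hrange
  have h4 : φ.ker.index ≠ 0 := Subgroup.index_ne_zero_of_finite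
  have h5 := Nat.le_of_dvd (Nat.pos_of_ne_zero h4) h1
  omega

end Cfsg.Agent.S0097
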