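import Cfsg.Statements.S0098
import Mathlib
import Cfsg.Agent.Lib.H1.ExtraGlue

set_option autoImplicit false
open Cfsg

namespace Cfsg.Agent.S0098

universe u v

open Cfsg.Agent.Lib.H1 in
open scoped commutatorElement in
/-- two members of the Heisenberg class of exponent `p` and equal order are isomorphic, by an
isomorphism carrying a prescribed central generator to a prescribed central generator -/
theorem heis_iso (p : ℕ) [hp : Fact p.Prime] :
    ∀ (n : ℕ) (E₁ : Type u) (E₂ : Type v) [Group E₁] [Group E₂] [Finite E₁] [Finite E₂],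
    IsHeis p E₁ → IsHeis p E₂ → (∀ g : E₁, g ^ p = 1) → (∀ g : E₂, g ^ p = 1) →
    Nat.card E₁ = n → Nat.card E₂ = n →
    ∀ z₁ : E₁, z₁ ∈ Subgroup.center E₁ → z₁ ≠ 1 → ∀ z₂ : E₂, z₂ ∈ Subgroup.center E₂ → z₂ ≠ 1 →
    ∃ φ : E₁ ≃* E₂, φ z₁ = z₂ := by
  intro n
  induction n using Nat.strong_induction_on with
  | _ n ih =>
  intro E₁ E₂ _ _ _ _ h₁ h₂ he₁ he₂ hc₁ hc₂ z₁ hz₁ hz₁1 z₂ hz₂ hz₂1
  by_cases hab : ∃ a b : E₁, a * b ≠ b * a
  · obtain ⟨a, b, hab⟩ := hab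
    -- `E₂` is nonabelian as well
    have hnp : n ≠ p := by
      intro hnp
      exact hab ((h₁.card_eq_iff_comm).mp (hc₁.trans hnp) a b)
    have hab₂ : ∃ a b : E₂, a * b ≠ b * a := by
      by_contra hcon
      push Not at hcon
      exact hnp (hc₂.symm.trans ((h₂.card_eq_iff_comm).mpr hcon))
    obtain ⟨a₂, b₂, hab₂⟩ := hab₂
    obtain ⟨x₁, rfl⟩ := h₁.exists_pair hab hz₁
    obtain ⟨x₂, rfl⟩ := h₂.exists_pair hab₂ hz₂
    have d₁ := h₁.glueData hz₁1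
    have d₂ := h₂.glueData hz₂1
    have hQ₁ := h₁.pairCentralizer_isHeis hz₁1
    have hQ₂ := h₂.pairCentralizer_isHeis hz₂1
    have hcard₁ := h₁.card_pairCentralizer hz₁1
    have hcard₂ := h₂.card_pairCentralizer hz₂1
    rw [hc₁] at hcard₁
    rw [hc₂] at hcard₂
    have hpp : 0 < p * p := Nat.mul_pos hp.out.pos hp.out.pos
    have hcardeq : Nat.card (pairCentralizer x₂ b₂) = Nat.card (pairCentralizer x₁ b) := by
      apply Nat.eq_of_mul_eq_mul_right hpp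
      rw [hcard₁, hcard₂]
    have hlt : Nat.card (pairCentralizer x₁ b) < n := by
      have h1 : 0 < Nat.card (pairCentralizer x₁ b) := Nat.card_pos
      have h2 : 2 ≤ p := hp.out.two_le
      have h3 : 4 ≤ p * p := by nlinarith
      nlinarith
    have hzQ₁ : ⁅x₁, b⁆ ∈ pairCentralizer x₁ b := center_le_pairCentralizer _ _ hz₁
    have hzQ₂ : ⁅x₂, b₂⁆ ∈ pairCentralizer x₂ b₂ := center_le_pairCentralizer _ _ hz₂
    obtain ⟨β, hβ⟩ := ih _ hlt (pairCentralizer x₁ b) (pairCentralizer x₂ b₂) hQ₁ hQ₂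
      (fun g => Subtype.ext (by simpa using he₁ (g : E₁)))
      (fun g => Subtype.ext (by simpa using he₂ (g : E₂))) rfl hcardeq
      ⟨⁅x₁, b⁆, hzQ₁⟩ (by
        rw [h₁.center_pairCentralizer hz₁1, Subgroup.mem_subgroupOf]; exact hz₁)
      (fun h => hz₁1 (congrArg Subtype.val h))
      ⟨⁅x₂, b₂⁆, hzQ₂⟩ (by
        rw [h₂.center_pairCentralizer hz₂1, Subgroup.mem_subgroupOf]; exact hz₂)
      (fun h => hz₂1 (congrArg Subtype.val h))
    have hone : ∀ (w : E₁) (hw : w ∈ pairCentralizer x₁ b), w = 1 →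
        ((β ⟨w, hw⟩ : pairCentralizer x₂ b₂) : E₂) = 1 := by
      intro w hw hw1
      subst hw1
      have : (⟨1, hw⟩ : pairCentralizer x₁ b) = 1 := rfl
      rw [this, map_one]; rfl
    obtain ⟨γ, -, -, hγ⟩ := glue_exists d₁ d₂ β
      (fun h => by rw [hβ])
      (fun h => by rw [hone _ h (he₁ x₁), he₂ x₂])
      (fun h => by rw [hone _ h (he₁ b), he₂ b₂])
    refine ⟨γ, ?_⟩
    have := hγ ⟨⁅x₁, b⁆, hzQ₁⟩
    rw [hβ] at this
    exact this
  · push Not at hab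
    have hn : n = p := hc₁.symm.trans ((h₁.card_eq_iff_comm).mpr hab)
    have hg₁ : ∀ x : E₁, x ∈ Subgroup.zpowers z₁ :=
      fun x => mem_zpowers_of_prime_card (hc₁.trans hn) hz₁1
    have hg₂ : ∀ x : E₂, x ∈ Subgroup.zpowers z₂ :=
      fun x => mem_zpowers_of_prime_card (hc₂.trans hn) hz₂1
    have ho : orderOf z₁ = orderOf z₂ := by
      rw [orderOf_eq_prime (he₁ z₁) hz₁1, orderOf_eq_prime (he₂ z₂) hz₂1]
    exact ⟨mulEquivOfOrderOfEq hg₁ hg₂ ho, mulEquivOfOrderOfEq_apply_gen hg₁ hg₂ ho⟩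


theorem exists_central_ne_one {E : Type*} [Group E] {p : ℕ} (hpr : p.Prime)
    (hc : Nat.card (Subgroup.center E) = p) : ∃ z : E, z ∈ Subgroup.center E ∧ z ≠ 1 := by
  haveI : Finite (Subgroup.center E) :=
    Nat.finite_of_card_ne_zero (by rw [hc]; exact hpr.pos.ne')
  haveI : Nontrivial (Subgroup.center E) :=
    Finite.one_lt_card_iff_nontrivial.mp (by rw [hc]; exact hpr.one_lt)
  obtain ⟨z, hz⟩ := exists_ne (1 : Subgroup.center E)
  exact ⟨z, z.2, fun h => hz (Subtype.ext h)⟩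

/-- For odd p, extraspecial p-groups of exponent p are determined up to isomorphism by their order. -/
theorem result {E₁ : Type*} {E₂ : Type*} [Group E₁] [Group E₂] [Finite E₁] [Finite E₂] {p : ℕ} [Fact p.Prime] (hp : p ≠ 2) (h₁ : Cfsg.IsExtraspecial p E₁) (h₂ : Cfsg.IsExtraspecial p E₂) (he₁ : Monoid.exponent E₁ = p) (he₂ : Monoid.exponent E₂ = p) (hc : Nat.card E₁ = Nat.card E₂) : Nonempty (E₁ ≃* E₂) := by
  have hpr : p.Prime := Fact.out
  have hH₁ := Lib.H1.IsHeis.of_isExtraspecial h₁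
  have hH₂ := Lib.H1.IsHeis.of_isExtraspecial h₂
  have hex₁ : ∀ g : E₁, g ^ p = 1 := fun g => by rw [← he₁]; exact Monoid.pow_exponent_eq_one g
  have hex₂ : ∀ g : E₂, g ^ p = 1 := fun g => by rw [← he₂]; exact Monoid.pow_exponent_eq_one g
  obtain ⟨z₁, hz₁, hz₁1⟩ := exists_central_ne_one hpr hH₁.card_center
  obtain ⟨z₂, hz₂, hz₂1⟩ := exists_central_ne_one hpr hH₂.card_center
  obtain ⟨φ, -⟩ := heis_iso p (Nat.card E₁) E₁ E₂ hH₁ hH₂ hex₁ hex₂ rfl hc.symm z₁ hz₁ hz₁1 z₂ hz₂ hz₂1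
  exact ⟨φ⟩

end Cfsg.Agent.S0098
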