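import Cfsg.Statements.S0100
import Cfsg.Agent.S0126
import Cfsg.Agent.Lib.H22.Alperin

set_option autoImplicit false
open Cfsg

namespace Cfsg.Agent.S0100

open Cfsg.Agent.Lib.H22

/-- The commutator map `g ↦ g a g⁻¹ a⁻¹` when all these commutators are central. -/
noncomputable def commMap {P : Type*} [Group P] (a : P)
    (hc : ∀ g h : P, h * (g * a * g⁻¹ * a⁻¹) = (g * a * g⁻¹ * a⁻¹) * h) : P →* P :=
  MonoidHom.mk' (fun g => g * a * g⁻¹ * a⁻¹) (by
    intro g h
    calc g * h * a * (g * h)⁻¹ * a⁻¹ = g * (h * a * h⁻¹ * a⁻¹) * a * g⁻¹ * a⁻¹ := by group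
      _ = (h * a * h⁻¹ * a⁻¹) * g * a * g⁻¹ * a⁻¹ := by rw [hc h g]
      _ = (h * a * h⁻¹ * a⁻¹) * (g * a * g⁻¹ * a⁻¹) := by group
      _ = (g * a * g⁻¹ * a⁻¹) * (h * a * h⁻¹ * a⁻¹) := (hc h _).symm)

theorem commMap_apply {P : Type*} [Group P] (a : P)
    (hc : ∀ g h : P, h * (g * a * g⁻¹ * a⁻¹) = (g * a * g⁻¹ * a⁻¹) * h) (g : P) :
    commMap a hc g = g * a * g⁻¹ * a⁻¹ := rfl

theorem mem_ker_commMap {P : Type*} [Group P] (a : P)
    (hc : ∀ g h : P, h * (g * a * g⁻¹ * a⁻¹) = (g * a * g⁻¹ * a⁻¹) * h) (g : P) :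
    g ∈ (commMap a hc).ker ↔ g * a = a * g := by
  rw [MonoidHom.mem_ker, commMap_apply]
  constructor
  · intro h
    calc g * a = (g * a * g⁻¹ * a⁻¹) * a * g := by group
      _ = a * g := by rw [h, one_mul]
  · intro h
    calc g * a * g⁻¹ * a⁻¹ = (g * a) * g⁻¹ * a⁻¹ := by group
      _ = 1 := by rw [h]; group

/-- For odd p, a p-group without normal elementary abelian subgroups of order p^3 has p-rank at most 2. -/
theorem result {P : Type*} [Group P] [Finite P] {p : ℕ} [Fact p.Prime] (hp : p ≠ 2) (hP : IsPGroup p P) (h : ∀ A : Subgroup P, A.Normal → IsMulCommutative A → (∀ a ∈ A, a ^ p = 1) → Nat.card A ≠ p ^ 3) (E : Subgroup P) (hE : IsMulCommutative E) (hEe : ∀ e ∈ E, e ^ p = 1) : Nat.card E ≤ p ^ 2 := by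
  have hp' : Fact p.Prime := inferInstance
  have hEab : ∀ a ∈ E, ∀ b ∈ E, a * b = b * a := by
    intro a ha b hb
    have := hE.is_comm.comm (⟨a, ha⟩ : E) ⟨b, hb⟩
    exact congrArg Subtype.val this
  by_cases hcyc : IsCyclic P
  · have hamo := atMostOne_of_isCyclic p hp'.out.pos (G := P)
    have := hamo.card_le_of_forall_pow_eq_one E hEe
    calc Nat.card E ≤ p := this
      _ = p ^ 1 := (pow_one p).symm
      _ ≤ p ^ 2 := Nat.pow_le_pow_right hp'.out.pos (by norm_num)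
  -- noncyclic: a normal elementary abelian subgroup of order p²
  obtain ⟨B, hBn, ⟨hBc, hBe⟩, hBcard⟩ := Cfsg.Agent.S0126.result hp hP hcyc
  obtain ⟨A, hBA, hAmax⟩ := Finite.exists_le_maximal
    (p := fun A : Subgroup P => A.Normal ∧ IsMulCommutative A ∧ ∀ a ∈ A, a ^ p = 1) (a := B)
    ⟨hBn, hBc, hBe⟩
  obtain ⟨⟨hAn, hAc, hAe⟩, hAmax'⟩ := hAmax
  have hAab : ∀ a ∈ A, ∀ b ∈ A, a * b = b * a := by
    intro a ha b hb
    have := hAc.is_comm.comm (⟨a, ha⟩ : A) ⟨b, hb⟩
    exact congrArg Subtype.val this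
  -- |A| = p²
  have hAcard : Nat.card A = p ^ 2 := by
    obtain ⟨j, hj⟩ := (IsPGroup.iff_card).mp (hP.to_subgroup A)
    have h2 : 2 ≤ j := by
      have := Subgroup.card_le_of_le hBA
      rw [hBcard, hj] at this
      exact (Nat.pow_le_pow_iff_right hp'.out.one_lt).mp this
    have h3 : j < 3 := by
      by_contra hj3
      push Not at hj3
      have hle : p ^ 3 ≤ Nat.card A := by
        rw [hj]; exact Nat.pow_le_pow_right hp'.out.pos hj3
      obtain ⟨M, hMn, hMA, hMc⟩ := exists_normal_card_pow hP A 3 hle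
      refine h M hMn ?_ (fun a ha => hAe a (hMA ha)) hMc
      exact ⟨⟨fun a b => Subtype.ext (hAab a (hMA a.2) b (hMA b.2))⟩⟩
    have : j = 2 := by omega
    rw [hj, this]
  -- Alperin for A with n = 1
  have hn : p ^ 1 ≠ 2 := by rw [pow_one]; exact hp
  have halp : ∀ x : P, x ∈ Subgroup.centralizer (A : Set P) → x ^ p = 1 → x ∈ A := by
    intro x hx hxp
    apply mem_of_mem_centralizer_of_pow_eq_one hP 1 hn A hAab (by simpa using hAe) ?_ x hx
      (by simpa using hxp)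
    intro B' hB'n hB'ab hB'e hAB'
    apply le_antisymm _ hAB'
    apply hAmax' ⟨hB'n, ⟨⟨fun a b => Subtype.ext (hB'ab a a.2 b b.2)⟩⟩, by simpa using hB'e⟩ hAB'
  -- the chief series of A
  have hbot : (⊥ : Subgroup P) < A := by
    rw [bot_lt_iff_ne_bot]
    intro hA0
    rw [hA0, Subgroup.card_bot] at hAcard
    have : 1 < p ^ 2 := Nat.one_lt_pow (by norm_num) hp'.out.one_lt
    omega
  obtain ⟨M, hMn, -, hMA, hMcard, hMcen, -⟩ := exists_normal_step hP ⊥ A hbot
  rw [Subgroup.card_bot, mul_one] at hMcard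
  have hMcentral : ∀ m ∈ M, ∀ g : P, g * m = m * g := by
    intro m hm g
    have := hMcen m hm g
    rw [Subgroup.mem_bot] at this
    calc g * m = (m * g * m⁻¹ * g⁻¹)⁻¹ * m * g := by group
      _ = m * g := by rw [this]; group
  have hMlt : M < A := by
    refine lt_of_le_of_ne hMA ?_
    intro hMA'
    rw [hMA', hAcard] at hMcard
    have : p ^ 1 < p ^ 2 := Nat.pow_lt_pow_right hp'.out.one_lt (by norm_num)
    rw [pow_one] at this
    omega
  obtain ⟨M₂, hM₂n, hMM₂, hM₂A, hM₂card, hM₂cen, b, hbM₂, hbM, -, hM₂eq⟩ :=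
    exists_normal_step hP M A hMlt
  have hM₂A' : M₂ = A := by
    apply Subgroup.eq_of_le_of_card_ge hM₂A
    rw [hM₂card, hMcard, hAcard, sq]
  have hbA : b ∈ A := hM₂A hbM₂
  -- commutators with b are central
  have hc : ∀ g h : P, h * (g * b * g⁻¹ * b⁻¹) = (g * b * g⁻¹ * b⁻¹) * h := by
    intro g h'
    have h1 : b * g * b⁻¹ * g⁻¹ ∈ M := hM₂cen b hbM₂ g
    have h2 : g * b * g⁻¹ * b⁻¹ ∈ M := by
      have : g * b * g⁻¹ * b⁻¹ = (b * g * b⁻¹ * g⁻¹)⁻¹ := by group
      rw [this]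
      exact M.inv_mem h1
    exact hMcentral _ h2 h'
  set φ := commMap b hc with hφ
  have hrange : φ.range ≤ M := by
    rintro _ ⟨g, rfl⟩
    rw [hφ, commMap_apply]
    have h1 : b * g * b⁻¹ * g⁻¹ ∈ M := hM₂cen b hbM₂ g
    have : g * b * g⁻¹ * b⁻¹ = (b * g * b⁻¹ * g⁻¹)⁻¹ := by group
    rw [this]
    exact M.inv_mem h1
  have hidx : φ.ker.index ≤ p := by
    rw [Subgroup.index_ker, ← hMcard]
    exact Subgroup.card_le_of_le hrange
  -- D = E ⊓ ker φ ≤ A
  have hDA : E ⊓ φ.ker ≤ A := by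
    intro x hx
    obtain ⟨hxE, hxk⟩ := Subgroup.mem_inf.mp hx
    rw [hφ, mem_ker_commMap] at hxk
    apply halp x _ (hEe x hxE)
    rw [Subgroup.mem_centralizer_iff]
    have hle : A ≤ Subgroup.centralizer {x} := by
      rw [← hM₂A', hM₂eq, sup_le_iff, Subgroup.zpowers_le]
      constructor
      · intro m hm
        rw [Subgroup.mem_centralizer_iff]
        intro y hy
        rw [Set.mem_singleton_iff] at hy
        rw [hy]
        exact hMcentral m hm x
      · rw [Subgroup.mem_centralizer_iff]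
        intro y hy
        rw [Set.mem_singleton_iff] at hy
        rw [hy]
        exact hxk
    intro a ha
    have := hle ha
    rw [Subgroup.mem_centralizer_iff] at this
    exact (this x rfl).symm
  have hcardE : Nat.card E = Nat.card ↥(E ⊓ φ.ker) * (φ.ker.subgroupOf E).index := by
    have h1 := Subgroup.card_mul_index (φ.ker.subgroupOf E)
    rw [← Subgroup.inf_subgroupOf_right φ.ker E,
      Nat.card_congr (Subgroup.subgroupOfEquivOfLe (inf_le_right : φ.ker ⊓ E ≤ E)).toEquiv,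
      inf_comm] at h1
    rw [← h1, Subgroup.inf_subgroupOf_left]
  have hr : (φ.ker.subgroupOf E).index ≤ p := by
    have h1 : (φ.ker.subgroupOf E).index ∣ φ.ker.index := Subgroup.relIndex_dvd_index_of_normal φ.ker E
    have hpos : 0 < φ.ker.index := Nat.pos_of_ne_zero Subgroup.index_ne_zero_of_finite
    exact le_trans (Nat.le_of_dvd hpos h1) hidx
  have hD : Nat.card ↥(E ⊓ φ.ker) ≤ p ^ 2 := by
    rw [← hAcard]; exact Subgroup.card_le_of_le hDA
  by_contra hlt
  push Not at hlt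
  obtain ⟨e, he⟩ := (IsPGroup.iff_card).mp (hP.to_subgroup E)
  have he3 : 3 ≤ e := by
    rw [he] at hlt
    have := (Nat.pow_lt_pow_iff_right hp'.out.one_lt).mp hlt
    omega
  have hge : p ^ 3 ≤ Nat.card E := by
    rw [he]; exact Nat.pow_le_pow_right hp'.out.pos he3
  -- both bounds are attained
  have hDeq : Nat.card ↥(E ⊓ φ.ker) = p ^ 2 := by
    apply le_antisymm hD
    by_contra hlt2
    push Not at hlt2
    have : Nat.card E < p ^ 2 * p := by
      rw [hcardE]
      calc Nat.card ↥(E ⊓ φ.ker) * (φ.ker.subgroupOf E).index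
          ≤ Nat.card ↥(E ⊓ φ.ker) * p := Nat.mul_le_mul_left _ hr
        _ < p ^ 2 * p := Nat.mul_lt_mul_of_pos_right hlt2 hp'.out.pos
    have h3 : p ^ 2 * p = p ^ 3 := by ring
    omega
  have hDA' : E ⊓ φ.ker = A := by
    apply Subgroup.eq_of_le_of_card_ge hDA
    rw [hDeq, hAcard]
  have hbE : b ∈ E := by
    have : b ∈ E ⊓ φ.ker := hDA' ▸ hbA
    exact (Subgroup.mem_inf.mp this).1
  have hEker : E ≤ φ.ker := by
    intro x hx
    rw [hφ, mem_ker_commMap]
    exact hEab x hx b hbE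
  have : E ⊓ φ.ker = E := inf_eq_left.mpr hEker
  rw [this] at hDeq
  rw [hDeq] at hlt
  exact lt_irrefl _ hlt

end Cfsg.Agent.S0100
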