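import Mathlib
import Cfsg.Statements.S0102
import Cfsg.Agent.Lib.H5.CentralTransfer

set_option autoImplicit false
open Cfsg

namespace Cfsg.Agent.S0102

/-- A finite perfect group with cyclic Sylow p-subgroups has no perfect central extension whose kernel has order divisible by p. -/
theorem result {G : Type*} {H : Type*} [Group G] [Group H] [Finite G] [Finite H] (hG : commutator G = ⊤) {p : ℕ} [Fact p.Prime] (hcyc : ∀ P : Sylow p G, IsCyclic P) (σ : H →* G) (hσ : Function.Surjective σ) (hz : σ.ker ≤ Subgroup.center H) (hH : commutator H = ⊤) : ¬ p ∣ Nat.card σ.ker := by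
  intro hp
  obtain ⟨z', hz'⟩ := exists_prime_orderOf_dvd_card' (G := σ.ker) p hp
  have hzo : orderOf (z' : H) = p := by rw [Subgroup.orderOf_coe]; exact hz'
  have hpg : IsPGroup p (Subgroup.zpowers (z' : H)) := by
    apply IsPGroup.of_card (n := 1)
    rw [Nat.card_zpowers, hzo, pow_one]
  obtain ⟨P, hP⟩ := hpg.exists_le_sylow
  have hzP : (z' : H) ∈ (P : Subgroup H) := hP (Subgroup.mem_zpowers _)
  have h1 := Cfsg.Agent.Lib.H5.mem_commutator_sylow_of_central P (z' : H) (hz z'.2) hzP
    (by rw [hH]; exact Subgroup.mem_top _)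
  -- P is abelian
  have hcomm : ∀ a b : (P : Subgroup H), a * b = b * a := by
    have hc := hcyc (P.mapSurjective hσ)
    obtain ⟨g, hg⟩ := hc.exists_generator
    obtain ⟨x, hxP, hx⟩ : ∃ x ∈ (P : Subgroup H), σ x = (g : G) := by
      have h' : (g : G) ∈ ((P.mapSurjective hσ : Sylow p G) : Subgroup G) := g.2
      generalize (g : G) = g' at h'
      rw [Sylow.coe_mapSurjective] at h'
      exact h'
    have hform : ∀ a : (P : Subgroup H), ∃ k : ℤ, ∃ c ∈ Subgroup.center H, (a : H) = x ^ k * c := by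
      intro a
      have ha : σ a ∈ ((P.mapSurjective hσ : Sylow p G) : Subgroup G) := by
        rw [Sylow.coe_mapSurjective]
        exact ⟨a, a.2, rfl⟩
      obtain ⟨k, hk⟩ := Subgroup.mem_zpowers_iff.mp (hg ⟨σ a, ha⟩)
      have hk' : (g : G) ^ k = σ a := by
        have := congrArg Subtype.val hk
        rw [Subgroup.coe_zpow] at this
        exact this
      refine ⟨k, (x ^ k)⁻¹ * a, hz ?_, by group⟩
      rw [MonoidHom.mem_ker, map_mul, map_inv, map_zpow, hx, hk', inv_mul_cancel]
    intro a b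
    obtain ⟨k, c, hc, ha⟩ := hform a
    obtain ⟨l, d, hd, hb⟩ := hform b
    apply Subtype.ext
    rw [Subgroup.coe_mul, Subgroup.coe_mul, ha, hb]
    rw [Subgroup.mem_center_iff] at hc hd
    calc x ^ k * c * (x ^ l * d) = x ^ k * (c * x ^ l) * d := by group
      _ = x ^ k * (x ^ l * c) * d := by rw [hc (x ^ l)]
      _ = (x ^ k * x ^ l) * (c * d) := by group
      _ = (x ^ l * x ^ k) * (c * d) := by rw [← zpow_add, ← zpow_add, add_comm]
      _ = x ^ l * (x ^ k * c) * d := by group
      _ = x ^ l * (c * x ^ k) * d := by rw [hc (x ^ k)]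
      _ = x ^ l * c * (x ^ k * d) := by group
      _ = x ^ l * c * (d * x ^ k) := by rw [hd (x ^ k)]
      _ = x ^ l * (c * d) * x ^ k := by group
      _ = x ^ l * (d * c) * x ^ k := by rw [hd c]
      _ = x ^ l * d * (c * x ^ k) := by group
      _ = x ^ l * d * (x ^ k * c) := by rw [hc (x ^ k)]
  have hbot : commutator (P : Subgroup H) = ⊥ := by
    rw [commutator_eq_closure, Subgroup.closure_eq_bot_iff]
    rintro _ ⟨a, b, rfl⟩
    rw [Set.mem_singleton_iff, commutatorElement_def, hcomm a b]
    group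
  rw [hbot, Subgroup.mem_bot] at h1
  have h2 : (z' : H) = 1 := congrArg Subtype.val h1
  rw [h2, orderOf_one] at hzo
  exact (Fact.out : p.Prime).one_lt.ne hzo

end Cfsg.Agent.S0102
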