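import Cfsg.Statements.S0103
import Mathlib
import Cfsg.Agent.Lib.H16.ConjSub

set_option autoImplicit false
open Cfsg

namespace Cfsg.Agent.S0103

open Cfsg.Agent.Lib.H16

/-- If a Sylow p-subgroup P intersects every distinct conjugate trivially, then its normalizer controls fusion in P. -/
theorem result {G : Type*} [Group G] [Finite G] {p : ℕ} [Fact p.Prime] (P : Sylow p G) (hTI : ∀ g : G, (P : Subgroup G).map (MulAut.conj g).toMonoidHom ≠ (P : Subgroup G) → (P : Subgroup G) ⊓ (P : Subgroup G).map (MulAut.conj g).toMonoidHom = ⊥) (x y : G) (hx : x ∈ P) (hy : y ∈ P) (hc : ∃ g : G, g * x * g⁻¹ = y) : ∃ n ∈ Subgroup.normalizer (P : Set G), n * x * n⁻¹ = y := by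
  obtain ⟨g, hg⟩ := hc
  by_cases hy1 : y = 1
  · refine ⟨1, Subgroup.one_mem _, ?_⟩
    have hx1 : x = 1 := by
      have : x = g⁻¹ * (g * x * g⁻¹) * g := by group
      rw [this, hg, hy1]; group
    rw [hx1, hy1]; group
  · refine ⟨g, ?_, hg⟩
    change g ∈ Subgroup.normalizer (((P : Subgroup G) : Subgroup G) : Set G)
    rw [mem_normalizer_iff_cj_eq]
    by_contra hne
    have h1 := hTI g hne
    have h2 : y ∈ (P : Subgroup G) ⊓ cj g (P : Subgroup G) := by
      refine Subgroup.mem_inf.mpr ⟨hy, ?_⟩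
      rw [← hg]
      exact conj_mem_cj g _ x hx
    change y ∈ (P : Subgroup G) ⊓ (P : Subgroup G).map (MulAut.conj g).toMonoidHom at h2
    rw [h1, Subgroup.mem_bot] at h2
    exact hy1 h2

end Cfsg.Agent.S0103
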