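import Cfsg.Statements.S0104
import Mathlib
import Cfsg.Agent.Lib.H16.ConjSub

set_option autoImplicit false
open Cfsg

namespace Cfsg.Agent.S0104

open Cfsg.Agent.Lib.H16

/-- A subgroup Z of a Sylow p-subgroup P that is normalized by N_G(P) is weakly closed in P exactly when it is normal in every Sylow p-subgroup containing it. -/
theorem result {G : Type*} [Group G] [Finite G] {p : ℕ} [Fact p.Prime] (P : Sylow p G) (Z : Subgroup G) (hZP : Z ≤ (P : Subgroup G)) (hZN : Subgroup.normalizer (P : Set G) ≤ Subgroup.normalizer (Z : Set G)) : Cfsg.IsWeaklyClosed Z P ↔ ∀ R : Sylow p G, Z ≤ (R : Subgroup G) → (R : Subgroup G) ≤ Subgroup.normalizer (Z : Set G) := by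
  have hPN : (P : Subgroup G) ≤ Subgroup.normalizer (Z : Set G) :=
    (Subgroup.le_normalizer).trans hZN
  constructor
  · rintro ⟨-, hwc⟩ R hZR
    obtain ⟨g, rfl⟩ := MulAction.exists_smul_eq G P R
    rw [coe_sylow_smul_eq_cj] at hZR ⊢
    -- cj g⁻¹ Z ≤ P
    have h1 : cj g⁻¹ Z ≤ (P : Subgroup G) := by
      have := cj_mono g⁻¹ hZR
      rwa [cj_inv_cj] at this
    have h2 : cj g⁻¹ Z = Z := hwc g⁻¹ h1
    have hg : g ∈ Subgroup.normalizer (Z : Set G) := by
      have : g⁻¹ ∈ Subgroup.normalizer (Z : Set G) := (mem_normalizer_iff_cj_eq g⁻¹ Z).mpr h2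
      simpa using Subgroup.inv_mem _ this
    intro y hy
    rw [mem_cj_iff] at hy
    have hy' := hPN hy
    have : y = g * (g⁻¹ * y * g) * g⁻¹ := by group
    rw [this]
    exact Subgroup.mul_mem _ (Subgroup.mul_mem _ hg hy') (Subgroup.inv_mem _ hg)
  · intro hall
    refine ⟨hZP, fun g hg => ?_⟩
    change cj g Z ≤ _ at hg
    change cj g Z = Z
    have hZR : Z ≤ ((g⁻¹ • P : Sylow p G) : Subgroup G) := by
      rw [coe_sylow_smul_eq_cj]
      have := cj_mono g⁻¹ hg
      rwa [cj_inv_cj] at this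
    have hRN := hall (g⁻¹ • P) hZR
    obtain ⟨n, hnN, hn⟩ := exists_mem_conj_mem_sylow_of_le (Subgroup.normalizer (Z : Set G)) P hPN
      ((g⁻¹ • P : Sylow p G) : Subgroup G) (g⁻¹ • P : Sylow p G).2 hRN
    have h3 : n * g⁻¹ ∈ Subgroup.normalizer ((P : Subgroup G) : Set G) := by
      apply mem_normalizer_of_conj_mem
      intro x hx
      have hx' : g⁻¹ * x * g⁻¹⁻¹ ∈ ((g⁻¹ • P : Sylow p G) : Subgroup G) := by
        rw [coe_sylow_smul_eq_cj]
        exact conj_mem_cj g⁻¹ _ x hx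
      have := hn _ hx'
      have e : n * g⁻¹ * x * (n * g⁻¹)⁻¹ = n * (g⁻¹ * x * g⁻¹⁻¹) * n⁻¹ := by group
      rw [e]; exact this
    have h4 : n * g⁻¹ ∈ Subgroup.normalizer (Z : Set G) := hZN h3
    have h5 : g ∈ Subgroup.normalizer (Z : Set G) := by
      have : g = (n * g⁻¹)⁻¹ * n := by group
      rw [this]
      exact Subgroup.mul_mem _ (Subgroup.inv_mem _ h4) hnN
    exact (mem_normalizer_iff_cj_eq g Z).mp h5

end Cfsg.Agent.S0104
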