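import Cfsg.Statements.S0105
import Cfsg.Agent.Lib.L0.TransferBasic
-- import your own Cfsg.Agent.* helpers here

set_option autoImplicit false
open Cfsg

namespace Cfsg.Agent.S0105

open Cfsg.Agent.Lib

section
variable {G : Type*} [Group G] [Finite G] {p : ℕ} [Fact p.Prime] (P : Sylow p G)

/-- the automizer of `P` as a subgroup of `MulAut P` -/
noncomputable def autom : Subgroup (MulAut ↥(P : Subgroup G)) :=
  ((P : Subgroup G).normalizerMonoidHom).range

theorem card_autom_coprime (hP : IsMulCommutative ↥(P : Subgroup G)) :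
    (Nat.card (autom P)).Coprime p := by
  have h1 : Nat.card (autom P) = ((P : Subgroup G).normalizerMonoidHom).ker.index :=
    (Subgroup.index_ker _).symm
  rw [h1, Subgroup.normalizerMonoidHom_ker, ← Subgroup.relIndex]
  have h2 : (Subgroup.centralizer ((P : Subgroup G) : Set G)).relIndex
      (Subgroup.normalizer ((P : Subgroup G) : Set G)) ∣ (P : Subgroup G).index := by
    refine dvd_trans (Subgroup.relIndex_dvd_of_le_left _ (Subgroup.le_centralizer (P : Subgroup G))) ?_
    exact Subgroup.relIndex_dvd_index_of_le Subgroup.le_normalizer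
  apply Nat.Coprime.coprime_dvd_left h2
  rw [Nat.coprime_comm, Nat.Prime.coprime_iff_not_dvd Fact.out]
  exact P.not_dvd_index

end


/-- With an abelian Sylow p-subgroup P, some quotient of G is isomorphic to the part of P central in N_G(P). -/
theorem result {G : Type*} [Group G] [Finite G] {p : ℕ} [Fact p.Prime] (P : Sylow p G) (hP : IsMulCommutative P) : ∃ (N : Subgroup G) (hN : N.Normal), Nonempty (G ⧸ N ≃* ((P : Subgroup G) ⊓ Subgroup.centralizer (Subgroup.normalizer (P : Set G) : Set G) : Subgroup G)) := by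
  classical
  let _ : CommGroup ↥(P : Subgroup G) :=
    { (inferInstance : Group ↥(P : Subgroup G)) with mul_comm := fun a b => mul_comm' a b }
  let _ : Fintype ↥(autom P) := Fintype.ofFinite _
  set N := Subgroup.normalizer ((P : Subgroup G) : Set G) with hN
  set C : Subgroup G := (P : Subgroup G) ⊓ Subgroup.centralizer (N : Set G) with hC
  -- the averaging map
  let τ : ↥(P : Subgroup G) →* ↥(P : Subgroup G) :=
    ∏ a : ↥(autom P), ((a : MulAut ↥(P : Subgroup G)) : ↥(P : Subgroup G) ≃* ↥(P : Subgroup G)).toMonoidHom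
  have hτ : ∀ y, τ y = ∏ a : ↥(autom P), (a : MulAut ↥(P : Subgroup G)) y := by
    intro y
    simp only [τ, MonoidHom.finsetProd_apply]
    rfl
  -- action of the normalizer
  have hf : ∀ (n : G) (hn : n ∈ N) (z : ↥(P : Subgroup G)),
      (((P : Subgroup G).normalizerMonoidHom ⟨n, hn⟩ z : ↥(P : Subgroup G)) : G) = n * z * n⁻¹ := by
    intro n hn z
    rfl
  -- claim 1: τ y is centralized by N
  have h1 : ∀ (y : ↥(P : Subgroup G)) (n : G), n ∈ N → n * (τ y : G) * n⁻¹ = (τ y : G) := by
    intro y n hn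
    rw [← hf n hn (τ y)]
    congr 1
    set b : ↥(autom P) := ⟨(P : Subgroup G).normalizerMonoidHom ⟨n, hn⟩, ⟨_, rfl⟩⟩ with hb
    rw [hτ, map_prod]
    exact Fintype.prod_equiv (Equiv.mulLeft b) _ _ (fun a => rfl)
  -- claim 2: on C, τ is a power map
  have h2 : ∀ y : ↥(P : Subgroup G), (y : G) ∈ C → τ y = y ^ Nat.card (autom P) := by
    intro y hy
    rw [hτ, Nat.card_eq_fintype_card, ← Finset.card_univ, ← Finset.prod_const]
    apply Finset.prod_congr rfl
    rintro ⟨a, n, rfl⟩ _
    apply Subtype.ext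
    rw [hf n.1 n.2 y]
    have := (Subgroup.mem_centralizer_iff.mp hy.2) n.1 n.2
    rw [this]; group
  -- the transfer
  let V : G →* ↥(P : Subgroup G) := MonoidHom.transfer (MonoidHom.id ↥(P : Subgroup G))
  let ψ : G →* ↥(P : Subgroup G) := τ.comp V
  have hPcomm : ∀ a ∈ P, ∀ b ∈ P, a * b = b * a := by
    intro a ha b hb
    have := mul_comm (⟨a, ha⟩ : ↥(P : Subgroup G)) ⟨b, hb⟩
    exact congrArg Subtype.val this
  -- claim 3
  have h3 : ∀ g : G, g ∈ C → ((V g : ↥(P : Subgroup G)) : G) = g ^ (P : Subgroup G).index := by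
    intro g hg
    have key : ∀ (k : ℕ) (g₀ : G), g₀⁻¹ * g ^ k * g₀ ∈ (P : Subgroup G) → g₀⁻¹ * g ^ k * g₀ = g ^ k := by
      intro k g₀ hk
      have hgk : g ^ k ∈ C := Subgroup.pow_mem _ hg k
      obtain ⟨n, hn, hnx⟩ := L0.burnside_fusion_elt P hPcomm (g ^ k) (g₀⁻¹ * g ^ k * g₀) hgk.1 hk g₀⁻¹
        (by rw [inv_inv])
      rw [← hnx]
      have := (Subgroup.mem_centralizer_iff.mp hgk.2) n hn
      rw [this]; group
    have := MonoidHom.transfer_eq_pow (MonoidHom.id ↥(P : Subgroup G)) g key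
    simp only [V]
    rw [this]
    rfl
  -- claim 4
  have h4 : ∀ g : G, g ∈ C → ((ψ g : ↥(P : Subgroup G)) : G) = g ^ ((P : Subgroup G).index * Nat.card (autom P)) := by
    intro g hg
    have hVC : ((V g : ↥(P : Subgroup G)) : G) ∈ C := by
      rw [h3 g hg]; exact Subgroup.pow_mem _ hg _
    show ((τ (V g) : ↥(P : Subgroup G)) : G) = _
    rw [h2 _ hVC, Subgroup.coe_pow, h3 g hg, pow_mul]
  -- claim 5
  have h5 : ψ.range = C.subgroupOf (P : Subgroup G) := by
    apply le_antisymm
    · rintro _ ⟨g, rfl⟩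
      rw [Subgroup.mem_subgroupOf]
      refine ⟨(τ (V g)).2, ?_⟩
      show ((ψ g : ↥(P : Subgroup G)) : G) ∈ Subgroup.centralizer (N : Set G)
      rw [Subgroup.mem_centralizer_iff]
      intro n hn
      have := h1 (V g) n hn
      show n * ((τ (V g) : ↥(P : Subgroup G)) : G) = ((τ (V g) : ↥(P : Subgroup G)) : G) * n
      calc n * ((τ (V g) : ↥(P : Subgroup G)) : G)
          = (n * ((τ (V g) : ↥(P : Subgroup G)) : G) * n⁻¹) * n := by group
        _ = ((τ (V g) : ↥(P : Subgroup G)) : G) * n := by rw [this]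
    · intro c hc
      rw [Subgroup.mem_subgroupOf] at hc
      set m := (P : Subgroup G).index * Nat.card (autom P) with hm
      have hcop : Nat.Coprime m (orderOf (c : G)) := by
        obtain ⟨k, hk⟩ := (IsPGroup.iff_orderOf.mp P.isPGroup') c
        rw [Subgroup.orderOf_coe, hk]
        apply Nat.Coprime.pow_right
        apply Nat.Coprime.mul_left
        · rw [Nat.coprime_comm, Nat.Prime.coprime_iff_not_dvd Fact.out]
          exact P.not_dvd_index
        · exact card_autom_coprime P hP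
      obtain ⟨k, hk⟩ := exists_pow_eq_self_of_coprime hcop
      refine ⟨(c : G) ^ k, ?_⟩
      apply Subtype.ext
      rw [h4 _ (Subgroup.pow_mem _ hc k), ← pow_mul, mul_comm, pow_mul, hk]
  refine ⟨ψ.ker, MonoidHom.normal_ker ψ, ⟨?_⟩⟩
  exact (QuotientGroup.quotientKerEquivRange ψ).trans
    ((MulEquiv.subgroupCongr h5).trans (Subgroup.subgroupOfEquivOfLe (inf_le_left : C ≤ (P : Subgroup G))))


end Cfsg.Agent.S0105
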