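import Cfsg.Statements.S0106
import Cfsg.Agent.Lib.H22.QuatSylowSL23
import Cfsg.Agent.Lib.L0.FrobeniusPC

set_option autoImplicit false
open Cfsg

namespace Cfsg.Agent.S0106

open Cfsg.Agent.Lib.H22 Cfsg.Agent.Lib.L0

open QuaternionGroup in
theorem q8_rel : (a 1 : QuaternionGroup 2) ^ 4 = 1 ∧ (a 1 : QuaternionGroup 2) ^ 2 ≠ 1 ∧
    (xa 0 : QuaternionGroup 2) * xa 0 = (a 1) ^ 2 ∧
    (xa 0 : QuaternionGroup 2) * a 1 * (xa 0)⁻¹ = (a 1)⁻¹ := by decide

/-- A finite group with generalized quaternion Sylow 2-subgroups either has a normal 2-complement or has a section isomorphic to SL(2,3). -/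
theorem result {G : Type*} [Group G] [Finite G] (T : Sylow 2 G) (n : ℕ) (hn : 1 ≤ n) (hT : Nonempty ((T : Subgroup G) ≃* QuaternionGroup (2 ^ n))) : Cfsg.HasNormalPComplement 2 G ∨ ∃ (H K : Subgroup G) (hK : (K.subgroupOf H).Normal), Nonempty ((H ⧸ K.subgroupOf H) ≃* Matrix.SpecialLinearGroup (Fin 2) (ZMod 3)) := by
  have : Fact (Nat.Prime 2) := ⟨Nat.prime_two⟩
  by_cases hF : FrobHyp 2 G
  · left; exact hasNormalPComplement_of_frobHyp hF
  right
  unfold FrobHyp at hF
  push Not at hF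
  obtain ⟨Q, hQ, g, hgN, hgcop, hgC⟩ := hF
  obtain ⟨eT⟩ := hT
  have hnz : NeZero (2 ^ n) := ⟨by positivity⟩
  -- `Q` has at most one involution
  obtain ⟨P, hQP⟩ := hQ.exists_le_sylow
  have eP : (P : Subgroup G) ≃* QuaternionGroup (2 ^ n) := (Sylow.equiv P T).trans eT
  have huniq : AtMostOneOrderP 2 Q := by
    apply atMostOne_two_of_unique_involution
    intro u v hu hu1 hv hv1
    have hinj : Function.Injective (eP.toMonoidHom.comp (Subgroup.inclusion hQP)) :=
      eP.injective.comp (Subgroup.inclusion_injective hQP)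
    apply hinj
    apply quaternion_unique_involution (2 ^ n)
    · rw [← map_pow, hu, map_one]
    · intro h1
      apply hu1
      apply hinj
      rw [h1, map_one]
    · rw [← map_pow, hv, map_one]
    · intro h1
      apply hv1
      apply hinj
      rw [h1, map_one]
  rcases cyclic_or_quaternion_of_atMostOne hQ huniq with hcyc | ⟨m, hm, ⟨e⟩⟩
  · exfalso
    exact hgC (mem_centralizer_of_isPGroup_mulAut Q hgN hgcop
      (Cfsg.Agent.Lib.H16.isPGroup_mulAut_of_isCyclic hQ))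
  rcases Nat.lt_or_ge m 2 with hm2 | hm2
  swap
  · exfalso
    apply hgC
    apply mem_centralizer_of_isPGroup_mulAut Q hgN hgcop
    exact (isPGroup_mulAut_quaternion m hm2).of_equiv (MulAut.congr e).symm
  -- `Q ≅ Q₈`
  obtain rfl : m = 1 := by omega
  rw [pow_one] at e
  obtain ⟨x, hxdef⟩ : ∃ x : G, x = ((e.symm (QuaternionGroup.a 1) : Q) : G) := ⟨_, rfl⟩
  obtain ⟨y, hydef⟩ : ∃ y : G, y = ((e.symm (QuaternionGroup.xa 0) : Q) : G) := ⟨_, rfl⟩
  obtain ⟨r1, r2, r3, r4⟩ := q8_rel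
  have hx4 : x ^ 4 = 1 := by
    rw [hxdef, ← Subgroup.coe_pow, ← map_pow, r1, map_one, Subgroup.coe_one]
  have hx2 : x ^ 2 ≠ 1 := by
    rw [hxdef, ← Subgroup.coe_pow, ← map_pow]
    intro h
    apply r2
    apply e.symm.injective
    rw [map_one]
    exact Subtype.ext h
  have hyy : y * y = x ^ 2 := by
    rw [hxdef, hydef, ← Subgroup.coe_pow, ← Subgroup.coe_mul, ← map_pow, ← map_mul, r3]
  have hyx : y * x * y⁻¹ = x⁻¹ := by
    rw [hxdef, hydef, ← Subgroup.coe_inv, ← Subgroup.coe_mul, ← Subgroup.coe_mul,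
      ← Subgroup.coe_inv, ← map_inv, ← map_mul, ← map_mul, r4, map_inv]
  have hxQ : x ∈ Q := by rw [hxdef]; exact Subtype.coe_prop _
  have hyQ : y ∈ Q := by rw [hydef]; exact Subtype.coe_prop _
  have hQeq : Subgroup.closure ({x, y} : Set G) = Q := by
    have hle : Subgroup.closure ({x, y} : Set G) ≤ Q := by
      rw [Subgroup.closure_le]
      rintro z (rfl | rfl)
      · exact hxQ
      · exact hyQ
    apply Subgroup.eq_of_le_of_card_ge hle
    obtain ⟨Q', ⟨e'⟩, -, -, hQ'le, -⟩ := q8_exists_subgroup hx4 hx2 hyy hyx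
    calc Nat.card Q = Nat.card Q' := Nat.card_congr (e.trans e'.symm).toEquiv
      _ ≤ _ := Subgroup.card_le_of_le hQ'le
  have hconj : ∀ q ∈ Q, g * q * g⁻¹ ∈ Q := fun q hq =>
    ((Subgroup.mem_normalizer_iff.mp hgN) q).mp hq
  have hodd : Odd (orderOf g) := Nat.coprime_two_right.mp hgcop
  have hnc : ¬ (Commute g x ∧ Commute g y) := by
    rintro ⟨h1, h2⟩
    apply hgC
    rw [Subgroup.mem_centralizer_iff]
    have hle : Subgroup.closure ({x, y} : Set G) ≤ Subgroup.centralizer {g} := by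
      rw [Subgroup.closure_le]
      rintro z (rfl | rfl)
      · exact Subgroup.mem_centralizer_singleton_iff.mpr h1.eq.symm
      · exact Subgroup.mem_centralizer_singleton_iff.mpr h2.eq.symm
    intro q hq
    rw [← hQeq] at hq
    exact Subgroup.mem_centralizer_singleton_iff.mp (hle hq)
  obtain ⟨i, j, -, -, hi4, hi2, hjj, hji, hgi, hgj⟩ := exists_sl23_gens hx4 hx2 hyy hyx hodd
    (by rw [hQeq]; exact hconj x hxQ) (by rw [hQeq]; exact hconj y hyQ) hnc
  exact exists_sl23_section hi4 hi2 hjj hji hgi hgj hodd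

end Cfsg.Agent.S0106
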