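import Cfsg.Statements.S0107
import Mathlib
import Cfsg.Agent.Lib.H16.ThompsonTransfer
import Cfsg.Agent.Lib.H16.AutIndexTwo
import Cfsg.Agent.Lib.H16.SylowBasic

set_option autoImplicit false
open Cfsg

namespace Cfsg.Agent.S0107

open Cfsg.Agent.Lib.H16

/-- In a finite cyclic group there is at most one element of order 2. -/
theorem eq_of_orderOf_two_of_isCyclic' {H : Type*} [Group H] [Finite H] [IsCyclic H] {x y : H}
    (hx : orderOf x = 2) (hy : orderOf y = 2) : x = y := by
  classical
  have := Fintype.ofFinite H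
  by_contra hne
  have h := IsCyclic.card_pow_eq_one_le (α := H) (n := 2) (by norm_num)
  have hsub : ({1, x, y} : Finset H) ⊆ Finset.univ.filter (fun a => a ^ 2 = 1) := by
    intro a ha
    simp only [Finset.mem_insert, Finset.mem_singleton] at ha
    rw [Finset.mem_filter]
    refine ⟨Finset.mem_univ _, ?_⟩
    rcases ha with rfl | rfl | rfl
    · simp
    · rw [← hx]; exact pow_orderOf_eq_one _
    · rw [← hy]; exact pow_orderOf_eq_one _
  have hcard : ({1, x, y} : Finset H).card = 3 := by
    have h1x : (1 : H) ≠ x := by rintro rfl; simp at hx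
    have h1y : (1 : H) ≠ y := by rintro rfl; simp at hy
    rw [Finset.card_insert_of_notMem, Finset.card_insert_of_notMem, Finset.card_singleton]
    · simpa using hne
    · simp [h1x, h1y]
  have := Finset.card_le_card hsub
  omega

/-- A group generated by elements of odd order has no subgroup of index two. -/
theorem index_ne_two_of_pResidual_eq_top {G : Type*} [Group G] [Finite G]
    (hO : Cfsg.pResidual 2 G = ⊤) (K : Subgroup G) : K.index ≠ 2 := by
  intro hK
  have hle : Cfsg.pResidual 2 G ≤ K := by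
    unfold Cfsg.pResidual
    rw [Subgroup.closure_le]
    intro g hg
    have hodd : Odd (orderOf g) := Nat.coprime_two_right.mp hg
    obtain ⟨m, hm⟩ := hodd
    have hsq : g ^ 2 ∈ K := Subgroup.sq_mem_of_index_two hK g
    have : g = (g ^ 2) ^ (m + 1) := by
      rw [← pow_mul]
      have : 2 * (m + 1) = orderOf g + 1 := by omega
      rw [this, pow_succ, pow_orderOf_eq_one, one_mul]
    rw [SetLike.mem_coe, this]
    exact K.pow_mem hsq _
  rw [hO, top_le_iff] at hle
  rw [hle, Subgroup.index_top] at hK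
  omega

/-- A finite group with no nontrivial 2-group quotient and dihedral Sylow 2-subgroups of order at least 8 has a single class of involutions. -/
theorem result {G : Type*} [Group G] [Finite G] (T : Sylow 2 G) (n : ℕ) (hn : 2 ≤ n) (hT : Nonempty ((T : Subgroup G) ≃* DihedralGroup (2 ^ n))) (hO : Cfsg.pResidual 2 G = ⊤) (x y : G) (hx : orderOf x = 2) (hy : orderOf y = 2) : ∃ g : G, g * x * g⁻¹ = y := by
  obtain ⟨e⟩ := hT
  obtain ⟨k, rfl⟩ : ∃ k, n = k + 1 := ⟨n - 1, by omega⟩
  have : NeZero (2 ^ (k + 1)) := ⟨by positivity⟩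
  set C : Subgroup (DihedralGroup (2 ^ (k + 1))) := Subgroup.zpowers (DihedralGroup.r 1) with hCdef
  have hCidx : C.index = 2 :=
    zpowers_index_two (DihedralGroup.r 1)
      (by rw [DihedralGroup.orderOf_r_one, DihedralGroup.nat_card])
  set M₀ : Subgroup (T : Subgroup G) := C.comap e.toMonoidHom with hM₀
  have hM₀idx : M₀.index = 2 := by
    rw [hM₀, Subgroup.index_comap_of_surjective _ e.surjective]; exact hCidx
  set M : Subgroup G := M₀.map (T : Subgroup G).subtype with hMdef
  have hMrel : M.relIndex (T : Subgroup G) = 2 := by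
    rw [Subgroup.relIndex, Subgroup.subgroupOf, hMdef,
      Subgroup.comap_map_eq_self_of_injective (Subgroup.subtype_injective _)]
    exact hM₀idx
  -- the central involution
  set w : DihedralGroup (2 ^ (k + 1)) := (DihedralGroup.r 1) ^ (2 ^ k) with hw
  have hwC : w ∈ C := Subgroup.pow_mem _ (Subgroup.mem_zpowers _) _
  have hword : orderOf w = 2 := by
    rw [hw, orderOf_pow' _ (by positivity), DihedralGroup.orderOf_r_one,
      Nat.gcd_eq_right (pow_dvd_pow 2 (Nat.le_succ k)), pow_succ,
      Nat.mul_div_cancel_left 2 (by positivity)]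
  set z : G := ((e.symm w : (T : Subgroup G)) : G) with hz
  -- involutions of `M` are equal to `z`
  have hMinv : ∀ u ∈ M, orderOf u = 2 → u = z := by
    rintro u ⟨u₀, hu₀, rfl⟩ hu
    have h1 : orderOf (e u₀) = 2 := by
      rw [MulEquiv.orderOf_eq e u₀]
      have : orderOf ((T : Subgroup G).subtype u₀) = orderOf u₀ :=
        orderOf_injective _ (Subgroup.subtype_injective _) u₀
      rw [← this]; exact hu
    have hu₀' : e u₀ ∈ C := hu₀
    have h2 : (⟨e u₀, hu₀'⟩ : C) = ⟨w, hwC⟩ := by
      apply eq_of_orderOf_two_of_isCyclic'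
      · rw [Subgroup.orderOf_mk]; exact h1
      · rw [Subgroup.orderOf_mk]; exact hword
    have h3 : e u₀ = w := congrArg Subtype.val h2
    have h4 : u₀ = e.symm w := by rw [← h3, MulEquiv.symm_apply_apply]
    rw [hz, ← h4]
    rfl
  -- every involution of `T` is conjugate to `z`
  have key : ∀ u ∈ (T : Subgroup G), orderOf u = 2 → ∃ g : G, g * u * g⁻¹ = z := by
    intro u huT hu
    have hex : ∃ g : G, g * u * g⁻¹ ∈ M := by
      by_contra hcon
      push Not at hcon
      obtain ⟨K, _, hK2, _⟩ := exists_normal_index_two_not_mem T M hMrel 1 (by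
        intro y _ hyM
        have hy1 : y ≠ 1 := fun h => hyM (h ▸ M.one_mem)
        have : 0 < orderOf y := orderOf_pos y
        have : orderOf y ≠ 1 := fun h => hy1 (orderOf_eq_one_iff.mp h)
        simp only [Nat.sub_self, pow_zero]
        omega) u (by rw [hu, pow_one]) hcon
      exact index_ne_two_of_pResidual_eq_top hO K hK2
    obtain ⟨g, hg⟩ := hex
    refine ⟨g, hMinv _ hg ?_⟩
    have := MulEquiv.orderOf_eq (MulAut.conj g) u
    rw [MulAut.conj_apply] at this
    rw [this]; exact hu
  -- any involution is conjugate to `z`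
  have key2 : ∀ u : G, orderOf u = 2 → ∃ g : G, g * u * g⁻¹ = z := by
    intro u hu
    have hp : IsPGroup 2 (Subgroup.zpowers u) := by
      apply IsPGroup.of_card (n := 1)
      rw [Nat.card_zpowers, hu, pow_one]
    obtain ⟨g, hg⟩ := exists_conj_mem_sylow (Subgroup.zpowers u) hp T
    have h1 := hg u (Subgroup.mem_zpowers u)
    have h2 : orderOf (g * u * g⁻¹) = 2 := by
      have := MulEquiv.orderOf_eq (MulAut.conj g) u
      rw [MulAut.conj_apply] at this
      rw [this]; exact hu
    obtain ⟨g', hg'⟩ := key _ h1 h2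
    refine ⟨g' * g, ?_⟩
    rw [← hg']; group
  obtain ⟨g₁, h₁⟩ := key2 x hx
  obtain ⟨g₂, h₂⟩ := key2 y hy
  refine ⟨g₂⁻¹ * g₁, ?_⟩
  have : g₂⁻¹ * g₁ * x * (g₂⁻¹ * g₁)⁻¹ = g₂⁻¹ * (g₁ * x * g₁⁻¹) * g₂ := by group
  rw [this, h₁, ← h₂]; group

end Cfsg.Agent.S0107
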