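import Cfsg.Statements.S0109
import Mathlib
import Cfsg.Agent.S0596
import Cfsg.Agent.S0626
import Cfsg.Agent.S0601
import Cfsg.Agent.S0607
import Cfsg.Agent.S0608
import Cfsg.Agent.Lib.H1.PSolvOfSolv
import Cfsg.Agent.Lib.H10.PSolvable
import Cfsg.Agent.Lib.H4.FaithfulForm
import Cfsg.Agent.Lib.H26.PSolvableExt

set_option autoImplicit false
open Cfsg

namespace Cfsg.Agent.S0109

/-- `p`-solvable groups are `p`-stable on normal elementary abelian subgroups, `p ≥ 5` -/
theorem pStableOn_of_pSolvable {p : ℕ} [Fact p.Prime] (hp : p ≠ 2) (hp3 : p ≠ 3) {X : Type*}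
    [Group X] [Finite X] (hX : Cfsg.IsPSolvable p X) (V : Subgroup X) [V.Normal]
    (hV : Cfsg.IsElementaryAbelian p V) : Cfsg.IsPStableOn p V := by
  apply Cfsg.Agent.Lib.H4.FaithfulForm.isPStableOn_of_faithful V hV
  rintro V' H hV' hHV hf ⟨f, hfs⟩ a haH hq
  by_contra hna
  have hH : Cfsg.IsPSolvable p ↥H := Cfsg.Agent.Lib.H26.isPSolvable_of_surjective f hfs hX
  exact hp3 (Cfsg.Agent.S0596.result hp V' H hV' hHV hf hH a haH hq hna).1


/-- The Thompson factorization Theorem for solvable groups states that, with p odd (and abelian Sylow 2-subgroups when p = 3) and no nontrivial normal subgroup of order prime to p, every element of G is a product of an element normalizing J(P) and an element centralizing the elements of order dividing p in the centre of P. -/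
theorem result {G : Type*} [Group G] [Finite G] {p : ℕ} [Fact p.Prime] (hp : p ≠ 2) (hs : Group.IsSolvable G) (h3 : p = 3 → ∀ T : Sylow 2 G, IsMulCommutative T) (hF : ∀ N : Subgroup G, N.Normal → Nat.Coprime (Nat.card N) p → N = ⊥) (P : Sylow p G) (g : G) : ∃ a ∈ Subgroup.normalizer (Cfsg.thompsonSubgroupOf p (P : Subgroup G) : Set G), ∃ c ∈ Subgroup.centralizer {x : G | x ∈ (P : Subgroup G) ∧ (∀ y ∈ (P : Subgroup G), x * y = y * x) ∧ x ^ p = 1}, g = a * c := by
  have hO : Cfsg.pPrimeCore p G = ⊥ :=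
    hF _ (Cfsg.Agent.Lib.H22.pPrimeCore_normal p) (Cfsg.Agent.Lib.H22.card_pPrimeCore_coprime p)
  have hsep : Cfsg.IsPSolvable p G := Cfsg.Agent.Lib.H1.PSolvOfSolv.isPSolvable_of_isSolvable p G
  have hc := Cfsg.Agent.Lib.H10.centralizer_pCore_le_of_isPSolvable p hsep hO
  obtain ⟨hVn, hVe, hVD⟩ := Cfsg.Agent.S0601.result (p := p) hc
  obtain ⟨V, hVdef⟩ : ∃ V : Subgroup G, V = ⨆ S : Sylow p G, Cfsg.omegaOne p (((S : Subgroup G)) ⊓ Subgroup.centralizer ((S : Subgroup G) : Set G)) := ⟨_, rfl⟩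
  rw [← hVdef] at hVn hVe hVD
  have hstab : Cfsg.IsPStableOn p V := by
    by_cases hp3 : p = 3
    · exact (Cfsg.Agent.S0626.result hp (h3 hp3)).1 V hVe
    · exact pStableOn_of_pSolvable hp hp3 hsep V hVe
  have hTF := (Cfsg.Agent.S0608.result (p := p) hO)
  rw [← hVdef] at hTF
  have hJ : Cfsg.thompsonSubgroup p G ≤ Subgroup.centralizer (V : Set G) := by
    unfold Cfsg.thompsonSubgroup
    apply sSup_le
    intro A hA
    by_contra hAV
    have hne : ⁅V, A⁆ ≠ ⊥ := by
      intro h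
      apply hAV
      rw [Subgroup.commutator_comm, Subgroup.commutator_eq_bot_iff_le_centralizer] at h
      exact h
    obtain ⟨_, hquad, hnt⟩ := Cfsg.Agent.S0607.result V hVe A hA
    have hnt' := hnt hne
    obtain ⟨A₀, hA₀⟩ : ∃ A₀ : Subgroup G, A₀ = ⁅V, A⁆ ⊔ (A ⊓ Subgroup.centralizer ((⁅V, A⁆ : Subgroup G) : Set G)) := ⟨_, rfl⟩
    rw [← hA₀] at hquad hnt'
    -- an element of `A₀` not centralizing `V`
    have hex : ∃ a ∈ A₀, a ∉ Subgroup.centralizer (V : Set G) := by
      by_contra hcon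
      push Not at hcon
      apply hnt'
      rw [Subgroup.commutator_comm, Subgroup.commutator_eq_bot_iff_le_centralizer]
      exact hcon
    obtain ⟨a, haA, haC⟩ := hex
    have hqa : ⁅⁅V, Subgroup.zpowers a⁆, Subgroup.zpowers a⁆ = ⊥ := by
      rw [eq_bot_iff, ← hquad]
      have hle : Subgroup.zpowers a ≤ A₀ := (Subgroup.zpowers_le).mpr haA
      exact Subgroup.commutator_mono (Subgroup.commutator_mono le_rfl hle) hle
    have hmem := hstab a hqa
    -- `O_p(G/C) = 1`
    obtain ⟨D, hD⟩ : ∃ D : Subgroup G, D = (Cfsg.pCore p (G ⧸ Subgroup.centralizer (V : Set G))).comap (QuotientGroup.mk' (Subgroup.centralizer (V : Set G))) := ⟨_, rfl⟩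
    have hDn : D.Normal := by
      rw [hD]
      exact Subgroup.Normal.comap (Cfsg.Agent.Lib.H1.pCore_normal p _) _
    have hCD : Subgroup.centralizer (V : Set G) ≤ D := by
      intro x hx
      rw [hD, Subgroup.mem_comap]
      have : QuotientGroup.mk' (Subgroup.centralizer (V : Set G)) x = 1 := by
        rw [← MonoidHom.mem_ker, QuotientGroup.ker_mk']; exact hx
      rw [this]; exact Subgroup.one_mem _
    have hidx : ∃ k : ℕ, (Subgroup.centralizer (V : Set G)).relIndex D = p ^ k := by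
      have h1 := Subgroup.relIndex_ker (K := D) (QuotientGroup.mk' (Subgroup.centralizer (V : Set G)))
      rw [QuotientGroup.ker_mk', hD, Subgroup.map_comap_eq_self_of_surjective
        (QuotientGroup.mk'_surjective _)] at h1
      rw [← hD] at h1
      rw [h1]
      exact (Cfsg.Agent.Lib.H1.pCore_isPGroup p _).exists_card_eq
    have hDC := hVD D hDn hCD hidx
    apply haC
    rw [← hDC, hD, Subgroup.mem_comap]
    exact hmem
  have hfact := hTF.mpr hJ
  obtain ⟨x, hx, c, hc, n, hn, hg⟩ := hfact P g⁻¹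
  rw [hO, Subgroup.mem_bot] at hx
  refine ⟨n⁻¹, Subgroup.inv_mem _ hn, c⁻¹, ?_, ?_⟩
  · apply Subgroup.inv_mem
    rw [Subgroup.mem_centralizer_iff] at hc ⊢
    intro y hy
    apply hc
    apply Subgroup.subset_closure
    refine ⟨Subgroup.mem_inf.mpr ⟨hy.1, ?_⟩, hy.2.2⟩
    rw [Subgroup.mem_centralizer_iff]
    intro z hz
    exact (hy.2.1 z hz).symm
  · have : g = (g⁻¹)⁻¹ := (inv_inv g).symm
    rw [this, hg, hx]
    group

end Cfsg.Agent.S0109
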