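import Mathlib
import Cfsg.Statements.S0114
import Cfsg.Agent.Lib.H22.MaxClassNilp

set_option autoImplicit false
open Cfsg

namespace Cfsg.Agent.S0114

open Cfsg.Agent.Lib.H22

/-- The central quotient of a 2-group of maximal class is dihedral. -/
theorem result {X : Type*} [Group X] [Finite X] (n : ℕ) (hn : 3 ≤ n) (hX : Nat.card X = 2 ^ n) (hc : Group.nilpotencyClass X = n - 1) : Nonempty (X ⧸ Subgroup.center X ≃* DihedralGroup (2 ^ (n - 2))) := by
  obtain ⟨m, rfl⟩ : ∃ m, n = m + 3 := ⟨n - 3, by omega⟩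
  have hidx := index_commutator_eq_four_of_nilpotencyClass m X hX (by rw [hc]; omega)
  obtain ⟨a, y, hD, hcen⟩ := exists_maxClassData m X hX hidx
  have e : m + 3 - 2 = m + 1 := by omega
  rw [e]
  have hzz : a ^ (2 ^ (m + 1)) ∈ Subgroup.center X := by
    rw [hcen]; exact Subgroup.mem_zpowers _
  have hzz1 : ((a ^ (2 ^ (m + 1)) : X) : X ⧸ Subgroup.center X) = 1 :=
    (QuotientGroup.eq_one_iff _).mpr hzz
  haveI : NeZero (2 ^ (m + 1)) := ⟨pow_ne_zero _ two_ne_zero⟩
  have hcZ : Nat.card (Subgroup.center X) = 2 := by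
    rw [hcen, Nat.card_zpowers]
    apply orderOf_eq_prime
    · rw [pow_two]; exact hD.zz_sq
    · apply pow_ne_one_of_lt_orderOf (pow_ne_zero _ two_ne_zero)
      rw [hD.orderOf_a]
      exact Nat.pow_lt_pow_right (by norm_num) (by omega)
  apply dihedral_equiv_of_gens (2 ^ (m + 1)) (a : X ⧸ Subgroup.center X) (y : X ⧸ Subgroup.center X)
  · rw [← QuotientGroup.mk_pow]; exact hzz1
  · rw [← QuotientGroup.mk_mul]
    rcases hD.sq with h | h
    · rw [h]; rfl
    · rw [h]; exact hzz1
  · rw [← QuotientGroup.mk_inv, ← QuotientGroup.mk_mul, ← QuotientGroup.mk_mul, ← QuotientGroup.mk_inv]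
    rcases hD.conj with h | ⟨-, h⟩
    · rw [h]
    · rw [h, QuotientGroup.mk_mul, hzz1, mul_one]
  · have := hD.closure_eq_top
    have h2 := congrArg (Subgroup.map (QuotientGroup.mk' (Subgroup.center X))) this
    rw [MonoidHom.map_closure, Subgroup.map_top_of_surjective _ (QuotientGroup.mk'_surjective _),
      Set.image_pair] at h2
    exact h2
  · have := Subgroup.card_eq_card_quotient_mul_card_subgroup (Subgroup.center X)
    rw [hX, hcZ] at this
    have e2 : (2 : ℕ) ^ (m + 3) = (2 * 2 ^ (m + 1)) * 2 := by ring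
    rw [e2] at this
    exact (Nat.eq_of_mul_eq_mul_right (by norm_num) this).symm

end Cfsg.Agent.S0114
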