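import Mathlib
import Cfsg.Statements.S0115
import Cfsg.Agent.Lib.H22.MaxClassNilp

set_option autoImplicit false
open Cfsg

namespace Cfsg.Agent.S0115

open Cfsg.Agent.Lib.H22

/-- A 2-group of order 2^n, n ≥ 3, is of maximal class exactly when its commutator quotient is a Klein four-group. -/
theorem result {X : Type*} [Group X] [Finite X] (n : ℕ) (hn : 3 ≤ n) (hX : Nat.card X = 2 ^ n) : Group.nilpotencyClass X = n - 1 ↔ IsKleinFour (X ⧸ commutator X) := by
  obtain ⟨m, rfl⟩ : ∃ m, n = m + 3 := ⟨n - 3, by omega⟩
  have hG : IsPGroup 2 X := IsPGroup.of_card hX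
  constructor
  · intro hc
    have hidx := index_commutator_eq_four_of_nilpotencyClass m X hX (by rw [hc]; omega)
    have hcard4 : Nat.card (X ⧸ commutator X) = 4 := by
      rw [← Subgroup.index_eq_card]; exact hidx
    have hncyc : ¬ IsCyclic (X ⧸ commutator X) := by
      intro hcyc
      haveI : Fact (Nat.Prime 2) := ⟨Nat.prime_two⟩
      have hcomm := comm_of_isCyclic_abelianization (p := 2) _ X rfl hG hcyc
      apply not_comm_of_index_commutator hidx _ hcomm
      rw [hX]
      have : (4 : ℕ) < 2 ^ (m + 3) := by
        calc (4 : ℕ) = 2 ^ 2 := by norm_num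
          _ < 2 ^ (m + 3) := Nat.pow_lt_pow_right (by norm_num) (by omega)
      omega
    have hsq : ∀ x : X ⧸ commutator X, x ^ 2 = 1 := by
      intro x
      have hdvd : orderOf x ∣ 2 ^ 2 := by
        have := orderOf_dvd_natCard x
        rw [hcard4] at this
        simpa using this
      obtain ⟨k, hk2, hk⟩ := (Nat.dvd_prime_pow Nat.prime_two).mp hdvd
      have hk1 : k ≤ 1 := by
        by_contra h
        have : k = 2 := by omega
        subst this
        apply hncyc
        apply isCyclic_of_orderOf_eq_card x
        rw [hk, hcard4]; norm_num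
      have : orderOf x ∣ 2 := by
        rw [hk]
        calc 2 ^ k ∣ 2 ^ 1 := pow_dvd_pow 2 hk1
          _ = 2 := by norm_num
      exact orderOf_dvd_iff_pow_eq_one.mp this
    refine ⟨hcard4, ?_⟩
    have h1 : Monoid.exponent (X ⧸ commutator X) ∣ 2 := Monoid.exponent_dvd_of_forall_pow_eq_one hsq
    have h2 : Monoid.exponent (X ⧸ commutator X) ≠ 1 := by
      intro h
      have := Monoid.exp_eq_one_iff.mp h
      have := Nat.card_eq_one_iff_unique.mpr ⟨this, ⟨1⟩⟩
      omega
    rcases (Nat.dvd_prime Nat.prime_two).mp h1 with h | h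
    · exact absurd h h2
    · exact h
  · intro hK
    have hidx : (commutator X).index = 4 := by
      rw [Subgroup.index_eq_card]; exact hK.card_four
    rw [nilpotencyClass_of_index_commutator_eq_four m X hX hidx]
    omega

end Cfsg.Agent.S0115
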