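import Cfsg.Statements.S0657
import Cfsg.Agent.Lib.H4.SL2Sec.PForm

set_option autoImplicit false
open Cfsg

namespace Cfsg.Agent.S0657

open Cfsg.Agent.Lib.H4.SL2Sec
open scoped commutatorElement

universe u

/-- a surjection from a subgroup gives a section -/
theorem section_of_inv {G₀ : Type*} [Group G₀] {S : Type*} [Group S] (h : Inv S G₀) :
    ∃ (K L : Subgroup G₀) (hL : (L.subgroupOf K).Normal), K ≤ ⊤ ∧
      Nonempty ((K ⧸ L.subgroupOf K) ≃* S) := by
  have h' : Inv S ↥(⊤ : Subgroup G₀) :=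
    Inv.of_surjective (Subgroup.topEquiv (G := G₀)).toMonoidHom
      (Subgroup.topEquiv (G := G₀)).surjective h
  obtain ⟨X, ψ, hψ⟩ := h'
  exact Cfsg.Agent.Lib.H1.QuadMul.section_of_surj ⊤ X ψ hψ

/-- transport of membership in `O_p` of a quotient along an equality of kernels -/
theorem mem_pCore_quot_of_eq {X : Type*} [Group X] {p : ℕ} (C₁ : Subgroup X) [C₁.Normal]
    (C : Subgroup X) [hn : C.Normal] (h : C = C₁) (x : X)
    (hx : (QuotientGroup.mk x : X ⧸ C₁) ∈ Cfsg.pCore p (X ⧸ C₁)) :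
    (QuotientGroup.mk x : X ⧸ C) ∈ Cfsg.pCore p (X ⧸ C) := by
  subst h
  exact hx

/-- the stability condition in a group not involving `SL₂(p)` -/
theorem stable_cond {Γ : Type u} [Group Γ] [Finite Γ] {p : ℕ} [Fact p.Prime] (hp : p ≠ 2)
    (hΓ : ¬ Inv (Matrix.SpecialLinearGroup (Fin 2) (ZMod p)) Γ)
    (A P : Subgroup Γ) (hP : IsPGroup p P) (hAP : ∀ a ∈ A, ∀ x ∈ P, a * x * a⁻¹ ∈ P)
    (hq : ⁅⁅P, A⁆, A⁆ = ⊥) :
    (A.subgroupOf (Subgroup.normalizer (P : Set Γ))).map
        (QuotientGroup.mk' ((Subgroup.centralizer (P : Set Γ)).subgroupOf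
          (Subgroup.normalizer (P : Set Γ))))
      ≤ Cfsg.pCore p _ := by
  obtain ⟨N, hN⟩ : ∃ N : Subgroup Γ, N = Subgroup.normalizer (P : Set Γ) := ⟨_, rfl⟩
  have hPN : P ≤ Subgroup.normalizer (P : Set Γ) := Subgroup.le_normalizer
  have hX : ¬ Inv (Matrix.SpecialLinearGroup (Fin 2) (ZMod p))
      ↥(Subgroup.normalizer (P : Set Γ)) := fun h => hΓ (Inv.of_subgroup _ h)
  have hP' : IsPGroup p (P.subgroupOf (Subgroup.normalizer (P : Set Γ))) := hP.comap_subtype
  have hCeq : (Subgroup.centralizer (P : Set Γ)).subgroupOf (Subgroup.normalizer (P : Set Γ)) =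
      Subgroup.centralizer ((P.subgroupOf (Subgroup.normalizer (P : Set Γ)) :
        Subgroup ↥(Subgroup.normalizer (P : Set Γ))) :
          Set ↥(Subgroup.normalizer (P : Set Γ))) := by
    ext x
    rw [Subgroup.mem_subgroupOf, Subgroup.mem_centralizer_iff, Subgroup.mem_centralizer_iff]
    constructor
    · intro h y hy
      apply Subtype.ext
      exact h (y : Γ) (Subgroup.mem_subgroupOf.1 hy)
    · intro h y hy
      have := h ⟨y, hPN hy⟩ (Subgroup.mem_subgroupOf.2 hy)
      exact congrArg Subtype.val this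
  rintro _ ⟨a, ha, rfl⟩
  have haA : (a : Γ) ∈ A := Subgroup.mem_subgroupOf.1 ha
  -- quadratic action of `a`
  have hqa : ⁅⁅P.subgroupOf (Subgroup.normalizer (P : Set Γ)), Subgroup.zpowers a⁆,
      Subgroup.zpowers a⁆ = ⊥ := by
    apply (Subgroup.map_eq_bot_iff_of_injective _
      (Subgroup.normalizer (P : Set Γ)).subtype_injective).1
    rw [Subgroup.map_commutator, Subgroup.map_commutator, Subgroup.subgroupOf_map_subtype,
      MonoidHom.map_zpowers, inf_eq_left.2 hPN, eq_bot_iff, ← hq]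
    have hz : Subgroup.zpowers ((Subgroup.normalizer (P : Set Γ)).subtype a) ≤ A :=
      Subgroup.zpowers_le.2 haA
    exact Subgroup.commutator_mono (Subgroup.commutator_mono le_rfl hz) hz
  have key := pform hp hX (P.subgroupOf (Subgroup.normalizer (P : Set Γ))) hP' a hqa
  exact mem_pCore_quot_of_eq _ _ hCeq a key

/-- For odd p, a group that fails to be p-stable modulo its largest normal subgroup of order prime to p, and whose upper p-series does not stop there, has a section isomorphic to SL(2, p). -/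
theorem result {G : Type*} [Group G] [Finite G] {p : ℕ} [Fact p.Prime] (hp : p ≠ 2) (hO : Cfsg.pPrimeCore p G < Cfsg.pPrimePCore p G) (hns : ¬ Cfsg.IsPStable p (G ⧸ Cfsg.pPrimeCore p G)) : ∃ (K L : Subgroup G) (hL : (L.subgroupOf K).Normal), K ≤ ⊤ ∧ Nonempty ((K ⧸ L.subgroupOf K) ≃* Matrix.SpecialLinearGroup (Fin 2) (ZMod p)) := by
  by_contra hcon
  have hG : ¬ Inv (Matrix.SpecialLinearGroup (Fin 2) (ZMod p)) G := fun h => hcon (section_of_inv h)
  have hΓ : ¬ Inv (Matrix.SpecialLinearGroup (Fin 2) (ZMod p)) (G ⧸ Cfsg.pPrimeCore p G) :=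
    fun h => hG (Inv.of_surjective (QuotientGroup.mk' _) (QuotientGroup.mk'_surjective _) h)
  apply hns
  refine ⟨(Fact.out : p.Prime).odd_of_ne_two hp, ?_, ?_⟩
  · intro h
    apply lt_irrefl (Cfsg.pPrimeCore p G)
    have : Cfsg.pPrimePCore p G = Cfsg.pPrimeCore p G := by
      unfold Cfsg.pPrimePCore
      rw [h, MonoidHom.comap_bot, QuotientGroup.ker_mk']
    rw [this] at hO
    exact hO
  · intro A P _ hP hAP _ _ hq
    exact stable_cond hp hΓ A P hP hAP hq

end Cfsg.Agent.S0657
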