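import Mathlib
import Cfsg.Statements.S0118
import Cfsg.Agent.Lib.H8.ZJFullCtl
import Cfsg.Agent.S0657
set_option autoImplicit false
open Cfsg
namespace Cfsg.Agent.S0118

open Cfsg.Agent.Lib.H8.ZJFull Cfsg.Agent.Lib.H4.SL2Sec

/-- Glauberman's ZJ-Theorem, in the case of groups with no section isomorphic to SL(2,p), p odd: conjugation of subsets of a Sylow p-subgroup P inside P is always induced from the normalizer of Z(J(P)). -/
theorem result {G : Type*} [Group G] [Finite G] {p : ℕ} [Fact p.Prime] (hp : p ≠ 2) (hfree : ¬ ∃ (H K : Subgroup G) (hK : (K.subgroupOf H).Normal), Nonempty ((H ⧸ K.subgroupOf H) ≃* Matrix.SpecialLinearGroup (Fin 2) (ZMod p))) (P : Sylow p G) (A : Set G) (hA : A ⊆ (P : Set G)) (g : G) (hAg : (fun a => g⁻¹ * a * g) '' A ⊆ (P : Set G)) : ∃ n ∈ Subgroup.normalizer (Cfsg.centerThompsonOf p (P : Subgroup G) : Set G), ∀ a ∈ A, n⁻¹ * a * n = g⁻¹ * a * g := by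
  have hG : ¬ Inv (Matrix.SpecialLinearGroup (Fin 2) (ZMod p)) G := by
    intro h
    obtain ⟨K, L, hL, _, hiso⟩ := Cfsg.Agent.S0657.section_of_inv h
    exact hfree ⟨K, L, hL, hiso⟩
  have hsec : ∀ (K R : Subgroup G) [(R.subgroupOf K).Normal],
      Cfsg.IsNormalizerPStable p (↥K ⧸ R.subgroupOf K) := by
    intro K R _
    apply isNormalizerPStable_of_not_inv hp
    intro h
    exact hG (Inv.of_subgroup K (Inv.of_surjective (QuotientGroup.mk' _)
      (QuotientGroup.mk'_surjective _) h))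
  have hctl := control_full_of_sections hp P (P : Subgroup G)
    (Cfsg.Agent.Lib.H15.NPCS.stronglyClosed_self _) hsec
  have hAg' : (fun a => g⁻¹ * a * g⁻¹⁻¹) '' A ⊆ ((P : Subgroup G) : Set G) := by
    rintro _ ⟨a, ha, rfl⟩
    have h1 : g⁻¹ * a * g ∈ (P : Set G) := hAg ⟨a, ha, rfl⟩
    simp only [inv_inv]
    exact h1
  obtain ⟨x, hx, hxa⟩ := hctl A g⁻¹ hA hAg'
  refine ⟨x⁻¹, Subgroup.inv_mem _ hx, ?_⟩
  intro a ha
  have := hxa a ha
  rw [inv_inv] at this ⊢
  exact this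
end Cfsg.Agent.S0118
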