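import Cfsg.Statements.S0128
import Mathlib
import Cfsg.Agent.S0126
import Cfsg.Agent.Lib.H1.NilpotentBasic
import Cfsg.Agent.Lib.H1.PGroupBasic
import Cfsg.Agent.Lib.H1.QuotientBasic
import Cfsg.Agent.Lib.H1.SchurZassenhaus

set_option autoImplicit false
open Cfsg

namespace Cfsg.Agent.S0128

universe u

variable {G : Type*} [Group G]

theorem comm3 (c c₁ c₂ : G) (h01 : Commute c c₁) (h02 : Commute c c₂) (h12 : Commute c₁ c₂)
    (n a b : ℕ) :
    (c * c₁) ^ n * (c₁ * c₂) ^ a * c₂ ^ b * c = c ^ (n + 1) * c₁ ^ (n + a) * c₂ ^ (a + b) := by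
  rw [h01.mul_pow, h12.mul_pow, pow_succ, pow_add, pow_add]
  have e1 : Commute c (c₁ ^ n * (c₁ ^ a * c₂ ^ a) * c₂ ^ b) :=
    ((h01.pow_right n).mul_right ((h01.pow_right a).mul_right (h02.pow_right a))).mul_right
      (h02.pow_right b)
  calc c ^ n * c₁ ^ n * (c₁ ^ a * c₂ ^ a) * c₂ ^ b * c
      = c ^ n * ((c₁ ^ n * (c₁ ^ a * c₂ ^ a) * c₂ ^ b) * c) := by simp only [mul_assoc]
    _ = c ^ n * (c * (c₁ ^ n * (c₁ ^ a * c₂ ^ a) * c₂ ^ b)) := by rw [e1.eq]
    _ = c ^ n * c * (c₁ ^ n * c₁ ^ a) * (c₂ ^ a * c₂ ^ b) := by simp only [mul_assoc]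

/-- power formula in a "class three" situation. -/
theorem pow_formula (x c c₁ c₂ : G)
    (h01 : Commute c c₁) (h02 : Commute c c₂) (h12 : Commute c₁ c₂)
    (hx0 : c * x = x * (c * c₁)) (hx1 : c₁ * x = x * (c₁ * c₂)) (hx2 : c₂ * x = x * c₂) (n : ℕ) :
    (x * c) ^ n = x ^ n * (c ^ n * c₁ ^ (n.choose 2) * c₂ ^ (n.choose 3)) := by
  induction n with
  | zero => simp
  | succ n ih =>
    have s0 : SemiconjBy x (c * c₁) c := hx0.symm
    have s1 : SemiconjBy x (c₁ * c₂) c₁ := hx1.symm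
    have s2 : SemiconjBy x c₂ c₂ := hx2.symm
    have s : SemiconjBy x ((c * c₁) ^ n * (c₁ * c₂) ^ (n.choose 2) * c₂ ^ (n.choose 3))
        (c ^ n * c₁ ^ (n.choose 2) * c₂ ^ (n.choose 3)) :=
      ((s0.pow_right n).mul_right (s1.pow_right _)).mul_right (s2.pow_right _)
    have hc2 : (n + 1).choose 2 = n + n.choose 2 := by
      rw [Nat.choose_succ_succ, Nat.choose_one_right]
    have hc3 : (n + 1).choose 3 = n.choose 2 + n.choose 3 := by
      rw [Nat.choose_succ_succ]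
    rw [pow_succ, ih, hc2, hc3, ← comm3 c c₁ c₂ h01 h02 h12]
    calc x ^ n * (c ^ n * c₁ ^ n.choose 2 * c₂ ^ n.choose 3) * (x * c)
        = x ^ n * ((c ^ n * c₁ ^ n.choose 2 * c₂ ^ n.choose 3) * x) * c := by
          simp only [mul_assoc]
      _ = x ^ n * (x * ((c * c₁) ^ n * (c₁ * c₂) ^ (n.choose 2) * c₂ ^ (n.choose 3))) * c := by
          rw [s.eq]
      _ = x ^ (n + 1) * ((c * c₁) ^ n * (c₁ * c₂) ^ n.choose 2 * c₂ ^ n.choose 3 * c) := by
          rw [pow_succ]; simp only [mul_assoc]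

/-- the `p`-th power version: the correction terms vanish when `p > 3`. -/
theorem pow_p_formula {p : ℕ} [hp : Fact p.Prime] (hp3 : 3 < p) (x c c₁ c₂ : G)
    (h01 : Commute c c₁) (h02 : Commute c c₂) (h12 : Commute c₁ c₂)
    (hx0 : c * x = x * (c * c₁)) (hx1 : c₁ * x = x * (c₁ * c₂)) (hx2 : c₂ * x = x * c₂)
    (h1 : c₁ ^ p = 1) (h2 : c₂ ^ p = 1) :
    (x * c) ^ p = x ^ p * c ^ p := by
  rw [pow_formula x c c₁ c₂ h01 h02 h12 hx0 hx1 hx2 p]
  obtain ⟨k2, hk2⟩ := hp.out.dvd_choose_self (k := 2) (by norm_num) (by omega)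
  obtain ⟨k3, hk3⟩ := hp.out.dvd_choose_self (k := 3) (by norm_num) (by omega)
  rw [hk2, hk3, pow_mul, pow_mul, h1, h2, one_pow, one_pow, mul_one, mul_one]

section pgroup

variable {R : Type u} [Group R] [Finite R] {p : ℕ} [hp : Fact p.Prime]

/-- elements of order dividing `p` centralizing `A` lie in `A`. -/
theorem mem_of_centralizes
    (hrk : ∀ E : Subgroup R, Cfsg.IsElementaryAbelian p E → Nat.card E ≤ p ^ 2)
    (A : Subgroup R) [A.Normal] (hA : Cfsg.IsElementaryAbelian p A) (hA2 : Nat.card A = p ^ 2)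
    (z : R) (hz : z ∈ Subgroup.centralizer (A : Set R)) (hzp : z ^ p = 1) : z ∈ A := by
  have hAc : A ≤ Subgroup.centralizer (A : Set R) :=
    Subgroup.le_centralizer_iff_isMulCommutative.mpr hA.1
  have hZA : Subgroup.zpowers z ≤ Subgroup.centralizer (A : Set R) := by
    rw [Subgroup.zpowers_le]; exact hz
  have hZZ : Subgroup.zpowers z ≤ Subgroup.centralizer (Subgroup.zpowers z : Set R) :=
    Subgroup.le_centralizer_iff_isMulCommutative.mpr inferInstance
  have hE : Cfsg.IsElementaryAbelian p (A ⊔ Subgroup.zpowers z) := by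
    refine ⟨?_, ?_⟩
    · rw [← Subgroup.le_centralizer_iff_isMulCommutative]
      apply sup_le
      · rw [Subgroup.le_centralizer_iff]
        exact sup_le hAc hZA
      · rw [Subgroup.le_centralizer_iff]
        exact sup_le (Subgroup.le_centralizer_iff.mp hZA) hZZ
    · intro g hg
      obtain ⟨a, ha, h, hh, rfl⟩ := Subgroup.mem_sup_of_normal_left.mp hg
      have hcomm : Commute a h := by
        have := hZA hh
        rw [Subgroup.mem_centralizer_iff] at this
        exact this a ha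
      rw [hcomm.mul_pow, hA.2 a ha]
      obtain ⟨k, rfl⟩ := Subgroup.mem_zpowers_iff.mp hh
      rw [← zpow_natCast, ← zpow_mul, mul_comm, zpow_mul, zpow_natCast, hzp, one_zpow, mul_one]
  have hle : A ≤ A ⊔ Subgroup.zpowers z := le_sup_left
  have heq : A = A ⊔ Subgroup.zpowers z :=
    Subgroup.eq_of_le_of_card_ge hle (by rw [hA2]; exact hrk _ hE)
  rw [heq]
  exact Subgroup.mem_sup_right (Subgroup.mem_zpowers z)

/-- The central subgroup `Z = A ∩ Z(R)` of order `p` receiving all commutators `[A, R]`. -/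
theorem exists_central (hR : IsPGroup p R)
    (A : Subgroup R) [hAn : A.Normal] (hA2 : Nat.card A = p ^ 2)
    (hAc : ¬ A ≤ Subgroup.center R) :
    ∃ Z : Subgroup R, Z ≤ A ∧ Z ≤ Subgroup.center R ∧ Nat.card Z = p ∧
      ∀ a ∈ A, ∀ g : R, a⁻¹ * g⁻¹ * a * g ∈ Z := by
  haveI : Group.IsNilpotent R := hR.isNilpotent
  have hAne : A ≠ ⊥ := by
    intro h
    apply hAc
    rw [h]; exact bot_le
  set Z : Subgroup R := A ⊓ Subgroup.center R with hZdef
  have hZne : Z ≠ ⊥ := Cfsg.Agent.Lib.H1.normal_inf_center_ne_bot A hAne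
  have hZA : Z ≤ A := inf_le_left
  have hZc : Z ≤ Subgroup.center R := inf_le_right
  have hZcard : Nat.card Z = p := by
    have hdvd : Nat.card Z ∣ p ^ 2 := hA2 ▸ Subgroup.card_dvd_of_le hZA
    obtain ⟨k, hk, hkc⟩ := (Nat.dvd_prime_pow hp.out).mp hdvd
    interval_cases k
    · exfalso
      apply hZne
      rw [Subgroup.eq_bot_iff_card, hkc, pow_zero]
    · rw [hkc, pow_one]
    · exfalso
      apply hAc
      have : Z = A := Subgroup.eq_of_le_of_card_ge hZA (by rw [hkc, hA2])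
      rw [← this]; exact hZc
  refine ⟨Z, hZA, hZc, hZcard, ?_⟩
  haveI hZn : Z.Normal := by rw [hZdef]; infer_instance
  -- the image of `A` in `R ⧸ Z` has order `p`, hence is central
  set Abar : Subgroup (R ⧸ Z) := A.map (QuotientGroup.mk' Z) with hAbar
  have hAbarcard : Nat.card Abar = p := by
    have h1 := Cfsg.Agent.Lib.H1.card_map_mk'_mul_of_le (R := Z) (K := A) hZA
    rw [hA2, hZcard, pow_two] at h1
    exact Nat.eq_of_mul_eq_mul_right hp.out.pos h1
  haveI hAbarn : Abar.Normal :=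
    Subgroup.Normal.map hAn _ (QuotientGroup.mk'_surjective Z)
  have hQ : IsPGroup p (R ⧸ Z) := hR.to_quotient Z
  haveI : Group.IsNilpotent (R ⧸ Z) := hQ.isNilpotent
  have hAbarne : Abar ≠ ⊥ := by
    intro h
    rw [Subgroup.eq_bot_iff_card, hAbarcard] at h
    exact hp.out.one_lt.ne' h
  have hne := Cfsg.Agent.Lib.H1.normal_inf_center_ne_bot Abar hAbarne
  have hAbarc : Abar ≤ Subgroup.center (R ⧸ Z) := by
    have hle : Abar ⊓ Subgroup.center (R ⧸ Z) ≤ Abar := inf_le_left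
    have hdvd : Nat.card ↥(Abar ⊓ Subgroup.center (R ⧸ Z)) ∣ p :=
      hAbarcard ▸ Subgroup.card_dvd_of_le hle
    rcases (Nat.dvd_prime hp.out).mp hdvd with h1 | h1
    · exact absurd ((Subgroup.eq_bot_iff_card _).mpr h1) hne
    · have : Abar ⊓ Subgroup.center (R ⧸ Z) = Abar :=
        Subgroup.eq_of_le_of_card_ge hle (by rw [h1, hAbarcard])
      rw [← this]; exact inf_le_right
  intro a ha g
  have hmem : (QuotientGroup.mk' Z a) ∈ Subgroup.center (R ⧸ Z) :=
    hAbarc (Subgroup.mem_map_of_mem _ ha)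
  rw [Subgroup.mem_center_iff] at hmem
  have h2 := hmem (QuotientGroup.mk' Z g)
  rw [← QuotientGroup.eq_one_iff (N := Z)]
  have : ((a⁻¹ * g⁻¹ * a * g : R) : R ⧸ Z)
      = (QuotientGroup.mk' Z a)⁻¹ * (QuotientGroup.mk' Z g)⁻¹ *
        ((QuotientGroup.mk' Z a) * (QuotientGroup.mk' Z g)) := by
    simp [mul_assoc]
  rw [this, ← h2]
  group

/-- If `g` commutes with some `a₀ ∈ A \ Z`, then `g` centralizes `A`. -/
theorem mem_centralizer_of_commute
    (A : Subgroup R) (hA2 : Nat.card A = p ^ 2)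
    (Z : Subgroup R) (hZA : Z ≤ A) (hZc : Z ≤ Subgroup.center R) (hZcard : Nat.card Z = p)
    (a₀ : R) (ha₀ : a₀ ∈ A) (ha₀Z : a₀ ∉ Z) (g : R) (hg : g * a₀ = a₀ * g) :
    g ∈ Subgroup.centralizer (A : Set R) := by
  set B : Subgroup R := A ⊓ Subgroup.centralizer ({g} : Set R) with hB
  have hBA : B ≤ A := inf_le_left
  have hZB : Z ≤ B := by
    apply le_inf hZA
    intro z hz
    rw [Subgroup.mem_centralizer_iff]
    intro h hh
    rw [Set.mem_singleton_iff] at hh
    subst hh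
    exact ((Subgroup.mem_center_iff.mp (hZc hz)) h)
  have ha₀B : a₀ ∈ B := by
    refine Subgroup.mem_inf.mpr ⟨ha₀, ?_⟩
    rw [Subgroup.mem_centralizer_iff]
    intro h hh
    rw [Set.mem_singleton_iff] at hh
    subst hh
    exact hg
  have hZltB : Z < B := lt_of_le_of_ne hZB (fun h => ha₀Z (h ▸ ha₀B))
  have hcardlt : Nat.card Z < Nat.card B := by
    by_contra hcon
    push Not at hcon
    exact hZltB.ne (Subgroup.eq_of_le_of_card_ge hZB hcon)
  have hdvd : Nat.card B ∣ p ^ 2 := hA2 ▸ Subgroup.card_dvd_of_le hBA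
  obtain ⟨k, hk, hkc⟩ := (Nat.dvd_prime_pow hp.out).mp hdvd
  have hk2 : k = 2 := by
    rw [hZcard, hkc] at hcardlt
    interval_cases k
    · simp at hcardlt
      exact absurd hcardlt (by have := hp.out.one_lt; omega)
    · simp at hcardlt
    · rfl
  have hBeq : B = A := Subgroup.eq_of_le_of_card_ge hBA (by rw [hkc, hk2, hA2])
  rw [Subgroup.mem_centralizer_iff]
  intro a ha
  have : a ∈ B := hBeq ▸ ha
  have h2 := (Subgroup.mem_inf.mp this).2
  rw [Subgroup.mem_centralizer_iff] at h2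
  exact (h2 g rfl).symm

/-- the commutator map `g ↦ [a₀, g]` as a homomorphism (its values are central). -/
def commHom (a₀ : R) (h : ∀ g : R, a₀⁻¹ * g⁻¹ * a₀ * g ∈ Subgroup.center R) : R →* R where
  toFun g := a₀⁻¹ * g⁻¹ * a₀ * g
  map_one' := by simp
  map_mul' g k := by
    have hc := Subgroup.mem_center_iff.mp (h g)
    -- [a₀, g k] = k⁻¹ [a₀, g] k [a₀,k]-ish
    calc a₀⁻¹ * (g * k)⁻¹ * a₀ * (g * k)
        = a₀⁻¹ * k⁻¹ * a₀ * ((a₀⁻¹ * g⁻¹ * a₀ * g) * k) := by group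
      _ = a₀⁻¹ * k⁻¹ * a₀ * (k * (a₀⁻¹ * g⁻¹ * a₀ * g)) := by rw [hc k]
      _ = (a₀⁻¹ * k⁻¹ * a₀ * k) * (a₀⁻¹ * g⁻¹ * a₀ * g) := by group
      _ = (a₀⁻¹ * g⁻¹ * a₀ * g) * (a₀⁻¹ * k⁻¹ * a₀ * k) := by
          rw [hc (a₀⁻¹ * k⁻¹ * a₀ * k)]

theorem commHom_apply (a₀ : R) (h : ∀ g : R, a₀⁻¹ * g⁻¹ * a₀ * g ∈ Subgroup.center R) (g : R) :
    commHom a₀ h g = a₀⁻¹ * g⁻¹ * a₀ * g := rfl

/-- `R = ⟨x⟩ C_R(A)` when `x` does not centralize `A`. -/
theorem exists_zpow_mul_mem (hR : IsPGroup p R)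
    (A : Subgroup R) [hAn : A.Normal] (hA2 : Nat.card A = p ^ 2)
    (x : R) (hxC : x ∉ Subgroup.centralizer (A : Set R)) (w : R) :
    ∃ k : ℤ, (x ^ k)⁻¹ * w ∈ Subgroup.centralizer (A : Set R) := by
  have hAc : ¬ A ≤ Subgroup.center R := by
    intro h
    apply hxC
    rw [Subgroup.mem_centralizer_iff]
    intro a ha
    exact (Subgroup.mem_center_iff.mp (h ha) x).symm
  obtain ⟨Z, hZA, hZc, hZcard, hcomm⟩ := exists_central hR A hA2 hAc
  -- pick a₀ ∈ A \ Z
  have hex : ∃ a₀ ∈ A, a₀ ∉ Z := by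
    by_contra hcon
    push Not at hcon
    have : A ≤ Z := hcon
    exact hAc (this.trans hZc)
  obtain ⟨a₀, ha₀, ha₀Z⟩ := hex
  have hψZ : ∀ g : R, a₀⁻¹ * g⁻¹ * a₀ * g ∈ Z := fun g => hcomm a₀ ha₀ g
  have hψc : ∀ g : R, a₀⁻¹ * g⁻¹ * a₀ * g ∈ Subgroup.center R := fun g => hZc (hψZ g)
  set ψ := commHom a₀ hψc with hψ
  have hker : ∀ g : R, ψ g = 1 → g ∈ Subgroup.centralizer (A : Set R) := by
    intro g hg
    apply mem_centralizer_of_commute A hA2 Z hZA hZc hZcard a₀ ha₀ ha₀Z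
    rw [hψ, commHom_apply] at hg
    have : a₀ * g = g * a₀ * (a₀⁻¹ * g⁻¹ * a₀ * g) := by group
    rw [hg, mul_one] at this
    exact this.symm
  have hψx : ψ x ≠ 1 := fun h => hxC (hker x h)
  -- `Z` has prime order, so `ψ w` is a power of `ψ x`
  have hmem : (⟨ψ w, hψZ w⟩ : Z) ∈ Subgroup.zpowers (⟨ψ x, hψZ x⟩ : Z) := by
    apply mem_zpowers_of_prime_card hZcard
    intro h
    apply hψx
    exact congrArg Subtype.val h
  obtain ⟨k, hk⟩ := Subgroup.mem_zpowers_iff.mp hmem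
  have hk' : (ψ x) ^ k = ψ w := by
    have := congrArg Subtype.val hk
    simpa using this
  refine ⟨k, hker _ ?_⟩
  rw [map_mul, map_inv, map_zpow, hk', inv_mul_cancel]

/-- `A⟨x⟩` has exponent `p`. -/
theorem pow_eq_one_of_mem_sup (hp3 : 3 < p) (hR : IsPGroup p R)
    (A : Subgroup R) [hAn : A.Normal] (hA : Cfsg.IsElementaryAbelian p A)
    (hA2 : Nat.card A = p ^ 2)
    (x : R) (hx : x ^ p = 1) (g : R) (hg : g ∈ A ⊔ Subgroup.zpowers x) : g ^ p = 1 := by
  obtain ⟨a, ha, h, hh, rfl⟩ := Subgroup.mem_sup_of_normal_left.mp hg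
  have hhp : h ^ p = 1 := by
    obtain ⟨k, rfl⟩ := Subgroup.mem_zpowers_iff.mp hh
    rw [← zpow_natCast, ← zpow_mul, mul_comm, zpow_mul, zpow_natCast, hx, one_zpow]
  by_cases hAc : A ≤ Subgroup.center R
  · have hcomm : Commute a h := (Subgroup.mem_center_iff.mp (hAc ha) h).symm
    rw [hcomm.mul_pow, hA.2 a ha, hhp, mul_one]
  · obtain ⟨Z, hZA, hZc, hZcard, hcomm⟩ := exists_central hR A hA2 hAc
    set a' := h⁻¹ * a * h with ha'
    have ha'A : a' ∈ A := hAn.conj_mem' a ha h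
    set c₁ := a'⁻¹ * h⁻¹ * a' * h with hc₁
    have hc₁Z : c₁ ∈ Z := hcomm a' ha'A h
    have hc₁c := Subgroup.mem_center_iff.mp (hZc hc₁Z)
    have e : a * h = h * a' := by rw [ha']; group
    rw [e]
    have := pow_p_formula (p := p) hp3 h a' c₁ 1 (hc₁c a') (Commute.one_right _)
      (Commute.one_right _) (by rw [hc₁]; group) (by rw [mul_one]; exact (hc₁c h).symm)
      (by simp) (hA.2 c₁ (hZA hc₁Z)) (one_pow p)
    rw [this, hhp, hA.2 a' ha'A, mul_one]

/-- The key step: if `x ∉ C_R(A)` then every element of order `p` lies in `A⟨x⟩`. -/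
theorem key (hp3 : 3 < p) (hR : IsPGroup p R)
    (hrk : ∀ E : Subgroup R, Cfsg.IsElementaryAbelian p E → Nat.card E ≤ p ^ 2)
    (IH : ∀ M : Subgroup R, M ≠ ⊤ → ∀ u v : R, u ∈ M → v ∈ M → u ^ p = 1 → v ^ p = 1 →
      (u * v) ^ p = 1)
    (A : Subgroup R) [hAn : A.Normal] (hA : Cfsg.IsElementaryAbelian p A)
    (hA2 : Nat.card A = p ^ 2)
    (x y : R) (hxC : x ∉ Subgroup.centralizer (A : Set R)) (hx : x ^ p = 1) (hy : y ^ p = 1) :
    (x * y) ^ p = 1 := by
  set K : Subgroup R := A ⊔ Subgroup.zpowers x with hK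
  have hxK : x ∈ K := Subgroup.mem_sup_right (Subgroup.mem_zpowers x)
  have hKexp : ∀ g ∈ K, g ^ p = 1 := fun g hg => pow_eq_one_of_mem_sup hp3 hR A hA hA2 x hx g hg
  suffices hyK : y ∈ K from hKexp _ (K.mul_mem hxK hyK)
  by_cases hKtop : K = ⊤
  · rw [hKtop]; exact Subgroup.mem_top y
  obtain ⟨M, hM, hKM⟩ := (eq_top_or_exists_le_coatom K).resolve_left hKtop
  haveI hMn : M.Normal := Cfsg.Agent.Lib.H1.isPGroup_coatom_normal hR hM
  have hAc : ¬ A ≤ Subgroup.center R := by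
    intro h
    apply hxC
    rw [Subgroup.mem_centralizer_iff]
    intro a ha
    exact (Subgroup.mem_center_iff.mp (h ha) x).symm
  obtain ⟨Z, hZA, hZc, hZcard, hcomm⟩ := exists_central hR A hA2 hAc
  have hpowx : ∀ k : ℤ, (x ^ k) ^ p = 1 := by
    intro k
    rw [← zpow_natCast, ← zpow_mul, mul_comm, zpow_mul, zpow_natCast, hx, one_zpow]
  have hpowK : ∀ k : ℤ, x ^ k ∈ K := fun k => K.zpow_mem hxK k
  -- elements of order `p` in `M` lie in `K`
  have hsub : ∀ w ∈ M, w ^ p = 1 → w ∈ K := by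
    intro w hw hwp
    obtain ⟨k, hk⟩ := exists_zpow_mul_mem hR A hA2 x hxC w
    have h1 : ((x ^ k)⁻¹ * w) ^ p = 1 :=
      IH M hM.1 _ _ (M.inv_mem (hKM (hpowK k))) hw (by rw [inv_pow, hpowx, inv_one]) hwp
    have h2 : (x ^ k)⁻¹ * w ∈ A := mem_of_centralizes hrk A hA hA2 _ hk h1
    have : w = x ^ k * ((x ^ k)⁻¹ * w) := by group
    rw [this]
    exact K.mul_mem (hpowK k) (Subgroup.mem_sup_left h2)
  obtain ⟨k, hk⟩ := exists_zpow_mul_mem hR A hA2 x hxC y
  set x' := x ^ k with hx'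
  set c := x'⁻¹ * y with hc
  have hyc : y = x' * c := by rw [hc]; group
  have hx'K : x' ∈ K := hpowK k
  have hx'p : x' ^ p = 1 := hpowx k
  set c₁ := c⁻¹ * x'⁻¹ * c * x' with hc₁
  have hc₁K : c₁ ∈ K := by
    have h1 : c⁻¹ * x'⁻¹ * c ∈ M := by
      have := hMn.conj_mem x'⁻¹ (M.inv_mem (hKM hx'K)) c⁻¹
      simpa using this
    have h2 : (c⁻¹ * x'⁻¹ * c) ^ p = 1 := by
      have : c⁻¹ * x'⁻¹ * c = c⁻¹ * x'⁻¹ * c⁻¹⁻¹ := by rw [inv_inv]
      rw [this, conj_pow, inv_pow, hx'p]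
      simp
    exact K.mul_mem (hsub _ h1 h2) hx'K
  have hc₁C : c₁ ∈ Subgroup.centralizer (A : Set R) := by
    have hCn : (Subgroup.centralizer (A : Set R)).Normal := inferInstance
    have h1 : x'⁻¹ * c * x' ∈ Subgroup.centralizer (A : Set R) := hCn.conj_mem' c hk x'
    have : c₁ = c⁻¹ * (x'⁻¹ * c * x') := by rw [hc₁]; group
    rw [this]
    exact Subgroup.mul_mem _ (Subgroup.inv_mem _ hk) h1
  have hc₁A : c₁ ∈ A := mem_of_centralizes hrk A hA hA2 _ hc₁C (hKexp _ hc₁K)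
  set c₂ := c₁⁻¹ * x'⁻¹ * c₁ * x' with hc₂
  have hc₂Z : c₂ ∈ Z := hcomm c₁ hc₁A x'
  have hc₂c := Subgroup.mem_center_iff.mp (hZc hc₂Z)
  have hcc₁ : Commute c c₁ := by
    have := Subgroup.mem_centralizer_iff.mp hk c₁ hc₁A
    exact this.symm
  have hform := pow_p_formula (p := p) hp3 x' c c₁ c₂ hcc₁ (hc₂c c) (hc₂c c₁)
    (by rw [hc₁]; group) (by rw [hc₂]; group) (hc₂c x').symm (hA.2 c₁ hc₁A)
    (hA.2 c₂ (hZA hc₂Z))
  rw [← hyc, hy, hx'p, one_mul] at hform
  have hcA : c ∈ A := mem_of_centralizes hrk A hA hA2 _ hk hform.symm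
  rw [hyc]
  exact K.mul_mem hx'K (Subgroup.mem_sup_left hcA)

end pgroup

/-- products of elements of order dividing `p` have order dividing `p`. -/
theorem pairs {p : ℕ} [hp : Fact p.Prime] (hp3 : 3 < p) :
    ∀ (n : ℕ) {R : Type u} [Group R] [Finite R], Nat.card R = n → IsPGroup p R →
      (∀ E : Subgroup R, Cfsg.IsElementaryAbelian p E → Nat.card E ≤ p ^ 2) →
      ∀ x y : R, x ^ p = 1 → y ^ p = 1 → (x * y) ^ p = 1 := by
  intro n
  induction n using Nat.strong_induction_on with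
  | _ n ih =>
    intro R _ _ hn hR hrk x y hx hy
    by_cases hcyc : IsCyclic R
    · have hcomm : Commute x y := by
        haveI := hcyc
        exact (IsCyclic.commutative (α := R)).is_comm.comm x y
      rw [hcomm.mul_pow, hx, hy, mul_one]
    · obtain ⟨A, hAn, hA, hA2⟩ := Cfsg.Agent.S0126.result (p := p) (by omega) hR hcyc
      have IH : ∀ M : Subgroup R, M ≠ ⊤ → ∀ u v : R, u ∈ M → v ∈ M → u ^ p = 1 → v ^ p = 1 →
          (u * v) ^ p = 1 := by
        intro M hM u v hu hv hup hvp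
        have hlt : Nat.card M < n := by
          rw [← hn]
          exact Cfsg.Agent.Lib.H1.card_lt_of_ne_top hM
        have hrkM : ∀ E : Subgroup M, Cfsg.IsElementaryAbelian p E → Nat.card E ≤ p ^ 2 := by
          intro E hE
          have hE' : Cfsg.IsElementaryAbelian p (E.map M.subtype) := by
            refine ⟨?_, ?_⟩
            · haveI := hE.1
              infer_instance
            · rintro _ ⟨e, he, rfl⟩
              have := hE.2 e he
              have h2 := congrArg Subtype.val this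
              simpa using h2
          have := hrk _ hE'
          rwa [Subgroup.card_map_of_injective M.subtype_injective] at this
        have := ih (Nat.card M) hlt (R := M) rfl (hR.to_subgroup M) hrkM ⟨u, hu⟩ ⟨v, hv⟩
          (Subtype.ext (by simpa using hup)) (Subtype.ext (by simpa using hvp))
        have h2 := congrArg Subtype.val this
        simpa using h2
      by_cases hxC : x ∈ Subgroup.centralizer (A : Set R)
      · by_cases hyC : y ∈ Subgroup.centralizer (A : Set R)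
        · have hxA := mem_of_centralizes hrk A hA hA2 x hxC hx
          have hyA := mem_of_centralizes hrk A hA hA2 y hyC hy
          exact hA.2 _ (A.mul_mem hxA hyA)
        · have h1 := key hp3 hR hrk IH A hA hA2 y x hyC hy hx
          have : x * y = x * (y * x) * x⁻¹ := by group
          rw [this, conj_pow, h1]
          simp
      · exact key hp3 hR hrk IH A hA hA2 x y hxC hx hy



/-- For p > 3, in a p-group of p-rank at most 2 the elements of order dividing p generate a subgroup of exponent dividing p. -/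
theorem result {R : Type*} [Group R] [Finite R] {p : ℕ} [Fact p.Prime] (hp : 3 < p) (hR : IsPGroup p R) (hrk : ∀ E : Subgroup R, Cfsg.IsElementaryAbelian p E → Nat.card E ≤ p ^ 2) (g : R) (hg : g ∈ Subgroup.closure {x : R | x ^ p = 1}) : g ^ p = 1 := by
  have hpairs : ∀ x y : R, x ^ p = 1 → y ^ p = 1 → (x * y) ^ p = 1 :=
    pairs hp (Nat.card R) rfl hR hrk
  induction hg using Subgroup.closure_induction with
  | mem x hx => exact hx
  | one => exact one_pow p
  | mul x y _ _ hx hy => exact hpairs x y hx hy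
  | inv x _ hx => rw [inv_pow, hx, inv_one]

end Cfsg.Agent.S0128
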