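import Cfsg.Statements.S0122
import Mathlib
import Cfsg.Agent.S0128
import Cfsg.Agent.S0130
import Cfsg.Agent.Lib.H22.NormalSeries
import Cfsg.Agent.Lib.H19.ProdCard
import Cfsg.Agent.Lib.H1.Complement

set_option autoImplicit false
open Cfsg

namespace Cfsg.Agent.S0122

variable {G : Type*} [Group G] [Finite G] {p : ℕ} [hp : Fact p.Prime]

theorem isElementaryAbelian_of_le {X Y : Subgroup G} (hY : Cfsg.IsElementaryAbelian p Y)
    (hXY : X ≤ Y) : Cfsg.IsElementaryAbelian p X := by
  refine ⟨?_, fun a ha => hY.2 a (hXY ha)⟩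
  have hYc := Subgroup.le_centralizer_iff_isMulCommutative.mpr hY.1
  rw [← Subgroup.le_centralizer_iff_isMulCommutative]
  exact hXY.trans (hYc.trans (Subgroup.centralizer_le hXY))

theorem commute_of_mem {X : Subgroup G} (hX : Cfsg.IsElementaryAbelian p X) {x y : G}
    (hx : x ∈ X) (hy : y ∈ X) : x * y = y * x := by
  have := hX.1.is_comm.comm (⟨x, hx⟩ : X) ⟨y, hy⟩
  exact congrArg Subtype.val this

/-- the join of two elementary abelian subgroups centralizing each other, one of them normal. -/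
theorem isElementaryAbelian_sup {X Y : Subgroup G} [Y.Normal]
    (hX : Cfsg.IsElementaryAbelian p X) (hY : Cfsg.IsElementaryAbelian p Y)
    (hXY : X ≤ Subgroup.centralizer (Y : Set G)) : Cfsg.IsElementaryAbelian p (X ⊔ Y) := by
  have hXc := Subgroup.le_centralizer_iff_isMulCommutative.mpr hX.1
  have hYc := Subgroup.le_centralizer_iff_isMulCommutative.mpr hY.1
  refine ⟨?_, ?_⟩
  · rw [← Subgroup.le_centralizer_iff_isMulCommutative]
    apply sup_le
    · rw [Subgroup.le_centralizer_iff]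
      exact sup_le hXc (Subgroup.le_centralizer_iff.mp hXY)
    · rw [Subgroup.le_centralizer_iff]
      exact sup_le hXY hYc
  · intro g hg
    obtain ⟨x, hx, y, hy, rfl⟩ := Subgroup.mem_sup_of_normal_right.mp hg
    have hcomm : Commute x y := by
      have := hXY hx
      rw [Subgroup.mem_centralizer_iff] at this
      exact (this y hy).symm
    rw [hcomm.mul_pow, hX.2 x hx, hY.2 y hy, mul_one]

/-- **Step lemma**: if `N = M⟨b⟩` with `M` abelian, `[b, H] ≤ M` and `H` centralizes `M`, then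
`|H| ≤ |M| |C_H(N)|`. -/
theorem card_le_of_step (M N H : Subgroup G) (b : G)
    (hMab : ∀ x ∈ M, ∀ y ∈ M, x * y = y * x)
    (hN : N = M ⊔ Subgroup.zpowers b)
    (hcomm : ∀ h ∈ H, b⁻¹ * h⁻¹ * b * h ∈ M)
    (hHM : H ≤ Subgroup.centralizer (M : Set G)) :
    Nat.card H ≤ Nat.card M * Nat.card (H ⊓ Subgroup.centralizer (N : Set G) : Subgroup G) := by
  let ψ : H →* G :=
    { toFun := fun h => b⁻¹ * (h : G)⁻¹ * b * h
      map_one' := by simp
      map_mul' := by
        intro h k
        have hmh := hcomm h h.2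
        have hmk := hcomm k k.2
        have hk := Subgroup.mem_centralizer_iff.mp (hHM k.2) _ hmh
        have hab := hMab _ hmh _ hmk
        calc b⁻¹ * ((h * k : H) : G)⁻¹ * b * ((h * k : H) : G)
            = b⁻¹ * (k : G)⁻¹ * b * ((b⁻¹ * (h : G)⁻¹ * b * h) * k) := by
              simp only [Subgroup.coe_mul]; group
          _ = b⁻¹ * (k : G)⁻¹ * b * (k * (b⁻¹ * (h : G)⁻¹ * b * h)) := by rw [hk]
          _ = (b⁻¹ * (k : G)⁻¹ * b * k) * (b⁻¹ * (h : G)⁻¹ * b * h) := by group
          _ = (b⁻¹ * (h : G)⁻¹ * b * h) * (b⁻¹ * (k : G)⁻¹ * b * k) := by rw [hab] }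
  have hψ : ∀ h : H, ψ h = b⁻¹ * (h : G)⁻¹ * b * h := fun _ => rfl
  have h1 : Nat.card ψ.ker * Nat.card ψ.range = Nat.card H := by
    rw [← Subgroup.index_ker]
    exact Subgroup.card_mul_index ψ.ker
  have h2 : Nat.card ψ.range ≤ Nat.card M := by
    apply Subgroup.card_le_of_le
    rintro _ ⟨h, rfl⟩
    exact hcomm h h.2
  have h3 : Nat.card ψ.ker ≤ Nat.card (H ⊓ Subgroup.centralizer (N : Set G) : Subgroup G) := by
    rw [← Subgroup.card_map_of_injective H.subtype_injective]
    apply Subgroup.card_le_of_le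
    rintro _ ⟨x, hx, rfl⟩
    refine Subgroup.mem_inf.mpr ⟨x.2, ?_⟩
    have hx1 : b⁻¹ * (x : G)⁻¹ * b * x = 1 := by
      have := MonoidHom.mem_ker.mp hx
      rwa [hψ] at this
    have hxb : b * (x : G) = x * b := by
      have : b * (x : G) = x * b * (b⁻¹ * (x : G)⁻¹ * b * x) := by group
      rw [this, hx1, mul_one]
    have hle : N ≤ Subgroup.centralizer ({(x : G)} : Set G) := by
      rw [hN]
      apply sup_le
      · intro m hm
        rw [Subgroup.mem_centralizer_iff]
        intro y hy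
        rw [Set.mem_singleton_iff] at hy
        subst hy
        exact (Subgroup.mem_centralizer_iff.mp (hHM x.2) m hm).symm
      · rw [Subgroup.zpowers_le, Subgroup.mem_centralizer_iff]
        intro y hy
        rw [Set.mem_singleton_iff] at hy
        subst hy
        exact hxb.symm
    rw [Subgroup.coe_subtype, Subgroup.mem_centralizer_iff]
    intro n hn
    have := Subgroup.mem_centralizer_iff.mp (hle hn) (x : G) rfl
    exact this.symm
  calc Nat.card H = Nat.card ψ.ker * Nat.card ψ.range := h1.symm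
    _ ≤ Nat.card (H ⊓ Subgroup.centralizer (N : Set G) : Subgroup G) * Nat.card M :=
        Nat.mul_le_mul h3 h2
    _ = _ := mul_comm _ _

/-- The configuration: `A` normal elementary abelian of order `p³` containing all elements of
order `p` of its centralizer, `B` normal of order `p²` in `A` with `[A, G] ≤ B`. -/
structure Ctx (p : ℕ) (A B : Subgroup G) (a₃ : G) : Prop where
  hA : Cfsg.IsElementaryAbelian p A
  hAcard : Nat.card A = p ^ 3
  hBcard : Nat.card B = p ^ 2
  hBA : B ≤ A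
  ha₃ : A = B ⊔ Subgroup.zpowers a₃
  hAB : ∀ h : G, a₃⁻¹ * h⁻¹ * a₃ * h ∈ B
  alp : ∀ x ∈ Subgroup.centralizer (A : Set G), x ^ p = 1 → x ∈ A

namespace Ctx

variable {A B : Subgroup G} {a₃ : G}

theorem hB (c : Ctx p A B a₃) : Cfsg.IsElementaryAbelian p B :=
  isElementaryAbelian_of_le c.hA c.hBA

/-- a subgroup of exponent `p` centralizing `B` has order at most `p² |F ∩ A|`. -/
theorem card_le (c : Ctx p A B a₃) (F : Subgroup G) (hFe : ∀ x ∈ F, x ^ p = 1)
    (hFB : F ≤ Subgroup.centralizer (B : Set G)) :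
    Nat.card F ≤ p ^ 2 * Nat.card (F ⊓ A : Subgroup G) := by
  have h1 := card_le_of_step B A F a₃ (fun x hx y hy => commute_of_mem c.hB hx hy) c.ha₃
    (fun h _ => c.hAB h) hFB
  have h2 : Nat.card (F ⊓ Subgroup.centralizer (A : Set G) : Subgroup G)
      ≤ Nat.card (F ⊓ A : Subgroup G) := by
    apply Subgroup.card_le_of_le
    intro x hx
    obtain ⟨hxF, hxC⟩ := Subgroup.mem_inf.mp hx
    exact Subgroup.mem_inf.mpr ⟨hxF, c.alp x hxC (hFe x hxF)⟩
  calc Nat.card F ≤ Nat.card B * Nat.card (F ⊓ Subgroup.centralizer (A : Set G) : Subgroup G) := h1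
    _ ≤ p ^ 2 * Nat.card (F ⊓ A : Subgroup G) := by
        rw [c.hBcard]; exact Nat.mul_le_mul_left _ h2

/-- an elementary abelian subgroup of order at least `p⁴` meets `A` in at most `p²` elements. -/
theorem card_inf_le (c : Ctx p A B a₃) (F : Subgroup G) (hF : Cfsg.IsElementaryAbelian p F)
    (hF4 : p ^ 4 ≤ Nat.card F) : Nat.card (F ⊓ A : Subgroup G) ≤ p ^ 2 := by
  have hdvd : Nat.card (F ⊓ A : Subgroup G) ∣ p ^ 3 :=
    c.hAcard ▸ Subgroup.card_dvd_of_le (inf_le_right : F ⊓ A ≤ A)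
  obtain ⟨k, hk, hkc⟩ := (Nat.dvd_prime_pow hp.out).mp hdvd
  have hk3 : k ≠ 3 := by
    intro h3
    have hAF : A ≤ F := by
      have : F ⊓ A = A := Subgroup.eq_of_le_of_card_ge inf_le_right (by rw [hkc, h3, c.hAcard])
      rw [← this]; exact inf_le_left
    have hFA : F ≤ A := by
      intro x hx
      apply c.alp x _ (hF.2 x hx)
      rw [Subgroup.mem_centralizer_iff]
      intro a ha
      exact commute_of_mem hF (hAF ha) hx
    have := Subgroup.card_le_of_le hFA
    rw [c.hAcard] at this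
    have h34 : p ^ 3 < p ^ 4 := Nat.pow_lt_pow_right hp.out.one_lt (by norm_num)
    omega
  rw [hkc]
  exact Nat.pow_le_pow_right hp.out.pos (by omega)

theorem card_le_four (c : Ctx p A B a₃) (F : Subgroup G) (hF : Cfsg.IsElementaryAbelian p F)
    (hFB : F ≤ Subgroup.centralizer (B : Set G)) : Nat.card F ≤ p ^ 4 := by
  by_contra hcon
  push Not at hcon
  have h1 := c.card_le F hF.2 hFB
  have h2 := c.card_inf_le F hF hcon.le
  have : p ^ 2 * Nat.card (F ⊓ A : Subgroup G) ≤ p ^ 2 * p ^ 2 := Nat.mul_le_mul_left _ h2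
  have h4 : p ^ 2 * p ^ 2 = p ^ 4 := by ring
  omega

end Ctx

/-- In the configuration, an elementary abelian subgroup of order `p⁴` containing `B` is normal. -/
theorem normal_of (hp2 : p ≠ 2) (hG : IsPGroup p G) {A B : Subgroup G} {a₃ : G}
    (c : Ctx p A B a₃) [hBn : B.Normal]
    (F : Subgroup G) (hF : Cfsg.IsElementaryAbelian p F) (hF4 : Nat.card F = p ^ 4)
    (hBF : B ≤ F) : F.Normal := by
  rw [← Subgroup.normalizer_eq_top_iff]
  by_contra hN
  haveI : Group.IsNilpotent G := hG.isNilpotent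
  obtain ⟨N, hNdef⟩ : ∃ N, N = Subgroup.normalizer (F : Set G) := ⟨_, rfl⟩
  rw [← hNdef] at hN
  have hlt : N < Subgroup.normalizer (N : Set G) :=
    Group.normalizerCondition_of_isNilpotent N (lt_top_iff_ne_top.mpr hN)
  obtain ⟨g, hgN, hgF⟩ := SetLike.exists_of_lt hlt
  obtain ⟨F', hF'def⟩ : ∃ F', F' = F.map (MulAut.conj g).toMonoidHom := ⟨_, rfl⟩
  have hNmap : N.map (MulAut.conj g).toMonoidHom = N :=
    Subgroup.mem_normalizer_iff_map_conj_eq.mp hgN
  have hFN : F ≤ N := hNdef ▸ Subgroup.le_normalizer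
  have hF'N : F' ≤ N := by
    rw [hF'def, ← hNmap]
    exact Subgroup.map_mono hFN
  have hNF' : Subgroup.normalizer (F' : Set G) = N := by
    rw [hF'def, ← Subgroup.map_equiv_normalizer_eq, ← hNdef, hNmap]
  have hne : F' ≠ F := by
    intro h
    apply hgF
    rw [hNdef, Subgroup.mem_normalizer_iff_map_conj_eq]
    rw [hF'def] at h
    exact h
  -- basic properties of F'
  have hF'mem : ∀ y, y ∈ F' ↔ ∃ x ∈ F, g * x * g⁻¹ = y := by
    intro y
    rw [hF'def, Subgroup.mem_map]
    rfl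
  have hF'e : Cfsg.IsElementaryAbelian p F' := by
    have hc : F' ≤ Subgroup.centralizer (F' : Set G) := by
      intro y hy
      rw [Subgroup.mem_centralizer_iff]
      intro z hz
      obtain ⟨x, hx, rfl⟩ := (hF'mem y).mp hy
      obtain ⟨w, hw, rfl⟩ := (hF'mem z).mp hz
      have := commute_of_mem hF hw hx
      calc g * w * g⁻¹ * (g * x * g⁻¹) = g * (w * x) * g⁻¹ := by group
        _ = g * (x * w) * g⁻¹ := by rw [this]
        _ = g * x * g⁻¹ * (g * w * g⁻¹) := by group
    refine ⟨Subgroup.le_centralizer_iff_isMulCommutative.mp hc, ?_⟩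
    intro y hy
    obtain ⟨x, hx, rfl⟩ := (hF'mem y).mp hy
    rw [conj_pow, hF.2 x hx]
    group
  have hF'4 : Nat.card F' = p ^ 4 := by
    rw [hF'def, Subgroup.card_map_of_injective (MulAut.conj g).injective, hF4]
  have hBF' : B ≤ F' := by
    intro b hb
    rw [hF'mem]
    refine ⟨g⁻¹ * b * g, hBF (hBn.conj_mem' b hb g), by group⟩
  have hFB : F ≤ Subgroup.centralizer (B : Set G) := by
    intro x hx
    rw [Subgroup.mem_centralizer_iff]
    intro b hb
    exact commute_of_mem hF (hBF hb) hx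
  have hF'B : F' ≤ Subgroup.centralizer (B : Set G) := by
    intro x hx
    rw [Subgroup.mem_centralizer_iff]
    intro b hb
    exact commute_of_mem hF'e (hBF' hb) hx
  -- `L = F F'` and `D = F ∩ F'`
  obtain ⟨L, hLdef⟩ : ∃ L, L = F ⊔ F' := ⟨_, rfl⟩
  obtain ⟨D, hDdef⟩ : ∃ D, D = F ⊓ F' := ⟨_, rfl⟩
  have hF'nF : F' ≤ Subgroup.normalizer (F : Set G) := hNdef ▸ hF'N
  have hFnF' : F ≤ Subgroup.normalizer (F' : Set G) := hNF'.symm ▸ hFN
  have hLexp : ∀ l ∈ L, l ^ p = 1 := by
    intro l hl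
    rw [hLdef] at hl
    obtain ⟨x, hx, y, hy, rfl⟩ := Cfsg.Agent.Lib.H1.mem_sup_of_le_normalizer hF'nF hl
    obtain ⟨c₁, hc₁⟩ : ∃ c₁, c₁ = y⁻¹ * x⁻¹ * y * x := ⟨_, rfl⟩
    have hc₁F : c₁ ∈ F := by
      rw [hc₁]
      have h1 := (Subgroup.mem_normalizer_iff.mp (hF'nF (F'.inv_mem hy)) x⁻¹).mp (F.inv_mem hx)
      rw [inv_inv] at h1
      exact F.mul_mem h1 hx
    have hc₁F' : c₁ ∈ F' := by
      have h1 := (Subgroup.mem_normalizer_iff.mp (hFnF' (F.inv_mem hx)) y).mp hy
      rw [inv_inv] at h1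
      have : c₁ = y⁻¹ * (x⁻¹ * y * x) := by rw [hc₁]; group
      rw [this]
      exact F'.mul_mem (F'.inv_mem hy) h1
    have hyc : Commute y c₁ := commute_of_mem hF'e hy hc₁F'
    have hxc : c₁ * x = x * c₁ := commute_of_mem hF hc₁F hx
    have hform := Cfsg.Agent.S0128.pow_formula x y c₁ 1 hyc (Commute.one_right _)
      (Commute.one_right _) (by rw [hc₁]; group) (by rw [mul_one]; exact hxc) (by simp) p
    rw [hform, hF.2 x hx, hF'e.2 y hy, one_pow, mul_one, one_mul, one_mul]
    have hp3 : 2 < p := lt_of_le_of_ne hp.out.two_le (Ne.symm hp2)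
    obtain ⟨k2, hk2⟩ := hp.out.dvd_choose_self (k := 2) (by norm_num) hp3
    rw [hk2, pow_mul, hF.2 c₁ hc₁F, one_pow]
  have hLB : L ≤ Subgroup.centralizer (B : Set G) := hLdef ▸ sup_le hFB hF'B
  have hLcard := c.card_le L hLexp hLB
  have hLA : Nat.card (L ⊓ A : Subgroup G) ≤ p ^ 3 :=
    c.hAcard ▸ Subgroup.card_le_of_le inf_le_right
  have hprod : p ^ 4 * p ^ 4 ≤ Nat.card L * Nat.card D := by
    have := Cfsg.Agent.Lib.H19.card_mul_card_le_sup_mul_inf F F'
    rwa [hF4, hF'4, ← hLdef, ← hDdef] at this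
  -- `D` is a proper subgroup of `F`
  have hDF : D ≤ F := hDdef ▸ inf_le_left
  have hDcard : Nat.card D ≤ p ^ 3 := by
    have hdvd : Nat.card D ∣ p ^ 4 := hF4 ▸ Subgroup.card_dvd_of_le hDF
    obtain ⟨k, hk, hkc⟩ := (Nat.dvd_prime_pow hp.out).mp hdvd
    have hk4 : k ≠ 4 := by
      intro h4
      have hDeq : D = F := Subgroup.eq_of_le_of_card_ge hDF (by rw [hkc, h4, hF4])
      have hFF' : F ≤ F' := by
        rw [← hDeq, hDdef]; exact inf_le_right
      exact hne (Subgroup.eq_of_le_of_card_ge hFF' (by rw [hF4, hF'4])).symm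
    rw [hkc]
    exact Nat.pow_le_pow_right hp.out.pos (by omega)
  have hppos : 0 < p := hp.out.pos
  have hLge : p ^ 5 ≤ Nat.card L := by
    by_contra hcon
    push Not at hcon
    have h1 : Nat.card L * Nat.card D < p ^ 5 * p ^ 3 := by
      calc Nat.card L * Nat.card D ≤ Nat.card L * p ^ 3 := Nat.mul_le_mul_left _ hDcard
        _ < p ^ 5 * p ^ 3 := Nat.mul_lt_mul_of_pos_right hcon (pow_pos hppos 3)
    have h2 : p ^ 5 * p ^ 3 = p ^ 4 * p ^ 4 := by ring
    omega
  -- hence `A ≤ L`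
  have hLAeq : L ⊓ A = A := by
    apply Subgroup.eq_of_le_of_card_ge inf_le_right
    rw [c.hAcard]
    by_contra hcon
    push Not at hcon
    have h1 : p ^ 2 * Nat.card (L ⊓ A : Subgroup G) < p ^ 2 * p ^ 3 :=
      Nat.mul_lt_mul_of_pos_left hcon (pow_pos hppos 2)
    have h2 : p ^ 2 * p ^ 3 = p ^ 5 := by ring
    omega
  have hAL : A ≤ L := hLAeq ▸ inf_le_left
  have hLle : Nat.card L ≤ p ^ 5 := by
    have h1 : p ^ 2 * Nat.card (L ⊓ A : Subgroup G) ≤ p ^ 2 * p ^ 3 := Nat.mul_le_mul_left _ hLA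
    have h2 : p ^ 2 * p ^ 3 = p ^ 5 := by ring
    omega
  have hDge : p ^ 3 ≤ Nat.card D := by
    by_contra hcon
    push Not at hcon
    have h1 : Nat.card L * Nat.card D < p ^ 5 * p ^ 3 := by
      calc Nat.card L * Nat.card D ≤ p ^ 5 * Nat.card D := Nat.mul_le_mul_right _ hLle
        _ < p ^ 5 * p ^ 3 := Nat.mul_lt_mul_of_pos_left hcon (pow_pos hppos 5)
    have h2 : p ^ 5 * p ^ 3 = p ^ 4 * p ^ 4 := by ring
    omega
  -- `D` is central in `L`, hence centralizes `A`, hence lies in `A`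
  have hDA : D ≤ A := by
    intro d hd
    rw [hDdef] at hd
    obtain ⟨hdF, hdF'⟩ := Subgroup.mem_inf.mp hd
    apply c.alp d _ (hF.2 d hdF)
    have hLd : L ≤ Subgroup.centralizer ({d} : Set G) := by
      rw [hLdef]
      apply sup_le
      · intro x hx
        rw [Subgroup.mem_centralizer_iff]
        intro y hy
        rw [Set.mem_singleton_iff] at hy
        subst hy
        exact commute_of_mem hF hdF hx
      · intro x hx
        rw [Subgroup.mem_centralizer_iff]
        intro y hy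
        rw [Set.mem_singleton_iff] at hy
        subst hy
        exact commute_of_mem hF'e hdF' hx
    rw [Subgroup.mem_centralizer_iff]
    intro a ha
    exact (Subgroup.mem_centralizer_iff.mp (hLd (hAL ha)) d rfl).symm
  have hDeqA : D = A := Subgroup.eq_of_le_of_card_ge hDA (by rw [c.hAcard]; exact hDge)
  have hAF : A ≤ F := hDeqA ▸ hDF
  have h1 := c.card_inf_le F hF hF4.ge
  have h2 : F ⊓ A = A := inf_eq_right.mpr hAF
  rw [h2, c.hAcard] at h1
  have h23 : p ^ 2 < p ^ 3 := Nat.pow_lt_pow_right hp.out.one_lt (by norm_num)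
  omega

/-- a normal subgroup of order `p` of a `p`-group is central. -/
theorem central_of_card_eq_prime (hG : IsPGroup p G) (N : Subgroup G) [hN : N.Normal]
    (hc : Nat.card N = p) : ∀ g ∈ N, ∀ h : G, g * h = h * g := by
  have hlt : (⊥ : Subgroup G) < N := by
    rw [bot_lt_iff_ne_bot]
    intro h
    rw [h, Subgroup.card_bot] at hc
    exact hp.out.one_lt.ne hc
  obtain ⟨M', -, -, hM'N, hM'c, hcomm, -⟩ := Cfsg.Agent.Lib.H22.exists_normal_step hG ⊥ N hlt
  have hM' : M' = N := Subgroup.eq_of_le_of_card_ge hM'N (by rw [hM'c, hc, Subgroup.card_bot, mul_one])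
  intro g hg h
  have := hcomm g (hM' ▸ hg) h
  rw [Subgroup.mem_bot] at this
  have h2 : g * h = (g * h * g⁻¹ * h⁻¹) * (h * g) := by group
  rw [h2, this, one_mul]

/-- one chief step below a normal subgroup, with its consequences for an abelian-type bound. -/
theorem step_bound (hG : IsPGroup p G) (M N H : Subgroup G) [hM : M.Normal] [hN : N.Normal]
    (hMN : M ≤ N) (hcard : Nat.card N = p * Nat.card M)
    (hMab : ∀ x ∈ M, ∀ y ∈ M, x * y = y * x)
    (hHM : H ≤ Subgroup.centralizer (M : Set G)) :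
    Nat.card H ≤ Nat.card M * Nat.card (H ⊓ Subgroup.centralizer (N : Set G) : Subgroup G) ∧
    ∃ b : G, N = M ⊔ Subgroup.zpowers b ∧ ∀ h : G, b⁻¹ * h⁻¹ * b * h ∈ M := by
  have hlt : M < N := by
    refine lt_of_le_of_ne hMN ?_
    intro h
    rw [← h] at hcard
    have hpos : 0 < Nat.card M := Nat.card_pos
    have : 1 * Nat.card M = p * Nat.card M := by rw [one_mul]; exact hcard
    have := Nat.eq_of_mul_eq_mul_right hpos this
    exact hp.out.one_lt.ne this
  obtain ⟨M', -, -, hM'N, hM'c, hcomm, b, hbM', -, -, hM'b⟩ :=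
    Cfsg.Agent.Lib.H22.exists_normal_step hG M N hlt
  have hM' : M' = N := Subgroup.eq_of_le_of_card_ge hM'N (by rw [hM'c, hcard])
  have hb : ∀ h : G, b⁻¹ * h⁻¹ * b * h ∈ M := by
    intro h
    have := hcomm b⁻¹ (M'.inv_mem hbM') h⁻¹
    simpa using this
  have hNb : N = M ⊔ Subgroup.zpowers b := hM' ▸ hM'b
  exact ⟨card_le_of_step M N H b hMab hNb (fun h _ => hb h) hHM, b, hNb, hb⟩

/-- For odd p, a p-group containing an elementary abelian subgroup of order p^4 has a normal elementary abelian subgroup of order p^4. -/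
theorem result {G : Type*} [Group G] [Finite G] {p : ℕ} [Fact p.Prime] (hp : p ≠ 2) (hG : IsPGroup p G) (E : Subgroup G) (hE : Cfsg.IsElementaryAbelian p E) (hE4 : Nat.card E = p ^ 4) : ∃ A : Subgroup G, A.Normal ∧ Cfsg.IsElementaryAbelian p A ∧ Nat.card A = p ^ 4 := by
  classical
  -- a normal elementary abelian subgroup of largest order
  obtain ⟨A, ⟨hAn, hA⟩, hAmax⟩ := Set.exists_max_image
    {A : Subgroup G | A.Normal ∧ Cfsg.IsElementaryAbelian p A} (fun A => Nat.card A)
    (Set.toFinite _) ⟨⊥, inferInstance, ⟨inferInstance, fun a ha => by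
      rw [Subgroup.mem_bot] at ha; rw [ha, one_pow]⟩⟩
  have alp : ∀ x ∈ Subgroup.centralizer (A : Set G), x ^ p = 1 → x ∈ A := by
    intro x hx hxp
    refine Cfsg.Agent.S0130.result hG 1 (by rw [pow_one]; exact hp) A hA.1
      (fun a ha => by rw [pow_one]; exact hA.2 a ha) ?_ x hx (by rw [pow_one]; exact hxp)
    intro B hBn hBc hBe hAB
    have hB : Cfsg.IsElementaryAbelian p B := ⟨hBc, fun b hb => by
      have := hBe b hb; rwa [pow_one] at this⟩
    exact (Subgroup.eq_of_le_of_card_ge hAB (hAmax B ⟨hBn, hB⟩)).symm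
  have hEA : E ⊓ Subgroup.centralizer (A : Set G) ≤ A := by
    intro x hx
    obtain ⟨hxE, hxC⟩ := Subgroup.mem_inf.mp hx
    exact alp x hxC (hE.2 x hxE)
  have hp1 : 1 < p := (Fact.out : p.Prime).one_lt
  have hppos : 0 < p := (Fact.out : p.Prime).pos
  by_cases hbig : p ^ 4 ≤ Nat.card A
  · obtain ⟨M, hMn, hMA, hMc⟩ := Cfsg.Agent.Lib.H22.exists_normal_card_pow hG A 4 hbig
    exact ⟨M, hMn, isElementaryAbelian_of_le hA hMA, hMc⟩
  push Not at hbig
  obtain ⟨k, hk⟩ := (IsPGroup.iff_card).mp (hG.to_subgroup A)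
  have hk3 : k ≤ 3 := by
    by_contra hcon
    push Not at hcon
    have : p ^ 4 ≤ p ^ k := Nat.pow_le_pow_right hppos hcon
    omega
  have hAab : ∀ x ∈ A, ∀ y ∈ A, x * y = y * x := fun x hx y hy => commute_of_mem hA hx hy
  -- small cases are impossible
  have hsmall : k ≤ 2 → False := by
    intro hk2
    have hE3 : Nat.card E ≤ p ^ 3 := by
      interval_cases k
      · -- A = ⊥
        have hAbot : A = ⊥ := (Subgroup.eq_bot_iff_card A).mpr (by rw [hk, pow_zero])
        have hEle : E ≤ A := by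
          intro x hx
          apply alp x _ (hE.2 x hx)
          rw [hAbot, Subgroup.mem_centralizer_iff]
          intro a ha
          rw [SetLike.mem_coe, Subgroup.mem_bot] at ha
          rw [ha, one_mul, mul_one]
        calc Nat.card E ≤ Nat.card A := Subgroup.card_le_of_le hEle
          _ = 1 := by rw [hk, pow_zero]
          _ ≤ p ^ 3 := Nat.one_le_pow _ _ hppos
      · -- A central of order p
        have hAc := central_of_card_eq_prime hG A (by rw [hk, pow_one])
        have hEle : E ≤ A := by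
          intro x hx
          apply alp x _ (hE.2 x hx)
          rw [Subgroup.mem_centralizer_iff]
          intro a ha
          exact hAc a ha x
        calc Nat.card E ≤ Nat.card A := Subgroup.card_le_of_le hEle
          _ = p ^ 1 := hk
          _ ≤ p ^ 3 := Nat.pow_le_pow_right hppos (by norm_num)
      · -- |A| = p²
        obtain ⟨A₁, hA₁n, hA₁A, hA₁c⟩ := Cfsg.Agent.Lib.H22.exists_normal_card_pow hG A 1
          (by rw [hk]; exact Nat.pow_le_pow_right hppos (by norm_num))
        rw [pow_one] at hA₁c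
        have hA₁cen := central_of_card_eq_prime hG A₁ hA₁c
        have hEA₁ : E ≤ Subgroup.centralizer (A₁ : Set G) := by
          intro x _
          rw [Subgroup.mem_centralizer_iff]
          intro a ha
          exact hA₁cen a ha x
        obtain ⟨h1, -⟩ := step_bound hG A₁ A E hA₁A (by rw [hk, hA₁c]; ring)
          (fun x hx y _ => hA₁cen x hx y) hEA₁
        calc Nat.card E
            ≤ Nat.card A₁ * Nat.card (E ⊓ Subgroup.centralizer (A : Set G) : Subgroup G) := h1
          _ ≤ p * Nat.card A := by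
              rw [hA₁c]; exact Nat.mul_le_mul_left _ (Subgroup.card_le_of_le hEA)
          _ = p ^ 3 := by rw [hk]; ring
    have : p ^ 3 < p ^ 4 := Nat.pow_lt_pow_right hp1 (by norm_num)
    omega
  have hk3' : k = 3 := by
    by_contra hcon
    exact hsmall (by omega)
  subst hk3'
  -- the chief series A₁ < B < A
  obtain ⟨B, hBn, hBA, hBc⟩ := Cfsg.Agent.Lib.H22.exists_normal_card_pow hG A 2
    (by rw [hk]; exact Nat.pow_le_pow_right hppos (by norm_num))
  have hBab : ∀ x ∈ B, ∀ y ∈ B, x * y = y * x := fun x hx y hy => hAab x (hBA hx) y (hBA hy)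
  have hBel : Cfsg.IsElementaryAbelian p B := isElementaryAbelian_of_le hA hBA
  have hBB : B ≤ Subgroup.centralizer (B : Set G) :=
    Subgroup.le_centralizer_iff_isMulCommutative.mpr hBel.1
  obtain ⟨-, a₃, ha₃, hAB⟩ := step_bound hG B A B hBA (by rw [hk, hBc]; ring) hBab hBB
  have c : Ctx p A B a₃ := ⟨hA, hk, hBc, hBA, ha₃, hAB, alp⟩
  obtain ⟨A₁, hA₁n, hA₁B, hA₁c⟩ := Cfsg.Agent.Lib.H22.exists_normal_card_pow hG B 1
    (by rw [hBc]; exact Nat.pow_le_pow_right hppos (by norm_num))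
  rw [pow_one] at hA₁c
  have hA₁cen := central_of_card_eq_prime hG A₁ hA₁c
  have hEA₁ : E ≤ Subgroup.centralizer (A₁ : Set G) := by
    intro x _
    rw [Subgroup.mem_centralizer_iff]
    intro a ha
    exact hA₁cen a ha x
  obtain ⟨h1, -⟩ := step_bound hG A₁ B E hA₁B (by rw [hBc, hA₁c]; ring)
    (fun x hx y _ => hA₁cen x hx y) hEA₁
  obtain ⟨E₂, hE₂def⟩ : ∃ E₂, E₂ = E ⊓ Subgroup.centralizer (B : Set G) := ⟨_, rfl⟩
  rw [← hE₂def, hA₁c, hE4] at h1
  have hE₂card : p ^ 3 ≤ Nat.card E₂ := by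
    by_contra hcon
    push Not at hcon
    have : p * Nat.card E₂ < p * p ^ 3 := Nat.mul_lt_mul_of_pos_left hcon hppos
    have h2 : p * p ^ 3 = p ^ 4 := by ring
    omega
  have hE₂E : E₂ ≤ E := hE₂def ▸ inf_le_left
  have hE₂B : E₂ ≤ Subgroup.centralizer (B : Set G) := hE₂def ▸ inf_le_right
  have hE₂el : Cfsg.IsElementaryAbelian p E₂ := isElementaryAbelian_of_le hE hE₂E
  obtain ⟨F, hFdef⟩ : ∃ F, F = E₂ ⊔ B := ⟨_, rfl⟩
  have hFel : Cfsg.IsElementaryAbelian p F := hFdef ▸ isElementaryAbelian_sup hE₂el hBel hE₂B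
  have hFB : F ≤ Subgroup.centralizer (B : Set G) := hFdef ▸ sup_le hE₂B hBB
  have hBF : B ≤ F := hFdef ▸ le_sup_right
  have hFge : p ^ 4 ≤ Nat.card F := by
    by_cases hBE : B ≤ E
    · have hEE₂ : E ≤ E₂ := by
        rw [hE₂def]
        refine le_inf le_rfl ?_
        intro x hx
        rw [Subgroup.mem_centralizer_iff]
        intro b hb
        exact commute_of_mem hE (hBE hb) hx
      have : E ≤ F := hFdef ▸ hEE₂.trans le_sup_left
      rw [← hE4]
      exact Subgroup.card_le_of_le this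
    · have hprod := Cfsg.Agent.Lib.H19.card_mul_card_le_sup_mul_inf E₂ B
      rw [← hFdef, hBc] at hprod
      have hinf : Nat.card (E₂ ⊓ B : Subgroup G) ≤ p := by
        have hdvd : Nat.card (E₂ ⊓ B : Subgroup G) ∣ p ^ 2 :=
          hBc ▸ Subgroup.card_dvd_of_le (inf_le_right : E₂ ⊓ B ≤ B)
        obtain ⟨j, hj, hjc⟩ := (Nat.dvd_prime_pow (Fact.out : p.Prime)).mp hdvd
        have hj2 : j ≠ 2 := by
          intro h2
          apply hBE
          have : E₂ ⊓ B = B := Subgroup.eq_of_le_of_card_ge inf_le_right (by rw [hjc, h2, hBc])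
          rw [← this]
          exact inf_le_left.trans hE₂E
        rw [hjc]
        calc p ^ j ≤ p ^ 1 := Nat.pow_le_pow_right hppos (by omega)
          _ = p := pow_one p
      by_contra hcon
      push Not at hcon
      have h3 : Nat.card F * Nat.card (E₂ ⊓ B : Subgroup G) < p ^ 4 * p := by
        calc Nat.card F * Nat.card (E₂ ⊓ B : Subgroup G) ≤ Nat.card F * p :=
              Nat.mul_le_mul_left _ hinf
          _ < p ^ 4 * p := Nat.mul_lt_mul_of_pos_right hcon hppos
      have h4 : p ^ 3 * p ^ 2 ≤ Nat.card E₂ * p ^ 2 := Nat.mul_le_mul_right _ hE₂card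
      have h5 : p ^ 3 * p ^ 2 = p ^ 4 * p := by ring
      omega
  have hF4 : Nat.card F = p ^ 4 := le_antisymm (c.card_le_four F hFel hFB) hFge
  exact ⟨F, normal_of hp hG c F hFel hF4 hBF, hFel, hF4⟩

end Cfsg.Agent.S0122
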