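import Mathlib
import Cfsg.Statements.S0125
import Cfsg.Agent.Lib.H5.SylowIn

set_option autoImplicit false
open Cfsg

namespace Cfsg.Agent.S0125

open Subgroup Cfsg.Agent.Lib.H5

/-- The centralizer of a self-centralizing normal subgroup A of a Sylow p-subgroup is the direct product of A with a normal p'-subgroup. -/
theorem result {G : Type*} [Group G] [Finite G] {p : ℕ} [Fact p.Prime] (R : Sylow p G) (A : Subgroup G) (hAR : A ≤ (R : Subgroup G)) (hAn : (R : Subgroup G) ≤ Subgroup.normalizer (A : Set G)) (hC : (R : Subgroup G) ⊓ Subgroup.centralizer (A : Set G) = A) : ∃ H : Subgroup G, H ≤ Subgroup.centralizer (A : Set G) ∧ Nat.Coprime (Nat.card H) p ∧ Subgroup.centralizer (A : Set G) ≤ Subgroup.normalizer (H : Set G) ∧ H ⊓ A = ⊥ ∧ H ⊔ A = Subgroup.centralizer (A : Set G) := by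
  classical
  have hAC : A ≤ centralizer (A : Set G) := by
    intro a ha
    rw [← hC] at ha
    exact ha.2
  have hCN : centralizer (A : Set G) ≤ normalizer (A : Set G) := centralizer_le_normalizer _
  have hRN : IsSylowIn p (R : Subgroup G) (normalizer (A : Set G)) :=
    (isSylowIn_top_of_sylow R).mono hAn le_top
  have hpA : IsPGroup p A := R.2.to_le hAR
  obtain ⟨Q, hQ, hAQ⟩ := exists_isSylowIn_ge hpA hAC
  have hQN : Q ≤ normalizer (A : Set G) := hQ.1.trans hCN
  obtain ⟨Q', hQ', hQQ'⟩ := exists_isSylowIn_ge hQ.2.1 hQN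
  obtain ⟨n, hnN, hn⟩ := hRN.exists_conj hQ'
  have hQA : A = Q := by
    have h1 : Q.map (MulAut.conj n⁻¹).toMonoidHom ≤ A := by
      rw [← hC]
      rintro _ ⟨q, hq, rfl⟩
      simp only [MulEquiv.coe_toMonoidHom, MulAut.conj_apply, inv_inv]
      refine Subgroup.mem_inf.mpr ⟨?_, ?_⟩
      · have := hQQ' hq
        rw [hn] at this
        obtain ⟨r, hr, hrq⟩ := this
        simp only [MulEquiv.coe_toMonoidHom, MulAut.conj_apply] at hrq
        rw [← hrq]
        have : n⁻¹ * (n * r * n⁻¹) * n = r := by group
        rw [this]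
        exact hr
      · rw [mem_centralizer_iff]
        intro a ha
        have hq' := hQ.1 hq
        rw [mem_centralizer_iff] at hq'
        have hna : n * a * n⁻¹ ∈ A := by
          have := (mem_normalizer_iff.mp hnN a).mp ha
          exact this
        have e := hq' _ hna
        calc a * (n⁻¹ * q * n) = n⁻¹ * ((n * a * n⁻¹) * q) * n := by group
          _ = n⁻¹ * (q * (n * a * n⁻¹)) * n := by rw [e]
          _ = n⁻¹ * q * n * a := by group
    have h2 : Nat.card Q ≤ Nat.card A := by
      rw [← Subgroup.card_map_of_injective (K := Q) (f := (MulAut.conj n⁻¹).toMonoidHom)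
        (MulAut.conj n⁻¹).injective]
      exact Subgroup.card_le_of_le h1
    exact Subgroup.eq_of_le_of_card_ge hAQ h2
  rw [← hQA] at hQ
  obtain ⟨S, hS⟩ := hQ.exists_sylow
  have hSA : ∀ s : centralizer (A : Set G), s ∈ (S : Subgroup (centralizer (A : Set G))) →
      (s : G) ∈ A := by
    intro s hs
    have : (s : G) ∈ (S : Subgroup (centralizer (A : Set G))).map
        (centralizer (A : Set G)).subtype := ⟨s, hs, rfl⟩
    rw [hS] at this
    exact this
  have hP : normalizer ((S : Subgroup (centralizer (A : Set G))) : Set (centralizer (A : Set G)))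
      ≤ centralizer ((S : Subgroup (centralizer (A : Set G))) : Set (centralizer (A : Set G))) := by
    intro c _
    rw [mem_centralizer_iff]
    intro s hs
    apply Subtype.ext
    have hc := c.2
    rw [mem_centralizer_iff] at hc
    exact hc _ (hSA s hs)
  have hcompl := MonoidHom.ker_transferSylow_isComplement' S hP
  have hnd := MonoidHom.not_dvd_card_ker_transferSylow S hP
  set K := (MonoidHom.transferSylow S hP).ker with hK
  have hKn : K.Normal := by rw [hK]; infer_instance
  refine ⟨K.map (centralizer (A : Set G)).subtype, ?_, ?_, ?_, ?_, ?_⟩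
  · rintro _ ⟨k, _, rfl⟩
    exact k.2
  · rw [Subgroup.card_map_of_injective (subtype_injective _), Nat.coprime_comm,
      Nat.Prime.coprime_iff_not_dvd Fact.out]
    exact hnd
  · have h1 := le_normalizer_map (H := K) (centralizer (A : Set G)).subtype
    rw [normalizer_eq_top, ← MonoidHom.range_eq_map, Subgroup.range_subtype] at h1
    exact h1
  · rw [eq_bot_iff]
    rintro g ⟨⟨k, hk, rfl⟩, hgA⟩
    rw [mem_bot]
    have hkS : k ∈ (S : Subgroup (centralizer (A : Set G))) := by
      have hgA' : (k : G) ∈ (S : Subgroup (centralizer (A : Set G))).map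
          (centralizer (A : Set G)).subtype := by
        rw [hS]; exact hgA
      obtain ⟨s, hs, hsk⟩ := hgA'
      have : s = k := Subtype.ext hsk
      rw [← this]; exact hs
    have hdisj := hcompl.disjoint
    have : k ∈ K ⊓ (S : Subgroup (centralizer (A : Set G))) := ⟨hk, hkS⟩
    rw [disjoint_iff.mp hdisj, mem_bot] at this
    rw [this]; rfl
  · have hsup := hcompl.sup_eq_top
    have := congrArg (Subgroup.map (centralizer (A : Set G)).subtype) hsup
    rw [Subgroup.map_sup, hS, ← MonoidHom.range_eq_map, Subgroup.range_subtype] at this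
    exact this

end Cfsg.Agent.S0125
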