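import Cfsg.Statements.S0131
import Mathlib

set_option autoImplicit false
open Cfsg
open scoped commutatorElement

namespace Cfsg.Agent.S0131

/-- P/P' has a normal complement in G exactly when the focal subgroup G' ∩ P is as small as possible, namely P'. -/
theorem result {G : Type*} [Group G] [Finite G] {p : ℕ} [Fact p.Prime] (P : Sylow p G) : (∃ N : Subgroup G, N.Normal ∧ N ⊓ (P : Subgroup G) = ⁅(P : Subgroup G), (P : Subgroup G)⁆ ∧ N ⊔ (P : Subgroup G) = ⊤) ↔ commutator G ⊓ (P : Subgroup G) = ⁅(P : Subgroup G), (P : Subgroup G)⁆ := by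
  constructor
  · rintro ⟨N, hN, hNP, hsup⟩
    apply le_antisymm
    · -- G' ≤ N since G/N is abelian
      have hGN : commutator G ≤ N := by
        rw [commutator_def, Subgroup.commutator_le]
        intro x _ y _
        -- write x = n₁ a, y = n₂ b
        have hx : x ∈ N ⊔ (P : Subgroup G) := by rw [hsup]; trivial
        have hy : y ∈ N ⊔ (P : Subgroup G) := by rw [hsup]; trivial
        rw [Subgroup.mem_sup_of_normal_left] at hx hy
        obtain ⟨n₁, hn₁, a, ha, rfl⟩ := hx
        obtain ⟨n₂, hn₂, b, hb, rfl⟩ := hy
        -- work in the quotient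
        rw [← QuotientGroup.eq_one_iff, commutatorElement_def]
        have h1 : ((n₁ : G) : G ⧸ N) = 1 := (QuotientGroup.eq_one_iff _).mpr hn₁
        have h2 : ((n₂ : G) : G ⧸ N) = 1 := (QuotientGroup.eq_one_iff _).mpr hn₂
        have hab : ⁅a, b⁆ ∈ N := by
          have : ⁅a, b⁆ ∈ ⁅(P : Subgroup G), (P : Subgroup G)⁆ :=
            Subgroup.commutator_mem_commutator ha hb
          rw [← hNP] at this
          exact this.1
        have h3 : ((⁅a, b⁆ : G) : G ⧸ N) = 1 := (QuotientGroup.eq_one_iff _).mpr hab
        rw [commutatorElement_def] at h3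
        simp only [QuotientGroup.mk_mul, QuotientGroup.mk_inv, h1, h2, one_mul] at h3 ⊢
        exact h3
      exact (inf_le_inf_right _ hGN).trans hNP.le
    · apply le_inf
      · rw [commutator_def]
        exact Subgroup.commutator_mono le_top le_top
      · rw [Subgroup.commutator_le]
        intro x hx y hy
        exact (P : Subgroup G).mul_mem ((P : Subgroup G).mul_mem
          ((P : Subgroup G).mul_mem hx hy) ((P : Subgroup G).inv_mem hx)) ((P : Subgroup G).inv_mem hy)
  · intro hfoc
    have hfoc' : (P : Subgroup G).focalSubgroup = ⁅(P : Subgroup G), (P : Subgroup G)⁆ := by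
      rw [← Subgroup.commutator_inf_eq_focalSubgroup P]; exact hfoc
    refine ⟨(P : Subgroup G).transferFocal.ker, inferInstance, ?_, ?_⟩
    · rw [Subgroup.ker_transferFocal_inf_eq_focalSubgroup P, hfoc']
    · rw [eq_top_iff]
      intro g _
      obtain ⟨y, hy⟩ := Subgroup.focalSubgroupOf.pow_index_surjective P
        ((P : Subgroup G).transferFocal g)
      obtain ⟨x, rfl⟩ := QuotientGroup.mk'_surjective _ y
      have hVx : (P : Subgroup G).transferFocal (x : G) = (P : Subgroup G).transferFocal g := by
        rw [Subgroup.transferFocal_eq_pow]; exact hy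
      have hmem : g * (x : G)⁻¹ ∈ (P : Subgroup G).transferFocal.ker := by
        rw [MonoidHom.mem_ker, map_mul, map_inv, hVx, mul_inv_cancel]
      have : g = (g * (x : G)⁻¹) * x := by group
      rw [this]
      exact Subgroup.mul_mem_sup hmem x.2

end Cfsg.Agent.S0131
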