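import Cfsg.Statements.S0157
import Cfsg.Agent.Lib.L0.CharPerm
import Cfsg.Agent.Lib.L0.CharIndChar
import Cfsg.Agent.Lib.H18.Derangements
-- import your own Cfsg.Agent.* helpers here

set_option autoImplicit false
open Cfsg

namespace Cfsg.Agent.S0157

open Cfsg.Agent.Lib.L0 MulAction

/-- Removing an irreducible constituent from a character leaves a character. -/
theorem isCharacter_sub_irr {G : Type*} [Group G] [Fintype G] {χ ψ : G → ℂ}
    (hχ : Cfsg.IsCharacter G χ) (hψ : Cfsg.IsIrrCharacter G ψ) (h : Cfsg.classInner χ ψ ≠ 0) :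
    Cfsg.IsCharacter G (χ - ψ) := by
  classical
  obtain ⟨l, hl, rfl⟩ := isCharacter_exists_irr_decomp hχ
  rw [classInner_irr_list_sum hl hψ] at h
  have hmem : ψ ∈ l := by
    by_contra hcon
    rw [List.count_eq_zero_of_not_mem hcon] at h
    simp at h
  have hperm := List.perm_cons_erase hmem
  rw [hperm.sum_eq, List.sum_cons, add_sub_cancel_left]
  exact isCharacter_list_sum fun φ hφ => isCharacter_of_irr (hl φ (List.mem_of_mem_erase hφ))

/-- Number of orbits of the stabilizer equals 2 iff the action is 2-transitive. -/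
theorem card_orbits_stabilizer_eq_two_iff {G : Type*} [Group G] (X : Type*) [MulAction G X] [Finite X]
    [IsPretransitive G X] (hX : 2 ≤ Nat.card X) (x : X) :
    Nat.card (orbitRel.Quotient (stabilizer G x) X) = 2 ↔ IsMultiplyPretransitive G X 2 := by
  classical
  have hxorb : ∀ y : X, (Quotient.mk'' y : orbitRel.Quotient (stabilizer G x) X) = Quotient.mk'' x ↔ y = x := by
    intro y
    rw [Quotient.eq'']
    constructor
    · rintro ⟨h, rfl⟩
      exact h.2
    · rintro rfl; exact ⟨1, one_smul _ _⟩
  obtain ⟨y₀, hy₀⟩ : ∃ y : X, y ≠ x := by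
    by_contra hcon
    push Not at hcon
    have : Subsingleton X := ⟨fun a b => (hcon a).trans (hcon b).symm⟩
    have := Finite.card_le_one_iff_subsingleton.mpr this
    omega
  constructor
  · intro h2
    rw [is_two_pretransitive_iff]
    -- stabilizer is transitive on the complement of x
    have htr : ∀ z w : X, z ≠ x → w ≠ x → ∃ h : stabilizer G x, h • z = w := by
      intro z w hz hw
      obtain ⟨a, b, hab, huniv⟩ := Nat.card_eq_two_iff.mp h2
      have hmem : ∀ q : orbitRel.Quotient (stabilizer G x) X, q = a ∨ q = b := by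
        intro q
        have : q ∈ ({a, b} : Set _) := huniv ▸ Set.mem_univ q
        simpa using this
      have hzx : (Quotient.mk'' z : orbitRel.Quotient (stabilizer G x) X) ≠ Quotient.mk'' x :=
        fun h => hz ((hxorb z).mp h)
      have hwx : (Quotient.mk'' w : orbitRel.Quotient (stabilizer G x) X) ≠ Quotient.mk'' x :=
        fun h => hw ((hxorb w).mp h)
      have hzw : (Quotient.mk'' w : orbitRel.Quotient (stabilizer G x) X) = Quotient.mk'' z := by
        rcases hmem (Quotient.mk'' x) with hx | hx <;> rcases hmem (Quotient.mk'' z) with hz' | hz' <;>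
          rcases hmem (Quotient.mk'' w) with hw' | hw' <;> simp_all
      rw [Quotient.eq''] at hzw
      obtain ⟨h, hh⟩ := hzw
      exact ⟨h, hh⟩
    intro a b c d hab hcd
    obtain ⟨g₁, hg₁⟩ := exists_smul_eq G a x
    obtain ⟨g₂, hg₂⟩ := exists_smul_eq G c x
    have h1 : g₁ • b ≠ x := by
      intro h; apply hab
      have : g₁ • a = g₁ • b := hg₁.trans h.symm
      exact smul_left_cancel g₁ this
    have h2' : g₂ • d ≠ x := by
      intro h; apply hcd
      have : g₂ • c = g₂ • d := hg₂.trans h.symm
      exact smul_left_cancel g₂ this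
    obtain ⟨h, hh⟩ := htr (g₁ • b) (g₂ • d) h1 h2'
    refine ⟨g₂⁻¹ * (h : G) * g₁, ?_, ?_⟩
    · rw [mul_smul, mul_smul, hg₁, h.2, inv_smul_eq_iff, hg₂]
    · rw [mul_smul, mul_smul, inv_smul_eq_iff]
      exact hh
  · intro h2
    rw [is_two_pretransitive_iff] at h2
    rw [Nat.card_eq_two_iff]
    refine ⟨Quotient.mk'' x, Quotient.mk'' y₀, fun h => hy₀ ((hxorb y₀).mp h.symm), ?_⟩
    ext q
    simp only [Set.mem_insert_iff, Set.mem_singleton_iff, Set.mem_univ, iff_true]
    induction q using Quotient.inductionOn' with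
    | h z =>
      by_cases hz : z = x
      · left; rw [hz]
      · right
        obtain ⟨g, hg1, hg2⟩ := h2 (a := x) (b := y₀) (c := x) (d := z) (Ne.symm hy₀) (Ne.symm hz)
        rw [Quotient.eq'']
        exact ⟨⟨g, hg1⟩, hg2⟩


/-- For a transitive action of a finite group on a finite set with at least two points: the action is 2-transitive if and only if the function sending g to (number of fixed points of g) − 1 is an irreducible character. -/
theorem result {G : Type*} [Group G] [Finite G] (X : Type*) [MulAction G X] [Finite X] [MulAction.IsPretransitive G X] (hX : 2 ≤ Nat.card X) : Cfsg.IsIrrCharacter G (fun g => (Nat.card (MulAction.fixedBy X g) : ℂ) - 1) ↔ MulAction.IsMultiplyPretransitive G X 2 := by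
  classical
  have := Fintype.ofFinite G
  obtain ⟨x⟩ : Nonempty X := by
    by_contra h
    rw [not_nonempty_iff] at h
    have := Nat.card_of_isEmpty (α := X)
    omega
  set H := stabilizer G x with hH
  have := Fintype.ofFinite H
  set π : G → ℂ := fun g => (Nat.card (fixedBy X g) : ℂ) with hπ
  have hπind : π = Cfsg.indFun H (fun _ => 1) := fixedPoints_eq_indFun X x
  have h1H : Cfsg.IsCharacter H (fun _ => (1 : ℂ)) := by
    have := isCharacter_of_irr (isIrrCharacter_one (G := H))
    simpa [Pi.one_def] using this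
  have hπchar : Cfsg.IsCharacter G π := hπind ▸ isCharacter_indFun H h1H
  have h1G : Cfsg.IsIrrCharacter G (fun _ => (1 : ℂ)) := by
    have := isIrrCharacter_one (G := G)
    simpa [Pi.one_def] using this
  have hcardH : (Nat.card H : ℂ) ≠ 0 := by exact_mod_cast (Nat.card_pos (α := H)).ne'
  -- ⟨π, 1⟩ = 1
  have hπ1 : Cfsg.classInner π (fun _ => (1 : ℂ)) = 1 := by
    rw [hπind, frobenius_reciprocity H _ _ (fun _ _ => rfl)]
    unfold Cfsg.classInner
    simp only [map_one, mul_one, Finset.sum_const, Finset.card_univ, nsmul_eq_mul]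
    rw [← Nat.card_eq_fintype_card]
    field_simp
  have h1π : Cfsg.classInner (fun _ => (1 : ℂ)) π = 1 := by
    rw [← classInner_conj_symm, hπ1, map_one]
  -- ⟨π, π⟩ = number of orbits of H on X
  have hππ : Cfsg.classInner π π = (Nat.card (orbitRel.Quotient H X) : ℂ) := by
    have hcf : Cfsg.IsClassFunction G π := hπind ▸ indFun_isClassFunction H _
    rw [show Cfsg.classInner π π = Cfsg.classInner (Cfsg.indFun H (fun _ => 1)) π from by
      rw [← hπind]]
    rw [frobenius_reciprocity H _ _ hcf]
    unfold Cfsg.classInner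
    have hb := Cfsg.Agent.Lib.H18.burnside_natcard H X
    have : ∑ g : H, (fun _ => (1 : ℂ)) g * (starRingEnd ℂ) ((fun h : H => π h) g)
        = ((∑ h : H, Nat.card (fixedBy X h) : ℕ) : ℂ) := by
      push_cast
      refine Finset.sum_congr rfl fun h _ => ?_
      simp only [hπ, one_mul, Complex.conj_natCast]
      rfl
    rw [this, hb]
    push_cast
    field_simp
  have h11 : Cfsg.classInner (fun _ : G => (1 : ℂ)) (fun _ => (1 : ℂ)) = 1 :=
    irr_classInner_self h1G
  have hsubchar : Cfsg.IsCharacter G (π - fun _ => (1 : ℂ)) :=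
    isCharacter_sub_irr hπchar h1G (by rw [hπ1]; exact one_ne_zero)
  have hnorm : Cfsg.classInner (π - fun _ => (1 : ℂ)) (π - fun _ => (1 : ℂ))
      = (Nat.card (orbitRel.Quotient H X) : ℂ) - 1 := by
    rw [classInner_sub_left, classInner_sub_right, classInner_sub_right, hππ, hπ1, h1π, h11]
    ring
  have hfun : (fun g => (Nat.card (fixedBy X g) : ℂ) - 1) = π - fun _ => (1 : ℂ) := rfl
  rw [hfun, ← card_orbits_stabilizer_eq_two_iff X hX x]
  constructor
  · intro hirr
    have := irr_classInner_self hirr
    rw [hnorm] at this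
    have h2 : (Nat.card (orbitRel.Quotient H X) : ℂ) = 2 := by linear_combination this
    exact_mod_cast h2
  · intro h2
    apply isIrrCharacter_of_classInner_self_eq_one hsubchar
    rw [hnorm, h2]
    norm_num

end Cfsg.Agent.S0157
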