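-- Statement S0162
import Cfsg.Statements.S0162
import Cfsg.Agent.Lib.H24.CharOdd
import Cfsg.Agent.Lib.H23.DegreeDvd

set_option autoImplicit false
open Cfsg

namespace Cfsg.Agent.S0162

open Cfsg.Agent.Lib.H24 Cfsg.Agent.Lib.L0 Cfsg.Agent.Lib.H23
open scoped ComplexConjugate

theorem aux16 : ∀ r : ZMod 16, r.val % 2 = 1 → (r ^ 2 - 1) + (r ^ 2 - 1) = 0 := by decide

/-- If a finite group has odd order, its order is congruent to its number of conjugacy classes modulo 16. -/
theorem result {G : Type*} [Group G] [Finite G] (hodd : Odd (Nat.card G)) : Nat.card G ≡ Nat.card (ConjClasses G) [MOD 16] := by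
  classical
  have := Fintype.ofFinite G
  have := Fintype.ofFinite (IrrCharacter G)
  -- sum of squares of degrees, in ℕ
  have hsum : ∑ χ : IrrCharacter G, (charDegree (χ : G → ℂ)) ^ 2 = Nat.card G := by
    have h := sum_irr_one_sq (G := G)
    have h' : ((∑ χ : IrrCharacter G, (charDegree (χ : G → ℂ)) ^ 2 : ℕ) : ℂ) = (Nat.card G : ℂ) := by
      rw [← h]
      push_cast
      refine Finset.sum_congr rfl (fun χ _ => ?_)
      rw [apply_one_eq_charDegree _ χ.2]
    exact_mod_cast h'
  have hdegodd : ∀ χ : IrrCharacter G, (charDegree (χ : G → ℂ)) % 2 = 1 := by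
    intro χ
    have h1 := charDegree_dvd_card _ χ.2
    exact Nat.odd_iff.mp (Odd.of_dvd_nat hodd h1)
  have hdegconj : ∀ χ : IrrCharacter G, charDegree (irrConj χ : G → ℂ) = charDegree (χ : G → ℂ) := by
    intro χ
    apply charDegree_eq_of_apply_one
    rw [irrConj_apply, apply_one_eq_charDegree _ χ.2, Complex.conj_natCast]
  let f : IrrCharacter G → ZMod 16 := fun χ => ((charDegree (χ : G → ℂ) : ZMod 16)) ^ 2 - 1
  have hf2 : ∀ χ : IrrCharacter G, f χ + f χ = 0 := by
    intro χ
    apply aux16
    rw [ZMod.val_natCast]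
    have := hdegodd χ
    omega
  have hfsum : ∑ χ : IrrCharacter G, f χ = 0 := by
    refine Finset.sum_involution (fun χ _ => irrConj χ) ?_ ?_ (fun _ _ => Finset.mem_univ _) ?_
    · intro χ _
      have : f (irrConj χ) = f χ := by
        simp only [f, hdegconj]
      rw [this]
      exact hf2 χ
    · intro χ _ hne hfix
      apply hne
      have hreal : ∀ g : G, ((χ : G → ℂ) g).im = 0 := by
        intro g
        have := congrArg (fun ψ : IrrCharacter G => (ψ : G → ℂ) g) hfix
        simp only [irrConj_apply] at this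
        exact Complex.conj_eq_iff_im.mp this
      have htriv := real_irr_eq_trivial_of_odd hodd χ hreal
      have hd : charDegree (χ : G → ℂ) = 1 := by
        apply charDegree_eq_of_apply_one
        rw [htriv]
        simp
      simp only [f, hd]
      simp
    · intro χ _
      exact irrConj_irrConj χ
  have hmod : ((Nat.card G : ℕ) : ZMod 16) = ((Nat.card (ConjClasses G) : ℕ) : ZMod 16) := by
    rw [← hsum, ← card_irr_eq_card_conjClasses]
    push_cast
    have : ∀ χ : IrrCharacter G, ((charDegree (χ : G → ℂ) : ZMod 16)) ^ 2 = f χ + 1 := by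
      intro χ
      simp only [f]
      ring
    simp only [this, Finset.sum_add_distrib, hfsum, zero_add, Finset.sum_const, Finset.card_univ,
      nsmul_eq_mul, mul_one]
    rw [Nat.card_eq_fintype_card]
  exact (ZMod.natCast_eq_natCast_iff _ _ 16).mp hmod

end Cfsg.Agent.S0162
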