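import Cfsg.Statements.S0166
import Mathlib
import Cfsg.Agent.Lib.H1.SplitD

set_option autoImplicit false
open Cfsg

namespace Cfsg.Agent.S0166

/-- Brauer's splitting field Theorem: a complex representation of a finite group of exponent m is equivalent to a representation by matrices with entries in ℚ adjoined exp(2πi/m). -/
theorem result {G : Type*} [Group G] [Finite G] (n : ℕ) (ρ : Representation ℂ G (Fin n → ℂ)) : ∃ σ : Representation ℂ G (Fin n → ℂ), Nonempty (ρ.Equiv σ) ∧ ∀ g : G, ∀ i j : Fin n, LinearMap.toMatrix' (σ g) i j ∈ Algebra.adjoin ℚ ({Complex.exp (2 * Real.pi * Complex.I / (Monoid.exponent G : ℂ))} : Set ℂ) := by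
  classical
  set m := Monoid.exponent G with hm
  have hm0 : m ≠ 0 := Monoid.exponent_ne_zero_of_finite
  haveI : NeZero m := ⟨hm0⟩
  set ζ : ℂ := Complex.exp (2 * Real.pi * Complex.I / (m : ℂ)) with hζdef
  have hζ : IsPrimitiveRoot ζ m := Complex.isPrimitiveRoot_exp m hm0
  let K : IntermediateField ℚ ℂ := IntermediateField.adjoin ℚ {ζ}
  have hζK : ζ ∈ K := IntermediateField.mem_adjoin_simple_self ℚ ζ
  have hrange : ∀ x : ℂ, x ∈ Set.range (algebraMap K ℂ) ↔ x ∈ K := by
    intro x
    constructor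
    · rintro ⟨k, rfl⟩; exact k.2
    · intro hx; exact ⟨⟨x, hx⟩, rfl⟩
  have hK : ∀ (E : Subgroup G) (lam : E →* ℂˣ) (e : E),
      (lam e : ℂ) ∈ Set.range (algebraMap K ℂ) := by
    intro E lam e
    rw [hrange]
    have hpow : ((lam e : ℂˣ) : ℂ) ^ m = 1 := by
      have he : e ^ m = 1 := by
        apply Subtype.ext
        rw [Subgroup.coe_pow, Subgroup.coe_one]
        exact Monoid.pow_exponent_eq_one (e : G)
      rw [← Units.val_pow_eq_pow_val, ← map_pow, he, map_one, Units.val_one]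
    obtain ⟨i, -, hi⟩ := hζ.eq_pow_of_pow_eq_one hpow
    rw [← hi]
    exact pow_mem hζK i
  obtain ⟨σ, hσ, hent⟩ := Cfsg.Agent.Lib.H1.Split.exists_equiv_entries (algebraMap K ℂ) hK n ρ
  refine ⟨σ, hσ, fun g i j => ?_⟩
  have h1 := (hrange _).mp (hent g i j)
  have halg : IsAlgebraic ℚ ζ := by
    refine IsIntegral.isAlgebraic ?_
    exact (hζ.isIntegral (Nat.pos_of_ne_zero hm0)).tower_top
  have h2 : K.toSubalgebra = Algebra.adjoin ℚ {ζ} :=
    IntermediateField.adjoin_simple_toSubalgebra_of_isAlgebraic halg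
  rw [← h2]
  exact h1

end Cfsg.Agent.S0166
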