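-- Statement S0168
import Cfsg.Statements.S0168
import Cfsg.Agent.Lib.H24.CharOrth
import Mathlib.LinearAlgebra.Vandermonde
import Mathlib.LinearAlgebra.Matrix.Nondegenerate

set_option autoImplicit false
open Cfsg

namespace Cfsg.Agent.S0168

open Cfsg.Agent.Lib.H24 Cfsg.Agent.Lib.L0
open scoped ComplexConjugate

/-- The Burnside–Brauer Theorem. Let χ be the character of a faithful complex representation of a finite group, taking m distinct values. Then every irreducible character has nonzero inner product with χ ^ i for some i < m. -/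
theorem result {G : Type*} [Group G] [Fintype G] {V : Type*} [AddCommGroup V] [Module ℂ V] [FiniteDimensional ℂ V] (ρ : Representation ℂ G V) (hfaithful : Function.Injective ρ) (ψ : G → ℂ) (hψ : Cfsg.IsIrrCharacter G ψ) : ∃ i : ℕ, i < Nat.card (Set.range ρ.character) ∧ Cfsg.classInner (fun g => ρ.character g ^ i) ψ ≠ 0 := by
  classical
  by_contra hcon
  push Not at hcon
  set m := Nat.card (Set.range ρ.character) with hm
  have hfin : Finite (Set.range ρ.character) := Set.finite_range _
  have := Fintype.ofFinite (Set.range ρ.character)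
  have e : Fin m ≃ Set.range ρ.character := (Finite.equivFinOfCardEq hm.symm).symm
  let v : Fin m → ℂ := fun i => (e i : ℂ)
  have hv : Function.Injective v := fun i j hij => e.injective (Subtype.ext hij)
  let β : ℂ → ℂ := fun a => ∑ g : G, if ρ.character g = a then conj (ψ g) else 0
  have hG : (Nat.card G : ℂ) ≠ 0 := by exact_mod_cast (Nat.card_pos (α := G)).ne'
  -- the moments vanish
  have hmom : ∀ j : Fin m, ∑ i : Fin m, β (v i) * v i ^ (j : ℕ) = 0 := by
    intro j
    have h0 := hcon j j.2
    simp only [classInner] at h0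
    have h1 : ∑ g : G, ρ.character g ^ (j : ℕ) * conj (ψ g) = 0 := by
      rcases mul_eq_zero.mp h0 with h | h
      · exact absurd (inv_eq_zero.mp h) hG
      · exact h
    rw [← h1]
    simp only [β, Finset.sum_mul]
    rw [Finset.sum_comm]
    refine Finset.sum_congr rfl (fun g _ => ?_)
    -- exactly one i with v i = χ g
    have hmem : ρ.character g ∈ Set.range ρ.character := ⟨g, rfl⟩
    rw [Finset.sum_eq_single (e.symm ⟨ρ.character g, hmem⟩)]
    · have : v (e.symm ⟨ρ.character g, hmem⟩) = ρ.character g := by
        simp only [v, Equiv.apply_symm_apply]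
      rw [this, if_pos rfl, mul_comm]
    · intro i _ hi
      have : ρ.character g ≠ v i := by
        intro h
        apply hi
        apply e.injective
        rw [Equiv.apply_symm_apply]
        exact Subtype.ext h.symm
      rw [if_neg this, zero_mul]
    · intro h
      exact absurd (Finset.mem_univ _) h
  have hvec : Matrix.vecMul (fun i => β (v i)) (Matrix.vandermonde v) = 0 := by
    funext j
    simp only [Matrix.vecMul, dotProduct, Matrix.vandermonde, Matrix.of_apply, Pi.zero_apply]
    exact hmom j
  have hdet : (Matrix.vandermonde v).det ≠ 0 := Matrix.det_vandermonde_ne_zero_iff.mpr hv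
  have hβ := Matrix.eq_zero_of_vecMul_eq_zero hdet hvec
  -- but β (χ 1) = conj (ψ 1) ≠ 0
  have hmem1 : ρ.character 1 ∈ Set.range ρ.character := ⟨1, rfl⟩
  have h1 := congrFun hβ (e.symm ⟨ρ.character 1, hmem1⟩)
  have hv1 : v (e.symm ⟨ρ.character 1, hmem1⟩) = ρ.character 1 := by
    simp only [v, Equiv.apply_symm_apply]
  simp only [Pi.zero_apply] at h1
  rw [hv1] at h1
  have hβ1 : β (ρ.character 1) = conj (ψ 1) := by
    simp only [β]
    rw [Finset.sum_eq_single (1 : G)]
    · rw [if_pos rfl]
    · intro g _ hg
      rw [if_neg]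
      intro h
      apply hg
      have := (char_eq_char_one_iff ρ g).mp h
      apply hfaithful
      rw [this, map_one]
    · intro h
      exact absurd (Finset.mem_univ _) h
  rw [hβ1] at h1
  have hψ1 : ψ 1 ≠ 0 := irr_one_ne_zero ⟨ψ, hψ⟩
  exact hψ1 ((map_eq_zero _).mp h1)

end Cfsg.Agent.S0168
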