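import Cfsg.Statements.S0170
import Cfsg.Agent.S0198
import Cfsg.Agent.Lib.L0.CharTI
import Cfsg.Agent.Lib.L0.CharIndChar
import Cfsg.Agent.Lib.H8.GenChar
-- import your own Cfsg.Agent.* helpers here

set_option autoImplicit false
open Cfsg

namespace Cfsg.Agent.S0170

/-- Exceptional characters. Let S be a subset of a finite group contained in its normalizer N and meeting its conjugates by elements outside N only in the identity. Given n ≥ 2 distinct irreducible characters of N of equal degree that vanish on N away from S, there exist a sign ε and n distinct irreducible characters θ_i of G such that inducing χ_i − χ_j to G gives ε (θ_i − θ_j) for all i, j. -/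
theorem result {G : Type*} [Group G] [Fintype G] (S : Set G) (hSN : S ⊆ Subgroup.normalizer S) (hTI : ∀ g : G, g ∉ Subgroup.normalizer S → ∀ s ∈ S, g * s * g⁻¹ ∈ S → s = 1) (n : ℕ) (hn : 2 ≤ n) (χ : Fin n → (Subgroup.normalizer S → ℂ)) (hirr : ∀ i, Cfsg.IsIrrCharacter (Subgroup.normalizer S) (χ i)) (hinj : Function.Injective χ) (hvan : ∀ i, ∀ x : Subgroup.normalizer S, (x : G) ∉ S → χ i x = 0) (hdeg : ∀ i j, χ i 1 = χ j 1) : ∃ ε : ℂ, (ε = 1 ∨ ε = -1) ∧ ∃ θ : Fin n → (G → ℂ), (∀ i, Cfsg.IsIrrCharacter G (θ i)) ∧ Function.Injective θ ∧ ∀ i j, Cfsg.indFun (Subgroup.normalizer S) (χ i) - Cfsg.indFun (Subgroup.normalizer S) (χ j) = ε • (θ i - θ j) := by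
  classical
  haveI : Fintype (Subgroup.normalizer S) := Fintype.ofFinite _
  have hn0 : 0 < n := by omega
  let i₀ : Fin n := ⟨0, hn0⟩
  have indFun_sub : ∀ θ₁ θ₂ : (Subgroup.normalizer S) → ℂ, Cfsg.indFun (Subgroup.normalizer S) (θ₁ - θ₂) = Cfsg.indFun (Subgroup.normalizer S) θ₁ - Cfsg.indFun (Subgroup.normalizer S) θ₂ := by
    intro θ₁ θ₂
    rw [sub_eq_add_neg, Cfsg.Agent.Lib.L0.indFun_add, sub_eq_add_neg]
    congr 1
    have : -θ₂ = (-1 : ℂ) • θ₂ := by simp
    rw [this, Cfsg.Agent.Lib.L0.indFun_smul]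
    simp
  have indFun_one : ∀ θ : (Subgroup.normalizer S) → ℂ, θ 1 = 0 → Cfsg.indFun (Subgroup.normalizer S) θ 1 = 0 := by
    intro θ h
    rw [Cfsg.Agent.Lib.L0.indFun_apply]
    have h1 : Cfsg.extendByZero (Subgroup.normalizer S) θ 1 = 0 := by
      have := Cfsg.Agent.Lib.L0.extendByZero_apply_mem (Subgroup.normalizer S) θ 1
      rw [h] at this
      exact this
    have : ∀ x : G, Cfsg.extendByZero (Subgroup.normalizer S) θ (x⁻¹ * 1 * x) = 0 := by
      intro x
      have h2 : x⁻¹ * 1 * x = 1 := by simp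
      rw [h2, h1]
    rw [Finset.sum_congr rfl (fun x _ => this x)]
    simp
  have hcf : ∀ i, Cfsg.IsClassFunction (Subgroup.normalizer S) (χ i) := fun i =>
    Cfsg.Agent.Lib.L0.isClassFunction_of_isCharacter (Cfsg.Agent.Lib.L0.isCharacter_of_irr (hirr i))
  have hcfsub : ∀ i j, Cfsg.IsClassFunction (Subgroup.normalizer S) (χ i - χ j) := by
    intro i j g h
    simp only [Pi.sub_apply]
    rw [hcf i g h, hcf j g h]
  have hvansub : ∀ i j, ∀ x : (Subgroup.normalizer S), (x : G) ∉ S → (χ i - χ j) x = 0 := by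
    intro i j x hx
    simp only [Pi.sub_apply]
    rw [hvan i x hx, hvan j x hx, sub_zero]
  have hsub1 : ∀ i j, (χ i - χ j) 1 = 0 := by
    intro i j
    simp only [Pi.sub_apply]
    rw [hdeg i j, sub_self]
  let τ : Fin n → (G → ℂ) := fun i => Cfsg.indFun (Subgroup.normalizer S) (χ i - χ i₀)
  have hτ : ∀ i, τ i = Cfsg.indFun (Subgroup.normalizer S) (χ i) - Cfsg.indFun (Subgroup.normalizer S) (χ i₀) := fun i => indFun_sub _ _
  have h0 : τ i₀ = 0 := by rw [hτ]; exact sub_self _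
  have hgen : ∀ i, Cfsg.IsGeneralizedCharacter G (τ i) := by
    intro i
    rw [hτ]
    exact ⟨_, _, Cfsg.Agent.Lib.L0.isCharacter_indFun (Subgroup.normalizer S) (Cfsg.Agent.Lib.L0.isCharacter_of_irr (hirr i)),
      Cfsg.Agent.Lib.L0.isCharacter_indFun (Subgroup.normalizer S) (Cfsg.Agent.Lib.L0.isCharacter_of_irr (hirr i₀)), rfl⟩
  have hone : ∀ i, τ i 1 = 0 := fun i => indFun_one _ (hsub1 i i₀)
  have hgram : ∀ i j, i ≠ i₀ → j ≠ i₀ →
      Cfsg.classInner (τ i) (τ j) = if i = j then 2 else 1 := by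
    intro i j hi hj
    show Cfsg.classInner (Cfsg.indFun (Subgroup.normalizer S) (χ i - χ i₀)) (Cfsg.indFun (Subgroup.normalizer S) (χ j - χ i₀)) = _
    rw [Cfsg.Agent.Lib.L0.classInner_indFun_TI S hTI _ _ (hcfsub j i₀) (hvansub i i₀) (hvansub j i₀)
      (hsub1 i i₀)]
    rw [Cfsg.Agent.Lib.L0.classInner_sub_left, Cfsg.Agent.Lib.L0.classInner_sub_right,
      Cfsg.Agent.Lib.L0.classInner_sub_right]
    rw [Cfsg.Agent.Lib.L0.irr_classInner_eq (hirr i) (hirr j),
      Cfsg.Agent.Lib.L0.irr_classInner_ne (hirr i) (hirr i₀) (fun h => hi (hinj h)),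
      Cfsg.Agent.Lib.L0.irr_classInner_ne (hirr i₀) (hirr j) (fun h => hj (hinj h).symm),
      Cfsg.Agent.Lib.L0.irr_classInner_self (hirr i₀)]
    by_cases hij : i = j
    · rw [if_pos hij, if_pos (by rw [hij])]; norm_num
    · rw [if_neg hij, if_neg (fun h => hij (hinj h))]; norm_num
  obtain ⟨ε, hε, μ, hμirr, hμinj, hμ⟩ := Cfsg.Agent.S0198.result n i₀ τ h0 hgen hone hgram
  refine ⟨ε, hε, μ, hμirr, hμinj, ?_⟩
  intro i j
  have e1 := hμ i
  have e2 := hμ j
  rw [hτ] at e1 e2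
  have : Cfsg.indFun (Subgroup.normalizer S) (χ i) - Cfsg.indFun (Subgroup.normalizer S) (χ j)
      = (Cfsg.indFun (Subgroup.normalizer S) (χ i) - Cfsg.indFun (Subgroup.normalizer S) (χ i₀)) - (Cfsg.indFun (Subgroup.normalizer S) (χ j) - Cfsg.indFun (Subgroup.normalizer S) (χ i₀)) := by
    abel
  rw [this, e1, e2, ← smul_sub]
  congr 1
  abel

end Cfsg.Agent.S0170
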