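import Cfsg.Statements.S0172
import Mathlib

set_option autoImplicit false
open Cfsg

namespace Cfsg.Agent.S0172

theorem sum_commute_card (A : Type*) [Group A] [Fintype A] :
    ∑ a : A, Nat.card {b : A // Commute a b} = Nat.card (ConjClasses A) * Nat.card A := by
  classical
  rw [← card_comm_eq_card_conjClasses_mul_card,
    Nat.card_congr (Equiv.subtypeProdEquivSigmaSubtype (fun a b : A => Commute a b)),
    Nat.card_sigma]

theorem add_sum_ne {α : Type*} [Fintype α] [DecidableEq α] (a : α) (f : α → ℕ) :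
    f a + ∑ x : {x // x ≠ a}, f x.1 = ∑ x, f x := by
  rw [← Finset.add_sum_erase Finset.univ f (Finset.mem_univ a)]
  congr 1
  exact (Finset.sum_subtype (Finset.univ.erase a) (by simp) f).symm

theorem card_commute_one (A : Type*) [Group A] :
    Nat.card {b : A // Commute (1 : A) b} = Nat.card A :=
  Nat.card_congr (Equiv.subtypeUnivEquiv (fun b => Commute.one_left b))

/-- Class number of a Frobenius group: if G = K H with K normal, K ⊓ H trivial and no non-identity element of H commuting with a non-identity element of K, then |H| * k(G) + 1 = |H| * k(H) + k(K), where k denotes the number of conjugacy classes. -/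
theorem result {G : Type*} [Group G] [Finite G] (K H : Subgroup G) [K.Normal] (hKH : K ⊓ H = ⊥) (hKH' : K ⊔ H = ⊤) (hfpf : ∀ h ∈ H, h ≠ 1 → ∀ k ∈ K, h * k = k * h → k = 1) : Nat.card H * Nat.card (ConjClasses G) + 1 = Nat.card H * Nat.card (ConjClasses H) + Nat.card (ConjClasses K) := by
  classical
  have := Fintype.ofFinite G
  have hKn : K.Normal := inferInstance
  have hdisj : ∀ x, x ∈ K → x ∈ H → x = 1 := by
    intro x hxK hxH
    have : x ∈ K ⊓ H := ⟨hxK, hxH⟩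
    rw [hKH] at this
    exact Subgroup.mem_bot.mp this
  have hcompl : Subgroup.IsComplement' K H := by
    apply Subgroup.isComplement'_of_disjoint_and_mul_eq_univ (disjoint_iff.mpr hKH)
    rw [← Subgroup.normal_mul, hKH']; rfl
  have hcard : Nat.card K * Nat.card H = Nat.card G := hcompl.card_mul_card
  -- F1
  have F1 : ∀ k ∈ K, ∀ h ∈ H, h ≠ 1 → k * h * k⁻¹ ∈ H → k = 1 := by
    intro k hk h hh hne hmem
    have h1 : k * h * k⁻¹ * h⁻¹ ∈ H := H.mul_mem hmem (H.inv_mem hh)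
    have h2 : k * h * k⁻¹ * h⁻¹ ∈ K := by
      have : k * h * k⁻¹ * h⁻¹ = k * (h * k⁻¹ * h⁻¹) := by group
      rw [this]; exact K.mul_mem hk (hKn.conj_mem _ (K.inv_mem hk) _)
    have h3 := hdisj _ h2 h1
    apply hfpf h hh hne k hk
    have : k * h = h * k := by
      calc k * h = (k * h * k⁻¹ * h⁻¹) * (h * k) := by group
        _ = h * k := by rw [h3, one_mul]
    exact this.symm
  -- F4
  have F4 : ∀ h ∈ H, h ≠ 1 → ∀ y, h * y = y * h → y ∈ H := by
    intro h hh hne y hy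
    obtain ⟨⟨k, h'⟩, hkh⟩ := hcompl.2 y
    have hkh' : k.1 * h'.1 = y := hkh
    have e : k.1⁻¹ * (h * k.1 * h⁻¹) = h'.1 * h * h'.1⁻¹ * h⁻¹ := by
      have h0 : h * (k.1 * h'.1) = (k.1 * h'.1) * h := by rw [hkh']; exact hy
      calc k.1⁻¹ * (h * k.1 * h⁻¹) = k.1⁻¹ * (h * (k.1 * h'.1)) * h'.1⁻¹ * h⁻¹ := by group
        _ = k.1⁻¹ * ((k.1 * h'.1) * h) * h'.1⁻¹ * h⁻¹ := by rw [h0]
        _ = _ := by group
    have m1 : k.1⁻¹ * (h * k.1 * h⁻¹) ∈ K := K.mul_mem (K.inv_mem k.2) (hKn.conj_mem _ k.2 _)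
    have m2 : k.1⁻¹ * (h * k.1 * h⁻¹) ∈ H := by
      rw [e]
      exact H.mul_mem (H.mul_mem (H.mul_mem h'.2 hh) (H.inv_mem h'.2)) (H.inv_mem hh)
    have h3 := hdisj _ m1 m2
    have hk1 : k.1 = 1 := by
      apply hfpf h hh hne k.1 k.2
      have : h * k.1 * h⁻¹ = k.1 := by
        have := congrArg (fun z => k.1 * z) h3
        simpa [mul_assoc] using this
      calc h * k.1 = (h * k.1 * h⁻¹) * h := by group
        _ = k.1 * h := by rw [this]
    rw [← hkh', hk1, one_mul]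
    exact h'.2
  -- F2: the conjugation map onto the complement of K
  let f : K × {h : H // h ≠ 1} → {x : G // x ∉ K} := fun p =>
    ⟨p.1.1 * p.2.1.1 * p.1.1⁻¹, by
      intro hmem
      have : p.2.1.1 ∈ K := by
        have h0 := hKn.conj_mem _ hmem p.1.1⁻¹
        have e : p.1.1⁻¹ * (p.1.1 * p.2.1.1 * p.1.1⁻¹) * p.1.1⁻¹⁻¹ = p.2.1.1 := by group
        rwa [e] at h0
      have := hdisj _ this p.2.1.2
      exact p.2.2 (Subtype.ext this)⟩
  have hfinj : Function.Injective f := by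
    rintro ⟨k, h⟩ ⟨k₁, h₁⟩ hff
    have h0 : k.1 * h.1.1 * k.1⁻¹ = k₁.1 * h₁.1.1 * k₁.1⁻¹ := congrArg Subtype.val hff
    have h1 : (k₁.1⁻¹ * k.1) * h.1.1 * (k₁.1⁻¹ * k.1)⁻¹ = h₁.1.1 := by
      calc (k₁.1⁻¹ * k.1) * h.1.1 * (k₁.1⁻¹ * k.1)⁻¹
          = k₁.1⁻¹ * (k.1 * h.1.1 * k.1⁻¹) * k₁.1 := by group
        _ = k₁.1⁻¹ * (k₁.1 * h₁.1.1 * k₁.1⁻¹) * k₁.1 := by rw [h0]
        _ = _ := by group
    have hne : h.1.1 ≠ 1 := fun hh => h.2 (Subtype.ext hh)
    have h2 := F1 (k₁.1⁻¹ * k.1) (K.mul_mem (K.inv_mem k₁.2) k.2) h.1.1 h.1.2 hne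
      (by rw [h1]; exact h₁.1.2)
    have hk : k = k₁ := by
      apply Subtype.ext
      have := inv_mul_eq_one.mp h2
      exact this.symm
    subst hk
    have hh : h = h₁ := by
      apply Subtype.ext
      apply Subtype.ext
      have := h0
      simpa using this
    rw [hh]
  have hT : Nat.card {h : H // h ≠ 1} + 1 = Nat.card H := by
    have := add_sum_ne (1 : H) (fun _ => 1)
    simp only [Finset.sum_const, Finset.card_univ, smul_eq_mul, mul_one] at this
    rw [Nat.card_eq_fintype_card, Nat.card_eq_fintype_card]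
    omega
  have hN : Nat.card {x : G // x ∈ K} + Nat.card {x : G // x ∉ K} = Nat.card G := by
    rw [← Nat.card_sum]
    exact Nat.card_congr (Equiv.sumCompl (fun x => x ∈ K))
  have hfcard : Nat.card (K × {h : H // h ≠ 1}) = Nat.card {x : G // x ∉ K} := by
    rw [Nat.card_prod]
    have e1 : Nat.card {x : G // x ∈ K} = Nat.card K := rfl
    rw [e1] at hN
    have : Nat.card K * (Nat.card {h : H // h ≠ 1} + 1) = Nat.card K + Nat.card {x : G // x ∉ K} := by
      rw [hT, hcard, hN]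
    linarith
  have hf : Function.Bijective f := (Nat.bijective_iff_injective_and_card f).mpr ⟨hfinj, hfcard⟩
  -- F3
  have F3 : ∀ x ∈ K, x ≠ 1 → ∀ y, x * y = y * x → y ∈ K := by
    intro x hx hne y hy
    by_contra hyK
    obtain ⟨⟨k, h⟩, hkh⟩ := hf.2 ⟨y, hyK⟩
    have hkh' : k.1 * h.1.1 * k.1⁻¹ = y := congrArg Subtype.val hkh
    have hne' : h.1.1 ≠ 1 := fun hh => h.2 (Subtype.ext hh)
    have hx' : k.1⁻¹ * x * k.1 ∈ K := by
      have := hKn.conj_mem _ hx k.1⁻¹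
      simpa using this
    have hc : h.1.1 * (k.1⁻¹ * x * k.1) = (k.1⁻¹ * x * k.1) * h.1.1 := by
      calc h.1.1 * (k.1⁻¹ * x * k.1) = k.1⁻¹ * ((k.1 * h.1.1 * k.1⁻¹) * x) * k.1 := by group
        _ = k.1⁻¹ * (x * (k.1 * h.1.1 * k.1⁻¹)) * k.1 := by rw [hkh', hy]
        _ = _ := by group
    have := hfpf _ h.1.2 hne' _ hx' hc
    apply hne
    have e : x = k.1 * (k.1⁻¹ * x * k.1) * k.1⁻¹ := by group
    rw [e, this]; group
  -- the sums
  set F : G → ℕ := fun a => Nat.card {b : G // Commute a b} with hF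
  set FK : K → ℕ := fun a => Nat.card {b : K // Commute a b} with hFK
  set FH : H → ℕ := fun a => Nat.card {b : H // Commute a b} with hFH
  have hSG : ∑ a, F a = Nat.card (ConjClasses G) * Nat.card G := sum_commute_card G
  have hSK : ∑ a, FK a = Nat.card (ConjClasses K) * Nat.card K := sum_commute_card K
  have hSH : ∑ a, FH a = Nat.card (ConjClasses H) * Nat.card H := sum_commute_card H
  have hsplit := Fintype.sum_subtype_add_sum_subtype (fun x => x ∈ K) F
  -- part K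
  have hK1 := add_sum_ne (1 : K) (fun a => F a.1)
  have hK2 := add_sum_ne (1 : K) FK
  have hF1 : F ((1 : K) : G) = Nat.card G := card_commute_one G
  have hFK1 : FK 1 = Nat.card K := card_commute_one K
  have hFH1 : FH 1 = Nat.card H := card_commute_one H
  have hFFK : ∀ a : K, a ≠ 1 → F a.1 = FK a := by
    intro a ha
    have ha' : a.1 ≠ 1 := fun h => ha (Subtype.ext h)
    symm
    apply Nat.card_congr
    refine Equiv.ofBijective (fun b => ⟨b.1.1, ?_⟩) ⟨?_, ?_⟩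
    · have := b.2
      exact congrArg Subtype.val this.eq
    · intro b b' hbb
      apply Subtype.ext; apply Subtype.ext
      have h := congrArg Subtype.val hbb
      exact h
    · intro b
      have hbK : b.1 ∈ K := F3 a.1 a.2 ha' b.1 b.2.eq
      exact ⟨⟨⟨b.1, hbK⟩, Subtype.ext b.2.eq⟩, rfl⟩
  have hKsum : ∑ x : {x : K // x ≠ 1}, F x.1.1 = ∑ x : {x : K // x ≠ 1}, FK x.1 :=
    Finset.sum_congr rfl (fun x _ => hFFK x.1 x.2)
  -- part N
  have hN1 : ∑ a : {x : G // x ∉ K}, F a.1 = ∑ p : K × {h : H // h ≠ 1}, F (f p).1 :=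
    (Function.Bijective.sum_comp hf (fun a => F a.1)).symm
  have hFFH : ∀ p : K × {h : H // h ≠ 1}, F (f p).1 = FH p.2.1 := by
    rintro ⟨k, h⟩
    have hne' : h.1.1 ≠ 1 := fun hh => h.2 (Subtype.ext hh)
    symm
    apply Nat.card_congr
    refine Equiv.ofBijective (fun b => ⟨k.1 * b.1.1 * k.1⁻¹, ?_⟩) ⟨?_, ?_⟩
    · have hb : h.1.1 * b.1.1 = b.1.1 * h.1.1 := congrArg Subtype.val b.2.eq
      show (k.1 * h.1.1 * k.1⁻¹) * (k.1 * b.1.1 * k.1⁻¹) = (k.1 * b.1.1 * k.1⁻¹) * (k.1 * h.1.1 * k.1⁻¹)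
      calc (k.1 * h.1.1 * k.1⁻¹) * (k.1 * b.1.1 * k.1⁻¹) = k.1 * (h.1.1 * b.1.1) * k.1⁻¹ := by group
        _ = k.1 * (b.1.1 * h.1.1) * k.1⁻¹ := by rw [hb]
        _ = _ := by group
    · intro b b' hbb
      apply Subtype.ext; apply Subtype.ext
      have := congrArg Subtype.val hbb
      simpa using this
    · intro b
      have hb : (k.1 * h.1.1 * k.1⁻¹) * b.1 = b.1 * (k.1 * h.1.1 * k.1⁻¹) := b.2.eq
      have hc : h.1.1 * (k.1⁻¹ * b.1 * k.1) = (k.1⁻¹ * b.1 * k.1) * h.1.1 := by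
        calc h.1.1 * (k.1⁻¹ * b.1 * k.1) = k.1⁻¹ * ((k.1 * h.1.1 * k.1⁻¹) * b.1) * k.1 := by group
          _ = k.1⁻¹ * (b.1 * (k.1 * h.1.1 * k.1⁻¹)) * k.1 := by rw [hb]
          _ = _ := by group
      have hmem := F4 _ h.1.2 hne' _ hc
      refine ⟨⟨⟨k.1⁻¹ * b.1 * k.1, hmem⟩, Subtype.ext hc⟩, ?_⟩
      apply Subtype.ext
      show k.1 * (k.1⁻¹ * b.1 * k.1) * k.1⁻¹ = b.1
      group
  have hN2 : ∑ p : K × {h : H // h ≠ 1}, F (f p).1
      = Nat.card K * ∑ t : {h : H // h ≠ 1}, FH t.1 := by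
    rw [Finset.sum_congr rfl (fun p _ => hFFH p), Fintype.sum_prod_type]
    simp only [Finset.sum_const, Finset.card_univ, smul_eq_mul, Nat.card_eq_fintype_card]
  have hH2 := add_sum_ne (1 : H) FH
  -- arithmetic
  have hKpos : 0 < Nat.card K := Nat.card_pos
  apply Nat.eq_of_mul_eq_mul_left hKpos
  have hsplit' : ∑ a : K, F a.1 + ∑ a : {x : G // x ∉ K}, F a.1 = ∑ a, F a := hsplit
  rw [hN1, hN2, hSG, ← hK1, hF1, hKsum] at hsplit'
  rw [hFK1, hSK] at hK2
  rw [hFH1, hSH] at hH2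
  generalize (∑ x : {x : K // x ≠ 1}, FK x.1) = b at *
  generalize (∑ t : {h : H // h ≠ 1}, FH t.1) = c at *
  zify at *
  linear_combination (Nat.card (ConjClasses G) - 1 : ℤ) * hcard - hsplit' + hK2 + (Nat.card K : ℤ) * hH2

end Cfsg.Agent.S0172
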