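-- Statement S0173
import Cfsg.Statements.S0173
import Cfsg.Agent.Lib.H24.CharConj

set_option autoImplicit false
open Cfsg

namespace Cfsg.Agent.S0173

open Cfsg.Agent.Lib.H24 Cfsg.Agent.Lib.L0

/-- Brauer's permutation lemma for a single automorphism: the number of conjugacy classes mapped to themselves equals the number of irreducible complex characters χ with χ ∘ α = χ. -/
theorem result {G : Type*} [Group G] [Finite G] (α : G ≃* G) : Nat.card {C : ConjClasses G // ConjClasses.map α.toMonoidHom C = C} = Nat.card {χ : Cfsg.IrrCharacter G // (χ : G → ℂ) ∘ α = (χ : G → ℂ)} := by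
  have h := perm_lemma (G := G) (fun g => α g) (fun χ =>
    isIrrCharacter_comp_of_surjective α.toMonoidHom α.surjective χ.2)
  have h1 : Nat.card {χ : Cfsg.IrrCharacter G // (χ : G → ℂ) ∘ α = (χ : G → ℂ)} =
      Nat.card {χ : IrrCharacter G // (χ : G → ℂ) ∘ (fun g => α g) = (χ : G → ℂ)} := rfl
  rw [h1, h]
  refine Nat.card_congr (Equiv.subtypeEquivRight (fun C => ?_))
  constructor
  · intro hC g hg
    subst hg
    have hC' : ConjClasses.mk (α g) = ConjClasses.mk g := hC
    exact ConjClasses.mk_eq_mk_iff_isConj.mp hC'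
  · intro hC
    obtain ⟨g, rfl⟩ := ConjClasses.mk_surjective C
    change ConjClasses.mk (α g) = ConjClasses.mk g
    exact ConjClasses.mk_eq_mk_iff_isConj.mpr (hC g rfl)

end Cfsg.Agent.S0173
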