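-- Statement S0175
import Cfsg.Statements.S0175
import Cfsg.Agent.S4784
import Cfsg.Agent.Lib.H24.CharAbelian
import Cfsg.Agent.Lib.H24.CharCodegree

set_option autoImplicit false
open Cfsg

namespace Cfsg.Agent.S0175

open Cfsg.Agent.Lib.H24 Cfsg.Agent.Lib.L0 Cfsg.Agent.Lib.H23 Cfsg.Agent.S4784
open scoped ComplexConjugate

/-- Taketa's Theorem on M-groups: if every irreducible complex character of a finite group is induced from a linear character (a homomorphism to ℂˣ) of some subgroup, the group is solvable. -/
theorem result {G : Type*} [Group G] [Fintype G] (hM : ∀ χ : G → ℂ, Cfsg.IsIrrCharacter G χ → ∃ (H : Subgroup G) (lam : H →* ℂˣ), χ = Cfsg.indFun H (fun h => (lam h : ℂ))) : Group.IsSolvable G := by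
  classical
  have := Fintype.ofFinite (IrrCharacter G)
  have hGpos : (Nat.card G : ℂ) ≠ 0 := by exact_mod_cast (Nat.card_pos (α := G)).ne'
  -- main claim
  have hclaim : ∀ n : ℕ, ∀ χ : IrrCharacter G, charDegree (χ : G → ℂ) ≤ n →
      derivedSeries G n ≤ irrKer χ := by
    intro n
    induction n using Nat.strong_induction_on with
    | _ n ih =>
    intro χ hχn
    rcases Nat.lt_or_ge (charDegree (χ : G → ℂ)) n with hlt | hge
    · exact (derivedSeries_antitone G hlt.le).trans (ih _ hlt χ le_rfl)
    · have hdn : charDegree (χ : G → ℂ) = n := le_antisymm hχn hge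
      have hn0 : 0 < n := by rw [← hdn]; exact charDegree_pos _ χ.2
      obtain ⟨H, lam, hχ⟩ := hM (χ : G → ℂ) χ.2
      have := Fintype.ofFinite H
      have hHpos : (Nat.card H : ℂ) ≠ 0 := by exact_mod_cast (Nat.card_pos (α := H)).ne'
      -- the index of H is n
      have hidx : H.index = n := by
        have h1 : (χ : G → ℂ) 1 = (H.index : ℂ) := by
          rw [hχ, indFun_one]
          simp
        rw [apply_one_eq_charDegree _ χ.2, hdn] at h1
        exact_mod_cast h1.symm
      -- the permutation character π
      have hπchar := isCharacter_permChar H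
      have hπ1 : permChar H 1 = (n : ℂ) := by
        unfold permChar
        rw [indFun_one, hidx, mul_one]
      have hm : ∀ ψ : IrrCharacter G, ∃ m : ℕ, classInner (permChar H) (ψ : G → ℂ) = m :=
        fun ψ => classInner_char_irr_nat hπchar ψ.2
      choose m hm using hm
      have hmtriv : m (trivialIrr G) = 1 := by
        have h1 := hm (trivialIrr G)
        have h2 : classInner (permChar H) (trivialIrr G : G → ℂ) = 1 := classInner_permChar_one H
        rw [h2] at h1
        exact_mod_cast h1.symm
      have hexp : ∀ g : G, permChar H g = ∑ ψ : IrrCharacter G, (m ψ : ℂ) * (ψ : G → ℂ) g := by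
        intro g
        have h1 := congrFun (classFunction_expansion (permChar H)
          (isClassFunction_of_isCharacter hπchar)) g
        simp only [Finset.sum_apply, Pi.smul_apply, smul_eq_mul, hm] at h1
        exact h1
      have hnsum : n = ∑ ψ : IrrCharacter G, m ψ * charDegree (ψ : G → ℂ) := by
        have h1 := hexp 1
        rw [hπ1] at h1
        have h2 : ((n : ℕ) : ℂ) = ((∑ ψ : IrrCharacter G, m ψ * charDegree (ψ : G → ℂ) : ℕ) : ℂ) := by
          rw [h1]
          push_cast
          refine Finset.sum_congr rfl (fun ψ _ => ?_)
          rw [apply_one_eq_charDegree _ ψ.2]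
        exact_mod_cast h2
      -- constituents other than the trivial character have smaller degree
      have hsmall : ∀ ψ : IrrCharacter G, ψ ≠ trivialIrr G → m ψ ≠ 0 →
          charDegree (ψ : G → ℂ) < n := by
        intro ψ hne hmψ
        have h1 : m (trivialIrr G) * charDegree (trivialIrr G : G → ℂ) +
            m ψ * charDegree (ψ : G → ℂ) ≤ n := by
          rw [hnsum, ← Finset.add_sum_erase Finset.univ _ (Finset.mem_univ (trivialIrr G))]
          apply Nat.add_le_add_left
          exact Finset.single_le_sum
            (f := fun ψ : IrrCharacter G => m ψ * charDegree (ψ : G → ℂ))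
            (fun _ _ => Nat.zero_le _) (Finset.mem_erase.mpr ⟨hne, Finset.mem_univ _⟩)
        have h2 : charDegree (trivialIrr G : G → ℂ) = 1 := by
          apply charDegree_eq_of_apply_one
          simp
        rw [hmtriv, h2] at h1
        have h3 : charDegree (ψ : G → ℂ) ≤ m ψ * charDegree (ψ : G → ℂ) :=
          Nat.le_mul_of_pos_left _ (Nat.pos_of_ne_zero hmψ)
        omega
      -- D = derivedSeries (n-1) lies in the kernel of every constituent of π
      have hDker : ∀ ψ : IrrCharacter G, m ψ ≠ 0 → derivedSeries G (n - 1) ≤ irrKer ψ := by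
        intro ψ hmψ
        by_cases hne : ψ = trivialIrr G
        · rw [hne]
          intro g _
          rw [mem_charKer]
          simp
        · have h1 := hsmall ψ hne hmψ
          exact ih (n - 1) (by omega) ψ (by omega)
      -- hence D ≤ H
      have hDH : derivedSeries G (n - 1) ≤ H := by
        intro g hg
        have h1 : permChar H g = permChar H 1 := by
          rw [hexp g, hexp 1]
          refine Finset.sum_congr rfl (fun ψ _ => ?_)
          by_cases hmψ : m ψ = 0
          · rw [hmψ]; simp
          · have := hDker ψ hmψ hg
            rw [mem_charKer] at this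
            rw [this]
        rw [permChar_apply, permChar_apply] at h1
        have h2 : (cnt H g : ℂ) = (cnt H 1 : ℂ) := by
          have := mul_left_cancel₀ (inv_ne_zero hHpos) h1
          exact this
        have h3 : cnt H g = cnt H 1 := by exact_mod_cast h2
        have h4 : cnt H 1 = Fintype.card G := by
          unfold cnt
          rw [Finset.filter_true_of_mem, Finset.card_univ]
          intro x _
          simp
        rw [h4] at h3
        have h5 : Finset.univ.filter (fun x : G => x⁻¹ * g * x ∈ H) = Finset.univ :=
          Finset.eq_univ_of_card _ h3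
        have h6 : (1 : G) ∈ Finset.univ.filter (fun x : G => x⁻¹ * g * x ∈ H) := by
          rw [h5]; exact Finset.mem_univ _
        simpa using h6
      -- the commutator of D lies in the kernel of λ, hence in the kernel of χ
      have hn1 : n = (n - 1) + 1 := by omega
      have hcomm : derivedSeries G n ≤ H := by
        rw [hn1, derivedSeries_succ]
        exact (Subgroup.commutator_le_self _).trans hDH
      have hlamker : ∀ g (hg : g ∈ derivedSeries G n), lam ⟨g, hcomm hg⟩ = 1 := by
        have hle : derivedSeries G n ≤ (lam.ker).map H.subtype := by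
          rw [hn1, derivedSeries_succ, Subgroup.commutator_le]
          intro a ha b hb
          refine ⟨(⟨a, hDH ha⟩ : H) * (⟨b, hDH hb⟩ : H) * (⟨a, hDH ha⟩ : H)⁻¹ *
            (⟨b, hDH hb⟩ : H)⁻¹, ?_, ?_⟩
          · rw [SetLike.mem_coe, MonoidHom.mem_ker]
            simp only [map_mul, map_inv]
            rw [mul_comm (lam ⟨a, hDH ha⟩) (lam ⟨b, hDH hb⟩)]
            simp
          · simp [commutatorElement_def]
        intro g hg
        obtain ⟨h, hh, hhg⟩ := hle hg
        have : (⟨g, hcomm hg⟩ : H) = h := Subtype.ext hhg.symm
        rw [this]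
        exact hh
      intro g hg
      rw [mem_charKer, hχ, indFun_one, indFun_apply]
      have hnorm : (derivedSeries G n).Normal := derivedSeries_normal G n
      have hterm : ∀ x : G, extendByZero H (fun h => (lam h : ℂ)) (x⁻¹ * g * x) = 1 := by
        intro x
        have hx : x⁻¹ * g * x ∈ derivedSeries G n := by
          have := hnorm.conj_mem g hg x⁻¹
          simpa using this
        rw [extendByZero_apply_of_mem H _ (hcomm hx), hlamker _ hx]
        simp
      simp only [hterm, Finset.sum_const, Finset.card_univ, nsmul_eq_mul, mul_one, map_one,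
        Units.val_one]
      rw [← Nat.card_eq_fintype_card, ← Subgroup.index_mul_card H]
      push_cast
      field_simp
  -- conclusion
  rw [Group.isSolvable_def]
  refine ⟨Nat.card G, ?_⟩
  rw [eq_bot_iff]
  intro g hg
  rw [Subgroup.mem_bot]
  have hall : ∀ χ : IrrCharacter G, (χ : G → ℂ) g = (χ : G → ℂ) 1 := by
    intro χ
    have hle : charDegree (χ : G → ℂ) ≤ Nat.card G :=
      Nat.le_of_dvd Nat.card_pos (charDegree_dvd_card _ χ.2)
    exact hclaim _ χ hle hg
  have := (isConj_iff_forall_irr_eq g 1).mpr hall
  obtain ⟨c, hc⟩ := isConj_iff.mp this.symm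
  rw [← hc]; group

end Cfsg.Agent.S0175
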