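import Cfsg.Statements.S0180
import Cfsg.Agent.Lib.H23.Rational

set_option autoImplicit false
open Cfsg

namespace Cfsg.Agent.S0180

/-- Every irreducible complex character of a finite group takes only rational values if and only if g is conjugate to g ^ m for every element g and every m coprime to the group order. -/
theorem result {G : Type*} [Group G] [Finite G] : (∀ χ : Cfsg.IrrCharacter G, ∀ g : G, ∃ q : ℚ, (χ : G → ℂ) g = (q : ℂ)) ↔ ∀ m : ℕ, m.Coprime (Nat.card G) → ∀ g : G, IsConj g (g ^ m) := by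
  classical
  have := Fintype.ofFinite G
  constructor
  · intro hrat m hm g
    rw [Cfsg.Agent.Lib.H24.isConj_iff_forall_irr_eq]
    intro χ
    obtain ⟨q, hq⟩ := hrat χ g
    obtain ⟨n, ρ, _, hχ⟩ := χ.2
    rw [← hχ] at hq ⊢
    exact (Cfsg.Agent.Lib.H23.char_pow_eq_of_rational ρ g q hq m hm).symm
  · intro hconj χ g
    obtain ⟨n, ρ, _, hχ⟩ := χ.2
    rw [← hχ]
    apply Cfsg.Agent.Lib.H23.char_rational_of_forall_char_pow_eq ρ g
    intro m hm
    have h1 := (Cfsg.Agent.Lib.H24.isConj_iff_forall_irr_eq g (g ^ m)).mp (hconj m hm g) χ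
    rw [← hχ] at h1
    exact h1.symm

end Cfsg.Agent.S0180
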