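-- Statement S0181
import Cfsg.Statements.S0181
import Cfsg.Agent.Lib.H24.CharKernel

set_option autoImplicit false
open Cfsg

namespace Cfsg.Agent.S0181

open Cfsg.Agent.Lib.H24 Cfsg.Agent.Lib.L0

/-- Let H be a normal subgroup of a finite group G and ρ an irreducible complex representation whose kernel does not contain H. If g commutes with no non-identity element of H, then the character of ρ vanishes at g. -/
theorem result {G : Type*} [Group G] [Finite G] {V : Type*} [AddCommGroup V] [Module ℂ V] [FiniteDimensional ℂ V] (ρ : Representation ℂ G V) [ρ.IsIrreducible] (H : Subgroup G) [H.Normal] (hker : ∃ h ∈ H, ρ h ≠ LinearMap.id) (g : G) (hg : ∀ h ∈ H, h * g = g * h → h = 1) : ρ.character g = 0 := by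
  classical
  have := Fintype.ofFinite H
  have hx : ∃ x ∈ H, ρ.character x ≠ ρ.character 1 := by
    obtain ⟨h, hH, hne⟩ := hker
    refine ⟨h, hH, fun heq => hne ?_⟩
    exact (char_eq_char_one_iff ρ h).mp heq
  have hsum := sum_normal_char_mul_eq_zero ρ ‹_› H hx g
  -- the map n ↦ g⁻¹ n⁻¹ g n is a bijection of H
  let φ : H → H := fun n => ⟨g⁻¹ * (n : G)⁻¹ * g * n, by
    have h1 : g⁻¹ * (n : G)⁻¹ * g ∈ H := by
      have := ‹H.Normal›.conj_mem _ (H.inv_mem n.2) g⁻¹
      simpa [mul_assoc] using this
    exact H.mul_mem h1 n.2⟩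
  have hφinj : Function.Injective φ := by
    intro n m hnm
    have h1 : g⁻¹ * (n : G)⁻¹ * g * n = g⁻¹ * (m : G)⁻¹ * g * m := congrArg Subtype.val hnm
    have h2 : (n : G)⁻¹ * g * n = (m : G)⁻¹ * g * m := by
      have := congrArg (fun z => g * z) h1
      simpa [mul_assoc] using this
    have h3 : ((m : G) * (n : G)⁻¹) * g = g * ((m : G) * (n : G)⁻¹) := by
      have := congrArg (fun z => (m : G) * z * (n : G)⁻¹) h2
      simp only [mul_assoc, mul_inv_cancel, mul_one, mul_inv_cancel_left] at this
      simpa [mul_assoc] using this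
    have h4 := hg _ (H.mul_mem m.2 (H.inv_mem n.2)) h3
    ext
    exact (mul_inv_eq_one.mp h4).symm
  have hφbij : Function.Bijective φ := Finite.injective_iff_bijective.mp hφinj
  have hre : ∑ n : H, ρ.character (g * n) = ∑ n : H, ρ.character (g * (φ n : G)) :=
    (Fintype.sum_bijective φ hφbij _ _ (fun _ => rfl)).symm
  have hconst : ∀ n : H, ρ.character (g * (φ n : G)) = ρ.character g := by
    intro n
    have : g * (φ n : G) = (n : G)⁻¹ * g * ((n : G)⁻¹)⁻¹ := by
      simp [φ, mul_assoc]
    rw [this, Representation.char_conj]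
  rw [hre] at hsum
  simp only [hconst, Finset.sum_const, Finset.card_univ, nsmul_eq_mul] at hsum
  rcases mul_eq_zero.mp hsum with h0 | h0
  · exfalso
    have : Fintype.card H = 0 := by exact_mod_cast h0
    exact Fintype.card_ne_zero this
  · exact h0

end Cfsg.Agent.S0181
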