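-- Statement S0184
import Cfsg.Statements.S0184
import Cfsg.Agent.Lib.H24.CharKer
import Cfsg.Agent.Lib.H24.CharSchur
import Cfsg.Agent.Lib.H10.PGroup

set_option autoImplicit false
open Cfsg

namespace Cfsg.Agent.S0184

open Cfsg.Agent.Lib.H24 Cfsg.Agent.Lib.L0

/-- Forward direction: a faithful irreducible representation forces a cyclic centre. -/
theorem center_cyclic_of_faithful {G : Type*} [Group G] [Finite G] {V : Type*} [AddCommGroup V]
    [Module ℂ V] [FiniteDimensional ℂ V] (ρ : Representation ℂ G V) (hρ : ρ.IsIrreducible)
    (hinj : Function.Injective ρ) : IsCyclic (Subgroup.center G) := by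
  have hd : (Module.finrank ℂ V : ℂ) ≠ 0 := finrank_ne_zero_of_irreducible ρ hρ
  have hsc : ∀ z : Subgroup.center G, ρ (z : G) =
      (LinearMap.trace ℂ V (ρ (z : G)) / (Module.finrank ℂ V : ℂ)) • LinearMap.id := by
    intro z
    apply schur_scalar ρ hρ
    intro g
    have hz : g * (z : G) = (z : G) * g := Subgroup.mem_center_iff.mp z.2 g
    show ρ (z : G) * ρ g = ρ g * ρ (z : G)
    rw [← map_mul, ← map_mul, hz]
  let f : Subgroup.center G →* ℂ :=
    { toFun := fun z => LinearMap.trace ℂ V (ρ (z : G)) / (Module.finrank ℂ V : ℂ)
      map_one' := by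
        simp only [OneMemClass.coe_one, map_one]
        rw [show (1 : Module.End ℂ V) = LinearMap.id from rfl, LinearMap.trace_id]
        exact div_self hd
      map_mul' := by
        intro z w
        have h1 : ρ ((z * w : Subgroup.center G) : G) = ρ (z : G) * ρ (w : G) := by
          rw [Subgroup.coe_mul, map_mul]
        have h2 := hsc (z * w)
        rw [h1] at h2
        conv_lhs at h2 => rw [hsc z, hsc w]
        have h3 := congrArg (LinearMap.trace ℂ V) h2
        simp only [smul_mul_assoc, mul_smul_comm, map_smul, smul_eq_mul] at h3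
        rw [show (LinearMap.id : V →ₗ[ℂ] V) * LinearMap.id = LinearMap.id from rfl,
          LinearMap.trace_id] at h3
        have h4 : ρ ((z * w : Subgroup.center G) : G) = ρ (z : G) * ρ (w : G) := h1
        rw [h4]
        field_simp at h3 ⊢
        linear_combination -h3 }
  have hf : Function.Injective f := by
    intro z w hzw
    apply Subtype.ext
    apply hinj
    rw [hsc z, hsc w]
    congr 1
  exact isCyclic_of_injective_ringHom f hf

/-- A finite p-group admits a faithful irreducible complex representation if and only if its centre is cyclic. -/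
theorem result {G : Type*} [Group G] [Finite G] (p : ℕ) [Fact p.Prime] (hG : IsPGroup p G) : (∃ (n : ℕ) (ρ : Representation ℂ G (Fin n → ℂ)), ρ.IsIrreducible ∧ Function.Injective ρ) ↔ IsCyclic (Subgroup.center G) := by
  classical
  have hpp : p.Prime := Fact.out
  have := Fintype.ofFinite G
  constructor
  · rintro ⟨n, ρ, hρ, hinj⟩
    exact center_cyclic_of_faithful ρ hρ hinj
  · intro hcyc
    -- pick an element z₀ of order p in the centre (if the group is nontrivial)
    by_cases htriv : Subsingleton G
    · obtain ⟨n, ρ, hρ, _⟩ := irr_exists_rep (trivialIrr G)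
      exact ⟨n, ρ, hρ, fun a b _ => Subsingleton.elim a b⟩
    · rw [not_subsingleton_iff_nontrivial] at htriv
      have hZnt : Nontrivial (Subgroup.center G) := hG.center_nontrivial
      have hZp : IsPGroup p (Subgroup.center G) := hG.to_subgroup _
      have hdvd : p ∣ Nat.card (Subgroup.center G) := by
        obtain ⟨k, hk⟩ := IsPGroup.iff_card.mp hZp
        rw [hk]
        have hk0 : k ≠ 0 := by
          intro h0
          rw [h0, pow_zero] at hk
          have := (Nat.card_eq_one_iff_unique.mp hk).1
          exact not_subsingleton _ this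
        exact dvd_pow_self p hk0
      obtain ⟨z₀, hz₀⟩ := exists_prime_orderOf_dvd_card' (G := Subgroup.center G) p hdvd
      have hz₀1 : (z₀ : G) ≠ 1 := by
        intro h
        have : z₀ = 1 := Subtype.ext h
        rw [this, orderOf_one] at hz₀
        exact hpp.one_lt.ne hz₀
      -- every nontrivial normal subgroup contains z₀
      have hcontains : ∀ N : Subgroup G, N.Normal → N ≠ ⊥ → (z₀ : G) ∈ N := by
        intro N hN hN1
        obtain ⟨w, hwN, hw1, hwZ⟩ := Cfsg.Agent.Lib.H10.exists_ne_one_mem_center_of_normal hG N hN1
        -- a power of w of order p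
        let w' : Subgroup.center G := ⟨w, hwZ⟩
        have hw'1 : w' ≠ 1 := fun h => hw1 (congrArg Subtype.val h)
        obtain ⟨k, hk⟩ := (IsPGroup.iff_orderOf.mp hZp) w'
        have hk0 : k ≠ 0 := by
          intro h0
          rw [h0, pow_zero, orderOf_eq_one_iff] at hk
          exact hw'1 hk
        obtain ⟨j, rfl⟩ := Nat.exists_eq_succ_of_ne_zero hk0
        set u : Subgroup.center G := w' ^ (p ^ j) with hu
        have hou : orderOf u = p := by
          rw [hu, orderOf_pow, hk, Nat.gcd_eq_right (pow_dvd_pow p (Nat.le_succ j)), pow_succ,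
            Nat.mul_div_cancel_left _ (pow_pos hpp.pos j)]
        have huN : (u : G) ∈ N := by
          rw [hu, Subgroup.coe_pow]
          exact N.pow_mem hwN _
        -- z₀ is a power of u
        have := Fintype.ofFinite (Subgroup.center G)
        have hle := IsCyclic.card_pow_eq_one_le (α := Subgroup.center G) hpp.pos
        have hsub : (Finset.univ.filter (fun a : Subgroup.center G => a ∈ Subgroup.zpowers u)) ⊆
            (Finset.univ.filter (fun a : Subgroup.center G => a ^ p = 1)) := by
          intro a ha
          simp only [Finset.mem_filter, Finset.mem_univ, true_and] at ha ⊢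
          obtain ⟨i, rfl⟩ := ha
          rw [← zpow_natCast, ← zpow_mul, mul_comm, zpow_mul, zpow_natCast, ← hou,
            pow_orderOf_eq_one, one_zpow]
        have hcardu : (Finset.univ.filter (fun a : Subgroup.center G => a ∈ Subgroup.zpowers u)).card
            = p := by
          rw [← hou, ← Nat.card_zpowers, Nat.card_eq_fintype_card, Fintype.card_subtype]
        have heq := Finset.eq_of_subset_of_card_le hsub (by rw [hcardu]; convert hle)
        have hz₀mem : z₀ ∈ (Finset.univ.filter (fun a : Subgroup.center G => a ^ p = 1)) := by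
          simp only [Finset.mem_filter, Finset.mem_univ, true_and]
          rw [← hz₀, pow_orderOf_eq_one]
        rw [← heq] at hz₀mem
        simp only [Finset.mem_filter, Finset.mem_univ, true_and] at hz₀mem
        obtain ⟨i, hi⟩ := hz₀mem
        have : (z₀ : G) = (u : G) ^ i := by
          rw [← hi]; simp
        rw [this]
        exact N.zpow_mem huN i
      -- some irreducible character does not have z₀ in its kernel
      have hex : ∃ χ : IrrCharacter G, (χ : G → ℂ) (z₀ : G) ≠ (χ : G → ℂ) 1 := by
        by_contra hall
        push Not at hall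
        have := (isConj_iff_forall_irr_eq (z₀ : G) 1).mpr hall
        apply hz₀1
        obtain ⟨c, hc⟩ := isConj_iff.mp this.symm
        rw [← hc]; group
      obtain ⟨χ, hχ⟩ := hex
      obtain ⟨n, ρ, hρ, hρχ⟩ := irr_exists_rep χ
      refine ⟨n, ρ, hρ, ?_⟩
      have hχc : IsCharacter G (χ : G → ℂ) := isCharacter_of_irr χ.2
      have hker : charKer (χ : G → ℂ) hχc = ⊥ := by
        by_contra hne
        have := hcontains _ (charKer_normal _ hχc) hne
        exact hχ this
      intro a b hab
      have h1 : ρ (a * b⁻¹) = 1 := by
        rw [map_mul, hab, ← map_mul, mul_inv_cancel, map_one]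
      have h2 : a * b⁻¹ ∈ charKer (χ : G → ℂ) hχc := (mem_charKer_rep ρ hχc hρχ _).mpr h1
      rw [hker, Subgroup.mem_bot] at h2
      exact mul_inv_eq_one.mp h2

end Cfsg.Agent.S0184
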