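-- Statement S0185
import Cfsg.Statements.S0185
import Cfsg.Agent.Lib.H24.CharKer
import Cfsg.Agent.Lib.H23.DegreeDvd

set_option autoImplicit false
open Cfsg

namespace Cfsg.Agent.S0185

open Cfsg.Agent.Lib.H24 Cfsg.Agent.Lib.L0 Cfsg.Agent.Lib.H23

/-- If a finite group has a faithful complex representation of degree less than the smallest prime dividing its order, the group is abelian. -/
theorem result {G : Type*} [Group G] [Finite G] {V : Type*} [AddCommGroup V] [Module ℂ V] [FiniteDimensional ℂ V] (ρ : Representation ℂ G V) (hfaithful : Function.Injective ρ) (hdeg : ∀ p : ℕ, p.Prime → p ∣ Nat.card G → Module.finrank ℂ V < p) (a b : G) : a * b = b * a := by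
  have hχ : IsCharacter G ρ.character := isCharacter_of_rep ρ
  have hd : ρ.character 1 = (Module.finrank ℂ V : ℕ) := Representation.char_one ρ
  have hsmall : ∀ ψ : IrrCharacter G, ∀ n : ℕ, (ψ : G → ℂ) 1 = n → n ≤ Module.finrank ℂ V →
      n = 1 := by
    intro ψ n hn hle
    obtain ⟨n', hn'pos, hn', hdvd⟩ := irr_apply_one_dvd_card (ψ : G → ℂ) ψ.2
    have hnn : n = n' := by
      have : (n : ℂ) = (n' : ℂ) := by rw [← hn, hn']
      exact_mod_cast this
    subst hnn
    by_contra hne
    obtain ⟨q, hq, hqn⟩ := Nat.exists_prime_and_dvd hne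
    have h1 := hdeg q hq (hqn.trans hdvd)
    have h2 := Nat.le_of_dvd hn'pos hqn
    omega
  have hcomm := char_commutator_eq hχ _ hd hsmall a b
  have h1 : ρ (a * b * a⁻¹ * b⁻¹) = 1 := (char_eq_char_one_iff ρ _).mp hcomm
  have h2 : a * b * a⁻¹ * b⁻¹ = 1 := by
    apply hfaithful
    rw [h1, map_one]
  calc a * b = (a * b * a⁻¹ * b⁻¹) * (b * a) := by group
    _ = b * a := by rw [h2, one_mul]

end Cfsg.Agent.S0185
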