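-- Statement S0186
import Cfsg.Statements.S0186
import Cfsg.Agent.Lib.H24.CharKer
import Cfsg.Agent.Lib.H23.DegreeDvd

set_option autoImplicit false
open Cfsg

namespace Cfsg.Agent.S0186

open Cfsg.Agent.Lib.H24 Cfsg.Agent.Lib.L0 Cfsg.Agent.Lib.H23

/-- Let G be a finite simple group of order n and p a prime dividing n. If G has more than n / p^2 conjugacy classes, then every Sylow p-subgroup of G is abelian. -/
theorem result {G : Type*} [Group G] [Finite G] [IsSimpleGroup G] (p : ℕ) [Fact p.Prime] (hp : p ∣ Nat.card G) (hmany : Nat.card G < p ^ 2 * Nat.card (ConjClasses G)) (P : Sylow p G) (a b : G) (ha : a ∈ P) (hb : b ∈ P) : a * b = b * a := by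
  classical
  have hpp : p.Prime := Fact.out
  by_contra hab
  have := Fintype.ofFinite G
  have := Fintype.ofFinite (IrrCharacter G)
  set c : G := a * b * a⁻¹ * b⁻¹ with hc
  have hc1 : c ≠ 1 := by
    intro h
    apply hab
    calc a * b = c * (b * a) := by rw [hc]; group
      _ = b * a := by rw [h, one_mul]
  obtain ⟨k, hk⟩ := IsPGroup.iff_card.mp P.2
  -- Step 1: nontrivial irreducible characters have degree ≥ p
  have hstep1 : ∀ χ : IrrCharacter G, χ ≠ trivialIrr G → p ≤ charDegree (χ : G → ℂ) := by
    intro χ hne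
    by_contra hlt
    push Not at hlt
    have hχc : IsCharacter G (χ : G → ℂ) := isCharacter_of_irr χ.2
    have hres : IsCharacter (P : Subgroup G) (fun h : (P : Subgroup G) => (χ : G → ℂ) h) :=
      isCharacter_restrict (P : Subgroup G) hχc
    have hd : (fun h : (P : Subgroup G) => (χ : G → ℂ) h) 1 = (charDegree (χ : G → ℂ) : ℕ) := by
      simp only [OneMemClass.coe_one]
      exact apply_one_eq_charDegree _ χ.2
    have hsmall : ∀ ψ : IrrCharacter (P : Subgroup G), ∀ n : ℕ,
        (ψ : ↥(P : Subgroup G) → ℂ) 1 = n → n ≤ charDegree (χ : G → ℂ) → n = 1 := by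
      intro ψ n hn hle
      obtain ⟨n', hn'pos, hn', hdvd⟩ := irr_apply_one_dvd_card (ψ : ↥(P : Subgroup G) → ℂ) ψ.2
      have hnn : n = n' := by
        have : (n : ℂ) = (n' : ℂ) := by rw [← hn, hn']
        exact_mod_cast this
      subst hnn
      rw [hk] at hdvd
      obtain ⟨j, _, hj⟩ := (Nat.dvd_prime_pow hpp).mp hdvd
      rcases Nat.eq_zero_or_pos j with h0 | h0
      · rw [hj, h0, pow_zero]
      · exfalso
        have : p ≤ n := by
          rw [hj]
          calc p = p ^ 1 := (pow_one p).symm
            _ ≤ p ^ j := Nat.pow_le_pow_right hpp.pos h0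
        omega
    have hcomm := char_commutator_eq hres _ hd hsmall ⟨a, ha⟩ ⟨b, hb⟩
    have hcK : c ∈ charKer (χ : G → ℂ) hχc := by
      rw [mem_charKer]
      simpa using hcomm
    rcases (charKer_normal (χ : G → ℂ) hχc).eq_bot_or_eq_top with h | h
    · rw [h, Subgroup.mem_bot] at hcK
      exact hc1 hcK
    · apply hne
      apply Subtype.ext
      exact irr_eq_trivial_of_charKer_eq_top χ.2 h
  -- Step 2: p² divides |G|
  have hk2 : 2 ≤ k := by
    by_contra hlt
    push Not at hlt
    have hcomm : ∀ x y : (P : Subgroup G), x * y = y * x := by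
      interval_cases k
      · rw [pow_zero] at hk
        have : Subsingleton (P : Subgroup G) := (Nat.card_eq_one_iff_unique.mp hk).1
        intro x y
        exact Subsingleton.elim _ _
      · rw [pow_one] at hk
        have : IsCyclic (P : Subgroup G) := isCyclic_of_prime_card hk
        exact isMulCommutative_iff.mp inferInstance
    apply hab
    have := congrArg Subtype.val (hcomm ⟨a, ha⟩ ⟨b, hb⟩)
    simpa using this
  have hp2 : p ^ 2 ∣ Nat.card G := by
    have h1 : p ^ 2 ∣ p ^ k := pow_dvd_pow p hk2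
    rw [← hk] at h1
    exact h1.trans (Subgroup.card_subgroup_dvd_card (P : Subgroup G))
  -- Step 3: counting
  have hsum : ∑ χ : IrrCharacter G, (charDegree (χ : G → ℂ)) ^ 2 = Nat.card G := by
    have h := sum_irr_one_sq (G := G)
    have h' : ((∑ χ : IrrCharacter G, (charDegree (χ : G → ℂ)) ^ 2 : ℕ) : ℂ) = (Nat.card G : ℂ) := by
      rw [← h]
      push_cast
      refine Finset.sum_congr rfl (fun χ _ => ?_)
      rw [apply_one_eq_charDegree _ χ.2]
    exact_mod_cast h'
  have hK : Fintype.card (IrrCharacter G) = Nat.card (ConjClasses G) := by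
    rw [← Nat.card_eq_fintype_card, card_irr_eq_card_conjClasses]
  have hlower : 1 + (Fintype.card (IrrCharacter G) - 1) * p ^ 2 ≤ Nat.card G := by
    rw [← hsum, ← Finset.add_sum_erase Finset.univ _ (Finset.mem_univ (trivialIrr G))]
    have h1 : charDegree (trivialIrr G : G → ℂ) = 1 := by
      apply charDegree_eq_of_apply_one
      simp
    rw [h1, one_pow]
    apply Nat.add_le_add_left
    have h2 := Finset.card_nsmul_le_sum (Finset.univ.erase (trivialIrr G))
      (fun χ : IrrCharacter G => (charDegree (χ : G → ℂ)) ^ 2) (p ^ 2) (by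
        intro χ hχ
        have hne : χ ≠ trivialIrr G := Finset.ne_of_mem_erase hχ
        exact Nat.pow_le_pow_left (hstep1 χ hne) 2)
    rw [Finset.card_erase_of_mem (Finset.mem_univ _), Finset.card_univ, smul_eq_mul] at h2
    exact h2
  obtain ⟨t, ht⟩ := hp2
  rw [hK] at hlower
  rw [ht] at hmany hlower
  have htK : t < Nat.card (ConjClasses G) := Nat.lt_of_mul_lt_mul_left hmany
  have hKpos : 0 < Nat.card (ConjClasses G) := by omega
  have : t ≤ Nat.card (ConjClasses G) - 1 := by omega
  have h3 : p ^ 2 * t ≤ (Nat.card (ConjClasses G) - 1) * p ^ 2 := by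
    rw [mul_comm]
    exact Nat.mul_le_mul_right _ this
  omega

end Cfsg.Agent.S0186
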