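-- Statement S0187
import Cfsg.Statements.S0187
import Cfsg.Agent.Lib.H24.CharOrth

set_option autoImplicit false
open Cfsg

namespace Cfsg.Agent.S0187

open Cfsg.Agent.Lib.H24

/-- A finite group is abelian exactly when all its irreducible complex characters have degree one. -/
theorem result {G : Type*} [Group G] [Finite G] : (∀ a b : G, a * b = b * a) ↔ ∀ χ : Cfsg.IrrCharacter G, (χ : G → ℂ) 1 = 1 := by
  classical
  have := Fintype.ofFinite G
  have := Fintype.ofFinite (Cfsg.IrrCharacter G)
  constructor
  · intro hcomm χ
    obtain ⟨n, ρ, hρ, hχ⟩ := χ.2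
    have hc : IsMulCommutative G := ⟨⟨fun a b => hcomm a b⟩⟩
    have := hρ
    have h1 := Representation.IsIrreducible.finrank_eq_one_of_isMulCommutative ρ
    rw [← hχ, Representation.char_one, h1]
    simp
  · intro hall
    have hsum := sum_irr_one_sq (G := G)
    simp only [hall, one_pow, Finset.sum_const, Finset.card_univ, nsmul_eq_mul, mul_one] at hsum
    have hcard : Fintype.card (Cfsg.IrrCharacter G) = Nat.card G := by exact_mod_cast hsum
    have hcc : Nat.card (ConjClasses G) = Nat.card G := by
      rw [← card_irr_eq_card_conjClasses, Nat.card_eq_fintype_card, hcard]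
    have hbij : Function.Bijective (ConjClasses.mk : G → ConjClasses G) := by
      rw [Nat.bijective_iff_surjective_and_card]
      exact ⟨ConjClasses.mk_surjective, hcc.symm⟩
    intro a b
    have h1 : ConjClasses.mk (a * b * a⁻¹) = ConjClasses.mk b := by
      rw [ConjClasses.mk_eq_mk_iff_isConj]
      exact (isConj_iff.mpr ⟨a, rfl⟩).symm
    have h2 := hbij.1 h1
    calc a * b = a * b * a⁻¹ * a := by group
      _ = b * a := by rw [h2]

end Cfsg.Agent.S0187
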