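import Cfsg.Statements.S0189
import Cfsg.Agent.Lib.L0.CharOps
-- import your own Cfsg.Agent.* helpers here

set_option autoImplicit false
open Cfsg

namespace Cfsg.Agent.S0189

/-- If a complex character of a finite group vanishes at every non-identity element of a Sylow p-subgroup P, then |P| divides its degree. -/
theorem result {G : Type*} [Group G] [Finite G] (p : ℕ) [Fact p.Prime] (P : Sylow p G) (χ : G → ℂ) (hχ : Cfsg.IsCharacter G χ) (hvan : ∀ g : G, g ∈ P → g ≠ 1 → χ g = 0) : ∃ k : ℕ, χ 1 = (Nat.card P : ℂ) * k := by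
  classical
  have := Fintype.ofFinite ↥(P : Subgroup G)
  have hres : Cfsg.IsCharacter ↥(P : Subgroup G) (fun h : ↥(P : Subgroup G) => χ h) :=
    Cfsg.Agent.Lib.L0.isCharacter_restrict (P : Subgroup G) hχ
  obtain ⟨k, hk⟩ := Cfsg.Agent.Lib.L0.classInner_char_irr_nat hres
    (Cfsg.Agent.Lib.L0.isIrrCharacter_one (G := ↥(P : Subgroup G)))
  refine ⟨k, ?_⟩
  unfold Cfsg.classInner at hk
  have hsum : ∑ g : ↥(P : Subgroup G), (fun h : ↥(P : Subgroup G) => χ h) g *
      (starRingEnd ℂ) ((1 : ↥(P : Subgroup G) → ℂ) g) = χ 1 := by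
    rw [Finset.sum_eq_single (1 : ↥(P : Subgroup G))]
    · simp
    · intro g _ hg
      have : χ (g : G) = 0 := hvan g g.2 (fun h => hg (Subtype.ext h))
      simp [this]
    · intro h; exact absurd (Finset.mem_univ _) h
  rw [hsum] at hk
  have hP : (Nat.card (P : Subgroup G) : ℂ) ≠ 0 := by
    exact_mod_cast (Nat.card_pos (α := ↥(P : Subgroup G))).ne'
  have hk' : (Nat.card (P : Subgroup G) : ℂ)⁻¹ * χ 1 = k := hk
  field_simp at hk'
  rw [hk']

end Cfsg.Agent.S0189
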