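import Cfsg.Statements.S0192
import Cfsg.Agent.Lib.L0.CharOps
-- import your own Cfsg.Agent.* helpers here

set_option autoImplicit false
open Cfsg

namespace Cfsg.Agent.S0192

open Cfsg.Agent.Lib.L0 Module in
/-- The fixed space of a subgroup `H` in a representation. -/
noncomputable def fixedSpace {G : Type*} [Group G] {V : Type*} [AddCommGroup V] [Module ℂ V]
    (ρ : Representation ℂ G V) (H : Subgroup G) : Submodule ℂ V :=
  Representation.invariants (show Representation ℂ H V from ρ.comp H.subtype)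

theorem mem_fixedSpace {G : Type*} [Group G] {V : Type*} [AddCommGroup V] [Module ℂ V]
    (ρ : Representation ℂ G V) (H : Subgroup G) (v : V) :
    v ∈ fixedSpace ρ H ↔ ∀ h ∈ H, ρ h v = v := by
  unfold fixedSpace
  rw [Representation.mem_invariants]
  constructor
  · intro h x hx; exact h ⟨x, hx⟩
  · intro h x; exact h x x.2

open Cfsg.Agent.Lib.L0 Module in
theorem classInner_res_one {G : Type*} [Group G] [Finite G] {V : Type*} [AddCommGroup V] [Module ℂ V]
    [FiniteDimensional ℂ V] (ρ : Representation ℂ G V) (H : Subgroup G) [Fintype H] :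
    Cfsg.classInner (fun x : H => ρ.character x) (fun _ => 1) = (finrank ℂ (fixedSpace ρ H) : ℂ) := by
  letI := invertibleCard H
  have h := Representation.card_inv_mul_sum_char_eq_finrank
    (show Representation ℂ H V from ρ.comp H.subtype)
  unfold fixedSpace
  rw [← h]
  unfold Cfsg.classInner
  congr 1
  refine Finset.sum_congr rfl fun x _ => ?_
  simp [Representation.character]

/-- Brauer's generation criterion. Let G be a finite simple group, H₁ and H₂ subgroups, and χ a non-principal irreducible character. If the multiplicity of the principal character in χ restricted to H₁ ⊓ H₂ is less than the sum of the corresponding multiplicities for H₁ and H₂, then H₁ and H₂ do not generate G. -/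
theorem result {G : Type*} [Group G] [Fintype G] [IsSimpleGroup G] (H₁ H₂ : Subgroup G) [Fintype H₁] [Fintype H₂] [Fintype ↥(H₁ ⊓ H₂)] (χ : G → ℂ) (hχ : Cfsg.IsIrrCharacter G χ) (hχ1 : χ ≠ fun _ => 1) (hlt : (Cfsg.classInner (fun x : ↥(H₁ ⊓ H₂) => χ x) (fun _ => 1)).re < (Cfsg.classInner (fun x : H₁ => χ x) (fun _ => 1)).re + (Cfsg.classInner (fun x : H₂ => χ x) (fun _ => 1)).re) : H₁ ⊔ H₂ ≠ ⊤ := by
  classical
  obtain ⟨n, ρ, hirr, rfl⟩ := hχ
  intro htop
  rw [classInner_res_one ρ (H₁ ⊓ H₂), classInner_res_one ρ H₁, classInner_res_one ρ H₂] at hlt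
  simp only [Complex.natCast_re] at hlt
  have hlt' : Module.finrank ℂ (fixedSpace ρ (H₁ ⊓ H₂)) <
      Module.finrank ℂ (fixedSpace ρ H₁) + Module.finrank ℂ (fixedSpace ρ H₂) := by
    exact_mod_cast hlt
  have hle : fixedSpace ρ H₁ ⊔ fixedSpace ρ H₂ ≤ fixedSpace ρ (H₁ ⊓ H₂) := by
    refine sup_le ?_ ?_
    · intro v hv
      rw [mem_fixedSpace] at hv ⊢
      exact fun h hh => hv h hh.1
    · intro v hv
      rw [mem_fixedSpace] at hv ⊢
      exact fun h hh => hv h hh.2
  have hdim := Submodule.finrank_sup_add_finrank_inf_eq (fixedSpace ρ H₁) (fixedSpace ρ H₂)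
  have hle' := Submodule.finrank_mono hle
  have hpos : 0 < Module.finrank ℂ ↥(fixedSpace ρ H₁ ⊓ fixedSpace ρ H₂) := by omega
  -- fixed vectors of both are fixed by all of G
  have hG : fixedSpace ρ H₁ ⊓ fixedSpace ρ H₂ ≤ fixedSpace ρ ⊤ := by
    intro v hv
    rw [Submodule.mem_inf, mem_fixedSpace, mem_fixedSpace] at hv
    rw [mem_fixedSpace]
    intro g _
    have hg : g ∈ H₁ ⊔ H₂ := htop ▸ Subgroup.mem_top g
    let S : Subgroup G :=
      { carrier := {g | ρ g v = v}
        one_mem' := by simp
        mul_mem' := fun {a b} ha hb => by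
          show ρ (a * b) v = v
          rw [map_mul, Module.End.mul_apply, hb, ha]
        inv_mem' := fun {a} ha => by
          show ρ a⁻¹ v = v
          have : ρ a⁻¹ (ρ a v) = v := by
            rw [← Module.End.mul_apply, ← map_mul, inv_mul_cancel, map_one, Module.End.one_apply]
          rwa [ha] at this }
    have : H₁ ⊔ H₂ ≤ S := sup_le (fun h hh => hv.1 h hh) (fun h hh => hv.2 h hh)
    exact this hg
  have hposG : 0 < Module.finrank ℂ ↥(fixedSpace ρ (⊤ : Subgroup G)) :=
    lt_of_lt_of_le hpos (Submodule.finrank_mono hG)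
  -- but the multiplicity of the trivial character in χ is zero
  have hzero : Cfsg.classInner ρ.character (fun _ => (1 : ℂ)) = 0 :=
    Cfsg.Agent.Lib.L0.irr_classInner_ne ⟨n, ρ, hirr, rfl⟩
      (by simpa [Pi.one_def] using Cfsg.Agent.Lib.L0.isIrrCharacter_one (G := G)) hχ1
  have hfin : (Module.finrank ℂ ↥(fixedSpace ρ (⊤ : Subgroup G)) : ℂ) = 0 := by
    haveI : Fintype (⊤ : Subgroup G) := Fintype.ofFinite _
    rw [← classInner_res_one ρ ⊤]
    rw [← hzero]
    unfold Cfsg.classInner
    have hc : Nat.card (⊤ : Subgroup G) = Nat.card G := Nat.card_congr Subgroup.topEquiv.toEquiv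
    rw [hc]
    congr 1
    exact Fintype.sum_equiv Subgroup.topEquiv.toEquiv _ _ (fun x => rfl)
  have : Module.finrank ℂ ↥(fixedSpace ρ (⊤ : Subgroup G)) = 0 := by exact_mod_cast hfin
  omega

end Cfsg.Agent.S0192
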