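import Cfsg.Statements.S0194
import Cfsg.Agent.S0161
import Cfsg.Agent.Lib.H8.Clifford
import Cfsg.Agent.Lib.H24.CharConj

set_option autoImplicit false
open Cfsg

namespace Cfsg.Agent.S0194

open scoped ComplexConjugate
open Cfsg.Agent.Lib.L0 Cfsg.Agent.Lib.H8

section

variable {G : Type*} [Group G] (H : Subgroup G) [hN : H.Normal]

/-- The conjugate `θ^x` of a function on the normal subgroup `H`. -/
def cj (θ : H → ℂ) (x : G) : H → ℂ := fun h => θ ⟨x * h * x⁻¹, hN.conj_mem h h.2 x⟩

theorem cj_mul (θ : H → ℂ) (x y : G) : cj H (cj H θ x) y = cj H θ (x * y) := by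
  funext h
  unfold cj
  congr 1
  apply Subtype.ext
  simp only
  group

theorem cj_one (θ : H → ℂ) : cj H θ 1 = θ := by
  funext h
  unfold cj
  congr 1
  apply Subtype.ext
  simp

theorem cj_pow (θ : H → ℂ) (x : G) (hx : cj H θ x = θ) (m : ℕ) : cj H θ (x ^ m) = θ := by
  induction m with
  | zero => rw [pow_zero, cj_one]
  | succ m ih => rw [pow_succ, ← cj_mul, ih, hx]

theorem cj_conj (θ : H → ℂ) (x : G) :
    cj H (fun h => conj (θ h)) x = fun h => conj (cj H θ x h) := rfl

end

/-- conjugation commutes with extension by zero -/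
theorem extendByZero_conj {G : Type*} [Group G] (H : Subgroup G) (θ : H → ℂ) (y : G) :
    Cfsg.extendByZero H (fun h => conj (θ h)) y = conj (Cfsg.extendByZero H θ y) := by
  by_cases hy : y ∈ H
  · rw [extendByZero_of_mem H _ hy, extendByZero_of_mem H θ hy]
  · rw [extendByZero_of_not_mem H _ hy, extendByZero_of_not_mem H θ hy, map_zero]

theorem indFun_conj {G : Type*} [Group G] [Fintype G] (H : Subgroup G) (θ : H → ℂ) :
    Cfsg.indFun H (fun h => conj (θ h)) = fun g => conj (Cfsg.indFun H θ g) := by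
  funext g
  rw [Cfsg.Agent.Lib.H8.indFun_apply, Cfsg.Agent.Lib.H8.indFun_apply, map_mul, map_sum,
    map_inv₀, Complex.conj_natCast]
  congr 1
  refine Finset.sum_congr rfl (fun x _ => ?_)
  rw [extendByZero_conj]

/-- Let G have odd order, H be a normal subgroup and θ a non-principal irreducible character of H. Then the function induced from θ is orthogonal to its complex conjugate. -/
theorem result {G : Type*} [Group G] [Fintype G] (hodd : Odd (Nat.card G)) (H : Subgroup G) [H.Normal] (θ : H → ℂ) (hθ : Cfsg.IsIrrCharacter H θ) (hθ1 : θ ≠ fun _ => 1) : Cfsg.classInner (fun g => conj (Cfsg.indFun H θ g)) (Cfsg.indFun H θ) = 0 := by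
  classical
  have hN : H.Normal := inferInstance
  have : Fintype H := Fintype.ofFinite H
  have hoddH : Odd (Nat.card H) := by
    obtain ⟨k, hk⟩ := Subgroup.card_subgroup_dvd_card H
    rw [hk] at hodd
    exact (Nat.odd_mul.mp hodd).1
  have hθc : Cfsg.IsIrrCharacter H (fun h => conj (θ h)) :=
    Cfsg.Agent.Lib.H24.isIrrCharacter_conj hθ
  -- key: the conjugate character is not a G-conjugate of θ
  have hkey : ∀ x : G, (fun h => conj (θ h)) ≠ cj H θ x := by
    intro x hx
    -- θ^(x*x) = θ
    have h2 : cj H θ (x * x) = θ := by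
      rw [← cj_mul, ← hx, cj_conj, ← hx]
      funext h
      simp
    have h3 : cj H θ (x ^ 2) = θ := by rw [pow_two]; exact h2
    -- x is a power of x^2
    have hoddx : Odd (orderOf x) := by
      obtain ⟨k, hk⟩ := orderOf_dvd_natCard x
      rw [hk] at hodd
      exact (Nat.odd_mul.mp hodd).1
    obtain ⟨m, hm⟩ := hoddx
    have hx2 : (x ^ 2) ^ (m + 1) = x := by
      rw [← pow_mul, show 2 * (m + 1) = orderOf x + 1 by omega, pow_succ, pow_orderOf_eq_one,
        one_mul]
    have h4 : cj H θ x = θ := by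
      have := cj_pow H θ (x ^ 2) h3 (m + 1)
      rwa [hx2] at this
    -- so θ is real valued
    rw [h4] at hx
    have hreal : ∀ h : H, (θ h).im = 0 := by
      intro h
      have := congrFun hx h
      exact Complex.conj_eq_iff_im.mp this
    exact hθ1 (Cfsg.Agent.S0161.result hoddH ⟨θ, hθ⟩ hreal)
  rw [← indFun_conj]
  rw [Cfsg.Agent.Lib.H8.frobenius_reciprocity H _ _ (Cfsg.Agent.Lib.H8.isClassFunction_indFun H θ)]
  have hres : (fun h : H => Cfsg.indFun H θ (h : G))
      = (Nat.card H : ℂ)⁻¹ • ∑ x : G, cj H θ x := by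
    funext h
    rw [indFun_coe_of_normal, Pi.smul_apply, Finset.sum_apply, smul_eq_mul]
    rfl
  rw [hres, classInner_smul_right, classInner_sum_right]
  rw [Finset.sum_eq_zero, mul_zero]
  intro x _
  exact irr_classInner_ne hθc (isIrrCharacter_conjNormal H θ hθ x) (hkey x)

end Cfsg.Agent.S0194
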