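import Cfsg.Statements.S0196
import Mathlib
import Cfsg.Agent.Lib.H1.ActionBasic

set_option autoImplicit false
open Cfsg

namespace Cfsg.Agent.S0196

/-- Let A be a subgroup of a finite group G that equals the centralizer of each of its non-identity elements, and let N be its normalizer. Then the index of A in N divides |A| − 1 (N/A permutes the non-identity elements of A in orbits of full length). -/
theorem result {G : Type*} [Group G] [Finite G] (A : Subgroup G) (hA : ∀ x ∈ A, x ≠ 1 → Subgroup.centralizer ({x} : Set G) = A) : (A.subgroupOf (Subgroup.normalizer (A : Set G))).index ∣ Nat.card A - 1 := by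
  classical
  set N := Subgroup.normalizer (A : Set G) with hN
  let X := {x : G // x ∈ ((A : Set G) \ {1})}
  have hmemX : ∀ (n : N) (x : X), (n : G) * x.1 * (n : G)⁻¹ ∈ ((A : Set G) \ {1}) := by
    intro n x
    refine ⟨(Subgroup.mem_normalizer_iff.mp n.2 x.1).mp x.2.1, ?_⟩
    intro h
    apply x.2.2
    rw [Set.mem_singleton_iff] at h ⊢
    have : x.1 = (n : G)⁻¹ * ((n : G) * x.1 * (n : G)⁻¹) * (n : G) := by group
    rw [this, h]; group
  let inst : MulAction N X :=
    { smul := fun n x => ⟨(n : G) * x.1 * (n : G)⁻¹, hmemX n x⟩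
      one_smul := fun x => by
        apply Subtype.ext
        show ((1 : N) : G) * x.1 * ((1 : N) : G)⁻¹ = x.1
        simp
      mul_smul := fun a b x => by
        apply Subtype.ext
        show ((a * b : N) : G) * x.1 * ((a * b : N) : G)⁻¹ = (a : G) * ((b : G) * x.1 * (b : G)⁻¹) * (a : G)⁻¹
        simp [mul_assoc] }
  have hsmul : ∀ (n : N) (x : X), ((n • x : X) : G) = (n : G) * x.1 * (n : G)⁻¹ := fun n x => rfl
  have hstab : ∀ x : X, MulAction.stabilizer N x = A.subgroupOf N := by
    intro x
    ext n
    rw [MulAction.mem_stabilizer_iff, Subgroup.mem_subgroupOf, Subtype.ext_iff, hsmul]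
    have hC := hA x.1 x.2.1 (fun h => x.2.2 (Set.mem_singleton_iff.mpr h))
    have e1 : (n : G) ∈ A ↔ (n : G) ∈ Subgroup.centralizer {x.1} := by rw [hC]
    rw [e1, Subgroup.mem_centralizer_singleton_iff]
    constructor
    · intro h
      symm
      calc x.1 * (n : G) = ((n : G) * x.1 * (n : G)⁻¹) * (n : G) := by rw [h]
        _ = (n : G) * x.1 := by group
    · intro h
      calc (n : G) * x.1 * (n : G)⁻¹ = (x.1 * (n : G)) * (n : G)⁻¹ := by rw [h]
        _ = x.1 := by group
  have hdvd := Cfsg.Agent.Lib.H1.dvd_card_of_forall_index_stabilizer (G := N) (X := X)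
    (A.subgroupOf N).index (fun x => by rw [hstab x])
  have hcard : Nat.card X = Nat.card A - 1 := by
    show Nat.card ↥((A : Set G) \ {1}) = Nat.card A - 1
    rw [Nat.card_coe_set_eq, Set.ncard_sdiff_singleton_of_mem (A.one_mem)]
    rfl
  rw [hcard] at hdvd
  exact hdvd

end Cfsg.Agent.S0196
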