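import Cfsg.Statements.S0200
import Mathlib
import Cfsg.Agent.Lib.H16.BaerSuzuki

set_option autoImplicit false
open Cfsg

namespace Cfsg.Agent.S0200

open Cfsg.Agent.Lib.H16

/-- Two involutions whose product has 2-power order generate a 2-group. -/
theorem isPGroup_sup_zpowers {G : Type*} [Group G] [Finite G] (t t' : G) (ht : t * t = 1)
    (ht' : t' * t' = 1) (k : ℕ) (hk : orderOf (t * t') = 2 ^ k) :
    IsPGroup 2 (Subgroup.zpowers t ⊔ Subgroup.zpowers t' : Subgroup G) := by
  set u := t * t' with hu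
  have htinv : t⁻¹ = t := inv_eq_of_mul_eq_one_left ht
  have ht'inv : t'⁻¹ = t' := inv_eq_of_mul_eq_one_left ht'
  have h1 : IsPGroup 2 (Subgroup.zpowers t) := by
    by_cases h : t = 1
    · apply IsPGroup.of_card (n := 0)
      rw [Nat.card_zpowers, h, orderOf_one, pow_zero]
    · apply IsPGroup.of_card (n := 1)
      rw [Nat.card_zpowers, pow_one]
      exact orderOf_eq_prime (by rw [pow_two]; exact ht) h
  have h2 : IsPGroup 2 (Subgroup.zpowers u) := by
    apply IsPGroup.of_card (n := k)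
    rw [Nat.card_zpowers, hk]
  have hnorm : Subgroup.zpowers t ≤ Subgroup.normalizer (Subgroup.zpowers u : Set G) := by
    rw [Subgroup.zpowers_le]
    apply mem_normalizer_of_conj_mem
    intro x hx
    obtain ⟨j, rfl⟩ := Subgroup.mem_zpowers_iff.mp hx
    have hconj : t * u * t⁻¹ = u⁻¹ := by
      rw [hu, mul_inv_rev, htinv, ht'inv, ← mul_assoc, ht, one_mul]
    have : t * u ^ j * t⁻¹ = (u⁻¹) ^ j := by rw [← hconj, conj_zpow]
    rw [this]
    exact Subgroup.zpow_mem _ (Subgroup.inv_mem _ (Subgroup.mem_zpowers u)) j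
  have h3 := IsPGroup.to_sup_of_normal_right' h1 h2 hnorm
  apply h3.to_le
  apply sup_le le_sup_left
  rw [Subgroup.zpowers_le]
  have : t' = t⁻¹ * u := by rw [hu, inv_mul_cancel_left]
  rw [this]
  exact Subgroup.mul_mem _ (Subgroup.mem_sup_left (Subgroup.inv_mem _ (Subgroup.mem_zpowers t)))
    (Subgroup.mem_sup_right (Subgroup.mem_zpowers u))

/-- An involution lying in no normal 2-subgroup of a finite group inverts a nontrivial element of odd order (a consequence of the Baer–Suzuki Theorem). -/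
theorem result {G : Type*} [Group G] [Finite G] (t : G) (ht : orderOf t = 2) (hO : ∀ N : Subgroup G, N.Normal → IsPGroup 2 N → t ∉ N) : ∃ h : G, h ≠ 1 ∧ Odd (orderOf h) ∧ t * h * t⁻¹ = h⁻¹ := by
  have ht2 : t * t = 1 := by
    have := pow_orderOf_eq_one t
    rwa [ht, pow_two] at this
  have htinv : t⁻¹ = t := inv_eq_of_mul_eq_one_left ht2
  have hex : ∃ g : G, ¬ IsPGroup 2 ↥(Subgroup.zpowers t ⊔ cj g (Subgroup.zpowers t)) := by
    by_contra hcon
    push Not at hcon
    obtain ⟨N, hN, hNp, hle⟩ := baer_suzuki_subgroup (p := 2) (Subgroup.zpowers t) hcon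
    exact hO N hN hNp (hle (Subgroup.mem_zpowers t))
  obtain ⟨g, hg⟩ := hex
  set t' := g * t * g⁻¹ with ht'
  have hcj : cj g (Subgroup.zpowers t) = Subgroup.zpowers t' := by
    change (Subgroup.zpowers t).map (MulAut.conj g).toMonoidHom = _
    rw [MonoidHom.map_zpowers]
    rfl
  rw [hcj] at hg
  have ht'2 : t' * t' = 1 := by
    rw [ht']
    calc g * t * g⁻¹ * (g * t * g⁻¹) = g * (t * t) * g⁻¹ := by group
      _ = 1 := by rw [ht2]; group
  have ht'inv : t'⁻¹ = t' := inv_eq_of_mul_eq_one_left ht'2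
  set u := t * t' with hu
  have hupos : orderOf u ≠ 0 := (orderOf_pos u).ne'
  obtain ⟨k, m, hm, hkm⟩ := Nat.exists_eq_two_pow_mul_odd hupos
  have hm1 : m ≠ 1 := by
    intro h1
    rw [h1, mul_one] at hkm
    exact hg (isPGroup_sup_zpowers t t' ht2 ht'2 k hkm)
  have hconj : t * u * t⁻¹ = u⁻¹ := by
    rw [hu, mul_inv_rev, htinv, ht'inv, ← mul_assoc, ht2, one_mul]
  refine ⟨u ^ (2 ^ k), ?_, ?_, ?_⟩
  · intro h1
    have hdvd : orderOf u ∣ 2 ^ k := orderOf_dvd_of_pow_eq_one h1
    rw [hkm] at hdvd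
    have hmd : m ∣ 2 ^ k := (dvd_mul_left m (2 ^ k)).trans hdvd
    have hcop : Nat.Coprime m (2 ^ k) := (Nat.Coprime.pow_right k hm.coprime_two_right)
    exact hm1 (Nat.Coprime.eq_one_of_dvd hcop hmd)
  · have hord : orderOf (u ^ (2 ^ k)) = m := by
      rw [orderOf_pow' u (by positivity), hkm, Nat.gcd_eq_right (dvd_mul_right _ _),
        Nat.mul_div_cancel_left m (by positivity)]
    rw [hord]
    exact hm
  · rw [← conj_pow, hconj, inv_pow]

end Cfsg.Agent.S0200
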