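import Mathlib
import Cfsg.Statements.S0203
import Cfsg.Agent.Lib.H5.KleinSylow

set_option autoImplicit false
open Cfsg

namespace Cfsg.Agent.S0203

open Subgroup Cfsg.Agent.Lib.H5

/-- If a Sylow 2-subgroup P of a finite group G is a Klein four-group, then G has three classes of involutions if and only if P has a normal complement in G. -/
theorem result {G : Type*} [Group G] [Finite G] (P : Sylow 2 G) (hP : IsKleinFour (P : Subgroup G)) : Nat.card {C : ConjClasses G // ∃ t : G, orderOf t = 2 ∧ ConjClasses.mk t = C} = 3 ↔ ∃ N : Subgroup G, N.Normal ∧ Subgroup.IsComplement' N (P : Subgroup G) := by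
  have : Fact (Nat.Prime 2) := ⟨Nat.prime_two⟩
  obtain ⟨a, b, ha, hb, ha1, hb1, hab⟩ := K4.exists_gens hP
  have hab1 : a * b ≠ 1 := by
    intro h
    apply hab
    rw [← K4.mem_inv hP hb]
    exact eq_inv_of_mul_eq_one_left h
  have haab : a ≠ a * b := by
    intro h
    apply hb1
    have := mul_left_cancel (a := a) (b := 1) (c := b) (by rw [mul_one]; exact h)
    exact this.symm
  have hbab : b ≠ a * b := by
    intro h
    apply ha1
    have := mul_right_cancel (a := 1) (b := b) (c := a) (by rw [one_mul]; exact h)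
    exact this.symm
  constructor
  · intro h3
    have hnc : ¬ IsConj a b ∧ ¬ IsConj a (a * b) ∧ ¬ IsConj b (a * b) := by
      rcases K4.dichotomy P hP ha hb ha1 hb1 hab with h | h
      · exact h
      · have := K4.card_classes_of_isConj P hP ha hb ha1 hb1 hab h
        omega
    -- conjugation by an element of the normalizer
    have hconj : ∀ n ∈ normalizer ((P : Subgroup G) : Set G), ∀ z ∈ (P : Subgroup G),
        n⁻¹ * z * n ∈ (P : Subgroup G) ∧ IsConj z (n⁻¹ * z * n) := by
      intro n hn z hz
      refine ⟨?_, ?_⟩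
      · have := (mem_normalizer_iff.mp (inv_mem hn) z).mp hz
        rwa [inv_inv] at this
      · rw [isConj_iff]
        exact ⟨n⁻¹, by rw [inv_inv]⟩
    have hne1 : ∀ (n z : G), z ≠ 1 → n⁻¹ * z * n ≠ 1 := by
      intro n z hz h
      apply hz
      have : z = n * (n⁻¹ * z * n) * n⁻¹ := by group
      rw [this, h]; group
    have hNC : normalizer ((P : Subgroup G) : Set G) ≤ centralizer ((P : Subgroup G) : Set G) := by
      intro n hn
      have hfa : n⁻¹ * a * n = a := by
        obtain ⟨hw, hc⟩ := hconj n hn a ha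
        rcases K4.mem_cases hP ha hb hw ha1 hb1 hab with h | h | h | h
        · exact absurd h (hne1 n a ha1)
        · exact h
        · rw [h] at hc; exact absurd hc hnc.1
        · rw [h] at hc; exact absurd hc hnc.2.1
      have hfb : n⁻¹ * b * n = b := by
        obtain ⟨hw, hc⟩ := hconj n hn b hb
        rcases K4.mem_cases hP ha hb hw ha1 hb1 hab with h | h | h | h
        · exact absurd h (hne1 n b hb1)
        · rw [h] at hc; exact absurd hc.symm hnc.1
        · exact h
        · rw [h] at hc; exact absurd hc hnc.2.2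
      have hca : a * n = n * a := by
        calc a * n = n * (n⁻¹ * a * n) := by group
          _ = n * a := by rw [hfa]
      have hcb : b * n = n * b := by
        calc b * n = n * (n⁻¹ * b * n) := by group
          _ = n * b := by rw [hfb]
      rw [mem_centralizer_iff]
      intro z hz
      rcases K4.mem_cases hP ha hb hz ha1 hb1 hab with rfl | rfl | rfl | rfl
      · simp
      · exact hca
      · exact hcb
      · rw [mul_assoc, hcb, ← mul_assoc, hca, mul_assoc]
    exact ⟨(MonoidHom.transferSylow P hNC).ker, inferInstance,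
      MonoidHom.ker_transferSylow_isComplement' P hNC⟩
  · rintro ⟨N, hN, hcompl⟩
    have hkey : ∀ x ∈ (P : Subgroup G), ∀ y ∈ (P : Subgroup G), IsConj x y → x = y := by
      intro x hx y hy hc
      obtain ⟨c, hc⟩ := isConj_iff.mp hc
      obtain ⟨⟨⟨n, hn⟩, ⟨p, hp⟩⟩, hnp, -⟩ := (isComplement'_def.mp hcompl).existsUnique c
      simp only at hnp
      have hpx : p * x * p⁻¹ = x := by
        rw [K4.mem_comm hP hp hx, mul_assoc, mul_inv_cancel, mul_one]
      have hy' : y = n * x * n⁻¹ := by
        rw [← hc, ← hnp]
        calc n * p * x * (n * p)⁻¹ = n * (p * x * p⁻¹) * n⁻¹ := by group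
          _ = n * x * n⁻¹ := by rw [hpx]
      have h1 : y * x⁻¹ ∈ N := by
        have : y * x⁻¹ = n * (x * n⁻¹ * x⁻¹) := by rw [hy']; group
        rw [this]
        exact mul_mem hn (hN.conj_mem _ (inv_mem hn) x)
      have h2 : y * x⁻¹ ∈ (P : Subgroup G) := mul_mem hy (inv_mem hx)
      have h3 : y * x⁻¹ ∈ N ⊓ (P : Subgroup G) := ⟨h1, h2⟩
      rw [disjoint_iff.mp hcompl.disjoint, mem_bot] at h3
      exact (mul_inv_eq_one.mp h3).symm
    apply K4.card_classes_of_not_isConj P hP ha hb ha1 hb1 hab
    refine ⟨fun h => hab (hkey a ha b hb h), fun h => haab (hkey a ha _ (mul_mem ha hb) h),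
      fun h => hbab (hkey b hb _ (mul_mem ha hb) h)⟩

end Cfsg.Agent.S0203
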