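import Cfsg.Statements.S0212
import Mathlib
import Cfsg.Agent.Lib.H2.SimpleIndex
import Cfsg.Agent.Lib.H2.ClassCard
import Cfsg.Agent.Lib.H2.IsolatedProd
import Cfsg.Agent.S0233

set_option autoImplicit false
open Cfsg

namespace Cfsg.Agent.S0212

open Cfsg.Agent.Lib.H2

/-- The Brauer–Fowler bound: if G is a finite simple group and t an involution of G whose centralizer has order n, then |G| ≤ (2n^2)!. -/
theorem result {G : Type*} [Group G] [Finite G] [IsSimpleGroup G] (t : G) (ht : orderOf t = 2) : Nat.card G ≤ Nat.factorial (2 * (Nat.card (Subgroup.centralizer ({t} : Set G))) ^ 2) := by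
  set n := Nat.card (Subgroup.centralizer ({t} : Set G)) with hn
  have hnpos : 0 < n := Nat.card_pos
  have h2le : 2 ≤ 2 * n ^ 2 := by nlinarith
  rcases simple_dichotomy ht with h2 | ⟨hZ, hno2⟩
  · rw [h2]
    exact le_trans h2le (Nat.self_le_factorial _)
  · have heven : Even (Nat.card G) := by
      rw [even_iff_two_dvd, ← ht]; exact orderOf_dvd_natCard t
    have hZodd : Odd (Nat.card (Subgroup.center G)) := by
      rw [hZ, Subgroup.card_bot]; exact odd_one
    obtain ⟨H, hH, hcase⟩ := Cfsg.Agent.S0233.result heven hZodd
    have hle := card_le_factorial_index hH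
    refine le_trans hle (Nat.factorial_le ?_)
    rcases hcase with h | h
    · exact absurd h (hno2 H)
    · -- the class of `t` consists of involutions
      set m := Nat.card {t : G // orderOf t = 2} with hm
      have hclass := ncard_conj_mul_card_centralizer t
      have hsub : {y : G | IsConj t y} ⊆ {y : G | orderOf y = 2} := by
        intro y hy
        obtain ⟨g, rfl⟩ := isConj_iff.1 hy
        change orderOf (g * t * g⁻¹) = 2
        rw [orderOf_conj_eq, ht]
      have h1 := Set.ncard_le_ncard hsub (Set.toFinite _)
      have h2 : Set.ncard {y : G | orderOf y = 2} = m := by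
        rw [hm, ← Nat.card_coe_set_eq]; rfl
      rw [h2] at h1
      have hN : Nat.card G ≤ m * n := by
        rw [← hclass]; exact Nat.mul_le_mul_right _ h1
      have hmpos : 0 < m := by
        have : Nonempty {t : G // orderOf t = 2} := ⟨⟨t, ht⟩⟩
        exact Nat.card_pos
      have h3 : 2 * H.index * m ^ 2 < m ^ 2 * (n ^ 2 + n) := by
        calc 2 * H.index * m ^ 2 < Nat.card G * (Nat.card G + m) := h
          _ ≤ (m * n) * (m * n + m) := Nat.mul_le_mul hN (Nat.add_le_add_right hN m)
          _ = m ^ 2 * (n ^ 2 + n) := by ring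
      have h4 : 2 * H.index < n ^ 2 + n := by
        have hm2 : 0 < m ^ 2 := by positivity
        have : m ^ 2 * (2 * H.index) < m ^ 2 * (n ^ 2 + n) := by
          calc m ^ 2 * (2 * H.index) = 2 * H.index * m ^ 2 := by ring
            _ < m ^ 2 * (n ^ 2 + n) := h3
        exact Nat.lt_of_mul_lt_mul_left this
      have h5 : n ≤ n ^ 2 := by nlinarith
      omega

end Cfsg.Agent.S0212
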