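import Cfsg.Statements.S0214
import Mathlib
import Cfsg.Agent.Lib.H2.NormGrow

set_option autoImplicit false
open Cfsg

namespace Cfsg.Agent.S0214

open Cfsg.Agent.Lib.H2

/-- Let H be a proper subgroup of the finite group G and P a nontrivial Sylow 2-subgroup of H. Then H is strongly embedded in G if and only if N_G(X) ≤ H for every nontrivial subgroup X of P. -/
theorem result {G : Type*} [Group G] [Finite G] (H : Subgroup G) (hH : H ≠ ⊤) (P : Sylow 2 ↥H) (hP : (P : Subgroup ↥H) ≠ ⊥) : Cfsg.IsStronglyEmbedded H ↔ (∀ X : Subgroup ↥H, X ≤ (P : Subgroup ↥H) → X ≠ ⊥ → Subgroup.normalizer ((X.map H.subtype : Subgroup G) : Set G) ≤ H) := by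
  have hp2 : Fact (Nat.Prime 2) := ⟨Nat.prime_two⟩
  have hP'ne : sylImage H P ≠ ⊥ := by
    intro h
    apply hP
    exact (Subgroup.map_eq_bot_iff_of_injective _ H.subtype_injective).1 h
  -- nontrivial 2-groups have involutions
  have hinv : ∀ X : Subgroup ↥H, X ≤ (P : Subgroup ↥H) → X ≠ ⊥ → ∃ t ∈ X, orderOf t = 2 := by
    intro X hXP hXne
    have hX2 : IsPGroup 2 X := P.isPGroup'.to_le hXP
    rw [← even_card_subgroup_iff]
    have : Nontrivial X := (Subgroup.nontrivial_iff_ne_bot X).2 hXne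
    obtain ⟨n, hn, hcard⟩ := hX2.nontrivial_iff_card.1 this
    rw [hcard]
    exact (Nat.even_pow.2 ⟨even_two, hn.ne'⟩)
  have heven : Even (Nat.card H) := by
    obtain ⟨t, -, ht⟩ := hinv P le_rfl hP
    rw [even_card_iff_exists_involution]
    exact ⟨t, ht⟩
  rw [isStronglyEmbedded_iff H hH heven]
  constructor
  · intro h X hXP hXne g hg
    obtain ⟨t, htX, hto⟩ := hinv X hXP hXne
    have hXH : X.map H.subtype ≤ H := by
      rintro _ ⟨a, -, rfl⟩
      exact a.2
    have htX' : (t : G) ∈ X.map H.subtype := ⟨t, htX, rfl⟩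
    have hto' : orderOf (t : G) = 2 := by rw [← hto]; exact Subgroup.orderOf_coe t
    have hg' := Subgroup.inv_mem _ hg
    rw [Subgroup.mem_normalizer_iff] at hg'
    have h1 := (hg' (t : G)).1 htX'
    rw [inv_inv] at h1
    exact h g t hto' (hXH htX') (hXH h1)
  · intro hN g t hto htH htg
    by_contra hg
    -- the hypothesis in terms of subgroups of `G`
    have hN' : ∀ X : Subgroup G, X ≤ sylImage H P → X ≠ ⊥ →
        Subgroup.normalizer (X : Set G) ≤ H := by
      intro X hX hXne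
      have hXH : X ≤ H := hX.trans (sylImage_le H P)
      have e : (X.subgroupOf H).map H.subtype = X := by
        rw [Subgroup.subgroupOf_map_subtype]
        exact inf_eq_left.2 hXH
      have h1 : X.subgroupOf H ≤ (P : Subgroup ↥H) := by
        intro a ha
        rw [Subgroup.mem_subgroupOf] at ha
        exact (mem_sylImage a.2).1 (hX ha)
      have h2 : X.subgroupOf H ≠ ⊥ := by
        intro h
        apply hXne
        rw [← e, h, Subgroup.map_bot]
      have := hN (X.subgroupOf H) h1 h2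
      rwa [e] at this
    have htD : t ∈ H ⊓ cj g H := ⟨htH, mem_cj.2 htg⟩
    have hDeven : 2 ∣ Nat.card (H ⊓ cj g H : Subgroup G) := by
      rw [← even_iff_two_dvd, even_card_subgroup_iff]
      exact ⟨t, htD, hto⟩
    obtain ⟨S₀⟩ : Nonempty (Sylow 2 (H ⊓ cj g H : Subgroup G)) := inferInstance
    have hSD : sylImage (H ⊓ cj g H) S₀ ≤ H ⊓ cj g H := sylImage_le _ S₀
    have hSH : sylImage (H ⊓ cj g H) S₀ ≤ H := hSD.trans inf_le_left
    have hSHg : sylImage (H ⊓ cj g H) S₀ ≤ cj g H := hSD.trans inf_le_right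
    have hS2 : IsPGroup 2 (sylImage (H ⊓ cj g H) S₀) := sylImage_isPGroup _ S₀
    have hSne : sylImage (H ⊓ cj g H) S₀ ≠ ⊥ := sylImage_ne_bot _ S₀ hDeven
    obtain ⟨h, hhH, hh⟩ := exists_cj_le_sylImage H P hSH hS2
    have h2 : cj g⁻¹ (sylImage (H ⊓ cj g H) S₀) ≤ H := by
      rw [cj_le_iff, inv_inv]; exact hSHg
    obtain ⟨k, hkH, hk⟩ := exists_cj_le_sylImage H P h2 (isPGroup_cj _ hS2)
    rw [cj_cj] at hk
    have hNS1 : Subgroup.normalizer (sylImage (H ⊓ cj g H) S₀ : Set G) ≤ H := by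
      have := hN' (cj h (sylImage (H ⊓ cj g H) S₀)) hh (cj_ne_bot hSne)
      rw [normalizer_cj, cj_le_iff] at this
      rwa [cj_eq_self_of_mem (H.inv_mem hhH)] at this
    have hNS2 : Subgroup.normalizer (sylImage (H ⊓ cj g H) S₀ : Set G) ≤ cj g H := by
      have := hN' (cj (k * g⁻¹) (sylImage (H ⊓ cj g H) S₀)) hk (cj_ne_bot hSne)
      rw [normalizer_cj, cj_le_iff] at this
      rw [mul_inv_rev, inv_inv, ← cj_cj, cj_eq_self_of_mem (H.inv_mem hkH)] at this
      exact this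
    have hSQ : sylImage (H ⊓ cj g H) S₀ ≤ cj h⁻¹ (sylImage H P) := cj_le_iff.1 hh
    have hQ2 : IsPGroup 2 (cj h⁻¹ (sylImage H P)) := isPGroup_cj _ (sylImage_isPGroup H P)
    have hQN : cj h⁻¹ (sylImage H P) ⊓ Subgroup.normalizer (sylImage (H ⊓ cj g H) S₀ : Set G)
        ≤ sylImage (H ⊓ cj g H) S₀ := by
      have h3 : cj h⁻¹ (sylImage H P) ⊓ Subgroup.normalizer (sylImage (H ⊓ cj g H) S₀ : Set G)
          ≤ H ⊓ cj g H := le_inf (inf_le_right.trans hNS1) (inf_le_right.trans hNS2)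
      have h4 : IsPGroup 2 (cj h⁻¹ (sylImage H P) ⊓
          Subgroup.normalizer (sylImage (H ⊓ cj g H) S₀ : Set G) : Subgroup G) :=
        hQ2.to_le inf_le_left
      have h5 : sylImage (H ⊓ cj g H) S₀ ≤ cj h⁻¹ (sylImage H P) ⊓
          Subgroup.normalizer (sylImage (H ⊓ cj g H) S₀ : Set G) :=
        le_inf hSQ Subgroup.le_normalizer
      exact (sylImage_maximal _ S₀ h3 h4 h5).le
    have hSeq : sylImage (H ⊓ cj g H) S₀ = cj h⁻¹ (sylImage H P) :=
      eq_of_inf_normalizer_le hQ2 hSQ hQN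
    have hcard : Nat.card (cj (k * g⁻¹) (sylImage (H ⊓ cj g H) S₀)) = Nat.card (sylImage H P) := by
      rw [card_cj, hSeq, card_cj]
    have heq : cj (k * g⁻¹) (sylImage (H ⊓ cj g H) S₀) = sylImage H P :=
      Subgroup.eq_of_le_of_card_ge hk hcard.ge
    rw [hSeq, cj_cj] at heq
    have hmem : k * g⁻¹ * h⁻¹ ∈ Subgroup.normalizer (sylImage H P : Set G) :=
      mem_normalizer_iff_cj.2 heq
    have hmemH := hN' (sylImage H P) le_rfl hP'ne hmem
    apply hg
    have e : g = h⁻¹ * (k * g⁻¹ * h⁻¹)⁻¹ * k := by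
      simp [mul_assoc]
    rw [e]
    exact H.mul_mem (H.mul_mem (H.inv_mem hhH) (H.inv_mem hmemH)) hkH

end Cfsg.Agent.S0214
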