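import Cfsg.Statements.S0218
import Mathlib

set_option autoImplicit false
open Cfsg

namespace Cfsg.Agent.S0218

open QuaternionGroup

theorem zmod_double {m : ℕ} [NeZero m] (i : ZMod (2 * m)) (h : i + i = 0) (h0 : i ≠ 0) :
    i = (m : ZMod (2 * m)) := by
  have hm : 0 < m := Nat.pos_of_ne_zero (NeZero.ne m)
  have hlt : i.val < 2 * m := ZMod.val_lt i
  have h1 : ((i.val + i.val : ℕ) : ZMod (2 * m)) = 0 := by
    push_cast
    rw [ZMod.natCast_val, ZMod.cast_id', id]
    exact h
  rw [ZMod.natCast_eq_zero_iff] at h1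
  have hne : i.val ≠ 0 := by
    intro h'
    apply h0
    exact (ZMod.val_eq_zero i).1 h'
  obtain ⟨c, hc⟩ := h1
  have hc1 : c = 1 := by
    have hlt2 : c < 2 := by
      by_contra hcc
      push_neg at hcc
      have h3 := Nat.mul_le_mul_left (2 * m) hcc
      omega
    have hne0 : c ≠ 0 := by
      intro h'
      rw [h', Nat.mul_zero] at hc
      omega
    omega
  subst hc1
  have hv : i.val = m := by omega
  calc i = ((i.val : ℕ) : ZMod (2 * m)) := by rw [ZMod.natCast_val, ZMod.cast_id', id]
    _ = (m : ZMod (2 * m)) := by rw [hv]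

theorem orderOf_two_iff' {m : ℕ} [NeZero m] (x : QuaternionGroup m) :
    orderOf x = 2 ↔ x = a (m : ZMod (2 * m)) := by
  have hm : 0 < m := Nat.pos_of_ne_zero (NeZero.ne m)
  have : Fact (Nat.Prime 2) := ⟨Nat.prime_two⟩
  constructor
  · intro h
    cases x with
    | a i =>
      rw [orderOf_eq_prime_iff, pow_two, a_mul_a, one_def] at h
      obtain ⟨h1, h2⟩ := h
      have h1' : i + i = 0 := by
        injection h1
      have h2' : i ≠ 0 := by
        intro h'; apply h2; rw [h']
      rw [zmod_double i h1' h2']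
    | xa i =>
      rw [orderOf_xa] at h
      omega
  · rintro rfl
    rw [orderOf_eq_prime_iff, pow_two, a_mul_a, one_def]
    constructor
    · congr 1
      have : ((m + m : ℕ) : ZMod (2 * m)) = 0 := by
        rw [ZMod.natCast_eq_zero_iff]; exact ⟨1, by ring⟩
      push_cast at this
      exact this
    · intro h
      injection h with h
      rw [ZMod.natCast_eq_zero_iff] at h
      obtain ⟨c, hc⟩ := h
      rcases c with _ | c
      · omega
      · have : 2 * m * (c + 1) ≥ 2 * m * 1 := Nat.mul_le_mul_left _ (by omega)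
        omega

/-- The generalized quaternion group of order 2^(n+3) contains exactly one element of order 2. -/
theorem result (n : ℕ) : Nat.card {x : QuaternionGroup (2 ^ (n + 1)) // orderOf x = 2} = 1 := by
  have : NeZero (2 ^ (n + 1)) := ⟨by positivity⟩
  rw [Nat.card_eq_one_iff_unique]
  constructor
  · constructor
    intro x y
    apply Subtype.ext
    rw [(orderOf_two_iff' x.1).1 x.2, (orderOf_two_iff' y.1).1 y.2]
  · exact ⟨⟨a ((2 ^ (n + 1) : ℕ) : ZMod (2 * 2 ^ (n + 1))), (orderOf_two_iff' _).2 rfl⟩⟩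

end Cfsg.Agent.S0218
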