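import Cfsg.Statements.S0221
-- import your own Cfsg.Agent.* helpers here
import Mathlib
import Cfsg.Agent.Lib.H16.NormalFour
import Cfsg.Agent.Lib.H16.SylowBasic
import Cfsg.Agent.Lib.H16.CommHom
import Cfsg.Agent.Lib.H1.FrattiniArg
import Cfsg.Agent.S0111

set_option autoImplicit false
open Cfsg

namespace Cfsg.Agent.S0221

open scoped commutatorElement

/-- three commuting involutions, the third outside the four-group of the first two, generate a group
containing an elementary abelian subgroup of order eight. -/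
theorem exists_E8 {G : Type*} [Group G] [Finite G] [DecidableEq G] (z u w : G) (hz2 : z ^ 2 = 1) (hu2 : u ^ 2 = 1)
    (hw2 : w ^ 2 = 1) (hzu : z * u = u * z) (hzw : z * w = w * z) (huw : u * w = w * u)
    (hz1 : z ≠ 1) (hu1 : u ≠ 1) (huz : u ≠ z)
    (hw : w ∉ ({1, z, u, u * z} : Finset G)) :
    ∃ F : Subgroup G, Nat.card F = 8 ∧ (∀ f ∈ F, f ^ 2 = 1) ∧
      F ≤ Subgroup.closure ({z, u, w} : Set G) := by
  have : Fact (Nat.Prime 2) := ⟨Nat.prime_two⟩
  set L := Subgroup.closure ({z, u, w} : Set G) with hL
  have hcomm : ∀ a ∈ ({z, u, w} : Set G), ∀ b ∈ ({z, u, w} : Set G), a * b = b * a := by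
    intro a ha b hb
    simp only [Set.mem_insert_iff, Set.mem_singleton_iff] at ha hb
    rcases ha with rfl | rfl | rfl <;> rcases hb with rfl | rfl | rfl <;>
      first | rfl | assumption | (symm; assumption)
  have hLc : IsMulCommutative L := Subgroup.isMulCommutative_closure hcomm
  have hLcomm : ∀ a ∈ L, ∀ b ∈ L, a * b = b * a := fun a ha b hb =>
    congrArg Subtype.val (hLc.is_comm.comm (⟨a, ha⟩ : L) ⟨b, hb⟩)
  have hL2 : ∀ a ∈ L, a ^ 2 = 1 := by
    intro a ha
    induction ha using Subgroup.closure_induction with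
    | mem x hx =>
      simp only [Set.mem_insert_iff, Set.mem_singleton_iff] at hx
      rcases hx with rfl | rfl | rfl <;> assumption
    | one => exact one_pow 2
    | mul x y hx hy hx2 hy2 =>
      have hc : Commute x y := hLcomm x hx y hy
      rw [hc.mul_pow, hx2, hy2, one_mul]
    | inv x hx hx2 => rw [inv_pow, hx2, inv_one]
  have hLp : IsPGroup 2 L := by
    intro a
    refine ⟨1, ?_⟩
    apply Subtype.ext
    rw [pow_one, Subgroup.coe_pow, Subgroup.coe_one]
    exact hL2 a a.2
  obtain ⟨k, hk⟩ := IsPGroup.iff_card.mp hLp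
  have hzL : z ∈ L := Subgroup.subset_closure (by simp)
  have huL : u ∈ L := Subgroup.subset_closure (by simp)
  have hwL : w ∈ L := Subgroup.subset_closure (by simp)
  simp only [Finset.mem_insert, Finset.mem_singleton, not_or] at hw
  obtain ⟨hw1, hwz, hwu, hwuz⟩ := hw
  have h5 : 5 ≤ Nat.card L := by
    have hsub : ((({1, z, u, u * z, w} : Finset G)) : Set G) ⊆ (L : Set G) := by
      intro a ha
      simp only [Finset.coe_insert, Finset.coe_singleton, Set.mem_insert_iff,
        Set.mem_singleton_iff] at ha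
      rcases ha with rfl | rfl | rfl | rfl | rfl
      · exact L.one_mem
      · exact hzL
      · exact huL
      · exact L.mul_mem huL hzL
      · exact hwL
    have hcard : ({1, z, u, u * z, w} : Finset G).card = 5 := by
      have huz1 : u * z ≠ 1 := by
        intro h
        apply huz
        have : u = z⁻¹ := mul_eq_one_iff_eq_inv.mp h
        rw [this]
        rw [sq, mul_eq_one_iff_eq_inv] at hz2
        exact hz2.symm
      rw [Finset.card_insert_of_notMem, Finset.card_insert_of_notMem,
        Finset.card_insert_of_notMem, Finset.card_insert_of_notMem, Finset.card_singleton]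
      · simp only [Finset.mem_singleton]; exact fun h => hwuz h.symm
      · simp only [Finset.mem_insert, Finset.mem_singleton, not_or]
        refine ⟨fun h => hz1 ?_, fun h => hwu h.symm⟩
        have := mul_left_cancel (a := u) (b := 1) (c := z) (by rw [mul_one]; exact h)
        exact this.symm
      · simp only [Finset.mem_insert, Finset.mem_singleton, not_or]
        refine ⟨fun h => huz h.symm, fun h => hu1 ?_, fun h => hwz h.symm⟩
        have := mul_right_cancel (a := 1) (b := z) (c := u) (by rw [one_mul]; exact h)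
        exact this.symm
      · simp only [Finset.mem_insert, Finset.mem_singleton, not_or]
        exact ⟨fun h => hz1 h.symm, fun h => hu1 h.symm, fun h => huz1 h.symm, fun h => hw1 h.symm⟩
    calc 5 = ({1, z, u, u * z, w} : Finset G).card := hcard.symm
      _ = ((({1, z, u, u * z, w} : Finset G)) : Set G).ncard := (Set.ncard_coe_finset _).symm
      _ ≤ (L : Set G).ncard := Set.ncard_le_ncard hsub (Set.toFinite _)
      _ = Nat.card L := Nat.card_coe_set_eq _
  have hk3 : 3 ≤ k := by
    by_contra hlt
    have hk2 : k ≤ 2 := by omega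
    have : 2 ^ k ≤ 2 ^ 2 := Nat.pow_le_pow_right (by norm_num) hk2
    omega
  have hdvd : 2 ^ 3 ∣ Nat.card L := by
    rw [hk]; exact pow_dvd_pow 2 hk3
  obtain ⟨K, hK⟩ := Sylow.exists_subgroup_card_pow_prime 2 hdvd
  refine ⟨K.map L.subtype, ?_, ?_, Subgroup.map_subtype_le K⟩
  · rw [Subgroup.card_map_of_injective L.subtype_injective, hK]; norm_num
  · rintro f ⟨f', -, rfl⟩
    exact hL2 f' f'.2


/-- Let G be a finite group with no subgroup of index 2 whose 2-rank is at least 3 (it contains an elementary abelian subgroup of order 8). Then the centralizer of every involution of G also contains an elementary abelian subgroup of order 8. -/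
theorem result {G : Type*} [Group G] [Finite G] (hno : ∀ H : Subgroup G, H.index ≠ 2) (hrank : ∃ E : Subgroup G, Nat.card E = 8 ∧ ∀ e ∈ E, e ^ 2 = 1) (x : G) (hx : orderOf x = 2) : ∃ E : Subgroup G, E ≤ Subgroup.centralizer ({x} : Set G) ∧ Nat.card E = 8 ∧ ∀ e ∈ E, e ^ 2 = 1 := by
  classical
  have : Fact (Nat.Prime 2) := ⟨Nat.prime_two⟩
  obtain ⟨E, hE8, hE2⟩ := hrank
  -- a Sylow 2-subgroup containing x
  have hxp : IsPGroup 2 (Subgroup.zpowers x) :=
    IsPGroup.of_card (n := 1) (by rw [Nat.card_zpowers, hx, pow_one])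
  obtain ⟨P, hP⟩ := hxp.exists_le_sylow
  have hxP : x ∈ (P : Subgroup G) := hP (Subgroup.mem_zpowers x)
  -- conjugate E into P
  have hEp : IsPGroup 2 E := IsPGroup.of_card (n := 3) (by rw [hE8]; norm_num)
  obtain ⟨g, hg⟩ := Cfsg.Agent.Lib.H16.exists_conj_mem_sylow E hEp P
  set E' := E.map (MulAut.conj g).toMonoidHom with hE'
  have hE'P : E' ≤ (P : Subgroup G) := by
    rintro _ ⟨e, he, rfl⟩
    exact hg e he
  have hE'8 : Nat.card E' = 8 := by
    rw [hE', Subgroup.card_map_of_injective (MulAut.conj g).injective, hE8]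
  have hE'2 : ∀ e ∈ E', e ^ 2 = 1 := by
    rintro _ ⟨e, he, rfl⟩
    rw [← map_pow, hE2 e he, map_one]
  have hE'comm : ∀ a ∈ E', ∀ b ∈ E', a * b = b * a := by
    intro a ha b hb
    have h1 := hE'2 a ha
    have h2 := hE'2 b hb
    have h3 := hE'2 (a * b) (E'.mul_mem ha hb)
    rw [sq] at h1 h2 h3
    have ha' : a⁻¹ = a := (mul_eq_one_iff_eq_inv.mp h1).symm
    have hb' : b⁻¹ = b := (mul_eq_one_iff_eq_inv.mp h2).symm
    have := mul_eq_one_iff_eq_inv.mp h3
    rw [mul_inv_rev, ha', hb'] at this
    exact this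
  -- four-group data inside P
  have hsub8 : Nat.card (E'.subgroupOf (P : Subgroup G)) = 8 := by
    rw [← hE'8]
    exact Nat.card_congr (Subgroup.subgroupOfEquivOfLe hE'P).toEquiv
  have hsub2 : ∀ e ∈ E'.subgroupOf (P : Subgroup G), e ^ 2 = 1 := by
    intro e he
    apply Subtype.ext
    rw [Subgroup.coe_pow, Subgroup.coe_one]
    exact hE'2 _ (Subgroup.mem_subgroupOf.mp he)
  obtain ⟨z₀, u₀, hz₀c, hz₀1, hz₀2, hu₀2, hu₀1, hu₀z, hconj₀⟩ :=
    Cfsg.Agent.Lib.H16.exists_normal_four_data (S := ↥(P : Subgroup G)) P.isPGroup'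
      (E'.subgroupOf (P : Subgroup G)) hsub8 hsub2
  set z : G := (z₀ : G) with hz
  set u : G := (u₀ : G) with hu
  have hzP : z ∈ (P : Subgroup G) := z₀.2
  have huP : u ∈ (P : Subgroup G) := u₀.2
  have hz2 : z ^ 2 = 1 := by
    have := congrArg Subtype.val hz₀2; simpa using this
  have hu2 : u ^ 2 = 1 := by
    have := congrArg Subtype.val hu₀2; simpa using this
  have hz1 : z ≠ 1 := fun h => hz₀1 (Subtype.ext h)
  have hu1 : u ≠ 1 := fun h => hu₀1 (Subtype.ext h)
  have huz : u ≠ z := fun h => hu₀z (Subtype.ext h)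
  have hzc : ∀ s ∈ (P : Subgroup G), s * z = z * s := by
    intro s hs
    have := Subgroup.mem_center_iff.mp hz₀c ⟨s, hs⟩
    exact congrArg Subtype.val this
  have hconj : ∀ s ∈ (P : Subgroup G), s * u * s⁻¹ = u ∨ s * u * s⁻¹ = u * z := by
    intro s hs
    rcases hconj₀ ⟨s, hs⟩ with h | h
    · left; exact congrArg Subtype.val h
    · right; exact congrArg Subtype.val h
  have hzu : z * u = u * z := (hzc u huP).symm
  -- the central subgroup D = ⟨z⟩
  set D := Subgroup.zpowers z with hD
  have hDcard : Nat.card D = 2 := by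
    rw [hD, Nat.card_zpowers]
    apply orderOf_eq_prime hz2 hz1
  have hDmem : ∀ d ∈ D, d = 1 ∨ d = z := by
    intro t ht
    obtain ⟨i, rfl⟩ := Subgroup.mem_zpowers_iff.mp ht
    rcases Int.even_or_odd' i with ⟨j, rfl | rfl⟩
    · left
      rw [zpow_mul, zpow_ofNat, hz2, one_zpow]
    · right
      rw [zpow_add, zpow_mul, zpow_ofNat, hz2, one_zpow, one_mul, zpow_one]
  have hcommD : ∀ k ∈ (P : Subgroup G), ⁅k, u⁆ ∈ D := by
    intro k hk
    rw [commutatorElement_def]
    rcases hconj k hk with h | h
    · rw [h, mul_inv_cancel]; exact D.one_mem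
    · rw [h, ← hzu, mul_inv_cancel_right]; exact Subgroup.mem_zpowers z
  have hDu : ∀ d ∈ D, Commute d u := by
    intro d hd
    rcases hDmem d hd with rfl | rfl
    · exact Commute.one_left u
    · exact hzu
  have hDP : ∀ d ∈ D, ∀ k ∈ (P : Subgroup G), Commute d k := by
    intro d hd k hk
    rcases hDmem d hd with rfl | rfl
    · exact Commute.one_left k
    · exact (hzc k hk).symm
  -- Claim A: involutions of P commuting with u have an E8 in their centralizer
  have claimA : ∀ y ∈ (P : Subgroup G), y * u = u * y → y ^ 2 = 1 → y ≠ 1 →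
      ∃ F : Subgroup G, F ≤ Subgroup.centralizer ({y} : Set G) ∧ Nat.card F = 8 ∧
        ∀ e ∈ F, e ^ 2 = 1 := by
    intro y hyP hyu hy2 hy1
    have hzy : z * y = y * z := (hzc y hyP).symm
    by_cases hy : y ∈ ({1, z, u, u * z} : Finset G)
    · -- an element of E' ∩ C(u) outside the four-group
      set E₁ := E' ⊓ Subgroup.centralizer ({u} : Set G) with hE₁
      have hrel : (Subgroup.centralizer ({u} : Set G)).relIndex E' ∣ 2 := by
        have := Cfsg.Agent.Lib.H16.relIndex_centralizer_dvd_card E' D u
          (fun k hk => hcommD k (hE'P hk)) hDu (fun d hd k hk => hDP d hd k (hE'P hk))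
        rwa [hDcard] at this
      have hcardE₁ : Nat.card E₁ * (Subgroup.centralizer ({u} : Set G)).relIndex E' = 8 := by
        have := Cfsg.Agent.Lib.H1.card_mul_relIndex_of_le (inf_le_left : E₁ ≤ E')
        rw [Subgroup.inf_relIndex_left, hE'8] at this
        exact this
      have hE₁4 : 4 ≤ Nat.card E₁ := by
        have hle : (Subgroup.centralizer ({u} : Set G)).relIndex E' ≤ 2 :=
          Nat.le_of_dvd (by norm_num) hrel
        nlinarith
      obtain ⟨e, heE₁, he⟩ : ∃ e ∈ E₁, e ∉ ({1, z, u, u * z} : Finset G) := by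
        by_contra hno'
        push Not at hno'
        have hsub : (E₁ : Set G) ⊆ ((({1, z, u, u * z} : Finset G)) : Set G) :=
          fun a ha => hno' a ha
        have hnc : (E₁ : Set G).ncard = Nat.card E₁ := (Nat.card_coe_set_eq _).symm
        have hle : ((({1, z, u, u * z} : Finset G)) : Set G).ncard ≤ (E₁ : Set G).ncard := by
          rw [Set.ncard_coe_finset, hnc]
          exact le_trans Finset.card_le_four hE₁4
        have heq := Set.eq_of_subset_of_ncard_le hsub hle (Finset.finite_toSet _)
        have huE₁ : u ∈ E₁ := by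
          have : u ∈ (E₁ : Set G) := by rw [heq]; simp
          exact this
        have huE' : u ∈ E' := huE₁.1
        have hEC : E' ≤ Subgroup.centralizer ({u} : Set G) := by
          intro a ha
          rw [Subgroup.mem_centralizer_singleton_iff]
          exact hE'comm a ha u huE'
        have hEE : E₁ = E' := inf_eq_left.mpr hEC
        have h8 : (E₁ : Set G).ncard = 8 := by rw [hnc, hEE, hE'8]
        have h4 : (E₁ : Set G).ncard ≤ 4 := by
          rw [heq, Set.ncard_coe_finset]
          exact Finset.card_le_four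
        omega
      have heE' : e ∈ E' := heE₁.1
      have heu : e * u = u * e := Subgroup.mem_centralizer_singleton_iff.mp heE₁.2
      have hze : z * e = e * z := (hzc e (hE'P heE')).symm
      obtain ⟨F, hF8, hF2, hFle⟩ := exists_E8 z u e hz2 hu2 (hE'2 e heE') hzu hze heu.symm
        hz1 hu1 huz he
      refine ⟨F, ?_, hF8, hF2⟩
      refine hFle.trans ?_
      rw [Subgroup.closure_le]
      intro a ha
      simp only [Set.mem_insert_iff, Set.mem_singleton_iff] at ha
      simp only [Finset.mem_insert, Finset.mem_singleton] at hy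
      rw [SetLike.mem_coe, Subgroup.mem_centralizer_singleton_iff]
      rcases hy with rfl | rfl | rfl | rfl
      · exact absurd rfl hy1
      · rcases ha with rfl | rfl | rfl
        · rfl
        · exact hzu.symm
        · exact hze.symm
      · rcases ha with rfl | rfl | rfl
        · exact hzu
        · rfl
        · exact heu
      · rcases ha with rfl | rfl | rfl
        · rw [← mul_assoc, hzu]
        · rw [mul_assoc, hzu]
        · rw [← mul_assoc, heu, mul_assoc, ← hze, mul_assoc]
    · obtain ⟨F, hF8, hF2, hFle⟩ := exists_E8 z u y hz2 hu2 hy2 hzu hzy hyu.symm hz1 hu1 huz hy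
      refine ⟨F, ?_, hF8, hF2⟩
      refine hFle.trans ?_
      rw [Subgroup.closure_le]
      intro a ha
      simp only [Set.mem_insert_iff, Set.mem_singleton_iff] at ha
      rw [SetLike.mem_coe, Subgroup.mem_centralizer_singleton_iff]
      rcases ha with rfl | rfl | rfl
      · exact hzy
      · exact hyu.symm
      · rfl
  have hx2 : x ^ 2 = 1 := by rw [← hx, pow_orderOf_eq_one]
  have hx1 : x ≠ 1 := by
    intro h; rw [h, orderOf_one] at hx; omega
  by_cases hxu : x * u = u * x
  · exact claimA x hxP hxu hx2 hx1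
  · -- Thompson transfer
    set Q := (P : Subgroup G) ⊓ Subgroup.centralizer ({u} : Set G) with hQ
    have hQi : Q.relIndex (P : Subgroup G) = 2 := by
      rw [hQ, Subgroup.inf_relIndex_left]
      exact Cfsg.Agent.Lib.H16.relIndex_centralizer_eq_prime Nat.prime_two (P : Subgroup G) D u
        hDcard hcommD hDu hDP ⟨x, hxP, hxu⟩
    have hxQ : x ∉ Q := fun h => hxu (Subgroup.mem_centralizer_singleton_iff.mp h.2)
    rcases Cfsg.Agent.S0111.result P Q inf_le_left hQi x hx hxP hxQ with ⟨M, -, hMi, -⟩ | ⟨c, hc⟩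
    · exact absurd hMi (hno M)
    · set y := c * x * c⁻¹ with hy
      have hy2 : y ^ 2 = 1 := by rw [hy, conj_pow, hx2, mul_one, mul_inv_cancel]
      have hy1 : y ≠ 1 := by
        intro h
        apply hx1
        rw [hy, mul_inv_eq_one, mul_eq_left] at h
        exact h
      obtain ⟨F, hFc, hF8, hF2⟩ := claimA y hc.1
        (Subgroup.mem_centralizer_singleton_iff.mp hc.2) hy2 hy1
      refine ⟨F.map (MulAut.conj c⁻¹).toMonoidHom, ?_, ?_, ?_⟩
      · rintro _ ⟨f, hf, rfl⟩
        rw [Subgroup.mem_centralizer_singleton_iff]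
        have hfy : f * y = y * f := Subgroup.mem_centralizer_singleton_iff.mp (hFc hf)
        show c⁻¹ * f * c⁻¹⁻¹ * x = x * (c⁻¹ * f * c⁻¹⁻¹)
        rw [inv_inv]
        have hx' : x = c⁻¹ * y * c := by rw [hy]; group
        rw [hx']
        calc c⁻¹ * f * c * (c⁻¹ * y * c) = c⁻¹ * (f * y) * c := by group
          _ = c⁻¹ * (y * f) * c := by rw [hfy]
          _ = c⁻¹ * y * c * (c⁻¹ * f * c) := by group
      · rw [Subgroup.card_map_of_injective (MulAut.conj c⁻¹).injective, hF8]
      · rintro _ ⟨f, hf, rfl⟩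
        rw [← map_pow, hF2 f hf, map_one]

end Cfsg.Agent.S0221
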