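import Cfsg.Statements.S0223
import Mathlib
import Cfsg.Agent.Lib.H2.StronglyEmbedded

set_option autoImplicit false
open Cfsg

namespace Cfsg.Agent.S0223

open Cfsg.Agent.Lib.H2

/-- Let H be a proper subgroup of even order of the finite group G. Then H is strongly embedded if and only if (i) C_G(t) ≤ H for every involution t of H and (ii) H controls fusion of its involutions: involutions of H conjugate in G are conjugate in H. -/
theorem result {G : Type*} [Group G] [Finite G] (H : Subgroup G) (hH : H ≠ ⊤) (heven : Even (Nat.card H)) : Cfsg.IsStronglyEmbedded H ↔ ((∀ t ∈ H, orderOf t = 2 → Subgroup.centralizer ({t} : Set G) ≤ H) ∧ (∀ t ∈ H, ∀ s ∈ H, orderOf t = 2 → orderOf s = 2 → IsConj t s → ∃ h ∈ H, h * t * h⁻¹ = s)) := by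
  rw [isStronglyEmbedded_iff H hH heven]
  constructor
  · intro h
    constructor
    · intro t htH ht c hc
      rw [Subgroup.mem_centralizer_iff] at hc
      have hct := hc t rfl
      apply h c t ht htH
      have : c⁻¹ * t * c = t := by
        rw [mul_assoc, hct, ← mul_assoc, inv_mul_cancel, one_mul]
      rw [this]; exact htH
    · intro t htH s hsH ht hs hconj
      obtain ⟨g, hg⟩ := isConj_iff.1 hconj
      refine ⟨g, ?_, hg⟩
      apply h g s hs hsH
      have : g⁻¹ * s * g = t := by
        rw [← hg]; simp [mul_assoc]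
      rw [this]; exact htH
  · rintro ⟨h1, h2⟩ g t ht htH hs
    have hso : orderOf (g⁻¹ * t * g) = 2 := by
      rw [← ht]
      have : g⁻¹ * t * g = MulAut.conj g⁻¹ t := by simp [MulAut.conj_apply]
      rw [this]
      exact MulEquiv.orderOf_eq _ t
    have hconj : IsConj t (g⁻¹ * t * g) := isConj_iff.2 ⟨g⁻¹, by simp⟩
    obtain ⟨h, hhH, hh⟩ := h2 t htH _ hs ht hso hconj
    have hc : g * h ∈ Subgroup.centralizer ({t} : Set G) := by
      rw [Subgroup.mem_centralizer_iff]
      intro y hy
      rw [Set.mem_singleton_iff] at hy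
      subst hy
      have e : g * h * y * (g * h)⁻¹ = y := by
        rw [mul_inv_rev]
        calc g * h * y * (h⁻¹ * g⁻¹) = g * (h * y * h⁻¹) * g⁻¹ := by simp only [mul_assoc]
          _ = y := by rw [hh]; simp [mul_assoc]
      calc y * (g * h) = (g * h * y * (g * h)⁻¹) * (g * h) := by rw [e]
        _ = g * h * y := inv_mul_cancel_right _ _
    have hgh := h1 t htH ht hc
    have : g = (g * h) * h⁻¹ := by simp
    rw [this]
    exact H.mul_mem hgh (H.inv_mem hhH)

end Cfsg.Agent.S0223
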