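import Cfsg.Statements.S0224
import Mathlib
import Cfsg.Agent.Lib.H2.StronglyEmbedded

set_option autoImplicit false
open Cfsg

namespace Cfsg.Agent.S0224

open Cfsg.Agent.Lib.H2

theorem smul_mk_eq_iff {G : Type*} [Group G] (H : Subgroup G) (t g : G) :
    t • (QuotientGroup.mk g : G ⧸ H) = QuotientGroup.mk g ↔ g⁻¹ * t * g ∈ H := by
  rw [MulAction.Quotient.smul_mk, QuotientGroup.eq, smul_eq_mul, mul_inv_rev, ← H.inv_mem_iff]
  simp [mul_assoc]

/-- Let H be a proper subgroup of even order of the finite group G. Then H is strongly embedded if and only if each involution of H fixes exactly one point (namely the coset H) in the action of G on the cosets of H. -/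
theorem result {G : Type*} [Group G] [Finite G] (H : Subgroup G) (hH : H ≠ ⊤) (heven : Even (Nat.card H)) : Cfsg.IsStronglyEmbedded H ↔ ∀ t ∈ H, orderOf t = 2 → Nat.card {c : G ⧸ H // t • c = c} = 1 := by
  rw [isStronglyEmbedded_iff H hH heven]
  constructor
  · intro h t htH ht
    rw [Nat.card_eq_one_iff_unique]
    constructor
    · constructor
      rintro ⟨c, hc⟩ ⟨d, hd⟩
      apply Subtype.ext
      simp only
      induction c using QuotientGroup.induction_on with | _ a => ?_
      induction d using QuotientGroup.induction_on with | _ b => ?_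
      rw [smul_mk_eq_iff] at hc hd
      have ha := h a t ht htH hc
      have hb := h b t ht htH hd
      rw [QuotientGroup.eq]
      exact H.mul_mem (H.inv_mem ha) hb
    · refine ⟨⟨QuotientGroup.mk 1, ?_⟩⟩
      rw [smul_mk_eq_iff]
      simpa using htH
  · intro h g t ht htH hg
    have h1 := h t htH ht
    rw [Nat.card_eq_one_iff_unique] at h1
    obtain ⟨hsub, -⟩ := h1
    have e := hsub.elim (⟨QuotientGroup.mk g, (smul_mk_eq_iff H t g).2 hg⟩ : {c : G ⧸ H // t • c = c})
      ⟨QuotientGroup.mk 1, (smul_mk_eq_iff H t 1).2 (by simpa using htH)⟩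
    have e2 := congrArg Subtype.val e
    simp only at e2
    rw [QuotientGroup.eq] at e2
    simpa using e2

end Cfsg.Agent.S0224
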