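import Cfsg.Statements.S0225
import Cfsg.Agent.Lib.H1.ZRankOne

set_option autoImplicit false
open Cfsg

namespace Cfsg.Agent.S0225

/-- If a finite group G has even order but contains no Klein four-subgroup (2-rank 1), then some involution z of G is central modulo a normal subgroup of odd order: there is a normal subgroup N of odd order containing every commutator z g z⁻¹ g⁻¹. -/
theorem result {G : Type*} [Group G] [Finite G] (heven : Even (Nat.card G)) (hrank : ∀ E : Subgroup G, ¬ IsKleinFour E) : ∃ z : G, orderOf z = 2 ∧ ∃ N : Subgroup G, N.Normal ∧ Odd (Nat.card N) ∧ ∀ g : G, z * g * z⁻¹ * g⁻¹ ∈ N := by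
  classical
  have hp2 : Fact (Nat.Prime 2) := ⟨Nat.prime_two⟩
  obtain ⟨z, hz⟩ := exists_prime_orderOf_dvd_card' 2 (even_iff_two_dvd.mp heven)
  have hU : ∀ u v : G, u * u = 1 → u ≠ 1 → v * v = 1 → v ≠ 1 → u * v = v * u → u = v := by
    intro u v hu hu1 hv hv1 huv
    by_contra hne
    exact hrank _ (Cfsg.Agent.Lib.H5.KP.isKleinFour_kleinPair hu hv huv hu1 hv1 hne)
  refine ⟨z, hz, Cfsg.oddCore G, Cfsg.Agent.Lib.H22.pPrimeCore_normal 2, ?_, ?_⟩
  · exact Nat.coprime_two_right.mp (Cfsg.Agent.Lib.H22.card_pPrimeCore_coprime 2)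
  · exact fun g => Cfsg.Agent.Lib.H1.ZRankOne.comm_mem_oddCore hU z hz g

end Cfsg.Agent.S0225
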