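import Cfsg.Statements.S0226
import Mathlib

set_option autoImplicit false
open Cfsg

namespace Cfsg.Agent.S0226

/-- the number of solutions of `g⁻¹ = g` has the parity of `|G|` -/
theorem card_inv_fixed_modEq {G : Type*} [Group G] [Finite G] :
    Nat.card G ≡ Nat.card {g : G // g⁻¹ = g} [MOD 2] := by
  classical
  have := Fintype.ofFinite G
  let f : Function.End G := fun g => g⁻¹
  have hf : f ^ 2 ^ 1 = 1 := by
    rw [pow_one, pow_two]
    funext g
    change (g⁻¹)⁻¹ = g
    simp
  have : Fact (Nat.Prime 2) := ⟨Nat.prime_two⟩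
  have h := Equiv.Perm.card_fixedPoints_modEq (f := f) (p := 2) (n := 1) hf
  have e : Nat.card {g : G // g⁻¹ = g} = Fintype.card (Function.fixedPoints f) := by
    rw [← Nat.card_eq_fintype_card]; rfl
  rw [e, Nat.card_eq_fintype_card]
  exact h

/-- A finite group of even order has an odd number of involutions. -/
theorem result {G : Type*} [Group G] [Finite G] (heven : Even (Nat.card G)) : Odd (Nat.card {t : G // orderOf t = 2}) := by
  classical
  have h1 := card_inv_fixed_modEq (G := G)
  have h2 : Nat.card {g : G // g⁻¹ = g} = Nat.card {t : G // orderOf t = 2} + 1 := by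
    have e : {g : G | g⁻¹ = g} = insert 1 {t : G | orderOf t = 2} := by
      ext g
      simp only [Set.mem_ofPred_eq, Set.mem_insert_iff]
      have : Fact (Nat.Prime 2) := ⟨Nat.prime_two⟩
      rw [orderOf_eq_prime_iff]
      constructor
      · intro h
        by_cases hg : g = 1
        · exact Or.inl hg
        · refine Or.inr ⟨?_, hg⟩
          rw [pow_two]
          calc g * g = g⁻¹ * g := by rw [h]
            _ = 1 := inv_mul_cancel g
      · rintro (rfl | ⟨h, -⟩)
        · simp
        · rw [pow_two] at h
          exact inv_eq_of_mul_eq_one_right h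
    have h1n : (1 : G) ∉ {t : G | orderOf t = 2} := by simp
    change Nat.card ↥{g : G | g⁻¹ = g} = Nat.card ↥{t : G | orderOf t = 2} + 1
    rw [Nat.card_coe_set_eq, Nat.card_coe_set_eq, e, Set.ncard_insert_of_notMem h1n (Set.toFinite _)]
  rw [h2] at h1
  have h3 : (Nat.card {t : G // orderOf t = 2} + 1) % 2 = 0 := by
    rw [← h1]; exact Nat.even_iff.1 heven
  rw [Nat.odd_iff]; omega

end Cfsg.Agent.S0226
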