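import Cfsg.Statements.S0230
import Mathlib
import Cfsg.Agent.Lib.H2.ClassCard
import Cfsg.Agent.Lib.H2.IsolatedProd
import Cfsg.Agent.S0208
import Cfsg.Agent.S0209

set_option autoImplicit false
open Cfsg

namespace Cfsg.Agent.S0230

open Cfsg.Agent.Lib.H2

open Classical in
theorem card_centralizer_eq_filter {G : Type*} [Group G] [Fintype G] (z : G) :
    Nat.card (Subgroup.centralizer ({z} : Set G)) = (Finset.univ.filter fun v : G => Commute v z).card := by
  apply Nat.subtype_card
  intro x
  rw [Finset.mem_filter, Subgroup.mem_centralizer_iff]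
  constructor
  · rintro ⟨-, h⟩ y hy
    rw [Set.mem_singleton_iff] at hy
    rw [hy]; exact h.eq.symm
  · intro h
    exact ⟨Finset.mem_univ _, (h z rfl).symm⟩

/-- Let G be a finite group with two non-conjugate involutions, and let t be an involution whose centralizer has maximal order among centralizers of involutions. Then |G| < |C_G(t)|^3. -/
theorem result {G : Type*} [Group G] [Finite G] (s t : G) (hs : orderOf s = 2) (ht : orderOf t = 2) (hnc : ¬ IsConj s t) (hmax : ∀ u : G, orderOf u = 2 → Nat.card (Subgroup.centralizer ({u} : Set G)) ≤ Nat.card (Subgroup.centralizer ({t} : Set G))) : Nat.card G < Nat.card (Subgroup.centralizer ({t} : Set G)) ^ 3 := by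
  classical
  have := Fintype.ofFinite G
  set c := Nat.card (Subgroup.centralizer ({t} : Set G)) with hc
  have hcpos : 0 < c := Nat.card_pos
  -- the class of t
  have hclass := ncard_conj_mul_card_centralizer t
  have hclass' : (Finset.univ.filter fun v : G => IsConj t v).card * c = Nat.card G := by
    rw [← hclass, ← Set.ncard_coe_finset]
    congr 2
    ext v; simp
  -- involutions commuting with s
  let I : Finset G := Finset.univ.filter fun z : G => Commute z s ∧ orderOf z = 2
  have hsub : (Finset.univ.filter fun v : G => IsConj t v) ⊆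
      I.biUnion fun z => Finset.univ.filter fun v : G => Commute v z := by
    intro v hv
    rw [Finset.mem_filter] at hv
    obtain ⟨g, hg⟩ := isConj_iff.1 hv.2
    have hvo : orderOf v = 2 := by rw [← hg, orderOf_conj_eq, ht]
    have hsv : ¬ IsConj s v := fun h => hnc (h.trans hv.2.symm)
    have heven : Even (orderOf (s * v)) := by
      rw [← Nat.not_odd_iff_even]
      intro hodd
      obtain ⟨d, -, hd⟩ := Cfsg.Agent.S0208.result s v hs hvo hodd
      exact hsv (isConj_iff.2 ⟨d, hd⟩)
    obtain ⟨hz, hzs, hzv⟩ := Cfsg.Agent.S0209.result s v hs hvo heven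
    rw [Finset.mem_biUnion]
    refine ⟨(s * v) ^ (orderOf (s * v) / 2), ?_, ?_⟩
    · rw [Finset.mem_filter]
      exact ⟨Finset.mem_univ _, hzs, hz⟩
    · rw [Finset.mem_filter]
      exact ⟨Finset.mem_univ _, hzv.symm⟩
  have h1 := Finset.card_le_card hsub
  have h2 : (I.biUnion fun z => Finset.univ.filter fun v : G => Commute v z).card ≤ I.card * c := by
    refine le_trans (Finset.card_biUnion_le (s := I) (t := fun z => Finset.univ.filter fun v : G => Commute v z)) ?_
    rw [← smul_eq_mul, ← Finset.sum_const]
    apply Finset.sum_le_sum
    intro z hz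
    rw [Finset.mem_filter] at hz
    rw [← card_centralizer_eq_filter]
    exact hmax z hz.2.2
  have h3 : I.card + 1 ≤ c := by
    have hI : I ⊆ (Finset.univ.filter fun v : G => Commute v s).erase 1 := by
      intro z hz
      rw [Finset.mem_filter] at hz
      rw [Finset.mem_erase, Finset.mem_filter]
      refine ⟨?_, Finset.mem_univ _, hz.2.1⟩
      intro h1
      rw [h1] at hz
      simp at hz
    have h4 := Finset.card_le_card hI
    rw [Finset.card_erase_of_mem (by simp), ← card_centralizer_eq_filter] at h4
    have h5 := hmax s hs
    have h6 : 0 < Nat.card (Subgroup.centralizer ({s} : Set G)) := Nat.card_pos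
    omega
  -- conclude
  rw [← hclass']
  have h7 : (Finset.univ.filter fun v : G => IsConj t v).card ≤ I.card * c := h1.trans h2
  calc (Finset.univ.filter fun v : G => IsConj t v).card * c ≤ (I.card * c) * c :=
        Nat.mul_le_mul_right _ h7
    _ < c ^ 3 := by
        have h8 : I.card < c := by omega
        have : I.card * c * c < c * c * c := by
          apply Nat.mul_lt_mul_of_pos_right _ hcpos
          exact Nat.mul_lt_mul_of_pos_right h8 hcpos
        calc I.card * c * c < c * c * c := this
          _ = c ^ 3 := by ring

end Cfsg.Agent.S0230
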