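import Cfsg.Statements.S0231
import Mathlib
import Cfsg.Agent.Lib.H2.CommInv
import Cfsg.Agent.Lib.H2.StronglyEmbedded
import Cfsg.Agent.S0208
import Cfsg.Agent.S0209

set_option autoImplicit false
open scoped Pointwise
open Cfsg

namespace Cfsg.Agent.S0231

open Cfsg.Agent.Lib.H2

/-- Let T be a Sylow 2-subgroup of the finite group G which is not normal and which intersects every other Sylow 2-subgroup trivially. Then G has a single conjugacy class of involutions. -/
theorem result {G : Type*} [Group G] [Finite G] (T : Sylow 2 G) (hnn : ¬ (T : Subgroup G).Normal) (hTI : ∀ g : G, MulAut.conj g • (T : Subgroup G) ≠ T → MulAut.conj g • (T : Subgroup G) ⊓ T = ⊥) (s t : G) (hs : orderOf s = 2) (ht : orderOf t = 2) : IsConj s t := by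
  have hp2 : Fact (Nat.Prime 2) := ⟨Nat.prime_two⟩
  -- (a) distinct Sylow 2-subgroups meet trivially
  have hTI' : ∀ Q₁ Q₂ : Sylow 2 G, ∀ a : G, a ∈ Q₁ → a ∈ Q₂ → a ≠ 1 → Q₁ = Q₂ := by
    intro Q₁ Q₂ a ha₁ ha₂ ha
    obtain ⟨g₁, rfl⟩ := MulAction.exists_smul_eq G T Q₁
    obtain ⟨g₂, rfl⟩ := MulAction.exists_smul_eq G T Q₂
    by_contra hne
    have hg : MulAut.conj (g₂⁻¹ * g₁) • (T : Subgroup G) ≠ T := by
      intro h
      apply hne
      have h1 : (g₂⁻¹ * g₁) • T = T := by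
        apply Sylow.ext
        rw [Sylow.coe_subgroup_smul]
        exact h
      calc g₁ • T = g₂ • ((g₂⁻¹ * g₁) • T) := by rw [smul_smul, mul_inv_cancel_left]
        _ = g₂ • T := by rw [h1]
    have h2 := hTI _ hg
    rw [mem_smul_sylow_iff] at ha₁ ha₂
    have hb : g₂⁻¹ * a * g₂ ∈ MulAut.conj (g₂⁻¹ * g₁) • (T : Subgroup G) ⊓ T := by
      refine Subgroup.mem_inf.2 ⟨?_, ha₂⟩
      rw [Subgroup.mem_pointwise_smul_iff_inv_smul_mem]
      simp only [MulAut.smul_def, MulAut.inv_apply, MulAut.conj_symm_apply]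
      have e : (g₂⁻¹ * g₁)⁻¹ * (g₂⁻¹ * a * g₂) * (g₂⁻¹ * g₁) = g₁⁻¹ * a * g₁ := by
        simp [mul_assoc]
      rw [e]
      exact ha₁
    rw [h2, Subgroup.mem_bot] at hb
    apply ha
    have : a = g₂ * (g₂⁻¹ * a * g₂) * g₂⁻¹ := by simp [mul_assoc]
    rw [this, hb]; simp
  -- (b) non-conjugate involutions lie in the same Sylow subgroups
  have hkey : ∀ a b : G, orderOf a = 2 → orderOf b = 2 → ¬ IsConj a b → ∀ Q : Sylow 2 G,
      a ∈ Q → b ∈ Q := by
    intro a b ha hb hab Q haQ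
    have heven : Even (orderOf (a * b)) := by
      rw [← Nat.not_odd_iff_even]
      intro hodd
      obtain ⟨d, -, hd⟩ := Cfsg.Agent.S0208.result a b ha hb hodd
      exact hab (isConj_iff.2 ⟨d, hd⟩)
    obtain ⟨hz, hza, hzb⟩ := Cfsg.Agent.S0209.result a b ha hb heven
    have ha1 : a ≠ 1 := by intro h; rw [h] at ha; simp at ha
    have hz1 : (a * b) ^ (orderOf (a * b) / 2) ≠ 1 := by intro h; rw [h] at hz; simp at hz
    obtain ⟨Q₁, haQ₁, hzQ₁⟩ := exists_sylow_of_commute_involutions ha hz hza.symm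
    have e1 : Q₁ = Q := hTI' Q₁ Q a haQ₁ haQ ha1
    rw [e1] at hzQ₁
    obtain ⟨Q₂, hzQ₂, hbQ₂⟩ := exists_sylow_of_commute_involutions hz hb hzb
    have e2 : Q₂ = Q := hTI' Q₂ Q _ hzQ₂ hzQ₁ hz1
    rw [e2] at hbQ₂
    exact hbQ₂
  -- (c) main argument
  by_contra hst
  have hs1 : s ≠ 1 := by intro h; rw [h] at hs; simp at hs
  have ht1 : t ≠ 1 := by intro h; rw [h] at ht; simp at ht
  obtain ⟨Q₀, hsQ₀⟩ := exists_sylow_of_involution hs
  have hnsub : ¬ Subsingleton (Sylow 2 G) := by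
    intro h
    exact hnn (Sylow.normal_of_subsingleton T)
  rw [not_subsingleton_iff_nontrivial] at hnsub
  obtain ⟨Q', hQ'⟩ := exists_ne Q₀
  -- an involution in Q'
  have hcard : Nat.card (Q' : Subgroup G) = Nat.card (Q₀ : Subgroup G) := by
    have e1 : Nat.card (Q' : Subgroup G) = 2 ^ (Nat.card G).factorization 2 := Q'.card_eq_multiplicity
    have e2 : Nat.card (Q₀ : Subgroup G) = 2 ^ (Nat.card G).factorization 2 := Q₀.card_eq_multiplicity
    rw [e1, e2]
  have heven' : Even (Nat.card (Q' : Subgroup G)) := by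
    rw [hcard, even_card_subgroup_iff]
    exact ⟨s, hsQ₀, hs⟩
  obtain ⟨r, hrQ', hr⟩ := (even_card_subgroup_iff _).1 heven'
  have hr1 : r ≠ 1 := by intro h; rw [h] at hr; simp at hr
  have hrs : IsConj r s := by
    by_contra h
    have := hkey r s hr hs h Q' hrQ'
    exact hQ' (hTI' Q' Q₀ s this hsQ₀ hs1)
  have hrt : IsConj r t := by
    by_contra h
    have h1 := hkey r t hr ht h Q' hrQ'
    have h2 := hkey s t hs ht hst Q₀ hsQ₀
    exact hQ' (hTI' Q' Q₀ t h1 h2 ht1)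
  exact hst (hrs.symm.trans hrt)

end Cfsg.Agent.S0231
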