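import Cfsg.Statements.S0232
import Mathlib
import Cfsg.Agent.Lib.H2.SimpleIndex
import Cfsg.Agent.Lib.H2.ClassCard
import Cfsg.Agent.Lib.H2.IsolatedProd
import Cfsg.Agent.Lib.H2.StronglyEmbedded
import Cfsg.Agent.S0233
import Cfsg.Agent.S0219

set_option autoImplicit false
open Cfsg

namespace Cfsg.Agent.S0232

open Cfsg.Agent.Lib.H2

/-- case of a subgroup of index 2 -/
theorem of_index_two {G : Type*} [Group G] [Finite G] (hgt : 2 < Nat.card G) {H : Subgroup G}
    (hH : H.index = 2) : H ≠ ⊤ ∧ Nat.card G < (Nat.card H) ^ 3 := by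
  constructor
  · intro h
    rw [h, Subgroup.index_top] at hH
    omega
  · have h1 := H.card_mul_index
    rw [hH] at h1
    have h2 : 2 ≤ Nat.card H := by omega
    rw [← h1]
    nlinarith [Nat.mul_le_mul h2 h2]

/-- case without central involutions and without subgroups of index 2 -/
theorem of_no_central {G : Type*} [Group G] [Finite G] (heven : Even (Nat.card G))
    (hZ : ∀ z : G, orderOf z = 2 → z ∉ Subgroup.center G) (hno2 : ∀ H : Subgroup G, H.index ≠ 2) :
    ∃ H : Subgroup G, H ≠ ⊤ ∧ Nat.card G < (Nat.card H) ^ 3 := by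
  obtain ⟨t, ht⟩ := even_card_iff_exists_involution.1 heven
  set c := Nat.card (Subgroup.centralizer ({t} : Set G)) with hc
  by_cases hc3 : Nat.card G < c ^ 3
  · refine ⟨Subgroup.centralizer ({t} : Set G), ?_, hc3⟩
    intro h
    apply hZ t ht
    rw [Subgroup.mem_center_iff]
    intro g
    have hg : g ∈ Subgroup.centralizer ({t} : Set G) := by rw [h]; exact Subgroup.mem_top g
    rw [Subgroup.mem_centralizer_iff] at hg
    exact (hg t rfl).symm
  · push Not at hc3
    have hZodd : Odd (Nat.card (Subgroup.center G)) := by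
      rw [← Nat.not_even_iff_odd, even_card_subgroup_iff]
      rintro ⟨z, hzc, hz⟩
      exact hZ z hz hzc
    obtain ⟨H, hH, hcase⟩ := Cfsg.Agent.S0233.result heven hZodd
    refine ⟨H, hH, ?_⟩
    rcases hcase with h | h
    · exact absurd h (hno2 H)
    · set m := Nat.card {t : G // orderOf t = 2} with hm
      have hclass := ncard_conj_mul_card_centralizer t
      have hsub : {y : G | IsConj t y} ⊆ {y : G | orderOf y = 2} := by
        intro y hy
        obtain ⟨g, rfl⟩ := isConj_iff.1 hy
        change orderOf (g * t * g⁻¹) = 2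
        rw [orderOf_conj_eq, ht]
      have h1 := Set.ncard_le_ncard hsub (Set.toFinite _)
      have h2 : Set.ncard {y : G | orderOf y = 2} = m := by
        rw [hm, ← Nat.card_coe_set_eq]; rfl
      rw [h2] at h1
      have hN : Nat.card G ≤ m * c := by
        rw [← hclass]; exact Nat.mul_le_mul_right _ h1
      have hmpos : 0 < m := by
        have : Nonempty {t : G // orderOf t = 2} := ⟨⟨t, ht⟩⟩
        exact Nat.card_pos
      have hcpos : 0 < c := Nat.card_pos
      have h3 : 2 * H.index * m ^ 2 < m ^ 2 * (c ^ 2 + c) := by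
        calc 2 * H.index * m ^ 2 < Nat.card G * (Nat.card G + m) := h
          _ ≤ (m * c) * (m * c + m) := Nat.mul_le_mul hN (Nat.add_le_add_right hN m)
          _ = m ^ 2 * (c ^ 2 + c) := by ring
      have h4 : 2 * H.index < c ^ 2 + c := by
        have : m ^ 2 * (2 * H.index) < m ^ 2 * (c ^ 2 + c) := by
          calc m ^ 2 * (2 * H.index) = 2 * H.index * m ^ 2 := by ring
            _ < m ^ 2 * (c ^ 2 + c) := h3
        exact Nat.lt_of_mul_lt_mul_left this
      have h5 : c ≤ c ^ 2 := by nlinarith
      have h6 : H.index < c ^ 2 := by omega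
      -- idx^3 < c^6 ≤ N^2
      have h7 : H.index ^ 3 < Nat.card G ^ 2 := by
        calc H.index ^ 3 < (c ^ 2) ^ 3 := Nat.pow_lt_pow_left h6 (by norm_num)
          _ = (c ^ 3) ^ 2 := by ring
          _ ≤ Nat.card G ^ 2 := Nat.pow_le_pow_left hc3 2
      by_contra hcon
      push Not at hcon
      have h8 := H.card_mul_index
      have hNpos : 0 < Nat.card G := Nat.card_pos
      have h9 : Nat.card G ^ 3 = Nat.card H ^ 3 * H.index ^ 3 := by rw [← h8]; ring
      have h10 : Nat.card G ^ 3 < Nat.card G * Nat.card G ^ 2 := by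
        rw [h9]
        have hidxpos : 0 < H.index ^ 3 := by
          have : 0 < H.index := Nat.pos_of_ne_zero Subgroup.index_ne_zero_of_finite
          positivity
        calc Nat.card H ^ 3 * H.index ^ 3 ≤ Nat.card G * H.index ^ 3 := Nat.mul_le_mul_right _ hcon
          _ < Nat.card G * Nat.card G ^ 2 := Nat.mul_lt_mul_of_pos_left h7 hNpos
      have h11 : Nat.card G * Nat.card G ^ 2 = Nat.card G ^ 3 := by ring
      omega


universe u

theorem aux : ∀ n : ℕ, ∀ (G : Type u) [Group G] [Finite G], Nat.card G = n → Even n → 2 < n →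
    ∃ H : Subgroup G, H ≠ ⊤ ∧ Nat.card G < (Nat.card H) ^ 3 := by
  intro n
  induction n using Nat.strong_induction_on with
  | _ n ih =>
    intro G _ _ hn heven hgt
    by_cases h2 : ∃ H : Subgroup G, H.index = 2
    · obtain ⟨H, hH⟩ := h2
      exact ⟨H, of_index_two (hn ▸ hgt) hH⟩
    push Not at h2
    by_cases hz : ∃ z : G, orderOf z = 2 ∧ z ∈ Subgroup.center G
    · obtain ⟨z, hzo, hzc⟩ := hz
      have hZn : (Subgroup.zpowers z).Normal := by
        constructor
        intro a ha g
        obtain ⟨k, rfl⟩ := Subgroup.mem_zpowers_iff.1 ha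
        have hcomm : Commute g z := (Subgroup.mem_center_iff.1 hzc g)
        have h1 := (hcomm.zpow_right k).eq
        rw [h1, mul_inv_cancel_right]
        exact Subgroup.zpow_mem_zpowers z k
      have hZcard : Nat.card (Subgroup.zpowers z) = 2 := by rw [Nat.card_zpowers, hzo]
      have hq : Nat.card G = Nat.card (G ⧸ Subgroup.zpowers z) * 2 := by
        rw [← hZcard]; exact Subgroup.card_eq_card_quotient_mul_card_subgroup _
      have hkeven : Even (Nat.card (G ⧸ Subgroup.zpowers z)) := by
        by_contra hodd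
        rw [Nat.not_even_iff_odd] at hodd
        have hp2 : Fact (Nat.Prime 2) := ⟨Nat.prime_two⟩
        obtain ⟨P⟩ : Nonempty (Sylow 2 G) := inferInstance
        obtain ⟨j, hj⟩ := P.isPGroup'.exists_card_eq
        have hdvd : Nat.card P ∣ Nat.card G := P.card_subgroup_dvd_card
        have h2dvd : 2 ∣ Nat.card P := P.dvd_card_of_dvd_card (by rw [hq]; exact ⟨_, mul_comm _ _⟩)
        have hPcard : Nat.card P = 2 := by
          rcases j with _ | _ | j
          · rw [hj] at h2dvd; simp at h2dvd
          · rw [hj]; rfl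
          · exfalso
            rw [hj, hq] at hdvd
            have h4 : 4 ∣ Nat.card (G ⧸ Subgroup.zpowers z) * 2 :=
              Dvd.dvd.trans ⟨2 ^ j, by ring⟩ hdvd
            obtain ⟨c, hc⟩ := h4
            have : Even (Nat.card (G ⧸ Subgroup.zpowers z)) := ⟨c, by omega⟩
            exact (Nat.not_even_iff_odd.2 hodd) this
        have hcyc : IsCyclic (P : Subgroup G) := isCyclic_of_prime_card hPcard
        obtain ⟨H, hH⟩ := Cfsg.Agent.S0219.result (hn ▸ heven) P hcyc
        exact h2 H hH
      have hk2 : Nat.card (G ⧸ Subgroup.zpowers z) ≠ 2 := by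
        intro hk
        apply h2 (Subgroup.zpowers z)
        have h1 := (Subgroup.zpowers z).card_mul_index
        rw [hZcard, hq, hk] at h1
        omega
      have hkgt : 2 < Nat.card (G ⧸ Subgroup.zpowers z) := by
        obtain ⟨c, hc⟩ := hkeven
        omega
      obtain ⟨K, hK, hlt⟩ := ih (Nat.card (G ⧸ Subgroup.zpowers z)) (by omega)
        (G ⧸ Subgroup.zpowers z) rfl hkeven hkgt
      have hidx : (K.comap (QuotientGroup.mk' (Subgroup.zpowers z))).index = K.index :=
        Subgroup.index_comap_of_surjective K (QuotientGroup.mk'_surjective _)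
      refine ⟨K.comap (QuotientGroup.mk' (Subgroup.zpowers z)), ?_, ?_⟩
      · intro h
        rw [h, Subgroup.index_top] at hidx
        exact hK (Subgroup.index_eq_one.1 hidx.symm)
      · have h1 := (K.comap (QuotientGroup.mk' (Subgroup.zpowers z))).card_mul_index
        have h3 := K.card_mul_index
        rw [hidx, hq, ← h3] at h1
        have hidxpos : 0 < K.index := Nat.pos_of_ne_zero Subgroup.index_ne_zero_of_finite
        have h4 : Nat.card (K.comap (QuotientGroup.mk' (Subgroup.zpowers z))) = Nat.card K * 2 := by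
          apply Nat.eq_of_mul_eq_mul_right hidxpos
          rw [h1]; ring
        rw [h4, hq]
        nlinarith [hlt]
    · push Not at hz
      exact of_no_central (hn ▸ heven) (fun z hz1 hz2 => hz z hz1 hz2) h2

/-- A finite group G of even order greater than 2 has a proper subgroup H with |G| < |H|^3. -/
theorem result {G : Type*} [Group G] [Finite G] (heven : Even (Nat.card G)) (hgt : 2 < Nat.card G) : ∃ H : Subgroup G, H ≠ ⊤ ∧ Nat.card G < (Nat.card H) ^ 3 :=
  aux (Nat.card G) G rfl heven hgt

end Cfsg.Agent.S0232
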