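import Mathlib
import Cfsg.Statements.S0234
import Cfsg.Agent.S0233
import Cfsg.Agent.Lib.H2.SmallSimple
import Cfsg.Agent.Lib.H2.SimpleIndex
import Cfsg.Agent.Lib.H2.StronglyEmbedded

set_option autoImplicit false
open Cfsg

namespace Cfsg.Agent.S0234

open Cfsg.Agent.Lib.H2

theorem card_involutions_A5 :
    Nat.card {t : alternatingGroup (Fin 5) // orderOf t = 2} = 15 := by
  have : Fact (Nat.Prime 2) := ⟨Nat.prime_two⟩
  have h1 : Fintype.card {g : alternatingGroup (Fin 5) // g ^ 2 = 1 ∧ g ≠ 1} = 15 := by decide
  rw [← h1, ← Nat.card_eq_fintype_card]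
  apply Nat.card_congr
  exact Equiv.subtypeEquivRight (fun g => orderOf_eq_prime_iff)

theorem card_involutions_congr {G H : Type*} [Group G] [Group H] (e : G ≃* H) :
    Nat.card {t : G // orderOf t = 2} = Nat.card {t : H // orderOf t = 2} := by
  apply Nat.card_congr
  exact e.toEquiv.subtypeEquiv (fun t => by simp [MulEquiv.orderOf_eq])

theorem no_simple_four {G : Type*} [Group G] [Finite G] [IsSimpleGroup G]
    (h : Nat.card G = 4) : False := by
  have : Fact (Nat.Prime 2) := ⟨Nat.prime_two⟩
  have hc : IsMulCommutative G :=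
    IsPGroup.isMulCommutative_of_card_eq_prime_sq (p := 2) (by rw [h]; norm_num)
  have hp : (Nat.card G).Prime := Group.is_simple_iff_prime_card.1 inferInstance
  rw [h] at hp
  exact absurd hp (by norm_num)

theorem no_simple_twelve {G : Type*} [Group G] [Finite G] [IsSimpleGroup G]
    (h : Nat.card G = 12) : False := by
  have : Fact (Nat.Prime 2) := ⟨Nat.prime_two⟩
  obtain ⟨K, hK⟩ := Sylow.exists_subgroup_card_pow_prime (G := G) 2 (n := 2)
    (by rw [h]; norm_num)
  have hidx : K.index = 3 := by
    have := K.card_mul_index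
    rw [hK, h] at this
    omega
  have hne : K ≠ ⊤ := by
    intro ht
    rw [ht, Subgroup.index_top] at hidx
    omega
  have := card_le_factorial_index hne
  rw [hidx, h] at this
  norm_num [Nat.factorial] at this

theorem no_simple_twenty {G : Type*} [Group G] [Finite G] [IsSimpleGroup G]
    (h : Nat.card G = 20) : False := by
  have : Fact (Nat.Prime 5) := ⟨by norm_num⟩
  obtain ⟨P⟩ : Nonempty (Sylow 5 G) := inferInstance
  have hfac : (20 : ℕ).factorization 5 = 1 := by
    have : (20 : ℕ) = 5 ^ 1 * 4 := by norm_num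
    rw [this, Nat.factorization_mul (by norm_num) (by norm_num), Nat.factorization_pow]
    simp [Nat.Prime.factorization_self (show Nat.Prime 5 by norm_num),
      Nat.factorization_eq_zero_of_not_dvd (show ¬ 5 ∣ 4 by norm_num)]
  have hP : Nat.card P = 5 := by
    rw [Sylow.card_eq_multiplicity, h, hfac]
    norm_num
  have hPidx : (P : Subgroup G).index = 4 := by
    have := (P : Subgroup G).card_mul_index
    rw [hP, h] at this
    omega
  have h1 := card_sylow_modEq_one 5 G
  have h2 := Sylow.card_dvd_index P
  rw [hPidx] at h2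
  have h3 : Nat.card (Sylow 5 G) ≤ 4 := Nat.le_of_dvd (by norm_num) h2
  have h4 : Nat.card (Sylow 5 G) = 1 := by
    have h5 : Nat.card (Sylow 5 G) % 5 = 1 := h1
    omega
  exact not_simple_of_sylow_count_one P h4 (by rw [hP]; norm_num) (by rw [hP, h]; norm_num)

/-- In a finite simple group G of even order greater than 2, the number n of involutions satisfies 3n < |G|. -/
theorem result {G : Type*} [Group G] [Finite G] [IsSimpleGroup G] (heven : Even (Nat.card G)) (hgt : 2 < Nat.card G) : 3 * Nat.card {t : G // orderOf t = 2} < Nat.card G := by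
  by_contra hcon
  push Not at hcon
  have : Fact (Nat.Prime 2) := ⟨Nat.prime_two⟩
  obtain ⟨t, ht⟩ := even_card_iff_exists_involution.1 heven
  rcases simple_dichotomy ht with h2 | ⟨hZ, hno2⟩
  · omega
  have hZodd : Odd (Nat.card (Subgroup.center G)) := by
    rw [hZ, Subgroup.card_bot]; exact odd_one
  obtain ⟨H, hH, h | h⟩ := Cfsg.Agent.S0233.result heven hZodd
  · exact hno2 H h
  have hne : Nonempty {t : G // orderOf t = 2} := ⟨⟨t, ht⟩⟩
  have hnpos : 0 < Nat.card {t : G // orderOf t = 2} := Nat.card_pos
  generalize hn : Nat.card {t : G // orderOf t = 2} = n at *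
  generalize hg : Nat.card G = g at *
  have hk5 : H.index ≤ 5 := by
    by_contra hk
    push Not at hk
    have hk' : 6 ≤ H.index := hk
    have h1 : g * (g + n) ≤ (3 * n) * (3 * n + n) := Nat.mul_le_mul hcon (by omega)
    have h2 : 2 * 6 * n ^ 2 ≤ 2 * H.index * n ^ 2 := by gcongr
    nlinarith
  have hk0 : H.index ≠ 0 := Subgroup.index_ne_zero_of_finite
  have hk1 : H.index ≠ 1 := fun h1 => hH (Subgroup.index_eq_one.1 h1)
  have hdvd := card_dvd_card_alternating (by rw [hg]; exact hgt) hH H.index rfl
  have hkdvd : H.index ∣ Nat.card G := Subgroup.index_dvd_card H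
  rw [hg] at hdvd hkdvd
  obtain ⟨k, hk⟩ : ∃ k, H.index = k := ⟨_, rfl⟩
  rw [hk] at hdvd hkdvd hk5 hk0 hk1
  have hk2 : 2 ≤ k := by omega
  have halt := card_alternatingGroup_fin k hk2
  have h2g : 2 ∣ g := heven.two_dvd
  interval_cases k
  · -- k = 2
    have : Nat.card (alternatingGroup (Fin 2)) = 1 := by
      simp only [Nat.factorial] at halt
      omega
    rw [this] at hdvd
    have := Nat.le_of_dvd (by norm_num) hdvd
    omega
  · -- k = 3
    have : Nat.card (alternatingGroup (Fin 3)) = 3 := by
      simp only [Nat.factorial] at halt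
      omega
    rw [this] at hdvd
    have := Nat.le_of_dvd (by norm_num) hdvd
    interval_cases g <;> omega
  · -- k = 4
    have : Nat.card (alternatingGroup (Fin 4)) = 12 := by
      simp only [Nat.factorial] at halt
      omega
    rw [this] at hdvd
    have hle := Nat.le_of_dvd (by norm_num) hdvd
    have h4 : g = 4 ∨ g = 12 := by
      interval_cases g <;> omega
    rcases h4 with rfl | rfl
    · exact no_simple_four hg
    · exact no_simple_twelve hg
  · -- k = 5
    have : Nat.card (alternatingGroup (Fin 5)) = 60 := by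
      simp only [Nat.factorial] at halt
      omega
    rw [this] at hdvd
    have hle := Nat.le_of_dvd (by norm_num) hdvd
    have h5 : g = 10 ∨ g = 20 ∨ g = 30 ∨ g = 60 := by
      interval_cases g <;> omega
    rcases h5 with rfl | rfl | rfl | rfl
    · obtain ⟨K, hK⟩ := exists_index_two_of_card (G := G) 5 (by decide) (by rw [hg])
      exact hno2 K hK
    · exact no_simple_twenty hg
    · obtain ⟨K, hK⟩ := exists_index_two_of_card (G := G) 15 (by decide) (by rw [hg])
      exact hno2 K hK
    · obtain ⟨e⟩ := simple60_iso_A5 hg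
      rw [card_involutions_congr e, card_involutions_A5] at hn
      omega

end Cfsg.Agent.S0234
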