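import Cfsg.Statements.S0239
import Mathlib
import Cfsg.Agent.Lib.H2.Real

set_option autoImplicit false
open Cfsg

namespace Cfsg.Agent.S0239

open Cfsg.Agent.Lib.H2

/-- If some nontrivial element x of a finite group G is conjugate to x⁻¹, then |G| is even. -/
theorem result {G : Type*} [Group G] [Finite G] (x : G) (hx : x ≠ 1) (hreal : IsConj x x⁻¹) : Even (Nat.card G) := by
  by_contra hne
  rw [Nat.not_even_iff_odd] at hne
  obtain ⟨g, hg⟩ := isConj_iff.1 hreal
  have hgo : Odd (orderOf g) := hne.of_dvd_nat (orderOf_dvd_natCard g)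
  obtain ⟨j, hj⟩ := hgo
  have h1 := inverts_odd_pow_of_inverts hg j
  rw [← hj, pow_orderOf_eq_one] at h1
  simp only [one_mul, inv_one, mul_one] at h1
  -- x = x⁻¹
  have hx2 : x ^ 2 = 1 := by
    rw [pow_two]
    nth_rewrite 1 [h1]
    exact inv_mul_cancel x
  have h2 : orderOf x = 2 := by
    have : Fact (Nat.Prime 2) := ⟨Nat.prime_two⟩
    exact orderOf_eq_prime hx2 hx
  have h3 : 2 ∣ Nat.card G := h2 ▸ orderOf_dvd_natCard x
  have := hne.of_dvd_nat h3
  exact absurd this (by decide)

end Cfsg.Agent.S0239
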