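import Cfsg.Statements.S0240
import Mathlib
import Cfsg.Agent.Lib.H2.Pairs

set_option autoImplicit false
open Cfsg

namespace Cfsg.Agent.S0240

open Cfsg.Agent.Lib.H2

theorem card_sq_one {G : Type*} [Group G] [Finite G] :
    Nat.card {t : G // t * t = 1} = Nat.card {t : G // orderOf t = 2} + 1 := by
  have e : {t : G | t * t = 1} = insert 1 {t : G | orderOf t = 2} := by
    ext g
    simp only [Set.mem_ofPred_eq, Set.mem_insert_iff]
    rw [orderOf_two_iff]
    constructor
    · intro h
      by_cases hg : g = 1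
      · exact Or.inl hg
      · exact Or.inr ⟨h, hg⟩
    · rintro (rfl | ⟨h, -⟩)
      · simp
      · exact h
  have h1n : (1 : G) ∉ {t : G | orderOf t = 2} := by simp
  change Nat.card ↥{t : G | t * t = 1} = Nat.card ↥{t : G | orderOf t = 2} + 1
  rw [Nat.card_coe_set_eq, Nat.card_coe_set_eq, e, Set.ncard_insert_of_notMem h1n (Set.toFinite _)]

/-- Let G be a finite group with n involutions and H a subgroup with |H|·(n+1) > |G|. Then some nontrivial h ∈ H is strongly real in G: an involution t of G satisfies t h t⁻¹ = h⁻¹. -/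
theorem result {G : Type*} [Group G] [Finite G] (H : Subgroup G) (hH : Nat.card G < Nat.card H * (Nat.card {t : G // orderOf t = 2} + 1)) : ∃ h : G, h ∈ H ∧ h ≠ 1 ∧ ∃ t : G, orderOf t = 2 ∧ t * h * t⁻¹ = h⁻¹ := by
  classical
  have := Fintype.ofFinite G
  rw [← card_sq_one, ← H.card_mul_index] at hH
  have hlt : H.index < Nat.card {t : G // t * t = 1} := lt_of_mul_lt_mul_left hH (Nat.zero_le _)
  rw [Subgroup.index_eq_card, Nat.card_eq_fintype_card, Nat.card_eq_fintype_card] at hlt
  obtain ⟨⟨s, hs⟩, ⟨t, ht⟩, hne, heq⟩ := Fintype.exists_ne_map_eq_of_card_lt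
    (fun t : {t : G // t * t = 1} => (QuotientGroup.mk t.1 : G ⧸ H)) hlt
  simp only at heq
  rw [QuotientGroup.eq] at heq
  have hne' : s ≠ t := fun h => hne (Subtype.ext h)
  have hsi : s⁻¹ = s := inv_eq_of_mul_eq_one_right hs
  have hti : t⁻¹ = t := inv_eq_of_mul_eq_one_right ht
  rw [hsi] at heq
  have hst1 : s * t ≠ 1 := by
    intro h
    apply hne'
    calc s = s⁻¹ := hsi.symm
      _ = t := (eq_inv_of_mul_eq_one_right h).symm
  refine ⟨s * t, heq, hst1, ?_⟩
  by_cases hs1 : s = 1
  · -- then t is an involution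
    subst hs1
    have hto : orderOf t = 2 := orderOf_two_iff.2 ⟨ht, fun h => hne' h.symm⟩
    refine ⟨t, hto, ?_⟩
    rw [one_mul, hti, mul_assoc, ht, mul_one]
  · have hso : orderOf s = 2 := orderOf_two_iff.2 ⟨hs, hs1⟩
    refine ⟨s, hso, ?_⟩
    rw [mul_inv_rev, hsi, hti, ← mul_assoc, hs, one_mul]

end Cfsg.Agent.S0240
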