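import Cfsg.Statements.S0241
import Mathlib
import Cfsg.Agent.Lib.H2.Real

set_option autoImplicit false
open Cfsg

namespace Cfsg.Agent.S0241

open Cfsg.Agent.Lib.H2

/-- If x ≠ 1 is conjugate to x⁻¹ in a finite group G and |C_G(x)| is odd, then some involution t satisfies t x t⁻¹ = x⁻¹. -/
theorem result {G : Type*} [Group G] [Finite G] (x : G) (hx : x ≠ 1) (hreal : IsConj x x⁻¹) (hodd : Odd (Nat.card (Subgroup.centralizer ({x} : Set G)))) : ∃ t : G, orderOf t = 2 ∧ t * x * t⁻¹ = x⁻¹ := by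
  obtain ⟨g, hg⟩ := isConj_iff.1 hreal
  -- x⁻¹ ≠ x, otherwise x is an involution in C(x)
  have hxx : x⁻¹ ≠ x := by
    intro h
    have hx2 : x ^ 2 = 1 := by
      rw [pow_two]; nth_rewrite 1 [← h]; exact inv_mul_cancel x
    have h2 : orderOf x = 2 := by
      have : Fact (Nat.Prime 2) := ⟨Nat.prime_two⟩
      exact orderOf_eq_prime hx2 hx
    have hxC : x ∈ Subgroup.centralizer ({x} : Set G) := by
      rw [Subgroup.mem_centralizer_iff]; intro h hh; rw [Set.mem_singleton_iff] at hh; rw [hh]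
    have h3 : orderOf (⟨x, hxC⟩ : Subgroup.centralizer ({x} : Set G)) = 2 := by
      rw [← h2]; exact Subgroup.orderOf_mk x hxC
    have h4 : 2 ∣ Nat.card (Subgroup.centralizer ({x} : Set G)) := h3 ▸ orderOf_dvd_natCard _
    exact absurd (hodd.of_dvd_nat h4) (by decide)
  -- decompose the order of g
  have hgpos : orderOf g ≠ 0 := (orderOf_pos g).ne'
  obtain ⟨a, b, hb, hab⟩ := Nat.exists_eq_two_pow_mul_odd hgpos
  obtain ⟨j, hj⟩ := hb
  set t := g ^ b with ht
  have htinv : t * x * t⁻¹ = x⁻¹ := by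
    rw [ht, hj]; exact inverts_odd_pow_of_inverts hg j
  have htpow : t ^ (2 ^ a) = 1 := by
    rw [ht, ← pow_mul, mul_comm, ← hab, pow_orderOf_eq_one]
  -- t^2 ∈ C(x) with 2-power order, so trivial
  have htC : t ^ 2 ∈ Subgroup.centralizer ({x} : Set G) := by
    rw [Subgroup.mem_centralizer_iff]; intro h hh; rw [Set.mem_singleton_iff] at hh; rw [hh]
    exact ((commute_sq_of_inverts htinv).eq).symm
  have ht2 : t ^ 2 = 1 := by
    have h5 : orderOf (t ^ 2) ∣ 2 ^ a := by
      apply orderOf_dvd_of_pow_eq_one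
      rw [← pow_mul, mul_comm, pow_mul, htpow, one_pow]
    have h6 : orderOf (t ^ 2) ∣ Nat.card (Subgroup.centralizer ({x} : Set G)) := by
      have := orderOf_dvd_natCard (⟨t ^ 2, htC⟩ : Subgroup.centralizer ({x} : Set G))
      rwa [Subgroup.orderOf_mk] at this
    have h7 : Odd (orderOf (t ^ 2)) := hodd.of_dvd_nat h6
    obtain ⟨c, -, hc⟩ := (Nat.dvd_prime_pow Nat.prime_two).1 h5
    rcases c with _ | c
    · simpa using hc
    · rw [hc] at h7
      exact absurd h7 (by rw [Nat.not_odd_iff_even]; exact ⟨2 ^ c, by ring⟩)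
  have ht1 : t ≠ 1 := by
    intro h
    rw [h] at htinv
    simp at htinv
    exact hxx htinv.symm
  refine ⟨t, ?_, htinv⟩
  have : Fact (Nat.Prime 2) := ⟨Nat.prime_two⟩
  exact orderOf_eq_prime ht2 ht1

end Cfsg.Agent.S0241
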