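import Cfsg.Statements.S0244
import Mathlib

set_option autoImplicit false
open Cfsg

namespace Cfsg.Agent.S0244

open Matrix

theorem det_sum_one {R : Type*} [CommRing R] (A : Matrix (Fin 1 ⊕ Fin 1) (Fin 1 ⊕ Fin 1) R) :
    A.det = A (Sum.inl 0) (Sum.inl 0) * A (Sum.inr 0) (Sum.inr 0) -
      A (Sum.inl 0) (Sum.inr 0) * A (Sum.inr 0) (Sum.inl 0) := by
  have h := Matrix.det_reindex_self (finSumFinEquiv : Fin 1 ⊕ Fin 1 ≃ Fin (1 + 1)) A
  rw [← h]
  have h2 := Matrix.det_fin_two (Matrix.reindex finSumFinEquiv finSumFinEquiv A : Matrix (Fin 2) (Fin 2) R)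
  rw [h2]
  have e0 : (finSumFinEquiv : Fin 1 ⊕ Fin 1 ≃ Fin (1 + 1)).symm (0 : Fin 2) = Sum.inl 0 := by decide
  have e1 : (finSumFinEquiv : Fin 1 ⊕ Fin 1 ≃ Fin (1 + 1)).symm (1 : Fin 2) = Sum.inr 0 := by decide
  simp only [Matrix.reindex_apply, Matrix.submatrix_apply, e0, e1]

/-- Sp_2 = SL_2: a matrix on Fin 1 ⊕ Fin 1 lies in Mathlib's symplectic group iff its determinant is 1. -/
theorem result {R : Type*} [CommRing R] (A : Matrix (Fin 1 ⊕ Fin 1) (Fin 1 ⊕ Fin 1) R) : A ∈ Matrix.symplecticGroup (Fin 1) R ↔ A.det = 1 := by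
  constructor
  · exact SymplecticGroup.det_eq_one
  · intro h
    rw [det_sum_one] at h
    rw [← Matrix.fromBlocks_toBlocks A, SymplecticGroup.fromBlocks_mem_iff]
    refine ⟨?_, ?_, ?_⟩
    · ext i j
      rw [Subsingleton.elim i 0, Subsingleton.elim j 0]
      simp [Matrix.mul_apply, Matrix.toBlocks₁₁, Matrix.toBlocks₂₁, mul_comm]
    · ext i j
      rw [Subsingleton.elim i 0, Subsingleton.elim j 0]
      simp [Matrix.mul_apply, Matrix.toBlocks₁₂, Matrix.toBlocks₂₂, mul_comm]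
    · ext i j
      rw [Subsingleton.elim i 0, Subsingleton.elim j 0]
      simp [Matrix.mul_apply, Matrix.toBlocks₁₁, Matrix.toBlocks₂₁, Matrix.toBlocks₁₂, Matrix.toBlocks₂₂]
      linear_combination h

end Cfsg.Agent.S0244
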