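import Mathlib
import Cfsg.Statements.S0247
import Cfsg.Agent.S0245

set_option autoImplicit false
open Cfsg

namespace Cfsg.Agent.S0247

open Matrix Equiv

section Construction

variable (F : Type*) [Field F]

def e₁ : Fin 6 → F := ![1, 1, 0, 0, 0, 0]
def f₁ : Fin 6 → F := ![0, 1, 1, 0, 0, 0]
def e₂ : Fin 6 → F := ![0, 0, 0, 1, 1, 0]
def f₂ : Fin 6 → F := ![0, 0, 0, 0, 1, 1]
def dd : Fin 6 → F := ![1, 1, 1, 0, 0, 0]
def one6 : Fin 6 → F := fun _ => 1

/-- the columns are a symplectic basis of (even weight vectors)/(all-ones vector) -/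
def L : Matrix (Fin 6) (Fin 2 ⊕ Fin 2) F :=
  Matrix.of fun i k => Sum.elim ![e₁ F i, e₂ F i] ![f₁ F i, f₂ F i] k

/-- the rows are the dual basis -/
def R : Matrix (Fin 2 ⊕ Fin 2) (Fin 6) F :=
  Matrix.of fun k i => Sum.elim ![f₁ F i, f₂ F i] ![e₁ F i, e₂ F i] k

variable {F}

/-- permuting the rows -/
def act {κ : Type*} (σ : Perm (Fin 6)) (M : Matrix (Fin 6) κ F) : Matrix (Fin 6) κ F :=
  M.submatrix (⇑σ⁻¹) id

variable (F) in
def phi (σ : Perm (Fin 6)) : Matrix (Fin 2 ⊕ Fin 2) (Fin 2 ⊕ Fin 2) F :=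
  R F * act σ (L F)

theorem act_act {κ : Type*} (σ τ : Perm (Fin 6)) (M : Matrix (Fin 6) κ F) :
    act σ (act τ M) = act (σ * τ) M := by
  ext i j
  simp [act, _root_.mul_inv_rev]

theorem act_one {κ : Type*} (M : Matrix (Fin 6) κ F) : act 1 M = M := by
  ext i j
  simp [act]

theorem act_mul {κ μ : Type*} [Fintype κ] (σ : Perm (Fin 6)) (M : Matrix (Fin 6) κ F)
    (N : Matrix κ μ F) : act σ M * N = act σ (M * N) := by
  ext i j
  simp [act, Matrix.mul_apply]

theorem act_sub {κ : Type*} (σ : Perm (Fin 6)) (M N : Matrix (Fin 6) κ F) :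
    act σ (M - N) = act σ M - act σ N := by
  ext i j
  simp [act]

theorem act_vecMulVec {κ : Type*} (σ : Perm (Fin 6)) (w : κ → F) :
    act σ (vecMulVec (one6 F) w) = vecMulVec (one6 F) w := by
  ext i j
  simp [act, vecMulVec_apply, one6]

theorem act_gram {κ : Type*} (σ : Perm (Fin 6)) (M : Matrix (Fin 6) κ F) :
    (act σ M)ᵀ * act σ M = Mᵀ * M := by
  ext i j
  simp only [Matrix.mul_apply, Matrix.transpose_apply, act, Matrix.submatrix_apply, id]
  exact Equiv.sum_comp σ⁻¹ (fun k => M k i * M k j)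

theorem one_vecMul_act {κ : Type*} (σ : Perm (Fin 6)) (M : Matrix (Fin 6) κ F) :
    one6 F ᵥ* act σ M = one6 F ᵥ* M := by
  ext j
  simp only [Matrix.vecMul, dotProduct, act, Matrix.submatrix_apply, id, one6, one_mul]
  exact Equiv.sum_comp σ⁻¹ (fun k => M k j)

variable (h2 : (2 : F) = 0)
include h2

theorem R_mul_L : R F * L F = 1 := by
  ext i j
  rcases i with i | i <;> rcases j with j | j <;> fin_cases i <;> fin_cases j <;>
    simp [R, L, e₁, e₂, f₁, f₂, Matrix.mul_apply, Fin.sum_univ_succ] <;>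
    linear_combination h2

theorem R_mulVec_one : R F *ᵥ one6 F = 0 := by
  ext i
  rcases i with i | i <;> fin_cases i <;>
    simp [R, one6, e₁, e₂, f₁, f₂, Matrix.mulVec, dotProduct, Fin.sum_univ_succ] <;>
    linear_combination h2

theorem one_vecMul_L : one6 F ᵥ* L F = 0 := by
  ext i
  rcases i with i | i <;> fin_cases i <;>
    simp [L, one6, e₁, e₂, f₁, f₂, Matrix.vecMul, dotProduct, Fin.sum_univ_succ] <;>
    linear_combination h2

theorem L_gram : (L F)ᵀ * L F = J (Fin 2) F := by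
  ext i j
  rw [Matrix.mul_apply]
  rcases i with i | i <;> rcases j with j | j <;> fin_cases i <;> fin_cases j <;>
    simp [L, J, e₁, e₂, f₁, f₂, Fin.sum_univ_succ] <;>
    linear_combination h2

theorem one_dot_one : one6 F ⬝ᵥ one6 F = 0 := by
  simp [one6, dotProduct]
  linear_combination 3 * h2

/-- expansion of an even vector in the basis -/
theorem expand_vec (x : Fin 6 → F) (hx : ∑ i, x i = 0) :
    x = L F *ᵥ (R F *ᵥ x) + (dd F ⬝ᵥ x) • one6 F := by
  rw [Fin.sum_univ_six] at hx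
  ext i
  have key : (L F *ᵥ (R F *ᵥ x)) i
      = ∑ k, L F i k * ∑ j, R F k j * x j := rfl
  rw [Pi.add_apply, key, Pi.smul_apply]
  fin_cases i <;>
    simp [L, R, dd, one6, e₁, e₂, f₁, f₂, dotProduct, Fin.sum_univ_succ,
      Fintype.sum_sum_type]
  · linear_combination (-(x 1 + x 2)) * h2
  · linear_combination (-(x 0 + x 1 + x 2)) * h2
  · linear_combination (-(x 0 + x 1)) * h2
  · linear_combination x 3 * h2 - hx
  · linear_combination - hx
  · linear_combination x 5 * h2 - hx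

theorem expand_mat {κ : Type*} (M : Matrix (Fin 6) κ F) (hM : one6 F ᵥ* M = 0) :
    L F * (R F * M) = M - vecMulVec (one6 F) (dd F ᵥ* M) := by
  rw [eq_sub_iff_add_eq]
  ext i j
  have hx : ∑ k, M k j = 0 := by
    have := congr_fun hM j
    simpa [Matrix.vecMul, dotProduct, one6] using this
  have := congr_fun (expand_vec h2 (fun k => M k j) hx) i
  have a1 : (L F * (R F * M)) i j = (L F *ᵥ (R F *ᵥ fun k => M k j)) i := rfl
  have a2 : (dd F ᵥ* M) j = dd F ⬝ᵥ fun k => M k j := rfl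
  rw [Matrix.add_apply, a1, vecMulVec_apply, a2]
  rw [Pi.add_apply, Pi.smul_apply, smul_eq_mul] at this
  rw [mul_comm (one6 F i)]
  exact this.symm

theorem phi_mul (σ τ : Perm (Fin 6)) : phi F (σ * τ) = phi F σ * phi F τ := by
  unfold phi
  rw [Matrix.mul_assoc, act_mul, expand_mat h2 _ (by rw [one_vecMul_act, one_vecMul_L h2]),
    act_sub, act_act, act_vecMulVec, Matrix.mul_sub, Matrix.mul_vecMulVec, R_mulVec_one h2]
  simp

theorem phi_one : phi F 1 = 1 := by
  unfold phi
  rw [act_one, R_mul_L h2]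

theorem phi_mem (σ : Perm (Fin 6)) : phi F σ ∈ symplecticGroup (Fin 2) F := by
  rw [SymplecticGroup.mem_iff']
  have hN : one6 F ᵥ* act σ (L F) = 0 := by rw [one_vecMul_act, one_vecMul_L h2]
  have h1 : L F * phi F σ = act σ (L F) - vecMulVec (one6 F) (dd F ᵥ* act σ (L F)) :=
    expand_mat h2 _ hN
  have h3 : (phi F σ)ᵀ * J (Fin 2) F * phi F σ = (L F * phi F σ)ᵀ * (L F * phi F σ) := by
    rw [← L_gram h2, Matrix.transpose_mul]
    simp only [Matrix.mul_assoc]
  rw [h3, h1, ← L_gram h2, ← act_gram σ (L F)]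
  set N := act σ (L F) with hNdef
  set w := dd F ᵥ* N
  rw [Matrix.transpose_sub, Matrix.sub_mul, Matrix.mul_sub, Matrix.mul_sub]
  have e1 : Nᵀ * vecMulVec (one6 F) w = 0 := by
    rw [Matrix.mul_vecMulVec, Matrix.mulVec_transpose, hN]
    simp
  have e2 : (vecMulVec (one6 F) w)ᵀ * N = 0 := by
    rw [Matrix.transpose_vecMulVec, Matrix.vecMulVec_mul, hN]
    simp
  have e3 : (vecMulVec (one6 F) w)ᵀ * vecMulVec (one6 F) w = 0 := by
    rw [Matrix.transpose_vecMulVec, Matrix.vecMulVec_mul_vecMulVec, one_dot_one h2]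
    simp
  rw [e1, e2, e3]
  simp

end Construction

end Cfsg.Agent.S0247

namespace Cfsg.Agent.S0247

open Matrix Equiv

section Final

variable {F : Type*} [Field F]

def phiHom (h2 : (2 : F) = 0) : Perm (Fin 6) →* symplecticGroup (Fin 2) F where
  toFun σ := ⟨phi F σ, phi_mem h2 σ⟩
  map_one' := Subtype.ext (phi_one h2)
  map_mul' σ τ := Subtype.ext (phi_mul h2 σ τ)

theorem phi_entry (σ : Perm (Fin 6)) :
    phi F σ (Sum.inr 1) (Sum.inr 0) = f₁ F (σ⁻¹ 3) + f₁ F (σ⁻¹ 4) := by
  unfold phi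
  rw [Matrix.mul_apply, Fin.sum_univ_six]
  simp [act, R, L, e₂]

def cc : Perm (Fin 6) := swap 0 1 * swap 2 3

theorem cc_mem : cc ∈ alternatingGroup (Fin 6) := by
  rw [Equiv.Perm.mem_alternatingGroup]
  decide

theorem phi_cc_ne (h2 : (2 : F) = 0) : phiHom h2 cc ≠ 1 := by
  intro h
  have h' : phi F cc = 1 := congrArg Subtype.val h
  have h3 : phi F cc (Sum.inr 1) (Sum.inr 0) = 0 := by
    rw [h']; simp
  rw [phi_entry] at h3
  have c3 : cc⁻¹ 3 = 2 := by decide
  have c4 : cc⁻¹ 4 = 4 := by decide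
  rw [c3, c4] at h3
  simp [f₁] at h3

theorem phiHom_injective (h2 : (2 : F) = 0) : Function.Injective (phiHom h2) := by
  rw [← MonoidHom.ker_eq_bot_iff]
  by_contra hne
  have hnt : Nontrivial (phiHom h2).ker := by
    rw [Subgroup.nontrivial_iff_ne_bot]; exact hne
  have hle := Equiv.Perm.alternatingGroup_le_of_normal (α := Fin 6) (by simp) hnt
  have := hle cc_mem
  rw [MonoidHom.mem_ker] at this
  exact phi_cc_ne h2 this

end Final

theorem result {F : Type*} [Field F] [Fintype F] (hF : Fintype.card F = 2) : Nonempty (Matrix.symplecticGroup (Fin 2) F ≃* Equiv.Perm (Fin 6)) := by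
  have h2 : (2 : F) = 0 := by
    have := Nat.cast_card_eq_zero F
    rw [hF] at this
    exact_mod_cast this
  have hcard : Nat.card (symplecticGroup (Fin 2) F) = Nat.card (Perm (Fin 6)) := by
    rw [Cfsg.Agent.S0245.result hF 2]
    simp [Finset.prod_range_succ, Nat.card_eq_fintype_card, Fintype.card_perm]
    decide
  have hbij : Function.Bijective (phiHom h2) := by
    have : Finite (symplecticGroup (Fin 2) F) := inferInstance
    rw [Nat.bijective_iff_injective_and_card]
    exact ⟨phiHom_injective h2, hcard.symm⟩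
  exact ⟨(MulEquiv.ofBijective (phiHom h2) hbij).symm⟩

end Cfsg.Agent.S0247
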