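import Mathlib
import Cfsg.Statements.S0251
import Cfsg.Agent.Lib.H2.PSLCard
import Cfsg.Agent.Lib.H2.ActIso

set_option autoImplicit false
open Cfsg

namespace Cfsg.Agent.S0251

open scoped LinearAlgebra.Projectivization

/-- PSL_2(3) is isomorphic to A_4. -/
theorem result {F : Type*} [Field F] [Fintype F] (hF : Fintype.card F = 3) : Nonempty (Matrix.ProjectiveSpecialLinearGroup (Fin 2) F ≃* alternatingGroup (Fin 4)) := by
  have hfin : Finite (ℙ F (Fin 2 → F)) := by
    rw [Projectivization.finite_iff_of_finite F]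
    infer_instance
  apply Cfsg.Agent.Lib.H2.nonempty_mulEquiv_alternating_of_card (X := ℙ F (Fin 2 → F)) 4
  · rw [Cfsg.Agent.Lib.H2.card_projLine, hF]
  · have h := Cfsg.Agent.Lib.H2.card_PSL2_mul (F := F)
    rw [hF] at h
    norm_num at h
    rw [h]
    rfl

end Cfsg.Agent.S0251
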