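import Mathlib
import Cfsg.Statements.S0264
import Cfsg.Agent.Lib.H2.GLComm

set_option autoImplicit false
open Cfsg

namespace Cfsg.Agent.S0264

open Matrix

theorem small_case {F : Type*} [Field F] (n : ℕ) (hn : n ≤ 1) :
    commutator (Matrix.GeneralLinearGroup (Fin n) F) = (Matrix.GeneralLinearGroup.det : Matrix.GeneralLinearGroup (Fin n) F →* Fˣ).ker := by
  apply le_antisymm
  · exact Abelianization.commutator_subset_ker _
  · intro A hA
    have hA1 : A = 1 := by
      rw [MonoidHom.mem_ker] at hA
      have hdet : (A : Matrix (Fin n) (Fin n) F).det = 1 := by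
        have := congrArg Units.val hA
        simpa using this
      apply Units.ext
      ext i j
      interval_cases n
      · exact i.elim0
      · have hi : i = 0 := Subsingleton.elim _ _
        have hj : j = 0 := Subsingleton.elim _ _
        subst hi hj
        rw [Matrix.det_fin_one] at hdet
        simp [hdet]
    rw [hA1]
    exact one_mem _

/-- GL_n(F)' = SL_n(F) (as the kernel of det), for every field F and every n, except n = 2 over the field of two elements. -/
theorem result {F : Type*} [Field F] (n : ℕ) (h : n = 2 → ∃ a : F, a ≠ 0 ∧ a ≠ 1) : commutator (Matrix.GeneralLinearGroup (Fin n) F) = (Matrix.GeneralLinearGroup.det : Matrix.GeneralLinearGroup (Fin n) F →* Fˣ).ker := by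
  rcases Nat.lt_or_ge n 2 with h1 | h1
  · exact small_case n (by omega)
  · rcases Nat.eq_or_lt_of_le h1 with h2 | h2
    · obtain ⟨a, ha, ha1⟩ := h h2.symm
      have : Nontrivial (Fin n) := by
        rw [← Fintype.one_lt_card_iff_nontrivial]; simp; omega
      exact Cfsg.Agent.Lib.H2.commutator_GL_eq_ker_det_of_exists a ha ha1
    · exact Cfsg.Agent.Lib.H2.commutator_GL_eq_ker_det_of_three_le (by simp; omega)

end Cfsg.Agent.S0264
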