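import Cfsg.Statements.S0275
import Mathlib
import Cfsg.Agent.S0274
import Cfsg.Agent.Lib.H2.SL2Quat

set_option autoImplicit false
open Cfsg

namespace Cfsg.Agent.S0275

open Cfsg.Agent.Lib.H22

/-- generalized quaternion groups are not cyclic -/
theorem quaternion_not_isCyclic (n : ℕ) (hn : 2 ≤ n) : ¬ IsCyclic (QuaternionGroup n) := by
  intro h
  have hc := h.commutative.is_comm.comm (QuaternionGroup.a (1 : ZMod (2 * n))) (QuaternionGroup.xa 0)
  rw [QuaternionGroup.a_mul_xa, QuaternionGroup.xa_mul_a] at hc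
  have h1 : (0 : ZMod (2 * n)) - 1 = 0 + 1 := by
    injection hc
  have h2 : ((2 : ℕ) : ZMod (2 * n)) = 0 := by
    push_cast
    linear_combination -h1
  rw [ZMod.natCast_eq_zero_iff] at h2
  have := Nat.le_of_dvd (by norm_num) h2
  omega

/-- If p is odd and H is a subgroup of SL_2(q), q a power of p, with more than one Sylow p-subgroup, then the Sylow 2-subgroups of H are generalised quaternion. -/
theorem result {F : Type*} [Field F] [Fintype F] (p : ℕ) [Fact p.Prime] [CharP F p] (hp : p ≠ 2) (H : Subgroup (Matrix.SpecialLinearGroup (Fin 2) F)) (hH : 1 < Nat.card (Sylow p H)) (S : Sylow 2 H) : ∃ k : ℕ, 1 ≤ k ∧ Nonempty ((S : Subgroup H) ≃* QuaternionGroup (2 ^ k)) := by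
  have hpp : p.Prime := Fact.out
  have hpodd : Odd p := hpp.odd_of_ne_two hp
  have h2 : (2 : F) ≠ 0 := by
    intro h
    have h' : ((2 : ℕ) : F) = 0 := by exact_mod_cast h
    rw [CharP.cast_eq_zero_iff F p] at h'
    exact hp ((Nat.prime_dvd_prime_iff_eq hpp Nat.prime_two).mp h')
  have : Fact (Nat.Prime 2) := ⟨Nat.prime_two⟩
  have hU : AtMostOneOrderP 2 ↥(S : Subgroup H) :=
    (Cfsg.Agent.Lib.H2.SL2Quat.atMostOne h2 H).subgroup (S : Subgroup H)
  rcases cyclic_or_quaternion_of_atMostOne S.isPGroup' hU with hcyc | hq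
  · exfalso
    obtain ⟨K, hKH, ⟨e⟩⟩ := Cfsg.Agent.S0274.result p hp H hH
    have hcard : Odd (Fintype.card (ZMod p)) := by rw [ZMod.card]; exact hpodd
    obtain ⟨T⟩ : Nonempty (Sylow 2 (Matrix.SpecialLinearGroup (Fin 2) (ZMod p))) := inferInstance
    obtain ⟨k, hk, ⟨eT⟩⟩ := Cfsg.Agent.Lib.H2.SL2Quat.main hcard T
    -- the embedding of `T` into `H`
    let ψ : ↥(T : Subgroup (Matrix.SpecialLinearGroup (Fin 2) (ZMod p))) →* ↥H :=
      (Subgroup.inclusion hKH).comp (e.symm.toMonoidHom.comp (Subgroup.subtype _))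
    have hψ : Function.Injective ψ := by
      intro a b hab
      have h1 := Subgroup.inclusion_injective hKH hab
      have h2 := e.symm.injective h1
      exact Subtype.ext h2
    have hR : IsPGroup 2 ψ.range := by
      have : IsPGroup 2 ↥(T : Subgroup (Matrix.SpecialLinearGroup (Fin 2) (ZMod p))) := T.isPGroup'
      exact this.of_equiv (MonoidHom.ofInjective hψ)
    obtain ⟨Q, hQ⟩ := hR.exists_le_sylow
    have hQc : IsCyclic ↥(Q : Subgroup H) := by
      have eQ : ↥(S : Subgroup H) ≃* ↥(Q : Subgroup H) := Sylow.equiv S Q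
      exact isCyclic_of_surjective eQ eQ.surjective
    have hRc : IsCyclic ψ.range := by
      have : IsCyclic ↥((ψ.range).subgroupOf (Q : Subgroup H)) := Subgroup.isCyclic _
      exact isCyclic_of_surjective (Subgroup.subgroupOfEquivOfLe hQ) (Subgroup.subgroupOfEquivOfLe hQ).surjective
    have hTc : IsCyclic (QuaternionGroup (2 ^ k)) := by
      let f : ψ.range ≃* QuaternionGroup (2 ^ k) := (MonoidHom.ofInjective hψ).symm.trans eT
      exact isCyclic_of_surjective f f.surjective
    refine quaternion_not_isCyclic (2 ^ k) ?_ hTc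
    calc 2 = 2 ^ 1 := by norm_num
      _ ≤ 2 ^ k := Nat.pow_le_pow_right (by norm_num) hk
  · exact hq

end Cfsg.Agent.S0275
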