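import Mathlib
import Cfsg.Statements.S0307
import Cfsg.Agent.Lib.H2.CyclicQuot

set_option autoImplicit false
open Cfsg

namespace Cfsg.Agent.S0307

open Matrix Matrix.ProjGenLinGroup

/-- PSL_n(q) is normal in PGL_n(q) with cyclic quotient of order gcd(n, q-1): the image of the natural map PSL_n → PGL_n is the kernel of a surjective homomorphism onto the cyclic group of that order. -/
theorem result {F : Type*} [Field F] [Fintype F] {q : ℕ} (hF : Fintype.card F = q) (n : ℕ) (hn : 1 ≤ n) : ∃ g : Matrix.ProjGenLinGroup (Fin n) F →* Multiplicative (ZMod (Nat.gcd n (q - 1))), Function.Surjective g ∧ g.ker = (Matrix.ProjectiveSpecialLinearGroup.toPGL : Matrix.ProjectiveSpecialLinearGroup (Fin n) F →* Matrix.ProjGenLinGroup (Fin n) F).range := by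
  have hne : Nonempty (Fin n) := ⟨⟨0, hn⟩⟩
  have hcardU : Nat.card Fˣ = q - 1 := by
    rw [Nat.card_units, Nat.card_eq_fintype_card, hF]
  have key : ∀ N : ℕ, Nat.card Fˣ = N →
      ∃ ψ : Fˣ →* Multiplicative (ZMod (Nat.gcd n N)), Function.Surjective ψ ∧
        (∀ x : Fˣ, ψ (x ^ n) = 1) ∧ ∀ u : Fˣ, ψ u = 1 → ∃ x : Fˣ, x ^ n = u := by
    intro N hN
    subst hN
    exact Cfsg.Agent.Lib.H2.exists_hom_zmod_gcd Fˣ n
  obtain ⟨ψ, hψsurj, hψpow, hψker⟩ := key (q - 1) hcardU
  -- the homomorphism on GL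
  let φ : GL (Fin n) F →* Multiplicative (ZMod (Nat.gcd n (q - 1))) :=
    ψ.comp Matrix.GeneralLinearGroup.det
  have hcenter : Subgroup.center (GL (Fin n) F) ≤ φ.ker := by
    rw [Matrix.GeneralLinearGroup.center_eq_range_scalar]
    rintro _ ⟨u, rfl⟩
    rw [MonoidHom.mem_ker]
    show ψ (Matrix.GeneralLinearGroup.det (Matrix.GeneralLinearGroup.scalar (Fin n) u)) = 1
    have : Matrix.GeneralLinearGroup.det (Matrix.GeneralLinearGroup.scalar (Fin n) u) = u ^ n := by
      apply Units.ext
      simp [Matrix.GeneralLinearGroup.scalar]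
    rw [this]
    exact hψpow u
  let g : Matrix.ProjGenLinGroup (Fin n) F →* Multiplicative (ZMod (Nat.gcd n (q - 1))) :=
    QuotientGroup.lift (Subgroup.center (GL (Fin n) F)) φ hcenter
  have hg_mk : ∀ A : GL (Fin n) F, g (mk A) = ψ (Matrix.GeneralLinearGroup.det A) := fun A => rfl
  refine ⟨g, ?_, ?_⟩
  · intro y
    obtain ⟨u, hu⟩ := hψsurj y
    obtain ⟨A, hA⟩ := Matrix.GeneralLinearGroup.det_surjective (n := Fin n) u
    exact ⟨mk A, by rw [hg_mk, hA, hu]⟩
  · ext x
    induction x using Matrix.ProjGenLinGroup.induction_on with | mk A =>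
    rw [MonoidHom.mem_ker, hg_mk]
    constructor
    · intro h
      obtain ⟨r, hr⟩ := hψker _ h
      -- scale `A` by `r⁻¹`
      have hdet : ((r⁻¹ : Fˣ) : F) ^ n * (A : Matrix (Fin n) (Fin n) F).det = 1 := by
        have h1 : (A : Matrix (Fin n) (Fin n) F).det = (r : F) ^ n := by
          have := congrArg Units.val hr
          simpa using this.symm
        rw [h1, ← mul_pow, Units.inv_mul, one_pow]
      have hdet' : (((r⁻¹ : Fˣ) : F) • (A : Matrix (Fin n) (Fin n) F)).det = 1 := by
        rw [Matrix.det_smul, Fintype.card_fin]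
        exact hdet
      let B : Matrix.SpecialLinearGroup (Fin n) F :=
        ⟨((r⁻¹ : Fˣ) : F) • (A : Matrix (Fin n) (Fin n) F), hdet'⟩
      refine ⟨(QuotientGroup.mk B : Matrix.ProjectiveSpecialLinearGroup (Fin n) F), ?_⟩
      rw [show Matrix.ProjectiveSpecialLinearGroup.toPGL
        (QuotientGroup.mk B : Matrix.ProjectiveSpecialLinearGroup (Fin n) F) =
        mk (Matrix.SpecialLinearGroup.toGL B) from rfl, mk_eq_mk_iff]
      refine ⟨r, Units.ext ?_⟩
      simp only [Units.val_mul, Matrix.SpecialLinearGroup.coe_GL_coe_matrix,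
        Matrix.GeneralLinearGroup.coe_scalar]
      ext i j
      simp [Matrix.mul_apply, Matrix.diagonal_apply, mul_comm, mul_assoc]
      show (r : F) * (((r⁻¹ : Fˣ) : F) * (A : Matrix (Fin n) (Fin n) F) i j) = _
      rw [← mul_assoc, Units.mul_inv, one_mul]
    · rintro ⟨y, hy⟩
      induction y using QuotientGroup.induction_on with | H B =>
      rw [show Matrix.ProjectiveSpecialLinearGroup.toPGL
        (QuotientGroup.mk B : Matrix.ProjectiveSpecialLinearGroup (Fin n) F) =
        mk (Matrix.SpecialLinearGroup.toGL B) from rfl, mk_eq_mk_iff] at hy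
      obtain ⟨u, hu⟩ := hy
      rw [← hu, map_mul]
      have h1 : Matrix.GeneralLinearGroup.det (Matrix.SpecialLinearGroup.toGL B) = 1 :=
        Matrix.SpecialLinearGroup.coeToGL_det B
      have h2 : Matrix.GeneralLinearGroup.det (Matrix.GeneralLinearGroup.scalar (Fin n) u) =
          u ^ n := by
        apply Units.ext
        simp [Matrix.GeneralLinearGroup.scalar]
      rw [h1, h2, one_mul]
      exact hψpow u

end Cfsg.Agent.S0307
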