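import Mathlib
import Cfsg.Statements.S0313
import Cfsg.Agent.Lib.H2.BN4

set_option autoImplicit false
open Cfsg

namespace Cfsg.Agent.S0313

/-- Two standard parabolic subgroups of a group with a (B,N)-pair which are conjugate in `G` coincide. -/
theorem result {G : Type*} [Group G] (P : Cfsg.BNPair G) {J K : Set G}
    (hJ : J ⊆ P.S) (hK : K ⊆ P.S) (g : G)
    (h : (P.parabolic J).map (MulAut.conj g).toMonoidHom = P.parabolic K) :
    P.parabolic J = P.parabolic K := by
  have hBJ : P.B ≤ P.parabolic J := le_sup_left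
  have hBK : P.B ≤ P.parabolic K := le_sup_left
  have hg : g ∈ P.parabolic K := by
    apply Cfsg.Agent.Lib.H2.BN.mem_of_conj_le' (P := P) (P.parabolic K) hBK
    intro b hb
    rw [← h]
    exact ⟨b, hBJ hb, by simp [MulAut.conj_apply]⟩
  ext x
  constructor
  · intro hx
    have h1 : g * x * g⁻¹ ∈ P.parabolic K := by
      rw [← h]
      exact ⟨x, hx, by simp [MulAut.conj_apply]⟩
    have e : x = g⁻¹ * (g * x * g⁻¹) * g := by group
    rw [e]
    exact mul_mem (mul_mem (inv_mem hg) h1) hg
  · intro hx
    have h1 : g * x * g⁻¹ ∈ (P.parabolic J).map (MulAut.conj g).toMonoidHom := by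
      rw [h]
      exact mul_mem (mul_mem hg hx) (inv_mem hg)
    obtain ⟨y, hy, hy'⟩ := h1
    have : y = x := by
      simp only [MulEquiv.toMonoidHom_eq_coe, MonoidHom.coe_coe, MulAut.conj_apply] at hy'
      have := congrArg (fun z => g⁻¹ * z * g) hy'
      simpa [mul_assoc] using this
    rw [← this]
    exact hy

end Cfsg.Agent.S0313
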