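import Mathlib
import Cfsg.Statements.S0316
import Cfsg.Agent.Lib.H2.BN5

set_option autoImplicit false
open Cfsg

namespace Cfsg.Agent.S0316

open Cfsg.Agent.Lib.H2.BN

theorem image_subset {G : Type*} [Group G] (P : Cfsg.BNPair G) (J : Set P.S) :
    Subtype.val '' J ⊆ P.S := by
  rintro _ ⟨s, _, rfl⟩
  exact s.2

theorem le_iff {G : Type*} [Group G] (P : Cfsg.BNPair G) (J K : Set P.S) :
    P.parabolic (Subtype.val '' J) ≤ P.parabolic (Subtype.val '' K) ↔ J ≤ K := by
  constructor
  · intro h s hs
    have := subset_of_parabolic_le (image_subset P J) (image_subset P K) h ⟨s, hs, rfl⟩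
    obtain ⟨t, ht, hts⟩ := this
    rw [← Subtype.val_injective hts]
    exact ht
  · intro h
    exact parabolic_mono (Set.image_mono h)

/-- The map `J ↦ P_J` is a lattice isomorphism from the power set of the set of distinguished generators onto the
subgroups containing `B`. -/
theorem result {G : Type*} [Group G] (P : Cfsg.BNPair G) :
    ∃ e : Set P.S ≃o {M : Subgroup G // P.B ≤ M},
      ∀ J : Set P.S, ((e J : {M : Subgroup G // P.B ≤ M}) : Subgroup G) = P.parabolic (Subtype.val '' J) := by
  let f : Set P.S → {M : Subgroup G // P.B ≤ M} :=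
    fun J => ⟨P.parabolic (Subtype.val '' J), le_sup_left⟩
  have hf : ∀ J K, f J ≤ f K ↔ J ≤ K := fun J K => le_iff P J K
  have hinj : Function.Injective f := by
    intro J K hJK
    apply le_antisymm
    · exact (hf J K).1 hJK.le
    · exact (hf K J).1 hJK.ge
  have hsurj : Function.Surjective f := by
    rintro ⟨M, hM⟩
    refine ⟨{s : P.S | (s : G) ∈ M}, ?_⟩
    apply Subtype.ext
    show P.parabolic (Subtype.val '' {s : P.S | (s : G) ∈ M}) = M
    have : Subtype.val '' {s : P.S | (s : G) ∈ M} = {s | s ∈ P.S ∧ s ∈ M} := by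
      ext x
      constructor
      · rintro ⟨s, hs, rfl⟩
        exact ⟨s.2, hs⟩
      · rintro ⟨hx, hxM⟩
        exact ⟨⟨x, hx⟩, hxM, rfl⟩
    rw [this]
    exact (eq_parabolic_of_le M hM).symm
  refine ⟨{ toEquiv := Equiv.ofBijective f ⟨hinj, hsurj⟩, map_rel_iff' := ?_ }, ?_⟩
  · intro J K
    exact hf J K
  · intro J
    rfl

end Cfsg.Agent.S0316
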