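import Mathlib
import Cfsg.Statements.S0321
import Cfsg.Agent.Lib.H2.BN5

set_option autoImplicit false
open Cfsg

namespace Cfsg.Agent.S0321

open Cfsg.Agent.Lib.H2.BN

/-- elements of the subgroup generated by `s` are in `B` or equivalent to `s` -/
theorem closure_singleton_cases {G : Type*} [Group G] (P : Cfsg.BNPair G) {s : G} (hs : s ∈ P.S)
    {m : G} (hm : m ∈ Subgroup.closure {s}) : m ∈ P.N ∧ (m ∈ P.B ∨ Eqv P s m) := by
  have hsN : s ∈ P.N := S_mem_N hs
  induction hm using Subgroup.closure_induction with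
  | mem x hx =>
    rw [Set.mem_singleton_iff] at hx
    subst hx
    exact ⟨hsN, Or.inr (Eqv.refl _)⟩
  | one => exact ⟨P.N.one_mem, Or.inl P.B.one_mem⟩
  | mul x y _ _ hx hy =>
    obtain ⟨hxN, hx⟩ := hx
    obtain ⟨hyN, hy⟩ := hy
    refine ⟨P.N.mul_mem hxN hyN, ?_⟩
    rcases hx with hx | hx
    · rcases hy with hy | hy
      · exact Or.inl (P.B.mul_mem hx hy)
      · right
        have h1 : s⁻¹ * x * s ∈ P.B := T_conj' hsN hx hxN
        have e : s⁻¹ * (x * y) = (s⁻¹ * x * s) * (s⁻¹ * y) := by group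
        rw [Eqv, e]
        exact P.B.mul_mem h1 hy
    · rcases hy with hy | hy
      · right
        have e : s⁻¹ * (x * y) = (s⁻¹ * x) * y := by group
        rw [Eqv, e]
        exact P.B.mul_mem hx hy
      · left
        exact (Eqv.mul hsN hxN hsN hx hy).mem_B (S_sq hs)
  | inv x _ hx =>
    obtain ⟨hxN, hx⟩ := hx
    refine ⟨P.N.inv_mem hxN, ?_⟩
    rcases hx with hx | hx
    · exact Or.inl (P.B.inv_mem hx)
    · exact Or.inr ((S_eqv_inv hs).trans (hx.inv hsN hxN))

/-- For `n ∈ N` not in `B`, the union `B ∪ B n B` is (the underlying set of) a subgroup exactly when `n` agrees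
modulo `B ⊓ N` with one of the distinguished representatives; thus the distinguished involutions are
determined by `B` and `N`. -/
theorem result {G : Type*} [Group G] (P : Cfsg.BNPair G) {n : G}
    (hn : n ∈ P.N) (hnB : n ∉ P.B) :
    (∃ H : Subgroup G, (H : Set G) = (P.B : Set G) ∪ DoubleCoset.doubleCoset n (P.B : Set G) P.B) ↔ ∃ s ∈ P.S, s⁻¹ * n ∈ P.B := by
  constructor
  · rintro ⟨H, hH⟩
    have hBH : P.B ≤ H := by
      intro b hb
      have : b ∈ (H : Set G) := by rw [hH]; exact Or.inl hb
      exact this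
    have hnH : n ∈ H := by
      have : n ∈ (H : Set G) := by rw [hH]; exact Or.inr (mem_C_self n)
      exact this
    have hpar := eq_parabolic_of_le (P := P) H hBH
    have hne : ({s | s ∈ P.S ∧ s ∈ H} : Set G).Nonempty := by
      by_contra hcon
      rw [Set.not_nonempty_iff_eq_empty] at hcon
      rw [hcon] at hpar
      have : H = P.B := by
        rw [hpar, BNPair.parabolic, Subgroup.closure_empty, sup_bot_eq]
      exact hnB (this ▸ hnH)
    obtain ⟨s, hs, hsH⟩ := hne
    refine ⟨s, hs, ?_⟩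
    have h1 : s ∈ (P.B : Set G) ∪ DoubleCoset.doubleCoset n (P.B : Set G) P.B := by
      rw [← hH]; exact hsH
    rcases h1 with h1 | h1
    · exact absurd h1 (S_not_mem_B hs)
    · exact (eqv_of_mem_C hn (S_mem_N hs) h1).symm
  · rintro ⟨s, hs, hsn⟩
    have hC : C P s = C P n := Eqv.C_eq hsn
    refine ⟨P.parabolic {s}, ?_⟩
    have hJ : ({s} : Set G) ⊆ P.S := Set.singleton_subset_iff.2 hs
    ext g
    rw [SetLike.mem_coe, mem_parabolic_iff hJ]
    constructor
    · rintro ⟨m, hm, hg⟩
      obtain ⟨_, h | h⟩ := closure_singleton_cases P hs hm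
      · exact Or.inl ((mem_C_of_mem_B h).1 hg)
      · right
        show g ∈ C P n
        rw [← hC, h.C_eq]
        exact hg
    · rintro (h | h)
      · exact ⟨1, one_mem _, mem_C_one_iff.2 h⟩
      · refine ⟨s, Subgroup.subset_closure (Set.mem_singleton s), ?_⟩
        rw [hC]
        exact h

end Cfsg.Agent.S0321
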