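import Mathlib
import Cfsg.Statements.S0322
import Cfsg.Agent.Lib.H2.BN5
import Cfsg.Agent.S0321

set_option autoImplicit false
open Cfsg

namespace Cfsg.Agent.S0322

open Cfsg.Agent.Lib.H2.BN

/-- in rank one, `G = B ∪ B s B` -/
theorem rank_one_cases {G : Type*} [Group G] (P : Cfsg.BNPair G) (h : P.rank = 1) :
    ∃ s ∈ P.S, ∀ g : G, g ∈ P.B ∨ g ∈ C P s := by
  rw [BNPair.rank, Nat.card_eq_one_iff_unique] at h
  obtain ⟨hsub, ⟨⟨s, hs⟩⟩⟩ := h
  refine ⟨s, hs, fun g => ?_⟩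
  have hS : P.S = {s} := by
    ext x
    constructor
    · intro hx
      have := hsub.elim ⟨x, hx⟩ ⟨s, hs⟩
      exact congrArg Subtype.val this
    · intro hx
      rw [Set.mem_singleton_iff] at hx
      rw [hx]; exact hs
  have hg : g ∈ P.parabolic {s} := by
    rw [← hS, parabolic_S]; exact Subgroup.mem_top g
  obtain ⟨m, hm, hgm⟩ := (mem_parabolic_iff (Set.singleton_subset_iff.2 hs) g).1 hg
  obtain ⟨_, h1 | h1⟩ := Cfsg.Agent.S0321.closure_singleton_cases P hs hm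
  · exact Or.inl ((mem_C_of_mem_B h1).1 hgm)
  · right
    rw [h1.C_eq]
    exact hgm

/-- A group with a (B,N)-pair of rank one acts doubly transitively on the left cosets of `B`. -/
theorem result {G : Type*} [Group G] (P : Cfsg.BNPair G) (h : P.rank = 1) : MulAction.IsMultiplyPretransitive G (G ⧸ P.B) 2 := by
  obtain ⟨s, hs, hcases⟩ := rank_one_cases P h
  rw [MulAction.is_two_pretransitive_iff]
  intro a b c d hab hcd
  induction a using QuotientGroup.induction_on with | H x => ?_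
  induction b using QuotientGroup.induction_on with | H y => ?_
  induction c using QuotientGroup.induction_on with | H z => ?_
  induction d using QuotientGroup.induction_on with | H w => ?_
  have hxy : x⁻¹ * y ∉ P.B := fun hB => hab (QuotientGroup.eq.2 hB)
  have hzw : z⁻¹ * w ∉ P.B := fun hB => hcd (QuotientGroup.eq.2 hB)
  have h1 := (hcases (x⁻¹ * y)).resolve_left hxy
  have h2 := (hcases (z⁻¹ * w)).resolve_left hzw
  obtain ⟨b₁, hb₁, b₂, hb₂, e1⟩ := mem_C_iff.1 h1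
  obtain ⟨b₃, hb₃, b₄, hb₄, e2⟩ := mem_C_iff.1 h2
  refine ⟨z * b₃ * b₁⁻¹ * x⁻¹, ?_, ?_⟩
  · rw [MulAction.Quotient.smul_mk, QuotientGroup.eq]
    have : (z * b₃ * b₁⁻¹ * x⁻¹ * x)⁻¹ * z = b₁ * b₃⁻¹ := by group
    rw [smul_eq_mul, this]
    exact P.B.mul_mem hb₁ (P.B.inv_mem hb₃)
  · rw [MulAction.Quotient.smul_mk, QuotientGroup.eq]
    have : (z * b₃ * b₁⁻¹ * x⁻¹ * y)⁻¹ * w = (b₁⁻¹ * (x⁻¹ * y))⁻¹ * (b₃⁻¹ * (z⁻¹ * w)) := by group
    rw [smul_eq_mul, this, e1, e2]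
    have : (b₁⁻¹ * (b₁ * s * b₂))⁻¹ * (b₃⁻¹ * (b₃ * s * b₄)) = b₂⁻¹ * b₄ := by group
    rw [this]
    exact P.B.mul_mem (P.B.inv_mem hb₂) hb₄

end Cfsg.Agent.S0322
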