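import Mathlib
import Cfsg.Statements.S0323

set_option autoImplicit false
open scoped Pointwise
open Cfsg

namespace Cfsg.Agent.S0323

theorem mem_stab_pair {G Ω : Type*} [Group G] [MulAction G Ω] {x y : Ω} {g : G} :
    g ∈ MulAction.stabilizer G ({x, y} : Set Ω) ↔
      (g • x = x ∧ g • y = y) ∨ (g • x = y ∧ g • y = x) := by
  rw [MulAction.mem_stabilizer_iff, Set.smul_set_insert, Set.smul_set_singleton,
    Set.pair_eq_pair_iff]

/-- A doubly transitive action on a set with at least three points yields a (B,N)-pair of rank one: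
`B` is the stabiliser of a point `x`, `N` the setwise stabiliser of a pair `{x, y}`. -/
theorem result {G Ω : Type*} [Group G] [MulAction G Ω]
    (h2 : MulAction.IsMultiplyPretransitive G Ω 2) {x y z : Ω} (hxy : x ≠ y) (hyz : y ≠ z) (hxz : x ≠ z) :
    ∃ P : Cfsg.BNPair G, P.B = MulAction.stabilizer G x ∧
      P.N = MulAction.stabilizer G ({x, y} : Set Ω) ∧ P.rank = 1 := by
  rw [MulAction.is_two_pretransitive_iff] at h2
  obtain ⟨s, hsx, hsy⟩ := h2 hxy hxy.symm
  have hsix : s⁻¹ • x = y := by rw [← hsy, inv_smul_smul]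
  have hsiy : s⁻¹ • y = x := by rw [← hsx, inv_smul_smul]
  have hsN : s ∈ MulAction.stabilizer G ({x, y} : Set Ω) := mem_stab_pair.2 (Or.inr ⟨hsx, hsy⟩)
  -- Bruhat decomposition
  have bruhat : ∀ g : G, g ∈ MulAction.stabilizer G x ∨
      ∃ b ∈ MulAction.stabilizer G x, ∃ b' ∈ MulAction.stabilizer G x, g = b * s * b' := by
    intro g
    by_cases hg : g • x = x
    · exact Or.inl hg
    · right
      obtain ⟨b, hbx, hbw⟩ := h2 (Ne.symm hg) hxy
      refine ⟨b⁻¹, inv_mem hbx, s⁻¹ * b * g, ?_, by group⟩
      rw [MulAction.mem_stabilizer_iff, mul_smul, mul_smul, hbw, hsiy]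
  refine ⟨{ B := MulAction.stabilizer G x
            N := MulAction.stabilizer G ({x, y} : Set Ω)
            S := {s}
            sup_eq_top := ?_
            conj_mem := ?_
            subset := ?_
            sq_mem := ?_
            inj := ?_
            closure_sup := ?_
            mul_mem_union := ?_
            conj_ne := ?_ }, rfl, rfl, ?_⟩
  · -- sup_eq_top
    rw [eq_top_iff]
    intro g _
    rcases bruhat g with h | ⟨b, hb, b', hb', rfl⟩
    · exact (le_sup_left : MulAction.stabilizer G x ≤ _) h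
    · have h1 : MulAction.stabilizer G x ≤
          MulAction.stabilizer G x ⊔ MulAction.stabilizer G ({x, y} : Set Ω) := le_sup_left
      have h2' : MulAction.stabilizer G ({x, y} : Set Ω) ≤
          MulAction.stabilizer G x ⊔ MulAction.stabilizer G ({x, y} : Set Ω) := le_sup_right
      exact mul_mem (mul_mem (h1 hb) (h2' hsN)) (h1 hb')
  · -- conj_mem
    intro n hn t ht
    rw [Subgroup.mem_inf] at ht
    obtain ⟨htB, htN⟩ := ht
    rw [MulAction.mem_stabilizer_iff] at htB
    have hty : t • y = y := by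
      rcases mem_stab_pair.1 htN with h | h
      · exact h.2
      · exact absurd (htB.symm.trans h.1) hxy
    rw [MulAction.mem_stabilizer_iff, mul_smul, mul_smul]
    have hn' := mem_stab_pair.1 (inv_mem hn)
    rcases hn' with h | h
    · rw [h.1, htB]
      exact (inv_smul_eq_iff.1 h.1).symm
    · rw [h.1, hty]
      exact (inv_smul_eq_iff.1 h.1).symm
  · -- subset
    intro s' hs'
    rw [Set.mem_singleton_iff] at hs'
    rw [hs']
    exact hsN
  · -- sq_mem
    intro s' hs'
    rw [Set.mem_singleton_iff] at hs'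
    rw [hs', MulAction.mem_stabilizer_iff, mul_smul, hsx, hsy]
  · -- inj
    intro s₁ hs₁ s₂ hs₂ _
    rw [Set.mem_singleton_iff] at hs₁ hs₂
    rw [hs₁, hs₂]
  · -- closure_sup
    apply le_antisymm
    · apply sup_le
      · rw [Subgroup.closure_le, Set.singleton_subset_iff]
        exact hsN
      · exact inf_le_right
    · intro n hn
      rcases mem_stab_pair.1 hn with h | h
      · exact (le_sup_right : MulAction.stabilizer G x ⊓ MulAction.stabilizer G ({x, y} : Set Ω) ≤ _)
          (Subgroup.mem_inf.2 ⟨h.1, hn⟩)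
      · have h1 : s⁻¹ * n ∈ MulAction.stabilizer G x ⊓ MulAction.stabilizer G ({x, y} : Set Ω) := by
          refine Subgroup.mem_inf.2 ⟨?_, mul_mem (inv_mem hsN) hn⟩
          rw [MulAction.mem_stabilizer_iff, mul_smul, h.1, hsiy]
        have h2' : s ∈ Subgroup.closure ({s} : Set G) := Subgroup.subset_closure rfl
        have e : n = s * (s⁻¹ * n) := by group
        rw [e]
        exact mul_mem ((le_sup_left : Subgroup.closure ({s} : Set G) ≤ _) h2')
          ((le_sup_right : MulAction.stabilizer G x ⊓ MulAction.stabilizer G ({x, y} : Set Ω) ≤ _) h1)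
  · -- mul_mem_union
    intro s' hs' n hn b hb
    rw [Set.mem_singleton_iff] at hs'
    subst hs'
    rcases mem_stab_pair.1 hn with h | h
    · left
      have hnB : n ∈ MulAction.stabilizer G x := h.1
      exact DoubleCoset.mem_doubleCoset.2 ⟨1, one_mem _, n⁻¹ * b * n,
        mul_mem (mul_mem (inv_mem hnB) hb) hnB, by group⟩
    · have hsn : s' * n ∈ MulAction.stabilizer G x := by
        rw [MulAction.mem_stabilizer_iff, mul_smul, h.1, hsy]
      have hsin : s'⁻¹ * n ∈ MulAction.stabilizer G x := by
        rw [MulAction.mem_stabilizer_iff, mul_smul, h.1, hsiy]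
      rcases bruhat (s' * b * n) with hg | ⟨b₁, hb₁, b₂, hb₂, hg⟩
      · left
        exact DoubleCoset.mem_doubleCoset.2 ⟨s' * b * n * (s' * n)⁻¹,
          mul_mem hg (inv_mem hsn), 1, one_mem _, by group⟩
      · right
        refine DoubleCoset.mem_doubleCoset.2 ⟨b₁, hb₁, (s'⁻¹ * n)⁻¹ * b₂,
          mul_mem (inv_mem hsin) hb₂, ?_⟩
        rw [hg]
        group
  · -- conj_ne
    intro s' hs'
    rw [Set.mem_singleton_iff] at hs'
    subst hs'
    intro heq
    obtain ⟨b, hbx, hby⟩ := h2 hxy hxz
    have h1 : s' * b * s' ∈ (fun b : G => s' * b * s') '' (MulAction.stabilizer G x : Set G) :=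
      ⟨b, hbx, rfl⟩
    rw [heq] at h1
    have h3 : (s' * b * s') • x = x := h1
    rw [mul_smul, mul_smul, hsx, hby] at h3
    have h4 : z = y := by
      rw [← hsix, ← h3, inv_smul_smul]
    exact hyz h4.symm
  · -- rank
    show Nat.card ({s} : Set G) = 1
    simp

end Cfsg.Agent.S0323
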