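import Mathlib
import Cfsg.Statements.S0330
import Cfsg.Agent.Lib.H2.Sz9

set_option autoImplicit false
open Cfsg

namespace Cfsg.Agent.S0330

open Cfsg.Agent.Lib.H2.Sz

/-- A Sylow 2-subgroup `P` of the Suzuki group (field with `q = 2^(2m+1)` elements, `m ≥ 1`) has order `q²` and
exponent `4`; its centre coincides with its commutator subgroup and has order `q`. -/
theorem result {F : Type*} [Field F] [Fintype F] {m : ℕ} (hm : 1 ≤ m)
    (hF : Fintype.card F = 2 ^ (2 * m + 1)) (P : Sylow 2 (Cfsg.Sz F m)) :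
    Nat.card P = (2 ^ (2 * m + 1)) ^ 2 ∧ Monoid.exponent P = 4 ∧
      Subgroup.center P = commutator P ∧ Nat.card (Subgroup.center P) = 2 ^ (2 * m + 1) := by
  have h := fld_of_card hF
  have : Fact (Nat.Prime 2) := ⟨Nat.prime_two⟩
  have hfact : (Nat.card (Cfsg.Sz F m)).factorization 2 = 2 * (2 * m + 1) := by
    rw [card_Sz h hm hF]
    have hodd : ¬ 2 ∣ ((2 ^ (2 * m + 1)) ^ 2 + 1) * (2 ^ (2 * m + 1) - 1) := by
      rw [Nat.Prime.dvd_mul Nat.prime_two]
      rintro (h1 | h1)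
      · have : (2 ^ (2 * m + 1)) ^ 2 + 1 = 2 * (2 ^ (2 * m) * 2 ^ (2 * m + 1)) + 1 := by
          rw [pow_two, pow_succ (2 : ℕ) (2 * m)]
          ring
        omega
      · have h2 : 2 ^ (2 * m + 1) = 2 * 2 ^ (2 * m) := by rw [pow_succ]; ring
        have h3 : 0 < 2 ^ (2 * m) := by positivity
        omega
    have hne : ((2 ^ (2 * m + 1)) ^ 2 + 1) * (2 ^ (2 * m + 1) - 1) ≠ 0 := by
      intro h0
      exact hodd (h0 ▸ dvd_zero 2)
    have hq : (2 ^ (2 * m + 1)).factorization 2 = 2 * m + 1 := by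
      rw [Nat.factorization_pow, Finsupp.smul_apply, Nat.Prime.factorization_self Nat.prime_two]
      simp
    have hq0 : 2 ^ (2 * m + 1) ≠ 0 := by positivity
    generalize 2 ^ (2 * m + 1) = q at hq hq0 hodd hne ⊢
    rw [mul_assoc, Nat.factorization_mul (pow_ne_zero 2 hq0) hne, Finsupp.add_apply,
      Nat.factorization_pow, Finsupp.smul_apply, hq,
      Nat.factorization_eq_zero_of_not_dvd hodd]
    simp
  have hcardT : Nat.card (TS h) = 2 ^ (Nat.card (Cfsg.Sz F m)).factorization 2 := by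
    rw [hfact, card_TS h hF, ← pow_mul, mul_comm]
  let Q : Sylow 2 (Cfsg.Sz F m) := Sylow.ofCard (TS h) hcardT
  let e : P ≃* TS h := Sylow.equiv P Q
  refine ⟨?_, ?_, ?_, ?_⟩
  · rw [Nat.card_congr e.toEquiv, card_TS h hF]
  · rw [Monoid.exponent_eq_of_mulEquiv e, exponent_TS h]
  · exact center_eq_commutator_of_equiv e (center_TS_eq_commutator h hm hF)
  · rw [Nat.card_congr (Subgroup.centerCongr e).toEquiv, card_center_TS h hm hF]

end Cfsg.Agent.S0330
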