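import Mathlib
import Cfsg.Statements.S0332
import Cfsg.Agent.Lib.H2.Sz16

set_option autoImplicit false
open Cfsg

namespace Cfsg.Agent.S0332

open Cfsg.Agent.Lib.H2.Sz Matrix

theorem isNilpotent_of_comm {G : Type*} [Group G] (hc : ∀ a b : G, a * b = b * a) :
    Group.IsNilpotent G :=
  letI : CommGroup G := { (inferInstance : Group G) with mul_comm := hc }
  CommGroup.isNilpotent

/-- The Suzuki group is a CN-group: every non-identity element has nilpotent centraliser. -/
theorem result {F : Type*} [Field F] [Fintype F] {m : ℕ} (hm : 1 ≤ m)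
    (hF : Fintype.card F = 2 ^ (2 * m + 1)) : Cfsg.IsCNGroup (Cfsg.Sz F m) := by
  classical
  have h := fld_of_card hF
  intro g hg1
  have hg1' : (g : SpecialLinearGroup (Fin 4) F) ≠ 1 := fun h0 => hg1 (Subtype.ext h0)
  have hcases : CommC m (g : SpecialLinearGroup (Fin 4) F) ∨
      Exp4C m (g : SpecialLinearGroup (Fin 4) F) := by
    by_cases hfpf : Fpf m (g : SpecialLinearGroup (Fin 4) F)
    · exact Or.inl (commC_of_fpf h hm hF g.2 hfpf)
    · unfold Fpf at hfpf
      push Not at hfpf
      obtain ⟨p, hp, hfix⟩ := hfpf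
      exact cases_of_fix h hm hF g.2 hg1' hp hfix
  have hmem : ∀ c : Sz F m, c ∈ Subgroup.centralizer ({g} : Set (Sz F m)) →
      (c : SpecialLinearGroup (Fin 4) F) * g = g * c := by
    intro c hc
    rw [Subgroup.mem_centralizer_singleton_iff] at hc
    have := congrArg Subtype.val hc
    simpa using this
  rcases hcases with hC | hE
  · apply isNilpotent_of_comm
    rintro ⟨c, hc⟩ ⟨d, hd⟩
    apply Subtype.ext
    apply Subtype.ext
    exact hC c c.2 d d.2 (hmem c hc) (hmem d hd)
  · have : Fact (Nat.Prime 2) := ⟨Nat.prime_two⟩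
    apply IsPGroup.isNilpotent (p := 2)
    rintro ⟨c, hc⟩
    refine ⟨2, ?_⟩
    apply Subtype.ext
    apply Subtype.ext
    exact hE c c.2 (hmem c hc)

end Cfsg.Agent.S0332
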