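import Mathlib
import Cfsg.Statements.S0335
import Cfsg.Agent.Lib.H2.Sz7

set_option autoImplicit false
open Cfsg

namespace Cfsg.Agent.S0335

open Matrix Projectivization MulAction Cfsg.Agent.Lib.H2.Sz

/-- The Suzuki–Tits point set is an ovoid: any three distinct points of it are projectively independent
(no line of projective 3-space meets it in more than two points). -/
theorem result {F : Type*} [Field F] [Fintype F] {m : ℕ} (hm : 1 ≤ m)
    (hF : Fintype.card F = 2 ^ (2 * m + 1)) (p : Fin 3 ↪ Cfsg.suzukiOvoid F m) :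
    Projectivization.Independent (fun i => (p i : Projectivization F (Fin 4 → F))) := by
  have h := fld_of_card hF
  have h01 : (p 0 : Projectivization F (Fin 4 → F)) ≠ p 1 := fun e => by
    have := p.injective (Subtype.ext e)
    exact absurd this (by decide)
  have h02 : (p 0 : Projectivization F (Fin 4 → F)) ≠ p 2 := fun e => by
    have := p.injective (Subtype.ext e)
    exact absurd this (by decide)
  have h12 : (p 1 : Projectivization F (Fin 4 → F)) ≠ p 2 := fun e => by
    have := p.injective (Subtype.ext e)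
    exact absurd this (by decide)
  obtain ⟨g, hg, hg0, hg1⟩ := exists_move h (p 0).2 (p 1).2 h01
  -- the image of the third point
  have hg2 : ∃ x y : F, ¬ (x = 0 ∧ y = 0) ∧ g • (p 2 : Projectivization F (Fin 4 → F)) = pt m x y := by
    rcases (mem_ovoid_iff _).1 (smul_mem_of_mem_Sz hg (p 2).2) with h2 | ⟨x, y, h2⟩
    · exfalso
      rw [← hg0] at h2
      exact h02 (smul_left_cancel _ h2).symm
    · refine ⟨x, y, ?_, h2⟩
      rintro ⟨rfl, rfl⟩
      rw [← hg1] at h2
      exact h12 (smul_left_cancel _ h2).symm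
  obtain ⟨x, y, hxy, hg2⟩ := hg2
  rw [Projectivization.independent_iff]
  -- representatives
  set v : Fin 3 → Fin 4 → F := Projectivization.rep ∘ (fun i => (p i : Projectivization F (Fin 4 → F)))
    with hv
  have hv0 : ∀ i, v i ≠ 0 := fun i => Projectivization.rep_nonzero _
  have hmk : ∀ i, Projectivization.mk F (v i) (hv0 i) = p i := fun i => Projectivization.mk_rep _
  -- images of the representatives
  have key : ∀ (i : Fin 3) (w : Fin 4 → F) (hw : w ≠ 0),
      g • (p i : Projectivization F (Fin 4 → F)) = Projectivization.mk F w hw →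
      ∃ c : F, c ≠ 0 ∧ (g : Matrix (Fin 4) (Fin 4) F) *ᵥ v i = c • w := by
    intro i w hw hi
    rw [← hmk i, Projectivization.smul_mk, Projectivization.mk_eq_mk_iff'] at hi
    obtain ⟨c, hc⟩ := hi
    refine ⟨c, ?_, hc.symm⟩
    rintro rfl
    rw [zero_smul] at hc
    exact (smul_ne_zero_iff_ne g).mpr (hv0 i) hc.symm
  obtain ⟨c0, hc0, e0'⟩ := key 0 e0 e0_ne_zero hg0
  obtain ⟨c1, hc1, e1'⟩ := key 1 (pv m 0 0) (pv_ne_zero _ _) hg1
  obtain ⟨c2, hc2, e2'⟩ := key 2 (pv m x y) (pv_ne_zero _ _) hg2
  apply LinearIndependent.of_comp (Matrix.mulVecLin (g : Matrix (Fin 4) (Fin 4) F))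
  rw [Fintype.linearIndependent_iff]
  intro l hl
  rw [Fin.sum_univ_three] at hl
  simp only [Function.comp_apply, Matrix.mulVecLin_apply] at hl
  rw [e0', e1', e2'] at hl
  have q0 := congrFun hl 0
  have q1 := congrFun hl 1
  have q2 := congrFun hl 2
  have q3 := congrFun hl 3
  have hf0 : f m (0 : F) 0 = 0 := f_zero_zero
  simp [e0, pv, hf0] at q0 q1 q2 q3
  have l2 : l 2 = 0 := by
    by_contra hl2
    apply hxy
    constructor
    · rcases q2 with h3 | h3
      · exact absurd h3 hl2
      · rcases h3 with h4 | h4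
        · exact absurd h4 hc2
        · exact h4
    · rcases q1 with h3 | h3
      · exact absurd h3 hl2
      · rcases h3 with h4 | h4
        · exact absurd h4 hc2
        · exact h4
  rw [l2] at q0 q3
  simp at q0 q3
  have l0 : l 0 = 0 := q0.resolve_right hc0
  have l1 : l 1 = 0 := q3.resolve_right hc1
  intro i
  fin_cases i
  · exact l0
  · exact l1
  · exact l2

end Cfsg.Agent.S0335
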