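import Cfsg.Statements.S0339
import Cfsg.Agent.Lib.H2.Zass2

set_option autoImplicit false
open Cfsg

namespace Cfsg.Agent.S0339

open MulAction Cfsg.Agent.Lib.H2.Zass Cfsg.Agent.Lib.H2.FrobAct

/-- A non-trivial normal subgroup of a Zassenhaus group is itself a Zassenhaus group on the same set. -/
theorem result {G Ω : Type*} [Group G] [MulAction G Ω] [Finite Ω]
    (hZ : Cfsg.IsZassenhausGroup G Ω) (N : Subgroup G) [N.Normal] (hN : N ≠ ⊥) :
    Cfsg.IsZassenhausGroup N Ω := by
  have hNn : N.Normal := inferInstance
  have hP := pre_of_zassenhaus hZ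
  have hR := noReg_of_zassenhaus hZ
  have hfin := finite_of_pre hP
  have hN2 := normal_two_transitive hP hR N hN
  refine ⟨?_, ?_, ?_, ?_, ?_⟩
  · -- faithful
    refine ⟨fun {u v} h => ?_⟩
    apply Subtype.ext
    have h1 : ((u : G)⁻¹ * v) = 1 := by
      apply hP.faithful
      intro x
      have := h x
      rw [mul_smul, inv_smul_eq_iff]
      exact this.symm
    exact (inv_mul_eq_one.1 h1)
  · -- doubly transitive
    rw [is_two_pretransitive_iff]
    intro a b c d hab hcd
    obtain ⟨u, hu, h1, h2⟩ := hN2 a b c d hab hcd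
    exact ⟨⟨u, hu⟩, h1, h2⟩
  · -- three fixed points
    intro g a b c hab hbc hac ha hb hc
    exact Subtype.ext (hP.three (g : G) a b c hab hbc hac ha hb hc)
  · -- some element fixes two points
    by_contra hcon
    push Not at hcon
    have hfrob : IsFrobAct N (Set.univ : Set Ω) :=
      { inv := fun _ _ _ => Set.mem_univ _
        trans := by
          intro x _ y _
          obtain ⟨u, hu, huxy⟩ := normal_transitive hP N hN x y
          exact ⟨⟨u, hu⟩, huxy⟩
        stab_ne := by
          intro x _
          obtain ⟨u, hu, hu1, hux⟩ := exists_mem_ne_one_fix hP N hR hN x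
          exact ⟨⟨u, hu⟩, fun h => hu1 (congrArg Subtype.val h), hux⟩
        two := by
          intro x _ y _ hxy u hux huy
          by_contra hu
          exact hcon u hu x y hxy hux huy
        nontriv := by
          obtain ⟨p, q, r, hpq, -, -⟩ := exists_three hP
          exact ⟨p, Set.mem_univ _, q, Set.mem_univ _, hpq⟩ }
    obtain ⟨M, hMn, hMt, hMr⟩ := exists_regular_normal_of_frobAct hP N hfrob
    obtain ⟨b, u, hu, hu1, hub⟩ := hR M hMn hMt
    exact hu1 (hMr u hu b hub)
  · -- no regular normal subgroup
    intro M hM htr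
    by_contra hcon
    push Not at hcon
    have hreg : RegNormalIn N (M.map N.subtype) Ω :=
      { le := by
          rintro _ ⟨m, -, rfl⟩
          exact m.2
        norm := by
          rintro n hn _ ⟨m, hm, rfl⟩
          exact ⟨⟨n, hn⟩ * m * ⟨n, hn⟩⁻¹, hM.conj_mem m hm ⟨n, hn⟩, rfl⟩
        trans := by
          intro x y
          obtain ⟨g, hg⟩ := htr.exists_smul_eq x y
          exact ⟨((g : N) : G), ⟨(g : N), g.2, rfl⟩, hg⟩
        reg := by
          rintro _ ⟨m, hm, rfl⟩ x hx
          have h1 : (⟨m, hm⟩ : M) ∈ stabilizer M x := hx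
          rw [hcon x, Subgroup.mem_bot] at h1
          have h2 : m = 1 := congrArg Subtype.val h1
          rw [h2]
          rfl }
    have hnormal : (M.map N.subtype).Normal := by
      refine ⟨fun u hu g => ?_⟩
      have := regNormalIn_unique hP hN2 (hreg.conj g) hreg
      rw [← this]
      exact ⟨u, hu, rfl⟩
    obtain ⟨a, u, hu, hu1, hua⟩ := hR _ hnormal hreg.trans
    exact hu1 (hreg.reg u hu a hua)

end Cfsg.Agent.S0339
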