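import Cfsg.Statements.S0345
import Mathlib
import Cfsg.Agent.S0739
import Cfsg.Agent.S0740
import Cfsg.Agent.S0741
import Cfsg.Agent.Lib.H4.Idx2.Zas345

set_option autoImplicit false
open Cfsg

namespace Cfsg.Agent.S0345

open MulAction Cfsg.Agent.Lib.H2.Zass Cfsg.Agent.Lib.H4.Idx2 Cfsg.Agent.Lib.H4.Zas

/-- In a finite simple Zassenhaus group the stabiliser `H` of two points `a ≠ b` is cyclic, and some involution
interchanging `a` and `b` inverts every element of `H`. -/
theorem result {G Ω : Type*} [Group G] [Finite G] [MulAction G Ω] [Finite Ω]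
    (hZ : Cfsg.IsZassenhausGroup G Ω) [IsSimpleGroup G]
    {a b : Ω} (hab : a ≠ b) :
    IsCyclic ↥(MulAction.stabilizer G a ⊓ MulAction.stabilizer G b) ∧
      ∃ v : G, orderOf v = 2 ∧ v • a = b ∧ v • b = a ∧ ∀ h ∈ MulAction.stabilizer G a ⊓ MulAction.stabilizer G b, v * h * v⁻¹ = h⁻¹ := by
  classical
  haveI : Fintype Ω := Fintype.ofFinite Ω
  have hP := pre_of_zassenhaus hZ
  have hcard := Cfsg.Agent.Lib.H4.Zas.card_eq hP a b hab
  have h3 : 3 ≤ Nat.card Ω := by
    obtain ⟨x, y, z, hxy, hyz, hxz⟩ := exists_three hP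
    rw [Nat.card_eq_fintype_card]
    exact Fintype.two_lt_card_iff.2 ⟨x, y, z, hxy, hxz, hyz⟩
  have h3' : 3 ≤ Fintype.card Ω := by rwa [Nat.card_eq_fintype_card] at h3
  have hdpos : 0 < Nat.card ↥(stabilizer G a ⊓ stabilizer G b) := Nat.card_pos
  rcases Nat.even_or_odd (Nat.card ↥(stabilizer G a ⊓ stabilizer G b)) with heven | hodd
  · -- the even case
    have hd2 : 2 ≤ Nat.card ↥(stabilizer G a ⊓ stabilizer G b) := by
      obtain ⟨m, hm⟩ := heven
      omega
    have hd : 2 * Nat.card ↥(stabilizer G a ⊓ stabilizer G b) ≤ Fintype.card Ω - 2 := by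
      by_contra hd
      obtain ⟨M, hM⟩ := exists_index_two_of_large hP hab heven hd
      haveI : M.Normal := Subgroup.normal_of_index_eq_two hM
      rcases Subgroup.Normal.eq_bot_or_eq_top (inferInstance : M.Normal) with h | h
      · rw [h, Subgroup.index_bot] at hM
        rw [hM] at hcard
        have h4 : 3 * 2 * 2 ≤ Nat.card Ω * (Nat.card Ω - 1) *
            Nat.card ↥(stabilizer G a ⊓ stabilizer G b) :=
          Nat.mul_le_mul (Nat.mul_le_mul h3 (by omega)) hd2
        omega
      · rw [h, Subgroup.index_top] at hM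
        omega
    have h741 := Cfsg.Agent.S0741.result hZ hab heven
    have hΩ : Fintype.card Ω = 2 * Nat.card ↥(stabilizer G a ⊓ stabilizer G b) + 2 := by omega
    have hNatΩ : Nat.card Ω = 2 * Nat.card ↥(stabilizer G a ⊓ stabilizer G b) + 2 := by
      rw [Nat.card_eq_fintype_card]; exact hΩ
    have hevenΩ : Even (Fintype.card Ω) :=
      ⟨Nat.card ↥(stabilizer G a ⊓ stabilizer G b) + 1, by omega⟩
    obtain ⟨s, hs2, hsa, hsb, hsfix⟩ := (Cfsg.Agent.S0740.result hZ hab).2.2 hevenΩ heven
    have hss : s * s = 1 := by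
      rw [← pow_two, ← hs2]
      exact pow_orderOf_eq_one s
    obtain ⟨c, hc⟩ : ∃ c : Ω, s • c = c := by
      have h0 : 0 < Nat.card (fixedBy Ω s) := by rw [hsfix]; norm_num
      obtain ⟨⟨c, hc⟩⟩ := (Nat.card_pos_iff.1 h0).1
      exact ⟨c, hc⟩
    have hca : c ≠ a := by
      rintro rfl
      exact hab (hc.symm.trans hsa)
    have hcb : c ≠ b := by
      rintro rfl
      exact hab (hsb.symm.trans hc)
    have hinv : ∀ h : G, h • a = a → h • b = b → s * h * s⁻¹ = h⁻¹ := fun h ha hb =>
      conj_eq_inv hP hab hNatΩ hss hsa hsb hca hcb hc ha hb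
    obtain ⟨p, f, L, fld, fin, hp, hL, hΩp, hLd, ⟨C⟩⟩ := exists_coord hZ hab heven hd
    have hcyc' := Coord.isCyclic_stab C hP
    have hne : C.P none ≠ C.P (some 0) := fun e => by
      have := C.P.injective e
      simp at this
    obtain ⟨u, hua, hub⟩ := hP.two (C.P none) (C.P (some 0)) a b hne hab
    have e := conjStab₂ u hua hub
    refine ⟨isCyclic_of_surjective e.symm e.symm.surjective, s, hs2, hsa, hsb, ?_⟩
    intro h hh
    rw [Subgroup.mem_inf, mem_stabilizer_iff, mem_stabilizer_iff] at hh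
    exact hinv h hh.1 hh.2
  · -- the odd case
    have hnil : ∀ q : ℕ, q.Prime →
        q ∣ Nat.card ↥(MulAction.stabilizer G a ⊓ MulAction.stabilizer G b) →
        ¬ ∃ N : Subgroup G, N.Normal ∧ N.index = q ^ (Nat.card G).factorization q := by
      rintro q hq hqd ⟨N, hNn, hNidx⟩
      have hGpos : Nat.card G ≠ 0 := Nat.card_pos.ne'
      have hqG : q ∣ Nat.card G :=
        hqd.trans (Subgroup.card_subgroup_dvd_card _)
      rcases Subgroup.Normal.eq_bot_or_eq_top hNn with h | h
      · rw [h, Subgroup.index_bot] at hNidx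
        have h1 : Nat.card Ω ∣ q ^ (Nat.card G).factorization q := by
          rw [← hNidx, hcard, mul_assoc]; exact dvd_mul_right _ _
        have h2 : Nat.card Ω - 1 ∣ q ^ (Nat.card G).factorization q := by
          rw [← hNidx, hcard]
          exact (dvd_mul_left _ _).mul_right _
        obtain ⟨i, -, hi⟩ := (Nat.dvd_prime_pow hq).mp h1
        obtain ⟨j, -, hj⟩ := (Nat.dvd_prime_pow hq).mp h2
        have hi0 : i ≠ 0 := by
          rintro rfl
          rw [pow_zero] at hi
          omega
        have hj0 : j ≠ 0 := by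
          rintro rfl
          rw [pow_zero] at hj
          omega
        have hq1 : q ∣ Nat.card Ω := by rw [hi]; exact dvd_pow_self q hi0
        have hq2 : q ∣ Nat.card Ω - 1 := by rw [hj]; exact dvd_pow_self q hj0
        have hq3 : q ∣ 1 := by
          have := Nat.dvd_sub hq1 hq2
          rwa [Nat.sub_sub_self (by omega)] at this
        exact hq.one_lt.ne' (Nat.dvd_one.mp hq3)
      · rw [h, Subgroup.index_top] at hNidx
        have hk : (Nat.card G).factorization q = 0 := by
          by_contra hk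
          have : q ∣ q ^ (Nat.card G).factorization q := dvd_pow_self q hk
          rw [← hNidx] at this
          exact hq.one_lt.ne' (Nat.dvd_one.mp this)
        rcases (Nat.factorization_eq_zero_iff _ _).mp hk with h1 | h1 | h1
        · exact h1 hq
        · exact h1 hqG
        · exact hGpos h1
    obtain ⟨hcyc, -, hinv⟩ := Cfsg.Agent.S0739.result hZ hab hodd hnil
    obtain ⟨s, hs2, hsa, hsb⟩ := (Cfsg.Agent.S0740.result hZ hab).1
    exact ⟨hcyc, s, hs2, hsa, hsb, fun h hh => hinv s hsa hsb h hh⟩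

end Cfsg.Agent.S0345
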