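import Cfsg.Statements.S0885
import Cfsg.Agent.Lib.H8.ZasCohF
import Cfsg.Agent.Lib.H4.Feit.Reduce

set_option autoImplicit false
open Cfsg

namespace Cfsg.Agent.S0885

open Cfsg.Agent.Lib.H2.Zass Cfsg.Agent.Lib.H4.Zas Cfsg.Agent.Lib.H4.Feit

theorem commutator_index_congr {A B : Type*} [Group A] [Group B] (ψ : A ≃* B) :
    (commutator B).index = (commutator A).index := by
  have h1 : (commutator A).map ψ.toMonoidHom = commutator B := by
    rw [commutator_def, commutator_def, Subgroup.map_commutator,
      Subgroup.map_top_of_surjective _ ψ.surjective]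
  rw [← h1]
  exact Subgroup.index_map_equiv (commutator A) ψ

/-- Let G be a finite Zassenhaus group on Ω with h + 1 points whose two-point stabilizer E has odd order e, and let H be the subgroup of the stabilizer of a consisting of the identity and the elements fixing no point other than a (given here as a subgroup of the stabilizer of order one less than the number of points whose non-identity elements fix only a; it is the Frobenius kernel of the stabilizer). Then either h - 1 ≤ 2 * e, or H is a non-abelian 2-group whose commutator subgroup has index at most 4 * e ^ 2 + 1 in H. -/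
theorem result {G Ω : Type*} [Group G] [Finite G] [MulAction G Ω] [Fintype Ω] (hZ : Cfsg.IsZassenhausGroup G Ω) {a b : Ω} (hab : a ≠ b) (h e : ℕ) (hh : Fintype.card Ω = h + 1) (he : Nat.card ↥(MulAction.stabilizer G a ⊓ MulAction.stabilizer G b : Subgroup G) = e) (hodd : Odd e) (H : Subgroup G) (hHa : H ≤ MulAction.stabilizer G a) (hHcard : Nat.card H + 1 = Fintype.card Ω) (hHfix : ∀ u ∈ H, u ≠ 1 → ∀ c : Ω, u • c = c → c = a) : h - 1 ≤ 2 * e ∨ (IsPGroup 2 H ∧ (∃ u v : H, u * v ≠ v * u) ∧ (commutator H).index ≤ 4 * e ^ 2 + 1) := by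
  classical
  haveI : Fintype G := Fintype.ofFinite G
  have hP := pre_of_zassenhaus hZ
  have hR := noReg_of_zassenhaus hZ
  have hHker : IsKer H a := ⟨hHa, hHcard, hHfix⟩
  have hHK : H = K hP a := hHker.eq_K hP
  subst hHK
  obtain ⟨N, hNdef⟩ : ∃ N : Subgroup G, N = Subgroup.normalClosure (K hP a : Set G) := ⟨_, rfl⟩
  haveI hN : N.Normal := by
    rw [hNdef]
    exact Subgroup.normalClosure_normal
  have hKN : K hP a ≤ N := by
    rw [hNdef]
    exact Subgroup.subset_normalClosure
  have hn3 : 3 ≤ Nat.card Ω := Reduce.three_le_natCard hP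
  have hne : N ≠ ⊥ := by
    intro h0
    have h1 := card_K hP a
    have h2 : K hP a = ⊥ := by
      rw [eq_bot_iff, ← h0]
      exact hKN
    have h3 : Nat.card (⊥ : Subgroup G) = 1 := by simp
    rw [h2, h3] at h1
    omega
  have hgen : ∀ T : Subgroup G, (∀ c, K hP c ≤ T) → N ≤ T := by
    intro T hT
    rw [hNdef]
    exact Reduce.normalClosure_le_of_K_le hP a T hT
  have hP₀ := Reduce.pre_normal hP N hR hne
  have hR₀ := Reduce.noReg_normal hP N hR hne hgen
  haveI := Reduce.simple_normal hP N hR hne hgen
  have hZ₀ := Reduce.zassenhaus_of_pre hP₀ hR₀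
  haveI : Fintype N := Fintype.ofFinite N
  -- comparison of the two point stabilizers
  have hmem : ∀ g : N, g ∈ MulAction.stabilizer N a ⊓ MulAction.stabilizer N b ↔
      (g : G) ∈ MulAction.stabilizer G a ⊓ MulAction.stabilizer G b := by
    intro g
    rw [Subgroup.mem_inf, Subgroup.mem_inf, MulAction.mem_stabilizer_iff,
      MulAction.mem_stabilizer_iff, MulAction.mem_stabilizer_iff, MulAction.mem_stabilizer_iff]
    rfl
  let φ : ↥(MulAction.stabilizer N a ⊓ MulAction.stabilizer N b) →*
      ↥(MulAction.stabilizer G a ⊓ MulAction.stabilizer G b) :=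
    { toFun := fun g => ⟨((g : N) : G), (hmem g).1 g.2⟩
      map_one' := rfl
      map_mul' := fun _ _ => rfl }
  have hφ : Function.Injective φ := by
    intro x y hxy
    apply Subtype.ext
    apply Subtype.ext
    exact congrArg (fun z : ↥(MulAction.stabilizer G a ⊓ MulAction.stabilizer G b) => (z : G)) hxy
  have hdvd : Nat.card ↥(MulAction.stabilizer N a ⊓ MulAction.stabilizer N b) ∣
      Nat.card ↥(MulAction.stabilizer G a ⊓ MulAction.stabilizer G b) :=
    Subgroup.card_dvd_of_injective φ hφ
  rw [he] at hdvd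
  have hodd₀ : Odd (Nat.card ↥(MulAction.stabilizer N a ⊓ MulAction.stabilizer N b)) :=
    Odd.of_dvd_nat hodd hdvd
  have hS₀ := oddSimple_of hZ₀ hab hodd₀
  have hH₀ : IsKer ((K hP a).subgroupOf N) a :=
    { le := by
        intro u hu
        rw [MulAction.mem_stabilizer_iff]
        exact K_le_stabilizer hP a (Subgroup.mem_subgroupOf.1 hu)
      card := by
        rw [Nat.card_congr (Subgroup.subgroupOfEquivOfLe hKN).toEquiv, card_K hP a,
          Nat.card_eq_fintype_card]
      fix := by
        intro u hu hu1 c hc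
        by_contra hca
        apply hu1
        exact Subtype.ext (K_eq_one_of_fix hP a (Subgroup.mem_subgroupOf.1 hu) hca hc) }
  have hepos : 0 < e := by
    rw [← he]
    exact Nat.card_pos
  have hle : Nat.card ↥(MulAction.stabilizer N a ⊓ MulAction.stabilizer N b) ≤ e :=
    Nat.le_of_dvd hepos hdvd
  rcases Cfsg.Agent.Lib.H8.ZasCoh.simple_dichotomy hS₀ hH₀ hab with h1 | ⟨h2, h3, h4⟩
  · left
    omega
  · right
    set ψ : ↥((K hP a).subgroupOf N) ≃* ↥(K hP a) := Subgroup.subgroupOfEquivOfLe hKN with hψ
    refine ⟨h2.of_equiv ψ, ?_, ?_⟩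
    · obtain ⟨u, v, huv⟩ := h3
      refine ⟨ψ u, ψ v, fun h => huv (ψ.injective ?_)⟩
      rw [map_mul, map_mul, h]
    · rw [commutator_index_congr ψ]
      refine h4.trans ?_
      have : Nat.card ↥(MulAction.stabilizer N a ⊓ MulAction.stabilizer N b) ^ 2 ≤ e ^ 2 :=
        Nat.pow_le_pow_left hle 2
      omega

end Cfsg.Agent.S0885
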