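import Cfsg.Statements.S0346
import Cfsg.Agent.S0885
import Cfsg.Agent.S0741
import Cfsg.Agent.S0738

set_option autoImplicit false
open Cfsg

namespace Cfsg.Agent.S0346

open Cfsg.Agent.Lib.H2.Zass Cfsg.Agent.Lib.H4.Zas Cfsg.Agent.Lib.H4.Feit

/-- The number of points of a finite simple Zassenhaus group is `p^k + 1` for some prime power `p^k` (the regular normal
subgroup of a point stabiliser is a `p`-group). -/
theorem result {G Ω : Type*} [Group G] [Finite G] [MulAction G Ω] [Fintype Ω]
    (hZ : Cfsg.IsZassenhausGroup G Ω) [IsSimpleGroup G] :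
    IsPrimePow (Fintype.card Ω - 1) := by
  classical
  haveI : Fintype G := Fintype.ofFinite G
  have hP := pre_of_zassenhaus hZ
  obtain ⟨a, b, -, hab, -, -⟩ := exists_three hP
  have hcK := card_K hP a
  rw [Nat.card_eq_fintype_card (α := Ω)] at hcK
  have hn3 := three_le_card hP
  obtain ⟨e, he⟩ : ∃ e : ℕ, Nat.card ↥(MulAction.stabilizer G a ⊓ MulAction.stabilizer G b) = e :=
    ⟨_, rfl⟩
  -- the case of a large two point stabilizer
  have hlarge : Fintype.card Ω - 2 ≤ 2 * e → IsPrimePow (Fintype.card Ω - 1) := by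
    intro hd
    rw [← he] at hd
    have hFn : ((K hP a).subgroupOf (MulAction.stabilizer G a)).Normal := by
      constructor
      intro u hu g
      rw [Subgroup.mem_subgroupOf] at hu ⊢
      have h1 := Reduce.K_conj_smul hP a (g : G) hu
      have h2 : (g : G) • a = a := g.2
      rw [h2] at h1
      simpa using h1
    have hreg : ∀ y z : Ω, y ≠ a → z ≠ a → ∃! u : K hP a, (u : G) • y = z := by
      intro y z hy hz
      obtain ⟨u, hu, huy⟩ := K_transitive hP a hy hz
      refine ⟨⟨u, hu⟩, huy, ?_⟩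
      rintro ⟨v, hv⟩ hvy
      apply Subtype.ext
      exact K_eq_of_smul_eq hP a hv hu hy (hvy.trans huy.symm)
    obtain ⟨-, p, f, hp, -, hcard⟩ := Cfsg.Agent.S0738.result hZ hab hd (K hP a)
      (K_le_stabilizer hP a) hFn hreg
    rw [isPrimePow_nat_iff]
    refine ⟨p, f, hp, ?_, ?_⟩
    · rcases Nat.eq_zero_or_pos f with h0 | h0
      · rw [h0, pow_zero] at hcard
        omega
      · exact h0
    · omega
  rcases Nat.even_or_odd e with heven | hodd
  · apply hlarge
    rw [← he] at heven ⊢
    exact Cfsg.Agent.S0741.result hZ hab heven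
  · obtain ⟨h, hh⟩ : ∃ h : ℕ, Fintype.card Ω = h + 1 := ⟨Fintype.card Ω - 1, by omega⟩
    have hfix : ∀ u ∈ K hP a, u ≠ 1 → ∀ c : Ω, u • c = c → c = a := by
      intro u hu hu1 c hc
      by_contra hca
      exact hu1 (K_eq_one_of_fix hP a hu hca hc)
    rcases Cfsg.Agent.S0885.result hZ hab h e hh he hodd (K hP a) (K_le_stabilizer hP a) hcK hfix
      with h1 | ⟨h2, -, -⟩
    · apply hlarge
      omega
    · obtain ⟨k, hk⟩ := IsPGroup.iff_card.1 h2
      rw [isPrimePow_nat_iff]
      refine ⟨2, k, Nat.prime_two, ?_, ?_⟩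
      · rcases Nat.eq_zero_or_pos k with h0 | h0
        · rw [h0, pow_zero] at hk
          omega
        · exact h0
      · omega

end Cfsg.Agent.S0346
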