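import Mathlib
import Cfsg.Statements.S0390
import Cfsg.Agent.Lib.H27.Leech2

set_option autoImplicit false
open Cfsg

namespace Cfsg.Agent.S0390

open Cfsg.Agent.Lib.H27

/-- The set leechSet is the carrier of an additive subgroup (hence equals leechLattice). -/
theorem result : ∃ L : AddSubgroup (Cfsg.GolayPt → ℤ), (L : Set (Cfsg.GolayPt → ℤ)) = Cfsg.leechSet := by
  refine ⟨leechLattice, ?_⟩
  apply Set.Subset.antisymm
  · intro x hx
    obtain ⟨m, c, h⟩ := exists_leechDesc hx
    exact mem_leechSet_of_leechDesc h
  · exact AddSubgroup.subset_closure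

end Cfsg.Agent.S0390
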