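import Mathlib
import Cfsg.Statements.S0393
import Cfsg.Agent.Lib.H27.Leech4
import Cfsg.Agent.Lib.H27.GolayFacts

set_option autoImplicit false
open Cfsg

namespace Cfsg.Agent.S0393

open Cfsg.Agent.Lib.H27

/-- The lattice has index 2^36 in ℤ^24 (unimodular at scale 1/8). -/
theorem result : Cfsg.leechLattice.index = 2 ^ 36 := by
  have h := card_mul_index_leech golay_doubly_even
  rw [golay_card] at h
  have h2 : (2 : ℕ) ^ 48 = 2 ^ 12 * 2 ^ 36 := by norm_num
  rw [h2] at h
  exact Nat.eq_of_mul_eq_mul_left (by norm_num) h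

end Cfsg.Agent.S0393
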