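-- S0406 (helper27 architect): Conway's characterisation of the Leech lattice.  Blueprint tools/blueprints/S0406.md.
-- Pieces: helper1 (LCIncl, LCEq), helper4 (LCCode, LCShA), helper5 (LCOrth, LCPars), helper21 (LCShB), helper26 (LCShC),
-- helper29 (LCPack), helper27 (LCDefs, LCFrame, LCFront, AbstractCross, this file).
import Cfsg.Statements.S0406
import Cfsg.Agent.Lib.H1.LCIncl
import Cfsg.Agent.S0375
import Cfsg.Agent.Lib.H29.LCPack
import Cfsg.Agent.Lib.H5.LCOrth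
import Cfsg.Agent.Lib.H5.LCPars
import Cfsg.Agent.Lib.H4.LCCode
import Cfsg.Agent.Lib.H4.LCShA
import Cfsg.Agent.Lib.H26.LCShC
import Cfsg.Agent.Lib.H21.LCShB
import Cfsg.Agent.Lib.H1.LCEq
import Cfsg.Agent.Lib.H27.LCFrame
import Cfsg.Agent.Lib.H27.LCFront

set_option autoImplicit false
open Matrix
open Cfsg

namespace Cfsg.Agent.S0406

open Cfsg.Agent.Lib.H27.LC Cfsg.Agent.Lib.H29.LC Cfsg.Agent.Lib.H5.LC
  Cfsg.Agent.Lib.H4.LC Cfsg.Agent.Lib.H26.LC Cfsg.Agent.Lib.H21.LC Cfsg.Agent.Lib.H1.LC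

/-- the counting argument: the code has dimension 12 and there is an odd vector -/
theorem count_arith {Λ : AddSubgroup (Fin 24 → ℤ)} (h : LeechLike Λ)
    (hcount : {c : Fin 24 → ℤ | c ∈ Λ ∧ nrm c = 32}.ncard = 196560) :
    Module.finrank (ZMod 2) (codeOf Λ) = 12 ∧ ∃ c₀ ∈ Λ, ¬ (2 : ℤ) ∣ c₀ 0 := by
  classical
  set T : Set (Fin 24 → ℤ) := {c | c ∈ Λ ∧ nrm c = 32} with hT
  set SA : Set (Fin 24 → ℤ) := {c | nrm c = 32 ∧ ∀ i, (4 : ℤ) ∣ c i} with hSA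
  set SB : Set (Fin 24 → ℤ) :=
    {c | c ∈ Λ ∧ nrm c = 32 ∧ (∀ i, (2 : ℤ) ∣ c i) ∧ ∃ i, ¬ (4 : ℤ) ∣ c i} with hSB
  set SC : Set (Fin 24 → ℤ) := {c | c ∈ Λ ∧ nrm c = 32 ∧ ¬ (2 : ℤ) ∣ c 0} with hSC
  have hfin32 : {c : Fin 24 → ℤ | nrm c = 32}.Finite := finite_nrm_eq 32
  have hSAfin : SA.Finite := hfin32.subset fun c hc => hc.1
  have hSBfin : SB.Finite := hfin32.subset fun c hc => hc.2.1
  have hSCfin : SC.Finite := hfin32.subset fun c hc => hc.2.1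
  have hsub : T ⊆ SA ∪ SB ∪ SC := by
    rintro c ⟨hcΛ, hcn⟩
    by_cases h0 : (2 : ℤ) ∣ c 0
    · have hall : ∀ i, (2 : ℤ) ∣ c i := by
        intro i
        have := h.hpar c hcΛ i 0
        omega
      by_cases h4 : ∀ i, (4 : ℤ) ∣ c i
      · exact Or.inl (Or.inl ⟨hcn, h4⟩)
      · push_neg at h4
        exact Or.inl (Or.inr ⟨hcΛ, hcn, hall, h4⟩)
    · exact Or.inr ⟨hcΛ, hcn, h0⟩
  have h1 : T.ncard ≤ (SA ∪ SB ∪ SC).ncard :=
    Set.ncard_le_ncard hsub ((hSAfin.union hSBfin).union hSCfin)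
  have h2 : (SA ∪ SB ∪ SC).ncard ≤ SA.ncard + SB.ncard + SC.ncard :=
    le_trans (Set.ncard_union_le _ _) (Nat.add_le_add_right (Set.ncard_union_le _ _) _)
  have hA : SA.ncard ≤ 1104 := ncard_shapeA_le
  have hB := ncard_shapeB_le h
  have hC := ncard_shapeC_le h
  have hP := ncard_weight_eight_le (codeOf Λ) (fun w hw hw0 => eight_le_weight h hw hw0)
  have horth := dot_eq_zero_of_doubly_even (codeOf Λ) (fun w hw => four_dvd_weight h hw)
  have h12 := finrank_le_twelve (codeOf Λ) horth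
  have hcardC : Nat.card (codeOf Λ) = 2 ^ Module.finrank (ZMod 2) (codeOf Λ) := by
    rw [Nat.card_eq_fintype_card, Module.card_eq_pow_finrank (K := ZMod 2) (V := codeOf Λ)]
    simp
  rw [hcount] at h1
  have hSCpos : 98304 ≤ SC.ncard := by
    change SB.ncard ≤ 128 * _ at hB
    omega
  constructor
  · change SC.ncard ≤ 24 * _ at hC
    rw [hcardC] at hC
    have h12' := h12
    have : 4096 ≤ 2 ^ Module.finrank (ZMod 2) (codeOf Λ) := by omega
    by_contra hne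
    have hlt : Module.finrank (ZMod 2) (codeOf Λ) ≤ 11 := by omega
    have : 2 ^ Module.finrank (ZMod 2) (codeOf Λ) ≤ 2 ^ 11 := Nat.pow_le_pow_right (by norm_num) hlt
    omega
  · have hne : SC.Nonempty := by
      apply Set.nonempty_of_ncard_ne_zero
      omega
    obtain ⟨c₀, hc₀Λ, _, hodd⟩ := hne
    exact ⟨c₀, hc₀Λ, hodd⟩

/-- A rank-24 even lattice with no roots and the stated numbers of vectors of norms 4, 6, 8 is isomorphic to the Leech lattice. -/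
theorem result (B : Matrix (Fin 24) (Fin 24) ℤ) (hsymm : B.IsSymm) (hpos : ∀ x : Fin 24 → ℤ, x ≠ 0 → 0 < x ⬝ᵥ (B *ᵥ x)) (heven : ∀ x : Fin 24 → ℤ, (2 : ℤ) ∣ x ⬝ᵥ (B *ᵥ x)) (h2 : ∀ x : Fin 24 → ℤ, x ⬝ᵥ (B *ᵥ x) ≠ 2) (h4 : {x : Fin 24 → ℤ | x ⬝ᵥ (B *ᵥ x) = 4}.ncard = 196560) (h6 : {x : Fin 24 → ℤ | x ⬝ᵥ (B *ᵥ x) = 6}.ncard = 16773120) (h8 : {x : Fin 24 → ℤ | x ⬝ᵥ (B *ᵥ x) = 8}.ncard = 398034000) : ∃ f : (Fin 24 → ℤ) ≃+ Cfsg.leechLattice, ∀ x : Fin 24 → ℤ, Cfsg.sqNorm ((f x : Cfsg.leechLattice) : Cfsg.GolayPt → ℤ) = 8 * (x ⬝ᵥ (B *ᵥ x)) := by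
  classical
  obtain ⟨X, hX8, hX0, hXc⟩ := Cfsg.Agent.Lib.H27.LC.exists_frame B hsymm hpos heven h2 h4 h6 h8
  have hpars := parseval B hsymm X hX8 hX0
  set Λ : AddSubgroup (Fin 24 → ℤ) := (coord B X).range with hΛ
  have hLL : LeechLike Λ := leechLike_range B hsymm hpos heven h2 X hX8 hX0 hXc hpars
  have hcount : {c : Fin 24 → ℤ | c ∈ Λ ∧ nrm c = 32}.ncard = 196560 :=
    ncard_range_min B hpos X hpars h4
  obtain ⟨hdim, c₀, hc₀Λ, hodd⟩ := count_arith hLL hcount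
  have horth := dot_eq_zero_of_doubly_even (codeOf Λ) (fun w hw => four_dvd_weight hLL hw)
  have hno4 : ∀ w ∈ codeOf Λ, hammingNorm w ≠ 4 := by
    intro w hw h4'
    have hw0 : w ≠ 0 := by
      rintro rfl
      simp at h4'
    have := eight_le_weight hLL hw hw0
    omega
  obtain ⟨e, he⟩ := Cfsg.Agent.S0375.result (codeOf Λ) hdim horth
    (fun w hw => four_dvd_weight hLL hw) hno4
  set s : Fin 24 → ℤ := sgn c₀ with hs
  have hs1 : ∀ i, s i = 1 ∨ s i = -1 := sgn_eq c₀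
  have hsub : ∀ c ∈ Λ, tr e s c ∈ leechLattice := fun c hc =>
    AddSubgroup.subset_closure (tr_mem_leechSet hLL e he hc₀Λ hodd hc)
  have hinj := coord_injective B hpos X hpars
  let g : (Fin 24 → ℤ) →+ leechLattice :=
    { toFun := fun v => ⟨tr e s (coord B X v), hsub _ ⟨v, rfl⟩⟩
      map_zero' := by
        apply Subtype.ext
        simp [tr_zero]
      map_add' := fun v w => by
        apply Subtype.ext
        simp [tr_add] }
  have hg_inj : Function.Injective g := by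
    intro v w hvw
    have : tr e s (coord B X v) = tr e s (coord B X w) := congrArg Subtype.val hvw
    exact hinj (tr_injective e s hs1 this)
  have hg_surj : Function.Surjective g := by
    rintro ⟨x, hx⟩
    obtain ⟨c, ⟨v, rfl⟩, hc⟩ := exists_tr_eq e s hs1 hsub hcount x hx
    exact ⟨v, Subtype.ext hc⟩
  refine ⟨AddEquiv.ofBijective g ⟨hg_inj, hg_surj⟩, fun x => ?_⟩
  show sqNorm (tr e s (coord B X x)) = _
  rw [sqNorm_tr e s hs1, nrm_coord B X hpars]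

end Cfsg.Agent.S0406
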