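import Cfsg.Statements.S0420
import Cfsg.Agent.Lib.H1.M11U.LPfinal
import Cfsg.Agent.Lib.H14.M11RW
import Cfsg.Agent.Lib.H13.M11KACT
import Cfsg.Agent.Lib.H16.M11.End

set_option autoImplicit false
open scoped Pointwise
open Cfsg

namespace Cfsg.Agent.S0420

/-- Simple groups of order 7920 are all isomorphic to the concrete smallest Mathieu group. -/
theorem result {G : Type*} [Group G] [Finite G] (hG : Cfsg.IsM11 G) (d : Finset Cfsg.GolayPt) (hd : d ∈ Cfsg.dodecads) (p : Cfsg.GolayPt) (hp : p ∈ d) : Nonempty (G ≃* ↥(MulAction.stabilizer Cfsg.M24 d ⊓ MulAction.stabilizer Cfsg.M24 p)) := by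
  have h : Cfsg.Agent.Lib.H1.M11U.Hyp G :=
    Cfsg.Agent.Lib.H1.M11U.hyp_of_isM11' hG (Cfsg.Agent.Lib.H14.M11U.rank3_of_isM11 hG)
  obtain ⟨α, i1, i2, i3, hα, h4, hs⟩ := Cfsg.Agent.Lib.H1.M11U.act h
  obtain ⟨β, j1, j2, j3, hβ, h4', hs'⟩ := Cfsg.Agent.Lib.H13.M11.kact d hd p hp
  exact Cfsg.Agent.Lib.H16.M11.iso_of_sharply_four hα h4 hs hβ h4' hs'

end Cfsg.Agent.S0420
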