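import Mathlib
import Cfsg.Statements.S0430
import Cfsg.Agent.S0410
import Cfsg.Agent.Lib.H2.SRG100b
-- import your own Cfsg.Agent.* helpers here

set_option autoImplicit false
open Cfsg

namespace Cfsg.Agent.S0430

/-- Uniqueness of the strongly regular graph with parameters (100, 22, 0, 6). -/
theorem result {V W : Type*} [Fintype V] [Fintype W] {G : SimpleGraph V} {H : SimpleGraph W} [DecidableRel G.Adj] [DecidableRel H.Adj] (hG : G.IsSRGWith 100 22 0 6) (hH : H.IsSRGWith 100 22 0 6) : Nonempty (G ≃g H) := by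
  classical
  have hV : Nonempty V := by
    rw [← Fintype.card_pos_iff, hG.card]; norm_num
  have hW : Nonempty W := by
    rw [← Fintype.card_pos_iff, hH.card]; norm_num
  obtain ⟨v0⟩ := hV
  obtain ⟨w0⟩ := hW
  have e1 := Cfsg.Agent.Lib.H2.SRG100.isoPB hG (v0 := v0)
  have e2 := Cfsg.Agent.Lib.H2.SRG100.isoPB hH (v0 := w0)
  have hiso := Cfsg.Agent.S0410.result (Cfsg.Agent.Lib.H2.SRG100.card_Pt hG (v0 := v0))
    (Cfsg.Agent.Lib.H2.SRG100.card_Pt hH (v0 := w0))
    (Cfsg.Agent.Lib.H2.SRG100.steiner hG (v0 := v0))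
    (Cfsg.Agent.Lib.H2.SRG100.steiner hH (v0 := w0))
  obtain ⟨e3⟩ := Cfsg.Agent.Lib.H2.SRG100.pointBlock_iso hiso
  exact ⟨(e1.trans e3).trans e2.symm⟩

end Cfsg.Agent.S0430
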