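import Cfsg.Statements.S0436
import Mathlib

set_option autoImplicit false
open Cfsg

namespace Cfsg.Agent.S0436

theorem sq_one {G : Type*} [Group G] {E : Set G} (hE : Cfsg.IsThreeTranspositionSet E) {d : G}
    (hd : d ∈ E) : d * d = 1 := by
  have := pow_orderOf_eq_one d
  rw [hE.1 d hd, pow_two] at this; exact this

theorem inv_self {G : Type*} [Group G] {E : Set G} (hE : Cfsg.IsThreeTranspositionSet E) {d : G}
    (hd : d ∈ E) : d⁻¹ = d := inv_eq_of_mul_eq_one_right (sq_one hE hd)

/-- two non-commuting members satisfy the braid relation -/
theorem braid {G : Type*} [Group G] {E : Set G} (hE : Cfsg.IsThreeTranspositionSet E) {d e : G}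
    (hd : d ∈ E) (he : e ∈ E) (h : ¬ Commute d e) : d * e * d = e * d * e := by
  have hd2 := sq_one hE hd
  have he2 := sq_one hE he
  have hdi := inv_self hE hd
  have hei := inv_self hE he
  rcases hE.2 d hd e he with h2 | h3
  · exfalso; apply h
    show d * e = e * d
    have : d * e = (d * e)⁻¹ := by
      rw [eq_inv_iff_mul_eq_one, ← pow_two, h2]
    rw [this, mul_inv_rev, hdi, hei]
  · -- (d e)^3 = 1 → d e d = (e d e)⁻¹ = e d e
    have h3' : (d * e * d) * (e * d * e) = 1 := by
      rw [pow_succ, pow_two] at h3
      simpa [mul_assoc] using h3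
    have := eq_inv_of_mul_eq_one_left h3'
    rw [this, mul_inv_rev, mul_inv_rev, hdi, hei, mul_assoc]

theorem main {G : Type*} [Group G] {E : Set G} (hE : Cfsg.IsThreeTranspositionSet E) {a b e : G} (ha : a ∈ E) (hb : b ∈ E) (he : e ∈ E) (hab : a ≠ b) (hcomm : Commute a b) : Commute e (a * b) ↔ (Commute e a ∧ Commute e b) := by
  constructor
  · intro h
    have ha2 := sq_one hE ha
    have hb2 := sq_one hE hb
    have he2 := sq_one hE he
    have hai := inv_self hE ha
    have hbi := inv_self hE hb
    by_cases h1 : Commute e a
    · refine ⟨h1, ?_⟩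
      have : b = a⁻¹ * (a * b) := by group
      rw [this]
      exact (h1.inv_right).mul_right h
    · by_cases h2 : Commute e b
      · refine ⟨?_, h2⟩
        have : a = (a * b) * b⁻¹ := by group
        rw [this]
        exact h.mul_right h2.inv_right
      · exfalso
        apply hab
        have b1 := braid hE he ha h1
        have b2 := braid hE he hb h2
        have ha2' : ∀ x, a * (a * x) = x := fun x => by rw [← mul_assoc, ha2, one_mul]
        have h3 : a * (e * a) = b * (e * b) := by
          have h' : e * (a * b) = (a * b) * e := h
          have := congrArg (fun x => a * x * b) h'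
          simpa only [mul_assoc, ha2', hb2, mul_one] using this
        have h4 : e * a * e = e * b * e := by
          rw [b1, b2, mul_assoc, mul_assoc, h3]
        exact mul_left_cancel (mul_right_cancel h4)
  · rintro ⟨h1, h2⟩
    exact h1.mul_right h2

/-- For distinct commuting members a, b of a set of 3-transpositions E, a member e of E centralises the product a * b if and only if it centralises both a and b. -/
theorem result {G : Type*} [Group G] {E : Set G} (hE : Cfsg.IsThreeTranspositionSet E) {a b e : G} (ha : a ∈ E) (hb : b ∈ E) (he : e ∈ E) (hab : a ≠ b) (hcomm : Commute a b) : Commute e (a * b) ↔ (Commute e a ∧ Commute e b) :=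
  main hE ha hb he hab hcomm

end Cfsg.Agent.S0436
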