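import Cfsg.Statements.S0437
import Cfsg.Agent.S0436
import Mathlib

set_option autoImplicit false
open Cfsg

namespace Cfsg.Agent.S0437

open Cfsg.Agent.S0436

theorem word {G : Type*} [Group G] (a b c e : G) (hb : b * b = 1) (he : e * e = 1)
  (hbc : b * c = c * b) (b1 : e * a * e = a * e * a) (b2 : e * b * e = b * e * b) (b3 : e * c * e = c * e * c)
  (h : a * e * a = b * c * e * c * b) : a = a * e * a := by
  have hbcb : b * c * b = c := by rw [hbc, mul_assoc, hb, mul_one]
  symm
  calc a * e * a = b * c * e * c * b := h
    _ = b * (c * e * c) * b := by simp only [mul_assoc]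
    _ = b * (e * c * e) * b := by rw [b3]
    _ = b * e * (b * c * b) * e * b := by rw [hbcb]; simp only [mul_assoc]
    _ = (b * e * b) * c * (b * e * b) := by simp only [mul_assoc]
    _ = (e * b * e) * c * (e * b * e) := by rw [b2]
    _ = e * (b * (e * c * e) * b) * e := by simp only [mul_assoc]
    _ = e * (b * (c * e * c) * b) * e := by rw [b3]
    _ = e * (b * c * e * c * b) * e := by simp only [mul_assoc]
    _ = e * (a * e * a) * e := by rw [h]
    _ = e * (e * a * e) * e := by rw [b1]
    _ = (e * e) * a * (e * e) := by simp only [mul_assoc]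
    _ = a := by rw [he, one_mul, mul_one]

/-- For three distinct, pairwise commuting members a, b, c of a set of 3-transpositions E, a member e of E centralises a * b * c if and only if it centralises each of a, b and c. -/
theorem result {G : Type*} [Group G] {E : Set G} (hE : Cfsg.IsThreeTranspositionSet E) {a b c e : G} (ha : a ∈ E) (hb : b ∈ E) (hc : c ∈ E) (he : e ∈ E) (hab : a ≠ b) (hac : a ≠ c) (hbc : b ≠ c) (h₁ : Commute a b) (h₂ : Commute a c) (h₃ : Commute b c) : Commute e (a * b * c) ↔ (Commute e a ∧ Commute e b ∧ Commute e c) := by
  constructor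
  · intro h
    have ha2 := sq_one hE ha
    have hb2 := sq_one hE hb
    have hc2 := sq_one hE hc
    have he2 := sq_one hE he
    by_cases k1 : Commute e a
    · have : Commute e (b * c) := by
        have e1 : b * c = a⁻¹ * (a * b * c) := by group
        rw [e1]; exact k1.inv_right.mul_right h
      have := (main hE hb hc he hbc h₃).1 this
      exact ⟨k1, this.1, this.2⟩
    by_cases k2 : Commute e b
    · have : Commute e (a * c) := by
        have e1 : a * c = b⁻¹ * (a * b * c) := by
          rw [h₁.eq]; group
        rw [e1]; exact k2.inv_right.mul_right h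
      have := (main hE ha hc he hac h₂).1 this
      exact ⟨this.1, k2, this.2⟩
    by_cases k3 : Commute e c
    · have : Commute e (a * b) := by
        have e1 : a * b = (a * b * c) * c⁻¹ := by group
        rw [e1]; exact h.mul_right k3.inv_right
      have := (main hE ha hb he hab h₁).1 this
      exact ⟨this.1, this.2, k3⟩
    exfalso
    have b1 := braid hE he ha k1
    have b2 := braid hE he hb k2
    have b3 := braid hE he hc k3
    have hh : a * e * a = b * c * e * c * b := by
      have h' : e * (a * b * c) = (a * b * c) * e := h
      have := congrArg (fun x => a * x * (c * b)) h'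
      have ha2' : ∀ x, a * (a * x) = x := fun x => by rw [← mul_assoc, ha2, one_mul]
      have hb2' : ∀ x, b * (b * x) = x := fun x => by rw [← mul_assoc, hb2, one_mul]
      have hc2' : ∀ x, c * (c * x) = x := fun x => by rw [← mul_assoc, hc2, one_mul]
      simp only [mul_assoc, ha2', hb2', hc2', hb2, mul_one] at this
      simp only [mul_assoc]
      exact this
    have hw := word a b c e hb2 he2 h₃.eq b1 b2 b3 hh
    -- a = a * e * a → e * a = 1 → e = a⁻¹
    apply k1
    have h1 : e * a = 1 := by
      have : a * 1 = a * (e * a) := by rw [mul_one, ← mul_assoc]; exact hw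
      exact (mul_left_cancel this).symm
    have : e = a⁻¹ := eq_inv_of_mul_eq_one_left h1
    rw [this]
    exact (Commute.refl a).inv_left
  · rintro ⟨k1, k2, k3⟩
    exact (k1.mul_right k2).mul_right k3

end Cfsg.Agent.S0437
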