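import Cfsg.Statements.S0439
import Mathlib

set_option autoImplicit false
open Cfsg

namespace Cfsg.Agent.S0439

open Equiv Equiv.Perm

theorem same {α : Type*} [DecidableEq α] [Fintype α] {a b c : α} (ab : a ≠ b) (ac : a ≠ c) :
    (swap a b * swap a c) ^ 2 = 1 ∨ (swap a b * swap a c) ^ 3 = 1 := by
  by_cases bc : b = c
  · subst bc
    left
    simp
  · right
    have := (isThreeCycle_swap_mul_swap_same ab ac bc).orderOf
    rw [← this]
    exact pow_orderOf_eq_one _

theorem swaps {α : Type*} [DecidableEq α] [Fintype α] {σ τ : Perm α} (hσ : IsSwap σ) (hτ : IsSwap τ) :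
    (σ * τ) ^ 2 = 1 ∨ (σ * τ) ^ 3 = 1 := by
  obtain ⟨a, b, ab, rfl⟩ := hσ
  obtain ⟨c, d, cd, rfl⟩ := hτ
  by_cases ac : a = c
  · subst ac; exact same ab cd
  by_cases ad : a = d
  · subst ad; rw [swap_comm c a]; exact same ab (Ne.symm cd)
  by_cases bc : b = c
  · subst bc; rw [swap_comm a b]; exact same (Ne.symm ab) cd
  by_cases bd : b = d
  · subst bd; rw [swap_comm a b, swap_comm c b]; exact same (Ne.symm ab) (Ne.symm cd)
  left
  have hd : Disjoint (swap a b) (swap c d) := disjoint_swap_swap (by simp [*])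
  rw [hd.commute.mul_pow]
  simp [pow_two]

/-- In the symmetric group of degree n ≥ 2, the set of transpositions is a conjugacy class of 3-transpositions which generates the group. -/
theorem result (n : ℕ) (hn : 2 ≤ n) : Cfsg.IsThreeTranspositionClass {σ : Equiv.Perm (Fin n) | σ.IsSwap} := by
  refine ⟨⟨?_, ?_⟩, ?_, ?_⟩
  · intro d hd
    exact hd.orderOf
  · intro d hd e he
    exact swaps hd he
  · have h01 : (⟨0, by omega⟩ : Fin n) ≠ ⟨1, by omega⟩ := by
      intro h; simp [Fin.ext_iff] at h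
    refine ⟨swap ⟨0, by omega⟩ ⟨1, by omega⟩, ⟨_, _, h01, rfl⟩, ?_⟩
    ext σ
    show σ.IsSwap ↔ IsConj _ σ
    constructor
    · rintro ⟨a, b, ab, rfl⟩
      exact isConj_swap h01 ab
    · intro h
      rw [isSwap_iff_cycleType, ← (isConj_iff_cycleType_eq.1 h)]
      exact isSwap_iff_cycleType.1 ⟨_, _, h01, rfl⟩
  · exact closure_isSwap

end Cfsg.Agent.S0439
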