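import Cfsg.Statements.S0441
import Cfsg.Agent.Lib.H18.TTFischer5

set_option autoImplicit false
open Cfsg

namespace Cfsg.Agent.S0441

open Cfsg.Agent.Lib.H18.TTF Cfsg.Agent.Lib.H26.ThreeTrans Cfsg.Agent.Lib.H7.TT

/-- Fischer's rank-three property. Let a finite group be generated by a conjugacy class D of 3-transpositions, with non-abelian simple commutator subgroup. Then for a in D there are members of D other than a commuting with a and members not commuting with a, and the centraliser of a acts transitively on each of these two sets. -/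
theorem result {G : Type*} [Group G] [Finite G] {D : Set G} (hD : Cfsg.IsThreeTranspositionClass D) (hsimple : IsSimpleGroup (commutator G)) (hnonab : ∃ x y : commutator G, x * y ≠ y * x) {a : G} (ha : a ∈ D) : (∃ b ∈ D, b ≠ a ∧ Commute a b) ∧ (∃ c ∈ D, ¬ Commute a c) ∧ (∀ b ∈ D, ∀ b' ∈ D, b ≠ a → b' ≠ a → Commute a b → Commute a b' → ∃ g : G, Commute g a ∧ g * b * g⁻¹ = b') ∧ (∀ c ∈ D, ∀ c' ∈ D, ¬ Commute a c → ¬ Commute a c' → ∃ g : G, Commute g a ∧ g * c * g⁻¹ = c') := by
  classical
  haveI : Fact (Nat.Prime 2) := ⟨Nat.prime_two⟩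
  haveI : Fact (Nat.Prime 3) := ⟨Nat.prime_three⟩
  haveI := hsimple
  have hS := hD.1
  have hconj := class_conj hD
  have hna : ¬ IsMulCommutative (commutator G) := by
    intro h
    obtain ⟨x, y, hxy⟩ := hnonab
    exact hxy (h.is_comm.comm x y)
  have hnsol : ¬ Group.IsSolvable G := by
    intro h
    haveI := h
    have h1 : Group.IsSolvable (commutator G) := inferInstance
    obtain ⟨x, y, hxy⟩ := hnonab
    exact hxy ((IsSimpleGroup.comm_iff_isSolvable.2 h1) x y)
  have hw : ∃ a ∈ D, ∃ b ∈ D, a ≠ b ∧ Commute a b := by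
    by_contra hcon
    push Not at hcon
    apply hnsol
    apply isSolvable_of_width_one hD
    intro x hx y hy hc
    by_contra hne
    exact hcon x hx y hy hne hc
  have hD2 : ∃ a ∈ D, ∃ b ∈ D, a ≠ b := by
    obtain ⟨x, hx, y, hy, hxy, -⟩ := hw
    exact ⟨x, hx, y, hy, hxy⟩
  have hprim : IsPrimitiveUnderConj D := by
    have hq := Cfsg.Agent.Lib.H7.AltStd.quasisimple_of_simple hna
    have hn : (commutator G).Normal := inferInstance
    have hL : IsComponent (commutator G) := ⟨hn.isSubnormal, hq⟩
    exact primitive_of_index_le_two hD hD2 (pCore_le_center_of_simple_commutator hsimple hna 2)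
      (pCore_le_center_of_simple_commutator hsimple hna 3) hL (index_commutator_le_two hD)
  refine ⟨?_, exists_not_commute hD hD2 ha, ?_, ?_⟩
  · obtain ⟨x, hx, y, hy, hxy, hc⟩ := hw
    obtain ⟨g, rfl⟩ := exists_conj_eq hD hx ha
    refine ⟨g * y * g⁻¹, hconj g y hy, ?_, (Commute.conj_iff g).2 hc⟩
    intro h
    apply hxy
    have := congrArg (fun t => g⁻¹ * t * g) h
    simpa [mul_assoc] using this.symm
  · intro b hb b' hb' hba hb'a hab hab'
    obtain ⟨g, hg, hgb⟩ := dd_single_class hD hprim ha (y := b) (z := b') ⟨hb, hba, hab⟩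
      ⟨hb', hb'a, hab'⟩
    refine ⟨g, ?_, hgb⟩
    have hle : Subgroup.closure (Dd D a) ≤ Subgroup.centralizer ({a} : Set G) := by
      rw [Subgroup.closure_le]
      intro y hy
      rw [SetLike.mem_coe, Subgroup.mem_centralizer_iff]
      intro z hz
      rw [Set.mem_singleton_iff] at hz
      rw [hz]; exact hy.2.2.eq
    have := hle hg
    rw [Subgroup.mem_centralizer_iff] at this
    exact (this a rfl).symm
  · intro c hc c' hc' hac hac'
    exact corb_of_not_commute hD hprim hw ha hc hc' hac hac'

end Cfsg.Agent.S0441
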