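import Cfsg.Statements.S0442
import Mathlib

set_option autoImplicit false
open Cfsg

namespace Cfsg.Agent.S0442

theorem key {G : Type*} [Group G] (a b : G) (ha : a * a = 1) (hb : b * b = 1) (m : ℕ) :
    a * (a * b) ^ m * a = ((a * b) ^ m)⁻¹ := by
  have hainv : a⁻¹ = a := inv_eq_of_mul_eq_one_right ha
  have hbinv : b⁻¹ = b := inv_eq_of_mul_eq_one_right hb
  have h1 : a * (a * b) ^ m * a = (a * (a * b) * a⁻¹) ^ m := by
    rw [conj_pow, hainv]
  have h2 : a * (a * b) * a⁻¹ = (a * b)⁻¹ := by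
    rw [mul_inv_rev, hainv, hbinv, ← mul_assoc, ha, one_mul]
  rw [h1, h2, inv_pow]

theorem comm_of {G : Type*} [Group G] (a b : G) (ha : a * a = 1) (hb : b * b = 1) (m : ℕ)
    (h : orderOf (a * b) = 2 * m) : Commute ((a * b) ^ m) a := by
  have hk := key a b ha hb m
  have hc : ((a * b) ^ m) * ((a * b) ^ m) = 1 := by
    rw [← pow_add, ← two_mul, ← h, pow_orderOf_eq_one]
  have hinv : ((a * b) ^ m)⁻¹ = (a * b) ^ m := inv_eq_of_mul_eq_one_right hc
  rw [hinv] at hk
  show (a * b) ^ m * a = a * (a * b) ^ m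
  calc (a * b) ^ m * a = (a * a) * ((a * b) ^ m * a) := by rw [ha, one_mul]
    _ = a * (a * (a * b) ^ m * a) := by simp only [mul_assoc]
    _ = a * (a * b) ^ m := by rw [hk]

theorem odd_case {G : Type*} [Group G] (a b g : G) (ha2 : a * a = 1) (hb2 : b * b = 1)
    (hag : a * g = g * b) (m : ℕ) (hm : orderOf (a * b) = 2 * m + 1) :
    Commute (g * (a * b) ^ m) a := by
  have hk := key a b ha2 hb2 m
  have hc : (a * b) ^ (2 * m + 1) = 1 := by rw [← hm, pow_orderOf_eq_one]
  show g * (a * b) ^ m * a = a * (g * (a * b) ^ m)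
  rw [← mul_assoc a g, hag, mul_assoc, mul_assoc]
  congr 1
  have h1 : (a * b) ^ m * a = a * ((a * b) ^ m)⁻¹ := by
    rw [← hk]; simp only [← mul_assoc, ha2, one_mul]
  rw [h1]
  have h2 : ((a * b) ^ m)⁻¹ = (a * b) ^ (m + 1) := by
    rw [inv_eq_iff_mul_eq_one, ← pow_add]
    have : m + (m + 1) = 2 * m + 1 := by ring
    rw [this, hc]
  rw [h2, pow_succ']
  simp only [← mul_assoc, ha2, one_mul]

/-- A standard trick for producing elements of an involution centraliser: for an involution a and an element g, let b be the conjugate g⁻¹ * a * g. If a * b has odd order 2m + 1 then g * (a * b) ^ m commutes with a; if a * b has even order 2m then (a * b) ^ m and (a * (g * a * g⁻¹)) ^ m commute with a. -/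
theorem result {G : Type*} [Group G] (a g : G) (ha : orderOf a = 2) : (∀ m : ℕ, orderOf (a * (g⁻¹ * a * g)) = 2 * m + 1 → Commute (g * (a * (g⁻¹ * a * g)) ^ m) a) ∧ (∀ m : ℕ, orderOf (a * (g⁻¹ * a * g)) = 2 * m → Commute ((a * (g⁻¹ * a * g)) ^ m) a ∧ Commute ((a * (g * a * g⁻¹)) ^ m) a) := by
  have ha2 : a * a = 1 := by
    have := pow_orderOf_eq_one a
    rw [ha, pow_two] at this; exact this
  have hainv : a⁻¹ = a := inv_eq_of_mul_eq_one_right ha2
  have hb2 : (g⁻¹ * a * g) * (g⁻¹ * a * g) = 1 := by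
    have : (g⁻¹ * a * g) * (g⁻¹ * a * g) = g⁻¹ * (a * a) * g := by group
    rw [this, ha2]; group
  have hb2' : (g * a * g⁻¹) * (g * a * g⁻¹) = 1 := by
    have : (g * a * g⁻¹) * (g * a * g⁻¹) = g * (a * a) * g⁻¹ := by group
    rw [this, ha2]; group
  refine ⟨?_, ?_⟩
  · intro m hm
    exact odd_case a _ g ha2 hb2 (by group) m hm
  · intro m hm
    refine ⟨comm_of a _ ha2 hb2 m hm, comm_of a _ ha2 hb2' m ?_⟩
    have : a * (g * a * g⁻¹) = MulAut.conj g ((a * (g⁻¹ * a * g))⁻¹) := by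
      rw [mul_inv_rev, hainv]
      have hbinv : (g⁻¹ * a * g)⁻¹ = g⁻¹ * a * g := inv_eq_of_mul_eq_one_right hb2
      rw [hbinv, MulAut.conj_apply]; group
    rw [this, MulEquiv.orderOf_eq, orderOf_inv, hm]

end Cfsg.Agent.S0442
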