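import Cfsg.Statements.S0444
import Cfsg.Agent.S0436
import Mathlib

set_option autoImplicit false
open Cfsg

namespace Cfsg.Agent.S0444

open Cfsg.Agent.S0436 Equiv

variable {G : Type*} [Group G]

/-- If `X` contains `1` and is stable under left multiplication by the generators and their
inverses, then it contains the closure. -/
theorem closure_subset_of_left_stable (S X : Set G) (h1 : (1 : G) ∈ X)
    (hS : ∀ s ∈ S, ∀ x ∈ X, s * x ∈ X ∧ s⁻¹ * x ∈ X) : (Subgroup.closure S : Set G) ⊆ X := by
  let K : Subgroup G :=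
    { carrier := {g | ∀ x ∈ X, g * x ∈ X ∧ g⁻¹ * x ∈ X}
      mul_mem' := by
        intro a b ha hb x hx
        refine ⟨?_, ?_⟩
        · rw [mul_assoc]; exact (ha _ (hb x hx).1).1
        · rw [mul_inv_rev, mul_assoc]; exact (hb _ (ha x hx).2).2
      one_mem' := by
        intro x hx
        simpa using hx
      inv_mem' := by
        intro a ha x hx
        refine ⟨(ha x hx).2, ?_⟩
        rw [inv_inv]; exact (ha x hx).1 }
  have hK : Subgroup.closure S ≤ K := (Subgroup.closure_le K).2 (fun s hs => hS s hs)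
  intro g hg
  have := (hK hg) 1 h1
  simpa using this.1

/-- the three conjugates -/
def tt (d e : G) : Fin 3 → G := ![d, e, d * e * d]

/-- `h` acts on the three conjugates as the permutation `π` -/
def Rel (d e : G) (h : G) (π : Perm (Fin 3)) : Prop := ∀ i, h * tt d e i * h⁻¹ = tt d e (π i)

theorem Rel_one (d e : G) : Rel d e 1 1 := by
  intro i; simp

theorem Rel_mul {d e h₁ h₂ : G} {π₁ π₂ : Perm (Fin 3)} (r₁ : Rel d e h₁ π₁) (r₂ : Rel d e h₂ π₂) :
    Rel d e (h₁ * h₂) (π₁ * π₂) := by
  intro i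
  have : h₁ * h₂ * tt d e i * (h₁ * h₂)⁻¹ = h₁ * (h₂ * tt d e i * h₂⁻¹) * h₁⁻¹ := by group
  rw [this, r₂ i, r₁ (π₂ i)]
  rfl

theorem Rel_inv {d e h : G} {π : Perm (Fin 3)} (r : Rel d e h π) : Rel d e h⁻¹ π⁻¹ := by
  intro i
  have h1 := r (π⁻¹ i)
  have h2 : π (π⁻¹ i) = i := π.apply_symm_apply i
  rw [h2] at h1
  rw [← h1]; group

theorem Rel_unique {d e h : G} {π π' : Perm (Fin 3)} (ht : Function.Injective (tt d e))
    (r : Rel d e h π) (r' : Rel d e h π') : π = π' := by
  ext i
  have := (r i).symm.trans (r' i)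
  rw [ht this]

theorem perm_fin3_cases (π : Perm (Fin 3)) :
    π = 1 ∨ π = swap 1 2 ∨ π = swap 0 2 ∨ π = swap 1 2 * swap 0 2 * swap 1 2 ∨
      π = swap 1 2 * swap 0 2 ∨ π = swap 0 2 * swap 1 2 := by
  revert π; decide

/-- Two members of a set of 3-transpositions which do not commute generate a subgroup isomorphic to the symmetric group on three letters. -/
theorem result {G : Type*} [Group G] {E : Set G} (hE : Cfsg.IsThreeTranspositionSet E) {d e : G} (hd : d ∈ E) (he : e ∈ E) (h : ¬ Commute d e) : Nonempty (Subgroup.closure ({d, e} : Set G) ≃* Equiv.Perm (Fin 3)) := by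
  have hd2 := sq_one hE hd
  have he2 := sq_one hE he
  have hdi := inv_self hE hd
  have hei := inv_self hE he
  have hbr := braid hE hd he h
  have hd2' : ∀ x, d * (d * x) = x := fun x => by rw [← mul_assoc, hd2, one_mul]
  have he2' : ∀ x, e * (e * x) = x := fun x => by rw [← mul_assoc, he2, one_mul]
  have hbr' : ∀ x, d * (e * (d * x)) = e * (d * (e * x)) := fun x => by
    simp only [← mul_assoc]; rw [hbr]
  have hde : d ≠ e := fun hh => h (hh ▸ Commute.refl d)
  have hdl : d ≠ d * e * d := by
    intro hh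
    have : e * d = 1 := by
      have h1 : d * 1 = d * (e * d) := by rw [mul_one, ← mul_assoc]; exact hh
      exact (mul_left_cancel h1).symm
    have : e = d⁻¹ := eq_inv_of_mul_eq_one_left this
    exact hde (by rw [this, hdi])
  have hel : e ≠ d * e * d := by
    intro hh
    apply h
    show d * e = e * d
    have : d * e = e * d⁻¹ := by rw [eq_mul_inv_iff_mul_eq]; exact hh.symm
    rw [this, hdi]
  have t0 : tt d e 0 = d := rfl
  have t1 : tt d e 1 = e := rfl
  have t2 : tt d e 2 = d * e * d := rfl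
  have htinj : Function.Injective (tt d e) := by
    intro i j hij
    fin_cases i <;> fin_cases j <;> first | rfl | (exfalso; simp only [Fin.zero_eta, Fin.mk_one, Fin.reduceFinMk, t0, t1, t2] at hij; first | exact hde hij | exact hdl hij | exact hde hij.symm | exact hel hij | exact hdl hij.symm | exact hel hij.symm)
  set H := Subgroup.closure ({d, e} : Set G) with hH
  have e1 : d * (d * e) = e := hd2' e
  have e2 : d * (e * d) = d * e * d := by rw [mul_assoc]
  have e3 : d * (d * e * d) = e * d := by rw [mul_assoc d e d]; exact hd2' _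
  have e4 : e * (d * e) = d * e * d := by rw [hbr, mul_assoc]
  have e5 : e * (e * d) = d := he2' d
  have e6 : e * (d * e * d) = d * e := by rw [hbr, mul_assoc e d e]; exact he2' _
  -- enumeration
  have hX : (H : Set G) ⊆ {1, d, e, d * e, e * d, d * e * d} := by
    apply closure_subset_of_left_stable
    · simp
    · intro s hs x hx
      simp only [Set.mem_insert_iff, Set.mem_singleton_iff] at hs hx ⊢
      rcases hs with rfl | rfl
      · rw [hdi, and_self]
        rcases hx with rfl | rfl | rfl | rfl | rfl | rfl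
        · rw [mul_one]; tauto
        · rw [hd2]; tauto
        · tauto
        · rw [e1]; tauto
        · rw [e2]; tauto
        · rw [e3]; tauto
      · rw [hei, and_self]
        rcases hx with rfl | rfl | rfl | rfl | rfl | rfl
        · rw [mul_one]; tauto
        · tauto
        · rw [he2]; tauto
        · rw [e4]; tauto
        · rw [e5]; tauto
        · rw [e6]; tauto
  have s12_0 : (swap (1 : Fin 3) 2) 0 = 0 := by decide
  have s12_1 : (swap (1 : Fin 3) 2) 1 = 2 := by decide
  have s12_2 : (swap (1 : Fin 3) 2) 2 = 1 := by decide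
  have s02_0 : (swap (0 : Fin 3) 2) 0 = 2 := by decide
  have s02_1 : (swap (0 : Fin 3) 2) 1 = 1 := by decide
  have s02_2 : (swap (0 : Fin 3) 2) 2 = 0 := by decide
  have Rd : Rel d e d (swap 1 2) := by
    intro i
    fin_cases i
    · show d * tt d e 0 * d⁻¹ = tt d e (swap (1 : Fin 3) 2 0)
      rw [s12_0, t0, hdi, hd2, one_mul]
    · show d * tt d e 1 * d⁻¹ = tt d e (swap (1 : Fin 3) 2 1)
      rw [s12_1, t1, t2, hdi]
    · show d * tt d e 2 * d⁻¹ = tt d e (swap (1 : Fin 3) 2 2)
      rw [s12_2, t1, t2, hdi, e3, mul_assoc, hd2, mul_one]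
  have Re : Rel d e e (swap 0 2) := by
    intro i
    fin_cases i
    · show e * tt d e 0 * e⁻¹ = tt d e (swap (0 : Fin 3) 2 0)
      rw [s02_0, t0, t2, hei, hbr]
    · show e * tt d e 1 * e⁻¹ = tt d e (swap (0 : Fin 3) 2 1)
      rw [s02_1, t1, hei, he2, one_mul]
    · show e * tt d e 2 * e⁻¹ = tt d e (swap (0 : Fin 3) 2 2)
      rw [s02_2, t0, t2, hei, e6, mul_assoc, he2, mul_one]
  have hex : ∀ g ∈ H, ∃ π, Rel d e g π := by
    intro g hg
    induction hg using Subgroup.closure_induction with
    | mem y hy =>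
      rcases hy with rfl | hy
      · exact ⟨_, Rd⟩
      · rw [Set.mem_singleton_iff] at hy; subst hy; exact ⟨_, Re⟩
    | one => exact ⟨1, Rel_one d e⟩
    | mul y z _ _ ihy ihz =>
      obtain ⟨π₁, r₁⟩ := ihy
      obtain ⟨π₂, r₂⟩ := ihz
      exact ⟨_, Rel_mul r₁ r₂⟩
    | inv y _ ihy =>
      obtain ⟨π, r⟩ := ihy
      exact ⟨_, Rel_inv r⟩
  let φ : H →* Perm (Fin 3) :=
    { toFun := fun g => Classical.choose (hex g.1 g.2)
      map_one' := Rel_unique htinj (Classical.choose_spec (hex (1 : H).1 (1 : H).2)) (Rel_one d e)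
      map_mul' := fun a b => Rel_unique htinj (Classical.choose_spec (hex (a * b).1 (a * b).2))
        (Rel_mul (Classical.choose_spec (hex a.1 a.2)) (Classical.choose_spec (hex b.1 b.2))) }
  have hφ : ∀ g : H, Rel d e g.1 (φ g) := fun g => Classical.choose_spec (hex g.1 g.2)
  have hdH : d ∈ H := Subgroup.subset_closure (by simp)
  have heH : e ∈ H := Subgroup.subset_closure (by simp)
  have hφd : φ ⟨d, hdH⟩ = swap 1 2 := Rel_unique htinj (hφ ⟨d, hdH⟩) Rd
  have hφe : φ ⟨e, heH⟩ = swap 0 2 := Rel_unique htinj (hφ ⟨e, heH⟩) Re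
  have hinj : Function.Injective φ := by
    rw [injective_iff_map_eq_one]
    intro g hg
    have r := hφ g
    rw [hg] at r
    have c1 : g.1 * d = d * g.1 := by
      have := r 0
      rw [Perm.one_apply, t0] at this
      calc g.1 * d = (g.1 * d * g.1⁻¹) * g.1 := by group
        _ = d * g.1 := by rw [this]
    have c2 : g.1 * e = e * g.1 := by
      have := r 1
      rw [Perm.one_apply, t1] at this
      calc g.1 * e = (g.1 * e * g.1⁻¹) * g.1 := by group
        _ = e * g.1 := by rw [this]
    have hgX := hX g.2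
    simp only [Set.mem_insert_iff, Set.mem_singleton_iff] at hgX
    apply Subtype.ext
    show g.1 = 1
    rcases hgX with hg1 | hg1 | hg1 | hg1 | hg1 | hg1
    · exact hg1
    · exfalso; rw [hg1] at c2; exact h c2
    · exfalso; rw [hg1] at c1; exact h c1.symm
    · exfalso; rw [hg1, e1] at c1
      have := congrArg (fun x => d * x) c1
      simp only [e3] at this
      exact h this.symm
    · exfalso; rw [hg1, e5] at c2
      exact hdl (by rw [hbr]; exact c2.symm)
    · exfalso; rw [hg1, e3, mul_assoc, hd2, mul_one] at c1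
      exact h c1
  have hsurj : Function.Surjective φ := by
    intro π
    rcases perm_fin3_cases π with rfl | rfl | rfl | rfl | rfl | rfl
    · exact ⟨1, map_one φ⟩
    · exact ⟨_, hφd⟩
    · exact ⟨_, hφe⟩
    · exact ⟨⟨d, hdH⟩ * ⟨e, heH⟩ * ⟨d, hdH⟩, by rw [map_mul, map_mul, hφd, hφe]⟩
    · exact ⟨⟨d, hdH⟩ * ⟨e, heH⟩, by rw [map_mul, hφd, hφe]⟩
    · exact ⟨⟨e, heH⟩ * ⟨d, hdH⟩, by rw [map_mul, hφd, hφe]⟩
  exact ⟨MulEquiv.ofBijective φ ⟨hinj, hsurj⟩⟩

end Cfsg.Agent.S0444
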