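import Cfsg.Statements.S2572
import Cfsg.Agent.Lib.H13.Transv

set_option autoImplicit false
open Cfsg

namespace Cfsg.Agent.S2572

open Cfsg.Agent.Lib.H13 Module Matrix

section
variable {F : Type*} [Field F] {n : ℕ}

/-- pairs (vector, covector) -/
@[ext] structure Pair (n : ℕ) (F : Type*) where
  v : Fin n → F
  φ : Fin n → F

def Pair.equivProd (n : ℕ) (F : Type*) : Pair n F ≃ (Fin n → F) × (Fin n → F) where
  toFun p := (p.v, p.φ)
  invFun p := ⟨p.1, p.2⟩
  left_inv _ := rfl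
  right_inv _ := rfl

instance [Finite F] : Finite (Pair n F) := Finite.of_equiv _ (Pair.equivProd n F).symm

instance : MulAction (GL (Fin n) F) (Pair n F) where
  smul g p := ⟨(g : Matrix (Fin n) (Fin n) F) *ᵥ p.v,
    p.φ ᵥ* ((g⁻¹ : GL (Fin n) F) : Matrix (Fin n) (Fin n) F)⟩
  one_smul p := by
    apply Pair.ext
    · show ((1 : GL (Fin n) F) : Matrix (Fin n) (Fin n) F) *ᵥ p.v = p.v
      simp
    · show p.φ ᵥ* (((1 : GL (Fin n) F)⁻¹ : GL (Fin n) F) : Matrix (Fin n) (Fin n) F) = p.φ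
      simp
  mul_smul g h p := by
    apply Pair.ext
    · show ((g * h : GL (Fin n) F) : Matrix (Fin n) (Fin n) F) *ᵥ p.v =
        (g : Matrix (Fin n) (Fin n) F) *ᵥ ((h : Matrix (Fin n) (Fin n) F) *ᵥ p.v)
      rw [Matrix.mulVec_mulVec]; rfl
    · show p.φ ᵥ* (((g * h)⁻¹ : GL (Fin n) F) : Matrix (Fin n) (Fin n) F) =
        (p.φ ᵥ* ((h⁻¹ : GL (Fin n) F) : Matrix (Fin n) (Fin n) F)) ᵥ*
          ((g⁻¹ : GL (Fin n) F) : Matrix (Fin n) (Fin n) F)
      rw [Matrix.vecMul_vecMul, _root_.mul_inv_rev]; rfl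

theorem smul_v (g : GL (Fin n) F) (p : Pair n F) :
    (g • p).v = (g : Matrix (Fin n) (Fin n) F) *ᵥ p.v := rfl

theorem smul_φ (g : GL (Fin n) F) (p : Pair n F) :
    (g • p).φ = p.φ ᵥ* ((g⁻¹ : GL (Fin n) F) : Matrix (Fin n) (Fin n) F) := rfl

/-- the good pairs -/
def Good (p : Pair n F) : Prop := p.v ≠ 0 ∧ p.φ ≠ 0 ∧ p.φ ⬝ᵥ p.v = 0

/-- dot product with a vector as a functional -/
def dotDual (φ : Fin n → F) : Dual F (Fin n → F) where
  toFun x := φ ⬝ᵥ x
  map_add' x y := dotProduct_add φ x y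
  map_smul' c x := by simp [dotProduct_smul]

theorem dotDual_apply (φ x : Fin n → F) : dotDual φ x = φ ⬝ᵥ x := rfl

theorem dotDual_ne_zero (φ : Fin n → F) (h : φ ≠ 0) : dotDual φ ≠ 0 := by
  intro h0
  apply h
  funext i
  have := congrArg (fun f : Dual F (Fin n → F) => f (Pi.single i 1)) h0
  simpa [dotDual_apply] using this

theorem orbit_eq (p₀ : Pair n F) (h₀ : Good p₀) :
    MulAction.orbit (GL (Fin n) F) p₀ = {p | Good p} := by
  ext p
  constructor
  · rintro ⟨g, rfl⟩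
    refine ⟨?_, ?_, ?_⟩
    · rw [smul_v]
      intro h
      apply h₀.1
      have := congrArg (fun x => ((g⁻¹ : GL (Fin n) F) : Matrix (Fin n) (Fin n) F) *ᵥ x) h
      simpa [Matrix.mulVec_mulVec] using this
    · rw [smul_φ]
      intro h
      apply h₀.2.1
      have := congrArg (fun x => x ᵥ* (g : Matrix (Fin n) (Fin n) F)) h
      simpa [Matrix.vecMul_vecMul] using this
    · rw [smul_v, smul_φ, Matrix.dotProduct_mulVec, Matrix.vecMul_vecMul]
      simp [h₀.2.2]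
  · intro hp
    obtain ⟨g, hgv, hgφ⟩ := exists_equiv_pair p₀.v p.v (dotDual p₀.φ) (dotDual p.φ) h₀.1 hp.1
      (dotDual_ne_zero _ h₀.2.1) (dotDual_ne_zero _ hp.2.1) h₀.2.2 hp.2.2
    let M : Matrix (Fin n) (Fin n) F := LinearMap.toMatrix' (g : (Fin n → F) →ₗ[F] (Fin n → F))
    let Mi : Matrix (Fin n) (Fin n) F := LinearMap.toMatrix' (g.symm : (Fin n → F) →ₗ[F] (Fin n → F))
    have h1 : M * Mi = 1 := by
      rw [← LinearMap.toMatrix'_comp]
      simp
    have h2 : Mi * M = 1 := by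
      rw [← LinearMap.toMatrix'_comp]
      simp
    let G : GL (Fin n) F := ⟨M, Mi, h1, h2⟩
    refine ⟨G, ?_⟩
    apply Pair.ext
    · show M *ᵥ p₀.v = p.v
      rw [← Matrix.toLin'_apply, Matrix.toLin'_toMatrix']
      exact hgv
    · show p₀.φ ᵥ* Mi = p.φ
      -- p.φ ᵥ* M = p₀.φ
      have h3 : p.φ ᵥ* M = p₀.φ := by
        funext i
        have := hgφ (Pi.single i 1)
        rw [dotDual_apply, dotDual_apply] at this
        have h4 : g (Pi.single i 1) = M *ᵥ (Pi.single i 1) := by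
          rw [← Matrix.toLin'_apply, Matrix.toLin'_toMatrix']; rfl
        rw [h4, Matrix.dotProduct_mulVec] at this
        simpa using this
      rw [← h3, Matrix.vecMul_vecMul, h1, Matrix.vecMul_one]

theorem card_ne {α : Type*} [Finite α] (a : α) : Nat.card {x : α // x ≠ a} = Nat.card α - 1 := by
  classical
  have := Fintype.ofFinite α
  rw [Nat.card_eq_fintype_card, Nat.card_eq_fintype_card, Fintype.card_subtype_compl,
    Fintype.card_subtype_eq]

theorem finrank_ker_dual {V : Type*} [AddCommGroup V] [Module F V] [FiniteDimensional F V]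
    (ψ : Dual F V) (hψ : ψ ≠ 0) : finrank F (LinearMap.ker ψ) + 1 = finrank F V := by
  have h1 := LinearMap.finrank_range_add_finrank_ker ψ
  have h2 : LinearMap.range ψ = ⊤ := by
    rw [LinearMap.range_eq_top]
    intro c
    obtain ⟨x, hx⟩ : ∃ x, ψ x ≠ 0 := by
      by_contra h
      push Not at h
      exact hψ (LinearMap.ext h)
    exact ⟨(c * (ψ x)⁻¹) • x, by rw [map_smul, smul_eq_mul, mul_assoc, inv_mul_cancel₀ hx, mul_one]⟩
  rw [h2, finrank_top, Module.finrank_self] at h1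
  omega

theorem card_ne_zero_in_ker [Fintype F] (v : Fin n → F) (hv : v ≠ 0) :
    Nat.card {φ : Fin n → F // φ ≠ 0 ∧ φ ⬝ᵥ v = 0} = Fintype.card F ^ (n - 1) - 1 := by
  classical
  set K := LinearMap.ker (dotDual v) with hK
  have hfr : finrank F K + 1 = n := by
    have := finrank_ker_dual (dotDual v) (dotDual_ne_zero v hv)
    simpa using this
  have hcard : Nat.card K = Fintype.card F ^ (n - 1) := by
    rw [Nat.card_eq_fintype_card, Module.card_eq_pow_finrank (K := F) (V := K)]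
    congr 1
    omega
  have e : {φ : Fin n → F // φ ≠ 0 ∧ φ ⬝ᵥ v = 0} ≃ {x : K // x ≠ 0} :=
    { toFun := fun φ => ⟨⟨φ.1, by
        show dotDual v φ.1 = 0
        rw [dotDual_apply, dotProduct_comm]; exact φ.2.2⟩, fun h => φ.2.1 (congrArg Subtype.val h)⟩
      invFun := fun x => ⟨x.1.1, fun h => x.2 (Subtype.ext h), by
        have h1 : dotDual v x.1.1 = 0 := x.1.2
        rw [dotDual_apply, dotProduct_comm] at h1
        exact h1⟩
      left_inv := fun _ => rfl
      right_inv := fun _ => rfl }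
  rw [Nat.card_congr e, card_ne, hcard]

theorem card_good [Fintype F] (hn : 1 ≤ n) :
    Nat.card {p : Pair n F // Good p} =
      (Fintype.card F ^ n - 1) * (Fintype.card F ^ (n - 1) - 1) := by
  classical
  have e : {p : Pair n F // Good p} ≃
      Σ v : {v : Fin n → F // v ≠ 0}, {φ : Fin n → F // φ ≠ 0 ∧ φ ⬝ᵥ v.1 = 0} :=
    { toFun := fun p => ⟨⟨p.1.v, p.2.1⟩, ⟨p.1.φ, p.2.2.1, p.2.2.2⟩⟩
      invFun := fun x => ⟨⟨x.1.1, x.2.1⟩, x.1.2, x.2.2.1, x.2.2.2⟩
      left_inv := fun _ => rfl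
      right_inv := fun _ => rfl }
  rw [Nat.card_congr e, Nat.card_sigma]
  have : ∀ v : {v : Fin n → F // v ≠ 0},
      Nat.card {φ : Fin n → F // φ ≠ 0 ∧ φ ⬝ᵥ v.1 = 0} = Fintype.card F ^ (n - 1) - 1 :=
    fun v => card_ne_zero_in_ker v.1 v.2
  rw [Finset.sum_congr rfl (fun v _ => this v), Finset.sum_const, smul_eq_mul, Finset.card_univ]
  congr 1
  rw [← Nat.card_eq_fintype_card, card_ne, Nat.card_eq_fintype_card, Fintype.card_fun,
    Fintype.card_fin]

/-- matrix form of the rank one decomposition -/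
theorem decomp_matrix (N : Matrix (Fin n) (Fin n) F) (hr : N.rank = 1) (hsq : N * N = 0) :
    ∃ v φ : Fin n → F, v ≠ 0 ∧ φ ≠ 0 ∧ φ ⬝ᵥ v = 0 ∧ ∀ x, N *ᵥ x = (φ ⬝ᵥ x) • v := by
  have hsq' : (Matrix.toLin' N) ∘ₗ (Matrix.toLin' N) = 0 := by
    rw [← Matrix.toLin'_mul, hsq, map_zero]
  obtain ⟨v, ψ, hv, hψ, hψv, hN⟩ := rankOne_decomp (Matrix.toLin' N) hr hsq'
  let φ : Fin n → F := fun i => ψ (Pi.single i 1)
  have hφ : ∀ x, ψ x = φ ⬝ᵥ x := by
    intro x
    rw [LinearMap.pi_apply_eq_sum_univ ψ x]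
    unfold dotProduct
    apply Finset.sum_congr rfl
    intro i _
    rw [smul_eq_mul, mul_comm]
    congr 2
    funext j
    simp [Pi.single_apply, eq_comm]
  refine ⟨v, φ, hv, ?_, ?_, ?_⟩
  · intro h0
    apply hψ
    apply LinearMap.ext
    intro x
    rw [hφ, h0]
    simp
  · rw [← hφ]; exact hψv
  · intro x
    rw [← hφ, ← hN, Matrix.toLin'_apply]

/-- the scalar matrix as an element of GL -/
def scalarGL (c : Fˣ) : GL (Fin n) F :=
  ⟨(c : F) • 1, ((c⁻¹ : Fˣ) : F) • 1, by simp [smul_smul], by simp [smul_smul]⟩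

theorem scalarGL_smul (c : Fˣ) (p : Pair n F) :
    (scalarGL c : GL (Fin n) F) • p = ⟨(c : F) • p.v, ((c⁻¹ : Fˣ) : F) • p.φ⟩ := by
  apply Pair.ext
  · show ((c : F) • (1 : Matrix (Fin n) (Fin n) F)) *ᵥ p.v = _
    rw [Matrix.smul_mulVec, Matrix.one_mulVec]
  · show p.φ ᵥ* (((c⁻¹ : Fˣ) : F) • (1 : Matrix (Fin n) (Fin n) F)) = _
    rw [Matrix.vecMul_smul, Matrix.vecMul_one]

section Cent
variable (t : GL (Fin n) F) (v φ : Fin n → F) (hv : v ≠ 0) (hφ : φ ≠ 0) (hφv : φ ⬝ᵥ v = 0)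
  (hN : ∀ x, ((t : Matrix (Fin n) (Fin n) F) - 1) *ᵥ x = (φ ⬝ᵥ x) • v)

include hN in
theorem mem_centralizer_iff' (g : GL (Fin n) F) :
    g ∈ Subgroup.centralizer ({t} : Set (GL (Fin n) F)) ↔
      ∀ x, (φ ⬝ᵥ ((g : Matrix (Fin n) (Fin n) F) *ᵥ x)) • v =
        (φ ⬝ᵥ x) • ((g : Matrix (Fin n) (Fin n) F) *ᵥ v) := by
  rw [Subgroup.mem_centralizer_iff]
  simp only [Set.mem_singleton_iff, forall_eq]
  set T : Matrix (Fin n) (Fin n) F := (t : Matrix (Fin n) (Fin n) F)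
  set G : Matrix (Fin n) (Fin n) F := (g : Matrix (Fin n) (Fin n) F)
  have h1 : t * g = g * t ↔ (T - 1) * G = G * (T - 1) := by
    constructor
    · intro h
      have h' : T * G = G * T := by
        have := congrArg (fun u : GL (Fin n) F => (u : Matrix (Fin n) (Fin n) F)) h
        exact this
      rw [sub_mul, mul_sub, h', one_mul, mul_one]
    · intro h
      apply Units.ext
      show T * G = G * T
      rw [sub_mul, mul_sub, one_mul, mul_one] at h
      exact sub_left_inj.mp h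
  rw [h1]
  constructor
  · intro h x
    have := congrArg (fun M : Matrix (Fin n) (Fin n) F => M *ᵥ x) h
    simp only [← Matrix.mulVec_mulVec] at this
    rw [hN, hN, Matrix.mulVec_smul] at this
    exact this
  · intro h
    apply Matrix.toLin'.injective
    apply LinearMap.ext
    intro x
    rw [Matrix.toLin'_apply, Matrix.toLin'_apply, ← Matrix.mulVec_mulVec, ← Matrix.mulVec_mulVec,
      hN, hN, Matrix.mulVec_smul]
    exact h x

include hN in
theorem stabilizer_le_centralizer :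
    MulAction.stabilizer (GL (Fin n) F) (⟨v, φ⟩ : Pair n F) ≤
      Subgroup.centralizer ({t} : Set (GL (Fin n) F)) := by
  intro g hg
  rw [MulAction.mem_stabilizer_iff] at hg
  have h1 : (g : Matrix (Fin n) (Fin n) F) *ᵥ v = v := congrArg Pair.v hg
  have h2 : φ ᵥ* ((g⁻¹ : GL (Fin n) F) : Matrix (Fin n) (Fin n) F) = φ := congrArg Pair.φ hg
  have h3 : φ ᵥ* (g : Matrix (Fin n) (Fin n) F) = φ := by
    have := congrArg (fun y => y ᵥ* (g : Matrix (Fin n) (Fin n) F)) h2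
    simpa [Matrix.vecMul_vecMul] using this.symm
  rw [mem_centralizer_iff' t v φ hN]
  intro x
  rw [h1, Matrix.dotProduct_mulVec, h3]

include hv hφ hN in
theorem centralizer_smul (g : GL (Fin n) F)
    (hg : g ∈ Subgroup.centralizer ({t} : Set (GL (Fin n) F))) :
    ∃ c : Fˣ, g • (⟨v, φ⟩ : Pair n F) = ⟨(c : F) • v, ((c⁻¹ : Fˣ) : F) • φ⟩ := by
  rw [mem_centralizer_iff' t v φ hN] at hg
  set G : Matrix (Fin n) (Fin n) F := (g : Matrix (Fin n) (Fin n) F) with hG
  -- w with φ w = 1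
  obtain ⟨i, hi⟩ : ∃ i, φ i ≠ 0 := by
    by_contra h
    push Not at h
    exact hφ (funext h)
  set w : Fin n → F := Pi.single i (φ i)⁻¹ with hw
  have hφw : φ ⬝ᵥ w = 1 := by
    rw [hw, dotProduct_single, mul_inv_cancel₀ hi]
  set lam := φ ⬝ᵥ (G *ᵥ w) with hlam
  have hGv : G *ᵥ v = lam • v := by
    have := hg w
    rw [hφw, one_smul] at this
    exact this.symm
  have hGv0 : G *ᵥ v ≠ 0 := by
    intro h0
    apply hv
    have := congrArg (fun x => ((g⁻¹ : GL (Fin n) F) : Matrix (Fin n) (Fin n) F) *ᵥ x) h0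
    simpa [hG, Matrix.mulVec_mulVec] using this
  have hlam0 : lam ≠ 0 := by
    intro h0
    rw [h0, zero_smul] at hGv
    exact hGv0 hGv
  have hφG : φ ᵥ* G = lam • φ := by
    funext j
    have := hg (Pi.single j 1)
    rw [hGv, smul_smul] at this
    -- (φ ⬝ G e_j) • v = (φ_j * lam) • v
    have hvne : ∃ k, v k ≠ 0 := by
      by_contra h
      push Not at h
      exact hv (funext h)
    obtain ⟨k, hk⟩ := hvne
    have h2 := congrFun this k
    simp only [Pi.smul_apply, smul_eq_mul] at h2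
    have h3 := mul_right_cancel₀ hk h2
    rw [Matrix.dotProduct_mulVec] at h3
    simp only [dotProduct_single, mul_one] at h3
    rw [h3, Pi.smul_apply, smul_eq_mul, mul_comm]
  refine ⟨Units.mk0 lam hlam0, ?_⟩
  apply Pair.ext
  · show G *ᵥ v = lam • v
    exact hGv
  · show φ ᵥ* ((g⁻¹ : GL (Fin n) F) : Matrix (Fin n) (Fin n) F) = ((Units.mk0 lam hlam0)⁻¹ : Fˣ).val • φ
    have h4 : (lam • φ) ᵥ* ((g⁻¹ : GL (Fin n) F) : Matrix (Fin n) (Fin n) F) = φ := by
      rw [← hφG, Matrix.vecMul_vecMul, hG]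
      simp
    rw [Matrix.smul_vecMul] at h4
    have h5 : ((Units.mk0 lam hlam0)⁻¹ : Fˣ).val = lam⁻¹ := by simp
    rw [h5]
    calc φ ᵥ* ((g⁻¹ : GL (Fin n) F) : Matrix (Fin n) (Fin n) F)
        = lam⁻¹ • (lam • (φ ᵥ* ((g⁻¹ : GL (Fin n) F) : Matrix (Fin n) (Fin n) F))) := by
          rw [smul_smul, inv_mul_cancel₀ hlam0, one_smul]
      _ = lam⁻¹ • φ := by rw [h4]

include hv hφ hN in
theorem orbit_centralizer :
    MulAction.orbit (Subgroup.centralizer ({t} : Set (GL (Fin n) F))) (⟨v, φ⟩ : Pair n F) =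
      Set.range (fun c : Fˣ => (⟨(c : F) • v, ((c⁻¹ : Fˣ) : F) • φ⟩ : Pair n F)) := by
  ext p
  constructor
  · rintro ⟨g, rfl⟩
    obtain ⟨c, hc⟩ := centralizer_smul t v φ hv hφ hN g.1 g.2
    exact ⟨c, hc.symm⟩
  · rintro ⟨c, rfl⟩
    have hmem : (scalarGL c : GL (Fin n) F) ∈ Subgroup.centralizer ({t} : Set (GL (Fin n) F)) := by
      rw [Subgroup.mem_centralizer_iff]
      simp only [Set.mem_singleton_iff, forall_eq]
      apply Units.ext
      show (t : Matrix (Fin n) (Fin n) F) * ((c : F) • 1) = ((c : F) • 1) * (t : Matrix (Fin n) (Fin n) F)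
      simp
    refine ⟨⟨scalarGL c, hmem⟩, ?_⟩
    show (scalarGL c : GL (Fin n) F) • (⟨v, φ⟩ : Pair n F) = _
    rw [scalarGL_smul]

include hv in
theorem range_inj :
    Function.Injective (fun c : Fˣ => (⟨(c : F) • v, ((c⁻¹ : Fˣ) : F) • φ⟩ : Pair n F)) := by
  intro c d h
  have h1 : (c : F) • v = (d : F) • v := congrArg Pair.v h
  obtain ⟨k, hk⟩ : ∃ k, v k ≠ 0 := by
    by_contra h
    push Not at h
    exact hv (funext h)
  have h2 := congrFun h1 k
  simp only [Pi.smul_apply, smul_eq_mul] at h2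
  exact Units.ext (mul_right_cancel₀ hk h2)

include hN in
theorem stabilizer_centralizer :
    MulAction.stabilizer (Subgroup.centralizer ({t} : Set (GL (Fin n) F))) (⟨v, φ⟩ : Pair n F) =
      (MulAction.stabilizer (GL (Fin n) F) (⟨v, φ⟩ : Pair n F)).subgroupOf
        (Subgroup.centralizer ({t} : Set (GL (Fin n) F))) := by
  ext g
  rw [Subgroup.mem_subgroupOf, MulAction.mem_stabilizer_iff, MulAction.mem_stabilizer_iff]
  rfl

include hv hφ hN in
theorem card_centralizer_eq [Fintype F] :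
    Nat.card (Subgroup.centralizer ({t} : Set (GL (Fin n) F))) =
      Nat.card (MulAction.stabilizer (GL (Fin n) F) (⟨v, φ⟩ : Pair n F)) * (Fintype.card F - 1) := by
  rw [← Subgroup.card_mul_index
    (MulAction.stabilizer (Subgroup.centralizer ({t} : Set (GL (Fin n) F))) (⟨v, φ⟩ : Pair n F)),
    MulAction.index_stabilizer, orbit_centralizer t v φ hv hφ hN,
    Set.ncard_range_of_injective (range_inj v φ hv), Nat.card_units,
    Nat.card_eq_fintype_card (α := F), stabilizer_centralizer t v φ hN]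
  congr 1
  exact Nat.card_congr (Subgroup.subgroupOfEquivOfLe (stabilizer_le_centralizer t v φ hN)).toEquiv

include hv hφ hφv in
theorem card_stabilizer_mul [Fintype F] (hn : 1 ≤ n) :
    Nat.card (MulAction.stabilizer (GL (Fin n) F) (⟨v, φ⟩ : Pair n F)) *
      ((Fintype.card F ^ n - 1) * (Fintype.card F ^ (n - 1) - 1)) =
      ∏ i : Fin n, (Fintype.card F ^ n - Fintype.card F ^ (i : ℕ)) := by
  rw [← Matrix.card_GL_field, ← Subgroup.card_mul_index
    (MulAction.stabilizer (GL (Fin n) F) (⟨v, φ⟩ : Pair n F)), MulAction.index_stabilizer,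
    orbit_eq _ ⟨hv, hφ, hφv⟩, ← card_good hn]
  congr 1

end Cent

theorem prod_succ (q k : ℕ) :
    ∏ i : Fin (k + 1), (q ^ (k + 1) - q ^ (i : ℕ)) =
      (q ^ (k + 1) - 1) * q ^ k * ∏ i : Fin k, (q ^ k - q ^ (i : ℕ)) := by
  rw [Fin.prod_univ_succ]
  simp only [Fin.val_zero, pow_zero, Fin.val_succ]
  rw [mul_assoc]
  congr 1
  have : ∀ i : Fin k, q ^ (k + 1) - q ^ ((i : ℕ) + 1) = q * (q ^ k - q ^ (i : ℕ)) := by
    intro i
    rw [Nat.mul_sub, pow_succ', pow_succ']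
  rw [Finset.prod_congr rfl (fun i _ => this i), Finset.prod_mul_distrib, Finset.prod_const,
    Finset.card_univ, Fintype.card_fin]

end

theorem result {F : Type*} [Field F] [Fintype F] {q n : ℕ} (hF : Fintype.card F = q) (hn : 2 ≤ n) (t : GL (Fin n) F) (ht : Cfsg.IsTransvection (t : Matrix (Fin n) (Fin n) F)) : Nat.card ↥(Subgroup.centralizer ({t} : Set (GL (Fin n) F))) = q ^ (2 * n - 3) * (q - 1) * ∏ i : Fin (n - 2), (q ^ (n - 2) - q ^ (i : ℕ)) := by
  obtain ⟨v, φ, hv, hφ, hφv, hN⟩ := decomp_matrix ((t : Matrix (Fin n) (Fin n) F) - 1) ht.1 ht.2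
  have h1 := card_centralizer_eq t v φ hv hφ hN
  have h2 := card_stabilizer_mul v φ hv hφ hφv (by omega : 1 ≤ n)
  rw [hF] at h1 h2
  obtain ⟨m, rfl⟩ : ∃ m, n = m + 2 := ⟨n - 2, by omega⟩
  have hq : 2 ≤ q := by
    rw [← hF]
    exact Fintype.one_lt_card
  rw [h1]
  rw [prod_succ q (m + 1), prod_succ q m] at h2
  have e1 : m + 2 - 1 = m + 1 := rfl
  rw [e1] at h2
  have hpos1 : 0 < q ^ (m + 1 + 1) - 1 := by
    have : 2 ^ (m + 1 + 1) ≤ q ^ (m + 1 + 1) := Nat.pow_le_pow_left hq _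
    have : 2 ≤ 2 ^ (m + 1 + 1) := by
      calc 2 = 2 ^ 1 := rfl
        _ ≤ 2 ^ (m + 1 + 1) := Nat.pow_le_pow_right (by norm_num) (by omega)
    omega
  have hpos2 : 0 < q ^ (m + 1) - 1 := by
    have : 2 ^ (m + 1) ≤ q ^ (m + 1) := Nat.pow_le_pow_left hq _
    have : 2 ≤ 2 ^ (m + 1) := by
      calc 2 = 2 ^ 1 := rfl
        _ ≤ 2 ^ (m + 1) := Nat.pow_le_pow_right (by norm_num) (by omega)
    omega
  have h3 : Nat.card (MulAction.stabilizer (GL (Fin (m + 2)) F) (⟨v, φ⟩ : Pair (m + 2) F)) =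
      q ^ (2 * m + 1) * ∏ i : Fin m, (q ^ m - q ^ (i : ℕ)) := by
    have hpos : 0 < (q ^ (m + 2) - 1) * (q ^ (m + 1) - 1) := Nat.mul_pos hpos1 hpos2
    apply Nat.eq_of_mul_eq_mul_right hpos
    rw [h2]
    have : 2 * m + 1 = (m + 1) + m := by omega
    rw [this, pow_add]
    ring
  rw [h3]
  have e2 : 2 * (m + 2) - 3 = 2 * m + 1 := by omega
  have e3 : m + 2 - 2 = m := rfl
  rw [e2]
  exact mul_right_comm _ _ _

end Cfsg.Agent.S2572
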