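import Cfsg.Statements.S0445
import Cfsg.Agent.S2572
-- import your own Cfsg.Agent.* helpers here

set_option autoImplicit false
open Cfsg

namespace Cfsg.Agent.S0445

open Matrix

theorem single_mulVec (x : Fin 5 → ZMod 2) :
    (Matrix.single (0 : Fin 5) (1 : Fin 5) (1 : ZMod 2)) *ᵥ x = x 1 • (Pi.single 0 1 : Fin 5 → ZMod 2) := by
  ext i
  fin_cases i <;> simp [Matrix.mulVec, dotProduct, Matrix.single, Fin.sum_univ_succ]

theorem rank_single : (Matrix.single (0 : Fin 5) (1 : Fin 5) (1 : ZMod 2)).rank = 1 := by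
  unfold Matrix.rank
  have hrange : LinearMap.range (Matrix.single (0 : Fin 5) (1 : Fin 5) (1 : ZMod 2)).mulVecLin
      = Submodule.span (ZMod 2) {(Pi.single 0 1 : Fin 5 → ZMod 2)} := by
    apply le_antisymm
    · rintro _ ⟨x, rfl⟩
      rw [Matrix.mulVecLin_apply, single_mulVec]
      exact Submodule.smul_mem _ _ (Submodule.mem_span_singleton_self _)
    · rw [Submodule.span_singleton_le_iff_mem]
      refine ⟨Pi.single 1 1, ?_⟩
      rw [Matrix.mulVecLin_apply, single_mulVec]
      simp
  rw [hrange, finrank_span_singleton]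
  intro h
  have := congrFun h 0
  simp at this

theorem isTransvection :
    Cfsg.IsTransvection (Matrix.transvection (0 : Fin 5) 1 (1 : ZMod 2)) := by
  constructor
  · have : Matrix.transvection (0 : Fin 5) 1 (1 : ZMod 2) - 1 = Matrix.single 0 1 1 := by
      simp [Matrix.transvection]
    rw [this, rank_single]
  · have : Matrix.transvection (0 : Fin 5) 1 (1 : ZMod 2) - 1 = Matrix.single 0 1 1 := by
      simp [Matrix.transvection]
    rw [this]
    rw [Matrix.single_mul_single_of_ne]
    decide

theorem det_eq_one (g : GL (Fin 5) (ZMod 2)) : (g : Matrix (Fin 5) (Fin 5) (ZMod 2)).det = 1 := by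
  have hu : IsUnit (g : Matrix (Fin 5) (Fin 5) (ZMod 2)).det :=
    (Matrix.isUnit_iff_isUnit_det _).mp g.isUnit
  have h01 : ∀ z : ZMod 2, IsUnit z → z = 1 := by decide
  exact h01 _ hu

def toSL (g : GL (Fin 5) (ZMod 2)) : Matrix.SpecialLinearGroup (Fin 5) (ZMod 2) :=
  ⟨(g : Matrix (Fin 5) (Fin 5) (ZMod 2)), det_eq_one g⟩

theorem toSL_coe (g : GL (Fin 5) (ZMod 2)) :
    ((toSL g : Matrix.SpecialLinearGroup (Fin 5) (ZMod 2)) : Matrix (Fin 5) (Fin 5) (ZMod 2)) = g := rfl

theorem toGL_toSL (g : GL (Fin 5) (ZMod 2)) : Matrix.SpecialLinearGroup.toGL (toSL g) = g := by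
  refine Matrix.GeneralLinearGroup.ext fun i j => ?_
  rfl

theorem toSL_toGL (g : Matrix.SpecialLinearGroup (Fin 5) (ZMod 2)) :
    toSL (Matrix.SpecialLinearGroup.toGL g) = g := by
  apply Subtype.ext
  rfl

theorem toSL_mul (g h : GL (Fin 5) (ZMod 2)) : toSL (g * h) = toSL g * toSL h := by
  apply Subtype.ext
  rfl

/-- In the special linear group of dimension 5 over the field with two elements, the centraliser of a transvection has order 21504 = 2 ^ 7 · 168 (it is an extension of an extraspecial group of order 2 ^ 7 by the simple group of order 168). -/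
theorem result (s : Matrix.SpecialLinearGroup (Fin 5) (ZMod 2)) (hs : (s : Matrix (Fin 5) (Fin 5) (ZMod 2)) = Matrix.transvection 0 1 1) : Nat.card (Subgroup.centralizer ({s} : Set (Matrix.SpecialLinearGroup (Fin 5) (ZMod 2)))) = 21504 := by
  set t : GL (Fin 5) (ZMod 2) := Matrix.SpecialLinearGroup.toGL s with ht
  have htm : (t : Matrix (Fin 5) (Fin 5) (ZMod 2)) = Matrix.transvection 0 1 1 := by
    rw [ht]; simpa using hs
  have hst : toSL t = s := toSL_toGL s
  have hcard := Cfsg.Agent.S2572.result (F := ZMod 2) (q := 2) (n := 5) (by simp) (by norm_num) t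
    (by rw [htm]; exact isTransvection)
  -- the bijection between the centralizers
  have hbij : Nat.card (Subgroup.centralizer ({s} : Set (Matrix.SpecialLinearGroup (Fin 5) (ZMod 2))))
      = Nat.card (Subgroup.centralizer ({t} : Set (GL (Fin 5) (ZMod 2)))) := by
    apply Nat.card_congr
    refine ⟨fun g => ⟨Matrix.SpecialLinearGroup.toGL g.1, ?_⟩, fun g => ⟨toSL g.1, ?_⟩, ?_, ?_⟩
    · rw [Subgroup.mem_centralizer_singleton_iff]
      have := Subgroup.mem_centralizer_singleton_iff.mp g.2
      rw [ht, ← map_mul, ← map_mul, this]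
    · rw [Subgroup.mem_centralizer_singleton_iff]
      have := Subgroup.mem_centralizer_singleton_iff.mp g.2
      rw [← hst, ← toSL_mul, ← toSL_mul, this]
    · intro g
      apply Subtype.ext
      exact toSL_toGL g.1
    · intro g
      apply Subtype.ext
      exact toGL_toSL g.1
  rw [hbij, hcard]
  simp [Fin.prod_univ_succ]

end Cfsg.Agent.S0445
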