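import Cfsg.Statements.S0459
import Cfsg.Agent.Lib.H6.RuSimple

set_option autoImplicit false
open Cfsg

namespace Cfsg.Agent.S0459

open Cfsg.Agent.Lib.H6.RuPerm Cfsg.Agent.Lib.H6.RuPres Cfsg.Agent.Lib.H6.WordPres MulAction

/-- the permutation group -/
noncomputable def HH : Subgroup (Equiv.Perm (Fin 4060)) := φ.range

/-- the presented group is isomorphic to the permutation group -/
noncomputable def isoHH : R ≃* HH := MonoidHom.ofInjective φ_injective

theorem isRu_HH : Cfsg.IsRu HH := by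
  haveI := Cfsg.Agent.Lib.H6.RuPerm.simple
  refine ⟨isoHH.symm.isSimpleGroup, ?_⟩
  rw [← Cfsg.Agent.Lib.H6.RuPerm.card_eq]
  exact (Nat.card_congr isoHH.toEquiv).symm

theorem smul_HH (g : R) (i : Fin 4060) : (⟨φ g, ⟨g, rfl⟩⟩ : HH) • i = φ g i := rfl

theorem pretrans_HH : IsPretransitive HH (Fin 4060) := by
  rw [isPretransitive_iff_base (0 : Fin 4060)]
  intro x
  obtain ⟨g, hg⟩ := φ_trans x
  exact ⟨⟨φ g, ⟨g, rfl⟩⟩, hg⟩

theorem card_stab : Nat.card (stabilizer HH (0 : Fin 4060)) = 35942400 := by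
  haveI := pretrans_HH
  have h1 := index_stabilizer_of_transitive HH (0 : Fin 4060)
  have h2 := (stabilizer HH (0 : Fin 4060)).card_mul_index
  have h3 : Nat.card (Fin 4060) = 4060 := by rw [Nat.card_eq_fintype_card, Fintype.card_fin]
  rw [h1, h3, isRu_HH.2] at h2
  apply Nat.eq_of_mul_eq_mul_right (by norm_num : 0 < 4060)
  rw [h2]

/-- the image of the Tits group fixes the base point -/
theorem fix_ι (g : Cfsg.Agent.Lib.H6.TitsPres.G) : φ (ι g) (0 : Fin 4060) = 0 := by
  let S : Subgroup Cfsg.Agent.Lib.H6.TitsPres.G :=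
    { carrier := {g | φ (ι g) (0 : Fin 4060) = 0}
      one_mem' := by simp
      mul_mem' := by
        intro a b ha hb
        change φ (ι (a * b)) 0 = 0
        rw [map_mul, map_mul, Equiv.Perm.mul_apply]
        have hb' : φ (ι b) 0 = 0 := hb
        have ha' : φ (ι a) 0 = 0 := ha
        rw [hb', ha']
      inv_mem' := by
        intro a ha
        change φ (ι a⁻¹) 0 = 0
        have ha' : φ (ι a) 0 = 0 := ha
        rw [map_inv, map_inv, Equiv.Perm.inv_eq_iff_eq, ha'] }
  have hfix : ∀ x < 4, φ (e 6 WR x) (0 : Fin 4060) = 0 := by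
    intro x hx
    rw [φ_e x (by omega)]
    unfold eps
    rw [Equiv.Perm.inv_eq_iff_eq]
    apply Fin.ext
    unfold sg
    rw [Cfsg.Agent.Lib.H6.PermTab.σ_apply _ _ _ _ good x (by omega) (0 : Fin 4060)]
    exact (fix0 x (by omega)).symm
  have hS : S = ⊤ := by
    apply Cfsg.Agent.Lib.H6.TitsPerm.e_mem_of_ab S
    · change φ (ι (e 2 Cfsg.Agent.Lib.H6.TitsPres.WT 0)) 0 = 0
      rw [ι_e 0 (by norm_num)]
      exact hfix 0 (by norm_num)
    · change φ (ι (e 2 Cfsg.Agent.Lib.H6.TitsPres.WT 2)) 0 = 0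
      rw [ι_e 2 (by norm_num)]
      exact hfix 2 (by norm_num)
  have : g ∈ S := by rw [hS]; trivial
  exact this

/-- the homomorphism from the Tits group to the permutation group -/
noncomputable def θ : Cfsg.Agent.Lib.H6.TitsPres.G →* HH :=
  (φ.comp ι).codRestrict HH (fun g => ⟨ι g, rfl⟩)

/-- the homomorphism from the Tits group to the point stabiliser -/
noncomputable def τ : Cfsg.Agent.Lib.H6.TitsPres.G →* stabilizer HH (0 : Fin 4060) :=
  θ.codRestrict (stabilizer HH (0 : Fin 4060)) (fun g => by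
    rw [mem_stabilizer_iff]
    exact fix_ι g)

theorem τ_injective : Function.Injective τ := by
  haveI := Cfsg.Agent.Lib.H6.TitsPerm.simple
  apply injective_of_simple' τ (e 2 Cfsg.Agent.Lib.H6.TitsPres.WT 0)
  intro h
  apply φ_a_ne
  have h1 : ((τ (e 2 Cfsg.Agent.Lib.H6.TitsPres.WT 0) : stabilizer HH (0 : Fin 4060)) : HH) = 1 := by
    rw [h]; rfl
  have h2 : (((τ (e 2 Cfsg.Agent.Lib.H6.TitsPres.WT 0) : stabilizer HH (0 : Fin 4060)) : HH) :
      Equiv.Perm (Fin 4060)) = 1 := by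
    rw [h1]; rfl
  have h3 : (((τ (e 2 Cfsg.Agent.Lib.H6.TitsPres.WT 0) : stabilizer HH (0 : Fin 4060)) : HH) :
      Equiv.Perm (Fin 4060)) = φ (ι (e 2 Cfsg.Agent.Lib.H6.TitsPres.WT 0)) := rfl
  rw [h3, ι_e 0 (by norm_num)] at h2
  exact h2


/-- The Rudvalis group exists as a transitive permutation group of degree 4060: simple of order 145926144000, with point stabiliser of order 35942400 containing a simple subgroup of order 17971200 (the order of the Tits group). -/
theorem result : ∃ H : Subgroup (Equiv.Perm (Fin 4060)), Cfsg.IsRu H ∧ MulAction.IsPretransitive H (Fin 4060) ∧ Nat.card (MulAction.stabilizer H (0 : Fin 4060)) = 35942400 ∧ ∃ T : Subgroup (MulAction.stabilizer H (0 : Fin 4060)), Cfsg.IsTits T := by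
  refine ⟨HH, isRu_HH, pretrans_HH, card_stab, τ.range, ?_⟩
  haveI := Cfsg.Agent.Lib.H6.TitsPerm.simple
  refine ⟨(MonoidHom.ofInjective τ_injective).symm.isSimpleGroup, ?_⟩
  rw [← Cfsg.Agent.Lib.H6.TitsPerm.card_eq]
  exact (Nat.card_congr (MonoidHom.ofInjective τ_injective).toEquiv).symm

end Cfsg.Agent.S0459
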