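import Cfsg.Statements.S0460
-- import your own Cfsg.Agent.* helpers here
import Cfsg.Agent.Lib.H6.ONFIndex

set_option autoImplicit false
open Cfsg

namespace Cfsg.Agent.S0460

open Cfsg.Agent.Lib.H6 Cfsg.Agent.Lib.H6.ONFIndex

/-- the image of the presented group in the symmetric group -/
noncomputable def H : Subgroup (Equiv.Perm (Fin 122760)) := phi.range

/-- the presented group is isomorphic to its image -/
noncomputable def iso : ONGlue.G ≃* H := MonoidHom.ofInjective phi_injective

theorem isON_H : Cfsg.IsON H := by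
  refine ⟨?_, ?_⟩
  · haveI := ONSimple.G_simple
    exact iso.symm.isSimpleGroup
  · rw [← Nat.card_congr iso.toEquiv]
    exact ONSimple.G_card

theorem trans_H : MulAction.IsPretransitive H (Fin 122760) := by
  constructor
  intro x y
  obtain ⟨gx, hx⟩ := phi_trans x
  obtain ⟨gy, hy⟩ := phi_trans y
  refine ⟨⟨phi (gy * gx⁻¹), ⟨_, rfl⟩⟩, ?_⟩
  show phi (gy * gx⁻¹) x = y
  rw [map_mul, map_inv, Equiv.Perm.mul_apply, ← hx, ← hy]
  simp

theorem stab_card : Nat.card (MulAction.stabilizer H (0 : Fin 122760)) = 3753792 := by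
  haveI := trans_H
  have h := (MulAction.stabilizer H (0 : Fin 122760)).card_mul_index
  rw [MulAction.index_stabilizer_of_transitive H (0 : Fin 122760), Nat.card_fin, isON_H.2] at h
  have h2 : (3753792 : ℕ) * 122760 = 460815505920 := by norm_num
  exact Nat.eq_of_mul_eq_mul_right (by norm_num : 0 < 122760) (h.trans h2.symm)

theorem exists_sub {A : Type} [Group A] (ψ : A →* ONGlue.G) (hψ : Function.Injective ψ) :
    ∃ K : Subgroup H, Nonempty (A ≃* K) := by
  have hf : Function.Injective (iso.toMonoidHom.comp ψ) := iso.injective.comp hψ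
  exact ⟨(iso.toMonoidHom.comp ψ).range, ⟨MonoidHom.ofInjective hf⟩⟩

theorem exists_J1 : ∃ K : Subgroup H, Cfsg.IsJ1 K := by
  obtain ⟨K, ⟨ι⟩⟩ := exists_sub psiJ psiJ_injective
  refine ⟨K, ?_, ?_⟩
  · have := J1Pres.simple_G
    exact ι.symm.isSimpleGroup
  · rw [← Nat.card_congr ι.toEquiv]
    exact J1Pres.card_eq

theorem exists_M11 : ∃ K : Subgroup H, Cfsg.IsM11 K := by
  obtain ⟨K, ⟨ι⟩⟩ := exists_sub psiM psiM_injective
  refine ⟨K, ?_, ?_⟩
  · have := M11Pres.simple_G
    exact ι.symm.isSimpleGroup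
  · rw [← Nat.card_congr ι.toEquiv]
    exact M11Pres.card_eq

/-- The O'Nan group exists as a transitive permutation group of degree 122760: simple of order 460815505920, point stabiliser of order 3753792, and containing simple subgroups of orders 175560 and 7920. -/
theorem result : ∃ H : Subgroup (Equiv.Perm (Fin 122760)), Cfsg.IsON H ∧ MulAction.IsPretransitive H (Fin 122760) ∧ Nat.card (MulAction.stabilizer H (0 : Fin 122760)) = 3753792 ∧ (∃ K : Subgroup H, Cfsg.IsJ1 K) ∧ (∃ K : Subgroup H, Cfsg.IsM11 K) := by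
  exact ⟨H, isON_H, trans_H, stab_card, exists_J1, exists_M11⟩

end Cfsg.Agent.S0460
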