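import Cfsg.Statements.S0473
import Mathlib
import Cfsg.Agent.Lib.H17.FT.Fi24He

set_option autoImplicit false
open Cfsg

namespace Cfsg.Agent.S0473

open Cfsg.Agent.Lib.H17.Fi24S Cfsg.Agent.Lib.H17.FT24 Cfsg.Agent.Lib.H17.FT Cfsg.Agent.Lib.H6.FiIndex

attribute [local instance] Cfsg.Agent.Lib.H17.Fi24S.actInst

/-- the centraliser of a conjugate -/
theorem centralizer_conj {K : Type*} [Group K] (g a : K) :
    Subgroup.centralizer ({g * a * g⁻¹} : Set K) =
      (Subgroup.centralizer ({a} : Set K)).map (MulAut.conj g).toMonoidHom := by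
  ext x
  rw [Subgroup.mem_centralizer_singleton_iff, Subgroup.mem_map]
  constructor
  · intro h
    refine ⟨g⁻¹ * x * g, ?_, ?_⟩
    · rw [Subgroup.mem_centralizer_singleton_iff]
      calc g⁻¹ * x * g * a = g⁻¹ * (x * (g * a * g⁻¹)) * g := by group
        _ = g⁻¹ * (g * a * g⁻¹ * x) * g := by rw [h]
        _ = a * (g⁻¹ * x * g) := by group
    · show (MulAut.conj g) (g⁻¹ * x * g) = x
      rw [MulAut.conj_apply]
      group
  · rintro ⟨y, hy, rfl⟩
    rw [Subgroup.mem_centralizer_singleton_iff] at hy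
    show (MulAut.conj g) y * (g * a * g⁻¹) = g * a * g⁻¹ * (MulAut.conj g) y
    rw [MulAut.conj_apply]
    calc g * y * g⁻¹ * (g * a * g⁻¹) = g * (y * a) * g⁻¹ := by group
      _ = g * (a * y) * g⁻¹ := by rw [hy]
      _ = g * a * g⁻¹ * (g * y * g⁻¹) := by group

theorem H_eq : H = Subgroup.centralizer ({E 0} : Set G) := by
  rw [← stab_eq]
  ext g
  rw [MulAction.mem_stabilizer_iff]
  exact ⟨phi_H g, H_index.2 g⟩

theorem isFi23_H₀ : Cfsg.IsFi23 H₀ := by
  have := simple23
  exact ⟨(MonoidHom.ofInjective θ₀_injective).symm.isSimpleGroup, card_H₀⟩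

theorem H₀_le_commutator : H₀ ≤ commutator G := by
  have hperf : commutator G23 = ⊤ := Cfsg.Agent.Lib.H17.Fi23Simple.perfect
  rw [H₀, MonoidHom.range_eq_map, ← hperf, commutator_def, Subgroup.map_commutator]
  exact Subgroup.commutator_mono le_top le_top

theorem card_D : Nat.card (conjugatesOf (E 0) : Set G) = 306936 := by
  have hmem : ∀ x : Fin n, T24.t x ∈ (conjugatesOf (E 0) : Set G) := fun x =>
    (T24.mem_conj_iff _).mpr ⟨x, rfl⟩
  have hbij : Function.Bijective (fun x : Fin n => (⟨T24.t x, hmem x⟩ : (conjugatesOf (E 0) : Set G))) := by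
    constructor
    · intro x y hxy
      exact T24.t_inj (congrArg Subtype.val hxy)
    · rintro ⟨y, hy⟩
      obtain ⟨x, hx⟩ := (T24.mem_conj_iff y).mp hy
      exact ⟨x, Subtype.ext hx⟩
  rw [← Nat.card_congr (Equiv.ofBijective _ hbij), Nat.card_eq_fintype_card, Fintype.card_fin]

/-- The largest Fischer 3-transposition group: a group of order 2 · 1255205709190661721292800 generated by a conjugacy class of 306936 3-transpositions, in which a transposition centraliser has order 2 · 4089470473293004800 and contains a simple subgroup of order 4089470473293004800; its subgroup of index 2 is simple and contains simple subgroups of orders 4089470473293004800 and 4030387200. -/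
theorem result : ∃ (G : Type) (_ : Group G) (_ : Finite G), Nat.card G = 2 * 1255205709190661721292800 ∧ ∃ D : Set G, Cfsg.IsThreeTranspositionClass D ∧ Nat.card D = 306936 ∧ (∀ d ∈ D, Nat.card (Subgroup.centralizer ({d} : Set G)) = 2 * 4089470473293004800 ∧ ∃ K : Subgroup G, K ≤ Subgroup.centralizer ({d} : Set G) ∧ Cfsg.IsFi23 K) ∧ ∃ H : Subgroup G, H.index = 2 ∧ Cfsg.IsFi24' H ∧ (∃ K : Subgroup H, Cfsg.IsFi23 K) ∧ (∃ K : Subgroup H, Cfsg.IsHe K) := by
  refine ⟨G, inferInstance, finite_G, ?_, conjugatesOf (E 0), class24, card_D, ?_, commutator G,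
    index_commutator, ⟨simple_commutator, card_commutator⟩, ?_, ?_⟩
  · rw [card_G]
  · intro d hd
    obtain ⟨g, rfl⟩ := (mem_D d).mp hd
    rw [centralizer_conj, ← H_eq]
    have hinj : Function.Injective (MulAut.conj g).toMonoidHom := (MulAut.conj g).injective
    refine ⟨?_, H₀.map (MulAut.conj g).toMonoidHom, Subgroup.map_mono H₀_le_H, ?_⟩
    · rw [Subgroup.card_map_of_injective hinj, card_H]
    · have e : H₀ ≃* H₀.map (MulAut.conj g).toMonoidHom := H₀.equivMapOfInjective _ hinj
      have := isFi23_H₀.1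
      exact ⟨e.symm.isSimpleGroup, by rw [← Nat.card_congr e.toEquiv]; exact isFi23_H₀.2⟩
  · have e : H₀.subgroupOf (commutator G) ≃* H₀ := Subgroup.subgroupOfEquivOfLe H₀_le_commutator
    have := isFi23_H₀.1
    exact ⟨H₀.subgroupOf (commutator G), e.isSimpleGroup, by
      rw [Nat.card_congr e.toEquiv]; exact isFi23_H₀.2⟩
  · have e : heK.subgroupOf (commutator G) ≃* heK := Subgroup.subgroupOfEquivOfLe heK_le
    have := isHe_heK.1
    exact ⟨heK.subgroupOf (commutator G), e.isSimpleGroup, by
      rw [Nat.card_congr e.toEquiv]; exact isHe_heK.2⟩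

end Cfsg.Agent.S0473
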