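import Cfsg.Statements.S0481
import Cfsg.Agent.S0443
import Mathlib

set_option autoImplicit false
open Cfsg

namespace Cfsg.Agent.S0481

open scoped Pointwise

/-- Large extraspecial subgroups: let z be an involution of a finite group G whose centraliser C contains a normal 2-subgroup Q with centre of order 2 and all squares central, such that every element of G centralising Q lies in Q. Then C contains a Sylow 2-subgroup of G, and any involution of G whose centraliser contains a Sylow 2-subgroup of G is conjugate to z. -/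
theorem result {G : Type*} [Group G] [Finite G] (z : G) (hz : orderOf z = 2) (Q : Subgroup G) (hQC : Q ≤ Subgroup.centralizer ({z} : Set G)) (hQn : ∀ g ∈ Subgroup.centralizer ({z} : Set G), ∀ q ∈ Q, g * q * g⁻¹ ∈ Q) (hQ2 : IsPGroup 2 Q) (hZ : Nat.card (Subgroup.center Q) = 2) (hsq : ∀ x : Q, x ^ 2 ∈ Subgroup.center Q) (hlarge : Subgroup.centralizer (Q : Set G) ≤ Q) : (∃ P : Sylow 2 G, (P : Subgroup G) ≤ Subgroup.centralizer ({z} : Set G)) ∧ ∀ u : G, orderOf u = 2 → (∃ P : Sylow 2 G, (P : Subgroup G) ≤ Subgroup.centralizer ({u} : Set G)) → IsConj z u := by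
  haveI : Fact (Nat.Prime 2) := ⟨Nat.prime_two⟩
  have hz1 : z ≠ 1 := by
    intro h; rw [h, orderOf_one] at hz; exact absurd hz (by norm_num)
  -- z commutes with Q
  have hzQc : ∀ q ∈ Q, q * z = z * q := by
    intro q hq
    have := hQC hq
    rw [Subgroup.mem_centralizer_iff] at this
    exact (this z rfl).symm
  have hzCQ : z ∈ Subgroup.centralizer (Q : Set G) := by
    rw [Subgroup.mem_centralizer_iff]; exact hzQc
  have hzQ : z ∈ Q := hlarge hzCQ
  -- every element of G centralizing Q is 1 or z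
  have key : ∀ t : G, t ∈ Subgroup.centralizer (Q : Set G) → t ≠ 1 → t = z := by
    intro t ht ht1
    have htQ : t ∈ Q := hlarge ht
    have hcen : ∀ s : G, ∀ hs : s ∈ Q, s ∈ Subgroup.centralizer (Q : Set G) →
        (⟨s, hs⟩ : Q) ∈ Subgroup.center Q := by
      intro s hs hsc
      rw [Subgroup.mem_center_iff]
      intro q
      rw [Subgroup.mem_centralizer_iff] at hsc
      exact Subtype.ext (hsc q q.2)
    obtain ⟨y, _, hy⟩ := (Nat.card_eq_two_iff' (1 : Subgroup.center Q)).1 hZ
    have h1 := hy ⟨⟨t, htQ⟩, hcen t htQ ht⟩ (fun h => ht1 (congrArg (fun x : Subgroup.center Q => ((x : Q) : G)) h))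
    have h2 := hy ⟨⟨z, hzQ⟩, hcen z hzQ hzCQ⟩ (fun h => hz1 (congrArg (fun x : Subgroup.center Q => ((x : Q) : G)) h))
    have := h1.trans h2.symm
    exact congrArg (fun x : Subgroup.center Q => ((x : Q) : G)) this
  obtain ⟨T, hT⟩ := hQ2.exists_le_sylow
  -- elements of the centre of T (viewed in G)
  have hTcen : ∀ t : G, t ∈ T → (∀ s ∈ T, s * t = t * s) → t ≠ 1 → t = z := by
    intro t _ htc ht1
    apply key t _ ht1
    rw [Subgroup.mem_centralizer_iff]
    intro q hq
    exact htc q (hT hq)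
  haveI : Nontrivial (T : Subgroup G) := ⟨⟨⟨z, hT hzQ⟩, 1, fun h1 => hz1 (congrArg Subtype.val h1)⟩⟩
  haveI : Nontrivial (Subgroup.center (T : Subgroup G)) := T.isPGroup'.center_nontrivial
  obtain ⟨c, hc1⟩ := exists_ne (1 : Subgroup.center (T : Subgroup G))
  have hcc : ∀ s ∈ (T : Subgroup G), s * ((c : (T : Subgroup G)) : G) = ((c : (T : Subgroup G)) : G) * s := by
    intro s hs
    have := Subgroup.mem_center_iff.1 c.2 ⟨s, hs⟩
    exact congrArg Subtype.val this
  have hcz : ((c : (T : Subgroup G)) : G) = z := by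
    apply hTcen _ (c : (T : Subgroup G)).2 hcc
    intro h1
    exact hc1 (Subtype.ext (Subtype.ext h1))
  have hzT : ∀ s ∈ (T : Subgroup G), s * z = z * s := by rw [← hcz]; exact hcc
  have hTz : (T : Subgroup G) ≤ Subgroup.centralizer ({z} : Set G) := by
    intro s hs
    rw [Subgroup.mem_centralizer_iff]
    intro y hy
    rw [Set.mem_singleton_iff] at hy
    subst hy
    exact (hzT s hs).symm
  refine ⟨⟨T, hTz⟩, ?_⟩
  intro u hu ⟨P, hP⟩
  obtain ⟨g, hg⟩ := MulAction.exists_smul_eq G P T
  -- u' = g u g⁻¹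
  set u' := g * u * g⁻¹ with hu'
  have hu'o : orderOf u' = 2 := by
    have : u' = MulAut.conj g u := by simp [hu']
    rw [this, MulEquiv.orderOf_eq, hu]
  have hTu' : (T : Subgroup G) ≤ Subgroup.centralizer ({u'} : Set G) := by
    intro s hs
    rw [← hg, Sylow.coe_subgroup_smul] at hs
    obtain ⟨r, hr, rfl⟩ := hs
    rw [Subgroup.mem_centralizer_iff]
    intro y hy
    rw [Set.mem_singleton_iff] at hy
    subst hy
    have := hP hr
    rw [Subgroup.mem_centralizer_iff] at this
    have h1 := this u rfl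
    -- u * r = r * u
    show g * u * g⁻¹ * (MulAut.conj g r) = (MulAut.conj g r) * (g * u * g⁻¹)
    rw [MulAut.conj_apply]
    calc g * u * g⁻¹ * (g * r * g⁻¹) = g * (u * r) * g⁻¹ := by group
      _ = g * (r * u) * g⁻¹ := by rw [h1]
      _ = g * r * g⁻¹ * (g * u * g⁻¹) := by group
  have hu'T : u' ∈ T := Cfsg.Agent.S0443.mem_sylow_of_le_centralizer u' hu'o T hTu'
  have hu'1 : u' ≠ 1 := by
    intro h; rw [h, orderOf_one] at hu'o; exact absurd hu'o (by norm_num)
  have hu'z : u' = z := by
    apply hTcen u' hu'T _ hu'1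
    intro s hs
    have := hTu' hs
    rw [Subgroup.mem_centralizer_iff] at this
    exact (this u' rfl).symm
  rw [isConj_iff]
  refine ⟨g⁻¹, ?_⟩
  rw [← hu'z, hu']; group

end Cfsg.Agent.S0481
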