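import Cfsg.Statements.S0496
import Mathlib
import Cfsg.Agent.Lib.H5.Ord.Sieve496_0
import Cfsg.Agent.Lib.H5.Ord.Sieve496_1
import Cfsg.Agent.Lib.H5.Ord.Sieve496_2
import Cfsg.Agent.Lib.H5.Ord.Sieve496_3
import Cfsg.Agent.Lib.H5.Ord.Sieve496_4
import Cfsg.Agent.Lib.H5.Ord.Sieve496_5
import Cfsg.Agent.Lib.H5.Ord.Sieve496_6
import Cfsg.Agent.Lib.H5.Ord.Sieve496_7
import Cfsg.Agent.Lib.H5.Ord.Sieve496_8
import Cfsg.Agent.Lib.H5.Ord.Sieve496_9
import Cfsg.Agent.Lib.H5.Ord.Sieve496_10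

set_option autoImplicit false
open Cfsg

namespace Cfsg.Agent.S0496

open Cfsg.Agent.Lib.H5.Sieve496

/-- A non-abelian finite simple group of order at most 1092 has order 60, 168, 360, 504, 660 or 1092. -/
theorem result {G : Type*} [Group G] [Finite G] [IsSimpleGroup G]
    (hG : ¬ IsMulCommutative G) (h : Nat.card G ≤ 1092) :
    Nat.card G = 60 ∨ Nat.card G = 168 ∨ Nat.card G = 360 ∨ Nat.card G = 504 ∨ Nat.card G = 660 ∨
      Nat.card G = 1092 := by
  by_cases h0 : Nat.card G ≤ 99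
  · exact chunk0 hG (Nat.zero_le _) h0
  by_cases h1 : Nat.card G ≤ 199
  · exact chunk1 hG (by omega) h1
  by_cases h2 : Nat.card G ≤ 299
  · exact chunk2 hG (by omega) h2
  by_cases h3 : Nat.card G ≤ 399
  · exact chunk3 hG (by omega) h3
  by_cases h4 : Nat.card G ≤ 499
  · exact chunk4 hG (by omega) h4
  by_cases h5 : Nat.card G ≤ 599
  · exact chunk5 hG (by omega) h5
  by_cases h6 : Nat.card G ≤ 699
  · exact chunk6 hG (by omega) h6
  by_cases h7 : Nat.card G ≤ 799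
  · exact chunk7 hG (by omega) h7
  by_cases h8 : Nat.card G ≤ 899
  · exact chunk8 hG (by omega) h8
  by_cases h9 : Nat.card G ≤ 999
  · exact chunk9 hG (by omega) h9
  · exact chunk10 hG (by omega) h

end Cfsg.Agent.S0496
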