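import Cfsg.Statements.S0499
import Cfsg.Agent.Lib.L0.FrobeniusPC
import Cfsg.Agent.Lib.H20.PowDecomp
-- import your own Cfsg.Agent.* helpers here

set_option autoImplicit false
open Cfsg

namespace Cfsg.Agent.S0499

open Cfsg.Agent.Lib.L0 Cfsg.Agent.Lib.H20

/-- An element outside a subgroup has a power of prime-power order outside it. -/
theorem exists_prime_pow_not_mem {G : Type*} [Group G] [Finite G] (C : Subgroup G) :
    ∀ n : ℕ, ∀ g : G, orderOf g = n → g ∉ C →
      ∃ q : ℕ, q.Prime ∧ q ∣ n ∧ ∃ k e : ℕ, g ^ k ∉ C ∧ orderOf (g ^ k) = q ^ e := by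
  intro n
  induction n using Nat.strong_induction_on with
  | _ n ih =>
    intro g hgn hgC
    have hn1 : n ≠ 1 := by
      intro h1
      rw [h1, orderOf_eq_one_iff] at hgn
      exact hgC (hgn ▸ C.one_mem)
    have hn0 : 0 < n := hgn ▸ orderOf_pos g
    set p := n.minFac with hp
    have hpp : p.Prime := Nat.minFac_prime hn1
    have hpn : p ∣ n := Nat.minFac_dvd n
    obtain ⟨k, l, hkl, ⟨e, he⟩, hcop⟩ := exists_pPart_pPrimePart g (isOfFinOrder_of_finite g) p hpp
    by_cases hk : g ^ k ∈ C
    · have hl : g ^ l ∉ C := by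
        intro hl
        exact hgC (hkl ▸ C.mul_mem hk hl)
      have hdvd : orderOf (g ^ l) ∣ n := hgn ▸ orderOf_pow_dvd l
      have hlt : orderOf (g ^ l) < n := by
        rcases (Nat.le_of_dvd hn0 hdvd).lt_or_eq with h | h
        · exact h
        · exfalso
          rw [h] at hcop
          have := Nat.Coprime.eq_one_of_dvd hcop.symm hpn
          exact hpp.one_lt.ne' this
      obtain ⟨q, hq, hqn, k', e', h1, h2⟩ := ih _ hlt (g ^ l) rfl hl
      refine ⟨q, hq, hqn.trans hdvd, l * k', e', ?_, ?_⟩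
      · rwa [pow_mul]
      · rwa [pow_mul]
    · exact ⟨p, hpp, hpn, k, e, hk, he⟩

/-- Conjugation action of a subgroup of the normalizer. -/
@[reducible] def conjMulAction {G : Type*} [Group G] (Q K : Subgroup G)
    (hK : K ≤ Subgroup.normalizer (Q : Set G)) : MulAction K Q where
  smul k x := ⟨k * x * k⁻¹, ((Subgroup.mem_normalizer_iff.mp (hK k.2)) x).mp x.2⟩
  one_smul x := by
    apply Subtype.ext
    show ((1 : K) : G) * x * ((1 : K) : G)⁻¹ = x
    simp
  mul_smul a b x := by
    apply Subtype.ext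
    show ((a * b : K) : G) * x * ((a * b : K) : G)⁻¹ = a * (b * x * (b : G)⁻¹) * (a : G)⁻¹
    simp [mul_assoc]

theorem not_frobHyp {G : Type*} [Group G] [Finite G] [IsSimpleGroup G]
    (hG : ¬ IsMulCommutative G) (h2 : Even (Nat.card G)) : ¬ FrobHyp 2 G := by
  intro hF
  have : Fact (Nat.Prime 2) := ⟨Nat.prime_two⟩
  obtain ⟨P, N, hN, hc⟩ := hasNormalPComplement_of_frobHyp hF
  have hcard := hc.card_mul_card
  rcases IsSimpleGroup.eq_bot_or_eq_top_of_normal N hN with h | h
  · rw [h, Subgroup.card_bot, one_mul] at hcard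
    have hP : (P : Subgroup G) = ⊤ := Subgroup.eq_top_of_card_eq _ hcard
    have hpg : IsPGroup 2 G := by
      have := P.2
      rw [hP] at this
      exact IsPGroup.of_equiv this Subgroup.topEquiv
    have hcen : Nontrivial (Subgroup.center G) := hpg.center_nontrivial
    have hct : Subgroup.center G = ⊤ := by
      rcases IsSimpleGroup.eq_bot_or_eq_top_of_normal (Subgroup.center G) inferInstance with h' | h'
      · exfalso
        rw [Subgroup.nontrivial_iff_ne_bot] at hcen
        exact hcen h'
      · exact h'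
    apply hG
    refine ⟨⟨fun a b => ?_⟩⟩
    have ha : a ∈ Subgroup.center G := hct ▸ Subgroup.mem_top a
    exact (Subgroup.mem_center_iff.mp ha b).symm
  · rw [h, Subgroup.card_top] at hcard
    have hP1 : Nat.card (P : Subgroup G) = 1 := by
      have hpos : 0 < Nat.card G := Nat.card_pos
      exact Nat.eq_of_mul_eq_mul_left hpos (by rw [hcard, mul_one])
    have hPb : (P : Subgroup G) = ⊥ := Subgroup.card_eq_one.mp hP1
    exact P.ne_bot_of_dvd_card (even_iff_two_dvd.mp h2) hPb


/-- A non-abelian finite simple group of even order has order divisible by 12, 16 or 56. -/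
theorem result {G : Type*} [Group G] [Finite G] [IsSimpleGroup G]
    (hG : ¬ IsMulCommutative G) (h2 : Even (Nat.card G)) :
    12 ∣ Nat.card G ∨ 16 ∣ Nat.card G ∨ 56 ∣ Nat.card G := by
  by_cases h16 : 16 ∣ Nat.card G
  · exact Or.inr (Or.inl h16)
  have hnF := not_frobHyp hG h2
  unfold FrobHyp at hnF
  push Not at hnF
  obtain ⟨Q, hQ, g, hgN, hgcop, hgC⟩ := hnF
  obtain ⟨q, hq, hqn, k, e, hyC, hye⟩ :=
    exists_prime_pow_not_mem (Subgroup.centralizer (Q : Set G)) _ g rfl hgC
  have hyN : g ^ k ∈ Subgroup.normalizer (Q : Set G) := Subgroup.pow_mem _ hgN k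
  set y := g ^ k with hy
  have hq2 : q ≠ 2 := by
    intro h
    rw [h] at hqn
    have := Nat.Coprime.eq_one_of_dvd hgcop.symm hqn
    omega
  have hqG : q ∣ Nat.card G := hqn.trans (orderOf_dvd_natCard g)
  set K := Subgroup.zpowers y with hK
  have hKN : K ≤ Subgroup.normalizer (Q : Set G) := (Subgroup.zpowers_le).mpr hyN
  have hKq : IsPGroup q K := IsPGroup.of_card (n := e) (by rw [Nat.card_zpowers, hye])
  let act : MulAction K Q := conjMulAction Q K hKN
  have hsmul : ∀ (c : K) (x : Q), ((c • x : Q) : G) = c * x * (c : G)⁻¹ := fun c x => rfl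
  have : Fact q.Prime := ⟨hq⟩
  have hmod := hKq.card_modEq_card_fixedPoints Q
  let F : Subgroup Q :=
    { carrier := {x | y * x * y⁻¹ = x}
      mul_mem' := by
        intro a b ha hb
        show y * ((a * b : Q) : G) * y⁻¹ = ((a * b : Q) : G)
        have ha' : y * (a : G) * y⁻¹ = a := ha
        have hb' : y * (b : G) * y⁻¹ = b := hb
        rw [Subgroup.coe_mul]
        calc y * ((a : G) * b) * y⁻¹ = (y * a * y⁻¹) * (y * b * y⁻¹) := by group
          _ = a * b := by rw [ha', hb']
      one_mem' := by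
        show y * ((1 : Q) : G) * y⁻¹ = ((1 : Q) : G)
        simp
      inv_mem' := by
        intro a ha
        show y * ((a⁻¹ : Q) : G) * y⁻¹ = ((a⁻¹ : Q) : G)
        have ha' : y * (a : G) * y⁻¹ = a := ha
        rw [Subgroup.coe_inv]
        calc y * (a : G)⁻¹ * y⁻¹ = (y * a * y⁻¹)⁻¹ := by group
          _ = (a : G)⁻¹ := by rw [ha'] }
  have hFmem : ∀ x : Q, x ∈ F ↔ y * x * y⁻¹ = x := fun x => Iff.rfl
  have hFix : MulAction.fixedPoints K Q = (F : Set Q) := by
    ext x
    constructor
    · intro hx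
      have := hx ⟨y, Subgroup.mem_zpowers y⟩
      have h' := congrArg Subtype.val this
      rw [hsmul] at h'
      exact h'
    · intro hx c
      have hx' : y * (x : G) * y⁻¹ = x := hx
      have hyc : y ∈ Subgroup.centralizer ({(x : G)} : Set G) := by
        rw [Subgroup.mem_centralizer_iff]
        intro z hz
        rw [Set.mem_singleton_iff] at hz
        rw [hz]
        calc (x : G) * y = (y * x * y⁻¹) * y := by rw [hx']
          _ = y * x := by group
      have hc : (c : G) ∈ Subgroup.centralizer ({(x : G)} : Set G) :=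
        (Subgroup.zpowers_le).mpr hyc c.2
      rw [Subgroup.mem_centralizer_iff] at hc
      have := hc x rfl
      apply Subtype.ext
      rw [hsmul]
      calc (c : G) * x * (c : G)⁻¹ = (x * c) * (c : G)⁻¹ := by rw [this]
        _ = x := by group
  have hcardF : Nat.card (MulAction.fixedPoints K Q) = Nat.card F := by
    rw [hFix]; rfl
  rw [hcardF] at hmod
  obtain ⟨a, ha⟩ := (IsPGroup.iff_card (p := 2)).mp hQ
  have hFdvd : Nat.card F ∣ Nat.card Q := Subgroup.card_subgroup_dvd_card F
  rw [ha] at hFdvd hmod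
  obtain ⟨b, hba, hb⟩ := (Nat.dvd_prime_pow Nat.prime_two).mp hFdvd
  rw [hb] at hmod
  have hQG : 2 ^ a ∣ Nat.card G := ha ▸ Subgroup.card_subgroup_dvd_card Q
  have ha3 : a ≤ 3 := by
    by_contra hcon
    push Not at hcon
    apply h16
    exact (pow_dvd_pow 2 (show 4 ≤ a by omega)).trans hQG
  have hba' : b < a := by
    rcases hba.lt_or_eq with h | h
    · exact h
    · exfalso
      have hFtop : F = ⊤ := by
        apply Subgroup.eq_top_of_card_eq
        rw [hb, ha, h]
      apply hyC
      rw [Subgroup.mem_centralizer_iff]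
      intro x hx
      have : (⟨x, hx⟩ : Q) ∈ F := hFtop ▸ Subgroup.mem_top _
      have h' : y * x * y⁻¹ = x := this
      calc x * y = (y * x * y⁻¹) * y := by rw [h']
        _ = y * x := by group
  have hdvd : q ∣ 2 ^ a - 2 ^ b := by
    apply (Nat.modEq_iff_dvd' _).mp hmod.symm
    exact Nat.pow_le_pow_right (by norm_num) hba
  have hkey : (q = 3 ∧ 2 ≤ a) ∨ (q = 7 ∧ a = 3) := by
    have h3 : Nat.Prime 3 := by norm_num
    have h7 : Nat.Prime 7 := by norm_num
    interval_cases a
    · omega
    · interval_cases b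
      norm_num at hdvd
      exact absurd hdvd hq.one_lt.ne'
    · interval_cases b
      · norm_num at hdvd
        left
        exact ⟨(Nat.prime_dvd_prime_iff_eq hq h3).mp hdvd, le_refl _⟩
      · norm_num at hdvd
        exact absurd ((Nat.prime_dvd_prime_iff_eq hq Nat.prime_two).mp hdvd) hq2
    · interval_cases b
      · norm_num at hdvd
        right
        exact ⟨(Nat.prime_dvd_prime_iff_eq hq h7).mp hdvd, rfl⟩
      · norm_num at hdvd
        have : q ∣ 2 * 3 := hdvd
        rcases (Nat.Prime.dvd_mul hq).mp this with h | h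
        · exact absurd ((Nat.prime_dvd_prime_iff_eq hq Nat.prime_two).mp h) hq2
        · left
          exact ⟨(Nat.prime_dvd_prime_iff_eq hq h3).mp h, by norm_num⟩
      · norm_num at hdvd
        have : q ∣ 2 * 2 := hdvd
        rcases (Nat.Prime.dvd_mul hq).mp this with h | h <;>
          exact absurd ((Nat.prime_dvd_prime_iff_eq hq Nat.prime_two).mp h) hq2
  rcases hkey with ⟨hq3, ha2⟩ | ⟨hq7, ha3'⟩
  · left
    have h4 : 4 ∣ Nat.card G := (pow_dvd_pow 2 ha2).trans hQG
    have h3 : 3 ∣ Nat.card G := hq3 ▸ hqG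
    exact Nat.Coprime.mul_dvd_of_dvd_of_dvd (by norm_num : Nat.Coprime 3 4) h3 h4
  · right; right
    have h8 : 8 ∣ Nat.card G := by
      have := hQG
      rw [ha3'] at this
      exact this
    have h7 : 7 ∣ Nat.card G := hq7 ▸ hqG
    exact Nat.Coprime.mul_dvd_of_dvd_of_dvd (by norm_num : Nat.Coprime 7 8) h7 h8


end Cfsg.Agent.S0499
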