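import Cfsg.Statements.S0505
import Cfsg.Agent.Lib.H7.CharP
import Cfsg.Agent.Lib.H7.PConstrained3
import Cfsg.Agent.Lib.H7.Components

set_option autoImplicit false
open Cfsg
open Cfsg.Agent.Lib.H7
set_option autoImplicit false

namespace Cfsg.Agent.S0505

/-- `A ∩ B` viewed inside `B` and inside `A`. -/
def subgroupOfSwap {G : Type*} [Group G] (A B : Subgroup G) :
    ↥(A.subgroupOf B) ≃* ↥(B.subgroupOf A) where
  toFun y := ⟨⟨y.1.1, y.2⟩, y.1.2⟩
  invFun y := ⟨⟨y.1.1, y.2⟩, y.1.2⟩
  left_inv _ := rfl
  right_inv _ := rfl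
  map_mul' _ _ := rfl


/-- Let G be a finite group of even order in which the centralizer of every involution is solvable and has trivial
core (no nontrivial normal subgroup of odd order). Then G is of characteristic 2 type. -/
theorem result {G : Type*} [Group G] [Finite G]
    (h2 : Even (Nat.card G))
    (hs : ∀ t : G, orderOf t = 2 → Group.IsSolvable (Subgroup.centralizer ({t} : Set G)))
    (hc : ∀ t : G, orderOf t = 2 → Cfsg.oddCore (Subgroup.centralizer ({t} : Set G)) = ⊥) :
    Cfsg.IsCharacteristicTwoType G := by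
  refine ⟨h2, ?_⟩
  intro T hT hT1
  have hp2 : Fact (Nat.Prime 2) := ⟨Nat.prime_two⟩
  have hnt : Nontrivial ↥T := (Subgroup.nontrivial_iff_ne_bot T).2 hT1
  have hZ : Nontrivial (Subgroup.center ↥T) := hT.center_nontrivial
  have hdvd : 2 ∣ Nat.card (Subgroup.center ↥T) := by
    obtain ⟨k, hk⟩ := IsPGroup.iff_card.1 (hT.to_subgroup (Subgroup.center ↥T))
    have hk0 : k ≠ 0 := by
      rintro rfl
      rw [pow_zero] at hk
      have := (Nat.card_eq_one_iff_unique.1 hk).1
      exact not_subsingleton _ this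
    rw [hk]
    exact dvd_pow_self 2 hk0
  obtain ⟨z, hz⟩ := exists_prime_orderOf_dvd_card' 2 hdvd
  have hxo : orderOf ((z : ↥T) : G) = 2 := by
    rw [Subgroup.orderOf_coe, Subgroup.orderOf_coe]; exact hz
  have hxT : ((z : ↥T) : G) ∈ T := (z : ↥T).2
  have hxc : ∀ t ∈ T, t * ((z : ↥T) : G) = ((z : ↥T) : G) * t := by
    intro t ht
    have := Subgroup.mem_center_iff.1 z.2 ⟨t, ht⟩
    exact congrArg Subtype.val this
  generalize ((z : ↥T) : G) = x at hxo hxT hxc
  have hTX : T ≤ Subgroup.centralizer ({x} : Set G) := by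
    intro t ht
    rw [Subgroup.mem_centralizer_singleton_iff]
    exact hxc t ht
  have hXs : Group.IsSolvable ↥(Subgroup.centralizer ({x} : Set G)) := hs x hxo
  have hXO : pPrimeCore 2 ↥(Subgroup.centralizer ({x} : Set G)) = ⊥ := hc x hxo
  have hXl : layer ↥(Subgroup.centralizer ({x} : Set G)) = ⊥ := by
    unfold layer
    rw [eq_bot_iff]
    apply sSup_le
    intro K hK
    exact absurd (inferInstance : Group.IsSolvable K) (component_not_solvable hK)
  have hX2 := centralizer_pCore_le_of_layer_eq_bot 2 hXO hXl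
  have h1 := gfs_normalizer_eq_pCore_of_centralizer_le 2 hX2
    (T.subgroupOf (Subgroup.centralizer ({x} : Set G))) hT.comap_subtype
  have h3 := centralizer_pCore_le_of_generalizedFittingSubgroup_eq 2 h1
  have hxN : x ∈ Subgroup.normalizer (T : Set G) := Subgroup.le_normalizer hxT
  have hC' : Subgroup.centralizer ({(⟨x, hxN⟩ : ↥(Subgroup.normalizer (T : Set G)))} :
      Set ↥(Subgroup.normalizer (T : Set G))) =
      (Subgroup.centralizer ({x} : Set G)).subgroupOf (Subgroup.normalizer (T : Set G)) := by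
    ext y
    rw [Subgroup.mem_centralizer_singleton_iff, Subgroup.mem_subgroupOf,
      Subgroup.mem_centralizer_singleton_iff]
    constructor
    · intro h; exact congrArg Subtype.val h
    · intro h; exact Subtype.ext h
  have e := ((MulEquiv.subgroupCongr (Subgroup.subgroupOf_normalizer_eq hTX).symm).trans
    (subgroupOfSwap (Subgroup.normalizer (T : Set G)) (Subgroup.centralizer ({x} : Set G)))).trans
      (MulEquiv.subgroupCongr hC'.symm)
  have h4 := centralizer_pCore_le_of_mulEquiv 2 e h3
  unfold IsOfCharacteristicTwo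
  have hxQ : (⟨x, hxN⟩ : ↥(Subgroup.normalizer (T : Set G))) ∈
      pCore 2 ↥(Subgroup.normalizer (T : Set G)) := by
    have hn : (T.subgroupOf (Subgroup.normalizer (T : Set G))).Normal :=
      Subgroup.normal_in_normalizer
    exact Cfsg.Agent.Lib.H1.le_pCore hn (hT.comap_subtype) (Subgroup.mem_subgroupOf.2 hxT)
  exact centralizer_pCore_le_of_centralizer_singleton 2 hxQ h4

end Cfsg.Agent.S0505
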