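import Cfsg.Statements.S0522
import Cfsg.Agent.Lib.H7.GorT11
import Cfsg.Agent.Lib.H7.PConstrained4
import Cfsg.Agent.Lib.H7.DihedralLemma2
import Cfsg.Agent.Lib.H10.SylowIn

set_option autoImplicit false
open Cfsg
open scoped commutatorElement
set_option linter.style.haveILetI false

namespace Cfsg.Agent.S0522

/-- Transitivity Theorem (odd-order setting). Let X be a finite group of odd order in which the normalizer of every
nontrivial p-subgroup is solvable, P a Sylow p-subgroup, and B an abelian subgroup of P, normalized by P, with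
C_P(B) = B and containing an elementary abelian subgroup of order p^3. Then for every prime q ≠ p, any two q-subgroups
that are maximal among the q-subgroups normalized by B are conjugate by an element of the centralizer of B. -/
theorem result {X : Type*} [Group X] [Finite X] (hX : Odd (Nat.card X)) (p : ℕ)
    [Fact p.Prime] (hloc : ∀ T : Subgroup X, IsPGroup p T → T ≠ ⊥ → Group.IsSolvable (Subgroup.normalizer (T : Set X)))
    (P : Sylow p X) (B : Subgroup X) (hBP : B ≤ (P : Subgroup X))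
    (hBn : ∀ x ∈ (P : Subgroup X), ∀ b ∈ B, x * b * x⁻¹ ∈ B) (hBa : IsMulCommutative B)
    (hBc : (P : Subgroup X) ⊓ Subgroup.centralizer (B : Set X) = B)
    (hB3 : ∃ E : Subgroup X, E ≤ B ∧ (∀ e ∈ E, e ^ p = 1) ∧ p ^ 3 ≤ Nat.card E)
    (q : ℕ) [Fact q.Prime] (hqp : q ≠ p) (Q₁ Q₂ : Subgroup X)
    (h₁ : IsPGroup q Q₁ ∧ B ≤ Subgroup.normalizer (Q₁ : Set X) ∧
      ∀ R : Subgroup X, IsPGroup q R → B ≤ Subgroup.normalizer (R : Set X) → Q₁ ≤ R → R = Q₁)
    (h₂ : IsPGroup q Q₂ ∧ B ≤ Subgroup.normalizer (Q₂ : Set X) ∧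
      ∀ R : Subgroup X, IsPGroup q R → B ≤ Subgroup.normalizer (R : Set X) → Q₂ ≤ R → R = Q₂) :
    ∃ c ∈ Subgroup.centralizer (B : Set X), Q₂ = Q₁.map (MulAut.conj c).toMonoidHom := by
  have hp : p.Prime := Fact.out
  obtain ⟨E, hEB, hEp, hE3⟩ := hB3
  have hBp : IsPGroup p B := P.isPGroup'.to_le hBP
  have hBc' : ∀ x ∈ B, ∀ y ∈ B, x * y = y * x := by
    intro x hx y hy
    have h := mul_comm' (⟨x, hx⟩ : B) ⟨y, hy⟩
    exact congrArg Subtype.val h
  -- `p` is odd
  have hp2 : p ≠ 2 := by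
    rintro rfl
    have hEP : IsPGroup 2 E := hBp.to_le hEB
    obtain ⟨k, hk⟩ := IsPGroup.iff_card.1 hEP
    have hk1 : k ≠ 0 := by
      rintro rfl
      rw [hk] at hE3
      norm_num at hE3
    have h2 : 2 ∣ Nat.card X := by
      have h3 : 2 ∣ Nat.card E := by rw [hk]; exact dvd_pow_self 2 hk1
      exact h3.trans (Subgroup.card_subgroup_dvd_card E)
    rw [Nat.odd_iff] at hX
    omega
  -- `p`-locals are `p`-constrained
  have hloc' : ∀ T : Subgroup X, IsPGroup p T → T ≠ ⊥ →
      IsPConstrained p ↥(Subgroup.normalizer (T : Set X)) := by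
    intro T hT hT1
    haveI := hloc T hT hT1
    rw [Cfsg.Agent.Lib.H7.isPConstrained_iff_layer_quotient_eq_bot]
    haveI : Group.IsSolvable (↥(Subgroup.normalizer (T : Set X)) ⧸
        pPrimeCore p ↥(Subgroup.normalizer (T : Set X))) :=
      Group.isSolvable_of_surjective (QuotientGroup.mk'_surjective _)
    exact Cfsg.Agent.Lib.H7.layer_eq_bot_of_isSolvable _
  -- `B` contains every `p`-element of its centralizer
  have hBfull : ∀ x ∈ Subgroup.centralizer (B : Set X), IsPGroup p (Subgroup.zpowers x) → x ∈ B := by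
    intro x hx hxp
    set C : Subgroup X := Subgroup.centralizer (B : Set X) with hC
    set N : Subgroup X := Subgroup.normalizer (B : Set X) with hN
    have hPN : (P : Subgroup X) ≤ N := by
      intro y hy
      have key : ∀ z ∈ (P : Subgroup X), ∀ b ∈ B, z * b * z⁻¹ ∈ B := hBn
      rw [hN, Subgroup.mem_normalizer_iff]
      intro b
      constructor
      · intro hb
        exact key y hy b hb
      · intro hb
        have := key y⁻¹ (Subgroup.inv_mem _ hy) _ hb
        have e : y⁻¹ * (y * b * y⁻¹) * y⁻¹⁻¹ = b := by group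
        rwa [e] at this
    have hBC : B ≤ C := by
      intro b hb
      rw [hC, Subgroup.mem_centralizer_iff]
      intro y hy
      exact hBc' _ hy _ hb
    have hCN : C ≤ N := Subgroup.centralizer_le_normalizer _
    have hNC : N ≤ Subgroup.normalizer (C : Set X) :=
      Cfsg.Agent.Lib.H7.BG7.normalizer_le_normalizer_centralizer _
    set U : Subgroup X := Subgroup.zpowers x ⊔ B with hU
    have hzC : Subgroup.zpowers x ≤ C := (Subgroup.zpowers_le).2 hx
    have hUp : IsPGroup p U := IsPGroup.to_sup_of_normal_right' hxp hBp (hzC.trans hCN)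
    have hUC : U ≤ C := sup_le hzC hBC
    have hPi : ¬ p ∣ (P : Subgroup X).relIndex N := by
      intro hdvd
      apply P.not_dvd_index
      rw [← Subgroup.relIndex_mul_index hPN]
      exact hdvd.mul_right _
    obtain ⟨m, hmN, hmU⟩ := Cfsg.Agent.Lib.H10.exists_mem_map_conj_le_of_sylowIn P.isPGroup' hPN hPi
      hUp (hUC.trans hCN)
    have hUB : U.map (MulAut.conj m).toMonoidHom ≤ B := by
      rw [← hBc]
      refine le_inf hmU ?_
      rintro _ ⟨u, hu, rfl⟩
      exact (Subgroup.mem_normalizer_iff.1 (hNC hmN) u).1 (hUC hu)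
    have hcard : Nat.card U ≤ Nat.card B := by
      rw [← Cfsg.Agent.Lib.H10.card_map_conj m U]
      exact Subgroup.card_le_of_le hUB
    have hBU : B ≤ U := le_sup_right
    have : B = U := Subgroup.eq_of_le_of_card_ge hBU hcard
    rw [this]
    exact Subgroup.mem_sup_left (Subgroup.mem_zpowers x)
  obtain ⟨k, hk, hkQ⟩ := Cfsg.Agent.Lib.H7.GorT.transitivity_thm p hloc' (Or.inl hp2) B hBp hBc'
    ⟨E, hEB, ⟨⟨⟨fun a b => Subtype.ext (hBc' _ (hEB a.2) _ (hEB b.2))⟩⟩, hEp⟩, hE3⟩ hBfull q hqp Q₁ Q₂ h₁ h₂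
  exact ⟨k, Cfsg.Agent.Lib.H7.BG7.piCoreOf_le _ _ hk, hkQ.symm⟩

end Cfsg.Agent.S0522
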