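import Cfsg.Statements.S0528
-- import your own Cfsg.Agent.* helpers here
import Cfsg.Agent.Lib.H3.Supersolvable
import Mathlib

set_option autoImplicit false
open Cfsg

namespace Cfsg.Agent.S0528

/-- An extension of a cyclic normal subgroup by a supersolvable group is supersolvable: if N is a cyclic normal subgroup of a finite group G and G modulo N is supersolvable, then G is supersolvable. -/
theorem result {G : Type*} [Group G] [Finite G] (N : Subgroup G) [N.Normal] [IsCyclic N] (h : Cfsg.IsSupersolvable (G ⧸ N)) : Cfsg.IsSupersolvable G := by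
  rw [Cfsg.Agent.Lib.H3.isSupersolvable_iff] at h ⊢
  obtain ⟨⟨n0, hn0⟩, hgen⟩ := (inferInstance : IsCyclic N).exists_generator
  have hN : N = ⊥ ⊔ Subgroup.zpowers n0 := by
    rw [bot_sup_eq]
    apply le_antisymm
    · intro x hx
      obtain ⟨k, hk⟩ := Subgroup.mem_zpowers_iff.1 (hgen ⟨x, hx⟩)
      have := congrArg Subtype.val hk
      simp only [Subgroup.coe_zpow] at this
      exact Subgroup.mem_zpowers_iff.2 ⟨k, this⟩
    · rwa [Subgroup.zpowers_le]
  have hker : Cfsg.Agent.Lib.H3.SSReach (QuotientGroup.mk' N).ker := by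
    rw [QuotientGroup.ker_mk']
    have hn : (⊥ ⊔ Subgroup.zpowers n0).Normal := by rw [← hN]; infer_instance
    have := Cfsg.Agent.Lib.H3.SSReach.step ⊥ n0 Cfsg.Agent.Lib.H3.SSReach.bot hn
    rwa [← hN] at this
  have := Cfsg.Agent.Lib.H3.SSReach.comap (QuotientGroup.mk' N) (QuotientGroup.mk'_surjective N) hker h
  rwa [Subgroup.comap_top] at this

end Cfsg.Agent.S0528
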