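import Cfsg.Statements.S0530
-- import your own Cfsg.Agent.* helpers here
import Cfsg.Agent.Lib.H3.Supersolvable4
import Mathlib

set_option autoImplicit false
open Cfsg

namespace Cfsg.Agent.S0530

/-- A finite group whose order is twice a prime power is supersolvable. -/
theorem result {G : Type*} [Group G] [Finite G] (p n : ℕ) (hp : p.Prime) (hG : Nat.card G = 2 * p ^ n) : Cfsg.IsSupersolvable G := by
  rw [Cfsg.Agent.Lib.H3.isSupersolvable_iff]
  have : Fact p.Prime := ⟨hp⟩
  by_cases hp2 : p = 2
  · subst hp2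
    refine Cfsg.Agent.Lib.H3.ssReach_top_of_isPGroup 2 _ G rfl ?_
    exact IsPGroup.of_card (n := n + 1) (by rw [hG, pow_succ, mul_comm])
  · exact Cfsg.Agent.Lib.H3.ssReach_top_of_card_two_mul_prime_pow p hp2 n G hG

end Cfsg.Agent.S0530
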