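import Cfsg.Statements.S0532
-- import your own Cfsg.Agent.* helpers here
import Cfsg.Agent.Lib.H3.Basic
import Mathlib

set_option autoImplicit false
open Cfsg

namespace Cfsg.Agent.S0532

theorem hasSubgroupOfEveryOrder_of_mulEquiv {A B : Type*} [Group A] [Group B] (e : A ≃* B)
    (hA : HasSubgroupOfEveryOrder A) : HasSubgroupOfEveryOrder B := by
  intro d hd
  rw [← Nat.card_congr e.toEquiv] at hd
  obtain ⟨H, hH⟩ := hA d hd
  exact ⟨H.map e.toMonoidHom, by rw [Subgroup.card_map_of_injective e.injective, hH]⟩

theorem main.{u} : ∀ (n : ℕ) (G : Type u) [Group G] [Finite G], Nat.card G = n →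
    (∀ H : Subgroup G, HasSubgroupOfEveryOrder H) → ∀ (p : ℕ) [Fact p.Prime], p ∣ Nat.card G →
    (∀ q : ℕ, q.Prime → q ∣ Nat.card G → q ≤ p) → ∃ P : Sylow p G, (P : Subgroup G).Normal := by
  intro n
  induction n using Nat.strong_induction_on with
  | _ n ih =>
  intro G _ _ hcard h p hpF hdvd hmax
  have hp := hpF.out
  have hne1 : Nat.card G ≠ 1 := by
    intro h1; rw [h1] at hdvd; exact hp.one_lt.ne' (Nat.dvd_one.1 hdvd)
  have hq := Nat.minFac_prime hne1
  set q := (Nat.card G).minFac with hqdef
  have hqd : q ∣ Nat.card G := Nat.minFac_dvd _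
  by_cases hqp : q = p
  · -- G is a p-group
    have hpow : Nat.card G = p ^ (Nat.card G).primeFactorsList.length := by
      apply Nat.eq_prime_pow_of_unique_prime_dvd Nat.card_pos.ne'
      intro r hr hrd
      apply le_antisymm (hmax r hr hrd)
      rw [← hqp]
      exact Nat.minFac_le_of_dvd hr.two_le hrd
    have hG : IsPGroup p G := IsPGroup.of_card hpow
    obtain ⟨P⟩ := (inferInstance : Nonempty (Sylow p G))
    refine ⟨P, ?_⟩
    have : (P : Subgroup G) = ⊤ := by
      exact (P.is_maximal' (Q := ⊤) (hG.to_subgroup ⊤) le_top).symm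
    rw [this]; infer_instance
  · have hqltp : q < p := lt_of_le_of_ne (hmax q hq hqd) hqp
    obtain ⟨M0, hM0⟩ := h ⊤ (Nat.card G / q)
      (by rw [Subgroup.card_top]; exact Nat.div_dvd_of_dvd hqd)
    set M := M0.map (⊤ : Subgroup G).subtype with hMdef
    have hMcard : Nat.card M = Nat.card G / q := by rw [Subgroup.card_subtype, hM0]
    have hGM : Nat.card G = q * Nat.card M := by
      rw [hMcard, Nat.mul_div_cancel' hqd]
    have hMidx : M.index = q := by
      have h1 := Subgroup.index_mul_card M
      rw [hGM] at h1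
      exact Nat.eq_of_mul_eq_mul_right Nat.card_pos h1
    have hMn : M.Normal := Subgroup.normal_of_index_eq_minFac_card hMidx
    have hMlt : Nat.card M < n := by
      rw [← hcard, hGM]
      exact lt_mul_of_one_lt_left Nat.card_pos hq.one_lt
    have hMh : ∀ H' : Subgroup M, HasSubgroupOfEveryOrder H' := by
      intro H'
      exact hasSubgroupOfEveryOrder_of_mulEquiv
        (Subgroup.equivMapOfInjective H' M.subtype M.subtype_injective).symm
        (h (H'.map M.subtype))
    have hpM : p ∣ Nat.card M := by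
      rw [hGM] at hdvd
      rcases (Nat.Prime.dvd_mul hp).1 hdvd with h1 | h1
      · exact absurd ((Nat.prime_dvd_prime_iff_eq hp hq).1 h1).symm hqp
      · exact h1
    have hmaxM : ∀ r : ℕ, r.Prime → r ∣ Nat.card M → r ≤ p := by
      intro r hr hrd
      exact hmax r hr (hGM ▸ Dvd.dvd.mul_left hrd q)
    obtain ⟨PM, hPMn⟩ := ih _ hMlt M rfl hMh p hpM hmaxM
    have hPMc : (PM : Subgroup M).Characteristic := Sylow.characteristic_of_normal PM hPMn
    have hP0n : ((PM : Subgroup M).map M.subtype).Normal :=
      Cfsg.Agent.Lib.H3.normal_map_subtype_of_char M (PM : Subgroup M)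
    have hfac : (Nat.card G).factorization p = (Nat.card M).factorization p := by
      rw [hGM, Nat.factorization_mul hq.ne_zero Nat.card_pos.ne']
      simp only [Finsupp.coe_add, Pi.add_apply]
      rw [Nat.factorization_eq_zero_of_not_dvd, zero_add]
      intro hpq
      exact hqp ((Nat.prime_dvd_prime_iff_eq hp hq).1 hpq).symm
    have hP0card : Nat.card ((PM : Subgroup M).map M.subtype) = p ^ (Nat.card G).factorization p := by
      rw [Subgroup.card_subtype, hfac]
      exact Sylow.card_eq_multiplicity PM
    refine ⟨Sylow.ofCard _ hP0card, ?_⟩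
    rw [Sylow.coe_ofCard]
    exact hP0n

/-- If each subgroup of a finite group satisfies the converse of Lagrange's theorem, then a Sylow subgroup for the largest prime dividing the group order is normal. -/
theorem result {G : Type*} [Group G] [Finite G] (h : ∀ H : Subgroup G, Cfsg.HasSubgroupOfEveryOrder H) (p : ℕ) [Fact p.Prime] (hdvd : p ∣ Nat.card G) (hmax : ∀ q : ℕ, q.Prime → q ∣ Nat.card G → q ≤ p) (P : Sylow p G) : (P : Subgroup G).Normal := by
  obtain ⟨P0, hP0⟩ := main _ G rfl h p hdvd hmax
  obtain ⟨g, rfl⟩ := MulAction.exists_smul_eq G P0 P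
  rw [Sylow.smul_eq_of_normal]
  exact hP0

end Cfsg.Agent.S0532
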