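import Cfsg.Statements.S0535
-- import your own Cfsg.Agent.* helpers here
import Cfsg.Agent.Lib.H1.HallConverse
import Cfsg.Agent.Lib.H1.IndexBasic
import Mathlib

set_option autoImplicit false
open Cfsg

namespace Cfsg.Agent.S0535


theorem exists_pcomplement_in {G : Type*} [Group G] [Finite G]
    (h : ∀ H : Subgroup G, H ≠ ⊥ → ∀ p : ℕ, p.Prime → p ∣ Nat.card H →
      ∃ K : Subgroup H, K ≠ ⊤ ∧ ∃ k : ℕ, K.index = p ^ k) (p : ℕ) (hp : p.Prime) :
    ∀ (n : ℕ) (H : Subgroup G), Nat.card H = n →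
      ∃ K : Subgroup G, K ≤ H ∧ (∃ j : ℕ, K.relIndex H = p ^ j) ∧ ¬ p ∣ Nat.card K := by
  intro n
  induction n using Nat.strong_induction_on with
  | _ n ih =>
  intro H hn
  by_cases hdvd : p ∣ Nat.card H
  · have hH1 : H ≠ ⊥ := by
      rintro rfl
      rw [Subgroup.card_bot] at hdvd
      exact hp.one_lt.ne' (Nat.dvd_one.1 hdvd)
    obtain ⟨K', hK'top, k, hk⟩ := h H hH1 p hp hdvd
    set K₁ := K'.map H.subtype with hK₁
    have hK₁H : K₁ ≤ H := Subgroup.map_subtype_le K'
    have hsub : K₁.subgroupOf H = K' :=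
      Subgroup.comap_map_eq_self_of_injective (Subgroup.subtype_injective H) K'
    have hrel : K₁.relIndex H = p ^ k := by
      unfold Subgroup.relIndex
      rw [hsub, hk]
    have hlt : Nat.card K₁ < n := by
      rw [← hn]
      have h1 : Nat.card K₁ = Nat.card K' :=
        Subgroup.card_map_of_injective (Subgroup.subtype_injective H)
      rw [h1]
      have h2 := Subgroup.card_mul_index K'
      have h3 : K'.index ≠ 1 := fun h => hK'top (Subgroup.index_eq_one.1 h)
      have h4 : 0 < K'.index := Nat.pos_of_ne_zero Subgroup.index_ne_zero_of_finite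
      have h5 : 0 < Nat.card K' := Nat.card_pos
      have h6 : 2 ≤ K'.index := by omega
      nlinarith
    obtain ⟨K, hKK₁, ⟨j, hj⟩, hpK⟩ := ih _ hlt K₁ rfl
    refine ⟨K, hKK₁.trans hK₁H, ⟨j + k, ?_⟩, hpK⟩
    rw [← Subgroup.relIndex_mul_relIndex K K₁ H hKK₁ hK₁H, hj, hrel, pow_add]
  · exact ⟨H, le_rfl, ⟨0, by rw [Subgroup.relIndex_self, pow_zero]⟩, hdvd⟩

/-- Suppose that for every nontrivial subgroup H of a finite group and every prime p dividing the order of H there is a proper subgroup of H whose index in H is a power of p. Then the group is solvable. -/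
theorem result {G : Type*} [Group G] [Finite G] (h : ∀ H : Subgroup G, H ≠ ⊥ → ∀ p : ℕ, p.Prime → p ∣ Nat.card H → ∃ K : Subgroup H, K ≠ ⊤ ∧ ∃ k : ℕ, K.index = p ^ k) : Group.IsSolvable G := by
  apply Cfsg.Agent.Lib.H1.isSolvable_of_hasPComplements
  intro p hp
  obtain ⟨K, _, ⟨j, hj⟩, hpK⟩ := exists_pcomplement_in h p hp _ ⊤ rfl
  refine ⟨K, ?_⟩
  rw [Subgroup.relIndex_top_right] at hj
  exact Cfsg.Agent.Lib.H1.index_eq_pow_factorization hp hj
    ((Nat.Prime.coprime_iff_not_dvd hp).2 hpK).symm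

end Cfsg.Agent.S0535
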