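import Cfsg.Statements.S0577
-- import your own Cfsg.Agent.* helpers here
import Cfsg.Agent.Lib.H3.Schmidt2
import Mathlib

set_option autoImplicit false
open Cfsg

namespace Cfsg.Agent.S0577
open scoped commutatorElement


/-- A finite nilpotent group all of whose Sylow subgroups are commutative is commutative. -/
theorem comm_of_isNilpotent_of_sylow_comm {K : Type*} [Group K] [Finite K]
    (hK : Group.IsNilpotent K)
    (h : ∀ (p : ℕ) [Fact p.Prime] (P : Sylow p K), ∀ a ∈ (P : Subgroup K),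
      ∀ b ∈ (P : Subgroup K), a * b = b * a) :
    ∀ x y : K, x * y = y * x := by
  obtain ⟨e⟩ := ((Group.isNilpotent_of_finite_tfae (G := K)).out 0 4).1 hK
  intro x y
  apply e.symm.injective
  rw [map_mul, map_mul]
  funext p P
  have : Fact (p : ℕ).Prime := ⟨Nat.prime_of_mem_primeFactors p.2⟩
  apply Subtype.ext
  exact h p P _ (e.symm x p P).2 _ (e.symm y p P).2

/-- Let G be a finite minimal non-nilpotent group and Q a normal Sylow q-subgroup of G, and let D be the commutator subgroup of Q regarded in G (a normal subgroup). Then G modulo D is non-abelian and all its proper subgroups are abelian. -/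
theorem result {G : Type*} [Group G] [Finite G] (hG : Cfsg.IsMinimalNonNilpotent G) (q : ℕ) [Fact q.Prime] (hq : q ∣ Nat.card G) (Q : Sylow q G) (hQ : (Q : Subgroup G).Normal) (D : Subgroup G) [D.Normal] (hD : D = (commutator ↥(Q : Subgroup G)).map (Q : Subgroup G).subtype) : ¬ IsMulCommutative (G ⧸ D) ∧ ∀ K : Subgroup (G ⧸ D), K ≠ ⊤ → IsMulCommutative K := by
  classical
  obtain ⟨p₀, q₀, hp₀, hq₀, hpq, P₀, Q₀, hcyc, hQ₀n, hsup, hP₀nn⟩ :=
    Cfsg.Agent.Lib.H3.schmidt_structure hG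
  have hqpr : q.Prime := Fact.out
  have hp₀F : Fact p₀.Prime := ⟨hp₀⟩
  have hq₀F : Fact q₀.Prime := ⟨hq₀⟩
  have hqp₀ : q ≠ p₀ := by
    rintro rfl
    have hu := Sylow.unique_of_normal Q hQ
    have h1 : P₀ = Q := Subsingleton.elim _ _
    exact hP₀nn (h1 ▸ hQ)
  have hqq₀ : q = q₀ := by
    have h1 : Nat.card G ∣ Nat.card P₀ * Nat.card Q₀ := by
      have h2 : Nat.card (⊤ : Subgroup G) = Nat.card G := Subgroup.card_top
      rw [← h2, ← hsup]
      have h3 := Subgroup.relIndex_mul_relIndex ⊥ (Q₀ : Subgroup G) ((P₀ : Subgroup G) ⊔ Q₀)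
        bot_le le_sup_right
      rw [Subgroup.relIndex_bot_left, Subgroup.relIndex_bot_left,
        Subgroup.relIndex_sup_right] at h3
      rw [← h3, mul_comm]
      exact Nat.mul_dvd_mul_right (Subgroup.relIndex_dvd_card _ _) _
    obtain ⟨a, ha⟩ := IsPGroup.iff_card.1 P₀.2
    obtain ⟨b, hb⟩ := IsPGroup.iff_card.1 Q₀.2
    rw [ha, hb] at h1
    rcases (Nat.Prime.dvd_mul hqpr).1 (hq.trans h1) with h | h
    · exact absurd ((Nat.prime_dvd_prime_iff_eq hqpr hp₀).1 (hqpr.dvd_of_dvd_pow h)) hqp₀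
    · exact (Nat.prime_dvd_prime_iff_eq hqpr hq₀).1 (hqpr.dvd_of_dvd_pow h)
  subst hqq₀
  have hQQ : Q₀ = Q := by
    have hu := Sylow.unique_of_normal Q hQ
    exact Subsingleton.elim _ _
  subst hQQ
  have hPQ : (P₀ : Subgroup G) ⊓ Q₀ = ⊥ :=
    (IsPGroup.disjoint_of_ne p₀ q hpq _ _ P₀.2 Q₀.2).eq_bot
  have hP₀comm : ∀ x ∈ (P₀ : Subgroup G), ∀ y ∈ (P₀ : Subgroup G), x * y = y * x := by
    intro x hx y hy
    obtain ⟨g, hg⟩ := hcyc.exists_generator
    obtain ⟨m, hm⟩ := Subgroup.mem_zpowers_iff.1 (hg ⟨x, hx⟩)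
    obtain ⟨n, hn⟩ := Subgroup.mem_zpowers_iff.1 (hg ⟨y, hy⟩)
    have h1 : (⟨x, hx⟩ : (P₀ : Subgroup G)) * ⟨y, hy⟩ = ⟨y, hy⟩ * ⟨x, hx⟩ := by
      rw [← hm, ← hn, ← zpow_add, ← zpow_add, add_comm]
    exact congrArg Subtype.val h1
  have hcommG : ∀ a b : G, ⁅a, b⁆ ∈ (Q₀ : Subgroup G) := by
    intro a b
    have ha : a ∈ (P₀ : Subgroup G) ⊔ Q₀ := by rw [hsup]; exact Subgroup.mem_top a
    have hb : b ∈ (P₀ : Subgroup G) ⊔ Q₀ := by rw [hsup]; exact Subgroup.mem_top b
    obtain ⟨x, hx, u, hu, rfl⟩ := Subgroup.mem_sup_of_normal_right.1 ha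
    obtain ⟨y, hy, v, hv, rfl⟩ := Subgroup.mem_sup_of_normal_right.1 hb
    rw [← QuotientGroup.eq_one_iff]
    have h1 : ((⁅x * u, y * v⁆ : G) : G ⧸ (Q₀ : Subgroup G)) =
        ⁅((x * u : G) : G ⧸ (Q₀ : Subgroup G)), ((y * v : G) : G ⧸ (Q₀ : Subgroup G))⁆ :=
      map_commutatorElement (QuotientGroup.mk' (Q₀ : Subgroup G)) _ _
    have hu1 : ((u : G) : G ⧸ (Q₀ : Subgroup G)) = 1 := (QuotientGroup.eq_one_iff u).2 hu
    have hv1 : ((v : G) : G ⧸ (Q₀ : Subgroup G)) = 1 := (QuotientGroup.eq_one_iff v).2 hv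
    rw [h1, QuotientGroup.mk_mul, QuotientGroup.mk_mul, hu1, hv1, mul_one, mul_one,
      commutatorElement_eq_one_iff_mul_comm, ← QuotientGroup.mk_mul, ← QuotientGroup.mk_mul,
      hP₀comm x hx y hy]
  have hDQ : D ≤ (Q₀ : Subgroup G) := by rw [hD]; exact Subgroup.map_subtype_le _
  have hSyl : ∀ (r : ℕ) [Fact r.Prime] (S : Sylow r G), ∀ x ∈ (S : Subgroup G),
      ∀ y ∈ (S : Subgroup G), ⁅x, y⁆ ∈ D := by
    intro r hrF S x hx y hy
    by_cases hrq : r = q
    · subst hrq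
      have hu := Sylow.unique_of_normal Q₀ hQ
      have hSQ : S = Q₀ := Subsingleton.elim _ _
      subst hSQ
      rw [hD]
      refine ⟨⁅(⟨x, hx⟩ : (S : Subgroup G)), ⟨y, hy⟩⁆, ?_, rfl⟩
      exact Subgroup.commutator_mem_commutator (Subgroup.mem_top _) (Subgroup.mem_top _)
    · have h1 : ⁅x, y⁆ ∈ (S : Subgroup G) ⊓ Q₀ := by
        refine ⟨?_, hcommG x y⟩
        rw [commutatorElement_def]
        exact Subgroup.mul_mem _ (Subgroup.mul_mem _ (Subgroup.mul_mem _ hx hy)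
          (Subgroup.inv_mem _ hx)) (Subgroup.inv_mem _ hy)
      rw [(IsPGroup.disjoint_of_ne r q hrq _ _ S.2 Q₀.2).eq_bot, Subgroup.mem_bot] at h1
      rw [h1]; exact D.one_mem
  set π := QuotientGroup.mk' D with hπ
  have hπs : Function.Surjective π := QuotientGroup.mk'_surjective D
  constructor
  · intro hc
    have hcomm := isMulCommutative_iff.1 hc
    have hGD : ∀ a b : G, ⁅a, b⁆ ∈ D := by
      intro a b
      rw [← QuotientGroup.eq_one_iff]
      have h1 : ((⁅a, b⁆ : G) : G ⧸ D) = ⁅(a : G ⧸ D), (b : G ⧸ D)⁆ :=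
        map_commutatorElement (QuotientGroup.mk' D) _ _
      rw [h1, commutatorElement_eq_one_iff_mul_comm]
      exact hcomm _ _
    set K := (P₀ : Subgroup G) ⊔ D with hK
    have hP₀K : (P₀ : Subgroup G) ≤ K := le_sup_left
    have hKn : K.Normal := by
      constructor
      intro k hk g
      have h2 : g * k * g⁻¹ = ⁅g, k⁆ * k := by rw [commutatorElement_def]; group
      rw [h2]
      exact K.mul_mem ((le_sup_right : D ≤ K) (hGD g k)) hk
    have hQnt : Nontrivial (Q₀ : Subgroup G) := by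
      rw [← Finite.one_lt_card_iff_nontrivial, Sylow.card_eq_multiplicity]
      have h1 : 1 ≤ (Nat.card G).factorization q :=
        (hqpr.dvd_iff_one_le_factorization Nat.card_pos.ne').1 hq
      exact Nat.one_lt_pow (by omega) hqpr.one_lt
    have hQnil : Group.IsNilpotent (Q₀ : Subgroup G) := Q₀.2.isNilpotent
    have hclt := Group.IsSolvable.commutator_lt_top_of_nontrivial (Q₀ : Subgroup G)
    have hDneQ : D ≠ (Q₀ : Subgroup G) := by
      intro h
      apply hclt.ne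
      apply Subgroup.map_injective (Subgroup.subtype_injective (Q₀ : Subgroup G))
      rw [← hD, h, ← MonoidHom.range_eq_map, Subgroup.range_subtype]
    have hKtop : K ≠ ⊤ := by
      intro htop
      apply hDneQ
      have h1 := Cfsg.Agent.Lib.H3.inf_sup_eq_of_le_of_normal (H := (Q₀ : Subgroup G))
        (M := (P₀ : Subgroup G)) (F := D) hDQ
      rw [← hK, htop, inf_top_eq, inf_comm, hPQ, bot_sup_eq] at h1
      exact h1.symm
    have hKnil := hG.2 K hKtop
    have h3 := Cfsg.Agent.Lib.H3.le_normalizer_sylow_of_isNilpotent P₀ K hP₀K hKnil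
    have h4 := Sylow.normalizer_sup_eq_top (P₀.subtype hP₀K)
    rw [Sylow.coe_subtype, Subgroup.map_subgroupOf_eq_of_le hP₀K] at h4
    apply hP₀nn
    rw [← Subgroup.normalizer_eq_top_iff, eq_top_iff, ← h4]
    exact sup_le le_rfl h3
  · intro Kb hKb
    set K := Kb.comap π with hK
    have hKtop : K ≠ ⊤ := by
      intro htop
      apply hKb
      rw [← Subgroup.map_comap_eq_self_of_surjective hπs Kb, ← hK, htop,
        Subgroup.map_top_of_surjective _ hπs]
    have hKnil := hG.2 K hKtop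
    have hKbnil : Group.IsNilpotent Kb :=
      Group.nilpotent_of_surjective (π.subgroupComap Kb)
        (π.subgroupComap_surjective_of_surjective Kb hπs)
    have hcomm := comm_of_isNilpotent_of_sylow_comm hKbnil (by
      intro r hrF R a ha b hb
      have hR' : IsPGroup r ((R : Subgroup Kb).map Kb.subtype) := R.2.map _
      obtain ⟨Sb, hSb⟩ := hR'.exists_le_sylow
      obtain ⟨S, hS⟩ := Sylow.mapSurjective_surjective hπs r Sb
      have ha' : (a : G ⧸ D) ∈ (Sb : Subgroup (G ⧸ D)) := hSb ⟨a, ha, rfl⟩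
      have hb' : (b : G ⧸ D) ∈ (Sb : Subgroup (G ⧸ D)) := hSb ⟨b, hb, rfl⟩
      rw [← hS, Sylow.coe_mapSurjective] at ha' hb'
      obtain ⟨x, hx, hxa⟩ := ha'
      obtain ⟨y, hy, hyb⟩ := hb'
      apply Subtype.ext
      show (a : G ⧸ D) * (b : G ⧸ D) = (b : G ⧸ D) * (a : G ⧸ D)
      rw [← hxa, ← hyb, ← commutatorElement_eq_one_iff_mul_comm, ← map_commutatorElement]
      exact (QuotientGroup.eq_one_iff _).2 (hSyl r S x hx y hy))
    exact ⟨⟨fun a b => hcomm a b⟩⟩

end Cfsg.Agent.S0577
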