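import Cfsg.Statements.S0537
-- import your own Cfsg.Agent.* helpers here
import Cfsg.Agent.Lib.H3.Schmidt2
import Cfsg.Agent.S0577
import Mathlib

set_option autoImplicit false
open Cfsg

namespace Cfsg.Agent.S0537


/-- An element `x` with `x ^ n = 1`, `n` coprime to `q`, normalizing a commutative subgroup `Q`
and centralizing its elements of order dividing `q`, centralizes every element of `q`-power order
of `Q`. -/
theorem commute_of_commute_omega {G : Type*} [Group G] (Q : Subgroup G)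
    (hQc : ∀ a ∈ Q, ∀ b ∈ Q, a * b = b * a) {q : ℕ} (x : G)
    (hxn : ∀ y ∈ Q, x * y * x⁻¹ ∈ Q) (n : ℕ) (hxn' : x ^ n = 1) (hnq : n.Coprime q)
    (hΩ : ∀ y ∈ Q, y ^ q = 1 → x * y = y * x) :
    ∀ k : ℕ, ∀ y ∈ Q, y ^ (q ^ k) = 1 → x * y = y * x := by
  intro k
  induction k with
  | zero =>
    intro y _ hy1
    rw [pow_zero, pow_one] at hy1
    rw [hy1, mul_one, one_mul]
  | succ k ih =>
    intro y hy hyk
    have hyq : x * y ^ q = y ^ q * x := by
      apply ih (y ^ q) (Q.pow_mem hy q)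
      rw [← pow_mul, ← pow_succ']
      exact hyk
    set w := x * y * x⁻¹ with hw
    have hwQ : w ∈ Q := hxn y hy
    set z := y⁻¹ * w with hz
    have hzQ : z ∈ Q := Q.mul_mem (Q.inv_mem hy) hwQ
    have hwq : w ^ q = y ^ q := by
      rw [hw, conj_pow, hyq, mul_inv_cancel_right]
    have hzq : z ^ q = 1 := by
      have hc : Commute y⁻¹ w := hQc _ (Q.inv_mem hy) _ hwQ
      rw [hz, hc.mul_pow, hwq, inv_pow, inv_mul_cancel]
    have hxz : x * z = z * x := hΩ z hzQ hzq
    have hwyz : w = y * z := by rw [hz, mul_inv_cancel_left]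
    have hxzm : ∀ m : ℕ, x * z ^ m * x⁻¹ = z ^ m := by
      intro m
      have hc : Commute x (z ^ m) := Commute.pow_right hxz m
      rw [hc.eq, mul_inv_cancel_right]
    have hpow : ∀ m : ℕ, x ^ m * y * (x ^ m)⁻¹ = y * z ^ m := by
      intro m
      induction m with
      | zero => simp
      | succ m ihm =>
        have e1 : x ^ (m + 1) * y * (x ^ (m + 1))⁻¹ = x * (x ^ m * y * (x ^ m)⁻¹) * x⁻¹ := by
          rw [pow_succ']; group
        rw [e1, ihm]
        have e2 : x * (y * z ^ m) * x⁻¹ = (x * y * x⁻¹) * (x * z ^ m * x⁻¹) := by group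
        rw [e2, hxzm m, ← hw, hwyz, mul_assoc, ← pow_succ']
    have h1 := hpow n
    rw [hxn', one_mul, inv_one, mul_one] at h1
    have hzn : z ^ n = 1 := by
      have h2 : y * 1 = y * z ^ n := by rw [mul_one]; exact h1
      exact (mul_left_cancel h2).symm
    have hz1 : z = 1 := by
      have h3 : orderOf z ∣ Nat.gcd n q :=
        Nat.dvd_gcd (orderOf_dvd_of_pow_eq_one hzn) (orderOf_dvd_of_pow_eq_one hzq)
      rw [Nat.Coprime.gcd_eq_one hnq] at h3
      exact orderOf_eq_one_iff.1 (Nat.dvd_one.1 h3)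
    rw [hz1, mul_one] at hwyz
    have h4 : x * y * x⁻¹ = y := hwyz
    rw [mul_inv_eq_iff_eq_mul] at h4
    exact h4

/-- A finite non-abelian group in which every proper subgroup is abelian is either of prime-power order, or is generated by a cyclic Sylow p-subgroup and a normal Sylow q-subgroup that is elementary abelian, for distinct primes p and q. -/
theorem result {G : Type*} [Group G] [Finite G] (hna : ¬ IsMulCommutative G) (h : ∀ H : Subgroup G, H ≠ ⊤ → IsMulCommutative H) : (∃ p : ℕ, p.Prime ∧ IsPGroup p G) ∨ ∃ p q : ℕ, p.Prime ∧ q.Prime ∧ p ≠ q ∧ ∃ (P : Sylow p G) (Q : Sylow q G), IsCyclic P ∧ (Q : Subgroup G).Normal ∧ Cfsg.IsElementaryAbelian q (Q : Subgroup G) ∧ (P : Subgroup G) ⊔ Q = ⊤ := by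
  classical
  by_cases hnil : Group.IsNilpotent G
  · left
    by_contra hno
    push Not at hno
    apply hna
    have hcomm := Cfsg.Agent.S0577.comm_of_isNilpotent_of_sylow_comm hnil (by
      intro r hrF R a ha b hb
      have hRtop : (R : Subgroup G) ≠ ⊤ := by
        intro htop
        apply hno r hrF.out
        intro g
        obtain ⟨k, hk⟩ := R.2 ⟨g, by rw [htop]; exact Subgroup.mem_top g⟩
        exact ⟨k, congrArg Subtype.val hk⟩
      have h1 := isMulCommutative_iff.1 (h R hRtop) ⟨a, ha⟩ ⟨b, hb⟩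
      exact congrArg Subtype.val h1)
    exact ⟨⟨fun a b => hcomm a b⟩⟩
  · right
    have hG : Cfsg.IsMinimalNonNilpotent G := ⟨hnil, fun H hH =>
      ⟨1, Subgroup.upperCentralSeries_one_eq_top_iff.2 (h H hH)⟩⟩
    obtain ⟨p, q, hp, hq, hpq, P, Q, hcyc, hQn, hsup, hPnn⟩ :=
      Cfsg.Agent.Lib.H3.schmidt_structure hG
    refine ⟨p, q, hp, hq, hpq, P, Q, hcyc, hQn, ?_, hsup⟩
    have hpF : Fact p.Prime := ⟨hp⟩
    have hqF : Fact q.Prime := ⟨hq⟩
    have hPQ : (P : Subgroup G) ⊓ Q = ⊥ :=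
      (IsPGroup.disjoint_of_ne p q hpq _ _ P.2 Q.2).eq_bot
    have hQtop : (Q : Subgroup G) ≠ ⊤ := by
      intro htop
      apply hPnn
      have h1 : (P : Subgroup G) = ⊥ := by rw [← hPQ, htop, inf_top_eq]
      rw [h1]; infer_instance
    have hQcomm' : IsMulCommutative (Q : Subgroup G) := h Q hQtop
    have hQc : ∀ a ∈ (Q : Subgroup G), ∀ b ∈ (Q : Subgroup G), a * b = b * a := by
      intro a ha b hb
      exact congrArg Subtype.val (isMulCommutative_iff.1 hQcomm' ⟨a, ha⟩ ⟨b, hb⟩)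
    refine ⟨hQcomm', ?_⟩
    let Q₁ : Subgroup G :=
      { carrier := {x | x ∈ (Q : Subgroup G) ∧ x ^ q = 1}
        one_mem' := ⟨Subgroup.one_mem _, one_pow q⟩
        mul_mem' := by
          rintro a b ⟨haQ, haq⟩ ⟨hbQ, hbq⟩
          refine ⟨Subgroup.mul_mem _ haQ hbQ, ?_⟩
          have hc : Commute a b := hQc a haQ b hbQ
          rw [hc.mul_pow, haq, hbq, one_mul]
        inv_mem' := by
          rintro a ⟨haQ, haq⟩
          exact ⟨Subgroup.inv_mem _ haQ, by rw [inv_pow, haq, inv_one]⟩ }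
    have hQ₁mem : ∀ x, x ∈ Q₁ ↔ x ∈ (Q : Subgroup G) ∧ x ^ q = 1 := fun x => Iff.rfl
    have hQ₁Q : Q₁ ≤ (Q : Subgroup G) := fun x hx => hx.1
    have hQ₁n : Q₁.Normal := by
      constructor
      intro x hx g
      refine ⟨hQn.conj_mem x hx.1 g, ?_⟩
      rw [conj_pow, hx.2, mul_one, mul_inv_cancel]
    by_contra hexp
    push Not at hexp
    obtain ⟨a₀, ha₀, ha₀q⟩ := hexp
    have hQ₁ne : Q₁ ≠ (Q : Subgroup G) := by
      intro heq
      have h1 : a₀ ∈ Q₁ := by rw [heq]; exact ha₀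
      exact ha₀q h1.2
    set K := (P : Subgroup G) ⊔ Q₁ with hK
    have hKtop : K ≠ ⊤ := by
      intro htop
      apply hQ₁ne
      have h1 := Cfsg.Agent.Lib.H3.inf_sup_eq_of_le_of_normal (H := (Q : Subgroup G))
        (M := (P : Subgroup G)) (F := Q₁) hQ₁Q
      rw [← hK, htop, inf_top_eq, inf_comm, hPQ, bot_sup_eq] at h1
      exact h1.symm
    have hKc := h K hKtop
    have hΩ : ∀ x ∈ (P : Subgroup G), ∀ y ∈ (Q : Subgroup G), y ^ q = 1 → x * y = y * x := by
      intro x hx y hy hyq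
      have h1 := isMulCommutative_iff.1 hKc ⟨x, (le_sup_left : (P : Subgroup G) ≤ K) hx⟩
        ⟨y, (le_sup_right : Q₁ ≤ K) ⟨hy, hyq⟩⟩
      exact congrArg Subtype.val h1
    obtain ⟨b, hb⟩ := IsPGroup.iff_card.1 Q.2
    have hall : ∀ x ∈ (P : Subgroup G), ∀ y ∈ (Q : Subgroup G), x * y = y * x := by
      intro x hx y hy
      have hcop : (orderOf x).Coprime q := by
        obtain ⟨k, hk⟩ := P.2 ⟨x, hx⟩
        have hk' : x ^ (p ^ k) = 1 := congrArg Subtype.val hk
        have h1 : orderOf x ∣ p ^ k := orderOf_dvd_of_pow_eq_one hk'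
        exact Nat.Coprime.coprime_dvd_left h1
          (Nat.Coprime.pow_left k ((Nat.coprime_primes hp hq).2 hpq))
      have hyb : y ^ (q ^ b) = 1 := by
        have h1 : (⟨y, hy⟩ : (Q : Subgroup G)) ^ Nat.card (Q : Subgroup G) = 1 := pow_card_eq_one'
        rw [hb] at h1
        exact congrArg Subtype.val h1
      exact commute_of_commute_omega (Q : Subgroup G) hQc x (fun y hy => hQn.conj_mem y hy x)
        (orderOf x) (pow_orderOf_eq_one x) hcop (hΩ x hx) b y hy hyb
    apply hPnn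
    rw [← Subgroup.normalizer_eq_top_iff, eq_top_iff, ← hsup]
    apply sup_le Subgroup.le_normalizer
    intro y hy
    apply Subgroup.centralizer_le_normalizer
    rw [Subgroup.mem_centralizer_iff]
    intro x hx
    exact hall x hx y hy

end Cfsg.Agent.S0537
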