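import Cfsg.Statements.S0541
-- import your own Cfsg.Agent.* helpers here
import Cfsg.Agent.S0540
import Mathlib

set_option autoImplicit false
open Pointwise
open Cfsg

namespace Cfsg.Agent.S0541
open scoped Pointwise

open Cfsg.Agent.Lib.H3

variable {G : Type*} [Group G]

theorem isSubnormal_of_isPGroup' {P : Type*} [Group P] [Finite P] {p : ℕ} [Fact p.Prime]
    (hP : IsPGroup p P) (B : Subgroup P) : B.IsSubnormal := by
  have hnil : Group.IsNilpotent P := hP.isNilpotent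
  have hnc : NormalizerCondition P := Group.normalizerCondition_of_isNilpotent
  induction B using WellFoundedGT.induction with
  | ind B ih =>
    by_cases hB : B = ⊤
    · rw [hB]; exact Subgroup.IsSubnormal.top
    · have hlt := hnc B (lt_top_iff_ne_top.mpr hB)
      exact Subgroup.IsSubnormal.step B _ hlt.le (ih _ hlt) Subgroup.normal_in_normalizer

/-- the conjugates of `Z` inside `Q` -/
def conjIn (Z Q : Subgroup G) : Set (Subgroup G) :=
  {B | (∃ g : G, B = MulAut.conj g • Z) ∧ B ≤ Q}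

theorem sSup_conjIn_le (Z Q : Subgroup G) : sSup (conjIn Z Q) ≤ Q :=
  sSup_le (fun _ hB => hB.2)

theorem conjIn_mono (Z : Subgroup G) {Q Q' : Subgroup G} (h : Q ≤ Q') :
    conjIn Z Q ⊆ conjIn Z Q' := fun _ hB => ⟨hB.1, hB.2.trans h⟩

/-- the `Y`-closure of the conjugate `Z^g` -/
def W (Z Y : Subgroup G) (g : G) : Subgroup G := ⨆ y ∈ Y, MulAut.conj (y * g) • Z

theorem conj_le_W (Z Y : Subgroup G) (g : G) {y : G} (hy : y ∈ Y) :
    MulAut.conj (y * g) • Z ≤ W Z Y g :=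
  le_iSup₂ (f := fun (y : G) (_ : y ∈ Y) => MulAut.conj (y * g) • Z) y hy

theorem W_map_conj_le (Z Y : Subgroup G) (g : G) {y0 : G} (hy0 : y0 ∈ Y) :
    (W Z Y g).map (MulAut.conj y0).toMonoidHom ≤ W Z Y g := by
  unfold W
  rw [Subgroup.map_iSup]
  apply iSup_le
  intro y
  rw [Subgroup.map_iSup]
  apply iSup_le
  intro hy
  have : (MulAut.conj (y * g) • Z).map (MulAut.conj y0).toMonoidHom =
      MulAut.conj (y0 * y * g) • Z := by
    show MulAut.conj y0 • (MulAut.conj (y * g) • Z) = _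
    rw [smul_smul, ← map_mul, mul_assoc]
  rw [this]
  exact le_iSup₂ (f := fun (y : G) (_ : y ∈ Y) => MulAut.conj (y * g) • Z) (y0 * y) (Y.mul_mem hy0 hy)

theorem le_normalizer_of_map_conj_le {Y Q : Subgroup G}
    (h : ∀ y ∈ Y, Q.map (MulAut.conj y).toMonoidHom ≤ Q) :
    Y ≤ Subgroup.normalizer (Q : Set G) := by
  intro v hv
  rw [Subgroup.mem_normalizer_iff_map_conj_eq]
  apply le_antisymm (h v hv)
  intro x hx
  have h1 := h v⁻¹ (Y.inv_mem hv) (Subgroup.mem_map_of_mem _ hx)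
  refine ⟨_, h1, ?_⟩
  simp only [MulEquiv.coe_toMonoidHom, MulAut.conj_apply, inv_inv]
  group

theorem W_normalized (Z Y : Subgroup G) (g : G) :
    Y ≤ Subgroup.normalizer ((W Z Y g : Subgroup G) : Set G) :=
  le_normalizer_of_map_conj_le (fun _ hy => W_map_conj_le Z Y g hy)

theorem sSup_conjIn_W (Z Y : Subgroup G) (g : G) : sSup (conjIn Z (W Z Y g)) = W Z Y g := by
  apply le_antisymm (sSup_conjIn_le _ _)
  unfold W
  apply iSup₂_le
  intro y hy
  exact le_sSup ⟨⟨_, rfl⟩, conj_le_W Z Y g hy⟩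

/-- `Q` is a `Y`-invariant `p`-subgroup generated by conjugates of `Z`. -/
def Good (p : ℕ) (Z Y Q : Subgroup G) : Prop :=
  IsPGroup p Q ∧ Y ≤ Subgroup.normalizer (Q : Set G) ∧ sSup (conjIn Z Q) = Q

theorem good_sup {p : ℕ} {Z Y Q : Subgroup G}
    (h : ∀ g : G, IsPGroup p ↥(⨆ y ∈ Y, MulAut.conj (y * g) • Z)) (hQ : Good p Z Y Q) (g : G)
    (hX : MulAut.conj g • Z ≤ Subgroup.normalizer (Q : Set G)) :
    Good p Z Y (W Z Y g ⊔ Q) ∧ MulAut.conj g • Z ≤ W Z Y g ⊔ Q := by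
  obtain ⟨hQp, hQY, hQgen⟩ := hQ
  have hWN : W Z Y g ≤ Subgroup.normalizer (Q : Set G) := by
    unfold W
    apply iSup₂_le
    intro y hy
    rw [map_mul, mul_smul]
    intro x hx
    rw [Subgroup.mem_pointwise_smul_iff_inv_smul_mem] at hx
    have h1 := hX hx
    have h2 : x = y * ((MulAut.conj y)⁻¹ • x) * y⁻¹ := by
      simp only [MulAut.smul_def, MulAut.inv_apply, MulAut.conj_symm_apply]
      group
    rw [h2]
    exact Subgroup.mul_mem _ (Subgroup.mul_mem _ (hQY hy) h1) (Subgroup.inv_mem _ (hQY hy))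
  have hWp : IsPGroup p ↥(W Z Y g) := h g
  have hsupp : IsPGroup p ↥(W Z Y g ⊔ Q) := IsPGroup.to_sup_of_normal_right' hWp hQp hWN
  refine ⟨⟨hsupp, ?_, ?_⟩, ?_⟩
  · exact le_trans (le_inf (W_normalized Z Y g) hQY) (normalizer_inf_le_normalizer_sup _ _)
  · apply le_antisymm (sSup_conjIn_le _ _)
    apply sup_le
    · calc W Z Y g = sSup (conjIn Z (W Z Y g)) := (sSup_conjIn_W Z Y g).symm
        _ ≤ sSup (conjIn Z (W Z Y g ⊔ Q)) := sSup_le_sSup (conjIn_mono Z le_sup_left)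
    · calc Q = sSup (conjIn Z Q) := hQgen.symm
        _ ≤ sSup (conjIn Z (W Z Y g ⊔ Q)) := sSup_le_sSup (conjIn_mono Z le_sup_right)
  · have := conj_le_W Z Y g (Y.one_mem)
    rw [one_mul] at this
    exact this.trans le_sup_left

theorem main [Finite G] (p : ℕ) [Fact p.Prime] (Z Y : Subgroup G)
    (h : ∀ g : G, IsPGroup p ↥(⨆ y ∈ Y, MulAut.conj (y * g) • Z)) :
    ∃ P : Sylow p G, Y ≤ Subgroup.normalizer
      ((⨆ g ∈ {g : G | MulAut.conj g • Z ≤ (P : Subgroup G)}, MulAut.conj g • Z : Subgroup G) :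
        Set G) := by
  have hgood1 : Good p Z Y (W Z Y 1) := ⟨h 1, W_normalized Z Y 1, sSup_conjIn_W Z Y 1⟩
  obtain ⟨Q, hQgood, hQmax⟩ :=
    (Set.toFinite {Q : Subgroup G | Good p Z Y Q}).exists_maximal ⟨_, hgood1⟩
  obtain ⟨P, hQP⟩ := hQgood.1.exists_le_sylow
  have hclaim : ∀ B ∈ conjIn Z (P : Subgroup G), B ≤ Q := by
    by_contra hcon
    push Not at hcon
    obtain ⟨B0, hB0P, hB0Q⟩ := hcon
    have hsub : conjIn Z Q ⊂ conjIn Z (P : Subgroup G) :=
      ⟨conjIn_mono Z hQP, fun hh => hB0Q (hh hB0P).2⟩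
    have hSV : ∀ B : Subgroup G, B ∈ conjIn Z (P : Subgroup G) ↔
        (∃ g : G, B = MulAut.conj g • Z) ∧ B ≤ (P : Subgroup G) ∧
          (B.subgroupOf (P : Subgroup G)).IsSubnormal := by
      intro B
      constructor
      · intro hB
        exact ⟨hB.1, hB.2, isSubnormal_of_isPGroup' P.isPGroup' _⟩
      · intro hB
        exact ⟨hB.1, hB.2.1⟩
    obtain ⟨X, hXP, hXQ, hXN⟩ :=
      Cfsg.Agent.S0540.zipper_in_subgroup Z (P : Subgroup G) _ _ hSV hsub
    rw [hQgood.2.2] at hXN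
    obtain ⟨g, rfl⟩ := hXP.1
    obtain ⟨hgood', hle'⟩ := good_sup h hQgood g hXN
    have hle : Q ≤ W Z Y g ⊔ Q := le_sup_right
    have := hQmax hgood' hle
    exact hXQ ⟨⟨g, rfl⟩, hle'.trans this⟩
  refine ⟨P, ?_⟩
  have heq : (⨆ g ∈ {g : G | MulAut.conj g • Z ≤ (P : Subgroup G)}, MulAut.conj g • Z :
      Subgroup G) = Q := by
    apply le_antisymm
    · apply iSup₂_le
      intro g hg
      exact hclaim _ ⟨⟨g, rfl⟩, hg⟩
    · conv_lhs => rw [← hQgood.2.2]
      apply sSup_le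
      rintro B ⟨⟨g, rfl⟩, hBQ⟩
      exact le_iSup₂ (f := fun (g : G) (_ : g ∈ {g : G | MulAut.conj g • Z ≤ (P : Subgroup G)}) =>
        MulAut.conj g • Z) g (hBQ.trans hQP)
  rw [heq]
  exact hQgood.2.1

/-- Let Z and Y be subgroups of a finite group G and p a prime. Suppose that for every g in G the subgroup generated by the conjugates of g Z g⁻¹ under Y is a p-group. Then there is a Sylow p-subgroup P of G such that Y normalizes the subgroup generated by all conjugates of Z contained in P. -/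
theorem result {G : Type*} [Group G] [Finite G] (p : ℕ) [Fact p.Prime] (Z Y : Subgroup G) (h : ∀ g : G, IsPGroup p ↥(⨆ y ∈ Y, MulAut.conj (y * g) • Z)) : ∃ P : Sylow p G, Y ≤ Subgroup.normalizer ((⨆ g ∈ {g : G | MulAut.conj g • Z ≤ (P : Subgroup G)}, MulAut.conj g • Z : Subgroup G) : Set G) := by
  exact main p Z Y h

end Cfsg.Agent.S0541
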