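import Cfsg.Statements.S0546
-- import your own Cfsg.Agent.* helpers here
import Cfsg.Agent.Lib.H3.HallSystem3
import Mathlib

set_option autoImplicit false
open Cfsg

namespace Cfsg.Agent.S0546


theorem systemNormalizer_eq_top_of_comm {A : Type*} [Group A] (hA : ∀ a b : A, a * b = b * a)
    (K : Nat.Primes → Subgroup A) : Cfsg.systemNormalizer K = ⊤ := by
  unfold Cfsg.systemNormalizer
  rw [iInf_eq_top]
  intro p
  rw [eq_top_iff]
  intro g _
  rw [Subgroup.mem_normalizer_iff]
  intro h
  rw [hA g h, mul_inv_cancel_right]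

theorem subsingleton_of_systemNormalizer_eq_bot {Q : Type*} [Group Q] [Finite Q]
    [Group.IsSolvable Q] (K : Nat.Primes → Subgroup Q) (hK : Cfsg.IsComplementSystem K)
    (h : Cfsg.systemNormalizer K = ⊥) : Subsingleton Q := by
  by_contra hns
  rw [not_subsingleton_iff_nontrivial] at hns
  have h1 := (Cfsg.Agent.Lib.H3.systemNormalizer_map_mk' hK (commutator Q))
  rw [h, Subgroup.map_bot] at h1
  have hcomm : ∀ a b : Q ⧸ commutator Q, a * b = b * a := by
    intro a b
    have := mul_comm (G := Abelianization Q) a b
    exact this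
  rw [systemNormalizer_eq_top_of_comm hcomm] at h1
  have h2 : commutator Q = ⊤ := by
    rw [eq_top_iff]
    intro x _
    have h3 : (QuotientGroup.mk' (commutator Q) x) ∈ (⊤ : Subgroup (Q ⧸ commutator Q)) :=
      Subgroup.mem_top _
    rw [h1, Subgroup.mem_bot] at h3
    exact (QuotientGroup.eq_one_iff x).1 h3
  exact (Group.IsSolvable.commutator_lt_top_of_nontrivial Q).ne h2

/-- The normal closure of a system normalizer of a finite solvable group is the whole group. -/
theorem result {G : Type*} [Group G] [Finite G] [Group.IsSolvable G] (K : Nat.Primes → Subgroup G) (hK : Cfsg.IsComplementSystem K) : Subgroup.normalClosure ((Cfsg.systemNormalizer K : Subgroup G) : Set G) = ⊤ := by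
  set M := Subgroup.normalClosure ((Cfsg.systemNormalizer K : Subgroup G) : Set G) with hM
  have hDM : Cfsg.systemNormalizer K ≤ M := Subgroup.le_normalClosure
  have h1 := Cfsg.Agent.Lib.H3.systemNormalizer_map_mk' hK M
  have h2 : (Cfsg.systemNormalizer K).map (QuotientGroup.mk' M) = ⊥ := by
    rw [Subgroup.map_eq_bot_iff, QuotientGroup.ker_mk']
    exact hDM
  rw [h2] at h1
  have h3 := subsingleton_of_systemNormalizer_eq_bot _
    (Cfsg.Agent.Lib.H3.complementSystem_map_mk' hK M) h1
  exact QuotientGroup.subgroup_eq_top_of_subsingleton M h3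

end Cfsg.Agent.S0546
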