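import Cfsg.Statements.S0548
-- import your own Cfsg.Agent.* helpers here
import Cfsg.Agent.Lib.H3.PrimSolv
import Mathlib

set_option autoImplicit false
open Cfsg

namespace Cfsg.Agent.S0548

/-- Let a finite solvable group G act faithfully and primitively on a set, let M be a minimal normal subgroup and H the stabilizer of a point. Then H is a complement to M, no non-identity element of H centralizes M, and the only subgroups of M normalized by H are the trivial subgroup and M. -/
theorem result {G : Type*} [Group G] [Finite G] [Group.IsSolvable G] {Ω : Type*} [MulAction G Ω] [FaithfulSMul G Ω] (hprim : MulAction.IsPreprimitive G Ω) (M : Subgroup G) [M.Normal] (hM : M ≠ ⊥) (hmin : ∀ K : Subgroup G, K.Normal → K ≤ M → K = ⊥ ∨ K = M) (ω : Ω) : Subgroup.IsComplement' M (MulAction.stabilizer G ω) ∧ MulAction.stabilizer G ω ⊓ Subgroup.centralizer (M : Set G) = ⊥ ∧ ∀ K : Subgroup G, K ≤ M → MulAction.stabilizer G ω ≤ Subgroup.normalizer (K : Set G) → K = ⊥ ∨ K = M := by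
  have hMn : M.Normal := inferInstance
  have hcomm := Cfsg.Agent.Lib.H3.minNormal_comm_of_isSolvable M hM hmin
  have htr := Cfsg.Agent.Lib.H3.isPretransitive_of_normal_of_isPreprimitive hprim M hM
  have hreg : ∀ m ∈ M, m • ω = ω → m = 1 := fun m hm hfix =>
    Cfsg.Agent.Lib.H3.eq_one_of_smul_eq_of_comm_of_isPretransitive M hcomm htr hm hfix
  have hfact : ∀ g : G, ∃ m ∈ M, ∃ h ∈ MulAction.stabilizer G ω, g = m * h := by
    intro g
    obtain ⟨⟨m, hm⟩, hm'⟩ := MulAction.exists_smul_eq M ω (g • ω)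
    have hm'' : m • ω = g • ω := hm'
    refine ⟨m, hm, m⁻¹ * g, ?_, by group⟩
    rw [MulAction.mem_stabilizer_iff, mul_smul, ← hm'', inv_smul_smul]
  refine ⟨?_, ?_, ?_⟩
  · apply Subgroup.isComplement'_of_disjoint_and_mul_eq_univ
    · rw [disjoint_iff, eq_bot_iff]
      rintro x ⟨hxM, hxH⟩
      rw [Subgroup.mem_bot]
      exact hreg x hxM (MulAction.mem_stabilizer_iff.1 hxH)
    · rw [Set.eq_univ_iff_forall]
      intro g
      obtain ⟨m, hm, h, hh, rfl⟩ := hfact g
      exact Set.mul_mem_mul hm hh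
  · rw [eq_bot_iff]
    rintro x ⟨hxH, hxC⟩
    rw [Subgroup.mem_bot]
    apply FaithfulSMul.eq_of_smul_eq_smul (α := Ω)
    intro ω'
    obtain ⟨⟨n, hn⟩, hn'⟩ := MulAction.exists_smul_eq M ω ω'
    have hn'' : n • ω = ω' := hn'
    have hxn : n * x = x * n := Subgroup.mem_centralizer_iff.1 hxC n hn
    rw [one_smul, ← hn'', ← mul_smul, ← hxn, mul_smul, MulAction.mem_stabilizer_iff.1 hxH]
  · intro K hKM hHK
    have hKn : K.Normal := by
      constructor
      intro k hk g
      obtain ⟨m, hm, h, hh, rfl⟩ := hfact g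
      have h1 : h * k * h⁻¹ ∈ K := (Subgroup.mem_normalizer_iff.1 (hHK hh) k).1 hk
      have h2 : m * h * k * (m * h)⁻¹ = m * (h * k * h⁻¹) * m⁻¹ := by group
      rw [h2, hcomm m hm _ (hKM h1), mul_inv_cancel_right]
      exact h1
    exact hmin K hKn hKM

end Cfsg.Agent.S0548
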