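import Cfsg.Statements.S0550
-- import your own Cfsg.Agent.* helpers here
import Cfsg.Agent.S0549
import Cfsg.Agent.Lib.H3.Basic
import Mathlib

set_option autoImplicit false
open Cfsg

namespace Cfsg.Agent.S0550


/-- Two subgroups meeting a normal subgroup `N` trivially and having the same join with `N` are
isomorphic. -/
theorem nonempty_mulEquiv_of_common_complement {G : Type*} [Group G] (N H K : Subgroup G)
    [N.Normal] (hH : H ⊓ N = ⊥) (hK : K ⊓ N = ⊥) (hHK : H ⊔ N = K ⊔ N) : Nonempty (H ≃* K) := by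
  set π := QuotientGroup.mk' N with hπ
  have hinj : ∀ X : Subgroup G, X ⊓ N = ⊥ → Function.Injective (π.comp X.subtype) := by
    intro X hX
    rw [← MonoidHom.ker_eq_bot_iff, eq_bot_iff]
    intro x hx
    have h1 : π x.1 = 1 := hx
    rw [hπ, QuotientGroup.mk'_apply, QuotientGroup.eq_one_iff] at h1
    have h2 : x.1 ∈ X ⊓ N := ⟨x.2, h1⟩
    rw [hX, Subgroup.mem_bot] at h2
    exact Subtype.ext h2
  have h1 : ∀ X : Subgroup G, X.map π = (X ⊔ N).map π := by
    intro X
    have h2 : N.map π = ⊥ := by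
      rw [Subgroup.map_eq_bot_iff, hπ, QuotientGroup.ker_mk']
    rw [Subgroup.map_sup, h2, sup_bot_eq]
  have hrange : (π.comp H.subtype).range = (π.comp K.subtype).range := by
    rw [MonoidHom.range_comp, MonoidHom.range_comp, Subgroup.range_subtype,
      Subgroup.range_subtype, h1 H, h1 K, hHK]
  exact ⟨(MonoidHom.ofInjective (hinj H hH)).trans ((MulEquiv.subgroupCongr hrange).trans
    (MonoidHom.ofInjective (hinj K hK)).symm)⟩

/-- Let U be a maximal subgroup with trivial normal core in a finite group G, and A ≠ B two minimal normal subgroups. Then A is the centralizer of B and B that of A, U complements each of them, A and B are non-abelian, and A, B and (A ⊔ B) ∩ U are pairwise isomorphic. -/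
theorem result {G : Type*} [Group G] [Finite G] (U : Subgroup G) (hU : IsCoatom U) (hcore : U.normalCore = ⊥) (A B : Subgroup G) [A.Normal] [B.Normal] (hA : A ≠ ⊥) (hB : B ≠ ⊥) (hAmin : ∀ K : Subgroup G, K.Normal → K ≤ A → K = ⊥ ∨ K = A) (hBmin : ∀ K : Subgroup G, K.Normal → K ≤ B → K = ⊥ ∨ K = B) (hAB : A ≠ B) : Subgroup.centralizer (B : Set G) = A ∧ Subgroup.centralizer (A : Set G) = B ∧ Subgroup.IsComplement' A U ∧ Subgroup.IsComplement' B U ∧ ¬ IsMulCommutative A ∧ Nonempty (A ≃* B) ∧ Nonempty (A ≃* ↥((A ⊔ B) ⊓ U)) := by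
  classical
  have hABbot : A ⊓ B = ⊥ := by
    rcases hAmin (A ⊓ B) inferInstance inf_le_left with h | h
    · exact h
    · exfalso
      have hAB' : A ≤ B := by rw [← h]; exact inf_le_right
      rcases hBmin A inferInstance hAB' with h' | h'
      · exact hA h'
      · exact hAB h'
  have hBcentA : B ≤ Subgroup.centralizer (A : Set G) := by
    intro b hb
    rw [Subgroup.mem_centralizer_iff]
    intro a ha
    exact (Subgroup.commute_of_normal_of_disjoint A B inferInstance inferInstance
      (disjoint_iff.2 hABbot) a b ha hb).eq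
  have hAcentB : A ≤ Subgroup.centralizer (B : Set G) := Subgroup.le_centralizer_iff.1 hBcentA
  obtain ⟨hCAU, hCA⟩ := Cfsg.Agent.S0549.result U hU hcore A hA
  obtain ⟨hCBU, hCB⟩ := Cfsg.Agent.S0549.result U hU hcore B hB
  have hCA_eq : Subgroup.centralizer (A : Set G) = B := by
    rcases hCA with h | ⟨_, h2⟩
    · exfalso; apply hB; rw [eq_bot_iff, ← h]; exact hBcentA
    · rcases h2 B inferInstance hBcentA with h | h
      · exact absurd h hB
      · exact h.symm
  have hCB_eq : Subgroup.centralizer (B : Set G) = A := by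
    rcases hCB with h | ⟨_, h2⟩
    · exfalso; apply hA; rw [eq_bot_iff, ← h]; exact hAcentB
    · rcases h2 A inferInstance hAcentB with h | h
      · exact absurd h hA
      · exact h.symm
  have hAU : A ⊓ U = ⊥ := by rw [← hCB_eq]; exact hCBU
  have hBU : B ⊓ U = ⊥ := by rw [← hCA_eq]; exact hCAU
  have hAUtop := Cfsg.Agent.S0549.sup_eq_top_of_normal U hU hcore A hA
  have hBUtop := Cfsg.Agent.S0549.sup_eq_top_of_normal U hU hcore B hB
  have hcompl : ∀ (X : Subgroup G) [X.Normal], X ⊓ U = ⊥ → X ⊔ U = ⊤ →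
      Subgroup.IsComplement' X U := by
    intro X _ h1 h2
    apply Subgroup.isComplement'_of_disjoint_and_mul_eq_univ (disjoint_iff.2 h1)
    rw [← Subgroup.normal_mul, h2]; rfl
  have hnc : ¬ IsMulCommutative A := by
    intro hcomm
    have h1 : A ≤ B := by
      rw [← hCA_eq]; exact Subgroup.le_centralizer_iff_isMulCommutative.2 hcomm
    rcases hBmin A inferInstance h1 with h' | h'
    · exact hA h'
    · exact hAB h'
  set D := (A ⊔ B) ⊓ U with hD
  have hDB : D ⊓ B = ⊥ := by
    rw [eq_bot_iff, ← hBU]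
    exact le_inf inf_le_right (inf_le_left.trans inf_le_right)
  have hDA : D ⊓ A = ⊥ := by
    rw [eq_bot_iff, ← hAU]
    exact le_inf inf_le_right (inf_le_left.trans inf_le_right)
  have hDB' : A ⊔ B = D ⊔ B := by
    have h1 := Cfsg.Agent.Lib.H3.inf_sup_eq_of_le_of_normal (H := A ⊔ B) (M := U) (F := B)
      le_sup_right
    rw [sup_comm U B, hBUtop, inf_top_eq] at h1
    exact h1
  have hDA' : B ⊔ A = D ⊔ A := by
    have h1 := Cfsg.Agent.Lib.H3.inf_sup_eq_of_le_of_normal (H := A ⊔ B) (M := U) (F := A)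
      le_sup_left
    rw [sup_comm U A, hAUtop, inf_top_eq] at h1
    rw [sup_comm B A]
    exact h1
  obtain ⟨e1⟩ := nonempty_mulEquiv_of_common_complement B A D hABbot hDB hDB'
  obtain ⟨e2⟩ := nonempty_mulEquiv_of_common_complement A B D (by rw [inf_comm]; exact hABbot)
    hDA hDA'
  exact ⟨hCB_eq, hCA_eq, hcompl A hAU hAUtop, hcompl B hBU hBUtop, hnc, ⟨e1.trans e2.symm⟩, ⟨e1⟩⟩

end Cfsg.Agent.S0550
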