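import Cfsg.Statements.S0553
-- import your own Cfsg.Agent.* helpers here
import Cfsg.Agent.Lib.H3.FrattiniFitting
import Cfsg.Agent.Lib.H3.PrimSolv
import Cfsg.Agent.Lib.H3.Sylow
import Cfsg.Agent.Lib.H3.Supersolvable3
import Mathlib

set_option autoImplicit false
open Cfsg

namespace Cfsg.Agent.S0553


open Cfsg.Agent.Lib.H3 in
theorem isCoatom_comap_of_surjective {G H : Type*} [Group G] [Group H] {φ : G →* H}
    (hφ : Function.Surjective φ) {M : Subgroup H} (hM : IsCoatom M) :
    IsCoatom (M.comap φ) := by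
  constructor
  · intro h
    apply hM.1
    rw [← Subgroup.map_comap_eq_self_of_surjective hφ M, h, Subgroup.map_top_of_surjective _ hφ]
  · intro K hK
    have hker : φ.ker ≤ K := (MonoidHom.ker_le_comap φ M).trans hK.le
    have h1 : M ≤ K.map φ := by
      rw [← Subgroup.map_comap_eq_self_of_surjective hφ M]
      exact Subgroup.map_mono hK.le
    have h2 : M ≠ K.map φ := by
      intro heq
      have h3 : K ≤ M.comap φ := by
        rw [heq]; exact Subgroup.le_comap_map φ K
      exact hK.not_ge h3
    have h3 := hM.2 _ (lt_of_le_of_ne h1 h2)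
    have h4 := congrArg (Subgroup.comap φ) h3
    rwa [Subgroup.comap_map_eq_self hker, Subgroup.comap_top] at h4

open Cfsg.Agent.Lib.H3 in
theorem normal_sylow_of_hall_maximals.{u} : ∀ (n : ℕ) (G : Type u) [Group G] [Finite G]
    [Group.IsSolvable G] [Nontrivial G], Nat.card G = n →
    (∀ M : Subgroup G, IsCoatom M → (Nat.card M).Coprime M.index) →
    ∃ p : ℕ, p.Prime ∧ p ∣ Nat.card G ∧ ∀ P : Sylow p G, (P : Subgroup G).Normal := by
  intro n
  induction n using Nat.strong_induction_on with
  | _ n ih =>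
  intro G _ _ _ _ hcard h
  obtain ⟨N, ⟨hNn, hN1, hNmin⟩, _⟩ := exists_isMinNormal_le (⊤ : Subgroup G) inferInstance
    top_ne_bot
  by_cases hNΦ : N ≤ frattini G
  · -- `N ≤ Φ(G)`: pass to the quotient
    obtain ⟨M₀, hM₀⟩ : ∃ M₀ : Subgroup G, IsCoatom M₀ := by
      rcases eq_top_or_exists_le_coatom (⊥ : Subgroup G) with h0 | ⟨M₀, hM₀, _⟩
      · exact absurd h0 bot_ne_top
      · exact ⟨M₀, hM₀⟩
    have hNtop : N ≠ ⊤ := by
      intro h0
      apply hM₀.1
      rw [eq_top_iff, ← h0]
      exact hNΦ.trans (frattini_le_coatom hM₀)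
    set π := QuotientGroup.mk' N with hπ
    have hπs : Function.Surjective π := QuotientGroup.mk'_surjective N
    have hQnt : Nontrivial (G ⧸ N) := by
      by_contra hnt
      rw [not_nontrivial_iff_subsingleton] at hnt
      exact hNtop (QuotientGroup.subgroup_eq_top_of_subsingleton N hnt)
    have hcardmul := Subgroup.card_eq_card_quotient_mul_card_subgroup N
    have hNcard1 : 1 < Nat.card N :=
      Finite.one_lt_card_iff_nontrivial.2 ((Subgroup.nontrivial_iff_ne_bot N).2 hN1)
    have hcardQ : Nat.card (G ⧸ N) < n := by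
      rw [← hcard, hcardmul]
      have hpos : 0 < Nat.card (G ⧸ N) := Nat.card_pos
      nlinarith
    have hQ : ∀ M : Subgroup (G ⧸ N), IsCoatom M → (Nat.card M).Coprime M.index := by
      intro M hM
      have h1 := h _ (isCoatom_comap_of_surjective hπs hM)
      rw [Subgroup.index_comap_of_surjective M hπs, card_comap_mk' N M] at h1
      exact Nat.Coprime.coprime_dvd_left (Dvd.intro _ rfl) h1
    obtain ⟨q, hq, hqdvd, hqn⟩ := ih _ hcardQ (G ⧸ N) rfl hQ
    refine ⟨q, hq, hqdvd.trans (Dvd.intro _ hcardmul.symm), ?_⟩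
    intro P
    have hqF : Fact q.Prime := ⟨hq⟩
    have h1 : ((P : Subgroup G).map π).Normal := hqn (P.mapSurjective hπs)
    set L := (P : Subgroup G) ⊔ N with hL
    have hLn : L.Normal := by
      have h2 := h1.comap π
      rwa [Subgroup.comap_map_eq, QuotientGroup.ker_mk'] at h2
    have hPL : (P : Subgroup G) ≤ L := le_sup_left
    have h2 := Sylow.normalizer_sup_eq_top (P.subtype hPL)
    rw [Sylow.coe_subtype, Subgroup.map_subgroupOf_eq_of_le hPL] at h2
    have h3 : Subgroup.normalizer (P : Set G) ⊔ frattini G = ⊤ := by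
      rw [eq_top_iff, ← h2]
      apply sup_le le_sup_left
      exact sup_le (Subgroup.le_normalizer.trans le_sup_left) (hNΦ.trans le_sup_right)
    exact Subgroup.normalizer_eq_top_iff.1 (frattini_nongenerating h3)
  · -- `N ≰ Φ(G)`: `N` is a normal Sylow subgroup
    obtain ⟨M, hM, hNM⟩ : ∃ M : Subgroup G, IsCoatom M ∧ ¬ N ≤ M := by
      by_contra hcon
      push Not at hcon
      exact hNΦ (le_frattini_iff.2 hcon)
    obtain ⟨p, d, hp, hd, hNcard, _⟩ := minNormal_exists_prime_pow N hN1 hNmin
      (minNormal_comm_of_isSolvable N hN1 hNmin)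
    have hsup := sup_eq_top_of_isCoatom_of_not_le hM hNM
    have hidx : M.index = M.relIndex N := by
      rw [relIndex_eq_relIndex_sup_of_normal M N, hsup, Subgroup.relIndex_top_right]
    have hdvd : M.index ∣ p ^ d := by
      rw [hidx, ← hNcard]; exact Subgroup.relIndex_dvd_card M N
    obtain ⟨c, hc, hMc⟩ := (Nat.dvd_prime_pow hp).1 hdvd
    have hc0 : c ≠ 0 := by
      rintro rfl
      rw [pow_zero] at hMc
      exact hM.1 (Subgroup.index_eq_one.1 hMc)
    have hcop := h M hM
    have hpM : ¬ p ∣ Nat.card M := by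
      intro hdiv
      rw [hMc] at hcop
      have h1 : p ∣ Nat.gcd (Nat.card M) (p ^ c) := Nat.dvd_gcd hdiv (dvd_pow_self p hc0)
      rw [Nat.Coprime.gcd_eq_one hcop] at h1
      exact hp.one_lt.ne' (Nat.dvd_one.1 h1)
    have hG : Nat.card G = Nat.card M * p ^ c := by
      rw [← hMc]; exact (Subgroup.card_mul_index M).symm
    have hfac : (Nat.card G).factorization p = c := by
      rw [hG, Nat.factorization_mul (Nat.card_pos).ne' (pow_pos hp.pos c).ne', Finsupp.add_apply,
        Nat.factorization_eq_zero_of_not_dvd hpM, zero_add, hp.factorization_pow,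
        Finsupp.single_eq_same]
    have hdc : d = c := by
      apply le_antisymm
      · have h1 : p ^ d ∣ Nat.card G := hNcard ▸ Subgroup.card_subgroup_dvd_card N
        rw [← hfac]
        exact (hp.pow_dvd_iff_le_factorization Nat.card_pos.ne').1 h1
      · exact hc
    have hpF : Fact p.Prime := ⟨hp⟩
    set P₀ : Sylow p G := Sylow.ofCard N (by rw [hNcard, hfac, hdc]) with hP₀
    refine ⟨p, hp, ?_, ?_⟩
    · exact (dvd_pow_self p hd.ne').trans (hNcard ▸ Subgroup.card_subgroup_dvd_card N)
    · intro P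
      have hP₀n : (P₀ : Subgroup G).Normal := hNn
      have hu := Sylow.unique_of_normal P₀ hP₀n
      have hPP : P = P₀ := Subsingleton.elim _ _
      rw [hPP]; exact hP₀n

/-- Let G be a nontrivial finite solvable group in which every maximal subgroup has order coprime to its index. Then for some prime p dividing the order of G the Sylow p-subgroups of G are normal. -/
theorem result {G : Type*} [Group G] [Finite G] [Group.IsSolvable G] [Nontrivial G] (h : ∀ M : Subgroup G, IsCoatom M → (Nat.card M).Coprime M.index) : ∃ p : ℕ, p.Prime ∧ p ∣ Nat.card G ∧ ∀ P : Sylow p G, (P : Subgroup G).Normal := by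
  exact normal_sylow_of_hall_maximals _ G rfl h

end Cfsg.Agent.S0553
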