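import Cfsg.Statements.S0554
-- import your own Cfsg.Agent.* helpers here
import Cfsg.Agent.Lib.H20.Solvable
import Mathlib

set_option autoImplicit false
open Cfsg

namespace Cfsg.Agent.S0554
open scoped Pointwise

theorem exists_update_prod {G : Type*} [Group G] (N : Subgroup G) [hN : N.Normal] :
    ∀ (t : ℕ) (s : Fin t → G) (j : Fin t) (n : G), n ∈ N →
      ∃ n' ∈ N, (List.ofFn s).prod * n = (List.ofFn (Function.update s j (s j * n'))).prod
  | 0, _, j, _, _ => j.elim0
  | t + 1, s, j, n, hn => by
    induction j using Fin.cases with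
    | zero =>
      set r := (List.ofFn fun i : Fin t => s i.succ).prod with hr
      refine ⟨r * n * r⁻¹, hN.conj_mem n hn r, ?_⟩
      rw [List.ofFn_succ, List.prod_cons, List.ofFn_succ, List.prod_cons, Function.update_self]
      have : (fun i : Fin t => Function.update s 0 (s 0 * (r * n * r⁻¹)) i.succ) =
          fun i => s i.succ := by
        funext i; rw [Function.update_of_ne (Fin.succ_ne_zero i)]
      rw [this, ← hr]; group
    | succ j' =>
      obtain ⟨n', hn', h⟩ := exists_update_prod N t (fun i => s i.succ) j' n hn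
      refine ⟨n', hn', ?_⟩
      rw [List.ofFn_succ, List.prod_cons, List.ofFn_succ, List.prod_cons,
        Function.update_of_ne (Fin.succ_ne_zero j').symm, mul_assoc, h]
      congr 3
      funext i
      by_cases hi : i = j'
      · subst hi; simp
      · rw [Function.update_of_ne hi,
          Function.update_of_ne (fun h => hi (Fin.succ_injective _ h))]

/-- A normal `p`-subgroup lies in every Sylow `p`-subgroup. -/
theorem normal_le_sylow {G : Type*} [Group G] [Finite G] {p : ℕ} [Fact p.Prime] (N : Subgroup G)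
    [hN : N.Normal] (hNp : IsPGroup p N) (P : Sylow p G) : N ≤ P := by
  obtain ⟨Q, hQ⟩ := hNp.exists_le_sylow
  obtain ⟨g, rfl⟩ := MulAction.exists_smul_eq G Q P
  intro x hx
  have h1 : g⁻¹ * x * g⁻¹⁻¹ ∈ N := hN.conj_mem x hx g⁻¹
  have h2 := hQ h1
  rw [Sylow.coe_subgroup_smul, Subgroup.mem_pointwise_smul_iff_inv_smul_mem]
  simpa [MulAut.smul_def] using h2

theorem main.{u} : ∀ (n : ℕ) (G : Type u) [Group G] [Finite G] [Group.IsSolvable G],
    Nat.card G = n → ∀ (t : ℕ) (p : Fin t → ℕ) (hp : ∀ i, (p i).Prime)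
    (hall : ∀ q : ℕ, q.Prime → q ∣ Nat.card G → ∃ i, p i = q)
    (S : (i : Fin t) → Sylow (p i) G) (g : G),
    ∃ s : (i : Fin t) → G, (∀ i, s i ∈ (S i : Subgroup G)) ∧ g = (List.ofFn s).prod := by
  intro n
  induction n using Nat.strong_induction_on with
  | _ n ih =>
  intro G _ _ _ hcard t p hp hall S g
  rcases subsingleton_or_nontrivial G with hsub | hnt
  · refine ⟨fun _ => 1, fun i => Subgroup.one_mem _, Subsingleton.elim _ _⟩
  obtain ⟨q, N, hq, hNn, hN1, hNp⟩ := Cfsg.Agent.Lib.H20.exists_normal_pGroup_of_solvable (G := G)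
  have hNnt : Nontrivial N := (Subgroup.nontrivial_iff_ne_bot N).2 hN1
  have hNc1 : 1 < Nat.card N := Finite.one_lt_card_iff_nontrivial.2 hNnt
  have hqd : q ∣ Nat.card G := by
    have : Fact q.Prime := ⟨hq⟩
    obtain ⟨k, hk⟩ := IsPGroup.iff_card.1 hNp
    have hk0 : k ≠ 0 := by
      rintro rfl
      rw [pow_zero] at hk; omega
    exact (dvd_pow_self q hk0).trans (hk ▸ Subgroup.card_subgroup_dvd_card N)
  obtain ⟨j, rfl⟩ := hall q hq hqd
  have hNS : N ≤ (S j : Subgroup G) := by
    have : Fact (p j).Prime := ⟨hp j⟩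
    exact normal_le_sylow N hNp (S j)
  -- quotient
  have hs := QuotientGroup.mk'_surjective N
  have hQlt : Nat.card (G ⧸ N) < n := by
    rw [← hcard, Subgroup.card_eq_card_quotient_mul_card_subgroup N]
    exact lt_mul_of_one_lt_right Nat.card_pos hNc1
  have hallQ : ∀ r : ℕ, r.Prime → r ∣ Nat.card (G ⧸ N) → ∃ i, p i = r := by
    intro r hr hrd
    apply hall r hr
    rw [Subgroup.card_eq_card_quotient_mul_card_subgroup N]
    exact Dvd.dvd.mul_right hrd _
  let S' : (i : Fin t) → Sylow (p i) (G ⧸ N) := fun i =>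
    have : Fact (p i).Prime := ⟨hp i⟩
    (S i).mapSurjective hs
  obtain ⟨sb, hsb, hgb⟩ := ih _ hQlt (G ⧸ N) rfl t p hp hallQ S' (QuotientGroup.mk' N g)
  have hlift : ∀ i, ∃ x ∈ (S i : Subgroup G), QuotientGroup.mk' N x = sb i := by
    intro i
    have : Fact (p i).Prime := ⟨hp i⟩
    have := hsb i
    simp only [S', Sylow.coe_mapSurjective] at this
    exact this
  choose s hsS hsm using hlift
  have hprod : QuotientGroup.mk' N (List.ofFn s).prod = (List.ofFn sb).prod := by
    rw [map_list_prod, List.map_ofFn]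
    congr 2
    funext i
    exact hsm i
  have hn : (List.ofFn s).prod⁻¹ * g ∈ N := by
    rw [← QuotientGroup.eq_one_iff (N := N)]
    show QuotientGroup.mk' N ((List.ofFn s).prod⁻¹ * g) = 1
    rw [map_mul, map_inv, hprod, hgb, inv_mul_cancel]
  obtain ⟨n', hn', he⟩ := exists_update_prod N t s j _ hn
  refine ⟨Function.update s j (s j * n'), ?_, ?_⟩
  · intro i
    by_cases hi : i = j
    · subst hi
      rw [Function.update_self]
      exact Subgroup.mul_mem _ (hsS i) (hNS hn')
    · rw [Function.update_of_ne hi]; exact hsS i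
  · rw [← he]; group

/-- Let G be a finite solvable group and let S assign to each of t distinct primes, including every prime divisor of the order of G, a Sylow subgroup of G. Then every element of G is a product s_0 s_1 ⋯ s_(t-1) with s_i in S i, the factors taken in the given order. -/
theorem result {G : Type*} [Group G] [Finite G] [Group.IsSolvable G] (t : ℕ) (p : Fin t → ℕ) (hp : ∀ i, (p i).Prime) (hinj : Function.Injective p) (hall : ∀ q : ℕ, q.Prime → q ∣ Nat.card G → ∃ i, p i = q) (S : (i : Fin t) → Sylow (p i) G) : ∀ g : G, ∃ s : (i : Fin t) → G, (∀ i, s i ∈ (S i : Subgroup G)) ∧ g = (List.ofFn s).prod := by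
  exact main _ G rfl t p hp hall S

end Cfsg.Agent.S0554
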