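import Cfsg.Statements.S0555
-- import your own Cfsg.Agent.* helpers here
import Cfsg.Agent.Lib.H3.Supersolvable2
import Mathlib

set_option autoImplicit false
open Cfsg

namespace Cfsg.Agent.S0555
open scoped commutatorElement

/-- Extract a generator modulo a subgroup from cyclicity of a quotient `↥A ⧸ B.subgroupOf A`. -/
theorem exists_generator_mod {G : Type*} [Group G] (A B : Subgroup G) [hn : (B.subgroupOf A).Normal]
    (h : IsCyclic (↥A ⧸ B.subgroupOf A)) :
    ∃ b ∈ A, ∀ y ∈ A, ∃ k : ℤ, (b ^ k)⁻¹ * y ∈ B := by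
  obtain ⟨gb, hgb⟩ := h.exists_generator
  obtain ⟨b, rfl⟩ := QuotientGroup.mk_surjective gb
  refine ⟨b.1, b.2, fun y hy => ?_⟩
  obtain ⟨k, hk⟩ := Subgroup.mem_zpowers_iff.1 (hgb (QuotientGroup.mk ⟨y, hy⟩))
  refine ⟨k, ?_⟩
  rw [← QuotientGroup.mk_zpow, QuotientGroup.eq] at hk
  have := Subgroup.mem_subgroupOf.1 hk
  simpa using this

theorem main {G : Type*} [Group G] (i : ℕ) (hi : 1 ≤ i)
    (h₁ : IsCyclic (↥(derivedSeries G i) ⧸ (derivedSeries G (i + 1)).subgroupOf (derivedSeries G i)))
    (h₂ : IsCyclic (↥(derivedSeries G (i + 1)) ⧸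
      (derivedSeries G (i + 2)).subgroupOf (derivedSeries G (i + 1)))) :
    derivedSeries G (i + 1) = derivedSeries G (i + 2) := by
  set D0 := derivedSeries G i with hD0
  set D1 := derivedSeries G (i + 1) with hD1
  set N := derivedSeries G (i + 2) with hN
  have hNn : N.Normal := derivedSeries_normal G _
  have hD1n : D1.Normal := derivedSeries_normal G _
  obtain ⟨b, hb, hbgen⟩ := exists_generator_mod D0 D1 h₁
  obtain ⟨a, ha, hagen⟩ := exists_generator_mod D1 N h₂
  apply le_antisymm _ (by rw [hN, hD1]; exact derivedSeries_antitone G (by omega))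
  let π := QuotientGroup.mk' N
  have hπs : Function.Surjective π := QuotientGroup.mk'_surjective N
  -- image of D1 is the normal cyclic subgroup generated by π a
  have hA : D1.map π = Subgroup.zpowers (π a) := by
    apply le_antisymm
    · rintro _ ⟨x, hx, rfl⟩
      obtain ⟨k, hk⟩ := hagen x hx
      rw [Subgroup.mem_zpowers_iff]
      refine ⟨k, ?_⟩
      have : π ((a ^ k)⁻¹ * x) = 1 := (QuotientGroup.eq_one_iff _).2 hk
      rw [map_mul, map_inv, map_zpow, inv_mul_eq_one] at this
      exact this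
    · rw [Subgroup.zpowers_le]; exact Subgroup.mem_map_of_mem π ha
  have hAn : (Subgroup.zpowers (π a)).Normal := by rw [← hA]; exact hD1n.map π hπs
  -- every element of D0 maps to an element commuting with π a
  have hD0comm : D0 ≤ commutator G := by
    rw [hD0, ← derivedSeries_one]; exact derivedSeries_antitone G hi
  have hcent : ∀ y ∈ D0, Commute (π y) (π a) := by
    have hle : commutator G ≤ (Subgroup.centralizer {π a}).comap π := by
      rw [commutator_def, Subgroup.commutator_le]
      intro x _ y _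
      rw [Subgroup.mem_comap, map_commutatorElement, Subgroup.mem_centralizer_singleton_iff]
      exact (Cfsg.Agent.Lib.H3.commute_commutatorElement_of_normal_zpowers _ hAn _ _).eq
    intro y hy
    have := hle (hD0comm hy)
    rw [Subgroup.mem_comap, Subgroup.mem_centralizer_singleton_iff] at this
    exact this
  -- the image of D0 is commutative
  have hform : ∀ y ∈ D0, ∃ k m : ℤ, π y = π b ^ k * π a ^ m := by
    intro y hy
    obtain ⟨k, hk⟩ := hbgen y hy
    obtain ⟨m, hm⟩ := hagen _ hk
    refine ⟨k, m, ?_⟩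
    have : π ((a ^ m)⁻¹ * ((b ^ k)⁻¹ * y)) = 1 := (QuotientGroup.eq_one_iff _).2 hm
    rw [map_mul, map_mul, map_inv, map_inv, map_zpow, map_zpow] at this
    have h2 : π y = π b ^ k * π a ^ m := by
      have h3 := congrArg (fun z => π b ^ k * (π a ^ m * z)) this
      simp only [mul_one] at h3
      rw [← h3]; group
    exact h2
  have hba : Commute (π b) (π a) := hcent b hb
  have hcommD0 : ∀ y₁ ∈ D0, ∀ y₂ ∈ D0, Commute (π y₁) (π y₂) := by
    intro y₁ h1 y₂ h2
    obtain ⟨k1, m1, e1⟩ := hform y₁ h1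
    obtain ⟨k2, m2, e2⟩ := hform y₂ h2
    rw [e1, e2]
    have c1 : Commute (π b ^ k1) (π b ^ k2) := (Commute.refl _).zpow_zpow _ _
    have c2 : Commute (π b ^ k1) (π a ^ m2) := hba.zpow_zpow _ _
    have c3 : Commute (π a ^ m1) (π b ^ k2) := (hba.zpow_zpow _ _).symm
    have c4 : Commute (π a ^ m1) (π a ^ m2) := (Commute.refl _).zpow_zpow _ _
    exact (c1.mul_right c2).mul_left (c3.mul_right c4)
  rw [hD1, derivedSeries_succ, Subgroup.commutator_le]
  intro y₁ h1 y₂ h2
  rw [← QuotientGroup.eq_one_iff (N := N)]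
  show π ⁅y₁, y₂⁆ = 1
  rw [map_commutatorElement, commutatorElement_eq_one_iff_commute]
  exact hcommD0 y₁ h1 y₂ h2

/-- Let i ≥ 1. If in the derived series of a group the quotient of the i-th term by the (i+1)-st and the quotient of the (i+1)-st by the (i+2)-nd are both cyclic, then the (i+1)-st and (i+2)-nd terms coincide. -/
theorem result {G : Type*} [Group G] (i : ℕ) (hi : 1 ≤ i) (h₁ : IsCyclic (↥(derivedSeries G i) ⧸ (derivedSeries G (i + 1)).subgroupOf (derivedSeries G i))) (h₂ : IsCyclic (↥(derivedSeries G (i + 1)) ⧸ (derivedSeries G (i + 2)).subgroupOf (derivedSeries G (i + 1)))) : derivedSeries G (i + 1) = derivedSeries G (i + 2) := by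
  exact main i hi h₁ h₂

end Cfsg.Agent.S0555
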