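import Cfsg.Statements.S0557
-- import your own Cfsg.Agent.* helpers here
import Cfsg.Agent.Lib.H3.Sylow
import Cfsg.Agent.Lib.H3.Thompson
import Mathlib

set_option autoImplicit false
open Cfsg

namespace Cfsg.Agent.S0557
open scoped commutatorElement


section Aux557
variable {G : Type*} [Group G]

/-- An element of a group killed by the order of a normal Hall subgroup lies in it. -/
theorem mem_of_pow_card_eq_one_of_normal_hall [Finite G] (N : Subgroup G) [N.Normal]
    (hcop : (Nat.card N).Coprime N.index) {y : G} (hy : y ^ Nat.card N = 1) : y ∈ N := by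
  rw [← QuotientGroup.eq_one_iff]
  have h1 : (y : G ⧸ N) ^ Nat.card N = 1 := by
    rw [← QuotientGroup.mk_pow, hy]; rfl
  have h2 : (y : G ⧸ N) ^ N.index = 1 := by
    rw [Subgroup.index_eq_card]; exact pow_card_eq_one'
  have h3 : orderOf (y : G ⧸ N) ∣ Nat.gcd (Nat.card N) N.index :=
    Nat.dvd_gcd (orderOf_dvd_of_pow_eq_one h1) (orderOf_dvd_of_pow_eq_one h2)
  rw [Nat.Coprime.gcd_eq_one hcop] at h3
  exact orderOf_eq_one_iff.1 (Nat.dvd_one.1 h3)

theorem focal_map_le (N : Subgroup G) (A : Subgroup N) (B : Subgroup G)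
    (hAB : A.map N.subtype ≤ B) : A.focalSubgroup.map N.subtype ≤ B.focalSubgroup := by
  rw [Subgroup.focalSubgroup_def, MonoidHom.map_closure, Subgroup.closure_le]
  rintro _ ⟨g, ⟨hgA, x, hxA, u, rfl⟩, rfl⟩
  apply Subgroup.subset_closure
  refine ⟨hAB (Subgroup.mem_map_of_mem _ hgA), (x : G), hAB (Subgroup.mem_map_of_mem _ hxA),
    (u : G), ?_⟩
  simp [commutatorElement_def]

theorem focal_iterate_map_le (N : Subgroup G) (i : ℕ) : ∀ (A : Subgroup N) (B : Subgroup G),
    A.map N.subtype ≤ B →
    ((fun K : Subgroup N => K.focalSubgroup)^[i] A).map N.subtype ≤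
      (fun K : Subgroup G => K.focalSubgroup)^[i] B := by
  induction i with
  | zero => intro A B h; exact h
  | succ i ih =>
    intro A B h
    rw [Function.iterate_succ_apply, Function.iterate_succ_apply]
    exact ih _ _ (focal_map_le N A B h)

theorem card_quot_focal_dvd [Finite G] (H : Subgroup G) :
    Nat.card (H ⧸ H.focalSubgroupOf) ∣ Nat.card H :=
  ⟨_, Subgroup.card_eq_card_quotient_mul_card_subgroup H.focalSubgroupOf⟩

theorem inf_ker_transferFocal [Finite G] (H : Subgroup G)
    (hHall : (Nat.card H).Coprime H.index) :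
    H ⊓ (H.transferFocal).ker = H.focalSubgroup := by
  ext x
  constructor
  · rintro ⟨hxH, hxk⟩
    have hxH : x ∈ H := hxH
    have hxk : x ∈ (H.transferFocal).ker := hxk
    have h1 := H.transferFocal_eq_pow ⟨x, hxH⟩
    rw [MonoidHom.mem_ker] at hxk
    have h2 : ((⟨x, hxH⟩ : H) : H ⧸ H.focalSubgroupOf) ^ H.index = 1 := by
      rw [← h1]; exact hxk
    have h3 : orderOf ((⟨x, hxH⟩ : H) : H ⧸ H.focalSubgroupOf) ∣ Nat.card H :=
      (orderOf_dvd_natCard _).trans (card_quot_focal_dvd H)
    have h4 : orderOf ((⟨x, hxH⟩ : H) : H ⧸ H.focalSubgroupOf) ∣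
        Nat.gcd (Nat.card H) H.index := Nat.dvd_gcd h3 (orderOf_dvd_of_pow_eq_one h2)
    rw [Nat.Coprime.gcd_eq_one hHall] at h4
    have h5 : ((⟨x, hxH⟩ : H) : H ⧸ H.focalSubgroupOf) = 1 :=
      orderOf_eq_one_iff.1 (Nat.dvd_one.1 h4)
    have h6 : (⟨x, hxH⟩ : H) ∈ H.focalSubgroupOf := (QuotientGroup.eq_one_iff _).1 h5
    exact Subgroup.mem_subgroupOf.1 h6
  · intro hx
    have hxH := H.focalSubgroup_le hx
    refine ⟨hxH, ?_⟩
    show x ∈ (H.transferFocal).ker
    rw [MonoidHom.mem_ker]
    have h1 := H.transferFocal_eq_pow ⟨x, hxH⟩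
    have h5 : ((⟨x, hxH⟩ : H) : H ⧸ H.focalSubgroupOf) = 1 :=
      (QuotientGroup.eq_one_iff _).2 (Subgroup.mem_subgroupOf.2 hx)
    rw [h5, one_pow] at h1
    exact h1

theorem sup_ker_transferFocal [Finite G] (H : Subgroup G)
    (hHall : (Nat.card H).Coprime H.index) : H ⊔ (H.transferFocal).ker = ⊤ := by
  rw [eq_top_iff]
  intro g _
  have hcopQ : (Nat.card (H ⧸ H.focalSubgroupOf)).Coprime H.index :=
    Nat.Coprime.coprime_dvd_left (card_quot_focal_dvd H) hHall
  obtain ⟨y, hy⟩ := (powCoprime hcopQ).surjective (H.transferFocal g)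
  obtain ⟨h, rfl⟩ := QuotientGroup.mk_surjective y
  have h1 : H.transferFocal (h : G) = H.transferFocal g := by
    rw [H.transferFocal_eq_pow h]; exact hy
  have hk : (h : G)⁻¹ * g ∈ (H.transferFocal).ker := by
    rw [MonoidHom.mem_ker, map_mul, map_inv, h1, inv_mul_cancel]
  have h2 : g = (h : G) * ((h : G)⁻¹ * g) := by group
  rw [h2]
  exact Subgroup.mul_mem_sup h.2 hk

open Cfsg.Agent.Lib.H3 in
theorem exists_normal_complement_of_focal_iterate.{u} : ∀ (n : ℕ) (G : Type u) [Group G]
    [Finite G] (H : Subgroup G), (Nat.card H).Coprime H.index →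
    (fun K : Subgroup G => K.focalSubgroup)^[n] H = ⊥ →
    ∃ N : Subgroup G, N.Normal ∧ Subgroup.IsComplement' N H := by
  intro n
  induction n with
  | zero =>
    intro G _ _ H _ hfoc
    have h0 : H = ⊥ := hfoc
    subst h0
    exact ⟨⊤, inferInstance, Subgroup.isComplement'_top_bot⟩
  | succ n ih =>
    intro G _ _ H hHall hfoc
    rw [Function.iterate_succ_apply] at hfoc
    set H₁ := H.focalSubgroup with hH₁
    set N₁ := (H.transferFocal).ker with hN₁
    have hN₁n : N₁.Normal := inferInstance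
    have hinf : H ⊓ N₁ = H₁ := inf_ker_transferFocal H hHall
    have hsup : H ⊔ N₁ = ⊤ := sup_ker_transferFocal H hHall
    have hH₁N₁ : H₁ ≤ N₁ := by rw [← hinf]; exact inf_le_right
    have hH₁H : H₁ ≤ H := H.focalSubgroup_le
    set A : Subgroup N₁ := H₁.subgroupOf N₁ with hA
    have hAmap : A.map N₁.subtype = H₁ := Subgroup.map_subgroupOf_eq_of_le hH₁N₁
    have hAidx : A.index = H.index := by
      show H₁.relIndex N₁ = H.index
      rw [← hinf, Subgroup.inf_relIndex_right, relIndex_eq_relIndex_sup_of_normal H N₁, hsup,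
        Subgroup.relIndex_top_right]
    have hAcard : Nat.card A = Nat.card H₁ := card_subgroupOf_of_le hH₁N₁
    have hcop1 : (Nat.card H₁).Coprime H.index :=
      Nat.Coprime.coprime_dvd_left (Subgroup.card_dvd_of_le hH₁H) hHall
    have hAHall : (Nat.card A).Coprime A.index := by
      rw [hAcard, hAidx]; exact hcop1
    have hAfoc : (fun K : Subgroup N₁ => K.focalSubgroup)^[n] A = ⊥ := by
      have h1 := focal_iterate_map_le N₁ n A H₁ hAmap.le
      rw [hfoc, le_bot_iff,
        Subgroup.map_eq_bot_iff_of_injective _ (Subgroup.subtype_injective N₁)] at h1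
      exact h1
    obtain ⟨N₂', hN₂'n, hcompl⟩ := ih N₁ A hAHall hAfoc
    have hcard2 : Nat.card N₂' * Nat.card A = Nat.card N₁ := hcompl.card_mul_card
    have hcardN₁ : A.index * Nat.card A = Nat.card N₁ := Subgroup.index_mul_card A
    have hN₂'card : Nat.card N₂' = H.index := by
      rw [← hAidx]
      have h1 : Nat.card N₂' * Nat.card A = A.index * Nat.card A := by rw [hcard2, hcardN₁]
      exact Nat.eq_of_mul_eq_mul_right Nat.card_pos h1
    have hN₂'idx : N₂'.index = Nat.card A := by
      have h1 := Subgroup.card_mul_index N₂'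
      exact Nat.eq_of_mul_eq_mul_left Nat.card_pos (h1.trans hcard2.symm)
    set N₂ := N₂'.map N₁.subtype with hN₂
    have hN₂card : Nat.card N₂ = H.index := by rw [hN₂, card_map_subtype, hN₂'card]
    refine ⟨N₂, ?_, ?_⟩
    · constructor
      rintro _ ⟨y, hy, rfl⟩ g
      have hgy : g * (y : G) * g⁻¹ ∈ N₁ := hN₁n.conj_mem _ y.2 g
      refine ⟨⟨_, hgy⟩, ?_, rfl⟩
      apply mem_of_pow_card_eq_one_of_normal_hall N₂'
        (by rw [hN₂'card, hN₂'idx, hAcard]; exact hcop1.symm)
      apply Subtype.ext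
      have hy1 : y ^ Nat.card N₂' = 1 := by
        have h1 : (⟨y, hy⟩ : N₂') ^ Nat.card N₂' = 1 := pow_card_eq_one'
        exact congrArg Subtype.val h1
      have hy2 : (y : G) ^ Nat.card N₂' = 1 := by
        have h2 := congrArg Subtype.val hy1
        simpa using h2
      show (g * (y : G) * g⁻¹) ^ Nat.card N₂' = 1
      rw [conj_pow, hy2, mul_one, mul_inv_cancel]
    · apply Subgroup.isComplement'_of_card_mul_and_disjoint
      · rw [hN₂card, mul_comm]; exact Subgroup.card_mul_index H
      · apply Subgroup.disjoint_of_coprime_natCard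
        rw [hN₂card]; exact hHall.symm


end Aux557

/-- Let H be a subgroup of a finite group G with order coprime to its index. If iterating the focal-subgroup construction starting from H reaches the trivial subgroup after finitely many steps, then H has a normal complement in G. -/
theorem result {G : Type*} [Group G] [Finite G] (H : Subgroup G) (hHall : (Nat.card H).Coprime H.index) (n : ℕ) (hfoc : (fun K : Subgroup G => Subgroup.focalSubgroup K)^[n] H = ⊥) : ∃ N : Subgroup G, N.Normal ∧ Subgroup.IsComplement' N H := by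
  exact exists_normal_complement_of_focal_iterate n G H hHall hfoc

end Cfsg.Agent.S0557
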