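import Cfsg.Statements.S0563
-- import your own Cfsg.Agent.* helpers here
import Cfsg.Agent.Lib.H3.KW8
import Mathlib

set_option autoImplicit false
open Pointwise
open Cfsg

namespace Cfsg.Agent.S0563

open Cfsg.Agent.Lib.H3 Cfsg.Agent.Lib.H3.KW in
/-- Hall property of the image in `G` of a Sylow subgroup of the Hall subgroup `A`. -/
theorem hall_of_sylow {G : Type*} [Group G] [Finite G] {A B : Subgroup G} (w : WP A B) {p : ℕ}
    [Fact p.Prime] (P : Sylow p A) :
    (Nat.card ((P : Subgroup A).map A.subtype)).Coprime ((P : Subgroup A).map A.subtype).index := by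
  rw [Subgroup.card_map_of_injective A.subtype_injective, Subgroup.index_map_subtype]
  obtain ⟨k, hk⟩ := IsPGroup.iff_card.mp P.isPGroup'
  rw [hk]
  rcases Nat.eq_zero_or_pos k with rfl | hk0
  · simp
  · apply Nat.Coprime.pow_left
    rw [Nat.Prime.coprime_iff_not_dvd Fact.out]
    intro h
    rcases (Nat.Prime.dvd_mul Fact.out).mp h with h1 | h1
    · exact P.not_dvd_index h1
    · have hpA : p ∣ Nat.card A :=
        (dvd_pow_self p hk0.ne').trans (hk ▸ Subgroup.card_subgroup_dvd_card _)
      rw [w.index_left] at h1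
      exact w.not_dvd_right_of_dvd_left Fact.out hpA h1

/-- If a finite group G is the product AB of two nilpotent subgroups of coprime orders, then G is solvable, and for every Sylow p-subgroup P of A and Sylow q-subgroup Q of B the product set PQ is a subgroup. -/
theorem result {G : Type*} [Group G] [Finite G] (A B : Subgroup G) (hA : Group.IsNilpotent A) (hB : Group.IsNilpotent B) (hcop : (Nat.card A).Coprime (Nat.card B)) (hAB : ∀ g : G, ∃ a ∈ A, ∃ b ∈ B, g = a * b) : Group.IsSolvable G ∧ ∀ (p q : ℕ) [Fact p.Prime] [Fact q.Prime] (P : Sylow p A) (Q : Sylow q B), ∃ S : Subgroup G, (S : Set G) = (((P : Subgroup A).map A.subtype : Subgroup G) : Set G) * (((Q : Subgroup B).map B.subtype : Subgroup G) : Set G) := by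
  have w : Cfsg.Agent.Lib.H3.KW.WP A B := ⟨hA, hB, hcop, hAB⟩
  haveI hsolv : Group.IsSolvable G := Cfsg.Agent.Lib.H3.KW.solvable_of_wp w
  refine ⟨hsolv, ?_⟩
  intro p q _ _ P Q
  haveI := hA
  haveI := hB
  have hPn := Cfsg.Agent.Lib.H3.KW.le_normalizer_map_subtype (P : Subgroup A) inferInstance
  have hQn := Cfsg.Agent.Lib.H3.KW.le_normalizer_map_subtype (Q : Subgroup B) inferInstance
  obtain ⟨S, hS⟩ := Cfsg.Agent.Lib.H3.exists_subgroup_eq_mul_of_normal_hall hAB hPn hQn
    (hall_of_sylow w P) (hall_of_sylow w.symm Q) 1 1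
  rw [map_one, one_smul, one_smul] at hS
  exact ⟨S, hS⟩

end Cfsg.Agent.S0563
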