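import Cfsg.Statements.S0567
import Mathlib

set_option autoImplicit false
open Cfsg

namespace Cfsg.Agent.S0567

open scoped commutatorElement

variable {G : Type*} [Group G]

/-- the iterated commutator series `[G, H, ..., H]` -/
def KK (H : Subgroup G) (i : ℕ) : Subgroup G := (fun K : Subgroup G => ⁅K, H⁆)^[i] ⊤

theorem KK_zero (H : Subgroup G) : KK H 0 = ⊤ := rfl

theorem KK_succ (H : Subgroup G) (i : ℕ) : KK H (i + 1) = ⁅KK H i, H⁆ := by
  unfold KK
  rw [Function.iterate_succ_apply']

theorem KK_mono {H H' : Subgroup G} (h : H ≤ H') (i : ℕ) : KK H i ≤ KK H' i := by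
  induction i with
  | zero => exact le_rfl
  | succ i ih => rw [KK_succ, KK_succ]; exact Subgroup.commutator_mono ih h

theorem KK_antitone (H : Subgroup G) (i : ℕ) : KK H (i + 1) ≤ KK H i := by
  induction i with
  | zero => exact le_top
  | succ i ih =>
    calc KK H (i + 1 + 1) = ⁅KK H (i + 1), H⁆ := KK_succ H (i + 1)
      _ ≤ ⁅KK H i, H⁆ := Subgroup.commutator_mono ih le_rfl
      _ = KK H (i + 1) := (KK_succ H i).symm

theorem conj_map_le {H A : Subgroup G} (b : G) (hbA : b ∈ Subgroup.normalizer (A : Set G))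
    (hb : ∀ h ∈ H, ⁅b, h⁆ ∈ A) :
    (H ⊔ A).map (MulAut.conj b).toMonoidHom ≤ H ⊔ A := by
  rw [Subgroup.map_sup]
  apply sup_le
  · rintro _ ⟨h, hh, rfl⟩
    have : (MulAut.conj b).toMonoidHom h = ⁅b, h⁆ * h := by
      simp [commutatorElement_def]
    rw [this]
    exact Subgroup.mul_mem _ (Subgroup.mem_sup_right (hb h hh)) (Subgroup.mem_sup_left hh)
  · have : A.map (MulAut.conj b).toMonoidHom = A := Subgroup.mem_normalizer_iff_map_conj_eq.1 hbA
    rw [this]; exact le_sup_right

theorem lemmaX {H A B : Subgroup G} (hAB : A ≤ B) (hBH : ⁅B, H⁆ ≤ A)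
    (hBA : B ≤ Subgroup.normalizer (A : Set G)) :
    H ⊔ B ≤ Subgroup.normalizer ((H ⊔ A : Subgroup G) : Set G) := by
  have hHA : H ≤ Subgroup.normalizer (A : Set G) :=
    Subgroup.le_normalizer_iff_commutator_le_left.2 ((Subgroup.commutator_mono hAB le_rfl).trans hBH)
  apply sup_le
  · exact (le_inf Subgroup.le_normalizer hHA).trans (Subgroup.normalizer_inf_normalizer_le_normalizer_sup H A)
  · intro b hb
    have hcomm : ∀ c ∈ B, ∀ h ∈ H, ⁅c, h⁆ ∈ A := fun c hc h hh =>
      hBH (Subgroup.commutator_mem_commutator hc hh)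
    have h1 := conj_map_le (H := H) b (hBA hb) (hcomm b hb)
    have h2 := conj_map_le (H := H) b⁻¹ (hBA (B.inv_mem hb)) (hcomm b⁻¹ (B.inv_mem hb))
    rw [Subgroup.mem_normalizer_iff_map_conj_eq]
    apply le_antisymm h1
    intro x hx
    refine ⟨b⁻¹ * x * b, ?_, by simp [mul_assoc]⟩
    have := h2 ⟨x, hx, rfl⟩
    simpa using this

/-- A subgroup H of a group G is subnormal exactly when, for some m, the subgroup obtained from G by taking the commutator with H m times in succession is contained in H. -/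
theorem result {G : Type*} [Group G] (H : Subgroup G) : H.IsSubnormal ↔ ∃ m : ℕ, (fun K : Subgroup G => ⁅K, H⁆)^[m] ⊤ ≤ H := by
  constructor
  · intro hH
    induction hH with
    | top => exact ⟨0, le_rfl⟩
    | step H K h_le _ hN ih =>
      obtain ⟨m, hm⟩ := ih
      refine ⟨m + 1, ?_⟩
      show KK H (m + 1) ≤ H
      rw [KK_succ]
      have h1 : KK H m ≤ K := (KK_mono h_le m).trans hm
      have h2 : K ≤ Subgroup.normalizer (H : Set G) :=
        (Subgroup.normal_subgroupOf_iff_le_normalizer h_le).1 hN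
      exact (Subgroup.commutator_mono h1 le_rfl).trans
        (Subgroup.le_normalizer_iff_commutator_le_right.1 h2)
  · rintro ⟨m, hm⟩
    have hsub : ∀ i, (H ⊔ KK H i).IsSubnormal := by
      intro i
      induction i with
      | zero => rw [KK_zero, sup_top_eq]; exact Subgroup.IsSubnormal.top
      | succ i ih =>
        have hle : H ⊔ KK H (i + 1) ≤ H ⊔ KK H i := sup_le_sup_left (KK_antitone H i) H
        refine Subgroup.IsSubnormal.step _ _ hle ih ?_
        rw [Subgroup.normal_subgroupOf_iff_le_normalizer hle]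
        apply lemmaX (KK_antitone H i)
        · rw [KK_succ]
        · rw [KK_succ]; exact Subgroup.normalizer_commutator_ge_left _ _
    have := hsub m
    rwa [sup_of_le_left (show KK H m ≤ H from hm)] at this

end Cfsg.Agent.S0567
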