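import Cfsg.Statements.S0568
-- import your own Cfsg.Agent.* helpers here
import Cfsg.Agent.Lib.H3.CoverAvoid
import Mathlib

set_option autoImplicit false
open Cfsg

namespace Cfsg.Agent.S0568
open scoped commutatorElement

/-- Let D be the system normalizer of a Hall complement system of a finite solvable group G, and let A < B be normal subgroups with no normal subgroup of G strictly between them (a chief factor). If G centralizes B modulo A then B ≤ A ⊔ D (D covers the factor); otherwise B ∩ D ≤ A (D avoids it). -/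
theorem result {G : Type*} [Group G] [Finite G] [Group.IsSolvable G] (K : Nat.Primes → Subgroup G) (hK : Cfsg.IsComplementSystem K) (A B : Subgroup G) [A.Normal] [B.Normal] (hAB : A < B) (hchief : ∀ N : Subgroup G, N.Normal → A ≤ N → N ≤ B → N = A ∨ N = B) : (⁅B, (⊤ : Subgroup G)⁆ ≤ A → B ≤ A ⊔ Cfsg.systemNormalizer K) ∧ (¬ ⁅B, (⊤ : Subgroup G)⁆ ≤ A → B ⊓ Cfsg.systemNormalizer K ≤ A) := by
  classical
  set π := QuotientGroup.mk' A with hπ
  have hπs : Function.Surjective π := QuotientGroup.mk'_surjective A
  have hker : π.ker = A := QuotientGroup.ker_mk' A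
  have hK' := Cfsg.Agent.Lib.H3.complementSystem_map_mk' hK A
  have hD' := Cfsg.Agent.Lib.H3.systemNormalizer_map_mk' hK A
  set B' : Subgroup (G ⧸ A) := B.map π with hB'
  have hB'n : B'.Normal := Subgroup.Normal.map inferInstance π hπs
  have hB'1 : B' ≠ ⊥ := by
    intro h
    rw [hB', Subgroup.map_eq_bot_iff, hker] at h
    exact hAB.not_ge h
  have hcomapB : B'.comap π = B := by
    rw [hB', Subgroup.comap_map_eq, hker]
    exact sup_eq_left.2 hAB.le
  have hB'min : ∀ N : Subgroup (G ⧸ A), N.Normal → N ≤ B' → N = ⊥ ∨ N = B' := by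
    intro N hN hNB
    have h1 : (N.comap π).Normal := hN.comap π
    have h2 : A ≤ N.comap π := by
      have h5 := MonoidHom.ker_le_comap π N
      rwa [hker] at h5
    have h3 : N.comap π ≤ B := by
      rw [← hcomapB]; exact Subgroup.comap_mono hNB
    have h4 : N = (N.comap π).map π := (Subgroup.map_comap_eq_self_of_surjective hπs N).symm
    rcases hchief _ h1 h2 h3 with h | h
    · left
      rw [h4, h, Subgroup.map_eq_bot_iff, hker]
    · right
      rw [h4, h]
  constructor
  · intro hcen
    have hcen' : B' ≤ Subgroup.center (G ⧸ A) := by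
      rintro _ ⟨b, hb, rfl⟩
      rw [Subgroup.mem_center_iff]
      intro y
      obtain ⟨g, rfl⟩ := hπs y
      have h1 : ⁅b, g⁆ ∈ A := hcen (Subgroup.commutator_mem_commutator hb (Subgroup.mem_top g))
      have h2 : π ⁅b, g⁆ = 1 := (QuotientGroup.eq_one_iff _).2 h1
      rw [map_commutatorElement, commutatorElement_def, mul_inv_eq_one, mul_inv_eq_iff_eq_mul]
        at h2
      exact h2.symm
    have h3 := Cfsg.Agent.Lib.H3.le_systemNormalizer_of_le_center hK' B' hB'1 hB'min hcen'
    rw [hD'] at h3
    have h4 : B ≤ ((Cfsg.systemNormalizer K).map π).comap π := by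
      rw [← hcomapB]; exact Subgroup.comap_mono h3
    rw [Subgroup.comap_map_eq, hker, sup_comm] at h4
    exact h4
  · intro hnc
    have hnc' : ¬ B' ≤ Subgroup.center (G ⧸ A) := by
      intro hcen'
      apply hnc
      rw [Subgroup.commutator_le]
      intro b hb g _
      have h1 : π b ∈ Subgroup.center (G ⧸ A) := hcen' (Subgroup.mem_map_of_mem π hb)
      have h2 := Subgroup.mem_center_iff.1 h1 (π g)
      have h3 : π ⁅b, g⁆ = 1 := by
        rw [map_commutatorElement, commutatorElement_def, mul_inv_eq_one, mul_inv_eq_iff_eq_mul]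
        exact h2.symm
      exact (QuotientGroup.eq_one_iff _).1 h3
    have h3 := Cfsg.Agent.Lib.H3.inf_systemNormalizer_eq_bot_of_not_le_center hK' B' hB'1 hB'min
      hnc'
    rw [hD'] at h3
    intro x hx
    have h4 : π x ∈ B' ⊓ (Cfsg.systemNormalizer K).map π :=
      ⟨Subgroup.mem_map_of_mem π hx.1, Subgroup.mem_map_of_mem π hx.2⟩
    rw [h3, Subgroup.mem_bot] at h4
    exact (QuotientGroup.eq_one_iff _).1 h4

end Cfsg.Agent.S0568
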