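import Cfsg.Statements.S0570
-- import your own Cfsg.Agent.* helpers here
import Cfsg.Agent.Lib.H3.CarterSys2
import Mathlib

set_option autoImplicit false
open Cfsg

namespace Cfsg.Agent.S0570

/-- Let G be a finite group with a nilpotent normal subgroup F such that G modulo F is nilpotent (nilpotent length at most two). Then a subgroup of G is a Carter subgroup if and only if it is the system normalizer of some Hall complement system. -/
theorem result {G : Type*} [Group G] [Finite G] (F : Subgroup G) [F.Normal] (hF : Group.IsNilpotent F) (hGF : Group.IsNilpotent (G ⧸ F)) (C : Subgroup G) : Cfsg.IsCarterSubgroup C ↔ ∃ K : Nat.Primes → Subgroup G, Cfsg.IsComplementSystem K ∧ C = Cfsg.systemNormalizer K := by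
  have hFs : Group.IsSolvable F := inferInstance
  have hQs : Group.IsSolvable (G ⧸ F) := inferInstance
  have hGs : Group.IsSolvable G := (Group.isSolvable_iff_subgroup_quotient F).2 ⟨hFs, hQs⟩
  constructor
  · intro hC
    obtain ⟨K, hK, hred, hle⟩ := Cfsg.Agent.Lib.H3.exists_systemNormalizer_le_carter C hC
    exact ⟨K, hK, le_antisymm
      (Cfsg.Agent.Lib.H3.carter_le_systemNormalizer_of_reduces F hF hGF C hC K hK hred) hle⟩
  · rintro ⟨K, hK, rfl⟩
    obtain ⟨C', hC', hred, hle⟩ := Cfsg.Agent.Lib.H3.exists_carter_ge_systemNormalizer K hK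
    have h1 := Cfsg.Agent.Lib.H3.carter_le_systemNormalizer_of_reduces F hF hGF C' hC' K hK hred
    rw [le_antisymm hle h1]
    exact hC'

end Cfsg.Agent.S0570
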