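import Cfsg.Statements.S0573
-- import your own Cfsg.Agent.* helpers here
import Mathlib
import Cfsg.Agent.S0572
import Cfsg.Agent.Lib.H16.PGroupCenter
import Cfsg.Agent.Lib.H1.Hall
import Cfsg.Agent.Lib.H1.CoprimeAction
import Cfsg.Agent.Lib.H3.PrimSolv

set_option autoImplicit false
open Cfsg

namespace Cfsg.Agent.S0573

open scoped commutatorElement

section helpers

variable {G : Type*} [Group G]

/-- `|L| = |H||K|` when `L = HK` with `H ∩ K = 1`. -/
theorem card_eq_mul_of_prod {H K L : Subgroup G} (hHL : H ≤ L) (hKL : K ≤ L)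
    (hdisj : H ⊓ K = ⊥) (hprod : ∀ x ∈ L, ∃ h ∈ H, ∃ k ∈ K, x = h * k) :
    Nat.card L = Nat.card H * Nat.card K := by
  rw [← Nat.card_prod]
  symm
  let f : H × K → L := fun hk => ⟨hk.1.1 * hk.2.1, L.mul_mem (hHL hk.1.2) (hKL hk.2.2)⟩
  apply Nat.card_congr (Equiv.ofBijective f ⟨?_, ?_⟩)
  · rintro ⟨⟨h, hh⟩, ⟨k, hk⟩⟩ ⟨⟨h', hh'⟩, ⟨k', hk'⟩⟩ hEq
    have e : h * k = h' * k' := congrArg Subtype.val hEq
    have e1 : h'⁻¹ * h = k' * k⁻¹ := by
      calc h'⁻¹ * h = h'⁻¹ * (h * k) * k⁻¹ := by group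
        _ = h'⁻¹ * (h' * k') * k⁻¹ := by rw [e]
        _ = k' * k⁻¹ := by group
    have hmem : h'⁻¹ * h ∈ H ⊓ K :=
      ⟨H.mul_mem (H.inv_mem hh') hh, e1 ▸ K.mul_mem hk' (K.inv_mem hk)⟩
    rw [hdisj, Subgroup.mem_bot] at hmem
    have hh1 : h = h' := by
      calc h = h' * (h'⁻¹ * h) := by group
        _ = h' := by rw [hmem, mul_one]
    have hk1 : k = k' := by
      have : k' * k⁻¹ = 1 := by rw [← e1, hmem]
      calc k = (k' * k⁻¹)⁻¹ * k' := by group
        _ = k' := by rw [this, inv_one, one_mul]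
    subst hh1; subst hk1; rfl
  · rintro ⟨x, hx⟩
    obtain ⟨h, hh, k, hk, rfl⟩ := hprod x hx
    exact ⟨(⟨h, hh⟩, ⟨k, hk⟩), rfl⟩

/-- If the derived subgroup centralizes the normal subgroup `N`, then `C_N(X)` is normal in `G`
for every subset `X`. -/
theorem normal_inf_centralizer {N : Subgroup G} [hN : N.Normal]
    (hM : commutator G ≤ Subgroup.centralizer (N : Set G)) (X : Set G) :
    (N ⊓ Subgroup.centralizer X).Normal := by
  constructor
  intro n hn g
  refine Subgroup.mem_inf.2 ⟨hN.conj_mem n hn.1 g, ?_⟩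
  rw [Subgroup.mem_centralizer_iff]
  intro x hx
  have hxn : x * n = n * x := Subgroup.mem_centralizer_iff.1 hn.2 x hx
  -- c = x⁻¹ g⁻¹ x g is a commutator
  have hc : ⁅x⁻¹, g⁻¹⁆ ∈ commutator G := by
    rw [commutator_def]
    exact Subgroup.commutator_mem_commutator (Subgroup.mem_top _) (Subgroup.mem_top _)
  have hcn := Subgroup.mem_centralizer_iff.1 (hM hc) n hn.1
  rw [commutatorElement_def] at hcn
  simp only [inv_inv] at hcn
  -- hcn : n * (x⁻¹ * g⁻¹ * x * g) = x⁻¹ * g⁻¹ * x * g * n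
  calc x * (g * n * g⁻¹) = g * (x * ((x⁻¹ * g⁻¹ * x * g) * n)) * g⁻¹ := by group
    _ = g * (x * (n * (x⁻¹ * g⁻¹ * x * g))) * g⁻¹ := by rw [hcn]
    _ = g * ((x * n) * (x⁻¹ * g⁻¹ * x * g)) * g⁻¹ := by group
    _ = g * ((n * x) * (x⁻¹ * g⁻¹ * x * g)) * g⁻¹ := by rw [hxn]
    _ = g * n * g⁻¹ * x := by group

/-- A `p`-subgroup has a nontrivial fixed point on a nontrivial normal `p`-subgroup. -/
theorem inf_centralizer_ne_bot [Finite G] {p : ℕ} [hp : Fact p.Prime] {N X : Subgroup G}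
    [hN : N.Normal] (hNp : IsPGroup p N) (hXp : IsPGroup p X) (hN1 : N ≠ ⊥) :
    N ⊓ Subgroup.centralizer (X : Set G) ≠ ⊥ := by
  have hXN : X ≤ Subgroup.normalizer (N : Set G) := by
    rw [Subgroup.normalizer_eq_top]; exact le_top
  have hP : IsPGroup p (X ⊔ N : Subgroup G) := IsPGroup.to_sup_of_normal_right' hXp hNp hXN
  obtain ⟨x, hxN, hx1, hxc⟩ := Cfsg.Agent.Lib.H16.exists_ne_one_central_of_le_normalizer hp.out
    (X ⊔ N) N hP le_sup_right (by rw [Subgroup.normalizer_eq_top]; exact le_top) hN1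
  intro hbot
  have : x ∈ N ⊓ Subgroup.centralizer (X : Set G) := by
    refine Subgroup.mem_inf.2 ⟨hxN, ?_⟩
    rw [Subgroup.mem_centralizer_iff]
    intro g hg
    exact hxc g (le_sup_left (a := X) hg)
  rw [hbot, Subgroup.mem_bot] at this
  exact hx1 this

/-- One side of the configuration: `B₁ = AN ∩ B` has the same order as `N`. -/
theorem card_side [Finite G] {A B N : Subgroup G} [hN : N.Normal]
    (hAB : ∀ g : G, ∃ a ∈ A, ∃ b ∈ B, g = a * b) (hdisj : A ⊓ B = ⊥) (hAN : A ⊓ N = ⊥) :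
    Nat.card ((A ⊔ N) ⊓ B : Subgroup G) = Nat.card N := by
  have h1 : Nat.card (A ⊔ N : Subgroup G) = Nat.card A * Nat.card N := by
    apply card_eq_mul_of_prod le_sup_left le_sup_right hAN
    intro x hx
    obtain ⟨a, ha, n, hn, rfl⟩ := Subgroup.mem_sup_of_normal_right.1 hx
    exact ⟨a, ha, n, hn, rfl⟩
  have h2 : Nat.card (A ⊔ N : Subgroup G) = Nat.card A * Nat.card ((A ⊔ N) ⊓ B : Subgroup G) := by
    apply card_eq_mul_of_prod le_sup_left inf_le_left
    · rw [eq_bot_iff, ← hdisj]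
      exact inf_le_inf_left A inf_le_right
    · intro x hx
      obtain ⟨a, ha, b, hb, rfl⟩ := hAB x
      refine ⟨a, ha, b, ⟨?_, hb⟩, rfl⟩
      have : b = a⁻¹ * (a * b) := by group
      rw [this]
      exact Subgroup.mul_mem _ (Subgroup.inv_mem _ (le_sup_left (a := A) ha)) hx
  have h3 : Nat.card A * Nat.card ((A ⊔ N) ⊓ B : Subgroup G) = Nat.card A * Nat.card N := by
    rw [← h1, ← h2]
  exact Nat.eq_of_mul_eq_mul_left Nat.card_pos h3

theorem isPGroup_zpowers_of_pow {p k : ℕ} {y : G} (hy : y ^ (p ^ k) = 1) :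
    IsPGroup p (Subgroup.zpowers y) := by
  intro g
  obtain ⟨j, hj⟩ := Subgroup.mem_zpowers_iff.1 g.2
  refine ⟨k, ?_⟩
  apply Subtype.ext
  rw [Subgroup.coe_pow, ← hj, Subgroup.coe_one, ← zpow_natCast, ← zpow_mul, mul_comm,
    zpow_mul, zpow_natCast, hy, one_zpow]

/-- An element commuting with the `p`-part and the `p'`-part of `a` commutes with `a`. -/
theorem commute_of_parts [Finite G] {p : ℕ} (hp : p.Prime) (n a : G)
    (h1 : ∀ x : G, x ∈ Subgroup.zpowers a → (orderOf x).Coprime p → Commute n x)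
    (h2 : ∀ y : G, y ∈ Subgroup.zpowers a → (∃ k, y ^ (p ^ k) = 1) → Commute n y) :
    Commute n a := by
  obtain ⟨k, m, hm, hkm⟩ := Nat.exists_eq_pow_mul_and_not_dvd (orderOf_pos a).ne' p hp.ne_one
  have hcop : Nat.Coprime (p ^ k) m :=
    Nat.Coprime.pow_left k ((Nat.Prime.coprime_iff_not_dvd hp).2 hm)
  have hx : Commute n (a ^ (p ^ k)) := by
    apply h1 _ (Subgroup.pow_mem _ (Subgroup.mem_zpowers a) _)
    have hord : orderOf (a ^ p ^ k) = m := by
      rw [orderOf_pow, hkm, Nat.gcd_eq_right (Dvd.intro _ rfl)]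
      exact Nat.mul_div_cancel_left m (pow_pos hp.pos k)
    rw [hord]
    exact ((Nat.Prime.coprime_iff_not_dvd hp).2 hm).symm
  have hy : Commute n (a ^ m) := by
    apply h2 _ (Subgroup.pow_mem _ (Subgroup.mem_zpowers a) _)
    refine ⟨k, ?_⟩
    rw [← pow_mul, mul_comm, ← hkm, pow_orderOf_eq_one]
  have hb := Nat.gcd_eq_gcd_ab (p ^ k) m
  rw [hcop] at hb
  have e : a = (a ^ (p ^ k)) ^ (Nat.gcdA (p ^ k) m) * (a ^ m) ^ (Nat.gcdB (p ^ k) m) := by
    rw [← zpow_natCast a (p ^ k), ← zpow_natCast a m, ← zpow_mul, ← zpow_mul, ← zpow_add, ← hb]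
    simp
  rw [e]
  exact (hx.zpow_right _).mul_right (hy.zpow_right _)

/-- existence of a `p'`-element of `A` acting fixed-point-freely on `N`. -/
theorem exists_pprime_fpf [Finite G] {p : ℕ} [hp : Fact p.Prime] {A N : Subgroup G}
    (hdich : ∀ X : Set G, N ⊓ Subgroup.centralizer X = ⊥ ∨ N ⊓ Subgroup.centralizer X = N)
    (hpc : ∀ X : Subgroup G, IsPGroup p X → N ≤ Subgroup.centralizer (X : Set G))
    (hNA : ¬ N ≤ Subgroup.centralizer (A : Set G)) :
    ∃ a ∈ A, (orderOf a).Coprime p ∧ N ⊓ Subgroup.centralizer {a} = ⊥ := by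
  by_contra hcon
  push Not at hcon
  apply hNA
  intro n hn
  rw [Subgroup.mem_centralizer_iff]
  intro a₀ ha₀
  have hc : Commute n a₀ := by
    apply commute_of_parts hp.out n a₀
    · intro x hx hxc
      have hxA : x ∈ A := (Subgroup.zpowers_le.2 ha₀) hx
      have h1 := hcon x hxA hxc
      rcases hdich {x} with h | h
      · exact absurd h h1
      · have hnx : n ∈ Subgroup.centralizer {x} := (inf_eq_left.1 h) hn
        exact (Subgroup.mem_centralizer_iff.1 hnx x rfl).symm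
    · rintro y hy ⟨k, hk⟩
      have hyp : IsPGroup p (Subgroup.zpowers y) := isPGroup_zpowers_of_pow hk
      have := hpc _ hyp hn
      exact (Subgroup.mem_centralizer_iff.1 this y (Subgroup.mem_zpowers y)).symm
  exact hc.eq.symm

theorem config_false [Finite G] [Group.IsSolvable G] {p : ℕ} [hp : Fact p.Prime]
    {A B N : Subgroup G} [hN : N.Normal]
    (hA : ∀ x ∈ A, ∀ y ∈ A, x * y = y * x) (hB : ∀ x ∈ B, ∀ y ∈ B, x * y = y * x)
    (hAB : ∀ g : G, ∃ a ∈ A, ∃ b ∈ B, g = a * b)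
    (hdisj : A ⊓ B = ⊥)
    (hN1 : N ≠ ⊥) (hNp : IsPGroup p N)
    (hM : commutator G ≤ Subgroup.centralizer (N : Set G))
    (hmin : ∀ K : Subgroup G, K.Normal → K ≤ N → K = ⊥ ∨ K = N)
    (hNA : ¬ N ≤ Subgroup.centralizer (A : Set G))
    (hNB : ¬ N ≤ Subgroup.centralizer (B : Set G)) : False := by
  have hBA : ∀ g : G, ∃ b ∈ B, ∃ a ∈ A, g = b * a := by
    intro g
    obtain ⟨a, ha, b, hb, h⟩ := hAB g⁻¹
    refine ⟨b⁻¹, B.inv_mem hb, a⁻¹, A.inv_mem ha, ?_⟩
    rw [← mul_inv_rev, ← h, inv_inv]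
  have hdich : ∀ X : Set G, N ⊓ Subgroup.centralizer X = ⊥ ∨ N ⊓ Subgroup.centralizer X = N :=
    fun X => hmin _ (normal_inf_centralizer hM X) inf_le_left
  have hpc : ∀ X : Subgroup G, IsPGroup p X → N ≤ Subgroup.centralizer (X : Set G) := by
    intro X hX
    rcases hdich (X : Set G) with h | h
    · exact absurd h (inf_centralizer_ne_bot hNp hX hN1)
    · exact inf_eq_left.1 h
  have hCA : N ⊓ Subgroup.centralizer (A : Set G) = ⊥ := by
    rcases hdich (A : Set G) with h | h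
    · exact h
    · exact absurd (inf_eq_left.1 h) hNA
  have hCB : N ⊓ Subgroup.centralizer (B : Set G) = ⊥ := by
    rcases hdich (B : Set G) with h | h
    · exact h
    · exact absurd (inf_eq_left.1 h) hNB
  have hAcen : A ≤ Subgroup.centralizer (A : Set G) := by
    intro x hx
    rw [Subgroup.mem_centralizer_iff]
    intro h hh
    exact hA h hh x hx
  have hBcen : B ≤ Subgroup.centralizer (B : Set G) := by
    intro x hx
    rw [Subgroup.mem_centralizer_iff]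
    intro h hh
    exact hB h hh x hx
  have hAN : A ⊓ N = ⊥ := by
    rw [eq_bot_iff, ← hCA]
    intro x hx
    exact Subgroup.mem_inf.2 ⟨hx.2, hAcen hx.1⟩
  have hBN : B ⊓ N = ⊥ := by
    rw [eq_bot_iff, ← hCB]
    intro x hx
    exact Subgroup.mem_inf.2 ⟨hx.2, hBcen hx.1⟩
  set B₁ : Subgroup G := (A ⊔ N) ⊓ B with hB₁
  set A₁ : Subgroup G := (B ⊔ N) ⊓ A with hA₁
  have hcB₁ : Nat.card B₁ = Nat.card N := card_side hAB hdisj hAN
  have hcA₁ : Nat.card A₁ = Nat.card N := card_side hBA (by rw [inf_comm]; exact hdisj) hBN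
  obtain ⟨d, hd⟩ := IsPGroup.iff_card.1 hNp
  have hB₁p : IsPGroup p B₁ := IsPGroup.of_card (hcB₁.trans hd)
  have hA₁p : IsPGroup p A₁ := IsPGroup.of_card (hcA₁.trans hd)
  have hNA₁ : N ≤ Subgroup.centralizer (A₁ : Set G) := hpc A₁ hA₁p
  set T : Subgroup G := A₁ ⊔ N with hT
  have hTdecA : ∀ t ∈ T, ∃ a₁ ∈ A₁, ∃ n ∈ N, t = a₁ * n := by
    intro t ht
    obtain ⟨a, ha, n, hn, rfl⟩ := Subgroup.mem_sup_of_normal_right.1 ht
    exact ⟨a, ha, n, hn, rfl⟩
  have hTdecB : ∀ t ∈ T, ∃ b₁ ∈ B₁, ∃ n ∈ N, t = b₁ * n := by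
    intro t ht
    obtain ⟨a₁, ha₁, n, hn, rfl⟩ := hTdecA t ht
    obtain ⟨b, hb, n', hn', hbn⟩ := Subgroup.mem_sup_of_normal_right.1 ha₁.1
    refine ⟨b, Subgroup.mem_inf.2 ⟨?_, hb⟩, n' * n, N.mul_mem hn' hn, ?_⟩
    · have : b = a₁ * n'⁻¹ := by rw [← hbn]; group
      rw [this]
      exact Subgroup.mul_mem_sup ha₁.2 (N.inv_mem hn')
    · rw [← hbn]; group
  have hB₁T : B₁ ≤ T := by
    intro b hb
    obtain ⟨a, ha, n, hn, han⟩ := Subgroup.mem_sup_of_normal_right.1 hb.1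
    have ha₁ : a ∈ A₁ := by
      refine Subgroup.mem_inf.2 ⟨?_, ha⟩
      have : a = b * n⁻¹ := by rw [← han]; group
      rw [this]
      exact Subgroup.mul_mem_sup hb.2 (N.inv_mem hn)
    rw [← han]
    exact Subgroup.mul_mem_sup ha₁ hn
  have hTn : T.Normal := by
    constructor
    intro t ht g
    obtain ⟨a, ha, b, hb, rfl⟩ := hAB g
    have hb' : b * t * b⁻¹ ∈ T := by
      obtain ⟨b₁, hb₁, n, hn, rfl⟩ := hTdecB t ht
      have hc := hB b hb b₁ hb₁.2
      have : b * (b₁ * n) * b⁻¹ = b₁ * (b * n * b⁻¹) := by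
        calc b * (b₁ * n) * b⁻¹ = (b * b₁) * n * b⁻¹ := by group
          _ = (b₁ * b) * n * b⁻¹ := by rw [hc]
          _ = b₁ * (b * n * b⁻¹) := by group
      rw [this]
      exact T.mul_mem (hB₁T hb₁) (le_sup_right (a := A₁) (hN.conj_mem n hn b))
    obtain ⟨a₁, ha₁, n, hn, hx⟩ := hTdecA _ hb'
    have hc := hA a ha a₁ ha₁.2
    have : a * b * t * (a * b)⁻¹ = a₁ * (a * n * a⁻¹) := by
      calc a * b * t * (a * b)⁻¹ = a * (b * t * b⁻¹) * a⁻¹ := by group
        _ = a * (a₁ * n) * a⁻¹ := by rw [hx]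
        _ = (a * a₁) * n * a⁻¹ := by group
        _ = (a₁ * a) * n * a⁻¹ := by rw [hc]
        _ = a₁ * (a * n * a⁻¹) := by group
    rw [this]
    exact T.mul_mem (le_sup_left (b := N) ha₁) (le_sup_right (a := A₁) (hN.conj_mem n hn a))
  have hTp : IsPGroup p T :=
    IsPGroup.to_sup_of_normal_right' hA₁p hNp (by rw [Subgroup.normalizer_eq_top]; exact le_top)
  -- `[T, G] ≤ N`
  have hTA : ∀ t ∈ T, ∀ a ∈ A, ⁅t, a⁆ ∈ N := by
    intro t ht a ha
    obtain ⟨a₁, ha₁, n, hn, rfl⟩ := hTdecA t ht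
    have hc := hA a ha a₁ ha₁.2
    have hc' : a⁻¹ * a₁⁻¹ = a₁⁻¹ * a⁻¹ := by
      rw [← mul_inv_rev, ← mul_inv_rev, hc]
    have : ⁅a₁ * n, a⁆ = a₁ * (n * (a * n⁻¹ * a⁻¹)) * a₁⁻¹ := by
      rw [commutatorElement_def]
      calc a₁ * n * a * (a₁ * n)⁻¹ * a⁻¹ = a₁ * n * a * n⁻¹ * (a₁⁻¹ * a⁻¹) := by group
        _ = a₁ * n * a * n⁻¹ * (a⁻¹ * a₁⁻¹) := by rw [hc']
        _ = a₁ * (n * (a * n⁻¹ * a⁻¹)) * a₁⁻¹ := by group
    rw [this]
    exact hN.conj_mem _ (N.mul_mem hn (hN.conj_mem _ (N.inv_mem hn) a)) a₁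
  have hTB : ∀ t ∈ T, ∀ b ∈ B, ⁅t, b⁆ ∈ N := by
    intro t ht b hb
    obtain ⟨b₁, hb₁, n, hn, rfl⟩ := hTdecB t ht
    have hc := hB b hb b₁ hb₁.2
    have hc' : b⁻¹ * b₁⁻¹ = b₁⁻¹ * b⁻¹ := by
      rw [← mul_inv_rev, ← mul_inv_rev, hc]
    have : ⁅b₁ * n, b⁆ = b₁ * (n * (b * n⁻¹ * b⁻¹)) * b₁⁻¹ := by
      rw [commutatorElement_def]
      calc b₁ * n * b * (b₁ * n)⁻¹ * b⁻¹ = b₁ * n * b * n⁻¹ * (b₁⁻¹ * b⁻¹) := by group
        _ = b₁ * n * b * n⁻¹ * (b⁻¹ * b₁⁻¹) := by rw [hc']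
        _ = b₁ * (n * (b * n⁻¹ * b⁻¹)) * b₁⁻¹ := by group
    rw [this]
    exact hN.conj_mem _ (N.mul_mem hn (hN.conj_mem _ (N.inv_mem hn) b)) b₁
  have hTG : ∀ t ∈ T, ∀ g : G, ⁅t, g⁆ ∈ N := by
    intro t ht g
    obtain ⟨a, ha, b, hb, rfl⟩ := hAB g
    have : ⁅t, a * b⁆ = ⁅t, a⁆ * (a * ⁅t, b⁆ * a⁻¹) := by
      simp only [commutatorElement_def]; group
    rw [this]
    exact N.mul_mem (hTA t ht a ha) (hN.conj_mem _ (hTB t ht b hb) a)
  -- fixed-point-free `p'`-elements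
  obtain ⟨a, haA, haco, hafpf⟩ := exists_pprime_fpf hdich hpc hNA
  obtain ⟨b, hbB, hbco, hbfpf⟩ := exists_pprime_fpf hdich hpc hNB
  -- Hall `p'`-subgroups
  have hcard0 : Nat.card G ≠ 0 := Nat.card_pos.ne'
  set e := (Nat.card G).factorization p with he
  set m := Nat.card G / p ^ e with hm
  have hG : Nat.card G = m * p ^ e := by
    rw [hm, he, mul_comm]; exact (Nat.ordProj_mul_ordCompl_eq_self (Nat.card G) p).symm
  have hpm : Nat.Coprime p m := Nat.coprime_ordCompl hp.out hcard0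
  have hmn : m.Coprime (p ^ e) := Nat.Coprime.pow_right e hpm.symm
  obtain ⟨EA, hEA, haEA⟩ := Cfsg.Agent.Lib.H1.hall_contain hG hmn (Subgroup.zpowers a)
    (by rw [Nat.card_zpowers]; exact Nat.Coprime.pow_right e haco)
  obtain ⟨EB, hEB, hbEB⟩ := Cfsg.Agent.Lib.H1.hall_contain hG hmn (Subgroup.zpowers b)
    (by rw [Nat.card_zpowers]; exact Nat.Coprime.pow_right e hbco)
  obtain ⟨g, hg⟩ := Cfsg.Agent.Lib.H1.hall_conj hG hmn EA EB hEA hEB
  -- coprime action of `EB` on `T`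
  obtain ⟨k, hk⟩ := IsPGroup.iff_card.1 hTp
  have hact : Cfsg.Agent.Lib.H1.CoprimeAction EB T :=
    { normalizes := by rw [Subgroup.normalizer_eq_top]; exact le_top
      coprime := by rw [hEB, hk]; exact Nat.Coprime.pow_right k hpm.symm
      solvable := Or.inr inferInstance }
  have hdec := Cfsg.Agent.Lib.H1.coprime_commutator_sup_centralizer hact
  have hcomEB : ⁅T, EB⁆ ≤ N := Subgroup.commutator_le.2 fun t ht x _ => hTG t ht x
  -- `C_T(EB) ≤ B₁`
  have hCTB : T ⊓ Subgroup.centralizer (EB : Set G) ≤ B₁ := by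
    intro c hc
    obtain ⟨b₁, hb₁, n', hn', rfl⟩ := hTdecB c hc.1
    have hcb : b * (b₁ * n') = (b₁ * n') * b :=
      Subgroup.mem_centralizer_iff.1 hc.2 b (hbEB (Subgroup.mem_zpowers b))
    have hbb₁ := hB b hbB b₁ hb₁.2
    have hn'b : b * n' = n' * b := by
      calc b * n' = b₁⁻¹ * ((b * b₁) * n') := by rw [hbb₁]; group
        _ = b₁⁻¹ * (b * (b₁ * n')) := by group
        _ = b₁⁻¹ * ((b₁ * n') * b) := by rw [hcb]
        _ = n' * b := by group
    have : n' ∈ N ⊓ Subgroup.centralizer {b} := by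
      refine Subgroup.mem_inf.2 ⟨hn', ?_⟩
      rw [Subgroup.mem_centralizer_iff]
      rintro x rfl
      exact hn'b
    rw [hbfpf, Subgroup.mem_bot] at this
    rw [this, mul_one]
    exact hb₁
  -- `B₁ ≤ C(EB)`
  have hB₁E : B₁ ≤ Subgroup.centralizer (EB : Set G) := by
    intro b₁ hb₁
    have h1 : b₁ ∈ ⁅T, EB⁆ ⊔ (T ⊓ Subgroup.centralizer (EB : Set G)) := by
      rw [hdec]; exact hB₁T hb₁
    have h2 : b₁ ∈ N ⊔ (T ⊓ Subgroup.centralizer (EB : Set G)) :=
      (sup_le_sup_right hcomEB _) h1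
    obtain ⟨n, hn, c, hc, hnc⟩ := Subgroup.mem_sup_of_normal_left.1 h2
    have hcB₁ := hCTB hc
    have hnB : n ∈ B ⊓ N := by
      refine Subgroup.mem_inf.2 ⟨?_, hn⟩
      have : n = b₁ * c⁻¹ := by rw [← hnc]; group
      rw [this]
      exact B.mul_mem hb₁.2 (B.inv_mem hcB₁.2)
    rw [hBN, Subgroup.mem_bot] at hnB
    rw [← hnc, hnB, one_mul]
    exact hc.2
  -- `C_T(EA) ≤ A`
  have hCTA : T ⊓ Subgroup.centralizer (EA : Set G) ≤ A := by
    intro c hc
    obtain ⟨a₁, ha₁, n', hn', rfl⟩ := hTdecA c hc.1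
    have hca : a * (a₁ * n') = (a₁ * n') * a :=
      Subgroup.mem_centralizer_iff.1 hc.2 a (haEA (Subgroup.mem_zpowers a))
    have haa₁ := hA a haA a₁ ha₁.2
    have hn'a : a * n' = n' * a := by
      calc a * n' = a₁⁻¹ * ((a * a₁) * n') := by rw [haa₁]; group
        _ = a₁⁻¹ * (a * (a₁ * n')) := by group
        _ = a₁⁻¹ * ((a₁ * n') * a) := by rw [hca]
        _ = n' * a := by group
    have : n' ∈ N ⊓ Subgroup.centralizer {a} := by
      refine Subgroup.mem_inf.2 ⟨hn', ?_⟩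
      rw [Subgroup.mem_centralizer_iff]
      rintro x rfl
      exact hn'a
    rw [hafpf, Subgroup.mem_bot] at this
    rw [this, mul_one]
    exact ha₁.2
  -- final contradiction
  have hB₁ne : B₁ ≠ ⊥ := by
    intro h
    have h1 : Nat.card B₁ = 1 := by rw [h]; exact Subgroup.card_bot
    rw [hcB₁] at h1
    exact hN1 (Subgroup.card_eq_one.1 h1)
  obtain ⟨⟨b₁, hb₁⟩, hb₁1⟩ := (Subgroup.ne_bot_iff_exists_ne_one).1 hB₁ne
  have hb₁ne : b₁ ≠ 1 := fun h => hb₁1 (Subtype.ext h)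
  have hb₁E := hB₁E hb₁
  have hcT : g⁻¹ * b₁ * g ∈ T := by
    have := hTn.conj_mem b₁ (hB₁T hb₁) g⁻¹
    simpa using this
  have hcE : g⁻¹ * b₁ * g ∈ Subgroup.centralizer (EA : Set G) := by
    rw [Subgroup.mem_centralizer_iff]
    intro x hx
    have hxE : g * x * g⁻¹ ∈ EB := by
      rw [← hg]
      have := Subgroup.smul_mem_pointwise_smul x (MulAut.conj g) EA hx
      simpa [MulAut.smul_def] using this
    have hcomm : (g * x * g⁻¹) * b₁ = b₁ * (g * x * g⁻¹) :=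
      Subgroup.mem_centralizer_iff.1 hb₁E _ hxE
    calc x * (g⁻¹ * b₁ * g) = g⁻¹ * ((g * x * g⁻¹) * b₁) * g := by group
      _ = g⁻¹ * (b₁ * (g * x * g⁻¹)) * g := by rw [hcomm]
      _ = g⁻¹ * b₁ * g * x := by group
  have hcA : g⁻¹ * b₁ * g ∈ A := hCTA (Subgroup.mem_inf.2 ⟨hcT, hcE⟩)
  obtain ⟨b', hb', a', ha', hga⟩ := hBA g
  have hbb := hB b' hb' b₁ hb₁.2
  have hconj : g⁻¹ * b₁ * g = a'⁻¹ * b₁ * a' := by
    rw [hga]
    calc (b' * a')⁻¹ * b₁ * (b' * a') = a'⁻¹ * (b'⁻¹ * (b₁ * b')) * a' := by group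
      _ = a'⁻¹ * (b'⁻¹ * (b' * b₁)) * a' := by rw [hbb]
      _ = a'⁻¹ * b₁ * a' := by group
  rw [hconj] at hcA
  have hb₁A : b₁ ∈ A := by
    have : b₁ = a' * (a'⁻¹ * b₁ * a') * a'⁻¹ := by group
    rw [this]
    exact A.mul_mem (A.mul_mem ha' hcA) (A.inv_mem ha')
  have : b₁ ∈ A ⊓ B := Subgroup.mem_inf.2 ⟨hb₁A, hb₁.2⟩
  rw [hdisj, Subgroup.mem_bot] at this
  exact hb₁ne this

end helpers

theorem normal_of_le_center' {G : Type*} [Group G] {Z : Subgroup G} (h : Z ≤ Subgroup.center G) :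
    Z.Normal := by
  constructor
  intro n hn g
  have hc := Subgroup.mem_center_iff.1 (h hn) g
  have : g * n * g⁻¹ = n := by
    calc g * n * g⁻¹ = (g * n) * g⁻¹ := rfl
      _ = (n * g) * g⁻¹ := by rw [hc]
      _ = n := by group
  rw [this]
  exact hn


/-- If a nontrivial finite group G is the product AB of abelian subgroups A and B, then some nontrivial normal subgroup of G is contained in A or in B. -/
theorem result {G : Type*} [Group G] [Finite G] [Nontrivial G] (A B : Subgroup G) [IsMulCommutative A] [IsMulCommutative B] (hAB : ∀ g : G, ∃ a ∈ A, ∃ b ∈ B, g = a * b) : ∃ N : Subgroup G, N.Normal ∧ N ≠ ⊥ ∧ (N ≤ A ∨ N ≤ B) := by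
  classical
  have hA : ∀ x ∈ A, ∀ y ∈ A, x * y = y * x := by
    intro x hx y hy
    have := (isMulCommutative_iff.1 (inferInstance : IsMulCommutative A)) ⟨x, hx⟩ ⟨y, hy⟩
    exact congrArg Subtype.val this
  have hB : ∀ x ∈ B, ∀ y ∈ B, x * y = y * x := by
    intro x hx y hy
    have := (isMulCommutative_iff.1 (inferInstance : IsMulCommutative B)) ⟨x, hx⟩ ⟨y, hy⟩
    exact congrArg Subtype.val this
  by_cases hZA : Subgroup.center G ⊓ A = ⊥
  swap
  · exact ⟨Subgroup.center G ⊓ A, normal_of_le_center' inf_le_left, hZA, Or.inl inf_le_right⟩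
  by_cases hZB : Subgroup.center G ⊓ B = ⊥
  swap
  · exact ⟨Subgroup.center G ⊓ B, normal_of_le_center' inf_le_left, hZB, Or.inr inf_le_right⟩
  -- elements of `A` commuting with `B` are trivial, etc.
  have hcenA : ∀ x ∈ A, (∀ y ∈ B, y * x = x * y) → x = 1 := by
    intro x hx hxB
    have : x ∈ Subgroup.center G ⊓ A := by
      refine Subgroup.mem_inf.2 ⟨?_, hx⟩
      rw [Subgroup.mem_center_iff]
      intro g
      obtain ⟨a, ha, b, hb, rfl⟩ := hAB g
      have h1 := hA a ha x hx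
      have h2 := hxB b hb
      calc a * b * x = a * (b * x) := by group
        _ = a * (x * b) := by rw [h2]
        _ = (a * x) * b := by group
        _ = (x * a) * b := by rw [h1]
        _ = x * (a * b) := by group
    rw [hZA, Subgroup.mem_bot] at this
    exact this
  have hcenB : ∀ x ∈ B, (∀ y ∈ A, y * x = x * y) → x = 1 := by
    intro x hx hxA
    have : x ∈ Subgroup.center G ⊓ B := by
      refine Subgroup.mem_inf.2 ⟨?_, hx⟩
      rw [Subgroup.mem_center_iff]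
      intro g
      obtain ⟨a, ha, b, hb, rfl⟩ := hAB g
      have h1 := hB b hb x hx
      have h2 := hxA a ha
      calc a * b * x = a * (b * x) := by group
        _ = a * (x * b) := by rw [h1]
        _ = (a * x) * b := by group
        _ = (x * a) * b := by rw [h2]
        _ = x * (a * b) := by group
    rw [hZB, Subgroup.mem_bot] at this
    exact this
  have hdisj : A ⊓ B = ⊥ := by
    rw [eq_bot_iff]
    intro x hx
    rw [Subgroup.mem_bot]
    exact hcenA x hx.1 (fun y hy => hB y hy x hx.2)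
  -- solvability and the derived subgroup
  have hder : derivedSeries G 2 = ⊥ := Cfsg.Agent.S0572.result A B hAB
  haveI hsolv : Group.IsSolvable G := (Group.isSolvable_def G).2 ⟨2, hder⟩
  have hMM : ⁅commutator G, commutator G⁆ = ⊥ := by
    rw [← derivedSeries_one, ← derivedSeries_succ]; exact hder
  have hMcen : commutator G ≤ Subgroup.centralizer (commutator G : Set G) :=
    Subgroup.commutator_eq_bot_iff_le_centralizer.1 hMM
  have hMne : commutator G ≠ ⊥ := by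
    intro h
    have hc : Subgroup.center G = ⊤ := (commutator_eq_bot_iff_center_eq_top G).1 h
    have hAbot : A = ⊥ := by rw [← hZA, hc, top_inf_eq]
    have hBbot : B = ⊥ := by rw [← hZB, hc, top_inf_eq]
    obtain ⟨x, hx⟩ := exists_ne (1 : G)
    obtain ⟨a, ha, b, hb, rfl⟩ := hAB x
    rw [hAbot, Subgroup.mem_bot] at ha
    rw [hBbot, Subgroup.mem_bot] at hb
    apply hx
    rw [ha, hb, one_mul]
  -- a minimal normal subgroup inside the derived subgroup
  let S : Set (Subgroup G) := {K | K.Normal ∧ K ≠ ⊥ ∧ K ≤ commutator G}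
  have hSne : S.Nonempty := ⟨commutator G, inferInstance, hMne, le_rfl⟩
  obtain ⟨N, ⟨hNn, hN1, hNM⟩, hNmin⟩ := wellFounded_lt.has_min S hSne
  haveI := hNn
  have hmin : ∀ K : Subgroup G, K.Normal → K ≤ N → K = ⊥ ∨ K = N := by
    intro K hKn hKN
    by_cases hK : K = ⊥
    · exact Or.inl hK
    · right
      by_contra hne
      exact hNmin K ⟨hKn, hK, hKN.trans hNM⟩ (lt_of_le_of_ne hKN hne)
  have hM : commutator G ≤ Subgroup.centralizer (N : Set G) :=
    hMcen.trans (Subgroup.centralizer_le hNM)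
  have hNc : ∀ x ∈ N, ∀ y ∈ N, x * y = y * x := by
    intro x hx y hy
    exact Subgroup.mem_centralizer_iff.1 (hM (hNM hy)) x hx
  obtain ⟨p, d, hp, -, hcard, -⟩ :=
    Cfsg.Agent.Lib.H3.minNormal_exists_prime_pow N hN1 hmin hNc
  haveI : Fact p.Prime := ⟨hp⟩
  have hNp : IsPGroup p N := IsPGroup.of_card hcard
  by_cases hNA : N ≤ Subgroup.centralizer (A : Set G)
  · refine ⟨N, hNn, hN1, Or.inl ?_⟩
    intro n hn
    obtain ⟨a, ha, b, hb, hnab⟩ := hAB n
    have hb1 : b = 1 := by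
      apply hcenB b hb
      intro y hy
      have hbe : b = a⁻¹ * n := by rw [hnab]; group
      have h1 : y * n = n * y := Subgroup.mem_centralizer_iff.1 (hNA hn) y hy
      have h2 := hA y hy a⁻¹ (A.inv_mem ha)
      rw [hbe]
      calc y * (a⁻¹ * n) = (y * a⁻¹) * n := by group
        _ = (a⁻¹ * y) * n := by rw [h2]
        _ = a⁻¹ * (y * n) := by group
        _ = a⁻¹ * (n * y) := by rw [h1]
        _ = a⁻¹ * n * y := by group
    rw [hnab, hb1, mul_one]
    exact ha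
  by_cases hNB : N ≤ Subgroup.centralizer (B : Set G)
  · refine ⟨N, hNn, hN1, Or.inr ?_⟩
    intro n hn
    obtain ⟨a, ha, b, hb, hnab⟩ := hAB n
    have ha1 : a = 1 := by
      apply hcenA a ha
      intro y hy
      have hae : a = n * b⁻¹ := by rw [hnab]; group
      have h1 : y * n = n * y := Subgroup.mem_centralizer_iff.1 (hNB hn) y hy
      have h2 := hB y hy b⁻¹ (B.inv_mem hb)
      rw [hae]
      calc y * (n * b⁻¹) = (y * n) * b⁻¹ := by group
        _ = (n * y) * b⁻¹ := by rw [h1]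
        _ = n * (y * b⁻¹) := by group
        _ = n * (b⁻¹ * y) := by rw [h2]
        _ = n * b⁻¹ * y := by group
    rw [hnab, ha1, one_mul]
    exact hb
  exact (config_false hA hB hAB hdisj hN1 hNp hM hmin hNA hNB).elim

end Cfsg.Agent.S0573
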