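import Cfsg.Statements.S0571
-- import your own Cfsg.Agent.* helpers here
import Cfsg.Agent.S0573
import Cfsg.Agent.Lib.H3.Supersolvable4
import Cfsg.Agent.Lib.H1.SchurZassenhaus
import Mathlib

set_option autoImplicit false
open Cfsg

namespace Cfsg.Agent.S0571


open Cfsg.Agent.Lib.H3 in
theorem ssReach_top_of_cyclic_product.{u} : ∀ (n : ℕ) (G : Type u) [Group G] [Finite G],
    Nat.card G = n → ∀ (A B : Subgroup G), IsCyclic A → IsCyclic B →
    (∀ g : G, ∃ a ∈ A, ∃ b ∈ B, g = a * b) → SSReach (⊤ : Subgroup G) := by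
  intro n
  induction n using Nat.strong_induction_on with
  | _ n ih =>
  intro G _ _ hn A B hA hB hAB
  by_cases hG : Subsingleton G
  · exact ssReach_top_of_subsingleton
  rw [not_subsingleton_iff_nontrivial] at hG
  obtain ⟨N, hNn, hN1, hNle⟩ := Cfsg.Agent.S0573.result A B hAB
  have hNcyc : IsCyclic N := by
    rcases hNle with h | h
    · exact Subgroup.isCyclic_of_le h
    · exact Subgroup.isCyclic_of_le h
  obtain ⟨z, hz⟩ := (Subgroup.isCyclic_iff_exists_zpowers_eq_top N).1 hNcyc
  have hlt : Nat.card (G ⧸ N) < n := by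
    rw [← hn]
    exact Cfsg.Agent.Lib.H1.card_quotient_lt hN1
  obtain ⟨a, ha⟩ := (Subgroup.isCyclic_iff_exists_zpowers_eq_top A).1 hA
  obtain ⟨b, hb⟩ := (Subgroup.isCyclic_iff_exists_zpowers_eq_top B).1 hB
  have hA' : IsCyclic (A.map (QuotientGroup.mk' N)) := by
    rw [Subgroup.isCyclic_iff_exists_zpowers_eq_top]
    exact ⟨QuotientGroup.mk' N a, by rw [← ha, MonoidHom.map_zpowers]⟩
  have hB' : IsCyclic (B.map (QuotientGroup.mk' N)) := by
    rw [Subgroup.isCyclic_iff_exists_zpowers_eq_top]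
    exact ⟨QuotientGroup.mk' N b, by rw [← hb, MonoidHom.map_zpowers]⟩
  have hq := ih _ hlt (G ⧸ N) rfl (A.map (QuotientGroup.mk' N)) (B.map (QuotientGroup.mk' N))
    hA' hB' (by
      intro g
      obtain ⟨g0, rfl⟩ := QuotientGroup.mk'_surjective N g
      obtain ⟨x, hx, y, hy, rfl⟩ := hAB g0
      exact ⟨_, Subgroup.mem_map_of_mem _ hx, _, Subgroup.mem_map_of_mem _ hy, map_mul _ _ _⟩)
  have hker : SSReach (QuotientGroup.mk' N).ker := by
    rw [QuotientGroup.ker_mk', ← hz]
    have h1 : (⊥ ⊔ Subgroup.zpowers z : Subgroup G) = Subgroup.zpowers z := bot_sup_eq _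
    rw [← h1]
    refine SSReach.step ⊥ z SSReach.bot ?_
    rw [h1, hz]
    exact hNn
  have := SSReach.comap (QuotientGroup.mk' N) (QuotientGroup.mk'_surjective N) hker hq
  rwa [Subgroup.comap_top] at this

/-- If a finite group G is the product AB of two cyclic subgroups (every element is a product ab), then G is supersolvable. -/
theorem result {G : Type*} [Group G] [Finite G] (A B : Subgroup G) [IsCyclic A] [IsCyclic B] (hAB : ∀ g : G, ∃ a ∈ A, ∃ b ∈ B, g = a * b) : Cfsg.IsSupersolvable G := by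
  rw [Cfsg.Agent.Lib.H3.isSupersolvable_iff]
  exact ssReach_top_of_cyclic_product _ G rfl A B inferInstance inferInstance hAB

end Cfsg.Agent.S0571
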