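import Cfsg.Statements.S0575
import Cfsg.Agent.Lib.H3.Basic
import Mathlib

set_option autoImplicit false
open Cfsg

namespace Cfsg.Agent.S0575

open Cfsg.Agent.Lib.H3

/-- If H is a normal subgroup of a finite group G, then the Frattini subgroup of H, viewed in G, lies in the Frattini subgroup of G. -/
theorem result {G : Type*} [Group G] [Finite G] (H : Subgroup G) [H.Normal] : (frattini ↥H).map H.subtype ≤ frattini G := by
  set F := (frattini ↥H).map H.subtype with hF
  have : F.Normal := normal_map_subtype_of_char H (frattini H)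
  have hFH : F ≤ H := Subgroup.map_subtype_le _
  unfold frattini Order.radical
  refine le_iInf₂ fun M hM => ?_
  replace hM : IsCoatom M := hM
  by_contra hFM
  have hsup : M ⊔ F = ⊤ := by
    by_contra hne
    have hlt : M < M ⊔ F := lt_of_le_of_ne le_sup_left (fun h => hFM (by rw [h]; exact le_sup_right))
    exact hne (hM.2 _ hlt)
  have h1 : H = (H ⊓ M) ⊔ F := by
    rw [← inf_sup_eq_of_le_of_normal hFH, hsup, inf_top_eq]
  -- pull back to H
  have h2 : (H ⊓ M).subgroupOf H ⊔ frattini H = ⊤ := by
    rw [eq_top_iff]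
    intro x _
    have hx : (x : G) ∈ (H ⊓ M) ⊔ F := by rw [← h1]; exact x.2
    obtain ⟨a, ha, f, hf, hxaf⟩ := Subgroup.mem_sup_of_normal_right.1 hx
    obtain ⟨f', hf', rfl⟩ := hf
    have : x = ⟨a, ha.1⟩ * f' := Subtype.ext (by simpa using hxaf.symm)
    rw [this]
    exact Subgroup.mul_mem_sup (Subgroup.mem_subgroupOf.2 ha) hf'
  have h3 := frattini_nongenerating h2
  have hHM : H ≤ M := by
    intro x hx
    have : (⟨x, hx⟩ : H) ∈ (H ⊓ M).subgroupOf H := by rw [h3]; trivial
    exact (Subgroup.mem_subgroupOf.1 this).2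
  exact hFM (hFH.trans hHM)

end Cfsg.Agent.S0575
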