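import Cfsg.Statements.S0576
-- import your own Cfsg.Agent.* helpers here
import Mathlib

set_option autoImplicit false
open Cfsg

namespace Cfsg.Agent.S0576

/-- Let H be a normal subgroup of a finite group G with H contained in the Frattini subgroup of G. Then the group of inner automorphisms of H is contained in the Frattini subgroup of the automorphism group of H. -/
theorem result {G : Type*} [Group G] [Finite G] (H : Subgroup G) [H.Normal] (hH : H ≤ frattini G) : (MulAut.conj : ↥H →* MulAut ↥H).range ≤ frattini (MulAut ↥H) := by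
  classical
  unfold frattini Order.radical
  rw [le_iInf₂_iff]
  intro M hM
  by_contra hInn
  set Inn : Subgroup (MulAut ↥H) := (MulAut.conj : ↥H →* MulAut ↥H).range with hInnDef
  have hInnNormal : Inn.Normal := by
    constructor
    intro n hn φ
    obtain ⟨h, rfl⟩ := hn
    refine ⟨φ h, ?_⟩
    ext x
    simp [MulAut.conj_apply]
  have hsup : Inn ⊔ M = ⊤ := by
    by_contra hne
    have hlt : M < Inn ⊔ M := by
      apply lt_of_le_of_ne le_sup_right
      intro heq
      apply hInn
      rw [heq]
      exact le_sup_left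
    exact hne (hM.2 _ hlt)
  set θ : G →* MulAut ↥H := MulAut.conjNormal with hθ
  set P : Subgroup G := M.comap θ with hP
  have hPH : P ⊔ H = ⊤ := by
    rw [eq_top_iff]
    intro g _
    have h1 : θ g ∈ Inn ⊔ M := by rw [hsup]; exact Subgroup.mem_top _
    obtain ⟨i, hi, m, hm, him⟩ := Subgroup.mem_sup_of_normal_left.1 h1
    obtain ⟨h, rfl⟩ := hi
    have h2 : θ ((h : G)⁻¹ * g) = m := by
      rw [map_mul, map_inv, ← him, hθ, MulAut.conjNormal_val, inv_mul_cancel_left]
    have h3 : (h : G)⁻¹ * g ∈ P := by
      show θ ((h : G)⁻¹ * g) ∈ M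
      rw [h2]; exact hm
    have h4 : g = (h : G) * ((h : G)⁻¹ * g) := by group
    rw [h4]
    exact Subgroup.mul_mem _ (Subgroup.mem_sup_right h.2) (Subgroup.mem_sup_left h3)
  have hPtop : P = ⊤ := by
    apply frattini_nongenerating
    rw [eq_top_iff, ← hPH]
    exact sup_le_sup_left hH P
  apply hInn
  rintro _ ⟨h, rfl⟩
  have h5 : (h : G) ∈ P := by rw [hPtop]; exact Subgroup.mem_top _
  have h6 : θ (h : G) ∈ M := h5
  rwa [hθ, MulAut.conjNormal_val] at h6

end Cfsg.Agent.S0576
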