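import Cfsg.Statements.S0578
-- import your own Cfsg.Agent.* helpers here
import Mathlib

set_option autoImplicit false
open Cfsg

namespace Cfsg.Agent.S0578
open scoped commutatorElement

variable {G : Type*} [Group G]

/-- A finite `p`-subgroup in which normalizers of abelian subgroups (taken in `G`) equal their
centralizers is abelian. -/
theorem isMulCommutative_of_isPGroup [Finite G]
    (h : ∀ A : Subgroup G, IsMulCommutative A →
      Subgroup.normalizer (A : Set G) = Subgroup.centralizer (A : Set G))
    {p : ℕ} [Fact p.Prime] (P : Subgroup G) (hP : IsPGroup p P) : IsMulCommutative P := by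
  by_contra hnc
  -- the quotient by the center is a nontrivial p-group
  have hZtop : Subgroup.center P ≠ ⊤ := by
    intro htop
    apply hnc
    rw [isMulCommutative_iff]
    intro a b
    have : b ∈ Subgroup.center P := by rw [htop]; trivial
    exact (Subgroup.mem_center_iff.1 this a)
  have : Nontrivial (P ⧸ Subgroup.center P) := by
    rw [← not_subsingleton_iff_nontrivial]
    intro hs
    exact hZtop (QuotientGroup.subgroup_eq_top_of_subsingleton _ hs)
  have hQ : IsPGroup p (P ⧸ Subgroup.center P) := hP.to_quotient _
  have := hQ.center_nontrivial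
  obtain ⟨⟨xb, hxbc⟩, hxb1⟩ := exists_ne (1 : Subgroup.center (P ⧸ Subgroup.center P))
  obtain ⟨x', rfl⟩ := QuotientGroup.mk_surjective xb
  have hx'Z : x' ∉ Subgroup.center P := by
    intro hx
    apply hxb1
    apply Subtype.ext
    exact (QuotientGroup.eq_one_iff x').2 hx
  have hcomm' : ∀ y' : P, ⁅y', x'⁆ ∈ Subgroup.center P := by
    intro y'
    rw [← QuotientGroup.eq_one_iff]
    have : ((⁅y', x'⁆ : P) : P ⧸ Subgroup.center P) =
        ⁅(y' : P ⧸ Subgroup.center P), (x' : P ⧸ Subgroup.center P)⁆ :=
      map_commutatorElement (QuotientGroup.mk' (Subgroup.center P)) y' x'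
    rw [this, commutatorElement_eq_one_iff_commute]
    exact (Subgroup.mem_center_iff.1 hxbc _)
  -- pass to G
  set x : G := (x' : G) with hx
  have hxP : x ∈ P := x'.2
  set Z : Subgroup G := P ⊓ Subgroup.centralizer (P : Set G) with hZ
  have hZmem : ∀ z' : P, z' ∈ Subgroup.center P → (z' : G) ∈ Z := by
    intro z' hz'
    refine ⟨z'.2, ?_⟩
    show (z' : G) ∈ Subgroup.centralizer (P : Set G)
    rw [Subgroup.mem_centralizer_iff]
    intro y hy
    have := Subgroup.mem_center_iff.1 hz' ⟨y, hy⟩
    exact congrArg Subtype.val this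
  have hxZ : x ∉ Z := by
    intro hxz
    apply hx'Z
    rw [Subgroup.mem_center_iff]
    intro y'
    apply Subtype.ext
    have := Subgroup.mem_centralizer_iff.1 hxz.2 y' y'.2
    simpa using this
  have hcomm : ∀ y ∈ P, ⁅y, x⁆ ∈ Z := by
    intro y hy
    have := hZmem _ (hcomm' ⟨y, hy⟩)
    simpa [commutatorElement_def] using this
  set A : Subgroup G := Z ⊔ Subgroup.zpowers x with hA
  have hAP : A ≤ P := sup_le inf_le_left (by rwa [Subgroup.zpowers_le])
  have hZcP : Z ≤ Subgroup.centralizer (P : Set G) := inf_le_right
  have hZcZ : Z ≤ Subgroup.centralizer (Z : Set G) :=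
    hZcP.trans (Subgroup.centralizer_le inf_le_left)
  have hZcx : Z ≤ Subgroup.centralizer (Subgroup.zpowers x : Set G) :=
    hZcP.trans (Subgroup.centralizer_le (by rwa [SetLike.coe_subset_coe, Subgroup.zpowers_le]))
  have hxcx : Subgroup.zpowers x ≤ Subgroup.centralizer (Subgroup.zpowers x : Set G) := by
    rw [Subgroup.zpowers_le, Subgroup.mem_centralizer_iff]
    intro y hy
    obtain ⟨k, rfl⟩ := Subgroup.mem_zpowers_iff.1 hy
    exact ((Commute.refl x).zpow_left k).eq
  have hAcomm : IsMulCommutative A := by
    rw [← Subgroup.le_centralizer_iff_isMulCommutative]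
    apply sup_le
    · rw [Subgroup.le_centralizer_iff]
      exact sup_le hZcZ (Subgroup.le_centralizer_iff.1 hZcx)
    · rw [Subgroup.le_centralizer_iff]
      exact sup_le hZcx hxcx
  -- A is normalized by P
  have hAn : (A.subgroupOf P).Normal := by
    constructor
    intro a ha y
    rw [Subgroup.mem_subgroupOf] at ha ⊢
    have hmap : A.map (MulAut.conj (y : G)).toMonoidHom ≤ A := by
      rw [hA, Subgroup.map_sup, MonoidHom.map_zpowers]
      apply sup_le
      · rintro _ ⟨z, hz, rfl⟩
        have : (MulAut.conj (y : G)).toMonoidHom z = z := by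
          simp only [MulEquiv.coe_toMonoidHom, MulAut.conj_apply]
          have := Subgroup.mem_centralizer_iff.1 hz.2 y y.2
          rw [this, mul_inv_cancel_right]
        rw [this]
        exact Subgroup.mem_sup_left hz
      · rw [Subgroup.zpowers_le]
        have : (MulAut.conj (y : G)).toMonoidHom x = ⁅(y : G), x⁆ * x := by
          simp [commutatorElement_def]
        rw [this]
        exact Subgroup.mul_mem_sup (hcomm y y.2) (Subgroup.mem_zpowers x)
    have := hmap (Subgroup.mem_map_of_mem _ ha)
    simpa using this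
  have hPn : P ≤ Subgroup.normalizer (A : Set G) :=
    (Subgroup.normal_subgroupOf_iff_le_normalizer hAP).1 hAn
  rw [h A hAcomm] at hPn
  apply hxZ
  refine ⟨hxP, ?_⟩
  show x ∈ Subgroup.centralizer (P : Set G)
  rw [Subgroup.mem_centralizer_iff]
  intro y hy
  have := Subgroup.mem_centralizer_iff.1 (hPn hy) x
    (Subgroup.mem_sup_right (Subgroup.mem_zpowers x))
  exact this.symm

theorem main [Finite G]
    (h : ∀ A : Subgroup G, IsMulCommutative A →
      Subgroup.normalizer (A : Set G) = Subgroup.centralizer (A : Set G)) :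
    IsMulCommutative G := by
  rw [isMulCommutative_iff]
  intro g k
  rw [← commutatorElement_eq_one_iff_mul_comm]
  by_contra hne
  have hord : orderOf ⁅g, k⁆ ≠ 1 := fun h1 => hne (orderOf_eq_one_iff.1 h1)
  obtain ⟨p, hp, hpd⟩ := Nat.exists_prime_and_dvd hord
  have : Fact p.Prime := ⟨hp⟩
  obtain ⟨P⟩ := (inferInstance : Nonempty (Sylow p G))
  have hPc : IsMulCommutative (P : Subgroup G) :=
    isMulCommutative_of_isPGroup h (P : Subgroup G) P.isPGroup'
  have hNC : Subgroup.normalizer ((P : Subgroup G) : Set G) ≤
      Subgroup.centralizer ((P : Subgroup G) : Set G) := (h _ hPc).le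
  have hcompl := MonoidHom.ker_transferSylow_isComplement' P hNC
  have hker : ⁅g, k⁆ ∈ (MonoidHom.transferSylow P hNC).ker := by
    rw [MonoidHom.mem_ker, map_commutatorElement, commutatorElement_eq_one_iff_commute]
    exact (isMulCommutative_iff.1 hPc) _ _
  have h1 := Subgroup.orderOf_dvd_natCard _ hker
  have h2 := hcompl.card_mul_card
  have h3 := Subgroup.index_mul_card (P : Subgroup G)
  have h4 : Nat.card (MonoidHom.transferSylow P hNC).ker = (P : Subgroup G).index := by
    rw [← h2] at h3
    exact (Nat.eq_of_mul_eq_mul_right Nat.card_pos h3).symm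
  rw [h4] at h1
  exact P.not_dvd_index (hpd.trans h1)

/-- If in a finite group the normalizer of each abelian subgroup coincides with its centralizer, then the group is abelian. -/
theorem result {G : Type*} [Group G] [Finite G] (h : ∀ A : Subgroup G, IsMulCommutative A → Subgroup.normalizer (A : Set G) = Subgroup.centralizer (A : Set G)) : IsMulCommutative G := by
  exact main h

end Cfsg.Agent.S0578
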