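import Cfsg.Statements.S0580
-- import your own Cfsg.Agent.* helpers here
import Mathlib

set_option autoImplicit false
open Cfsg

namespace Cfsg.Agent.S0580

theorem index_modEq_one_of_normalizer_le {G : Type*} [Group G] [Finite G] {p : ℕ} [Fact p.Prime]
    (P : Sylow p G) {M : Subgroup G} (hM : Subgroup.normalizer ((P : Subgroup G) : Set G) ≤ M) :
    M.index ≡ 1 [MOD p] := by
  have hPM : (P : Subgroup G) ≤ M := Subgroup.le_normalizer.trans hM
  have h1 : Nat.card (Sylow p G) = (Subgroup.normalizer ((P : Subgroup G) : Set G)).index :=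
    Sylow.card_eq_index_normalizer P
  have h2 : Nat.card (Sylow p M) =
      (Subgroup.normalizer (((P.subtype hPM : Sylow p M) : Subgroup M) : Set M)).index :=
    Sylow.card_eq_index_normalizer (P.subtype hPM)
  have h3 : (Subgroup.normalizer (((P.subtype hPM : Sylow p M) : Subgroup M) : Set M)) =
      (Subgroup.normalizer ((P : Subgroup G) : Set G)).subgroupOf M := by
    rw [Sylow.coe_subtype, Subgroup.subgroupOf_normalizer_eq hPM]
  rw [h3] at h2
  have h4 : (Subgroup.normalizer ((P : Subgroup G) : Set G)).relIndex M * M.index =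
      (Subgroup.normalizer ((P : Subgroup G) : Set G)).index := Subgroup.relIndex_mul_index hM
  have h5 : Nat.card (Sylow p M) * M.index = Nat.card (Sylow p G) := by
    rw [h1, h2]; exact h4
  have h6 := card_sylow_modEq_one p G
  have h7 := card_sylow_modEq_one p M
  have h8 : Nat.card (Sylow p M) * M.index ≡ 1 * M.index [MOD p] := Nat.ModEq.mul_right _ h7
  rw [h5, one_mul] at h8
  exact h8.symm.trans h6

theorem main.{u} : ∀ (n : ℕ) (G : Type u) [Group G] [Finite G], Nat.card G = n →
    (∀ M : Subgroup G, IsCoatom M → M.index.Prime) → Group.IsSolvable G := by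
  intro n
  induction n using Nat.strong_induction_on with
  | _ n ih =>
  intro G _ _ hcard h
  rcases subsingleton_or_nontrivial G with hsub | hnt
  · exact Group.isSolvable_of_top_eq_bot G (Subsingleton.elim _ _)
  have h1 : 1 < Nat.card G := Finite.one_lt_card_iff_nontrivial.2 hnt
  have hne := Nat.nonempty_primeFactors.2 h1
  set p := (Nat.card G).primeFactors.max' hne with hpdef
  have hpm := Finset.max'_mem _ hne
  rw [← hpdef, Nat.mem_primeFactors] at hpm
  obtain ⟨hp, hpd, -⟩ := hpm
  have hmax : ∀ q : ℕ, q.Prime → q ∣ Nat.card G → q ≤ p := by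
    intro q hq hqd
    exact Finset.le_max' _ q (Nat.mem_primeFactors.2 ⟨hq, hqd, Nat.card_pos.ne'⟩)
  have : Fact p.Prime := ⟨hp⟩
  obtain ⟨P⟩ := (inferInstance : Nonempty (Sylow p G))
  have hPn : (P : Subgroup G).Normal := by
    rw [← Subgroup.normalizer_eq_top_iff]
    by_contra hN
    obtain ⟨M, hM, hNM⟩ := (eq_top_or_exists_le_coatom _).resolve_left hN
    have hq := h M hM
    have hmod := index_modEq_one_of_normalizer_le P hNM
    have hqle : M.index ≤ p := hmax _ hq (Subgroup.index_dvd_card M)
    have h2 : M.index % p = 1 := by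
      have : M.index % p = 1 % p := hmod
      rwa [Nat.mod_eq_of_lt hp.one_lt] at this
    rcases lt_or_eq_of_le hqle with h3 | h3
    · rw [Nat.mod_eq_of_lt h3] at h2
      exact hq.one_lt.ne' h2
    · rw [h3, Nat.mod_self] at h2
      exact absurd h2 (by norm_num)
  -- quotient
  have hPcard : 1 < Nat.card (P : Subgroup G) := by
    rw [Sylow.card_eq_multiplicity P]
    apply Nat.one_lt_pow _ hp.one_lt
    exact (Nat.Prime.factorization_pos_of_dvd hp Nat.card_pos.ne' hpd).ne'
  have hQlt : Nat.card (G ⧸ (P : Subgroup G)) < n := by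
    rw [← hcard, Subgroup.card_eq_card_quotient_mul_card_subgroup (P : Subgroup G)]
    exact lt_mul_of_one_lt_right Nat.card_pos hPcard
  have hQ : ∀ M : Subgroup (G ⧸ (P : Subgroup G)), IsCoatom M → M.index.Prime := by
    intro M hM
    have hs := QuotientGroup.mk'_surjective (P : Subgroup G)
    have := h _ (Subgroup.isCoatom_comap_of_surjective hs hM)
    rwa [Subgroup.index_comap_of_surjective _ hs] at this
  have := ih _ hQlt (G ⧸ (P : Subgroup G)) rfl hQ
  have : Group.IsSolvable (P : Subgroup G) := by
    have := P.isPGroup'.isNilpotent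
    infer_instance
  exact Group.isSolvable_of_ker_le_range (P : Subgroup G).subtype (QuotientGroup.mk' (P : Subgroup G))
    (by rw [QuotientGroup.ker_mk', Subgroup.range_subtype])

/-- If every maximal subgroup of a finite group has prime index, then the group is solvable. -/
theorem result {G : Type*} [Group G] [Finite G] (h : ∀ M : Subgroup G, IsCoatom M → M.index.Prime) : Group.IsSolvable G := by
  exact main _ G rfl h

end Cfsg.Agent.S0580
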