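import Cfsg.Statements.S0583
import Cfsg.Agent.Lib.H3.Basic
import Cfsg.Agent.Lib.H1.NilpotentBasic
import Mathlib

set_option autoImplicit false
open Cfsg

namespace Cfsg.Agent.S0583

open Cfsg.Agent.Lib.H3

/-- In a finite group the Fitting subgroup is contained in the centralizer of each minimal normal subgroup. -/
theorem result {G : Type*} [Group G] [Finite G] (M : Subgroup G) [M.Normal] (hM : M ≠ ⊥) (hmin : ∀ K : Subgroup G, K.Normal → K ≤ M → K = ⊥ ∨ K = M) : Cfsg.fittingSubgroup G ≤ Subgroup.centralizer (M : Set G) := by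
  unfold fittingSubgroup
  apply sSup_le
  rintro N ⟨hNn, hNnil⟩
  haveI := hNn
  rcases hmin (N ⊓ M) inferInstance inf_le_right with h0 | h1
  · -- [N, M] ≤ N ⊓ M = ⊥
    rw [← Subgroup.commutator_eq_bot_iff_le_centralizer, eq_bot_iff, ← h0]
    exact Subgroup.commutator_le_inf N M
  · have hMN : M ≤ N := by rw [← h1]; exact inf_le_left
    -- M' = M.subgroupOf N is a nontrivial normal subgroup of the nilpotent group N
    have hM' : M.subgroupOf N ≠ ⊥ := by
      intro h
      apply hM
      rw [eq_bot_iff]
      intro x hx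
      have : (⟨x, hMN hx⟩ : N) ∈ M.subgroupOf N := Subgroup.mem_subgroupOf.2 hx
      rw [h, Subgroup.mem_bot] at this
      exact congrArg Subtype.val this
    have h2 := Cfsg.Agent.Lib.H1.normal_inf_center_ne_bot (G := N) (M.subgroupOf N) hM'
    -- Z = centre of N viewed in G, normal in G
    set Z := (Subgroup.center N).map N.subtype with hZ
    haveI : Z.Normal := normal_map_subtype_of_char N (Subgroup.center N)
    have h3 : M ⊓ Z ≠ ⊥ := by
      intro h
      apply h2
      rw [eq_bot_iff]
      intro x hx
      have : (x : G) ∈ M ⊓ Z := ⟨Subgroup.mem_subgroupOf.1 hx.1, ⟨x, hx.2, rfl⟩⟩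
      rw [h, Subgroup.mem_bot] at this
      rw [Subgroup.mem_bot]
      exact Subtype.ext this
    rcases hmin (M ⊓ Z) inferInstance inf_le_left with h4 | h4
    · exact absurd h4 h3
    · have hMZ : M ≤ Z := by rw [← h4]; exact inf_le_right
      intro n hn
      rw [Subgroup.mem_centralizer_iff]
      intro m hm
      obtain ⟨z, hz, rfl⟩ := hMZ hm
      have := Subgroup.mem_center_iff.1 hz ⟨n, hn⟩
      exact (congrArg Subtype.val this).symm

end Cfsg.Agent.S0583
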