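import Cfsg.Statements.S0584
import Mathlib

set_option autoImplicit false
open Cfsg

namespace Cfsg.Agent.S0584

/-- Let B ≤ A be normal subgroups of a finite group G with B contained in the Frattini subgroup of G. If A modulo B is nilpotent then A is nilpotent. -/
theorem result {G : Type*} [Group G] [Finite G] (A B : Subgroup G) [A.Normal] [B.Normal] (hBA : B ≤ A) (hB : B ≤ frattini G) (h : Group.IsNilpotent (↥A ⧸ B.subgroupOf A)) : Group.IsNilpotent A := by
  apply (Group.isNilpotent_of_finite_tfae (G := A)).out 3 0 rfl rfl |>.mp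
  intro p hp P
  set B' := B.subgroupOf A with hB'
  -- (1) N1 = P ⊔ B' is normal in A
  have hN1 : ((P : Subgroup A) ⊔ B').Normal := by
    have hsurj : Function.Surjective (QuotientGroup.mk' B') := QuotientGroup.mk'_surjective B'
    have hn : ((P.mapSurjective hsurj : Sylow p (A ⧸ B')) : Subgroup (A ⧸ B')).Normal := inferInstance
    have := hn.comap (QuotientGroup.mk' B')
    rw [Sylow.coe_mapSurjective, Subgroup.comap_map_eq, QuotientGroup.ker_mk'] at this
    exact this
  -- (2) in A
  have h2 : Subgroup.normalizer ((P : Subgroup A) : Set A) ⊔ B' = ⊤ := by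
    have := Sylow.normalizer_sup_eq_top' (N := (P : Subgroup A) ⊔ B') P le_sup_left
    rw [eq_top_iff, ← this]
    exact sup_le le_sup_left (sup_le (Subgroup.le_normalizer.trans le_sup_left) le_sup_right)
  -- (3) in G
  set P' := (P : Subgroup A).map A.subtype with hP'
  have h3 : Subgroup.normalizer (P' : Set G) ⊔ A = ⊤ := Sylow.normalizer_sup_eq_top P
  have hAle : A ≤ Subgroup.normalizer (P' : Set G) ⊔ B := by
    intro a ha
    have : (⟨a, ha⟩ : A) ∈ Subgroup.normalizer ((P : Subgroup A) : Set A) ⊔ B' := by rw [h2]; trivial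
    obtain ⟨n, hn, b, hb, hnb⟩ := Subgroup.mem_sup_of_normal_right.1 this
    have ha' : a = (n : G) * (b : G) := by
      have := congrArg Subtype.val hnb
      simpa using this.symm
    rw [ha']
    refine Subgroup.mul_mem_sup ?_ (Subgroup.mem_subgroupOf.1 hb)
    -- ↑n normalizes P'
    rw [Subgroup.mem_normalizer_iff]
    intro x
    rw [Subgroup.mem_normalizer_iff] at hn
    constructor
    · rintro ⟨y, hy, rfl⟩
      exact ⟨n * y * n⁻¹, (hn y).1 hy, by simp⟩
    · rintro ⟨y, hy, hyx⟩
      -- ↑y = ↑n * x * ↑n⁻¹ so x = ↑(n⁻¹ y n)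
      have hx : x = ((n⁻¹ * y * n : A) : G) := by
        have : (y : G) = (n : G) * x * (n : G)⁻¹ := by simpa using hyx
        simp [this, mul_assoc]
      refine ⟨n⁻¹ * y * n, ?_, hx.symm⟩
      have := (hn (n⁻¹ * y * n)).2
      apply this
      have e : n * (n⁻¹ * y * n) * n⁻¹ = y := by group
      rw [e]; exact hy
  have h4 : Subgroup.normalizer (P' : Set G) ⊔ frattini G = ⊤ := by
    rw [eq_top_iff, ← h3]
    exact sup_le le_sup_left (hAle.trans (sup_le_sup_left hB _))
  have h5 : Subgroup.normalizer (P' : Set G) = ⊤ := frattini_nongenerating h4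
  have hP'n : P'.Normal := Subgroup.normalizer_eq_top_iff.1 h5
  -- (4)
  constructor
  intro x hx a
  have : (a : G) * (x : G) * (a : G)⁻¹ ∈ P' := hP'n.conj_mem _ ⟨x, hx, rfl⟩ _
  obtain ⟨y, hy, hyx⟩ := this
  have : y = a * x * a⁻¹ := Subtype.ext (by simpa using hyx)
  rw [← this]; exact hy

end Cfsg.Agent.S0584
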