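import Cfsg.Statements.S0585
import Cfsg.Agent.Lib.H3.Basic
import Mathlib

set_option autoImplicit false
open Cfsg

namespace Cfsg.Agent.S0585

open Cfsg.Agent.Lib.H3

/-- If the Frattini subgroup of a finite group G is trivial, then every abelian normal subgroup of G has a complement in G. -/
theorem result {G : Type*} [Group G] [Finite G] (hΦ : frattini G = ⊥) (A : Subgroup G) [A.Normal] [IsMulCommutative A] : ∃ H : Subgroup G, Subgroup.IsComplement' A H := by
  -- choose H of minimal order with A ⊔ H = ⊤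
  have hfin : {H : Subgroup G | A ⊔ H = ⊤}.Finite := Set.toFinite _
  obtain ⟨H, hH, hmin⟩ := Set.exists_min_image {H : Subgroup G | A ⊔ H = ⊤}
    (fun H => Nat.card H) hfin ⟨⊤, sup_top_eq A⟩
  replace hH : A ⊔ H = ⊤ := hH
  have hmin' : ∀ K : Subgroup G, K ≤ H → A ⊔ K = ⊤ → K = H := fun K hKH hK =>
    Subgroup.eq_of_le_of_card_ge hKH (hmin K hK)
  set D := A ⊓ H with hD
  have hAc : A ≤ Subgroup.centralizer (A : Set G) :=
    Subgroup.le_centralizer_iff_isMulCommutative.2 inferInstance
  -- D is normal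
  have hDn : D.Normal := by
    constructor
    intro d hd g
    have hg : g ∈ A ⊔ H := by rw [hH]; trivial
    obtain ⟨a, ha, h, hh, rfl⟩ := Subgroup.mem_sup_of_normal_left.1 hg
    have h1 : h * d * h⁻¹ ∈ D :=
      ⟨‹A.Normal›.conj_mem d hd.1 h, H.mul_mem (H.mul_mem hh hd.2) (H.inv_mem hh)⟩
    have h2 : a * (h * d * h⁻¹) * a⁻¹ = h * d * h⁻¹ := by
      have := hAc ha _ h1.1
      -- this : (h d h⁻¹) * a = a * (h d h⁻¹)
      rw [← this]; group
    have : a * h * d * (a * h)⁻¹ = a * (h * d * h⁻¹) * a⁻¹ := by group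
    rw [this, h2]; exact h1
  have hDH : D ≤ H := inf_le_right
  have hDA : D ≤ A := inf_le_left
  -- D ≤ frattini G
  have hDF : D ≤ frattini G := by
    unfold frattini Order.radical
    refine le_iInf₂ fun M hM => ?_
    replace hM : IsCoatom M := hM
    by_contra hDM
    have hsup : M ⊔ D = ⊤ := by
      by_contra hne
      have hlt : M < M ⊔ D := lt_of_le_of_ne le_sup_left (fun h => hDM (by rw [h]; exact le_sup_right))
      exact hne (hM.2 _ hlt)
    have h1 : H = (H ⊓ M) ⊔ D := by
      rw [← inf_sup_eq_of_le_of_normal hDH, hsup, inf_top_eq]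
    have h2 : A ⊔ (H ⊓ M) = ⊤ := by
      rw [eq_top_iff, ← hH]
      apply sup_le le_sup_left
      conv_lhs => rw [h1]
      exact sup_le le_sup_right (hDA.trans le_sup_left)
    have h3 := hmin' _ inf_le_left h2
    have hHM : H ≤ M := by rw [← h3]; exact inf_le_right
    exact hDM (hDH.trans hHM)
  have hDbot : D = ⊥ := by rw [hΦ] at hDF; exact le_bot_iff.1 hDF
  refine ⟨H, Subgroup.isComplement'_of_disjoint_and_mul_eq_univ ?_ ?_⟩
  · rw [disjoint_iff]; exact hDbot
  · rw [← Subgroup.normal_mul, hH]; rfl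

end Cfsg.Agent.S0585
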