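import Cfsg.Statements.S0586
-- import your own Cfsg.Agent.* helpers here
import Cfsg.Agent.Lib.H3.FrattiniFitting
import Mathlib

set_option autoImplicit false
open Cfsg

namespace Cfsg.Agent.S0586

/-- If the Frattini subgroup of a finite group G is trivial, then the Fitting subgroup of G equals the join of all abelian minimal normal subgroups of G. -/
theorem result {G : Type*} [Group G] [Finite G] (hΦ : frattini G = ⊥) : Cfsg.fittingSubgroup G = sSup {N : Subgroup G | N.Normal ∧ N ≠ ⊥ ∧ IsMulCommutative N ∧ ∀ K : Subgroup G, K.Normal → K ≤ N → K = ⊥ ∨ K = N} := by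
  classical
  set F := Cfsg.fittingSubgroup G with hF
  set T : Set (Subgroup G) := {N : Subgroup G | N.Normal ∧ N ≠ ⊥ ∧ IsMulCommutative N ∧
    ∀ K : Subgroup G, K.Normal → K ≤ N → K = ⊥ ∨ K = N} with hT
  set S := sSup T with hS
  have hFn : F.Normal := Cfsg.Agent.Lib.H1.fittingSubgroup_normal G
  have hFcomm := Cfsg.Agent.Lib.H3.fittingSubgroup_comm_of_frattini_eq_bot hΦ
  have hSn : S.Normal := Subgroup.sSup_normal _ (fun _ hH => hH.1)
  have hSF : S ≤ F := by
    apply sSup_le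
    intro N hN
    apply Cfsg.Agent.Lib.H1.le_fittingSubgroup hN.1
    exact ⟨1, Subgroup.upperCentralSeries_one_eq_top_iff.2 hN.2.2.1⟩
  apply le_antisymm _ hSF
  have hScomm : ∀ x ∈ S, ∀ y ∈ S, x * y = y * x :=
    fun x hx y hy => hFcomm x (hSF hx) y (hSF hy)
  obtain ⟨H, hSH, hSH'⟩ := Cfsg.Agent.Lib.H3.exists_complement_of_comm_normal hΦ S hScomm
  -- `F ⊓ H` is normal in `G`
  have hFHn : (F ⊓ H).Normal := by
    rw [← Subgroup.normalizer_eq_top_iff, eq_top_iff, ← hSH]
    apply sup_le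
    · intro s hs
      rw [Subgroup.mem_normalizer_iff]
      intro n
      have hsF : s ∈ F := hSF hs
      constructor
      · intro hn
        have : s * n * s⁻¹ = n := by rw [hFcomm s hsF n hn.1, mul_inv_cancel_right]
        rw [this]; exact hn
      · intro hn
        have h1 : s⁻¹ * (s * n * s⁻¹) * s = n := by group
        have h2 : s⁻¹ * (s * n * s⁻¹) * s = s * n * s⁻¹ := by
          rw [hFcomm s⁻¹ (F.inv_mem hsF) _ hn.1, inv_mul_cancel_right]
        rw [← h1, h2]; exact hn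
    · intro h hh
      rw [Subgroup.mem_normalizer_iff]
      intro n
      constructor
      · intro hn
        exact ⟨Subgroup.Normal.conj_mem inferInstance n hn.1 h,
          H.mul_mem (H.mul_mem hh hn.2) (H.inv_mem hh)⟩
      · intro hn
        have h1 : h⁻¹ * (h * n * h⁻¹) * h⁻¹⁻¹ = n := by group
        rw [← h1]
        exact ⟨Subgroup.Normal.conj_mem inferInstance _ hn.1 h⁻¹,
          H.mul_mem (H.mul_mem (H.inv_mem hh) hn.2) (H.inv_mem (H.inv_mem hh))⟩
  have hFH : F ⊓ H = ⊥ := by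
    by_contra hne
    obtain ⟨N, ⟨hNn, hN1, hNmin⟩, hNle⟩ := Cfsg.Agent.Lib.H3.exists_isMinNormal_le (F ⊓ H) hFHn hne
    have hNT : N ∈ T := by
      refine ⟨hNn, hN1, ⟨⟨fun a b => Subtype.ext ?_⟩⟩, hNmin⟩
      exact hFcomm a.1 (hNle a.2).1 b.1 (hNle b.2).1
    have hNS : N ≤ S := le_sSup hNT
    have : N ≤ S ⊓ H := le_inf hNS (hNle.trans inf_le_right)
    rw [hSH', le_bot_iff] at this
    exact hN1 this
  have h1 : F ⊓ (H ⊔ S) = (F ⊓ H) ⊔ S := Cfsg.Agent.Lib.H3.inf_sup_eq_of_le_of_normal hSF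
  rw [sup_comm H S, hSH, inf_top_eq, hFH, bot_sup_eq] at h1
  exact h1.le

end Cfsg.Agent.S0586
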