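import Cfsg.Statements.S0587
-- import your own Cfsg.Agent.* helpers here
import Cfsg.Agent.S0549
import Cfsg.Agent.Lib.H3.PrimSolv2
import Cfsg.Agent.Lib.H3.CoverAvoid
import Cfsg.Agent.Lib.H1.PCore
import Mathlib

set_option autoImplicit false
open Cfsg

namespace Cfsg.Agent.S0587

open scoped Pointwise

/-- A `q`-group `Q` acting by conjugation on a normal subgroup `L` with only trivial fixed points:
`|L| ≡ 1 mod q`. -/
theorem card_modEq_one_of_fixedPointFree {G : Type*} [Group G] [Finite G] {q : ℕ} [Fact q.Prime]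
    (L Q : Subgroup G) [hL : L.Normal] (hQ : IsPGroup q Q)
    (hfix : L ⊓ Subgroup.centralizer (Q : Set G) = ⊥) : Nat.card L ≡ 1 [MOD q] := by
  let φ : Q →* MulAut L := (MulAut.conjNormal (H := L)).comp Q.subtype
  let _ : MulAction Q L := MulAction.compHom L φ
  have hsmul : ∀ (x : Q) (l : L), ((x • l : L) : G) = (x : G) * (l : G) * (x : G)⁻¹ := by
    intro x l
    rfl
  have h1 := hQ.card_modEq_card_fixedPoints L
  have h2 : Nat.card (MulAction.fixedPoints Q L) = 1 := by
    rw [Nat.card_eq_one_iff_unique]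
    constructor
    · constructor
      rintro ⟨a, ha⟩ ⟨b, hb⟩
      have key : ∀ l : L, l ∈ MulAction.fixedPoints Q L → l = 1 := by
        intro l hl
        have h3 : (l : G) ∈ L ⊓ Subgroup.centralizer (Q : Set G) := by
          refine ⟨l.2, ?_⟩
          show (l : G) ∈ Subgroup.centralizer (Q : Set G)
          rw [Subgroup.mem_centralizer_iff]
          intro x hx
          have h4 := congrArg Subtype.val (hl ⟨x, hx⟩)
          rw [hsmul] at h4
          have h5 : x * (l : G) * x⁻¹ = (l : G) := h4
          calc x * (l : G) = x * (l : G) * x⁻¹ * x := by group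
            _ = (l : G) * x := by rw [h5]
        rw [hfix, Subgroup.mem_bot] at h3
        exact Subtype.ext h3
      apply Subtype.ext
      show a = b
      rw [key a ha, key b hb]
    · refine ⟨⟨1, ?_⟩⟩
      intro x
      apply Subtype.ext
      rw [hsmul]
      simp
  rw [h2] at h1
  exact h1

/-- Let G be a finite group whose largest normal p-subgroup L is nontrivial, and M a maximal subgroup of G with trivial normal core. Then L is elementary abelian, M is a complement to L, L is a minimal normal subgroup of G, the centralizer of L is L, and for every prime q such that the largest normal q-subgroup of M is nontrivial, the order of L is congruent to 1 modulo q and q ≠ p. -/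
theorem result {G : Type*} [Group G] [Finite G] (p : ℕ) [Fact p.Prime] (hL : Cfsg.pCore p G ≠ ⊥) (M : Subgroup G) (hM : IsCoatom M) (hcore : M.normalCore = ⊥) : Cfsg.IsElementaryAbelian p (Cfsg.pCore p G) ∧ Subgroup.IsComplement' (Cfsg.pCore p G) M ∧ (∀ K : Subgroup G, K.Normal → K ≤ Cfsg.pCore p G → K = ⊥ ∨ K = Cfsg.pCore p G) ∧ Subgroup.centralizer ((Cfsg.pCore p G : Subgroup G) : Set G) = Cfsg.pCore p G ∧ ∀ (q : ℕ) [Fact q.Prime], Cfsg.pCore q ↥M ≠ ⊥ → Nat.card (Cfsg.pCore p G) % q = 1 % q ∧ q ≠ p := by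
  set L := Cfsg.pCore p G with hLdef
  have hLn : L.Normal := Cfsg.Agent.Lib.H1.pCore_normal p G
  have hLp : IsPGroup p L := Cfsg.Agent.Lib.H1.pCore_isPGroup p G
  set C := Subgroup.centralizer (L : Set G) with hCdef
  have hCn : C.Normal := Subgroup.normal_centralizer
  obtain ⟨hCM, hCmin⟩ := Cfsg.Agent.S0549.result M hM hcore L hL
  obtain ⟨b, hbL, hb1, hbc⟩ := Cfsg.Agent.Lib.H3.exists_ne_one_commute_of_isPGroup L L hLp hLp hL
  have hbC : b ∈ C := by
    rw [hCdef, Subgroup.mem_centralizer_iff]
    exact hbc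
  have hCne : C ≠ ⊥ := by
    intro h
    rw [h, Subgroup.mem_bot] at hbC
    exact hb1 hbC
  obtain ⟨-, hCmin'⟩ := hCmin.resolve_left hCne
  have hLCne : L ⊓ C ≠ ⊥ := by
    intro h
    have : b ∈ L ⊓ C := ⟨hbL, hbC⟩
    rw [h, Subgroup.mem_bot] at this
    exact hb1 this
  have hCL : C ≤ L := by
    rcases hCmin' (L ⊓ C) inferInstance inf_le_right with h | h
    · exact absurd h hLCne
    · exact h.ge.trans inf_le_left
  set C' := Subgroup.centralizer (C : Set G) with hC'def
  obtain ⟨hC'M, hC'min⟩ := Cfsg.Agent.S0549.result M hM hcore C hCne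
  have hLC' : L ≤ C' := by
    intro l hl
    rw [hC'def, Subgroup.mem_centralizer_iff]
    intro c hc
    have hc' : c ∈ Subgroup.centralizer (L : Set G) := hc
    rw [Subgroup.mem_centralizer_iff] at hc'
    exact (hc' l hl).symm
  have hC'ne : C' ≠ ⊥ := fun h => hL (le_bot_iff.1 (h ▸ hLC'))
  obtain ⟨-, hC'min'⟩ := hC'min.resolve_left hC'ne
  have hLeqC' : L = C' := (hC'min' L hLn hLC').resolve_left hL
  have hLmin : ∀ K : Subgroup G, K.Normal → K ≤ L → K = ⊥ ∨ K = L := by
    intro K hK hKL
    rcases hC'min' K hK (hKL.trans hLC') with h | h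
    · exact Or.inl h
    · exact Or.inr (h.trans hLeqC'.symm)
  have hCeqL : C = L := (hLmin C hCn hCL).resolve_left hCne
  have hLcomm : ∀ x ∈ L, ∀ y ∈ L, x * y = y * x := by
    intro x hx y hy
    have h1 : y ∈ Subgroup.centralizer (L : Set G) := hCeqL.ge hy
    rw [Subgroup.mem_centralizer_iff] at h1
    exact h1 x hx
  have hLM : L ⊓ M = ⊥ := by
    have h1 : C ⊓ M = ⊥ := hCM
    rwa [hCeqL] at h1
  have hLMtop : L ⊔ M = ⊤ := Cfsg.Agent.S0549.sup_eq_top_of_normal M hM hcore L hL
  refine ⟨?_, Cfsg.Agent.Lib.H3.isComplement'_of_normal_of_inf_of_sup L M hLM hLMtop, hLmin, hCeqL, ?_⟩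
  · obtain ⟨p', d, hp', hd, hcard, hexp⟩ :=
      Cfsg.Agent.Lib.H3.minNormal_exists_prime_pow L hL hLmin hLcomm
    obtain ⟨k, hk⟩ := IsPGroup.iff_card.1 hLp
    have hpp : p' = p := by
      have h1 : p' ∣ p ^ k := by
        rw [← hk, hcard]; exact dvd_pow_self p' hd.ne'
      exact (Nat.prime_dvd_prime_iff_eq hp' (Fact.out : p.Prime)).1 (hp'.dvd_of_dvd_pow h1)
    refine ⟨⟨⟨fun a b => Subtype.ext (hLcomm a a.2 b b.2)⟩⟩, fun a ha => ?_⟩
    rw [← hpp]; exact hexp a ha
  · intro q hq hQ₀
    set Q : Subgroup G := (Cfsg.pCore q ↥M).map M.subtype with hQdef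
    have hQM : Q ≤ M := Subgroup.map_subtype_le _
    have hQq : IsPGroup q Q := (Cfsg.Agent.Lib.H1.pCore_isPGroup q ↥M).map M.subtype
    have hQne : Q ≠ ⊥ := by
      intro h
      apply hQ₀
      rw [hQdef, Subgroup.map_eq_bot_iff_of_injective _ M.subtype_injective] at h
      exact h
    have hMQ : M ≤ Subgroup.normalizer (Q : Set G) := by
      have h2 := Subgroup.le_normalizer_map (H := Cfsg.pCore q ↥M) M.subtype
      rw [Subgroup.normalizer_eq_top_iff.2 (Cfsg.Agent.Lib.H1.pCore_normal q ↥M),
        ← MonoidHom.range_eq_map, Subgroup.range_subtype] at h2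
      exact h2
    have hQL : ¬ Q ≤ L := by
      intro h
      apply hQne
      rw [eq_bot_iff, ← hLM]
      exact le_inf h hQM
    have hfix : L ⊓ Subgroup.centralizer (Q : Set G) = ⊥ := by
      set F := L ⊓ Subgroup.centralizer (Q : Set G) with hF
      have hFn : F.Normal := by
        constructor
        intro x hx g
        have hg : g ∈ L ⊔ M := hLMtop ▸ Subgroup.mem_top g
        obtain ⟨l, hl, m, hm, rfl⟩ := Subgroup.mem_sup_of_normal_left.1 hg
        have h1 : m * x * m⁻¹ ∈ F := by
          refine ⟨hLn.conj_mem x hx.1 m, ?_⟩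
          show m * x * m⁻¹ ∈ Subgroup.centralizer (Q : Set G)
          rw [Subgroup.mem_centralizer_iff]
          intro y hy
          have hy' : m⁻¹ * y * m ∈ Q := by
            have := (Subgroup.mem_normalizer_iff.1 (Subgroup.inv_mem _ (hMQ hm)) y).1 hy
            simpa using this
          have hx2 : x ∈ Subgroup.centralizer (Q : Set G) := hx.2
          rw [Subgroup.mem_centralizer_iff] at hx2
          have h3 := hx2 _ hy'
          have e1 : y * (m * x * m⁻¹) = m * ((m⁻¹ * y * m) * x) * m⁻¹ := by group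
          have e2 : m * x * m⁻¹ * y = m * (x * (m⁻¹ * y * m)) * m⁻¹ := by group
          rw [e1, e2, h3]
        have h2 : l * (m * x * m⁻¹) * l⁻¹ = m * x * m⁻¹ := by
          rw [hLcomm l hl _ h1.1]; group
        have e3 : l * m * x * (l * m)⁻¹ = l * (m * x * m⁻¹) * l⁻¹ := by group
        rw [e3, h2]; exact h1
      rcases hLmin F hFn inf_le_left with h | h
      · exact h
      · exfalso
        apply hQL
        have h1 : L ≤ Subgroup.centralizer (Q : Set G) := h.ge.trans inf_le_right
        have h2 : Q ≤ C := by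
          intro y hy
          rw [hCdef, Subgroup.mem_centralizer_iff]
          intro l hl
          have h3 := h1 hl
          rw [Subgroup.mem_centralizer_iff] at h3
          exact (h3 y hy).symm
        exact h2.trans hCeqL.le
    refine ⟨card_modEq_one_of_fixedPointFree L Q hQq hfix, ?_⟩
    intro hqp
    subst hqp
    apply hQL
    have hLQp : IsPGroup q (L ⊔ Q : Subgroup G) := IsPGroup.to_sup_of_normal_left' hLp hQq
      (le_trans le_top (Subgroup.normalizer_eq_top_iff.2 hLn).ge)
    have hLQn : (L ⊔ Q : Subgroup G).Normal := by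
      rw [← Subgroup.normalizer_eq_top_iff, eq_top_iff, ← hLMtop]
      apply sup_le
      · exact le_sup_left.trans Subgroup.le_normalizer
      · refine le_trans ?_ (Subgroup.normalizer_inf_normalizer_le_normalizer_sup L Q)
        refine le_inf ?_ hMQ
        rw [Subgroup.normalizer_eq_top_iff.2 hLn]; exact le_top
    exact le_sup_right.trans (Cfsg.Agent.Lib.H1.le_pCore hLQn hLQp)

end Cfsg.Agent.S0587
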