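import Cfsg.Statements.S0589
-- import your own Cfsg.Agent.* helpers here
import Cfsg.Agent.Lib.H1.Frobenius
import Cfsg.Agent.Lib.H21.OrbitCount
import Mathlib

set_option autoImplicit false
open Pointwise
open Cfsg

namespace Cfsg.Agent.S0589
open scoped Pointwise


open Cfsg.Agent.Lib.H1 in
theorem smul_mk_eq_iff {G : Type*} [Group G] (H : Subgroup G) (g x : G) :
    g • (x : G ⧸ H) = (x : G ⧸ H) ↔ x⁻¹ * g * x ∈ H := by
  have h1 : g • (x : G ⧸ H) = ((g * x : G) : G ⧸ H) := rfl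
  rw [h1, QuotientGroup.eq]
  constructor
  · intro h
    have h2 := H.inv_mem h
    have h3 : ((g * x)⁻¹ * x)⁻¹ = x⁻¹ * g * x := by group
    rwa [h3] at h2
  · intro h
    have h2 := H.inv_mem h
    have h3 : (x⁻¹ * g * x)⁻¹ = (g * x)⁻¹ * x := by group
    rwa [h3] at h2

open Cfsg.Agent.Lib.H1 in
/-- A nonidentity element fixes at most one coset of a Frobenius complement. -/
theorem frob_fixed_unique {G : Type*} [Group G] {H : Subgroup G}
    (hH : Cfsg.IsFrobeniusComplement H) {g : G} (hg : g ≠ 1) {a b : G ⧸ H}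
    (ha : g • a = a) (hb : g • b = b) : a = b := by
  induction a using QuotientGroup.induction_on with
  | H x =>
  induction b using QuotientGroup.induction_on with
  | H y =>
  rw [smul_mk_eq_iff] at ha hb
  have h1 : x⁻¹ * g * x ≠ 1 := by
    intro h
    apply hg
    have : g = x * (x⁻¹ * g * x) * x⁻¹ := by group
    rw [this, h]; group
  have h2 : (y⁻¹ * x) * (x⁻¹ * g * x) * (y⁻¹ * x)⁻¹ ∈ H := by
    have : (y⁻¹ * x) * (x⁻¹ * g * x) * (y⁻¹ * x)⁻¹ = y⁻¹ * g * y := by group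
    rw [this]; exact hb
  have h3 := frob_mem_of_conj_mem hH ha h1 h2
  exact (QuotientGroup.eq.2 h3).symm

open Cfsg.Agent.Lib.H1 in
/-- A nonidentity element whose order divides `|H|` fixes some coset of the Frobenius
complement `H`. -/
theorem frob_exists_fixed {G : Type*} [Group G] [Finite G] {H : Subgroup G}
    (hH : Cfsg.IsFrobeniusComplement H) {l : G} (hl : l ≠ 1) (hord : orderOf l ∣ Nat.card H) :
    ∃ ω : G ⧸ H, l • ω = ω := by
  classical
  have hn0 : orderOf l ≠ 0 := (orderOf_pos l).ne'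
  have hn1 : orderOf l ≠ 1 := fun h => hl (orderOf_eq_one_iff.1 h)
  set r := (orderOf l).minFac with hr
  have hrp : r.Prime := Nat.minFac_prime hn1
  have hrn : r ∣ orderOf l := Nat.minFac_dvd _
  set l' := l ^ (orderOf l / r) with hl'
  have hordl' : orderOf l' = r := orderOf_pow_orderOf_div hn0 hrn
  have hl'1 : l' ≠ 1 := by
    intro h
    rw [h, orderOf_one] at hordl'
    exact hrp.one_lt.ne hordl'
  have hrF : Fact r.Prime := ⟨hrp⟩
  set Z := Subgroup.zpowers l' with hZ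
  have hZcard : Nat.card Z = r ^ 1 := by rw [pow_one, Nat.card_zpowers, hordl']
  have hZp : IsPGroup r Z := IsPGroup.of_card hZcard
  have hmod := hZp.card_modEq_card_fixedPoints (G ⧸ H)
  have hidx : Nat.card (G ⧸ H) ≡ 1 [MOD r] := by
    have h1 : H.index ≡ 1 [MOD Nat.card H] := frob_index_mod hH
    exact (Nat.ModEq.of_dvd (hrn.trans hord) h1)
  have hfix : Nat.card (MulAction.fixedPoints Z (G ⧸ H)) ≠ 0 := by
    intro h0
    rw [h0] at hmod
    have h2 := hidx.symm.trans hmod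
    have h3 : r ∣ 1 := (Nat.modEq_zero_iff_dvd.1 h2)
    exact hrp.one_lt.ne' (Nat.dvd_one.1 h3)
  have hne : Nonempty (MulAction.fixedPoints Z (G ⧸ H)) := by
    by_contra hemp
    rw [not_nonempty_iff] at hemp
    exact hfix Nat.card_of_isEmpty
  obtain ⟨ω, hω⟩ := hne
  have hl'ω : l' • ω = ω := hω ⟨l', Subgroup.mem_zpowers l'⟩
  refine ⟨ω, ?_⟩
  have hcomm : l' * l = l * l' := by
    rw [hl', ← pow_succ, ← pow_succ']
  have h4 : l' • (l • ω) = l • ω := by
    rw [← mul_smul, hcomm, mul_smul, hl'ω]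
  exact frob_fixed_unique hH hl'1 h4 hl'ω

/-- Let H be a Frobenius complement in a finite group G and L a subgroup of G whose order divides the order of H. Then L is contained in some conjugate of H. -/
theorem result {G : Type*} [Group G] [Finite G] (H : Subgroup G) (hH : Cfsg.IsFrobeniusComplement H) (L : Subgroup G) (hL : Nat.card L ∣ Nat.card H) : ∃ x : G, L ≤ MulAut.conj x • H := by
  classical
  by_cases hL1 : L = ⊥
  · exact ⟨1, by rw [hL1]; exact bot_le⟩
  have hLcard : 1 < Nat.card L :=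
    Finite.one_lt_card_iff_nontrivial.2 ((Subgroup.nontrivial_iff_ne_bot L).2 hL1)
  -- every nonidentity element of `L` has a fixed point
  have hF2 : ∀ l : {l : L // l ≠ 1}, ∃ ω : G ⧸ H, ((l : L) : G) • ω = ω := by
    rintro ⟨⟨l, hl⟩, hl1⟩
    apply frob_exists_fixed hH
    · intro h; exact hl1 (Subtype.ext h)
    · exact (Subgroup.orderOf_dvd_natCard L hl).trans hL
  choose f hf using hF2
  set T : Set (G ⧸ H) := {ω | ∃ l : L, l ≠ 1 ∧ (l : G) • ω = ω} with hT
  have hTrange : T ⊆ Set.range f := by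
    rintro ω ⟨l, hl1, hlω⟩
    refine ⟨⟨l, hl1⟩, ?_⟩
    have hl1' : (l : G) ≠ 1 := fun h => hl1 (Subtype.ext h)
    exact frob_fixed_unique hH hl1' (hf ⟨l, hl1⟩) hlω
  have hTle : T.ncard + 1 ≤ Nat.card L := by
    have h1 : T.ncard ≤ (Set.range f).ncard := Set.ncard_le_ncard hTrange (Set.toFinite _)
    have h2 : (Set.range f).ncard ≤ Nat.card {l : L // l ≠ 1} := by
      rw [← Nat.card_coe_set_eq]; exact Finite.card_range_le f
    have h3 := Cfsg.Agent.Lib.H1.card_ne_one_add_one L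
    omega
  -- `L` acts freely off `T`
  have hinv : ∀ m : L, ∀ ω ∈ T, m • ω ∈ T := by
    rintro m ω ⟨l, hl1, hlω⟩
    refine ⟨m * l * m⁻¹, ?_, ?_⟩
    · intro h
      apply hl1
      have : l = m⁻¹ * (m * l * m⁻¹) * m := by group
      rw [this, h]; group
    · show ((m * l * m⁻¹ : L) : G) • ((m : G) • ω) = (m : G) • ω
      rw [← mul_smul]
      have : ((m * l * m⁻¹ : L) : G) * (m : G) = (m : G) * (l : G) := by
        push_cast; group
      rw [this, mul_smul, hlω]
  have hinvc : ∀ m : L, ∀ ω ∈ Tᶜ, m • ω ∈ Tᶜ := by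
    intro m ω hω hmem
    apply hω
    have := hinv m⁻¹ _ hmem
    rwa [inv_smul_smul] at this
  have hfree : ∀ ω ∈ Tᶜ, MulAction.stabilizer L ω = ⊥ := by
    intro ω hω
    rw [eq_bot_iff]
    intro l hl
    rw [Subgroup.mem_bot]
    by_contra hl1
    exact hω ⟨l, hl1, hl⟩
  have hdvd := Cfsg.Agent.Lib.H21.card_dvd_ncard_of_free (G := L) Tᶜ (Set.toFinite _) hinvc hfree
  have hsum : T.ncard + Tᶜ.ncard = Nat.card (G ⧸ H) := Set.ncard_add_ncard_compl T
  have hidx : Nat.card (G ⧸ H) ≡ 1 [MOD Nat.card L] := by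
    have h1 : H.index ≡ 1 [MOD Nat.card H] := Cfsg.Agent.Lib.H1.frob_index_mod hH
    exact Nat.ModEq.of_dvd hL h1
  have hT1 : T.ncard = 1 := by
    obtain ⟨c, hc⟩ := hdvd
    have h2 : T.ncard ≡ 1 [MOD Nat.card L] := by
      have h3 : T.ncard + Nat.card L * c ≡ 1 [MOD Nat.card L] := by
        rw [← hc, hsum]; exact hidx
      have h4 : T.ncard + Nat.card L * c ≡ T.ncard [MOD Nat.card L] := by
        unfold Nat.ModEq
        rw [Nat.add_mul_mod_self_left]
      exact h4.symm.trans h3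
    unfold Nat.ModEq at h2
    rw [Nat.mod_eq_of_lt (by omega : T.ncard < Nat.card L), Nat.mod_eq_of_lt hLcard] at h2
    exact h2
  obtain ⟨ω₀, hω₀⟩ := Set.ncard_eq_one.1 hT1
  have hfix : ∀ l ∈ L, l • ω₀ = ω₀ := by
    intro l hl
    by_cases hl1 : l = 1
    · rw [hl1, one_smul]
    · have hl1' : (⟨l, hl⟩ : L) ≠ 1 := fun h => hl1 (congrArg Subtype.val h)
      have h1 : f ⟨⟨l, hl⟩, hl1'⟩ ∈ T := ⟨⟨l, hl⟩, hl1', hf ⟨⟨l, hl⟩, hl1'⟩⟩
      rw [hω₀, Set.mem_singleton_iff] at h1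
      have h2 := hf ⟨⟨l, hl⟩, hl1'⟩
      rw [h1] at h2
      exact h2
  induction ω₀ using QuotientGroup.induction_on with
  | H x =>
  refine ⟨x, ?_⟩
  intro l hl
  have h1 := (smul_mk_eq_iff H l x).1 (hfix l hl)
  rw [Subgroup.mem_pointwise_smul_iff_inv_smul_mem]
  have h2 : (MulAut.conj x)⁻¹ • l = x⁻¹ * l * x := by
    rw [MulAut.smul_def, ← map_inv, MulAut.conj_apply, inv_inv]
  rw [h2]
  exact h1

end Cfsg.Agent.S0589
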