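import Cfsg.Statements.S0590
import Mathlib

set_option autoImplicit false
open Cfsg

namespace Cfsg.Agent.S0590

open scoped commutatorElement

variable {G : Type*} [Group G]

theorem conj_eq (v a : G) : a * v * a⁻¹ = ⁅v, a⁆⁻¹ * v := by
  rw [commutatorElement_def]; group

theorem comm_mem {V : Subgroup G} {v a : G} (hv : v ∈ V)
    (ha : a ∈ Subgroup.normalizer (V : Set G)) : ⁅v, a⁆ ∈ V := by
  rw [commutatorElement_def]
  have h1 : a * v⁻¹ * a⁻¹ ∈ V := (Subgroup.mem_normalizer_iff.1 ha v⁻¹).1 (V.inv_mem hv)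
  have : v * a * v⁻¹ * a⁻¹ = v * (a * v⁻¹ * a⁻¹) := by group
  rw [this]; exact V.mul_mem hv h1

theorem comm_commute {V H : Subgroup G} (hq : ⁅⁅V, H⁆, H⁆ = ⊥) {v a b : G} (hv : v ∈ V) (ha : a ∈ H)
    (hb : b ∈ H) : Commute ⁅v, a⁆ b := by
  have h1 : ⁅⁅v, a⁆, b⁆ ∈ ⁅⁅V, H⁆, H⁆ :=
    Subgroup.commutator_mem_commutator (Subgroup.commutator_mem_commutator hv ha) hb
  rw [hq, Subgroup.mem_bot] at h1
  exact commutatorElement_eq_one_iff_commute.1 h1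

theorem conj_pow_aux (a v c : G) (h : a * v * a⁻¹ = c⁻¹ * v) (hc : Commute c a) (k : ℕ) :
    a ^ k * v * (a ^ k)⁻¹ = (c ^ k)⁻¹ * v := by
  induction k with
  | zero => simp
  | succ k ih =>
    have hc' : Commute ((c ^ k)⁻¹) a := (hc.pow_left k).inv_left
    calc a ^ (k + 1) * v * (a ^ (k + 1))⁻¹ = a * (a ^ k * v * (a ^ k)⁻¹) * a⁻¹ := by
          rw [pow_succ']; group
      _ = a * ((c ^ k)⁻¹ * v) * a⁻¹ := by rw [ih]
      _ = (a * (c ^ k)⁻¹) * (v * a⁻¹) := by group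
      _ = ((c ^ k)⁻¹ * a) * (v * a⁻¹) := by rw [hc'.eq]
      _ = (c ^ k)⁻¹ * (a * v * a⁻¹) := by group
      _ = (c ^ k)⁻¹ * (c⁻¹ * v) := by rw [h]
      _ = (c ^ (k + 1))⁻¹ * v := by rw [pow_succ]; group

theorem conj_pow_eq {V H : Subgroup G} (hq : ⁅⁅V, H⁆, H⁆ = ⊥) {v a : G} (hv : v ∈ V) (ha : a ∈ H)
    (k : ℕ) : a ^ k * v * (a ^ k)⁻¹ = (⁅v, a⁆ ^ k)⁻¹ * v :=
  conj_pow_aux a v _ (conj_eq v a) (comm_commute hq hv ha ha) k

theorem conj_conj_aux (a b w c d : G) (h1 : a * w * a⁻¹ = c⁻¹ * w) (h2 : b * w * b⁻¹ = d⁻¹ * w)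
    (hda : Commute d⁻¹ a) (hcb : Commute c⁻¹ b) (hcd : Commute c⁻¹ d⁻¹) :
    (a * b) * w * (a * b)⁻¹ = (b * a) * w * (b * a)⁻¹ := by
  have e1 : (a * b) * w * (a * b)⁻¹ = a * (b * w * b⁻¹) * a⁻¹ := by group
  have e2 : (b * a) * w * (b * a)⁻¹ = b * (a * w * a⁻¹) * b⁻¹ := by group
  rw [e1, e2, h1, h2]
  calc a * (d⁻¹ * w) * a⁻¹ = (a * d⁻¹) * w * a⁻¹ := by group
    _ = (d⁻¹ * a) * w * a⁻¹ := by rw [hda.eq]
    _ = d⁻¹ * (a * w * a⁻¹) := by group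
    _ = d⁻¹ * (c⁻¹ * w) := by rw [h1]
    _ = (d⁻¹ * c⁻¹) * w := by group
    _ = (c⁻¹ * d⁻¹) * w := by rw [hcd.eq]
    _ = c⁻¹ * (d⁻¹ * w) := by group
    _ = c⁻¹ * (b * w * b⁻¹) := by rw [h2]
    _ = (c⁻¹ * b) * w * b⁻¹ := by group
    _ = (b * c⁻¹) * w * b⁻¹ := by rw [hcb.eq]
    _ = b * (c⁻¹ * w) * b⁻¹ := by group

/-- Quadratic action on an elementary abelian p-group forces the acting group modulo the kernel of the action to be elementary abelian. -/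
theorem result {G : Type*} [Group G] [Finite G] {p : ℕ} [Fact p.Prime] (V H : Subgroup G) (hV : Cfsg.IsElementaryAbelian p V) (hHV : H ≤ Subgroup.normalizer (V : Set G)) (hq : ⁅⁅V, H⁆, H⁆ = ⊥) : ⁅H, H⁆ ≤ Subgroup.centralizer (V : Set G) ∧ ∀ a ∈ H, a ^ p ∈ Subgroup.centralizer (V : Set G) := by
  have hVc : V ≤ Subgroup.centralizer (V : Set G) := Subgroup.le_centralizer_iff_isMulCommutative.2 hV.1
  refine ⟨?_, ?_⟩
  · rw [Subgroup.commutator_le]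
    intro a ha b hb
    rw [Subgroup.mem_centralizer_iff]
    -- key: for all w ∈ V, (a*b) w (a*b)⁻¹ = (b*a) w (b*a)⁻¹
    have key : ∀ w ∈ V, (a * b) * w * (a * b)⁻¹ = (b * a) * w * (b * a)⁻¹ := by
      intro w hw
      have hc := comm_mem hw (hHV ha)
      have hd := comm_mem hw (hHV hb)
      have hda : Commute ⁅w, b⁆⁻¹ a := (comm_commute hq hw hb ha).inv_left
      have hcb : Commute ⁅w, a⁆⁻¹ b := (comm_commute hq hw ha hb).inv_left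
      have hcd : Commute ⁅w, a⁆⁻¹ ⁅w, b⁆⁻¹ := by
        have : ⁅w, b⁆ * ⁅w, a⁆ = ⁅w, a⁆ * ⁅w, b⁆ := hVc hc _ hd
        exact (Commute.inv_inv (show Commute ⁅w, a⁆ ⁅w, b⁆ from this.symm))
      exact conj_conj_aux a b w _ _ (conj_eq w a) (conj_eq w b) hda hcb hcd
    intro v hv
    -- w := (b*a)⁻¹ v (b*a) ∈ V
    have hba : b * a ∈ Subgroup.normalizer (V : Set G) := (Subgroup.normalizer _).mul_mem (hHV hb) (hHV ha)
    have hw : (b * a)⁻¹ * v * (b * a) ∈ V := by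
      have := (Subgroup.mem_normalizer_iff.1 ((Subgroup.normalizer _).inv_mem hba) v).1 hv
      simpa using this
    have := key _ hw
    -- (a*b) * ((b*a)⁻¹ v (b*a)) * (a*b)⁻¹ = v
    have e3 : (b * a) * ((b * a)⁻¹ * v * (b * a)) * (b * a)⁻¹ = v := by group
    rw [e3] at this
    -- this : a*b*((b*a)⁻¹ * v * (b*a)) * (a*b)⁻¹ = v ;  ⁅a,b⁆ = (a*b)*(b*a)⁻¹
    rw [commutatorElement_def]
    calc v * (a * b * a⁻¹ * b⁻¹) = (a * b * ((b * a)⁻¹ * v * (b * a)) * (a * b)⁻¹) * (a * b * a⁻¹ * b⁻¹) := by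
          rw [this]
      _ = a * b * a⁻¹ * b⁻¹ * v := by group
  · intro a ha
    rw [Subgroup.mem_centralizer_iff]
    intro v hv
    have h1 := conj_pow_eq hq hv ha p
    have h2 : ⁅v, a⁆ ^ p = 1 := hV.2 _ (comm_mem hv (hHV ha))
    rw [h2, inv_one, one_mul] at h1
    -- a^p v (a^p)⁻¹ = v
    calc v * a ^ p = (a ^ p * v * (a ^ p)⁻¹) * a ^ p := by rw [h1]
      _ = a ^ p * v := by group

end Cfsg.Agent.S0590
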