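import Cfsg.Statements.S0591
import Cfsg.Agent.S0590
import Mathlib

set_option autoImplicit false
open Cfsg

namespace Cfsg.Agent.S0591

open scoped commutatorElement
open Cfsg.Agent.S0590

variable {G : Type*} [Group G]

/-- the fixed points of `a` in `V` -/
abbrev CV (V : Subgroup G) (a : G) : Subgroup G := V ⊓ Subgroup.centralizer (Subgroup.zpowers a : Set G)

theorem comm_mem_CV {p : ℕ} {V : Subgroup G} (a : G)
    (ha : a ∈ Subgroup.normalizer (V : Set G))
    (hq : ⁅⁅V, Subgroup.zpowers a⁆, Subgroup.zpowers a⁆ = ⊥) {v : G} (hv : v ∈ V) :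
    ⁅v, a⁆ ∈ CV V a := by
  refine ⟨comm_mem hv ha, ?_⟩
  show ⁅v, a⁆ ∈ Subgroup.centralizer (Subgroup.zpowers a : Set G)
  rw [Subgroup.mem_centralizer_iff]
  intro h hh
  exact ((comm_commute hq hv (Subgroup.mem_zpowers a) hh).eq).symm

/-- The commutator map `v ↦ [v, a]` as a homomorphism `V → C_V(a)`. -/
def commHom {p : ℕ} (V : Subgroup G) (hV : Cfsg.IsElementaryAbelian p V) (a : G)
    (ha : a ∈ Subgroup.normalizer (V : Set G))
    (hq : ⁅⁅V, Subgroup.zpowers a⁆, Subgroup.zpowers a⁆ = ⊥) : V →* CV V a where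
  toFun v := ⟨⁅(v : G), a⁆, comm_mem_CV (p := p) a ha hq v.2⟩
  map_one' := by
    apply Subtype.ext
    simp
  map_mul' v w := by
    apply Subtype.ext
    have hVc : V ≤ Subgroup.centralizer (V : Set G) := Subgroup.le_centralizer_iff_isMulCommutative.2 hV.1
    have hw : ⁅(w : G), a⁆ ∈ V := comm_mem w.2 ha
    have hv : ⁅(v : G), a⁆ ∈ V := comm_mem v.2 ha
    show ⁅(v : G) * (w : G), a⁆ = ⁅(v : G), a⁆ * ⁅(w : G), a⁆
    rw [commutatorElement_mul_left_eq_conj_mul]
    have h1 : (v : G) * ⁅(w : G), a⁆ * (v : G)⁻¹ = ⁅(w : G), a⁆ := by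
      have := hVc v.2 _ hw
      -- this : ⁅w,a⁆ * v = v * ⁅w,a⁆
      rw [← this]; group
    rw [h1]
    exact (hVc hv _ hw)

/-- For a quadratically acting element a on an elementary abelian p-group V, the fixed points C_V(a) have order at least the square root of the order of V. -/
theorem result {G : Type*} [Group G] [Finite G] {p : ℕ} [Fact p.Prime] (V : Subgroup G) (hV : Cfsg.IsElementaryAbelian p V) (a : G) (ha : a ∈ Subgroup.normalizer (V : Set G)) (hq : ⁅⁅V, Subgroup.zpowers a⁆, Subgroup.zpowers a⁆ = ⊥) : Nat.card V ≤ Nat.card ↥(V ⊓ Subgroup.centralizer (Subgroup.zpowers a : Set G)) ^ 2 := by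
  set f := commHom V hV a ha hq with hf
  have h1 : Nat.card f.ker * f.ker.index = Nat.card V := Subgroup.card_mul_index f.ker
  have h2 : f.ker.index = Nat.card f.range := Subgroup.index_ker f
  have h3 : Nat.card f.range ≤ Nat.card (CV V a) :=
    Nat.le_of_dvd Nat.card_pos (Subgroup.card_subgroup_dvd_card f.range)
  have h4 : Nat.card f.ker ≤ Nat.card (CV V a) := by
    -- injection ker f → CV
    have hmem : ∀ v : f.ker, ((v : V) : G) ∈ CV V a := by
      intro v
      refine ⟨(v : V).2, ?_⟩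
      have hk : f (v : V) = 1 := v.2
      have hk' : ⁅((v : V) : G), a⁆ = 1 := congrArg Subtype.val hk
      have hc : Commute ((v : V) : G) a := commutatorElement_eq_one_iff_commute.1 hk'
      show ((v : V) : G) ∈ Subgroup.centralizer (Subgroup.zpowers a : Set G)
      rw [Subgroup.mem_centralizer_iff]
      intro h hh
      obtain ⟨k, rfl⟩ := Subgroup.mem_zpowers_iff.1 hh
      exact ((hc.zpow_right k).eq).symm
    apply Nat.card_le_card_of_injective (fun v : f.ker => (⟨((v : V) : G), hmem v⟩ : CV V a))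
    intro v w hvw
    have : ((v : V) : G) = ((w : V) : G) := congrArg (fun x : CV V a => (x : G)) hvw
    exact Subtype.ext (Subtype.ext this)
  calc Nat.card V = Nat.card f.ker * Nat.card f.range := by rw [← h1, h2]
    _ ≤ Nat.card (CV V a) * Nat.card (CV V a) := Nat.mul_le_mul h4 h3
    _ = Nat.card (CV V a) ^ 2 := (pow_two _).symm

end Cfsg.Agent.S0591
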