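import Cfsg.Statements.S0592
import Mathlib
import Cfsg.Agent.Lib.H1.QuadPair

set_option autoImplicit false
open Cfsg

namespace Cfsg.Agent.S0592

/-- Two quadratically acting generators of a linear group that is not a p-group, with the p'-part of the order of their product dividing q - 1, give a homomorphism onto a subgroup of SL(2, q) that is not a p-group. -/
theorem result {K : Type*} [Field K] [Fintype K] {p : ℕ} [Fact p.Prime] [CharP K p] {W : Type*} [AddCommGroup W] [Module K W] [FiniteDimensional K W] [Finite W] [Nontrivial W] (H : Subgroup (W ≃ₗ[K] W)) (a b : W ≃ₗ[K] W) (hH : H = Subgroup.closure {a, b}) (ha : ∀ w : W, a (a w - w) = a w - w) (hb : ∀ w : W, b (b w - w) = b w - w) (hnp : ¬ IsPGroup p H) (hk : ∃ e k : ℕ, orderOf (a * b) = p ^ e * k ∧ k ∣ Fintype.card K - 1) : ∃ φ : H →* Matrix.SpecialLinearGroup (Fin 2) K, ¬ IsPGroup p φ.range := by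
  subst hH
  obtain ⟨e, k, hek, hkq⟩ := hk
  have haH : a ∈ Subgroup.closure ({a, b} : Set (W ≃ₗ[K] W)) := Subgroup.subset_closure (by simp)
  have hbH : b ∈ Subgroup.closure ({a, b} : Set (W ≃ₗ[K] W)) := Subgroup.subset_closure (by simp)
  have hgen : Subgroup.closure ({(⟨a, haH⟩ : Subgroup.closure ({a, b} : Set (W ≃ₗ[K] W))),
      ⟨b, hbH⟩} : Set (Subgroup.closure ({a, b} : Set (W ≃ₗ[K] W)))) = ⊤ := by
    apply Subgroup.map_injective (Subgroup.closure ({a, b} : Set (W ≃ₗ[K] W))).subtype_injective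
    rw [MonoidHom.map_closure, ← MonoidHom.range_eq_map, Subgroup.range_subtype,
      Set.image_insert_eq, Set.image_singleton]
    rfl
  have hpow : ((Subgroup.closure ({a, b} : Set (W ≃ₗ[K] W))).subtype
      ((⟨a, haH⟩ : Subgroup.closure ({a, b} : Set (W ≃ₗ[K] W))) * ⟨b, hbH⟩)) ^
      (p ^ e * (Fintype.card K - 1)) = 1 := by
    show (a * b) ^ (p ^ e * (Fintype.card K - 1)) = 1
    rw [← orderOf_dvd_iff_pow_eq_one, hek]
    exact mul_dvd_mul_left _ hkq
  have hnp' : ¬ Cfsg.Agent.Lib.H1.QuadPair.PImg p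
      (Subgroup.closure ({a, b} : Set (W ≃ₗ[K] W))).subtype := by
    intro h
    apply hnp
    intro g
    obtain ⟨j, hj⟩ := h g
    exact ⟨j, Subtype.ext (by simpa using hj)⟩
  obtain ⟨φ, hφ⟩ := Cfsg.Agent.Lib.H1.QuadPair.main_induction (p := p) hgen
    (Module.finrank K W) W (Subgroup.closure ({a, b} : Set (W ≃ₗ[K] W))).subtype rfl ha hb
    ⟨e, hpow⟩ hnp'
  exact ⟨φ, fun h => hφ ((Cfsg.Agent.Lib.H1.QuadPair.pImg_iff_range φ).mpr h)⟩

end Cfsg.Agent.S0592
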