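import Cfsg.Statements.S0593
import Mathlib
import Cfsg.Agent.Lib.H1.QuadMul

set_option autoImplicit false
open Cfsg

namespace Cfsg.Agent.S0593
open Cfsg.Agent.Lib.H1.QuadMul

/-- For odd p, a faithful group on an elementary abelian p-group generated by two quadratically acting elements is a p-group or has non-abelian Sylow 2-subgroups. -/
theorem result {G : Type*} [Group G] [Finite G] {p : ℕ} [Fact p.Prime] (hp : p ≠ 2) (V H : Subgroup G) (hV : Cfsg.IsElementaryAbelian p V) (hHV : H ≤ Subgroup.normalizer (V : Set G)) (hf : H ⊓ Subgroup.centralizer (V : Set G) = ⊥) (a b : G) (hab : H = Subgroup.closure {a, b}) (ha : ⁅⁅V, Subgroup.zpowers a⁆, Subgroup.zpowers a⁆ = ⊥) (hb : ⁅⁅V, Subgroup.zpowers b⁆, Subgroup.zpowers b⁆ = ⊥) (hnp : ¬ IsPGroup p H) (T : Sylow 2 H) : ¬ IsMulCommutative T := by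
  intro hT
  have haH : a ∈ H := by rw [hab]; exact Subgroup.subset_closure (by simp)
  have hbH : b ∈ H := by rw [hab]; exact Subgroup.subset_closure (by simp)
  haveI := isEA_of hV
  have hgen : Subgroup.closure ({⟨a, haH⟩, ⟨b, hbH⟩} : Set ↥H) = ⊤ := by
    have h1 : (Subgroup.closure ({⟨a, haH⟩, ⟨b, hbH⟩} : Set ↥H)).map H.subtype = H := by
      rw [MonoidHom.map_closure, Set.image_insert_eq, Set.image_singleton]
      exact hab.symm
    rw [eq_top_iff]
    intro x _
    have hx : (x : G) ∈ (Subgroup.closure ({⟨a, haH⟩, ⟨b, hbH⟩} : Set ↥H)).map H.subtype := by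
      rw [h1]; exact x.2
    obtain ⟨y, hy, hyx⟩ := hx
    have : y = x := Subtype.ext hyx
    rw [← this]; exact hy
  refine sylow_two_not_comm_mul hp (act V H hHV) (act_injective hHV hf) hgen
    (quadM_act hHV haH ha) (quadM_act hHV hbH hb) hnp T ?_
  intro x hx y hy
  have := hT.is_comm.comm ⟨x, hx⟩ ⟨y, hy⟩
  exact congrArg Subtype.val this

end Cfsg.Agent.S0593
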