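import Cfsg.Statements.S0594
import Mathlib
import Cfsg.Agent.Lib.H1.QuadMul

set_option autoImplicit false
open Cfsg

namespace Cfsg.Agent.S0594
open Cfsg.Agent.Lib.H1.QuadMul

/-- For odd p, two quadratic generators of a faithful group that is not a p-group, one of which acts nontrivially on a normal subgroup of order prime to p, force p = 3 and a section isomorphic to SL(2,3). -/
theorem result {G : Type*} [Group G] [Finite G] {p : ℕ} [Fact p.Prime] (hp : p ≠ 2) (V H : Subgroup G) (hV : Cfsg.IsElementaryAbelian p V) (hHV : H ≤ Subgroup.normalizer (V : Set G)) (hf : H ⊓ Subgroup.centralizer (V : Set G) = ⊥) (a b : G) (hab : H = Subgroup.closure {a, b}) (ha : ⁅⁅V, Subgroup.zpowers a⁆, Subgroup.zpowers a⁆ = ⊥) (hb : ⁅⁅V, Subgroup.zpowers b⁆, Subgroup.zpowers b⁆ = ⊥) (hnp : ¬ IsPGroup p H) (Q : Subgroup G) (hQH : Q ≤ H) (hQn : H ≤ Subgroup.normalizer (Q : Set G)) (hQ : (Nat.card Q).Coprime p) (hQa : ⁅Q, Subgroup.zpowers a⁆ ≠ ⊥) : p = 3 ∧ ∃ (K L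 : Subgroup G) (hL : (L.subgroupOf K).Normal), K ≤ H ∧ Nonempty ((K ⧸ L.subgroupOf K) ≃* Matrix.SpecialLinearGroup (Fin 2) (ZMod 3)) := by
  have haH : a ∈ H := by rw [hab]; exact Subgroup.subset_closure (by simp)
  have := isEA_of hV
  have hQ' : (Nat.card (Q.subgroupOf H)).Coprime p := by
    rw [Nat.card_congr (Subgroup.subgroupOfEquivOfLe hQH).toEquiv]; exact hQ
  have haQ : (⟨a, haH⟩ : H) ∈ Subgroup.normalizer ((Q.subgroupOf H : Subgroup H) : Set H) := by
    rw [Subgroup.mem_normalizer_iff]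
    intro x
    rw [Subgroup.mem_subgroupOf, Subgroup.mem_subgroupOf]
    exact Subgroup.mem_normalizer_iff.mp (hQn haH) x
  have hnt : ¬ ∀ x ∈ Q.subgroupOf H, (⟨a, haH⟩ : H) * x = x * ⟨a, haH⟩ := by
    intro h
    apply hQa
    rw [Subgroup.commutator_comm, Subgroup.commutator_eq_bot_iff_le_centralizer,
      Subgroup.zpowers_le, Subgroup.mem_centralizer_iff]
    intro x hx
    have := h ⟨x, hQH hx⟩ (by rw [Subgroup.mem_subgroupOf]; exact hx)
    exact (congrArg Subtype.val this).symm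
  obtain ⟨h3, X, ψ, _, hψ⟩ := sl23_section_mul hp (act V H hHV) (act_injective hHV hf)
    (quadM_act hHV haH ha) (Q.subgroupOf H) hQ' haQ hnt
  exact ⟨h3, section_of_surj H X ψ hψ⟩

end Cfsg.Agent.S0594
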