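import Cfsg.Statements.S0597
-- import your own Cfsg.Agent.* helpers here
import Cfsg.Agent.Lib.H3.SubnormalP
import Mathlib

set_option autoImplicit false
open Cfsg

namespace Cfsg.Agent.S0597

open scoped commutatorElement

theorem pow_mul_eq {G : Type*} [Group G] (x v w : G) (hxw : x * w = w * x)
    (hw : x * v = w * v * x) (k : ℕ) : x ^ k * v = w ^ k * v * x ^ k := by
  induction k with
  | zero => simp
  | succ k ih =>
    have hxwk : x * w ^ k = w ^ k * x := by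
      have : Commute x w := hxw
      exact (this.pow_right k)
    calc x ^ (k + 1) * v = x * (x ^ k * v) := by rw [pow_succ']; group
      _ = x * (w ^ k * v * x ^ k) := by rw [ih]
      _ = (x * w ^ k) * v * x ^ k := by group
      _ = w ^ k * (x * v) * x ^ k := by rw [hxwk]; group
      _ = w ^ k * (w * v * x) * x ^ k := by rw [hw]
      _ = w ^ (k + 1) * v * x ^ (k + 1) := by rw [pow_succ, pow_succ']; group

/-- If two subnormal subgroups of a faithful group on an elementary abelian p-group satisfy [V, E₁, E₂] = 1, then their commutator lies in the largest normal p-subgroup. -/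
theorem result {G : Type*} [Group G] [Finite G] {p : ℕ} [Fact p.Prime] (V H : Subgroup G) (hV : Cfsg.IsElementaryAbelian p V) (hHV : H ≤ Subgroup.normalizer (V : Set G)) (hf : H ⊓ Subgroup.centralizer (V : Set G) = ⊥) (E₁ E₂ : Subgroup G) (h₁ : E₁ ≤ H) (h₂ : E₂ ≤ H) (hs₁ : (E₁.subgroupOf H).IsSubnormal) (hs₂ : (E₂.subgroupOf H).IsSubnormal) (hc : ⁅⁅V, E₁⁆, E₂⁆ = ⊥) : ⁅E₁, E₂⁆ ≤ (Cfsg.pCore p H).map H.subtype := by
  classical
  have hp : p.Prime := Fact.out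
  set W : Subgroup G := ⁅V, E₁⁆ with hW
  have hE₁V : E₁ ≤ Subgroup.normalizer (V : Set G) := h₁.trans hHV
  have hE₂V : E₂ ≤ Subgroup.normalizer (V : Set G) := h₂.trans hHV
  have hconjV : ∀ e, e ∈ Subgroup.normalizer (V : Set G) → ∀ v ∈ V, e * v * e⁻¹ ∈ V :=
    fun e he v hv => (Subgroup.mem_normalizer_iff.1 he v).1 hv
  have hconjV' : ∀ e, e ∈ Subgroup.normalizer (V : Set G) → ∀ v ∈ V, e⁻¹ * v * e ∈ V := by
    intro e he v hv
    have := hconjV e⁻¹ (Subgroup.inv_mem _ he) v hv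
    simpa using this
  have hWV : W ≤ V := by
    rw [hW, Subgroup.commutator_le]
    intro v hv e he
    have h1 : ⁅v, e⁆ = v * (e * v⁻¹ * e⁻¹) := by rw [commutatorElement_def]; group
    rw [h1]
    exact V.mul_mem hv (hconjV e (hE₁V he) _ (V.inv_mem hv))
  have hE₂W : ∀ e ∈ E₂, ∀ w ∈ W, e * w = w * e := by
    intro e he w hw
    have h1 : ⁅w, e⁆ ∈ ⁅W, E₂⁆ := Subgroup.commutator_mem_commutator hw he
    rw [hc, Subgroup.mem_bot, commutatorElement_eq_one_iff_mul_comm] at h1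
    exact h1.symm
  have hE₁N : E₁ ≤ Subgroup.normalizer (W : Set G) :=
    le_sup_right.trans (Cfsg.Agent.Lib.H3.sup_le_normalizer_commutator V E₁)
  have hE₁W : ∀ e ∈ E₁, ∀ w ∈ W, e * w * e⁻¹ ∈ W :=
    fun e he w hw => (Subgroup.mem_normalizer_iff.1 (hE₁N he) w).1 hw
  have hE₁W' : ∀ e ∈ E₁, ∀ w ∈ W, e⁻¹ * w * e ∈ W := by
    intro e he w hw
    have := hE₁W e⁻¹ (E₁.inv_mem he) w hw
    simpa using this
  have hcomm1 : ∀ e ∈ E₁, ∀ v ∈ V, e * v * e⁻¹ * v⁻¹ ∈ W := by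
    intro e he v hv
    have h1 : ⁅e, v⁆ ∈ ⁅E₁, V⁆ := Subgroup.commutator_mem_commutator he hv
    rw [Subgroup.commutator_comm, ← hW] at h1
    rwa [commutatorElement_def] at h1
  -- the stabilizer of the chain V ≥ W ≥ 1
  let T : Subgroup G :=
    { carrier := {x | (∀ w ∈ W, x * w = w * x) ∧ ∀ v ∈ V, x * v * x⁻¹ * v⁻¹ ∈ W}
      one_mem' := ⟨fun w _ => by simp, fun v _ => by simp [W.one_mem]⟩
      mul_mem' := by
        rintro x y ⟨hx1, hx2⟩ ⟨hy1, hy2⟩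
        refine ⟨fun w hw => ?_, fun v hv => ?_⟩
        · calc x * y * w = x * (y * w) := by group
            _ = x * (w * y) := by rw [hy1 w hw]
            _ = (x * w) * y := by group
            _ = w * (x * y) := by rw [hx1 w hw]; group
        · have h1 := hy2 v hv
          have h2 := hx2 v hv
          have h3 := hx1 _ h1
          have e1 : x * y * v * (x * y)⁻¹ * v⁻¹ =
              (x * (y * v * y⁻¹ * v⁻¹)) * x⁻¹ * (x * v * x⁻¹ * v⁻¹) := by group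
          rw [e1, h3]
          have e2 : y * v * y⁻¹ * v⁻¹ * x * x⁻¹ * (x * v * x⁻¹ * v⁻¹) =
              (y * v * y⁻¹ * v⁻¹) * (x * v * x⁻¹ * v⁻¹) := by group
          rw [e2]
          exact W.mul_mem h1 h2
      inv_mem' := by
        rintro x ⟨hx1, hx2⟩
        have hx1' : ∀ w ∈ W, x⁻¹ * w = w * x⁻¹ := by
          intro w hw
          have := hx1 w hw
          calc x⁻¹ * w = x⁻¹ * (w * x) * x⁻¹ := by group
            _ = x⁻¹ * (x * w) * x⁻¹ := by rw [this]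
            _ = w * x⁻¹ := by group
        refine ⟨hx1', fun v hv => ?_⟩
        have h2 := hx2 v hv
        have h3 := hx1' _ h2
        have e1 : x⁻¹ * v * x⁻¹⁻¹ * v⁻¹ = x⁻¹ * (x * v * x⁻¹ * v⁻¹)⁻¹ * x := by group
        rw [e1]
        have h4 : x⁻¹ * (x * v * x⁻¹ * v⁻¹)⁻¹ = (x * v * x⁻¹ * v⁻¹)⁻¹ * x⁻¹ := by
          have := hx1' _ (W.inv_mem h2)
          exact this
        rw [h4]
        have e2 : (x * v * x⁻¹ * v⁻¹)⁻¹ * x⁻¹ * x = (x * v * x⁻¹ * v⁻¹)⁻¹ := by group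
        rw [e2]
        exact W.inv_mem h2 }
  have hXT : ⁅E₁, E₂⁆ ≤ T := by
    rw [Subgroup.commutator_le]
    intro e₁ he₁ e₂ he₂
    refine ⟨fun w hw => ?_, fun v hv => ?_⟩
    · -- centralizes W
      have hw' : e₁⁻¹ * w * e₁ ∈ W := hE₁W' e₁ he₁ w hw
      have h1 := hE₂W e₂ he₂ _ hw'
      have h2 := hE₂W e₂ he₂ w hw
      have h2' : e₂⁻¹ * w = w * e₂⁻¹ := by
        calc e₂⁻¹ * w = e₂⁻¹ * (w * e₂) * e₂⁻¹ := by group
          _ = e₂⁻¹ * (e₂ * w) * e₂⁻¹ := by rw [h2]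
          _ = w * e₂⁻¹ := by group
      rw [commutatorElement_def]
      calc e₁ * e₂ * e₁⁻¹ * e₂⁻¹ * w = e₁ * e₂ * e₁⁻¹ * (e₂⁻¹ * w) := by group
        _ = e₁ * e₂ * e₁⁻¹ * (w * e₂⁻¹) := by rw [h2']
        _ = e₁ * (e₂ * (e₁⁻¹ * w * e₁)) * e₁⁻¹ * e₂⁻¹ := by group
        _ = e₁ * ((e₁⁻¹ * w * e₁) * e₂) * e₁⁻¹ * e₂⁻¹ := by rw [h1]
        _ = w * (e₁ * e₂ * e₁⁻¹ * e₂⁻¹) := by group
    · -- acts trivially on V / W
      have hv' : e₂⁻¹ * v * e₂ ∈ V := hconjV' e₂ (hE₂V he₂) v hv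
      have h1 : e₁⁻¹ * (e₂⁻¹ * v * e₂) * e₁⁻¹⁻¹ * (e₂⁻¹ * v * e₂)⁻¹ ∈ W :=
        hcomm1 e₁⁻¹ (E₁.inv_mem he₁) _ hv'
      have h2 := hE₂W e₂ he₂ _ h1
      have h3 : e₂ * (e₁⁻¹ * (e₂⁻¹ * v * e₂) * e₁⁻¹⁻¹ * (e₂⁻¹ * v * e₂)⁻¹) * e₂⁻¹ ∈ W := by
        rw [h2]
        have e0 : e₁⁻¹ * (e₂⁻¹ * v * e₂) * e₁⁻¹⁻¹ * (e₂⁻¹ * v * e₂)⁻¹ * e₂ * e₂⁻¹ =
            e₁⁻¹ * (e₂⁻¹ * v * e₂) * e₁⁻¹⁻¹ * (e₂⁻¹ * v * e₂)⁻¹ := by group
        rw [e0]; exact h1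
      have h4 := hE₁W e₁ he₁ _ h3
      have h5 := hcomm1 e₁ he₁ v hv
      have e1 : ⁅e₁, e₂⁆ * v * ⁅e₁, e₂⁆⁻¹ * v⁻¹ =
          (e₁ * (e₂ * (e₁⁻¹ * (e₂⁻¹ * v * e₂) * e₁⁻¹⁻¹ * (e₂⁻¹ * v * e₂)⁻¹) * e₂⁻¹) * e₁⁻¹) *
            (e₁ * v * e₁⁻¹ * v⁻¹) := by
        rw [commutatorElement_def]; group
      rw [e1]
      exact W.mul_mem h4 h5
  have hXH : ⁅E₁, E₂⁆ ≤ H :=
    (Cfsg.Agent.Lib.H3.commutator_le_sup E₁ E₂).trans (sup_le h₁ h₂)
  have hXp : ∀ x ∈ ⁅E₁, E₂⁆, x ^ p = 1 := by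
    intro x hx
    obtain ⟨hx1, hx2⟩ := hXT hx
    have hcen : x ^ p ∈ Subgroup.centralizer (V : Set G) := by
      rw [Subgroup.mem_centralizer_iff]
      intro v hv
      have hw := hx2 v hv
      have hxv : x * v = (x * v * x⁻¹ * v⁻¹) * v * x := by group
      have h1 := pow_mul_eq x v _ (hx1 _ hw) hxv p
      rw [hV.2 _ (hWV hw), one_mul] at h1
      exact h1.symm
    have h2 : x ^ p ∈ H ⊓ Subgroup.centralizer (V : Set G) := ⟨H.pow_mem (hXH hx) p, hcen⟩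
    rw [hf, Subgroup.mem_bot] at h2
    exact h2
  set X' : Subgroup H := ⁅E₁.subgroupOf H, E₂.subgroupOf H⁆ with hX'
  have hmap : X'.map H.subtype = ⁅E₁, E₂⁆ := by
    rw [hX', Subgroup.map_commutator, Subgroup.map_subgroupOf_eq_of_le h₁,
      Subgroup.map_subgroupOf_eq_of_le h₂]
  have hX'p : IsPGroup p X' := by
    intro y
    refine ⟨1, ?_⟩
    rw [pow_one]
    apply Subtype.ext
    apply Subtype.ext
    have hy : ((y : H) : G) ∈ ⁅E₁, E₂⁆ := by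
      rw [← hmap]; exact Subgroup.mem_map_of_mem _ y.2
    have := hXp _ hy
    simpa using this
  have hX'sn : X'.IsSubnormal := Cfsg.Agent.Lib.H3.isSubnormal_commutator hs₁ hs₂
  have hle := Cfsg.Agent.Lib.H3.isSubnormal_isPGroup_le_pCore hX'sn hX'p
  rw [← hmap]
  exact Subgroup.map_mono hle

end Cfsg.Agent.S0597
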