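import Cfsg.Statements.S0599
-- import your own Cfsg.Agent.* helpers here
import Mathlib
import Cfsg.Agent.Lib.H16.Replacement

set_option autoImplicit false
open Cfsg

namespace Cfsg.Agent.S0599

open Cfsg.Agent.Lib.H16

/-- The Timmesfeld replacement Theorem: replacing a best offender A by C_A([U, A]) gives a best offender with fixed points [U, A]C_V(A), still nontrivial on V if A was. -/
theorem result {G : Type*} [Group G] [Finite G] {p : ℕ} [Fact p.Prime] (V A : Subgroup G) (hV : Cfsg.IsElementaryAbelian p V) (hAV : A ≤ Subgroup.normalizer (V : Set G)) (hA : Cfsg.IsBestOffenderOn p V A) (U : Subgroup G) (hU : U ≤ V) : Cfsg.IsBestOffenderOn p V (A ⊓ Subgroup.centralizer ((⁅U, A⁆ : Subgroup G) : Set G)) ∧ V ⊓ Subgroup.centralizer ((A ⊓ Subgroup.centralizer ((⁅U, A⁆ : Subgroup G) : Set G) : Subgroup G) : Set G) = ⁅U, A⁆ ⊔ (V ⊓ Subgroup.centralizer (A : Set G)) ∧ (⁅V, A⁆ ≠ ⊥ → ⁅V, A ⊓ Subgroup.centralizer ((⁅U, A⁆ : Subgroup G) : Set G)⁆ ≠ ⊥) :=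 by
  obtain ⟨hmax, hab, hpow⟩ := hA
  have hVc := comm_of_elemAb hV
  obtain ⟨h1, h2⟩ := replacement_main hVc hAV hab hmax hU
  refine ⟨⟨fun B' hB' => (hmax B' (hB'.trans inf_le_left)).trans (le_of_eq h2),
    (Subgroup.commutator_mono inf_le_left inf_le_left).trans hab, fun a ha => hpow a ha.1⟩, h1, ?_⟩
  intro hne hbot
  apply hne
  have hcen := Subgroup.commutator_eq_bot_iff_le_centralizer.1 hbot
  have hfix : V ≤ ⁅U, A⁆ ⊔ cfix V A := by
    rw [← h1]
    exact le_inf le_rfl hcen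
  exact commutator_eq_bot_of_replacement_trivial hV hAV hpow hU hfix

end Cfsg.Agent.S0599
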