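import Cfsg.Statements.S0605
import Cfsg.Agent.Lib.H3.Thompson
import Mathlib

set_option autoImplicit false
open Cfsg

namespace Cfsg.Agent.S0605

open Cfsg.Agent.Lib.H3

/-- Elements of order p in the centralizer of the Thompson subgroup belong to the Thompson subgroup (so to its centre). -/
theorem result {G : Type*} [Group G] [Finite G] {p : ℕ} [Fact p.Prime] (x : G) (hx : x ∈ Subgroup.centralizer (Cfsg.thompsonSubgroup p G : Set G)) (ho : orderOf x = p) : x ∈ Cfsg.thompsonSubgroup p G := by
  obtain ⟨A, hA⟩ := exists_maxElemAb (G := G) p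
  have hxp : x ^ p = 1 := by rw [← ho]; exact pow_orderOf_eq_one x
  have hZ := elemAb_zpowers hxp
  have hcent : Subgroup.zpowers x ≤ Subgroup.centralizer (A : Set G) := by
    rw [Subgroup.zpowers_le]
    exact Subgroup.centralizer_le (le_thompson hA) hx
  have hsup := elemAb_sup hA.1 hZ hcent
  have := eq_of_maxElemAb_le hA hsup le_sup_left
  have hxA : x ∈ A := by
    rw [this]
    exact (le_sup_right : Subgroup.zpowers x ≤ A ⊔ Subgroup.zpowers x) (Subgroup.mem_zpowers x)
  exact le_thompson hA hxA

end Cfsg.Agent.S0605
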