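import Cfsg.Statements.S0609
import Mathlib
import Cfsg.Agent.Lib.L0.ThompsonJ
import Cfsg.Agent.Lib.L0.ThompsonNPC
import Cfsg.Agent.Lib.H7.CoprimeQuot
import Cfsg.Agent.Lib.H9.PPrimeCore
import Cfsg.Agent.Lib.H22.PPrimeCore

set_option autoImplicit false
open Cfsg

namespace Cfsg.Agent.S0609


theorem omegaOne_le {X : Type*} [Group X] (p : ℕ) (T : Subgroup X) : Cfsg.omegaOne p T ≤ T := by
  unfold Cfsg.omegaOne
  rw [Subgroup.closure_le]
  rintro x ⟨hx, -⟩
  exact hx

theorem omegaOne_map {X Y : Type*} [Group X] [Group Y] (p : ℕ) (f : X →* Y) (T : Subgroup X)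
    (hf : Set.InjOn f (T : Set X)) :
    Cfsg.omegaOne p (T.map f) = (Cfsg.omegaOne p T).map f := by
  unfold Cfsg.omegaOne
  rw [MonoidHom.map_closure]
  congr 1
  ext y
  constructor
  · rintro ⟨⟨x, hx, rfl⟩, hy⟩
    refine ⟨x, ⟨hx, ?_⟩, rfl⟩
    apply hf (T.pow_mem hx p) T.one_mem
    rw [map_pow, hy, map_one]
  · rintro ⟨x, ⟨hx, hxp⟩, rfl⟩
    exact ⟨⟨x, hx, rfl⟩, by rw [← map_pow, hxp, map_one]⟩

/-- Thompson factorizability passes to and from the quotient by the largest normal subgroup of order prime to p. -/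
theorem result {G : Type*} [Group G] [Finite G] {p : ℕ} [Fact p.Prime] : Cfsg.IsThompsonFactorizable p G ↔ Cfsg.IsThompsonFactorizable p (G ⧸ Cfsg.pPrimeCore p G) := by
  classical
  set K := Cfsg.pPrimeCore p G with hK
  have hKcop : (Nat.card K).Coprime p := Cfsg.Agent.Lib.H22.card_pPrimeCore_coprime p
  have hπsurj : Function.Surjective (QuotientGroup.mk' K) := QuotientGroup.mk'_surjective K
  have hObar : Cfsg.pPrimeCore p (G ⧸ K) = ⊥ := Cfsg.Agent.Lib.H9.pPrimeCore_quotient_eq_bot p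
  -- the two key identities
  have key : ∀ S : Sylow p G,
      Subgroup.centralizer
          (Cfsg.omegaOne p (((S.mapSurjective hπsurj : Sylow p (G ⧸ K)) : Subgroup (G ⧸ K)) ⊓
            Subgroup.centralizer (((S.mapSurjective hπsurj : Sylow p (G ⧸ K)) : Subgroup (G ⧸ K)) :
              Set (G ⧸ K))) : Set (G ⧸ K)) =
        (Subgroup.centralizer
          (Cfsg.omegaOne p ((S : Subgroup G) ⊓ Subgroup.centralizer ((S : Subgroup G) : Set G)) :
            Set G)).map (QuotientGroup.mk' K) ∧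
      Subgroup.normalizer
          (Cfsg.thompsonSubgroupOf p ((S.mapSurjective hπsurj : Sylow p (G ⧸ K)) : Subgroup (G ⧸ K)) :
            Set (G ⧸ K)) =
        (Subgroup.normalizer (Cfsg.thompsonSubgroupOf p (S : Subgroup G) : Set G)).map
          (QuotientGroup.mk' K) := by
    intro S
    have hSp : IsPGroup p (S : Subgroup G) := S.isPGroup'
    have hinj := Cfsg.Agent.Lib.L0.injOn_mk_of_coprime K hKcop (S : Subgroup G) hSp
    rw [Sylow.coe_mapSurjective]
    constructor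
    · have hz := Cfsg.Agent.Lib.L0.zOf_map (QuotientGroup.mk' K) (S : Subgroup G) hinj
      unfold Cfsg.Agent.Lib.L0.zOf at hz
      rw [hz]
      have hinj2 : Set.InjOn (QuotientGroup.mk' K)
          (((S : Subgroup G) ⊓ Subgroup.centralizer ((S : Subgroup G) : Set G) : Subgroup G) :
            Set G) := hinj.mono (fun x hx => hx.1)
      rw [omegaOne_map p _ _ hinj2]
      have hΩp : IsPGroup p (Cfsg.omegaOne p
          ((S : Subgroup G) ⊓ Subgroup.centralizer ((S : Subgroup G) : Set G))) :=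
        hSp.to_le ((omegaOne_le p _).trans inf_le_left)
      exact (Cfsg.Agent.Lib.H7.map_centralizer_of_coprime p hKcop hΩp).symm
    · rw [Cfsg.Agent.Lib.L0.thompsonSubgroupOf_map p _ _ hinj]
      have hJp : IsPGroup p (Cfsg.thompsonSubgroupOf p (S : Subgroup G)) :=
        hSp.to_le (Cfsg.Agent.Lib.L0.thompsonSubgroupOf_le' p _)
      exact (Cfsg.Agent.Lib.H7.map_normalizer_of_coprime p hKcop hJp).symm
  constructor
  · intro hfac Sb gb
    obtain ⟨S, rfl⟩ := Sylow.mapSurjective_surjective hπsurj p Sb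
    obtain ⟨g, rfl⟩ := hπsurj gb
    obtain ⟨x, hx, c, hc, n, hn, hg⟩ := hfac S g
    obtain ⟨k1, k2⟩ := key S
    refine ⟨1, Subgroup.one_mem _, QuotientGroup.mk' K c, ?_, QuotientGroup.mk' K n, ?_, ?_⟩
    · rw [k1]; exact ⟨c, hc, rfl⟩
    · rw [k2]; exact ⟨n, hn, rfl⟩
    · rw [hg, map_mul, map_mul, one_mul]
      have : QuotientGroup.mk' K x = 1 := (QuotientGroup.eq_one_iff x).2 hx
      rw [this, one_mul]
  · intro hfac S g
    obtain ⟨xb, hxb, cb, hcb, nb, hnb, hg⟩ := hfac (S.mapSurjective hπsurj) (QuotientGroup.mk' K g)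
    obtain ⟨k1, k2⟩ := key S
    rw [hObar, Subgroup.mem_bot] at hxb
    rw [k1] at hcb
    rw [k2] at hnb
    obtain ⟨c, hc, rfl⟩ := hcb
    obtain ⟨n, hn, rfl⟩ := hnb
    refine ⟨g * (c * n)⁻¹, ?_, c, hc, n, hn, by group⟩
    rw [← QuotientGroup.eq_one_iff, ← QuotientGroup.mk'_apply, map_mul, map_inv, hg, hxb, one_mul,
      ← map_mul, mul_inv_cancel]

end Cfsg.Agent.S0609
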