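import Cfsg.Statements.S0613
-- import your own Cfsg.Agent.* helpers here
import Cfsg.Agent.Lib.H3.OffenderPair
import Cfsg.Agent.Lib.H3.OffenderSL2c
import Mathlib

set_option autoImplicit false
open Cfsg

namespace Cfsg.Agent.S0613
open scoped commutatorElement

/-- A minimal nontrivially-acting best offender and a conjugate of it under a non-centralizing element of the p'-core generate SL(2, p) acting naturally on a plane, and p is 2 or 3. -/
theorem result {G : Type*} [Group G] [Finite G] {p : ℕ} [Fact p.Prime] (V H : Subgroup G) (hV : Cfsg.IsElementaryAbelian p V) (hHV : H ≤ Subgroup.normalizer (V : Set G)) (hf : H ⊓ Subgroup.centralizer (V : Set G) = ⊥) (hS1 : Subgroup.centralizer (Cfsg.pPrimeCore p ↥H : Set ↥H) ≤ Cfsg.pPrimeCore p ↥H) (hS3 : H = ⨆ A : {A : Subgroup G // A ≤ H ∧ Cfsg.IsBestOffenderOn p V A}, (A : Subgroup G)) (hH1 : H ≠ ⊥) (A : Subgroup G) (hAH : A ≤ H) (hA : Cfsg.IsBestOffenderOn p V A) (hAV : ⁅V,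 A⁆ ≠ ⊥) (hmin : ∀ B : Subgroup G, B ≤ A → Cfsg.IsBestOffenderOn p V B → ⁅V, B⁆ ≠ ⊥ → B = A) (x : G) (hx : x ∈ ((Cfsg.pPrimeCore p ↥H).map H.subtype)) (hxA : x ∉ Subgroup.centralizer (A : Set G)) : (p = 2 ∨ p = 3) ∧ Nat.card ↥(⁅V, A ⊔ A.map (MulAut.conj x).toMonoidHom⁆) = p ^ 2 ∧ (A ⊔ A.map (MulAut.conj x).toMonoidHom) ⊓ Subgroup.centralizer ((⁅V, A ⊔ A.map (MulAut.conj x).toMonoidHom⁆ : Subgroup G) : Set G) = ⊥ ∧ Nonempty (↥(A ⊔ A.map (MulAut.conj x).toMonoidHom) ≃* Matrix.SpecialLinearGroup (Fin 2) (ZMod p)) := by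
  have h := Cfsg.Agent.Lib.H3.ffs_of_hyps hV hHV hf hS1
  have hAc : Nat.card A = p := (h.minimal_offender hAH hA hAV hmin).1
  obtain ⟨h1, h2, h3, h4⟩ := h.pair_structure hAH hA hAc hx hxA
  set A' := A.map (MulAut.conj x).toMonoidHom with hA'
  set L := A ⊔ A' with hL
  have hxH : x ∈ H := h.hQH hx
  have hA'H : A' ≤ H := by
    rintro _ ⟨y, hy, rfl⟩
    simp only [MulEquiv.coe_toMonoidHom, MulAut.conj_apply]
    exact H.mul_mem (H.mul_mem hxH (hAH hy)) (H.inv_mem hxH)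
  have hLH : L ≤ H := sup_le hAH hA'H
  have hLV : L ≤ Subgroup.normalizer (V : Set G) := hLH.trans hHV
  have hWV : ⁅V, L⁆ ≤ V := (Subgroup.le_normalizer_iff_commutator_le_left).mp hLV
  have hLW : L ≤ Subgroup.normalizer ((⁅V, L⁆ : Subgroup G) : Set G) :=
    Cfsg.Agent.Lib.H3.le_normalizer_commutator' hLV Subgroup.le_normalizer
  have hA'c : Nat.card A' = p := by
    rw [← hAc]
    exact (Nat.card_congr (Subgroup.equivMapOfInjective A _ (MulAut.conj x).injective).toEquiv).symm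
  have hiso := Cfsg.Agent.Lib.H3.exists_mulEquiv_SL2 (p := p)
    (fun a ha b hb => h.comm_V a (hWV ha) b (hWV hb)) (fun a ha => hV.2 a (hWV ha)) h1 hLW h2 rfl
    hAc hA'c h3
  refine ⟨?_, h1, h2, hiso⟩
  obtain ⟨e⟩ := hiso
  refine Cfsg.Agent.Lib.H3.prime_le_three_of_SL2 e
    (((Cfsg.pPrimeCore p ↥H).map H.subtype).subgroupOf L) ?_ ?_
  · intro g hg hgp
    rw [Subgroup.mem_subgroupOf] at hg
    have hgp' : (g : G) ^ p = 1 := by
      have := congrArg Subtype.val hgp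
      simpa using this
    have h5 : orderOf (g : G) ∣ p := orderOf_dvd_of_pow_eq_one hgp'
    have h6 : orderOf (g : G) ∣ Nat.card ((Cfsg.pPrimeCore p ↥H).map H.subtype) := by
      have := orderOf_dvd_natCard (⟨(g : G), hg⟩ : ((Cfsg.pPrimeCore p ↥H).map H.subtype))
      rwa [Subgroup.orderOf_mk] at this
    have h7 : orderOf (g : G) ∣ 1 := by
      have := Nat.dvd_gcd h6 h5
      rwa [Nat.Coprime.gcd_eq_one h.hQp] at this
    exact Subtype.ext (orderOf_eq_one_iff.1 (Nat.dvd_one.1 h7))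
  · intro g g'
    rw [Subgroup.mem_subgroupOf]
    have := h4 g g.2 g' g'.2
    have e : ((⁅g, g'⁆ : ↥L) : G) = ⁅(g : G), (g' : G)⁆ := by
      rw [commutatorElement_def, commutatorElement_def]; simp
    rw [e]
    exact this

end Cfsg.Agent.S0613
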