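import Cfsg.Statements.S0614
-- import your own Cfsg.Agent.* helpers here
import Cfsg.Agent.Lib.H3.OffenderE11
import Mathlib

set_option autoImplicit false
open Cfsg

namespace Cfsg.Agent.S0614
open scoped commutatorElement

open Matrix in
/-- an element of order 4 in `SL₂(3)` -/
def iSL : Matrix.SpecialLinearGroup (Fin 2) (ZMod 3) := ⟨!![0, -1; 1, 0], by decide⟩

open Matrix in
/-- another element of order 4 in `SL₂(3)` -/
def jSL : Matrix.SpecialLinearGroup (Fin 2) (ZMod 3) := ⟨!![1, 1; 1, -1], by decide⟩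

theorem iSL_pow : iSL ^ 4 = 1 := by decide
theorem jSL_pow : jSL ^ 4 = 1 := by decide
theorem iSL_jSL : iSL * jSL ≠ jSL * iSL := by decide

/-- The commutator of the p'-core with a minimal nontrivially-acting best offender is a 3-group (when p = 2) or a non-abelian 2-group (when p = 3). -/
theorem result {G : Type*} [Group G] [Finite G] {p : ℕ} [Fact p.Prime] (V H : Subgroup G) (hV : Cfsg.IsElementaryAbelian p V) (hHV : H ≤ Subgroup.normalizer (V : Set G)) (hf : H ⊓ Subgroup.centralizer (V : Set G) = ⊥) (hS1 : Subgroup.centralizer (Cfsg.pPrimeCore p ↥H : Set ↥H) ≤ Cfsg.pPrimeCore p ↥H) (hS3 : H = ⨆ A : {A : Subgroup G // A ≤ H ∧ Cfsg.IsBestOffenderOn p V A}, (A : Subgroup G)) (hH1 : H ≠ ⊥) (A : Subgroup G) (hAH : A ≤ H) (hA : Cfsg.IsBestOffenderOn p V A) (hAV : ⁅V, A⁆ ≠ ⊥) (hmin : ∀ B : Subgroup G, B ≤ A → Cfsg.IsBestOffenderOn p V B → ⁅V, B⁆ ≠ ⊥ → B = A) : (p = 2 ∧ IsPGroup 3 ↥(⁅((Cfsg.pPrimeCore p ↥H).map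 H.subtype), A⁆)) ∨ (p = 3 ∧ IsPGroup 2 ↥(⁅((Cfsg.pPrimeCore p ↥H).map H.subtype), A⁆) ∧ ¬ IsMulCommutative ↥(⁅((Cfsg.pPrimeCore p ↥H).map H.subtype), A⁆)) := by
  have h := Cfsg.Agent.Lib.H3.ffs_of_hyps hV hHV hf hS1
  have hAc : Nat.card A = p := (h.minimal_offender hAH hA hAV hmin).1
  have mA : Cfsg.Agent.Lib.H3.MO p V H A := ⟨hAH, hA, hAc⟩
  obtain ⟨hp23, ⟨e⟩⟩ := h.E_iso mA
  have hcard := h.card_comm_Q mA
  rcases hp23 with rfl | rfl
  · left
    exact ⟨rfl, IsPGroup.of_card (n := 1) (by rw [hcard]; norm_num)⟩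
  · right
    refine ⟨rfl, IsPGroup.of_card (n := 3) (by rw [hcard]; norm_num), ?_⟩
    intro hc
    have key : ∀ s : Matrix.SpecialLinearGroup (Fin 2) (ZMod 3), s ^ 4 = 1 →
        ((e.symm s : ↥(⁅((Cfsg.pPrimeCore 3 ↥H).map H.subtype), A⁆ ⊔ A)) : G) ∈
          ⁅((Cfsg.pPrimeCore 3 ↥H).map H.subtype), A⁆ := by
      intro s hs
      apply h.mem_comm_of_pow mA (e.symm s).2 (n := 4) (by norm_num)
      have h1 : (e.symm s) ^ 4 = 1 := by rw [← map_pow, hs, map_one]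
      have h2 := congrArg Subtype.val h1
      simpa using h2
    have h1 := hc.is_comm.comm
      (⟨_, key iSL iSL_pow⟩ : ↥(⁅((Cfsg.pPrimeCore 3 ↥H).map H.subtype), A⁆))
      ⟨_, key jSL jSL_pow⟩
    have h2 := congrArg Subtype.val h1
    have h3 : e.symm iSL * e.symm jSL = e.symm jSL * e.symm iSL := Subtype.ext (by simpa using h2)
    rw [← map_mul, ← map_mul] at h3
    exact iSL_jSL (e.symm.injective h3)

end Cfsg.Agent.S0614
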