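import Cfsg.Statements.S0620
-- import your own Cfsg.Agent.* helpers here
import Cfsg.Agent.Lib.H3.Hol11
import Cfsg.Agent.Lib.H3.Frat
import Cfsg.Agent.S0600
import Cfsg.Agent.S0601
import Cfsg.Agent.Lib.H10.PSolvable
import Mathlib

set_option autoImplicit false
open Cfsg

namespace Cfsg.Agent.S0620

/-- Under coprime action of an elementary abelian q-group X on a p-separable group K with trivial p'-core, K is generated by the normalizer of J(S), the centralizer of Ω₁(Z(S)) and the fixed points of X. -/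
theorem result {G : Type*} [Group G] [Finite G] {p : ℕ} [Fact p.Prime] {q : ℕ} [Fact q.Prime] (K X : Subgroup G) (hXK : X ≤ Subgroup.normalizer (K : Set G)) (hX : Cfsg.IsElementaryAbelian q X) (hq : ¬ q ∣ Nat.card K) (hsep : Cfsg.IsPSolvable p ↥K) (hO : Cfsg.pPrimeCore p ↥K = ⊥) (S : Sylow p ↥K) : (Subgroup.normalizer (Cfsg.thompsonSubgroupOf p (S : Subgroup ↥K) : Set ↥K) ⊔ Subgroup.centralizer (Cfsg.omegaOne p ((S : Subgroup ↥K) ⊓ Subgroup.centralizer ((S : Subgroup ↥K) : Set ↥K)) : Set ↥K) ⊔ (Subgroup.centralizer (X : Set G)).subgroupOf K) = ⊤ := by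
  classical
  haveI : Finite ↥K := inferInstance
  have hc := Cfsg.Agent.Lib.H10.centralizer_pCore_le_of_isPSolvable p hsep hO
  obtain ⟨-, hWe, -⟩ := Cfsg.Agent.S0601.result hc
  haveI hVc : (⨆ S : Sylow p ↥K, Cfsg.omegaOne p ((S : Subgroup ↥K) ⊓
      Subgroup.centralizer ((S : Subgroup ↥K) : Set ↥K))).Characteristic :=
    Cfsg.Agent.Lib.H3.Hol.iSup_omegaZ_characteristic (H := ↥K) p
  have hgen : ∀ W : Subgroup ↥K, W = (⨆ S : Sylow p ↥K, Cfsg.omegaOne p ((S : Subgroup ↥K) ⊓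
      Subgroup.centralizer ((S : Subgroup ↥K) : Set ↥K))) →
      W = ⨆ S : Sylow p ↥K, W ⊓ Subgroup.centralizer ((S : Subgroup ↥K) : Set ↥K) := by
    intro W hW
    apply le_antisymm
    · conv_lhs => rw [hW]
      apply iSup_le
      intro S
      refine le_trans ?_ (le_iSup (fun S : Sylow p ↥K =>
        W ⊓ Subgroup.centralizer ((S : Subgroup ↥K) : Set ↥K)) S)
      refine le_inf ?_ (Cfsg.Agent.Lib.H3.omegaZ_le_centralizer p (S : Subgroup ↥K))
      rw [hW]
      exact le_iSup (fun S : Sylow p ↥K => Cfsg.omegaOne p ((S : Subgroup ↥K) ⊓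
        Subgroup.centralizer ((S : Subgroup ↥K) : Set ↥K))) S
    · exact iSup_le fun S => inf_le_left
  have hO' := Cfsg.Agent.S0600.result _ hWe (hgen _ rfl)
  have hXq : IsPGroup q X := Cfsg.Agent.Lib.H3.elemAb_isPGroup hX
  set V : Subgroup ↥K := ⨆ S : Sylow p ↥K, Cfsg.omegaOne p ((S : Subgroup ↥K) ⊓
      Subgroup.centralizer ((S : Subgroup ↥K) : Set ↥K)) with hV
  set M : Subgroup ↥K := Subgroup.normalizer
      (Cfsg.thompsonSubgroupOf p (S : Subgroup ↥K) : Set ↥K) ⊔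
    Subgroup.centralizer (Cfsg.omegaOne p ((S : Subgroup ↥K) ⊓
      Subgroup.centralizer ((S : Subgroup ↥K) : Set ↥K)) : Set ↥K) ⊔
    (Subgroup.centralizer (X : Set G)).subgroupOf K with hM
  have hSM : (S : Subgroup ↥K) ≤ M :=
    (Cfsg.Agent.Lib.H3.sylow_le_normalizer_thompson S).trans (le_sup_left.trans le_sup_left)
  have hCM : Subgroup.centralizer (V : Set ↥K) ≤ M := by
    refine le_trans ?_ (le_sup_right.trans le_sup_left)
    apply Subgroup.centralizer_le
    exact le_iSup (fun S : Sylow p ↥K => Cfsg.omegaOne p ((S : Subgroup ↥K) ⊓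
      Subgroup.centralizer ((S : Subgroup ↥K) : Set ↥K))) S
  have hXM : (Subgroup.centralizer (X : Set G)).subgroupOf K ≤ M := le_sup_right
  have hJM := Cfsg.Agent.Lib.H3.Hol.thompson_le_of K X V hWe hsep hO' hXK hXq hq S M hSM hCM hXM
  haveI hVn : V.Normal := inferInstance
  haveI hJn : (Cfsg.thompsonSubgroup p ↥K).Normal := Cfsg.Agent.Lib.H3.QT.thompson_normal
  haveI hCn : (Subgroup.centralizer (V : Set ↥K)).Normal := Subgroup.normal_centralizer
  rw [eq_top_iff]
  intro g _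
  obtain ⟨c, hcN, hcg⟩ := Cfsg.Agent.Lib.H3.frattini_thompson
    (Cfsg.thompsonSubgroup p ↥K ⊔ Subgroup.centralizer (V : Set ↥K)) le_sup_left S g
  have h1 : c ∈ M := (sup_le hJM hCM) hcN
  have h2 : c⁻¹ * g ∈ M := (le_sup_left.trans le_sup_left : _ ≤ M) hcg
  have h3 : g = c * (c⁻¹ * g) := by group
  rw [h3]
  exact M.mul_mem h1 h2

end Cfsg.Agent.S0620
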