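import Cfsg.Statements.S0621
-- import your own Cfsg.Agent.* helpers here
import Cfsg.Agent.Lib.H3.Hol9
import Cfsg.Agent.Lib.H3.Hol10
import Cfsg.Agent.S0600
import Cfsg.Agent.S0601
import Cfsg.Agent.S0608
import Cfsg.Agent.Lib.H10.PSolvable
import Mathlib

set_option autoImplicit false
open Cfsg

namespace Cfsg.Agent.S0621

/-- Let K be p-separable with O_p'(K) = 1, normalized by an elementary abelian q-group X for a prime q not dividing the order of K. If the Thompson factorization fails in K, then p is 2 or 3 and the fixed points of X contain a plane W of order p² and a subgroup inducing SL(2, p) on it. -/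
theorem result {G : Type*} [Group G] [Finite G] {p : ℕ} [Fact p.Prime] {q : ℕ} [Fact q.Prime] (K X : Subgroup G) (hXK : X ≤ Subgroup.normalizer (K : Set G)) (hX : Cfsg.IsElementaryAbelian q X) (hq : ¬ q ∣ Nat.card K) (hsep : Cfsg.IsPSolvable p ↥K) (hO : Cfsg.pPrimeCore p ↥K = ⊥) (hnf : ¬ Cfsg.IsThompsonFactorizable p ↥K) : (p = 2 ∨ p = 3) ∧ ∃ W D : Subgroup G, W ≤ K ⊓ Subgroup.centralizer (X : Set G) ∧ D ≤ K ⊓ Subgroup.centralizer (X : Set G) ∧ Cfsg.IsElementaryAbelian p W ∧ Nat.card W = p ^ 2 ∧ D ≤ Subgroup.normalizer (W : Set G) ∧ ∃ hn : ((Subgroup.centralizer (W : Set G)).subgroupOf D).Normal, Nonempty ((↥D ⧸ (Subgroup.centralizer (W : Set G)).subgroupOf D) ≃* Matrix.SpecialLinearGroup (Fin 2) (ZMod p)) := by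
  classical
  haveI : Finite ↥K := inferInstance
  have hc := Cfsg.Agent.Lib.H10.centralizer_pCore_le_of_isPSolvable p hsep hO
  obtain ⟨-, hWe, -⟩ := Cfsg.Agent.S0601.result hc
  haveI hVc : (⨆ S : Sylow p ↥K, Cfsg.omegaOne p ((S : Subgroup ↥K) ⊓
      Subgroup.centralizer ((S : Subgroup ↥K) : Set ↥K))).Characteristic :=
    Cfsg.Agent.Lib.H3.Hol.iSup_omegaZ_characteristic (H := ↥K) p
  have hgen : ∀ W : Subgroup ↥K, W = (⨆ S : Sylow p ↥K, Cfsg.omegaOne p ((S : Subgroup ↥K) ⊓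
      Subgroup.centralizer ((S : Subgroup ↥K) : Set ↥K))) →
      W = ⨆ S : Sylow p ↥K, W ⊓ Subgroup.centralizer ((S : Subgroup ↥K) : Set ↥K) := by
    intro W hW
    apply le_antisymm
    · conv_lhs => rw [hW]
      apply iSup_le
      intro S
      refine le_trans ?_ (le_iSup (fun S : Sylow p ↥K =>
        W ⊓ Subgroup.centralizer ((S : Subgroup ↥K) : Set ↥K)) S)
      refine le_inf ?_ (Cfsg.Agent.Lib.H3.omegaZ_le_centralizer p (S : Subgroup ↥K))
      rw [hW]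
      exact le_iSup (fun S : Sylow p ↥K => Cfsg.omegaOne p ((S : Subgroup ↥K) ⊓
        Subgroup.centralizer ((S : Subgroup ↥K) : Set ↥K))) S
    · exact iSup_le fun S => inf_le_left
  have hO' := Cfsg.Agent.S0600.result _ hWe (hgen _ rfl)
  have hJ := (not_congr (Cfsg.Agent.S0608.result hO)).1 hnf
  have hXq : IsPGroup q X := Cfsg.Agent.Lib.H3.elemAb_isPGroup hX
  obtain ⟨hp23, hXU, D', W', hD'K, hD'X, hW'U, hW'X, hW'c, hD'W', h0, ⟨e⟩⟩ :=
    Cfsg.Agent.Lib.H3.Hol.exists_hol_data K X _ hWe hsep hO' hJ hXK hXq hq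
  refine ⟨hp23, ?_⟩
  exact Cfsg.Agent.Lib.H3.Hol.pullback_SL2 _ K X (Cfsg.Agent.Lib.H3.Hol.K_le_normalizer_UU K _)
    hXU hXK hXq hq (Cfsg.Agent.Lib.H3.elemAb_map K.subtype hWe)
    (by rintro _ ⟨v, -, rfl⟩; exact v.2) hD'K hD'X hW'U hW'X hW'c hD'W' h0 e

end Cfsg.Agent.S0621
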