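import Cfsg.Statements.S0625
import Mathlib
import Cfsg.Agent.S0596
import Cfsg.Agent.Lib.H4.ActionStable
import Cfsg.Agent.Lib.H4.FaithfulForm
import Cfsg.Agent.Lib.H4.PSolvSub
import Cfsg.Agent.Lib.H10.PSolvable2
import Cfsg.Agent.Lib.H26.PSolvableExt

set_option autoImplicit false
open Cfsg

namespace Cfsg.Agent.S0625

open Cfsg.Agent.Lib Cfsg.Agent.Lib.H4

universe u

/-- `p`-solvable groups are `p`-stable on normal elementary abelian `p`-subgroups for `p ≥ 5`. -/
theorem bb {p : ℕ} [Fact p.Prime] (hp : 5 ≤ p) (X : Type u) [Group X] [Finite X]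
    (hX : Cfsg.IsPSolvable p X) (V : Subgroup X) [V.Normal]
    (hV : Cfsg.IsElementaryAbelian p V) : Cfsg.IsPStableOn p V := by
  apply FaithfulForm.isPStableOn_of_faithful V hV
  rintro V' H hV' hHV hf ⟨f, hfs⟩ a haH hq
  by_contra hna
  have hH : Cfsg.IsPSolvable p ↥H := H26.isPSolvable_of_surjective f hfs hX
  have hp2 : p ≠ 2 := by omega
  obtain ⟨h3, _⟩ := S0596.result hp2 V' H hV' hHV hf hH a haH hq hna
  omega

/-- A p-separable group with p at least 5 is p-stable in the action sense. -/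
theorem result {G : Type*} [Group G] [Finite G] {p : ℕ} [Fact p.Prime] (hp : 5 ≤ p) (hsep : Cfsg.IsPSolvable p G) : Cfsg.IsActionPStable p G := by
  exact ActionStable.actionPStable_of_class (fun X _ => Cfsg.IsPSolvable p X)
    (fun X _ _ H hX => PSolvSub.isPSolvable_subgroup hX H)
    (fun X _ _ N _ hX => H10.isPSolvable_quotient hX N)
    (fun X _ _ hX V _ hV => bb hp X hX V hV) G hsep

end Cfsg.Agent.S0625
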