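import Cfsg.Statements.S0628
import Mathlib
import Cfsg.Agent.S0624
import Cfsg.Agent.Lib.L0.GlaubermanNPC

set_option autoImplicit false
open Cfsg

namespace Cfsg.Agent.S0628

open Cfsg.Agent.Lib Cfsg.Agent.Lib.L0 Cfsg.Agent.Lib.H4
open scoped commutatorElement

universe u

/-- The hypothesis of the normal `p`-complement theorem with `W(S)`. -/
def WHyp (p : ℕ) : ∀ (X : Type u) [Group X], Subgroup X → Prop := fun X _ T =>
  Cfsg.HasNormalPComplement p (Subgroup.normalizer (S0624.WG p T : Set X))

variable {p : ℕ} [hp : Fact p.Prime]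

theorem WG_ne_bot {X : Type u} [Group X] (T : Subgroup X) [Finite T] (hT : IsPGroup p T)
    (hne : T ≠ ⊥) : S0624.WG p T ≠ ⊥ := by
  haveI : Nontrivial T := (Subgroup.nontrivial_iff_ne_bot T).mpr hne
  obtain ⟨_, _, _, h4, _⟩ := S0622.result hT
  intro hbot
  apply h4 inferInstance
  exact (Subgroup.map_eq_bot_iff_of_injective _ T.subtype_injective).1 hbot

theorem wHyp_localHyp : LocalHyp.{u} p (WHyp p) where
  of_injective := by
    intro X Y _ _ _ f hf T hT
    have hinj : Set.InjOn f (T : Set X) := fun a _ b _ hab => hf hab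
    unfold WHyp at hT ⊢
    rw [show S0624.WG p (T.map f) = (S0624.WG p T).map f from
      StableW.snc_map_of_injOn p f T hinj] at hT
    have h3 := HasNormalPComplement.of_le (Subgroup.le_normalizer_map f) hT
    exact HasNormalPComplement.of_mulEquiv (Subgroup.equivMapOfInjective _ f hf).symm h3
  quotient := by
    intro X _ _ N _ hN T hT hHyp
    have hinj := injOn_mk_of_coprime N hN T hT
    have hZp : IsPGroup p (S0624.WG p T) := hT.to_le (S0624.WG_le p T)
    show Cfsg.HasNormalPComplement p (Subgroup.normalizer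
      ((S0624.WG p (T.map (QuotientGroup.mk' N)) : Subgroup (X ⧸ N)) : Set (X ⧸ N)))
    rw [show S0624.WG p (T.map (QuotientGroup.mk' N)) = (S0624.WG p T).map (QuotientGroup.mk' N)
      from StableW.snc_map_of_injOn p _ T hinj, ← H7.map_normalizer_of_coprime p hN hZp]
    exact HasNormalPComplement.of_surjective ((QuotientGroup.mk' N).subgroupMap _)
      ((QuotientGroup.mk' N).subgroupMap_surjective _) hHyp
  of_normalizers := by
    intro X _ _ T hT hTne hU
    exact hU _ (S0624.WG_le p T) (WG_ne_bot T hT hTne) (S0624.normalizer_le_normalizer_WG p T)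

/-- `W(S) ≤ O_p(G)` when `G` is `p`-stable on `O_p(G)` and of characteristic `p`. -/
theorem WG_le_pCore' {X : Type u} [Group X] [Finite X]
    (hc : Subgroup.centralizer (Cfsg.pCore p X : Set X) ≤ Cfsg.pCore p X)
    [hBn : (Cfsg.pCore p X).Normal]
    (hst : Cfsg.IsPStableOn p (Cfsg.pCore p X)) (S : Sylow p X) :
    S0624.WG p (S : Subgroup X) ≤ Cfsg.pCore p X := by
  intro a ha
  have hBp : IsPGroup p (Cfsg.pCore p X) := H1.pCore_isPGroup p X
  have hBS : Cfsg.pCore p X ≤ S := H1.pCore_le_sylow S
  have hq := S0624.quad_of_mem_WG p (S : Subgroup X) hBS ha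
  have h1 := hst a hq
  obtain ⟨D, hD⟩ : ∃ D, D = (Cfsg.pCore p (X ⧸ Subgroup.centralizer (Cfsg.pCore p X : Set X))).comap
      (QuotientGroup.mk' (Subgroup.centralizer (Cfsg.pCore p X : Set X))) := ⟨_, rfl⟩
  have hDn : D.Normal := by
    rw [hD]; exact Subgroup.Normal.comap (H1.pCore_normal p _) _
  have hDp : IsPGroup p D := by
    rw [hD]
    apply IsPGroup.comap_of_ker_isPGroup (H1.pCore_isPGroup p _)
    rw [QuotientGroup.ker_mk']
    exact hBp.to_le hc
  have haD : a ∈ D := by rw [hD]; exact h1
  exact H1.le_pCore hDn hDp haD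

/-- the local subgroup `N_X(J(S))` has characteristic `p` -/
theorem char_p_normalizer_J {X : Type u} [Group X] [Finite X]
    (hc : Subgroup.centralizer (Cfsg.pCore p X : Set X) ≤ Cfsg.pCore p X) (S : Sylow p X) :
    Subgroup.centralizer (Cfsg.pCore p
      ↥(Subgroup.normalizer (Cfsg.thompsonSubgroupOf p (S : Subgroup X) : Set X)) : Set _) ≤
      Cfsg.pCore p ↥(Subgroup.normalizer (Cfsg.thompsonSubgroupOf p (S : Subgroup X) : Set X)) := by
  have hSN := S0624.sylow_le_normalizer_J p (S : Subgroup X)
  have hBn : (Cfsg.pCore p X).Normal := H1.pCore_normal p X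
  have hBp : IsPGroup p (Cfsg.pCore p X) := H1.pCore_isPGroup p X
  have hJS : Cfsg.thompsonSubgroupOf p (S : Subgroup X) ≤ S := L0.thompsonSubgroupOf_le' p _
  have hJp : IsPGroup p (Cfsg.thompsonSubgroupOf p (S : Subgroup X)) := S.2.to_le hJS
  apply H7.centralizer_pCore_le_of_generalizedFittingSubgroup_eq p
  apply H7.generalizedFittingSubgroup_eq_pCore_of_le_normalizer p (Q := Cfsg.pCore p X)
    (P := Cfsg.thompsonSubgroupOf p (S : Subgroup X)) hBp hJp
  · rw [Subgroup.normalizer_eq_top_iff.2 hBn]; exact le_top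
  · exact hJS.trans hSN
  · exact le_rfl
  · rw [Subgroup.normalizer_eq_top_iff.2 hBn]; exact le_top
  · exact inf_le_right.trans (Subgroup.centralizer_le_normalizer _)
  · intro y _ hy hyc
    exact H7.eq_one_of_mem_of_isPGroup_of_coprime hBp (hc hyc) hy

/-- a group of characteristic `p` with a normal `p`-complement is a `p`-group -/
theorem isPGroup_of_npc_of_char_p {Y : Type u} [Group Y] [Finite Y]
    (hc : Subgroup.centralizer (Cfsg.pCore p Y : Set Y) ≤ Cfsg.pCore p Y)
    (h : Cfsg.HasNormalPComplement p Y) : IsPGroup p Y := by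
  apply isPGroup_of_forall_coprime_eq_one
  intro g hg
  haveI := H1.pCore_normal p Y
  have h1 := HasNormalPComplement.mem_centralizer h (Cfsg.pCore p Y) (H1.pCore_isPGroup p Y) g hg
  exact H7.eq_one_of_mem_of_isPGroup_of_coprime (H1.pCore_isPGroup p Y) (hc h1) hg

theorem WG_normal_of_final (hp2 : p ≠ 2) {X : Type u} [Group X] [Finite X]
    (hF : FinalConfig p (WHyp p) X) (P : Sylow p X) :
    (S0624.WG p (P : Subgroup X)).Normal := by
  obtain ⟨H, K, hS⟩ := hF.exists_struct
  have hcore := pCore_eq_of_struct hS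
  have hc : Subgroup.centralizer (Cfsg.pCore p X : Set X) ≤ Cfsg.pCore p X := by
    rw [hcore]; exact hS.hcent
  have hBn : (Cfsg.pCore p X).Normal := H1.pCore_normal p X
  have h1 : ∀ (V : Subgroup X) [V.Normal], Cfsg.IsElementaryAbelian p V → Cfsg.IsPStableOn p V :=
    fun V _ hV => isPStableOn_of_struct hp2 hS V (H3.elemAb_isPGroup hV)
  have hB : ∀ S : Sylow p X, S0624.WG p (S : Subgroup X) ≤ Cfsg.pCore p X :=
    fun S => WG_le_pCore' hc (isPStableOn_of_struct hp2 hS _ (H1.pCore_isPGroup p X)) S
  by_cases hN : Subgroup.normalizer (Cfsg.thompsonSubgroupOf p (P : Subgroup X) : Set X) = ⊤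
  · -- `X` itself is a stable embedding
    have hst : Cfsg.IsStableEmbedding p (P : Subgroup X).subtype := by
      refine ⟨Subgroup.subtype_injective _, inferInstance, ⟨P, (Subgroup.range_subtype _).symm⟩,
        hc, ?_, ?_⟩
      · exact Subgroup.normalizer_eq_top_iff.1 hN
      · intro V _ hV
        exact isPStableOn_of_struct hp2 hS V (P.2.to_le (hV.trans (Subgroup.map_subtype_le _)))
    exact StableW.snc_map_normal p _ hst
  · have hSN := S0624.sylow_le_normalizer_J p (P : Subgroup X)
    have hnpc := hF.proper _ hN ⟨P, hSN⟩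
    have hNp := isPGroup_of_npc_of_char_p (char_p_normalizer_J hc P) hnpc
    have hNP : Subgroup.normalizer (Cfsg.thompsonSubgroupOf p (P : Subgroup X) : Set X) =
        (P : Subgroup X) := P.3 hNp hSN
    obtain ⟨V, hVdef⟩ : ∃ V, V = Subgroup.normalClosure
        ((S0624.WG p (P : Subgroup X) : Subgroup X) : Set X) := ⟨_, rfl⟩
    have hVn : V.Normal := by rw [hVdef]; exact Subgroup.normalClosure_normal
    have hJ : Cfsg.thompsonSubgroupOf p (P : Subgroup X) ≤ Subgroup.centralizer (V : Set X) := by
      rw [hVdef]; exact S0624.J_le_centralizer_V h1 hB P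
    have hfr := S0624.frattini_J P V hJ
    have hWV : S0624.WG p (P : Subgroup X) ≤ V := by rw [hVdef]; exact Subgroup.le_normalClosure
    have hle : Subgroup.centralizer (V : Set X) ⊔
        Subgroup.normalizer (Cfsg.thompsonSubgroupOf p (P : Subgroup X) : Set X) ≤
        Subgroup.normalizer (S0624.WG p (P : Subgroup X) : Set X) := by
      apply sup_le
      · exact (Subgroup.centralizer_le hWV).trans (Subgroup.centralizer_le_normalizer _)
      · rw [hNP]; exact S0624.le_normalizer_WG p _
    rw [hfr, top_le_iff] at hle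
    exact Subgroup.normalizer_eq_top_iff.1 hle

theorem w_final (hp2 : p ≠ 2) (X : Type u) [Group X] [Finite X]
    (hF : FinalConfig p (WHyp p) X) : False := by
  obtain ⟨P⟩ : Nonempty (Sylow p X) := inferInstance
  have hn := WG_normal_of_final hp2 hF P
  have hJ := hF.hyp P
  unfold WHyp at hJ
  rw [Subgroup.normalizer_eq_top_iff.mpr hn, hasNormalPComplement_top_iff] at hJ
  exact hF.not_npc hJ

/-- The normal p-complement Theorem of Thompson in the form with W(S): for odd p, G has a normal p-complement as soon as the normalizer of the characteristic subgroup W(S) of a Sylow p-subgroup S has one. -/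
theorem result {G : Type*} [Group G] [Finite G] {p : ℕ} [Fact p.Prime] (hp : p ≠ 2) (S : Sylow p G) (hN : Cfsg.HasNormalPComplement p ↥(Subgroup.normalizer (((Cfsg.stableNormalClosure p ↥(S : Subgroup G)).map (S : Subgroup G).subtype) : Set G))) : Cfsg.HasNormalPComplement p G :=
  npc_of_localHyp wHyp_localHyp (w_final hp) G S hN

end Cfsg.Agent.S0628
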