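import Cfsg.Statements.S0629
import Cfsg.Agent.Lib.H7.PConstrained3
import Cfsg.Agent.Lib.H10.PSolvable
import Cfsg.Agent.Lib.H10.PSolvable2
import Cfsg.Agent.Lib.H9.UpperPAmb
-- import your own Cfsg.Agent.* helpers here

set_option autoImplicit false
open Cfsg

namespace Cfsg.Agent.S0629

open Cfsg.Agent.Lib
open Cfsg.Agent.Lib.H7

theorem relIndex_map_dvd {G G' : Type*} [Group G] [Group G'] (f : G →* G') (B A : Subgroup G)
    [hB : B.Normal] (hBA : B ≤ A) :
    (B.map f).relIndex (A.map f) ∣ B.relIndex A := by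
  rw [Subgroup.relIndex_map_map]
  have hn : (B ⊔ f.ker).Normal := Subgroup.sup_normal B f.ker
  have h1 : A ⊔ f.ker = A ⊔ (B ⊔ f.ker) := by
    rw [← sup_assoc, sup_eq_left.2 hBA]
  rw [h1, Subgroup.relIndex_sup_right]
  exact Subgroup.relIndex_dvd_of_le_left A le_sup_left

/-- surjective images of `p`-solvable groups are `p`-solvable. -/
theorem isPSolvable_of_surjective {G G' : Type*} [Group G] [Group G'] {p : ℕ} [hp : Fact p.Prime]
    (hG : IsPSolvable p G) (f : G →* G') (hf : Function.Surjective f) : IsPSolvable p G' := by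
  obtain ⟨n, H, h0, hlast, hmono, hnorm, hstep⟩ := hG
  refine ⟨n, fun i => (H i).map f, ?_, ?_, ?_, ?_, ?_⟩
  · simp only [h0, Subgroup.map_bot]
  · simp only [hlast]
    exact Subgroup.map_top_of_surjective _ hf
  · intro i j hij
    exact Subgroup.map_mono (hmono hij)
  · intro i
    exact (hnorm i).map _ hf
  · intro i
    have hB : (H i.castSucc).Normal := hnorm _
    have hle : H i.castSucc ≤ H i.succ := hmono (Fin.castSucc_lt_succ.le)
    have hd := relIndex_map_dvd f (H i.castSucc) (H i.succ) hle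
    rcases hstep i with ⟨m, hm⟩ | hc
    · left
      rw [hm] at hd
      obtain ⟨k, _, hk⟩ := (Nat.dvd_prime_pow hp.out).1 hd
      exact ⟨k, hk⟩
    · right
      exact Nat.Coprime.coprime_dvd_left hd hc

/-- In a group `Y` with `O_{p'}(Y) = 1` whose `C_Y(O_p(Y))` is `p`-solvable, `C_Y(O_p(Y)) ≤ O_p(Y)`. -/
theorem centralizer_pCore_le_of_isPSolvable_centralizer {Y : Type*} [Group Y] [Finite Y] (p : ℕ)
    [hp : Fact p.Prime] (hO : pPrimeCore p Y = ⊥)
    (hsol : IsPSolvable p ↥(Subgroup.centralizer (pCore p Y : Set Y))) :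
    Subgroup.centralizer (pCore p Y : Set Y) ≤ pCore p Y := by
  have hQn : (pCore p Y).Normal := H1.pCore_normal p Y
  set D := Subgroup.centralizer (pCore p Y : Set Y) with hD
  have hDn : D.Normal := Subgroup.normal_centralizer
  have hNDtop : Subgroup.normalizer (D : Set Y) = ⊤ := Subgroup.normalizer_eq_top_iff.mpr hDn
  -- O_{p'}(D) = 1
  have hOD : pPrimeCore p ↥D = ⊥ := by
    have h1 : H9.opAmb p D ≤ pPrimeCore p Y := by
      apply H22.le_pPrimeCore p _ _ (H9.card_opAmb_coprime p D)
      unfold H9.opAmb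
      infer_instance
    rw [hO] at h1
    rw [eq_bot_iff]
    intro x hx
    have : (x : Y) ∈ H9.opAmb p D := ⟨x, hx, rfl⟩
    have h2 := h1 this
    rw [Subgroup.mem_bot] at h2 ⊢
    exact Subtype.ext h2
  have hHH := H10.centralizer_pCore_le_of_isPSolvable p hsol hOD
  -- O_p(D) is central in D
  have hchar : (pCore p ↥D).Characteristic := H1.pCore_characteristic p ↥D
  have hmapn : ((pCore p ↥D).map D.subtype).Normal := inferInstance
  have hle : (pCore p ↥D).map D.subtype ≤ pCore p Y :=
    H1.le_pCore hmapn ((H1.pCore_isPGroup p ↥D).map _)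
  have htop : (⊤ : Subgroup ↥D) ≤ Subgroup.centralizer (pCore p ↥D : Set ↥D) := by
    intro d _
    rw [Subgroup.mem_centralizer_iff]
    intro x hx
    apply Subtype.ext
    have hxQ : (x : Y) ∈ pCore p Y := hle ⟨x, hx, rfl⟩
    have := (Subgroup.mem_centralizer_iff.mp d.2) (x : Y) hxQ
    exact this
  have hDp : IsPGroup p ↥D := by
    have h1 : (⊤ : Subgroup ↥D) ≤ pCore p ↥D := htop.trans hHH
    have h2 : IsPGroup p (pCore p ↥D) := H1.pCore_isPGroup p ↥D
    intro d
    obtain ⟨k, hk⟩ := h2 ⟨d, h1 (Subgroup.mem_top d)⟩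
    refine ⟨k, ?_⟩
    have := congrArg Subtype.val hk
    simpa using this
  exact H1.le_pCore hDn hDp


/-- A group in which the centralizer of a Sylow p-subgroup of O_{p',p}(G) is p-solvable is p-constrained. -/
theorem result {G : Type*} [Group G] [Finite G] {p : ℕ} [Fact p.Prime] (P : Sylow p ↥(Cfsg.pPrimePCore p G)) (hsol : Cfsg.IsPSolvable p ↥(Subgroup.centralizer (((P : Subgroup ↥(Cfsg.pPrimePCore p G)).map (Cfsg.pPrimePCore p G).subtype : Subgroup G) : Set G))) : Cfsg.IsPConstrained p G := by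
  set O := pPrimeCore p G with hO
  have hOc : (Nat.card O).Coprime p := H22.card_pPrimeCore_coprime p
  set P₀ := (P : Subgroup ↥(Cfsg.pPrimePCore p G)).map (Cfsg.pPrimePCore p G).subtype with hP₀
  have hP₀p : IsPGroup p P₀ := P.isPGroup'.map _
  have hmap := map_sylow_pPrimePCore p P
  have hcen := map_centralizer_of_coprime p hOc hP₀p
  rw [hmap] at hcen
  -- the centralizer of O_p(G/O) is p-solvable
  have hsol' : IsPSolvable p ↥(Subgroup.centralizer (pCore p (G ⧸ O) : Set (G ⧸ O))) := by
    rw [← hcen]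
    exact isPSolvable_of_surjective hsol
      ((QuotientGroup.mk' O).subgroupMap (Subgroup.centralizer (P₀ : Set G)))
      ((QuotientGroup.mk' O).subgroupMap_surjective _)
  have hF := centralizer_pCore_le_of_isPSolvable_centralizer p
    (H9.pPrimeCore_quotient_eq_bot p) hsol'
  rw [isPConstrained_iff_pLayer_eq_bot, pLayer_eq_bot_iff_layer_quotient_eq_bot]
  exact layer_eq_bot_of_gfs_eq_pCore p (generalizedFittingSubgroup_eq_pCore_of_centralizer_le p hF)


end Cfsg.Agent.S0629
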