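import Cfsg.Statements.S0630
import Cfsg.Agent.Lib.H4.PStable
import Cfsg.Agent.Lib.H7.PConstrained2

set_option autoImplicit false
open Cfsg

namespace Cfsg.Agent.S0630

open Cfsg.Agent.Lib.H4.PStable

section
variable {G : Type*} [Group G] [Finite G] {p : ℕ} [Fact p.Prime]

/-- In a group with trivial `O_{p'}`, the subgroup `O_{p',p}` is `O_p`. -/
theorem pPrimePCore_eq_pCore_of_bot {X : Type*} [Group X] (h : Cfsg.pPrimeCore p X = ⊥) :
    Cfsg.pPrimePCore p X = Cfsg.pCore p X :=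
  le_antisymm (pPrimePCore_le_pCore_of_bot h) (pCore_le_pPrimePCore p)

/-- In a group with trivial `O_{p'}`, a Sylow `p`-subgroup of `O_{p',p}` is all of `O_p`. -/
theorem sylow_map_eq_pCore_of_bot {X : Type*} [Group X] (h : Cfsg.pPrimeCore p X = ⊥)
    (P : Sylow p ↥(Cfsg.pPrimePCore p X)) :
    (P : Subgroup ↥(Cfsg.pPrimePCore p X)).map (Cfsg.pPrimePCore p X).subtype = Cfsg.pCore p X := by
  have hp : IsPGroup p ↥(Cfsg.pPrimePCore p X) := by
    rw [pPrimePCore_eq_pCore_of_bot h]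
    exact Cfsg.Agent.Lib.H1.pCore_isPGroup p X
  have := P.is_maximal' (Q := ⊤) (by
    intro g
    obtain ⟨k, hk⟩ := hp g.1
    exact ⟨k, Subtype.ext hk⟩) le_top
  rw [← this, ← MonoidHom.range_eq_map, Subgroup.range_subtype, pPrimePCore_eq_pCore_of_bot h]

end

/-- p-constraint passes to and from the quotient by the largest normal subgroup of order prime to p. -/
theorem result {G : Type*} [Group G] [Finite G] {p : ℕ} [Fact p.Prime] : Cfsg.IsPConstrained p G ↔ Cfsg.IsPConstrained p (G ⧸ Cfsg.pPrimeCore p G) := by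
  have hN : (Nat.card (Cfsg.pPrimeCore p G)).Coprime p :=
    Cfsg.Agent.Lib.H22.card_pPrimeCore_coprime p
  have hbot : Cfsg.pPrimeCore p (G ⧸ Cfsg.pPrimeCore p G) = ⊥ :=
    Cfsg.Agent.Lib.H9.pPrimeCore_quotient_eq_bot p
  constructor
  · intro hc Pbar
    rw [sylow_map_eq_pCore_of_bot hbot Pbar, pPrimePCore_eq_pCore_of_bot hbot]
    obtain ⟨R₀⟩ : Nonempty (Sylow p ↥(Cfsg.pPrimePCore p G)) := inferInstance
    have h1 := Cfsg.Agent.Lib.H7.map_sylow_pPrimePCore p R₀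
    have h2 := hc R₀
    have h3 := Cfsg.Agent.Lib.H7.map_centralizer_of_coprime p hN
      (P := (R₀ : Subgroup ↥(Cfsg.pPrimePCore p G)).map (Cfsg.pPrimePCore p G).subtype)
      (R₀.isPGroup'.map _)
    rw [h1] at h3
    rw [← h3]
    rintro _ ⟨x, hx, rfl⟩
    exact h2 hx
  · intro hc R₀
    obtain ⟨Pbar⟩ : Nonempty (Sylow p ↥(Cfsg.pPrimePCore p (G ⧸ Cfsg.pPrimeCore p G))) :=
      inferInstance
    have h2 := hc Pbar
    rw [sylow_map_eq_pCore_of_bot hbot Pbar, pPrimePCore_eq_pCore_of_bot hbot] at h2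
    have h1 := Cfsg.Agent.Lib.H7.map_sylow_pPrimePCore p R₀
    intro x hx
    show QuotientGroup.mk' (Cfsg.pPrimeCore p G) x ∈ Cfsg.pCore p (G ⧸ Cfsg.pPrimeCore p G)
    apply h2
    rw [← h1, Subgroup.mem_centralizer_iff]
    rintro _ ⟨y, hy, rfl⟩
    rw [← map_mul, ← map_mul, (Subgroup.mem_centralizer_iff.mp hx) y hy]

end Cfsg.Agent.S0630
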