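import Cfsg.Statements.S0633
import Cfsg.Agent.Lib.H19.HHFinal

set_option autoImplicit false
open Cfsg

namespace Cfsg.Agent.S0633

open Polynomial Cfsg.Agent.Lib.H19.HH

/-- Theorem B of Hall and Higman on the minimal polynomial of a p-element of order p^n in a p-solvable linear group on a nonzero vector space in characteristic p with no nontrivial normal p-subgroup: its degree is p^n, except when some p^n₀ - 1 (n₀ ≤ n) is a power of a prime q for which the Sylow q-subgroups are non-abelian, in which case the degree is at least p^(n-n₀)(p^n₀ - 1). -/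
theorem result {F : Type*} [Field F] {p : ℕ} [Fact p.Prime] [CharP F p] {V : Type*} [AddCommGroup V] [Module F V] [FiniteDimensional F V] [Nontrivial V] (H : Subgroup (V ≃ₗ[F] V)) [Finite H] (hsol : Cfsg.IsPSolvable p H) (hOp : Cfsg.pCore p H = ⊥) (x : V ≃ₗ[F] V) (hx : x ∈ H) (n : ℕ) (hn : orderOf x = p ^ n) (r : ℕ) (hr : minpoly F (x : Module.End F V) = (Polynomial.X - 1) ^ r) : r = p ^ n ∨ ∃ n₀ q m : ℕ, 1 ≤ n₀ ∧ n₀ ≤ n ∧ q.Prime ∧ 1 ≤ m ∧ p ^ n₀ - 1 = q ^ m ∧ (∀ Q : Sylow q H, ¬ IsMulCommutative Q) ∧ p ^ (n - n₀) * (p ^ n₀ - 1) ≤ r := by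
  have hdeg : ∀ j : ℕ, (((X : F[X]) - 1) ^ j).natDegree = j := by
    intro j
    rw [natDegree_pow, ← C_1, natDegree_X_sub_C, mul_one]
  have hmonic : ∀ j : ℕ, (((X : F[X]) - 1) ^ j).Monic := by
    intro j
    rw [← C_1]
    exact (monic_X_sub_C (1 : F)).pow j
  -- nilpotency of `x - 1`
  have hr0 : ((x : Module.End F V) - 1) ^ r = 0 := by
    have := minpoly.aeval F (x : Module.End F V)
    rw [hr] at this
    simpa using this
  have hrmin0 : ∀ t < r, ((x : Module.End F V) - 1) ^ t ≠ 0 := by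
    intro t ht h0
    have h1 : aeval (x : Module.End F V) (((X : F[X]) - 1) ^ t) = 0 := by simpa using h0
    have h2 := minpoly.dvd F (x : Module.End F V) h1
    rw [hr] at h2
    have h3 := natDegree_le_of_dvd h2 (hmonic t).ne_zero
    rw [hdeg, hdeg] at h3
    omega
  by_cases hn0 : n = 0
  · left
    subst hn0
    rw [pow_zero, orderOf_eq_one_iff] at hn
    subst hn
    have h1 : ((1 : V ≃ₗ[F] V) : Module.End F V) = 1 := rfl
    rw [h1, minpoly.one] at hr
    have h2 := congrArg natDegree hr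
    rw [hdeg, ← C_1, natDegree_X_sub_C] at h2
    rw [pow_zero]
    exact h2.symm
  have hn1 : 1 ≤ n := Nat.one_le_iff_ne_zero.2 hn0
  -- the natural representation of `H`
  let ρ₀ : Representation F ↥H V :=
    { toFun := fun g => ((g : V ≃ₗ[F] V) : Module.End F V)
      map_one' := rfl
      map_mul' := fun a b => rfl }
  have hfaith : Function.Injective ρ₀ := by
    intro a b hab
    apply Subtype.ext
    exact LinearEquiv.toLinearMap_injective hab
  have hx' : orderOf (⟨x, hx⟩ : H) = p ^ n := by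
    rw [← hn]
    exact Subgroup.orderOf_mk x hx
  exact thmB_general p ρ₀ hfaith hsol hOp ⟨x, hx⟩ n hn1 hx' r hr0 hrmin0

end Cfsg.Agent.S0633
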