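import Cfsg.Statements.S0634
import Mathlib
import Cfsg.Agent.Lib.H9.PPrimeCore
import Cfsg.Agent.Lib.H10.PSolvable
import Cfsg.Agent.Lib.H10.PSolvable2

set_option autoImplicit false
open Cfsg

namespace Cfsg.Agent.S0634

variable {G : Type*} [Group G]

/-- `O_{p'}(G / M) = 1` when `M` is the preimage of `O_{p'}(G / N)`. -/
theorem pPrimeCore_quotient_comap_eq_bot [Finite G] (p : ℕ) (N : Subgroup G) [N.Normal] :
    pPrimeCore p (G ⧸ (pPrimeCore p (G ⧸ N)).comap (QuotientGroup.mk' N)) = ⊥ := by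
  set O := pPrimeCore p (G ⧸ N) with hO
  set M := O.comap (QuotientGroup.mk' N) with hM
  have hNM : N ≤ M := by
    intro x hx
    rw [hM, Subgroup.mem_comap]
    have : QuotientGroup.mk' N x = 1 := (QuotientGroup.eq_one_iff x).mpr hx
    rw [this]
    exact O.one_mem
  have hmap : M.map (QuotientGroup.mk' N) = O :=
    Subgroup.map_comap_eq_self_of_surjective (QuotientGroup.mk'_surjective N) O
  have e1 : (G ⧸ N) ⧸ M.map (QuotientGroup.mk' N) ≃* G ⧸ M :=
    QuotientGroup.quotientQuotientEquivQuotient N M hNM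
  have e2 : (G ⧸ N) ⧸ M.map (QuotientGroup.mk' N) ≃* (G ⧸ N) ⧸ O :=
    QuotientGroup.quotientMulEquivOfEq hmap
  have e : (G ⧸ N) ⧸ O ≃* G ⧸ M := e2.symm.trans e1
  have h1 : pPrimeCore p ((G ⧸ N) ⧸ O) = ⊥ := Cfsg.Agent.Lib.H9.pPrimeCore_quotient_eq_bot p
  have h2 := Cfsg.Agent.Lib.H9.pPrimeCore_map_equiv p e
  rw [h1, Subgroup.map_bot] at h2
  exact h2.symm

theorem pPrimeCore_quotient_eq_bot_of_eq [Finite G] (p : ℕ) (N : Subgroup G) [N.Normal]
    (M : Subgroup G) [hM : M.Normal]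
    (h : M = (pPrimeCore p (G ⧸ N)).comap (QuotientGroup.mk' N)) :
    pPrimeCore p (G ⧸ M) = ⊥ := by
  subst h
  exact pPrimeCore_quotient_comap_eq_bot p N

/-- unfolding by `rfl`, so that no on-demand equation lemmas of `upperPSeries` are generated -/
theorem upperPSeries_succ_raw (p j : ℕ) :
    upperPSeries p G (j + 1) =
      (if Even j then
        ⟨(pPrimeCore p (G ⧸ (upperPSeries p G j).1)).comap (QuotientGroup.mk' _), inferInstance⟩
      else
        ⟨(pCore p (G ⧸ (upperPSeries p G j).1)).comap (QuotientGroup.mk' _), inferInstance⟩) := rfl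

theorem upperPSeries_odd (p : ℕ) (k : ℕ) :
    (upperPSeries p G (2 * k + 1)).1 =
      (pPrimeCore p (G ⧸ (upperPSeries p G (2 * k)).1)).comap (QuotientGroup.mk' _) := by
  have he : Even (2 * k) := even_two_mul k
  show (upperPSeries p G ((2 * k) + 1)).1 = _
  rw [upperPSeries_succ_raw, if_pos he]

theorem upperPSeries_even (p : ℕ) (k : ℕ) :
    (upperPSeries p G (2 * k + 2)).1 =
      (pCore p (G ⧸ (upperPSeries p G (2 * k + 1)).1)).comap (QuotientGroup.mk' _) := by
  have he : ¬ Even (2 * k + 1) := by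
    rw [Nat.not_even_iff_odd]
    exact odd_two_mul_add_one k
  show (upperPSeries p G ((2 * k + 1) + 1)).1 = _
  rw [upperPSeries_succ_raw, if_neg he]

theorem result {G : Type*} [Group G] [Finite G] {p : ℕ} [Fact p.Prime] (hsol : Cfsg.IsPSolvable p G) (k : ℕ) : Subgroup.centralizer ((((Cfsg.upperPSeries p G (2 * k + 2)).1.map (QuotientGroup.mk' (Cfsg.upperPSeries p G (2 * k + 1)).1)) : Subgroup (G ⧸ (Cfsg.upperPSeries p G (2 * k + 1)).1)) : Set (G ⧸ (Cfsg.upperPSeries p G (2 * k + 1)).1)) ≤ (Cfsg.upperPSeries p G (2 * k + 2)).1.map (QuotientGroup.mk' (Cfsg.upperPSeries p G (2 * k + 1)).1) := by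
  have hmap : (Cfsg.upperPSeries p G (2 * k + 2)).1.map
      (QuotientGroup.mk' (Cfsg.upperPSeries p G (2 * k + 1)).1) =
      pCore p (G ⧸ (upperPSeries p G (2 * k + 1)).1) := by
    rw [upperPSeries_even]
    exact Subgroup.map_comap_eq_self_of_surjective (QuotientGroup.mk'_surjective _) _
  rw [hmap]
  apply Cfsg.Agent.Lib.H10.centralizer_pCore_le_of_isPSolvable p
  · exact Cfsg.Agent.Lib.H10.isPSolvable_quotient hsol _
  · exact pPrimeCore_quotient_eq_bot_of_eq p (upperPSeries p G (2 * k)).1 _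
      (upperPSeries_odd (G := G) p k)

end Cfsg.Agent.S0634
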