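import Cfsg.Statements.S0636
import Cfsg.Agent.S0126

set_option autoImplicit false
open Cfsg

namespace Cfsg.Agent.S0636

open Cfsg.Agent.Lib.H22 Cfsg.Agent.S0126

/-- For odd p, every non-cyclic normal subgroup of a p-group contains a normal elementary abelian subgroup of the whole group of order p². -/
theorem result {R : Type*} [Group R] [Finite R] {p : ℕ} [Fact p.Prime] (hp : p ≠ 2) (hR : IsPGroup p R) (S : Subgroup R) [S.Normal] (hS : ¬ IsCyclic S) : ∃ A : Subgroup R, A ≤ S ∧ A.Normal ∧ Cfsg.IsElementaryAbelian p A ∧ Nat.card A = p ^ 2 := by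
  have hp' : Fact p.Prime := inferInstance
  obtain ⟨A, -, hAmax⟩ := Finite.exists_le_maximal
    (p := fun A : Subgroup R => A.Normal ∧ A ≤ S ∧ ∀ a ∈ A, ∀ b ∈ A, a * b = b * a) (a := ⊥)
    ⟨inferInstance, bot_le, by
      intro a ha b hb
      rw [Subgroup.mem_bot] at ha hb
      rw [ha, hb]⟩
  obtain ⟨⟨hAn, hAS, hA⟩, hAmax'⟩ := hAmax
  by_cases hcyc : IsCyclic A
  · -- A cyclic
    have hlt : A < S := by
      refine lt_of_le_of_ne hAS ?_
      intro h
      apply hS
      rw [← h]; exact hcyc
    obtain ⟨B, hBn, hAB, hBS, hBc, -, -⟩ := exists_normal_step hR A S hlt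
    have hBnc : ¬ IsCyclic B := by
      intro hB
      have hBab := comm_of_isCyclic_subgroup B hB
      have hBA : B ≤ A := hAmax' ⟨hBn, hBS, hBab⟩ hAB
      have := Subgroup.card_le_of_le hBA
      rw [hBc] at this
      have hpos : 0 < Nat.card A := Nat.card_pos
      have h2 : 2 * Nat.card A ≤ p * Nat.card A := Nat.mul_le_mul_right _ hp'.out.two_le
      omega
    have hcycC : IsCyclic (A.subgroupOf B) := by
      have e := Subgroup.subgroupOfEquivOfLe hAB
      exact isCyclic_of_surjective e.symm e.symm.surjective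
    have hidx : (A.subgroupOf B).index = p := by
      have h1 := Subgroup.card_mul_index (A.subgroupOf B)
      rw [Nat.card_congr (Subgroup.subgroupOfEquivOfLe hAB).toEquiv, hBc, mul_comm] at h1
      exact Nat.eq_of_mul_eq_mul_right Nat.card_pos h1
    have hBp : IsPGroup p B := hR.to_subgroup B
    have hcard := card_ker_powHomOfCyclicIndexP hp hBp hBnc (A.subgroupOf B) hcycC hidx
    have hKmem : ∀ x : B, x ∈ (powHomOfCyclicIndexP hp hBp (A.subgroupOf B) hcycC hidx).ker ↔
        x ^ p = 1 := by
      intro x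
      rw [MonoidHom.mem_ker, powHomOfCyclicIndexP_apply]
    set K := (powHomOfCyclicIndexP hp hBp (A.subgroupOf B) hcycC hidx).ker with hKdef
    have hcard' : Nat.card (K.map B.subtype) = p ^ 2 := by
      rw [Subgroup.card_map_of_injective B.subtype_injective, hcard]
    refine ⟨K.map B.subtype, ?_, ?_, ⟨?_, ?_⟩, hcard'⟩
    · rintro _ ⟨x, -, rfl⟩
      exact hBS x.2
    · constructor
      rintro _ ⟨x, hx, rfl⟩ g
      have hmem : g * (x : R) * g⁻¹ ∈ B := hBn.conj_mem _ x.2 g
      refine ⟨⟨g * (x : R) * g⁻¹, hmem⟩, ?_, rfl⟩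
      rw [SetLike.mem_coe, hKmem] at hx ⊢
      apply Subtype.ext
      have hx' : (x : R) ^ p = 1 := by simpa using congrArg Subtype.val hx
      show (g * (x : R) * g⁻¹) ^ p = 1
      rw [conj_pow, hx']; group
    · exact IsPGroup.isMulCommutative_of_card_eq_prime_sq hcard'
    · rintro _ ⟨x, hx, rfl⟩
      rw [SetLike.mem_coe, hKmem] at hx
      simpa using congrArg Subtype.val hx
  · -- A not cyclic
    have hAp : IsPGroup p A := hR.to_subgroup A
    have hnot : ¬ AtMostOneOrderP p A := by
      intro h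
      apply hcyc
      apply isCyclic_of_comm_of_atMostOne hAp h
      intro a b
      exact Subtype.ext (hA a a.2 b b.2)
    unfold AtMostOneOrderP at hnot
    push Not at hnot
    obtain ⟨H₁, H₂, hH₁, hH₂, hne⟩ := hnot
    have hΩn := Cfsg.Agent.S0126.omegaOne_normal p A hA
    have hle : ∀ H : Subgroup A, Nat.card H = p → H.map A.subtype ≤ Cfsg.Agent.S0126.omegaOne p A hA := by
      rintro H hH _ ⟨x, hx, rfl⟩
      refine ⟨x.2, ?_⟩
      have := pow_card_eq_one' (G := H) (x := ⟨x, hx⟩)
      rw [hH] at this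
      have h2 : x ^ p = 1 := by simpa using congrArg Subtype.val this
      simpa using congrArg Subtype.val h2
    have hsq : p ^ 2 ≤ Nat.card (Cfsg.Agent.S0126.omegaOne p A hA) := by
      apply sq_le_card_of_two_order_p hR _ (H₁.map A.subtype) (H₂.map A.subtype)
        (hle H₁ hH₁) (hle H₂ hH₂)
      · rw [Subgroup.card_map_of_injective A.subtype_injective, hH₁]
      · rw [Subgroup.card_map_of_injective A.subtype_injective, hH₂]
      · intro h
        exact hne (Subgroup.map_injective A.subtype_injective h)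
    obtain ⟨M, hMn, hMle, hMc⟩ := exists_normal_card_pow hR (Cfsg.Agent.S0126.omegaOne p A hA) 2 hsq
    refine ⟨M, ?_, hMn, ⟨?_, ?_⟩, hMc⟩
    · intro x hx
      exact hAS (hMle hx).1
    · exact IsPGroup.isMulCommutative_of_card_eq_prime_sq hMc
    · intro a ha
      exact (hMle ha).2

end Cfsg.Agent.S0636
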