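import Cfsg.Statements.S0638
import Cfsg.Agent.Lib.H22.CyclicIndexP

set_option autoImplicit false
open Cfsg

namespace Cfsg.Agent.S0638

open Cfsg.Agent.Lib.H22

/-- The preimage of the elements of order dividing `p` of the abelian quotient `R ⧸ N`. -/
def preOmega {R : Type*} [Group R] (p : ℕ) (N : Subgroup R) [hN : N.Normal]
    (hab : ∀ a b : R ⧸ N, a * b = b * a) : Subgroup R where
  carrier := {x | x ^ p ∈ N}
  one_mem' := by
    show (1 : R) ^ p ∈ N
    rw [one_pow]; exact N.one_mem
  mul_mem' := by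
    intro a b ha hb
    show (a * b) ^ p ∈ N
    have ha' : ((a : R ⧸ N)) ^ p = 1 := by
      rw [← QuotientGroup.mk_pow]; exact (QuotientGroup.eq_one_iff _).mpr ha
    have hb' : ((b : R ⧸ N)) ^ p = 1 := by
      rw [← QuotientGroup.mk_pow]; exact (QuotientGroup.eq_one_iff _).mpr hb
    rw [← QuotientGroup.eq_one_iff, QuotientGroup.mk_pow, QuotientGroup.mk_mul,
      (show Commute (a : R ⧸ N) (b : R ⧸ N) from hab _ _).mul_pow, ha', hb', one_mul]
  inv_mem' := by
    intro a ha
    show (a⁻¹) ^ p ∈ N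
    rw [inv_pow]; exact N.inv_mem ha

theorem mem_preOmega {R : Type*} [Group R] (p : ℕ) (N : Subgroup R) [hN : N.Normal]
    (hab : ∀ a b : R ⧸ N, a * b = b * a) (x : R) : x ∈ preOmega p N hab ↔ x ^ p ∈ N := Iff.rfl

/-- For odd p, in a non-cyclic metacyclic p-group the elements of order dividing p generate an elementary abelian subgroup of order p². -/
theorem result {R : Type*} [Group R] [Finite R] {p : ℕ} [Fact p.Prime] (hp : p ≠ 2) (hR : IsPGroup p R) (hm : Cfsg.IsMetacyclic R) (hnc : ¬ IsCyclic R) : Cfsg.IsElementaryAbelian p (Cfsg.omegaOne p (⊤ : Subgroup R)) ∧ Nat.card ↥(Cfsg.omegaOne p (⊤ : Subgroup R)) = p ^ 2 := by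
  have hp' : Fact p.Prime := inferInstance
  obtain ⟨N, hNn, hNc, hQc⟩ := hm
  have hab : ∀ a b : R ⧸ N, a * b = b * a := fun a b =>
    (IsCyclic.commGroup (α := R ⧸ N)).mul_comm a b
  set L := preOmega p N hab with hL
  have hNL : N ≤ L := by
    intro x hx
    rw [hL, mem_preOmega]
    exact N.pow_mem hx p
  have hpowL : ∀ x : R, x ^ p = 1 → x ∈ L := by
    intro x hx
    rw [hL, mem_preOmega, hx]; exact N.one_mem
  -- L is not cyclic
  have hLnc : ¬ IsCyclic L := by
    intro hLc
    apply hnc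
    apply isCyclic_of_atMostOne_of_odd hp _ R rfl hR
    intro H₁ H₂ h₁ h₂
    have hle : ∀ H : Subgroup R, Nat.card H = p → H ≤ L := by
      intro H hH x hx
      apply hpowL
      have := pow_card_eq_one' (G := H) (x := ⟨x, hx⟩)
      rw [hH] at this
      simpa using congrArg Subtype.val this
    have hamo := atMostOne_of_isCyclic p hp'.out.pos (G := ↥L)
    have h1 : Nat.card (H₁.subgroupOf L) = p := by
      rw [Nat.card_congr (Subgroup.subgroupOfEquivOfLe (hle H₁ h₁)).toEquiv, h₁]
    have h2 : Nat.card (H₂.subgroupOf L) = p := by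
      rw [Nat.card_congr (Subgroup.subgroupOfEquivOfLe (hle H₂ h₂)).toEquiv, h₂]
    have h3 := hamo _ _ h1 h2
    rw [Subgroup.subgroupOf_inj, inf_eq_left.mpr (hle H₁ h₁), inf_eq_left.mpr (hle H₂ h₂)] at h3
    exact h3
  -- N has index p in L
  have hcycC : IsCyclic (N.subgroupOf L) := by
    have e := Subgroup.subgroupOfEquivOfLe hNL
    exact isCyclic_of_surjective e.symm e.symm.surjective
  have hidx : (N.subgroupOf L).index = p := by
    let f : L →* R ⧸ N := (QuotientGroup.mk' N).comp L.subtype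
    have hker : f.ker = N.subgroupOf L := by
      ext x
      rw [MonoidHom.mem_ker, Subgroup.mem_subgroupOf]
      show ((x : R) : R ⧸ N) = 1 ↔ _
      exact QuotientGroup.eq_one_iff _
    have hle : (N.subgroupOf L).index ≤ p := by
      rw [← hker, Subgroup.index_ker]
      have hamo := atMostOne_of_isCyclic p hp'.out.pos (G := R ⧸ N)
      apply hamo.card_le_of_forall_pow_eq_one
      rintro _ ⟨x, rfl⟩
      show ((x : R) : R ⧸ N) ^ p = 1
      rw [← QuotientGroup.mk_pow]
      exact (QuotientGroup.eq_one_iff _).mpr x.2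
    have hdvd : (N.subgroupOf L).index ∣ Nat.card L := Subgroup.index_dvd_card _
    obtain ⟨k, hk⟩ := (IsPGroup.iff_card).mp (hR.to_subgroup L)
    rw [hk] at hdvd
    obtain ⟨j, -, hj⟩ := (Nat.dvd_prime_pow hp'.out).mp hdvd
    have hj0 : j ≠ 0 := by
      intro h0
      rw [h0, pow_zero] at hj
      apply hLnc
      have : N.subgroupOf L = ⊤ := Subgroup.index_eq_one.mp hj
      have e : (N.subgroupOf L) ≃* L := (MulEquiv.subgroupCongr this).trans Subgroup.topEquiv
      exact isCyclic_of_surjective e e.surjective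
    have hj1 : j ≤ 1 := by
      by_contra hgt
      push Not at hgt
      have : p ^ 2 ≤ p ^ j := Nat.pow_le_pow_right hp'.out.pos hgt
      rw [← hj] at this
      have h2 : p < p ^ 2 := by
        calc p = p ^ 1 := (pow_one p).symm
          _ < p ^ 2 := Nat.pow_lt_pow_right hp'.out.one_lt (by norm_num)
      omega
    have : j = 1 := by omega
    rw [hj, this, pow_one]
  have hLp : IsPGroup p L := hR.to_subgroup L
  have hcard := card_ker_powHomOfCyclicIndexP hp hLp hLnc (N.subgroupOf L) hcycC hidx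
  have hKmem : ∀ x : L, x ∈ (powHomOfCyclicIndexP hp hLp (N.subgroupOf L) hcycC hidx).ker ↔
      x ^ p = 1 := by
    intro x
    rw [MonoidHom.mem_ker, powHomOfCyclicIndexP_apply]
  set K := (powHomOfCyclicIndexP hp hLp (N.subgroupOf L) hcycC hidx).ker with hKdef
  have heq : Cfsg.omegaOne p (⊤ : Subgroup R) = K.map L.subtype := by
    unfold Cfsg.omegaOne
    apply le_antisymm
    · rw [Subgroup.closure_le]
      rintro x ⟨-, hx⟩
      refine ⟨⟨x, hpowL x hx⟩, ?_, rfl⟩
      rw [SetLike.mem_coe, hKmem]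
      exact Subtype.ext hx
    · rintro _ ⟨x, hx, rfl⟩
      rw [SetLike.mem_coe, hKmem] at hx
      apply Subgroup.subset_closure
      exact ⟨Subgroup.mem_top _, by simpa using congrArg Subtype.val hx⟩
  have hcard' : Nat.card (K.map L.subtype) = p ^ 2 := by
    rw [Subgroup.card_map_of_injective L.subtype_injective, hcard]
  rw [heq]
  refine ⟨⟨?_, ?_⟩, hcard'⟩
  · exact IsPGroup.isMulCommutative_of_card_eq_prime_sq hcard'
  · rintro _ ⟨x, hx, rfl⟩
    rw [SetLike.mem_coe, hKmem] at hx
    simpa using congrArg Subtype.val hx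

end Cfsg.Agent.S0638
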