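import Cfsg.Statements.S0640
import Mathlib
import Cfsg.Agent.S0093
import Cfsg.Agent.S0120
import Cfsg.Agent.S0121
import Cfsg.Agent.Lib.H16.ClassTwo
import Cfsg.Agent.Lib.H1.PGroupBasic
import Cfsg.Agent.Lib.H4.ZJInst

set_option autoImplicit false
open Cfsg

namespace Cfsg.Agent.S0640

open scoped commutatorElement

theorem arith {p q k j : ℕ} (hp : p.Prime) (hq : q.Prime) (hqp : q ≠ p) (hjk : j < k)
    (hk : k ≤ j + 2) (h : p ^ k ≡ p ^ j [MOD q]) : q ∣ p ^ 2 - 1 := by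
  obtain ⟨d, rfl⟩ : ∃ d, k = j + d := ⟨k - j, by omega⟩
  have hd1 : 1 ≤ d := by omega
  have hd2 : d ≤ 2 := by omega
  have hcop : Nat.gcd q (p ^ j) = 1 := by
    apply Nat.Coprime.pow_right
    exact (Nat.coprime_primes hq hp).2 hqp
  have h1 : p ^ j * p ^ d ≡ p ^ j * 1 [MOD q] := by
    rw [mul_one, ← pow_add]; exact h
  have h2 : p ^ d ≡ 1 [MOD q] := Nat.ModEq.cancel_left_of_coprime hcop h1
  have h3 : p ^ 2 ≡ 1 [MOD q] := by
    interval_cases d
    · have := h2.pow 2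
      simpa using this
    · exact h2
  exact (Nat.modEq_iff_dvd' (Nat.one_le_pow 2 p hp.pos)).1 h3.symm

theorem lt_of_dvd_sq_sub_one {p q : ℕ} (hp : p.Prime) (hp2 : p ≠ 2) (hq : q.Prime) (hqp : q ≠ p)
    (h : q ∣ p ^ 2 - 1) : q < p := by
  have hp3 : 3 ≤ p := by
    have := hp.two_le
    omega
  have h1 : p ^ 2 - 1 = (p - 1) * (p + 1) := by
    obtain ⟨m, rfl⟩ : ∃ m, p = m + 1 := ⟨p - 1, by omega⟩
    simp only [Nat.add_sub_cancel]
    have : (m + 1) ^ 2 = m * (m + 1 + 1) + 1 := by ring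
    rw [this, Nat.add_sub_cancel]
  rw [h1] at h
  rcases (Nat.Prime.dvd_mul hq).1 h with h2 | h2
  · have := Nat.le_of_dvd (by omega) h2
    omega
  · obtain ⟨m, hm⟩ := h2
    have hodd : Odd p := hp.odd_of_ne_two hp2
    obtain ⟨r, hr⟩ := hodd
    rcases Nat.lt_or_ge m 2 with hm2 | hm2
    · interval_cases m
      · omega
      · -- q = p + 1 is even
        have hq2 : q = 2 * (r + 1) := by omega
        have : q = 2 := by
          rcases (Nat.dvd_prime hq).1 ⟨r + 1, hq2⟩ with h3 | h3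
          · omega
          · exact h3.symm
        omega
    · have : 2 * q ≤ q * m := by nlinarith
      omega

variable {R : Type*} [Group R]

/-- the fixed points of `α` in `D` -/
def fixSub (α : MulAut R) (D : Subgroup R) : Subgroup R where
  carrier := {x | x ∈ D ∧ α x = x}
  mul_mem' := by
    rintro a b ⟨ha, ha'⟩ ⟨hb, hb'⟩
    exact ⟨D.mul_mem ha hb, by rw [map_mul, ha', hb']⟩
  one_mem' := ⟨D.one_mem, map_one α⟩
  inv_mem' := by
    rintro a ⟨ha, ha'⟩
    exact ⟨D.inv_mem ha, by rw [map_inv, ha']⟩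

theorem fixSub_le (α : MulAut R) (D : Subgroup R) : fixSub α D ≤ D := fun _ h => h.1

theorem card_modEq [Finite R] {q : ℕ} [hq : Fact q.Prime] (α : MulAut R) (hα : α ^ q = 1)
    (D : Subgroup R) (hD : ∀ x ∈ D, α x ∈ D) :
    Nat.card D ≡ Nat.card (fixSub α D) [MOD q] := by
  classical
  haveI : Fintype ↥D := Fintype.ofFinite _
  let f : Function.End ↥D := fun e => ⟨α e, hD e e.2⟩
  have hpow : ∀ (k : ℕ) (e : ↥D), (((f ^ k) e : ↥D) : R) = (α ^ k) e := by
    intro k
    induction k with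
    | zero => intro e; rfl
    | succ k ih =>
      intro e
      rw [pow_succ', pow_succ']
      show ((f ((f ^ k) e) : ↥D) : R) = α ((α ^ k) e)
      rw [← ih e]
  have hf : f ^ q ^ 1 = 1 := by
    rw [pow_one]
    funext e
    apply Subtype.ext
    rw [hpow, hα]
    rfl
  have h1 := Equiv.Perm.card_fixedPoints_modEq (p := q) hf
  have h2 : Fintype.card (Function.fixedPoints f) = Nat.card (fixSub α D) := by
    rw [← Nat.card_eq_fintype_card]
    apply Nat.card_congr
    refine ⟨fun e => ⟨e.1.1, e.1.2, congrArg Subtype.val e.2⟩,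
      fun x => ⟨⟨x.1, x.2.1⟩, Subtype.ext x.2.2⟩, fun e => rfl, fun x => rfl⟩
  rw [← Nat.card_eq_fintype_card, h2] at h1
  exact h1

open Cfsg.Agent.Lib

section structure_lemmas

variable [Finite R] {p : ℕ} [hp : Fact p.Prime]

theorem p_mul_card_le {H K : Subgroup R} (hK : IsPGroup p K) (hlt : H < K) :
    p * Nat.card H ≤ Nat.card K := by
  have h1 := Subgroup.relIndex_mul_relIndex (⊥ : Subgroup R) H K bot_le hlt.le
  rw [Subgroup.relIndex_bot_left, Subgroup.relIndex_bot_left] at h1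
  obtain ⟨n, hn⟩ := IsPGroup.iff_card.1 hK
  have h2 : H.relIndex K ∣ p ^ n := by rw [← hn, ← h1]; exact dvd_mul_left _ _
  obtain ⟨j, _, hj⟩ := (Nat.dvd_prime_pow hp.out).1 h2
  have hj0 : j ≠ 0 := by
    intro h0
    rw [h0, pow_zero, Subgroup.relIndex_eq_one] at hj
    exact (not_le_of_gt hlt) hj
  have h3 : p ∣ H.relIndex K := by rw [hj]; exact dvd_pow_self p hj0
  have h4 : p ≤ H.relIndex K :=
    Nat.le_of_dvd (Nat.pos_of_ne_zero (by rw [hj]; exact pow_ne_zero _ hp.out.ne_zero)) h3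
  rw [← h1, mul_comm]
  exact Nat.mul_le_mul_left _ h4

theorem p_le_card {K : Subgroup R} (hK : IsPGroup p K) (hne : K ≠ ⊥) : p ≤ Nat.card K := by
  have := p_mul_card_le hK (bot_lt_iff_ne_bot.2 hne)
  rwa [Subgroup.card_bot, mul_one] at this

theorem comm_zp (x : R) :
    ∀ a ∈ Subgroup.zpowers x, ∀ b ∈ Subgroup.zpowers x, a * b = b * a := by
  intro a ha b hb
  obtain ⟨m, rfl⟩ := Subgroup.mem_zpowers_iff.mp ha
  obtain ⟨n, rfl⟩ := Subgroup.mem_zpowers_iff.mp hb
  exact (Commute.zpow_zpow_self x m n).eq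

theorem pow_zp {x : R} (hx : x ^ p = 1) : ∀ a ∈ Subgroup.zpowers x, a ^ p = 1 := by
  intro a ha
  obtain ⟨m, rfl⟩ := Subgroup.mem_zpowers_iff.mp ha
  rw [← zpow_natCast, ← zpow_mul, mul_comm, zpow_mul, zpow_natCast, hx, one_zpow]

theorem comm_zp_of {X : Subgroup R} {y : R} (h : ∀ x ∈ X, x * y = y * x) :
    ∀ x ∈ X, ∀ b ∈ Subgroup.zpowers y, x * b = b * x := by
  intro x hx b hb
  obtain ⟨n, rfl⟩ := Subgroup.mem_zpowers_iff.mp hb
  exact ((Commute.zpow_right (show Commute x y from h x hx) n)).eq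

/-- A nonabelian group `E` of exponent `p` and class two all of whose abelian subgroups have order
at most `p²` has order at most `p³`. -/
theorem card_le_of_nonabelian (hR : IsPGroup p R) (E : Subgroup R)
    (hexp : ∀ x ∈ E, x ^ p = 1)
    (hcl : ∀ x ∈ E, ∀ y ∈ E, ∀ z ∈ E, Commute ⁅x, y⁆ z)
    (hrk : ∀ A : Subgroup R, A ≤ E → (∀ x ∈ A, ∀ y ∈ A, x * y = y * x) → Nat.card A ≤ p ^ 2)
    (hZne : E ⊓ Subgroup.centralizer (E : Set R) ≠ ⊥)
    (hna : ¬ E ≤ Subgroup.centralizer (E : Set R)) : Nat.card E ≤ p ^ 3 := by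
  obtain ⟨Z, hZ⟩ : ∃ Z, Z = E ⊓ Subgroup.centralizer (E : Set R) := ⟨_, rfl⟩
  rw [← hZ] at hZne
  have hZE : Z ≤ E := by rw [hZ]; exact inf_le_left
  have hZc : ∀ z ∈ Z, ∀ e ∈ E, z * e = e * z := by
    intro z hz e he
    rw [hZ] at hz
    exact (Subgroup.mem_centralizer_iff.1 hz.2 e he).symm
  have hZcomm : ∀ a ∈ Z, ∀ b ∈ Z, a * b = b * a := fun a ha b hb => hZc a ha b (hZE hb)
  obtain ⟨x, hxE, hxZ⟩ := SetLike.not_le_iff_exists.1 hna
  have hxZ' : x ∉ Z := fun h => hxZ (by rw [hZ] at h; exact h.2)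
  obtain ⟨A₀, hA₀⟩ : ∃ A₀, A₀ = Z ⊔ Subgroup.zpowers x := ⟨_, rfl⟩
  have hxA₀ : x ∈ A₀ := by
    rw [hA₀]; exact (le_sup_right : Subgroup.zpowers x ≤ _) (Subgroup.mem_zpowers x)
  have hA₀E : A₀ ≤ E := by
    rw [hA₀]; exact sup_le hZE (Subgroup.zpowers_le.2 hxE)
  have hA₀c : ∀ a ∈ A₀, ∀ b ∈ A₀, a * b = b * a := by
    rw [hA₀]
    exact H4.ZJ.comm_sup hZcomm (comm_zp x) (comm_zp_of (fun z hz => hZc z hz x hxE))
  have hZlt : Z < A₀ := by
    refine lt_of_le_of_ne (by rw [hA₀]; exact le_sup_left) ?_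
    intro h
    exact hxZ' (h ▸ hxA₀)
  have hcard1 := p_mul_card_le (hR.to_subgroup A₀) hZlt
  have hcard2 := hrk A₀ hA₀E hA₀c
  have hcard3 := p_le_card (hR.to_subgroup Z) hZne
  have hA₀card : Nat.card A₀ = p ^ 2 := by
    apply le_antisymm hcard2
    calc p ^ 2 = p * p := sq p
      _ ≤ p * Nat.card Z := Nat.mul_le_mul_left _ hcard3
      _ ≤ Nat.card A₀ := hcard1
  have hZcard : Nat.card Z ≤ p := by
    have : p * Nat.card Z ≤ p * p := by rw [← sq]; exact hcard1.trans hcard2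
    exact Nat.le_of_mul_le_mul_left this hp.out.pos
  -- the centralizer of x in E
  obtain ⟨C, hC⟩ : ∃ C, C = E ⊓ Subgroup.centralizer ({x} : Set R) := ⟨_, rfl⟩
  have hCA₀ : C ≤ A₀ := by
    intro y hy
    rw [hC] at hy
    obtain ⟨hyE, hyx⟩ := hy
    have hyx' : x * y = y * x := Subgroup.mem_centralizer_iff.1 hyx x rfl
    have h1 : ∀ a ∈ A₀ ⊔ Subgroup.zpowers y, ∀ b ∈ A₀ ⊔ Subgroup.zpowers y, a * b = b * a := by
      apply H4.ZJ.comm_sup hA₀c (comm_zp y)
      apply comm_zp_of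
      rw [hA₀]
      intro a ha
      have hle : Z ⊔ Subgroup.zpowers x ≤ Subgroup.centralizer ({y} : Set R) := by
        apply sup_le
        · intro z hz
          rw [Subgroup.mem_centralizer_iff]
          intro w hw
          rw [Set.mem_singleton_iff] at hw
          subst hw
          exact (hZc z hz w hyE).symm
        · rw [Subgroup.zpowers_le, Subgroup.mem_centralizer_iff]
          intro w hw
          rw [Set.mem_singleton_iff] at hw
          subst hw
          exact hyx'.symm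
      exact (Subgroup.mem_centralizer_iff.1 (hle ha) y rfl).symm
    have h2 := hrk _ (sup_le hA₀E (Subgroup.zpowers_le.2 hyE)) h1
    have h3 : A₀ = A₀ ⊔ Subgroup.zpowers y :=
      Subgroup.eq_of_le_of_card_ge le_sup_left (by rw [hA₀card]; exact h2)
    rw [h3]
    exact (le_sup_right : Subgroup.zpowers y ≤ _) (Subgroup.mem_zpowers y)
  have hCcard : Nat.card C ≤ p ^ 2 := by
    rw [← hA₀card]; exact Subgroup.card_le_of_le hCA₀
  -- the commutator homomorphism
  have hcomm_mem : ∀ e ∈ E, ⁅e, x⁆ ∈ E := fun e he =>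
    E.mul_mem (E.mul_mem (E.mul_mem he hxE) (E.inv_mem he)) (E.inv_mem hxE)
  let ψ : ↥E →* ↥E :=
    { toFun := fun e => ⟨⁅(e : R), x⁆, hcomm_mem e e.2⟩
      map_one' := by
        apply Subtype.ext
        show ⁅(1 : R), x⁆ = 1
        rw [commutatorElement_one_left]
      map_mul' := by
        intro e e'
        apply Subtype.ext
        show ⁅(e : R) * (e' : R), x⁆ = ⁅(e : R), x⁆ * ⁅(e' : R), x⁆
        have h1 : Commute ⁅(e' : R), x⁆ (e : R) := hcl _ e'.2 _ hxE _ e.2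
        have h2 : Commute ⁅(e' : R), x⁆ ⁅(e : R), x⁆ := hcl _ e'.2 _ hxE _ (hcomm_mem e e.2)
        calc ⁅(e : R) * (e' : R), x⁆ = (e : R) * ⁅(e' : R), x⁆ * (e : R)⁻¹ * ⁅(e : R), x⁆ := by
              simp only [commutatorElement_def]; group
          _ = ⁅(e' : R), x⁆ * (e : R) * (e : R)⁻¹ * ⁅(e : R), x⁆ := by rw [h1.eq]
          _ = ⁅(e' : R), x⁆ * ⁅(e : R), x⁆ := by group
          _ = ⁅(e : R), x⁆ * ⁅(e' : R), x⁆ := h2.eq }
  have hker : Nat.card ψ.ker ≤ Nat.card C := by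
    have hle : ψ.ker.map E.subtype ≤ C := by
      rintro _ ⟨e, he, rfl⟩
      have he0 : ψ e = 1 := MonoidHom.mem_ker.1 he
      have he' : ⁅(e : R), x⁆ = 1 := congrArg Subtype.val he0
      rw [hC]
      refine ⟨e.2, ?_⟩
      show (e : R) ∈ Subgroup.centralizer ({x} : Set R)
      rw [Subgroup.mem_centralizer_iff]
      intro w hw
      rw [Set.mem_singleton_iff] at hw
      subst hw
      exact (commutatorElement_eq_one_iff_mul_comm.1 he').symm
    calc Nat.card ψ.ker = Nat.card (ψ.ker.map E.subtype) :=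
          (Subgroup.card_map_of_injective E.subtype_injective).symm
      _ ≤ Nat.card C := Subgroup.card_le_of_le hle
  have hrange : Nat.card ψ.range ≤ Nat.card Z := by
    have hle : ψ.range.map E.subtype ≤ Z := by
      rintro _ ⟨_, ⟨e, rfl⟩, rfl⟩
      rw [hZ]
      refine ⟨hcomm_mem e e.2, ?_⟩
      show ⁅(e : R), x⁆ ∈ Subgroup.centralizer (E : Set R)
      rw [Subgroup.mem_centralizer_iff]
      intro w hw
      exact ((hcl _ e.2 _ hxE w hw).eq).symm
    calc Nat.card ψ.range = Nat.card (ψ.range.map E.subtype) :=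
          (Subgroup.card_map_of_injective E.subtype_injective).symm
      _ ≤ Nat.card Z := Subgroup.card_le_of_le hle
  have hE : Nat.card E = Nat.card ψ.ker * Nat.card ψ.range := by
    rw [← Subgroup.index_ker, Subgroup.card_mul_index]
  rw [hE]
  calc Nat.card ψ.ker * Nat.card ψ.range ≤ p ^ 2 * p :=
        Nat.mul_le_mul (hker.trans hCcard) (hrange.trans hZcard)
    _ = p ^ 3 := by ring

end structure_lemmas

section main

variable [Finite R] {p : ℕ} [hp : Fact p.Prime]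

/-- `Ω₁` of a subgroup `H` of class at most two, `p` odd. -/
def omegaSub (p : ℕ) (H : Subgroup R) (hodd : Odd p)
    (hcl : ∀ x ∈ H, ∀ y ∈ H, ∀ z ∈ H, Commute ⁅x, y⁆ z) : Subgroup R where
  carrier := {x | x ∈ H ∧ x ^ p = 1}
  mul_mem' := by
    rintro a b ⟨ha, ha'⟩ ⟨hb, hb'⟩
    refine ⟨H.mul_mem ha hb, ?_⟩
    have hc : b * a = a * b * ⁅b⁻¹, a⁻¹⁆ := by rw [commutatorElement_def]; group
    exact H16.mul_pow_eq_one_of_central hc (hcl _ (H.inv_mem hb) _ (H.inv_mem ha) a ha)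
      (hcl _ (H.inv_mem hb) _ (H.inv_mem ha) b hb) hodd ha' hb'
  one_mem' := ⟨H.one_mem, one_pow p⟩
  inv_mem' := by
    rintro a ⟨ha, ha'⟩
    exact ⟨H.inv_mem ha, by rw [inv_pow, ha', inv_one]⟩

theorem key (hp2 : p ≠ 2) (hR : IsPGroup p R) (hrk : Cfsg.PRankLE p 2 R) {q : ℕ}
    [hq : Fact q.Prime] (hqp : q ≠ p) (α : MulAut R) (hα : orderOf α = q) : q ∣ p ^ 2 - 1 := by
  have hpp : p.Prime := hp.out
  have hodd : Odd p := hpp.odd_of_ne_two hp2
  have hαq : α ^ q = 1 := by rw [← hα]; exact pow_orderOf_eq_one α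
  have hcop : Nat.Coprime (orderOf α) p := by
    rw [hα]; exact (Nat.coprime_primes hq.out hpp).2 hqp
  obtain ⟨H, hHchar, h1, h2, h3⟩ := Cfsg.Agent.S0093.result hR
  have hHmap : ∀ φ : MulAut R, ∀ x ∈ H, φ x ∈ H := by
    intro φ x hx
    have := (Subgroup.characteristic_iff_map_le.1 hHchar) φ
    exact this ⟨x, hx, rfl⟩
  have hcl : ∀ x ∈ H, ∀ y ∈ H, ∀ z ∈ H, Commute ⁅x, y⁆ z := by
    intro x hx y _ z hz
    have h4 : ⁅x, y⁆ ∈ ⁅H, (⊤ : Subgroup R)⁆ :=
      Subgroup.commutator_mem_commutator hx (Subgroup.mem_top y)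
    exact (Subgroup.mem_centralizer_iff.1 (h2 h4).2 z hz).symm
  obtain ⟨E, hE⟩ : ∃ E, E = omegaSub p H hodd hcl := ⟨_, rfl⟩
  have hEmem : ∀ x, x ∈ E ↔ x ∈ H ∧ x ^ p = 1 := by
    intro x; rw [hE]; rfl
  have hEH : E ≤ H := fun x hx => ((hEmem x).1 hx).1
  have hEmap : ∀ φ : MulAut R, ∀ x ∈ E, φ x ∈ E := by
    intro φ x hx
    rw [hEmem] at hx ⊢
    exact ⟨hHmap φ x hx.1, by rw [← map_pow, hx.2, map_one]⟩
  -- α acts nontrivially on E
  have hβ : MulAut.characteristic H α ≠ 1 := by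
    intro hβ1
    have hfix : ∀ x ∈ H, α x = x := by
      intro x hx
      have h5 : ((MulAut.characteristic H α ⟨x, hx⟩ : H) : R) = α x := rfl
      rw [hβ1] at h5
      exact h5.symm
    have := Cfsg.Agent.S0121.result hR H hHchar h1 h2 h3 α hcop hfix
    rw [this, orderOf_one] at hα
    exact hq.out.one_lt.ne hα
  have hβcop : Nat.Coprime (orderOf (MulAut.characteristic H α)) p :=
    Nat.Coprime.coprime_dvd_left (orderOf_map_dvd _ α) hcop
  have hmove : ∃ y ∈ E, α y ≠ y := by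
    by_contra hcon
    push Not at hcon
    apply hβ
    apply Cfsg.Agent.S0120.result hp2 (hR.to_subgroup H) _ hβcop
    intro x hx
    apply Subtype.ext
    have h5 : ((MulAut.characteristic H α x : H) : R) = α (x : R) := rfl
    rw [h5]
    apply hcon
    rw [hEmem]
    exact ⟨x.2, by have := congrArg Subtype.val hx; simpa using this⟩
  obtain ⟨y, hyE, hy⟩ := hmove
  -- structure of E
  have hexp : ∀ x ∈ E, x ^ p = 1 := fun x hx => ((hEmem x).1 hx).2
  have hclE : ∀ x ∈ E, ∀ y ∈ E, ∀ z ∈ E, Commute ⁅x, y⁆ z :=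
    fun x hx y hy z hz => hcl x (hEH hx) y (hEH hy) z (hEH hz)
  have hrkE : ∀ A : Subgroup R, A ≤ E → (∀ x ∈ A, ∀ y ∈ A, x * y = y * x) →
      Nat.card A ≤ p ^ 2 := by
    intro A hAE hAc
    exact hrk A ((H4.ZJ.isMulCommutative_iff A).2 hAc) (fun a ha => hexp a (hAE ha))
  obtain ⟨Z, hZ⟩ : ∃ Z, Z = E ⊓ Subgroup.centralizer (E : Set R) := ⟨_, rfl⟩
  have hZE : Z ≤ E := by rw [hZ]; exact inf_le_left
  have hEne : E ≠ ⊥ := by
    intro hbot
    rw [hbot, Subgroup.mem_bot] at hyE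
    rw [hyE, map_one] at hy
    exact hy rfl
  have hZne : Z ≠ ⊥ := by
    haveI : Nontrivial ↥E := (Subgroup.nontrivial_iff_ne_bot E).2 hEne
    haveI := (hR.to_subgroup E).center_nontrivial
    obtain ⟨z, hz⟩ := exists_ne (1 : Subgroup.center ↥E)
    intro hbot
    have hzZ : ((z : ↥E) : R) ∈ Z := by
      rw [hZ]
      refine ⟨(z : ↥E).2, ?_⟩
      show ((z : ↥E) : R) ∈ Subgroup.centralizer (E : Set R)
      rw [Subgroup.mem_centralizer_iff]
      intro e he
      have := Subgroup.mem_center_iff.1 z.2 ⟨e, he⟩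
      exact congrArg Subtype.val this
    rw [hbot, Subgroup.mem_bot] at hzZ
    apply hz
    apply Subtype.ext
    apply Subtype.ext
    exact hzZ
  have hZmap : ∀ x ∈ Z, α x ∈ Z := by
    intro x hx
    rw [hZ] at hx ⊢
    refine ⟨hEmap α x hx.1, ?_⟩
    show α x ∈ Subgroup.centralizer (E : Set R)
    rw [Subgroup.mem_centralizer_iff]
    intro e he
    have he' : α⁻¹ e ∈ E := hEmap α⁻¹ e he
    have h5 := Subgroup.mem_centralizer_iff.1 hx.2 _ he'
    have h6 := congrArg α h5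
    rw [map_mul, map_mul] at h6
    have h7 : α (α⁻¹ e) = e := by
      rw [← MulAut.mul_apply, mul_inv_cancel, MulAut.one_apply]
    rw [h7] at h6
    exact h6
  have hZcomm : ∀ a ∈ Z, ∀ b ∈ Z, a * b = b * a := by
    intro a ha b hb
    rw [hZ] at ha
    exact (Subgroup.mem_centralizer_iff.1 ha.2 b (hZE hb)).symm
  have hZcard : Nat.card Z ≤ p ^ 2 := hrkE Z hZE hZcomm
  -- counting
  have hc1 := card_modEq α hαq Z hZmap
  have hc2 := card_modEq α hαq E (hEmap α)
  obtain ⟨z, hz⟩ := IsPGroup.iff_card.1 (hR.to_subgroup Z)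
  obtain ⟨z', hz'⟩ := IsPGroup.iff_card.1 (hR.to_subgroup (fixSub α Z))
  obtain ⟨k, hk⟩ := IsPGroup.iff_card.1 (hR.to_subgroup E)
  obtain ⟨j, hj⟩ := IsPGroup.iff_card.1 (hR.to_subgroup (fixSub α E))
  have hplt : ∀ {a b : ℕ}, p ^ a < p ^ b → a < b := fun h =>
    (Nat.pow_lt_pow_iff_right hpp.one_lt).1 h
  have hple : ∀ {a b : ℕ}, p ^ a ≤ p ^ b → a ≤ b := fun h =>
    (Nat.pow_le_pow_iff_right hpp.one_lt).1 h
  have hlt_card : ∀ {A B : Subgroup R}, A < B → Nat.card A < Nat.card B := by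
    intro A B hAB
    have := p_mul_card_le (hR.to_subgroup B) hAB
    have h0 : 0 < Nat.card A := Nat.card_pos
    have : 2 * Nat.card A ≤ p * Nat.card A := Nat.mul_le_mul_right _ hpp.two_le
    omega
  by_cases hfixZ : fixSub α Z = Z
  · -- Z is fixed; then E is nonabelian
    have hZF : Z ≤ fixSub α E := by
      intro x hx
      have : x ∈ fixSub α Z := by rw [hfixZ]; exact hx
      exact ⟨hZE this.1, this.2⟩
    have hFlt : fixSub α E < E := by
      refine lt_of_le_of_ne (fixSub_le α E) ?_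
      intro h
      have : y ∈ fixSub α E := by rw [h]; exact hyE
      exact hy this.2
    have hna : ¬ E ≤ Subgroup.centralizer (E : Set R) := by
      intro hab
      have hZeq : Z = E := by rw [hZ]; exact inf_eq_left.2 hab
      have : y ∈ fixSub α E := hZF (by rw [hZeq]; exact hyE)
      exact hy this.2
    have hE3 := card_le_of_nonabelian hR E hexp hclE hrkE (by rw [← hZ]; exact hZne) hna
    have hk3 : k ≤ 3 := by rw [hk] at hE3; exact hple hE3
    have hj1 : 1 ≤ j := by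
      have h5 : p ≤ Nat.card Z := p_le_card (hR.to_subgroup Z) hZne
      have h6 : Nat.card Z ≤ Nat.card (fixSub α E) := Subgroup.card_le_of_le hZF
      rw [hj] at h6
      have : p ^ 1 ≤ p ^ j := by rw [pow_one]; exact h5.trans h6
      exact hple this
    have hjk : j < k := by
      have := hlt_card hFlt
      rw [hj, hk] at this
      exact hplt this
    rw [hk, hj] at hc2
    exact arith hpp hq.out hqp hjk (by omega) hc2
  · have hFlt : fixSub α Z < Z := lt_of_le_of_ne (fixSub_le α Z) hfixZ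
    have hz2 : z ≤ 2 := by rw [hz] at hZcard; exact hple hZcard
    have hzz : z' < z := by
      have := hlt_card hFlt
      rw [hz, hz'] at this
      exact hplt this
    rw [hz, hz'] at hc1
    exact arith hpp hq.out hqp hzz (by omega) hc1

end main


/-- For odd p, a prime q ≠ p dividing the order of the automorphism group of a p-group of rank at most 2 divides p² - 1 and is less than p. -/
theorem result {R : Type*} [Group R] [Finite R] {p : ℕ} [Fact p.Prime] (hp : p ≠ 2) (hR : IsPGroup p R) (hrk : Cfsg.PRankLE p 2 R) (q : ℕ) (hq : q.Prime) (hqp : q ≠ p) (hdvd : q ∣ Nat.card (MulAut R)) : q ∣ p ^ 2 - 1 ∧ q < p := by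
  haveI : Fact q.Prime := ⟨hq⟩
  obtain ⟨α, hα⟩ := exists_prime_orderOf_dvd_card' q hdvd
  have h1 := key hp hR hrk hqp α hα
  exact ⟨h1, lt_of_dvd_sq_sub_one Fact.out hp hq hqp h1⟩

end Cfsg.Agent.S0640
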