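import Cfsg.Statements.S0641
import Mathlib

set_option autoImplicit false
open Cfsg

namespace Cfsg.Agent.S0641

/-- image of the power closure under a hom -/
theorem map_powerClosure_le {G G' : Type*} [Group G] [Group G'] (f : G →* G') (p n : ℕ)
    (H : Subgroup G) :
    (Cfsg.powerClosure p n H).map f ≤ Cfsg.powerClosure p n (H.map f) := by
  unfold Cfsg.powerClosure
  rw [MonoidHom.map_closure]
  apply Subgroup.closure_mono
  rintro _ ⟨y, ⟨x, hx, rfl⟩, rfl⟩
  exact ⟨f x, Subgroup.mem_map_of_mem f hx, by rw [map_pow]⟩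

theorem map_closure_pair {G G' : Type*} [Group G] [Group G'] (f : G →* G') (a b : G) :
    (Subgroup.closure ({a, b} : Set G)).map f = Subgroup.closure ({f a, f b} : Set G') := by
  rw [MonoidHom.map_closure, Set.image_pair]

/-- regularity passes to homomorphic images -/
theorem regular_of_surjective {G G' : Type*} [Group G] [Group G'] {p : ℕ} [Fact p.Prime]
    (hG : Cfsg.IsRegularPGroup p G) (f : G →* G') (hf : Function.Surjective f) :
    Cfsg.IsRegularPGroup p G' := by
  refine ⟨hG.1.of_surjective f hf, ?_⟩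
  intro a' b' n
  obtain ⟨a, rfl⟩ := hf a'
  obtain ⟨b, rfl⟩ := hf b'
  obtain ⟨c, hc, hcab⟩ := hG.2 a b n
  refine ⟨f c, ?_, ?_⟩
  · have h1 : f c ∈ (Cfsg.powerClosure p n
        ⁅Subgroup.closure ({a, b} : Set G), Subgroup.closure ({a, b} : Set G)⁆).map f :=
      Subgroup.mem_map_of_mem f hc
    have h2 := map_powerClosure_le f p n _ h1
    rw [Subgroup.map_commutator, map_closure_pair] at h2
    exact h2
  · rw [← map_mul, ← map_pow, hcab, map_mul, map_mul, map_pow, map_pow]

/-- Regularity of a p-group passes to quotient groups. -/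
theorem result {G : Type*} [Group G] {p : ℕ} [Fact p.Prime] (hG : Cfsg.IsRegularPGroup p G) (N : Subgroup G) [N.Normal] : Cfsg.IsRegularPGroup p (G ⧸ N) :=
  regular_of_surjective hG (QuotientGroup.mk' N) (QuotientGroup.mk'_surjective N)

end Cfsg.Agent.S0641
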