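import Cfsg.Statements.S0642
import Cfsg.Agent.S0641

set_option autoImplicit false
open Cfsg

namespace Cfsg.Agent.S0642

open scoped commutatorElement

universe u

theorem powerClosure_map_eq {G G' : Type*} [Group G] [Group G'] (f : G →* G') (p n : ℕ)
    (H : Subgroup G) :
    Cfsg.powerClosure p n (H.map f) = (Cfsg.powerClosure p n H).map f := by
  apply le_antisymm _ (Cfsg.Agent.S0641.map_powerClosure_le f p n H)
  unfold Cfsg.powerClosure
  rw [Subgroup.closure_le]
  rintro _ ⟨y, ⟨x, hx, rfl⟩, rfl⟩
  refine ⟨x ^ p ^ n, Subgroup.subset_closure ⟨x, hx, rfl⟩, by rw [map_pow]⟩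

/-- regularity passes to subgroups -/
theorem regular_subgroup {G : Type*} [Group G] {p : ℕ} [Fact p.Prime]
    (hG : Cfsg.IsRegularPGroup p G) (H : Subgroup G) : Cfsg.IsRegularPGroup p H := by
  refine ⟨hG.1.to_subgroup H, ?_⟩
  intro a b n
  obtain ⟨c, hc, hcab⟩ := hG.2 a b n
  have hpair : Subgroup.closure ({(a : G), (b : G)} : Set G) =
      (Subgroup.closure ({a, b} : Set H)).map H.subtype := by
    rw [Cfsg.Agent.S0641.map_closure_pair]; rfl
  rw [hpair, ← Subgroup.map_commutator, powerClosure_map_eq] at hc
  obtain ⟨c', hc', rfl⟩ := hc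
  refine ⟨c', hc', ?_⟩
  apply Subtype.ext
  simpa using hcab

theorem closure_comm {Q : Type*} [Group Q] (k : Set Q) (hk : ∀ x ∈ k, ∀ y ∈ k, x * y = y * x) :
    ∀ x ∈ Subgroup.closure k, ∀ y ∈ Subgroup.closure k, x * y = y * x := by
  have hA : Subgroup.closure k ≤ Subgroup.centralizer k := by
    rw [Subgroup.closure_le]
    intro x hx
    rw [SetLike.mem_coe, Subgroup.mem_centralizer_iff]
    intro y hy
    exact hk y hy x hx
  have hB : Subgroup.closure k ≤ Subgroup.centralizer (Subgroup.closure k : Set Q) := by
    rw [Subgroup.closure_le]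
    intro y hy
    rw [SetLike.mem_coe, Subgroup.mem_centralizer_iff]
    intro x hx
    have := hA hx
    rw [Subgroup.mem_centralizer_iff] at this
    exact (this y hy).symm
  intro x hx y hy
  have := hB hy
  rw [Subgroup.mem_centralizer_iff] at this
  exact this x hx

theorem main (n : ℕ) : ∀ (G : Type u) [Group G] [Finite G], Nat.card G = n → IsPGroup 2 G →
    Cfsg.IsRegularPGroup 2 G → ∀ a b : G, a * b = b * a := by
  induction n using Nat.strong_induction_on with
  | _ n IH =>
    intro G _ _ hcard hP hreg a b
    haveI : Fact (Nat.Prime 2) := ⟨Nat.prime_two⟩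
    by_contra hab
    -- closure {a,b} = ⊤
    have htop : Subgroup.closure ({a, b} : Set G) = ⊤ := by
      by_contra hne
      set H := Subgroup.closure ({a, b} : Set G) with hH
      have hlt : Nat.card H < n := by
        rw [← hcard]
        have hle : Nat.card H ≤ Nat.card G := Subgroup.card_le_card_group H
        rcases Nat.lt_or_ge (Nat.card H) (Nat.card G) with h | h
        · exact h
        · exact absurd (Subgroup.eq_top_of_card_eq H (le_antisymm hle h)) hne
      have ha : a ∈ H := Subgroup.subset_closure (by simp)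
      have hb : b ∈ H := Subgroup.subset_closure (by simp)
      have := IH _ hlt H rfl (hP.to_subgroup H) (regular_subgroup hreg H) ⟨a, ha⟩ ⟨b, hb⟩
      exact hab (congrArg Subtype.val this)
    -- quotients by nontrivial normal subgroups are abelian
    have hquot : ∀ N : Subgroup G, N.Normal → N ≠ ⊥ → ∀ x y : G, ⁅x, y⁆ ∈ N := by
      intro N hN hNne x y
      have hlt : Nat.card (G ⧸ N) < n := by
        rw [← hcard, ← Subgroup.index_eq_card, ← Subgroup.card_mul_index N]
        have h1 : 1 < Nat.card N := by
          rw [Finite.one_lt_card_iff_nontrivial]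
          exact (Subgroup.nontrivial_iff_ne_bot N).mpr hNne
        have h2 : 0 < N.index := Nat.pos_of_ne_zero Subgroup.index_ne_zero_of_finite
        nlinarith
      have := IH _ hlt (G ⧸ N) rfl (hP.to_quotient N) (Cfsg.Agent.S0641.result hreg N)
        (QuotientGroup.mk x) (QuotientGroup.mk y)
      rw [← QuotientGroup.eq_one_iff]
      rw [commutatorElement_def]
      simp only [QuotientGroup.mk_mul, QuotientGroup.mk_inv]
      rw [this]; group
    have hnt : Nontrivial G := ⟨⟨a * b, b * a, hab⟩⟩
    have hZ : Subgroup.center G ≠ ⊥ := by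
      have := hP.center_nontrivial
      exact (Subgroup.nontrivial_iff_ne_bot _).mp this
    set z : G := ⁅a, b⁆ with hz
    have hz1 : z ≠ 1 := by
      intro h
      apply hab
      rw [hz, commutatorElement_eq_one_iff_mul_comm] at h
      exact h
    have hzZ : z ∈ Subgroup.center G := hquot _ inferInstance hZ a b
    -- z^2 = 1
    have hz2 : z ^ 2 = 1 := by
      by_contra hne
      set N := Subgroup.zpowers (z ^ 2) with hN
      have hNn : N.Normal := by
        constructor
        intro x hx g
        have hxZ : x ∈ Subgroup.center G := by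
          rw [hN, Subgroup.mem_zpowers_iff] at hx
          obtain ⟨k, rfl⟩ := hx
          exact Subgroup.zpow_mem _ (Subgroup.pow_mem _ hzZ 2) k
        have : g * x * g⁻¹ = x := by
          rw [Subgroup.mem_center_iff] at hxZ
          rw [hxZ g]; group
        rw [this]; exact hx
      have hNne : N ≠ ⊥ := by
        intro h
        apply hne
        have : z ^ 2 ∈ N := Subgroup.mem_zpowers _
        rw [h, Subgroup.mem_bot] at this
        exact this
      have hzN : z ∈ N := hquot N hNn hNne a b
      rw [hN, Subgroup.mem_zpowers_iff] at hzN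
      obtain ⟨k, hk⟩ := hzN
      -- z^(2k-1) = 1 with z a 2-element
      have h1 : z ^ (2 * k - 1) = 1 := by
        rw [zpow_sub, zpow_one, zpow_mul, zpow_ofNat, hk, mul_inv_cancel]
      obtain ⟨j, hj⟩ := hP z
      have h2 : (orderOf z : ℤ) ∣ 2 * k - 1 := orderOf_dvd_iff_zpow_eq_one.mpr h1
      have h3 : orderOf z ∣ 2 ^ j := orderOf_dvd_of_pow_eq_one hj
      obtain ⟨i, -, hi⟩ := (Nat.dvd_prime_pow Nat.prime_two).mp h3
      rw [hi] at h2
      rcases Nat.eq_zero_or_pos i with h0 | h0
      · rw [h0, pow_zero] at hi
        exact hz1 (orderOf_eq_one_iff.mp hi)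
      · have : (2 : ℤ) ∣ 2 * k - 1 := by
          refine Dvd.dvd.trans ?_ h2
          push_cast
          exact dvd_pow_self 2 (by omega)
        omega
    -- commutator subgroup ≤ zpowers z
    set N := Subgroup.zpowers z with hN
    have hNn : N.Normal := by
      constructor
      intro x hx g
      have hxZ : x ∈ Subgroup.center G := by
        rw [hN, Subgroup.mem_zpowers_iff] at hx
        obtain ⟨k, rfl⟩ := hx
        exact Subgroup.zpow_mem _ hzZ k
      have : g * x * g⁻¹ = x := by
        rw [Subgroup.mem_center_iff] at hxZ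
        rw [hxZ g]; group
      rw [this]; exact hx
    have hcommN : ⁅(⊤ : Subgroup G), (⊤ : Subgroup G)⁆ ≤ N := by
      rw [Subgroup.commutator_le]
      intro x _ y _
      -- in G/N, generators commute
      have hgen : Subgroup.closure ({(QuotientGroup.mk a : G ⧸ N), (QuotientGroup.mk b : G ⧸ N)} :
          Set (G ⧸ N)) = ⊤ := by
        have := Cfsg.Agent.S0641.map_closure_pair (QuotientGroup.mk' N) a b
        rw [htop, ← MonoidHom.range_eq_map, MonoidHom.range_eq_top.mpr
          (QuotientGroup.mk'_surjective N)] at this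
        exact this.symm
      have hcomm_gen : ∀ x ∈ ({(QuotientGroup.mk a : G ⧸ N), (QuotientGroup.mk b : G ⧸ N)} :
          Set (G ⧸ N)), ∀ y ∈ ({(QuotientGroup.mk a : G ⧸ N), (QuotientGroup.mk b : G ⧸ N)} :
          Set (G ⧸ N)), x * y = y * x := by
        have hab' : (QuotientGroup.mk a : G ⧸ N) * QuotientGroup.mk b =
            QuotientGroup.mk b * QuotientGroup.mk a := by
          rw [← QuotientGroup.mk_mul, ← QuotientGroup.mk_mul, QuotientGroup.eq]
          have : (a * b)⁻¹ * (b * a) = (b * a)⁻¹ * (a * b * a⁻¹ * b⁻¹)⁻¹ * (b * a) := by group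
          rw [this]
          have h1 : a * b * a⁻¹ * b⁻¹ = z := by rw [hz, commutatorElement_def]
          rw [h1]
          have hzc := Subgroup.mem_center_iff.mp (Subgroup.inv_mem _ hzZ) (b * a)
          have : (b * a)⁻¹ * z⁻¹ * (b * a) = z⁻¹ := by
            rw [mul_assoc, ← hzc]; group
          rw [this]
          exact N.inv_mem (Subgroup.mem_zpowers z)
        intro x hx y hy
        rcases hx with rfl | rfl <;> rcases hy with rfl | rfl
        · rfl
        · exact hab'
        · exact hab'.symm
        · rfl
      have hall := closure_comm _ hcomm_gen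
      rw [hgen] at hall
      have := hall (QuotientGroup.mk x) trivial (QuotientGroup.mk y) trivial
      rw [← QuotientGroup.eq_one_iff, commutatorElement_def]
      simp only [QuotientGroup.mk_mul, QuotientGroup.mk_inv]
      rw [this]; group
    -- power closure trivial
    obtain ⟨c, hc, hcab⟩ := hreg.2 a b 1
    rw [htop] at hc
    have hpc : Cfsg.powerClosure 2 1 ⁅(⊤ : Subgroup G), (⊤ : Subgroup G)⁆ = ⊥ := by
      unfold Cfsg.powerClosure
      rw [Subgroup.closure_eq_bot_iff]
      rintro _ ⟨x, hx, rfl⟩
      have hxN := hcommN hx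
      rw [hN, Subgroup.mem_zpowers_iff] at hxN
      obtain ⟨k, rfl⟩ := hxN
      rw [Set.mem_singleton_iff, pow_one, ← zpow_natCast, ← zpow_mul, mul_comm, zpow_mul,
        zpow_natCast]
      norm_num
      rw [hz2, one_zpow]
    rw [hpc, Subgroup.mem_bot] at hc
    rw [hc, mul_one, pow_one] at hcab
    apply hab
    -- (ab)^2 = a^2 b^2
    have h1 : a * b * (a * b) = a * a * (b * b) := by
      rw [← pow_two, hcab, pow_two, pow_two]
    have h2 : a * (b * a) * b = a * (a * b) * b := by
      calc a * (b * a) * b = a * b * (a * b) := by group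
        _ = a * a * (b * b) := h1
        _ = a * (a * b) * b := by group
    have h3 := mul_right_cancel h2
    exact (mul_left_cancel h3).symm

/-- Among finite 2-groups the regular ones are exactly the abelian ones. -/
theorem result {G : Type*} [Group G] [Finite G] (hG : IsPGroup 2 G) : Cfsg.IsRegularPGroup 2 G ↔ ∀ a b : G, a * b = b * a := by
  constructor
  · intro hreg
    exact main (Nat.card G) G rfl hG hreg
  · intro hab
    refine ⟨hG, ?_⟩
    intro a b n
    refine ⟨1, Subgroup.one_mem _, ?_⟩
    rw [mul_one]
    exact (Commute.mul_pow (hab a b) _)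

end Cfsg.Agent.S0642
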