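import Cfsg.Statements.S0643
import Mathlib
import Cfsg.Agent.Lib.H21.RegularLevel

set_option autoImplicit false
open Cfsg

namespace Cfsg.Agent.S0643

open scoped commutatorElement
open Cfsg.Agent.Lib.H21 Subgroup

variable {G : Type*} [Group G]

/-- from level `1` regularity to all levels, relative to a subgroup -/
theorem level_aux [Finite G] {p : ℕ} [Fact p.Prime] (hp : IsPGroup p G) (hr : RegAt p 1 G) :
    ∀ (n : ℕ) (H : Subgroup G), ∀ a ∈ H, ∀ b ∈ H,
      ∃ c ∈ Cfsg.powerClosure p n ⁅H, H⁆, (a * b) ^ (p ^ n) = a ^ (p ^ n) * b ^ (p ^ n) * c := by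
  intro n
  induction n with
  | zero =>
    intro H a _ b _
    exact ⟨1, Subgroup.one_mem _, by simp⟩
  | succ n ih =>
    intro H a ha b hb
    set q := p ^ n with hq
    obtain ⟨c₁, hc₁, hab⟩ := hr a b
    have hLH : closure ({a, b} : Set G) ≤ H := by
      rw [Subgroup.closure_le]
      rintro z (rfl | rfl)
      · exact ha
      · exact hb
    set J := ⁅H, H⁆ with hJ
    have hc₁J : c₁ ∈ Cfsg.powerClosure p 1 J :=
      powerClosure_mono' p 1 (Subgroup.commutator_mono hLH hLH) hc₁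
    set K := Cfsg.powerClosure p 1 H with hK
    have haK : a ^ p ∈ K := Subgroup.subset_closure ⟨a, ha, by rw [pow_one]⟩
    have hbK : b ^ p ∈ K := Subgroup.subset_closure ⟨b, hb, by rw [pow_one]⟩
    have hc₁K : c₁ ∈ K := powerClosure_mono' p 1 (commutator_self_le H) hc₁J
    obtain ⟨e₁, he₁, h1⟩ := ih K (a ^ p) haK (b ^ p * c₁) (K.mul_mem hbK hc₁K)
    obtain ⟨e₂, he₂, h2⟩ := ih K (b ^ p) hbK c₁ hc₁K
    -- ⁅K,K⁆ ≤ ℧₁(J)
    have hKK : ⁅K, K⁆ ≤ Cfsg.powerClosure p 1 J := commutator_powerClosure_le 1 hr H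
    -- ℧_n(℧₁(J)) ≤ ℧_{n+1}(J)
    have hstep : Cfsg.powerClosure p n (Cfsg.powerClosure p 1 J) ≤ Cfsg.powerClosure p (n + 1) J := by
      conv_lhs => unfold Cfsg.powerClosure
      rw [Subgroup.closure_le]
      rintro y ⟨x, hx, rfl⟩
      obtain ⟨z, hz, rfl⟩ := exists_eq_pow_of_mem_powerClosure hp 1 hr J x hx
      apply Subgroup.subset_closure
      exact ⟨z, hz, by rw [← pow_mul, pow_one, pow_succ, mul_comm]⟩
    have he₁' : e₁ ∈ Cfsg.powerClosure p (n + 1) J := hstep (powerClosure_mono' p n hKK he₁)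
    have he₂' : e₂ ∈ Cfsg.powerClosure p (n + 1) J := hstep (powerClosure_mono' p n hKK he₂)
    have hc₁q : c₁ ^ q ∈ Cfsg.powerClosure p (n + 1) J :=
      hstep (Subgroup.subset_closure ⟨c₁, hc₁J, rfl⟩)
    refine ⟨c₁ ^ q * e₂ * e₁, Subgroup.mul_mem _ (Subgroup.mul_mem _ hc₁q he₂') he₁', ?_⟩
    have hpow : ∀ x : G, x ^ (p ^ (n + 1)) = (x ^ p) ^ q := by
      intro x; rw [← pow_mul, pow_succ, mul_comm]
    rw [hpow (a * b), hpow a, hpow b]
    rw [pow_one] at hab
    rw [hab, mul_assoc (a ^ p), h1, h2]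
    group

/-- Kemhadze's criterion: a finite p-group is regular exactly when (ab)^p = a^p b^p c^p always holds for some c in the derived subgroup of the subgroup generated by a and b. -/
theorem result {G : Type*} [Group G] [Finite G] {p : ℕ} [Fact p.Prime] (hG : IsPGroup p G) : Cfsg.IsRegularPGroup p G ↔ ∀ a b : G, ∃ c ∈ ⁅Subgroup.closure ({a, b} : Set G), Subgroup.closure ({a, b} : Set G)⁆, (a * b) ^ p = a ^ p * b ^ p * c ^ p := by
  constructor
  · intro h a b
    have hr : RegAt p 1 G := fun a b => h.2 a b 1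
    obtain ⟨c, hc, hab⟩ := h.2 a b 1
    obtain ⟨x, hx, rfl⟩ := exists_eq_pow_of_mem_powerClosure hG 1 hr _ c hc
    refine ⟨x, hx, ?_⟩
    simpa using hab
  · intro h
    have hr : RegAt p 1 G := by
      intro a b
      obtain ⟨c, hc, hab⟩ := h a b
      refine ⟨c ^ p, Subgroup.subset_closure ⟨c, hc, by rw [pow_one]⟩, ?_⟩
      simpa using hab
    refine ⟨hG, ?_⟩
    intro a b n
    exact level_aux hG hr n (closure ({a, b} : Set G)) a (Subgroup.subset_closure (by simp))
      b (Subgroup.subset_closure (by simp))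

end Cfsg.Agent.S0643
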