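import Cfsg.Statements.S0644
import Mathlib
import Cfsg.Agent.Lib.H21.RegularPGroup

set_option autoImplicit false
open Cfsg

namespace Cfsg.Agent.S0644

open scoped commutatorElement
open Cfsg.Agent.Lib.H21 Subgroup

variable {G : Type*} [Group G]

lemma powerClosure_mono (p n : ℕ) {K₁ K₂ : Subgroup G} (h : K₁ ≤ K₂) :
    Cfsg.powerClosure p n K₁ ≤ Cfsg.powerClosure p n K₂ := by
  unfold Cfsg.powerClosure
  apply Subgroup.closure_mono
  rintro y ⟨x, hx, rfl⟩
  exact ⟨x, h hx, rfl⟩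

/-- if the `q`-th powers of `K` are closed under products, they are all of `℧_n(K)` -/
lemma mem_powerClosure_of_closed (p n : ℕ) (K : Subgroup G)
    (h : ∀ a ∈ K, ∀ b ∈ K, ∃ e ∈ K, a ^ (p ^ n) * b ^ (p ^ n) = e ^ (p ^ n)) :
    ∀ y ∈ Cfsg.powerClosure p n K, ∃ x ∈ K, y = x ^ (p ^ n) := by
  intro y hy
  unfold Cfsg.powerClosure at hy
  induction hy using Subgroup.closure_induction with
  | mem s hs => exact hs
  | one => exact ⟨1, K.one_mem, (one_pow _).symm⟩
  | mul a b _ _ iha ihb =>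
    obtain ⟨x, hx, rfl⟩ := iha
    obtain ⟨z, hz, rfl⟩ := ihb
    obtain ⟨e, he, hee⟩ := h x hx z hz
    exact ⟨e, he, hee⟩
  | inv a _ iha =>
    obtain ⟨x, hx, rfl⟩ := iha
    exact ⟨x⁻¹, K.inv_mem hx, (inv_pow x _).symm⟩

theorem pow_mul_pow_aux [Finite G] {p : ℕ} [Fact p.Prime] (hG : Cfsg.IsRegularPGroup p G) (n : ℕ) :
    ∀ (m : ℕ) (H : Subgroup G), Nat.card H = m → ∀ a ∈ H, ∀ b ∈ H,
      ∃ e ∈ H, a ^ (p ^ n) * b ^ (p ^ n) = e ^ (p ^ n) := by
  intro m
  induction' m using Nat.strong_induction_on with m ih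
  intro H hH a ha b hb
  by_cases hc : Commute a b
  · exact ⟨a * b, H.mul_mem ha hb, (hc.mul_pow _).symm⟩
  · have hne : zpowers (a * b) ≠ H := by
      intro e
      apply hc
      have ha' : a ∈ zpowers (a * b) := e ▸ ha
      have hb' : b ∈ zpowers (a * b) := e ▸ hb
      obtain ⟨k, hk⟩ := Subgroup.mem_zpowers_iff.1 ha'
      obtain ⟨l, hl⟩ := Subgroup.mem_zpowers_iff.1 hb'
      have hkl := (Commute.refl (a * b)).zpow_zpow k l
      rw [hk, hl] at hkl
      exact hkl
    have hlt : zpowers (a * b) < H :=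
      lt_of_le_of_ne (by rw [Subgroup.zpowers_le]; exact H.mul_mem ha hb) hne
    obtain ⟨M, habM, hMH, _, hcomm⟩ := exists_normal_proper_of_lt hG.1 H (zpowers (a * b)) hlt
    have hMcard : Nat.card M < m := by
      rw [← hH]; exact card_lt_of_lt' hMH
    have habM' : a * b ∈ M := habM (Subgroup.mem_zpowers _)
    set H' := ⁅H, H⁆ with hH'
    have hH'card : Nat.card H' < m := lt_of_le_of_lt (Subgroup.card_le_of_le hcomm) hMcard
    obtain ⟨c, hc', hab⟩ := hG.2 a b n
    have hLH : closure ({a, b} : Set G) ≤ H := by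
      rw [Subgroup.closure_le]
      rintro z (rfl | rfl)
      · exact ha
      · exact hb
    have hcH' : c ∈ Cfsg.powerClosure p n H' :=
      powerClosure_mono p n (Subgroup.commutator_mono hLH hLH) hc'
    have hcinv : c⁻¹ ∈ Cfsg.powerClosure p n H' := Subgroup.inv_mem _ hcH'
    obtain ⟨d, hd, hcd⟩ := mem_powerClosure_of_closed p n H'
      (fun x hx z hz => ih _ hH'card H' rfl x hx z hz) _ hcinv
    obtain ⟨e, he, hee⟩ := ih _ hMcard M rfl (a * b) habM' d (hcomm hd)
    refine ⟨e, hMH.le he, ?_⟩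
    rw [← hee, ← hcd, hab]
    group

/-- In a regular p-group the p^n-th powers of the elements of any subgroup H form a subgroup, whose derived subgroup is contained in the subgroup generated by the p^n-th powers of elements of the derived subgroup of H. -/
theorem result {G : Type*} [Group G] [Finite G] {p : ℕ} [Fact p.Prime] (hG : Cfsg.IsRegularPGroup p G) (H : Subgroup G) (n : ℕ) : {y : G | ∃ x ∈ H, y = x ^ (p ^ n)} = (Cfsg.powerClosure p n H : Set G) ∧ ⁅Cfsg.powerClosure p n H, Cfsg.powerClosure p n H⁆ ≤ Cfsg.powerClosure p n ⁅H, H⁆ := by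
  constructor
  · ext y
    constructor
    · intro hy
      exact Subgroup.subset_closure hy
    · intro hy
      exact mem_powerClosure_of_closed p n H
        (fun a ha b hb => pow_mul_pow_aux hG n _ H rfl a ha b hb) y hy
  · set N := Cfsg.powerClosure p n ⁅H, H⁆ with hN
    -- N is normalized by H
    have hNn : ∀ h ∈ H, ∀ w ∈ N, h * w * h⁻¹ ∈ N := by
      intro h hh w hw
      rw [hN] at hw ⊢
      unfold Cfsg.powerClosure at hw ⊢
      induction hw using Subgroup.closure_induction with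
      | mem s hs =>
        obtain ⟨x, hx, rfl⟩ := hs
        apply Subgroup.subset_closure
        exact ⟨h * x * h⁻¹, conj_mem_commutator_self H hh hx, (conj_pow).symm⟩
      | one => simp
      | mul a b _ _ iha ihb =>
        have : h * (a * b) * h⁻¹ = (h * a * h⁻¹) * (h * b * h⁻¹) := by group
        rw [this]; exact Subgroup.mul_mem _ iha ihb
      | inv a _ iha =>
        have : h * a⁻¹ * h⁻¹ = (h * a * h⁻¹)⁻¹ := by group
        rw [this]; exact Subgroup.inv_mem _ iha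
    -- key: for u, b ∈ H with u^q ∈ N: (u b)^q (b^q)⁻¹ ∈ N
    have key : ∀ u ∈ H, ∀ b ∈ H, u ^ (p ^ n) ∈ N → (u * b) ^ (p ^ n) * (b ^ (p ^ n))⁻¹ ∈ N := by
      intro u hu b hb huN
      obtain ⟨c, hc, hub⟩ := hG.2 u b n
      have hLH : closure ({u, b} : Set G) ≤ H := by
        rw [Subgroup.closure_le]
        rintro z (rfl | rfl)
        · exact hu
        · exact hb
      have hcN : c ∈ N := powerClosure_mono p n (Subgroup.commutator_mono hLH hLH) hc
      rw [hub]
      have : u ^ (p ^ n) * b ^ (p ^ n) * c * (b ^ (p ^ n))⁻¹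
          = u ^ (p ^ n) * (b ^ (p ^ n) * c * (b ^ (p ^ n))⁻¹) := by group
      rw [this]
      exact N.mul_mem huN (hNn _ (H.pow_mem hb _) c hcN)
    -- for a, b ∈ H : ⁅b⁻¹, a^q⁆ ∈ N
    have hcomm : ∀ a ∈ H, ∀ b ∈ H, ⁅b, a ^ (p ^ n)⁆ ∈ N := by
      intro a ha b hb
      -- u = b a b⁻¹ a⁻¹ = ⁅b, a⁆
      have hu : ⁅b, a⁆ ∈ ⁅H, H⁆ := Subgroup.commutator_mem_commutator hb ha
      have huN : ⁅b, a⁆ ^ (p ^ n) ∈ N := Subgroup.subset_closure ⟨_, hu, rfl⟩
      have := key ⁅b, a⁆ (commutator_self_le H hu) a ha huN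
      have e : ⁅b, a⁆ * a = b * a * b⁻¹ := by rw [commutatorElement_def]; group
      rw [e, conj_pow] at this
      have e2 : ⁅b, a ^ (p ^ n)⁆ = b * a ^ (p ^ n) * b⁻¹ * (a ^ (p ^ n))⁻¹ := by
        rw [commutatorElement_def]
      rw [e2]; exact this
    -- conclude
    have hSH : closure {y : G | ∃ x ∈ H, y = x ^ (p ^ n)} ≤ H := by
      rw [Subgroup.closure_le]
      rintro y ⟨x, hx, rfl⟩
      exact H.pow_mem hx _
    show ⁅closure {y : G | ∃ x ∈ H, y = x ^ (p ^ n)}, closure {y : G | ∃ x ∈ H, y = x ^ (p ^ n)}⁆ ≤ N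
    apply commutator_closure_le_of_normalized N _ (fun h hh w hw => hNn h (hSH hh) w hw)
    rintro s ⟨x, hx, rfl⟩ t ⟨y, hy, rfl⟩
    exact hcomm y hy _ (H.pow_mem hx _)

end Cfsg.Agent.S0644
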