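import Cfsg.Statements.S0645
import Mathlib

set_option autoImplicit false
open Cfsg

namespace Cfsg.Agent.S0645

section Conj

variable {G : Type*} [Group G]

theorem conj_pow_pow {u a : G} {r : ℕ} (h : u * a * u⁻¹ = a ^ r) (k : ℕ) :
    u * a ^ k * u⁻¹ = a ^ (r * k) := by
  rw [← conj_pow, h, ← pow_mul]

theorem conj_pow_iter {u a : G} {r : ℕ} (h : u * a * u⁻¹ = a ^ r) (i : ℕ) :
    u ^ i * a * (u ^ i)⁻¹ = a ^ (r ^ i) := by
  induction i with
  | zero => simp
  | succ i ih =>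
    have : u ^ (i + 1) * a * (u ^ (i + 1))⁻¹ = u * (u ^ i * a * (u ^ i)⁻¹) * u⁻¹ := by
      rw [pow_succ']; group
    rw [this, ih, conj_pow_pow h, pow_succ']

theorem mul_pow_formula {y c : G} {R : ℕ} (h : y * c * y⁻¹ = c ^ R) (m : ℕ) :
    (y * c) ^ m = c ^ (∑ i ∈ Finset.range m, R ^ (i + 1)) * y ^ m := by
  induction m with
  | zero => simp
  | succ m ih =>
    have h1 : y ^ (m + 1) * c * (y ^ (m + 1))⁻¹ = c ^ (R ^ (m + 1)) := conj_pow_iter h (m + 1)
    have h2 : y ^ (m + 1) * c = c ^ (R ^ (m + 1)) * y ^ (m + 1) := by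
      rw [← h1]; group
    rw [pow_succ, ih, Finset.sum_range_succ, pow_add, mul_assoc, mul_assoc,
      ← mul_assoc (y ^ m) y c, ← pow_succ, h2]

end Conj

section NumberTheory

theorem modEq_one_of_pow (p : ℕ) (hp : p.Prime) (hodd : p ≠ 2) (m r : ℕ)
    (h : r ^ p ≡ 1 [MOD p ^ (m + 1)]) : r ≡ 1 [MOD p ^ m] := by
  have : Fact p.Prime := ⟨hp⟩
  have hpodd : Odd p := hp.odd_of_ne_two hodd
  -- mod p
  have h1 : r ≡ 1 [MOD p] := by
    have hp1 : r ^ p ≡ 1 [MOD p] := h.of_dvd (dvd_pow_self p (Nat.succ_ne_zero m))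
    have : (r : ZMod p) ^ p = r := ZMod.pow_card _
    have h2 : ((r ^ p : ℕ) : ZMod p) = ((1 : ℕ) : ZMod p) := (ZMod.natCast_eq_natCast_iff _ _ _).mpr hp1
    rw [Nat.cast_pow, this] at h2
    exact (ZMod.natCast_eq_natCast_iff _ _ _).mp h2
  rcases Nat.lt_or_ge r 2 with hr | hr
  · have : r = 0 ∨ r = 1 := by omega
    rcases this with rfl | rfl
    · exfalso
      have := h1.symm
      rw [Nat.modEq_zero_iff_dvd] at this
      exact hp.one_lt.ne' (Nat.dvd_one.mp this)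
    · rfl
  · have hdvd : p ∣ r - 1 := (Nat.modEq_iff_dvd' (by omega)).mp h1.symm
    have hnd : ¬ p ∣ r := by
      intro hd
      have : p ∣ r - (r - 1) := Nat.dvd_sub hd hdvd
      rw [show r - (r - 1) = 1 by omega] at this
      exact hp.one_lt.ne' (Nat.dvd_one.mp this)
    have hlte := padicValNat.pow_sub_pow (p := p) hpodd (x := r) (y := 1) (by omega) hdvd hnd
      (n := p) hp.ne_zero
    rw [one_pow, padicValNat_self] at hlte
    have hpos : 1 ≤ r ^ p := Nat.one_le_pow _ _ (by omega)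
    have hd2 : p ^ (m + 1) ∣ r ^ p - 1 := (Nat.modEq_iff_dvd' hpos).mp h.symm
    have hne : r ^ p - 1 ≠ 0 := by
      have : 1 < r ^ p := Nat.one_lt_pow hp.ne_zero (by omega)
      omega
    have hv := (padicValNat_dvd_iff_le hne).mp hd2
    have hv2 : m ≤ padicValNat p (r - 1) := by omega
    have := (padicValNat_dvd_iff_le (p := p) (a := r - 1) (by omega)).mpr hv2
    exact ((Nat.modEq_iff_dvd' (by omega)).mpr this).symm

theorem pow_one_add_modEq (p m k j : ℕ) (hm : 1 ≤ m) :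
    (1 + k * p ^ m) ^ j ≡ 1 + j * k * p ^ m [MOD p ^ (m + 1)] := by
  induction j with
  | zero => simp; rfl
  | succ j ih =>
    rw [pow_succ]
    have h1 : (1 + k * p ^ m) ^ j * (1 + k * p ^ m) ≡
        (1 + j * k * p ^ m) * (1 + k * p ^ m) [MOD p ^ (m + 1)] := ih.mul_right _
    refine h1.trans ?_
    have h2 : (1 + j * k * p ^ m) * (1 + k * p ^ m) =
        (1 + (j + 1) * k * p ^ m) + (j * k * k * p ^ (m - 1)) * p ^ (m + 1) := by
      obtain ⟨m', rfl⟩ : ∃ m', m = m' + 1 := ⟨m - 1, by omega⟩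
      simp only [Nat.add_sub_cancel]
      ring
    rw [h2]
    have : (j * k * k * p ^ (m - 1)) * p ^ (m + 1) ≡ 0 [MOD p ^ (m + 1)] :=
      (Nat.modEq_zero_iff_dvd.mpr (Dvd.intro_left _ rfl))
    simpa using (Nat.ModEq.refl (1 + (j + 1) * k * p ^ m)).add this


theorem sum_pow_modEq (p m : ℕ) (hodd : Odd p) (hm : 1 ≤ m) :
    ∑ i ∈ Finset.range p, (1 + p ^ m) ^ (i + 1) ≡ p [MOD p ^ (m + 1)] := by
  rw [← ZMod.natCast_eq_natCast_iff]
  push_cast
  have hterm : ∀ i : ℕ, ((1 : ZMod (p ^ (m + 1))) + (p : ZMod (p ^ (m + 1))) ^ m) ^ (i + 1) =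
      1 + ((i : ZMod (p ^ (m + 1))) + 1) * (p : ZMod (p ^ (m + 1))) ^ m := by
    intro i
    have := pow_one_add_modEq p m 1 (i + 1) hm
    rw [← ZMod.natCast_eq_natCast_iff] at this
    push_cast at this
    rw [one_mul, mul_one] at this
    exact this
  rw [Finset.sum_congr rfl (fun i _ => hterm i), Finset.sum_add_distrib, ← Finset.sum_mul,
    Finset.sum_const, Finset.card_range, nsmul_eq_mul, mul_one]
  obtain ⟨h, hh⟩ := hodd
  have hsum : (∑ i ∈ Finset.range p, ((i : ZMod (p ^ (m + 1))) + 1)) =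
      ((h + 1 : ℕ) : ZMod (p ^ (m + 1))) * (p : ZMod (p ^ (m + 1))) := by
    have h1 : (∑ i ∈ Finset.range p, (i + 1)) = (h + 1) * p := by
      have h2 := Finset.sum_range_id_mul_two (p + 1)
      rw [Finset.sum_range_succ', add_zero, Nat.add_sub_cancel] at h2
      have h3 : (∑ i ∈ Finset.range p, (i + 1)) * 2 = ((h + 1) * p) * 2 := by
        rw [h2, hh]; ring
      exact Nat.eq_of_mul_eq_mul_right (by norm_num) h3
    have := congrArg (Nat.cast : ℕ → ZMod (p ^ (m + 1))) h1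
    push_cast at this
    rw [this]
    push_cast
    ring
  rw [hsum]
  have hz : (p : ZMod (p ^ (m + 1))) ^ (m + 1) = 0 := by
    have : ((p ^ (m + 1) : ℕ) : ZMod (p ^ (m + 1))) = 0 := ZMod.natCast_self _
    rwa [Nat.cast_pow] at this
  have : ((h + 1 : ℕ) : ZMod (p ^ (m + 1))) * (p : ZMod (p ^ (m + 1))) * (p : ZMod (p ^ (m + 1))) ^ m
      = ((h + 1 : ℕ) : ZMod (p ^ (m + 1))) * (p : ZMod (p ^ (m + 1))) ^ (m + 1) := by ring
  rw [this, hz, mul_zero, add_zero]

end NumberTheory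


section Main

variable {G : Type*} [Group G] [Finite G]

/-- a subgroup of prime index is maximal. -/
theorem eq_top_of_lt_of_index_prime {p : ℕ} (hp : p.Prime) (C H : Subgroup G) (hCi : C.index = p)
    (hCH : C ≤ H) {x : G} (hxH : x ∈ H) (hxC : x ∉ C) : H = ⊤ := by
  have hdvd : H.index ∣ p := hCi ▸ Subgroup.index_dvd_of_le hCH
  rcases (Nat.dvd_prime hp).mp hdvd with h1 | h1
  · exact Subgroup.index_eq_one.mp h1
  · exfalso
    have hcard : Nat.card H = Nat.card C := by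
      have e1 := Subgroup.card_mul_index H
      have e2 := Subgroup.card_mul_index C
      rw [h1] at e1
      rw [hCi] at e2
      exact Nat.eq_of_mul_eq_mul_right hp.pos (e1.trans e2.symm)
    have := Subgroup.eq_of_le_of_card_ge hCH hcard.le
    exact hxC (this ▸ hxH)

/-- Classification of p-groups with a cyclic maximal subgroup, odd p: a non-abelian one of order p^n has generators a of order p^(n-1) and b of order p, b outside the cyclic subgroup generated by a, with b a b⁻¹ = a^(1 + p^(n-2)). -/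
theorem result {G : Type*} [Group G] [Finite G] {p : ℕ} [Fact p.Prime] (hp : p ≠ 2) (n : ℕ) (hn : 3 ≤ n) (hG : Nat.card G = p ^ n) (C : Subgroup G) (hC : IsCyclic C) (hCi : C.index = p) (hna : ∃ x y : G, x * y ≠ y * x) : ∃ a b : G, orderOf a = p ^ (n - 1) ∧ orderOf b = p ∧ b ∉ Subgroup.zpowers a ∧ b * a * b⁻¹ = a ^ (1 + p ^ (n - 2)) := by
  have hpp : p.Prime := Fact.out
  obtain ⟨m, rfl⟩ : ∃ m, n = m + 2 := ⟨n - 2, by omega⟩
  have hm : 1 ≤ m := by omega
  show ∃ a b : G, orderOf a = p ^ (m + 1) ∧ orderOf b = p ∧ b ∉ Subgroup.zpowers a ∧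
    b * a * b⁻¹ = a ^ (1 + p ^ m)
  have hCcard : Nat.card C = p ^ (m + 1) := by
    have := Subgroup.card_mul_index C
    rw [hCi, hG, pow_succ] at this
    exact Nat.eq_of_mul_eq_mul_right hpp.pos this
  have hCn : C.Normal := by
    apply Subgroup.normal_of_index_eq_minFac_card
    rw [hCi, hG, Nat.Prime.pow_minFac hpp (by omega)]
  -- generator
  obtain ⟨g, hg⟩ := hC.exists_generator
  obtain ⟨a0, ha0⟩ : ∃ a0 : G, a0 = (g : G) := ⟨_, rfl⟩
  have ha0C : a0 ∈ C := ha0 ▸ g.2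
  have hord : orderOf a0 = p ^ (m + 1) := by
    rw [ha0, Subgroup.orderOf_coe, orderOf_eq_card_of_forall_mem_zpowers hg, hCcard]
  have hCpow : ∀ c ∈ C, ∃ k : ℕ, a0 ^ k = c := by
    intro c hc
    have h1 : (⟨c, hc⟩ : C) ∈ Subgroup.zpowers g := hg _
    rw [← mem_powers_iff_mem_zpowers] at h1
    obtain ⟨k, hk⟩ := h1
    refine ⟨k, ?_⟩
    have := congrArg Subtype.val hk
    rw [ha0]
    simpa using this
  have hCz : Subgroup.zpowers a0 = C := by
    apply le_antisymm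
    · rw [Subgroup.zpowers_le]; exact ha0C
    · intro c hc
      obtain ⟨k, hk⟩ := hCpow c hc
      exact hk ▸ Subgroup.npow_mem_zpowers a0 k
  -- an element outside C
  obtain ⟨x, hxC⟩ : ∃ x : G, x ∉ C := by
    by_contra hcon
    push Not at hcon
    have : C = ⊤ := Subgroup.eq_top_iff' C |>.mpr hcon
    rw [this, Subgroup.index_top] at hCi
    exact hpp.one_lt.ne hCi
  obtain ⟨r, hr⟩ := hCpow _ (hCn.conj_mem a0 ha0C x)
  have hr' : x * a0 * x⁻¹ = a0 ^ r := hr.symm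
  have hxp : x ^ p ∈ C := hCi ▸ C.pow_index_mem x
  -- r ^ p ≡ 1
  have hrp : r ^ p ≡ 1 [MOD p ^ (m + 1)] := by
    have h1 := conj_pow_iter hr' p
    obtain ⟨k, hk⟩ := hCpow _ hxp
    have h2 : x ^ p * a0 * (x ^ p)⁻¹ = a0 := by
      rw [← hk]
      have : Commute (a0 ^ k) a0 := (Commute.refl a0).pow_left k
      rw [this.eq, mul_inv_cancel_right]
    rw [h2] at h1
    have h3 : a0 ^ (r ^ p) = a0 ^ 1 := by rw [pow_one]; exact h1.symm
    rw [pow_eq_pow_iff_modEq, hord] at h3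
    exact h3
  -- r ≢ 1
  have hr1 : ¬ r ≡ 1 [MOD p ^ (m + 1)] := by
    intro h
    have h1 : a0 ^ r = a0 ^ 1 := by rw [pow_eq_pow_iff_modEq, hord]; exact h
    rw [pow_one] at h1
    have hcomm : x * a0 = a0 * x := mul_inv_eq_iff_eq_mul.mp (hr'.trans h1)
    obtain ⟨u, v, huv⟩ := hna
    apply huv
    -- centralizers are everything
    have hcen : ∀ z : G, z * a0 = a0 * z → z * x = x * z → ∀ w : G, z * w = w * z := by
      intro z hza hzx w
      have hH : Subgroup.centralizer {z} = ⊤ := by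
        apply eq_top_of_lt_of_index_prime hpp C _ hCi _ (x := x) _ hxC
        · rw [← hCz, Subgroup.zpowers_le, Subgroup.mem_centralizer_iff]
          intro y hy
          rw [Set.mem_singleton_iff] at hy
          rw [hy]; exact hza
        · rw [Subgroup.mem_centralizer_iff]
          intro y hy
          rw [Set.mem_singleton_iff] at hy
          rw [hy]; exact hzx
      have hw : w ∈ Subgroup.centralizer {z} := hH ▸ Subgroup.mem_top w
      rw [Subgroup.mem_centralizer_iff] at hw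
      exact hw z rfl
    have ha0c : ∀ w : G, a0 * w = w * a0 := hcen a0 rfl hcomm.symm
    have hxc : ∀ w : G, x * w = w * x := hcen x hcomm rfl
    exact hcen u (ha0c u).symm (hxc u).symm v
  -- r ≡ 1 mod p ^ m
  have hrm := modEq_one_of_pow p hpp hp m r hrp
  have hpm1 : 1 < p ^ m := Nat.one_lt_pow (by omega) hpp.one_lt
  have hr_pos : 1 ≤ r := by
    by_contra h
    have h0 : r = 0 := by omega
    subst h0
    have h1 := Nat.modEq_zero_iff_dvd.mp hrm.symm
    have h2 : p ^ m = 1 := Nat.dvd_one.mp h1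
    omega
  obtain ⟨k, hk⟩ : ∃ k, r = 1 + k * p ^ m := by
    obtain ⟨k, hk⟩ := (Nat.modEq_iff_dvd' hr_pos).mp hrm.symm
    exact ⟨k, by rw [mul_comm]; omega⟩
  have hpk : ¬ p ∣ k := by
    rintro ⟨k', rfl⟩
    apply hr1
    rw [hk]
    have e : 1 + p * k' * p ^ m = 1 + k' * p ^ (m + 1) := by ring
    rw [e]
    have h0 : k' * p ^ (m + 1) ≡ 0 [MOD p ^ (m + 1)] :=
      Nat.modEq_zero_iff_dvd.mpr (Dvd.intro_left _ rfl)
    exact (Nat.ModEq.refl 1).add h0
  obtain ⟨j, -, hj⟩ := Nat.exists_mul_mod_eq_one_of_coprime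
    ((Nat.Prime.coprime_iff_not_dvd hpp).mpr hpk).symm hpp.one_lt
  obtain ⟨y, hy⟩ : ∃ y, y = x ^ j := ⟨_, rfl⟩
  have hyconj : y * a0 * y⁻¹ = a0 ^ (1 + p ^ m) := by
    rw [hy, conj_pow_iter hr' j, pow_eq_pow_iff_modEq, hord, hk]
    refine (pow_one_add_modEq p m k j hm).trans ?_
    obtain ⟨q, hq⟩ : ∃ q, k * j = 1 + p * q :=
      ⟨k * j / p, by have := Nat.div_add_mod (k * j) p; omega⟩
    have e : 1 + j * k * p ^ m = (1 + p ^ m) + q * p ^ (m + 1) := by
      rw [mul_comm j k, hq]; ring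
    rw [e]
    have h0 : q * p ^ (m + 1) ≡ 0 [MOD p ^ (m + 1)] :=
      Nat.modEq_zero_iff_dvd.mpr (Dvd.intro_left _ rfl)
    exact (Nat.ModEq.refl (1 + p ^ m)).add h0
  have hyC : y ∉ C := by
    intro hyC
    apply hxC
    have hjp : Nat.Coprime j p := by
      rw [Nat.coprime_comm, Nat.Prime.coprime_iff_not_dvd hpp]
      rintro ⟨j', rfl⟩
      rw [show k * (p * j') = p * (k * j') by ring, Nat.mul_mod_right] at hj
      exact absurd hj (by norm_num)
    have hb := Nat.gcd_eq_gcd_ab j p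
    rw [hjp.gcd_eq_one] at hb
    have e : x = (x ^ j) ^ (Nat.gcdA j p) * (x ^ p) ^ (Nat.gcdB j p) := by
      rw [← zpow_natCast x j, ← zpow_natCast x p, ← zpow_mul, ← zpow_mul, ← zpow_add, ← hb]
      simp
    rw [e]
    exact C.mul_mem (C.zpow_mem (hy ▸ hyC) _) (C.zpow_mem hxp _)
  have hyp : y ^ p ∈ C := hCi ▸ C.pow_index_mem y
  obtain ⟨s, hs⟩ := hCpow _ hyp
  have hps : p ∣ s := by
    have h1 := conj_pow_pow hyconj s
    rw [hs] at h1
    have h2 : y * y ^ p * y⁻¹ = y ^ p := by group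
    rw [h2, ← hs, pow_eq_pow_iff_modEq, hord] at h1
    have h3 : (1 + p ^ m) * s = s + p ^ m * s := by ring
    rw [h3] at h1
    have h4 : 0 ≡ p ^ m * s [MOD p ^ (m + 1)] :=
      Nat.ModEq.add_left_cancel' s (by simpa using h1)
    have h5 : p ^ (m + 1) ∣ p ^ m * s := Nat.modEq_zero_iff_dvd.mp h4.symm
    rw [pow_succ] at h5
    exact (Nat.mul_dvd_mul_iff_left (Nat.pow_pos hpp.pos)).mp h5
  obtain ⟨s', rfl⟩ := hps
  obtain ⟨t, ht⟩ : ∃ t, p ^ m ∣ t + s' := by
    refine ⟨p ^ m - s' % p ^ m, ?_⟩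
    have h1 : s' % p ^ m < p ^ m := Nat.mod_lt _ (by omega)
    have h2 := Nat.div_add_mod s' (p ^ m)
    refine ⟨1 + s' / p ^ m, ?_⟩
    rw [mul_add, mul_one]
    omega
  obtain ⟨c, hc⟩ : ∃ c, c = a0 ^ t := ⟨_, rfl⟩
  have hcC : c ∈ C := by rw [hc, ← hCz]; exact Subgroup.npow_mem_zpowers a0 t
  have hcconj : y * c * y⁻¹ = c ^ (1 + p ^ m) := by
    rw [hc, conj_pow_pow hyconj, ← pow_mul, mul_comm]
  have hbp : (y * c) ^ p = 1 := by
    rw [mul_pow_formula hcconj p, hc, ← pow_mul, ← hs, ← pow_add]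
    apply orderOf_dvd_iff_pow_eq_one.mp
    rw [hord]
    have h1 : t * ∑ i ∈ Finset.range p, (1 + p ^ m) ^ (i + 1) + p * s' ≡ t * p + p * s'
        [MOD p ^ (m + 1)] :=
      ((sum_pow_modEq p m (hpp.odd_of_ne_two hp) hm).mul_left t).add_right _
    rw [← Nat.modEq_zero_iff_dvd]
    refine h1.trans ?_
    rw [Nat.modEq_zero_iff_dvd]
    obtain ⟨w, hw⟩ := ht
    refine ⟨w, ?_⟩
    have : t * p + p * s' = p * (t + s') := by ring
    rw [this, hw, pow_succ]; ring
  have hbC : y * c ∉ C := by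
    intro h
    apply hyC
    have : y = (y * c) * c⁻¹ := by group
    rw [this]
    exact C.mul_mem h (C.inv_mem hcC)
  refine ⟨a0, y * c, hord, ?_, ?_, ?_⟩
  · apply orderOf_eq_prime hbp
    intro h1
    exact hbC (h1 ▸ C.one_mem)
  · rw [hCz]; exact hbC
  · have hcomm : c * a0 = a0 * c := by
      rw [hc, ← pow_succ, ← pow_succ']
    calc y * c * a0 * (y * c)⁻¹ = y * (c * a0 * c⁻¹) * y⁻¹ := by group
      _ = y * a0 * y⁻¹ := by rw [hcomm, mul_inv_cancel_right]
      _ = a0 ^ (1 + p ^ m) := hyconj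

end Main

end Cfsg.Agent.S0645
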