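import Cfsg.Statements.S0646
import Cfsg.Agent.S0645

set_option autoImplicit false
open Cfsg

namespace Cfsg.Agent.S0646

open Cfsg.Agent.S0645

/-- common set-up for a non-abelian `p`-group with a cyclic subgroup of index `p`. -/
theorem setup {G : Type*} [Group G] [Finite G] {p : ℕ} [Fact p.Prime] (m : ℕ)
    (hG : Nat.card G = p ^ (m + 2)) (C : Subgroup G) (hC : IsCyclic C) (hCi : C.index = p)
    (hna : ∃ x y : G, x * y ≠ y * x) :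
    ∃ a0 x : G, ∃ r : ℕ, orderOf a0 = p ^ (m + 1) ∧ Subgroup.zpowers a0 = C ∧ C.Normal ∧ x ∉ C ∧
      x * a0 * x⁻¹ = a0 ^ r ∧ r ^ p ≡ 1 [MOD p ^ (m + 1)] ∧ ¬ r ≡ 1 [MOD p ^ (m + 1)] ∧
      (∀ c ∈ C, ∃ k : ℕ, a0 ^ k = c) := by
  have hpp : p.Prime := Fact.out
  have hCcard : Nat.card C = p ^ (m + 1) := by
    have := Subgroup.card_mul_index C
    rw [hCi, hG, pow_succ] at this
    exact Nat.eq_of_mul_eq_mul_right hpp.pos this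
  have hCn : C.Normal := by
    apply Subgroup.normal_of_index_eq_minFac_card
    rw [hCi, hG, Nat.Prime.pow_minFac hpp (by omega)]
  obtain ⟨g, hg⟩ := hC.exists_generator
  obtain ⟨a0, ha0⟩ : ∃ a0 : G, a0 = (g : G) := ⟨_, rfl⟩
  have ha0C : a0 ∈ C := ha0 ▸ g.2
  have hord : orderOf a0 = p ^ (m + 1) := by
    rw [ha0, Subgroup.orderOf_coe, orderOf_eq_card_of_forall_mem_zpowers hg, hCcard]
  have hCpow : ∀ c ∈ C, ∃ k : ℕ, a0 ^ k = c := by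
    intro c hc
    have h1 : (⟨c, hc⟩ : C) ∈ Subgroup.zpowers g := hg _
    rw [← mem_powers_iff_mem_zpowers] at h1
    obtain ⟨k, hk⟩ := h1
    refine ⟨k, ?_⟩
    have := congrArg Subtype.val hk
    rw [ha0]
    simpa using this
  have hCz : Subgroup.zpowers a0 = C := by
    apply le_antisymm
    · rw [Subgroup.zpowers_le]; exact ha0C
    · intro c hc
      obtain ⟨k, hk⟩ := hCpow c hc
      exact hk ▸ Subgroup.npow_mem_zpowers a0 k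
  obtain ⟨x, hxC⟩ : ∃ x : G, x ∉ C := by
    by_contra hcon
    push Not at hcon
    have : C = ⊤ := Subgroup.eq_top_iff' C |>.mpr hcon
    rw [this, Subgroup.index_top] at hCi
    exact hpp.one_lt.ne hCi
  obtain ⟨r, hr⟩ := hCpow _ (hCn.conj_mem a0 ha0C x)
  have hr' : x * a0 * x⁻¹ = a0 ^ r := hr.symm
  have hxp : x ^ p ∈ C := hCi ▸ C.pow_index_mem x
  have hrp : r ^ p ≡ 1 [MOD p ^ (m + 1)] := by
    have h1 := conj_pow_iter hr' p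
    obtain ⟨k, hk⟩ := hCpow _ hxp
    have h2 : x ^ p * a0 * (x ^ p)⁻¹ = a0 := by
      rw [← hk]
      have : Commute (a0 ^ k) a0 := (Commute.refl a0).pow_left k
      rw [this.eq, mul_inv_cancel_right]
    rw [h2] at h1
    have h3 : a0 ^ (r ^ p) = a0 ^ 1 := by rw [pow_one]; exact h1.symm
    rw [pow_eq_pow_iff_modEq, hord] at h3
    exact h3
  have hr1 : ¬ r ≡ 1 [MOD p ^ (m + 1)] := by
    intro h
    have h1 : a0 ^ r = a0 ^ 1 := by rw [pow_eq_pow_iff_modEq, hord]; exact h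
    rw [pow_one] at h1
    have hcomm : x * a0 = a0 * x := mul_inv_eq_iff_eq_mul.mp (hr'.trans h1)
    obtain ⟨u, v, huv⟩ := hna
    apply huv
    have hcen : ∀ z : G, z * a0 = a0 * z → z * x = x * z → ∀ w : G, z * w = w * z := by
      intro z hza hzx w
      have hH : Subgroup.centralizer {z} = ⊤ := by
        apply eq_top_of_lt_of_index_prime hpp C _ hCi _ (x := x) _ hxC
        · rw [← hCz, Subgroup.zpowers_le, Subgroup.mem_centralizer_iff]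
          intro y hy
          rw [Set.mem_singleton_iff] at hy
          rw [hy]; exact hza
        · rw [Subgroup.mem_centralizer_iff]
          intro y hy
          rw [Set.mem_singleton_iff] at hy
          rw [hy]; exact hzx
      have hw : w ∈ Subgroup.centralizer {z} := hH ▸ Subgroup.mem_top w
      rw [Subgroup.mem_centralizer_iff] at hw
      exact hw z rfl
    have ha0c : ∀ w : G, a0 * w = w * a0 := hcen a0 rfl hcomm.symm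
    have hxc : ∀ w : G, x * w = w * x := hcen x hcomm rfl
    exact hcen u (ha0c u).symm (hxc u).symm v
  exact ⟨a0, x, r, hord, hCz, hCn, hxC, hr', hrp, hr1, hCpow⟩

/-- square roots of `1` modulo `2 ^ (m+1)`. -/
theorem sq_modEq_one (m r : ℕ) (h : r ^ 2 ≡ 1 [MOD 2 ^ (m + 1)]) :
    r ≡ 1 [MOD 2 ^ m] ∨ r + 1 ≡ 0 [MOD 2 ^ m] := by
  -- r is odd
  have hodd : r % 2 = 1 := by
    have h2 : r ^ 2 ≡ 1 [MOD 2] := h.of_dvd (dvd_pow_self 2 (Nat.succ_ne_zero m))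
    have : r ^ 2 % 2 = 1 := h2
    rcases Nat.mod_two_eq_zero_or_one r with h0 | h1
    · exfalso
      have : r ^ 2 % 2 = 0 := by
        rw [pow_two, Nat.mul_mod, h0]
      omega
    · exact h1
  obtain ⟨u, hu⟩ : ∃ u, r = 2 * u + 1 := ⟨r / 2, by omega⟩
  rcases Nat.eq_zero_or_pos m with rfl | hm
  · left; simp [Nat.ModEq, Nat.mod_one]
  obtain ⟨m', rfl⟩ : ∃ m', m = m' + 1 := ⟨m - 1, by omega⟩
  have hpos : 1 ≤ r ^ 2 := Nat.one_le_pow _ _ (by omega)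
  have hdvd : 2 ^ (m' + 1 + 1) ∣ r ^ 2 - 1 := (Nat.modEq_iff_dvd' hpos).mp h.symm
  have e : r ^ 2 - 1 = 2 ^ 2 * (u * (u + 1)) := by
    rw [hu]
    have : (2 * u + 1) ^ 2 = 4 * (u * (u + 1)) + 1 := by ring
    rw [this]; norm_num
  rw [e, show 2 ^ (m' + 1 + 1) = 2 ^ 2 * 2 ^ m' by ring] at hdvd
  have hdvd' : 2 ^ m' ∣ u * (u + 1) := (Nat.mul_dvd_mul_iff_left (by norm_num)).mp hdvd
  rcases Nat.even_or_odd u with hue | huo
  · -- u even: u+1 odd, so 2^m' ∣ u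
    have hc : Nat.Coprime (2 ^ m') (u + 1) := by
      apply Nat.Coprime.pow_left
      rw [Nat.coprime_comm, Nat.coprime_two_right]  -- placeholder
      exact Even.add_one hue
    have : 2 ^ m' ∣ u := hc.dvd_of_dvd_mul_right hdvd'
    left
    obtain ⟨w, hw⟩ := this
    have : r = 1 + w * 2 ^ (m' + 1) := by rw [hu, hw]; ring
    rw [this]
    have h0 : w * 2 ^ (m' + 1) ≡ 0 [MOD 2 ^ (m' + 1)] :=
      Nat.modEq_zero_iff_dvd.mpr (Dvd.intro_left _ rfl)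
    exact (Nat.ModEq.refl 1).add h0
  · -- u odd: 2^m' ∣ u + 1
    have hc : Nat.Coprime (2 ^ m') u := by
      apply Nat.Coprime.pow_left
      rw [Nat.coprime_comm, Nat.coprime_two_right]
      exact huo
    have : 2 ^ m' ∣ u + 1 := hc.dvd_of_dvd_mul_left hdvd'
    right
    obtain ⟨w, hw⟩ := this
    have : r + 1 = w * 2 ^ (m' + 1) := by
      have : r + 1 = 2 * (u + 1) := by rw [hu]; ring
      rw [this, hw]; ring
    rw [this]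
    exact Nat.modEq_zero_iff_dvd.mpr (Dvd.intro_left _ rfl)


/-- splitting a congruence modulo `2^m` into two classes modulo `2^(m+1)`. -/
theorem split_mod (m a b : ℕ) (h : a ≡ b [MOD 2 ^ m]) :
    a ≡ b [MOD 2 ^ (m + 1)] ∨ a + 2 ^ m ≡ b [MOD 2 ^ (m + 1)] ∨ a ≡ b + 2 ^ m [MOD 2 ^ (m + 1)] := by
  rcases le_total a b with hab | hab
  · obtain ⟨k, hk⟩ := (Nat.modEq_iff_dvd' hab).mp h
    have hb : b = a + 2 ^ m * k := by omega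
    rcases Nat.even_or_odd' k with ⟨k', rfl | rfl⟩
    · left
      rw [hb]
      have h0 : 2 ^ m * (2 * k') ≡ 0 [MOD 2 ^ (m + 1)] :=
        Nat.modEq_zero_iff_dvd.mpr ⟨k', by ring⟩
      exact ((Nat.ModEq.refl a).add h0).symm
    · right; left
      rw [hb]
      have h0 : 2 ^ m * (2 * k') ≡ 0 [MOD 2 ^ (m + 1)] :=
        Nat.modEq_zero_iff_dvd.mpr ⟨k', by ring⟩
      have e : a + 2 ^ m * (2 * k' + 1) = (a + 2 ^ m) + 2 ^ m * (2 * k') := by ring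
      rw [e]
      exact ((Nat.ModEq.refl (a + 2 ^ m)).add h0).symm
  · obtain ⟨k, hk⟩ := (Nat.modEq_iff_dvd' hab).mp h.symm
    have ha : a = b + 2 ^ m * k := by omega
    rcases Nat.even_or_odd' k with ⟨k', rfl | rfl⟩
    · left
      rw [ha]
      have h0 : 2 ^ m * (2 * k') ≡ 0 [MOD 2 ^ (m + 1)] :=
        Nat.modEq_zero_iff_dvd.mpr ⟨k', by ring⟩
      exact ((Nat.ModEq.refl b).add h0)
    · right; right
      rw [ha]
      have h0 : 2 ^ m * (2 * k') ≡ 0 [MOD 2 ^ (m + 1)] :=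
        Nat.modEq_zero_iff_dvd.mpr ⟨k', by ring⟩
      have e : b + 2 ^ m * (2 * k' + 1) = (b + 2 ^ m) + 2 ^ m * (2 * k') := by ring
      rw [e]
      exact ((Nat.ModEq.refl (b + 2 ^ m)).add h0)


theorem shift_mod (m a b : ℕ) (h : a + 2 ^ m ≡ b [MOD 2 ^ (m + 1)]) :
    a ≡ b + 2 ^ m [MOD 2 ^ (m + 1)] := by
  have h1 : a + 2 ^ m + 2 ^ m ≡ b + 2 ^ m [MOD 2 ^ (m + 1)] := h.add_right _
  have e : a + 2 ^ m + 2 ^ m = a + 2 ^ (m + 1) := by ring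
  rw [e] at h1
  have h0 : 2 ^ (m + 1) ≡ 0 [MOD 2 ^ (m + 1)] := Nat.modEq_zero_iff_dvd.mpr dvd_rfl
  exact ((Nat.ModEq.refl a).add h0).symm.trans h1

section Cases

variable {G : Type*} [Group G] {m : ℕ} {a0 x : G} {r s : ℕ}

/-- the relation coming from `x` commuting with `x ^ 2`. -/
theorem comm_rel (hord : orderOf a0 = 2 ^ (m + 1)) (hconj : x * a0 * x⁻¹ = a0 ^ r)
    (hs : a0 ^ s = x ^ 2) : r * s ≡ s [MOD 2 ^ (m + 1)] := by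
  have h1 := conj_pow_pow hconj s
  rw [hs] at h1
  have h2 : x * x ^ 2 * x⁻¹ = x ^ 2 := by group
  rw [h2, ← hs, pow_eq_pow_iff_modEq, hord] at h1
  exact h1.symm

theorem caseA (hord : orderOf a0 = 2 ^ (m + 1)) (hconj : x * a0 * x⁻¹ = a0 ^ r)
    (hA : r + 1 ≡ 0 [MOD 2 ^ (m + 1)]) (hs : a0 ^ s = x ^ 2) :
    x * a0 * x⁻¹ = a0⁻¹ ∧ (x ^ 2 = 1 ∨ x ^ 2 = a0 ^ (2 ^ m)) := by
  have h1 : a0 ^ (r + 1) = 1 := by
    rw [← pow_zero a0, pow_eq_pow_iff_modEq, hord]; exact hA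
  have h2 : a0 ^ r = a0⁻¹ := by
    rw [pow_succ] at h1
    exact eq_inv_of_mul_eq_one_left h1
  refine ⟨hconj.trans h2, ?_⟩
  have hrel := comm_rel hord hconj hs
  -- 2 s ≡ 0
  have h3 : (r + 1) * s ≡ 0 * s [MOD 2 ^ (m + 1)] := hA.mul_right s
  have h4 : (r + 1) * s = r * s + s := by ring
  rw [h4, zero_mul] at h3
  have h5 : s + s ≡ 0 [MOD 2 ^ (m + 1)] := (hrel.symm.add_right s).trans h3
  have h6 : 2 ^ (m + 1) ∣ 2 * s := by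
    rw [two_mul]; exact Nat.modEq_zero_iff_dvd.mp h5
  rw [pow_succ, mul_comm] at h6
  have h7 : 2 ^ m ∣ s := (Nat.mul_dvd_mul_iff_left (by norm_num)).mp h6
  obtain ⟨w, rfl⟩ := h7
  rcases Nat.even_or_odd' w with ⟨w', rfl | rfl⟩
  · left
    rw [← hs]
    apply orderOf_dvd_iff_pow_eq_one.mp
    rw [hord]
    exact ⟨w', by ring⟩
  · right
    rw [← hs, pow_eq_pow_iff_modEq, hord]
    have h0 : 2 ^ m * (2 * w') ≡ 0 [MOD 2 ^ (m + 1)] :=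
      Nat.modEq_zero_iff_dvd.mpr ⟨w', by ring⟩
    have e : 2 ^ m * (2 * w' + 1) = 2 ^ m + 2 ^ m * (2 * w') := by ring
    rw [e]
    exact (Nat.ModEq.refl (2 ^ m)).add h0


theorem conj_mul_pow (t : ℕ) : (x * a0 ^ t) * a0 * (x * a0 ^ t)⁻¹ = x * a0 * x⁻¹ := by
  have hcomm : a0 ^ t * a0 = a0 * a0 ^ t := by rw [← pow_succ, ← pow_succ']
  calc x * a0 ^ t * a0 * (x * a0 ^ t)⁻¹ = x * (a0 ^ t * a0 * (a0 ^ t)⁻¹) * x⁻¹ := by group
    _ = x * a0 * x⁻¹ := by rw [hcomm, mul_inv_cancel_right]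

theorem caseB {μ : ℕ} (hμ : 1 ≤ μ) (hord : orderOf a0 = 2 ^ (μ + 2))
    (hconj : x * a0 * x⁻¹ = a0 ^ r) (hB : r ≡ 1 + 2 ^ (μ + 1) [MOD 2 ^ (μ + 2)])
    (hs : a0 ^ s = x ^ 2) :
    ∃ t : ℕ, (x * a0 ^ t) ^ 2 = 1 ∧
      (x * a0 ^ t) * a0 * (x * a0 ^ t)⁻¹ = a0 ^ (1 + 2 ^ (μ + 1)) := by
  have hconj' : x * a0 * x⁻¹ = a0 ^ (1 + 2 ^ (μ + 1)) := by
    rw [hconj, pow_eq_pow_iff_modEq, hord]; exact hB
  have hrel := comm_rel (m := μ + 1) hord hconj' hs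
  have hs2 : 2 ∣ s := by
    have e : (1 + 2 ^ (μ + 1)) * s = s + 2 ^ (μ + 1) * s := by ring
    rw [e] at hrel
    have h1 : 2 ^ (μ + 1) * s ≡ 0 [MOD 2 ^ (μ + 1 + 1)] :=
      Nat.ModEq.add_left_cancel' s (by simpa using hrel)
    have h2 : 2 ^ (μ + 1 + 1) ∣ 2 ^ (μ + 1) * s := Nat.modEq_zero_iff_dvd.mp h1
    rw [pow_succ (2) (μ + 1)] at h2
    exact (Nat.mul_dvd_mul_iff_left (by positivity)).mp h2
  obtain ⟨s', rfl⟩ := hs2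
  have hcop : Nat.Coprime (1 + 2 ^ μ) (2 ^ (μ + 1)) := by
    apply Nat.Coprime.pow_right
    rw [Nat.coprime_two_right]
    obtain ⟨μ', rfl⟩ : ∃ μ', μ = μ' + 1 := ⟨μ - 1, by omega⟩
    exact ⟨2 ^ μ', by ring⟩
  obtain ⟨t, -, ht⟩ := Nat.exists_mul_mod_eq_of_coprime
    (2 ^ (μ + 1) - s' % 2 ^ (μ + 1)) hcop (by positivity)
  have hdvd : 2 ^ (μ + 1) ∣ (1 + 2 ^ μ) * t + s' := by
    have h1 : (1 + 2 ^ μ) * t ≡ 2 ^ (μ + 1) - s' % 2 ^ (μ + 1) [MOD 2 ^ (μ + 1)] := ht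
    have h2 : s' ≡ s' % 2 ^ (μ + 1) [MOD 2 ^ (μ + 1)] := (Nat.mod_modEq _ _).symm
    have h3 := h1.add h2
    have hlt : s' % 2 ^ (μ + 1) < 2 ^ (μ + 1) := Nat.mod_lt _ (by positivity)
    have e : 2 ^ (μ + 1) - s' % 2 ^ (μ + 1) + s' % 2 ^ (μ + 1) = 2 ^ (μ + 1) := by omega
    rw [e] at h3
    exact Nat.modEq_zero_iff_dvd.mp (h3.trans (Nat.modEq_zero_iff_dvd.mpr dvd_rfl))
  obtain ⟨w, hw⟩ := hdvd
  refine ⟨t, ?_, (conj_mul_pow t).trans hconj'⟩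
  have hcconj : x * a0 ^ t * x⁻¹ = (a0 ^ t) ^ (1 + 2 ^ (μ + 1)) := by
    rw [conj_pow_pow hconj', ← pow_mul, mul_comm]
  rw [mul_pow_formula hcconj 2, ← hs, ← pow_mul, ← pow_add]
  apply orderOf_dvd_iff_pow_eq_one.mp
  rw [hord]
  refine ⟨w + t * (1 + 2 ^ μ), ?_⟩
  simp only [Finset.sum_range_succ, Finset.sum_range_zero, zero_add]
  have e : t * ((1 + 2 ^ (μ + 1)) ^ (0 + 1) + (1 + 2 ^ (μ + 1)) ^ (1 + 1)) + 2 * s' =
      2 * ((1 + 2 ^ μ) * t + s') + t * (2 ^ (μ + 2) * (1 + 2 ^ μ)) := by ring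
  rw [e, hw]; ring


theorem caseC {μ : ℕ} (hμ : 1 ≤ μ) (hord : orderOf a0 = 2 ^ (μ + 2))
    (hconj : x * a0 * x⁻¹ = a0 ^ r) (hC : r + 1 ≡ 2 ^ (μ + 1) [MOD 2 ^ (μ + 2)])
    (hs : a0 ^ s = x ^ 2) :
    ∃ t : ℕ, (x * a0 ^ t) ^ 2 = 1 ∧
      (x * a0 ^ t) * a0 * (x * a0 ^ t)⁻¹ = a0 ^ (2 ^ (μ + 1) - 1) := by
  obtain ⟨R, hR⟩ : ∃ R, 2 ^ (μ + 1) = R + 1 := ⟨2 ^ (μ + 1) - 1, by
    have : 0 < 2 ^ (μ + 1) := by positivity
    omega⟩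
  have hR' : 2 ^ (μ + 1) - 1 = R := by omega
  rw [hR']
  have hrR : r ≡ R [MOD 2 ^ (μ + 2)] := by
    rw [hR] at hC
    exact Nat.ModEq.add_right_cancel' 1 hC
  have hconj' : x * a0 * x⁻¹ = a0 ^ R := by
    rw [hconj, pow_eq_pow_iff_modEq, hord]; exact hrR
  have hrel := comm_rel (m := μ + 1) hord hconj' hs
  have hsd : 2 ^ (μ + 1) ∣ s := by
    have h1 : R * s + s ≡ s + s [MOD 2 ^ (μ + 1 + 1)] := hrel.add_right s
    have e1 : R * s + s = 2 * (2 ^ μ * s) := by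
      have : R * s + s = (R + 1) * s := by ring
      rw [this, ← hR]; ring
    have e2 : s + s = 2 * s := by ring
    have e3 : 2 ^ (μ + 1 + 1) = 2 * 2 ^ (μ + 1) := by ring
    rw [e1, e2, e3] at h1
    have h2 : 2 ^ μ * s ≡ s [MOD 2 ^ (μ + 1)] := Nat.ModEq.mul_left_cancel' (by norm_num) h1
    have h3 : 2 ^ μ * (2 ^ μ * s) ≡ 2 ^ μ * s [MOD 2 ^ (μ + 1)] := h2.mul_left _
    have h4 : 2 ^ μ * (2 ^ μ * s) ≡ 0 [MOD 2 ^ (μ + 1)] := by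
      apply Nat.modEq_zero_iff_dvd.mpr
      obtain ⟨μ', rfl⟩ : ∃ μ', μ = μ' + 1 := ⟨μ - 1, by omega⟩
      exact ⟨2 ^ μ' * s, by ring⟩
    exact Nat.modEq_zero_iff_dvd.mp ((h2.symm.trans h3.symm).trans h4)
  obtain ⟨w, rfl⟩ := hsd
  rcases Nat.even_or_odd' w with ⟨w', rfl | rfl⟩
  · refine ⟨0, ?_, (conj_mul_pow 0).trans hconj'⟩
    rw [pow_zero, mul_one, ← hs]
    apply orderOf_dvd_iff_pow_eq_one.mp
    rw [hord]
    exact ⟨w', by ring⟩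
  · refine ⟨1, ?_, (conj_mul_pow 1).trans hconj'⟩
    have hcconj : x * a0 ^ 1 * x⁻¹ = (a0 ^ 1) ^ R := by
      rw [pow_one]; exact hconj'
    rw [mul_pow_formula hcconj 2, ← hs, pow_one, ← pow_add]
    apply orderOf_dvd_iff_pow_eq_one.mp
    rw [hord]
    simp only [Finset.sum_range_succ, Finset.sum_range_zero, zero_add]
    rw [hR]
    obtain ⟨μ', rfl⟩ : ∃ μ', μ = μ' + 1 := ⟨μ - 1, by omega⟩
    refine ⟨2 ^ (μ' + 1) + w', ?_⟩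
    have e : R ^ (0 + 1) + R ^ (1 + 1) + (R + 1) * (2 * w' + 1) =
        (R + 1) * (R + 1) + (R + 1) * (2 * w') := by ring
    rw [e, ← hR]; ring

end Cases


/-- Classification of non-abelian 2-groups with a cyclic maximal subgroup: dihedral, generalized quaternion, and for order at least 16 the modular group and the semidihedral group, each given by generators a (of index 2) and b with the stated relations. -/
theorem result {G : Type*} [Group G] [Finite G] (n : ℕ) (hn : 3 ≤ n) (hG : Nat.card G = 2 ^ n) (C : Subgroup G) (hC : IsCyclic C) (hCi : C.index = 2) (hna : ∃ x y : G, x * y ≠ y * x) : ∃ a b : G, orderOf a = 2 ^ (n - 1) ∧ b ∉ Subgroup.zpowers a ∧ ((b ^ 2 = 1 ∧ b * a * b⁻¹ = a⁻¹) ∨ (b ^ 2 = a ^ (2 ^ (n - 2)) ∧ b * a * b⁻¹ = a⁻¹) ∨ (4 ≤ n ∧ b ^ 2 = 1 ∧ b * a * b⁻¹ = a ^ (1 + 2 ^ (n - 2))) ∨ (4 ≤ n ∧ b ^ 2 = 1 ∧ b * a * b⁻¹ = a ^ (2 ^ (n -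 2) - 1))) := by
  obtain ⟨m, rfl⟩ : ∃ m, n = m + 2 := ⟨n - 2, by omega⟩
  have hm : 1 ≤ m := by omega
  have : Fact (Nat.Prime 2) := ⟨Nat.prime_two⟩
  obtain ⟨a0, x, r, hord, hCz, hCn, hxC, hconj, hrp, hr1, hCpow⟩ :=
    setup (p := 2) m hG C hC hCi hna
  have hx2 : x ^ 2 ∈ C := hCi ▸ C.pow_index_mem x
  obtain ⟨s, hs⟩ := hCpow _ hx2
  show ∃ a b : G, orderOf a = 2 ^ (m + 1) ∧ b ∉ Subgroup.zpowers a ∧
    ((b ^ 2 = 1 ∧ b * a * b⁻¹ = a⁻¹) ∨ (b ^ 2 = a ^ (2 ^ m) ∧ b * a * b⁻¹ = a⁻¹) ∨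
      (4 ≤ m + 2 ∧ b ^ 2 = 1 ∧ b * a * b⁻¹ = a ^ (1 + 2 ^ m)) ∨
      (4 ≤ m + 2 ∧ b ^ 2 = 1 ∧ b * a * b⁻¹ = a ^ (2 ^ m - 1)))
  have hnot : ∀ t : ℕ, x * a0 ^ t ∉ Subgroup.zpowers a0 := by
    intro t h
    apply hxC
    rw [← hCz]
    have : x = (x * a0 ^ t) * (a0 ^ t)⁻¹ := by group
    rw [this]
    exact (Subgroup.zpowers a0).mul_mem h
      ((Subgroup.zpowers a0).inv_mem (Subgroup.npow_mem_zpowers a0 t))
  have hxnot : x ∉ Subgroup.zpowers a0 := by rw [hCz]; exact hxC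
  have handleA : r + 1 ≡ 0 [MOD 2 ^ (m + 1)] → ∃ a b : G, orderOf a = 2 ^ (m + 1) ∧
      b ∉ Subgroup.zpowers a ∧
      ((b ^ 2 = 1 ∧ b * a * b⁻¹ = a⁻¹) ∨ (b ^ 2 = a ^ (2 ^ m) ∧ b * a * b⁻¹ = a⁻¹) ∨
        (4 ≤ m + 2 ∧ b ^ 2 = 1 ∧ b * a * b⁻¹ = a ^ (1 + 2 ^ m)) ∨
        (4 ≤ m + 2 ∧ b ^ 2 = 1 ∧ b * a * b⁻¹ = a ^ (2 ^ m - 1))) := by
    intro hA
    obtain ⟨h1, h2 | h2⟩ := caseA hord hconj hA hs
    · exact ⟨a0, x, hord, hxnot, Or.inl ⟨h2, h1⟩⟩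
    · exact ⟨a0, x, hord, hxnot, Or.inr (Or.inl ⟨h2, h1⟩)⟩
  have handleB : r ≡ 1 + 2 ^ m [MOD 2 ^ (m + 1)] → ∃ a b : G, orderOf a = 2 ^ (m + 1) ∧
      b ∉ Subgroup.zpowers a ∧
      ((b ^ 2 = 1 ∧ b * a * b⁻¹ = a⁻¹) ∨ (b ^ 2 = a ^ (2 ^ m) ∧ b * a * b⁻¹ = a⁻¹) ∨
        (4 ≤ m + 2 ∧ b ^ 2 = 1 ∧ b * a * b⁻¹ = a ^ (1 + 2 ^ m)) ∨
        (4 ≤ m + 2 ∧ b ^ 2 = 1 ∧ b * a * b⁻¹ = a ^ (2 ^ m - 1))) := by
    intro hB
    rcases Nat.lt_or_ge m 2 with hm2 | hm2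
    · have hm1 : m = 1 := by omega
      subst hm1
      apply handleA
      have h1 : r + 1 ≡ 1 + 2 ^ 1 + 1 [MOD 2 ^ (1 + 1)] := hB.add_right 1
      exact h1.trans (Nat.modEq_zero_iff_dvd.mpr (by norm_num))
    · obtain ⟨μ, rfl⟩ : ∃ μ, m = μ + 1 := ⟨m - 1, by omega⟩
      obtain ⟨t, ht1, ht2⟩ := caseB (by omega) hord hconj hB hs
      exact ⟨a0, x * a0 ^ t, hord, hnot t, Or.inr (Or.inr (Or.inl ⟨by omega, ht1, ht2⟩))⟩
  have handleC : r + 1 ≡ 2 ^ m [MOD 2 ^ (m + 1)] → ∃ a b : G, orderOf a = 2 ^ (m + 1) ∧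
      b ∉ Subgroup.zpowers a ∧
      ((b ^ 2 = 1 ∧ b * a * b⁻¹ = a⁻¹) ∨ (b ^ 2 = a ^ (2 ^ m) ∧ b * a * b⁻¹ = a⁻¹) ∨
        (4 ≤ m + 2 ∧ b ^ 2 = 1 ∧ b * a * b⁻¹ = a ^ (1 + 2 ^ m)) ∨
        (4 ≤ m + 2 ∧ b ^ 2 = 1 ∧ b * a * b⁻¹ = a ^ (2 ^ m - 1))) := by
    intro hC'
    rcases Nat.lt_or_ge m 2 with hm2 | hm2
    · have hm1 : m = 1 := by omega
      subst hm1
      exfalso
      apply hr1
      have h1 : r + 1 ≡ 1 + 1 [MOD 2 ^ (1 + 1)] := hC'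
      exact Nat.ModEq.add_right_cancel' 1 h1
    · obtain ⟨μ, rfl⟩ : ∃ μ, m = μ + 1 := ⟨m - 1, by omega⟩
      obtain ⟨t, ht1, ht2⟩ := caseC (by omega) hord hconj hC' hs
      exact ⟨a0, x * a0 ^ t, hord, hnot t, Or.inr (Or.inr (Or.inr ⟨by omega, ht1, ht2⟩))⟩
  rcases sq_modEq_one m r hrp with h1 | h1
  · rcases split_mod m r 1 h1 with h2 | h2 | h2
    · exact absurd h2 hr1
    · exact handleB (shift_mod m r 1 h2)
    · exact handleB h2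
  · rcases split_mod m (r + 1) 0 h1 with h2 | h2 | h2
    · exact handleA h2
    · apply handleC
      have := shift_mod m (r + 1) 0 h2
      rwa [zero_add] at this
    · apply handleC
      rwa [zero_add] at h2

end Cfsg.Agent.S0646
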