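import Cfsg.Statements.S0647
import Cfsg.Agent.S0642

set_option autoImplicit false
open Cfsg

namespace Cfsg.Agent.S0647

/-- For a nonempty family of maximal abelian subgroups of a finite group, the intersection of the family is the centre of the subgroup it generates, which is also the full centralizer of that subgroup. -/
theorem result {S : Type*} [Group S] [Finite S] (𝒜 : Set (Subgroup S)) (hne : 𝒜.Nonempty) (hab : ∀ A ∈ 𝒜, IsMulCommutative A) (hmax : ∀ A ∈ 𝒜, ∀ B : Subgroup S, IsMulCommutative B → A ≤ B → B = A) : sInf 𝒜 = sSup 𝒜 ⊓ Subgroup.centralizer ((sSup 𝒜 : Subgroup S) : Set S) ∧ sInf 𝒜 = Subgroup.centralizer ((sSup 𝒜 : Subgroup S) : Set S) := by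
  have hcommA : ∀ A ∈ 𝒜, ∀ x ∈ A, ∀ y ∈ A, x * y = y * x := by
    intro A hA x hx y hy
    have := (hab A hA).is_comm.comm (⟨x, hx⟩ : A) ⟨y, hy⟩
    exact congrArg Subtype.val this
  have h1 : sInf 𝒜 ≤ Subgroup.centralizer ((sSup 𝒜 : Subgroup S) : Set S) := by
    intro x hx
    rw [Subgroup.mem_sInf] at hx
    have : sSup 𝒜 ≤ Subgroup.centralizer ({x} : Set S) := by
      apply sSup_le
      intro A hA y hy
      rw [Subgroup.mem_centralizer_iff]
      intro z hz
      rw [Set.mem_singleton_iff] at hz
      rw [hz]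
      exact hcommA A hA x (hx A hA) y hy
    rw [Subgroup.mem_centralizer_iff]
    intro y hy
    have := this hy
    rw [Subgroup.mem_centralizer_iff] at this
    exact (this x rfl).symm
  have h2 : Subgroup.centralizer ((sSup 𝒜 : Subgroup S) : Set S) ≤ sInf 𝒜 := by
    intro x hx
    rw [Subgroup.mem_sInf]
    intro A hA
    rw [Subgroup.mem_centralizer_iff] at hx
    have hxA : ∀ y ∈ A, y * x = x * y := fun y hy => hx y ((le_sSup hA : A ≤ sSup 𝒜) hy)
    set B := Subgroup.closure ((A : Set S) ∪ {x}) with hB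
    have hBcomm : IsMulCommutative B := by
      have hgen : ∀ u ∈ ((A : Set S) ∪ {x}), ∀ v ∈ ((A : Set S) ∪ {x}), u * v = v * u := by
        intro u hu v hv
        rcases hu with hu | hu <;> rcases hv with hv | hv
        · exact hcommA A hA u hu v hv
        · rw [Set.mem_singleton_iff] at hv; rw [hv]; exact hxA u hu
        · rw [Set.mem_singleton_iff] at hu; rw [hu]; exact (hxA v hv).symm
        · rw [Set.mem_singleton_iff] at hu hv; rw [hu, hv]
      have hall := Cfsg.Agent.S0642.closure_comm _ hgen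
      exact ⟨⟨fun u v => Subtype.ext (hall u u.2 v v.2)⟩⟩
    have hAB : A ≤ B := by
      intro y hy
      exact Subgroup.subset_closure (Or.inl hy)
    have := hmax A hA B hBcomm hAB
    rw [← this]
    exact Subgroup.subset_closure (Or.inr rfl)
  have h3 : sInf 𝒜 = Subgroup.centralizer ((sSup 𝒜 : Subgroup S) : Set S) := le_antisymm h1 h2
  refine ⟨?_, h3⟩
  apply le_antisymm
  · apply le_inf _ h1
    obtain ⟨A, hA⟩ := hne
    exact (sInf_le hA).trans (le_sSup hA)
  · rw [h3]; exact inf_le_right

end Cfsg.Agent.S0647
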