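import Cfsg.Statements.S0655
import Cfsg.Agent.S0642

set_option autoImplicit false
open Cfsg

namespace Cfsg.Agent.S0655

section
variable {S : Type*} [Group S]

/-- adjoining a commuting element of order dividing `p` to an elementary abelian subgroup -/
theorem elemAb_adjoin (p : ℕ) (A : Subgroup S) (hA : Cfsg.IsElementaryAbelian p A) (x : S)
    (hx : x ^ p = 1) (hxA : ∀ y ∈ A, y * x = x * y) :
    Cfsg.IsElementaryAbelian p (Subgroup.closure ((A : Set S) ∪ {x})) := by
  have hcommA : ∀ u ∈ A, ∀ v ∈ A, u * v = v * u := by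
    intro u hu v hv
    have := hA.1.is_comm.comm (⟨u, hu⟩ : A) ⟨v, hv⟩
    exact congrArg Subtype.val this
  have hgen : ∀ u ∈ ((A : Set S) ∪ {x}), ∀ v ∈ ((A : Set S) ∪ {x}), u * v = v * u := by
    intro u hu v hv
    rcases hu with hu | hu <;> rcases hv with hv | hv
    · exact hcommA u hu v hv
    · rw [Set.mem_singleton_iff] at hv; rw [hv]; exact hxA u hu
    · rw [Set.mem_singleton_iff] at hu; rw [hu]; exact (hxA v hv).symm
    · rw [Set.mem_singleton_iff] at hu hv; rw [hu, hv]
  have hall := Cfsg.Agent.S0642.closure_comm _ hgen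
  refine ⟨⟨⟨fun u v => Subtype.ext (hall u u.2 v v.2)⟩⟩, ?_⟩
  intro b hb
  induction hb using Subgroup.closure_induction with
  | mem y hy =>
    rcases hy with hy | hy
    · exact hA.2 y hy
    · rw [Set.mem_singleton_iff] at hy; rw [hy]; exact hx
  | one => exact one_pow p
  | mul u v hu hv ihu ihv =>
    have hc : Commute u v := hall u hu v hv
    rw [hc.mul_pow, ihu, ihv, one_mul]
  | inv u hu ihu => rw [inv_pow, ihu, inv_one]

end

/-- In a p-group the intersection of all elementary abelian subgroups of largest order is the subgroup generated by the elements of order dividing p in the centre (equivalently the centralizer) of the elementary-version Thompson subgroup. -/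
theorem result {S : Type*} [Group S] [Finite S] {p : ℕ} [Fact p.Prime] (hS : IsPGroup p S) : sInf (Cfsg.maxElementaryAbelianSubgroups p S) = Cfsg.omegaCenterThompson p S ∧ Cfsg.omegaCenterThompson p S = Cfsg.omegaOne p (Subgroup.centralizer (Cfsg.thompsonSubgroup p S : Set S)) := by
  set 𝒜 := Cfsg.maxElementaryAbelianSubgroups p S with h𝒜
  set J := Cfsg.thompsonSubgroup p S with hJ
  have hJdef : J = sSup 𝒜 := rfl
  -- nonempty
  have hne : 𝒜.Nonempty := by
    have hbot : Cfsg.IsElementaryAbelian p (⊥ : Subgroup S) := by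
      refine ⟨⟨⟨fun u v => ?_⟩⟩, ?_⟩
      · apply Subtype.ext
        have hu := Subgroup.mem_bot.mp u.2
        have hv := Subgroup.mem_bot.mp v.2
        simp [hu, hv]
      · intro a ha
        rw [Subgroup.mem_bot.mp ha, one_pow]
    have : Nonempty {B : Subgroup S // Cfsg.IsElementaryAbelian p B} := ⟨⟨⊥, hbot⟩⟩
    obtain ⟨A, hA⟩ := Finite.exists_max
      (fun B : {B : Subgroup S // Cfsg.IsElementaryAbelian p B} => Nat.card B.1)
    exact ⟨A.1, A.2, fun B hB => hA ⟨B, hB⟩⟩
  have h1 : sInf 𝒜 ≤ Cfsg.omegaCenterThompson p S := by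
    intro x hx
    rw [Subgroup.mem_sInf] at hx
    apply Subgroup.subset_closure
    obtain ⟨A₀, hA₀⟩ := hne
    refine ⟨⟨(le_sSup hA₀ : A₀ ≤ sSup 𝒜) (hx A₀ hA₀), ?_⟩, hA₀.1.2 x (hx A₀ hA₀)⟩
    -- x centralizes J
    have : sSup 𝒜 ≤ Subgroup.centralizer ({x} : Set S) := by
      apply sSup_le
      intro A hA y hy
      rw [Subgroup.mem_centralizer_iff]
      intro z hz
      rw [Set.mem_singleton_iff] at hz
      rw [hz]
      have := hA.1.1.is_comm.comm (⟨x, hx A hA⟩ : A) ⟨y, hy⟩
      exact congrArg Subtype.val this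
    show x ∈ Subgroup.centralizer (J : Set S)
    rw [Subgroup.mem_centralizer_iff]
    intro y hy
    have := this hy
    rw [Subgroup.mem_centralizer_iff] at this
    exact (this x rfl).symm
  have h2 : Cfsg.omegaCenterThompson p S ≤
      Cfsg.omegaOne p (Subgroup.centralizer (J : Set S)) := by
    apply Subgroup.closure_mono
    rintro x ⟨hx, hxp⟩
    exact ⟨hx.2, hxp⟩
  have h3 : Cfsg.omegaOne p (Subgroup.centralizer (J : Set S)) ≤ sInf 𝒜 := by
    unfold Cfsg.omegaOne
    rw [Subgroup.closure_le]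
    rintro x ⟨hxC, hxp⟩
    rw [SetLike.mem_coe, Subgroup.mem_sInf]
    intro A hA
    rw [Subgroup.mem_centralizer_iff] at hxC
    have hxA : ∀ y ∈ A, y * x = x * y := fun y hy => hxC y ((le_sSup hA : A ≤ sSup 𝒜) hy)
    set B := Subgroup.closure ((A : Set S) ∪ {x}) with hB
    have hBel : Cfsg.IsElementaryAbelian p B := elemAb_adjoin p A hA.1 x hxp hxA
    have hAB : A ≤ B := fun y hy => Subgroup.subset_closure (Or.inl hy)
    have hcard : Nat.card B ≤ Nat.card A := hA.2 B hBel
    have : A = B := Subgroup.eq_of_le_of_card_ge hAB hcard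
    rw [this]
    exact Subgroup.subset_closure (Or.inr rfl)
  exact ⟨le_antisymm h1 (h2.trans h3), le_antisymm h2 (h3.trans h1)⟩

end Cfsg.Agent.S0655
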