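import Cfsg.Statements.S0656
import Cfsg.Agent.Lib.H4.Dickson.SecD3
import Cfsg.Agent.Lib.H1.QuadMul2
import Cfsg.Agent.Lib.H1.QuadStable
import Cfsg.Agent.Lib.H16.OddKiller

set_option autoImplicit false
open Cfsg

namespace Cfsg.Agent.S0656

open Cfsg.Agent.Lib.H1.QuadMul Cfsg.Agent.Lib.H1.QuadPair Cfsg.Agent.Lib.H4.Dickson

/-- a surjection from a subgroup of a subgroup of `↥H` gives a section inside `H` -/
theorem section_of_surj' {G₀ : Type*} [Group G₀] {S : Type*} [Group S] (H : Subgroup G₀)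
    (D : Subgroup ↥H) (X : Subgroup ↥D) (ψ : ↥X →* S) (hψ : Function.Surjective ψ) :
    ∃ (K L : Subgroup G₀) (hL : (L.subgroupOf K).Normal), K ≤ H ∧
      Nonempty ((K ⧸ L.subgroupOf K) ≃* S) := by
  apply section_of_surj H (X.map D.subtype)
    (ψ.comp (X.equivMapOfInjective D.subtype D.subtype_injective).symm.toMonoidHom)
  exact hψ.comp (X.equivMapOfInjective D.subtype D.subtype_injective).symm.surjective

/-- the abstract form: a faithful group on an elementary abelian group with trivial `O_p` and a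
nontrivial quadratic element contains a section `SL₂(p)` -/
theorem abstract_form {p : ℕ} [Fact p.Prime] (hp : p ≠ 2) {V : Type*} [Group V] [Finite V]
    [IsEA p V] {Hh : Type*} [Group Hh] [Finite Hh] (σ : Hh →* MulAut V)
    (hσ : Function.Injective σ) (hO : Cfsg.pCore p Hh = ⊥) {a : Hh} (ha1 : a ≠ 1)
    (haq : QuadM (σ a)) :
    ∃ (D : Subgroup Hh) (X : Subgroup ↥D)
      (ψ : ↥X →* Matrix.SpecialLinearGroup (Fin 2) (ZMod p)), Function.Surjective ψ := by
  classical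
  -- Baer–Suzuki
  have hex : ∃ y y' : Hh, QuadM (σ y) ∧ QuadM (σ y') ∧
      ¬ IsPGroup p (Subgroup.closure ({y, y'} : Set Hh)) := by
    by_contra hcon
    push Not at hcon
    obtain ⟨Kc, hKc⟩ : ∃ Kc : Set Hh, Kc = {y | ∃ g : Hh, y = g * a * g⁻¹} := ⟨_, rfl⟩
    have hKconj : ∀ g : Hh, ∀ y ∈ Kc, g * y * g⁻¹ ∈ Kc := by
      intro g y hy
      rw [hKc] at hy ⊢
      obtain ⟨k, rfl⟩ := hy
      exact ⟨g * k, by group⟩
    have hKq : ∀ y ∈ Kc, QuadM (σ y) := by
      intro y hy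
      rw [hKc] at hy
      obtain ⟨k, rfl⟩ := hy
      rw [map_mul, map_mul, map_inv]
      exact haq.conj (σ k)
    have hKpair : ∀ y ∈ Kc, ∀ y' ∈ Kc, IsPGroup p (Subgroup.closure ({y, y'} : Set Hh)) :=
      fun y hy y' hy' => hcon y y' (hKq y hy) (hKq y' hy')
    have hKp := Cfsg.Agent.Lib.H16.isPGroup_closure_of_pairwise (p := p) Kc hKconj hKpair
    have hKn := Cfsg.Agent.Lib.H16.closure_normal_of_conj_mem Kc hKconj
    have haK : a ∈ Kc := by
      rw [hKc]; exact ⟨1, by group⟩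
    have := Cfsg.Agent.Lib.H1.le_pCore hKn hKp (Subgroup.subset_closure haK)
    rw [hO, Subgroup.mem_bot] at this
    exact ha1 this
  obtain ⟨y, y', hyq, hy'q, hnp⟩ := hex
  obtain ⟨D, hD⟩ : ∃ D : Subgroup Hh, D = Subgroup.closure ({y, y'} : Set Hh) := ⟨_, rfl⟩
  have hyD : y ∈ D := by rw [hD]; exact Subgroup.subset_closure (Set.mem_insert _ _)
  have hy'D : y' ∈ D := by
    rw [hD]; exact Subgroup.subset_closure (Set.mem_insert_of_mem _ (Set.mem_singleton _))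
  have hgen : Subgroup.closure ({⟨y, hyD⟩, ⟨y', hy'D⟩} : Set ↥D) = ⊤ := by
    subst hD
    exact Cfsg.Agent.Lib.H16.closure_pair_subtype_eq_top y y'
  rw [← hD] at hnp
  have hσD : Function.Injective (σ.comp D.subtype) := hσ.comp D.subtype_injective
  have hModFin : Module.Finite (ZMod p) (EA p V) := Module.Finite.of_finite
  obtain ⟨m, φ, hφ⟩ := Cfsg.Agent.Lib.H1.QuadStable.exists_hom_sl2
    ((mulAutToLin p V).comp (σ.comp D.subtype)) (mulAutToLin_injective.comp hσD) hgen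
    (a := ⟨y, hyD⟩) (b := ⟨y', hy'D⟩) (quad_of_quadM hyq) (quad_of_quadM hy'q) hnp
  have hK2 := two_ne_zero_of_odd (K := GaloisField p m) p hp
  have hy₁p : (⟨y, hyD⟩ : ↥D) ^ p = 1 := pow_p_of_quadM (σ.comp D.subtype) hσD hyq
  have hy₂p : (⟨y', hy'D⟩ : ↥D) ^ p = 1 := pow_p_of_quadM (σ.comp D.subtype) hσD hy'q
  have ht₁ := (Cfsg.Agent.Lib.H8.SL2Odd.pow_char_eq_one_iff_trace p hK2 (φ ⟨y, hyD⟩)).1
    (by rw [← map_pow, hy₁p, map_one])
  have ht₂ := (Cfsg.Agent.Lib.H8.SL2Odd.pow_char_eq_one_iff_trace p hK2 (φ ⟨y', hy'D⟩)).1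
    (by rw [← map_pow, hy₂p, map_one])
  have hrange : φ.range = Subgroup.closure ({φ ⟨y, hyD⟩, φ ⟨y', hy'D⟩} :
      Set (Matrix.SpecialLinearGroup (Fin 2) (GaloisField p m))) := by
    rw [MonoidHom.range_eq_map, ← hgen, MonoidHom.map_closure, Set.image_pair]
  have hnp' : ¬ IsPGroup p (Subgroup.closure ({φ ⟨y, hyD⟩, φ ⟨y', hy'D⟩} :
      Set (Matrix.SpecialLinearGroup (Fin 2) (GaloisField p m)))) := by
    rw [← hrange, ← pImg_iff_range]
    exact hφ
  obtain ⟨f, hfinj, hfle⟩ := exists_sl2p_of_unip p hp ht₁ ht₂ hnp'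
  rw [← hrange] at hfle
  refine ⟨D, f.range.comap φ,
    (MonoidHom.ofInjective hfinj).symm.toMonoidHom.comp (φ.subgroupComap f.range), ?_⟩
  intro s
  obtain ⟨d, hd⟩ := hfle ⟨s, rfl⟩
  have hdm : d ∈ f.range.comap φ := by
    rw [Subgroup.mem_comap, hd]; exact ⟨s, rfl⟩
  refine ⟨⟨d, hdm⟩, ?_⟩
  rw [MonoidHom.comp_apply]
  apply (MonoidHom.ofInjective hfinj).injective
  rw [MulEquiv.coe_toMonoidHom, MulEquiv.apply_symm_apply]
  apply Subtype.ext
  rw [MonoidHom.ofInjective_apply]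
  exact hd

/-- For odd p, a faithful group on an elementary abelian p-group with no nontrivial normal p-subgroup in which some nontrivial p-element acts quadratically has a section isomorphic to SL(2, p). -/
theorem result {G : Type*} [Group G] [Finite G] {p : ℕ} [Fact p.Prime] (hp : p ≠ 2) (V H : Subgroup G) (hV : Cfsg.IsElementaryAbelian p V) (hHV : H ≤ Subgroup.normalizer (V : Set G)) (hf : H ⊓ Subgroup.centralizer (V : Set G) = ⊥) (hO : Cfsg.pCore p ↥H = ⊥) (x : G) (hxH : x ∈ H) (hx1 : x ≠ 1) (hxp : ∃ k : ℕ, orderOf x = p ^ k) (hq : ⁅⁅V, Subgroup.zpowers x⁆, Subgroup.zpowers x⁆ = ⊥) : ∃ (K L : Subgroup G) (hL : (L.subgroupOf K).Normal), K ≤ H ∧ Nonempty ((K ⧸ L.subgroupOf K) ≃* Matrix.SpecialLinearGroup (Fin 2) (ZMod p)) := by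
  have := isEA_of hV
  have hxne : (⟨x, hxH⟩ : ↥H) ≠ 1 := fun h => hx1 (congrArg Subtype.val h)
  obtain ⟨D, X, ψ, hψ⟩ := abstract_form hp (act V H hHV) (act_injective hHV hf) hO hxne
    (quadM_act hHV hxH hq)
  exact section_of_surj' H D X ψ hψ

end Cfsg.Agent.S0656
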