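import Cfsg.Statements.S0667
import Cfsg.Agent.Lib.H4.PStable
import Cfsg.Agent.Lib.H4.ZJMap
import Cfsg.Agent.Lib.H7.PConstrained2
import Cfsg.Agent.S0653

set_option autoImplicit false
open Cfsg

namespace Cfsg.Agent.S0667

/-- Glauberman's Theorem in the p-constrained, p-stable vocabulary: for odd p such a group is the product of its largest normal subgroup of order prime to p with the normalizer of Z(J(P)), and Z(J(P)) is normal when that p'-subgroup is trivial. -/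
theorem result {G : Type*} [Group G] [Finite G] {p : ℕ} [Fact p.Prime] (hp : p ≠ 2) (hc : Cfsg.IsPConstrained p G) (hs : Cfsg.IsPStable p G) (P : Sylow p G) : Cfsg.pPrimeCore p G ⊔ Subgroup.normalizer (Cfsg.centerThompsonAOf ((P : Subgroup G)) : Set G) = ⊤ ∧ (Cfsg.pPrimeCore p G = ⊥ → (Cfsg.centerThompsonAOf ((P : Subgroup G))).Normal) := by
  have hN : (Nat.card (Cfsg.pPrimeCore p G)).Coprime p :=
    Cfsg.Agent.Lib.H22.card_pPrimeCore_coprime p
  -- `C(O_p) ≤ O_p` in the quotient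
  have hcbar : Subgroup.centralizer (Cfsg.pCore p (G ⧸ Cfsg.pPrimeCore p G) : Set (G ⧸ Cfsg.pPrimeCore p G))
      ≤ Cfsg.pCore p (G ⧸ Cfsg.pPrimeCore p G) := by
    obtain ⟨R₀⟩ : Nonempty (Sylow p ↥(Cfsg.pPrimePCore p G)) := inferInstance
    have h1 := Cfsg.Agent.Lib.H7.map_sylow_pPrimePCore p R₀
    have h2 := hc R₀
    have h3 := Cfsg.Agent.Lib.H7.map_centralizer_of_coprime p hN
      (P := (R₀ : Subgroup ↥(Cfsg.pPrimePCore p G)).map (Cfsg.pPrimePCore p G).subtype)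
      (R₀.isPGroup'.map _)
    rw [h1] at h3
    rw [← h3]
    rintro _ ⟨x, hx, rfl⟩
    exact h2 hx
  have hsbar := Cfsg.Agent.Lib.H4.PStable.isPStable_quotient hs
  have hstbar : ∀ (V : Subgroup (G ⧸ Cfsg.pPrimeCore p G)) [V.Normal], IsPGroup p V →
      Cfsg.IsPStableOn p V :=
    fun V _ hV => Cfsg.Agent.Lib.H4.PStable.isPStableOn_of_isPStable hsbar V hV
  have hchar := Cfsg.Agent.S0653.result hp hcbar hstbar
    (P.mapSurjective (QuotientGroup.mk'_surjective (Cfsg.pPrimeCore p G)))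
  rw [Sylow.coe_mapSurjective] at hchar
  have hinj : Set.InjOn (QuotientGroup.mk' (Cfsg.pPrimeCore p G)) ((P : Subgroup G) : Set G) := by
    intro x hx y hy hxy
    have h1 : x⁻¹ * y ∈ Cfsg.pPrimeCore p G := QuotientGroup.eq.mp hxy
    have h2 : x⁻¹ * y ∈ (P : Subgroup G) ⊓ Cfsg.pPrimeCore p G :=
      ⟨(P : Subgroup G).mul_mem ((P : Subgroup G).inv_mem hx) hy, h1⟩
    rw [Cfsg.Agent.Lib.H4.PStable.inf_eq_bot_of_isPGroup_of_coprime P.isPGroup' hN,
      Subgroup.mem_bot] at h2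
    exact inv_mul_eq_one.mp h2
  rw [Cfsg.Agent.Lib.H4.ZJ.centerThompsonAOf_map _ _ hinj] at hchar
  obtain ⟨Z, hZ⟩ : ∃ Z, Z = Cfsg.centerThompsonAOf (P : Subgroup G) := ⟨_, rfl⟩
  rw [← hZ] at hchar ⊢
  have hZP : Z ≤ (P : Subgroup G) := by
    rw [hZ, ← Cfsg.Agent.Lib.H4.ZJ.ZJ_abClass]
    exact Cfsg.Agent.Lib.H4.ZJ.ZJ_le _
  have hZp : IsPGroup p Z := P.isPGroup'.to_le hZP
  have hNZ : (Z ⊔ Cfsg.pPrimeCore p G).Normal := by
    have : Z ⊔ Cfsg.pPrimeCore p G =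
        (Z.map (QuotientGroup.mk' (Cfsg.pPrimeCore p G))).comap
          (QuotientGroup.mk' (Cfsg.pPrimeCore p G)) := by
      rw [Subgroup.comap_map_eq, QuotientGroup.ker_mk']
    rw [this]
    haveI : (Z.map (QuotientGroup.mk' (Cfsg.pPrimeCore p G))).Normal :=
      Subgroup.normal_of_characteristic _
    infer_instance
  constructor
  · rw [eq_top_iff]
    intro g _
    have hR : Z.map (MulAut.conj g).toMonoidHom ≤ Z ⊔ Cfsg.pPrimeCore p G := by
      rintro _ ⟨z, hz, rfl⟩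
      exact hNZ.conj_mem z (Subgroup.mem_sup_left hz) g
    obtain ⟨n, hn, hRn⟩ := Cfsg.Agent.Lib.H7.exists_conj_eq_of_le_sup p hN hZp (hZp.map _)
      (Cfsg.Agent.Lib.H7.card_map_conj' Z g) hR
    have h1 : n⁻¹ * g ∈ Subgroup.normalizer (Z : Set G) := by
      rw [Cfsg.Agent.Lib.H15.mem_normalizer_iff_cj_eq, ← Cfsg.Agent.Lib.H15.cj_cj]
      change Cfsg.Agent.Lib.H15.cj n⁻¹ (Z.map (MulAut.conj g).toMonoidHom) = Z
      rw [hRn]
      exact Cfsg.Agent.Lib.H15.cj_inv_cj Z n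
    have : g = n * (n⁻¹ * g) := by group
    rw [this]
    exact Subgroup.mul_mem_sup hn h1
  · intro hbot
    rw [hbot, sup_bot_eq] at hNZ
    exact hNZ

end Cfsg.Agent.S0667
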