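import Cfsg.Statements.S0658
import Cfsg.Agent.Lib.H4.ZJMap
import Cfsg.Agent.Lib.H2.NormGrow
import Cfsg.Agent.S0667

set_option autoImplicit false
open Cfsg

namespace Cfsg.Agent.S0658

open Cfsg.Agent.Lib.H5 Cfsg.Agent.Lib.H15 Cfsg.Agent.Lib.H4.ZJ

section
variable {G : Type*} [Group G] [Finite G] {p : ℕ} [Fact p.Prime]

theorem card_lt_of_lt' {H K : Subgroup G} (h : H < K) : Nat.card H < Nat.card K := by
  have h1 : (H : Set G) ⊂ (K : Set G) := SetLike.coe_ssubset_coe.2 h
  have := Set.ncard_lt_ncard h1 (Set.toFinite _)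
  rwa [← Nat.card_coe_set_eq, ← Nat.card_coe_set_eq] at this

theorem card_le_of_le' {H K : Subgroup G} (h : H ≤ K) : Nat.card H ≤ Nat.card K :=
  Subgroup.card_le_of_le h

/-- `Z(R) ≤ Z(J(R))`, so `Z(J(R))` is nontrivial for a nontrivial `p`-group `R`. -/
theorem centerThompsonAOf_ne_bot {R : Subgroup G} (hR : IsPGroup p R) (hR1 : R ≠ ⊥) :
    Cfsg.centerThompsonAOf R ≠ ⊥ := by
  rw [← ZJ_abClass]
  have hB : R ⊓ Subgroup.centralizer (R : Set G) ≤ ZJ (abClass G) R := by
    apply le_ZJ_of_forall_le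
    intro A hA
    have hpred : (abClass G).pred ((R ⊓ Subgroup.centralizer (R : Set G)) ⊔ A) := by
      apply (abClass G).sup _ _ _ hA.2.1
      · intro x hx y hy
        exact ((Subgroup.mem_centralizer_iff.mp hx.2) y (hA.1 hy)).symm
      · intro x hx y hy
        exact ((Subgroup.mem_centralizer_iff.mp hx.2) y hy.1).symm
    have hle : (R ⊓ Subgroup.centralizer (R : Set G)) ⊔ A ≤ R := sup_le inf_le_left hA.1
    have hcard := hA.2.2 _ hle hpred
    have heq : A = (R ⊓ Subgroup.centralizer (R : Set G)) ⊔ A :=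
      Subgroup.eq_of_le_of_card_ge le_sup_right hcard
    rw [heq]
    exact le_sup_left
  haveI : Nontrivial ↥R := by
    rw [Subgroup.nontrivial_iff_ne_bot]; exact hR1
  have hcn := hR.center_nontrivial
  obtain ⟨z, hz1⟩ := exists_ne (1 : Subgroup.center ↥R)
  intro hbot
  apply hz1
  have hzmem : ((z : ↥R) : G) ∈ R ⊓ Subgroup.centralizer (R : Set G) := by
    refine Subgroup.mem_inf.mpr ⟨(z : ↥R).2, ?_⟩
    rw [Subgroup.mem_centralizer_iff]
    intro y hy
    have := (Subgroup.mem_center_iff.mp z.2) ⟨y, hy⟩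
    exact congrArg Subtype.val this
  have := hB hzmem
  rw [hbot, Subgroup.mem_bot] at this
  apply Subtype.ext
  apply Subtype.ext
  exact this

/-- If `R` is a Sylow `p`-subgroup of the `p`-local `N_G(Q)`, then `N_G(Q)` normalizes `Z(J(R))`. -/
theorem claimA (hp : p ≠ 2)
    (hloc : ∀ Q : Subgroup G, IsPGroup p Q → Q ≠ ⊥ →
      Cfsg.pPrimeCore p ↥(Subgroup.normalizer (Q : Set G)) = ⊥ ∧
      Cfsg.IsPConstrained p ↥(Subgroup.normalizer (Q : Set G)) ∧
      Cfsg.IsPStable p ↥(Subgroup.normalizer (Q : Set G)))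
    (Q : Subgroup G) (hQp : IsPGroup p Q) (hQ1 : Q ≠ ⊥) (R : Subgroup G)
    (hR : IsSylowIn p R (Subgroup.normalizer (Q : Set G))) :
    Subgroup.normalizer (Q : Set G) ≤ Subgroup.normalizer (Cfsg.centerThompsonAOf R : Set G) := by
  obtain ⟨R₀, hR₀⟩ := hR.exists_sylow
  obtain ⟨hO, hc, hs⟩ := hloc Q hQp hQ1
  have h := (Cfsg.Agent.S0667.result hp hc hs R₀).2 hO
  have hmap : Cfsg.centerThompsonAOf R =
      (Cfsg.centerThompsonAOf (R₀ : Subgroup ↥(Subgroup.normalizer (Q : Set G)))).map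
        (Subgroup.normalizer (Q : Set G)).subtype := by
    rw [← hR₀]
    exact centerThompsonAOf_map _ _ (Subgroup.subtype_injective _).injOn
  intro n hn
  apply mem_normalizer_of_cj_le
  rw [hmap]
  rintro _ ⟨_, ⟨z₀, hz₀, rfl⟩, rfl⟩
  refine ⟨⟨n, hn⟩ * z₀ * ⟨n, hn⟩⁻¹, h.conj_mem z₀ hz₀ ⟨n, hn⟩, ?_⟩
  simp

theorem main (hp : p ≠ 2)
    (hloc : ∀ Q : Subgroup G, IsPGroup p Q → Q ≠ ⊥ →
      Cfsg.pPrimeCore p ↥(Subgroup.normalizer (Q : Set G)) = ⊥ ∧
      Cfsg.IsPConstrained p ↥(Subgroup.normalizer (Q : Set G)) ∧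
      Cfsg.IsPStable p ↥(Subgroup.normalizer (Q : Set G)))
    (P : Sylow p G) : ∀ (k : ℕ) (Q : Subgroup G), Q ≤ (P : Subgroup G) → Q ≠ ⊥ →
      Nat.card (P : Subgroup G) -
        Nat.card ((P : Subgroup G) ⊓ Subgroup.normalizer (Q : Set G) : Subgroup G) ≤ k →
      Subgroup.normalizer (Q : Set G) ≤
        Subgroup.normalizer (Cfsg.centerThompsonAOf (P : Subgroup G) : Set G) := by
  obtain ⟨M, hM⟩ : ∃ M, M = Subgroup.normalizer (Cfsg.centerThompsonAOf (P : Subgroup G) : Set G) :=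
    ⟨_, rfl⟩
  rw [← hM]
  have hPM : (P : Subgroup G) ≤ M := by
    rw [hM, ← ZJ_abClass]
    exact Subgroup.le_normalizer.trans (normalizer_le_normalizer_ZJ _)
  have hPSylM : IsSylowIn p (P : Subgroup G) M := (isSylowIn_top_of_sylow P).mono hPM le_top
  -- the common final step: if `R = P ⊓ N_G(Q)` is Sylow in `N_G(Q)`
  intro k
  induction k with
  | zero =>
    intro Q hQP hQ1 hk
    have hQp : IsPGroup p Q := P.isPGroup'.to_le hQP
    have hRP : (P : Subgroup G) ⊓ Subgroup.normalizer (Q : Set G) = (P : Subgroup G) := by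
      apply Subgroup.eq_of_le_of_card_ge inf_le_left
      omega
    have hPN : (P : Subgroup G) ≤ Subgroup.normalizer (Q : Set G) := by
      rw [← hRP]; exact inf_le_right
    have hSyl : IsSylowIn p (P : Subgroup G) (Subgroup.normalizer (Q : Set G)) :=
      (isSylowIn_top_of_sylow P).mono hPN le_top
    rw [hM]
    exact claimA hp hloc Q hQp hQ1 _ hSyl
  | succ k ih =>
    intro Q hQP hQ1 hk
    by_cases hk' : Nat.card (P : Subgroup G) -
        Nat.card ((P : Subgroup G) ⊓ Subgroup.normalizer (Q : Set G) : Subgroup G) ≤ k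
    · exact ih Q hQP hQ1 hk'
    obtain ⟨R, hRdef⟩ : ∃ R, R = (P : Subgroup G) ⊓ Subgroup.normalizer (Q : Set G) := ⟨_, rfl⟩
    rw [← hRdef] at hk hk'
    have hRP : R ≤ (P : Subgroup G) := hRdef ▸ inf_le_left
    have hRN : R ≤ Subgroup.normalizer (Q : Set G) := hRdef ▸ inf_le_right
    have hQp : IsPGroup p Q := P.isPGroup'.to_le hQP
    have hRp : IsPGroup p R := P.isPGroup'.to_le hRP
    have hQR : Q ≤ R := hRdef ▸ le_inf hQP Subgroup.le_normalizer
    have hR1 : R ≠ ⊥ := fun h => hQ1 (le_bot_iff.mp (h ▸ hQR))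
    have hcardRP : Nat.card R < Nat.card (P : Subgroup G) := by omega
    -- induction hypothesis in convenient form
    have IH : ∀ Q' : Subgroup G, Q' ≤ (P : Subgroup G) → Q' ≠ ⊥ →
        Nat.card R < Nat.card ((P : Subgroup G) ⊓ Subgroup.normalizer (Q' : Set G) : Subgroup G) →
        Subgroup.normalizer (Q' : Set G) ≤ M := by
      intro Q' h1 h2 h3
      apply ih Q' h1 h2
      omega
    -- normalizers grow
    have hgrow : ∀ S : Subgroup G, IsPGroup p S → R ≤ S → R ≠ S →
        Nat.card R < Nat.card (S ⊓ Subgroup.normalizer (R : Set G) : Subgroup G) := by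
      intro S hS hRS hne
      apply card_lt_of_lt'
      refine lt_of_le_of_ne (le_inf hRS Subgroup.le_normalizer) ?_
      intro heq
      apply hne
      exact Cfsg.Agent.Lib.H2.eq_of_inf_normalizer_le hS hRS heq.ge
    have hRneP : R ≠ (P : Subgroup G) := fun h => by rw [h] at hcardRP; exact lt_irrefl _ hcardRP
    have hNR : Subgroup.normalizer (R : Set G) ≤ M :=
      IH R hRP hR1 (hgrow _ P.isPGroup' hRP hRneP)
    by_cases hSyl : IsSylowIn p R (Subgroup.normalizer (Q : Set G))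
    · have h1 := claimA hp hloc Q hQp hQ1 R hSyl
      refine h1.trans ?_
      have hZR : Cfsg.centerThompsonAOf R ≤ R := by
        rw [← ZJ_abClass]; exact ZJ_le _
      apply IH _ (hZR.trans hRP) (centerThompsonAOf_ne_bot hRp hR1)
      refine lt_of_lt_of_le (hgrow _ P.isPGroup' hRP hRneP) ?_
      apply card_le_of_le'
      apply inf_le_inf_left
      rw [← ZJ_abClass]
      exact normalizer_le_normalizer_ZJ _
    · obtain ⟨Rs, hRs, hRRs⟩ := exists_isSylowIn_ge hRp hRN
      have hRneRs : R ≠ Rs := fun h => hSyl (h ▸ hRs)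
      obtain ⟨T, hTdef⟩ : ∃ T, T = Rs ⊓ Subgroup.normalizer (R : Set G) := ⟨_, rfl⟩
      have hTcard : Nat.card R < Nat.card T := hTdef ▸ hgrow _ hRs.2.1 hRRs hRneRs
      have hTp : IsPGroup p T := hRs.2.1.to_le (hTdef ▸ inf_le_left)
      have hTM : T ≤ M := (hTdef ▸ inf_le_right : T ≤ Subgroup.normalizer (R : Set G)).trans hNR
      have hTN : T ≤ Subgroup.normalizer (Q : Set G) :=
        (hTdef ▸ inf_le_left : T ≤ Rs).trans hRs.1
      have hRT : R ≤ T := hTdef ▸ le_inf hRRs Subgroup.le_normalizer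
      obtain ⟨S', hS', hTS'⟩ := exists_isSylowIn_ge hTp hTM
      obtain ⟨m, hmM, hm⟩ := hS'.exists_conj hPSylM
      change (P : Subgroup G) = cj m S' at hm
      have hTP : cj m T ≤ (P : Subgroup G) := by
        rw [hm]; exact cj_mono m hTS'
      have hQ'P : cj m Q ≤ (P : Subgroup G) := (cj_mono m (hQR.trans hRT)).trans hTP
      have hQ'1 : cj m Q ≠ ⊥ := by
        intro h
        apply hQ1
        have := card_cj m Q
        rw [h, Subgroup.card_bot] at this
        exact Subgroup.card_eq_one.mp this.symm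
      have hcard : Nat.card R < Nat.card ((P : Subgroup G) ⊓
          Subgroup.normalizer ((cj m Q : Subgroup G) : Set G) : Subgroup G) := by
        refine lt_of_lt_of_le hTcard ?_
        rw [← card_cj m T]
        apply card_le_of_le'
        apply le_inf hTP
        rw [normalizer_cj]
        exact cj_mono m hTN
      have h2 := IH (cj m Q) hQ'P hQ'1 hcard
      rw [normalizer_cj, cj_le_iff, cj_eq_self_of_mem (M.inv_mem hmM)] at h2
      exact h2

end

/-- In a group of characteristic p type all of whose p-locals are p-stable (p odd), the normalizer of Z(J(P)) contains the normalizer of every nontrivial subgroup of the Sylow p-subgroup P. -/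
theorem result {G : Type*} [Group G] [Finite G] {p : ℕ} [Fact p.Prime] (hp : p ≠ 2) (hloc : ∀ Q : Subgroup G, IsPGroup p Q → Q ≠ ⊥ → Cfsg.pPrimeCore p ↥(Subgroup.normalizer (Q : Set G)) = ⊥ ∧ Cfsg.IsPConstrained p ↥(Subgroup.normalizer (Q : Set G)) ∧ Cfsg.IsPStable p ↥(Subgroup.normalizer (Q : Set G))) (P : Sylow p G) (Q : Subgroup G) (hQP : Q ≤ (P : Subgroup G)) (hQ1 : Q ≠ ⊥) : Subgroup.normalizer (Q : Set G) ≤ Subgroup.normalizer (Cfsg.centerThompsonAOf ((P : Subgroup G)) : Set G) := by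
  exact main hp hloc P _ Q hQP hQ1 le_rfl

end Cfsg.Agent.S0658
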