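import Cfsg.Statements.S0661
import Cfsg.Agent.Lib.H7.Coprime
import Cfsg.Agent.Lib.H9.UpperPAmb
import Cfsg.Agent.Lib.H10.SylowIn
import Cfsg.Agent.Lib.H1.PCore
-- import your own Cfsg.Agent.* helpers here

set_option autoImplicit false
open Cfsg

namespace Cfsg.Agent.S0661

open Cfsg.Agent.Lib
open scoped Pointwise

section
variable {G : Type*} [Group G] [Finite G] {p : ℕ} [Fact p.Prime]

/-- Lifting centralizing elements modulo a normal `p'`-subgroup `W`: if `c` centralizes the
`p`-subgroup `P` modulo `W`, then `c ∈ W · N_G(P)`; more precisely some `n ∈ N_G(P)` is congruent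
to `c` modulo `W`. -/
theorem lift_centralizing (W : Subgroup G) [hW : W.Normal] (hWc : (Nat.card W).Coprime p)
    (P : Subgroup G) (hP : IsPGroup p P) (c : G)
    (hc : ∀ x ∈ P, c * x * c⁻¹ * x⁻¹ ∈ W) :
    ∃ n ∈ Subgroup.normalizer (P : Set G), n⁻¹ * c ∈ W := by
  set L := P ⊔ W with hL
  have hPL : P ≤ L := le_sup_left
  have hidx : ¬ p ∣ P.relIndex L := by
    have h1 : Nat.card L ∣ Nat.card P * Nat.card W := H22.card_sup_dvd_mul P W
    have h2 : P.relIndex L * Nat.card P = Nat.card L := by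
      have := Subgroup.relIndex_mul_relIndex ⊥ P L bot_le hPL
      rw [Subgroup.relIndex_bot_left, Subgroup.relIndex_bot_left] at this
      rw [mul_comm]; exact this
    rw [← h2, mul_comm] at h1
    have h3 : P.relIndex L ∣ Nat.card W := Nat.dvd_of_mul_dvd_mul_left Nat.card_pos h1
    intro hd
    have := Nat.eq_one_of_dvd_coprimes hWc (dvd_trans hd h3) (dvd_refl p)
    exact (Fact.out : p.Prime).one_lt.ne' this
  have hP'L : P.map (MulAut.conj c).toMonoidHom ≤ L := by
    intro y hy
    rw [H10.mem_map_conj] at hy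
    have h1 := hc _ hy
    have h2 : y = (c * (c⁻¹ * y * c) * c⁻¹ * (c⁻¹ * y * c)⁻¹) * (c⁻¹ * y * c) := by group
    rw [h2]
    exact L.mul_mem (Subgroup.mem_sup_right h1) (Subgroup.mem_sup_left hy)
  obtain ⟨m, hmL, hm⟩ := H10.exists_mem_map_conj_le_of_sylowIn hP hPL hidx
    (H10.isPGroup_map_conj c hP) hP'L
  rw [H10.map_conj_map_conj] at hm
  have hmc : m * c ∈ Subgroup.normalizer (P : Set G) := by
    rw [H10.mem_normalizer_iff_map_conj]
    exact Subgroup.eq_of_le_of_card_ge hm (by rw [H10.card_map_conj])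
  -- decompose m
  have hm' : m ∈ (P : Set G) * (W : Set G) := by
    rw [← Subgroup.mul_normal]; exact hmL
  obtain ⟨x, hx, w, hw, rfl⟩ := hm'
  refine ⟨x⁻¹ * (x * w * c), ?_, ?_⟩
  · exact Subgroup.mul_mem _ (Subgroup.inv_mem _ (Subgroup.le_normalizer hx)) hmc
  · have : (x⁻¹ * (x * w * c))⁻¹ * c = c⁻¹ * w⁻¹ * c := by group
    rw [this]
    have := hW.conj_mem _ (W.inv_mem hw) c⁻¹
    rwa [inv_inv] at this

end


/-- If, modulo the largest normal subgroup of order prime to p, the largest normal p-subgroup contains its centralizer, then for every p-subgroup P the p'-core of N_G(P) is just O_p'(G) ∩ N_G(P). -/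
theorem result {G : Type*} [Group G] [Finite G] {p : ℕ} [Fact p.Prime] (hc : Subgroup.centralizer (Cfsg.pCore p (G ⧸ Cfsg.pPrimeCore p G) : Set (G ⧸ Cfsg.pPrimeCore p G)) ≤ Cfsg.pCore p (G ⧸ Cfsg.pPrimeCore p G)) (P : Subgroup G) (hP : IsPGroup p P) : (Cfsg.pPrimeCore p ↥(Subgroup.normalizer (P : Set G))).map (Subgroup.normalizer (P : Set G)).subtype = Cfsg.pPrimeCore p G ⊓ Subgroup.normalizer (P : Set G) := by
  classical
  set W := Cfsg.pPrimeCore p G with hW
  set N := Subgroup.normalizer (P : Set G) with hN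
  have hWc : (Nat.card W).Coprime p := H22.card_pPrimeCore_coprime p
  have hpp : p.Prime := Fact.out
  show H9.opAmb p N = W ⊓ N
  apply le_antisymm
  · -- the main direction
    set K := H9.opAmb p N with hK
    have hKN : K ≤ N := H9.opAmb_le p N
    have hKc : (Nat.card K).Coprime p := H9.card_opAmb_coprime p N
    have hNK : N ≤ Subgroup.normalizer (K : Set G) := H9.le_normalizer_opAmb p N
    refine le_inf ?_ hKN
    -- K and P commute
    have hKP : K ⊓ P = ⊥ := by
      apply disjoint_iff.mp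
      apply Subgroup.disjoint_of_coprime_natCard
      obtain ⟨j, hj⟩ := (IsPGroup.iff_card).mp hP
      rw [hj]; exact Nat.Coprime.pow_right j hKc
    have hcomm : ∀ k ∈ K, ∀ x ∈ P, k * x = x * k := by
      intro k hk x hx
      have hxN : x ∈ Subgroup.normalizer (K : Set G) := hNK (Subgroup.le_normalizer hx)
      have hkN : k ∈ Subgroup.normalizer (P : Set G) := hKN hk
      have h1 : k * x * k⁻¹ * x⁻¹ ∈ P :=
        Subgroup.mul_mem _ ((Subgroup.mem_normalizer_iff.mp hkN x).mp hx) (Subgroup.inv_mem _ hx)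
      have h2 : k * x * k⁻¹ * x⁻¹ ∈ K := by
        have := (Subgroup.mem_normalizer_iff.mp hxN k⁻¹).mp (Subgroup.inv_mem _ hk)
        have h3 := Subgroup.mul_mem _ hk this
        have h4 : k * (x * k⁻¹ * x⁻¹) = k * x * k⁻¹ * x⁻¹ := by group
        rw [h4] at h3; exact h3
      have h5 : k * x * k⁻¹ * x⁻¹ = 1 := by
        have : k * x * k⁻¹ * x⁻¹ ∈ K ⊓ P := ⟨h2, h1⟩
        rwa [hKP, Subgroup.mem_bot] at this
      calc k * x = (k * x * k⁻¹ * x⁻¹) * (x * k) := by group
        _ = x * k := by rw [h5, one_mul]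
    -- pass to the quotient
    set π := QuotientGroup.mk' W with hπ
    set R := Cfsg.pCore p (G ⧸ W) with hR
    have hRn : R.Normal := H1.pCore_normal p _
    have hRp : IsPGroup p R := H1.pCore_isPGroup p _
    set K' := K.map π with hK'
    set P' := P.map π with hP'
    have hK'c : (Nat.card K').Coprime p :=
      Nat.Coprime.coprime_dvd_left (Subgroup.card_map_dvd K π) hKc
    have hP'p : IsPGroup p P' := hP.map π
    have hK'R : K' ⊓ R = ⊥ := by
      apply disjoint_iff.mp
      apply Subgroup.disjoint_of_coprime_natCard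
      obtain ⟨j, hj⟩ := (IsPGroup.iff_card).mp hRp
      rw [hj]; exact Nat.Coprime.pow_right j hK'c
    have hAB : ⁅K', P'⁆ = ⊥ := by
      rw [Subgroup.commutator_eq_bot_iff_le_centralizer]
      rintro _ ⟨k, hk, rfl⟩
      rw [Subgroup.mem_centralizer_iff]
      rintro _ ⟨x, hx, rfl⟩
      rw [← map_mul, ← map_mul, hcomm k hk x hx]
    have htop : ∀ A : Subgroup (G ⧸ W), A ≤ Subgroup.normalizer (R : Set (G ⧸ W)) := by
      intro A
      rw [Subgroup.normalizer_eq_top_iff.mpr hRn]; exact le_top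
    have hC : ⁅K', R ⊓ Subgroup.centralizer (P' : Set (G ⧸ W))⁆ = ⊥ := by
      rw [Subgroup.commutator_eq_bot_iff_le_centralizer]
      rintro _ ⟨k, hk, rfl⟩
      rw [Subgroup.mem_centralizer_iff]
      intro c' hc'
      have hsurj : Function.Surjective π := QuotientGroup.mk'_surjective W
      obtain ⟨c, rfl⟩ := hsurj c'
      have hcond : ∀ x ∈ P, c * x * c⁻¹ * x⁻¹ ∈ W := by
        intro x hx
        have h1 := (Subgroup.mem_centralizer_iff.mp hc'.2) (π x) ⟨x, hx, rfl⟩
        rw [← QuotientGroup.eq_one_iff]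
        have : ((c * x * c⁻¹ * x⁻¹ : G) : G ⧸ W) = π c * π x * (π c)⁻¹ * (π x)⁻¹ := by
          simp [hπ]
        rw [this, ← h1]; group
      obtain ⟨n, hn, hnc⟩ := lift_centralizing W hWc P hP c hcond
      have hπn : π n = π c := by
        have h1 : π (n⁻¹ * c) = 1 := (QuotientGroup.eq_one_iff _).mpr hnc
        rw [map_mul, map_inv] at h1
        have : π c = π n * ((π n)⁻¹ * π c) := by group
        rw [this, h1, mul_one]
      -- the commutator of π c and π k lies in K' ⊓ R
      have h1 : n * k * n⁻¹ * k⁻¹ ∈ K :=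
        Subgroup.mul_mem _ ((Subgroup.mem_normalizer_iff.mp (hNK hn) k).mp hk) (Subgroup.inv_mem _ hk)
      have h2 : π c * π k * (π c)⁻¹ * (π k)⁻¹ ∈ K' := by
        refine ⟨n * k * n⁻¹ * k⁻¹, h1, ?_⟩
        rw [map_mul, map_mul, map_mul, map_inv, map_inv, hπn]
      have h3 : π c * π k * (π c)⁻¹ * (π k)⁻¹ ∈ R := by
        have := hRn.conj_mem _ (R.inv_mem hc'.1) (π k)
        have h4 := R.mul_mem hc'.1 this
        have h5 : π c * (π k * (π c)⁻¹ * (π k)⁻¹) = π c * π k * (π c)⁻¹ * (π k)⁻¹ := by group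
        rwa [h5] at h4
      have h6 : π c * π k * (π c)⁻¹ * (π k)⁻¹ = 1 := by
        have : π c * π k * (π c)⁻¹ * (π k)⁻¹ ∈ K' ⊓ R := ⟨h2, h3⟩
        rwa [hK'R, Subgroup.mem_bot] at this
      calc π c * π k = (π c * π k * (π c)⁻¹ * (π k)⁻¹) * (π k * π c) := by group
        _ = π k * π c := by rw [h6, one_mul]
    have hth := H7.thompson_AxB' p hRp hP'p hK'c hAB (htop K') (htop P') hC
    rw [Subgroup.commutator_eq_bot_iff_le_centralizer] at hth
    have hK'bot : K' = ⊥ := by
      rw [eq_bot_iff, ← hK'R]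
      exact le_inf le_rfl (hth.trans hc)
    intro k hk
    have : π k ∈ K' := ⟨k, hk, rfl⟩
    rw [hK'bot, Subgroup.mem_bot] at this
    exact (QuotientGroup.eq_one_iff k).mp this
  · apply H9.le_opAmb inf_le_right
    · have h1 : N ≤ Subgroup.normalizer (W : Set G) ⊓ Subgroup.normalizer (N : Set G) := by
        refine le_inf ?_ Subgroup.le_normalizer
        rw [Subgroup.normalizer_eq_top_iff.mpr (inferInstance : W.Normal)]; exact le_top
      exact h1.trans Subgroup.inf_normalizer_le_normalizer_inf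
    · exact Nat.Coprime.coprime_dvd_left (Subgroup.card_dvd_of_le inf_le_left) hWc


end Cfsg.Agent.S0661
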