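import Mathlib
import Cfsg.Statements.S3807

set_option autoImplicit false
open Cfsg

namespace Cfsg.Agent.S3807

section
variable {S : Type*} [Group S] [Finite S]

/-- A subgroup of prime index is a coatom. -/
lemma eq_top_of_lt {p : ℕ} (hp : p.Prime) {A H : Subgroup S} (hAi : A.index = p) (hAH : A ≤ H)
    {y : S} (hy : y ∈ H) (hyA : y ∉ A) : H = ⊤ := by
  have h1 := Subgroup.relIndex_mul_index hAH
  rw [hAi] at h1
  have h2 : H.index ∣ p := Dvd.intro_left _ h1
  rcases (Nat.dvd_prime hp).mp h2 with h3 | h3
  · exact Subgroup.index_eq_one.mp h3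
  · exfalso
    rw [h3] at h1
    have h4 : A.relIndex H = 1 := by
      have := hp.pos
      nlinarith
    have := Subgroup.relIndex_eq_one.mp h4
    exact hyA (this hy)

lemma center_le {p : ℕ} (hp : p.Prime) (hna : ¬ IsMulCommutative S) {A : Subgroup S}
    (hA : IsMulCommutative ↥A) (hAi : A.index = p) : Subgroup.center S ≤ A := by
  intro z hz
  by_contra hzA
  have h1 : Subgroup.centralizer (A : Set S) = ⊤ := by
    refine eq_top_of_lt hp hAi ?_ (y := z) ?_ hzA
    · intro a ha
      refine Subgroup.mem_centralizer_iff.mpr ?_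
      intro b hb
      have := mul_comm' (⟨b, hb⟩ : A) ⟨a, ha⟩
      exact congrArg Subtype.val this
    · exact Subgroup.center_le_centralizer _ hz
  have h2 : Subgroup.center S = ⊤ := by
    refine eq_top_of_lt hp hAi ?_ hz hzA
    intro a ha
    rw [Subgroup.mem_center_iff]
    intro g
    have : g ∈ Subgroup.centralizer (A : Set S) := h1 ▸ Subgroup.mem_top g
    exact (Subgroup.mem_centralizer_iff.mp this a ha).symm
  exact hna (Subgroup.center_eq_top_iff.mp h2)

open scoped IsMulCommutative in
/-- The commutator homomorphism `a ↦ (x a x⁻¹) a⁻¹` on an abelian normal subgroup. -/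
noncomputable def commHom (A : Subgroup S) [A.Normal] [IsMulCommutative ↥A] (x : S) : A →* A :=
  MonoidHom.mk' (fun a => MulAut.conjNormal x a * a⁻¹) (by
    intro a b
    rw [map_mul, mul_inv_rev, mul_comm b⁻¹ a⁻¹, mul_mul_mul_comm])

lemma commHom_apply (A : Subgroup S) [A.Normal] [IsMulCommutative ↥A] (x : S) (a : A) :
    ((commHom A x a : A) : S) = x * a * x⁻¹ * (a : S)⁻¹ := by
  simp [commHom]

lemma ker_map_eq {p : ℕ} (hp : p.Prime) (hna : ¬ IsMulCommutative S) (A : Subgroup S) [A.Normal]
    [hA : IsMulCommutative ↥A] (hAi : A.index = p) {x : S} (hx : x ∉ A) :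
    (commHom A x).ker.map A.subtype = Subgroup.center S := by
  ext g
  constructor
  · rintro ⟨a, ha, rfl⟩
    have h1 : x * a * x⁻¹ * (a : S)⁻¹ = 1 := by
      rw [← commHom_apply, (MonoidHom.mem_ker).mp ha]; rfl
    have h2 : Subgroup.centralizer ({(a : S)} : Set S) = ⊤ := by
      refine eq_top_of_lt hp hAi ?_ (y := x) ?_ hx
      · intro b hb
        refine Subgroup.mem_centralizer_iff.mpr ?_
        intro c hc
        rw [Set.mem_singleton_iff] at hc
        subst hc
        exact congrArg Subtype.val (mul_comm' a ⟨b, hb⟩)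
      · refine Subgroup.mem_centralizer_iff.mpr ?_
        intro c hc
        rw [Set.mem_singleton_iff] at hc
        subst hc
        have := mul_inv_eq_one.mp h1
        exact (mul_inv_eq_iff_eq_mul.mp this).symm
    rw [Subgroup.mem_center_iff]
    intro g
    have : g ∈ Subgroup.centralizer ({(a : S)} : Set S) := h2 ▸ Subgroup.mem_top g
    exact (Subgroup.mem_centralizer_iff.mp this a rfl).symm
  · intro hg
    have hgA : g ∈ A := center_le hp hna hA hAi hg
    refine ⟨⟨g, hgA⟩, ?_, rfl⟩
    rw [SetLike.mem_coe, MonoidHom.mem_ker]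
    apply Subtype.ext
    rw [commHom_apply]
    have := (Subgroup.mem_center_iff.mp hg) x
    simp only [Subgroup.coe_one]
    rw [this]; group

lemma mem_range_map (A : Subgroup S) [A.Normal] [hA : IsMulCommutative ↥A] (x : S) (a : A) :
    x * a * x⁻¹ * (a : S)⁻¹ ∈ (commHom A x).range.map A.subtype :=
  ⟨commHom A x a, ⟨a, rfl⟩, commHom_apply A x a⟩

lemma range_map_le (A : Subgroup S) [A.Normal] [hA : IsMulCommutative ↥A] (x : S) :
    (commHom A x).range.map A.subtype ≤ A := by
  rintro _ ⟨d, _, rfl⟩
  exact d.2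

lemma range_map_normal {p : ℕ} (hp : p.Prime) (A : Subgroup S) [A.Normal]
    [hA : IsMulCommutative ↥A] (hAi : A.index = p) {x : S} (hx : x ∉ A) :
    ((commHom A x).range.map A.subtype).Normal := by
  rw [← Subgroup.normalizer_eq_top_iff]
  refine eq_top_of_lt hp hAi ?_ (y := x) ?_ hx
  · intro b hb
    apply Subgroup.mem_normalizer_fintype
    rintro _ ⟨d, hd, rfl⟩
    have : b * (A.subtype d) * b⁻¹ = A.subtype d := by
      have h1 := congrArg Subtype.val (mul_comm' (⟨b, hb⟩ : A) d)
      simp only [Subgroup.coe_mul] at h1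
      simp only [Subgroup.coe_subtype]
      rw [h1]; group
    rw [this]
    exact ⟨d, hd, rfl⟩
  · apply Subgroup.mem_normalizer_fintype
    rintro _ ⟨_, ⟨a, rfl⟩, rfl⟩
    have := mem_range_map A x (MulAut.conjNormal x a)
    rw [SetLike.mem_coe]
    convert this using 1
    simp only [Subgroup.coe_subtype, commHom_apply, MulAut.conjNormal_apply]
    group

lemma range_map_eq {p : ℕ} (hp : p.Prime) (A : Subgroup S) [A.Normal]
    [hA : IsMulCommutative ↥A] (hAi : A.index = p) {x : S} (hx : x ∉ A) :
    (commHom A x).range.map A.subtype = commutator S := by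
  apply le_antisymm
  · rintro _ ⟨_, ⟨a, rfl⟩, rfl⟩
    rw [Subgroup.coe_subtype, commHom_apply, commutator_def]
    exact Subgroup.commutator_mem_commutator (Subgroup.mem_top x) (Subgroup.mem_top (a : S))
  · haveI := range_map_normal hp A hAi hx
    set D := (commHom A x).range.map A.subtype with hD
    rw [← Subgroup.Normal.quotient_commutative_iff_commutator_le]
    have key : ∀ a ∈ A, (QuotientGroup.mk' D x) * (QuotientGroup.mk' D a) =
        (QuotientGroup.mk' D a) * (QuotientGroup.mk' D x) := by
      intro a ha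
      have h1 : x * a * x⁻¹ * a⁻¹ ∈ D := mem_range_map A x ⟨a, ha⟩
      have h2 := (QuotientGroup.eq_one_iff _).mpr h1
      have h3 : QuotientGroup.mk' D x * QuotientGroup.mk' D a * (QuotientGroup.mk' D x)⁻¹ *
          (QuotientGroup.mk' D a)⁻¹ = 1 := by
        rw [← map_inv, ← map_inv, ← map_mul, ← map_mul, ← map_mul]; exact h2
      exact mul_inv_eq_iff_eq_mul.mp (mul_inv_eq_one.mp h3)
    have hcen : (Subgroup.center (S ⧸ D)).comap (QuotientGroup.mk' D) = ⊤ := by
      refine eq_top_of_lt hp hAi ?_ (y := x) ?_ hx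
      · intro a ha
        rw [Subgroup.mem_comap]
        have : (Subgroup.centralizer {QuotientGroup.mk' D a}).comap (QuotientGroup.mk' D) = ⊤ := by
          refine eq_top_of_lt hp hAi ?_ (y := x) ?_ hx
          · intro b hb
            rw [Subgroup.mem_comap]; refine Subgroup.mem_centralizer_iff.mpr ?_
            intro c hc; rw [Set.mem_singleton_iff] at hc; subst hc
            rw [← map_mul, ← map_mul]
            congr 1
            exact congrArg Subtype.val (mul_comm' (⟨a, ha⟩ : A) ⟨b, hb⟩)
          · rw [Subgroup.mem_comap]; refine Subgroup.mem_centralizer_iff.mpr ?_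
            intro c hc; rw [Set.mem_singleton_iff] at hc; subst hc
            exact (key a ha).symm
        rw [Subgroup.mem_center_iff]
        intro q
        obtain ⟨g, rfl⟩ := QuotientGroup.mk'_surjective D q
        have hg : g ∈ (Subgroup.centralizer {QuotientGroup.mk' D a}).comap (QuotientGroup.mk' D) :=
          this ▸ Subgroup.mem_top g
        rw [Subgroup.mem_comap] at hg
        exact (Subgroup.mem_centralizer_iff.mp hg _ rfl).symm
      · rw [Subgroup.mem_comap]
        have : (Subgroup.centralizer {QuotientGroup.mk' D x}).comap (QuotientGroup.mk' D) = ⊤ := by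
          refine eq_top_of_lt hp hAi ?_ (y := x) ?_ hx
          · intro b hb
            rw [Subgroup.mem_comap]; refine Subgroup.mem_centralizer_iff.mpr ?_
            intro c hc; rw [Set.mem_singleton_iff] at hc; subst hc
            exact key b hb
          · rw [Subgroup.mem_comap]; refine Subgroup.mem_centralizer_iff.mpr ?_
            intro c hc; rw [Set.mem_singleton_iff] at hc; subst hc
            rfl
        rw [Subgroup.mem_center_iff]
        intro q
        obtain ⟨g, rfl⟩ := QuotientGroup.mk'_surjective D q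
        have hg : g ∈ (Subgroup.centralizer {QuotientGroup.mk' D x}).comap (QuotientGroup.mk' D) :=
          this ▸ Subgroup.mem_top g
        rw [Subgroup.mem_comap] at hg
        exact (Subgroup.mem_centralizer_iff.mp hg _ rfl).symm
    refine ⟨⟨fun q r => ?_⟩⟩
    obtain ⟨g, rfl⟩ := QuotientGroup.mk'_surjective D q
    have hg : g ∈ (Subgroup.center (S ⧸ D)).comap (QuotientGroup.mk' D) :=
      hcen ▸ Subgroup.mem_top g
    rw [Subgroup.mem_comap, Subgroup.mem_center_iff] at hg
    exact (hg r).symm

lemma index_center_eq {p : ℕ} (hp : p.Prime) (hna : ¬ IsMulCommutative S) (A : Subgroup S)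
    [A.Normal] [hA : IsMulCommutative ↥A] (hAi : A.index = p) :
    (Subgroup.center S).index = p * Nat.card (commutator S) := by
  have hAtop : A ≠ ⊤ := by
    intro h; rw [h, Subgroup.index_top] at hAi; exact hp.one_lt.ne hAi
  obtain ⟨x, hx⟩ : ∃ x, x ∉ A := by
    by_contra h; push Not at h
    exact hAtop ((Subgroup.eq_top_iff' A).mpr h)
  have h1 := ker_map_eq hp hna A hAi hx
  have h2 := range_map_eq hp A hAi hx
  have h3 : Nat.card (commHom A x).ker = Nat.card (Subgroup.center S) := by
    rw [← h1, Subgroup.card_map_of_injective A.subtype_injective]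
  have h4 : Nat.card (commHom A x).range = Nat.card (commutator S) := by
    rw [← h2, Subgroup.card_map_of_injective A.subtype_injective]
  have h5 : Nat.card (commHom A x).ker * Nat.card (commHom A x).range = Nat.card A := by
    rw [← Subgroup.index_ker]; exact Subgroup.card_mul_index _
  have h6 := Subgroup.card_mul_index A
  have h7 := Subgroup.card_mul_index (Subgroup.center S)
  rw [h3, h4] at h5
  rw [hAi, ← h5, ← h7] at h6
  have hpos : 0 < Nat.card (Subgroup.center S) := Nat.card_pos
  have : Nat.card (Subgroup.center S) * (p * Nat.card (commutator S)) =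
      Nat.card (Subgroup.center S) * (Subgroup.center S).index := by
    rw [← h6]; ring
  exact (Nat.eq_of_mul_eq_mul_left hpos this).symm

end

section count
variable {Q : Type*} [Group Q] [Finite Q]

/-- In a group of order `p²` and exponent `p`, there are exactly `p + 1` subgroups of order `p`. -/
lemma card_subgroups_order_p {p : ℕ} [hp : Fact p.Prime] (hcard : Nat.card Q = p ^ 2)
    (hexp : ∀ q : Q, q ^ p = 1) : Nat.card {H : Subgroup Q // Nat.card H = p} = p + 1 := by
  classical
  have hord : ∀ q : Q, q ≠ 1 → Nat.card (Subgroup.zpowers q) = p := by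
    intro q hq
    rw [Nat.card_zpowers]
    exact orderOf_eq_prime (hexp q) hq
  let f : {q : Q // q ≠ 1} → {H : Subgroup Q // Nat.card H = p} :=
    fun q => ⟨Subgroup.zpowers q.1, hord q.1 q.2⟩
  have hfib : ∀ H : {H : Subgroup Q // Nat.card H = p},
      Nat.card {x : {q : Q // q ≠ 1} // f x = H} = p - 1 := by
    intro H
    have e : {x : {q : Q // q ≠ 1} // f x = H} ≃ ↥((H.1 : Set Q) \ {1}) :=
      { toFun := fun x => ⟨x.1.1, ⟨by
            have := congrArg Subtype.val x.2
            change Subgroup.zpowers x.1.1 = H.1 at this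
            rw [SetLike.mem_coe, ← this]; exact Subgroup.mem_zpowers _, x.1.2⟩⟩
        invFun := fun y => ⟨⟨y.1, y.2.2⟩, by
            apply Subtype.ext
            change Subgroup.zpowers y.1 = H.1
            apply Subgroup.eq_of_le_of_card_ge
            · rw [Subgroup.zpowers_le]; exact y.2.1
            · rw [hord y.1 y.2.2, H.2]⟩
        left_inv := fun x => rfl
        right_inv := fun y => rfl }
    rw [Nat.card_congr e, Nat.card_coe_set_eq, Set.ncard_diff_singleton_of_mem (one_mem H.1),
      ← Nat.card_coe_set_eq]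
    change Nat.card H.1 - 1 = p - 1
    rw [H.2]
  have h1 : Nat.card {q : Q // q ≠ 1} = p ^ 2 - 1 := by
    have : Nat.card {q : Q // q ≠ 1} = Nat.card ↥((Set.univ : Set Q) \ {1}) := by
      apply Nat.card_congr
      exact Equiv.subtypeEquivRight (fun q => by simp)
    rw [this, Nat.card_coe_set_eq, Set.ncard_diff_singleton_of_mem (Set.mem_univ _),
      Set.ncard_univ, hcard]
  letI : Fintype {H : Subgroup Q // Nat.card H = p} := Fintype.ofFinite _
  have h2 : Nat.card {q : Q // q ≠ 1} =
      Nat.card {H : Subgroup Q // Nat.card H = p} * (p - 1) := by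
    rw [← Nat.card_congr (Equiv.sigmaFiberEquiv f), Nat.card_sigma]
    simp only [hfib, Finset.sum_const, Finset.card_univ, smul_eq_mul, Nat.card_eq_fintype_card]
  rw [h1] at h2
  have hp1 : 1 < p := hp.out.one_lt
  have h3 : p ^ 2 - 1 = (p + 1) * (p - 1) := by
    obtain ⟨k, rfl⟩ : ∃ k, p = k + 1 := ⟨p - 1, by omega⟩
    simp only [Nat.add_sub_cancel]
    ring_nf
    omega
  rw [h3] at h2
  exact (Nat.eq_of_mul_eq_mul_right (by omega) h2).symm

end count

section
variable {S : Type*} [Group S] [Finite S]

lemma comap_comm (H : Subgroup (S ⧸ Subgroup.center S)) {p : ℕ} [Fact p.Prime]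
    (hH : Nat.card H = p) :
    IsMulCommutative ↥(H.comap (QuotientGroup.mk' (Subgroup.center S))) := by
  haveI : IsCyclic H := isCyclic_of_prime_card hH
  let f := (QuotientGroup.mk' (Subgroup.center S)).subgroupComap H
  apply f.isMulCommutative_of_isCyclic_of_ker_le_center
  intro b hb
  rw [MonoidHom.mem_ker] at hb
  have h1 : (QuotientGroup.mk' (Subgroup.center S)) b.1 = 1 := congrArg Subtype.val hb
  rw [QuotientGroup.mk'_apply, QuotientGroup.eq_one_iff] at h1
  rw [Subgroup.mem_center_iff]
  intro g
  apply Subtype.ext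
  exact Subgroup.mem_center_iff.mp h1 g.1

lemma eq_of_mul_eq_sq {p n : ℕ} (hp : p.Prime) (h : n * p = p ^ 2) : n = p := by
  have := hp.pos
  nlinarith

/-- Abelian subgroups of index `p` correspond to the subgroups of order `p` of `S ⧸ Z(S)`. -/
noncomputable def equivT {p : ℕ} [hp : Fact p.Prime] (hna : ¬ IsMulCommutative S)
    (hQ : Nat.card (S ⧸ Subgroup.center S) = p ^ 2) :
    {B : Subgroup S // IsMulCommutative ↥B ∧ B.index = p} ≃
      {H : Subgroup (S ⧸ Subgroup.center S) // Nat.card H = p} where
  toFun B := ⟨B.1.map (QuotientGroup.mk' _), by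
    have h1 : (B.1.map (QuotientGroup.mk' (Subgroup.center S))).index = p := by
      rw [Subgroup.index_map_eq _ (QuotientGroup.mk'_surjective _)
        (by rw [QuotientGroup.ker_mk']; exact center_le hp.out hna B.2.1 B.2.2), B.2.2]
    have h2 := Subgroup.card_mul_index (B.1.map (QuotientGroup.mk' (Subgroup.center S)))
    rw [h1, hQ] at h2
    exact eq_of_mul_eq_sq hp.out h2⟩
  invFun H := ⟨H.1.comap (QuotientGroup.mk' _), comap_comm H.1 H.2, by
    rw [Subgroup.index_comap_of_surjective _ (QuotientGroup.mk'_surjective _)]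
    have h2 := Subgroup.card_mul_index H.1
    rw [H.2, hQ, mul_comm] at h2
    exact eq_of_mul_eq_sq hp.out h2⟩
  left_inv B := Subtype.ext (Subgroup.comap_map_eq_self
    (by rw [QuotientGroup.ker_mk']; exact center_le hp.out hna B.2.1 B.2.2))
  right_inv H := Subtype.ext
    (Subgroup.map_comap_eq_self_of_surjective (QuotientGroup.mk'_surjective _) _)

lemma unique_of_sq_le {p : ℕ} (hp : p.Prime) (hna : ¬ IsMulCommutative S) (A : Subgroup S)
    [A.Normal] [hA : IsMulCommutative ↥A] (hAi : A.index = p)
    (hc : p ^ 2 ≤ Nat.card (commutator S)) (B : Subgroup S) (hB : IsMulCommutative ↥B)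
    (hBi : B.index = p) : B = A := by
  by_contra hne
  obtain ⟨b, hbB, hbA⟩ : ∃ b ∈ B, b ∉ A := by
    by_contra h; push Not at h
    have hBA : B ≤ A := h
    have h1 := Subgroup.relIndex_mul_index hBA
    rw [hAi, hBi] at h1
    have h2 : B.relIndex A = 1 := by
      have := hp.pos
      nlinarith
    exact hne (le_antisymm hBA (Subgroup.relIndex_eq_one.mp h2))
  have hle : A ⊓ B ≤ Subgroup.center S := by
    intro g hg
    have h2 : Subgroup.centralizer ({g} : Set S) = ⊤ := by
      refine eq_top_of_lt hp hAi ?_ (y := b) ?_ hbA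
      · intro a ha
        refine Subgroup.mem_centralizer_iff.mpr ?_
        intro c hc
        rw [Set.mem_singleton_iff] at hc
        subst hc
        exact congrArg Subtype.val (mul_comm' (⟨c, hg.1⟩ : A) ⟨a, ha⟩)
      · refine Subgroup.mem_centralizer_iff.mpr ?_
        intro c hc
        rw [Set.mem_singleton_iff] at hc
        subst hc
        exact congrArg Subtype.val (mul_comm' (⟨c, hg.2⟩ : B) ⟨b, hbB⟩)
    rw [Subgroup.mem_center_iff]
    intro h
    have : h ∈ Subgroup.centralizer ({g} : Set S) := h2 ▸ Subgroup.mem_top h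
    exact (Subgroup.mem_centralizer_iff.mp this g rfl).symm
  have h1 := Subgroup.index_dvd_of_le hle
  have h2 := Subgroup.index_inf_le (H := A) (K := B)
  rw [hAi, hBi] at h2
  have h3 : (Subgroup.center S).index ≤ (A ⊓ B).index :=
    Nat.le_of_dvd (Nat.pos_of_ne_zero Subgroup.index_ne_zero_of_finite) h1
  rw [index_center_eq hp hna A hAi] at h3
  have := hp.one_lt
  nlinarith

lemma exp_p {p : ℕ} (hp : p.Prime) (hna : ¬ IsMulCommutative S)
    (hQ : Nat.card (S ⧸ Subgroup.center S) = p ^ 2) (q : S ⧸ Subgroup.center S) : q ^ p = 1 := by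
  have h1 : orderOf q ∣ p ^ 2 := hQ ▸ orderOf_dvd_natCard q
  obtain ⟨m, hm, hqm⟩ := (Nat.dvd_prime_pow hp).mp h1
  have hm2 : m ≠ 2 := by
    rintro rfl
    haveI : IsCyclic (S ⧸ Subgroup.center S) := isCyclic_of_orderOf_eq_card q (hqm.trans hQ.symm)
    exact hna (isMulCommutative_of_isCyclic_quotient_center_self S)
  have hm1 : m ≤ 1 := by omega
  apply orderOf_dvd_iff_pow_eq_one.mp
  rw [hqm]
  calc p ^ m ∣ p ^ 1 := pow_dvd_pow p hm1
    _ = p := pow_one p

end

theorem result {S : Type*} [Group S] [Finite S] (p : ℕ) [Fact p.Prime] (hS : IsPGroup p S) (hna : ¬ IsMulCommutative S)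
    (A : Subgroup S) (hA : IsMulCommutative ↥A) (hAi : A.index = p) :
    (Subgroup.center S).index = p * Nat.card (commutator S) ∧
      ((Nat.card (commutator S) = p ∧ Cfsg.IsElementaryAbelian p (⊤ : Subgroup (S ⧸ Subgroup.center S)) ∧
          Nat.card (S ⧸ Subgroup.center S) = p ^ 2 ∧
          Nat.card {B : Subgroup S // IsMulCommutative ↥B ∧ B.index = p} = p + 1) ∨
        (p ^ 2 ≤ Nat.card (commutator S) ∧ ∀ B : Subgroup S, IsMulCommutative ↥B → B.index = p → B = A)) := by
  have hp : p.Prime := Fact.out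
  haveI : A.Normal := by
    apply Subgroup.normal_of_index_eq_minFac_card
    obtain ⟨n, hn⟩ := IsPGroup.iff_card.mp hS
    have hn0 : n ≠ 0 := by
      rintro rfl
      have h1 := Subgroup.card_mul_index A
      rw [hn, hAi, pow_zero] at h1
      have := hp.one_lt
      have h2 : p ∣ 1 := Dvd.intro_left _ h1
      exact hp.one_lt.ne' (Nat.dvd_one.mp h2)
    rw [hAi, hn, hp.pow_minFac hn0]
  have hidx := index_center_eq hp hna A hAi
  refine ⟨hidx, ?_⟩
  obtain ⟨k, hk⟩ := IsPGroup.iff_card.mp (hS.to_subgroup (commutator S))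
  have hk0 : k ≠ 0 := by
    rintro rfl
    rw [pow_zero] at hk
    apply hna
    rw [← commutator_eq_bot_iff]
    exact Subgroup.card_eq_one.mp hk
  by_cases hk1 : k = 1
  · left
    subst hk1
    rw [pow_one] at hk
    have hQ : Nat.card (S ⧸ Subgroup.center S) = p ^ 2 := by
      rw [← Subgroup.index_eq_card, hidx, hk]; ring
    refine ⟨hk, ?_, hQ, ?_⟩
    · have hcomm : IsMulCommutative (S ⧸ Subgroup.center S) :=
        IsPGroup.isMulCommutative_of_card_eq_prime_sq hQ
      refine ⟨⟨⟨fun a b => Subtype.ext (mul_comm' a.1 b.1)⟩⟩, ?_⟩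
      intro q _
      exact exp_p hp hna hQ q
    · rw [Nat.card_congr (equivT hna hQ)]
      exact card_subgroups_order_p hQ (exp_p hp hna hQ)
  · right
    refine ⟨?_, fun B hB hBi => unique_of_sq_le hp hna A hAi ?_ B hB hBi⟩ <;>
    · rw [hk]; exact Nat.pow_le_pow_right hp.pos (by omega)

end Cfsg.Agent.S3807
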