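import Cfsg.Statements.S0662
import Cfsg.Agent.Lib.H22.LowerCentralP
import Cfsg.Agent.Lib.H22.CyclicIndexP
import Cfsg.Agent.S3807

set_option autoImplicit false
open Cfsg

namespace Cfsg.Agent.S0662

open Cfsg.Agent.Lib.H22

/-- In a p-group of maximal class of order at least p³ the normal subgroups of index at least p² are exactly the terms of the lower central series, and there are exactly p + 1 normal subgroups of index p. -/
theorem result {G : Type*} [Group G] [Finite G] {p : ℕ} [Fact p.Prime] (n : ℕ) (hG : Nat.card G = p ^ n) (hcl : Group.nilpotencyClass G = n - 1) (hn : 3 ≤ n) : (∀ (N : Subgroup G) [N.Normal] (r : ℕ), 2 ≤ r → N.index = p ^ r → N = (⊤ : Subgroup G).lowerCentralSeries (r - 1)) ∧ Nat.card {N : Subgroup G // N.Normal ∧ N.index = p} = p + 1 := by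
  have hp : p.Prime := Fact.out
  have hP : IsPGroup p G := IsPGroup.of_card hG
  have : Group.IsNilpotent G := hP.isNilpotent
  have hLne : (⊤ : Subgroup G).lowerCentralSeries (n - 2) ≠ ⊥ := by
    intro h
    rw [Subgroup.lowerCentralSeries_eq_bot_iff_nilpotencyClass_le, hcl] at h
    omega
  constructor
  · intro N _ r hr hN
    have hle : (⊤ : Subgroup G).lowerCentralSeries (r - 1) ≤ N := lcs_le_of_index N hr hN
    have hrn : r ≤ n := by
      have h1 : N.index ∣ Nat.card G := Subgroup.index_dvd_card N
      rw [hN, hG] at h1
      exact (Nat.pow_dvd_pow_iff_le_right hp.one_lt).mp h1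
    have hcardN : Nat.card N = p ^ (n - r) := by
      have h1 := N.card_mul_index
      rw [hN, hG] at h1
      have h2 : p ^ n = p ^ (n - r) * p ^ r := by rw [← pow_add, Nat.sub_add_cancel hrn]
      rw [h2] at h1
      exact Nat.eq_of_mul_eq_mul_right (pow_pos hp.pos r) h1
    symm
    apply Subgroup.eq_of_le_of_card_ge hle
    rw [hcardN]
    rcases Nat.lt_or_ge r n with hlt | hge
    · have h1 := pow_le_card_lcs_of_ne_bot hP (n - 1 - r) (r - 1) (by
        have : r - 1 + (n - 1 - r) = n - 2 := by omega
        rw [this]; exact hLne)
      have : n - 1 - r + 1 = n - r := by omega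
      rw [this] at h1
      exact h1
    · have : n - r = 0 := by omega
      rw [this, pow_zero]
      exact Nat.card_pos
  · -- the abelianization has order `p²`
    have hna : ¬ ∀ a b : G, a * b = b * a := by
      intro hab
      apply hLne
      have h1 : (⊤ : Subgroup G).lowerCentralSeries 1 = ⊥ := by
        rw [Subgroup.top_lowerCentralSeries_one]; exact commutator_eq_bot_of_comm hab
      rw [eq_bot_iff, ← h1]
      exact (⊤ : Subgroup G).lowerCentralSeries_antitone (by omega)
    have hidx : (commutator G).index = p ^ 2 := by
      have h1 := sq_le_index_commutator hP hna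
      have h2 := pow_le_card_lcs_of_ne_bot hP (n - 3) 1 (by
        have : 1 + (n - 3) = n - 2 := by omega
        rw [this]; exact hLne)
      rw [Subgroup.top_lowerCentralSeries_one] at h2
      have h3 := (commutator G).card_mul_index
      rw [hG] at h3
      have h4 : n - 3 + 1 = n - 2 := by omega
      rw [h4] at h2
      have h5 : p ^ n = p ^ (n - 2) * p ^ 2 := by
        rw [← pow_add]; congr 1; omega
      apply le_antisymm _ h1
      by_contra hlt
      rw [not_le] at hlt
      have : p ^ (n - 2) * p ^ 2 < Nat.card (commutator G) * (commutator G).index :=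
        Nat.mul_lt_mul_of_le_of_lt h2 hlt Nat.card_pos
      rw [h3, ← h5] at this
      exact lt_irrefl _ this
    have hcardQ : Nat.card (G ⧸ commutator G) = p ^ 2 := by
      rw [← Subgroup.index_eq_card]; exact hidx
    have hncyc : ¬ IsCyclic (G ⧸ commutator G) := by
      intro hc
      exact hna (comm_of_isCyclic_abelianization (Nat.card G) G rfl hP hc)
    have hexp : ∀ q : G ⧸ commutator G, q ^ p = 1 := by
      intro q
      have h1 : orderOf q ∣ p ^ 2 := by rw [← hcardQ]; exact orderOf_dvd_natCard q
      obtain ⟨k, hk, hk'⟩ := (Nat.dvd_prime_pow hp).mp h1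
      have hk2 : k ≠ 2 := by
        intro h2
        apply hncyc
        apply isCyclic_of_orderOf_eq_card q
        rw [hk', h2, hcardQ]
      have hk1 : k ≤ 1 := by omega
      apply orderOf_dvd_iff_pow_eq_one.mp
      rw [hk']
      calc p ^ k ∣ p ^ 1 := pow_dvd_pow p hk1
        _ = p := pow_one p
    have hcount := Cfsg.Agent.S3807.card_subgroups_order_p hcardQ hexp
    rw [← hcount]
    have hsurj := QuotientGroup.mk'_surjective (commutator G)
    apply Nat.card_congr
    refine
      { toFun := fun N => ⟨N.1.map (QuotientGroup.mk' (commutator G)), ?_⟩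
        invFun := fun H => ⟨H.1.comap (QuotientGroup.mk' (commutator G)), ?_, ?_⟩
        left_inv := ?_
        right_inv := ?_ }
    · have hker : (QuotientGroup.mk' (commutator G)).ker ≤ N.1 := by
        rw [QuotientGroup.ker_mk']
        exact commutator_le_of_index_eq_prime hP N.1 N.2.2
      have h1 : (N.1.map (QuotientGroup.mk' (commutator G))).index = p := by
        rw [Subgroup.index_map_eq _ hsurj hker]; exact N.2.2
      have h2 := (N.1.map (QuotientGroup.mk' (commutator G))).card_mul_index
      rw [h1, hcardQ, pow_two] at h2
      exact Nat.eq_of_mul_eq_mul_right hp.pos h2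
    · have h1 : (H.1.comap (QuotientGroup.mk' (commutator G))).index = p := by
        rw [Subgroup.index_comap_of_surjective _ hsurj]
        have h2 := H.1.card_mul_index
        rw [H.2, hcardQ, pow_two] at h2
        exact Nat.eq_of_mul_eq_mul_left hp.pos h2
      exact normal_of_index_eq_prime hP _ h1
    · rw [Subgroup.index_comap_of_surjective _ hsurj]
      have h2 := H.1.card_mul_index
      rw [H.2, hcardQ, pow_two] at h2
      exact Nat.eq_of_mul_eq_mul_left hp.pos h2
    · intro N
      apply Subtype.ext
      have hker : (QuotientGroup.mk' (commutator G)).ker ≤ N.1 := by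
        rw [QuotientGroup.ker_mk']
        exact commutator_le_of_index_eq_prime hP N.1 N.2.2
      exact Subgroup.comap_map_eq_self hker
    · intro H
      apply Subtype.ext
      exact Subgroup.map_comap_eq_self_of_surjective hsurj H.1

end Cfsg.Agent.S0662
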