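import Cfsg.Statements.S0666
import Cfsg.Agent.Lib.H18.FrobNorm

set_option autoImplicit false
open Cfsg

namespace Cfsg.Agent.S0666

open Cfsg.Agent.Lib.H18 Cfsg.Agent.Lib.H1

variable {G : Type*} [Group G]

/-- Conjugation by an element of the normalizer, as an automorphism of `V`. -/
def conjAut (V : Subgroup G) (x : G) (hx : x ∈ Subgroup.normalizer (V : Set G)) : MulAut V where
  toFun v := ⟨x * v * x⁻¹, (Subgroup.mem_normalizer_iff.mp hx v).mp v.2⟩
  invFun v := ⟨x⁻¹ * v * x, by
    have h := (Subgroup.mem_normalizer_iff.mp hx (x⁻¹ * v * x)).mpr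
    apply h
    have e : x * (x⁻¹ * (v : G) * x) * x⁻¹ = v := by group
    rw [e]
    exact v.2⟩
  left_inv v := by
    apply Subtype.ext
    show x⁻¹ * (x * (v : G) * x⁻¹) * x = v
    group
  right_inv v := by
    apply Subtype.ext
    show x * (x⁻¹ * (v : G) * x) * x⁻¹ = v
    group
  map_mul' a b := by
    apply Subtype.ext
    show x * ((a : G) * b) * x⁻¹ = (x * a * x⁻¹) * (x * b * x⁻¹)
    group

theorem conjAut_coe (V : Subgroup G) (x : G) (hx : x ∈ Subgroup.normalizer (V : Set G)) (v : V) :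
    ((conjAut V x hx v : V) : G) = x * v * x⁻¹ := rfl

/-- The conjugation action of `F ≤ N_G(V)` on `V`. -/
def conjHom (V F : Subgroup G) (hFV : F ≤ Subgroup.normalizer (V : Set G)) : F →* MulAut V where
  toFun x := conjAut V x (hFV x.2)
  map_one' := by
    apply MulEquiv.ext
    intro v
    apply Subtype.ext
    rw [conjAut_coe]
    simp
  map_mul' a b := by
    apply MulEquiv.ext
    intro v
    apply Subtype.ext
    rw [MulAut.mul_apply, conjAut_coe, conjAut_coe, conjAut_coe]
    simp only [Subgroup.coe_mul]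
    group

theorem conjHom_coe (V F : Subgroup G) (hFV : F ≤ Subgroup.normalizer (V : Set G)) (x : F)
    (v : V) : ((conjHom V F hFV x v : V) : G) = x * v * (x : G)⁻¹ := rfl

open scoped IsMulCommutative in
theorem result {G : Type*} [Group G] [Finite G] (V F : Subgroup G) (hVab : IsMulCommutative V) (hV1 : V ≠ ⊥) (hFV : F ≤ Subgroup.normalizer (V : Set G)) (H : Subgroup ↥F) (hH : Cfsg.IsFrobeniusComplement H) (hcop : (Nat.card V).Coprime (Nat.card (Cfsg.frobeniusKernel H))) (hCK : V ⊓ Subgroup.centralizer (Subtype.val '' Cfsg.frobeniusKernel H : Set G) = ⊥) : V ⊓ Subgroup.centralizer ((H.map F.subtype : Subgroup G) : Set G) ≠ ⊥ := by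
  intro hbot
  letI : MulDistribMulAction F V := MulDistribMulAction.compHom V (conjHom V F hFV)
  have hsmul : ∀ (x : F) (v : V), ((x • v : V) : G) = x * v * (x : G)⁻¹ := fun x v => rfl
  have hcomm : ∀ (x : F) (v : V), x • v = v → (x : G) * v = v * x := by
    intro x v hxv
    have h1 := congrArg Subtype.val hxv
    rw [hsmul] at h1
    calc (x : G) * v = (x : G) * v * (x : G)⁻¹ * x := by group
      _ = v * x := by rw [h1]
  have hCH' : ∀ a : V, (∀ h ∈ H, h • a = a) → a = 1 := by
    intro a ha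
    have hmem : (a : G) ∈ V ⊓ Subgroup.centralizer ((H.map F.subtype : Subgroup G) : Set G) := by
      refine ⟨a.2, Subgroup.mem_centralizer_iff.mpr ?_⟩
      rintro y ⟨h, hh, rfl⟩
      exact hcomm h a (ha h hh)
    rw [hbot, Subgroup.mem_bot] at hmem
    exact Subtype.ext hmem
  have hCK' : ∀ a : V, (∀ k ∈ frobeniusKernel H, k • a = a) → a = 1 := by
    intro a ha
    have hmem : (a : G) ∈ V ⊓ Subgroup.centralizer
        (Subtype.val '' Cfsg.frobeniusKernel H : Set G) := by
      refine ⟨a.2, Subgroup.mem_centralizer_iff.mpr ?_⟩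
      rintro y ⟨k, hk, rfl⟩
      exact hcomm k a (ha k hk)
    rw [hCK, Subgroup.mem_bot] at hmem
    exact Subtype.ext hmem
  have key : ∀ a : V, a ^ H.index = 1 := fun a => frob_pow_index_eq_one H hH hCH' hCK' a
  have hidx : H.index = Nat.card (Cfsg.frobeniusKernel H) := (frob_card_kernel hH).symm
  apply hV1
  rw [eq_bot_iff]
  intro v hv
  rw [Subgroup.mem_bot]
  have h1 : orderOf (⟨v, hv⟩ : V) ∣ H.index := orderOf_dvd_of_pow_eq_one (key ⟨v, hv⟩)
  have h2 : orderOf (⟨v, hv⟩ : V) ∣ Nat.card V := orderOf_dvd_natCard _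
  rw [hidx] at h1
  have h3 : orderOf (⟨v, hv⟩ : V) = 1 := Nat.eq_one_of_dvd_coprimes hcop h2 h1
  rw [orderOf_eq_one_iff] at h3
  exact congrArg Subtype.val h3

end Cfsg.Agent.S0666
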