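import Cfsg.Statements.S0668
import Mathlib

set_option autoImplicit false
open Cfsg

namespace Cfsg.Agent.S0668

section
variable {G : Type*} [Group G] {K : Type*} [Field K] {Ω₁ Ω₂ : Type*} [Fintype Ω₁] [Fintype Ω₂]
  [MulAction G Ω₁] [MulAction G Ω₂]

/-- The matrix-like map attached to a function on orbits. -/
noncomputable def Phi :
    (MulAction.orbitRel.Quotient G (Ω₁ × Ω₂) → K) →ₗ[K] ((Ω₁ → K) →ₗ[K] (Ω₂ → K)) where
  toFun c :=
    { toFun := fun f y => ∑ x, c (Quotient.mk'' (x, y)) * f x
      map_add' := by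
        intro f₁ f₂
        funext y
        simp [mul_add, Finset.sum_add_distrib]
      map_smul' := by
        intro a f
        funext y
        simp only [Pi.smul_apply, smul_eq_mul, RingHom.id_apply, Finset.mul_sum]
        refine Finset.sum_congr rfl fun x _ => ?_
        ring }
  map_add' := by
    intro c₁ c₂
    ext f y
    simp [add_mul, Finset.sum_add_distrib]
  map_smul' := by
    intro a c
    ext f y
    simp only [Pi.smul_apply, smul_eq_mul, RingHom.id_apply, LinearMap.coe_mk, AddHom.coe_mk,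
      LinearMap.smul_apply, Finset.mul_sum]
    refine Finset.sum_congr rfl fun x _ => ?_
    simp [mul_assoc]

theorem Phi_apply (c : MulAction.orbitRel.Quotient G (Ω₁ × Ω₂) → K) (f : Ω₁ → K) (y : Ω₂) :
    Phi (G := G) c f y = ∑ x, c (Quotient.mk'' (x, y)) * f x := rfl

theorem Phi_single [DecidableEq Ω₁] (c : MulAction.orbitRel.Quotient G (Ω₁ × Ω₂) → K) (x : Ω₁)
    (y : Ω₂) : Phi (G := G) c (Pi.single x 1) y = c (Quotient.mk'' (x, y)) := by
  rw [Phi_apply]
  rw [Finset.sum_eq_single x]
  · simp
  · intro b _ hb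
    simp [Pi.single_apply, hb]
  · intro h
    exact absurd (Finset.mem_univ x) h

theorem Phi_injective : Function.Injective (Phi (G := G) (K := K) (Ω₁ := Ω₁) (Ω₂ := Ω₂)) := by
  classical
  intro c₁ c₂ h
  funext q
  induction q using Quotient.inductionOn' with
  | h xy =>
    obtain ⟨x, y⟩ := xy
    have := congrArg (fun T => T (Pi.single x 1) y) h
    simpa [Phi_single] using this

theorem mk_smul (g : G) (x : Ω₁) (y : Ω₂) :
    (Quotient.mk'' (g • x, g • y) : MulAction.orbitRel.Quotient G (Ω₁ × Ω₂)) =
      Quotient.mk'' (x, y) := by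
  apply Quotient.sound'
  rw [MulAction.orbitRel_apply]
  exact ⟨g, rfl⟩

theorem Phi_mem (c : MulAction.orbitRel.Quotient G (Ω₁ × Ω₂) → K) :
    Phi (G := G) c ∈ ((Cfsg.permRep K G Ω₁).linHom (Cfsg.permRep K G Ω₂)).invariants := by
  rw [Representation.mem_invariants]
  intro g
  rw [Representation.linHom_apply]
  ext f y
  simp only [LinearMap.coe_comp, Function.comp_apply]
  change Phi (G := G) c (fun x => f (g⁻¹⁻¹ • x)) (g⁻¹ • y) = Phi (G := G) c f y
  rw [Phi_apply, Phi_apply, inv_inv]
  refine Fintype.sum_equiv (MulAction.toPerm g) _ _ ?_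
  intro x
  simp only [MulAction.toPerm_apply]
  congr 1
  rw [← mk_smul g x (g⁻¹ • y), smul_inv_smul]

theorem range_Phi :
    LinearMap.range (Phi (G := G) (K := K) (Ω₁ := Ω₁) (Ω₂ := Ω₂)) =
      ((Cfsg.permRep K G Ω₁).linHom (Cfsg.permRep K G Ω₂)).invariants := by
  classical
  apply le_antisymm
  · rintro _ ⟨c, rfl⟩
    exact Phi_mem c
  · intro T hT
    rw [Representation.mem_invariants] at hT
    -- key invariance of matrix entries
    have key : ∀ (g : G) (x : Ω₁) (y : Ω₂),
        T (Pi.single (g • x) 1) (g • y) = T (Pi.single x 1) y := by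
      intro g x y
      have h1 := hT g
      rw [Representation.linHom_apply] at h1
      have h2 := congrArg (fun S => S (Pi.single (g • x) 1) (g • y)) h1
      simp only [LinearMap.coe_comp, Function.comp_apply] at h2
      rw [← h2]
      have h3 : (Cfsg.permRep K G Ω₁) g⁻¹ (Pi.single (g • x) 1) = Pi.single x 1 := by
        funext z
        change (Pi.single (g • x) (1 : K) : Ω₁ → K) (g⁻¹⁻¹ • z) = _
        rw [inv_inv]
        by_cases hz : z = x
        · subst hz; simp
        · have : g • z ≠ g • x := fun h => hz (MulAction.injective g h)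
          simp [Pi.single_apply, hz, this]
      rw [h3]
      change T (Pi.single x 1) (g⁻¹ • g • y) = _
      rw [inv_smul_smul]
    refine ⟨fun q => T (Pi.single (Quotient.out q).1 1) (Quotient.out q).2, ?_⟩
    -- entries agree
    have hent : ∀ (x : Ω₁) (y : Ω₂),
        T (Pi.single (Quotient.out (Quotient.mk'' (x, y) :
          MulAction.orbitRel.Quotient G (Ω₁ × Ω₂))).1 1)
          (Quotient.out (Quotient.mk'' (x, y) :
          MulAction.orbitRel.Quotient G (Ω₁ × Ω₂))).2 = T (Pi.single x 1) y := by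
      intro x y
      have h1 : (Quotient.mk'' (Quotient.out (Quotient.mk'' (x, y) :
          MulAction.orbitRel.Quotient G (Ω₁ × Ω₂))) :
          MulAction.orbitRel.Quotient G (Ω₁ × Ω₂)) = Quotient.mk'' (x, y) := Quotient.out_eq' _
      have h2 := Quotient.exact' h1
      rw [MulAction.orbitRel_apply] at h2
      obtain ⟨g, hg⟩ := h2
      rw [← hg]
      exact key g x y
    apply LinearMap.ext
    intro f
    funext y
    rw [Phi_apply]
    have hf : f = ∑ x, f x • (Pi.single x 1 : Ω₁ → K) := by
      funext z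
      simp [Finset.sum_apply, Pi.single_apply]
    conv_rhs => rw [hf]
    rw [map_sum, Finset.sum_apply]
    refine Finset.sum_congr rfl fun x _ => ?_
    rw [map_smul, Pi.smul_apply, smul_eq_mul, hent x y, mul_comm]

end

theorem result {G : Type*} [Group G] {K : Type*} [Field K] {Ω₁ Ω₂ : Type*} [Fintype Ω₁] [Fintype Ω₂] [MulAction G Ω₁] [MulAction G Ω₂] : Module.finrank K ((Cfsg.permRep K G Ω₁).linHom (Cfsg.permRep K G Ω₂)).invariants = Nat.card (MulAction.orbitRel.Quotient G (Ω₁ × Ω₂)) := by
  classical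
  rw [← range_Phi, LinearMap.finrank_range_of_inj Phi_injective]
  haveI : Finite (MulAction.orbitRel.Quotient G (Ω₁ × Ω₂)) := Quotient.finite _
  haveI : Fintype (MulAction.orbitRel.Quotient G (Ω₁ × Ω₂)) := Fintype.ofFinite _
  rw [Module.finrank_fintype_fun_eq_card, Nat.card_eq_fintype_card]

end Cfsg.Agent.S0668
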