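import Cfsg.Statements.S0669
import Mathlib

set_option autoImplicit false
universe u
open Cfsg

namespace Cfsg.Agent.S0669

open MulAction

theorem result {G : Type*} [Group G] {Ω : Type*} [Finite Ω] [MulAction G Ω] [MulAction.IsPretransitive G Ω] (a : Ω) : Nat.card (MulAction.orbitRel.Quotient G (Ω × Ω)) = Nat.card (MulAction.orbitRel.Quotient (MulAction.stabilizer G a) Ω) := by
  symm
  let f : orbitRel.Quotient (stabilizer G a) Ω → orbitRel.Quotient G (Ω × Ω) :=
    Quotient.map' (fun b => (a, b)) (by
      intro b b' h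
      rw [← Quotient.eq''] at h ⊢
      change (Quotient.mk'' b : orbitRel.Quotient (stabilizer G a) Ω) = Quotient.mk'' b' at h
      rw [Quotient.eq'', orbitRel_apply] at h
      obtain ⟨k, hk⟩ := h
      rw [Quotient.eq'']
      change (a, b) ∈ orbit G (a, b')
      refine ⟨(k : G), ?_⟩
      have hka : (k : G) • a = a := k.2
      have hkb : (k : G) • b' = b := hk
      simp only [Prod.smul_mk, hka, hkb])
  apply Nat.card_eq_of_bijective f
  constructor
  · intro x y
    induction x using Quotient.inductionOn' with | _ b => ?_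
    induction y using Quotient.inductionOn' with | _ b' => ?_
    intro h
    simp only [f, Quotient.map'_mk''] at h
    rw [Quotient.eq''] at h ⊢
    change (a, b) ∈ orbit G (a, b') at h
    obtain ⟨g, hg⟩ := h
    simp only [Prod.smul_mk, Prod.mk.injEq] at hg
    change b ∈ orbit (stabilizer G a) b'
    exact ⟨⟨g, hg.1⟩, hg.2⟩
  · intro y
    induction y using Quotient.inductionOn' with | _ p => ?_
    obtain ⟨x, z⟩ := p
    obtain ⟨g, hg⟩ := exists_smul_eq G x a
    refine ⟨Quotient.mk'' (g • z), ?_⟩
    simp only [f, Quotient.map'_mk'']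
    rw [Quotient.eq'']
    change (a, g • z) ∈ orbit G (x, z)
    exact ⟨g, by simp [hg]⟩

end Cfsg.Agent.S0669
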