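import Cfsg.Statements.S0670
import Cfsg.Agent.Lib.H4.PGroupFixed

set_option autoImplicit false
open Cfsg

namespace Cfsg.Agent.S0670

/-- A nonzero invariant subspace of a permutation module in characteristic `p` for a transitive
action of `p`-power degree contains a nonzero constant function. -/
theorem exists_const_mem {G : Type*} [Group G] [Finite G] {K : Type*} [Field K] {p f : ℕ}
    [Fact p.Prime] [CharP K p] {Ω : Type*} [Fintype Ω] [MulAction G Ω]
    [MulAction.IsPretransitive G Ω] (hcard : Fintype.card Ω = p ^ f)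
    (W : Subrepresentation (Cfsg.permRep K G Ω)) (hW : W.toSubmodule ≠ ⊥) :
    (fun _ => 1 : Ω → K) ∈ W.toSubmodule := by
  classical
  let P : Sylow p G := default
  haveI : MulAction.IsPretransitive P Ω := Cfsg.Agent.Lib.H4.sylow_isPretransitive hcard P
  let ρ' : Representation K P (Ω → K) := (Cfsg.permRep K G Ω).comp (P : Subgroup G).subtype
  obtain ⟨w, hwW, hw0, hfix⟩ := Cfsg.Agent.Lib.H4.exists_fixed_vector P.isPGroup' ρ' W.toSubmodule
    (fun g u hu => W.apply_mem_toSubmodule (g : G) hu) hW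
  have hconst : ∀ x y : Ω, w x = w y := by
    intro x y
    obtain ⟨g, hg⟩ := MulAction.exists_smul_eq P x y
    have h1 := congrFun (hfix g⁻¹) x
    change w (((g⁻¹ : P) : G)⁻¹ • x) = w x at h1
    rw [← h1, ← hg]
    congr 1
    change (((g⁻¹ : P) : G)⁻¹ • x) = (g : G) • x
    rw [Subgroup.coe_inv, inv_inv]
  have hne : ∃ x, w x ≠ 0 := by
    by_contra h
    push Not at h
    exact hw0 (funext h)
  obtain ⟨x₀, hx₀⟩ := hne
  have : (fun _ => 1 : Ω → K) = (w x₀)⁻¹ • w := by
    funext y
    rw [Pi.smul_apply, smul_eq_mul, hconst y x₀, inv_mul_cancel₀ hx₀]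
  rw [this]
  exact Submodule.smul_mem _ _ hwW

theorem result {G : Type*} [Group G] [Finite G] {K : Type*} [Field K] {p f : ℕ} [Fact p.Prime] [CharP K p] {Ω : Type*} [Fintype Ω] [MulAction G Ω] [MulAction.IsPretransitive G Ω] (hf : 1 ≤ f) (hcard : Fintype.card Ω = p ^ f) (W : Subrepresentation (Cfsg.permRep K G Ω)) (hW : W.toSubmodule ≠ ⊥) : (Cfsg.permConstants K G Ω).toSubmodule ≤ W.toSubmodule := by
  change Submodule.span K {fun _ => 1} ≤ W.toSubmodule
  rw [Submodule.span_le, Set.singleton_subset_iff]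
  exact exists_const_mem hcard W hW

end Cfsg.Agent.S0670
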