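import Cfsg.Statements.S0671
import Cfsg.Agent.S0668
import Cfsg.Agent.S0670

set_option autoImplicit false
open Cfsg

namespace Cfsg.Agent.S0671

section
variable {G : Type*} [Group G] {K : Type*} [Field K] {Ω : Type*} [Fintype Ω] [MulAction G Ω]

/-- The orthogonal complement of a subrepresentation with respect to the dot product. -/
noncomputable def orth (U : Subrepresentation (Cfsg.permRep K G Ω)) :
    Subrepresentation (Cfsg.permRep K G Ω) where
  toSubmodule :=
    { carrier := {f | ∀ u ∈ U.toSubmodule, ∑ x, f x * u x = 0}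
      add_mem' := by
        intro f₁ f₂ h₁ h₂ u hu
        simp only [Pi.add_apply, add_mul, Finset.sum_add_distrib]
        rw [h₁ u hu, h₂ u hu, add_zero]
      zero_mem' := by
        intro u _
        simp
      smul_mem' := by
        intro c f hf u hu
        simp only [Pi.smul_apply, smul_eq_mul, mul_assoc, ← Finset.mul_sum]
        rw [hf u hu, mul_zero] }
  apply_mem_toSubmodule g v hv := by
    intro u hu
    have h1 := hv _ (U.apply_mem_toSubmodule g⁻¹ hu)
    rw [← h1]
    refine Fintype.sum_equiv (MulAction.toPerm g⁻¹) _ _ ?_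
    intro x
    change v (g⁻¹ • x) * u x = v (g⁻¹ • x) * u (g⁻¹⁻¹ • g⁻¹ • x)
    rw [inv_inv, smul_inv_smul]

theorem mem_orth (U : Subrepresentation (Cfsg.permRep K G Ω)) (f : Ω → K) :
    f ∈ (orth U).toSubmodule ↔ ∀ u ∈ U.toSubmodule, ∑ x, f x * u x = 0 := Iff.rfl

theorem orth_ne_bot (U : Subrepresentation (Cfsg.permRep K G Ω)) (hU : U.toSubmodule ≠ ⊤) :
    (orth U).toSubmodule ≠ ⊥ := by
  classical
  obtain ⟨ℓ, hℓ0, hℓ⟩ := U.toSubmodule.exists_le_ker_of_lt_top (lt_top_iff_ne_top.2 hU)
  have hrep : ∀ f : Ω → K, ℓ f = ∑ x, ℓ (Pi.single x 1) * f x := by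
    intro f
    have hf : f = ∑ x, f x • (Pi.single x 1 : Ω → K) := by
      funext z
      simp [Finset.sum_apply, Pi.single_apply]
    conv_lhs => rw [hf]
    rw [map_sum]
    refine Finset.sum_congr rfl fun x _ => ?_
    rw [map_smul, smul_eq_mul, mul_comm]
  intro hbot
  apply hℓ0
  have hmem : (fun x => ℓ (Pi.single x 1)) ∈ (orth U).toSubmodule := by
    rw [mem_orth]
    intro u hu
    rw [← hrep u]
    exact hℓ hu
  rw [hbot, Submodule.mem_bot] at hmem
  apply LinearMap.ext
  intro f
  rw [hrep f]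
  simp only [LinearMap.zero_apply]
  refine Finset.sum_eq_zero fun x _ => ?_
  rw [congrFun hmem x]
  simp

end

/-- The sum-zero functions form the unique maximal submodule. -/
theorem le_sumZero_of_ne_top {G : Type*} [Group G] [Finite G] {K : Type*} [Field K] {p f : ℕ}
    [Fact p.Prime] [CharP K p] {Ω : Type*} [Fintype Ω] [MulAction G Ω]
    [MulAction.IsPretransitive G Ω] (hcard : Fintype.card Ω = p ^ f)
    (U : Subrepresentation (Cfsg.permRep K G Ω)) (hU : U.toSubmodule ≠ ⊤) :
    U.toSubmodule ≤ (Cfsg.permSumZero K G Ω).toSubmodule := by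
  have h1 := Cfsg.Agent.S0670.exists_const_mem hcard (orth U) (orth_ne_bot U hU)
  rw [mem_orth] at h1
  intro u hu
  have := h1 u hu
  simp only [one_mul] at this
  exact this


section
variable {G : Type*} [Group G] {K : Type*} [Field K] {Ω : Type*} [Fintype Ω] [MulAction G Ω]

/-- Equivariant endomorphisms of the permutation module. -/
def IsEquiv (φ : (Ω → K) →ₗ[K] (Ω → K)) : Prop :=
  ∀ (g : G) (v : Ω → K), φ (Cfsg.permRep K G Ω g v) = Cfsg.permRep K G Ω g (φ v)

/-- Image of a subrepresentation under an equivariant endomorphism. -/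
noncomputable def mapSub (φ : (Ω → K) →ₗ[K] (Ω → K)) (hφ : IsEquiv (G := G) φ)
    (U : Subrepresentation (Cfsg.permRep K G Ω)) : Subrepresentation (Cfsg.permRep K G Ω) where
  toSubmodule := U.toSubmodule.map φ
  apply_mem_toSubmodule g v hv := by
    obtain ⟨u, hu, rfl⟩ := hv
    exact ⟨_, U.apply_mem_toSubmodule g hu, hφ g u⟩

/-- Kernel of an equivariant endomorphism. -/
noncomputable def kerSub (φ : (Ω → K) →ₗ[K] (Ω → K)) (hφ : IsEquiv (G := G) φ) :
    Subrepresentation (Cfsg.permRep K G Ω) where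
  toSubmodule := LinearMap.ker φ
  apply_mem_toSubmodule g v hv := by
    rw [LinearMap.mem_ker] at hv ⊢
    rw [hφ g v, hv, map_zero]

/-- The whole module as a subrepresentation. -/
noncomputable def topSub : Subrepresentation (Cfsg.permRep K G Ω) where
  toSubmodule := ⊤
  apply_mem_toSubmodule _ _ _ := Submodule.mem_top

theorem isEquiv_Phi (c : MulAction.orbitRel.Quotient G (Ω × Ω) → K) :
    IsEquiv (G := G) (Cfsg.Agent.S0668.Phi (G := G) c) := by
  intro g v
  have h1 := Cfsg.Agent.S0668.Phi_mem (G := G) (K := K) c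
  rw [Representation.mem_invariants] at h1
  have h2 := h1 g
  rw [Representation.linHom_apply] at h2
  have h3 := congrArg (fun T => T (Cfsg.permRep K G Ω g v)) h2
  simp only [LinearMap.coe_comp, Function.comp_apply] at h3
  rw [← h3]
  congr 2
  rw [← Module.End.mul_apply, ← map_mul, inv_mul_cancel, map_one, Module.End.one_apply]

end


theorem result {G : Type*} [Group G] [Finite G] {K : Type*} [Field K] {p f : ℕ} [Fact p.Prime] [CharP K p] {Ω : Type*} [Fintype Ω] [MulAction G Ω] [MulAction.IsPretransitive G Ω] (hf : 1 ≤ f) (hcard : Fintype.card Ω = p ^ f) (h : ∀ W W' : Subrepresentation (Cfsg.permRep K G Ω), (Cfsg.permConstants K G Ω).toSubmodule ≤ W.toSubmodule → W.toSubmodule < W'.toSubmodule → W'.toSubmodule ≤ (Cfsg.permSumZero K G Ω).toSubmodule → ∃ g : G, ∃ v ∈ W'.toSubmodule, Cfsg.permRep K G Ω g v - v ∉ W.toSubmodule) : MulAction.IsMultiplyPretransitive G Ω 2 := by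
  classical
  by_contra hnot
  have hp : p.Prime := Fact.out
  have hne : Nonempty Ω := by
    rw [← Fintype.card_pos_iff, hcard]
    exact pos_of_ne_zero (pow_ne_zero _ hp.ne_zero)
  obtain ⟨y⟩ := hne
  -- the point stabilizer is not transitive on the remaining points
  have hex : ∃ x₁ x', x₁ ≠ y ∧ x' ≠ y ∧ ∀ g : G, g • y = y → g • x₁ ≠ x' := by
    by_contra hall
    push Not at hall
    apply hnot
    rw [MulAction.is_two_pretransitive_iff]
    intro a b c d hab hcd
    obtain ⟨g₁, hg₁⟩ := MulAction.exists_smul_eq G b y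
    obtain ⟨g₂, hg₂⟩ := MulAction.exists_smul_eq G d y
    have h1 : g₁ • a ≠ y := by
      rw [← hg₁]
      exact fun e => hab (MulAction.injective g₁ e)
    have h2 : g₂ • c ≠ y := by
      rw [← hg₂]
      exact fun e => hcd (MulAction.injective g₂ e)
    obtain ⟨k, hky, hkx⟩ := hall (g₁ • a) (g₂ • c) h1 h2
    refine ⟨g₂⁻¹ * k * g₁, ?_, ?_⟩
    · rw [mul_smul, mul_smul, hkx, inv_smul_smul]
    · rw [mul_smul, mul_smul, hg₁, hky, ← hg₂, inv_smul_smul]
  obtain ⟨x₁, x', hx₁, hx', hno⟩ := hex
  -- the adjacency operator of the orbital of (x₁, y)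
  let q₁ : MulAction.orbitRel.Quotient G (Ω × Ω) := Quotient.mk'' (x₁, y)
  let c : MulAction.orbitRel.Quotient G (Ω × Ω) → K := fun q => if q = q₁ then 1 else 0
  let A : (Ω → K) →ₗ[K] (Ω → K) := Cfsg.Agent.S0668.Phi (G := G) c
  have hA : IsEquiv (G := G) A := isEquiv_Phi c
  let k' : K := A (fun _ => 1) y
  let φ : (Ω → K) →ₗ[K] (Ω → K) := A - k' • LinearMap.id
  have hφ : IsEquiv (G := G) φ := by
    intro g v
    simp only [φ, LinearMap.sub_apply, LinearMap.smul_apply, LinearMap.id_apply, map_sub,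
      map_smul]
    rw [hA g v]
  -- φ kills the constants
  have hone_fix : ∀ g : G, Cfsg.permRep K G Ω g (fun _ => 1) = fun _ => 1 := fun g => rfl
  have hA1 : A (fun _ => 1) = k' • (fun _ => 1) := by
    funext z
    obtain ⟨g, hg⟩ := MulAction.exists_smul_eq G z y
    have h1 := congrFun (hA g⁻¹ (fun _ => 1)) z
    rw [hone_fix] at h1
    change A (fun _ => 1) z = A (fun _ => 1) (g⁻¹⁻¹ • z) at h1
    rw [inv_inv, hg] at h1
    rw [h1]
    simp [k']
  have hφ1 : φ (fun _ => 1) = 0 := by
    simp only [φ, LinearMap.sub_apply, LinearMap.smul_apply, LinearMap.id_apply]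
    rw [hA1, sub_self]
  -- entries of φ
  have hent : ∀ x : Ω, x ≠ y → φ (Pi.single x 1) y = c (Quotient.mk'' (x, y)) := by
    intro x hx
    simp only [φ, LinearMap.sub_apply, LinearMap.smul_apply, LinearMap.id_apply, Pi.sub_apply,
      Pi.smul_apply, smul_eq_mul]
    rw [show A = Cfsg.Agent.S0668.Phi (G := G) c from rfl, Cfsg.Agent.S0668.Phi_single]
    rw [Pi.single_apply, if_neg (Ne.symm hx), mul_zero, sub_zero]
  have hc1 : c (Quotient.mk'' (x₁, y)) = 1 := if_pos rfl
  have hc2 : c (Quotient.mk'' (x', y)) = 0 := by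
    apply if_neg
    intro e
    have h2 := Quotient.exact' e
    rw [MulAction.orbitRel_apply] at h2
    obtain ⟨g, hg⟩ := h2
    have h3 : g • x₁ = x' := congrArg Prod.fst hg
    have h4 : g • y = y := congrArg Prod.snd hg
    exact hno g h4 h3
  -- the test vector in the sum-zero submodule
  let t : Ω → K := Pi.single x₁ 1 - Pi.single x' 1
  have htS : t ∈ (Cfsg.permSumZero K G Ω).toSubmodule := by
    change ∑ z, t z = 0
    simp [t, Finset.sum_sub_distrib]
  have hφt : φ t y = 1 := by
    simp only [t, map_sub, Pi.sub_apply]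
    rw [hent x₁ hx₁, hent x' hx', hc1, hc2, sub_zero]
  have hφt0 : φ t ≠ 0 := by
    intro e
    rw [e] at hφt
    simp at hφt
  -- the two subrepresentations
  let W := mapSub φ hφ (Cfsg.permSumZero K G Ω)
  let W' := mapSub φ hφ (topSub (G := G) (K := K) (Ω := Ω))
  have hWne : W.toSubmodule ≠ ⊥ := by
    intro e
    have : φ t ∈ W.toSubmodule := ⟨t, htS, rfl⟩
    rw [e, Submodule.mem_bot] at this
    exact hφt0 this
  have hCW : (Cfsg.permConstants K G Ω).toSubmodule ≤ W.toSubmodule :=
    Cfsg.Agent.S0670.result hf hcard W hWne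
  have hone_ne : (fun _ => 1 : Ω → K) ≠ 0 := by
    intro e
    have := congrFun e y
    simp at this
  have hW'top : W'.toSubmodule ≠ ⊤ := by
    intro e
    have hsurj : Function.Surjective φ := by
      intro v
      have : v ∈ W'.toSubmodule := by rw [e]; exact Submodule.mem_top
      obtain ⟨u, _, hu⟩ := this
      exact ⟨u, hu⟩
    have hinj : Function.Injective φ := LinearMap.injective_iff_surjective.2 hsurj
    exact hone_ne (hinj (by rw [hφ1, map_zero]))
  have hW'S : W'.toSubmodule ≤ (Cfsg.permSumZero K G Ω).toSubmodule :=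
    le_sumZero_of_ne_top hcard W' hW'top
  have hker : (kerSub φ hφ).toSubmodule ≤ (Cfsg.permSumZero K G Ω).toSubmodule := by
    apply le_sumZero_of_ne_top hcard
    intro e
    have : t ∈ (kerSub φ hφ).toSubmodule := by rw [e]; exact Submodule.mem_top
    exact hφt0 (LinearMap.mem_ker.1 this)
  have hlt : W.toSubmodule < W'.toSubmodule := by
    refine lt_of_le_of_ne (Submodule.map_mono le_top) ?_
    intro e
    have h1 : φ (Pi.single y 1) ∈ W.toSubmodule := by
      rw [e]
      exact ⟨_, Submodule.mem_top, rfl⟩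
    obtain ⟨s, hs, hs'⟩ := h1
    have h2 : Pi.single y 1 - s ∈ (kerSub φ hφ).toSubmodule := by
      change _ ∈ LinearMap.ker φ
      rw [LinearMap.mem_ker, map_sub, hs', sub_self]
    have h3 := hker h2
    have h4 : (Pi.single y 1 : Ω → K) ∈ (Cfsg.permSumZero K G Ω).toSubmodule := by
      have := Submodule.add_mem _ h3 hs
      rwa [sub_add_cancel] at this
    change ∑ z, (Pi.single y (1 : K) : Ω → K) z = 0 at h4
    simp at h4
  obtain ⟨g, v, hv, hgv⟩ := h W W' hCW hlt hW'S
  apply hgv
  obtain ⟨m, _, rfl⟩ := hv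
  refine ⟨Cfsg.permRep K G Ω g m - m, ?_, ?_⟩
  · change ∑ z, (Cfsg.permRep K G Ω g m - m) z = 0
    simp only [Pi.sub_apply, Finset.sum_sub_distrib]
    rw [sub_eq_zero]
    exact Fintype.sum_equiv (MulAction.toPerm g⁻¹) _ _ (fun x => rfl)
  · rw [map_sub, hφ g m]

end Cfsg.Agent.S0671
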