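import Cfsg.Statements.S0672
import Mathlib

set_option autoImplicit false
open Cfsg

namespace Cfsg.Agent.S0672

open scoped Pointwise

theorem three_pretransitive_of {G α : Type*} [Group G] [MulAction G α]
    (h : ∀ x₁ x₂ x₃ y₁ y₂ y₃ : α, x₁ ≠ x₂ → x₁ ≠ x₃ → x₂ ≠ x₃ → y₁ ≠ y₂ → y₁ ≠ y₃ → y₂ ≠ y₃ →
      ∃ g : G, g • x₁ = y₁ ∧ g • x₂ = y₂ ∧ g • x₃ = y₃) :
    MulAction.IsMultiplyPretransitive G α 3 := by
  refine ⟨fun x y => ?_⟩
  have hx : ∀ i j : Fin 3, i ≠ j → x i ≠ x j := fun i j hij h' => hij (x.injective h')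
  have hy : ∀ i j : Fin 3, i ≠ j → y i ≠ y j := fun i j hij h' => hij (y.injective h')
  obtain ⟨g, h0, h1, h2⟩ := h (x 0) (x 1) (x 2) (y 0) (y 1) (y 2)
    (hx 0 1 (by decide)) (hx 0 2 (by decide)) (hx 1 2 (by decide))
    (hy 0 1 (by decide)) (hy 0 2 (by decide)) (hy 1 2 (by decide))
  refine ⟨g, ?_⟩
  ext i
  fin_cases i
  · exact h0
  · exact h1
  · exact h2

section kernel

variable {G : Type*} [Group G] {K : Type*} [Field K] {Ω : Type*} [Fintype Ω] [DecidableEq Ω]
  [MulAction G Ω]

/-- the linear map `(Ω → K) → (pairs → K)` with kernel `κ` -/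
noncomputable def theta (κ : Ω → Set.powersetCard Ω 2 → K) :
    (Ω → K) →ₗ[K] (Set.powersetCard Ω 2 → K) where
  toFun φ := fun π => ∑ a, κ a π * φ a
  map_add' φ ψ := by
    funext π
    simp only [Pi.add_apply, mul_add, Finset.sum_add_distrib]
  map_smul' c φ := by
    funext π
    simp only [Pi.smul_apply, smul_eq_mul, RingHom.id_apply, Finset.mul_sum]
    apply Finset.sum_congr rfl
    intro a _; ring

theorem theta_apply (κ : Ω → Set.powersetCard Ω 2 → K) (φ : Ω → K) (π : Set.powersetCard Ω 2) :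
    theta κ φ π = ∑ a, κ a π * φ a := rfl

theorem theta_intertwine (κ : Ω → Set.powersetCard Ω 2 → K)
    (hκ : ∀ (g : G) (a : Ω) (π : Set.powersetCard Ω 2), κ (g • a) (g • π) = κ a π) (g : G)
    (φ : Ω → K) :
    theta κ (Cfsg.permRep K G Ω g φ) =
      Cfsg.permRep K G (Set.powersetCard Ω 2) g (theta κ φ) := by
  funext π
  show ∑ a, κ a π * φ (g⁻¹ • a) = ∑ a, κ a (g⁻¹ • π) * φ a
  rw [← Equiv.sum_comp (MulAction.toPerm g)]
  apply Finset.sum_congr rfl
  intro b _
  simp only [MulAction.toPerm_apply, inv_smul_smul]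
  congr 1
  have := hκ g b (g⁻¹ • π)
  rw [smul_inv_smul] at this
  exact this

/-- under the hypothesis of the statement, an invariant kernel with zero column sums does not
depend on the point -/
theorem kernel_const
    (h : ∀ f : Representation.IntertwiningMap (Cfsg.permSumZero K G Ω).toRepresentation
      (Cfsg.permRep K G (Set.powersetCard Ω 2)),
      (∀ v : (Cfsg.permSumZero K G Ω).toSubmodule,
        (v : Ω → K) ∈ (Cfsg.permConstants K G Ω).toSubmodule → f v = 0) → f = 0)
    (κ : Ω → Set.powersetCard Ω 2 → K)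
    (hκ : ∀ (g : G) (a : Ω) (π : Set.powersetCard Ω 2), κ (g • a) (g • π) = κ a π)
    (hs : ∀ π, ∑ a, κ a π = 0) : ∀ (a b : Ω) (π : Set.powersetCard Ω 2), κ a π = κ b π := by
  let f : Representation.IntertwiningMap (Cfsg.permSumZero K G Ω).toRepresentation
      (Cfsg.permRep K G (Set.powersetCard Ω 2)) :=
    { toLinearMap := (theta κ).comp (Cfsg.permSumZero K G Ω).toSubmodule.subtype
      isIntertwining' := by
        intro g
        ext v : 1
        exact theta_intertwine κ hκ g (v : Ω → K) }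
  have hf0 : f = 0 := by
    apply h
    intro v hv
    have hv' : (v : Ω → K) ∈ Submodule.span K {fun _ : Ω => (1 : K)} := hv
    rw [Submodule.mem_span_singleton] at hv'
    obtain ⟨c, hc⟩ := hv'
    show theta κ (v : Ω → K) = 0
    rw [← hc, map_smul]
    have : theta κ (fun _ : Ω => (1 : K)) = 0 := by
      funext π
      rw [theta_apply]
      simp only [mul_one, hs π, Pi.zero_apply]
    rw [this, smul_zero]
  intro a b π
  have hmem : (Pi.single a (1 : K) - Pi.single b (1 : K) : Ω → K) ∈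
      (Cfsg.permSumZero K G Ω).toSubmodule := by
    show ∑ x, (Pi.single a (1 : K) - Pi.single b (1 : K) : Ω → K) x = 0
    simp [Finset.sum_sub_distrib]
  have h1 : f ⟨_, hmem⟩ = 0 := by rw [hf0]; rfl
  have h2 : theta κ (Pi.single a (1 : K) - Pi.single b (1 : K) : Ω → K) = 0 := h1
  have h3 := congrFun h2 π
  rw [theta_apply] at h3
  simp only [Pi.sub_apply, mul_sub, Finset.sum_sub_distrib, Pi.single_apply, mul_ite, mul_one,
    mul_zero, Finset.sum_ite_eq', Finset.mem_univ, if_true, Pi.zero_apply] at h3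
  exact sub_eq_zero.1 h3

end kernel

section main

variable {G : Type*} [Group G] {K : Type*} [Field K] {Ω : Type*} [Fintype Ω] [DecidableEq Ω]
  [MulAction G Ω]

theorem smul_mem_pair_iff (g : G) (a : Ω) (π : Set.powersetCard Ω 2) :
    g • a ∈ ((g • π : Set.powersetCard Ω 2) : Finset Ω) ↔ a ∈ (π : Finset Ω) := by
  rw [Set.powersetCard.coe_smul, Finset.smul_mem_smul_finset_iff]

/-- setwise pair stabilisers are transitive on the complement (odd characteristic) -/
theorem pair_stab_trans (h2K : (2 : K) ≠ 0)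
    (h : ∀ f : Representation.IntertwiningMap (Cfsg.permSumZero K G Ω).toRepresentation
      (Cfsg.permRep K G (Set.powersetCard Ω 2)),
      (∀ v : (Cfsg.permSumZero K G Ω).toSubmodule,
        (v : Ω → K) ∈ (Cfsg.permConstants K G Ω).toSubmodule → f v = 0) → f = 0)
    (a₀ : Ω) (π₀ : Set.powersetCard Ω 2) (ha₀ : a₀ ∉ (π₀ : Finset Ω)) (a : Ω)
    (ha : a ∉ (π₀ : Finset Ω)) : ∃ g : G, g • a₀ = a ∧ g • π₀ = π₀ := by
  classical
  let Γ : Ω → Set.powersetCard Ω 2 → Prop := fun a π => ∃ g : G, g • a₀ = a ∧ g • π₀ = π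
  have hΓ : ∀ (g : G) a π, Γ (g • a) (g • π) ↔ Γ a π := by
    intro g a π
    constructor
    · rintro ⟨k, hk1, hk2⟩
      refine ⟨g⁻¹ * k, ?_, ?_⟩
      · rw [mul_smul, hk1, inv_smul_smul]
      · rw [mul_smul, hk2, inv_smul_smul]
    · rintro ⟨k, hk1, hk2⟩
      exact ⟨g * k, by rw [mul_smul, hk1], by rw [mul_smul, hk2]⟩
  let cnt : Set.powersetCard Ω 2 → ℕ := fun π => (Finset.univ.filter (fun a => Γ a π)).card
  have hcnt : ∀ (g : G) π, cnt (g • π) = cnt π := by
    intro g π
    apply Finset.card_nbij' (fun a => g⁻¹ • a) (fun a => g • a)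
    · intro a ha
      simp only [Finset.coe_filter, Finset.mem_univ, true_and, Set.mem_setOf_eq] at ha ⊢
      rw [← hΓ g, smul_inv_smul]; exact ha
    · intro a ha
      simp only [Finset.coe_filter, Finset.mem_univ, true_and, Set.mem_setOf_eq] at ha ⊢
      rw [hΓ g]; exact ha
    · intro a _; simp
    · intro a _; simp
  let κ : Ω → Set.powersetCard Ω 2 → K := fun a π =>
    2 * (if Γ a π then 1 else 0) - (cnt π : K) * (if a ∈ (π : Finset Ω) then 1 else 0)
  have hκ : ∀ (g : G) (a : Ω) (π : Set.powersetCard Ω 2), κ (g • a) (g • π) = κ a π := by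
    intro g a π
    simp only [κ, hΓ g a π, hcnt g π, smul_mem_pair_iff]
  have hs : ∀ π, ∑ a, κ a π = 0 := by
    intro π
    simp only [κ, Finset.sum_sub_distrib, ← Finset.mul_sum, Finset.sum_boole]
    have h1 : (Finset.univ.filter (fun a => a ∈ (π : Finset Ω))).card = 2 := by
      rw [Finset.filter_mem_eq_inter, Finset.univ_inter]
      exact π.2
    rw [h1]
    show (2 : K) * (cnt π : K) - (cnt π : K) * ((2 : ℕ) : K) = 0
    push_cast; ring
  have hconst := kernel_const h κ hκ hs
  have h1 := hconst a a₀ π₀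
  have hΓ0 : Γ a₀ π₀ := ⟨1, one_smul _ _, one_smul _ _⟩
  simp only [κ, if_neg ha, if_neg ha₀, if_pos hΓ0, mul_zero, sub_zero, mul_one] at h1
  by_contra hna
  have hna' : ¬ Γ a π₀ := hna
  rw [if_neg hna', mul_zero] at h1
  exact h2K h1.symm

end main

/-- Let a finite group act faithfully and doubly transitively with point stabilisers of even order, and let `K` have characteristic `p` dividing the degree. If the heart of the permutation module admits no non-zero equivariant map to the permutation module on unordered pairs (phrased: every intertwining map from the sum-zero functions vanishing on the constants is zero), the action is triply transitive. -/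
theorem result {G : Type*} [Group G] [Finite G] {K : Type*} [Field K] {p : ℕ} [Fact p.Prime] [CharP K p] {Ω : Type*} [Fintype Ω] [DecidableEq Ω] [MulAction G Ω] [FaithfulSMul G Ω] (h2 : MulAction.IsMultiplyPretransitive G Ω 2) (hp : p ∣ Fintype.card Ω) (heven : ∀ a : Ω, Even (Nat.card (MulAction.stabilizer G a))) (h : ∀ f : Representation.IntertwiningMap (Cfsg.permSumZero K G Ω).toRepresentation (Cfsg.permRep K G (Set.powersetCard Ω 2)), (∀ v : (Cfsg.permSumZero K G Ω).toSubmodule, (v : Ω → K) ∈ (Cfsg.permConstants K G Ω).toSubmodule → f v = 0) → f = 0) : MulAction.IsMultiplyPretransitive G Ω 3 := by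
  by_cases hcard : Fintype.card Ω < 3
  · refine ⟨fun x y => ?_⟩
    exfalso
    have := Fintype.card_le_of_embedding x
    rw [Fintype.card_fin] at this
    omega
  push_neg at hcard
  -- three distinct points
  obtain ⟨x₀, y₀, z₀, hxy, hxz, hyz⟩ : ∃ x y z : Ω, x ≠ y ∧ x ≠ z ∧ y ≠ z := by
    have h3 : 2 < Fintype.card Ω := hcard
    rw [Fintype.two_lt_card_iff] at h3
    exact h3
  by_cases h2K : (2 : K) = 0
  · -- characteristic 2: the hypothesis is contradictory
    exfalso
    let κ : Ω → Set.powersetCard Ω 2 → K := fun a π => if a ∈ (π : Finset Ω) then 1 else 0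
    have hκ : ∀ (g : G) (a : Ω) (π : Set.powersetCard Ω 2), κ (g • a) (g • π) = κ a π := by
      intro g a π
      simp only [κ, smul_mem_pair_iff]
    have hs : ∀ π, ∑ a, κ a π = 0 := by
      intro π
      simp only [κ, Finset.sum_boole]
      have h1 : (Finset.univ.filter (fun a => a ∈ (π : Finset Ω))).card = 2 := by
        rw [Finset.filter_mem_eq_inter, Finset.univ_inter]
        exact π.2
      rw [h1]
      exact_mod_cast h2K
    have hconst := kernel_const h κ hκ hs
    let π : Set.powersetCard Ω 2 := ⟨{x₀, y₀}, Finset.card_pair hxy⟩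
    have h1 := hconst x₀ z₀ π
    have hx : x₀ ∈ (π : Finset Ω) := Finset.mem_insert_self _ _
    have hz : z₀ ∉ (π : Finset Ω) := by
      show z₀ ∉ ({x₀, y₀} : Finset Ω)
      rw [Finset.mem_insert, Finset.mem_singleton]
      rintro (h | h)
      · exact hxz h.symm
      · exact hyz h.symm
    simp only [κ, if_pos hx, if_neg hz] at h1
    exact one_ne_zero h1
  -- odd characteristic
  have hL := pair_stab_trans h2K h
  rw [MulAction.is_two_pretransitive_iff] at h2
  -- base triple with an involution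
  haveI : Fact (Nat.Prime 2) := ⟨Nat.prime_two⟩
  obtain ⟨t, ht⟩ := exists_prime_orderOf_dvd_card' 2 (even_iff_two_dvd.1 (heven x₀))
  have ht1 : (t : G) ≠ 1 := by
    intro h1
    have : orderOf (t : G) = 2 := by rw [Subgroup.orderOf_coe]; exact ht
    rw [h1, orderOf_one] at this
    omega
  have htt : (t : G) * (t : G) = 1 := by
    have : orderOf (t : G) = 2 := by rw [Subgroup.orderOf_coe]; exact ht
    rw [← pow_two, ← this]; exact pow_orderOf_eq_one _
  obtain ⟨b, hb⟩ : ∃ b : Ω, (t : G) • b ≠ b := by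
    by_contra hcon
    push_neg at hcon
    apply ht1
    apply FaithfulSMul.eq_of_smul_eq_smul (α := Ω)
    intro x
    rw [hcon x, one_smul]
  have hta : (t : G) • x₀ = x₀ := t.2
  obtain ⟨c, hc⟩ : ∃ c, c = (t : G) • b := ⟨_, rfl⟩
  have htc : (t : G) • c = b := by rw [hc, ← mul_smul, htt, one_smul]
  have hab : x₀ ≠ b := by
    intro hab; apply hb; rw [← hab]; exact hta
  have hac : x₀ ≠ c := by
    intro hac
    apply hab
    have : (t : G) • x₀ = (t : G) • b := by rw [hta, ← hc]; exact hac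
    exact MulAction.injective (t : G) this
  have hbc : b ≠ c := by
    intro hbc; apply hb; rw [← hc]; exact hbc.symm
  -- reach every triple from the base triple
  have hreach : ∀ x₁ x₂ x₃ : Ω, x₁ ≠ x₂ → x₁ ≠ x₃ → x₂ ≠ x₃ →
      ∃ k : G, k • x₀ = x₁ ∧ k • b = x₂ ∧ k • c = x₃ := by
    intro x₁ x₂ x₃ h12 h13 h23
    obtain ⟨g, hg1, hg2⟩ := h2 hbc h23
    let π : Set.powersetCard Ω 2 := ⟨{x₂, x₃}, Finset.card_pair h23⟩
    have hmem : ∀ y : Ω, y ∈ (π : Finset Ω) ↔ y = x₂ ∨ y = x₃ := by
      intro y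
      show y ∈ ({x₂, x₃} : Finset Ω) ↔ _
      rw [Finset.mem_insert, Finset.mem_singleton]
    have ha' : g • x₀ ∉ (π : Finset Ω) := by
      rw [hmem]
      rintro (h' | h')
      · rw [← hg1] at h'; exact hab (MulAction.injective g h')
      · rw [← hg2] at h'; exact hac (MulAction.injective g h')
    have hx1 : x₁ ∉ (π : Finset Ω) := by
      rw [hmem]
      rintro (h' | h')
      · exact h12 h'
      · exact h13 h'
    obtain ⟨g', hg'1, hg'2⟩ := hL (g • x₀) π ha' x₁ hx1
    have hx2 : g' • x₂ ∈ (π : Finset Ω) := by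
      have := (smul_mem_pair_iff g' x₂ π).2 ((hmem x₂).2 (Or.inl rfl))
      rwa [hg'2] at this
    have hx3 : g' • x₃ ∈ (π : Finset Ω) := by
      have := (smul_mem_pair_iff g' x₃ π).2 ((hmem x₃).2 (Or.inr rfl))
      rwa [hg'2] at this
    rw [hmem] at hx2 hx3
    rcases hx2 with hx2 | hx2
    · -- g' fixes x₂, hence x₃
      have hx3' : g' • x₃ = x₃ := by
        rcases hx3 with hx3 | hx3
        · exfalso
          exact h23 (MulAction.injective g' (hx2.trans hx3.symm))
        · exact hx3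
      refine ⟨g' * g, ?_, ?_, ?_⟩
      · rw [mul_smul, hg'1]
      · rw [mul_smul, hg1, hx2]
      · rw [mul_smul, hg2, hx3']
    · -- g' swaps
      have hx3' : g' • x₃ = x₂ := by
        rcases hx3 with hx3 | hx3
        · exact hx3
        · exfalso
          exact h23 (MulAction.injective g' (hx2.trans hx3.symm))
      refine ⟨g' * g * t, ?_, ?_, ?_⟩
      · rw [mul_smul, hta, mul_smul, hg'1]
      · rw [mul_smul, ← hc, mul_smul, hg2, hx3']
      · rw [mul_smul, htc, mul_smul, hg1, hx2]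
  apply three_pretransitive_of
  intro x₁ x₂ x₃ y₁ y₂ y₃ hx12 hx13 hx23 hy12 hy13 hy23
  obtain ⟨kx, hkx1, hkx2, hkx3⟩ := hreach x₁ x₂ x₃ hx12 hx13 hx23
  obtain ⟨ky, hky1, hky2, hky3⟩ := hreach y₁ y₂ y₃ hy12 hy13 hy23
  refine ⟨ky * kx⁻¹, ?_, ?_, ?_⟩
  · rw [mul_smul, ← hkx1, inv_smul_smul, hky1]
  · rw [mul_smul, ← hkx2, inv_smul_smul, hky2]
  · rw [mul_smul, ← hkx3, inv_smul_smul, hky3]

end Cfsg.Agent.S0672
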