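import Cfsg.Statements.S0677
import Mathlib
import Cfsg.Agent.Lib.H17.PrimeDegree
import Cfsg.Agent.Lib.H17.PrimeDegreeCoord
import Cfsg.Agent.S0675

set_option autoImplicit false
open Cfsg

namespace Cfsg.Agent.S0677

open Equiv Function
open Cfsg.Agent.Lib.H17.PrimeDegree (psum exists_psum_ne_zero sum_add_pow)

section numbertheory

variable {p : ℕ} [hp : Fact p.Prime]

/-- the double power sum over differences vanishes for a difference set -/
theorem sum_sub_pow_eq_zero (O : Finset (ZMod p)) (lam : ℕ)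
    (hlam : ∀ e : ZMod p, e ≠ 0 → ((O ×ˢ O).filter (fun ab => ab.1 - ab.2 = e)).card = lam)
    (k : ℕ) (hk1 : 1 ≤ k) (hk : k + 1 < p) :
    ∑ ab ∈ O ×ˢ O, (ab.1 - ab.2) ^ k = 0 := by
  classical
  haveI : NeZero p := ⟨hp.out.ne_zero⟩
  rw [← Finset.sum_fiberwise (O ×ˢ O) (fun ab => ab.1 - ab.2) (fun ab => (ab.1 - ab.2) ^ k)]
  have h1 : ∀ e : ZMod p, ∑ ab ∈ (O ×ˢ O).filter (fun ab => ab.1 - ab.2 = e), (ab.1 - ab.2) ^ k
      = (lam : ZMod p) * e ^ k := by
    intro e
    by_cases he : e = 0
    · rw [he, zero_pow (by omega), mul_zero]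
      apply Finset.sum_eq_zero
      intro ab hab
      rw [(Finset.mem_filter.1 hab).2, zero_pow (by omega)]
    · rw [Finset.sum_congr rfl (fun ab hab => by rw [(Finset.mem_filter.1 hab).2]),
        Finset.sum_const, hlam e he, nsmul_eq_mul]
  rw [Finset.sum_congr rfl (fun e _ => h1 e), ← Finset.mul_sum,
    FiniteField.sum_pow_lt_card_sub_one, mul_zero]
  rw [ZMod.card]; omega

theorem sum_sub_eq_sum_add (O : Finset (ZMod p)) (hneg : ∀ a ∈ O, -a ∈ O) (k : ℕ) :
    ∑ ab ∈ O ×ˢ O, (ab.1 - ab.2) ^ k = ∑ a ∈ O, ∑ b ∈ O, (a + b) ^ k := by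
  rw [Finset.sum_product]
  apply Finset.sum_congr rfl
  intro a _
  apply Finset.sum_nbij' (fun b => -b) (fun b => -b)
  · intro b hb; exact hneg b hb
  · intro b hb; exact hneg b hb
  · intro b _; simp
  · intro b _; simp
  · intro b _; simp [sub_eq_add_neg]

theorem double_sum_expand (O : Finset (ZMod p)) (k : ℕ) :
    ∑ a ∈ O, ∑ b ∈ O, (a + b) ^ k
      = ∑ m ∈ Finset.range (k + 1), psum O m * psum O (k - m) * (k.choose m : ZMod p) := by
  rw [Finset.sum_congr rfl (fun a _ => sum_add_pow O a k), Finset.sum_comm]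
  apply Finset.sum_congr rfl
  intro m _
  rw [← Finset.sum_mul, ← Finset.mul_sum]
  rfl

theorem psum_eq_zero_of_diffset (hp2 : p ≠ 2) (O : Finset (ZMod p)) (hne : O.Nonempty)
    (hneg : ∀ a ∈ O, -a ∈ O) (hcard : O.card < p) (lam : ℕ)
    (hlam : ∀ e : ZMod p, e ≠ 0 → ((O ×ˢ O).filter (fun ab => ab.1 - ab.2 = e)).card = lam) :
    ∀ k : ℕ, 1 ≤ k → k + 1 < p → psum O k = 0 := by
  have hpp := hp.out
  have h2O : ((2 * O.card : ℕ) : ZMod p) ≠ 0 := by
    rw [Ne, ZMod.natCast_eq_zero_iff]
    intro hdvd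
    rcases (Nat.Prime.dvd_mul hpp).1 hdvd with h | h
    · have := Nat.le_of_dvd (by norm_num) h
      have := hpp.two_le
      omega
    · have := Nat.le_of_dvd (Finset.card_pos.2 hne) h
      omega
  intro k
  induction k using Nat.strong_induction_on with
  | _ k ih =>
    intro hk1 hk
    have h1 := sum_sub_pow_eq_zero O lam hlam k hk1 hk
    rw [sum_sub_eq_sum_add O hneg, double_sum_expand] at h1
    obtain ⟨k', rfl⟩ : ∃ k', k = k' + 1 := ⟨k - 1, by omega⟩
    rw [Finset.sum_range_succ, Finset.sum_range_succ'] at h1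
    have hmid : ∑ m ∈ Finset.range k', psum O (m + 1) * psum O (k' + 1 - (m + 1)) *
        ((k' + 1).choose (m + 1) : ZMod p) = 0 := by
      apply Finset.sum_eq_zero
      intro m hm
      have hm' := Finset.mem_range.1 hm
      rw [ih (m + 1) (by omega) (by omega) (by omega), zero_mul, zero_mul]
    rw [hmid, zero_add] at h1
    have h0 : psum O 0 = (O.card : ZMod p) := Cfsg.Agent.Lib.H17.PrimeDegree.psum_zero O
    simp only [Nat.sub_zero, Nat.choose_zero_right, Nat.cast_one, mul_one, Nat.sub_self,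
      Nat.choose_self, h0] at h1
    have h3 : ((2 * O.card : ℕ) : ZMod p) * psum O (k' + 1) = 0 := by
      push_cast
      linear_combination h1
    rcases mul_eq_zero.1 h3 with h | h
    · exact absurd h h2O
    · exact h

theorem no_reversible_diffset (hp2 : p ≠ 2) (O : Finset (ZMod p)) (h0 : (0 : ZMod p) ∈ O)
    (hneg : ∀ a ∈ O, -a ∈ O) (hcard : O.card < p) (lam : ℕ)
    (hlam : ∀ e : ZMod p, e ≠ 0 → ((O ×ˢ O).filter (fun ab => ab.1 - ab.2 = e)).card = lam) :
    O = {0} := by
  classical
  have hps := psum_eq_zero_of_diffset hp2 O ⟨0, h0⟩ hneg hcard lam hlam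
  by_contra hO
  have hBne : (O.erase 0).Nonempty := by
    rw [Finset.nonempty_iff_ne_empty]
    intro hB
    apply hO
    ext x
    rw [Finset.mem_singleton]
    constructor
    · intro hx
      by_contra hx0
      have : x ∈ O.erase 0 := Finset.mem_erase.2 ⟨hx0, hx⟩
      rw [hB] at this
      exact absurd this (Finset.notMem_empty x)
    · rintro rfl; exact h0
  obtain ⟨j, hj1, hj2, hj3⟩ := exists_psum_ne_zero (O.erase 0) (Finset.notMem_erase 0 O) hBne
  apply hj3
  have hcardB : (O.erase 0).card = O.card - 1 := Finset.card_erase_of_mem h0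
  have : psum (O.erase 0) j = psum O j := by
    rw [psum, psum]
    exact Finset.sum_erase O (zero_pow (by omega))
  rw [this]
  exact hps j hj1 (by omega)

end numbertheory

section coregroup

variable {p : ℕ} [hp : Fact p.Prime]

open Cfsg.Agent.S0675 (tr tr_apply tr_mem)

theorem tr_pow_apply (c : ZMod p) (n : ℕ) (x : ZMod p) : ((tr c) ^ n) x = x + n * c := by
  induction n generalizing x with
  | zero => simp
  | succ n ih =>
    rw [pow_succ, Perm.mul_apply, ih, tr_apply]
    push_cast; ring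

theorem tr_order (c : ZMod p) (hc : c ≠ 0) : orderOf (tr c) = p := by
  apply orderOf_eq_prime
  · ext x
    rw [tr_pow_apply]
    simp
  · intro h
    have := congrArg (fun f : Perm (ZMod p) => f 0) h
    simp only [tr_apply, zero_add, Perm.coe_one, id_eq] at this
    exact hc this

theorem core_zmod (hp2 : p ≠ 2) (G' H' : Subgroup (Perm (ZMod p))) (hHG : H' ≤ G')
    (hτ : tr (1 : ZMod p) ∈ G') (hcard : Nat.card G' = p * Nat.card H')
    (hpH : ¬ p ∣ Nat.card H') (hs : Equiv.neg (ZMod p) ∈ H') : ∀ h ∈ H', h 0 = 0 := by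
  classical
  haveI : NeZero p := ⟨hp.out.ne_zero⟩
  -- translations in H' are trivial
  have hT : ∀ c : ZMod p, tr c ∈ H' → c = 0 := by
    intro c hc
    by_contra hc0
    apply hpH
    have h := Subgroup.orderOf_dvd_natCard H' hc
    rw [tr_order c hc0] at h
    exact h
  have h2 : (2 : ZMod p) ≠ 0 := by
    intro h
    have h' : ((2 : ℕ) : ZMod p) = 0 := by exact_mod_cast h
    rw [ZMod.natCast_eq_zero_iff] at h'
    have := Nat.le_of_dvd (by norm_num) h'
    have := hp.out.two_le
    omega
  by_cases hA : ∀ σ ∈ G', ∃ a c : ZMod p, ∀ x, σ x = a * x + c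
  · -- affine case
    intro h hh
    obtain ⟨a, b, hab⟩ := hA h (hHG hh)
    have hcomm : h * Equiv.neg (ZMod p) = tr (2 * b) * Equiv.neg (ZMod p) * h := by
      ext x
      simp only [Perm.mul_apply, Equiv.neg_apply, tr_apply, hab]
      ring
    have hmem : tr (2 * b) ∈ H' := by
      have : tr (2 * b) = h * Equiv.neg (ZMod p) * (Equiv.neg (ZMod p) * h)⁻¹ := by
        rw [hcomm]; group
      rw [this]
      exact H'.mul_mem (H'.mul_mem hh hs) (H'.inv_mem (H'.mul_mem hs hh))
    have h3 := hT _ hmem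
    have hb : b = 0 := by
      rcases mul_eq_zero.1 h3 with h | h
      · exact absurd h h2
      · exact h
    rw [hab, hb]; ring
  · -- 2-transitive case
    have h2t : ∀ d₁ d₂ : ZMod p, d₁ ≠ 0 → d₂ ≠ 0 → ∃ g ∈ G', g 0 = 0 ∧ g d₁ = d₂ := by
      rcases Cfsg.Agent.S0675.core_dichotomy G' hτ with h | h
      · exact absurd h hA
      · exact h
    -- orbit of 0
    let O : Finset (ZMod p) := Finset.univ.filter (fun y => ∃ h ∈ H', h 0 = y)
    have hO : ∀ y, y ∈ O ↔ ∃ h ∈ H', h 0 = y := by intro y; simp [O]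
    have h0O : (0 : ZMod p) ∈ O := (hO 0).2 ⟨1, H'.one_mem, rfl⟩
    have hnegO : ∀ a ∈ O, -a ∈ O := by
      intro a ha
      obtain ⟨h, hh, rfl⟩ := (hO a).1 ha
      exact (hO _).2 ⟨Equiv.neg (ZMod p) * h, H'.mul_mem hs hh, rfl⟩
    have hOH : ∀ h ∈ H', ∀ y ∈ O, h y ∈ O := by
      intro h hh y hy
      obtain ⟨h', hh', rfl⟩ := (hO y).1 hy
      exact (hO _).2 ⟨h * h', H'.mul_mem hh hh', rfl⟩
    have hOH' : ∀ h ∈ H', ∀ y, (y ∈ O ↔ h y ∈ O) := by
      intro h hh y
      refine ⟨hOH h hh y, fun hy => ?_⟩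
      have := hOH h⁻¹ (H'.inv_mem hh) _ hy
      rwa [Perm.inv_def, Equiv.symm_apply_apply] at this
    -- |O| < p
    have hcardO : O.card < p := by
      have hle : O.card ≤ p := by
        have := Finset.card_le_univ O
        rwa [ZMod.card] at this
      rcases Nat.lt_or_ge O.card p with h | h
      · exact h
      exfalso
      apply hpH
      have h1 := MulAction.index_stabilizer H' (0 : ZMod p)
      have h3 : MulAction.orbit H' (0 : ZMod p) = (O : Set (ZMod p)) := by
        ext y
        rw [Finset.mem_coe, hO, MulAction.mem_orbit_iff]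
        constructor
        · rintro ⟨h, rfl⟩; exact ⟨h, h.2, rfl⟩
        · rintro ⟨h, hh, rfl⟩; exact ⟨⟨h, hh⟩, rfl⟩
      rw [h3, Set.ncard_coe_finset] at h1
      have h4 : O.card = p := le_antisymm hle h
      have h5 := Subgroup.index_dvd_card (MulAction.stabilizer H' (0 : ZMod p))
      rw [h1, h4] at h5
      exact h5
    -- coset decomposition
    have hdecomp : ∀ g ∈ G', ∃ j : ZMod p, ∃ h ∈ H', g = tr j * h := by
      let φ : ZMod p × H' → G' := fun jh =>
        ⟨tr jh.1 * (jh.2 : Perm (ZMod p)), G'.mul_mem (tr_mem G' hτ _) (hHG jh.2.2)⟩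
      have hinj : Function.Injective φ := by
        rintro ⟨j, h⟩ ⟨j', h'⟩ heq
        have heq' : tr j * (h : Perm (ZMod p)) = tr j' * (h' : Perm (ZMod p)) :=
          congrArg Subtype.val heq
        have h3 : (h' : Perm (ZMod p)) = tr (j - j') * (h : Perm (ZMod p)) := by
          ext x
          have := congrArg (fun f : Perm (ZMod p) => f x) heq'
          simp only [Perm.mul_apply, tr_apply] at this ⊢
          linear_combination -this
        have h4 : tr (j - j') ∈ H' := by
          have : tr (j - j') = (h' : Perm (ZMod p)) * (h : Perm (ZMod p))⁻¹ := by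
            rw [h3]; group
          rw [this]
          exact H'.mul_mem h'.2 (H'.inv_mem h.2)
        have h5 : j = j' := sub_eq_zero.1 (hT _ h4)
        subst h5
        have h6 : (h' : Perm (ZMod p)) = h := by
          rw [h3]
          ext x
          simp
        rw [Subtype.ext h6]
      have hbij : Function.Bijective φ :=
        hinj.bijective_of_nat_card_le (by rw [Nat.card_prod, Nat.card_zmod, hcard])
      intro g hg
      obtain ⟨⟨j, h⟩, hjh⟩ := hbij.2 ⟨g, hg⟩
      exact ⟨j, h, h.2, (congrArg Subtype.val hjh).symm⟩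
    -- counting function
    have hN : ∀ e e' : ZMod p, e ≠ 0 → e' ≠ 0 →
        ((O ×ˢ O).filter (fun ab => ab.1 - ab.2 = e)).card ≤
          ((O ×ˢ O).filter (fun ab => ab.1 - ab.2 = e')).card := by
      intro e e' he he'
      obtain ⟨g, hg, hg0, hge⟩ := h2t e e' he he'
      choose J hJ using fun i => hdecomp _ (G'.mul_mem hg (tr_mem G' hτ i))
      have hkey : ∀ i x : ZMod p, (x - i ∈ O ↔ g x - J i ∈ O) := by
        intro i x
        obtain ⟨h, hh, hgi⟩ := hJ i
        have h3 : g x - J i = h (x - i) := by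
          have := congrArg (fun f : Perm (ZMod p) => f (x - i)) hgi
          simp only [Perm.mul_apply, tr_apply, sub_add_cancel] at this
          rw [this]; ring
        rw [h3]
        exact hOH' h hh _
      have hJinj : Function.Injective J := by
        intro i i' hii
        obtain ⟨h, hh, hgi⟩ := hJ i
        obtain ⟨h', hh', hgi'⟩ := hJ i'
        have h3 : (h' : Perm (ZMod p)) = h * tr (i' - i) := by
          have h4 : g * tr i' = g * tr i * tr (i' - i) := by
            ext x
            simp only [Perm.mul_apply, tr_apply]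
            congr 1; ring
          rw [hgi', hgi, hii, mul_assoc] at h4
          exact mul_left_cancel h4
        have h4 : tr (i' - i) ∈ H' := by
          have : tr (i' - i) = h⁻¹ * h' := by rw [h3]; group
          rw [this]
          exact H'.mul_mem (H'.inv_mem hh) hh'
        exact (sub_eq_zero.1 (hT _ h4)).symm
      apply Finset.card_le_card_of_injOn (fun ab => (e' - J (-ab.2), -J (-ab.2)))
      · intro ab hab
        rw [Finset.mem_coe, Finset.mem_filter, Finset.mem_product] at hab
        obtain ⟨⟨ha, hb⟩, hab'⟩ := hab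
        rw [Finset.mem_coe, Finset.mem_filter, Finset.mem_product]
        refine ⟨⟨?_, ?_⟩, by ring⟩
        · have := (hkey (-ab.2) e).1 (by
            have : e - -ab.2 = ab.1 := by rw [← hab']; ring
            rw [this]; exact ha)
          rwa [hge] at this
        · have := (hkey (-ab.2) 0).1 (by
            have : (0 : ZMod p) - -ab.2 = ab.2 := by ring
            rw [this]; exact hb)
          rw [hg0, zero_sub] at this
          exact this
      · intro ab hab ab' hab' heq
        rw [Finset.mem_coe, Finset.mem_filter] at hab hab'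
        simp only [Prod.mk.injEq, neg_inj] at heq
        have h3 : ab.2 = ab'.2 := neg_injective (hJinj heq.2)
        have h4 : ab.1 = ab'.1 := by
          have e1 := hab.2
          have e2 := hab'.2
          rw [h3] at e1
          have : ab.1 - ab'.2 = ab'.1 - ab'.2 := e1.trans e2.symm
          exact sub_left_injective this
        exact Prod.ext h4 h3
    have hOeq : O = {0} := by
      apply no_reversible_diffset hp2 O h0O hnegO hcardO
        ((O ×ˢ O).filter (fun ab => ab.1 - ab.2 = (1 : ZMod p))).card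
      intro e he
      exact le_antisymm (hN e 1 he one_ne_zero) (hN 1 e one_ne_zero he)
    intro h hh
    have : h 0 ∈ O := (hO _).2 ⟨h, hh, rfl⟩
    rw [hOeq, Finset.mem_singleton] at this
    exact this

end coregroup

open Cfsg.Agent.Lib.H17.PrimeDegreeCoord in
/-- In a transitive permutation group of prime degree `p` whose Sylow `p`-normaliser has even order, the point stabilisers are the only subgroups of index `p`. -/
theorem result {α : Type*} [Fintype α] [DecidableEq α] {p : ℕ} [Fact p.Prime] (hα : Fintype.card α = p) (G : Subgroup (Equiv.Perm α)) [MulAction.IsPretransitive G α] (P : Sylow p G) (heven : Even (Nat.card (Subgroup.normalizer ((P : Subgroup G) : Set G)))) (H : Subgroup G) (hH : H.index = p) : ∃ a : α, H = MulAction.stabilizer G a := by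
  classical
  have hpp : p.Prime := Fact.out
  obtain ⟨m, hm, hpm⟩ := card_eq_p_mul hα G
  have hcardH : Nat.card H = m := by
    have h1 := H.card_mul_index
    rw [hH, hm, mul_comm] at h1
    exact Nat.eq_of_mul_eq_mul_left hpp.pos h1
  have hstab : ∀ a : α, Nat.card (MulAction.stabilizer G a) = m := by
    intro a
    have h1 : (MulAction.stabilizer G a).index = p := by
      rw [MulAction.index_stabilizer_of_transitive, Nat.card_eq_fintype_card, hα]
    have h2 := (MulAction.stabilizer G a).card_mul_index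
    rw [h1, hm, mul_comm] at h2
    exact Nat.eq_of_mul_eq_mul_left hpp.pos h2
  suffices h : ∃ a : α, H ≤ MulAction.stabilizer G a by
    obtain ⟨a, ha⟩ := h
    exact ⟨a, Subgroup.eq_of_le_of_card_ge ha (by rw [hstab, hcardH])⟩
  obtain ⟨a₀⟩ : Nonempty α := by
    have : 0 < Fintype.card α := by rw [hα]; exact hpp.pos
    exact Fintype.card_pos_iff.1 this
  by_cases hp2 : p = 2
  · have hm1 : m = 1 := by
      have h1 : Nat.card G ∣ 2 := by
        have hαc : Nat.card α = 2 := by rw [Nat.card_eq_fintype_card, hα, hp2]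
        have := Subgroup.card_subgroup_dvd_card G
        rwa [Nat.card_perm, hαc, Nat.factorial_two] at this
      rw [hm, hp2] at h1
      have h2 : 2 * m ≤ 2 := Nat.le_of_dvd (by norm_num) h1
      have hm0 : m ≠ 0 := fun h => hpm (h ▸ dvd_zero p)
      omega
    refine ⟨a₀, ?_⟩
    have hbot : H = ⊥ := Subgroup.card_eq_one.1 (hcardH.trans hm1)
    rw [hbot]; exact bot_le
  obtain ⟨t₀, s₀, ht₀, hs₀, n, hn⟩ := exists_normalizing_involution hα G P heven
  -- s₀ fixes a coset of H
  obtain ⟨g, hg⟩ : ∃ g : G, g⁻¹ * s₀ * g ∈ H := by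
    haveI : Fact (Nat.Prime 2) := ⟨Nat.prime_two⟩
    have hZ : IsPGroup 2 (Subgroup.zpowers s₀) := by
      apply IsPGroup.of_card (n := 1)
      rw [Nat.card_zpowers, hs₀, pow_one]
    have hmod := hZ.card_modEq_card_fixedPoints (G ⧸ H)
    have hcq : Nat.card (G ⧸ H) = p := hH
    have hne : Nat.card (MulAction.fixedPoints (Subgroup.zpowers s₀) (G ⧸ H)) ≠ 0 := by
      intro h0
      rw [hcq, h0] at hmod
      have h2 : 2 ∣ p := (Nat.modEq_zero_iff_dvd).1 hmod
      exact hp2 ((Nat.prime_dvd_prime_iff_eq Nat.prime_two hpp).1 h2).symm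
    obtain ⟨⟨x, hx⟩⟩ := (Nat.card_ne_zero.1 hne).1
    obtain ⟨g, rfl⟩ := QuotientGroup.mk_surjective x
    refine ⟨g, ?_⟩
    have h1 := hx ⟨s₀, Subgroup.mem_zpowers s₀⟩
    have h2 : ((s₀ * g : G) : G ⧸ H) = (g : G ⧸ H) := h1
    rw [QuotientGroup.eq] at h2
    have h3 := H.inv_mem h2
    have h4 : ((s₀ * g)⁻¹ * g)⁻¹ = g⁻¹ * s₀ * g := by group
    rwa [h4] at h3
  have ht₁ : orderOf ((g⁻¹ * t₀ * g : G) : Perm α) = p := by
    rw [Subgroup.orderOf_coe]
    have h1 := (MulAut.conj g⁻¹).orderOf_eq t₀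
    rw [MulAut.conj_apply, inv_inv] at h1
    rw [h1]; exact ht₀
  have hs₁ : orderOf ((g⁻¹ * s₀ * g : G) : Perm α) = 2 := by
    rw [Subgroup.orderOf_coe]
    have h1 := (MulAut.conj g⁻¹).orderOf_eq s₀
    rw [MulAut.conj_apply, inv_inv] at h1
    rw [h1]; exact hs₀
  have hn₁ : (g⁻¹ * s₀ * g) * (g⁻¹ * t₀ * g) * (g⁻¹ * s₀ * g)⁻¹ = (g⁻¹ * t₀ * g) ^ n := by
    have h1 : (g⁻¹ * s₀ * g) * (g⁻¹ * t₀ * g) * (g⁻¹ * s₀ * g)⁻¹
        = g⁻¹ * (s₀ * t₀ * s₀⁻¹) * g := by group
    have h2 := conj_pow (a := g⁻¹) (b := t₀) (i := n)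
    rw [inv_inv] at h2
    rw [h1, hn, h2]
  obtain ⟨e, het, hes⟩ := exists_coord_neg hp2 hα ((g⁻¹ * t₀ * g : G) : Perm α)
    ((g⁻¹ * s₀ * g : G) : Perm α) ht₁ hs₁ n (by
      have := congrArg (Subtype.val : G → Perm α) hn₁
      simpa using this)
  -- transport
  let f : Perm α →* Perm (ZMod p) := (e.symm.permCongrHom : Perm α ≃* Perm (ZMod p)).toMonoidHom
  have hf : Function.Injective f := (e.symm.permCongrHom).injective
  have hfapp : ∀ (σ : Perm α) x, f σ x = e.symm (σ (e x)) := fun σ x => rfl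
  have hτ : Cfsg.Agent.S0675.tr (1 : ZMod p) ∈ G.map f := by
    refine ⟨((g⁻¹ * t₀ * g : G) : Perm α), (g⁻¹ * t₀ * g : G).2, ?_⟩
    ext x
    rw [hfapp, het, e.symm_apply_apply, Cfsg.Agent.S0675.tr_apply]
  have hsmem : Equiv.neg (ZMod p) ∈ (H.map G.subtype).map f := by
    refine ⟨((g⁻¹ * s₀ * g : G) : Perm α), ⟨_, hg, rfl⟩, ?_⟩
    ext x
    rw [hfapp, hes, e.symm_apply_apply, Equiv.neg_apply]
  have hcG : Nat.card (G.map f) = Nat.card G := Subgroup.card_map_of_injective hf
  have hcH : Nat.card ((H.map G.subtype).map f) = Nat.card H := by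
    rw [Subgroup.card_map_of_injective hf,
      Subgroup.card_map_of_injective (Subgroup.subtype_injective G)]
  have key := core_zmod hp2 (G.map f) ((H.map G.subtype).map f)
    (Subgroup.map_mono (Subgroup.map_subtype_le H)) hτ (by rw [hcG, hcH, hm, hcardH])
    (by rw [hcH, hcardH]; exact hpm) hsmem
  refine ⟨e 0, ?_⟩
  intro h hh
  rw [MulAction.mem_stabilizer_iff]
  have h1 := key (f h) ⟨h, ⟨h, hh, rfl⟩, rfl⟩
  rw [hfapp] at h1
  show (h : Perm α) (e 0) = e 0
  rw [← e.symm_apply_eq]
  exact h1.symm ▸ rfl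

end Cfsg.Agent.S0677
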