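import Cfsg.Statements.S0678
import Mathlib
import Cfsg.Agent.Lib.H4.Deg7.Order

set_option autoImplicit false
open Cfsg

namespace Cfsg.Agent.S0678

open Equiv MulAction Cfsg.Agent.Lib.H4.Deg7 in
/-- A non-solvable transitive permutation group on 7 points that does not contain the alternating group is a simple group of order 168. -/
theorem result {α : Type*} [Fintype α] [DecidableEq α] (hα : Fintype.card α = 7) (G : Subgroup (Equiv.Perm α)) [MulAction.IsPretransitive G α] (hG : ¬ Group.IsSolvable G) (hA : ¬ alternatingGroup α ≤ G) : Nat.card G = 168 ∧ IsSimpleGroup G := by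
  classical
  have hcard := card_eq_168 hα G hG hA
  refine ⟨hcard, ?_⟩
  have hα' : (Fintype.card α).Prime := by rw [hα]; norm_num
  have h2 : IsMultiplyPretransitive G α 2 := (Cfsg.Agent.S0675.result hα' G).resolve_left hG
  have hprim : IsPreprimitive G α := isPreprimitive_of_is_two_pretransitive h2
  haveI : Nontrivial G := by
    rw [← Finite.one_lt_card_iff_nontrivial, hcard]; norm_num
  refine ⟨fun K hKn => ?_⟩
  by_cases hK : K = ⊥
  · exact Or.inl hK
  right
  haveI := hKn
  haveI hKt : IsPretransitive K α := isPretransitive_of_normal G hprim K hK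
  haveI : Nonempty α := by
    rw [← Fintype.card_pos_iff, hα]; norm_num
  have h7 : 7 ∣ Nat.card K := by
    have := card_dvd_of_transitive K (X := α)
    rwa [Nat.card_eq_fintype_card, hα] at this
  have hq := Subgroup.card_eq_card_quotient_mul_card_subgroup K
  rw [hcard] at hq
  -- the quotient has order dividing 24
  have hq24 : Nat.card (G ⧸ K) ∣ 2 ^ 3 * 3 ^ 1 := by
    obtain ⟨m, hm⟩ := h7
    rw [hm] at hq
    have h24 : 24 = Nat.card (G ⧸ K) * m := by
      have : 7 * 24 = 7 * (Nat.card (G ⧸ K) * m) := by
        have e : (7 : ℕ) * 24 = 168 := by norm_num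
        rw [e, hq]; ring
      exact Nat.eq_of_mul_eq_mul_left (by norm_num) this
    exact ⟨m, by rw [← h24]; norm_num⟩
  obtain ⟨a', b', hab'⟩ := Cfsg.Agent.Lib.H23.exists_eq_pow_mul_pow_of_dvd Nat.prime_two
    Nat.prime_three hq24
  have hqs : Group.IsSolvable (G ⧸ K) := isSolvable_of_card_two_three a' b' hab'
  have hKns : ¬ Group.IsSolvable (img G K) := by
    intro hs
    exact hG (isSolvable_of_normal K (isSolvable_of_img G K hs) hqs)
  haveI := isPretransitive_img G K hKt
  have hKA : ¬ alternatingGroup α ≤ img G K := fun h => hA (h.trans (img_le G K))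
  have h168 := card_eq_168 hα (img G K) hKns hKA
  rw [card_img] at h168
  apply Subgroup.eq_top_of_card_eq
  rw [h168, hcard]

end Cfsg.Agent.S0678
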