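import Cfsg.Statements.S0679
import Cfsg.Agent.Lib.H27.D11Main

set_option autoImplicit false
open Cfsg

namespace Cfsg.Agent.S0679

open Equiv MulAction Cfsg.Agent.Lib.H27.D11

/-- a permutation of order `11` on `11` points is conjugate, after relabelling, to `x ↦ x + 1` -/
theorem exists_equiv_c0 {α : Type*} [Fintype α] [DecidableEq α] (hα : Fintype.card α = 11)
    (z : Perm α) (hz : orderOf z = 11) : ∃ e : α ≃ Fin 11, e.permCongr z = c0 := by
  let e0 : α ≃ Fin 11 := Fintype.equivFinOfCardEq hα
  have hz' : orderOf (e0.permCongr z) = 11 := by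
    have := MulEquiv.orderOf_eq e0.permCongrHom z
    rw [Equiv.permCongrHom_coe] at this
    rw [this, hz]
  have hct : ∀ σ : Perm (Fin 11), orderOf σ = 11 → σ.cycleType = {11} := by
    intro σ hσ
    have hcyc : σ.IsCycle := Perm.isCycle_of_prime_order' (by rw [hσ]; norm_num)
      (by rw [hσ, Fintype.card_fin]; norm_num)
    rw [hcyc.cycleType, ← hcyc.orderOf, hσ]
  have hconj : IsConj (e0.permCongr z) c0 :=
    Perm.isConj_iff_cycleType_eq.mpr (by rw [hct _ hz', hct c0 orderOf_c0])
  obtain ⟨π, hπ⟩ := isConj_iff.mp hconj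
  refine ⟨e0.trans π, ?_⟩
  rw [← hπ]
  ext i
  simp [Equiv.permCongr_apply]

/-- A non-solvable transitive permutation group on 11 points that does not contain the alternating group is either sharply 4-transitive (of order 7920) or isomorphic to the projective special linear group of degree 2 over the field with 11 elements. -/
theorem result {α : Type*} [Fintype α] [DecidableEq α] (hα : Fintype.card α = 11) (G : Subgroup (Equiv.Perm α)) [MulAction.IsPretransitive G α] (hG : ¬ Group.IsSolvable G) (hA : ¬ alternatingGroup α ≤ G) : (MulAction.IsMultiplyPretransitive G α 4 ∧ ∀ x : Fin 4 ↪ α, MulAction.stabilizer G x = ⊥) ∨ Nonempty (G ≃* Matrix.ProjectiveSpecialLinearGroup (Fin 2) (ZMod 11)) := by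
  have : Fact (Nat.Prime 11) := ⟨by norm_num⟩
  obtain ⟨a0⟩ : Nonempty α := by
    rw [← Fintype.card_pos_iff, hα]; norm_num
  have h11 : 11 ∣ Nat.card G := by
    rw [← Subgroup.index_mul_card (stabilizer G a0), index_stabilizer_of_transitive G a0,
      Nat.card_eq_fintype_card, hα]
    exact dvd_mul_right _ _
  obtain ⟨z, hz⟩ := exists_prime_orderOf_dvd_card' 11 h11
  have hzo : orderOf (z : Perm α) = 11 := by rw [Subgroup.orderOf_coe]; exact hz
  obtain ⟨e, he⟩ := exists_equiv_c0 hα (z : Perm α) hzo
  let ψ : Perm α ≃* Perm (Fin 11) := e.permCongrHom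
  have hψ : ∀ (σ : Perm α) (a : α), ψ σ (e a) = e (σ a) := by
    intro σ a
    simp [ψ, Equiv.permCongrHom_coe, Equiv.permCongr_apply]
  let G' : Subgroup (Perm (Fin 11)) := G.map ψ.toMonoidHom
  let φ : G ≃* G' := ψ.subgroupMap G
  have hφ : ∀ g : G, ((φ g : G') : Perm (Fin 11)) = ψ g := fun g => rfl
  have hc : c0 ∈ G' := ⟨z, z.2, by rw [← he]; rfl⟩
  have hns : ¬ Group.IsSolvable G' := fun h =>
    hG (Group.isSolvable_of_isSolvable_injective (f := φ.toMonoidHom) φ.injective)
  have hA' : ¬ alternatingGroup (Fin 11) ≤ G' := by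
    intro hle
    apply hA
    intro σ hσ
    have hmem : ψ σ ∈ G' := hle (by
      rw [Perm.mem_alternatingGroup, ← Perm.mem_alternatingGroup.mp hσ]
      exact Perm.sign_permCongr e σ)
    obtain ⟨τ, hτ, hτσ⟩ := hmem
    have : τ = σ := ψ.injective hτσ
    exact this ▸ hτ
  rcases main_fin G' hc hns hA' with ⟨h4, hfree⟩ | ⟨⟨f⟩⟩
  · left
    constructor
    · refine ⟨fun x y => ?_⟩
      have h4' : IsPretransitive G' (Fin 4 ↪ Fin 11) := h4
      obtain ⟨g', hg'⟩ := h4'.exists_smul_eq (x.trans e.toEmbedding) (y.trans e.toEmbedding)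
      refine ⟨φ.symm g', ?_⟩
      refine Function.Embedding.ext (fun i => ?_)
      apply e.injective
      have h1 := congrArg (fun t : Fin 4 ↪ Fin 11 => t i) hg'
      have h2 : (g' : Perm (Fin 11)) (e (x i)) = e (y i) := h1
      have h3 : ((φ (φ.symm g') : G') : Perm (Fin 11)) (e (x i)) = e (((φ.symm g' : G) : Perm α) (x i)) := by
        rw [hφ, hψ]
      rw [MulEquiv.apply_symm_apply] at h3
      show e (((φ.symm g' : G) : Perm α) (x i)) = e (y i)
      rw [← h3, h2]
    · intro x
      rw [Subgroup.eq_bot_iff_forall]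
      intro g hg
      have hmem : φ g ∈ stabilizer G' (x.trans e.toEmbedding) := by
        rw [mem_stabilizer_iff]
        refine Function.Embedding.ext (fun i => ?_)
        show ((φ g : G') : Perm (Fin 11)) (e (x i)) = e (x i)
        rw [hφ, hψ]
        congr 1
        have := congrArg (fun t : Fin 4 ↪ α => t i) (mem_stabilizer_iff.mp hg)
        exact this
      rw [hfree, Subgroup.mem_bot] at hmem
      exact φ.injective (hmem.trans (map_one φ).symm)
  · right
    exact ⟨φ.trans f⟩

end Cfsg.Agent.S0679
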