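import Cfsg.Statements.S0691
import Cfsg.Agent.Lib.H29.Mat2

set_option autoImplicit false
open Cfsg

namespace Cfsg.Agent.S0691

open Cfsg.Agent.Lib.H29.Mat2

/-- the elements of the group, in breadth-first order -/
def L : List (M2 5) :=
  [⟨1, 0, 0, 1⟩, ⟨2, 0, 0, 3⟩, ⟨0, 4, 1, 0⟩, ⟨1, 2, 1, 3⟩, ⟨4, 0, 0, 4⟩, ⟨0, 3, 3, 0⟩,
    ⟨2, 4, 3, 4⟩, ⟨0, 2, 2, 0⟩, ⟨4, 2, 1, 2⟩, ⟨2, 1, 2, 4⟩, ⟨3, 3, 4, 1⟩, ⟨3, 0, 0, 2⟩,
    ⟨0, 1, 4, 0⟩, ⟨4, 3, 4, 2⟩, ⟨3, 4, 3, 1⟩, ⟨1, 1, 2, 3⟩, ⟨3, 1, 2, 1⟩, ⟨1, 4, 3, 3⟩,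
    ⟨1, 3, 4, 3⟩, ⟨3, 2, 1, 1⟩, ⟨2, 2, 1, 4⟩, ⟨2, 3, 4, 4⟩, ⟨4, 4, 3, 2⟩, ⟨4, 1, 2, 2⟩]

/-- the generators and their inverses -/
def gens : List (M2 5) := [⟨2, 0, 0, 3⟩, ⟨0, 4, 1, 0⟩, ⟨1, 2, 1, 3⟩, ⟨3, 0, 0, 2⟩, ⟨0, 1, 4, 0⟩, ⟨3, 3, 4, 1⟩]

def mA : M2 5 := ⟨2, 0, 0, 3⟩
def mA' : M2 5 := ⟨3, 0, 0, 2⟩
theorem mA_mem : mA ∈ gens := by decide
theorem mA'_mem : mA' ∈ gens := by decide
theorem mA_inv : mA.mul mA' = M2.one := by decide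

def mB : M2 5 := ⟨0, 4, 1, 0⟩
def mB' : M2 5 := ⟨0, 1, 4, 0⟩
theorem mB_mem : mB ∈ gens := by decide
theorem mB'_mem : mB' ∈ gens := by decide
theorem mB_inv : mB.mul mB' = M2.one := by decide

def mC : M2 5 := ⟨1, 2, 1, 3⟩
def mC' : M2 5 := ⟨3, 3, 4, 1⟩
theorem mC_mem : mC ∈ gens := by decide
theorem mC'_mem : mC' ∈ gens := by decide
theorem mC_inv : mC.mul mC' = M2.one := by decide

theorem hone : M2.one ∈ L := by decide

theorem hlen : L.length = 5 ^ 2 - 1 := by decide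

set_option maxRecDepth 1000000 in
theorem hmul : ∀ s ∈ L, ∀ m ∈ gens, s.mul m ∈ L := by decide +kernel

set_option maxRecDepth 1000000 in
theorem hbfs : ∀ i : Fin L.length, L.get i = M2.one ∨
    ∃ j : Fin L.length, j < i ∧ ∃ m ∈ gens, L.get i = (L.get j).mul m := by decide +kernel

set_option maxRecDepth 1000000 in
theorem hnd : L.Nodup := by decide +kernel

set_option maxRecDepth 1000000 in
theorem hfree : ∀ s ∈ L, s ≠ M2.one → s.det1 ≠ 0 := by decide +kernel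

/-- An exceptional sharply doubly transitive group of degree 5^2: the listed matrices generate a subgroup of GL(2,5) of order 24 acting regularly on the non-zero vectors. -/
theorem result (A : Matrix.GeneralLinearGroup (Fin 2) (ZMod 5)) (B : Matrix.GeneralLinearGroup (Fin 2) (ZMod 5)) (C : Matrix.GeneralLinearGroup (Fin 2) (ZMod 5)) (hA : (A : Matrix (Fin 2) (Fin 2) (ZMod 5)) = !![2, 0; 0, -2]) (hB : (B : Matrix (Fin 2) (Fin 2) (ZMod 5)) = !![0, -1; 1, 0]) (hC : (C : Matrix (Fin 2) (Fin 2) (ZMod 5)) = !![1, 2; 1, -2]) : Nat.card (Subgroup.closure ({A, B, C} : Set (Matrix.GeneralLinearGroup (Fin 2) (ZMod 5)))) = 24 ∧ ∀ v w : Fin 2 → ZMod 5, v ≠ 0 → w ≠ 0 → ∃! h : Subgroup.closure ({A, B, C} : Set (Matrix.GeneralLinearGroup (Fin 2) (ZMod 5))), Matrix.mulVec ((h : Matrix.GeneralLinearGroup (Fin 2) (ZMod 5)) : Matrix (Fin 2) (Fin 2) (ZMod 5)) v = w := by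
  have : Fact (Nat.Prime 5) := ⟨by norm_num⟩
  have key := main (p := 5) ({A, B, C} : Set (GL2 5)) L gens hone ?_ ?_ hmul hbfs hnd hlen hfree
  · exact key
  · intro g hg
    simp only [Set.mem_insert_iff, Set.mem_singleton_iff] at hg
    rcases hg with rfl | rfl | rfl
    · exact ⟨mA, mA_mem, mA', mA'_mem, by rw [hA]; rfl, mA_inv⟩
    · exact ⟨mB, mB_mem, mB', mB'_mem, by rw [hB]; rfl, mB_inv⟩
    · exact ⟨mC, mC_mem, mC', mC'_mem, by rw [hC]; rfl, mC_inv⟩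
  · intro m hm
    simp only [gens, List.mem_cons, List.not_mem_nil, or_false] at hm
    rcases hm with rfl | rfl | rfl | rfl | rfl | rfl
    · exact ⟨A, Subgroup.subset_closure (by simp), by rw [hA]; rfl⟩
    · exact ⟨B, Subgroup.subset_closure (by simp), by rw [hB]; rfl⟩
    · exact ⟨C, Subgroup.subset_closure (by simp), by rw [hC]; rfl⟩
    · exact ⟨A⁻¹, Subgroup.inv_mem _ (Subgroup.subset_closure (by simp)),
        inv_val_eq A mA mA' (by rw [hA]; rfl) mA_inv⟩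
    · exact ⟨B⁻¹, Subgroup.inv_mem _ (Subgroup.subset_closure (by simp)),
        inv_val_eq B mB mB' (by rw [hB]; rfl) mB_inv⟩
    · exact ⟨C⁻¹, Subgroup.inv_mem _ (Subgroup.subset_closure (by simp)),
        inv_val_eq C mC mC' (by rw [hC]; rfl) mC_inv⟩

end Cfsg.Agent.S0691
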