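import Cfsg.Statements.S0692
import Cfsg.Agent.Lib.H29.Mat2

set_option autoImplicit false
open Cfsg

namespace Cfsg.Agent.S0692

open Cfsg.Agent.Lib.H29.Mat2

/-- the elements of the group, in breadth-first order -/
def L : List (M2 11) :=
  [⟨1, 0, 0, 1⟩, ⟨0, 10, 1, 0⟩, ⟨2, 4, 1, 8⟩, ⟨10, 0, 0, 10⟩, ⟨10, 3, 2, 4⟩, ⟨4, 9, 8, 10⟩,
    ⟨8, 7, 10, 2⟩, ⟨0, 1, 10, 0⟩, ⟨9, 7, 10, 3⟩, ⟨3, 1, 4, 9⟩, ⟨1, 9, 8, 7⟩, ⟨6, 0, 4, 2⟩,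
    ⟨7, 3, 2, 1⟩, ⟨1, 8, 9, 7⟩, ⟨7, 2, 3, 1⟩, ⟨3, 4, 1, 9⟩, ⟨7, 9, 6, 0⟩, ⟨9, 10, 7, 3⟩,
    ⟨0, 5, 2, 7⟩, ⟨1, 2, 10, 10⟩, ⟨6, 8, 5, 5⟩, ⟨8, 10, 7, 2⟩, ⟨10, 2, 3, 4⟩, ⟨5, 0, 7, 9⟩,
    ⟨4, 8, 9, 10⟩, ⟨9, 4, 0, 5⟩, ⟨1, 1, 1, 2⟩, ⟨6, 6, 6, 8⟩, ⟨5, 7, 0, 9⟩, ⟨2, 10, 10, 1⟩,
    ⟨8, 5, 5, 6⟩, ⟨9, 0, 4, 5⟩, ⟨4, 2, 5, 0⟩, ⟨2, 1, 4, 8⟩, ⟨0, 6, 9, 4⟩, ⟨10, 9, 1, 1⟩,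
    ⟨5, 3, 6, 6⟩, ⟨0, 2, 5, 7⟩, ⟨1, 10, 2, 10⟩, ⟨6, 5, 8, 5⟩, ⟨7, 6, 9, 0⟩, ⟨6, 10, 9, 6⟩,
    ⟨3, 0, 10, 4⟩, ⟨10, 6, 5, 2⟩, ⟨2, 7, 0, 6⟩, ⟨10, 10, 10, 9⟩, ⟨5, 5, 5, 3⟩, ⟨6, 4, 0, 2⟩,
    ⟨9, 1, 1, 10⟩, ⟨3, 6, 6, 5⟩, ⟨2, 0, 7, 6⟩, ⟨2, 5, 6, 10⟩, ⟨1, 7, 3, 0⟩, ⟨6, 9, 10, 6⟩,
    ⟨10, 5, 6, 2⟩, ⟨0, 8, 4, 1⟩, ⟨6, 1, 2, 6⟩, ⟨4, 0, 1, 3⟩, ⟨0, 9, 6, 4⟩, ⟨10, 1, 9, 1⟩,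
    ⟨5, 6, 3, 6⟩, ⟨4, 5, 2, 0⟩, ⟨5, 1, 2, 5⟩, ⟨8, 0, 1, 7⟩, ⟨1, 5, 6, 9⟩, ⟨5, 9, 10, 5⟩,
    ⟨7, 10, 0, 8⟩, ⟨9, 5, 6, 1⟩, ⟨10, 8, 4, 0⟩, ⟨3, 3, 3, 7⟩, ⟨8, 9, 9, 2⟩, ⟨0, 7, 3, 10⟩,
    ⟨9, 6, 5, 1⟩, ⟨10, 4, 8, 0⟩, ⟨5, 2, 1, 5⟩, ⟨1, 6, 5, 9⟩, ⟨0, 3, 7, 10⟩, ⟨5, 10, 9, 5⟩,
    ⟨7, 0, 10, 8⟩, ⟨8, 4, 3, 3⟩, ⟨2, 9, 8, 9⟩, ⟨8, 1, 0, 7⟩, ⟨3, 8, 7, 8⟩, ⟨9, 3, 2, 2⟩,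
    ⟨3, 5, 9, 8⟩, ⟨7, 1, 5, 4⟩, ⟨6, 2, 1, 6⟩, ⟨4, 1, 0, 3⟩, ⟨2, 6, 5, 10⟩, ⟨1, 3, 7, 0⟩,
    ⟨8, 8, 8, 4⟩, ⟨3, 2, 2, 9⟩, ⟨0, 4, 8, 1⟩, ⟨4, 3, 3, 8⟩, ⟨9, 9, 9, 3⟩, ⟨2, 3, 3, 5⟩,
    ⟨6, 7, 7, 1⟩, ⟨3, 10, 0, 4⟩, ⟨5, 8, 8, 2⟩, ⟨1, 4, 4, 6⟩, ⟨3, 7, 8, 8⟩, ⟨9, 2, 3, 2⟩,
    ⟨8, 3, 4, 3⟩, ⟨2, 8, 9, 9⟩, ⟨8, 6, 2, 3⟩, ⟨4, 10, 6, 7⟩, ⟨3, 9, 5, 8⟩, ⟨7, 5, 1, 4⟩,
    ⟨5, 4, 4, 10⟩, ⟨7, 7, 7, 4⟩, ⟨6, 3, 3, 9⟩, ⟨7, 8, 8, 3⟩, ⟨2, 2, 2, 8⟩, ⟨9, 8, 8, 6⟩,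
    ⟨10, 7, 7, 5⟩, ⟨4, 7, 7, 7⟩, ⟨8, 2, 6, 3⟩, ⟨4, 6, 10, 7⟩, ⟨7, 4, 4, 4⟩, ⟨4, 4, 4, 7⟩]

/-- the generators and their inverses -/
def gens : List (M2 11) := [⟨0, 10, 1, 0⟩, ⟨2, 4, 1, 8⟩, ⟨0, 1, 10, 0⟩, ⟨8, 7, 10, 2⟩]

def mA : M2 11 := ⟨0, 10, 1, 0⟩
def mA' : M2 11 := ⟨0, 1, 10, 0⟩
theorem mA_mem : mA ∈ gens := by decide
theorem mA'_mem : mA' ∈ gens := by decide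
theorem mA_inv : mA.mul mA' = M2.one := by decide

def mB : M2 11 := ⟨2, 4, 1, 8⟩
def mB' : M2 11 := ⟨8, 7, 10, 2⟩
theorem mB_mem : mB ∈ gens := by decide
theorem mB'_mem : mB' ∈ gens := by decide
theorem mB_inv : mB.mul mB' = M2.one := by decide

theorem hone : M2.one ∈ L := by decide

theorem hlen : L.length = 11 ^ 2 - 1 := by decide

set_option maxRecDepth 1000000 in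
theorem hmul : ∀ s ∈ L, ∀ m ∈ gens, s.mul m ∈ L := by decide +kernel

set_option maxRecDepth 1000000 in
theorem hbfs : ∀ i : Fin L.length, L.get i = M2.one ∨
    ∃ j : Fin L.length, j < i ∧ ∃ m ∈ gens, L.get i = (L.get j).mul m := by decide +kernel

set_option maxRecDepth 1000000 in
theorem hnd : L.Nodup := by decide +kernel

set_option maxRecDepth 1000000 in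
theorem hfree : ∀ s ∈ L, s ≠ M2.one → s.det1 ≠ 0 := by decide +kernel

/-- An exceptional sharply doubly transitive group of degree 11^2: the listed matrices generate a subgroup of GL(2,11) of order 120 acting regularly on the non-zero vectors. -/
theorem result (A : Matrix.GeneralLinearGroup (Fin 2) (ZMod 11)) (B : Matrix.GeneralLinearGroup (Fin 2) (ZMod 11)) (hA : (A : Matrix (Fin 2) (Fin 2) (ZMod 11)) = !![0, -1; 1, 0]) (hB : (B : Matrix (Fin 2) (Fin 2) (ZMod 11)) = !![2, 4; 1, -3]) : Nat.card (Subgroup.closure ({A, B} : Set (Matrix.GeneralLinearGroup (Fin 2) (ZMod 11)))) = 120 ∧ ∀ v w : Fin 2 → ZMod 11, v ≠ 0 → w ≠ 0 → ∃! h : Subgroup.closure ({A, B} : Set (Matrix.GeneralLinearGroup (Fin 2) (ZMod 11))),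 Matrix.mulVec ((h : Matrix.GeneralLinearGroup (Fin 2) (ZMod 11)) : Matrix (Fin 2) (Fin 2) (ZMod 11)) v = w := by
  have : Fact (Nat.Prime 11) := ⟨by norm_num⟩
  have key := main (p := 11) ({A, B} : Set (GL2 11)) L gens hone ?_ ?_ hmul hbfs hnd hlen hfree
  · exact key
  · intro g hg
    simp only [Set.mem_insert_iff, Set.mem_singleton_iff] at hg
    rcases hg with rfl | rfl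
    · exact ⟨mA, mA_mem, mA', mA'_mem, by rw [hA]; rfl, mA_inv⟩
    · exact ⟨mB, mB_mem, mB', mB'_mem, by rw [hB]; rfl, mB_inv⟩
  · intro m hm
    simp only [gens, List.mem_cons, List.not_mem_nil, or_false] at hm
    rcases hm with rfl | rfl | rfl | rfl
    · exact ⟨A, Subgroup.subset_closure (by simp), by rw [hA]; rfl⟩
    · exact ⟨B, Subgroup.subset_closure (by simp), by rw [hB]; rfl⟩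
    · exact ⟨A⁻¹, Subgroup.inv_mem _ (Subgroup.subset_closure (by simp)),
        inv_val_eq A mA mA' (by rw [hA]; rfl) mA_inv⟩
    · exact ⟨B⁻¹, Subgroup.inv_mem _ (Subgroup.subset_closure (by simp)),
        inv_val_eq B mB mB' (by rw [hB]; rfl) mB_inv⟩

end Cfsg.Agent.S0692
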