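import Cfsg.Statements.S0693
import Cfsg.Agent.Lib.H29.Mat2

set_option autoImplicit false
open Cfsg

namespace Cfsg.Agent.S0693

open Cfsg.Agent.Lib.H29.Mat2

/-- the elements of the subgroup generated by `A, B` (isomorphic to `SL₂(5)`), breadth-first -/
def L : List (M2 59) :=
  [⟨1, 0, 0, 1⟩, ⟨0, 58, 1, 0⟩, ⟨9, 15, 49, 49⟩, ⟨58, 0, 0, 58⟩, ⟨10, 10, 9, 15⟩, ⟨15, 50, 49, 10⟩,
    ⟨49, 44, 10, 9⟩, ⟨0, 1, 58, 0⟩, ⟨50, 44, 10, 10⟩, ⟨10, 49, 15, 50⟩, ⟨49, 50, 49, 44⟩, ⟨48, 20, 46, 45⟩,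
    ⟨44, 10, 9, 49⟩, ⟨49, 49, 50, 44⟩, ⟨44, 9, 10, 49⟩, ⟨10, 15, 49, 50⟩, ⟨13, 14, 48, 20⟩, ⟨50, 10, 44, 10⟩,
    ⟨20, 11, 45, 13⟩, ⟨55, 48, 23, 4⟩, ⟨1, 29, 4, 58⟩, ⟨49, 10, 44, 9⟩, ⟨10, 9, 10, 15⟩, ⟨11, 39, 13, 14⟩,
    ⟨15, 49, 50, 10⟩, ⟨14, 46, 20, 11⟩, ⟨36, 55, 55, 48⟩, ⟨55, 1, 1, 29⟩, ⟨11, 13, 39, 14⟩, ⟨48, 4, 4, 36⟩,
    ⟨29, 58, 58, 55⟩, ⟨14, 20, 46, 11⟩, ⟨46, 45, 11, 39⟩, ⟨9, 49, 15, 49⟩, ⟨39, 48, 14, 46⟩, ⟨4, 11, 36, 55⟩,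
    ⟨58, 30, 55, 1⟩, ⟨20, 45, 11, 13⟩, ⟨55, 23, 48, 4⟩, ⟨1, 4, 29, 58⟩, ⟨13, 48, 14, 20⟩, ⟨28, 35, 34, 32⟩,
    ⟨38, 31, 30, 54⟩, ⟨35, 32, 31, 25⟩, ⟨45, 13, 39, 48⟩, ⟨23, 4, 4, 11⟩, ⟨4, 58, 58, 30⟩, ⟨48, 46, 20, 45⟩,
    ⟨11, 55, 55, 23⟩, ⟨30, 1, 1, 4⟩, ⟨45, 39, 13, 48⟩, ⟨25, 27, 28, 35⟩, ⟨29, 5, 38, 31⟩, ⟨28, 34, 35, 32⟩,
    ⟨35, 31, 32, 25⟩, ⟨31, 21, 54, 29⟩, ⟨32, 24, 25, 28⟩, ⟨54, 28, 29, 38⟩, ⟨39, 14, 48, 46⟩, ⟨4, 36, 11, 55⟩,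
    ⟨58, 55, 30, 1⟩, ⟨46, 11, 45, 39⟩, ⟨31, 24, 25, 27⟩, ⟨21, 28, 29, 5⟩, ⟨24, 27, 28, 34⟩, ⟨27, 34, 35, 31⟩,
    ⟨5, 30, 31, 21⟩, ⟨34, 31, 32, 24⟩, ⟨30, 21, 54, 28⟩, ⟨5, 38, 38, 53⟩, ⟨10, 19, 19, 48⟩, ⟨28, 5, 38, 30⟩,
    ⟨34, 32, 31, 24⟩, ⟨30, 54, 21, 28⟩, ⟨31, 25, 24, 27⟩, ⟨24, 28, 27, 34⟩, ⟨28, 38, 5, 30⟩, ⟨27, 35, 34, 31⟩,
    ⟨5, 31, 30, 21⟩, ⟨21, 6, 5, 38⟩, ⟨40, 11, 10, 19⟩, ⟨21, 29, 28, 5⟩, ⟨38, 54, 53, 21⟩, ⟨19, 49, 48, 40⟩,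
    ⟨18, 19, 45, 41⟩, ⟨25, 16, 42, 34⟩, ⟨32, 25, 24, 28⟩, ⟨54, 29, 28, 38⟩, ⟨25, 28, 27, 35⟩, ⟨29, 38, 5, 31⟩,
    ⟨54, 21, 21, 6⟩, ⟨49, 40, 40, 11⟩, ⟨31, 54, 21, 29⟩, ⟨6, 38, 38, 54⟩, ⟨11, 19, 19, 49⟩, ⟨14, 18, 18, 19⟩,
    ⟨17, 25, 25, 16⟩, ⟨38, 30, 31, 54⟩, ⟨19, 41, 41, 14⟩, ⟨16, 34, 34, 17⟩, ⟨38, 53, 54, 21⟩, ⟨19, 48, 49, 40⟩,
    ⟨21, 5, 6, 38⟩, ⟨40, 10, 11, 19⟩, ⟨41, 40, 14, 18⟩, ⟨34, 43, 17, 25⟩, ⟨18, 45, 19, 41⟩, ⟨25, 42, 16, 34⟩,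
    ⟨42, 34, 34, 43⟩, ⟨56, 52, 52, 3⟩, ⟨40, 18, 18, 45⟩, ⟨53, 21, 21, 5⟩, ⟨48, 40, 40, 10⟩, ⟨45, 41, 41, 40⟩,
    ⟨43, 25, 25, 42⟩, ⟨7, 56, 56, 52⟩, ⟨41, 14, 40, 18⟩, ⟨34, 17, 43, 25⟩, ⟨52, 3, 3, 7⟩, ⟨3, 7, 7, 56⟩]

/-- the generators `A, B` and their inverses -/
def gens : List (M2 59) := [⟨0, 58, 1, 0⟩, ⟨9, 15, 49, 49⟩, ⟨0, 1, 58, 0⟩, ⟨49, 44, 10, 9⟩]

/-- the powers of the scalar `4` -/
def Z : List (ZMod 59) := [1, 4, 16, 5, 20, 21, 25, 41, 46, 7, 28, 53, 35, 22, 29, 57, 51, 27, 49, 19, 17, 9, 36, 26, 45, 3, 12, 48, 15]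

def mA : M2 59 := ⟨0, 58, 1, 0⟩
def mA' : M2 59 := ⟨0, 1, 58, 0⟩
def mB : M2 59 := ⟨9, 15, 49, 49⟩
def mB' : M2 59 := ⟨49, 44, 10, 9⟩
theorem mA_mem : mA ∈ gens := by decide
theorem mA'_mem : mA' ∈ gens := by decide
theorem mB_mem : mB ∈ gens := by decide
theorem mB'_mem : mB' ∈ gens := by decide
theorem mA_inv : mA.mul mA' = M2.one := by decide
theorem mB_inv : mB.mul mB' = M2.one := by decide

theorem hone : M2.one ∈ L := by decide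
theorem hZone : (1 : ZMod 59) ∈ Z := by decide
theorem hZmul : ∀ c ∈ Z, c * 4 ∈ Z ∧ c * 15 ∈ Z := by decide
theorem h4pow : (4 : ZMod 59) ^ 29 = 1 := by decide
theorem h4ne : (4 : ZMod 59) ≠ 1 := by decide
theorem h4inv : (4 : ZMod 59) * 15 = 1 := by decide

set_option maxRecDepth 1000000 in
theorem hmul : ∀ s ∈ L, ∀ m ∈ gens, s.mul m ∈ L := by decide +kernel

set_option maxRecDepth 1000000 in
theorem hbfs : ∀ i : Fin L.length, L.get i = M2.one ∨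
    ∃ j : Fin L.length, j < i ∧ ∃ m ∈ gens, L.get i = (L.get j).mul m := by decide +kernel

set_option maxRecDepth 1000000 in
theorem hnd : L.Nodup := by decide +kernel

theorem hlen : L.length = 120 := by decide

set_option maxRecDepth 1000000 in
theorem hfree : ∀ s ∈ L, ∀ c ∈ Z, M2.smul c s ≠ M2.one → (M2.smul c s).det1 ≠ 0 := by
  decide +kernel

theorem smul_mul (c : ZMod 59) (s m : M2 59) : (M2.smul c s).mul m = M2.smul c (s.mul m) := by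
  simp only [M2.smul, M2.mul]
  congr 1 <;> ring

theorem smul_mul_smul (c d : ZMod 59) (s : M2 59) :
    (M2.smul c s).mul (M2.smul d M2.one) = M2.smul (c * d) s := by
  simp only [M2.smul, M2.mul, M2.one]
  congr 1 <;> ring

theorem smul_one_one : M2.smul (1 : ZMod 59) M2.one = M2.one := by decide

theorem hCinv : (M2.smul (4 : ZMod 59) M2.one).mul (M2.smul 15 M2.one) = M2.one := by decide

/-- An exceptional sharply doubly transitive group of degree 59^2: the listed matrices generate a subgroup of GL(2,59) of order 3480 acting regularly on the non-zero vectors. -/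
theorem result (A : Matrix.GeneralLinearGroup (Fin 2) (ZMod 59)) (B : Matrix.GeneralLinearGroup (Fin 2) (ZMod 59)) (C : Matrix.GeneralLinearGroup (Fin 2) (ZMod 59)) (hA : (A : Matrix (Fin 2) (Fin 2) (ZMod 59)) = !![0, -1; 1, 0]) (hB : (B : Matrix (Fin 2) (Fin 2) (ZMod 59)) = !![9, 15; -10, -10]) (hC : (C : Matrix (Fin 2) (Fin 2) (ZMod 59)) = !![4, 0; 0, 4]) : Nat.card (Subgroup.closure ({A, B, C} : Set (Matrix.GeneralLinearGroup (Fin 2) (ZMod 59)))) = 3480 ∧ ∀ v w : Fin 2 → ZMod 59, v ≠ 0 → w ≠ 0 → ∃! h : Subgroup.closure ({A, B, C} : Set (Matrix.GeneralLinearGroup (Fin 2) (ZMod 59))), Matrix.mulVec ((h : Matrix.GeneralLinearGroup (Fin 2) (ZMod 59)) : Matrix (Fin 2) (Fin 2) (ZMod 59)) v = w := by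
  have : Fact (Nat.Prime 59) := ⟨by norm_num⟩
  have hA' : (A : Matrix (Fin 2) (Fin 2) (ZMod 59)) = mA.toMat := by rw [hA]; rfl
  have hB' : (B : Matrix (Fin 2) (Fin 2) (ZMod 59)) = mB.toMat := by rw [hB]; rfl
  have hC' : (C : Matrix (Fin 2) (Fin 2) (ZMod 59)) = (M2.smul 4 M2.one).toMat := by
    rw [hC]
    simp [M2.smul, M2.one, M2.toMat]
  have hAi := inv_val_eq A mA mA' hA' mA_inv
  have hBi := inv_val_eq B mB mB' hB' mB_inv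
  have hCi := inv_val_eq C _ _ hC' hCinv
  -- description of the elements
  have hdesc : ∀ x ∈ Subgroup.closure ({A, B, C} : Set (GL2 59)),
      ∃ s ∈ L, ∃ c ∈ Z, (x : Matrix (Fin 2) (Fin 2) (ZMod 59)) = (M2.smul c s).toMat := by
    intro x hx
    induction hx using Subgroup.closure_induction_right with
    | one => exact ⟨M2.one, hone, 1, hZone, by rw [smul_one_one, toMat_one]; rfl⟩
    | mul_right x hx y hy ih =>
      obtain ⟨s, hs, c, hc, hxs⟩ := ih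
      simp only [Set.mem_insert_iff, Set.mem_singleton_iff] at hy
      rcases hy with rfl | rfl | rfl
      · exact ⟨s.mul mA, hmul s hs mA mA_mem, c, hc, by
          rw [Units.val_mul, hxs, hA', ← toMat_mul, smul_mul]⟩
      · exact ⟨s.mul mB, hmul s hs mB mB_mem, c, hc, by
          rw [Units.val_mul, hxs, hB', ← toMat_mul, smul_mul]⟩
      · exact ⟨s, hs, c * 4, (hZmul c hc).1, by
          rw [Units.val_mul, hxs, hC', ← toMat_mul, smul_mul_smul]⟩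
    | mul_inv_cancel x hx y hy ih =>
      obtain ⟨s, hs, c, hc, hxs⟩ := ih
      simp only [Set.mem_insert_iff, Set.mem_singleton_iff] at hy
      rcases hy with rfl | rfl | rfl
      · exact ⟨s.mul mA', hmul s hs mA' mA'_mem, c, hc, by
          rw [Units.val_mul, hxs, hAi, ← toMat_mul, smul_mul]⟩
      · exact ⟨s.mul mB', hmul s hs mB' mB'_mem, c, hc, by
          rw [Units.val_mul, hxs, hBi, ← toMat_mul, smul_mul]⟩
      · exact ⟨s, hs, c * 15, (hZmul c hc).2, by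
          rw [Units.val_mul, hxs, hCi, ← toMat_mul, smul_mul_smul]⟩
  -- freeness
  have hfreeG : ∀ x ∈ Subgroup.closure ({A, B, C} : Set (GL2 59)), x ≠ 1 →
      ((x : Matrix (Fin 2) (Fin 2) (ZMod 59)) - 1).det ≠ 0 := by
    intro x hx hx1
    obtain ⟨s, hs, c, hc, hxs⟩ := hdesc x hx
    rw [hxs, det1_eq]
    apply hfree s hs c hc
    intro h
    apply hx1
    apply Units.ext
    rw [hxs, h, toMat_one]
    rfl
  have hle := card_le_of_free _ hfreeG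
  -- the subgroup generated by A and B
  have hH : Nat.card (Subgroup.closure ({A, B} : Set (GL2 59))) = 120 := by
    have hsub := closure_subset ({A, B} : Set (GL2 59)) L gens hone ?_ hmul
    have hsup := closure_superset ({A, B} : Set (GL2 59)) L gens ?_ hbfs
    · rw [card_closure _ L hnd hsub hsup, hlen]
    · intro m hm
      simp only [gens, List.mem_cons, List.not_mem_nil, or_false] at hm
      rcases hm with rfl | rfl | rfl | rfl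
      · exact ⟨A, Subgroup.subset_closure (by simp), hA'⟩
      · exact ⟨B, Subgroup.subset_closure (by simp), hB'⟩
      · exact ⟨A⁻¹, Subgroup.inv_mem _ (Subgroup.subset_closure (by simp)), hAi⟩
      · exact ⟨B⁻¹, Subgroup.inv_mem _ (Subgroup.subset_closure (by simp)), hBi⟩
    · intro g hg
      simp only [Set.mem_insert_iff, Set.mem_singleton_iff] at hg
      rcases hg with rfl | rfl
      · exact ⟨mA, mA_mem, mA', mA'_mem, hA', mA_inv⟩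
      · exact ⟨mB, mB_mem, mB', mB'_mem, hB', mB_inv⟩
  have h120 : 120 ∣ Nat.card (Subgroup.closure ({A, B, C} : Set (GL2 59))) := by
    rw [← hH]
    apply Subgroup.card_dvd_of_le
    apply Subgroup.closure_mono
    intro g hg
    simp only [Set.mem_insert_iff, Set.mem_singleton_iff] at hg ⊢
    rcases hg with rfl | rfl
    · exact Or.inl rfl
    · exact Or.inr (Or.inl rfl)
  have hCG : C ∈ Subgroup.closure ({A, B, C} : Set (GL2 59)) := Subgroup.subset_closure (by simp)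
  have hCval : (C : Matrix (Fin 2) (Fin 2) (ZMod 59)) = (4 : ZMod 59) • (1 : Matrix (Fin 2) (Fin 2) (ZMod 59)) := by
    rw [hC]
    ext i j
    fin_cases i <;> fin_cases j <;> simp
  have hC29 : C ^ 29 = 1 := by
    apply Units.ext
    rw [Units.val_pow_eq_pow_val, hCval, smul_pow, one_pow, h4pow, one_smul]
    rfl
  have hC1 : C ≠ 1 := by
    intro h
    have h1 : (C : Matrix (Fin 2) (Fin 2) (ZMod 59)) 0 0 = (1 : Matrix (Fin 2) (Fin 2) (ZMod 59)) 0 0 := by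
      rw [h]; rfl
    rw [hC] at h1
    simp at h1
    exact h4ne h1
  have : Fact (Nat.Prime 29) := ⟨by norm_num⟩
  have hordC : orderOf C = 29 := orderOf_eq_prime hC29 hC1
  have h29 : 29 ∣ Nat.card (Subgroup.closure ({A, B, C} : Set (GL2 59))) := by
    have := orderOf_dvd_natCard (⟨C, hCG⟩ : Subgroup.closure ({A, B, C} : Set (GL2 59)))
    rwa [Subgroup.orderOf_mk, hordC] at this
  have hdvd : 120 * 29 ∣ Nat.card (Subgroup.closure ({A, B, C} : Set (GL2 59))) :=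
    Nat.Coprime.mul_dvd_of_dvd_of_dvd (by norm_num) h120 h29
  have hpos : 0 < Nat.card (Subgroup.closure ({A, B, C} : Set (GL2 59))) := Nat.card_pos
  have hcard : Nat.card (Subgroup.closure ({A, B, C} : Set (GL2 59))) = 3480 := by
    have h1 := Nat.le_of_dvd hpos hdvd
    norm_num at hle h1
    omega
  exact ⟨hcard, fun v w hv hw => regular_of_free _ hfreeG (by rw [hcard]; norm_num) v w hv hw⟩

end Cfsg.Agent.S0693
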