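import Cfsg.Statements.S0694
import Mathlib

set_option autoImplicit false
open Cfsg

namespace Cfsg.Agent.S0694

/-- the geometric sum `1 + q + ... + q^(i-1)`. -/
def S (q : ℕ) : ℕ → ℕ
  | 0 => 0
  | (i + 1) => S q i + q ^ i

@[simp] theorem S_zero (q : ℕ) : S q 0 = 0 := rfl
theorem S_succ (q i : ℕ) : S q (i + 1) = S q i + q ^ i := rfl
@[simp] theorem S_one (q : ℕ) : S q 1 = 1 := by simp [S_succ]

theorem S_add (q i j : ℕ) : S q (i + j) = S q i + q ^ i * S q j := by
  induction j with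
  | zero => simp
  | succ j ih => rw [← add_assoc, S_succ, ih, S_succ, pow_add]; ring

theorem S_succ' (q i : ℕ) : S q (i + 1) = 1 + q * S q i := by
  rw [add_comm i 1, S_add, S_one, pow_one]

theorem geom (q i : ℕ) (hq : 1 ≤ q) : (q - 1) * S q i + 1 = q ^ i := by
  obtain ⟨t, rfl⟩ : ∃ t, q = t + 1 := ⟨q - 1, by omega⟩
  simp only [Nat.add_sub_cancel]
  induction i with
  | zero => simp
  | succ i ih =>
    rw [S_succ, pow_succ, ← ih]; ring

theorem S_mul (q r j : ℕ) : S q (r * j) = S q r * S (q ^ r) j := by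
  induction j with
  | zero => simp
  | succ j ih =>
    rw [Nat.mul_succ, S_add, ih, S_succ, ← pow_mul]; ring

theorem S_modEq (q r i : ℕ) (hq : 1 ≤ q) (hr : r ∣ q - 1) : S q i ≡ i [MOD r] := by
  have h1 : 1 ≡ q [MOD r] := (Nat.modEq_iff_dvd' hq).mpr hr
  induction i with
  | zero => rfl
  | succ i ih =>
    rw [S_succ]
    have : q ^ i ≡ 1 [MOD r] := by
      have := (h1.symm.pow i); rwa [one_pow] at this
    exact ih.add this

theorem modEq_iff (q n i : ℕ) (hq : 2 ≤ q) :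
    q ^ i ≡ 1 [MOD n * (q - 1)] ↔ n ∣ S q i := by
  have hpos : 1 ≤ q ^ i := Nat.one_le_pow _ _ (by omega)
  rw [Nat.ModEq.comm, Nat.modEq_iff_dvd' hpos]
  have : q ^ i - 1 = S q i * (q - 1) := by
    rw [← geom q i (by omega)]; simp [mul_comm]
  rw [this]
  exact Nat.mul_dvd_mul_iff_right (by omega)


theorem S_pos (q i : ℕ) (hq : 1 ≤ q) (hi : 0 < i) : 0 < S q i := by
  obtain ⟨j, rfl⟩ : ∃ j, i = j + 1 := ⟨i - 1, by omega⟩
  rw [S_succ]
  have : 0 < q ^ j := Nat.pow_pos (by omega)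
  omega

theorem not_sq_dvd_odd (q r : ℕ) (hr : r.Prime) (hodd : Odd r) (hq : 2 ≤ q) (hrq : r ∣ q - 1) :
    ¬ r ^ 2 ∣ S q r := by
  have : Fact r.Prime := ⟨hr⟩
  have hrq' : ¬ r ∣ q := by
    intro h
    have : r ∣ q - (q - 1) := Nat.dvd_sub h hrq
    rw [show q - (q - 1) = 1 by omega] at this
    exact hr.one_lt.ne' (Nat.dvd_one.mp this)
  have hlte := padicValNat.pow_sub_pow (p := r) hodd (x := q) (y := 1) (by omega)
    hrq hrq' (n := r) hr.ne_zero
  rw [one_pow, padicValNat_self] at hlte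
  have hS : S q r ≠ 0 := (S_pos q r (by omega) hr.pos).ne'
  have hgeom : q ^ r - 1 = (q - 1) * S q r := by
    rw [← geom q r (by omega)]; simp
  rw [hgeom, padicValNat.mul (by omega) hS] at hlte
  have h1 : padicValNat r (S q r) = 1 := by omega
  intro hdvd
  have := (padicValNat_dvd_iff_le hS).mp hdvd
  omega

theorem exists_cofactor (q r : ℕ) (hr : r.Prime) (hq : 2 ≤ q) (hrq : r ∣ q - 1)
    (h4 : Odd r ∨ 4 ∣ q - 1) :
    ∃ u, S q r = r * u ∧ ¬ r ∣ u ∧ ∀ s : ℕ, s.Prime → s ∣ q - 1 → s ≠ r → ¬ s ∣ u := by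
  have hdvd : r ∣ S q r := by
    have := S_modEq q r r (by omega) hrq
    exact (Nat.modEq_zero_iff_dvd.mp (this.trans (by simp [Nat.ModEq])))
  obtain ⟨u, hu⟩ := hdvd
  refine ⟨u, hu, ?_, ?_⟩
  · intro hru
    have hsq : r ^ 2 ∣ S q r := by
      rw [hu, pow_two]; exact Nat.mul_dvd_mul_left r hru
    rcases hr.eq_two_or_odd' with h2 | hodd
    · subst h2
      rcases h4 with hodd | h4
      · exact absurd hodd (by decide)
      · obtain ⟨t, ht⟩ := h4
        have hq' : q = 4 * t + 1 := by omega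
        have : S q 2 = q + 1 := by
          rw [S_succ, S_one, pow_one, add_comm]
        rw [this, hq'] at hsq
        omega
    · exact not_sq_dvd_odd q r hr hodd hq hrq hsq
  · intro s hs hsq hsr hsu
    have h1 : s ∣ S q r := hu ▸ Dvd.dvd.mul_left hsu r
    have h2 := S_modEq q s r (by omega) hsq
    have h3 : s ∣ r := by
      have := (Nat.modEq_zero_iff_dvd.mpr h1)
      exact Nat.modEq_zero_iff_dvd.mp (h2.symm.trans this)
    exact hsr ((Nat.prime_dvd_prime_iff_eq hs hr).mp h3)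

/-- the main divisibility criterion. -/
theorem dvd_S_iff : ∀ n : ℕ, 0 < n → ∀ q : ℕ, 2 ≤ q →
    (∀ r : ℕ, r.Prime → r ∣ n → r ∣ q - 1) → (4 ∣ n → 4 ∣ q - 1) →
    ∀ i, n ∣ S q i ↔ n ∣ i := by
  intro n
  induction n using Nat.strong_induction_on with
  | _ n ih =>
    intro hn q hq hprimes h4 i
    by_cases hn1 : n = 1
    · subst hn1; simp
    by_cases hnp : n.Prime
    · have := S_modEq q n i (by omega) (hprimes n hnp dvd_rfl)
      exact ⟨fun h => Nat.modEq_zero_iff_dvd.mp (this.symm.trans (Nat.modEq_zero_iff_dvd.mpr h)),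
        fun h => Nat.modEq_zero_iff_dvd.mp (this.trans (Nat.modEq_zero_iff_dvd.mpr h))⟩
    -- choose a good prime `r`
    obtain ⟨r, hr, hrn, hgood⟩ : ∃ r : ℕ, r.Prime ∧ r ∣ n ∧ (Odd r ∨ 4 ∣ q - 1) := by
      rcases Nat.eq_two_pow_or_exists_odd_prime_and_dvd n with ⟨k, hk⟩ | ⟨r, hr, hrn, hodd⟩
      · have hk2 : 2 ≤ k := by
          by_contra hlt
          have : k = 0 ∨ k = 1 := by omega
          rcases this with rfl | rfl
          · exact hn1 (by simpa using hk)
          · exact hnp (by rw [hk]; norm_num)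
        have h4n : 4 ∣ n := by
          rw [hk]; exact pow_dvd_pow 2 hk2
        exact ⟨2, Nat.prime_two, by rw [hk]; exact dvd_pow_self 2 (by omega), Or.inr (h4 h4n)⟩
      · exact ⟨r, hr, hrn, Or.inl hodd⟩
    obtain ⟨m, hm⟩ := hrn
    have hmpos : 0 < m := by
      rcases Nat.eq_zero_or_pos m with h | h
      · subst h; omega
      · exact h
    have hmn : m < n := by
      rw [hm]; nlinarith [hr.two_le]
    have hrq : r ∣ q - 1 := hprimes r hr ⟨m, hm⟩
    obtain ⟨u, hu, hru, hsu⟩ := exists_cofactor q r hr hq hrq hgood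
    have hcop : Nat.Coprime u m := by
      apply Nat.coprime_of_dvd
      intro k hk hku hkm
      have hkq : k ∣ q - 1 := hprimes k hk (hm ▸ Dvd.dvd.mul_left hkm r)
      by_cases hkr : k = r
      · exact hru (hkr ▸ hku)
      · exact hsu k hk hkq hkr hku
    have hq' : 2 ≤ q ^ r := by
      calc 2 ≤ q := hq
        _ = q ^ 1 := (pow_one q).symm
        _ ≤ q ^ r := Nat.pow_le_pow_right (by omega) hr.one_le
    have hsub : q - 1 ∣ q ^ r - 1 := by
      have := Nat.sub_dvd_pow_sub_pow q 1 r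
      rwa [one_pow] at this
    have ihm := ih m hmn hmpos (q ^ r) hq'
      (fun s hs hsm => (hprimes s hs (hm ▸ Dvd.dvd.mul_left hsm r)).trans hsub)
      (fun h4m => (h4 (hm ▸ Dvd.dvd.mul_left h4m r)).trans hsub)
    constructor
    · intro h
      have hri : r ∣ i := by
        have h1 : r ∣ S q i := Dvd.dvd.trans ⟨m, hm⟩ h
        have := S_modEq q r i (by omega) hrq
        exact Nat.modEq_zero_iff_dvd.mp (this.symm.trans (Nat.modEq_zero_iff_dvd.mpr h1))
      obtain ⟨j, rfl⟩ := hri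
      rw [S_mul, hu, hm, mul_assoc] at h
      have h2 : m ∣ u * S (q ^ r) j := (Nat.mul_dvd_mul_iff_left hr.pos).mp h
      have h3 : m ∣ S (q ^ r) j := (Nat.Coprime.dvd_mul_left hcop.symm).mp h2
      rw [hm]
      exact Nat.mul_dvd_mul_left r ((ihm j).mp h3)
    · intro h
      rw [hm] at h
      obtain ⟨j', hj'⟩ := h
      have : i = r * (m * j') := by rw [hj']; ring
      rw [this, S_mul, hu, hm, mul_assoc]
      apply Nat.mul_dvd_mul_left
      exact Dvd.dvd.mul_left ((ihm (m * j')).mpr (Dvd.intro _ rfl)) u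


section Converse

variable {q n : ℕ} (hq : 2 ≤ q) (hn : 1 < n) (hA : n ∣ S q n)
  (hB : ∀ i : ℕ, 0 < i → i < n → ¬ n ∣ S q i)

include hn hA in
theorem coprime_q_n : Nat.Coprime q n := by
  apply Nat.coprime_of_dvd
  intro k hk hkq hkn
  have h1 : k ∣ S q n := hkn.trans hA
  obtain ⟨m, rfl⟩ : ∃ m, n = m + 1 := ⟨n - 1, by omega⟩
  rw [S_succ'] at h1
  have h2 : k ∣ q * S q m := Dvd.dvd.mul_right hkq _
  have h3 : k ∣ 1 := (Nat.dvd_add_left h2).mp h1
  exact hk.one_lt.ne' (Nat.dvd_one.mp h3)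

include hn hA hB in
theorem surj (x : ℕ) : ∃ i, S q i ≡ x [MOD n] := by
  have hcop := coprime_q_n hn hA
  have : NeZero n := ⟨by omega⟩
  let f : Fin n → ZMod n := fun i => (S q i : ZMod n)
  have hinj : Function.Injective f := by
    intro a b hab
    by_contra hne
    have hab' : S q a ≡ S q b [MOD n] := (ZMod.natCast_eq_natCast_iff _ _ _).mp hab
    -- wlog a < b
    have key : ∀ i j : ℕ, i < j → j < n → ¬ S q i ≡ S q j [MOD n] := by
      intro i j hij hjn h
      obtain ⟨d, rfl⟩ : ∃ d, j = i + d := ⟨j - i, by omega⟩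
      rw [S_add] at h
      have h0 : S q i + 0 ≡ S q i + q ^ i * S q d [MOD n] := by simpa using h
      have h1 : 0 ≡ q ^ i * S q d [MOD n] := Nat.ModEq.add_left_cancel' _ h0
      have h2 : n ∣ q ^ i * S q d := (Nat.modEq_zero_iff_dvd.mp h1.symm)
      have h3 : n ∣ S q d := (Nat.Coprime.dvd_mul_left (Nat.Coprime.pow_left i hcop).symm).mp h2
      exact hB d (by omega) (by omega) h3
    rcases lt_or_gt_of_ne (fun h => hne (Fin.ext h) : (a : ℕ) ≠ b) with h | h
    · exact key a b h b.2 hab'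
    · exact key b a h a.2 hab'.symm
  have hbij : Function.Bijective f := by
    rw [Fintype.bijective_iff_injective_and_card]
    exact ⟨hinj, by simp [ZMod.card]⟩
  obtain ⟨i, hi⟩ := hbij.2 (x : ZMod n)
  exact ⟨i, (ZMod.natCast_eq_natCast_iff _ _ _).mp hi⟩

include hq hn hA hB in
theorem prime_dvd (r : ℕ) (hr : r.Prime) (hrn : r ∣ n) : r ∣ q - 1 := by
  by_contra hnot
  have : Fact r.Prime := ⟨hr⟩
  have hcop := coprime_q_n hn hA
  have hq1 : ((q : ZMod r) - 1) ≠ 0 := by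
    intro h
    apply hnot
    have : ((q - 1 : ℕ) : ZMod r) = 0 := by
      rw [Nat.cast_sub (by omega)]; simpa using h
    exact (ZMod.natCast_eq_zero_iff _ _).mp this
  obtain ⟨i, hi⟩ := surj hn hA hB (-((q : ZMod r) - 1)⁻¹).val
  have hi' : (S q i : ZMod r) = -((q : ZMod r) - 1)⁻¹ := by
    have := (ZMod.natCast_eq_natCast_iff _ _ _).mpr (hi.of_dvd hrn)
    rw [this, ZMod.natCast_zmod_val]
  have hg := congrArg (Nat.cast : ℕ → ZMod r) (geom q i (by omega))
  rw [Nat.cast_add, Nat.cast_mul, Nat.cast_sub (by omega), hi', Nat.cast_pow] at hg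
  have h0 : (q : ZMod r) ^ i = 0 := by
    rw [← hg]
    simp only [Nat.cast_one]
    rw [mul_neg, mul_inv_cancel₀ hq1]; ring
  have hq0 : (q : ZMod r) = 0 := by
    by_contra h
    exact pow_ne_zero i h h0
  have hrq : r ∣ q := (ZMod.natCast_eq_zero_iff _ _).mp hq0
  have : r ∣ 1 := by
    have := Nat.dvd_gcd hrq hrn
    rwa [hcop] at this
  exact hr.one_lt.ne' (Nat.dvd_one.mp this)

include hq hn hA hB in
theorem four_dvd (h4 : 4 ∣ n) : 4 ∣ q - 1 := by
  by_contra hnot
  have h2 : 2 ∣ q - 1 := prime_dvd hq hn hA hB 2 Nat.prime_two (Dvd.dvd.trans (by norm_num) h4)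
  have hq4 : q % 4 = 3 := by omega
  have hS : ∀ i, S q i % 4 = 0 ∨ S q i % 4 = 1 := by
    intro i
    induction i with
    | zero => left; rfl
    | succ i ih =>
      rw [S_succ']
      rcases ih with h | h
      · right
        rw [Nat.add_mod, Nat.mul_mod, h]
        simp
      · left
        rw [Nat.add_mod, Nat.mul_mod, h, hq4]
  obtain ⟨i, hi⟩ := surj hn hA hB 2
  have := hi.of_dvd h4
  have h2' : S q i % 4 = 2 := this
  rcases hS i with h | h <;> omega

end Converse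

/-- The Dickson pair condition: for a prime power `q` and `n > 1`, (every prime factor of `n` divides `q - 1`, and `4 ∣ n → 4 ∣ q - 1`) holds exactly when `q ^ n ≡ 1` modulo `n * (q - 1)` but `q ^ i` is not, for `0 < i < n`. -/
theorem result (q n : ℕ) (hq : IsPrimePow q) (hn : 1 < n) : ((∀ r : ℕ, r.Prime → r ∣ n → r ∣ q - 1) ∧ (4 ∣ n → 4 ∣ q - 1)) ↔ (q ^ n ≡ 1 [MOD n * (q - 1)] ∧ ∀ i : ℕ, 0 < i → i < n → ¬ q ^ i ≡ 1 [MOD n * (q - 1)]) := by
  have hq2 : 2 ≤ q := hq.two_le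
  simp only [modEq_iff q n _ hq2]
  constructor
  · rintro ⟨h1, h2⟩
    have key := dvd_S_iff n (by omega) q hq2 h1 h2
    refine ⟨(key n).mpr dvd_rfl, fun i hi hin h => ?_⟩
    have := Nat.le_of_dvd hi ((key i).mp h)
    omega
  · rintro ⟨hA, hB⟩
    exact ⟨prime_dvd hq2 hn hA hB, four_dvd hq2 hn hA hB⟩

end Cfsg.Agent.S0694
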