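import Cfsg.Statements.S0695
import Mathlib

set_option autoImplicit false
universe u
open Cfsg

namespace Cfsg.Agent.S0695

open MulAction SubMulAction

section
variable {G : Type*} [Group G] {X : Type*} [MulAction G X] (N : Subgroup G) [N.Normal]

omit [N.Normal] in
/-- regularity: elements of `N` agreeing at a point are equal -/
theorem eq_of_smul_eq (hreg : ∀ x : X, MulAction.stabilizer N x = ⊥) {n m : G} (hn : n ∈ N)
    (hm : m ∈ N) {a : X} (h : n • a = m • a) : n = m := by
  have : (⟨n⁻¹ * m, N.mul_mem (N.inv_mem hn) hm⟩ : N) ∈ MulAction.stabilizer N a := by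
    rw [mem_stabilizer_iff]
    show (n⁻¹ * m) • a = a
    rw [mul_smul, ← h, inv_smul_smul]
  rw [hreg a, Subgroup.mem_bot] at this
  have h2 := congrArg Subtype.val this
  exact inv_mul_eq_one.mp h2

/-- In a 2-transitive action with regular normal subgroup, nonidentity elements of `N` are
conjugate under the point stabilizer. -/
theorem conj_of_ne_one (a : X) (ht : IsPretransitive (stabilizer G a) (ofStabilizer G a))
    (hreg : ∀ x : X, MulAction.stabilizer N x = ⊥) {n m : G} (hn : n ∈ N) (hm : m ∈ N)
    (hn1 : n ≠ 1) (hm1 : m ≠ 1) : ∃ g ∈ stabilizer G a, g * n * g⁻¹ = m := by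
  have hna : n • a ≠ a := by
    intro h
    apply hn1
    exact eq_of_smul_eq N hreg hn N.one_mem (by rw [h, one_smul])
  have hma : m • a ≠ a := by
    intro h
    apply hm1
    exact eq_of_smul_eq N hreg hm N.one_mem (by rw [h, one_smul])
  obtain ⟨g, hg⟩ := ht.exists_smul_eq (⟨n • a, hna⟩ : ofStabilizer G a) ⟨m • a, hma⟩
  have hg' : (g : G) • (n • a) = m • a := congrArg Subtype.val hg
  refine ⟨g, g.2, ?_⟩
  apply eq_of_smul_eq N hreg (Subgroup.Normal.conj_mem inferInstance n hn g) hm (a := a)
  rw [mul_smul, mul_smul]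
  have : (g : G)⁻¹ • a = a := by
    rw [inv_smul_eq_iff]; exact g.2.symm
  rw [this, hg']

/-- the orbit map of a regular transitive subgroup is a bijection -/
theorem bijective_smul (htrans : IsPretransitive N X) (hreg : ∀ x : X, MulAction.stabilizer N x = ⊥)
    (a : X) : Function.Bijective (fun n : N => n • a) := by
  constructor
  · intro n m h
    apply Subtype.ext
    exact eq_of_smul_eq N hreg n.2 m.2 h
  · intro y
    exact htrans.exists_smul_eq a y

end

theorem structure_thm {G : Type*} [Group G] {X : Type*} [Fintype X] [MulAction G X]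
    (hX : 2 ≤ Fintype.card X) (h2 : MulAction.IsMultiplyPreprimitive G X 2) (N : Subgroup G)
    [N.Normal] (htrans : MulAction.IsPretransitive N X)
    (hreg : ∀ x : X, MulAction.stabilizer N x = ⊥) :
    ∃ p : ℕ, p.Prime ∧ (∀ n ∈ N, n ^ p = 1) ∧ (∀ n ∈ N, ∀ m ∈ N, n * m = m * n) ∧
      (∃ k : ℕ, Fintype.card X = p ^ k) ∧ (p ≠ 2 → Fintype.card X = 3) := by
  classical
  obtain ⟨a⟩ : Nonempty X := by
    rw [← Fintype.card_pos_iff]; omega
  have hGtrans : IsPretransitive G X := by
    constructor
    intro x y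
    obtain ⟨n, hn⟩ := htrans.exists_smul_eq x y
    exact ⟨n, hn⟩
  have ht_prim : IsPreprimitive (stabilizer G a) (ofStabilizer G a) := by
    rw [← is_one_preprimitive_iff]
    rw [← isMultiplyPreprimitive_succ_iff_ofStabilizer]
    · exact h2
    · norm_num
  have ht : IsPretransitive (stabilizer G a) (ofStabilizer G a) := ht_prim.toIsPretransitive
  have hbij := bijective_smul N htrans hreg a
  have hcardN : Nat.card N = Fintype.card X := by
    rw [Nat.card_congr (Equiv.ofBijective _ hbij), Nat.card_eq_fintype_card]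
  have hfinN : Finite N := Nat.finite_of_card_ne_zero (by omega)
  obtain ⟨p, hp, hpd⟩ := Nat.exists_prime_and_dvd (by omega : Nat.card N ≠ 1)
  haveI : Fact p.Prime := ⟨hp⟩
  obtain ⟨z, hz⟩ := exists_prime_orderOf_dvd_card' p hpd
  have hz1 : (z : G) ≠ 1 := by
    intro h
    have : z = 1 := Subtype.ext h
    rw [this, orderOf_one] at hz
    exact hp.one_lt.ne hz
  have hzp : (z : G) ^ p = 1 := by
    have := pow_orderOf_eq_one z
    rw [hz] at this
    have h2 := congrArg Subtype.val this
    simpa using h2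
  have hexp : ∀ n ∈ N, n ^ p = 1 := by
    intro n hn
    by_cases hn1 : n = 1
    · rw [hn1, one_pow]
    · obtain ⟨g, -, hg⟩ := conj_of_ne_one N a ht hreg z.2 hn hz1 hn1
      rw [← hg, conj_pow, hzp, mul_one, mul_inv_cancel]
  have hpg : IsPGroup p N := by
    intro n
    refine ⟨1, ?_⟩
    apply Subtype.ext
    have := hexp n n.2
    simpa using this
  have hntN : Nontrivial N := ⟨⟨z, 1, fun h => hz1 (congrArg Subtype.val h)⟩⟩
  have hcomm : ∀ n ∈ N, ∀ m ∈ N, n * m = m * n := by
    have hcn := hpg.center_nontrivial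
    obtain ⟨⟨c, hc⟩, hc1⟩ := exists_ne (1 : Subgroup.center N)
    have hc1' : (c : G) ≠ 1 := by
      intro h
      apply hc1
      apply Subtype.ext
      apply Subtype.ext
      exact h
    have hccomm : ∀ m ∈ N, (c : G) * m = m * c := by
      intro m hm
      have := Subgroup.mem_center_iff.mp hc ⟨m, hm⟩
      have h2 := congrArg Subtype.val this
      simpa using h2.symm
    have hcentral : ∀ n ∈ N, ∀ m ∈ N, n * m = m * n := by
      intro n hn m hm
      by_cases hn1 : n = 1
      · rw [hn1, one_mul, mul_one]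
      · obtain ⟨g, -, hg⟩ := conj_of_ne_one N a ht hreg c.2 hn hc1' hn1
        have hm' : g⁻¹ * m * g ∈ N := by
          have := Subgroup.Normal.conj_mem (inferInstance : N.Normal) m hm g⁻¹
          simpa using this
        have := hccomm _ hm'
        rw [← hg]
        calc g * ↑c * g⁻¹ * m = g * (↑c * (g⁻¹ * m * g)) * g⁻¹ := by group
          _ = g * ((g⁻¹ * m * g) * ↑c) * g⁻¹ := by rw [this]
          _ = m * (g * ↑c * g⁻¹) := by group
    exact hcentral
  refine ⟨p, hp, hexp, hcomm, ?_, ?_⟩
  · obtain ⟨k, hk⟩ := IsPGroup.iff_card.mp hpg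
    exact ⟨k, by rw [← hcardN, hk]⟩
  · intro hp2
    -- the block {z a, z⁻¹ a}
    have hza : (z : G) • a ≠ a := by
      intro h
      apply hz1
      exact eq_of_smul_eq N hreg z.2 N.one_mem (by rw [h, one_smul])
    have hzinv1 : (z : G)⁻¹ ≠ 1 := by
      intro h; apply hz1; rw [inv_eq_one] at h; exact h
    have hzia : (z : G)⁻¹ • a ≠ a := by
      intro h
      apply hzinv1
      exact eq_of_smul_eq N hreg (N.inv_mem z.2) N.one_mem (by rw [h, one_smul])
    have hzne : (z : G) ≠ (z : G)⁻¹ := by
      intro h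
      have hz2 : (z : G) ^ 2 = 1 := by
        rw [sq]; nth_rewrite 2 [h]; exact mul_inv_cancel _
      have hz2' : z ^ 2 = 1 := Subtype.ext (by simpa using hz2)
      have := orderOf_dvd_of_pow_eq_one hz2'
      rw [hz] at this
      have := (Nat.prime_dvd_prime_iff_eq hp Nat.prime_two).mp this
      exact hp2 this
    let B : Set (ofStabilizer G a) := {x | (x : X) = (z : G) • a ∨ (x : X) = (z : G)⁻¹ • a}
    have hBblock : IsBlock (stabilizer G a) B := by
      rw [isBlock_iff_smul_eq_of_mem]
      intro g b hb hgb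
      -- m = g z g⁻¹
      set m : G := (g : G) * z * (g : G)⁻¹ with hm
      have hmN : m ∈ N := Subgroup.Normal.conj_mem inferInstance _ z.2 _
      have hga : (g : G)⁻¹ • a = a := by rw [inv_smul_eq_iff]; exact g.2.symm
      have hgz : (g : G) • ((z : G) • a) = m • a := by
        rw [hm, mul_smul, mul_smul, hga]
      have hgzi : (g : G) • ((z : G)⁻¹ • a) = m⁻¹ • a := by
        rw [hm]
        have : ((g : G) * z * (g : G)⁻¹)⁻¹ = (g : G) * (z : G)⁻¹ * (g : G)⁻¹ := by group
        rw [this, mul_smul, mul_smul, hga]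
      have hmcase : m = z ∨ m = (z : G)⁻¹ := by
        have hgb' : ((g • b : ofStabilizer G a) : X) = (z : G) • a ∨
            ((g • b : ofStabilizer G a) : X) = (z : G)⁻¹ • a := hgb
        have hval : ((g • b : ofStabilizer G a) : X) = (g : G) • (b : X) := rfl
        rw [hval] at hgb'
        rcases hb with hb | hb
        · rw [hb, hgz] at hgb'
          rcases hgb' with h | h
          · left; exact eq_of_smul_eq N hreg hmN z.2 h
          · right; exact eq_of_smul_eq N hreg hmN (N.inv_mem z.2) h
        · rw [hb, hgzi] at hgb'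
          rcases hgb' with h | h
          · right
            have := eq_of_smul_eq N hreg (N.inv_mem hmN) z.2 h
            rw [← this, inv_inv]
          · left
            have := eq_of_smul_eq N hreg (N.inv_mem hmN) (N.inv_mem z.2) h
            exact inv_injective this
      ext y
      rw [Set.mem_smul_set_iff_inv_smul_mem]
      show ((g⁻¹ • y : ofStabilizer G a) : X) = (z : G) • a ∨
          ((g⁻¹ • y : ofStabilizer G a) : X) = (z : G)⁻¹ • a ↔
        (y : X) = (z : G) • a ∨ (y : X) = (z : G)⁻¹ • a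
      have hval : ((g⁻¹ • y : ofStabilizer G a) : X) = (g : G)⁻¹ • (y : X) := rfl
      rw [hval, inv_smul_eq_iff, inv_smul_eq_iff, hgz, hgzi]
      rcases hmcase with h | h
      · rw [h]
      · rw [h, inv_inv]; exact or_comm
    have htriv := ht_prim.isTrivialBlock_of_isBlock hBblock
    rcases htriv with hsub | huniv
    · exfalso
      have h1 : (⟨(z : G) • a, hza⟩ : ofStabilizer G a) ∈ B := Or.inl rfl
      have h2 : (⟨(z : G)⁻¹ • a, hzia⟩ : ofStabilizer G a) ∈ B := Or.inr rfl
      have := hsub h1 h2
      have h3 : (z : G) • a = (z : G)⁻¹ • a := congrArg Subtype.val this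
      exact hzne (eq_of_smul_eq N hreg z.2 (N.inv_mem z.2) h3)
    · have hcard2 : Nat.card (ofStabilizer G a) ≤ 2 := by
        have hBsub : B ⊆ {(⟨(z : G) • a, hza⟩ : ofStabilizer G a), ⟨(z : G)⁻¹ • a, hzia⟩} := by
          intro x hx
          rcases hx with hx | hx
          · left; exact Subtype.ext hx
          · right; exact Subtype.ext hx
        rw [← Set.ncard_univ, ← huniv]
        calc B.ncard ≤ ({(⟨(z : G) • a, hza⟩ : ofStabilizer G a), ⟨(z : G)⁻¹ • a, hzia⟩} : Set _).ncard :=
              Set.ncard_le_ncard hBsub (Set.toFinite _)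
          _ ≤ 2 := by
            refine (Set.ncard_insert_le _ _).trans ?_
            rw [Set.ncard_singleton]
      have hcard2' : 2 ≤ Nat.card (ofStabilizer G a) := by
        have h1 : (⟨(z : G) • a, hza⟩ : ofStabilizer G a) ≠ ⟨(z : G)⁻¹ • a, hzia⟩ := by
          intro h
          have h3 : (z : G) • a = (z : G)⁻¹ • a := congrArg Subtype.val h
          exact hzne (eq_of_smul_eq N hreg z.2 (N.inv_mem z.2) h3)
        have : Nontrivial (ofStabilizer G a) := ⟨⟨_, _, h1⟩⟩
        exact Finite.one_lt_card
      have := nat_card_ofStabilizer_add_one_eq (G := G) a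
      rw [Nat.card_eq_fintype_card (α := X)] at this
      omega

theorem result {G : Type*} [Group G] {X : Type*} [Fintype X] [MulAction G X] (hX : 2 ≤ Fintype.card X) (h2 : MulAction.IsMultiplyPreprimitive G X 2) (N : Subgroup G) [N.Normal] (htrans : MulAction.IsPretransitive N X) (hreg : ∀ x : X, MulAction.stabilizer N x = ⊥) : Fintype.card X = 3 ∨ (IsMulCommutative N ∧ (∀ n ∈ N, n ^ 2 = 1) ∧ ∃ m : ℕ, Fintype.card X = 2 ^ m) := by
  obtain ⟨p, hp, hexp, hcomm, hk, h3⟩ := structure_thm hX h2 N htrans hreg
  by_cases hp2 : p = 2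
  · right
    subst hp2
    refine ⟨⟨⟨fun n m => ?_⟩⟩, hexp, hk⟩
    apply Subtype.ext
    exact hcomm n n.2 m m.2
  · left
    exact h3 hp2

end Cfsg.Agent.S0695
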