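import Cfsg.Statements.S0696
import Cfsg.Agent.S0695

set_option autoImplicit false
open Cfsg

namespace Cfsg.Agent.S0696

open MulAction SubMulAction

/-- A triply primitive group of degree at least 3 having a regular normal subgroup has degree 3 or 4. -/
theorem result {G : Type*} [Group G] {X : Type*} [Fintype X] [MulAction G X] (hX : 3 ≤ Fintype.card X) (h3 : MulAction.IsMultiplyPreprimitive G X 3) (N : Subgroup G) [N.Normal] (htrans : MulAction.IsPretransitive N X) (hreg : ∀ x : X, MulAction.stabilizer N x = ⊥) : Fintype.card X = 3 ∨ Fintype.card X = 4 := by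
  classical
  have hcardE : (3 : ℕ∞) ≤ ENat.card X := by
    rw [ENat.card_eq_coe_fintype_card]
    exact_mod_cast hX
  have h2 : IsMultiplyPreprimitive G X 2 :=
    isMultiplyPreprimitive_of_le G X h3 (by norm_num) (by exact_mod_cast hcardE)
  obtain ⟨p, hp, hexp, hcomm, ⟨k, hk⟩, hp3⟩ :=
    Cfsg.Agent.S0695.structure_thm (by omega) h2 N htrans hreg
  by_cases hp2 : p = 2
  swap
  · left; exact hp3 hp2
  subst hp2
  right
  obtain ⟨a⟩ : Nonempty X := by
    rw [← Fintype.card_pos_iff]; omega
  have hbij := Cfsg.Agent.S0695.bijective_smul N htrans hreg a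
  have hcardN : Nat.card N = Fintype.card X := by
    rw [Nat.card_congr (Equiv.ofBijective _ hbij), Nat.card_eq_fintype_card]
  have hfinN : Finite N := Nat.finite_of_card_ne_zero (by omega)
  -- pick z ≠ 1 in N
  have hntN : Nontrivial N := by
    rw [← Finite.one_lt_card_iff_nontrivial]; omega
  obtain ⟨z, hz1⟩ := exists_ne (1 : N)
  have hz1' : (z : G) ≠ 1 := fun h => hz1 (Subtype.ext h)
  have hzz : (z : G) * z = 1 := by
    have := hexp z z.2
    rwa [sq] at this
  have hza : (z : G) • a ≠ a := by
    intro h
    apply hz1'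
    exact Cfsg.Agent.S0695.eq_of_smul_eq N hreg z.2 N.one_mem (by rw [h, one_smul])
  -- pick m ∉ {1, z}
  obtain ⟨m, hm1, hmz⟩ : ∃ m : N, m ≠ 1 ∧ m ≠ z := by
    by_contra hcon
    push Not at hcon
    have : Nat.card N ≤ 2 := by
      have hsub : (Set.univ : Set N) ⊆ {1, z} := by
        intro x _
        by_cases hx : x = 1
        · left; exact hx
        · right; exact hcon x hx
      rw [← Set.ncard_univ]
      calc (Set.univ : Set N).ncard ≤ ({1, z} : Set N).ncard :=
            Set.ncard_le_ncard hsub (Set.toFinite _)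
        _ ≤ 2 := by
          refine (Set.ncard_insert_le _ _).trans ?_
          rw [Set.ncard_singleton]
    omega
  have hm1' : (m : G) ≠ 1 := fun h => hm1 (Subtype.ext h)
  have hmz' : (m : G) ≠ z := fun h => hmz (Subtype.ext h)
  have hzmN : (z : G) * m ∈ N := N.mul_mem z.2 m.2
  have hzm1 : (z : G) * m ≠ 1 := by
    intro h
    apply hmz'
    have : (z : G) * m = z * z := by rw [h, hzz]
    exact mul_left_cancel this
  have hzmz : (z : G) * m ≠ z := by
    intro h
    apply hm1'
    have : (z : G) * m = z * 1 := by rw [h, mul_one]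
    exact mul_left_cancel this
  have hzmm : (z : G) * m ≠ m := by
    intro h
    apply hz1'
    have : (z : G) * m = 1 * m := by rw [h, one_mul]
    exact mul_right_cancel this
  set s : Set X := {a, (z : G) • a} with hs
  have hsenc : s.encard + 1 = ((3 : ℕ) : ℕ∞) := by
    rw [hs, Set.encard_pair (Ne.symm hza)]
    norm_num
  have hprim : IsPreprimitive (fixingSubgroup G s) (ofFixingSubgroup G s) :=
    h3.isPreprimitive_ofFixingSubgroup hsenc
  have hnotin : ∀ n ∈ N, n ≠ 1 → n ≠ z → n • a ∉ s := by
    intro n hn hn1 hnz hmem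
    rcases hmem with h | h
    · exact hn1 (Cfsg.Agent.S0695.eq_of_smul_eq N hreg hn N.one_mem (by rw [h, one_smul]))
    · exact hnz (Cfsg.Agent.S0695.eq_of_smul_eq N hreg hn z.2 h)
  have hma : (m : G) • a ∉ s := hnotin m m.2 hm1' hmz'
  have hzma : ((z : G) * m) • a ∉ s := hnotin _ hzmN hzm1 hzmz
  -- elements of fixing subgroup commute with z
  have hcommz : ∀ g ∈ fixingSubgroup G s, g * z = z * g := by
    intro g hg
    rw [mem_fixingSubgroup_iff] at hg
    have hga : g • a = a := hg a (Or.inl rfl)
    have hgza : g • ((z : G) • a) = (z : G) • a := hg _ (Or.inr rfl)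
    have hginva : g⁻¹ • a = a := by rw [inv_smul_eq_iff]; exact hga.symm
    have hconj : g * z * g⁻¹ = z := by
      apply Cfsg.Agent.S0695.eq_of_smul_eq N hreg
        (Subgroup.Normal.conj_mem inferInstance _ z.2 g) z.2 (a := a)
      rw [mul_smul, mul_smul, hginva, hgza]
    calc g * z = g * z * g⁻¹ * g := by group
      _ = z * g := by rw [hconj]
  let B : Set (ofFixingSubgroup G s) :=
    {y | (y : X) = (m : G) • a ∨ (y : X) = ((z : G) * m) • a}
  have hBblock : IsBlock (fixingSubgroup G s) B := by
    rw [isBlock_iff_smul_eq_of_mem]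
    intro g b hb hgb
    have hgz := hcommz g g.2
    have hval : ∀ y : ofFixingSubgroup G s, ((g • y : ofFixingSubgroup G s) : X) = (g : G) • (y : X) :=
      fun y => rfl
    have hvalinv : ∀ y : ofFixingSubgroup G s,
        ((g⁻¹ • y : ofFixingSubgroup G s) : X) = (g : G)⁻¹ • (y : X) :=
      fun y => rfl
    -- key: g swaps or fixes the pair
    have key : ((g : G) • ((m : G) • a) = (m : G) • a ∧
        (g : G) • (((z : G) * m) • a) = ((z : G) * m) • a) ∨
        ((g : G) • ((m : G) • a) = ((z : G) * m) • a ∧
        (g : G) • (((z : G) * m) • a) = (m : G) • a) := by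
      have hzm_smul : ∀ x : X, (g : G) • ((z : G) • x) = (z : G) • ((g : G) • x) := by
        intro x
        rw [← mul_smul, hgz, mul_smul]
      have hgb' : (g : G) • (b : X) = (m : G) • a ∨ (g : G) • (b : X) = ((z : G) * m) • a := by
        have := hgb
        rw [← hval b]
        exact this
      rcases hb with hb | hb
      · rw [hb] at hgb'
        rcases hgb' with h | h
        · left
          refine ⟨h, ?_⟩
          rw [mul_smul, hzm_smul, h]
        · right
          refine ⟨h, ?_⟩
          rw [mul_smul, hzm_smul, h, ← mul_smul, ← mul_assoc, hzz, one_mul]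
      · rw [hb] at hgb'
        have hrev : (g : G) • ((m : G) • a) = (z : G) • ((g : G) • (((z : G) * m) • a)) := by
          rw [mul_smul, hzm_smul, ← mul_smul (z : G) (z : G), hzz, one_smul]
        rcases hgb' with h | h
        · right
          refine ⟨?_, h⟩
          rw [hrev, h, mul_smul]
        · left
          refine ⟨?_, h⟩
          rw [hrev, h, ← mul_smul, ← mul_assoc, hzz, one_mul]
    ext y
    rw [Set.mem_smul_set_iff_inv_smul_mem]
    show ((g⁻¹ • y : ofFixingSubgroup G s) : X) = (m : G) • a ∨
        ((g⁻¹ • y : ofFixingSubgroup G s) : X) = ((z : G) * m) • a ↔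
      (y : X) = (m : G) • a ∨ (y : X) = ((z : G) * m) • a
    rw [hvalinv, inv_smul_eq_iff, inv_smul_eq_iff]
    rcases key with ⟨k1, k2⟩ | ⟨k1, k2⟩
    · rw [k1, k2]
    · rw [k1, k2]; exact or_comm
  have htriv := hprim.isTrivialBlock_of_isBlock hBblock
  have hne : (m : G) • a ≠ ((z : G) * m) • a := by
    intro h
    exact hzmm (Cfsg.Agent.S0695.eq_of_smul_eq N hreg m.2 hzmN h).symm
  rcases htriv with hsub | huniv
  · exfalso
    have h1 : (⟨(m : G) • a, hma⟩ : ofFixingSubgroup G s) ∈ B := Or.inl rfl
    have h2 : (⟨((z : G) * m) • a, hzma⟩ : ofFixingSubgroup G s) ∈ B := Or.inr rfl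
    have := hsub h1 h2
    exact hne (congrArg Subtype.val this)
  · -- complement of s has at most 2 elements
    have hcompl : (sᶜ : Set X) ⊆ {(m : G) • a, ((z : G) * m) • a} := by
      intro x hx
      have : (⟨x, hx⟩ : ofFixingSubgroup G s) ∈ B := by rw [huniv]; trivial
      rcases this with h | h
      · left; exact h
      · right; exact h
    have hunivX : (Set.univ : Set X) ⊆ {a, (z : G) • a, (m : G) • a, ((z : G) * m) • a} := by
      intro x _
      by_cases hx : x ∈ s
      · rcases hx with h | h
        · left; exact h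
        · right; left; exact h
      · rcases hcompl hx with h | h
        · right; right; left; exact h
        · right; right; right; exact h
    have hle : Fintype.card X ≤ 4 := by
      rw [← Nat.card_eq_fintype_card, ← Set.ncard_univ]
      calc (Set.univ : Set X).ncard ≤
            ({a, (z : G) • a, (m : G) • a, ((z : G) * m) • a} : Set X).ncard :=
            Set.ncard_le_ncard hunivX (Set.toFinite _)
        _ ≤ 4 := by
          refine (Set.ncard_insert_le _ _).trans ?_
          refine Nat.succ_le_succ ((Set.ncard_insert_le _ _).trans ?_)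
          refine Nat.succ_le_succ ((Set.ncard_insert_le _ _).trans ?_)
          rw [Set.ncard_singleton]
    -- card = 2^k, 3 ≤ card ≤ 4
    rw [hk] at hX hle ⊢
    have hk2 : k ≤ 2 := by
      by_contra hcon
      push Not at hcon
      have : 2 ^ 3 ≤ 2 ^ k := Nat.pow_le_pow_right (by norm_num) hcon
      omega
    interval_cases k <;> simp_all

end Cfsg.Agent.S0696
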