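import Cfsg.Statements.S0697
import Cfsg.Agent.Lib.H4.NormalMT

set_option autoImplicit false
open Cfsg

namespace Cfsg.Agent.S0697

open MulAction SubMulAction Cfsg.Agent.Lib.H4

theorem transOn_all {G : Type*} [Group G] {X : Type*} [Finite X] [MulAction G X]
    (hfaith : ∀ g : G, (∀ x : X, g • x = x) → g = 1)
    {k : ℕ} (hkn : k ≤ Nat.card X) (hG : IsMultiplyPreprimitive G X k)
    (hnotSym : ¬ IsMultiplyPretransitive G X (Nat.card X - 1))
    (H : Subgroup G) [H.Normal] (hH : H ≠ ⊥) (hnr : ∃ a : X, ∃ h ∈ H, h ≠ 1 ∧ h • a = a) :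
    ∀ j : ℕ, j < k → TransOn H X j := by
  have hkE : (k : ℕ∞) ≤ ENat.card X := by
    rw [ENat.card_eq_coe_natCard]
    exact_mod_cast hkn
  intro j
  induction j using Nat.strong_induction_on with
  | _ j IH =>
    intro hjk s hsfin hsj c d hc hd
    have hGj : IsMultiplyPreprimitive G X (j + 1) :=
      isMultiplyPreprimitive_of_le G X hG (by omega) hkE
    rcases transOn_or_trivial H hGj s hsfin hsj with h | h
    · exact h c d hc hd
    · exfalso
      have hsharp1 : ∀ h' ∈ H, (∀ z ∈ s, h' • z = z) → h' = 1 :=
        fun h' hh' hz => hfaith _ (h h' hh' hz)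
      rcases j with _ | _ | j
      · -- j = 0
        have hs0 : s = ∅ := (Set.ncard_eq_zero hsfin).mp hsj
        apply hH
        rw [Subgroup.eq_bot_iff_forall]
        intro x hx
        apply hsharp1 x hx
        intro z hz
        rw [hs0] at hz
        exact absurd hz (Set.notMem_empty z)
      · -- j = 1
        obtain ⟨a', rfl⟩ := Set.ncard_eq_one.mp hsj
        obtain ⟨a, h₀, hh₀, hne, hfix⟩ := hnr
        have hT0 := IH 0 (by omega) (by omega)
        obtain ⟨n, hnH, -, hna⟩ := hT0 ∅ Set.finite_empty (Set.ncard_empty X) a a'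
          (Set.notMem_empty _) (Set.notMem_empty _)
        have h1 : n * h₀ * n⁻¹ = 1 := by
          apply hsharp1 _ (H.mul_mem (H.mul_mem hnH hh₀) (H.inv_mem hnH))
          intro z hz
          rw [Set.mem_singleton_iff] at hz
          rw [hz, mul_smul, mul_smul, ← hna, inv_smul_smul, hfix]
        apply hne
        have h2 : h₀ = n⁻¹ * (n * h₀ * n⁻¹) * n := by group
        rw [h2, h1]; group
      · -- j + 2
        obtain ⟨a, has, b, hbs, hab⟩ := (Set.one_lt_ncard hsfin).mp (by omega)
        set s₀ : Set X := (s \ {a}) \ {b} with hs₀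
        have hbs' : b ∈ s \ {a} := ⟨hbs, fun h => hab h.symm⟩
        have hs₀fin : s₀.Finite := (hsfin.sdiff).sdiff
        have hs₀c : s₀.ncard = j := by
          rw [hs₀, Set.ncard_sdiff_singleton_of_mem hbs', Set.ncard_sdiff_singleton_of_mem has, hsj]
          omega
        have has₀ : a ∉ s₀ := fun h => h.1.2 rfl
        have hbs₀ : b ∉ s₀ := fun h => h.2 rfl
        have hs_eq : s = insert a (insert b s₀) := by
          ext x
          simp only [hs₀, Set.mem_insert_iff, Set.mem_sdiff, Set.mem_singleton_iff]
          constructor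
          · intro hx
            by_cases hxa : x = a
            · left; exact hxa
            · by_cases hxb : x = b
              · right; left; exact hxb
              · right; right; exact ⟨⟨hx, hxa⟩, hxb⟩
          · rintro (hx | hx | hx)
            · rw [hx]; exact has
            · rw [hx]; exact hbs
            · exact hx.1.1
        have hT2 : TransOn H X (j + 2 - 2) := IH j (by omega) (by omega)
        have hT1 : TransOn H X (j + 2 - 1) := IH (j + 1) (by omega) (by omega)
        have h2t : ∀ a b d e : X, a ∉ s₀ → b ∉ s₀ → d ∉ s₀ → e ∉ s₀ → a ≠ b → d ≠ e →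
            ∃ m ∈ H, (∀ z ∈ s₀, m • z = z) ∧ m • a = d ∧ m • b = e := by
          intro a b d e ha hb hd he hab hde
          exact exists_two_point H (by omega : 2 ≤ j + 2) hT2 hT1 s₀ hs₀fin (by omega)
            ha hb hd he hab hde
        have hsenc : s.encard + 1 = ((j + 1 + 1 + 1 : ℕ) : ℕ∞) := by
          rw [← hsj, ← hsfin.cast_ncard_eq]; push_cast; rfl
        have hprim : IsPreprimitive (fixingSubgroup G s) (ofFixingSubgroup G s) :=
          hGj.isPreprimitive_ofFixingSubgroup hsenc
        by_cases hbig : j + 2 + 3 ≤ Nat.card X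
        · have hcompl : 2 < sᶜ.ncard := by
            rw [Set.ncard_compl s hsfin, hsj]; omega
          obtain ⟨c', d', e', hc', hd', he', hcd', hce', hde'⟩ :=
            (Set.two_lt_ncard_iff (Set.toFinite _)).mp hcompl
          rw [hs_eq] at hprim h hc' hd' he'
          exact no_three_points H s₀ has₀ hbs₀ hab h2t hprim h hc' hd' he' hcd' hce' hde'
        · apply hnotSym
          have := hGj.isMultiplyPretransitive
          exact isMultiplyPretransitive_of_le (n := j + 1 + 1 + 1) (by omega) (by omega)

theorem general {G : Type*} [Group G] {X : Type*} [Finite X] [MulAction G X]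
    (hfaith : ∀ g : G, (∀ x : X, g • x = x) → g = 1)
    {k : ℕ} (hkn : k ≤ Nat.card X) (hG : IsMultiplyPreprimitive G X k)
    (hnotSym : ¬ IsMultiplyPretransitive G X (Nat.card X - 1))
    (H : Subgroup G) [H.Normal] (hH : H ≠ ⊥) (hnr : ∃ a : X, ∃ h ∈ H, h ≠ 1 ∧ h • a = a) :
    IsMultiplyPretransitive H X k := by
  have hT := transOn_all hfaith hkn hG hnotSym H hH hnr
  have : ∀ j : ℕ, j ≤ k → IsMultiplyPretransitive H X j := by
    intro j
    induction j with
    | zero => intro _; exact is_zero_pretransitive
    | succ j ih =>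
      intro hj
      exact isMultiplyPretransitive_succ_of_transOn H j (ih (by omega)) (hT j (by omega))
  exact this k le_rfl

/-- In a `k`-primitive permutation group which is not the whole symmetric group, a non-trivial non-regular normal subgroup is `k`-transitive. -/
theorem result {α : Type*} [Fintype α] [DecidableEq α] (G : Subgroup (Equiv.Perm α)) {k : ℕ} (hk : 1 ≤ k) (hkn : k ≤ Fintype.card α) (hG : MulAction.IsMultiplyPreprimitive G α k) (htop : G ≠ ⊤) (H : Subgroup G) [H.Normal] (hH : H ≠ ⊥) (hnr : ∃ a : α, MulAction.stabilizer H a ≠ ⊥) : MulAction.IsMultiplyPretransitive H α k := by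
  apply general (G := G) (X := α) _ _ hG _ H hH
  · obtain ⟨a, ha⟩ := hnr
    rw [Subgroup.ne_bot_iff_exists_ne_one] at ha
    obtain ⟨⟨h, hh⟩, hne⟩ := ha
    refine ⟨a, h, h.2, ?_, hh⟩
    intro hcon
    apply hne
    apply Subtype.ext
    apply Subtype.ext
    exact hcon
  · intro g hg
    apply Subtype.ext
    ext x
    exact hg x
  · rw [Nat.card_eq_fintype_card]; exact hkn
  · intro h
    exact htop (Equiv.Perm.eq_top_of_isMultiplyPretransitive h)

end Cfsg.Agent.S0697
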