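import Cfsg.Statements.S0698
import Cfsg.Agent.Lib.H4.NormalMT
import Cfsg.Agent.S0695
import Cfsg.Agent.S0696

set_option autoImplicit false
open Cfsg

namespace Cfsg.Agent.S0698

open MulAction SubMulAction Cfsg.Agent.Lib.H4

/-- one step: pointwise stabilizers of `j`-sets in a normal subgroup `H` of a `(j+1)`-primitive
group are transitive on the complement, with explicit exceptions -/
theorem transOn_step {G : Type*} [Group G] {X : Type*} [Finite X] [MulAction G X]
    (hfaith : ∀ g : G, (∀ x : X, g • x = x) → g = 1)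
    (H : Subgroup G) [H.Normal] {j : ℕ} (hGj : IsMultiplyPreprimitive G X (j + 1))
    (IH : ∀ i < j, TransOn H X i) :
    TransOn H X j ∨ (j = 0 ∧ H = ⊥) ∨ (j = 1 ∧ ∀ x : X, ∀ h ∈ H, h • x = x → h = 1) ∨
      (2 ≤ j ∧ Nat.card X ≤ j + 2) := by
  by_cases hT : TransOn H X j
  · left; exact hT
  right
  unfold TransOn at hT
  push Not at hT
  obtain ⟨s, hsfin, hsj, c, d, hc, hd, hcd⟩ := hT
  rcases transOn_or_trivial H hGj s hsfin hsj with h | h
  · exfalso
    obtain ⟨h', hh', hz, hcd'⟩ := h c d hc hd
    exact hcd h' hh' hz hcd'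
  have hsharp1 : ∀ h' ∈ H, (∀ z ∈ s, h' • z = z) → h' = 1 :=
    fun h' hh' hz => hfaith _ (h h' hh' hz)
  rcases j with _ | _ | j
  · -- j = 0
    left
    refine ⟨rfl, ?_⟩
    have hs0 : s = ∅ := (Set.ncard_eq_zero hsfin).mp hsj
    rw [Subgroup.eq_bot_iff_forall]
    intro x hx
    apply hsharp1 x hx
    intro z hz
    rw [hs0] at hz
    exact absurd hz (Set.notMem_empty z)
  · -- j = 1
    right; left
    refine ⟨rfl, ?_⟩
    obtain ⟨a', rfl⟩ := Set.ncard_eq_one.mp hsj
    intro a h₀ hh₀ hfix
    have hT0 := IH 0 (by omega)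
    obtain ⟨n, hnH, -, hna⟩ := hT0 ∅ Set.finite_empty (Set.ncard_empty X) a a'
      (Set.notMem_empty _) (Set.notMem_empty _)
    have h1 : n * h₀ * n⁻¹ = 1 := by
      apply hsharp1 _ (H.mul_mem (H.mul_mem hnH hh₀) (H.inv_mem hnH))
      intro z hz
      rw [Set.mem_singleton_iff] at hz
      rw [hz, mul_smul, mul_smul, ← hna, inv_smul_smul, hfix]
    have h2 : h₀ = n⁻¹ * (n * h₀ * n⁻¹) * n := by group
    rw [h2, h1]; group
  · -- j + 2
    right; right
    refine ⟨by omega, ?_⟩
    by_contra hbig
    push Not at hbig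
    obtain ⟨a, has, b, hbs, hab⟩ := (Set.one_lt_ncard hsfin).mp (by omega)
    set s₀ : Set X := (s \ {a}) \ {b} with hs₀
    have hbs' : b ∈ s \ {a} := ⟨hbs, fun h => hab h.symm⟩
    have hs₀fin : s₀.Finite := (hsfin.sdiff).sdiff
    have hs₀c : s₀.ncard = j := by
      rw [hs₀, Set.ncard_sdiff_singleton_of_mem hbs', Set.ncard_sdiff_singleton_of_mem has, hsj]
      omega
    have has₀ : a ∉ s₀ := fun h => h.1.2 rfl
    have hbs₀ : b ∉ s₀ := fun h => h.2 rfl
    have hs_eq : s = insert a (insert b s₀) := by
      ext x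
      simp only [hs₀, Set.mem_insert_iff, Set.mem_sdiff, Set.mem_singleton_iff]
      constructor
      · intro hx
        by_cases hxa : x = a
        · left; exact hxa
        · by_cases hxb : x = b
          · right; left; exact hxb
          · right; right; exact ⟨⟨hx, hxa⟩, hxb⟩
      · rintro (hx | hx | hx)
        · rw [hx]; exact has
        · rw [hx]; exact hbs
        · exact hx.1.1
    have hT2 : TransOn H X (j + 2 - 2) := IH j (by omega)
    have hT1 : TransOn H X (j + 2 - 1) := IH (j + 1) (by omega)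
    have h2t : ∀ a b d e : X, a ∉ s₀ → b ∉ s₀ → d ∉ s₀ → e ∉ s₀ → a ≠ b → d ≠ e →
        ∃ m ∈ H, (∀ z ∈ s₀, m • z = z) ∧ m • a = d ∧ m • b = e := by
      intro a b d e ha hb hd he hab hde
      exact exists_two_point H (by omega : 2 ≤ j + 2) hT2 hT1 s₀ hs₀fin (by omega)
        ha hb hd he hab hde
    have hsenc : s.encard + 1 = ((j + 1 + 1 + 1 : ℕ) : ℕ∞) := by
      rw [← hsj, ← hsfin.cast_ncard_eq]; push_cast; rfl
    have hprim : IsPreprimitive (fixingSubgroup G s) (ofFixingSubgroup G s) :=
      hGj.isPreprimitive_ofFixingSubgroup hsenc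
    have hcompl : 2 < sᶜ.ncard := by
      rw [Set.ncard_compl s hsfin, hsj]; omega
    obtain ⟨c', d', e', hc', hd', he', hcd', hce', hde'⟩ :=
      (Set.two_lt_ncard_iff (Set.toFinite _)).mp hcompl
    rw [hs_eq] at hprim h hc' hd' he'
    exact no_three_points H s₀ has₀ hbs₀ hab h2t hprim h hc' hd' he' hcd' hce' hde'

/-- Jordan's Theorem on normal subgroups of multiply transitive groups: if `G` is `k`-transitive (`k > 1`) of degree greater than `k`, a non-trivial normal subgroup is `(k-1)`-transitive, except possibly for `k = 3` when it may be an elementary abelian 2-group. -/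
theorem result {α : Type*} [Fintype α] [DecidableEq α] (G : Subgroup (Equiv.Perm α)) {k : ℕ} (hk : 1 < k) (hdeg : k < Fintype.card α) (hG : MulAction.IsMultiplyPretransitive G α k) (N : Subgroup G) [N.Normal] (hN : N ≠ ⊥) : MulAction.IsMultiplyPretransitive N α (k - 1) ∨ (k = 3 ∧ IsMulCommutative N ∧ ∀ n ∈ N, n ^ 2 = 1) := by
  by_cases hExc : (k = 3 ∧ IsMulCommutative N ∧ ∀ n ∈ N, n ^ 2 = 1)
  · right; exact hExc
  left
  obtain ⟨k', rfl⟩ : ∃ k', k = k' + 1 := ⟨k - 1, by omega⟩
  have hkE : ((k' + 1 : ℕ) : ℕ∞) ≤ ENat.card α := by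
    rw [ENat.card_eq_coe_fintype_card]
    exact_mod_cast hdeg.le
  have hk'E : ((k' : ℕ) : ℕ∞) ≤ ENat.card α := by
    refine le_trans ?_ hkE
    exact_mod_cast Nat.le_succ k'
  have hGp : IsMultiplyPreprimitive G α k' :=
    isMultiplyPreprimitive_of_isMultiplyPretransitive_succ G α hkE
  have hfaith : ∀ g : G, (∀ x : α, g • x = x) → g = 1 := by
    intro g hg
    apply Subtype.ext
    ext x
    exact hg x
  have hcardα : Nat.card α = Fintype.card α := Nat.card_eq_fintype_card
  have hT : ∀ j : ℕ, j < k' → TransOn N α j := by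
    intro j
    induction j using Nat.strong_induction_on with
    | _ j IH =>
      intro hjk
      have hGj : IsMultiplyPreprimitive G α (j + 1) :=
        isMultiplyPreprimitive_of_le G α hGp (by omega) hk'E
      rcases transOn_step hfaith N hGj (fun i hi => IH i hi (by omega)) with h | h | h | h
      · exact h
      · exact absurd h.2 hN
      · exfalso
        obtain ⟨hj1, hreg⟩ := h
        subst hj1
        -- N is regular
        have hT0 := IH 0 (by omega) (by omega)
        have htrans : IsPretransitive N α := by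
          constructor
          intro x y
          obtain ⟨n, hnN, -, hn⟩ := hT0 ∅ Set.finite_empty (Set.ncard_empty α) x y
            (Set.notMem_empty _) (Set.notMem_empty _)
          exact ⟨⟨n, hnN⟩, hn⟩
        have hreg' : ∀ x : α, stabilizer N x = ⊥ := by
          intro x
          rw [Subgroup.eq_bot_iff_forall]
          intro n hn
          apply Subtype.ext
          exact hreg x n n.2 hn
        have hG2 : IsMultiplyPreprimitive G α 2 :=
          isMultiplyPreprimitive_of_le G α hGp (by omega) hk'E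
        rcases Cfsg.Agent.S0695.result (by omega) hG2 N htrans hreg' with h3 | ⟨hc, he, -⟩
        · omega
        · by_cases hk3 : k' + 1 = 3
          · exact hExc ⟨hk3, hc, he⟩
          · have hG3 : IsMultiplyPreprimitive G α 3 :=
              isMultiplyPreprimitive_of_le G α hGp (by omega) hk'E
            rcases Cfsg.Agent.S0696.result (by omega) hG3 N htrans hreg' with h3 | h4
            · omega
            · omega
      · exfalso
        obtain ⟨hj2, hcard⟩ := h
        omega
  have : ∀ j : ℕ, j ≤ k' → IsMultiplyPretransitive N α j := by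
    intro j
    induction j with
    | zero => intro _; exact is_zero_pretransitive
    | succ j ih =>
      intro hj
      exact isMultiplyPretransitive_succ_of_transOn N j (ih (by omega)) (hT j (by omega))
  exact this k' le_rfl

end Cfsg.Agent.S0698
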