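import Cfsg.Statements.S0699
import Cfsg.Agent.S0698
import Cfsg.Agent.Lib.H4.Wagner.Convert

set_option autoImplicit false
open Cfsg

namespace Cfsg.Agent.S0699

/-- Wagner's Theorem: a non-trivial normal subgroup of a triply transitive permutation group of odd degree at least 5 is triply transitive. -/
theorem result {α : Type*} [Fintype α] [DecidableEq α] (G : Subgroup (Equiv.Perm α)) (hodd : Odd (Fintype.card α)) (h5 : 5 ≤ Fintype.card α) (hG : MulAction.IsMultiplyPretransitive G α 3) (N : Subgroup G) [N.Normal] (hN : N ≠ ⊥) : MulAction.IsMultiplyPretransitive N α 3 := by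
  have hdeg : 3 < Fintype.card α := by omega
  have hN2 : MulAction.IsMultiplyPretransitive N α 2 := by
    rcases Cfsg.Agent.S0698.result G (k := 3) (by norm_num) hdeg hG N hN with h | ⟨-, -, h2⟩
    · exact h
    · exfalso
      have hG2 : MulAction.IsMultiplyPretransitive G α 2 :=
        MulAction.isMultiplyPretransitive_of_le (n := 3) (by norm_num)
          (by rw [Nat.card_eq_fintype_card]; omega)
      rcases Cfsg.Agent.S0698.result G (k := 2) (by norm_num) (by omega) hG2 N hN with
        h | ⟨h, -⟩
      · have htr : MulAction.IsPretransitive N α := MulAction.is_one_pretransitive_iff.1 h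
        have hpg : IsPGroup 2 N := by
          intro x
          refine ⟨1, ?_⟩
          rw [pow_one]
          apply Subtype.ext
          exact h2 x x.2
        haveI : Fact (Nat.Prime 2) := ⟨Nat.prime_two⟩
        have hnd : ¬ 2 ∣ Nat.card α := by
          rw [Nat.card_eq_fintype_card]
          intro hd
          rw [← even_iff_two_dvd] at hd
          exact (Nat.not_even_iff_odd.2 hodd) hd
        obtain ⟨c, hc⟩ := hpg.nonempty_fixed_point_of_prime_not_dvd_card α hnd
        have hall : ∀ z : α, z = c := by
          intro z
          obtain ⟨x, hx⟩ := MulAction.exists_smul_eq N c z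
          rw [← hx]
          exact hc x
        have : Fintype.card α ≤ 1 := by
          rw [Fintype.card_le_one_iff]
          intro z w
          rw [hall z, hall w]
        omega
      · omega
  apply Cfsg.Agent.Lib.H4.Wagner.wagner N _ _ hG hN2
  · rw [Nat.card_eq_fintype_card]
    exact hodd
  · rw [Nat.card_eq_fintype_card]
    exact h5

end Cfsg.Agent.S0699
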