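import Cfsg.Statements.S0700
import Mathlib
import Cfsg.Agent.Lib.H3.Wielandt
import Cfsg.Agent.Lib.H18.FrobeniusThm
import Cfsg.Agent.Lib.H1.Complement
import Cfsg.Agent.Lib.H23.BurnsidePQ

set_option autoImplicit false
set_option linter.unusedSectionVars false
set_option linter.style.haveILetI false
open Cfsg

namespace Cfsg.Agent.S0700

open MulAction
open scoped Pointwise commutatorElement
open Cfsg.Agent.Lib.H3

variable {G α : Type*} [Group G] [MulAction G α]

theorem exists_map2 (h2 : IsMultiplyPretransitive G α 2) {a b c d : α} (hab : a ≠ b)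
    (hcd : c ≠ d) : ∃ g : G, g • a = c ∧ g • b = d :=
  (is_two_pretransitive_iff.1 h2) hab hcd

/-- In the regular case all nonidentity elements of `N` are conjugate in `G`. -/
theorem conj_of_regular (h2 : IsMultiplyPretransitive G α 2) (N : Subgroup G) [hNn : N.Normal]
    (hreg : ∀ a : α, ∀ n ∈ N, n • a = a → n = 1) {n n' : G} (hn : n ∈ N)
    (hn' : n' ∈ N) (hn1 : n ≠ 1) (hn'1 : n' ≠ 1) (a : α) : ∃ g : G, g * n * g⁻¹ = n' := by
  have h1 : a ≠ n • a := fun h => hn1 (hreg a n hn h.symm)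
  have h2' : a ≠ n' • a := fun h => hn'1 (hreg a n' hn' h.symm)
  obtain ⟨g, hga, hgb⟩ := exists_map2 h2 h1 h2'
  refine ⟨g, ?_⟩
  have hmem : n'⁻¹ * (g * n * g⁻¹) ∈ N := N.mul_mem (N.inv_mem hn') (hNn.conj_mem n hn g)
  have hfix : (n'⁻¹ * (g * n * g⁻¹)) • a = a := by
    have hginv : g⁻¹ • a = a := by rw [inv_smul_eq_iff, hga]
    rw [mul_smul, mul_smul, mul_smul, hginv, hgb, inv_smul_smul]
  have := hreg a _ hmem hfix
  exact (inv_mul_eq_one.1 this).symm

/-- The regular case: `N` is elementary abelian. -/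
theorem regular_case [Finite G] [Nonempty α] (h2 : IsMultiplyPretransitive G α 2) (N : Subgroup G)
    [hNn : N.Normal] (hN : N ≠ ⊥) (hreg : ∀ a : α, ∀ n ∈ N, n • a = a → n = 1) :
    IsMulCommutative N ∧ ∃ p : ℕ, p.Prime ∧ ∀ n ∈ N, n ^ p = 1 := by
  obtain ⟨a⟩ := ‹Nonempty α›
  have hN1 : Nat.card N ≠ 1 := fun h => hN (Subgroup.card_eq_one.1 h)
  obtain ⟨p, hp, hpdvd⟩ := Nat.exists_prime_and_dvd hN1
  haveI : Fact p.Prime := ⟨hp⟩
  obtain ⟨x, hx⟩ := exists_prime_orderOf_dvd_card' p hpdvd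
  have hxG : orderOf (x : G) = p := by rw [Subgroup.orderOf_coe]; exact hx
  have hx1 : (x : G) ≠ 1 := by
    intro h
    rw [h, orderOf_one] at hxG
    exact hp.one_lt.ne hxG
  have hexp : ∀ n ∈ N, n ^ p = 1 := by
    intro n hn
    by_cases hn1 : n = 1
    · rw [hn1, one_pow]
    · obtain ⟨g, hg⟩ := conj_of_regular h2 N hreg x.2 hn hx1 hn1 a
      rw [← hg, conj_pow, ← hxG, pow_orderOf_eq_one, mul_one, mul_inv_cancel]
  have hpg : IsPGroup p N := by
    intro n
    refine ⟨1, ?_⟩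
    rw [pow_one]
    apply Subtype.ext
    rw [Subgroup.coe_pow]
    exact hexp n n.2
  haveI : Nontrivial N := (Subgroup.nontrivial_iff_ne_bot N).2 hN
  haveI := hpg.center_nontrivial
  obtain ⟨z, hz⟩ := exists_ne (1 : Subgroup.center N)
  have hz1 : ((z : N) : G) ≠ 1 := by
    intro h
    apply hz
    apply Subtype.ext
    apply Subtype.ext
    exact h
  have hzc : ∀ m : N, m * (z : N) = (z : N) * m := fun m => (Subgroup.mem_center_iff.1 z.2 m)
  refine ⟨⟨⟨fun u v => ?_⟩⟩, p, hp, hexp⟩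
  -- u is conjugate to z or trivial
  by_cases hu1 : (u : G) = 1
  · have : u = 1 := Subtype.ext hu1
    rw [this, one_mul, mul_one]
  obtain ⟨g, hg⟩ := conj_of_regular h2 N hreg (z : N).2 u.2 hz1 hu1 a
  -- g⁻¹ v g ∈ N commutes with z
  have hv' : g⁻¹ * (v : G) * g ∈ N := by
    have := hNn.conj_mem v v.2 g⁻¹
    simpa using this
  have hcomm := hzc ⟨_, hv'⟩
  have hcommG : g⁻¹ * (v : G) * g * ((z : N) : G) = ((z : N) : G) * (g⁻¹ * (v : G) * g) :=
    congrArg Subtype.val hcomm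
  apply Subtype.ext
  rw [Subgroup.coe_mul, Subgroup.coe_mul, ← hg]
  calc g * ((z : N) : G) * g⁻¹ * (v : G) = g * (((z : N) : G) * (g⁻¹ * (v : G) * g)) * g⁻¹ := by group
    _ = g * (g⁻¹ * (v : G) * g * ((z : N) : G)) * g⁻¹ := by rw [hcommG]
    _ = (v : G) * (g * ((z : N) : G) * g⁻¹) := by group



/-- `B` is a block for the subgroup `N` (elementwise formulation). -/
def NB (N : Subgroup G) (B : Set α) : Prop :=
  ∀ n ∈ N, ∀ x ∈ B, n • x ∈ B → n • B = B

theorem isBlock_iff_NB (N : Subgroup G) (B : Set α) : IsBlock N B ↔ NB N B := by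
  rw [isBlock_iff_smul_eq_of_mem]
  constructor
  · intro h n hn x hx hnx
    exact h (g := ⟨n, hn⟩) hx hnx
  · intro h n x hx hnx
    exact h n n.2 x hx hnx

theorem NB.smul {N : Subgroup G} [hNn : N.Normal] {B : Set α} (hB : NB N B) (g : G) :
    NB N (g • B) := by
  intro n hn x hx hnx
  obtain ⟨y, hy, rfl⟩ := hx
  obtain ⟨z, hz, hzn⟩ := hnx
  have hmem : g⁻¹ * n * g ∈ N := by
    have := hNn.conj_mem n hn g⁻¹
    simpa using this
  have h1 : (g⁻¹ * n * g) • y ∈ B := by
    have : (g⁻¹ * n * g) • y = z := by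
      rw [mul_smul, mul_smul, inv_smul_eq_iff]
      exact hzn.symm
    rw [this]; exact hz
  have h2 := hB _ hmem y hy h1
  calc n • g • B = g • (g⁻¹ * n * g) • B := by
        rw [← mul_smul, ← mul_smul]; congr 1; group
    _ = g • B := by rw [h2]

theorem NB.inter {N : Subgroup G} {B₁ B₂ : Set α} (h₁ : NB N B₁) (h₂ : NB N B₂) :
    NB N (B₁ ∩ B₂) := by
  intro n hn x hx hnx
  rw [Set.smul_set_inter, h₁ n hn x hx.1 hnx.1, h₂ n hn x hx.2 hnx.2]

/-- Key step: if the normal subgroup `N` of the 2-transitive group `G` has a nontrivial block,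
then no nonidentity element of `N` fixes two points. -/
theorem eq_one_of_fix_two [Finite α] [FaithfulSMul G α] (h2 : IsMultiplyPretransitive G α 2)
    (N : Subgroup G) [hNn : N.Normal] {B : Set α} (hB : NB N B) (hBnt : ¬ IsTrivialBlock B)
    {n : G} (hn : n ∈ N) {a c : α} (hac : a ≠ c) (hna : n • a = a) (hnc : n • c = c) : n = 1 := by
  classical
  -- choose a nontrivial block of minimal size
  let P : ℕ → Prop := fun k => ∃ B : Set α, NB N B ∧ ¬ IsTrivialBlock B ∧ B.ncard = k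
  have hP : ∃ k, P k := ⟨_, B, hB, hBnt, rfl⟩
  obtain ⟨B0, hB0, hB0nt, hB0card⟩ := Nat.find_spec hP
  have hmin : ∀ B' : Set α, NB N B' → ¬ IsTrivialBlock B' → B0.ncard ≤ B'.ncard := by
    intro B' h1 h2'
    rw [hB0card]
    exact Nat.find_min' hP ⟨B', h1, h2', rfl⟩
  have hB0ns : ¬ B0.Subsingleton := fun h => hB0nt (Or.inl h)
  have hB0univ : B0 ≠ Set.univ := fun h => hB0nt (Or.inr h)
  -- lines
  let L : Set (Set α) := {ℓ | ∃ g : G, ℓ = g • B0}
  have hLNB : ∀ ℓ ∈ L, NB N ℓ := by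
    rintro ℓ ⟨g, rfl⟩
    exact hB0.smul g
  have hLcard : ∀ ℓ ∈ L, ℓ.ncard = B0.ncard := by
    rintro ℓ ⟨g, rfl⟩
    exact Set.ncard_smul_set g B0
  have hLuniv : ∀ ℓ ∈ L, ℓ ≠ Set.univ := by
    rintro ℓ ⟨g, rfl⟩ h
    apply hB0univ
    have := congrArg (fun s => g⁻¹ • s) h
    simpa using this
  -- two lines sharing two points coincide
  have hLeq : ∀ ℓ₁ ∈ L, ∀ ℓ₂ ∈ L, ∀ x y : α, x ≠ y → x ∈ ℓ₁ → y ∈ ℓ₁ → x ∈ ℓ₂ → y ∈ ℓ₂ →
      ℓ₁ = ℓ₂ := by
    intro ℓ₁ h₁ ℓ₂ h₂ x y hxy hx1 hy1 hx2 hy2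
    have hI : NB N (ℓ₁ ∩ ℓ₂) := (hLNB ℓ₁ h₁).inter (hLNB ℓ₂ h₂)
    have hInt : ¬ IsTrivialBlock (ℓ₁ ∩ ℓ₂) := by
      rintro (h | h)
      · exact hxy (h ⟨hx1, hx2⟩ ⟨hy1, hy2⟩)
      · apply hLuniv ℓ₁ h₁
        rw [← Set.univ_subset_iff, ← h]
        exact Set.inter_subset_left
    have hc := hmin _ hI hInt
    have e1 : ℓ₁ ∩ ℓ₂ = ℓ₁ :=
      Set.eq_of_subset_of_ncard_le Set.inter_subset_left (by rw [hLcard ℓ₁ h₁]; exact hc)
        (Set.toFinite _)
    have e2 : ℓ₁ ∩ ℓ₂ = ℓ₂ :=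
      Set.eq_of_subset_of_ncard_le Set.inter_subset_right (by rw [hLcard ℓ₂ h₂]; exact hc)
        (Set.toFinite _)
    rw [← e1, e2]
  -- through two points there is a line
  have hLex : ∀ x y : α, x ≠ y → ∃ ℓ ∈ L, x ∈ ℓ ∧ y ∈ ℓ := by
    intro x y hxy
    rw [Set.not_subsingleton_iff] at hB0ns
    obtain ⟨b1, hb1, b2, hb2, hb⟩ := hB0ns
    obtain ⟨g, hg1, hg2⟩ := exists_map2 h2 hb hxy
    exact ⟨g • B0, ⟨g, rfl⟩, hg1 ▸ Set.smul_mem_smul_set hb1, hg2 ▸ Set.smul_mem_smul_set hb2⟩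
  -- an element of N fixing a point of a line fixes the line
  have hfixline : ∀ m ∈ N, ∀ ℓ ∈ L, ∀ x ∈ ℓ, m • x = x → ∀ y ∈ ℓ, m • y ∈ ℓ := by
    intro m hm ℓ hℓ x hx hmx y hy
    have := hLNB ℓ hℓ m hm x hx (by rw [hmx]; exact hx)
    rw [← this]
    exact Set.smul_mem_smul_set hy
  -- first case
  have hL1 : ∀ m ∈ N, ∀ u w : α, u ≠ w → m • u = u → m • w = w → ∀ ℓ₀ ∈ L, u ∈ ℓ₀ → w ∈ ℓ₀ →
      ∀ e : α, e ∉ ℓ₀ → m • e = e := by
    intro m hm u w huw hmu hmw ℓ₀ hℓ₀ hu hw e he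
    have hue : u ≠ e := fun h => he (h ▸ hu)
    have hwe : w ≠ e := fun h => he (h ▸ hw)
    obtain ⟨ℓ₁, h₁, hu1, he1⟩ := hLex u e hue
    obtain ⟨ℓ₂, h₂, hw2, he2⟩ := hLex w e hwe
    by_contra hme
    have hm1 : m • e ∈ ℓ₁ := hfixline m hm ℓ₁ h₁ u hu1 hmu e he1
    have hm2 : m • e ∈ ℓ₂ := hfixline m hm ℓ₂ h₂ w hw2 hmw e he2
    have h12 : ℓ₁ = ℓ₂ := hLeq ℓ₁ h₁ ℓ₂ h₂ e (m • e) (Ne.symm hme) he1 hm1 he2 hm2
    have h10 : ℓ₁ = ℓ₀ := hLeq ℓ₁ h₁ ℓ₀ hℓ₀ u w huw hu1 (h12 ▸ hw2) hu hw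
    exact he (h10 ▸ he1)
  -- n fixes every point
  obtain ⟨ℓ₀, hℓ₀, ha0, hc0⟩ := hLex a c hac
  have hex : ∃ f : α, f ∉ ℓ₀ := by
    by_contra h
    push Not at h
    exact hLuniv ℓ₀ hℓ₀ (Set.eq_univ_of_forall h)
  obtain ⟨f, hf⟩ := hex
  have hnf : n • f = f := hL1 n hn a c hac hna hnc ℓ₀ hℓ₀ ha0 hc0 f hf
  have haf : a ≠ f := fun h => hf (h ▸ ha0)
  obtain ⟨ℓ₁, hℓ₁, ha1, hf1⟩ := hLex a f haf
  have hall : ∀ e : α, n • e = e := by
    intro e
    by_cases he0 : e ∈ ℓ₀
    · by_cases hea : e = a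
      · rw [hea]; exact hna
      · -- e ∉ ℓ₁
        have he1 : e ∉ ℓ₁ := by
          intro he1
          have : ℓ₁ = ℓ₀ := hLeq ℓ₁ hℓ₁ ℓ₀ hℓ₀ a e (Ne.symm hea) ha1 he1 ha0 he0
          exact hf (this ▸ hf1)
        exact hL1 n hn a f haf hna hnf ℓ₁ hℓ₁ ha1 hf1 e he1
    · exact hL1 n hn a c hac hna hnc ℓ₀ hℓ₀ ha0 hc0 e he0
  apply FaithfulSMul.eq_of_smul_eq_smul (α := α)
  intro e
  rw [hall e, one_smul]


/-- `N` (normal, nontrivial) is transitive. -/
theorem normal_transitive [FaithfulSMul G α] (h2 : IsMultiplyPretransitive G α 2)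
    (N : Subgroup G) [hNn : N.Normal] (hN : N ≠ ⊥) : IsPretransitive N α := by
  haveI : IsPreprimitive G α := isPreprimitive_of_is_two_pretransitive h2
  apply IsQuasiPreprimitive.isPretransitive_of_normal (G := G) (X := α)
  intro h
  apply hN
  rw [eq_bot_iff]
  intro n hn
  rw [Subgroup.mem_bot]
  apply FaithfulSMul.eq_of_smul_eq_smul (α := α)
  intro x
  have hx : x ∈ fixedPoints N α := h ▸ Set.mem_univ x
  rw [one_smul]
  exact hx ⟨n, hn⟩

/-- The non-regular case: `N` is primitive. -/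
theorem primitive_case [Finite G] [Finite α] [FaithfulSMul G α]
    (h2 : IsMultiplyPretransitive G α 2)
    (N : Subgroup G) [hNn : N.Normal] (hN : N ≠ ⊥)
    (hmin : ∀ M : Subgroup G, M.Normal → M ≤ N → M = ⊥ ∨ M = N)
    (a : α) (hstab : ∃ n ∈ N, n ≠ 1 ∧ n • a = a) : IsPreprimitive N α := by
  classical
  haveI htr : IsPretransitive N α := normal_transitive h2 N hN
  by_contra hnp
  -- a nontrivial block
  have hex : ∃ B : Set α, NB N B ∧ ¬ IsTrivialBlock B := by
    by_contra hno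
    push Not at hno
    apply hnp
    apply IsPreprimitive.mk
    intro B hB
    exact hno B ((isBlock_iff_NB N B).1 hB)
  obtain ⟨B, hB, hBnt⟩ := hex
  have hfix2 : ∀ n ∈ N, ∀ x y : α, x ≠ y → n • x = x → n • y = y → n = 1 :=
    fun n hn x y hxy hx hy => eq_one_of_fix_two h2 N hB hBnt hn hxy hx hy
  -- the point stabilizer in N is a Frobenius complement
  set H : Subgroup N := stabilizer N a with hHdef
  obtain ⟨n₀, hn₀N, hn₀1, hn₀a⟩ := hstab
  have hH1 : H ≠ ⊥ := by
    intro h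
    have : (⟨n₀, hn₀N⟩ : N) ∈ H := by
      rw [hHdef, mem_stabilizer_iff]
      exact hn₀a
    rw [h, Subgroup.mem_bot] at this
    exact hn₀1 (congrArg Subtype.val this)
  -- a point moved by n₀
  obtain ⟨b, hb⟩ : ∃ b : α, n₀ • b ≠ b := by
    by_contra h
    push Not at h
    apply hn₀1
    apply FaithfulSMul.eq_of_smul_eq_smul (α := α)
    intro x
    rw [h x, one_smul]
  have hab : a ≠ b := fun h => hb (h ▸ hn₀a)
  have hH2 : H ≠ ⊤ := by
    intro h
    obtain ⟨g, hg⟩ := exists_smul_eq N a b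
    have : g ∈ H := h ▸ Subgroup.mem_top g
    rw [hHdef, mem_stabilizer_iff] at this
    exact hab (this.symm.trans hg)
  have hFC : Cfsg.IsFrobeniusComplement H := by
    refine ⟨hH1, hH2, ?_⟩
    intro g hg
    rw [eq_bot_iff]
    intro x hx
    rw [Subgroup.mem_bot]
    obtain ⟨hx1, hx2⟩ := Subgroup.mem_inf.1 hx
    rw [Cfsg.Agent.Lib.H1.mem_conj_smul_iff] at hx2
    have hxa : (x : G) • a = a := by
      have := hx1
      rw [hHdef, mem_stabilizer_iff] at this
      exact this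
    have hga : (g : G) • a ≠ a := by
      intro h
      apply hg
      rw [hHdef, mem_stabilizer_iff]
      exact h
    have hxga : (x : G) • (g : G) • a = (g : G) • a := by
      have h3 : (g⁻¹ * x * g) • a = a := by
        rw [hHdef, mem_stabilizer_iff] at hx2
        exact hx2
      have h4 : ((g : G)⁻¹ * (x : G) * (g : G)) • a = a := h3
      rw [mul_smul, mul_smul, inv_smul_eq_iff] at h4
      exact h4
    apply Subtype.ext
    exact hfix2 x x.2 a ((g : G) • a) (Ne.symm hga) hxa hxga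
  set K := Cfsg.Agent.Lib.H18.frobKer H hFC with hKdef
  -- characterization of K
  have hKmem : ∀ x : N, x ∈ K ↔ x = 1 ∨ ∀ ω : α, (x : G) • ω ≠ ω := by
    intro x
    rw [hKdef, Cfsg.Agent.Lib.H18.mem_frobKer hFC]
    show (x = 1 ∨ ∀ g : N, x ∉ MulAut.conj g • H) ↔ _
    constructor
    · rintro (h | h)
      · exact Or.inl h
      · right
        intro ω hω
        obtain ⟨g, hg⟩ := exists_smul_eq N a ω
        apply h g
        rw [Cfsg.Agent.Lib.H1.mem_conj_smul_iff, hHdef, mem_stabilizer_iff]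
        show ((g : G)⁻¹ * (x : G) * (g : G)) • a = a
        have hg' : (g : G) • a = ω := hg
        rw [mul_smul, mul_smul, hg', hω, ← hg', inv_smul_smul]
    · rintro (h | h)
      · exact Or.inl h
      · right
        intro g hg
        rw [Cfsg.Agent.Lib.H1.mem_conj_smul_iff, hHdef, mem_stabilizer_iff] at hg
        have h4 : ((g : G)⁻¹ * (x : G) * (g : G)) • a = a := hg
        rw [mul_smul, mul_smul, inv_smul_eq_iff] at h4
        exact h _ h4
  -- K gives a normal subgroup of G inside N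
  set M : Subgroup G := K.map N.subtype with hMdef
  have hMN : M ≤ N := by
    rintro _ ⟨x, -, rfl⟩
    exact x.2
  have hMn : M.Normal := by
    refine ⟨fun y hy g => ?_⟩
    obtain ⟨x, hx, rfl⟩ := hy
    have hmemN : g * (x : G) * g⁻¹ ∈ N := hNn.conj_mem x x.2 g
    refine ⟨⟨_, hmemN⟩, ?_, rfl⟩
    rw [SetLike.mem_coe, hKmem]
    rcases (hKmem x).1 hx with h | h
    · left
      apply Subtype.ext
      show g * (x : G) * g⁻¹ = 1
      rw [h]; simp
    · right
      intro ω hω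
      apply h (g⁻¹ • ω)
      have : (g * (x : G) * g⁻¹) • ω = ω := hω
      rw [mul_smul, mul_smul] at this
      exact eq_inv_smul_iff.2 this
  have hcardK : Nat.card K = Nat.card α := by
    rw [hKdef, Cfsg.Agent.Lib.H18.card_frobKer, hHdef, index_stabilizer_of_transitive]
  rcases hmin M hMn hMN with h | h
  · have hKbot : K = ⊥ := by
      rw [hMdef] at h
      exact (Subgroup.map_eq_bot_iff_of_injective K N.subtype_injective).1 h
    rw [hKbot, Subgroup.card_bot] at hcardK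
    have : Subsingleton α := (Nat.card_eq_one_iff_unique.1 hcardK.symm).1
    exact hab (Subsingleton.elim a b)
  · have hKtop : K = ⊤ := by
      rw [eq_top_iff]
      intro x _
      have hxM : (x : G) ∈ M := by rw [h]; exact x.2
      obtain ⟨y, hy, hyx⟩ := hxM
      have : y = x := Subtype.ext hyx
      exact this ▸ hy
    have := Cfsg.Agent.Lib.H18.frobKer_inf H hFC
    rw [← hKdef, hKtop, top_inf_eq] at this
    exact hH1 this


section Cj

variable (N : Subgroup G) [hNn : N.Normal]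

/-- conjugate of a subgroup of `N` by an element of `G` -/
def cj (g : G) (M : Subgroup N) : Subgroup N :=
  M.map (MulAut.conjNormal g : N ≃* N).toMonoidHom

theorem mem_cj {g : G} {M : Subgroup N} {x : N} :
    x ∈ cj N g M ↔ ∃ y ∈ M, g * (y : G) * g⁻¹ = (x : G) := by
  constructor
  · rintro ⟨y, hy, rfl⟩
    exact ⟨y, hy, (MulAut.conjNormal_apply g y).symm⟩
  · rintro ⟨y, hy, h⟩
    refine ⟨y, hy, ?_⟩
    apply Subtype.ext
    rw [← h]
    exact MulAut.conjNormal_apply g y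

theorem cj_mul (g h : G) (M : Subgroup N) : cj N (g * h) M = cj N g (cj N h M) := by
  unfold cj
  rw [Subgroup.map_map, map_mul]
  rfl

theorem cj_one (M : Subgroup N) : cj N 1 M = M := by
  unfold cj
  rw [map_one]
  exact Subgroup.map_id M

theorem cj_injective (g : G) : Function.Injective (cj N g) := by
  intro M M' h
  have := congrArg (cj N g⁻¹) h
  rwa [← cj_mul, ← cj_mul, inv_mul_cancel, cj_one, cj_one] at this

theorem card_cj (g : G) (M : Subgroup N) : Nat.card (cj N g M) = Nat.card M :=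
  Subgroup.card_map_of_injective (MulAut.conjNormal g : N ≃* N).injective

theorem isMinNormal_cj (g : G) {M : Subgroup N} (hM : IsMinNormal M) : IsMinNormal (cj N g M) :=
  hM.map_equiv _

end Cj

section Reg

variable (N : Subgroup G) (a : α)

theorem card_le_of_semireg [Finite α] (S : Subgroup N)
    (hS : ∀ s ∈ S, ((s : N) : G) • a = a → s = 1) : Nat.card S ≤ Nat.card α := by
  apply Nat.card_le_card_of_injective (fun s : S => (((s : N) : G)) • a)
  intro s s' h
  have h1 : (((s' : N) : G)⁻¹ * ((s : N) : G)) • a = a := by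
    rw [mul_smul, inv_smul_eq_iff]
    exact h
  have h2 := hS ((s' : N)⁻¹ * (s : N)) (S.mul_mem (S.inv_mem s'.2) s.2) h1
  apply Subtype.ext
  exact (inv_mul_eq_one.1 h2).symm

theorem card_eq_of_regular [Finite α] (S : Subgroup N)
    (hS : ∀ s ∈ S, ((s : N) : G) • a = a → s = 1)
    (hT : ∀ ω : α, ∃ s ∈ S, ((s : N) : G) • a = ω) : Nat.card S = Nat.card α := by
  apply Nat.card_eq_of_bijective (fun s : S => (((s : N) : G)) • a)
  constructor
  · intro s s' h
    have h1 : (((s' : N) : G)⁻¹ * ((s : N) : G)) • a = a := by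
      rw [mul_smul, inv_smul_eq_iff]
      exact h
    have h2 := hS ((s' : N)⁻¹ * (s : N)) (S.mul_mem (S.inv_mem s'.2) s.2) h1
    apply Subtype.ext
    exact (inv_mul_eq_one.1 h2).symm
  · intro ω
    obtain ⟨s, hs, h⟩ := hT ω
    exact ⟨⟨s, hs⟩, h⟩

/-- an element commuting with a transitive subgroup and fixing a point is trivial -/
theorem eq_one_of_commute_transitive [FaithfulSMul G α] (S : Subgroup N)
    (hT : ∀ ω : α, ∃ s ∈ S, ((s : N) : G) • a = ω) (x : N)
    (hx : ∀ s ∈ S, x * s = s * x) (hxa : (x : G) • a = a) : x = 1 := by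
  apply Subtype.ext
  apply FaithfulSMul.eq_of_smul_eq_smul (α := α)
  intro ω
  obtain ⟨s, hs, rfl⟩ := hT ω
  have h := congrArg (fun y : N => (y : G)) (hx s hs)
  simp only [Subgroup.coe_mul] at h
  rw [Subgroup.coe_one, one_smul, ← mul_smul, h, mul_smul, hxa]

end Reg

theorem exists_eq_pow_mul_pow {n : ℕ} (hn : n ≠ 0) (h : n.primeFactors.card ≤ 2) :
    ∃ p q a b : ℕ, p.Prime ∧ q.Prime ∧ n = p ^ a * q ^ b := by
  have hprod : n = ∏ p ∈ n.primeFactors, p ^ n.factorization p := by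
    conv_lhs => rw [← Nat.prod_factorization_pow_eq_self hn]
    exact Nat.prod_factorization_eq_prod_primeFactors _
  have hcases : n.primeFactors.card = 0 ∨ n.primeFactors.card = 1 ∨ n.primeFactors.card = 2 := by
    omega
  rcases hcases with h0 | h1 | h2
  · rw [Finset.card_eq_zero] at h0
    rw [h0, Finset.prod_empty] at hprod
    exact ⟨2, 2, 0, 0, Nat.prime_two, Nat.prime_two, by rw [hprod]; norm_num⟩
  · obtain ⟨p, hp⟩ := Finset.card_eq_one.1 h1
    have hpp : p.Prime := Nat.prime_of_mem_primeFactors (hp ▸ Finset.mem_singleton_self p)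
    rw [hp, Finset.prod_singleton] at hprod
    exact ⟨p, p, n.factorization p, 0, hpp, hpp, by rw [pow_zero, mul_one]; exact hprod⟩
  · obtain ⟨p, q, hpq, hs⟩ := Finset.card_eq_two.1 h2
    have hpp : p.Prime := Nat.prime_of_mem_primeFactors (by rw [hs]; simp)
    have hqp : q.Prime := Nat.prime_of_mem_primeFactors (by rw [hs]; simp)
    rw [hs, Finset.prod_pair hpq] at hprod
    exact ⟨p, q, _, _, hpp, hqp, hprod⟩

/-- A finite group in which among any three nonidentity elements two have the same order has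
order `p^a q^b`. -/
theorem card_of_two_orders {M : Type*} [Group M] [Finite M]
    (h : ∀ x y z : M, x ≠ 1 → y ≠ 1 → z ≠ 1 →
      orderOf x = orderOf y ∨ orderOf x = orderOf z ∨ orderOf y = orderOf z) :
    ∃ p q a b : ℕ, p.Prime ∧ q.Prime ∧ Nat.card M = p ^ a * q ^ b := by
  apply exists_eq_pow_mul_pow Nat.card_pos.ne'
  by_contra hcon
  push Not at hcon
  obtain ⟨p, hp, q, hq, r, hr, hpq, hpr, hqr⟩ := Finset.two_lt_card.1 hcon
  have hpp := Nat.prime_of_mem_primeFactors hp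
  have hqp := Nat.prime_of_mem_primeFactors hq
  have hrp := Nat.prime_of_mem_primeFactors hr
  haveI : Fact p.Prime := ⟨hpp⟩
  haveI : Fact q.Prime := ⟨hqp⟩
  haveI : Fact r.Prime := ⟨hrp⟩
  obtain ⟨x, hx⟩ := exists_prime_orderOf_dvd_card' p (Nat.dvd_of_mem_primeFactors hp)
  obtain ⟨y, hy⟩ := exists_prime_orderOf_dvd_card' q (Nat.dvd_of_mem_primeFactors hq)
  obtain ⟨z, hz⟩ := exists_prime_orderOf_dvd_card' r (Nat.dvd_of_mem_primeFactors hr)
  have hne : ∀ (w : M) (s : ℕ), s.Prime → orderOf w = s → w ≠ 1 := by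
    intro w s hs hw h1
    rw [h1, orderOf_one] at hw
    exact hs.one_lt.ne hw
  rcases h x y z (hne x p hpp hx) (hne y q hqp hy) (hne z r hrp hz) with h1 | h1 | h1
  · rw [hx, hy] at h1; exact hpq h1
  · rw [hx, hz] at h1; exact hpr h1
  · rw [hy, hz] at h1; exact hqr h1


/-- The primitive case: `N` is simple. -/
theorem simple_case [Finite G] [Finite α] [FaithfulSMul G α]
    (h2 : IsMultiplyPretransitive G α 2)
    (N : Subgroup G) [hNn : N.Normal] (hN : N ≠ ⊥)
    (hmin : ∀ M : Subgroup G, M.Normal → M ≤ N → M = ⊥ ∨ M = N)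
    (hprim : IsPreprimitive N α) : IsSimpleGroup N := by
  classical
  haveI : Nontrivial N := (Subgroup.nontrivial_iff_ne_bot N).2 hN
  by_contra hns
  have hex : ∃ M0 : Subgroup N, M0.Normal ∧ M0 ≠ ⊥ ∧ M0 ≠ ⊤ := by
    by_contra hno
    push Not at hno
    apply hns
    refine ⟨fun H hH => ?_⟩
    by_cases h : H = ⊥
    · exact Or.inl h
    · exact Or.inr (hno H hH h)
  obtain ⟨M0, hM0n, hM01, hM0top⟩ := hex
  obtain ⟨M, hMmin, hMM0⟩ := exists_isMinNormal_le M0 hM0n hM01
  have hMtop : M ≠ ⊤ := fun h => hM0top (top_le_iff.1 (h ▸ hMM0))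
  obtain ⟨hMn, hM1, hMminimal⟩ := hMmin
  have hMmin : IsMinNormal M := ⟨hMn, hM1, hMminimal⟩
  -- a point
  obtain ⟨a⟩ : Nonempty α := by
    by_contra h
    rw [not_nonempty_iff] at h
    apply hN
    rw [eq_bot_iff]
    intro n _
    rw [Subgroup.mem_bot]
    apply FaithfulSMul.eq_of_smul_eq_smul (α := α)
    intro x
    exact h.elim x
  -- nontrivial normal subgroups of N are transitive
  have htrans : ∀ S : Subgroup N, S.Normal → S ≠ ⊥ → ∀ ω : α, ∃ s ∈ S, ((s : N) : G) • a = ω := by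
    intro S hSn hS1 ω
    haveI := hSn
    haveI : IsPretransitive S α := by
      apply IsQuasiPreprimitive.isPretransitive_of_normal (G := N) (X := α)
      intro h
      apply hS1
      rw [eq_bot_iff]
      intro s hs
      rw [Subgroup.mem_bot]
      apply Subtype.ext
      apply FaithfulSMul.eq_of_smul_eq_smul (α := α)
      intro x
      have hx : x ∈ fixedPoints S α := h ▸ Set.mem_univ x
      rw [Subgroup.coe_one, one_smul]
      exact hx ⟨s, hs⟩
    obtain ⟨s, hs⟩ := exists_smul_eq S a ω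
    exact ⟨s, s.2, hs⟩
  -- some conjugate of M differs from M
  have hexg : ∃ g : G, cj N g M ≠ M := by
    by_contra hno
    push Not at hno
    have hMG : (M.map N.subtype).Normal := by
      refine ⟨fun y hy g => ?_⟩
      obtain ⟨x, hx, rfl⟩ := hy
      have hmem : (MulAut.conjNormal g x : N) ∈ M := by
        rw [← hno g]
        exact ⟨x, hx, rfl⟩
      refine ⟨_, hmem, ?_⟩
      exact MulAut.conjNormal_apply g x
    have hle : M.map N.subtype ≤ N := by
      rintro _ ⟨x, -, rfl⟩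
      exact x.2
    rcases hmin _ hMG hle with h | h
    · exact hM1 ((Subgroup.map_eq_bot_iff_of_injective M N.subtype_injective).1 h)
    · apply hMtop
      rw [eq_top_iff]
      intro x _
      have hxM : (x : G) ∈ M.map N.subtype := by rw [h]; exact x.2
      obtain ⟨y, hy, hyx⟩ := hxM
      have : y = x := Subtype.ext hyx
      exact this ▸ hy
  obtain ⟨g₀, hg₀⟩ := hexg
  set M' := cj N g₀ M with hM'def
  have hM'min : IsMinNormal M' := isMinNormal_cj N g₀ hMmin
  -- distinct minimal normal subgroups commute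
  have hcomm : ∀ M₁ M₂ : Subgroup N, IsMinNormal M₁ → IsMinNormal M₂ → M₁ ≠ M₂ →
      ∀ x ∈ M₁, ∀ y ∈ M₂, x * y = y * x := by
    intro M₁ M₂ h₁ h₂ hne x hx y hy
    have hdis : Disjoint M₁ M₂ := by
      rw [disjoint_iff]
      haveI := h₁.1
      haveI := h₂.1
      rcases h₁.2.2 (M₁ ⊓ M₂) inferInstance inf_le_left with h | h
      · exact h
      · exfalso
        have hle : M₁ ≤ M₂ := h ▸ inf_le_right
        rcases h₂.2.2 M₁ h₁.1 hle with h' | h'
        · exact h₁.2.1 h'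
        · exact hne h'
    exact (Subgroup.commute_of_normal_of_disjoint M₁ M₂ h₁.1 h₂.1 hdis x y hx hy).eq
  have hTM := htrans M hMn hM1
  have hTM' := htrans M' hM'min.1 hM'min.2.1
  -- M' and M are semiregular
  have hsemi : ∀ M₁ M₂ : Subgroup N, IsMinNormal M₁ → IsMinNormal M₂ → M₁ ≠ M₂ →
      ∀ s ∈ M₂, ((s : N) : G) • a = a → s = 1 := by
    intro M₁ M₂ h₁ h₂ hne s hs hsa
    apply eq_one_of_commute_transitive N a M₁ (htrans M₁ h₁.1 h₁.2.1) s _ hsa
    intro t ht
    exact (hcomm M₁ M₂ h₁ h₂ hne t ht s hs).symm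
  have hsemiM' := hsemi M M' hMmin hM'min (Ne.symm hg₀)
  have hsemiM := hsemi M' M hM'min hMmin hg₀
  have hcardM : Nat.card M = Nat.card α := card_eq_of_regular N a M hsemiM hTM
  have hcardM' : Nat.card M' = Nat.card α := card_eq_of_regular N a M' hsemiM' hTM'
  -- the centralizer of M in N
  set C : Subgroup N := Subgroup.centralizer (M : Set N) with hCdef
  have hCsemi : ∀ s ∈ C, ((s : N) : G) • a = a → s = 1 := by
    intro s hs hsa
    apply eq_one_of_commute_transitive N a M hTM s _ hsa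
    intro t ht
    exact (Subgroup.mem_centralizer_iff.1 hs t ht).symm
  have hCcard : Nat.card C ≤ Nat.card α := card_le_of_semireg N a C hCsemi
  -- every conjugate of M is M or M'
  have hconj : ∀ M₂ : Subgroup N, IsMinNormal M₂ → Nat.card M₂ = Nat.card α → M₂ ≠ M → M₂ = C := by
    intro M₂ h₂ hc hne
    have hle : M₂ ≤ C := by
      intro y hy
      rw [hCdef, Subgroup.mem_centralizer_iff]
      intro x hx
      exact hcomm M M₂ hMmin h₂ (Ne.symm hne) x hx y hy
    exact Subgroup.eq_of_le_of_card_ge hle (by rw [hc]; exact hCcard)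
  have hM'C : M' = C := hconj M' hM'min hcardM' hg₀
  have hcj : ∀ g : G, cj N g M = M ∨ cj N g M = M' := by
    intro g
    by_cases h : cj N g M = M
    · exact Or.inl h
    · right
      rw [hM'C]
      exact hconj _ (isMinNormal_cj N g hMmin) (by rw [card_cj, hcardM]) h
  -- product of two elements moving M fixes M
  have hprod : ∀ g h : G, cj N g M ≠ M → cj N h M ≠ M → cj N (g * h) M = M := by
    intro g h hg hh
    have h1 : cj N h M = M' := (hcj h).resolve_left hh
    have h2 : cj N g M = M' := (hcj g).resolve_left hg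
    rw [cj_mul, h1]
    by_contra hne
    have h3 : cj N g M' = M' := by
      have := hcj (g * h)
      rw [cj_mul, h1] at this
      exact this.resolve_left hne
    have : M' = M := cj_injective N g (h3.trans h2.symm)
    exact hg₀ this
  -- M is not commutative
  have hMnc : ¬ ∀ x ∈ M, ∀ y ∈ M, x * y = y * x := by
    intro h
    have hle : M ≤ C := by
      intro y hy
      rw [hCdef, Subgroup.mem_centralizer_iff]
      intro x hx
      exact h x hx y hy
    have : M = C := Subgroup.eq_of_le_of_card_ge hle (by rw [hcardM]; exact hCcard)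
    exact hg₀ (hM'C.trans this.symm)
  -- conjugation by an element fixing a and stabilizing M
  have hkey : ∀ g : G, g • a = a → cj N g M = M → ∀ m₁ ∈ M, ∀ m₂ ∈ M,
      g • ((m₁ : N) : G) • a = ((m₂ : N) : G) • a → orderOf m₁ = orderOf m₂ := by
    intro g hga hgM m₁ hm₁ m₂ hm₂ h
    have hmem : (MulAut.conjNormal g m₁ : N) ∈ M := by
      rw [← hgM]
      exact ⟨m₁, hm₁, rfl⟩
    have heq : (MulAut.conjNormal g m₁ : N) = m₂ := by
      have h1 : (m₂⁻¹ * (MulAut.conjNormal g m₁ : N)) = 1 := by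
        apply hsemiM _ (M.mul_mem (M.inv_mem hm₂) hmem)
        rw [Subgroup.coe_mul, MulAut.conjNormal_apply, Subgroup.coe_inv, mul_smul, mul_smul,
          mul_smul, inv_smul_eq_iff.2 hga.symm, h, inv_smul_smul]
      exact (inv_mul_eq_one.1 h1).symm
    rw [← heq]
    exact (MulEquiv.orderOf_eq (MulAut.conjNormal g : N ≃* N) m₁).symm
  -- among three nonidentity elements of M two have the same order
  have horders : ∀ x y z : M, x ≠ 1 → y ≠ 1 → z ≠ 1 →
      orderOf x = orderOf y ∨ orderOf x = orderOf z ∨ orderOf y = orderOf z := by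
    intro x y z hx hy hz
    have hmove : ∀ w : M, w ≠ 1 → a ≠ (((w : N)) : G) • a := by
      intro w hw h
      apply hw
      apply Subtype.ext
      exact hsemiM w w.2 h.symm
    obtain ⟨g₂, hg₂a, hg₂⟩ := exists_map2 h2 (hmove x hx) (hmove y hy)
    obtain ⟨g, hga, hg⟩ := exists_map2 h2 (hmove y hy) (hmove z hz)
    have ho : ∀ w : M, orderOf w = orderOf (w : N) := fun w => (Subgroup.orderOf_coe w).symm
    rw [ho x, ho y, ho z]
    by_cases h₂ : cj N g₂ M = M
    · left
      exact hkey g₂ hg₂a h₂ x x.2 y y.2 hg₂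
    by_cases h₃ : cj N g M = M
    · right; right
      exact hkey g hga h₃ y y.2 z z.2 hg
    · right; left
      have h₄ := hprod g g₂ h₃ h₂
      apply hkey (g * g₂) (by rw [mul_smul, hg₂a, hga]) h₄ x x.2 z z.2
      rw [mul_smul, hg₂, hg]
  obtain ⟨p, q, e, f, hp, hq, hcard⟩ := card_of_two_orders horders
  haveI : Group.IsSolvable M :=
    Cfsg.Agent.Lib.H23.isSolvable_of_card_eq_prime_pow_mul_prime_pow p q e f hp hq hcard
  haveI : Nontrivial M := (Subgroup.nontrivial_iff_ne_bot M).2 hM1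
  have hlt := Group.IsSolvable.commutator_lt_top_of_nontrivial M
  have hcomm' : ⁅M, M⁆ = ⊥ ∨ ⁅M, M⁆ = M := by
    haveI := hMn
    exact hMminimal ⁅M, M⁆ inferInstance (Subgroup.commutator_le_left M M)
  rcases hcomm' with h | h
  · apply hMnc
    intro x hx y hy
    have : ⁅x, y⁆ ∈ ⁅M, M⁆ := Subgroup.commutator_mem_commutator hx hy
    rw [h, Subgroup.mem_bot, commutatorElement_eq_one_iff_mul_comm] at this
    exact this
  · rw [← Subgroup.map_subtype_commutator] at h
    have : commutator M = ⊤ := by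
      rw [eq_top_iff]
      intro x _
      have hx : (x : N) ∈ (commutator M).map M.subtype := by rw [h]; exact x.2
      obtain ⟨y, hy, hyx⟩ := hx
      have : y = x := Subtype.ext hyx
      exact this ▸ hy
    exact hlt.ne this


/-- Burnside's theorem, abstract form. -/
theorem burnside_abstract [Finite G] [Finite α] [FaithfulSMul G α]
    (h2 : IsMultiplyPretransitive G α 2)
    (N : Subgroup G) [hNn : N.Normal] (hN : N ≠ ⊥)
    (hmin : ∀ M : Subgroup G, M.Normal → M ≤ N → M = ⊥ ∨ M = N) :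
    (IsMulCommutative N ∧ (∃ p : ℕ, p.Prime ∧ ∀ n ∈ N, n ^ p = 1) ∧
      ∀ a : α, MulAction.stabilizer N a = ⊥) ∨
    (IsSimpleGroup N ∧ MulAction.IsPreprimitive N α) := by
  by_cases hreg : ∀ a : α, ∀ n ∈ N, n • a = a → n = 1
  · left
    haveI : Nonempty α := by
      by_contra h
      rw [not_nonempty_iff] at h
      apply hN
      rw [eq_bot_iff]
      intro n _
      rw [Subgroup.mem_bot]
      apply FaithfulSMul.eq_of_smul_eq_smul (α := α)
      intro x
      exact h.elim x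
    obtain ⟨h1, h2'⟩ := regular_case h2 N hN hreg
    refine ⟨h1, h2', ?_⟩
    intro a
    rw [eq_bot_iff]
    intro x hx
    rw [Subgroup.mem_bot]
    apply Subtype.ext
    exact hreg a x x.2 (mem_stabilizer_iff.1 hx)
  · right
    push Not at hreg
    obtain ⟨a, n, hn, hna, hn1⟩ := hreg
    have hprim := primitive_case h2 N hN hmin a ⟨n, hn, hn1, hna⟩
    exact ⟨simple_case h2 N hN hmin hprim, hprim⟩

theorem result {α : Type*} [Fintype α] [DecidableEq α] (G : Subgroup (Equiv.Perm α)) (hG : MulAction.IsMultiplyPretransitive G α 2) (N : Subgroup G) [N.Normal] (hN : N ≠ ⊥) (hmin : ∀ M : Subgroup G, M.Normal → M ≤ N → M = ⊥ ∨ M = N) : (IsMulCommutative N ∧ (∃ p : ℕ, p.Prime ∧ ∀ n ∈ N, n ^ p = 1) ∧ ∀ a : α, MulAction.stabilizer N a = ⊥) ∨ (IsSimpleGroup N ∧ MulAction.IsPreprimitive N α) :=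
  burnside_abstract hG N hN hmin

end Cfsg.Agent.S0700
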