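import Cfsg.Statements.S0701
import Mathlib

set_option autoImplicit false
universe u
open Cfsg

namespace Cfsg.Agent.S0701

theorem result {α : Type*} (G : Subgroup (Equiv.Perm α)) [MulAction.IsPretransitive G α] : (∀ c ∈ Subgroup.centralizer (G : Set (Equiv.Perm α)), ∀ a : α, c a = a → c = 1) ∧ (MulAction.IsPretransitive (Subgroup.centralizer (G : Set (Equiv.Perm α))) α ↔ ∀ a : α, MulAction.stabilizer G a = ⊥) := by
  have hcomm : ∀ c ∈ Subgroup.centralizer (G : Set (Equiv.Perm α)), ∀ g ∈ G, ∀ x : α, c (g x) = g (c x) := by
    intro c hc g hg x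
    have := hc g hg
    have h2 := congrArg (fun τ : Equiv.Perm α => τ x) this
    simp only [Equiv.Perm.coe_mul, Function.comp_apply] at h2
    exact h2.symm
  refine ⟨?_, ?_, ?_⟩
  · intro c hc a hca
    ext b
    obtain ⟨g, hg⟩ := MulAction.exists_smul_eq G a b
    have hg' : (g : Equiv.Perm α) a = b := hg
    rw [← hg', hcomm c hc g g.2, hca]
    rfl
  · intro htrans a
    rw [Subgroup.eq_bot_iff_forall]
    intro g hg
    rw [MulAction.mem_stabilizer_iff] at hg
    have hg' : (g : Equiv.Perm α) a = a := hg
    apply Subtype.ext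
    ext b
    obtain ⟨c, hc⟩ := htrans.exists_smul_eq a b
    have hc' : (c : Equiv.Perm α) a = b := hc
    rw [← hc', ← hcomm c c.2 g g.2, hg']
    rfl
  · intro hreg
    constructor
    intro a b
    have hbij : ∀ x : α, Function.Bijective (fun g : G => g • x) := by
      intro x
      constructor
      · intro g h hgh
        have : g⁻¹ * h ∈ MulAction.stabilizer G x := by
          rw [MulAction.mem_stabilizer_iff, mul_smul]
          simp only at hgh
          rw [← hgh, inv_smul_smul]
        rw [hreg x, Subgroup.mem_bot] at this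
        exact (inv_mul_eq_one.mp this)
      · intro y
        exact MulAction.exists_smul_eq G x y
    let ea : G ≃ α := Equiv.ofBijective _ (hbij a)
    let eb : G ≃ α := Equiv.ofBijective _ (hbij b)
    let c : Equiv.Perm α := ea.symm.trans eb
    have hc_apply : ∀ g : G, c (g • a) = g • b := by
      intro g
      have : ea g = g • a := rfl
      rw [← this]
      simp [c, eb]
    have hcmem : c ∈ Subgroup.centralizer (G : Set (Equiv.Perm α)) := by
      intro h hh
      ext x
      obtain ⟨g, rfl⟩ := (hbij a).2 x
      simp only [Equiv.Perm.coe_mul, Function.comp_apply]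
      have h1 : h ((g : G) • a) = ((⟨h, hh⟩ * g : G)) • a := by
        rw [mul_smul]; rfl
      rw [h1, hc_apply, hc_apply, mul_smul]
      rfl
    refine ⟨⟨c, hcmem⟩, ?_⟩
    have := hc_apply 1
    simpa using this

end Cfsg.Agent.S0701
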