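import Cfsg.Statements.S0702
import Cfsg.Agent.S0701
import Mathlib

set_option autoImplicit false
universe u
open Cfsg

namespace Cfsg.Agent.S0702

open MulAction

variable {α : Type*} (G : Subgroup (Equiv.Perm α)) [MulAction.IsPretransitive G α] (a : α)

/-- the (noncomputable) representative of a point -/
noncomputable def rep (x : α) : G := Classical.choose (exists_smul_eq G a x)

theorem rep_spec (x : α) : (rep G a x) • a = x := Classical.choose_spec (exists_smul_eq G a x)

/-- the map `g • a ↦ (g * n⁻¹) • a` -/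
noncomputable def fn (n : G) (x : α) : α := (rep G a x * n⁻¹) • a

theorem fn_apply {n : G} (hn : n ∈ Subgroup.normalizer ((stabilizer G a : Subgroup G) : Set G))
    (g : G) : fn G a n (g • a) = (g * n⁻¹) • a := by
  unfold fn
  set g' := rep G a (g • a) with hg'
  have h1 : g' • a = g • a := rep_spec G a (g • a)
  have h2 : g⁻¹ * g' ∈ stabilizer G a := by
    rw [mem_stabilizer_iff, mul_smul, h1, inv_smul_smul]
  have h3 : n * (g⁻¹ * g') * n⁻¹ ∈ stabilizer G a := (Subgroup.mem_normalizer_iff.mp hn _).mp h2
  rw [mem_stabilizer_iff] at h3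
  have h4 : (g * n⁻¹) • ((n * (g⁻¹ * g') * n⁻¹) • a) = (g * n⁻¹) • a := by rw [h3]
  rw [← h4, ← mul_smul]
  congr 1
  group

/-- the permutation attached to an element of the normalizer -/
noncomputable def cn (n : G) (hn : n ∈ Subgroup.normalizer ((stabilizer G a : Subgroup G) : Set G)) :
    Equiv.Perm α where
  toFun := fn G a n
  invFun := fn G a n⁻¹
  left_inv x := by
    obtain ⟨g, rfl⟩ := exists_smul_eq G a x
    rw [fn_apply G a hn, fn_apply G a (Subgroup.inv_mem _ hn)]
    congr 1
    group
  right_inv x := by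
    obtain ⟨g, rfl⟩ := exists_smul_eq G a x
    rw [fn_apply G a (Subgroup.inv_mem _ hn), fn_apply G a hn]
    congr 1
    group

theorem cn_apply {n : G} (hn : n ∈ Subgroup.normalizer ((stabilizer G a : Subgroup G) : Set G))
    (g : G) : cn G a n hn (g • a) = (g * n⁻¹) • a := fn_apply G a hn g

theorem cn_mem {n : G} (hn : n ∈ Subgroup.normalizer ((stabilizer G a : Subgroup G) : Set G)) :
    cn G a n hn ∈ Subgroup.centralizer (G : Set (Equiv.Perm α)) := by
  intro h hh
  ext x
  obtain ⟨g, rfl⟩ := exists_smul_eq G a x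
  simp only [Equiv.Perm.coe_mul, Function.comp_apply]
  have h1 : h (g • a) = ((⟨h, hh⟩ : G) * g) • a := by rw [mul_smul]; rfl
  rw [h1, cn_apply, cn_apply, mul_assoc, mul_smul]
  rfl

/-- the homomorphism from the normalizer to the centralizer -/
noncomputable def psi :
    Subgroup.normalizer ((stabilizer G a : Subgroup G) : Set G) →*
      Subgroup.centralizer (G : Set (Equiv.Perm α)) where
  toFun n := ⟨cn G a n.1 n.2, cn_mem G a n.2⟩
  map_one' := by
    apply Subtype.ext
    ext x
    obtain ⟨g, rfl⟩ := exists_smul_eq G a x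
    show cn G a (1 : G) (Subgroup.one_mem _) (g • a) = g • a
    rw [cn_apply]
    simp
  map_mul' n m := by
    apply Subtype.ext
    ext x
    obtain ⟨g, rfl⟩ := exists_smul_eq G a x
    show cn G a ((n : G) * (m : G)) (Subgroup.mul_mem _ n.2 m.2) (g • a) =
      cn G a n.1 n.2 (cn G a m.1 m.2 (g • a))
    rw [cn_apply, cn_apply, cn_apply, mul_inv_rev, mul_assoc]

theorem psi_apply (n : Subgroup.normalizer ((stabilizer G a : Subgroup G) : Set G)) (g : G) :
    ((psi G a n : Equiv.Perm α)) (g • a) = (g * (n : G)⁻¹) • a := cn_apply G a n.2 g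

theorem eq_of_apply_eq {c d : Equiv.Perm α}
    (hc : c ∈ Subgroup.centralizer (G : Set (Equiv.Perm α)))
    (hd : d ∈ Subgroup.centralizer (G : Set (Equiv.Perm α))) (h : c a = d a) : c = d := by
  have h1 : d⁻¹ * c ∈ Subgroup.centralizer (G : Set (Equiv.Perm α)) :=
    Subgroup.mul_mem _ (Subgroup.inv_mem _ hd) hc
  have h2 : (d⁻¹ * c) a = a := by
    simp only [Equiv.Perm.coe_mul, Function.comp_apply, h]
    simp
  have := (Cfsg.Agent.S0701.result G).1 _ h1 a h2
  exact (inv_mul_eq_one.mp this).symm

omit [MulAction.IsPretransitive G α] in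
theorem comm_apply {c : Equiv.Perm α} (hc : c ∈ Subgroup.centralizer (G : Set (Equiv.Perm α)))
    (g : G) (x : α) : c (g • x) = g • (c x) := by
  have := hc g g.2
  have h2 := congrArg (fun τ : Equiv.Perm α => τ x) this
  simp only [Equiv.Perm.coe_mul, Function.comp_apply] at h2
  exact h2.symm

theorem psi_surjective : Function.Surjective (psi G a) := by
  rintro ⟨c, hc⟩
  obtain ⟨k, hk⟩ := exists_smul_eq G a (c a)
  have hn : k⁻¹ ∈ Subgroup.normalizer ((stabilizer G a : Subgroup G) : Set G) := by
    rw [Subgroup.mem_normalizer_iff]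
    intro h
    rw [mem_stabilizer_iff, mem_stabilizer_iff, inv_inv, mul_smul, mul_smul, hk,
      inv_smul_eq_iff, hk, ← comm_apply G hc]
    exact ⟨fun hh => by rw [hh], fun hh => c.injective hh⟩
  refine ⟨⟨k⁻¹, hn⟩, ?_⟩
  apply Subtype.ext
  apply eq_of_apply_eq G a (psi G a ⟨k⁻¹, hn⟩).2 hc
  have := psi_apply G a ⟨k⁻¹, hn⟩ 1
  rw [one_smul] at this
  rw [this]
  simp [hk]

theorem psi_ker : (psi G a).ker =
    (stabilizer G a).subgroupOf (Subgroup.normalizer ((stabilizer G a : Subgroup G) : Set G)) := by
  ext n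
  rw [MonoidHom.mem_ker, Subgroup.mem_subgroupOf, mem_stabilizer_iff]
  constructor
  · intro h
    have h1 := psi_apply G a n 1
    rw [h, one_smul, one_mul] at h1
    simp only [Subgroup.coe_one, Equiv.Perm.coe_one, id_eq] at h1
    have : (n : G) • ((n : G)⁻¹ • a) = (n : G) • a := by rw [← h1]
    rw [smul_inv_smul] at this
    exact this.symm
  · intro h
    apply Subtype.ext
    apply eq_of_apply_eq G a (psi G a n).2 (Subgroup.one_mem _)
    have h1 := psi_apply G a n 1
    rw [one_smul, one_mul] at h1
    rw [h1]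
    simp only [Equiv.Perm.coe_one, id_eq]
    rw [inv_smul_eq_iff, h]

theorem result {α : Type*} [Finite α] (G : Subgroup (Equiv.Perm α)) [MulAction.IsPretransitive G α] (a : α) : Nonempty (Subgroup.centralizer (G : Set (Equiv.Perm α)) ≃* Subgroup.normalizer ((MulAction.stabilizer G a : Subgroup G) : Set G) ⧸ (MulAction.stabilizer G a).subgroupOf (Subgroup.normalizer ((MulAction.stabilizer G a : Subgroup G) : Set G))) ∧ MulAction.orbit (Subgroup.centralizer (G : Set (Equiv.Perm α))) a = MulAction.fixedPoints (MulAction.stabilizer G a) α := by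
  constructor
  · have e1 := QuotientGroup.quotientKerEquivOfSurjective (psi G a) (psi_surjective G a)
    have e2 := QuotientGroup.quotientMulEquivOfEq (psi_ker G a)
    exact ⟨(e2.symm.trans e1).symm⟩
  · ext x
    constructor
    · rintro ⟨c, rfl⟩ h
      show (h : G) • ((c : Equiv.Perm α) a) = (c : Equiv.Perm α) a
      rw [← comm_apply G c.2, h.2]
    · intro hx
      -- define the map g • a ↦ g • x
      let f : α → α := fun y => (rep G a y) • x
      have hf : ∀ g : G, f (g • a) = g • x := by
        intro g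
        simp only [f]
        have h1 : (rep G a (g • a)) • a = g • a := rep_spec G a (g • a)
        have h2 : g⁻¹ * rep G a (g • a) ∈ stabilizer G a := by
          rw [mem_stabilizer_iff, mul_smul, h1, inv_smul_smul]
        have h3 := hx ⟨_, h2⟩
        have h4 : (g⁻¹ * rep G a (g • a)) • x = x := h3
        rw [mul_smul, inv_smul_eq_iff] at h4
        exact h4
      have hsurj : Function.Surjective f := by
        intro y
        obtain ⟨h, rfl⟩ := exists_smul_eq G x y
        exact ⟨h • a, hf h⟩
      have hbij : Function.Bijective f := ⟨Finite.injective_iff_surjective.mpr hsurj, hsurj⟩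
      let c : Equiv.Perm α := Equiv.ofBijective f hbij
      have hc : c ∈ Subgroup.centralizer (G : Set (Equiv.Perm α)) := by
        intro h hh
        ext y
        obtain ⟨g, rfl⟩ := exists_smul_eq G a y
        simp only [Equiv.Perm.coe_mul, Function.comp_apply]
        have h1 : h (g • a) = ((⟨h, hh⟩ : G) * g) • a := by rw [mul_smul]; rfl
        show h (f (g • a)) = f (h (g • a))
        rw [h1, hf, hf, mul_smul]
        rfl
      refine ⟨⟨c, hc⟩, ?_⟩
      show f a = x
      have := hf 1
      rwa [one_smul, one_smul] at this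

end Cfsg.Agent.S0702
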