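import Cfsg.Statements.S0703
import Cfsg.Agent.S0701
import Cfsg.Agent.S0702
import Mathlib

set_option autoImplicit false
universe u
open Cfsg

namespace Cfsg.Agent.S0703

open MulAction

theorem result {α : Type*} [Finite α] (G : Subgroup (Equiv.Perm α)) (M : Subgroup G) [M.Normal] (hM : M ≠ ⊥) (hmin : ∀ L : Subgroup G, L.Normal → L ≤ M → L = ⊥ ∨ L = M) (hab : IsMulCommutative M) (htrans : MulAction.IsPretransitive M α) : Subgroup.centralizer ((M.map G.subtype : Subgroup (Equiv.Perm α)) : Set (Equiv.Perm α)) = M.map G.subtype ∧ (∀ a : α, MulAction.stabilizer M a = ⊥) ∧ (∃ p : ℕ, p.Prime ∧ ∀ m ∈ M, m ^ p = 1) ∧ ∀ L : Subgroup G, L.Normal → L ≠ ⊥ → (∀ L' : Subgroup G, L'.Normal → L' ≤ L → L' = ⊥ ∨ L' = L) → L = M := by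
  classical
  set M' : Subgroup (Equiv.Perm α) := M.map G.subtype with hM'
  have hcomm : ∀ x y : G, x ∈ M → y ∈ M → x * y = y * x := by
    intro x y hx hy
    have := hab.is_comm.comm (⟨x, hx⟩ : M) ⟨y, hy⟩
    exact congrArg Subtype.val this
  have htrans' : IsPretransitive M' α := by
    constructor
    intro a b
    obtain ⟨m, hm⟩ := htrans.exists_smul_eq a b
    exact ⟨⟨(m : G), ⟨(m : G), m.2, rfl⟩⟩, hm⟩
  have hM'le : M' ≤ Subgroup.centralizer (M' : Set (Equiv.Perm α)) := by
    rintro _ ⟨x, hx, rfl⟩ _ ⟨y, hy, rfl⟩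
    have := hcomm y x hy hx
    have h2 := congrArg Subtype.val this
    simpa using h2
  have hsemi := (Cfsg.Agent.S0701.result M').1
  have hcent : Subgroup.centralizer (M' : Set (Equiv.Perm α)) = M' := by
    apply le_antisymm _ hM'le
    intro c hc
    obtain ⟨a⟩ : Nonempty α := by
      by_contra hne
      rw [not_nonempty_iff] at hne
      apply hM
      rw [Subgroup.eq_bot_iff_forall]
      intro m _
      apply Subtype.ext
      ext x
      exact (hne.false x).elim
    obtain ⟨m, hm⟩ := htrans'.exists_smul_eq a (c a)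
    have hm' : (m : Equiv.Perm α) a = c a := hm
    have := Cfsg.Agent.S0702.eq_of_apply_eq M' a (hM'le m.2) hc hm'
    rw [← this]
    exact m.2
  have hreg : ∀ a : α, MulAction.stabilizer M a = ⊥ := by
    intro a
    rw [Subgroup.eq_bot_iff_forall]
    intro m hm
    rw [mem_stabilizer_iff] at hm
    have h1 : ((m : G) : Equiv.Perm α) ∈ Subgroup.centralizer (M' : Set (Equiv.Perm α)) :=
      hM'le ⟨(m : G), m.2, rfl⟩
    have := hsemi _ h1 a hm
    apply Subtype.ext
    apply Subtype.ext
    exact this
  refine ⟨hcent, hreg, ?_, ?_⟩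
  · -- elementary abelian
    have hfinG : Finite G := inferInstance
    have hntM : Nontrivial M := (Subgroup.nontrivial_iff_ne_bot M).mpr hM
    have hcard : 1 < Nat.card M := Finite.one_lt_card
    obtain ⟨p, hp, hpd⟩ := Nat.exists_prime_and_dvd (by omega : Nat.card M ≠ 1)
    refine ⟨p, hp, ?_⟩
    haveI : Fact p.Prime := ⟨hp⟩
    obtain ⟨x, hx⟩ := exists_prime_orderOf_dvd_card' p hpd
    let K : Subgroup G :=
      { carrier := {g | g ∈ M ∧ g ^ p = 1}
        one_mem' := ⟨M.one_mem, one_pow p⟩
        mul_mem' := by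
          rintro g h ⟨hg, hgp⟩ ⟨hh, hhp⟩
          refine ⟨M.mul_mem hg hh, ?_⟩
          have : Commute g h := hcomm g h hg hh
          rw [this.mul_pow, hgp, hhp, one_mul]
        inv_mem' := by
          rintro g ⟨hg, hgp⟩
          exact ⟨M.inv_mem hg, by rw [inv_pow, hgp, inv_one]⟩ }
    have hKn : K.Normal := by
      constructor
      rintro n ⟨hn, hnp⟩ g
      refine ⟨Subgroup.Normal.conj_mem inferInstance n hn g, ?_⟩
      rw [conj_pow, hnp, mul_one, mul_inv_cancel]
    have hKle : K ≤ M := fun g hg => hg.1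
    have hKne : K ≠ ⊥ := by
      intro hK
      have hxK : (x : G) ∈ K := by
        refine ⟨x.2, ?_⟩
        have := pow_orderOf_eq_one x
        rw [hx] at this
        have h2 := congrArg Subtype.val this
        simpa using h2
      rw [hK, Subgroup.mem_bot] at hxK
      have : x = 1 := Subtype.ext hxK
      rw [this, orderOf_one] at hx
      exact hp.one_lt.ne hx
    rcases hmin K hKn hKle with h | h
    · exact absurd h hKne
    · intro m hm
      have : m ∈ K := by rw [h]; exact hm
      exact this.2
  · intro L hLn hLne hLmin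
    have hinf_n : (L ⊓ M).Normal := Subgroup.normal_inf_normal L M
    rcases hmin (L ⊓ M) hinf_n inf_le_right with h | h
    · exfalso
      apply hLne
      have hdis : Disjoint L M := disjoint_iff.mpr h
      have hLM' : L.map G.subtype ≤ Subgroup.centralizer (M' : Set (Equiv.Perm α)) := by
        rintro _ ⟨x, hx, rfl⟩ _ ⟨y, hy, rfl⟩
        have := Subgroup.commute_of_normal_of_disjoint L M hLn inferInstance hdis x y hx hy
        have h2 := congrArg Subtype.val this.eq
        simpa using h2.symm
      rw [hcent] at hLM'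
      have hLM : L ≤ M := by
        intro x hx
        obtain ⟨y, hy, hyx⟩ := hLM' ⟨x, hx, rfl⟩
        have : y = x := Subtype.ext hyx
        rw [← this]; exact hy
      rw [← inf_eq_left.mpr hLM]
      exact h
    · have hML : M ≤ L := by rw [← h]; exact inf_le_left
      rcases hLmin M inferInstance hML with h2 | h2
      · exact absurd h2 hM
      · exact h2.symm

end Cfsg.Agent.S0703
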