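import Cfsg.Statements.S0704
import Cfsg.Agent.S0701
import Cfsg.Agent.S0702
import Mathlib

set_option autoImplicit false
universe u
open Cfsg

namespace Cfsg.Agent.S0704

open MulAction

section
variable {α : Type*} (G : Subgroup (Equiv.Perm α))

theorem trans_map (M : Subgroup G) (hMt : MulAction.IsPretransitive M α) :
    IsPretransitive (M.map G.subtype) α := by
  constructor
  intro a b
  obtain ⟨m, hm⟩ := hMt.exists_smul_eq a b
  exact ⟨⟨(m : G), ⟨(m : G), m.2, rfl⟩⟩, hm⟩

theorem disjoint_of_min (M N : Subgroup G) [M.Normal] [N.Normal] (hM : M ≠ ⊥)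
    (hMmin : ∀ L : Subgroup G, L.Normal → L ≤ M → L = ⊥ ∨ L = M)
    (hNmin : ∀ L : Subgroup G, L.Normal → L ≤ N → L = ⊥ ∨ L = N) (hMN : M ≠ N) :
    Disjoint M N := by
  rw [disjoint_iff]
  have hinf_n : (M ⊓ N).Normal := Subgroup.normal_inf_normal M N
  rcases hMmin (M ⊓ N) hinf_n inf_le_left with h | h
  · exact h
  · exfalso
    have hMN' : M ≤ N := by rw [← h]; exact inf_le_right
    rcases hNmin M inferInstance hMN' with h2 | h2
    · exact hM h2
    · exact hMN h2

theorem map_le_centralizer (M N : Subgroup G) [M.Normal] [N.Normal] (hdis : Disjoint M N) :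
    N.map G.subtype ≤ Subgroup.centralizer ((M.map G.subtype : Subgroup (Equiv.Perm α)) : Set (Equiv.Perm α)) := by
  rintro _ ⟨y, hy, rfl⟩ _ ⟨x, hx, rfl⟩
  have := Subgroup.commute_of_normal_of_disjoint M N inferInstance inferInstance hdis x y hx hy
  have h2 := congrArg Subtype.val this.eq
  simpa using h2

/-- if `N` centralizes the transitive `M` then `N` is semiregular -/
theorem regular_of (M N : Subgroup G) [M.Normal] [N.Normal] (hdis : Disjoint M N)
    (hMt : MulAction.IsPretransitive M α) (a : α) : MulAction.stabilizer N a = ⊥ := by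
  haveI := trans_map G M hMt
  have hsemi := (Cfsg.Agent.S0701.result (M.map G.subtype)).1
  rw [Subgroup.eq_bot_iff_forall]
  intro n hn
  rw [mem_stabilizer_iff] at hn
  have h1 := map_le_centralizer G M N hdis ⟨(n : G), n.2, rfl⟩
  have := hsemi _ h1 a hn
  apply Subtype.ext
  apply Subtype.ext
  exact this

theorem centralizer_eq (M N : Subgroup G) [M.Normal] [N.Normal] (hdis : Disjoint M N)
    (hMt : MulAction.IsPretransitive M α) (hNt : MulAction.IsPretransitive N α) (a : α) :
    Subgroup.centralizer ((M.map G.subtype : Subgroup (Equiv.Perm α)) : Set (Equiv.Perm α)) =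
      N.map G.subtype := by
  haveI := trans_map G M hMt
  haveI := trans_map G N hNt
  apply le_antisymm _ (map_le_centralizer G M N hdis)
  intro c hc
  obtain ⟨n, hn⟩ := (trans_map G N hNt).exists_smul_eq a (c a)
  have hn' : (n : Equiv.Perm α) a = c a := hn
  have := Cfsg.Agent.S0702.eq_of_apply_eq (M.map G.subtype) a
    (map_le_centralizer G M N hdis n.2) hc hn'
  rw [← this]
  exact n.2

end

theorem result {α : Type*} (G : Subgroup (Equiv.Perm α)) (M N : Subgroup G) [M.Normal] [N.Normal] (hM : M ≠ ⊥) (hN : N ≠ ⊥) (hMmin : ∀ L : Subgroup G, L.Normal → L ≤ M → L = ⊥ ∨ L = M) (hNmin : ∀ L : Subgroup G, L.Normal → L ≤ N → L = ⊥ ∨ L = N) (hMN : M ≠ N) (hMt : MulAction.IsPretransitive M α) (hNt : MulAction.IsPretransitive N α) : (∀ a : α, MulAction.stabilizer M a = ⊥) ∧ (∀ a : α, MulAction.stabilizer N a = ⊥) ∧ ¬ IsMulCommutative M ∧ Nonempty (M ≃* N) ∧ Subgroup.centralizer ((M.map G.subtype : Subgroup (Equiv.Perm α)) : Set (Equiv.Perm α)) = N.map G.subtype ∧ Subgroup.centralizer ((N.map G.subtype : Subgroup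 (Equiv.Perm α)) : Set (Equiv.Perm α)) = M.map G.subtype ∧ ∀ L : Subgroup G, L.Normal → L ≠ ⊥ → (∀ L' : Subgroup G, L'.Normal → L' ≤ L → L' = ⊥ ∨ L' = L) → L = M ∨ L = N := by
  classical
  have hdis : Disjoint M N := disjoint_of_min G M N hM hMmin hNmin hMN
  have hdis' : Disjoint N M := hdis.symm
  have hregM : ∀ a : α, MulAction.stabilizer M a = ⊥ := fun a => regular_of G N M hdis' hNt a
  have hregN : ∀ a : α, MulAction.stabilizer N a = ⊥ := fun a => regular_of G M N hdis hMt a
  obtain ⟨a⟩ : Nonempty α := by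
    by_contra hne
    rw [not_nonempty_iff] at hne
    apply hM
    rw [Subgroup.eq_bot_iff_forall]
    intro m _
    apply Subtype.ext
    ext x
    exact (hne.false x).elim
  have hcM := centralizer_eq G M N hdis hMt hNt a
  have hcN := centralizer_eq G N M hdis' hNt hMt a
  have hcommMN : ∀ (m : M) (n : N) (x : α), m • (n • x) = n • (m • x) := by
    intro m n x
    have := Subgroup.commute_of_normal_of_disjoint M N inferInstance inferInstance hdis m n m.2 n.2
    have h2 : ((m : G) * (n : G)) • x = ((n : G) * (m : G)) • x := by rw [this.eq]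
    rw [mul_smul, mul_smul] at h2
    exact h2
  have heqN : ∀ n₁ n₂ : N, n₁ • a = n₂ • a → n₁ = n₂ := by
    intro n₁ n₂ h
    have : n₁⁻¹ * n₂ ∈ MulAction.stabilizer N a := by
      rw [mem_stabilizer_iff, mul_smul, ← h, inv_smul_smul]
    rw [hregN a, Subgroup.mem_bot] at this
    exact inv_mul_eq_one.mp this
  have heqM : ∀ m₁ m₂ : M, m₁ • a = m₂ • a → m₁ = m₂ := by
    intro m₁ m₂ h
    have : m₁⁻¹ * m₂ ∈ MulAction.stabilizer M a := by
      rw [mem_stabilizer_iff, mul_smul, ← h, inv_smul_smul]
    rw [hregM a, Subgroup.mem_bot] at this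
    exact inv_mul_eq_one.mp this
  refine ⟨hregM, hregN, ?_, ?_, hcM, hcN, ?_⟩
  · intro hab
    apply hM
    have hle : M.map G.subtype ≤ Subgroup.centralizer ((M.map G.subtype : Subgroup (Equiv.Perm α)) : Set (Equiv.Perm α)) := by
      rintro _ ⟨x, hx, rfl⟩ _ ⟨y, hy, rfl⟩
      have := hab.is_comm.comm (⟨y, hy⟩ : M) ⟨x, hx⟩
      have h2 := congrArg (fun z : M => ((z : G) : Equiv.Perm α)) this
      simpa using h2
    rw [hcM] at hle
    have hMN' : M ≤ N := by
      intro x hx
      obtain ⟨y, hy, hyx⟩ := hle ⟨x, hx, rfl⟩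
      have : y = x := Subtype.ext hyx
      rw [← this]; exact hy
    have := hdis.eq_bot
    rw [inf_eq_left.mpr hMN'] at this
    exact this
  · -- the isomorphism
    let nm : M → N := fun m => Classical.choose (hNt.exists_smul_eq a (m • a))
    have hnm : ∀ m : M, nm m • a = m • a := fun m =>
      Classical.choose_spec (hNt.exists_smul_eq a (m • a))
    let φ : M →* N :=
      { toFun := fun m => (nm m)⁻¹
        map_one' := by
          have : nm 1 = 1 := heqN _ _ (by rw [hnm, one_smul, one_smul])
          simp [this]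
        map_mul' := by
          intro m₁ m₂
          have : nm (m₁ * m₂) = nm m₂ * nm m₁ := by
            apply heqN
            rw [hnm, mul_smul, mul_smul, hnm m₁, ← hcommMN, hnm m₂]
          simp [this] }
    have hφ : ∀ m : M, φ m = (nm m)⁻¹ := fun m => rfl
    have hinj : Function.Injective φ := by
      rw [injective_iff_map_eq_one]
      intro m hm
      rw [hφ, inv_eq_one] at hm
      apply heqM
      rw [← hnm, hm, one_smul, one_smul]
    have hsurj : Function.Surjective φ := by
      intro n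
      obtain ⟨m, hm⟩ := hMt.exists_smul_eq a (n⁻¹ • a)
      refine ⟨m, ?_⟩
      rw [hφ, inv_eq_iff_eq_inv]
      apply heqN
      rw [hnm, hm]
    exact ⟨MulEquiv.ofBijective φ ⟨hinj, hsurj⟩⟩
  · intro L hLn hLne hLmin
    by_contra hcon
    push Not at hcon
    have hdisLM : Disjoint M L := disjoint_of_min G M L hM hMmin hLmin (Ne.symm hcon.1)
    have hle : L.map G.subtype ≤ N.map G.subtype := by
      rw [← hcM]
      haveI := hLn
      exact map_le_centralizer G M L hdisLM
    have hLN : L ≤ N := by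
      intro x hx
      obtain ⟨y, hy, hyx⟩ := hle ⟨x, hx, rfl⟩
      have : y = x := Subtype.ext hyx
      rw [← this]; exact hy
    rcases hNmin L hLn hLN with h | h
    · exact hLne h
    · exact hcon.2 h

end Cfsg.Agent.S0704
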