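import Cfsg.Statements.S0705
import Mathlib

set_option autoImplicit false
open Cfsg
open scoped Pointwise

namespace Cfsg.Agent.S0705

theorem step {α : Type*} [Fintype α] [DecidableEq α] (G : Subgroup (Equiv.Perm α)) {k : ℕ} (hk : k < Fintype.card α) (hgen : ∀ s : Finset α, s.card = k + 1 → ∀ σ : Equiv.Perm ↥s, ∃ g ∈ G, ∀ x : ↥s, g (x : α) = σ x)
    (x y : Fin k ↪ α) (j : ℕ) :
    ∃ g ∈ G, ∀ i : Fin k, i.val < j → g (x i) = y i := by
  induction j with
  | zero => exact ⟨1, G.one_mem, fun i hi => absurd hi (Nat.not_lt_zero _)⟩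
  | succ j ih =>
    obtain ⟨g, hgG, hg⟩ := ih
    by_cases hjk : j < k
    swap
    · refine ⟨g, hgG, fun i _ => hg i ?_⟩
      have := i.2
      omega
    set jj : Fin k := ⟨j, hjk⟩ with hjj
    set u : α := g (x jj) with hu
    set v : α := y jj with hv
    let s0 : Finset α := insert v (Finset.univ.image (fun i : Fin k => g (x i)))
    have hs0card : s0.card ≤ k + 1 := by
      refine (Finset.card_insert_le _ _).trans ?_
      have := Finset.card_image_le (s := (Finset.univ : Finset (Fin k))) (f := fun i : Fin k => g (x i))
      simp only [Finset.card_univ, Fintype.card_fin] at this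
      omega
    obtain ⟨s, hs0s, -, hscard⟩ := Finset.exists_subsuperset_card_eq (Finset.subset_univ s0) hs0card
      (by rw [Finset.card_univ]; omega)
    have hmem : ∀ i : Fin k, g (x i) ∈ s := by
      intro i
      apply hs0s
      apply Finset.mem_insert_of_mem
      exact Finset.mem_image.mpr ⟨i, Finset.mem_univ _, rfl⟩
    have hvmem : v ∈ s := hs0s (Finset.mem_insert_self _ _)
    have humem : u ∈ s := hmem jj
    obtain ⟨h, hhG, hh⟩ := hgen s hscard (Equiv.swap ⟨u, humem⟩ ⟨v, hvmem⟩)
    refine ⟨h * g, G.mul_mem hhG hgG, ?_⟩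
    intro i hi
    rw [Equiv.Perm.mul_apply]
    by_cases hij : i.val < j
    · have h1 := hg i hij
      have hne_u : g (x i) ≠ u := by
        intro hcon
        have := x.injective (g.injective hcon)
        rw [hjj, Fin.ext_iff] at this
        simp at this
        omega
      have hne_v : g (x i) ≠ v := by
        rw [h1]
        intro hcon
        have := y.injective hcon
        rw [hjj, Fin.ext_iff] at this
        simp at this
        omega
      have := hh ⟨g (x i), hmem i⟩
      simp only at this
      rw [this, Equiv.swap_apply_of_ne_of_ne]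
      · exact h1
      · intro hcon; exact hne_u (congrArg Subtype.val hcon)
      · intro hcon; exact hne_v (congrArg Subtype.val hcon)
    · have hij' : i = jj := by
        rw [hjj, Fin.ext_iff]
        simp
        omega
      rw [hij']
      have := hh ⟨u, humem⟩
      simp only at this
      rw [← hu, this, Equiv.swap_apply_left]

/-- A generously `k`-transitive permutation group (every `(k+1)`-subset has its full symmetric group induced by the setwise stabiliser) of degree greater than `k` is `k`-transitive, and for a `k`-subset the setwise and pointwise stabilisers have the same orbits outside it. -/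
theorem result {α : Type*} [Fintype α] [DecidableEq α] (G : Subgroup (Equiv.Perm α)) {k : ℕ} (hk : k < Fintype.card α) (hgen : ∀ s : Finset α, s.card = k + 1 → ∀ σ : Equiv.Perm ↥s, ∃ g ∈ G, ∀ x : ↥s, g (x : α) = σ x) : MulAction.IsMultiplyPretransitive G α k ∧ ∀ s : Finset α, s.card = k → ∀ a b : α, a ∉ s → b ∉ s → (∃ g ∈ G, g • s = s ∧ g a = b) → ∃ g ∈ G, (∀ x ∈ s, g x = x) ∧ g a = b := by
  constructor
  · rw [MulAction.isMultiplyPretransitive_iff]
    intro x y
    obtain ⟨g, hgG, hg⟩ := step G hk hgen x y k
    refine ⟨⟨g, hgG⟩, ?_⟩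
    ext i
    exact hg i i.2
  · intro s hs a b ha hb ⟨g, hgG, hgs, hgab⟩
    -- t = insert b s
    set t : Finset α := insert b s with ht
    have htcard : t.card = k + 1 := by rw [ht, Finset.card_insert_of_notMem hb, hs]
    have hgmem : ∀ x ∈ s, g x ∈ s := by
      intro x hx
      rw [← hgs]
      exact Finset.smul_mem_smul_finset hx
    have hginvmem : ∀ x ∈ s, g⁻¹ x ∈ s := by
      intro x hx
      rw [← hgs] at hx
      obtain ⟨y, hy, hyx⟩ := Finset.mem_smul_finset.mp hx
      have : g⁻¹ x = y := by
        rw [← hyx]
        simp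
      rw [this]; exact hy
    let g' : Equiv.Perm α := Equiv.swap b (g b) * g
    have hg'b : g' b = b := by
      show Equiv.swap b (g b) (g b) = b
      exact Equiv.swap_apply_right _ _
    have hbs : ∀ x ∈ s, x ≠ b := fun x hx hxb => hb (hxb ▸ hx)
    have hg's : ∀ x ∈ s, g' x = g x := by
      intro x hx
      show Equiv.swap b (g b) (g x) = g x
      apply Equiv.swap_apply_of_ne_of_ne
      · exact hbs _ (hgmem x hx)
      · intro hcon
        exact hbs x hx (g.injective hcon)
    have hg'inv : ∀ x ∈ s, g'⁻¹ x ∈ s := by
      intro x hx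
      have h1 := hginvmem x hx
      have h2 := hg's _ h1
      have h3 : g (g⁻¹ x) = x := by simp
      rw [h3] at h2
      have : g'⁻¹ x = g⁻¹ x := by
        rw [Equiv.Perm.inv_eq_iff_eq]
        exact h2.symm
      rw [this]; exact h1
    have hmapsto : ∀ x : α, g' x ∈ t ↔ x ∈ t := by
      intro x
      rw [ht, Finset.mem_insert, Finset.mem_insert]
      constructor
      · rintro (hx | hx)
        · left
          apply g'.injective
          rw [hx, hg'b]
        · right
          have := hg'inv _ hx
          simpa using this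
      · rintro (hx | hx)
        · left; rw [hx, hg'b]
        · right; rw [hg's x hx]; exact hgmem x hx
    obtain ⟨h, hhG, hh⟩ := hgen t htcard (g'.subtypePerm hmapsto)⁻¹
    refine ⟨h * g, G.mul_mem hhG hgG, ?_, ?_⟩
    · intro x hx
      rw [Equiv.Perm.mul_apply]
      have hmem : g x ∈ t := Finset.mem_insert_of_mem (hgmem x hx)
      have := hh ⟨g x, hmem⟩
      simp only at this
      rw [this]
      have h2 : (g'.subtypePerm hmapsto)⁻¹ ⟨g x, hmem⟩ = ⟨x, Finset.mem_insert_of_mem hx⟩ := by
        rw [Equiv.Perm.inv_eq_iff_eq]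
        apply Subtype.ext
        simp only [Equiv.Perm.subtypePerm_apply]
        exact (hg's x hx).symm
      rw [h2]
    · rw [Equiv.Perm.mul_apply, hgab]
      have hmem : b ∈ t := Finset.mem_insert_self _ _
      have := hh ⟨b, hmem⟩
      simp only at this
      rw [this]
      have h2 : (g'.subtypePerm hmapsto)⁻¹ ⟨b, hmem⟩ = ⟨b, hmem⟩ := by
        rw [Equiv.Perm.inv_eq_iff_eq]
        apply Subtype.ext
        simp only [Equiv.Perm.subtypePerm_apply]
        exact hg'b.symm
      rw [h2]

end Cfsg.Agent.S0705
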