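import Cfsg.Statements.S0706
import Mathlib

set_option autoImplicit false
open Cfsg

namespace Cfsg.Agent.S0706

section
variable {α : Type*} [Fintype α] [DecidableEq α]

theorem apply_inv (κ : Equiv.Perm α) (x : α) : κ (κ⁻¹ x) = x := by
  rw [Equiv.Perm.inv_def, Equiv.apply_symm_apply]

/-- A permutation mapping a finite set into itself maps it onto itself. -/
theorem mem_iff_of_mapsTo (κ : Equiv.Perm α) (Γ : Finset α) (h : ∀ x ∈ Γ, κ x ∈ Γ) :
    ∀ x, κ x ∈ Γ ↔ x ∈ Γ := by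
  have himg : Γ.image κ = Γ := by
    apply Finset.eq_of_subset_of_card_le
    · intro y hy
      obtain ⟨x, hx, rfl⟩ := Finset.mem_image.1 hy
      exact h x hx
    · rw [Finset.card_image_of_injective _ κ.injective]
  intro x
  constructor
  · intro hx
    rw [← himg] at hx
    obtain ⟨y, hy, hyx⟩ := Finset.mem_image.1 hx
    rw [← κ.injective hyx]
    exact hy
  · exact h x

/-- Generosity in a usable form: any permutation of `α` preserving a `(k+1)`-set is induced on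
that set by an element of the group. -/
theorem gen_apply {G : Subgroup (Equiv.Perm α)} {k : ℕ}
    (hgen : ∀ s : Finset α, s.card = k + 1 → ∀ σ : Equiv.Perm ↥s, ∃ g ∈ G, ∀ x : ↥s,
      g (x : α) = σ x)
    (s : Finset α) (hs : s.card = k + 1) (τ : Equiv.Perm α) (hτ : ∀ x ∈ s, τ x ∈ s) :
    ∃ g ∈ G, ∀ x ∈ s, g x = τ x := by
  have h := mem_iff_of_mapsTo τ s hτ
  obtain ⟨g, hg, hgx⟩ := hgen s hs (τ.subtypePerm h)
  refine ⟨g, hg, fun x hx => ?_⟩
  have := hgx ⟨x, hx⟩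
  simpa using this

/-- `k`-homogeneity from generosity. -/
theorem exists_map_finset {G : Subgroup (Equiv.Perm α)} {k : ℕ}
    (hgen : ∀ s : Finset α, s.card = k + 1 → ∀ σ : Equiv.Perm ↥s, ∃ g ∈ G, ∀ x : ↥s,
      g (x : α) = σ x)
    (Γ : Finset α) (hΓ : Γ.card = k) :
    ∀ (m : ℕ) (Sg : Finset α), Sg.card = k → (Sg \ Γ).card = m → ∃ g ∈ G, Sg.image g = Γ := by
  intro m
  induction m with
  | zero =>
    intro Sg hSg hm
    have hsub : Sg ⊆ Γ := by
      rw [Finset.card_eq_zero, Finset.sdiff_eq_empty_iff_subset] at hm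
      exact hm
    have : Sg = Γ := Finset.eq_of_subset_of_card_le hsub (by rw [hSg, hΓ])
    exact ⟨1, G.one_mem, by simp [this]⟩
  | succ m ih =>
    intro Sg hSg hm
    have hne : (Sg \ Γ).Nonempty := by
      rw [← Finset.card_pos, hm]
      omega
    obtain ⟨δ, hδ⟩ := hne
    rw [Finset.mem_sdiff] at hδ
    have hne2 : (Γ \ Sg).Nonempty := by
      rw [← Finset.card_pos]
      have h1 := Finset.card_sdiff_add_card_inter Sg Γ
      have h2 := Finset.card_sdiff_add_card_inter Γ Sg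
      rw [Finset.inter_comm] at h2
      omega
    obtain ⟨γ, hγ⟩ := hne2
    rw [Finset.mem_sdiff] at hγ
    have hs : (insert γ Sg).card = k + 1 := by
      rw [Finset.card_insert_of_notMem hγ.2, hSg]
    have hτ : ∀ x ∈ insert γ Sg, Equiv.swap δ γ x ∈ insert γ Sg := by
      intro x hx
      by_cases h1 : x = δ
      · subst h1
        rw [Equiv.swap_apply_left]
        exact Finset.mem_insert_self _ _
      · by_cases h2 : x = γ
        · subst h2
          rw [Equiv.swap_apply_right]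
          exact Finset.mem_insert_of_mem hδ.1
        · rw [Equiv.swap_apply_of_ne_of_ne h1 h2]
          exact hx
    obtain ⟨g₁, hg₁, hg₁x⟩ := gen_apply hgen _ hs (Equiv.swap δ γ) hτ
    have himg : Sg.image g₁ = insert γ (Sg.erase δ) := by
      ext y
      rw [Finset.mem_image, Finset.mem_insert, Finset.mem_erase]
      constructor
      · rintro ⟨x, hx, rfl⟩
        rw [hg₁x x (Finset.mem_insert_of_mem hx)]
        by_cases h1 : x = δ
        · subst h1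
          left
          rw [Equiv.swap_apply_left]
        · have h2 : x ≠ γ := by
            rintro rfl
            exact hγ.2 hx
          right
          rw [Equiv.swap_apply_of_ne_of_ne h1 h2]
          exact ⟨h1, hx⟩
      · rintro (rfl | ⟨h1, h2⟩)
        · refine ⟨δ, hδ.1, ?_⟩
          rw [hg₁x δ (Finset.mem_insert_of_mem hδ.1), Equiv.swap_apply_left]
        · refine ⟨y, h2, ?_⟩
          have h3 : y ≠ γ := by
            rintro rfl
            exact hγ.2 h2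
          rw [hg₁x y (Finset.mem_insert_of_mem h2), Equiv.swap_apply_of_ne_of_ne h1 h3]
    have hcard1 : (Sg.image g₁).card = k := by
      rw [Finset.card_image_of_injective _ g₁.injective, hSg]
    have hcard2 : ((Sg.image g₁) \ Γ).card = m := by
      have : (Sg.image g₁) \ Γ = (Sg \ Γ).erase δ := by
        rw [himg]
        ext y
        simp only [Finset.mem_sdiff, Finset.mem_insert, Finset.mem_erase]
        constructor
        · rintro ⟨rfl | ⟨h1, h2⟩, h3⟩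
          · exact absurd hγ.1 h3
          · exact ⟨h1, h2, h3⟩
        · rintro ⟨h1, h2, h3⟩
          exact ⟨Or.inr ⟨h1, h2⟩, h3⟩
      rw [this, Finset.card_erase_of_mem (Finset.mem_sdiff.2 hδ), hm]
      rfl
    obtain ⟨g₂, hg₂, hg₂x⟩ := ih _ hcard1 hcard2
    refine ⟨g₂ * g₁, G.mul_mem hg₂ hg₁, ?_⟩
    rw [← hg₂x, Finset.image_image]
    rfl


/-- The pointwise stabiliser of `Γ` in `G`, as a subgroup of the symmetric group. -/
def HH (G : Subgroup (Equiv.Perm α)) (Γ : Finset α) : Subgroup (Equiv.Perm α) where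
  carrier := {g | g ∈ G ∧ ∀ x ∈ Γ, g x = x}
  mul_mem' := by
    rintro a b ⟨ha, ha'⟩ ⟨hb, hb'⟩
    refine ⟨G.mul_mem ha hb, fun x hx => ?_⟩
    rw [Equiv.Perm.mul_apply, hb' x hx, ha' x hx]
  one_mem' := ⟨G.one_mem, fun _ _ => rfl⟩
  inv_mem' := by
    rintro a ⟨ha, ha'⟩
    refine ⟨G.inv_mem ha, fun x hx => ?_⟩
    rw [Equiv.Perm.inv_eq_iff_eq, ha' x hx]

theorem mem_HH {G : Subgroup (Equiv.Perm α)} {Γ : Finset α} {g : Equiv.Perm α} :
    g ∈ HH G Γ ↔ g ∈ G ∧ ∀ x ∈ Γ, g x = x := Iff.rfl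

/-- The elements of `G` stabilising `Γ` and fixing `Γ \ Pt` pointwise. -/
def KK (G : Subgroup (Equiv.Perm α)) (Γ Pt : Finset α) : Subgroup (Equiv.Perm α) where
  carrier := {g | g ∈ G ∧ (∀ x ∈ Γ, x ∉ Pt → g x = x) ∧ ∀ x, g x ∈ Γ ↔ x ∈ Γ}
  mul_mem' := by
    rintro a b ⟨ha, ha', ha''⟩ ⟨hb, hb', hb''⟩
    refine ⟨G.mul_mem ha hb, fun x hx hx' => ?_, fun x => ?_⟩
    · rw [Equiv.Perm.mul_apply, hb' x hx hx', ha' x hx hx']
    · rw [Equiv.Perm.mul_apply, ha'', hb'']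
  one_mem' := ⟨G.one_mem, fun _ _ _ => rfl, fun _ => Iff.rfl⟩
  inv_mem' := by
    rintro a ⟨ha, ha', ha''⟩
    refine ⟨G.inv_mem ha, fun x hx hx' => ?_, fun x => ?_⟩
    · rw [Equiv.Perm.inv_eq_iff_eq, ha' x hx hx']
    · rw [← ha'' (a⁻¹ x), apply_inv]

theorem mem_KK {G : Subgroup (Equiv.Perm α)} {Γ Pt : Finset α} {g : Equiv.Perm α} :
    g ∈ KK G Γ Pt ↔ g ∈ G ∧ (∀ x ∈ Γ, x ∉ Pt → g x = x) ∧ ∀ x, g x ∈ Γ ↔ x ∈ Γ := Iff.rfl

theorem HH_le_KK (G : Subgroup (Equiv.Perm α)) (Γ Pt : Finset α) : HH G Γ ≤ KK G Γ Pt := by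
  rintro g ⟨hg, hg'⟩
  refine ⟨hg, fun x hx _ => hg' x hx, ?_⟩
  exact mem_iff_of_mapsTo g Γ (fun x hx => by rw [hg' x hx]; exact hx)

/-- Elements stabilising `Γ` map each point outside `Γ` within its orbit under the pointwise
stabiliser. -/
theorem orbit_invariant {G : Subgroup (Equiv.Perm α)} {k : ℕ}
    (hgen : ∀ s : Finset α, s.card = k + 1 → ∀ σ : Equiv.Perm ↥s, ∃ g ∈ G, ∀ x : ↥s,
      g (x : α) = σ x)
    (Γ : Finset α) (hΓ : Γ.card = k) (κ : Equiv.Perm α) (hκG : κ ∈ G)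
    (hκ : ∀ x, κ x ∈ Γ ↔ x ∈ Γ) (δ : α) (hδ : δ ∉ Γ) :
    ∃ h ∈ HH G Γ, h δ = κ δ := by
  have hs : (insert δ Γ).card = k + 1 := by
    rw [Finset.card_insert_of_notMem hδ, hΓ]
  let κ' : Equiv.Perm α := Equiv.Perm.ofSubtype (κ.subtypePerm hκ)
  have hκ'1 : ∀ x ∈ Γ, κ' x = κ x := by
    intro x hx
    change Equiv.Perm.ofSubtype (κ.subtypePerm hκ) x = _
    rw [Equiv.Perm.ofSubtype_apply_of_mem _ hx]
    rfl
  have hκ'2 : ∀ x, x ∉ Γ → κ' x = x := by
    intro x hx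
    change Equiv.Perm.ofSubtype (κ.subtypePerm hκ) x = _
    rw [Equiv.Perm.ofSubtype_apply_of_not_mem _ hx]
  have hτ : ∀ x ∈ insert δ Γ, κ' x ∈ insert δ Γ := by
    intro x hx
    rcases Finset.mem_insert.1 hx with rfl | hx
    · rw [hκ'2 x hδ]
      exact Finset.mem_insert_self _ _
    · rw [hκ'1 x hx]
      exact Finset.mem_insert_of_mem ((hκ x).2 hx)
  obtain ⟨g, hg, hgx⟩ := gen_apply hgen _ hs κ' hτ
  have hgδ : g δ = δ := by
    rw [hgx δ (Finset.mem_insert_self _ _), hκ'2 δ hδ]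
  refine ⟨κ * g⁻¹, ⟨G.mul_mem hκG (G.inv_mem hg), fun x hx => ?_⟩, ?_⟩
  · have h1 : κ⁻¹ x ∈ Γ := by
      rw [← hκ, apply_inv]
      exact hx
    have h2 : g (κ⁻¹ x) = x := by
      rw [hgx _ (Finset.mem_insert_of_mem h1), hκ'1 _ h1, apply_inv]
    rw [Equiv.Perm.mul_apply, Equiv.Perm.inv_eq_iff_eq.2 h2.symm, apply_inv]
  · rw [Equiv.Perm.mul_apply, Equiv.Perm.inv_eq_iff_eq.2 hgδ.symm]

theorem pow_apply_eq (g τ : Equiv.Perm α) (s : Finset α) (h : ∀ x ∈ s, g x = τ x)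
    (hτ : ∀ x ∈ s, τ x ∈ s) : ∀ (j : ℕ), ∀ x ∈ s, (g ^ j) x = (τ ^ j) x ∧ (τ ^ j) x ∈ s := by
  intro j
  induction j with
  | zero =>
    intro x hx
    exact ⟨rfl, hx⟩
  | succ j ih =>
    intro x hx
    obtain ⟨h1, h2⟩ := ih x hx
    rw [pow_succ', pow_succ', Equiv.Perm.mul_apply, Equiv.Perm.mul_apply, h1]
    exact ⟨h _ h2, hτ _ h2⟩

/-- An element of `KK` of order `p` modulo `HH`. -/
theorem exists_p_elt {G : Subgroup (Equiv.Perm α)} {k : ℕ}
    (hgen : ∀ s : Finset α, s.card = k + 1 → ∀ σ : Equiv.Perm ↥s, ∃ g ∈ G, ∀ x : ↥s,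
      g (x : α) = σ x)
    (Γ : Finset α) (hΓ : Γ.card = k) (hk : k < Fintype.card α) {p : ℕ} (hp : p.Prime)
    (Pt : Finset α) (hPtΓ : Pt ⊆ Γ) (hPt : Pt.card = p) :
    ∃ g ∈ KK G Γ Pt, g ^ p ∈ HH G Γ ∧ g ∉ HH G Γ := by
  obtain ⟨δ₀, hδ₀⟩ : ∃ δ₀, δ₀ ∉ Γ := by
    by_contra hall
    push Not at hall
    have : Γ = Finset.univ := Finset.eq_univ_iff_forall.2 hall
    rw [this, Finset.card_univ] at hΓ
    omega
  have hs : (insert δ₀ Γ).card = k + 1 := by
    rw [Finset.card_insert_of_notMem hδ₀, hΓ]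
  let τ : Equiv.Perm α := Pt.toList.formPerm
  have hnd : Pt.toList.Nodup := Finset.nodup_toList Pt
  have hlen : Pt.toList.length = p := by rw [Finset.length_toList, hPt]
  have hτ1 : ∀ x, x ∉ Pt → τ x = x := by
    intro x hx
    exact List.formPerm_apply_of_notMem (by rwa [Finset.mem_toList])
  have hτ2 : ∀ x ∈ Pt, τ x ∈ Pt := by
    intro x hx
    have := List.formPerm_apply_mem_of_mem (l := Pt.toList) (x := x) (by rwa [Finset.mem_toList])
    rwa [Finset.mem_toList] at this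
  have hτ3 : τ ^ p = 1 := by
    have := List.formPerm_pow_length_eq_one_of_nodup _ hnd
    rwa [hlen] at this
  have hτ4 : ∀ x ∈ Pt, τ x ≠ x := by
    intro x hx
    rw [List.formPerm_apply_mem_ne_self_iff _ hnd x (by rwa [Finset.mem_toList]), hlen]
    exact hp.two_le
  have hτΓ : ∀ x ∈ Γ, τ x ∈ Γ := by
    intro x hx
    by_cases hxPt : x ∈ Pt
    · exact hPtΓ (hτ2 x hxPt)
    · rw [hτ1 x hxPt]
      exact hx
  have hτs : ∀ x ∈ insert δ₀ Γ, τ x ∈ insert δ₀ Γ := by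
    intro x hx
    rcases Finset.mem_insert.1 hx with rfl | hx
    · rw [hτ1 x (fun h => hδ₀ (hPtΓ h))]
      exact Finset.mem_insert_self _ _
    · exact Finset.mem_insert_of_mem (hτΓ x hx)
  obtain ⟨g, hg, hgx⟩ := gen_apply hgen _ hs τ hτs
  have hgΓ : ∀ x ∈ Γ, g x = τ x := fun x hx => hgx x (Finset.mem_insert_of_mem hx)
  refine ⟨g, ⟨hg, fun x hx hx' => ?_, ?_⟩, ⟨G.pow_mem hg p, fun x hx => ?_⟩, ?_⟩
  · rw [hgΓ x hx, hτ1 x hx']
  · exact mem_iff_of_mapsTo g Γ (fun x hx => by rw [hgΓ x hx]; exact hτΓ x hx)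
  · rw [(pow_apply_eq g τ Γ hgΓ hτΓ p x hx).1, hτ3]
    rfl
  · rintro ⟨_, hfix⟩
    have hpos : 0 < Pt.card := by rw [hPt]; exact hp.pos
    obtain ⟨x, hx⟩ := Finset.card_pos.1 hpos
    have := hfix x (hPtΓ hx)
    rw [hgΓ x (hPtΓ hx)] at this
    exact hτ4 x hx this

end


/-- If some element of `K` has order `p` modulo the normal subgroup `H`, then `K` has a
`p`-subgroup whose order does not divide that of `H`. -/
theorem exists_big_pgroup {X : Type*} [Group X] [Finite X] {H K : Subgroup X} (hHK : H ≤ K)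
    (hnorm : ∀ κ ∈ K, ∀ h ∈ H, κ * h * κ⁻¹ ∈ H) {p : ℕ} (hp : p.Prime) (g : X) (hgK : g ∈ K)
    (hgp : g ^ p ∈ H) (hgH : g ∉ H) :
    ∃ P₁ : Subgroup X, P₁ ≤ K ∧ IsPGroup p P₁ ∧ ¬ Nat.card P₁ ∣ Nat.card H := by
  haveI : Fact p.Prime := ⟨hp⟩
  let HK : Subgroup K := H.subgroupOf K
  haveI : HK.Normal := by
    refine ⟨fun n hn κ => ?_⟩
    rw [Subgroup.mem_subgroupOf] at hn ⊢
    exact hnorm κ κ.2 n hn
  let g' : K := ⟨g, hgK⟩
  have ho : orderOf (QuotientGroup.mk g' : K ⧸ HK) = p := by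
    apply orderOf_eq_prime
    · rw [← QuotientGroup.mk_pow, QuotientGroup.eq_one_iff, Subgroup.mem_subgroupOf]
      exact hgp
    · rw [Ne, QuotientGroup.eq_one_iff, Subgroup.mem_subgroupOf]
      exact hgH
  have hdvd : p ∣ HK.index := by
    rw [Subgroup.index_eq_card, ← ho]
    exact orderOf_dvd_natCard _
  have hcard : Nat.card K = Nat.card HK * HK.index := (Subgroup.card_mul_index HK).symm
  have hHK' : Nat.card HK = Nat.card H :=
    Nat.card_congr (Subgroup.subgroupOfEquivOfLe hHK).toEquiv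
  let P₁s : Sylow p K := default
  refine ⟨(P₁s : Subgroup K).map K.subtype, ?_, ?_, ?_⟩
  · rintro _ ⟨x, _, rfl⟩
    exact x.2
  · exact P₁s.isPGroup'.map _
  · rw [Subgroup.card_map_of_injective K.subtype_injective, P₁s.card_eq_multiplicity]
    intro hd
    have hH0 : Nat.card H ≠ 0 := Nat.card_pos.ne'
    have h1 := (hp.pow_dvd_iff_le_factorization hH0).1 hd
    have hidx0 : HK.index ≠ 0 := by
      intro e
      rw [e, mul_zero] at hcard
      exact (Nat.card_pos (α := K)).ne' hcard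
    rw [hcard, hHK', Nat.factorization_mul hH0 hidx0] at h1
    have h2 : 0 < (HK.index).factorization p := hp.factorization_pos_of_dvd hidx0 hdvd
    simp only [Finsupp.coe_add, Pi.add_apply] at h1
    omega


theorem result {α : Type*} [Fintype α] [DecidableEq α] (G : Subgroup (Equiv.Perm α)) {k : ℕ} (hk : k < Fintype.card α) (hgen : ∀ s : Finset α, s.card = k + 1 → ∀ σ : Equiv.Perm ↥s, ∃ g ∈ G, ∀ x : ↥s, g (x : α) = σ x) {p : ℕ} (hp : p.Prime) (hpk : p ≤ k) (Γ : Finset α) (hΓ : Γ.card = k) (f : Fin p → α) (hf : ∀ i, f i ∉ Γ) (hdist : ∀ i j, i ≠ j → f j ∉ MulAction.orbit (fixingSubgroup G (Γ : Set α)) (f i)) : ∃ i, p ∣ Nat.card (MulAction.orbit (fixingSubgroup G (Γ : Set α)) (f i)) := by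
  classical
  by_contra hno
  push Not at hno
  haveI : Fact p.Prime := ⟨hp⟩
  -- translate orbits
  have horb : ∀ x : α, MulAction.orbit (fixingSubgroup G (Γ : Set α)) x =
      MulAction.orbit (HH G Γ) x := by
    intro x
    ext y
    constructor
    · rintro ⟨h, rfl⟩
      have hh := h.2
      rw [mem_fixingSubgroup_iff] at hh
      refine ⟨⟨((h : G) : Equiv.Perm α), (h : G).2, fun z hz => ?_⟩, rfl⟩
      exact hh z (Finset.mem_coe.2 hz)
    · rintro ⟨h, rfl⟩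
      obtain ⟨hG, hfix⟩ := h.2
      refine ⟨⟨⟨h.1, hG⟩, ?_⟩, rfl⟩
      rw [mem_fixingSubgroup_iff]
      intro z hz
      exact hfix z (Finset.mem_coe.1 hz)
  simp only [horb] at hno hdist
  obtain ⟨Pt, hPtΓ, hPt⟩ := Finset.exists_subset_card_eq (s := Γ) (n := p) (by rw [hΓ]; exact hpk)
  have hnorm : ∀ κ ∈ KK G Γ Pt, ∀ h ∈ HH G Γ, κ * h * κ⁻¹ ∈ HH G Γ := by
    rintro κ ⟨hκG, _, hκ⟩ h ⟨hhG, hh⟩
    refine ⟨G.mul_mem (G.mul_mem hκG hhG) (G.inv_mem hκG), fun x hx => ?_⟩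
    have h1 : κ⁻¹ x ∈ Γ := by
      rw [← hκ, apply_inv]
      exact hx
    rw [Equiv.Perm.mul_apply, Equiv.Perm.mul_apply, hh _ h1, apply_inv]
  obtain ⟨g₀, hg₀K, hg₀p, hg₀H⟩ := exists_p_elt hgen Γ hΓ hk hp Pt hPtΓ hPt
  obtain ⟨P₁, hP₁K, hP₁p, hP₁card⟩ :=
    exists_big_pgroup (HH_le_KK G Γ Pt) hnorm hp g₀ hg₀K hg₀p hg₀H
  -- points of the orbits are outside Γ
  have hout : ∀ i, ∀ y ∈ MulAction.orbit (HH G Γ) (f i), y ∉ Γ := by
    rintro i _ ⟨h, rfl⟩ hy
    have h1 := (mem_iff_of_mapsTo (h : Equiv.Perm α) Γ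
      (fun x hx => by rw [h.2.2 x hx]; exact hx) (f i)).1 hy
    exact hf i h1
  -- P₁ preserves each orbit
  have hinv : ∀ i, ∀ q ∈ P₁, ∀ y ∈ MulAction.orbit (HH G Γ) (f i),
      q y ∈ MulAction.orbit (HH G Γ) (f i) := by
    intro i q hq y hy
    obtain ⟨hqG, _, hqΓ⟩ := hP₁K hq
    obtain ⟨h, hhH, hhy⟩ := orbit_invariant hgen Γ hΓ q hqG hqΓ y (hout i y hy)
    rw [← hhy]
    obtain ⟨h', rfl⟩ := hy
    refine ⟨⟨h, hhH⟩ * h', ?_⟩
    change ((⟨h, hhH⟩ : HH G Γ) * h') • f i = _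
    rw [mul_smul]
    rfl
  -- fixed points
  have hfixed : ∀ i, ∃ δ' ∈ MulAction.orbit (HH G Γ) (f i), ∀ q ∈ P₁, q δ' = δ' := by
    intro i
    let S : SubMulAction P₁ α :=
      { carrier := MulAction.orbit (HH G Γ) (f i)
        smul_mem' := fun q y hy => hinv i q q.2 y hy }
    have hcardS : ¬ p ∣ Nat.card S := hno i
    obtain ⟨a, ha⟩ := hP₁p.nonempty_fixed_point_of_prime_not_dvd_card S hcardS
    refine ⟨a.1, a.2, fun q hq => ?_⟩
    have := ha ⟨q, hq⟩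
    exact congrArg Subtype.val this
  choose δ' hδ'orb hδ'fix using hfixed
  have hδ'inj : Function.Injective δ' := by
    intro i j hij
    by_contra hne
    apply hdist i j hne
    have h1 : δ' j ∈ MulAction.orbit (HH G Γ) (f i) := by
      rw [← hij]
      exact hδ'orb i
    have h2 := MulAction.orbit_eq_iff.2 h1
    have h3 := MulAction.orbit_eq_iff.2 (hδ'orb j)
    rw [← h2, h3]
    exact MulAction.mem_orbit_self _
  -- the new k-set
  let Sg : Finset α := (Γ \ Pt) ∪ Finset.univ.image δ'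
  have hdisj : Disjoint (Γ \ Pt) (Finset.univ.image δ') := by
    rw [Finset.disjoint_left]
    intro x hx hx'
    obtain ⟨i, _, rfl⟩ := Finset.mem_image.1 hx'
    exact hout i _ (hδ'orb i) (Finset.mem_sdiff.1 hx).1
  have hSgcard : Sg.card = k := by
    rw [Finset.card_union_of_disjoint hdisj, Finset.card_sdiff_of_subset hPtΓ,
      Finset.card_image_of_injective _ hδ'inj, Finset.card_univ, Fintype.card_fin, hΓ, hPt]
    omega
  have hSgfix : ∀ q ∈ P₁, ∀ x ∈ Sg, q x = x := by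
    intro q hq x hx
    rcases Finset.mem_union.1 hx with hx | hx
    · obtain ⟨h1, h2⟩ := Finset.mem_sdiff.1 hx
      exact (hP₁K hq).2.1 x h1 h2
    · obtain ⟨i, _, rfl⟩ := Finset.mem_image.1 hx
      exact hδ'fix i q hq
  obtain ⟨g, hgG, hgSg⟩ := exists_map_finset hgen Γ hΓ _ Sg hSgcard rfl
  have hle : P₁.map (MulAut.conj g).toMonoidHom ≤ HH G Γ := by
    rintro _ ⟨q, hq, rfl⟩
    refine ⟨?_, fun x hx => ?_⟩
    · change g * q * g⁻¹ ∈ G
      exact G.mul_mem (G.mul_mem hgG (hP₁K hq).1) (G.inv_mem hgG)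
    · change (g * q * g⁻¹) x = x
      rw [← hgSg] at hx
      obtain ⟨y, hy, rfl⟩ := Finset.mem_image.1 hx
      have h0 : g⁻¹ (g y) = y := by
        rw [Equiv.Perm.inv_def, Equiv.symm_apply_apply]
      rw [Equiv.Perm.mul_apply, Equiv.Perm.mul_apply, h0, hSgfix q hq y hy]
  apply hP₁card
  have h1 := Subgroup.card_dvd_of_le hle
  rwa [Subgroup.card_map_of_injective (MulAut.conj g).injective] at h1

end Cfsg.Agent.S0706
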