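import Cfsg.Statements.S0709
import Mathlib

set_option autoImplicit false
open Cfsg

namespace Cfsg.Agent.S0709

section onestep
variable {α : Type*}

theorem inv_apply_eq {g : Equiv.Perm α} {x y : α} (h : g x = y) : g⁻¹ y = x := by
  rw [← h, Equiv.Perm.inv_def, Equiv.symm_apply_apply]

/-- One-point extension step. -/
theorem one_step (K : Subgroup (Equiv.Perm α)) (Ω : Set α) (inf a b : α)
    (ha : a ∈ Ω) (hb : b ∈ Ω) (hab : a ≠ b) (hinf : inf ∉ Ω)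
    (hKinf : ∀ k ∈ K, k inf = inf) (hKΩ : ∀ k ∈ K, ∀ x ∈ Ω, k x ∈ Ω)
    (h2 : ∀ x y x' y', x ∈ Ω → y ∈ Ω → x' ∈ Ω → y' ∈ Ω → x ≠ y → x' ≠ y' →
      ∃ k ∈ K, k x = x' ∧ k y = y')
    (u : Equiv.Perm α) (huK : u ∈ K) (hua : u a = b) (hub : u b = a)
    (s : Equiv.Perm α) (hsb : s b = inf) (hsinf : s inf = b)
    (hs2 : s ^ 2 ∈ K) (hus : (u * s) ^ 3 ∈ K)
    (hsn : ∀ k ∈ K, k b = b → s * k * s⁻¹ ∈ K) :
    ∀ g ∈ Subgroup.closure ((K : Set (Equiv.Perm α)) ∪ {s}), g inf = inf → g ∈ K := by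
  -- the double coset description
  let D : Set (Equiv.Perm α) := {g | g ∈ K ∨ ∃ k₁ ∈ K, ∃ k₂ ∈ K, g = k₁ * s * k₂}
  have hs2' : s⁻¹ * s⁻¹ ∈ K := by
    have := K.inv_mem hs2
    rwa [pow_two, mul_inv_rev] at this
  have hsn' : ∀ k ∈ K, k b = b → s⁻¹ * k * s ∈ K := by
    intro k hk hkb
    have h1 := hsn k hk hkb
    have : s⁻¹ * k * s = (s⁻¹ * s⁻¹) * (s * k * s⁻¹) * (s ^ 2) := by
      rw [pow_two]; group
    rw [this]
    exact K.mul_mem (K.mul_mem hs2' h1) hs2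
  -- decomposition of K
  have hdec : ∀ k ∈ K, k b ≠ b → ∃ m ∈ K, ∃ n ∈ K, m b = b ∧ n b = b ∧ k = m * u * n := by
    intro k hk hkb
    obtain ⟨m, hm, hmb, hma⟩ := h2 b a b (k b) hb ha hb (hKΩ k hk b hb) hab.symm
      (fun e => hkb e.symm)
    refine ⟨m, hm, u⁻¹ * m⁻¹ * k, K.mul_mem (K.mul_mem (K.inv_mem huK) (K.inv_mem hm)) hk,
      hmb, ?_, by group⟩
    rw [Equiv.Perm.mul_apply, Equiv.Perm.mul_apply, inv_apply_eq hma, inv_apply_eq hub]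
  -- s u s
  have hsus : ∃ k₁ ∈ K, ∃ k₂ ∈ K, s * u * s = k₁ * s * k₂ := by
    refine ⟨u⁻¹ * (u * s) ^ 3 * (s⁻¹ * s⁻¹), K.mul_mem (K.mul_mem (K.inv_mem huK) hus) hs2',
      u⁻¹, K.inv_mem huK, ?_⟩
    rw [pow_succ, pow_two]
    group
  have hKD : ∀ k ∈ K, ∀ g ∈ D, k * g ∈ D := by
    rintro k hk g (hg | ⟨k₁, hk₁, k₂, hk₂, rfl⟩)
    · exact Or.inl (K.mul_mem hk hg)
    · exact Or.inr ⟨k * k₁, K.mul_mem hk hk₁, k₂, hk₂, by group⟩
  have hsD : ∀ g ∈ D, s * g ∈ D := by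
    rintro g (hg | ⟨k₁, hk₁, k₂, hk₂, rfl⟩)
    · exact Or.inr ⟨1, K.one_mem, g, hg, by group⟩
    · by_cases hk₁b : k₁ b = b
      · left
        have h1 := hsn k₁ hk₁ hk₁b
        have : s * (k₁ * s * k₂) = (s * k₁ * s⁻¹) * s ^ 2 * k₂ := by
          rw [pow_two]; group
        rw [this]
        exact K.mul_mem (K.mul_mem h1 hs2) hk₂
      · obtain ⟨m, hm, n, hn, hmb, hnb, rfl⟩ := hdec k₁ hk₁ hk₁b
        obtain ⟨c₁, hc₁, c₂, hc₂, hc⟩ := hsus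
        right
        refine ⟨(s * m * s⁻¹) * c₁, K.mul_mem (hsn m hm hmb) hc₁,
          c₂ * (s⁻¹ * n * s) * k₂, K.mul_mem (K.mul_mem hc₂ (hsn' n hn hnb)) hk₂, ?_⟩
        have : s * (m * u * n * s * k₂) = (s * m * s⁻¹) * (s * u * s) * (s⁻¹ * n * s) * k₂ := by
          group
        rw [this, hc]
        group
  have hsinvD : ∀ g ∈ D, s⁻¹ * g ∈ D := by
    intro g hg
    have : s⁻¹ * g = (s⁻¹ * s⁻¹) * (s * g) := by group
    rw [this]
    exact hKD _ hs2' _ (hsD g hg)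
  have hclD : ∀ g ∈ Subgroup.closure ((K : Set (Equiv.Perm α)) ∪ {s}), g ∈ D := by
    intro g hg
    induction hg using Subgroup.closure_induction_left with
    | one => exact Or.inl K.one_mem
    | mul_left x hx y _ ih =>
      rcases hx with hx | hx
      · exact hKD x hx y ih
      · rw [Set.mem_singleton_iff] at hx
        rw [hx]
        exact hsD y ih
    | inv_mul_cancel x hx y _ ih =>
      rcases hx with hx | hx
      · exact hKD _ (K.inv_mem hx) y ih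
      · rw [Set.mem_singleton_iff] at hx
        rw [hx]
        exact hsinvD y ih
  intro g hg hginf
  rcases hclD g hg with h | ⟨k₁, hk₁, k₂, hk₂, rfl⟩
  · exact h
  · exfalso
    rw [Equiv.Perm.mul_apply, Equiv.Perm.mul_apply, hKinf k₂ hk₂, hsinf] at hginf
    apply hinf
    rw [← hginf]
    exact hKΩ k₁ hk₁ b hb

end onestep


/-- The data of Witt's lemma. -/
structure Setup (α : Type*) where
  t : ℕ
  ht : 2 ≤ t
  q : ℕ → α
  hq : ∀ i j : ℕ, 1 ≤ i → i ≤ t → 1 ≤ j → j ≤ t → q i = q j → i = j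
  G : Subgroup (Equiv.Perm α)
  hfix : ∀ g ∈ G, ∀ i : ℕ, 3 ≤ i → i ≤ t → g (q i) = q i
  h2 : ∀ a b c d : α, (∀ i, 3 ≤ i → i ≤ t → a ≠ q i ∧ b ≠ q i ∧ c ≠ q i ∧ d ≠ q i) → a ≠ b →
    c ≠ d → ∃ g ∈ G, g a = c ∧ g b = d
  s : ℕ → Equiv.Perm α
  hs1 : s 1 ∈ G
  hs1q : s 1 (q 1) = q 2 ∧ s 1 (q 2) = q 1
  hsq : ∀ i : ℕ, 2 ≤ i → i + 1 ≤ t → s i (q i) = q (i + 1) ∧ s i (q (i + 1)) = q i ∧
    ∀ j : ℕ, 1 ≤ j → j ≤ t → j ≠ i → j ≠ i + 1 → s i (q j) = q j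
  H : Subgroup (Equiv.Perm α)
  hH : H = G ⊓ MulAction.stabilizer (Equiv.Perm α) (q 1) ⊓ MulAction.stabilizer (Equiv.Perm α) (q 2)
  hsq2 : ∀ i : ℕ, 1 ≤ i → i + 1 ≤ t → s i ^ 2 ∈ H
  hbraid : ∀ i : ℕ, 1 ≤ i → i + 2 ≤ t → (s i * s (i + 1)) ^ 3 ∈ H
  hcomm : ∀ i j : ℕ, 1 ≤ i → i + 2 ≤ j → j + 1 ≤ t → (s i * s j) ^ 2 ∈ H ∧ (s j * s i) ^ 2 ∈ H
  hnorm : ∀ i : ℕ, 2 ≤ i → i + 1 ≤ t → ∀ g ∈ G ⊓ MulAction.stabilizer (Equiv.Perm α) (q 2),
    s i * g * (s i)⁻¹ ∈ G ⊓ MulAction.stabilizer (Equiv.Perm α) (q 2)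

namespace Setup

variable {α : Type*} (S : Setup α)

/-- The extra generators up to level `j`. -/
def Gen (j : ℕ) : Set (Equiv.Perm α) := {x | ∃ i : ℕ, 2 ≤ i ∧ i + 1 ≤ j ∧ x = S.s i}

/-- The group at level `j`. -/
def Gj (j : ℕ) : Subgroup (Equiv.Perm α) :=
  Subgroup.closure ((S.G : Set (Equiv.Perm α)) ∪ S.Gen j)

/-- The points available at level `j`. -/
def Om (j : ℕ) : Set α := {x | ∀ i, j < i → i ≤ S.t → x ≠ S.q i}

theorem G_le_Gj (j : ℕ) : S.G ≤ S.Gj j := fun _ hg =>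
  Subgroup.subset_closure (Or.inl hg)

theorem Gj_two : S.Gj 2 = S.G := by
  apply le_antisymm
  · rw [Gj, Subgroup.closure_le]
    rintro x (hx | ⟨i, h1, h2, _⟩)
    · exact hx
    · omega
  · exact S.G_le_Gj 2

theorem Gj_mono {j j' : ℕ} (h : j ≤ j') : S.Gj j ≤ S.Gj j' := by
  apply Subgroup.closure_mono
  rintro x (hx | ⟨i, h1, h2, rfl⟩)
  · exact Or.inl hx
  · exact Or.inr ⟨i, h1, by omega, rfl⟩

theorem s_mem_Gj {i j : ℕ} (h1 : 2 ≤ i) (h2 : i + 1 ≤ j) : S.s i ∈ S.Gj j :=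
  Subgroup.subset_closure (Or.inr ⟨i, h1, h2, rfl⟩)

theorem Gj_succ (j : ℕ) (hj : 2 ≤ j) :
    S.Gj (j + 1) = Subgroup.closure ((S.Gj j : Set (Equiv.Perm α)) ∪ {S.s j}) := by
  apply le_antisymm
  · rw [Gj, Subgroup.closure_le]
    rintro x (hx | ⟨i, h1, h2, rfl⟩)
    · exact Subgroup.subset_closure (Or.inl (S.G_le_Gj j hx))
    · by_cases hij : i = j
      · rw [hij]
        exact Subgroup.subset_closure (Or.inr rfl)
      · exact Subgroup.subset_closure (Or.inl (S.s_mem_Gj h1 (by omega)))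
  · rw [Subgroup.closure_le]
    rintro x (hx | hx)
    · exact S.Gj_mono (Nat.le_succ j) hx
    · rw [Set.mem_singleton_iff] at hx
      rw [hx]
      exact S.s_mem_Gj hj (le_refl _)

/-- Elements at level `j` fix the later points. -/
theorem Gj_fix {j : ℕ} (hj : 2 ≤ j) {g : Equiv.Perm α} (hg : g ∈ S.Gj j) :
    ∀ i, j < i → i ≤ S.t → g (S.q i) = S.q i := by
  induction hg using Subgroup.closure_induction with
  | mem x hx =>
    intro i hi hit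
    rcases hx with hx | ⟨l, h1, h2, rfl⟩
    · exact S.hfix x hx i (by omega) hit
    · exact (S.hsq l h1 (by omega)).2.2 i (by omega) hit (by omega) (by omega)
  | one => intro i _ _; rfl
  | mul x y _ _ ihx ihy =>
    intro i hi hit
    rw [Equiv.Perm.mul_apply, ihy i hi hit, ihx i hi hit]
  | inv x _ ih =>
    intro i hi hit
    exact inv_apply_eq (ih i hi hit)

theorem Gj_Om {j : ℕ} (hj : 2 ≤ j) {g : Equiv.Perm α} (hg : g ∈ S.Gj j) {x : α}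
    (hx : x ∈ S.Om j) : g x ∈ S.Om j := by
  intro i hi hit e
  apply hx i hi hit
  have := S.Gj_fix hj hg i hi hit
  rw [← this] at e
  exact g.injective e

theorem H_le_G : S.H ≤ S.G := by
  rw [S.hH]
  exact inf_le_left.trans inf_le_left

theorem H_fix1 {h : Equiv.Perm α} (hh : h ∈ S.H) : h (S.q 1) = S.q 1 := by
  rw [S.hH] at hh
  exact MulAction.mem_stabilizer_iff.1 hh.1.2

theorem H_fix2 {h : Equiv.Perm α} (hh : h ∈ S.H) : h (S.q 2) = S.q 2 := by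
  rw [S.hH] at hh
  exact MulAction.mem_stabilizer_iff.1 hh.2

theorem q_mem_Om {i j : ℕ} (h1 : 1 ≤ i) (h2 : i ≤ j) (hj : j ≤ S.t) : S.q i ∈ S.Om j := by
  intro l hl hlt e
  have := S.hq i l h1 (by omega) (by omega) hlt e
  omega

/-- Conjugation formula from a relation `(x y)^2 = h`. -/
theorem conj_of_sq {x y h : Equiv.Perm α} (hxy : (x * y) ^ 2 = h) :
    y * x * y⁻¹ = x⁻¹ * h * (y ^ 2)⁻¹ := by
  rw [← hxy, pow_two, pow_two]
  group

/-- For `j ≥ 3`, `s j` normalises `G`. -/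
theorem s_norm_G {j : ℕ} (hj : 3 ≤ j) (hjt : j + 1 ≤ S.t) {g : Equiv.Perm α} (hg : g ∈ S.G) :
    S.s j * g * (S.s j)⁻¹ ∈ S.G := by
  have hs1conj : S.s j * S.s 1 * (S.s j)⁻¹ ∈ S.G := by
    rw [conj_of_sq (x := S.s 1) (y := S.s j) rfl]
    exact S.G.mul_mem (S.G.mul_mem (S.G.inv_mem S.hs1)
      (S.H_le_G (S.hcomm 1 j (le_refl _) (by omega) hjt).1))
      (S.G.inv_mem (S.H_le_G (S.hsq2 j (by omega) hjt)))
  have hstab : ∀ k ∈ S.G, k (S.q 2) = S.q 2 → S.s j * k * (S.s j)⁻¹ ∈ S.G := by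
    intro k hk hk2
    exact (S.hnorm j (by omega) hjt k ⟨hk, MulAction.mem_stabilizer_iff.2 hk2⟩).1
  by_cases hg2 : g (S.q 2) = S.q 2
  · exact hstab g hg hg2
  · -- decomposition
    have h12 : S.q 1 ≠ S.q 2 := by
      intro e
      have := S.hq 1 2 (le_refl _) (by have := S.ht; omega) (by omega) S.ht e
      omega
    have hOm : ∀ x ∈ S.Om 2, ∀ i, 3 ≤ i → i ≤ S.t → x ≠ S.q i := fun x hx i hi hit =>
      hx i (by omega) hit
    have hq1 := S.q_mem_Om (i := 1) (j := 2) (le_refl _) (by omega) S.ht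
    have hq2 := S.q_mem_Om (i := 2) (j := 2) (by omega) (le_refl _) S.ht
    have hgq2 : g (S.q 2) ∈ S.Om 2 := by
      have : g ∈ S.Gj 2 := by rw [S.Gj_two]; exact hg
      exact S.Gj_Om (le_refl _) this hq2
    obtain ⟨m, hm, hmb, hma⟩ := S.h2 (S.q 2) (S.q 1) (S.q 2) (g (S.q 2))
      (fun i hi hit => ⟨hOm _ hq2 i hi hit, hOm _ hq1 i hi hit, hOm _ hq2 i hi hit,
        hOm _ hgq2 i hi hit⟩) h12.symm (fun e => hg2 e.symm)
    have hn : (S.s 1)⁻¹ * m⁻¹ * g ∈ S.G :=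
      S.G.mul_mem (S.G.mul_mem (S.G.inv_mem S.hs1) (S.G.inv_mem hm)) hg
    have hnb : ((S.s 1)⁻¹ * m⁻¹ * g) (S.q 2) = S.q 2 := by
      rw [Equiv.Perm.mul_apply, Equiv.Perm.mul_apply, inv_apply_eq hma, inv_apply_eq S.hs1q.2]
    have : S.s j * g * (S.s j)⁻¹ = (S.s j * m * (S.s j)⁻¹) * (S.s j * S.s 1 * (S.s j)⁻¹) *
        (S.s j * ((S.s 1)⁻¹ * m⁻¹ * g) * (S.s j)⁻¹) := by group
    rw [this]
    exact S.G.mul_mem (S.G.mul_mem (hstab m hm hmb) hs1conj) (hstab _ hn hnb)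

/-- `s (j'+1)` normalises the group at level `j'`. -/
theorem s_norm_Gj {j' : ℕ} (hj : 2 ≤ j') (hjt : j' + 2 ≤ S.t) {g : Equiv.Perm α}
    (hg : g ∈ S.Gj j') : S.s (j' + 1) * g * (S.s (j' + 1))⁻¹ ∈ S.Gj j' := by
  induction hg using Subgroup.closure_induction with
  | mem x hx =>
    rcases hx with hx | ⟨l, h1, h2, rfl⟩
    · exact S.G_le_Gj j' (S.s_norm_G (by omega) (by omega) hx)
    · rw [conj_of_sq (x := S.s l) (y := S.s (j' + 1)) rfl]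
      exact (S.Gj j').mul_mem ((S.Gj j').mul_mem ((S.Gj j').inv_mem (S.s_mem_Gj h1 h2))
        (S.G_le_Gj j' (S.H_le_G (S.hcomm l (j' + 1) (by omega) (by omega) (by omega)).1)))
        ((S.Gj j').inv_mem (S.G_le_Gj j' (S.H_le_G (S.hsq2 (j' + 1) (by omega) (by omega)))))
  | one =>
    rw [mul_one, mul_inv_cancel]
    exact (S.Gj j').one_mem
  | mul x y _ _ ihx ihy =>
    have : S.s (j' + 1) * (x * y) * (S.s (j' + 1))⁻¹ =
        (S.s (j' + 1) * x * (S.s (j' + 1))⁻¹) * (S.s (j' + 1) * y * (S.s (j' + 1))⁻¹) := by group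
    rw [this]
    exact (S.Gj j').mul_mem ihx ihy
  | inv x _ ih =>
    have : S.s (j' + 1) * x⁻¹ * (S.s (j' + 1))⁻¹ = (S.s (j' + 1) * x * (S.s (j' + 1))⁻¹)⁻¹ := by
      group
    rw [this]
    exact (S.Gj j').inv_mem ih


/-- Double transitivity at level `j`. -/
def I1 (j : ℕ) : Prop := ∀ x y x' y', x ∈ S.Om j → y ∈ S.Om j → x' ∈ S.Om j → y' ∈ S.Om j →
  x ≠ y → x' ≠ y' → ∃ g ∈ S.Gj j, g x = x' ∧ g y = y'

/-- Stabiliser chain up to level `j`. -/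
def I2 (j : ℕ) : Prop := ∀ j', 2 ≤ j' → j' + 1 ≤ j → ∀ g ∈ S.Gj (j' + 1),
  g (S.q (j' + 1)) = S.q (j' + 1) → g ∈ S.Gj j'

theorem Om_of_succ {j : ℕ} {x : α} (hx : x ∈ S.Om (j + 1)) (hne : x ≠ S.q (j + 1)) :
    x ∈ S.Om j := by
  intro i hi hit
  by_cases h : i = j + 1
  · rw [h]; exact hne
  · exact hx i (by omega) hit

theorem Om_succ_of {j : ℕ} {x : α} (hx : x ∈ S.Om j) : x ∈ S.Om (j + 1) :=
  fun i hi hit => hx i (by omega) hit

theorem trans_of_I1 {j : ℕ} (h : S.I1 j) {z w : α} (hz : z ∈ S.Om j) (hw : w ∈ S.Om j) :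
    ∃ k ∈ S.Gj j, k z = w := by
  by_cases e : z = w
  · exact ⟨1, (S.Gj j).one_mem, e⟩
  · obtain ⟨k, hk, h1, _⟩ := h z w w z hz hw hw hz e (Ne.symm e)
    exact ⟨k, hk, h1⟩

theorem main_ind : ∀ m, m + 2 ≤ S.t → S.I1 (m + 2) ∧ S.I2 (m + 2) := by
  intro m
  induction m with
  | zero =>
    intro _
    constructor
    · intro x y x' y' hx hy hx' hy' hxy hxy'
      rw [S.Gj_two]
      exact S.h2 x y x' y' (fun i hi hit => ⟨hx i (by omega) hit, hy i (by omega) hit,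
        hx' i (by omega) hit, hy' i (by omega) hit⟩) hxy hxy'
    · intro j' h1 h2
      omega
  | succ m ih =>
    intro hmt
    obtain ⟨ih1, ih2⟩ := ih (by omega)
    have hj2 : 2 ≤ m + 2 := by omega
    have hsj := S.hsq (m + 2) hj2 (by omega)
    have hu : S.s (m + 1) ∈ S.Gj (m + 2) ∧ S.s (m + 1) (S.q (m + 1)) = S.q (m + 2) ∧
        S.s (m + 1) (S.q (m + 2)) = S.q (m + 1) := by
      rcases Nat.eq_zero_or_pos m with rfl | hm
      · exact ⟨S.G_le_Gj _ S.hs1, S.hs1q.1, S.hs1q.2⟩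
      · have := S.hsq (m + 1) (by omega) (by omega)
        exact ⟨S.s_mem_Gj (by omega) (le_refl _), this.1, this.2.1⟩
    have hab : S.q (m + 1) ≠ S.q (m + 2) := by
      intro e
      have := S.hq (m + 1) (m + 2) (by omega) (by omega) (by omega) (by omega) e
      omega
    have hinf : S.q (m + 2 + 1) ∉ S.Om (m + 2) := fun h => h (m + 2 + 1) (by omega) (by omega) rfl
    have hsn : ∀ k ∈ S.Gj (m + 2), k (S.q (m + 2)) = S.q (m + 2) →
        S.s (m + 2) * k * (S.s (m + 2))⁻¹ ∈ S.Gj (m + 2) := by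
      intro k hk hkb
      rcases Nat.eq_zero_or_pos m with rfl | hm
      · rw [S.Gj_two] at hk ⊢
        exact (S.hnorm 2 (le_refl _) (by omega) k ⟨hk, MulAction.mem_stabilizer_iff.2 hkb⟩).1
      · obtain ⟨m', rfl⟩ : ∃ m', m = m' + 1 := ⟨m - 1, by omega⟩
        have hk' : k ∈ S.Gj (m' + 2) := ih2 (m' + 2) (by omega) (by omega) k hk hkb
        exact S.Gj_mono (by omega) (S.s_norm_Gj (j' := m' + 2) (by omega) (by omega) hk')
    have hstep := one_step (S.Gj (m + 2)) (S.Om (m + 2)) (S.q (m + 2 + 1)) (S.q (m + 1))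
      (S.q (m + 2)) (S.q_mem_Om (by omega) (by omega) (by omega))
      (S.q_mem_Om (by omega) (le_refl _) (by omega)) hab hinf
      (fun k hk => S.Gj_fix hj2 hk (m + 2 + 1) (by omega) (by omega))
      (fun k hk x hx => S.Gj_Om hj2 hk hx) ih1 (S.s (m + 1)) hu.1 hu.2.1 hu.2.2
      (S.s (m + 2)) hsj.1 hsj.2.1
      (S.G_le_Gj _ (S.H_le_G (S.hsq2 (m + 2) (by omega) (by omega))))
      (S.G_le_Gj _ (S.H_le_G (S.hbraid (m + 1) (by omega) (by omega)))) hsn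
    rw [← S.Gj_succ (m + 2) hj2] at hstep
    have hI2 : S.I2 (m + 1 + 2) := by
      intro j' h1 h2 g hg hgq
      by_cases hj' : j' + 1 ≤ m + 2
      · exact ih2 j' h1 hj' g hg hgq
      · have : j' = m + 2 := by omega
        subst this
        exact hstep g hg hgq
    refine ⟨?_, hI2⟩
    -- double transitivity at the next level
    have hj3 : 2 ≤ m + 2 + 1 := by omega
    have hto : ∀ x ∈ S.Om (m + 2 + 1), ∃ g ∈ S.Gj (m + 2 + 1), g x = S.q (m + 2 + 1) := by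
      intro x hx
      by_cases e : x = S.q (m + 2 + 1)
      · exact ⟨1, Subgroup.one_mem _, e⟩
      · obtain ⟨k, hk, hkx⟩ := S.trans_of_I1 ih1 (S.Om_of_succ hx e)
          (S.q_mem_Om (i := m + 2) (by omega) (le_refl _) (by omega))
        refine ⟨S.s (m + 2) * k, Subgroup.mul_mem _ (S.s_mem_Gj hj2 (le_refl _))
          (S.Gj_mono (Nat.le_succ _) hk), ?_⟩
        rw [Equiv.Perm.mul_apply, hkx, hsj.1]
    intro x y x' y' hx hy hx' hy' hxy hxy'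
    obtain ⟨g₁, hg₁, hg₁y⟩ := hto y hy
    obtain ⟨g₂, hg₂, hg₂y⟩ := hto y' hy'
    have h1 : g₁ x ∈ S.Om (m + 2) := by
      apply S.Om_of_succ (S.Gj_Om hj3 hg₁ hx)
      rw [← hg₁y]
      exact fun e => hxy (g₁.injective e)
    have h2 : g₂ x' ∈ S.Om (m + 2) := by
      apply S.Om_of_succ (S.Gj_Om hj3 hg₂ hx')
      rw [← hg₂y]
      exact fun e => hxy' (g₂.injective e)
    obtain ⟨k, hk, hkx⟩ := S.trans_of_I1 ih1 h1 h2
    refine ⟨g₂⁻¹ * k * g₁, Subgroup.mul_mem _ (Subgroup.mul_mem _ (Subgroup.inv_mem _ hg₂)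
      (S.Gj_mono (Nat.le_succ _) hk)) hg₁, ?_, ?_⟩
    · rw [Equiv.Perm.mul_apply, Equiv.Perm.mul_apply, hkx]
      exact inv_apply_eq rfl
    · rw [Equiv.Perm.mul_apply, Equiv.Perm.mul_apply, hg₁y,
        S.Gj_fix hj2 hk (m + 2 + 1) (by omega) (by omega)]
      exact inv_apply_eq hg₂y


theorem tuple_trans : ∀ m, m + 2 ≤ S.t → ∀ x : ℕ → α,
    (∀ i, 1 ≤ i → i ≤ m + 2 → x i ∈ S.Om (m + 2)) →
    (∀ i i', 1 ≤ i → i ≤ m + 2 → 1 ≤ i' → i' ≤ m + 2 → x i = x i' → i = i') →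
    ∃ g ∈ S.Gj (m + 2), ∀ i, 1 ≤ i → i ≤ m + 2 → g (x i) = S.q i := by
  intro m
  induction m with
  | zero =>
    intro hmt x hx hinj
    have h12 : S.q 1 ≠ S.q 2 := by
      intro e
      have := S.hq 1 2 (le_refl _) (by omega) (by omega) (by omega) e
      omega
    have hx12 : x 1 ≠ x 2 := by
      intro e
      have := hinj 1 2 (le_refl _) (by omega) (by omega) (le_refl _) e
      omega
    obtain ⟨g, hg, h1, h2⟩ := (S.main_ind 0 hmt).1 (x 1) (x 2) (S.q 1) (S.q 2)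
      (hx 1 (le_refl _) (by omega)) (hx 2 (by omega) (le_refl _))
      (S.q_mem_Om (le_refl _) (by omega) hmt) (S.q_mem_Om (by omega) (le_refl _) hmt) hx12 h12
    refine ⟨g, hg, fun i hi1 hi2 => ?_⟩
    have : i = 1 ∨ i = 2 := by omega
    rcases this with rfl | rfl
    · exact h1
    · exact h2
  | succ m ih =>
    intro hmt x hx hinj
    obtain ⟨g₁, hg₁, hg₁x⟩ := S.trans_of_I1 (S.main_ind (m + 1) hmt).1
      (hx (m + 1 + 2) (by omega) (le_refl _))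
      (S.q_mem_Om (i := m + 1 + 2) (by omega) (le_refl _) hmt)
    have hj3 : 2 ≤ m + 1 + 2 := by omega
    obtain ⟨g₂, hg₂, hg₂x⟩ := ih (by omega) (fun i => g₁ (x i))
      (fun i hi1 hi2 => by
        apply S.Om_of_succ (j := m + 2) (S.Gj_Om hj3 hg₁ (hx i hi1 (by omega)))
        rw [← hg₁x]
        intro e
        have := hinj i (m + 1 + 2) hi1 (by omega) (by omega) (le_refl _) (g₁.injective e)
        omega)
      (fun i i' h1 h2 h1' h2' e => hinj i i' h1 (by omega) h1' (by omega) (g₁.injective e))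
    refine ⟨g₂ * g₁, Subgroup.mul_mem _ (S.Gj_mono (by omega) hg₂) hg₁, fun i hi1 hi2 => ?_⟩
    rw [Equiv.Perm.mul_apply]
    by_cases hi : i ≤ m + 2
    · exact hg₂x i hi1 hi
    · have : i = m + 1 + 2 := by omega
      rw [this, hg₁x]
      exact S.Gj_fix (by omega) hg₂ (m + 1 + 2) (by omega) hmt

theorem mem_Gj_of_fix {g : Equiv.Perm α} (hg : g ∈ S.Gj S.t)
    (hfix : ∀ i, 1 ≤ i → i ≤ S.t → g (S.q i) = S.q i) :
    ∀ d j', j' + d = S.t → 2 ≤ j' → g ∈ S.Gj j' := by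
  intro d
  induction d with
  | zero =>
    intro j' h1 _
    rw [add_zero] at h1
    rw [h1]
    exact hg
  | succ d ih =>
    intro j' h1 h2
    have h3 := ih (j' + 1) (by omega) (by omega)
    obtain ⟨m, hm⟩ : ∃ m, S.t = m + 2 := ⟨S.t - 2, by have := S.ht; omega⟩
    have h4 := (S.main_ind m (by omega)).2
    rw [← hm] at h4
    exact h4 j' h2 (by omega) g h3 (hfix (j' + 1) (by omega) (by omega))

end Setup

theorem result {α : Type*} [Fintype α] [DecidableEq α] (t : ℕ) (ht : 2 ≤ t) (q : ℕ → α) (hq : ∀ i j : ℕ, 1 ≤ i → i ≤ t → 1 ≤ j → j ≤ t → q i = q j → i = j) (G : Subgroup (Equiv.Perm α)) (hfix : ∀ g ∈ G, ∀ i : ℕ, 3 ≤ i → i ≤ t → g (q i) = q i) (h2 : ∀ a b c d : α, (∀ i, 3 ≤ i → i ≤ t → a ≠ q i ∧ b ≠ q i ∧ c ≠ q i ∧ d ≠ q i) → a ≠ b → c ≠ d → ∃ g ∈ G, g a = c ∧ g b = d) (s : ℕ → Equiv.Perm α) (hs1 : s 1 ∈ G) (hs1q : s 1 (q 1) = q 2 ∧ s 1 (q 2) = q 1) (hsq : ∀ i : ℕ, 2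 ≤ i → i + 1 ≤ t → s i (q i) = q (i + 1) ∧ s i (q (i + 1)) = q i ∧ ∀ j : ℕ, 1 ≤ j → j ≤ t → j ≠ i → j ≠ i + 1 → s i (q j) = q j) (H : Subgroup (Equiv.Perm α)) (hH : H = G ⊓ MulAction.stabilizer (Equiv.Perm α) (q 1) ⊓ MulAction.stabilizer (Equiv.Perm α) (q 2)) (hsq2 : ∀ i : ℕ, 1 ≤ i → i + 1 ≤ t → s i ^ 2 ∈ H) (hbraid : ∀ i : ℕ, 1 ≤ i → i + 2 ≤ t → (s i * s (i + 1)) ^ 3 ∈ H) (hcomm : ∀ i j : ℕ, 1 ≤ i → i + 2 ≤ j → j + 1 ≤ t → (s i * s j) ^ 2 ∈ H ∧ (s j * s i) ^ 2 ∈ H) (hnorm : ∀ i : ℕ, 2 ≤ i → i + 1 ≤ t → ∀ g ∈ G ⊓ MulAction.stabilizer (Equiv.Perm α) (q 2), s i * g * (s i)⁻¹ ∈ G ⊓ MulAction.stabilizer (Equiv.Perm α) (q 2)) : MulAction.IsMultiplyPretransitive ↥(Subgroup.closure ((G : Set (Equiv.Perm α)) ∪ {x | ∃ i : ℕ, 2 ≤ i ∧ i + 1 ≤ t ∧ x = s i})) α t ∧ Subgroup.closure ((G : Set (Equiv.Perm α)) ∪ {x | ∃ i : ℕ, 2 ≤ i ∧ i + 1 ≤ t ∧ x = s i}) ⊓ fixingSubgroup (Equiv.Perm α) {x |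 ∃ i : ℕ, 1 ≤ i ∧ i ≤ t ∧ x = q i} = H := by
  obtain ⟨m, rfl⟩ : ∃ m, t = m + 2 := ⟨t - 2, by omega⟩
  let S : Setup α := ⟨m + 2, ht, q, hq, G, hfix, h2, s, hs1, hs1q, hsq, H, hH, hsq2, hbraid,
    hcomm, hnorm⟩
  change MulAction.IsMultiplyPretransitive ↥(S.Gj (m + 2)) α (m + 2) ∧
    S.Gj (m + 2) ⊓ fixingSubgroup (Equiv.Perm α) {x | ∃ i : ℕ, 1 ≤ i ∧ i ≤ m + 2 ∧ x = q i} = H
  have hOm : ∀ x : α, x ∈ S.Om (m + 2) := by
    intro x i hi hit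
    change i ≤ m + 2 at hit
    omega
  constructor
  · rw [MulAction.isMultiplyPretransitive_iff]
    -- every tuple can be moved to the standard one
    have key : ∀ x : Fin (m + 2) ↪ α, ∃ g ∈ S.Gj (m + 2), ∀ i : Fin (m + 2),
        g (x i) = q ((i : ℕ) + 1) := by
      intro x
      let xN : ℕ → α := fun i => if h : 1 ≤ i ∧ i ≤ m + 2 then x ⟨i - 1, by omega⟩ else q 0
      have hxN : ∀ i : Fin (m + 2), xN ((i : ℕ) + 1) = x i := by
        intro i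
        have h : 1 ≤ (i : ℕ) + 1 ∧ (i : ℕ) + 1 ≤ m + 2 := ⟨by omega, by have := i.2; omega⟩
        simp only [xN, dif_pos h]
        congr 1
      obtain ⟨g, hg, hgx⟩ := S.tuple_trans m (le_refl _) xN (fun i _ _ => hOm _) (by
        intro i i' h1 h2 h1' h2' e
        simp only [xN, dif_pos (And.intro h1 h2), dif_pos (And.intro h1' h2')] at e
        have := congrArg Fin.val (x.injective e)
        simp only at this
        omega)
      refine ⟨g, hg, fun i => ?_⟩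
      rw [← hxN i]
      exact hgx _ (by omega) (by have := i.2; omega)
    intro x y
    obtain ⟨g₁, hg₁, hg₁x⟩ := key x
    obtain ⟨g₂, hg₂, hg₂y⟩ := key y
    refine ⟨⟨g₂⁻¹ * g₁, Subgroup.mul_mem _ (Subgroup.inv_mem _ hg₂) hg₁⟩, ?_⟩
    ext i
    rw [Function.Embedding.smul_apply]
    change (g₂⁻¹ * g₁) (x i) = y i
    rw [Equiv.Perm.mul_apply, hg₁x i]
    exact inv_apply_eq (hg₂y i)
  · apply le_antisymm
    · intro g hg0
      rw [Subgroup.mem_inf] at hg0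
      obtain ⟨hg, hgfix⟩ := hg0
      rw [mem_fixingSubgroup_iff] at hgfix
      have hfix' : ∀ i, 1 ≤ i → i ≤ S.t → g (S.q i) = S.q i := by
        intro i h1 h2
        exact hgfix (q i) ⟨i, h1, h2, rfl⟩
      have h3 := S.mem_Gj_of_fix hg hfix' m 2 (by change 2 + m = m + 2; omega) (le_refl _)
      rw [S.Gj_two] at h3
      rw [hH]
      exact ⟨⟨h3, MulAction.mem_stabilizer_iff.2 (hfix' 1 (le_refl _) (by change 1 ≤ m + 2; omega))⟩,
        MulAction.mem_stabilizer_iff.2 (hfix' 2 (by omega) (by change 2 ≤ m + 2; omega))⟩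
    · intro h hh
      rw [Subgroup.mem_inf]
      refine ⟨S.G_le_Gj _ (S.H_le_G hh), ?_⟩
      rw [mem_fixingSubgroup_iff]
      rintro y ⟨i, h1, h2, rfl⟩
      by_cases hi1 : i = 1
      · rw [hi1]; exact S.H_fix1 hh
      · by_cases hi2 : i = 2
        · rw [hi2]; exact S.H_fix2 hh
        · exact hfix h (S.H_le_G hh) i (by omega) h2


end Cfsg.Agent.S0709
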