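import Cfsg.Statements.S0710
import Mathlib

set_option autoImplicit false
open Cfsg

namespace Cfsg.Agent.S0710

open Subgroup

/-- No transitive permutation group on 13 points has order `13 * 12 * 11 * 10 * 9 * 8`. -/
theorem result {α : Type*} [Fintype α] [DecidableEq α] (hα : Fintype.card α = 13) (G : Subgroup (Equiv.Perm α)) [MulAction.IsPretransitive G α] : Nat.card G ≠ 13 * 12 * 11 * 10 * 9 * 8 := by
  intro hcard
  have hp13 : Fact (Nat.Prime 13) := ⟨by norm_num⟩
  have hfin : Finite G := inferInstance
  let P : Sylow 13 G := default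
  -- card P = 13
  have hPcard : Nat.card P = 13 := by
    obtain ⟨k, hk⟩ := P.2.exists_card_eq
    have h1 := P.card_mul_index
    have h2 := P.not_dvd_index
    rw [hcard] at h1
    rcases Nat.lt_or_ge k 1 with hk0 | hk1
    · exfalso
      have : k = 0 := by omega
      rw [this, pow_zero] at hk
      rw [hk, one_mul] at h1
      apply h2
      rw [h1]; norm_num
    rcases Nat.lt_or_ge k 2 with hk2 | hk2
    · have : k = 1 := by omega
      rw [hk, this, pow_one]
    · exfalso
      have hdvd : 13 ^ 2 ∣ Nat.card P := by
        rw [hk]; exact pow_dvd_pow 13 hk2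
      have : 13 ^ 2 ∣ 13 * 12 * 11 * 10 * 9 * 8 := by
        rw [← h1]; exact Dvd.dvd.mul_right hdvd _
      norm_num at this
  -- an element of order 13
  obtain ⟨x, hx⟩ := exists_prime_orderOf_dvd_card' (G := P) 13 (by rw [hPcard])
  set σ : Equiv.Perm α := ((x : G) : Equiv.Perm α) with hσ
  have hσord : orderOf σ = 13 := by
    rw [hσ, Subgroup.orderOf_coe, Subgroup.orderOf_coe, hx]
  have hσcyc : σ.IsCycle := by
    apply Equiv.Perm.isCycle_of_prime_order'
    · rw [hσord]; norm_num
    · rw [hσord, hα]; norm_num
  have hsupp : σ.support = Finset.univ := by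
    apply Finset.eq_univ_of_card
    rw [← hσcyc.orderOf, hσord, hα]
  have hmoves : ∀ a : α, σ a ≠ a := by
    intro a
    rw [← Equiv.Perm.mem_support, hsupp]
    exact Finset.mem_univ _
  -- centralizer of P has at most 13 elements
  set C : Subgroup G := centralizer (P : Set G) with hC
  obtain ⟨a⟩ : Nonempty α := by
    rw [← Fintype.card_pos_iff, hα]; norm_num
  have hCinj : Function.Injective (fun c : C => ((c : G) : Equiv.Perm α) a) := by
    intro c d hcd
    have hcd' : ((c : G) : Equiv.Perm α) a = ((d : G) : Equiv.Perm α) a := hcd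
    apply Subtype.ext
    apply Subtype.ext
    ext y
    obtain ⟨i, hi⟩ := hσcyc.exists_pow_eq (hmoves a) (hmoves y)
    -- σ^i commutes with c and d
    have hcomm : ∀ e : C, ((e : G) : Equiv.Perm α) ((σ ^ i) a) = (σ ^ i) (((e : G) : Equiv.Perm α) a) := by
      intro e
      have hmem : (x : G) ^ i ∈ (P : Set G) := (P : Subgroup G).pow_mem x.2 i
      have := e.2 _ hmem
      have h2 := congrArg (fun g : G => (g : Equiv.Perm α) a) this
      simp only [Subgroup.coe_mul, Equiv.Perm.coe_mul, Function.comp_apply, Subgroup.coe_pow] at h2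
      exact h2.symm
    rw [← hi, hcomm c, hcomm d, hcd']
  have hCcard : Nat.card C ≤ 13 := by
    have := Nat.card_le_card_of_injective _ hCinj
    rw [Nat.card_eq_fintype_card (α := α), hα] at this
    exact this
  -- P ≤ C
  have hPcomm : IsMulCommutative P := by
    have : IsCyclic P := isCyclic_of_prime_card hPcard
    exact ⟨⟨fun a b => IsCyclic.commGroup.mul_comm a b⟩⟩
  have hPC : (P : Subgroup G) ≤ C := by
    intro g hg h hh
    have := hPcomm.is_comm.comm (⟨h, hh⟩ : P) ⟨g, hg⟩
    exact congrArg Subtype.val this
  have hCcard' : Nat.card C = 13 := by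
    have := Nat.card_le_card_of_injective _ (Subgroup.inclusion_injective hPC)
    rw [hPcard] at this
    omega
  -- N/C
  have key := card_dvd_of_injective _ (QuotientGroup.kerLift_injective (P : Subgroup G).normalizerMonoidHom)
  rw [normalizerMonoidHom_ker, ← index, ← relIndex] at key
  have hPcyc : IsCyclic P := isCyclic_of_prime_card hPcard
  rw [hPcyc.card_mulAut, hPcard] at key
  have htot : Nat.totient 13 = 12 := by
    rw [Nat.totient_prime (by norm_num)]
  rw [htot] at key
  set N : Subgroup G := normalizer (P : Set G) with hN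
  have hCN : C ≤ N := centralizer_le_normalizer _
  have hNcard : Nat.card N = C.relIndex N * 13 := by
    have h1 := (C.subgroupOf N).card_mul_index
    have h2 : Nat.card (C.subgroupOf N) = Nat.card C :=
      Nat.card_congr (Subgroup.subgroupOfEquivOfLe hCN).toEquiv
    rw [h2, hCcard'] at h1
    rw [← h1, mul_comm]; rfl
  have hidx : Nat.card (Sylow 13 G) = N.index := Sylow.card_eq_index_normalizer P
  have hmod : Nat.card (Sylow 13 G) ≡ 1 [MOD 13] := card_sylow_modEq_one 13 G
  have hNidx := N.card_mul_index
  rw [hcard, hNcard, ← hidx] at hNidx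
  set d := C.relIndex N with hd
  set n13 := Nat.card (Sylow 13 G) with hn13
  have hdle : d ≤ 12 := Nat.le_of_dvd (by norm_num) key
  have hmod' : n13 % 13 = 1 := hmod
  have h95 : d * n13 = 95040 := by
    have : 13 * (d * n13) = 13 * 95040 := by
      rw [← hNidx]; ring
    exact Nat.eq_of_mul_eq_mul_left (by norm_num) this
  have hdm : d % 13 = 10 := by
    have : (d * n13) % 13 = 95040 % 13 := by rw [h95]
    rw [Nat.mul_mod, hmod', mul_one, Nat.mod_mod] at this
    rw [this]
  have hd10 : d = 10 := by omega
  have key' : d ∣ 12 := key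
  rw [hd10] at key'
  norm_num at key'

end Cfsg.Agent.S0710
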