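import Cfsg.Statements.S0711
import Cfsg.Agent.Lib.H18.PermLift

set_option autoImplicit false
open Cfsg

namespace Cfsg.Agent.S0711

open MulAction Equiv Cfsg.Agent.Lib.H18

variable {α : Type*} [Fintype α] [DecidableEq α]

omit [Fintype α] [DecidableEq α] in
theorem perm_apply_inv (f : Perm α) (x : α) : f (f⁻¹ x) = x := by simp

omit [Fintype α] [DecidableEq α] in
theorem perm_inv_apply (f : Perm α) (x : α) : f⁻¹ (f x) = x := by simp

omit [Fintype α] in
/-- For a permutation `f` preserving `S`, there are subsets `B ⊆ S` of every size with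
`|f B \ B| ≤ 1` (unions of cycles and a segment). -/
theorem exists_segment (f : Perm α) (S : Finset α) (hS : ∀ x, f x ∈ S ↔ x ∈ S) (β : ℕ)
    (hβ : β ≤ S.card) : ∃ B ⊆ S, B.card = β ∧ (B.image f \ B).card ≤ 1 := by
  induction β with
  | zero => exact ⟨∅, by simp, rfl, by simp⟩
  | succ β ih =>
    obtain ⟨B, hBS, hBc, hB1⟩ := ih (by omega)
    have : ∃ y ∈ S \ B, B.image f ⊆ insert y B := by
      rcases Nat.eq_zero_or_pos (B.image f \ B).card with h0 | hpos
      · have hsub : B.image f ⊆ B := by
          rwa [Finset.card_eq_zero, Finset.sdiff_eq_empty_iff_subset] at h0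
        obtain ⟨y, hy⟩ : (S \ B).Nonempty := by
          rw [← Finset.card_pos, Finset.card_sdiff_of_subset hBS]; omega
        exact ⟨y, hy, hsub.trans (Finset.subset_insert _ _)⟩
      · have h1 : (B.image f \ B).card = 1 := by omega
        obtain ⟨y, hy⟩ := Finset.card_eq_one.mp h1
        have hymem : y ∈ B.image f \ B := by rw [hy]; exact Finset.mem_singleton_self y
        rw [Finset.mem_sdiff, Finset.mem_image] at hymem
        obtain ⟨⟨x, hx, rfl⟩, hyB⟩ := hymem
        refine ⟨f x, Finset.mem_sdiff.mpr ⟨(hS x).mpr (hBS hx), hyB⟩, ?_⟩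
        intro z hz
        by_cases hzB : z ∈ B
        · exact Finset.mem_insert_of_mem hzB
        · have : z ∈ B.image f \ B := Finset.mem_sdiff.mpr ⟨hz, hzB⟩
          rw [hy, Finset.mem_singleton] at this
          rw [this]; exact Finset.mem_insert_self _ _
    obtain ⟨y, hy, hsub⟩ := this
    rw [Finset.mem_sdiff] at hy
    refine ⟨insert y B, Finset.insert_subset hy.1 hBS,
      by rw [Finset.card_insert_of_notMem hy.2, hBc], ?_⟩
    have : (insert y B).image f \ insert y B ⊆ {f y} := by
      intro z hz
      rw [Finset.mem_sdiff, Finset.image_insert, Finset.mem_insert] at hz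
      rcases hz.1 with rfl | hz1
      · exact Finset.mem_singleton_self _
      · exact absurd (hsub hz1) hz.2
    exact (Finset.card_le_card this).trans (by simp)

/-- Support of the commutator of `g` with an element fixing most of the support of `g`. -/
theorem support_comm_subset (g h : Perm α) (B : Finset α)
    (hfix : ∀ x ∈ g.support \ B, h x = x) :
    (g⁻¹ * h * g * h⁻¹).support ⊆ (B.image (g⁻¹ : Perm α) \ B) ∪ (B ∪ B.image h) := by
  intro x hx
  by_contra hcon
  rw [Finset.mem_union, Finset.mem_union, not_or, not_or] at hcon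
  obtain ⟨h1, h2, h3⟩ := hcon
  apply (Perm.mem_support.mp hx)
  have hgx : g x ∉ B := by
    intro hgxB
    apply h1
    rw [Finset.mem_sdiff]
    exact ⟨Finset.mem_image.mpr ⟨g x, hgxB, perm_inv_apply g x⟩, h2⟩
  by_cases hxS : x ∈ g.support
  · have hxA : x ∈ g.support \ B := Finset.mem_sdiff.mpr ⟨hxS, h2⟩
    have e1 : h⁻¹ x = x := by rw [Perm.inv_eq_iff_eq, hfix x hxA]
    have hgxA : g x ∈ g.support \ B :=
      Finset.mem_sdiff.mpr ⟨Perm.apply_mem_support.mpr hxS, hgx⟩
    have e2 : h (g x) = g x := hfix _ hgxA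
    simp only [Perm.mul_apply, e1, e2]
    exact perm_inv_apply g x
  · have hx' : g x = x := Perm.notMem_support.mp hxS
    have e1 : h⁻¹ x ∉ g.support := by
      intro hmem
      by_cases hB' : h⁻¹ x ∈ B
      · apply h3; exact Finset.mem_image.mpr ⟨h⁻¹ x, hB', perm_apply_inv h x⟩
      · have := hfix _ (Finset.mem_sdiff.mpr ⟨hmem, hB'⟩)
        rw [perm_apply_inv] at this
        rw [← this] at hmem; exact hxS hmem
    have e2 : g (h⁻¹ x) = h⁻¹ x := Perm.notMem_support.mp e1
    simp only [Perm.mul_apply, e2]
    rw [perm_apply_inv, Perm.inv_eq_iff_eq, hx']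

/-- Using transitivity to fix `S \ B` pointwise while moving `s` to `t`. -/
theorem exists_fix_move (G : Subgroup (Perm α)) (S B : Finset α) (s t : α)
    (hs : s ∉ S \ B) (ht : t ∉ S \ B)
    (hj : IsMultiplyPretransitive G α ((S \ B).card + 1)) :
    ∃ h ∈ G, (∀ x ∈ S \ B, h x = x) ∧ h s = t := by
  obtain ⟨h, hhG, hh⟩ := exists_mem_agree_on G (insert s (S \ B)) _
    (Finset.card_insert_of_notMem hs) hj (swap s t)
  refine ⟨h, hhG, ?_, ?_⟩
  · intro x hx
    rw [hh x (Finset.mem_insert_of_mem hx)]
    apply swap_apply_of_ne_of_ne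
    · rintro rfl; exact hs hx
    · rintro rfl; exact ht hx
  · rw [hh s (Finset.mem_insert_self _ _), swap_apply_left]


/-- The descent step: an element with support of size `m`, `4 ≤ m < 2k - 2`, yields a non-identity
element of smaller support. -/
theorem descent (G : Subgroup (Perm α)) {k : ℕ} (hk : 3 ≤ k) (hkn : k ≤ Fintype.card α)
    (hG : IsMultiplyPretransitive G α k) (g : Perm α) (hg : g ∈ G)
    (h4 : 4 ≤ g.support.card) (hsupp : g.support.card < 2 * k - 2) :
    ∃ c ∈ G, c ≠ 1 ∧ c.support.card < g.support.card := by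
  have hGj : ∀ j ≤ k, IsMultiplyPretransitive G α j := fun j hj =>
    isMultiplyPretransitive_of_le (n := k) hj (by rw [Nat.card_eq_fintype_card]; exact hkn)
  set S := g.support with hSdef
  set m := S.card with hm
  by_cases hfull : S = Finset.univ
  · -- no fixed points: any non-identity element of a point stabilizer works
    obtain ⟨a, -, b, -, c, -, hab, hac, hbc⟩ := Finset.two_lt_card.mp
      (by rw [Finset.card_univ]; omega : 2 < (Finset.univ : Finset α).card)
    obtain ⟨h, hhG, hh⟩ := exists_mem_agree_on G {a, b} 2 (Finset.card_pair hab)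
      (hGj 2 (by omega)) (swap b c)
    refine ⟨h, hhG, ?_, ?_⟩
    · intro h1
      have := hh b (by simp)
      rw [h1, swap_apply_left] at this
      exact hbc this
    · have ha : h a = a := by rw [hh a (by simp)]; exact swap_apply_of_ne_of_ne hab hac
      have : h.support ⊆ Finset.univ.erase a := by
        intro x hx
        rw [Finset.mem_erase]; refine ⟨?_, Finset.mem_univ _⟩
        rintro rfl; exact (Perm.mem_support.mp hx) ha
      calc h.support.card ≤ (Finset.univ.erase a).card := Finset.card_le_card this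
        _ = Fintype.card α - 1 := by
            rw [Finset.card_erase_of_mem (Finset.mem_univ _), Finset.card_univ]
        _ < m := by rw [hm, hfull, Finset.card_univ]; omega
  · obtain ⟨t₀, ht₀⟩ : ∃ t₀, t₀ ∉ S := by
      by_contra hcon; push Not at hcon; exact hfull (Finset.eq_univ_iff_forall.mpr hcon)
    obtain ⟨β, hβ1, hβm, h2β, hAk⟩ : ∃ β, 1 ≤ β ∧ β ≤ m ∧ 2 * β ≤ m - 1 ∧ m - β + 1 ≤ k := by
      by_cases hmk : m < k
      · exact ⟨1, le_refl _, by omega, by omega, by omega⟩
      · exact ⟨m - k + 1, by omega, by omega, by omega, by omega⟩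
    have hSinv : ∀ x, (g⁻¹ : Perm α) x ∈ S ↔ x ∈ S := by
      intro x
      rw [hSdef, ← Perm.support_inv g, Perm.apply_mem_support]
    obtain ⟨B, hBS, hBc, hB1⟩ := exists_segment (g⁻¹) S hSinv β hβm
    have hAcard : (S \ B).card = m - β := by rw [Finset.card_sdiff_of_subset hBS, hBc]
    have hj : IsMultiplyPretransitive G α ((S \ B).card + 1) := hGj _ (by rw [hAcard]; exact hAk)
    have ht₀' : t₀ ∉ S \ B := fun h => ht₀ (Finset.mem_sdiff.mp h).1
    have bound : ∀ h : Perm α, h ∈ G → (∀ x ∈ S \ B, h x = x) →
        (g⁻¹ * h * g * h⁻¹) ∈ G ∧ (g⁻¹ * h * g * h⁻¹).support.card ≤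
          (B.image (g⁻¹ : Perm α) \ B).card + (B ∪ B.image h).card := by
      intro h hhG hfix
      refine ⟨G.mul_mem (G.mul_mem (G.mul_mem (G.inv_mem hg) hhG) hg) (G.inv_mem hhG), ?_⟩
      exact (Finset.card_le_card (support_comm_subset g h B hfix)).trans (Finset.card_union_le _ _)
    rcases Nat.eq_zero_or_pos (B.image (g⁻¹ : Perm α) \ B).card with h0 | hpos
    · -- `B` is invariant
      obtain ⟨s, hsB⟩ : B.Nonempty := by rw [← Finset.card_pos, hBc]; omega
      have hs' : s ∉ S \ B := fun h => (Finset.mem_sdiff.mp h).2 hsB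
      obtain ⟨h, hhG, hfix, hst⟩ := exists_fix_move G S B s t₀ hs' ht₀' hj
      refine ⟨g⁻¹ * h * g * h⁻¹, (bound h hhG hfix).1, ?_, ?_⟩
      · intro h1
        have := congrArg (fun f : Perm α => f t₀) h1
        simp only [Perm.mul_apply, Perm.one_apply] at this
        have e1 : h⁻¹ t₀ = s := by rw [Perm.inv_eq_iff_eq, hst]
        rw [e1, Perm.inv_eq_iff_eq, Perm.notMem_support.mp ht₀] at this
        rw [← hst] at this
        have := h.injective this
        exact (Perm.mem_support.mp (hBS hsB)) this
      · calc _ ≤ (B.image (g⁻¹ : Perm α) \ B).card + (B ∪ B.image h).card := (bound h hhG hfix).2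
          _ ≤ 0 + (β + β) := by
              rw [h0]; gcongr
              refine (Finset.card_union_le _ _).trans ?_
              rw [hBc]; gcongr
              exact Finset.card_image_le.trans hBc.le
          _ < m := by omega
    · have h1 : (B.image (g⁻¹ : Perm α) \ B).card = 1 := by omega
      obtain ⟨a, ha⟩ := Finset.card_eq_one.mp h1
      have hamem : a ∈ B.image (g⁻¹ : Perm α) \ B := by
        rw [ha]; exact Finset.mem_singleton_self a
      rw [Finset.mem_sdiff, Finset.mem_image] at hamem
      obtain ⟨⟨s₀, hs₀B, hs₀a⟩, haB⟩ := hamem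
      have hga : g a = s₀ := by rw [← hs₀a, perm_apply_inv]
      have haS : a ∈ S := by rw [← hs₀a]; exact (hSinv s₀).mpr (hBS hs₀B)
      have haA : a ∈ S \ B := Finset.mem_sdiff.mpr ⟨haS, haB⟩
      have hs' : s₀ ∉ S \ B := fun h => (Finset.mem_sdiff.mp h).2 hs₀B
      by_cases hβ2 : 2 ≤ β
      · obtain ⟨t, htB, hts⟩ : ∃ t ∈ B, t ≠ s₀ := by
          have : 1 < B.card := by rw [hBc]; omega
          obtain ⟨x, hx, y, hy, hxy⟩ := Finset.one_lt_card.mp this
          by_cases hxs : x = s₀
          · exact ⟨y, hy, fun h => hxy (hxs.trans h.symm)⟩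
          · exact ⟨x, hx, hxs⟩
        have ht' : t ∉ S \ B := fun h => (Finset.mem_sdiff.mp h).2 htB
        obtain ⟨h, hhG, hfix, hst⟩ := exists_fix_move G S B s₀ t hs' ht' hj
        refine ⟨g⁻¹ * h * g * h⁻¹, (bound h hhG hfix).1, ?_, ?_⟩
        · intro h1'
          have := congrArg (fun f : Perm α => f a) h1'
          simp only [Perm.mul_apply, Perm.one_apply] at this
          have e1 : h⁻¹ a = a := by rw [Perm.inv_eq_iff_eq, hfix a haA]
          rw [e1, hga, hst, Perm.inv_eq_iff_eq, hga] at this
          exact hts this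
        · have hunion : B ∪ B.image h = B ∪ (B.erase s₀).image h := by
            ext x; simp only [Finset.mem_union, Finset.mem_image, Finset.mem_erase]
            constructor
            · rintro (hx | ⟨y, hy, rfl⟩)
              · exact Or.inl hx
              · by_cases hys : y = s₀
                · left; rw [hys, hst]; exact htB
                · right; exact ⟨y, ⟨hys, hy⟩, rfl⟩
            · rintro (hx | ⟨y, ⟨_, hy⟩, rfl⟩)
              · exact Or.inl hx
              · exact Or.inr ⟨y, hy, rfl⟩
          calc _ ≤ (B.image (g⁻¹ : Perm α) \ B).card + (B ∪ B.image h).card :=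
                (bound h hhG hfix).2
            _ ≤ 1 + (β + (β - 1)) := by
                rw [h1, hunion]; gcongr
                refine (Finset.card_union_le _ _).trans ?_
                rw [hBc]; gcongr
                refine Finset.card_image_le.trans ?_
                rw [Finset.card_erase_of_mem hs₀B, hBc]
            _ < m := by omega
      · have hβ1' : β = 1 := by omega
        obtain ⟨h, hhG, hfix, hst⟩ := exists_fix_move G S B s₀ t₀ hs' ht₀' hj
        refine ⟨g⁻¹ * h * g * h⁻¹, (bound h hhG hfix).1, ?_, ?_⟩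
        · intro h1'
          have := congrArg (fun f : Perm α => f a) h1'
          simp only [Perm.mul_apply, Perm.one_apply] at this
          have e1 : h⁻¹ a = a := by rw [Perm.inv_eq_iff_eq, hfix a haA]
          rw [e1, hga, hst, Perm.inv_eq_iff_eq, hga] at this
          exact ht₀ (this ▸ hBS hs₀B)
        · calc _ ≤ (B.image (g⁻¹ : Perm α) \ B).card + (B ∪ B.image h).card :=
                (bound h hhG hfix).2
            _ ≤ 1 + (1 + 1) := by
                rw [h1]; gcongr
                refine (Finset.card_union_le _ _).trans ?_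
                gcongr
                · rw [hBc, hβ1']
                · exact Finset.card_image_le.trans (by rw [hBc, hβ1'])
            _ < m := by omega


theorem exists_small (G : Subgroup (Perm α)) {k : ℕ} (hk : 3 ≤ k) (hkn : k ≤ Fintype.card α)
    (hG : IsMultiplyPretransitive G α k) : ∀ m, ∀ g ∈ G, g ≠ 1 → g.support.card = m →
    m < 2 * k - 2 → ∃ h ∈ G, h ≠ 1 ∧ h.support.card ≤ 3 := by
  intro m
  induction m using Nat.strong_induction_on with
  | _ m ih =>
    intro g hg hg1 hgm hm
    by_cases h3 : m ≤ 3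
    · exact ⟨g, hg, hg1, by omega⟩
    · obtain ⟨c, hcG, hc1, hclt⟩ := descent G hk hkn hG g hg (by omega) (by omega)
      exact ih c.support.card (by omega) c hcG hc1 rfl (by omega)

/-- A `k`-transitive permutation group (`k ≥ 3`) with a non-identity element of support smaller than `2k - 2` contains a non-identity element of support at most 3, and therefore contains the alternating group. -/
theorem result {α : Type*} [Fintype α] [DecidableEq α] (G : Subgroup (Equiv.Perm α)) {k : ℕ} (hk : 3 ≤ k) (hkn : k ≤ Fintype.card α) (hG : MulAction.IsMultiplyPretransitive G α k) (g : Equiv.Perm α) (hg : g ∈ G) (hg1 : g ≠ 1) (hsupp : g.support.card < 2 * k - 2) : (∃ h : Equiv.Perm α, h ∈ G ∧ h ≠ 1 ∧ h.support.card ≤ 3) ∧ alternatingGroup α ≤ G := by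
  obtain ⟨h, hhG, hh1, hh3⟩ := exists_small G hk hkn hG _ g hg hg1 rfl hsupp
  refine ⟨⟨h, hhG, hh1, hh3⟩, ?_⟩
  have h2 : IsMultiplyPretransitive G α 2 :=
    isMultiplyPretransitive_of_le (n := k) (by omega) (by rw [Nat.card_eq_fintype_card]; exact hkn)
  have hprim : IsPreprimitive G α := isPreprimitive_of_is_two_pretransitive h2
  have h2le := Perm.two_le_card_support_of_ne_one hh1
  rcases (by omega : h.support.card = 2 ∨ h.support.card = 3) with h2' | h3'
  · have := Perm.subgroup_eq_top_of_isPreprimitive_of_isSwap_mem hprim h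
      (Perm.card_support_eq_two.mp h2') hhG
    rw [this]; exact le_top
  · exact Perm.alternatingGroup_le_of_isPreprimitive_of_isThreeCycle_mem hprim
      (card_support_eq_three_iff.mp h3') hhG

end Cfsg.Agent.S0711
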