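import Cfsg.Statements.S0714

set_option autoImplicit false
open Cfsg

namespace Cfsg.Agent.S0714

section
variable {α : Type*} [Fintype α] [DecidableEq α] {K : Type*} [Field K]

/-- the 3-cycle `x → y → z → x` -/
def c3 (x y z : α) : Equiv.Perm α := Equiv.swap x y * Equiv.swap y z

omit [Fintype α] in
theorem c3_left {x y z : α} (hxy : x ≠ y) (hxz : x ≠ z) : c3 x y z x = y := by
  simp [c3, Equiv.swap_apply_of_ne_of_ne hxy hxz]

omit [Fintype α] in
theorem c3_mid {x y z : α} (hxz : x ≠ z) (hyz : y ≠ z) : c3 x y z y = z := by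
  simp [c3, Equiv.swap_apply_of_ne_of_ne hxz.symm hyz.symm]

omit [Fintype α] in
theorem c3_right {x y z : α} : c3 x y z z = x := by
  simp [c3]

omit [Fintype α] in
theorem c3_other {x y z w : α} (hx : w ≠ x) (hy : w ≠ y) (hz : w ≠ z) : c3 x y z w = w := by
  simp [c3, Equiv.swap_apply_of_ne_of_ne hy hz, Equiv.swap_apply_of_ne_of_ne hx hy]

theorem sign_c3 {x y z : α} (hxy : x ≠ y) (hyz : y ≠ z) : Equiv.Perm.sign (c3 x y z) = 1 := by
  simp [c3, Equiv.Perm.sign_swap hxy, Equiv.Perm.sign_swap hyz]

omit [DecidableEq α] in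
theorem exists_not_mem (S : Finset α) (h : S.card < Fintype.card α) : ∃ x, x ∉ S := by
  obtain ⟨e, _, he⟩ := Finset.exists_mem_notMem_of_card_lt_card (s := S) (t := Finset.univ)
    (by simpa using h)
  exact ⟨e, he⟩

/-- closure of an invariant subspace under precomposition with even permutations -/
theorem comp_mem (W : Subrepresentation (Cfsg.permRep K (alternatingGroup α) α))
    (σ : Equiv.Perm α) (hσ : Equiv.Perm.sign σ = 1) (v : α → K) (hv : v ∈ W.toSubmodule) :
    (fun x => v (σ x)) ∈ W.toSubmodule := by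
  have hmem : σ⁻¹ ∈ alternatingGroup α := by
    rw [Equiv.Perm.mem_alternatingGroup, map_inv, hσ, inv_one]
  have := W.apply_mem_toSubmodule ⟨σ⁻¹, hmem⟩ hv
  convert this using 1
  funext x
  change v (σ x) = v ((⟨σ⁻¹, hmem⟩ : alternatingGroup α)⁻¹ • x)
  rw [Subgroup.smul_def]
  simp

/-- From a non-constant vector of an invariant subspace one gets a difference of two basis vectors. -/
theorem exists_d (hα : 5 ≤ Fintype.card α)
    (W : Subrepresentation (Cfsg.permRep K (alternatingGroup α) α))
    (v : α → K) (hv : v ∈ W.toSubmodule) (i j : α) (hij : v i ≠ v j) :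
    ∃ x y : α, x ≠ y ∧ (Pi.single x 1 - Pi.single y 1 : α → K) ∈ W.toSubmodule := by
  have hij' : i ≠ j := fun h => hij (by rw [h])
  obtain ⟨k, hk⟩ := exists_not_mem ({i, j} : Finset α)
    (lt_of_le_of_lt Finset.card_le_two (by omega))
  obtain ⟨l, hl⟩ := exists_not_mem ({i, j, k} : Finset α)
    (lt_of_le_of_lt Finset.card_le_three (by omega))
  obtain ⟨m, hm⟩ := exists_not_mem ({i, j, k, l} : Finset α)
    (lt_of_le_of_lt Finset.card_le_four (by omega))
  simp only [Finset.mem_insert, Finset.mem_singleton, not_or] at hk hl hm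
  obtain ⟨hki, hkj⟩ := hk
  obtain ⟨hli, hlj, hlk⟩ := hl
  obtain ⟨hmi, hmj, hmk, hml⟩ := hm
  -- first step
  set u : α → K := v - fun x => v (c3 i j k x) with hu
  have huW : u ∈ W.toSubmodule :=
    W.toSubmodule.sub_mem hv (comp_mem W _ (sign_c3 hij' (Ne.symm hkj)) v hv)
  have hui : u i = v i - v j := by
    simp only [hu, Pi.sub_apply]
    rw [c3_left hij' (Ne.symm hki)]
  have hul : u l = 0 := by
    simp only [hu, Pi.sub_apply]
    rw [c3_other hli hlj hlk, sub_self]
  have hum : u m = 0 := by
    simp only [hu, Pi.sub_apply]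
    rw [c3_other hmi hmj hmk, sub_self]
  have hui0 : u i ≠ 0 := by rw [hui]; exact sub_ne_zero.mpr hij
  -- second step
  have hu'W : (u - fun x => u (c3 i l m x)) ∈ W.toSubmodule :=
    W.toSubmodule.sub_mem huW (comp_mem W _ (sign_c3 (Ne.symm hli) (Ne.symm hml)) u huW)
  have hu' : (u - fun x => u (c3 i l m x)) = u i • (Pi.single i 1 - Pi.single m 1 : α → K) := by
    funext x
    simp only [Pi.sub_apply, Pi.smul_apply, smul_eq_mul, Pi.single_apply]
    by_cases hxi : x = i
    · subst hxi
      rw [c3_left (Ne.symm hli) (Ne.symm hmi), hul]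
      simp [Ne.symm hmi]
    by_cases hxl : x = l
    · subst hxl
      rw [c3_mid (Ne.symm hmi) (Ne.symm hml), hul, hum]
      simp [hxi, Ne.symm hml]
    by_cases hxm : x = m
    · subst hxm
      rw [c3_right, hum]
      simp [hxi]
    · rw [c3_other hxi hxl hxm]
      simp [hxi, hxm]
  refine ⟨i, m, Ne.symm hmi, ?_⟩
  have h1 : (Pi.single i 1 - Pi.single m 1 : α → K) =
      (u i)⁻¹ • (u - fun x => u (c3 i l m x)) := by
    rw [hu', smul_smul, inv_mul_cancel₀ hui0, one_smul]
  rw [h1]
  exact W.toSubmodule.smul_mem _ hu'W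

/-- From one difference of basis vectors one gets all differences based at the same point. -/
theorem all_d (hα : 4 ≤ Fintype.card α)
    (W : Subrepresentation (Cfsg.permRep K (alternatingGroup α) α))
    (x y : α) (hxy : x ≠ y) (hd : (Pi.single x 1 - Pi.single y 1 : α → K) ∈ W.toSubmodule)
    (y' : α) : (Pi.single x 1 - Pi.single y' 1 : α → K) ∈ W.toSubmodule := by
  by_cases h1 : y' = x
  · rw [h1, sub_self]; exact W.toSubmodule.zero_mem
  by_cases h2 : y' = y
  · rw [h2]; exact hd
  obtain ⟨t, ht⟩ := exists_not_mem ({x, y, y'} : Finset α)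
    (lt_of_le_of_lt Finset.card_le_three (by omega))
  simp only [Finset.mem_insert, Finset.mem_singleton, not_or] at ht
  obtain ⟨htx, hty, hty'⟩ := ht
  have h3 := comp_mem W (c3 y' y t) (sign_c3 h2 (Ne.symm hty)) _ hd
  convert h3 using 1
  funext w
  simp only [Pi.sub_apply, Pi.single_apply]
  by_cases hwy' : w = y'
  · subst hwy'
    rw [c3_left h2 (Ne.symm hty')]
    simp [h1, hxy.symm]
  by_cases hwy : w = y
  · subst hwy
    rw [c3_mid (Ne.symm hty') (Ne.symm hty)]
    simp [hxy.symm, htx, hty, hwy']
  by_cases hwt : w = t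
  · subst hwt
    rw [c3_right]
    simp [htx, hty', h1, h2]
  · rw [c3_other hwy' hwy hwt]
    simp [hwy, hwy']

omit [DecidableEq α] in
theorem sumZero_le [DecidableEq α]
    (Wm : Submodule K (α → K)) (x : α)
    (hd : ∀ y : α, (Pi.single x 1 - Pi.single y 1 : α → K) ∈ Wm)
    (f : α → K) (hf : ∑ w, f w = 0) : f ∈ Wm := by
  have h1 : f = - ∑ y, f y • (Pi.single x 1 - Pi.single y 1 : α → K) := by
    funext w
    simp only [Pi.neg_apply, Finset.sum_apply, Pi.smul_apply, Pi.sub_apply, smul_eq_mul,
      Pi.single_apply, mul_sub, Finset.sum_sub_distrib, ← Finset.sum_mul, hf, zero_mul, zero_sub,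
      neg_neg]
    simp
  rw [h1]
  exact Wm.neg_mem (Wm.sum_mem fun y _ => Wm.smul_mem _ (hd y))

end

/-- Over any field, the permutation module of the alternating group of degree at least 5 has exactly four invariant subspaces: zero, the constant functions, the functions with coordinate sum zero, and everything. -/
theorem result {α : Type*} [Fintype α] [DecidableEq α] (hα : 5 ≤ Fintype.card α) {K : Type*} [Field K] (W : Subrepresentation (Cfsg.permRep K (alternatingGroup α) α)) : W.toSubmodule = ⊥ ∨ W = Cfsg.permConstants K (alternatingGroup α) α ∨ W = Cfsg.permSumZero K (alternatingGroup α) α ∨ W.toSubmodule = ⊤ := by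
  have hne : Nonempty α := by
    rw [← Fintype.card_pos_iff]; omega
  obtain ⟨x₀⟩ := hne
  by_cases hconst : ∀ v ∈ W.toSubmodule, ∀ i j : α, v i = v j
  · by_cases hbot : W.toSubmodule = ⊥
    · exact Or.inl hbot
    · right; left
      apply Subrepresentation.toSubmodule_injective
      change W.toSubmodule = Submodule.span K {fun _ => 1}
      apply le_antisymm
      · intro v hv
        rw [Submodule.mem_span_singleton]
        refine ⟨v x₀, ?_⟩
        funext w
        simp only [Pi.smul_apply, smul_eq_mul, mul_one]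
        exact hconst v hv x₀ w
      · rw [Submodule.span_le, Set.singleton_subset_iff]
        obtain ⟨v, hv, hv0⟩ := Submodule.exists_mem_ne_zero_of_ne_bot hbot
        have hvx : v x₀ ≠ 0 := by
          intro h
          apply hv0
          funext w
          rw [← hconst v hv x₀ w, h]; rfl
        have h1 : (fun _ => 1 : α → K) = (v x₀)⁻¹ • v := by
          funext w
          simp only [Pi.smul_apply, smul_eq_mul]
          rw [← hconst v hv x₀ w, inv_mul_cancel₀ hvx]
        rw [SetLike.mem_coe, h1]
        exact W.toSubmodule.smul_mem _ hv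
  · push Not at hconst
    obtain ⟨v, hv, i, j, hij⟩ := hconst
    obtain ⟨x, y, hxy, hd⟩ := exists_d hα W v hv i j hij
    have hall := all_d (by omega) W x y hxy hd
    have hsz := sumZero_le W.toSubmodule x hall
    right; right
    by_cases hsum : ∀ w ∈ W.toSubmodule, ∑ a, w a = 0
    · left
      apply Subrepresentation.toSubmodule_injective
      apply le_antisymm
      · intro w hw
        exact hsum w hw
      · intro f hf
        exact hsz f hf
    · right
      push Not at hsum
      obtain ⟨w, hw, hws⟩ := hsum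
      rw [eq_top_iff]
      intro f _
      have h1 : f = (f - ((∑ a, f a) / (∑ a, w a)) • w) + ((∑ a, f a) / (∑ a, w a)) • w := by
        rw [sub_add_cancel]
      rw [h1]
      refine W.toSubmodule.add_mem (hsz _ ?_) (W.toSubmodule.smul_mem _ hw)
      simp only [Pi.sub_apply, Pi.smul_apply, smul_eq_mul, Finset.sum_sub_distrib, ← Finset.mul_sum]
      rw [div_mul_cancel₀ _ hws, sub_self]

end Cfsg.Agent.S0714
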