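import Cfsg.Statements.S0717
import Cfsg.Agent.Lib.H4.CentRingJ

set_option autoImplicit false
open Cfsg

namespace Cfsg.Agent.S0717

/-- All suborbits of a transitive group are self-paired (every pair of points is interchanged by some group element) if and only if the permutation character is multiplicity-free and each of its irreducible constituents is real-valued. -/
theorem result {G : Type*} [Group G] [Fintype G] {Ω : Type*} [Fintype Ω] [MulAction G Ω] [MulAction.IsPretransitive G Ω] : (∀ a b : Ω, ∃ g : G, g • a = b ∧ g • b = a) ↔ ∀ χ : G → ℂ, Cfsg.IsIrrCharacter G χ → Cfsg.classInner (fun g : G => (Nat.card (MulAction.fixedBy Ω g) : ℂ)) χ ≠ 0 → Cfsg.classInner (fun g : G => (Nat.card (MulAction.fixedBy Ω g) : ℂ)) χ = 1 ∧ ∀ g : G, (starRingEnd ℂ) (χ g) = χ g := by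
  classical
  constructor
  · intro hgen
    have hsym : ∀ A : Matrix Ω Ω ℂ, Lib.H4.CentRing.IsEqv G A → A.transpose = A := by
      intro A hA
      ext x y
      obtain ⟨g, hg1, hg2⟩ := hgen x y
      rw [Matrix.transpose_apply, ← hA g x y, hg1, hg2]
    intro χ hχ he
    refine ⟨?_, fun g => Lib.H4.CentRing.real_of_symmetric hsym hχ he g⟩
    rcases Lib.H4.CentRing.multFree_of_symmetric hsym hχ with h | h
    · exact absurd h he
    · exact h
  · intro hmf a b
    have h1 := Lib.H4.CentRing.transpose_eq_of_multFree_real (Ω := Ω) hmf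
      (Lib.H4.CentRing.orbMatC_isEqv (G := G) a b)
    have h2 := congrFun (congrFun h1 a) b
    have hab : Lib.H4.CentRing.orbMatC G a b a b = 1 := by
      rw [Lib.H4.CentRing.orbMatC_apply, if_pos ⟨1, one_smul _ _, one_smul _ _⟩]
    rw [Matrix.transpose_apply, hab, Lib.H4.CentRing.orbMatC_apply] at h2
    by_contra hcon
    rw [if_neg hcon] at h2
    exact zero_ne_one h2

end Cfsg.Agent.S0717
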