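import Cfsg.Statements.S0718
import Cfsg.Agent.Lib.H4.CentRingH

set_option autoImplicit false
open Cfsg

namespace Cfsg.Agent.S0718

/-- Multiplicity-freeness of the permutation character is equivalent to commutativity of the centraliser ring, i.e. of the algebra of `G`-equivariant endomorphisms of the complex permutation module. -/
theorem result {G : Type*} [Group G] [Fintype G] {Ω : Type*} [Fintype Ω] [MulAction G Ω] : (∀ χ : G → ℂ, Cfsg.IsIrrCharacter G χ → Cfsg.classInner (fun g : G => (Nat.card (MulAction.fixedBy Ω g) : ℂ)) χ = 0 ∨ Cfsg.classInner (fun g : G => (Nat.card (MulAction.fixedBy Ω g) : ℂ)) χ = 1) ↔ ∀ S T : (Ω → ℂ) →ₗ[ℂ] (Ω → ℂ), S ∈ ((Cfsg.permRep ℂ G Ω).linHom (Cfsg.permRep ℂ G Ω)).invariants → T ∈ ((Cfsg.permRep ℂ G Ω).linHom (Cfsg.permRep ℂ G Ω)).invariants → S ∘ₗ T = T ∘ₗ S := by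
  classical
  constructor
  · intro hmf S T hS hT
    rw [Lib.H4.CentRing.mem_invariants_iff] at hS hT
    apply LinearMap.toMatrix'.injective
    rw [LinearMap.toMatrix'_comp, LinearMap.toMatrix'_comp]
    exact Lib.H4.CentRing.comm_of_multFree hmf hS hT
  · intro hcomm χ hχ
    obtain ⟨d, ρ, hρ, rfl⟩ := hχ
    have hc : ∀ A B : Matrix Ω Ω ℂ, Lib.H4.CentRing.IsEqv G A → Lib.H4.CentRing.IsEqv G B →
        A * B = B * A := by
      intro A B hA hB
      have h1 := hcomm (Matrix.toLin' A) (Matrix.toLin' B)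
        (by rw [Lib.H4.CentRing.mem_invariants_iff, LinearMap.toMatrix'_toLin']; exact hA)
        (by rw [Lib.H4.CentRing.mem_invariants_iff, LinearMap.toMatrix'_toLin']; exact hB)
      have h2 := congrArg LinearMap.toMatrix' h1
      rw [LinearMap.toMatrix'_comp, LinearMap.toMatrix'_comp, LinearMap.toMatrix'_toLin',
        LinearMap.toMatrix'_toLin'] at h2
      exact h2
    have h1 := Lib.H4.CentRing.finrank_le_one_of_comm (Ω := Ω) ρ hρ hc
    have h2 := Lib.H4.CentRing.finrank_range_of_idem _ (Lib.H4.CentRing.EE_idem (Ω := Ω)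
      (Lib.H4.CentRing.matRep ρ))
    rw [Lib.H4.CentRing.trace_EE_eq] at h2
    show Cfsg.classInner (Lib.H4.CentRing.permCh G Ω) ρ.character = 0 ∨
      Cfsg.classInner (Lib.H4.CentRing.permCh G Ω) ρ.character = 1
    rw [← h2]
    have h3 : Module.finrank ℂ (LinearMap.range (Matrix.toLin' (Lib.H4.CentRing.EE
        (Lib.H4.CentRing.matRep ρ) : Matrix (Fin d × Ω) (Fin d × Ω) ℂ))) = 0 ∨
        Module.finrank ℂ (LinearMap.range (Matrix.toLin' (Lib.H4.CentRing.EE
        (Lib.H4.CentRing.matRep ρ) : Matrix (Fin d × Ω) (Fin d × Ω) ℂ))) = 1 := by omega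
    rcases h3 with h | h
    · left; rw [h]; simp
    · right; rw [h]; simp

end Cfsg.Agent.S0718
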