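import Cfsg.Statements.S0719
import Cfsg.Agent.Lib.H4.CentRingL

set_option autoImplicit false
open Cfsg
open scoped ComplexConjugate
open Cfsg.Agent.Lib.H4.CentRing

namespace Cfsg.Agent.S0719

/-- The multiplicities of the permutation character `1 + χ₁ + χ₂`. -/
theorem mults {G : Type*} [Group G] [Fintype G] {Ω : Type*} [Fintype Ω] [DecidableEq Ω]
    [MulAction G Ω] [MulAction.IsPretransitive G Ω] [Nonempty Ω] {m : ℕ}
    (χ₁ χ₂ : G → ℂ) (h₁ : Cfsg.IsIrrCharacter G χ₁) (h₂ : Cfsg.IsIrrCharacter G χ₂)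
    (hπ : permCh G Ω = fun g => 1 + χ₁ g + χ₂ g)
    (hd₁ : χ₁ 1 = (m : ℂ) - 1) (hd₂ : χ₂ 1 = m) :
    (χ₁ ≠ fun _ => 1) ∧ (χ₂ ≠ fun _ => 1) ∧ χ₁ ≠ χ₂ ∧
    (∀ ψ : G → ℂ, Cfsg.IsIrrCharacter G ψ → Cfsg.classInner (permCh G Ω) ψ =
      Cfsg.classInner (fun _ : G => (1 : ℂ)) ψ + Cfsg.classInner χ₁ ψ + Cfsg.classInner χ₂ ψ) := by
  classical
  have hone := Cfsg.Agent.Lib.H24.isIrrCharacter_one (G := G)
  have hsplit : ∀ ψ : G → ℂ, Cfsg.classInner (permCh G Ω) ψ =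
      Cfsg.classInner (fun _ : G => (1 : ℂ)) ψ + Cfsg.classInner χ₁ ψ + Cfsg.classInner χ₂ ψ := by
    intro ψ
    have : permCh G Ω = (fun _ : G => (1 : ℂ)) + χ₁ + χ₂ := by
      rw [hπ]; rfl
    rw [this, Cfsg.Agent.Lib.L0.classInner_add_left, Cfsg.Agent.Lib.L0.classInner_add_left]
  have h12 : χ₁ ≠ χ₂ := by
    intro h
    rw [h, hd₂] at hd₁
    have : (m : ℂ) - 1 ≠ m := by
      intro h'
      have : (-1 : ℂ) = 0 := by linear_combination h'
      norm_num at this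
    exact this hd₁.symm
  have ht := hsplit (fun _ : G => (1 : ℂ))
  rw [classInner_permCh_one, Cfsg.Agent.Lib.L0.irr_classInner_self hone,
    Cfsg.Agent.Lib.L0.irr_classInner_eq h₁ hone, Cfsg.Agent.Lib.L0.irr_classInner_eq h₂ hone] at ht
  refine ⟨?_, ?_, h12, fun ψ _ => hsplit ψ⟩
  · intro h
    rw [if_pos h] at ht
    split_ifs at ht <;> norm_num at ht
  · intro h
    rw [if_pos h] at ht
    split_ifs at ht <;> norm_num at ht

/-- Trace formula for the centralizer ring when `π = 1 + χ₁ + χ₂`. -/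
theorem trace_formula {G : Type*} [Group G] [Fintype G] {Ω : Type*} [Fintype Ω] [DecidableEq Ω]
    [MulAction G Ω] (χ₁ χ₂ : G → ℂ) (h₁ : Cfsg.IsIrrCharacter G χ₁) (h₂ : Cfsg.IsIrrCharacter G χ₂)
    (hn1 : χ₁ ≠ fun _ => 1) (hn2 : χ₂ ≠ fun _ => 1) (h12 : χ₁ ≠ χ₂)
    (hzero : ∀ ψ : G → ℂ, Cfsg.IsIrrCharacter G ψ → (ψ ≠ fun _ => 1) → ψ ≠ χ₁ → ψ ≠ χ₂ →
      Cfsg.classInner (permCh G Ω) ψ = 0)
    {M : Matrix Ω Ω ℂ} (hM : IsEqv G M) :
    M.trace = theta M (fun _ : G => (1 : ℂ)) + theta M χ₁ * χ₁ 1 + theta M χ₂ * χ₂ 1 := by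
  classical
  haveI : Fintype (Cfsg.IrrCharacter G) := Fintype.ofFinite _
  rw [trace_eq_sum_irr hM]
  obtain ⟨t0, ht0⟩ : ∃ t0 : Cfsg.IrrCharacter G, t0 = Cfsg.Agent.Lib.H24.trivialIrr G := ⟨_, rfl⟩
  obtain ⟨x₁, hx₁⟩ : ∃ x₁ : Cfsg.IrrCharacter G, x₁ = ⟨χ₁, h₁⟩ := ⟨_, rfl⟩
  obtain ⟨x₂, hx₂⟩ : ∃ x₂ : Cfsg.IrrCharacter G, x₂ = ⟨χ₂, h₂⟩ := ⟨_, rfl⟩
  have hv0 : (t0 : G → ℂ) = fun _ => 1 := by rw [ht0]; rfl
  have hv1 : (x₁ : G → ℂ) = χ₁ := by rw [hx₁]
  have hv2 : (x₂ : G → ℂ) = χ₂ := by rw [hx₂]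
  have hne01 : t0 ≠ x₁ := by
    intro h
    apply hn1
    rw [← hv1, ← h, hv0]
  have hne02 : t0 ≠ x₂ := by
    intro h
    apply hn2
    rw [← hv2, ← h, hv0]
  have hne12 : x₁ ≠ x₂ := by
    intro h
    apply h12
    rw [← hv1, ← hv2, h]
  rw [← Finset.sum_subset (Finset.subset_univ ({t0, x₁, x₂} : Finset (Cfsg.IrrCharacter G)))]
  · rw [Finset.sum_insert (by simp [hne01, hne02]), Finset.sum_pair hne12, hv0, hv1, hv2, theta,
      theta, theta, mul_one, add_assoc]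
  · intro ψ _ hψ
    simp only [Finset.mem_insert, Finset.mem_singleton, not_or] at hψ
    have h0 := hzero ψ ψ.2 (fun h => hψ.1 (Subtype.ext (h.trans hv0.symm)))
      (fun h => hψ.2.1 (Subtype.ext (h.trans hv1.symm)))
      (fun h => hψ.2.2 (Subtype.ext (h.trans hv2.symm)))
    rw [classInner_cA_eq_zero M (Cfsg.Agent.Lib.L0.isCharacter_of_irr ψ.2) h0, zero_mul]

/-- Groups of Wielandt type: if a primitive group of degree `2m` has rank 3 and permutation character `1 + χ₁ + χ₂` with irreducible `χ₁, χ₂` of degrees `m - 1` and `m`, then `m = 2a² + 2a + 1` for some positive integer `a` and the two non-trivial subdegrees are `a(2a+1)` and `(a+1)(2a+1)`. -/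
theorem result {G : Type*} [Group G] [Fintype G] {Ω : Type*} [Fintype Ω] [MulAction G Ω] (hprim : MulAction.IsPreprimitive G Ω) {m : ℕ} (hm : Fintype.card Ω = 2 * m) (a₀ : Ω) (hrank : Nat.card (MulAction.orbitRel.Quotient (MulAction.stabilizer G a₀) Ω) = 3) (χ₁ χ₂ : G → ℂ) (h₁ : Cfsg.IsIrrCharacter G χ₁) (h₂ : Cfsg.IsIrrCharacter G χ₂) (hπ : (fun g : G => (Nat.card (MulAction.fixedBy Ω g) : ℂ)) = fun g => 1 + χ₁ g + χ₂ g) (hd₁ : χ₁ 1 = (m : ℂ) - 1) (hd₂ : χ₂ 1 = m) : ∃ a : ℕ, 0 < a ∧ m = 2 * a ^ 2 + 2 * a + 1 ∧ ∀ b : Ω, b ≠ a₀ → Nat.card (MulAction.orbit (MulAction.stabilizer G a₀) b) = a * (2 * a + 1) ∨ Nat.card (MulAction.orbit (MulAction.stabilizer G a₀) b) = (a + 1) * (2 * a + 1) := by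
  classical
  haveI := hprim
  haveI : MulAction.IsPretransitive G Ω := hprim.toIsPretransitive
  haveI : Nonempty Ω := ⟨a₀⟩
  have hone := Cfsg.Agent.Lib.H24.isIrrCharacter_one (G := G)
  have hπ' : permCh G Ω = fun g => 1 + χ₁ g + χ₂ g := hπ
  obtain ⟨hn1, hn2, h12, hsplit⟩ := mults (Ω := Ω) χ₁ χ₂ h₁ h₂ hπ' hd₁ hd₂
  have hc1 := Cfsg.Agent.Lib.L0.isCharacter_of_irr h₁
  have hc2 := Cfsg.Agent.Lib.L0.isCharacter_of_irr h₂
  -- multiplicities
  have he1 : Cfsg.classInner (permCh G Ω) χ₁ = 1 := by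
    rw [hsplit χ₁ h₁, Cfsg.Agent.Lib.L0.irr_classInner_ne hone h₁ (Ne.symm hn1),
      Cfsg.Agent.Lib.L0.irr_classInner_self h₁,
      Cfsg.Agent.Lib.L0.irr_classInner_ne h₂ h₁ (Ne.symm h12)]
    ring
  have he2 : Cfsg.classInner (permCh G Ω) χ₂ = 1 := by
    rw [hsplit χ₂ h₂, Cfsg.Agent.Lib.L0.irr_classInner_ne hone h₂ (Ne.symm hn2),
      Cfsg.Agent.Lib.L0.irr_classInner_self h₂,
      Cfsg.Agent.Lib.L0.irr_classInner_ne h₁ h₂ h12]
    ring
  have he0 : Cfsg.classInner (permCh G Ω) (fun _ : G => (1 : ℂ)) = 1 := classInner_permCh_one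
  have hzero : ∀ ψ : G → ℂ, Cfsg.IsIrrCharacter G ψ → (ψ ≠ fun _ => 1) → ψ ≠ χ₁ → ψ ≠ χ₂ →
      Cfsg.classInner (permCh G Ω) ψ = 0 := by
    intro ψ hψ hψ0 hψ1 hψ2
    rw [hsplit ψ hψ, Cfsg.Agent.Lib.L0.irr_classInner_ne hone hψ (Ne.symm hψ0),
      Cfsg.Agent.Lib.L0.irr_classInner_ne h₁ hψ (Ne.symm hψ1),
      Cfsg.Agent.Lib.L0.irr_classInner_ne h₂ hψ (Ne.symm hψ2)]
    ring
  -- `m ≥ 2`
  have hm2 : 2 ≤ m := by
    obtain ⟨n, hn0, hn, _⟩ := Cfsg.Agent.Lib.H23.irr_apply_one_dvd_card χ₁ h₁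
    rw [hd₁] at hn
    have : (m : ℂ) = ((n + 1 : ℕ) : ℂ) := by push_cast; linear_combination hn
    have : m = n + 1 := by exact_mod_cast this
    omega
  -- real-valuedness
  have hπreal : (fun g => conj (permCh G Ω g)) = permCh G Ω := by
    funext g
    simp [permCh]
  have hconj_inner : ∀ ψ : G → ℂ, Cfsg.classInner (permCh G Ω) (fun g => conj (ψ g)) =
      conj (Cfsg.classInner (permCh G Ω) ψ) := by
    intro ψ
    rw [← Cfsg.Agent.Lib.H24.classInner_conj_conj, hπreal]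
  have hreal1 : ∀ g : G, conj (χ₁ g) = χ₁ g := by
    have hirr := Cfsg.Agent.Lib.H24.isIrrCharacter_conj h₁
    have hin : Cfsg.classInner (permCh G Ω) (fun g => conj (χ₁ g)) ≠ 0 := by
      rw [hconj_inner, he1]; simp
    by_cases hA : (fun g => conj (χ₁ g)) = χ₁
    · exact fun g => congrFun hA g
    · exfalso
      by_cases hB : (fun g => conj (χ₁ g)) = fun _ => (1 : ℂ)
      · apply hn1
        funext g
        have := congrFun hB g
        have h' := congrArg conj this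
        simpa using h'
      · by_cases hC : (fun g => conj (χ₁ g)) = χ₂
        · have := congrFun hC 1
          rw [hd₁, hd₂] at this
          have h' : (-1 : ℂ) = 0 := by
            simp only [map_sub, Complex.conj_natCast, map_one] at this
            linear_combination this
          norm_num at h'
        · exact hin (hzero _ hirr hB hA hC)
  have hreal2 : ∀ g : G, conj (χ₂ g) = χ₂ g := by
    have hirr := Cfsg.Agent.Lib.H24.isIrrCharacter_conj h₂
    have hin : Cfsg.classInner (permCh G Ω) (fun g => conj (χ₂ g)) ≠ 0 := by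
      rw [hconj_inner, he2]; simp
    by_cases hA : (fun g => conj (χ₂ g)) = χ₂
    · exact fun g => congrFun hA g
    · exfalso
      by_cases hB : (fun g => conj (χ₂ g)) = fun _ => (1 : ℂ)
      · apply hn2
        funext g
        have := congrFun hB g
        have h' := congrArg conj this
        simpa using h'
      · by_cases hC : (fun g => conj (χ₂ g)) = χ₁
        · have := congrFun hC 1
          rw [hd₁, hd₂] at this
          have h' : (1 : ℂ) = 0 := by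
            simp only [Complex.conj_natCast] at this
            linear_combination this
          norm_num at h'
        · exact hin (hzero _ hirr hB hC hA)
  have hsym : ∀ A : Matrix Ω Ω ℂ, IsEqv G A → A.transpose = A := by
    intro A hA
    refine transpose_eq_of_multFree_real ?_ hA
    intro ψ hψ hψ0
    by_cases hB : ψ = fun _ => (1 : ℂ)
    · subst hB
      exact ⟨he0, fun g => by simp⟩
    · by_cases hC : ψ = χ₁
      · subst hC
        exact ⟨he1, hreal1⟩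
      · by_cases hD : ψ = χ₂
        · subst hD
          exact ⟨he2, hreal2⟩
        · exact absurd (hzero ψ hψ hB hC hD) hψ0
  -- the suborbits
  obtain ⟨b₁, b₂, hb₁, hb₂, hb₁₂, hcover, hcard⟩ := three_orbits (G := G) a₀ hrank
  obtain ⟨k, hk⟩ : ∃ k, k = Nat.card (MulAction.orbit (MulAction.stabilizer G a₀) b₁) := ⟨_, rfl⟩
  obtain ⟨l, hl⟩ : ∃ l, l = Nat.card (MulAction.orbit (MulAction.stabilizer G a₀) b₂) := ⟨_, rfl⟩
  rw [← hk, ← hl, hm] at hcard
  have hk1 : k ≠ 1 := by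
    rw [hk]; exact prim_no_unit_suborbit hprim hm hm2 a₀ b₁ hb₁
  have hl1 : l ≠ 1 := by
    rw [hl]; exact prim_no_unit_suborbit hprim hm hm2 a₀ b₂ hb₂
  have hk0 : 0 < k := by
    rw [hk]
    haveI : Nonempty (MulAction.orbit (MulAction.stabilizer G a₀) b₁) :=
      ⟨⟨b₁, MulAction.mem_orbit_self b₁⟩⟩
    exact Nat.card_pos
  have hl0 : 0 < l := by
    rw [hl]
    haveI : Nonempty (MulAction.orbit (MulAction.stabilizer G a₀) b₂) :=
      ⟨⟨b₂, MulAction.mem_orbit_self b₂⟩⟩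
    exact Nat.card_pos
  -- the orbital matrices
  obtain ⟨A, hAdef⟩ : ∃ A : Matrix Ω Ω ℂ, A = orbMatC G a₀ b₁ := ⟨_, rfl⟩
  obtain ⟨B, hBdef⟩ : ∃ B : Matrix Ω Ω ℂ, B = orbMatC G a₀ b₂ := ⟨_, rfl⟩
  have hA : IsEqv G A := by rw [hAdef]; exact orbMatC_isEqv a₀ b₁
  have hB : IsEqv G B := by rw [hBdef]; exact orbMatC_isEqv a₀ b₂
  have hArow : ∑ y, A a₀ y = (k : ℂ) := by rw [hAdef, hk]; exact orbMatC_row a₀ b₁
  have hAtr : A.trace = 0 := by rw [hAdef]; exact orbMatC_trace hb₁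
  have hAint : ∀ ψ : G → ℂ, Cfsg.IsCharacter G ψ → IsIntegral ℤ (theta A ψ) := by
    intro ψ hψ
    rw [hAdef]
    exact isIntegral_classInner_cA (orbMat G a₀ b₁) (orbMatC_isEqv a₀ b₁) hψ
  have hA01 : ∀ x y, A x y * A x y = A x y := by
    intro x y
    rw [hAdef, orbMatC_apply]
    split_ifs <;> simp
  have hAAint : ∀ x y, ∃ n : ℤ, (A * A) x y = n := by
    intro x y
    refine ⟨(orbMat G a₀ b₁ * orbMat G a₀ b₁) x y, ?_⟩
    have hcast : ((orbMat G a₀ b₁).map (Int.cast : ℤ → ℂ)) =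
        (orbMat G a₀ b₁).map (Int.castRingHom ℂ) := rfl
    rw [hAdef, orbMatC, hcast, ← Matrix.map_mul]
    rfl
  have hdecomp : ∀ M : Matrix Ω Ω ℂ, IsEqv G M →
      M = M a₀ a₀ • (1 : Matrix Ω Ω ℂ) + M a₀ b₁ • A + M a₀ b₂ • B := by
    intro M hM
    rw [hAdef, hBdef]
    exact decomp3 hb₁ hb₂ hb₁₂ hcover hM
  -- eigenvalues
  obtain ⟨s, hs⟩ : ∃ s : ℂ, s = theta A χ₁ := ⟨_, rfl⟩
  obtain ⟨t, ht⟩ : ∃ t : ℂ, t = theta A χ₂ := ⟨_, rfl⟩
  have hJ := hdecomp (allOnes Ω) allOnes_isEqv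
  have hBs : theta B χ₁ = -1 - s := by
    have h := theta_allOnes (Ω := Ω) h₁ hn1
    rw [hJ, theta_add, theta_add, theta_smul, theta_smul, theta_smul, theta_one, he1, ← hs] at h
    simp only [allOnes] at h
    linear_combination h
  have hBt : theta B χ₂ = -1 - t := by
    have h := theta_allOnes (Ω := Ω) h₂ hn2
    rw [hJ, theta_add, theta_add, theta_smul, theta_smul, theta_smul, theta_one, he2, ← ht] at h
    simp only [allOnes] at h
    linear_combination h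
  have hκ : (A * A) a₀ a₀ = (k : ℂ) := by
    rw [Matrix.mul_apply, ← hArow]
    refine Finset.sum_congr rfl fun y _ => ?_
    have := congrFun (congrFun (hsym A hA) a₀) y
    rw [Matrix.transpose_apply] at this
    rw [this, hA01]
  obtain ⟨nl, hnl⟩ := hAAint a₀ b₁
  obtain ⟨nm, hnm⟩ := hAAint a₀ b₂
  have hAAd := hdecomp (A * A) (hA.mul hA)
  rw [hκ, hnl, hnm] at hAAd
  have hQs : s * s = k + nl * s + nm * (-1 - s) := by
    have h := theta_mul hc1 he1 hA hA
    rw [← hs] at h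
    rw [← h]
    conv_lhs => rw [hAAd]
    rw [theta_add, theta_add, theta_smul, theta_smul, theta_smul, theta_one, he1, ← hs, hBs]
    ring
  have hQt : t * t = k + nl * t + nm * (-1 - t) := by
    have h := theta_mul hc2 he2 hA hA
    rw [← ht] at h
    rw [← h]
    conv_lhs => rw [hAAd]
    rw [theta_add, theta_add, theta_smul, theta_smul, theta_smul, theta_one, he2, ← ht, hBt]
    ring
  -- trace equations
  have hE1 : (k : ℂ) + s * ((m : ℂ) - 1) + t * m = 0 := by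
    have h := trace_formula χ₁ χ₂ h₁ h₂ hn1 hn2 h12 hzero hA
    rw [hAtr, theta_triv hA a₀, hArow, ← hs, ← ht, hd₁, hd₂] at h
    exact h.symm
  have hE2 : (k : ℂ) * k + s * s * ((m : ℂ) - 1) + t * t * m = 2 * m * k := by
    have h := trace_formula χ₁ χ₂ h₁ h₂ hn1 hn2 h12 hzero (hA.mul hA)
    rw [theta_mul (Cfsg.Agent.Lib.L0.isCharacter_of_irr hone) he0 hA hA, theta_mul hc1 he1 hA hA,
      theta_mul hc2 he2 hA hA, theta_triv hA a₀, hArow, ← hs, ← ht, hd₁, hd₂] at h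
    rw [← h, Matrix.trace]
    have hdiag : ∀ x : Ω, (A * A).diag x = (k : ℂ) := by
      intro x
      obtain ⟨g, rfl⟩ := MulAction.exists_smul_eq G a₀ x
      rw [Matrix.diag_apply, (hA.mul hA) g a₀ a₀, hκ]
    rw [Finset.sum_congr rfl fun x _ => hdiag x, Finset.sum_const, Finset.card_univ, hm]
    simp only [nsmul_eq_mul]
    push_cast
    ring
  have hkl2 : 2 ≤ k ∧ 2 ≤ l := ⟨by omega, by omega⟩
  have hprod : (s - t) * (s + t - ((nl : ℂ) - nm)) = 0 := by
    linear_combination hQs - hQt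
  -- finish, given integer eigenvalue data
  have hfinish : ∀ a : ℕ, 0 < a → m = 2 * a ^ 2 + 2 * a + 1 →
      ((k = a * (2 * a + 1) ∧ l = (a + 1) * (2 * a + 1)) ∨
       (k = (a + 1) * (2 * a + 1) ∧ l = a * (2 * a + 1))) →
      ∃ a : ℕ, 0 < a ∧ m = 2 * a ^ 2 + 2 * a + 1 ∧ ∀ b : Ω, b ≠ a₀ →
        Nat.card (MulAction.orbit (MulAction.stabilizer G a₀) b) = a * (2 * a + 1) ∨
        Nat.card (MulAction.orbit (MulAction.stabilizer G a₀) b) = (a + 1) * (2 * a + 1) := by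
    intro a ha hma hcases
    refine ⟨a, ha, hma, ?_⟩
    intro b hb
    rcases hcover b with h | h | h
    · exact absurd h hb
    · rw [MulAction.orbit_eq_iff.mpr h, ← hk]
      rcases hcases with h' | h'
      · exact Or.inl h'.1
      · exact Or.inr h'.1
    · rw [MulAction.orbit_eq_iff.mpr h, ← hl]
      rcases hcases with h' | h'
      · exact Or.inr h'.2
      · exact Or.inl h'.2
  rcases mul_eq_zero.mp hprod with hst | hst
  · -- `s = t`
    exfalso
    have hst' : s = t := by linear_combination hst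
    have hdvd : (2 * m - 1) ∣ k := by
      have hsint : IsIntegral ℤ (-s) := by
        rw [hs]; exact (hAint χ₁ hc1).neg
      refine nat_dvd_of_isIntegral (z := -s) hsint ?_
      rw [Nat.cast_sub (by omega)]
      push_cast
      rw [← hst'] at hE1
      linear_combination hE1
    have := Nat.le_of_dvd hk0 hdvd
    omega
  · -- `s + t` is an integer
    obtain ⟨u, hu⟩ : ∃ u : ℤ, u = nl - nm := ⟨_, rfl⟩
    have hstu : s + t = (u : ℂ) := by
      rw [hu]; push_cast; linear_combination hst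
    obtain ⟨s', hs'⟩ : ∃ s' : ℤ, s' = k + m * u := ⟨_, rfl⟩
    have hss' : s = (s' : ℂ) := by
      rw [hs']; push_cast
      have ht' : t = u - s := by linear_combination hstu
      rw [ht'] at hE1
      linear_combination -hE1
    have htt' : t = ((u - s' : ℤ) : ℂ) := by
      push_cast; rw [← hss']; linear_combination hstu
    have hE2' : (k : ℤ) ^ 2 + ((m : ℤ) - 1) * s' ^ 2 + m * (u - s') ^ 2 = 2 * m * k := by
      have : ((k : ℤ) ^ 2 + ((m : ℤ) - 1) * s' ^ 2 + m * (u - s') ^ 2 : ℤ) =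
          ((2 * m * k : ℤ) : ℂ) := by
        push_cast
        rw [hss', htt'] at hE2
        push_cast at hE2
        linear_combination hE2
      exact_mod_cast this
    obtain ⟨a, ha, hma, hcases⟩ := wielandt_arith k l m s' u hm2 hkl2.1 hkl2.2 (by omega)
      (by rw [hs']; ring) hE2'
    exact hfinish a ha hma hcases

end Cfsg.Agent.S0719
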