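import Cfsg.Statements.S0720
import Cfsg.Agent.Lib.H21.W2P.Asm
import Cfsg.Agent.Lib.H9.W2PR2
import Cfsg.Agent.Lib.H9.W2PTWO
import Cfsg.Agent.Lib.H9.W2PALT2T
import Cfsg.Agent.Lib.H5.W2PJORDAN
import Cfsg.Agent.Lib.H13.W2PCENT
import Cfsg.Agent.Lib.H2.W2PSCHUR
import Cfsg.Agent.Lib.H8.W2PC1
import Cfsg.Agent.Lib.H5.W2PLIN

set_option autoImplicit false
open Cfsg

namespace Cfsg.Agent.S0720

open Cfsg.Agent.Lib.H4.CentRing Cfsg.Agent.Lib.H21.W2P

/-- Wielandt's Theorem on primitive groups of degree `2p`: such a group is doubly transitive, or it has rank 3, `p = 2a² + 2a + 1`, and subdegrees `a(2a+1)` and `(a+1)(2a+1)`. -/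
theorem result {α : Type*} [Fintype α] [DecidableEq α] {p : ℕ} (hp : p.Prime) (hα : Fintype.card α = 2 * p) (G : Subgroup (Equiv.Perm α)) (hG : MulAction.IsPreprimitive G α) (a₀ : α) : MulAction.IsMultiplyPretransitive G α 2 ∨ (Nat.card (MulAction.orbitRel.Quotient (MulAction.stabilizer G a₀) α) = 3 ∧ ∃ a : ℕ, 0 < a ∧ p = 2 * a ^ 2 + 2 * a + 1 ∧ ∀ b : α, b ≠ a₀ → Nat.card (MulAction.orbit (MulAction.stabilizer G a₀) b) = a * (2 * a + 1) ∨ Nat.card (MulAction.orbit (MulAction.stabilizer G a₀) b) = (a + 1) * (2 * a + 1)) := by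
  classical
  have _instG : Fintype G := Fintype.ofFinite _
  have _instT : MulAction.IsPretransitive G α := hG.toIsPretransitive
  by_cases hp2 : p = 2
  · subst hp2
    exact Or.inl (Cfsg.Agent.Lib.H9.W2P.two_trans_of_card_four (by omega) G hG)
  have hp3 : 3 ≤ p := by
    have := hp.two_le
    omega
  rcases Cfsg.Agent.Lib.H5.W2P.jordan_two_p hp hp2 hα G hG with hAlt | ⟨hp2G, x, hxG, hox, hfpf⟩
  · exact Or.inl (Cfsg.Agent.Lib.H9.W2P.two_trans_of_alt_le (by omega) G hAlt)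
  rcases Cfsg.Agent.Lib.H13.W2P.centralizer_two_p hp hp2 hα G hp2G x hxG hox hfpf with hcent | ⟨g, hg, hcyc, hsupp⟩
  swap
  · exact Or.inl (Cfsg.Agent.Lib.H2.W2P.schur_two_p hp hp2 hα G hG g hg hcyc hsupp)
  -- the character analysis on `G`
  have hoxG : orderOf (⟨x, hxG⟩ : G) = p := by rw [← hox]; exact Subgroup.orderOf_mk x hxG
  have hfpfG : ∀ a : α, (⟨x, hxG⟩ : G) • a ≠ a := fun a => hfpf a
  rcases Cfsg.Agent.Lib.H8.W2P.exists_chi_one hp hp2 hα (⟨x, hxG⟩ : G) hoxG hfpfG a₀ with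
    h2 | ⟨χ, hχ, h1, hne, hin⟩ | ⟨χ₁, h₁, hin, hdeg, hvan⟩
  · exact Or.inl (Cfsg.Agent.Lib.H9.W2P.two_trans_of_rank_two a₀ h2)
  · exfalso
    refine Cfsg.Agent.Lib.H5.W2P.false_of_linear G hG ?_ χ hχ h1 hne hin
    rw [hα]
    exact Nat.not_prime_mul (by norm_num) (by omega)
  obtain ⟨X, hD, hr⟩ := Cfsg.Agent.Lib.H4.W2P.decomp hp hα (⟨x, hxG⟩ : G) hoxG hfpfG χ₁ h₁ hin hdeg hvan a₀
  rcases Nat.lt_or_ge X.card 2 with hlt | hge
  · have hcases : X.card = 0 ∨ X.card = 1 := by omega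
    rcases hcases with h0 | h1
    · rw [h0] at hr
      exact Or.inl (Cfsg.Agent.Lib.H9.W2P.two_trans_of_rank_two a₀ hr)
    · right
      rw [h1] at hr
      refine ⟨hr, ?_⟩
      obtain ⟨ψ, hψ⟩ := Finset.card_eq_one.mp h1
      have heq : permCh G α = fun g => 1 + (ψ : G → ℂ) g + χ₁ g := by
        rw [hD.eq]
        funext g
        rw [hψ, Finset.sum_singleton]
        ring
      have hd : (ψ : G → ℂ) 1 = (p : ℂ) - 1 := by
        have h3 := congrFun heq 1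
        have h4 : permCh G α 1 = ((2 * p : ℕ) : ℂ) := by
          rw [permCh, ← hα]
          congr 1
          rw [← Nat.card_eq_fintype_card]
          apply Nat.card_congr
          refine ⟨fun y => y.1, fun y => ⟨y, ?_⟩, fun y => rfl, fun y => rfl⟩
          simp
        rw [h4, hD.deg₁] at h3
        push_cast at h3
        linear_combination -h3
      exact Cfsg.Agent.S0719.result hG hα a₀ hr (ψ : G → ℂ) χ₁ ψ.2 h₁ heq hd hdeg
  · exfalso
    exact false_of_rank_ge_four hp hp2 hα G hG hp2G x hxG hox hfpf hcent χ₁ h₁ hin hdeg hvan a₀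
      (by omega)

end Cfsg.Agent.S0720
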