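import Cfsg.Statements.S0721
import Cfsg.Agent.Lib.H18.MinNormal

set_option autoImplicit false
open Cfsg

namespace Cfsg.Agent.S0721

open Cfsg.Agent.Lib.H18

/-- A carrier type in `Type` without algebraic structure. -/
def Carrier (k : ℕ) : Type := Fin k

/-- A minimal normal subgroup of a finite group is isomorphic to a direct power `T ^ m` of a simple group `T` (possibly of prime order). -/
theorem result {H : Type*} [Group H] [Finite H] (N : Subgroup H) [N.Normal] (hN : N ≠ ⊥) (hmin : ∀ M : Subgroup H, M.Normal → M ≤ N → M = ⊥ ∨ M = N) : ∃ (T : Type) (_ : Group T) (m : ℕ), IsSimpleGroup T ∧ 0 < m ∧ Nonempty (N ≃* (Fin m → T)) := by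
  have hnt : Nontrivial N := (Subgroup.nontrivial_iff_ne_bot N).mpr hN
  have key : ∀ M : Subgroup N, (∀ h : H, M.map (MulAut.conjNormal h : MulAut N).toMonoidHom ≤ M) →
      M = ⊥ ∨ M = ⊤ := by
    intro M hM
    have hM'n : (M.map N.subtype).Normal := by
      constructor
      intro x hx h
      obtain ⟨y, hy, rfl⟩ := Subgroup.mem_map.mp hx
      have h1 : (MulAut.conjNormal h : MulAut N) y ∈ M :=
        hM h (Subgroup.mem_map_of_mem _ hy)
      have h2 : h * N.subtype y * h⁻¹ = N.subtype ((MulAut.conjNormal h : MulAut N) y) := by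
        simp [MulAut.conjNormal_apply]
      rw [h2]
      exact Subgroup.mem_map_of_mem _ h1
    rcases hmin _ hM'n (Subgroup.map_subtype_le M) with h | h
    · left
      exact (Subgroup.map_eq_bot_iff_of_injective M N.subtype_injective).mp h
    · right
      have := Subgroup.comap_map_eq_self_of_injective N.subtype_injective M
      rw [h] at this
      rw [← this]
      exact Subgroup.subgroupOf_self N
  obtain ⟨T₀, m, hsimple, hm, ⟨e⟩⟩ := exists_simple_pow (N := N) (A := H) MulAut.conjNormal key
  -- transport `T₀` to `Type`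
  let eq : Carrier (Nat.card T₀) ≃ T₀ := (Finite.equivFin T₀).symm
  letI inst : Group (Carrier (Nat.card T₀)) := eq.group
  let me : Carrier (Nat.card T₀) ≃* T₀ := eq.mulEquiv
  have hs : IsSimpleGroup (Carrier (Nat.card T₀)) := me.isSimpleGroup
  exact ⟨Carrier (Nat.card T₀), inst, m, hs, hm,
    ⟨e.trans (MulEquiv.piCongrRight (fun _ => me.symm))⟩⟩

end Cfsg.Agent.S0721
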