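import Cfsg.Statements.S0723
import Cfsg.Agent.S0721
import Cfsg.Agent.Lib.H4.OScott.Apply

set_option autoImplicit false
open Cfsg

namespace Cfsg.Agent.S0723

/-- The core of the O'Nan–Scott Theorem. Let `H` be a primitive permutation group on a finite set whose unique minimal normal subgroup `N` is non-abelian, and `K` a point stabiliser. Then there are a non-abelian simple group `T` and an isomorphism `N ≃* T^m` (`m ≥ 1`) under which `K ⊓ N` becomes either a product `∏ K_i` of proper subgroups `K_i < T`, or the set of functions constant on each block of a partition of the index set into blocks of one common size `k ≥ 2`. -/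
theorem result {α : Type*} [Finite α] (H : Subgroup (Equiv.Perm α)) [MulAction.IsPreprimitive H α] (N : Subgroup H) [N.Normal] (hN : N ≠ ⊥) (hmin : ∀ M : Subgroup H, M.Normal → M ≤ N → M = ⊥ ∨ M = N) (huniq : ∀ L : Subgroup H, L.Normal → L ≠ ⊥ → (∀ M : Subgroup H, M.Normal → M ≤ L → M = ⊥ ∨ M = L) → L = N) (hnab : ¬ IsMulCommutative N) (a : α) : ∃ (T : Type) (_ : Group T) (m : ℕ) (e : N ≃* (Fin m → T)), IsSimpleGroup T ∧ ¬ IsMulCommutative T ∧ 0 < m ∧ ((∃ K : Fin m → Subgroup T, (∀ i, K i ≠ ⊤) ∧ ∀ n : N, (n : H) ∈ MulAction.stabilizer H a ↔ ∀ i, e n i ∈ K i) ∨ (∃ (k : ℕ) (c : Fin m → Fin m), 2 ≤ k ∧ (∀ j : Fin m, Nat.card {i : Fin m // c i = j} = k ∨ Nat.card {i : Fin m // c i = j} = 0) ∧ ∀ n : N, (n : H) ∈ MulAction.stabilizer H a ↔ ∀ i j : Fin m, c i = c j → e n i = e n j)) := by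
  classical
  haveI : Finite H := inferInstance
  obtain ⟨T, instT, m, hsimple, hm, ⟨e₀⟩⟩ := Cfsg.Agent.S0721.result N hN hmin
  have hT : ∃ x y : T, x * y ≠ y * x := by
    by_contra hcon
    push Not at hcon
    apply hnab
    refine ⟨⟨fun x y => ?_⟩⟩
    apply e₀.injective
    rw [map_mul, map_mul]
    ext i
    exact hcon _ _
  have hTnc : ¬ IsMulCommutative T := by
    intro hc
    obtain ⟨x, y, hxy⟩ := hT
    exact hxy (hc.is_comm.comm x y)
  rcases Cfsg.Agent.Lib.H4.OScott.oscott_core H N hN hmin a hT e₀ with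
    ⟨R, hR, hmem⟩ | ⟨k, c, θ, hk, hc, hmem⟩
  · exact ⟨T, instT, m, e₀, hsimple, hTnc, hm, Or.inl ⟨R, hR, hmem⟩⟩
  · refine ⟨T, instT, m, e₀.trans (MulEquiv.piCongrRight θ), hsimple, hTnc, hm,
      Or.inr ⟨k, c, hk, hc, fun n => ?_⟩⟩
    rw [hmem]
    rfl

end Cfsg.Agent.S0723
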