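import Cfsg.Statements.S0724
import Mathlib

set_option autoImplicit false
universe u
open Cfsg

namespace Cfsg.Agent.S0724

open MulAction

/-- Fixed points of `g` on tuples are tuples of fixed points. -/
def fixedByPiEquiv {G : Type*} [Group G] {α : Type*} [MulAction G α] (k : ℕ) (g : G) :
    fixedBy (Fin k → α) g ≃ (Fin k → fixedBy α g) where
  toFun f := fun i => ⟨f.1 i, by
    have := f.2
    rw [mem_fixedBy] at this ⊢
    exact congrFun this i⟩
  invFun f := ⟨fun i => (f i).1, by
    rw [mem_fixedBy]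
    funext i
    exact (f i).2⟩
  left_inv f := by ext; rfl
  right_inv f := by ext; rfl

theorem sum_pow_dvd {G : Type*} [Group G] [Fintype G] {α : Type*} [Fintype α] [DecidableEq α]
    [MulAction G α] (k : ℕ) :
    (Fintype.card G : ℤ) ∣ ∑ g : G, ((Nat.card (fixedBy α g) : ℕ) : ℤ) ^ k := by
  classical
  have hB := sum_card_fixedBy_eq_card_orbits_mul_card_group G (Fin k → α)
  have hcard : ∀ g : G, Fintype.card (fixedBy (Fin k → α) g) = (Nat.card (fixedBy α g)) ^ k := by
    intro g
    rw [Fintype.card_congr (fixedByPiEquiv k g), Fintype.card_fun, Fintype.card_fin,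
      Nat.card_eq_fintype_card]
  simp only [hcard] at hB
  refine ⟨(Fintype.card (orbitRel.Quotient G (Fin k → α)) : ℤ), ?_⟩
  rw [mul_comm]
  exact_mod_cast hB

theorem sum_eval_dvd {G : Type*} [Group G] [Fintype G] {α : Type*} [Fintype α] [DecidableEq α]
    [MulAction G α] (P : Polynomial ℤ) :
    (Fintype.card G : ℤ) ∣ ∑ g : G, P.eval ((Nat.card (fixedBy α g) : ℕ) : ℤ) := by
  simp only [Polynomial.eval_eq_sum_range]
  rw [Finset.sum_comm]
  refine Finset.dvd_sum fun k _ => ?_
  rw [← Finset.mul_sum]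
  exact Dvd.dvd.mul_left (sum_pow_dvd k) _

theorem result {α : Type*} [Fintype α] [DecidableEq α] (G : Subgroup (Equiv.Perm α)) (L : Finset ℕ) (hL : ∀ g ∈ G, g ≠ 1 → Nat.card (MulAction.fixedBy α g) ∈ L) : Nat.card G ∣ ∏ l ∈ L, (Fintype.card α - l) := by
  classical
  by_cases hbig : ∃ l ∈ L, Fintype.card α < l
  · obtain ⟨l, hl, hlt⟩ := hbig
    have : ∏ l ∈ L, (Fintype.card α - l) = 0 := by
      apply Finset.prod_eq_zero hl
      omega
    rw [this]
    exact dvd_zero _
  · push Not at hbig
    set P : Polynomial ℤ := ∏ l ∈ L, (Polynomial.X - Polynomial.C (l : ℤ)) with hP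
    have hdvd := sum_eval_dvd (G := G) (α := α) P
    have hfix : ∀ g : G, g ≠ 1 → P.eval ((Nat.card (fixedBy α g) : ℕ) : ℤ) = 0 := by
      intro g hg
      have hmem := hL g.1 g.2 (fun h => hg (Subtype.ext h))
      rw [hP, Polynomial.eval_prod]
      apply Finset.prod_eq_zero hmem
      have : fixedBy α g = fixedBy α (g : Equiv.Perm α) := rfl
      rw [this]
      simp
    rw [Finset.sum_eq_single (1 : G) (fun g _ hg => hfix g hg) (fun h => absurd (Finset.mem_univ _) h)] at hdvd
    have h1 : Nat.card (fixedBy α (1 : G)) = Fintype.card α := by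
      rw [fixedBy_one_eq_univ, Nat.card_univ, Nat.card_eq_fintype_card]
    rw [h1, hP, Polynomial.eval_prod] at hdvd
    simp only [Polynomial.eval_sub, Polynomial.eval_X, Polynomial.eval_C] at hdvd
    have hprod : (∏ l ∈ L, ((Fintype.card α : ℤ) - (l : ℤ))) = ((∏ l ∈ L, (Fintype.card α - l) : ℕ) : ℤ) := by
      rw [Nat.cast_prod]
      refine Finset.prod_congr rfl fun l hl => ?_
      rw [Nat.cast_sub (hbig l hl)]
    rw [hprod] at hdvd
    rw [Nat.card_eq_fintype_card]
    exact_mod_cast hdvd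

end Cfsg.Agent.S0724
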