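import Cfsg.Statements.S0726
import Mathlib

set_option autoImplicit false
universe u
open Cfsg

namespace Cfsg.Agent.S0726

theorem mem_cent_iff {G : Type*} [Group G] (σ : Equiv.Perm G) :
    σ ∈ Subgroup.centralizer ((MulAction.toPermHom G G).range : Set (Equiv.Perm G)) ↔
      σ ∈ (MulAction.toPermHom Gᵐᵒᵖ G).range := by
  constructor
  · intro h
    refine ⟨MulOpposite.op (σ 1), ?_⟩
    ext x
    have hx := h (MulAction.toPermHom G G x) ⟨x, rfl⟩
    have := congrArg (fun τ : Equiv.Perm G => τ 1) hx
    simp only [Equiv.Perm.coe_mul, Function.comp_apply, MulAction.toPermHom_apply,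
      MulAction.toPerm_apply, smul_eq_mul, mul_one] at this
    simp only [MulAction.toPermHom_apply, MulAction.toPerm_apply, MulOpposite.smul_eq_mul_unop,
      MulOpposite.unop_op]
    exact this
  · rintro ⟨a, rfl⟩
    rintro _ ⟨g, rfl⟩
    ext x
    simp [MulOpposite.smul_eq_mul_unop, mul_assoc]

theorem result {G : Type*} [Group G] : Subgroup.centralizer ((MulAction.toPermHom G G).range : Set (Equiv.Perm G)) = (MulAction.toPermHom Gᵐᵒᵖ G).range ∧ ∀ H : Subgroup (Equiv.Perm G), H ≤ Subgroup.centralizer ((MulAction.toPermHom G G).range : Set (Equiv.Perm G)) → MulAction.IsPretransitive H G → H = (MulAction.toPermHom Gᵐᵒᵖ G).range := by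
  have h1 : Subgroup.centralizer ((MulAction.toPermHom G G).range : Set (Equiv.Perm G)) = (MulAction.toPermHom Gᵐᵒᵖ G).range := by
    ext σ
    exact mem_cent_iff σ
  refine ⟨h1, ?_⟩
  intro H hH htrans
  rw [h1] at hH
  apply le_antisymm hH
  rintro _ ⟨a, rfl⟩
  obtain ⟨h, hh⟩ := htrans.exists_smul_eq (1 : G) (MulOpposite.unop a)
  obtain ⟨b, hb⟩ := hH h.2
  have hval : (h : Equiv.Perm G) 1 = MulOpposite.unop a := hh
  rw [← hb] at hval
  simp only [MulAction.toPermHom_apply, MulAction.toPerm_apply, MulOpposite.smul_eq_mul_unop,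
    one_mul] at hval
  have : b = a := MulOpposite.unop_injective hval
  rw [← this, hb]
  exact h.2

end Cfsg.Agent.S0726
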