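import Cfsg.Statements.S0729
import Mathlib
import Cfsg.Agent.S0728
import Cfsg.Agent.Lib.H4.Idx2.S3TLink

set_option autoImplicit false
open Cfsg

namespace Cfsg.Agent.S0729

open MulAction Cfsg.Agent.Lib.H4.S3T Cfsg.Agent.Lib.H4.Idx2

/-- In a sharply triply transitive group of even degree at least 6, the two-point stabiliser `H = G_{a,b}` has a normal subgroup of index 2 that is normalised by the element `s` interchanging `a, b` and fixing a third point `c`. -/
theorem result {α : Type*} [Fintype α] [DecidableEq α] (heven : Even (Fintype.card α)) (h6 : 6 ≤ Fintype.card α) (G : Subgroup (Equiv.Perm α)) (h3 : MulAction.IsMultiplyPretransitive G α 3) (hsharp : ∀ x : Fin 3 ↪ α, MulAction.stabilizer G x = ⊥) {a b c : α} (hab : a ≠ b) (hac : a ≠ c) (hbc : b ≠ c) (s : G) (hsa : s • a = b) (hsb : s • b = a) (hsc : s • c = c) : ∃ N : Subgroup G, N ≤ MulAction.stabilizer G a ⊓ MulAction.stabilizer G b ∧ (N.subgroupOf (MulAction.stabilizer G a ⊓ MulAction.stabilizer G b)).Normal ∧ N.relIndex (MulAction.stabilizer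 G a ⊓ MulAction.stabilizer G b) = 2 ∧ ∀ n ∈ N, s * n * s⁻¹ ∈ N := by
  classical
  have hS : Sharp3 G α := by
    constructor
    · intro u v w u' v' w' huv huw hvw huv' huw' hvw'
      exact Cfsg.Agent.S0728.exists_of_three h3 huv hvw huw huv' hvw' huw'
    · intro g u v w huv huw hvw h1 h2 h3'
      have : g ∈ MulAction.stabilizer G (Cfsg.Agent.S0728.emb3 u v w huv hvw huw) := by
        rw [MulAction.mem_stabilizer_iff]
        ext i
        fin_cases i
        · exact h1
        · exact h2
        · exact h3'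
      rw [hsharp] at this
      exact Subgroup.mem_bot.mp this
  have hP2 : ∀ a b : α, a ≠ b → ∀ A B : Subgroup G, A ≤ stabilizer G a ⊓ stabilizer G b →
      B ≤ stabilizer G a ⊓ stabilizer G b → Nat.card A = 3 → Nat.card B = 3 → A = B := by
    intro a b hab A B hA hB hA3 hB3
    exact Cfsg.Agent.S0728.result heven h6 G h3 hsharp hab A B hA hB hA3 hB3
  obtain ⟨N₁, hN₁⟩ := exists_index_two_stab hS heven h6 hP2 a b hab
  -- `s` is an involution
  have hss : s * s = 1 := by
    apply hS.s3 _ a b c hab hac hbc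
    · rw [mul_smul, hsa, hsb]
    · rw [mul_smul, hsb, hsa]
    · rw [mul_smul, hsc, hsc]
  have hsinv : s⁻¹ = s := inv_eq_of_mul_eq_one_left hss
  have hsa' : s⁻¹ • a = b := by rw [hsinv]; exact hsa
  have hsb' : s⁻¹ • b = a := by rw [hsinv]; exact hsb
  -- conjugation by `s` on the two-point stabilizer
  have hmem : ∀ k : ↥(stabilizer G a ⊓ stabilizer G b),
      s * (k : G) * s⁻¹ ∈ stabilizer G a ⊓ stabilizer G b := by
    intro k
    have hk := k.2
    rw [Subgroup.mem_inf, mem_stabilizer_iff, mem_stabilizer_iff] at hk ⊢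
    constructor
    · rw [mul_smul, mul_smul, hsa', hk.2, hsb]
    · rw [mul_smul, mul_smul, hsb', hk.1, hsa]
  let τ : ↥(stabilizer G a ⊓ stabilizer G b) ≃* ↥(stabilizer G a ⊓ stabilizer G b) :=
    { toFun := fun k => ⟨s * (k : G) * s⁻¹, hmem k⟩
      invFun := fun k => ⟨s * (k : G) * s⁻¹, hmem k⟩
      left_inv := by
        intro k
        apply Subtype.ext
        show s * (s * (k : G) * s⁻¹) * s⁻¹ = k
        calc s * (s * (k : G) * s⁻¹) * s⁻¹ = (s * s) * k * (s * s)⁻¹ := by group
          _ = k := by rw [hss]; group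
      right_inv := by
        intro k
        apply Subtype.ext
        show s * (s * (k : G) * s⁻¹) * s⁻¹ = k
        calc s * (s * (k : G) * s⁻¹) * s⁻¹ = (s * s) * k * (s * s)⁻¹ := by group
          _ = k := by rw [hss]; group
      map_mul' := by
        intro k k'
        apply Subtype.ext
        show s * ((k : G) * k') * s⁻¹ = (s * k * s⁻¹) * (s * k' * s⁻¹)
        group }
  have hτ : ∀ k, τ (τ k) = k := by
    intro k
    apply Subtype.ext
    show s * (s * (k : G) * s⁻¹) * s⁻¹ = k
    calc s * (s * (k : G) * s⁻¹) * s⁻¹ = (s * s) * k * (s * s)⁻¹ := by group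
      _ = k := by rw [hss]; group
  obtain ⟨N', hN'idx, hN'inv⟩ := exists_invariant_index_two τ hτ N₁ hN₁
  have hsub : (N'.map (stabilizer G a ⊓ stabilizer G b).subtype).subgroupOf
      (stabilizer G a ⊓ stabilizer G b) = N' :=
    Subgroup.comap_map_eq_self_of_injective (Subgroup.subtype_injective _) N'
  refine ⟨N'.map (stabilizer G a ⊓ stabilizer G b).subtype, Subgroup.map_subtype_le N', ?_, ?_, ?_⟩
  · rw [hsub]
    exact Subgroup.normal_of_index_eq_two hN'idx
  · unfold Subgroup.relIndex
    rw [hsub]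
    exact hN'idx
  · rintro _ ⟨n', hn', rfl⟩
    exact ⟨τ n', hN'inv n' hn', rfl⟩

end Cfsg.Agent.S0729
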