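import Cfsg.Statements.S0733
import Mathlib

set_option autoImplicit false
open Cfsg

namespace Cfsg.Agent.S0733

open MulAction
open scoped Pointwise

/-- A permutation group of affine type — generated by the translations of a finite vector space `V` over `ZMod p` together with a group `G₀` of linear automorphisms — is primitive on `V` if and only if `G₀` is irreducible on `V`. -/
theorem result {p : ℕ} [Fact p.Prime] {V : Type*} [AddCommGroup V] [Module (ZMod p) V] [Finite V] [Nontrivial V] (G₀ : Subgroup (V ≃ₗ[ZMod p] V)) (G : Subgroup (Equiv.Perm V)) (hG : ∀ σ : Equiv.Perm V, σ ∈ G ↔ ∃ g ∈ G₀, ∃ b : V, ∀ x : V, σ x = (g : V ≃ₗ[ZMod p] V) x + b) : MulAction.IsPreprimitive G V ↔ ∀ W : Submodule (ZMod p) V, (∀ g ∈ G₀, ∀ v ∈ W, (g : V ≃ₗ[ZMod p] V) v ∈ W) → W = ⊥ ∨ W = ⊤ := by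
  have htrans_mem : ∀ b : V, Equiv.addRight b ∈ G := by
    intro b
    rw [hG]
    exact ⟨1, G₀.one_mem, b, fun x => rfl⟩
  have hlin_mem : ∀ g ∈ G₀, (g : V ≃ₗ[ZMod p] V).toEquiv ∈ G := by
    intro g hg
    rw [hG]
    exact ⟨g, hg, 0, fun x => by simp⟩
  have hsmul : ∀ (σ : G) (x : V), σ • x = (σ : Equiv.Perm V) x := fun σ x => rfl
  constructor
  · intro hprim W hW
    have hB : IsBlock G (W : Set V) := by
      rw [isBlock_iff_smul_eq_of_mem]
      intro σ a ha hσa
      obtain ⟨g, hg, b, hσ⟩ := (hG σ).mp σ.2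
      rw [hsmul, hσ] at hσa
      have hb : b ∈ W := by
        have := W.sub_mem hσa (hW g hg a ha)
        simpa using this
      apply Set.Subset.antisymm
      · rintro _ ⟨w, hw, rfl⟩
        show σ • w ∈ W
        rw [hsmul, hσ]
        exact W.add_mem (hW g hg w hw) hb
      · intro y hy
        refine ⟨(g⁻¹ : V ≃ₗ[ZMod p] V) (y - b), ?_, ?_⟩
        · exact hW g⁻¹ (G₀.inv_mem hg) _ (W.sub_mem hy hb)
        · show σ • _ = y
          rw [hsmul, hσ]
          have : (g : V ≃ₗ[ZMod p] V) ((g⁻¹ : V ≃ₗ[ZMod p] V) (y - b)) = y - b := by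
            show (g * g⁻¹) (y - b) = y - b
            rw [mul_inv_cancel]; rfl
          rw [this]; abel
    rcases hprim.isTrivialBlock_of_isBlock hB with hsub | huniv
    · left
      rw [Submodule.eq_bot_iff]
      intro x hx
      exact hsub hx W.zero_mem
    · right
      rw [Submodule.eq_top_iff']
      intro x
      have : x ∈ (W : Set V) := by rw [huniv]; trivial
      exact this
  · intro hirr
    have hpt : IsPretransitive G V := by
      constructor
      intro x y
      refine ⟨⟨Equiv.addRight (y - x), htrans_mem _⟩, ?_⟩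
      rw [hsmul]
      simp
    refine ⟨fun {B} hB => ?_⟩
    by_contra hcon
    unfold IsTrivialBlock at hcon
    push Not at hcon
    obtain ⟨hns, hnu⟩ := hcon
    obtain ⟨c, hc, d, hd, hcd⟩ := hns
    -- translate
    let τ : G := ⟨Equiv.addRight (-c), htrans_mem _⟩
    have hB' : IsBlock G (τ • B) := hB.translate τ
    set B' : Set V := τ • B with hB'def
    have hmemB' : ∀ x : V, x ∈ B' ↔ x + c ∈ B := by
      intro x
      rw [hB'def, Set.mem_smul_set_iff_inv_smul_mem]
      have : τ⁻¹ • x = x + c := by
        rw [inv_smul_eq_iff, hsmul]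
        simp [τ]
      rw [this]
    have h0 : (0 : V) ∈ B' := by rw [hmemB', zero_add]; exact hc
    -- closed under addition
    have hadd : ∀ u ∈ B', ∀ x : V, x ∈ B' ↔ x + u ∈ B' := by
      intro u hu x
      let τu : G := ⟨Equiv.addRight u, htrans_mem _⟩
      have h1 : τu • (0 : V) ∈ B' := by
        rw [hsmul]; simpa [τu] using hu
      have h2 : τu • B' = B' := (isBlock_iff_smul_eq_of_mem.mp hB') h0 h1
      constructor
      · intro hx
        rw [← h2]
        exact ⟨x, hx, rfl⟩
      · intro hx
        rw [← h2] at hx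
        obtain ⟨y, hy, hyx⟩ := hx
        have : y = x := by
          have h3 : y + u = x + u := hyx
          exact add_right_cancel h3
        rw [← this]; exact hy
    let S : AddSubgroup V :=
      { carrier := B'
        zero_mem' := h0
        add_mem' := by
          intro x y hx hy
          exact (hadd y hy x).mp hx
        neg_mem' := by
          intro x hx
          show -x ∈ B'
          rw [hadd x hx (-x), neg_add_cancel]
          exact h0 }
    let W : Submodule (ZMod p) V :=
      { S with smul_mem' := fun c _ h ↦ ZMod.smul_mem (K := S) h c }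
    have hWmem : ∀ x : V, x ∈ W ↔ x ∈ B' := fun x => Iff.rfl
    have hWinv : ∀ g ∈ G₀, ∀ v ∈ W, (g : V ≃ₗ[ZMod p] V) v ∈ W := by
      intro g hg v hv
      let γ : G := ⟨(g : V ≃ₗ[ZMod p] V).toEquiv, hlin_mem g hg⟩
      have h1 : γ • (0 : V) ∈ B' := by
        have : γ • (0 : V) = 0 := by
          show (g : V ≃ₗ[ZMod p] V) 0 = 0
          simp
        rw [this]; exact h0
      have h2 : γ • B' = B' := (isBlock_iff_smul_eq_of_mem.mp hB') h0 h1
      rw [hWmem] at hv ⊢
      rw [← h2]
      exact ⟨v, hv, rfl⟩
    rcases hirr W hWinv with hbot | htop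
    · -- B' = {0}
      have h1 : c - c ∈ W := by rw [sub_self]; exact W.zero_mem
      have h2 : d - c ∈ W := by rw [hWmem, hmemB']; simpa using hd
      rw [hbot, Submodule.mem_bot] at h2
      exact hcd (sub_eq_zero.mp h2).symm
    · apply hnu
      rw [Set.eq_univ_iff_forall]
      intro x
      have : x - c ∈ W := by rw [htop]; trivial
      rw [hWmem, hmemB'] at this
      simpa using this

end Cfsg.Agent.S0733
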