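import Cfsg.Statements.S0734
import Mathlib

set_option autoImplicit false
open Cfsg

namespace Cfsg.Agent.S0734

open MulAction
open scoped Pointwise

section
variable {G : Type*} [Group G] {Ω : Type*} [MulAction G Ω]

/-- the orbital graph -/
abbrev orb (a b : Ω) : SimpleGraph Ω :=
  SimpleGraph.fromRel fun x y : Ω => ∃ g : G, g • a = x ∧ g • b = y

theorem adj_smul (a b : Ω) (g : G) {x y : Ω} (h : (orb (G := G) a b).Adj x y) :
    (orb (G := G) a b).Adj (g • x) (g • y) := by
  rw [SimpleGraph.fromRel_adj] at h ⊢
  obtain ⟨hne, h⟩ := h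
  refine ⟨fun hcon => hne (smul_left_cancel g hcon), ?_⟩
  rcases h with ⟨k, hk1, hk2⟩ | ⟨k, hk1, hk2⟩
  · left; exact ⟨g * k, by rw [mul_smul, hk1], by rw [mul_smul, hk2]⟩
  · right; exact ⟨g * k, by rw [mul_smul, hk1], by rw [mul_smul, hk2]⟩

theorem reach_smul (a b : Ω) (g : G) {x y : Ω} (h : (orb (G := G) a b).Reachable x y) :
    (orb (G := G) a b).Reachable (g • x) (g • y) := by
  rw [SimpleGraph.reachable_iff_reflTransGen] at h ⊢
  exact Relation.ReflTransGen.lift (fun x => g • x) (fun x y hxy => adj_smul a b g hxy) _ _ h

theorem reach_smul_iff (a b : Ω) (g : G) {x y : Ω} :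
    (orb (G := G) a b).Reachable (g • x) (g • y) ↔ (orb (G := G) a b).Reachable x y := by
  constructor
  · intro h
    have := reach_smul a b g⁻¹ h
    simpa using this
  · exact reach_smul a b g

end

/-- Higman's criterion for primitivity: a transitive action on a finite set is primitive if and only if every non-trivial orbital graph (edges = images of a fixed pair of distinct points) is connected. -/
theorem result {G : Type*} [Group G] {Ω : Type*} [Finite Ω] [MulAction G Ω] [MulAction.IsPretransitive G Ω] [Nontrivial Ω] : MulAction.IsPreprimitive G Ω ↔ ∀ a b : Ω, a ≠ b → (SimpleGraph.fromRel fun x y : Ω => ∃ g : G, g • a = x ∧ g • b = y).Connected := by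
  constructor
  · intro hprim a b hab
    let B : Set Ω := {x | (orb (G := G) a b).Reachable a x}
    have hB : IsBlock G B := by
      rw [isBlock_iff_smul_eq_of_mem]
      intro g x hx hgx
      -- a ~ x, a ~ g x, so g a ~ g x ~ a
      have h1 : (orb (G := G) a b).Reachable (g • a) (g • x) := reach_smul a b g hx
      have h2 : (orb (G := G) a b).Reachable a (g • a) := hgx.trans h1.symm
      ext y
      rw [Set.mem_smul_set_iff_inv_smul_mem]
      show (orb (G := G) a b).Reachable a (g⁻¹ • y) ↔ (orb (G := G) a b).Reachable a y
      rw [← reach_smul_iff a b g, smul_inv_smul]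
      constructor
      · intro h; exact h2.trans h
      · intro h; exact h2.symm.trans h
    have hadj : (orb (G := G) a b).Adj a b := by
      rw [SimpleGraph.fromRel_adj]
      exact ⟨hab, Or.inl ⟨1, one_smul _ _, one_smul _ _⟩⟩
    rcases hprim.isTrivialBlock_of_isBlock hB with hsub | huniv
    · exfalso
      have ha : a ∈ B := SimpleGraph.Reachable.refl _
      have hb : b ∈ B := hadj.reachable
      exact hab (hsub ha hb)
    · have hpre : (orb (G := G) a b).Preconnected := by
        intro x y
        have hx : x ∈ B := by rw [huniv]; trivial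
        have hy : y ∈ B := by rw [huniv]; trivial
        exact (SimpleGraph.Reachable.symm hx).trans hy
      exact ⟨hpre⟩
  · intro hconn
    refine ⟨fun {B} hB => ?_⟩
    by_contra hcon
    unfold IsTrivialBlock at hcon
    push Not at hcon
    obtain ⟨hns, hnu⟩ := hcon
    obtain ⟨a, ha, b, hb, hab⟩ := hns
    apply hnu
    have hc := hconn a b hab
    have hclosed : ∀ x y : Ω, (orb (G := G) a b).Adj x y → x ∈ B → y ∈ B := by
      intro x y hxy hx
      rw [SimpleGraph.fromRel_adj] at hxy
      obtain ⟨_, h | h⟩ := hxy
      · obtain ⟨g, hg1, hg2⟩ := h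
        have : g • B = B := by
          apply (isBlock_iff_smul_eq_of_mem.mp hB) ha
          rw [hg1]; exact hx
        rw [← this, ← hg2]
        exact Set.smul_mem_smul_set hb
      · obtain ⟨g, hg1, hg2⟩ := h
        have : g • B = B := by
          apply (isBlock_iff_smul_eq_of_mem.mp hB) hb
          rw [hg2]; exact hx
        rw [← this, ← hg1]
        exact Set.smul_mem_smul_set ha
    rw [Set.eq_univ_iff_forall]
    intro y
    have hr : (orb (G := G) a b).Reachable a y := hc.preconnected a y
    rw [SimpleGraph.reachable_iff_reflTransGen] at hr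
    induction hr with
    | refl => exact ha
    | tail _ hxy ih => exact hclosed _ _ hxy ih

end Cfsg.Agent.S0734
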