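import Cfsg.Statements.S0735
import Mathlib

set_option autoImplicit false
universe u
open Cfsg

namespace Cfsg.Agent.S0735

open MulAction
open scoped Pointwise

/-- In a 2-homogeneous action, any pair can be moved to any pair (as unordered pairs). -/
theorem pair_move {α : Type*} [Fintype α] [DecidableEq α] (G : Subgroup (Equiv.Perm α))
    (h2 : MulAction.IsPretransitive G (Set.powersetCard α 2)) {a b x y : α} (hab : a ≠ b)
    (hxy : x ≠ y) : ∃ g : G, (g • a = x ∧ g • b = y) ∨ (g • a = y ∧ g • b = x) := by
  let P : Set.powersetCard α 2 := ⟨{a, b}, by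
    rw [Set.powersetCard.mem_iff]; exact Finset.card_pair hab⟩
  let Q : Set.powersetCard α 2 := ⟨{x, y}, by
    rw [Set.powersetCard.mem_iff]; exact Finset.card_pair hxy⟩
  obtain ⟨g, hg⟩ := h2.exists_smul_eq P Q
  refine ⟨g, ?_⟩
  have h := congrArg (fun s : Set.powersetCard α 2 => (s : Finset α)) hg
  simp only [Set.powersetCard.coe_smul, P, Q] at h
  have h1 : g • a ∈ ({x, y} : Finset α) := by
    rw [← h]; exact Finset.smul_mem_smul_finset (by simp)
  have h2' : g • b ∈ ({x, y} : Finset α) := by
    rw [← h]; exact Finset.smul_mem_smul_finset (by simp)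
  have hne : g • a ≠ g • b := fun hh => hab (MulAction.injective g hh)
  simp only [Finset.mem_insert, Finset.mem_singleton] at h1 h2'
  rcases h1 with h1 | h1 <;> rcases h2' with h2' | h2'
  · exact absurd (h1.trans h2'.symm) hne
  · left; exact ⟨h1, h2'⟩
  · right; exact ⟨h1, h2'⟩
  · exact absurd (h1.trans h2'.symm) hne

theorem result {α : Type*} [Fintype α] [DecidableEq α] (G : Subgroup (Equiv.Perm α)) (h2 : MulAction.IsPretransitive G (Set.powersetCard α 2)) (hα : 3 ≤ Fintype.card α) : (Even (Nat.card G) → MulAction.IsMultiplyPretransitive G α 2) ∧ (G ≠ ⊥ → MulAction.IsPreprimitive G α) := by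
  constructor
  · intro heven
    -- an involution in G
    have h2dvd : 2 ∣ Nat.card G := even_iff_two_dvd.mp heven
    haveI : Fact (Nat.Prime 2) := ⟨Nat.prime_two⟩
    obtain ⟨t, ht⟩ := exists_prime_orderOf_dvd_card' 2 h2dvd
    have ht1 : t ≠ 1 := by
      intro h; rw [h, orderOf_one] at ht; norm_num at ht
    have ht2 : t * t = 1 := by
      have := pow_orderOf_eq_one t
      rw [ht, sq] at this; exact this
    obtain ⟨a, ha⟩ : ∃ a : α, t • a ≠ a := by
      by_contra hcon
      push Not at hcon
      apply ht1
      apply Subtype.ext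
      ext x
      exact hcon x
    set b := t • a with hb
    have htb : t • b = a := by
      rw [hb, ← mul_smul, ht2, one_smul]
    rw [is_two_pretransitive_iff]
    have key : ∀ {x y : α}, x ≠ y → ∃ g : G, g • a = x ∧ g • b = y := by
      intro x y hxy
      obtain ⟨g, hg | hg⟩ := pair_move G h2 (Ne.symm ha) hxy
      · exact ⟨g, hg⟩
      · refine ⟨g * t, ?_, ?_⟩
        · rw [mul_smul, ← hb]; exact hg.2
        · rw [mul_smul, htb]; exact hg.1
    intro x y x' y' hxy hxy'
    obtain ⟨g1, hg1a, hg1b⟩ := key hxy
    obtain ⟨g2, hg2a, hg2b⟩ := key hxy'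
    refine ⟨g2 * g1⁻¹, ?_, ?_⟩
    · rw [mul_smul, ← hg1a, inv_smul_smul, hg2a]
    · rw [mul_smul, ← hg1b, inv_smul_smul, hg2b]
  · intro _
    -- existence of a third point
    have third : ∀ x y : α, ∃ z : α, z ≠ x ∧ z ≠ y := by
      intro x y
      by_contra hcon
      push Not at hcon
      have : (Finset.univ : Finset α) ⊆ {x, y} := by
        intro z _
        by_cases hz : z = x
        · simp [hz]
        · simp [hcon z hz]
      have := Finset.card_le_card this
      rw [Finset.card_univ] at this
      have h3 : ({x, y} : Finset α).card ≤ 2 := Finset.card_le_two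
      omega
    have htrans : IsPretransitive G α := by
      constructor
      intro x y
      by_cases hxy : x = y
      · exact ⟨1, by rw [one_smul, hxy]⟩
      · obtain ⟨z, hzx, hzy⟩ := third x y
        obtain ⟨g, hg | hg⟩ := pair_move G h2 (Ne.symm hzx) (Ne.symm hzy)
        · exact ⟨g, hg.1⟩
        · refine ⟨g * g, ?_⟩
          rw [mul_smul, hg.1, hg.2]
    refine { toIsPretransitive := htrans, isTrivialBlock_of_isBlock := ?_ }
    intro B hB
    by_cases hsub : B.Subsingleton
    · left; exact hsub
    · right
      rw [Set.not_subsingleton_iff] at hsub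
      obtain ⟨x, hx, y, hy, hxy⟩ := hsub
      rw [Set.eq_univ_iff_forall]
      intro z
      by_contra hz
      have hxz : x ≠ z := fun h => hz (h ▸ hx)
      obtain ⟨g, hg | hg⟩ := pair_move G h2 hxy hxz
      · have := hB.smul_eq_of_mem hx (by rw [hg.1]; exact hx)
        apply hz
        rw [← this, ← hg.2]
        exact Set.smul_mem_smul_set hy
      · have := hB.smul_eq_of_mem hy (by rw [hg.2]; exact hx)
        apply hz
        rw [← this, ← hg.1]
        exact Set.smul_mem_smul_set hx

end Cfsg.Agent.S0735
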