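import Cfsg.Statements.S0736
import Mathlib

set_option autoImplicit false
open Cfsg
open scoped Pointwise

namespace Cfsg.Agent.S0736

/-- Lucas: `p ∤ C(p^a k' + p^a - 1, p^a - 1)`. -/
theorem not_dvd_choose_aux (p : ℕ) [hp : Fact p.Prime] (a k' : ℕ) :
    ¬ p ∣ Nat.choose (p ^ a * k' + (p ^ a - 1)) (p ^ a - 1) := by
  induction a with
  | zero => simp [hp.out.one_lt.ne']
  | succ a ih =>
    have hp1 : 1 ≤ p := hp.out.one_le
    have hpa : 1 ≤ p ^ a := Nat.one_le_pow _ _ hp.out.pos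
    have h2 : p ^ (a + 1) - 1 = p * (p ^ a - 1) + (p - 1) := by
      rw [pow_succ, Nat.mul_sub, mul_one, mul_comm p (p ^ a)]
      have : p ≤ p ^ a * p := by nlinarith
      omega
    have h1 : p ^ (a + 1) * k' + (p * (p ^ a - 1) + (p - 1)) =
        p * (p ^ a * k' + (p ^ a - 1)) + (p - 1) := by
      rw [pow_succ]
      ring
    have hlt : p - 1 < p := by omega
    have h3 := Choose.choose_modEq_choose_mod_mul_choose_div_nat (p := p)
      (n := p * (p ^ a * k' + (p ^ a - 1)) + (p - 1)) (k := p * (p ^ a - 1) + (p - 1))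
    rw [Nat.mul_add_mod, Nat.mul_add_mod, Nat.mod_eq_of_lt hlt, Nat.choose_self, one_mul,
      Nat.mul_add_div hp.out.pos, Nat.mul_add_div hp.out.pos, Nat.div_eq_of_lt hlt, add_zero,
      add_zero] at h3
    intro hdvd
    apply ih
    rw [h2, h1] at hdvd
    exact (Nat.modEq_zero_iff_dvd.mp ((h3.symm.trans (Nat.modEq_zero_iff_dvd.mpr hdvd))))

theorem coprime_choose {p a k : ℕ} (hp : p.Prime) (hk : p ^ a ∣ k) :
    Nat.Coprime (p ^ a) (Nat.choose (k + p ^ a - 1) k) := by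
  haveI : Fact p.Prime := ⟨hp⟩
  obtain ⟨k', rfl⟩ := hk
  apply Nat.Coprime.pow_left
  rw [Nat.Prime.coprime_iff_not_dvd hp]
  have hpa : 1 ≤ p ^ a := Nat.one_le_pow _ _ hp.pos
  have : p ^ a * k' + p ^ a - 1 = p ^ a * k' + (p ^ a - 1) := by omega
  rw [this, Nat.choose_symm_add]
  exact not_dvd_choose_aux p a k'


section Core

variable {α : Type*} [Fintype α] [DecidableEq α] (G : Subgroup (Equiv.Perm α))

open Classical in
/-- The `j`-subsets of `S` lying in the `G`-orbit of `Δ₀`. -/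
noncomputable def sub (Δ₀ : Finset α) (j : ℕ) (S : Finset α) : Finset (Finset α) :=
  (S.powersetCard j).filter (fun Δ => ∃ g : G, g • Δ₀ = Δ)

theorem mem_sub {Δ₀ : Finset α} {j : ℕ} {S Δ : Finset α} :
    Δ ∈ sub G Δ₀ j S ↔ Δ ⊆ S ∧ Δ.card = j ∧ ∃ g : G, g • Δ₀ = Δ := by
  classical
  rw [sub, Finset.mem_filter, Finset.mem_powersetCard, and_assoc]

theorem card_sub_smul (Δ₀ : Finset α) (j : ℕ) (g : G) (S : Finset α) :
    (sub G Δ₀ j (g • S)).card = (sub G Δ₀ j S).card := by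
  symm
  refine Finset.card_bij (fun Δ _ => g • Δ) ?_ ?_ ?_
  · intro Δ hΔ
    rw [mem_sub] at hΔ ⊢
    obtain ⟨h1, h2, h, hh⟩ := hΔ
    refine ⟨Finset.smul_finset_subset_smul_finset h1, by rw [Finset.card_smul_finset, h2], g * h, ?_⟩
    rw [mul_smul, hh]
  · intro Δ _ Δ' _ h
    exact MulAction.injective g h
  · intro Δ' hΔ'
    rw [mem_sub] at hΔ'
    obtain ⟨h1, h2, h, hh⟩ := hΔ'
    refine ⟨g⁻¹ • Δ', ?_, smul_inv_smul g Δ'⟩
    rw [mem_sub]
    refine ⟨?_, by rw [Finset.card_smul_finset, h2], g⁻¹ * h, by rw [mul_smul, hh]⟩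
    have := Finset.smul_finset_subset_smul_finset (a := g⁻¹) h1
    rwa [inv_smul_smul] at this

theorem double_count (Δ₀ : Finset α) (k q : ℕ) (hk : 1 ≤ k) (hq : 1 ≤ q) (S : Finset α)
    (hS : S.card = k + q - 1) (c : ℕ)
    (hc : ∀ Γ : Finset α, Γ.card = k → (sub G Δ₀ (k - 1) Γ).card = c) :
    (sub G Δ₀ (k - 1) S).card * q = Nat.choose (k + q - 1) k * c := by
  classical
  have h := Finset.sum_card_bipartiteAbove_eq_sum_card_bipartiteBelow
    (s := sub G Δ₀ (k - 1) S) (t := S.powersetCard k) (r := fun Δ Γ => Δ ⊆ Γ)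
  have h1 : ∀ Δ ∈ sub G Δ₀ (k - 1) S,
      ((S.powersetCard k).bipartiteAbove (fun Δ Γ => Δ ⊆ Γ) Δ).card = q := by
    intro Δ hΔ
    rw [mem_sub] at hΔ
    obtain ⟨hΔS, hΔc, -⟩ := hΔ
    have hcard : (S \ Δ).card = q := by
      rw [Finset.card_sdiff_of_subset hΔS, hS, hΔc]
      omega
    rw [← hcard]
    symm
    refine Finset.card_bij (fun x _ => insert x Δ) ?_ ?_ ?_
    · intro x hx
      rw [Finset.mem_sdiff] at hx
      rw [Finset.bipartiteAbove, Finset.mem_filter, Finset.mem_powersetCard]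
      refine ⟨⟨Finset.insert_subset hx.1 hΔS, ?_⟩, Finset.subset_insert _ _⟩
      rw [Finset.card_insert_of_notMem hx.2, hΔc]
      omega
    · intro x hx y hy hxy
      rw [Finset.mem_sdiff] at hx hy
      have : x ∈ insert y Δ := by rw [← hxy]; exact Finset.mem_insert_self _ _
      rcases Finset.mem_insert.mp this with h | h
      · exact h
      · exact absurd h hx.2
    · intro Γ hΓ
      rw [Finset.bipartiteAbove, Finset.mem_filter, Finset.mem_powersetCard] at hΓ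
      obtain ⟨⟨hΓS, hΓc⟩, hΔΓ⟩ := hΓ
      have hdiff : (Γ \ Δ).card = 1 := by
        rw [Finset.card_sdiff_of_subset hΔΓ, hΓc, hΔc]
        omega
      obtain ⟨x, hx⟩ := Finset.card_eq_one.mp hdiff
      have hxm : x ∈ Γ \ Δ := by rw [hx]; exact Finset.mem_singleton_self _
      rw [Finset.mem_sdiff] at hxm
      refine ⟨x, Finset.mem_sdiff.mpr ⟨hΓS hxm.1, hxm.2⟩, ?_⟩
      rw [← Finset.sdiff_union_of_subset hΔΓ, hx, Finset.insert_eq]
  have h2 : ∀ Γ ∈ S.powersetCard k,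
      ((sub G Δ₀ (k - 1) S).bipartiteBelow (fun Δ Γ => Δ ⊆ Γ) Γ).card = c := by
    intro Γ hΓ
    rw [Finset.mem_powersetCard] at hΓ
    rw [← hc Γ hΓ.2]
    congr 1
    ext Δ
    rw [Finset.bipartiteBelow, Finset.mem_filter, mem_sub, mem_sub]
    constructor
    · rintro ⟨⟨_, h2, h3⟩, h4⟩
      exact ⟨h4, h2, h3⟩
    · rintro ⟨h1, h2, h3⟩
      exact ⟨⟨h1.trans hΓ.1, h2, h3⟩, h1⟩
  rw [Finset.sum_congr rfl h1, Finset.sum_congr rfl h2, Finset.sum_const, Finset.sum_const,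
    Finset.card_powersetCard, hS, smul_eq_mul, smul_eq_mul] at h
  exact h

end Core


theorem core {α : Type*} [Fintype α] [DecidableEq α] (G : Subgroup (Equiv.Perm α)) {k : ℕ}
    (hk : 2 ≤ k)
    (hG : ∀ Γ Γ' : Finset α, Γ.card = k → Γ'.card = k → ∃ g : G, g • Γ = Γ')
    (hq : ∀ q : ℕ, IsPrimePow q → q ∣ k → k + q - 1 ≤ Fintype.card α)
    (Δ₀ Δ : Finset α) (hΔ₀ : Δ₀.card = k - 1) (hΔ : Δ.card = k - 1) : ∃ g : G, g • Δ₀ = Δ := by
  classical
  -- the degree exceeds `k`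
  have hn : k + 1 ≤ Fintype.card α := by
    obtain ⟨p, hp, hpk⟩ := Nat.exists_prime_and_dvd (show k ≠ 1 by omega)
    have := hq p hp.isPrimePow hpk
    have := hp.two_le
    omega
  -- a `k`-set containing `Δ₀`
  obtain ⟨Γ₀, hΔΓ₀, hΓ₀⟩ := Finset.exists_superset_card_eq (s := Δ₀) (n := k) (by omega) (by omega)
  obtain ⟨c, hcdef⟩ : ∃ c, c = (sub G Δ₀ (k - 1) Γ₀).card := ⟨_, rfl⟩
  have hc : ∀ Γ : Finset α, Γ.card = k → (sub G Δ₀ (k - 1) Γ).card = c := by
    intro Γ hΓ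
    obtain ⟨g, rfl⟩ := hG Γ₀ Γ hΓ₀ hΓ
    rw [card_sub_smul, hcdef]
  have hc1 : 1 ≤ c := by
    rw [hcdef]
    apply Finset.card_pos.mpr
    exact ⟨Δ₀, (mem_sub G).mpr ⟨hΔΓ₀, hΔ₀, 1, one_smul _ _⟩⟩
  have hck : c ≤ k := by
    rw [hcdef]
    have : sub G Δ₀ (k - 1) Γ₀ ⊆ Γ₀.powersetCard (k - 1) := by
      intro Δ' hΔ'
      rw [mem_sub] at hΔ'
      exact Finset.mem_powersetCard.mpr ⟨hΔ'.1, hΔ'.2.1⟩
    have h1 := Finset.card_le_card this
    rw [Finset.card_powersetCard, hΓ₀] at h1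
    have h2 : k.choose (k - 1) = k := by
      rw [Nat.choose_symm (by omega), Nat.choose_one_right]
    rwa [h2] at h1
  -- each prime power dividing `k` divides `c`
  have hdvd : k ∣ c := by
    rw [Nat.dvd_iff_prime_pow_dvd_dvd]
    intro p a hp hpa
    rcases Nat.eq_zero_or_pos a with ha | ha
    · subst ha; simp
    have hpp : IsPrimePow (p ^ a) := hp.isPrimePow.pow ha.ne'
    have hle := hq (p ^ a) hpp hpa
    have hpa1 : 1 ≤ p ^ a := Nat.one_le_pow _ _ hp.pos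
    obtain ⟨S, -, hS⟩ := Finset.exists_superset_card_eq (s := Γ₀) (n := k + p ^ a - 1)
      (by omega) hle
    have hdc := double_count G Δ₀ k (p ^ a) (by omega) hpa1 S hS c hc
    have h1 : p ^ a ∣ Nat.choose (k + p ^ a - 1) k * c := ⟨_, by rw [← hdc, mul_comm]⟩
    exact (coprime_choose hp hpa).dvd_of_dvd_mul_left h1
  have hceq : c = k := le_antisymm hck (Nat.le_of_dvd (by omega) hdvd)
  -- every `(k-1)`-subset of a `k`-set lies in the orbit
  obtain ⟨Γ, hΔΓ, hΓ⟩ := Finset.exists_superset_card_eq (s := Δ) (n := k) (by omega) (by omega)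
  have hsub : sub G Δ₀ (k - 1) Γ = Γ.powersetCard (k - 1) := by
    apply Finset.eq_of_subset_of_card_le
    · intro Δ' hΔ'
      rw [mem_sub] at hΔ'
      exact Finset.mem_powersetCard.mpr ⟨hΔ'.1, hΔ'.2.1⟩
    · rw [hc Γ hΓ, hceq, Finset.card_powersetCard, hΓ, Nat.choose_symm (by omega),
        Nat.choose_one_right]
  have hmem : Δ ∈ sub G Δ₀ (k - 1) Γ := by
    rw [hsub]; exact Finset.mem_powersetCard.mpr ⟨hΔΓ, hΔ⟩
  exact ((mem_sub G).mp hmem).2.2

/-- A `k`-homogeneous permutation group of degree `n`, `k ≥ 2`, with `k + q - 1 ≤ n` for every prime power `q` dividing `k`, is `(k-1)`-homogeneous. -/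
theorem result {α : Type*} [Fintype α] [DecidableEq α] (G : Subgroup (Equiv.Perm α)) {k : ℕ} (hk : 2 ≤ k) (hG : MulAction.IsPretransitive G (Set.powersetCard α k)) (hq : ∀ q : ℕ, IsPrimePow q → q ∣ k → k + q - 1 ≤ Fintype.card α) : MulAction.IsPretransitive G (Set.powersetCard α (k - 1)) := by
  refine ⟨fun Δ₀ Δ => ?_⟩
  have hG' : ∀ Γ Γ' : Finset α, Γ.card = k → Γ'.card = k → ∃ g : G, g • Γ = Γ' := by
    intro Γ Γ' hΓ hΓ'
    obtain ⟨g, hg⟩ := hG.exists_smul_eq (⟨Γ, hΓ⟩ : Set.powersetCard α k) ⟨Γ', hΓ'⟩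
    refine ⟨g, ?_⟩
    have := congrArg (fun s : Set.powersetCard α k => (s : Finset α)) hg
    exact this
  obtain ⟨g, hg⟩ := core G hk hG' hq (Δ₀ : Finset α) (Δ : Finset α) Δ₀.2 Δ.2
  refine ⟨g, ?_⟩
  apply Subtype.ext
  exact hg

end Cfsg.Agent.S0736
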