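import Cfsg.Statements.S0743
import Cfsg.Agent.Lib.H4.StabTrans

set_option autoImplicit false
universe u
open Cfsg

namespace Cfsg.Agent.S0743

open MulAction SubMulAction

theorem gleason_one {G α : Type*} [Group G] [MulAction G α] [Finite α] {p : ℕ} [hp : Fact p.Prime]
    (h : ∀ a : α, ∃ P : Subgroup G, IsPGroup p P ∧ fixedPoints P α = {a}) :
    IsPretransitive G α := by
  constructor
  intro a b
  by_contra hcon
  have hba : a ∉ orbit G b := by
    intro hab
    apply hcon
    rw [orbit_eq_iff.symm] at hab
    have : b ∈ orbit G a := by rw [hab]; exact mem_orbit_self b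
    exact this
  obtain ⟨Pa, hPa, hfa⟩ := h a
  obtain ⟨Pb, hPb, hfb⟩ := h b
  have h0 : Nat.card (orbit G b) ≡ Nat.card (fixedPoints Pa (orbit G b)) [MOD p] :=
    hPa.card_modEq_card_fixedPoints (orbit G b)
  have h1 : Nat.card (orbit G b) ≡ Nat.card (fixedPoints Pb (orbit G b)) [MOD p] :=
    hPb.card_modEq_card_fixedPoints (orbit G b)
  have hca : Nat.card (fixedPoints Pa (orbit G b)) = 0 := by
    have : IsEmpty (fixedPoints Pa (orbit G b)) := by
      constructor
      rintro ⟨⟨x, hx⟩, hfx⟩
      have hxa : x ∈ fixedPoints Pa α := by
        intro g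
        have := hfx g
        exact congrArg Subtype.val this
      rw [hfa, Set.mem_singleton_iff] at hxa
      exact hba (hxa ▸ hx)
    exact Nat.card_of_isEmpty
  have hcb : Nat.card (fixedPoints Pb (orbit G b)) = 1 := by
    rw [Nat.card_eq_one_iff_unique]
    refine ⟨⟨?_⟩, ⟨⟨⟨b, mem_orbit_self b⟩, ?_⟩⟩⟩
    · rintro ⟨⟨x, hx⟩, hfx⟩ ⟨⟨y, hy⟩, hfy⟩
      have hxb : x ∈ fixedPoints Pb α := fun g => congrArg Subtype.val (hfx g)
      have hyb : y ∈ fixedPoints Pb α := fun g => congrArg Subtype.val (hfy g)
      rw [hfb, Set.mem_singleton_iff] at hxb hyb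
      subst hxb hyb
      rfl
    · intro g
      apply Subtype.ext
      have : b ∈ fixedPoints Pb α := by rw [hfb]; rfl
      exact this g
  rw [hca] at h0
  rw [hcb] at h1
  have := h0.symm.trans h1
  have h2 := (Nat.modEq_iff_dvd' (by norm_num)).mp this
  have := Nat.le_of_dvd (by norm_num) h2
  have := hp.out.two_le
  omega

theorem gleason {p : ℕ} [hp : Fact p.Prime] (k : ℕ) :
    ∀ {G α : Type u} [Group G] [MulAction G α] [Finite α], 1 ≤ k → k < Nat.card α →
    (∀ s : Set α, s.ncard = k → ∃ P : Subgroup G, IsPGroup p P ∧ fixedPoints P α = s) →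
    IsMultiplyPretransitive G α k := by
  induction k with
  | zero => intro G α _ _ _ h; omega
  | succ k ih =>
    intro G α _ _ _ _ hkn h
    by_cases hk0 : k = 0
    · subst hk0
      rw [is_one_pretransitive_iff]
      apply gleason_one (p := p)
      intro a
      exact h {a} (Set.ncard_singleton a)
    · have hk1 : 1 ≤ k := by omega
      -- hypothesis for stabilizers
      have hstab : ∀ a : α, IsMultiplyPretransitive (stabilizer G a) (ofStabilizer G a) k := by
        intro a
        have hcard : Nat.card (ofStabilizer G a) + 1 = Nat.card α :=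
          nat_card_ofStabilizer_add_one_eq (G := G) a
        apply ih hk1 (by omega)
        intro t ht
        have ha' : a ∉ Subtype.val '' t := notMem_val_image (G := G) t
        have hs : (insert a (Subtype.val '' t) : Set α).ncard = k + 1 := by
          rw [Set.ncard_insert_of_notMem ha', Set.ncard_image_of_injective t Subtype.val_injective, ht]
        obtain ⟨P, hP, hfP⟩ := h _ hs
        have hPle : P ≤ stabilizer G a := by
          intro g hg
          have : a ∈ fixedPoints P α := by rw [hfP]; exact Set.mem_insert _ _
          exact this ⟨g, hg⟩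
        refine ⟨P.subgroupOf (stabilizer G a), ?_, ?_⟩
        · exact hP.comap_subtype
        · ext x
          constructor
          · intro hx
            have hx' : (x : α) ∈ fixedPoints P α := by
              intro g
              have := hx ⟨⟨g.1, hPle g.2⟩, by simp [Subgroup.mem_subgroupOf]⟩
              exact congrArg Subtype.val this
            rw [hfP] at hx'
            rcases hx' with hx' | hx'
            · exact absurd hx' x.2
            · obtain ⟨y, hy, hyx⟩ := hx'
              have : y = x := Subtype.ext hyx
              rw [← this]; exact hy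
          · intro hx g
            apply Subtype.ext
            have hx' : (x : α) ∈ fixedPoints P α := by
              rw [hfP]; exact Set.mem_insert_of_mem _ ⟨x, hx, rfl⟩
            have hg : (g : stabilizer G a).1 ∈ P := by
              have := g.2
              rwa [Subgroup.mem_subgroupOf] at this
            exact hx' ⟨g.1.1, hg⟩
      have htrans : IsPretransitive G α := by
        apply Cfsg.Agent.Lib.H4.isPretransitive_of_stabilizers (by omega)
        intro c
        have := hstab c
        rw [← is_one_pretransitive_iff]
        have hcard : Nat.card (ofStabilizer G c) + 1 = Nat.card α :=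
          nat_card_ofStabilizer_add_one_eq (G := G) c
        exact isMultiplyPretransitive_of_le (n := k) hk1 (by omega)
      obtain ⟨a⟩ : Nonempty α := by
        have : Nat.card α ≠ 0 := by omega
        exact (Nat.card_ne_zero.mp this).1
      exact (ofStabilizer.isMultiplyPretransitive (G := G) (a := a)).mpr (hstab a)

theorem result {α : Type*} [Fintype α] [DecidableEq α] (G : Subgroup (Equiv.Perm α)) {p k : ℕ} (hp : p.Prime) (hk : 1 ≤ k) (hkn : k < Fintype.card α) (h : ∀ s : Finset α, s.card = k → ∃ P : Subgroup G, IsPGroup p P ∧ MulAction.fixedPoints P α = (s : Set α)) : MulAction.IsMultiplyPretransitive G α k := by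
  have : Fact p.Prime := ⟨hp⟩
  apply gleason (p := p) k hk (by rw [Nat.card_eq_fintype_card]; exact hkn)
  intro s hs
  have hfin : s.Finite := Set.toFinite s
  obtain ⟨P, hP, hfP⟩ := h hfin.toFinset (by rw [← Set.ncard_eq_toFinset_card s hfin]; exact hs)
  exact ⟨P, hP, by rw [hfP]; simp⟩

end Cfsg.Agent.S0743
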