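import Cfsg.Statements.S0744
import Cfsg.Agent.Lib.H4.StabTrans

set_option autoImplicit false
universe u
open Cfsg

namespace Cfsg.Agent.S0744

open MulAction SubMulAction

/-- An invariant subset all of whose orbits have `r` elements has cardinality divisible by `r`. -/
theorem dvd_ncard_of_orbits {H X : Type*} [Group H] [MulAction H X] [Finite X] (r : ℕ) :
    ∀ (n : ℕ) (Y : Set X), Y.ncard = n → (∀ h : H, ∀ y ∈ Y, h • y ∈ Y) →
      (∀ y ∈ Y, (orbit H y).ncard = r) → r ∣ n := by
  intro n
  induction n using Nat.strong_induction_on with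
  | _ n ih =>
    intro Y hYn hinv hr
    by_cases hY : Y = ∅
    · subst hY
      rw [Set.ncard_empty] at hYn
      rw [← hYn]; exact dvd_zero _
    · obtain ⟨y, hy⟩ := Set.nonempty_iff_ne_empty.mpr hY
      have hsub : orbit H y ⊆ Y := by
        rintro _ ⟨h, rfl⟩
        exact hinv h y hy
      have hcard : (Y \ orbit H y).ncard + r = n := by
        rw [← hr y hy, ← hYn]
        exact Set.ncard_sdiff_add_ncard_of_subset hsub
      have hrpos : 0 < r := by
        rw [← hr y hy, Set.ncard_pos]
        exact ⟨y, mem_orbit_self y⟩
      have hlt : (Y \ orbit H y).ncard < n := by omega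
      have h1 := ih _ hlt (Y \ orbit H y) rfl (by
        intro h z hz
        refine ⟨hinv h z hz.1, ?_⟩
        intro hmem
        apply hz.2
        have : z = h⁻¹ • (h • z) := by rw [inv_smul_smul]
        rw [this]
        exact mem_orbit_of_mem_orbit h⁻¹ hmem) (fun z hz => hr z hz.1)
      rw [← hcard]
      exact Dvd.dvd.add h1 (dvd_refl r)

theorem card_stabilizer_stabilizer {G α : Type*} [Group G] [MulAction G α] (a y : α) :
    Nat.card (stabilizer (stabilizer G a) y) = Nat.card ↥(stabilizer G a ⊓ stabilizer G y) := by
  have key : stabilizer (stabilizer G a) y = (stabilizer G y).subgroupOf (stabilizer G a) := by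
    ext g
    rw [mem_stabilizer_iff, Subgroup.mem_subgroupOf, mem_stabilizer_iff]
    rfl
  rw [key, ← Subgroup.inf_subgroupOf_left]
  exact Nat.card_congr (Subgroup.subgroupOfEquivOfLe inf_le_left).toEquiv

theorem base {G α : Type*} [Group G] [MulAction G α] [FaithfulSMul G α] [Finite α] [Finite G]
    (l m : ℕ) (hl : 1 < l) (h1 : ∀ a : α, Nat.card (stabilizer G a) = l)
    (h2 : ∀ a b : α, a ≠ b → Nat.card ↥(stabilizer G a ⊓ stabilizer G b) = m) :
    IsPretransitive G α := by
  constructor
  intro a b
  by_contra hcon
  have hb : b ∉ orbit G a := hcon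
  -- the common orbit size of the stabilizer of a on points other than a
  have hm0 : 0 < m := by
    have hab : a ≠ b := by
      rintro rfl
      exact hb (mem_orbit_self a)
    rw [← h2 a b hab]
    exact Nat.card_pos
  have horb : ∀ y : α, y ≠ a → (orbit (stabilizer G a) y).ncard * m = l := by
    intro y hy
    rw [← index_stabilizer, ← h2 a y (Ne.symm hy), ← card_stabilizer_stabilizer, mul_comm,
      Subgroup.card_mul_index, h1]
  obtain ⟨r, hr⟩ : ∃ r, r * m = l := ⟨_, horb b (by rintro rfl; exact hb (mem_orbit_self _))⟩
  have horb' : ∀ y : α, y ≠ a → (orbit (stabilizer G a) y).ncard = r := by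
    intro y hy
    have := horb y hy
    rw [← hr] at this
    exact Nat.eq_of_mul_eq_mul_right hm0 this
  -- sizes of the G-orbits
  have hNa : (orbit G a).ncard * l = Nat.card G := by
    rw [← index_stabilizer, ← h1 a, mul_comm, Subgroup.card_mul_index]
  have hNb : (orbit G b).ncard * l = Nat.card G := by
    rw [← index_stabilizer, ← h1 b, mul_comm, Subgroup.card_mul_index]
  have hNab : (orbit G a).ncard = (orbit G b).ncard :=
    Nat.eq_of_mul_eq_mul_right (by omega) (hNa.trans hNb.symm)
  -- r divides |O_b|
  have hd1 : r ∣ (orbit G b).ncard := by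
    apply dvd_ncard_of_orbits (H := stabilizer G a) r _ (orbit G b) rfl
    · intro h y hy
      exact mem_orbit_of_mem_orbit (h : G) hy
    · intro y hy
      apply horb'
      rintro rfl
      apply hb
      rw [orbit_eq_iff.symm] at hy
      rw [hy]; exact mem_orbit_self _
  -- r divides |O_a| - 1
  have hd2 : r ∣ (orbit G a \ {a}).ncard := by
    apply dvd_ncard_of_orbits (H := stabilizer G a) r _ (orbit G a \ {a}) rfl
    · intro h y hy
      refine ⟨mem_orbit_of_mem_orbit (h : G) hy.1, ?_⟩
      intro hh
      apply hy.2
      rw [Set.mem_singleton_iff] at hh ⊢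
      have h3 : (h : G) • y = a := hh
      have h4 : (h : G) • a = a := h.2
      have : (h : G) • y = (h : G) • a := h3.trans h4.symm
      exact MulAction.injective (h : G) this
    · intro y hy
      exact horb' y hy.2
  have hd3 : (orbit G a \ {a}).ncard + 1 = (orbit G a).ncard := by
    have := Set.ncard_sdiff_add_ncard_of_subset (s := {a}) (t := orbit G a)
      (Set.singleton_subset_iff.mpr (mem_orbit_self a))
    rw [Set.ncard_singleton] at this
    exact this
  have hr1 : r = 1 := by
    rw [← hNab, ← hd3] at hd1
    have := (Nat.dvd_add_right hd2).mp hd1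
    exact Nat.dvd_one.mp this
  -- then the stabilizer of a fixes everything, hence is trivial
  have htriv : ∀ g ∈ stabilizer G a, g = 1 := by
    intro g hg
    apply FaithfulSMul.eq_of_smul_eq_smul (α := α)
    intro y
    rw [one_smul]
    by_cases hy : y = a
    · rw [hy]; exact hg
    · have h5 := horb' y hy
      rw [hr1, Set.ncard_eq_one] at h5
      obtain ⟨z, hz⟩ := h5
      have hy1 : y ∈ orbit (stabilizer G a) y := mem_orbit_self y
      have hy2 : (⟨g, hg⟩ : stabilizer G a) • y ∈ orbit (stabilizer G a) y := mem_orbit _ _
      rw [hz, Set.mem_singleton_iff] at hy1 hy2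
      have : g • y = (⟨g, hg⟩ : stabilizer G a) • y := rfl
      rw [this, hy2, hy1]
  have : Nat.card (stabilizer G a) = 1 := by
    rw [Nat.card_eq_one_iff_unique]
    exact ⟨⟨fun x y => Subtype.ext ((htriv x x.2).trans (htriv y y.2).symm)⟩, ⟨1⟩⟩
  rw [h1] at this
  omega

theorem fixingSubgroup_singleton' {G α : Type*} [Group G] [MulAction G α] (a : α) :
    fixingSubgroup G ({a} : Set α) = stabilizer G a := by
  ext g
  rw [mem_fixingSubgroup_iff, mem_stabilizer_iff]
  simp

theorem fixingSubgroup_pair' {G α : Type*} [Group G] [MulAction G α] (a b : α) :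
    fixingSubgroup G ({a, b} : Set α) = stabilizer G a ⊓ stabilizer G b := by
  ext g
  rw [mem_fixingSubgroup_iff, Subgroup.mem_inf, mem_stabilizer_iff, mem_stabilizer_iff]
  simp

theorem main (j : ℕ) : ∀ {G α : Type u} [Group G] [MulAction G α] [FaithfulSMul G α] [Finite α]
    [Finite G], j + 2 ≤ Nat.card α → ∀ l m : ℕ, 1 < l →
    (∀ s : Set α, s.ncard = j + 1 → Nat.card (fixingSubgroup G s) = l) →
    (∀ s : Set α, s.ncard = j + 2 → Nat.card (fixingSubgroup G s) = m) →
    IsMultiplyPretransitive G α (j + 1) := by
  induction j with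
  | zero =>
    intro G α _ _ _ _ _ _ l m hl h1 h2
    rw [is_one_pretransitive_iff]
    apply base l m hl
    · intro a
      rw [← fixingSubgroup_singleton']
      exact h1 _ (Set.ncard_singleton a)
    · intro a b hab
      rw [← fixingSubgroup_pair']
      exact h2 _ (Set.ncard_pair hab)
  | succ j ih =>
    intro G α _ _ _ _ _ hcard l m hl h1 h2
    have hstab : ∀ a : α, IsMultiplyPretransitive (stabilizer G a) (ofStabilizer G a) (j + 1) := by
      intro a
      have hc : Nat.card (ofStabilizer G a) + 1 = Nat.card α :=
        nat_card_ofStabilizer_add_one_eq (G := G) a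
      have : FaithfulSMul (stabilizer G a) (ofStabilizer G a) := by
        constructor
        intro g1 g2 h
        apply Subtype.ext
        apply FaithfulSMul.eq_of_smul_eq_smul (α := α)
        intro y
        by_cases hy : y = a
        · rw [hy]
          exact g1.2.trans g2.2.symm
        · have := h ⟨y, hy⟩
          exact congrArg Subtype.val this
      apply ih (by omega) l m hl
      · intro t ht
        have ha' : a ∉ Subtype.val '' t := notMem_val_image (G := G) t
        have hs : (insert a (Subtype.val '' t) : Set α).ncard = j + 1 + 1 := by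
          rw [Set.ncard_insert_of_notMem ha', Set.ncard_image_of_injective t Subtype.val_injective, ht]
        rw [← Nat.card_congr (fixingSubgroupInsertEquiv a t).toEquiv]
        exact h1 _ hs
      · intro t ht
        have ha' : a ∉ Subtype.val '' t := notMem_val_image (G := G) t
        have hs : (insert a (Subtype.val '' t) : Set α).ncard = j + 1 + 2 := by
          rw [Set.ncard_insert_of_notMem ha', Set.ncard_image_of_injective t Subtype.val_injective, ht]
        rw [← Nat.card_congr (fixingSubgroupInsertEquiv a t).toEquiv]
        exact h2 _ hs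
    have htrans : IsPretransitive G α := by
      apply Cfsg.Agent.Lib.H4.isPretransitive_of_stabilizers (by omega)
      intro c
      have := hstab c
      rw [← is_one_pretransitive_iff]
      have hc : Nat.card (ofStabilizer G c) + 1 = Nat.card α :=
        nat_card_ofStabilizer_add_one_eq (G := G) c
      exact isMultiplyPretransitive_of_le (n := j + 1) (by omega) (by omega)
    obtain ⟨a⟩ : Nonempty α := by
      have : Nat.card α ≠ 0 := by omega
      exact (Nat.card_ne_zero.mp this).1
    exact (ofStabilizer.isMultiplyPretransitive (G := G) (a := a)).mpr (hstab a)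

theorem result {α : Type*} [Fintype α] [DecidableEq α] (G : Subgroup (Equiv.Perm α)) {k : ℕ} (hk : 1 < k) (hkn : k ≤ Fintype.card α) (l m : ℕ) (hl : 1 < l) (hkm1 : ∀ s : Finset α, s.card = k - 1 → Nat.card (fixingSubgroup G (s : Set α)) = l) (hkm : ∀ s : Finset α, s.card = k → Nat.card (fixingSubgroup G (s : Set α)) = m) : MulAction.IsMultiplyPretransitive G α (k - 1) := by
  obtain ⟨j, rfl⟩ : ∃ j, k = j + 2 := ⟨k - 2, by omega⟩
  have : FaithfulSMul G α := by
    constructor
    intro g1 g2 h
    apply Subtype.ext
    ext y
    exact h y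
  have key : ∀ (n c : ℕ), (∀ s : Finset α, s.card = n → Nat.card (fixingSubgroup G (s : Set α)) = c) →
      ∀ s : Set α, s.ncard = n → Nat.card (fixingSubgroup G s) = c := by
    intro n c h s hs
    have hfin : s.Finite := Set.toFinite s
    have := h hfin.toFinset (by rw [← Set.ncard_eq_toFinset_card s hfin]; exact hs)
    simpa using this
  exact main j (by rw [Nat.card_eq_fintype_card]; exact hkn) l m hl (key _ _ hkm1) (key _ _ hkm)

end Cfsg.Agent.S0744
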