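import Cfsg.Statements.S0754

set_option autoImplicit false
universe u
open Cfsg

namespace Cfsg.Agent.S0754

theorem result {F : Type*} [Field F] [Fintype F] {q : ℕ} (hF : Fintype.card F = q ^ 2) (μ : F) (hμ : μ ≠ 0) (hμq : μ ^ q = μ) : Nat.card {x : F // x ^ (q + 1) = μ} = q + 1 := by
  classical
  have hq2 : 2 ≤ q := by
    have h1 : 1 < Fintype.card F := Fintype.one_lt_card
    rw [hF] at h1
    by_contra hlt
    push Not at hlt
    interval_cases q <;> simp at h1
  have hcardU : Nat.card Fˣ = (q - 1) * (q + 1) := by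
    rw [Nat.card_eq_fintype_card, Fintype.card_units, hF]
    have : q ^ 2 = (q - 1) * (q + 1) + 1 := by
      obtain ⟨k, rfl⟩ : ∃ k, q = k + 1 := ⟨q - 1, by omega⟩
      simp only [Nat.add_sub_cancel]
      ring
    omega
  have hker : Nat.card (powMonoidHom (q + 1) : Fˣ →* Fˣ).ker = q + 1 := by
    rw [IsCyclic.card_powMonoidHom_ker, hcardU]
    exact Nat.gcd_eq_right (Dvd.intro_left _ rfl)
  have hrange : Nat.card (powMonoidHom (q + 1) : Fˣ →* Fˣ).range = q - 1 := by
    rw [IsCyclic.card_powMonoidHom_range, hcardU]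
    rw [Nat.gcd_eq_right (Dvd.intro_left _ rfl)]
    exact Nat.mul_div_cancel _ (by omega)
  have hker' : Nat.card (powMonoidHom (q - 1) : Fˣ →* Fˣ).ker = q - 1 := by
    rw [IsCyclic.card_powMonoidHom_ker, hcardU]
    exact Nat.gcd_eq_right (Dvd.intro _ rfl)
  have hle : (powMonoidHom (q + 1) : Fˣ →* Fˣ).range ≤ (powMonoidHom (q - 1) : Fˣ →* Fˣ).ker := by
    rintro _ ⟨x, rfl⟩
    rw [MonoidHom.mem_ker, powMonoidHom_apply, powMonoidHom_apply, ← pow_mul, mul_comm, ← hcardU]
    exact pow_card_eq_one'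
  have heq : (powMonoidHom (q + 1) : Fˣ →* Fˣ).range = (powMonoidHom (q - 1) : Fˣ →* Fˣ).ker := by
    apply Subgroup.eq_of_le_of_card_ge hle
    rw [hrange, hker']
  -- μ as a unit lies in the kernel of the (q-1)-power map
  have hμmem : Units.mk0 μ hμ ∈ (powMonoidHom (q - 1) : Fˣ →* Fˣ).ker := by
    rw [MonoidHom.mem_ker, powMonoidHom_apply]
    ext
    simp only [Units.val_pow_eq_pow_val, Units.val_mk0, Units.val_one]
    have : μ ^ (q - 1) * μ = 1 * μ := by
      rw [← pow_succ, one_mul]
      have : q - 1 + 1 = q := by omega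
      rw [this, hμq]
    exact mul_right_cancel₀ hμ this
  rw [← heq] at hμmem
  obtain ⟨y, hy⟩ := hμmem
  rw [powMonoidHom_apply] at hy
  have hy' : (y : F) ^ (q + 1) = μ := by
    have := congrArg Units.val hy
    simpa using this
  refine (Nat.card_congr ?_).trans hker
  refine
    { toFun := fun x => ⟨Units.mk0 x.1 (by
          intro h0
          have := x.2
          rw [h0, zero_pow (by omega)] at this
          exact hμ this.symm) / y, ?_⟩
      invFun := fun u => ⟨((u.1 * y : Fˣ) : F), ?_⟩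
      left_inv := ?_
      right_inv := ?_ }
  · rw [MonoidHom.mem_ker, powMonoidHom_apply, div_pow, hy]
    rw [div_eq_one]
    ext
    simp [x.2]
  · have hu := u.2
    rw [MonoidHom.mem_ker, powMonoidHom_apply] at hu
    have : ((u.1 * y : Fˣ) : F) ^ (q + 1) = ((u.1 ^ (q + 1) * y ^ (q + 1) : Fˣ) : F) := by
      rw [← mul_pow]; simp
    rw [this, hu, one_mul, hy]
    simp
  · intro x
    ext
    simp
  · intro u
    ext
    simp

end Cfsg.Agent.S0754
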