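import Cfsg.Statements.S0757

set_option autoImplicit false
universe u
open Cfsg

namespace Cfsg.Agent.S0757

theorem toMatrix'_weightedSumSquares {F : Type*} [Field F] [Invertible (2 : F)] {ι : Type*}
    [Fintype ι] [DecidableEq ι] (w : ι → F) :
    QuadraticForm.toMatrix' (QuadraticMap.weightedSumSquares F w) = Matrix.diagonal w := by
  ext i j
  rw [QuadraticForm.toMatrix', LinearMap.toMatrix₂'_apply]
  by_cases hij : i = j
  · subst hij
    rw [QuadraticMap.associated_eq_self_apply, Matrix.diagonal_apply_eq,
      QuadraticMap.weightedSumSquares_apply]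
    simp [Pi.single_apply]
  · rw [QuadraticMap.associated_apply]
    simp only [QuadraticMap.weightedSumSquares_apply, Pi.add_apply, smul_eq_mul, Pi.single_apply]
    rw [Matrix.diagonal_apply_ne _ hij]
    have h1 : ∀ k : ι, w k * (((if k = i then (1 : F) else 0) + if k = j then 1 else 0) *
        ((if k = i then (1 : F) else 0) + if k = j then 1 else 0)) =
        (if k = i then w i else 0) + (if k = j then w j else 0) := by
      intro k
      by_cases hki : k = i
      · have hkj : k ≠ j := fun h => hij (hki.symm.trans h)
        subst hki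
        simp [hkj]
      · by_cases hkj : k = j
        · subst hkj; simp [hki]
        · simp [hki, hkj]
    have h2 : ∀ k : ι, w k * ((if k = i then (1 : F) else 0) * if k = i then 1 else 0) =
        if k = i then w i else 0 := by
      intro k; split_ifs with h
      · subst h; ring
      · ring
    have h3 : ∀ k : ι, w k * ((if k = j then (1 : F) else 0) * if k = j then 1 else 0) =
        if k = j then w j else 0 := by
      intro k; split_ifs with h
      · subst h; ring
      · ring
    simp only [h1, h2, h3, Finset.sum_add_distrib, Finset.sum_ite_eq', Finset.mem_univ, if_true]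
    simp

theorem result {F : Type*} [Field F] (h2 : (2 : F) ≠ 0) (n : ℕ) (α : F) (hα : ¬ IsSquare α) : ¬ (QuadraticMap.weightedSumSquares F (fun _ : Fin (n + 1) => (1 : F))).Equivalent (QuadraticMap.weightedSumSquares F (fun i : Fin (n + 1) => if i = Fin.last n then α else (1 : F))) := by
  rintro ⟨e⟩
  have : Invertible (2 : F) := invertibleOfNonzero h2
  set Q1 := QuadraticMap.weightedSumSquares F (fun _ : Fin (n + 1) => (1 : F)) with hQ1
  set Q2 := QuadraticMap.weightedSumSquares F (fun i : Fin (n + 1) => if i = Fin.last n then α else (1 : F)) with hQ2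
  have hcomp : Q1 = Q2.comp (e.toLinearEquiv : (Fin (n+1) → F) →ₗ[F] (Fin (n+1) → F)) := by
    ext x
    simp only [QuadraticMap.comp_apply]
    exact (e.map_app x).symm
  have hd := QuadraticForm.discr'_comp (Q := Q2) (e.toLinearEquiv : (Fin (n+1) → F) →ₗ[F] (Fin (n+1) → F))
  rw [← hcomp] at hd
  have hd1 : QuadraticForm.discr' Q1 = 1 := by
    unfold QuadraticForm.discr'
    rw [hQ1, toMatrix'_weightedSumSquares, Matrix.det_diagonal]
    simp
  have hd2 : QuadraticForm.discr' Q2 = α := by
    unfold QuadraticForm.discr'
    rw [hQ2, toMatrix'_weightedSumSquares, Matrix.det_diagonal]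
    rw [Finset.prod_ite_eq' ]
    simp
  rw [hd1, hd2] at hd
  set d := (LinearMap.toMatrix' (e.toLinearEquiv : (Fin (n+1) → F) →ₗ[F] (Fin (n+1) → F))).det with hdd
  have hd0 : d ≠ 0 := by
    rintro h
    rw [h] at hd
    simp at hd
  apply hα
  refine ⟨d⁻¹, ?_⟩
  field_simp
  linear_combination -hd

end Cfsg.Agent.S0757
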