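import Cfsg.Statements.S0758

set_option autoImplicit false
universe u
open Cfsg

namespace Cfsg.Agent.S0758

theorem result {F : Type*} [Field F] [Fintype F] (h2 : (2 : F) ≠ 0) (α : F) (hα : ¬ IsSquare α) : ((∃ x y : F, (x ≠ 0 ∨ y ≠ 0) ∧ x ^ 2 + y ^ 2 = 0) ↔ Fintype.card F % 4 = 1) ∧ ((∃ x y : F, (x ≠ 0 ∨ y ≠ 0) ∧ x ^ 2 + α * y ^ 2 = 0) ↔ Fintype.card F % 4 = 3) := by
  classical
  have hchar : ringChar F ≠ 2 := by
    intro h
    apply h2
    have := CharP.cast_eq_zero F (ringChar F)
    rw [h] at this
    exact_mod_cast this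
  have hodd : Fintype.card F % 2 = 1 := FiniteField.odd_card_of_char_ne_two hchar
  have hm1 : IsSquare (-1 : F) ↔ Fintype.card F % 4 ≠ 3 := FiniteField.isSquare_neg_one_iff
  have hα0 : α ≠ 0 := by
    rintro rfl
    exact hα ⟨0, by simp⟩
  -- product of two non-squares is a square
  have hprod : ∀ a b : F, ¬ IsSquare a → ¬ IsSquare b → IsSquare (a * b) := by
    intro a b ha hb
    have ha0 : a ≠ 0 := by rintro rfl; exact ha ⟨0, by simp⟩
    have hb0 : b ≠ 0 := by rintro rfl; exact hb ⟨0, by simp⟩
    have hab0 : a * b ≠ 0 := mul_ne_zero ha0 hb0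
    rw [← quadraticChar_neg_one_iff_not_isSquare] at ha hb
    rw [← quadraticChar_one_iff_isSquare hab0, map_mul, ha, hb]
    norm_num
  constructor
  · constructor
    · rintro ⟨x, y, hxy, h⟩
      have hy : y ≠ 0 := by
        rcases hxy with hx | hy
        · intro hy
          rw [hy] at h
          simp at h
          exact hx h
        · exact hy
      have hsq : IsSquare (-1 : F) := by
        refine ⟨x / y, ?_⟩
        field_simp
        linear_combination -h
      rw [hm1] at hsq
      omega
    · intro h
      have hsq : IsSquare (-1 : F) := by rw [hm1]; omega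
      obtain ⟨i, hi⟩ := hsq
      refine ⟨i, 1, Or.inr one_ne_zero, ?_⟩
      linear_combination -hi
  · constructor
    · rintro ⟨x, y, hxy, h⟩
      have hy : y ≠ 0 := by
        rcases hxy with hx | hy
        · intro hy
          rw [hy] at h
          simp at h
          exact hx h
        · exact hy
      have hsq : IsSquare (-α) := by
        refine ⟨x / y, ?_⟩
        field_simp
        linear_combination -h
      by_contra hne
      have hm : IsSquare (-1 : F) := by rw [hm1]; exact hne
      apply hα
      obtain ⟨i, hi⟩ := hm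
      obtain ⟨j, hj⟩ := hsq
      refine ⟨i * j, ?_⟩
      linear_combination (j*j) * hi - hj
    · intro h
      have hm : ¬ IsSquare (-1 : F) := by rw [hm1]; omega
      have := hprod (-1) α hm hα
      obtain ⟨j, hj⟩ := this
      refine ⟨j, 1, Or.inr one_ne_zero, ?_⟩
      linear_combination -hj

end Cfsg.Agent.S0758
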