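import Cfsg.Statements.S0759
-- import your own Cfsg.Agent.* helpers here

set_option autoImplicit false
open Cfsg

namespace Cfsg.Agent.S0759

open Matrix Module

/-- graph construction: a matrix with `Aᵀ A = -1` gives a totally singular half-dimensional
subspace for the sum of squares. -/
theorem exists_singular_of_matrix {F : Type*} [Field F] {ι : Type*} [Fintype ι] [DecidableEq ι]
    (m : ℕ) (hcard : Fintype.card ι = m) (A : Matrix ι ι F) (hA : Aᵀ * A = -1) :
    ∃ W : Submodule F (Fin (2 * m) → F), Module.finrank F W = m ∧ ∀ w ∈ W, ∑ i, w i ^ 2 = 0 := by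
  classical
  have hc : Fintype.card (Fin (2 * m)) = Fintype.card (ι ⊕ ι) := by
    simp [hcard]; omega
  let ε : Fin (2 * m) ≃ ι ⊕ ι := Fintype.equivOfCardEq hc
  let g : (ι → F) →ₗ[F] (Fin (2 * m) → F) :=
    { toFun := fun x j => Sum.elim x (A *ᵥ x) (ε j)
      map_add' := by
        intro x y
        funext j
        simp only [Pi.add_apply]
        rcases ε j with i | i
        · simp
        · simp [Matrix.mulVec_add]
      map_smul' := by
        intro c x
        funext j
        simp only [Pi.smul_apply, RingHom.id_apply]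
        rcases ε j with i | i
        · simp
        · simp [Matrix.mulVec_smul] }
  have hg : ∀ x j, g x j = Sum.elim x (A *ᵥ x) (ε j) := fun x j => rfl
  have hinj : Function.Injective g := by
    intro x y hxy
    funext i
    have := congrFun hxy (ε.symm (Sum.inl i))
    simpa [hg] using this
  refine ⟨LinearMap.range g, ?_, ?_⟩
  · rw [LinearMap.finrank_range_of_inj hinj, Module.finrank_fintype_fun_eq_card, hcard]
  · rintro _ ⟨x, rfl⟩
    have h1 : ∑ j, g x j ^ 2 = ∑ s : ι ⊕ ι, (Sum.elim x (A *ᵥ x) s) ^ 2 := by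
      simp only [hg]
      exact Equiv.sum_comp ε (fun s => (Sum.elim x (A *ᵥ x) s) ^ 2)
    rw [h1, Fintype.sum_sum_type]
    simp only [Sum.elim_inl, Sum.elim_inr]
    have h2 : ∑ i, (A *ᵥ x) i ^ 2 = (A *ᵥ x) ⬝ᵥ (A *ᵥ x) := by
      simp [dotProduct, pow_two]
    have h3 : ∑ i, x i ^ 2 = x ⬝ᵥ x := by
      simp [dotProduct, pow_two]
    have h4 : (A *ᵥ x) ⬝ᵥ (A *ᵥ x) = -(x ⬝ᵥ x) := by
      rw [Matrix.dotProduct_mulVec, ← Matrix.mulVec_transpose, Matrix.mulVec_mulVec, hA]
      rw [Matrix.neg_mulVec, Matrix.one_mulVec, neg_dotProduct]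
    rw [h2, h3, h4, add_neg_cancel]


theorem exists_singular_of_isSquare {F : Type*} [Field F] (m : ℕ) (h : IsSquare (-1 : F)) :
    ∃ W : Submodule F (Fin (2 * m) → F), Module.finrank F W = m ∧ ∀ w ∈ W, ∑ i, w i ^ 2 = 0 := by
  obtain ⟨i, hi⟩ := h
  refine exists_singular_of_matrix (ι := Fin m) m (by simp) (i • (1 : Matrix (Fin m) (Fin m) F)) ?_
  rw [Matrix.transpose_smul, Matrix.transpose_one, Matrix.smul_mul, Matrix.mul_smul, Matrix.one_mul,
    smul_smul, ← hi]
  simp

theorem exists_singular_of_even {F : Type*} [Field F] [Finite F] (m : ℕ) (h : Even m) :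
    ∃ W : Submodule F (Fin (2 * m) → F), Module.finrank F W = m ∧ ∀ w ∈ W, ∑ i, w i ^ 2 = 0 := by
  obtain ⟨t, rfl⟩ := h
  obtain ⟨p, hp⟩ := CharP.exists F
  have hprime : p.Prime := CharP.char_is_prime F p
  have : NeZero p := ⟨hprime.ne_zero⟩
  obtain ⟨a', b', hab⟩ := CharP.sq_add_sq F p (-1)
  obtain ⟨a, ha⟩ : ∃ a : F, a = (a' : F) := ⟨_, rfl⟩
  obtain ⟨b, hb⟩ : ∃ b : F, b = (b' : F) := ⟨_, rfl⟩
  rw [← ha, ← hb] at hab
  have hab' : a ^ 2 + b ^ 2 = -1 := by simpa using hab
  let R : Matrix (Fin 2) (Fin 2) F := !![a, -b; b, a]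
  have hR : Rᵀ * R = -1 := by
    ext i j
    fin_cases i <;> fin_cases j
    · simp [R, Matrix.mul_apply, Fin.sum_univ_two]
      linear_combination hab'
    · simp [R, Matrix.mul_apply, Fin.sum_univ_two]
      ring
    · simp [R, Matrix.mul_apply, Fin.sum_univ_two]
      ring
    · simp [R, Matrix.mul_apply, Fin.sum_univ_two]
      linear_combination hab'
  refine exists_singular_of_matrix (ι := Fin 2 × Fin t) (t + t) (by simp; omega)
    (Matrix.blockDiagonal (fun _ : Fin t => R)) ?_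
  rw [Matrix.blockDiagonal_transpose, ← Matrix.blockDiagonal_mul]
  simp only [hR]
  rw [← Matrix.blockDiagonal_one, ← Matrix.blockDiagonal_neg]
  rfl

/-- determinant of the block swap matrix -/
theorem det_swapBlocks {F : Type*} [Field F] (m : ℕ) :
    (fromBlocks (0 : Matrix (Fin m) (Fin m) F) (1 : Matrix (Fin m) (Fin m) F)
      (1 : Matrix (Fin m) (Fin m) F) (0 : Matrix (Fin m) (Fin m) F)).det = (-1) ^ m := by
  have h : fromBlocks (1 : Matrix (Fin m) (Fin m) F) (1 : Matrix (Fin m) (Fin m) F)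
        (0 : Matrix (Fin m) (Fin m) F) (1 : Matrix (Fin m) (Fin m) F) *
        fromBlocks (0 : Matrix (Fin m) (Fin m) F) (1 : Matrix (Fin m) (Fin m) F)
          (1 : Matrix (Fin m) (Fin m) F) (0 : Matrix (Fin m) (Fin m) F)
      = fromBlocks (1 : Matrix (Fin m) (Fin m) F) (0 : Matrix (Fin m) (Fin m) F)
          (1 : Matrix (Fin m) (Fin m) F) (1 : Matrix (Fin m) (Fin m) F) *
        fromBlocks (1 : Matrix (Fin m) (Fin m) F) (1 : Matrix (Fin m) (Fin m) F)
          (0 : Matrix (Fin m) (Fin m) F) (-1 : Matrix (Fin m) (Fin m) F) := by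
    simp [fromBlocks_multiply]
  have h3 := congrArg det h
  rw [det_mul, det_mul, det_fromBlocks_zero₂₁, det_fromBlocks_zero₁₂, det_fromBlocks_zero₂₁] at h3
  simpa [det_neg] using h3

theorem neg_one_pow_isSquare_of_singular {F : Type*} [Field F] (h2 : (2 : F) ≠ 0) (m : ℕ)
    (W : Submodule F (Fin (2 * m) → F)) (hW : Module.finrank F W = m)
    (hQ : ∀ w ∈ W, ∑ i, w i ^ 2 = 0) : IsSquare ((-1 : F) ^ m) := by
  classical
  have hdot : ∀ w ∈ W, ∀ w' ∈ W, w ⬝ᵥ w' = 0 := by
    intro w hw w' hw'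
    have h1 := hQ (w + w') (W.add_mem hw hw')
    have h3 : (2 : F) * (w ⬝ᵥ w') = 0 := by
      have e : ∑ i, (w + w') i ^ 2 = ∑ i, w i ^ 2 + 2 * (w ⬝ᵥ w') + ∑ i, w' i ^ 2 := by
        simp only [dotProduct, Finset.mul_sum, ← Finset.sum_add_distrib, Pi.add_apply]
        apply Finset.sum_congr rfl
        intro i _
        ring
      rw [e, hQ w hw, hQ w' hw'] at h1
      linear_combination h1
    exact (mul_eq_zero.1 h3).resolve_left h2
  obtain ⟨U, hU⟩ := Submodule.exists_isCompl W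
  have hUdim : Module.finrank F U = m := by
    have := Submodule.finrank_add_eq_of_isCompl hU
    rw [hW, Module.finrank_fin_fun] at this
    omega
  let bW : Module.Basis (Fin m) F W := Module.finBasisOfFinrankEq F W hW
  let bU : Module.Basis (Fin m) F U := Module.finBasisOfFinrankEq F U hUdim
  let bV : Module.Basis (Fin m ⊕ Fin m) F (Fin (2 * m) → F) :=
    (bW.prod bU).map (Submodule.prodEquivOfIsCompl W U hU)
  have hbV_inl : ∀ i, bV (Sum.inl i) = (bW i : Fin (2 * m) → F) := by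
    intro i
    simp [bV, Submodule.coe_prodEquivOfIsCompl']
  let P : Matrix (Fin (2 * m)) (Fin m ⊕ Fin m) F := (Pi.basisFun F (Fin (2 * m))).toMatrix bV
  let P' : Matrix (Fin m ⊕ Fin m) (Fin (2 * m)) F := bV.toMatrix (Pi.basisFun F (Fin (2 * m)))
  have hPP' : P * P' = 1 := Module.Basis.toMatrix_mul_toMatrix_flip _ _
  have hP'P : P' * P = 1 := Module.Basis.toMatrix_mul_toMatrix_flip _ _
  set G : Matrix (Fin m ⊕ Fin m) (Fin m ⊕ Fin m) F := Pᵀ * P with hG
  have hGapp : ∀ s s', G s s' = bV s ⬝ᵥ bV s' := by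
    intro s s'
    simp [hG, Matrix.mul_apply, dotProduct, P, Module.Basis.toMatrix_apply]
  have hG11 : G.toBlocks₁₁ = 0 := by
    ext i j
    simp only [Matrix.toBlocks₁₁, Matrix.of_apply, Matrix.zero_apply, hGapp, hbV_inl]
    exact hdot _ (bW i).2 _ (bW j).2
  have hG21 : G.toBlocks₂₁ = G.toBlocks₁₂ᵀ := by
    ext i j
    simp only [Matrix.toBlocks₂₁, Matrix.toBlocks₁₂, Matrix.of_apply, Matrix.transpose_apply, hGapp]
    exact dotProduct_comm _ _
  have hGblocks : G = fromBlocks 0 G.toBlocks₁₂ G.toBlocks₁₂ᵀ G.toBlocks₂₂ := by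
    conv_lhs => rw [← Matrix.fromBlocks_toBlocks G]
    rw [hG11, hG21]
  have hdetG1 : G.det * (-1) ^ m = G.toBlocks₁₂.det ^ 2 := by
    have h1 : G * fromBlocks (0 : Matrix (Fin m) (Fin m) F) (1 : Matrix (Fin m) (Fin m) F)
          (1 : Matrix (Fin m) (Fin m) F) (0 : Matrix (Fin m) (Fin m) F)
        = fromBlocks G.toBlocks₁₂ 0 G.toBlocks₂₂ G.toBlocks₁₂ᵀ := by
      conv_lhs => rw [hGblocks]
      simp [fromBlocks_multiply]
    have h3 := congrArg det h1
    rw [det_mul, det_swapBlocks, det_fromBlocks_zero₁₂, det_transpose] at h3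
    rw [h3, pow_two]
  -- det G is a nonzero square
  have hc : Fintype.card (Fin (2 * m)) = Fintype.card (Fin m ⊕ Fin m) := by
    simp; omega
  let ε : Fin (2 * m) ≃ Fin m ⊕ Fin m := Fintype.equivOfCardEq hc
  let P₁ : Matrix (Fin m ⊕ Fin m) (Fin m ⊕ Fin m) F := P.submatrix ε.symm id
  have hG2 : G = P₁ᵀ * P₁ := by
    rw [hG]
    simp only [P₁, Matrix.transpose_submatrix]
    rw [Matrix.submatrix_mul_equiv]
    simp
  have hdetG2 : G.det = P₁.det ^ 2 := by
    rw [hG2, det_mul, det_transpose, pow_two]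
  have hdetG0 : G.det ≠ 0 := by
    have h1 : G * (P' * P'ᵀ) = 1 := by
      rw [hG]
      calc Pᵀ * P * (P' * P'ᵀ) = Pᵀ * (P * P') * P'ᵀ := by simp only [Matrix.mul_assoc]
        _ = (P' * P)ᵀ := by rw [hPP', Matrix.mul_one, Matrix.transpose_mul]
        _ = 1 := by rw [hP'P, Matrix.transpose_one]
    have h3 := congrArg det h1
    rw [det_mul, det_one] at h3
    intro h0
    rw [h0, zero_mul] at h3
    exact zero_ne_one h3
  have hd0 : P₁.det ≠ 0 := by
    intro h0
    apply hdetG0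
    rw [hdetG2, h0]
    ring
  refine ⟨G.toBlocks₁₂.det / P₁.det, ?_⟩
  rw [hdetG2] at hdetG1
  field_simp
  linear_combination hdetG1

/-- Type of the orthonormal form: over a finite field of odd order q and for m ≥ 1, the quadratic form Σ_(i<2m) x_i² on F^(2m) admits an m-dimensional subspace on which it vanishes identically if and only if it is not the case that q ≡ 3 (mod 4) and m is odd. -/
theorem result {F : Type*} [Field F] [Fintype F] (h2 : (2 : F) ≠ 0) (m : ℕ) (hm : 1 ≤ m) : (∃ W : Submodule F (Fin (2 * m) → F), Module.finrank F W = m ∧ ∀ w ∈ W, ∑ i, w i ^ 2 = 0) ↔ ¬ (Fintype.card F % 4 = 3 ∧ Odd m) := by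
  constructor
  · rintro ⟨W, hW, hQ⟩ ⟨hq, hodd⟩
    have h1 := neg_one_pow_isSquare_of_singular h2 m W hW hQ
    rw [hodd.neg_one_pow] at h1
    exact (FiniteField.isSquare_neg_one_iff.1 h1) hq
  · intro h
    by_cases hq : Fintype.card F % 4 = 3
    · have hm2 : Even m := by
        by_contra hne
        exact h ⟨hq, Nat.not_even_iff_odd.1 hne⟩
      exact exists_singular_of_even m hm2
    · exact exists_singular_of_isSquare m (FiniteField.isSquare_neg_one_iff.2 hq)

end Cfsg.Agent.S0759
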