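import Cfsg.Statements.S0761

set_option autoImplicit false
universe u
open Cfsg

namespace Cfsg.Agent.S0761

theorem result {F V : Type*} [Field F] [AddCommGroup V] [Module F V] [FiniteDimensional F V] (B : LinearMap.BilinForm F V) (hB : B.Nondegenerate) (hform : B.IsAlt ∨ (B.IsSymm ∧ (2 : F) ≠ 0)) (x : V) (Z : Submodule F V) (hxZ : x ∉ Z) (hx : B x x = 0) (hxz : ∀ z ∈ Z, B x z = 0) (hZ : ∀ z ∈ Z, ∀ z' ∈ Z, B z z' = 0) : ∃ y : V, B y y = 0 ∧ B x y = 1 ∧ ∀ z ∈ Z, B z y = 0 := by
  have hrefl : B.IsRefl := by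
    rcases hform with h | h
    · exact LinearMap.BilinForm.IsAlt.isRefl h
    · exact LinearMap.BilinForm.IsSymm.isRefl h.1
  have hoo := LinearMap.BilinForm.orthogonal_orthogonal hB hrefl Z
  have hx' : x ∉ B.orthogonal (B.orthogonal Z) := by rw [hoo]; exact hxZ
  rw [LinearMap.BilinForm.mem_orthogonal_iff] at hx'
  push Not at hx'
  obtain ⟨n, hn, hnx⟩ := hx'
  rw [LinearMap.BilinForm.mem_orthogonal_iff] at hn
  have hxn : B x n ≠ 0 := fun h => hnx (hrefl _ _ h)
  -- first candidate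
  set y' : V := (B x n)⁻¹ • n with hy'
  have h1 : B x y' = 1 := by
    rw [hy', map_smul, smul_eq_mul, inv_mul_cancel₀ hxn]
  have h2 : ∀ z ∈ Z, B z y' = 0 := by
    intro z hz
    rw [hy', map_smul, hn z hz, smul_zero]
  rcases hform with halt | ⟨hsymm, h2ne⟩
  · exact ⟨y', halt y', h1, h2⟩
  · have hsx : B y' x = 1 := by rw [← hsymm.eq]; simpa using h1
    refine ⟨y' + (-(B y' y') / 2) • x, ?_, ?_, ?_⟩
    · simp only [map_add, map_smul, LinearMap.add_apply, LinearMap.smul_apply, smul_eq_mul, hx, h1, hsx]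
      field_simp
      ring
    · simp only [map_add, map_smul, smul_eq_mul, hx, h1]
      ring
    · intro z hz
      have hzx : B z x = 0 := by rw [← hsymm.eq]; simpa using hxz z hz
      simp only [map_add, map_smul, smul_eq_mul, h2 z hz, hzx]
      ring

end Cfsg.Agent.S0761
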