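import Cfsg.Statements.S0762

set_option autoImplicit false
universe u
open Cfsg

namespace Cfsg.Agent.S0762

theorem result {F V : Type*} [Field F] [Finite F] [CharP F 2] [AddCommGroup V] [Module F V] [FiniteDimensional F V] (Q : QuadraticForm F V) (h3 : 3 ≤ Module.finrank F V) : ∃ v : V, v ≠ 0 ∧ Q v = 0 := by
  classical
  have : Fintype F := Fintype.ofFinite F
  have hsq : ∀ a : F, IsSquare a := fun a => FiniteField.isSquare_of_char_two (CharP.ringChar_of_prime_eq_zero Nat.prime_two (CharP.cast_eq_zero F 2)) a
  have h2 : (2 : F) = 0 := by exact_mod_cast CharP.cast_eq_zero F 2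
  have hpos : 0 < Module.finrank F V := by omega
  obtain ⟨u, hu⟩ : ∃ u : V, u ≠ 0 := by
    have := Module.finrank_pos_iff_exists_ne_zero (R := F) (M := V)
    exact this.mp hpos
  by_cases hQu : Q u = 0
  · exact ⟨u, hu, hQu⟩
  set φ : V →ₗ[F] F := QuadraticMap.polarBilin Q u with hφ
  have hker : 2 ≤ Module.finrank F (LinearMap.ker φ) := by
    have h1 := LinearMap.finrank_range_add_finrank_ker φ
    have h2 : Module.finrank F (LinearMap.range φ) ≤ 1 := by
      have := Submodule.finrank_le (LinearMap.range φ)
      simpa using this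
    omega
  have hspan : Module.finrank F (Submodule.span F {u}) ≤ 1 := by
    have := finrank_span_le_card (R := F) ({u} : Set V)
    simpa using this
  have hnle : ¬ LinearMap.ker φ ≤ Submodule.span F {u} := by
    intro hle
    have := Submodule.finrank_mono hle
    omega
  obtain ⟨x, hxk, hxs⟩ := SetLike.not_le_iff_exists.mp hnle
  have hpol : QuadraticMap.polar Q u x = 0 := by
    have : φ x = 0 := hxk
    simpa [hφ] using this
  obtain ⟨a, ha⟩ := hsq (Q x / Q u)
  refine ⟨a • u + x, ?_, ?_⟩
  · intro h0
    apply hxs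
    rw [Submodule.mem_span_singleton]
    refine ⟨-a, ?_⟩
    have : x = -(a • u) := by
      rw [eq_neg_iff_add_eq_zero, add_comm]; exact h0
    rw [this, neg_smul]
  · rw [QuadraticMap.map_add (⇑Q), QuadraticMap.map_smul, QuadraticMap.polar_smul_left, hpol]
    simp only [smul_eq_mul, mul_zero, add_zero]
    rw [← ha]
    field_simp
    linear_combination (Q x) * h2

end Cfsg.Agent.S0762
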