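import Cfsg.Statements.S0763
-- import your own Cfsg.Agent.* helpers here

set_option autoImplicit false
open Cfsg

namespace Cfsg.Agent.S0763

open QuadraticMap

theorem polar_self_char2 {F V : Type*} [Field F] [CharP F 2] [AddCommGroup V] [Module F V]
    (Q : QuadraticForm F V) (v : V) : polar Q v v = 0 := by
  rw [QuadraticMap.polar_self]
  have h2 : (2 : F) = 0 := CharTwo.two_eq_zero
  rw [two_smul]
  exact CharTwo.add_self_eq_zero _

theorem map_add_smul {F V : Type*} [Field F] [AddCommGroup V] [Module F V]
    (Q : QuadraticForm F V) (v w : V) (c : F) :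
    Q (w + c • v) = Q w + c * c * Q v + c * polar Q w v := by
  have h1 : Q (w + c • v) = Q w + Q (c • v) + polar Q w (c • v) := by
    rw [polar]
    ring
  rw [h1, QuadraticMap.map_smul, polar_smul_right, smul_eq_mul, smul_eq_mul]

theorem indep_of_polar {F V : Type*} [Field F] [CharP F 2] [AddCommGroup V] [Module F V]
    (Q : QuadraticForm F V) (v w : V) (h : polar Q v w = 1) : LinearIndependent F ![v, w] := by
  rw [LinearIndependent.pair_iff]
  intro s t hst
  have h1 : polar Q v (s • v + t • w) = 0 := by rw [hst]; simp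
  have h2 : polar Q (s • v + t • w) w = 0 := by rw [hst]; simp
  rw [polar_add_right, polar_smul_right, polar_smul_right, polar_self_char2, h, smul_zero, zero_add,
    smul_eq_mul, mul_one] at h1
  rw [polar_add_left, polar_smul_left, polar_smul_left, polar_self_char2, h, smul_zero, add_zero,
    smul_eq_mul, mul_one] at h2
  exact ⟨h2, h1⟩

/-- Binary quadratic forms in characteristic two over a finite field: if Q is a quadratic form on a 2-dimensional space whose polar form is non-degenerate, then either there are vectors v, w with Q v = Q w = 0 and polar value 1 (Q is xy in these coordinates), or there are v, w and μ with Q v = 1, Q w = μ, polar value 1 and x² + x + μ without roots in F (Q is x² + xy + μy²). -/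
theorem result {F V : Type*} [Field F] [Finite F] [CharP F 2] [AddCommGroup V] [Module F V] (Q : QuadraticForm F V) (h2 : Module.finrank F V = 2) (hQ : (QuadraticMap.polarBilin Q).Nondegenerate) : (∃ v w : V, LinearIndependent F ![v, w] ∧ Q v = 0 ∧ Q w = 0 ∧ QuadraticMap.polar Q v w = 1) ∨ (∃ (v w : V) (μ : F), LinearIndependent F ![v, w] ∧ (∀ x : F, x ^ 2 + x + μ ≠ 0) ∧ Q v = 1 ∧ Q w = μ ∧ QuadraticMap.polar Q v w = 1) := by
  have hchar : ∀ a : F, a + a = 0 := fun a => CharTwo.add_self_eq_zero a
  -- partner with polar value 1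
  have hpartner : ∀ v : V, v ≠ 0 → ∃ w : V, polar Q v w = 1 := by
    intro v hv
    have : ∃ w, polar Q v w ≠ 0 := by
      by_contra hcon
      push Not at hcon
      apply hv
      apply hQ.1
      intro y
      rw [polarBilin_apply_apply]
      exact hcon y
    obtain ⟨w, hw⟩ := this
    refine ⟨(polar Q v w)⁻¹ • w, ?_⟩
    rw [polar_smul_right, smul_eq_mul, inv_mul_cancel₀ hw]
  have hV : Nontrivial V := Module.nontrivial_of_finrank_pos (R := F) (by omega)
  by_cases hiso : ∃ v : V, v ≠ 0 ∧ Q v = 0
  · left
    obtain ⟨v, hv0, hQv⟩ := hiso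
    obtain ⟨w, hw⟩ := hpartner v hv0
    have hwv : polar Q w v = 1 := by rw [polar_comm]; exact hw
    refine ⟨v, w + Q w • v, indep_of_polar Q _ _ ?_, hQv, ?_, ?_⟩
    · rw [polar_add_right, polar_smul_right, polar_self_char2, smul_zero, add_zero, hw]
    · rw [map_add_smul, hQv, hwv, mul_zero, add_zero, mul_one]
      exact hchar _
    · rw [polar_add_right, polar_smul_right, polar_self_char2, smul_zero, add_zero, hw]
  · right
    push Not at hiso
    obtain ⟨v₀, hv₀⟩ := exists_ne (0 : V)
    have ha : Q v₀ ≠ 0 := hiso v₀ hv₀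
    obtain ⟨c, hc⟩ := isSquare_of_charTwo' (Q v₀)
    have hc0 : c ≠ 0 := by
      rintro rfl
      apply ha
      rw [hc, mul_zero]
    have hv1 : c⁻¹ • v₀ ≠ 0 := smul_ne_zero (inv_ne_zero hc0) hv₀
    have hQv1 : Q (c⁻¹ • v₀) = 1 := by
      rw [QuadraticMap.map_smul, hc, smul_eq_mul]
      field_simp
    obtain ⟨w, hw⟩ := hpartner _ hv1
    have hwv : polar Q w (c⁻¹ • v₀) = 1 := by rw [polar_comm]; exact hw
    refine ⟨c⁻¹ • v₀, w, Q w, indep_of_polar Q _ _ hw, ?_, hQv1, rfl, hw⟩
    intro x hx
    have h3 : Q (w + x • (c⁻¹ • v₀)) = 0 := by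
      rw [map_add_smul, hQv1, hwv]
      linear_combination hx
    have h4 : w + x • (c⁻¹ • v₀) = 0 := by
      by_contra hne
      exact hiso _ hne h3
    have hind := indep_of_polar Q _ _ hw
    rw [LinearIndependent.pair_iff] at hind
    have h5 := hind x 1 (by rw [one_smul, add_comm]; exact h4)
    exact one_ne_zero h5.2

end Cfsg.Agent.S0763
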