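import Cfsg.Statements.S0769
import Mathlib

set_option autoImplicit false
open Cfsg

namespace Cfsg.Agent.S0769

open Matrix

section
variable {F : Type*} [Field F] [Fintype F]

/-- entrywise condition -/
def C (n : ℕ) (i j : Fin n) (x : F) : Prop := (i < j → x = 0) ∧ (i = j → x ≠ 0)

theorem det_ne_zero_of (n : ℕ) (M : Matrix (Fin n) (Fin n) F) (hM : ∀ i j, C n i j (M i j)) :
    M.det ≠ 0 := by
  have hlow : M.IsLowerTriangular := by
    intro i j hij
    exact (hM i j).1 hij
  rw [Matrix.det_of_isLowerTriangular M hlow, Finset.prod_ne_zero_iff]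
  intro i _
  exact (hM i i).2 rfl

/-- the equivalence between lower triangular invertible matrices and entrywise-constrained matrices -/
noncomputable def e1 (n : ℕ) :
    {g : Matrix.GeneralLinearGroup (Fin n) F // ∀ i j : Fin n, i < j → (g : Matrix (Fin n) (Fin n) F) i j = 0} ≃
    {M : Fin n → Fin n → F // ∀ i, ∀ j, C n i j (M i j)} where
  toFun g := ⟨fun i j => (g.1 : Matrix (Fin n) (Fin n) F) i j, by
    intro i j
    refine ⟨g.2 i j, ?_⟩
    intro hij hzero
    subst hij
    have hlow : (g.1 : Matrix (Fin n) (Fin n) F).IsLowerTriangular := by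
      intro a b hab
      exact g.2 a b hab
    have hdet := Matrix.det_of_isLowerTriangular _ hlow
    have hunit : IsUnit (g.1 : Matrix (Fin n) (Fin n) F).det :=
      (Matrix.isUnit_iff_isUnit_det _).mp g.1.isUnit
    rw [hdet] at hunit
    have := hunit.ne_zero
    apply this
    exact Finset.prod_eq_zero (Finset.mem_univ i) hzero⟩
  invFun M := ⟨Matrix.GeneralLinearGroup.mkOfDetNeZero (Matrix.of M.1) (det_ne_zero_of n _ M.2), by
    intro i j hij
    exact (M.2 i j).1 hij⟩
  left_inv g := by
    apply Subtype.ext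
    apply Units.ext
    rfl
  right_inv M := by
    apply Subtype.ext
    rfl

theorem card_C (n : ℕ) (i j : Fin n) :
    Nat.card {x : F // C n i j x} =
      (if j < i then Fintype.card F else 1) * (if j = i then Fintype.card F - 1 else 1) := by
  classical
  rcases lt_trichotomy i j with h | h | h
  · -- i < j : only zero
    rw [if_neg (not_lt.mpr h.le), if_neg (ne_of_gt h), mul_one]
    rw [Nat.card_eq_one_iff_unique]
    refine ⟨⟨?_⟩, ⟨⟨0, fun _ => rfl, fun hij => absurd hij (ne_of_lt h)⟩⟩⟩
    rintro ⟨x, hx⟩ ⟨y, hy⟩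
    apply Subtype.ext
    show x = y
    rw [hx.1 h, hy.1 h]
  · subst h
    rw [if_neg (lt_irrefl _), if_pos rfl, one_mul]
    have : Nat.card {x : F // C n i i x} = Nat.card {x : F // x ≠ 0} := by
      apply Nat.card_congr
      exact Equiv.subtypeEquivRight (fun x => ⟨fun hx => hx.2 rfl,
        fun hx => ⟨fun hlt => absurd hlt (lt_irrefl _), fun _ => hx⟩⟩)
    rw [this, Nat.card_eq_fintype_card, Fintype.card_subtype_compl, Fintype.card_subtype_eq]
  · rw [if_pos h, if_neg (ne_of_lt h), mul_one]
    have : Nat.card {x : F // C n i j x} = Nat.card {x : F // True} := by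
      apply Nat.card_congr
      exact Equiv.subtypeEquivRight (fun x => ⟨fun _ => trivial,
        fun _ => ⟨fun hlt => absurd hlt (not_lt.mpr h.le), fun he => absurd he (ne_of_gt h)⟩⟩)
    rw [this, Nat.card_congr (Equiv.subtypeUnivEquiv (fun _ => trivial)), Nat.card_eq_fintype_card]

end

/-- Order of the Borel subgroup of GL_n(q): the invertible lower-triangular n × n matrices over a field with q elements number q^(n(n-1)/2) (q-1)^n (unitriangular part times the diagonal torus). -/
theorem result {F : Type*} [Field F] [Fintype F] {q : ℕ} (hF : Fintype.card F = q) (n : ℕ) : Nat.card {g : Matrix.GeneralLinearGroup (Fin n) F // ∀ i j : Fin n, i < j → (g : Matrix (Fin n) (Fin n) F) i j = 0} = q ^ (n * (n - 1) / 2) * (q - 1) ^ n := by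
  classical
  rw [Nat.card_congr (e1 n)]
  rw [Nat.card_congr (Equiv.subtypePiEquivPi (p := fun i (Mi : Fin n → F) => ∀ j, C n i j (Mi j)))]
  rw [Nat.card_pi]
  have hrow : ∀ i : Fin n, Nat.card {Mi : Fin n → F // ∀ j, C n i j (Mi j)} =
      q ^ (i : ℕ) * (q - 1) := by
    intro i
    rw [Nat.card_congr (Equiv.subtypePiEquivPi (p := fun j (x : F) => C n i j x)),
      Nat.card_pi]
    simp_rw [card_C, hF]
    rw [Finset.prod_mul_distrib, Finset.prod_ite_eq' Finset.univ i, if_pos (Finset.mem_univ _)]
    congr 1
    rw [Finset.prod_ite, Finset.prod_const_one, mul_one, Finset.prod_const]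
    congr 1
    have : (Finset.univ.filter (fun j : Fin n => j < i)) = Finset.Iio i := by
      ext j; simp
    rw [this, Fin.card_Iio]
  simp_rw [hrow]
  rw [Finset.prod_mul_distrib, Finset.prod_const, Finset.card_univ, Fintype.card_fin,
    Finset.prod_pow_eq_pow_sum]
  congr 2
  rw [Fin.sum_univ_eq_sum_range (fun i => i) n, Finset.sum_range_id]

end Cfsg.Agent.S0769
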