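import Cfsg.Statements.S0770
import Mathlib

set_option autoImplicit false
open Cfsg

namespace Cfsg.Agent.S0770

open Matrix

section
variable {F : Type*} [Field F] (n : ℕ)

local notation "M" => Matrix (Fin n) (Fin n) F

/-- the diagonal torus -/
abbrev D : Subgroup (Matrix.GeneralLinearGroup (Fin n) F) :=
  (Units.map (Matrix.diagonalRingHom (Fin n) F).toMonoidHom).range

theorem mem_D_iff (h : Matrix.GeneralLinearGroup (Fin n) F) :
    h ∈ D (F := F) n ↔ ∀ i j : Fin n, i ≠ j → (h : M) i j = 0 := by
  constructor
  · rintro ⟨u, rfl⟩ i j hij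
    show Matrix.diagonal (u : Fin n → F) i j = 0
    exact Matrix.diagonal_apply_ne _ hij
  · intro hd
    have heq : (h : M) = Matrix.diagonal (fun i => (h : M) i i) := by
      ext i j
      by_cases hij : i = j
      · subst hij; simp
      · rw [Matrix.diagonal_apply_ne _ hij]; exact hd i j hij
    have hdet : (h : M).det ≠ 0 := by
      have : IsUnit (h : M).det := (Matrix.isUnit_iff_isUnit_det _).mp h.isUnit
      exact this.ne_zero
    have hne : ∀ i, (h : M) i i ≠ 0 := by
      intro i hi
      apply hdet
      rw [heq, Matrix.det_diagonal]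
      exact Finset.prod_eq_zero (Finset.mem_univ i) hi
    let u : (Fin n → F)ˣ :=
      ⟨fun i => (h : M) i i, fun i => ((h : M) i i)⁻¹,
        by funext i; simp [hne i], by funext i; simp [hne i]⟩
    refine ⟨u, ?_⟩
    apply Units.ext
    show Matrix.diagonal (fun i => (h : M) i i) = (h : M)
    exact heq.symm

theorem coe_conj (g h : Matrix.GeneralLinearGroup (Fin n) F) :
    ((g * h * g⁻¹ : Matrix.GeneralLinearGroup (Fin n) F) : M) * (g : M) = (g : M) * (h : M) := by
  have : (g * h * g⁻¹) * g = g * h := by group
  have h2 := congrArg (fun x : Matrix.GeneralLinearGroup (Fin n) F => (x : M)) this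
  simpa using h2

theorem exists_row_ne_zero (g : Matrix.GeneralLinearGroup (Fin n) F) (i : Fin n) :
    ∃ j, (g : M) i j ≠ 0 := by
  by_contra hcon
  push Not at hcon
  have : IsUnit (g : M).det := (Matrix.isUnit_iff_isUnit_det _).mp g.isUnit
  exact this.ne_zero (Matrix.det_eq_zero_of_row_eq_zero i hcon)

theorem exists_col_ne_zero (g : Matrix.GeneralLinearGroup (Fin n) F) (j : Fin n) :
    ∃ i, (g : M) i j ≠ 0 := by
  by_contra hcon
  push Not at hcon
  have : IsUnit (g : M).det := (Matrix.isUnit_iff_isUnit_det _).mp g.isUnit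
  exact this.ne_zero (Matrix.det_eq_zero_of_column_eq_zero j hcon)

end

/-- For a field with at least 3 elements, an invertible matrix normalises the subgroup of invertible diagonal matrices of GL_n if and only if it is monomial (exactly one non-zero entry in each row). -/
theorem result {F : Type*} [Field F] (hF : ∃ a : F, a ≠ 0 ∧ a ≠ 1) (n : ℕ) (g : Matrix.GeneralLinearGroup (Fin n) F) : g ∈ Subgroup.normalizer ((Units.map (Matrix.diagonalRingHom (Fin n) F).toMonoidHom).range : Subgroup (Matrix.GeneralLinearGroup (Fin n) F)) ↔ ∀ i : Fin n, ∃! j : Fin n, (g : Matrix (Fin n) (Fin n) F) i j ≠ 0 := by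
  constructor
  · intro hg i
    obtain ⟨j, hj⟩ := exists_row_ne_zero n g i
    refine ⟨j, hj, ?_⟩
    intro k hk
    by_contra hkj
    obtain ⟨a, ha0, ha1⟩ := hF
    -- t = diag with a at position j
    let d : Fin n → F := fun l => if l = j then a else 1
    have hd : ∀ l, d l ≠ 0 := by
      intro l
      by_cases hl : l = j
      · simp [d, hl, ha0]
      · simp [d, hl]
    let t : Matrix.GeneralLinearGroup (Fin n) F :=
      Matrix.GeneralLinearGroup.mkOfDetNeZero (Matrix.diagonal d) (by
        rw [Matrix.det_diagonal, Finset.prod_ne_zero_iff]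
        exact fun l _ => hd l)
    have htD : t ∈ D (F := F) n := by
      rw [mem_D_iff]
      intro l l' hll'
      exact Matrix.diagonal_apply_ne _ hll'
    have hconjD : g * t * g⁻¹ ∈ D (F := F) n := (Subgroup.mem_normalizer_iff.mp hg t).mp htD
    rw [mem_D_iff] at hconjD
    have hcomm := coe_conj n g t
    set t' : Matrix (Fin n) (Fin n) F :=
      ((g * t * g⁻¹ : Matrix.GeneralLinearGroup (Fin n) F) : Matrix (Fin n) (Fin n) F) with ht'
    have ht'diag : t' = Matrix.diagonal (fun l => t' l l) := by
      ext l l'
      by_cases hll' : l = l'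
      · subst hll'; simp
      · rw [Matrix.diagonal_apply_ne _ hll']; exact hconjD l l' hll'
    have htmat : (t : Matrix (Fin n) (Fin n) F) = Matrix.diagonal d := rfl
    rw [htmat, ht'diag] at hcomm
    have e1 := congrFun (congrFun hcomm i) j
    have e2 := congrFun (congrFun hcomm i) k
    rw [Matrix.diagonal_mul, Matrix.mul_diagonal] at e1 e2
    have hdj : d j = a := by simp [d]
    have hdk : d k = 1 := by simp [d, hkj]
    rw [hdj] at e1
    rw [hdk, mul_one] at e2
    have h1 : t' i i = a := by
      have : t' i i * (g : Matrix (Fin n) (Fin n) F) i j = a * (g : Matrix (Fin n) (Fin n) F) i j := by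
        rw [e1, mul_comm]
      exact mul_right_cancel₀ hj this
    have h2 : t' i i = 1 := by
      have : t' i i * (g : Matrix (Fin n) (Fin n) F) i k = 1 * (g : Matrix (Fin n) (Fin n) F) i k := by
        rw [e2, one_mul]
      exact mul_right_cancel₀ hk this
    exact ha1 (h1.symm.trans h2)
  · intro hmono
    choose σ hσ using hmono
    have hσ1 : ∀ i, (g : Matrix (Fin n) (Fin n) F) i (σ i) ≠ 0 := fun i => (hσ i).1
    have hσ2 : ∀ i j, (g : Matrix (Fin n) (Fin n) F) i j ≠ 0 → j = σ i := fun i j => (hσ i).2 j
    have hσsurj : Function.Surjective σ := by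
      intro j
      obtain ⟨i, hi⟩ := exists_col_ne_zero n g j
      exact ⟨i, (hσ2 i j hi).symm⟩
    have hσinj : Function.Injective σ := Finite.injective_iff_surjective.mpr hσsurj
    rw [Subgroup.mem_normalizer_iff]
    intro h
    rw [mem_D_iff, mem_D_iff]
    have hcomm := coe_conj n g h
    constructor
    · intro hd i j hij
      -- (ghg⁻¹ g)_{i, σ j'}...
      -- entry (i, σ j): (k g)_{i,σ j} = Σ_l k_{il} g_{l,σ j} = k_{ij} g_{j,σ j}
      set k : Matrix (Fin n) (Fin n) F :=
        ((g * h * g⁻¹ : Matrix.GeneralLinearGroup (Fin n) F) : Matrix (Fin n) (Fin n) F) with hk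
      have e := congrFun (congrFun hcomm i) (σ j)
      rw [Matrix.mul_apply, Matrix.mul_apply] at e
      have hl : ∑ l, k i l * (g : Matrix (Fin n) (Fin n) F) l (σ j) =
          k i j * (g : Matrix (Fin n) (Fin n) F) j (σ j) := by
        apply Finset.sum_eq_single j
        · intro l _ hlj
          have : (g : Matrix (Fin n) (Fin n) F) l (σ j) = 0 := by
            by_contra hne
            exact hlj (hσinj (hσ2 l (σ j) hne)).symm
          rw [this, mul_zero]
        · intro hj; exact absurd (Finset.mem_univ j) hj
      have hr : ∑ l, (g : Matrix (Fin n) (Fin n) F) i l * (h : Matrix (Fin n) (Fin n) F) l (σ j) = 0 := by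
        apply Finset.sum_eq_zero
        intro l _
        by_cases hgl : (g : Matrix (Fin n) (Fin n) F) i l = 0
        · rw [hgl, zero_mul]
        · have hl' : l = σ i := hσ2 i l hgl
          have hne : l ≠ σ j := by
            rw [hl']; exact fun hcon => hij (hσinj hcon)
          rw [hd l (σ j) hne, mul_zero]
      rw [hl, hr] at e
      exact (mul_eq_zero.mp e).resolve_right (hσ1 j)
    · intro hk i j hij
      set k : Matrix (Fin n) (Fin n) F :=
        ((g * h * g⁻¹ : Matrix.GeneralLinearGroup (Fin n) F) : Matrix (Fin n) (Fin n) F) with hkdef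
      -- rows: choose i' with σ i' = i
      obtain ⟨i', rfl⟩ := hσsurj i
      have e := congrFun (congrFun hcomm i') j
      rw [Matrix.mul_apply, Matrix.mul_apply] at e
      have hr : ∑ l, (g : Matrix (Fin n) (Fin n) F) i' l * (h : Matrix (Fin n) (Fin n) F) l j =
          (g : Matrix (Fin n) (Fin n) F) i' (σ i') * (h : Matrix (Fin n) (Fin n) F) (σ i') j := by
        apply Finset.sum_eq_single (σ i')
        · intro l _ hl
          have : (g : Matrix (Fin n) (Fin n) F) i' l = 0 := by
            by_contra hne
            exact hl (hσ2 i' l hne)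
          rw [this, zero_mul]
        · intro hj; exact absurd (Finset.mem_univ _) hj
      have hl : ∑ l, k i' l * (g : Matrix (Fin n) (Fin n) F) l j = 0 := by
        apply Finset.sum_eq_zero
        intro l _
        by_cases hil : i' = l
        · subst hil
          have : (g : Matrix (Fin n) (Fin n) F) i' j = 0 := by
            by_contra hne
            exact hij (hσ2 i' j hne).symm
          rw [this, mul_zero]
        · rw [hk i' l hil, zero_mul]
      rw [hl, hr] at e
      exact (mul_eq_zero.mp e.symm).resolve_left (hσ1 i')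

end Cfsg.Agent.S0770
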