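import Cfsg.Statements.S0771
-- import your own Cfsg.Agent.* helpers here

set_option autoImplicit false
open Cfsg

namespace Cfsg.Agent.S0771

open Matrix

theorem card_parabolic {F : Type*} [Field F] {ι κ₁ κ₂ : Type} [Fintype ι] [DecidableEq ι] [Fintype κ₁]
    [DecidableEq κ₁] [Fintype κ₂] [DecidableEq κ₂] (e : κ₁ ⊕ κ₂ ≃ ι) :
    Nat.card ↥(Cfsg.stabilizing (Cfsg.glToMat ι F) {v : ι → F | ∀ j, v (e (Sum.inr j)) = 0}) =
      Nat.card (GL κ₁ F) * Nat.card (GL κ₂ F) * Nat.card (Matrix κ₁ κ₂ F) := by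
  classical
  have hmem : ∀ (A : GL κ₁ F) (D : GL κ₂ F) (B : Matrix κ₁ κ₂ F),
      IsUnit (Matrix.reindex e e (fromBlocks A.1 B 0 D.1)).det := by
    intro A D B
    rw [Matrix.det_reindex_self, Matrix.det_fromBlocks_zero₂₁]
    exact ((Matrix.isUnit_iff_isUnit_det _).1 A.isUnit).mul ((Matrix.isUnit_iff_isUnit_det _).1 D.isUnit)
  have hstab : ∀ (A : GL κ₁ F) (D : GL κ₂ F) (B : Matrix κ₁ κ₂ F),
      Matrix.GeneralLinearGroup.mk'' _ (hmem A D B) ∈
        Cfsg.stabilizing (Cfsg.glToMat ι F) {v : ι → F | ∀ j, v (e (Sum.inr j)) = 0} := by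
    intro A D B v
    show (∀ j, v (e (Sum.inr j)) = 0) ↔
      ∀ j, ((Matrix.reindex e e (fromBlocks A.1 B 0 D.1)) *ᵥ v) (e (Sum.inr j)) = 0
    have key : ∀ j, ((Matrix.reindex e e (fromBlocks A.1 B 0 D.1)) *ᵥ v) (e (Sum.inr j)) =
        (D.1 *ᵥ fun j' => v (e (Sum.inr j'))) j := by
      intro j
      rw [Matrix.reindex_apply, Matrix.submatrix_mulVec_equiv]
      simp [Matrix.fromBlocks_mulVec, Function.comp_def]
    simp only [key]
    constructor
    · intro h j
      have : (fun j' => v (e (Sum.inr j'))) = 0 := funext h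
      rw [this, Matrix.mulVec_zero]; rfl
    · intro h
      have h0 : D.1 *ᵥ (fun j' => v (e (Sum.inr j'))) = 0 := funext h
      have : (fun j' => v (e (Sum.inr j'))) = (D⁻¹).1 *ᵥ (D.1 *ᵥ (fun j' => v (e (Sum.inr j')))) := by
        rw [Matrix.mulVec_mulVec, ← Units.val_mul, inv_mul_cancel, Units.val_one, Matrix.one_mulVec]
      intro j
      have := congrFun this j
      rw [h0, Matrix.mulVec_zero] at this
      exact this
  let φ : GL κ₁ F × GL κ₂ F × Matrix κ₁ κ₂ F →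
      ↥(Cfsg.stabilizing (Cfsg.glToMat ι F) {v : ι → F | ∀ j, v (e (Sum.inr j)) = 0}) :=
    fun x => ⟨Matrix.GeneralLinearGroup.mk'' _ (hmem x.1 x.2.1 x.2.2), hstab x.1 x.2.1 x.2.2⟩
  have hinj : Function.Injective φ := by
    intro x y hxy
    have h : Matrix.reindex e e (fromBlocks x.1.1 x.2.2 0 x.2.1.1) =
        Matrix.reindex e e (fromBlocks y.1.1 y.2.2 0 y.2.1.1) :=
      congrArg (fun z => (z.1 : Matrix ι ι F)) hxy
    have h' := (Matrix.reindex e e).injective h
    rw [Matrix.fromBlocks_inj] at h'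
    obtain ⟨ha, hb, -, hd⟩ := h'
    exact Prod.ext (Units.ext ha) (Prod.ext (Units.ext hd) hb)
  have hsurj : Function.Surjective φ := by
    rintro ⟨g, hg⟩
    obtain ⟨X, hXdef⟩ : ∃ X, X = Matrix.reindex e.symm e.symm (g : Matrix ι ι F) := ⟨_, rfl⟩
    obtain ⟨A, hAdef⟩ : ∃ A, A = X.toBlocks₁₁ := ⟨_, rfl⟩
    obtain ⟨B, hBdef⟩ : ∃ B, B = X.toBlocks₁₂ := ⟨_, rfl⟩
    obtain ⟨C, hCdef⟩ : ∃ C, C = X.toBlocks₂₁ := ⟨_, rfl⟩
    obtain ⟨D, hDdef⟩ : ∃ D, D = X.toBlocks₂₂ := ⟨_, rfl⟩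
    have hXb : X = fromBlocks A B C D := by
      rw [hAdef, hBdef, hCdef, hDdef, fromBlocks_toBlocks]
    have hgX : (g : Matrix ι ι F) = Matrix.reindex e e X := by
      rw [hXdef]; ext i j; simp
    have hC : C = 0 := by
      ext i j
      have hv : (Pi.single (e (Sum.inl j)) 1 : ι → F) ∈
          {v : ι → F | ∀ j, v (e (Sum.inr j)) = 0} := by
        intro j'
        simp
      have hgv := (hg _).1 hv i
      change ((g : Matrix ι ι F) *ᵥ _) _ = 0 at hgv
      rw [Matrix.mulVec_single_one, hgX, hXb] at hgv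
      simpa using hgv
    subst hC
    have hdet : IsUnit (A.det * D.det) := by
      rw [← Matrix.det_fromBlocks_zero₂₁ A B D, ← hXb, ← Matrix.det_reindex_self e X, ← hgX]
      exact (Matrix.isUnit_iff_isUnit_det _).1 g.isUnit
    have hA : IsUnit A.det := isUnit_of_mul_isUnit_left hdet
    have hD : IsUnit D.det := isUnit_of_mul_isUnit_right hdet
    refine ⟨(Matrix.GeneralLinearGroup.mk'' A hA, Matrix.GeneralLinearGroup.mk'' D hD, B), ?_⟩
    apply Subtype.ext
    apply Units.ext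
    show Matrix.reindex e e (fromBlocks A B 0 D) = (g : Matrix ι ι F)
    rw [hgX, hXb]
  rw [Nat.card_congr (Equiv.ofBijective φ ⟨hinj, hsurj⟩).symm, Nat.card_prod, Nat.card_prod,
    mul_assoc]

/-- Maximal parabolic of GL_n(q): the stabiliser of the coordinate subspace spanned by the first k basis vectors has order q^(k(n-k)) · |GL_k(q)| · |GL_(n-k)(q)| (unipotent radical of order q^(k(n-k)) and Levi complement GL_k × GL_(n-k)). -/
theorem result {F : Type*} [Field F] [Fintype F] {q : ℕ} (hF : Fintype.card F = q) (n k : ℕ) (hk : k ≤ n) : Nat.card ↥(Cfsg.stabilizing (Cfsg.glToMat (Fin n) F) {v : Fin n → F | ∀ i : Fin n, k ≤ (i : ℕ) → v i = 0}) = q ^ (k * (n - k)) * (∏ i : Fin k, (q ^ k - q ^ (i : ℕ))) * ∏ i : Fin (n - k), (q ^ (n - k) - q ^ (i : ℕ)) := by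
  classical
  obtain ⟨e, he⟩ : ∃ e : Fin k ⊕ Fin (n - k) ≃ Fin n,
      e = finSumFinEquiv.trans (finCongr (by omega : k + (n - k) = n)) := ⟨_, rfl⟩
  have hel : ∀ i : Fin k, ((e (Sum.inl i) : Fin n) : ℕ) = i := by
    intro i; rw [he]; simp
  have her : ∀ j : Fin (n - k), ((e (Sum.inr j) : Fin n) : ℕ) = k + j := by
    intro j; rw [he]; simp
  have hset : {v : Fin n → F | ∀ i : Fin n, k ≤ (i : ℕ) → v i = 0} =
      {v : Fin n → F | ∀ j, v (e (Sum.inr j)) = 0} := by
    ext v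
    simp only [Set.mem_ofPred_eq]
    constructor
    · intro h j
      apply h
      rw [her]; omega
    · intro h i hi
      obtain ⟨x, rfl⟩ := e.surjective i
      rcases x with a | b
      · rw [hel] at hi
        exact absurd a.2 (by omega)
      · exact h b
  rw [hset, card_parabolic e, Matrix.card_GL_field, Matrix.card_GL_field, hF]
  have : Nat.card (Matrix (Fin k) (Fin (n - k)) F) = q ^ (k * (n - k)) := by
    rw [Nat.card_eq_fintype_card]
    show Fintype.card (Fin k → Fin (n - k) → F) = _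
    rw [Fintype.card_fun, Fintype.card_fun, hF]
    simp [← pow_mul, mul_comm]
  rw [this]
  ring

end Cfsg.Agent.S0771
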