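import Cfsg.Statements.S0772

set_option autoImplicit false
open Cfsg Matrix

namespace Cfsg.Agent.S0772

section
variable {F : Type*} [Field F] {n : ℕ} (k : ℕ)

/-- The coordinate subspace spanned by the first `k` basis vectors. -/
def W0 : Submodule F (Fin n → F) where
  carrier := {v | ∀ i : Fin n, k ≤ (i : ℕ) → v i = 0}
  add_mem' := by
    intro a b ha hb i hi
    simp [ha i hi, hb i hi]
  zero_mem' := by
    intro i _
    rfl
  smul_mem' := by
    intro c a ha i hi
    simp [ha i hi]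

theorem mem_W0 (v : Fin n → F) : v ∈ (W0 k : Submodule F (Fin n → F)) ↔
    ∀ i : Fin n, k ≤ (i : ℕ) → v i = 0 := Iff.rfl

/-- The parabolic subgroup. -/
abbrev Par : Subgroup (Matrix.GeneralLinearGroup (Fin n) F) :=
  Cfsg.stabilizing (Cfsg.glToMat (Fin n) F) {v : Fin n → F | ∀ i : Fin n, k ≤ (i : ℕ) → v i = 0}

theorem mem_Par (u : Matrix.GeneralLinearGroup (Fin n) F) :
    u ∈ Par (F := F) (n := n) k ↔
      ∀ v : Fin n → F, v ∈ (W0 k : Submodule F (Fin n → F)) ↔
        (u : Matrix (Fin n) (Fin n) F) *ᵥ v ∈ (W0 k : Submodule F (Fin n → F)) := Iff.rfl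

theorem transvection_mulVec (i j : Fin n) (c : F) (v : Fin n → F) (a : Fin n) :
    (Matrix.transvection i j c *ᵥ v) a = v a + if a = i then c * v j else 0 := by
  rw [Matrix.transvection.eq_1, Matrix.add_mulVec, Matrix.one_mulVec, Matrix.single_mulVec]
  simp [Function.update_apply]

/-- Transvections as elements of the general linear group. -/
noncomputable def tGL (i j : Fin n) (hij : i ≠ j) (c : F) : Matrix.GeneralLinearGroup (Fin n) F :=
  ⟨Matrix.transvection i j c, Matrix.transvection i j (-c),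
    by rw [Matrix.transvection_mul_transvection_same _ _ hij]; simp,
    by rw [Matrix.transvection_mul_transvection_same _ _ hij]; simp⟩

theorem coe_tGL (i j : Fin n) (hij : i ≠ j) (c : F) :
    ((tGL i j hij c : Matrix.GeneralLinearGroup (Fin n) F) : Matrix (Fin n) (Fin n) F) =
      Matrix.transvection i j c := rfl

/-- Elementary transvections in the parabolic. -/
theorem tGL_mem_Par (i j : Fin n) (hij : i ≠ j) (c : F) (h : (i : ℕ) < k ∨ k ≤ (j : ℕ)) :
    tGL i j hij c ∈ Par (F := F) (n := n) k := by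
  rw [mem_Par]
  intro v
  rw [coe_tGL, mem_W0, mem_W0]
  rcases h with h | h
  · constructor
    · intro hv a ha
      rw [transvection_mulVec, hv a ha, if_neg, add_zero]
      intro e
      rw [e] at ha
      omega
    · intro hv a ha
      have := hv a ha
      rw [transvection_mulVec, if_neg, add_zero] at this
      · exact this
      · intro e
        rw [e] at ha
        omega
  · constructor
    · intro hv a ha
      rw [transvection_mulVec, hv a ha, hv j h]
      simp
    · intro hv a ha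
      have hj := hv j h
      rw [transvection_mulVec, if_neg (Ne.symm hij), add_zero] at hj
      have := hv a ha
      rw [transvection_mulVec, hj] at this
      simpa using this

/-- Invertible diagonal matrices are in the parabolic. -/
theorem diag_mem_Par (u : Matrix.GeneralLinearGroup (Fin n) F) (D : Fin n → F)
    (hu : (u : Matrix (Fin n) (Fin n) F) = Matrix.diagonal D) :
    u ∈ Par (F := F) (n := n) k := by
  have hdet : (Matrix.diagonal D).det ≠ 0 := by
    rw [← hu]
    exact Matrix.GeneralLinearGroup.det_ne_zero u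
  rw [Matrix.det_diagonal] at hdet
  have hD : ∀ i, D i ≠ 0 := fun i => (Finset.prod_ne_zero_iff.1 hdet) i (Finset.mem_univ i)
  rw [mem_Par]
  intro v
  rw [hu, mem_W0, mem_W0]
  constructor
  · intro hv a ha
    rw [Matrix.mulVec_diagonal, hv a ha, mul_zero]
  · intro hv a ha
    have := hv a ha
    rw [Matrix.mulVec_diagonal] at this
    exact (mul_eq_zero.1 this).resolve_left (hD a)

/-- Elements fixing the subspace pointwise are in the parabolic. -/
theorem mem_Par_of_fix (u : Matrix.GeneralLinearGroup (Fin n) F)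
    (hu : ∀ v ∈ (W0 k : Submodule F (Fin n → F)), (u : Matrix (Fin n) (Fin n) F) *ᵥ v = v) :
    u ∈ Par (F := F) (n := n) k := by
  rw [mem_Par]
  intro v
  constructor
  · intro hv
    rw [hu v hv]
    exact hv
  · intro hv
    have h1 := hu _ hv
    have h2 : ((u⁻¹ : Matrix.GeneralLinearGroup (Fin n) F) : Matrix (Fin n) (Fin n) F) *ᵥ
        ((u : Matrix (Fin n) (Fin n) F) *ᵥ ((u : Matrix (Fin n) (Fin n) F) *ᵥ v)) =
        ((u⁻¹ : Matrix.GeneralLinearGroup (Fin n) F) : Matrix (Fin n) (Fin n) F) *ᵥ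
        ((u : Matrix (Fin n) (Fin n) F) *ᵥ v) := by rw [h1]
    have h3 : ∀ x : Fin n → F,
        ((u⁻¹ : Matrix.GeneralLinearGroup (Fin n) F) : Matrix (Fin n) (Fin n) F) *ᵥ
          ((u : Matrix (Fin n) (Fin n) F) *ᵥ x) = x := by
      intro x
      rw [Matrix.mulVec_mulVec, ← Matrix.GeneralLinearGroup.coe_mul, inv_mul_cancel,
        Matrix.GeneralLinearGroup.coe_one, Matrix.one_mulVec]
    rw [h3, h3] at h2
    rw [← h2]
    exact hv


theorem inv_mulVec_mulVec (u : Matrix.GeneralLinearGroup (Fin n) F) (x : Fin n → F) :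
    ((u⁻¹ : Matrix.GeneralLinearGroup (Fin n) F) : Matrix (Fin n) (Fin n) F) *ᵥ
      ((u : Matrix (Fin n) (Fin n) F) *ᵥ x) = x := by
  rw [Matrix.mulVec_mulVec, ← Matrix.GeneralLinearGroup.coe_mul, inv_mul_cancel,
    Matrix.GeneralLinearGroup.coe_one, Matrix.one_mulVec]

/-- A conjugate of a transvection whose direction has been moved into the subspace. -/
theorem conj_tGL_mem_Par (h : Matrix.GeneralLinearGroup (Fin n) F) (w₀ : Fin n → F)
    (hw₀ : w₀ ∈ (W0 k : Submodule F (Fin n → F))) (i j : Fin n) (hij : i ≠ j) (c : F)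
    (hh : (h : Matrix (Fin n) (Fin n) F) *ᵥ w₀ = Pi.single i 1) :
    h⁻¹ * tGL i j hij c * h ∈ Par (F := F) (n := n) k := by
  have hinv : ((h⁻¹ : Matrix.GeneralLinearGroup (Fin n) F) : Matrix (Fin n) (Fin n) F) *ᵥ
      (Pi.single i 1) = w₀ := by
    rw [← hh, inv_mulVec_mulVec]
  have key : ∀ v : Fin n → F,
      ((h⁻¹ * tGL i j hij c * h : Matrix.GeneralLinearGroup (Fin n) F) :
        Matrix (Fin n) (Fin n) F) *ᵥ v =
        v + (c * ((h : Matrix (Fin n) (Fin n) F) *ᵥ v) j) • w₀ := by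
    intro v
    rw [Matrix.GeneralLinearGroup.coe_mul, Matrix.GeneralLinearGroup.coe_mul, coe_tGL,
      ← Matrix.mulVec_mulVec, ← Matrix.mulVec_mulVec]
    have h1 : Matrix.transvection i j c *ᵥ ((h : Matrix (Fin n) (Fin n) F) *ᵥ v) =
        (h : Matrix (Fin n) (Fin n) F) *ᵥ v +
          (c * ((h : Matrix (Fin n) (Fin n) F) *ᵥ v) j) • Pi.single i 1 := by
      rw [Matrix.transvection.eq_1, Matrix.add_mulVec, Matrix.one_mulVec,
        Matrix.single_mulVec_eq]
    rw [h1, Matrix.mulVec_add, Matrix.mulVec_smul, inv_mulVec_mulVec, hinv]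
  rw [mem_Par]
  intro v
  rw [key v]
  exact (Submodule.add_mem_iff_left _ (Submodule.smul_mem _ _ hw₀)).symm

variable {k}

theorem exists_moved {H : Subgroup (Matrix.GeneralLinearGroup (Fin n) F)}
    {g : Matrix.GeneralLinearGroup (Fin n) F} (hgH : g ∈ H)
    (hg : g ∉ Par (F := F) (n := n) k) :
    ∃ g' ∈ H, ∃ w₀ ∈ (W0 k : Submodule F (Fin n → F)),
      (g' : Matrix (Fin n) (Fin n) F) *ᵥ w₀ ∉ (W0 k : Submodule F (Fin n → F)) := by
  rw [mem_Par] at hg
  push Not at hg
  obtain ⟨v, hv⟩ := hg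
  by_cases hv0 : v ∈ (W0 k : Submodule F (Fin n → F))
  · refine ⟨g, hgH, v, hv0, ?_⟩
    intro h'
    rcases hv with hv | hv
    · exact hv.2 h'
    · exact hv.1 hv0
  · have hgv : (g : Matrix (Fin n) (Fin n) F) *ᵥ v ∈ (W0 k : Submodule F (Fin n → F)) := by
      rcases hv with hv | hv
      · exact absurd hv.1 hv0
      · exact hv.2
    refine ⟨g⁻¹, H.inv_mem hgH, _, hgv, ?_⟩
    rw [inv_mulVec_mulVec]
    exact hv0

theorem exists_coord_ne {H : Subgroup (Matrix.GeneralLinearGroup (Fin n) F)}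
    (hPH : Par (F := F) (n := n) k ≤ H)
    {g : Matrix.GeneralLinearGroup (Fin n) F} (hgH : g ∈ H)
    (hg : g ∉ Par (F := F) (n := n) k) (i : Fin n) (hi : k ≤ (i : ℕ)) :
    ∃ g' ∈ H, ∃ w₀ ∈ (W0 k : Submodule F (Fin n → F)),
      ((g' : Matrix (Fin n) (Fin n) F) *ᵥ w₀) i ≠ 0 := by
  obtain ⟨g', hg'H, w₀, hw₀, hw⟩ := exists_moved hgH hg
  rw [mem_W0] at hw
  push Not at hw
  obtain ⟨l, hl, hwl⟩ := hw
  by_cases hwi : ((g' : Matrix (Fin n) (Fin n) F) *ᵥ w₀) i = 0
  · have hil : i ≠ l := by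
      rintro rfl
      exact hwl hwi
    refine ⟨tGL i l hil 1 * g', H.mul_mem (hPH (tGL_mem_Par k i l hil 1 (Or.inr hl))) hg'H,
      w₀, hw₀, ?_⟩
    rw [Matrix.GeneralLinearGroup.coe_mul, coe_tGL, ← Matrix.mulVec_mulVec, transvection_mulVec,
      if_pos rfl, hwi, zero_add, one_mul]
    exact hwl
  · exact ⟨g', hg'H, w₀, hw₀, hwi⟩

theorem exists_to_single {H : Subgroup (Matrix.GeneralLinearGroup (Fin n) F)}
    (hPH : Par (F := F) (n := n) k ≤ H)
    {g : Matrix.GeneralLinearGroup (Fin n) F} (hgH : g ∈ H)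
    (hg : g ∉ Par (F := F) (n := n) k) (i : Fin n) (hi : k ≤ (i : ℕ)) :
    ∃ h ∈ H, ∃ w₀ ∈ (W0 k : Submodule F (Fin n → F)),
      (h : Matrix (Fin n) (Fin n) F) *ᵥ w₀ = Pi.single i 1 := by
  obtain ⟨g', hg'H, w₀, hw₀, hwi⟩ := exists_coord_ne hPH hgH hg i hi
  obtain ⟨w, hw⟩ : ∃ w, w = (g' : Matrix (Fin n) (Fin n) F) *ᵥ w₀ := ⟨_, rfl⟩
  rw [← hw] at hwi
  let M : Matrix (Fin n) (Fin n) F := (1 : Matrix (Fin n) (Fin n) F).updateCol i w
  have hdet : M.det ≠ 0 := by
    have : M.det = w i := by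
      rw [← Matrix.cramer_apply, Matrix.cramer_one]
      rfl
    rw [this]
    exact hwi
  let uM : Matrix.GeneralLinearGroup (Fin n) F := Matrix.GeneralLinearGroup.mkOfDetNeZero M hdet
  have huM : (uM : Matrix (Fin n) (Fin n) F) = M := rfl
  have hfix : ∀ v : Fin n → F, v i = 0 → M *ᵥ v = v := by
    intro v hv
    funext a
    rw [Matrix.mulVec, dotProduct]
    have : ∀ b, M a b * v b = (1 : Matrix (Fin n) (Fin n) F) a b * v b := by
      intro b
      by_cases hb : b = i
      · subst hb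
        rw [hv, mul_zero, mul_zero]
      · change (Matrix.updateCol (1 : Matrix (Fin n) (Fin n) F) i w) a b * v b = _
        rw [Matrix.updateCol_ne hb]
    rw [Finset.sum_congr rfl fun b _ => this b]
    have := congrFun (Matrix.one_mulVec v) a
    rw [Matrix.mulVec, dotProduct] at this
    exact this
  have huMP : uM ∈ Par (F := F) (n := n) k := by
    apply mem_Par_of_fix
    intro v hv
    rw [huM]
    exact hfix v (hv i hi)
  have hcol : M *ᵥ Pi.single i 1 = w := by
    rw [Matrix.mulVec_single_one]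
    funext a
    rw [Matrix.col_apply]
    change (Matrix.updateCol (1 : Matrix (Fin n) (Fin n) F) i w) a i = _
    rw [Matrix.updateCol_self]
  refine ⟨uM⁻¹ * g', H.mul_mem (H.inv_mem (hPH huMP)) hg'H, w₀, hw₀, ?_⟩
  rw [Matrix.GeneralLinearGroup.coe_mul, ← Matrix.mulVec_mulVec, ← hw, ← hcol, ← huM,
    inv_mulVec_mulVec]

theorem eq_top_of_lt {H : Subgroup (Matrix.GeneralLinearGroup (Fin n) F)}
    (hlt : Par (F := F) (n := n) k < H) : H = ⊤ := by
  obtain ⟨g, hgH, hg⟩ := SetLike.exists_of_lt hlt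
  have hPH := hlt.le
  rw [eq_top_iff]
  intro u _
  have main : ∃ u' ∈ H, (u' : Matrix (Fin n) (Fin n) F) = (u : Matrix (Fin n) (Fin n) F) := by
    refine Matrix.diagonal_transvection_induction_of_det_ne_zero
      (fun M => ∃ u' ∈ H, (u' : Matrix (Fin n) (Fin n) F) = M) _
      (Matrix.GeneralLinearGroup.det_ne_zero u) ?_ ?_ ?_
    · intro D hD
      refine ⟨Matrix.GeneralLinearGroup.mkOfDetNeZero _ hD, hPH (diag_mem_Par k _ D rfl), rfl⟩
    · intro t
      by_cases ht : (t.i : ℕ) < k ∨ k ≤ (t.j : ℕ)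
      · exact ⟨tGL t.i t.j t.hij t.c, hPH (tGL_mem_Par k _ _ _ _ ht), rfl⟩
      · push Not at ht
        obtain ⟨h, hhH, w₀, hw₀, hhw⟩ := exists_to_single hPH hgH hg t.i ht.1
        have h1 := hPH (conj_tGL_mem_Par k h w₀ hw₀ t.i t.j t.hij t.c hhw)
        refine ⟨tGL t.i t.j t.hij t.c, ?_, rfl⟩
        have h2 : tGL t.i t.j t.hij t.c = h * (h⁻¹ * tGL t.i t.j t.hij t.c * h) * h⁻¹ := by
          group
        rw [h2]
        exact H.mul_mem (H.mul_mem hhH h1) (H.inv_mem hhH)
    · rintro A B _ _ ⟨a, haH, rfl⟩ ⟨b, hbH, rfl⟩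
      exact ⟨a * b, H.mul_mem haH hbH, rfl⟩
  obtain ⟨u', hu'H, hu'⟩ := main
  have : u' = u := Units.ext hu'
  rw [← this]
  exact hu'H

end

theorem result {F : Type*} [Field F] [Finite F] (n k : ℕ) (hk0 : 0 < k) (hkn : k < n) : IsCoatom (Cfsg.stabilizing (Cfsg.glToMat (Fin n) F) {v : Fin n → F | ∀ i : Fin n, k ≤ (i : ℕ) → v i = 0}) := by
  constructor
  · intro htop
    have h0n : 0 < n := lt_trans hk0 hkn
    have hne : (⟨k, hkn⟩ : Fin n) ≠ ⟨0, h0n⟩ := by
      intro e
      have := congrArg Fin.val e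
      simp at this
      omega
    have hmem : tGL (F := F) ⟨k, hkn⟩ ⟨0, h0n⟩ hne 1 ∈ Par (F := F) (n := n) k := by
      change _ ∈ Cfsg.stabilizing (Cfsg.glToMat (Fin n) F) _
      rw [htop]
      exact Subgroup.mem_top _
    rw [mem_Par] at hmem
    have h1 : (Pi.single (⟨0, h0n⟩ : Fin n) (1 : F)) ∈ (W0 k : Submodule F (Fin n → F)) := by
      intro a ha
      rw [Pi.single_apply, if_neg]
      intro e
      rw [e] at ha
      simp at ha
      omega
    have h2 := (hmem _).1 h1 ⟨k, hkn⟩ (le_refl _)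
    rw [coe_tGL, transvection_mulVec, if_pos rfl, Pi.single_apply, if_neg hne, one_mul,
      Pi.single_eq_same, zero_add] at h2
    exact one_ne_zero h2
  · intro H hlt
    exact eq_top_of_lt hlt

end Cfsg.Agent.S0772
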