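import Cfsg.Statements.S0773
import Mathlib
-- import your own Cfsg.Agent.* helpers here

set_option autoImplicit false
open Cfsg

namespace Cfsg.Agent.S0773

open Matrix
variable {F : Type*} [Field F]


/-- invertible matrix mapping a submodule into itself stabilises it -/
theorem mem_stab_iff {ι : Type} [Fintype ι] [DecidableEq ι] (W : Submodule F (ι → F)) (g : GL ι F) :
    g ∈ Cfsg.stabilizing (Cfsg.glToMat ι F) (W : Set (ι → F)) ↔
      ∀ v ∈ W, (g : Matrix ι ι F) *ᵥ v ∈ W := by
  constructor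
  · intro h v hv
    exact (h v).1 hv
  · intro h v
    refine ⟨h v, fun hgv => ?_⟩
    -- restricted map is injective hence surjective
    let f : W →ₗ[F] W := (Matrix.toLin' (g : Matrix ι ι F)).restrict (p := W) (q := W)
      (fun x hx => by simpa [Matrix.toLin'_apply] using h x hx)
    have hinj : Function.Injective f := by
      intro x y hxy
      have h1 : (g : Matrix ι ι F) *ᵥ (x : ι → F) = (g : Matrix ι ι F) *ᵥ (y : ι → F) := by
        have := congrArg Subtype.val hxy
        simpa [f, Matrix.toLin'_apply] using this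
      have h2 : ((g⁻¹ : GL ι F) : Matrix ι ι F) *ᵥ ((g : Matrix ι ι F) *ᵥ (x : ι → F)) =
          ((g⁻¹ : GL ι F) : Matrix ι ι F) *ᵥ ((g : Matrix ι ι F) *ᵥ (y : ι → F)) := by rw [h1]
      rw [Matrix.mulVec_mulVec, Matrix.mulVec_mulVec, ← Units.val_mul, inv_mul_cancel, Units.val_one,
        Matrix.one_mulVec, Matrix.one_mulVec] at h2
      exact Subtype.ext h2
    have hsurj : Function.Surjective f := LinearMap.surjective_of_injective hinj
    obtain ⟨w, hw⟩ := hsurj ⟨_, hgv⟩
    have h1 : (g : Matrix ι ι F) *ᵥ (w : ι → F) = (g : Matrix ι ι F) *ᵥ v := by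
      have := congrArg Subtype.val hw
      simpa [f, Matrix.toLin'_apply] using this
    have h2 : ((g⁻¹ : GL ι F) : Matrix ι ι F) *ᵥ ((g : Matrix ι ι F) *ᵥ (w : ι → F)) =
        ((g⁻¹ : GL ι F) : Matrix ι ι F) *ᵥ ((g : Matrix ι ι F) *ᵥ v) := by rw [h1]
    rw [Matrix.mulVec_mulVec, Matrix.mulVec_mulVec, ← Units.val_mul, inv_mul_cancel, Units.val_one,
      Matrix.one_mulVec, Matrix.one_mulVec] at h2
    rw [← h2]
    exact w.2

/-- the coordinate subspace -/
def Wsub (n j : ℕ) (F : Type*) [Field F] : Submodule F (Fin n → F) where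
  carrier := {v : Fin n → F | ∀ i : Fin n, j ≤ (i : ℕ) → v i = 0}
  add_mem' := by
    intro a b ha hb i hi
    simp [ha i hi, hb i hi]
  zero_mem' := by intro i _; rfl
  smul_mem' := by
    intro c a ha i hi
    simp [ha i hi]

theorem mem_P_iff {n j : ℕ} (g : GL (Fin n) F) :
    g ∈ Cfsg.stabilizing (Cfsg.glToMat (Fin n) F) {v : Fin n → F | ∀ i : Fin n, j ≤ (i : ℕ) → v i = 0} ↔
      ∀ i c : Fin n, j ≤ (i : ℕ) → (c : ℕ) < j → (g : Matrix _ _ F) i c = 0 := by
  have := mem_stab_iff (Wsub n j F) g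
  change g ∈ Cfsg.stabilizing (Cfsg.glToMat (Fin n) F) {v : Fin n → F | ∀ i : Fin n, j ≤ (i : ℕ) → v i = 0} ↔ _ at this
  rw [this]
  constructor
  · intro h i c hi hc
    have hv : (Pi.single c 1 : Fin n → F) ∈ Wsub n j F := by
      intro i' hi'
      have : i' ≠ c := by
        intro hh; rw [hh] at hi'; omega
      simp [this]
    have := h _ hv i hi
    rw [Matrix.mulVec_single_one] at this
    simpa using this
  · intro h v hv i hi
    rw [Matrix.mulVec, dotProduct]
    apply Finset.sum_eq_zero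
    intro c _
    by_cases hc : (c : ℕ) < j
    · rw [h i c hi hc, zero_mul]
    · rw [hv c (by omega), mul_zero]


/-- inverse transpose conjugated by the reversal permutation -/
def theta {n : ℕ} (g : GL (Fin n) F) : GL (Fin n) F :=
  ⟨((g⁻¹).1ᵀ).submatrix Fin.revPerm Fin.revPerm,
   (g.1ᵀ).submatrix Fin.revPerm Fin.revPerm,
   by
     rw [Matrix.submatrix_mul_equiv, ← Matrix.transpose_mul, ← Units.val_mul, mul_inv_cancel,
       Units.val_one, Matrix.transpose_one, Matrix.submatrix_one_equiv],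
   by
     rw [Matrix.submatrix_mul_equiv, ← Matrix.transpose_mul, ← Units.val_mul, inv_mul_cancel,
       Units.val_one, Matrix.transpose_one, Matrix.submatrix_one_equiv]⟩

theorem theta_apply {n : ℕ} (g : GL (Fin n) F) (i c : Fin n) :
    (theta g).1 i c = (g⁻¹).1 c.rev i.rev := rfl

theorem theta_mul {n : ℕ} (g h : GL (Fin n) F) : theta (g * h) = theta g * theta h := by
  apply Units.ext
  show (((g * h)⁻¹).1ᵀ).submatrix Fin.revPerm Fin.revPerm =
    ((g⁻¹).1ᵀ).submatrix Fin.revPerm Fin.revPerm *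
    ((h⁻¹).1ᵀ).submatrix Fin.revPerm Fin.revPerm
  rw [Matrix.submatrix_mul_equiv, ← Matrix.transpose_mul, ← Units.val_mul, _root_.mul_inv_rev]

theorem theta_inv {n : ℕ} (g : GL (Fin n) F) : (theta g)⁻¹ = theta g⁻¹ := by
  apply Units.ext
  show (g.1ᵀ).submatrix Fin.revPerm Fin.revPerm =
    (((g⁻¹)⁻¹).1ᵀ).submatrix Fin.revPerm Fin.revPerm
  rw [inv_inv]

theorem theta_theta {n : ℕ} (g : GL (Fin n) F) : theta (theta g) = g := by
  apply Units.ext
  ext i c
  rw [theta_apply, theta_inv, theta_apply, inv_inv, Fin.rev_rev, Fin.rev_rev]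

theorem theta_mem {n k j : ℕ} (hkj : k + j = n) (g : GL (Fin n) F)
    (hg : ∀ i c : Fin n, k ≤ (i : ℕ) → (c : ℕ) < k → (g⁻¹).1 i c = 0) :
    ∀ i c : Fin n, j ≤ (i : ℕ) → (c : ℕ) < j → (theta g).1 i c = 0 := by
  intro i c hi hc
  rw [theta_apply]
  apply hg
  · rw [Fin.val_rev]; omega
  · rw [Fin.val_rev]; omega


theorem finrank_Wsub {n j : ℕ} (hj : j ≤ n) : Module.finrank F (Wsub n j F) = j := by
  let e : Wsub n j F ≃ₗ[F] (Fin j → F) :=
    { toFun := fun v c => v.1 (Fin.castLE hj c)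
      map_add' := by intro a b; rfl
      map_smul' := by intro c a; rfl
      invFun := fun x => ⟨fun i => if h : (i : ℕ) < j then x ⟨i, h⟩ else 0, by
        intro i hi
        have : ¬ (i : ℕ) < j := by omega
        simp [this]⟩
      left_inv := by
        intro v
        apply Subtype.ext
        funext i
        by_cases h : (i : ℕ) < j
        · simp [h]
        · simp only [h, dite_false]
          exact (v.2 i (by omega)).symm
      right_inv := by
        intro x
        funext c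
        simp }
  rw [e.finrank_eq, Module.finrank_fin_fun]

theorem vec_eq_sum {n : ℕ} (v : Fin n → F) : v = ∑ r, v r • (Pi.single r (1 : F) : Fin n → F) := by
  funext i
  simp [Finset.sum_apply, Pi.single_apply]

theorem mem_of_support {n : ℕ} (U : Submodule F (Fin n → F)) (v : Fin n → F)
    (h : ∀ r, v r ≠ 0 → (Pi.single r (1 : F) : Fin n → F) ∈ U) : v ∈ U := by
  rw [vec_eq_sum v]
  apply Submodule.sum_mem
  intro r _
  by_cases hr : v r = 0
  · rw [hr, zero_smul]; exact U.zero_mem
  · exact U.smul_mem _ (h r hr)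

theorem single_mem_of {n : ℕ} (U : Submodule F (Fin n → F)) (u : Fin n → F) (hu : u ∈ U) (i : Fin n)
    (hi : u i ≠ 0) (h : ∀ r, r ≠ i → u r ≠ 0 → (Pi.single r (1 : F) : Fin n → F) ∈ U) :
    (Pi.single i (1 : F) : Fin n → F) ∈ U := by
  have h1 : u - u i • (Pi.single i (1 : F) : Fin n → F) ∈ U := by
    apply mem_of_support
    intro r hr
    have hri : r ≠ i := by
      intro hri
      apply hr
      rw [hri]
      simp
    apply h r hri
    intro h0
    apply hr
    simp [h0, hri]
  have h2 : u i • (Pi.single i (1 : F) : Fin n → F) ∈ U := by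
    have := U.sub_mem hu h1
    simpa using this
  have := U.smul_mem (u i)⁻¹ h2
  rwa [smul_smul, inv_mul_cancel₀ hi, one_smul] at this
theorem transv_key {n j : ℕ} (U : Submodule F (Fin n → F))
    (hU : ∀ h ∈ Cfsg.stabilizing (Cfsg.glToMat (Fin n) F) {v : Fin n → F | ∀ i : Fin n, j ≤ (i : ℕ) → v i = 0},
      ∀ u ∈ U, (h : Matrix _ _ F) *ᵥ u ∈ U)
    (u : Fin n → F) (hu : u ∈ U) (i r : Fin n) (hri : r ≠ i) (hcase : j ≤ (i : ℕ) ∨ (r : ℕ) < j)
    (hi : u i ≠ 0) : (Pi.single r (1 : F) : Fin n → F) ∈ U := by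
  have hdet : IsUnit (Matrix.transvection r i (1 : F)).det := by
    rw [Matrix.det_transvection_of_ne _ _ hri]; exact isUnit_one
  have hT : Matrix.GeneralLinearGroup.mk'' _ hdet ∈
      Cfsg.stabilizing (Cfsg.glToMat (Fin n) F) {v : Fin n → F | ∀ i : Fin n, j ≤ (i : ℕ) → v i = 0} := by
    rw [mem_P_iff]
    intro a c ha hc
    show Matrix.transvection r i (1 : F) a c = 0
    have hac : a ≠ c := by
      intro hh; rw [hh] at ha; omega
    rw [Matrix.transvection, Matrix.add_apply, Matrix.one_apply_ne hac, zero_add, Matrix.single_apply]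
    rw [if_neg]
    rintro ⟨h1, h2⟩
    rcases hcase with hc' | hc'
    · rw [h2] at hc'; omega
    · rw [h1] at hc'; omega
  have h1 := hU _ hT u hu
  have h2 : (Matrix.transvection r i (1 : F)) *ᵥ u = u + u i • (Pi.single r (1 : F) : Fin n → F) := by
    rw [Matrix.transvection, Matrix.add_mulVec, Matrix.one_mulVec, Matrix.single_mulVec_eq, one_mul]
  change (Matrix.transvection r i (1 : F)) *ᵥ u ∈ U at h1
  rw [h2] at h1
  have h3 : u i • (Pi.single r (1 : F) : Fin n → F) ∈ U := by
    have := U.sub_mem h1 hu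
    simpa using this
  have := U.smul_mem (u i)⁻¹ h3
  rwa [smul_smul, inv_mul_cancel₀ hi, one_smul] at this

theorem invariant_cases {n j : ℕ} (U : Submodule F (Fin n → F))
    (hU : ∀ h ∈ Cfsg.stabilizing (Cfsg.glToMat (Fin n) F) {v : Fin n → F | ∀ i : Fin n, j ≤ (i : ℕ) → v i = 0},
      ∀ u ∈ U, (h : Matrix _ _ F) *ᵥ u ∈ U) :
    U = ⊥ ∨ U = Wsub n j F ∨ U = ⊤ := by
  by_cases hA : ∃ u ∈ U, ∃ i : Fin n, j ≤ (i : ℕ) ∧ u i ≠ 0
  · right; right
    obtain ⟨u, hu, i, hij, hi⟩ := hA
    have hr : ∀ r, r ≠ i → (Pi.single r (1 : F) : Fin n → F) ∈ U :=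
      fun r hri => transv_key U hU u hu i r hri (Or.inl hij) hi
    have hi' : (Pi.single i (1 : F) : Fin n → F) ∈ U :=
      single_mem_of U u hu i hi (fun r hri _ => hr r hri)
    rw [eq_top_iff]
    intro v _
    apply mem_of_support
    intro r _
    by_cases hri : r = i
    · rw [hri]; exact hi'
    · exact hr r hri
  · push Not at hA
    by_cases hB : U = ⊥
    · left; exact hB
    · right; left
      obtain ⟨u, hu, hu0⟩ := (Submodule.ne_bot_iff U).1 hB
      obtain ⟨i, hi⟩ : ∃ i, u i ≠ 0 := by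
        by_contra hcon
        push Not at hcon
        exact hu0 (funext hcon)
      have hij : (i : ℕ) < j := by
        by_contra hcon
        exact hi (hA u hu i (by omega))
      have hr : ∀ r : Fin n, (r : ℕ) < j → r ≠ i → (Pi.single r (1 : F) : Fin n → F) ∈ U :=
        fun r hrj hri => transv_key U hU u hu i r hri (Or.inr hrj) hi
      have hi' : (Pi.single i (1 : F) : Fin n → F) ∈ U := by
        apply single_mem_of U u hu i hi
        intro r hri hur
        apply hr r _ hri
        by_contra hcon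
        exact hur (hA u hu r (by omega))
      apply le_antisymm
      · intro v hv r hr'
        exact hA v hv r hr'
      · intro v hv
        apply mem_of_support
        intro r hvr
        have hrj : (r : ℕ) < j := by
          by_contra hcon
          exact hvr (hv r (by omega))
        by_cases hri : r = i
        · rw [hri]; exact hi'
        · exact hr r hrj hri

/-- The stabilisers in GL_n(F), F finite, of the coordinate subspaces of dimensions k and n − k are isomorphic groups, but when 2k ≠ n (and 0 < k < n) no element of GL_n conjugates one onto the other. -/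
theorem result {F : Type*} [Field F] [Finite F] (n k : ℕ) (hk0 : 0 < k) (hkn : k < n) (h2 : 2 * k ≠ n) : Nonempty (↥(Cfsg.stabilizing (Cfsg.glToMat (Fin n) F) {v : Fin n → F | ∀ i : Fin n, k ≤ (i : ℕ) → v i = 0}) ≃* ↥(Cfsg.stabilizing (Cfsg.glToMat (Fin n) F) {v : Fin n → F | ∀ i : Fin n, n - k ≤ (i : ℕ) → v i = 0})) ∧ ∀ g : Matrix.GeneralLinearGroup (Fin n) F, (Cfsg.stabilizing (Cfsg.glToMat (Fin n) F) {v : Fin n → F | ∀ i : Fin n, k ≤ (i : ℕ) → v i = 0}).map (MulAut.conj g).toMonoidHom ≠ Cfsg.stabilizing (Cfsg.glToMat (Fin n) F) {v : Fin n → F | ∀ i : Fin n, n - k ≤ (i : ℕ) → v i = 0} := by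
  have hmem : ∀ (a b : ℕ), a + b = n → ∀ x : GL (Fin n) F,
      x ∈ Cfsg.stabilizing (Cfsg.glToMat (Fin n) F) {v : Fin n → F | ∀ i : Fin n, a ≤ (i : ℕ) → v i = 0} →
      theta x ∈ Cfsg.stabilizing (Cfsg.glToMat (Fin n) F) {v : Fin n → F | ∀ i : Fin n, b ≤ (i : ℕ) → v i = 0} := by
    intro a b hab x hx
    rw [mem_P_iff]
    apply theta_mem hab
    exact (mem_P_iff _).1 (inv_mem hx)
  refine ⟨⟨{ toFun := fun x => ⟨theta x.1, hmem k (n - k) (by omega) x.1 x.2⟩
             invFun := fun y => ⟨theta y.1, hmem (n - k) k (by omega) y.1 y.2⟩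
             left_inv := fun x => Subtype.ext (theta_theta x.1)
             right_inv := fun y => Subtype.ext (theta_theta y.1)
             map_mul' := fun x y => Subtype.ext (theta_mul x.1 y.1) }⟩, ?_⟩
  intro g hconj
  -- the image subspace
  obtain ⟨U, hUdef⟩ : ∃ U : Submodule F (Fin n → F),
      U = (Wsub n k F).map (Matrix.toLin' (g : Matrix (Fin n) (Fin n) F)) := ⟨_, rfl⟩
  have hU : ∀ h ∈ Cfsg.stabilizing (Cfsg.glToMat (Fin n) F)
      {v : Fin n → F | ∀ i : Fin n, n - k ≤ (i : ℕ) → v i = 0},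
      ∀ u ∈ U, (h : Matrix _ _ F) *ᵥ u ∈ U := by
    intro h hh u hu
    rw [← hconj] at hh
    obtain ⟨p, hp, rfl⟩ := hh
    rw [hUdef] at hu ⊢
    obtain ⟨w, hw, rfl⟩ := hu
    refine ⟨(p : Matrix (Fin n) (Fin n) F) *ᵥ w, (hp w).1 hw, ?_⟩
    show Matrix.toLin' (g : Matrix (Fin n) (Fin n) F) ((p : Matrix _ _ F) *ᵥ w) =
      ((g * p * g⁻¹ : GL (Fin n) F) : Matrix _ _ F) *ᵥ (Matrix.toLin' (g : Matrix (Fin n) (Fin n) F) w)
    rw [Matrix.toLin'_apply, Matrix.toLin'_apply, Matrix.mulVec_mulVec, Matrix.mulVec_mulVec,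
      ← Units.val_mul, ← Units.val_mul, inv_mul_cancel_right]
  have hfin : Module.finrank F U = k := by
    rw [hUdef]
    have hinj : Function.Injective (Matrix.toLin' (g : Matrix (Fin n) (Fin n) F)) := by
      intro x y hxy
      rw [Matrix.toLin'_apply, Matrix.toLin'_apply] at hxy
      have h2 : (g⁻¹).1 *ᵥ (g.1 *ᵥ x) = (g⁻¹).1 *ᵥ (g.1 *ᵥ y) := by rw [hxy]
      rwa [Matrix.mulVec_mulVec, Matrix.mulVec_mulVec, ← Units.val_mul, inv_mul_cancel, Units.val_one,
        Matrix.one_mulVec, Matrix.one_mulVec] at h2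
    rw [← (Submodule.equivMapOfInjective _ hinj (Wsub n k F)).finrank_eq, finrank_Wsub (by omega)]
  rcases invariant_cases U hU with h | h | h
  · rw [h, finrank_bot] at hfin
    omega
  · rw [h, finrank_Wsub (by omega)] at hfin
    omega
  · rw [h, finrank_top, Module.finrank_fin_fun] at hfin
    omega

end Cfsg.Agent.S0773
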