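import Cfsg.Statements.S0774
import Mathlib
-- import your own Cfsg.Agent.* helpers here

set_option autoImplicit false
open Cfsg

namespace Cfsg.Agent.S0774

open Matrix
variable {F : Type*} [Field F]


/-- group element with invertible matrix mapping a submodule into itself stabilises it -/
theorem mem_stab_iff' {H : Type*} [Group H] {ι : Type} [Fintype ι] [DecidableEq ι]
    (toMat : H →* Matrix ι ι F) (W : Submodule F (ι → F)) (g : H) :
    g ∈ Cfsg.stabilizing toMat (W : Set (ι → F)) ↔ ∀ v ∈ W, toMat g *ᵥ v ∈ W := by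
  have hinv : ∀ x : ι → F, toMat g⁻¹ *ᵥ (toMat g *ᵥ x) = x := by
    intro x
    rw [Matrix.mulVec_mulVec, ← map_mul, inv_mul_cancel, map_one, Matrix.one_mulVec]
  constructor
  · intro h v hv
    exact (h v).1 hv
  · intro h v
    refine ⟨h v, fun hgv => ?_⟩
    let f : W →ₗ[F] W := (Matrix.toLin' (toMat g)).restrict (p := W) (q := W)
      (fun x hx => by simpa [Matrix.toLin'_apply] using h x hx)
    have hinj : Function.Injective f := by
      intro x y hxy
      have h1 : toMat g *ᵥ (x : ι → F) = toMat g *ᵥ (y : ι → F) := by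
        have := congrArg Subtype.val hxy
        simpa [f, Matrix.toLin'_apply] using this
      have h2 := congrArg (fun z => toMat g⁻¹ *ᵥ z) h1
      simp only [hinv] at h2
      exact Subtype.ext h2
    have hsurj : Function.Surjective f := LinearMap.surjective_of_injective hinj
    obtain ⟨w, hw⟩ := hsurj ⟨_, hgv⟩
    have h1 : toMat g *ᵥ (w : ι → F) = toMat g *ᵥ v := by
      have := congrArg Subtype.val hw
      simpa [f, Matrix.toLin'_apply] using this
    have h2 := congrArg (fun z => toMat g⁻¹ *ᵥ z) h1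
    simp only [hinv] at h2
    rw [← h2]
    exact w.2

/-- the flag subspaces -/
def Vk (m : ℕ) (F : Type*) [Field F] (k : Fin m) : Submodule F (Fin m ⊕ Fin m → F) where
  carrier := {v : Fin m ⊕ Fin m → F | (∀ i : Fin m, (k : ℕ) < (i : ℕ) → v (Sum.inl i) = 0) ∧
    ∀ i : Fin m, v (Sum.inr i) = 0}
  add_mem' := by
    intro a b ha hb
    refine ⟨fun i hi => ?_, fun i => ?_⟩
    · simp [ha.1 i hi, hb.1 i hi]
    · simp [ha.2 i, hb.2 i]
  zero_mem' := ⟨fun _ _ => rfl, fun _ => rfl⟩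
  smul_mem' := by
    intro c a ha
    refine ⟨fun i hi => ?_, fun i => ?_⟩
    · simp [ha.1 i hi]
    · simp [ha.2 i]

theorem mem_borel_iff {m : ℕ} (g : Matrix.symplecticGroup (Fin m) F) :
    g ∈ (⨅ k : Fin m, Cfsg.stabilizing (Cfsg.spToMat m F) {v : Fin m ⊕ Fin m → F |
      (∀ i : Fin m, (k : ℕ) < (i : ℕ) → v (Sum.inl i) = 0) ∧ ∀ i : Fin m, v (Sum.inr i) = 0}) ↔
    g.1.toBlocks₂₁ = 0 ∧ ∀ i j : Fin m, j < i → g.1.toBlocks₁₁ i j = 0 := by
  rw [Subgroup.mem_iInf]
  have hk : ∀ k : Fin m, g ∈ Cfsg.stabilizing (Cfsg.spToMat m F) {v : Fin m ⊕ Fin m → F |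
      (∀ i : Fin m, (k : ℕ) < (i : ℕ) → v (Sum.inl i) = 0) ∧ ∀ i : Fin m, v (Sum.inr i) = 0} ↔
      ∀ v ∈ Vk m F k, g.1 *ᵥ v ∈ Vk m F k := fun k => mem_stab_iff' (Cfsg.spToMat m F) (Vk m F k) g
  simp only [hk]
  constructor
  · intro h
    have hcol : ∀ c : Fin m, g.1 *ᵥ (Pi.single (Sum.inl c) 1) ∈ Vk m F c := by
      intro c
      apply h c
      refine ⟨fun i hi => ?_, fun i => ?_⟩
      · have : i ≠ c := by
          intro hh; rw [hh] at hi; omega
        simp [this]
      · simp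
    constructor
    · ext i c
      have := (hcol c).2 i
      rw [Matrix.mulVec_single_one] at this
      simpa [Matrix.toBlocks₂₁] using this
    · intro i c hci
      have := (hcol c).1 i hci
      rw [Matrix.mulVec_single_one] at this
      simpa [Matrix.toBlocks₁₁] using this
  · rintro ⟨hC, hA⟩ k v hv
    have hg : g.1 = fromBlocks g.1.toBlocks₁₁ g.1.toBlocks₁₂ g.1.toBlocks₂₁ g.1.toBlocks₂₂ :=
      (Matrix.fromBlocks_toBlocks g.1).symm
    have hvr : (fun i => v (Sum.inr i)) = 0 := funext hv.2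
    refine ⟨fun i hi => ?_, fun i => ?_⟩
    · rw [hg, Matrix.fromBlocks_mulVec]
      simp only [Sum.elim_inl, Function.comp_def, hvr, Matrix.mulVec_zero, add_zero]
      rw [Matrix.mulVec, dotProduct]
      apply Finset.sum_eq_zero
      intro c _
      by_cases hc : c < i
      · rw [hA i c hc, zero_mul]
      · have : (k : ℕ) < (c : ℕ) := by
          have : (i : ℕ) ≤ c := by
            rw [not_lt] at hc; exact hc
          omega
        rw [hv.1 c this, mul_zero]
    · rw [hg, Matrix.fromBlocks_mulVec]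
      simp only [Sum.elim_inr, Function.comp_def, hvr, Matrix.mulVec_zero, add_zero, hC,
        Matrix.zero_mulVec, Pi.zero_apply]


def Amat {m : ℕ} (d : Fin m → Fˣ) (N : Matrix (Fin m) (Fin m) F) : Matrix (Fin m) (Fin m) F :=
  Matrix.of fun i j => if i = j then (d i : F) else if i < j then N i j else 0

def Smat {m : ℕ} (N : Matrix (Fin m) (Fin m) F) : Matrix (Fin m) (Fin m) F :=
  Matrix.of fun i j => if j ≤ i then N i j else N j i

theorem Smat_symm {m : ℕ} (N : Matrix (Fin m) (Fin m) F) : (Smat N)ᵀ = Smat N := by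
  ext i j
  simp only [Smat, Matrix.transpose_apply, Matrix.of_apply]
  rcases lt_trichotomy i j with h | h | h
  · rw [if_pos h.le, if_neg (not_le.2 h)]
  · rw [h]
  · rw [if_neg (not_le.2 h), if_pos h.le]

theorem Amat_upper {m : ℕ} (d : Fin m → Fˣ) (N : Matrix (Fin m) (Fin m) F) (i j : Fin m) (h : j < i) :
    Amat d N i j = 0 := by
  simp only [Amat, Matrix.of_apply]
  rw [if_neg (ne_of_gt h), if_neg (not_lt.2 h.le)]

theorem Amat_det {m : ℕ} (d : Fin m → Fˣ) (N : Matrix (Fin m) (Fin m) F) :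
    (Amat d N).det = ∏ i, (d i : F) := by
  rw [Matrix.det_of_isUpperTriangular]
  · apply Finset.prod_congr rfl
    intro i _
    simp [Amat]
  · intro i j hij
    exact Amat_upper d N i j hij

theorem Amat_isUnit {m : ℕ} (d : Fin m → Fˣ) (N : Matrix (Fin m) (Fin m) F) :
    IsUnit (Amat d N).det := by
  rw [Amat_det, isUnit_iff_ne_zero]
  exact Finset.prod_ne_zero_iff.2 (fun i _ => (d i).ne_zero)

noncomputable def gmat {m : ℕ} (d : Fin m → Fˣ) (N : Matrix (Fin m) (Fin m) F) :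
    Matrix (Fin m ⊕ Fin m) (Fin m ⊕ Fin m) F :=
  fromBlocks (Amat d N) (Amat d N * Smat N) 0 ((Amat d N)⁻¹)ᵀ

theorem symp_of_blocks {m : ℕ} (A S : Matrix (Fin m) (Fin m) F) (hA : IsUnit A.det) (hS : Sᵀ = S) :
    fromBlocks A (A * S) 0 (A⁻¹)ᵀ ∈ Matrix.symplecticGroup (Fin m) F := by
  rw [SymplecticGroup.mem_iff', Matrix.J, fromBlocks_transpose, fromBlocks_multiply, fromBlocks_multiply]
  have h1 : A⁻¹ * A = 1 := Matrix.nonsing_inv_mul A hA
  have h2 : Aᵀ * (A⁻¹)ᵀ = 1 := by rw [← Matrix.transpose_mul, h1, Matrix.transpose_one]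
  congr 1
  · simp
  · simp [h2]
  · simp [h1]
  · simp only [Matrix.transpose_mul, Matrix.transpose_transpose, Matrix.mul_zero, Matrix.mul_one,
      Matrix.mul_neg, zero_add, add_zero, Matrix.neg_mul, Matrix.mul_assoc, h2, hS]
    rw [← Matrix.mul_assoc, h1, Matrix.one_mul]
    simp

theorem gmat_mem {m : ℕ} (d : Fin m → Fˣ) (N : Matrix (Fin m) (Fin m) F) :
    gmat d N ∈ Matrix.symplecticGroup (Fin m) F :=
  symp_of_blocks _ _ (Amat_isUnit d N) (Smat_symm N)
theorem blocks_of_symp {m : ℕ} (A B D : Matrix (Fin m) (Fin m) F)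
    (h : fromBlocks A B 0 D ∈ Matrix.symplecticGroup (Fin m) F) :
    Dᵀ * A = 1 ∧ Dᵀ * B = Bᵀ * D := by
  rw [SymplecticGroup.mem_iff', Matrix.J, fromBlocks_transpose, fromBlocks_multiply, fromBlocks_multiply,
    Matrix.fromBlocks_inj] at h
  obtain ⟨-, -, h3, h4⟩ := h
  constructor
  · simpa using h3
  · have : Dᵀ * B - Bᵀ * D = 0 := by
      simpa [sub_eq_add_neg, add_comm] using h4
    exact sub_eq_zero.1 this

theorem gmat_inj {m : ℕ} (d d' : Fin m → Fˣ) (N N' : Matrix (Fin m) (Fin m) F)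
    (h : gmat d N = gmat d' N') : d = d' ∧ N = N' := by
  rw [gmat, gmat, Matrix.fromBlocks_inj] at h
  obtain ⟨hA, hAS, -, -⟩ := h
  have hS : Smat N = Smat N' := by
    have h1 : (Amat d N)⁻¹ * (Amat d N * Smat N) = (Amat d N)⁻¹ * (Amat d' N' * Smat N') := by rw [hAS]
    rw [← hA, ← Matrix.mul_assoc, ← Matrix.mul_assoc, Matrix.nonsing_inv_mul _ (Amat_isUnit d N),
      Matrix.one_mul, Matrix.one_mul] at h1
    exact h1
  constructor
  · funext i
    apply Units.ext
    have := congrFun (congrFun hA i) i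
    simpa [Amat] using this
  · ext i j
    by_cases hij : i < j
    · have := congrFun (congrFun hA i) j
      simpa [Amat, ne_of_lt hij, hij] using this
    · have := congrFun (congrFun hS i) j
      simpa [Smat, not_lt.1 hij] using this

theorem gmat_surj {m : ℕ} (g : Matrix (Fin m ⊕ Fin m) (Fin m ⊕ Fin m) F)
    (hg : g ∈ Matrix.symplecticGroup (Fin m) F) (hC : g.toBlocks₂₁ = 0)
    (hA : ∀ i j : Fin m, j < i → g.toBlocks₁₁ i j = 0) :
    ∃ (d : Fin m → Fˣ) (N : Matrix (Fin m) (Fin m) F), gmat d N = g := by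
  obtain ⟨A, hAdef⟩ : ∃ A, A = g.toBlocks₁₁ := ⟨_, rfl⟩
  obtain ⟨B, hBdef⟩ : ∃ B, B = g.toBlocks₁₂ := ⟨_, rfl⟩
  obtain ⟨D, hDdef⟩ : ∃ D, D = g.toBlocks₂₂ := ⟨_, rfl⟩
  have hgb : g = fromBlocks A B 0 D := by
    rw [hAdef, hBdef, hDdef, ← hC, fromBlocks_toBlocks]
  rw [← hAdef] at hA
  rw [hgb] at hg
  obtain ⟨h1, h2⟩ := blocks_of_symp A B D hg
  have hAinv : A⁻¹ = Dᵀ := Matrix.inv_eq_left_inv h1
  have h1' : A * Dᵀ = 1 := mul_eq_one_comm.1 h1
  have hdetA : IsUnit A.det := by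
    have : IsUnit A := ⟨⟨A, Dᵀ, h1', h1⟩, rfl⟩
    exact (Matrix.isUnit_iff_isUnit_det A).1 this
  have hdiag : ∀ i, A i i ≠ 0 := by
    intro i
    have hdet : A.det = ∏ i, A i i := Matrix.det_of_isUpperTriangular (fun i j hij => hA i j hij)
    rw [hdet, isUnit_iff_ne_zero] at hdetA
    exact (Finset.prod_ne_zero_iff.1 hdetA) i (Finset.mem_univ i)
  obtain ⟨S, hSdef⟩ : ∃ S, S = Dᵀ * B := ⟨_, rfl⟩
  have hSsymm : Sᵀ = S := by
    rw [hSdef, Matrix.transpose_mul, Matrix.transpose_transpose, h2]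
  refine ⟨fun i => Units.mk0 (A i i) (hdiag i),
    Matrix.of fun i j => if i < j then A i j else S i j, ?_⟩
  have hAm : Amat (fun i => Units.mk0 (A i i) (hdiag i))
      (Matrix.of fun i j => if i < j then A i j else S i j) = A := by
    ext i j
    simp only [Amat, Matrix.of_apply, Units.val_mk0]
    by_cases hij : i = j
    · rw [if_pos hij, hij]
    · rw [if_neg hij]
      by_cases hlt : i < j
      · rw [if_pos hlt, if_pos hlt]
      · rw [if_neg hlt]
        have : j < i := lt_of_le_of_ne (not_lt.1 hlt) (Ne.symm hij)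
        exact (hA i j this).symm
  have hSm : Smat (Matrix.of fun i j => if i < j then A i j else S i j) = S := by
    ext i j
    simp only [Smat, Matrix.of_apply]
    by_cases hji : j ≤ i
    · rw [if_pos hji, if_neg (not_lt.2 hji)]
    · rw [if_neg hji, if_neg (not_lt.2 (not_le.1 hji).le)]
      have := congrFun (congrFun hSsymm i) j
      rw [Matrix.transpose_apply] at this
      exact this
  rw [gmat, hAm, hSm, hgb, hAinv, Matrix.transpose_transpose, hSdef, ← Matrix.mul_assoc, h1',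
    Matrix.one_mul]

/-- Borel subgroup of the symplectic group: the elements of Sp_2m(q) stabilising each of the totally isotropic coordinate subspaces ⟨e_0, ..., e_k⟩ (k < m) form a subgroup of order q^(m²) (q − 1)^m. -/
theorem result {F : Type*} [Field F] [Fintype F] {q : ℕ} (hF : Fintype.card F = q) (m : ℕ) : Nat.card ↥(⨅ k : Fin m, Cfsg.stabilizing (Cfsg.spToMat m F) {v : Fin m ⊕ Fin m → F | (∀ i : Fin m, (k : ℕ) < (i : ℕ) → v (Sum.inl i) = 0) ∧ ∀ i : Fin m, v (Sum.inr i) = 0}) = q ^ (m ^ 2) * (q - 1) ^ m := by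
  classical
  let Φ : (Fin m → Fˣ) × Matrix (Fin m) (Fin m) F →
      ↥(⨅ k : Fin m, Cfsg.stabilizing (Cfsg.spToMat m F) {v : Fin m ⊕ Fin m → F |
        (∀ i : Fin m, (k : ℕ) < (i : ℕ) → v (Sum.inl i) = 0) ∧ ∀ i : Fin m, v (Sum.inr i) = 0}) :=
    fun x => ⟨⟨gmat x.1 x.2, gmat_mem x.1 x.2⟩, (mem_borel_iff _).2
      ⟨Matrix.toBlocks_fromBlocks₂₁ _ _ _ _, fun i j h => by
        show (gmat x.1 x.2).toBlocks₁₁ i j = 0
        rw [gmat, Matrix.toBlocks_fromBlocks₁₁]
        exact Amat_upper x.1 x.2 i j h⟩⟩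
  have hinj : Function.Injective Φ := by
    intro x y hxy
    have h : gmat x.1 x.2 = gmat y.1 y.2 := congrArg (fun z => (z.1.1 : Matrix _ _ F)) hxy
    obtain ⟨h1, h2⟩ := gmat_inj _ _ _ _ h
    exact Prod.ext h1 h2
  have hsurj : Function.Surjective Φ := by
    rintro ⟨⟨g, hg⟩, hgB⟩
    obtain ⟨hC, hA⟩ := (mem_borel_iff _).1 hgB
    obtain ⟨d, N, hdN⟩ := gmat_surj g hg hC hA
    exact ⟨(d, N), Subtype.ext (Subtype.ext hdN)⟩
  rw [Nat.card_congr (Equiv.ofBijective Φ ⟨hinj, hsurj⟩).symm, Nat.card_prod,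
    Nat.card_eq_fintype_card, Nat.card_eq_fintype_card]
  have h1 : Fintype.card (Fin m → Fˣ) = (q - 1) ^ m := by
    rw [Fintype.card_fun, Fintype.card_units, hF, Fintype.card_fin]
  have h2 : Fintype.card (Matrix (Fin m) (Fin m) F) = q ^ (m ^ 2) := by
    show Fintype.card (Fin m → Fin m → F) = _
    rw [Fintype.card_fun, Fintype.card_fun, hF, Fintype.card_fin, ← pow_mul, sq]
  rw [h1, h2, mul_comm]

end Cfsg.Agent.S0774
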