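import Cfsg.Statements.S0775
import Mathlib
import Cfsg.Agent.S0768
import Cfsg.Agent.S0749
import Cfsg.Agent.Lib.H4.Symp
-- import your own Cfsg.Agent.* helpers here

set_option autoImplicit false
open Cfsg

namespace Cfsg.Agent.S0775

open Matrix


section ms
variable {F : Type*} [Field F]
/-- group element with invertible matrix mapping a submodule into itself stabilises it -/
theorem mem_stab_iff' {H : Type*} [Group H] {ι : Type} [Fintype ι] [DecidableEq ι]
    (toMat : H →* Matrix ι ι F) (W : Submodule F (ι → F)) (g : H) :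
    g ∈ Cfsg.stabilizing toMat (W : Set (ι → F)) ↔ ∀ v ∈ W, toMat g *ᵥ v ∈ W := by
  have hinv : ∀ x : ι → F, toMat g⁻¹ *ᵥ (toMat g *ᵥ x) = x := by
    intro x
    rw [Matrix.mulVec_mulVec, ← map_mul, inv_mul_cancel, map_one, Matrix.one_mulVec]
  constructor
  · intro h v hv
    exact (h v).1 hv
  · intro h v
    refine ⟨h v, fun hgv => ?_⟩
    let f : W →ₗ[F] W := (Matrix.toLin' (toMat g)).restrict (p := W) (q := W)
      (fun x hx => by simpa [Matrix.toLin'_apply] using h x hx)
    have hinj : Function.Injective f := by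
      intro x y hxy
      have h1 : toMat g *ᵥ (x : ι → F) = toMat g *ᵥ (y : ι → F) := by
        have := congrArg Subtype.val hxy
        simpa [f, Matrix.toLin'_apply] using this
      have h2 := congrArg (fun z => toMat g⁻¹ *ᵥ z) h1
      simp only [hinv] at h2
      exact Subtype.ext h2
    have hsurj : Function.Surjective f := LinearMap.surjective_of_injective hinj
    obtain ⟨w, hw⟩ := hsurj ⟨_, hgv⟩
    have h1 : toMat g *ᵥ (w : ι → F) = toMat g *ᵥ v := by
      have := congrArg Subtype.val hw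
      simpa [f, Matrix.toLin'_apply] using this
    have h2 := congrArg (fun z => toMat g⁻¹ *ᵥ z) h1
    simp only [hinv] at h2
    rw [← h2]
    exact w.2


end ms

section sb
variable {F : Type*} [Field F]
theorem symp_of_blocks {m : ℕ} (A S : Matrix (Fin m) (Fin m) F) (hA : IsUnit A.det) (hS : Sᵀ = S) :
    fromBlocks A (A * S) 0 (A⁻¹)ᵀ ∈ Matrix.symplecticGroup (Fin m) F := by
  rw [SymplecticGroup.mem_iff', Matrix.J, fromBlocks_transpose, fromBlocks_multiply, fromBlocks_multiply]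
  have h1 : A⁻¹ * A = 1 := Matrix.nonsing_inv_mul A hA
  have h2 : Aᵀ * (A⁻¹)ᵀ = 1 := by rw [← Matrix.transpose_mul, h1, Matrix.transpose_one]
  congr 1
  · simp
  · simp [h2]
  · simp [h1]
  · simp only [Matrix.transpose_mul, Matrix.transpose_transpose, Matrix.mul_zero, Matrix.mul_one,
      Matrix.mul_neg, zero_add, add_zero, Matrix.neg_mul, Matrix.mul_assoc, h2, hS]
    rw [← Matrix.mul_assoc, h1, Matrix.one_mul]
    simp


theorem blocks_of_symp {m : ℕ} (A B D : Matrix (Fin m) (Fin m) F)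
    (h : fromBlocks A B 0 D ∈ Matrix.symplecticGroup (Fin m) F) :
    Dᵀ * A = 1 ∧ Dᵀ * B = Bᵀ * D := by
  rw [SymplecticGroup.mem_iff', Matrix.J, fromBlocks_transpose, fromBlocks_multiply, fromBlocks_multiply,
    Matrix.fromBlocks_inj] at h
  obtain ⟨-, -, h3, h4⟩ := h
  constructor
  · simpa using h3
  · have : Dᵀ * B - Bᵀ * D = 0 := by
      simpa [sub_eq_add_neg, add_comm] using h4
    exact sub_eq_zero.1 this


end sb


/-- orbit-stabiliser, phrased with a surjective map whose fibres are the left cosets of `S` -/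
theorem card_eq_of_transitive {G X : Type*} [Group G] [Finite G] (φ : G → X)
    (hsurj : Function.Surjective φ) (S : Subgroup G)
    (hS : ∀ g h, φ g = φ h ↔ g⁻¹ * h ∈ S) : Nat.card G = Nat.card X * Nat.card S := by
  rw [Subgroup.card_eq_card_quotient_mul_card_subgroup S]
  congr 1
  let ψ : G ⧸ S → X := Quotient.lift φ (fun a b hab => by
    have : a⁻¹ * b ∈ S := QuotientGroup.leftRel_apply.1 hab
    exact (hS a b).2 this)
  have hψ : Function.Bijective ψ := by
    constructor
    · intro a b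
      induction a using Quotient.inductionOn with
      | h a =>
        induction b using Quotient.inductionOn with
        | h b =>
          intro hab
          apply Quotient.sound
          exact QuotientGroup.leftRel_apply.2 ((hS a b).1 hab)
    · intro x
      obtain ⟨g, hg⟩ := hsurj x
      exact ⟨Quotient.mk _ g, hg⟩
  exact Nat.card_congr (Equiv.ofBijective ψ hψ)


section frames
variable {F V : Type*} [Field F] [AddCommGroup V] [Module F V]

/-- isotropic frames -/
abbrev IsoFrame (B : LinearMap.BilinForm F V) (k : ℕ) : Type _ :=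
  {f : Fin k → V // LinearIndependent F f ∧ ∀ i j, B (f i) (f j) = 0}

theorem mem_orth_span_iff (B : LinearMap.BilinForm F V) {k : ℕ} (s : Fin k → V) (v : V) :
    v ∈ B.orthogonal (Submodule.span F (Set.range s)) ↔ ∀ i, B (s i) v = 0 := by
  rw [LinearMap.BilinForm.mem_orthogonal_iff]
  constructor
  · intro h i
    exact h (s i) (Submodule.subset_span ⟨i, rfl⟩)
  · intro h n hn
    show B n v = 0
    induction hn using Submodule.span_induction with
    | mem x hx =>
      obtain ⟨i, rfl⟩ := hx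
      exact h i
    | zero => simp
    | add x y _ _ hx hy => rw [map_add, LinearMap.add_apply, hx, hy, add_zero]
    | smul a x _ hx => rw [map_smul, LinearMap.smul_apply, hx, smul_zero]

/-- extension equivalence for isotropic frames -/
def isoFrameEquiv (B : LinearMap.BilinForm F V) (hA : B.IsAlt) (k : ℕ) :
    IsoFrame B (k + 1) ≃
      Σ s : IsoFrame B k, {v : V // (∀ i, B (s.1 i) v = 0) ∧ v ∉ Submodule.span F (Set.range s.1)} where
  toFun s := ⟨⟨Fin.tail s.1, (linearIndependent_finSucc.mp s.2.1).1, fun i j => s.2.2 _ _⟩,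
    ⟨s.1 0, fun i => s.2.2 _ _, (linearIndependent_finSucc.mp s.2.1).2⟩⟩
  invFun x := ⟨Fin.cons x.2.1 x.1.1, linearIndependent_finCons.mpr ⟨x.1.2.1, x.2.2.2⟩, by
    intro i j
    refine Fin.cases ?_ (fun i' => ?_) i <;> refine Fin.cases ?_ (fun j' => ?_) j
    · simp only [Fin.cons_zero]; exact hA _
    · simp only [Fin.cons_zero, Fin.cons_succ]
      rw [← hA.neg_eq, x.2.2.1 j', neg_zero]
    · simp only [Fin.cons_zero, Fin.cons_succ]
      exact x.2.2.1 i'
    · simp only [Fin.cons_succ]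
      exact x.1.2.2 i' j'⟩
  left_inv s := by
    apply Subtype.ext
    simp only [Fin.cons_self_tail]
  right_inv := fun ⟨⟨s, hs⟩, ⟨v, hv⟩⟩ => by
    apply Sigma.subtype_ext
    · apply Subtype.ext
      show Fin.tail (Fin.cons v s : Fin (k + 1) → V) = s
      exact Fin.tail_cons _ _
    · show (Fin.cons v s : Fin (k + 1) → V) 0 = v
      exact Fin.cons_zero _ _

end frames

section count
variable {F V : Type*} [Field F] [Fintype F] [AddCommGroup V] [Module F V] [FiniteDimensional F V]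

theorem card_fiber (B : LinearMap.BilinForm F V) (hB : B.Nondegenerate) {k : ℕ}
    (s : IsoFrame B k) :
    Nat.card {v : V // (∀ i, B (s.1 i) v = 0) ∧ v ∉ Submodule.span F (Set.range s.1)} =
      Fintype.card F ^ (Module.finrank F V - k) - Fintype.card F ^ k := by
  haveI : Finite V := Module.finite_of_finite F
  obtain ⟨N, hN⟩ : ∃ N : Submodule F V, N = Submodule.span F (Set.range s.1) := ⟨_, rfl⟩
  have hNk : Module.finrank F N = k := by
    rw [hN, finrank_span_eq_card s.2.1, Fintype.card_fin]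
  have hsub : (N : Set V) ⊆ (B.orthogonal N : Set V) := by
    intro v hv
    rw [SetLike.mem_coe, hN, mem_orth_span_iff]
    intro i
    rw [SetLike.mem_coe, hN] at hv
    induction hv using Submodule.span_induction with
    | mem x hx =>
      obtain ⟨j, rfl⟩ := hx
      exact s.2.2 i j
    | zero => simp
    | add x y _ _ hx hy => rw [map_add, hx, hy, add_zero]
    | smul a x _ hx => rw [map_smul, hx, smul_zero]
  have hset : {v : V | (∀ i, B (s.1 i) v = 0) ∧ v ∉ Submodule.span F (Set.range s.1)} =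
      (B.orthogonal N : Set V) \ (N : Set V) := by
    ext v
    simp only [Set.mem_ofPred_eq, Set.mem_sdiff, SetLike.mem_coe]
    rw [hN, mem_orth_span_iff]
  have h1 : Nat.card {v : V // (∀ i, B (s.1 i) v = 0) ∧ v ∉ Submodule.span F (Set.range s.1)} =
      ((B.orthogonal N : Set V) \ (N : Set V)).ncard := by
    rw [← hset, ← Nat.card_coe_set_eq]
    rfl
  rw [h1, Set.ncard_sdiff hsub (Set.toFinite _), ← Nat.card_coe_set_eq, ← Nat.card_coe_set_eq]
  have h2 : Nat.card ↥(B.orthogonal N) = Fintype.card F ^ (Module.finrank F V - k) := by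
    rw [Module.natCard_eq_pow_finrank (K := F), LinearMap.BilinForm.finrank_orthogonal hB, hNk,
      Nat.card_eq_fintype_card]
  have h3 : Nat.card ↥N = Fintype.card F ^ k := by
    rw [Module.natCard_eq_pow_finrank (K := F), hNk, Nat.card_eq_fintype_card]
  exact congrArg₂ (· - ·) h2 h3

theorem card_isoFrame (B : LinearMap.BilinForm F V) (hB : B.Nondegenerate) (hA : B.IsAlt) (k : ℕ) :
    Nat.card (IsoFrame B k) =
      ∏ i : Fin k, (Fintype.card F ^ (Module.finrank F V - i) - Fintype.card F ^ (i : ℕ)) := by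
  haveI : Finite V := Module.finite_of_finite F
  induction k with
  | zero =>
    rw [Finset.univ_eq_empty, Finset.prod_empty]
    haveI : Unique (IsoFrame B 0) :=
      { default := ⟨Fin.elim0, linearIndependent_empty_type, fun i => i.elim0⟩
        uniq := fun a => Subtype.ext (funext fun i => i.elim0) }
    exact Nat.card_unique
  | succ k ih =>
    haveI : Fintype (IsoFrame B k) := Fintype.ofFinite _
    rw [Nat.card_congr (isoFrameEquiv B hA k), Nat.card_sigma]
    simp only [card_fiber B hB]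
    rw [Finset.sum_const, Finset.card_univ, smul_eq_mul, ← Nat.card_eq_fintype_card, ih,
      Fin.prod_univ_castSucc]
    simp
end count

section sp
open Cfsg.Agent.S0768 (B₀ B₀_apply B₀_alt B₀_nondeg)
variable {F : Type*} [Field F] {m : ℕ}

noncomputable def spOfEquiv (e : (Fin m ⊕ Fin m → F) ≃ₗ[F] (Fin m ⊕ Fin m → F))
    (he : ∀ u v, B₀ F m (e u) (e v) = B₀ F m u v) : Matrix.symplecticGroup (Fin m) F :=
  ⟨LinearMap.toMatrix' (e : (Fin m ⊕ Fin m → F) →ₗ[F] (Fin m ⊕ Fin m → F)), by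
    rw [Cfsg.Agent.Lib.H4.mem_symplecticGroup_iff_sympForm]
    intro u v
    rw [LinearMap.toMatrix'_mulVec, LinearMap.toMatrix'_mulVec, ← B₀_apply, ← B₀_apply]
    exact he u v⟩

theorem spOfEquiv_mulVec (e : (Fin m ⊕ Fin m → F) ≃ₗ[F] (Fin m ⊕ Fin m → F))
    (he : ∀ u v, B₀ F m (e u) (e v) = B₀ F m u v) (v : Fin m ⊕ Fin m → F) :
    (spOfEquiv e he).1 *ᵥ v = e v := by
  show LinearMap.toMatrix' (e : (Fin m ⊕ Fin m → F) →ₗ[F] (Fin m ⊕ Fin m → F)) *ᵥ v = e v
  rw [LinearMap.toMatrix'_mulVec]; rfl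

theorem sp_preserves (g : Matrix.symplecticGroup (Fin m) F) (u v : Fin m ⊕ Fin m → F) :
    B₀ F m (g.1 *ᵥ u) (g.1 *ᵥ v) = B₀ F m u v := by
  rw [B₀_apply, B₀_apply]
  exact (Cfsg.Agent.Lib.H4.mem_symplecticGroup_iff_sympForm m g.1).1 g.2 u v

theorem sp_inv_mulVec (g : Matrix.symplecticGroup (Fin m) F) (v : Fin m ⊕ Fin m → F) :
    (g⁻¹).1 *ᵥ (g.1 *ᵥ v) = v := by
  have hl : (g⁻¹).1 * g.1 = 1 :=
    congrArg (fun z : Matrix.symplecticGroup (Fin m) F => z.1) (inv_mul_cancel g)
  rw [Matrix.mulVec_mulVec, hl, Matrix.one_mulVec]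

theorem sp_ker (g : Matrix.symplecticGroup (Fin m) F) : LinearMap.ker (Matrix.toLin' g.1) = ⊥ := by
  rw [LinearMap.ker_eq_bot]
  intro x y hxy
  rw [Matrix.toLin'_apply, Matrix.toLin'_apply] at hxy
  have := congrArg (fun z => (g⁻¹).1 *ᵥ z) hxy
  simpa only [sp_inv_mulVec] using this

/-- the frame map -/
noncomputable def frameMap {k : ℕ} (f₀ : IsoFrame (B₀ F m) k) (g : Matrix.symplecticGroup (Fin m) F) :
    IsoFrame (B₀ F m) k :=
  ⟨fun i => g.1 *ᵥ f₀.1 i, by
    have := f₀.2.1.map' (Matrix.toLin' g.1) (sp_ker g)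
    exact this, fun i j => by rw [sp_preserves]; exact f₀.2.2 i j⟩

/-- pointwise stabiliser of a frame -/
def frameStab {k : ℕ} (f₀ : Fin k → (Fin m ⊕ Fin m → F)) : Subgroup (Matrix.symplecticGroup (Fin m) F) where
  carrier := {g | ∀ i, g.1 *ᵥ f₀ i = f₀ i}
  mul_mem' := by
    intro a b ha hb i
    show (a.1 * b.1) *ᵥ f₀ i = f₀ i
    rw [← Matrix.mulVec_mulVec, hb i, ha i]
  one_mem' := fun i => Matrix.one_mulVec _
  inv_mem' := by
    intro a ha i
    have := sp_inv_mulVec a (f₀ i)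
    rw [ha i] at this
    exact this

theorem frameMap_eq_iff {k : ℕ} (f₀ : IsoFrame (B₀ F m) k) (g h : Matrix.symplecticGroup (Fin m) F) :
    frameMap f₀ g = frameMap f₀ h ↔ g⁻¹ * h ∈ frameStab f₀.1 := by
  constructor
  · intro hgh i
    have h1 : g.1 *ᵥ f₀.1 i = h.1 *ᵥ f₀.1 i := congrFun (congrArg Subtype.val hgh) i
    show ((g⁻¹).1 * h.1) *ᵥ f₀.1 i = f₀.1 i
    rw [← Matrix.mulVec_mulVec, ← h1, sp_inv_mulVec]
  · intro hgh
    apply Subtype.ext
    funext i
    have h1 : ((g⁻¹).1 * h.1) *ᵥ f₀.1 i = f₀.1 i := hgh i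
    show g.1 *ᵥ f₀.1 i = h.1 *ᵥ f₀.1 i
    rw [← Matrix.mulVec_mulVec] at h1
    have h2 : g.1 *ᵥ ((g⁻¹).1 *ᵥ h.1 *ᵥ f₀.1 i) = g.1 *ᵥ f₀.1 i := congrArg (fun z => g.1 *ᵥ z) h1
    have hr : g.1 * (g⁻¹).1 = 1 :=
      congrArg (fun z : Matrix.symplecticGroup (Fin m) F => z.1) (mul_inv_cancel g)
    rw [Matrix.mulVec_mulVec, hr, Matrix.one_mulVec] at h2
    exact h2.symm

theorem frameMap_surj [Finite F] {k : ℕ} (f₀ : IsoFrame (B₀ F m) k) : Function.Surjective (frameMap f₀) := by
  intro f'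
  obtain ⟨e, he, hef⟩ := Cfsg.Agent.S0749.witt_family (B₀_nondeg (F := F) (m := m)) B₀_alt k f₀.1 f'.1
    f₀.2.1 f'.2.1 (fun i j => by rw [f₀.2.2, f'.2.2])
  refine ⟨spOfEquiv e he, ?_⟩
  apply Subtype.ext
  funext i
  show (spOfEquiv e he).1 *ᵥ f₀.1 i = f'.1 i
  rw [spOfEquiv_mulVec, hef]

theorem card_sp_eq [Fintype F] {k : ℕ} (f₀ : IsoFrame (B₀ F m) k) :
    Nat.card (Matrix.symplecticGroup (Fin m) F) =
      Nat.card (IsoFrame (B₀ F m) k) * Nat.card (frameStab f₀.1) :=
  card_eq_of_transitive (frameMap f₀) (frameMap_surj f₀) (frameStab f₀.1) (frameMap_eq_iff f₀)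

end sp

section parab
open Cfsg.Agent.S0768 (B₀ B₀_apply B₀_alt B₀_nondeg)
variable {F : Type*} [Field F] {m : ℕ}

theorem mulVec_mem_of_span {k : ℕ} (g : Matrix (Fin m ⊕ Fin m) (Fin m ⊕ Fin m) F)
    (f : Fin k → (Fin m ⊕ Fin m → F)) (W : Submodule F (Fin m ⊕ Fin m → F))
    (h : ∀ i, g *ᵥ f i ∈ W) (v : Fin m ⊕ Fin m → F) (hv : v ∈ Submodule.span F (Set.range f)) :
    g *ᵥ v ∈ W := by
  induction hv using Submodule.span_induction with
  | mem x hx =>
    obtain ⟨i, rfl⟩ := hx
    exact h i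
  | zero => rw [Matrix.mulVec_zero]; exact W.zero_mem
  | add x y _ _ hx hy => rw [Matrix.mulVec_add]; exact W.add_mem hx hy
  | smul a x _ hx => rw [Matrix.mulVec_smul]; exact W.smul_mem a hx

theorem card_P_eq [Fintype F] {k : ℕ} (W : Submodule F (Fin m ⊕ Fin m → F))
    (hWk : Module.finrank F W = k)
    (hW : ∀ u ∈ W, ∀ v ∈ W, Cfsg.sympForm m F u v = 0) :
    ∃ f₀ : IsoFrame (B₀ F m) k,
      Nat.card ↥(Cfsg.stabilizing (Cfsg.spToMat m F) (W : Set (Fin m ⊕ Fin m → F))) =
        (∏ i : Fin k, (Fintype.card F ^ k - Fintype.card F ^ (i : ℕ))) * Nat.card (frameStab f₀.1) := by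
  classical
  obtain ⟨b⟩ : Nonempty (Module.Basis (Fin k) F W) := ⟨Module.finBasisOfFinrankEq F W hWk⟩
  obtain ⟨f₀, hf₀⟩ : ∃ f₀ : IsoFrame (B₀ F m) k, f₀.1 = fun i => (b i : Fin m ⊕ Fin m → F) :=
    ⟨⟨fun i => (b i : Fin m ⊕ Fin m → F),
      b.linearIndependent.map' W.subtype (Submodule.ker_subtype W),
      fun i j => by rw [B₀_apply]; exact hW _ (b i).2 _ (b j).2⟩, rfl⟩
  have hf₀i : ∀ i, f₀.1 i = (b i : Fin m ⊕ Fin m → F) := fun i => by rw [hf₀]
  have hspan : Submodule.span F (Set.range f₀.1) = W := by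
    have h1 : Set.range f₀.1 = W.subtype '' Set.range b := by
      rw [← Set.range_comp, hf₀]; rfl
    rw [h1, ← Submodule.map_span, b.span_eq, Submodule.map_subtype_top]
  refine ⟨f₀, ?_⟩
  obtain ⟨P, hP⟩ : ∃ P, P = Cfsg.stabilizing (Cfsg.spToMat m F) (W : Set (Fin m ⊕ Fin m → F)) := ⟨_, rfl⟩
  rw [← hP]
  have hPmem : ∀ g : Matrix.symplecticGroup (Fin m) F, g ∈ P ↔ ∀ v ∈ W, g.1 *ᵥ v ∈ W := by
    intro g; rw [hP]; exact mem_stab_iff' (Cfsg.spToMat m F) W g
  have hfW : ∀ i, f₀.1 i ∈ W := fun i => by rw [hf₀i]; exact (b i).2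
  let φ : ↥P → {s : Fin k → W // LinearIndependent F s} := fun g =>
    ⟨fun i => ⟨g.1.1 *ᵥ f₀.1 i, (hPmem g.1).1 g.2 _ (hfW i)⟩, by
      apply LinearIndependent.of_comp W.subtype
      exact (frameMap f₀ g.1).2.1⟩
  have hφsurj : Function.Surjective φ := by
    rintro ⟨s, hs⟩
    have hs' : LinearIndependent F (fun i => (s i : Fin m ⊕ Fin m → F)) :=
      hs.map' W.subtype (Submodule.ker_subtype W)
    obtain ⟨e, he, hef⟩ := Cfsg.Agent.S0749.witt_family (B₀_nondeg (F := F) (m := m)) B₀_alt k f₀.1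
      (fun i => (s i : Fin m ⊕ Fin m → F)) f₀.2.1 hs'
      (fun i j => by rw [f₀.2.2, B₀_apply]; exact hW _ (s i).2 _ (s j).2)
    have hgP : spOfEquiv e he ∈ P := by
      rw [hPmem]
      intro v hv
      rw [← hspan] at hv
      apply mulVec_mem_of_span _ f₀.1 W _ v hv
      intro i
      rw [spOfEquiv_mulVec, hef]
      exact (s i).2
    refine ⟨⟨spOfEquiv e he, hgP⟩, ?_⟩
    apply Subtype.ext
    funext i
    apply Subtype.ext
    show (spOfEquiv e he).1 *ᵥ f₀.1 i = s i
    rw [spOfEquiv_mulVec, hef]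
  have hφfib : ∀ g h : ↥P, φ g = φ h ↔ g⁻¹ * h ∈ (frameStab f₀.1).subgroupOf P := by
    intro g h
    rw [Subgroup.mem_subgroupOf]
    show _ ↔ (g.1)⁻¹ * h.1 ∈ frameStab f₀.1
    rw [← frameMap_eq_iff]
    constructor
    · intro hgh
      apply Subtype.ext
      funext i
      have := congrArg (fun z : {s : Fin k → W // LinearIndependent F s} => ((z.1 i : W) : Fin m ⊕ Fin m → F)) hgh
      exact this
    · intro hgh
      apply Subtype.ext
      funext i
      apply Subtype.ext
      exact congrFun (congrArg Subtype.val hgh) i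
  have hle : frameStab f₀.1 ≤ P := by
    intro g hg
    rw [hPmem]
    intro v hv
    rw [← hspan] at hv
    apply mulVec_mem_of_span _ f₀.1 W _ v hv
    intro i
    rw [hg i]
    exact hfW i
  haveI : Finite ↥P := inferInstance
  rw [card_eq_of_transitive φ hφsurj _ hφfib, Nat.card_congr (Subgroup.subgroupOfEquivOfLe hle).toEquiv]
  congr 1
  have := card_linearIndependent (K := F) (V := W) (k := k) (by rw [hWk])
  rw [this, hWk]

end parab


theorem tri_succ (k : ℕ) : (k + 1) * (k + 1 + 1) / 2 = k * (k + 1) / 2 + (k + 1) := by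
  have : (k + 1) * (k + 1 + 1) = k * (k + 1) + 2 * (k + 1) := by ring
  rw [this, Nat.add_mul_div_left _ _ (by norm_num : 0 < 2)]

theorem arith75 (q m : ℕ) : ∀ k, k ≤ m →
    q ^ (k * (k + 1) / 2 + 2 * k * (m - k)) *
      (q ^ ((m - k) ^ 2) * ∏ i ∈ Finset.range (m - k), (q ^ (2 * (i + 1)) - 1)) *
      ∏ i ∈ Finset.range k, (q ^ (2 * m - i) - q ^ i) =
    q ^ (m ^ 2) * ∏ i ∈ Finset.range m, (q ^ (2 * (i + 1)) - 1) := by
  intro k
  induction k with
  | zero =>
    intro _
    simp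
  | succ k ih =>
    intro hk
    have ih' := ih (by omega)
    obtain ⟨d, hd⟩ : ∃ d, m = k + 1 + d := ⟨m - (k + 1), by omega⟩
    have e1 : m - (k + 1) = d := by omega
    have e2 : m - k = d + 1 := by omega
    rw [e2] at ih'
    rw [e1, Finset.prod_range_succ, ← ih', Finset.prod_range_succ (fun i => q ^ (2 * (i + 1)) - 1) d]
    have hfac : q ^ (2 * m - k) - q ^ k = q ^ k * (q ^ (2 * (d + 1)) - 1) := by
      rw [Nat.mul_sub, mul_one, ← pow_add]
      congr 2
      omega
    rw [hfac, tri_succ]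
    have hexp : k * (k + 1) / 2 + 2 * k * (d + 1) + (d + 1) ^ 2 =
        k * (k + 1) / 2 + (k + 1) + 2 * (k + 1) * d + d ^ 2 + k := by ring
    have : q ^ (k * (k + 1) / 2 + 2 * k * (d + 1)) * q ^ ((d + 1) ^ 2) =
        q ^ (k * (k + 1) / 2 + (k + 1) + 2 * (k + 1) * d) * q ^ (d ^ 2) * q ^ k := by
      rw [← pow_add, ← pow_add, ← pow_add, hexp]
    calc q ^ (k * (k + 1) / 2 + (k + 1) + 2 * (k + 1) * d) *
          (q ^ d ^ 2 * ∏ i ∈ Finset.range d, (q ^ (2 * (i + 1)) - 1)) *
          ((∏ x ∈ Finset.range k, (q ^ (2 * m - x) - q ^ x)) * (q ^ k * (q ^ (2 * (d + 1)) - 1)))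
        = (q ^ (k * (k + 1) / 2 + (k + 1) + 2 * (k + 1) * d) * q ^ (d ^ 2) * q ^ k) *
          ((∏ i ∈ Finset.range d, (q ^ (2 * (i + 1)) - 1)) * (q ^ (2 * (d + 1)) - 1)) *
          (∏ x ∈ Finset.range k, (q ^ (2 * m - x) - q ^ x)) := by ring
      _ = _ := by rw [← this]; ring

section main
open Cfsg.Agent.S0768 (B₀ B₀_apply B₀_alt B₀_nondeg)

theorem card_stab_aux {F : Type*} [Field F] [Fintype F] {q : ℕ} (hF : Fintype.card F = q) (m k : ℕ)
    (hk : k ≤ m) (W : Submodule F (Fin m ⊕ Fin m → F)) (hWk : Module.finrank F W = k)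
    (hW : ∀ u ∈ W, ∀ v ∈ W, Cfsg.sympForm m F u v = 0)
    (hSp : Nat.card (Matrix.symplecticGroup (Fin m) F) =
      q ^ (m ^ 2) * ∏ i ∈ Finset.range m, (q ^ (2 * (i + 1)) - 1)) :
    Nat.card ↥(Cfsg.stabilizing (Cfsg.spToMat m F) (W : Set (Fin m ⊕ Fin m → F))) =
      q ^ (k * (k + 1) / 2 + 2 * k * (m - k)) *
        (q ^ ((m - k) ^ 2) * ∏ i ∈ Finset.range (m - k), (q ^ (2 * (i + 1)) - 1)) *
        ∏ i : Fin k, (q ^ k - q ^ (i : ℕ)) := by
  obtain ⟨f₀, hP⟩ := card_P_eq W hWk hW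
  have h1 := card_sp_eq f₀
  rw [card_isoFrame (B₀ F m) B₀_nondeg B₀_alt k, hSp, hF] at h1
  have hfr : Module.finrank F (Fin m ⊕ Fin m → F) = 2 * m := by
    rw [Module.finrank_fintype_fun_eq_card, Fintype.card_sum, Fintype.card_fin]; ring
  rw [hfr, Fin.prod_univ_eq_prod_range (fun i => q ^ (2 * m - i) - q ^ i) k] at h1
  rw [hF] at hP
  have hq : 2 ≤ q := by rw [← hF]; exact Fintype.one_lt_card
  have hApos : 0 < ∏ i ∈ Finset.range k, (q ^ (2 * m - i) - q ^ i) := by
    apply Finset.prod_pos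
    intro i hi
    rw [Finset.mem_range] at hi
    have : q ^ i < q ^ (2 * m - i) := Nat.pow_lt_pow_right (by omega) (by omega)
    omega
  have h2 := arith75 q m k hk
  apply Nat.eq_of_mul_eq_mul_right hApos
  rw [hP]
  calc (∏ i : Fin k, (q ^ k - q ^ (i : ℕ))) * Nat.card ↥(frameStab f₀.1) *
        ∏ i ∈ Finset.range k, (q ^ (2 * m - i) - q ^ i)
      = (∏ i : Fin k, (q ^ k - q ^ (i : ℕ))) *
        ((∏ i ∈ Finset.range k, (q ^ (2 * m - i) - q ^ i)) * Nat.card ↥(frameStab f₀.1)) := by ring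
    _ = (∏ i : Fin k, (q ^ k - q ^ (i : ℕ))) *
        (q ^ (m ^ 2) * ∏ i ∈ Finset.range m, (q ^ (2 * (i + 1)) - 1)) := by rw [← h1]
    _ = _ := by rw [← h2]; ring
end main

section cardsp
open Cfsg.Agent.S0768 (B₀ B₀_apply B₀_alt B₀_nondeg)
variable {F : Type*} [Field F]

theorem card_symm_matrices [Fintype F] (m : ℕ) :
    Nat.card {S : Matrix (Fin m) (Fin m) F // Sᵀ = S} = Fintype.card F ^ (m * (m + 1) / 2) := by
  have e1 : {S : Matrix (Fin m) (Fin m) F // Sᵀ = S} ≃
      {f : Fin m → Fin m → F // ∀ a b, f a b = f b a} :=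
    { toFun := fun S => ⟨fun a b => S.1 a b, fun a b => by
        have := congrFun (congrFun S.2 a) b
        rw [Matrix.transpose_apply] at this
        exact this.symm⟩
      invFun := fun f => ⟨Matrix.of f.1, by
        ext a b
        rw [Matrix.transpose_apply]
        exact f.2 b a⟩
      left_inv := fun S => rfl
      right_inv := fun f => rfl }
  rw [Nat.card_congr (e1.trans Sym2.lift), Nat.card_eq_fintype_card, Fintype.card_fun, Sym2.card,
    Fintype.card_fin, Nat.choose_two_right, Nat.add_sub_cancel, mul_comm]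

/-- the standard Lagrangian frame -/
noncomputable def stdFrame (F : Type*) [Field F] (m : ℕ) : IsoFrame (B₀ F m) m :=
  ⟨fun i => Pi.single (Sum.inl i) 1, by
    exact (Pi.linearIndependent_single_one (Fin m ⊕ Fin m) F).comp
      (fun i : Fin m => (Sum.inl i : Fin m ⊕ Fin m)) Sum.inl_injective, by
    intro i j
    rw [B₀_apply, Cfsg.sympForm, Matrix.mulVec_single_one, single_dotProduct, one_mul]
    simp [Matrix.J]⟩

theorem card_frameStab_std [Fintype F] (m : ℕ) :
    Nat.card (frameStab (stdFrame F m).1) = Fintype.card F ^ (m * (m + 1) / 2) := by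
  rw [← card_symm_matrices]
  have hmem : ∀ g : Matrix.symplecticGroup (Fin m) F, g ∈ frameStab (stdFrame F m).1 ↔
      g.1.toBlocks₁₁ = 1 ∧ g.1.toBlocks₂₁ = 0 := by
    intro g
    constructor
    · intro h
      constructor
      · ext i j
        have := congrFun (h j) (Sum.inl i)
        change (g.1 *ᵥ Pi.single (Sum.inl j) 1) (Sum.inl i) = (Pi.single (Sum.inl j) 1 : Fin m ⊕ Fin m → F) (Sum.inl i) at this
        rw [Matrix.mulVec_single_one] at this
        simpa [Matrix.toBlocks₁₁, Matrix.one_apply, Pi.single_apply] using this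
      · ext i j
        have := congrFun (h j) (Sum.inr i)
        change (g.1 *ᵥ Pi.single (Sum.inl j) 1) (Sum.inr i) = (Pi.single (Sum.inl j) 1 : Fin m ⊕ Fin m → F) (Sum.inr i) at this
        rw [Matrix.mulVec_single_one] at this
        simpa [Matrix.toBlocks₂₁] using this
    · rintro ⟨hA, hC⟩ j
      change g.1 *ᵥ Pi.single (Sum.inl j) 1 = Pi.single (Sum.inl j) 1
      rw [Matrix.mulVec_single_one]
      funext x
      rcases x with i | i
      · have := congrFun (congrFun hA i) j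
        simpa [Matrix.toBlocks₁₁, Matrix.one_apply, Pi.single_apply] using this
      · have := congrFun (congrFun hC i) j
        simpa [Matrix.toBlocks₂₁] using this
  let e : frameStab (stdFrame F m).1 ≃ {S : Matrix (Fin m) (Fin m) F // Sᵀ = S} :=
    { toFun := fun g => ⟨g.1.1.toBlocks₁₂, by
        obtain ⟨hA, hC⟩ := (hmem g.1).1 g.2
        have hg : g.1.1 = fromBlocks 1 g.1.1.toBlocks₁₂ 0 g.1.1.toBlocks₂₂ := by
          rw [← hA, ← hC, fromBlocks_toBlocks]
        have h := g.1.2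
        rw [hg] at h
        obtain ⟨h1, h2⟩ := blocks_of_symp _ _ _ h
        rw [Matrix.mul_one] at h1
        have hD : g.1.1.toBlocks₂₂ = 1 := by
          have := congrArg Matrix.transpose h1
          rwa [Matrix.transpose_transpose, Matrix.transpose_one] at this
        rw [hD, Matrix.transpose_one, Matrix.one_mul, Matrix.mul_one] at h2
        exact h2.symm⟩
      invFun := fun S => ⟨⟨fromBlocks 1 S.1 0 1, by
          have := symp_of_blocks (1 : Matrix (Fin m) (Fin m) F) S.1 (by simp) S.2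
          simpa using this⟩, by
          rw [hmem]
          exact ⟨Matrix.toBlocks_fromBlocks₁₁ _ _ _ _, Matrix.toBlocks_fromBlocks₂₁ _ _ _ _⟩⟩
      left_inv := fun g => by
        apply Subtype.ext
        apply Subtype.ext
        obtain ⟨hA, hC⟩ := (hmem g.1).1 g.2
        have hg : g.1.1 = fromBlocks 1 g.1.1.toBlocks₁₂ 0 g.1.1.toBlocks₂₂ := by
          rw [← hA, ← hC, fromBlocks_toBlocks]
        have h := g.1.2
        rw [hg] at h
        obtain ⟨h1, -⟩ := blocks_of_symp _ _ _ h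
        rw [Matrix.mul_one] at h1
        have hD : g.1.1.toBlocks₂₂ = 1 := by
          have := congrArg Matrix.transpose h1
          rwa [Matrix.transpose_transpose, Matrix.transpose_one] at this
        show fromBlocks 1 g.1.1.toBlocks₁₂ 0 1 = g.1.1
        conv_rhs => rw [hg, hD]
      right_inv := fun S => by
        apply Subtype.ext
        exact Matrix.toBlocks_fromBlocks₁₂ _ _ _ _ }
  exact Nat.card_congr e

theorem card_sp [Fintype F] {q : ℕ} (hF : Fintype.card F = q) (m : ℕ) :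
    Nat.card (Matrix.symplecticGroup (Fin m) F) =
      q ^ (m ^ 2) * ∏ i ∈ Finset.range m, (q ^ (2 * (i + 1)) - 1) := by
  have h1 := card_sp_eq (stdFrame F m)
  rw [card_isoFrame (B₀ F m) B₀_nondeg B₀_alt m, card_frameStab_std, hF] at h1
  have hfr : Module.finrank F (Fin m ⊕ Fin m → F) = 2 * m := by
    rw [Module.finrank_fintype_fun_eq_card, Fintype.card_sum, Fintype.card_fin]; ring
  rw [hfr, Fin.prod_univ_eq_prod_range (fun i => q ^ (2 * m - i) - q ^ i) m] at h1
  have h2 := arith75 q m m le_rfl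
  simp only [Nat.sub_self, mul_zero, add_zero, Finset.range_zero, Finset.prod_empty, mul_one,
    pow_zero, ne_eq, OfNat.ofNat_ne_zero, not_false_eq_true, zero_pow] at h2
  rw [h1, ← h2, mul_comm]

end cardsp

/-- Maximal parabolics of the symplectic group: if W is a k-dimensional subspace of F^(2m) on which the symplectic form vanishes identically, its stabiliser in Sp_2m(q) has order q^(k(k+1)/2 + 2k(m−k)) · |Sp_(2m−2k)(q)| · |GL_k(q)|. -/
theorem result {F : Type*} [Field F] [Fintype F] {q : ℕ} (hF : Fintype.card F = q) (m k : ℕ) (hk : k ≤ m) (W : Submodule F (Fin m ⊕ Fin m → F)) (hWk : Module.finrank F W = k) (hW : ∀ u ∈ W, ∀ v ∈ W, Cfsg.sympForm m F u v = 0) : Nat.card ↥(Cfsg.stabilizing (Cfsg.spToMat m F) (W : Set (Fin m ⊕ Fin m → F))) = q ^ (k * (k + 1) / 2 + 2 * k * (m - k)) * (q ^ ((m - k) ^ 2) * ∏ i ∈ Finset.range (m - k), (q ^ (2 * (i + 1)) - 1)) * ∏ i : Fin k, (q ^ k - q ^ (i : ℕ)) := by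
  exact card_stab_aux hF m k hk W hWk hW (card_sp hF m)

end Cfsg.Agent.S0775
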