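import Cfsg.Statements.S0776
import Cfsg.Agent.Lib.H4.Symp
-- import your own Cfsg.Agent.* helpers here

set_option autoImplicit false
open Cfsg

namespace Cfsg.Agent.S0776

open Module LinearMap LinearMap.BilinForm Matrix

theorem J_inl_inl {K : Type*} [Field K] (k : ℕ) (i j : Fin k) : Matrix.J (Fin k) K (Sum.inl i) (Sum.inl j) = 0 := by
  simp [Matrix.J]

theorem J_inr_inr {K : Type*} [Field K] (k : ℕ) (i j : Fin k) : Matrix.J (Fin k) K (Sum.inr i) (Sum.inr j) = 0 := by
  simp [Matrix.J]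

theorem J_inl_inr {K : Type*} [Field K] (k : ℕ) (i j : Fin k) : Matrix.J (Fin k) K (Sum.inl i) (Sum.inr j) = if i = j then -1 else 0 := by
  simp only [Matrix.J, Matrix.fromBlocks_apply₁₂, Matrix.neg_apply, Matrix.one_apply]
  split_ifs <;> simp

theorem J_inr_inl {K : Type*} [Field K] (k : ℕ) (i j : Fin k) : Matrix.J (Fin k) K (Sum.inr i) (Sum.inl j) = if i = j then 1 else 0 := by
  simp [Matrix.J, Matrix.one_apply]

theorem exists_symp_family {K : Type*} [Field K] :
    ∀ (k : ℕ) {V : Type*} [AddCommGroup V] [Module K V] [FiniteDimensional K V]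
      (B : LinearMap.BilinForm K V), B.IsAlt → B.Nondegenerate → finrank K V = 2 * k →
      ∃ b : Fin k ⊕ Fin k → V, ∀ i j, B (b i) (b j) = Matrix.J (Fin k) K i j := by
  intro k
  induction k with
  | zero =>
    intro V _ _ _ B _ _ _
    exact ⟨fun i => i.elim (fun a => a.elim0) (fun a => a.elim0),
      fun i => i.elim (fun a => a.elim0) (fun a => a.elim0)⟩
  | succ k ih =>
    intro V _ _ _ B hAlt hnd hn
    have hpos' : 0 < finrank K V := by omega
    obtain ⟨u, hu⟩ : ∃ u : V, u ≠ 0 :=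
      (Module.finrank_pos_iff_exists_ne_zero (R := K) (M := V)).1 hpos'
    have hrefl : B.IsRefl := hAlt.isRefl
    obtain ⟨v', hv'⟩ : ∃ v : V, B u v ≠ 0 := by
      by_contra hcon
      push Not at hcon
      exact hu (hnd.1 u hcon)
    -- normalise
    obtain ⟨v, hv1⟩ : ∃ v : V, B u v = -1 := by
      refine ⟨(-(B u v')⁻¹) • v', ?_⟩
      rw [map_smul, smul_eq_mul, neg_mul, inv_mul_cancel₀ hv']
    have hv : B u v ≠ 0 := by rw [hv1]; simp
    have huu : B u u = 0 := hAlt u
    have hvv : B v v = 0 := hAlt v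
    have hvu : B v u = 1 := by
      have := hAlt.neg_eq u v
      rw [hv1] at this
      simpa using this.symm
    set H : Submodule K V := Submodule.span K {u, v} with hH
    have huH : u ∈ H := Submodule.subset_span (by simp)
    have hvH : v ∈ H := Submodule.subset_span (by simp)
    have hdisj : Disjoint H (B.orthogonal H) := by
      rw [Submodule.disjoint_def]
      intro x hxH hxO
      obtain ⟨a, b, rfl⟩ := Submodule.mem_span_pair.1 hxH
      have h1 : B u (a • u + b • v) = 0 := (mem_orthogonal_iff.1 hxO) u huH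
      have h2 : B v (a • u + b • v) = 0 := (mem_orthogonal_iff.1 hxO) v hvH
      simp only [map_add, map_smul, smul_eq_mul, huu, hvv, hv1, hvu, mul_zero, zero_add, add_zero,
        mul_neg, mul_one, neg_eq_zero] at h1 h2
      rw [h1, h2, zero_smul, zero_smul, add_zero]
    have hli : LinearIndependent K ![u, v] := by
      rw [LinearIndependent.pair_iff]
      intro a b hab
      have h1 : B u (a • u + b • v) = 0 := by rw [hab, map_zero]
      have h2 : B v (a • u + b • v) = 0 := by rw [hab, map_zero]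
      simp only [map_add, map_smul, smul_eq_mul, huu, hvv, hv1, hvu, mul_zero, zero_add, add_zero,
        mul_neg, mul_one, neg_eq_zero] at h1 h2
      exact ⟨h2, h1⟩
    have hfH : finrank K H = 2 := by
      have := finrank_span_eq_card hli
      rw [Fintype.card_fin] at this
      have hr : Set.range ![u, v] = {u, v} := by
        simp [Matrix.range_cons, Set.pair_comm]
      rw [hr] at this
      rw [hH]
      exact this
    set W : Submodule K V := B.orthogonal H with hW
    have hfW : finrank K W = 2 * k := by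
      rw [hW, finrank_orthogonal hnd H, hfH, hn]
      omega
    have hWW : B.orthogonal W = H := orthogonal_orthogonal hnd hrefl H
    have hdisjW : Disjoint W (B.orthogonal W) := by
      rw [hWW]
      exact hdisj.symm
    have hndW : (B.restrict W).Nondegenerate :=
      nondegenerate_restrict_of_disjoint_orthogonal B hrefl hdisjW
    have hAltW : (B.restrict W).IsAlt := by
      intro x
      exact hAlt x
    obtain ⟨b', hb'⟩ := ih (B.restrict W) hAltW hndW hfW
    have hb'' : ∀ i j, B (b' i : V) (b' j : V) = Matrix.J (Fin k) K i j := hb'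
    have hu0 : ∀ i, B u (b' i : V) = 0 := fun i => (mem_orthogonal_iff.1 (b' i).2) u huH
    have hv0 : ∀ i, B v (b' i : V) = 0 := fun i => (mem_orthogonal_iff.1 (b' i).2) v hvH
    have hu0' : ∀ i, B (b' i : V) u = 0 := fun i => by
      have := hAlt.neg_eq u (b' i : V); rw [hu0] at this; simpa using this.symm
    have hv0' : ∀ i, B (b' i : V) v = 0 := fun i => by
      have := hAlt.neg_eq v (b' i : V); rw [hv0] at this; simpa using this.symm
    refine ⟨Sum.elim (Fin.cons u (fun i => (b' (Sum.inl i) : V)))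
      (Fin.cons v (fun i => (b' (Sum.inr i) : V))), ?_⟩
    intro i j
    rcases i with i | i <;> rcases j with j | j
    · rw [J_inl_inl]
      refine Fin.cases ?_ (fun i' => ?_) i <;> refine Fin.cases ?_ (fun j' => ?_) j <;>
        simp [huu, hu0, hu0', hb'', J_inl_inl]
    · rw [J_inl_inr]
      refine Fin.cases ?_ (fun i' => ?_) i <;> refine Fin.cases ?_ (fun j' => ?_) j <;>
        simp [hv1, hu0, hv0', hb'', J_inl_inr, Fin.succ_ne_zero, (Fin.succ_ne_zero _).symm]
    · rw [J_inr_inl]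
      refine Fin.cases ?_ (fun i' => ?_) i <;> refine Fin.cases ?_ (fun j' => ?_) j <;>
        simp [hvu, hv0, hu0', hb'', J_inr_inl, Fin.succ_ne_zero, (Fin.succ_ne_zero _).symm]
    · rw [J_inr_inr]
      refine Fin.cases ?_ (fun i' => ?_) i <;> refine Fin.cases ?_ (fun j' => ?_) j <;>
        simp [hvv, hv0, hv0', hb'', J_inr_inr]


theorem symp_family_li {K V : Type*} [Field K] [AddCommGroup V] [Module K V]
    (B : LinearMap.BilinForm K V) (k : ℕ) (b : Fin k ⊕ Fin k → V)
    (hb : ∀ i j, B (b i) (b j) = Matrix.J (Fin k) K i j) : LinearIndependent K b := by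
  rw [Fintype.linearIndependent_iff]
  intro g hg
  have key : ∀ j, ∑ a, g a * Matrix.J (Fin k) K a j = 0 := by
    intro j
    have := congrArg (fun x => B x (b j)) hg
    simp only [map_sum, map_smul, LinearMap.sum_apply, LinearMap.smul_apply, smul_eq_mul, hb,
      map_zero, LinearMap.zero_apply] at this
    exact this
  intro i
  rcases i with i | i
  · have := key (Sum.inr i)
    simp only [Fintype.sum_sum_type, J_inl_inr, J_inr_inr, mul_zero, Finset.sum_const_zero,
      add_zero, mul_ite, mul_neg, mul_one, Finset.sum_ite_eq', Finset.mem_univ, if_true,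
      neg_eq_zero] at this
    exact this
  · have := key (Sum.inl i)
    simp only [Fintype.sum_sum_type, J_inl_inl, J_inr_inl, mul_zero, Finset.sum_const_zero,
      zero_add, mul_ite, mul_one, Finset.sum_ite_eq', Finset.mem_univ, if_true] at this
    exact this

theorem exists_symp_basis {K V : Type*} [Field K] [AddCommGroup V] [Module K V]
    [FiniteDimensional K V] (B : LinearMap.BilinForm K V) (hA : B.IsAlt) (hnd : B.Nondegenerate)
    (k : ℕ) (hk : finrank K V = 2 * k) :
    ∃ b : Basis (Fin k ⊕ Fin k) K V, ∀ i j, B (b i) (b j) = Matrix.J (Fin k) K i j := by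
  obtain ⟨b, hb⟩ := exists_symp_family k B hA hnd hk
  have hli := symp_family_li B k b hb
  refine ⟨basisOfLinearIndependentOfCardEqFinrank' b hli (by simp [hk, two_mul]), ?_⟩
  intro i j
  simp [hb]


section MatrixLemma
variable {F : Type*} [Field F] {m k l : ℕ}

abbrev Kap (k l : ℕ) := (Fin k ⊕ Fin k) ⊕ (Fin l ⊕ Fin l)

def Jp (F : Type*) [Field F] (k l : ℕ) : Matrix (Kap k l) (Kap k l) F :=
  fromBlocks (J (Fin k) F) 0 0 (J (Fin l) F)

theorem blocks_symp {A : Matrix (Fin k ⊕ Fin k) (Fin k ⊕ Fin k) F}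
    {D : Matrix (Fin l ⊕ Fin l) (Fin l ⊕ Fin l) F}
    (hA : A ∈ symplecticGroup (Fin k) F) (hD : D ∈ symplecticGroup (Fin l) F) :
    (fromBlocks A 0 0 D)ᵀ * Jp F k l * fromBlocks A 0 0 D = Jp F k l := by
  rw [SymplecticGroup.mem_iff'] at hA hD
  simp only [Jp, fromBlocks_transpose, fromBlocks_multiply, transpose_zero, Matrix.mul_zero,
    Matrix.zero_mul, add_zero, zero_add, hA, hD]

theorem conj_symp (P : Matrix (Fin m ⊕ Fin m) (Kap k l) F) (Q : Matrix (Kap k l) (Fin m ⊕ Fin m) F)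
    (h1 : P * Q = 1) (hJ : Pᵀ * J (Fin m) F * P = Jp F k l)
    (X : Matrix (Kap k l) (Kap k l) F) (hX : Xᵀ * Jp F k l * X = Jp F k l) :
    P * X * Q ∈ symplecticGroup (Fin m) F := by
  rw [SymplecticGroup.mem_iff']
  have e1 : Qᵀ * Jp F k l * Q = J (Fin m) F := by
    rw [← hJ]
    calc Qᵀ * (Pᵀ * J (Fin m) F * P) * Q = (P * Q)ᵀ * J (Fin m) F * (P * Q) := by
          rw [transpose_mul]; simp only [Matrix.mul_assoc]
      _ = J (Fin m) F := by rw [h1]; simp
  calc (P * X * Q)ᵀ * J (Fin m) F * (P * X * Q)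
      = Qᵀ * (Xᵀ * (Pᵀ * J (Fin m) F * P) * X) * Q := by
        simp only [transpose_mul, Matrix.mul_assoc]
    _ = J (Fin m) F := by rw [hJ, hX, e1]

theorem conj_symp' (P : Matrix (Fin m ⊕ Fin m) (Kap k l) F) (Q : Matrix (Kap k l) (Fin m ⊕ Fin m) F)
    (h1 : P * Q = 1) (hJ : Pᵀ * J (Fin m) F * P = Jp F k l)
    (g : Matrix (Fin m ⊕ Fin m) (Fin m ⊕ Fin m) F) (hg : g ∈ symplecticGroup (Fin m) F) :
    (Q * g * P)ᵀ * Jp F k l * (Q * g * P) = Jp F k l := by
  rw [SymplecticGroup.mem_iff'] at hg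
  have e1 : Qᵀ * Jp F k l * Q = J (Fin m) F := by
    rw [← hJ]
    calc Qᵀ * (Pᵀ * J (Fin m) F * P) * Q = (P * Q)ᵀ * J (Fin m) F * (P * Q) := by
          rw [transpose_mul]; simp only [Matrix.mul_assoc]
      _ = J (Fin m) F := by rw [h1]; simp
  calc (Q * g * P)ᵀ * Jp F k l * (Q * g * P)
      = Pᵀ * (gᵀ * (Qᵀ * Jp F k l * Q) * g) * P := by
        simp only [transpose_mul, Matrix.mul_assoc]
    _ = Jp F k l := by rw [e1, hg, hJ]

theorem inr_zero_iff (D : symplecticGroup (Fin l) F) (z : Fin l ⊕ Fin l → F) :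
    (∀ j, (D.1 *ᵥ z) j = 0) ↔ ∀ j, z j = 0 := by
  have hinv : (D⁻¹).1 * D.1 = 1 := by
    exact congrArg Subtype.val (inv_mul_cancel D)
  constructor
  · intro h
    have h0 : D.1 *ᵥ z = 0 := funext h
    have : z = (D⁻¹).1 *ᵥ (D.1 *ᵥ z) := by
      rw [Matrix.mulVec_mulVec, hinv, Matrix.one_mulVec]
    intro j
    rw [this, h0, Matrix.mulVec_zero]; rfl
  · intro h
    have h0 : z = 0 := funext h
    intro j
    rw [h0, Matrix.mulVec_zero]; rfl

theorem stab_equiv (P : Matrix (Fin m ⊕ Fin m) (Kap k l) F) (Q : Matrix (Kap k l) (Fin m ⊕ Fin m) F)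
    (h1 : P * Q = 1) (h2 : Q * P = 1) (hJ : Pᵀ * J (Fin m) F * P = Jp F k l)
    (S : Set (Fin m ⊕ Fin m → F)) (hS : ∀ v, v ∈ S ↔ ∀ j, (Q *ᵥ v) (Sum.inr j) = 0) :
    Nonempty (↥(Cfsg.stabilizing (Cfsg.spToMat m F) S) ≃*
      symplecticGroup (Fin k) F × symplecticGroup (Fin l) F) := by
  have hmemS : ∀ (A : symplecticGroup (Fin k) F) (D : symplecticGroup (Fin l) F),
      (⟨P * fromBlocks A.1 0 0 D.1 * Q, conj_symp P Q h1 hJ _ (blocks_symp A.2 D.2)⟩ :
        symplecticGroup (Fin m) F) ∈ Cfsg.stabilizing (Cfsg.spToMat m F) S := by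
    intro A D v
    show v ∈ S ↔ (P * fromBlocks A.1 0 0 D.1 * Q) *ᵥ v ∈ S
    rw [hS, hS]
    have : Q *ᵥ ((P * fromBlocks A.1 0 0 D.1 * Q) *ᵥ v) =
        fromBlocks A.1 0 0 D.1 *ᵥ (Q *ᵥ v) := by
      rw [Matrix.mulVec_mulVec, Matrix.mulVec_mulVec]; congr 1
      rw [← Matrix.mul_assoc, ← Matrix.mul_assoc, h2, Matrix.one_mul]
    rw [this, Matrix.fromBlocks_mulVec]
    simp only [Sum.elim_inr, Matrix.zero_mulVec, zero_add]
    exact (inr_zero_iff D _).symm
  let ψ : symplecticGroup (Fin k) F × symplecticGroup (Fin l) F →*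
      ↥(Cfsg.stabilizing (Cfsg.spToMat m F) S) :=
    { toFun := fun AD => ⟨⟨P * fromBlocks AD.1.1 0 0 AD.2.1 * Q,
        conj_symp P Q h1 hJ _ (blocks_symp AD.1.2 AD.2.2)⟩, hmemS AD.1 AD.2⟩
      map_one' := by
        apply Subtype.ext; apply Subtype.ext
        show P * fromBlocks (1 : Matrix _ _ F) 0 0 1 * Q = 1
        rw [fromBlocks_one, Matrix.mul_one, h1]
      map_mul' := by
        intro x y
        apply Subtype.ext; apply Subtype.ext
        show P * fromBlocks (x.1.1 * y.1.1) 0 0 (x.2.1 * y.2.1) * Q =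
          (P * fromBlocks x.1.1 0 0 x.2.1 * Q) * (P * fromBlocks y.1.1 0 0 y.2.1 * Q)
        have : fromBlocks (x.1.1 * y.1.1) 0 0 (x.2.1 * y.2.1) =
            fromBlocks x.1.1 0 0 x.2.1 * (Q * P) * fromBlocks y.1.1 0 0 y.2.1 := by
          rw [h2, Matrix.mul_one, fromBlocks_multiply]
          simp
        rw [this]
        simp only [Matrix.mul_assoc] }
  have hinj : Function.Injective ψ := by
    intro x y hxy
    have h : P * fromBlocks x.1.1 0 0 x.2.1 * Q = P * fromBlocks y.1.1 0 0 y.2.1 * Q :=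
      congrArg (fun z => z.1.1) hxy
    have h' : fromBlocks x.1.1 0 0 x.2.1 = fromBlocks y.1.1 0 0 y.2.1 := by
      calc fromBlocks x.1.1 0 0 x.2.1 = (Q * P) * fromBlocks x.1.1 0 0 x.2.1 * (Q * P) := by
            rw [h2]; simp
        _ = Q * (P * fromBlocks x.1.1 0 0 x.2.1 * Q) * P := by simp only [Matrix.mul_assoc]
        _ = Q * (P * fromBlocks y.1.1 0 0 y.2.1 * Q) * P := by rw [h]
        _ = (Q * P) * fromBlocks y.1.1 0 0 y.2.1 * (Q * P) := by simp only [Matrix.mul_assoc]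
        _ = fromBlocks y.1.1 0 0 y.2.1 := by rw [h2]; simp
    rw [Matrix.fromBlocks_inj] at h'
    exact Prod.ext (Subtype.ext h'.1) (Subtype.ext h'.2.2.2)
  have hsurj : Function.Surjective ψ := by
    intro g
    obtain ⟨⟨g, hg⟩, hgS⟩ := g
    have hX := conj_symp' P Q h1 hJ g hg
    obtain ⟨X, hXdef⟩ : ∃ X, X = Q * g * P := ⟨_, rfl⟩
    rw [← hXdef] at hX
    obtain ⟨A, hAdef⟩ : ∃ A, A = X.toBlocks₁₁ := ⟨_, rfl⟩
    obtain ⟨B, hBdef⟩ : ∃ B, B = X.toBlocks₁₂ := ⟨_, rfl⟩
    obtain ⟨C, hCdef⟩ : ∃ C, C = X.toBlocks₂₁ := ⟨_, rfl⟩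
    obtain ⟨D, hDdef⟩ : ∃ D, D = X.toBlocks₂₂ := ⟨_, rfl⟩
    have hXb : X = fromBlocks A B C D := by
      rw [hAdef, hBdef, hCdef, hDdef, fromBlocks_toBlocks]
    have hgX : g = P * X * Q := by
      rw [hXdef]
      calc g = (P * Q) * g * (P * Q) := by rw [h1]; simp
        _ = _ := by simp only [Matrix.mul_assoc]
    -- C = 0
    have hC : C = 0 := by
      ext i j
      have hv : P *ᵥ (Pi.single (Sum.inl j) 1) ∈ S := by
        rw [hS]
        intro j'
        rw [Matrix.mulVec_mulVec, h2, Matrix.one_mulVec]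
        simp
      have hgv : g *ᵥ (P *ᵥ (Pi.single (Sum.inl j) 1)) ∈ S := (hgS _).1 hv
      rw [hS] at hgv
      have := hgv i
      rw [Matrix.mulVec_mulVec, Matrix.mulVec_mulVec, ← hXdef,
        Matrix.mulVec_single_one, hXb] at this
      simpa using this
    subst hC
    rw [hXb] at hX
    simp only [Jp, fromBlocks_transpose, fromBlocks_multiply, transpose_zero, Matrix.mul_zero,
      Matrix.zero_mul, add_zero, zero_add, Matrix.fromBlocks_inj] at hX
    obtain ⟨hA, hAB, -, hBD⟩ := hX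
    have hAm : A ∈ symplecticGroup (Fin k) F := SymplecticGroup.mem_iff'.2 hA
    have hB : B = 0 := by
      have hAm' := SymplecticGroup.mem_iff.1 hAm
      have e : (-(A * J (Fin k) F)) * (Aᵀ * J (Fin k) F) = 1 := by
        rw [Matrix.neg_mul, ← Matrix.mul_assoc, hAm', J_squared, neg_neg]
      calc B = ((-(A * J (Fin k) F)) * (Aᵀ * J (Fin k) F)) * B := by rw [e, Matrix.one_mul]
        _ = (-(A * J (Fin k) F)) * (Aᵀ * J (Fin k) F * B) := by rw [Matrix.mul_assoc]
        _ = 0 := by rw [hAB, Matrix.mul_zero]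
    subst hB
    have hDm : D ∈ symplecticGroup (Fin l) F := by
      rw [SymplecticGroup.mem_iff']
      simpa using hBD
    refine ⟨(⟨A, hAm⟩, ⟨D, hDm⟩), ?_⟩
    apply Subtype.ext; apply Subtype.ext
    show P * fromBlocks A 0 0 D * Q = g
    rw [hgX, hXb]
  exact ⟨(MulEquiv.ofBijective ψ ⟨hinj, hsurj⟩).symm⟩

end MatrixLemma

/-- If W ≤ F^(2m) is a 2k-dimensional subspace on which the symplectic form is non-degenerate, then the stabiliser of W in Sp_2m(F) is isomorphic to Sp_2k(F) × Sp_(2m−2k)(F). -/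
theorem result {F : Type*} [Field F] (m k : ℕ) (hk : k ≤ m) (W : Submodule F (Fin m ⊕ Fin m → F)) (hWk : Module.finrank F W = 2 * k) (hW : ∀ u ∈ W, (∀ v ∈ W, Cfsg.sympForm m F u v = 0) → u = 0) : Nonempty (↥(Cfsg.stabilizing (Cfsg.spToMat m F) (W : Set (Fin m ⊕ Fin m → F))) ≃* Matrix.symplecticGroup (Fin k) F × Matrix.symplecticGroup (Fin (m - k)) F) := by
  classical
  obtain ⟨B₀, hB₀⟩ : ∃ B₀ : LinearMap.BilinForm F (Fin m ⊕ Fin m → F),
      B₀ = Matrix.toBilin' (J (Fin m) F) := ⟨_, rfl⟩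
  have hB₀apply : ∀ u v, B₀ u v = Cfsg.sympForm m F u v := fun u v => by
    rw [hB₀, Matrix.toBilin'_apply']; rfl
  have hAlt : B₀.IsAlt := fun x => by
    rw [hB₀apply]; exact Cfsg.Agent.Lib.H4.sympForm_self m x
  have hrefl : B₀.IsRefl := hAlt.isRefl
  have hnd : B₀.Nondegenerate := by
    rw [hB₀]
    exact Matrix.Nondegenerate.toBilin'
      (Matrix.nondegenerate_of_det_ne_zero (isUnit_det_J (Fin m) F).ne_zero)
  have hfV : finrank F (Fin m ⊕ Fin m → F) = 2 * m := by
    simp [two_mul]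
  -- restriction to W nondegenerate
  have hndW : (B₀.restrict W).Nondegenerate := by
    constructor
    · intro x hx
      apply Subtype.ext
      apply hW x.1 x.2
      intro v hv
      rw [← hB₀apply]
      exact hx ⟨v, hv⟩
    · intro y hy
      apply Subtype.ext
      apply hW y.1 y.2
      intro v hv
      rw [← hB₀apply]
      have : B₀ v (y : Fin m ⊕ Fin m → F) = 0 := hy ⟨v, hv⟩
      have h2 := hAlt.neg_eq (v : Fin m ⊕ Fin m → F) (y : Fin m ⊕ Fin m → F)
      rw [← h2, this, neg_zero]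
  have hAltW : (B₀.restrict W).IsAlt := fun x => hAlt x
  obtain ⟨W', hW'⟩ : ∃ W' : Submodule F (Fin m ⊕ Fin m → F), W' = B₀.orthogonal W := ⟨_, rfl⟩
  have hc : IsCompl W W' := hW' ▸ isCompl_orthogonal_of_restrict_nondegenerate hrefl hndW
  have hfW' : finrank F W' = 2 * (m - k) := by
    rw [hW', finrank_orthogonal hnd W, hfV, hWk]
    omega
  have hndW' : (B₀.restrict W').Nondegenerate := by
    apply nondegenerate_restrict_of_disjoint_orthogonal B₀ hrefl
    rw [hW', orthogonal_orthogonal hnd hrefl W, ← hW']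
    exact hc.disjoint.symm
  have hAltW' : (B₀.restrict W').IsAlt := fun x => hAlt x
  obtain ⟨b₁, hb₁⟩ := exists_symp_basis (B₀.restrict W) hAltW hndW k hWk
  obtain ⟨b₂, hb₂⟩ := exists_symp_basis (B₀.restrict W') hAltW' hndW' (m - k) hfW'
  obtain ⟨c, hcdef⟩ : ∃ c : Basis (Kap k (m - k)) F (Fin m ⊕ Fin m → F),
      c = (b₁.prod b₂).map (W.prodEquivOfIsCompl W' hc) := ⟨_, rfl⟩
  have hcl : ∀ i, c (Sum.inl i) = (b₁ i : Fin m ⊕ Fin m → F) := by
    intro i
    rw [hcdef]
    simp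
  have hcr : ∀ i, c (Sum.inr i) = (b₂ i : Fin m ⊕ Fin m → F) := by
    intro i
    rw [hcdef]
    simp
  have hGram : ∀ a b, B₀ (c a) (c b) = Jp F k (m - k) a b := by
    intro a b
    rcases a with a | a <;> rcases b with b | b
    · rw [hcl, hcl]; exact hb₁ a b
    · rw [hcl, hcr]
      have : (b₂ b : Fin m ⊕ Fin m → F) ∈ B₀.orthogonal W := hW' ▸ (b₂ b).2
      rw [mem_orthogonal_iff.1 this _ (b₁ a).2]
      simp [Jp]
    · rw [hcr, hcl]
      have : (b₂ a : Fin m ⊕ Fin m → F) ∈ B₀.orthogonal W := hW' ▸ (b₂ a).2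
      have h0 := mem_orthogonal_iff.1 this _ (b₁ b).2
      have h2 := hAlt.neg_eq (b₁ b : Fin m ⊕ Fin m → F) (b₂ a : Fin m ⊕ Fin m → F)
      have h3 : B₀ (b₂ a : Fin m ⊕ Fin m → F) (b₁ b : Fin m ⊕ Fin m → F) = 0 := by
        have h0' : B₀ (b₁ b : Fin m ⊕ Fin m → F) (b₂ a : Fin m ⊕ Fin m → F) = 0 := h0
        rw [← h2, h0', neg_zero]
      rw [h3]
      simp [Jp]
    · rw [hcr, hcr]; exact hb₂ a b
  refine stab_equiv (((Pi.basisFun F (Fin m ⊕ Fin m)).toMatrix c))
    (c.toMatrix (Pi.basisFun F (Fin m ⊕ Fin m))) (Basis.toMatrix_mul_toMatrix_flip _ _)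
    (Basis.toMatrix_mul_toMatrix_flip _ _) ?_ _ ?_
  · have := LinearMap.BilinForm.toMatrix_mul_basis_toMatrix (Pi.basisFun F (Fin m ⊕ Fin m)) c B₀
    rw [LinearMap.BilinForm.toMatrix_basisFun, hB₀, BilinForm.toMatrix'_toBilin', ← hB₀] at this
    rw [this]
    ext a b
    rw [LinearMap.BilinForm.toMatrix_apply, hGram]
  · intro v
    have hrepr : c.toMatrix (Pi.basisFun F (Fin m ⊕ Fin m)) *ᵥ v = c.repr v := by
      have := Basis.toMatrix_mulVec_repr (Pi.basisFun F (Fin m ⊕ Fin m)) c v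
      have e : ⇑((Pi.basisFun F (Fin m ⊕ Fin m)).repr v) = v :=
        funext fun i => Pi.basisFun_repr F (Fin m ⊕ Fin m) v i
      rw [e] at this
      exact this
    rw [hrepr, SetLike.mem_coe, ← Submodule.prodEquivOfIsCompl_symm_apply_snd_eq_zero W W' hc]
    rw [hcdef]
    simp only [Basis.map_repr, LinearEquiv.trans_apply, Basis.prod_repr_inr]
    constructor
    · intro h j
      rw [h]; simp
    · intro h
      apply b₂.repr.injective
      ext j
      rw [h j]; simp

end Cfsg.Agent.S0776
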