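import Cfsg.Statements.S0777
import Mathlib
-- import your own Cfsg.Agent.* helpers here

set_option autoImplicit false
open Cfsg

namespace Cfsg.Agent.S0777

open Matrix
variable {F : Type*} [Field F]
/-- group element with invertible matrix mapping a submodule into itself stabilises it -/
theorem mem_stab_iff' {H : Type*} [Group H] {ι : Type} [Fintype ι] [DecidableEq ι]
    (toMat : H →* Matrix ι ι F) (W : Submodule F (ι → F)) (g : H) :
    g ∈ Cfsg.stabilizing toMat (W : Set (ι → F)) ↔ ∀ v ∈ W, toMat g *ᵥ v ∈ W := by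
  have hinv : ∀ x : ι → F, toMat g⁻¹ *ᵥ (toMat g *ᵥ x) = x := by
    intro x
    rw [Matrix.mulVec_mulVec, ← map_mul, inv_mul_cancel, map_one, Matrix.one_mulVec]
  constructor
  · intro h v hv
    exact (h v).1 hv
  · intro h v
    refine ⟨h v, fun hgv => ?_⟩
    let f : W →ₗ[F] W := (Matrix.toLin' (toMat g)).restrict (p := W) (q := W)
      (fun x hx => by simpa [Matrix.toLin'_apply] using h x hx)
    have hinj : Function.Injective f := by
      intro x y hxy
      have h1 : toMat g *ᵥ (x : ι → F) = toMat g *ᵥ (y : ι → F) := by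
        have := congrArg Subtype.val hxy
        simpa [f, Matrix.toLin'_apply] using this
      have h2 := congrArg (fun z => toMat g⁻¹ *ᵥ z) h1
      simp only [hinv] at h2
      exact Subtype.ext h2
    have hsurj : Function.Surjective f := LinearMap.surjective_of_injective hinj
    obtain ⟨w, hw⟩ := hsurj ⟨_, hgv⟩
    have h1 : toMat g *ᵥ (w : ι → F) = toMat g *ᵥ v := by
      have := congrArg Subtype.val hw
      simpa [f, Matrix.toLin'_apply] using this
    have h2 := congrArg (fun z => toMat g⁻¹ *ᵥ z) h1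
    simp only [hinv] at h2
    rw [← h2]
    exact w.2


theorem mem_span_single_iff {ι : Type} [Fintype ι] [DecidableEq ι] (j : ι) (v : ι → F) :
    v ∈ Submodule.span F {(Pi.single j (1 : F) : ι → F)} ↔ ∀ i, i ≠ j → v i = 0 := by
  rw [Submodule.mem_span_singleton]
  constructor
  · rintro ⟨a, rfl⟩ i hi
    simp [hi]
  · intro h
    refine ⟨v j, ?_⟩
    funext i
    by_cases hi : i = j
    · subst hi; simp
    · simp [hi, h i hi]

theorem mem_Tor_iff {m : ℕ} (g : Matrix.symplecticGroup (Fin m) F) :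
    g ∈ (⨅ i : Fin m ⊕ Fin m, Cfsg.stabilizing (Cfsg.spToMat m F)
      ((Submodule.span F {(Pi.single i (1 : F) : Fin m ⊕ Fin m → F)} :
        Submodule F (Fin m ⊕ Fin m → F)) : Set (Fin m ⊕ Fin m → F))) ↔
    ∀ i j, i ≠ j → g.1 i j = 0 := by
  rw [Subgroup.mem_iInf]
  simp only [mem_stab_iff']
  constructor
  · intro h i j hij
    have := h j (Pi.single j 1) (Submodule.subset_span rfl)
    rw [mem_span_single_iff] at this
    have := this i hij
    change (g.1 *ᵥ _) i = 0 at this
    rw [Matrix.mulVec_single_one] at this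
    simpa using this
  · intro h j v hv
    rw [mem_span_single_iff] at hv ⊢
    intro i hi
    change (g.1 *ᵥ v) i = 0
    rw [Matrix.mulVec, dotProduct]
    apply Finset.sum_eq_zero
    intro k _
    by_cases hk : k = j
    · rw [hk, h i j hi, zero_mul]
    · rw [hv k hk, mul_zero]

def sg (m : ℕ) (F : Type*) [Field F] : Fin m ⊕ Fin m → F := Sum.elim (fun _ => -1) (fun _ => 1)

theorem sg_swap {m : ℕ} (a : Fin m ⊕ Fin m) : sg m F (Sum.swap a) = - sg m F a := by
  rcases a with a | a <;> simp [sg]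

theorem sg_mul_self {m : ℕ} (a : Fin m ⊕ Fin m) : sg m F a * sg m F a = 1 := by
  rcases a with a | a <;> simp [sg]

theorem sg_ne_zero {m : ℕ} (a : Fin m ⊕ Fin m) : sg m F a ≠ 0 := by
  intro h
  have := sg_mul_self (F := F) a
  rw [h, mul_zero] at this
  exact zero_ne_one this

theorem J_eq {m : ℕ} (a b : Fin m ⊕ Fin m) :
    Matrix.J (Fin m) F a b = if b = Sum.swap a then sg m F a else 0 := by
  rcases a with a | a <;> rcases b with b | b
  · simp [Matrix.J]
  · simp only [Matrix.J, Matrix.fromBlocks_apply₁₂, Matrix.neg_apply, Matrix.one_apply, Sum.swap_inl,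
      Sum.inr.injEq, sg, Sum.elim_inl]
    by_cases h : a = b
    · simp [h]
    · simp [h, Ne.symm h]
  · simp only [Matrix.J, Matrix.fromBlocks_apply₂₁, Matrix.one_apply, Sum.swap_inr,
      Sum.inl.injEq, sg, Sum.elim_inr]
    by_cases h : a = b
    · simp [h]
    · simp [h, Ne.symm h]
  · simp [Matrix.J]

theorem diag_mem_symp {m : ℕ} (t : Fin m ⊕ Fin m → F)
    (ht : ∀ k, t (Sum.inl k) * t (Sum.inr k) = 1) :
    Matrix.diagonal t ∈ Matrix.symplecticGroup (Fin m) F := by
  rw [SymplecticGroup.mem_iff', Matrix.diagonal_transpose]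
  ext a b
  rw [Matrix.mul_diagonal, Matrix.diagonal_mul, J_eq]
  by_cases hb : b = Sum.swap a
  · rw [if_pos hb, hb]
    have : t a * t (Sum.swap a) = 1 := by
      rcases a with a | a
      · exact ht a
      · rw [mul_comm]; exact ht a
    rw [mul_right_comm, this, one_mul]
  · rw [if_neg hb, mul_zero, zero_mul]

theorem exists_torus_sep [Fintype F] {m : ℕ} (hq : 4 ≤ Fintype.card F) (i₁ i₂ : Fin m ⊕ Fin m)
    (h : i₁ ≠ i₂) :
    ∃ t : Fin m ⊕ Fin m → F, (∀ k, t (Sum.inl k) * t (Sum.inr k) = 1) ∧ t i₁ ≠ t i₂ := by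
  classical
  obtain ⟨a, -, ha⟩ : ∃ a, a ∈ (Finset.univ : Finset F) ∧ a ∉ ({0, 1, -1} : Finset F) := by
    apply Finset.exists_mem_notMem_of_card_lt_card
    calc ({0, 1, -1} : Finset F).card ≤ 3 := Finset.card_le_three
      _ < Fintype.card F := by omega
      _ = (Finset.univ : Finset F).card := Finset.card_univ.symm
  simp only [Finset.mem_insert, Finset.mem_singleton, not_or] at ha
  obtain ⟨ha0, ha1, ham1⟩ := ha
  have hinv1 : a⁻¹ ≠ 1 := by
    intro hh
    exact ha1 (inv_eq_one.1 hh)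
  have hinva : a⁻¹ ≠ a := by
    intro hh
    have h1 : a * a = 1 := by
      calc a * a = a⁻¹ * a := by rw [hh]
        _ = 1 := inv_mul_cancel₀ ha0
    have h2 : (a - 1) * (a + 1) = 0 := by ring_nf; rw [sq, h1]; ring
    rcases mul_eq_zero.1 h2 with h3 | h3
    · exact ha1 (sub_eq_zero.1 h3)
    · exact ham1 (eq_neg_of_add_eq_zero_left h3)
  obtain ⟨p, hp⟩ : ∃ p : Fin m, p = Sum.elim id id i₁ := ⟨_, rfl⟩
  refine ⟨fun x => Sum.elim (fun i => if i = p then a else 1) (fun i => if i = p then a⁻¹ else 1) x,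
    ?_, ?_⟩
  · intro k
    simp only [Sum.elim_inl, Sum.elim_inr]
    by_cases hk : k = p
    · rw [if_pos hk, if_pos hk, mul_inv_cancel₀ ha0]
    · rw [if_neg hk, if_neg hk, one_mul]
  · rcases i₁ with u | u <;> rcases i₂ with w | w
    · have hwu : w ≠ u := by
        intro hh; apply h; rw [hh]
      simp only [Sum.elim_inl, id] at hp
      simp only [Sum.elim_inl, hp, if_true, if_neg hwu]
      exact ha1
    · simp only [Sum.elim_inl, id] at hp
      simp only [Sum.elim_inl, Sum.elim_inr, hp, if_true]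
      by_cases hwu : w = u
      · rw [if_pos hwu]; exact fun hh => hinva hh.symm
      · rw [if_neg hwu]; exact ha1
    · simp only [Sum.elim_inr, id] at hp
      simp only [Sum.elim_inl, Sum.elim_inr, hp, if_true]
      by_cases hwu : w = u
      · rw [if_pos hwu]; exact hinva
      · rw [if_neg hwu]; exact hinv1
    · have hwu : w ≠ u := by
        intro hh; apply h; rw [hh]
      simp only [Sum.elim_inr, id] at hp
      simp only [Sum.elim_inr, hp, if_true, if_neg hwu]
      exact hinv1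

def Tor (m : ℕ) (F : Type*) [Field F] : Subgroup (Matrix.symplecticGroup (Fin m) F) :=
  ⨅ i : Fin m ⊕ Fin m, Cfsg.stabilizing (Cfsg.spToMat m F)
    ((Submodule.span F {(Pi.single i (1 : F) : Fin m ⊕ Fin m → F)} :
      Submodule F (Fin m ⊕ Fin m → F)) : Set (Fin m ⊕ Fin m → F))

theorem mem_Tor_iff' {m : ℕ} (g : Matrix.symplecticGroup (Fin m) F) :
    g ∈ Tor m F ↔ ∀ i j, i ≠ j → g.1 i j = 0 := mem_Tor_iff g

theorem col_unique [Fintype F] {m : ℕ} (hq : 4 ≤ Fintype.card F)
    (g : Matrix.symplecticGroup (Fin m) F)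
    (hg : g ∈ Subgroup.normalizer (Tor m F : Set (Matrix.symplecticGroup (Fin m) F)))
    (j i₁ i₂ : Fin m ⊕ Fin m) (h12 : i₁ ≠ i₂) (h1 : g.1 i₁ j ≠ 0) : g.1 i₂ j = 0 := by
  by_contra h2
  obtain ⟨t, ht, hne⟩ := exists_torus_sep hq i₁ i₂ h12
  obtain ⟨tt, htt⟩ : ∃ tt : Matrix.symplecticGroup (Fin m) F, tt = ⟨Matrix.diagonal t, diag_mem_symp t ht⟩ :=
    ⟨_, rfl⟩
  have httT : tt ∈ Tor m F := by
    rw [mem_Tor_iff', htt]
    intro i j hij
    exact Matrix.diagonal_apply_ne _ hij
  have h3 : g⁻¹ * tt * g ∈ Tor m F := (Subgroup.mem_normalizer_iff''.1 hg tt).1 httT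
  obtain ⟨t', ht'⟩ : ∃ t', t' = g⁻¹ * tt * g := ⟨_, rfl⟩
  rw [← ht'] at h3
  have h4 : g * t' = tt * g := by
    rw [ht']; group
  have h5 : g.1 * t'.1 = Matrix.diagonal t * g.1 := by
    have := congrArg (fun z : Matrix.symplecticGroup (Fin m) F => z.1) h4
    simpa [htt] using this
  rw [mem_Tor_iff'] at h3
  have h6 : ∀ i, g.1 i j * t'.1 j j = t i * g.1 i j := by
    intro i
    have := congrFun (congrFun h5 i) j
    rw [Matrix.diagonal_mul, Matrix.mul_apply, Finset.sum_eq_single j] at this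
    · exact this
    · intro k _ hk
      rw [h3 k j hk, mul_zero]
    · intro hj
      exact absurd (Finset.mem_univ j) hj
  have e1 : t'.1 j j = t i₁ := by
    have := h6 i₁
    rw [mul_comm] at this
    exact mul_right_cancel₀ h1 this
  have e2 : t'.1 j j = t i₂ := by
    have := h6 i₂
    rw [mul_comm] at this
    exact mul_right_cancel₀ h2 this
  exact hne (e1.symm.trans e2)

theorem exists_perm_of_normalizer [Fintype F] {m : ℕ} (hq : 4 ≤ Fintype.card F)
    (g : Matrix.symplecticGroup (Fin m) F)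
    (hg : g ∈ Subgroup.normalizer (Tor m F : Set (Matrix.symplecticGroup (Fin m) F))) :
    ∃ σ : Equiv.Perm (Fin m ⊕ Fin m), ∀ i j, i ≠ σ j → g.1 i j = 0 := by
  have hl : (g⁻¹).1 * g.1 = 1 := by
    exact congrArg (fun z : Matrix.symplecticGroup (Fin m) F => z.1) (inv_mul_cancel g)
  have hr : g.1 * (g⁻¹).1 = 1 := by
    exact congrArg (fun z : Matrix.symplecticGroup (Fin m) F => z.1) (mul_inv_cancel g)
  have hcol : ∀ j, ∃ i, g.1 i j ≠ 0 := by
    intro j
    by_contra hcon
    push Not at hcon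
    have := congrFun (congrFun hl j) j
    rw [Matrix.mul_apply, Matrix.one_apply_eq] at this
    rw [Finset.sum_eq_zero] at this
    · exact zero_ne_one this
    · intro i _
      rw [hcon i, mul_zero]
  choose s hs using hcol
  have hzero : ∀ i j, i ≠ s j → g.1 i j = 0 := fun i j hij =>
    col_unique hq g hg j (s j) i (Ne.symm hij) (hs j)
  have hsurj : Function.Surjective s := by
    intro i
    by_contra hcon
    push Not at hcon
    have := congrFun (congrFun hr i) i
    rw [Matrix.mul_apply, Matrix.one_apply_eq] at this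
    rw [Finset.sum_eq_zero] at this
    · exact zero_ne_one this
    · intro k _
      rw [hzero i k (Ne.symm (hcon k)), zero_mul]
  have hbij : Function.Bijective s := ⟨Finite.injective_iff_surjective.2 hsurj, hsurj⟩
  exact ⟨Equiv.ofBijective s hbij, fun i j hij => hzero i j hij⟩

def Mmat {m : ℕ} (σ : Equiv.Perm (Fin m ⊕ Fin m)) (d : Fin m ⊕ Fin m → F) :
    Matrix (Fin m ⊕ Fin m) (Fin m ⊕ Fin m) F :=
  Matrix.of fun i j => if i = σ j then d j else 0

theorem Mmat_gram {m : ℕ} (σ : Equiv.Perm (Fin m ⊕ Fin m)) (d : Fin m ⊕ Fin m → F) :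
    (Mmat σ d)ᵀ * Matrix.J (Fin m) F * Mmat σ d =
      Matrix.of fun j k => d j * Matrix.J (Fin m) F (σ j) (σ k) * d k := by
  ext j k
  simp only [Matrix.mul_apply, Matrix.transpose_apply, Mmat, Matrix.of_apply, ite_mul, mul_ite,
    zero_mul, mul_zero, Finset.sum_ite_eq', Finset.mem_univ, if_true]

theorem eq_Mmat {m : ℕ} (A : Matrix (Fin m ⊕ Fin m) (Fin m ⊕ Fin m) F)
    (σ : Equiv.Perm (Fin m ⊕ Fin m)) (hσ : ∀ i j, i ≠ σ j → A i j = 0) :
    A = Mmat σ (fun j => A (σ j) j) := by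
  ext i j
  simp only [Mmat, Matrix.of_apply]
  by_cases h : i = σ j
  · rw [if_pos h, h]
  · rw [if_neg h, hσ i j h]

theorem mono_entry_ne_zero {m : ℕ} (g : Matrix.symplecticGroup (Fin m) F)
    (σ : Equiv.Perm (Fin m ⊕ Fin m)) (hσ : ∀ i j, i ≠ σ j → g.1 i j = 0) (a : Fin m ⊕ Fin m) :
    g.1 (σ a) a ≠ 0 := by
  have hl : (g⁻¹).1 * g.1 = 1 :=
    congrArg (fun z : Matrix.symplecticGroup (Fin m) F => z.1) (inv_mul_cancel g)
  intro hcon
  have := congrFun (congrFun hl a) a
  rw [Matrix.mul_apply, Matrix.one_apply_eq] at this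
  rw [Finset.sum_eq_zero] at this
  · exact zero_ne_one this
  · intro i _
    by_cases hi : i = σ a
    · rw [hi, hcon, mul_zero]
    · rw [hσ i a hi, mul_zero]

theorem mono_conj {m : ℕ} (g x y : Matrix.symplecticGroup (Fin m) F)
    (σ : Equiv.Perm (Fin m ⊕ Fin m)) (hσ : ∀ i j, i ≠ σ j → g.1 i j = 0) (hgxy : g * x = y * g) :
    (∀ i j, i ≠ j → x.1 i j = 0) ↔ (∀ i j, i ≠ j → y.1 i j = 0) := by
  have h1 : g.1 * x.1 = y.1 * g.1 :=
    congrArg (fun z : Matrix.symplecticGroup (Fin m) F => z.1) hgxy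
  have key : ∀ a j, g.1 (σ a) a * x.1 a j = y.1 (σ a) (σ j) * g.1 (σ j) j := by
    intro a j
    have := congrFun (congrFun h1 (σ a)) j
    rw [Matrix.mul_apply, Matrix.mul_apply, Finset.sum_eq_single a, Finset.sum_eq_single (σ j)] at this
    · exact this
    · intro k _ hk
      rw [hσ k j hk, mul_zero]
    · intro h; exact absurd (Finset.mem_univ _) h
    · intro k _ hk
      rw [hσ (σ a) k (fun h => hk (σ.injective h).symm), zero_mul]
    · intro h; exact absurd (Finset.mem_univ _) h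
  constructor
  · intro hx i j hij
    obtain ⟨a, rfl⟩ := σ.surjective i
    obtain ⟨b, rfl⟩ := σ.surjective j
    have hab : a ≠ b := fun h => hij (by rw [h])
    have := key a b
    rw [hx a b hab, mul_zero] at this
    rcases mul_eq_zero.1 this.symm with h | h
    · exact h
    · exact absurd h (mono_entry_ne_zero g σ hσ b)
  · intro hy a j haj
    have := key a j
    rw [hy (σ a) (σ j) (fun h => haj (σ.injective h)), zero_mul] at this
    rcases mul_eq_zero.1 this with h | h
    · exact absurd h (mono_entry_ne_zero g σ hσ a)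
    · exact h

theorem mono_mem_normalizer {m : ℕ} (g : Matrix.symplecticGroup (Fin m) F)
    (σ : Equiv.Perm (Fin m ⊕ Fin m)) (hσ : ∀ i j, i ≠ σ j → g.1 i j = 0) :
    g ∈ Subgroup.normalizer (Tor m F : Set (Matrix.symplecticGroup (Fin m) F)) := by
  rw [Subgroup.mem_normalizer_iff]
  intro h
  rw [mem_Tor_iff', mem_Tor_iff']
  exact mono_conj g h (g * h * g⁻¹) σ hσ (by group)

def coef {m : ℕ} (σ : Equiv.Perm (Fin m ⊕ Fin m)) (c : Fin m → Fˣ) : Fin m ⊕ Fin m → F :=
  Sum.elim (fun k => (c k : F)) (fun k => ((c k)⁻¹ : F) * sg m F (σ (Sum.inr k)))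

theorem sg_inl {m : ℕ} (i : Fin m) : sg m F (Sum.inl i) = -1 := rfl
theorem sg_inr {m : ℕ} (i : Fin m) : sg m F (Sum.inr i) = 1 := rfl

theorem coef_ne_zero {m : ℕ} (σ : Equiv.Perm (Fin m ⊕ Fin m)) (c : Fin m → Fˣ) (j : Fin m ⊕ Fin m) :
    coef σ c j ≠ 0 := by
  rcases j with k | k
  · exact (c k).ne_zero
  · exact mul_ne_zero (inv_ne_zero (c k).ne_zero) (sg_ne_zero _)

theorem J_perm {m : ℕ} (σ : Equiv.Perm (Fin m ⊕ Fin m))
    (hσ : ∀ x, σ (Sum.swap x) = Sum.swap (σ x)) (j k : Fin m ⊕ Fin m) :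
    Matrix.J (Fin m) F (σ j) (σ k) = if k = Sum.swap j then sg m F (σ j) else 0 := by
  rw [J_eq]
  by_cases h : k = Sum.swap j
  · rw [if_pos h, if_pos (by rw [h, hσ])]
  · rw [if_neg h, if_neg]
    intro h'
    rw [← hσ] at h'
    exact h (σ.injective h')

theorem coef_symp {m : ℕ} (σ : Equiv.Perm (Fin m ⊕ Fin m))
    (hσ : ∀ x, σ (Sum.swap x) = Sum.swap (σ x)) (c : Fin m → Fˣ) :
    Mmat σ (coef σ c) ∈ Matrix.symplecticGroup (Fin m) F := by
  rw [SymplecticGroup.mem_iff', Mmat_gram]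
  ext j k
  rw [Matrix.of_apply, J_perm σ hσ, J_eq]
  by_cases h : k = Sum.swap j
  · rw [if_pos h, if_pos h, h]
    rcases j with i | i
    · have h1 : sg m F (σ (Sum.inr i)) = - sg m F (σ (Sum.inl i)) := by
        rw [← sg_swap, ← hσ]; rfl
      have h2 := sg_mul_self (F := F) (σ (Sum.inl i))
      have h3 : (c i : F) ≠ 0 := (c i).ne_zero
      simp only [coef, Sum.swap_inl, Sum.elim_inl, Sum.elim_inr, h1, sg_inl]
      field_simp
      linear_combination (-1 : F) * h2
    · have h2 := sg_mul_self (F := F) (σ (Sum.inr i))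
      have h3 : (c i : F) ≠ 0 := (c i).ne_zero
      simp only [coef, Sum.swap_inr, Sum.elim_inl, Sum.elim_inr, sg_inr]
      field_simp
      linear_combination h2
  · rw [if_neg h, if_neg h, mul_zero, zero_mul]

theorem mono_symp_data {m : ℕ} (g : Matrix.symplecticGroup (Fin m) F)
    (σ : Equiv.Perm (Fin m ⊕ Fin m)) (hσ : ∀ i j, i ≠ σ j → g.1 i j = 0) :
    (∀ x, σ (Sum.swap x) = Sum.swap (σ x)) ∧ ∃ c : Fin m → Fˣ, g.1 = Mmat σ (coef σ c) := by
  obtain ⟨d, hd⟩ : ∃ d : Fin m ⊕ Fin m → F, d = fun j => g.1 (σ j) j := ⟨_, rfl⟩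
  have hgM : g.1 = Mmat σ d := by rw [hd]; exact eq_Mmat g.1 σ hσ
  have hdne : ∀ j, d j ≠ 0 := by
    intro j; rw [hd]; exact mono_entry_ne_zero g σ hσ j
  have hsymp : ∀ j k, d j * Matrix.J (Fin m) F (σ j) (σ k) * d k = Matrix.J (Fin m) F j k := by
    have h := g.2
    rw [hgM, SymplecticGroup.mem_iff', Mmat_gram] at h
    intro j k
    have := congrFun (congrFun h j) k
    rwa [Matrix.of_apply] at this
  have hcomm : ∀ x, σ (Sum.swap x) = Sum.swap (σ x) := by
    intro x
    have h := hsymp x (Sum.swap x)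
    rw [J_eq x, if_pos rfl] at h
    by_contra hne
    rw [J_eq (σ x), if_neg hne, mul_zero, zero_mul] at h
    exact sg_ne_zero x h.symm
  refine ⟨hcomm, fun k => Units.mk0 (d (Sum.inl k)) (hdne _), ?_⟩
  rw [hgM]
  congr 1
  funext x
  rcases x with k | k
  · simp [coef]
  · have h := hsymp (Sum.inr k) (Sum.inl k)
    rw [J_perm σ hcomm, if_pos (show Sum.inl k = (Sum.inr k).swap from rfl), J_eq,
      if_pos (show Sum.inl k = (Sum.inr k).swap from rfl), sg_inr] at h
    have h2 := sg_mul_self (F := F) (σ (Sum.inr k))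
    have h3 := hdne (Sum.inl k)
    simp only [coef, Sum.elim_inr, Units.val_mk0]
    field_simp
    linear_combination (sg m F (σ (Sum.inr k))) * h - d (Sum.inr k) * d (Sum.inl k) * h2

def tau (m : ℕ) : Equiv.Perm (Fin m ⊕ Fin m) := Equiv.sumComm (Fin m) (Fin m)

theorem tau_apply (m : ℕ) (x : Fin m ⊕ Fin m) : tau m x = Sum.swap x := rfl

theorem cycleType_sumComm (m : ℕ) :
    (tau m).cycleType = Multiset.replicate m 2 := by
  rcases Nat.eq_zero_or_pos m with hm | hm
  · subst hm
    have : tau 0 = 1 := Subsingleton.elim _ _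
    rw [this, Equiv.Perm.cycleType_one]; rfl
  · obtain ⟨τ, hτ⟩ : ∃ τ : Equiv.Perm (Fin m ⊕ Fin m), τ = tau m := ⟨_, rfl⟩
    rw [← hτ]
    have hsq : τ ^ 2 = 1 := by
      rw [hτ]
      ext x
      rcases x with x | x <;> simp [sq, tau_apply]
    have hne : τ ≠ 1 := by
      intro h
      have := congrArg (fun f : Equiv.Perm (Fin m ⊕ Fin m) => f (Sum.inl ⟨0, hm⟩)) h
      rw [hτ] at this
      simp [tau_apply] at this
    have hord : orderOf τ = 2 := orderOf_eq_prime hsq hne
    obtain ⟨n, hn⟩ := Equiv.Perm.cycleType_prime_order (σ := τ) (by rw [hord]; exact Nat.prime_two)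
    rw [hord] at hn
    have hsum := Equiv.Perm.sum_cycleType τ
    have hsupp : τ.support = Finset.univ := by
      ext x
      simp only [Equiv.Perm.mem_support, Finset.mem_univ, iff_true, hτ]
      rcases x with x | x <;> simp [tau_apply]
    rw [hn, hsupp, Multiset.sum_replicate, Finset.card_univ, Fintype.card_sum, Fintype.card_fin,
      smul_eq_mul] at hsum
    have : n + 1 = m := by omega
    rw [hn, this]

theorem card_centralizer_swap (m : ℕ) :
    Nat.card (Subgroup.centralizer {tau m}) = 2 ^ m * m.factorial := by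
  rw [Equiv.Perm.nat_card_centralizer, cycleType_sumComm, Multiset.sum_replicate, Multiset.prod_replicate,
    Fintype.card_sum, Fintype.card_fin, smul_eq_mul]
  have h0 : m + m - m * 2 = 0 := by omega
  rw [h0, Nat.factorial_zero, one_mul]
  congr 1
  rcases Nat.eq_zero_or_pos m with hm | hm
  · subst hm; simp
  · rw [Multiset.toFinset_replicate, if_neg (by omega), Finset.prod_singleton,
      Multiset.count_replicate_self]

theorem comm_of_mem_centralizer {m : ℕ} (σ : Equiv.Perm (Fin m ⊕ Fin m))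
    (h : σ ∈ Subgroup.centralizer {tau m}) (x : Fin m ⊕ Fin m) : σ (Sum.swap x) = Sum.swap (σ x) := by
  rw [Subgroup.mem_centralizer_iff] at h
  have := h (tau m) rfl
  have := congrArg (fun f : Equiv.Perm (Fin m ⊕ Fin m) => f x) this
  simp only [Equiv.Perm.mul_apply, tau_apply] at this
  exact this.symm

theorem mem_centralizer_of_comm {m : ℕ} (σ : Equiv.Perm (Fin m ⊕ Fin m))
    (h : ∀ x, σ (Sum.swap x) = Sum.swap (σ x)) : σ ∈ Subgroup.centralizer {tau m} := by
  rw [Subgroup.mem_centralizer_iff]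
  intro t ht
  rw [Set.mem_singleton_iff] at ht
  subst ht
  ext x
  simp only [Equiv.Perm.mul_apply, tau_apply]
  rw [h]

theorem Mmat_inj {m : ℕ} (σ σ' : Equiv.Perm (Fin m ⊕ Fin m)) (d d' : Fin m ⊕ Fin m → F)
    (hd : ∀ j, d j ≠ 0) (h : Mmat σ d = Mmat σ' d') : σ = σ' ∧ d = d' := by
  have h1 : ∀ j, σ j = σ' j := by
    intro j
    have := congrFun (congrFun h (σ j)) j
    simp only [Mmat, Matrix.of_apply, if_true] at this
    by_contra hne
    rw [if_neg hne] at this
    exact hd j this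
  have hσ : σ = σ' := Equiv.ext h1
  refine ⟨hσ, ?_⟩
  funext j
  have := congrFun (congrFun h (σ j)) j
  simp only [Mmat, Matrix.of_apply, if_true] at this
  rw [if_pos (h1 j)] at this
  exact this

/-- Weyl group of type C_m: for q ≥ 4 the diagonal matrices of Sp_2m(q) form a torus T ≅ (C_(q−1))^m (the elements stabilising every coordinate axis), and the normaliser of T in Sp_2m(q) has order 2^m · m! · (q − 1)^m. -/
theorem result {F : Type*} [Field F] [Fintype F] {q : ℕ} (hF : Fintype.card F = q) (hq : 4 ≤ q) (m : ℕ) : Nat.card ↥(Subgroup.normalizer (⨅ i : Fin m ⊕ Fin m, Cfsg.stabilizing (Cfsg.spToMat m F) ((Submodule.span F {(Pi.single i (1 : F) : Fin m ⊕ Fin m → F)} : Submodule F (Fin m ⊕ Fin m → F)) : Set (Fin m ⊕ Fin m → F)) : Set (Matrix.symplecticGroup (Fin m) F))) = 2 ^ m * Nat.factorial m * (q - 1) ^ m := by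
  classical
  have hset : (⨅ i : Fin m ⊕ Fin m, ((Cfsg.stabilizing (Cfsg.spToMat m F) ((Submodule.span F {(Pi.single i (1 : F) : Fin m ⊕ Fin m → F)} : Submodule F (Fin m ⊕ Fin m → F)) : Set (Fin m ⊕ Fin m → F)) : Subgroup (Matrix.symplecticGroup (Fin m) F)) : Set (Matrix.symplecticGroup (Fin m) F))) = (Tor m F : Set (Matrix.symplecticGroup (Fin m) F)) := by
    rw [Tor, Subgroup.coe_iInf]
    rfl
  rw [hset]
  have hq' : 4 ≤ Fintype.card F := by rw [hF]; exact hq
  let Ψ : ↥(Subgroup.centralizer {tau m}) × (Fin m → Fˣ) →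
      ↥(Subgroup.normalizer (Tor m F : Set (Matrix.symplecticGroup (Fin m) F))) :=
    fun x => ⟨⟨Mmat x.1.1 (coef x.1.1 x.2),
        coef_symp x.1.1 (comm_of_mem_centralizer x.1.1 x.1.2) x.2⟩,
      mono_mem_normalizer _ x.1.1 (by
        intro i j hij
        show Mmat x.1.1 (coef x.1.1 x.2) i j = 0
        simp [Mmat, hij])⟩
  have hinj : Function.Injective Ψ := by
    intro x y hxy
    have h : Mmat x.1.1 (coef x.1.1 x.2) = Mmat y.1.1 (coef y.1.1 y.2) :=
      congrArg (fun z => (z.1.1 : Matrix _ _ F)) hxy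
    obtain ⟨h1, h2⟩ := Mmat_inj _ _ _ _ (coef_ne_zero x.1.1 x.2) h
    refine Prod.ext (Subtype.ext h1) ?_
    funext k
    apply Units.ext
    have := congrFun h2 (Sum.inl k)
    simpa [coef] using this
  have hsurj : Function.Surjective Ψ := by
    rintro ⟨g, hg⟩
    obtain ⟨σ, hσ⟩ := exists_perm_of_normalizer hq' g hg
    obtain ⟨hcomm, c, hc⟩ := mono_symp_data g σ hσ
    refine ⟨(⟨σ, mem_centralizer_of_comm σ hcomm⟩, c), ?_⟩
    apply Subtype.ext
    apply Subtype.ext
    exact hc.symm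
  rw [Nat.card_congr (Equiv.ofBijective Ψ ⟨hinj, hsurj⟩).symm, Nat.card_prod, card_centralizer_swap,
    Nat.card_eq_fintype_card, Fintype.card_fun, Fintype.card_units, hF, Fintype.card_fin]

end Cfsg.Agent.S0777
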