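import Cfsg.Statements.S0778
import Mathlib

set_option autoImplicit false
open Cfsg

namespace Cfsg.Agent.S0778

open Matrix

section
variable {F : Type*} [Field F] (m : ℕ)

local notation "Mat" => Matrix (Fin m ⊕ Fin m) (Fin m ⊕ Fin m) F

/-- block diagonal matrix from X -/
def bd (X : GL (Fin m) F) : Mat :=
  fromBlocks (X : Matrix (Fin m) (Fin m) F) 0 0 ((X⁻¹ : GL (Fin m) F) : Matrix (Fin m) (Fin m) F)ᵀ

theorem bd_mem (X : GL (Fin m) F) : bd m X ∈ Matrix.symplecticGroup (Fin m) F := by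
  have h1 : (X : Matrix (Fin m) (Fin m) F) * ((X⁻¹ : GL (Fin m) F) : Matrix (Fin m) (Fin m) F) = 1 := by
    rw [← Units.val_mul, mul_inv_cancel]; rfl
  have h2 : ((X⁻¹ : GL (Fin m) F) : Matrix (Fin m) (Fin m) F)ᵀ * (X : Matrix (Fin m) (Fin m) F)ᵀ = 1 := by
    rw [← transpose_mul, h1, transpose_one]
  rw [SymplecticGroup.mem_iff, bd, Matrix.J, fromBlocks_transpose, fromBlocks_multiply,
    fromBlocks_multiply, fromBlocks_inj]
  simp only [Matrix.mul_zero, Matrix.zero_mul, add_zero, zero_add, Matrix.mul_one,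
    Matrix.mul_neg, transpose_transpose, transpose_zero, Matrix.neg_mul, h1, h2, neg_zero]
  exact ⟨trivial, trivial, trivial, trivial⟩

/-- the hom GL_m → Sp_2m -/
def φ : GL (Fin m) F →* Matrix.symplecticGroup (Fin m) F where
  toFun X := ⟨bd m X, bd_mem m X⟩
  map_one' := by
    apply Subtype.ext
    show bd m 1 = 1
    simp [bd, fromBlocks_one]
  map_mul' X Y := by
    apply Subtype.ext
    show bd m (X * Y) = bd m X * bd m Y
    rw [bd, bd, bd, fromBlocks_multiply]
    simp only [Matrix.mul_zero, Matrix.zero_mul, add_zero, zero_add]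
    congr 1
    rw [_root_.mul_inv_rev, Units.val_mul, transpose_mul]

theorem φ_coe (X : GL (Fin m) F) : ((φ m X : Matrix.symplecticGroup (Fin m) F) : Mat) = bd m X := rfl

theorem φ_injective : Function.Injective (φ (F := F) m) := by
  intro X Y h
  have h1 : bd m X = bd m Y := congrArg Subtype.val h
  rw [bd, bd, fromBlocks_inj] at h1
  exact Units.ext h1.1

theorem bd_mulVec (X : GL (Fin m) F) (v : Fin m ⊕ Fin m → F) :
    bd m X *ᵥ v = Sum.elim ((X : Matrix (Fin m) (Fin m) F) *ᵥ (v ∘ Sum.inl))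
      (((X⁻¹ : GL (Fin m) F) : Matrix (Fin m) (Fin m) F)ᵀ *ᵥ (v ∘ Sum.inr)) := by
  rw [bd, fromBlocks_mulVec]
  simp

theorem mulVec_eq_zero_iff_of_isUnit {A : Matrix (Fin m) (Fin m) F} (hA : IsUnit A.det)
    (w : Fin m → F) : A *ᵥ w = 0 ↔ w = 0 := by
  constructor
  · intro h
    have := congrArg (fun x => A⁻¹ *ᵥ x) h
    simp only [Matrix.mulVec_mulVec, Matrix.nonsing_inv_mul A hA, Matrix.one_mulVec,
      Matrix.mulVec_zero] at this
    exact this
  · intro h; rw [h, Matrix.mulVec_zero]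

theorem isUnit_det_coe (X : GL (Fin m) F) : IsUnit (X : Matrix (Fin m) (Fin m) F).det := by
  have := X.isUnit
  exact (Matrix.isUnit_iff_isUnit_det _).mp this

theorem isUnit_det_invT (X : GL (Fin m) F) :
    IsUnit (((X⁻¹ : GL (Fin m) F) : Matrix (Fin m) (Fin m) F)ᵀ).det := by
  rw [det_transpose]; exact isUnit_det_coe m X⁻¹

abbrev SW : Subgroup (Matrix.symplecticGroup (Fin m) F) :=
  Cfsg.stabilizing (Cfsg.spToMat m F) {v : Fin m ⊕ Fin m → F | ∀ i : Fin m, v (Sum.inr i) = 0}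

abbrev SU : Subgroup (Matrix.symplecticGroup (Fin m) F) :=
  Cfsg.stabilizing (Cfsg.spToMat m F) {v : Fin m ⊕ Fin m → F | ∀ i : Fin m, v (Sum.inl i) = 0}

theorem φ_mem (X : GL (Fin m) F) : φ m X ∈ SW (F := F) m ⊓ SU m := by
  constructor
  · intro v
    show (∀ i : Fin m, v (Sum.inr i) = 0) ↔ ∀ i : Fin m, (bd m X *ᵥ v) (Sum.inr i) = 0
    rw [bd_mulVec]
    simp only [Sum.elim_inr]
    have h1 : (∀ i : Fin m, v (Sum.inr i) = 0) ↔ v ∘ Sum.inr = 0 := by
      constructor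
      · intro h; funext i; exact h i
      · intro h i; exact congrFun h i
    have h2 : (∀ i : Fin m, (((X⁻¹ : GL (Fin m) F) : Matrix (Fin m) (Fin m) F)ᵀ *ᵥ (v ∘ Sum.inr)) i = 0) ↔
        ((X⁻¹ : GL (Fin m) F) : Matrix (Fin m) (Fin m) F)ᵀ *ᵥ (v ∘ Sum.inr) = 0 := by
      constructor
      · intro h; funext i; exact h i
      · intro h i; exact congrFun h i
    rw [h1, h2, mulVec_eq_zero_iff_of_isUnit m (isUnit_det_invT m X)]
  · intro v
    show (∀ i : Fin m, v (Sum.inl i) = 0) ↔ ∀ i : Fin m, (bd m X *ᵥ v) (Sum.inl i) = 0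
    rw [bd_mulVec]
    simp only [Sum.elim_inl]
    have h1 : (∀ i : Fin m, v (Sum.inl i) = 0) ↔ v ∘ Sum.inl = 0 := by
      constructor
      · intro h; funext i; exact h i
      · intro h i; exact congrFun h i
    have h2 : (∀ i : Fin m, ((X : Matrix (Fin m) (Fin m) F) *ᵥ (v ∘ Sum.inl)) i = 0) ↔
        (X : Matrix (Fin m) (Fin m) F) *ᵥ (v ∘ Sum.inl) = 0 := by
      constructor
      · intro h; funext i; exact h i
      · intro h i; exact congrFun h i
    rw [h1, h2, mulVec_eq_zero_iff_of_isUnit m (isUnit_det_coe m X)]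

theorem exists_of_mem (A : Matrix.symplecticGroup (Fin m) F) (hA : A ∈ SW (F := F) m ⊓ SU m) :
    ∃ X : GL (Fin m) F, φ m X = A := by
  obtain ⟨hW, hU⟩ := hA
  set M : Mat := (A : Mat) with hM
  have h21 : M.toBlocks₂₁ = 0 := by
    ext i j
    have hmem : (Pi.single (Sum.inl j) 1 : Fin m ⊕ Fin m → F) ∈
        {v : Fin m ⊕ Fin m → F | ∀ i : Fin m, v (Sum.inr i) = 0} := by
      intro i; simp
    have := (hW _).mp hmem i
    rw [show (Cfsg.spToMat m F) A = M from rfl, Matrix.mulVec_single_one] at this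
    exact this
  have h12 : M.toBlocks₁₂ = 0 := by
    ext i j
    have hmem : (Pi.single (Sum.inr j) 1 : Fin m ⊕ Fin m → F) ∈
        {v : Fin m ⊕ Fin m → F | ∀ i : Fin m, v (Sum.inl i) = 0} := by
      intro i; simp
    have := (hU _).mp hmem i
    rw [show (Cfsg.spToMat m F) A = M from rfl, Matrix.mulVec_single_one] at this
    exact this
  have hMeq : M = fromBlocks M.toBlocks₁₁ 0 0 M.toBlocks₂₂ := by
    conv_lhs => rw [← fromBlocks_toBlocks M, h12, h21]
  have hsymp := SymplecticGroup.mem_iff.mp A.2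
  rw [show (A : Mat) = M from rfl, hMeq, Matrix.J, fromBlocks_transpose, fromBlocks_multiply,
    fromBlocks_multiply] at hsymp
  simp only [Matrix.mul_zero, Matrix.zero_mul, add_zero, zero_add, Matrix.mul_one,
    Matrix.mul_neg, transpose_zero, Matrix.neg_mul] at hsymp
  rw [fromBlocks_inj] at hsymp
  obtain ⟨-, h1, h2, -⟩ := hsymp
  have h1' : M.toBlocks₁₁ * M.toBlocks₂₂ᵀ = 1 := by
    have := congrArg Neg.neg h1
    simpa using this
  have h1'' : M.toBlocks₂₂ᵀ * M.toBlocks₁₁ = 1 := mul_eq_one_comm.mp h1'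
  let X : GL (Fin m) F := ⟨M.toBlocks₁₁, M.toBlocks₂₂ᵀ, h1', h1''⟩
  refine ⟨X, ?_⟩
  apply Subtype.ext
  show bd m X = M
  rw [hMeq, bd]
  congr 1

end

/-- The elements of Sp_2m(F) stabilising both W = ⟨e_1..e_m⟩ and U = ⟨f_1..f_m⟩ form a subgroup isomorphic to GL_m(F) (block-diagonal matrices diag(X, X^(−ᵀ)) up to the sign convention of J), for m ≥ 1 or m = 0 alike. -/
theorem result {F : Type*} [Field F] (m : ℕ) : Nonempty (↥(Cfsg.stabilizing (Cfsg.spToMat m F) {v : Fin m ⊕ Fin m → F | ∀ i : Fin m, v (Sum.inr i) = 0} ⊓ Cfsg.stabilizing (Cfsg.spToMat m F) {v : Fin m ⊕ Fin m → F | ∀ i : Fin m, v (Sum.inl i) = 0}) ≃* Matrix.GeneralLinearGroup (Fin m) F) := by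
  let ψ : GL (Fin m) F →* ↥(SW (F := F) m ⊓ SU m) :=
    (φ m).codRestrict _ (φ_mem m)
  have hbij : Function.Bijective ψ := by
    constructor
    · intro X Y h
      apply φ_injective m
      exact congrArg Subtype.val h
    · intro A
      obtain ⟨X, hX⟩ := exists_of_mem m A.1 A.2
      exact ⟨X, Subtype.ext hX⟩
  exact ⟨(MulEquiv.ofBijective ψ hbij).symm⟩

end Cfsg.Agent.S0778
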