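import Cfsg.Statements.S0792
import Cfsg.Agent.Lib.H11.CartanDieudonne
-- import your own Cfsg.Agent.* helpers here

set_option autoImplicit false
open Cfsg

namespace Cfsg.Agent.S0792

open Matrix
open scoped MatrixGroups
open Cfsg.Agent.Lib.H11.CD

variable {F : Type*} [Field F] {n : ℕ} (Q : QuadraticForm F (Fin n → F))

/-- determinant of an isometry as a field element -/
def dt (g : ↥(Cfsg.isometryGroup F ⇑Q)) : F :=
  ((g : GL (Fin n) F) : Matrix (Fin n) (Fin n) F).det

theorem dt_mul (g h : ↥(Cfsg.isometryGroup F ⇑Q)) : dt Q (g * h) = dt Q g * dt Q h := by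
  simp only [dt, Subgroup.coe_mul, Units.val_mul, Matrix.det_mul]

theorem dt_one : dt Q 1 = 1 := by simp [dt]

theorem mem_SO_iff (g : ↥(Cfsg.isometryGroup F ⇑Q)) :
    g ∈ Cfsg.specialIsometryGroup F ⇑Q ↔ dt Q g = 1 := by
  rw [Cfsg.specialIsometryGroup, MonoidHom.mem_ker, MonoidHom.comp_apply, Units.ext_iff,
    Matrix.GeneralLinearGroup.val_det_apply, Units.val_one]
  rfl

theorem dt_inv (g : ↥(Cfsg.isometryGroup F ⇑Q)) : dt Q g⁻¹ = (dt Q g)⁻¹ := by
  have h : dt Q g⁻¹ * dt Q g = 1 := by rw [← dt_mul, inv_mul_cancel, dt_one]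
  exact eq_inv_of_mul_eq_one_left h

/-- For q odd and Q with non-degenerate polar form on F^n, the determinant-one isometries form the subgroup generated by all products r_u r_v of two reflections (Q(u), Q(v) ≠ 0). -/
theorem result {F : Type*} [Field F] [Fintype F] (h2 : (2 : F) ≠ 0) {n : ℕ} (Q : QuadraticForm F (Fin n → F)) (hQ : (QuadraticMap.polarBilin Q).Nondegenerate) : Cfsg.specialIsometryGroup F ⇑Q = Subgroup.closure {g : ↥(Cfsg.isometryGroup F ⇑Q) | ∃ u v : Fin n → F, Q u ≠ 0 ∧ Q v ≠ 0 ∧ ((g : Matrix.GeneralLinearGroup (Fin n) F) : Matrix (Fin n) (Fin n) F) = Cfsg.reflectionMatrix ⇑Q u * Cfsg.reflectionMatrix ⇑Q v} := by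
  have hneg : (-1 : F) ≠ 1 := by
    intro h
    apply h2
    have : (2 : F) = 1 - (-1) := by ring
    rw [this, h, sub_self]
  have hdetS : ∀ r : ↥(Cfsg.isometryGroup F ⇑Q), (∃ v, Q v ≠ 0 ∧
      ((r : GL (Fin n) F) : Matrix (Fin n) (Fin n) F) = Cfsg.reflectionMatrix (⇑Q) v) →
      dt Q r = -1 := by
    rintro r ⟨v, hv, hr⟩
    rw [dt, hr]
    exact (Cfsg.Agent.S0784.result Q v hv).2.2.2
  apply le_antisymm
  · intro g hg
    rw [mem_SO_iff] at hg
    have hcd := cartan_dieudonne Q hQ h2 g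
    obtain ⟨H, hH⟩ : ∃ H : Subgroup ↥(Cfsg.isometryGroup F ⇑Q), H = Subgroup.closure
      {g : ↥(Cfsg.isometryGroup F ⇑Q) | ∃ u v : Fin n → F, Q u ≠ 0 ∧ Q v ≠ 0 ∧
        ((g : Matrix.GeneralLinearGroup (Fin n) F) : Matrix (Fin n) (Fin n) F) =
          Cfsg.reflectionMatrix ⇑Q u * Cfsg.reflectionMatrix ⇑Q v} := ⟨_, rfl⟩
    rw [← hH]
    have hprod : ∀ r s : ↥(Cfsg.isometryGroup F ⇑Q),
        (∃ v, Q v ≠ 0 ∧ ((r : GL (Fin n) F) : Matrix (Fin n) (Fin n) F) =
          Cfsg.reflectionMatrix (⇑Q) v) →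
        (∃ v, Q v ≠ 0 ∧ ((s : GL (Fin n) F) : Matrix (Fin n) (Fin n) F) =
          Cfsg.reflectionMatrix (⇑Q) v) → r * s ∈ H := by
      rintro r s ⟨u, hu, hr⟩ ⟨v, hv, hs⟩
      rw [hH]
      apply Subgroup.subset_closure
      refine ⟨u, v, hu, hv, ?_⟩
      rw [Subgroup.coe_mul, Units.val_mul, hr, hs]
    have key : ∀ x : ↥(Cfsg.isometryGroup F ⇑Q), x ∈ Subgroup.closure
        {r : ↥(Cfsg.isometryGroup F ⇑Q) | ∃ v, Q v ≠ 0 ∧
          ((r : GL (Fin n) F) : Matrix (Fin n) (Fin n) F) = Cfsg.reflectionMatrix (⇑Q) v} →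
        (dt Q x = 1 → x ∈ H) ∧ (dt Q x = -1 → ∀ r : ↥(Cfsg.isometryGroup F ⇑Q),
          (∃ v, Q v ≠ 0 ∧ ((r : GL (Fin n) F) : Matrix (Fin n) (Fin n) F) =
            Cfsg.reflectionMatrix (⇑Q) v) → r * x ∈ H) ∧ (dt Q x = 1 ∨ dt Q x = -1) := by
      intro x hx
      induction hx using Subgroup.closure_induction_left with
      | one =>
        refine ⟨fun _ => one_mem _, fun h => ?_, Or.inl (dt_one Q)⟩
        rw [dt_one] at h
        exact absurd h.symm hneg
      | mul_left r hr y hy ih =>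
        obtain ⟨ih1, ih2, ih3⟩ := ih
        have hdr := hdetS r hr
        refine ⟨fun h => ?_, fun h s hs => ?_, ?_⟩
        · rw [dt_mul, hdr] at h
          have : dt Q y = -1 := by
            have : dt Q y = -(-1 * dt Q y) := by ring
            rw [this, h]
          exact ih2 this r hr
        · rw [dt_mul, hdr] at h
          have : dt Q y = 1 := by
            have : dt Q y = -(-1 * dt Q y) := by ring
            rw [this, h, neg_neg]
          rw [← mul_assoc]
          exact mul_mem (hprod s r hs hr) (ih1 this)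
        · rw [dt_mul, hdr]
          rcases ih3 with h | h
          · right; rw [h]; ring
          · left; rw [h]; ring
      | inv_mul_cancel r hr y hy ih =>
        obtain ⟨ih1, ih2, ih3⟩ := ih
        have hdr := hdetS r hr
        have hdr' : dt Q r⁻¹ = -1 := by rw [dt_inv, hdr]; simp
        -- r⁻¹ * y : need r⁻¹ = r; instead use r⁻¹ * y = r⁻¹ * r⁻¹ * (r * y)
        refine ⟨fun h => ?_, fun h s hs => ?_, ?_⟩
        · rw [dt_mul, hdr'] at h
          have hy1 : dt Q y = -1 := by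
            have : dt Q y = -(-1 * dt Q y) := by ring
            rw [this, h]
          have h3 : r⁻¹ * y = (r * r)⁻¹ * (r * y) := by group
          rw [h3]
          exact mul_mem (inv_mem (hprod r r hr hr)) (ih2 hy1 r hr)
        · rw [dt_mul, hdr'] at h
          have hy1 : dt Q y = 1 := by
            have : dt Q y = -(-1 * dt Q y) := by ring
            rw [this, h, neg_neg]
          have h3 : s * (r⁻¹ * y) = (s * r) * (r * r)⁻¹ * y := by group
          rw [h3]
          exact mul_mem (mul_mem (hprod s r hs hr) (inv_mem (hprod r r hr hr))) (ih1 hy1)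
        · rw [dt_mul, hdr']
          rcases ih3 with h | h
          · right; rw [h]; ring
          · left; rw [h]; ring
    exact (key g hcd).1 hg
  · rw [Subgroup.closure_le]
    rintro g ⟨u, v, hu, hv, hg⟩
    rw [SetLike.mem_coe, mem_SO_iff, dt, hg, Matrix.det_mul,
      (Cfsg.Agent.S0784.result Q u hu).2.2.2, (Cfsg.Agent.S0784.result Q v hv).2.2.2]
    ring

end Cfsg.Agent.S0792
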