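import Cfsg.Statements.S0796

set_option autoImplicit false
universe u
open Cfsg

namespace Cfsg.Agent.S0796

theorem result {G X : Type*} [Group G] [Finite G] [MulAction G X] [FaithfulSMul G X] (hprim : MulAction.IsPreprimitive G X) (x : X) (A : Subgroup G) (hA : A ≤ MulAction.stabilizer G x) (hAn : (A.subgroupOf (MulAction.stabilizer G x)).Normal) (hgen : Subgroup.normalClosure (A : Set G) = ⊤) (K : Subgroup G) [K.Normal] (hK : K ≠ ⊥) : ∃ (B : Subgroup A) (_ : B.Normal), Nonempty (G ⧸ K ≃* A ⧸ B) := by
  -- K acts nontrivially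
  have hfix : MulAction.fixedPoints K X ≠ Set.univ := by
    intro h
    apply hK
    rw [Subgroup.eq_bot_iff_forall]
    intro k hk
    apply FaithfulSMul.eq_of_smul_eq_smul (α := X)
    intro y
    have hy : y ∈ MulAction.fixedPoints K X := by rw [h]; trivial
    rw [one_smul]
    exact hy ⟨k, hk⟩
  have htrans : MulAction.IsPretransitive K X :=
    MulAction.IsQuasiPreprimitive.isPretransitive_of_normal hfix
  -- K ⊔ stabilizer = ⊤
  have hKS : K ⊔ MulAction.stabilizer G x = ⊤ := by
    rw [eq_top_iff]
    intro g _
    obtain ⟨k, hk⟩ := MulAction.exists_smul_eq K x (g • x)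
    have hk' : (k : G) • x = g • x := hk
    have h1 : (k : G)⁻¹ * g ∈ MulAction.stabilizer G x := by
      rw [MulAction.mem_stabilizer_iff, mul_smul, ← hk', inv_smul_smul]
    have : g = (k : G) * ((k : G)⁻¹ * g) := by group
    rw [this]
    exact Subgroup.mul_mem _ (Subgroup.mem_sup_left k.2) (Subgroup.mem_sup_right h1)
  -- K ⊔ A is normal
  have hnorm : (K ⊔ A).Normal := by
    have hN : Subgroup.normalizer ((K ⊔ A : Subgroup G) : Set G) = ⊤ := by
      rw [eq_top_iff, ← hKS, sup_le_iff]
      constructor
      · exact le_trans le_sup_left Subgroup.le_normalizer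
      · intro h hh
        rw [Subgroup.mem_normalizer_iff]
        have hconjA : ∀ a, a ∈ A → h * a * h⁻¹ ∈ A := by
          intro a ha
          have := hAn.conj_mem ⟨a, hA ha⟩ (by simpa [Subgroup.mem_subgroupOf] using ha) ⟨h, hh⟩
          simpa [Subgroup.mem_subgroupOf] using this
        have hconj : ∀ h' ∈ MulAction.stabilizer G x, ∀ y ∈ K ⊔ A, h' * y * h'⁻¹ ∈ K ⊔ A := by
          intro h' hh' y hy
          have hconjA' : ∀ a, a ∈ A → h' * a * h'⁻¹ ∈ A := by
            intro a ha
            have := hAn.conj_mem ⟨a, hA ha⟩ (by simpa [Subgroup.mem_subgroupOf] using ha) ⟨h', hh'⟩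
            simpa [Subgroup.mem_subgroupOf] using this
          have hle : K ⊔ A ≤ (K ⊔ A).comap (MulAut.conj h').toMonoidHom := by
            rw [sup_le_iff]
            constructor
            · intro k hk
              rw [Subgroup.mem_comap]
              simp only [MulEquiv.toMonoidHom_eq_coe, MonoidHom.coe_coe, MulAut.conj_apply]
              exact Subgroup.mem_sup_left (Subgroup.Normal.conj_mem inferInstance k hk h')
            · intro a ha
              rw [Subgroup.mem_comap]
              simp only [MulEquiv.toMonoidHom_eq_coe, MonoidHom.coe_coe, MulAut.conj_apply]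
              exact Subgroup.mem_sup_right (hconjA' a ha)
          have := hle hy
          rw [Subgroup.mem_comap] at this
          simpa using this
        intro y
        constructor
        · intro hy
          exact hconj h hh y hy
        · intro hy
          have := hconj h⁻¹ (Subgroup.inv_mem _ hh) _ hy
          simpa [mul_assoc] using this
    exact Subgroup.normalizer_eq_top_iff.mp hN
  have hKA : K ⊔ A = ⊤ := by
    rw [eq_top_iff, ← hgen]
    exact Subgroup.normalClosure_le_normal (le_sup_right (a := K) (b := A))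
  -- the map A → G ⧸ K
  let φ : A →* G ⧸ K := (QuotientGroup.mk' K).comp A.subtype
  have hφ : Function.Surjective φ := by
    intro q
    obtain ⟨g, rfl⟩ := QuotientGroup.mk_surjective q
    have hg : g ∈ K ⊔ A := by rw [hKA]; trivial
    rw [sup_comm, ← SetLike.mem_coe, Subgroup.mul_normal] at hg
    obtain ⟨a, ha, k, hk, rfl⟩ := hg
    refine ⟨⟨a, ha⟩, ?_⟩
    simp only [φ, MonoidHom.comp_apply, Subgroup.coe_subtype, QuotientGroup.mk'_apply]
    rw [QuotientGroup.eq]
    simpa using hk
  exact ⟨φ.ker, inferInstance, ⟨(QuotientGroup.quotientKerEquivOfSurjective φ hφ).symm⟩⟩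

end Cfsg.Agent.S0796
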