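import Cfsg.Statements.S0800

set_option autoImplicit false
universe u
open Cfsg

namespace Cfsg.Agent.S0800

open Polynomial

attribute [local instance] Polynomial.fact_irreducible_factor

theorem key_ext {F : Type*} [Field F] [Fintype F] {q : ℕ} (hF : Fintype.card F = q) (p : ℕ)
    [Fact p.Prime] [CharP F p] (t : F) {K : Type*} [Field K] [Algebra F K] (lam : K)
    (h1 : lam ^ 2 - algebraMap F K t * lam + 1 = 0) :
    (X ^ 2 - C t * X + 1 : F[X]) ∣ (X ^ (q - 1) - 1) ^ 2 ∨
      (X ^ 2 - C t * X + 1 : F[X]) ∣ X ^ (q + 1) - 1 := by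
  classical
  have hq1 : 1 < q := by rw [← hF]; exact Fintype.one_lt_card
  obtain ⟨⟨k, hk⟩, hpprime, hcard⟩ := FiniteField.card F p
  have hqp : q = p ^ k := by rw [← hF]; exact hcard
  have : CharP K p := charP_of_injective_algebraMap (algebraMap F K).injective p
  obtain ⟨τ, hτ⟩ : ∃ τ : K, τ = algebraMap F K t := ⟨_, rfl⟩
  rw [← hτ] at h1
  have hτq : τ ^ q = τ := by
    rw [hτ, ← map_pow, ← hF, FiniteField.pow_card]
  have h2 : (lam ^ q) ^ 2 - τ * lam ^ q + 1 = 0 := by
    have : (lam ^ 2 - τ * lam + 1) ^ q = 0 := by rw [h1, zero_pow (by omega)]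
    rw [hqp, add_pow_char_pow, sub_pow_char_pow, mul_pow, ← hqp, hτq, one_pow] at this
    rw [← this]; ring
  obtain ⟨mu, hmu⟩ : ∃ mu : K, mu = τ - lam := ⟨_, rfl⟩
  have hprod : lam * mu = 1 := by rw [hmu]; linear_combination -h1
  have hlam0 : lam ≠ 0 := by
    intro h; rw [h, zero_mul] at hprod; exact zero_ne_one hprod
  have hmu0 : mu ≠ 0 := by
    intro h; rw [h, mul_zero] at hprod; exact zero_ne_one hprod
  have hfmap : (X ^ 2 - C t * X + 1 : F[X]).map (algebraMap F K) = (X - C lam) * (X - C mu) := by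
    simp only [Polynomial.map_add, Polynomial.map_sub, Polynomial.map_mul, Polynomial.map_pow,
      Polynomial.map_X, Polynomial.map_C, Polynomial.map_one]
    have : (C lam * C mu : K[X]) = 1 := by rw [← C_mul, hprod, C_1]
    rw [← hτ]
    rw [hmu] at this ⊢
    rw [C_sub] at this ⊢
    linear_combination -this
  have hcases : (lam ^ q - lam) * (lam ^ q - mu) = 0 := by
    rw [hmu]; linear_combination h2 - h1
  have hdvd_of_root : ∀ (a : K) (n : ℕ), a ^ n = 1 → (X - C a : K[X]) ∣ X ^ n - 1 := by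
    intro a n ha
    rw [Polynomial.dvd_iff_isRoot]
    simp [ha]
  by_cases hlq : lam ^ q = lam
  · left
    have hmq : mu ^ q = mu := by
      rw [hmu, hqp, sub_pow_char_pow, ← hqp, hτq, hlq]
    have hl1 : lam ^ (q - 1) = 1 := by
      have : lam ^ (q - 1) * lam = 1 * lam := by
        rw [← pow_succ, one_mul]
        have : q - 1 + 1 = q := by omega
        rw [this, hlq]
      exact mul_right_cancel₀ hlam0 this
    have hm1 : mu ^ (q - 1) = 1 := by
      have : mu ^ (q - 1) * mu = 1 * mu := by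
        rw [← pow_succ, one_mul]
        have : q - 1 + 1 = q := by omega
        rw [this, hmq]
      exact mul_right_cancel₀ hmu0 this
    rw [← Polynomial.map_dvd_map' (algebraMap F K), hfmap]
    simp only [Polynomial.map_pow, Polynomial.map_sub, Polynomial.map_X, Polynomial.map_one]
    rw [sq]
    exact mul_dvd_mul (hdvd_of_root lam _ hl1) (hdvd_of_root mu _ hm1)
  · right
    have hlq' : lam ^ q = mu := by
      rcases mul_eq_zero.mp hcases with hc | hc
      · exact absurd (sub_eq_zero.mp hc) hlq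
      · exact sub_eq_zero.mp hc
    have hlm : lam ≠ mu := by
      intro h; apply hlq; rw [hlq', ← h]
    rw [← Polynomial.map_dvd_map' (algebraMap F K), hfmap]
    simp only [Polynomial.map_pow, Polynomial.map_sub, Polynomial.map_X, Polynomial.map_one]
    have hl2 : lam ^ (q + 1) = 1 := by rw [pow_succ, hlq']; rw [mul_comm]; exact hprod
    have hmq : mu ^ q = lam := by
      rw [hmu, hqp, sub_pow_char_pow, ← hqp, hτq, hlq', hmu]; ring
    have hm2 : mu ^ (q + 1) = 1 := by rw [pow_succ, hmq]; exact hprod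
    have hcop : IsCoprime (X - C lam : K[X]) (X - C mu) :=
      Polynomial.isCoprime_X_sub_C_of_isUnit_sub (sub_ne_zero.mpr hlm).isUnit
    exact hcop.mul_dvd (hdvd_of_root lam _ hl2) (hdvd_of_root mu _ hm2)

theorem key {F : Type*} [Field F] [Fintype F] {q : ℕ} (hF : Fintype.card F = q) (p : ℕ)
    [Fact p.Prime] [CharP F p] (t : F) :
    (X ^ 2 - C t * X + 1 : F[X]) ∣ (X ^ (q - 1) - 1) ^ 2 ∨
      (X ^ 2 - C t * X + 1 : F[X]) ∣ X ^ (q + 1) - 1 := by
  have hfdeg : (X ^ 2 - C t * X + 1 : F[X]).natDegree = 2 := by compute_degree!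
  have hfdvd : (X ^ 2 - C t * X + 1 : F[X]).factor ∣ (X ^ 2 - C t * X + 1 : F[X]) :=
    Polynomial.factor_dvd_of_natDegree_ne_zero (by rw [hfdeg]; norm_num)
  have hroot : aeval (AdjoinRoot.root (X ^ 2 - C t * X + 1 : F[X]).factor)
      (X ^ 2 - C t * X + 1 : F[X]) = 0 := by
    obtain ⟨g, hg⟩ := hfdvd
    refine (congrArg (aeval (AdjoinRoot.root (X ^ 2 - C t * X + 1 : F[X]).factor)) hg).trans ?_
    rw [map_mul, AdjoinRoot.aeval_eq, AdjoinRoot.mk_self, zero_mul]
  refine key_ext hF p t (AdjoinRoot.root (X ^ 2 - C t * X + 1 : F[X]).factor) ?_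
  simpa using hroot

theorem result {F : Type*} [Field F] [Fintype F] {q : ℕ} (hF : Fintype.card F = q) (p : ℕ) [Fact p.Prime] [CharP F p] (g : Matrix.SpecialLinearGroup (Fin 2) F) (hg : Nat.Coprime (orderOf g) p) : orderOf g ∣ q - 1 ∨ orderOf g ∣ q + 1 := by
  classical
  set A : Matrix (Fin 2) (Fin 2) F := (g : Matrix (Fin 2) (Fin 2) F) with hA
  have hdet : A.det = 1 := g.2
  have hchar : A.charpoly = X ^ 2 - C A.trace * X + 1 := by
    rw [Matrix.charpoly_fin_two, hdet, C_1]
  have hCH : aeval A (X ^ 2 - C A.trace * X + 1 : F[X]) = 0 := by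
    rw [← hchar]; exact Matrix.aeval_self_charpoly A
  have hpow : ∀ n : ℕ, A ^ n = 1 → g ^ n = 1 := by
    intro n hn
    apply Subtype.ext
    rw [Matrix.SpecialLinearGroup.coe_pow]
    exact hn
  rcases key hF p A.trace with h | h
  · left
    obtain ⟨c, hc⟩ := h
    have h0 : aeval A ((X ^ (q - 1) - 1) ^ 2 : F[X]) = 0 := by
      rw [hc, map_mul, hCH, zero_mul]
    simp only [map_pow, map_sub, aeval_X, map_one] at h0
    have hp2 : 2 ≤ p := (Fact.out : p.Prime).two_le
    have h1 : (A ^ (q - 1) - 1) ^ p = 0 := by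
      obtain ⟨j, rfl⟩ : ∃ j, p = 2 + j := ⟨p - 2, by omega⟩
      rw [pow_add, h0, zero_mul]
    have h2 : (A ^ (q - 1)) ^ p = 1 := by
      have hcomm : Commute (A ^ (q - 1) - 1) (1 : Matrix (Fin 2) (Fin 2) F) := Commute.one_right _
      have := add_pow_char_of_commute p hcomm
      rw [sub_add_cancel, h1, one_pow, zero_add] at this
      exact this
    rw [← pow_mul] at h2
    have h3 := orderOf_dvd_of_pow_eq_one (hpow _ h2)
    exact (Nat.Coprime.dvd_mul_right hg).mp h3
  · right
    obtain ⟨c, hc⟩ := h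
    have h0 : aeval A (X ^ (q + 1) - 1 : F[X]) = 0 := by
      rw [hc, map_mul, hCH, zero_mul]
    simp only [map_pow, map_sub, aeval_X, map_one] at h0
    exact orderOf_dvd_of_pow_eq_one (hpow _ (sub_eq_zero.mp h0))

end Cfsg.Agent.S0800
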