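import Mathlib
import Cfsg.Statements.S0802
import Cfsg.Agent.Lib.H5.PSL2KleinNorm
import Cfsg.Agent.Lib.H5.SL2Char2A4

set_option autoImplicit false
open Cfsg

namespace Cfsg.Agent.S0802

open Cfsg.Agent.Lib.H12 Cfsg.Agent.Lib.H5.SL2Char2

/-- an `A₄` configuration: an involution `u` and an element `h` of order three with `h u h⁻¹` commuting
with `u` -/
theorem exists_config : ∃ u h : alternatingGroup (Fin 4), u ≠ 1 ∧ u * u = 1 ∧ h ≠ 1 ∧ h ^ 3 = 1 ∧
    (h * u * h⁻¹) * u = u * (h * u * h⁻¹) :=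
  ⟨⟨Equiv.swap 0 1 * Equiv.swap 2 3, Equiv.Perm.mem_alternatingGroup.2 (by decide)⟩,
    ⟨Equiv.swap 0 1 * Equiv.swap 1 2, Equiv.Perm.mem_alternatingGroup.2 (by decide)⟩,
    by decide⟩

theorem no_A4_char_two {F : Type*} [Field F] [Fintype F] (h2 : (2 : F) = 0) (n : ℕ)
    (hF : Fintype.card F = 2 ^ n) (hn : Odd n)
    (H : Subgroup (Matrix.ProjectiveSpecialLinearGroup (Fin 2) F))
    (e : H ≃* alternatingGroup (Fin 4)) : False := by
  obtain ⟨u', h', hu1', huu', hh1', hh3', hc'⟩ := exists_config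
  obtain ⟨x, hx⟩ : ∃ x : H, x = e.symm u' := ⟨_, rfl⟩
  obtain ⟨y, hy⟩ : ∃ y : H, y = e.symm h' := ⟨_, rfl⟩
  have hx1 : x ≠ 1 := by
    intro h
    apply hu1'
    have := congrArg e h
    rwa [hx, MulEquiv.apply_symm_apply, map_one] at this
  have hxx : x * x = 1 := by rw [hx, ← map_mul, huu', map_one]
  have hy1 : y ≠ 1 := by
    intro h
    apply hh1'
    have := congrArg e h
    rwa [hy, MulEquiv.apply_symm_apply, map_one] at this
  have hy3 : y ^ 3 = 1 := by rw [hy, ← map_pow, hh3', map_one]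
  have hc : (y * x * y⁻¹) * x = x * (y * x * y⁻¹) := by
    rw [hx, hy, ← map_inv, ← map_mul, ← map_mul, ← map_mul, ← map_mul, hc']
  obtain ⟨u, hu⟩ := QuotientGroup.mk_surjective (x : Matrix.ProjectiveSpecialLinearGroup (Fin 2) F)
  obtain ⟨h, hh⟩ := QuotientGroup.mk_surjective (y : Matrix.ProjectiveSpecialLinearGroup (Fin 2) F)
  have hinj := mk_injective (F := F) h2
  have hu1 : u ≠ 1 := by
    rintro rfl
    apply hx1
    apply Subtype.ext
    rw [← hu]; rfl
  have huu : u * u = 1 := by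
    apply hinj
    rw [QuotientGroup.mk_mul, hu, QuotientGroup.mk_one]
    exact congrArg Subtype.val hxx
  have hh1 : h ≠ 1 := by
    rintro rfl
    apply hy1
    apply Subtype.ext
    rw [← hh]; rfl
  have hh3 : h ^ 3 = 1 := by
    apply hinj
    rw [QuotientGroup.mk_pow, hh, QuotientGroup.mk_one]
    exact congrArg Subtype.val hy3
  have hcomm : (h * u * h⁻¹) * u = u * (h * u * h⁻¹) := by
    apply hinj
    simp only [QuotientGroup.mk_mul, QuotientGroup.mk_inv, hu, hh]
    exact congrArg Subtype.val hc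
  obtain ⟨γ, hγ⟩ := exists_cube_root h2 u h hu1 huu hh1 hh3 hcomm
  exact no_cube_root_of_odd h2 n hF hn γ hγ

/-- PSL_2(p^n) has a subgroup isomorphic to A_4 if and only if it is not the case that p = 2 and n is odd. -/
theorem result {F : Type*} [Field F] [Fintype F] (p n : ℕ) [Fact p.Prime] [CharP F p] (hF : Fintype.card F = p ^ n) : (∃ H : Subgroup (Matrix.ProjectiveSpecialLinearGroup (Fin 2) F), Nonempty (H ≃* alternatingGroup (Fin 4))) ↔ ¬ (p = 2 ∧ Odd n) := by
  constructor
  · rintro ⟨H, ⟨e⟩⟩ ⟨rfl, hn⟩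
    have h2 : (2 : F) = 0 := by
      have := CharP.cast_eq_zero F 2
      exact_mod_cast this
    exact no_A4_char_two h2 n hF hn H e
  · intro hne
    by_cases hp : p = 2
    · subst hp
      have h2 : (2 : F) = 0 := by
        have := CharP.cast_eq_zero F 2
        exact_mod_cast this
      have hn : Even n := by
        rw [← Nat.not_odd_iff_even]
        intro ho
        exact hne ⟨rfl, ho⟩
      exact exists_A4_char_two h2 n hF hn
    · have hodd : Odd (Fintype.card F) := by
        rw [hF]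
        exact ((Fact.out : p.Prime).odd_of_ne_two hp).pow
      exact Cfsg.Agent.Lib.H5.PSL2KleinNorm.exists_A4 hodd

end Cfsg.Agent.S0802
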