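import Mathlib
import Cfsg.Statements.S0808
import Cfsg.Agent.Lib.H5.PSL2KleinConj
import Cfsg.Agent.Lib.H12.SL2Syl2
import Cfsg.Agent.Lib.H10.Conj

set_option autoImplicit false
open Cfsg

namespace Cfsg.Agent.S0808

open Cfsg.Agent.Lib.H12 Cfsg.Agent.Lib.H5 Cfsg.Agent.Lib.H5.PSL2Klein Cfsg.Agent.Lib.H5.PSL2KleinConj
  Cfsg.Agent.Lib.H5.KleinCount

section

variable {F : Type*} [Field F] [Fintype F]

local notation "SL2" => Matrix.SpecialLinearGroup (Fin 2) F
local notation "PSL2" => Matrix.ProjectiveSpecialLinearGroup (Fin 2) F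

/-- the preimage of a subgroup of order four of `PSL₂` has order eight -/
theorem card_comap_mk (h2 : (2 : F) ≠ 0) (V : Subgroup PSL2) (hV : Nat.card V = 4) :
    Nat.card (V.comap (QuotientGroup.mk' (Subgroup.center SL2))) = 8 := by
  have e : (V.comap (QuotientGroup.mk' (Subgroup.center SL2))) ≃
      Subgroup.center SL2 × ((V : Set PSL2) : Set PSL2) :=
    QuotientGroup.preimageMkEquivSubgroupProdSet (Subgroup.center SL2) (V : Set PSL2)
  rw [Nat.card_congr e, Nat.card_prod, card_center h2]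
  have : Nat.card ((V : Set PSL2) : Set PSL2) = 4 := hV
  rw [this]

theorem klein_conj_of_mod (h : Fintype.card F % 8 = 3 ∨ Fintype.card F % 8 = 5)
    (V W : Subgroup PSL2) (hV : IsKleinFour V) (hW : IsKleinFour W) :
    ∃ g : PSL2, W = V.map (MulAut.conj g).toMonoidHom := by
  have hodd : Odd (Fintype.card F) := by rw [Nat.odd_iff]; omega
  have h2 : (2 : F) ≠ 0 := two_ne_zero_of_odd hodd
  haveI : Fact (Nat.Prime 2) := ⟨Nat.prime_two⟩
  have key : ∀ U : Subgroup PSL2, IsKleinFour U → ∃ S : Sylow 2 SL2,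
      U.comap (QuotientGroup.mk' (Subgroup.center SL2)) = (S : Subgroup SL2) := by
    intro U hU
    have h8 := card_comap_mk h2 U hU.card_four
    have hp : IsPGroup 2 (U.comap (QuotientGroup.mk' (Subgroup.center SL2))) :=
      IsPGroup.of_card (n := 3) (by rw [h8]; norm_num)
    obtain ⟨S, hS⟩ := hp.exists_le_sylow
    refine ⟨S, ?_⟩
    apply Subgroup.eq_of_le_of_card_ge hS
    rw [h8, card_sylow_eq_eight h S]
  obtain ⟨S, hS⟩ := key V hV
  obtain ⟨T, hT⟩ := key W hW
  obtain ⟨g, hg⟩ := MulAction.exists_smul_eq SL2 S T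
  refine ⟨QuotientGroup.mk g, ?_⟩
  have hsurj : Function.Surjective (QuotientGroup.mk' (Subgroup.center SL2)) :=
    QuotientGroup.mk'_surjective _
  have hVm : V = (S : Subgroup SL2).map (QuotientGroup.mk' (Subgroup.center SL2)) := by
    rw [← hS, Subgroup.map_comap_eq_self_of_surjective hsurj]
  have hWm : W = (T : Subgroup SL2).map (QuotientGroup.mk' (Subgroup.center SL2)) := by
    rw [← hT, Subgroup.map_comap_eq_self_of_surjective hsurj]
  rw [hWm, hVm, ← hg, Cfsg.Agent.Lib.H10.coe_smul_sylow_eq_map, Subgroup.map_map, Subgroup.map_map]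
  congr 1

theorem eight_dvd_card_psl2 (h : Fintype.card F % 8 = 1 ∨ Fintype.card F % 8 = 7) :
    8 ∣ Nat.card PSL2 := by
  have hodd : Odd (Fintype.card F) := by rw [Nat.odd_iff]; omega
  have h2 : (2 : F) ≠ 0 := two_ne_zero_of_odd hodd
  haveI : Fact (Nat.Prime 2) := ⟨Nat.prime_two⟩
  obtain ⟨S⟩ : Nonempty (Sylow 2 SL2) := inferInstance
  have h16 := sixteen_dvd_card_sylow h S
  have h3 : 16 ∣ Nat.card SL2 := h16.trans (Subgroup.card_subgroup_dvd_card _)
  rw [card_sl2_eq_two_mul h2] at h3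
  omega

theorem klein_not_conj (h : Fintype.card F % 8 = 1 ∨ Fintype.card F % 8 = 7)
    (V₁ V₂ : Subgroup PSL2) (hV₁ : IsKleinFour V₁)
    (hall : ∀ W : Subgroup PSL2, IsKleinFour W →
        (∃ g : PSL2, W = V₁.map (MulAut.conj g).toMonoidHom) ∨
        (∃ g : PSL2, W = V₂.map (MulAut.conj g).toMonoidHom)) :
    ¬ ∃ g : PSL2, V₂ = V₁.map (MulAut.conj g).toMonoidHom := by
  rintro ⟨g₀, hg₀⟩
  have hodd : Odd (Fintype.card F) := by rw [Nat.odd_iff]; omega
  haveI : Fact (Nat.Prime 2) := ⟨Nat.prime_two⟩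
  have hall' : ∀ W : Subgroup PSL2, IsKleinFour W ↔
      ∃ g : PSL2, W = V₁.map (MulAut.conj g).toMonoidHom := by
    intro W
    constructor
    · intro hW
      rcases hall W hW with hg | ⟨g, hg⟩
      · exact hg
      · refine ⟨g * g₀, ?_⟩
        rw [hg, hg₀, Cfsg.Agent.Lib.H5.map_conj_map_conj]
    · rintro ⟨g, rfl⟩
      exact isKleinFour_map_conj' hV₁ g
  have h1 := ConjSubgroupCount.card_eq_card_conj_mul_card_normalizer V₁
  have h3 : Nat.card {W : Subgroup PSL2 // ∃ g : PSL2, W = V₁.map (MulAut.conj g).toMonoidHom} =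
      Nat.card {W : Subgroup PSL2 // IsKleinFour W} :=
    Nat.card_congr (Equiv.subtypeEquivRight (fun W => (hall' W).symm))
  rw [h3] at h1
  have h12 := twelve_mul_card_klein (F := F) hodd
  have h8 : 2 ^ (2 + 1) ∣ Nat.card (Subgroup.normalizer (V₁ : Set PSL2)) :=
    Sylow.prime_pow_dvd_card_normalizer (p := 2) (n := 2) (eight_dvd_card_psl2 h)
      (by rw [hV₁.card_four]; norm_num)
  have hpos : 0 < Nat.card PSL2 := Nat.card_pos
  obtain ⟨k, hk⟩ := h8
  rw [hk] at h1
  have hK0 : 0 < Nat.card {W : Subgroup PSL2 // IsKleinFour W} := by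
    rcases Nat.eq_zero_or_pos (Nat.card {W : Subgroup PSL2 // IsKleinFour W}) with h0 | h0
    · rw [h0] at h12; omega
    · exact h0
  -- 12 * K = K * (8 * k)
  have : Nat.card {W : Subgroup PSL2 // IsKleinFour W} * 12 =
      Nat.card {W : Subgroup PSL2 // IsKleinFour W} * (2 ^ (2 + 1) * k) := by
    rw [← h1, ← h12]; ring
  have h4 := Nat.eq_of_mul_eq_mul_left hK0 this
  omega

end

/-- Conjugacy classes of four-groups in PSL_2(q), q odd: if q ≡ 3 or 5 (mod 8) all Klein four-subgroups are conjugate; if q ≡ 1 or 7 (mod 8) there are two Klein four-subgroups which are not conjugate, and every Klein four-subgroup is conjugate to one of them. -/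
theorem result {F : Type*} [Field F] [Fintype F] {q : ℕ} (hF : Fintype.card F = q) (hodd : Odd q) : ((q % 8 = 3 ∨ q % 8 = 5) → ∀ V W : Subgroup (Matrix.ProjectiveSpecialLinearGroup (Fin 2) F), IsKleinFour V → IsKleinFour W → ∃ g : Matrix.ProjectiveSpecialLinearGroup (Fin 2) F, W = V.map (MulAut.conj g).toMonoidHom) ∧ ((q % 8 = 1 ∨ q % 8 = 7) → ∃ V₁ V₂ : Subgroup (Matrix.ProjectiveSpecialLinearGroup (Fin 2) F), IsKleinFour V₁ ∧ IsKleinFour V₂ ∧ (¬ ∃ g : Matrix.ProjectiveSpecialLinearGroup (Fin 2) F, V₂ = V₁.map (MulAut.conj g).toMonoidHom) ∧ ∀ W : Subgroup (Matrix.ProjectiveSpecialLinearGroup (Fin 2) F), IsKleinFour W → (∃ g : Matrix.ProjectiveSpecialLinearGroup (Fin 2) F, W = V₁.map (MulAut.conj g).toMonoidHom) ∨ (∃ g : Matrix.ProjectiveSpecialLinearGroup (Fin 2) F, W = V₂.map (MulAut.conj g).toMonoidHom)) := by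
  subst hF
  refine ⟨fun h V W hV hW => klein_conj_of_mod h V W hV hW, fun h => ?_⟩
  obtain ⟨V₁, V₂, hV₁, hV₂, hall⟩ := exists_two_klein (F := F) hodd
  exact ⟨V₁, V₂, hV₁, hV₂, klein_not_conj h V₁ V₂ hV₁ hall, hall⟩

end Cfsg.Agent.S0808
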