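import Mathlib
import Cfsg.Statements.S0803
import Cfsg.Agent.Lib.H5.PSL2KleinNorm
import Cfsg.Agent.Lib.H5.SL2Char2
import Cfsg.Agent.Lib.H12.CardSL
import Cfsg.Agent.S0808

set_option autoImplicit false
open Cfsg

namespace Cfsg.Agent.S0803

open Cfsg.Agent.Lib.H12 Cfsg.Agent.Lib.H5 Cfsg.Agent.Lib.H5.PSL2Klein
  Cfsg.Agent.Lib.H5.PSL2KleinNorm Cfsg.Agent.Lib.H5.SL2Char2

section

variable {F : Type*} [Field F] [Fintype F]

local notation "SL2" => Matrix.SpecialLinearGroup (Fin 2) F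
local notation "PSL2" => Matrix.ProjectiveSpecialLinearGroup (Fin 2) F

/-- for `q ≡ ±1 (mod 8)`, the normalizer of a Klein four-subgroup of `PSL₂(q)` is `S₄` -/
theorem exists_S4 (h : Fintype.card F % 8 = 1 ∨ Fintype.card F % 8 = 7) :
    ∃ H : Subgroup PSL2, Nonempty (H ≃* Equiv.Perm (Fin 4)) := by
  have hodd : Odd (Fintype.card F) := by rw [Nat.odd_iff]; omega
  have h2 : (2 : F) ≠ 0 := two_ne_zero_of_odd hodd
  haveI : Fact (Nat.Prime 2) := ⟨Nat.prime_two⟩
  obtain ⟨V, hV⟩ := exists_klein hodd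
  have hC := centralizer_klein_le h2 V hV
  have h8 : 2 ^ (2 + 1) ∣ Nat.card (Subgroup.normalizer (V : Set PSL2)) :=
    Sylow.prime_pow_dvd_card_normalizer (p := 2) (n := 2) (Cfsg.Agent.S0808.eight_dvd_card_psl2 h)
      (by rw [hV.card_four]; norm_num)
  have h24 : Nat.card (Subgroup.normalizer (V : Set PSL2)) = 24 := by
    rcases card_normalizer_klein hodd V hV with h12 | h24
    · rw [h12] at h8; norm_num at h8
    · exact h24
  exact ⟨_, normalizer_equiv_S4 V hV hC h24⟩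

/-- in characteristic two `PSL₂` has no subgroup `S₄` -/
theorem no_S4_char_two (h2 : (2 : F) = 0) (H : Subgroup PSL2) (e : H ≃* Equiv.Perm (Fin 4)) : False := by
  obtain ⟨σ, hσ4, hσ2⟩ : ∃ σ : Equiv.Perm (Fin 4), σ ^ 4 = 1 ∧ σ * σ ≠ 1 :=
    ⟨finRotate 4, by decide, by decide⟩
  obtain ⟨x, hx⟩ : ∃ x : H, x = e.symm σ := ⟨_, rfl⟩
  have hx4 : x ^ 4 = 1 := by rw [hx, ← map_pow, hσ4, map_one]
  have hx2 : x * x ≠ 1 := by
    intro h
    apply hσ2
    have := congrArg e h
    rwa [map_mul, hx, MulEquiv.apply_symm_apply, map_one] at this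
  obtain ⟨g, hg⟩ := QuotientGroup.mk_surjective (x : PSL2)
  have hg4 : g ^ 4 = 1 := by
    apply mk_injective h2
    rw [QuotientGroup.mk_pow, hg, QuotientGroup.mk_one]
    exact congrArg Subtype.val hx4
  have hg2 := mul_self_eq_one_of_pow_four h2 g hg4
  apply hx2
  apply Subtype.ext
  rw [Subgroup.coe_mul, Subgroup.coe_one, ← hg, ← QuotientGroup.mk_mul, hg2, QuotientGroup.mk_one]

theorem sq_mod_of_S4 (h2 : (2 : F) ≠ 0) (hodd : Odd (Fintype.card F)) (H : Subgroup PSL2)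
    (e : H ≃* Equiv.Perm (Fin 4)) : Fintype.card F ^ 2 % 16 = 1 := by
  have hH : Nat.card H = 24 := by
    rw [Nat.card_congr e.toEquiv, Nat.card_eq_fintype_card, Fintype.card_perm, Fintype.card_fin]
    rfl
  have h1 : 24 ∣ Nat.card PSL2 := hH ▸ Subgroup.card_subgroup_dvd_card H
  have h3 := card_sl2_eq_two_mul (F := F) h2
  rw [card_SL2] at h3
  obtain ⟨k, hk⟩ := h1
  rw [hk] at h3
  have h16 : 16 ∣ Fintype.card F * (Fintype.card F ^ 2 - 1) := ⟨3 * k, by rw [h3]; ring⟩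
  have hcop : Nat.Coprime 16 (Fintype.card F) := by
    have : Nat.Coprime (2 ^ 4) (Fintype.card F) :=
      Nat.Coprime.pow_left 4 (Nat.coprime_two_left.mpr hodd)
    simpa using this
  have h5 : 16 ∣ Fintype.card F ^ 2 - 1 := hcop.dvd_of_dvd_mul_left h16
  have hpos : 1 ≤ Fintype.card F ^ 2 := Nat.one_le_pow _ _ Fintype.card_pos
  obtain ⟨m, hm⟩ := h5
  omega

end

/-- PSL_2(q) has a subgroup isomorphic to S_4 iff q² ≡ 1 (mod 16). -/
theorem result {F : Type*} [Field F] [Fintype F] {q : ℕ} (hF : Fintype.card F = q) : (∃ H : Subgroup (Matrix.ProjectiveSpecialLinearGroup (Fin 2) F), Nonempty (H ≃* Equiv.Perm (Fin 4))) ↔ q ^ 2 % 16 = 1 := by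
  subst hF
  constructor
  · rintro ⟨H, ⟨e⟩⟩
    by_cases h2 : (2 : F) = 0
    · exact (no_S4_char_two h2 H e).elim
    · have hodd : Odd (Fintype.card F) := by
        rw [Nat.odd_iff]
        apply FiniteField.odd_card_of_char_ne_two
        intro hc
        apply h2
        have := CharP.cast_eq_zero F (ringChar F)
        rw [hc] at this
        exact_mod_cast this
      exact sq_mod_of_S4 h2 hodd H e
  · intro h
    apply exists_S4
    have h1 : Fintype.card F % 16 < 16 := Nat.mod_lt _ (by norm_num)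
    have h3 : Fintype.card F ^ 2 % 16 = (Fintype.card F % 16) ^ 2 % 16 := Nat.pow_mod _ _ _
    rw [h3] at h
    interval_cases hr : Fintype.card F % 16 <;> simp_all <;> omega

end Cfsg.Agent.S0803
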