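import Mathlib
import Cfsg.Statements.S0804
import Cfsg.Agent.Lib.H5.PSL2A5
import Cfsg.Agent.Lib.H12.CardSL

set_option autoImplicit false
open Cfsg

namespace Cfsg.Agent.S0804

/-- PSL_2(q) has a subgroup isomorphic to A_5 iff 5 ∣ q(q² − 1). -/
theorem result {F : Type*} [Field F] [Fintype F] {q : ℕ} (hF : Fintype.card F = q) : (∃ H : Subgroup (Matrix.ProjectiveSpecialLinearGroup (Fin 2) F), Nonempty (H ≃* alternatingGroup (Fin 5))) ↔ 5 ∣ q * (q ^ 2 - 1) := by
  subst hF
  constructor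
  · rintro ⟨H, ⟨e⟩⟩
    have hH : Nat.card H = 60 := by
      rw [Nat.card_congr e.toEquiv, nat_card_alternatingGroup]
      simp [Nat.factorial]
    have h1 : 60 ∣ Nat.card (Matrix.ProjectiveSpecialLinearGroup (Fin 2) F) :=
      hH ▸ Subgroup.card_subgroup_dvd_card H
    have h2 : Nat.card (Matrix.ProjectiveSpecialLinearGroup (Fin 2) F) ∣
        Nat.card (Matrix.SpecialLinearGroup (Fin 2) F) :=
      ⟨_, Subgroup.card_eq_card_quotient_mul_card_subgroup
        (Subgroup.center (Matrix.SpecialLinearGroup (Fin 2) F))⟩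
    rw [Cfsg.Agent.Lib.H12.card_SL2] at h2
    exact (by norm_num : 5 ∣ 60).trans (h1.trans h2)
  · intro h
    exact Cfsg.Agent.Lib.H5.PSL2A5.exists_A5 h

end Cfsg.Agent.S0804
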