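import Cfsg.Statements.S0806
import Mathlib
import Cfsg.Agent.Lib.H5.PSL2MinIndex

set_option autoImplicit false
open Cfsg

namespace Cfsg.Agent.S0806

/-- Minimal index (Galois): if q ∉ {2, 3, 5, 7, 9, 11} then every proper subgroup of PSL_2(q) has index ≥ q + 1, and some subgroup has index exactly q + 1. -/
theorem result {F : Type*} [Field F] [Fintype F] {q : ℕ} (hF : Fintype.card F = q) (hq : q ∉ ({2, 3, 5, 7, 9, 11} : Finset ℕ)) : (∀ H : Subgroup (Matrix.ProjectiveSpecialLinearGroup (Fin 2) F), H ≠ ⊤ → q + 1 ≤ H.index) ∧ ∃ H : Subgroup (Matrix.ProjectiveSpecialLinearGroup (Fin 2) F), H.index = q + 1 := by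
  subst hF
  have hq1 : 1 < Fintype.card F := Fintype.one_lt_card
  simp only [Finset.mem_insert, Finset.mem_singleton, not_or] at hq
  obtain ⟨h2', h3', h5', h7', h9', h11'⟩ := hq
  refine ⟨?_, ⟨Cfsg.Agent.Lib.H5.PSL2Borel.prB F, Cfsg.Agent.Lib.H5.PSL2MinIndex.index_prB⟩⟩
  intro H hH
  rcases Nat.even_or_odd (Fintype.card F) with heven | hodd
  · have h2 : (2 : F) = 0 := Cfsg.Agent.Lib.H5.PSL2SubfieldMaxTwo.two_eq_zero_of_even heven
    have h4 : 4 ≤ Fintype.card F := by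
      obtain ⟨k, hk⟩ := heven
      omega
    have hLtop : H.comap (Cfsg.Agent.Lib.H5.PSL2Torus.pr (F := F)) ≠ ⊤ := by
      intro h
      apply hH
      rw [eq_top_iff]
      intro x _
      obtain ⟨g, rfl⟩ := Cfsg.Agent.Lib.H5.PSL2Torus.pr_surjective x
      have : g ∈ H.comap Cfsg.Agent.Lib.H5.PSL2Torus.pr := by rw [h]; exact Subgroup.mem_top _
      exact this
    have := Cfsg.Agent.Lib.H5.PSL2MinIndex.le_index_even h2 h4 _ hLtop
    rwa [Subgroup.index_comap_of_surjective H Cfsg.Agent.Lib.H5.PSL2Torus.pr_surjective] at this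
  · have h13 : 13 ≤ Fintype.card F := by
      obtain ⟨k, hk⟩ := hodd
      omega
    obtain ⟨p, hp⟩ := CharP.exists F
    haveI := hp
    haveI : Fact p.Prime := ⟨CharP.char_is_prime F p⟩
    exact Cfsg.Agent.Lib.H5.PSL2MinIndex.le_index_odd p hodd h13 H hH

end Cfsg.Agent.S0806
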