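import Cfsg.Statements.S0817
import Cfsg.Agent.Lib.H13.Tri6

set_option autoImplicit false
open Cfsg

namespace Cfsg.Agent.S0817

/-- |Aut(PΩ⁺_2m(q))| for q = p^f, m ≥ 4: |PΩ⁺_2m(q)| times f, times 3 when m = 4, times 2 if p = 2, and times 8 or 4 if p is odd according as m(q−1)/2 is even or odd. -/
theorem result {F : Type*} [Field F] [Fintype F] (p f : ℕ) [Fact p.Prime] (hf : 1 ≤ f) (hF : Fintype.card F = p ^ f) (m : ℕ) (hm : 4 ≤ m) : Nat.card (MulAut (Cfsg.POmega F (Cfsg.quadFormPlus m F))) = (if m = 4 then 3 else 1) * (if p = 2 then 2 else (if Even (m * (p ^ f - 1) / 2) then 8 else 4)) * f * Nat.card (Cfsg.POmega F (Cfsg.quadFormPlus m F)) := by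
  have h3 := Cfsg.Agent.Lib.H13.Tri.card_aut_plus (F := F) (m := m) p f hf hF hm
  rw [Cfsg.Agent.S0287.coe_plusQF] at h3
  rw [h3]
  congr 2
  by_cases hp : p = 2
  · rw [if_pos hp, if_pos hp]
  rw [if_neg hp, if_neg hp]
  have hodd : Odd (p ^ f) := ((Fact.out : p.Prime).odd_of_ne_two hp).pow
  obtain ⟨k, hk⟩ := hodd
  have h1 : m * (p ^ f - 1) / 2 = m * k := by
    rw [hk, Nat.add_sub_cancel, ← mul_assoc, mul_comm m 2, mul_assoc, Nat.mul_div_cancel_left _ (by norm_num)]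
  have hq : p ^ f % 4 = 3 ↔ ¬ Even k := by
    rw [hk, Nat.not_even_iff_odd]
    constructor
    · intro h
      exact ⟨(k - 1) / 2, by omega⟩
    · rintro ⟨j, rfl⟩
      omega
  have hiff : Even (m * (p ^ f - 1) / 2) ↔ ¬ (Odd m ∧ p ^ f % 4 = 3) := by
    rw [h1, Nat.even_mul, hq, ← Nat.not_even_iff_odd]
    tauto
  by_cases hc : Odd m ∧ p ^ f % 4 = 3
  · rw [if_pos hc, if_neg (fun h => hiff.1 h hc)]
  · rw [if_neg hc, if_pos (hiff.2 hc)]

end Cfsg.Agent.S0817
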