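import Cfsg.Statements.S0818
import Cfsg.Agent.Lib.H13.AutPO10

set_option autoImplicit false
open Cfsg

namespace Cfsg.Agent.S0818

/-- |Aut(PΩ⁻_2m(q))| for q = p^f, m ≥ 4 (form quadFormMinus (m−1) with anisotropic binary part): |PΩ⁻_2m(q)| times f, times 2 if p = 2, and times 4 or 8 if p is odd according as m(q−1)/2 is even or odd. -/
theorem result {F : Type*} [Field F] [Fintype F] (p f : ℕ) [Fact p.Prime] (hf : 1 ≤ f) (hF : Fintype.card F = p ^ f) (m : ℕ) (hm : 4 ≤ m) (a b : F) (hab : ∀ z₁ z₂ : F, z₁ ^ 2 + a * z₁ * z₂ + b * z₂ ^ 2 = 0 → z₁ = 0 ∧ z₂ = 0) : Nat.card (MulAut (Cfsg.POmega F (Cfsg.quadFormMinus (m - 1) F a b))) = (if p = 2 then 2 else (if Even (m * (p ^ f - 1) / 2) then 4 else 8)) * f * Nat.card (Cfsg.POmega F (Cfsg.quadFormMinus (m - 1) F a b)) := by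
  have hcp := Cfsg.Agent.Lib.H13.AutPO.charP_of_card hF
  by_cases hp : p = 2
  · subst hp
    obtain ⟨-, -, h3⟩ := Cfsg.Agent.Lib.H13.AutPO.out_minus_two (m := m - 1) (by omega) a b hab hf hF
    rw [Cfsg.Agent.S0288.coe_minusQF] at h3
    rw [if_pos rfl]
    exact h3
  · have h3 := Cfsg.Agent.Lib.H13.AutPO.card_aut_minus_odd (m := m - 1) hp (by omega) a b hab hf hF
    rw [Cfsg.Agent.S0288.coe_minusQF] at h3
    rw [if_neg hp, h3]
    congr 2
    have hodd : Odd (p ^ f) := ((Fact.out : p.Prime).odd_of_ne_two hp).pow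
    obtain ⟨k, hk⟩ := hodd
    have h1 : m * (p ^ f - 1) / 2 = m * k := by
      rw [hk, Nat.add_sub_cancel, ← mul_assoc, mul_comm m 2, mul_assoc, Nat.mul_div_cancel_left _ (by norm_num)]
    have hq : p ^ f % 4 = 3 ↔ ¬ Even k := by
      rw [hk, Nat.not_even_iff_odd]
      constructor
      · intro h
        exact ⟨(k - 1) / 2, by omega⟩
      · rintro ⟨j, rfl⟩
        omega
    have hm' : Even (m - 1) ↔ ¬ Even m := by
      rw [Nat.not_even_iff_odd]
      constructor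
      · rintro ⟨j, hj⟩
        exact ⟨j, by omega⟩
      · rintro ⟨j, hj⟩
        exact ⟨j, by omega⟩
    have hiff : Even (m * (p ^ f - 1) / 2) ↔ ¬ (Even (m - 1) ∧ p ^ f % 4 = 3) := by
      rw [h1, Nat.even_mul, hq, hm']
      tauto
    by_cases hc : Even (m - 1) ∧ p ^ f % 4 = 3
    · rw [if_pos hc, if_neg (fun h => hiff.1 h hc)]
    · rw [if_neg hc, if_pos (hiff.2 hc)]

end Cfsg.Agent.S0818
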