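import Cfsg.Statements.S2579
import Cfsg.Agent.Lib.H13.Transv

set_option autoImplicit false
open Cfsg

namespace Cfsg.Agent.S2579

open Cfsg.Agent.Lib.H13 Module

theorem result {F : Type*} [Field F] [Finite F] {n : ℕ} (hn : 3 ≤ n) (s t : Matrix.SpecialLinearGroup (Fin n) F) (hs : Cfsg.IsTransvection (s : Matrix (Fin n) (Fin n) F)) (ht : Cfsg.IsTransvection (t : Matrix (Fin n) (Fin n) F)) : IsConj s t := by
  classical
  set S : Matrix (Fin n) (Fin n) F := (s : Matrix (Fin n) (Fin n) F) with hS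
  set T : Matrix (Fin n) (Fin n) F := (t : Matrix (Fin n) (Fin n) F) with hT
  -- the linear maps
  set Ns : (Fin n → F) →ₗ[F] (Fin n → F) := Matrix.toLin' (S - 1) with hNs
  set Nt : (Fin n → F) →ₗ[F] (Fin n → F) := Matrix.toLin' (T - 1) with hNt
  have hrs : finrank F (LinearMap.range Ns) = 1 := hs.1
  have hrt : finrank F (LinearMap.range Nt) = 1 := ht.1
  have hsqs : Ns ∘ₗ Ns = 0 := by
    rw [hNs, ← Matrix.toLin'_mul, hs.2, map_zero]
  have hsqt : Nt ∘ₗ Nt = 0 := by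
    rw [hNt, ← Matrix.toLin'_mul, ht.2, map_zero]
  obtain ⟨v, φ, hv, hφ, hφv, hN⟩ := rankOne_decomp Ns hrs hsqs
  obtain ⟨v', φ', hv', hφ', hφv', hN'⟩ := rankOne_decomp Nt hrt hsqt
  obtain ⟨g, hgv, hgφ⟩ := exists_equiv_pair v v' φ φ' hv hv' hφ hφ' hφv hφv'
  have hdim : 3 ≤ finrank F (Fin n → F) := by simpa using hn
  have hdetg : LinearMap.det (g : (Fin n → F) →ₗ[F] (Fin n → F)) ≠ 0 :=
    (LinearEquiv.isUnit_det' g).ne_zero
  obtain ⟨c, hcdet, hcv, hcφ⟩ := exists_equiv_det_fix v' φ' hv' hφ' hφv' hdim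
    (LinearMap.det (g : (Fin n → F) →ₗ[F] (Fin n → F)))⁻¹ (inv_ne_zero hdetg)
  -- h = c ∘ g
  set h : (Fin n → F) →ₗ[F] (Fin n → F) :=
    (c : (Fin n → F) →ₗ[F] (Fin n → F)) ∘ₗ (g : (Fin n → F) →ₗ[F] (Fin n → F)) with hh
  have hdet : LinearMap.det h = 1 := by
    rw [hh, LinearMap.det_comp, hcdet, inv_mul_cancel₀ hdetg]
  have hcomm : h ∘ₗ Ns = Nt ∘ₗ h := by
    apply LinearMap.ext
    intro x
    simp only [LinearMap.comp_apply, hh, LinearEquiv.coe_coe]
    rw [hN x, hN' (c (g x)), map_smul, map_smul, hgv, hcv, hcφ, hgφ]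
  set M : Matrix (Fin n) (Fin n) F := LinearMap.toMatrix' h with hM
  have hMdet : M.det = 1 := by rw [hM, LinearMap.det_toMatrix', hdet]
  have hMcomm : M * (S - 1) = (T - 1) * M := by
    have h1 : Matrix.toLin' (M * (S - 1)) = Matrix.toLin' ((T - 1) * M) := by
      rw [Matrix.toLin'_mul, Matrix.toLin'_mul, hM, Matrix.toLin'_toMatrix']
      exact hcomm
    exact Matrix.toLin'.injective h1
  have hMS : M * S = T * M := by
    have := hMcomm
    rw [mul_sub, sub_mul, mul_one, one_mul] at this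
    exact sub_left_inj.mp this
  rw [isConj_iff]
  let m : Matrix.SpecialLinearGroup (Fin n) F := ⟨M, hMdet⟩
  refine ⟨m, ?_⟩
  have : m * s = t * m := by
    apply Subtype.ext
    show M * S = T * M
    exact hMS
  rw [this, mul_assoc, mul_inv_cancel, mul_one]

end Cfsg.Agent.S2579
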