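import Cfsg.Statements.S0820
import Cfsg.Agent.S2579
-- import your own Cfsg.Agent.* helpers here

set_option autoImplicit false
open Cfsg

namespace Cfsg.Agent.S0820

open Matrix

section
variable {F : Type*} [Field F]

/-- a nonzero square-zero `3 × 3` matrix has rank one -/
theorem rank_eq_one_of_sq_zero (N : Matrix (Fin 3) (Fin 3) F) (hN : N ≠ 0) (hsq : N * N = 0) :
    N.rank = 1 := by
  have h1 := Matrix.rank_add_rank_le_card_of_mul_eq_zero hsq
  simp only [Fintype.card_fin] at h1
  have h2 : N.rank ≠ 0 := by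
    intro h0
    apply hN
    unfold Matrix.rank at h0
    have hr : LinearMap.range N.mulVecLin = ⊥ := by
      rwa [Submodule.finrank_eq_zero] at h0
    have hz : N.mulVecLin = 0 := LinearMap.range_eq_bot.mp hr
    ext i j
    have := congrFun (congrArg (fun f => f (Pi.single j 1)) hz) i
    simpa using this
  omega

/-- an involution of `SL₃` in characteristic two is a transvection -/
theorem isTransvection_of_sq_eq_one (h2 : (2 : F) = 0) (g : Matrix.SpecialLinearGroup (Fin 3) F)
    (hg : g ^ 2 = 1) (hg1 : g ≠ 1) : Cfsg.IsTransvection (g : Matrix (Fin 3) (Fin 3) F) := by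
  set G : Matrix (Fin 3) (Fin 3) F := (g : Matrix (Fin 3) (Fin 3) F) with hG
  have hGG : G * G = 1 := by
    have := congrArg (fun u : Matrix.SpecialLinearGroup (Fin 3) F => (u : Matrix (Fin 3) (Fin 3) F)) hg
    simpa [pow_two] using this
  have hsq : (G - 1) * (G - 1) = 0 := by
    have e : (G - 1) * (G - 1) = G * G - (2 : F) • G + 1 := by
      rw [two_smul]; noncomm_ring
    rw [e, hGG, h2, zero_smul, sub_zero]
    have : (1 : Matrix (Fin 3) (Fin 3) F) + 1 = (2 : F) • (1 : Matrix (Fin 3) (Fin 3) F) := by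
      rw [two_smul]
    rw [this, h2, zero_smul]
  have hne : G - 1 ≠ 0 := by
    intro h
    apply hg1
    apply Subtype.ext
    show G = 1
    exact sub_eq_zero.mp h
  exact ⟨rank_eq_one_of_sq_zero _ hne hsq, hsq⟩

end

/-- every involution of `PSL₃(F)`, `F` of characteristic two, is the image of an involution of `SL₃(F)` -/
theorem exists_lift {F : Type*} [Field F] (x : Matrix.ProjectiveSpecialLinearGroup (Fin 3) F)
    (hx : orderOf x = 2) :
    ∃ g : Matrix.SpecialLinearGroup (Fin 3) F, g ^ 2 = 1 ∧ g ≠ 1 ∧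
      (QuotientGroup.mk g : Matrix.ProjectiveSpecialLinearGroup (Fin 3) F) = x := by
  obtain ⟨g, rfl⟩ := QuotientGroup.mk_surjective x
  have hx2 : (QuotientGroup.mk g : Matrix.ProjectiveSpecialLinearGroup (Fin 3) F) ^ 2 = 1 := by
    rw [← hx]; exact pow_orderOf_eq_one _
  have hx1 : (QuotientGroup.mk g : Matrix.ProjectiveSpecialLinearGroup (Fin 3) F) ≠ 1 := by
    intro h
    rw [h, orderOf_one] at hx
    norm_num at hx
  have hc : g ^ 2 ∈ Subgroup.center (Matrix.SpecialLinearGroup (Fin 3) F) := by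
    rw [← QuotientGroup.eq_one_iff, QuotientGroup.mk_pow]
    exact hx2
  set c := g ^ 2 with hcdef
  have hc3 : c ^ 3 = 1 := by
    obtain ⟨r, hr, hrc⟩ := Matrix.SpecialLinearGroup.mem_center_iff.mp hc
    apply Subtype.ext
    rw [Matrix.SpecialLinearGroup.coe_pow, ← hrc, ← map_pow]
    simp only [Fintype.card_fin] at hr
    rw [hr]
    simp
  have hcg : c * g = g * c := by
    rw [hcdef]; group
  refine ⟨c * g, ?_, ?_, ?_⟩
  · calc (c * g) ^ 2 = c * g * (c * g) := pow_two _
      _ = c * (g * c) * g := by group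
      _ = c * (c * g) * g := by rw [hcg]
      _ = c ^ 2 * g ^ 2 := by simp only [pow_two, mul_assoc]
      _ = c ^ 3 := by rw [← hcdef]; group
      _ = 1 := hc3
  · intro h
    apply hx1
    have : g = c⁻¹ := by
      rw [eq_inv_iff_mul_eq_one, ← hcg]
      exact h
    rw [this, QuotientGroup.mk_inv, inv_eq_one, QuotientGroup.eq_one_iff]
    exact hc
  · rw [QuotientGroup.mk_mul, (QuotientGroup.eq_one_iff c).mpr hc, one_mul]

/-- Any two elements of order 2 of PSL_3(4) are conjugate. -/
theorem result {F : Type*} [Field F] [Fintype F] (hF : Fintype.card F = 4) (x y : Matrix.ProjectiveSpecialLinearGroup (Fin 3) F) (hx : orderOf x = 2) (hy : orderOf y = 2) : IsConj x y := by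
  have h2 : (2 : F) = 0 := by
    have h4 := Nat.cast_card_eq_zero F
    rw [hF] at h4
    have : (2 : F) * 2 = 0 := by
      have : ((4 : ℕ) : F) = 2 * 2 := by norm_num
      rw [← this]; exact h4
    exact mul_self_eq_zero.mp this
  obtain ⟨g, hg2, hg1, rfl⟩ := exists_lift x hx
  obtain ⟨h, hh2, hh1, rfl⟩ := exists_lift y hy
  have hconj := Cfsg.Agent.S2579.result (F := F) (n := 3) (le_refl 3) g h
    (isTransvection_of_sq_eq_one h2 g hg2 hg1) (isTransvection_of_sq_eq_one h2 h hh2 hh1)
  exact (QuotientGroup.mk' _).map_isConj hconj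

end Cfsg.Agent.S0820
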