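import Cfsg.Statements.S0821
import Mathlib
import Cfsg.Agent.Lib.H11.PSpRank4
import Cfsg.Agent.Lib.H11.OmegaCenter2
import Cfsg.Agent.S2234
import Cfsg.Agent.S2235
-- import your own Cfsg.Agent.* helpers here

set_option autoImplicit false
open Cfsg

namespace Cfsg.Agent.S0821

open Cfsg.Agent.Lib.H11.PSpRank Cfsg.Agent.Lib.H2.Sp

theorem two_mul_lt_two_pow (m : ℕ) (hm : 3 ≤ m) : 2 * m < 2 ^ m := by
  induction m, hm using Nat.le_induction with
  | base => norm_num
  | succ n hn ih => rw [pow_succ]; omega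

theorem one_ne_negOne {F : Type*} [Field F] (h2 : (2 : F) ≠ 0) (m : ℕ) (hm : 1 ≤ m) :
    (1 : Matrix.symplecticGroup (Fin m) F) ≠ negOne m := by
  intro h
  have h1 := congrArg (fun g : Matrix.symplecticGroup (Fin m) F =>
    (g : Matrix (Fin m ⊕ Fin m) (Fin m ⊕ Fin m) F) (Sum.inl ⟨0, hm⟩) (Sum.inl ⟨0, hm⟩)) h
  have h3 : (1 : F) = -1 := by
    simpa [negOne] using h1
  apply h2
  linear_combination h3

/-- `PSp_{2m}(q)`, `q` odd, `m ≥ 3`, has no elementary abelian 2-subgroup of order `2^{2m}` -/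
theorem psp_no_big {F : Type*} [Field F] [Fintype F] (hodd : Odd (Fintype.card F)) (m : ℕ)
    (hm : 3 ≤ m) : ¬ Cfsg.PRankAtLeast 2 (2 * m) (Cfsg.PSp m F) := by
  have h2 : (2 : F) ≠ 0 := Cfsg.Agent.S0286.two_ne_zero_of_odd hodd
  rintro ⟨Abar, hcomm, hexp, hcard⟩
  have hZ := center_eq (F := F) m (by omega)
  have hZmem : ∀ g : Matrix.symplecticGroup (Fin m) F,
      g ∈ Subgroup.center (Matrix.symplecticGroup (Fin m) F) ↔ g = 1 ∨ g = negOne m := by
    intro g
    rw [← SetLike.mem_coe, hZ]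
    simp only [Set.mem_insert_iff, Set.mem_singleton_iff]
  have hzZ : negOne m ∈ Subgroup.center (Matrix.symplecticGroup (Fin m) F) :=
    (hZmem _).2 (Or.inr rfl)
  have zc : ∀ g : Matrix.symplecticGroup (Fin m) F, negOne m * g = g * negOne m := fun g =>
    ((Subgroup.mem_center_iff.1 hzZ) g).symm
  have zz : (negOne m : Matrix.symplecticGroup (Fin m) F) * negOne m = 1 := by
    apply Subtype.ext
    show (-1 : Matrix (Fin m ⊕ Fin m) (Fin m ⊕ Fin m) F) * (-1) = 1
    rw [neg_mul_neg, one_mul]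
  let π := QuotientGroup.mk' (Subgroup.center (Matrix.symplecticGroup (Fin m) F))
  obtain ⟨E, hE⟩ : ∃ E, E = Abar.comap π := ⟨_, rfl⟩
  have hEmem : ∀ x, x ∈ E ↔ π x ∈ Abar := by
    intro x; rw [hE, Subgroup.mem_comap]
  have E2 : ∀ x ∈ E, ∀ y ∈ E, x * y = y * x ∨ x * y = negOne m * (y * x) := by
    intro x hx y hy
    have h1 := hcomm.is_comm.comm ⟨π x, (hEmem x).1 hx⟩ ⟨π y, (hEmem y).1 hy⟩
    have h3 : π y * π x = π x * π y := (congrArg Subtype.val h1).symm
    rw [← map_mul, ← map_mul] at h3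
    have h4 : (y * x)⁻¹ * (x * y) ∈ Subgroup.center (Matrix.symplecticGroup (Fin m) F) :=
      QuotientGroup.eq.1 h3
    rcases (hZmem _).1 h4 with h5 | h5
    · left
      calc x * y = (y * x) * ((y * x)⁻¹ * (x * y)) := by group
        _ = y * x := by rw [h5, mul_one]
    · right
      calc x * y = (y * x) * ((y * x)⁻¹ * (x * y)) := by group
        _ = (y * x) * negOne m := by rw [h5]
        _ = negOne m * (y * x) := (zc _).symm
  have E3 : ∀ x ∈ E, x * x = 1 ∨ x * x = negOne m := by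
    intro x hx
    have h1 := hexp (π x) ((hEmem x).1 hx)
    rw [pow_two, ← map_mul] at h1
    have h3 : x * x ∈ Subgroup.center (Matrix.symplecticGroup (Fin m) F) :=
      (QuotientGroup.eq_one_iff _).1 h1
    exact (hZmem _).1 h3
  have zE : negOne m ∈ E := by
    rw [hEmem]
    have : π (negOne m) = 1 := (QuotientGroup.eq_one_iff _).2 hzZ
    rw [this]; exact Abar.one_mem
  obtain ⟨A, hA⟩ := exists_setup zc zz E2 E3 zE
  have hAcard : Nat.card A ≤ 2 ^ m := by
    refine (Cfsg.Agent.S2234.result hodd m (by omega)).2 A ⟨⟨?_⟩⟩ ?_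
    · rintro ⟨x, hx⟩ ⟨y, hy⟩
      apply Subtype.ext
      exact hA.Ac x hx y hy
    · intro a ha
      rw [pow_two]; exact hA.A2 a ha
  have hEle := card_E_le h2 (by omega) hA
  -- the order of `E`
  have hπ : Function.Surjective π := QuotientGroup.mk'_surjective _
  have hidx : E.index = Abar.index := by
    rw [hE]; exact Subgroup.index_comap_of_surjective Abar hπ
  have c1 := Subgroup.card_mul_index E
  have c2 := Subgroup.card_mul_index Abar
  have c3 := Subgroup.card_eq_card_quotient_mul_card_subgroup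
    (Subgroup.center (Matrix.symplecticGroup (Fin m) F))
  have hZcard : Nat.card (Subgroup.center (Matrix.symplecticGroup (Fin m) F)) = 2 := by
    have : Nat.card ↥(Subgroup.center (Matrix.symplecticGroup (Fin m) F)) =
        ((Subgroup.center (Matrix.symplecticGroup (Fin m) F) :
          Set (Matrix.symplecticGroup (Fin m) F))).ncard := by
      rw [← Nat.card_coe_set_eq]; rfl
    rw [this, hZ]
    exact Set.ncard_pair (one_ne_negOne h2 m (by omega))
  have hidx0 : Abar.index ≠ 0 := Subgroup.index_ne_zero_of_finite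
  have hEcard : Nat.card E = Nat.card Abar * 2 := by
    rw [hidx] at c1
    rw [hZcard, ← c2] at c3
    have : Nat.card E * Abar.index = (Nat.card Abar * 2) * Abar.index := by
      rw [c1, c3]; ring
    exact Nat.eq_of_mul_eq_mul_right (Nat.pos_of_ne_zero hidx0) this
  have hlt := two_mul_lt_two_pow m hm
  have hpow : (2 : ℕ) ^ (2 * m) = 2 ^ m * 2 ^ m := by rw [two_mul, pow_add]
  have hpos : 0 < 2 ^ m := Nat.pos_of_ne_zero (by positivity)
  have k1 : 2 ^ m * 2 ^ m * 2 ≤ 4 * 2 ^ m * m := by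
    calc 2 ^ m * 2 ^ m * 2 ≤ Nat.card Abar * 2 := by rw [← hpow]; exact Nat.mul_le_mul_right 2 hcard
      _ = Nat.card E := hEcard.symm
      _ ≤ 4 * Nat.card A * m := hEle
      _ ≤ 4 * 2 ^ m * m := by
        apply Nat.mul_le_mul_right
        exact Nat.mul_le_mul_left 4 hAcard
  have k2 : 2 ^ m * (2 ^ m * 2) ≤ 2 ^ m * (4 * m) := by
    calc 2 ^ m * (2 ^ m * 2) = 2 ^ m * 2 ^ m * 2 := by ring
      _ ≤ 4 * 2 ^ m * m := k1
      _ = 2 ^ m * (4 * m) := by ring
  have k3 := Nat.le_of_mul_le_mul_left k2 hpos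
  omega

/-- `PΩ_{2m+1}(q)`, `q` odd, has an elementary abelian 2-subgroup of order `2^{2m}` -/
theorem pomega_big {F : Type*} [Field F] [Fintype F] (hodd : Odd (Fintype.card F)) (m : ℕ)
    (hm : 3 ≤ m) : Cfsg.PRankAtLeast 2 (2 * m) (Cfsg.POmega F (Cfsg.quadFormOdd m F)) := by
  have h2 : (2 : F) ≠ 0 := Cfsg.Agent.S0286.two_ne_zero_of_odd hodd
  have hcard : Fintype.card (Unit ⊕ (Fin m ⊕ Fin m)) = 2 * m + 1 := by
    rw [Fintype.card_sum, Fintype.card_sum, Fintype.card_fin, Fintype.card_unique]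
    ring
  have hnd := Cfsg.Agent.S0286.nondeg (F := F) h2 m
  have h1 := (Cfsg.Agent.S2235.result hodd m (by omega)).1
  have hc := Cfsg.Agent.Lib.H11.OmegaCenter2.card_center_odd (Cfsg.Agent.S0286.oddQF F m) hnd h2
    (by rw [hcard]; omega)
  rw [Cfsg.Agent.S0286.coe_oddQF] at hc
  have hno : ¬ ∃ g : ↥(Cfsg.isometryGroup F (Cfsg.quadFormOdd m F)),
      g ∈ Cfsg.Omega F (Cfsg.quadFormOdd m F) ∧
      ((g : GL (Unit ⊕ (Fin m ⊕ Fin m)) F) :
        Matrix (Unit ⊕ (Fin m ⊕ Fin m)) (Unit ⊕ (Fin m ⊕ Fin m)) F) = -1 := by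
    rintro ⟨g, hg, hgm⟩
    have hdet := Cfsg.Agent.Lib.H11.ORank.det_of_mem_omega _ g hg
    rw [hgm, Matrix.det_neg, Matrix.det_one, mul_one, hcard] at hdet
    have : (-1 : F) ^ (2 * m + 1) = -1 := by
      rw [pow_succ, pow_mul]; norm_num
    rw [this] at hdet
    apply h2
    linear_combination -hdet
  rw [if_neg hno] at hc
  have hbot : Subgroup.center ↥(Cfsg.Omega F (Cfsg.quadFormOdd m F)) = ⊥ :=
    Subgroup.card_eq_one.1 hc
  have e : ↥(Cfsg.Omega F (Cfsg.quadFormOdd m F)) ≃* Cfsg.POmega F (Cfsg.quadFormOdd m F) :=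
    ((QuotientGroup.quotientMulEquivOfEq hbot).trans QuotientGroup.quotientBot).symm
  exact Cfsg.Agent.Lib.H11.ORank.prankAtLeast_congr e h1

/-- PSp_2m(q) ≇ PΩ_(2m+1)(q) for q odd and m ≥ 3 (they have the same order). -/
theorem result {F : Type*} [Field F] [Fintype F] (hodd : Odd (Fintype.card F)) (m : ℕ) (hm : 3 ≤ m) : IsEmpty (Cfsg.PSp m F ≃* Cfsg.POmega F (Cfsg.quadFormOdd m F)) := by
  refine ⟨fun φ => ?_⟩
  exact psp_no_big hodd m hm
    (Cfsg.Agent.Lib.H11.ORank.prankAtLeast_congr φ.symm (pomega_big hodd m hm))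

end Cfsg.Agent.S0821
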