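import Cfsg.Statements.S0822
import Cfsg.Agent.Lib.H14.U4Main
import Cfsg.Agent.Lib.H3.CenterIso
import Cfsg.Agent.Lib.H2.Spec5

set_option autoImplicit false
open Cfsg

namespace Cfsg.Agent.S0822

/-- ring isomorphisms induce isomorphisms of symplectic groups -/
noncomputable def spEquiv {K K' : Type*} [Field K] [Field K'] (e : K ≃+* K') (m : ℕ) :
    ↥(Matrix.symplecticGroup (Fin m) K) ≃* ↥(Matrix.symplecticGroup (Fin m) K') where
  toFun g := ⟨g.1.map e, SymplecticGroup.map_mem g.2 e⟩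
  invFun g := ⟨g.1.map e.symm, SymplecticGroup.map_mem g.2 e.symm⟩
  left_inv g := by
    apply Subtype.ext
    ext i j
    simp
  right_inv g := by
    apply Subtype.ext
    ext i j
    simp
  map_mul' g h := by
    apply Subtype.ext
    show (g.1 * h.1).map e = g.1.map e * h.1.map e
    exact Matrix.map_mul

/-- PSU_4(2) ≅ PSp_4(3): with |F| = 4 and |K| = 3, the projective special unitary group of the standard Hermitian form on F^4 is isomorphic to PSp_4(K). -/
theorem result {F K : Type*} [Field F] [Fintype F] [Field K] [Fintype K] (hF : Fintype.card F = 4) (hK : Fintype.card K = 3) : Nonempty (Cfsg.PSU 4 F 2 ≃* Cfsg.PSp 2 K) := by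
    have eF : F ≃+* Cfsg.Agent.Lib.H17.F4 :=
      FiniteField.ringEquivOfCardEq (hF.trans Cfsg.Agent.Lib.H17.F4.card_eq.symm)
    have eK : K ≃+* ZMod 3 := FiniteField.ringEquivOfCardEq (hK.trans (ZMod.card 3).symm)
    obtain ⟨e0⟩ := Cfsg.Agent.Lib.H14.U4Main.main
    have e1 : Cfsg.PSU 4 F 2 ≃* Cfsg.PSU 4 Cfsg.Agent.Lib.H17.F4 2 :=
      Cfsg.Agent.Lib.H3.CenterIso.quotCenterCongr (Cfsg.Agent.Lib.H2.Spec.suEquiv eF 4 2)
    have e2 : Cfsg.PSp 2 K ≃* Cfsg.PSp 2 (ZMod 3) :=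
      Cfsg.Agent.Lib.H3.CenterIso.quotCenterCongr (spEquiv eK 2)
    exact ⟨(e1.trans e0).trans e2.symm⟩

end Cfsg.Agent.S0822
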