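import Cfsg.Statements.S0823
import Cfsg.Agent.S0286
import Cfsg.Agent.Lib.H29.PermMod
import Cfsg.Agent.Lib.H29.IsoTransport
-- import your own Cfsg.Agent.* helpers here

set_option autoImplicit false
open Cfsg

namespace Cfsg.Agent.S0823

open Matrix Equiv Cfsg.Agent.Lib.H29

abbrev κ : Type := Unit ⊕ (Fin 1 ⊕ Fin 1)

def Lm : Matrix (Fin 4) κ (ZMod 3) := Matrix.of fun i k =>
  match k with
  | .inl _ => ![0, 1, 2, 0] i
  | .inr (.inl _) => ![1, 1, 1, 0] i
  | .inr (.inr _) => ![0, 2, 2, 2] i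

def Rm : Matrix κ (Fin 4) (ZMod 3) := Matrix.of fun k i =>
  match k with
  | .inl _ => ![0, 2, 1, 0] i
  | .inr (.inl _) => ![0, 2, 2, 2] i
  | .inr (.inr _) => ![1, 1, 1, 0] i

def D : PermMod.Data 4 κ (ZMod 3) where
  L := Lm
  R := Rm
  d := 0
  a := 1
  RL := by decide
  R1 := by decide
  oneL := by decide
  expand := by decide

abbrev Q3 : (κ → ZMod 3) → ZMod 3 := Cfsg.quadFormOdd 1 (ZMod 3)

theorem hq : ∀ y : κ → ZMod 3, PermMod.q (D.L *ᵥ y) = - Q3 y := by decide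

theorem hq1 : ∀ (x : Fin 4 → ZMod 3) (c : ZMod 3), ∑ i, x i = 0 →
    PermMod.q (x + c • (1 : Fin 4 → ZMod 3)) = PermMod.q x := by decide

/-- the sign-twisted representation -/
def psiMat (σ : Perm (Fin 4)) : Matrix κ κ (ZMod 3) := (((Perm.sign σ : ℤˣ) : ℤ) : ZMod 3) • D.phi σ

theorem psiMat_mul (σ τ : Perm (Fin 4)) : psiMat (σ * τ) = psiMat σ * psiMat τ := by
  unfold psiMat
  rw [map_mul, Units.val_mul, Int.cast_mul, D.phi_mul, smul_mul_smul_comm]

theorem psiMat_one : psiMat 1 = 1 := by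
  unfold psiMat
  rw [map_one, D.phi_one]
  simp

def psiHom : Perm (Fin 4) →* Matrix κ κ (ZMod 3) where
  toFun := psiMat
  map_one' := psiMat_one
  map_mul' := psiMat_mul

noncomputable def psiGL : Perm (Fin 4) →* GL κ (ZMod 3) := psiHom.toHomUnits

theorem psiGL_coe (σ : Perm (Fin 4)) : ((psiGL σ : GL κ (ZMod 3)) : Matrix κ κ (ZMod 3)) = psiMat σ := rfl

theorem sign_sq (σ : Perm (Fin 4)) : ((((Perm.sign σ : ℤˣ) : ℤ) : ZMod 3)) ^ 2 = 1 := by
  rcases Int.units_eq_one_or (Perm.sign σ) with h | h <;> rw [h] <;> simp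

theorem Q3_smul (c : ZMod 3) (w : κ → ZMod 3) : Q3 (c • w) = c ^ 2 * Q3 w := by
  simp only [Q3, Cfsg.quadFormOdd, Pi.smul_apply, smul_eq_mul, Finset.mul_sum]
  rw [mul_add, Finset.mul_sum]
  congr 1
  · ring
  · refine Finset.sum_congr rfl fun i _ => ?_
    ring

theorem psiGL_mem (σ : Perm (Fin 4)) : psiGL σ ∈ Cfsg.isometryGroup (ZMod 3) Q3 := by
  intro u _
  show Q3 (psiMat σ *ᵥ u) = Q3 u
  unfold psiMat
  rw [Matrix.smul_mulVec, Q3_smul, sign_sq, one_mul]
  have h := D.phi_isometry (fun y => - Q3 y) hq hq1 σ u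
  simpa using h

theorem psiMat_det (σ : Perm (Fin 4)) : (psiMat σ).det = 1 := by
  rw [Matrix.det_apply]
  revert σ
  decide

theorem psiMat_inj : ∀ σ : Perm (Fin 4), psiMat σ = 1 → σ = 1 := by decide

noncomputable def psiIso : Perm (Fin 4) →* ↥(Cfsg.isometryGroup (ZMod 3) Q3) :=
  psiGL.codRestrict _ psiGL_mem

theorem psiIso_mem (σ : Perm (Fin 4)) : psiIso σ ∈ Cfsg.specialIsometryGroup (ZMod 3) Q3 := by
  simp only [Cfsg.specialIsometryGroup, MonoidHom.mem_ker, MonoidHom.comp_apply, Subgroup.coe_subtype]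
  ext
  show (psiMat σ).det = 1
  exact psiMat_det σ

noncomputable def psi : Perm (Fin 4) →* ↥(Cfsg.specialIsometryGroup (ZMod 3) Q3) :=
  psiIso.codRestrict _ psiIso_mem

theorem psi_injective : Function.Injective psi := by
  rw [injective_iff_map_eq_one]
  intro σ h
  apply psiMat_inj
  have h2 := congrArg (fun g : ↥(Cfsg.specialIsometryGroup (ZMod 3) Q3) =>
    (((g : ↥(Cfsg.isometryGroup (ZMod 3) Q3)) : GL κ (ZMod 3)) : Matrix κ κ (ZMod 3))) h
  exact h2

/-- `-1` is an isometry of determinant `-1`. -/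
theorem det_surj : Function.Surjective
    (Matrix.GeneralLinearGroup.det.comp (Cfsg.isometryGroup (ZMod 3) Q3).subtype) := by
  have hneg : (-1 : GL κ (ZMod 3)) ∈ Cfsg.isometryGroup (ZMod 3) Q3 := by
    intro u _
    show Q3 (((-1 : GL κ (ZMod 3)) : Matrix κ κ (ZMod 3)) *ᵥ u) = Q3 u
    have : ((-1 : GL κ (ZMod 3)) : Matrix κ κ (ZMod 3)) *ᵥ u = (-1 : ZMod 3) • u := by
      simp [Matrix.neg_mulVec]
    rw [this, Q3_smul]
    simp
  intro z
  have hz : ∀ z : (ZMod 3)ˣ, z = 1 ∨ z = -1 := by decide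
  rcases hz z with rfl | rfl
  · exact ⟨1, map_one _⟩
  · refine ⟨⟨-1, hneg⟩, ?_⟩
    ext
    simp only [MonoidHom.comp_apply, Subgroup.coe_subtype, Matrix.GeneralLinearGroup.val_det_apply]
    simp [Matrix.det_neg]

theorem card_special : Nat.card ↥(Cfsg.specialIsometryGroup (ZMod 3) Q3) = 24 := by
  have h := Cfsg.Agent.S0286.result (F := ZMod 3) (q := 3) (by simp) (by decide) 1
  have h48 : Nat.card ↥(Cfsg.isometryGroup (ZMod 3) Q3) = 48 := by
    rw [show Q3 = Cfsg.quadFormOdd 1 (ZMod 3) from rfl, h]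
    simp
  have h1 := Subgroup.card_mul_index (Cfsg.specialIsometryGroup (ZMod 3) Q3)
  have h2 : (Cfsg.specialIsometryGroup (ZMod 3) Q3).index = 2 := by
    unfold Cfsg.specialIsometryGroup
    rw [Subgroup.index_ker, MonoidHom.range_eq_top.mpr det_surj]
    rw [Subgroup.card_top, Nat.card_eq_fintype_card, ZMod.card_units_eq_totient]
    decide
  rw [h2, h48] at h1
  omega

theorem psi_bijective : Function.Bijective psi := by
  have : Finite ↥(Cfsg.specialIsometryGroup (ZMod 3) Q3) := inferInstance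
  rw [Nat.bijective_iff_injective_and_card]
  refine ⟨psi_injective, ?_⟩
  rw [card_special, Nat.card_eq_fintype_card, Fintype.card_perm]
  rfl

/-- SO_3(3) ≅ S_4: the determinant-one isometries of the form x_0² + x_1y_1 over the field with 3 elements form a group isomorphic to the symmetric group on 4 letters. -/
theorem result {F : Type*} [Field F] [Fintype F] (hF : Fintype.card F = 3) : Nonempty (↥(Cfsg.specialIsometryGroup F (Cfsg.quadFormOdd 1 F)) ≃* Equiv.Perm (Fin 4)) := by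
  let e : F ≃+* ZMod 3 := (ZMod.ringEquivOfPrime F Nat.prime_three hF).symm
  have hQ : ∀ v : κ → F, Q3 (⇑e ∘ v) = e (Cfsg.quadFormOdd 1 F v) := by
    intro v
    simp [Q3, Cfsg.quadFormOdd, map_add, map_mul, map_pow]
  exact ⟨(IsoTransport.specialIsoEquiv e _ Q3 hQ).trans (MulEquiv.ofBijective psi psi_bijective).symm⟩

end Cfsg.Agent.S0823
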