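import Cfsg.Statements.S0826
import Mathlib

set_option autoImplicit false
open Cfsg

namespace Cfsg.Agent.S0826

open Equiv Matrix

/-- the point set: `m` pairs `a_j, b_j` and two extra points. -/
abbrev I (m : ℕ) := (Fin m ⊕ Fin m) ⊕ Fin 2
/-- the index set of the symplectic basis. -/
abbrev K (m : ℕ) := Fin m ⊕ Fin m

variable {m : ℕ}

/-- the dot product. -/
def B (u v : I m → ZMod 2) : ZMod 2 := ∑ x, u x * v x

def ev (k : Fin m) : I m → ZMod 2
  | Sum.inl (Sum.inl j) => if j = k then 1 else 0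
  | Sum.inl (Sum.inr j) => if j = k then 1 else 0
  | Sum.inr _ => 0

def fv (k : Fin m) : I m → ZMod 2
  | Sum.inl (Sum.inl j) => if j < k then 1 else 0
  | Sum.inl (Sum.inr j) => if j ≤ k then 1 else 0
  | Sum.inr i => if i = 0 then 1 else 0

def vv : K m → I m → ZMod 2
  | Sum.inl k => ev k
  | Sum.inr k => fv k

def vs : K m → I m → ZMod 2
  | Sum.inl k => fv k
  | Sum.inr k => ev k

theorem B_expand (u v : I m → ZMod 2) :
    B u v = (∑ j, u (Sum.inl (Sum.inl j)) * v (Sum.inl (Sum.inl j))) +
      (∑ j, u (Sum.inl (Sum.inr j)) * v (Sum.inl (Sum.inr j))) +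
      (u (Sum.inr 0) * v (Sum.inr 0) + u (Sum.inr 1) * v (Sum.inr 1)) := by
  unfold B
  rw [Fintype.sum_sum_type, Fintype.sum_sum_type, Fin.sum_univ_two]

theorem B_comm (u v : I m → ZMod 2) : B u v = B v u := by
  unfold B; exact Finset.sum_congr rfl (fun x _ => mul_comm _ _)

theorem B_ev (k : Fin m) (y : I m → ZMod 2) :
    B (ev k) y = y (Sum.inl (Sum.inl k)) + y (Sum.inl (Sum.inr k)) := by
  rw [B_expand]
  simp [ev]

theorem B_fv (k : Fin m) (y : I m → ZMod 2) :
    B (fv k) y = (∑ j, if j < k then y (Sum.inl (Sum.inl j)) else 0) +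
      (∑ j, if j ≤ k then y (Sum.inl (Sum.inr j)) else 0) + y (Sum.inr 0) := by
  rw [B_expand]
  simp [fv]


theorem two_zero : (2 : ZMod 2) = 0 := by decide

theorem add_self_z2 (a : ZMod 2) : a + a = 0 := by
  rw [← two_mul, two_zero, zero_mul]

theorem O_ee (i j : Fin m) : B (ev i) (ev j) = 0 := by
  rw [B_ev]
  simp only [ev]
  exact add_self_z2 _

theorem O_ef (i k : Fin m) : B (ev i) (fv k) = if i = k then 1 else 0 := by
  rw [B_ev]
  simp only [fv]
  rcases lt_trichotomy i k with h | h | h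
  · rw [if_pos h, if_pos h.le, if_neg h.ne]; exact add_self_z2 _
  · subst h; simp
  · rw [if_neg (not_lt.mpr h.le), if_neg (not_le.mpr h), if_neg h.ne']; simp

theorem O_ff_aux (k l : Fin m) (hkl : k ≤ l) : B (fv k) (fv l) = 0 := by
  rw [B_fv]
  simp only [fv]
  have h1 : (∑ j : Fin m, if j < k then (if j < l then (1 : ZMod 2) else 0) else 0)
      = ((k : ℕ) : ZMod 2) := by
    have : ∀ j : Fin m, (if j < k then (if j < l then (1 : ZMod 2) else 0) else 0)
        = if j < k then 1 else 0 := by
      intro j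
      by_cases h : j < k
      · rw [if_pos h, if_pos h, if_pos (lt_of_lt_of_le h hkl)]
      · rw [if_neg h, if_neg h]
    rw [Finset.sum_congr rfl (fun j _ => this j), Finset.sum_boole, Finset.filter_gt_eq_Iio,
      Fin.card_Iio]
  have h2 : (∑ j : Fin m, if j ≤ k then (if j ≤ l then (1 : ZMod 2) else 0) else 0)
      = ((k + 1 : ℕ) : ZMod 2) := by
    have : ∀ j : Fin m, (if j ≤ k then (if j ≤ l then (1 : ZMod 2) else 0) else 0)
        = if j ≤ k then 1 else 0 := by
      intro j
      by_cases h : j ≤ k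
      · rw [if_pos h, if_pos h, if_pos (le_trans h hkl)]
      · rw [if_neg h, if_neg h]
    rw [Finset.sum_congr rfl (fun j _ => this j), Finset.sum_boole, Finset.filter_ge_eq_Iic,
      Fin.card_Iic]
  rw [h1, h2]
  push_cast
  linear_combination ((k : ℕ) + 1 : ZMod 2) * two_zero

theorem O_ff (k l : Fin m) : B (fv k) (fv l) = 0 := by
  rcases le_total k l with h | h
  · exact O_ff_aux k l h
  · rw [B_comm]; exact O_ff_aux l k h

theorem O_fe (k i : Fin m) : B (fv k) (ev i) = if k = i then 1 else 0 := by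
  rw [B_comm, O_ef]
  simp only [eq_comm]

/-- the duality relation `B (v*_k) (v_l) = δ_kl`. -/
theorem O_rel (k l : K m) : B (vs k) (vv l) = if k = l then 1 else 0 := by
  rcases k with k | k <;> rcases l with l | l
  · simp only [vs, vv, O_fe, Sum.inl.injEq]
  · simp only [vs, vv, O_ff, reduceCtorEq, if_false]
  · simp only [vs, vv, O_ee, reduceCtorEq, if_false]
  · simp only [vs, vv, O_ef, Sum.inr.injEq]

/-- the Gram matrix of the `v_k` is `J`. -/
theorem J_rel (k l : K m) : B (vv k) (vv l) = J (Fin m) (ZMod 2) k l := by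
  rcases k with k | k <;> rcases l with l | l
  · simp [vv, O_ee, J, Matrix.fromBlocks]
  · simp [vv, O_ef, J, Matrix.fromBlocks, Matrix.one_apply]
  · simp [vv, O_fe, J, Matrix.fromBlocks, Matrix.one_apply]
  · simp [vv, O_ff, J, Matrix.fromBlocks]


theorem eq_of_add_eq_zero {a b : ZMod 2} (h : a + b = 0) : a = b := by
  have : a = a + b + b := by rw [add_assoc, add_self_z2, add_zero]
  rw [this, h, zero_add]

theorem tot_expand (u : I m → ZMod 2) :
    ∑ x, u x = (∑ j, u (Sum.inl (Sum.inl j))) + (∑ j, u (Sum.inl (Sum.inr j))) +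
      (u (Sum.inr 0) + u (Sum.inr 1)) := by
  rw [Fintype.sum_sum_type, Fintype.sum_sum_type, Fin.sum_univ_two]

theorem tot_ev (k : Fin m) : ∑ x, ev k x = 0 := by
  rw [tot_expand]
  simp only [ev, Finset.sum_ite_eq', Finset.mem_univ, if_true, add_zero]
  exact add_self_z2 _

theorem tot_fv (k : Fin m) : ∑ x, fv k x = 0 := by
  rw [tot_expand]
  simp only [fv]
  rw [Finset.sum_boole, Finset.sum_boole, Finset.filter_gt_eq_Iio, Finset.filter_ge_eq_Iic,
    Fin.card_Iio, Fin.card_Iic]
  push_cast
  simp only [if_true, Fin.isValue, one_ne_zero, if_false, add_zero]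
  linear_combination ((k : ℕ) + 1 : ZMod 2) * two_zero

theorem tot_vv (k : K m) : ∑ x, vv k x = 0 := by
  rcases k with k | k
  · exact tot_ev k
  · exact tot_fv k

theorem tot_vs (k : K m) : ∑ x, vs k x = 0 := by
  rcases k with k | k
  · exact tot_fv k
  · exact tot_ev k

/-- a vector of even weight orthogonal to all `v*_k` is constant. -/
theorem const_of_orth (y : I m → ZMod 2) (hy : ∑ x, y x = 0) (h : ∀ k, B (vs k) y = 0) :
    ∀ x, y x = y (Sum.inr 0) := by
  have hab : ∀ k : Fin m, y (Sum.inl (Sum.inl k)) = y (Sum.inl (Sum.inr k)) := by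
    intro k
    have := h (Sum.inr k)
    simp only [vs] at this
    rw [B_ev] at this
    exact eq_of_add_eq_zero this
  have hb : ∀ k : Fin m, y (Sum.inl (Sum.inr k)) = y (Sum.inr 0) := by
    intro k
    have := h (Sum.inl k)
    simp only [vs] at this
    rw [B_fv] at this
    have e1 : (∑ j, if j ≤ k then y (Sum.inl (Sum.inr j)) else 0) =
        (∑ j, if j < k then y (Sum.inl (Sum.inl j)) else 0) + y (Sum.inl (Sum.inr k)) := by
      have : ∀ j : Fin m, (if j ≤ k then y (Sum.inl (Sum.inr j)) else 0) =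
          (if j < k then y (Sum.inl (Sum.inl j)) else 0) +
            (if j = k then y (Sum.inl (Sum.inr j)) else 0) := by
        intro j
        rcases lt_trichotomy j k with hj | hj | hj
        · rw [if_pos hj.le, if_pos hj, if_neg hj.ne, add_zero, hab]
        · subst hj; simp
        · rw [if_neg (not_le.mpr hj), if_neg (not_lt.mpr hj.le), if_neg hj.ne', add_zero]
      rw [Finset.sum_congr rfl (fun j _ => this j), Finset.sum_add_distrib,
        Finset.sum_ite_eq' Finset.univ k, if_pos (Finset.mem_univ k)]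
    rw [e1, ← add_assoc, add_self_z2, zero_add] at this
    exact eq_of_add_eq_zero this
  have hinf : y (Sum.inr 1) = y (Sum.inr 0) := by
    rw [tot_expand] at hy
    simp only [hab, hb, Finset.sum_const, Finset.card_univ, Fintype.card_fin] at hy
    rw [add_self_z2, zero_add] at hy
    exact (eq_of_add_eq_zero hy).symm
  intro x
  rcases x with (j | j) | i
  · rw [hab, hb]
  · exact hb j
  · fin_cases i
    · rfl
    · exact hinf


/-- the permutation action on vectors. -/
def act (σ : Perm (I m)) (v : I m → ZMod 2) : I m → ZMod 2 := fun x => v (σ⁻¹ x)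

theorem act_one (v : I m → ZMod 2) : act 1 v = v := rfl

theorem act_mul (σ τ : Perm (I m)) (v : I m → ZMod 2) : act (σ * τ) v = act σ (act τ v) := by
  funext x
  simp [act, _root_.mul_inv_rev, Perm.mul_apply]

theorem tot_act (σ : Perm (I m)) (v : I m → ZMod 2) : ∑ x, act σ v x = ∑ x, v x :=
  Equiv.sum_comp σ⁻¹ v

theorem B_act (σ : Perm (I m)) (u v : I m → ZMod 2) : B (act σ u) (act σ v) = B u v :=
  Equiv.sum_comp σ⁻¹ (fun x => u x * v x)

theorem act_add (σ : Perm (I m)) (u v : I m → ZMod 2) : act σ (u + v) = act σ u + act σ v := rfl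

theorem act_const (σ : Perm (I m)) (c : ZMod 2) : act σ (fun _ => c) = fun _ => c := rfl

theorem act_sum (σ : Perm (I m)) (c : K m → ZMod 2) (w : K m → I m → ZMod 2) :
    act σ (∑ k, c k • w k) = ∑ k, c k • act σ (w k) := by
  funext x
  simp [act, Finset.sum_apply]

theorem B_add_right (u v w : I m → ZMod 2) : B u (v + w) = B u v + B u w := by
  unfold B
  rw [← Finset.sum_add_distrib]
  exact Finset.sum_congr rfl (fun x _ => by simp [mul_add])

theorem B_sub_right (u v w : I m → ZMod 2) : B u (v - w) = B u v - B u w := by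
  unfold B
  rw [← Finset.sum_sub_distrib]
  exact Finset.sum_congr rfl (fun x _ => by simp [mul_sub])

theorem B_sum_right (u : I m → ZMod 2) (c : K m → ZMod 2) (w : K m → I m → ZMod 2) :
    B u (∑ k, c k • w k) = ∑ k, c k * B u (w k) := by
  unfold B
  simp only [Finset.sum_apply, Pi.smul_apply, smul_eq_mul, Finset.mul_sum]
  rw [Finset.sum_comm]
  exact Finset.sum_congr rfl (fun k _ => Finset.sum_congr rfl (fun x _ => by ring))

theorem B_const_right (u : I m → ZMod 2) (c : ZMod 2) : B u (fun _ => c) = c * ∑ x, u x := by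
  unfold B
  rw [Finset.mul_sum]
  exact Finset.sum_congr rfl (fun x _ => mul_comm _ _)

theorem tot_sum (c : K m → ZMod 2) (w : K m → I m → ZMod 2) :
    ∑ x, (∑ k, c k • w k) x = ∑ k, c k * ∑ x, w k x := by
  simp only [Finset.sum_apply, Pi.smul_apply, smul_eq_mul, Finset.mul_sum]
  rw [Finset.sum_comm]

/-- decomposition of an even-weight vector along the `v_k` modulo the all-ones vector. -/
theorem decomp (x : I m → ZMod 2) (hx : ∑ z, x z = 0) :
    ∃ c : ZMod 2, x = (∑ k, B (vs k) x • vv k) + fun _ => c := by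
  obtain ⟨y, hy⟩ : ∃ y, y = x - ∑ k, B (vs k) x • vv k := ⟨_, rfl⟩
  have hytot : ∑ z, y z = 0 := by
    rw [hy]
    simp only [Pi.sub_apply, Finset.sum_sub_distrib]
    rw [hx, tot_sum]
    simp only [tot_vv, mul_zero, Finset.sum_const_zero, sub_self]
  have hyorth : ∀ l, B (vs l) y = 0 := by
    intro l
    rw [hy, B_sub_right, B_sum_right]
    simp only [O_rel, mul_ite, mul_one, mul_zero, Finset.sum_ite_eq, Finset.mem_univ, if_true,
      sub_self]
  have hconst := const_of_orth y hytot hyorth
  refine ⟨y (Sum.inr 0), ?_⟩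
  funext z
  have h1 := hconst z
  have h2 : y z = x z - (∑ k, B (vs k) x • vv k) z := by rw [hy]; rfl
  simp only [Pi.add_apply]
  rw [← h1, h2]
  ring


/-- the matrix of `σ` on `E / ⟨𝟙⟩` in the symplectic basis. -/
def Mat (σ : Perm (I m)) : Matrix (K m) (K m) (ZMod 2) := fun k l => B (vs k) (act σ (vv l))

theorem Mat_one : Mat (1 : Perm (I m)) = 1 := by
  ext k l
  simp only [Mat, act_one, O_rel, Matrix.one_apply]

theorem act_vv_decomp (σ : Perm (I m)) (l : K m) :
    ∃ c : ZMod 2, act σ (vv l) = (∑ k, Mat σ k l • vv k) + fun _ => c :=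
  decomp (act σ (vv l)) (by rw [tot_act, tot_vv])

theorem Mat_mul (σ τ : Perm (I m)) : Mat (σ * τ) = Mat σ * Mat τ := by
  ext k l
  rw [Matrix.mul_apply]
  show B (vs k) (act (σ * τ) (vv l)) = _
  rw [act_mul]
  obtain ⟨c, hc⟩ := act_vv_decomp τ l
  rw [hc, act_add, act_sum, act_const, B_add_right, B_sum_right, B_const_right, tot_vs, mul_zero,
    add_zero]
  exact Finset.sum_congr rfl (fun j _ => mul_comm _ _)

theorem card_I_z2 : ((Fintype.card (I m) : ℕ) : ZMod 2) = 0 := by
  simp only [Fintype.card_sum, Fintype.card_fin]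
  push_cast
  linear_combination ((m : ZMod 2) + 1) * two_zero

theorem B_shift (P Q : I m → ZMod 2) (c d : ZMod 2) (hP : ∑ x, P x = 0) (hQ : ∑ x, Q x = 0) :
    B (P + fun _ => c) (Q + fun _ => d) = B P Q := by
  unfold B
  have : ∀ x : I m, (P + fun _ : I m => c) x * (Q + fun _ : I m => d) x =
      P x * Q x + d * P x + c * Q x + c * d := by
    intro x; simp only [Pi.add_apply]; ring
  rw [Finset.sum_congr rfl (fun x _ => this x)]
  simp only [Finset.sum_add_distrib, ← Finset.mul_sum, hP, hQ, mul_zero, add_zero,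
    Finset.sum_const, Finset.card_univ, nsmul_eq_mul, card_I_z2, zero_mul]

theorem Mat_symp (σ : Perm (I m)) :
    (Mat σ)ᵀ * J (Fin m) (ZMod 2) * Mat σ = J (Fin m) (ZMod 2) := by
  ext k l
  obtain ⟨c, hc⟩ := act_vv_decomp σ k
  obtain ⟨d, hd⟩ := act_vv_decomp σ l
  have h1 : B (act σ (vv k)) (act σ (vv l)) = J (Fin m) (ZMod 2) k l := by
    rw [B_act, J_rel]
  have hP : ∀ j : K m, ∑ x, (∑ a, Mat σ a j • vv a) x = 0 := by
    intro j
    rw [tot_sum]
    simp only [tot_vv, mul_zero, Finset.sum_const_zero]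
  rw [hc, hd, B_shift _ _ _ _ (hP k) (hP l), B_sum_right] at h1
  rw [← h1]
  simp only [Matrix.mul_apply, Matrix.transpose_apply]
  have h2 : ∀ b : K m, B (∑ a, Mat σ a k • vv a) (vv b) = ∑ a, Mat σ a k * J (Fin m) (ZMod 2) a b := by
    intro b
    rw [B_comm, B_sum_right]
    exact Finset.sum_congr rfl (fun a _ => by rw [B_comm, J_rel])
  simp only [h2]
  exact Finset.sum_congr rfl (fun b _ => mul_comm _ _)


theorem act_eq_of_Mat_one (σ : Perm (I m)) (h : Mat σ = 1) (x : I m → ZMod 2)
    (hx : ∑ z, x z = 0) : ∃ c : ZMod 2, act σ x = x + fun _ => c := by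
  obtain ⟨c0, hc0⟩ := decomp x hx
  obtain ⟨a, ha⟩ : ∃ a : K m → ZMod 2, x = (∑ k, a k • vv k) + fun _ => c0 := ⟨_, hc0⟩
  have hl : ∀ l, ∃ c : ZMod 2, act σ (vv l) = vv l + fun _ => c := by
    intro l
    obtain ⟨c, hc⟩ := act_vv_decomp σ l
    refine ⟨c, ?_⟩
    rw [hc, h]
    congr 1
    funext z
    simp only [Finset.sum_apply, Pi.smul_apply, smul_eq_mul, Matrix.one_apply, ite_mul, one_mul,
      zero_mul, Finset.sum_ite_eq', Finset.mem_univ, if_true]
  choose cl hcl using hl
  refine ⟨∑ k, a k * cl k, ?_⟩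
  rw [ha, act_add, act_sum, act_const]
  funext z
  simp only [Pi.add_apply, Finset.sum_apply, Pi.smul_apply, smul_eq_mul, hcl, mul_add,
    Finset.sum_add_distrib]
  ring

theorem fix_of_Mat_one (hm : 2 ≤ m) (σ : Perm (I m)) (h : Mat σ = 1) : σ = 1 := by
  classical
  have hcardI : Fintype.card (I m) = m + m + 2 := by
    simp only [Fintype.card_sum, Fintype.card_fin]
  have key : ∀ p q : I m, p ≠ q → σ p = p ∨ σ p = q := by
    intro p q hpq
    obtain ⟨x, hxdef⟩ : ∃ x : I m → ZMod 2,
        x = fun z => (if z = p then 1 else 0) + (if z = q then 1 else 0) := ⟨_, rfl⟩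
    have hx : ∑ z, x z = 0 := by
      rw [hxdef]
      simp only [Finset.sum_add_distrib, Finset.sum_ite_eq', Finset.mem_univ, if_true]
      exact add_self_z2 1
    obtain ⟨c, hc⟩ := act_eq_of_Mat_one σ h x hx
    have hcard : ({p, q, σ p, σ q} : Finset (I m)).card < (Finset.univ : Finset (I m)).card := by
      calc ({p, q, σ p, σ q} : Finset (I m)).card ≤ 4 := Finset.card_le_four
        _ < (Finset.univ : Finset (I m)).card := by rw [Finset.card_univ, hcardI]; omega
    obtain ⟨z, -, hz⟩ := Finset.exists_mem_notMem_of_card_lt_card hcard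
    simp only [Finset.mem_insert, Finset.mem_singleton, not_or] at hz
    obtain ⟨hz1, hz2, hz3, hz4⟩ := hz
    have hc0 : c = 0 := by
      have hcz := congrFun hc z
      have h1 : σ⁻¹ z ≠ p := fun h => hz3 (by rw [← h]; simp)
      have h2 : σ⁻¹ z ≠ q := fun h => hz4 (by rw [← h]; simp)
      rw [hxdef] at hcz
      simp only [act, Pi.add_apply] at hcz
      rw [if_neg h1, if_neg h2, if_neg hz1, if_neg hz2] at hcz
      simpa using hcz.symm
    have hcp := congrFun hc (σ p)
    rw [hxdef] at hcp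
    simp only [act, Pi.add_apply, hc0, add_zero, Equiv.Perm.coe_inv, Equiv.symm_apply_apply, if_true] at hcp
    rw [if_neg hpq] at hcp
    by_contra hcon
    push Not at hcon
    rw [if_neg hcon.1, if_neg hcon.2] at hcp
    simp at hcp
  ext p
  simp only [Perm.one_apply]
  have hc1 : ({p} : Finset (I m)).card < (Finset.univ : Finset (I m)).card := by
    rw [Finset.card_singleton, Finset.card_univ, hcardI]; omega
  obtain ⟨q, -, hq⟩ := Finset.exists_mem_notMem_of_card_lt_card hc1
  have hc2 : ({p, q} : Finset (I m)).card < (Finset.univ : Finset (I m)).card := by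
    calc ({p, q} : Finset (I m)).card ≤ 2 := Finset.card_le_two
      _ < _ := by rw [Finset.card_univ, hcardI]; omega
  obtain ⟨r, -, hr⟩ := Finset.exists_mem_notMem_of_card_lt_card hc2
  simp only [Finset.mem_singleton] at hq
  simp only [Finset.mem_insert, Finset.mem_singleton, not_or] at hr
  rcases key p q (fun h => hq h.symm) with h1 | h1
  · exact h1
  · rcases key p r (fun h => hr.1 h.symm) with h2 | h2
    · exact h2
    · exact absurd (h2.symm.trans h1) hr.2

/-- S_2n ≤ Sp_(2n−2)(2) for n ≥ 3: there is an injective homomorphism from the symmetric group on 2n letters into the symplectic group of degree 2n − 2 over the field with two elements. -/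
theorem result (n : ℕ) (hn : 3 ≤ n) : ∃ f : Equiv.Perm (Fin (2 * n)) →* Matrix.symplecticGroup (Fin (n - 1)) (ZMod 2), Function.Injective f := by
  obtain ⟨m, rfl⟩ : ∃ m, n = m + 1 := ⟨n - 1, by omega⟩
  show ∃ f : Equiv.Perm (Fin (2 * (m + 1))) →* Matrix.symplecticGroup (Fin m) (ZMod 2),
    Function.Injective f
  have hcard : Fintype.card (Fin (2 * (m + 1))) = Fintype.card (I m) := by
    simp only [Fintype.card_sum, Fintype.card_fin]; ring
  let e : Fin (2 * (m + 1)) ≃ I m := Fintype.equivOfCardEq hcard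
  let g : Perm (I m) →* symplecticGroup (Fin m) (ZMod 2) :=
    { toFun := fun σ => ⟨Mat σ, SymplecticGroup.mem_iff'.mpr (Mat_symp σ)⟩
      map_one' := Subtype.ext Mat_one
      map_mul' := fun σ τ => Subtype.ext (Mat_mul σ τ) }
  have hg : Function.Injective g := by
    rw [injective_iff_map_eq_one]
    intro σ hσ
    exact fix_of_Mat_one (by omega) σ (congrArg Subtype.val hσ)
  refine ⟨g.comp e.permCongrHom.toMonoidHom, ?_⟩
  intro a b hab
  exact e.permCongrHom.injective (hg hab)

end Cfsg.Agent.S0826
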