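import Cfsg.Statements.S0828
import Cfsg.Agent.Lib.H4.Symp

set_option autoImplicit false
open Cfsg

namespace Cfsg.Agent.S0828

open Module

section Core

variable {F V : Type*} [Field F] [Finite F] [AddCommGroup V] [Module F V]
  [FiniteDimensional F V] [Finite V]
variable (ω : LinearMap.BilinForm F V)

/-- totally isotropic subspaces. -/
def TI (W : Submodule F V) : Prop := ∀ u ∈ W, ∀ w ∈ W, ω u w = 0

omit [Finite F] [Finite V] in
theorem card_sub (W : Submodule F V) : Nat.card W = Nat.card F ^ finrank F W :=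
  Module.natCard_eq_pow_finrank

omit [Finite F] in
theorem card_diff (W L : Submodule F V) (hLW : L ≤ W) :
    Nat.card ↥((W : Set V) \ (L : Set V)) = Nat.card F ^ finrank F W - Nat.card F ^ finrank F L := by
  rw [Nat.card_coe_set_eq, Set.ncard_sdiff hLW (Set.toFinite _), ← Nat.card_coe_set_eq,
    ← Nat.card_coe_set_eq]
  exact congr_arg₂ _ (card_sub W) (card_sub L)

omit [Finite F] [Finite V] in
theorem finrank_span_pair {v w : V} (hv : v ≠ 0) (hw : w ∉ Submodule.span F {v}) :
    finrank F (Submodule.span F ({v, w} : Set V)) = 2 := by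
  classical
  have h1 : finrank F (Submodule.span F ({v} : Set V)) = 1 := finrank_span_singleton hv
  have hlt : Submodule.span F ({v} : Set V) < Submodule.span F ({v, w} : Set V) := by
    refine lt_of_le_of_ne (Submodule.span_mono (by simp)) ?_
    intro h
    apply hw
    rw [h]
    exact Submodule.subset_span (by simp)
  have h2 := Submodule.finrank_lt_finrank_of_lt hlt
  have h3 : finrank F (Submodule.span F ({v, w} : Set V)) ≤ 2 := by
    have : finrank F (Submodule.span F ((({v, w} : Finset V)) : Set V)) ≤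
        ({v, w} : Finset V).card := finrank_span_finset_le_card (R := F) ({v, w} : Finset V)
    have hc : ({v, w} : Finset V).card ≤ 2 := Finset.card_le_two
    have e : ((({v, w} : Finset V) : Set V)) = ({v, w} : Set V) := by simp
    rw [e] at this
    omega
  omega

omit [Finite F] [Finite V] in
theorem span_pair_eq {W : Submodule F V} (hW2 : finrank F W = 2) {v w : V} (hv : v ≠ 0)
    (hvW : v ∈ W) (hwW : w ∈ W) (hw : w ∉ Submodule.span F {v}) :
    Submodule.span F ({v, w} : Set V) = W := by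
  apply Submodule.eq_of_le_of_finrank_eq
  · rw [Submodule.span_le]
    intro x hx
    rcases hx with rfl | rfl
    · exact hvW
    · exact hwW
  · rw [finrank_span_pair hv hw, hW2]

omit [Finite F] [FiniteDimensional F V] [Finite V] in
theorem TI_span_pair (hA : ω.IsAlt) {v w : V} (h : ω v w = 0) :
    TI ω (Submodule.span F ({v, w} : Set V)) := by
  intro u hu u' hu'
  obtain ⟨a, b, rfl⟩ := Submodule.mem_span_pair.mp hu
  obtain ⟨a', b', rfl⟩ := Submodule.mem_span_pair.mp hu'
  have h' : ω w v = 0 := by rw [← hA.neg_eq, h, neg_zero]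
  simp only [map_add, map_smul, LinearMap.add_apply, LinearMap.smul_apply, hA v, hA w, h, h',
    smul_zero, add_zero]


omit [Finite F] [Finite V] in
theorem finrank_ker_form (hnd : ∀ v, v ≠ 0 → ∃ u, ω v u ≠ 0) {v : V} (hv : v ≠ 0) :
    finrank F (LinearMap.ker (ω v)) + 1 = finrank F V := by
  obtain ⟨u, hu⟩ := hnd v hv
  have hsurj : Function.Surjective (ω v) := by
    intro a
    refine ⟨(a / ω v u) • u, ?_⟩
    rw [map_smul, smul_eq_mul, div_mul_cancel₀ _ hu]
  have hrange : LinearMap.range (ω v) = ⊤ := LinearMap.range_eq_top.mpr hsurj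
  have := LinearMap.finrank_range_add_finrank_ker (ω v)
  rw [hrange, finrank_top, finrank_self] at this
  omega

theorem count_through (hA : ω.IsAlt) (hnd : ∀ v, v ≠ 0 → ∃ u, ω v u ≠ 0)
    (h4 : finrank F V = 4) (v : V) (hv : v ≠ 0) :
    Nat.card {W : Submodule F V // finrank F W = 2 ∧ v ∈ W ∧ TI ω W} = Nat.card F + 1 := by
  classical
  have hq : 1 < Nat.card F := Finite.one_lt_card
  obtain ⟨q, hqdef⟩ : ∃ q, q = Nat.card F := ⟨_, rfl⟩
  rw [← hqdef] at hq ⊢
  obtain ⟨P, hP⟩ : ∃ P : Submodule F V, P = LinearMap.ker (ω v) := ⟨_, rfl⟩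
  obtain ⟨L, hL⟩ : ∃ L : Submodule F V, L = Submodule.span F {v} := ⟨_, rfl⟩
  have hP3 : finrank F P = 3 := by
    have := finrank_ker_form ω hnd hv
    rw [← hP] at this; omega
  have hL1 : finrank F L = 1 := by rw [hL]; exact finrank_span_singleton hv
  have hvL : v ∈ L := by rw [hL]; exact Submodule.mem_span_singleton_self v
  have hLP : L ≤ P := by
    rw [hL, Submodule.span_singleton_le_iff_mem, hP, LinearMap.mem_ker]
    exact hA v
  have : Fintype {W : Submodule F V // finrank F W = 2 ∧ v ∈ W ∧ TI ω W} := Fintype.ofFinite _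
  -- the fibration
  let f : (Σ W : {W : Submodule F V // finrank F W = 2 ∧ v ∈ W ∧ TI ω W},
      ↥((W.1 : Set V) \ (L : Set V))) → ↥((P : Set V) \ (L : Set V)) :=
    fun x => ⟨x.2.1, by
      refine ⟨?_, x.2.2.2⟩
      rw [SetLike.mem_coe, hP, LinearMap.mem_ker]
      exact x.1.2.2.2 v x.1.2.2.1 x.2.1 x.2.2.1⟩
  have hLW : ∀ W : {W : Submodule F V // finrank F W = 2 ∧ v ∈ W ∧ TI ω W}, L ≤ W.1 := by
    intro W
    rw [hL, Submodule.span_singleton_le_iff_mem]
    exact W.2.2.1
  have hf : Function.Bijective f := by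
    constructor
    · rintro ⟨W, w, hw⟩ ⟨W', w', hw'⟩ h
      have hww : w = w' := congrArg Subtype.val h
      subst hww
      have e1 : Submodule.span F ({v, w} : Set V) = W.1 :=
        span_pair_eq W.2.1 hv W.2.2.1 hw.1 (by rw [← hL]; exact hw.2)
      have e2 : Submodule.span F ({v, w} : Set V) = W'.1 :=
        span_pair_eq W'.2.1 hv W'.2.2.1 hw'.1 (by rw [← hL]; exact hw'.2)
      have hWW : W = W' := Subtype.ext (e1.symm.trans e2)
      subst hWW
      rfl
    · rintro ⟨w, hwP, hwL⟩
      have hwL' : w ∉ Submodule.span F {v} := by rw [← hL]; exact hwL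
      have hvw : ω v w = 0 := by
        rw [SetLike.mem_coe, hP, LinearMap.mem_ker] at hwP
        exact hwP
      refine ⟨⟨⟨Submodule.span F ({v, w} : Set V), finrank_span_pair hv hwL',
        Submodule.subset_span (by simp), TI_span_pair ω hA hvw⟩,
        ⟨w, Submodule.subset_span (by simp), hwL⟩⟩, rfl⟩
  have hcard := Nat.card_congr (Equiv.ofBijective f hf)
  rw [Nat.card_sigma, card_diff P L hLP, hP3, hL1, ← hqdef] at hcard
  have hfib : ∀ W : {W : Submodule F V // finrank F W = 2 ∧ v ∈ W ∧ TI ω W},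
      Nat.card ↥((W.1 : Set V) \ (L : Set V)) = q ^ 2 - q ^ 1 := by
    intro W
    rw [card_diff W.1 L (hLW W), W.2.1, hL1, ← hqdef]
  rw [Finset.sum_congr rfl (fun W _ => hfib W), Finset.sum_const, Finset.card_univ,
    smul_eq_mul, ← Nat.card_eq_fintype_card] at hcard
  have hpos : 0 < q ^ 2 - q ^ 1 := by
    have : q ^ 1 < q ^ 2 := Nat.pow_lt_pow_right hq (by norm_num)
    omega
  apply Nat.eq_of_mul_eq_mul_right hpos
  rw [hcard]
  have h1 : q ^ 1 ≤ q ^ 2 := Nat.pow_le_pow_right (by omega) (by norm_num)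
  have h2 : q ^ 1 ≤ q ^ 3 := Nat.pow_le_pow_right (by omega) (by norm_num)
  zify [h1, h2]
  ring


theorem count_all (hA : ω.IsAlt) (hnd : ∀ v, v ≠ 0 → ∃ u, ω v u ≠ 0)
    (h4 : finrank F V = 4) :
    Nat.card {W : Submodule F V // finrank F W = 2 ∧ TI ω W} =
      (Nat.card F + 1) * (Nat.card F ^ 2 + 1) := by
  classical
  have hq : 1 < Nat.card F := Finite.one_lt_card
  have hcardV : Nat.card V = Nat.card F ^ 4 := by
    rw [Module.natCard_eq_pow_finrank (K := F) (V := V), h4]
  obtain ⟨q, hqdef⟩ : ∃ q, q = Nat.card F := ⟨_, rfl⟩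
  rw [← hqdef] at hq hcardV ⊢
  have : Fintype (Submodule F V) := Fintype.ofFinite _
  have : Fintype V := Fintype.ofFinite _
  let p : Submodule F V → V → Prop := fun W v => (finrank F W = 2 ∧ TI ω W) ∧ v ∈ W ∧ v ≠ 0
  -- count by `W`
  have hW : ∀ W : Submodule F V, Nat.card {v : V // p W v} =
      if (finrank F W = 2 ∧ TI ω W) then q ^ 2 - 1 else 0 := by
    intro W
    by_cases hg : finrank F W = 2 ∧ TI ω W
    · rw [if_pos hg]
      have e : {v : V // p W v} ≃ ↥((W : Set V) \ ((⊥ : Submodule F V) : Set V)) :=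
        Equiv.subtypeEquivRight (fun v => by
          simp only [p, Set.mem_sdiff, SetLike.mem_coe, Submodule.mem_bot]
          exact ⟨fun h => h.2, fun h => ⟨hg, h⟩⟩)
      rw [Nat.card_congr e, card_diff W ⊥ bot_le, hg.1, finrank_bot, pow_zero, ← hqdef]
    · rw [if_neg hg]
      have : IsEmpty {v : V // p W v} := ⟨fun x => hg x.2.1⟩
      exact Nat.card_of_isEmpty
  -- count by `v`
  have hV : ∀ v : V, Nat.card {W : Submodule F V // p W v} = if v ≠ 0 then q + 1 else 0 := by
    intro v
    by_cases hv : v ≠ 0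
    · rw [if_pos hv]
      have e : {W : Submodule F V // p W v} ≃
          {W : Submodule F V // finrank F W = 2 ∧ v ∈ W ∧ TI ω W} :=
        Equiv.subtypeEquivRight (fun W => by
          simp only [p]
          exact ⟨fun h => ⟨h.1.1, h.2.1, h.1.2⟩, fun h => ⟨⟨h.1, h.2.2⟩, h.2.1, hv⟩⟩)
      rw [Nat.card_congr e, count_through ω hA hnd h4 v hv, ← hqdef]
    · rw [if_neg hv]
      have : IsEmpty {W : Submodule F V // p W v} := ⟨fun x => hv x.2.2.2⟩
      exact Nat.card_of_isEmpty
  have c1 : Nat.card {x : Submodule F V × V // p x.1 x.2} =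
      Nat.card {W : Submodule F V // finrank F W = 2 ∧ TI ω W} * (q ^ 2 - 1) := by
    rw [Nat.card_congr (Equiv.subtypeProdEquivSigmaSubtype p), Nat.card_sigma,
      Finset.sum_congr rfl (fun W _ => hW W), Finset.sum_ite, Finset.sum_const,
      Finset.sum_const_zero, add_zero, smul_eq_mul, Nat.card_eq_fintype_card,
      Fintype.card_subtype]
  have c2 : Nat.card {x : Submodule F V × V // p x.1 x.2} = (q ^ 4 - 1) * (q + 1) := by
    have e : {x : Submodule F V × V // p x.1 x.2} ≃ {y : V × Submodule F V // p y.2 y.1} :=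
      Equiv.subtypeEquiv (Equiv.prodComm _ _) (fun _ => Iff.rfl)
    rw [Nat.card_congr e,
      Nat.card_congr (Equiv.subtypeProdEquivSigmaSubtype (fun (v : V) (W : Submodule F V) => p W v)),
      Nat.card_sigma, Finset.sum_congr rfl (fun v _ => hV v), Finset.sum_ite, Finset.sum_const,
      Finset.sum_const_zero, add_zero, smul_eq_mul, Finset.filter_ne' Finset.univ (0 : V),
      Finset.card_erase_of_mem (Finset.mem_univ _), Finset.card_univ, ← Nat.card_eq_fintype_card,
      hcardV]
  have hpos : 0 < q ^ 2 - 1 := by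
    have : 1 < q ^ 2 := Nat.one_lt_pow (by norm_num) hq
    omega
  apply Nat.eq_of_mul_eq_mul_right hpos
  rw [← c1, c2]
  have h1 : 1 ≤ q ^ 2 := Nat.one_le_pow _ _ (by omega)
  have h2 : 1 ≤ q ^ 4 := Nat.one_le_pow _ _ (by omega)
  zify [h1, h2]
  ring

end Core


open Cfsg.Agent.Lib.H4 in
/-- the symplectic form as a bilinear form. -/
noncomputable def ωF (F : Type*) [Field F] : LinearMap.BilinForm F (Fin 2 ⊕ Fin 2 → F) :=
  LinearMap.mk₂ F (Cfsg.sympForm 2 F) (sympForm_add_left 2)
    (fun c u v => by rw [sympForm_smul_left, smul_eq_mul])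
    (sympForm_add_right 2)
    (fun c u v => by rw [sympForm_smul_right, smul_eq_mul])

theorem ωF_apply {F : Type*} [Field F] (u v : Fin 2 ⊕ Fin 2 → F) :
    ωF F u v = Cfsg.sympForm 2 F u v := rfl

theorem ωF_alt (F : Type*) [Field F] : (ωF F).IsAlt := fun v =>
  Cfsg.Agent.Lib.H4.sympForm_self 2 v

theorem ωF_nondeg {F : Type*} [Field F] (v : Fin 2 ⊕ Fin 2 → F) (hv : v ≠ 0) :
    ∃ u, ωF F v u ≠ 0 := by
  obtain ⟨i, hi⟩ : ∃ i, v i ≠ 0 := by
    by_contra h
    push Not at h
    exact hv (funext h)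
  refine ⟨-(Matrix.J (Fin 2) F).mulVec (Pi.single i 1), ?_⟩
  rw [ωF_apply, Cfsg.sympForm, Matrix.mulVec_neg, Cfsg.Agent.Lib.H4.J_mulVec_J_mulVec, neg_neg,
    dotProduct_single, mul_one]
  exact hi

/-- The symplectic generalised quadrangle over a field with q elements: the number of 2-dimensional subspaces of F^4 on which the symplectic form vanishes is (q + 1)(q² + 1), and every non-zero vector lies in exactly q + 1 of them. -/
theorem result {F : Type*} [Field F] [Fintype F] {q : ℕ} (hF : Fintype.card F = q) : Nat.card {W : Submodule F (Fin 2 ⊕ Fin 2 → F) // Module.finrank F W = 2 ∧ ∀ u ∈ W, ∀ v ∈ W, Cfsg.sympForm 2 F u v = 0} = (q + 1) * (q ^ 2 + 1) ∧ ∀ v : Fin 2 ⊕ Fin 2 → F, v ≠ 0 → Nat.card {W : Submodule F (Fin 2 ⊕ Fin 2 → F) // Module.finrank F W = 2 ∧ v ∈ W ∧ ∀ u ∈ W, ∀ w ∈ W, Cfsg.sympForm 2 F u w = 0} = q + 1 := by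
  have hq : Nat.card F = q := by rw [Nat.card_eq_fintype_card, hF]
  have h4 : Module.finrank F (Fin 2 ⊕ Fin 2 → F) = 4 := by
    rw [Module.finrank_fintype_fun_eq_card]; simp
  constructor
  · have := count_all (ωF F) (ωF_alt F) ωF_nondeg h4
    rw [hq] at this
    exact this
  · intro v hv
    have := count_through (ωF F) (ωF_alt F) ωF_nondeg h4 v hv
    rw [hq] at this
    exact this

end Cfsg.Agent.S0828
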