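import Cfsg.Statements.S0829
import Cfsg.Agent.Lib.H11.UnitaryTI
-- import your own Cfsg.Agent.* helpers here

set_option autoImplicit false
open Cfsg

namespace Cfsg.Agent.S0829

open Cfsg.Agent.Lib.H11.UFrames

/-- The unitary quadrangle of PSU_4(q): with |F| = q², the number of 2-dimensional subspaces of F^4 on which the Hermitian form Σ x_i y_i^q vanishes is (q + 1)(q³ + 1). -/
theorem result {F : Type*} [Field F] [Fintype F] {q : ℕ} (hF : Fintype.card F = q ^ 2) : Nat.card {W : Submodule F (Fin 4 → F) // Module.finrank F W = 2 ∧ ∀ u ∈ W, ∀ v ∈ W, Cfsg.hermForm 4 F q u v = 0} = (q + 1) * (q ^ 3 + 1) := by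
  have h := card_ti_mul hF 4 2
  have hq : 2 ≤ q := Cfsg.Agent.Lib.H2.Herm.two_le_q hF
  simp only [Fin.prod_univ_two, Fin.val_zero, Fin.val_one, pow_zero, pow_one, mul_zero, Nat.sub_zero,
    one_mul, mul_one, isoNZ] at h
  norm_num at h
  have e1 : (q ^ 2) ^ 2 - 1 = q ^ 4 - 1 := by
    congr 1; ring
  have e2 : (q ^ 2) ^ 2 - q ^ 2 = q ^ 2 * (q ^ 2 - 1) := by
    rw [Nat.mul_sub, mul_one]; congr 1; ring
  rw [e1, e2] at h
  have h4 : 0 < q ^ 4 - 1 := by
    have : 1 < q ^ 4 := Nat.one_lt_pow (by norm_num) (by omega)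
    omega
  have h2 : 0 < q ^ 2 - 1 := by
    have : 1 < q ^ 2 := Nat.one_lt_pow (by norm_num) (by omega)
    omega
  have hpos : 0 < (q ^ 4 - 1) * (q ^ 2 * (q ^ 2 - 1)) :=
    Nat.mul_pos h4 (Nat.mul_pos (by positivity) h2)
  apply Nat.eq_of_mul_eq_mul_right hpos
  rw [h]
  ring

end Cfsg.Agent.S0829
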