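import Cfsg.Statements.S0832
import Cfsg.Agent.S0287
-- import your own Cfsg.Agent.* helpers here

set_option autoImplicit false
open Cfsg

namespace Cfsg.Agent.S0832

open Matrix Cfsg.Agent.Lib.H13 Module

variable {F : Type*} [Field F]

abbrev K (m : ℕ) : Type := Fin m ⊕ Fin m

/-- coordinate subspace: vectors vanishing on the image of `ρ` -/
def Z {ι : Type} {n : ℕ} (ρ : Fin n → ι) : Submodule F (ι → F) :=
  LinearMap.ker (LinearMap.funLeft F F ρ)

theorem mem_Z {ι : Type} {n : ℕ} (ρ : Fin n → ι) (x : ι → F) :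
    x ∈ Z (F := F) ρ ↔ ∀ j, x (ρ j) = 0 := by
  rw [Z, LinearMap.mem_ker, funext_iff]
  rfl

theorem finrank_Z {ι : Type} [Fintype ι] {n : ℕ} (ρ : Fin n → ι) (hρ : Function.Injective ρ) :
    finrank F (Z (F := F) ρ) + n = Fintype.card ι := by
  have h := LinearMap.finrank_range_add_finrank_ker (LinearMap.funLeft F F ρ)
  rw [LinearMap.range_eq_top.2 (LinearMap.funLeft_surjective_of_injective F F ρ hρ),
    finrank_top, Module.finrank_fintype_fun_eq_card, Module.finrank_fintype_fun_eq_card,
    Fintype.card_fin] at h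
  rw [← h, add_comm]
  rfl

variable (k : ℕ)

/-- the index map for `B'` -/
def ρB : Fin (k + 1) → K (k + 1) :=
  Fin.lastCases (Sum.inl (Fin.last k)) (fun i => Sum.inr i.castSucc)

theorem ρB_injective : Function.Injective (ρB k) := by
  intro i j
  refine Fin.lastCases ?_ (fun i => ?_) i <;> refine Fin.lastCases ?_ (fun j => ?_) j <;>
    simp [ρB]

def subA : Submodule F (K (k + 1) → F) := Z (Sum.inr : Fin (k + 1) → K (k + 1))
def subB : Submodule F (K (k + 1) → F) := Z (ρB k)

theorem mem_subA (x : K (k + 1) → F) : x ∈ subA (F := F) k ↔ ∀ i, x (Sum.inr i) = 0 := mem_Z _ x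

theorem mem_subB (x : K (k + 1) → F) :
    x ∈ subB (F := F) k ↔ x (Sum.inl (Fin.last k)) = 0 ∧ ∀ i : Fin k, x (Sum.inr i.castSucc) = 0 := by
  rw [subB, mem_Z, Fin.forall_iff_castSucc]
  simp [ρB]

theorem finrank_subA : finrank F (subA (F := F) k) = k + 1 := by
  have := finrank_Z (F := F) (Sum.inr : Fin (k + 1) → K (k + 1)) Sum.inr_injective
  simp at this
  show finrank F (Z (F := F) (Sum.inr : Fin (k + 1) → K (k + 1))) = k + 1
  omega

theorem finrank_subB : finrank F (subB (F := F) k) = k + 1 := by
  have := finrank_Z (F := F) (ρB k) (ρB_injective k)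
  simp at this
  show finrank F (Z (F := F) (ρB k)) = k + 1
  omega

/-- standard vectors -/
def est (i : Fin k) : K (k + 1) → F := Pi.single (Sum.inl i.castSucc) 1

theorem est_li : LinearIndependent F (est (F := F) k) := by
  have h := (Pi.basisFun F (K (k + 1))).linearIndependent
  have hinj : Function.Injective (fun i : Fin k => (Sum.inl i.castSucc : K (k + 1))) := by
    intro i j h
    simpa using h
  have := h.comp _ hinj
  convert this using 1
  funext i
  simp [est]

theorem Q_est (i : Fin k) : Cfsg.quadFormPlus (k + 1) F (est k i) = 0 := by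
  unfold Cfsg.quadFormPlus est
  apply Finset.sum_eq_zero
  intro j _
  simp

theorem polar_est (x : K (k + 1) → F) (i : Fin k) :
    QuadraticMap.polar (Cfsg.quadFormPlus (k + 1) F) x (est k i) = x (Sum.inr i.castSucc) := by
  rw [polar_quadFormPlus_formula]
  simp [est, Pi.single_apply]

theorem polar_est_est (i j : Fin k) :
    QuadraticMap.polar (Cfsg.quadFormPlus (k + 1) F) (est k i) (est k j) = 0 := by
  rw [polar_est]
  simp [est]

/-- a totally singular subspace -/
def TS (W : Submodule F (K (k + 1) → F)) : Prop := ∀ w ∈ W, Cfsg.quadFormPlus (k + 1) F w = 0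

theorem TS_subA : TS k (subA (F := F) k) := by
  intro w hw
  rw [mem_subA] at hw
  unfold Cfsg.quadFormPlus
  apply Finset.sum_eq_zero
  intro i _
  rw [hw i, mul_zero]

theorem TS_subB : TS k (subB (F := F) k) := by
  intro w hw
  rw [mem_subB] at hw
  unfold Cfsg.quadFormPlus
  rw [Fin.sum_univ_castSucc, hw.1, zero_mul, add_zero]
  apply Finset.sum_eq_zero
  intro i _
  rw [hw.2 i, mul_zero]

theorem est_mem_subA (i : Fin k) : est (F := F) k i ∈ subA k := by
  rw [mem_subA]
  intro j
  simp [est]

theorem est_mem_subB (i : Fin k) : est (F := F) k i ∈ subB k := by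
  rw [mem_subB]
  constructor
  · simp [est, Fin.castSucc_ne_last]
  · intro j
    simp [est]

theorem subA_ne_subB : subA (F := F) k ≠ subB k := by
  intro h
  have h1 : (Pi.single (Sum.inl (Fin.last k)) 1 : K (k + 1) → F) ∈ subA k := by
    rw [mem_subA]
    intro j
    simp
  rw [h, mem_subB] at h1
  simp at h1

/-- the standard classification -/
theorem std_cases (W : Submodule F (K (k + 1) → F)) (hW : finrank F W = k + 1) (hts : TS k W)
    (hU : ∀ i, est k i ∈ W) : W = subA k ∨ W = subB k := by
  have h1 : ∀ w ∈ W, ∀ i : Fin k, w (Sum.inr i.castSucc) = 0 := by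
    intro w hw i
    rw [← polar_est k w i]
    unfold QuadraticMap.polar
    rw [hts _ (W.add_mem hw (hU i)), hts w hw, Q_est]
    ring
  have h2 : ∀ w ∈ W, w (Sum.inl (Fin.last k)) = 0 ∨ w (Sum.inr (Fin.last k)) = 0 := by
    intro w hw
    have := hts w hw
    unfold Cfsg.quadFormPlus at this
    rw [Fin.sum_univ_castSucc, Finset.sum_eq_zero (fun i _ => by rw [h1 w hw i, mul_zero]),
      zero_add] at this
    exact mul_eq_zero.1 this
  have h3 : W ≤ subA k ∨ W ≤ subB k := by
    by_contra hcon
    push Not at hcon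
    obtain ⟨hA, hB⟩ := hcon
    obtain ⟨w1, hw1, hw1A⟩ := SetLike.not_le_iff_exists.1 hA
    obtain ⟨w2, hw2, hw2B⟩ := SetLike.not_le_iff_exists.1 hB
    have e1 : w1 (Sum.inr (Fin.last k)) ≠ 0 := by
      intro h
      apply hw1A
      rw [mem_subA, Fin.forall_iff_castSucc]
      exact ⟨h, h1 w1 hw1⟩
    have e1' : w1 (Sum.inl (Fin.last k)) = 0 := (h2 w1 hw1).resolve_right e1
    have e2 : w2 (Sum.inl (Fin.last k)) ≠ 0 := by
      intro h
      apply hw2B
      rw [mem_subB]
      exact ⟨h, h1 w2 hw2⟩
    have e2' : w2 (Sum.inr (Fin.last k)) = 0 := (h2 w2 hw2).resolve_left e2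
    rcases h2 (w1 + w2) (W.add_mem hw1 hw2) with h | h
    · rw [Pi.add_apply, e1', zero_add] at h
      exact e2 h
    · rw [Pi.add_apply, e2', add_zero] at h
      exact e1 h
  rcases h3 with h | h
  · left
    exact Submodule.eq_of_le_of_finrank_eq h (by rw [hW, finrank_subA])
  · right
    exact Submodule.eq_of_le_of_finrank_eq h (by rw [hW, finrank_subB])

/-- count in standard position -/
theorem card_std :
    Nat.card {W : Submodule F (K (k + 1) → F) // finrank F W = k + 1 ∧ TS k W ∧
      ∀ i, est k i ∈ W} = 2 := by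
  rw [Nat.card_eq_two_iff]
  refine ⟨⟨subA k, finrank_subA k, TS_subA k, est_mem_subA k⟩,
    ⟨subB k, finrank_subB k, TS_subB k, est_mem_subB k⟩, ?_, ?_⟩
  · intro h
    exact subA_ne_subB k (congrArg Subtype.val h)
  · ext W
    simp only [Set.mem_insert_iff, Set.mem_singleton_iff, Set.mem_univ, iff_true]
    rcases std_cases k W.1 W.2.1 W.2.2.1 W.2.2.2 with h | h
    · left; exact Subtype.ext h
    · right; exact Subtype.ext h

/-- For the form Σ x_i y_i on F^(2m) over a finite field, m ≥ 1: an (m−1)-dimensional subspace on which the form vanishes is contained in exactly two m-dimensional subspaces on which it vanishes. -/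
theorem result {F : Type*} [Field F] [Finite F] (m : ℕ) (hm : 1 ≤ m) (U : Submodule F (Fin m ⊕ Fin m → F)) (hU : Module.finrank F U + 1 = m ∧ ∀ u ∈ U, Cfsg.quadFormPlus m F u = 0) : Nat.card {W : Submodule F (Fin m ⊕ Fin m → F) // Module.finrank F W = m ∧ (∀ w ∈ W, Cfsg.quadFormPlus m F w = 0) ∧ U ≤ W} = 2 := by
  obtain ⟨k, rfl⟩ : ∃ k, m = k + 1 := ⟨m - 1, by omega⟩
  obtain ⟨hUk, hUts⟩ := hU
  have hUk' : finrank F U = k := by omega
  -- a basis of U
  let b := Module.finBasisOfFinrankEq F U hUk'
  let u : Fin k → K (k + 1) → F := fun i => (b i : K (k + 1) → F)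
  have hu_li : LinearIndependent F u :=
    b.linearIndependent.map' U.subtype (Submodule.ker_subtype U)
  have hu_span : Submodule.span F (Set.range u) = U := by
    have : Set.range u = U.subtype '' Set.range b := by
      rw [← Set.range_comp]; rfl
    rw [this, ← Submodule.map_span, b.span_eq, Submodule.map_top, Submodule.range_subtype]
  have hu_mem : ∀ i, u i ∈ U := fun i => (b i).2
  have hQ := Cfsg.Agent.S0287.coe_plusQF (F := F) (k + 1)
  obtain ⟨g, hg, hgu⟩ := Cfsg.Agent.S0750.witt_family (plusQF F (k + 1))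
    (Cfsg.Agent.S0287.nondeg (k + 1)) k (est k) u (est_li k) hu_li
    (by
      intro i
      rw [hQ, hUts _ (hu_mem i), Q_est])
    (by
      intro i j
      rw [hQ, polar_est_est]
      unfold QuadraticMap.polar
      rw [hUts _ (U.add_mem (hu_mem i) (hu_mem j)), hUts _ (hu_mem i), hUts _ (hu_mem j)]
      ring)
  have hg' : ∀ v, Cfsg.quadFormPlus (k + 1) F (g v) = Cfsg.quadFormPlus (k + 1) F v := by
    intro v
    have := hg v
    rw [hQ] at this
    exact this
  have hgs' : ∀ v, Cfsg.quadFormPlus (k + 1) F (g.symm v) = Cfsg.quadFormPlus (k + 1) F v := by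
    intro v
    have := hg' (g.symm v)
    rw [LinearEquiv.apply_symm_apply] at this
    exact this.symm
  rw [← card_std (F := F) k]
  apply Nat.card_congr
  exact
    { toFun := fun W => ⟨W.1.map g.symm.toLinearMap, by
        refine ⟨?_, ?_, ?_⟩
        · rw [LinearEquiv.finrank_map_eq]
          exact W.2.1
        · rintro _ ⟨w, hw, rfl⟩
          show Cfsg.quadFormPlus (k + 1) F (g.symm w) = 0
          rw [hgs']
          exact W.2.2.1 w hw
        · intro i
          refine ⟨u i, W.2.2.2 (hu_mem i), ?_⟩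
          show g.symm (u i) = est k i
          rw [← hgu i, LinearEquiv.symm_apply_apply]⟩
      invFun := fun W => ⟨W.1.map g.toLinearMap, by
        refine ⟨?_, ?_, ?_⟩
        · rw [LinearEquiv.finrank_map_eq]
          exact W.2.1
        · rintro _ ⟨w, hw, rfl⟩
          show Cfsg.quadFormPlus (k + 1) F (g w) = 0
          rw [hg']
          exact W.2.2.1 w hw
        · rw [← hu_span, Submodule.span_le]
          rintro _ ⟨i, rfl⟩
          exact ⟨est k i, W.2.2.2 i, hgu i⟩⟩
      left_inv := fun W => by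
        apply Subtype.ext
        show (W.1.map g.symm.toLinearMap).map g.toLinearMap = W.1
        rw [← Submodule.map_comp]
        simp
      right_inv := fun W => by
        apply Subtype.ext
        show (W.1.map g.toLinearMap).map g.symm.toLinearMap = W.1
        rw [← Submodule.map_comp]
        simp }

end Cfsg.Agent.S0832
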