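import Cfsg.Statements.S0831
import Cfsg.Agent.S0832
import Cfsg.Agent.Lib.H11.UnitaryFrames
-- import your own Cfsg.Agent.* helpers here

set_option autoImplicit false
open Cfsg

namespace Cfsg.Agent.S0831

open Module Cfsg.Agent.Lib.H13 Cfsg.Agent.Lib.H11.UFrames

variable {F : Type*} [Field F] (m : ℕ)

abbrev K (m : ℕ) : Type := Fin m ⊕ Fin m

/-- the polar form -/
noncomputable def Bf : (K m → F) →ₗ[F] (K m → F) →ₗ[F] F :=
  QuadraticMap.polarBilin (plusQF F m)

theorem Bf_apply (x y : K m → F) :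
    Bf m x y = QuadraticMap.polar (Cfsg.quadFormPlus m F) x y := by
  rw [Bf, QuadraticMap.polarBilin_apply_apply, Cfsg.Agent.S0287.coe_plusQF]

theorem Bf_nondeg : (Bf (F := F) m).Nondegenerate := Cfsg.Agent.S0287.nondeg m

theorem Bf_comm (x y : K m → F) : Bf m x y = Bf m y x := by
  rw [Bf_apply, Bf_apply, QuadraticMap.polar_comm]

theorem Q_add (x y : K m → F) :
    Cfsg.quadFormPlus m F (x + y) =
      Cfsg.quadFormPlus m F x + Cfsg.quadFormPlus m F y + Bf m x y := by
  rw [Bf_apply, QuadraticMap.polar]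
  ring

theorem Q_smul (a : F) (x : K m → F) :
    Cfsg.quadFormPlus m F (a • x) = a * a * Cfsg.quadFormPlus m F x := by
  rw [← Cfsg.Agent.S0287.coe_plusQF, QuadraticMap.map_smul]
  rfl

theorem finrank_V : finrank F (K m → F) = 2 * m := by
  rw [Module.finrank_fintype_fun_eq_card]
  simp
  ring

/-- maximal totally singular -/
def Max (W : Submodule F (K m → F)) : Prop :=
  finrank F W = m ∧ ∀ w ∈ W, Cfsg.quadFormPlus m F w = 0

variable {m}

theorem ts_B {W : Submodule F (K m → F)} (hW : ∀ w ∈ W, Cfsg.quadFormPlus m F w = 0)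
    {x y : K m → F} (hx : x ∈ W) (hy : y ∈ W) : Bf m x y = 0 := by
  have := Q_add m x y
  rw [hW _ (W.add_mem hx hy), hW x hx, hW y hy] at this
  simpa using this.symm

theorem max_orth {W : Submodule F (K m → F)} (hW : Max m W) : orth (Bf m) W = W := by
  symm
  apply Submodule.eq_of_le_of_finrank_eq
  · intro x hx w hw
    exact ts_B hW.2 hw hx
  · rw [finrank_orth Function.surjective_id (Bf m) (Bf_nondeg m) W, finrank_V, hW.1]
    omega

theorem mem_of_orth {W : Submodule F (K m → F)} (hW : Max m W) {v : K m → F}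
    (hv : ∀ w ∈ W, Bf m w v = 0) : v ∈ W := by
  rw [← max_orth hW]
  exact hv

theorem eq_of_le {U W : Submodule F (K m → F)} (hU : Max m U) (hW : Max m W) (h : U ≤ W) :
    U = W :=
  Submodule.eq_of_le_of_finrank_eq h (by rw [hU.1, hW.1])

theorem orth_sup (A C : Submodule F (K m → F)) :
    orth (Bf m) (A ⊔ C) = orth (Bf m) A ⊓ orth (Bf m) C := by
  ext v
  rw [Submodule.mem_inf, mem_orth, mem_orth, mem_orth]
  constructor
  · intro h
    exact ⟨fun w hw => h w (Submodule.mem_sup_left hw), fun w hw => h w (Submodule.mem_sup_right hw)⟩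
  · rintro ⟨h1, h2⟩ w hw
    obtain ⟨a, ha, c, hc, rfl⟩ := Submodule.mem_sup.1 hw
    rw [map_add, LinearMap.add_apply, h1 a ha, h2 c hc, add_zero]

/-- the key lemma for adjacent maximal subspaces -/
theorem adj_key {U W : Submodule F (K m → F)} (hU : Max m U) (hW : Max m W)
    (hadj : finrank F ↥(U ⊓ W) + 1 = m) {u w : K m → F} (hu : u ∈ U) (hw : w ∈ W)
    (huw : Bf m u w = 0) : u ∈ W ∨ w ∈ U := by
  by_cases huW : u ∈ W
  · exact Or.inl huW
  right
  apply mem_of_orth hU
  -- U = (U ⊓ W) ⊔ span {u}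
  have hle : (U ⊓ W) ⊔ Submodule.span F {u} ≤ U :=
    sup_le inf_le_left ((Submodule.span_singleton_le_iff_mem u U).2 hu)
  have hlt : U ⊓ W < (U ⊓ W) ⊔ Submodule.span F {u} := by
    apply lt_of_le_of_ne le_sup_left
    intro h
    have : u ∈ U ⊓ W := by
      rw [h]
      exact Submodule.mem_sup_right (Submodule.mem_span_singleton_self u)
    exact huW this.2
  have hfr := Submodule.finrank_lt_finrank_of_lt hlt
  have heq : (U ⊓ W) ⊔ Submodule.span F {u} = U := by
    apply Submodule.eq_of_le_of_finrank_le hle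
    rw [hU.1]
    omega
  intro x hx
  rw [← heq] at hx
  obtain ⟨d, hd, y, hy, rfl⟩ := Submodule.mem_sup.1 hx
  obtain ⟨a, rfl⟩ := Submodule.mem_span_singleton.1 hy
  rw [map_add, LinearMap.add_apply, map_smul, LinearMap.smul_apply, huw, smul_zero, add_zero]
  exact ts_B hW.2 hd.2 hw

/-- the flip lemma -/
theorem flip {U W X : Submodule F (K m → F)} (hU : Max m U) (hW : Max m W) (hX : Max m X)
    (hadj : finrank F ↥(U ⊓ W) + 1 = m) :
    finrank F ↥(X ⊓ U) = finrank F ↥(X ⊓ W) + 1 ∨ finrank F ↥(X ⊓ W) = finrank F ↥(X ⊓ U) + 1 := by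
  obtain ⟨D, hD⟩ : ∃ D, D = U ⊓ W := ⟨_, rfl⟩
  have hadj0 := hadj
  rw [← hD] at hadj
  have hDU : D ≤ U := hD ▸ inf_le_left
  have hDW : D ≤ W := hD ▸ inf_le_right
  -- c ≤ a ≤ c + 1
  have hXD_U : X ⊓ D ≤ X ⊓ U := inf_le_inf_left X hDU
  have hXD_W : X ⊓ D ≤ X ⊓ W := inf_le_inf_left X hDW
  have hc_a := Submodule.finrank_mono hXD_U
  have hc_b := Submodule.finrank_mono hXD_W
  have ha : finrank F ↥(X ⊓ U) ≤ finrank F ↥(X ⊓ D) + 1 := by
    have h1 := Submodule.finrank_sup_add_finrank_inf_eq (X ⊓ U) D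
    have h2 : (X ⊓ U) ⊓ D = X ⊓ D := by
      rw [inf_assoc, inf_eq_right.2 hDU]
    have h3 : finrank F ↥((X ⊓ U) ⊔ D) ≤ m :=
      le_trans (Submodule.finrank_mono (sup_le inf_le_right hDU)) (le_of_eq hU.1)
    rw [h2] at h1
    omega
  have hb : finrank F ↥(X ⊓ W) ≤ finrank F ↥(X ⊓ D) + 1 := by
    have h1 := Submodule.finrank_sup_add_finrank_inf_eq (X ⊓ W) D
    have h2 : (X ⊓ W) ⊓ D = X ⊓ D := by
      rw [inf_assoc, inf_eq_right.2 hDW]
    have h3 : finrank F ↥((X ⊓ W) ⊔ D) ≤ m :=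
      le_trans (Submodule.finrank_mono (sup_le inf_le_right hDW)) (le_of_eq hW.1)
    rw [h2] at h1
    omega
  -- not both c + 1
  have hnot1 : ¬ (finrank F ↥(X ⊓ U) = finrank F ↥(X ⊓ D) + 1 ∧
      finrank F ↥(X ⊓ W) = finrank F ↥(X ⊓ D) + 1) := by
    rintro ⟨h1, h2⟩
    have hlt1 : X ⊓ D < X ⊓ U := lt_of_le_of_ne hXD_U (fun h => by rw [h] at h1; omega)
    have hlt2 : X ⊓ D < X ⊓ W := lt_of_le_of_ne hXD_W (fun h => by rw [h] at h2; omega)
    obtain ⟨u, hu, huD⟩ := SetLike.exists_of_lt hlt1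
    obtain ⟨w, hw, hwD⟩ := SetLike.exists_of_lt hlt2
    have huw : Bf m u w = 0 := ts_B hX.2 hu.1 hw.1
    rcases adj_key hU hW hadj0 hu.2 hw.2 huw with h | h
    · exact huD ⟨hu.1, hD ▸ ⟨hu.2, h⟩⟩
    · exact hwD ⟨hw.1, hD ▸ ⟨h, hw.2⟩⟩
  -- not both c
  have hnot2 : ¬ (finrank F ↥(X ⊓ U) = finrank F ↥(X ⊓ D) ∧
      finrank F ↥(X ⊓ W) = finrank F ↥(X ⊓ D)) := by
    rintro ⟨h1, h2⟩
    have e1 : X ⊓ D = X ⊓ U := Submodule.eq_of_le_of_finrank_eq hXD_U h1.symm
    have e2 : X ⊓ D = X ⊓ W := Submodule.eq_of_le_of_finrank_eq hXD_W h2.symm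
    -- dimension of X ⊓ orth D
    have hDfr : finrank F ↥D = m - 1 := by omega
    have hod : finrank F ↥(orth (Bf m) D) = m + 1 := by
      rw [finrank_orth Function.surjective_id (Bf m) (Bf_nondeg m) D, finrank_V, hDfr]
      omega
    have hUW : U ⊔ W = orth (Bf m) D := by
      apply Submodule.eq_of_le_of_finrank_eq
      · apply sup_le
        · intro x hx d hd
          exact ts_B hU.2 (hDU hd) hx
        · intro x hx d hd
          exact ts_B hW.2 (hDW hd) hx
      · have := Submodule.finrank_sup_add_finrank_inf_eq U W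
        rw [hU.1, hW.1, ← hD] at this
        rw [hod]
        omega
    have hXo : X ⊓ orth (Bf m) D = orth (Bf m) (X ⊔ D) := by
      rw [orth_sup, max_orth hX]
    have hXDfr : finrank F ↥(X ⊓ orth (Bf m) D) = finrank F ↥(X ⊓ D) + 1 := by
      rw [hXo, finrank_orth Function.surjective_id (Bf m) (Bf_nondeg m) (X ⊔ D), finrank_V]
      have := Submodule.finrank_sup_add_finrank_inf_eq X D
      rw [hX.1, hDfr] at this
      have h3 : finrank F ↥(X ⊔ D) ≤ 2 * m :=
        le_trans (Submodule.finrank_le _) (le_of_eq (finrank_V m))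
      omega
    have hlt : X ⊓ D < X ⊓ orth (Bf m) D := by
      apply lt_of_le_of_ne
      · apply inf_le_inf_left
        rw [← hUW]
        exact le_trans hDU le_sup_left
      · intro h
        rw [← h] at hXDfr
        omega
    obtain ⟨t, ht, htD⟩ := SetLike.exists_of_lt hlt
    have ht2 : t ∈ U ⊔ W := by rw [hUW]; exact ht.2
    obtain ⟨u, hu, w, hw, rfl⟩ := Submodule.mem_sup.1 ht2
    have hQ := Q_add m u w
    rw [hX.2 _ ht.1, hU.2 u hu, hW.2 w hw] at hQ
    have huw : Bf m u w = 0 := by simpa using hQ.symm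
    rcases adj_key hU hW hadj0 hu hw huw with h | h
    · -- u ∈ W, so t ∈ W
      have : u + w ∈ X ⊓ W := ⟨ht.1, W.add_mem h hw⟩
      rw [← e2] at this
      exact htD this
    · have : u + w ∈ X ⊓ U := ⟨ht.1, U.add_mem hu h⟩
      rw [← e1] at this
      exact htD this
  omega

/-- moving one step towards `W` -/
theorem exists_step {U W : Submodule F (K m → F)} (hU : Max m U) (hW : Max m W) (hne : U ≠ W) :
    ∃ U', Max m U' ∧ finrank F ↥(U ⊓ U') + 1 = m ∧
      finrank F ↥(U' ⊓ W) = finrank F ↥(U ⊓ W) + 1 := by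
  have hm : 1 ≤ m := by
    by_contra h
    have h0 : m = 0 := by omega
    apply hne
    have h1 : U = ⊥ := by
      rw [← Submodule.finrank_eq_zero (R := F)]
      rw [hU.1, h0]
    have h2 : W = ⊥ := by
      rw [← Submodule.finrank_eq_zero (R := F)]
      rw [hW.1, h0]
    rw [h1, h2]
  -- w ∈ W \ U
  have hnle : ¬ W ≤ U := fun h => hne (eq_of_le hW hU h).symm
  obtain ⟨w, hwW, hwU⟩ := SetLike.not_le_iff_exists.1 hnle
  have hw0 : w ≠ 0 := fun h => hwU (h ▸ U.zero_mem)
  set H : Submodule F (K m → F) := U ⊓ LinearMap.ker (Bf m w) with hH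
  have hHU : H ≤ U := inf_le_left
  have hHw : ∀ x ∈ H, Bf m w x = 0 := fun x hx => hx.2
  -- some u ∈ U with B w u ≠ 0
  have hex : ∃ u ∈ U, Bf m w u ≠ 0 := by
    by_contra hcon
    push Not at hcon
    apply hwU
    apply mem_of_orth hU
    intro x hx
    rw [Bf_comm]
    exact hcon x hx
  obtain ⟨u₀, hu₀, hu₀w⟩ := hex
  have hHne : H ≠ U := by
    intro h
    have : u₀ ∈ H := by rw [h]; exact hu₀
    exact hu₀w this.2
  have hHlt : finrank F ↥H < m :=
    lt_of_lt_of_le (Submodule.finrank_lt_finrank_of_lt (lt_of_le_of_ne hHU hHne)) (le_of_eq hU.1)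
  have hker : 2 * m ≤ finrank F ↥(LinearMap.ker (Bf m w)) + 1 := by
    have h1 := LinearMap.finrank_range_add_finrank_ker (Bf m w)
    rw [finrank_V] at h1
    have h2 : finrank F ↥(LinearMap.range (Bf m w)) ≤ 1 := by
      have := Submodule.finrank_le (LinearMap.range (Bf m w))
      rwa [finrank_self] at this
    omega
  have hHge : m ≤ finrank F ↥H + 1 := by
    have h1 := Submodule.finrank_sup_add_finrank_inf_eq U (LinearMap.ker (Bf m w))
    have h2 : finrank F ↥(U ⊔ LinearMap.ker (Bf m w)) ≤ 2 * m :=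
      le_trans (Submodule.finrank_le _) (le_of_eq (finrank_V m))
    rw [hU.1, ← hH] at h1
    omega
  have hHfr : finrank F ↥H + 1 = m := by omega
  -- U'
  set U' : Submodule F (K m → F) := H ⊔ Submodule.span F {w} with hU'
  have hwU' : w ∈ U' := Submodule.mem_sup_right (Submodule.mem_span_singleton_self w)
  have hdisj : H ⊓ Submodule.span F {w} = ⊥ := by
    rw [eq_bot_iff]
    rintro x ⟨hx1, hx2⟩
    obtain ⟨a, rfl⟩ := Submodule.mem_span_singleton.1 hx2
    by_cases ha : a = 0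
    · rw [ha, zero_smul]; exact Submodule.zero_mem _
    · exfalso
      apply hwU
      have := U.smul_mem a⁻¹ (hHU hx1)
      rwa [smul_smul, inv_mul_cancel₀ ha, one_smul] at this
  have hU'fr : finrank F ↥U' = m := by
    have h1 := Submodule.finrank_sup_add_finrank_inf_eq H (Submodule.span F {w})
    rw [hdisj, finrank_bot, finrank_span_singleton hw0, ← hU'] at h1
    omega
  have hU'ts : ∀ x ∈ U', Cfsg.quadFormPlus m F x = 0 := by
    intro x hx
    obtain ⟨h, hh, y, hy, rfl⟩ := Submodule.mem_sup.1 hx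
    obtain ⟨a, rfl⟩ := Submodule.mem_span_singleton.1 hy
    rw [Q_add, hU.2 h (hHU hh), Q_smul, hW.2 w hwW, map_smul, smul_eq_mul, Bf_comm, hHw h hh]
    ring
  have hU'max : Max m U' := ⟨hU'fr, hU'ts⟩
  have hUU' : finrank F ↥(U ⊓ U') + 1 = m := by
    have h1 : H ≤ U ⊓ U' := le_inf hHU le_sup_left
    have h2 := Submodule.finrank_mono h1
    have h3 : U ⊓ U' ≠ U := by
      intro h
      have : U ≤ U' := inf_eq_left.1 h
      have := eq_of_le hU hU'max this
      exact hwU (this ▸ hwU')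
    have h4 : finrank F ↥(U ⊓ U') < m :=
      lt_of_lt_of_le (Submodule.finrank_lt_finrank_of_lt (lt_of_le_of_ne inf_le_left h3))
        (le_of_eq hU.1)
    omega
  refine ⟨U', hU'max, hUU', ?_⟩
  -- U' ⊓ W ⊇ (U ⊓ W) ⊔ span {w}
  have h5 : (U ⊓ W) ⊔ Submodule.span F {w} ≤ U' ⊓ W := by
    apply sup_le
    · rintro x ⟨hxU, hxW⟩
      refine ⟨Submodule.mem_sup_left ⟨hxU, ?_⟩, hxW⟩
      exact ts_B hW.2 hwW hxW
    · rw [Submodule.span_singleton_le_iff_mem]
      exact ⟨hwU', hwW⟩
  have h6 : U ⊓ W < (U ⊓ W) ⊔ Submodule.span F {w} := by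
    apply lt_of_le_of_ne le_sup_left
    intro h
    have : w ∈ U ⊓ W := by
      rw [h]
      exact Submodule.mem_sup_right (Submodule.mem_span_singleton_self w)
    exact hwU this.1
  have h7 := Submodule.finrank_lt_finrank_of_lt h6
  have h8 := Submodule.finrank_mono h5
  have h9 := flip hU hU'max hW hUU'
  rw [inf_comm W U, inf_comm W U'] at h9
  omega

/-- the parity statement -/
theorem parity (n : ℕ) : ∀ {U W X : Submodule F (K m → F)}, Max m U → Max m W → Max m X →
    m - finrank F ↥(U ⊓ W) = n →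
    Even ((m - finrank F ↥(U ⊓ X)) + (m - finrank F ↥(W ⊓ X)) + n) := by
  induction n with
  | zero =>
    intro U W X hU hW hX h
    have h1 : finrank F ↥(U ⊓ W) ≤ m :=
      le_trans (Submodule.finrank_mono inf_le_left) (le_of_eq hU.1)
    have h2 : finrank F ↥(U ⊓ W) = finrank F ↥U := by rw [hU.1]; omega
    have h3 : U ⊓ W = U := Submodule.eq_of_le_of_finrank_eq inf_le_left h2
    have h4 : U = W := eq_of_le hU hW (inf_eq_left.1 h3)
    rw [h4, add_zero]
    exact ⟨_, rfl⟩
  | succ n ih =>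
    intro U W X hU hW hX h
    have hne : U ≠ W := by
      intro h1
      rw [h1, inf_idem, hW.1] at h
      omega
    obtain ⟨U', hU', hadj, hstep⟩ := exists_step hU hW hne
    have h1 : finrank F ↥(U' ⊓ W) ≤ m :=
      le_trans (Submodule.finrank_mono inf_le_right) (le_of_eq hW.1)
    have := ih hU' hW hX (by omega)
    have hf := flip hU hU' hX hadj
    rw [inf_comm X U, inf_comm X U'] at hf
    have h2 : finrank F ↥(U ⊓ X) ≤ m :=
      le_trans (Submodule.finrank_mono inf_le_left) (le_of_eq hU.1)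
    have h3 : finrank F ↥(U' ⊓ X) ≤ m :=
      le_trans (Submodule.finrank_mono inf_le_left) (le_of_eq hU'.1)
    rcases hf with hf | hf
    · rw [Nat.even_iff] at this ⊢
      omega
    · rw [Nat.even_iff] at this ⊢
      omega

/-- The two families of maximal totally singular subspaces of the hyperbolic quadric: for the form Σ x_i y_i on F^(2m), m ≥ 1, and m-dimensional subspaces U, W, X on which it vanishes, the parities of m − dim(U ∩ W), m − dim(W ∩ X) and m − dim(U ∩ X) sum to an even number (so 'even codimension of the intersection' is an equivalence relation), and there exist two such subspaces meeting in codimension 1 (so there are exactly two classes). -/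
theorem result {F : Type*} [Field F] (m : ℕ) (hm : 1 ≤ m) : (∀ U W X : Submodule F (Fin m ⊕ Fin m → F), (Module.finrank F U = m ∧ ∀ w ∈ U, Cfsg.quadFormPlus m F w = 0) → (Module.finrank F W = m ∧ ∀ w ∈ W, Cfsg.quadFormPlus m F w = 0) → (Module.finrank F X = m ∧ ∀ w ∈ X, Cfsg.quadFormPlus m F w = 0) → Even ((m - Module.finrank F ↥(U ⊓ W)) + (m - Module.finrank F ↥(W ⊓ X)) + (m - Module.finrank F ↥(U ⊓ X)))) ∧ ∃ U W : Submodule F (Fin m ⊕ Fin m → F), (Module.finrank F U = m ∧ ∀ w ∈ U, Cfsg.quadFormPlus m F w = 0) ∧ (Module.finrank F W = m ∧ ∀ w ∈ W, Cfsg.quadFormPlus m F w = 0) ∧ Module.finrank F ↥(U ⊓ W) + 1 = m := by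
  constructor
  · intro U W X hU hW hX
    have h := parity (m - Module.finrank F ↥(U ⊓ W)) hU hW hX rfl
    have e : (m - Module.finrank F ↥(U ⊓ W)) + (m - Module.finrank F ↥(W ⊓ X)) +
        (m - Module.finrank F ↥(U ⊓ X)) = (m - Module.finrank F ↥(U ⊓ X)) +
        (m - Module.finrank F ↥(W ⊓ X)) + (m - Module.finrank F ↥(U ⊓ W)) := by ring
    rw [e]
    exact h
  · obtain ⟨k, rfl⟩ : ∃ k, m = k + 1 := ⟨m - 1, by omega⟩
    refine ⟨Cfsg.Agent.S0832.subA k, Cfsg.Agent.S0832.subB k,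
      ⟨Cfsg.Agent.S0832.finrank_subA k, Cfsg.Agent.S0832.TS_subA k⟩,
      ⟨Cfsg.Agent.S0832.finrank_subB k, Cfsg.Agent.S0832.TS_subB k⟩, ?_⟩
    -- the intersection is a coordinate subspace
    let ρ : Fin (k + 2) → Cfsg.Agent.S0832.K (k + 1) :=
      Fin.lastCases (Sum.inl (Fin.last k)) (fun i => Sum.inr i)
    have hρ : Function.Injective ρ := by
      intro i j
      refine Fin.lastCases ?_ (fun i => ?_) i <;> refine Fin.lastCases ?_ (fun j => ?_) j <;>
        simp [ρ]
    have hZ : Cfsg.Agent.S0832.subA (F := F) k ⊓ Cfsg.Agent.S0832.subB k = Cfsg.Agent.S0832.Z ρ := by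
      ext x
      rw [Submodule.mem_inf, Cfsg.Agent.S0832.mem_subA, Cfsg.Agent.S0832.mem_subB,
        Cfsg.Agent.S0832.mem_Z]
      constructor
      · rintro ⟨hA, hB, -⟩ j
        refine Fin.lastCases ?_ (fun i => ?_) j
        · simpa [ρ] using hB
        · simpa [ρ] using hA i
      · intro h
        refine ⟨fun i => ?_, ?_, fun i => ?_⟩
        · simpa [ρ] using h i.castSucc
        · simpa [ρ] using h (Fin.last _)
        · simpa [ρ] using h i.castSucc.castSucc
    have h1 := Cfsg.Agent.S0832.finrank_Z (F := F) ρ hρ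
    rw [Fintype.card_sum, Fintype.card_fin] at h1
    have h2 : finrank F ↥(Cfsg.Agent.S0832.Z (F := F) ρ) = k := by omega
    rw [hZ]
    exact congrArg (fun n => n + 1) h2

end Cfsg.Agent.S0831
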