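import Cfsg.Statements.S0833
import Cfsg.Agent.S0776
-- import your own Cfsg.Agent.* helpers here

set_option autoImplicit false
open Cfsg

namespace Cfsg.Agent.S0833

open Module TensorProduct
open scoped Kronecker

/-- If B₁, B₂ are non-degenerate alternating forms on U (dim 2k) and W (dim 2l), then B₁ ⊗ B₂ on U ⊗ W is symmetric, non-degenerate, and vanishes identically on some subspace of dimension 2kl (half of dim U ⊗ W). -/
theorem result {F U W : Type*} [Field F] [Fintype F] [AddCommGroup U] [Module F U] [FiniteDimensional F U] [AddCommGroup W] [Module F W] [FiniteDimensional F W] (B₁ : LinearMap.BilinForm F U) (B₂ : LinearMap.BilinForm F W) (h₁ : B₁.Nondegenerate) (h₂ : B₂.Nondegenerate) (hA₁ : B₁.IsAlt) (hA₂ : B₂.IsAlt) (k l : ℕ) (hU : Module.finrank F U = 2 * k) (hW : Module.finrank F W = 2 * l) : (B₁.tmul B₂).IsSymm ∧ (B₁.tmul B₂).Nondegenerate ∧ (∃ X : Submodule F (TensorProduct F U W), Module.finrank F X = 2 * k * l ∧ ∀ x ∈ X, ∀ y ∈ X, (B₁.tmul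 B₂) x y = 0) := by
  classical
  obtain ⟨b₁, hb₁⟩ := Cfsg.Agent.S0776.exists_symp_basis B₁ hA₁ h₁ k hU
  obtain ⟨b₂, hb₂⟩ := Cfsg.Agent.S0776.exists_symp_basis B₂ hA₂ h₂ l hW
  obtain ⟨tb, htb⟩ : ∃ tb : Basis ((Fin k ⊕ Fin k) × (Fin l ⊕ Fin l)) F (U ⊗[F] W),
      tb = b₁.tensorProduct b₂ := ⟨_, rfl⟩
  obtain ⟨T, hT⟩ : ∃ T : LinearMap.BilinForm F (U ⊗[F] W), T = B₁.tmul B₂ := ⟨_, rfl⟩
  rw [← hT]
  have hTb : ∀ p p', T (tb p) (tb p') = Matrix.J (Fin k) F p.1 p'.1 * Matrix.J (Fin l) F p.2 p'.2 := by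
    rintro ⟨i, j⟩ ⟨i', j'⟩
    rw [htb, hT, Basis.tensorProduct_apply, Basis.tensorProduct_apply]
    show B₂ (b₂ j) (b₂ j') • B₁ (b₁ i) (b₁ i') = _
    rw [hb₁, hb₂, smul_eq_mul, mul_comm]
  have hJsymm : ∀ (n : ℕ) (a b : Fin n ⊕ Fin n), Matrix.J (Fin n) F a b = - Matrix.J (Fin n) F b a := by
    intro n a b
    have := congrFun (congrFun (Matrix.J_transpose (Fin n) F) b) a
    rw [Matrix.transpose_apply, Matrix.neg_apply] at this
    rw [this]
  refine ⟨?_, ?_, ?_⟩
  · have : T = T.flip := by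
      apply LinearMap.BilinForm.ext_basis tb
      intro p p'
      rw [LinearMap.BilinForm.flip_apply, hTb, hTb, hJsymm k p.1 p'.1, hJsymm l p.2 p'.2]
      ring
    refine ⟨fun x y => ?_⟩
    show T x y = T y x
    conv_lhs => rw [this]
    rfl
  · refine (LinearMap.BilinForm.nondegenerate_iff_det_ne_zero tb).2 ?_
    have : LinearMap.BilinForm.toMatrix tb T =
        (Matrix.J (Fin k) F) ⊗ₖ (Matrix.J (Fin l) F) := by
      ext ⟨i, j⟩ ⟨i', j'⟩
      rw [LinearMap.BilinForm.toMatrix_apply, hTb, Matrix.kroneckerMap_apply]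
    rw [this, Matrix.det_kronecker]
    exact mul_ne_zero (pow_ne_zero _ (Matrix.isUnit_det_J (Fin k) F).ne_zero)
      (pow_ne_zero _ (Matrix.isUnit_det_J (Fin l) F).ne_zero)
  · obtain ⟨f, hf⟩ : ∃ f : Fin k × (Fin l ⊕ Fin l) → U ⊗[F] W,
        f = fun p => tb (Sum.inl p.1, p.2) := ⟨_, rfl⟩
    have hli : LinearIndependent F f := by
      rw [hf]
      refine tb.linearIndependent.comp (fun p : Fin k × (Fin l ⊕ Fin l) => (Sum.inl p.1, p.2)) ?_
      rintro ⟨a, b⟩ ⟨a', b'⟩ h
      simp only [Prod.mk.injEq, Sum.inl.injEq] at h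
      exact Prod.ext h.1 h.2
    refine ⟨Submodule.span F (Set.range f), ?_, ?_⟩
    · rw [finrank_span_eq_card hli]
      simp
      ring
    · have hgen : ∀ p p', T (f p) (f p') = 0 := by
        intro p p'
        rw [hf, hTb]
        simp [Cfsg.Agent.S0776.J_inl_inl]
      have h1 : ∀ p, Submodule.span F (Set.range f) ≤ LinearMap.ker (T.flip (f p)) := by
        intro p
        rw [Submodule.span_le]
        rintro _ ⟨p', rfl⟩
        rw [SetLike.mem_coe, LinearMap.mem_ker, LinearMap.BilinForm.flip_apply]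
        exact hgen p' p
      intro x hx
      have h2 : Submodule.span F (Set.range f) ≤ LinearMap.ker (T x) := by
        rw [Submodule.span_le]
        rintro _ ⟨p', rfl⟩
        rw [SetLike.mem_coe, LinearMap.mem_ker]
        have := h1 p' hx
        rw [LinearMap.mem_ker, LinearMap.BilinForm.flip_apply] at this
        exact this
      intro y hy
      exact h2 hy

end Cfsg.Agent.S0833
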