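import Cfsg.Statements.S0834
import Cfsg.Agent.Lib.H11.Disc
-- import your own Cfsg.Agent.* helpers here

set_option autoImplicit false
open Cfsg

namespace Cfsg.Agent.S0834

open Module TensorProduct
open scoped Kronecker

/-- Gram matrix of a tensor product form in the tensor basis -/
theorem gram_tmul {F U W : Type*} [Field F] [AddCommGroup U] [Module F U] [AddCommGroup W]
    [Module F W] {ι κ : Type*} [Fintype ι] [DecidableEq ι] [Fintype κ] [DecidableEq κ]
    (B₁ : LinearMap.BilinForm F U) (B₂ : LinearMap.BilinForm F W) (b₁ : Basis ι F U)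
    (b₂ : Basis κ F W) :
    LinearMap.BilinForm.toMatrix (b₁.tensorProduct b₂) (B₁.tmul B₂) =
      (LinearMap.BilinForm.toMatrix b₁ B₁) ⊗ₖ (LinearMap.BilinForm.toMatrix b₂ B₂) := by
  ext ⟨i, j⟩ ⟨i', j'⟩
  rw [LinearMap.BilinForm.toMatrix_apply, Matrix.kroneckerMap_apply,
    LinearMap.BilinForm.toMatrix_apply, LinearMap.BilinForm.toMatrix_apply,
    Basis.tensorProduct_apply, Basis.tensorProduct_apply]
  show B₂ (b₂ j) (b₂ j') • B₁ (b₁ i) (b₁ i') = _
  rw [smul_eq_mul, mul_comm]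

/-- Over a finite field with 2 ≠ 0: if B₁ on U (dim 2k, k ≥ 1) and B₂ on W (dim 2l, l ≥ 1) are non-degenerate symmetric forms admitting no totally isotropic subspaces of dimensions k, resp. l (minus type), then B₁ ⊗ B₂ admits a totally isotropic subspace of dimension 2kl (plus type). -/
theorem result {F U W : Type*} [Field F] [Fintype F] [AddCommGroup U] [Module F U] [FiniteDimensional F U] [AddCommGroup W] [Module F W] [FiniteDimensional F W] (h2 : (2 : F) ≠ 0) (B₁ : LinearMap.BilinForm F U) (B₂ : LinearMap.BilinForm F W) (h₁ : B₁.Nondegenerate) (h₂ : B₂.Nondegenerate) (hS₁ : B₁.IsSymm) (hS₂ : B₂.IsSymm) (k l : ℕ) (hk : 1 ≤ k) (hl : 1 ≤ l) (hU : Module.finrank F U = 2 * k) (hW : Module.finrank F W = 2 * l) (hm₁ : ¬ (∃ X : Submodule F (U), Module.finrank F X = k ∧ ∀ x ∈ X, ∀ y ∈ X, (B₁) x y = 0)) (hm₂ : ¬ (∃ X : Submodule F (W), Module.finrank F X = l ∧ ∀ x ∈ X, ∀ y ∈ X, (B₂) x y = 0)) : (∃ X : Submodule F (TensorProduct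 F U W), Module.finrank F X = 2 * k * l ∧ ∀ x ∈ X, ∀ y ∈ X, (B₁.tmul B₂) x y = 0) := by
  classical
  obtain ⟨b₁⟩ : Nonempty (Basis (Fin (2 * k)) F U) := ⟨Module.finBasisOfFinrankEq F U hU⟩
  obtain ⟨b₂⟩ : Nonempty (Basis (Fin (2 * l)) F W) := ⟨Module.finBasisOfFinrankEq F W hW⟩
  have hd₁ := (LinearMap.BilinForm.nondegenerate_iff_det_ne_zero b₁).1 h₁
  have hd₂ := (LinearMap.BilinForm.nondegenerate_iff_det_ne_zero b₂).1 h₂
  have hTS : ∀ x y, (B₁.tmul B₂) x y = (B₁.tmul B₂) y x :=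
    (LinearMap.IsSymm.tmul (LinearMap.BilinForm.isSymm_iff.1 hS₁)
      (LinearMap.BilinForm.isSymm_iff.1 hS₂)).eq
  have hdet : (LinearMap.BilinForm.toMatrix (b₁.tensorProduct b₂) (B₁.tmul B₂)).det =
      ((LinearMap.BilinForm.toMatrix b₁ B₁).det ^ l *
        (LinearMap.BilinForm.toMatrix b₂ B₂).det ^ k) ^ 2 := by
    rw [gram_tmul, Matrix.det_kronecker, Fintype.card_fin, Fintype.card_fin]
    ring
  have hTnd : (B₁.tmul B₂).Nondegenerate := by
    refine (LinearMap.BilinForm.nondegenerate_iff_det_ne_zero (b₁.tensorProduct b₂)).2 ?_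
    rw [hdet]
    exact pow_ne_zero 2 (mul_ne_zero (pow_ne_zero _ hd₁) (pow_ne_zero _ hd₂))
  have hfr : finrank F (U ⊗[F] W) = 2 * (2 * k * l) := by
    rw [Module.finrank_tensorProduct, hU, hW]; ring
  refine Cfsg.Agent.Lib.H11.Disc.exists_isotropic_of_isSquare h2 (B₁.tmul B₂) hTS hTnd
    (b₁.tensorProduct b₂) (2 * k * l) hfr ?_
  rw [hdet]
  refine ⟨(-1) ^ (k * l) * ((LinearMap.BilinForm.toMatrix b₁ B₁).det ^ l *
        (LinearMap.BilinForm.toMatrix b₂ B₂).det ^ k), ?_⟩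
  have : (-1 : F) ^ (2 * k * l) = ((-1) ^ (k * l)) * ((-1) ^ (k * l)) := by
    rw [← pow_add]; congr 1; ring
  rw [this]; ring

end Cfsg.Agent.S0834
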