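import Cfsg.Statements.S0835
import Cfsg.Agent.Lib.H11.Disc
-- import your own Cfsg.Agent.* helpers here

set_option autoImplicit false
open Cfsg

namespace Cfsg.Agent.S0835

open Module TensorProduct
open scoped Kronecker

/-- Gram matrix of a tensor product form in the tensor basis -/
theorem gram_tmul {F U W : Type*} [Field F] [AddCommGroup U] [Module F U] [AddCommGroup W]
    [Module F W] {ι κ : Type*} [Fintype ι] [DecidableEq ι] [Fintype κ] [DecidableEq κ]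
    (B₁ : LinearMap.BilinForm F U) (B₂ : LinearMap.BilinForm F W) (b₁ : Basis ι F U)
    (b₂ : Basis κ F W) :
    LinearMap.BilinForm.toMatrix (b₁.tensorProduct b₂) (B₁.tmul B₂) =
      (LinearMap.BilinForm.toMatrix b₁ B₁) ⊗ₖ (LinearMap.BilinForm.toMatrix b₂ B₂) := by
  ext ⟨i, j⟩ ⟨i', j'⟩
  rw [LinearMap.BilinForm.toMatrix_apply, Matrix.kroneckerMap_apply,
    LinearMap.BilinForm.toMatrix_apply, LinearMap.BilinForm.toMatrix_apply,
    Basis.tensorProduct_apply, Basis.tensorProduct_apply]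
  show B₂ (b₂ j) (b₂ j') • B₁ (b₁ i) (b₁ i') = _
  rw [smul_eq_mul, mul_comm]

/-- Over a finite field with 2 ≠ 0: if B₁ on U (dim 2k, k ≥ 1) is non-degenerate symmetric of minus type (no totally isotropic k-subspace) and B₂ on W (dim 2l + 1) is non-degenerate symmetric, then B₁ ⊗ B₂ (dimension 2k(2l+1)) admits no totally isotropic subspace of dimension k(2l+1) (minus type). -/
theorem result {F U W : Type*} [Field F] [Fintype F] [AddCommGroup U] [Module F U] [FiniteDimensional F U] [AddCommGroup W] [Module F W] [FiniteDimensional F W] (h2 : (2 : F) ≠ 0) (B₁ : LinearMap.BilinForm F U) (B₂ : LinearMap.BilinForm F W) (h₁ : B₁.Nondegenerate) (h₂ : B₂.Nondegenerate) (hS₁ : B₁.IsSymm) (hS₂ : B₂.IsSymm) (k l : ℕ) (hk : 1 ≤ k) (hU : Module.finrank F U = 2 * k) (hW : Module.finrank F W = 2 * l + 1) (hm₁ : ¬ (∃ X : Submodule F (U), Module.finrank F X = k ∧ ∀ x ∈ X, ∀ y ∈ X, (B₁) x y = 0)) : ¬ (∃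 X : Submodule F (TensorProduct F U W), Module.finrank F X = k * (2 * l + 1) ∧ ∀ x ∈ X, ∀ y ∈ X, (B₁.tmul B₂) x y = 0) := by
  classical
  rintro ⟨X, hX, hiso⟩
  apply hm₁
  obtain ⟨b₁⟩ : Nonempty (Basis (Fin (2 * k)) F U) := ⟨Module.finBasisOfFinrankEq F U hU⟩
  obtain ⟨b₂⟩ : Nonempty (Basis (Fin (2 * l + 1)) F W) := ⟨Module.finBasisOfFinrankEq F W hW⟩
  have hd₁ := (LinearMap.BilinForm.nondegenerate_iff_det_ne_zero b₁).1 h₁
  have hd₂ := (LinearMap.BilinForm.nondegenerate_iff_det_ne_zero b₂).1 h₂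
  have hTS : ∀ x y, (B₁.tmul B₂) x y = (B₁.tmul B₂) y x :=
    (LinearMap.IsSymm.tmul (LinearMap.BilinForm.isSymm_iff.1 hS₁)
      (LinearMap.BilinForm.isSymm_iff.1 hS₂)).eq
  obtain ⟨g₁, hg₁⟩ : ∃ g₁, g₁ = (LinearMap.BilinForm.toMatrix b₁ B₁).det := ⟨_, rfl⟩
  obtain ⟨g₂, hg₂⟩ : ∃ g₂, g₂ = (LinearMap.BilinForm.toMatrix b₂ B₂).det := ⟨_, rfl⟩
  rw [← hg₁] at hd₁
  rw [← hg₂] at hd₂
  have hdet : (LinearMap.BilinForm.toMatrix (b₁.tensorProduct b₂) (B₁.tmul B₂)).det =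
      g₁ * (g₁ ^ l * g₂ ^ k) ^ 2 := by
    rw [gram_tmul, Matrix.det_kronecker, Fintype.card_fin, Fintype.card_fin, ← hg₁, ← hg₂]
    ring
  have hfr : finrank F (U ⊗[F] W) = 2 * (k * (2 * l + 1)) := by
    rw [Module.finrank_tensorProduct, hU, hW]; ring
  have hsq := Cfsg.Agent.Lib.H11.Disc.isSquare_of_isotropic (B₁.tmul B₂) hTS
    (b₁.tensorProduct b₂) (k * (2 * l + 1)) X hX hfr hiso
  rw [hdet] at hsq
  -- deduce (-1)^k * g₁ is a square
  have hS₁' : ∀ x y, B₁ x y = B₁ y x := hS₁.eq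
  refine Cfsg.Agent.Lib.H11.Disc.exists_isotropic_of_isSquare h2 B₁ hS₁' h₁ b₁ k hU ?_
  rw [← hg₁]
  obtain ⟨s, hs⟩ := hsq
  obtain ⟨e, he⟩ : ∃ e, e = (-1 : F) ^ (k * l) * (g₁ ^ l * g₂ ^ k) := ⟨_, rfl⟩
  have he0 : e ≠ 0 := by
    rw [he]
    exact mul_ne_zero (pow_ne_zero _ (by simp)) (mul_ne_zero (pow_ne_zero _ hd₁) (pow_ne_zero _ hd₂))
  refine ⟨s / e, ?_⟩
  have h3 : (-1 : F) ^ (k * (2 * l + 1)) = (-1) ^ k * ((-1) ^ (k * l)) ^ 2 := by
    rw [← pow_mul, ← pow_add]; congr 1; ring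
  rw [h3] at hs
  have h4 : (-1 : F) ^ k * g₁ * e ^ 2 = s * s := by
    rw [← hs, he]; ring
  field_simp
  linear_combination h4

end Cfsg.Agent.S0835
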