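import Mathlib
import Cfsg.Statements.S0836

set_option autoImplicit false
open Cfsg

namespace Cfsg.Agent.S0836

open Matrix

theorem mem_commutatorSet_of_mul_eq {G : Type*} [Group G] {a b t : G} (h : a * b = t * b * a) :
    t ∈ commutatorSet G := by
  refine ⟨a, b, ?_⟩
  rw [commutatorElement_def, h]
  group

theorem result {F : Type*} [Field F] (n : ℕ) (hn : 3 ≤ n ∨ (n = 2 ∧ ∃ x : F, x ≠ 0 ∧ x ^ 2 ≠ 1)) (i j : Fin n) (hij : i ≠ j) (c : F) (t : Matrix.SpecialLinearGroup (Fin n) F) (ht : (t : Matrix (Fin n) (Fin n) F) = Matrix.transvection i j c) : t ∈ commutatorSet (Matrix.SpecialLinearGroup (Fin n) F) := by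
  rcases hn with hn | ⟨hn, x, hx0, hx2⟩
  · -- a third index
    obtain ⟨k, hki, hkj⟩ : ∃ k : Fin n, k ≠ i ∧ k ≠ j := by
      by_cases h0 : (0 : ℕ) ≠ i.val ∧ (0 : ℕ) ≠ j.val
      · exact ⟨⟨0, by omega⟩, fun h => h0.1 (congrArg Fin.val h), fun h => h0.2 (congrArg Fin.val h)⟩
      by_cases h1 : (1 : ℕ) ≠ i.val ∧ (1 : ℕ) ≠ j.val
      · exact ⟨⟨1, by omega⟩, fun h => h1.1 (congrArg Fin.val h), fun h => h1.2 (congrArg Fin.val h)⟩
      have hij' : i.val ≠ j.val := fun h => hij (Fin.ext h)
      refine ⟨⟨2, by omega⟩, fun h => ?_, fun h => ?_⟩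
      · have := congrArg Fin.val h
        simp only at this
        omega
      · have := congrArg Fin.val h
        simp only at this
        omega
    let a : SpecialLinearGroup (Fin n) F :=
      ⟨transvection i k c, det_transvection_of_ne i k (Ne.symm hki) c⟩
    let b : SpecialLinearGroup (Fin n) F :=
      ⟨transvection k j 1, det_transvection_of_ne k j hkj 1⟩
    apply mem_commutatorSet_of_mul_eq (a := a) (b := b)
    apply Subtype.ext
    show (transvection i k c : Matrix (Fin n) (Fin n) F) * transvection k j 1 =
      (t : Matrix (Fin n) (Fin n) F) * transvection k j 1 * transvection i k c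
    rw [ht]
    simp only [transvection, Matrix.add_mul, Matrix.mul_add, Matrix.one_mul, Matrix.mul_one]
    have e0 : single i k c * single k j (1 : F) = single i j c := by
      rw [single_mul_single_same, mul_one]
    have e1 : single i j c * single k j (1 : F) = 0 :=
      single_mul_single_of_ne (c := c) i j k (Ne.symm hkj) 1
    have e2 : single i j c * single i k c = 0 :=
      single_mul_single_of_ne (c := c) i j i (Ne.symm hij) c
    have e3 : single k j (1 : F) * single i k c = 0 :=
      single_mul_single_of_ne (c := (1 : F)) k j i (Ne.symm hij) c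
    simp only [e0, e1, e2, e3, zero_mul, add_zero]
    abel
  · subst hn
    obtain ⟨y, hy⟩ : ∃ y : F, y * (x ^ 2 - 1) = c := ⟨c / (x ^ 2 - 1), by
      have : x ^ 2 - 1 ≠ 0 := sub_ne_zero.mpr hx2
      field_simp⟩
    let dvec : Fin 2 → F := fun l => if l = i then x else x⁻¹
    have hdet : det (diagonal dvec) = 1 := by
      rw [det_diagonal, Fin.prod_univ_two]
      fin_cases i <;> fin_cases j <;> simp_all [dvec]
    let a : SpecialLinearGroup (Fin 2) F := ⟨diagonal dvec, hdet⟩
    let b : SpecialLinearGroup (Fin 2) F :=
      ⟨transvection i j y, det_transvection_of_ne i j hij y⟩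
    apply mem_commutatorSet_of_mul_eq (a := a) (b := b)
    apply Subtype.ext
    show (diagonal dvec : Matrix (Fin 2) (Fin 2) F) * transvection i j y =
      (t : Matrix (Fin 2) (Fin 2) F) * transvection i j y * diagonal dvec
    rw [ht, transvection_mul_transvection_same i j hij]
    have hyx : y * x ^ 2 = c + y := by rw [← hy]; ring
    ext p q
    fin_cases i <;> fin_cases j <;> first | exact absurd rfl hij | skip
    · fin_cases p <;> fin_cases q <;>
        simp [transvection, Matrix.mul_apply, Fin.sum_univ_two, Matrix.single, dvec, diagonal] <;>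
        field_simp <;> linear_combination hyx
    · fin_cases p <;> fin_cases q <;>
        simp [transvection, Matrix.mul_apply, Fin.sum_univ_two, Matrix.single, dvec, diagonal] <;>
        field_simp <;> linear_combination hyx

end Cfsg.Agent.S0836
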