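import Cfsg.Statements.S0838
import Cfsg.Agent.S0756
-- import your own Cfsg.Agent.* helpers here

set_option autoImplicit false
open Cfsg

namespace Cfsg.Agent.S0838

open Module

variable {F V : Type*} [Field F] [AddCommGroup V] [Module F V]

theorem same_gram {ι : Type*} [Fintype ι] [DecidableEq ι] (B B' : LinearMap.BilinForm F V)
    (b b' : Basis ι F V) (c : F) (h : ∀ i j, B' (b' i) (b' j) = c * B (b i) (b j)) :
    ∀ u v, B' ((b.equiv b' (Equiv.refl ι)) u) ((b.equiv b' (Equiv.refl ι)) v) = c * B u v := by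
  have : B'.comp ((b.equiv b' (Equiv.refl ι)) : V →ₗ[F] V) ((b.equiv b' (Equiv.refl ι)) : V →ₗ[F] V)
      = c • B := by
    apply LinearMap.BilinForm.ext_basis b
    intro i j
    simp [h]
  intro u v
  have := congrArg (fun f : LinearMap.BilinForm F V => f u v) this
  simpa using this

/-- determinant of the Gram matrix of a "classified" basis -/
theorem det_gram {n : ℕ} (B : LinearMap.BilinForm F V) (b : Basis (Fin (n + 1)) F V) (δ : F)
    (ho : ∀ i j, i ≠ j → B (b i) (b j) = 0) (h1 : ∀ i, i ≠ Fin.last n → B (b i) (b i) = 1)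
    (hl : B (b (Fin.last n)) (b (Fin.last n)) = δ) :
    (LinearMap.BilinForm.toMatrix b B).det = δ := by
  have : LinearMap.BilinForm.toMatrix b B =
      Matrix.diagonal (fun i => if i = Fin.last n then δ else 1) := by
    ext i j
    rw [LinearMap.BilinForm.toMatrix_apply]
    by_cases hij : i = j
    · subst hij
      rw [Matrix.diagonal_apply_eq]
      by_cases hi : i = Fin.last n
      · subst hi; rw [if_pos rfl]; exact hl
      · rw [if_neg hi]; exact h1 i hi
    · rw [Matrix.diagonal_apply_ne _ hij]; exact ho i j hij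
  rw [this, Matrix.det_diagonal, Finset.prod_ite_eq' Finset.univ (Fin.last n) (fun _ => δ)]
  simp

/-- Over a finite field with 2 ≠ 0 and n odd: two quadratic forms Q₁, Q₂ on F^n with non-degenerate polar forms are similar — there are an invertible linear map g and a scalar c ≠ 0 with Q₂ (g v) = c · Q₁ v for all v. -/
theorem result {F : Type*} [Field F] [Fintype F] (h2 : (2 : F) ≠ 0) {n : ℕ} (hn : Odd n) (Q₁ Q₂ : QuadraticForm F (Fin n → F)) (h₁ : (QuadraticMap.polarBilin Q₁).Nondegenerate) (h₂ : (QuadraticMap.polarBilin Q₂).Nondegenerate) : ∃ (g : (Fin n → F) ≃ₗ[F] (Fin n → F)) (c : F), c ≠ 0 ∧ ∀ v, Q₂ (g v) = c * Q₁ v := by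
  classical
  obtain ⟨j, hj⟩ := hn
  subst hj
  have hchar : ringChar F ≠ 2 := by
    intro h
    apply h2
    have := ringChar.Nat.cast_ringChar (R := F)
    rw [h] at this
    exact_mod_cast this
  obtain ⟨α, hα⟩ := FiniteField.exists_nonsquare hchar
  have hα0 : α ≠ 0 := by
    rintro rfl
    exact hα ⟨0, by simp⟩
  obtain ⟨B₁, hB₁⟩ : ∃ B₁ : LinearMap.BilinForm F (Fin (2 * j + 1) → F),
      B₁ = QuadraticMap.polarBilin Q₁ := ⟨_, rfl⟩
  obtain ⟨B₂, hB₂⟩ : ∃ B₂ : LinearMap.BilinForm F (Fin (2 * j + 1) → F),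
      B₂ = QuadraticMap.polarBilin Q₂ := ⟨_, rfl⟩
  have hB₁app : ∀ u v, B₁ u v = QuadraticMap.polar (⇑Q₁) u v := fun u v => by rw [hB₁]; rfl
  have hB₂app : ∀ u v, B₂ u v = QuadraticMap.polar (⇑Q₂) u v := fun u v => by rw [hB₂]; rfl
  have hS₁ : B₁.IsSymm := ⟨fun u v => by
    show B₁ u v = B₁ v u
    rw [hB₁app, hB₁app, QuadraticMap.polar_comm]⟩
  have hS₂ : B₂.IsSymm := ⟨fun u v => by
    show B₂ u v = B₂ v u
    rw [hB₂app, hB₂app, QuadraticMap.polar_comm]⟩
  have hnd₁ : B₁.Nondegenerate := hB₁ ▸ h₁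
  have hnd₂ : B₂.Nondegenerate := hB₂ ▸ h₂
  have hfr : finrank F (Fin (2 * j + 1) → F) = 2 * j + 1 := by simp
  -- reduce to bilinear statement
  suffices hsuff : ∃ (g : (Fin (2 * j + 1) → F) ≃ₗ[F] (Fin (2 * j + 1) → F)) (c : F), c ≠ 0 ∧
      ∀ u v, B₂ (g u) (g v) = c * B₁ u v by
    obtain ⟨g, c, hc, hg⟩ := hsuff
    refine ⟨g, c, hc, fun v => ?_⟩
    have := hg v v
    rw [hB₁app, hB₂app] at this
    have e1 : QuadraticMap.polar (⇑Q₂) (g v) (g v) = 2 * Q₂ (g v) := by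
      simp only [QuadraticMap.polar, QuadraticMap.map_add_self]; ring
    have e2 : QuadraticMap.polar (⇑Q₁) v v = 2 * Q₁ v := by
      simp only [QuadraticMap.polar, QuadraticMap.map_add_self]; ring
    rw [e1, e2] at this
    have h3 : 2 * Q₂ (g v) = 2 * (c * Q₁ v) := by rw [this]; ring
    exact mul_left_cancel₀ h2 h3
  obtain ⟨b1, ho1, h11, hl1⟩ := Cfsg.Agent.S0756.result h2 B₁ hS₁ hnd₁ hfr α hα
  obtain ⟨b2, ho2, h12, hl2⟩ := Cfsg.Agent.S0756.result h2 B₂ hS₂ hnd₂ hfr α hα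
  -- generic: equal last entries give an isometry
  have hgen : ∀ (B B' : LinearMap.BilinForm F (Fin (2 * j + 1) → F))
      (b b' : Basis (Fin (2 * j + 1)) F (Fin (2 * j + 1) → F)),
      (∀ i k, i ≠ k → B (b i) (b k) = 0) → (∀ i, i ≠ Fin.last (2 * j) → B (b i) (b i) = 1) →
      (∀ i k, i ≠ k → B' (b' i) (b' k) = 0) →
      (∀ i, i ≠ Fin.last (2 * j) → B' (b' i) (b' i) = 1) →
      B (b (Fin.last (2 * j))) (b (Fin.last (2 * j))) =
        B' (b' (Fin.last (2 * j))) (b' (Fin.last (2 * j))) →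
      ∀ u v, B' ((b.equiv b' (Equiv.refl _)) u) ((b.equiv b' (Equiv.refl _)) v) = 1 * B u v := by
    intro B B' b b' ho h1 ho' h1' hl
    apply same_gram
    intro i k
    rw [one_mul]
    by_cases hik : i = k
    · subst hik
      by_cases hi : i = Fin.last (2 * j)
      · subst hi; exact hl.symm
      · rw [h1 i hi, h1' i hi]
    · rw [ho i k hik, ho' i k hik]
  by_cases heq : B₁ (b1 (Fin.last (2 * j))) (b1 (Fin.last (2 * j))) =
      B₂ (b2 (Fin.last (2 * j))) (b2 (Fin.last (2 * j)))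
  · exact ⟨b1.equiv b2 (Equiv.refl _), 1, one_ne_zero, hgen B₁ B₂ b1 b2 ho1 h11 ho2 h12 heq⟩
  · -- scale by α
    obtain ⟨B₃, hB₃⟩ : ∃ B₃ : LinearMap.BilinForm F (Fin (2 * j + 1) → F), B₃ = α • B₁ := ⟨_, rfl⟩
    have hB₃app : ∀ u v, B₃ u v = α * B₁ u v := fun u v => by rw [hB₃]; rfl
    have hS₃ : B₃.IsSymm := ⟨fun u v => by
      show B₃ u v = B₃ v u
      rw [hB₃app, hB₃app]
      congr 1
      exact hS₁.eq u v⟩
    have hnd₃ : B₃.Nondegenerate := by
      constructor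
      · intro u hu
        apply hnd₁.1 u
        intro v
        have := hu v
        rw [hB₃app] at this
        exact (mul_eq_zero.1 this).resolve_left hα0
      · intro v hv
        apply hnd₁.2 v
        intro u
        have := hv u
        rw [hB₃app] at this
        exact (mul_eq_zero.1 this).resolve_left hα0
    obtain ⟨b3, ho3, h13, hl3⟩ := Cfsg.Agent.S0756.result h2 B₃ hS₃ hnd₃ hfr α hα
    -- determinants
    obtain ⟨δ₁, hδ₁⟩ : ∃ δ₁, δ₁ = B₁ (b1 (Fin.last (2 * j))) (b1 (Fin.last (2 * j))) := ⟨_, rfl⟩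
    obtain ⟨δ₂, hδ₂⟩ : ∃ δ₂, δ₂ = B₂ (b2 (Fin.last (2 * j))) (b2 (Fin.last (2 * j))) := ⟨_, rfl⟩
    obtain ⟨δ₃, hδ₃⟩ : ∃ δ₃, δ₃ = B₃ (b3 (Fin.last (2 * j))) (b3 (Fin.last (2 * j))) := ⟨_, rfl⟩
    rw [← hδ₁] at hl1 heq
    rw [← hδ₂] at hl2 heq
    rw [← hδ₃] at hl3
    have hd1 := det_gram B₁ b1 δ₁ ho1 h11 hδ₁.symm
    have hd3 := det_gram B₃ b3 δ₃ ho3 h13 hδ₃.symm
    have hM : LinearMap.BilinForm.toMatrix b1 B₃ = α • LinearMap.BilinForm.toMatrix b1 B₁ := by
      ext i k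
      rw [LinearMap.BilinForm.toMatrix_apply, Matrix.smul_apply,
        LinearMap.BilinForm.toMatrix_apply, hB₃app, smul_eq_mul]
    have hchange := LinearMap.BilinForm.toMatrix_mul_basis_toMatrix b1 b3 B₃
    have hdet := congrArg Matrix.det hchange
    rw [Matrix.det_mul, Matrix.det_mul, Matrix.det_transpose, hd3, hM, Matrix.det_smul, hd1,
      Fintype.card_fin] at hdet
    obtain ⟨e, he⟩ : ∃ e, e = (b1.toMatrix b3).det * α ^ j := ⟨_, rfl⟩
    have hδ₃e : δ₃ = e ^ 2 * (α * δ₁) := by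
      rw [← hdet, he]; ring
    have hδ₃0 : δ₃ ≠ 0 := by
      rcases hl3 with h | h <;> rw [h]
      · exact one_ne_zero
      · exact hα0
    have he0 : e ≠ 0 := by
      rintro rfl
      apply hδ₃0
      rw [hδ₃e]; ring
    have hδ₃₂ : δ₃ = δ₂ := by
      rcases hl1 with h1 | h1 <;> rcases hl2 with h2' | h2' <;> rcases hl3 with h3 | h3
      · exact absurd (h1.trans h2'.symm) heq
      · exact absurd (h1.trans h2'.symm) heq
      · -- δ₁ = 1, δ₂ = α, δ₃ = 1 : α = (1/e)^2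
        exfalso
        apply hα
        refine ⟨e⁻¹, ?_⟩
        rw [h3, h1] at hδ₃e
        have h5 : α * e ^ 2 = 1 := by linear_combination -hδ₃e
        field_simp
        exact h5
      · rw [h3, h2']
      · rw [h3, h2']
      · -- δ₁ = α, δ₂ = 1, δ₃ = α : α = e^2 α^2
        exfalso
        apply hα
        refine ⟨e⁻¹, ?_⟩
        rw [h3, h1] at hδ₃e
        have : (1 : F) = e ^ 2 * α := by
          have h5 : α * 1 = α * (e ^ 2 * α) := by rw [mul_one]; linear_combination hδ₃e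
          exact mul_left_cancel₀ hα0 h5
        have h6 : α * e ^ 2 = 1 := by linear_combination -this
        field_simp
        exact h6
      · exact absurd (h1.trans h2'.symm) heq
      · exact absurd (h1.trans h2'.symm) heq
    refine ⟨b3.equiv b2 (Equiv.refl _), α, hα0, ?_⟩
    intro u v
    have := hgen B₃ B₂ b3 b2 ho3 h13 ho2 h12 (by rw [← hδ₃, ← hδ₂, hδ₃₂]) u v
    rw [this, one_mul, hB₃app]

end Cfsg.Agent.S0838
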