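import Mathlib
import Cfsg.Statements.S0839
import Cfsg.Agent.Lib.H13.Transv

set_option autoImplicit false
open Cfsg

namespace Cfsg.Agent.S0839

open Cfsg.Agent.Lib.H13 Module

/-- Every transvection t ∈ SL_(n+2)(F) (rank(t − 1) = 1, (t − 1)² = 0) is conjugate in SL_(n+2)(F) to 1 + v·e_0ᵀ for some column vector v with v_0 = 0 (the group A of matrices that are the identity except in the first column below the diagonal); the dimension is written n + 2 ≥ 2. -/
theorem result {F : Type*} [Field F] (n : ℕ) (t : Matrix.SpecialLinearGroup (Fin (n + 2)) F) (ht : Cfsg.IsTransvection (t : Matrix (Fin (n + 2)) (Fin (n + 2)) F)) : ∃ (g : Matrix.SpecialLinearGroup (Fin (n + 2)) F) (v : Fin (n + 2) → F), v 0 = 0 ∧ ((g⁻¹ * t * g : Matrix.SpecialLinearGroup (Fin (n + 2)) F) : Matrix (Fin (n + 2)) (Fin (n + 2)) F) = 1 + Matrix.vecMulVec v (Pi.single 0 1) := by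
  classical
  set T : Matrix (Fin (n + 2)) (Fin (n + 2)) F := (t : Matrix (Fin (n + 2)) (Fin (n + 2)) F) with hT
  set N : (Fin (n + 2) → F) →ₗ[F] (Fin (n + 2) → F) := Matrix.toLin' (T - 1) with hN
  have hr : finrank F (LinearMap.range N) = 1 := ht.1
  have hsq : N ∘ₗ N = 0 := by
    rw [hN, ← Matrix.toLin'_mul, ht.2, map_zero]
  obtain ⟨u, φ, hu, hφ, hφu, hNx⟩ := rankOne_decomp N hr hsq
  -- the target pair
  set e1 : Fin (n + 2) → F := Pi.single 1 1 with he1
  set φ' : Dual F (Fin (n + 2) → F) := LinearMap.proj 0 with hφ'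
  have h01 : (0 : Fin (n + 2)) ≠ 1 := by
    intro h
    have := congrArg Fin.val h
    simp at this
  have he1ne : e1 ≠ 0 := by
    intro h
    have := congrFun h 1
    simp [he1] at this
  have hφ'ne : φ' ≠ 0 := by
    intro h
    have := LinearMap.congr_fun h (Pi.single 0 1)
    simp [hφ'] at this
  have hφ'e1 : φ' e1 = 0 := by
    simp [hφ', he1, h01]
  obtain ⟨g, hgu, hgφ⟩ := exists_equiv_pair u e1 φ φ' hu he1ne hφ hφ'ne hφu hφ'e1
  set d : F := LinearMap.det (g : (Fin (n + 2) → F) →ₗ[F] (Fin (n + 2) → F)) with hd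
  have hd0 : d ≠ 0 := (LinearEquiv.isUnit_det' g).ne_zero
  set G : Matrix (Fin (n + 2)) (Fin (n + 2)) F :=
    LinearMap.toMatrix' (g : (Fin (n + 2) → F) →ₗ[F] (Fin (n + 2) → F)) with hG
  set C : Matrix (Fin (n + 2)) (Fin (n + 2)) F :=
    Matrix.diagonal (Function.update (fun _ => (1 : F)) 1 d⁻¹) with hC
  have hCdet : C.det = d⁻¹ := by
    rw [hC, Matrix.det_diagonal, Finset.prod_update_of_mem (Finset.mem_univ _)]
    simp
  have hGdet : G.det = d := by rw [hG, LinearMap.det_toMatrix']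
  obtain ⟨M, hM⟩ : ∃ M : Matrix (Fin (n + 2)) (Fin (n + 2)) F, M = C * G := ⟨_, rfl⟩
  have hMdet : M.det = 1 := by
    rw [hM, Matrix.det_mul, hCdet, hGdet, inv_mul_cancel₀ hd0]
  set v : Fin (n + 2) → F := d⁻¹ • e1 with hv
  have hv0 : v 0 = 0 := by
    simp [hv, he1, h01]
  have hGx : ∀ x, G.mulVec x = g x := by
    intro x
    rw [hG, ← Matrix.toLin'_apply, Matrix.toLin'_toMatrix']
    rfl
  have hCx : ∀ x, C.mulVec x = fun i => (Function.update (fun _ => (1 : F)) 1 d⁻¹) i * x i := by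
    intro x
    ext i
    rw [hC, Matrix.mulVec_diagonal]
  have hMx0 : ∀ x, (M.mulVec x) 0 = φ x := by
    intro x
    rw [hM, ← Matrix.mulVec_mulVec, hCx, hGx]
    simp only [Function.update_of_ne h01, one_mul]
    exact hgφ x
  have hMu : M.mulVec u = v := by
    rw [hM, ← Matrix.mulVec_mulVec, hCx, hGx, hgu]
    ext i
    by_cases hi : i = 1
    · subst hi
      simp [hv, he1]
    · simp [hv, he1, hi, Function.update_of_ne hi]
  have hV : ∀ y : Fin (n + 2) → F,
      (Matrix.vecMulVec v (Pi.single 0 1)).mulVec y = y 0 • v := by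
    intro y
    ext i
    simp [Matrix.mulVec, Matrix.vecMulVec_apply, dotProduct, Pi.single_apply, mul_comm]
  have hcomm : M * (T - 1) = Matrix.vecMulVec v (Pi.single 0 1) * M := by
    apply Matrix.toLin'.injective
    apply LinearMap.ext
    intro x
    rw [Matrix.toLin'_apply, Matrix.toLin'_apply, ← Matrix.mulVec_mulVec, ← Matrix.mulVec_mulVec,
      hV, hMx0]
    have h1 : (T - 1).mulVec x = φ x • u := by
      rw [← Matrix.toLin'_apply]
      exact hNx x
    rw [h1, Matrix.mulVec_smul, hMu]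
  have hMT : M * T = (1 + Matrix.vecMulVec v (Pi.single 0 1)) * M := by
    have := hcomm
    rw [mul_sub, mul_one] at this
    rw [add_mul, one_mul, ← this]
    abel
  have hWdet : (1 + Matrix.vecMulVec v (Pi.single 0 1) : Matrix (Fin (n + 2)) (Fin (n + 2)) F).det
      = 1 := by
    have h1 : (1 + Matrix.vecMulVec v (Pi.single 0 1)) * M = M * T := hMT.symm
    have h2 := congrArg Matrix.det h1
    rw [Matrix.det_mul, Matrix.det_mul, hMdet, mul_one, one_mul] at h2
    rw [h2]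
    exact t.2
  obtain ⟨m, hm⟩ : ∃ m : Matrix.SpecialLinearGroup (Fin (n + 2)) F,
      (m : Matrix (Fin (n + 2)) (Fin (n + 2)) F) = M := ⟨⟨M, hMdet⟩, rfl⟩
  obtain ⟨w, hw⟩ : ∃ w : Matrix.SpecialLinearGroup (Fin (n + 2)) F,
      (w : Matrix (Fin (n + 2)) (Fin (n + 2)) F) = 1 + Matrix.vecMulVec v (Pi.single 0 1) :=
    ⟨⟨_, hWdet⟩, rfl⟩
  refine ⟨m⁻¹, v, hv0, ?_⟩
  have hmt : m * t = w * m := by
    apply Subtype.ext
    rw [Matrix.SpecialLinearGroup.coe_mul, Matrix.SpecialLinearGroup.coe_mul, hm, hw]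
    exact hMT
  rw [inv_inv, hmt, mul_inv_cancel_right]
  exact hw

end Cfsg.Agent.S0839
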