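import Cfsg.Statements.S0843
import Cfsg.Agent.Lib.L0.QuatLocal2

set_option autoImplicit false
open Cfsg

namespace Cfsg.Agent.S0843

/-- Suppose a Sylow 2-subgroup S of the finite group G is generalized quaternion of order at least 16; let D be the commutator subgroup of S and X the set of elements of the centralizer of D whose order is divisible by the order of D. Then D is contained in the cyclic subgroup generated by any element of X; an element of G conjugating some element of X into the centralizer of D normalizes D; and the normalizer of D maps X to itself under conjugation. -/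
theorem result {G : Type*} [Group G] [Finite G] (S : Sylow 2 G) (n : ℕ) (e : (S : Subgroup G) ≃* QuaternionGroup (2 ^ (n + 2))) (D : Subgroup G) (hD : D = ⁅(S : Subgroup G), (S : Subgroup G)⁆) : (∀ y : G, y ∈ Subgroup.centralizer (D : Set G) → Nat.card D ∣ orderOf y → D ≤ Subgroup.zpowers y) ∧ (∀ g y : G, y ∈ Subgroup.centralizer (D : Set G) → Nat.card D ∣ orderOf y → g * y * g⁻¹ ∈ Subgroup.centralizer (D : Set G) → g ∈ Subgroup.normalizer (D : Set G)) ∧ (∀ g y : G, g ∈ Subgroup.normalizer (D : Set G) → y ∈ Subgroup.centralizer (D : Set G) → Nat.card D ∣ orderOf y → g * y * g⁻¹ ∈ Subgroup.centralizer (D : Set G) ∧ Nat.card D ∣ orderOf (g * y * g⁻¹)) := by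
  have hne : NeZero (2 ^ (n + 2)) := ⟨by positivity⟩
  obtain ⟨a, h⟩ := Cfsg.Agent.Lib.L0.exists_quatData (S : Subgroup G) (2 ^ (n + 2)) e
  have hN0 : 0 < 2 ^ (n + 2) := by positivity
  have hDa : D = Subgroup.zpowers (a ^ 2) := by rw [hD, h.commutator_eq hN0]
  subst hDa
  have hcard : Nat.card (Subgroup.zpowers (a ^ 2)) = 2 ^ (n + 2) := h.card_zpowers_sq hN0
  rw [hcard]
  refine ⟨?_, ?_, ?_⟩
  · intro y hy hdvd
    exact Cfsg.Agent.Lib.L0.QuatData.zpowers_sq_le_zpowers h rfl hy hdvd
  · intro g y hy hdvd hgy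
    exact Cfsg.Agent.Lib.L0.QuatData.mem_normalizer_of_conj_mem h rfl hy hdvd hgy
  · intro g y hg hy hdvd
    refine ⟨?_, by rw [Cfsg.Agent.Lib.L0.QuatData.orderOf_conj']; exact hdvd⟩
    have := Cfsg.Agent.Lib.L0.QuatData.normalizer_le_normalizer_centralizer
      (Subgroup.zpowers (a ^ 2)) hg
    exact (Subgroup.mem_normalizer_iff.mp this y).mp hy

end Cfsg.Agent.S0843
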