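import Cfsg.Statements.S0844
import Cfsg.Agent.Lib.L0.QuatChar

set_option autoImplicit false
open Cfsg

namespace Cfsg.Agent.S0844

/-- Suppose a Sylow 2-subgroup S of the finite group G is generalized quaternion of order at least 16. Then G has two non-principal irreducible characters χ₁ and χ₂ with χ₁ 1 = χ₂ 1 + 1 such that χ₁ g - χ₂ g = 1 for every element g whose order is not divisible by 4. -/
theorem result {G : Type*} [Group G] [Fintype G] (S : Sylow 2 G) (n : ℕ) (e : (S : Subgroup G) ≃* QuaternionGroup (2 ^ (n + 2))) : ∃ χ₁ χ₂ : G → ℂ, Cfsg.IsIrrCharacter G χ₁ ∧ Cfsg.IsIrrCharacter G χ₂ ∧ χ₁ ≠ (fun _ => 1) ∧ χ₂ ≠ (fun _ => 1) ∧ χ₁ 1 = χ₂ 1 + 1 ∧ ∀ g : G, ¬ 4 ∣ orderOf g → χ₁ g - χ₂ g = 1 := by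
  have hne : NeZero (2 ^ (n + 2)) := ⟨by positivity⟩
  obtain ⟨a, h⟩ := Cfsg.Agent.Lib.L0.exists_quatData (S : Subgroup G) (2 ^ (n + 2)) e
  obtain ⟨lam, b, hsd, -, -, hlam1, hord⟩ :=
    Cfsg.Agent.Lib.L0.QuatData.exists_specialData h rfl
  have hsq : ∃ x : Subgroup.centralizer (Subgroup.zpowers (a ^ 2) : Set G), lam x * lam x ≠ 1 := by
    refine ⟨⟨a, Cfsg.Agent.Lib.L0.QuatData.zpowers_le_centralizer (Subgroup.mem_zpowers a)⟩,
      fun h1 => ?_⟩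
    have h2 : (lam ⟨a, Cfsg.Agent.Lib.L0.QuatData.zpowers_le_centralizer
        (Subgroup.mem_zpowers a)⟩) ^ 2 = 1 := by rw [sq]; exact h1
    have := orderOf_dvd_of_pow_eq_one h2
    rw [hord] at this
    norm_num at this
  obtain ⟨χ₁, χ₂, h1, h2, hne1, hne2, -, hdeg, hΘ⟩ := hsd.exists_decomp hsq
  refine ⟨χ₁, χ₂, h1, h2, hne1, hne2, hdeg, ?_⟩
  intro g hg
  have hzero : Cfsg.indFun _ (Cfsg.Agent.Lib.L0.oneSub lam) g = 0 := by
    apply Cfsg.Agent.Lib.L0.indFun_oneSub_eq_zero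
    intro x hx
    apply hlam1
    intro hdvd
    apply hg
    have h4 : 4 ∣ 2 ^ (n + 2) := ⟨2 ^ n, by ring⟩
    have h5 := h4.trans hdvd
    have h6 : orderOf (x⁻¹ * g * x) = orderOf g := by
      have := Cfsg.Agent.Lib.L0.QuatData.orderOf_conj' x⁻¹ g
      rwa [inv_inv] at this
    rwa [h6] at h5
  rw [hΘ] at hzero
  simp only [Pi.sub_apply, Pi.add_apply, Pi.one_apply] at hzero
  linear_combination -hzero

end Cfsg.Agent.S0844
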