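import Cfsg.Statements.S0845
import Cfsg.Agent.Lib.L0.BrauerSuzuki

set_option autoImplicit false
open Cfsg

namespace Cfsg.Agent.S0845

/-- Suppose a Sylow 2-subgroup S of the finite group G is generalized quaternion of order at least 16. Then G has a normal subgroup M of even order such that G / M is non-abelian, that is, M does not contain the commutator subgroup of G. -/
theorem result {G : Type*} [Group G] [Finite G] (S : Sylow 2 G) (n : ℕ) (e : (S : Subgroup G) ≃* QuaternionGroup (2 ^ (n + 2))) : ∃ M : Subgroup G, M.Normal ∧ Even (Nat.card M) ∧ ¬ commutator G ≤ M := by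
  classical
  have := Fintype.ofFinite G
  have hne : NeZero (2 ^ (n + 2)) := ⟨by positivity⟩
  obtain ⟨a, h⟩ := Cfsg.Agent.Lib.L0.exists_quatData (S : Subgroup G) (2 ^ (n + 2)) e
  obtain ⟨M₁, M₀, hM₁, -, hle, hz, -, hcomm⟩ := Cfsg.Agent.Lib.L0.QuatData.exists_kernels h rfl
  refine ⟨M₁, hM₁, ?_, hcomm⟩
  have hN0 : 0 < 2 ^ (n + 2) := by positivity
  have hzM : a ^ 2 ^ (n + 2) ∈ M₁ := hle hz
  have hord : orderOf (a ^ 2 ^ (n + 2)) = 2 :=
    orderOf_eq_prime h.pow_N_sq (h.pow_N_ne_one hN0)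
  have h1 : orderOf (⟨a ^ 2 ^ (n + 2), hzM⟩ : M₁) ∣ Nat.card M₁ := orderOf_dvd_natCard _
  rw [Subgroup.orderOf_mk, hord] at h1
  exact even_iff_two_dvd.mpr h1

end Cfsg.Agent.S0845
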