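import Cfsg.Statements.S0849
import Cfsg.Agent.Lib.L0.CharInd
-- import your own Cfsg.Agent.* helpers here

set_option autoImplicit false
open Cfsg

namespace Cfsg.Agent.S0849

/-- Let H be a subgroup of a finite group G and S a subset of H that is mapped to itself under conjugation by H, is disjoint from its conjugate by any element outside H, and is closed under inverses. Let φ be a class function of H vanishing on H away from S, and let u, v be involutions of G. Then the sum of the induced function of φ over all products a * b with a conjugate to u and b conjugate to v equals the index of H times the sum of φ (a * b) over such pairs with a and b in H. -/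
theorem result {G : Type*} [Group G] [Fintype G] (H : Subgroup G) (S : Set G) (hSH : S ⊆ H) (hHS : ∀ h ∈ H, ∀ s ∈ S, h * s * h⁻¹ ∈ S) (hTI : ∀ g : G, g ∉ H → ∀ s ∈ S, g * s * g⁻¹ ∉ S) (hinv : ∀ s ∈ S, s⁻¹ ∈ S) (φ : H → ℂ) (hφ : Cfsg.IsClassFunction H φ) (hφS : ∀ x : H, (x : G) ∉ S → φ x = 0) (u v : G) (hu : orderOf u = 2) (hv : orderOf v = 2) : ∑ᶠ p ∈ {p : G × G | IsConj u p.1 ∧ IsConj v p.2}, Cfsg.indFun H φ (p.1 * p.2) = (H.index : ℂ) * ∑ᶠ p ∈ {p : H × H | IsConj u (p.1 : G) ∧ IsConj v (p.2 : G)}, φ (p.1 * p.2) := by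
  classical
  have := Fintype.ofFinite H
  -- involutions
  have hinvol : ∀ w : G, orderOf w = 2 → ∀ a : G, IsConj w a → a * a = 1 := by
    intro w hw a ha
    obtain ⟨c, rfl⟩ := isConj_iff.mp ha
    have hu2 : w * w = 1 := by rw [← pow_two, ← hw, pow_orderOf_eq_one]
    calc c * w * c⁻¹ * (c * w * c⁻¹) = c * (w * w) * c⁻¹ := by group
      _ = 1 := by rw [hu2]; group
  -- key: if a ~ u, b ~ v and a * b ∈ S then a, b ∈ H
  have hkey : ∀ a b : G, IsConj u a → IsConj v b → a * b ∈ S → a ∈ H ∧ b ∈ H := by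
    intro a b ha hb hab
    have ha2 := hinvol u hu a ha
    have hb2 := hinvol v hv b hb
    have hainv : a⁻¹ = a := inv_eq_of_mul_eq_one_right ha2
    have hbinv : b⁻¹ = b := inv_eq_of_mul_eq_one_right hb2
    have haH : a ∈ H := by
      by_contra hna
      apply hTI a hna (a * b) hab
      have : a * (a * b) * a⁻¹ = (a * b)⁻¹ := by
        rw [mul_inv_rev, hainv, hbinv, ← mul_assoc, ha2, one_mul]
      rw [this]
      exact hinv _ hab
    refine ⟨haH, ?_⟩
    have : b = a⁻¹ * (a * b) := by group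
    rw [this]
    exact H.mul_mem (H.inv_mem haH) (hSH hab)
  -- the extension by zero vanishes off S
  have hext0 : ∀ z : G, z ∉ S → Cfsg.extendByZero H φ z = 0 := by
    intro z hz
    by_cases hzH : z ∈ H
    · rw [Cfsg.Agent.Lib.L0.extendByZero_apply_of_mem H φ hzH]
      exact hφS ⟨z, hzH⟩ hz
    · exact Cfsg.Agent.Lib.L0.extendByZero_apply_not_mem H φ hzH
  set condG : G × G → Prop := fun p => IsConj u p.1 ∧ IsConj v p.2 with hcondG
  set condH : H × H → Prop := fun p => IsConj u (p.1 : G) ∧ IsConj v (p.2 : G) with hcondH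
  have hL : ∑ᶠ p ∈ {p : G × G | IsConj u p.1 ∧ IsConj v p.2}, Cfsg.indFun H φ (p.1 * p.2)
      = ∑ p ∈ Finset.univ.filter condG, Cfsg.indFun H φ (p.1 * p.2) := by
    rw [finsum_mem_eq_finite_toFinset_sum _ (Set.toFinite _)]
    refine Finset.sum_congr ?_ fun _ _ => rfl
    ext p; simp [hcondG]
  have hR : ∑ᶠ p ∈ {p : H × H | IsConj u (p.1 : G) ∧ IsConj v (p.2 : G)}, φ (p.1 * p.2)
      = ∑ p ∈ Finset.univ.filter condH, φ (p.1 * p.2) := by
    rw [finsum_mem_eq_finite_toFinset_sum _ (Set.toFinite _)]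
    refine Finset.sum_congr ?_ fun _ _ => rfl
    ext p; simp [hcondH]
  rw [hL, hR]
  -- T = sum over G-pairs of the extension by zero
  have hT : ∑ p ∈ Finset.univ.filter condG, Cfsg.extendByZero H φ (p.1 * p.2)
      = ∑ p ∈ Finset.univ.filter condH, φ (p.1 * p.2) := by
    symm
    let e : H × H ↪ G × G := ⟨fun q => ((q.1 : G), (q.2 : G)), by
      intro q q' h
      have h1 := congrArg Prod.fst h
      have h2 := congrArg Prod.snd h
      exact Prod.ext (Subtype.ext h1) (Subtype.ext h2)⟩
    have hmap : ∑ p ∈ Finset.univ.filter condH, φ (p.1 * p.2)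
        = ∑ p ∈ (Finset.univ.filter condH).map e, Cfsg.extendByZero H φ (p.1 * p.2) := by
      rw [Finset.sum_map]
      refine Finset.sum_congr rfl fun q _ => ?_
      show φ (q.1 * q.2) = Cfsg.extendByZero H φ ((q.1 : G) * (q.2 : G))
      rw [← Subgroup.coe_mul, Cfsg.Agent.Lib.L0.extendByZero_apply_mem]
    rw [hmap]
    refine Finset.sum_subset ?_ ?_
    · intro p hp
      obtain ⟨q, hq, rfl⟩ := Finset.mem_map.mp hp
      simp only [Finset.mem_filter, Finset.mem_univ, true_and] at hq ⊢
      exact hq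
    · intro p hp hnp
      simp only [Finset.mem_filter, Finset.mem_univ, true_and] at hp
      by_contra hne
      apply hnp
      have hS : p.1 * p.2 ∈ S := by
        by_contra hS; exact hne (hext0 _ hS)
      obtain ⟨h1, h2⟩ := hkey p.1 p.2 hp.1 hp.2 hS
      refine Finset.mem_map.mpr ⟨(⟨p.1, h1⟩, ⟨p.2, h2⟩), ?_, rfl⟩
      simp only [Finset.mem_filter, Finset.mem_univ, true_and]
      exact hp
  rw [← hT]
  -- expand the induced function and reindex by conjugation
  have hconj : ∀ x : G, ∑ p ∈ Finset.univ.filter condG, Cfsg.extendByZero H φ (x⁻¹ * (p.1 * p.2) * x)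
      = ∑ p ∈ Finset.univ.filter condG, Cfsg.extendByZero H φ (p.1 * p.2) := by
    intro x
    let c : G × G ≃ G × G := (MulAut.conj x⁻¹).toEquiv.prodCongr (MulAut.conj x⁻¹).toEquiv
    refine Finset.sum_equiv c ?_ ?_
    · intro p
      simp only [Finset.mem_filter, Finset.mem_univ, true_and, hcondG]
      have h1 : ∀ w a : G, IsConj w a ↔ IsConj w (x⁻¹ * a * x⁻¹⁻¹) := by
        intro w a
        have hc : IsConj a (x⁻¹ * a * x⁻¹⁻¹) := isConj_iff.mpr ⟨x⁻¹, rfl⟩
        exact ⟨fun h => h.trans hc, fun h => h.trans hc.symm⟩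
      exact and_congr (h1 u p.1) (h1 v p.2)
    · intro p _
      congr 1
      simp [c, MulAut.conj_apply]
      group
  simp only [Cfsg.Agent.Lib.L0.indFun_apply]
  rw [← Finset.mul_sum, Finset.sum_comm, Finset.sum_congr rfl fun x _ => hconj x, Finset.sum_const,
    Finset.card_univ, nsmul_eq_mul, ← Nat.card_eq_fintype_card, ← H.card_mul_index]
  have hH : (Nat.card H : ℂ) ≠ 0 := by exact_mod_cast (Nat.card_pos (α := H)).ne'
  push_cast
  field_simp

end Cfsg.Agent.S0849
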