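import Cfsg.Statements.S0850
import Cfsg.Agent.Lib.L0.CharTI
import Cfsg.Agent.Lib.L0.CharDegree
import Cfsg.Agent.Lib.L0.PrimeOrderNormalizing
-- import your own Cfsg.Agent.* helpers here

set_option autoImplicit false
open Cfsg

namespace Cfsg.Agent.S0850

open Cfsg.Agent.Lib.L0

theorem not_conj_into {G : Type*} [Group G] [Finite G] (K : Subgroup G)
    (hTI : ∀ g : G, g ∉ Subgroup.normalizer (K : Set G) → ∀ k ∈ K, g * k * g⁻¹ ∈ K → k = 1)
    (hC : ∀ k ∈ K, k ≠ 1 → Subgroup.centralizer ({k} : Set G) ≤ K) :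
    ∀ x ∈ Subgroup.normalizer (K : Set G), x ∉ K → ∀ g : G, g * x * g⁻¹ ∉ K := by
  intro x hxN hxK g hk
  set k := g * x * g⁻¹ with hkdef
  by_cases hg : g ∈ Subgroup.normalizer (K : Set G)
  · -- then x ∈ K
    have := (Subgroup.mem_set_normalizer_iff.mp hg x).mpr hk
    exact hxK this
  · have hk1 : k ≠ 1 := by
      intro h
      apply hxK
      have : x = 1 := by
        have h' : g⁻¹ * k * g = x := by rw [hkdef]; group
        rw [← h', h]; group
      rw [this]; exact K.one_mem
    -- a prime dividing the order of k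
    have hord : orderOf k ≠ 1 := fun h => hk1 (orderOf_eq_one_iff.mp h)
    obtain ⟨p, hp, hpdvd⟩ := Nat.exists_prime_and_dvd hord
    haveI : Fact p.Prime := ⟨hp⟩
    obtain ⟨m, hm⟩ := hpdvd
    set k₁ := k ^ m with hk₁def
    have hk₁ord : orderOf k₁ = p := by
      have hpos : 0 < orderOf k := orderOf_pos k
      have hm0 : m ≠ 0 := by
        rintro rfl
        rw [mul_zero] at hm
        omega
      rw [hk₁def, orderOf_pow' k hm0, hm, Nat.gcd_mul_left_left, Nat.mul_div_cancel _ (Nat.pos_of_ne_zero hm0)]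
    have hk₁K : k₁ ∈ K := K.pow_mem hk m
    have hk₁ne : k₁ ≠ 1 := by
      intro h
      rw [h, orderOf_one] at hk₁ord
      exact hp.one_lt.ne hk₁ord
    -- K' = g K g⁻¹
    let K' : Subgroup G := K.map (MulAut.conj g).toMonoidHom
    have hK'mem : ∀ y, y ∈ K' ↔ g⁻¹ * y * g ∈ K := by
      intro y
      constructor
      · rintro ⟨k₀, hk₀, rfl⟩
        have : g⁻¹ * (MulAut.conj g).toMonoidHom k₀ * g = k₀ := by simp [MulAut.conj_apply]; group
        rw [this]; exact hk₀
      · intro h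
        exact ⟨g⁻¹ * y * g, h, by simp [MulAut.conj_apply]; group⟩
    -- k normalizes K'
    have hxnorm : ∀ z, z ∈ K ↔ x * z * x⁻¹ ∈ K := Subgroup.mem_set_normalizer_iff.mp hxN
    have hknorm : ∀ y ∈ K', k * y * k⁻¹ ∈ K' := by
      intro y hy
      rw [hK'mem] at hy ⊢
      have : g⁻¹ * (k * y * k⁻¹) * g = x * (g⁻¹ * y * g) * x⁻¹ := by rw [hkdef]; group
      rw [this]
      exact (hxnorm _).mp hy
    have hpownorm : ∀ n : ℕ, ∀ y ∈ K', k ^ n * y * (k ^ n)⁻¹ ∈ K' := by
      intro n
      induction n with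
      | zero => intro y hy; simpa using hy
      | succ n ih =>
        intro y hy
        have h1 : k ^ (n + 1) * y * (k ^ (n + 1))⁻¹ = k * (k ^ n * y * (k ^ n)⁻¹) * k⁻¹ := by
          rw [pow_succ']; group
        rw [h1]
        exact hknorm _ (ih y hy)
    have hk₁norm : ∀ y ∈ K', k₁ * y * k₁⁻¹ ∈ K' := hpownorm m
    -- p divides |K'| = |K|
    have hcardK' : Nat.card K' = Nat.card K :=
      Nat.card_congr (K.equivMapOfInjective _ (MulAut.conj g).injective).symm.toEquiv
    have hpK' : p ∣ Nat.card K' := by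
      rw [hcardK', ← hk₁ord]
      exact Subgroup.orderOf_dvd_natCard K hk₁K
    obtain ⟨y, hyK', hy1, hcomm⟩ := exists_commute_of_prime_order_normalizing K' k₁ p hk₁ord hk₁norm hpK'
    -- y = g k₀ g⁻¹ with k₀ ∈ K \ 1
    have hk₀K : g⁻¹ * y * g ∈ K := (hK'mem y).mp hyK'
    have hk₀1 : g⁻¹ * y * g ≠ 1 := by
      intro h
      apply hy1
      have : y = g * (g⁻¹ * y * g) * g⁻¹ := by group
      rw [this, h]; group
    -- g⁻¹ k₁ g centralizes k₀, hence lies in K
    have hcent : g⁻¹ * k₁ * g ∈ Subgroup.centralizer ({g⁻¹ * y * g} : Set G) := by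
      rw [Subgroup.mem_centralizer_singleton_iff]
      have : g⁻¹ * k₁ * g * (g⁻¹ * y * g) = g⁻¹ * (k₁ * y) * g := by group
      rw [this, hcomm]; group
    have hmem : g⁻¹ * k₁ * g ∈ K := hC _ hk₀K hk₀1 hcent
    -- TI: g (g⁻¹ k₁ g) g⁻¹ = k₁ ∈ K forces g⁻¹ k₁ g = 1
    have := hTI g hg _ hmem (by
      have : g * (g⁻¹ * k₁ * g) * g⁻¹ = k₁ := by group
      rw [this]; exact hk₁K)
    apply hk₁ne
    have h2 : k₁ = g * (g⁻¹ * k₁ * g) * g⁻¹ := by group
    rw [h2, this]; group


/-- Let K be a subgroup of the finite group G that meets each conjugate by an element outside its normalizer N trivially, is properly contained in N, and contains the centralizer of each of its non-identity elements (a T.I. subgroup with Frobenius normalizer). Then no element of N outside K is conjugate in G to an element of K, and for every class function ϑ of N that vanishes on N away from K and at the identity, the function induced from ϑ to G agrees with ϑ on all of N. -/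
theorem result {G : Type*} [Group G] [Fintype G] (K : Subgroup G) (hTI : ∀ g : G, g ∉ Subgroup.normalizer (K : Set G) → ∀ k ∈ K, g * k * g⁻¹ ∈ K → k = 1) (hlt : K < Subgroup.normalizer (K : Set G)) (hC : ∀ k ∈ K, k ≠ 1 → Subgroup.centralizer ({k} : Set G) ≤ K) : (∀ x ∈ Subgroup.normalizer (K : Set G), x ∉ K → ∀ g : G, g * x * g⁻¹ ∉ K) ∧ ∀ (ϑ : Subgroup.normalizer (K : Set G) → ℂ), Cfsg.IsClassFunction (Subgroup.normalizer (K : Set G)) ϑ → (∀ x : Subgroup.normalizer (K : Set G), (x : G) ∉ K → ϑ x = 0) → ϑ 1 = 0 → ∀ x : Subgroup.normalizer (K : Set G), Cfsg.indFun (Subgroup.normalizer (K : Set G)) ϑ x = ϑ x := by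
  classical
  have hpart1 := not_conj_into K hTI hC
  refine ⟨hpart1, ?_⟩
  intro ϑ hϑ hϑK hϑ1 x
  by_cases hxK : (x : G) ∈ K
  · by_cases hx1 : x = 1
    · rw [hx1]
      show Cfsg.indFun _ ϑ ((1 : Subgroup.normalizer (K : Set G)) : G) = ϑ 1
      rw [Subgroup.coe_one, indFun_apply_one, hϑ1, mul_zero]
    · exact indFun_TI_apply (K : Set G) hTI ϑ hϑ hϑK x hxK hx1
  · rw [hϑK x hxK, indFun_apply]
    rw [mul_eq_zero]; right
    refine Finset.sum_eq_zero fun y _ => ?_
    by_cases hmem : y⁻¹ * (x : G) * y ∈ Subgroup.normalizer (K : Set G)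
    · rw [extendByZero_apply_of_mem _ _ hmem]
      apply hϑK
      have := hpart1 x x.2 hxK y⁻¹
      simpa using this
    · exact extendByZero_apply_not_mem _ _ hmem

end Cfsg.Agent.S0850
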