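import Cfsg.Statements.S0857
import Cfsg.Agent.Lib.H24.ChiefFactor

set_option autoImplicit false
open Cfsg

namespace Cfsg.Agent.S0857

/-- Let L < K be normal subgroups of the finite group G with no normal subgroup of G strictly between them and with K / L abelian (the commutator subgroup of K lies in L). Let ϑ be an irreducible character of K invariant under conjugation by G. Then the restriction of ϑ to L is irreducible; or it equals e times an irreducible character of L with e ^ 2 equal to the index of L in K; or it is the sum of a family of pairwise distinct irreducible characters of L indexed by a set whose size is the index of L in K. -/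
theorem result {G : Type*} [Group G] [Fintype G] (K L : Subgroup G) [hK : K.Normal] [L.Normal] (hLK : L < K) (hchief : ∀ M : Subgroup G, M.Normal → L ≤ M → M ≤ K → M = L ∨ M = K) (hab : ⁅K, K⁆ ≤ L) (ϑ : K → ℂ) (hϑ : Cfsg.IsIrrCharacter K ϑ) (hinv : ∀ (g : G) (n : K), ϑ ⟨g * n * g⁻¹, hK.conj_mem (n : G) n.2 g⟩ = ϑ n) : Cfsg.IsIrrCharacter L (fun x : L => ϑ ⟨(x : G), hLK.le x.2⟩) ∨ (∃ (φ : L → ℂ) (e : ℕ), Cfsg.IsIrrCharacter L φ ∧ (fun x : L => ϑ ⟨(x : G), hLK.le x.2⟩) = (e : ℂ) • φ ∧ e ^ 2 = L.relIndex K) ∨ (∃ F : Finset (L → ℂ), (∀ φ ∈ F, Cfsg.IsIrrCharacter L φ) ∧ F.card = L.relIndex K ∧ (fun x : L => ϑ ⟨(x : G), hLK.le x.2⟩) = ∑ φ ∈ F, φ) := by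
  classical
  have hLn : L.Normal := inferInstance
  have : Fintype K := Fintype.ofFinite K
  set L' : Subgroup K := L.subgroupOf K with hL'
  have hL'n : L'.Normal := Subgroup.normal_subgroupOf
  set 𝒜 : Set (MulAut K) := Set.range (fun g : G => (MulAut.conjNormal g : MulAut K)) with h𝒜
  have hconj : ∀ (g : G) (x : K), (((MulAut.conjNormal g : MulAut K) x : K) : G) = g * x * g⁻¹ :=
    fun g x => MulAut.conjNormal_apply g x
  have hL𝒜 : ∀ σ ∈ 𝒜, ∀ x ∈ L', σ x ∈ L' := by
    rintro _ ⟨g, rfl⟩ x hx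
    show (((MulAut.conjNormal g : MulAut K) x : K) : G) ∈ L
    rw [hconj]
    exact hLn.conj_mem _ hx g
  have hchief' : ∀ M : Subgroup K, (∀ σ ∈ 𝒜, ∀ x ∈ M, σ x ∈ M) → L' ≤ M → M = L' ∨ M = ⊤ := by
    intro M hM𝒜 hLM
    have hMn : (M.map K.subtype).Normal := by
      constructor
      rintro _ ⟨x, hx, rfl⟩ g
      refine ⟨(MulAut.conjNormal g : MulAut K) x, hM𝒜 _ ⟨g, rfl⟩ x hx, ?_⟩
      exact hconj g x
    have h1 : L ≤ M.map K.subtype := by
      intro l hl
      exact ⟨⟨l, hLK.le hl⟩, hLM hl, rfl⟩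
    have h2 : M.map K.subtype ≤ K := Subgroup.map_subtype_le M
    have hcm : (M.map K.subtype).comap K.subtype = M :=
      Subgroup.comap_map_eq_self_of_injective K.subtype_injective M
    rcases hchief _ hMn h1 h2 with h | h
    · left
      rw [← hcm, h]
      rfl
    · right
      rw [← hcm, h]
      exact Subgroup.subgroupOf_self K
  have hab' : commutator K ≤ L' := by
    intro x hx
    show (x : G) ∈ L
    apply hab
    rw [← Subgroup.map_subtype_commutator]
    exact ⟨x, hx, rfl⟩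
  have hinv' : ∀ σ ∈ 𝒜, ∀ x, ϑ (σ x) = ϑ x := by
    rintro _ ⟨g, rfl⟩ x
    rw [← hinv g x]
    exact congrArg ϑ (Subtype.ext (hconj g x))
  have hcore := Cfsg.Agent.Lib.H24.chief_factor_trichotomy L' 𝒜 hL𝒜 hchief' hab' ϑ hϑ hinv'
  -- transfer along L' ≃* L
  set ι : L' ≃* L := Subgroup.subgroupOfEquivOfLe hLK.le with hι
  have hres : (fun x : L => ϑ ⟨(x : G), hLK.le x.2⟩) = (fun x : L' => ϑ x) ∘ ι.symm := by
    funext x
    show ϑ ⟨(x : G), hLK.le x.2⟩ = ϑ ((ι.symm x : L') : K)
    congr 1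
  rcases hcore with h | ⟨φ, e, hφ, hsm, he⟩ | ⟨F, hF, hcard, hsum⟩
  · left
    rw [hres]
    exact Cfsg.Agent.Lib.L0.isIrrCharacter_comp_of_surjective ι.symm.toMonoidHom ι.symm.surjective h
  · right; left
    refine ⟨φ ∘ ι.symm, e,
      Cfsg.Agent.Lib.L0.isIrrCharacter_comp_of_surjective ι.symm.toMonoidHom ι.symm.surjective hφ,
      ?_, he⟩
    rw [hres, hsm]
    rfl
  · right; right
    have hinj : Function.Injective (fun ψ : L' → ℂ => ψ ∘ ι.symm) := by
      intro a b hab''
      funext x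
      have := congrFun hab'' (ι x)
      simpa using this
    refine ⟨F.image (fun ψ : L' → ℂ => ψ ∘ ι.symm), ?_, ?_, ?_⟩
    · intro φ hφ
      obtain ⟨ψ, hψ, rfl⟩ := Finset.mem_image.mp hφ
      exact Cfsg.Agent.Lib.L0.isIrrCharacter_comp_of_surjective ι.symm.toMonoidHom
        ι.symm.surjective (hF ψ hψ)
    · rw [Finset.card_image_of_injective _ hinj, hcard]
      rfl
    · rw [hres, hsum, Finset.sum_image (fun a _ b _ h => hinj h)]
      funext x
      simp only [Function.comp_apply, Finset.sum_apply]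


end Cfsg.Agent.S0857
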