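-- Statement S0860
import Cfsg.Statements.S0860
import Cfsg.Agent.Lib.H24.CharPermLemma

set_option autoImplicit false
open Cfsg

namespace Cfsg.Agent.S0860

open Cfsg.Agent.Lib.H24 Cfsg.Agent.Lib.L0
open scoped ComplexConjugate

/-- Let a group A act on the set of irreducible characters and on the set of conjugacy classes of a finite group G in such a way that (a • χ) evaluated on the class a • C equals χ evaluated on C, for all a, χ and C. Then every element of A fixes exactly as many irreducible characters as it fixes conjugacy classes. -/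
theorem result {G : Type*} [Group G] [Finite G] {A : Type*} [Group A] [MulAction A (Cfsg.IrrCharacter G)] [MulAction A (ConjClasses G)] (hcompat : ∀ (a : A) (χ : Cfsg.IrrCharacter G) (g g' : G), ConjClasses.mk g' = a • ConjClasses.mk g → ((a • χ : Cfsg.IrrCharacter G) : G → ℂ) g' = (χ : G → ℂ) g) (a : A) : Nat.card {χ : Cfsg.IrrCharacter G // a • χ = χ} = Nat.card {C : ConjClasses G // a • C = C} := by
  classical
  have := Fintype.ofFinite G
  have := Fintype.ofFinite (IrrCharacter G)
  -- a representative of the class a⁻¹ • [g']
  let τ : G → G := fun g' => Quotient.out (a⁻¹ • ConjClasses.mk g')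
  have hτ : ∀ g' : G, ConjClasses.mk (τ g') = a⁻¹ • ConjClasses.mk g' := by
    intro g'
    exact Quotient.out_eq (a⁻¹ • ConjClasses.mk g')
  have hval : ∀ (χ : IrrCharacter G) (g' : G),
      ((a • χ : IrrCharacter G) : G → ℂ) g' = (χ : G → ℂ) (τ g') := by
    intro χ g'
    apply hcompat
    rw [hτ, smul_inv_smul]
  have hcast : (Nat.card {χ : IrrCharacter G // a • χ = χ} : ℂ) =
      (Nat.card {C : ConjClasses G // a • C = C} : ℂ) := by
    rw [card_conjClasses_subtype]
    have h1 : (Nat.card {χ : IrrCharacter G // a • χ = χ} : ℂ) =
        ∑ χ : IrrCharacter G, classInner ((a • χ : IrrCharacter G) : G → ℂ) (χ : G → ℂ) := by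
      rw [Nat.card_eq_fintype_card, Fintype.card_subtype, Finset.card_filter]
      push_cast
      refine Finset.sum_congr rfl (fun χ _ => ?_)
      rw [irr_classInner_eq (a • χ).2 χ.2]
      congr 1
      exact propext ⟨fun h => congrArg Subtype.val h, fun h => Subtype.ext h⟩
    rw [h1]
    simp only [classInner]
    rw [← Finset.mul_sum, Finset.sum_comm]
    congr 1
    refine Finset.sum_congr rfl (fun g _ => ?_)
    simp only [hval]
    rw [second_orthogonality (τ g) g]
    have hiff : IsConj (τ g) g ↔ a • ConjClasses.mk g = ConjClasses.mk g := by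
      rw [← ConjClasses.mk_eq_mk_iff_isConj, hτ]
      constructor
      · intro h
        conv_lhs => rw [← h]
        rw [smul_inv_smul]
      · intro h
        rw [inv_smul_eq_iff, h]
    by_cases h : IsConj (τ g) g
    · rw [if_pos h, if_pos (hiff.mp h), card_centralizer_eq_of_isConj h]
    · rw [if_neg h, if_neg (fun h' => h (hiff.mpr h'))]
  exact_mod_cast hcast

end Cfsg.Agent.S0860
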