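import Cfsg.Statements.S0861
import Cfsg.Agent.Lib.H23.ClassBound

set_option autoImplicit false
open Cfsg

namespace Cfsg.Agent.S0861

open Cfsg.Agent.Lib.H23 Cfsg.Agent.Lib.L0 Cfsg.Agent.Lib.H24

/-- Let P be a normal abelian Sylow p-subgroup of the finite group G and suppose some element g of P has centralizer exactly P. Then the number of irreducible characters of G is at most the order of P, and if equality holds then G / P is abelian (the commutator subgroup lies in P). -/
theorem result {G : Type*} [Group G] [Finite G] (p : ℕ) [Fact p.Prime] (P : Sylow p G) [(P : Subgroup G).Normal] (hab : ∀ a ∈ P, ∀ b ∈ P, a * b = b * a) (g : G) (hg : g ∈ P) (hC : Subgroup.centralizer ({g} : Set G) = P) : Nat.card (Cfsg.IrrCharacter G) ≤ Nat.card P ∧ (Nat.card (Cfsg.IrrCharacter G) = Nat.card P → commutator G ≤ P) := by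
  classical
  have : Fintype G := Fintype.ofFinite G
  have : Fintype (Cfsg.IrrCharacter G) := Fintype.ofFinite _
  set m := Nat.card G with hm
  have hm0 : NeZero m := ⟨Nat.card_pos.ne'⟩
  have hgm : g ^ m = 1 := pow_card_eq_one'
  -- `g` is a `p`-element
  have hgord : ∃ j : ℕ, orderOf g = p ^ j := by
    obtain ⟨j, hj⟩ := (IsPGroup.iff_orderOf.mp P.isPGroup') ⟨g, hg⟩
    exact ⟨j, by rw [← hj, Subgroup.orderOf_mk]⟩
  -- characters do not vanish at `g`
  have hne : ∀ χ : Cfsg.IrrCharacter G, (χ : G → ℂ) g ≠ 0 := by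
    intro χ h0
    obtain ⟨d, hd, hdvd⟩ := ito_char (P : Subgroup G) hab χ.2
    have h1 := prime_dvd_charDegree_of_eq_zero p (χ : G → ℂ) (isCharacter_of_irr χ.2) g hgord h0
    have h2 : Cfsg.charDegree (χ : G → ℂ) = d := by
      have := charDegree_irr χ
      rw [hd] at this
      exact_mod_cast this
    rw [h2] at h1
    exact P.not_dvd_index (h1.trans hdvd)
  -- centralizers of the Galois conjugates of `g`
  have hcent : ∀ k : (ZMod m)ˣ,
      Subgroup.centralizer ({g ^ (k : ZMod m).val} : Set G) = (P : Subgroup G) := by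
    intro k
    rw [← hC]
    ext x
    simp only [Subgroup.mem_centralizer_singleton_iff]
    constructor
    · intro h
      have h2 := (Commute.pow_right (show Commute x (g ^ (k : ZMod m).val) from h)
        ((k⁻¹ : (ZMod m)ˣ) : ZMod m).val)
      rw [unit_pow_pow_inv k g] at h2
      exact h2
    · intro h
      exact (Commute.pow_right (show Commute x g from h) _)
  have hcol : ∀ k : (ZMod m)ˣ,
      ∑ χ : Cfsg.IrrCharacter G, ‖(χ : G → ℂ) (g ^ (k : ZMod m).val)‖ ^ 2 = (Nat.card P : ℝ) := by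
    intro k
    rw [sum_normSq_irr_eq_card_centralizer, hcent k]
  set φ : ℝ := (Fintype.card (ZMod m)ˣ : ℝ) with hφ
  have hφpos : 0 < φ := by
    rw [hφ]
    exact_mod_cast Fintype.card_pos
  have hlow : ∀ χ : Cfsg.IrrCharacter G,
      φ ≤ ∑ k : (ZMod m)ˣ, ‖(χ : G → ℂ) (g ^ (k : ZMod m).val)‖ ^ 2 := by
    intro χ
    obtain ⟨n, ρ, hirr, hρ⟩ := irr_exists_rep χ
    rw [← hρ]
    exact card_units_le_sum_normSq_char_pow m ρ g hgm (by rw [hρ]; exact hne χ)
  have hdouble : ∑ χ : Cfsg.IrrCharacter G, ∑ k : (ZMod m)ˣ,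
      ‖(χ : G → ℂ) (g ^ (k : ZMod m).val)‖ ^ 2 = φ * (Nat.card P : ℝ) := by
    rw [Finset.sum_comm, Finset.sum_congr rfl (fun k _ => hcol k), Finset.sum_const,
      Finset.card_univ, nsmul_eq_mul]
  have hcardIrr : (Nat.card (Cfsg.IrrCharacter G) : ℝ) = (Fintype.card (Cfsg.IrrCharacter G) : ℝ) := by
    rw [Nat.card_eq_fintype_card]
  have hbound : (Nat.card (Cfsg.IrrCharacter G) : ℝ) * φ ≤ φ * (Nat.card P : ℝ) := by
    rw [← hdouble, hcardIrr]
    calc (Fintype.card (Cfsg.IrrCharacter G) : ℝ) * φ = ∑ _χ : Cfsg.IrrCharacter G, φ := by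
          rw [Finset.sum_const, Finset.card_univ, nsmul_eq_mul]
      _ ≤ _ := Finset.sum_le_sum fun χ _ => hlow χ
  constructor
  · have : (Nat.card (Cfsg.IrrCharacter G) : ℝ) ≤ (Nat.card P : ℝ) := by
      by_contra hlt
      push Not at hlt
      nlinarith
    exact_mod_cast this
  · intro heq
    -- every inner sum equals `φ`
    have hsum0 : ∑ χ : Cfsg.IrrCharacter G,
        ((∑ k : (ZMod m)ˣ, ‖(χ : G → ℂ) (g ^ (k : ZMod m).val)‖ ^ 2) - φ) = 0 := by
      rw [Finset.sum_sub_distrib, hdouble, Finset.sum_const, Finset.card_univ, nsmul_eq_mul,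
        ← hcardIrr, heq]
      ring
    have hall : ∀ χ : Cfsg.IrrCharacter G,
        ∑ k : (ZMod m)ˣ, ‖(χ : G → ℂ) (g ^ (k : ZMod m).val)‖ ^ 2 ≤ φ := by
      intro χ
      have := (Finset.sum_eq_zero_iff_of_nonneg
        (fun χ _ => sub_nonneg.mpr (hlow χ))).mp hsum0 χ (Finset.mem_univ χ)
      linarith
    have hnorm : ∀ χ : Cfsg.IrrCharacter G, ‖(χ : G → ℂ) g‖ = 1 := by
      intro χ
      obtain ⟨n, ρ, hirr, hρ⟩ := irr_exists_rep χ
      have h1 := hall χ
      rw [← hρ] at h1 ⊢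
      exact norm_char_eq_one_of_sum_le m ρ g hgm (by rw [hρ]; exact hne χ) h1
    -- `G ⧸ P` is abelian
    have hlin : ∀ ψ : Cfsg.IrrCharacter (G ⧸ (P : Subgroup G)), (ψ : G ⧸ (P : Subgroup G) → ℂ) 1 = 1 := by
      intro ψ
      have h1 := hnorm (inflIrr (P : Subgroup G) ψ)
      rw [inflIrr_apply, (QuotientGroup.eq_one_iff g).mpr hg] at h1
      obtain ⟨n, hn, h2⟩ := irr_one_eq ψ
      rw [h2] at h1 ⊢
      rw [Complex.norm_natCast] at h1
      have : n = 1 := by exact_mod_cast h1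
      rw [this]
      simp
    have hcomm := comm_of_forall_irr_one hlin
    rw [commutator_def, Subgroup.commutator_le]
    intro a _ b _
    rw [← QuotientGroup.eq_one_iff, commutatorElement_def]
    rw [QuotientGroup.mk_mul, QuotientGroup.mk_mul, QuotientGroup.mk_mul, QuotientGroup.mk_inv,
      QuotientGroup.mk_inv, hcomm (a : G ⧸ (P : Subgroup G)) b]
    group

end Cfsg.Agent.S0861
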