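import Mathlib
import Cfsg.Statements.S0869

set_option autoImplicit false
open Cfsg

namespace Cfsg.Agent.S0869

theorem result {S : Type*} [Finite S] [Nonempty S] (R : AddSubgroup (S → ℤ)) (hmul : ∀ f ∈ R, ∀ g ∈ R, f * g ∈ R) (h1 : (1 : S → ℤ) ∉ R) : ∃ (x : S) (p : ℕ), p.Prime ∧ ∀ f ∈ R, (p : ℤ) ∣ f x := by
  classical
  have : Fintype S := Fintype.ofFinite S
  by_contra hcon
  push Not at hcon
  -- for every x there is f ∈ R with f x = 1
  have key : ∀ x : S, ∃ f ∈ R, f x = 1 := by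
    intro x
    -- the subgroup of values at x
    let I : AddSubgroup ℤ := R.map (Pi.evalAddMonoidHom (fun _ : S => ℤ) x)
    obtain ⟨d, hd⟩ : ∃ d : ℤ, I = AddSubgroup.zmultiples d := by
      obtain ⟨d, hd⟩ := Int.subgroup_cyclic I
      exact ⟨d, by rw [hd, AddSubgroup.zmultiples_eq_closure]⟩
    have hmemI : ∀ f ∈ R, f x ∈ I := fun f hf => ⟨f, hf, rfl⟩
    by_cases hd1 : d.natAbs = 1
    · -- d = ±1, so 1 ∈ I
      have h1I : (1 : ℤ) ∈ I := by
        rw [hd, AddSubgroup.mem_zmultiples_iff]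
        rcases Int.natAbs_eq d with h' | h'
        · exact ⟨1, by rw [h', hd1]; simp⟩
        · exact ⟨-1, by rw [h', hd1]; simp⟩
      obtain ⟨f, hf, hfx⟩ := h1I
      exact ⟨f, hf, hfx⟩
    · exfalso
      -- a prime dividing d (or any prime if d = 0)
      obtain ⟨p, hp, hpd⟩ : ∃ p : ℕ, p.Prime ∧ p ∣ d.natAbs := Nat.exists_prime_and_dvd hd1
      obtain ⟨f, hf, hfx⟩ := hcon x p hp
      apply hfx
      have hfI : f x ∈ I := hmemI f hf
      rw [hd, AddSubgroup.mem_zmultiples_iff] at hfI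
      obtain ⟨k, hk⟩ := hfI
      rw [← hk, smul_eq_mul]
      apply Dvd.dvd.mul_left
      exact Int.natCast_dvd.mpr hpd
  choose f hfR hf1 using key
  -- 1 - ∏ (1 - f x) ∈ R
  have hprod : ∀ A : Finset S, (1 : S → ℤ) - ∏ x ∈ A, (1 - f x) ∈ R := by
    intro A
    induction A using Finset.induction_on with
    | empty => simp [R.zero_mem]
    | insert a A ha ih =>
      rw [Finset.prod_insert ha]
      have e : (1 : S → ℤ) - (1 - f a) * ∏ x ∈ A, (1 - f x) =
          (1 - ∏ x ∈ A, (1 - f x)) + f a - f a * (1 - ∏ x ∈ A, (1 - f x)) := by ring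
      rw [e]
      exact R.sub_mem (R.add_mem ih (hfR a)) (hmul _ (hfR a) _ ih)
  have hzero : ∏ x ∈ (Finset.univ : Finset S), (1 - f x) = 0 := by
    funext y
    rw [Finset.prod_apply]
    apply Finset.prod_eq_zero (Finset.mem_univ y)
    simp [hf1 y]
  have := hprod Finset.univ
  rw [hzero, sub_zero] at this
  exact h1 this

end Cfsg.Agent.S0869
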