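import Cfsg.Statements.S0873
import Cfsg.Agent.Lib.L0.CharLinear
import Cfsg.Agent.Lib.H1.CoprimeAction
-- import your own Cfsg.Agent.* helpers here

set_option autoImplicit false
open Cfsg

namespace Cfsg.Agent.S0873

section
open scoped commutatorElement
theorem commutator_le_of {G : Type*} [Group G] (A B S : Subgroup G)
    (h : ∀ a ∈ A, ∀ b ∈ B, a * b * a⁻¹ * b⁻¹ ∈ S) : ⁅A, B⁆ ≤ S := by
  rw [Subgroup.commutator_le]
  intro a ha b hb
  rw [commutatorElement_def]
  exact h a ha b hb
end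

/-- Let C be a normal subgroup of the finite group G of order prime to p and P a p-subgroup with C ⊔ P = G. Let λ be a character of C of degree 1 invariant under conjugation by G and equal to 1 at every element of C centralized by P. Then λ is identically 1. -/
theorem result {G : Type*} [Group G] [Finite G] (p : ℕ) [Fact p.Prime] (C P : Subgroup G) [hC : C.Normal] (hP : IsPGroup p P) (hcop : Nat.Coprime (Nat.card C) p) (hCP : C ⊔ P = ⊤) (lam : C → ℂ) (hlam : Cfsg.IsCharacter C lam ∧ lam 1 = 1) (hinv : ∀ (g : G) (c : C), lam ⟨g * c * g⁻¹, hC.conj_mem (c : G) c.2 g⟩ = lam c) (hker : ∀ c : C, (c : G) ∈ Subgroup.centralizer (P : Set G) → lam c = 1) : lam = fun _ => 1 := by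
  classical
  obtain ⟨hlamchar, hlam1⟩ := hlam
  let f : C →* ℂˣ := Cfsg.Agent.Lib.L0.linearCharHom hlamchar hlam1
  have hf : ∀ c : C, (f c : ℂ) = lam c := fun c => rfl
  -- the subgroup of G on which lam is trivial
  let S : Subgroup G := f.ker.map C.subtype
  have hSmem : ∀ c : C, lam c = 1 → (c : G) ∈ S := by
    intro c hc
    refine ⟨c, ?_, rfl⟩
    rw [SetLike.mem_coe, MonoidHom.mem_ker]
    exact Units.ext (by rw [hf, hc]; rfl)
  have hSmem' : ∀ c : C, (c : G) ∈ S → lam c = 1 := by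
    rintro c ⟨c', hc', hcc'⟩
    have : c' = c := Subtype.ext hcc'
    subst this
    rw [SetLike.mem_coe, MonoidHom.mem_ker] at hc'
    rw [← hf, hc']; rfl
  -- coprime action of P on C
  have hPfin : Finite P := inferInstance
  have hact : Cfsg.Agent.Lib.H1.CoprimeAction P C := by
    refine ⟨?_, ?_, Or.inl ?_⟩
    · intro x _
      rw [Subgroup.mem_set_normalizer_iff]
      intro c
      constructor
      · intro hc; exact hC.conj_mem c hc x
      · intro hc
        have := hC.conj_mem _ hc x⁻¹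
        simpa [mul_assoc] using this
    · obtain ⟨n, hn⟩ := IsPGroup.iff_card.mp hP
      rw [hn]
      exact (Nat.Coprime.pow_left n hcop.symm)
    · haveI : Group.IsNilpotent P := hP.isNilpotent
      infer_instance
  have hdecomp := Cfsg.Agent.Lib.H1.coprime_commutator_sup_centralizer hact
  have hcomm : ⁅C, P⁆ ≤ S := by
    apply commutator_le_of
    intro c hc x hx
    have hxc : x * c⁻¹ * x⁻¹ ∈ C := hC.conj_mem _ (C.inv_mem hc) x
    have heq : c * x * c⁻¹ * x⁻¹ = ((⟨c, hc⟩ * ⟨x * c⁻¹ * x⁻¹, hxc⟩ : C) : G) := by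
      simp [mul_assoc]
    rw [heq]
    apply hSmem
    rw [Cfsg.Agent.Lib.L0.linear_char_mul hlamchar hlam1]
    have h1 := hinv x (⟨c, hc⟩⁻¹ : C)
    have h2 : lam ⟨x * c⁻¹ * x⁻¹, hxc⟩ = lam (⟨c, hc⟩⁻¹ : C) := by
      rw [← h1]; rfl
    rw [h2, ← Cfsg.Agent.Lib.L0.linear_char_mul hlamchar hlam1, mul_inv_cancel, hlam1]
  have hcent : C ⊓ Subgroup.centralizer (P : Set G) ≤ S := by
    intro c hc
    exact hSmem ⟨c, hc.1⟩ (hker ⟨c, hc.1⟩ hc.2)
  have hCS : C ≤ S := by
    rw [← hdecomp]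
    exact sup_le hcomm hcent
  funext c
  exact hSmem' c (hCS c.2)

end Cfsg.Agent.S0873
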