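import Cfsg.Statements.S0876
import Cfsg.Agent.Lib.L0.PRegCong

set_option autoImplicit false
open Cfsg

namespace Cfsg.Agent.S0876

open Cfsg.Agent.Lib.H23 Cfsg.Agent.Lib.L0 Cfsg.Agent.Lib.L0.PReg in
/-- Let G be a finite group, p a prime and M a maximal ideal of the ring of algebraic integers containing p. Let x, y be elements with p-parts a and b (so a⁻¹ * x and b⁻¹ * y are their p-regular parts). Then a⁻¹ * x and b⁻¹ * y are conjugate in G if and only if, for every irreducible character χ, the difference χ x - χ y lies in the local ideal at M. -/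
theorem result {G : Type*} [Group G] [Finite G] (p : ℕ) (M : Ideal Cfsg.AlgInt) (hM : Cfsg.IsPModular p M) (x y a b : G) (ha : Cfsg.IsPPart p x a) (hb : Cfsg.IsPPart p y b) : IsConj (a⁻¹ * x) (b⁻¹ * y) ↔ ∀ χ : Cfsg.IrrCharacter G, Cfsg.MemLocalIdeal M ((χ : G → ℂ) x - (χ : G → ℂ) y) := by
  have hP : M.IsPrime := isPrime_of_isPModular hM
  have hxa : ∀ χ : IrrCharacter G,
      MemLocalIdeal M ((χ : G → ℂ) x - (χ : G → ℂ) (a⁻¹ * x)) :=
    fun χ => char_ppart_congr hM (isCharacter_of_irr χ.2) ha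
  have hyb : ∀ χ : IrrCharacter G,
      MemLocalIdeal M ((χ : G → ℂ) y - (χ : G → ℂ) (b⁻¹ * y)) :=
    fun χ => char_ppart_congr hM (isCharacter_of_irr χ.2) hb
  have hx' : ¬ p ∣ orderOf (a⁻¹ * x) := by
    obtain ⟨y0, rfl, _, _, h0⟩ := ha
    rwa [inv_mul_cancel_left]
  have hy' : ¬ p ∣ orderOf (b⁻¹ * y) := by
    obtain ⟨y0, rfl, _, _, h0⟩ := hb
    rwa [inv_mul_cancel_left]
  constructor
  · intro hc χ
    obtain ⟨c, hc⟩ := isConj_iff.mp hc
    have e : (χ : G → ℂ) (b⁻¹ * y) = (χ : G → ℂ) (a⁻¹ * x) := by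
      rw [← hc]
      exact isClassFunction_of_isCharacter (isCharacter_of_irr χ.2) _ _
    have h1 := memLocalIdeal_sub (hxa χ) (hyb χ)
    rw [e] at h1
    have e2 : (χ : G → ℂ) x - (χ : G → ℂ) (a⁻¹ * x) - ((χ : G → ℂ) y - (χ : G → ℂ) (a⁻¹ * x)) =
        (χ : G → ℂ) x - (χ : G → ℂ) y := by ring
    rwa [e2] at h1
  · intro h
    refine isConj_of_forall_congr hM hx' hy' fun χ => ?_
    have h1 := memLocalIdeal_add (memLocalIdeal_sub (h χ) (hxa χ)) (hyb χ)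
    have e2 : (χ : G → ℂ) x - (χ : G → ℂ) y - ((χ : G → ℂ) x - (χ : G → ℂ) (a⁻¹ * x)) +
        ((χ : G → ℂ) y - (χ : G → ℂ) (b⁻¹ * y)) =
        (χ : G → ℂ) (a⁻¹ * x) - (χ : G → ℂ) (b⁻¹ * y) := by ring
    rwa [e2] at h1

end Cfsg.Agent.S0876
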