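import Cfsg.Statements.S0880
import Cfsg.Agent.Lib.H4.Feit.Count
import Cfsg.Agent.Lib.H2.ClassCard

set_option autoImplicit false
open Cfsg

namespace Cfsg.Agent.S0880

open MulAction Cfsg.Agent.Lib.H2.Zass Cfsg.Agent.Lib.H4.Zas Cfsg.Agent.Lib.H4.Feit in
/-- Let G be a finite simple Zassenhaus group on Ω with n points whose two-point stabilizer E has odd order less than n - 2. Then there are two elements of G, each fixing no point of Ω, that are not conjugate. -/
theorem result {G Ω : Type*} [Group G] [Finite G] [MulAction G Ω] [Fintype Ω] (hZ : Cfsg.IsZassenhausGroup G Ω) {a b : Ω} (hab : a ≠ b) [IsSimpleGroup G] (hodd : Odd (Nat.card ↥(MulAction.stabilizer G a ⊓ MulAction.stabilizer G b : Subgroup G))) (hlt : Nat.card ↥(MulAction.stabilizer G a ⊓ MulAction.stabilizer G b : Subgroup G) < Fintype.card Ω - 2) : ∃ x y : G, (∀ c : Ω, x • c ≠ c) ∧ (∀ c : Ω, y • c ≠ c) ∧ ¬ IsConj x y := by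
  classical
  haveI : Fintype G := Fintype.ofFinite G
  have hP := pre_of_zassenhaus hZ
  by_contra hcon
  push Not at hcon
  have hn := three_le_card hP
  have hG := card_eq hP a b hab
  rw [Nat.card_eq_fintype_card (α := Ω)] at hG
  have hF := card_fpf hP
  set e := Nat.card ↥(stabilizer G a ⊓ stabilizer G b) with he
  obtain ⟨k, hk⟩ := hodd
  obtain ⟨h, hh⟩ : ∃ h, Fintype.card Ω = h + 3 := ⟨Fintype.card Ω - 3, by omega⟩
  -- e ≥ 2
  have he2 : 2 ≤ e := by
    obtain ⟨g, hg1, hga, hgb⟩ := exists_fix_two hP hab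
    have h1 : (⟨g, by rw [Subgroup.mem_inf]; exact ⟨hga, hgb⟩⟩ :
        ↥(stabilizer G a ⊓ stabilizer G b)) ≠ 1 := by
      intro h
      exact hg1 (congrArg Subtype.val h)
    have : Nontrivial ↥(stabilizer G a ⊓ stabilizer G b) := ⟨⟨_, _, h1⟩⟩
    exact Finite.one_lt_card
  have hk1 : 1 ≤ k := by omega
  set F := Nat.card {g : G // ∀ c : Ω, g • c ≠ c} with hFdef
  rw [hh] at hF hG
  simp only [show h + 3 - 1 = h + 2 by omega, show h + 3 - 2 = h + 1 by omega] at hF hG
  -- F = (h+2) * ((h+3) k + 1)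
  have hF2 : F = (h + 2) * ((h + 3) * k + 1) := by
    have : 2 * F = 2 * ((h + 2) * ((h + 3) * k + 1)) := by
      have h1 : Nat.card G = (h + 3) * (h + 2) * (2 * k + 1) := by rw [hG, hk]
      have h2 : 2 * F + (h + 2) * (h + 1) = (h + 3) * (h + 2) * (2 * k + 1) := by rw [hF, h1]
      have h3 : (h + 3) * (h + 2) * (2 * k + 1) = 2 * ((h + 2) * ((h + 3) * k + 1)) + (h + 2) * (h + 1) := by
        ring
      omega
    omega
  have hFpos : 0 < F := by
    rw [hF2]
    positivity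
  obtain ⟨⟨x₀, hx₀⟩⟩ : Nonempty {g : G // ∀ c : Ω, g • c ≠ c} := by
    rw [← Finite.card_pos_iff]
    exact hFpos
  have hset : {y : G | IsConj x₀ y} = {g : G | ∀ c : Ω, g • c ≠ c} := by
    ext y
    constructor
    · rintro ⟨u, hu⟩ c hc
      have hu' : y = (u : G) * x₀ * (u : G)⁻¹ := eq_mul_inv_of_mul_eq hu.eq.symm
      apply hx₀ ((u : G)⁻¹ • c)
      rw [hu', mul_smul, mul_smul] at hc
      exact (smul_eq_iff_eq_inv_smul _).1 hc
    · intro hy
      exact hcon x₀ y hx₀ hy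
  have hcl := Cfsg.Agent.Lib.H2.ncard_conj_mul_card_centralizer x₀
  rw [hset] at hcl
  have hdvd : F ∣ Nat.card G := by
    have hFn : Set.ncard {g : G | ∀ c : Ω, g • c ≠ c} = F := by
      rw [← Nat.card_coe_set_eq]
      rfl
    rw [← hcl, hFn]
    exact Dvd.intro _ rfl
  rw [hG, hF2, hk] at hdvd
  have h1 : (h + 3) * k + 1 ∣ (h + 3) * (2 * k + 1) := by
    have : (h + 2) * ((h + 3) * k + 1) ∣ (h + 2) * ((h + 3) * (2 * k + 1)) := by
      convert hdvd using 1
      ring
    exact Nat.dvd_of_mul_dvd_mul_left (by omega) this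
  have hcop : Nat.Coprime ((h + 3) * k + 1) (h + 3) := by
    simp
  have h2 : (h + 3) * k + 1 ∣ 2 * k + 1 := Nat.Coprime.dvd_of_dvd_mul_left hcop h1
  have h3 := Nat.le_of_dvd (by omega) h2
  nlinarith

end Cfsg.Agent.S0880
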