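import Cfsg.Statements.S0882
import Cfsg.Agent.Lib.H4.Feit.Invol

set_option autoImplicit false
open Cfsg

namespace Cfsg.Agent.S0882

open MulAction Cfsg.Agent.Lib.H2.Zass Cfsg.Agent.Lib.H4.Zas Cfsg.Agent.Lib.H4.Feit in
/-- Let G be a finite simple Zassenhaus group on Ω with n = h + 1 points whose two-point stabilizer E has odd order e with 2e < h - 1. Then any two involutions of G are conjugate, and the number of involutions is e * (h + 1) if h is even and e * h if h is odd. -/
theorem result {G Ω : Type*} [Group G] [Finite G] [MulAction G Ω] [Fintype Ω] (hZ : Cfsg.IsZassenhausGroup G Ω) {a b : Ω} (hab : a ≠ b) [IsSimpleGroup G] (h e : ℕ) (hh : Fintype.card Ω = h + 1) (he : Nat.card ↥(MulAction.stabilizer G a ⊓ MulAction.stabilizer G b : Subgroup G) = e) (hodd : Odd e) (hlt : 2 * e < h - 1) : (∀ x y : G, orderOf x = 2 → orderOf y = 2 → IsConj x y) ∧ Nat.card {x : G // orderOf x = 2} = (if Even h then e * (h + 1) else e * h) := by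
  have hS : OddSimple G Ω := oddSimple_of hZ hab (by rw [he]; exact hodd)
  refine ⟨fun x y hx hy => hS.invol_conj hx hy, ?_⟩
  have h1 := hS.card_invol_mul hab
  have h3 : 3 ≤ Fintype.card Ω := by
    haveI : Fintype G := Fintype.ofFinite G
    exact three_le_card hS.pre
  rw [he, hh] at h1
  rw [Nat.add_sub_cancel] at h1
  split_ifs with hev
  · have h2 : (h + 1) % 2 = 1 := by
      obtain ⟨k, hk⟩ := hev
      omega
    rw [h2, Nat.add_sub_cancel] at h1
    have hpos : 0 < h := by omega
    apply Nat.eq_of_mul_eq_mul_right hpos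
    rw [h1]
    ring
  · have h2 : (h + 1) % 2 = 0 := by
      rw [Nat.not_even_iff_odd] at hev
      obtain ⟨k, hk⟩ := hev
      omega
    rw [h2, Nat.sub_zero] at h1
    have hpos : 0 < h + 1 := by omega
    apply Nat.eq_of_mul_eq_mul_right hpos
    rw [h1]
    ring

end Cfsg.Agent.S0882
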