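import Cfsg.Statements.S0888
import Mathlib
import Cfsg.Agent.Lib.H24.CentralExt
import Cfsg.Agent.Lib.H24.CentralExtLinear
import Cfsg.Agent.Lib.H23.LinearSylow
import Cfsg.Agent.Lib.H23.ExtendCyclic
import Cfsg.Agent.Lib.H24.CharComplete

set_option autoImplicit false
open Cfsg

namespace Cfsg.Agent.S0888

/-- Let N be a normal subgroup of the finite group G and ϑ an irreducible character of N invariant under conjugation by G. Suppose that for every prime p there are a subgroup P containing N, of index prime to p and with the index of N in P a power of p, and an irreducible character of P restricting to ϑ. Then ϑ is the restriction of an irreducible character of G. -/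
theorem result {G : Type*} [Group G] [Finite G] (N : Subgroup G) [hN : N.Normal] (ϑ : N → ℂ) (hϑ : Cfsg.IsIrrCharacter N ϑ) (hinv : ∀ (g : G) (n : N), ϑ ⟨g * n * g⁻¹, hN.conj_mem (n : G) n.2 g⟩ = ϑ n) (hsyl : ∀ p : ℕ, p.Prime → ∃ (P : Subgroup G) (hNP : N ≤ P) (η : P → ℂ), Nat.Coprime P.index p ∧ (∃ k : ℕ, N.relIndex P = p ^ k) ∧ Cfsg.IsIrrCharacter P η ∧ ∀ n : N, η ⟨(n : G), hNP n.2⟩ = ϑ n) : ∃ χ : G → ℂ, Cfsg.IsIrrCharacter G χ ∧ ∀ n : N, χ n = ϑ n := by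
  classical
  obtain ⟨d, Y, hY, hYϑ⟩ := hϑ
  set M := Nat.card N with hMdef
  have hinv' : ∀ (g : G) (n : N),
      Y.character ⟨g * n * g⁻¹, hN.conj_mem n n.2 g⟩ = Y.character n := by
    rw [hYϑ]; exact hinv
  have hfin : Finite (Cfsg.Agent.Lib.H24.extGroup N Y M) :=
    Cfsg.Agent.Lib.H24.finite_extGroup N Y M Nat.card_pos hY hinv'
  have hpr : Function.Surjective (Cfsg.Agent.Lib.H24.extFst N Y M) :=
    Cfsg.Agent.Lib.H24.extFst_surjective N Y M hY hinv'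
  set K : Subgroup (Cfsg.Agent.Lib.H24.extGroup N Y M) :=
    N.comap (Cfsg.Agent.Lib.H24.extFst N Y M) with hK
  have hKn : K.Normal := Subgroup.Normal.comap hN _
  have hlamc : Cfsg.IsCharacter K (Cfsg.Agent.Lib.H24.extLam N Y M hY) ∧
      Cfsg.Agent.Lib.H24.extLam N Y M hY 1 = 1 :=
    ⟨Cfsg.Agent.Lib.H24.isCharacter_extLam N Y M hY, Cfsg.Agent.Lib.H24.extLam_one N Y M hY⟩
  have hlaminv : ∀ (g : Cfsg.Agent.Lib.H24.extGroup N Y M) (x : K),
      Cfsg.Agent.Lib.H24.extLam N Y M hY ⟨g * x * g⁻¹, hKn.conj_mem (x : _) x.2 g⟩ =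
        Cfsg.Agent.Lib.H24.extLam N Y M hY x :=
    fun g x => Cfsg.Agent.Lib.H24.extLam_conj N Y M hY g x _
  have hsyl' : ∀ p : ℕ, p.Prime → p ∣ orderOf (Cfsg.Agent.Lib.H24.extLam N Y M hY) →
      ∃ (H : Subgroup (Cfsg.Agent.Lib.H24.extGroup N Y M)) (hKH : K ≤ H) (ν : H → ℂ),
        Nat.Coprime H.index p ∧ (∃ k : ℕ, K.relIndex H = p ^ k) ∧ Cfsg.IsCharacter H ν ∧
          ν 1 = 1 ∧ ∀ x : K, ν ⟨(x : _), hKH x.2⟩ = Cfsg.Agent.Lib.H24.extLam N Y M hY x := by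
    intro p hp _
    obtain ⟨P, hNP, η, hcop, ⟨k, hk⟩, hη, hηN⟩ := hsyl p hp
    obtain ⟨ν, hν, hν1, hνK⟩ := Cfsg.Agent.Lib.H24.exists_linear_of_extension N Y M hY P hNP η
      (Cfsg.Agent.Lib.L0.isCharacter_of_irr hη) (by intro n; rw [hηN, hYϑ])
    refine ⟨P.comap (Cfsg.Agent.Lib.H24.extFst N Y M), Subgroup.comap_mono hNP, ν, ?_, ⟨k, ?_⟩,
      hν, hν1, hνK⟩
    · rw [Subgroup.index_comap_of_surjective P hpr]; exact hcop
    · rw [← hk, hK, Subgroup.relIndex_comap, Subgroup.map_comap_eq_self_of_surjective hpr]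
  obtain ⟨μ, hμ, hμ1, hμK⟩ := Cfsg.Agent.Lib.H23.exists_linear_extension_of_sylow K
    (Cfsg.Agent.Lib.H24.extLam N Y M hY) hlamc hlaminv hsyl'
  obtain ⟨X, hX⟩ := Cfsg.Agent.Lib.H24.exists_extension_of_linear N Y M hY hinv' μ hμ hμ1 hμK
  have hXirr : X.IsIrreducible := by
    apply Cfsg.Agent.Lib.H23.isIrreducible_of_comp N.subtype X
    have : (MonoidHom.comp X N.subtype : Representation ℂ N (Fin d → ℂ)) = Y := by
      ext n : 1
      exact hX n
    rw [this]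
    exact hY
  refine ⟨X.character, Cfsg.Agent.Lib.H24.isIrrCharacter_of_irreducible X hXirr, ?_⟩
  intro n
  rw [← hYϑ]
  show LinearMap.trace ℂ _ (X n) = LinearMap.trace ℂ _ (Y n)
  rw [hX]

end Cfsg.Agent.S0888
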