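import Cfsg.Statements.S0889
import Mathlib
import Cfsg.Agent.Lib.H24.BergerE

set_option autoImplicit false
open Cfsg

namespace Cfsg.Agent.S0889

/-- Let G be a finite solvable group and χ an irreducible character of G such that for every normal subgroup N the restriction of χ to N is a natural-number multiple of one irreducible character of N. Then χ is not induced from a character of any proper subgroup. -/
theorem result {G : Type*} [Group G] [Fintype G] [Group.IsSolvable G] (χ : G → ℂ) (hχ : Cfsg.IsIrrCharacter G χ) (hqp : ∀ (N : Subgroup G), N.Normal → ∃ (ϑ : N → ℂ) (e : ℕ), Cfsg.IsIrrCharacter N ϑ ∧ (fun n : N => χ n) = (e : ℂ) • ϑ) (K : Subgroup G) (hK : K ≠ ⊤) (ψ : K → ℂ) (hψ : Cfsg.IsCharacter K ψ) : Cfsg.indFun K ψ ≠ χ := by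
  classical
  intro hind
  have hindirr : Cfsg.IsIrrCharacter G (Cfsg.indFun K ψ) := by rw [hind]; exact hχ
  have hψirr : Cfsg.IsIrrCharacter K ψ :=
    Cfsg.Agent.Lib.H24.Berger.irr_of_indFun_irr K hψ hindirr
  have hsolv : Group.IsSolvable (G ⧸ (⊥ : Subgroup G)) :=
    Cfsg.Agent.Lib.H24.Berger.isSolvable_quotient_of_le (⊥ : Subgroup G) (⊥ : Subgroup G) le_rfl
      (Group.isSolvable_of_surjective (f := QuotientGroup.mk' (⊥ : Subgroup G))
        (QuotientGroup.mk'_surjective _))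
  obtain ⟨M, hMn, -, hnh⟩ := Cfsg.Agent.Lib.H24.Berger.berger_P ((⊥ : Subgroup G).index + 1) G
    (⊥ : Subgroup G) K (Nat.lt_succ_self _) bot_le hK hsolv ψ hψirr hindirr
  apply hnh
  obtain ⟨ϑ, e, hϑ, he⟩ := hqp M hMn
  refine ⟨ϑ, e, hϑ, ?_⟩
  rw [hind]
  exact he

end Cfsg.Agent.S0889
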