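import Cfsg.Statements.S0892
import Cfsg.Agent.Lib.H18.AltStem3
import Cfsg.Agent.Lib.H18.StemSmall

set_option autoImplicit false
open Cfsg

namespace Cfsg.Agent.S0892

open Cfsg.Agent.Lib.H18

theorem card_alt (n : ℕ) (hn : 2 ≤ n) :
    2 * Nat.card (alternatingGroup (Fin n)) = n.factorial := by
  haveI : Nontrivial (Fin n) := Fin.nontrivial_iff_two_le.mpr hn
  rw [two_mul_nat_card_alternatingGroup, Nat.card_perm, Nat.card_eq_fintype_card,
    Fintype.card_fin]

/-- Let n ≥ 4 with n ≠ 6 and n ≠ 7, and let Γ be a finite group with a subgroup Z contained in both the centre and the commutator subgroup of Γ such that Γ / Z is isomorphic to the alternating group on n letters. Then Z has order at most 2. -/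
theorem result (n : ℕ) (hn : 4 ≤ n) (h6 : n ≠ 6) (h7 : n ≠ 7) {Γ : Type*} [Group Γ] [Finite Γ] (Z : Subgroup Γ) [Z.Normal] (hZc : Z ≤ Subgroup.center Γ) (hZd : Z ≤ commutator Γ) (e : Γ ⧸ Z ≃* alternatingGroup (Fin n)) : Nat.card Z ≤ 2 := by
  set σ : Γ →* alternatingGroup (Fin n) := e.toMonoidHom.comp (QuotientGroup.mk' Z) with hσdef
  have hσ : Function.Surjective σ := by
    rw [hσdef]
    exact e.surjective.comp (QuotientGroup.mk'_surjective Z)
  have hk : σ.ker = Z := by
    ext x
    rw [MonoidHom.mem_ker, hσdef]
    simp only [MonoidHom.coe_comp, MulEquiv.coe_toMonoidHom, Function.comp_apply,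
      QuotientGroup.mk'_apply]
    rw [MulEquiv.map_eq_one_iff, QuotientGroup.eq_one_iff]
  have hker : σ.ker ≤ Subgroup.center Γ := hk ▸ hZc
  have hstem : σ.ker ≤ commutator Γ := hk ▸ hZd
  rw [← hk]
  by_cases h8 : 8 ≤ n
  · obtain ⟨m, rfl⟩ : ∃ m, n = m + 2 := ⟨n - 2, by omega⟩
    exact AltStem.card_ker_le_two (by omega) hσ hker hstem
  · have hn45 : n = 4 ∨ n = 5 := by omega
    rcases hn45 with rfl | rfl
    · have hc : Nat.card (alternatingGroup (Fin 4)) = 12 := by
        have := card_alt 4 (by norm_num)
        have h24 : (4 : ℕ).factorial = 24 := by decide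
        rw [h24] at this
        omega
      apply StemSmall.card_ker_le_two hσ hker hstem
      · rw [hc]; norm_num
      · intro p hp hp2 hd
        rw [hc] at hd
        have hle : p ^ 2 ≤ 12 := Nat.le_of_dvd (by norm_num) hd
        have hp4 : p < 4 := by nlinarith
        have h2 := hp.two_le
        interval_cases p
        · exact hp2 rfl
        · norm_num at hd
    · have hc : Nat.card (alternatingGroup (Fin 5)) = 60 := by
        have := card_alt 5 (by norm_num)
        have h120 : (5 : ℕ).factorial = 120 := by decide
        rw [h120] at this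
        omega
      apply StemSmall.card_ker_le_two hσ hker hstem
      · rw [hc]; norm_num
      · intro p hp hp2 hd
        rw [hc] at hd
        have hle : p ^ 2 ≤ 60 := Nat.le_of_dvd (by norm_num) hd
        have hp8 : p < 8 := by nlinarith
        have h2 := hp.two_le
        interval_cases p
        · exact hp2 rfl
        · norm_num at hd
        · norm_num at hp
        · norm_num at hd
        · norm_num at hp
        · norm_num at hd

end Cfsg.Agent.S0892
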