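import Cfsg.Statements.S0893
import Cfsg.Agent.Lib.H23.Extraspecial
import Cfsg.Agent.Lib.L0.CharIndChar
import Cfsg.Agent.S4755

set_option autoImplicit false
open Cfsg

namespace Cfsg.Agent.S0893

open Module Cfsg.Agent.Lib.L0 Cfsg.Agent.Lib.H23

/-- A character of degree one is irreducible. -/
theorem isIrrCharacter_of_one {G : Type*} [Group G] {χ : G → ℂ} (hχ : Cfsg.IsCharacter G χ)
    (h1 : χ 1 = 1) : Cfsg.IsIrrCharacter G χ := by
  have h := isIrrCharacter_of_hom (linearCharHom hχ h1)
  convert h using 1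
  funext g
  exact (linearCharHom_apply hχ h1 g).symm

/-- The degree of a sum of functions all taking the value `c` at `1`. -/
theorem list_sum_one {G : Type*} [Group G] (c : ℂ) (l : List (G → ℂ)) (h : ∀ χ ∈ l, χ 1 = c) :
    l.sum 1 = (l.length : ℂ) * c := by
  induction l with
  | nil => simp
  | cons d l ih =>
    rw [List.sum_cons, Pi.add_apply, List.length_cons, ih (fun χ hχ => h χ (by simp [hχ])),
      h d (by simp)]
    push_cast
    ring

/-- The value at the identity of an induced function. -/
theorem indFun_one {G : Type*} [Group G] [Fintype G] (A : Subgroup G) (θ : A → ℂ) :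
    Cfsg.indFun A θ 1 = (A.index : ℂ) * θ 1 := by
  rw [indFun_apply]
  have h1 : ∀ x : G, Cfsg.extendByZero A θ (x⁻¹ * 1 * x) = θ 1 := by
    intro x
    have : x⁻¹ * 1 * x = ((1 : A) : G) := by simp
    rw [this, extendByZero_apply_mem]
  rw [Finset.sum_congr rfl (fun x _ => h1 x), Finset.sum_const, Finset.card_univ, nsmul_eq_mul,
    ← Nat.card_eq_fintype_card, ← Subgroup.card_mul_index A]
  have hA : (Nat.card A : ℂ) ≠ 0 := Nat.cast_ne_zero.mpr Nat.card_pos.ne'
  push_cast
  field_simp

/-- Let P be an extraspecial p-group of order p ^ (2 * n + 1), A an abelian subgroup of order p ^ (n + 1), and λ a character of A of degree 1 that is not identically 1 on the elements of A lying in the centre of P. Then the function induced from λ to P is an irreducible character of P and vanishes at every element outside the centre. -/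
theorem result {P : Type*} [Group P] [Fintype P] (p n : ℕ) [Fact p.Prime] (hP : Cfsg.IsExtraspecial p P) (hcard : Nat.card P = p ^ (2 * n + 1)) (A : Subgroup P) (hab : ∀ a ∈ A, ∀ b ∈ A, a * b = b * a) (hA : Nat.card A = p ^ (n + 1)) (lam : A → ℂ) (hlam : Cfsg.IsCharacter A lam ∧ lam 1 = 1) (hZ : ∃ a : A, (a : P) ∈ Subgroup.center P ∧ lam a ≠ 1) : Cfsg.IsIrrCharacter P (Cfsg.indFun A lam) ∧ ∀ x : P, x ∉ Subgroup.center P → Cfsg.indFun A lam x = 0 := by
  classical
  have hp : p.Prime := Fact.out
  have : Fintype A := Fintype.ofFinite A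
  obtain ⟨a, haZ, hla⟩ := hZ
  have hlamirr : Cfsg.IsIrrCharacter A lam := isIrrCharacter_of_one hlam.1 hlam.2
  have hindchar : Cfsg.IsCharacter P (Cfsg.indFun A lam) := isCharacter_indFun A hlam.1
  -- degree of the induced character
  have hidx : A.index = p ^ n := by
    have h1 := Subgroup.card_mul_index A
    rw [hA, hcard] at h1
    have : p ^ (n + 1) * A.index = p ^ (n + 1) * p ^ n := by
      rw [h1]; ring
    exact Nat.eq_of_mul_eq_mul_left (pow_pos hp.pos _) this
  have hdeg : Cfsg.indFun A lam 1 = (p : ℂ) ^ n := by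
    rw [indFun_one, hidx, hlam.2, mul_one]; push_cast; rfl
  obtain ⟨l, hl, hsum⟩ := isCharacter_exists_irr_decomp hindchar
  -- each constituent has degree p ^ n
  have hconst : ∀ χ ∈ l, χ 1 = (p : ℂ) ^ n := by
    intro χ hχl
    have hχ := hl χ hχl
    rcases irr_one_of_extraspecial p n hP hcard ⟨χ, hχ⟩ with h1 | h1
    · exfalso
      -- χ is linear; compare with lam on A
      have hcount : Cfsg.classInner (Cfsg.indFun A lam) χ = (l.count χ : ℂ) := by
        rw [hsum]; exact classInner_irr_list_sum hl hχ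
      have hne : Cfsg.classInner (Cfsg.indFun A lam) χ ≠ 0 := by
        rw [hcount]
        exact Nat.cast_ne_zero.mpr (List.count_pos_iff.mpr hχl).ne'
      rw [Cfsg.Agent.Lib.L0.frobenius_reciprocity A lam χ
        (isClassFunction_of_isCharacter (isCharacter_of_irr hχ))] at hne
      have hresirr : Cfsg.IsIrrCharacter A (fun h : A => χ h) :=
        isIrrCharacter_of_one (isCharacter_restrict A (isCharacter_of_irr hχ)) h1
      rw [irr_classInner_eq hlamirr hresirr] at hne
      have heq : lam = fun h : A => χ h := by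
        by_contra hcon
        exact hne (if_neg hcon)
      apply hla
      rw [heq]
      -- χ a = 1 since a is a commutator
      have hacomm : (1 : P)⁻¹ * (a : P) ∈ commutator P := by
        rw [hP.1.2.2]; simpa using haZ
      have h5 : χ (a : P) = χ 1 :=
        Cfsg.Agent.S4755.linear_eq_of_mem_commutator ⟨χ, hχ⟩ h1 1 (a : P) hacomm
      show χ (a : P) = 1
      rw [h5]
      exact h1
    · exact h1
  -- so there is exactly one constituent
  have hlen : ((l.length : ℕ) : ℂ) * (p : ℂ) ^ n = (p : ℂ) ^ n := by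
    rw [← list_sum_one _ l hconst, ← hsum, hdeg]
  have hpn : (p : ℂ) ^ n ≠ 0 := pow_ne_zero _ (Nat.cast_ne_zero.mpr hp.ne_zero)
  have hlen1 : l.length = 1 := by
    have : ((l.length : ℕ) : ℂ) = 1 := by
      have h2 : ((l.length : ℕ) : ℂ) * (p : ℂ) ^ n = 1 * (p : ℂ) ^ n := by rw [hlen, one_mul]
      exact mul_right_cancel₀ hpn h2
    exact_mod_cast this
  obtain ⟨χ, rfl⟩ := List.length_eq_one_iff.mp hlen1
  rw [List.sum_singleton] at hsum
  have hχ := hl χ (by simp)
  rw [hsum]
  refine ⟨hχ, ?_⟩
  intro x hx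
  obtain ⟨m, ρ, hirr, hρ⟩ := hχ
  have : ρ.IsIrreducible := hirr
  rw [← hρ]
  apply char_eq_zero_of_not_mem_center_of_extraspecial p hP ρ _ hx
  intro hdim
  have h1 := hconst ρ.character (by rw [hρ]; simp)
  rw [Representation.char_one, hdim] at h1
  have hn := extraspecial_exponent_ne_zero p n hP hcard
  have : (p ^ n : ℕ) = 1 := by exact_mod_cast h1.symm
  rcases Nat.pow_eq_one.mp this with h2 | h2
  · exact hp.one_lt.ne' h2
  · exact hn h2

end Cfsg.Agent.S0893
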