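-- Statement S0895
import Cfsg.Statements.S0895
import Cfsg.Agent.Lib.H24.CharFSInd
import Cfsg.Agent.Lib.H11.AltForm

set_option autoImplicit false
open Cfsg

namespace Cfsg.Agent.S0895

open Cfsg.Agent.Lib.H24 Cfsg.Agent.Lib.L0

/-- Let χ be a real-valued irreducible character of a finite group G whose degree is an odd natural number. Then the average over s in G of χ (s * s) equals 1. -/
theorem result {G : Type*} [Group G] [Fintype G] (χ : G → ℂ) (hχ : Cfsg.IsIrrCharacter G χ) (hreal : ∀ g : G, (χ g).im = 0) (d : ℕ) (hd : χ 1 = d) (hodd : Odd d) : (Nat.card G : ℂ)⁻¹ * ∑ s : G, χ (s * s) = 1 := by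
  obtain ⟨n, ρ, hρ, rfl⟩ := hχ
  rw [← fsInd_def]
  rcases fsInd_rep_cases ρ hρ with ⟨_, s, hs⟩ | ⟨h1 | h1, _⟩
  · exact absurd (hreal s) hs
  · exact h1
  · exfalso
    obtain ⟨B, hne, hB, hflip⟩ := exists_invForm_of_real ρ hρ hreal
    rw [h1] at hflip
    have hskew : ∀ v w, B w v = - B v w := by
      intro v w
      have h3 := congrArg (fun F : (Fin n → ℂ) →ₗ[ℂ] (Fin n → ℂ) →ₗ[ℂ] ℂ => F v w) hflip
      simpa using h3
    have hAlt : LinearMap.BilinForm.IsAlt B := by
      intro v
      have := hskew v v
      have h2 : (2 : ℂ) * B v v = 0 := by linear_combination this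
      rcases mul_eq_zero.mp h2 with h | h
      · norm_num at h
      · exact h
    have hker := hB.ker_eq_bot hρ hne
    have hnd : LinearMap.BilinForm.Nondegenerate B := by
      constructor
      · intro x hx
        have : B x = 0 := LinearMap.ext (fun y => hx y)
        have hx' : x ∈ LinearMap.ker B := this
        rw [hker] at hx'
        exact hx'
      · intro y hy
        have : B y = 0 := LinearMap.ext (fun x => by
          rw [hskew x y, hy x, neg_zero]
          rfl)
        have hy' : y ∈ LinearMap.ker B := this
        rw [hker] at hy'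
        exact hy'
    have hn : Module.finrank ℂ (Fin n → ℂ) = n := Module.finrank_fin_fun ℂ
    have heven := Cfsg.Agent.Lib.H11.even_finrank_of_nondegenerate_isAlt n B hAlt hnd hn
    rw [Representation.char_one, hn] at hd
    have : n = d := by exact_mod_cast hd
    rw [this] at heven
    exact (Nat.not_even_iff_odd.mpr hodd) heven

end Cfsg.Agent.S0895
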