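import Mathlib
import Cfsg.Statements.S0898
import Cfsg.Agent.Lib.H8.FTBound
import Cfsg.Agent.Lib.H24.CharKer
import Cfsg.Agent.Lib.L0.CharDegree

set_option autoImplicit false
open Cfsg

namespace Cfsg.Agent.S0898

open Cfsg.Agent.Lib.L0 Cfsg.Agent.Lib.H24 Cfsg.Agent.Lib.H8
open scoped ComplexConjugate

section aux
variable {G : Type*} [Group G] [Fintype G]

/-- Average over `H` of a function on `G`. -/
noncomputable def evH (H : Subgroup G) [Fintype H] (f : G → ℂ) : ℂ :=
  (Nat.card H : ℂ)⁻¹ * ∑ h : H, f h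

theorem evH_add (H : Subgroup G) [Fintype H] (f g : G → ℂ) : evH H (f + g) = evH H f + evH H g := by
  simp only [evH, Pi.add_apply, Finset.sum_add_distrib, mul_add]

theorem evH_zero (H : Subgroup G) [Fintype H] : evH H (0 : G → ℂ) = 0 := by
  simp [evH]

theorem evH_one (H : Subgroup G) [Fintype H] : evH H (1 : G → ℂ) = 1 := by
  simp only [evH, Pi.one_apply, Finset.sum_const, Finset.card_univ, nsmul_eq_mul, mul_one,
    ← Nat.card_eq_fintype_card]
  have : (Nat.card H : ℂ) ≠ 0 := by exact_mod_cast Nat.card_pos.ne'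
  field_simp

theorem list_bound (H : Subgroup G) [Fintype H] (s : ℝ) (hs : 0 ≤ s) :
    ∀ L : List (G → ℂ), (∀ θ ∈ L, s * ‖evH H θ‖ < (θ 1).re) →
      s * ‖evH H L.sum‖ ≤ (L.sum 1).re ∧ (L ≠ [] → s * ‖evH H L.sum‖ < (L.sum 1).re) := by
  intro L
  induction L with
  | nil =>
    intro _
    refine ⟨by simp [evH_zero], fun h => absurd rfl h⟩
  | cons a l ih =>
    intro h
    have ha := h a (by simp)
    have hl := (ih fun θ hθ => h θ (by simp [hθ])).1
    have key : s * ‖evH H (a :: l).sum‖ < ((a :: l).sum 1).re := by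
      rw [List.sum_cons, evH_add, Pi.add_apply, Complex.add_re]
      have h1 : ‖evH H a + evH H l.sum‖ ≤ ‖evH H a‖ + ‖evH H l.sum‖ := norm_add_le _ _
      nlinarith
    exact ⟨key.le, fun _ => key⟩

end aux

/-- Let H be an abelian subgroup of the finite group G meeting the centre of G trivially, such that for every non-central g the centralizer of g has nontrivial intersection with at most one conjugate of H. Let χ be an irreducible character of G with χ h ≠ χ 1 for some h in H, and let c be the inner product of the restriction of χ to H with the principal character. Then χ(1)² > (order of H)·c²; and if in addition χ 1 ≠ 1 and no proper normal subgroup of G contains H, then (1 + χ 1)² > order of H (both sides read as real numbers). -/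
theorem result {G : Type*} [Group G] [Fintype G] (H : Subgroup G) [Fintype H] (hab : ∀ a ∈ H, ∀ b ∈ H, a * b = b * a) (hZ : H ⊓ Subgroup.center G = ⊥) (hone : ∀ g : G, g ∉ Subgroup.center G → ∀ a b : G, Subgroup.centralizer ({g} : Set G) ⊓ H.map (MulAut.conj a).toMonoidHom ≠ ⊥ → Subgroup.centralizer ({g} : Set G) ⊓ H.map (MulAut.conj b).toMonoidHom ≠ ⊥ → H.map (MulAut.conj a).toMonoidHom = H.map (MulAut.conj b).toMonoidHom) (χ : G → ℂ) (hχ : Cfsg.IsIrrCharacter G χ) (hker : ∃ h ∈ H, χ h ≠ χ 1) : (χ 1).re ^ 2 > (Nat.card H : ℝ) * (Cfsg.classInner (fun h : H => χ h) (fun _ => 1)).re ^ 2 ∧ (χ 1 ≠ 1 → (∀ M : Subgroup G, M.Normal → H ≤ M → M = ⊤) → (1 + (χ 1).re) ^ 2 > (Nat.card H : ℝ)) := by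
  classical
  have hχc := isCharacter_of_irr hχ
  have hbase := ft_degree_bound H hZ hone χ hχ hker
  obtain ⟨d, hd0, hd'⟩ := irr_one_eq (⟨χ, hχ⟩ : IrrCharacter G)
  have hd : χ 1 = (d : ℂ) := hd'
  have hcI : ∀ f : G → ℂ, classInner (fun h : H => f h) (fun _ => 1) = evH H f := by
    intro f
    simp [classInner, evH]
  have hre : ∀ z : ℂ, z.re ^ 2 ≤ ‖z‖ ^ 2 := by
    intro z
    have := Complex.abs_re_le_norm z
    have h2 : |z.re| ^ 2 ≤ ‖z‖ ^ 2 := pow_le_pow_left₀ (abs_nonneg _) this 2
    rwa [sq_abs] at h2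
  have hHpos : (0 : ℝ) < Nat.card H := by exact_mod_cast Nat.card_pos
  refine ⟨?_, ?_⟩
  · -- first claim
    rw [hcI χ]
    have h1 : ‖χ 1‖ ^ 2 = (χ 1).re ^ 2 := by
      rw [hd]; simp
    have h2 : (Nat.card H : ℝ) * (evH H χ).re ^ 2 ≤ (Nat.card H : ℝ) * ‖evH H χ‖ ^ 2 :=
      mul_le_mul_of_nonneg_left (hre _) hHpos.le
    have h3 : (Nat.card H : ℝ) * ‖evH H χ‖ ^ 2 < ‖χ 1‖ ^ 2 := hbase
    rw [← h1]
    exact lt_of_le_of_lt h2 h3
  · -- second claim
    intro hχ1 hnc
    -- Ψ = χ χ̄
    have hΨ : IsCharacter G (χ * fun g => conj (χ g)) := isCharacter_mul hχc (isCharacter_conj hχc)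
    obtain ⟨L, hL, hΨL⟩ := isCharacter_exists_irr_decomp hΨ
    -- multiplicity of the trivial character is one
    have hcount : L.count (1 : G → ℂ) = 1 := by
      have h1 := classInner_irr_list_sum hL (Cfsg.Agent.Lib.L0.isIrrCharacter_one (G := G))
      rw [← hΨL] at h1
      have h2 : classInner (χ * fun g => conj (χ g)) (1 : G → ℂ) = classInner χ χ := by
        simp [classInner]
      rw [h2, irr_classInner_self hχ] at h1
      exact_mod_cast h1.symm
    have hmem : (1 : G → ℂ) ∈ L := by
      rw [← List.count_pos_iff]; omega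
    have hperm := List.perm_cons_erase hmem
    set L' := L.erase (1 : G → ℂ) with hL'
    have hsum : (χ * fun g => conj (χ g)) = 1 + L'.sum := by
      rw [hΨL, hperm.sum_eq, List.sum_cons]
    have hL'irr : ∀ θ ∈ L', IsIrrCharacter G θ := fun θ hθ => hL θ (List.mem_of_mem_erase hθ)
    have hL'ne : ∀ θ ∈ L', θ ≠ (1 : G → ℂ) := by
      intro θ hθ h1
      rw [h1] at hθ
      have := List.count_pos_iff.mpr hθ
      rw [hL', List.count_erase_self, hcount] at this
      omega
    -- each θ in L' is nonconstant on H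
    have hL'ker : ∀ θ ∈ L', ∃ h ∈ H, θ h ≠ θ 1 := by
      intro θ hθ
      by_contra hcon
      push Not at hcon
      have hirr := hL'irr θ hθ
      have hle : H ≤ charKer θ (isCharacter_of_irr hirr) := fun h hh => mem_charKer.mpr (hcon h hh)
      have htop := hnc _ (charKer_normal θ _) hle
      have := irr_eq_trivial_of_charKer_eq_top hirr htop
      exact hL'ne θ hθ this
    set s : ℝ := Real.sqrt (Nat.card H) with hs
    have hs0 : 0 ≤ s := Real.sqrt_nonneg _
    have hs2 : s ^ 2 = (Nat.card H : ℝ) := Real.sq_sqrt hHpos.le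
    have hbnd : ∀ θ ∈ L', s * ‖evH H θ‖ < (θ 1).re := by
      intro θ hθ
      have hirr := hL'irr θ hθ
      have h1 := ft_degree_bound H hZ hone θ hirr (hL'ker θ hθ)
      obtain ⟨n, hn0, hn'⟩ := irr_one_eq (⟨θ, hirr⟩ : IrrCharacter G)
      have hn : θ 1 = (n : ℂ) := hn'
      rw [hn] at h1 ⊢
      simp only [Complex.norm_natCast, Complex.natCast_re] at h1 ⊢
      rw [← hs2, ← mul_pow] at h1
      have h2 : (0 : ℝ) ≤ s * ‖evH H θ‖ := mul_nonneg hs0 (norm_nonneg _)
      have h3 : (0 : ℝ) ≤ n := Nat.cast_nonneg n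
      exact lt_of_pow_lt_pow_left₀ 2 h3 h1
    obtain ⟨hle, hlt⟩ := list_bound H s hs0 L' hbnd
    -- degrees
    have hdeg : (L'.sum 1).re = (d : ℝ) ^ 2 - 1 := by
      have := congrFun hsum 1
      simp only [Pi.mul_apply, Pi.add_apply, Pi.one_apply, hd, Complex.conj_natCast] at this
      have h2 := congrArg Complex.re this
      simp only [Complex.add_re, Complex.one_re, Complex.mul_re, Complex.natCast_re,
        Complex.natCast_im, mul_zero, sub_zero] at h2
      nlinarith
    -- evH of Ψ
    have hevΨ : evH H (χ * fun g => conj (χ g)) = 1 + evH H L'.sum := by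
      rw [hsum, evH_add, evH_one]
    -- lower bound r ≥ d
    obtain ⟨lH, hlH, hχH⟩ := isCharacter_exists_irr_decomp (isCharacter_restrict H hχc)
    have hcomm : ∀ a b : H, a * b = b * a := fun a b => Subtype.ext (hab a a.2 b b.2)
    have hlen : (lH.length : ℂ) = d := by
      have h1 : (fun h : H => χ h) 1 = lH.sum 1 := by rw [hχH]
      rw [list_sum_apply] at h1
      have h2 : lH.map (fun ψ => ψ 1) = lH.map (fun _ => (1 : ℂ)) := by
        apply List.map_congr_left
        intro ψ hψ
        exact irr_apply_one_of_comm hcomm (hlH ψ hψ)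
      rw [h2] at h1
      simp only [List.map_const', List.sum_replicate, smul_eq_mul, mul_one] at h1
      have h3 : χ 1 = (lH.length : ℂ) := by simpa using h1
      rw [← h3, hd]
    have hlen' : lH.length = d := by exact_mod_cast hlen
    have hnormH : classInner (fun h : H => χ h) (fun h : H => χ h)
        = (((lH.map (fun a => lH.count a)).sum : ℕ) : ℂ) := by
      rw [hχH, classInner_list_sum_left]
      have h1 : lH.map (fun a => classInner a lH.sum) = lH.map (fun a => ((lH.count a : ℕ) : ℂ)) := by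
        apply List.map_congr_left
        intro a ha
        rw [← classInner_conj_symm, classInner_irr_list_sum hlH (hlH a ha)]
        simp
      rw [h1, Nat.cast_list_sum, List.map_map]
      rfl
    have hr : (d : ℝ) ≤ (evH H (χ * fun g => conj (χ g))).re := by
      have h1 : classInner (fun h : H => χ h) (fun h : H => χ h) = evH H (χ * fun g => conj (χ g)) := by
        simp [classInner, evH]
      rw [← h1, hnormH]
      simp only [Complex.natCast_re]
      have h2 := List.length_le_sum_of_one_le (lH.map (fun a => lH.count a)) (by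
        intro i hi
        rw [List.mem_map] at hi
        obtain ⟨a, ha, rfl⟩ := hi
        exact List.count_pos_iff.mpr ha)
      rw [List.length_map, hlen'] at h2
      exact_mod_cast h2
    -- combine
    have hd1 : (1 : ℝ) ≤ d := by exact_mod_cast hd0
    have hdne : d ≠ 1 := by
      rintro rfl
      apply hχ1
      rw [hd]; simp
    have hd2 : (2 : ℝ) ≤ d := by
      have : 2 ≤ d := by omega
      exact_mod_cast this
    have hnormge : (d : ℝ) - 1 ≤ ‖evH H L'.sum‖ := by
      have h1 : evH H L'.sum = evH H (χ * fun g => conj (χ g)) - 1 := by rw [hevΨ]; ring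
      have h2 : (evH H L'.sum).re ≤ ‖evH H L'.sum‖ := Complex.re_le_norm _
      rw [h1] at h2 ⊢
      simp only [Complex.sub_re, Complex.one_re] at h2
      linarith
    have hL'ne' : L' ≠ [] := by
      rintro h
      rw [h] at hdeg
      simp at hdeg
      nlinarith
    have hfin := hlt hL'ne'
    rw [hdeg] at hfin
    have h5 : s * ((d : ℝ) - 1) < (d : ℝ) ^ 2 - 1 :=
      lt_of_le_of_lt (mul_le_mul_of_nonneg_left hnormge hs0) hfin
    have h6 : s < (d : ℝ) + 1 := by
      have hpos : (0 : ℝ) < (d : ℝ) - 1 := by linarith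
      have : s * ((d : ℝ) - 1) < ((d : ℝ) + 1) * ((d : ℝ) - 1) := by nlinarith
      exact lt_of_mul_lt_mul_right this hpos.le
    have h7 : (χ 1).re = d := by rw [hd]; simp
    rw [h7, ← hs2]
    have : s ^ 2 < ((d : ℝ) + 1) ^ 2 := pow_lt_pow_left₀ h6 hs0 (by norm_num)
    nlinarith

end Cfsg.Agent.S0898
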