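import Cfsg.Statements.S0899
import Cfsg.Agent.Lib.H8.FTReduce

set_option autoImplicit false
open Cfsg

namespace Cfsg.Agent.S0899

universe u

/-- The induction: every finite group embedding into `G` has normal Sylow `p`-subgroups. -/
theorem aux {G : Type u} [Group G] [Finite G] (p : ℕ) [hp : Fact p.Prime] (χ : G → ℂ)
    (hχ : IsCharacter G χ) (hfaith : ∀ g : G, χ g = χ 1 → g = 1) (n : ℕ) (hn : χ 1 = n)
    (h : (n + 1) ^ 2 ≤ p ∨ (n + 1 < p ∧ ∀ K : Subgroup G, ¬ p ^ 2 ∣ Nat.card K →
      ∀ Q : Sylow p K, (Q : Subgroup K).Normal)) :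
    ∀ N : ℕ, ∀ (H : Type u) [Group H] [Finite H] (φ : H →* G), Function.Injective φ →
      Nat.card H = N → ∀ P : Sylow p H, (P : Subgroup H).Normal := by
  intro N
  induction N using Nat.strong_induction_on with
  | _ N IH =>
  intro H _ _ φ hφ hcard P
  by_contra hP
  have hnp : n + 1 < p := by
    rcases h with h | h
    · have h2 : 2 ≤ p := hp.out.two_le
      by_contra hlt
      push Not at hlt
      have h3 : p * p ≤ (n + 1) ^ 2 := by
        rw [sq]; exact Nat.mul_le_mul hlt hlt
      have h4 : p * p ≤ p := le_trans h3 h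
      nlinarith
    · exact h.1
  -- the character of `H`
  have hψ : IsCharacter H (fun x => χ (φ x)) := by
    obtain ⟨m, ρ, hρ⟩ := hχ
    refine ⟨m, ρ.comp φ, ?_⟩
    funext x
    rw [← hρ]
    rfl
  have hψf : ∀ x : H, (fun x => χ (φ x)) x = (fun x => χ (φ x)) 1 → x = 1 := by
    intro x hx
    apply hφ
    rw [map_one]
    apply hfaith
    simpa using hx
  have hψ1 : (fun x => χ (φ x)) 1 = n := by
    show χ (φ 1) = n
    rw [map_one, hn]
  have hmin : Cfsg.Agent.Lib.H8.FTReduce.MinHyp p H := by
    intro K hK Q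
    have hlt : Nat.card K < N := by
      rw [← hcard]
      exact lt_of_le_of_ne (Subgroup.card_le_card_group K)
        (fun e => hK (Subgroup.eq_top_of_card_eq K e))
    exact IH (Nat.card K) hlt K (φ.comp K.subtype)
      (hφ.comp Subtype.coe_injective) rfl Q
  have hlt := Cfsg.Agent.Lib.H8.FTReduce.card_lt_of_min (fun x => χ (φ x)) hψ hψf n hψ1 hnp hmin P hP
  have hlt' : Nat.card (P : Subgroup H) < (1 + n) ^ 2 := by exact_mod_cast hlt
  have hPne : (P : Subgroup H) ≠ ⊥ := by
    intro e
    apply hP
    rw [e]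
    infer_instance
  have hcardP := P.card_eq_multiplicity
  set k := (Nat.card H).factorization p with hk
  have hk0 : k ≠ 0 := by
    intro e
    rw [e, pow_zero] at hcardP
    exact hPne ((Subgroup.card_eq_one).mp hcardP)
  have hple : p ≤ Nat.card (P : Subgroup H) := by
    rw [hcardP]
    calc p = p ^ 1 := (pow_one p).symm
      _ ≤ p ^ k := Nat.pow_le_pow_right hp.out.pos (Nat.one_le_iff_ne_zero.mpr hk0)
  rcases h with h | ⟨_, h⟩
  · have : (n + 1) ^ 2 = (1 + n) ^ 2 := by ring
    omega
  · -- `|P| = p`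
    have hk1 : k = 1 := by
      by_contra hne
      have h2 : 2 ≤ k := by omega
      have h3 : p ^ 2 ≤ p ^ k := Nat.pow_le_pow_right hp.out.pos h2
      have h4 : (1 + n) ^ 2 < p ^ 2 := by
        have : 1 + n < p := by omega
        exact Nat.pow_lt_pow_left this (by norm_num)
      omega
    have hnd : ¬ p ^ 2 ∣ Nat.card H := by
      intro hd
      have := (hp.out.pow_dvd_iff_le_factorization (Nat.card_pos (α := H)).ne').mp hd
      omega
    let e : H ≃* φ.range := MonoidHom.ofInjective hφ
    have hcr : Nat.card φ.range = Nat.card H := (Nat.card_congr e.toEquiv).symm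
    set Q₀ : Subgroup φ.range := (P : Subgroup H).map e.toMonoidHom with hQ₀
    have hQ₀c : Nat.card Q₀ = p ^ (Nat.card φ.range).factorization p := by
      rw [hcr, ← hcardP]
      exact Subgroup.card_map_of_injective e.injective
    have hQn := h φ.range (by rw [hcr]; exact hnd) (Sylow.ofCard Q₀ hQ₀c)
    rw [Sylow.coe_ofCard] at hQn
    apply hP
    have hcm : Q₀.comap e.toMonoidHom = (P : Subgroup H) :=
      Subgroup.comap_map_eq_self_of_injective e.injective _
    rw [← hcm]
    exact hQn.comap _

/-- Let G be a finite group with a faithful complex representation of degree n (on Fin n → ℂ) and p a prime. Suppose either that (n + 1) ^ 2 ≤ p, or that n + 1 < p and every subgroup of G whose order is not divisible by p ^ 2 has a normal Sylow p-subgroup. Then every Sylow p-subgroup of G is normal. -/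
theorem result {G : Type*} [Group G] [Finite G] (n : ℕ) (ρ : Representation ℂ G (Fin n → ℂ)) (hρ : Function.Injective ρ) (p : ℕ) [Fact p.Prime] (h : (n + 1) ^ 2 ≤ p ∨ (n + 1 < p ∧ ∀ K : Subgroup G, ¬ p ^ 2 ∣ Nat.card K → ∀ Q : Sylow p K, (Q : Subgroup K).Normal)) (P : Sylow p G) : (P : Subgroup G).Normal := by
  have hχ : IsCharacter G ρ.character := ⟨n, ρ, rfl⟩
  have hfaith : ∀ g : G, ρ.character g = ρ.character 1 → g = 1 := by
    intro g hg
    apply hρ
    rw [map_one]
    exact (Cfsg.Agent.Lib.L0.char_eq_char_one_iff ρ g).mp hg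
  have hn : ρ.character 1 = n := by
    rw [Representation.char_one]
    simp
  exact aux p ρ.character hχ hfaith n hn h (Nat.card G) G (MonoidHom.id G)
    Function.injective_id rfl P

end Cfsg.Agent.S0899
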