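import Cfsg.Statements.S0900
import Cfsg.Agent.Lib.H23.FullyRamified

set_option autoImplicit false
open Cfsg

namespace Cfsg.Agent.S0900

open Cfsg.Agent.Lib.L0 Cfsg.Agent.Lib.H23 Cfsg.Agent.Lib.H24
open scoped ComplexConjugate

section

variable {G : Type*} [Group G] [Fintype G] (N : Subgroup G) [hN : N.Normal] [Fintype N]
  (χ : G → ℂ) (hχ : Cfsg.IsIrrCharacter G χ) (ϑ : N → ℂ) (hϑ : Cfsg.IsIrrCharacter N ϑ)

include hχ hϑ

/-- (a) implies invariance of `ϑ`. -/
theorem invariant_of_a (e : ℕ) (he : (fun n : N => χ n) = (e : ℂ) • ϑ) (he2 : e ^ 2 = N.index) :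
    ∀ (g : G) (n : N), ϑ ⟨g * n * g⁻¹, hN.conj_mem (n : G) n.2 g⟩ = ϑ n := by
  intro g n
  have he0 : (e : ℂ) ≠ 0 := by
    intro h
    have h0 : e = 0 := by exact_mod_cast h
    rw [h0] at he2
    have : N.index ≠ 0 := Subgroup.index_ne_zero_of_finite
    exact this (by rw [← he2]; rfl)
  have h1 := congrFun he ⟨g * n * g⁻¹, hN.conj_mem (n : G) n.2 g⟩
  have h2 := congrFun he n
  simp only [Pi.smul_apply, smul_eq_mul] at h1 h2
  have hcl := isClassFunction_of_isCharacter (isCharacter_of_irr hχ) (n : G) g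
  rw [hcl, h2] at h1
  exact (mul_left_cancel₀ he0 h1).symm

/-- (a) implies `⟨χ_N, ϑ⟩ = e` and `⟨χ_N, χ_N⟩ = e²`. -/
theorem inner_of_a (e : ℕ) (he : (fun n : N => χ n) = (e : ℂ) • ϑ) :
    Cfsg.classInner (fun n : N => χ n) ϑ = e ∧
      Cfsg.classInner (fun n : N => χ n) (fun n : N => χ n) = (e : ℂ) ^ 2 := by
  rw [he]
  constructor
  · rw [classInner_smul_left, irr_classInner_self hϑ, mul_one]
  · rw [classInner_smul_left, classInner_smul_right, irr_classInner_self hϑ, Complex.conj_natCast]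
    ring

/-- Under (a), `Ind ϑ = e • χ`. -/
theorem indFun_eq_of_a (e : ℕ) (he : (fun n : N => χ n) = (e : ℂ) • ϑ) (he2 : e ^ 2 = N.index) :
    Cfsg.indFun N ϑ = (e : ℂ) • χ := by
  have hinv := invariant_of_a N χ hχ ϑ hϑ e he he2
  have hcl := isClassFunction_of_isCharacter (isCharacter_of_irr hχ)
  have hin := (inner_of_a N χ hχ ϑ hϑ e he).1
  -- norm of Ind ϑ
  have hnorm : Cfsg.classInner (Cfsg.indFun N ϑ) (Cfsg.indFun N ϑ) = (e : ℂ) ^ 2 := by
    have h := Cfsg.Agent.S0193.result N ϑ hϑ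
    have hset : Nat.card {g : G // ∀ h : N, ϑ ⟨g * h * g⁻¹, hN.conj_mem h h.2 g⟩ = ϑ h} =
        Nat.card G := by
      refine Nat.card_congr (Equiv.subtypeUnivEquiv (fun g => ?_))
      exact fun h => hinv g h
    rw [hset, ← Subgroup.card_mul_index N, ← he2] at h
    have hne : (Nat.card N : ℂ) ≠ 0 := Nat.cast_ne_zero.mpr Nat.card_pos.ne'
    push_cast at h
    exact mul_left_cancel₀ hne h
  have hfr : Cfsg.classInner (Cfsg.indFun N ϑ) χ = e := by
    rw [Cfsg.Agent.Lib.L0.frobenius_reciprocity N ϑ χ hcl, ← classInner_conj_symm, hin,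
      Complex.conj_natCast]
  have hfr' : Cfsg.classInner χ (Cfsg.indFun N ϑ) = e := by
    rw [← classInner_conj_symm, hfr, Complex.conj_natCast]
  rw [← sub_eq_zero]
  apply classInner_self_eq_zero
  rw [classInner_sub_left, classInner_sub_right, classInner_sub_right, hnorm,
    classInner_smul_right, classInner_smul_left, classInner_smul_left, classInner_smul_right,
    hfr, hfr', irr_classInner_self hχ, Complex.conj_natCast]
  ring

end

/-- Let N be a normal subgroup of the finite group G, χ an irreducible character of G and ϑ an irreducible character of N having nonzero inner product with the restriction of χ. Consider: (a) the restriction of χ to N is e • ϑ for a natural number e with e ^ 2 equal to the index of N; (b) χ vanishes outside N and ϑ is invariant under conjugation by G; (c) ϑ is invariant and every irreducible character of G having nonzero inner product with the function induced from ϑ equals χ. Then (a) ↔ (b) and (a) ↔ (c). -/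
theorem result {G : Type*} [Group G] [Fintype G] (N : Subgroup G) [hN : N.Normal] [Fintype N] (χ : G → ℂ) (hχ : Cfsg.IsIrrCharacter G χ) (ϑ : N → ℂ) (hϑ : Cfsg.IsIrrCharacter N ϑ) (hcon : Cfsg.classInner (fun n : N => χ n) ϑ ≠ 0) : ((∃ e : ℕ, (fun n : N => χ n) = (e : ℂ) • ϑ ∧ e ^ 2 = N.index) ↔ ((∀ g : G, g ∉ N → χ g = 0) ∧ ∀ (g : G) (n : N), ϑ ⟨g * n * g⁻¹, hN.conj_mem (n : G) n.2 g⟩ = ϑ n)) ∧ ((∃ e : ℕ, (fun n : N => χ n) = (e : ℂ) • ϑ ∧ e ^ 2 = N.index) ↔ (∀ (g : G) (n : N), ϑ ⟨g * n * g⁻¹, hN.conj_mem (n : G) n.2 g⟩ = ϑ n ∧ ∀ ψ : G → ℂ, Cfsg.IsIrrCharacter G ψ → Cfsg.classInner (Cfsg.indFun N ϑ) ψ ≠ 0 → ψ = χ)) := by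
  classical
  have hcl := isClassFunction_of_isCharacter (isCharacter_of_irr hχ)
  obtain ⟨f, hf⟩ := classInner_char_irr_nat (isCharacter_restrict N (isCharacter_of_irr hχ)) hϑ
  have hf' : Cfsg.classInner (fun n : N => χ n) ϑ = (f : ℂ) := hf
  have hϑ1 : ϑ 1 ≠ 0 := irr_one_ne_zero ⟨ϑ, hϑ⟩
  constructor
  · constructor
    · rintro ⟨e, he, he2⟩
      refine ⟨?_, invariant_of_a N χ hχ ϑ hϑ e he he2⟩
      rw [← classInner_restrict_self_eq_index_iff N χ hχ, (inner_of_a N χ hχ ϑ hϑ e he).2, ← he2]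
      push_cast
      rfl
    · rintro ⟨hvan, hinv⟩
      have hres := restrict_eq_smul_of_invariant N χ hχ ϑ hϑ hcon hinv
      rw [hf'] at hres
      refine ⟨f, hres, ?_⟩
      have h1 := (classInner_restrict_self_eq_index_iff N χ hχ).mpr hvan
      rw [(inner_of_a N χ hχ ϑ hϑ f hres).2] at h1
      exact_mod_cast h1
  · constructor
    · rintro ⟨e, he, he2⟩
      have hinv := invariant_of_a N χ hχ ϑ hϑ e he he2
      intro g n
      refine ⟨hinv g n, ?_⟩
      intro ψ hψ hne
      rw [indFun_eq_of_a N χ hχ ϑ hϑ e he he2, classInner_smul_left,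
        irr_classInner_eq hχ hψ] at hne
      by_contra hcon2
      apply hne
      rw [if_neg (fun h => hcon2 h.symm), mul_zero]
    · intro hc
      have hinv : ∀ (g : G) (n : N), ϑ ⟨g * n * g⁻¹, hN.conj_mem (n : G) n.2 g⟩ = ϑ n :=
        fun g n => (hc g n).1
      have huniq := (hc 1 1).2
      have hres := restrict_eq_smul_of_invariant N χ hχ ϑ hϑ hcon hinv
      rw [hf'] at hres
      refine ⟨f, hres, ?_⟩
      -- Ind ϑ = f • χ
      have := Fintype.ofFinite (IrrCharacter G)
      have hexp := classFunction_expansion (Cfsg.indFun N ϑ) (indFun_isClassFunction N ϑ)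
      have hfr : Cfsg.classInner (Cfsg.indFun N ϑ) χ = f := by
        rw [Cfsg.Agent.Lib.L0.frobenius_reciprocity N ϑ χ hcl, ← classInner_conj_symm, hf',
          Complex.conj_natCast]
      rw [Finset.sum_eq_single (⟨χ, hχ⟩ : IrrCharacter G)] at hexp
      · have h1 := congrFun hexp 1
        simp only [Pi.smul_apply, smul_eq_mul] at h1
        rw [indFun_one', hfr] at h1
        have h2 := congrFun hres 1
        simp only [Pi.smul_apply, smul_eq_mul] at h2
        have h3 : χ 1 = (f : ℂ) * ϑ 1 := h2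
        rw [h3] at h1
        have h4 : (N.index : ℂ) = (f : ℂ) ^ 2 := by
          have : (N.index : ℂ) * ϑ 1 = (f : ℂ) ^ 2 * ϑ 1 := by rw [h1]; ring
          exact mul_right_cancel₀ hϑ1 this
        exact_mod_cast h4.symm
      · intro ψ _ hψne
        by_cases h0 : Cfsg.classInner (Cfsg.indFun N ϑ) (ψ : G → ℂ) = 0
        · rw [h0, zero_smul]
        · exfalso
          apply hψne
          apply Subtype.ext
          exact huniq (ψ : G → ℂ) ψ.2 h0
      · intro h; exact absurd (Finset.mem_univ _) h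

end Cfsg.Agent.S0900
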