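import Cfsg.Statements.S0901
import Cfsg.Agent.Lib.H23.BlockRoots

set_option autoImplicit false
open Cfsg

namespace Cfsg.Agent.S0901

/-- Let M be a maximal ideal of the ring of algebraic integers containing the prime p, and let U be the set of complex roots of unity of order prime to p. Then reduction modulo M is injective on U, and every algebraic integer not in M is congruent modulo M to an element of U (so U maps bijectively onto the nonzero residues). -/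
theorem result (p : ℕ) [Fact p.Prime] (M : Ideal Cfsg.AlgInt) (hM : Cfsg.IsPModular p M) : (∀ ε₁ ε₂ : Cfsg.AlgInt, (∃ m : ℕ, ¬ p ∣ m ∧ (ε₁ : ℂ) ^ m = 1) → (∃ m : ℕ, ¬ p ∣ m ∧ (ε₂ : ℂ) ^ m = 1) → ε₁ - ε₂ ∈ M → ε₁ = ε₂) ∧ (∀ a : Cfsg.AlgInt, a ∉ M → ∃ ε : Cfsg.AlgInt, (∃ m : ℕ, ¬ p ∣ m ∧ (ε : ℂ) ^ m = 1) ∧ a - ε ∈ M) := by
  constructor
  · rintro ε₁ ε₂ ⟨m₁, h1, h1'⟩ ⟨m₂, h2, h2'⟩ h
    refine Cfsg.Agent.Lib.H23.eq_of_sub_mem_of_pow_eq_one hM h1 ?_ h2 ?_ h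
    · apply Subtype.ext
      push_cast
      exact h1'
    · apply Subtype.ext
      push_cast
      exact h2'
  · intro a ha
    obtain ⟨ε, ⟨m, hm, hε⟩, hmem⟩ := Cfsg.Agent.Lib.H23.exists_rootOfUnity_sub_mem hM ha
    refine ⟨ε, ⟨m, hm, ?_⟩, hmem⟩
    have := congrArg (fun x : Cfsg.AlgInt => (x : ℂ)) hε
    simpa using this

end Cfsg.Agent.S0901
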