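import Mathlib
import Cfsg.Statements.S0903

set_option autoImplicit false
open Cfsg

namespace Cfsg.Agent.S0903

/-- The set of pairs (x, y) with x ~ g, y ~ h, x * y = c. -/
abbrev Om {G : Type*} [Group G] (g h c : G) : Type _ :=
  {xy : G × G // IsConj g xy.1 ∧ IsConj h xy.2 ∧ xy.1 * xy.2 = c}

/-- The action of `P` on pairs by simultaneous conjugation. -/
@[instance_reducible]
def omAction {G : Type*} [Group G] (P : Subgroup G) (g h c : G)
    (hc : c ∈ Subgroup.centralizer (P : Set G)) : MulAction P (Om g h c) where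
  smul u xy := ⟨((u : G) * xy.1.1 * (u : G)⁻¹, (u : G) * xy.1.2 * (u : G)⁻¹), by
    obtain ⟨⟨x, y⟩, h1, h2, h3⟩ := xy
    refine ⟨h1.trans (isConj_iff.mpr ⟨u, rfl⟩), h2.trans (isConj_iff.mpr ⟨u, rfl⟩), ?_⟩
    simp only at h3 ⊢
    have hcu : (u : G) * c = c * u := hc u u.2
    calc (u : G) * x * (u : G)⁻¹ * ((u : G) * y * (u : G)⁻¹) = u * (x * y) * (u : G)⁻¹ := by group
      _ = u * c * (u : G)⁻¹ := by rw [h3]
      _ = c := by rw [hcu]; group⟩
  one_smul xy := by
    apply Subtype.ext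
    show (((1 : P) : G) * xy.1.1 * ((1 : P) : G)⁻¹, ((1 : P) : G) * xy.1.2 * ((1 : P) : G)⁻¹) = xy.1
    simp
  mul_smul u v xy := by
    apply Subtype.ext
    show (((u * v : P) : G) * xy.1.1 * ((u * v : P) : G)⁻¹, ((u * v : P) : G) * xy.1.2 * ((u * v : P) : G)⁻¹)
      = ((u : G) * ((v : G) * xy.1.1 * (v : G)⁻¹) * (u : G)⁻¹, (u : G) * ((v : G) * xy.1.2 * (v : G)⁻¹) * (u : G)⁻¹)
    simp only [Subgroup.coe_mul, mul_inv_rev, Prod.mk.injEq]
    constructor <;> group

/-- Let P be a p-subgroup of the finite group G, let c centralize P and let g, h ∈ G. The number of pairs (x, y) with x conjugate to g, y conjugate to h and x * y = c is congruent modulo p to the number of such pairs in which x and y both centralize P. (This is why the Brauer map on class sums is multiplicative.) -/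
theorem result {G : Type*} [Group G] [Finite G] (p : ℕ) [Fact p.Prime] (P : Subgroup G) (hP : IsPGroup p P) (c : G) (hc : c ∈ Subgroup.centralizer (P : Set G)) (g h : G) : Nat.card {xy : G × G // IsConj g xy.1 ∧ IsConj h xy.2 ∧ xy.1 * xy.2 = c} ≡ Nat.card {xy : G × G // IsConj g xy.1 ∧ IsConj h xy.2 ∧ xy.1 * xy.2 = c ∧ xy.1 ∈ Subgroup.centralizer (P : Set G) ∧ xy.2 ∈ Subgroup.centralizer (P : Set G)} [MOD p] := by
  let _ := omAction P g h c hc
  have key := hP.card_modEq_card_fixedPoints (Om g h c)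
  refine key.trans ?_
  have hEq : Nat.card (MulAction.fixedPoints P (Om g h c)) = Nat.card {xy : G × G // IsConj g xy.1 ∧ IsConj h xy.2 ∧ xy.1 * xy.2 = c ∧ xy.1 ∈ Subgroup.centralizer (P : Set G) ∧ xy.2 ∈ Subgroup.centralizer (P : Set G)} := ?_
  · rw [hEq]
  apply Nat.card_congr
  have hsmul : ∀ (u : P) (xy : Om g h c), (u • xy).1 = ((u : G) * xy.1.1 * (u : G)⁻¹, (u : G) * xy.1.2 * (u : G)⁻¹) :=
    fun _ _ => rfl
  refine ⟨fun z => ⟨z.1.1, z.1.2.1, z.1.2.2.1, z.1.2.2.2, ?_, ?_⟩,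
    fun z => ⟨⟨z.1, z.2.1, z.2.2.1, z.2.2.2.1⟩, ?_⟩, ?_, ?_⟩
  · intro u hu
    have := z.2 ⟨u, hu⟩
    have h1 := congrArg (fun w : Om g h c => w.1.1) this
    simp only [hsmul] at h1
    calc u * z.1.1.1 = (u * z.1.1.1 * u⁻¹) * u := by group
      _ = z.1.1.1 * u := by rw [h1]
  · intro u hu
    have := z.2 ⟨u, hu⟩
    have h1 := congrArg (fun w : Om g h c => w.1.2) this
    simp only [hsmul] at h1
    calc u * z.1.1.2 = (u * z.1.1.2 * u⁻¹) * u := by group
      _ = z.1.1.2 * u := by rw [h1]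
  · intro u
    apply Subtype.ext
    rw [hsmul]
    have h1 : (u : G) * z.1.1 = z.1.1 * u := z.2.2.2.2.1 u u.2
    have h2 : (u : G) * z.1.2 = z.1.2 * u := z.2.2.2.2.2 u u.2
    simp only
    rw [h1, h2]
    simp
  · intro z; rfl
  · intro z; rfl

end Cfsg.Agent.S0903
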