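import Cfsg.Statements.S0905
import Cfsg.Agent.Lib.H23.BlockNil
import Cfsg.Agent.Lib.H27.Basic

set_option autoImplicit false
open Cfsg

namespace Cfsg.Agent.S0905

/-- Let F be a field of characteristic p and let g be an element of the finite group G no conjugate of which centralizes O_p(G). Then the class sum of g is a nilpotent element of the group algebra F[G]. -/
theorem result {G : Type*} [Group G] [Finite G] (p : ℕ) [Fact p.Prime] (F : Type*) [Field F] [CharP F p] (g : G) (hg : ∀ x : G, IsConj g x → x ∉ Subgroup.centralizer (Cfsg.pCore p G : Set G)) : IsNilpotent (∑ᶠ x ∈ ConjClasses.carrier (ConjClasses.mk g), MonoidAlgebra.single x (1 : F) : MonoidAlgebra F G) := by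
  classical
  haveI := Fintype.ofFinite G
  haveI : (Cfsg.pCore p G).Normal := Cfsg.Agent.Lib.H27.pCore_normal'
  have hfin : (∑ᶠ x ∈ ConjClasses.carrier (ConjClasses.mk g), MonoidAlgebra.single x (1 : F) :
      MonoidAlgebra F G) = ∑ x ∈ Finset.univ.filter (fun x => IsConj g x),
        MonoidAlgebra.single x (1 : F) := by
    rw [finsum_mem_eq_finite_toFinset_sum _ (Set.toFinite _)]
    refine Finset.sum_congr ?_ (fun _ _ => rfl)
    ext x
    simp only [Set.Finite.mem_toFinset, Finset.mem_filter, Finset.mem_univ, true_and,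
      ConjClasses.mem_carrier_iff_mk_eq, ConjClasses.mk_eq_mk_iff_isConj]
    exact isConj_comm
  rw [hfin]
  refine Cfsg.Agent.Lib.H23.isNilpotent_sum_single (p := p) F (Cfsg.pCore p G)
    Cfsg.Agent.Lib.H27.pCore_isPGroup _ ?_ ?_
  · intro u _ x hx
    rw [Finset.mem_filter] at hx ⊢
    exact ⟨Finset.mem_univ _, hx.2.trans (isConj_iff.2 ⟨u, rfl⟩)⟩
  · intro x hx
    rw [Finset.mem_filter] at hx
    exact hg x hx.2

end Cfsg.Agent.S0905
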