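import Cfsg.Statements.S0911
import Cfsg.Agent.Lib.H23.BlockMinMax

set_option autoImplicit false
open Cfsg

namespace Cfsg.Agent.S0911

/-- The min–max Theorem for defect classes. Let B be a block of the finite group G relative to a maximal ideal M of the algebraic integers containing the prime p, let g represent a defect class of B and let D be a Sylow p-subgroup of the centralizer of g (viewed in G). For any h: (a) if the idempotent coefficient of B at h is a local integer outside the local ideal, then some conjugate of D contains a Sylow p-subgroup of the centralizer of h; (b) if the central character of some member of B at h is outside the local ideal, then some conjugate of D is contained in a Sylow p-subgroup of the centralizer of h. -/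
theorem result {G : Type*} [Group G] [Finite G] (p : ℕ) [Fact p.Prime] (M : Ideal Cfsg.AlgInt) (hM : Cfsg.IsPModular p M) (B : Set (Cfsg.IrrCharacter G)) (hB : Cfsg.IsPBlock M B) (g : G) (hg : Cfsg.IsDefectClass M B g) (D : Sylow p (Subgroup.centralizer ({g} : Set G))) (h : G) : (Cfsg.MemLocalRing M (Cfsg.blockCoeff B h) → ¬ Cfsg.MemLocalIdeal M (Cfsg.blockCoeff B h) → ∃ (x : G) (Q : Sylow p (Subgroup.centralizer ({h} : Set G))), (Q : Subgroup (Subgroup.centralizer ({h} : Set G))).map (Subgroup.centralizer ({h} : Set G)).subtype ≤ ((D : Subgroup (Subgroup.centralizer ({g} : Set G))).map (Subgroup.centralizer ({g} : Set G)).subtype).map (MulAut.conj x).toMonoidHom) ∧ ((∃ χ ∈ B, ¬ Cfsg.MemLocalIdeal M (Cfsg.centralChar (χ : G → ℂ) h)) → ∃ (x : G) (Q : Sylow p (Subgroup.centralizer ({h} : Set G))), ((D : Subgroup (Subgroup.centralizer ({g} : Set G))).map (Subgroup.centralizer ({g} : Set G)).subtype).map (MulAut.conj x).toMonoidHom ≤ (Q : Subgroup (Subgroup.centralizer ({h} : Set G))).map (Subgroup.centralizer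 ({h} : Set G)).subtype) := by
  classical
  haveI := Fintype.ofFinite G
  haveI hP := Cfsg.Agent.Lib.H23.isPrime_of_isPModular hM
  obtain ⟨χ₀, rfl⟩ := hB
  have hχ₀ : χ₀ ∈ Cfsg.blockOf M (χ₀ : G → ℂ) := Cfsg.Agent.Lib.H23.mem_blockOf_self χ₀
  constructor
  · intro _ hβ
    obtain ⟨Q₀⟩ : Nonempty (Sylow p (Subgroup.centralizer ({h} : Set G))) := inferInstance
    obtain ⟨x, hx, hQx⟩ := Cfsg.Agent.Lib.H23.exists_conj_centralized hM χ₀ h g hβ χ₀ hχ₀
      (hg.2.2 χ₀ hχ₀)
      ((Q₀ : Subgroup (Subgroup.centralizer ({h} : Set G))).map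
        (Subgroup.centralizer ({h} : Set G)).subtype) (Q₀.2.map _)
      (by
        rintro _ ⟨q, _, rfl⟩
        exact q.2)
    obtain ⟨c, R, hR⟩ := Cfsg.Agent.Lib.H23.exists_sylow_centralizer_conj _ (Q₀.2.map _) hx hQx
    obtain ⟨d, hd⟩ := Cfsg.Agent.Lib.H23.sylow_map_conj (Subgroup.centralizer ({g} : Set G)) D R
    refine ⟨c * d, Q₀, ?_⟩
    rw [← Cfsg.Agent.Lib.H23.map_conj_map_conj, ← hd]
    exact hR
  · rintro ⟨χ, hχ, hω⟩
    obtain ⟨x, hx, hQx⟩ := Cfsg.Agent.Lib.H23.exists_conj_centralized hM χ₀ g h hg.2.1 χ hχ hω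
      ((D : Subgroup (Subgroup.centralizer ({g} : Set G))).map
        (Subgroup.centralizer ({g} : Set G)).subtype) (D.2.map _)
      (by
        rintro _ ⟨q, _, rfl⟩
        exact q.2)
    obtain ⟨c, R, hR⟩ := Cfsg.Agent.Lib.H23.exists_sylow_centralizer_conj _ (D.2.map _) hx hQx
    refine ⟨c⁻¹, R, ?_⟩
    have := Subgroup.map_mono (f := (MulAut.conj c⁻¹).toMonoidHom) hR
    rw [Cfsg.Agent.Lib.H23.map_conj_map_conj, inv_mul_cancel] at this
    have h1 : (MulAut.conj (1 : G)).toMonoidHom = MonoidHom.id G := by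
      ext y
      simp
    rw [h1, Subgroup.map_id] at this
    exact this

end Cfsg.Agent.S0911
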