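import Cfsg.Statements.S0912
import Cfsg.Agent.Lib.H23.BlockNilChar
import Cfsg.Agent.Lib.H23.BlockIdem
import Cfsg.Agent.Lib.H27.Basic

set_option autoImplicit false
open Cfsg

namespace Cfsg.Agent.S0912

/-- Let B be a block of the finite group G relative to a maximal ideal M of the algebraic integers containing the prime p. Every defect group of B contains the largest normal p-subgroup O_p(G). -/
theorem result {G : Type*} [Group G] [Finite G] (p : ℕ) [Fact p.Prime] (M : Ideal Cfsg.AlgInt) (hM : Cfsg.IsPModular p M) (B : Set (Cfsg.IrrCharacter G)) (hB : Cfsg.IsPBlock M B) (D : Subgroup G) (hD : Cfsg.IsDefectGroup p M B D) : Cfsg.pCore p G ≤ D := by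
  classical
  haveI := Fintype.ofFinite G
  haveI hP := Cfsg.Agent.Lib.H23.isPrime_of_isPModular hM
  obtain ⟨χ₀, rfl⟩ := hB
  have hχ₀ : χ₀ ∈ Cfsg.blockOf M (χ₀ : G → ℂ) := Cfsg.Agent.Lib.H23.mem_blockOf_self χ₀
  obtain ⟨g, hg, S, rfl⟩ := hD
  haveI hn : (Cfsg.pCore p G).Normal := Cfsg.Agent.Lib.H27.pCore_normal'
  have hpg : IsPGroup p (Cfsg.pCore p G) := Cfsg.Agent.Lib.H27.pCore_isPGroup
  -- some conjugate of g centralizes O_p(G)
  have hex : ∃ x : G, IsConj g x ∧ x ∈ Subgroup.centralizer (Cfsg.pCore p G : Set G) := by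
    by_contra hcon
    have hcon' : ∀ x : G, IsConj g x → x ∉ Subgroup.centralizer (Cfsg.pCore p G : Set G) :=
      fun x hx hxc => hcon ⟨x, hx, hxc⟩
    exact hg.2.2 χ₀ hχ₀
      (Cfsg.Agent.Lib.H23.centralChar_memLocalIdeal_of_normal hM (Cfsg.pCore p G) hpg g hcon' χ₀)
  obtain ⟨x, hx, hxc⟩ := hex
  obtain ⟨c, rfl⟩ := isConj_iff.1 hx
  -- hence g itself centralizes O_p(G)
  have hle : Cfsg.pCore p G ≤ Subgroup.centralizer ({g} : Set G) := by
    intro u hu
    rw [Subgroup.mem_centralizer_singleton_iff]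
    have hu' : c * u * c⁻¹ ∈ Cfsg.pCore p G := hn.conj_mem u hu c
    have h1 := (Subgroup.mem_centralizer_iff.1 hxc) (c * u * c⁻¹) hu'
    have h2 : c * (u * g) * c⁻¹ = c * (g * u) * c⁻¹ := by
      calc c * (u * g) * c⁻¹ = (c * u * c⁻¹) * (c * g * c⁻¹) := by group
        _ = (c * g * c⁻¹) * (c * u * c⁻¹) := h1
        _ = c * (g * u) * c⁻¹ := by group
    exact mul_left_cancel (mul_right_cancel h2)
  haveI : ((Cfsg.pCore p G).subgroupOf (Subgroup.centralizer ({g} : Set G))).Normal :=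
    hn.subgroupOf _
  have hsub : IsPGroup p ((Cfsg.pCore p G).subgroupOf (Subgroup.centralizer ({g} : Set G))) :=
    hpg.comap_subtype
  have hS := hsub.le_sylow_of_normal S
  intro u hu
  rw [Subgroup.mem_map]
  exact ⟨⟨u, hle hu⟩, hS (Subgroup.mem_subgroupOf.2 hu), rfl⟩

end Cfsg.Agent.S0912
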