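import Cfsg.Statements.S0915
import Cfsg.Agent.Lib.H10.PSolvable
import Cfsg.Agent.Lib.L0.BlockPReg
import Cfsg.Agent.Lib.H23.BlockNilChar

set_option autoImplicit false
open Cfsg

namespace Cfsg.Agent.S0915

/-- Let G be a finite p-solvable group with trivial largest normal subgroup of order prime to p. Then any two irreducible characters of G lie in the same block relative to every maximal ideal M of the algebraic integers containing p: G has a single p-block. -/
theorem result {G : Type*} [Group G] [Finite G] (p : ℕ) [Fact p.Prime] (M : Ideal Cfsg.AlgInt) (hM : Cfsg.IsPModular p M) (hsolv : Cfsg.IsPSolvable p G) (hcore : Cfsg.pPrimeCore p G = ⊥) (χ ψ : Cfsg.IrrCharacter G) : Cfsg.SameBlock M (χ : G → ℂ) (ψ : G → ℂ) := by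
  classical
  haveI := Fintype.ofFinite G
  haveI hPr := Cfsg.Agent.Lib.H23.isPrime_of_isPModular hM
  have hp := Cfsg.Agent.Lib.H23.prime_of_isPModular hM
  haveI hPn : (Cfsg.pCore p G).Normal := Cfsg.Agent.Lib.H1.pCore_normal p G
  have hPp : IsPGroup p (Cfsg.pCore p G) := Cfsg.Agent.Lib.H1.pCore_isPGroup p G
  have hHH := Cfsg.Agent.Lib.H10.centralizer_pCore_le_of_isPSolvable p hsolv hcore
  apply Cfsg.Agent.Lib.L0.BlockPReg.sameBlock_of_pRegular hM
  intro g hg
  by_cases hg1 : g = 1
  · subst hg1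
    have h1 : ∀ φ : Cfsg.IrrCharacter G, Cfsg.centralChar (φ : G → ℂ) 1 = 1 := by
      intro φ
      unfold Cfsg.centralChar
      have h0 : (φ : G → ℂ) 1 ≠ 0 := Cfsg.Agent.Lib.H24.irr_one_ne_zero φ
      have hc : Subgroup.centralizer ({(1 : G)} : Set G) = ⊤ := by
        ext x
        simp [Subgroup.mem_centralizer_singleton_iff]
      rw [hc, Subgroup.index_top]
      field_simp
      norm_num
    rw [h1, h1, sub_self]
    exact Cfsg.Agent.Lib.H23.memLocalIdeal_zero hPr.ne_top
  · have hcl : ∀ x : G, IsConj g x → x ∉ Subgroup.centralizer ((Cfsg.pCore p G : Subgroup G) : Set G) := by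
      intro x hx hxC
      have hxP : x ∈ Cfsg.pCore p G := hHH hxC
      obtain ⟨k, hk⟩ := (IsPGroup.iff_orderOf.1 hPp) ⟨x, hxP⟩
      rw [Subgroup.orderOf_mk] at hk
      have hox : orderOf x = orderOf g := (Cfsg.Agent.Lib.H23.orderOf_eq_of_isConj hx).symm
      rw [hox] at hk
      have hk0 : k = 0 := by
        by_contra hne
        exact hg (hk ▸ dvd_pow_self p hne)
      rw [hk0, pow_zero, orderOf_eq_one_iff] at hk
      exact hg1 hk
    exact Cfsg.Agent.Lib.H23.memLocalIdeal_sub
      (Cfsg.Agent.Lib.H23.centralChar_memLocalIdeal_of_normal hM (Cfsg.pCore p G) hPp g hcl χ)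
      (Cfsg.Agent.Lib.H23.centralChar_memLocalIdeal_of_normal hM (Cfsg.pCore p G) hPp g hcl ψ)

end Cfsg.Agent.S0915
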