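import Cfsg.Statements.S0923
import Cfsg.Agent.Lib.H23.BlockBrauerHom
import Cfsg.Agent.Lib.H23.BlockGenDecomp
import Cfsg.Agent.Lib.H23.PPart2
import Cfsg.Agent.Lib.L0.CharBasic

set_option autoImplicit false
open Cfsg

namespace Cfsg.Agent.S0923

/-- Brauer's Second Main Theorem, in terms of ordinary characters. Let x be a p-element of the finite group G with centralizer C, let χ lie in the block B of G and let b be a block of C that does not induce B (relative to a maximal ideal M of the algebraic integers containing p). Form the class function ϑ(c) = χ(x c) on C and its b-part (the sum over ψ ∈ b of the inner product of ϑ with ψ, times ψ). Then the b-part of ϑ vanishes at every p-regular element of C. (Equivalently, the generalized decomposition numbers of χ with respect to b are zero.) -/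
theorem result {G : Type*} [Group G] [Finite G] (p : ℕ) [Fact p.Prime] (M : Ideal Cfsg.AlgInt) (hM : Cfsg.IsPModular p M) (x : G) (hx : ∃ k : ℕ, orderOf x = p ^ k) (B : Set (Cfsg.IrrCharacter G)) (hB : Cfsg.IsPBlock M B) (χ : Cfsg.IrrCharacter G) (hχ : χ ∈ B) (b : Set (Cfsg.IrrCharacter (Subgroup.centralizer ({x} : Set G)))) (hb : Cfsg.IsPBlock M b) (hnot : ¬ Cfsg.IsInducedBlock M (Subgroup.centralizer ({x} : Set G)) b B) (y : Subgroup.centralizer ({x} : Set G)) (hy : ¬ p ∣ orderOf y) : Cfsg.blockPart b (fun c : Subgroup.centralizer ({x} : Set G) => (χ : G → ℂ) (x * (c : G))) y = 0 := by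
  classical
  letI : Fintype G := Fintype.ofFinite G
  letI : Fintype (Subgroup.centralizer ({x} : Set G)) :=
    Fintype.ofFinite (Subgroup.centralizer ({x} : Set G))
  haveI hPr := Cfsg.Agent.Lib.H23.isPrime_of_isPModular hM
  have hp : p.Prime := Fact.out
  obtain ⟨ξ₀, rfl⟩ := hb
  have hPgrp : IsPGroup p (Subgroup.zpowers x) := by
    obtain ⟨k, hk⟩ := hx
    intro g
    refine ⟨k, ?_⟩
    obtain ⟨n, hn⟩ := Subgroup.mem_zpowers_iff.1 g.2
    apply Subtype.ext
    rw [Subgroup.coe_pow, Subgroup.coe_one, ← hn, ← zpow_natCast, ← zpow_mul, mul_comm, zpow_mul,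
      zpow_natCast, ← hk, pow_orderOf_eq_one, one_zpow]
  have hcent : Subgroup.centralizer ((Subgroup.zpowers x : Subgroup G) : Set G) =
      Subgroup.centralizer ({x} : Set G) := by
    rw [Subgroup.zpowers_eq_closure, Subgroup.centralizer_closure]
  have hPC : Subgroup.zpowers x ≤ Subgroup.centralizer ({x} : Set G) := by
    rw [Subgroup.zpowers_le]
    rw [Subgroup.mem_centralizer_iff]
    intro u hu
    rw [Set.mem_singleton_iff.1 hu]
  have hCC : Subgroup.centralizer ((Subgroup.zpowers x : Subgroup G) : Set G) ≤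
      Subgroup.centralizer ({x} : Set G) := le_of_eq hcent
  have hCN : Subgroup.centralizer ({x} : Set G) ≤
      Subgroup.normalizer ((Subgroup.zpowers x : Subgroup G) : Set G) := by
    rw [← hcent]
    exact Subgroup.centralizer_le_normalizer _
  obtain ⟨χ₀, hind⟩ := Cfsg.Agent.Lib.H23.exists_isInducedBlock (Subgroup.zpowers x)
    (Subgroup.centralizer ({x} : Set G)) hM hPgrp hPC hCC hCN ξ₀
  have hχ' : χ ∉ blockOf M (χ₀ : G → ℂ) := by
    intro h
    apply hnot
    obtain ⟨χ₁, rfl⟩ := hB
    have e1 : blockOf M (χ : G → ℂ) = blockOf M (χ₁ : G → ℂ) :=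
      Cfsg.Agent.Lib.H23.blockOf_eq_of_mem hχ
    have e2 : blockOf M (χ : G → ℂ) = blockOf M (χ₀ : G → ℂ) :=
      Cfsg.Agent.Lib.H23.blockOf_eq_of_mem h
    rw [← e1, e2]
    exact hind
  -- the element x as a central element of its centralizer
  have hxC : x ∈ Subgroup.centralizer ({x} : Set G) := hPC (Subgroup.mem_zpowers x)
  have hxcen : (⟨x, hxC⟩ : Subgroup.centralizer ({x} : Set G)) ∈
      Subgroup.center (Subgroup.centralizer ({x} : Set G)) := by
    rw [Subgroup.mem_center_iff]
    intro c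
    apply Subtype.ext
    rw [Subgroup.coe_mul, Subgroup.coe_mul]
    exact (Subgroup.mem_centralizer_iff.1 c.2 x (Set.mem_singleton x)).symm
  have hyord : ¬ p ∣ orderOf (y : G) := by
    rwa [Subgroup.orderOf_coe]
  have hcomm : Commute x (y : G) :=
    (Subgroup.mem_centralizer_iff.1 y.2 x (Set.mem_singleton x))
  have hsm := Cfsg.Agent.Lib.H23.second_main (Subgroup.centralizer ({x} : Set G)) hM hind
    (⟨x, hxC⟩ * y) (by
      intro z hz
      have h1 : Cfsg.IsPPart p (x * (y : G)) x :=
        Cfsg.Agent.Lib.H23.isPPart_mul hcomm hx hyord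
      have h2 : z = x := Cfsg.Agent.Lib.H23.IsPPart.unique hp hz h1
      rw [h2]) χ hχ'
  have hθ : Cfsg.IsCharacter (Subgroup.centralizer ({x} : Set G))
      (fun c : Subgroup.centralizer ({x} : Set G) => (χ : G → ℂ) c) :=
    Cfsg.Agent.Lib.L0.isCharacter_restrict _ (Cfsg.Agent.Lib.L0.isCharacter_of_irr χ.2)
  have hid := Cfsg.Agent.Lib.H23.sum_blockCoeff_shift_char
    (blockOf M (ξ₀ : Subgroup.centralizer ({x} : Set G) → ℂ)) hxcen y hθ
  show (∑ᶠ ψ ∈ blockOf M (ξ₀ : Subgroup.centralizer ({x} : Set G) → ℂ),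
    classInner (fun c : Subgroup.centralizer ({x} : Set G) => (χ : G → ℂ) (x * (c : G)))
      (ψ : Subgroup.centralizer ({x} : Set G) → ℂ) *
      (ψ : Subgroup.centralizer ({x} : Set G) → ℂ) y) = 0
  rw [← hsm]
  exact hid.symm

end Cfsg.Agent.S0923
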