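import Cfsg.Statements.S0927
import Cfsg.Agent.Lib.L0.BlockHeight

set_option autoImplicit false
open Cfsg

namespace Cfsg.Agent.S0927

open Cfsg.Agent.Lib.H23 Cfsg.Agent.Lib.L0.BlockHeight in
/-- Let B be a block of the finite group G relative to a maximal ideal M of the algebraic integers containing p, let y represent a defect class of B and let P be a Sylow p-subgroup of the centralizer of y. (a) If x ∈ P and χ ∈ B has height zero, then χ (x * y) is not in the local ideal at M. (b) If x lies in the centre of P, then for every χ ∈ B the central character of χ at x * y is not in the local ideal at M. -/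
theorem result {G : Type*} [Group G] [Finite G] (p : ℕ) [Fact p.Prime] (M : Ideal Cfsg.AlgInt) (hM : Cfsg.IsPModular p M) (B : Set (Cfsg.IrrCharacter G)) (hB : Cfsg.IsPBlock M B) (y : G) (hy : Cfsg.IsDefectClass M B y) (P : Sylow p (Subgroup.centralizer ({y} : Set G))) (x : Subgroup.centralizer ({y} : Set G)) (hx : x ∈ (P : Subgroup (Subgroup.centralizer ({y} : Set G)))) : (∀ χ ∈ B, Cfsg.blockHeight p B (χ : G → ℂ) = 0 → ¬ Cfsg.MemLocalIdeal M ((χ : G → ℂ) ((x : G) * y))) ∧ ((∀ w ∈ (P : Subgroup (Subgroup.centralizer ({y} : Set G))), x * w = w * x) → ∀ χ ∈ B, ¬ Cfsg.MemLocalIdeal M (Cfsg.centralChar (χ : G → ℂ) ((x : G) * y))) := by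
  classical
  haveI := Fintype.ofFinite G
  obtain ⟨χ₀, rfl⟩ := hB
  have hxy : Commute (x : G) y := (x.2 y rfl).symm
  have hxo : ∃ k : ℕ, orderOf (x : G) = p ^ k := by
    obtain ⟨j, hj⟩ := (IsPGroup.iff_orderOf.mp P.isPGroup') ⟨x, hx⟩
    refine ⟨j, ?_⟩
    rw [← hj, Subgroup.orderOf_mk, Subgroup.orderOf_coe]
  refine ⟨fun χ hχ hh => height_zero_apply_mul_not_mem hM χ₀ y hy χ hχ hh hxy hxo, ?_⟩
  intro hcen χ hχ
  refine centralChar_mul_not_mem hM χ₀ y hy hxy hxo
    ((P : Subgroup (Subgroup.centralizer ({y} : Set G))).map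
      (Subgroup.centralizer ({y} : Set G)).subtype) ?_ ?_ χ hχ
  · rw [Subgroup.card_map_of_injective (Subgroup.subtype_injective _), Sylow.card_eq_multiplicity]
  · rintro w ⟨v, hv, rfl⟩
    have h1 : Commute ((v : G)) (x : G) := by
      have := hcen v hv
      have h2 := congrArg Subtype.val this
      simp only [Subgroup.coe_mul] at h2
      exact h2.symm
    have h2 : Commute (v : G) y := (v.2 y rfl).symm
    exact h1.mul_right h2

end Cfsg.Agent.S0927
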