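import Cfsg.Statements.S0934
import Cfsg.Agent.Lib.H23.BlockInduce

set_option autoImplicit false
open Cfsg

namespace Cfsg.Agent.S0934

/-- Let H be a subgroup of the finite group G and fix a maximal ideal M of the algebraic integers containing the prime p. If the block b of H induces the block B of G and ξ ∈ b, then there is χ ∈ B whose restriction to H has nonzero inner product with ξ. -/
theorem result {G : Type*} [Group G] [Fintype G] (p : ℕ) [Fact p.Prime] (M : Ideal Cfsg.AlgInt) (hM : Cfsg.IsPModular p M) (H : Subgroup G) [Fintype H] (b : Set (Cfsg.IrrCharacter H)) (B : Set (Cfsg.IrrCharacter G)) (hind : Cfsg.IsInducedBlock M H b B) (ξ : Cfsg.IrrCharacter H) (hξ : ξ ∈ b) : ∃ χ ∈ B, Cfsg.classInner (fun h : H => (χ : G → ℂ) h) (ξ : H → ℂ) ≠ 0 := by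
  classical
  haveI := Fintype.ofFinite (Cfsg.IrrCharacter G)
  haveI hPr := Cfsg.Agent.Lib.H23.isPrime_of_isPModular hM
  obtain ⟨χ₀, hB⟩ := hind.2.1
  have hχ₀ : χ₀ ∈ B := by
    rw [hB]
    exact Cfsg.Agent.Lib.H23.mem_blockOf_self χ₀
  by_contra hall
  have hall' : ∀ χ ∈ B, Cfsg.classInner (fun h : H => (χ : G → ℂ) h) (ξ : H → ℂ) = 0 := by
    intro χ hχ
    by_contra h
    exact hall ⟨χ, hχ, h⟩
  have hec := Cfsg.Agent.Lib.H23.blockIdem_mem_center B
  have hei : Cfsg.Agent.Lib.H23.blockIdem B ∈ Cfsg.Agent.Lib.H23.intCoeff (G := G) M := by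
    intro g
    rw [hB]
    exact Cfsg.Agent.Lib.H23.blockIdem_memLocalRing hM χ₀ g
  have h1 := Cfsg.Agent.Lib.H23.omega_resAlg_sub_memLocalIdeal H hind hξ hχ₀ hec hei
  rw [Cfsg.Agent.Lib.H23.omega_blockIdem, if_pos hχ₀] at h1
  have h2 : Cfsg.Agent.Lib.H23.omega (ξ : H → ℂ)
      (Cfsg.Agent.Lib.H23.resAlg H (Cfsg.Agent.Lib.H23.blockIdem B)) = 0 := by
    unfold Cfsg.Agent.Lib.H23.omega Cfsg.Agent.Lib.H23.charEval
    rw [div_eq_zero_iff]
    left
    simp only [Cfsg.Agent.Lib.H23.coeff_resAlg, Cfsg.Agent.Lib.H23.coeff_blockIdem,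
      Cfsg.Agent.Lib.H23.blockCoeff_eq_sum]
    simp only [mul_assoc, ← Finset.mul_sum, Finset.sum_mul]
    rw [Finset.sum_comm]
    rw [mul_eq_zero]
    right
    refine Finset.sum_eq_zero ?_
    intro χ _
    by_cases hχ : χ ∈ B
    · simp only [if_pos hχ]
      have h3 := hall' χ hχ
      unfold Cfsg.classInner at h3
      have hH : (Nat.card H : ℂ)⁻¹ ≠ 0 := by
        apply inv_ne_zero
        exact_mod_cast (Nat.card_pos (α := H)).ne'
      have h4 := (mul_eq_zero.1 h3).resolve_left hH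
      have h5 : ∑ x : H, (starRingEnd ℂ) ((χ : G → ℂ) x) * (ξ : H → ℂ) x = 0 := by
        have := congrArg (starRingEnd ℂ) h4
        rw [map_sum, map_zero] at this
        rw [← this]
        refine Finset.sum_congr rfl ?_
        intro x _
        rw [map_mul, Complex.conj_conj]
      simp only [mul_assoc, ← Finset.mul_sum]
      rw [h5, mul_zero]
    · simp [hχ]
  rw [h2] at h1
  have := Cfsg.Agent.Lib.H23.memLocalIdeal_neg h1
  rw [neg_sub, sub_zero] at this
  exact Cfsg.Agent.Lib.H23.not_memLocalIdeal_one this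

end Cfsg.Agent.S0934
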