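import Cfsg.Statements.S0935
import Cfsg.Agent.Lib.H23.BlockHeightZero
import Cfsg.Agent.Lib.H23.BlockHom
open Cfsg.Agent.Lib.H23 Cfsg.Agent.Lib.H24 Cfsg.Agent.Lib.L0.Tilde

set_option autoImplicit false
open Cfsg

namespace Cfsg.Agent.S0935

/-- Let H be a subgroup of the finite group G and χ an irreducible character of G whose restriction to H is irreducible; fix a maximal ideal M of the algebraic integers containing the prime p and suppose χ and its restriction have height zero in their blocks B and b. If e is a block of H whose induced block is defined, then e induces B if and only if e = b. -/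
theorem result {G : Type*} [Group G] [Finite G] (p : ℕ) [Fact p.Prime] (M : Ideal Cfsg.AlgInt) (hM : Cfsg.IsPModular p M) (H : Subgroup G) (χ : Cfsg.IrrCharacter G) (hres : Cfsg.IsIrrCharacter H (fun h : H => (χ : G → ℂ) h)) (hχ0 : Cfsg.blockHeight p (Cfsg.blockOf M (χ : G → ℂ)) (χ : G → ℂ) = 0) (hψ0 : Cfsg.blockHeight p (Cfsg.blockOf M (fun h : H => (χ : G → ℂ) h)) (fun h : H => (χ : G → ℂ) h) = 0) (e : Set (Cfsg.IrrCharacter H)) (he : Cfsg.InducedBlockDefined M H e) : Cfsg.IsInducedBlock M H e (Cfsg.blockOf M (χ : G → ℂ)) ↔ e = Cfsg.blockOf M (fun h : H => (χ : G → ℂ) h) := by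
  classical
  haveI := Fintype.ofFinite G
  haveI hP := Cfsg.Agent.Lib.H23.isPrime_of_isPModular hM
  have hp : p.Prime := Fact.out
  -- the restriction as an irreducible character of H
  set ψ : Cfsg.IrrCharacter H := ⟨fun h : H => (χ : G → ℂ) h, hres⟩ with hψdef
  have hψc : (ψ : H → ℂ) = fun h : H => (χ : G → ℂ) h := rfl
  have hzc : regElt p (χ : G → ℂ) ∈ Subalgebra.center ℂ (MonoidAlgebra ℂ G) :=
    regElt_mem_center p (irr_isClassFunction χ)
  have hzi : regElt p (χ : G → ℂ) ∈ intCoeff (G := G) M := regElt_mem_intCoeff p χ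
  have hres' : resAlg H (regElt p (χ : G → ℂ)) = regElt p (ψ : H → ℂ) := resAlg_regElt H _
  have hFG := omega_regElt_not_memLocalIdeal hM χ hχ0
  have hFH : ¬ MemLocalIdeal M (omega (ψ : H → ℂ) (regElt p (ψ : H → ℂ))) :=
    omega_regElt_not_memLocalIdeal hM ψ hψ0
  constructor
  · intro hind
    obtain ⟨ξ₀, hξ₀⟩ := hind.1
    have hξ₀e : ξ₀ ∈ e := hξ₀ ▸ mem_blockOf_self ξ₀
    have hcong := omega_resAlg_sub_memLocalIdeal H hind hξ₀e (mem_blockOf_self χ) hzc hzi
    rw [hres'] at hcong
    have h3 : ¬ MemLocalIdeal M (omega (ξ₀ : H → ℂ) (regElt p (ψ : H → ℂ))) := by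
      intro h
      apply hFG
      have := memLocalIdeal_sub h hcong
      rwa [sub_sub_cancel] at this
    have h4 := sameBlock_of_omega_regElt hM hp ξ₀ ψ h3
    rw [hξ₀]
    exact blockOf_eq_of_mem (sameBlock_symm h4)
  · intro heq
    obtain ⟨B', hind⟩ := he
    obtain ⟨χ₁, hχ₁⟩ := hind.2.1
    have hχ₁B : χ₁ ∈ B' := hχ₁ ▸ mem_blockOf_self χ₁
    have hψe : ψ ∈ e := by
      rw [heq]; exact mem_blockOf_self ψ
    have hcong := omega_resAlg_sub_memLocalIdeal H hind hψe hχ₁B hzc hzi
    rw [hres'] at hcong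
    have h3 : ¬ MemLocalIdeal M (omega (χ₁ : G → ℂ) (regElt p (χ : G → ℂ))) := by
      intro h
      apply hFH
      have := memLocalIdeal_add hcong h
      rwa [sub_add_cancel] at this
    have h4 := sameBlock_of_omega_regElt hM hp χ₁ χ h3
    have h5 : B' = Cfsg.blockOf M (χ : G → ℂ) := by
      rw [hχ₁]
      exact blockOf_eq_of_mem (sameBlock_symm h4)
    rw [← h5]
    exact hind

end Cfsg.Agent.S0935
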