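import Cfsg.Statements.S0938
import Cfsg.Agent.Lib.L0.BlockKer

set_option autoImplicit false
open Cfsg

namespace Cfsg.Agent.S0938

open Cfsg.Agent.Lib.H23 Cfsg.Agent.Lib.H24 Cfsg.Agent.Lib.L0 Cfsg.Agent.Lib.L0.BlockKer in
/-- Let B be a block of the finite group G relative to a maximal ideal M of the algebraic integers containing the prime p, and let χ ∈ B. Then the kernel of B (the set of g with ψ g = ψ 1 for all ψ ∈ B) is a normal subgroup of order prime to p contained in the kernel of χ, and it contains every normal subgroup of order prime to p on which χ takes the value χ(1); that is, it is O_p' of the kernel of χ. -/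
theorem result {G : Type*} [Group G] [Finite G] (p : ℕ) [Fact p.Prime] (M : Ideal Cfsg.AlgInt) (hM : Cfsg.IsPModular p M) (B : Set (Cfsg.IrrCharacter G)) (hB : Cfsg.IsPBlock M B) (χ : Cfsg.IrrCharacter G) (hχ : χ ∈ B) : ∃ K : Subgroup G, K.Normal ∧ (K : Set G) = Cfsg.blockKer B ∧ ¬ p ∣ Nat.card K ∧ (∀ g ∈ K, (χ : G → ℂ) g = (χ : G → ℂ) 1) ∧ ∀ N : Subgroup G, N.Normal → ¬ p ∣ Nat.card N → (∀ g ∈ N, (χ : G → ℂ) g = (χ : G → ℂ) 1) → N ≤ K := by
  classical
  haveI := Fintype.ofFinite G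
  haveI hP := isPrime_of_isPModular hM
  obtain ⟨χ₀, rfl⟩ := hB
  let K : Subgroup G := ⨅ ψ : blockOf M (χ₀ : G → ℂ),
    charKer ((ψ : IrrCharacter G) : G → ℂ) (isCharacter_of_irr (ψ : IrrCharacter G).2)
  have hmem : ∀ g : G, g ∈ K ↔ ∀ ψ ∈ blockOf M (χ₀ : G → ℂ), (ψ : G → ℂ) g = (ψ : G → ℂ) 1 := by
    intro g
    simp only [K, Subgroup.mem_iInf, mem_charKer, Subtype.forall]
  refine ⟨K, Subgroup.normal_iInf_normal fun ψ => inferInstance, ?_, ?_, ?_, ?_⟩
  · ext g
    exact hmem g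
  · exact not_dvd_card_of_le_charKer hM χ₀ K fun ψ hψ k hk => (hmem k).1 hk ψ hψ
  · intro g hg
    exact (hmem g).1 hg χ hχ
  · intro N hNn hNp hNχ g hg
    rw [hmem]
    intro ψ hψ
    haveI := hNn
    have hsame : SameBlock M (χ : G → ℂ) (ψ : G → ℂ) := sameBlock_trans (sameBlock_symm hχ) hψ
    exact le_charKer_of_sameBlock hM hsame N hNp hNχ g hg

end Cfsg.Agent.S0938
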