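import Cfsg.Statements.S0939
import Cfsg.Agent.Lib.L0.BlockKer
import Cfsg.Agent.Lib.H23.BlockOrth
import Cfsg.Agent.Lib.H22.PPrimeCore

set_option autoImplicit false
open Cfsg

namespace Cfsg.Agent.S0939

open Cfsg.Agent.Lib.H23 Cfsg.Agent.Lib.H24 Cfsg.Agent.Lib.L0.BlockKer in
/-- In a group with a normal subgroup `N` of order prime to `p` and `p`-power index, the
`p`-regular elements are the elements of `N`. -/
theorem not_dvd_orderOf_iff {G : Type*} [Group G] [Finite G] (p : ℕ) [Fact p.Prime]
    (N : Subgroup G) [N.Normal] (hN : ¬ p ∣ Nat.card N) (hidx : ∃ k : ℕ, N.index = p ^ k)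
    (x : G) : ¬ p ∣ orderOf x ↔ x ∈ N := by
  have hp : p.Prime := Fact.out
  constructor
  · intro hx
    obtain ⟨k, hk⟩ := hidx
    have h1 : orderOf (QuotientGroup.mk x : G ⧸ N) ∣ orderOf x :=
      orderOf_dvd_of_pow_eq_one (by rw [← QuotientGroup.mk_pow, pow_orderOf_eq_one]; rfl)
    have h2 : orderOf (QuotientGroup.mk x : G ⧸ N) ∣ p ^ k := by
      rw [← hk, Subgroup.index_eq_card]
      exact orderOf_dvd_natCard _
    obtain ⟨j, _, hj⟩ := (Nat.dvd_prime_pow hp).mp h2
    rcases Nat.eq_zero_or_pos j with rfl | hjpos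
    · rw [pow_zero, orderOf_eq_one_iff] at hj
      exact (QuotientGroup.eq_one_iff x).mp hj
    · exfalso
      apply hx
      refine dvd_trans ?_ h1
      rw [hj]
      exact dvd_pow_self p hjpos.ne'
  · intro hx hdvd
    apply hN
    refine dvd_trans hdvd ?_
    have := orderOf_dvd_natCard (⟨x, hx⟩ : N)
    rwa [Subgroup.orderOf_mk] at this

open Cfsg.Agent.Lib.H23 Cfsg.Agent.Lib.H24 Cfsg.Agent.Lib.L0.BlockKer in
open scoped ComplexConjugate in
/-- Let G be a finite group with a normal p-complement (the largest normal subgroup O_p'(G) of order prime to p has p-power index). Then, relative to any maximal ideal M of the algebraic integers containing p, the principal block of G is the set of irreducible characters χ with χ n = χ 1 for every n ∈ O_p'(G). -/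
theorem result {G : Type*} [Group G] [Finite G] (p : ℕ) [Fact p.Prime] (M : Ideal Cfsg.AlgInt) (hM : Cfsg.IsPModular p M) (hnc : ∃ k : ℕ, (Cfsg.pPrimeCore p G).index = p ^ k) : Cfsg.principalBlock M G = {χ : Cfsg.IrrCharacter G | ∀ n ∈ Cfsg.pPrimeCore p G, (χ : G → ℂ) n = (χ : G → ℂ) 1} := by
  classical
  haveI := Fintype.ofFinite G
  haveI hP := isPrime_of_isPModular hM
  have hp : p.Prime := Fact.out
  haveI hNn : (Cfsg.pPrimeCore p G).Normal := Cfsg.Agent.Lib.H22.pPrimeCore_normal p
  have hNp : ¬ p ∣ Nat.card (Cfsg.pPrimeCore p G) := Cfsg.Agent.Lib.H22.not_dvd_card_pPrimeCore hp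
  let triv : IrrCharacter G := ⟨fun _ => 1, isIrrCharacter_one⟩
  ext χ
  constructor
  · intro hχ
    have h1 : SameBlock M (triv : G → ℂ) (χ : G → ℂ) := hχ
    exact le_charKer_of_sameBlock hM h1 (Cfsg.pPrimeCore p G) hNp (fun _ _ => rfl)
  · intro hχ
    show SameBlock M (triv : G → ℂ) (χ : G → ℂ)
    by_contra hne
    have h1 := sum_pRegular_mul_conj_eq_zero hM χ triv (fun h => hne (sameBlock_symm h))
    have h2 : ∀ x : G, (if p ∣ orderOf x then 0 else (χ : G → ℂ) x * conj ((triv : G → ℂ) x)) =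
        if x ∈ Cfsg.pPrimeCore p G then (χ : G → ℂ) 1 else 0 := by
      intro x
      by_cases hx : x ∈ Cfsg.pPrimeCore p G
      · rw [if_pos hx, if_neg ((not_dvd_orderOf_iff p _ hNp hnc x).mpr hx), hχ x hx]
        simp [triv]
      · rw [if_neg hx, if_pos]
        by_contra hnd
        exact hx ((not_dvd_orderOf_iff p _ hNp hnc x).mp hnd)
    simp only [h2] at h1
    rw [Finset.sum_ite, Finset.sum_const_zero, add_zero, Finset.sum_const, nsmul_eq_mul] at h1
    have h3 : (χ : G → ℂ) 1 ≠ 0 := irr_one_ne_zero χ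
    rcases mul_eq_zero.mp h1 with h4 | h4
    · have h5 : (Finset.univ.filter (· ∈ Cfsg.pPrimeCore p G)).card = 0 := by exact_mod_cast h4
      rw [Finset.card_eq_zero] at h5
      have : (1 : G) ∈ Finset.univ.filter (· ∈ Cfsg.pPrimeCore p G) := by
        simp [Subgroup.one_mem]
      rw [h5] at this
      exact absurd this (Finset.notMem_empty _)
    · exact h3 h4

end Cfsg.Agent.S0939
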