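import Cfsg.Statements.S0940
import Cfsg.Agent.Lib.H23.BlockKulshammer

set_option autoImplicit false
open Cfsg

namespace Cfsg.Agent.S0940

/-- Let G be a finite group and M a maximal ideal of the algebraic integers containing the prime p. For every p-regular g, the idempotent coefficient of the principal block at g (the inverse of the group order times the sum over χ in the principal block of χ 1 * conj (χ g)) is congruent modulo the local ideal at M to N / R, where N is the number of pairs (x, y) with x of p-power order, y of order prime to p and x * y = g, and R is the number of elements of G of order prime to p. -/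
theorem result {G : Type*} [Group G] [Finite G] (p : ℕ) [Fact p.Prime] (M : Ideal Cfsg.AlgInt) (hM : Cfsg.IsPModular p M) (g : G) (hg : ¬ p ∣ orderOf g) : Cfsg.MemLocalIdeal M (Cfsg.blockCoeff (Cfsg.principalBlock M G) g - (Nat.card {xy : G × G // (∃ k : ℕ, orderOf xy.1 = p ^ k) ∧ ¬ p ∣ orderOf xy.2 ∧ xy.1 * xy.2 = g} : ℂ) / (Nat.card {y : G // ¬ p ∣ orderOf y} : ℂ)) := by
  classical
  haveI := Fintype.ofFinite G
  haveI hP := Cfsg.Agent.Lib.H23.isPrime_of_isPModular hM
  have hp := Cfsg.Agent.Lib.H23.prime_of_isPModular hM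
  have hK := Cfsg.Agent.Lib.H23.kulshammer hM g hg
  -- the number of `p`-regular elements
  have hR : Nat.card {y : G // ¬ p ∣ orderOf y} = Cfsg.Agent.Lib.H23.pRegCard G p := by
    rw [Nat.card_eq_fintype_card, Fintype.card_subtype]
    rfl
  -- the number of pairs
  have hN : (Nat.card {xy : G × G // (∃ k : ℕ, orderOf xy.1 = p ^ k) ∧ ¬ p ∣ orderOf xy.2 ∧
      xy.1 * xy.2 = g} : ℂ) =
      (Cfsg.Agent.Lib.H23.pElemSum G p * Cfsg.Agent.Lib.H23.pRegSum G p).coeff g := by
    rw [Cfsg.Agent.Lib.H23.coeff_mul_eq_sum]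
    have e : {xy : G × G // (∃ k : ℕ, orderOf xy.1 = p ^ k) ∧ ¬ p ∣ orderOf xy.2 ∧
        xy.1 * xy.2 = g} ≃ {h : G // (∃ k : ℕ, orderOf h = p ^ k) ∧ ¬ p ∣ orderOf (h⁻¹ * g)} :=
      { toFun := fun xy => ⟨xy.1.1, xy.2.1, by
          have h3 := xy.2.2.2
          have : xy.1.1⁻¹ * g = xy.1.2 := inv_mul_eq_of_eq_mul h3.symm
          rw [this]
          exact xy.2.2.1⟩
        invFun := fun h => ⟨(h.1, h.1⁻¹ * g), h.2.1, h.2.2, by simp⟩
        left_inv := by
          rintro ⟨⟨x, y⟩, h1, h2, h3⟩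
          simp only [Subtype.mk.injEq, Prod.mk.injEq, true_and]
          exact inv_mul_eq_of_eq_mul h3.symm
        right_inv := by
          rintro ⟨h, h1, h2⟩
          rfl }
    rw [Nat.card_congr e, Nat.card_eq_fintype_card, Fintype.card_subtype, Finset.card_filter]
    push_cast
    refine Finset.sum_congr rfl (fun h _ => ?_)
    rw [Cfsg.Agent.Lib.H23.coeff_pElemSum, Cfsg.Agent.Lib.H23.coeff_pRegSum]
    unfold Cfsg.Agent.Lib.H23.pElemInd
    by_cases h1 : ∃ k : ℕ, orderOf h = p ^ k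
    · by_cases h2 : p ∣ orderOf (h⁻¹ * g)
      · rw [if_neg (fun hh => hh.2 h2), if_pos h1, if_pos h2, mul_zero]
      · rw [if_pos ⟨h1, h2⟩, if_pos h1, if_neg h2, mul_one]
    · rw [if_neg (fun hh => h1 hh.1), if_neg h1, zero_mul]
  rw [hN, hR]
  have hRdvd := Cfsg.Agent.Lib.H23.not_dvd_pRegCard (G := G) hM
  have hR0 : (Cfsg.Agent.Lib.H23.pRegCard G p : ℂ) ≠ 0 := by
    rw [Nat.cast_ne_zero]
    intro h
    exact hRdvd (h ▸ dvd_zero p)
  have hinv := Cfsg.Agent.Lib.H23.memLocalRing_inv_natCast hM hRdvd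
  have := Cfsg.Agent.Lib.H23.memLocalIdeal_neg
    (Cfsg.Agent.Lib.H23.memLocalIdeal_mul_left hinv hK)
  convert this using 1
  field_simp
  ring

end Cfsg.Agent.S0940
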