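import Mathlib
import Cfsg.Statements.S0945
import Cfsg.Agent.Lib.H5.Homocyclic

set_option autoImplicit false
open Cfsg

namespace Cfsg.Agent.S0945

open Cfsg.Agent.Lib.H5 Subgroup

theorem result {G : Type*} [Group G] [Finite G] (P : Sylow 2 G) (m : ℕ) (hm : 1 ≤ m) (e : (P : Subgroup G) ≃* Multiplicative (ZMod (2 ^ m) × ZMod (2 ^ m))) : ((Subgroup.centralizer (P : Set G)).relIndex (Subgroup.normalizer (P : Set G)) = 1 ∨ (Subgroup.centralizer (P : Set G)).relIndex (Subgroup.normalizer (P : Set G)) = 3) ∧ ((Subgroup.centralizer (P : Set G)).relIndex (Subgroup.normalizer (P : Set G)) ≠ 1 → ∀ z ∈ (P : Subgroup G), z ≠ 1 → Subgroup.centralizer ({z} : Set G) ⊓ Subgroup.normalizer (P : Set G) = Subgroup.centralizer (P : Set G)) := by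
  have h13 := R2.relIndex_eq_one_or_three P m e hm
  refine ⟨h13, ?_⟩
  intro hne1 z hzP hz1
  have h3 : (centralizer ((P : Subgroup G) : Set G)).relIndex
      (normalizer ((P : Subgroup G) : Set G)) = 3 := by
    rcases h13 with h | h
    · exact absurd h hne1
    · exact h
  show centralizer ({z} : Set G) ⊓ normalizer ((P : Subgroup G) : Set G) =
    centralizer ((P : Subgroup G) : Set G)
  apply le_antisymm
  · rintro n ⟨hnz, hnN⟩
    by_contra hnC
    obtain ⟨j, hj1, hj2⟩ := R2.exists_pow_involution P.2 hzP hz1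
    apply R2.no_fixed_involution P m e hm h3 hnN hnC ((P : Subgroup G).pow_mem hzP j) hj2 hj1
    have hcomm : n * z = z * n := mem_centralizer_singleton_iff.mp hnz
    have hconj : n * z * n⁻¹ = z := by rw [hcomm]; group
    rw [← conj_pow, hconj]
  · intro n hn
    refine ⟨?_, centralizer_le_normalizer _ hn⟩
    exact centralizer_le (Set.singleton_subset_iff.mpr hzP) hn

end Cfsg.Agent.S0945
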