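import Mathlib
import Cfsg.Statements.S0946
import Cfsg.Agent.Lib.H5.Homocyclic
import Cfsg.Agent.Lib.H5.SylowIn
import Cfsg.Agent.Lib.H5.Centralizers

set_option autoImplicit false
open Cfsg

namespace Cfsg.Agent.S0946

open Cfsg.Agent.Lib.H5 Subgroup

theorem result {G : Type*} [Group G] [Finite G] (P : Sylow 2 G) (m : ℕ) (hm : 1 ≤ m) (e : (P : Subgroup G) ≃* Multiplicative (ZMod (2 ^ m) × ZMod (2 ^ m))) : (∃ N : Subgroup G, N.Normal ∧ Subgroup.IsComplement' N (P : Subgroup G)) ∨ ∀ s t : G, orderOf s = 2 → orderOf t = 2 → IsConj s t := by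
  have : Fact (Nat.Prime 2) := ⟨Nat.prime_two⟩
  rcases R2.relIndex_eq_one_or_three P m e hm with h1 | h3
  · left
    have hNC : normalizer (P : Set G) ≤ centralizer (P : Set G) := relIndex_eq_one.mp h1
    exact ⟨_, (MonoidHom.transferSylow P hNC).normal_ker,
      MonoidHom.ker_transferSylow_isComplement' P hNC⟩
  · right
    -- every involution is conjugate to an involution of P
    have key : ∀ s : G, orderOf s = 2 → ∃ a : G, a * s * a⁻¹ ∈ (P : Subgroup G) := by
      intro s hs
      obtain ⟨Q, hsQ⟩ := exists_sylow_mem_of_orderOf_dvd (p := 2) s 1 (by rw [hs, pow_one])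
      obtain ⟨g, hg⟩ := MulAction.exists_smul_eq G P Q
      have : s ∈ (g • P : Sylow 2 G) := hg ▸ hsQ
      have h' := (sylow_mem_smul_iff g P s).mp this
      refine ⟨g⁻¹, ?_⟩
      rw [inv_inv]
      exact h'
    intro s t hs ht
    obtain ⟨a, ha⟩ := key s hs
    obtain ⟨b, hb⟩ := key t ht
    have ord : ∀ (c x : G), orderOf x = 2 → orderOf (c * x * c⁻¹) = 2 := by
      intro c x hx
      have := (MulAut.conj c).orderOf_eq x
      rw [MulAut.conj_apply] at this
      rw [this, hx]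
    have sq : ∀ x : G, orderOf x = 2 → x * x = 1 ∧ x ≠ 1 := by
      intro x hx
      constructor
      · have := pow_orderOf_eq_one x
        rwa [hx, pow_two] at this
      · intro h1
        rw [h1, orderOf_one] at hx
        omega
    obtain ⟨hs2, hs1⟩ := sq _ (ord a s hs)
    obtain ⟨ht2, ht1⟩ := sq _ (ord b t ht)
    obtain ⟨g, hg⟩ := R2.exists_conj_involution P m e hm h3 ha hs2 hs1 hb ht2 ht1
    rw [isConj_iff]
    refine ⟨b⁻¹ * g * a, ?_⟩
    have : b⁻¹ * g * a * s * (b⁻¹ * g * a)⁻¹ = b⁻¹ * (g * (a * s * a⁻¹) * g⁻¹) * b := by group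
    rw [this, hg]
    group

end Cfsg.Agent.S0946
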