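import Cfsg.Statements.S0947
import Cfsg.Agent.Lib.H23.BlockSection
import Cfsg.Agent.Lib.H23.BlockNormalComplement

namespace Cfsg.Agent.S0947

open scoped ComplexConjugate

theorem finsum_norm_sq_eq {ι : Type*} [Fintype ι] (B : Set ι) [DecidablePred (· ∈ B)]
    (f : ι → ℂ) : ((∑ᶠ i ∈ B, ‖f i‖ ^ 2 : ℝ) : ℂ) =
      ∑ i, if i ∈ B then f i * conj (f i) else 0 := by
  rw [finsum_mem_eq_finite_toFinset_sum _ (Set.toFinite B), ← Finset.sum_filter]
  push_cast
  have : (Set.toFinite B).toFinset = Finset.univ.filter (· ∈ B) := by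
    ext i
    simp
  rw [this]
  refine Finset.sum_congr rfl (fun i _ => ?_)
  rw [Complex.mul_conj, Complex.normSq_eq_norm_sq]
  push_cast
  rfl

end Cfsg.Agent.S0947

set_option autoImplicit false
open Cfsg

namespace Cfsg.Agent.S0947

/-- Let z ≠ 1 be a p-element of the finite group G with centralizer H, and fix a maximal ideal M of the algebraic integers containing p. (i) For every y ∈ H of order prime to p, the sum over ζ in the principal block of G of |ζ (z * y)|² equals the sum over χ in the principal block of H of |χ y|². (ii) If moreover H has a normal p-complement (its largest normal subgroup of order prime to p has p-power index), that common value is the largest power of p dividing the order of H. -/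
theorem result {G : Type*} [Group G] [Finite G] (p : ℕ) [Fact p.Prime] (M : Ideal Cfsg.AlgInt) (hM : Cfsg.IsPModular p M) (z : G) (hz : ∃ k : ℕ, orderOf z = p ^ k) (hz1 : z ≠ 1) (y : Subgroup.centralizer ({z} : Set G)) (hy : ¬ p ∣ orderOf y) : (∑ᶠ ζ ∈ Cfsg.principalBlock M G, ‖(ζ : G → ℂ) (z * (y : G))‖ ^ 2 = ∑ᶠ χ ∈ Cfsg.principalBlock M (Subgroup.centralizer ({z} : Set G)), ‖(χ : Subgroup.centralizer ({z} : Set G) → ℂ) y‖ ^ 2) ∧ ((∃ k : ℕ, (Cfsg.pPrimeCore p (Subgroup.centralizer ({z} : Set G))).index = p ^ k) → ∑ᶠ ζ ∈ Cfsg.principalBlock M G, ‖(ζ : G → ℂ) (z * (y : G))‖ ^ 2 = ((p ^ (Nat.card (Subgroup.centralizer ({z} : Set G))).factorization p : ℕ) : ℝ)) := by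
  classical
  haveI := Fintype.ofFinite G
  haveI : Fintype (Subgroup.centralizer ({z} : Set G)) := Fintype.ofFinite _
  haveI := Fintype.ofFinite (Cfsg.IrrCharacter G)
  haveI := Fintype.ofFinite (Cfsg.IrrCharacter (Subgroup.centralizer ({z} : Set G)))
  haveI hPr := Cfsg.Agent.Lib.H23.isPrime_of_isPModular hM
  have hp := Cfsg.Agent.Lib.H23.prime_of_isPModular hM
  have hsec := Cfsg.Agent.Lib.H23.section_sum_principal hM z hz
    (Subgroup.centralizer ({z} : Set G)) rfl y hy
  have hi : ∑ᶠ ζ ∈ Cfsg.principalBlock M G, ‖(ζ : G → ℂ) (z * (y : G))‖ ^ 2 =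
      ∑ᶠ χ ∈ Cfsg.principalBlock M (Subgroup.centralizer ({z} : Set G)),
        ‖(χ : Subgroup.centralizer ({z} : Set G) → ℂ) y‖ ^ 2 := by
    apply Complex.ofReal_injective
    rw [finsum_norm_sq_eq, finsum_norm_sq_eq]
    exact hsec
  refine ⟨hi, ?_⟩
  rintro ⟨k, hk⟩
  rw [hi]
  apply Complex.ofReal_injective
  rw [finsum_norm_sq_eq]
  haveI hKn : (Cfsg.pPrimeCore p (Subgroup.centralizer ({z} : Set G))).Normal :=
    Cfsg.Agent.Lib.H22.pPrimeCore_normal p
  have hKp : ¬ p ∣ Nat.card (Cfsg.pPrimeCore p (Subgroup.centralizer ({z} : Set G))) :=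
    Cfsg.Agent.Lib.H22.not_dvd_card_pPrimeCore hp
  rw [Cfsg.Agent.Lib.H23.sum_principal_sq hM _ hKp hk hy,
    Cfsg.Agent.Lib.H23.factorization_of_index_pow hp _ hKp hk]
  push_cast
  rfl

end Cfsg.Agent.S0947
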