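import Cfsg.Statements.S0953
import Cfsg.Agent.Lib.H23.SylowCountB
import Cfsg.Agent.Lib.H23.BlockFirstMain
import Cfsg.Agent.Lib.H23.BlockVanishP
import Cfsg.Agent.Lib.H23.BlockNormalizer
open Cfsg.Agent.Lib.H23 Cfsg.Agent.Lib.H24 Cfsg.Agent.Lib.L0 Cfsg.Agent.Lib.H23.SylowCount

/-- A relation that is a bijection gives equal cardinalities. -/
theorem Cfsg.Agent.S0953.card_eq_of_rel {α β : Type*} (R : α → β → Prop)
    (h1 : ∀ a, ∃ b, R a b) (h2 : ∀ b, ∃ a, R a b)
    (h3 : ∀ a b b', R a b → R a b' → b = b') (h4 : ∀ a a' b, R a b → R a' b → a = a') :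
    Nat.card α = Nat.card β := by
  classical
  refine Nat.card_eq_of_bijective (fun a => (h1 a).choose) ⟨?_, ?_⟩
  · intro a a' h
    have e1 := (h1 a).choose_spec
    have e2 := (h1 a').choose_spec
    simp only at h
    rw [h] at e1
    exact h4 a a' _ e1 e2
  · intro b
    obtain ⟨a, ha⟩ := h2 b
    exact ⟨a, h3 a _ _ (h1 a).choose_spec ha⟩

set_option autoImplicit false
open Cfsg

namespace Cfsg.Agent.S0953

/-- Let P be a Sylow p-subgroup of the finite group G with normalizer N, and fix a maximal ideal M of the algebraic integers containing p. The number of blocks of G having P as a defect group equals the number of conjugacy classes of N consisting of elements of order prime to p that centralize P. -/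
theorem result {G : Type*} [Group G] [Finite G] (p : ℕ) [Fact p.Prime] (M : Ideal Cfsg.AlgInt) (hM : Cfsg.IsPModular p M) (P : Sylow p G) : Nat.card {B : Set (Cfsg.IrrCharacter G) // Cfsg.IsPBlock M B ∧ Cfsg.IsDefectGroup p M B (P : Subgroup G)} = Nat.card {C : ConjClasses (Subgroup.normalizer ((P : Subgroup G) : Set G)) // ∀ n : Subgroup.normalizer ((P : Subgroup G) : Set G), ConjClasses.mk n = C → ¬ p ∣ orderOf n ∧ (n : G) ∈ Subgroup.centralizer ((P : Subgroup G) : Set G)} := by
  classical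
  haveI : Fintype G := Fintype.ofFinite G
  haveI hPr := isPrime_of_isPModular hM
  set NN := Subgroup.normalizer ((P : Subgroup G) : Set G) with hNN
  haveI : Fintype NN := Fintype.ofFinite NN
  have hPNN : (P : Subgroup G) ≤ NN := Subgroup.le_normalizer
  have hPp : IsPGroup p (P : Subgroup G) := P.2
  haveI hn : ((P : Subgroup G).subgroupOf NN).Normal :=
    Subgroup.normal_subgroupOf_of_le_normalizer le_rfl
  have hpg : IsPGroup p ((P : Subgroup G).subgroupOf NN) := hPp.comap_subtype
  -- every block of `NN` has defect group `P`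
  have hdefNN : ∀ ξ₀ : IrrCharacter NN,
      IsDefectGroup p M (blockOf M (ξ₀ : NN → ℂ)) ((P : Subgroup G).subgroupOf NN) := by
    intro ξ₀
    obtain ⟨D, hD⟩ := exists_isDefectGroup (p := p) hM ξ₀
    have hle := normal_le_defectGroup hM ξ₀ _ hpg D hD
    have hDp : IsPGroup p D := isPGroup_of_isDefectGroup hD
    have h1 : (P : Subgroup G) ≤ D.map NN.subtype := by
      intro x hx
      exact ⟨⟨x, hPNN hx⟩, hle (Subgroup.mem_subgroupOf.2 hx), rfl⟩
    have h2 : D.map NN.subtype = (P : Subgroup G) := P.is_maximal' (hDp.map _) h1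
    have h3 : D = (P : Subgroup G).subgroupOf NN := by
      rw [← h2]
      exact (Subgroup.comap_map_eq_self_of_injective NN.subtype_injective D).symm
    rw [← h3]
    exact hD
  -- first main theorem bijection
  have hcard1 : Nat.card {B : Set (IrrCharacter G) // IsPBlock M B ∧
      IsDefectGroup p M B (P : Subgroup G)} =
      Nat.card {b : Set (IrrCharacter NN) // IsPBlock M b} := by
    symm
    refine card_eq_of_rel (fun b B => IsInducedBlock M NN b.1 B.1) ?_ ?_ ?_ ?_
    · rintro ⟨b, ξ₀, rfl⟩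
      obtain ⟨χ₁, hχ₁, hind⟩ := exists_block_up (P : Subgroup G) NN hNN hM hPp ξ₀ (hdefNN ξ₀)
      exact ⟨⟨blockOf M (χ₁ : G → ℂ), ⟨χ₁, rfl⟩, hχ₁⟩, hind⟩
    · rintro ⟨B, ⟨χ₀, rfl⟩, hD⟩
      obtain ⟨ξ₀, -, hind⟩ := exists_block_down (P : Subgroup G) NN hNN hM χ₀ hD
      exact ⟨⟨blockOf M (ξ₀ : NN → ℂ), ξ₀, rfl⟩, hind⟩
    · rintro ⟨b, hb⟩ ⟨B, hB⟩ ⟨B', hB'⟩ h1 h2
      apply Subtype.ext
      exact isInducedBlock_unique NN h1 h2
    · rintro ⟨b, ξ₁, rfl⟩ ⟨b', ξ₂, rfl⟩ ⟨B, ⟨χ₀, rfl⟩, hD⟩ h1 h2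
      apply Subtype.ext
      exact block_down_unique (P : Subgroup G) NN hNN hM hPp χ₀ ξ₁ ξ₂ (hdefNN ξ₂) h1 h2
  rw [hcard1]
  -- the normal Sylow subgroup of `NN`
  set P' : Sylow p NN := P.subtype hPNN with hP'
  have hP'coe : (P' : Subgroup NN) = (P : Subgroup G).subgroupOf NN := Sylow.coe_subtype _ _
  haveI : (P' : Subgroup NN).Normal := by rw [hP'coe]; exact hn
  rw [card_blocks_normal_sylow hM P']
  refine Nat.card_congr (Equiv.subtypeEquivRight fun C => ?_)
  have hmem : ∀ g : NN, g ∈ Subgroup.centralizer ((P' : Subgroup NN) : Set NN) ↔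
      (g : G) ∈ Subgroup.centralizer ((P : Subgroup G) : Set G) := by
    intro g
    rw [Subgroup.mem_centralizer_iff, Subgroup.mem_centralizer_iff]
    constructor
    · intro h x hx
      have := h ⟨x, hPNN hx⟩ (by
        show (⟨x, hPNN hx⟩ : NN) ∈ (P' : Subgroup NN)
        rw [hP'coe, Subgroup.mem_subgroupOf]
        exact hx)
      exact congrArg Subtype.val this
    · intro h x hx
      have hx' : (x : G) ∈ (P : Subgroup G) := by
        have : x ∈ (P' : Subgroup NN) := hx
        rw [hP'coe, Subgroup.mem_subgroupOf] at this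
        exact this
      exact Subtype.ext (h (x : G) hx')
  constructor
  · intro h n hn
    exact ⟨(h n hn).1, (hmem n).1 (h n hn).2⟩
  · intro h n hn
    exact ⟨(h n hn).1, (hmem n).2 (h n hn).2⟩

end Cfsg.Agent.S0953
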