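import Cfsg.Statements.S0954
import Cfsg.Agent.Lib.L0.BlockCover
import Cfsg.Agent.Lib.H23.BlockOrth
import Cfsg.Agent.Lib.H8.CharMisc
import Cfsg.Agent.S0939

set_option autoImplicit false
open Cfsg

namespace Cfsg.Agent.S0954

open Cfsg.Agent.Lib.H23 Cfsg.Agent.Lib.H24 Cfsg.Agent.Lib.L0 Cfsg.Agent.Lib.L0.BlockCover in
open scoped ComplexConjugate in
/-- Let N be a normal subgroup of the finite group G of order prime to p and of p-power index (a normal p-complement), and fix a maximal ideal M of the algebraic integers containing p. Then two irreducible characters χ, ψ of G lie in the same block if and only if some irreducible character of N has nonzero inner product with both the restriction of χ and the restriction of ψ. -/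
theorem result {G : Type*} [Group G] [Fintype G] (p : ℕ) [Fact p.Prime] (M : Ideal Cfsg.AlgInt) (hM : Cfsg.IsPModular p M) (N : Subgroup G) [N.Normal] [Fintype N] (hN : ¬ p ∣ Nat.card N) (hidx : ∃ k : ℕ, N.index = p ^ k) (χ ψ : Cfsg.IrrCharacter G) : Cfsg.SameBlock M (χ : G → ℂ) (ψ : G → ℂ) ↔ ∃ θ : Cfsg.IrrCharacter N, Cfsg.classInner (fun n : N => (χ : G → ℂ) n) (θ : N → ℂ) ≠ 0 ∧ Cfsg.classInner (fun n : N => (ψ : G → ℂ) n) (θ : N → ℂ) ≠ 0 := by
  classical
  haveI hP := isPrime_of_isPModular hM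
  have hχN : IsCharacter N (fun n : N => (χ : G → ℂ) n) :=
    isCharacter_restrict N (isCharacter_of_irr χ.2)
  have hψN : IsCharacter N (fun n : N => (ψ : G → ℂ) n) :=
    isCharacter_restrict N (isCharacter_of_irr ψ.2)
  constructor
  · intro hsame
    obtain ⟨θ, hθ, hχθ⟩ := exists_irr_constituent hχN
      (by simpa using irr_one_ne_zero χ)
    refine ⟨⟨θ, hθ⟩, hχθ, ?_⟩
    intro hψθ
    exact not_sameBlock_of_constituent N hM hN χ ψ θ hθ hχθ hψθ hsame
  · rintro ⟨θ, hχθ, hψθ⟩
    by_contra hne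
    have h1 := sum_pRegular_mul_conj_eq_zero hM χ ψ hne
    have h2 : ∀ x : G, (if p ∣ orderOf x then 0 else (χ : G → ℂ) x * conj ((ψ : G → ℂ) x)) =
        if x ∈ N then (χ : G → ℂ) x * conj ((ψ : G → ℂ) x) else 0 := by
      intro x
      by_cases hx : x ∈ N
      · rw [if_pos hx, if_neg ((Cfsg.Agent.S0939.not_dvd_orderOf_iff p N hN hidx x).mpr hx)]
      · rw [if_neg hx, if_pos]
        by_contra hnd
        exact hx ((Cfsg.Agent.S0939.not_dvd_orderOf_iff p N hN hidx x).mp hnd)
    simp only [h2] at h1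
    rw [← Finset.sum_filter] at h1
    have h1' : ∑ a ∈ Finset.univ.filter (· ∈ N), (χ : G → ℂ) a * conj ((ψ : G → ℂ) a) =
        ∑ n : N, (χ : G → ℂ) n * conj ((ψ : G → ℂ) n) :=
      Finset.sum_subtype (Finset.univ.filter (· ∈ N)) (p := (· ∈ N)) (by simp)
        (fun g => (χ : G → ℂ) g * conj ((ψ : G → ℂ) g))
    rw [h1] at h1'
    have h3 : classInner (fun n : N => (χ : G → ℂ) n) (fun n : N => (ψ : G → ℂ) n) = 0 := by
      rw [classInner, ← h1', mul_zero]
    exact hχθ (Cfsg.Agent.Lib.H8.classInner_irr_eq_zero_of_orthogonal hχN hψN θ.2 h3 hψθ)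

end Cfsg.Agent.S0954
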