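import Cfsg.Statements.S0955
import Cfsg.Agent.Lib.H23.BlockNormalizer
import Cfsg.Agent.Lib.H27.Basic

set_option autoImplicit false
open Cfsg

namespace Cfsg.Agent.S0955

/-- Let D be a defect group of a block of the finite group G relative to a maximal ideal M of the algebraic integers containing the prime p. Then D is the largest normal p-subgroup of its own normalizer: O_p(N_G(D)) = D. -/
theorem result {G : Type*} [Group G] [Finite G] (p : ℕ) [Fact p.Prime] (M : Ideal Cfsg.AlgInt) (hM : Cfsg.IsPModular p M) (B : Set (Cfsg.IrrCharacter G)) (hB : Cfsg.IsPBlock M B) (D : Subgroup G) (hD : Cfsg.IsDefectGroup p M B D) : (Cfsg.pCore p (Subgroup.normalizer (D : Set G))).map (Subgroup.normalizer (D : Set G)).subtype = D := by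
  classical
  letI : Fintype G := Fintype.ofFinite G
  letI : Fintype (Subgroup.normalizer (D : Set G)) :=
    Fintype.ofFinite (Subgroup.normalizer (D : Set G))
  haveI hPr := Cfsg.Agent.Lib.H23.isPrime_of_isPModular hM
  obtain ⟨χ₀, rfl⟩ := hB
  have hDp : IsPGroup p D := Cfsg.Agent.Lib.H23.isPGroup_of_isDefectGroup hD
  have hDN : D ≤ Subgroup.normalizer (D : Set G) := Subgroup.le_normalizer
  have hCN : Subgroup.centralizer (D : Set G) ≤ Subgroup.normalizer (D : Set G) :=
    Subgroup.centralizer_le_normalizer _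
  obtain ⟨ξ₀, hind⟩ := Cfsg.Agent.Lib.H23.exists_induced_of_defectGroup D
    (Subgroup.normalizer (D : Set G)) hM hDp hDN hCN le_rfl χ₀ hD
  obtain ⟨Db, hDb⟩ := Cfsg.Agent.Lib.H23.exists_isDefectGroup (p := p) hM ξ₀
  have hDbeq := Cfsg.Agent.Lib.H23.defectGroup_eq_of_induced D (Subgroup.normalizer (D : Set G)) hM
    hDN le_rfl hD hind Db hDb
  haveI hn : (Cfsg.pCore p (Subgroup.normalizer (D : Set G))).Normal :=
    Cfsg.Agent.Lib.H27.pCore_normal'
  have hle := Cfsg.Agent.Lib.H23.normal_le_defectGroup hM ξ₀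
    (Cfsg.pCore p (Subgroup.normalizer (D : Set G))) Cfsg.Agent.Lib.H27.pCore_isPGroup Db hDb
  rw [hDbeq] at hle
  apply le_antisymm
  · rintro _ ⟨u, hu, rfl⟩
    exact Subgroup.mem_subgroupOf.1 (hle hu)
  · intro u hu
    haveI hn2 : (D.subgroupOf (Subgroup.normalizer (D : Set G))).Normal :=
      Subgroup.normal_subgroupOf_of_le_normalizer le_rfl
    have h1 : D.subgroupOf (Subgroup.normalizer (D : Set G)) ≤
        Cfsg.pCore p (Subgroup.normalizer (D : Set G)) :=
      le_sSup ⟨hn2, hDp.comap_subtype⟩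
    exact ⟨⟨u, hDN hu⟩, h1 (Subgroup.mem_subgroupOf.2 hu), rfl⟩

end Cfsg.Agent.S0955
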