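import Cfsg.Statements.S0959
import Cfsg.Agent.Lib.H23.BlockMinMax

set_option autoImplicit false
open Cfsg

namespace Cfsg.Agent.S0959

/-- Let B be a block of the finite group G with defect group D (relative to a maximal ideal M of the algebraic integers containing the prime p), and let P be a p-subgroup. Then there is an element g whose idempotent coefficient for B is a local integer outside the local ideal at M and which has a conjugate centralizing P, if and only if some conjugate of P is contained in D. -/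
theorem result {G : Type*} [Group G] [Finite G] (p : ℕ) [Fact p.Prime] (M : Ideal Cfsg.AlgInt) (hM : Cfsg.IsPModular p M) (B : Set (Cfsg.IrrCharacter G)) (hB : Cfsg.IsPBlock M B) (D : Subgroup G) (hD : Cfsg.IsDefectGroup p M B D) (P : Subgroup G) (hP : IsPGroup p P) : (∃ g : G, Cfsg.MemLocalRing M (Cfsg.blockCoeff B g) ∧ ¬ Cfsg.MemLocalIdeal M (Cfsg.blockCoeff B g) ∧ ∃ c : G, IsConj g c ∧ c ∈ Subgroup.centralizer (P : Set G)) ↔ ∃ x : G, P.map (MulAut.conj x).toMonoidHom ≤ D := by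
  classical
  haveI := Fintype.ofFinite G
  haveI hPr := Cfsg.Agent.Lib.H23.isPrime_of_isPModular hM
  obtain ⟨χ₀, rfl⟩ := hB
  have hχ₀ : χ₀ ∈ Cfsg.blockOf M (χ₀ : G → ℂ) := Cfsg.Agent.Lib.H23.mem_blockOf_self χ₀
  obtain ⟨g₀, hg₀, S₀, rfl⟩ := hD
  constructor
  · rintro ⟨g, _, hβ, c, hgc, hcP⟩
    -- β(c) = β(g)
    obtain ⟨t, rfl⟩ := isConj_iff.1 hgc
    have hβc : ¬ Cfsg.MemLocalIdeal M (Cfsg.blockCoeff (Cfsg.blockOf M (χ₀ : G → ℂ))
        (t * g * t⁻¹)) := by
      rw [Cfsg.Agent.Lib.H23.blockCoeff_conj]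
      exact hβ
    have hPc : P ≤ Subgroup.centralizer ({t * g * t⁻¹} : Set G) := by
      intro u hu
      rw [Subgroup.mem_centralizer_singleton_iff]
      exact (Subgroup.mem_centralizer_iff.1 hcP u hu)
    obtain ⟨x, hx, hPx⟩ := Cfsg.Agent.Lib.H23.exists_conj_centralized hM χ₀ (t * g * t⁻¹) g₀ hβc
      χ₀ hχ₀ (hg₀.2.2 χ₀ hχ₀) P hP hPc
    obtain ⟨c', R, hR⟩ := Cfsg.Agent.Lib.H23.exists_sylow_centralizer_conj P hP hx hPx
    obtain ⟨d, hd⟩ := Cfsg.Agent.Lib.H23.sylow_map_conj (Subgroup.centralizer ({g₀} : Set G)) S₀ R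
    rw [hd, Cfsg.Agent.Lib.H23.map_conj_map_conj] at hR
    refine ⟨(c' * d)⁻¹, ?_⟩
    have := Subgroup.map_mono (f := (MulAut.conj (c' * d)⁻¹).toMonoidHom) hR
    rw [Cfsg.Agent.Lib.H23.map_conj_map_conj, inv_mul_cancel] at this
    have h1 : (MulAut.conj (1 : G)).toMonoidHom = MonoidHom.id G := by
      ext y
      simp
    rw [h1, Subgroup.map_id] at this
    exact this
  · rintro ⟨x, hx⟩
    refine ⟨g₀, hg₀.1, hg₀.2.1, x⁻¹ * g₀ * x, isConj_iff.2 ⟨x⁻¹, by simp⟩, ?_⟩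
    rw [Subgroup.mem_centralizer_iff]
    intro u hu
    have h1 : x * u * x⁻¹ ∈ (S₀ : Subgroup (Subgroup.centralizer ({g₀} : Set G))).map
        (Subgroup.centralizer ({g₀} : Set G)).subtype := hx ⟨u, hu, by simp [MulAut.conj_apply]⟩
    obtain ⟨w, _, hw⟩ := h1
    have h2 : x * u * x⁻¹ ∈ Subgroup.centralizer ({g₀} : Set G) := by
      rw [← hw]
      exact w.2
    have h3 := Subgroup.mem_centralizer_singleton_iff.1 h2
    calc u * (x⁻¹ * g₀ * x) = x⁻¹ * ((x * u * x⁻¹) * g₀) * x := by group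
      _ = x⁻¹ * (g₀ * (x * u * x⁻¹)) * x := by rw [h3]
      _ = x⁻¹ * g₀ * x * u := by group

end Cfsg.Agent.S0959
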