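import Cfsg.Statements.S0958
import Cfsg.Agent.Lib.H23.BlockIdemNil
import Cfsg.Agent.S0959

set_option autoImplicit false
open Cfsg

namespace Cfsg.Agent.S0958

/-- Let P be a p-subgroup of the finite group G and H a subgroup with P ⊔ C_G(P) ≤ H ≤ N_G(P); fix a maximal ideal M of the algebraic integers containing p. Then a block B of G is induced by some block of H if and only if some conjugate of P is contained in a defect group of B. -/
theorem result {G : Type*} [Group G] [Finite G] (p : ℕ) [Fact p.Prime] (M : Ideal Cfsg.AlgInt) (hM : Cfsg.IsPModular p M) (P H : Subgroup G) (hP : IsPGroup p P) (hPH : P ⊔ Subgroup.centralizer (P : Set G) ≤ H) (hHN : H ≤ Subgroup.normalizer (P : Set G)) (B : Set (Cfsg.IrrCharacter G)) (hB : Cfsg.IsPBlock M B) : (∃ b : Set (Cfsg.IrrCharacter H), Cfsg.IsInducedBlock M H b B) ↔ ∃ D : Subgroup G, Cfsg.IsDefectGroup p M B D ∧ ∃ x : G, P.map (MulAut.conj x).toMonoidHom ≤ D := by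
  classical
  letI : Fintype G := Fintype.ofFinite G
  letI : Fintype H := Fintype.ofFinite H
  haveI hPr := Cfsg.Agent.Lib.H23.isPrime_of_isPModular hM
  have hPH' : P ≤ H := le_trans le_sup_left hPH
  have hCH : Subgroup.centralizer (P : Set G) ≤ H := le_trans le_sup_right hPH
  constructor
  · rintro ⟨b, hind⟩
    obtain ⟨ξ₀, rfl⟩ := hind.1
    obtain ⟨χ₀, rfl⟩ := hB
    obtain ⟨Db, hDb⟩ := Cfsg.Agent.Lib.H23.exists_isDefectGroup (p := p) hM ξ₀
    obtain ⟨E, hE, hDE⟩ := Cfsg.Agent.Lib.H23.defectGroup_le_of_induced H hM hind Db hDb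
    haveI hn : (P.subgroupOf H).Normal := Subgroup.normal_subgroupOf_of_le_normalizer hHN
    have hpg : IsPGroup p (P.subgroupOf H) := hP.comap_subtype
    have hle := Cfsg.Agent.Lib.H23.normal_le_defectGroup hM ξ₀ _ hpg Db hDb
    refine ⟨E, hE, 1, ?_⟩
    rintro _ ⟨u, hu, rfl⟩
    have h1 : (⟨u, hPH' hu⟩ : H) ∈ Db := hle (Subgroup.mem_subgroupOf.2 hu)
    have h2 : u ∈ E := hDE ⟨⟨u, hPH' hu⟩, h1, rfl⟩
    simpa [MulAut.conj_apply] using h2
  · rintro ⟨D, hD, x, hx⟩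
    obtain ⟨g, _, hβ, c, hgc, hcP⟩ := (Cfsg.Agent.S0959.result p M hM B hB D hD P hP).2 ⟨x, hx⟩
    obtain ⟨χ₀, rfl⟩ := hB
    have hβc : ¬ Cfsg.MemLocalIdeal M (Cfsg.blockCoeff (Cfsg.blockOf M (χ₀ : G → ℂ)) c) := by
      rw [← Cfsg.Agent.Lib.H23.blockCoeff_eq_of_isConj _ hgc]
      exact hβ
    obtain ⟨ξ₀, hind⟩ := Cfsg.Agent.Lib.H23.exists_isInducedBlock_of_coeff P H hM hP hPH' hCH hHN
      χ₀ hcP hβc
    exact ⟨_, hind⟩

end Cfsg.Agent.S0958
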