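import Cfsg.Statements.S4505
import Cfsg.Agent.Lib.L0.BlockMinMax
import Cfsg.Agent.Lib.H24.CharPermLemma

set_option autoImplicit false
open Cfsg

namespace Cfsg.Agent.S4505

open Cfsg.Agent.Lib.H23 Cfsg.Agent.Lib.L0.BlockMinMax

/-- The local ideal as an ideal of the local ring. -/
def localIdealI (M : Ideal AlgInt) [hP : M.IsPrime] : Ideal (localRing M) where
  carrier := {z | MemLocalIdeal M (z : ℂ)}
  add_mem' := fun {a b} ha hb => by
    show MemLocalIdeal M (((a + b : localRing M)) : ℂ)
    rw [Subring.coe_add]
    exact memLocalIdeal_add ha hb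
  zero_mem' := by
    show MemLocalIdeal M ((0 : localRing M) : ℂ)
    rw [Subring.coe_zero]
    exact memLocalIdeal_zero hP.ne_top
  smul_mem' := fun c x hx => by
    show MemLocalIdeal M ((c • x : localRing M) : ℂ)
    rw [smul_eq_mul, Subring.coe_mul]
    exact memLocalIdeal_mul_left c.2 hx

theorem mem_localIdealI {M : Ideal AlgInt} [M.IsPrime] (z : localRing M) :
    z ∈ localIdealI M ↔ MemLocalIdeal M (z : ℂ) := Iff.rfl

theorem localIdealI_ne_top (M : Ideal AlgInt) [M.IsPrime] : localIdealI M ≠ ⊤ := by
  rw [Ideal.ne_top_iff_one, mem_localIdealI, Subring.coe_one]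
  exact not_memLocalIdeal_one

/-- Left-invertible rectangular matrices over a nontrivial commutative ring. -/
theorem card_le_card_of_mul_eq_one {Q : Type*} [CommRing Q] [Nontrivial Q] {ι κ : Type*}
    [Fintype ι] [Fintype κ] [DecidableEq ι] [DecidableEq κ] (A : Matrix ι κ Q) (L : Matrix κ ι Q)
    (h : A * L = 1) : Fintype.card ι ≤ Fintype.card κ := by
  refine card_le_of_injective Q L.mulVecLin ?_
  intro v w hvw
  have h1 : A.mulVec (L.mulVec v) = A.mulVec (L.mulVec w) := by
    simp only [Matrix.mulVecLin_apply] at hvw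
    rw [hvw]
  rwa [Matrix.mulVec_mulVec, Matrix.mulVec_mulVec, h, Matrix.one_mulVec, Matrix.one_mulVec] at h1

/-- Let G be a finite group, p a prime and M a maximal ideal of the algebraic integers containing p. For every σ, the number of p-blocks of defect exactly σ is at most the number of conjugacy classes of p-regular elements whose centralizer has order divisible by p^σ but not by p^(σ+1). -/
theorem result {G : Type*} [Group G] [Finite G] (p : ℕ) [Fact p.Prime] (M : Ideal Cfsg.AlgInt) (hM : Cfsg.IsPModular p M) (σ : ℕ) : Nat.card {B : Set (Cfsg.IrrCharacter G) // Cfsg.IsPBlock M B ∧ Cfsg.blockDefect p B = σ} ≤ Nat.card {C : ConjClasses G // ∃ g : G, ConjClasses.mk g = C ∧ ¬ p ∣ orderOf g ∧ (Nat.card (Subgroup.centralizer ({g} : Set G))).factorization p = σ} := by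
  classical
  haveI := Fintype.ofFinite G
  haveI := Fintype.ofFinite (ConjClasses G)
  haveI hP := isPrime_of_isPModular hM
  -- the index types
  let ι := {B : Set (IrrCharacter G) // IsPBlock M B ∧ blockDefect p B = σ}
  let κ := {c : ConjClasses G // IsRegDefect p σ c}
  haveI : Fintype ι := Fintype.ofFinite ι
  haveI : Fintype κ := Fintype.ofFinite κ
  have hκ : Nat.card {C : ConjClasses G // ∃ g : G, ConjClasses.mk g = C ∧ ¬ p ∣ orderOf g ∧
      (Nat.card (Subgroup.centralizer ({g} : Set G))).factorization p = σ} = Nat.card κ := by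
    refine Nat.card_congr (Equiv.subtypeEquivRight fun c => ?_)
    constructor
    · rintro ⟨g, hg, h1, h2⟩
      have hconj : IsConj g (classRep c) := by
        rw [← ConjClasses.mk_eq_mk_iff_isConj, hg, mk_classRep]
      refine ⟨?_, ?_⟩
      · rwa [← orderOf_eq_of_isConj hconj]
      · rwa [← Cfsg.Agent.Lib.H24.card_centralizer_eq_of_isConj hconj]
    · rintro ⟨h1, h2⟩
      exact ⟨classRep c, mk_classRep c, h1, h2⟩
  rw [hκ, Nat.card_eq_fintype_card, Nat.card_eq_fintype_card]
  -- representatives of blocks
  have hrep : ∀ B : ι, ∃ χ : IrrCharacter G, (B : Set (IrrCharacter G)) = blockOf M (χ : G → ℂ) :=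
    fun B => B.2.1
  choose rep hrepB using hrep
  have hdef : ∀ B : ι, blockDefect p (blockOf M (rep B : G → ℂ)) = σ := fun B => by
    rw [← hrepB B]; exact B.2.2
  -- the matrices
  let Q := localRing M ⧸ localIdealI M
  haveI : Nontrivial Q := Ideal.Quotient.nontrivial_iff.mpr (localIdealI_ne_top M)
  let A : Matrix ι κ Q := fun B c => Ideal.Quotient.mk (localIdealI M)
    ⟨blockCoeff (blockOf M (rep B : G → ℂ)) (classRep c.1), memLocalRing_blockCoeff hM (rep B) _⟩
  let L : Matrix κ ι Q := fun c B => Ideal.Quotient.mk (localIdealI M)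
    ⟨centralChar (rep B : G → ℂ) (classRep c.1), coe_mem_localRing (omegaInt (rep B) _)⟩
  refine card_le_card_of_mul_eq_one A L ?_
  ext B B'
  rw [Matrix.mul_apply]
  simp only [A, L, ← map_mul, ← map_sum]
  have h1 := omega_blockIdem_sub_sum_mem hM (rep B) (rep B') σ (hdef B) (hdef B')
  rw [omega_blockIdem] at h1
  have hiff : rep B' ∈ blockOf M (rep B : G → ℂ) ↔ B = B' := by
    constructor
    · intro h
      apply Subtype.ext
      rw [hrepB B, hrepB B']
      ext ψ
      constructor
      · intro hψ
        exact sameBlock_trans (sameBlock_symm h) hψ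
      · intro hψ
        exact sameBlock_trans h hψ
    · rintro rfl
      exact mem_blockOf_self _
  rw [Matrix.one_apply]
  have h2 : (if B = B' then (1 : Q) else 0) = Ideal.Quotient.mk (localIdealI M)
      (if B = B' then 1 else 0) := by
    split_ifs <;> simp
  rw [h2, Ideal.Quotient.eq, mem_localIdealI]
  have h3 : ((∑ c : κ, (⟨blockCoeff (blockOf M (rep B : G → ℂ)) (classRep c.1),
      memLocalRing_blockCoeff hM (rep B) _⟩ : localRing M) *
      ⟨centralChar (rep B' : G → ℂ) (classRep c.1), coe_mem_localRing (omegaInt (rep B') _)⟩ -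
      (if B = B' then 1 else 0) : localRing M) : ℂ) =
      -((if rep B' ∈ blockOf M (rep B : G → ℂ) then (1 : ℂ) else 0) -
        ∑ c : ConjClasses G, if IsRegDefect p σ c then
          blockCoeff (blockOf M (rep B : G → ℂ)) (classRep c) *
            centralChar (rep B' : G → ℂ) (classRep c) else 0) := by
    have hsum : ∑ c : ConjClasses G, (if IsRegDefect p σ c then
          blockCoeff (blockOf M (rep B : G → ℂ)) (classRep c) *
            centralChar (rep B' : G → ℂ) (classRep c) else 0) =
        ∑ c : κ, blockCoeff (blockOf M (rep B : G → ℂ)) (classRep c.1) *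
            centralChar (rep B' : G → ℂ) (classRep c.1) := by
      rw [← Finset.sum_filter]
      exact Finset.sum_subtype (Finset.univ.filter (IsRegDefect p σ))
        (p := IsRegDefect p σ) (by simp)
        (fun c => blockCoeff (blockOf M (rep B : G → ℂ)) (classRep c) *
          centralChar (rep B' : G → ℂ) (classRep c))
    rw [hsum]
    by_cases hBB : B = B'
    · rw [if_pos hBB, if_pos (hiff.mpr hBB)]
      push_cast
      ring
    · rw [if_neg hBB, if_neg (fun h => hBB (hiff.mp h))]
      push_cast
      ring
  rw [h3]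
  exact memLocalIdeal_neg h1

end Cfsg.Agent.S4505
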