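import Cfsg.Statements.S0962
import Cfsg.Agent.S4505

set_option autoImplicit false
open Cfsg

namespace Cfsg.Agent.S0962

open Cfsg.Agent.Lib.H23 Cfsg.Agent.Lib.L0.BlockMinMax Cfsg.Agent.Lib.L0.BlockHeight in
/-- The class of `c` is `p`-regular of defect at least `d`. -/
def IsRegDefectGe {G : Type*} [Group G] (p : ℕ) (d : ℕ) (c : ConjClasses G) : Prop :=
  ¬ p ∣ orderOf (Cfsg.Agent.Lib.H23.classRep c) ∧
    d ≤ (Nat.card (Subgroup.centralizer ({Cfsg.Agent.Lib.H23.classRep c} : Set G))).factorization p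

open Cfsg.Agent.Lib.H23 Cfsg.Agent.Lib.L0.BlockMinMax Cfsg.Agent.Lib.L0.BlockHeight in
theorem omega_blockIdem_sub_sum_mem_ge {p : ℕ} {M : Ideal AlgInt} {G : Type*} [Group G]
    [Fintype G] [Fact p.Prime] [Fintype (ConjClasses G)] (hM : IsPModular p M)
    (χ₀ ψ₀ : IrrCharacter G) (d : ℕ)
    (hd' : d ≤ blockDefect p (blockOf M (ψ₀ : G → ℂ)))
    [DecidablePred (IsRegDefectGe (G := G) p d)] :
    MemLocalIdeal M (omega (ψ₀ : G → ℂ) (blockIdem (blockOf M (χ₀ : G → ℂ))) -
      ∑ c : ConjClasses G, if IsRegDefectGe p d c then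
        blockCoeff (blockOf M (χ₀ : G → ℂ)) (classRep c) * centralChar (ψ₀ : G → ℂ) (classRep c)
        else 0) := by
  haveI hP := isPrime_of_isPModular hM
  rw [omega_eq_sum_centralChar (Cfsg.Agent.Lib.H24.irr_isClassFunction ψ₀)
    (blockIdem_mem_center _), ← Finset.sum_sub_distrib]
  refine memLocalIdeal_sum _ _ fun c _ => ?_
  rw [coeff_blockIdem]
  have ha : MemLocalRing M (blockCoeff (blockOf M (χ₀ : G → ℂ)) (classRep c)) :=
    memLocalRing_blockCoeff hM χ₀ _
  by_cases hc : IsRegDefectGe p d c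
  · rw [if_pos hc, sub_self]
    exact memLocalIdeal_zero hP.ne_top
  · rw [if_neg hc, sub_zero]
    by_cases hreg : p ∣ orderOf (classRep c)
    · rw [blockCoeff_eq_zero_of_dvd_orderOf hM χ₀ _ hreg, zero_mul]
      exact memLocalIdeal_zero hP.ne_top
    · have hlt : (Nat.card (Subgroup.centralizer ({classRep c} : Set G))).factorization p < d := by
        by_contra h
        exact hc ⟨hreg, not_lt.1 h⟩
      refine memLocalIdeal_mul_left ha ?_
      exact centralChar_memLocalIdeal_of_lt_defect hM ψ₀ (mem_blockOf_self ψ₀) _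
        (lt_of_lt_of_le hlt hd')

/-- Fix a maximal ideal M of the algebraic integers containing the prime p and a natural number d. The number of blocks of the finite group G of defect at least d is at most the number of conjugacy classes of p-regular elements of G of defect at least d, where the defect of a class is the exponent of p in the order of the centralizer of any of its elements. -/
theorem result {G : Type*} [Group G] [Finite G] (p : ℕ) [Fact p.Prime] (M : Ideal Cfsg.AlgInt) (hM : Cfsg.IsPModular p M) (d : ℕ) : Nat.card {B : Set (Cfsg.IrrCharacter G) // Cfsg.IsPBlock M B ∧ d ≤ Cfsg.blockDefect p B} ≤ Nat.card {C : ConjClasses G // ∃ g : G, ConjClasses.mk g = C ∧ Cfsg.IsPRegular p g ∧ d ≤ (Nat.card (Subgroup.centralizer ({g} : Set G))).factorization p} := by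
  classical
  haveI := Fintype.ofFinite G
  haveI := Fintype.ofFinite (ConjClasses G)
  haveI hP := Cfsg.Agent.Lib.H23.isPrime_of_isPModular hM
  let ι := {B : Set (IrrCharacter G) // IsPBlock M B ∧ d ≤ blockDefect p B}
  let κ := {c : ConjClasses G // IsRegDefectGe p d c}
  haveI : Fintype ι := Fintype.ofFinite ι
  haveI : Fintype κ := Fintype.ofFinite κ
  have hκ : Nat.card {C : ConjClasses G // ∃ g : G, ConjClasses.mk g = C ∧ Cfsg.IsPRegular p g ∧
      d ≤ (Nat.card (Subgroup.centralizer ({g} : Set G))).factorization p} = Nat.card κ := by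
    refine Nat.card_congr (Equiv.subtypeEquivRight fun c => ?_)
    constructor
    · rintro ⟨g, hg, h1, h2⟩
      have hconj : IsConj g (Cfsg.Agent.Lib.H23.classRep c) := by
        rw [← ConjClasses.mk_eq_mk_iff_isConj, hg, Cfsg.Agent.Lib.H23.mk_classRep]
      refine ⟨?_, ?_⟩
      · have h1' : ¬ p ∣ orderOf g := h1
        rwa [← Cfsg.Agent.Lib.H23.orderOf_eq_of_isConj hconj]
      · rwa [← Cfsg.Agent.Lib.H24.card_centralizer_eq_of_isConj hconj]
    · rintro ⟨h1, h2⟩
      exact ⟨Cfsg.Agent.Lib.H23.classRep c, Cfsg.Agent.Lib.H23.mk_classRep c, h1, h2⟩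
  rw [hκ, Nat.card_eq_fintype_card, Nat.card_eq_fintype_card]
  have hrep : ∀ B : ι, ∃ χ : IrrCharacter G, (B : Set (IrrCharacter G)) = blockOf M (χ : G → ℂ) :=
    fun B => B.2.1
  choose rep hrepB using hrep
  have hdef : ∀ B : ι, d ≤ blockDefect p (blockOf M (rep B : G → ℂ)) := fun B => by
    rw [← hrepB B]; exact B.2.2
  let Q := Cfsg.Agent.Lib.H23.localRing M ⧸ Cfsg.Agent.S4505.localIdealI M
  haveI : Nontrivial Q :=
    Ideal.Quotient.nontrivial_iff.mpr (Cfsg.Agent.S4505.localIdealI_ne_top M)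
  let A : Matrix ι κ Q := fun B c => Ideal.Quotient.mk (Cfsg.Agent.S4505.localIdealI M)
    ⟨blockCoeff (blockOf M (rep B : G → ℂ)) (Cfsg.Agent.Lib.H23.classRep c.1),
      Cfsg.Agent.Lib.H23.memLocalRing_blockCoeff hM (rep B) _⟩
  let L : Matrix κ ι Q := fun c B => Ideal.Quotient.mk (Cfsg.Agent.S4505.localIdealI M)
    ⟨centralChar (rep B : G → ℂ) (Cfsg.Agent.Lib.H23.classRep c.1),
      Cfsg.Agent.Lib.H23.coe_mem_localRing (Cfsg.Agent.Lib.H23.omegaInt (rep B) _)⟩
  refine Cfsg.Agent.S4505.card_le_card_of_mul_eq_one A L ?_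
  ext B B'
  rw [Matrix.mul_apply]
  simp only [A, L, ← map_mul, ← map_sum]
  have h1 := omega_blockIdem_sub_sum_mem_ge hM (rep B) (rep B') d (hdef B')
  rw [Cfsg.Agent.Lib.H23.omega_blockIdem] at h1
  have hiff : rep B' ∈ blockOf M (rep B : G → ℂ) ↔ B = B' := by
    constructor
    · intro h
      apply Subtype.ext
      rw [hrepB B, hrepB B']
      ext ψ
      constructor
      · intro hψ
        exact Cfsg.Agent.Lib.H23.sameBlock_trans (Cfsg.Agent.Lib.H23.sameBlock_symm h) hψ
      · intro hψ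
        exact Cfsg.Agent.Lib.H23.sameBlock_trans h hψ
    · rintro rfl
      exact Cfsg.Agent.Lib.H23.mem_blockOf_self _
  rw [Matrix.one_apply]
  have h2 : (if B = B' then (1 : Q) else 0) = Ideal.Quotient.mk (Cfsg.Agent.S4505.localIdealI M)
      (if B = B' then 1 else 0) := by
    split_ifs <;> simp
  rw [h2, Ideal.Quotient.eq, Cfsg.Agent.S4505.mem_localIdealI]
  have h3 : ((∑ c : κ, (⟨blockCoeff (blockOf M (rep B : G → ℂ))
        (Cfsg.Agent.Lib.H23.classRep c.1),
      Cfsg.Agent.Lib.H23.memLocalRing_blockCoeff hM (rep B) _⟩ : Cfsg.Agent.Lib.H23.localRing M) *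
      ⟨centralChar (rep B' : G → ℂ) (Cfsg.Agent.Lib.H23.classRep c.1),
        Cfsg.Agent.Lib.H23.coe_mem_localRing (Cfsg.Agent.Lib.H23.omegaInt (rep B') _)⟩ -
      (if B = B' then 1 else 0) : Cfsg.Agent.Lib.H23.localRing M) : ℂ) =
      -((if rep B' ∈ blockOf M (rep B : G → ℂ) then (1 : ℂ) else 0) -
        ∑ c : ConjClasses G, if IsRegDefectGe p d c then
          blockCoeff (blockOf M (rep B : G → ℂ)) (Cfsg.Agent.Lib.H23.classRep c) *
            centralChar (rep B' : G → ℂ) (Cfsg.Agent.Lib.H23.classRep c) else 0) := by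
    have hsum : ∑ c : ConjClasses G, (if IsRegDefectGe p d c then
          blockCoeff (blockOf M (rep B : G → ℂ)) (Cfsg.Agent.Lib.H23.classRep c) *
            centralChar (rep B' : G → ℂ) (Cfsg.Agent.Lib.H23.classRep c) else 0) =
        ∑ c : κ, blockCoeff (blockOf M (rep B : G → ℂ)) (Cfsg.Agent.Lib.H23.classRep c.1) *
            centralChar (rep B' : G → ℂ) (Cfsg.Agent.Lib.H23.classRep c.1) := by
      rw [← Finset.sum_filter]
      exact Finset.sum_subtype (Finset.univ.filter (IsRegDefectGe p d))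
        (p := IsRegDefectGe p d) (by simp)
        (fun c => blockCoeff (blockOf M (rep B : G → ℂ)) (Cfsg.Agent.Lib.H23.classRep c) *
          centralChar (rep B' : G → ℂ) (Cfsg.Agent.Lib.H23.classRep c))
    rw [hsum]
    by_cases hBB : B = B'
    · rw [if_pos hBB, if_pos (hiff.mpr hBB)]
      push_cast
      ring
    · rw [if_neg hBB, if_neg (fun h => hBB (hiff.mp h))]
      push_cast
      ring
  rw [h3]
  exact Cfsg.Agent.Lib.H23.memLocalIdeal_neg h1

end Cfsg.Agent.S0962
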