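import Mathlib
import Cfsg.Statements.S0963
import Cfsg.Agent.S0174
import Cfsg.Agent.S1485
import Cfsg.Agent.Lib.L0.CharCentral
import Cfsg.Agent.Lib.L0.CharDegree
import Cfsg.Agent.Lib.H24.CharBasic

set_option autoImplicit false
open Cfsg

namespace Cfsg.Agent.S0963

open scoped ComplexConjugate
open Cfsg.Agent.Lib.L0 Cfsg.Agent.Lib.H24

/-- Let N be a normal subgroup of the finite group G, χ an irreducible character of G and θ an irreducible character of N. Then θ occurs in the restriction of χ to N if and only if, for every n ∈ N, the central character of χ at n (class size in G times χ n over χ 1) equals the sum of θ m / θ 1 over the elements m of N conjugate in G to n. -/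
theorem result {G : Type*} [Group G] [Fintype G] (N : Subgroup G) [N.Normal] [Fintype N] (χ : Cfsg.IrrCharacter G) (θ : Cfsg.IrrCharacter N) : Cfsg.classInner (fun n : N => (χ : G → ℂ) n) (θ : N → ℂ) ≠ 0 ↔ ∀ n : N, Cfsg.centralChar (χ : G → ℂ) (n : G) = Cfsg.inducedCentralChar N (θ : N → ℂ) (n : G) := by
  classical
  have hN : N.Normal := inferInstance
  obtain ⟨Θ, hΘ⟩ : ∃ Θ : N → ℂ, Θ = ∑ᶠ ψ ∈ {ψ : N → ℂ | ∃ g : G, ψ = fun n : N =>
      (θ : N → ℂ) ⟨g * n * g⁻¹, hN.conj_mem n n.2 g⟩}, ψ := ⟨_, rfl⟩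
  have hΦ := Cfsg.Agent.S1485.result N (θ : N → ℂ) θ.2
  rw [← hΘ] at hΦ
  obtain ⟨r, hr⟩ : ∃ r : ℂ, r = ((Nat.card {g : G // ∀ h : N, (θ : N → ℂ)
      ⟨g * h * g⁻¹, hN.conj_mem h h.2 g⟩ = (θ : N → ℂ) h} : ℂ) / (Nat.card N : ℂ)) := ⟨_, rfl⟩
  rw [← hr] at hΦ
  have hχ1 : (χ : G → ℂ) 1 ≠ 0 := irr_one_ne_zero χ
  have hθ1 : (θ : N → ℂ) 1 ≠ 0 := irr_one_ne_zero θ
  have hind1 : Cfsg.indFun N (θ : N → ℂ) 1 ≠ 0 := by
    rw [indFun_apply_one]
    refine mul_ne_zero ?_ hθ1
    exact_mod_cast Subgroup.index_ne_zero_of_finite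
  have hidx : ∀ g : G, ((Subgroup.centralizer ({g} : Set G)).index : ℂ) ≠ 0 := by
    intro g
    exact_mod_cast Subgroup.index_ne_zero_of_finite
  have hΦn : ∀ n : N, Cfsg.indFun N (θ : N → ℂ) (n : G) = r * Θ n := fun n => congrFun hΦ n
  have hΦ1 : Cfsg.indFun N (θ : N → ℂ) 1 = r * Θ 1 := by
    have := hΦn 1
    rwa [Subgroup.coe_one] at this
  have hrne : r ≠ 0 := by
    intro h0
    rw [h0, zero_mul] at hΦ1
    exact hind1 hΦ1
  simp only [inducedCentralChar_eq]
  constructor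
  · intro he
    have hf := Cfsg.Agent.S0174.result N hN (χ : G → ℂ) χ.2 (θ : N → ℂ) θ.2 he
    rw [← hΘ] at hf
    obtain ⟨e, hee⟩ : ∃ e : ℂ, e = Cfsg.classInner (fun n : N => (χ : G → ℂ) n) (θ : N → ℂ) :=
      ⟨_, rfl⟩
    rw [← hee] at hf he
    have hfn : ∀ n : N, (χ : G → ℂ) (n : G) = e * Θ n := fun n => congrFun hf n
    have hf1 : (χ : G → ℂ) 1 = e * Θ 1 := by
      have := hfn 1
      rwa [Subgroup.coe_one] at this
    intro n
    unfold Cfsg.centralChar
    have e1 : e * Θ n / (e * Θ 1) = Θ n / Θ 1 := mul_div_mul_left _ _ he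
    have e2 : r * Θ n / (r * Θ 1) = Θ n / Θ 1 := mul_div_mul_left _ _ hrne
    rw [hfn n, hf1, hΦn n, hΦ1, mul_div_assoc, e1, mul_div_assoc, e2]
  · intro h
    have hval : ∀ n : N, (χ : G → ℂ) (n : G) =
        ((χ : G → ℂ) 1 / Cfsg.indFun N (θ : N → ℂ) 1) * Cfsg.indFun N (θ : N → ℂ) (n : G) := by
      intro n
      have := h n
      unfold Cfsg.centralChar at this
      rw [mul_div_assoc, mul_div_assoc] at this
      have h2 := mul_left_cancel₀ (hidx (n : G)) this
      field_simp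
      field_simp at h2
      linear_combination h2
    have hfeq : (fun n : N => (χ : G → ℂ) n) =
        ((χ : G → ℂ) 1 / Cfsg.indFun N (θ : N → ℂ) 1) • (fun n : N => Cfsg.indFun N (θ : N → ℂ) n) := by
      funext n
      rw [Pi.smul_apply, smul_eq_mul]
      exact hval n
    rw [hfeq, classInner_smul_left]
    refine mul_ne_zero (div_ne_zero hχ1 hind1) ?_
    rw [← classInner_conj_symm, ← frobenius_reciprocity N (θ : N → ℂ) _
      (indFun_isClassFunction N (θ : N → ℂ))]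
    intro h0
    have h0' : Cfsg.classInner (Cfsg.indFun N (θ : N → ℂ)) (Cfsg.indFun N (θ : N → ℂ)) = 0 := by
      have := congrArg (starRingEnd ℂ) h0
      simpa using this
    have := classInner_self_eq_zero h0'
    rw [this] at hind1
    exact hind1 rfl

end Cfsg.Agent.S0963
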