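import Cfsg.Statements.S0974
import Mathlib
import Cfsg.Agent.Lib.H24.BrauerP4

set_option autoImplicit false
open Cfsg

namespace Cfsg.Agent.S0974

/-- No finite simple group has order 3648 = 2^6 * 3 * 19. -/
theorem result {G : Type*} [Group G] [Finite G] [IsSimpleGroup G] : Nat.card G ≠ 3648 := by
  intro hG
  haveI : Fact (Nat.Prime 19) := ⟨by norm_num⟩
  have hdiv : ∀ d, d ∣ 192 → d % 19 = 1 → d = 1 ∨ d = 96 := by
    intro d hd hmod
    have hle : d ≤ 192 := Nat.le_of_dvd (by norm_num) hd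
    interval_cases d <;> omega
  obtain ⟨ι, S, b, d, εz, x, hεz, hxd, hS, hsq, hdeg, hx, hdsq⟩ :=
    Cfsg.Agent.Lib.H24.BrP.simple_data (G := G) (p := 19) (m := 192) (n₀ := 96) (e₀ := 2) (t := 9)
      (by rw [hG]) (by norm_num) (by norm_num) (by norm_num) hdiv (by norm_num) (by norm_num)
  push_cast at hsq hx
  have hne : S.Nonempty := by
    by_contra h
    rw [Finset.not_nonempty_iff_eq_empty] at h
    rw [h] at hsq
    simp at hsq
  obtain ⟨i, hi⟩ := hne
  obtain ⟨hb0, hdd, hd1, m', hm'⟩ := hS i hi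
  have hbsq : b i ^ 2 ≤ 1 := by
    have := Finset.single_le_sum (f := fun i => b i ^ 2) (fun j _ => sq_nonneg (b j)) hi
    rw [hsq] at this
    linarith
  have hdle : d i ^ 2 ≤ 3648 := by
    have := Finset.single_le_sum (f := fun i => d i ^ 2) (fun j _ => Nat.zero_le _) hi
    omega
  have hd60 : d i ≤ 60 := by nlinarith
  have hb : b i = 1 ∨ b i = -1 := by
    have : -1 ≤ b i ∧ b i ≤ 1 := by constructor <;> nlinarith
    omega
  rw [hG] at hdd
  obtain ⟨n, hn⟩ : ∃ n, n = d i := ⟨_, rfl⟩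
  rw [← hn] at hdd hd1 hm' hd60
  push_cast at hm'
  interval_cases n <;> omega

end Cfsg.Agent.S0974
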