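import Cfsg.Statements.S0976
import Cfsg.Agent.Lib.H5.Ord.O4032a
import Cfsg.Agent.Lib.H5.Ord.O4032c
import Cfsg.Agent.Lib.H17.O4032_T6b
import Cfsg.Agent.Lib.H20.O4032_T12

set_option autoImplicit false
open Cfsg

namespace Cfsg.Agent.S0976

/-- No finite simple group has order 4032 = 2^6 * 3^2 * 7. -/
theorem result {G : Type*} [Group G] [Finite G] [IsSimpleGroup G] : Nat.card G ≠ 4032 := by
  intro hG
  have : Fact (Nat.Prime 7) := ⟨by norm_num⟩
  let P : Sylow 7 G := default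
  obtain ⟨hP, hNtop, h | h | h⟩ := Cfsg.Agent.Lib.H5.O4032.cases hG P
  · exact Cfsg.Agent.Lib.H5.O4032.caseB hG P hP hNtop h.1 h.2.1 h.2.2
  · exact Cfsg.Agent.Lib.H5.O4032.caseC hG P hP hNtop h.1 h.2.1 h.2.2
  · exact Cfsg.Agent.Lib.H5.O4032.caseD hG P hP hNtop h.1 h.2.1 h.2.2

end Cfsg.Agent.S0976
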