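import Cfsg.Statements.S0977
import Cfsg.Agent.Lib.H5.O4320O1
import Cfsg.Agent.Lib.H24.O4320O6

set_option autoImplicit false
open Cfsg

namespace Cfsg.Agent.S0977

/-- No finite simple group has order 4320 = 2^5 * 3^3 * 5. -/
theorem result {G : Type*} [Group G] [Finite G] [IsSimpleGroup G] : Nat.card G ≠ 4320 := by
  intro hG
  classical
  have := Fintype.ofFinite G
  obtain ⟨K, hK, hC, hN⟩ := Cfsg.Agent.Lib.H5.O4320.sylow_data hG
  have hperf : commutator G = ⊤ :=
    Cfsg.Agent.Lib.H24.BrP.commutator_eq_top_of_simple (by rw [hG]; norm_num)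
  exact Cfsg.Agent.Lib.H24.O4320.false_of_data hG hperf K hK hC hN

end Cfsg.Agent.S0977
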