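import Cfsg.Statements.S0979
import Mathlib
import Cfsg.Agent.Lib.H24.BrauerP4

set_option autoImplicit false
open Cfsg

namespace Cfsg.Agent.S0979

/-- No finite simple group has order 5472 = 2^5 * 3^2 * 19. -/
theorem result {G : Type*} [Group G] [Finite G] [IsSimpleGroup G] : Nat.card G ≠ 5472 := by
  intro hG
  haveI : Fact (Nat.Prime 19) := ⟨by norm_num⟩
  have hdiv : ∀ d, d ∣ 288 → d % 19 = 1 → d = 1 ∨ d = 96 := by
    intro d hd hmod
    have hle : d ≤ 288 := Nat.le_of_dvd (by norm_num) hd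
    interval_cases d <;> omega
  obtain ⟨ι, S, b, d, εz, x, hεz, hxd, hS, hsq, hdeg, hx, hdsq⟩ :=
    Cfsg.Agent.Lib.H24.BrP.simple_data (G := G) (p := 19) (m := 288) (n₀ := 96) (e₀ := 3) (t := 6)
      (by rw [hG]) (by norm_num) (by norm_num) (by norm_num) hdiv (by norm_num) (by norm_num)
  push_cast at hsq hx
  have hall : ∀ i ∈ S, b i = -1 ∧ d i = 18 := by
    intro i hi
    obtain ⟨hb0, hdd, hd1, m', hm'⟩ := hS i hi
    have hbsq : b i ^ 2 ≤ 2 := by
      have := Finset.single_le_sum (f := fun i => b i ^ 2) (fun j _ => sq_nonneg (b j)) hi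
      rw [hsq] at this
      linarith
    have hdle : d i ^ 2 ≤ 5472 := by
      have := Finset.single_le_sum (f := fun i => d i ^ 2) (fun j _ => Nat.zero_le _) hi
      omega
    have hd73 : d i ≤ 73 := by nlinarith
    have hb : b i = 1 ∨ b i = -1 := by
      have : -1 ≤ b i ∧ b i ≤ 1 := by constructor <;> nlinarith
      omega
    rw [hG] at hdd
    obtain ⟨n, hn⟩ : ∃ n, n = d i := ⟨_, rfl⟩
    rw [← hn] at hdd hd1 hm' hd73 ⊢
    push_cast at hm'
    interval_cases n <;> omega
  have h1 : ∑ i ∈ S, b i ^ 2 = (S.card : ℤ) := by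
    rw [Finset.sum_congr rfl fun i hi => by rw [(hall i hi).1], Finset.sum_const]
    simp
  have h2 : ∑ i ∈ S, b i * (d i : ℤ) = -18 * (S.card : ℤ) := by
    rw [Finset.sum_congr rfl fun i hi => by rw [(hall i hi).1, (hall i hi).2], Finset.sum_const]
    simp
    ring
  rw [h1] at hsq
  rw [h2, hsq] at hdeg
  rw [hG] at hxd
  have hx35 : x = 35 := by
    rcases hεz with h | h <;> rw [h] at hdeg <;> omega
  rw [hx35] at hxd
  omega

end Cfsg.Agent.S0979
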