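import Cfsg.Statements.S0983
import Mathlib
import Cfsg.Agent.Lib.H5.Ord.Sieve983_36
import Cfsg.Agent.Lib.H5.Ord.Sieve983_37
import Cfsg.Agent.Lib.H5.Ord.Sieve983_38
import Cfsg.Agent.Lib.H5.Ord.Sieve983_39
import Cfsg.Agent.Lib.H5.Ord.Sieve983_40
import Cfsg.Agent.Lib.H5.Ord.Sieve983_41
import Cfsg.Agent.Lib.H5.Ord.Sieve983_42
import Cfsg.Agent.Lib.H5.Ord.Sieve983_43
import Cfsg.Agent.Lib.H5.Ord.Sieve983_44
import Cfsg.Agent.Lib.H5.Ord.Sieve983_45
import Cfsg.Agent.Lib.H5.Ord.Sieve983_46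
import Cfsg.Agent.Lib.H5.Ord.Sieve983_47
import Cfsg.Agent.Lib.H5.Ord.Sieve983_48
import Cfsg.Agent.Lib.H5.Ord.Sieve983_49
import Cfsg.Agent.Lib.H5.Ord.Sieve983_50
import Cfsg.Agent.Lib.H5.Ord.Sieve983_51
import Cfsg.Agent.Lib.H5.Ord.Sieve983_52
import Cfsg.Agent.Lib.H5.Ord.Sieve983_53
import Cfsg.Agent.Lib.H5.Ord.Sieve983_54
import Cfsg.Agent.Lib.H5.Ord.Sieve983_55
import Cfsg.Agent.Lib.H5.Ord.Sieve983_56
import Cfsg.Agent.Lib.H5.Ord.Sieve983_57
import Cfsg.Agent.Lib.H5.Ord.Sieve983_58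
import Cfsg.Agent.Lib.H5.Ord.Sieve983_59
import Cfsg.Agent.Lib.H5.Ord.Sieve983_60
import Cfsg.Agent.Lib.H5.Ord.Sieve983_61
import Cfsg.Agent.Lib.H5.Ord.Sieve983_62
import Cfsg.Agent.Lib.H10.O983x4212
import Cfsg.Agent.Lib.H10.O983x4284
import Cfsg.Agent.Lib.H10.O983x5320
import Cfsg.Agent.Lib.H10.O983x5880
import Cfsg.Agent.Lib.H12.O983x4732
import Cfsg.Agent.Lib.H12.O983x4900
import Cfsg.Agent.Lib.H12.O983x5236
import Cfsg.Agent.Lib.H12.O983x5600
import Cfsg.Agent.Lib.H12.O983x5852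
import Cfsg.Agent.Lib.H15.O983x3696
import Cfsg.Agent.Lib.H15.O983x3780
import Cfsg.Agent.Lib.H16.O983x4960
import Cfsg.Agent.Lib.H18.O983x4500
import Cfsg.Agent.Lib.H18.O983x4725
import Cfsg.Agent.Lib.H18.O983x4760
import Cfsg.Agent.Lib.H18.O983x5292
import Cfsg.Agent.Lib.H18.O983x5460
import Cfsg.Agent.Lib.H18.O983x6000
import Cfsg.Agent.Lib.H21.O983x5148
import Cfsg.Agent.Lib.H21.O983x5940
import Cfsg.Agent.Lib.H22.O983x4620
import Cfsg.Agent.Lib.H22.O983x5104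
import Cfsg.Agent.Lib.H26.O983x3960
import Cfsg.Agent.Lib.H26.O983x5400
import Cfsg.Agent.Lib.H3.O983x4200
import Cfsg.Agent.Lib.H6.O983x4680
import Cfsg.Agent.Lib.H9.O983x5724
import Cfsg.Agent.Lib.H9.O983xB
import Cfsg.Agent.S0974
import Cfsg.Agent.S0975
import Cfsg.Agent.S0976
import Cfsg.Agent.S0977
import Cfsg.Agent.S0978
import Cfsg.Agent.S0979
import Cfsg.Agent.S0980

set_option autoImplicit false
open Cfsg

namespace Cfsg.Agent.S0983

open Cfsg.Agent.Lib.H5.Sieve983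

/-- A non-abelian finite simple group of order greater than 3640 and at most 6232 has order 4080, 5616, 6048 or 6072. -/
theorem result {G : Type*} [Group G] [Finite G] [IsSimpleGroup G] (hG : ¬ IsMulCommutative G) (h1 : 3640 < Nat.card G) (h2 : Nat.card G ≤ 6232) : Nat.card G = 4080 ∨ Nat.card G = 5616 ∨ Nat.card G = 6048 ∨ Nat.card G = 6072 := by
  by_cases c36 : Nat.card G ≤ 3699
  · exact chunk36 hG (by omega) c36 Cfsg.Agent.S0974.result Cfsg.Agent.Lib.H15.O983.not_simple_3696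
  by_cases c37 : Nat.card G ≤ 3799
  · exact chunk37 hG (by omega) c37 Cfsg.Agent.S0975.result Cfsg.Agent.Lib.H15.O983.not_simple_3780
  by_cases c38 : Nat.card G ≤ 3899
  · exact chunk38 hG (by omega) c38 Cfsg.Agent.Lib.H9.O983.not_simple_3840
  by_cases c39 : Nat.card G ≤ 3999
  · exact chunk39 hG (by omega) c39 Cfsg.Agent.Lib.H26.O983.not_simple_3960
  by_cases c40 : Nat.card G ≤ 4099
  · exact chunk40 hG (by omega) c40 Cfsg.Agent.S0976.result
  by_cases c41 : Nat.card G ≤ 4199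
  · exact chunk41 hG (by omega) c41
  by_cases c42 : Nat.card G ≤ 4299
  · exact chunk42 hG (by omega) c42 Cfsg.Agent.Lib.H3.O983.not_simple_4200 Cfsg.Agent.Lib.H10.O983.not_simple_4212 Cfsg.Agent.Lib.H10.O983.not_simple_4284
  by_cases c43 : Nat.card G ≤ 4399
  · exact chunk43 hG (by omega) c43 Cfsg.Agent.S0977.result
  by_cases c44 : Nat.card G ≤ 4499
  · exact chunk44 hG (by omega) c44 Cfsg.Agent.Lib.H9.O983.not_simple_4400 Cfsg.Agent.Lib.H9.O983.not_simple_4480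
  by_cases c45 : Nat.card G ≤ 4599
  · exact chunk45 hG (by omega) c45 Cfsg.Agent.Lib.H18.O983.not_simple_4500 Cfsg.Agent.Lib.H9.O983.not_simple_4512 Cfsg.Agent.Lib.H9.O983.not_simple_4536
  by_cases c46 : Nat.card G ≤ 4699
  · exact chunk46 hG (by omega) c46 Cfsg.Agent.Lib.H22.O983.not_simple_4620 Cfsg.Agent.Lib.H6.O983.not_simple_4680
  by_cases c47 : Nat.card G ≤ 4799
  · exact chunk47 hG (by omega) c47 Cfsg.Agent.Lib.H18.O983.not_simple_4725 Cfsg.Agent.Lib.H12.O983.not_simple_4732 Cfsg.Agent.Lib.H18.O983.not_simple_4760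
  by_cases c48 : Nat.card G ≤ 4899
  · exact chunk48 hG (by omega) c48 Cfsg.Agent.Lib.H9.O983.not_simple_4800 Cfsg.Agent.Lib.H9.O983.not_simple_4896
  by_cases c49 : Nat.card G ≤ 4999
  · exact chunk49 hG (by omega) c49 Cfsg.Agent.Lib.H12.O983.not_simple_4900 Cfsg.Agent.Lib.H9.O983.not_simple_4928 Cfsg.Agent.Lib.H16.O983.not_simple_4960
  by_cases c50 : Nat.card G ≤ 5099
  · exact chunk50 hG (by omega) c50 Cfsg.Agent.S0978.result
  by_cases c51 : Nat.card G ≤ 5199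
  · exact chunk51 hG (by omega) c51 Cfsg.Agent.Lib.H22.O983.not_simple_5104 Cfsg.Agent.Lib.H21.O983.not_simple_5148
  by_cases c52 : Nat.card G ≤ 5299
  · exact chunk52 hG (by omega) c52 Cfsg.Agent.Lib.H12.O983.not_simple_5236 Cfsg.Agent.Lib.H18.O983.not_simple_5292
  by_cases c53 : Nat.card G ≤ 5399
  · exact chunk53 hG (by omega) c53 Cfsg.Agent.Lib.H10.O983.not_simple_5320 Cfsg.Agent.Lib.H9.O983.not_simple_5376
  by_cases c54 : Nat.card G ≤ 5499
  · exact chunk54 hG (by omega) c54 Cfsg.Agent.Lib.H26.O983.not_simple_5400 Cfsg.Agent.Lib.H18.O983.not_simple_5460 Cfsg.Agent.S0979.result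
  by_cases c55 : Nat.card G ≤ 5599
  · exact chunk55 hG (by omega) c55
  by_cases c56 : Nat.card G ≤ 5699
  · exact chunk56 hG (by omega) c56 Cfsg.Agent.Lib.H12.O983.not_simple_5600
  by_cases c57 : Nat.card G ≤ 5799
  · exact chunk57 hG (by omega) c57 Cfsg.Agent.Lib.H9.O983.not_simple_5724 Cfsg.Agent.S0980.result
  by_cases c58 : Nat.card G ≤ 5899
  · exact chunk58 hG (by omega) c58 Cfsg.Agent.Lib.H12.O983.not_simple_5852 Cfsg.Agent.Lib.H10.O983.not_simple_5880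
  by_cases c59 : Nat.card G ≤ 5999
  · exact chunk59 hG (by omega) c59 Cfsg.Agent.Lib.H21.O983.not_simple_5940 Cfsg.Agent.Lib.H9.O983.not_simple_5952
  by_cases c60 : Nat.card G ≤ 6099
  · exact chunk60 hG (by omega) c60 Cfsg.Agent.Lib.H18.O983.not_simple_6000
  by_cases c61 : Nat.card G ≤ 6199
  · exact chunk61 hG (by omega) c61
  · exact chunk62 hG (by omega) h2

end Cfsg.Agent.S0983
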