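import Mathlib
import Cfsg.Statements.S0986
import Cfsg.Agent.Lib.H5.SylowIn

set_option autoImplicit false
open Cfsg

namespace Cfsg.Agent.S0986

open Cfsg.Agent.Lib.H5 Subgroup

variable {G : Type*} [Group G]

/-- In a finite `p`-group `P`, a proper subgroup `D` is properly contained in its normalizer in `P`. -/
theorem exists_mem_normalizer_not_mem [Finite G] (p : ℕ) [Fact p.Prime] (P D : Subgroup G)
    (hP : IsPGroup p P) (hDP : D ≤ P) (hne : D ≠ P) :
    ∃ x ∈ P, x ∈ normalizer (D : Set G) ∧ x ∉ D := by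
  have hnil : Group.IsNilpotent P := hP.isNilpotent
  have hnc : NormalizerCondition P := Group.normalizerCondition_of_isNilpotent
  have hlt : D.subgroupOf P < ⊤ := by
    rw [lt_top_iff_ne_top]
    intro h
    apply hne
    apply le_antisymm hDP
    intro x hx
    have : (⟨x, hx⟩ : P) ∈ D.subgroupOf P := by rw [h]; trivial
    rwa [mem_subgroupOf] at this
  have h1 := hnc _ hlt
  obtain ⟨x, hxN, hxD⟩ := SetLike.exists_of_lt h1
  refine ⟨x, x.2, ?_, ?_⟩
  · rw [mem_normalizer_iff] at hxN ⊢
    intro h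
    constructor
    · intro hh
      have := (hxN ⟨h, hDP hh⟩).mp (by rw [mem_subgroupOf]; exact hh)
      rw [mem_subgroupOf] at this
      exact this
    · intro hh
      have hhP : h ∈ P := by
        have : h = (x : G)⁻¹ * ((x : G) * h * (x : G)⁻¹) * x := by group
        rw [this]
        exact P.mul_mem (P.mul_mem (P.inv_mem x.2) (hDP hh)) x.2
      have := (hxN ⟨h, hhP⟩).mpr (by rw [mem_subgroupOf]; exact hh)
      rw [mem_subgroupOf] at this
      exact this
  · intro h
    apply hxD
    rw [mem_subgroupOf]; exact h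

/-- A normal `p`-subgroup `D` of `N = N(D)` lies in every Sylow `p`-subgroup of `N`. -/
theorem le_of_isSylowIn_normalizer (p : ℕ) [Fact p.Prime] (D X : Subgroup G) (hD : IsPGroup p D)
    (hX : IsSylowIn p X (normalizer (D : Set G))) : D ≤ X := by
  obtain ⟨S, rfl⟩ := hX.exists_sylow
  have hn : (D.subgroupOf (normalizer (D : Set G))).Normal := normal_in_normalizer
  have h1 : IsPGroup p (D.subgroupOf (normalizer (D : Set G))) := hD.comap_subtype
  have h2 := h1.le_sylow_of_normal S
  intro d hd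
  exact ⟨⟨d, le_normalizer hd⟩, h2 (by rw [mem_subgroupOf]; exact hd), rfl⟩

/-- Let P and Q be distinct Sylow p-subgroups of a finite group G chosen so that the order of P ∩ Q is as large as possible among intersections of two distinct Sylow p-subgroups, and let N be the normalizer of P ∩ Q. Then N has more than one Sylow p-subgroup, any two distinct Sylow p-subgroups of N intersect exactly in P ∩ Q, and each Sylow p-subgroup of N lies in exactly one Sylow p-subgroup of G. -/
theorem result {G : Type*} [Group G] [Finite G] (p : ℕ) [Fact p.Prime] (P Q : Sylow p G) (hPQ : P ≠ Q) (hmax : ∀ P' Q' : Sylow p G, P' ≠ Q' → Nat.card ↥((P' : Subgroup G) ⊓ (Q' : Subgroup G)) ≤ Nat.card ↥((P : Subgroup G) ⊓ (Q : Subgroup G))) : 1 < Nat.card (Sylow p ↥(Subgroup.normalizer (((P : Subgroup G) ⊓ (Q : Subgroup G) : Subgroup G) : Set G))) ∧ (∀ S T : Sylow p ↥(Subgroup.normalizer (((P : Subgroup G) ⊓ (Q : Subgroup G) : Subgroup G) : Set G)), S ≠ T → (S : Subgroup _) ⊓ (T : Subgroup _) = ((P : Subgroup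 G) ⊓ (Q : Subgroup G)).subgroupOf (Subgroup.normalizer (((P : Subgroup G) ⊓ (Q : Subgroup G) : Subgroup G) : Set G))) ∧ ∀ S : Sylow p ↥(Subgroup.normalizer (((P : Subgroup G) ⊓ (Q : Subgroup G) : Subgroup G) : Set G)), ∃! T : Sylow p G, (S : Subgroup _).map (Subgroup.normalizer (((P : Subgroup G) ⊓ (Q : Subgroup G) : Subgroup G) : Set G)).subtype ≤ (T : Subgroup G) := by
  set D : Subgroup G := (P : Subgroup G) ⊓ (Q : Subgroup G) with hD
  set N : Subgroup G := normalizer (D : Set G) with hN
  have hDp : IsPGroup p D := P.2.to_le inf_le_left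
  have hDN : D ≤ N := le_normalizer
  -- D ≠ P, D ≠ Q
  have hDP : D ≠ (P : Subgroup G) := by
    intro h
    apply hPQ
    have : (P : Subgroup G) ≤ Q := by rw [← h]; exact inf_le_right
    exact (Sylow.ext (P.is_maximal' Q.2 this)).symm
  have hDQ : D ≠ (Q : Subgroup G) := by
    intro h
    apply hPQ
    have : (Q : Subgroup G) ≤ P := by rw [← h]; exact inf_le_left
    exact Sylow.ext (Q.is_maximal' P.2 this)
  obtain ⟨x, hxP, hxN, hxD⟩ := exists_mem_normalizer_not_mem p P D P.2 inf_le_left hDP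
  obtain ⟨y, hyQ, hyN, hyD⟩ := exists_mem_normalizer_not_mem p Q D Q.2 inf_le_right hDQ
  -- |D| < |P ⊓ N|
  have hlt_of : ∀ (R : Sylow p G) (z : G), D ≤ R → z ∈ R → z ∈ N → z ∉ D →
      Nat.card D < Nat.card ((R : Subgroup G) ⊓ N : Subgroup G) := by
    intro R z hDR hzR hzN hzD
    have hle : D ≤ (R : Subgroup G) ⊓ N := le_inf hDR hDN
    rcases (Nat.card_mono (Set.toFinite _) hle : Nat.card D ≤ _).lt_or_eq with h | h
    · exact h
    · exfalso
      have := eq_of_le_of_card_ge hle (le_of_eq h.symm)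
      apply hzD
      rw [this]; exact ⟨hzR, hzN⟩
  have hPNlt := hlt_of P x inf_le_left hxP hxN hxD
  have hQNlt := hlt_of Q y inf_le_right hyQ hyN hyD
  -- every Sylow of N is bigger than D
  have hbig : ∀ X : Subgroup G, IsSylowIn p X N → Nat.card D < Nat.card X := by
    intro X hX
    obtain ⟨X', hX', hle⟩ := exists_isSylowIn_ge (P.2.to_le (inf_le_left : (P : Subgroup G) ⊓ N ≤ P))
      (inf_le_right : (P : Subgroup G) ⊓ N ≤ N)
    rw [hX.card_eq, ← hX'.card_eq]
    exact hPNlt.trans_le (Nat.card_mono (Set.toFinite _) hle)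
  -- uniqueness of the Sylow subgroup of G containing a Sylow of N
  have huniq : ∀ X : Subgroup G, IsSylowIn p X N → ∀ T₁ T₂ : Sylow p G,
      X ≤ T₁ → X ≤ T₂ → T₁ = T₂ := by
    intro X hX T₁ T₂ h1 h2
    by_contra hne
    have h3 := hmax T₁ T₂ hne
    have h4 : Nat.card X ≤ Nat.card ((T₁ : Subgroup G) ⊓ (T₂ : Subgroup G) : Subgroup G) :=
      Nat.card_mono (Set.toFinite _) (le_inf h1 h2)
    have := hbig X hX
    omega
  -- intersection of two distinct Sylows of N
  have hint : ∀ X Y : Subgroup G, IsSylowIn p X N → IsSylowIn p Y N → X ≠ Y → X ⊓ Y = D := by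
    intro X Y hX hY hXY
    obtain ⟨T₁, hT₁⟩ := hX.2.1.exists_le_sylow
    obtain ⟨T₂, hT₂⟩ := hY.2.1.exists_le_sylow
    have hne : T₁ ≠ T₂ := by
      intro h
      apply hXY
      have e1 := hX.2.2 ((T₁ : Subgroup G) ⊓ N) (T₁.2.to_le inf_le_left) (le_inf hT₁ hX.1) inf_le_right
      have e2 := hY.2.2 ((T₂ : Subgroup G) ⊓ N) (T₂.2.to_le inf_le_left) (le_inf hT₂ hY.1) inf_le_right
      rw [← e1, ← e2, h]
    have h3 := hmax T₁ T₂ hne
    have hDle : D ≤ X ⊓ Y :=
      le_inf (le_of_isSylowIn_normalizer p D X hDp hX) (le_of_isSylowIn_normalizer p D Y hDp hY)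
    have h4 : Nat.card (X ⊓ Y : Subgroup G) ≤ Nat.card ((T₁ : Subgroup G) ⊓ (T₂ : Subgroup G) : Subgroup G) :=
      Nat.card_mono (Set.toFinite _) (inf_le_inf hT₁ hT₂)
    exact (eq_of_le_of_card_ge hDle (h4.trans h3)).symm
  refine ⟨?_, ?_, ?_⟩
  · -- more than one Sylow subgroup
    obtain ⟨X, hX, hPX⟩ := exists_isSylowIn_ge (P.2.to_le (inf_le_left : (P : Subgroup G) ⊓ N ≤ P))
      (inf_le_right : (P : Subgroup G) ⊓ N ≤ N)
    obtain ⟨Y, hY, hQY⟩ := exists_isSylowIn_ge (Q.2.to_le (inf_le_left : (Q : Subgroup G) ⊓ N ≤ Q))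
      (inf_le_right : (Q : Subgroup G) ⊓ N ≤ N)
    have hXY : X ≠ Y := by
      intro hXY
      obtain ⟨T, hT⟩ := hX.2.1.exists_le_sylow
      have hTP : T = P := by
        by_contra hne
        have h3 := hmax P T (Ne.symm hne)
        have h4 : Nat.card ((P : Subgroup G) ⊓ N : Subgroup G) ≤
            Nat.card ((P : Subgroup G) ⊓ (T : Subgroup G) : Subgroup G) :=
          Nat.card_mono (Set.toFinite _) (le_inf inf_le_left (hPX.trans hT))
        omega
      have hTQ : T = Q := by
        by_contra hne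
        have h3 := hmax Q T (Ne.symm hne)
        have h4 : Nat.card ((Q : Subgroup G) ⊓ N : Subgroup G) ≤
            Nat.card ((Q : Subgroup G) ⊓ (T : Subgroup G) : Subgroup G) :=
          Nat.card_mono (Set.toFinite _) (le_inf inf_le_left ((hXY ▸ hQY).trans hT))
        omega
      exact hPQ (hTP.symm.trans hTQ)
    obtain ⟨S, hS⟩ := hX.exists_sylow
    obtain ⟨T, hT⟩ := hY.exists_sylow
    rw [Finite.one_lt_card_iff_nontrivial]
    refine ⟨⟨S, T, ?_⟩⟩
    intro h
    apply hXY
    rw [← hS, ← hT, h]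
  · intro S T hST
    have hS := isSylowIn_of_sylow S
    have hT := isSylowIn_of_sylow T
    have hne : (S : Subgroup N).map N.subtype ≠ (T : Subgroup N).map N.subtype := by
      intro h
      apply hST
      apply Sylow.ext
      exact map_injective N.subtype_injective h
    have := hint _ _ hS hT hne
    rw [← this, ← map_inf _ _ N.subtype N.subtype_injective]
    show _ = comap N.subtype _
    rw [comap_map_eq_self_of_injective N.subtype_injective]
  · intro S
    have hS := isSylowIn_of_sylow S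
    obtain ⟨T, hT⟩ := hS.2.1.exists_le_sylow
    exact ⟨T, hT, fun T' hT' => huniq _ hS T' T hT' hT⟩

end Cfsg.Agent.S0986
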