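import Mathlib
import Cfsg.Statements.S0987

set_option autoImplicit false
open Cfsg

namespace Cfsg.Agent.S0987

/-- If a finite group has order pqr for primes p < q < r, then its Sylow r-subgroups are normal. -/
theorem result {G : Type*} [Group G] [Finite G] (p q r : ℕ) (hp : p.Prime) (hq : q.Prime) [Fact r.Prime] (hpq : p < q) (hqr : q < r) (hG : Nat.card G = p * q * r) (R : Sylow r G) : (R : Subgroup G).Normal := by
  have hr : r.Prime := Fact.out
  have : Fact p.Prime := ⟨hp⟩
  have hpr : p < r := hpq.trans hqr
  -- minFac
  have hmin : (Nat.card G).minFac = p := by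
    rw [hG]
    apply le_antisymm
    · exact Nat.minFac_le_of_dvd hp.two_le ⟨q * r, by ring⟩
    · have h1 : (p * q * r).minFac.Prime := Nat.minFac_prime (by
        have := hp.two_le; have := hq.two_le; have := hr.two_le
        intro h
        have : 2 * 2 * 2 ≤ p * q * r := by gcongr
        omega)
      have h2 : (p * q * r).minFac ∣ p * q * r := Nat.minFac_dvd _
      rcases (h1.dvd_mul).mp h2 with h3 | h3
      · rcases (h1.dvd_mul).mp h3 with h4 | h4
        · exact le_of_eq ((Nat.prime_dvd_prime_iff_eq h1 hp).mp h4).symm
        · rw [(Nat.prime_dvd_prime_iff_eq h1 hq).mp h4]; exact hpq.le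
      · rw [(Nat.prime_dvd_prime_iff_eq h1 hr).mp h3]; exact hpr.le
  -- Sylow p-subgroup has order p
  let P : Sylow p G := default
  have hPcard : Nat.card P = p := by
    rw [Sylow.card_eq_multiplicity, hG]
    have : (p * q * r).factorization p = 1 := by
      rw [Nat.factorization_mul (Nat.mul_ne_zero hp.ne_zero hq.ne_zero) hr.ne_zero,
        Nat.factorization_mul hp.ne_zero hq.ne_zero]
      simp only [Finsupp.coe_add, Pi.add_apply]
      rw [hp.factorization_self, Nat.factorization_eq_zero_of_not_dvd, Nat.factorization_eq_zero_of_not_dvd]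
      · intro h; exact hpr.ne ((Nat.prime_dvd_prime_iff_eq hp hr).mp h)
      · intro h; exact hpq.ne ((Nat.prime_dvd_prime_iff_eq hp hq).mp h)
    rw [this, pow_one]
  have hPcyc : IsCyclic P := isCyclic_of_prime_card hPcard
  have hcomp := IsCyclic.isComplement' hmin hPcyc
  set K := (MonoidHom.transferSylow P (hPcyc.normalizer_le_centralizer hmin)).ker with hK
  have hKn : K.Normal := MonoidHom.normal_ker _
  have hKcard : Nat.card K = q * r := by
    have h1 := hcomp.card_mul_card
    rw [hPcard, hG] at h1
    have : Nat.card K * p = (q * r) * p := by rw [h1]; ring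
    exact Nat.eq_of_mul_eq_mul_right hp.pos this
  -- Sylow r-subgroup of K
  let R' : Sylow r K := default
  have hR'card : Nat.card R' = r := by
    rw [Sylow.card_eq_multiplicity, hKcard]
    have : (q * r).factorization r = 1 := by
      rw [Nat.factorization_mul hq.ne_zero hr.ne_zero]
      simp only [Finsupp.coe_add, Pi.add_apply]
      rw [hr.factorization_self, Nat.factorization_eq_zero_of_not_dvd]
      intro h; exact hqr.ne' ((Nat.prime_dvd_prime_iff_eq hr hq).mp h)
    rw [this, pow_one]
  have hR'idx : (R' : Subgroup K).index = q := by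
    have h1 := (R' : Subgroup K).card_mul_index
    rw [hR'card, hKcard, mul_comm] at h1
    exact Nat.eq_of_mul_eq_mul_right hr.pos h1
  have hn1 : Nat.card (Sylow r K) = 1 := by
    have h1 : Nat.card (Sylow r K) ∣ q := hR'idx ▸ Sylow.card_dvd_index R'
    have h2 : Nat.card (Sylow r K) ≡ 1 [MOD r] := card_sylow_modEq_one r K
    rcases (Nat.dvd_prime hq).mp h1 with h3 | h3
    · exact h3
    · exfalso
      rw [h3] at h2
      have h4 : q % r = 1 % r := h2
      rw [Nat.mod_eq_of_lt hqr, Nat.mod_eq_of_lt hr.one_lt] at h4
      exact hq.one_lt.ne' h4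
  have hsub : Subsingleton (Sylow r K) := (Nat.card_eq_one_iff_unique.mp hn1).1
  have hchar : (R' : Subgroup K).Characteristic := Sylow.characteristic_of_subsingleton R'
  have hnorm : ((R' : Subgroup K).map K.subtype).Normal :=
    ConjAct.normal_of_characteristic_of_normal
  have hcardS : Nat.card ((R' : Subgroup K).map K.subtype) = r ^ (Nat.card G).factorization r := by
    rw [Nat.card_congr ((R' : Subgroup K).equivMapOfInjective K.subtype K.subtype_injective).symm.toEquiv,
      hR'card, hG]
    have : (p * q * r).factorization r = 1 := by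
      rw [Nat.factorization_mul (Nat.mul_ne_zero hp.ne_zero hq.ne_zero) hr.ne_zero,
        Nat.factorization_mul hp.ne_zero hq.ne_zero]
      simp only [Finsupp.coe_add, Pi.add_apply]
      rw [hr.factorization_self, Nat.factorization_eq_zero_of_not_dvd, Nat.factorization_eq_zero_of_not_dvd]
      · intro h; exact hqr.ne' ((Nat.prime_dvd_prime_iff_eq hr hq).mp h)
      · intro h; exact hpr.ne' ((Nat.prime_dvd_prime_iff_eq hr hp).mp h)
    rw [this, pow_one]
  let S : Sylow r G := Sylow.ofCard _ hcardS
  have hSn : (S : Subgroup G).Normal := hnorm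
  have := Sylow.unique_of_normal S hSn
  have : R = S := Subsingleton.elim _ _
  rw [this]; exact hSn

end Cfsg.Agent.S0987
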