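import Mathlib
import Cfsg.Statements.S0988
import Cfsg.Agent.Lib.H5.SimpleTools
import Cfsg.Agent.Lib.H5.OrderCount
import Cfsg.Agent.Lib.H23.BurnsidePQ

set_option autoImplicit false

namespace Cfsg.Agent.S0988

open Subgroup Cfsg.Agent.Lib.H5

/-- A prime `t > p` dividing the order of the automorphism group of a group of order `p ^ 2`
forces `p = 2` and `t = 3`. -/
theorem aut_prime {P : Type*} [Group P] [Finite P] {p t : ℕ} (hp : p.Prime) (ht : t.Prime)
    (hpt : p < t) (hP : Nat.card P = p ^ 2) (hdvd : t ∣ Nat.card (MulAut P)) :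
    p = 2 ∧ t = 3 := by
  have : Fact t.Prime := ⟨ht⟩
  have : Finite (MulAut P) := Finite.of_injective (fun f : MulAut P => (f : P → P))
    (fun f g h => MulEquiv.ext (congrFun h))
  obtain ⟨φ, hφ⟩ := exists_prime_orderOf_dvd_card' t hdvd
  let H : Subgroup (MulAut P) := zpowers φ
  have hH : IsPGroup t H := IsPGroup.of_card (n := 1) (by rw [Nat.card_zpowers, hφ, pow_one])
  have hmod := hH.card_modEq_card_fixedPoints (α := P)
  -- fixed points form a subgroup
  let F : Subgroup P := MonoidHom.eqLocus (φ : P ≃* P).toMonoidHom (MonoidHom.id P)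
  have hF : (MulAction.fixedPoints H P : Set P) = (F : Set P) := by
    ext x
    simp only [MulAction.mem_fixedPoints, SetLike.mem_coe]
    constructor
    · intro h
      have := h ⟨φ, mem_zpowers φ⟩
      exact this
    · intro h m
      have h1 : φ ∈ MulAction.stabilizer (MulAut P) x := by
        rw [MulAction.mem_stabilizer_iff]; exact h
      have h2 : zpowers φ ≤ MulAction.stabilizer (MulAut P) x := (zpowers_le).2 h1
      exact MulAction.mem_stabilizer_iff.1 (h2 m.2)
  have hcardF : Nat.card (MulAction.fixedPoints H P) = Nat.card F := by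
    rw [hF]; rfl
  rw [hcardF, hP] at hmod
  have hFd : Nat.card F ∣ p ^ 2 := hP ▸ card_subgroup_dvd_card F
  obtain ⟨k, hk, hFk⟩ := (Nat.dvd_prime_pow hp).1 hFd
  have hp2 := hp.two_le
  have hnd1 : ¬ t ∣ p := fun h => by
    have := (Nat.prime_dvd_prime_iff_eq ht hp).1 h; omega
  have hnd2 : ¬ t ∣ p - 1 := fun h => by
    have := Nat.le_of_dvd (by omega) h; omega
  interval_cases k
  · -- |F| = 1
    rw [hFk, pow_zero] at hmod
    have h1 : t ∣ p ^ 2 - 1 := (Nat.modEq_iff_dvd' (Nat.one_le_pow _ _ hp.pos)).1 hmod.symm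
    have h2 : p ^ 2 - 1 = (p - 1) * (p + 1) := by
      obtain ⟨m, rfl⟩ := Nat.exists_eq_add_of_le hp.one_lt.le
      simp only [Nat.add_sub_cancel_left]
      have : (1 + m) ^ 2 = m * (1 + m + 1) + 1 := by ring
      rw [this]; simp
    rw [h2] at h1
    rcases (ht.dvd_mul).1 h1 with h3 | h3
    · exact absurd h3 hnd2
    · have h4 := Nat.le_of_dvd (by omega) h3
      have h5 : t = p + 1 := by omega
      rcases hp.eq_two_or_odd' with h6 | h6
      · exact ⟨h6, by omega⟩
      · exfalso
        rcases ht.eq_two_or_odd' with h7 | h7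
        · omega
        · rw [h5] at h7
          obtain ⟨a, ha⟩ := h6
          obtain ⟨b, hb⟩ := h7
          omega
  · -- |F| = p
    exfalso
    rw [hFk, pow_one] at hmod
    have hle : p ≤ p ^ 2 := by nlinarith
    have h1 : t ∣ p ^ 2 - p := (Nat.modEq_iff_dvd' hle).1 hmod.symm
    have h2 : p ^ 2 - p = p * (p - 1) := by
      obtain ⟨m, rfl⟩ := Nat.exists_eq_add_of_le hp.one_lt.le
      simp only [Nat.add_sub_cancel_left]
      have : (1 + m) ^ 2 = (1 + m) * m + (1 + m) := by ring
      rw [this]; simp
    rw [h2] at h1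
    rcases (ht.dvd_mul).1 h1 with h3 | h3
    · exact hnd1 h3
    · exact hnd2 h3
  · -- |F| = p^2 : φ = 1
    exfalso
    have hFtop : F = ⊤ := by
      apply (Subgroup.card_eq_iff_eq_top F).1
      rw [hFk, hP]
    have hφ1 : φ = 1 := by
      ext x
      have : x ∈ F := hFtop ▸ mem_top x
      exact this
    rw [hφ1, orderOf_one] at hφ
    exact ht.one_lt.ne hφ

section

variable {G : Type*} [Group G] [Finite G] [IsSimpleGroup G]

/-- A finite simple group whose order is not prime is not solvable. -/
theorem not_solvable (h : ¬ (Nat.card G).Prime) : ¬ Group.IsSolvable G := by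
  intro hs
  have hc := (IsSimpleGroup.comm_iff_isSolvable (G := G)).2 hs
  exact not_isMulCommutative_of_card_not_prime h ⟨⟨hc⟩⟩

/-- A cyclic Sylow subgroup for the smallest prime is impossible in a simple group that is not
a `p`-group. -/
theorem false_of_cyclic_sylow_minFac {p : ℕ} [Fact p.Prime] (hmin : (Nat.card G).minFac = p)
    (hnp : ¬ IsPGroup p G) (P : Sylow p G) (hc : IsCyclic P) : False := by
  have hpd : p ∣ Nat.card G := hmin ▸ Nat.minFac_dvd _
  exact not_normalizer_le_centralizer_of_simple hpd hnp P (hc.normalizer_le_centralizer hmin)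

/-- No simple group of order 132. -/
theorem not_132 (hG : Nat.card G = 132) : False := by
  have hnc : ¬ IsMulCommutative G := not_isMulCommutative_of_card_not_prime (by rw [hG]; norm_num)
  have : Fact (Nat.Prime 11) := ⟨by norm_num⟩
  have : Fact (Nat.Prime 3) := ⟨by norm_num⟩
  have h11 : ∀ Q : Sylow 11 G, Nat.card (Q : Subgroup G) = 11 ∧ (Q : Subgroup G).index = 12 := by
    intro Q
    have := sylow_card_and_index Q (k := 1) (m := 12) (by rw [hG]; norm_num) (by norm_num)
    simpa using this
  have h3 : ∀ Q : Sylow 3 G, Nat.card (Q : Subgroup G) = 3 ∧ (Q : Subgroup G).index = 44 := by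
    intro Q
    have := sylow_card_and_index Q (k := 1) (m := 44) (by rw [hG]; norm_num) (by norm_num)
    simpa using this
  have hn11 : Nat.card (Sylow 11 G) = 12 := by
    have h1 := card_sylow_mem_filter_divisors (default : Sylow 11 G) (by norm_num) (h11 _).2
    have h2 := card_sylow_ne_one_of_simple (G := G) (p := 11) (by rw [hG]; norm_num)
      (not_isPGroup_of_prime_dvd (q := 3) (by norm_num) (by norm_num) (by rw [hG]; norm_num))
    have h3 : (Nat.divisors 12).filter (fun d => d % 11 = 1) = {1, 12} := by decide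
    rw [h3] at h1
    simp only [Finset.mem_insert, Finset.mem_singleton] at h1
    omega
  have hn3 : Nat.card (Sylow 3 G) = 22 := by
    have h1 := card_sylow_mem_filter_divisors (default : Sylow 3 G) (by norm_num) (h3 _).2
    have h2 := card_sylow_ne_one_of_simple (G := G) (p := 3) (by rw [hG]; norm_num)
      (not_isPGroup_of_prime_dvd (q := 11) (by norm_num) (by norm_num) (by rw [hG]; norm_num))
    have h3' : (Nat.divisors 44).filter (fun d => d % 3 = 1) = {1, 4, 22} := by decide
    rw [h3'] at h1
    simp only [Finset.mem_insert, Finset.mem_singleton] at h1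
    rcases h1 with h1 | h1 | h1
    · exact absurd h1 h2
    · exfalso
      have hidx := index_normalizer_eq_card_sylow (default : Sylow 3 G)
      rw [h1] at hidx
      have hne : normalizer (((default : Sylow 3 G) : Subgroup G) : Set G) ≠ ⊤ := by
        intro h
        rw [h, index_top] at hidx
        omega
      have := two_mul_card_dvd_factorial_index hnc _ hne
      rw [hidx, hG] at this
      revert this
      decide
    · exact h1
  have hc11 := card_orderOf_eq_prime (G := G) (p := 11) (fun Q => (h11 Q).1)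
  have hc3 := card_orderOf_eq_prime (G := G) (p := 3) (fun Q => (h3 Q).1)
  rw [hn11] at hc11
  rw [hn3] at hc3
  let f : {g : G // orderOf g = 11} ⊕ {g : G // orderOf g = 3} → G := Sum.elim (·.1) (·.1)
  have hf : Function.Injective f := by
    rintro (⟨a, ha⟩ | ⟨a, ha⟩) (⟨b, hb⟩ | ⟨b, hb⟩) h
    · simp only [f, Sum.elim_inl] at h; subst h; rfl
    · simp only [f, Sum.elim_inl, Sum.elim_inr] at h; subst h; omega
    · simp only [f, Sum.elim_inl, Sum.elim_inr] at h; subst h; omega
    · simp only [f, Sum.elim_inr] at h; subst h; rfl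
  have := Nat.card_le_card_of_injective f hf
  rw [Nat.card_sum, hc11, hc3, hG] at this
  omega

theorem key (p q r : ℕ) (hp : p.Prime) (hq : q.Prime) (hr : r.Prime) (hpq : p ≠ q) (hpr : p ≠ r)
    (hqr : q < r) (hG : Nat.card G = p ^ 2 * q * r) : Nat.card G = 60 := by
  have : Fact p.Prime := ⟨hp⟩
  have : Fact q.Prime := ⟨hq⟩
  have : Fact r.Prime := ⟨hr⟩
  have hp2 := hp.two_le
  have hq2 := hq.two_le
  have hr2 := hr.two_le
  have hpd : p ∣ Nat.card G := by rw [hG]; exact ⟨p * q * r, by ring⟩
  have hqd : q ∣ Nat.card G := by rw [hG]; exact ⟨p ^ 2 * r, by ring⟩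
  have hrd : r ∣ Nat.card G := by rw [hG]; exact ⟨p ^ 2 * q, by ring⟩
  have hnpp : ¬ IsPGroup p G := not_isPGroup_of_prime_dvd hq (Ne.symm hpq) hqd
  have hnpq : ¬ IsPGroup q G := not_isPGroup_of_prime_dvd hp hpq hpd
  have hnpr : ¬ IsPGroup r G := not_isPGroup_of_prime_dvd hp hpr hpd
  have hcard1 : Nat.card G ≠ 1 := by
    rw [hG]
    have : 2 ^ 2 * 2 * 2 ≤ p ^ 2 * q * r := by gcongr
    omega
  set s := (Nat.card G).minFac with hs
  have hsp : s.Prime := Nat.minFac_prime hcard1
  have hsd : s ∣ p ^ 2 * q * r := hG ▸ Nat.minFac_dvd _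
  have hs3 : s = p ∨ s = q ∨ s = r := by
    rcases (hsp.dvd_mul).1 hsd with h | h
    · rcases (hsp.dvd_mul).1 h with h | h
      · left; exact (Nat.prime_dvd_prime_iff_eq hsp hp).1 (hsp.dvd_of_dvd_pow h)
      · right; left; exact (Nat.prime_dvd_prime_iff_eq hsp hq).1 h
    · right; right; exact (Nat.prime_dvd_prime_iff_eq hsp hr).1 h
  have hnq : ¬ q ∣ p ^ 2 * r := by
    intro h
    rcases (hq.dvd_mul).1 h with h | h
    · exact hpq ((Nat.prime_dvd_prime_iff_eq hq hp).1 (hq.dvd_of_dvd_pow h)).symm
    · have := (Nat.prime_dvd_prime_iff_eq hq hr).1 h; omega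
  have hnr : ¬ r ∣ p ^ 2 * q := by
    intro h
    rcases (hr.dvd_mul).1 h with h | h
    · exact hpr ((Nat.prime_dvd_prime_iff_eq hr hp).1 (hr.dvd_of_dvd_pow h)).symm
    · have := (Nat.prime_dvd_prime_iff_eq hr hq).1 h; omega
  have hnp : ¬ p ∣ q * r := by
    intro h
    rcases (hp.dvd_mul).1 h with h | h
    · exact hpq ((Nat.prime_dvd_prime_iff_eq hp hq).1 h)
    · exact hpr ((Nat.prime_dvd_prime_iff_eq hp hr).1 h)
  rcases hs3 with h | h | h
  · -- the smallest prime is p
    have hpq' : p < q := by
      have := Nat.minFac_le_of_dvd hq2 hqd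
      omega
    have hpr' : p < r := by omega
    let P : Sylow p G := default
    obtain ⟨hPcard, hPidx⟩ := sylow_card_and_index P (k := 2) (m := q * r)
      (by rw [hG]; ring) hnp
    have hnc := not_normalizer_le_centralizer_of_simple hpd hnpp P
    have hmc := IsPGroup.isMulCommutative_of_card_eq_prime_sq hPcard
    have hcomm : ∀ a b : (P : Subgroup G), a * b = b * a := hmc.is_comm.comm
    have hPC : (P : Subgroup G) ≤ centralizer ((P : Subgroup G) : Set G) := by
      intro x hx
      rw [mem_centralizer_iff]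
      intro y hy
      exact congrArg Subtype.val (hcomm ⟨y, hy⟩ ⟨x, hx⟩)
    have hCN : centralizer ((P : Subgroup G) : Set G) ≤ normalizer ((P : Subgroup G) : Set G) :=
      centralizer_le_normalizer _
    set d := (centralizer ((P : Subgroup G) : Set G)).relIndex
      (normalizer ((P : Subgroup G) : Set G)) with hd
    have hd1 : d ≠ 1 := fun h1 => hnc (relIndex_eq_one.1 h1)
    have hdAut : d ∣ Nat.card (MulAut (P : Subgroup G)) := relIndex_centralizer_normalizer_dvd _
    have hdqr : d ∣ q * r := by
      have h1 : Nat.card (centralizer ((P : Subgroup G) : Set G)) * d =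
          Nat.card (normalizer ((P : Subgroup G) : Set G)) := by
        have := relIndex_mul_relIndex (H := ⊥) (K := centralizer ((P : Subgroup G) : Set G))
          (L := normalizer ((P : Subgroup G) : Set G)) bot_le hCN
        rwa [relIndex_bot_left, relIndex_bot_left] at this
      have h2 : Nat.card (normalizer ((P : Subgroup G) : Set G)) ∣ Nat.card G :=
        card_subgroup_dvd_card _
      obtain ⟨c, hc⟩ := card_dvd_of_le hPC
      rw [← h1, hc, hPcard, hG] at h2
      have h3 : p ^ 2 * (c * d) ∣ p ^ 2 * (q * r) := by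
        convert h2 using 1 <;> ring
      have h4 := (Nat.mul_dvd_mul_iff_left (pow_pos hp.pos 2)).1 h3
      exact (Dvd.intro_left c rfl).trans h4
    obtain ⟨t, ht, htd⟩ := Nat.exists_prime_and_dvd hd1
    have htqr : t = q ∨ t = r := by
      rcases (ht.dvd_mul).1 (htd.trans hdqr) with h | h
      · left; exact (Nat.prime_dvd_prime_iff_eq ht hq).1 h
      · right; exact (Nat.prime_dvd_prime_iff_eq ht hr).1 h
    have hpt : p < t := by rcases htqr with h | h <;> omega
    obtain ⟨hp2', ht3⟩ := aut_prime hp ht hpt hPcard (htd.trans hdAut)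
    have hq3 : q = 3 := by rcases htqr with h | h <;> omega
    subst hp2' hq3
    have hr5 : 5 ≤ r := by
      have h4 : r ≠ 4 := by
        rintro rfl
        revert hr; decide
      omega
    have hnr12 : ¬ r ∣ 12 := by
      intro h
      have h1 : r ∣ 2 ^ 2 * 3 := by norm_num; exact h
      exact hnr h1
    let R : Sylow r G := default
    obtain ⟨hRcard, hRidx⟩ := sylow_card_and_index R (k := 1) (m := 12)
      (by rw [hG]; ring) hnr12
    have h1 := card_sylow_mem_filter_divisors R (by norm_num) hRidx
    have h2 := card_sylow_ne_one_of_simple (G := G) (p := r) hrd hnpr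
    have hdiv : Nat.divisors 12 = {1, 2, 3, 4, 6, 12} := by decide
    rw [Finset.mem_filter, hdiv] at h1
    obtain ⟨h1, hmod⟩ := h1
    have hdvd : r ∣ Nat.card (Sylow r G) - 1 := by
      have := Nat.dvd_sub_mod (n := r) (Nat.card (Sylow r G))
      rwa [hmod] at this
    simp only [Finset.mem_insert, Finset.mem_singleton] at h1
    rcases h1 with h1 | h1 | h1 | h1 | h1 | h1
    · exact absurd h1 h2
    · rw [h1] at hdvd
      have := Nat.le_of_dvd (by norm_num) hdvd
      omega
    · rw [h1] at hdvd
      have := Nat.le_of_dvd (by norm_num) hdvd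
      omega
    · rw [h1] at hdvd
      have := Nat.le_of_dvd (by norm_num) hdvd
      omega
    · rw [h1] at hdvd
      have := Nat.le_of_dvd (by norm_num) hdvd
      have h5 : r = 5 := by omega
      rw [hG, h5]; norm_num
    · rw [h1] at hdvd
      have h11 : r = 11 :=
        (Nat.prime_dvd_prime_iff_eq hr (by norm_num : Nat.Prime 11)).1 (by simpa using hdvd)
      exfalso
      apply not_132 (G := G)
      rw [hG, h11]; norm_num
  · -- the smallest prime is q : cyclic Sylow
    exfalso
    let Q : Sylow q G := default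
    obtain ⟨hQcard, -⟩ := sylow_card_and_index Q (k := 1) (m := p ^ 2 * r)
      (by rw [hG]; ring) hnq
    rw [pow_one] at hQcard
    exact false_of_cyclic_sylow_minFac (hs ▸ h) hnpq Q (isCyclic_of_prime_card hQcard)
  · exfalso
    let R : Sylow r G := default
    obtain ⟨hRcard, -⟩ := sylow_card_and_index R (k := 1) (m := p ^ 2 * q)
      (by rw [hG]; ring) hnr
    rw [pow_one] at hRcard
    exact false_of_cyclic_sylow_minFac (hs ▸ h) hnpr R (isCyclic_of_prime_card hRcard)

end

/-- If a finite simple group has order p^2 * q * r with p, q and r prime, then its order is 60. -/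
theorem result {G : Type*} [Group G] [Finite G] [IsSimpleGroup G] (p q r : ℕ) (hp : p.Prime) (hq : q.Prime) (hr : r.Prime) (hG : Nat.card G = p ^ 2 * q * r) : Nat.card G = 60 := by
  have hp2 := hp.two_le
  have hq2 := hq.two_le
  have hr2 := hr.two_le
  have hnprime : ¬ (Nat.card G).Prime := by
    rw [hG]
    have : p ^ 2 * q * r = p * (p * q * r) := by ring
    rw [this]
    apply Nat.not_prime_mul (by omega)
    have : 2 * 2 * 2 ≤ p * q * r := by gcongr
    omega
  have hns := not_solvable (G := G) hnprime
  by_cases hpq : p = q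
  · exfalso
    apply hns
    apply Cfsg.Agent.Lib.H23.isSolvable_of_card_eq_prime_pow_mul_prime_pow p r 3 1 hp hr
    rw [hG, ← hpq]; ring
  by_cases hpr : p = r
  · exfalso
    apply hns
    apply Cfsg.Agent.Lib.H23.isSolvable_of_card_eq_prime_pow_mul_prime_pow p q 3 1 hp hq
    rw [hG, ← hpr]; ring
  by_cases hqr : q = r
  · exfalso
    apply hns
    apply Cfsg.Agent.Lib.H23.isSolvable_of_card_eq_prime_pow_mul_prime_pow p q 2 2 hp hq
    rw [hG, ← hqr]; ring
  rcases Nat.lt_or_gt_of_ne hqr with h | h
  · exact key p q r hp hq hr hpq hpr h hG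
  · exact key p r q hp hr hq hpr hpq h (by rw [hG]; ring)

end Cfsg.Agent.S0988
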