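import Mathlib
import Cfsg.Statements.S0994
import Cfsg.Agent.Lib.H5.SimpleTools

set_option autoImplicit false
open Cfsg

namespace Cfsg.Agent.S0994

open Cfsg.Agent.Lib.H5 Subgroup

/-- No finite simple group has order 1188 = 2^2 * 3^3 * 11. -/
theorem result {G : Type*} [Group G] [Finite G] [IsSimpleGroup G] : Nat.card G ≠ 1188 := by
  intro hG
  have : Fact (Nat.Prime 11) := ⟨by norm_num⟩
  have h11 : 11 ∣ Nat.card G := by rw [hG]; norm_num
  have hnp : ¬ IsPGroup 11 G :=
    not_isPGroup_of_prime_dvd (q := 2) (by norm_num) (by norm_num) (by rw [hG]; norm_num)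
  let P : Sylow 11 G := default
  obtain ⟨hPc, hPi⟩ := sylow_card_and_index P (k := 1) (m := 108) (by rw [hG]; norm_num) (by norm_num)
  have hmem := card_sylow_mem_filter_divisors P (by norm_num) hPi
  have hfil : (Nat.divisors 108).filter (fun d => d % 11 = 1) = {1, 12} := by decide
  rw [hfil] at hmem
  simp only [Finset.mem_insert, Finset.mem_singleton] at hmem
  rcases hmem with h | h
  · exact card_sylow_ne_one_of_simple h11 hnp h
  · have hN := card_normalizer_mul_card_sylow P
    rw [h, hG] at hN
    have hN99 : Nat.card (normalizer ((P : Subgroup G) : Set G)) = 99 := by omega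
    have hdvd1 := relIndex_centralizer_normalizer_dvd_of_card_prime (P : Subgroup G) (p := 11)
      (by simpa using hPc)
    have hdvd2 : (centralizer ((P : Subgroup G) : Set G)).relIndex (normalizer ((P : Subgroup G) : Set G)) ∣ 99 := by
      rw [← hN99]; exact Subgroup.relIndex_dvd_card _ _
    have h1 : (centralizer ((P : Subgroup G) : Set G)).relIndex (normalizer ((P : Subgroup G) : Set G)) = 1 := by
      have h3 := Nat.dvd_gcd hdvd1 hdvd2
      have h4 : Nat.gcd (11 - 1) 99 = 1 := by norm_num
      rw [h4] at h3
      exact Nat.dvd_one.mp h3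
    exact not_normalizer_le_centralizer_of_simple h11 hnp P (Subgroup.relIndex_eq_one.mp h1)

end Cfsg.Agent.S0994
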