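import Cfsg.Statements.S1002
import Mathlib
import Cfsg.Agent.Lib.H24.BrauerP4

set_option autoImplicit false
open Cfsg

namespace Cfsg.Agent.S1002

/-- No finite simple group has order 1004913 = 3^3 * 7 * 13 * 409. -/
theorem result {G : Type*} [Group G] [Finite G] [IsSimpleGroup G] : Nat.card G ≠ 1004913 := by
  intro hG
  haveI : Fact (Nat.Prime 409) := ⟨by norm_num⟩
  have hdiv : ∀ d, d ∣ 2457 → d % 409 = 1 → d = 1 ∨ d = 819 := by
    intro d hd hmod
    have hle : d ≤ 2457 := Nat.le_of_dvd (by norm_num) hd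
    obtain ⟨k, hk⟩ : ∃ k, d = 409 * k + 1 := ⟨d / 409, by omega⟩
    have hk6 : k ≤ 6 := by omega
    subst hk
    interval_cases k <;> omega
  obtain ⟨ι, S, b, d, εz, x, hεz, hxd, hS, hsq, hdeg, hx, hdsq⟩ :=
    Cfsg.Agent.Lib.H24.BrP.simple_data (G := G) (p := 409) (m := 2457) (n₀ := 819) (e₀ := 3)
      (t := 136) (by rw [hG]) (by norm_num) (by norm_num) (by norm_num) hdiv (by norm_num)
      (by norm_num)
  push_cast at hsq hx
  rw [hG] at hdsq
  -- `x = 3` and `εz = 1`
  obtain ⟨mx, hmx⟩ := hx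
  have hx85 : x ≤ 85 := by
    by_contra h
    push Not at h
    have h86 : 86 * 86 ≤ x * x := Nat.mul_le_mul h h
    have h87 : 7396 ≤ x ^ 2 := by rw [sq]; exact h86
    have h88 : 0 ≤ ∑ i ∈ S, d i ^ 2 := Nat.zero_le _
    linarith
  have hx3 : x = 3 ∧ εz = 1 := by
    rcases hεz with h | h <;> rw [h] at hmx <;> omega
  obtain ⟨hx3, hε1⟩ := hx3
  have hall : ∀ i ∈ S, b i = 1 ∧ d i = 819 := by
    intro i hi
    obtain ⟨hb0, hdd, hd1, m', hm'⟩ := hS i hi
    have hbsq : b i ^ 2 ≤ 2 := by
      have := Finset.single_le_sum (f := fun i => b i ^ 2) (fun j _ => sq_nonneg (b j)) hi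
      rw [hsq] at this
      linarith
    have hdle : d i ^ 2 ≤ 1004913 := by
      have := Finset.single_le_sum (f := fun i => d i ^ 2) (fun j _ => Nat.zero_le _) hi
      omega
    have hd1002 : d i ≤ 1002 := by nlinarith
    have hb : b i = 1 ∨ b i = -1 := by
      have : -1 ≤ b i ∧ b i ≤ 1 := by constructor <;> nlinarith
      omega
    rw [hG] at hdd
    obtain ⟨n, hn⟩ : ∃ n, n = d i := ⟨_, rfl⟩
    rw [← hn] at hdd hd1 hm' hd1002 ⊢
    push_cast at hm'
    have hm'3 : 0 ≤ m' ∧ m' ≤ 3 := by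
      rcases hb with h | h <;> rw [h] at hm' <;> constructor <;> omega
    obtain ⟨hm0, hm3⟩ := hm'3
    rcases hb with h | h <;> rw [h] at hm' <;> interval_cases m'
    · exfalso; omega
    · have : n = 410 := by omega
      subst this
      omega
    · have : n = 819 := by omega
      subst this
      exact ⟨h, rfl⟩
    · exfalso; omega
    · exfalso; omega
    · have : n = 408 := by omega
      subst this
      omega
    · have : n = 817 := by omega
      subst this
      omega
    · exfalso; omega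
  have h1 : ∑ i ∈ S, b i ^ 2 = (S.card : ℤ) := by
    rw [Finset.sum_congr rfl fun i hi => by rw [(hall i hi).1], Finset.sum_const]
    simp
  have h2 : ∑ i ∈ S, b i * (d i : ℤ) = 819 * (S.card : ℤ) := by
    rw [Finset.sum_congr rfl fun i hi => by rw [(hall i hi).1, (hall i hi).2], Finset.sum_const]
    simp
    ring
  rw [h1] at hsq
  rw [h2, hsq, hx3, hε1] at hdeg
  norm_num at hdeg

end Cfsg.Agent.S1002
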