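import Mathlib
import Cfsg.Statements.S1005
import Cfsg.Agent.Lib.H5.Order168

set_option autoImplicit false
open Cfsg

namespace Cfsg.Agent.S1005

open Cfsg.Agent.Lib.H5

theorem result {G : Type*} [Group G] [Finite G] [IsSimpleGroup G] (h : Nat.card G = 168) : (∀ g : G, orderOf g = 1 ∨ orderOf g = 2 ∨ orderOf g = 3 ∨ orderOf g = 4 ∨ orderOf g = 7) ∧ Nat.card {g : G // orderOf g = 2} = 21 ∧ ∀ s t : G, orderOf s = 2 → orderOf t = 2 → IsConj s t := by
  refine ⟨O168.orderOf_mem h, ?_, fun s t hs ht => O168.isConj_of_orderOf2 h s t hs ht⟩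
  have := O168.ncard_orderOf2 h
  rw [← Nat.card_coe_set_eq] at this
  exact this

end Cfsg.Agent.S1005
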