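import Mathlib
import Cfsg.Statements.S1008
import Cfsg.Agent.Lib.H5.Order168d

set_option autoImplicit false
open Cfsg

namespace Cfsg.Agent.S1008

open Subgroup Cfsg.Agent.Lib.H5 Cfsg.Agent.Lib.H5.O168

/-- In a simple group of order 168 every maximal subgroup is either isomorphic to the symmetric group of degree 4 or non-abelian of order 21; the maximal subgroups of order 21 form one conjugacy class and those isomorphic to the symmetric group of degree 4 form exactly two conjugacy classes. -/
theorem result {G : Type*} [Group G] [Finite G] [IsSimpleGroup G] (h : Nat.card G = 168) : (∀ M : Subgroup G, IsCoatom M → Nonempty (↥M ≃* Equiv.Perm (Fin 4)) ∨ (Nat.card ↥M = 21 ∧ ¬ IsMulCommutative ↥M)) ∧ (∀ M M' : Subgroup G, IsCoatom M → IsCoatom M' → Nat.card ↥M = 21 → Nat.card ↥M' = 21 → ∃ g : G, M' = M.map (MulAut.conj g).toMonoidHom) ∧ ∃ M₁ M₂ : Subgroup G, IsCoatom M₁ ∧ IsCoatom M₂ ∧ Nonempty (↥M₁ ≃* Equiv.Perm (Fin 4)) ∧ Nonempty (↥M₂ ≃* Equiv.Perm (Fin 4)) ∧ (∀ g : G, M₂ ≠ M₁.map (MulAut.conj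 g).toMonoidHom) ∧ ∀ M : Subgroup G, IsCoatom M → Nonempty (↥M ≃* Equiv.Perm (Fin 4)) → ∃ g : G, M = M₁.map (MulAut.conj g).toMonoidHom ∨ M = M₂.map (MulAut.conj g).toMonoidHom := by
  have : Fact (Nat.Prime 7) := ⟨by norm_num⟩
  have : Fact (Nat.Prime 2) := ⟨by norm_num⟩
  refine ⟨?_, ?_, ?_⟩
  · intro M hM
    rcases coatom_cases h M hM with h24 | ⟨P, hP⟩
    · left
      apply Cfsg.Agent.S1012.result h24
      intro g hg
      rw [← Subgroup.orderOf_coe] at hg
      rcases orderOf_mem h (g : G) with h' | h' | h' | h' | h' <;> omega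
    · right
      subst hP
      exact ⟨card_normalizer_sylow7 h P, not_comm_normalizer_sylow7 h P⟩
  · intro M M' hM hM' hc hc'
    obtain ⟨P, hP⟩ := coatom_eq_normalizer_sylow7 h M hM (by rw [hc]; norm_num)
    obtain ⟨P', hP'⟩ := coatom_eq_normalizer_sylow7 h M' hM' (by rw [hc']; norm_num)
    obtain ⟨g, hg⟩ := normalizer_sylow_conj P P'
    exact ⟨g, by rw [hP, hP', hg]⟩
  · let T : Sylow 2 G := default
    obtain ⟨x, s, d⟩ := exists_dGens h T
    have hU₁ := d.isKleinFour_KK h d.hsT d.hsx
    have hU₂ := d.isKleinFour_KK h d.sx_mem d.sx_not_mem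
    have hle₁ : KK T s ≤ (T : Subgroup G) := inf_le_right
    have hle₂ : KK T (s * x) ≤ (T : Subgroup G) := inf_le_right
    refine ⟨normalizer ((KK T s : Subgroup G) : Set G),
      normalizer ((KK T (s * x) : Subgroup G) : Set G),
      isCoatom_of_card24 h _ (card_normalizer_kleinFour h hU₁),
      isCoatom_of_card24 h _ (card_normalizer_kleinFour h hU₂),
      normalizer_kleinFour_equiv h hU₁, normalizer_kleinFour_equiv h hU₂, ?_, ?_⟩
    · intro g hg
      rw [map_equiv_normalizer_eq] at hg
      have hW := isKleinFour_map_conj hU₁ g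
      have := kleinFour_eq_of_normalizer_eq h hU₂ hW hg
      exact kleinFour_not_conj h T hle₁ hle₂ hU₁ hU₂ d.KK_ne g this.symm
    · intro M hM ⟨e⟩
      have hc : Nat.card M = 24 := by
        rw [Nat.card_congr e.toEquiv, Nat.card_perm, Nat.card_fin]
        rfl
      obtain ⟨U, hU, hMU⟩ := exists_kleinFour_normalizer_eq h M hc
      have hpU : IsPGroup 2 U := IsPGroup.of_card (n := 2) (by rw [hU.card_four]; norm_num)
      obtain ⟨T', hT'⟩ := hpU.exists_le_sylow
      obtain ⟨g, hg⟩ := MulAction.exists_smul_eq G T T'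
      have hU' := isKleinFour_map_conj hU g⁻¹
      have hle' : U.map (MulAut.conj g⁻¹).toMonoidHom ≤ (T : Subgroup G) := by
        rintro _ ⟨u, hu, rfl⟩
        have hu' := hT' hu
        rw [← hg] at hu'
        have := (sylow_mem_smul_iff g T u).mp hu'
        simp only [MulEquiv.coe_toMonoidHom, MulAut.conj_apply, inv_inv]
        exact this
      have hback : U = (U.map (MulAut.conj g⁻¹).toMonoidHom).map (MulAut.conj g).toMonoidHom := by
        rw [map_conj_map_conj, mul_inv_cancel]
        ext y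
        rw [mem_map_conj_iff]
        simp
      refine ⟨g, ?_⟩
      rw [map_equiv_normalizer_eq, map_equiv_normalizer_eq, hMU]
      rcases d.klein_cases h hle' hU' with h' | h'
      · left
        rw [← h', ← hback]
      · right
        rw [← h', ← hback]

end Cfsg.Agent.S1008
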