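import Mathlib
import Cfsg.Statements.S1009
import Cfsg.Agent.Lib.H5.SylowIn

set_option autoImplicit false
open Cfsg

namespace Cfsg.Agent.S1009

open Cfsg.Agent.Lib.H5 Subgroup

/-- Brodkey's Theorem: if a finite group has abelian Sylow p-subgroups, then there are two Sylow p-subgroups whose intersection equals the intersection of all Sylow p-subgroups. -/
theorem result {G : Type*} [Group G] [Finite G] (p : ℕ) [Fact p.Prime] (hab : ∀ P : Sylow p G, IsMulCommutative ↥(P : Subgroup G)) : ∃ P Q : Sylow p G, (P : Subgroup G) ⊓ (Q : Subgroup G) = ⨅ R : Sylow p G, (R : Subgroup G) := by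
  -- choose a pair with minimal intersection
  obtain ⟨⟨P, Q⟩, hmin⟩ := Finite.exists_min
    (fun PQ : Sylow p G × Sylow p G => Nat.card ((PQ.1 : Subgroup G) ⊓ (PQ.2 : Subgroup G) : Subgroup G))
  simp only [Prod.forall] at hmin
  refine ⟨P, Q, le_antisymm ?_ ?_⟩
  swap
  · exact le_inf (iInf_le _ P) (iInf_le _ Q)
  set D : Subgroup G := (P : Subgroup G) ⊓ (Q : Subgroup G) with hD
  set N : Subgroup G := normalizer (D : Set G) with hN
  -- abelian Sylow subgroups containing D normalize D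
  have hcomm : ∀ (S : Sylow p G) (a b : G), a ∈ S → b ∈ S → a * b = b * a := by
    intro S a b ha hb
    have := (hab S).is_comm.comm ⟨a, ha⟩ ⟨b, hb⟩
    exact congrArg Subtype.val this
  have hSN : ∀ S : Sylow p G, D ≤ S → (S : Subgroup G) ≤ N := by
    intro S hDS x hx
    rw [hN, mem_normalizer_iff]
    intro d
    constructor
    · intro hd
      have : x * d * x⁻¹ = d := by
        rw [hcomm S x d hx (hDS hd)]; group
      rw [this]; exact hd
    · intro hd
      have h1 : x⁻¹ * (x * d * x⁻¹) = (x * d * x⁻¹) * x⁻¹ :=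
        hcomm S _ _ ((S : Subgroup G).inv_mem hx) (hDS hd)
      have : d = x * d * x⁻¹ := by
        calc d = x⁻¹ * (x * d * x⁻¹) * x := by group
          _ = (x * d * x⁻¹) * x⁻¹ * x := by rw [h1]
          _ = x * d * x⁻¹ := by group
      rw [this]; exact hd
  have hPN : (P : Subgroup G) ≤ N := hSN P inf_le_left
  have hQN : (Q : Subgroup G) ≤ N := hSN Q inf_le_right
  have hPsyl : IsSylowIn p (P : Subgroup G) N := (isSylowIn_top_of_sylow P).mono hPN le_top
  -- every Sylow subgroup contains D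
  apply le_iInf
  intro R
  have hRNp : IsPGroup p ((R : Subgroup G) ⊓ N : Subgroup G) := R.2.to_le inf_le_left
  obtain ⟨S, hS, hRS⟩ := exists_isSylowIn_ge hRNp (inf_le_right : (R : Subgroup G) ⊓ N ≤ N)
  obtain ⟨x, hx, hxS⟩ := hPsyl.exists_conj hS
  -- R' = x⁻¹ • R
  set R' : Sylow p G := x⁻¹ • R with hR'
  have hle : (R' : Subgroup G) ⊓ (Q : Subgroup G) ≤ D := by
    intro y hy
    refine ⟨?_, hy.2⟩
    have hy1 : x * y * x⁻¹ ∈ R := by
      have := (sylow_mem_smul_iff x⁻¹ R y).mp hy.1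
      simpa using this
    have hyN : x * y * x⁻¹ ∈ N := N.mul_mem (N.mul_mem hx (hQN hy.2)) (N.inv_mem hx)
    have h1 : x * y * x⁻¹ ∈ S := hRS ⟨hy1, hyN⟩
    rw [hxS, mem_map_conj_iff] at h1
    have : x⁻¹ * (x * y * x⁻¹) * x = y := by group
    rw [this] at h1
    exact h1
  have hcard := hmin R' Q
  have heq : (R' : Subgroup G) ⊓ (Q : Subgroup G) = D := by
    have h2 : Nat.card ((R' : Subgroup G) ⊓ (Q : Subgroup G) : Subgroup G) ≤ Nat.card D :=
      Nat.card_mono (Set.toFinite _) hle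
    have h3 : Nat.card D = Nat.card ((R' : Subgroup G) ⊓ (Q : Subgroup G) : Subgroup G) :=
      le_antisymm hcard h2
    have : ((R' : Subgroup G) ⊓ (Q : Subgroup G) : Set G) = (D : Set G) :=
      Set.eq_of_subset_of_ncard_le hle (by
        rw [← Nat.card_coe_set_eq, ← Nat.card_coe_set_eq]
        exact le_of_eq h3) (Set.toFinite _)
    exact SetLike.coe_injective this
  intro d hd
  -- x⁻¹ d x ∈ D ≤ R'
  have hdN : x⁻¹ * d * x ∈ D := by
    have hxinv : x⁻¹ ∈ N := N.inv_mem hx
    rw [hN, mem_normalizer_iff] at hxinv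
    have := (hxinv d).mp hd
    simpa using this
  have h1 : x⁻¹ * d * x ∈ (R' : Subgroup G) := by
    rw [← heq] at hdN; exact hdN.1
  have h2 := (sylow_mem_smul_iff x⁻¹ R _).mp h1
  have h3 : x⁻¹⁻¹ * (x⁻¹ * d * x) * x⁻¹ = d := by group
  rw [h3] at h2
  exact h2

end Cfsg.Agent.S1009
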