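import Mathlib
import Cfsg.Statements.S1013
import Cfsg.Agent.Lib.H5.SimpleTools
import Cfsg.Agent.Lib.H5.OrderCount
import Cfsg.Agent.S0989
import Cfsg.Agent.S0990
import Cfsg.Agent.Lib.H5.SylowIn

set_option autoImplicit false
open Cfsg

namespace Cfsg.Agent.S1013

open Cfsg.Agent.Lib.H5 Subgroup MulAction

/-- A permutation of order `p` on `p` points has no fixed point. -/
theorem no_fixed_of_order_p {α : Type*} [Fintype α] [DecidableEq α] {p : ℕ} [Fact p.Prime]
    (hα : Fintype.card α = p) (σ : Equiv.Perm α) (h : orderOf σ = p) (a : α) : σ a ≠ a := by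
  have hp : p.Prime := Fact.out
  have hct := (Cfsg.Agent.S0989.orderOf_eq_iff_cycleType p (by rw [hα]; have := hp.two_le; omega) σ).mp h
  have hs : σ.support.card = Fintype.card α := by
    rw [← Equiv.Perm.sum_cycleType, hct, hα]; simp
  rw [Finset.card_eq_iff_eq_univ] at hs
  rw [← Equiv.Perm.mem_support, hs]
  exact Finset.mem_univ a

/-- Frobenius-type counting: a transitive faithful group on `p` points whose Sylow `p`-subgroups
are self-normalizing of order `p`, and whose elements of order `p` fix no point, has order `p`. -/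
theorem card_eq_of_selfNormalizing {K X : Type*} [Group K] [Finite K] [MulAction K X] [Finite X]
    [IsPretransitive K X] [FaithfulSMul K X] {p : ℕ} [Fact p.Prime] (hX : Nat.card X = p)
    (hS : ∀ Q : Sylow p K, Nat.card (Q : Subgroup K) = p)
    (hn : Nat.card (Sylow p K) * p = Nat.card K)
    (hfix : ∀ k : K, orderOf k = p → ∀ x : X, k • x ≠ x) : Nat.card K = p := by
  classical
  have hp : p.Prime := Fact.out
  have : Fintype K := Fintype.ofFinite K
  set m := Nat.card (Sylow p K) with hm
  have hcount : Nat.card {k : K // orderOf k = p} = m * (p - 1) := card_orderOf_eq_prime hS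
  -- the set T of elements of order ≠ p has m elements
  have hT : (Finset.univ.filter fun k : K => orderOf k ≠ p).card = m := by
    have h1 : (Finset.univ.filter fun k : K => orderOf k = p).card
        + (Finset.univ.filter fun k : K => ¬ orderOf k = p).card = Fintype.card K :=
      Finset.card_filter_add_card_filter_not _
    have h2 : (Finset.univ.filter fun k : K => orderOf k = p).card = m * (p - 1) := by
      rw [← hcount, Nat.card_eq_fintype_card, Fintype.card_subtype]
    rw [h2, ← Nat.card_eq_fintype_card, ← hn] at h1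
    have h3 : m * (p - 1) + m = m * p := by
      have := hp.one_le
      calc m * (p - 1) + m = m * (p - 1 + 1) := by ring
        _ = m * p := by rw [Nat.sub_add_cancel this]
    have : (Finset.univ.filter fun k : K => ¬ orderOf k = p).card = m := by omega
    exact this
  -- every stabilizer equals T
  have hstab : ∀ x : X, (Finset.univ.filter fun k : K => k • x = x)
      = (Finset.univ.filter fun k : K => orderOf k ≠ p) := by
    intro x
    apply Finset.eq_of_subset_of_card_le
    · intro k hk
      rw [Finset.mem_filter] at hk ⊢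
      exact ⟨hk.1, fun h => hfix k h x hk.2⟩
    · rw [hT]
      have h1 : (stabilizer K x).index = p := by
        rw [index_stabilizer_of_transitive, hX]
      have h2 := (stabilizer K x).card_mul_index
      rw [h1, ← hn] at h2
      have h3 : Nat.card (stabilizer K x) = m := Nat.eq_of_mul_eq_mul_right hp.pos h2
      rw [← h3, Nat.card_eq_fintype_card, Fintype.card_subtype]
      apply le_of_eq
      congr 1
  -- hence stabilizers are trivial
  obtain ⟨x₀⟩ : Nonempty X := by
    have : Nat.card X ≠ 0 := by rw [hX]; exact hp.ne_zero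
    exact (Nat.card_ne_zero.mp this).1
  have htriv : ∀ k : K, k • x₀ = x₀ → k = 1 := by
    intro k hk
    apply FaithfulSMul.eq_of_smul_eq_smul (α := X)
    intro y
    have h1 : k ∈ (Finset.univ.filter fun k : K => k • x₀ = x₀) := by
      rw [Finset.mem_filter]; exact ⟨Finset.mem_univ _, hk⟩
    rw [hstab x₀, ← hstab y, Finset.mem_filter] at h1
    rw [h1.2, one_smul]
  have hm1 : m = 1 := by
    rw [← hT, ← hstab x₀]
    rw [Finset.card_eq_one]
    refine ⟨1, ?_⟩
    ext k
    rw [Finset.mem_filter, Finset.mem_singleton]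
    constructor
    · intro h; exact htriv k h.2
    · intro h; rw [h]; exact ⟨Finset.mem_univ _, one_smul _ _⟩
  rw [← hn, hm1, one_mul]

/-- Let G be a transitive permutation group of prime degree p having more than one Sylow p-subgroup, and suppose a Sylow p-subgroup P has prime index in its normalizer. Then G is simple. -/
theorem result {α : Type*} [Fintype α] [DecidableEq α] {p : ℕ} [Fact p.Prime] (hα : Fintype.card α = p) (G : Subgroup (Equiv.Perm α)) [MulAction.IsPretransitive ↥G α] (P : Sylow p ↥G) (hn : 1 < Nat.card (Sylow p ↥G)) (ht : (((P : Subgroup ↥G).subgroupOf (Subgroup.normalizer ((P : Subgroup ↥G) : Set ↥G))).index).Prime) : IsSimpleGroup ↥G := by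
  have hp : p.Prime := Fact.out
  have hαc : Nat.card α = p := by rw [Nat.card_eq_fintype_card, hα]
  have hnt : Nontrivial G := by
    by_contra h
    rw [not_nontrivial_iff_subsingleton] at h
    have : Subsingleton (Sylow p G) := ⟨fun A B => Sylow.ext (Subsingleton.elim _ _)⟩
    have := Finite.card_le_one_iff_subsingleton.mpr this
    omega
  have hprim : IsPreprimitive G α := IsPreprimitive.of_prime_card (by rw [hαc]; exact hp)
  obtain ⟨a₀⟩ : Nonempty α := by
    have : Nat.card α ≠ 0 := by rw [hαc]; exact hp.ne_zero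
    exact (Nat.card_ne_zero.mp this).1
  -- order facts for transitive subgroups
  have hdvdG : Nat.card G ∣ p.factorial := by
    have := Subgroup.card_subgroup_dvd_card G
    rwa [Nat.card_perm, hαc] at this
  have hpnd : ¬ p ∣ (p - 1).factorial := by
    rw [hp.dvd_factorial]; have := hp.two_le; omega
  have hfac : p.factorial = p * (p - 1).factorial := by
    conv_lhs => rw [show p = (p - 1) + 1 by have := hp.two_le; omega, Nat.factorial_succ]
    congr 1
    have := hp.two_le; omega
  have hordK : ∀ (K : Subgroup G), IsPretransitive K α →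
      ∃ m, Nat.card K = p ^ 1 * m ∧ ¬ p ∣ m := by
    intro K hK
    have h1 : (stabilizer K a₀).index = p := by
      rw [index_stabilizer_of_transitive, hαc]
    have h2 : p ∣ Nat.card K := h1 ▸ Subgroup.index_dvd_card _
    obtain ⟨m, hm⟩ := h2
    refine ⟨m, by rw [hm, pow_one], ?_⟩
    intro hpm
    obtain ⟨m', rfl⟩ := hpm
    have h3 : Nat.card K ∣ p * (p - 1).factorial :=
      hfac ▸ (Subgroup.card_subgroup_dvd_card K).trans hdvdG
    rw [hm] at h3
    have h4 : p * m' ∣ (p - 1).factorial := Nat.dvd_of_mul_dvd_mul_left hp.pos h3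
    exact hpnd ((Dvd.intro _ rfl).trans h4)
  have hGtop : IsPretransitive (⊤ : Subgroup G) α := by
    refine ⟨fun x y => ?_⟩
    obtain ⟨g, hg⟩ := exists_smul_eq G x y
    exact ⟨⟨g, mem_top g⟩, hg⟩
  obtain ⟨mG, hmG, hpmG⟩ : ∃ m, Nat.card G = p ^ 1 * m ∧ ¬ p ∣ m := by
    obtain ⟨m, hm, hpm⟩ := hordK ⊤ hGtop
    rw [Subgroup.card_top] at hm
    exact ⟨m, hm, hpm⟩
  have hcardSylG : ∀ Q : Sylow p G, Nat.card (Q : Subgroup G) = p := by
    intro Q
    have := (sylow_card_and_index Q hmG hpmG).1
    simpa using this
  have hfactG : (Nat.card G).factorization p = 1 := by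
    have h1 := Sylow.card_eq_multiplicity P
    rw [hcardSylG P] at h1
    have h2 : p ^ 1 = p ^ (Nat.card G).factorization p := by rw [pow_one]; exact h1
    exact (Nat.pow_right_injective hp.two_le h2).symm
  refine { exists_pair_ne := hnt.exists_pair_ne, eq_bot_or_eq_top_of_normal := ?_ }
  intro K hKn
  by_contra hcon
  push Not at hcon
  obtain ⟨hKbot, hKtop⟩ := hcon
  -- K is transitive
  have hKtrans : IsPretransitive K α := by
    apply IsQuasiPreprimitive.isPretransitive_of_normal (G := G)
    intro hfix
    obtain ⟨k, hk1⟩ := (Subgroup.ne_bot_iff_exists_ne_one).mp hKbot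
    apply hk1
    apply Subtype.ext
    apply Subtype.ext
    apply Equiv.Perm.ext
    intro a
    have : a ∈ fixedPoints K α := by rw [hfix]; trivial
    exact this k
  obtain ⟨mK, hmK, hpmK⟩ := hordK K hKtrans
  have hcardSylK : ∀ Q : Sylow p K, Nat.card (Q : Subgroup K) = p := by
    intro Q
    have := (sylow_card_and_index Q hmK hpmK).1
    simpa using this
  -- P ≤ K
  have hPK : (P : Subgroup G) ≤ K := by
    let Q' : Sylow p K := default
    have hQc : Nat.card ((Q' : Subgroup K).map K.subtype) = p ^ (Nat.card G).factorization p := by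
      rw [card_map_of_injective K.subtype_injective, hcardSylK Q', hfactG, pow_one]
    let S : Sylow p G := Sylow.ofCard _ hQc
    have hSK : (S : Subgroup G) ≤ K := by
      rw [Sylow.coe_ofCard]
      rintro _ ⟨x, _, rfl⟩
      exact x.2
    obtain ⟨g, hg⟩ := exists_smul_eq G S P
    intro x hx
    have hx' : x ∈ (g • S : Sylow p G) := by rw [hg]; exact hx
    rw [sylow_mem_smul_iff] at hx'
    have h1 := hSK hx'
    have h2 := hKn.conj_mem _ h1 g
    have h3 : g * (g⁻¹ * x * g) * g⁻¹ = x := by group
    rwa [h3] at h2
  -- Frattini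
  set N := normalizer ((P : Subgroup G) : Set G) with hN
  have hfrat : N ⊔ K = ⊤ := by
    have := Sylow.normalizer_sup_eq_top (P.subtype hPK)
    rwa [Sylow.coe_subtype, map_subgroupOf_eq_of_le hPK] at this
  have hPN : (P : Subgroup G) ≤ N := le_normalizer
  -- K ⊓ N ≤ P
  have hLP : K ⊓ N ≤ (P : Subgroup G) := by
    have h1 := relIndex_mul_relIndex (P : Subgroup G) (K ⊓ N) N (le_inf hPK hPN) inf_le_right
    have h2 : ((P : Subgroup G).relIndex N).Prime := ht
    rw [← h1] at h2
    rcases (Nat.prime_mul_iff.mp h2) with ⟨_, h3⟩ | ⟨_, h3⟩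
    · -- relIndex (K ⊓ N) N = 1
      exfalso
      apply hKtop
      have h4 : N ≤ K ⊓ N := relIndex_eq_one.mp h3
      rw [eq_top_iff, ← hfrat]
      exact sup_le (h4.trans inf_le_left) le_rfl
    · exact relIndex_eq_one.mp h3
  have hLeq : N ⊓ K = (P : Subgroup G) := by
    rw [inf_comm]; exact le_antisymm hLP (le_inf hPK hPN)
  -- number of Sylow subgroups of K
  have hnK : Nat.card (Sylow p K) * p = Nat.card K := by
    rw [Sylow.card_eq_index_normalizer (P.subtype hPK)]
    have h1 : normalizer (((P.subtype hPK : Sylow p K) : Subgroup K) : Set K) = N.subgroupOf K := by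
      rw [Sylow.coe_subtype, ← subgroupOf_normalizer_eq hPK]
    have h2 : (normalizer ((P.subtype hPK : Sylow p K) : Set K)) = N.subgroupOf K := h1
    rw [h2]
    have h3 := (N.subgroupOf K).card_mul_index
    rw [Cfsg.Agent.S0990.card_subgroupOf, hLeq, hcardSylG P] at h3
    rw [mul_comm]; exact h3
  -- faithful action
  have hfaith : FaithfulSMul K α := by
    refine ⟨fun {k₁ k₂} h => ?_⟩
    apply Subtype.ext
    apply Subtype.ext
    apply Equiv.Perm.ext
    intro a
    exact h a
  have hfixfree : ∀ k : K, orderOf k = p → ∀ x : α, k • x ≠ x := by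
    intro k hk x
    have h1 : orderOf (((k : G) : Equiv.Perm α)) = p := by
      rw [Subgroup.orderOf_coe, Subgroup.orderOf_coe, hk]
    exact no_fixed_of_order_p hα _ h1 x
  have hKcard : Nat.card K = p := card_eq_of_selfNormalizing hαc hcardSylK hnK hfixfree
  -- K = P, so P is normal
  have hKP : (P : Subgroup G) = K :=
    Subgroup.eq_of_le_of_card_ge hPK (by rw [hKcard, hcardSylG P])
  have hPnorm : (P : Subgroup G).Normal := hKP ▸ hKn
  have := Sylow.unique_of_normal P hPnorm
  have : Nat.card (Sylow p G) = 1 := Nat.card_unique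
  omega

end Cfsg.Agent.S1013
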