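import Mathlib
import Cfsg.Statements.S1014
import Cfsg.Agent.Lib.H5.SimpleTools
import Cfsg.Agent.Lib.H5.EmbedAlt

set_option autoImplicit false
open Cfsg

namespace Cfsg.Agent.S1014

open Cfsg.Agent.Lib.H5 Subgroup

/-- No finite simple group has order 1104 = 2^4 * 3 * 23. -/
theorem result {G : Type*} [Group G] [Finite G] [IsSimpleGroup G] : Nat.card G ≠ 1104 := by
  intro hG
  have : Fact (Nat.Prime 23) := ⟨by norm_num⟩
  have h23 : 23 ∣ Nat.card G := by rw [hG]; norm_num
  have hnp : ¬ IsPGroup 23 G :=
    not_isPGroup_of_prime_dvd (q := 2) (by norm_num) (by norm_num) (by rw [hG]; norm_num)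
  have hna : ¬ IsMulCommutative G :=
    not_isMulCommutative_of_card_not_prime (by rw [hG]; norm_num)
  let P : Sylow 23 G := default
  obtain ⟨hPc, hPi⟩ := sylow_card_and_index P (k := 1) (m := 48) (by rw [hG]; norm_num) (by norm_num)
  have hmem := card_sylow_mem_filter_divisors P (by norm_num) hPi
  have hfil : (Nat.divisors 48).filter (fun d => d % 23 = 1) = {1, 24} := by decide
  rw [hfil] at hmem
  simp only [Finset.mem_insert, Finset.mem_singleton] at hmem
  rcases hmem with h | h
  · exact card_sylow_ne_one_of_simple h23 hnp h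
  · have hN := card_normalizer_mul_card_sylow P
    rw [h, hG] at hN
    have hN46 : Nat.card (normalizer ((P : Subgroup G) : Set G)) = 46 := by omega
    have hidx : (normalizer ((P : Subgroup G) : Set G)).index = 23 + 1 := by
      rw [index_normalizer_eq_card_sylow P, h]
    have := two_mul_card_normalizer_dvd hna (p := 23) (by norm_num) _ (Or.inr hidx) P (by simpa using hPc)
    rw [hN46] at this
    norm_num at this

end Cfsg.Agent.S1014
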