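import Mathlib
import Cfsg.Statements.S1015
import Cfsg.Agent.Lib.H5.SimpleTools
import Cfsg.Agent.S0985
import Cfsg.Agent.S0990

set_option autoImplicit false
open Cfsg

namespace Cfsg.Agent.S1015

open Cfsg.Agent.Lib.H5 Subgroup

/-- An abelian subgroup containing `D` normalizes `D`. -/
theorem le_normalizer_of_comm {G : Type*} [Group G] (S D : Subgroup G) (hDS : D ≤ S)
    (hcomm : ∀ a ∈ S, ∀ b ∈ S, a * b = b * a) : S ≤ normalizer (D : Set G) := by
  refine le_trans ?_ (centralizer_le_normalizer _)
  intro x hx
  rw [mem_centralizer_iff]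
  intro d hd
  exact hcomm d (hDS hd) x hx

/-- No finite simple group has order 1200 = 2^4 * 3 * 5^2. -/
theorem result {G : Type*} [Group G] [Finite G] [IsSimpleGroup G] : Nat.card G ≠ 1200 := by
  intro hG
  have : Fact (Nat.Prime 5) := ⟨by norm_num⟩
  have h5 : 5 ∣ Nat.card G := by rw [hG]; norm_num
  have hnp : ¬ IsPGroup 5 G :=
    not_isPGroup_of_prime_dvd (q := 2) (by norm_num) (by norm_num) (by rw [hG]; norm_num)
  have hna : ¬ IsMulCommutative G :=
    not_isMulCommutative_of_card_not_prime (by rw [hG]; norm_num)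
  have hcard25 : ∀ Q : Sylow 5 G, Nat.card (Q : Subgroup G) = 25 := by
    intro Q
    have := (sylow_card_and_index Q (k := 2) (m := 48) (by rw [hG]; norm_num) (by norm_num)).1
    simpa using this
  let P₀ : Sylow 5 G := default
  obtain ⟨-, hPi⟩ := sylow_card_and_index P₀ (k := 2) (m := 48) (by rw [hG]; norm_num) (by norm_num)
  have hmem := card_sylow_mem_filter_divisors P₀ (by norm_num) hPi
  have hfil : (Nat.divisors 48).filter (fun d => d % 5 = 1) = {1, 6, 16} := by decide
  rw [hfil] at hmem
  simp only [Finset.mem_insert, Finset.mem_singleton] at hmem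
  rcases hmem with h | h | h
  · exact card_sylow_ne_one_of_simple h5 hnp h
  · -- index 6
    have hidx : (normalizer ((P₀ : Subgroup G) : Set G)).index = 6 := by
      rw [index_normalizer_eq_card_sylow P₀, h]
    have hne : normalizer ((P₀ : Subgroup G) : Set G) ≠ ⊤ := by
      intro htop
      rw [htop, index_top] at hidx
      norm_num at hidx
    have := card_dvd_factorial_index _ hne
    rw [hidx, hG] at this
    revert this
    decide
  · -- n_5 = 16
    have hmod : ¬ Nat.card (Sylow 5 G) ≡ 1 [MOD 5 ^ 2] := by
      rw [h]; decide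
    obtain ⟨P, R, hPR, hidx⟩ := Cfsg.Agent.S0985.result 5 2 hmod
    set D : Subgroup G := (P : Subgroup G) ⊓ (R : Subgroup G) with hD
    set N : Subgroup G := normalizer (D : Set G) with hN
    -- |D| ≥ 5
    have hDcard : 5 ≤ Nat.card D := by
      have h1 : Nat.card D * ((R : Subgroup G).subgroupOf (P : Subgroup G)).index = 25 := by
        have h0 := ((R : Subgroup G).subgroupOf (P : Subgroup G)).card_mul_index
        rw [Cfsg.Agent.S0990.card_subgroupOf, hcard25 P] at h0
        rw [hD, inf_comm]; exact h0
      have h2 : ((R : Subgroup G).subgroupOf (P : Subgroup G)).index ≤ 5 := by simpa using hidx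
      by_contra hlt
      push Not at hlt
      have : Nat.card D * ((R : Subgroup G).subgroupOf (P : Subgroup G)).index ≤ 4 * 5 :=
        Nat.mul_le_mul (by omega) h2
      omega
    have hab : ∀ Q : Sylow 5 G, ∀ a ∈ (Q : Subgroup G), ∀ b ∈ (Q : Subgroup G), a * b = b * a := by
      intro Q a ha b hb
      have hc := IsPGroup.isMulCommutative_of_card_eq_prime_sq (p := 5) (G := (Q : Subgroup G))
        (by rw [hcard25 Q]; norm_num)
      have := hc.is_comm.comm ⟨a, ha⟩ ⟨b, hb⟩
      exact congrArg Subtype.val this
    have hPab := hab P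
    have hRab := hab R
    have hPN : (P : Subgroup G) ≤ N := le_normalizer_of_comm _ _ inf_le_left hPab
    have hRN : (R : Subgroup G) ≤ N := le_normalizer_of_comm _ _ inf_le_right hRab
    -- N has at least 6 Sylow 5-subgroups
    have hne : P.subtype hPN ≠ R.subtype hRN := fun h => hPR (Sylow.subtype_injective h)
    have hnt : Nontrivial (Sylow 5 N) := ⟨⟨_, _, hne⟩⟩
    have h1lt : 1 < Nat.card (Sylow 5 N) := Finite.one_lt_card_iff_nontrivial.mpr hnt
    have hmodN : Nat.card (Sylow 5 N) ≡ 1 [MOD 5] := card_sylow_modEq_one 5 N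
    have h6 : 6 ≤ Nat.card (Sylow 5 N) := by
      have : Nat.card (Sylow 5 N) % 5 = 1 := hmodN
      omega
    have hdvd : Nat.card (Sylow 5 N) ∣ ((P.subtype hPN : Sylow 5 N) : Subgroup N).index :=
      Sylow.card_dvd_index _
    have hcardPN : Nat.card ((P.subtype hPN : Sylow 5 N) : Subgroup N) = 25 := by
      rw [Sylow.coe_subtype, Cfsg.Agent.S0990.card_subgroupOf, inf_eq_left.mpr hPN, hcard25 P]
    have hNcard : 150 ≤ Nat.card N := by
      have h1 := ((P.subtype hPN : Sylow 5 N) : Subgroup N).card_mul_index
      rw [hcardPN] at h1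
      have hpos : 0 < ((P.subtype hPN : Sylow 5 N) : Subgroup N).index :=
        Nat.pos_of_ne_zero Subgroup.index_ne_zero_of_finite
      have := Nat.le_of_dvd hpos hdvd
      omega
    -- N ≠ ⊤
    have hNtop : N ≠ ⊤ := by
      intro htop
      have hnorm : D.Normal := normalizer_eq_top_iff.mp htop
      rcases hnorm.eq_bot_or_eq_top with hb | ht
      · rw [hb, Subgroup.card_bot] at hDcard
        omega
      · have : Nat.card D ≤ Nat.card (P : Subgroup G) := Subgroup.card_le_of_le inf_le_left
        rw [ht, Subgroup.card_top, hG, hcard25 P] at this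
        omega
    have hidxN : N.index ≤ 8 := by
      have h1 := N.card_mul_index
      rw [hG] at h1
      by_contra hlt
      push Not at hlt
      have : 150 * 9 ≤ Nat.card N * N.index := Nat.mul_le_mul hNcard hlt
      omega
    have hfin := card_dvd_factorial_index N hNtop
    have h8 := Nat.factorial_dvd_factorial hidxN
    have := hfin.trans h8
    rw [hG] at this
    revert this
    decide

end Cfsg.Agent.S1015
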