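import Mathlib
import Cfsg.Statements.S1016
import Cfsg.Agent.Lib.H5.SimpleTools
import Cfsg.Agent.Lib.H5.Ord.Ord1440a
import Cfsg.Agent.Lib.H5.Ord.Ord1440b

set_option autoImplicit false
open Cfsg

namespace Cfsg.Agent.S1016

open Cfsg.Agent.Lib.H5 Cfsg.Agent.Lib.H5.SylPrime Cfsg.Agent.Lib.H5.Ord1440 Subgroup

/-- No finite simple group has order 1440 = 2^5 * 3^2 * 5. -/
theorem result {G : Type*} [Group G] [Finite G] [IsSimpleGroup G] : Nat.card G ≠ 1440 := by
  intro hG
  have : Fact (Nat.Prime 5) := ⟨by norm_num⟩
  have h5 : 5 ∣ Nat.card G := by rw [hG]; norm_num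
  have hnp : ¬ IsPGroup 5 G :=
    not_isPGroup_of_prime_dvd (q := 2) (by norm_num) (by norm_num) (by rw [hG]; norm_num)
  let P₀ : Sylow 5 G := default
  obtain ⟨hPc, hPi⟩ := sylow_card_and_index P₀ (k := 1) (m := 288) (by rw [hG]; norm_num)
    (by norm_num)
  rw [pow_one] at hPc
  have hmem := card_sylow_mem_filter_divisors P₀ (by norm_num) hPi
  have hfil : (Nat.divisors 288).filter (fun d => d % 5 = 1) = {1, 6, 16, 36, 96} := by decide
  rw [hfil] at hmem
  simp only [Finset.mem_insert, Finset.mem_singleton] at hmem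
  rcases hmem with h | h | h | h | h
  · exact card_sylow_ne_one_of_simple h5 hnp h
  · -- index 6
    have hidx : (normalizer ((P₀ : Subgroup G) : Set G)).index = 6 := by
      rw [index_normalizer_eq_card_sylow P₀, h]
    have hne : normalizer ((P₀ : Subgroup G) : Set G) ≠ ⊤ := by
      intro htop
      rw [htop, index_top] at hidx
      norm_num at hidx
    have := card_dvd_factorial_index _ hne
    rw [hidx, hG] at this
    revert this
    decide
  · exact not_sixteen hG h
  · exact not_thirtysix hG h
  · -- n_5 = 96 : |N(P)| = 15, so N(P) = C(P)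
    set N := normalizer ((P₀ : Subgroup G) : Set G) with hN
    set C := centralizer ((P₀ : Subgroup G) : Set G) with hC
    have hNcard : Nat.card N = 15 := by
      have := card_normalizer_mul_card_sylow P₀
      rw [h, hG, ← hN] at this
      omega
    have hCN : C ≤ N := centralizer_le_normalizer _
    have h4 : C.relIndex N ∣ 4 :=
      relIndex_centralizer_normalizer_dvd_of_card_prime (P₀ : Subgroup G) hPc
    have h15 := card_mul_relIndex_of_le hCN
    rw [hNcard] at h15
    have h15' : C.relIndex N ∣ 15 := Dvd.intro_left _ h15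
    have h1 : C.relIndex N = 1 := by
      have := Nat.dvd_gcd h4 h15'
      simpa using this
    exact not_normalizer_le_centralizer_of_simple h5 hnp P₀ (relIndex_eq_one.mp h1)

end Cfsg.Agent.S1016
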