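import Mathlib
import Cfsg.Statements.S1017
import Cfsg.Agent.Lib.H5.SimpleTools
import Cfsg.Agent.Lib.H5.Ord.Ord2016c

set_option autoImplicit false
open Cfsg

namespace Cfsg.Agent.S1017

open Cfsg.Agent.Lib.H5 Cfsg.Agent.Lib.H5.SylPrime Cfsg.Agent.Lib.H5.Ord2016 Subgroup

/-- No finite simple group has order 2016 = 2^5 * 3^2 * 7. -/
theorem result {G : Type*} [Group G] [Finite G] [IsSimpleGroup G] : Nat.card G ≠ 2016 := by
  intro hG
  have : Fact (Nat.Prime 7) := ⟨by norm_num⟩
  have h7 : 7 ∣ Nat.card G := by rw [hG]; norm_num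
  have hnp : ¬ IsPGroup 7 G :=
    not_isPGroup_of_prime_dvd (q := 2) (by norm_num) (by norm_num) (by rw [hG]; norm_num)
  let P₀ : Sylow 7 G := default
  obtain ⟨hPc, hPi⟩ := sylow_card_and_index P₀ (k := 1) (m := 288) (by rw [hG]; norm_num)
    (by norm_num)
  rw [pow_one] at hPc
  have hmem := card_sylow_mem_filter_divisors P₀ (by norm_num) hPi
  have hfil : (Nat.divisors 288).filter (fun d => d % 7 = 1) = {1, 8, 36, 288} := by decide
  rw [hfil] at hmem
  simp only [Finset.mem_insert, Finset.mem_singleton] at hmem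
  rcases hmem with h | h | h | h
  · exact card_sylow_ne_one_of_simple h7 hnp h
  · exact not_eight hG h
  · exact not_thirtysix hG h
  · -- n_7 = 288 : |N(P)| = 7, so N(P) = C(P)
    set N := normalizer ((P₀ : Subgroup G) : Set G) with hN
    set C := centralizer ((P₀ : Subgroup G) : Set G) with hC
    have hNcard : Nat.card N = 7 := by
      have := card_normalizer_mul_card_sylow P₀
      rw [h, hG, ← hN] at this
      omega
    have hCN : C ≤ N := centralizer_le_normalizer _
    have h6 : C.relIndex N ∣ 6 :=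
      relIndex_centralizer_normalizer_dvd_of_card_prime (P₀ : Subgroup G) hPc
    have h7' := card_mul_relIndex_of_le hCN
    rw [hNcard] at h7'
    have h7'' : C.relIndex N ∣ 7 := Dvd.intro_left _ h7'
    have h1 : C.relIndex N = 1 := by
      have := Nat.dvd_gcd h6 h7''
      simpa using this
    exact not_normalizer_le_centralizer_of_simple h7 hnp P₀ (relIndex_eq_one.mp h1)

end Cfsg.Agent.S1017
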