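import Cfsg.Statements.S1024
import Cfsg.Agent.Lib.H29.ChevCert1

set_option autoImplicit false
open Cfsg

namespace Cfsg.Agent.S1024

/-- `x_r(0) = 1`, and `x_r(t) = 1` forces `t = 0`: the map `t ↦ x_r(t)` is injective. -/
theorem result {F : Type*} [Field F] (D : Cfsg.Lie.ChevalleyDatum) (hD : D ∈ [Cfsg.Lie.chevG2, Cfsg.Lie.chevB2, Cfsg.Lie.chevD4, Cfsg.Lie.chevF4, Cfsg.Lie.chevE6, Cfsg.Lie.chevE7, Cfsg.Lie.chevE8]) (r : ℕ) (hr : r < D.nroots) (t : F) :
    D.x F r t = 1 ↔ t = 0 := by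
  obtain ⟨fd, hc⟩ := Cfsg.Agent.Lib.H29.Chev.cert1_of_mem D hD
  have h := hc.agrees
  have hr' : r < fd.n := by rw [← h.hn]; exact hr
  unfold Cfsg.Lie.ChevalleyDatum.x
  simp only [dif_pos hr]
  constructor
  · intro hx
    have hneg := h.neg_eq r hr'
    have heven := hc.heven
    have hs : fd.n - 1 - r < D.nroots := by rw [h.hn]; omega
    have hne : (⟨fd.n - 1 - r, hs⟩ : Fin D.nroots) ≠ ⟨r, hr⟩ := by
      intro he
      have := congrArg Fin.val he
      simp only at this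
      omega
    have e := congrFun (congrFun hx (Sum.inr ⟨r, hr⟩)) (Sum.inr ⟨fd.n - 1 - r, hs⟩)
    simp only [Cfsg.Lie.ChevalleyDatum.xMat, Matrix.of_apply, hne, if_false, hneg, if_true, Ne.symm hne] at e
    rw [Matrix.one_apply_ne (by simpa using Ne.symm hne)] at e
    simpa using e
  · rintro rfl
    exact Cfsg.Agent.Lib.H29.Chev.xMat_zero h ⟨r, hr⟩

end Cfsg.Agent.S1024
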