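import Cfsg.Statements.S1041
import Cfsg.Agent.Lib.H6.ChevBasic

set_option autoImplicit false
open Cfsg

namespace Cfsg.Agent.S1041

open Cfsg.Agent.Lib.H6.Chev

/-- `U` and `V` generate the whole Chevalley group. -/
theorem result {F : Type*} [Field F] (D : Cfsg.Lie.ChevalleyDatum) (hD : D ∈ [Cfsg.Lie.chevG2, Cfsg.Lie.chevB2, Cfsg.Lie.chevD4, Cfsg.Lie.chevF4, Cfsg.Lie.chevE6, Cfsg.Lie.chevE7, Cfsg.Lie.chevE8]) : D.posUnipotent F ⊔ D.negUnipotent F = D.group F := by

  have hOK := signOK_of_mem hD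
  apply le_antisymm
  · exact sup_le (posUnipotent_le_group D) (negUnipotent_le_group D)
  · unfold Cfsg.Lie.ChevalleyDatum.group
    rw [Subgroup.closure_le]
    rintro g ⟨r, t, hg⟩
    have hx : ((g : GL D.Idx F) : Matrix D.Idx D.Idx F) = D.x F r.val t := by
      rw [hg, x_of_lt D r.2]
    rcases (signOK_spec hOK r.2).1 with h | h
    · apply Subgroup.mem_sup_left
      apply Subgroup.subset_closure
      exact ⟨r.val, t, h, hx⟩
    · apply Subgroup.mem_sup_right
      apply Subgroup.subset_closure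
      exact ⟨r.val, t, h, hx⟩

end Cfsg.Agent.S1041
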