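import Cfsg.Statements.S1045
import Cfsg.Agent.Lib.H29.ChevCert6

set_option autoImplicit false
open Cfsg

namespace Cfsg.Agent.S1045

/-- For a fundamental root `p`, the subgroup `U_p` generated by the `X_s`, `s` positive and `s ≠ p`, is normalised by `X_p` and `X_{-p}`, and `U = U_p ⊔ X_p`. -/
theorem result {F : Type*} [Field F] (D : Cfsg.Lie.ChevalleyDatum) (hD : D ∈ [Cfsg.Lie.chevG2, Cfsg.Lie.chevB2, Cfsg.Lie.chevD4, Cfsg.Lie.chevF4, Cfsg.Lie.chevE6, Cfsg.Lie.chevE7, Cfsg.Lie.chevE8]) (i : ℕ) (hi : i < D.rank) :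
    D.rootSubgroup F (D.simple i) ⊔ D.rootSubgroup F (D.neg (D.simple i)) ≤
        Subgroup.normalizer (Subgroup.closure {g : GL D.Idx F | ∃ (s : ℕ) (t : F), D.IsPosRoot s ∧ s ≠ D.simple i ∧
          (g : Matrix D.Idx D.Idx F) = D.x F s t} : Set (GL D.Idx F)) ∧
      Subgroup.closure {g : GL D.Idx F | ∃ (s : ℕ) (t : F), D.IsPosRoot s ∧ s ≠ D.simple i ∧
          (g : Matrix D.Idx D.Idx F) = D.x F s t} ⊔ D.rootSubgroup F (D.simple i) = D.posUnipotent F := by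
  obtain ⟨fd, fx, fc, C⟩ := Cfsg.Agent.Lib.H29.Chev.cert6_of_mem D hD
  have hi' : i < fd.l := by rw [← C.c2.rank_eq]; exact hi
  have e1 : D.simple i = fd.simples.getD i 0 := C.c2.agrees.simple_eq i
  have e2 : D.neg (D.simple i) = fd.n - 1 - fd.simples.getD i 0 := by
    rw [e1]; exact C.c2.agrees.neg_eq' _ (C.c2.simple_lt i hi')
  rw [e2, e1]
  exact ⟨C.rootSubgroup_pm_le_normalizer i hi', C.Up_sup_rootSubgroup i hi'⟩

end Cfsg.Agent.S1045
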