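import Cfsg.Statements.S1052
import Cfsg.Agent.Lib.H29.ChevCert9
import Cfsg.Agent.S1056

set_option autoImplicit false
open Cfsg

namespace Cfsg.Agent.S1052

/-- `G = G'` for every type G₂, B₂, D₄, F₄, E₆, E₇, E₈ over every field, except G₂ and B₂ over the field with two elements. -/
theorem result {F : Type*} [Field F] (D : Cfsg.Lie.ChevalleyDatum) (hD : D ∈ [Cfsg.Lie.chevG2, Cfsg.Lie.chevB2, Cfsg.Lie.chevD4, Cfsg.Lie.chevF4, Cfsg.Lie.chevE6, Cfsg.Lie.chevE7, Cfsg.Lie.chevE8]) (h2 : D = Cfsg.Lie.chevG2 ∨ D = Cfsg.Lie.chevB2 → ∃ a : F, a ≠ 0 ∧ a ≠ 1) :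
    commutator ↥(D.group F) = ⊤ := by
  simp only [List.mem_cons, List.not_mem_nil, or_false] at hD
  rcases hD with rfl | rfl | hD
  · obtain ⟨fd, fx, fc, fw, C⟩ := Cfsg.Agent.Lib.H29.Chev.cert9_G2
    exact C.group_perfect (Or.inr (h2 (Or.inl rfl)))
  · obtain ⟨hs, hnc⟩ := Cfsg.Agent.S1056.result (F := F) (h2 (Or.inr rfl))
    rcases hs.eq_bot_or_eq_top_of_normal (commutator ↥(Cfsg.Lie.chevB2.group F)) inferInstance with h | h
    · exfalso
      apply hnc
      refine ⟨⟨fun a b => ?_⟩⟩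
      have : a * b * a⁻¹ * b⁻¹ ∈ commutator ↥(Cfsg.Lie.chevB2.group F) := by
        rw [← commutatorElement_def]
        exact Subgroup.commutator_mem_commutator (Subgroup.mem_top a) (Subgroup.mem_top b)
      rw [h, Subgroup.mem_bot] at this
      calc a * b = a * b * a⁻¹ * b⁻¹ * (b * a) := by group
        _ = b * a := by rw [this, one_mul]
    · exact h
  · have hD' : D ∈ [Cfsg.Lie.chevD4, Cfsg.Lie.chevF4, Cfsg.Lie.chevE6, Cfsg.Lie.chevE7, Cfsg.Lie.chevE8] := by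
      simp only [List.mem_cons, List.not_mem_nil, or_false]
      exact hD
    obtain ⟨fd, fx, fc, fw, C, hk⟩ := Cfsg.Agent.Lib.H29.Chev.cert9_of_mem5 D hD'
    exact C.group_perfect (Or.inl hk)

end Cfsg.Agent.S1052
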