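import Cfsg.Statements.S1057
import Cfsg.Agent.Lib.H14.G2U3Main
import Cfsg.Agent.Lib.H14.ChevBC
import Cfsg.Agent.Lib.H3.CenterIso
import Cfsg.Agent.Lib.H2.Spec5

set_option autoImplicit false
open Cfsg

namespace Cfsg.Agent.S1057

/-- an isomorphism of groups induces an isomorphism of the derived subgroups -/
noncomputable def commCongr {A B : Type*} [Group A] [Group B] (Θ : A ≃* B) :
    ↥(commutator A) ≃* ↥(commutator B) := by
  have h : (commutator A).map Θ.toMonoidHom = commutator B := by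
    rw [commutator_def, Subgroup.map_commutator, commutator_def,
      Subgroup.map_top_of_surjective Θ.toMonoidHom Θ.surjective]
  exact (Θ.subgroupMap (commutator A)).trans (MulEquiv.subgroupCongr h)

/-- G₂(2)′ ≅ PSU₃(3). -/
theorem result {F K : Type*} [Field F] [Fintype F] [Field K] [Fintype K] (hF : Fintype.card F = 2) (hK : Fintype.card K = 9) :
    Nonempty (↥(commutator ↥(Cfsg.Lie.chevG2.group F)) ≃* Cfsg.PSU 3 K 3) := by
    have eF : F ≃+* ZMod 2 := FiniteField.ringEquivOfCardEq (hF.trans (ZMod.card 2).symm)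
    have eK : K ≃+* Cfsg.Agent.Lib.H14.F9 :=
      FiniteField.ringEquivOfCardEq (hK.trans Cfsg.Agent.Lib.H14.F9.card_eq.symm)
    obtain ⟨e0⟩ := Cfsg.Agent.Lib.H14.G2U3Main.main
    have e1 : ↥(commutator ↥(Cfsg.Lie.chevG2.group F)) ≃*
        ↥(commutator ↥(Cfsg.Lie.chevG2.group (ZMod 2))) :=
      commCongr (Cfsg.Agent.Lib.H14.ChevBC.groupEquiv Cfsg.Lie.chevG2 eF)
    have e2 : Cfsg.PSU 3 K 3 ≃* Cfsg.PSU 3 Cfsg.Agent.Lib.H14.F9 3 :=
      Cfsg.Agent.Lib.H3.CenterIso.quotCenterCongr (Cfsg.Agent.Lib.H2.Spec.suEquiv eK 3 3)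
    exact ⟨(e1.trans e0).trans e2.symm⟩

end Cfsg.Agent.S1057
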