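import Cfsg.Statements.S1058
import Cfsg.Agent.Lib.H29.B2Iso
import Cfsg.Agent.S0247

set_option autoImplicit false
open Cfsg

namespace Cfsg.Agent.S1058

open Cfsg.Agent.Lib.H29.B2 Cfsg.Agent.Lib.H2.Sp

/-- B₂(2) ≅ S₆. -/
theorem result {F : Type*} [Field F] [Fintype F] (hF : Fintype.card F = 2) :
    Nonempty (↥(Cfsg.Lie.chevB2.group F) ≃* Equiv.Perm (Fin 6)) := by
  obtain ⟨e⟩ := Cfsg.Agent.S0247.result hF
  have hc : Subgroup.center (Matrix.symplecticGroup (Fin 2) F) = ⊥ := by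
    rw [← Subgroup.card_eq_one, card_center 2 (by norm_num), hF]; rfl
  exact ⟨((isoPSp F).trans ((QuotientGroup.quotientMulEquivOfEq hc).trans
    QuotientGroup.quotientBot)).trans e⟩

end Cfsg.Agent.S1058
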