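import Cfsg.Statements.S1073
import Cfsg.Agent.Lib.H29.ChevRee21

set_option autoImplicit false
open Cfsg

namespace Cfsg.Agent.S1073

/-- ²G₂(3^(2m+1)) is simple for `m ≥ 1`. -/
theorem result {K : Type*} [Field K] [Fintype K] {m : ℕ} (hm : 1 ≤ m) (hK : Fintype.card K = 3 ^ (2 * m + 1)) :
    IsSimpleGroup ↥(Cfsg.Lie.twistedG2 K (3 ^ m)) ∧ ¬ IsMulCommutative ↥(Cfsg.Lie.twistedG2 K (3 ^ m)) := by
  open Cfsg.Agent.Lib.H29.Chev in
  have : CharP K 3 := charP_of_card_pow 3 (2 * m + 1) (by norm_num) hK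
  exact tw_simple_G2 m hK hm

end Cfsg.Agent.S1073
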