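import Cfsg.Statements.S1078
import Cfsg.Agent.Lib.H29.ChevStN
import Cfsg.Agent.Lib.H29.ChevStChkAll
import Cfsg.Agent.Lib.H29.ChevCert13

set_option autoImplicit false
open Cfsg

namespace Cfsg.Agent.S1078

/-- For G₂, F₄, E₈ the presented group has trivial centre (the universal and adjoint groups coincide). -/
theorem result {K : Type*} [Field K] (D : Cfsg.Lie.ChevalleyDatum) (hD : D ∈ [Cfsg.Lie.chevG2, Cfsg.Lie.chevF4, Cfsg.Lie.chevE8]) :
    Subgroup.center (D.SteinbergGroup K) = ⊥ := by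
  open Cfsg.Agent.Lib.H29.Chev in
  simp only [List.mem_cons, List.mem_nil_iff, or_false] at hD
  rcases hD with rfl | rfl | rfl
  · exact cert12_G2.steinberg_center_bot K fdG2_ChkSt uniG2 fdG2_ChkUni
  · exact cert12_F4.steinberg_center_bot K fdF4_ChkSt uniF4 fdF4_ChkUni
  · exact cert12_E8.steinberg_center_bot K fdE8_ChkSt uniE8 fdE8_ChkUni

end Cfsg.Agent.S1078
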