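import Cfsg.Statements.S1079
import Cfsg.Agent.Lib.H29.ChevCert13
import Cfsg.Agent.Lib.H29.ChevStChkAll
import Cfsg.Agent.Lib.H29.ChevSmithData
import Cfsg.Agent.Lib.H29.ChevCen2
import Cfsg.Agent.Lib.H29.ChevEmbE6E7
import Cfsg.Agent.Lib.H29.ChevEmbE7E8

set_option autoImplicit false
open Cfsg

namespace Cfsg.Agent.S1079

/-- `|Z(Ḡ)| = gcd(3, q-1)` for E₆ and `gcd(2, q-1)` for E₇ over a field with `q` elements (the centre is dual to the weight lattice modulo the root lattice). -/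
theorem result {K : Type*} [Field K] [Fintype K] {q : ℕ} (hq : Fintype.card K = q)
    (p : Cfsg.Lie.ChevalleyDatum × ℕ) (hp : p ∈ [(Cfsg.Lie.chevE6, 3), (Cfsg.Lie.chevE7, 2)]) :
    Nat.card (Subgroup.center (p.1.SteinbergGroup K)) = Nat.gcd p.2 (q - 1) := by
  open Cfsg.Agent.Lib.H29.Chev in
  have hK : Nat.card K = q := by rw [Nat.card_eq_fintype_card, hq]
  simp only [List.mem_cons, List.mem_nil_iff, or_false] at hp
  rcases hp with rfl | rfl
  · have h := cert12_E6.card_center_steinberg cert12_E7 K fdE6_ChkSt ioE6E7 fdE6E7_ChkEmb fdE6E7_ChkEmbS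
      uniLE6E7 fdE6E7_ChkUniL fsE6 fdE6_ChkSmith
    rw [h, hK]
    show ∏ i ∈ Finset.range 6, (q - 1).gcd (fsE6.d.getD i 0) = Nat.gcd 3 (q - 1)
    simp [Finset.prod_range_succ, fsE6, Nat.gcd_comm]
  · have h := cert12_E7.card_center_steinberg cert12_E8 K fdE7_ChkSt ioE7E8 fdE7E8_ChkEmb fdE7E8_ChkEmbS
      uniLE7E8 fdE7E8_ChkUniL fsE7 fdE7_ChkSmith
    rw [h, hK]
    show ∏ i ∈ Finset.range 7, (q - 1).gcd (fsE7.d.getD i 0) = Nat.gcd 2 (q - 1)
    simp [Finset.prod_range_succ, fsE7, Nat.gcd_comm]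

end Cfsg.Agent.S1079
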