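import Cfsg.Statements.S1080
import Cfsg.Agent.Lib.H6.ChevBasic

set_option autoImplicit false
open Cfsg

namespace Cfsg.Agent.S1080

open Cfsg.Lie

theorem sum_map_f {F : Type*} [Field F] (f : F →+* F) (L : List (ℕ × ℤ)) (t : F) :
    f ((L.map fun km => ((km.2 : ℤ) : F) * t ^ km.1).sum) =
      (L.map fun km => ((km.2 : ℤ) : F) * (f t) ^ km.1).sum := by
  rw [map_list_sum, List.map_map]
  congr 1
  apply List.map_congr_left
  intro km _
  simp

theorem xMat_map {F : Type*} [Field F] (D : ChevalleyDatum) (f : F →+* F) (r : Fin D.nroots) (t : F) :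
    (D.xMat F r t).map f = D.xMat F r (f t) := by
  ext row col
  rw [Matrix.map_apply]
  rcases col with i | s <;> rcases row with i' | u
  · simp only [ChevalleyDatum.xMat, Matrix.of_apply]
    split_ifs <;> simp
  · simp only [ChevalleyDatum.xMat, Matrix.of_apply]
    split_ifs <;> simp
  · simp only [ChevalleyDatum.xMat, Matrix.of_apply]
    split_ifs <;> simp
  · simp only [ChevalleyDatum.xMat, Matrix.of_apply]
    split_ifs <;>
      simp only [map_add, map_one, map_zero, map_neg, map_pow, sum_map_f]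

theorem x_map {F : Type*} [Field F] (D : ChevalleyDatum) (f : F →+* F) (r : ℕ) (t : F) :
    (D.x F r t).map f = D.x F r (f t) := by
  unfold ChevalleyDatum.x
  split_ifs with h
  · exact xMat_map D f ⟨r, h⟩ t
  · exact Matrix.map_one f (map_zero f) (map_one f)

theorem map_group_le {F : Type*} [Field F] (D : ChevalleyDatum) (f : F →+* F) :
    (D.group F).map (Matrix.GeneralLinearGroup.map f) ≤ D.group F := by
  unfold ChevalleyDatum.group
  rw [Subgroup.map_le_iff_le_comap, Subgroup.closure_le]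
  rintro g ⟨r, t, hg⟩
  rw [SetLike.mem_coe, Subgroup.mem_comap]
  apply Subgroup.subset_closure
  refine ⟨r, f t, ?_⟩
  have : ((Matrix.GeneralLinearGroup.map f g : GL D.Idx F) : Matrix D.Idx D.Idx F) =
      (g : Matrix D.Idx D.Idx F).map f := rfl
  rw [this, hg, xMat_map]

/-- Field automorphisms: for every field automorphism `f` there is a group automorphism sending each `x_r(t)` to `x_r(f t)`. -/
theorem result {F : Type*} [Field F] (D : Cfsg.Lie.ChevalleyDatum) (hD : D ∈ [Cfsg.Lie.chevG2, Cfsg.Lie.chevB2, Cfsg.Lie.chevD4, Cfsg.Lie.chevF4, Cfsg.Lie.chevE6, Cfsg.Lie.chevE7, Cfsg.Lie.chevE8]) (f : F ≃+* F) :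
    ∃ α : ↥(D.group F) ≃* ↥(D.group F), ∀ (g : ↥(D.group F)) (r : ℕ) (t : F), r < D.nroots →
      ((g : GL D.Idx F) : Matrix D.Idx D.Idx F) = D.x F r t → ((α g : GL D.Idx F) : Matrix D.Idx D.Idx F) = D.x F r (f t) := by

  classical
  let φ : GL D.Idx F →* GL D.Idx F := Matrix.GeneralLinearGroup.map (f : F →+* F)
  let ψ : GL D.Idx F →* GL D.Idx F := Matrix.GeneralLinearGroup.map (f.symm : F →+* F)
  have h1 : ∀ g, ψ (φ g) = g := by
    intro g
    apply Units.ext
    ext i j
    simp [φ, ψ]
  have h2 : ∀ g, φ (ψ g) = g := by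
    intro g
    apply Units.ext
    ext i j
    simp [φ, ψ]
  let e : GL D.Idx F ≃* GL D.Idx F :=
    { toFun := φ, invFun := ψ, left_inv := h1, right_inv := h2, map_mul' := φ.map_mul }
  have hmap : (D.group F).map e.toMonoidHom = D.group F := by
    apply le_antisymm
    · exact map_group_le D (f : F →+* F)
    · intro g hg
      refine ⟨ψ g, ?_, h2 g⟩
      exact map_group_le D (f.symm : F →+* F) ⟨g, hg, rfl⟩
  let α : ↥(D.group F) ≃* ↥(D.group F) :=
    (e.subgroupMap (D.group F)).trans (MulEquiv.subgroupCongr hmap)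
  refine ⟨α, ?_⟩
  intro g r t hr hg
  have : ((α g : GL D.Idx F) : Matrix D.Idx D.Idx F) = ((g : GL D.Idx F) : Matrix D.Idx D.Idx F).map f := by
    rfl
  rw [this, hg]
  exact x_map D (f : F →+* F) r t

end Cfsg.Agent.S1080
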