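import Cfsg.Statements.S1083
import Cfsg.Agent.Lib.H29.O5Iso
import Cfsg.Agent.Lib.H29.B2Iso
import Cfsg.Agent.S1056

set_option autoImplicit false
open Cfsg

namespace Cfsg.Agent.S1083

open Cfsg.Agent.Lib.H29.B2 Cfsg.Agent.Lib.H29.O5

/-- the centre of a non-commutative simple group is trivial -/
theorem center_eq_bot_of_simple {S : Type*} [Group S] [IsSimpleGroup S]
    (h : ¬ IsMulCommutative S) : Subgroup.center S = ⊥ := by
  rcases (inferInstance : (Subgroup.center S).Normal).eq_bot_or_eq_top with h1 | h1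
  · exact h1
  · exfalso
    apply h
    refine ⟨⟨fun a b => ?_⟩⟩
    have : b ∈ Subgroup.center S := by rw [h1]; exact Subgroup.mem_top b
    exact (Subgroup.mem_center_iff.1 this) a

/-- B₂(F) ≅ PΩ₅(F) for the form `x₀² + x₁y₁ + x₂y₂`, over every field with more than two elements. -/
theorem result {F : Type*} [Field F] (hF : ∃ a : F, a ≠ 0 ∧ a ≠ 1) :
    Nonempty (↥(Cfsg.Lie.chevB2.group F) ≃* Cfsg.POmega F (Cfsg.quadFormOdd 2 F)) := by
  have hperf := Cfsg.Agent.S1056.perfect hF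
  obtain ⟨hsimple, hnc⟩ := Cfsg.Agent.S1056.result hF
  -- `B₂(F) ≅ Ω₅(F)`
  let e : ↥(Cfsg.Lie.chevB2.group F) ≃* ↥(commutator ↥(GO5 F)) :=
    (isoPSp F).trans (isoOmega hperf)
  have : IsSimpleGroup ↥(commutator ↥(GO5 F)) := e.symm.isSimpleGroup
  have hnc' : ¬ IsMulCommutative ↥(commutator ↥(GO5 F)) := by
    intro hc
    apply hnc
    refine ⟨⟨fun a b => ?_⟩⟩
    have := hc.is_comm.comm (e a) (e b)
    rw [← map_mul, ← map_mul] at this
    exact e.injective this
  have hcen : Subgroup.center ↥(commutator ↥(GO5 F)) = ⊥ := center_eq_bot_of_simple hnc'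
  exact ⟨e.trans ((QuotientGroup.quotientMulEquivOfEq hcen).trans QuotientGroup.quotientBot).symm⟩

end Cfsg.Agent.S1083
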