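import Cfsg.Statements.S1094
import Cfsg.Agent.Lib.H6.CoxOrders1
import Cfsg.Agent.Lib.H6.CoxOrders2
import Cfsg.Agent.Lib.H6.CoxLB4

set_option autoImplicit false
open Cfsg

namespace Cfsg.Agent.S1094

open Cfsg.Agent.Lib.H6.CoxTC Cfsg.Agent.Lib.H6.CoxLB Cfsg.Agent.Lib.H6.CoxLB.Data
  Cfsg.Agent.Lib.H6.CoxOrders

theorem primes4 : ∀ q : ℕ, q.Prime → q ∣ 4 → q ∈ [2] := by
  intro q hq hd
  have hle := Nat.le_of_dvd (by norm_num) hd
  interval_cases q <;> first | decide | (exfalso; revert hq; decide) | (exfalso; revert hd; decide)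

theorem primes6 : ∀ q : ℕ, q.Prime → q ∣ 6 → q ∈ [2, 3] := by
  intro q hq hd
  have hle := Nat.le_of_dvd (by norm_num) hd
  interval_cases q <;> first | decide | (exfalso; revert hq; decide) | (exfalso; revert hd; decide)

theorem primes12 : ∀ q : ℕ, q.Prime → q ∣ 12 → q ∈ [2, 3] := by
  intro q hq hd
  have hle := Nat.le_of_dvd (by norm_num) hd
  interval_cases q <;> first | decide | (exfalso; revert hq; decide) | (exfalso; revert hd; decide)

theorem primes18 : ∀ q : ℕ, q.Prime → q ∣ 18 → q ∈ [2, 3] := by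
  intro q hq hd
  have hle := Nat.le_of_dvd (by norm_num) hd
  interval_cases q <;> first | decide | (exfalso; revert hq; decide) | (exfalso; revert hd; decide)

theorem primes30 : ∀ q : ℕ, q.Prime → q ∣ 30 → q ∈ [2, 3, 5] := by
  intro q hq hd
  have hle := Nat.le_of_dvd (by norm_num) hd
  interval_cases q <;> first | decide | (exfalso; revert hq; decide) | (exfalso; revert hd; decide)

set_option maxRecDepth 1000000 in
theorem ord_B2 : orderOf ((List.finRange 2).map (CoxeterMatrix.B 2).simple).prod = 4 :=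
  orderOf_coxeterElement (CoxeterMatrix.B 2) invOKB2 hmB2 relsOKB2 levelsB2 chainOKB2
    (by rw [chainProdB2]; exact ub_B2) (by norm_num) (by decide +kernel) [2] primes4
    (by decide +kernel)

set_option maxRecDepth 1000000 in
theorem ord_G2 : orderOf ((List.finRange 2).map CoxeterMatrix.G₂.simple).prod = 6 :=
  orderOf_coxeterElement CoxeterMatrix.G₂ invOKG2 hmG2 relsOKG2 levelsG2 chainOKG2
    (by rw [chainProdG2]; exact ub_G2) (by norm_num) (by decide +kernel) [2, 3] primes6
    (by decide +kernel)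

set_option maxRecDepth 1000000 in
theorem ord_D4 : orderOf ((List.finRange 4).map Cfsg.Lie.coxeterD4.simple).prod = 6 :=
  orderOf_coxeterElement Cfsg.Lie.coxeterD4 invOKD4 hmD4 relsOKD4 levelsD4 chainOKD4
    (by rw [chainProdD4]; exact ub_D4) (by norm_num) (by decide +kernel) [2, 3] primes6
    (by decide +kernel)

set_option maxRecDepth 1000000 in
theorem ord_F4 : orderOf ((List.finRange 4).map CoxeterMatrix.F₄.simple).prod = 12 :=
  orderOf_coxeterElement CoxeterMatrix.F₄ invOKF4 hmF4 relsOKF4 levelsF4 chainOKF4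
    (by rw [chainProdF4]; exact ub_F4) (by norm_num) (by decide +kernel) [2, 3] primes12
    (by decide +kernel)

set_option maxRecDepth 1000000 in
theorem ord_E6 : orderOf ((List.finRange 6).map CoxeterMatrix.E₆.simple).prod = 12 :=
  orderOf_coxeterElement CoxeterMatrix.E₆ invOKE6 hmE6 relsOKE6 levelsE6 chainOKE6
    (by rw [chainProdE6]; exact ub_E6) (by norm_num) (by decide +kernel) [2, 3] primes12
    (by decide +kernel)

set_option maxRecDepth 1000000 in
theorem ord_E7 : orderOf ((List.finRange 7).map CoxeterMatrix.E₇.simple).prod = 18 :=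
  orderOf_coxeterElement CoxeterMatrix.E₇ invOKE7 hmE7 relsOKE7 levelsE7 chainOKE7
    (by rw [chainProdE7]; exact ub_E7) (by norm_num) (by decide +kernel) [2, 3] primes18
    (by decide +kernel)

set_option maxRecDepth 1000000 in
theorem ord_E8 : orderOf ((List.finRange 8).map CoxeterMatrix.E₈.simple).prod = 30 :=
  orderOf_coxeterElement CoxeterMatrix.E₈ invOKE8 hmE8 relsOKE8 levelsE8 chainOKE8
    (by rw [chainProdE8]; exact ub_E8) (by norm_num) (by decide +kernel) [2, 3, 5] primes30
    (by decide +kernel)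

/-- The Coxeter element `s₁ s₂ ⋯ s_l` of the Coxeter group of type B₂, G₂, D₄, F₄, E₆, E₇, E₈ has order `h = 2N/l` = 4, 6, 6, 12, 12, 18, 30. -/
theorem result (p : (Σ n : ℕ, CoxeterMatrix (Fin n)) × ℕ)
    (hp : p ∈ [(⟨2, CoxeterMatrix.B 2⟩, 4), (⟨2, CoxeterMatrix.G₂⟩, 6), (⟨4, Cfsg.Lie.coxeterD4⟩, 6), (⟨4, CoxeterMatrix.F₄⟩, 12),
      (⟨6, CoxeterMatrix.E₆⟩, 12), (⟨7, CoxeterMatrix.E₇⟩, 18), (⟨8, CoxeterMatrix.E₈⟩, 30)]) :
    orderOf ((List.finRange p.1.1).map p.1.2.simple).prod = p.2 := by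

  simp only [List.mem_cons, List.not_mem_nil, or_false] at hp
  rcases hp with rfl | rfl | rfl | rfl | rfl | rfl | rfl
  · exact ord_B2
  · exact ord_G2
  · exact ord_D4
  · exact ord_F4
  · exact ord_E6
  · exact ord_E7
  · exact ord_E8

end Cfsg.Agent.S1094
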