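import Cfsg.Statements.S1098
import Cfsg.Agent.Lib.H29.ChevIsoSB2
import Cfsg.Agent.Lib.H29.ChevIsoSF4

set_option autoImplicit false
open Cfsg

namespace Cfsg.Agent.S1098

/-- Graph automorphisms in characteristic 2 (K perfect): for B₂ (a short, b long) `x_a(t) ↦ x_b(t²)`, `x_b(t) ↦ x_a(t)`, and for F₄ (p₁, p₂ short, p₃, p₄ long) `x_{p₁}(t) ↦ x_{p₄}(t²)`, `x_{p₂}(t) ↦ x_{p₃}(t²)`, `x_{p₃}(t) ↦ x_{p₂}(t)`, `x_{p₄}(t) ↦ x_{p₁}(t)`, likewise on the negatives, extend to an automorphism of the group. -/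
theorem result {K : Type*} [Field K] [CharP K 2] (hperf : ∀ x : K, ∃ y : K, y ^ 2 = x)
    (p : Cfsg.Lie.ChevalleyDatum × List (ℕ × ℕ))
    (hp : p ∈ [(Cfsg.Lie.chevB2, [(1, 2), (0, 1)]), (Cfsg.Lie.chevF4, [(3, 2), (2, 2), (1, 1), (0, 1)])]) :
    ∃ α : ↥(p.1.group K) ≃* ↥(p.1.group K), ∀ (g : ↥(p.1.group K)) (i : ℕ) (t : K), i < p.1.rank →
      (((g : GL p.1.Idx K) : Matrix p.1.Idx p.1.Idx K) = p.1.x K (p.1.simple i) t →
        ((α g : GL p.1.Idx K) : Matrix p.1.Idx p.1.Idx K) = p.1.x K (p.1.simple (p.2.getD i (0, 1)).1) (t ^ (p.2.getD i (0, 1)).2)) ∧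
      (((g : GL p.1.Idx K) : Matrix p.1.Idx p.1.Idx K) = p.1.x K (p.1.neg (p.1.simple i)) t →
        ((α g : GL p.1.Idx K) : Matrix p.1.Idx p.1.Idx K) = p.1.x K (p.1.neg (p.1.simple (p.2.getD i (0, 1)).1)) (t ^ (p.2.getD i (0, 1)).2)) := by
  open Cfsg.Agent.Lib.H29.Chev in
  simp only [List.mem_cons, List.not_mem_nil, or_false] at hp
  rcases hp with rfl | rfl
  · obtain ⟨τ, _, hτ⟩ := exists_isogenyB2 hperf
    have key : ∀ (r : ℕ) (hr : r < fdB2.n) (g : ↥(Cfsg.Lie.chevB2.group K)) (t : K),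
        ((g : GL Cfsg.Lie.chevB2.Idx K) : Matrix _ _ K) = Cfsg.Lie.chevB2.x K r t →
        ((τ g : GL Cfsg.Lie.chevB2.Idx K) : Matrix _ _ K) = Cfsg.Lie.chevB2.x K (rhoB2 r) (t ^ lamB2 r) := by
      intro r hr g t hg
      have e : g = ⟨cert12_B2.c6.c2.xA r t, cert12_B2.c6.c2.xA_mem_group _ _⟩ :=
        Subtype.ext (gl_ext (by rw [hg, cert12_B2.c6.c2.xA_val]))
      rw [e, hτ r hr t, cert12_B2.c6.c2.xA_val]
    refine ⟨τ, fun g i t hi => ?_⟩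
    have hi' : i < 2 := hi
    interval_cases i
    · exact ⟨key 5 (by decide) g t, key 2 (by decide) g t⟩
    · exact ⟨key 4 (by decide) g t, key 3 (by decide) g t⟩
  · obtain ⟨τ, _, hτ⟩ := exists_isogenyF4 hperf
    have key : ∀ (r : ℕ) (hr : r < fdF4.n) (g : ↥(Cfsg.Lie.chevF4.group K)) (t : K),
        ((g : GL Cfsg.Lie.chevF4.Idx K) : Matrix _ _ K) = Cfsg.Lie.chevF4.x K r t →
        ((τ g : GL Cfsg.Lie.chevF4.Idx K) : Matrix _ _ K) = Cfsg.Lie.chevF4.x K (rhoF4 r) (t ^ lamF4 r) := by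
      intro r hr g t hg
      have e : g = ⟨cert12_F4.c6.c2.xA r t, cert12_F4.c6.c2.xA_mem_group _ _⟩ :=
        Subtype.ext (gl_ext (by rw [hg, cert12_F4.c6.c2.xA_val]))
      rw [e, hτ r hr t, cert12_F4.c6.c2.xA_val]
    refine ⟨τ, fun g i t hi => ?_⟩
    have hi' : i < 4 := hi
    interval_cases i
    · exact ⟨key 33 (by decide) g t, key 14 (by decide) g t⟩
    · exact ⟨key 27 (by decide) g t, key 20 (by decide) g t⟩
    · exact ⟨key 25 (by decide) g t, key 22 (by decide) g t⟩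
    · exact ⟨key 24 (by decide) g t, key 23 (by decide) g t⟩

end Cfsg.Agent.S1098
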