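import Cfsg.Statements.S1099
import Cfsg.Agent.Lib.H29.ChevIsoSG2

set_option autoImplicit false
open Cfsg

namespace Cfsg.Agent.S1099

/-- Graph automorphism of G₂ in characteristic 3 (K perfect): `x_a(t) ↦ x_b(t³)`, `x_b(t) ↦ x_a(t)`, `x_{-a}(t) ↦ x_{-b}(t³)`, `x_{-b}(t) ↦ x_{-a}(t)` extend to an automorphism of the group. -/
theorem result {K : Type*} [Field K] [CharP K 3] (hperf : ∀ x : K, ∃ y : K, y ^ 3 = x) :
    ∃ α : ↥(Cfsg.Lie.chevG2.group K) ≃* ↥(Cfsg.Lie.chevG2.group K), ∀ (g : ↥(Cfsg.Lie.chevG2.group K)) (t : K),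
      (((g : GL Cfsg.Lie.chevG2.Idx K) : Matrix _ _ K) = Cfsg.Lie.chevG2.x K Cfsg.Lie.g2a t →
        ((α g : GL Cfsg.Lie.chevG2.Idx K) : Matrix _ _ K) = Cfsg.Lie.chevG2.x K Cfsg.Lie.g2b (t ^ 3)) ∧
      (((g : GL Cfsg.Lie.chevG2.Idx K) : Matrix _ _ K) = Cfsg.Lie.chevG2.x K Cfsg.Lie.g2b t →
        ((α g : GL Cfsg.Lie.chevG2.Idx K) : Matrix _ _ K) = Cfsg.Lie.chevG2.x K Cfsg.Lie.g2a t) ∧
      (((g : GL Cfsg.Lie.chevG2.Idx K) : Matrix _ _ K) = Cfsg.Lie.chevG2.x K Cfsg.Lie.g2ma t →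
        ((α g : GL Cfsg.Lie.chevG2.Idx K) : Matrix _ _ K) = Cfsg.Lie.chevG2.x K Cfsg.Lie.g2mb (t ^ 3)) ∧
      (((g : GL Cfsg.Lie.chevG2.Idx K) : Matrix _ _ K) = Cfsg.Lie.chevG2.x K Cfsg.Lie.g2mb t →
        ((α g : GL Cfsg.Lie.chevG2.Idx K) : Matrix _ _ K) = Cfsg.Lie.chevG2.x K Cfsg.Lie.g2ma t) := by
  open Cfsg.Agent.Lib.H29.Chev in
  obtain ⟨τ, _, hτ⟩ := exists_isogenyG2 hperf
  have key : ∀ (r : ℕ) (hr : r < fdG2.n) (g : ↥(Cfsg.Lie.chevG2.group K)) (t : K),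
      ((g : GL Cfsg.Lie.chevG2.Idx K) : Matrix _ _ K) = Cfsg.Lie.chevG2.x K r t →
      ((τ g : GL Cfsg.Lie.chevG2.Idx K) : Matrix _ _ K) = Cfsg.Lie.chevG2.x K (rhoG2 r) (t ^ lamG2 r) := by
    intro r hr g t hg
    have e : g = ⟨cert12_G2.c6.c2.xA r t, cert12_G2.c6.c2.xA_mem_group _ _⟩ :=
      Subtype.ext (gl_ext (by rw [hg, cert12_G2.c6.c2.xA_val]))
    rw [e, hτ r hr t, cert12_G2.c6.c2.xA_val]
  refine ⟨τ, fun g t => ⟨?_, ?_, ?_, ?_⟩⟩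
  · exact key 7 (by decide) g t
  · intro hg
    have := key 6 (by decide) g t hg
    rw [this]
    show Cfsg.Lie.chevG2.x K 7 (t ^ 1) = Cfsg.Lie.chevG2.x K 7 t
    rw [pow_one]
  · exact key 4 (by decide) g t
  · intro hg
    have := key 5 (by decide) g t hg
    rw [this]
    show Cfsg.Lie.chevG2.x K 4 (t ^ 1) = Cfsg.Lie.chevG2.x K 4 t
    rw [pow_one]

end Cfsg.Agent.S1099
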