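import Cfsg.Statements.S1102
import Cfsg.Agent.Lib.H29.ChevTw29
import Cfsg.Agent.Lib.H29.ChevTwE6e

set_option autoImplicit false
open Cfsg

namespace Cfsg.Agent.S1102

/-- `|H¹| = |G¹ ∩ H|`: `Nat.gcd 3 (q + 1) * |H¹| = (q - 1) ^ 4 * (q + 1) ^ 2` for ²E₆(q). -/
theorem result {K : Type*} [Field K] [Fintype K] {q : ℕ} (hq : IsPrimePow q) (hK : Fintype.card K = q ^ 2) :
    Nat.gcd 3 (q + 1) * Nat.card ↥(Cfsg.Lie.chevE6.diagonalSubgroup K ⊓ Cfsg.Lie.twistedE6 K q) = (q - 1) ^ 4 * (q + 1) ^ 2 := by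
  open Cfsg.Lie Cfsg.Agent.Lib.H29.Chev in
  obtain ⟨φ, hφ, _, hφk⟩ := exists_frob hq hK
  have hq1 : 1 ≤ q := hq.one_lt.le
  have hKc : Nat.card K = q ^ 2 := by rw [Nat.card_eq_fintype_card, hK]
  have e : twistedE6 K q = Subgroup.closure (cert12_E6.twGen gaE6a 2 φ srE6a) := by
    unfold twistedE6 ChevalleyDatum.genSubgroup
    rw [twGen_E6 q φ hφ]
  have hspec := cert12_E6.twGen_spec twE6a_spec twE6a_spec2 φ (Or.inl rfl) hφk twE6a_chain twE6a_O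
  rw [e, cert12_E6.diag_inf_tw twE6a_spec twE6a_spec2 φ 3 (Or.inr ⟨rfl, rfl⟩) _ (cartB_of_chk blE6 3 twE6a_cartB)
    (cert12_E6.sigT_pow twE6a_spec twE6a_spec2 φ (by norm_num) hφk) _ hspec.2.1 hspec.2.2.2.1,
    card_H1_E6 φ q hq1 hKc hφ hφk]
  have h2 : 1 ≤ q ^ 2 := Nat.one_le_pow _ _ hq1
  have : q ^ 2 - 1 = (q - 1) * (q + 1) := by
    zify [hq1, h2]
    ring
  rw [this]
  ring

end Cfsg.Agent.S1102
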