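import Cfsg.Statements.S1105
import Cfsg.Agent.Lib.H29.ChevTwSimA

set_option autoImplicit false
open Cfsg

namespace Cfsg.Agent.S1105

/-- The normal core of `B¹ = G¹ ∩ B` in ²E₆(q) is trivial. -/
theorem result {K : Type*} [Field K] [Fintype K] {q : ℕ} (hq : IsPrimePow q) (hK : Fintype.card K = q ^ 2) :
    ((Cfsg.Lie.chevE6.borelSubgroup K ⊓ Cfsg.Lie.twistedE6 K q).subgroupOf (Cfsg.Lie.twistedE6 K q)).normalCore = ⊥ := by
  open Cfsg.Lie Cfsg.Agent.Lib.H29.Chev in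
  obtain ⟨φ, hφ, _, hφk⟩ := exists_frob hq hK
  have e : twistedE6 K q = Subgroup.closure (cert12_E6.twGen gaE6a 2 φ srE6a) := by
    unfold twistedE6 ChevalleyDatum.genSubgroup
    rw [twGen_E6 q φ hφ]
  rw [e]
  exact cert12_E6.tw_borel_core twE6a_spec twE6a_spec2 φ (Or.inl rfl) hφk twE6a_chain twE6a_ChkQ twE6a_O 1151 twE6a_w0

end Cfsg.Agent.S1105
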