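import Cfsg.Statements.S1106
import Cfsg.Agent.Lib.H29.ChevTw29
import Cfsg.Agent.Lib.H29.ChevTwD4d

set_option autoImplicit false
open Cfsg

namespace Cfsg.Agent.S1106

/-- `|H¹| = |G¹ ∩ H|`: `|H¹| = (q - 1) ^ 2 * (q ^ 2 + q + 1)` for ³D₄(q). -/
theorem result {K : Type*} [Field K] [Fintype K] {q : ℕ} (hq : IsPrimePow q) (hK : Fintype.card K = q ^ 3) :
    Nat.card ↥(Cfsg.Lie.chevD4.diagonalSubgroup K ⊓ Cfsg.Lie.twistedD4 K q) = (q - 1) ^ 2 * (q ^ 2 + q + 1) := by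
  open Cfsg.Lie Cfsg.Agent.Lib.H29.Chev in
  obtain ⟨φ, hφ, _, hφk⟩ := exists_frob hq hK
  have hq1 : 1 ≤ q := hq.one_lt.le
  have hKc : Nat.card K = q ^ 3 := by rw [Nat.card_eq_fintype_card, hK]
  have e : twistedD4 K q = Subgroup.closure (cert12_D4.twGen gaD4a 3 φ srD4a) := by
    unfold twistedD4 ChevalleyDatum.genSubgroup
    rw [twGen_D4 q φ hφ]
  have hspec := cert12_D4.twGen_spec twD4a_spec twD4a_spec2 φ (Or.inr rfl) hφk twD4a_chain twD4a_O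
  rw [e, cert12_D4.diag_inf_tw twD4a_spec twD4a_spec2 φ 2 (Or.inl ⟨rfl, rfl⟩) _ (cartB_of_chk blD4 2 twD4a_cartB)
    (cert12_D4.sigT_pow twD4a_spec twD4a_spec2 φ (by norm_num) hφk) _ hspec.2.1 hspec.2.2.2.1,
    card_H1_D4 φ q hq1 hKc hφ hφk]
  have h3 : 1 ≤ q ^ 3 := Nat.one_le_pow _ _ hq1
  zify [hq1, h3]
  ring

end Cfsg.Agent.S1106
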