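import Cfsg.Statements.S1118
import Cfsg.Agent.Lib.H6.RankOne

set_option autoImplicit false
open Cfsg

namespace Cfsg.Agent.S1118

/-- In the rank-one set-up (`G` finite and doubly transitive on `Ω`, `t` an involution moving `a`, `Q` normal in `G_a` with `G_a = Q D`, `Q ⊓ D = 1` for the two-point stabiliser `D = G_a ⊓ G_{t • a}`, `|Q|` even, `|D|` odd), the normaliser of a subset of `Q` containing a non-identity element lies in `G_a`; consequently `N_G(Q) = N_G(G_a) = G_a`. -/
theorem result {G Ω : Type*} [Group G] [Finite G] [MulAction G Ω] {a : Ω} {t : G} {Q : Subgroup G}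
    (hS : Cfsg.IsRankOneSetup G Ω a t Q) :
    (∀ X : Set G, X ⊆ (Q : Set G) → (∃ x ∈ X, x ≠ 1) → Subgroup.normalizer X ≤ MulAction.stabilizer G a) ∧
      Subgroup.normalizer (Q : Set G) = MulAction.stabilizer G a ∧
      Subgroup.normalizer (MulAction.stabilizer G a : Set G) = MulAction.stabilizer G a := by
  have key : ∀ X : Set G, X ⊆ (Q : Set G) → (∃ x ∈ X, x ≠ 1) →
      Subgroup.normalizer X ≤ MulAction.stabilizer G a := by
    intro X hXQ ⟨x, hxX, hx1⟩ n hn
    rw [MulAction.mem_stabilizer_iff]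
    by_contra hna
    have h1 : n * x * n⁻¹ ∈ X := (Subgroup.mem_set_normalizer_iff.mp hn x).mp hxX
    have h2 : n * x * n⁻¹ = 1 := by
      apply Cfsg.Agent.Lib.H6.RankOne.Q_fix_eq_one hS (hXQ h1) hna
      rw [mul_smul, mul_smul, inv_smul_smul, Cfsg.Agent.Lib.H6.RankOne.Q_smul_a hS (hXQ hxX)]
    apply hx1
    calc x = n⁻¹ * (n * x * n⁻¹) * n := by group
      _ = 1 := by rw [h2]; group
  refine ⟨key, ?_, ?_⟩
  · apply le_antisymm
    · exact key _ (le_refl _) (Cfsg.Agent.Lib.H6.RankOne.exists_Q_ne_one hS)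
    · exact Cfsg.Agent.Lib.H6.RankOne.D_le_normalizer_Q hS
  · apply le_antisymm
    · intro n hn
      rw [MulAction.mem_stabilizer_iff]
      by_contra hna
      obtain ⟨q, hq, hq1⟩ := Cfsg.Agent.Lib.H6.RankOne.exists_Q_ne_one hS
      apply hq1
      apply Cfsg.Agent.Lib.H6.RankOne.Q_fix_eq_one hS hq hna
      have h1 : n⁻¹ * q * n ∈ MulAction.stabilizer G a :=
        (Subgroup.mem_normalizer_iff''.mp hn q).mp (hS.le hq)
      rw [MulAction.mem_stabilizer_iff, mul_smul, mul_smul] at h1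
      have : n • (n⁻¹ • q • n • a) = n • a := by rw [h1]
      rwa [smul_inv_smul] at this
    · exact Subgroup.le_normalizer

end Cfsg.Agent.S1118
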