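import Cfsg.Statements.S1120
import Cfsg.Agent.Lib.H6.RankOne4

set_option autoImplicit false
open Cfsg

namespace Cfsg.Agent.S1120

open Cfsg.Agent.Lib.H6.RankOne

/-- In the rank-one set-up (`G` finite and doubly transitive on `Ω`, `t` an involution moving `a`, `Q` normal in `G_a` with `G_a = Q D`, `Q ⊓ D = 1` for the two-point stabiliser `D = G_a ⊓ G_{t • a}`, `|Q|` even, `|D|` odd), if `G` has 2-rank at least 2 then `O_{2'}(G)` equals the normal core of `G_a`. -/
theorem result {G Ω : Type*} [Group G] [Finite G] [MulAction G Ω] {a : Ω} {t : G} {Q : Subgroup G}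
    (hS : Cfsg.IsRankOneSetup G Ω a t Q)
    (h2 : ∃ x y : G, x ≠ 1 ∧ y ≠ 1 ∧ x ≠ y ∧ x * x = 1 ∧ y * y = 1 ∧ x * y = y * x) :
    Cfsg.pPrimeCore 2 G = (MulAction.stabilizer G a).normalCore := by

  unfold Cfsg.pPrimeCore
  apply le_antisymm
  · apply sSup_le
    rintro N ⟨hNn, hN⟩
    rw [Subgroup.normal_le_normalCore]
    exact odd_normal_le_stabilizer hS h2 N hN
  · apply le_sSup
    refine ⟨Subgroup.normalCore_normal _, ?_⟩
    rw [Nat.coprime_two_right]
    have hle : (MulAction.stabilizer G a).normalCore ≤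
        MulAction.stabilizer G a ⊓ MulAction.stabilizer G (t • a) := by
      intro n hn
      rw [Subgroup.mem_inf]
      refine ⟨Subgroup.normalCore_le _ hn, ?_⟩
      have h1 : t⁻¹ * n * t ∈ (MulAction.stabilizer G a).normalCore := by
        have := (Subgroup.normalCore_normal (MulAction.stabilizer G a)).conj_mem n hn t⁻¹
        rwa [inv_inv] at this
      have h2 := Subgroup.normalCore_le _ h1
      rw [MulAction.mem_stabilizer_iff] at h2 ⊢
      calc n • t • a = t • (t⁻¹ * n * t) • a := by
            rw [← mul_smul, ← mul_smul]; congr 1; group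
        _ = t • a := by rw [h2]
    exact Odd.of_dvd_nat hS.odd_card (Subgroup.card_dvd_of_le hle)

end Cfsg.Agent.S1120
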