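import Cfsg.Statements.S1123
import Cfsg.Agent.Lib.H6.RankOne2

set_option autoImplicit false
open Cfsg

namespace Cfsg.Agent.S1123

open Cfsg.Agent.Lib.H6.RankOne

/-- In the rank-one set-up (`G` finite and doubly transitive on `Ω`, `t` an involution moving `a`, `Q` normal in `G_a` with `G_a = Q D`, `Q ⊓ D = 1` for the two-point stabiliser `D = G_a ⊓ G_{t • a}`, `|Q|` even, `|D|` odd), there is a unique pair `(s, r)` with `s` an involution of `G_a`, `r ∈ Q` and `t s t = r⁻¹ t r`. -/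
theorem result {G Ω : Type*} [Group G] [Finite G] [MulAction G Ω] {a : Ω} {t : G} {Q : Subgroup G}
    (hS : Cfsg.IsRankOneSetup G Ω a t Q) :
    ∃! p : G × G, p.1 ∈ Cfsg.involutionsIn (MulAction.stabilizer G a : Set G) ∧ p.2 ∈ Q ∧
      t * p.1 * t = p.2⁻¹ * t * p.2 := by

  classical
  obtain ⟨p₀, hp₀, hp₀a, hp₀b⟩ := exists_t_fix hS
  obtain ⟨r, hr, hrp⟩ := exists_Q_smul_ta hS hp₀a
  have htinv := t_inv hS
  have htt := hS.mul_self
  have hconj : ∀ g : G, g * t * g⁻¹ ≠ 1 ∧ (g * t * g⁻¹) * (g * t * g⁻¹) = 1 := by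
    intro g
    refine ⟨?_, Cfsg.Agent.Lib.H6.conj_mul_self htt g⟩
    intro h
    apply hS.ne_one
    have e : t = g⁻¹ * (g * t * g⁻¹) * g := by group
    rw [e, h]; group
  have hs_eq : t * r⁻¹ * t * r * t = (t * r⁻¹) * t * (t * r⁻¹)⁻¹ := by
    have : (t * r⁻¹) * t * (t * r⁻¹)⁻¹ = t * r⁻¹ * t * r * t⁻¹ := by group
    rw [this, htinv]
  refine ⟨(t * r⁻¹ * t * r * t, r), ⟨⟨?_, ?_, ?_⟩, hr, ?_⟩, ?_⟩
  · show t * r⁻¹ * t * r * t ∈ (MulAction.stabilizer G a : Set G)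
    rw [SetLike.mem_coe, MulAction.mem_stabilizer_iff]
    rw [mul_smul, mul_smul, mul_smul, mul_smul, hrp, hp₀, ← hrp, inv_smul_smul, tt_smul hS]
  · show t * r⁻¹ * t * r * t ≠ 1
    rw [hs_eq]; exact (hconj _).1
  · show t * r⁻¹ * t * r * t * (t * r⁻¹ * t * r * t) = 1
    rw [hs_eq]; exact (hconj _).2
  · show t * (t * r⁻¹ * t * r * t) * t = r⁻¹ * t * r
    have : t * (t * r⁻¹ * t * r * t) * t = (t * t) * r⁻¹ * t * r * (t * t) := by group
    rw [this, htt, one_mul, mul_one]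
  · rintro ⟨s, r'⟩ ⟨⟨hs, hs1, hss⟩, hr', heq⟩
    simp only at hs hs1 hss hr' heq
    rw [SetLike.mem_coe, MulAction.mem_stabilizer_iff] at hs
    -- the involution r'⁻¹ t r' fixes both r'⁻¹ • p₀ and t • a
    have hu := hconj r'⁻¹
    rw [inv_inv] at hu
    have hfix1 : (r'⁻¹ * t * r') • (r'⁻¹ • p₀) = r'⁻¹ • p₀ := by
      rw [mul_smul, mul_smul, smul_inv_smul, hp₀]
    have hfix2 : (r'⁻¹ * t * r') • (t • a) = t • a := by
      rw [← heq, mul_smul, mul_smul, tt_smul hS, hs]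
    have h1 := fixed_point_unique hS hu.1 hu.2 hfix1 hfix2
    have h2 : r' • (t • a) = p₀ := by rw [← h1, smul_inv_smul]
    obtain ⟨x, -, hx⟩ := Q_regular hS (ta_ne hS) hp₀a
    have e1 := hx ⟨r', hr'⟩ h2
    have e2 := hx ⟨r, hr⟩ hrp
    have e3 : r' = r := by
      have := e1.trans e2.symm
      exact congrArg Subtype.val this
    subst e3
    have e4 : s = t * r'⁻¹ * t * r' * t := by
      have e5 : s = (t * t) * s * (t * t) := by rw [htt, one_mul, mul_one]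
      have e6 : (t * t) * s * (t * t) = t * (t * s * t) * t := by group
      rw [e5, e6, heq]; group
    rw [e4]

end Cfsg.Agent.S1123
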