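import Cfsg.Statements.S1126
import Cfsg.Agent.Lib.H6.RankOne6

set_option autoImplicit false
open Cfsg

namespace Cfsg.Agent.S1126

open Cfsg.Agent.Lib.H6.RankOne

/-- In the rank-one set-up (`G` finite and doubly transitive on `Ω`, `t` an involution moving `a`, `Q` normal in `G_a` with `G_a = Q D`, `Q ⊓ D = 1` for the two-point stabiliser `D = G_a ⊓ G_{t • a}`, `|Q|` even, `|D|` odd), a subset `X ⊆ D` fixing at least three points of `Ω` is conjugate by an element of `D` into `V = C_D(t)`. -/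
theorem result {G Ω : Type*} [Group G] [Finite G] [MulAction G Ω] {a : Ω} {t : G} {Q : Subgroup G}
    (hS : Cfsg.IsRankOneSetup G Ω a t Q)
    (X : Set G) (hX : X ⊆ ((MulAction.stabilizer G a ⊓ MulAction.stabilizer G (t • a)) : Set G))
    (h3 : ∃ b c d : Ω, b ≠ c ∧ b ≠ d ∧ c ≠ d ∧ ∀ x ∈ X, x • b = b ∧ x • c = c ∧ x • d = d) :
    ∃ k ∈ (MulAction.stabilizer G a ⊓ MulAction.stabilizer G (t • a)), ∀ x ∈ X, (k * x * k⁻¹) * t = t * (k * x * k⁻¹) := by

  obtain ⟨g, hgC, hgg, hga⟩ := exists_centralizer_swap hS hX h3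
  obtain ⟨j, hj, hgj⟩ := exists_D_conj_of_swap hS hgg hga
  refine ⟨j, hj, ?_⟩
  intro x hx
  rw [Subgroup.mem_centralizer_iff] at hgC
  have h1 := hgC x hx
  rw [hgj] at h1
  -- h1 : x * (j⁻¹ * t * j) = j⁻¹ * t * j * x
  calc j * x * j⁻¹ * t = j * (x * (j⁻¹ * t * j)) * j⁻¹ := by group
    _ = j * (j⁻¹ * t * j * x) * j⁻¹ := by rw [h1]
    _ = t * (j * x * j⁻¹) := by group

end Cfsg.Agent.S1126
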