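import Cfsg.Statements.S1127
import Cfsg.Agent.Lib.H6.RankOne3
import Cfsg.Agent.S1123

set_option autoImplicit false
open Cfsg

namespace Cfsg.Agent.S1127

open Cfsg.Agent.Lib.H6.RankOne MulAction

/-- For the pair `(s, r)` of the structure equation, an element of `D` commutes with `t` iff it commutes
with `s`. -/
theorem commute_t_iff_commute_s {G Ω : Type*} [Group G] [Finite G] [MulAction G Ω] {a : Ω} {t : G}
    {Q : Subgroup G} (hS : Cfsg.IsRankOneSetup G Ω a t Q) {s r : G}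
    (hs : s ∈ Cfsg.involutionsIn (stabilizer G a : Set G)) (hr : r ∈ Q)
    (heq : t * s * t = r⁻¹ * t * r) {d : G} (hd : d ∈ stabilizer G a ⊓ stabilizer G (t • a)) :
    t * d = d * t ↔ s * d = d * s := by
  have htinv := t_inv hS
  have htt := hS.mul_self
  have hdGa : d ∈ stabilizer G a := D_le_Ga hd
  constructor
  · intro hc
    -- conjugate the equation by d and use uniqueness
    have hs' : d * s * d⁻¹ ∈ Cfsg.involutionsIn (stabilizer G a : Set G) := by
      obtain ⟨h1, h2, h3⟩ := hs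
      refine ⟨?_, ?_, Cfsg.Agent.Lib.H6.conj_mul_self h3 d⟩
      · rw [SetLike.mem_coe] at h1 ⊢
        exact Subgroup.mul_mem _ (Subgroup.mul_mem _ hdGa h1) (Subgroup.inv_mem _ hdGa)
      · intro h
        apply h2
        have e : s = d⁻¹ * (d * s * d⁻¹) * d := by group
        rw [e, h]; group
    have hr' : d * r * d⁻¹ ∈ Q := hS.conj_mem d hdGa r hr
    have hc' : t * d⁻¹ = d⁻¹ * t := by
      have e : t * d⁻¹ = d⁻¹ * (d * t) * d⁻¹ := by group
      rw [e, ← hc]; group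
    have heq' : t * (d * s * d⁻¹) * t = (d * r * d⁻¹)⁻¹ * t * (d * r * d⁻¹) := by
      have e1 : t * (d * s * d⁻¹) * t = (t * d) * s * (d⁻¹ * t) := by group
      have e2 : (d * r * d⁻¹)⁻¹ * t * (d * r * d⁻¹) = d * r⁻¹ * (d⁻¹ * t) * d * r * d⁻¹ := by group
      rw [e1, e2, hc, ← hc']
      have e3 : d * t * s * (t * d⁻¹) = d * (t * s * t) * d⁻¹ := by group
      rw [e3, heq]; group
    have huniq := (Cfsg.Agent.S1123.result hS).unique
      (y₁ := (d * s * d⁻¹, d * r * d⁻¹)) (y₂ := (s, r)) ⟨hs', hr', heq'⟩ ⟨hs, hr, heq⟩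
    have h1 : d * s * d⁻¹ = s := congrArg Prod.fst huniq
    have e : d * s = (d * s * d⁻¹) * d := by group
    rw [e, h1]
  · intro hc
    have hd' := t_conj_mem_D hS hd
    -- k := t d t d⁻¹
    have hkD : t * d * t * d⁻¹ ∈ stabilizer G a ⊓ stabilizer G (t • a) :=
      Subgroup.mul_mem _ hd' (Subgroup.inv_mem _ hd)
    have hkinv : t * (t * d * t * d⁻¹) * t⁻¹ = (t * d * t * d⁻¹)⁻¹ := by
      have e1 : t * (t * d * t * d⁻¹) * t⁻¹ = (t * t) * d * t * d⁻¹ * t⁻¹ := by group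
      have e2 : (t * d * t * d⁻¹)⁻¹ = d * t⁻¹ * d⁻¹ * t⁻¹ := by group
      rw [e1, e2, htt, htinv, one_mul]
    obtain ⟨k, hk⟩ : ∃ k, k = t * d * t * d⁻¹ := ⟨_, rfl⟩
    rw [← hk] at hkD hkinv
    have hdt : d * t * d⁻¹ = t * k := by
      rw [hk]
      have e : t * (t * d * t * d⁻¹) = (t * t) * d * t * d⁻¹ := by group
      rw [e, htt, one_mul]
    have htk : t * k = k⁻¹ * t := by
      have e : t * k = (t * k * t⁻¹) * t := by group
      rw [e, hkinv]
    have hr' : d * r * d⁻¹ ∈ Q := hS.conj_mem d hdGa r hr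
    have hds : d * s * d⁻¹ = s := by
      have e : d * s * d⁻¹ = (d * s) * d⁻¹ := by group
      rw [e, ← hc]; group
    -- conjugating the equation by d
    have heq' : (t * k) * s * (t * k) = (d * r * d⁻¹)⁻¹ * (t * k) * (d * r * d⁻¹) := by
      rw [← hdt]
      have e1 : d * t * d⁻¹ * s * (d * t * d⁻¹) = d * t * (d⁻¹ * s * d) * t * d⁻¹ := by group
      have hds' : d⁻¹ * s * d = s := by
        have e : d⁻¹ * s * d = d⁻¹ * (s * d) := by group
        rw [e, hc]; group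
      have e2 : d * t * s * t * d⁻¹ = d * (t * s * t) * d⁻¹ := by group
      rw [e1, hds', e2, heq]; group
    have hkQ1 : k⁻¹ * r⁻¹ * k ∈ Q := by
      have := D_conj_mem_Q' hS hkD (Q.inv_mem hr)
      exact this
    have hkQ2 : k⁻¹ * r * k ∈ Q := D_conj_mem_Q' hS hkD hr
    have hcanon : (k⁻¹ * r⁻¹ * k) * (k⁻¹ * k⁻¹) * t * (k⁻¹ * r * k)
        = (d * r * d⁻¹)⁻¹ * k⁻¹ * t * (d * r * d⁻¹) := by
      have e1 : (k⁻¹ * r⁻¹ * k) * (k⁻¹ * k⁻¹) * t * (k⁻¹ * r * k)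
          = k⁻¹ * r⁻¹ * (k⁻¹ * t) * k⁻¹ * r * k := by group
      have e2 : (d * r * d⁻¹)⁻¹ * k⁻¹ * t * (d * r * d⁻¹) = (d * r * d⁻¹)⁻¹ * (k⁻¹ * t) * (d * r * d⁻¹) := by
        group
      rw [e1, e2, ← htk, ← heq']
      have e3 : k⁻¹ * r⁻¹ * (t * k) * k⁻¹ * r * k = k⁻¹ * (r⁻¹ * t * r) * k := by group
      have e4 : (t * k) * s * (t * k) = (k⁻¹ * t) * s * (t * k) := by rw [← htk]
      have e5 : (k⁻¹ * t) * s * (t * k) = k⁻¹ * (t * s * t) * k := by group
      rw [e3, ← heq, e4, e5]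
    have h3 := canon3_unique hS hkQ1
      (Subgroup.mul_mem _ (Subgroup.inv_mem _ hkD) (Subgroup.inv_mem _ hkD)) hkQ2
      (Q.inv_mem hr') (Subgroup.inv_mem _ hkD) hr' hcanon
    have hk1 : k = 1 := by
      have := h3.2.1
      have e : k⁻¹ = 1 := by
        calc k⁻¹ = k * (k⁻¹ * k⁻¹) := by group
          _ = k * k⁻¹ := by rw [this]
          _ = 1 := by group
      exact inv_eq_one.mp e
    rw [hk1, mul_one] at hdt
    have e : d * t = (d * t * d⁻¹) * d := by group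
    rw [e, hdt]

/-- In the rank-one set-up (`G` finite and doubly transitive on `Ω`, `t` an involution moving `a`, `Q` normal in `G_a` with `G_a = Q D`, `Q ⊓ D = 1` for the two-point stabiliser `D = G_a ⊓ G_{t • a}`, `|Q|` even, `|D|` odd): if `s` is an involution of `G_a` and `r ∈ Q` satisfy `t s t = r⁻¹ t r`, then `C_D(t) = C_D(s)`; moreover `C_D(t) ⊓ C_D(K) = C_D(I ∩ G_a)`, where `K` is the set of elements of `D` inverted by `t` and `I ∩ G_a` the set of involutions of `G_a`. -/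
theorem result {G Ω : Type*} [Group G] [Finite G] [MulAction G Ω] {a : Ω} {t : G} {Q : Subgroup G}
    (hS : Cfsg.IsRankOneSetup G Ω a t Q) :
    (∀ s r : G, s ∈ Cfsg.involutionsIn (MulAction.stabilizer G a : Set G) → r ∈ Q → t * s * t = r⁻¹ * t * r →
        (MulAction.stabilizer G a ⊓ MulAction.stabilizer G (t • a)) ⊓ Subgroup.centralizer {t} = (MulAction.stabilizer G a ⊓ MulAction.stabilizer G (t • a)) ⊓ Subgroup.centralizer {s}) ∧
      (MulAction.stabilizer G a ⊓ MulAction.stabilizer G (t • a)) ⊓ Subgroup.centralizer {t} ⊓ Subgroup.centralizer (Cfsg.invertedBy (MulAction.stabilizer G a ⊓ MulAction.stabilizer G (t • a)) t) =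
        (MulAction.stabilizer G a ⊓ MulAction.stabilizer G (t • a)) ⊓ Subgroup.centralizer (Cfsg.involutionsIn (MulAction.stabilizer G a : Set G)) := by

  constructor
  · intro s r hs hr heq
    ext d
    simp only [Subgroup.mem_inf, Subgroup.mem_centralizer_iff, Set.mem_singleton_iff, forall_eq]
    constructor
    · rintro ⟨⟨h1, h2⟩, h3⟩
      exact ⟨⟨h1, h2⟩, (commute_t_iff_commute_s hS hs hr heq (Subgroup.mem_inf.mpr ⟨h1, h2⟩)).mp h3⟩
    · rintro ⟨⟨h1, h2⟩, h3⟩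
      exact ⟨⟨h1, h2⟩, (commute_t_iff_commute_s hS hs hr heq (Subgroup.mem_inf.mpr ⟨h1, h2⟩)).mpr h3⟩
  · obtain ⟨⟨s₀, r₀⟩, ⟨hs₀, hr₀, heq₀⟩, -⟩ := Cfsg.Agent.S1123.result hS
    simp only at hs₀ hr₀ heq₀
    ext d
    simp only [Subgroup.mem_inf, Subgroup.mem_centralizer_iff, Set.mem_singleton_iff, forall_eq]
    constructor
    · rintro ⟨⟨⟨h1, h2⟩, h3⟩, h4⟩
      refine ⟨⟨h1, h2⟩, ?_⟩
      intro s hs
      have hd : d ∈ stabilizer G a ⊓ stabilizer G (t • a) := Subgroup.mem_inf.mpr ⟨h1, h2⟩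
      have h5 := (commute_t_iff_commute_s hS hs₀ hr₀ heq₀ hd).mp h3
      obtain ⟨k, hk, hks⟩ := exists_K_conj hS hs₀ hs
      have h6 := h4 k hk
      have h6' : k⁻¹ * d = d * k⁻¹ := by
        have e : k⁻¹ * d = k⁻¹ * (d * k) * k⁻¹ := by group
        rw [e, ← h6]; group
      rw [← hks]
      calc k⁻¹ * s₀ * k * d = k⁻¹ * s₀ * (k * d) := by group
        _ = k⁻¹ * (s₀ * d) * k := by rw [h6]; group
        _ = (k⁻¹ * d) * s₀ * k := by rw [h5]; group
        _ = d * (k⁻¹ * s₀ * k) := by rw [h6']; group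
    · rintro ⟨⟨h1, h2⟩, h3⟩
      have hd : d ∈ stabilizer G a ⊓ stabilizer G (t • a) := Subgroup.mem_inf.mpr ⟨h1, h2⟩
      have h4 := (commute_t_iff_commute_s hS hs₀ hr₀ heq₀ hd).mpr (h3 s₀ hs₀)
      refine ⟨⟨⟨h1, h2⟩, h4⟩, ?_⟩
      intro k hk
      have hS' := setup_of_K hS hk
      obtain ⟨-, hk2, -⟩ := K_props hS hk
      obtain ⟨⟨s₁, r₁⟩, ⟨hs₁, hr₁, heq₁⟩, -⟩ := Cfsg.Agent.S1123.result hS'
      simp only at hs₁ hr₁ heq₁
      have hd' : d ∈ stabilizer G a ⊓ stabilizer G ((t * k) • a) := by rw [hk2]; exact hd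
      have h5 := (commute_t_iff_commute_s hS' hs₁ hr₁ heq₁ hd').mpr (h3 s₁ hs₁)
      -- t k d = d t k and t d = d t
      have e : k * d = t⁻¹ * (t * k * d) := by group
      rw [e, h5]
      have e2 : t⁻¹ * (d * (t * k)) = t⁻¹ * (d * t) * k := by group
      rw [e2, ← h4]; group

end Cfsg.Agent.S1127
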