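import Cfsg.Statements.S1139
import Cfsg.Agent.Lib.H26.SzAQuad
import Cfsg.Agent.Lib.H26.SzAOdd
import Cfsg.Agent.Lib.H26.SzAMat

set_option autoImplicit false
open Cfsg

namespace Cfsg.Agent.S1139

/-- A Suzuki 2-group `P` with `|P| = |Z(P)|²` is of type A: for some finite field `F` with `|F| = |Z(P)|` and some field automorphism `φ ≠ 1` of odd order, `P` is isomorphic to the group of lower unitriangular matrices with rows `(1,0,0)`, `(x,1,0)`, `(y, φ x, 1)`. -/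
theorem result {P : Type*} [Group P] (hP : Cfsg.IsSuzukiTwoGroup P)
    (hcard : Nat.card P = Nat.card (Subgroup.center P) ^ 2) :
    ∃ (F : Type) (_ : Field F) (_ : Fintype F) (φ : F ≃+* F), Fintype.card F = Nat.card (Subgroup.center P) ∧
      φ ≠ RingEquiv.refl F ∧ Odd (orderOf φ) ∧ Nonempty (P ≃* Cfsg.suzukiTypeA F (φ : F →+* F)) := by
  obtain ⟨K, h⟩ := Cfsg.Agent.Lib.H26.Sz.hyp_of_suzuki hP
  obtain ⟨F, i1, i2, i3, hcF, ⟨ad⟩⟩ := h.exists_AD hcard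
  obtain ⟨θ, α', zv', hθ, hα_mul, hα_ker, hα_surj, hzv_mul, hzv_inj, hsq, hinj⟩ := ad.exists_norm h
  refine ⟨F, i1, i2, θ, hcF, hθ, Cfsg.Agent.Lib.H26.Sz.odd_orderOf_of_norm_injective θ hinj, ?_⟩
  have d : Cfsg.Agent.Lib.H26.Sz.BD (θ : F →+* F) α' zv' :=
    ⟨h.toCT, hα_mul, hα_ker, hα_surj, hzv_mul, hsq⟩
  exact d.exists_iso hzv_inj (by rw [hcard, hcF])

end Cfsg.Agent.S1139
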