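import Mathlib
import Cfsg.Statements.S1142
import Cfsg.Agent.Lib.H2.FH6f
import Cfsg.Agent.Lib.H2.FH7c
-- import your own Cfsg.Agent.* helpers here

set_option autoImplicit false
open Cfsg

namespace Cfsg.Agent.S1142

/-- Feit–Higman: if a finite group has a (B,N)-pair of rank 2, its Weyl group `N/(B ⊓ N)` has order 4, 6, 8, 12 or 16. -/
theorem result {G : Type*} [Group G] [Finite G] (P : Cfsg.BNPair G)
    (h2 : P.rank = 2) :
    ((P.B ⊓ P.N).subgroupOf P.N).index ∈ ({4, 6, 8, 12, 16} : Set ℕ) := by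
  classical
  have := Fintype.ofFinite G
  obtain ⟨a, b, R⟩ := Cfsg.Agent.Lib.H2.FH.exists_rk2 h2
  rw [R.index_eq]
  have hL := R.two_le_L
  have hs := Cfsg.Agent.Lib.H2.FH.two_le_qpar R.hb
  have ht := Cfsg.Agent.Lib.H2.FH.two_le_qpar R.ha
  have harith := Cfsg.Agent.Lib.H2.FH.fh_arith hs ht hL
    (fun h => (R.qpar_eq_of_odd h).symm) (fun j hj hjL => R.rationality hj hjL)
  rcases harith with h | h | h | h | h <;> rw [h] <;> simp

end Cfsg.Agent.S1142
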