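import Cfsg.Statements.S1152
import Cfsg.Agent.Lib.H12.ReeC4
import Cfsg.Agent.Lib.H12.ReeC5

set_option autoImplicit false
open Cfsg

namespace Cfsg.Agent.S1152

/-- In the small Ree group ²G₂(q), q = 3^(2m+1), realised as G¹ inside the Chevalley group G₂ over the field with q elements (θ the 3^m-th power map), with H¹ = G¹ ∩ H and U¹ = G¹ ∩ U the intersections with the ambient diagonal and positive unipotent subgroups: for an involution `a ∈ H¹`, the centraliser of `a` in `G¹` is isomorphic to `Z₂ × PSL₂(q)`; and the Sylow 2-subgroups of `G¹` are elementary abelian of order 8. -/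
theorem result {K : Type*} [Field K] [Fintype K] {m : ℕ} (hK : Fintype.card K = 3 ^ (2 * m + 1))
    (a : ↥(Cfsg.Lie.twistedG2 K (3 ^ m))) (haH : (a : GL Cfsg.Lie.chevG2.Idx K) ∈ Cfsg.Lie.chevG2.diagonalSubgroup K) (ha1 : a ≠ 1) (ha2 : a * a = 1) :
    Nonempty (↥(Subgroup.centralizer {a}) ≃* Multiplicative (ZMod 2) × Matrix.ProjectiveSpecialLinearGroup (Fin 2) K) ∧
      ∀ S : Sylow 2 ↥(Cfsg.Lie.twistedG2 K (3 ^ m)), Nat.card S = 8 ∧ ∀ x ∈ S, x * x = 1 := by
  open Cfsg.Agent.Lib.H29.Chev Cfsg.Agent.Lib.H12.ReeC in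
  have : CharP K 3 := charP_of_card_pow 3 (2 * m + 1) (by norm_num) hK
  open Cfsg.Agent.Lib.H29.Chev Cfsg.Agent.Lib.H12.ReeC in
  have hfin : Finite ↥(Cfsg.Lie.twistedG2 K (3 ^ m)) := inferInstance
  open Cfsg.Agent.Lib.H29.Chev Cfsg.Agent.Lib.H12.ReeC in
  have ha : a = (reeRSys m hK).a := by
    obtain ⟨z, hz⟩ := (mem_diag_inf_tw m hK _).mp ⟨haH, a.2⟩
    have h1 : hR K m (z * z) = hR K m 1 := by
      rw [map_mul, ← hz, map_one]
      have := congrArg Subtype.val ha2
      rw [Subgroup.coe_mul, Subgroup.coe_one] at this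
      exact this
    have h2 := hR_injective m h1
    apply Subtype.ext
    rw [reeRSys_a, hz]
    rcases RSys.unit_sq_eq_one z h2 with h | h
    · exfalso
      apply ha1
      apply Subtype.ext
      rw [hz, h, map_one]
      rfl
    · rw [h]
  open Cfsg.Agent.Lib.H29.Chev Cfsg.Agent.Lib.H12.ReeC in
  refine ⟨?_, ?_⟩
  · rw [ha]
    exact ⟨(reeRSys m hK).centIso⟩
  · intro S
    obtain ⟨k, hk1, hk2⟩ := ree_order_two_part (3 ^ (2 * m + 1)) (three_pow_mod_eight m)
    have hq : Fintype.card K % 8 = 3 := by rw [hK]; exact three_pow_mod_eight m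
    have hN : Nat.card ↥(Cfsg.Lie.twistedG2 K (3 ^ m)) = 8 * k := by
      rw [card_twistedG2 m hK, ← hk1]
    exact (reeRSys m hK).sylow_two hq k hN hk2 S

end Cfsg.Agent.S1152
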