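import Cfsg.Statements.S1157
import Cfsg.Agent.Lib.H12.ReeC4
import Cfsg.Agent.Lib.H12.ReeN4
import Cfsg.Agent.S0215

set_option autoImplicit false
open Cfsg

namespace Cfsg.Agent.S1157

/-- In the small Ree group ²G₂(q), q = 3^(2m+1) with m ≥ 1, realised as G¹ inside the Chevalley group G₂ over the field with q elements (θ the 3^m-th power map): a Sylow 2-subgroup `S` of `G¹` satisfies `C(S) = S` and `|N(S)| = 168`. -/
theorem result {K : Type*} [Field K] [Fintype K] {m : ℕ} (hm : 1 ≤ m) (hK : Fintype.card K = 3 ^ (2 * m + 1))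
    (S : Sylow 2 ↥(Cfsg.Lie.twistedG2 K (3 ^ m))) :
    Subgroup.centralizer ((S : Subgroup ↥(Cfsg.Lie.twistedG2 K (3 ^ m))) : Set ↥(Cfsg.Lie.twistedG2 K (3 ^ m))) = S ∧
      Nat.card (Subgroup.normalizer ((S : Subgroup ↥(Cfsg.Lie.twistedG2 K (3 ^ m))) : Set ↥(Cfsg.Lie.twistedG2 K (3 ^ m)))) = 168 := by
  open Cfsg.Agent.Lib.H29.Chev Cfsg.Agent.Lib.H12.ReeC in
  have : CharP K 3 := charP_of_card_pow 3 (2 * m + 1) (by norm_num) hK
  open Cfsg.Agent.Lib.H29.Chev Cfsg.Agent.Lib.H12.ReeC in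
  have hfin : Finite ↥(Cfsg.Lie.twistedG2 K (3 ^ m)) := inferInstance
  open Cfsg.Agent.Lib.H29.Chev Cfsg.Agent.Lib.H12.ReeC in
  obtain ⟨k, hk1, hk2⟩ := ree_order_two_part (3 ^ (2 * m + 1)) (three_pow_mod_eight m)
  open Cfsg.Agent.Lib.H29.Chev Cfsg.Agent.Lib.H12.ReeC in
  have hq : Fintype.card K % 8 = 3 := by rw [hK]; exact three_pow_mod_eight m
  open Cfsg.Agent.Lib.H29.Chev Cfsg.Agent.Lib.H12.ReeC in
  have hN : Nat.card ↥(Cfsg.Lie.twistedG2 K (3 ^ m)) = 8 * k := by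
    rw [card_twistedG2 m hK, ← hk1]
  open Cfsg.Agent.Lib.H29.Chev Cfsg.Agent.Lib.H12.ReeC in
  refine (reeRSys m hK).sylow_two_normalizer hq k hN hk2 ?_ S
  open Cfsg.Agent.Lib.H29.Chev Cfsg.Agent.Lib.H12.ReeC in
  by_contra hcon
  open Cfsg.Agent.Lib.H29.Chev Cfsg.Agent.Lib.H12.ReeC in
  have hiso0 : ∀ g : ↥(Cfsg.Lie.twistedG2 K (3 ^ m)), g * (reeRSys m hK).a * g⁻¹ ∈ (reeRSys m hK).T0 →
      g * (reeRSys m hK).a * g⁻¹ = (reeRSys m hK).a := by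
    intro g hg
    by_contra hne
    exact hcon ⟨g, hg, hne⟩
  open Cfsg.Agent.Lib.H29.Chev Cfsg.Agent.Lib.H12.ReeC in
  obtain ⟨P, hP⟩ := (reeRSys m hK).exists_sylow_eq_T0 hq k hN hk2
  open Cfsg.Agent.Lib.H29.Chev Cfsg.Agent.Lib.H12.ReeC in
  have hord : orderOf (reeRSys m hK).a = 2 := by
    apply orderOf_eq_prime
    · rw [pow_two]; exact (reeRSys m hK).a_sq
    · exact (reeRSys m hK).a_ne_one
  open Cfsg.Agent.Lib.H29.Chev Cfsg.Agent.Lib.H12.ReeC in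
  have haP : (reeRSys m hK).a ∈ P := by
    show (reeRSys m hK).a ∈ (P : Subgroup _)
    rw [hP]; exact (reeRSys m hK).a_mem_T0
  open Cfsg.Agent.Lib.H29.Chev Cfsg.Agent.Lib.H12.ReeC in
  have hiso : ∀ g : ↥(Cfsg.Lie.twistedG2 K (3 ^ m)), g * (reeRSys m hK).a * g⁻¹ ∈ P →
      g * (reeRSys m hK).a * g⁻¹ = (reeRSys m hK).a := by
    intro g hg
    apply hiso0 g
    rw [← hP]; exact hg
  open Cfsg.Agent.Lib.H29.Chev Cfsg.Agent.Lib.H12.ReeC in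
  obtain ⟨Nn, hNn, hodd, hcomm⟩ := Cfsg.Agent.S0215.result P (reeRSys m hK).a hord haP hiso
  open Cfsg.Agent.Lib.H29.Chev Cfsg.Agent.Lib.H12.ReeC in
  have hs := tw_simple_G2 m hK hm
  open Cfsg.Agent.Lib.H29.Chev Cfsg.Agent.Lib.H12.ReeC in
  have hsimple := hs.1
  open Cfsg.Agent.Lib.H29.Chev Cfsg.Agent.Lib.H12.ReeC in
  rcases hNn.eq_bot_or_eq_top with hb | ht
  · have hZc : (reeRSys m hK).a ∈ Subgroup.center ↥(Cfsg.Lie.twistedG2 K (3 ^ m)) := by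
      rw [Subgroup.mem_center_iff]
      intro g
      have h1 := hcomm g
      rw [hb, Subgroup.mem_bot] at h1
      calc g * (reeRSys m hK).a = ((reeRSys m hK).a * g * ((reeRSys m hK).a)⁻¹ * g⁻¹)⁻¹ *
            ((reeRSys m hK).a * g) := by group
        _ = (reeRSys m hK).a * g := by rw [h1, inv_one, one_mul]
    rw [center_eq_bot_of_simple hs.1 hs.2, Subgroup.mem_bot] at hZc
    exact (reeRSys m hK).a_ne_one hZc
  · rw [ht, Subgroup.card_top, hN] at hodd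
    exact (Nat.not_odd_iff_even.mpr ⟨4 * k, by ring⟩) hodd

end Cfsg.Agent.S1157
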