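import Cfsg.Statements.S1160
import Mathlib
import Cfsg.Agent.S0126
import Cfsg.Agent.Lib.H1.FpfAction
import Cfsg.Agent.Lib.H1.NilpotentBasic
import Cfsg.Agent.Lib.H9.CoprimeGeneration
import Cfsg.Agent.Lib.H17.HalfTransitive
import Cfsg.Agent.Lib.H22.UniqueOrderP

set_option autoImplicit false
open Cfsg

namespace Cfsg.Agent.S1160

open MulAction

set_option linter.style.haveILetI false
set_option linter.unusedSectionVars false

section normop
variable {P E : Type*} [Group P] [AddCommGroup E] [DistribMulAction P E]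

/-- the norm operator of the cyclic group generated by `x` (of order dividing `p`) -/
def Nop (p : ℕ) (x : P) (v : E) : E := ∑ i ∈ Finset.range p, x ^ i • v

theorem Nop_add (p : ℕ) (x : P) (v w : E) : Nop p x (v + w) = Nop p x v + Nop p x w := by
  unfold Nop
  rw [← Finset.sum_add_distrib]
  apply Finset.sum_congr rfl
  intro i _
  rw [smul_add]

theorem pow_smul_of_fixed {x : P} {v : E} (h : x • v = v) (i : ℕ) : x ^ i • v = v := by
  induction i with
  | zero => rw [pow_zero, one_smul]
  | succ i ih => rw [pow_succ, mul_smul, h, ih]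

theorem Nop_of_fixed (p : ℕ) {x : P} {v : E} (h : x • v = v) : Nop p x v = p • v := by
  unfold Nop
  rw [Finset.sum_congr rfl (fun i _ => pow_smul_of_fixed h i), Finset.sum_const, Finset.card_range]

theorem smul_Nop {p : ℕ} {x : P} (hx : x ^ p = 1) (v : E) : x • Nop p x v = Nop p x v := by
  unfold Nop
  rw [Finset.smul_sum]
  have h1 : ∑ i ∈ Finset.range p, x • x ^ i • v = ∑ i ∈ Finset.range p, x ^ (i + 1) • v := by
    apply Finset.sum_congr rfl
    intro i _
    rw [← mul_smul, ← pow_succ']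
  rw [h1]
  have h2 := Finset.sum_range_succ' (fun i => x ^ i • v) p
  have h3 := Finset.sum_range_succ (fun i => x ^ i • v) p
  rw [h3, hx, one_smul] at h2
  simp only [pow_zero, one_smul] at h2
  exact (add_right_cancel h2).symm

theorem comm_smul_Nop (p : ℕ) {x y : P} (hxy : y * x = x * y) {v : E} (hv : y • v = v) :
    y • Nop p x v = Nop p x v := by
  unfold Nop
  rw [Finset.smul_sum]
  apply Finset.sum_congr rfl
  intro i _
  have hc : y * x ^ i = x ^ i * y := (Commute.pow_right (show Commute y x from hxy) i)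
  rw [← mul_smul, hc, mul_smul, hv]

end normop

section core
variable {P E : Type*} [Group P] [Finite P] [AddCommGroup E] [Finite E] [DistribMulAction P E]
  [FaithfulSMul P E] {p : ℕ} [hpF : Fact p.Prime]

/-- the induced action on `Multiplicative E` -/
@[reducible] def mdma (P E : Type*) [Group P] [AddCommGroup E] [DistribMulAction P E] :
    MulDistribMulAction P (Multiplicative E) where
  smul g u := Multiplicative.ofAdd (g • Multiplicative.toAdd u)
  one_smul u := by
    show Multiplicative.ofAdd ((1 : P) • Multiplicative.toAdd u) = u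
    rw [one_smul]; rfl
  mul_smul a b u := by
    show Multiplicative.ofAdd ((a * b) • Multiplicative.toAdd u) =
      Multiplicative.ofAdd (a • Multiplicative.toAdd (Multiplicative.ofAdd (b • Multiplicative.toAdd u)))
    rw [mul_smul]; rfl
  smul_mul g u v := by
    show Multiplicative.ofAdd (g • (Multiplicative.toAdd u + Multiplicative.toAdd v)) = _
    rw [smul_add]; rfl
  smul_one g := by
    show Multiplicative.ofAdd (g • (0 : E)) = 1
    rw [smul_zero]; rfl

/-- norm identity: a rank two elementary abelian `p`-group cannot act fixed point freely -/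
theorem NI (hinj : ∀ v : E, p • v = 0 → v = 0) (e₀ : E) (he₀ : e₀ ≠ 0) (x y : P)
    (hxy : x * y = y * x) (hx : x ^ p = 1) (hy : y ^ p = 1) (h1 : ∀ v : E, x • v = v → v = 0)
    (h2 : ∀ i : ℕ, ∀ v : E, (x ^ i * y) • v = v → v = 0) : False := by
  have h := Cfsg.Agent.Lib.H9.pow_mem_of_fixed_mem (p := p) (V := Multiplicative E) x y hxy hx hy
    (fun a u => Multiplicative.ofAdd (a • Multiplicative.toAdd u))
    (fun a b v => by simp [mul_smul]) (fun v => by simp) (fun a v w => by simp [smul_add])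
    ⊥ (fun v hv => by
      rw [Subgroup.mem_bot]
      have := h1 (Multiplicative.toAdd v) (congrArg Multiplicative.toAdd hv)
      exact congrArg Multiplicative.ofAdd this)
    (fun i v hv => by
      rw [Subgroup.mem_bot]
      have := h2 i (Multiplicative.toAdd v) (congrArg Multiplicative.toAdd hv)
      exact congrArg Multiplicative.ofAdd this) (Multiplicative.ofAdd e₀)
  rw [Subgroup.mem_bot] at h
  apply he₀
  apply hinj
  exact congrArg Multiplicative.toAdd h

open Cfsg.Agent.Lib.H17.HalfTransitive in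
/-- constant non-trivial point stabilizers are impossible for odd `p` -/
theorem no_nontrivial_stab (hp2 : p ≠ 2) (hP : IsPGroup p P) (hinj : ∀ v : E, p • v = 0 → v = 0)
    (m : ℕ) (hm : 1 < m) (hstab : ∀ a : E, a ≠ 0 → Nat.card (stabilizer P a) = m)
    (e₀ : E) (he₀ : e₀ ≠ 0) : False := by
  classical
  have hp := hpF.out
  have hinj2 : ∀ v w : E, p • v = p • w → v = w := by
    intro v w h
    have : p • (v - w) = 0 := by rw [smul_sub, h, sub_self]
    exact sub_eq_zero.mp (hinj _ this)
  letI := mdma P E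
  have hHT : HT P (Multiplicative E) m := by
    refine ⟨?_, hm, ?_⟩
    · intro u hu
      have h1 : stabilizer P u = stabilizer P (Multiplicative.toAdd u) := by
        ext g
        rw [mem_stabilizer_iff, mem_stabilizer_iff]
        exact ⟨fun h => congrArg Multiplicative.toAdd h, fun h => congrArg Multiplicative.ofAdd h⟩
      rw [h1]
      apply hstab
      intro h
      exact hu (congrArg Multiplicative.ofAdd h)
    · intro g hg
      apply FaithfulSMul.eq_of_smul_eq_smul (α := E)
      intro a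
      rw [one_smul]
      exact congrArg Multiplicative.toAdd (hg (Multiplicative.ofAdd a))
  -- central elements are fixed point free
  have hcentral : ∀ z : P, z ∈ Subgroup.center P → z ≠ 1 → ∀ v : E, z • v = v → v = 0 := by
    intro z hz hz1 v hv
    let K : Subgroup (Multiplicative E) :=
      { carrier := {u | z • Multiplicative.toAdd u = Multiplicative.toAdd u}
        one_mem' := smul_zero z
        mul_mem' := by
          intro a b ha hb
          show z • (Multiplicative.toAdd a + Multiplicative.toAdd b) = _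
          rw [smul_add, ha, hb]; rfl
        inv_mem' := by
          intro a ha
          show z • (-(Multiplicative.toAdd a)) = -Multiplicative.toAdd a
          rw [smul_neg, ha] }
    rcases hHT.irreducible K (by
      intro g k hk
      show z • g • Multiplicative.toAdd k = g • Multiplicative.toAdd k
      have hk' : z • Multiplicative.toAdd k = Multiplicative.toAdd k := hk
      rw [← mul_smul, ← (Subgroup.mem_center_iff.mp hz g), mul_smul, hk']) with h | h
    · have h1 : Multiplicative.ofAdd v ∈ K := hv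
      rw [h, Subgroup.mem_bot] at h1
      exact congrArg Multiplicative.toAdd h1
    · exfalso
      apply hz1
      apply FaithfulSMul.eq_of_smul_eq_smul (α := E)
      intro a
      have h1 : Multiplicative.ofAdd a ∈ K := by rw [h]; trivial
      rw [one_smul]
      exact h1
  -- P is not cyclic
  have hnc : ¬ IsCyclic P := by
    intro hc
    have hcard := hstab e₀ he₀
    obtain ⟨y, hy, hy1⟩ : ∃ y ∈ stabilizer P e₀, y ≠ 1 := by
      by_contra hcon
      push Not at hcon
      have h1 : stabilizer P e₀ = ⊥ := (Subgroup.eq_bot_iff_forall _).mpr hcon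
      rw [h1, Subgroup.card_bot] at hcard
      omega
    have hyc : y ∈ Subgroup.center P := by
      rw [Subgroup.mem_center_iff]
      intro g
      exact (IsCyclic.commGroup (α := P)).mul_comm g y
    exact he₀ (hcentral y hyc hy1 e₀ hy)
  obtain ⟨A, hAn, hAel, hAcard⟩ := Cfsg.Agent.S0126.result hp2 hP hnc
  haveI := hAn
  obtain ⟨hAc, hAp⟩ := hAel
  have hAcomm : ∀ a ∈ A, ∀ b ∈ A, a * b = b * a :=
    fun a ha b hb => congrArg Subtype.val (hAc.is_comm.comm ⟨a, ha⟩ ⟨b, hb⟩)
  haveI : Group.IsNilpotent P := hP.isNilpotent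
  have hA1 : A ≠ ⊥ := by
    intro h
    rw [h, Subgroup.card_bot] at hAcard
    have := hp.one_lt
    nlinarith
  obtain ⟨z, hzAZ, hz1⟩ : ∃ z ∈ A ⊓ Subgroup.center P, z ≠ 1 := by
    rcases Subgroup.bot_or_exists_ne_one (A ⊓ Subgroup.center P) with h | h
    · exact absurd h (Cfsg.Agent.Lib.H1.normal_inf_center_ne_bot A hA1)
    · exact h
  obtain ⟨hzA, hzZ⟩ := Subgroup.mem_inf.mp hzAZ
  have hzp : z ^ p = 1 := hAp z hzA
  have hzfpf := hcentral z hzZ hz1
  obtain ⟨y, hyA, hyz⟩ : ∃ y ∈ A, y ∉ Subgroup.zpowers z := by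
    by_contra hcon
    push Not at hcon
    have hle : A ≤ Subgroup.zpowers z := hcon
    have h1 : Nat.card A ≤ Nat.card (Subgroup.zpowers z) := Subgroup.card_le_of_le hle
    rw [hAcard, Nat.card_zpowers, orderOf_eq_prime hzp hz1] at h1
    have := hp.one_lt
    nlinarith
  -- some non-identity element of A fixes a non-zero vector
  obtain ⟨x₀, hx₀A, hx₀1, a, ha0, hxa⟩ : ∃ x₀ ∈ A, x₀ ≠ 1 ∧ ∃ a : E, a ≠ 0 ∧ x₀ • a = a := by
    by_contra hcon
    push Not at hcon
    apply NI hinj e₀ he₀ z y ((Subgroup.mem_center_iff.mp hzZ y).symm) hzp (hAp y hyA) hzfpf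
    intro i v hv
    by_contra hv0
    have hmem : z ^ i * y ∈ A := A.mul_mem (A.pow_mem hzA i) hyA
    have hne : z ^ i * y ≠ 1 := by
      intro h
      apply hyz
      have : y = (z ^ i)⁻¹ := eq_inv_of_mul_eq_one_right h
      rw [this]
      exact Subgroup.inv_mem _ (Subgroup.pow_mem _ (Subgroup.mem_zpowers z) i)
    exact hcon _ hmem hne v hv0 hv
  have hx₀p : x₀ ^ p = 1 := hAp x₀ hx₀A
  have hx₀ord : orderOf x₀ = p := orderOf_eq_prime hx₀p hx₀1
  have hx₀nc : x₀ ∉ Subgroup.center P := fun h => ha0 (hcentral x₀ h hx₀1 a hxa)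
  obtain ⟨g, hg⟩ : ∃ g : P, g * x₀ * g⁻¹ ∉ Subgroup.zpowers x₀ := by
    by_contra hcon
    push Not at hcon
    haveI : (Subgroup.zpowers x₀).Normal := by
      constructor
      intro n hn g
      obtain ⟨k, rfl⟩ := Subgroup.mem_zpowers_iff.mp hn
      rw [← conj_zpow]
      exact Subgroup.zpow_mem _ (hcon g) k
    have h1 := Cfsg.Agent.Lib.H1.normal_inf_center_ne_bot (Subgroup.zpowers x₀)
      (Subgroup.zpowers_ne_bot.mpr hx₀1)
    rcases Subgroup.bot_or_exists_ne_one (Subgroup.zpowers x₀ ⊓ Subgroup.center P) with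
      h2 | ⟨c, hc, hc1⟩
    · exact h1 h2
    · obtain ⟨hcz, hcc⟩ := Subgroup.mem_inf.mp hc
      have h3 := Cfsg.Agent.Lib.H1.zpowers_eq_of_prime_order hp hx₀ord hcz hc1
      apply hx₀nc
      have hx : x₀ ∈ Subgroup.zpowers c := by rw [h3]; exact Subgroup.mem_zpowers x₀
      exact (Subgroup.zpowers_le.mpr hcc) hx
  obtain ⟨x₁, hx₁⟩ : ∃ x₁ : P, x₁ = g * x₀ * g⁻¹ := ⟨_, rfl⟩
  rw [← hx₁] at hg
  have hx₁A : x₁ ∈ A := hx₁ ▸ hAn.conj_mem x₀ hx₀A g
  obtain ⟨a₁, ha₁⟩ : ∃ a₁ : E, a₁ = g • a := ⟨_, rfl⟩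
  have ha₁0 : a₁ ≠ 0 := by
    intro h
    apply ha0
    rw [ha₁] at h
    have := congrArg (fun t => g⁻¹ • t) h
    simpa using this
  have hx₁a₁ : x₁ • a₁ = a₁ := by
    rw [hx₁, ha₁, ← mul_smul, inv_mul_cancel_right, mul_smul, hxa]
  -- any element of A outside ⟨x₀⟩ generates A together with x₀
  have hsupgen : ∀ y ∈ A, y ∉ Subgroup.zpowers x₀ →
      Subgroup.zpowers x₀ ⊔ Subgroup.zpowers y = A := by
    intro y hy hyn
    have hle : Subgroup.zpowers x₀ ⊔ Subgroup.zpowers y ≤ A :=
      sup_le (Subgroup.zpowers_le.mpr hx₀A) (Subgroup.zpowers_le.mpr hy)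
    apply Subgroup.eq_of_le_of_card_ge hle
    have hdvd : Nat.card ↥(Subgroup.zpowers x₀ ⊔ Subgroup.zpowers y) ∣ p ^ 2 := by
      rw [← hAcard]; exact Subgroup.card_dvd_of_le hle
    obtain ⟨k, hk2, hk⟩ := (Nat.dvd_prime_pow hp).mp hdvd
    have h0le : Subgroup.zpowers x₀ ≤ Subgroup.zpowers x₀ ⊔ Subgroup.zpowers y := le_sup_left
    have hc0 : Nat.card (Subgroup.zpowers x₀) = p := by rw [Nat.card_zpowers, hx₀ord]
    have h1 : p ≤ Nat.card ↥(Subgroup.zpowers x₀ ⊔ Subgroup.zpowers y) := by
      rw [← hc0]; exact Subgroup.card_le_of_le h0le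
    interval_cases k
    · rw [pow_zero] at hk
      have := hp.one_lt
      omega
    · exfalso
      apply hyn
      have heq : Subgroup.zpowers x₀ = Subgroup.zpowers x₀ ⊔ Subgroup.zpowers y :=
        Subgroup.eq_of_le_of_card_ge h0le (by rw [hk, pow_one, hc0])
      rw [heq]
      exact (le_sup_right : Subgroup.zpowers y ≤ _) (Subgroup.mem_zpowers y)
    · rw [hAcard, hk]
  have hfixA : ∀ y ∈ A, y ∉ Subgroup.zpowers x₀ → ∀ v : E, x₀ • v = v → y • v = v → v = 0 := by
    intro y hy hyn v h0 h1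
    apply hzfpf
    have hle : Subgroup.zpowers x₀ ⊔ Subgroup.zpowers y ≤ stabilizer P v :=
      sup_le (Subgroup.zpowers_le.mpr h0) (Subgroup.zpowers_le.mpr h1)
    have hzmem : z ∈ Subgroup.zpowers x₀ ⊔ Subgroup.zpowers y := by
      rw [hsupgen y hy hyn]; exact hzA
    exact hle hzmem
  have hN1 : ∀ y ∈ A, y ∉ Subgroup.zpowers x₀ → ∀ v : E, y • v = v → Nop p x₀ v = 0 := by
    intro y hy hyn v hv
    exact hfixA y hy hyn _ (smul_Nop hx₀p v) (comm_smul_Nop p (hAcomm y hy x₀ hx₀A) hv)
  have hPodd : ∀ h : P, Odd (orderOf h) := by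
    intro h
    obtain ⟨k, hk⟩ := (IsPGroup.iff_orderOf.mp hP) h
    rw [hk]
    exact Odd.pow (hp.odd_of_ne_two hp2)
  -- key claim
  have hkey : ∀ h : P, h • (a + a₁) = a + a₁ → h • a = a := by
    intro h hh
    obtain ⟨ys, hys⟩ : ∃ ys : P, ys = h * x₀ * h⁻¹ := ⟨_, rfl⟩
    obtain ⟨yt, hyt⟩ : ∃ yt : P, yt = h * x₁ * h⁻¹ := ⟨_, rfl⟩
    have hysA : ys ∈ A := hys ▸ hAn.conj_mem x₀ hx₀A h
    have hytA : yt ∈ A := hyt ▸ hAn.conj_mem x₁ hx₁A h
    have hys_fix : ys • (h • a) = h • a := by
      rw [hys, ← mul_smul, inv_mul_cancel_right, mul_smul, hxa]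
    have hyt_fix : yt • (h • a₁) = h • a₁ := by
      rw [hyt, ← mul_smul, inv_mul_cancel_right, mul_smul, hx₁a₁]
    have hsum : h • a + h • a₁ = a + a₁ := by rw [← smul_add]; exact hh
    have hNlhs : Nop p x₀ (a + a₁) = p • a := by
      rw [Nop_add, Nop_of_fixed p hxa, hN1 x₁ hx₁A hg a₁ hx₁a₁, add_zero]
    have hNrhs : Nop p x₀ (h • a + h • a₁) = p • a := by rw [hsum]; exact hNlhs
    rw [Nop_add] at hNrhs
    have hys1 : ys ≠ 1 := by
      intro h1
      apply hx₀1
      rw [hys] at h1
      exact conj_eq_one_iff.mp h1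
    have hyt1 : yt ≠ 1 := by
      intro h1
      rw [hyt] at h1
      have : x₁ = 1 := conj_eq_one_iff.mp h1
      apply hg
      rw [this]
      exact Subgroup.one_mem _
    by_cases hs : ys ∈ Subgroup.zpowers x₀
    · have hzp' := Cfsg.Agent.Lib.H1.zpowers_eq_of_prime_order hp hx₀ord hs hys1
      have hx₀fix : x₀ • (h • a) = h • a := by
        have h1 : x₀ ∈ Subgroup.zpowers ys := by rw [hzp']; exact Subgroup.mem_zpowers x₀
        exact (Subgroup.zpowers_le.mpr (show ys ∈ stabilizer P (h • a) from hys_fix)) h1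
      have hyt_n : yt ∉ Subgroup.zpowers x₀ := by
        intro ht
        rw [← hzp'] at ht
        obtain ⟨k, hk⟩ := Subgroup.mem_zpowers_iff.mp ht
        apply hg
        rw [Subgroup.mem_zpowers_iff]
        refine ⟨k, ?_⟩
        have h2 : h * x₀ ^ k * h⁻¹ = h * x₁ * h⁻¹ := by
          rw [← conj_zpow, ← hys, ← hyt]; exact hk
        have h3 := congrArg (fun t => h⁻¹ * t * h) h2
        simpa [mul_assoc] using h3
      rw [Nop_of_fixed p hx₀fix, hN1 yt hytA hyt_n _ hyt_fix, add_zero] at hNrhs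
      exact hinj2 _ _ hNrhs
    · by_cases ht : yt ∈ Subgroup.zpowers x₀
      · have hzp' := Cfsg.Agent.Lib.H1.zpowers_eq_of_prime_order hp hx₀ord ht hyt1
        have hx₀fix : x₀ • (h • a₁) = h • a₁ := by
          have h1 : x₀ ∈ Subgroup.zpowers yt := by rw [hzp']; exact Subgroup.mem_zpowers x₀
          exact (Subgroup.zpowers_le.mpr (show yt ∈ stabilizer P (h • a₁) from hyt_fix)) h1
        rw [hN1 ys hysA hs _ hys_fix, Nop_of_fixed p hx₀fix, zero_add] at hNrhs
        have e1 : h • a₁ = a := hinj2 _ _ hNrhs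
        have e2 : h • a = a₁ := by
          rw [e1, add_comm a a₁] at hsum
          exact add_right_cancel hsum
        have e3 : (h * h) • a = a := by rw [mul_smul, e2, e1]
        obtain ⟨j, hj⟩ := hPodd h
        have e4 : h = (h * h) ^ (j + 1) := by
          rw [← pow_two, ← pow_mul]
          have : 2 * (j + 1) = orderOf h + 1 := by omega
          rw [this, pow_succ, pow_orderOf_eq_one, one_mul]
        rw [e4]
        exact pow_smul_of_fixed e3 (j + 1)
      · exfalso
        rw [hN1 ys hysA hs _ hys_fix, hN1 yt hytA ht _ hyt_fix, add_zero] at hNrhs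
        exact ha0 (hinj a hNrhs.symm)
  have hb0 : a + a₁ ≠ 0 := by
    intro h
    have h1 : a₁ = -a := by
      rw [add_comm] at h
      exact eq_neg_of_add_eq_zero_left h
    have h0 : x₀ • a₁ = a₁ := by rw [h1, smul_neg, hxa]
    exact ha₁0 (hfixA x₁ hx₁A hg a₁ h0 hx₁a₁)
  have hle : stabilizer P (a + a₁) ≤ stabilizer P a := fun h hh => hkey h hh
  have heq : stabilizer P (a + a₁) = stabilizer P a :=
    Subgroup.eq_of_le_of_card_ge hle (by rw [hstab _ hb0, hstab _ ha0])
  have hx₀b : x₀ • (a + a₁) = a + a₁ := by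
    have h1 : x₀ ∈ stabilizer P a := hxa
    rw [← heq] at h1
    exact h1
  rw [smul_add, hxa] at hx₀b
  have h0 : x₀ • a₁ = a₁ := add_left_cancel hx₀b
  exact ha₁0 (hfixA x₁ hx₁A hg a₁ h0 hx₁a₁)

/-- a `p`-group (`p` odd) acting fixed point freely is cyclic -/
theorem cyclic_of_fpf (hp2 : p ≠ 2) (hP : IsPGroup p P) (hinj : ∀ v : E, p • v = 0 → v = 0)
    (e₀ : E) (he₀ : e₀ ≠ 0) (hfpf : ∀ g : P, g ≠ 1 → ∀ a : E, g • a = a → a = 0) : IsCyclic P := by
  have hp := hpF.out
  by_cases hP1 : Subsingleton P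
  · exact isCyclic_of_subsingleton
  rw [not_subsingleton_iff_nontrivial] at hP1
  haveI := hP.center_nontrivial
  have hZp : IsPGroup p (Subgroup.center P) := hP.to_subgroup _
  obtain ⟨k, hk⟩ := IsPGroup.iff_card.mp hZp
  have hk0 : k ≠ 0 := by
    rintro rfl
    rw [pow_zero] at hk
    have := Finite.one_lt_card (α := Subgroup.center P)
    omega
  obtain ⟨z, hz⟩ := exists_prime_orderOf_dvd_card' (G := Subgroup.center P) p
    (hk ▸ dvd_pow_self p hk0)
  have hz1 : (z : P) ≠ 1 := by
    intro h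
    have : z = 1 := Subtype.ext h
    rw [this, orderOf_one] at hz
    exact hp.one_lt.ne hz
  have hzord : orderOf (z : P) = p := by rw [Subgroup.orderOf_coe, hz]
  have hzp : (z : P) ^ p = 1 := by rw [← hzord]; exact pow_orderOf_eq_one _
  apply Cfsg.Agent.Lib.H22.isCyclic_of_atMostOne_of_odd hp2 _ P rfl hP
  have hall : ∀ H : Subgroup P, Nat.card H = p → H = Subgroup.zpowers (z : P) := by
    intro H hH
    have hle : H ≤ Subgroup.zpowers (z : P) := by
      intro u hu
      by_contra hun
      have hup : u ^ p = 1 := by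
        have h1 := pow_card_eq_one' (G := H) (x := ⟨u, hu⟩)
        rw [hH] at h1
        exact congrArg Subtype.val h1
      apply NI hinj e₀ he₀ (z : P) u ((Subgroup.mem_center_iff.mp z.2 u).symm) hzp hup
        (hfpf (z : P) hz1)
      intro i v hv
      apply hfpf ((z : P) ^ i * u) _ v hv
      intro h
      apply hun
      have : u = ((z : P) ^ i)⁻¹ := eq_inv_of_mul_eq_one_right h
      rw [this]
      exact Subgroup.inv_mem _ (Subgroup.pow_mem _ (Subgroup.mem_zpowers _) i)
    exact Subgroup.eq_of_le_of_card_ge hle (by rw [hH, Nat.card_zpowers, hzord])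
  intro H K hH hK
  rw [hall H hH, hall K hK]

end core

/-- Let `p ≠ 2` be prime and `P` a finite `p`-group acting faithfully by additive automorphisms on a finite elementary abelian `q`-group `E` (`q` prime), such that `|P_a|` is the same for all `a ≠ 0`. Then `P` is cyclic and every non-identity element of `P` fixes only `0`. -/
theorem result {P E : Type*} [Group P] [Finite P]
    [AddCommGroup E] [Finite E] [DistribMulAction P E] [FaithfulSMul P E]
    {p q : ℕ} [Fact p.Prime] (hp2 : p ≠ 2) (hP : IsPGroup p P) (hq : q.Prime) (hE : ∀ e : E, q • e = 0)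
    (hconst : ∀ a b : E, a ≠ 0 → b ≠ 0 →
      Nat.card (MulAction.stabilizer P a) = Nat.card (MulAction.stabilizer P b)) :
    IsCyclic P ∧ ∀ g : P, g ≠ 1 → ∀ a : E, g • a = a → a = 0 := by
  classical
  have hp := (Fact.out : p.Prime)
  have htriv : (∀ g : P, g = 1) → IsCyclic P ∧ ∀ g : P, g ≠ 1 → ∀ a : E, g • a = a → a = 0 := by
    intro hP1
    haveI : Subsingleton P := ⟨fun a b => by rw [hP1 a, hP1 b]⟩
    exact ⟨isCyclic_of_subsingleton, fun g hg => absurd (hP1 g) hg⟩
  by_cases hE0 : ∀ e : E, e = 0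
  · apply htriv
    intro g
    apply FaithfulSMul.eq_of_smul_eq_smul (α := E)
    intro a
    rw [hE0 (g • a), hE0 ((1 : P) • a)]
  push Not at hE0
  obtain ⟨e₀, he₀⟩ := hE0
  have hstab : ∀ a : E, a ≠ 0 → Nat.card (stabilizer P a) = Nat.card (stabilizer P e₀) :=
    fun a ha => hconst a e₀ ha he₀
  by_cases hpq : p = q
  · -- P has a non-zero fixed point, so acts trivially
    apply htriv
    haveI : Nontrivial E := ⟨⟨e₀, 0, he₀⟩⟩
    have hEp : IsPGroup p (Multiplicative E) := by
      intro u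
      refine ⟨1, ?_⟩
      rw [pow_one]
      have := hE (Multiplicative.toAdd u)
      rw [← hpq] at this
      exact congrArg Multiplicative.ofAdd this
    obtain ⟨k, hk⟩ := IsPGroup.iff_card.mp hEp
    have hk' : Nat.card E = p ^ k := hk
    have hk0 : k ≠ 0 := by
      rintro rfl
      rw [pow_zero] at hk'
      have := Finite.one_lt_card (α := E)
      omega
    have hmod := hP.card_modEq_card_fixedPoints E
    have hdvd : p ∣ Nat.card (fixedPoints P E) := by
      have h1 : p ∣ Nat.card E := hk' ▸ dvd_pow_self p hk0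
      exact (Nat.modEq_zero_iff_dvd.mp ((hmod.symm.trans (Nat.modEq_zero_iff_dvd.mpr h1))))
    have h2 : 1 < Nat.card (fixedPoints P E) := by
      have hpos : 0 < Nat.card (fixedPoints P E) :=
        Nat.card_pos_iff.mpr ⟨⟨⟨0, fun g => smul_zero g⟩⟩, inferInstance⟩
      exact lt_of_lt_of_le hp.one_lt (Nat.le_of_dvd hpos hdvd)
    haveI : Nontrivial (fixedPoints P E) := Finite.one_lt_card_iff_nontrivial.mp h2
    obtain ⟨b, hb⟩ := exists_ne (⟨0, fun g => smul_zero g⟩ : fixedPoints P E)
    have hb0 : (b : E) ≠ 0 := fun h => hb (Subtype.ext h)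
    have htop : stabilizer P (b : E) = ⊤ := by
      rw [eq_top_iff]
      intro g _
      exact b.2 g
    have hm : Nat.card (stabilizer P e₀) = Nat.card P := by
      rw [← hstab (b : E) hb0, htop, Subgroup.card_top]
    intro g
    apply FaithfulSMul.eq_of_smul_eq_smul (α := E)
    intro a
    rw [one_smul]
    by_cases ha : a = 0
    · rw [ha, smul_zero]
    · have h3 : stabilizer P a = ⊤ := by
        apply Subgroup.eq_top_of_card_eq
        rw [hstab a ha, hm]
      have : g ∈ stabilizer P a := by rw [h3]; trivial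
      exact this
  -- coprime case
  have hcop : Nat.Coprime p q := (Nat.coprime_primes hp hq).mpr hpq
  have hinj : ∀ v : E, p • v = 0 → v = 0 := by
    intro v hv
    have h1 : addOrderOf v ∣ p := addOrderOf_dvd_of_nsmul_eq_zero hv
    have h2 : addOrderOf v ∣ q := addOrderOf_dvd_of_nsmul_eq_zero (hE v)
    have h3 : addOrderOf v = 1 := Nat.dvd_one.mp (hcop ▸ Nat.dvd_gcd h1 h2)
    exact AddMonoid.addOrderOf_eq_one_iff.mp h3
  have hm1 : ¬ 1 < Nat.card (stabilizer P e₀) := fun hm =>
    no_nontrivial_stab hp2 hP hinj _ hm hstab e₀ he₀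
  have hfpf : ∀ g : P, g ≠ 1 → ∀ a : E, g • a = a → a = 0 := by
    intro g hg a hga
    by_contra ha
    apply hg
    have h1 : Nat.card (stabilizer P a) ≤ 1 := by rw [hstab a ha]; omega
    have h2 : stabilizer P a = ⊥ := by
      rw [← Subgroup.card_eq_one]
      have := Nat.card_pos (α := stabilizer P a)
      omega
    have : g ∈ stabilizer P a := hga
    rw [h2, Subgroup.mem_bot] at this
    exact this
  exact ⟨cyclic_of_fpf hp2 hP hinj e₀ he₀ hfpf, hfpf⟩

end Cfsg.Agent.S1160
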