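import Cfsg.Statements.S1165
import Cfsg.Agent.Lib.H6.RankOne

set_option autoImplicit false
open Cfsg

namespace Cfsg.Agent.S1165

/-- In the rank-one set-up (`G` finite and doubly transitive on `Ω`, `t` an involution moving `a`, `Q` normal in `G_a` with `G_a = Q D`, `Q ⊓ D = 1` for the two-point stabiliser `D = G_a ⊓ G_{t • a}`, `|Q|` even, `|D|` odd): every `x ∈ Q`, `x ≠ 1`, determines unique `g, f ∈ Q`, `h ∈ D` with `t x t = g h t f` (a consequence of the canonical form). For these: (H1) the `f`-part of `x⁻¹` is `g⁻¹`; (H2) the `f`-part of `f` is `x`; (H3) for `a ∈ D` the `f`-part of `a⁻¹ x a` is `(t a t)⁻¹ f (t a t)`; (H4) the `h`-part of `a⁻¹ x a` is `(t a t)⁻¹ h a`, that of `x⁻¹` is `t h⁻¹ t`, and that of `f` is `h⁻¹`. -/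
theorem result {G Ω : Type*} [Group G] [Finite G] [MulAction G Ω] {a : Ω} {t : G} {Q : Subgroup G}
    (hS : Cfsg.IsRankOneSetup G Ω a t Q)
    (x g h f : G) (hx : x ∈ Q) (hx1 : x ≠ 1) (hg : g ∈ Q) (hh : h ∈ (MulAction.stabilizer G a ⊓ MulAction.stabilizer G (t • a))) (hf : f ∈ Q)
    (heq : t * x * t = g * h * t * f) :
    (∀ g₁ h₁ f₁ : G, g₁ ∈ Q → h₁ ∈ (MulAction.stabilizer G a ⊓ MulAction.stabilizer G (t • a)) → f₁ ∈ Q → t * x⁻¹ * t = g₁ * h₁ * t * f₁ →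
        f₁ = g⁻¹ ∧ h₁ = t * h⁻¹ * t) ∧
      (∀ g₂ h₂ f₂ : G, g₂ ∈ Q → h₂ ∈ (MulAction.stabilizer G a ⊓ MulAction.stabilizer G (t • a)) → f₂ ∈ Q → t * f * t = g₂ * h₂ * t * f₂ →
        f₂ = x ∧ h₂ = h⁻¹) ∧
      ∀ c ∈ (MulAction.stabilizer G a ⊓ MulAction.stabilizer G (t • a)), ∀ g₃ h₃ f₃ : G, g₃ ∈ Q → h₃ ∈ (MulAction.stabilizer G a ⊓ MulAction.stabilizer G (t • a)) → f₃ ∈ Q →
        t * (c⁻¹ * x * c) * t = g₃ * h₃ * t * f₃ →
          f₃ = (t * c * t)⁻¹ * f * (t * c * t) ∧ h₃ = (t * c * t)⁻¹ * h * c := by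
  have htt : t * t = 1 := hS.mul_self
  have htinv : t⁻¹ = t := Cfsg.Agent.Lib.H6.RankOne.t_inv hS
  have httl : ∀ z : G, t * (t * z) = z := fun z => by rw [← mul_assoc, htt, one_mul]
  refine ⟨?_, ?_, ?_⟩
  · intro g₁ h₁ f₁ hg₁ hh₁ hf₁ h1
    -- t x⁻¹ t = f⁻¹ (t h⁻¹ t) t g⁻¹
    have e : t * x⁻¹ * t = f⁻¹ * (t * h⁻¹ * t) * t * g⁻¹ := by
      calc t * x⁻¹ * t = (t⁻¹ * x * t⁻¹)⁻¹ := by group
        _ = (g * h * t * f)⁻¹ := by rw [htinv, heq]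
        _ = f⁻¹ * t⁻¹ * h⁻¹ * g⁻¹ := by group
        _ = f⁻¹ * t * h⁻¹ * (t * t) * g⁻¹ := by rw [htinv, htt, mul_one]
        _ = f⁻¹ * (t * h⁻¹ * t) * t * g⁻¹ := by group
    rw [e] at h1
    have := Cfsg.Agent.Lib.H6.RankOne.canon3_unique hS (Q.inv_mem hf)
      (Cfsg.Agent.Lib.H6.RankOne.t_conj_mem_D hS (Subgroup.inv_mem _ hh)) (Q.inv_mem hg) hg₁ hh₁ hf₁ h1
    exact ⟨this.2.2.symm, this.2.1.symm⟩
  · intro g₂ h₂ f₂ hg₂ hh₂ hf₂ h2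
    have e : t * f * t = (h⁻¹ * g⁻¹ * h) * h⁻¹ * t * x := by
      have hf' : f = t⁻¹ * h⁻¹ * g⁻¹ * (t * x * t) := by rw [heq]; group
      calc t * f * t = t * (t⁻¹ * h⁻¹ * g⁻¹ * (t * x * t)) * t := by rw [← hf']
        _ = h⁻¹ * g⁻¹ * t * x * (t * t) := by group
        _ = (h⁻¹ * g⁻¹ * h) * h⁻¹ * t * x := by rw [htt]; group
    rw [e] at h2
    have := Cfsg.Agent.Lib.H6.RankOne.canon3_unique hS
      (Cfsg.Agent.Lib.H6.RankOne.D_conj_mem_Q' hS hh (Q.inv_mem hg))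
      (Subgroup.inv_mem _ hh) hx hg₂ hh₂ hf₂ h2
    exact ⟨this.2.2.symm, this.2.1.symm⟩
  · intro c hc g₃ h₃ f₃ hg₃ hh₃ hf₃ h3
    have hc' : t * c * t ∈ MulAction.stabilizer G a ⊓ MulAction.stabilizer G (t • a) :=
      Cfsg.Agent.Lib.H6.RankOne.t_conj_mem_D hS hc
    have e : t * (c⁻¹ * x * c) * t
        = ((t * c * t)⁻¹ * g * (t * c * t)) * ((t * c * t)⁻¹ * h * c) * t * ((t * c * t)⁻¹ * f * (t * c * t)) := by
      have e1 : t * (c⁻¹ * x * c) * t = (t * c * t)⁻¹ * (t * x * t) * (t * c * t) := by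
        have : (t * c * t)⁻¹ * (t * x * t) * (t * c * t)
            = t⁻¹ * c⁻¹ * (t⁻¹ * t) * x * (t * t) * c * t := by group
        rw [this, htt, htinv, htt]; group
      rw [e1, heq]
      have e2 : c * t * ((t * c * t)⁻¹ * f * (t * c * t)) = t * f * (t * c * t) := by
        have : c * t * ((t * c * t)⁻¹ * f * (t * c * t)) = c * (t * t⁻¹) * c⁻¹ * t⁻¹ * f * (t * c * t) := by group
        rw [this, htinv, htt]; group
      calc (t * c * t)⁻¹ * (g * h * t * f) * (t * c * t)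
          = (t * c * t)⁻¹ * g * h * (t * f * (t * c * t)) := by group
        _ = (t * c * t)⁻¹ * g * h * (c * t * ((t * c * t)⁻¹ * f * (t * c * t))) := by rw [e2]
        _ = _ := by group
    rw [e] at h3
    have := Cfsg.Agent.Lib.H6.RankOne.canon3_unique hS
      (Cfsg.Agent.Lib.H6.RankOne.D_conj_mem_Q' hS hc' hg)
      (Subgroup.mul_mem _ (Subgroup.mul_mem _ (Subgroup.inv_mem _ hc') hh) hc)
      (Cfsg.Agent.Lib.H6.RankOne.D_conj_mem_Q' hS hc' hf) hg₃ hh₃ hf₃ h3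
    exact ⟨this.2.2.symm, this.2.1.symm⟩

end Cfsg.Agent.S1165
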