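import Cfsg.Statements.S1167
import Cfsg.Agent.Lib.H4.Feit.ZasAbelian
import Cfsg.Agent.Lib.H4.Wagner.CaseA

set_option autoImplicit false
open Cfsg

namespace Cfsg.Agent.S1167

open MulAction in
/-- Let `G` be a finite simple Zassenhaus group on `Ω`, `U` a normal subgroup of `G_a` regular on `Ω` minus `a` which is an abelian 2-group, and `v` an involution with `v • a ≠ a`. Then there is a unique `u₀ ∈ U`, `u₀ ≠ 1`, with `v u₀ v = u₀ v u₀`. -/
theorem result {G Ω : Type*} [Group G] [Finite G] [MulAction G Ω] [Finite Ω]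
    (hZ : Cfsg.IsZassenhausGroup G Ω) [IsSimpleGroup G] {a : Ω}
    (U : Subgroup G) (hUle : U ≤ MulAction.stabilizer G a)
    (hUn : ∀ h ∈ MulAction.stabilizer G a, ∀ u ∈ U, h * u * h⁻¹ ∈ U)
    (hreg : ∀ c d : Ω, c ≠ a → d ≠ a → ∃! u : U, (u : G) • c = d)
    (hU2 : IsPGroup 2 U) (hUab : ∀ u ∈ U, ∀ u' ∈ U, u * u' = u' * u)
    (v : G) (hv1 : v ≠ 1) (hv2 : v * v = 1) (hva : v • a ≠ a) :
    ∃! u₀ : G, u₀ ∈ U ∧ u₀ ≠ 1 ∧ v * u₀ * v = u₀ * v * u₀ := by
  classical
  haveI : Fact (Nat.Prime 2) := ⟨Nat.prime_two⟩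
  have hsharp := hZ.2.2.1
  obtain ⟨b, hb⟩ : ∃ b : Ω, b = v • a := ⟨_, rfl⟩
  have hba : b ≠ a := by rw [hb]; exact hva
  have hab : a ≠ b := Ne.symm hba
  have hvb : v • b = a := by rw [hb, ← mul_smul, hv2, one_smul]
  -- the order of `U`
  have hUcard : Nat.card U + 1 = Nat.card Ω := by
    let f : U → {w : Ω // w ≠ a} := fun u =>
      ⟨(u : G) • b, by
        intro e
        have hu : (u : G) • a = a := hUle u.2
        exact hba (smul_left_cancel (u : G) (e.trans hu.symm))⟩
    have hf : Function.Bijective f := by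
      constructor
      · intro u u' huu
        have e1 : (u : G) • b = (u' : G) • b := congrArg Subtype.val huu
        obtain ⟨w, -, hw⟩ := hreg b ((u' : G) • b) hba (by
          intro e
          have hu : (u' : G) • a = a := hUle u'.2
          exact hba (smul_left_cancel (u' : G) (e.trans hu.symm)))
        rw [hw u e1, hw u' rfl]
      · rintro ⟨z, hz⟩
        obtain ⟨u, hu, -⟩ := hreg b z hba hz
        exact ⟨u, Subtype.ext hu⟩
    have h1 : Nat.card U = Nat.card {w : Ω // w ≠ a} := Nat.card_congr (Equiv.ofBijective f hf)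
    have h5 : {w : Ω | w ≠ a} = ({a} : Set Ω)ᶜ := by
      ext w
      simp
    have h6 := Set.ncard_compl_add_ncard ({a} : Set Ω)
    rw [Set.ncard_singleton, ← h5] at h6
    have h7 : Nat.card {w : Ω // w ≠ a} = {w : Ω | w ≠ a}.ncard := rfl
    omega
  obtain ⟨n, hn⟩ := (IsPGroup.iff_card).1 hU2
  -- the order of the two point stabilizer
  have hH : Nat.card ↥(stabilizer G a ⊓ stabilizer G b) + 1 = Nat.card U := by
    have hpos : 0 < Nat.card ↥(stabilizer G a ⊓ stabilizer G b) := Nat.card_pos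
    rcases Cfsg.Agent.Lib.H4.Feit.zassenhaus_abelian_kernel hZ hab U hUle hUab hreg with h | ⟨h, -⟩
    · have h2 : 2 ≤ Nat.card Ω := by
        have : 1 ≤ Nat.card U := Nat.card_pos
        omega
      omega
    · exfalso
      rcases Nat.eq_zero_or_pos n with h0 | h0
      · rw [h0, pow_zero] at hn
        omega
      · have : 2 ∣ 2 ^ n := dvd_pow_self 2 h0.ne'
        omega
  -- the two point stabilizer is transitive on the nonidentity elements of `U`
  have hconj : ∀ u ∈ U, u ≠ 1 → ∀ u' ∈ U, u' ≠ 1 →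
      ∃ h ∈ stabilizer G a ⊓ stabilizer G b, h * u * h⁻¹ = u' := by
    intro u hu hu1 u' hu' hu'1
    let f : ↥(stabilizer G a ⊓ stabilizer G b) → {w : U // w ≠ 1} := fun h =>
      ⟨⟨(h : G) * u * (h : G)⁻¹, hUn _ (Subgroup.mem_inf.1 h.2).1 u hu⟩, by
        intro e
        apply hu1
        have e' : (h : G) * u * (h : G)⁻¹ = 1 := congrArg Subtype.val e
        have : u = (h : G)⁻¹ * ((h : G) * u * (h : G)⁻¹) * (h : G) := by group
        rw [this, e']
        group⟩
    have hf : Function.Injective f := by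
      intro h h' hhh
      have e1 : (h : G) * u * (h : G)⁻¹ = (h' : G) * u * (h' : G)⁻¹ :=
        congrArg (fun w : {w : U // w ≠ 1} => ((w : U) : G)) hhh
      have hk : ((h' : G)⁻¹ * (h : G)) * u = u * ((h' : G)⁻¹ * (h : G)) := by
        have : u = (h' : G)⁻¹ * ((h : G) * u * (h : G)⁻¹) * (h' : G) := by
          rw [e1]
          group
        calc ((h' : G)⁻¹ * (h : G)) * u = ((h' : G)⁻¹ * ((h : G) * u * (h : G)⁻¹) * (h' : G)) *
            ((h' : G)⁻¹ * (h : G)) := by group
          _ = u * ((h' : G)⁻¹ * (h : G)) := by rw [← this]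
      have hh := Subgroup.mem_inf.1 h.2
      have hh' := Subgroup.mem_inf.1 h'.2
      rw [mem_stabilizer_iff, mem_stabilizer_iff] at hh hh'
      have hka : ((h' : G)⁻¹ * (h : G)) • a = a := by
        rw [mul_smul, hh.1, inv_smul_eq_iff, hh'.1]
      have hkb : ((h' : G)⁻¹ * (h : G)) • b = b := by
        rw [mul_smul, hh.2, inv_smul_eq_iff, hh'.2]
      have hua : u • a = a := hUle hu
      have hub : u • b ≠ b := by
        intro e
        obtain ⟨w, -, hw⟩ := hreg b b hba hba
        have e1 := hw ⟨u, hu⟩ e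
        have e2 := hw 1 (one_smul _ _)
        apply hu1
        have : (⟨u, hu⟩ : U) = 1 := e1.trans e2.symm
        exact congrArg Subtype.val this
      have huba : u • b ≠ a := by
        intro e
        exact hba (smul_left_cancel u (e.trans hua.symm))
      have hkub : ((h' : G)⁻¹ * (h : G)) • (u • b) = u • b := by
        rw [← mul_smul, hk, mul_smul, hkb]
      have := hsharp _ a b (u • b) hab (Ne.symm hub) (Ne.symm huba) hka hkb hkub
      apply Subtype.ext
      exact (inv_mul_eq_one.1 this).symm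
    have hcardX : Nat.card {w : U // w ≠ 1} + 1 = Nat.card U := by
      have h5 : {w : U | w ≠ 1} = ({1} : Set U)ᶜ := by
        ext w
        simp
      have h6 := Set.ncard_compl_add_ncard ({1} : Set U)
      rw [Set.ncard_singleton, ← h5] at h6
      have h7 : Nat.card {w : U // w ≠ 1} = {w : U | w ≠ 1}.ncard := rfl
      omega
    have hbij : Function.Bijective f := by
      rw [Nat.bijective_iff_injective_and_card]
      exact ⟨hf, by omega⟩
    obtain ⟨h, hh⟩ := hbij.2 ⟨⟨u', hu'⟩, fun e => hu'1 (congrArg Subtype.val e)⟩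
    exact ⟨h, h.2, congrArg (fun w : {w : U // w ≠ 1} => ((w : U) : G)) hh⟩
  -- all elements of `U` are involutions
  have hexp : ∀ u ∈ U, u * u = 1 := by
    have hn1 : 1 ≤ n := by
      rcases Nat.eq_zero_or_pos n with h0 | h0
      · exfalso
        rw [h0, pow_zero] at hn
        have hpos : 0 < Nat.card ↥(stabilizer G a ⊓ stabilizer G b) := Nat.card_pos
        omega
      · exact h0
    have h2 : 2 ∣ Nat.card U := by
      rw [hn]
      exact dvd_pow_self 2 (by omega)
    obtain ⟨u₁, hu₁⟩ := exists_prime_orderOf_dvd_card' (G := U) 2 h2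
    have hu₁1 : (u₁ : G) ≠ 1 := by
      intro e
      have : u₁ = 1 := Subtype.ext e
      rw [this, orderOf_one] at hu₁
      omega
    have hu₁2 : (u₁ : G) * (u₁ : G) = 1 := by
      have := pow_orderOf_eq_one u₁
      rw [hu₁, pow_two] at this
      exact congrArg Subtype.val this
    intro u hu
    by_cases hu1 : u = 1
    · rw [hu1, one_mul]
    · obtain ⟨h, -, hh⟩ := hconj u₁ u₁.2 hu₁1 u hu hu1
      rw [← hh]
      calc h * u₁ * h⁻¹ * (h * u₁ * h⁻¹) = h * ((u₁ : G) * (u₁ : G)) * h⁻¹ := by group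
        _ = 1 := by rw [hu₁2]; group
  -- the fixed point of `v`
  have hvpow : v ^ 2 ^ 1 = 1 := by rw [pow_one, pow_two, hv2]
  have hpg := Cfsg.Agent.Lib.H4.Wagner.isPGroup_zpowers (p := 2) hvpow
  have hΩodd : ¬ 2 ∣ Nat.card Ω := by
    have hn1 : 1 ≤ n := by
      rcases Nat.eq_zero_or_pos n with h0 | h0
      · exfalso
        rw [h0, pow_zero] at hn
        have hpos : 0 < Nat.card ↥(stabilizer G a ⊓ stabilizer G b) := Nat.card_pos
        omega
      · exact h0
    have : 2 ∣ 2 ^ n := dvd_pow_self 2 (by omega)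
    omega
  obtain ⟨c, hc⟩ := hpg.nonempty_fixed_point_of_prime_not_dvd_card Ω hΩodd
  have hvc : v • c = c := hc ⟨v, Subgroup.mem_zpowers v⟩
  have hca : c ≠ a := by
    rintro rfl
    exact hva hvc
  have hcb : c ≠ b := by
    rintro rfl
    rw [hvb] at hvc
    exact hab hvc
  -- `c` is the only fixed point
  have hcuniq : ∀ c' : Ω, v • c' = c' → c' = c := by
    intro c' hc'
    by_contra hne
    -- a third fixed point
    have hFodd : Odd (Nat.card ↥(fixedPoints ↥(Subgroup.zpowers v) Ω)) := by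
      have h1 := hpg.card_modEq_card_fixedPoints (α := Ω)
      rw [Nat.odd_iff]
      rw [← h1]
      omega
    have hmemF : ∀ z : Ω, v • z = z → z ∈ fixedPoints ↥(Subgroup.zpowers v) Ω := by
      intro z hz
      rintro ⟨y, hy⟩
      obtain ⟨i, rfl⟩ := Subgroup.mem_zpowers_iff.1 hy
      show (v ^ i) • z = z
      have hle : Subgroup.zpowers v ≤ stabilizer G z := by
        rw [Subgroup.zpowers_le, mem_stabilizer_iff]
        exact hz
      exact hle (Subgroup.zpow_mem_zpowers v i)
    obtain ⟨c'', hc''F, hc''1, hc''2⟩ : ∃ c'' ∈ fixedPoints ↥(Subgroup.zpowers v) Ω,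
        c'' ≠ c ∧ c'' ≠ c' := by
      by_contra hcon
      push Not at hcon
      have hF : fixedPoints ↥(Subgroup.zpowers v) Ω = {c, c'} := by
        ext z
        constructor
        · intro hz
          by_contra hz'
          simp only [Set.mem_insert_iff, Set.mem_singleton_iff, not_or] at hz'
          exact hz'.2 (hcon z hz hz'.1)
        · rintro (rfl | rfl)
          · exact hmemF _ hvc
          · exact hmemF _ hc'
      have : Nat.card ↥(fixedPoints ↥(Subgroup.zpowers v) Ω) = 2 := by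
        rw [hF, _root_.Nat.card_coe_set_eq, Set.ncard_pair (Ne.symm hne)]
      rw [this] at hFodd
      exact absurd hFodd (by decide)
    have hvc'' : v • c'' = c'' := hc''F ⟨v, Subgroup.mem_zpowers v⟩
    exact hv1 (hsharp v c c' c'' (Ne.symm hne) (Ne.symm hc''2) (Ne.symm hc''1) hvc hc' hvc'')
  -- the element `u₀`
  obtain ⟨u₀, hu₀c, hu₀uniq⟩ := hreg c b hca hba
  have hu₀a : (u₀ : G) • a = a := hUle u₀.2
  have hu₀b : (u₀ : G) • b = c := by
    rw [← hu₀c, ← mul_smul, hexp _ u₀.2, one_smul]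
  have hu₀1 : (u₀ : G) ≠ 1 := by
    intro e
    rw [e, one_smul] at hu₀c
    exact hcb hu₀c
  refine ⟨(u₀ : G), ⟨u₀.2, hu₀1, ?_⟩, ?_⟩
  · -- the equation
    have ea1 : (v * u₀ * v) • a = c := by rw [mul_smul, mul_smul, ← hb, hu₀b, hvc]
    have ea2 : ((u₀ : G) * v * u₀) • a = c := by rw [mul_smul, mul_smul, hu₀a, ← hb, hu₀b]
    have eb1 : (v * u₀ * v) • b = b := by rw [mul_smul, mul_smul, hvb, hu₀a, ← hb]
    have eb2 : ((u₀ : G) * v * u₀) • b = b := by rw [mul_smul, mul_smul, hu₀b, hvc, hu₀c]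
    have ec1 : (v * u₀ * v) • c = a := by rw [mul_smul, mul_smul, hvc, hu₀c, hvb]
    have ec2 : ((u₀ : G) * v * u₀) • c = a := by rw [mul_smul, mul_smul, hu₀c, hvb, hu₀a]
    have h1 : (v * u₀ * v)⁻¹ * (u₀ * v * u₀) = 1 := by
      apply hsharp _ a b c hab (Ne.symm hcb) (Ne.symm hca)
      · rw [mul_smul, inv_smul_eq_iff, ea2, ea1]
      · rw [mul_smul, inv_smul_eq_iff, eb2, eb1]
      · rw [mul_smul, inv_smul_eq_iff, ec2, ec1]
    exact (inv_mul_eq_one.1 h1)
  · rintro u₁ ⟨hu₁U, hu₁1, heq⟩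
    have hu₁a : u₁ • a = a := hUle hu₁U
    have h1 : (v * u₁ * v) • b = b := by
      rw [mul_smul, mul_smul, hvb, hu₁a, ← hb]
    rw [heq, mul_smul, mul_smul] at h1
    -- `v` fixes `u₁ • b`
    have h2 : v • (u₁ • b) = u₁ • b := by
      have h1' : u₁ • (u₁ • v • u₁ • b) = u₁ • b := congrArg (u₁ • ·) h1
      rw [← mul_smul u₁ u₁, hexp u₁ hu₁U, one_smul] at h1'
      exact h1'
    have h3 := hcuniq _ h2
    -- both map `b` to `c`
    obtain ⟨w, -, hw⟩ := hreg b c hba hca
    have e1 := hw ⟨u₁, hu₁U⟩ h3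
    have e2 := hw u₀ hu₀b
    have : (⟨u₁, hu₁U⟩ : U) = u₀ := e1.trans e2.symm
    exact congrArg Subtype.val this

end Cfsg.Agent.S1167
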