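import Cfsg.Statements.S1176
import Cfsg.Agent.Lib.H6.Dihedral

set_option autoImplicit false
open Cfsg

namespace Cfsg.Agent.S1176

open scoped commutatorElement

/-- Let x₀ be an involution of the finite group G and D its conjugacy class. Assume (a) for each x ∈ D the subgroup W(x) generated by the members of D commuting with x is a 2-group of nilpotency class at most 2, and (b) the product of two distinct commuting members of D again lies in D. Then for all x, y ∈ D, if xy has even order greater than 2, its order is 4. -/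
theorem result {G : Type*} [Group G] [Finite G] (x₀ : G) (hx₀ : orderOf x₀ = 2) (ha : ∀ x : G, IsConj x₀ x → IsPGroup 2 ↥(Subgroup.closure {y : G | IsConj x₀ y ∧ Commute y x}) ∧ ⁅⁅Subgroup.closure {y : G | IsConj x₀ y ∧ Commute y x}, Subgroup.closure {y : G | IsConj x₀ y ∧ Commute y x}⁆, Subgroup.closure {y : G | IsConj x₀ y ∧ Commute y x}⁆ = ⊥) (hb : ∀ x y : G, IsConj x₀ x → IsConj x₀ y → x ≠ y → Commute x y → IsConj x₀ (x * y)) (x y : G) (hx : IsConj x₀ x) (hy : IsConj x₀ y) (heven : Even (orderOf (x * y))) (hgt : 2 < orderOf (x * y)) : orderOf (x * y) = 4 := by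
  have hx₀ : x₀ * x₀ = 1 := by
    have := pow_orderOf_eq_one x₀
    rw [hx₀, pow_two] at this; exact this
  have hsq : ∀ w : G, IsConj x₀ w → w * w = 1 := by
    intro w hw
    obtain ⟨c, rfl⟩ := isConj_iff.mp hw
    exact Cfsg.Agent.Lib.H6.conj_mul_self hx₀ c
  have hxx := hsq x hx
  have hyy := hsq y hy
  obtain ⟨m, hm⟩ := heven
  have hm2 : 2 ≤ m := by omega
  have h2m : (x * y) ^ (2 * m) = 1 := by
    rw [two_mul, ← hm]; exact pow_orderOf_eq_one _
  obtain ⟨hux, c, hc⟩ := Cfsg.Agent.Lib.H6.even_case hxx hyy m h2m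
  set u := (x * y) ^ m with hu
  have hu1 : u ≠ 1 := by
    intro h1
    have := orderOf_dvd_of_pow_eq_one h1
    have := Nat.le_of_dvd (by omega) this
    omega
  -- u * x ∈ D
  have huxD : IsConj x₀ (u * x) := by
    rcases hc with hc | hc
    · rw [hc]; exact hx.trans (isConj_iff.mpr ⟨c, rfl⟩)
    · rw [hc]; exact hy.trans (isConj_iff.mpr ⟨c, rfl⟩)
  have hne : u * x ≠ x := by
    intro h
    apply hu1
    calc u = u * x * x⁻¹ := by group
      _ = 1 := by rw [h]; group
  have hcomm1 : Commute (u * x) x := by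
    show u * x * x = x * (u * x)
    rw [← mul_assoc, ← hux.eq]
  have huD : IsConj x₀ u := by
    have := hb (u * x) x huxD hx hne hcomm1
    rwa [mul_assoc, hxx, mul_one] at this
  -- u commutes with x and y
  have huy : Commute u y := by
    have h1 : Commute u (x * y) := (Commute.refl (x * y)).pow_left m
    have h2 : y = x⁻¹ * (x * y) := by group
    rw [h2]
    exact (hux.inv_right).mul_right h1
  -- x, y ∈ W(u)
  obtain ⟨-, hW⟩ := ha u huD
  set W := Subgroup.closure {y : G | IsConj x₀ y ∧ Commute y u} with hWdef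
  have hxW : x ∈ W := Subgroup.subset_closure ⟨hx, hux.symm⟩
  have hyW : y ∈ W := Subgroup.subset_closure ⟨hy, huy.symm⟩
  have h3 : ⁅⁅x, y⁆, x⁆ = 1 := by
    have : ⁅⁅x, y⁆, x⁆ ∈ ⁅⁅W, W⁆, W⁆ :=
      Subgroup.commutator_mem_commutator (Subgroup.commutator_mem_commutator hxW hyW) hxW
    rw [hW, Subgroup.mem_bot] at this
    exact this
  have hxinv : x⁻¹ = x := inv_eq_of_mul_eq_one_right hxx
  have hyinv : y⁻¹ = y := inv_eq_of_mul_eq_one_right hyy
  -- (xy)^4 = 1
  have h4 : (x * y) ^ 4 = 1 := by
    rw [commutatorElement_def, commutatorElement_def, hxinv, hyinv] at h3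
    -- h3 : x*y*x*y * x * (x*y*x*y)⁻¹ * x = 1
    have e : (x * y * x * y)⁻¹ = y * x * y * x := by
      rw [mul_inv_rev, mul_inv_rev, mul_inv_rev, hxinv, hyinv]; group
    rw [e] at h3
    have : (x * y) ^ 4 = x * y * x * y * x * (y * x * y * x) * x := by
      have : x * y * x * y * x * (y * x * y * x) * x = x * y * x * y * x * y * x * y * (x * x) := by group
      rw [this, hxx, mul_one]
      simp only [pow_succ, pow_zero, one_mul, mul_assoc]
    rw [this]; exact h3
  have hd : orderOf (x * y) ∣ 4 := orderOf_dvd_of_pow_eq_one h4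
  have hle : orderOf (x * y) ≤ 4 := Nat.le_of_dvd (by norm_num) hd
  interval_cases h : orderOf (x * y) <;> simp_all <;> omega

end Cfsg.Agent.S1176
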