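import Cfsg.Statements.S1177
import Cfsg.Agent.Lib.H6.Conj
import Cfsg.Agent.Lib.H6.NormGrowth

set_option autoImplicit false
open Cfsg

namespace Cfsg.Agent.S1177

/-- Let A be a nontrivial elementary abelian 2-subgroup of a finite group G which is a T.I. set (each conjugate of A meets A trivially or equals A) and which does not commute elementwise with any conjugate of A other than A itself. Then for every a ∈ A, a ≠ 1, every conjugate of A contained in C_G(a) is equal to A (A is weakly closed in C_G(a)). -/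
theorem result {G : Type*} [Group G] [Finite G] (A : Subgroup G) (hA : Cfsg.IsElementaryAbelian 2 A) (hA1 : A ≠ ⊥) (hTI : ∀ g : G, A.map (MulAut.conj g).toMonoidHom ⊓ A = ⊥ ∨ A.map (MulAut.conj g).toMonoidHom = A) (hb : ∀ g : G, (∀ a ∈ A, ∀ b ∈ A.map (MulAut.conj g).toMonoidHom, a * b = b * a) → A.map (MulAut.conj g).toMonoidHom = A) (a : G) (ha : a ∈ A) (ha1 : a ≠ 1) (g : G) (hg : A.map (MulAut.conj g).toMonoidHom ≤ Subgroup.centralizer ({a} : Set G)) : A.map (MulAut.conj g).toMonoidHom = A := by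
  have : Fact (Nat.Prime 2) := ⟨Nat.prime_two⟩
  obtain ⟨hAcomm, hAexp⟩ := hA
  have hAp : IsPGroup 2 A := by
    intro x
    refine ⟨1, ?_⟩
    apply Subtype.ext
    simpa using hAexp x x.2
  -- general TI and commuting hypotheses for pairs of conjugates
  have TI' : ∀ u v : G, A.map (MulAut.conj u).toMonoidHom ⊓ A.map (MulAut.conj v).toMonoidHom = ⊥ ∨
      A.map (MulAut.conj u).toMonoidHom = A.map (MulAut.conj v).toMonoidHom := by
    intro u v
    rcases hTI (v⁻¹ * u) with h | h
    · left
      rw [eq_bot_iff]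
      intro x hx
      rw [Subgroup.mem_inf] at hx
      obtain ⟨hx1, hx2⟩ := hx
      rw [Cfsg.Agent.Lib.H6.mem_map_conj_iff] at hx1 hx2
      have : v⁻¹ * x * v ∈ A.map (MulAut.conj (v⁻¹ * u)).toMonoidHom ⊓ A := by
        rw [Subgroup.mem_inf]
        refine ⟨?_, hx2⟩
        rw [Cfsg.Agent.Lib.H6.mem_map_conj_iff]
        have e : (v⁻¹ * u)⁻¹ * (v⁻¹ * x * v) * (v⁻¹ * u) = u⁻¹ * x * u := by group
        rw [e]; exact hx1
      rw [h, Subgroup.mem_bot] at this
      rw [Subgroup.mem_bot]
      calc x = v * (v⁻¹ * x * v) * v⁻¹ := by group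
        _ = 1 := by rw [this]; group
    · right
      have e : A.map (MulAut.conj u).toMonoidHom
          = (A.map (MulAut.conj (v⁻¹ * u)).toMonoidHom).map (MulAut.conj v).toMonoidHom := by
        rw [Cfsg.Agent.Lib.H6.map_conj_map_conj]; congr 3; group
      rw [e, h]
  have hb' : ∀ u v : G, (∀ a ∈ A.map (MulAut.conj u).toMonoidHom,
      ∀ b ∈ A.map (MulAut.conj v).toMonoidHom, a * b = b * a) →
      A.map (MulAut.conj v).toMonoidHom = A.map (MulAut.conj u).toMonoidHom := by
    intro u v h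
    have h1 := hb (u⁻¹ * v) (by
      intro a ha b hb
      rw [Cfsg.Agent.Lib.H6.mem_map_conj_iff] at hb
      have h2 := h (u * a * u⁻¹) (Cfsg.Agent.Lib.H6.conj_mem_map_conj A u ha) (u * b * u⁻¹) (by
        rw [Cfsg.Agent.Lib.H6.mem_map_conj_iff]
        have e : v⁻¹ * (u * b * u⁻¹) * v = (u⁻¹ * v)⁻¹ * b * (u⁻¹ * v) := by group
        rw [e]; exact hb)
      have e1 : u * a * u⁻¹ * (u * b * u⁻¹) = u * (a * b) * u⁻¹ := by group
      have e2 : u * b * u⁻¹ * (u * a * u⁻¹) = u * (b * a) * u⁻¹ := by group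
      rw [e1, e2] at h2
      exact mul_left_cancel (mul_right_cancel h2))
    have e : A.map (MulAut.conj v).toMonoidHom
        = (A.map (MulAut.conj (u⁻¹ * v)).toMonoidHom).map (MulAut.conj u).toMonoidHom := by
      rw [Cfsg.Agent.Lib.H6.map_conj_map_conj]; congr 3; group
    rw [e, h1]
  set B := A.map (MulAut.conj g).toMonoidHom with hB
  have hBp : IsPGroup 2 B := Cfsg.Agent.Lib.H6.isPGroup_map_conj hAp g
  -- (1) B normalises A
  have hBA : B ≤ Subgroup.normalizer (A : Set G) := by
    intro b hbB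
    rw [Cfsg.Agent.Lib.H6.mem_normalizer_iff_map_conj]
    rcases hTI b with h | h
    · exfalso
      have hcomm := (Subgroup.mem_centralizer_iff.mp (hg hbB)) a (Set.mem_singleton a)
      have : a ∈ A.map (MulAut.conj b).toMonoidHom ⊓ A := by
        rw [Subgroup.mem_inf]
        refine ⟨?_, ha⟩
        rw [Cfsg.Agent.Lib.H6.mem_map_conj_iff]
        have e : b⁻¹ * a * b = a := by
          calc b⁻¹ * a * b = b⁻¹ * (a * b) := by group
            _ = b⁻¹ * (b * a) := by rw [hcomm]
            _ = a := by group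
        rw [e]; exact ha
      rw [h, Subgroup.mem_bot] at this
      exact ha1 this
    · exact h
  -- (2) P = B ⊔ A is a 2-group
  have hP : IsPGroup 2 (B ⊔ A : Subgroup G) := IsPGroup.to_sup_of_normal_right' hBp hAp hBA
  have hPnil : Group.IsNilpotent (B ⊔ A : Subgroup G) := hP.isNilpotent
  -- (3) P normalises B
  have hPB : (B ⊔ A : Subgroup G) ≤ Subgroup.normalizer (B : Set G) := by
    by_contra hn
    obtain ⟨x, hxP, hxN, hxNN⟩ := Cfsg.Agent.Lib.H6.exists_normalizing_normalizer hPnil le_sup_left hn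
    have hB'ne : B.map (MulAut.conj x).toMonoidHom ≠ B := by
      intro h
      exact hxN ((Cfsg.Agent.Lib.H6.mem_normalizer_iff_map_conj B x).mpr h)
    have hB'N : B.map (MulAut.conj x).toMonoidHom ≤ Subgroup.normalizer (B : Set G) := by
      rintro y ⟨b, hb1, rfl⟩
      have : b ∈ Subgroup.normalizer (B : Set G) ⊓ (B ⊔ A) :=
        ⟨Subgroup.le_normalizer hb1, (le_sup_left : B ≤ B ⊔ A) hb1⟩
      have := ((hxNN b).mp this).1
      simpa [MulAut.conj_apply] using this
    have hBN' : B ≤ Subgroup.normalizer ((B.map (MulAut.conj x).toMonoidHom : Subgroup G) : Set G) := by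
      intro b hb1
      have h1 : b ∈ Subgroup.normalizer (B : Set G) ⊓ (B ⊔ A) :=
        ⟨Subgroup.le_normalizer hb1, (le_sup_left : B ≤ B ⊔ A) hb1⟩
      have h2 : x⁻¹ * b * x ∈ Subgroup.normalizer (B : Set G) ⊓ (B ⊔ A) := by
        rw [hxNN]
        have e : x * (x⁻¹ * b * x) * x⁻¹ = b := by group
        rw [e]; exact h1
      have h3 := Cfsg.Agent.Lib.H6.conj_mem_normalizer_map_conj B x h2.1
      have e : x * (x⁻¹ * b * x) * x⁻¹ = b := by group
      rw [e] at h3
      exact h3
    have hB'eq : B.map (MulAut.conj x).toMonoidHom = A.map (MulAut.conj (x * g)).toMonoidHom := by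
      rw [hB, Cfsg.Agent.Lib.H6.map_conj_map_conj]
    have hdisj : B ⊓ B.map (MulAut.conj x).toMonoidHom = ⊥ := by
      rcases TI' g (x * g) with h | h
      · rw [hB'eq]; exact h
      · exfalso; apply hB'ne; rw [hB'eq]; exact h.symm
    have hcomm := Cfsg.Agent.Lib.H6.commute_of_normalize_of_inf_eq_bot hBN' hB'N hdisj
    rw [hB'eq] at hcomm
    have := hb' g (x * g) hcomm
    apply hB'ne
    rw [hB'eq]; exact this
  -- (4) conclusion
  have hAB : A ≤ Subgroup.normalizer (B : Set G) := le_trans le_sup_right hPB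
  rcases hTI g with h | h
  · have hcomm := Cfsg.Agent.Lib.H6.commute_of_normalize_of_inf_eq_bot hAB hBA (by rw [inf_comm]; exact h)
    exact hb g hcomm
  · exact h

end Cfsg.Agent.S1177
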