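import Cfsg.Statements.S1178
import Cfsg.Agent.Lib.H6.Conj

set_option autoImplicit false
open Cfsg

namespace Cfsg.Agent.S1178

/-- Let A be a subgroup of a Sylow 2-subgroup S of the finite group G which is weakly closed in S. If a conjugate g A g⁻¹ commutes elementwise with A, then g A g⁻¹ = A. -/
theorem result {G : Type*} [Group G] [Finite G] (S : Sylow 2 G) (A : Subgroup G) (hW : Cfsg.IsWeaklyClosed A (S : Subgroup G)) (g : G) (hc : ∀ a ∈ A, ∀ b ∈ A.map (MulAut.conj g).toMonoidHom, a * b = b * a) : A.map (MulAut.conj g).toMonoidHom = A := by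
  have : Fact (Nat.Prime 2) := ⟨Nat.prime_two⟩
  obtain ⟨hAS, hwc⟩ := hW
  have hA : IsPGroup 2 A := S.2.to_le hAS
  have hB : IsPGroup 2 (A.map (MulAut.conj g).toMonoidHom) := Cfsg.Agent.Lib.H6.isPGroup_map_conj hA g
  have hnorm : A ≤ Subgroup.normalizer ((A.map (MulAut.conj g).toMonoidHom : Subgroup G) : Set G) :=
    Cfsg.Agent.Lib.H6.le_normalizer_of_commute hc
  have hAB : IsPGroup 2 (A ⊔ A.map (MulAut.conj g).toMonoidHom : Subgroup G) :=
    IsPGroup.to_sup_of_normal_right' hA hB hnorm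
  obtain ⟨Q, hQ⟩ := hAB.exists_le_sylow
  obtain ⟨h, hh⟩ := MulAction.exists_smul_eq G S Q
  have hQmem : ∀ x : G, x ∈ (Q : Subgroup G) ↔ h⁻¹ * x * h ∈ (S : Subgroup G) := by
    intro x
    rw [← hh, Sylow.coe_subgroup_smul, Subgroup.mem_pointwise_smul_iff_inv_smul_mem, MulAut.smul_def,
      ← map_inv, MulAut.conj_apply, inv_inv]
  -- A^{h⁻¹} ≤ S
  have h1 : A.map (MulAut.conj h⁻¹).toMonoidHom ≤ S := by
    intro x hx
    rw [Cfsg.Agent.Lib.H6.mem_map_conj_iff] at hx
    have hx' : h * x * h⁻¹ ∈ (Q : Subgroup G) := by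
      apply hQ
      apply (le_sup_left : A ≤ _)
      simpa using hx
    rw [hQmem] at hx'
    have : h⁻¹ * (h * x * h⁻¹) * h = x := by group
    rw [this] at hx'
    exact hx'
  have h2 : A.map (MulAut.conj (h⁻¹ * g)).toMonoidHom ≤ S := by
    intro x hx
    rw [Cfsg.Agent.Lib.H6.mem_map_conj_iff] at hx
    have hx' : h * x * h⁻¹ ∈ (Q : Subgroup G) := by
      apply hQ
      apply (le_sup_right : A.map (MulAut.conj g).toMonoidHom ≤ _)
      rw [Cfsg.Agent.Lib.H6.mem_map_conj_iff]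
      have : g⁻¹ * (h * x * h⁻¹) * g = (h⁻¹ * g)⁻¹ * x * (h⁻¹ * g) := by group
      rw [this]; exact hx
    rw [hQmem] at hx'
    have : h⁻¹ * (h * x * h⁻¹) * h = x := by group
    rw [this] at hx'
    exact hx'
  have e1 := hwc _ h1
  have e2 := hwc _ h2
  rw [Cfsg.Agent.Lib.H6.map_conj_inv_eq_iff] at e1
  have : A.map (MulAut.conj g).toMonoidHom
      = (A.map (MulAut.conj (h⁻¹ * g)).toMonoidHom).map (MulAut.conj h).toMonoidHom := by
    rw [Cfsg.Agent.Lib.H6.map_conj_map_conj]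
    congr 3
    group
  rw [this, e2, ← e1]

end Cfsg.Agent.S1178
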