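import Cfsg.Statements.S1181
import Cfsg.Agent.Lib.H6.Dihedral

set_option autoImplicit false
open Cfsg

namespace Cfsg.Agent.S1181

/-- Let z be an isolated involution of the finite group G and N a normal subgroup with z ∉ N. Then the centralizer of zN in G/N is the image of C_G(z), and zN is an isolated involution of G/N. -/
theorem result {G : Type*} [Group G] [Finite G] (z : G) (hz : Cfsg.IsIsolatedInvolution z) (N : Subgroup G) [N.Normal] (hzN : z ∉ N) : Subgroup.centralizer ({(QuotientGroup.mk z : G ⧸ N)} : Set (G ⧸ N)) = (Subgroup.centralizer ({z} : Set G)).map (QuotientGroup.mk' N) ∧ Cfsg.IsIsolatedInvolution (QuotientGroup.mk z : G ⧸ N) := by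
  have ha : z * z = 1 := Cfsg.Agent.Lib.H6.isolated_mul_self hz
  have hzinv : z⁻¹ = z := inv_eq_of_mul_eq_one_right ha
  constructor
  · apply le_antisymm
    · intro q hq
      obtain ⟨g, rfl⟩ := QuotientGroup.mk_surjective q
      rw [Subgroup.mem_centralizer_iff] at hq
      have h1 := hq _ (Set.mem_singleton _)
      -- mk (z * g) = mk (g * z)
      have h2 : ((z * g : G) : G ⧸ N) = ((g * z : G) : G ⧸ N) := by
        simpa using h1
      have h3 : (g * z)⁻¹ * (z * g) ∈ N := by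
        rw [← QuotientGroup.eq]; exact h2.symm
      -- so g z g⁻¹ z ∈ N
      have h4 : g * z * g⁻¹ * z ∈ N := by
        have hn : g * ((g * z)⁻¹ * (z * g)) * g⁻¹ ∈ N := ‹N.Normal›.conj_mem _ h3 g
        have e : g * ((g * z)⁻¹ * (z * g)) * g⁻¹ = g * z⁻¹ * g⁻¹ * z := by group
        rw [e, hzinv] at hn
        exact hn
      obtain ⟨n, -, -, hk⟩ := Cfsg.Agent.Lib.H6.isolated_exists_K hz g
      have hkN : (g * z * g⁻¹ * z) ^ n ∈ N := N.pow_mem h4 n
      refine ⟨((g * z * g⁻¹ * z) ^ n)⁻¹ * g, ?_, ?_⟩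
      · rw [SetLike.mem_coe, Subgroup.mem_centralizer_iff]
        intro y hy
        rw [Set.mem_singleton_iff] at hy
        subst hy
        calc y * (((g * y * g⁻¹ * y) ^ n)⁻¹ * g)
            = ((g * y * g⁻¹ * y) ^ n)⁻¹ * ((g * y * g⁻¹ * y) ^ n * y * ((g * y * g⁻¹ * y) ^ n)⁻¹) * g := by group
          _ = ((g * y * g⁻¹ * y) ^ n)⁻¹ * (g * y * g⁻¹) * g := by rw [hk]
          _ = ((g * y * g⁻¹ * y) ^ n)⁻¹ * g * y := by group
      · show ((((g * z * g⁻¹ * z) ^ n)⁻¹ * g : G) : G ⧸ N) = (g : G ⧸ N)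
        rw [QuotientGroup.eq]
        have e : (((g * z * g⁻¹ * z) ^ n)⁻¹ * g)⁻¹ * g = g⁻¹ * ((g * z * g⁻¹ * z) ^ n) * g⁻¹⁻¹ := by group
        rw [e]
        exact ‹N.Normal›.conj_mem _ hkN g⁻¹
    · rintro q ⟨c, hc, rfl⟩
      rw [SetLike.mem_coe, Subgroup.mem_centralizer_iff] at hc
      rw [Subgroup.mem_centralizer_iff]
      intro y hy
      rw [Set.mem_singleton_iff] at hy
      subst hy
      have := hc z (Set.mem_singleton z)
      show ((z : G) : G ⧸ N) * ((c : G) : G ⧸ N) = ((c : G) : G ⧸ N) * ((z : G) : G ⧸ N)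
      rw [← QuotientGroup.mk_mul, ← QuotientGroup.mk_mul, this]
  · have hz1 : ((z : G) : G ⧸ N) ≠ 1 := by
      intro h
      exact hzN ((QuotientGroup.eq_one_iff z).mp h)
    have hzz : ((z : G) : G ⧸ N) * ((z : G) : G ⧸ N) = 1 := by
      rw [← QuotientGroup.mk_mul, ha]; rfl
    refine ⟨?_, ?_⟩
    · have : Fact (Nat.Prime 2) := ⟨Nat.prime_two⟩
      exact orderOf_eq_prime (by rw [pow_two]; exact hzz) hz1
    · intro q hq
      obtain ⟨g, rfl⟩ := QuotientGroup.mk_surjective q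
      have hodd := Cfsg.Agent.Lib.H6.isolated_odd_orderOf hz g
      set w : G ⧸ N := ((g : G) : G ⧸ N) * ((z : G) : G ⧸ N) * ((g : G) : G ⧸ N)⁻¹ with hw
      have hww : w * w = 1 := Cfsg.Agent.Lib.H6.conj_mul_self hzz _
      have hx : ((z * (g * z * g⁻¹) : G) : G ⧸ N) = ((z : G) : G ⧸ N) * w := by
        simp [hw]
      have h2 : (((z : G) : G ⧸ N) * w) ^ 2 = 1 := by
        rw [pow_two]
        calc ((z : G) : G ⧸ N) * w * (((z : G) : G ⧸ N) * w)
            = ((z : G) : G ⧸ N) * (w * ((z : G) : G ⧸ N)) * w := by group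
          _ = ((z : G) : G ⧸ N) * (((z : G) : G ⧸ N) * w) * w := by rw [hq.eq]
          _ = (((z : G) : G ⧸ N) * ((z : G) : G ⧸ N)) * (w * w) := by group
          _ = 1 := by rw [hzz, hww, one_mul]
      have hn : (((z : G) : G ⧸ N) * w) ^ orderOf (z * (g * z * g⁻¹)) = 1 := by
        rw [← hx, ← QuotientGroup.mk_pow, pow_orderOf_eq_one]; rfl
      have h1 : ((z : G) : G ⧸ N) * w = 1 := by
        have hd1 := orderOf_dvd_of_pow_eq_one h2
        have hd2 := orderOf_dvd_of_pow_eq_one hn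
        have hd := Nat.dvd_gcd hd1 hd2
        have hc : Nat.gcd 2 (orderOf (z * (g * z * g⁻¹))) = 1 := by
          exact Nat.coprime_two_left.mpr hodd
        rw [hc, Nat.dvd_one] at hd
        exact orderOf_eq_one_iff.mp hd
      calc w = (((z : G) : G ⧸ N) * ((z : G) : G ⧸ N)) * w := by rw [hzz, one_mul]
        _ = ((z : G) : G ⧸ N) * (((z : G) : G ⧸ N) * w) := by group
        _ = ((z : G) : G ⧸ N) := by rw [h1, mul_one]

end Cfsg.Agent.S1181
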