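import Cfsg.Statements.S1183
import Cfsg.Agent.Lib.H6.Isolated
import Cfsg.Agent.Lib.H6.PResidual
import Cfsg.Agent.S1182
import Cfsg.Agent.S1241

set_option autoImplicit false
open Cfsg

namespace Cfsg.Agent.S1183

/-- The transfer direction. -/
theorem aux {G : Type*} [Group G] [Finite G] (z : G) (hz : Cfsg.IsIsolatedInvolution z)
    (hG : Cfsg.pResidual 2 G = ⊤)
    (hNn : (Cfsg.pResidual 2 ↥(Subgroup.centralizer ({z} : Set G))).Normal)
    (hlt : commutator (↥(Subgroup.centralizer ({z} : Set G)) ⧸
        Cfsg.pResidual 2 ↥(Subgroup.centralizer ({z} : Set G))) < ⊤) : False := by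
  have : Fact (Nat.Prime 2) := ⟨Nat.prime_two⟩
  have hidx := Cfsg.Agent.Lib.H6.isolated_centralizer_index_odd hz
  set C := Subgroup.centralizer ({z} : Set G) with hCdef
  set N := Cfsg.pResidual 2 ↥C with hNdef
  -- K₀ : preimage of the commutator subgroup of C/N
  set K₀ : Subgroup ↥C := (commutator (↥C ⧸ N)).comap (QuotientGroup.mk' N) with hK₀
  have hK₀n : K₀.Normal := by rw [hK₀]; infer_instance
  have hNK₀ : N ≤ K₀ := by
    intro x hx
    rw [hK₀, Subgroup.mem_comap]
    have : QuotientGroup.mk' N x = 1 := (QuotientGroup.eq_one_iff x).mpr hx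
    rw [this]; exact Subgroup.one_mem _
  have hK₀top : K₀ ≠ ⊤ := by
    intro h
    apply hlt.ne
    rw [eq_top_iff]
    intro q _
    obtain ⟨c, rfl⟩ := QuotientGroup.mk_surjective q
    have : c ∈ K₀ := by rw [h]; trivial
    rw [hK₀, Subgroup.mem_comap] at this
    exact this
  have hcomm : ∀ x y : ↥C, x * y * x⁻¹ * y⁻¹ ∈ K₀ := by
    intro x y
    rw [hK₀, Subgroup.mem_comap, commutator_def]
    have h1 := Subgroup.commutator_mem_commutator (H₁ := ⊤) (H₂ := ⊤)
      (Subgroup.mem_top (QuotientGroup.mk' N x)) (Subgroup.mem_top (QuotientGroup.mk' N y))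
    rw [commutatorElement_def] at h1
    simpa using h1
  -- pick c ∉ K₀ and its 2-part t
  obtain ⟨c, hc⟩ : ∃ c : ↥C, c ∉ K₀ := by
    by_contra h
    push Not at h
    exact hK₀top (eq_top_iff.mpr fun x _ => h x)
  have hpos : 0 < orderOf c := orderOf_pos c
  obtain ⟨a, b, hb, hab⟩ := Nat.exists_eq_pow_mul_and_not_dvd hpos.ne' 2 (by norm_num)
  have hb2 : Nat.Coprime b 2 := ((Nat.Prime.coprime_iff_not_dvd Nat.prime_two).mpr hb).symm
  have h2a : c ^ 2 ^ a ∈ K₀ := by
    apply hNK₀
    apply Subgroup.subset_closure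
    show Nat.Coprime (orderOf (c ^ 2 ^ a)) 2
    have h1 : orderOf (c ^ 2 ^ a) ∣ b := by
      apply orderOf_dvd_of_pow_eq_one
      rw [← pow_mul, ← hab, pow_orderOf_eq_one]
    exact Nat.Coprime.coprime_dvd_left h1 hb2
  have htK : c ^ b ∉ K₀ := by
    intro h
    exact hc (Cfsg.Agent.Lib.H6.mem_of_pow_mem_of_coprime (Nat.Coprime.pow_left a hb2.symm) h2a h)
  have htpow : (c ^ b) ^ 2 ^ a = 1 := by
    rw [← pow_mul, mul_comm, ← hab, pow_orderOf_eq_one]
  -- apply the transfer lemma S1241
  have hres := Cfsg.Agent.S1241.result (p := 2) C (K₀.map C.subtype) (Subgroup.map_subtype_le K₀)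
    (by
      have : (K₀.map C.subtype).subgroupOf C = K₀ := by
        rw [Subgroup.subgroupOf, Subgroup.comap_map_eq_self_of_injective (Subgroup.subtype_injective C)]
      rw [this]; exact hK₀n)
    (by
      intro x hx y hy
      exact ⟨_, hcomm ⟨x, hx⟩ ⟨y, hy⟩, rfl⟩)
    hidx ((c ^ b : ↥C) : G) (c ^ b : ↥C).2
    (by
      rintro ⟨w, hw, hwe⟩
      have : w = c ^ b := Subtype.ext hwe
      rw [this] at hw
      exact htK hw)
    (by
      have hd : orderOf ((c ^ b : ↥C) : G) ∣ 2 ^ a := by
        apply orderOf_dvd_of_pow_eq_one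
        have := congrArg Subtype.val htpow
        simpa using this
      obtain ⟨j, -, hj⟩ := (Nat.dvd_prime_pow Nat.prime_two).mp hd
      exact ⟨j, hj⟩)
    (by
      intro m g hg
      set x : G := ((c ^ b : ↥C) : G) ^ m with hx
      have hxC : x ∈ C := C.zpow_mem (c ^ b : ↥C).2 m
      have hxz : Commute x z := by
        have := (Subgroup.mem_centralizer_iff.mp hxC) z (Set.mem_singleton z)
        exact this.symm
      have hyz : Commute (g * x * g⁻¹) z := by
        have := (Subgroup.mem_centralizer_iff.mp hg) z (Set.mem_singleton z)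
        exact this.symm
      obtain ⟨d, -, hdz, hd⟩ := Cfsg.Agent.S1182.result z hz ⊤ (Subgroup.mem_normalizer_iff.mpr (fun h => ⟨fun _ => Subgroup.mem_top _, fun _ => Subgroup.mem_top _⟩)) x (g * x * g⁻¹)
        (Subgroup.mem_top _) (Subgroup.mem_top _) hxz hyz g (Subgroup.mem_top _) rfl
      have hdC : d ∈ C := by
        rw [hCdef, Subgroup.mem_centralizer_iff]
        intro y hy
        rw [Set.mem_singleton_iff] at hy
        subst hy
        exact hdz.eq.symm
      rw [← hd]
      exact ⟨_, hcomm ⟨d, hdC⟩ ⟨x, hxC⟩, rfl⟩)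
  apply hres
  apply Cfsg.Agent.Lib.H6.mem_commutator_of_pResidual_eq_top 2 hG _ a
  have := congrArg Subtype.val htpow
  simpa using this


/-- Let z be an isolated involution of the finite group G and C = C_G(z). Then the subgroup of G generated by its elements of odd order is all of G if and only if the subgroup of C generated by its elements of odd order is all of C. -/
theorem result {G : Type*} [Group G] [Finite G] (z : G) (hz : Cfsg.IsIsolatedInvolution z) : Cfsg.pResidual 2 G = ⊤ ↔ Cfsg.pResidual 2 ↥(Subgroup.centralizer ({z} : Set G)) = ⊤ := by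
  have : Fact (Nat.Prime 2) := ⟨Nat.prime_two⟩
  have hidx := Cfsg.Agent.Lib.H6.isolated_centralizer_index_odd hz
  have ha : z * z = 1 := Cfsg.Agent.Lib.H6.isolated_mul_self hz
  constructor
  · -- (⇒) transfer
    intro hG
    by_contra hC
    have hNn : (Cfsg.pResidual 2 ↥(Subgroup.centralizer ({z} : Set G))).Normal :=
      Cfsg.Agent.Lib.H6.pResidual_normal 2
    have hQp := Cfsg.Agent.Lib.H6.isPGroup_quotient_pResidual
      (G := ↥(Subgroup.centralizer ({z} : Set G))) 2
    have hQnt : Nontrivial (↥(Subgroup.centralizer ({z} : Set G)) ⧸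
        Cfsg.pResidual 2 ↥(Subgroup.centralizer ({z} : Set G))) :=
      QuotientGroup.nontrivial_iff.mpr hC
    have hQnil := hQp.isNilpotent
    have hlt := Group.IsSolvable.commutator_lt_top_of_nontrivial (↥(Subgroup.centralizer ({z} : Set G)) ⧸
        Cfsg.pResidual 2 ↥(Subgroup.centralizer ({z} : Set G)))
    exact Cfsg.Agent.S1183.aux z hz hG hNn hlt
  · intro hC
    apply Cfsg.Agent.Lib.H6.pResidual_eq_top_of_le 2 (Subgroup.centralizer ({z} : Set G)) hidx
    intro c hc
    have hmem : (⟨c, hc⟩ : ↥(Subgroup.centralizer ({z} : Set G))) ∈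
        Cfsg.pResidual 2 ↥(Subgroup.centralizer ({z} : Set G)) := by rw [hC]; trivial
    have key : ∀ x ∈ Cfsg.pResidual 2 ↥(Subgroup.centralizer ({z} : Set G)),
        (x : G) ∈ Cfsg.pResidual 2 G := by
      intro x hx
      unfold Cfsg.pResidual at hx
      induction hx using Subgroup.closure_induction with
      | mem y hy =>
        apply Subgroup.subset_closure
        show Nat.Coprime (orderOf (y : G)) 2
        rw [Subgroup.orderOf_coe]; exact hy
      | one => exact Subgroup.one_mem _
      | mul x y _ _ hx hy => exact Subgroup.mul_mem _ hx hy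
      | inv x _ hx => exact Subgroup.inv_mem _ hx
    exact key _ hmem

end Cfsg.Agent.S1183
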