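import Cfsg.Statements.S1186
import Cfsg.Agent.Lib.H6.Isolated2

set_option autoImplicit false
open Cfsg

namespace Cfsg.Agent.S1186

open Cfsg.Agent.Lib.H6

variable {G : Type*} [Group G]

/-- membership of the centralizer coset in terms of conjugates. -/
theorem memC (z g k : G) :
    g⁻¹ * k ∈ Subgroup.centralizer ({z} : Set G) ↔ k * z * k⁻¹ = g * z * g⁻¹ := by
  rw [Subgroup.mem_centralizer_iff]
  constructor
  · intro h
    have := h z (Set.mem_singleton z)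
    calc k * z * k⁻¹ = g * (g⁻¹ * k * z) * k⁻¹ := by group
      _ = g * (z * (g⁻¹ * k)) * k⁻¹ := by rw [this]
      _ = g * z * g⁻¹ := by group
  · intro h y hy
    rw [Set.mem_singleton_iff] at hy
    subst hy
    calc y * (g⁻¹ * k) = g⁻¹ * (g * y * g⁻¹) * k := by group
      _ = g⁻¹ * (k * y * k⁻¹) * k := by rw [h]
      _ = g⁻¹ * k * y := by group

/-- injectivity of `k ↦ k z k⁻¹` on the odd-order elements inverted by `z`. -/
theorem K_inj [Finite G] {z : G} (hz : Cfsg.IsIsolatedInvolution z) {k k' : G}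
    (hk : Odd (orderOf k) ∧ z * k * z⁻¹ = k⁻¹) (hk' : Odd (orderOf k') ∧ z * k' * z⁻¹ = k'⁻¹)
    (h : k * z * k⁻¹ = k' * z * k'⁻¹) : k = k' := by
  obtain ⟨x, -, hx⟩ := Cfsg.Agent.S1185.result z hz k
  have h1 := hx k ⟨hk, (memC z k k).mpr rfl⟩
  have h2 := hx k' ⟨hk', (memC z k k').mpr h.symm⟩
  rw [h1, h2]

/-- the odd-order elements inverted by `z` and commuting with `t ∈ C(z)` correspond to the conjugates of `z`
commuting with `t`. -/
theorem card_K_eq [Finite G] {z : G} (hz : Cfsg.IsIsolatedInvolution z) (t : G) (ht : Commute t z) :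
    Nat.card {k : G // Odd (orderOf k) ∧ z * k * z⁻¹ = k⁻¹ ∧ Commute k t} =
      Nat.card {ω : G // (∃ g, g * z * g⁻¹ = ω) ∧ t * ω * t⁻¹ = ω} := by
  have hzz := isolated_mul_self hz
  have hzinv : z⁻¹ = z := inv_eq_of_mul_eq_one_right hzz
  have htz : t * z = z * t := ht.eq
  have htz' : t⁻¹ * z = z * t⁻¹ := (ht.inv_left).eq
  apply Nat.card_congr
  refine Equiv.ofBijective (fun k => ⟨k.1 * z * k.1⁻¹, ⟨k.1, rfl⟩, ?_⟩) ⟨?_, ?_⟩
  · have hc : k.1 * t = t * k.1 := k.2.2.2.eq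
    have hc' : t * k.1⁻¹ = k.1⁻¹ * t := by
      calc t * k.1⁻¹ = k.1⁻¹ * (k.1 * t) * k.1⁻¹ := by group
        _ = k.1⁻¹ * (t * k.1) * k.1⁻¹ := by rw [hc]
        _ = k.1⁻¹ * t := by group
    calc t * (k.1 * z * k.1⁻¹) * t⁻¹ = (t * k.1) * z * (k.1⁻¹ * t⁻¹) := by group
      _ = (k.1 * t) * z * (k.1⁻¹ * t⁻¹) := by rw [hc]
      _ = k.1 * (t * z) * k.1⁻¹ * t⁻¹ := by group
      _ = k.1 * (z * t) * k.1⁻¹ * t⁻¹ := by rw [htz]
      _ = k.1 * z * (t * k.1⁻¹) * t⁻¹ := by group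
      _ = k.1 * z * (k.1⁻¹ * t) * t⁻¹ := by rw [hc']
      _ = k.1 * z * k.1⁻¹ := by group
  · rintro ⟨k, hk1, hk2, hk3⟩ ⟨k', hk1', hk2', hk3'⟩ h
    simp only [Subtype.mk.injEq] at h
    have := K_inj hz ⟨hk1, hk2⟩ ⟨hk1', hk2'⟩ h
    subst this
    rfl
  · rintro ⟨ω, ⟨g, hg⟩, hω⟩
    obtain ⟨k, ⟨⟨hk1, hk2⟩, hk3⟩, -⟩ := Cfsg.Agent.S1185.result z hz g
    rw [memC] at hk3
    -- t k t⁻¹ is again such an element, with the same conjugate
    have hk' : Odd (orderOf (t * k * t⁻¹)) ∧ z * (t * k * t⁻¹) * z⁻¹ = (t * k * t⁻¹)⁻¹ := by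
      constructor
      · have : t * k * t⁻¹ = (MulAut.conj t) k := rfl
        rw [this, MulEquiv.orderOf_eq]; exact hk1
      · have htz'' : t⁻¹ * z⁻¹ = z⁻¹ * t⁻¹ := by rw [← mul_inv_rev, ← mul_inv_rev, htz]
        calc z * (t * k * t⁻¹) * z⁻¹ = (z * t) * k * (t⁻¹ * z⁻¹) := by group
          _ = (t * z) * k * (z⁻¹ * t⁻¹) := by rw [htz, htz'']
          _ = t * (z * k * z⁻¹) * t⁻¹ := by group
          _ = (t * k * t⁻¹)⁻¹ := by rw [hk2]; group
    have hconj : (t * k * t⁻¹) * z * (t * k * t⁻¹)⁻¹ = k * z * k⁻¹ := by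
      have e1 : (t * k * t⁻¹) * z * (t * k * t⁻¹)⁻¹ = t * (k * (t⁻¹ * z * t) * k⁻¹) * t⁻¹ := by group
      have e2 : t⁻¹ * z * t = z := by rw [htz']; group
      rw [e1, e2, hk3, hg, hω]
    have heq := K_inj hz hk' ⟨hk1, hk2⟩ hconj
    have hcomm : Commute k t := by
      show k * t = t * k
      calc k * t = (t * k * t⁻¹) * t := by rw [heq]
        _ = t * k := by group
    refine ⟨⟨k, hk1, hk2, hcomm⟩, ?_⟩
    simp only [Subtype.mk.injEq]
    rw [hk3, hg]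

theorem class_conj {z ω : G} (h : ∃ g, g * z * g⁻¹ = ω) (a : G) : ∃ g, g * z * g⁻¹ = a * ω * a⁻¹ := by
  obtain ⟨g, rfl⟩ := h
  exact ⟨a * g, by group⟩

/-- the conjugates of `z` factor as (those commuting with `s`) × (those commuting with `s z`). -/
theorem card_Omega [Finite G] {z s : G} (hz : Cfsg.IsIsolatedInvolution z) (hs : orderOf s = 2)
    (hsz : Commute s z) :
    Nat.card {ω : G // ∃ g, g * z * g⁻¹ = ω} =
      Nat.card {ω : G // (∃ g, g * z * g⁻¹ = ω) ∧ s * ω * s⁻¹ = ω} *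
        Nat.card {ω : G // (∃ g, g * z * g⁻¹ = ω) ∧ (s * z) * ω * (s * z)⁻¹ = ω} := by
  have hss : s * s = 1 := by
    have := pow_orderOf_eq_one s
    rwa [hs, pow_two] at this
  have hsinv : s⁻¹ = s := inv_eq_of_mul_eq_one_right hss
  have hmid : ∀ ω : {ω : G // ∃ g, g * z * g⁻¹ = ω}, ∃ c : G, (∃ g, g * z * g⁻¹ = c) ∧
      c * ω.1 * c⁻¹ = s * ω.1 * s⁻¹ := fun ω => midpoint_exists hz ω.2 (class_conj ω.2 s)
  choose m hm1 hm2 using hmid
  have hfix : ∀ ω, s * m ω * s⁻¹ = m ω := by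
    intro ω
    have hminv := conj_inv_self hz (hm1 ω)
    have hmm : m ω * m ω = 1 := by
      calc m ω * m ω = (m ω)⁻¹ * m ω := by rw [hminv]
        _ = 1 := by group
    apply midpoint_unique hz (class_conj ω.2 s) (class_conj (hm1 ω) s) (hm1 ω)
    have e1 : s * m ω * s⁻¹ * (s * ω.1 * s⁻¹) * (s * m ω * s⁻¹)⁻¹ = s * (m ω * ω.1 * (m ω)⁻¹) * s⁻¹ := by
      group
    have e3 : s * (s * ω.1 * s⁻¹) * s⁻¹ = (s * s) * ω.1 * (s * s)⁻¹ := by group
    have e4 : m ω * (m ω * ω.1 * (m ω)⁻¹) * (m ω)⁻¹ = (m ω * m ω) * ω.1 * (m ω * m ω)⁻¹ := by group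
    calc s * m ω * s⁻¹ * (s * ω.1 * s⁻¹) * (s * m ω * s⁻¹)⁻¹
        = s * (m ω * ω.1 * (m ω)⁻¹) * s⁻¹ := e1
      _ = s * (s * ω.1 * s⁻¹) * s⁻¹ := by rw [hm2 ω]
      _ = ω.1 := by rw [e3, hss]; group
      _ = (m ω * m ω) * ω.1 * (m ω * m ω)⁻¹ := by rw [hmm]; group
      _ = m ω * (m ω * ω.1 * (m ω)⁻¹) * (m ω)⁻¹ := e4.symm
      _ = m ω * (s * ω.1 * s⁻¹) * (m ω)⁻¹ := by rw [hm2 ω]
  apply card_eq_mul_of_fibers
    (fun ω => (⟨m ω, hm1 ω, hfix ω⟩ : {ω : G // (∃ g, g * z * g⁻¹ = ω) ∧ s * ω * s⁻¹ = ω}))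
  rintro ⟨c, hc1, hc2⟩
  have hcinv := conj_inv_self hz hc1
  have hsc : s * c = c * s := by
    calc s * c = (s * c * s⁻¹) * s := by group
      _ = c * s := by rw [hc2]
  -- an element of C(s) conjugating z to c
  obtain ⟨g, hg⟩ := hc1
  have hzH : z ∈ Subgroup.centralizer ({s} : Set G) := by
    rw [Subgroup.mem_centralizer_iff]
    intro y hy
    rw [Set.mem_singleton_iff] at hy
    rw [hy]; exact hsz.eq
  have hcH : g * z * g⁻¹ ∈ Subgroup.centralizer ({s} : Set G) := by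
    rw [Subgroup.mem_centralizer_iff]
    intro y hy
    rw [Set.mem_singleton_iff] at hy
    rw [hy, hg]; exact hsc
  obtain ⟨h, hhC, hh⟩ := Cfsg.Agent.S1180.result z hz _ hzH g hcH
  rw [hg] at hh
  have hhs : s * h = h * s := by
    rw [Subgroup.mem_centralizer_iff] at hhC
    exact hhC s rfl
  have hszc : h * (s * z) * h⁻¹ = s * c := by
    calc h * (s * z) * h⁻¹ = (h * s) * z * h⁻¹ := by group
      _ = (s * h) * z * h⁻¹ := by rw [hhs]
      _ = s * (h * z * h⁻¹) := by group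
      _ = s * c := by rw [hh]
  -- characterisation of the fibre
  have hfib : ∀ ω : {ω : G // ∃ g, g * z * g⁻¹ = ω},
      (⟨m ω, hm1 ω, hfix ω⟩ : {ω : G // (∃ g, g * z * g⁻¹ = ω) ∧ s * ω * s⁻¹ = ω}) = ⟨c, ⟨g, hg⟩, hc2⟩ ↔
        (s * z) * (h⁻¹ * ω.1 * h) * (s * z)⁻¹ = h⁻¹ * ω.1 * h := by
    intro ω
    rw [Subtype.mk.injEq]
    have key : c * ω.1 * c⁻¹ = s * ω.1 * s⁻¹ ↔
        (s * z) * (h⁻¹ * ω.1 * h) * (s * z)⁻¹ = h⁻¹ * ω.1 * h := by
      have e1 : (s * z) * (h⁻¹ * ω.1 * h) * (s * z)⁻¹ =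
          h⁻¹ * ((h * (s * z) * h⁻¹) * ω.1 * (h * (s * z) * h⁻¹)⁻¹) * h := by group
      rw [e1, hszc]
      constructor
      · intro hcs
        have e2 : s * c * ω.1 * (s * c)⁻¹ = s * (c * ω.1 * c⁻¹) * s⁻¹ := by group
        have e3 : s * (s * ω.1 * s⁻¹) * s⁻¹ = (s * s) * ω.1 * (s * s)⁻¹ := by group
        rw [e2, hcs, e3, hss]; group
      · intro hfx
        have hfx' : s * c * ω.1 * (s * c)⁻¹ = ω.1 := by
          calc s * c * ω.1 * (s * c)⁻¹ = h * (h⁻¹ * (s * c * ω.1 * (s * c)⁻¹) * h) * h⁻¹ := by group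
            _ = h * (h⁻¹ * ω.1 * h) * h⁻¹ := by rw [hfx]
            _ = ω.1 := by group
        calc c * ω.1 * c⁻¹ = s⁻¹ * (s * c * ω.1 * (s * c)⁻¹) * s := by group
          _ = s⁻¹ * ω.1 * s := by rw [hfx']
          _ = s * ω.1 * s⁻¹ := by rw [hsinv]
    rw [← key]
    constructor
    · intro hmc
      rw [← hmc]; exact hm2 ω
    · intro hcs
      exact midpoint_unique hz ω.2 (hm1 ω) ⟨g, hg⟩ (by rw [hm2 ω, hcs])
  -- the equivalence
  let e : {ω : G // ∃ g, g * z * g⁻¹ = ω} ≃ {ω : G // ∃ g, g * z * g⁻¹ = ω} :=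
    { toFun := fun ω => ⟨h⁻¹ * ω.1 * h, by
        have := class_conj ω.2 h⁻¹
        rwa [inv_inv] at this⟩
      invFun := fun ω => ⟨h * ω.1 * h⁻¹, class_conj ω.2 h⟩
      left_inv := by
        intro ω
        apply Subtype.ext
        show h * (h⁻¹ * ω.1 * h) * h⁻¹ = ω.1
        group
      right_inv := by
        intro ω
        apply Subtype.ext
        show h⁻¹ * (h * ω.1 * h⁻¹) * h = ω.1
        group }
  refine Nat.card_congr ((Equiv.subtypeEquiv e ?_).trans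
    (Equiv.subtypeSubtypeEquivSubtypeInter (fun ω : G => ∃ g, g * z * g⁻¹ = ω)
      (fun ω : G => (s * z) * ω * (s * z)⁻¹ = ω)))
  intro ω
  exact hfib ω

/-- `|G| = |C_G(z)| · |K|`. -/
theorem card_G [Finite G] {z : G} (hz : Cfsg.IsIsolatedInvolution z) :
    Nat.card G = Nat.card (Subgroup.centralizer ({z} : Set G)) *
      Nat.card {k : G // Odd (orderOf k) ∧ z * k * z⁻¹ = k⁻¹} := by
  rw [mul_comm, ← Nat.card_prod]
  symm
  apply Nat.card_congr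
  refine Equiv.ofBijective (fun p => p.1.1 * p.2.1) ⟨?_, ?_⟩
  · rintro ⟨⟨k, hk⟩, ⟨c, hc⟩⟩ ⟨⟨k', hk'⟩, ⟨c', hc'⟩⟩ h
    simp only at h
    have h1 : k⁻¹ * k' ∈ Subgroup.centralizer ({z} : Set G) := by
      have : k⁻¹ * k' = c * c'⁻¹ := by
        calc k⁻¹ * k' = k⁻¹ * (k' * c') * c'⁻¹ := by group
          _ = k⁻¹ * (k * c) * c'⁻¹ := by rw [h]
          _ = c * c'⁻¹ := by group
      rw [this]
      exact Subgroup.mul_mem _ hc (Subgroup.inv_mem _ hc')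
    rw [memC] at h1
    have h2 := K_inj hz hk hk' h1.symm
    subst h2
    have h3 : c = c' := mul_left_cancel h
    subst h3
    rfl
  · intro g
    obtain ⟨k, ⟨hk, hk3⟩, -⟩ := Cfsg.Agent.S1185.result z hz g
    refine ⟨⟨⟨k, hk⟩, ⟨(g⁻¹ * k)⁻¹, Subgroup.inv_mem _ hk3⟩⟩, ?_⟩
    show k * (g⁻¹ * k)⁻¹ = g
    group

/-- Let z be an isolated involution of the finite group G, C = C_G(z), K the set of elements of odd order inverted by z, and s an involution of C. Then |G| = |C| · |C_K(sz)| · |C_K(s)|. -/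
theorem result {G : Type*} [Group G] [Finite G] (z : G) (hz : Cfsg.IsIsolatedInvolution z) (s : G) (hs : orderOf s = 2) (hsz : Commute s z) : Nat.card G = Nat.card (Subgroup.centralizer ({z} : Set G)) * Nat.card {k : G // Odd (orderOf k) ∧ z * k * z⁻¹ = k⁻¹ ∧ Commute k (s * z)} * Nat.card {k : G // Odd (orderOf k) ∧ z * k * z⁻¹ = k⁻¹ ∧ Commute k s} := by

  have h1 := card_G hz
  have h2 : Nat.card {k : G // Odd (orderOf k) ∧ z * k * z⁻¹ = k⁻¹} =
      Nat.card {k : G // Odd (orderOf k) ∧ z * k * z⁻¹ = k⁻¹ ∧ Commute k 1} :=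
    Nat.card_congr (Equiv.subtypeEquivRight (fun k => by simp))
  have h3 := card_K_eq hz 1 (Commute.one_left z)
  have h4 : Nat.card {ω : G // (∃ g, g * z * g⁻¹ = ω) ∧ 1 * ω * 1⁻¹ = ω} =
      Nat.card {ω : G // ∃ g, g * z * g⁻¹ = ω} :=
    Nat.card_congr (Equiv.subtypeEquivRight (fun k => by simp))
  have h5 := card_Omega hz hs hsz
  have h6 := card_K_eq hz s hsz
  have hszz : Commute (s * z) z := hsz.mul_left (Commute.refl z)
  have h7 := card_K_eq hz (s * z) hszz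
  rw [h1, h2, h3, h4, h5, h6, h7]
  ring

end Cfsg.Agent.S1186
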