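import Cfsg.Statements.S1187
import Mathlib
import Cfsg.Agent.Lib.H1.ZStar
import Cfsg.Agent.Lib.H6.Dihedral
import Cfsg.Agent.Lib.H1.CoprimeSylow

set_option autoImplicit false
open Cfsg

namespace Cfsg.Agent.S1187

/-- Let z be an isolated involution of the finite group G and p a prime. If Q is a p-subgroup normalized by z that is maximal among p-subgroups normalized by z, then Q is a Sylow p-subgroup of G. -/
theorem result {G : Type*} [Group G] [Finite G] (z : G) (hz : Cfsg.IsIsolatedInvolution z) {p : ℕ} [Fact p.Prime] (Q : Subgroup G) (hQ : IsPGroup p Q) (hzQ : z ∈ Subgroup.normalizer (Q : Set G)) (hmax : ∀ R : Subgroup G, IsPGroup p R → z ∈ Subgroup.normalizer (R : Set G) → Q ≤ R → R = Q) : ∃ P : Sylow p G, (P : Subgroup G) = Q := by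
  have hp : p.Prime := Fact.out
  have hz2 : orderOf z = 2 := hz.1
  by_cases hp2 : p = 2
  · subst hp2
    -- `z` lies in `Q`
    have hzp : IsPGroup 2 (Subgroup.zpowers z) := by
      apply IsPGroup.of_card (n := 1)
      rw [Nat.card_zpowers, hz2, pow_one]
    have hzle : Subgroup.zpowers z ≤ Subgroup.normalizer (Q : Set G) := by
      rw [Subgroup.zpowers_le]; exact hzQ
    have hR : IsPGroup 2 (Q ⊔ Subgroup.zpowers z : Subgroup G) :=
      IsPGroup.to_sup_of_normal_left' hQ hzp hzle
    have hzR : z ∈ (Q ⊔ Subgroup.zpowers z : Subgroup G) :=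
      Subgroup.mem_sup_right (Subgroup.mem_zpowers z)
    have h1 := hmax _ hR (Subgroup.le_normalizer hzR) le_sup_left
    have hzQ' : z ∈ Q := by rw [← h1]; exact hzR
    obtain ⟨P, hP⟩ := hQ.exists_le_sylow
    refine ⟨P, hmax _ P.2 (Subgroup.le_normalizer (hP hzQ')) hP⟩
  · -- `p` odd
    have hpodd : p.Coprime 2 := (Nat.coprime_primes hp Nat.prime_two).mpr hp2
    have hON : (Cfsg.oddCore G).Normal := Cfsg.Agent.Lib.H22.pPrimeCore_normal 2
    have hOodd : (Nat.card (Cfsg.oddCore G)).Coprime 2 :=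
      Cfsg.Agent.Lib.H22.card_pPrimeCore_coprime 2
    have hzs : ∀ g : G, z * g * z⁻¹ * g⁻¹ ∈ Cfsg.oddCore G := by
      apply Cfsg.Agent.Lib.H1.ZStar.zstar z
      refine ⟨hz.1, fun g => ?_⟩
      have ha : z * z = 1 := Cfsg.Agent.Lib.H6.isolated_mul_self hz
      have hzinv : z⁻¹ = z := inv_eq_of_mul_eq_one_right ha
      have : z * g * z⁻¹ * g⁻¹ = z * (g * z * g⁻¹) := by rw [hzinv]; group
      rw [this]
      exact Cfsg.Agent.Lib.H6.isolated_odd_orderOf hz g
    set π := QuotientGroup.mk' (Cfsg.oddCore G) with hπ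
    obtain ⟨Pb, hPb⟩ := (hQ.map π).exists_le_sylow
    set K : Subgroup G := (Pb : Subgroup (G ⧸ Cfsg.oddCore G)).comap π with hK
    have hQK : Q ≤ K := Subgroup.map_le_iff_le_comap.mp hPb
    have hπz : ∀ k : G, π (z * k * z⁻¹) = π k := by
      intro k
      have : z * k * z⁻¹ = (z * k * z⁻¹ * k⁻¹) * k := by group
      rw [this, map_mul]
      have h1 : π (z * k * z⁻¹ * k⁻¹) = 1 := (QuotientGroup.eq_one_iff _).mpr (hzs k)
      rw [h1, one_mul]
    have hzK : z ∈ Subgroup.normalizer (K : Set G) := by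
      rw [Subgroup.mem_normalizer_iff]
      intro k
      rw [hK, Subgroup.mem_comap, Subgroup.mem_comap, hπz]
    -- the order of `K`
    have hsurj : Function.Surjective π := QuotientGroup.mk'_surjective _
    have hidx : K.index = (Pb : Subgroup (G ⧸ Cfsg.oddCore G)).index :=
      Subgroup.index_comap_of_surjective _ hsurj
    have hcardK : Nat.card K = Nat.card (Pb : Subgroup (G ⧸ Cfsg.oddCore G)) *
        Nat.card (Cfsg.oddCore G) := by
      have h1 := Subgroup.card_mul_index K
      have h2 := Subgroup.card_mul_index (Pb : Subgroup (G ⧸ Cfsg.oddCore G))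
      have h3 := Subgroup.card_eq_card_quotient_mul_card_subgroup (Cfsg.oddCore G)
      have hpos : 0 < K.index := Nat.pos_of_ne_zero Subgroup.index_ne_zero_of_finite
      apply Nat.eq_of_mul_eq_mul_right hpos
      rw [h1, h3, ← h2, hidx]
      ring
    obtain ⟨a, ha⟩ := IsPGroup.iff_card.mp Pb.2
    have hK2 : (Nat.card K).Coprime 2 := by
      rw [hcardK, ha]
      exact Nat.Coprime.mul_left (Nat.Coprime.pow_left a hpodd) hOodd
    have hpidx : ¬ p ∣ K.index := by
      rw [hidx]; exact Pb.not_dvd_index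
    -- coprime action
    have hzle : Subgroup.zpowers z ≤ Subgroup.normalizer (K : Set G) := by
      rw [Subgroup.zpowers_le]; exact hzK
    have hact : Cfsg.Agent.Lib.H1.CoprimeAction (Subgroup.zpowers z) K := by
      refine ⟨hzle, ?_, Or.inl ?_⟩
      · rw [Nat.card_zpowers, hz2]; exact hK2.symm
      · infer_instance
    have hzQle : Subgroup.zpowers z ≤ Subgroup.normalizer (Q : Set G) := by
      rw [Subgroup.zpowers_le]; exact hzQ
    obtain ⟨P, hP, hQP, hzP⟩ :=
      Cfsg.Agent.Lib.H1.coprime_invariant_psubgroup_le_sylow hact hQK hQ hzQle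
    have hPQ : P = Q := hmax P hP.isPGroup (hzP (Subgroup.mem_zpowers z)) hQP
    have hfac : (Nat.card K).factorization p = (Nat.card G).factorization p := by
      rw [← Subgroup.card_mul_index K, Nat.factorization_mul Nat.card_pos.ne'
        Subgroup.index_ne_zero_of_finite, Finsupp.add_apply,
        Nat.factorization_eq_zero_of_not_dvd hpidx, add_zero]
    have hcardQ : Nat.card Q = p ^ (Nat.card G).factorization p := by
      rw [← hPQ, hP.card_eq, hfac]
    exact ⟨Sylow.ofCard Q hcardQ, Sylow.coe_ofCard Q hcardQ⟩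

end Cfsg.Agent.S1187
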