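import Mathlib
import Cfsg.Statements.S1189
import Cfsg.Agent.Lib.H5.QuasiDihedral

set_option autoImplicit false
open Cfsg

namespace Cfsg.Agent.S1189

open Cfsg.Agent.Lib.H5.SD

/-- A quasi-dihedral 2-group has exactly two conjugacy classes of elements of order 2 and exactly two conjugacy classes of elements of order 4. -/
theorem result {S : Type*} [Group S] [Finite S] (hS : Cfsg.IsQuasiDihedral S) : Nat.card {C : ConjClasses S // ∃ t : S, orderOf t = 2 ∧ ConjClasses.mk t = C} = 2 ∧ Nat.card {C : ConjClasses S // ∃ t : S, orderOf t = 4 ∧ ConjClasses.mk t = C} = 2 := by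
  obtain ⟨n, x, y, d⟩ := exists_gens hS
  have hy0 : y = xp n x 0 * y := by rw [Gens.xp_zero, one_mul]
  constructor
  · show Nat.card ↥{C : ConjClasses S | ∃ t : S, orderOf t = 2 ∧ ConjClasses.mk t = C} = 2
    have hset : {C : ConjClasses S | ∃ t : S, orderOf t = 2 ∧ ConjClasses.mk t = C} =
        {ConjClasses.mk (xp n x (hh n)), ConjClasses.mk y} := by
      ext C
      simp only [Set.mem_ofPred_eq, Set.mem_insert_iff, Set.mem_singleton_iff]
      constructor
      · rintro ⟨t, ht, rfl⟩
        rcases (d.orderOf_eq_two_iff t).mp ht with rfl | ⟨b, rfl⟩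
        · exact Or.inl rfl
        · right
          rw [ConjClasses.mk_eq_mk_iff_isConj]
          have := d.isConj_xpy 0 b
          rw [zero_add, ← hy0] at this
          exact this.symm
      · rintro (rfl | rfl)
        · exact ⟨_, d.orderOf_xp_hh, rfl⟩
        · exact ⟨_, d.hy, rfl⟩
    rw [Nat.card_coe_set_eq, hset, Set.ncard_pair]
    rw [Ne, ConjClasses.mk_eq_mk_iff_isConj, isConj_iff]
    rintro ⟨c, hc⟩
    rw [d.xp_hh_comm c, mul_inv_cancel_right] at hc
    exact d.xpy_ne_xp 0 (hh n) (by rw [← hy0, hc])
  · show Nat.card ↥{C : ConjClasses S | ∃ t : S, orderOf t = 4 ∧ ConjClasses.mk t = C} = 2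
    have hset : {C : ConjClasses S | ∃ t : S, orderOf t = 4 ∧ ConjClasses.mk t = C} =
        {ConjClasses.mk (xp n x (qq n)), ConjClasses.mk (xp n x 1 * y)} := by
      ext C
      simp only [Set.mem_ofPred_eq, Set.mem_insert_iff, Set.mem_singleton_iff]
      constructor
      · rintro ⟨t, ht, rfl⟩
        rcases (d.orderOf_eq_four_iff t).mp ht with rfl | rfl | ⟨b, rfl⟩
        · exact Or.inl rfl
        · left
          rw [ConjClasses.mk_eq_mk_iff_isConj]
          have := d.isConj_xp (qq n)
          have e : mm n * qq n = -qq n := by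
            have := hh_mul_qq d.hn
            unfold mm
            linear_combination this
          rw [e] at this
          exact this.symm
        · right
          rw [ConjClasses.mk_eq_mk_iff_isConj]
          have := d.isConj_xpy 1 b
          rw [add_comm] at this
          exact this.symm
      · rintro (rfl | rfl)
        · exact ⟨_, (d.orderOf_eq_four_iff _).mpr (Or.inl rfl), rfl⟩
        · exact ⟨_, (d.orderOf_eq_four_iff _).mpr (Or.inr (Or.inr ⟨0, by rw [mul_zero, zero_add]⟩)),
            rfl⟩
    rw [Nat.card_coe_set_eq, hset, Set.ncard_pair]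
    rw [Ne, ConjClasses.mk_eq_mk_iff_isConj, isConj_iff]
    rintro ⟨c, hc⟩
    obtain ⟨b, hb⟩ := d.conj_xp c (qq n)
    rw [hb] at hc
    exact d.xpy_ne_xp 1 b hc.symm

end Cfsg.Agent.S1189
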