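import Mathlib
import Cfsg.Statements.S1192
import Cfsg.Agent.Lib.H5.QuasiDihedralMax

set_option autoImplicit false
open Cfsg

namespace Cfsg.Agent.S1192

open Subgroup Cfsg.Agent.Lib.H5.SD

/-- A quasi-dihedral group S of order 2^(n+1) has exactly three maximal subgroups; one is cyclic, one is isomorphic to the generalized quaternion group of order 2^n and one to the dihedral group of order 2^n. -/
theorem result {S : Type*} [Group S] [Finite S] (hS : Cfsg.IsQuasiDihedral S) (n : ℕ) (hn : Nat.card S = 2 ^ (n + 1)) : ∃ M₁ M₂ M₃ : Subgroup S, IsCoatom M₁ ∧ IsCoatom M₂ ∧ IsCoatom M₃ ∧ M₁ ≠ M₂ ∧ M₁ ≠ M₃ ∧ M₂ ≠ M₃ ∧ (∀ M : Subgroup S, IsCoatom M → M = M₁ ∨ M = M₂ ∨ M = M₃) ∧ IsCyclic M₁ ∧ Nonempty (M₂ ≃* QuaternionGroup (2 ^ (n - 2))) ∧ Nonempty (M₃ ≃* DihedralGroup (2 ^ (n - 1))) := by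
  obtain ⟨n', x, y, d⟩ := exists_gens hS
  have hnn : n' = n := by
    have h1 := d.hcard
    rw [hn] at h1
    have := Nat.pow_right_injective (le_refl 2) h1
    omega
  subst hnn
  refine ⟨zpowers x, d.maxSub 1, d.maxSub 0, isCoatom_of_index_two d.index_zpowers,
    d.isCoatom_maxSub 1, d.isCoatom_maxSub 0, ?_, ?_, ?_, d.coatom_cases, inferInstance,
    d.maxSub_one_equiv, d.maxSub_zero_equiv⟩
  · intro h
    apply d.x_notMem_maxSub 1
    rw [← h]
    exact mem_zpowers x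
  · intro h
    apply d.x_notMem_maxSub 0
    rw [← h]
    exact mem_zpowers x
  · intro h
    apply d.y_notMem_maxSub_one
    rw [h]
    exact d.y_mem_maxSub_zero

end Cfsg.Agent.S1192
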