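import Cfsg.Statements.S1193
import Cfsg.Agent.Lib.H6.QD6

set_option autoImplicit false
open Cfsg

namespace Cfsg.Agent.S1193

open Cfsg.Agent.Lib.H6.QD

/-- Let S be quasi-dihedral of order 2^(n+1). Then S' = Φ(S) is cyclic of order 2^(n-1), the centre of S has order 2, and the subgroup generated by the involutions of S is dihedral of order 2^n. -/
theorem result {S : Type*} [Group S] [Finite S] (hS : Cfsg.IsQuasiDihedral S) (n : ℕ) (hn : Nat.card S = 2 ^ (n + 1)) : commutator S = frattini S ∧ IsCyclic (commutator S) ∧ Nat.card (commutator S) = 2 ^ (n - 1) ∧ Nat.card (Subgroup.center S) = 2 ∧ Nonempty (↥(Subgroup.closure {x : S | orderOf x = 2}) ≃* DihedralGroup (2 ^ (n - 1))) := by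

  obtain ⟨n', ⟨P⟩⟩ := exists_pres hS
  have hnn : n' = n := by
    have h1 := P.card
    rw [hn] at h1
    have h2 := Nat.pow_right_injective (le_refl 2) h1
    omega
  subst hnn
  refine ⟨P.commutator_eq_frattini, P.isCyclic_commutator, P.card_commutator, P.card_center, ?_⟩
  obtain ⟨e⟩ := P.M3_equiv
  exact ⟨(MulEquiv.subgroupCongr P.closure_involutions).trans e⟩

end Cfsg.Agent.S1193
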