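import Cfsg.Statements.S1194
import Cfsg.Agent.Lib.H6.QD6

set_option autoImplicit false
open Cfsg

namespace Cfsg.Agent.S1194

open Cfsg.Agent.Lib.H6.QD

variable {S : Type*} [Group S] {n : ℕ} (P : Pres S n)

/-- an odd element of `ZMod (2^n)` has an inverse. -/
theorem exists_inv_of_odd (k : ZMod (2 ^ n)) : ∃ j : ZMod (2 ^ n), j * (2 * k + 1) = 1 := by
  have h1 : IsUnit (((2 * k.val + 1 : ℕ)) : ZMod (2 ^ n)) := by
    rw [ZMod.isUnit_iff_coprime]
    apply Nat.Coprime.pow_right
    rw [Nat.coprime_two_right]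
    exact ⟨k.val, rfl⟩
  have e : (((2 * k.val + 1 : ℕ)) : ZMod (2 ^ n)) = 2 * k + 1 := by
    push_cast
    rw [ZMod.natCast_zmod_val]
  rw [e] at h1
  obtain ⟨u, hu⟩ := h1
  refine ⟨((u⁻¹ : (ZMod (2 ^ n))ˣ) : ZMod (2 ^ n)), ?_⟩
  rw [← hu]
  exact u.inv_mul

include P in
theorem key [Finite S] (N : Subgroup S) [N.Normal] (hN : N ≠ ⊤) :
    IsCoatom N ∨ (IsCyclic N ∧ N ≤ commutator S) := by
  have hc1 := isCoatom_of_index_two P.index_M1
  have hc2 := isCoatom_of_index_two P.index_M2
  have hc3 := isCoatom_of_index_two P.index_M3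
  by_cases hSR : ∃ i, P.SR i ∈ N
  · left
    obtain ⟨i, hi⟩ := hSR
    -- conjugates of SR i
    have h1 : ∀ k, P.SR (i + 2 * (1 - qt n) * k) ∈ N := by
      intro k
      rw [← P.R_conj_SR]
      exact Subgroup.Normal.conj_mem inferInstance _ hi _
    -- even rotations
    have h2 : ∀ k, P.R (2 * k) ∈ N := by
      intro k
      have h3 := N.mul_mem (N.inv_mem hi) (h1 (mm n * uinv n * k))
      rw [P.SR_inv, P.SR_mul_SR] at h3
      have e : - mm n * i + mm n * (i + 2 * (1 - qt n) * (mm n * uinv n * k)) = 2 * k := by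
        have e1 := mm_mul_mm (n := n) P.n_two
        have e2 := unit_mul_uinv (n := n) P.hn
        linear_combination (2 * (1 - qt n) * uinv n * k) * e1 + (2 * k) * e2
      rwa [e] at h3
    have h3 : ∀ k, P.SR (i + 2 * k) ∈ N := by
      intro k
      have := N.mul_mem (h2 k) hi
      rwa [P.R_mul_SR, add_comm] at this
    rcases even_or_odd i with ⟨a, rfl⟩ | ⟨a, rfl⟩
    · -- M3 ≤ N
      have hle : P.M3 ≤ N := by
        rintro s ⟨j, hj, rfl | rfl⟩
        · rcases even_or_odd j with ⟨b, rfl⟩ | ⟨b, rfl⟩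
          · exact h2 b
          · rw [hf_mul_odd P.n_pos] at hj; exact absurd hj (hf_ne_zero P.n_pos)
        · rcases even_or_odd j with ⟨b, rfl⟩ | ⟨b, rfl⟩
          · have := h3 (b - a)
            have e : 2 * a + 2 * (b - a) = 2 * b := by ring
            rwa [e] at this
          · rw [hf_mul_odd P.n_pos] at hj; exact absurd hj (hf_ne_zero P.n_pos)
      rw [(hc3.le_iff_eq hN).mp hle]
      exact hc3
    · have hle : P.M2 ≤ N := by
        rintro s ⟨j, ⟨hj, rfl⟩ | ⟨hj, rfl⟩⟩
        · rcases even_or_odd j with ⟨b, rfl⟩ | ⟨b, rfl⟩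
          · exact h2 b
          · rw [hf_mul_odd P.n_pos] at hj; exact absurd hj (hf_ne_zero P.n_pos)
        · rcases even_or_odd j with ⟨b, rfl⟩ | ⟨b, rfl⟩
          · rw [hf_mul_even P.n_pos] at hj; exact absurd hj.symm (hf_ne_zero P.n_pos)
          · have := h3 (b - a)
            have e : 2 * a + 1 + 2 * (b - a) = 2 * b + 1 := by ring
            rwa [e] at this
      rw [(hc2.le_iff_eq hN).mp hle]
      exact hc2
  · push Not at hSR
    have hle : N ≤ P.M1 := by
      intro s hs
      rcases P.cases s with ⟨i, rfl⟩ | ⟨i, rfl⟩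
      · exact P.R_mem_M1 i
      · exact absurd hs (hSR i)
    have hcyc : IsCyclic N := by
      have := P.M1_cyclic
      have h1 : IsCyclic (N.subgroupOf P.M1) := Subgroup.isCyclic _
      exact (Subgroup.subgroupOfEquivOfLe hle).isCyclic.mp h1
    by_cases hodd : ∃ k, P.R (2 * k + 1) ∈ N
    · left
      obtain ⟨k, hk⟩ := hodd
      obtain ⟨j, hj⟩ := exists_inv_of_odd k
      have h1 : P.R 1 ∈ N := by
        have := N.pow_mem hk j.val
        rwa [P.R_pow, ZMod.natCast_zmod_val, hj] at this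
      have hle' : P.M1 ≤ N := by
        rintro s ⟨i, rfl⟩
        have := N.pow_mem h1 i.val
        rwa [P.R_pow, ZMod.natCast_zmod_val, mul_one] at this
      rw [(hc1.le_iff_eq hN).mp hle']
      exact hc1
    · right
      push Not at hodd
      refine ⟨hcyc, ?_⟩
      intro s hs
      rw [P.commutator_eq_frattini, P.mem_frattini_iff]
      rcases P.cases s with ⟨i, rfl⟩ | ⟨i, rfl⟩
      · rcases even_or_odd i with ⟨b, rfl⟩ | ⟨b, rfl⟩
        · exact ⟨_, hf_mul_even P.n_pos b, rfl⟩
        · exact absurd hs (hodd b)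
      · exact absurd hs (hSR i)

/-- In a quasi-dihedral 2-group S, every proper normal subgroup is either a maximal subgroup or a cyclic subgroup contained in the derived subgroup S'. -/
theorem result {S : Type*} [Group S] [Finite S] (hS : Cfsg.IsQuasiDihedral S) (N : Subgroup S) [N.Normal] (hN : N ≠ ⊤) : IsCoatom N ∨ (IsCyclic N ∧ N ≤ commutator S) := by

  obtain ⟨n, ⟨P⟩⟩ := exists_pres hS
  exact key P N hN

end Cfsg.Agent.S1194
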