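import Mathlib
import Cfsg.Statements.S1198
import Cfsg.Agent.Lib.H5.WreathedKlein

set_option autoImplicit false
open Cfsg

namespace Cfsg.Agent.S1198

open Subgroup Cfsg.Agent.Lib.H5.Wr

/-- A wreathed 2-group S has a normal Klein four-subgroup T such that every Klein four-subgroup of S other than T is conjugate in S to any other such subgroup; in particular S has exactly two conjugacy classes of Klein four-subgroups. -/
theorem result {S : Type*} [Group S] [Finite S] (hS : Cfsg.IsWreathed S) : ∃ T : Subgroup S, IsKleinFour T ∧ T.Normal ∧ (∃ T₀ : Subgroup S, IsKleinFour T₀ ∧ T₀ ≠ T) ∧ ∀ T₁ T₂ : Subgroup S, IsKleinFour T₁ → IsKleinFour T₂ → T₁ ≠ T → T₂ ≠ T → ∃ s : S, T₁.map (MulAut.conj s).toMonoidHom = T₂ := by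
  obtain ⟨n, x, y, z, d⟩ := exists_gens hS
  refine ⟨d.omegaBase, d.isKleinFour_omegaBase, d.normal_omegaBase, ?_, ?_⟩
  · obtain ⟨T₀, hT₀, hz⟩ := d.exists_klein_z
    refine ⟨T₀, hT₀, ?_⟩
    intro h
    rw [h] at hz
    obtain ⟨a, b, -, -, hab⟩ := hz
    exact d.z_notMem ⟨a, b, hab⟩
  · intro T₁ T₂ h₁ h₂ hne₁ hne₂
    exact d.klein_conj T₁ T₂ h₁ h₂ hne₁ hne₂

end Cfsg.Agent.S1198
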