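import Mathlib
import Cfsg.Statements.S1201
import Cfsg.Agent.Lib.H5.WreathedKlein

set_option autoImplicit false
open Cfsg

namespace Cfsg.Agent.S1201

open Subgroup Cfsg.Agent.Lib.H5.Wr

/-- If X is a non-commutative subgroup of a wreathed 2-group S, then Z(X) ≤ Z(S). -/
theorem result {S : Type*} [Group S] [Finite S] (hS : Cfsg.IsWreathed S) (X : Subgroup S) (hX : ¬ IsMulCommutative X) : (Subgroup.center X).map X.subtype ≤ Subgroup.center S := by
  obtain ⟨n, x, y, z, d⟩ := exists_gens hS
  rintro _ ⟨⟨g, hgX⟩, hg, rfl⟩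
  show g ∈ center S
  have hgc : ∀ k ∈ X, k * g = g * k := by
    intro k hk
    have := mem_center_iff.mp hg ⟨k, hk⟩
    exact congrArg Subtype.val this
  by_contra hgZ
  apply hX
  -- `g` is not in the base group
  have hgB : ∀ u ∈ X, u ∉ d.base → g ∉ d.base := by
    rintro u hu hub ⟨c, e, rfl⟩
    rcases d.cases u with ⟨a, b, rfl⟩ | ⟨a, b, rfl⟩
    · exact hub (d.wp_mem_base a b)
    · have := (d.commute_wpz_wp_iff a b c e).mp (hgc _ hu)
      subst this
      exact hgZ ((d.mem_center_iff' _).mpr ⟨c, rfl⟩)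
  -- every element of `X` in the base group is central
  have hcentral : g ∉ d.base → ∀ k ∈ X, k ∈ d.base → k ∈ center S := by
    rintro hgb k hk ⟨c, e, rfl⟩
    rcases d.cases g with ⟨a, b, rfl⟩ | ⟨a, b, rfl⟩
    · exact absurd (d.wp_mem_base a b) hgb
    · have := (d.commute_wpz_wp_iff a b c e).mp (hgc _ hk).symm
      subst this
      exact (d.mem_center_iff' _).mpr ⟨c, rfl⟩
  by_cases hXB : X ≤ d.base
  · refine ⟨⟨fun a b => ?_⟩⟩
    obtain ⟨a1, a2, ha⟩ := hXB a.2
    obtain ⟨b1, b2, hb⟩ := hXB b.2
    apply Subtype.ext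
    show (a : S) * (b : S) = (b : S) * (a : S)
    rw [ha, hb]
    exact d.wp_comm _ _ _ _
  · obtain ⟨u, hu, hub⟩ := SetLike.not_le_iff_exists.mp hXB
    have hgb := hgB u hu hub
    -- every element of `X` is `c` or `c * g` with `c` central
    have hform : ∀ k ∈ X, k ∈ center S ∨ ∃ c ∈ center S, k = c * g := by
      intro k hk
      by_cases hkb : k ∈ d.base
      · exact Or.inl (hcentral hgb k hk hkb)
      · right
        have h1 : k * g⁻¹ ∈ d.base := by
          have := (mul_mem_iff_of_index_two d.index_base (a := k) (b := g⁻¹)).mpr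
            ⟨fun h => absurd h hkb, fun h => absurd (inv_mem_iff.mp h) hgb⟩
          exact this
        refine ⟨k * g⁻¹, hcentral hgb _ (X.mul_mem hk (X.inv_mem hgX)) h1, ?_⟩
        rw [inv_mul_cancel_right]
    refine ⟨⟨fun a b => ?_⟩⟩
    apply Subtype.ext
    show (a : S) * (b : S) = (b : S) * (a : S)
    rcases hform a a.2 with ha | ⟨c, hc, ha⟩
    · exact (mem_center_iff.mp ha b).symm
    · rcases hform b b.2 with hb | ⟨e, he, hb⟩
      · exact mem_center_iff.mp hb a
      · rw [ha, hb]
        have h1 := mem_center_iff.mp hc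
        have h2 := mem_center_iff.mp he
        calc c * g * (e * g) = c * (g * e) * g := by simp only [mul_assoc]
          _ = c * (e * g) * g := by rw [h2 g]
          _ = (c * e) * g * g := by simp only [mul_assoc]
          _ = (e * c) * g * g := by rw [h1 e]
          _ = e * (c * g) * g := by simp only [mul_assoc]
          _ = e * (g * c) * g := by rw [h1 g]
          _ = e * g * (c * g) := by simp only [mul_assoc]

end Cfsg.Agent.S1201
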