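import Mathlib
import Cfsg.Statements.S1203
import Cfsg.Agent.Lib.H5.QuasiDihedralQuat
import Cfsg.Agent.Lib.H5.NCTools

set_option autoImplicit false
open Cfsg

namespace Cfsg.Agent.S1203

open Subgroup Cfsg.Agent.Lib.H5 Cfsg.Agent.Lib.H5.SD Cfsg.Agent.Lib.H5.NC
open scoped Pointwise

/-- An element of `S` normalizing `X.subgroupOf S` normalizes `X`. -/
theorem mem_normalizer_of_subgroupOf {G : Type*} [Group G] [Finite G] {S X : Subgroup G}
    (hXS : X ≤ S) (a : S) (ha : a ∈ normalizer ((X.subgroupOf S : Subgroup S) : Set S)) :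
    (a : G) ∈ normalizer (X : Set G) := by
  rw [mem_normalizer_iff_map_conj_eq]
  apply map_conj_eq_of_forall_mem
  · intro k hk
    have h1 : (⟨k, hXS hk⟩ : S) ∈ X.subgroupOf S := mem_subgroupOf.mpr hk
    have h2 := (mem_normalizer_iff.mp ha _).mp h1
    exact mem_subgroupOf.mp h2
  · exact le_refl _

/-- Let G be a finite group with quasi-dihedral Sylow 2-subgroup S, T a Klein four-subgroup of S and Q a quaternion subgroup of order 8 of S. Then |N_G(T) : C_G(T)| ∈ {2, 6} and |N_G(Q) : Q C_G(Q)| ∈ {2, 6}. -/
theorem result {G : Type*} [Group G] [Finite G] (S : Sylow 2 G) (hS : Cfsg.IsQuasiDihedral (S : Subgroup G)) (T : Subgroup G) (hT : IsKleinFour T) (hTS : T ≤ S) (Q : Subgroup G) (hQS : Q ≤ S) (eQ : Q ≃* QuaternionGroup 2) : ((Subgroup.centralizer (T : Set G)).relIndex (Subgroup.normalizer (T : Set G)) = 2 ∨ (Subgroup.centralizer (T : Set G)).relIndex (Subgroup.normalizer (T : Set G)) = 6) ∧ ((Q ⊔ Subgroup.centralizer (Q : Set G)).relIndex (Subgroup.normalizer (Q : Set G)) = 2 ∨ (Q ⊔ Subgroup.centralizer (Q : Set G)).relIndex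 (Subgroup.normalizer (Q : Set G)) = 6) := by
  obtain ⟨n, x, y, d⟩ := exists_gens hS
  constructor
  · apply eq_two_or_six (relIndex_klein_dvd T hT)
    -- the Klein four subgroup inside `S`
    have hT' : IsKleinFour (T.subgroupOf (S : Subgroup G)) :=
      isKleinFour_of_mulEquiv (Subgroup.subgroupOfEquivOfLe hTS)
    have hcent := d.klein_centralizer _ hT'
    have hrel := d.klein_relIndex _ hT'
    rw [relIndex_eq_two_iff_exists_notMem_and'] at hrel
    obtain ⟨a, haN, haT, hab⟩ := hrel
    have haa : a * a ∈ T.subgroupOf (S : Subgroup G) := by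
      rcases hab a haN with h | h
      · exact h
      · exact absurd h haT
    apply two_dvd_relIndex (normalizer_le_normalizer_centralizer T) (w := (a : G))
    · exact mem_normalizer_of_subgroupOf hTS a haN
    · intro hc
      apply haT
      rw [← hcent, mem_centralizer_iff]
      intro k hk
      apply Subtype.ext
      exact (mem_centralizer_iff.mp hc) k.1 (mem_subgroupOf.mp hk)
    · rw [mem_centralizer_iff]
      intro k hk
      exact K4.mem_comm hT hk (mem_subgroupOf.mp haa)
  · apply eq_two_or_six (relIndex_quaternion_dvd Q eQ)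
    have hQ' : Nonempty (Q.subgroupOf (S : Subgroup G) ≃* QuaternionGroup 2) :=
      ⟨(Subgroup.subgroupOfEquivOfLe hQS).trans eQ⟩
    have hcent := d.quat_centralizer _ hQ'
    have hrel := d.quat_relIndex _ hQ'
    rw [relIndex_eq_two_iff_exists_notMem_and'] at hrel
    obtain ⟨a, haN, haQ, hab⟩ := hrel
    have haa : a * a ∈ Q.subgroupOf (S : Subgroup G) := by
      rcases hab a haN with h | h
      · exact h
      · exact absurd h haQ
    have hCN : centralizer (Q : Set G) ≤ normalizer (Q : Set G) := centralizer_le_normalizer _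
    have hLE : normalizer (Q : Set G) ≤
        normalizer ((Q ⊔ centralizer (Q : Set G) : Subgroup G) : Set G) :=
      (le_inf (le_refl _) (normalizer_le_normalizer_centralizer Q)).trans
        (normalizer_inf_le_normalizer_sup' Q _)
    apply two_dvd_relIndex hLE (w := (a : G))
    · exact mem_normalizer_of_subgroupOf hQS a haN
    · intro hmem
      rw [← SetLike.mem_coe, coe_mul_of_right_le_normalizer_left Q _ hCN] at hmem
      obtain ⟨q, hq, c, hc, hqc⟩ := hmem
      have hcS : c ∈ (S : Subgroup G) := by
        have : c = q⁻¹ * (a : G) := by rw [← hqc, inv_mul_cancel_left]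
        rw [this]
        exact mul_mem (inv_mem (hQS hq)) a.2
      have hc' : (⟨c, hcS⟩ : S) ∈ centralizer ((Q.subgroupOf (S : Subgroup G) : Subgroup S) : Set S) := by
        rw [mem_centralizer_iff]
        intro k hk
        apply Subtype.ext
        exact (mem_centralizer_iff.mp hc) k.1 (mem_subgroupOf.mp hk)
      rw [hcent] at hc'
      obtain ⟨k, -, hk⟩ := hc'
      have hcQ : c ∈ Q := by
        have h1 : (k : S) ∈ Q.subgroupOf (S : Subgroup G) := k.2
        have h2 : ((k : S) : G) = c := congrArg Subtype.val hk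
        rw [← h2]
        exact mem_subgroupOf.mp h1
      apply haQ
      rw [mem_subgroupOf, ← hqc]
      exact mul_mem hq hcQ
    · exact (le_sup_left : Q ≤ Q ⊔ centralizer (Q : Set G)) (mem_subgroupOf.mp haa)

end Cfsg.Agent.S1203
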