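import Cfsg.Statements.S1204
import Cfsg.Agent.Lib.H6.QDF5

set_option autoImplicit false
open Cfsg

namespace Cfsg.Agent.S1204

/-- Let G be a finite group with quasi-dihedral Sylow 2-subgroup S, T a Klein four-subgroup and Q a quaternion subgroup of order 8 of S, with |N_G(T) : C_G(T)| = 6 and |N_G(Q) : Q C_G(Q)| = 6. Then G has no subgroup of index 2, exactly one conjugacy class of involutions and exactly one conjugacy class of elements of order 4. -/
theorem result {G : Type*} [Group G] [Finite G] (S : Sylow 2 G) (hS : Cfsg.IsQuasiDihedral (S : Subgroup G)) (T : Subgroup G) (hT : IsKleinFour T) (hTS : T ≤ S) (Q : Subgroup G) (hQS : Q ≤ S) (eQ : Q ≃* QuaternionGroup 2) (h₁ : (Subgroup.centralizer (T : Set G)).relIndex (Subgroup.normalizer (T : Set G)) = 6) (h₂ : (Q ⊔ Subgroup.centralizer (Q : Set G)).relIndex (Subgroup.normalizer (Q : Set G)) = 6) : (∀ H : Subgroup G, H.index ≠ 2) ∧ Nat.card {C : ConjClasses G // ∃ t : G, orderOf t = 2 ∧ ConjClasses.mk t = C}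 = 1 ∧ Nat.card {C : ConjClasses G // ∃ t : G, orderOf t = 4 ∧ ConjClasses.mk t = C} = 1 := by

  obtain ⟨n, ⟨P⟩⟩ := Lib.H6.QD.exists_pres hS
  have hz : IsConj (Lib.H6.QDF.zG P) (Lib.H6.QDF.yG P) := by
    by_contra h
    have := Lib.H6.QDF.relIndex_two_of_not_fz P hT hTS h
    omega
  have ha : IsConj (Lib.H6.QDF.aG P) (Lib.H6.QDF.bG P) := by
    by_contra h
    have := Lib.H6.QDF.relIndex_two_of_not_fa P Q hQS eQ h
    omega
  exact ⟨Lib.H6.QDF.no_index_two P hz ha, (Lib.H6.QDF.card_classes_two P).1 hz,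
    (Lib.H6.QDF.card_classes_four P).1 ha⟩

end Cfsg.Agent.S1204
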