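import Cfsg.Statements.S1205
import Cfsg.Agent.Lib.H6.QDF8

set_option autoImplicit false
open Cfsg

namespace Cfsg.Agent.S1205

/-- Let G be a finite group with quasi-dihedral Sylow 2-subgroup S, T a Klein four-subgroup and Q a quaternion subgroup of order 8 of S, with |N_G(T) : C_G(T)| = 2 and |N_G(Q) : Q C_G(Q)| = 6. Then G has a normal subgroup K of index 2 whose Sylow 2-subgroups are generalized quaternion and which has no subgroup of index 2; the centre of S is weakly closed in S; and G has exactly two classes of involutions and one class of elements of order 4. -/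
theorem result {G : Type*} [Group G] [Finite G] (S : Sylow 2 G) (hS : Cfsg.IsQuasiDihedral (S : Subgroup G)) (T : Subgroup G) (hT : IsKleinFour T) (hTS : T ≤ S) (Q : Subgroup G) (hQS : Q ≤ S) (eQ : Q ≃* QuaternionGroup 2) (h₁ : (Subgroup.centralizer (T : Set G)).relIndex (Subgroup.normalizer (T : Set G)) = 2) (h₂ : (Q ⊔ Subgroup.centralizer (Q : Set G)).relIndex (Subgroup.normalizer (Q : Set G)) = 6) : (∃ K : Subgroup G, K.Normal ∧ K.index = 2 ∧ (∀ P : Sylow 2 ↥K, ∃ m : ℕ, 1 ≤ m ∧ Nonempty ((P : Subgroup ↥K) ≃* QuaternionGroup (2 ^ m))) ∧ (∀ H : Subgroup ↥K, H.index ≠ 2)) ∧ Cfsg.IsWeaklyClosed ((Subgroup.center (S : Subgroup G)).map (S : Subgroup G).subtype) (S : Subgroup G) ∧ Nat.card {C : ConjClasses G // ∃ t : G, orderOf t = 2 ∧ ConjClasses.mk t = C} = 2 ∧ Nat.card {C : ConjClasses G // ∃ t : G, orderOf t = 4 ∧ ConjClasses.mk t = C} = 1 := by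

  obtain ⟨n, ⟨P⟩⟩ := Lib.H6.QD.exists_pres hS
  have hz : ¬ IsConj (Lib.H6.QDF.zG P) (Lib.H6.QDF.yG P) := by
    intro h
    exact Lib.H6.QDF.relIndex_ne_two_of_fz P hT hTS h h₁
  have ha : IsConj (Lib.H6.QDF.aG P) (Lib.H6.QDF.bG P) := by
    by_contra h
    have := Lib.H6.QDF.relIndex_two_of_not_fa P Q hQS eQ h
    omega
  have hNS := Lib.H6.QDF.Nsub_inf_eq_M2 P hz ha
  have hidx : (Lib.H6.TwoRes.Nsub G).index = 2 := by
    rw [Lib.H6.TwoRes.index_Nsub S, hNS, P.index_M2]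
  refine ⟨⟨Lib.H6.TwoRes.Nsub G, Lib.H6.TwoRes.Nsub_normal, hidx, ?_,
    Lib.H6.TwoRes.no_index_two_sub hidx⟩, Lib.H6.QDF.weaklyClosed_center P hz,
    (Lib.H6.QDF.card_classes_two P).2 hz, (Lib.H6.QDF.card_classes_four P).1 ha⟩
  intro P'
  obtain ⟨e⟩ := Lib.H6.TwoRes.sylow_equiv_of_normal S (Lib.H6.TwoRes.Nsub G) P'
  obtain ⟨e2⟩ := P.M2_equiv
  have hn := P.hn
  exact ⟨n - 2, by omega, ⟨e.trans ((MulEquiv.subgroupCongr hNS).trans e2)⟩⟩

end Cfsg.Agent.S1205
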