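import Cfsg.Statements.S1207
import Cfsg.Agent.Lib.H6.QDF8
import Cfsg.Agent.Lib.H6.TwoRes2

set_option autoImplicit false
open Cfsg

namespace Cfsg.Agent.S1207

/-- Let G be a finite group with quasi-dihedral Sylow 2-subgroup S, T a Klein four-subgroup and Q a quaternion subgroup of order 8 of S, with |N_G(T) : C_G(T)| = 2 and |N_G(Q) : Q C_G(Q)| = 2. Then G has a normal 2-complement, exactly two classes of involutions and exactly two classes of elements of order 4. -/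
theorem result {G : Type*} [Group G] [Finite G] (S : Sylow 2 G) (hS : Cfsg.IsQuasiDihedral (S : Subgroup G)) (T : Subgroup G) (hT : IsKleinFour T) (hTS : T ≤ S) (Q : Subgroup G) (hQS : Q ≤ S) (eQ : Q ≃* QuaternionGroup 2) (h₁ : (Subgroup.centralizer (T : Set G)).relIndex (Subgroup.normalizer (T : Set G)) = 2) (h₂ : (Q ⊔ Subgroup.centralizer (Q : Set G)).relIndex (Subgroup.normalizer (Q : Set G)) = 2) : Cfsg.HasNormalPComplement 2 G ∧ Nat.card {C : ConjClasses G // ∃ t : G, orderOf t = 2 ∧ ConjClasses.mk t = C} = 2 ∧ Nat.card {C : ConjClasses G // ∃ t : G, orderOf t = 4 ∧ ConjClasses.mk t = C} = 2 := by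

  obtain ⟨n, ⟨P⟩⟩ := Lib.H6.QD.exists_pres hS
  have hz : ¬ IsConj (Lib.H6.QDF.zG P) (Lib.H6.QDF.yG P) := fun h =>
    Lib.H6.QDF.relIndex_ne_two_of_fz P hT hTS h h₁
  have ha : ¬ IsConj (Lib.H6.QDF.aG P) (Lib.H6.QDF.bG P) := fun h =>
    Lib.H6.QDF.relIndex_ne_two_of_fa P Q hQS eQ h h₂
  refine ⟨?_, (Lib.H6.QDF.card_classes_two P).2 hz, (Lib.H6.QDF.card_classes_four P).2 ha⟩
  apply Lib.H6.TwoRes.hasNormalPComplement_of_odd S
  have hmem := Lib.H6.QDF.mem_Nsub_iff_of_not P hz ha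
  have hNS : (Lib.H6.TwoRes.Nsub G).subgroupOf S = commutator ↥(S : Subgroup G) := by
    ext s
    rw [hmem, P.commutator_eq_frattini, P.mem_frattini_iff]
  obtain ⟨P'⟩ : Nonempty (Sylow 2 ↥(Lib.H6.TwoRes.Nsub G)) := inferInstance
  obtain ⟨e⟩ := Lib.H6.TwoRes.sylow_equiv_of_normal S (Lib.H6.TwoRes.Nsub G) P'
  have hcyc : IsCyclic ↥(P' : Subgroup ↥(Lib.H6.TwoRes.Nsub G)) := by
    have h1 : IsCyclic ↥((Lib.H6.TwoRes.Nsub G).subgroupOf S) := by
      rw [hNS]; exact P.isCyclic_commutator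
    exact isCyclic_of_surjective e.symm e.symm.surjective
  have hodd := Lib.H6.TwoRes.odd_card_pResidual_of_cyclic_sylow P' hcyc
  have hle := Lib.H6.TwoRes.pResidual_le_map (Lib.H6.TwoRes.Nsub G) Lib.H6.TwoRes.pResidual_le_Nsub
  have hdvd : Nat.card (Cfsg.pResidual 2 G) ∣ Nat.card (Cfsg.pResidual 2 ↥(Lib.H6.TwoRes.Nsub G)) := by
    have := Subgroup.card_dvd_of_le hle
    rwa [Subgroup.card_map_of_injective (Subgroup.subtype_injective _)] at this
  exact Odd.of_dvd_nat hodd hdvd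

end Cfsg.Agent.S1207
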