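import Mathlib
import Cfsg.Statements.S1209
import Cfsg.Agent.Lib.H5.WreathedOddV

set_option autoImplicit false
open Cfsg

namespace Cfsg.Agent.S1209

open Subgroup Cfsg.Agent.Lib.H5 Cfsg.Agent.Lib.H5.Wr Cfsg.Agent.Lib.H5.WS

/-- Let G be a finite group whose Sylow 2-subgroup S is wreathed of order 2^(2n+1), U the commutative subgroup of index 2 in S, Q a quaternion subgroup of order 8 of S and V = Q Z(S). If |N_G(U) : C_G(U)| = 6 and |N_G(V) : V C_G(V)| = 6, then G has no subgroup of index 2 and exactly one conjugacy class of involutions. -/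
theorem result {G : Type*} [Group G] [Finite G] (S : Sylow 2 G) (hS : Cfsg.IsWreathed (S : Subgroup G)) (n : ℕ) (hn : Nat.card S = 2 ^ (2 * n + 1)) (U : Subgroup G) (hUS : U ≤ S) (hUab : IsMulCommutative U) (hUcard : Nat.card U = 2 ^ (2 * n)) (Q : Subgroup G) (hQS : Q ≤ S) (eQ : Q ≃* QuaternionGroup 2) (h₁ : (Subgroup.centralizer (U : Set G)).relIndex (Subgroup.normalizer (U : Set G)) = 6) (h₂ : ((Q ⊔ ((Subgroup.center (S : Subgroup G)).map (S : Subgroup G).subtype)) ⊔ Subgroup.centralizer ((Q ⊔ ((Subgroup.center (S : Subgroup G)).map (S : Subgroup G).subtype) : Subgroup G) : Set G)).relIndex (Subgroup.normalizer ((Q ⊔ ((Subgroup.center (S : Subgroup G)).map (S : Subgroup G).subtype) : Subgroup G) : Set G)) = 6) : (∀ H : Subgroup G, H.index ≠ 2) ∧ Nat.card {C : ConjClasses G // ∃ t : G, orderOf t = 2 ∧ ConjClasses.mk t = C} = 1 := by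
  have : Fact (Nat.Prime 2) := ⟨Nat.prime_two⟩
  obtain ⟨x, y, z, d⟩ := exists_gens' S hS n hn
  rw [eq_up_base d U hUS hUab hUcard] at h₁
  have hQ' : Nonempty (Q.subgroupOf (S : Subgroup G) ≃* QuaternionGroup 2) :=
    ⟨(Subgroup.subgroupOfEquivOfLe hQS).trans eQ⟩
  have hG := d.good_of_quat _ hQ'
  have hV : Q ⊔ ((Subgroup.center (S : Subgroup G)).map (S : Subgroup G).subtype) =
      up (Q.subgroupOf (S : Subgroup G) ⊔ center ↥(S : Subgroup G)) := by
    rw [up_sup, up_subgroupOf hQS]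
  rw [hV] at h₂
  set X := Q.subgroupOf (S : Subgroup G) ⊔ center ↥(S : Subgroup G) with hX
  obtain ⟨g, hgN, hgodd, hgC⟩ := AZ.exists_odd_notMem_of_three_dvd
    (NC.normalizer_le_normalizer_centralizer (up d.base : Subgroup G)) (by rw [h₁]; norm_num)
  have hNM : normalizer ((up X : Subgroup G) : Set G) ≤
      normalizer ((up X ⊔ centralizer ((up X : Subgroup G) : Set G) : Subgroup G) : Set G) :=
    (le_inf (le_refl _) (NC.normalizer_le_normalizer_centralizer (up X))).trans
      (NC.normalizer_inf_le_normalizer_sup' (up X) _)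
  obtain ⟨g', hg'N, hg'odd, hg'M⟩ := AZ.exists_odd_notMem_of_three_dvd hNM
    (by rw [h₂]; norm_num)
  have hbz := isConj_b_zeta_of_odd d g hgN hgodd hgC
  have hbt := isConj_b_t_of_odd d hG g' hg'N hg'odd hg'M
  refine ⟨?_, card_classes_eq_one d hbz hbt⟩
  intro H hH
  haveI hHn : H.Normal := Subgroup.normal_of_index_eq_two hH
  have hUH : up d.base ≤ H := by
    intro u hu
    obtain ⟨u', hu', rfl⟩ := base_odd_surj d g hgN hgodd hgC u hu
    rw [Subgroup.mul_mem_iff_of_index_two hH, inv_mem_iff]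
    constructor
    · intro h; exact hHn.conj_mem _ h g
    · intro h
      have := hHn.conj_mem _ h g⁻¹
      simpa [mul_assoc] using this
  have htH : tG d ∈ H := by
    obtain ⟨c, hc⟩ := isConj_iff.mp hbt
    rw [← hc]
    exact hHn.conj_mem _ (hUH (bG_mem d)) c
  have hSH : (S : Subgroup G) ≤ H := by
    intro s hs
    rcases d.cases ⟨s, hs⟩ with ⟨a, b, h⟩ | ⟨a, b, h⟩
    · have : s = ((wp n x y a b : ↥(S : Subgroup G)) : G) := congrArg Subtype.val h
      rw [this]
      exact hUH ⟨_, d.wp_mem_base a b, rfl⟩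
    · have : s = ((wp n x y a b : ↥(S : Subgroup G)) : G) * tG d := congrArg Subtype.val h
      rw [this]
      exact mul_mem (hUH ⟨_, d.wp_mem_base a b, rfl⟩) htH
  have := Subgroup.index_dvd_of_le hSH
  rw [hH] at this
  exact S.not_dvd_index this

end Cfsg.Agent.S1209
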