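import Cfsg.Statements.S1215
import Mathlib
import Cfsg.Agent.Lib.H1.ZStarGen

set_option autoImplicit false
open Cfsg

namespace Cfsg.Agent.S1215

section aux

variable {H : Type*} [Group H]

/-- two elements of order two of a cyclic group coincide -/
theorem cyclic_order_two_unique {C : Type*} [Group C] [Finite C] [IsCyclic C] {x y : C}
    (hx : orderOf x = 2) (hy : orderOf y = 2) : x = y := by
  classical
  have := Fintype.ofFinite C
  have h2 : 2 ∣ Fintype.card C := by rw [← hx]; exact orderOf_dvd_card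
  have h := IsCyclic.card_orderOf_eq_totient h2
  rw [Nat.totient_two, Finset.card_eq_one] at h
  obtain ⟨a, ha⟩ := h
  have hx' : x ∈ Finset.univ.filter (fun a : C => orderOf a = 2) := by simp [hx]
  have hy' : y ∈ Finset.univ.filter (fun a : C => orderOf a = 2) := by simp [hy]
  rw [ha, Finset.mem_singleton] at hx' hy'
  rw [hx', hy']

theorem conj_mem_zpowers {c g : H} (hn : g * c * g⁻¹ ∈ Subgroup.zpowers c) {x : H}
    (hx : x ∈ Subgroup.zpowers c) : g * x * g⁻¹ ∈ Subgroup.zpowers c := by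
  obtain ⟨i, rfl⟩ := Subgroup.mem_zpowers_iff.mp hx
  have : g * c ^ i * g⁻¹ = (g * c * g⁻¹) ^ i := by rw [conj_zpow]
  rw [this]
  exact Subgroup.zpow_mem _ hn i

/-- an element of odd order normalizing a cyclic 2-group centralizes it -/
theorem commute_of_odd_normalizes [Finite H] : ∀ (k : ℕ) (c g : H), orderOf c = 2 ^ k →
    Odd (orderOf g) → g * c * g⁻¹ ∈ Subgroup.zpowers c → g * c = c * g := by
  intro k
  induction k with
  | zero =>
    intro c g hc _ _
    rw [pow_zero, orderOf_eq_one_iff] at hc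
    rw [hc, mul_one, one_mul]
  | succ k ih =>
    intro c g hc hg hn
    -- the square
    have hc2 : orderOf (c ^ 2) = 2 ^ k := by
      rw [orderOf_pow' c (by norm_num : (2 : ℕ) ≠ 0), hc, pow_succ,
        Nat.gcd_eq_right (Dvd.intro_left _ rfl)]
      simp
    have hn2 : g * c ^ 2 * g⁻¹ ∈ Subgroup.zpowers (c ^ 2) := by
      obtain ⟨i, hi⟩ := Subgroup.mem_zpowers_iff.mp hn
      rw [Subgroup.mem_zpowers_iff]
      refine ⟨i, ?_⟩
      have : g * c ^ 2 * g⁻¹ = (g * c * g⁻¹) ^ 2 := by rw [conj_pow]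
      rw [this, ← hi, ← zpow_natCast, ← zpow_natCast, ← zpow_mul, ← zpow_mul, mul_comm]
    have h2 := ih (c ^ 2) g hc2 hg hn2
    set d : H := g * c * g⁻¹ * c⁻¹ with hd
    have hdz : d ∈ Subgroup.zpowers c :=
      Subgroup.mul_mem _ hn (Subgroup.inv_mem _ (Subgroup.mem_zpowers c))
    have hdc : d * c = c * d := by
      obtain ⟨i, hi⟩ := Subgroup.mem_zpowers_iff.mp hdz
      rw [← hi]
      exact ((Commute.refl c).zpow_left i).eq
    have hgc : g * c * g⁻¹ = d * c := by rw [hd]; group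
    have hdd : d * d = 1 := by
      have h3 : (d * c) * (d * c) = c ^ 2 := by
        rw [← hgc]
        calc g * c * g⁻¹ * (g * c * g⁻¹) = g * c ^ 2 * g⁻¹ := by rw [sq]; group
          _ = c ^ 2 * g * g⁻¹ := by rw [h2]
          _ = c ^ 2 := by group
      have h4 : (d * c) * (d * c) = (d * d) * c ^ 2 := by
        calc (d * c) * (d * c) = d * (c * d) * c := by group
          _ = d * (d * c) * c := by rw [hdc]
          _ = (d * d) * c ^ 2 := by rw [sq]; group
      rw [h4] at h3
      exact mul_eq_right.mp h3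
    have hgd : g * d * g⁻¹ = d := by
      by_cases hd1 : d = 1
      · rw [hd1]; group
      · have hdo : orderOf d = 2 := orderOf_eq_prime (by rw [sq]; exact hdd) hd1
        have hgdz : g * d * g⁻¹ ∈ Subgroup.zpowers c := conj_mem_zpowers hn hdz
        have hgdo : orderOf (g * d * g⁻¹) = 2 := by
          rw [Cfsg.Agent.Lib.H1.ZStar.orderOf_conj_eq']; exact hdo
        have := cyclic_order_two_unique (C := ↥(Subgroup.zpowers c))
          (x := ⟨g * d * g⁻¹, hgdz⟩) (y := ⟨d, hdz⟩)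
          (by rw [← Subgroup.orderOf_coe]; exact hgdo) (by rw [← Subgroup.orderOf_coe]; exact hdo)
        exact congrArg Subtype.val this
    have hg2 : (g ^ 2) * c = c * g ^ 2 := by
      have : g ^ 2 * c * (g ^ 2)⁻¹ = c := by
        calc g ^ 2 * c * (g ^ 2)⁻¹ = g * (g * c * g⁻¹) * g⁻¹ := by rw [sq]; group
          _ = g * (d * c) * g⁻¹ := by rw [hgc]
          _ = (g * d * g⁻¹) * (g * c * g⁻¹) := by group
          _ = d * (d * c) := by rw [hgd, hgc]
          _ = (d * d) * c := by group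
          _ = c := by rw [hdd, one_mul]
      calc g ^ 2 * c = (g ^ 2 * c * (g ^ 2)⁻¹) * g ^ 2 := by group
        _ = c * g ^ 2 := by rw [this]
    obtain ⟨m, hm⟩ := hg
    have hgp : g = (g ^ 2) ^ (m + 1) := by
      rw [← pow_mul, show 2 * (m + 1) = (2 * m + 1) + 1 by ring, ← hm, pow_succ,
        pow_orderOf_eq_one, one_mul]
    have hcomm : Commute (g ^ 2) c := hg2
    rw [hgp]
    exact (hcomm.pow_left (m + 1)).eq

end aux

section aux2

variable {H : Type*} [Group H] [Finite H]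

/-- decomposition of an element into commuting parts of 2-power and of odd order -/
theorem exists_two_odd_decomp (g : H) : ∃ x y : H, x ∈ Subgroup.zpowers g ∧
    y ∈ Subgroup.zpowers g ∧ g = x * y ∧ (∃ k : ℕ, x ^ 2 ^ k = 1) ∧ Odd (orderOf y) := by
  set n := orderOf g with hn
  have hn0 : n ≠ 0 := (orderOf_pos g).ne'
  set k := n.factorization 2 with hk
  set q := 2 ^ k with hq
  set m := n / q with hm
  have hqm : q * m = n := Nat.ordProj_mul_ordCompl_eq_self n 2
  have hcop : Nat.Coprime 2 m := Nat.coprime_ordCompl Nat.prime_two hn0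
  have hcop' : Nat.Coprime q m := Nat.Coprime.pow_left k hcop
  have hbez := Nat.gcd_eq_gcd_ab q m
  rw [hcop'.gcd_eq_one] at hbez
  set a := Nat.gcdA q m
  set b := Nat.gcdB q m
  refine ⟨g ^ ((m : ℤ) * b), g ^ ((q : ℤ) * a), Subgroup.zpow_mem_zpowers g _,
    Subgroup.zpow_mem_zpowers g _, ?_, ⟨k, ?_⟩, ?_⟩
  · rw [← zpow_add, add_comm, ← hbez]
    simp
  · rw [← zpow_natCast, ← zpow_mul]
    have : (m : ℤ) * b * ((2 ^ k : ℕ) : ℤ) = (n : ℤ) * b := by
      rw [← hqm, hq]; push_cast; ring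
    rw [this, zpow_mul, zpow_natCast, hn, pow_orderOf_eq_one, one_zpow]
  · have h1 : (g ^ ((q : ℤ) * a)) ^ m = 1 := by
      rw [← zpow_natCast, ← zpow_mul]
      have : (q : ℤ) * a * (m : ℤ) = (n : ℤ) * a := by
        rw [← hqm]; push_cast; ring
      rw [this, zpow_mul, zpow_natCast, hn, pow_orderOf_eq_one, one_zpow]
    have h2 := orderOf_dvd_of_pow_eq_one h1
    exact Odd.of_dvd_nat (Nat.coprime_two_left.mp hcop) h2

end aux2


/-- Let H be a finite group with quasi-dihedral or wreathed Sylow 2-subgroup S such that H has a normal subgroup K of index a power of 2 with no subgroup of index 2 and with generalized quaternion Sylow 2-subgroups, and such that every subgroup of Z(S) is weakly closed in S with respect to H. Then H = O(H) C_H(Z(S)): every element of H is the product of an element of the largest normal odd-order subgroup and an element centralizing Z(S). -/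
theorem result {H : Type*} [Group H] [Finite H] (S : Sylow 2 H) (hS : Cfsg.IsQuasiDihedral (S : Subgroup H) ∨ Cfsg.IsWreathed (S : Subgroup H)) (hQ : (∃ K : Subgroup H, K.Normal ∧ (∃ a : ℕ, K.index = 2 ^ a) ∧ (∀ M : Subgroup ↥K, M.index ≠ 2) ∧ (∀ P : Sylow 2 ↥K, ∃ m : ℕ, 1 ≤ m ∧ Nonempty ((P : Subgroup ↥K) ≃* QuaternionGroup (2 ^ m)))) ∧ (∀ Z₀ : Subgroup H, Z₀ ≤ ((Subgroup.center (S : Subgroup H)).map (S : Subgroup H).subtype) → Cfsg.IsWeaklyClosed Z₀ (S : Subgroup H))) (h : H) : ∃ o ∈ Cfsg.oddCore H, ∃ c ∈ Subgroup.centralizer (((Subgroup.center (S : Subgroup H)).map (S : Subgroup H).subtype : Subgroup H) : Set H), h = o * c := by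
  have hp2 : Fact (Nat.Prime 2) := ⟨Nat.prime_two⟩
  set ZS : Subgroup H := (Subgroup.center (S : Subgroup H)).map (S : Subgroup H).subtype with hZS
  have hZSS : ZS ≤ (S : Subgroup H) := by
    rintro _ ⟨z, -, rfl⟩
    exact z.2
  have hZScomm : ∀ c ∈ ZS, ∀ s ∈ (S : Subgroup H), s * c = c * s := by
    rintro _ ⟨z, hz, rfl⟩ s hs
    have := Subgroup.mem_center_iff.mp hz ⟨s, hs⟩
    exact congrArg Subtype.val this
  -- the elements of `Z(S)` are not fused to other elements of `S`
  have hJ : Cfsg.Agent.Lib.H1.ZStarGen.JHyp S ZS := by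
    refine ⟨hZSS, fun c hc g hg => ?_⟩
    set Z₀ : Subgroup H := Subgroup.zpowers c with hZ₀
    have hZ₀le : Z₀ ≤ ZS := by rw [hZ₀, Subgroup.zpowers_le]; exact hc
    have hwc := (hQ.2 Z₀ hZ₀le).2 g (by
      rw [Subgroup.map_le_iff_le_comap, hZ₀, Subgroup.zpowers_le, Subgroup.mem_comap]
      exact hg)
    have hgn : g * c * g⁻¹ ∈ Subgroup.zpowers c := by
      rw [← hZ₀, ← hwc]
      exact ⟨c, Subgroup.mem_zpowers c, rfl⟩
    -- the normalizer of `Z₀`
    set N : Subgroup H := Subgroup.normalizer (Z₀ : Set H) with hN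
    have hgN : g ∈ N := by
      rw [hN, Subgroup.mem_normalizer_iff]
      intro x
      constructor
      · intro hx
        exact conj_mem_zpowers hgn hx
      · intro hx
        rw [← hwc] at hx
        obtain ⟨x', hx', hxx⟩ := hx
        have : x' = x := by
          have h1 : g * x' * g⁻¹ = g * x * g⁻¹ := hxx
          exact mul_left_cancel (mul_right_cancel h1)
        rw [← this]; exact hx'
    have hSN : (S : Subgroup H) ≤ N := by
      intro s hs
      rw [hN, Subgroup.mem_normalizer_iff]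
      have hsx : ∀ x ∈ Z₀, s * x * s⁻¹ = x := by
        intro x hx
        have := hZScomm x (hZ₀le hx) s hs
        rw [this]; group
      intro x
      constructor
      · intro hx
        rw [hsx x hx]; exact hx
      · intro hx
        have := hsx _ hx
        have h1 : s * x * s⁻¹ = x := by
          have h2 : s * (s * x * s⁻¹) * s⁻¹ = s * x * s⁻¹ := this
          exact mul_left_cancel (mul_right_cancel h2)
        rw [← h1]; exact hx
    obtain ⟨k₀, hk₀⟩ := Cfsg.Agent.Lib.H1.ZStarGen.exists_pow_of_mem_sylow S (hZSS hc)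
    obtain ⟨kc, -, hkc⟩ := (Nat.dvd_prime_pow Nat.prime_two).mp (orderOf_dvd_of_pow_eq_one hk₀)
    obtain ⟨x, y, hxg, hyg, hgxy, ⟨kx, hkx⟩, hyodd⟩ := exists_two_odd_decomp g
    have hxN : x ∈ N := (Subgroup.zpowers_le.mpr hgN) hxg
    have hyN : y ∈ N := (Subgroup.zpowers_le.mpr hgN) hyg
    -- the odd part
    have hyc : y * c = c * y := by
      apply commute_of_odd_normalizes kc c y hkc hyodd
      exact (Subgroup.mem_normalizer_iff.mp hyN c).mp (Subgroup.mem_zpowers c)
    -- the 2-part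
    have hxc : x * c = c * x := by
      have hz : IsPGroup 2 (Subgroup.zpowers x) := by
        obtain ⟨j, -, hj⟩ := (Nat.dvd_prime_pow Nat.prime_two).mp (orderOf_dvd_of_pow_eq_one hkx)
        apply IsPGroup.of_card (n := j)
        rw [Nat.card_zpowers, hj]
      obtain ⟨ν, hν, hle⟩ := Cfsg.Agent.Lib.H1.ZStarGen.exists_le_smul_of_le N S hSN
        (Subgroup.zpowers x) hz (Subgroup.zpowers_le.mpr hxN)
      have h1 := hle (Subgroup.mem_zpowers x)
      rw [Cfsg.Agent.Lib.H1.ZStarGen.mem_smul_iff] at h1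
      have hνc : ν⁻¹ * c * ν⁻¹⁻¹ ∈ Z₀ :=
        (Subgroup.mem_normalizer_iff.mp (N.inv_mem hν) c).mp (Subgroup.mem_zpowers c)
      have h2 := hZScomm _ (hZ₀le hνc) _ h1
      have h3 : ν * ((ν⁻¹ * x * ν) * (ν⁻¹ * c * ν⁻¹⁻¹)) * ν⁻¹ =
          ν * ((ν⁻¹ * c * ν⁻¹⁻¹) * (ν⁻¹ * x * ν)) * ν⁻¹ := by rw [h2]
      have e1 : ν * ((ν⁻¹ * x * ν) * (ν⁻¹ * c * ν⁻¹⁻¹)) * ν⁻¹ = x * c := by group
      have e2 : ν * ((ν⁻¹ * c * ν⁻¹⁻¹) * (ν⁻¹ * x * ν)) * ν⁻¹ = c * x := by group
      rw [e1, e2] at h3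
      exact h3
    have hgc : g * c = c * g := by
      rw [hgxy]
      calc x * y * c = x * (y * c) := by group
        _ = x * (c * y) := by rw [hyc]
        _ = (x * c) * y := by group
        _ = (c * x) * y := by rw [hxc]
        _ = c * (x * y) := by group
    rw [hgc]; group
  have hgz := Cfsg.Agent.Lib.H1.ZStarGen.gz S ZS hJ
  -- coprime action of `Z(S)` on the odd core
  have hOn : (Cfsg.oddCore H).Normal := inferInstance
  have hOodd : (Nat.card (Cfsg.oddCore H)).Coprime 2 :=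
    Cfsg.Agent.Lib.H22.card_pPrimeCore_coprime 2
  have hZS2 : IsPGroup 2 ZS := S.2.to_le hZSS
  have hact : Cfsg.Agent.Lib.H1.CoprimeAction ZS (Cfsg.oddCore H) := by
    refine ⟨?_, ?_, Or.inl ?_⟩
    · intro a _
      rw [Subgroup.mem_normalizer_iff]
      intro x
      exact ⟨fun h => hOn.conj_mem x h a, fun h => by
        have := hOn.conj_mem _ h a⁻¹
        have e : a⁻¹ * (a * x * a⁻¹) * a⁻¹⁻¹ = x := by group
        rwa [e] at this⟩
    · obtain ⟨n, hn⟩ := IsPGroup.iff_card.mp hZS2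
      rw [hn]
      exact Nat.Coprime.pow_left n hOodd.symm
    · have := hZS2.isNilpotent
      infer_instance
  obtain ⟨d, hd, hc⟩ := Cfsg.Agent.Lib.H1.coprime_coset_fixed hact h⁻¹ (by
    intro a ha
    have h1 := (Cfsg.oddCore H).inv_mem (hgz a ha h)
    have e : (a * h * a⁻¹ * h⁻¹)⁻¹ = h⁻¹⁻¹ * a * h⁻¹ * a⁻¹ := by group
    rwa [e] at h1)
  refine ⟨d, hd, (h⁻¹ * d)⁻¹, Subgroup.inv_mem _ hc, by group⟩

end Cfsg.Agent.S1215
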