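import Cfsg.Statements.S1224
import Cfsg.Agent.Lib.H6.StrEmb

set_option autoImplicit false
open Cfsg

namespace Cfsg.Agent.S1224

open Cfsg.Agent.Lib.H6.SE

set_option linter.unusedSectionVars false

variable {G : Type*} [Group G] [Finite G] {H : Subgroup G}

/-- the involutions fixing a given coset are as many as the involutions of `H`. -/
theorem card_fix (c : G ⧸ H) :
    Nat.card {u : G // orderOf u = 2 ∧ u • c = c} = Nat.card {t : G // orderOf t = 2 ∧ t ∈ H} := by
  induction c using QuotientGroup.induction_on with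
  | H a =>
    apply Nat.card_congr
    refine Equiv.subtypeEquiv (MulAut.conj a⁻¹).toEquiv ?_
    intro u
    rw [smul_mk_eq_iff]
    have e : (MulAut.conj a⁻¹).toEquiv u = a⁻¹ * u * a := by simp
    rw [e]
    constructor
    · rintro ⟨h1, h2⟩
      exact ⟨orderOf_conj' h1 a, h2⟩
    · rintro ⟨h1, h2⟩
      refine ⟨?_, h2⟩
      have := orderOf_conj h1 a
      have e2 : a * (a⁻¹ * u * a) * a⁻¹ = u := by group
      rwa [e2] at this

/-- at least as many involutions map `x` to `y` as there are involutions in `H`. -/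
theorem le_card_swap (hH : Cfsg.IsStronglyEmbedded H) {x y : G ⧸ H} (hxy : x ≠ y) :
    Nat.card {t : G // orderOf t = 2 ∧ t ∈ H} ≤ Nat.card {u : G // orderOf u = 2 ∧ u • x = y} := by
  rw [← card_fix x]
  -- an involution fixing y
  have hpos : 0 < Nat.card {u : G // orderOf u = 2 ∧ u • y = y} := by
    rw [card_fix y]
    obtain ⟨t, htH, ht⟩ := exists_involution hH
    exact Nat.card_pos_iff.mpr ⟨⟨⟨t, ht, htH⟩⟩, inferInstance⟩
  obtain ⟨⟨j₀, hj₀, hj₀y⟩⟩ := (Nat.card_pos_iff.mp hpos).1
  have hex : ∀ i : {u : G // orderOf u = 2 ∧ u • x = x}, ∃ u : G, orderOf u = 2 ∧ u * i.1 * u = j₀ ∧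
      u • x = y ∧ u • y = x := fun i => exists_swap hH i.2.1 hj₀ i.2.2 hj₀y hxy
  choose f hf1 hf2 hf3 hf4 using hex
  apply Nat.card_le_card_of_injective (fun i => (⟨f i, hf1 i, hf3 i⟩ : {u : G // orderOf u = 2 ∧ u • x = y}))
  intro i i' h
  simp only [Subtype.mk.injEq] at h
  have h1 := hf2 i
  have h2 := hf2 i'
  rw [h] at h1
  apply Subtype.ext
  have := h1.trans h2.symm
  exact mul_left_cancel (mul_right_cancel this)

/-- Let H be a strongly embedded subgroup of the finite group G and x ≠ y two cosets in G/H. Then the number of involutions i of G with i • x = y equals the number of involutions lying in H. -/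
theorem result {G : Type*} [Group G] [Finite G] (H : Subgroup G) (hH : Cfsg.IsStronglyEmbedded H) (x y : G ⧸ H) (hxy : x ≠ y) : Nat.card {i : G // orderOf i = 2 ∧ i • x = y} = Nat.card {t : G // orderOf t = 2 ∧ t ∈ H} := by

  classical
  have := Fintype.ofFinite {z : G ⧸ H // z ≠ x}
  -- the involutions moving x, counted in two ways
  let e₁ : {u : G // orderOf u = 2 ∧ u • x ≠ x} ≃
      Σ z : {z : G ⧸ H // z ≠ x}, {u : G // orderOf u = 2 ∧ u • x = z.1} :=
    { toFun := fun u => ⟨⟨u.1 • x, u.2.2⟩, ⟨u.1, u.2.1, rfl⟩⟩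
      invFun := fun p => ⟨p.2.1, p.2.2.1, by rw [p.2.2.2]; exact p.1.2⟩
      left_inv := fun u => rfl
      right_inv := by
        rintro ⟨⟨z, hz⟩, ⟨u, h1, h2⟩⟩
        apply Sigma.subtype_ext
        · exact Subtype.ext h2
        · rfl }
  have hfix : ∀ u : {u : G // orderOf u = 2 ∧ u • x ≠ x}, ∃ c : G ⧸ H, u.1 • c = c :=
    fun u => exists_fix hH u.2.1
  choose fx hfx using hfix
  let e₂ : {u : G // orderOf u = 2 ∧ u • x ≠ x} ≃
      Σ c : {z : G ⧸ H // z ≠ x}, {u : G // orderOf u = 2 ∧ u • c.1 = c.1} :=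
    { toFun := fun u => ⟨⟨fx u, by
          intro h
          have := hfx u
          rw [h] at this
          exact u.2.2 this⟩, ⟨u.1, u.2.1, hfx u⟩⟩
      invFun := fun p => ⟨p.2.1, p.2.2.1, by
          intro h
          exact p.1.2 (fix_unique hH p.2.2.1 p.2.2.2 h)⟩
      left_inv := fun u => rfl
      right_inv := by
        rintro ⟨⟨c, hc⟩, ⟨u, h1, h2⟩⟩
        apply Sigma.subtype_ext
        · apply Subtype.ext
          exact fix_unique hH h1 (hfx ⟨u, h1, fun h => hc (fix_unique hH h1 h2 h)⟩) h2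
        · rfl }
  have h1 := Nat.card_congr e₁
  have h2 := Nat.card_congr e₂
  rw [Nat.card_sigma] at h1 h2
  have h3 : ∑ z : {z : G ⧸ H // z ≠ x}, Nat.card {t : G // orderOf t = 2 ∧ t ∈ H} =
      ∑ z : {z : G ⧸ H // z ≠ x}, Nat.card {u : G // orderOf u = 2 ∧ u • x = z.1} := by
    rw [← h1, h2]
    apply Finset.sum_congr rfl
    intro c _
    rw [card_fix]
  have h4 := (Finset.sum_eq_sum_iff_of_le (fun z _ => le_card_swap hH (x := x) (y := z.1) (Ne.symm z.2))).mp h3
  exact (h4 ⟨y, Ne.symm hxy⟩ (Finset.mem_univ _)).symm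

end Cfsg.Agent.S1224
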