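import Cfsg.Statements.S1227
import Cfsg.Agent.Lib.H6.CIT2

set_option autoImplicit false
open Cfsg

namespace Cfsg.Agent.S1227

open Cfsg.Agent.Lib.H6.CIT

/-- Let G be a finite group with a Sylow 2-subgroup T that is neither cyclic nor normal, such that the centralizer of every involution is an elementary abelian 2-group; put H = N_G(T), let u be an involution outside H and D = H ∩ uHu⁻¹. Then u inverts every element of D, |H| = |T|·(|T| − 1), and D is a complement to T in H. -/
theorem result {G : Type*} [Group G] [Finite G] (T : Sylow 2 G) (hnc : ¬ IsCyclic (T : Subgroup G)) (hnn : ¬ (T : Subgroup G).Normal) (hC : ∀ t : G, orderOf t = 2 → IsMulCommutative (Subgroup.centralizer ({t} : Set G)) ∧ ∀ c ∈ Subgroup.centralizer ({t} : Set G), c ^ 2 = 1) (u : G) (hu : orderOf u = 2) (huH : u ∉ Subgroup.normalizer ((T : Subgroup G) : Set G)) : (∀ d ∈ Subgroup.normalizer ((T : Subgroup G) : Set G) ⊓ (Subgroup.normalizer ((T : Subgroup G) : Set G)).map (MulAut.conj u).toMonoidHom, u * d * u⁻¹ = d⁻¹) ∧ Nat.card (Subgroup.normalizer ((T : Subgroup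 G) : Set G)) = Nat.card T * (Nat.card T - 1) ∧ Subgroup.IsComplement' ((Subgroup.normalizer ((T : Subgroup G) : Set G) ⊓ (Subgroup.normalizer ((T : Subgroup G) : Set G)).map (MulAut.conj u).toMonoidHom).subgroupOf (Subgroup.normalizer ((T : Subgroup G) : Set G))) ((T : Subgroup G).subgroupOf (Subgroup.normalizer ((T : Subgroup G) : Set G))) := by

  have hT : (T : Subgroup G) ≠ ⊥ := by
    intro h
    apply hnc
    rw [h]
    exact isCyclic_of_subsingleton
  have hcardN := card_N T hC hT hnn hu huH
  have hcardD := card_D T hC hT hnn hu huH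
  refine ⟨fun d hd => D_inverted T hC hT hnn hu huH hd, ?_, ?_⟩
  · rw [hcardN, hcardD, mul_comm]
  · apply Subgroup.isComplement'_of_card_mul_and_disjoint
    · have e1 : Nat.card ↥((Subgroup.normalizer ((T : Subgroup G) : Set G) ⊓
          (Subgroup.normalizer ((T : Subgroup G) : Set G)).map (MulAut.conj u).toMonoidHom).subgroupOf
            (Subgroup.normalizer ((T : Subgroup G) : Set G))) =
          Nat.card ↥(Subgroup.normalizer ((T : Subgroup G) : Set G) ⊓
          (Subgroup.normalizer ((T : Subgroup G) : Set G)).map (MulAut.conj u).toMonoidHom) :=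
        Nat.card_congr (Subgroup.subgroupOfEquivOfLe inf_le_left).toEquiv
      have e2 : Nat.card ↥((T : Subgroup G).subgroupOf (Subgroup.normalizer ((T : Subgroup G) : Set G))) =
          Nat.card (T : Subgroup G) :=
        Nat.card_congr (Subgroup.subgroupOfEquivOfLe Subgroup.le_normalizer).toEquiv
      rw [e1, e2, hcardN]
    · rw [disjoint_iff, eq_bot_iff]
      rintro ⟨x, hxN⟩ hx
      rw [Subgroup.mem_inf, Subgroup.mem_subgroupOf, Subgroup.mem_subgroupOf] at hx
      rw [Subgroup.mem_bot]
      apply Subtype.ext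
      exact D_inf_T T hC hT hnn hu huH hx.1 hx.2

end Cfsg.Agent.S1227
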