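import Cfsg.Statements.S1231
import Cfsg.Agent.Lib.H15.Conj
import Cfsg.Agent.Lib.H10.SylowIn

set_option autoImplicit false
open Cfsg

namespace Cfsg.Agent.S1231

open Cfsg.Agent.Lib.H15 Cfsg.Agent.Lib.H10

variable {G : Type*} [Group G]

/-- `X` contains an elementary abelian `p`-subgroup of order `> p^j`. -/
def HasRank (p j : ℕ) (X : Subgroup G) : Prop :=
  ∃ A : Subgroup G, A ≤ X ∧ IsMulCommutative A ∧ (∀ a ∈ A, a ^ p = 1) ∧ p ^ j < Nat.card A

theorem not_pRankLE_iff (p j : ℕ) (X : Subgroup G) : ¬ Cfsg.PRankLE p j ↥X ↔ HasRank p j X := by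
  unfold Cfsg.PRankLE HasRank
  constructor
  · intro h
    push Not at h
    obtain ⟨A₀, hc, he, hcard⟩ := h
    refine ⟨A₀.map X.subtype, Subgroup.map_subtype_le _, ?_, ?_, ?_⟩
    · infer_instance
    · rintro a ⟨b, hb, rfl⟩
      have := he b hb
      have h2 := congrArg Subtype.val this
      simpa using h2
    · rw [Subgroup.card_map_of_injective X.subtype_injective]
      exact hcard
  · rintro ⟨A, hAX, hc, he, hcard⟩ h
    have h1 := h (A.subgroupOf X) inferInstance (by
      intro a ha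
      rw [Subgroup.mem_subgroupOf] at ha
      apply Subtype.ext
      have := he _ ha
      simpa using this)
    rw [Nat.card_congr (Subgroup.subgroupOfEquivOfLe hAX).toEquiv] at h1
    omega

theorem HasRank.mono {p j : ℕ} {X Y : Subgroup G} (h : HasRank p j X) (hXY : X ≤ Y) : HasRank p j Y := by
  obtain ⟨A, hA, h1, h2, h3⟩ := h
  exact ⟨A, hA.trans hXY, h1, h2, h3⟩

theorem HasRank.conj {p j : ℕ} {X : Subgroup G} (h : HasRank p j X) (g : G) : HasRank p j (cj g X) := by
  obtain ⟨A, hA, h1, h2, h3⟩ := h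
  refine ⟨cj g A, cj_mono g hA, ?_, ?_, ?_⟩
  · show IsMulCommutative (A.map (MulAut.conj g).toMonoidHom)
    infer_instance
  · intro a ha
    rw [mem_cj_iff] at ha
    have := h2 _ ha
    have e : (g⁻¹ * a * g) ^ p = g⁻¹ * a ^ p * g := by
      have : g⁻¹ * a * g = (MulAut.conj g⁻¹) a := by simp
      rw [this, ← map_pow]; simp
    rw [e] at this
    calc a ^ p = g * (g⁻¹ * a ^ p * g) * g⁻¹ := by group
      _ = 1 := by rw [this]; group
  · rw [card_cj]; exact h3

theorem HasRank.isPGroup {p : ℕ} {A : Subgroup G} (h2 : ∀ a ∈ A, a ^ p = 1) : IsPGroup p A := by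
  intro a
  refine ⟨1, ?_⟩
  apply Subtype.ext
  rw [pow_one]
  simpa using h2 a.1 a.2

/-- key step: a Sylow `p`-subgroup `R` of `I ≤ K` with `N_G(R) ≤ I` is Sylow in `K`. -/
theorem sylowIn_of_normalizer_le [Finite G] {p : ℕ} [Fact p.Prime] {R I K : Subgroup G}
    (hRI : R ≤ I) (hIK : I ≤ K) (hR : IsPGroup p R) (hRs : ¬ p ∣ R.relIndex I)
    (hN : Subgroup.normalizer (R : Set G) ⊓ K ≤ I) : ¬ p ∣ R.relIndex K := by
  obtain ⟨R₂, hRR₂, hR₂K, hR₂p, hR₂s⟩ := exists_sylowIn hR (hRI.trans hIK)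
  have heq : R = R₂ := by
    by_contra hne
    have hlt : R < R₂ := lt_of_le_of_ne hRR₂ hne
    have h1 := lt_inf_normalizer_of_lt hR₂p hlt
    have h2 : R₂ ⊓ Subgroup.normalizer (R : Set G) ≤ I := by
      intro x hx
      exact hN ⟨hx.2, hR₂K hx.1⟩
    have h3 : R = R₂ ⊓ Subgroup.normalizer (R : Set G) :=
      eq_of_le_of_not_dvd_relIndex h1.le h2 (hR₂p.to_le inf_le_left) hRs
    exact h1.ne h3
  rw [heq]; exact hR₂s

/-- Let H be a subgroup of the finite group G, p a prime, k ≥ 1, and P a Sylow p-subgroup of H whose p-rank is at least k. Then N_G(X) ≤ H for every subgroup X of P of p-rank at least k if and only if H ∩ gHg⁻¹ has p-rank less than k for every g ∉ H. -/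
theorem result {G : Type*} [Group G] [Finite G] {p : ℕ} [Fact p.Prime] (k : ℕ) (hk : 1 ≤ k) (H : Subgroup G) (P : Sylow p ↥H) (hP : ¬ Cfsg.PRankLE p (k - 1) ↥(P : Subgroup ↥H)) : (∀ X : Subgroup G, X ≤ (P : Subgroup ↥H).map H.subtype → ¬ Cfsg.PRankLE p (k - 1) ↥X → Subgroup.normalizer (X : Set G) ≤ H) ↔ (∀ g : G, g ∉ H → Cfsg.PRankLE p (k - 1) ↥(H ⊓ H.map (MulAut.conj g).toMonoidHom)) := by

  classical
  set P' : Subgroup G := (P : Subgroup ↥H).map H.subtype with hP'
  have hP'H : P' ≤ H := Subgroup.map_subtype_le _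
  have hP'p : IsPGroup p P' := P.2.map _
  have hP's : ¬ p ∣ P'.relIndex H := by
    have : P'.subgroupOf H = P := by
      ext x
      simp [hP', Subgroup.mem_subgroupOf]
    unfold Subgroup.relIndex
    rw [this]
    exact P.not_dvd_index
  have hP'rank : HasRank p (k - 1) P' := by
    obtain ⟨A, hAP, h1, h2, h3⟩ := (not_pRankLE_iff p (k - 1) (P : Subgroup ↥H)).mp hP
    refine ⟨A.map H.subtype, Subgroup.map_mono hAP, inferInstance, ?_, ?_⟩
    · rintro a ⟨b, hb, rfl⟩
      have := h2 b hb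
      have h4 := congrArg Subtype.val this
      simpa using h4
    · rw [Subgroup.card_map_of_injective H.subtype_injective]
      exact h3
  have hpr : ∀ X : Subgroup G, Cfsg.PRankLE p (k - 1) ↥X ↔ ¬ HasRank p (k - 1) X := by
    intro X
    rw [← not_pRankLE_iff, not_not]
  simp only [hpr, not_not]
  constructor
  · intro hall g hg hcon
    obtain ⟨A, hAI, hAc, hAe, hAcard⟩ := hcon
    have hAp : IsPGroup p A := HasRank.isPGroup hAe
    obtain ⟨R, hAR, hRI, hRp, hRs⟩ := exists_sylowIn hAp hAI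
    have hRrank : HasRank p (k - 1) R := ⟨A, hAR, hAc, hAe, hAcard⟩
    have hRH : R ≤ H := hRI.trans inf_le_left
    have hRHg : R ≤ cj g H := hRI.trans inf_le_right
    -- N_G(R) ≤ H
    have hN1 : Subgroup.normalizer (R : Set G) ≤ H := by
      obtain ⟨m, hm, hmR⟩ := exists_mem_map_conj_le_of_sylowIn hP'p hP'H hP's hRp hRH
      have h1 := hall (cj m R) hmR (hRrank.conj m)
      rw [normalizer_cj, cj_le_iff, cj_eq_self_of_mem (H.inv_mem hm)] at h1
      exact h1
    -- N_G(R) ≤ H^g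
    have hN2 : Subgroup.normalizer (R : Set G) ≤ cj g H := by
      have hR' : cj g⁻¹ R ≤ H := by
        rw [cj_le_iff, inv_inv]; exact hRHg
      obtain ⟨m, hm, hmR⟩ := exists_mem_map_conj_le_of_sylowIn hP'p hP'H hP's
        (isPGroup_map_conj g⁻¹ hRp) hR'
      have h1 := hall (cj m (cj g⁻¹ R)) hmR ((hRrank.conj g⁻¹).conj m)
      rw [normalizer_cj, normalizer_cj, cj_le_iff, cj_eq_self_of_mem (H.inv_mem hm), cj_le_iff,
        inv_inv] at h1
      exact h1
    have hNI : Subgroup.normalizer (R : Set G) ≤ H ⊓ cj g H := le_inf hN1 hN2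
    -- R is Sylow in H and in H^g
    have hs1 : ¬ p ∣ R.relIndex H :=
      sylowIn_of_normalizer_le hRI inf_le_left hRp hRs (inf_le_left.trans hNI)
    have hs2 : ¬ p ∣ R.relIndex (cj g H) :=
      sylowIn_of_normalizer_le hRI inf_le_right hRp hRs (inf_le_left.trans hNI)
    have hs3 : ¬ p ∣ (cj g⁻¹ R).relIndex H := by
      have := relIndex_map_conj g⁻¹ R (cj g H)
      have e : (cj g H).map (MulAut.conj g⁻¹).toMonoidHom = H := cj_inv_cj H g
      rw [e] at this
      show ¬ p ∣ (R.map (MulAut.conj g⁻¹).toMonoidHom).relIndex H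
      rw [this]; exact hs2
    have hR' : cj g⁻¹ R ≤ H := by
      rw [cj_le_iff, inv_inv]; exact hRHg
    obtain ⟨m, hm, hmR⟩ := exists_mem_map_conj_le_of_sylowIn hRp hRH hs1
      (isPGroup_map_conj g⁻¹ hRp) hR'
    have hmg : m * g⁻¹ ∈ Subgroup.normalizer (R : Set G) := by
      apply mem_normalizer_of_cj_le
      rw [← cj_cj]; exact hmR
    have h2 : m * g⁻¹ ∈ H := hN1 hmg
    apply hg
    have e : g = (m * g⁻¹)⁻¹ * m := by group
    rw [e]
    exact H.mul_mem (H.inv_mem h2) hm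
  · intro hall X hXP hXr g hg
    by_contra hgH
    apply hall g hgH
    apply hXr.mono
    apply le_inf (hXP.trans hP'H)
    have : cj g X = X := mem_normalizer_iff_cj_eq.mp hg
    rw [← this]
    exact cj_mono g (hXP.trans hP'H)

end Cfsg.Agent.S1231
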