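import Cfsg.Statements.S1236
import Cfsg.Agent.Lib.H6.FourSC

set_option autoImplicit false
open Cfsg

namespace Cfsg.Agent.S1236

/-- Let R be a finite group, t a central involution of R such that R ⧸ ⟨t⟩ is dihedral (of order ≥ 4) or quasi-dihedral, and A ≤ R an elementary abelian subgroup of order 8 containing t. Then C_R(A) = A. -/
theorem result {R : Type*} [Group R] [Finite R] (t : R) (ht : orderOf t = 2) (htz : t ∈ Subgroup.center R) [(Subgroup.zpowers t).Normal] (hq : (∃ m : ℕ, 2 ≤ m ∧ Nonempty (R ⧸ Subgroup.zpowers t ≃* DihedralGroup m)) ∨ Cfsg.IsQuasiDihedral (R ⧸ Subgroup.zpowers t)) (A : Subgroup R) (hA : Cfsg.IsElementaryAbelian 2 A) (hA8 : Nat.card A = 8) (htA : t ∈ A) : Subgroup.centralizer (A : Set R) = A := by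

  classical
  set N := Subgroup.zpowers t with hN
  set π := QuotientGroup.mk' N with hπ
  have hπs : Function.Surjective π := QuotientGroup.mk'_surjective N
  have hker : π.ker = N := QuotientGroup.ker_mk' N
  have hNA : N ≤ A := by
    rw [hN, Subgroup.zpowers_le]; exact htA
  have hcardN : Nat.card N = 2 := by rw [hN, Nat.card_zpowers, ht]
  -- the key property of the quotient
  have hSC : Lib.H6.FourSC.FourSC (R ⧸ N) := by
    rcases hq with ⟨m, hm, ⟨e⟩⟩ | hq
    · haveI : NeZero m := ⟨by omega⟩
      exact Lib.H6.FourSC.FourSC.of_equiv e Lib.H6.FourSC.fourSC_dihedral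
    · exact Lib.H6.FourSC.fourSC_quasiDihedral hq
  set V := A.map π with hVdef
  have hcardV : Nat.card V = 4 := by
    have h1 : V.index = A.index := by
      rw [hVdef, Subgroup.index_map, hker, sup_of_le_left hNA,
        MonoidHom.range_eq_top.mpr hπs, Subgroup.index_top, mul_one]
    have h2 := Subgroup.card_mul_index A
    have h3 := Subgroup.card_mul_index V
    have h4 := Subgroup.card_eq_card_quotient_mul_card_subgroup N
    rw [h1] at h3
    rw [hA8] at h2
    rw [hcardN] at h4
    have h5 : A.index ≠ 0 := Subgroup.index_ne_zero_of_finite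
    have h6 : Nat.card V * A.index * 2 = 4 * A.index * 2 := by
      rw [h3, ← h4, ← h2]; ring
    have h7 : Nat.card V * A.index = 4 * A.index := by omega
    exact Nat.eq_of_mul_eq_mul_right (Nat.pos_of_ne_zero h5) h7
  have hsqV : ∀ v ∈ V, v * v = 1 := by
    intro v hv
    rw [hVdef, Subgroup.mem_map] at hv
    obtain ⟨a, ha, rfl⟩ := hv
    rw [← map_mul, ← pow_two, hA.2 a ha, map_one]
  apply le_antisymm
  · intro g hg
    rw [Subgroup.mem_centralizer_iff] at hg
    have h1 : π g ∈ V := by
      apply hSC V hcardV hsqV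
      intro v hv
      rw [hVdef, Subgroup.mem_map] at hv
      obtain ⟨a, ha, rfl⟩ := hv
      rw [← map_mul, ← map_mul, hg a ha]
    rw [hVdef, Subgroup.mem_map] at h1
    obtain ⟨a, ha, hag⟩ := h1
    have h2 : a⁻¹ * g ∈ N := by
      rw [← hker, MonoidHom.mem_ker, map_mul, map_inv, hag, inv_mul_cancel]
    have h3 : a * (a⁻¹ * g) ∈ A := A.mul_mem ha (hNA h2)
    rwa [mul_inv_cancel_left] at h3
  · intro a ha
    rw [Subgroup.mem_centralizer_iff]
    intro b hb
    haveI hc := hA.1
    have := mul_comm' (⟨b, hb⟩ : A) ⟨a, ha⟩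
    exact congrArg Subtype.val this

end Cfsg.Agent.S1236
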