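import Cfsg.Statements.S1239
import Mathlib
import Cfsg.Agent.Lib.H5.WreathedCases
import Cfsg.Agent.Lib.H5.WreathedCase2
import Cfsg.Agent.Lib.H5.WreathedOdd
import Cfsg.Agent.Lib.H5.QuasiDihedral
import Cfsg.Agent.Lib.H1.ZStarGen
import Cfsg.Agent.Lib.H6.Dihedral
import Cfsg.Agent.S0216

set_option autoImplicit false
open Cfsg

namespace Cfsg.Agent.S1239

open Subgroup Cfsg.Agent.Lib.H5 Cfsg.Agent.Lib.H5.Wr Cfsg.Agent.Lib.H5.WS Cfsg.Agent.Lib.H5.SD

/-- an isolated involution of the Sylow subgroup is conjugate to no other element of it -/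
theorem wc_of_isolated {X : Type*} [Group X] [Finite X] (S : Sylow 2 X) (z : X) (hzS : z ∈ S)
    (hz : Cfsg.IsIsolatedInvolution z) :
    ∀ g : X, g * z * g⁻¹ ∈ S → g * z * g⁻¹ = z := by
  apply (Cfsg.Agent.S0216.result S z hz.1 hzS).mpr
  intro g
  have h1 := Cfsg.Agent.Lib.H6.isolated_odd_orderOf hz g
  have hzz := Cfsg.Agent.Lib.H6.isolated_mul_self hz
  have hzi : z⁻¹ = z := inv_eq_of_mul_eq_one_right hzz
  have h2 : z * g * z⁻¹ * g⁻¹ = z * (g * z * g⁻¹) := by rw [hzi]; group
  rw [h2]
  exact h1

/-- from the general `Z*`-theorem: the product of the odd core with a subgroup of the Sylow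
subgroup no element of which is fused to another one is normal -/
theorem normal_of_jhyp {X : Type*} [Group X] [Finite X] (S : Sylow 2 X) (Zc : Subgroup X)
    (hJ : Cfsg.Agent.Lib.H1.ZStarGen.JHyp S Zc) : (Cfsg.oddCore X ⊔ Zc).Normal := by
  have hgz := Cfsg.Agent.Lib.H1.ZStarGen.gz S Zc hJ
  have hn : (Cfsg.oddCore X).Normal := inferInstance
  constructor
  intro m hm g
  rw [Subgroup.mem_sup_of_normal_left] at hm ⊢
  obtain ⟨o, ho, y, hy, rfl⟩ := hm
  refine ⟨(g * o * g⁻¹) * (y * g * y⁻¹ * g⁻¹)⁻¹, ?_, y, hy, ?_⟩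
  · exact mul_mem (hn.conj_mem o ho g) (inv_mem (hgz y hy g))
  · group

/-- Let X be a finite group whose Sylow 2-subgroup S is quasi-dihedral or wreathed, and suppose some involution of S is isolated in X. Then the product of the largest normal odd-order subgroup O(X) with the centre of S is normal in X. -/
theorem result {X : Type*} [Group X] [Finite X] (S : Sylow 2 X) (hS : Cfsg.IsQuasiDihedral (S : Subgroup X) ∨ Cfsg.IsWreathed (S : Subgroup X)) (z : X) (hzS : z ∈ S) (hz : Cfsg.IsIsolatedInvolution z) : (Cfsg.oddCore X ⊔ (Subgroup.center (S : Subgroup X)).map (S : Subgroup X).subtype).Normal := by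
  have hp2 : Fact (Nat.Prime 2) := ⟨Nat.prime_two⟩
  have hwc := wc_of_isolated S z hzS hz
  apply normal_of_jhyp S
  have hz1 : z ≠ 1 := by
    intro h
    have := hz.1
    rw [h, orderOf_one] at this
    omega
  -- `z` is central in `S`
  have hzc : (⟨z, hzS⟩ : ↥(S : Subgroup X)) ∈ center ↥(S : Subgroup X) := by
    rw [Subgroup.mem_center_iff]
    intro s
    have h1 := hwc s (mul_mem (mul_mem s.2 hzS) (inv_mem s.2))
    apply Subtype.ext
    show (s : X) * z = z * s
    calc (s : X) * z = ((s : X) * z * (s : X)⁻¹) * s := by group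
      _ = z * s := by rw [h1]
  refine ⟨Subgroup.map_subtype_le _, ?_⟩
  rcases hS with hS | hS
  · -- the quasi-dihedral case: the centre has order two
    obtain ⟨n, x, y, d⟩ := SD.exists_gens hS
    rintro _ ⟨c, hc, rfl⟩ g hg
    rcases (d.mem_center_iff' c).mp hc with rfl | rfl
    · simp
    · rcases (d.mem_center_iff' _).mp hzc with h | h
      · exact absurd (congrArg Subtype.val h) hz1
      · have h' : ((xp n x (hh n) : ↥(S : Subgroup X)) : X) = z := (congrArg Subtype.val h).symm
        have hg' : g * z * g⁻¹ ∈ (S : Subgroup X) := by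
          have := hg
          simp only [Subgroup.coe_subtype] at this
          rw [h'] at this
          exact this
        simp only [Subgroup.coe_subtype]
        rw [h']
        exact hwc g hg'
  · -- the wreathed case
    have hS' := hS
    obtain ⟨n, -, hcard, -⟩ := hS'
    obtain ⟨x, y, w, d⟩ := WS.exists_gens' S hS n hcard
    have hSZ := sylow_le_centralizer_center d
    -- `z` lies in the base group
    have hzU : z ∈ up d.base := by
      obtain ⟨a, ha⟩ := (d.mem_center_iff' _).mp hzc
      refine mem_up_iff.mpr ⟨hzS, ?_⟩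
      rw [ha]
      exact d.wp_mem_base a a
    -- the automizer of the base group has order two
    have h₁ : (centralizer ((up d.base : Subgroup X) : Set X)).relIndex
        (normalizer ((up d.base : Subgroup X) : Set X)) = 2 := by
      rcases automizer_base d with h | h
      · exact h
      · exfalso
        obtain ⟨g, hgN, hgodd, hgC⟩ := AZ.exists_odd_notMem_of_three_dvd
          (NC.normalizer_le_normalizer_centralizer (up d.base : Subgroup X))
          (by rw [h]; norm_num)
        have h1 : g * z * g⁻¹ ∈ up d.base := (mem_normalizer_iff.mp hgN z).mp hzU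
        have h2 := hwc g (up_le _ h1)
        exact hz1 (base_odd_fix_free d g hgN hgodd hgC z hzU h2)
    have hG := d.good_q8Sub_sup (hh n) 0 (by ring)
    rintro c hc g hg
    have hcS : c ∈ (S : Subgroup X) := Subgroup.map_subtype_le _ hc
    have hg' : (g⁻¹)⁻¹ * c * g⁻¹ ∈ (S : Subgroup X) := by rw [inv_inv]; exact hg
    rcases automizer_good d hG with h₂ | h₂
    · obtain ⟨u, hu, hu'⟩ := control_of_two_two d hG h₁ h₂ c hcS g⁻¹ hg'
      rw [inv_inv] at hu'
      rw [hu']
      have h3 := mem_centralizer_iff.mp (hSZ hu) c hc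
      calc u⁻¹ * c * u = u⁻¹ * (c * u) := by group
        _ = u⁻¹ * (u * c) := by rw [h3]
        _ = c := by group
    · have h3 := center_fusion d hG h₁ h₂ c hcS g⁻¹ hg' (Or.inl hc)
      rw [inv_inv] at h3
      exact h3

end Cfsg.Agent.S1239
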