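import Cfsg.Statements.S1242
import Cfsg.Agent.Lib.H6.PResidual2
import Cfsg.Agent.S1241

set_option autoImplicit false
open Cfsg

namespace Cfsg.Agent.S1242

/-- Let G be a finite group, p a prime and H a subgroup of index prime to p such that any two elements of H of p-power order that are conjugate in G are conjugate in H. Then (O^p(G)·G') ∩ H = O^p(H)·H', where O^p denotes the subgroup generated by the elements of order prime to p. -/
theorem result {G : Type*} [Group G] [Finite G] {p : ℕ} [Fact p.Prime] (H : Subgroup G) (hidx : Nat.Coprime p H.index) (hfus : ∀ g ∈ H, (∃ k : ℕ, orderOf g = p ^ k) → ∀ a : G, a * g * a⁻¹ ∈ H → ∃ h ∈ H, h * g * h⁻¹ = a * g * a⁻¹) : (Cfsg.pResidual p G ⊔ commutator G) ⊓ H = (Cfsg.pResidual p ↥H ⊔ commutator ↥H).map H.subtype := by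
  have hp : p.Prime := Fact.out
  apply le_antisymm
  · -- hard inclusion
    rintro x ⟨hx1, hx2⟩
    rw [SetLike.mem_coe] at hx1 hx2
    set KH : Subgroup ↥H := Cfsg.pResidual p ↥H ⊔ commutator ↥H with hKH
    have hNn : (Cfsg.pResidual p ↥H).Normal := Cfsg.Agent.Lib.H6.pResidual_normal p
    have hKHn : KH.Normal := by rw [hKH]; infer_instance
    have hpos : 0 < orderOf x := orderOf_pos x
    obtain ⟨a, b, hb, hab⟩ := Nat.exists_eq_pow_mul_and_not_dvd hpos.ne' p hp.ne_one
    have hbp : Nat.Coprime b p := ((Nat.Prime.coprime_iff_not_dvd hp).mpr hb).symm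
    -- the p'-part lies in KH
    have h1 : (⟨x, hx2⟩ : ↥H) ^ p ^ a ∈ KH := by
      apply (le_sup_left : Cfsg.pResidual p ↥H ≤ KH)
      apply Subgroup.subset_closure
      show Nat.Coprime (orderOf ((⟨x, hx2⟩ : ↥H) ^ p ^ a)) p
      have h1 : orderOf ((⟨x, hx2⟩ : ↥H) ^ p ^ a) ∣ b := by
        apply orderOf_dvd_of_pow_eq_one
        rw [← pow_mul, ← hab]
        apply Subtype.ext
        simp only [Subgroup.coe_pow, Subgroup.coe_one]
        exact pow_orderOf_eq_one x
      exact Nat.Coprime.coprime_dvd_left h1 hbp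
    -- the p-part
    by_cases h2 : (⟨x, hx2⟩ : ↥H) ^ b ∈ KH
    · have := Cfsg.Agent.Lib.H6.mem_of_pow_mem_of_coprime (Nat.Coprime.pow_left a hbp.symm) h1 h2
      exact ⟨⟨x, hx2⟩, this, rfl⟩
    · exfalso
      have hgpow : (x ^ b) ^ p ^ a = 1 := by
        rw [← pow_mul, mul_comm, ← hab, pow_orderOf_eq_one]
      have hres := Cfsg.Agent.S1241.result (p := p) H (KH.map H.subtype) (Subgroup.map_subtype_le KH)
        (by
          have : (KH.map H.subtype).subgroupOf H = KH := by
            rw [Subgroup.subgroupOf, Subgroup.comap_map_eq_self_of_injective (Subgroup.subtype_injective H)]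
          rw [this]; exact hKHn)
        (by
          intro u hu v hv
          refine ⟨⟨u, hu⟩ * ⟨v, hv⟩ * ⟨u, hu⟩⁻¹ * ⟨v, hv⟩⁻¹, ?_, rfl⟩
          apply (le_sup_right : commutator ↥H ≤ KH)
          rw [commutator_def]
          have := Subgroup.commutator_mem_commutator (H₁ := ⊤) (H₂ := ⊤)
            (Subgroup.mem_top (⟨u, hu⟩ : ↥H)) (Subgroup.mem_top (⟨v, hv⟩ : ↥H))
          rw [commutatorElement_def] at this
          exact this)
        hidx (x ^ b) (H.pow_mem hx2 b)
        (by
          rintro ⟨w, hw, hwe⟩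
          apply h2
          have : w = (⟨x, hx2⟩ : ↥H) ^ b := Subtype.ext (by simpa using hwe)
          rw [← this]; exact hw)
        (by
          have hd : orderOf (x ^ b) ∣ p ^ a := orderOf_dvd_of_pow_eq_one hgpow
          obtain ⟨j, -, hj⟩ := (Nat.dvd_prime_pow hp).mp hd
          exact ⟨j, hj⟩)
        (by
          intro m g hg
          have hyH : (x ^ b) ^ m ∈ H := H.zpow_mem (H.pow_mem hx2 b) m
          have hyord : ∃ k : ℕ, orderOf ((x ^ b) ^ m) = p ^ k := by
            have hd : orderOf ((x ^ b) ^ m) ∣ p ^ a := by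
              apply orderOf_dvd_of_pow_eq_one
              rw [← zpow_natCast, ← zpow_mul, mul_comm, zpow_mul, zpow_natCast, hgpow, one_zpow]
            obtain ⟨j, -, hj⟩ := (Nat.dvd_prime_pow hp).mp hd
            exact ⟨j, hj⟩
          obtain ⟨h, hh, hhe⟩ := hfus _ hyH hyord g hg
          rw [← hhe]
          refine ⟨⟨h, hh⟩ * ⟨_, hyH⟩ * ⟨h, hh⟩⁻¹ * ⟨_, hyH⟩⁻¹, ?_, rfl⟩
          apply (le_sup_right : commutator ↥H ≤ KH)
          rw [commutator_def]
          have := Subgroup.commutator_mem_commutator (H₁ := ⊤) (H₂ := ⊤)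
            (Subgroup.mem_top (⟨h, hh⟩ : ↥H)) (Subgroup.mem_top (⟨_, hyH⟩ : ↥H))
          rw [commutatorElement_def] at this
          exact this)
      apply hres
      apply Cfsg.Agent.Lib.H6.mem_commutator_of_mem_pResidual_sup p _ a hgpow
      exact Subgroup.pow_mem _ hx1 b
  · -- easy inclusion
    rw [Subgroup.map_sup]
    apply le_inf
    · apply sup_le
      · exact (Cfsg.Agent.Lib.H6.map_pResidual_le p H).trans le_sup_left
      · refine le_trans ?_ le_sup_right
        rw [commutator_def, commutator_def, Subgroup.map_commutator]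
        exact Subgroup.commutator_mono le_top le_top
    · rw [← Subgroup.map_sup]
      exact Subgroup.map_subtype_le _

end Cfsg.Agent.S1242
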