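import Cfsg.Statements.S1243

set_option autoImplicit false
open Cfsg
open scoped Pointwise

namespace Cfsg.Agent.S1243

theorem map_conj_le_iff {G : Type*} [Group G] (W T : Subgroup G) (g : G) :
    W.map (MulAut.conj g).toMonoidHom ≤ T ↔ ∀ w ∈ W, g * w * g⁻¹ ∈ T := by
  constructor
  · intro h w hw
    exact h ⟨w, hw, by simp⟩
  · rintro h _ ⟨w, hw, rfl⟩
    simpa using h w hw

theorem map_conj_mul {G : Type*} [Group G] (W : Subgroup G) (g h : G) :
    W.map (MulAut.conj (g * h)).toMonoidHom = (W.map (MulAut.conj h).toMonoidHom).map (MulAut.conj g).toMonoidHom := by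
  rw [Subgroup.map_map]
  congr 1
  ext x
  simp [mul_assoc]

theorem map_conj_one {G : Type*} [Group G] (W : Subgroup G) :
    W.map (MulAut.conj (1 : G)).toMonoidHom = W := by
  ext x
  simp


/-- Let T be a Sylow p-subgroup of the finite group G and W ≤ T a subgroup weakly closed in T. If d and g d g⁻¹ both centralize W, then g d g⁻¹ = h d h⁻¹ for some h ∈ N_G(W). -/
theorem result {G : Type*} [Group G] [Finite G] {p : ℕ} [Fact p.Prime] (T : Sylow p G) (W : Subgroup G) (hW : Cfsg.IsWeaklyClosed W (T : Subgroup G)) (d g : G) (hd : d ∈ Subgroup.centralizer (W : Set G)) (hgd : g * d * g⁻¹ ∈ Subgroup.centralizer (W : Set G)) : ∃ h ∈ Subgroup.normalizer (W : Set G), h * d * h⁻¹ = g * d * g⁻¹ := by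
  obtain ⟨hWT, hwc⟩ := hW
  have hWp : IsPGroup p W := T.2.to_le hWT
  set C : Subgroup G := Subgroup.centralizer ({d} : Set G) with hC
  -- W ≤ C
  have hWC : W ≤ C := by
    intro w hw
    rw [hC, Subgroup.mem_centralizer_singleton_iff]
    exact (hd w hw)
  -- W2 = g⁻¹ W g ≤ C
  set W2 : Subgroup G := W.map (MulAut.conj g⁻¹).toMonoidHom with hW2
  have hW2C : W2 ≤ C := by
    rw [hW2, map_conj_le_iff]
    intro w hw
    rw [hC, Subgroup.mem_centralizer_singleton_iff]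
    have h1 := hgd w hw
    -- h1 : w * (g d g⁻¹) = (g d g⁻¹) * w
    have : g⁻¹ * w * g⁻¹⁻¹ * d = g⁻¹ * (w * (g * d * g⁻¹)) * g := by group
    rw [this, h1]; group
  have hW2p : IsPGroup p W2 := hWp.map _
  -- Sylow subgroups of C
  obtain ⟨P1, hP1⟩ := (hWp.comap_of_injective (C.subtype) (Subgroup.subtype_injective C)).exists_le_sylow
  obtain ⟨P2, hP2⟩ := (hW2p.comap_of_injective (C.subtype) (Subgroup.subtype_injective C)).exists_le_sylow
  obtain ⟨c, hc⟩ := MulAction.exists_smul_eq C P2 P1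
  -- c W2 c⁻¹ ≤ P1 (in G)
  have h1 : ∀ w ∈ W2, (c : G) * w * (c : G)⁻¹ ∈ (P1 : Subgroup C).map C.subtype := by
    intro w hw
    have hwC : w ∈ C := hW2C hw
    have hw2 : (⟨w, hwC⟩ : C) ∈ (P2 : Subgroup C) := hP2 (show (⟨w, hwC⟩ : C) ∈ W2.comap C.subtype from hw)
    have : c * ⟨w, hwC⟩ * c⁻¹ ∈ (P1 : Subgroup C) := by
      rw [← hc, Sylow.coe_subgroup_smul, Subgroup.mem_pointwise_smul_iff_inv_smul_mem]
      have : (MulAut.conj c)⁻¹ • (c * ⟨w, hwC⟩ * c⁻¹) = ⟨w, hwC⟩ := by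
        simp [MulAut.smul_def, mul_assoc]
      rw [this]; exact hw2
    exact ⟨_, this, by simp⟩
  have hWP1 : W ≤ (P1 : Subgroup C).map C.subtype := by
    intro w hw
    exact ⟨⟨w, hWC hw⟩, hP1 (show (⟨w, hWC hw⟩ : C) ∈ W.comap C.subtype from hw), rfl⟩
  -- extend to a Sylow of G
  obtain ⟨T', hT'⟩ := (P1.2.map C.subtype).exists_le_sylow
  obtain ⟨x, hx⟩ := MulAction.exists_smul_eq G T' T
  -- x T' x⁻¹ = T
  have hxT : ∀ y ∈ (T' : Subgroup G), x * y * x⁻¹ ∈ (T : Subgroup G) := by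
    intro y hy
    rw [← hx, Sylow.coe_subgroup_smul, Subgroup.mem_pointwise_smul_iff_inv_smul_mem]
    simpa [MulAut.smul_def, mul_assoc] using hy
  -- x W x⁻¹ = W
  have hxW : W.map (MulAut.conj x).toMonoidHom = W := by
    apply hwc
    rw [map_conj_le_iff]
    intro w hw
    exact hxT w (hT' (hWP1 hw))
  -- u = c g⁻¹
  have huW : W.map (MulAut.conj (x * (c * g⁻¹))).toMonoidHom = W := by
    apply hwc
    rw [map_conj_le_iff]
    intro w hw
    have hw2 : g⁻¹ * w * g⁻¹⁻¹ ∈ W2 := ⟨w, hw, by simp⟩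
    have := hxT _ (hT' (h1 _ hw2))
    have e : x * (c * g⁻¹) * w * (x * (c * g⁻¹))⁻¹ = x * (↑c * (g⁻¹ * w * g⁻¹⁻¹) * (↑c)⁻¹) * x⁻¹ := by group
    rw [e]; exact this
  rw [map_conj_mul] at huW
  -- so (c g⁻¹) normalizes W
  have hu : W.map (MulAut.conj ((c : G) * g⁻¹)).toMonoidHom = W := by
    have h2 : (W.map (MulAut.conj x).toMonoidHom).map (MulAut.conj x⁻¹).toMonoidHom = W := by
      rw [← map_conj_mul, inv_mul_cancel, map_conj_one]
    have h3 := congrArg (fun K => K.map (MulAut.conj x⁻¹).toMonoidHom) huW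
    rw [← map_conj_mul, inv_mul_cancel, map_conj_one] at h3
    rw [h3]
    conv_rhs => rw [← h2, hxW]
  have hu' : (c : G) * g⁻¹ ∈ Subgroup.normalizer (W : Set G) :=
    Subgroup.mem_normalizer_iff_map_conj_eq.2 hu
  refine ⟨((c : G) * g⁻¹)⁻¹, Subgroup.inv_mem _ hu', ?_⟩
  have hcd : (c : G) * d = d * c := by
    have h := c.2
    exact (Subgroup.mem_centralizer_singleton_iff.1 h)
  have hcd' : (c : G)⁻¹ * d * (c : G) = d := by
    rw [mul_assoc, ← hcd]; group
  calc ((c : G) * g⁻¹)⁻¹ * d * ((c : G) * g⁻¹)⁻¹⁻¹ = g * ((c : G)⁻¹ * d * (c : G)) * g⁻¹ := by group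
    _ = g * d * g⁻¹ := by rw [hcd']

end Cfsg.Agent.S1243
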