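import Cfsg.Statements.S1244
import Cfsg.Agent.Lib.H7.TransferInv
import Cfsg.Agent.Lib.H7.CoprimeGen

set_option autoImplicit false
open Cfsg
open Cfsg.Agent.Lib.H7
set_option autoImplicit false

namespace Cfsg.Agent.S1244

/-- elements of square one in a subgroup `K` with commuting elements. -/
def omega2 {G : Type*} [Group G] (K : Subgroup G) (hK : ∀ a ∈ K, ∀ b ∈ K, a * b = b * a) :
    Subgroup G where
  carrier := {x | x ∈ K ∧ x ^ 2 = 1}
  mul_mem' := by
    rintro a b ⟨ha, ha2⟩ ⟨hb, hb2⟩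
    refine ⟨mul_mem ha hb, ?_⟩
    have hc : Commute a b := hK a ha b hb
    rw [hc.mul_pow, ha2, hb2, one_mul]
  one_mem' := ⟨one_mem _, one_pow _⟩
  inv_mem' := by
    rintro a ⟨ha, ha2⟩
    exact ⟨inv_mem ha, by rw [inv_pow, ha2, inv_one]⟩

theorem mem_omega2 {G : Type*} [Group G] {K : Subgroup G} {hK : ∀ a ∈ K, ∀ b ∈ K, a * b = b * a}
    {x : G} : x ∈ omega2 K hK ↔ x ∈ K ∧ x ^ 2 = 1 := Iff.rfl

theorem omega2_le {G : Type*} [Group G] (K : Subgroup G) (hK : ∀ a ∈ K, ∀ b ∈ K, a * b = b * a) :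
    omega2 K hK ≤ K := fun _ hx => hx.1

theorem card_omega2_le {G : Type*} [Group G] [Finite G] (K : Subgroup G)
    (hK : ∀ a ∈ K, ∀ b ∈ K, a * b = b * a) (k : ℕ) (h : PRankLE 2 k K) :
    Nat.card (omega2 K hK) ≤ 2 ^ k := by
  have h1 := h ((omega2 K hK).subgroupOf K)
    ⟨⟨fun a b => Subtype.ext (Subtype.ext (hK _ a.1.2 _ b.1.2))⟩⟩
    (fun a ha => Subtype.ext (by
      have := (Subgroup.mem_subgroupOf.1 ha).2
      simpa using this))
  rwa [Nat.card_congr (Subgroup.subgroupOfEquivOfLe (omega2_le K hK)).toEquiv] at h1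

theorem lt_card_omega2 {G : Type*} [Group G] [Finite G] (K : Subgroup G)
    (hK : ∀ a ∈ K, ∀ b ∈ K, a * b = b * a) (k : ℕ) (h : ¬ PRankLE 2 k K) :
    2 ^ k < Nat.card (omega2 K hK) := by
  unfold PRankLE at h
  push Not at h
  obtain ⟨A, -, hA2, hAcard⟩ := h
  have hle : A.map K.subtype ≤ omega2 K hK := by
    rintro _ ⟨a, ha, rfl⟩
    refine ⟨a.2, ?_⟩
    have := hA2 a ha
    exact congrArg Subtype.val this
  have h1 : Nat.card (A.map K.subtype) = Nat.card A :=
    Subgroup.card_map_of_injective K.subtype_injective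
  have h2 := Subgroup.card_le_of_le hle
  omega


/-- Let G be a finite group with no subgroup of index 2 whose Sylow 2-subgroup S is commutative, and let R ≤ S be a subgroup whose 2-rank is exactly one less than the 2-rank r of S. Then every involution of S is conjugate, by an element of N_G(S), to an element of R. -/
theorem result {G : Type*} [Group G] [Finite G] (hG : ∀ H : Subgroup G, H.index ≠ 2) (S : Sylow 2 G) (hS : IsMulCommutative (S : Subgroup G)) (r : ℕ) (hr1 : 1 ≤ r) (hSr : Cfsg.PRankLE 2 r (S : Subgroup G) ∧ ¬ Cfsg.PRankLE 2 (r - 1) (S : Subgroup G)) (R : Subgroup G) (hRS : R ≤ S) (hRr : Cfsg.PRankLE 2 (r - 1) R ∧ (r = 1 ∨ ¬ Cfsg.PRankLE 2 (r - 2) R)) (t : G) (ht : orderOf t = 2) (htS : t ∈ S) : ∃ n ∈ Subgroup.normalizer ((S : Subgroup G) : Set G), n * t * n⁻¹ ∈ R := by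
  classical
  by_contra hcon
  push Not at hcon
  have hScomm : ∀ a ∈ (S : Subgroup G), ∀ b ∈ (S : Subgroup G), a * b = b * a := by
    intro a ha b hb
    have := hS.is_comm.comm (⟨a, ha⟩ : (S : Subgroup G)) ⟨b, hb⟩
    exact congrArg Subtype.val this
  have hRcomm : ∀ a ∈ R, ∀ b ∈ R, a * b = b * a := fun a ha b hb => hScomm a (hRS ha) b (hRS hb)
  set E := omega2 (S : Subgroup G) hScomm with hE
  set E₀ := omega2 R hRcomm with hE₀
  have hES : E ≤ S := omega2_le _ _
  have hE₀E : E₀ ≤ E := fun x hx => ⟨hRS hx.1, hx.2⟩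
  have ht2 : t ^ 2 = 1 := by rw [← ht]; exact pow_orderOf_eq_one t
  -- cardinalities
  have hEp : IsPGroup 2 E := S.isPGroup'.to_le hES
  have hE₀p : IsPGroup 2 E₀ := hEp.to_le hE₀E
  obtain ⟨j, hj⟩ := IsPGroup.iff_card.1 hEp
  obtain ⟨j₀, hj₀⟩ := IsPGroup.iff_card.1 hE₀p
  have h1 := card_omega2_le (S : Subgroup G) hScomm r hSr.1
  have h2 := lt_card_omega2 (S : Subgroup G) hScomm (r - 1) hSr.2
  have h3 := card_omega2_le R hRcomm (r - 1) hRr.1
  rw [← hE, hj] at h1 h2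
  rw [← hE₀, hj₀] at h3
  have hjr : j = r := by
    have a1 : j ≤ r := (Nat.pow_le_pow_iff_right (by norm_num)).1 h1
    have a2 : r - 1 < j := (Nat.pow_lt_pow_iff_right (by norm_num)).1 h2
    omega
  have hj₀r : j₀ = r - 1 := by
    have a1 : j₀ ≤ r - 1 := (Nat.pow_le_pow_iff_right (by norm_num)).1 h3
    rcases hRr.2 with h | h
    · omega
    · have h4 := lt_card_omega2 R hRcomm (r - 2) h
      rw [← hE₀, hj₀] at h4
      have a2 : r - 2 < j₀ := (Nat.pow_lt_pow_iff_right (by norm_num)).1 h4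
      omega
  have hrel : E₀.relIndex E = 2 := by
    have h4 := card_mul_relIndex_of_le hE₀E
    rw [hj, hj₀, hjr, hj₀r] at h4
    have h5 : (2 : ℕ) ^ r = 2 ^ (r - 1) * 2 := by
      rw [← pow_succ]; congr 1; omega
    rw [h5] at h4
    exact Nat.eq_of_mul_eq_mul_left (by positivity) h4
  have hodd : Odd (S : Subgroup G).index := by
    have := S.not_dvd_index
    rw [← Nat.not_even_iff_odd, even_iff_two_dvd]
    exact this
  have : IsMulCommutative (S : Subgroup G) := hS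
  have hconj : ∀ g : G, g⁻¹ * t * g ∈ (S : Subgroup G) → g⁻¹ * t * g ∈ E ∧ g⁻¹ * t * g ∉ E₀ := by
    intro g hg
    refine ⟨⟨hg, ?_⟩, ?_⟩
    · have : (g⁻¹ * t * g) ^ 2 = g⁻¹ * t ^ 2 * g := by
        rw [pow_two, pow_two]; group
      rw [this, ht2]; group
    · intro hmem
      obtain ⟨n, hn, hn2⟩ := S.conj_eq_normalizer_conj_of_mem t g htS hg
      have := hcon n⁻¹ (inv_mem hn)
      rw [inv_inv, ← hn2] at this
      exact this hmem.1
  have hV := transfer_involution_ne_one (S : Subgroup G) hodd E E₀ hES hrel t ht2 hconj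
  obtain ⟨K, hK⟩ := exists_index_two_of_hom S.isPGroup' _ t hV
  exact hG K hK

end Cfsg.Agent.S1244
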