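import Cfsg.Statements.S1249
-- import your own Cfsg.Agent.* helpers here

set_option autoImplicit false
open Cfsg
open scoped Pointwise

namespace Cfsg.Agent.S1249

/-- Let P and Q be Sylow p-subgroups of the finite group G both containing the subgroup A. If A is strongly closed in P, then A is strongly closed in Q. -/
theorem result {G : Type*} [Group G] [Finite G] {p : ℕ} [Fact p.Prime] (P Q : Sylow p G) (A : Subgroup G) (hAQ : A ≤ Q) (hA : Cfsg.IsStronglyClosed A (P : Subgroup G)) : Cfsg.IsStronglyClosed A (Q : Subgroup G) := by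
  obtain ⟨hAP, hcl⟩ := hA
  refine ⟨hAQ, ?_⟩
  obtain ⟨x, hx⟩ := MulAction.exists_smul_eq G Q P
  have hxQ : ∀ y, y ∈ (Q : Subgroup G) ↔ x * y * x⁻¹ ∈ (P : Subgroup G) := by
    intro y
    rw [← hx, Sylow.coe_subgroup_smul, Subgroup.mem_pointwise_smul_iff_inv_smul_mem]
    simp [MulAut.smul_def, mul_assoc]
  -- conjugation by x maps A into A
  have h1 : ∀ a ∈ A, x * a * x⁻¹ ∈ A := fun a ha => hcl a ha x ((hxQ a).1 (hAQ ha))
  -- hence bijective on A, by finiteness
  have h2 : ∀ a ∈ A, x⁻¹ * a * x ∈ A := by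
    intro a ha
    let f : A → A := fun b => ⟨x * b * x⁻¹, h1 b b.2⟩
    have hf : Function.Injective f := by
      intro b c hbc
      have : x * (b : G) * x⁻¹ = x * (c : G) * x⁻¹ := congrArg Subtype.val hbc
      exact Subtype.ext (by simpa using this)
    obtain ⟨b, hb⟩ := (Finite.injective_iff_surjective.1 hf) ⟨a, ha⟩
    have hb' : x * (b : G) * x⁻¹ = a := congrArg Subtype.val hb
    have : x⁻¹ * a * x = b := by rw [← hb']; group
    rw [this]; exact b.2
  intro a ha g hg
  have h3 : x * (g * a * g⁻¹) * x⁻¹ ∈ A := by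
    have := hcl a ha (x * g) (by simpa [mul_assoc] using (hxQ _).1 hg)
    simpa [mul_assoc] using this
  have := h2 _ h3
  simpa [mul_assoc] using this

end Cfsg.Agent.S1249
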