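import Cfsg.Statements.S1250

set_option autoImplicit false
open Cfsg
open scoped Pointwise

namespace Cfsg.Agent.S1250

/-- Sylow-type lemma: if `S` is a Sylow `p`-subgroup of `G`, `N` normal, and `y ∈ S ⊔ N` is a `p`-element,
  then some `N`-conjugate of `y` lies in `S`. -/
theorem conj_mem_sylow_of_mem_sup {G : Type*} [Group G] [Finite G] {p : ℕ} [Fact p.Prime] (S : Sylow p G)
    (N : Subgroup G) [N.Normal] (y : G) (hy : y ∈ (S : Subgroup G) ⊔ N) (hyp : IsPGroup p (Subgroup.zpowers y)) :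
    ∃ n ∈ N, n * y * n⁻¹ ∈ (S : Subgroup G) := by
  set K : Subgroup G := (S : Subgroup G) ⊔ N with hK
  have hSK : (S : Subgroup G) ≤ K := le_sup_left
  let S' : Sylow p K := S.subtype hSK
  -- the p-subgroup generated by y inside K
  let Q : Subgroup K := (Subgroup.zpowers y).subgroupOf K
  have hQ : IsPGroup p Q := hyp.comap_of_injective _ (Subgroup.subtype_injective K)
  obtain ⟨P, hQP⟩ := hQ.exists_le_sylow
  obtain ⟨k, hk⟩ := MulAction.exists_smul_eq K P S'
  -- so k • y ∈ S'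
  have hyQ : (⟨y, hy⟩ : K) ∈ Q := by
    simp [Q, Subgroup.mem_subgroupOf]
  have h1 : k * ⟨y, hy⟩ * k⁻¹ ∈ (S' : Subgroup K) := by
    rw [← hk, Sylow.coe_subgroup_smul, Subgroup.mem_pointwise_smul_iff_inv_smul_mem]
    have : (MulAut.conj k)⁻¹ • (k * ⟨y, hy⟩ * k⁻¹) = ⟨y, hy⟩ := by
      simp [MulAut.smul_def, mul_assoc]
    rw [this]; exact hQP hyQ
  have h2 : (k : G) * y * (k : G)⁻¹ ∈ (S : Subgroup G) := by
    have := h1
    simpa [S', Sylow.coe_subtype, Subgroup.mem_subgroupOf] using this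
  -- write k = s * n
  have hk' : (k : G) ∈ (S : Subgroup G) ⊔ N := k.2
  rw [Subgroup.mem_sup_of_normal_right] at hk'
  obtain ⟨s, hs, n, hn, hsn⟩ := hk'
  refine ⟨n, hn, ?_⟩
  have h3 : n * y * n⁻¹ = s⁻¹ * ((k : G) * y * (k : G)⁻¹) * s := by
    rw [← hsn]; group
  rw [h3]
  exact (S : Subgroup G).mul_mem ((S : Subgroup G).mul_mem ((S : Subgroup G).inv_mem hs) h2) hs


/-- Let S be a Sylow p-subgroup of the finite group G, A ≤ S strongly closed in S, and N a normal subgroup. Then the image of A in G ⧸ N is strongly closed in the image of S (which is a Sylow p-subgroup of G ⧸ N). -/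
theorem result {G : Type*} [Group G] [Finite G] {p : ℕ} [Fact p.Prime] (S : Sylow p G) (A : Subgroup G) (hA : Cfsg.IsStronglyClosed A (S : Subgroup G)) (N : Subgroup G) [N.Normal] : Cfsg.IsStronglyClosed (A.map (QuotientGroup.mk' N)) ((S : Subgroup G).map (QuotientGroup.mk' N)) := by
  obtain ⟨hAS, hcl⟩ := hA
  refine ⟨Subgroup.map_mono hAS, ?_⟩
  rintro _ ⟨a, ha, rfl⟩ g hg
  obtain ⟨g0, rfl⟩ := QuotientGroup.mk'_surjective N g
  obtain ⟨s, hs, hsy⟩ := hg
  set y := g0 * a * g0⁻¹ with hy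
  have hsy' : QuotientGroup.mk' N s = QuotientGroup.mk' N y := by
    rw [hsy]; simp [hy]
  have hyK : y ∈ (S : Subgroup G) ⊔ N := by
    have h1 : s⁻¹ * y ∈ N := by
      have := (QuotientGroup.eq (s := N) (a := s) (b := y)).1 (by simpa using hsy')
      exact this
    have : y = s * (s⁻¹ * y) := by group
    rw [this]
    exact Subgroup.mul_mem_sup hs h1
  have hyp : IsPGroup p (Subgroup.zpowers y) := by
    have haP : IsPGroup p (Subgroup.zpowers a) := S.2.to_le ((Subgroup.zpowers_le).2 (hAS ha))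
    have : Subgroup.zpowers y = (Subgroup.zpowers a).map (MulAut.conj g0).toMonoidHom := by
      rw [MonoidHom.map_zpowers]; simp [hy]
    rw [this]
    exact haP.map _
  obtain ⟨n, hn, hny⟩ := conj_mem_sylow_of_mem_sup S N y hyK hyp
  have h4 : (n * g0) * a * (n * g0)⁻¹ ∈ A := by
    apply hcl a ha
    have : (n * g0) * a * (n * g0)⁻¹ = n * y * n⁻¹ := by rw [hy]; group
    rw [this]; exact hny
  refine ⟨(n * g0) * a * (n * g0)⁻¹, h4, ?_⟩
  have hn1 : (n : G ⧸ N) = 1 := (QuotientGroup.eq_one_iff (N := N) n).2 hn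
  simp [hn1]

end Cfsg.Agent.S1250
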