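import Cfsg.Statements.S1253
import Cfsg.Agent.Lib.H6.Dihedral
import Cfsg.Agent.Lib.H7.CoprimeGen
import Cfsg.Agent.Lib.H7.IsolatedInv

set_option autoImplicit false
open Cfsg
open scoped Pointwise
open Cfsg.Agent.Lib.H7
set_option autoImplicit false

namespace Cfsg.Agent.S1253

/-- Let z be an isolated involution of the finite group G with centralizer C, p an odd prime and P a Sylow p-subgroup of G normalized by z. Then P ∩ C has p-power-free index in C (it is a Sylow p-subgroup of C), and |P : C_P(z)| equals the number of elements x ∈ P with z x z⁻¹ = x⁻¹. -/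
theorem result {G : Type*} [Group G] [Finite G] (z : G) (hz : Cfsg.IsIsolatedInvolution z) {p : ℕ} [Fact p.Prime] (hp : p ≠ 2) (P : Sylow p G) (hzP : z ∈ Subgroup.normalizer ((P : Subgroup G) : Set G)) : ¬ p ∣ ((P : Subgroup G) ⊓ Subgroup.centralizer ({z} : Set G)).relIndex (Subgroup.centralizer ({z} : Set G)) ∧ ((P : Subgroup G) ⊓ Subgroup.centralizer ({z} : Set G)).relIndex (P : Subgroup G) = Nat.card {x : G // x ∈ P ∧ z * x * z⁻¹ = x⁻¹} := by
  have hzz : z * z = 1 := Cfsg.Agent.Lib.H6.isolated_mul_self hz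
  have hzinv : z⁻¹ = z := inv_eq_of_mul_eq_one_right hzz
  have hpodd : Odd p := (Fact.out : p.Prime).odd_of_ne_two hp
  have hoddP : ∀ x ∈ (P : Subgroup G), Odd (orderOf x) := by
    intro x hx
    obtain ⟨k, hk⟩ := (IsPGroup.iff_orderOf.1 P.isPGroup') ⟨x, hx⟩
    rw [Subgroup.orderOf_mk] at hk
    rw [hk]; exact hpodd.pow
  have hsq : ∀ x ∈ (P : Subgroup G), x ^ 2 = 1 → x = 1 := by
    intro x hx h2
    have h3 := orderOf_dvd_of_pow_eq_one h2
    rcases (Nat.dvd_prime Nat.prime_two).1 h3 with h4 | h4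
    · exact orderOf_eq_one_iff.1 h4
    · have := hoddP x hx
      rw [h4] at this
      exact absurd this (by decide)
  have hzmem : ∀ x ∈ (P : Subgroup G), z * x * z⁻¹ ∈ (P : Subgroup G) := by
    intro x hx
    exact (Subgroup.mem_normalizer_iff.1 hzP x).1 hx
  -- the key counting inequality
  have key : ∀ (Y : Subgroup G), Y ≤ (P : Subgroup G) → ∀ h : G,
      (∀ y ∈ Y, Commute (h * z * h⁻¹) y) →
      Nat.card Y * Nat.card {x : G // x ∈ P ∧ z * x * z⁻¹ = x⁻¹} ≤ Nat.card (P : Subgroup G) := by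
    intro Y hY h hcomm
    let f : Y × {x : G // x ∈ P ∧ z * x * z⁻¹ = x⁻¹} → (P : Subgroup G) :=
      fun a => ⟨(a.1 : G) * (a.2 : G), mul_mem (hY a.1.2) a.2.2.1⟩
    have hf : Function.Injective f := by
      rintro ⟨⟨y₁, hy₁⟩, ⟨i₁, hi₁P, hi₁⟩⟩ ⟨⟨y₂, hy₂⟩, ⟨i₂, hi₂P, hi₂⟩⟩ hfe
      have he : y₁ * i₁ = y₂ * i₂ := congrArg Subtype.val hfe
      have hx : y₂⁻¹ * y₁ = i₂ * i₁⁻¹ := by
        calc y₂⁻¹ * y₁ = y₂⁻¹ * (y₁ * i₁) * i₁⁻¹ := by group
          _ = i₂ * i₁⁻¹ := by rw [he]; group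
      obtain ⟨g, hg⟩ := exists_conj_inverts_div hi₁ hi₂ (hoddP i₁ hi₁P)
      have hxY : y₂⁻¹ * y₁ ∈ Y := mul_mem (inv_mem hy₂) hy₁
      have h2 := sq_eq_one_of_inverted_of_centralized hz g h (i₂ * i₁⁻¹) hg
        (hx ▸ hcomm _ hxY)
      have h3 := hsq _ (mul_mem hi₂P (inv_mem hi₁P)) h2
      have h4 : i₂ = i₁ := by
        calc i₂ = i₂ * i₁⁻¹ * i₁ := by group
          _ = i₁ := by rw [h3, one_mul]
      have h5 : y₁ = y₂ := by
        rw [h3] at hx
        calc y₁ = y₂ * (y₂⁻¹ * y₁) := by group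
          _ = y₂ := by rw [hx, mul_one]
      subst h4; subst h5; rfl
    have := Nat.card_le_card_of_injective f hf
    rwa [Nat.card_prod] at this
  set P₀ := (P : Subgroup G) ⊓ Subgroup.centralizer ({z} : Set G) with hP₀
  have hP₀P : P₀ ≤ (P : Subgroup G) := inf_le_left
  have hP₀C : P₀ ≤ Subgroup.centralizer ({z} : Set G) := inf_le_right
  -- |P₀| * |I| = |P|
  have hcard : Nat.card P₀ * Nat.card {x : G // x ∈ P ∧ z * x * z⁻¹ = x⁻¹}
      = Nat.card (P : Subgroup G) := by
    apply le_antisymm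
    · apply key P₀ hP₀P 1
      intro y hy
      have := Subgroup.mem_centralizer_singleton_iff.1 (hP₀C hy)
      show 1 * z * 1⁻¹ * y = y * (1 * z * 1⁻¹)
      simp only [one_mul, inv_one, mul_one]
      exact this.symm
    · let f : P₀ × {x : G // x ∈ P ∧ z * x * z⁻¹ = x⁻¹} → (P : Subgroup G) :=
        fun a => ⟨(a.1 : G) * (a.2 : G), mul_mem (hP₀P a.1.2) a.2.2.1⟩
      have hf : Function.Surjective f := by
        rintro ⟨x, hx⟩
        set t := x⁻¹ * (z * x * z⁻¹) with ht
        have htP : t ∈ (P : Subgroup G) := mul_mem (inv_mem hx) (hzmem x hx)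
        have hzt : z * t * z⁻¹ = t⁻¹ := by
          rw [ht, hzinv]
          calc z * (x⁻¹ * (z * x * z)) * z = z * x⁻¹ * z * x * (z * z) := by group
            _ = (x⁻¹ * (z * x * z))⁻¹ := by
              rw [hzz]
              have : (x⁻¹ * (z * x * z))⁻¹ = z⁻¹ * x⁻¹ * z⁻¹ * x := by group
              rw [this, hzinv]; group
        obtain ⟨m, hm⟩ := hoddP t htP
        set s := t ^ (m + 1) with hs
        have hss : s * s = t := by
          rw [hs, ← pow_add]
          have : m + 1 + (m + 1) = orderOf t + 1 := by omega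
          rw [this, pow_succ, pow_orderOf_eq_one, one_mul]
        have hsP : s ∈ (P : Subgroup G) := pow_mem htP _
        have hzs : z * s * z⁻¹ = s⁻¹ := by
          rw [hs, ← conj_pow, hzt, inv_pow]
        have hzx : z * x * z⁻¹ = x * t := by rw [ht]; group
        have hc : x * s ∈ P₀ := by
          refine ⟨mul_mem hx hsP, ?_⟩
          show x * s ∈ Subgroup.centralizer ({z} : Set G)
          rw [Subgroup.mem_centralizer_singleton_iff]
          have : z * (x * s) * z⁻¹ = x * s := by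
            calc z * (x * s) * z⁻¹ = (z * x * z⁻¹) * (z * s * z⁻¹) := by group
              _ = x * (s * s) * s⁻¹ := by rw [hzx, hzs, hss]
              _ = x * s := by group
          calc x * s * z = (z * (x * s) * z⁻¹) * z := by rw [this]
            _ = z * (x * s) := by group
        have hi : s⁻¹ ∈ (P : Subgroup G) ∧ z * s⁻¹ * z⁻¹ = s⁻¹⁻¹ := by
          refine ⟨inv_mem hsP, ?_⟩
          have : z * s⁻¹ * z⁻¹ = (z * s * z⁻¹)⁻¹ := by group
          rw [this, hzs]
        refine ⟨(⟨x * s, hc⟩, ⟨s⁻¹, hi⟩), ?_⟩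
        apply Subtype.ext
        show x * s * s⁻¹ = x
        group
      have := Nat.card_le_card_of_surjective f hf
      rwa [Nat.card_prod] at this
  have hIpos : 0 < Nat.card {x : G // x ∈ P ∧ z * x * z⁻¹ = x⁻¹} := by
    have : Nonempty {x : G // x ∈ P ∧ z * x * z⁻¹ = x⁻¹} :=
      ⟨⟨1, one_mem _, by simp⟩⟩
    exact Nat.card_pos
  constructor
  · -- Sylow part
    set C := Subgroup.centralizer ({z} : Set G) with hC
    have hp0 : IsPGroup p (P₀.subgroupOf C) := by
      have : IsPGroup p P₀ := P.isPGroup'.to_le hP₀P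
      exact this.comap_subtype
    obtain ⟨T', hT'⟩ := hp0.exists_le_sylow
    set T := (T' : Subgroup C).map C.subtype with hT
    have hTC : T ≤ C := Subgroup.map_subtype_le _
    have hTp : IsPGroup p T := T'.isPGroup'.map _
    obtain ⟨Q, hQ⟩ := hTp.exists_le_sylow
    obtain ⟨x, hx⟩ := MulAction.exists_smul_eq G Q P
    have hxQ : ∀ y, y ∈ (Q : Subgroup G) → x * y * x⁻¹ ∈ (P : Subgroup G) := by
      intro y hy
      rw [← hx, Sylow.coe_subgroup_smul, Subgroup.mem_pointwise_smul_iff_inv_smul_mem]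
      simpa [MulAut.smul_def, mul_assoc] using hy
    set Y := T.map (MulAut.conj x).toMonoidHom with hY
    have hYP : Y ≤ (P : Subgroup G) := by
      rintro _ ⟨t, ht, rfl⟩
      exact hxQ t (hQ ht)
    have hYc : ∀ y ∈ Y, Commute (x * z * x⁻¹) y := by
      rintro _ ⟨t, ht, rfl⟩
      have := Subgroup.mem_centralizer_singleton_iff.1 (hTC ht)
      show x * z * x⁻¹ * (x * t * x⁻¹) = x * t * x⁻¹ * (x * z * x⁻¹)
      calc x * z * x⁻¹ * (x * t * x⁻¹) = x * (z * t) * x⁻¹ := by group
        _ = x * (t * z) * x⁻¹ := by rw [this]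
        _ = x * t * x⁻¹ * (x * z * x⁻¹) := by group
    have h1 := key Y hYP x hYc
    have hYcard : Nat.card Y = Nat.card (T' : Subgroup C) := by
      rw [hY, Subgroup.card_map_of_injective (MulAut.conj x).injective, hT,
        Subgroup.card_map_of_injective C.subtype_injective]
    rw [hYcard, ← hcard] at h1
    have h2 : Nat.card (T' : Subgroup C) ≤ Nat.card P₀ := Nat.le_of_mul_le_mul_right h1 hIpos
    have h3 : Nat.card (P₀.subgroupOf C) = Nat.card P₀ :=
      Nat.card_congr (Subgroup.subgroupOfEquivOfLe hP₀C).toEquiv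
    have h4 : P₀.subgroupOf C = (T' : Subgroup C) :=
      Subgroup.eq_of_le_of_card_ge hT' (by rw [h3]; exact h2)
    show ¬ p ∣ (P₀.subgroupOf C).index
    rw [h4]
    exact T'.not_dvd_index
  · have h1 := Cfsg.Agent.Lib.H7.card_mul_relIndex_of_le hP₀P
    rw [← hcard] at h1
    exact Nat.eq_of_mul_eq_mul_left Nat.card_pos h1

end Cfsg.Agent.S1253
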