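import Cfsg.Statements.S1254
import Cfsg.Agent.Lib.L0.DihedralSylow
import Cfsg.Agent.Lib.H1.Complement
-- import your own Cfsg.Agent.* helpers here

set_option autoImplicit false
open Cfsg

namespace Cfsg.Agent.S1254

open Cfsg.Agent.Lib.L0 in
theorem forward {X : Type*} [Group X] [Finite X] (S : Sylow 2 X)
    (h : Cfsg.HasNormalPComplement 2 X) (U : Subgroup X) (hUS : U ≤ S) :
    Subgroup.normalizer (U : Set X) = Subgroup.centralizer (U : Set X) ⊔
      ((S : Subgroup X) ⊓ Subgroup.normalizer (U : Set X)) := by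
  have : Fact (Nat.Prime 2) := ⟨Nat.prime_two⟩
  obtain ⟨N, hN, hc⟩ := HasNormalPComplement.forall_sylow h S
  apply le_antisymm
  · intro x hx
    obtain ⟨n, hn, s, hs, hxns⟩ := Cfsg.Agent.Lib.H1.isComplement'_exists_mul hc x
    have hdisj : ∀ y, y ∈ N → y ∈ (S : Subgroup X) → y = 1 := by
      intro y hyN hyS
      have := hc.disjoint
      rw [Subgroup.disjoint_def] at this
      exact this hyN hyS
    -- key: for `v ∈ S` with `n v n⁻¹ ∈ S` we get `n v n⁻¹ = v`
    have hkey : ∀ v, v ∈ (S : Subgroup X) → n * v * n⁻¹ ∈ (S : Subgroup X) → n * v * n⁻¹ = v := by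
      intro v hv hnv
      have h1 : n * v * n⁻¹ * v⁻¹ ∈ N := by
        have : n * v * n⁻¹ * v⁻¹ = n * (v * n⁻¹ * v⁻¹) := by group
        rw [this]
        exact N.mul_mem hn (hN.conj_mem _ (N.inv_mem hn) v)
      have h2 : n * v * n⁻¹ * v⁻¹ ∈ (S : Subgroup X) :=
        (S : Subgroup X).mul_mem hnv ((S : Subgroup X).inv_mem hv)
      have h3 := hdisj _ h1 h2
      calc n * v * n⁻¹ = (n * v * n⁻¹ * v⁻¹) * v := by group
        _ = v := by rw [h3, one_mul]
    have hsu : ∀ u ∈ U, s * u * s⁻¹ = x * u * x⁻¹ := by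
      intro u hu
      have hv : s * u * s⁻¹ ∈ (S : Subgroup X) :=
        (S : Subgroup X).mul_mem ((S : Subgroup X).mul_mem hs (hUS hu)) ((S : Subgroup X).inv_mem hs)
      have hxu : x * u * x⁻¹ ∈ U := (Subgroup.mem_normalizer_iff.mp hx u).mp hu
      have e1 : x * u * x⁻¹ = n * (s * u * s⁻¹) * n⁻¹ := by rw [hxns]; group
      have h1 := hkey (s * u * s⁻¹) hv (by rw [← e1]; exact hUS hxu)
      rw [e1, h1]
    have hsN : s ∈ Subgroup.normalizer (U : Set X) := by
      apply mem_normalizer_of_forall_conj_mem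
      intro u hu
      rw [hsu u hu]
      exact (Subgroup.mem_normalizer_iff.mp hx u).mp hu
    have hnC : n ∈ Subgroup.centralizer (U : Set X) := by
      rw [Subgroup.mem_centralizer_iff]
      intro w hw
      -- `w = s u s⁻¹` with `u = s⁻¹ w s ∈ U`
      have hu : s⁻¹ * w * s ∈ U := by
        have := (Subgroup.mem_normalizer_iff.mp ((Subgroup.normalizer (U : Set X)).inv_mem hsN) w).mp hw
        simpa using this
      have e0 : s * (s⁻¹ * w * s) * s⁻¹ = w := by group
      have h1 := hsu _ hu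
      rw [e0] at h1
      -- h1 : w = x * (s⁻¹ * w * s) * x⁻¹ = n w n⁻¹
      have e1 : x * (s⁻¹ * w * s) * x⁻¹ = n * w * n⁻¹ := by rw [hxns]; group
      rw [e1] at h1
      calc w * n = (n * w * n⁻¹) * n := by rw [← h1]
        _ = n * w := by group
    rw [hxns]
    exact Subgroup.mul_mem_sup hnC ⟨hs, hsN⟩
  · exact sup_le (Subgroup.centralizer_le_normalizer _) inf_le_right

open Cfsg.Agent.Lib.L0 in
theorem klein_case {X : Type*} [Group X] [Finite X] (S : Sylow 2 X) (Q : Subgroup X)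
    (hyp : Subgroup.normalizer (Q : Set X) = Subgroup.centralizer (Q : Set X) ⊔
      ((S : Subgroup X) ⊓ Subgroup.normalizer (Q : Set X)))
    (g : X) (hg : g ∈ Subgroup.normalizer (Q : Set X)) (hodd : (orderOf g).Coprime 2) :
    g ∈ Subgroup.centralizer (Q : Set X) := by
  set N := Subgroup.normalizer (Q : Set X) with hNdef
  set φ := Q.normalizerMonoidHom with hφ
  set A := (Subgroup.centralizer (Q : Set X)).subgroupOf N with hA
  set B := ((S : Subgroup X) ⊓ N).subgroupOf N with hB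
  have htop : (⊤ : Subgroup N) = A ⊔ B := by
    rw [hA, hB, ← Subgroup.subgroupOf_sup (Subgroup.centralizer_le_normalizer _) inf_le_right,
      ← hyp, Subgroup.subgroupOf_self]
  have hAker : A.map φ = ⊥ := by
    rw [Subgroup.map_eq_bot_iff, hφ, Subgroup.normalizerMonoidHom_ker]
  have hmem : φ ⟨g, hg⟩ ∈ B.map φ := by
    have : φ ⟨g, hg⟩ ∈ (⊤ : Subgroup N).map φ := Subgroup.mem_map_of_mem _ (Subgroup.mem_top _)
    rwa [htop, Subgroup.map_sup, hAker, bot_sup_eq] at this
  have hB2 : IsPGroup 2 B := (S.2.to_le inf_le_left).comap_subtype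
  have hBφ : IsPGroup 2 (B.map φ) := hB2.map φ
  obtain ⟨k, hk⟩ := hBφ ⟨φ ⟨g, hg⟩, hmem⟩
  have hk' : (φ ⟨g, hg⟩) ^ 2 ^ k = 1 := by
    have := congrArg Subtype.val hk
    simpa using this
  exact mem_centralizer_of_normalizerMonoidHom_pow Q hg (2 ^ k) (Nat.Coprime.pow_right k hodd) hk'

/-- Let X be a finite group whose Sylow 2-subgroup S is dihedral (of order at least 4). Then X has a normal 2-complement if and only if, for every Klein four-subgroup U ≤ S, the normalizer N_X(U) is generated by C_X(U) and N_S(U). -/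
theorem result {X : Type*} [Group X] [Finite X] (S : Sylow 2 X) (m : ℕ) (hm : 2 ≤ m) (eS : (S : Subgroup X) ≃* DihedralGroup m) : Cfsg.HasNormalPComplement 2 X ↔ ∀ U : Subgroup X, U ≤ S → IsKleinFour U → Subgroup.normalizer (U : Set X) = Subgroup.centralizer (U : Set X) ⊔ ((S : Subgroup X) ⊓ Subgroup.normalizer (U : Set X)) := by
  have hp2 : Fact (Nat.Prime 2) := ⟨Nat.prime_two⟩
  constructor
  · intro h U hUS _
    exact forward S h U hUS
  · intro hyp
    have : NeZero m := ⟨by omega⟩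
    apply Cfsg.Agent.Lib.L0.hasNormalPComplement_of_frobHyp
    apply Cfsg.Agent.Lib.L0.FrobHyp.of_sylow S
    intro Q hQS g hg hodd
    obtain ⟨R₀, hR₀S, hcyc, h2, h3, -⟩ :=
      Cfsg.Agent.Lib.L0.exists_dihedral_rotation_subgroup (S : Subgroup X) m eS
    apply Cfsg.Agent.Lib.L0.mem_centralizer_of_dihedralLike (S : Subgroup X) R₀ S.2 hcyc h2 h3 Q hQS g hg hodd
    intro hK
    exact klein_case S Q (hyp Q hQS hK) g hg hodd

end Cfsg.Agent.S1254
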