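import Cfsg.Statements.S1256
import Cfsg.Agent.Lib.L0.DihedralFusion
-- import your own Cfsg.Agent.* helpers here

set_option autoImplicit false
open Cfsg

namespace Cfsg.Agent.S1256

open Cfsg.Agent.Lib.L0 Cfsg.Agent.Lib.H10

theorem exists_map_conj_le_sylow {X : Type*} [Group X] [Finite X] {p : ℕ} [Fact p.Prime]
    (S : Sylow p X) (Q : Subgroup X) (hQ : IsPGroup p Q) :
    ∃ x : X, Q.map (MulAut.conj x).toMonoidHom ≤ (S : Subgroup X) := by
  obtain ⟨P, hQP⟩ := hQ.exists_le_sylow
  obtain ⟨y, hy⟩ := MulAction.exists_smul_eq X S P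
  refine ⟨y⁻¹, ?_⟩
  have h1 : (P : Subgroup X) = (S : Subgroup X).map (MulAut.conj y).toMonoidHom := by
    rw [← hy, coe_smul_sylow_eq_map]
  calc Q.map (MulAut.conj y⁻¹).toMonoidHom ≤ (P : Subgroup X).map (MulAut.conj y⁻¹).toMonoidHom :=
        Subgroup.map_mono hQP
    _ = (S : Subgroup X) := by rw [h1, map_conj_map_conj, inv_mul_cancel, map_conj_one]

theorem map_map_conj_comm {D X : Type*} [Group D] [Group X] (f : D →* X) (W : Subgroup D) (d : D) :
    (W.map f).map (MulAut.conj (f d)).toMonoidHom = (W.map (MulAut.conj d).toMonoidHom).map f := by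
  rw [Subgroup.map_map, Subgroup.map_map]
  congr 1
  ext y
  simp [map_mul, map_inv]

theorem isPGroup_two_of_isKleinFour {X : Type*} [Group X] (U : Subgroup X) (hU : IsKleinFour U) :
    IsPGroup 2 U := by
  apply IsPGroup.of_card (n := 2)
  rw [hU.card_four]; norm_num

/-- Let X be a finite group whose Sylow 2-subgroup S is dihedral of order 2m ≥ 4. If |S| = 4, any two Klein four-subgroups of X are conjugate; if |S| > 4, there are Klein four-subgroups U₁, U₂ of X that are not conjugate, and every Klein four-subgroup of X is conjugate to U₁ or to U₂. -/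
theorem result {X : Type*} [Group X] [Finite X] (S : Sylow 2 X) (m : ℕ) (hm : 2 ≤ m) (eS : (S : Subgroup X) ≃* DihedralGroup m) : (Nat.card S = 4 → ∀ U V : Subgroup X, IsKleinFour U → IsKleinFour V → (∃ x : X, U.map (MulAut.conj x).toMonoidHom = V)) ∧ (4 < Nat.card S → ∃ U₁ U₂ : Subgroup X, IsKleinFour U₁ ∧ IsKleinFour U₂ ∧ ¬ (∃ x : X, U₁.map (MulAut.conj x).toMonoidHom = U₂) ∧ ∀ V : Subgroup X, IsKleinFour V → (∃ x : X, V.map (MulAut.conj x).toMonoidHom = U₁) ∨ (∃ x : X, V.map (MulAut.conj x).toMonoidHom = U₂)) := by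
  have hp2 : Fact (Nat.Prime 2) := ⟨Nat.prime_two⟩
  constructor
  · intro h4 U V hU hV
    have key : ∀ W : Subgroup X, IsKleinFour W →
        ∃ x : X, W.map (MulAut.conj x).toMonoidHom = (S : Subgroup X) := by
      intro W hW
      obtain ⟨x, hx⟩ := exists_map_conj_le_sylow S W (isPGroup_two_of_isKleinFour W hW)
      refine ⟨x, Subgroup.eq_of_le_of_card_ge hx ?_⟩
      rw [Subgroup.card_map_of_injective (MulAut.conj x).injective, hW.card_four]
      exact h4.le
    obtain ⟨x, hx⟩ := key U hU
    obtain ⟨y, hy⟩ := key V hV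
    refine ⟨y⁻¹ * x, ?_⟩
    rw [← map_conj_map_conj, hx, ← hy, map_conj_map_conj, inv_mul_cancel, map_conj_one]
  · intro h4
    have hmne : NeZero m := ⟨by omega⟩
    have hcard : Nat.card (S : Subgroup X) = 2 * m := by
      rw [Nat.card_congr eS.toEquiv, DihedralGroup.nat_card]
    have hm4 : 4 ∣ m := by
      obtain ⟨n, hn⟩ := S.2.exists_card_eq
      have h1 : 2 * m = 2 ^ n := by rw [← hcard]; exact hn
      have hn3 : 3 ≤ n := by
        by_contra hcon
        push Not at hcon
        have : 2 ^ n ≤ 2 ^ 2 := Nat.pow_le_pow_right (by norm_num) (by omega)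
        have h5 : 4 < 2 * m := by rw [← hcard]; exact h4
        omega
      obtain ⟨k, rfl⟩ : ∃ k, n = k + 3 := ⟨n - 3, by omega⟩
      rw [pow_add] at h1
      generalize 2 ^ k = t at h1
      exact ⟨t, by omega⟩
    have hm2 : 2 ∣ m := Dvd.dvd.trans (by norm_num : 2 ∣ 4) hm4
    set f : DihedralGroup m →* X := (S : Subgroup X).subtype.comp eS.symm.toMonoidHom with hf
    have hfinj : Function.Injective f := by
      rw [hf]
      exact (Subgroup.subtype_injective _).comp eS.symm.injective
    have hfrange : f.range = (S : Subgroup X) := by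
      rw [hf, MonoidHom.range_comp]
      have : eS.symm.toMonoidHom.range = ⊤ := MonoidHom.range_eq_top.mpr eS.symm.surjective
      rw [this, ← MonoidHom.range_eq_map, Subgroup.range_subtype]
    have hKf : ∀ i, IsKleinFour ((Dih.kleinD hm2 i).map f) := fun i =>
      Dih.isKleinFour_of_mulEquiv (Subgroup.equivMapOfInjective _ f hfinj)
        (Dih.isKleinFour_kleinD hm2 i)
    have hKS : ∀ i, (Dih.kleinD hm2 i).map f ≤ (S : Subgroup X) := by
      intro i
      rw [← hfrange]
      exact Subgroup.map_le_range f _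
    obtain ⟨R₀, -, hcyc, h2, h3, -⟩ := exists_dihedral_rotation_subgroup (S : Subgroup X) m eS
    refine ⟨(Dih.kleinD hm2 0).map f, (Dih.kleinD hm2 1).map f, hKf 0, hKf 1, ?_, ?_⟩
    · rintro ⟨x, hx⟩
      have hg : ((Dih.kleinD hm2 0).map f).map (MulAut.conj x⁻¹⁻¹).toMonoidHom ≤ (S : Subgroup X) := by
        rw [inv_inv, hx]; exact hKS 1
      obtain ⟨u, hu, hu'⟩ := klein_conj_in_sylow S R₀ hcyc h2 h3 _ (hKS 0) (hKf 0) x⁻¹ hg
      rw [inv_inv, hx] at hu'
      have hu'' : u⁻¹ ∈ f.range := by rw [hfrange]; exact Subgroup.inv_mem _ hu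
      obtain ⟨d, hd⟩ := hu''
      rw [← hd, map_map_conj_comm] at hu'
      have := Subgroup.map_injective hfinj hu'
      exact Dih.kleinD_zero_not_conj_one hm4 d this.symm
    · intro V hV
      obtain ⟨x, hx⟩ := exists_map_conj_le_sylow S V (isPGroup_two_of_isKleinFour V hV)
      set V' := V.map (MulAut.conj x).toMonoidHom with hV'
      have hV'K : IsKleinFour V' := isKleinFour_map_conj V hV x
      set W := V'.comap f with hW
      have hWf : W.map f = V' := by
        rw [hW, Subgroup.map_comap_eq, hfrange]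
        exact inf_eq_right.mpr hx
      have hWK : IsKleinFour W := by
        have h1 : IsKleinFour (W.map f) := by rw [hWf]; exact hV'K
        exact Dih.isKleinFour_of_mulEquiv (Subgroup.equivMapOfInjective _ f hfinj).symm h1
      obtain ⟨i, hi⟩ := Dih.eq_kleinD_of_isKleinFour hm2 W hWK
      obtain ⟨k, hk | hk⟩ := Dih.exists_conj_kleinD hm2 i
      · left
        refine ⟨f (DihedralGroup.r k) * x, ?_⟩
        rw [← map_conj_map_conj, ← hV', ← hWf, map_map_conj_comm, hi, hk]
      · right
        refine ⟨f (DihedralGroup.r k) * x, ?_⟩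
        rw [← map_conj_map_conj, ← hV', ← hWf, map_map_conj_comm, hi, hk]

end Cfsg.Agent.S1256
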