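import Cfsg.Statements.S1258
import Cfsg.Agent.Lib.H7.Quasisimple
import Cfsg.Agent.Lib.H7.Commutators

set_option autoImplicit false
open Cfsg
open scoped commutatorElement

namespace Cfsg.Agent.S1258

/-- If the central quotient of a finite group X is non-abelian simple, then X = X' Z(X) and the commutator subgroup X' is quasisimple. -/
theorem result {X : Type*} [Group X] [Finite X] (hs : IsSimpleGroup (X ⧸ Subgroup.center X)) (hna : ¬ IsMulCommutative (X ⧸ Subgroup.center X)) : commutator X ⊔ Subgroup.center X = ⊤ ∧ Cfsg.IsQuasisimple ↥(commutator X) := by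
  set Z := Subgroup.center X with hZ
  -- the quotient is perfect
  have hQ : commutator (X ⧸ Z) = ⊤ := by
    have hn : (commutator (X ⧸ Z)).Normal := inferInstance
    rcases hn.eq_bot_or_eq_top with h | h
    · exact absurd ((commutator_eq_bot_iff _).1 h) hna
    · exact h
  -- hence `X' Z = X`
  have hsup : commutator X ⊔ Z = ⊤ := by
    have h1 : (commutator X).map (QuotientGroup.mk' Z) = ⊤ := by
      rw [map_commutator_eq, MonoidHom.range_eq_top.2 (QuotientGroup.mk'_surjective Z),
        ← commutator_def]
      exact hQ
    have := congrArg (Subgroup.comap (QuotientGroup.mk' Z)) h1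
    rwa [Subgroup.comap_map_eq, QuotientGroup.ker_mk', Subgroup.comap_top] at this
  refine ⟨hsup, ?_, ?_⟩
  · -- `X'` is perfect
    rw [Subgroup.isPerfect_iff]
    apply le_antisymm (Subgroup.commutator_le_self _)
    have h2 : ⁅commutator X ⊔ Z, commutator X ⊔ Z⁆ = ⁅commutator X, commutator X⁆ ⊔ ⁅Z, Z⁆ := by
      apply Cfsg.Agent.Lib.H7.commutator_sup_sup_of_commute
      exact Subgroup.commutator_center_right _
    have h3 : ⁅Z, Z⁆ = ⊥ := Subgroup.commutator_center_right _
    rw [hsup, h3, sup_bot_eq, ← commutator_def] at h2
    exact h2.le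
  · -- the central quotient of `X'` is isomorphic to `X / Z`
    let f : commutator X →* X ⧸ Z := (QuotientGroup.mk' Z).comp (commutator X).subtype
    have hf : Function.Surjective f := by
      intro q
      obtain ⟨x, rfl⟩ := QuotientGroup.mk'_surjective Z q
      have hx : x ∈ commutator X ⊔ Z := by rw [hsup]; exact Subgroup.mem_top x
      obtain ⟨c, hc, z, hz, rfl⟩ := Subgroup.mem_sup_of_normal_right.1 hx
      refine ⟨⟨c, hc⟩, ?_⟩
      simp only [f, MonoidHom.comp_apply, Subgroup.subtype_apply, QuotientGroup.mk'_apply,
        QuotientGroup.mk_mul]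
      rw [(QuotientGroup.eq_one_iff z).2 hz, mul_one]
    have hker : f.ker = Subgroup.center (commutator X) := by
      ext c
      rw [MonoidHom.mem_ker, Subgroup.mem_center_iff]
      simp only [f, MonoidHom.comp_apply, Subgroup.subtype_apply, QuotientGroup.mk'_apply,
        QuotientGroup.eq_one_iff]
      constructor
      · intro hc g
        have := Subgroup.mem_center_iff.1 hc g.1
        exact Subtype.ext this
      · intro hc
        rw [hZ, Subgroup.mem_center_iff]
        intro x
        have hx : x ∈ commutator X ⊔ Z := by rw [hsup]; exact Subgroup.mem_top x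
        obtain ⟨d, hd, z, hz, rfl⟩ := Subgroup.mem_sup_of_normal_right.1 hx
        have h1 : d * (c : X) = c * d := congrArg Subtype.val (hc ⟨d, hd⟩)
        have h2 : (c : X) * z = z * c := Subgroup.mem_center_iff.1 hz c
        calc d * z * (c : X) = d * ((c : X) * z) := by rw [h2, mul_assoc]
          _ = (d * c) * z := by rw [mul_assoc]
          _ = c * (d * z) := by rw [h1, mul_assoc]
    let e : commutator X ⧸ Subgroup.center (commutator X) ≃* X ⧸ Z :=
      (QuotientGroup.quotientMulEquivOfEq hker.symm).trans
        (QuotientGroup.quotientKerEquivOfSurjective f hf)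
    have : Nontrivial (commutator X ⧸ Subgroup.center (commutator X)) :=
      e.toEquiv.nontrivial
    exact IsSimpleGroup.isSimpleGroup_of_surjective e.symm.toMonoidHom e.symm.surjective

end Cfsg.Agent.S1258
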