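import Cfsg.Statements.S1263
import Cfsg.Agent.Lib.H7.FStar2

set_option autoImplicit false
open Cfsg
open Cfsg.Agent.Lib.H7

namespace Cfsg.Agent.S1263

/-- The centre of a subgroup, viewed in the ambient group. -/
theorem mem_center_map_iff {G : Type*} [Group G] (L : Subgroup G) (z : G) :
    z ∈ (Subgroup.center L).map L.subtype ↔ z ∈ L ∧ ∀ x ∈ L, x * z = z * x := by
  constructor
  · rintro ⟨w, hw, rfl⟩
    refine ⟨w.2, fun x hx => ?_⟩
    have := Subgroup.mem_center_iff.1 hw ⟨x, hx⟩
    exact congrArg Subtype.val this
  · rintro ⟨hz, hc⟩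
    refine ⟨⟨z, hz⟩, ?_, rfl⟩
    rw [SetLike.mem_coe, Subgroup.mem_center_iff]
    intro g
    exact Subtype.ext (hc g g.2)

theorem center_sSup_components_le {G : Type*} [Group G] [Finite G] (T : Set (Subgroup G)) (hTf : T.Finite) :
    (∀ K ∈ T, IsComponent K) → ∀ z ∈ sSup T, (∀ x ∈ sSup T, x * z = z * x) →
      z ∈ ⨆ K ∈ T, (Subgroup.center K).map K.subtype := by
  induction T, hTf using Set.Finite.induction_on with
  | empty =>
    intro _ z hz _
    rw [sSup_empty, Subgroup.mem_bot] at hz
    rw [hz]; exact Subgroup.one_mem _
  | @insert L T hLT _ ih =>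
    intro hT z hz hc
    have hL : IsComponent L := hT L (Set.mem_insert _ _)
    have hT' : ∀ K ∈ T, IsComponent K := fun K hK => hT K (Set.mem_insert_of_mem _ hK)
    rw [sSup_insert] at hz hc
    have hcomm : ⁅L, sSup T⁆ = ⊥ := component_commutator_sSup hL T hT' hLT
    have hcent : L ≤ Subgroup.centralizer ((sSup T : Subgroup G) : Set G) :=
      Subgroup.commutator_eq_bot_iff_le_centralizer.1 hcomm
    obtain ⟨l, hl, m, hm, rfl⟩ := mem_sup_of_commutator_eq_bot hcomm hz
    -- `l` is central in `L`
    have hlc : ∀ x ∈ L, x * l = l * x := by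
      intro x hx
      have h1 := hc x (Subgroup.mem_sup_left hx)
      have h2 : m * x = x * m := hcent hx m hm
      -- x * (l * m) = l * m * x
      calc x * l = x * (l * m) * m⁻¹ := by group
        _ = l * m * x * m⁻¹ := by rw [h1]
        _ = l * (m * x) * m⁻¹ := by group
        _ = l * (x * m) * m⁻¹ := by rw [h2]
        _ = l * x := by group
    -- `m` is central in `sSup T`
    have hmc : ∀ x ∈ sSup T, x * m = m * x := by
      intro x hx
      have h1 := hc x (Subgroup.mem_sup_right hx)
      have h2 : x * l = l * x := hcent hl x hx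
      calc x * m = l⁻¹ * (l * x) * m := by group
        _ = l⁻¹ * (x * l) * m := by rw [h2]
        _ = l⁻¹ * (x * (l * m)) := by group
        _ = l⁻¹ * (l * m * x) := by rw [h1]
        _ = m * x := by group
    have h1 : l ∈ (Subgroup.center L).map L.subtype := (mem_center_map_iff L l).2 ⟨hl, hlc⟩
    have h2 := ih hT' m hm hmc
    rw [iSup_insert]
    exact Subgroup.mul_mem _ (Subgroup.mem_sup_left h1) (Subgroup.mem_sup_right h2)


/-- For a finite group G, Z(E(G)) is the subgroup generated by the centres Z(L) of the components L of G (all viewed as subgroups of G). -/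
theorem result {G : Type*} [Group G] [Finite G] : (Subgroup.center ↥(Cfsg.layer G)).map (Cfsg.layer G).subtype = ⨆ L : {K : Subgroup G // Cfsg.IsComponent K}, (Subgroup.center ↥(L : Subgroup G)).map (L : Subgroup G).subtype := by
  apply le_antisymm
  · intro z hz
    rw [mem_center_map_iff] at hz
    have := center_sSup_components_le {K : Subgroup G | IsComponent K} (Set.toFinite _)
      (fun K hK => hK) z hz.1 hz.2
    rw [iSup_subtype'] at this
    exact this
  · apply iSup_le
    rintro ⟨L, hL⟩
    intro z hz
    rw [mem_center_map_iff] at hz ⊢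
    refine ⟨component_le_layer hL hz.1, ?_⟩
    -- `z` is centralized by every component
    have key : Cfsg.layer G ≤ Subgroup.centralizer ({z} : Set G) := by
      apply sSup_le
      intro K hK x hx
      rw [Subgroup.mem_centralizer_singleton_iff]
      by_cases hKL : K = L
      · subst hKL
        exact hz.2 x hx
      · have := components_commute hK hL hKL
        rw [Subgroup.commutator_eq_bot_iff_le_centralizer] at this
        exact (this hx z hz.1).symm
    intro x hx
    have := key hx
    rwa [Subgroup.mem_centralizer_singleton_iff] at this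

end Cfsg.Agent.S1263
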