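import Cfsg.Statements.S1264
import Cfsg.Agent.Lib.H7.FStar

set_option autoImplicit false
open Cfsg
open Cfsg.Agent.Lib.H7

namespace Cfsg.Agent.S1264

/-- Let G be finite, C = C_G(F(G)) the centralizer of the Fitting subgroup, and N a solvable subgroup of C normalized by C. Then N ≤ Z(F(G)). -/
theorem result {G : Type*} [Group G] [Finite G] (N : Subgroup G) (hN : N ≤ Subgroup.centralizer (Cfsg.fittingSubgroup G : Set G)) (hnorm : Subgroup.centralizer (Cfsg.fittingSubgroup G : Set G) ≤ Subgroup.normalizer (N : Set G)) (hsolv : Group.IsSolvable ↥N) : N ≤ (Subgroup.center ↥(Cfsg.fittingSubgroup G)).map (Cfsg.fittingSubgroup G).subtype := by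
  set F := Cfsg.fittingSubgroup G with hF
  set C : Subgroup G := Subgroup.centralizer (F : Set G) with hC
  have hCn : C.Normal := Subgroup.normal_centralizer
  -- the derived series of `N`, computed in `G`
  obtain ⟨D, hD0, hDs⟩ : ∃ D : ℕ → Subgroup G, D 0 = N ∧ ∀ i, D (i + 1) = ⁅D i, D i⁆ :=
    ⟨fun i => Nat.rec N (fun _ b => ⁅b, b⁆) i, rfl, fun i => rfl⟩
  have hDmap : ∀ i, D i = (derivedSeries N i).map N.subtype := by
    intro i
    induction i with
    | zero => rw [hD0, derivedSeries_zero, ← MonoidHom.range_eq_map, Subgroup.range_subtype]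
    | succ i ih => rw [hDs, derivedSeries_succ, Subgroup.map_commutator, ← ih]
  obtain ⟨m, hm⟩ := (Group.isSolvable_def N).1 hsolv
  have hDm : D m = ⊥ := by rw [hDmap, hm, Subgroup.map_bot]
  -- all terms are normalized by `C` and contained in `N`
  have hDle : ∀ i, D i ≤ N := by
    intro i; rw [hDmap]; exact Subgroup.map_subtype_le _
  have hDnorm : ∀ i, C ≤ Subgroup.normalizer (D i : Set G) := by
    intro i
    induction i with
    | zero => rw [hD0]; exact hnorm
    | succ i ih =>
      rw [hDs]
      intro c hc
      have h1 := ih hc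
      rw [Subgroup.mem_normalizer_iff_map_conj_eq] at h1 ⊢
      rw [Subgroup.map_commutator, h1]
  have hDsn : ∀ i, (D i).IsSubnormal := by
    intro i
    have hle : D i ≤ C := (hDle i).trans hN
    refine Subgroup.IsSubnormal.trans hle ?_ hCn.isSubnormal
    have : ((D i).subgroupOf C).Normal := by
      rw [Subgroup.normal_subgroupOf_iff_le_normalizer hle]
      exact hDnorm i
    exact this.isSubnormal
  -- downward induction: every term lies in `F`
  have hDF : ∀ k i, i + k = m → D i ≤ F := by
    intro k
    induction k with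
    | zero =>
      intro i hi
      rw [add_zero] at hi
      rw [hi, hDm]; exact bot_le
    | succ k ih =>
      intro i hi
      have h1 : D (i + 1) ≤ F := ih (i + 1) (by omega)
      -- `D i` centralizes `D (i+1)`
      have h2 : ⁅⁅D i, D i⁆, D i⁆ = ⊥ := by
        rw [Subgroup.commutator_eq_bot_iff_le_centralizer, ← hDs]
        intro x hx y hy
        exact ((hN (hDle i hy)) x (h1 hx)).symm
      have h3 : (D i).lowerCentralSeries 2 = ⊥ := by
        rw [Subgroup.lowerCentralSeries_succ, Subgroup.lowerCentralSeries_succ,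
          Subgroup.lowerCentralSeries_zero]
        exact h2
      exact subnormal_nilpotent_le_fittingSubgroup (hDsn i)
        (Subgroup.isNilpotent_of_lowerCentralSeries_eq_bot h3)
  have hNF : N ≤ F := by
    have := hDF m 0 (by omega)
    rwa [hD0] at this
  intro x hx
  refine ⟨⟨x, hNF hx⟩, ?_, rfl⟩
  rw [SetLike.mem_coe, Subgroup.mem_center_iff]
  intro g
  have := hN hx g g.2
  exact Subtype.ext this

end Cfsg.Agent.S1264
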