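import Cfsg.Statements.S1271
import Cfsg.Agent.Lib.H7.BalanceComp

set_option autoImplicit false
open Cfsg
open Cfsg Cfsg.Agent.Lib.H7
open scoped commutatorElement
set_option autoImplicit false

namespace Cfsg.Agent.S1271

/-- Let G be finite with O_{p'}(G) = 1. Suppose that for every component L of G and every subgroup H ≥ L in which L is normal, the quotient H / C_H(L) is balanced for the prime p. Then G is balanced for p. -/
theorem result {G : Type*} [Group G] [Finite G] (p : ℕ) [Fact p.Prime] (hO : Cfsg.pPrimeCore p G = ⊥) (h : ∀ L : Subgroup G, Cfsg.IsComponent L → ∀ H : Subgroup G, L ≤ H → (L.subgroupOf H).Normal → ∀ [((Subgroup.centralizer (L : Set G)).subgroupOf H).Normal], Cfsg.IsBalancedFor p (↥H ⧸ (Subgroup.centralizer (L : Set G)).subgroupOf H)) : Cfsg.IsBalancedFor p G := by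
  intro x hx
  rw [hO]
  by_contra hne
  have hD1 : centralizerPPrimeCore p x ≠ ⊥ := fun h0 => hne (h0 ▸ le_rfl)
  obtain ⟨L, hL, hLx, hDN, hxL, hDL⟩ := exists_component_of_le_cppc hO hx le_rfl hD1
  have hxN : x ∈ Subgroup.normalizer (L : Set G) := Subgroup.mem_normalizer_iff_map_conj_eq.2 hLx
  have hLH : L ≤ prodSub L (Subgroup.normalizer (L : Set G) ⊓ Subgroup.centralizer ({x} : Set G))
    inf_le_left := left_le_prodSub _
  have hHN : prodSub L (Subgroup.normalizer (L : Set G) ⊓ Subgroup.centralizer ({x} : Set G))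
    inf_le_left ≤ Subgroup.normalizer (L : Set G) := prodSub_le_normalizer _
  have hLn : (L.subgroupOf (prodSub L (Subgroup.normalizer (L : Set G) ⊓
      Subgroup.centralizer ({x} : Set G)) inf_le_left)).Normal :=
    (Subgroup.normal_subgroupOf_iff_le_normalizer hLH).2 hHN
  have hCn : ((Subgroup.centralizer (L : Set G)).subgroupOf (prodSub L
      (Subgroup.normalizer (L : Set G) ⊓ Subgroup.centralizer ({x} : Set G)) inf_le_left)).Normal := by
    constructor
    intro c hc g
    rw [Subgroup.mem_subgroupOf] at hc ⊢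
    have h1 := normalizer_le_normalizer_centralizer L (hHN g.2)
    have h2 := (Subgroup.mem_normalizer_iff.1 h1 (c : G)).1 hc
    simpa using h2
  have hbal := @h L hL _ hLH hLn hCn
  exact hDL (cppc_le_centralizer_of_balanced hO hx hL hxN hxL hbal)

end Cfsg.Agent.S1271
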