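import Cfsg.Statements.S1272
import Mathlib
import Cfsg.Prelude.Def_Local
import Cfsg.Agent.Lib.H7.PComponent

set_option autoImplicit false
open Cfsg
open Cfsg.Agent.Lib.H7
set_option autoImplicit false

namespace Cfsg.Agent.S1272

/-- Let X be finite and Q = X / O_{p'}(X). For every component Kbar of Q there is a unique p-component K of X whose image in Q is Kbar; and the image of the p-layer L_{p'}(X) in Q is E(Q). -/
theorem result {X : Type*} [Group X] [Finite X] (p : ℕ) [Fact p.Prime] : (∀ Kbar : Subgroup (X ⧸ Cfsg.pPrimeCore p X), Cfsg.IsComponent Kbar → ∃! K : Subgroup X, Cfsg.IsPComponent p K ∧ K.map (QuotientGroup.mk' (Cfsg.pPrimeCore p X)) = Kbar) ∧ (Cfsg.pLayer p X).map (QuotientGroup.mk' (Cfsg.pPrimeCore p X)) = Cfsg.layer (X ⧸ Cfsg.pPrimeCore p X) := by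
  constructor
  · intro Kbar hK
    refine ⟨pCompOver p Kbar, ⟨isPComponent_pCompOver p hK, map_pCompOver p hK⟩, ?_⟩
    rintro K ⟨hK1, hK2⟩
    rw [eq_pCompOver_of_isPComponent p hK1, hK2]
  · apply le_antisymm
    · rw [Subgroup.map_le_iff_le_comap]
      apply sSup_le
      intro K hK
      rw [← Subgroup.map_le_iff_le_comap]
      exact component_le_layer hK.2.1
    · apply sSup_le
      intro Kbar hK
      rw [← map_pCompOver p hK]
      apply Subgroup.map_mono
      exact le_sSup (isPComponent_pCompOver p hK)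

end Cfsg.Agent.S1272
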