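import Cfsg.Statements.S1273
import Mathlib
import Cfsg.Prelude.Def_Local
import Cfsg.Agent.Lib.H7.PComponent

set_option autoImplicit false
open Cfsg
open Cfsg.Agent.Lib.H7
set_option autoImplicit false

namespace Cfsg.Agent.S1273

/-- Let K be a p-component of the finite group X and N a normal subgroup of K whose index in K is prime to p. Then N = K. -/
theorem result {X : Type*} [Group X] [Finite X] (p : ℕ) [Fact p.Prime] (K : Subgroup X) (hK : Cfsg.IsPComponent p K) (N : Subgroup ↥K) [N.Normal] (hidx : (N.index).Coprime p) : N = ⊤ := by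
  have hKeq := eq_pCompOver_of_isPComponent p hK
  have hle : K ≤ N.map K.subtype := by
    conv_lhs => rw [hKeq]
    apply pElementClosure_le_of_forall
    intro x hx k hk
    have hxK : x ∈ K := by
      rw [hKeq]; exact mem_pElementClosure hx hk
    refine ⟨⟨x, hxK⟩, ?_, rfl⟩
    have h1 : (⟨x, hxK⟩ : K) ^ N.index ∈ N := Subgroup.pow_index_mem N _
    have h2 : (⟨x, hxK⟩ : K) ^ (p ^ k) ∈ N := by
      have : (⟨x, hxK⟩ : K) ^ (p ^ k) = 1 := by
        apply Subtype.ext
        rw [Subgroup.coe_pow, Subgroup.coe_one, ← hk]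
        exact pow_orderOf_eq_one x
      rw [this]; exact N.one_mem
    exact Cfsg.Agent.Lib.H6.mem_of_pow_mem_of_coprime (Nat.Coprime.pow_right k hidx) h1 h2
  rw [eq_top_iff]
  intro y _
  obtain ⟨z, hz, hzy⟩ := hle y.2
  have : z = y := Subtype.ext hzy
  rw [← this]; exact hz

end Cfsg.Agent.S1273
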