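import Cfsg.Statements.S1275
import Mathlib
import Cfsg.Prelude.Def_Local
import Cfsg.Agent.Lib.H7.PComponent2

set_option autoImplicit false
open Cfsg
open Cfsg.Agent.Lib.H7
set_option autoImplicit false

namespace Cfsg.Agent.S1275

/-- For a `p`-component `K`, `K / O_{p'}(K) ≃* K̄`. -/
noncomputable def quotientPPrimeCoreEquiv {X : Type*} [Group X] [Finite X] (p : ℕ) {K : Subgroup X}
    (hK : K.IsSubnormal) :
    (↥K ⧸ pPrimeCore p ↥K) ≃* ↥(K.map (QuotientGroup.mk' (pPrimeCore p X))) := by
  let f : ↥K →* X ⧸ pPrimeCore p X := (QuotientGroup.mk' (pPrimeCore p X)).comp K.subtype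
  have hker : pPrimeCore p ↥K = f.ker := by
    rw [pPrimeCore_eq_subgroupOf_of_isSubnormal p hK]
    ext x
    rw [Subgroup.mem_subgroupOf, MonoidHom.mem_ker, MonoidHom.comp_apply, Subgroup.coe_subtype,
      QuotientGroup.mk'_apply, QuotientGroup.eq_one_iff]
  have hrange : f.range = K.map (QuotientGroup.mk' (pPrimeCore p X)) := by
    rw [MonoidHom.range_eq_map, ← Subgroup.map_map, ← MonoidHom.range_eq_map, Subgroup.range_subtype]
  exact ((QuotientGroup.quotientMulEquivOfEq hker).trans
    (QuotientGroup.quotientKerEquivRange f)).trans (MulEquiv.subgroupCongr hrange)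


/-- For a 2-component K of a finite group X, the quotient of K by its core O(K) is quasisimple. -/
theorem result {X : Type*} [Group X] [Finite X] (K : Subgroup X) (hK : Cfsg.IsPComponent 2 K) : Cfsg.IsQuasisimple (↥K ⧸ Cfsg.oddCore ↥K) := by
  exact quasisimple_of_mulEquiv (quotientPPrimeCoreEquiv 2 hK.1).symm hK.2.1.2

end Cfsg.Agent.S1275
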