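import Cfsg.Statements.S1277
import Mathlib
import Cfsg.Prelude.Def_Local
import Cfsg.Agent.Lib.H7.PComponent3

set_option autoImplicit false
open Cfsg
open Cfsg.Agent.Lib.H7
set_option autoImplicit false

namespace Cfsg.Agent.S1277

/-- The image of a component under a surjective homomorphism is trivial or a component. -/
theorem map_component_eq_bot_or_isComponent {X X' : Type*} [Group X] [Group X'] (f : X →* X')
    (hf : Function.Surjective f) {J : Subgroup X} (hJ : IsComponent J) :
    J.map f = ⊥ ∨ IsComponent (J.map f) := by
  by_cases h : J.map f = ⊥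
  · exact Or.inl h
  · right
    refine ⟨hJ.1.map hf, ?_⟩
    have hnt : Nontrivial ↥(J.map f) := (Subgroup.nontrivial_iff_ne_bot _).2 h
    exact quasisimple_of_surjective hJ.2 (f.subgroupMap J) (f.subgroupMap_surjective J) hnt

theorem map_layer_le {X X' : Type*} [Group X] [Group X'] (f : X →* X')
    (hf : Function.Surjective f) : (layer X).map f ≤ layer X' := by
  rw [Subgroup.map_le_iff_le_comap]
  apply sSup_le
  intro J hJ
  rw [← Subgroup.map_le_iff_le_comap]
  rcases map_component_eq_bot_or_isComponent f hf hJ with h | h
  · rw [h]; exact bot_le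
  · exact component_le_layer h

theorem map_layer_eq_iff_pLayer_le {X : Type*} [Group X] [Finite X] (p : ℕ) [Fact p.Prime] :
    (layer X).map (QuotientGroup.mk' (pPrimeCore p X)) = layer (X ⧸ pPrimeCore p X) ↔
      pLayer p X ≤ layer X := by
  set π := QuotientGroup.mk' (pPrimeCore p X) with hπ
  have hπs : Function.Surjective π := QuotientGroup.mk'_surjective _
  constructor
  · intro h
    apply sSup_le
    intro K hK
    -- find a component `J` of `X` with image `K̄`
    by_contra hKle
    have hall : ∀ J : Subgroup X, IsComponent J → ⁅J.map π, K.map π⁆ = ⊥ := by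
      intro J hJ
      rcases map_component_eq_bot_or_isComponent π hπs hJ with h1 | h1
      · rw [h1, Subgroup.commutator_eq_bot_iff_le_centralizer]; exact bot_le
      · by_cases h2 : J.map π = K.map π
        · exfalso
          apply hKle
          rw [eq_pCompOver_of_isPComponent p hK]
          exact (pCompOver_le_of_map_eq p hJ.1 h2).trans (component_le_layer hJ)
        · exact components_commute h1 hK.2.1 h2
    have h3 : layer (X ⧸ pPrimeCore p X) ≤ Subgroup.centralizer (K.map π : Set _) := by
      rw [← h, Subgroup.map_le_iff_le_comap]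
      apply sSup_le
      intro J hJ
      rw [← Subgroup.map_le_iff_le_comap, ← Subgroup.commutator_eq_bot_iff_le_centralizer]
      exact hall J hJ
    have h4 : ⁅K.map π, K.map π⁆ = ⊥ := by
      rw [Subgroup.commutator_eq_bot_iff_le_centralizer]
      exact (component_le_layer hK.2.1).trans h3
    rw [component_commutator_self hK.2.1] at h4
    exact component_ne_bot hK.2.1 h4
  · intro h
    apply le_antisymm (map_layer_le π hπs)
    rw [← map_pLayer p]
    exact Subgroup.map_mono h


/-- For a finite group X with core O(X): the image of E(X) in X / O(X) is all of E(X / O(X)) if and only if every 2-component of X is a component, i.e. L_{2'}(X) ≤ E(X). -/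
theorem result {X : Type*} [Group X] [Finite X] : (Cfsg.layer X).map (QuotientGroup.mk' (Cfsg.oddCore X)) = Cfsg.layer (X ⧸ Cfsg.oddCore X) ↔ Cfsg.pLayer 2 X ≤ Cfsg.layer X := by
  exact map_layer_eq_iff_pLayer_le 2

end Cfsg.Agent.S1277
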