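import Cfsg.Statements.S1279
import Mathlib
import Cfsg.Prelude.Def_Local
import Cfsg.Agent.Lib.H7.Signalizer

set_option autoImplicit false
open Cfsg
open Cfsg.Agent.Lib.H7
set_option autoImplicit false

namespace Cfsg.Agent.S1279

/-- Let A be a noncyclic elementary abelian p-subgroup of the finite group G such that C_G(a) is solvable for every non-identity a ∈ A. Then a ↦ O_{p'}(C_G(a)) is a solvable A-signalizer functor on G. -/
theorem result {G : Type*} [Group G] [Finite G] (p : ℕ) [Fact p.Prime] (A : Subgroup G) (hA : Cfsg.IsElementaryAbelian p A) (hA2 : p ^ 2 ≤ Nat.card ↥A) (hsolv : ∀ a ∈ A, a ≠ 1 → Group.IsSolvable ↥(Subgroup.centralizer ({a} : Set G))) : Cfsg.IsSolvableSignalizerFunctor p A (fun a => Cfsg.centralizerPPrimeCore p a) := by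
  have hcomm : ∀ a ∈ A, ∀ b ∈ A, a * b = b * a := by
    intro a ha b hb
    have := hA.1.is_comm.comm ⟨a, ha⟩ ⟨b, hb⟩
    exact congrArg Subtype.val this
  refine ⟨⟨?_, ?_, ?_, ?_⟩, ?_⟩
  · intro a _ _
    exact cppc_le p a
  · intro a _ _ hdvd
    have h1 := cppc_card_coprime p a
    have h5 : p ∣ Nat.gcd (Nat.card (centralizerPPrimeCore p a)) p := Nat.dvd_gcd hdvd dvd_rfl
    rw [h1.gcd_eq_one] at h5
    exact (Fact.out : p.Prime).one_lt.ne' (Nat.dvd_one.1 h5)
  · intro a ha _ b hb x hx
    apply cppc_conj_mem p a _ hx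
    rw [Subgroup.mem_centralizer_singleton_iff]
    exact (hcomm a ha b hb).symm
  · intro a ha ha1 b hb hb1
    apply cppc_inf_centralizer_le p _ (hcomm a ha b hb) (hsolv b hb hb1)
    exact orderOf_eq_prime (hA.2 a ha) ha1
  · intro a ha ha1
    have := hsolv a ha ha1
    exact Group.isSolvable_of_isSolvable_injective
      (Subgroup.inclusion_injective (cppc_le p a))

end Cfsg.Agent.S1279
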