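import Cfsg.Statements.S1284
import Cfsg.Agent.Lib.H7.Signalizer3

set_option autoImplicit false
open Cfsg
open Cfsg.Agent.Lib.H7
open Cfsg.Agent.Lib.H1
set_option autoImplicit false

namespace Cfsg.Agent.S1284

theorem isSylowOf_of_le {G : Type*} [Group G] [Finite G] {q : ℕ} [Fact q.Prime]
    {H S P : Subgroup G} (hS : IsSylowOf q H S) (hSP : S ≤ P) (hPH : P ≤ H)
    (hPq : IsPGroup q P) : IsSylowOf q H P := by
  have hq : q.Prime := Fact.out
  obtain ⟨k, hk⟩ := IsPGroup.iff_card.1 hPq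
  have h1 : q ^ k ∣ Nat.card H := hk ▸ Subgroup.card_dvd_of_le hPH
  have h2 : k ≤ (Nat.card H).factorization q :=
    (hq.pow_dvd_iff_le_factorization Nat.card_pos.ne').1 h1
  have h3 : Nat.card P ≤ Nat.card S := by
    rw [hk, hS.card_eq]
    exact Nat.pow_le_pow_right hq.pos h2
  have : S = P := Subgroup.eq_of_le_of_card_ge hSP h3
  rw [← this]; exact hS

theorem isSylowOf_map_conj {G : Type*} [Group G] [Finite G] {q : ℕ}
    {H S : Subgroup G} (hS : IsSylowOf q H S) {c : G} (hc : c ∈ H) :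
    IsSylowOf q H (S.map (MulAut.conj c).toMonoidHom) := by
  refine ⟨?_, ?_⟩
  · rintro _ ⟨s, hs, rfl⟩
    exact H.mul_mem (H.mul_mem hc (hS.le hs)) (H.inv_mem hc)
  · rw [card_map_conj']; exact hS.card_eq


/-- Let θ be a solvable A-signalizer functor on the finite group G, A elementary abelian of rank at least 3, q a prime dividing some |θ a|, and Q maximal among the q-subgroups in the family of θ. Then (a) for every member H of the family, some c in the intersection of the θ a (a ∈ A non-identity) makes c Q c⁻¹ ∩ H a Sylow q-subgroup of H; and (b) for every nontrivial subgroup B ≤ A, C_Q(B) is a Sylow q-subgroup of the intersection of the θ b over the non-identity b ∈ B. -/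
theorem result {G : Type*} [Group G] [Finite G] (p : ℕ) [Fact p.Prime] (A : Subgroup G) (hA : Cfsg.IsElementaryAbelian p A) (hA3 : p ^ 3 ≤ Nat.card ↥A) (θ : G → Subgroup G) (hθ : Cfsg.IsSolvableSignalizerFunctor p A θ) (q : ℕ) [Fact q.Prime] (hq : ∃ a ∈ A, a ≠ 1 ∧ q ∣ Nat.card ↥(θ a)) (Q : Subgroup G) (hQW : Q ∈ Cfsg.signalizerFamily p A θ) (hQq : IsPGroup q ↥Q) (hQmax : ∀ R ∈ Cfsg.signalizerFamily p A θ, IsPGroup q ↥R → Q ≤ R → R = Q) : (∀ H : Subgroup G, H ∈ Cfsg.signalizerFamily p A θ → ∃ c ∈ Cfsg.signalizerInf A θ, ∃ S : Sylow q ↥H, (S : Subgroup ↥H).map H.subtype = Q.map (MulAut.conj c).toMonoidHom ⊓ H) ∧ (∀ B : Subgroup G, B ≤ A → B ≠ ⊥ → ∃ S : Sylow q ↥(Cfsg.signalizerInf B θ), (S : Subgroup ↥(Cfsg.signalizerInf B θ)).map (Cfsg.signalizerInf B θ).subtype = Q ⊓ Subgroup.centralizer (B : Set G)) := by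
  have hp : p.Prime := Fact.out
  have hAc : ∀ a ∈ A, ∀ b ∈ A, a * b = b * a := by
    intro a ha b hb
    have := hA.1
    have h := mul_comm' (⟨a, ha⟩ : A) ⟨b, hb⟩
    exact congrArg Subtype.val h
  have hQ : IsMaxQ p A θ q Q := ⟨hQW, hQq, hQmax⟩
  -- part (a) in `IsSylowOf` form
  have partA : ∀ H : Subgroup G, H ∈ Cfsg.signalizerFamily p A θ →
      ∃ c ∈ Cfsg.signalizerInf A θ, IsSylowOf q H (Q.map (MulAut.conj c).toMonoidHom ⊓ H) := by
    intro H hHF
    have hAH := family_le_normalizer hHF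
    have hHp : (Nat.card H).Coprime p := ((Nat.Prime.coprime_iff_not_dvd hp).2 hHF.2.1).symm
    have hact := coprimeAction_of_le p hAc hA.2 hHp hAH (le_refl A)
    obtain ⟨S₀, hS₀, hAS₀⟩ := coprime_exists_invariant_sylow hact q
    obtain ⟨R, hR, hSR⟩ := exists_isMaxQ_ge (family_of_le hHF hS₀.le hAS₀) hS₀.isPGroup
    obtain ⟨c, hc, hcQ⟩ := transitivity_aux hA hA3 hθ q (Nat.card G) Q R hQ hR (Nat.sub_le _ _)
    refine ⟨c, hc, isSylowOf_of_le hS₀ (le_inf (hcQ ▸ hSR) hS₀.le) inf_le_right ?_⟩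
    exact (hQq.map (MulAut.conj c).toMonoidHom).to_le inf_le_left
  constructor
  · intro H hHF
    obtain ⟨c, hc, hS⟩ := partA H hHF
    exact ⟨c, hc, hS.toSylow, hS.map_toSylow⟩
  · intro B hBA hBne
    obtain ⟨⟨b₀, hb₀B⟩, hb₀1⟩ := Subgroup.ne_bot_iff_exists_ne_one.1 hBne
    have hb₀1' : b₀ ≠ 1 := fun h => hb₀1 (Subtype.ext h)
    have hTle : ∀ b ∈ B, b ≠ 1 → Cfsg.signalizerInf B θ ≤ θ b := fun b hb hb1 =>
      iInf_le (fun a : {a : G // a ∈ B ∧ a ≠ 1} => θ (a : G)) ⟨b, hb, hb1⟩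
    have hAT : A ≤ Subgroup.normalizer ((Cfsg.signalizerInf B θ : Subgroup G) : Set G) := by
      intro g hg
      rw [Subgroup.mem_normalizer_iff]
      intro x
      unfold Cfsg.signalizerInf
      rw [Subgroup.mem_iInf, Subgroup.mem_iInf]
      refine forall_congr' ?_
      rintro ⟨b, hb, hb1⟩
      exact Subgroup.mem_normalizer_iff.1
        (family_le_normalizer (theta_mem_family hθ (hBA hb) hb1) hg) x
    have hTF : Cfsg.signalizerInf B θ ∈ Cfsg.signalizerFamily p A θ :=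
      family_of_le (theta_mem_family hθ (hBA hb₀B) hb₀1') (hTle b₀ hb₀B hb₀1') hAT
    obtain ⟨c, hc, hS⟩ := partA _ hTF
    have hcT : c ∈ Cfsg.signalizerInf B θ := by
      unfold Cfsg.signalizerInf
      rw [Subgroup.mem_iInf]
      rintro ⟨b, hb, hb1⟩
      exact signalizerInf_le_theta (hBA hb) hb1 hc
    have hTcen : Cfsg.signalizerInf B θ ≤ Subgroup.centralizer (B : Set G) := by
      intro x hx
      rw [Subgroup.mem_centralizer_iff]
      intro b hb
      by_cases hb1 : b = 1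
      · rw [hb1]; simp
      · have := hθ.1.1 b (hBA hb) hb1 (hTle b hb hb1 hx)
        exact (Subgroup.mem_centralizer_singleton_iff.1 this).symm
    have heq : Q ⊓ Subgroup.centralizer (B : Set G) =
        (Q.map (MulAut.conj c).toMonoidHom ⊓ Cfsg.signalizerInf B θ).map
          (MulAut.conj c⁻¹).toMonoidHom := by
      apply le_antisymm
      · intro x hx
        have hxT : x ∈ Cfsg.signalizerInf B θ := by
          unfold Cfsg.signalizerInf
          rw [Subgroup.mem_iInf]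
          rintro ⟨b, hb, hb1⟩
          apply hQW.2.2.2 b (hBA hb) hb1
          exact ⟨hx.1, Subgroup.mem_centralizer_singleton_iff.2
            (Subgroup.mem_centralizer_iff.1 hx.2 b hb).symm⟩
        refine ⟨c * x * c⁻¹, ⟨⟨x, hx.1, rfl⟩, ?_⟩, ?_⟩
        · exact Subgroup.mul_mem _ (Subgroup.mul_mem _ hcT hxT) (Subgroup.inv_mem _ hcT)
        · simp only [MulEquiv.coe_toMonoidHom, MulAut.conj_apply]; group
      · rintro _ ⟨y, ⟨⟨x, hx, rfl⟩, hyT⟩, rfl⟩
        have e : (MulAut.conj c⁻¹).toMonoidHom ((MulAut.conj c).toMonoidHom x) = x := by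
          simp only [MulEquiv.coe_toMonoidHom, MulAut.conj_apply]; group
        rw [e]
        refine ⟨hx, hTcen ?_⟩
        have hyT' : c * x * c⁻¹ ∈ Cfsg.signalizerInf B θ := hyT
        have : x = c⁻¹ * (c * x * c⁻¹) * c := by group
        rw [this]
        exact Subgroup.mul_mem _ (Subgroup.mul_mem _ (Subgroup.inv_mem _ hcT) hyT') hcT
    have hS' : IsSylowOf q (Cfsg.signalizerInf B θ) (Q ⊓ Subgroup.centralizer (B : Set G)) := by
      rw [heq]
      exact isSylowOf_map_conj hS (Subgroup.inv_mem _ hcT)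
    exact ⟨hS'.toSylow, hS'.map_toSylow⟩

end Cfsg.Agent.S1284
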