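import Mathlib
import Cfsg.Statements.S1286

set_option autoImplicit false
open Cfsg

namespace Cfsg.Agent.S1286

abbrev X := Equiv.Perm (Fin 7)

def a0 : X := Equiv.swap 0 1 * Equiv.swap 2 3
def b0 : X := Equiv.swap 0 1 * Equiv.swap 4 5
def c0 : X := Equiv.swap 2 3 * Equiv.swap 4 5
def ga : X := Equiv.swap 4 5 * Equiv.swap 5 6
def gb : X := Equiv.swap 2 3 * Equiv.swap 3 6
def gc : X := Equiv.swap 0 1 * Equiv.swap 1 6

/-- the four-group -/
def A : Subgroup X where
  carrier := {x | x = 1 ∨ x = a0 ∨ x = b0 ∨ x = c0}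
  one_mem' := Or.inl rfl
  mul_mem' := by
    rintro x y (rfl | rfl | rfl | rfl) (rfl | rfl | rfl | rfl) <;>
      simp only [Set.mem_setOf_eq] <;> decide
  inv_mem' := by
    rintro x (rfl | rfl | rfl | rfl) <;> simp only [Set.mem_setOf_eq] <;> decide

theorem mem_A {x : X} : x ∈ A ↔ x = 1 ∨ x = a0 ∨ x = b0 ∨ x = c0 := Iff.rfl

noncomputable def θ (x : X) : Subgroup X :=
  if x = a0 then Subgroup.zpowers ga else if x = b0 then Subgroup.zpowers gb
  else if x = c0 then Subgroup.zpowers gc else ⊥

theorem θ_a0 : θ a0 = Subgroup.zpowers ga := if_pos rfl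
theorem θ_b0 : θ b0 = Subgroup.zpowers gb := by
  unfold θ; rw [if_neg (by decide), if_pos rfl]
theorem θ_c0 : θ c0 = Subgroup.zpowers gc := by
  unfold θ; rw [if_neg (by decide), if_neg (by decide), if_pos rfl]

theorem order_ga : orderOf ga = 3 := orderOf_eq_prime (by decide) (by decide)
theorem order_gb : orderOf gb = 3 := orderOf_eq_prime (by decide) (by decide)
theorem order_gc : orderOf gc = 3 := orderOf_eq_prime (by decide) (by decide)

/-- elements of `zpowers g` for `g` of order 3 -/
theorem mem_zpowers_three {g x : X} (hg : orderOf g = 3) (hx : x ∈ Subgroup.zpowers g) :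
    x = 1 ∨ x = g ∨ x = g ^ 2 := by
  rw [mem_zpowers_iff_mem_range_orderOf, hg] at hx
  simp only [Finset.mem_image, Finset.mem_range] at hx
  obtain ⟨k, hk, rfl⟩ := hx
  interval_cases k
  · left; simp
  · right; left; simp
  · right; right; rfl

/-- conjugation invariance of `zpowers g` from the generator -/
theorem conj_mem_zpowers {g b : X} (h : b * g * b⁻¹ ∈ Subgroup.zpowers g) :
    ∀ x ∈ Subgroup.zpowers g, b * x * b⁻¹ ∈ Subgroup.zpowers g := by
  intro x hx
  obtain ⟨k, rfl⟩ := hx
  have : b * g ^ k * b⁻¹ = (b * g * b⁻¹) ^ k := by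
    rw [conj_zpow]
  rw [this]
  exact Subgroup.zpow_mem _ h k

theorem conj_of_eq_or_inv {g b : X} (h : b * g * b⁻¹ = g ∨ b * g * b⁻¹ = g⁻¹) :
    b * g * b⁻¹ ∈ Subgroup.zpowers g := by
  rcases h with h | h
  · rw [h]; exact Subgroup.mem_zpowers g
  · rw [h]; exact Subgroup.inv_mem _ (Subgroup.mem_zpowers g)

/-- balance helper: nothing nontrivial in `zpowers g` commutes with `b` -/
theorem inf_centralizer_eq_bot {g b : X} (hg : orderOf g = 3) (h1 : b * g ≠ g * b)
    (h2 : b * g ^ 2 ≠ g ^ 2 * b) :
    Subgroup.zpowers g ⊓ Subgroup.centralizer {b} = ⊥ := by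
  rw [Subgroup.eq_bot_iff_forall]
  intro x hx'
  obtain ⟨hx, hxb⟩ := Subgroup.mem_inf.mp hx'
  rw [Subgroup.mem_centralizer_singleton_iff] at hxb
  rcases mem_zpowers_three hg hx with rfl | rfl | rfl
  · rfl
  · exact absurd hxb.symm h1
  · exact absurd hxb.symm h2

theorem sigfun : Cfsg.IsSignalizerFunctor 2 A θ := by
  refine ⟨?_, ?_, ?_, ?_⟩
  · intro a ha hne
    rcases mem_A.mp ha with rfl | rfl | rfl | rfl
    · exact absurd rfl hne
    · rw [θ_a0, Subgroup.zpowers_le, Subgroup.mem_centralizer_singleton_iff]; decide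
    · rw [θ_b0, Subgroup.zpowers_le, Subgroup.mem_centralizer_singleton_iff]; decide
    · rw [θ_c0, Subgroup.zpowers_le, Subgroup.mem_centralizer_singleton_iff]; decide
  · intro a ha hne
    rcases mem_A.mp ha with rfl | rfl | rfl | rfl
    · exact absurd rfl hne
    · rw [θ_a0, Nat.card_zpowers, order_ga]; decide
    · rw [θ_b0, Nat.card_zpowers, order_gb]; decide
    · rw [θ_c0, Nat.card_zpowers, order_gc]; decide
  · intro a ha hne b hb
    rcases mem_A.mp ha with rfl | rfl | rfl | rfl
    · exact absurd rfl hne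
    · rw [θ_a0]
      apply conj_mem_zpowers
      apply conj_of_eq_or_inv
      rcases mem_A.mp hb with rfl | rfl | rfl | rfl <;> decide
    · rw [θ_b0]
      apply conj_mem_zpowers
      apply conj_of_eq_or_inv
      rcases mem_A.mp hb with rfl | rfl | rfl | rfl <;> decide
    · rw [θ_c0]
      apply conj_mem_zpowers
      apply conj_of_eq_or_inv
      rcases mem_A.mp hb with rfl | rfl | rfl | rfl <;> decide
  · intro a ha hne b hb hbne
    rcases mem_A.mp ha with rfl | rfl | rfl | rfl
    · exact absurd rfl hne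
    · rcases mem_A.mp hb with rfl | rfl | rfl | rfl
      · exact absurd rfl hbne
      · exact inf_le_left
      · rw [θ_a0, inf_centralizer_eq_bot order_ga (by decide) (by decide)]; exact bot_le
      · rw [θ_a0, inf_centralizer_eq_bot order_ga (by decide) (by decide)]; exact bot_le
    · rcases mem_A.mp hb with rfl | rfl | rfl | rfl
      · exact absurd rfl hbne
      · rw [θ_b0, inf_centralizer_eq_bot order_gb (by decide) (by decide)]; exact bot_le
      · exact inf_le_left
      · rw [θ_b0, inf_centralizer_eq_bot order_gb (by decide) (by decide)]; exact bot_le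
    · rcases mem_A.mp hb with rfl | rfl | rfl | rfl
      · exact absurd rfl hbne
      · rw [θ_c0, inf_centralizer_eq_bot order_gc (by decide) (by decide)]; exact bot_le
      · rw [θ_c0, inf_centralizer_eq_bot order_gc (by decide) (by decide)]; exact bot_le
      · exact inf_le_left

theorem card_A : Nat.card A = 4 := by
  have h : (A : Set X) = ({1, a0, b0, c0} : Finset X) := by
    ext x
    simp only [SetLike.mem_coe, mem_A, Finset.coe_insert, Finset.coe_singleton,
      Set.mem_insert_iff, Set.mem_singleton_iff]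
  have h2 : Nat.card A = Nat.card ((({1, a0, b0, c0} : Finset X) : Set X)) :=
    Nat.card_congr (Equiv.setCongr h)
  rw [h2, Nat.card_coe_set_eq, Set.ncard_coe_finset]
  decide

/-- There exist a finite group X, an elementary abelian subgroup A of order 4 and a solvable A-signalizer functor θ on X for the prime 2 which is not complete. -/
theorem result : ∃ (X : Type) (_ : Group X) (_ : Finite X) (A : Subgroup X) (θ : X → Subgroup X), Cfsg.IsElementaryAbelian 2 A ∧ Nat.card ↥A = 4 ∧ Cfsg.IsSolvableSignalizerFunctor 2 A θ ∧ ¬ Cfsg.IsCompleteSignalizerFunctor 2 A θ := by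
  refine ⟨X, inferInstance, inferInstance, A, θ, ?_, card_A, ⟨sigfun, ?_⟩, ?_⟩
  · refine ⟨⟨⟨?_⟩⟩, ?_⟩
    · rintro ⟨x, hx⟩ ⟨y, hy⟩
      apply Subtype.ext
      show x * y = y * x
      rcases mem_A.mp hx with rfl | rfl | rfl | rfl <;>
        rcases mem_A.mp hy with rfl | rfl | rfl | rfl <;> decide
    · intro x hx
      rcases mem_A.mp hx with rfl | rfl | rfl | rfl <;> decide
  · intro a ha hne
    rcases mem_A.mp ha with rfl | rfl | rfl | rfl
    · exact absurd rfl hne
    · rw [θ_a0]; infer_instance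
    · rw [θ_b0]; infer_instance
    · rw [θ_c0]; infer_instance
  · rintro ⟨-, Y, -, hY2, hY⟩
    have h1 : ga ∈ Y := by
      have := hY a0 (mem_A.mpr (Or.inr (Or.inl rfl))) (by decide)
      rw [θ_a0] at this
      have h : ga ∈ Y ⊓ Subgroup.centralizer {a0} := by
        rw [this]; exact Subgroup.mem_zpowers ga
      exact h.1
    have h2 : gb ∈ Y := by
      have := hY b0 (mem_A.mpr (Or.inr (Or.inr (Or.inl rfl)))) (by decide)
      rw [θ_b0] at this
      have h : gb ∈ Y ⊓ Subgroup.centralizer {b0} := by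
        rw [this]; exact Subgroup.mem_zpowers gb
      exact h.1
    have hw : ga * gb * ga * gb⁻¹ ∈ Y := mul_mem (mul_mem (mul_mem h1 h2) h1) (inv_mem h2)
    have ho : orderOf (ga * gb * ga * gb⁻¹) = 2 := orderOf_eq_prime (by decide) (by decide)
    apply hY2
    rw [← ho]
    have := Subgroup.orderOf_dvd_natCard Y hw
    exact this

end Cfsg.Agent.S1286
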