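import Cfsg.Statements.S1287
-- import your own Cfsg.Agent.* helpers here
import Mathlib
import Cfsg.Agent.Lib.H16.WielandtFormula

set_option autoImplicit false
open scoped Pointwise
open Cfsg

namespace Cfsg.Agent.S1287

open Cfsg.Agent.Lib.H16 Cfsg.Agent.Lib.H1

/-- cancel a common power -/
theorem cancel_aux {u v s t e f : ℕ} (hf : 0 < e) (hs : s ≠ 0) (hst : s = t)
    (h : u ^ e * s ^ f = v ^ e * t ^ f) : u = v := by
  subst hst
  have h1 : u ^ e = v ^ e := Nat.eq_of_mul_eq_mul_right (Nat.pos_of_ne_zero (pow_ne_zero f hs)) h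
  exact Nat.pow_left_injective (Nat.pos_iff_ne_zero.1 hf) h1

/-- Let A be a noncyclic elementary abelian p-subgroup of a finite group H normalizing a subgroup K of order prime to p, and X, Y ≤ K subgroups normalized by A with C_K(a) = C_X(a) C_Y(a) (as sets) for every non-identity a ∈ A, where X is also normalized by C_K(A). Then K = XY as sets. -/
theorem result {H : Type*} [Group H] [Finite H] (p : ℕ) [Fact p.Prime] (A K X Y : Subgroup H) (hA : Cfsg.IsElementaryAbelian p A) (hA2 : p ^ 2 ≤ Nat.card ↥A) (hK : ¬ p ∣ Nat.card ↥K) (hAK : A ≤ Subgroup.normalizer (K : Set H)) (hX : X ≤ K) (hY : Y ≤ K) (hAX : A ≤ Subgroup.normalizer (X : Set H)) (hAY : A ≤ Subgroup.normalizer (Y : Set H)) (hCX : K ⊓ Subgroup.centralizer (A : Set H) ≤ Subgroup.normalizer (X : Set H)) (hfac : ∀ a ∈ A, a ≠ 1 → ((K ⊓ Subgroup.centralizer {a} : Subgroup H) : Set H) = ((X ⊓ Subgroup.centralizer {a} : Subgroup H) : Set H) * ((Y ⊓ Subgroup.centralizer {a} : Subgroup H) : Set H))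 : (K : Set H) = (X : Set H) * (Y : Set H) := by
  classical
  have hp : p.Prime := Fact.out
  obtain ⟨hAcomm, hAexp⟩ := hA
  -- a subgroup of order p ^ 2
  have hApg : IsPGroup p A := by
    intro a
    exact ⟨1, by rw [pow_one]; exact Subtype.ext (by simpa using hAexp a a.2)⟩
  obtain ⟨k, hk⟩ := hApg.exists_card_eq
  have hk2 : 2 ≤ k := by
    by_contra hcon
    push Not at hcon
    have : p ^ k < p ^ 2 := Nat.pow_lt_pow_right hp.one_lt hcon
    omega
  obtain ⟨A₀, hA₀⟩ := Sylow.exists_subgroup_card_pow_prime p (G := A) (n := 2)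
    (hk ▸ pow_dvd_pow p hk2)
  set A₁ : Subgroup H := A₀.map A.subtype with hA₁
  have hA₁A : A₁ ≤ A := Subgroup.map_subtype_le A₀
  have hE : IsEpp p A₁ :=
    { comm := fun a ha b hb => by
        have := hAcomm.is_comm.comm ⟨a, hA₁A ha⟩ ⟨b, hA₁A hb⟩
        exact congrArg Subtype.val this
      exp := fun a ha => hAexp a (hA₁A ha)
      card := by
        rw [hA₁, Subgroup.card_map_of_injective A.subtype_injective]
        exact hA₀ }
  have hnot : ∀ Z : Subgroup H, Z ≤ K → ¬ p ∣ Nat.card Z :=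
    fun Z hZ hd => hK (hd.trans (Subgroup.card_dvd_of_le hZ))
  have hXYK : X ⊓ Y ≤ K := inf_le_left.trans hX
  have hAXY : A ≤ Subgroup.normalizer ((X ⊓ Y : Subgroup H) : Set H) :=
    fun a ha => mem_normalizer_inf (hAX ha) (hAY ha)
  have wK := wielandt_formula hE K hK (hA₁A.trans hAK)
  have wX := wielandt_formula hE X (hnot X hX) (hA₁A.trans hAX)
  have wY := wielandt_formula hE Y (hnot Y hY) (hA₁A.trans hAY)
  have wXY := wielandt_formula hE (X ⊓ Y) (hnot _ hXYK) (hA₁A.trans hAXY)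
  -- (F1)
  have hinf : ∀ S : Set H, (X ⊓ Subgroup.centralizer S) ⊓ (Y ⊓ Subgroup.centralizer S)
      = (X ⊓ Y) ⊓ Subgroup.centralizer S := by
    intro S
    ext z
    simp only [Subgroup.mem_inf]
    tauto
  have F1 : ∀ a ∈ nz A₁, Nat.card (K ⊓ Subgroup.centralizer {a} : Subgroup H) *
      Nat.card ((X ⊓ Y) ⊓ Subgroup.centralizer {a} : Subgroup H)
      = Nat.card (X ⊓ Subgroup.centralizer {a} : Subgroup H) *
        Nat.card (Y ⊓ Subgroup.centralizer {a} : Subgroup H) := by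
    intro a ha
    obtain ⟨ha1, haA⟩ := mem_nz.1 ha
    have h1 := card_mul_set (X ⊓ Subgroup.centralizer {a}) (Y ⊓ Subgroup.centralizer {a})
    rw [← hfac a (hA₁A haA) ha1, hinf] at h1
    exact h1
  -- (F2)
  obtain ⟨a₀, ha₀A, _, _, ha₀1, _⟩ := hE.exists_gens
  have hset : ((K ⊓ Subgroup.centralizer (A₁ : Set H) : Subgroup H) : Set H)
      = ((X ⊓ Subgroup.centralizer (A₁ : Set H) : Subgroup H) : Set H) *
        ((Y ⊓ Subgroup.centralizer (A₁ : Set H) : Subgroup H) : Set H) := by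
    apply Set.Subset.antisymm
    · intro k hk
      have hcomm : ∀ b ∈ A₁, b ∈ Subgroup.normalizer
          ((Subgroup.centralizer {a₀} : Subgroup H) : Set H) := fun b hb =>
        mem_normalizer_centralizer (fun s hs => by
          rw [Set.mem_singleton_iff.1 hs]; exact hE.comm a₀ ha₀A b hb)
      have hK₀ : CoprimeAction A₁ (K ⊓ Subgroup.centralizer {a₀}) :=
        (hE.coprimeAction hK (hA₁A.trans hAK)).mono inf_le_left
          (fun b hb => mem_normalizer_inf (hAK (hA₁A hb)) (hcomm b hb))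
      have hk' : k ∈ (K ⊓ Subgroup.centralizer {a₀}) ⊓ Subgroup.centralizer (A₁ : Set H) := by
        refine Subgroup.mem_inf.2 ⟨Subgroup.mem_inf.2 ⟨(Subgroup.mem_inf.1 hk).1, ?_⟩,
          (Subgroup.mem_inf.1 hk).2⟩
        exact Subgroup.centralizer_le (Set.singleton_subset_iff.2 ha₀A) (Subgroup.mem_inf.1 hk).2
      obtain ⟨x, hx, y, hy, rfl⟩ := coprime_centralizer_mul hK₀
        (X := X ⊓ Subgroup.centralizer {a₀}) (Y := Y ⊓ Subgroup.centralizer {a₀})
        (inf_le_inf_right _ hX) (inf_le_inf_right _ hY)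
        (fun b hb => mem_normalizer_inf (hAX (hA₁A hb)) (hcomm b hb))
        (fun b hb => mem_normalizer_inf (hAY (hA₁A hb)) (hcomm b hb))
        (fun k hk => by
          have hk2 : k ∈ ((K ⊓ Subgroup.centralizer {a₀} : Subgroup H) : Set H) := hk
          rw [hfac a₀ (hA₁A ha₀A) ha₀1] at hk2
          obtain ⟨x, hx, y, hy, rfl⟩ := Set.mem_mul.1 hk2
          exact ⟨x, hx, y, hy, rfl⟩) hk'
      refine Set.mul_mem_mul ?_ ?_
      · exact Subgroup.mem_inf.2 ⟨(Subgroup.mem_inf.1 (Subgroup.mem_inf.1 hx).1).1,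
          (Subgroup.mem_inf.1 hx).2⟩
      · exact Subgroup.mem_inf.2 ⟨(Subgroup.mem_inf.1 (Subgroup.mem_inf.1 hy).1).1,
          (Subgroup.mem_inf.1 hy).2⟩
    · rintro _ ⟨x, hx, y, hy, rfl⟩
      exact (K ⊓ Subgroup.centralizer (A₁ : Set H)).mul_mem
        (inf_le_inf_right _ hX hx) (inf_le_inf_right _ hY hy)
  have F2 : Nat.card (K ⊓ Subgroup.centralizer (A₁ : Set H) : Subgroup H) *
      Nat.card ((X ⊓ Y) ⊓ Subgroup.centralizer (A₁ : Set H) : Subgroup H)
      = Nat.card (X ⊓ Subgroup.centralizer (A₁ : Set H) : Subgroup H) *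
        Nat.card (Y ⊓ Subgroup.centralizer (A₁ : Set H) : Subgroup H) := by
    have h1 := card_mul_set (X ⊓ Subgroup.centralizer (A₁ : Set H))
      (Y ⊓ Subgroup.centralizer (A₁ : Set H))
    rw [← hset, hinf] at h1
    exact h1
  -- combine
  have hP : (∏ a ∈ nz A₁, Nat.card (K ⊓ Subgroup.centralizer {a} : Subgroup H)) *
      (∏ a ∈ nz A₁, Nat.card ((X ⊓ Y) ⊓ Subgroup.centralizer {a} : Subgroup H))
      = (∏ a ∈ nz A₁, Nat.card (X ⊓ Subgroup.centralizer {a} : Subgroup H)) *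
        (∏ a ∈ nz A₁, Nat.card (Y ⊓ Subgroup.centralizer {a} : Subgroup H)) := by
    rw [← Finset.prod_mul_distrib, ← Finset.prod_mul_distrib]
    exact Finset.prod_congr rfl F1
  rw [← wK, ← wX, ← wY, ← wXY] at hP
  have hcard : Nat.card K * Nat.card (X ⊓ Y : Subgroup H) = Nat.card X * Nat.card Y := by
    apply cancel_aux (e := p - 1) (f := p * (p - 1))
      (s := Nat.card (K ⊓ Subgroup.centralizer (A₁ : Set H) : Subgroup H) *
        Nat.card ((X ⊓ Y) ⊓ Subgroup.centralizer (A₁ : Set H) : Subgroup H))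
      (t := Nat.card (X ⊓ Subgroup.centralizer (A₁ : Set H) : Subgroup H) *
        Nat.card (Y ⊓ Subgroup.centralizer (A₁ : Set H) : Subgroup H))
      (Nat.sub_pos_of_lt hp.one_lt) (mul_ne_zero Nat.card_pos.ne' Nat.card_pos.ne') F2
    rw [mul_pow, mul_pow, mul_pow, mul_pow]
    calc _ = _ := by ring
      _ = _ := hP
      _ = _ := by ring
  have hXY := card_mul_set X Y
  rw [← hcard] at hXY
  have hcard2 : Nat.card ((X : Set H) * (Y : Set H) : Set H) = Nat.card K :=
    Nat.eq_of_mul_eq_mul_right Nat.card_pos hXY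
  have hsub : (X : Set H) * (Y : Set H) ⊆ (K : Set H) := by
    rintro _ ⟨x, hx, y, hy, rfl⟩
    exact K.mul_mem (hX hx) (hY hy)
  symm
  apply Set.eq_of_subset_of_ncard_le hsub _ (Set.toFinite _)
  rw [← Nat.card_coe_set_eq, ← Nat.card_coe_set_eq, hcard2]
  rfl

end Cfsg.Agent.S1287
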