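import Cfsg.Statements.S1288
import Cfsg.Agent.Lib.H7.CharMap
import Cfsg.Agent.Lib.H7.Hyperplane
import Cfsg.Agent.Lib.H7.PConstrained

set_option autoImplicit false
open Cfsg
open Cfsg.Agent.Lib.H7
set_option autoImplicit false

namespace Cfsg.Agent.S1288

/-- Let A be a noncyclic elementary abelian p-subgroup of a finite group H normalizing a solvable subgroup K of order prime to p, q a prime dividing |K|, and U ≤ K a subgroup of order prime to q such that ⁅U, C_K(B)⁆ has order prime to q for every subgroup B of index p in A. Then U ≤ O_{q'}(K). -/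
theorem result {H : Type*} [Group H] [Finite H] (p : ℕ) [Fact p.Prime] (A K : Subgroup H) (hA : Cfsg.IsElementaryAbelian p A) (hA2 : p ^ 2 ≤ Nat.card ↥A) (hK : ¬ p ∣ Nat.card ↥K) (hKs : Group.IsSolvable ↥K) (hAK : A ≤ Subgroup.normalizer (K : Set H)) (q : ℕ) [Fact q.Prime] (hqK : q ∣ Nat.card ↥K) (U : Subgroup H) (hU : U ≤ K) (hUq : ¬ q ∣ Nat.card ↥U) (hcomm : ∀ B : Subgroup H, B ≤ A → B.relIndex A = p → ¬ q ∣ Nat.card ↥⁅U, K ⊓ Subgroup.centralizer (B : Set H)⁆) : U ≤ (Cfsg.pPrimeCore q ↥K).map K.subtype := by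
  have hp : p.Prime := Fact.out
  have hAc : ∀ a ∈ A, ∀ b ∈ A, a * b = b * a := by
    intro a ha b hb
    have := hA.1
    have h := mul_comm' (⟨a, ha⟩ : A) ⟨b, hb⟩
    exact congrArg Subtype.val h
  have hApg : IsPGroup p A := by
    intro g
    refine ⟨1, ?_⟩
    apply Subtype.ext
    rw [pow_one, Subgroup.coe_pow, hA.2 _ g.2]; rfl
  have hAne : A ≠ ⊥ := by
    rintro rfl
    rw [Subgroup.card_bot] at hA2
    have : 1 < p ^ 2 := Nat.one_lt_pow (by norm_num) hp.one_lt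
    omega
  have hKp : (Nat.card K).Coprime p := ((Nat.Prime.coprime_iff_not_dvd hp).2 hK).symm
  -- `P_H = O_{q',q}(K)` in the ambient group
  have hPK : (pPrimePCore q ↥K).map K.subtype ≤ K := Subgroup.map_subtype_le _
  have hAP : A ≤ Subgroup.normalizer (((pPrimePCore q ↥K).map K.subtype : Subgroup H) : Set H) :=
    hAK.trans (normalizer_le_normalizer_charMap (fun Y _ => pPrimePCore q Y)
      (fun Y Y' _ _ e => pPrimePCore_map_equiv q e) K)
  have hPp : (Nat.card ((pPrimePCore q ↥K).map K.subtype : Subgroup H)).Coprime p :=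
    Nat.Coprime.coprime_dvd_left (Subgroup.card_dvd_of_le hPK) hKp
  have hgen := le_hypGen p hAc hA.2 hPp hAP
  have hPn : (pPrimePCore q ↥K).Normal := pPrimePCore_normal q ↥K
  -- a `q'`-subgroup of `P_H` lies in `N_H`
  have hQ1 : ∀ W : Subgroup H, W ≤ (pPrimePCore q ↥K).map K.subtype → ¬ q ∣ Nat.card W →
      W ≤ (pPrimeCore q ↥K).map K.subtype := by
    intro W hW hWq
    have hWK : W ≤ K := hW.trans hPK
    have h1 : W.subgroupOf K ≤ pPrimePCore q ↥K := by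
      intro w hw
      obtain ⟨y, hy, hyw⟩ := hW (Subgroup.mem_subgroupOf.1 hw)
      have : y = w := Subtype.ext hyw
      rwa [← this]
    have h2 : Nat.card (W.subgroupOf K) = Nat.card W :=
      Nat.card_congr (Subgroup.subgroupOfEquivOfLe hWK).toEquiv
    have h3 := le_pPrimeCore_of_le_pPrimePCore q h1 (by rw [h2]; exact hWq)
    intro w hw
    exact ⟨⟨w, hWK hw⟩, h3 (Subgroup.mem_subgroupOf.2 hw), rfl⟩
  -- `U` centralizes `P / N`
  have hcen : ∀ u ∈ U, ∀ x ∈ (pPrimePCore q ↥K).map K.subtype,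
      u * x * u⁻¹ * x⁻¹ ∈ (pPrimeCore q ↥K).map K.subtype := by
    intro u hu
    -- the set of such `x` is a subgroup; use generation
    have hNn : (pPrimeCore q ↥K).Normal := inferInstance
    have hsub : (pPrimePCore q ↥K).map K.subtype ≤
        ((Subgroup.centralizer {QuotientGroup.mk' (pPrimeCore q ↥K) ⟨u, hU hu⟩}).comap
          (QuotientGroup.mk' (pPrimeCore q ↥K))).map K.subtype := by
      refine hgen.trans ?_
      apply iSup_le
      rintro ⟨B, hBA, hBp⟩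
      obtain ⟨B₁, hB₁B, hB₁p⟩ := exists_hyperplane_le p hApg hAne hBA hBp
      have hW := hcomm B₁ (hB₁B.trans hBA) hB₁p
      rintro x ⟨hxP, hxB⟩
      have hxK : x ∈ K := hPK hxP
      have hxB₁ : x ∈ K ⊓ Subgroup.centralizer (B₁ : Set H) :=
        ⟨hxK, Subgroup.centralizer_le hB₁B hxB⟩
      have h1 : u * x * u⁻¹ * x⁻¹ ∈ ⁅U, K ⊓ Subgroup.centralizer (B₁ : Set H)⁆ :=
        Subgroup.commutator_mem_commutator hu hxB₁
      have h2 : u * x * u⁻¹ * x⁻¹ ∈ (pPrimePCore q ↥K).map K.subtype := by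
        obtain ⟨x', hx', rfl⟩ := hxP
        refine ⟨⟨u, hU hu⟩ * x' * ⟨u, hU hu⟩⁻¹ * x'⁻¹, ?_, by simp⟩
        exact Subgroup.mul_mem _ (hPn.conj_mem x' hx' _) (Subgroup.inv_mem _ hx')
      have h3 := hQ1 (⁅U, K ⊓ Subgroup.centralizer (B₁ : Set H)⁆ ⊓
        (pPrimePCore q ↥K).map K.subtype) inf_le_right
        (fun h => hW (h.trans (Subgroup.card_dvd_of_le inf_le_left))) ⟨h1, h2⟩
      obtain ⟨n, hn, hnx⟩ := h3
      refine ⟨⟨x, hxK⟩, ?_, rfl⟩
      show QuotientGroup.mk' (pPrimeCore q ↥K) ⟨x, hxK⟩ ∈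
        Subgroup.centralizer {QuotientGroup.mk' (pPrimeCore q ↥K) ⟨u, hU hu⟩}
      rw [Subgroup.mem_centralizer_singleton_iff]
      rw [← map_mul, ← map_mul]
      rw [QuotientGroup.mk'_apply, QuotientGroup.mk'_apply, QuotientGroup.eq]
      have e : ((⟨x, hxK⟩ : ↥K) * ⟨u, hU hu⟩)⁻¹ * (⟨u, hU hu⟩ * ⟨x, hxK⟩) =
          ⟨u, hU hu⟩⁻¹ * (⟨x, hxK⟩⁻¹ * n * ⟨x, hxK⟩) * ⟨u, hU hu⟩ := by
        apply Subtype.ext
        have hnx' : (n : H) = u * x * u⁻¹ * x⁻¹ := hnx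
        simp only [Subgroup.coe_mul, Subgroup.coe_inv, hnx']
        group
      rw [e]
      have h4 := hNn.conj_mem _ (hNn.conj_mem n hn (⟨x, hxK⟩ : ↥K)⁻¹) (⟨u, hU hu⟩ : ↥K)⁻¹
      simpa using h4
    intro x hx
    obtain ⟨y, hy0, hyx⟩ := hsub hx
    have hy : QuotientGroup.mk' (pPrimeCore q ↥K) y ∈
        Subgroup.centralizer {QuotientGroup.mk' (pPrimeCore q ↥K) ⟨u, hU hu⟩} := hy0
    rw [Subgroup.mem_centralizer_singleton_iff] at hy
    rw [← map_mul, ← map_mul] at hy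
    rw [QuotientGroup.mk'_apply, QuotientGroup.mk'_apply, QuotientGroup.eq] at hy
    have hyx' : (y : H) = x := hyx
    refine ⟨((⟨u, hU hu⟩ : ↥K) * y) * ((y * ⟨u, hU hu⟩)⁻¹ * (⟨u, hU hu⟩ * y)) *
      ((⟨u, hU hu⟩ : ↥K) * y)⁻¹, hNn.conj_mem _ hy _, ?_⟩
    simp only [Subgroup.coe_subtype, Subgroup.coe_mul, Subgroup.coe_inv, hyx']
    group
  -- hence `U ≤ P` by solvability
  have hUP : U.subgroupOf K ≤ pPrimePCore q ↥K := by
    intro u hu
    have huU : (u : H) ∈ U := Subgroup.mem_subgroupOf.1 hu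
    show QuotientGroup.mk' (pPrimeCore q ↥K) u ∈ pCore q (↥K ⧸ pPrimeCore q ↥K)
    apply centralizer_pCore_quotient_le_of_isSolvable q hKs
    rw [Subgroup.mem_centralizer_iff]
    intro z hz
    obtain ⟨x, rfl⟩ := QuotientGroup.mk'_surjective _ z
    have hxP : (x : H) ∈ (pPrimePCore q ↥K).map K.subtype := ⟨x, hz, rfl⟩
    obtain ⟨n, hn, hnx⟩ := hcen u huU x hxP
    rw [← map_mul, ← map_mul]
    rw [QuotientGroup.mk'_apply, QuotientGroup.mk'_apply, QuotientGroup.eq]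
    have hNn : (pPrimeCore q ↥K).Normal := inferInstance
    have e : (x * u)⁻¹ * (u * x) = u⁻¹ * (x⁻¹ * n * x) * u := by
      apply Subtype.ext
      have hnx' : (n : H) = u * x * (u : H)⁻¹ * (x : H)⁻¹ := hnx
      simp only [Subgroup.coe_mul, Subgroup.coe_inv, hnx']
      group
    rw [e]
    have h4 := hNn.conj_mem _ (hNn.conj_mem n hn x⁻¹) u⁻¹
    simpa using h4
  have hUcard : Nat.card (U.subgroupOf K) = Nat.card U :=
    Nat.card_congr (Subgroup.subgroupOfEquivOfLe hU).toEquiv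
  have hfin := le_pPrimeCore_of_le_pPrimePCore q hUP (by rw [hUcard]; exact hUq)
  intro u hu
  exact ⟨⟨u, hU hu⟩, hfin (Subgroup.mem_subgroupOf.2 hu), rfl⟩

end Cfsg.Agent.S1288
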