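import Cfsg.Statements.S1289
import Mathlib
import Cfsg.Prelude.Def_Local
import Cfsg.Agent.Lib.H7.PComponent

set_option autoImplicit false
open Cfsg
open Cfsg.Agent.Lib.H7
set_option autoImplicit false

namespace Cfsg.Agent.S1289

/-- A p-component K of the finite group X is subnormal, perfect, of order divisible by p, and minimal among the subnormal perfect subgroups of X of order divisible by p. -/
theorem result {X : Type*} [Group X] [Finite X] (p : ℕ) [Fact p.Prime] (K : Subgroup X) (hK : Cfsg.IsPComponent p K) : K.IsSubnormal ∧ ⁅K, K⁆ = K ∧ p ∣ Nat.card ↥K ∧ ∀ H : Subgroup X, H ≤ K → H.IsSubnormal → ⁅H, H⁆ = H → p ∣ Nat.card ↥H → H = K := by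
  set π := QuotientGroup.mk' (pPrimeCore p X) with hπ
  have hπs : Function.Surjective π := QuotientGroup.mk'_surjective _
  have hcop : ∀ S : Subgroup X, S ≤ pPrimeCore p X → ¬ p ∣ Nat.card S := by
    intro S hS hdvd
    have h1 : Nat.card S ∣ Nat.card (pPrimeCore p X) := Subgroup.card_dvd_of_le hS
    exact Cfsg.Agent.Lib.H22.not_dvd_card_pPrimeCore (Fact.out : p.Prime) (hdvd.trans h1)
  refine ⟨hK.1, ?_, ?_, ?_⟩
  · apply hK.2.2 _ _ (Subgroup.commutator_le_self K)
    · rw [Subgroup.map_commutator]
      exact component_commutator_self hK.2.1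
    · apply Subgroup.IsSubnormal.step _ _ (Subgroup.commutator_le_self K) hK.1
      apply Subgroup.normal_subgroupOf_of_le_normalizer
      exact (Subgroup.normalizer_commutator_ge_left K K)
  · by_contra hnd
    have hc : (Nat.card K).Coprime p :=
      ((Nat.Prime.coprime_iff_not_dvd (Fact.out : p.Prime)).2 hnd).symm
    have h1 := Cfsg.Agent.Lib.H9.subnormal_coprime_le_pPrimeCore p hK.1 hc
    apply component_ne_bot hK.2.1
    rw [← le_bot_iff, Subgroup.map_le_iff_le_comap, MonoidHom.comap_bot, QuotientGroup.ker_mk']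
    exact h1
  · intro H hHK hHs hHperf hpH
    apply hK.2.2 H hHs hHK
    have hsub : ((H.map π).subgroupOf (K.map π)).IsSubnormal := (hHs.map hπs).subgroupOf
    rcases quasisimple_subnormal hK.2.1.2 _ hsub with h1 | h1
    · exact le_antisymm (Subgroup.map_mono hHK) (Subgroup.subgroupOf_eq_top.1 h1)
    · exfalso
      have hab : ⁅H.map π, H.map π⁆ = ⊥ := by
        rw [Subgroup.commutator_eq_bot_iff_le_centralizer]
        intro a ha
        rw [Subgroup.mem_centralizer_iff]
        intro b hb
        have haK : a ∈ K.map π := Subgroup.map_mono hHK ha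
        have hbK : b ∈ K.map π := Subgroup.map_mono hHK hb
        have h2 : (⟨a, haK⟩ : K.map π) ∈ Subgroup.center (K.map π) :=
          h1 (Subgroup.mem_subgroupOf.2 ha)
        have h3 := Subgroup.mem_center_iff.1 h2 ⟨b, hbK⟩
        exact congrArg Subtype.val h3
      rw [← Subgroup.map_commutator, hHperf] at hab
      have hHO : H ≤ pPrimeCore p X := by
        rw [← le_bot_iff, Subgroup.map_le_iff_le_comap, MonoidHom.comap_bot, hπ,
          QuotientGroup.ker_mk'] at hab
        exact hab
      exact hcop H hHO hpH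

end Cfsg.Agent.S1289
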