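import Cfsg.Statements.S1298
import Cfsg.Agent.Lib.H7.KBalance
import Cfsg.Agent.Lib.H7.CoprimeQuot2

set_option autoImplicit false
open Cfsg
open Cfsg Cfsg.Agent.Lib.H7
open scoped commutatorElement
set_option autoImplicit false

namespace Cfsg.Agent.S1298

/-- Let G be finite and k ≥ 1. Suppose that for every x of order p, writing C = C_G(x), every component K of C / O_{p'}(C) has K / Z(K) locally k-balanced for p. Then G is k-balanced for p. -/
theorem result {G : Type*} [Group G] [Finite G] (p k : ℕ) [Fact p.Prime] (hk : 1 ≤ k) (h : ∀ x : G, orderOf x = p → ∀ K : Subgroup (↥(Subgroup.centralizer ({x} : Set G)) ⧸ Cfsg.pPrimeCore p ↥(Subgroup.centralizer ({x} : Set G))), Cfsg.IsComponent K → Cfsg.IsLocallyKBalanced p k (↥K ⧸ Subgroup.center ↥K)) : Cfsg.IsKBalanced p k G := by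
  have hp : p.Prime := Fact.out
  intro A hA hAcard b hb hAb
  set C := Subgroup.centralizer ({b} : Set G) with hC
  set N := pPrimeCore p ↥C with hN
  have hNn : N.Normal := Cfsg.Agent.Lib.H22.pPrimeCore_normal p
  have hNc : (Nat.card ↥N).Coprime p := Cfsg.Agent.Lib.H22.card_pPrimeCore_coprime p
  set π := QuotientGroup.mk' N with hπ
  have hOQ : pPrimeCore p (↥C ⧸ N) = ⊥ := Cfsg.Agent.Lib.H9.pPrimeCore_quotient_eq_bot p
  have hAC : A ≤ C := by
    intro a ha
    rw [hC, Subgroup.mem_centralizer_singleton_iff]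
    exact hAb a ha
  set ψ₀ : ↥A →* ↥C ⧸ N := π.comp (Subgroup.inclusion hAC) with hψ₀
  have hψ₀inj : Function.Injective ψ₀ := by
    rw [injective_iff_map_eq_one]
    intro a ha
    by_contra hne
    have hne' : (a : G) ≠ 1 := fun h0 => hne (Subtype.ext h0)
    have hmem : Subgroup.inclusion hAC a ∈ N := by
      have : π (Subgroup.inclusion hAC a) = 1 := ha
      rwa [hπ, QuotientGroup.mk'_apply, QuotientGroup.eq_one_iff] at this
    have hord : orderOf (Subgroup.inclusion hAC a) = p := by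
      have h1 : orderOf (a : G) = p := orderOf_eq_prime (hA.2 a a.2) hne'
      rw [← h1]
      exact (Subgroup.orderOf_coe (Subgroup.inclusion hAC a)).symm
    have hdvd : p ∣ Nat.card ↥N := by
      rw [← hord]; exact Subgroup.orderOf_dvd_natCard N hmem
    have : p ∣ Nat.gcd (Nat.card ↥N) p := Nat.dvd_gcd hdvd dvd_rfl
    rw [hNc] at this
    exact hp.one_lt.ne' (Nat.dvd_one.1 this)
  set Ab := ψ₀.range with hAb'
  have hAbel : IsElementaryAbelian p Ab := by
    refine ⟨⟨⟨?_⟩⟩, ?_⟩
    · rintro ⟨_, ⟨a, rfl⟩⟩ ⟨_, ⟨a', rfl⟩⟩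
      apply Subtype.ext
      show ψ₀ a * ψ₀ a' = ψ₀ a' * ψ₀ a
      rw [← map_mul, ← map_mul, hA.1.is_comm.comm a a']
    · rintro _ ⟨a, rfl⟩
      rw [← map_pow]
      have : a ^ p = 1 := Subtype.ext (by rw [Subgroup.coe_pow]; exact hA.2 a a.2)
      rw [this, map_one]
  have hAbcard : Nat.card ↥Ab = p ^ k := by
    rw [← hAcard]
    exact (Nat.card_congr (MonoidHom.ofInjective hψ₀inj).toEquiv).symm
  have hAb1 : Ab ≠ ⊥ := by
    intro h0
    rw [h0, Subgroup.card_bot] at hAbcard
    have : 1 < p ^ k := Nat.one_lt_pow (by omega) hp.one_lt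
    omega
  set W := signalizerDelta p A ⊓ C with hW
  set Wb := (W.subgroupOf C).map π with hWb
  have hWb_le : ∀ ab ∈ Ab, ab ≠ 1 → Wb ≤ centralizerPPrimeCore p ab := by
    rintro _ ⟨a, rfl⟩ ha1
    have ha1' : (a : G) ≠ 1 := by
      intro h0
      apply ha1
      have : a = 1 := Subtype.ext h0
      rw [this, map_one]
    set aC : ↥C := Subgroup.inclusion hAC a with haC
    have hapC : aC ^ p = 1 := Subtype.ext (by
      rw [Subgroup.coe_pow]; exact hA.2 a a.2)
    set R := (centralizerPPrimeCore p (a : G) ⊓ C).subgroupOf C with hR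
    have hRa : R ≤ Subgroup.centralizer ({aC} : Set ↥C) := by
      intro r hr
      rw [hR, Subgroup.mem_subgroupOf] at hr
      have := cppc_le p (a : G) (Subgroup.mem_inf.1 hr).1
      rw [Subgroup.mem_centralizer_singleton_iff] at this ⊢
      exact Subtype.ext this
    have hRc : (Nat.card ↥R).Coprime p := by
      have e1 : ↥R ≃* ↥(centralizerPPrimeCore p (a : G) ⊓ C) :=
        Subgroup.subgroupOfEquivOfLe inf_le_right
      rw [Nat.card_congr e1.toEquiv]
      exact Nat.Coprime.coprime_dvd_left (Subgroup.card_dvd_of_le inf_le_left)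
        (cppc_card_coprime p (a : G))
    have hRn : Subgroup.centralizer ({aC} : Set ↥C) ≤ Subgroup.normalizer (R : Set ↥C) := by
      intro c hc
      rw [Subgroup.mem_centralizer_singleton_iff] at hc
      have hc' : (c : G) ∈ Subgroup.centralizer ({(a : G)} : Set G) := by
        rw [Subgroup.mem_centralizer_singleton_iff]
        exact congrArg Subtype.val hc
      have key : ∀ c' : ↥C, (c' : G) ∈ Subgroup.centralizer ({(a : G)} : Set G) →
          ∀ r ∈ R, c' * r * c'⁻¹ ∈ R := by
        intro c' hc'' r hr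
        rw [hR, Subgroup.mem_subgroupOf] at hr ⊢
        refine Subgroup.mem_inf.2 ⟨?_, (c' * r * c'⁻¹).2⟩
        have := cppc_conj_mem p (a : G) hc'' (Subgroup.mem_inf.1 hr).1
        simpa using this
      rw [Subgroup.mem_normalizer_iff]
      intro r
      constructor
      · exact key c hc' r
      · intro hr
        have := key c⁻¹ (by simpa using Subgroup.inv_mem _ hc') _ hr
        simpa [mul_assoc] using this
    have h1 := map_mk_le_cppc p hNc hapC hRa hRc hRn
    refine le_trans ?_ h1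
    apply Subgroup.map_mono
    intro w hw
    rw [Subgroup.mem_subgroupOf] at hw
    rw [hR, Subgroup.mem_subgroupOf]
    refine Subgroup.mem_inf.2 ⟨?_, w.2⟩
    have h2 : signalizerDelta p A ≤ centralizerPPrimeCore p (a : G) := by
      unfold signalizerDelta
      exact iInf_le _ (⟨(a : G), a.2, ha1'⟩ : {a : G // a ∈ A ∧ a ≠ 1})
    exact h2 (Subgroup.mem_inf.1 hw).1
  have key := eq_bot_of_le_cppc_of_locallyKBalanced hOQ (h b hb) hAbel hAbcard hAb1 hWb_le
  intro w hw
  have hwC : w ∈ C := (Subgroup.mem_inf.1 hw).2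
  have h1 : π ⟨w, hwC⟩ ∈ Wb := ⟨⟨w, hwC⟩, Subgroup.mem_subgroupOf.2 hw, rfl⟩
  rw [key, Subgroup.mem_bot, hπ, QuotientGroup.mk'_apply, QuotientGroup.eq_one_iff] at h1
  unfold centralizerPPrimeCore
  exact ⟨⟨w, hwC⟩, h1, rfl⟩

end Cfsg.Agent.S1298
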