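import Cfsg.Statements.S1300
import Mathlib
import Cfsg.Prelude.Def_Local

set_option autoImplicit false
open Cfsg
set_option autoImplicit false

namespace Cfsg.Agent.S1300

theorem centralizerPPrimeCore_le_centralizer {G : Type*} [Group G] (p : ℕ) (x : G) :
    centralizerPPrimeCore p x ≤ Subgroup.centralizer ({x} : Set G) := by
  unfold centralizerPPrimeCore
  exact Subgroup.map_subtype_le _


/-- For a finite group G, balance in the sense of commuting involutions is the same as 1-balance for the prime 2. -/
theorem result {G : Type*} [Group G] [Finite G] : Cfsg.IsBalanced G ↔ Cfsg.IsKBalanced 2 1 G := by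
  constructor
  · intro h A hA hcard b hb hAb
    -- pick the involution of A
    have hnt : Nontrivial A := by
      rw [← Finite.one_lt_card_iff_nontrivial, hcard]; norm_num
    obtain ⟨a, ha1⟩ := exists_ne (1 : A)
    have haA : (a : G) ∈ A := a.2
    have ha1' : (a : G) ≠ 1 := fun h0 => ha1 (Subtype.ext h0)
    have hao : orderOf (a : G) = 2 := by
      apply orderOf_eq_prime
      · exact hA.2 _ haA
      · exact ha1'
    have h1 : signalizerDelta 2 A ≤ centralizerPPrimeCore 2 (a : G) :=
      iInf_le (fun a : {a : G // a ∈ A ∧ a ≠ 1} => centralizerPPrimeCore 2 (a : G))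
        ⟨(a : G), haA, ha1'⟩
    have h2 := h (a : G) b hao hb (hAb _ haA)
    calc signalizerDelta 2 A ⊓ Subgroup.centralizer {b}
        ≤ centralizerPPrimeCore 2 (a : G) ⊓ Subgroup.centralizer {b} := inf_le_inf_right _ h1
      _ = centralizerPPrimeCore 2 b ⊓ Subgroup.centralizer {(a : G)} := h2
      _ ≤ centralizerPPrimeCore 2 b := inf_le_left
  · intro h x y hx hy hxy
    have key : ∀ x y : G, orderOf x = 2 → orderOf y = 2 → x * y = y * x →
        centralizerPPrimeCore 2 x ⊓ Subgroup.centralizer {y} ≤ centralizerPPrimeCore 2 y := by
      intro x y hx hy hxy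
      have hx2 : x ^ 2 = 1 := by rw [← hx]; exact pow_orderOf_eq_one x
      have hx1 : x ≠ 1 := by
        intro h0; rw [h0, orderOf_one] at hx; norm_num at hx
      have hmem : ∀ a ∈ Subgroup.zpowers x, a = 1 ∨ a = x := by
        intro a ha
        obtain ⟨k, rfl⟩ := Subgroup.mem_zpowers_iff.1 ha
        rcases Int.emod_two_eq_zero_or_one k with hk | hk
        · left
          rw [← Int.emod_add_mul_ediv k 2, hk, zero_add, zpow_mul, zpow_ofNat, hx2, one_zpow]
        · right
          rw [← Int.emod_add_mul_ediv k 2, hk, zpow_add, zpow_one, zpow_mul, zpow_ofNat, hx2,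
            one_zpow, mul_one]
      have hA : IsElementaryAbelian 2 (Subgroup.zpowers x) := by
        refine ⟨inferInstance, ?_⟩
        intro a ha
        rcases hmem a ha with rfl | rfl
        · simp
        · exact hx2
      have hcard : Nat.card (Subgroup.zpowers x) = 2 ^ 1 := by
        rw [Nat.card_zpowers, hx]; norm_num
      have hcomm : ∀ a ∈ Subgroup.zpowers x, a * y = y * a := by
        intro a ha
        rcases hmem a ha with rfl | rfl
        · simp
        · exact hxy
      have h1 := h (Subgroup.zpowers x) hA hcard y hy hcomm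
      have h2 : centralizerPPrimeCore 2 x ≤ signalizerDelta 2 (Subgroup.zpowers x) := by
        apply le_iInf
        rintro ⟨a, ha, ha1⟩
        rcases hmem a ha with rfl | rfl
        · exact absurd rfl ha1
        · exact le_rfl
      exact (inf_le_inf_right _ h2).trans h1
    apply le_antisymm
    · apply le_inf (key x y hx hy hxy)
      exact inf_le_left.trans (centralizerPPrimeCore_le_centralizer 2 x)
    · apply le_inf (key y x hy hx hxy.symm)
      exact inf_le_left.trans (centralizerPPrimeCore_le_centralizer 2 y)

end Cfsg.Agent.S1300
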