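import Cfsg.Statements.S1297
import Cfsg.Agent.S1298
import Cfsg.Agent.S1300

set_option autoImplicit false
open Cfsg
set_option autoImplicit false

namespace Cfsg.Agent.S1297

theorem locallyKBalanced_of_locallyBalanced {K : Type*} [Group K] (h : IsLocallyBalanced K) :
    IsLocallyKBalanced 2 1 K := by
  intro H hH A hA hAcard
  rw [pow_one] at hAcard
  have hnt : ∃ ξ ∈ A, ξ ≠ 1 := by
    by_contra hcon
    push Not at hcon
    have hbot : A = ⊥ := by
      rw [eq_bot_iff]
      intro a ha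
      rw [Subgroup.mem_bot]; exact hcon a ha
    rw [hbot, Subgroup.card_bot] at hAcard
    omega
  obtain ⟨ξ, hξ, hξ1⟩ := hnt
  have hord : orderOf ξ = 2 := orderOf_eq_prime (hA.2 ξ hξ) hξ1
  have h1 := h H hH ξ hord
  rw [eq_bot_iff, ← h1]
  unfold signalizerDelta
  exact iInf_le _ (⟨ξ, hξ, hξ1⟩ : {a : ↥H // a ∈ A ∧ a ≠ 1})


/-- Let G be finite. Suppose that for every involution x, writing C = C_G(x), every component K of C / O(C) has K / Z(K) locally balanced. Then G is balanced. -/
theorem result {G : Type*} [Group G] [Finite G] (h : ∀ x : G, orderOf x = 2 → ∀ K : Subgroup (↥(Subgroup.centralizer ({x} : Set G)) ⧸ Cfsg.oddCore ↥(Subgroup.centralizer ({x} : Set G))), Cfsg.IsComponent K → Cfsg.IsLocallyBalanced (↥K ⧸ Subgroup.center ↥K)) : Cfsg.IsBalanced G := by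
  have : Fact (Nat.Prime 2) := ⟨Nat.prime_two⟩
  rw [Cfsg.Agent.S1300.result]
  apply Cfsg.Agent.S1298.result 2 1 le_rfl
  intro x hx K hK
  exact locallyKBalanced_of_locallyBalanced (h x hx K hK)

end Cfsg.Agent.S1297
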