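import Cfsg.Statements.S1302
import Cfsg.Agent.Lib.H7.OddInvariant
import Cfsg.Agent.Lib.H7.PConstrained2
import Cfsg.Agent.Lib.H7.PConstrained3
import Cfsg.Agent.Lib.H7.CoprimeQuot

set_option autoImplicit false
open Cfsg
open Cfsg.Agent.Lib.H7
set_option autoImplicit false

namespace Cfsg.Agent.S1302

/-- Let X be a finite p-constrained group, p an odd prime, and A an abelian p-subgroup of X containing every element of order p of C_X(A). Then every subgroup of X of order prime to p that is normalized by A lies in O_{p'}(X). -/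
theorem result {X : Type*} [Group X] [Finite X] (p : ℕ) [Fact p.Prime] (hp : p ≠ 2) (hX : Cfsg.IsPConstrained p X) (A : Subgroup X) (hA : IsMulCommutative ↥A) (hAp : IsPGroup p ↥A) (hΩ : ∀ x ∈ Subgroup.centralizer (A : Set X), orderOf x = p → x ∈ A) (Q : Subgroup X) (hQ : ¬ p ∣ Nat.card ↥Q) (hAQ : A ≤ Subgroup.normalizer (Q : Set X)) : Q ≤ Cfsg.pPrimeCore p X := by
  have hpp : p.Prime := Fact.out
  set O := pPrimeCore p X with hOdef
  have hOn : O.Normal := Cfsg.Agent.Lib.H22.pPrimeCore_normal p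
  have hOco : (Nat.card O).Coprime p := Cfsg.Agent.Lib.H22.card_pPrimeCore_coprime p
  set π := QuotientGroup.mk' O with hπ
  have hOQ : pPrimeCore p (X ⧸ O) = ⊥ := Cfsg.Agent.Lib.H9.pPrimeCore_quotient_eq_bot p
  have hlayer : layer (X ⧸ O) = ⊥ :=
    (pLayer_eq_bot_iff_layer_quotient_eq_bot p).1 ((isPConstrained_iff_pLayer_eq_bot p).1 hX)
  have hcen := centralizer_pCore_le_of_layer_eq_bot p hOQ hlayer
  set Rb := pCore p (X ⧸ O) with hRb
  have hRn : Rb.Normal := Cfsg.Agent.Lib.H1.pCore_normal p _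
  have hRp : IsPGroup p Rb := Cfsg.Agent.Lib.H1.pCore_isPGroup p _
  have hNR : Subgroup.normalizer (Rb : Set (X ⧸ O)) = ⊤ := Subgroup.normalizer_eq_top _
  have hQco : (Nat.card Q).Coprime p :=
    ((Nat.Prime.coprime_iff_not_dvd hpp).2 hQ).symm
  have hQbco : (Nat.card (Q.map π)).Coprime p :=
    Nat.Coprime.coprime_dvd_left (Subgroup.card_map_dvd _ _) hQco
  have hAQb : A.map π ≤ Subgroup.normalizer ((Q.map π : Subgroup (X ⧸ O)) : Set (X ⧸ O)) :=
    (Subgroup.map_mono hAQ).trans (Subgroup.le_normalizer_map π)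
  have hΩb : ∀ x ∈ Subgroup.centralizer ((A.map π : Subgroup (X ⧸ O)) : Set (X ⧸ O)),
      orderOf x = p → x ∈ A.map π := by
    intro xb hxb hxo
    obtain ⟨x, rfl⟩ := QuotientGroup.mk'_surjective O xb
    obtain ⟨y, hyC, hyx⟩ := exists_mem_centralizer_of_mk_mem_centralizer p hOco hAp hxb
    set N := Nat.card O with hN
    have hyp : π (y ^ p) = 1 := by
      rw [map_pow, hyx, ← hxo, pow_orderOf_eq_one]
    have hypO : y ^ p ∈ O := by
      rwa [hπ, QuotientGroup.mk'_apply, QuotientGroup.eq_one_iff] at hyp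
    have h1 : (y ^ N) ^ p = 1 := by
      rw [← pow_mul, mul_comm, pow_mul]
      have := pow_card_eq_one' (G := ↥O) (x := ⟨y ^ p, hypO⟩)
      have h2 := congrArg Subtype.val this
      rw [Subgroup.coe_pow, Subgroup.coe_one] at h2
      exact h2
    have h2 : y ^ N ≠ 1 := by
      intro h
      have h3 : (π x) ^ N = 1 := by rw [← hyx, ← map_pow, h, map_one]
      have h4 := orderOf_dvd_of_pow_eq_one h3
      rw [hxo] at h4
      have : p ∣ Nat.gcd N p := Nat.dvd_gcd h4 dvd_rfl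
      rw [hOco.gcd_eq_one] at this
      exact hpp.one_lt.ne' (Nat.dvd_one.1 this)
    have h3 : orderOf (y ^ N) = p := orderOf_eq_prime h1 h2
    have h4 : y ^ N ∈ A := hΩ _ (Subgroup.pow_mem _ hyC N) h3
    have h5 : (π x) ^ N ∈ A.map π := by
      rw [← hyx, ← map_pow]; exact ⟨_, h4, rfl⟩
    have h6 : (π x) ^ p ∈ A.map π := by
      rw [← hxo, pow_orderOf_eq_one]; exact Subgroup.one_mem _
    exact Cfsg.Agent.Lib.H6.mem_of_pow_mem_of_coprime hOco h5 h6
  have hcore := le_centralizer_of_omega_le hp hRp (hNR ▸ le_top) (hNR ▸ le_top) hAQb hQbco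
    (hAp.map π) hΩb
  -- `Q̄ ≤ C(R̄) ≤ R̄`
  have h1 : Q.map π ≤ Rb := by
    intro q hq
    apply hcen
    rw [Subgroup.mem_centralizer_iff]
    intro r hr
    exact ((Subgroup.mem_centralizer_iff.1 (hcore hr)) q hq).symm
  have h2 : Q.map π = ⊥ := by
    rw [eq_bot_iff]
    intro q hq
    obtain ⟨k, hk⟩ := IsPGroup.iff_card.1 hRp
    have hd : Disjoint (Q.map π) Rb := by
      apply Subgroup.disjoint_of_coprime_natCard
      rw [hk]; exact Nat.Coprime.pow_right k hQbco
    exact hd.le_bot ⟨hq, h1 hq⟩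
  intro q hq
  have h3 : π q ∈ Q.map π := ⟨q, hq, rfl⟩
  rw [h2, Subgroup.mem_bot, hπ, QuotientGroup.mk'_apply, QuotientGroup.eq_one_iff] at h3
  exact h3

end Cfsg.Agent.S1302
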