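import Mathlib
import Cfsg.Statements.S1303
import Cfsg.Agent.Lib.H7.PConstrained3
import Cfsg.Agent.Lib.H16.SolvableCore
import Cfsg.Agent.Lib.H23.BurnsidePQ
import Cfsg.Agent.Lib.H22.PPrimeCore

set_option autoImplicit false
open Cfsg

namespace Cfsg.Agent.S1303

abbrev X := Matrix.SpecialLinearGroup (Fin 2) (ZMod 3)

set_option maxRecDepth 100000 in
theorem card_X : Fintype.card X = 24 := by decide

set_option maxRecDepth 100000 in
theorem inv_central : ∀ t : X, t ^ 2 = 1 → ∀ h : X, h * t = t * h := by decide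

set_option maxRecDepth 100000 in
theorem three_gen : ∀ g : X, g ^ 3 = 1 → g ≠ 1 → ∃ h : X, (g * (h * g * h⁻¹)) ^ 3 ≠ 1 := by decide

def u : X := ⟨!![1, 1; 0, 1], by decide⟩

set_option maxRecDepth 100000 in
theorem u_order : orderOf u = 3 := by
  have h1 : u ^ 3 = 1 := by decide
  have h2 : u ≠ 1 := by decide
  exact orderOf_eq_prime h1 h2

theorem natcard_X : Nat.card X = 24 := by
  rw [Nat.card_eq_fintype_card]; exact card_X

theorem solvable_X : Group.IsSolvable X :=
  Cfsg.Agent.Lib.H23.isSolvable_of_card_eq_prime_pow_mul_prime_pow 2 3 3 1 Nat.prime_two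
    Nat.prime_three (by rw [natcard_X]; norm_num)

theorem pPrimeCore_X : Cfsg.pPrimeCore 2 X = ⊥ := by
  unfold Cfsg.pPrimeCore
  rw [sSup_eq_bot]
  rintro N ⟨hN, hcop⟩
  -- |N| is odd and divides 24, so divides 3
  have hdvd : Nat.card N ∣ 24 := by
    rw [← natcard_X]; exact Subgroup.card_subgroup_dvd_card N
  have h3 : Nat.card N ∣ 3 := by
    have : (Nat.card N).Coprime 8 := by
      have : (Nat.card N).Coprime (2 ^ 3) := Nat.Coprime.pow_right 3 hcop
      simpa using this
    exact this.dvd_of_dvd_mul_left (by simpa using hdvd)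
  rw [Subgroup.eq_bot_iff_forall]
  intro g hg
  by_contra hne
  have hg3 : g ^ 3 = 1 := by
    have h1 : g ^ Nat.card N = 1 := by
      have := pow_card_eq_one' (G := N) (x := ⟨g, hg⟩)
      exact congrArg Subtype.val this
    obtain ⟨k, hk⟩ := h3
    have h2 : g ^ (Nat.card N * k) = 1 := by rw [pow_mul, h1, one_pow]
    rw [← hk] at h2
    exact h2
  obtain ⟨h, hh⟩ := three_gen g hg3 hne
  apply hh
  have hmem : g * (h * g * h⁻¹) ∈ N := mul_mem hg (hN.conj_mem g hg h)
  have h1 : (g * (h * g * h⁻¹)) ^ Nat.card N = 1 := by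
    have := pow_card_eq_one' (G := N) (x := ⟨_, hmem⟩)
    exact congrArg Subtype.val this
  obtain ⟨k, hk⟩ := h3
  have h2 : (g * (h * g * h⁻¹)) ^ (Nat.card N * k) = 1 := by rw [pow_mul, h1, one_pow]
  rw [← hk] at h2
  exact h2

theorem constrained_X : Cfsg.IsPConstrained 2 X := by
  haveI : Fact (Nat.Prime 2) := ⟨Nat.prime_two⟩
  rw [Cfsg.Agent.Lib.H7.isPConstrained_iff_pLayer_eq_bot,
    Cfsg.Agent.Lib.H7.pLayer_eq_bot_iff_layer_quotient_eq_bot]
  haveI := solvable_X
  have : (Cfsg.pPrimeCore 2 X).Normal := Cfsg.Agent.Lib.H22.pPrimeCore_normal 2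
  exact Cfsg.Agent.Lib.H16.layer_eq_bot_of_isSolvable inferInstance

/-- The group X = SL(2, 3): it is 2-constrained, O_{2'}(X) = 1, its centre A = Z(X) contains every involution of X = C_X(A), and X has a subgroup of order 3 (normalized by A) not contained in O_{2'}(X). -/
theorem result : Cfsg.IsPConstrained 2 (Matrix.SpecialLinearGroup (Fin 2) (ZMod 3)) ∧ Cfsg.pPrimeCore 2 (Matrix.SpecialLinearGroup (Fin 2) (ZMod 3)) = ⊥ ∧ (∀ t : Matrix.SpecialLinearGroup (Fin 2) (ZMod 3), orderOf t = 2 → t ∈ Subgroup.center (Matrix.SpecialLinearGroup (Fin 2) (ZMod 3))) ∧ ∃ Q : Subgroup (Matrix.SpecialLinearGroup (Fin 2) (ZMod 3)), Nat.card ↥Q = 3 ∧ ¬ (Q ≤ Cfsg.pPrimeCore 2 (Matrix.SpecialLinearGroup (Fin 2) (ZMod 3))) := by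
  refine ⟨constrained_X, pPrimeCore_X, ?_, ?_⟩
  · intro t ht
    rw [Subgroup.mem_center_iff]
    intro h
    have ht2 : t ^ 2 = 1 := by
      have := pow_orderOf_eq_one t
      rw [ht] at this
      exact this
    exact inv_central t ht2 h
  · refine ⟨Subgroup.zpowers u, ?_, ?_⟩
    · rw [Nat.card_zpowers, u_order]
    · rw [pPrimeCore_X]
      intro hle
      have : u = 1 := by
        have := hle (Subgroup.mem_zpowers u)
        exact Subgroup.mem_bot.mp this
      have h3 : orderOf u = 1 := by rw [this]; exact orderOf_one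
      rw [u_order] at h3
      omega

end Cfsg.Agent.S1303
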