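import Cfsg.Statements.S1306
import Cfsg.Agent.Lib.H7.CentComp
import Cfsg.Agent.Lib.H7.PLocal
import Cfsg.Agent.Lib.H7.CoprimeQuot

set_option autoImplicit false
open Cfsg
open Cfsg Cfsg.Agent.Lib.H7
open scoped commutatorElement
set_option autoImplicit false

namespace Cfsg.Agent.S1306

theorem centralizer_map_conj {G : Type*} [Group G] (L : Subgroup G) (g : G) :
    (Subgroup.centralizer (L : Set G)).map (MulAut.conj g).toMonoidHom =
      Subgroup.centralizer ((L.map (MulAut.conj g).toMonoidHom : Subgroup G) : Set G) := by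
  ext z
  rw [mem_map_conj_iff', Subgroup.mem_centralizer_iff, Subgroup.mem_centralizer_iff]
  constructor
  · intro h w hw
    rw [SetLike.mem_coe, mem_map_conj_iff'] at hw
    have := h _ hw
    calc w * z = g * ((g⁻¹ * w * g) * (g⁻¹ * z * g)) * g⁻¹ := by group
      _ = g * ((g⁻¹ * z * g) * (g⁻¹ * w * g)) * g⁻¹ := by rw [this]
      _ = z * w := by group
  · intro h w hw
    have h1 : g * w * g⁻¹ ∈ ((L.map (MulAut.conj g).toMonoidHom : Subgroup G) : Set G) := by
      rw [SetLike.mem_coe, mem_map_conj_iff']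
      have e1 : g⁻¹ * (g * w * g⁻¹) * g = w := by group
      rw [e1]
      exact hw
    have := h _ h1
    calc w * (g⁻¹ * z * g) = g⁻¹ * ((g * w * g⁻¹) * z) * g := by group
      _ = g⁻¹ * (z * (g * w * g⁻¹)) * g := by rw [this]
      _ = g⁻¹ * z * g * w := by group

theorem mem_normalizer_iff_map_conj' {G : Type*} [Group G] (K : Subgroup G) (g : G) :
    g ∈ Subgroup.normalizer (K : Set G) ↔ K.map (MulAut.conj g).toMonoidHom = K :=
  Subgroup.mem_normalizer_iff_map_conj_eq

theorem key {G : Type*} [Group G] [Finite G] (L : Subgroup G)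
    (hne : ∀ y : G, orderOf y = 2 → y ∈ Subgroup.centralizer (L : Set G) →
      L ≤ Subgroup.centralizer ({y} : Set G) ∧
        Cfsg.IsComponent (L.subgroupOf (Subgroup.centralizer ({y} : Set G))))
    (hnc : ∀ g : G, L.map (MulAut.conj g).toMonoidHom ≠ L →
      ⁅L, L.map (MulAut.conj g).toMonoidHom⁆ ≠ ⊥)
    (g y : G) (hy : orderOf y = 2) (hyL : y ∈ Subgroup.centralizer (L : Set G))
    (hyg : y ∈ Subgroup.centralizer ((L.map (MulAut.conj g).toMonoidHom : Subgroup G) : Set G)) :
    L.map (MulAut.conj g).toMonoidHom = L := by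
  by_contra hcon
  apply hnc g hcon
  -- `y' = g⁻¹ y g`
  have hy' : g⁻¹ * y * g ∈ Subgroup.centralizer (L : Set G) := by
    rw [← centralizer_map_conj, mem_map_conj_iff'] at hyg
    exact hyg
  have hoy' : orderOf (g⁻¹ * y * g) = 2 := by
    have h0 := (MulAut.conj g⁻¹).orderOf_eq y
    rw [MulAut.conj_apply, inv_inv] at h0
    rw [h0]
    exact hy
  obtain ⟨h1, h2⟩ := hne _ hoy' hy'
  obtain ⟨h3, h4⟩ := hne _ hy hyL
  have h5 := le_centralizer_conj g _ h1
  have h6 := isComponent_centralizer_conj g _ h2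
  have e : g * (g⁻¹ * y * g) * g⁻¹ = y := by group
  rw [e] at h5 h6
  rcases eq_or_commutator_eq_bot_of_isComponent_subgroupOf h3 h5 h4 h6 with h | h
  · exact absurd h.symm hcon
  · exact h


/-- Let G be finite, x an involution and L ≤ C_G(x) a component of C_G(x). Suppose L is a component of C_G(y) for every involution y ∈ C_G(L), and ⁅L, g L g⁻¹⁆ ≠ 1 whenever g L g⁻¹ ≠ L. Then L is a standard subgroup of G. -/
theorem result {G : Type*} [Group G] [Finite G] (x : G) (hx : orderOf x = 2) (L : Subgroup G) (hLx : L ≤ Subgroup.centralizer ({x} : Set G)) (hL : Cfsg.IsComponent (L.subgroupOf (Subgroup.centralizer ({x} : Set G)))) (hne : ∀ y : G, orderOf y = 2 → y ∈ Subgroup.centralizer (L : Set G) → L ≤ Subgroup.centralizer ({y} : Set G) ∧ Cfsg.IsComponent (L.subgroupOf (Subgroup.centralizer ({y} : Set G)))) (hnc : ∀ g : G, L.map (MulAut.conj g).toMonoidHom ≠ L → ⁅L, L.map (MulAut.conj g).toMonoidHom⁆ ≠ ⊥) : Cfsg.IsStandardSubgroup L := by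
  have hxK : x ∈ Subgroup.centralizer (L : Set G) := by
    rw [Subgroup.mem_centralizer_iff]
    intro w hw
    have := hLx hw
    rw [Subgroup.mem_centralizer_singleton_iff] at this
    exact this
  refine ⟨?_, ⟨?_, ?_⟩, hnc, ?_⟩
  · exact quasisimple_of_mulEquiv (Subgroup.subgroupOfEquivOfLe hLx) hL.2
  · -- even order
    have h1 : orderOf (⟨x, hxK⟩ : Subgroup.centralizer (L : Set G)) = 2 := by
      rw [← hx]
      exact Subgroup.orderOf_mk x hxK
    have := orderOf_dvd_natCard (⟨x, hxK⟩ : Subgroup.centralizer (L : Set G))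
    rw [h1] at this
    exact even_iff_two_dvd.2 this
  · intro g hg
    by_contra hodd
    rw [Nat.not_odd_iff_even, even_iff_two_dvd] at hodd
    have : Fact (Nat.Prime 2) := ⟨Nat.prime_two⟩
    obtain ⟨⟨y, hyK⟩, hy⟩ := exists_prime_orderOf_dvd_card' 2 hodd
    have hy2 : orderOf y = 2 := by
      rw [← hy]
      exact (Subgroup.orderOf_mk y hyK).symm
    obtain ⟨hy1, hy3⟩ := Subgroup.mem_inf.1 hyK
    rw [centralizer_map_conj] at hy3
    have := key L hne hnc g y hy2 hy1 hy3
    apply hg
    rw [mem_normalizer_iff_map_conj', centralizer_map_conj, this]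
  · apply le_antisymm (normalizer_le_normalizer_centralizer L)
    intro g hg
    rw [mem_normalizer_iff_map_conj', centralizer_map_conj] at hg
    rw [mem_normalizer_iff_map_conj']
    apply key L hne hnc g x hx hxK
    rw [hg]
    exact hxK

end Cfsg.Agent.S1306
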