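import Cfsg.Statements.S1307
import Cfsg.Agent.Lib.H7.Quasisimple
import Cfsg.Agent.Lib.H1.ZRankOne
import Cfsg.Agent.Lib.L0.CyclicSylowTwo
import Cfsg.Agent.S0016

set_option autoImplicit false
open Cfsg
set_option autoImplicit false

namespace Cfsg.Agent.S1307

/-- in a group of 2-rank at most one commuting involutions coincide -/
theorem inv_unique {K : Type*} [Group K] [Finite K] (hrk : PRankLE 2 1 K) (u v : K)
    (hu : u * u = 1) (hu1 : u ≠ 1) (hv : v * v = 1) (hv1 : v ≠ 1) (huv : u * v = v * u) : u = v := by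
  by_contra hne
  have hcomm : ∀ x ∈ ({u, v} : Set K), ∀ y ∈ ({u, v} : Set K), x * y = y * x := by
    intro x hx y hy
    rcases hx with rfl | rfl <;> rcases hy with rfl | rfl
    · rfl
    · exact huv
    · exact huv.symm
    · rfl
  have hA : IsMulCommutative ↥(Subgroup.closure ({u, v} : Set K)) :=
    Subgroup.isMulCommutative_closure hcomm
  have hexp : ∀ a ∈ Subgroup.closure ({u, v} : Set K), a ^ 2 = 1 := by
    intro a ha
    induction ha using Subgroup.closure_induction with
    | mem y hy =>
      rcases hy with rfl | rfl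
      · rw [pow_two]; exact hu
      · rw [pow_two]; exact hv
    | one => exact one_pow 2
    | mul a b ha hb iha ihb =>
      have hc : Commute a b := by
        have := hA.is_comm.comm (⟨a, ha⟩ : ↥(Subgroup.closure ({u, v} : Set K))) ⟨b, hb⟩
        exact congrArg Subtype.val this
      rw [hc.mul_pow, iha, ihb, one_mul]
    | inv a _ iha => rw [inv_pow, iha, inv_one]
  have hle := hrk _ hA hexp
  have huA : u ∈ Subgroup.closure ({u, v} : Set K) := Subgroup.subset_closure (by simp)
  have hvA : v ∈ Subgroup.closure ({u, v} : Set K) := Subgroup.subset_closure (by simp)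
  have h3 : 3 ≤ Nat.card ↥(Subgroup.closure ({u, v} : Set K)) := by
    classical
    have hinj : Function.Injective (fun i : Fin 3 =>
        (![(1 : ↥(Subgroup.closure ({u, v} : Set K))), ⟨u, huA⟩, ⟨v, hvA⟩] i)) := by
      intro i j hij
      fin_cases i <;> fin_cases j <;> simp [Subtype.ext_iff] at hij ⊢
      all_goals first | exact absurd hij.symm hu1 | exact absurd hij hu1 | exact absurd hij.symm hv1 | exact absurd hij hv1 | exact absurd hij hne | exact absurd hij.symm hne
    have := Nat.card_le_card_of_injective _ hinj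
    simpa using this
  omega


/-- an element that is central modulo the centre of a perfect group is central -/
theorem mem_center_of_comm_mem_center {K : Type*} [Group K] (hp : Group.IsPerfect K) (z : K)
    (h : ∀ g : K, z * g * z⁻¹ * g⁻¹ ∈ Subgroup.center K) : z ∈ Subgroup.center K := by
  -- the map g ↦ [z,g] is a homomorphism into the centre
  let f : K →* Subgroup.center K :=
    { toFun := fun g => ⟨z * g * z⁻¹ * g⁻¹, h g⟩
      map_one' := by ext; simp
      map_mul' := by
        intro a b
        ext
        simp only [Subgroup.coe_mul]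
        have hb := Subgroup.mem_center_iff.1 (h b) a
        calc z * (a * b) * z⁻¹ * (a * b)⁻¹
            = z * a * z⁻¹ * (z * b * z⁻¹ * b⁻¹) * a⁻¹ := by group
          _ = z * a * z⁻¹ * (a⁻¹ * (a * (z * b * z⁻¹ * b⁻¹))) * a⁻¹ := by group
          _ = z * a * z⁻¹ * (a⁻¹ * ((z * b * z⁻¹ * b⁻¹) * a)) * a⁻¹ := by rw [hb]
          _ = z * a * z⁻¹ * a⁻¹ * (z * b * z⁻¹ * b⁻¹) := by group }
  have hker : f.ker = ⊤ := by
    have h1 : _root_.commutator K ≤ f.ker := by
      rw [_root_.commutator, Subgroup.commutator_le]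
      intro a _ b _
      rw [MonoidHom.mem_ker, commutatorElement_def, map_mul, map_mul, map_inv, map_inv]
      have hfc : f a * f b = f b * f a := (Subgroup.center.isMulCommutative (G := K)).is_comm.comm _ _
      rw [map_mul, hfc]
      group
    rw [hp.commutator_eq_top] at h1
    exact top_le_iff.1 h1
  rw [Subgroup.mem_center_iff]
  intro g
  have hg : f g = 1 := by
    have : g ∈ f.ker := by rw [hker]; trivial
    exact this
  have hg' : z * g * z⁻¹ * g⁻¹ = 1 := congrArg Subtype.val hg
  calc g * z = (z * g * z⁻¹ * g⁻¹)⁻¹ * (z * g) := by group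
    _ = z * g := by rw [hg']; group

/-- a quasisimple group of even order and 2-rank one has a central involution and
generalized quaternion Sylow 2-subgroups -/
theorem central_involution {K : Type*} [Group K] [Finite K] (hq : IsQuasisimple K)
    (heven : Even (Nat.card K)) (hrk : PRankLE 2 1 K) :
    ∃ t : K, orderOf t = 2 ∧ t ∈ Subgroup.center K ∧ ∃ S : Sylow 2 K, ∃ n : ℕ,
      Nonempty ((S : Subgroup K) ≃* QuaternionGroup (2 ^ (n + 1))) := by
  have hp2 : Fact (Nat.Prime 2) := ⟨Nat.prime_two⟩
  have hperf : Group.IsPerfect K := hq.1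
  have h2 : 2 ∣ Nat.card K := even_iff_two_dvd.1 heven
  obtain ⟨t, ht⟩ := exists_prime_orderOf_dvd_card' 2 h2
  have hU := inv_unique hrk
  -- the odd core is central
  have hOc : Cfsg.oddCore K ≤ Subgroup.center K := by
    have hn : (Cfsg.oddCore K).Normal := by unfold Cfsg.oddCore; infer_instance
    rcases Cfsg.Agent.Lib.H7.quasisimple_normal hq (Cfsg.oddCore K) with h1 | h1
    · exfalso
      have hc := Cfsg.Agent.Lib.H22.card_pPrimeCore_coprime (G := K) 2
      rw [show Cfsg.pPrimeCore 2 K = Cfsg.oddCore K from rfl, h1, Subgroup.card_top] at hc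
      have : (2 : ℕ) ∣ Nat.gcd (Nat.card K) 2 := Nat.dvd_gcd h2 dvd_rfl
      rw [hc] at this
      omega
    · exact h1
  have htc : t ∈ Subgroup.center K :=
    mem_center_of_comm_mem_center hperf t
      (fun g => hOc (Cfsg.Agent.Lib.H1.ZRankOne.comm_mem_oddCore hU t ht g))
  refine ⟨t, ht, htc, ?_⟩
  -- Sylow 2-subgroups
  let S : Sylow 2 K := default
  have huniq := Cfsg.Agent.Lib.H1.ZRankOne.unique_order_two hU S
  have hnotcyc : ¬ IsCyclic (S : Subgroup K) := by
    intro hcyc
    obtain ⟨N, hNn, hNc, -⟩ := Cfsg.Agent.Lib.L0.exists_odd_normal_complement_of_cyclic_sylow S hcyc h2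
    have hNtop : N = ⊤ := by
      have hsup : N ⊔ (S : Subgroup K) = ⊤ := hNc.sup_eq_top
      have hSc : IsMulCommutative ↥(S : Subgroup K) := IsCyclic.isMulCommutative
      have h3 : _root_.commutator K ≤ N :=
        Subgroup.Normal.commutator_le_of_self_sup_commutative_eq_top hsup hSc
      rw [hperf.commutator_eq_top] at h3
      exact top_le_iff.1 h3
    have hcard := hNc.card_mul_card
    rw [hNtop, Subgroup.card_top] at hcard
    have hK0 : 0 < Nat.card K := Nat.card_pos
    have hS1 : Nat.card (S : Subgroup K) = 1 := by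
      have : Nat.card K * Nat.card (S : Subgroup K) = Nat.card K * 1 := by rw [hcard, mul_one]
      exact Nat.eq_of_mul_eq_mul_left hK0 this
    have hidx := (S : Subgroup K).index_mul_card
    rw [hS1, mul_one] at hidx
    exact S.not_dvd_index (hidx ▸ h2)
  rcases Cfsg.Agent.S0016.result 2 S.isPGroup' huniq with hcyc | ⟨-, n, ⟨e⟩⟩
  · exact absurd hcyc hnotcyc
  · rcases n with _ | m
    · exfalso
      apply hnotcyc
      have : IsCyclic (QuaternionGroup (2 ^ 0)) := QuaternionGroup.quaternionGroup_one_isCyclic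
      exact isCyclic_of_surjective e.symm e.symm.surjective
    · exact ⟨S, m, ⟨e⟩⟩



/-- Let G be finite, x an involution and L ≤ C_G(x) a component of C_G(x) of even order and 2-rank 1, such that L is a component of C_G(y) for every involution y ∈ C_G(L). Then some involution of L is a classical involution of G. -/
theorem result {G : Type*} [Group G] [Finite G] (x : G) (hx : orderOf x = 2) (L : Subgroup G) (hLx : L ≤ Subgroup.centralizer ({x} : Set G)) (hL : Cfsg.IsComponent (L.subgroupOf (Subgroup.centralizer ({x} : Set G)))) (heven : Even (Nat.card ↥L)) (hrk : Cfsg.PRankLE 2 1 ↥L) (hne : ∀ y : G, orderOf y = 2 → y ∈ Subgroup.centralizer (L : Set G) → L ≤ Subgroup.centralizer ({y} : Set G) ∧ Cfsg.IsComponent (L.subgroupOf (Subgroup.centralizer ({y} : Set G)))) : ∃ t ∈ L, Cfsg.IsClassicalInvolution t := by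
  have e : ↥(L.subgroupOf (Subgroup.centralizer ({x} : Set G))) ≃* ↥L :=
    Subgroup.subgroupOfEquivOfLe hLx
  have hqL : IsQuasisimple ↥L := Cfsg.Agent.Lib.H7.quasisimple_of_mulEquiv e hL.2
  obtain ⟨t, ht2, htc, S, n, ⟨eS⟩⟩ := central_involution hqL heven hrk
  have ht2' : orderOf (t : G) = 2 := by rw [Subgroup.orderOf_coe]; exact ht2
  have htL : (t : G) ∈ Subgroup.centralizer (L : Set G) := by
    rw [Subgroup.mem_centralizer_iff]
    intro h hh
    have := Subgroup.mem_center_iff.1 htc ⟨h, hh⟩
    exact congrArg Subtype.val this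
  obtain ⟨h1, h2⟩ := hne (t : G) ht2' htL
  exact ⟨(t : G), t.2, ht2', L, h1, t.2, h2.1, S, n, ⟨eS⟩⟩

end Cfsg.Agent.S1307
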