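import Cfsg.Statements.S1312
import Cfsg.Agent.Lib.H7.BenderMax2
import Cfsg.Agent.Lib.H7.PLocal
import Cfsg.Agent.Lib.H7.Fitting
import Cfsg.Agent.Lib.H7.Components
import Cfsg.Agent.Lib.H7.Quasisimple

set_option autoImplicit false
open Cfsg
open Cfsg.Agent.Lib.H7
set_option autoImplicit false

namespace Cfsg.Agent.S1312

section
variable {G : Type*} [Group G] [Finite G]

theorem pCoreG_le_FsG (q : ℕ) [Fact q.Prime] (A : Subgroup G) :
    (pCore q ↥A).map A.subtype ≤ (generalizedFittingSubgroup ↥A).map A.subtype :=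
  Subgroup.map_mono ((pCore_le_fittingSubgroup q).trans fittingSubgroup_le_generalizedFittingSubgroup)

/-- If `q ∤ |F(A)|` then `O_q(B) = 1`. -/
theorem pCore_eq_bot_of_cross (A B : Subgroup G)
    (hAB : (generalizedFittingSubgroup ↥A).map A.subtype ≤ B)
    (hBA : (generalizedFittingSubgroup ↥B).map B.subtype ≤ A) (q : ℕ) [Fact q.Prime]
    (hq : ¬ q ∣ Nat.card (fittingSubgroup ↥A)) : pCore q ↥B = ⊥ := by
  have hsn : (((generalizedFittingSubgroup ↥A).map A.subtype).subgroupOf
      ((generalizedFittingSubgroup ↥A).map A.subtype)).IsSubnormal := by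
    rw [Subgroup.subgroupOf_self]; exact Subgroup.IsSubnormal.top
  have h := bender_invariant_inf_eq_bot A _ le_rfl hsn inf_le_left q
    ((pCore q ↥B).map B.subtype) (isPGroup_map_pCore q B)
    (hAB.trans (le_normalizer_map_pCore q B)) hq
  have h2 : (pCore q ↥B).map B.subtype ≤ A := (pCoreG_le_FsG q B).trans hBA
  rw [inf_eq_left.2 h2] at h
  rwa [Subgroup.map_eq_bot_iff_of_injective _ B.subtype_injective] at h

/-- `E(A)` centralizes `O_q(B)`, and `O_r(A)` centralizes `O_q(B)` for `r ≠ q`. -/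
theorem cross [IsSimpleGroup G] (A B : Subgroup G) (hA : IsCoatom A)
    (hAB : (generalizedFittingSubgroup ↥A).map A.subtype ≤ B)
    (hBA : (generalizedFittingSubgroup ↥B).map B.subtype ≤ A) (q : ℕ) [Fact q.Prime] :
    layer ↥A ≤ (Subgroup.centralizer (((pCore q ↥B).map B.subtype : Subgroup G) : Set G)).subgroupOf A ∧
      ∀ r : ℕ, r.Prime → r ≠ q → pCore r ↥A ≤
        (Subgroup.centralizer (((pCore q ↥B).map B.subtype : Subgroup G) : Set G)).subgroupOf A := by
  by_cases hq : q ∣ Nat.card (fittingSubgroup ↥A)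
  · have hsn : (((generalizedFittingSubgroup ↥A).map A.subtype).subgroupOf
        ((generalizedFittingSubgroup ↥A).map A.subtype)).IsSubnormal := by
      rw [Subgroup.subgroupOf_self]; exact Subgroup.IsSubnormal.top
    exact bender_invariant_centralizes A hA _ le_rfl hsn inf_le_left q
      ((pCore q ↥B).map B.subtype) (isPGroup_map_pCore q B)
      (hAB.trans (le_normalizer_map_pCore q B)) hq
  · have hbot := pCore_eq_bot_of_cross A B hAB hBA q hq
    rw [hbot, Subgroup.map_bot]
    have hall : ∀ X : Subgroup ↥A, X ≤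
        (Subgroup.centralizer (((⊥ : Subgroup G) : Subgroup G) : Set G)).subgroupOf A := by
      intro X x _
      rw [Subgroup.mem_subgroupOf, Subgroup.mem_centralizer_iff]
      intro h hh
      have : h = 1 := Subgroup.mem_bot.1 hh
      rw [this, one_mul, mul_one]
    exact ⟨hall _, fun r _ _ => hall _⟩

/-- A component of `↥A` whose image lies in `X ≤ A` gives a component of `↥X`. -/
theorem isComponent_subgroupOf_of_map_le {A X : Subgroup G} (hXA : X ≤ A) {L : Subgroup ↥A}
    (hL : IsComponent L) (hLX : L.map A.subtype ≤ X) :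
    IsComponent ((L.map A.subtype).subgroupOf X) := by
  have hcomap : L.comap (Subgroup.inclusion hXA) = (L.map A.subtype).subgroupOf X := by
    ext x
    rw [Subgroup.mem_comap, Subgroup.mem_subgroupOf]
    constructor
    · intro h; exact ⟨_, h, rfl⟩
    · rintro ⟨y, hy, hyx⟩
      have : y = Subgroup.inclusion hXA x := Subtype.ext hyx
      rw [← this]; exact hy
  refine ⟨?_, ?_⟩
  · rw [← hcomap]; exact hL.1.comap _
  · exact quasisimple_of_mulEquiv ((L.equivMapOfInjective A.subtype A.subtype_injective).trans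
      (Subgroup.subgroupOfEquivOfLe hLX).symm) hL.2

theorem comp_transfer [IsSimpleGroup G] (A B : Subgroup G) (hA : IsCoatom A)
    (hAB : (generalizedFittingSubgroup ↥A).map A.subtype ≤ B)
    (hBA : (generalizedFittingSubgroup ↥B).map B.subtype ≤ A)
    (L : Subgroup ↥A) (hL : IsComponent L) :
    ∃ K : Subgroup ↥B, IsComponent K ∧ L.map A.subtype = K.map B.subtype := by
  by_contra hne0
  have hne : ∀ K : Subgroup ↥B, IsComponent K → L.map A.subtype ≠ K.map B.subtype :=
    fun K hK h => hne0 ⟨K, hK, h⟩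
  set LG : Subgroup G := L.map A.subtype with hLG
  have hLGA : LG ≤ A := Subgroup.map_subtype_le _
  have hLGB : LG ≤ B :=
    (Subgroup.map_mono ((component_le_layer hL).trans layer_le_generalizedFittingSubgroup)).trans hAB
  have hLGD : LG ≤ A ⊓ B := le_inf hLGA hLGB
  have hLD : IsComponent (LG.subgroupOf (A ⊓ B)) :=
    isComponent_subgroupOf_of_map_le inf_le_left hL hLGD
  -- `LG` commutes with every component of `B`
  have hcomm : ∀ K : Subgroup ↥B, IsComponent K → ∀ x ∈ LG, ∀ y ∈ K.map B.subtype, x * y = y * x := by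
    intro K hK x hx y hy
    set KG : Subgroup G := K.map B.subtype with hKG
    have hKGB : KG ≤ B := Subgroup.map_subtype_le _
    have hKGA : KG ≤ A :=
      (Subgroup.map_mono ((component_le_layer hK).trans layer_le_generalizedFittingSubgroup)).trans hBA
    have hKGD : KG ≤ A ⊓ B := le_inf hKGA hKGB
    have hKD : IsComponent (KG.subgroupOf (A ⊓ B)) :=
      isComponent_subgroupOf_of_map_le inf_le_right hK hKGD
    have hneq : LG.subgroupOf (A ⊓ B) ≠ KG.subgroupOf (A ⊓ B) := by
      intro heq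
      apply hne K hK
      have h1 := Subgroup.map_subgroupOf_eq_of_le hLGD
      have h2 := Subgroup.map_subgroupOf_eq_of_le hKGD
      rw [← h1, heq, h2]
    have hbot := components_commute hLD hKD hneq
    have hc := Subgroup.commutator_eq_bot_iff_le_centralizer.1 hbot
    have hx' : (⟨x, hLGD hx⟩ : ↥(A ⊓ B)) ∈ LG.subgroupOf (A ⊓ B) := Subgroup.mem_subgroupOf.2 hx
    have hy' : (⟨y, hKGD hy⟩ : ↥(A ⊓ B)) ∈ KG.subgroupOf (A ⊓ B) := Subgroup.mem_subgroupOf.2 hy
    have := Subgroup.mem_centralizer_iff.1 (hc hx') _ hy'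
    exact (congrArg Subtype.val this).symm
  -- so `F*(B)` centralizes `LG`
  set CB : Subgroup ↥B := (Subgroup.centralizer (LG : Set G)).subgroupOf B with hCB
  have hlayB : layer ↥B ≤ CB := by
    apply sSup_le
    intro K hK k hk
    rw [hCB, Subgroup.mem_subgroupOf, Subgroup.mem_centralizer_iff]
    intro x hx
    exact hcomm K hK x hx _ (Subgroup.mem_map_of_mem _ hk)
  have hfitB : fittingSubgroup ↥B ≤ CB := by
    rw [Cfsg.Agent.Lib.H1.fittingSubgroup_eq_iSup_pCore]
    apply iSup_le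
    intro q
    have : Fact (q : ℕ).Prime := ⟨q.2⟩
    intro z hz
    rw [hCB, Subgroup.mem_subgroupOf, Subgroup.mem_centralizer_iff]
    rintro _ ⟨l, hl, rfl⟩
    have h1 := (cross A B hA hAB hBA (q : ℕ)).1 (component_le_layer hL hl)
    rw [Subgroup.mem_subgroupOf, Subgroup.mem_centralizer_iff] at h1
    exact (h1 _ (Subgroup.mem_map_of_mem _ hz)).symm
  have hFsB : generalizedFittingSubgroup ↥B ≤ CB := sup_le hlayB hfitB
  -- hence `LG` is abelian
  have hLB : LG.subgroupOf B ≤ generalizedFittingSubgroup ↥B := by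
    refine le_trans ?_ centralizer_generalizedFittingSubgroup_le
    intro l hl
    rw [Subgroup.mem_centralizer_iff]
    intro f hf
    have h1 := hFsB hf
    rw [hCB, Subgroup.mem_subgroupOf, Subgroup.mem_centralizer_iff] at h1
    exact Subtype.ext (h1 _ (Subgroup.mem_subgroupOf.1 hl)).symm
  have hab : ∀ a b : ↥L, a * b = b * a := by
    intro a b
    have haG : ((a : ↥A) : G) ∈ LG := Subgroup.mem_map_of_mem _ a.2
    have hbG : ((b : ↥A) : G) ∈ LG := Subgroup.mem_map_of_mem _ b.2
    have ha' : (⟨_, hLGB haG⟩ : ↥B) ∈ LG.subgroupOf B := Subgroup.mem_subgroupOf.2 haG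
    have hb' : (⟨_, hLGB hbG⟩ : ↥B) ∈ LG.subgroupOf B := Subgroup.mem_subgroupOf.2 hbG
    have h1 := hFsB (hLB hb')
    rw [hCB, Subgroup.mem_subgroupOf, Subgroup.mem_centralizer_iff] at h1
    have h2 := h1 _ haG
    apply Subtype.ext
    apply Subtype.ext
    exact h2
  exact component_not_solvable hL (Group.isSolvable_of_comm hab)

theorem layer_map_le [IsSimpleGroup G] (A B : Subgroup G) (hA : IsCoatom A)
    (hAB : (generalizedFittingSubgroup ↥A).map A.subtype ≤ B)
    (hBA : (generalizedFittingSubgroup ↥B).map B.subtype ≤ A) :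
    (layer ↥A).map A.subtype ≤ (layer ↥B).map B.subtype := by
  rw [Subgroup.map_le_iff_le_comap]
  apply sSup_le
  intro L hL
  obtain ⟨K, hK, hLK⟩ := comp_transfer A B hA hAB hBA L hL
  rw [← Subgroup.map_le_iff_le_comap, hLK]
  exact Subgroup.map_mono (component_le_layer hK)

omit [Finite G] in
theorem conj_pow_decomp {a x c₁ c₂ : G} {P' : Subgroup G}
    (haP' : a ∈ Subgroup.normalizer (P' : Set G)) (hc₁ : c₁ ∈ P')
    (hac₂ : a * c₂ = c₂ * a) (hc₂P' : ∀ u ∈ P', u * c₂ = c₂ * u)
    (h : a * x * a⁻¹ = c₁ * c₂ * x) (k : ℕ) :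
    ∃ u ∈ P', a ^ k * x * (a ^ k)⁻¹ = u * c₂ ^ k * x := by
  induction k with
  | zero => exact ⟨1, one_mem _, by simp⟩
  | succ k ih =>
    obtain ⟨u, hu, hk⟩ := ih
    refine ⟨a * u * a⁻¹ * c₁, mul_mem ((Subgroup.mem_normalizer_iff.1 haP' u).1 hu) hc₁, ?_⟩
    have hc₂k : a * c₂ ^ k = c₂ ^ k * a := (Commute.pow_right (show Commute a c₂ from hac₂) k)
    have hc₁k : c₁ * c₂ ^ k = c₂ ^ k * c₁ :=
      (Commute.pow_right (show Commute c₁ c₂ from hc₂P' c₁ hc₁) k)
    calc a ^ (k + 1) * x * (a ^ (k + 1))⁻¹ = a * (a ^ k * x * (a ^ k)⁻¹) * a⁻¹ := by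
          rw [pow_succ']; group
      _ = a * (u * c₂ ^ k * x) * a⁻¹ := by rw [hk]
      _ = (a * u * a⁻¹) * (a * c₂ ^ k) * a⁻¹ * (a * x * a⁻¹) := by group
      _ = (a * u * a⁻¹) * (c₂ ^ k * a) * a⁻¹ * (c₁ * c₂ * x) := by rw [hc₂k, h]
      _ = (a * u * a⁻¹) * (c₂ ^ k * c₁) * c₂ * x := by group
      _ = (a * u * a⁻¹) * (c₁ * c₂ ^ k) * c₂ * x := by rw [hc₁k]
      _ = a * u * a⁻¹ * c₁ * c₂ ^ (k + 1) * x := by rw [pow_succ]; group

/-- The key computation: a `p'`-element of `C_G(O_p(B))` commutes with a `p`-element of `B`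
centralizing all `O_t(B)`, `t ≠ p`, when `F*(B) = F(B)`. -/
theorem star_commute {B : Subgroup G} (hlayB : layer ↥B = ⊥) (p : ℕ) [Fact p.Prime]
    {a x : G} (haB : a ∈ B) (hxB : x ∈ B)
    (hxP' : x ∈ Subgroup.centralizer (((pCore p ↥B).map B.subtype : Subgroup G) : Set G))
    (hxcop : (orderOf x).Coprime p) (hap : ∃ k : ℕ, a ^ (p ^ k) = 1)
    (hacore : ∀ t : ℕ, t.Prime → t ≠ p →
      a ∈ Subgroup.centralizer (((pCore t ↥B).map B.subtype : Subgroup G) : Set G)) :
    a * x = x * a := by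
  have hp : p.Prime := Fact.out
  set P' : Subgroup G := (pCore p ↥B).map B.subtype with hP'
  set c : G := a * x * a⁻¹ * x⁻¹ with hc
  have hcB : c ∈ B := mul_mem (mul_mem (mul_mem haB hxB) (inv_mem haB)) (inv_mem hxB)
  -- `c` centralizes `O_p(B)`
  have hcP' : c ∈ Subgroup.centralizer (P' : Set G) := by
    have ha1 : a ∈ Subgroup.normalizer ((Subgroup.centralizer (P' : Set G) : Subgroup G) : Set G) :=
      normalizer_le_normalizer_centralizer _ (le_normalizer_map_pCore p B haB)
    have h1 : a * x * a⁻¹ ∈ Subgroup.centralizer (P' : Set G) :=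
      (Subgroup.mem_normalizer_iff.1 ha1 x).1 hxP'
    exact mul_mem h1 (inv_mem hxP')
  -- `c` centralizes `O_t(B)` for `t ≠ p`
  have hct : ∀ t : ℕ, t.Prime → t ≠ p →
      c ∈ Subgroup.centralizer (((pCore t ↥B).map B.subtype : Subgroup G) : Set G) := by
    intro t ht htp
    have hx1 : x ∈ Subgroup.normalizer ((Subgroup.centralizer
        (((pCore t ↥B).map B.subtype : Subgroup G) : Set G) : Subgroup G) : Set G) :=
      normalizer_le_normalizer_centralizer _ (le_normalizer_map_pCore t B hxB)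
    have h1 : x * a⁻¹ * x⁻¹ ∈ Subgroup.centralizer
        (((pCore t ↥B).map B.subtype : Subgroup G) : Set G) :=
      (Subgroup.mem_normalizer_iff.1 hx1 a⁻¹).1 (inv_mem (hacore t ht htp))
    have h2 : c = a * (x * a⁻¹ * x⁻¹) := by rw [hc]; group
    rw [h2]
    exact mul_mem (hacore t ht htp) h1
  -- so `c` centralizes `F(B)` and lies in it
  have hFs : generalizedFittingSubgroup ↥B = fittingSubgroup ↥B := by
    unfold generalizedFittingSubgroup; rw [hlayB, bot_sup_eq]
  have hcF : ∀ f ∈ fittingSubgroup ↥B, (f : G) * c = c * (f : G) := by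
    have : fittingSubgroup ↥B ≤ (Subgroup.centralizer ({c} : Set G)).subgroupOf B := by
      rw [Cfsg.Agent.Lib.H1.fittingSubgroup_eq_iSup_pCore]
      apply iSup_le
      intro t z hz
      rw [Subgroup.mem_subgroupOf, Subgroup.mem_centralizer_singleton_iff]
      by_cases htp : (t : ℕ) = p
      · have hz' : (z : G) ∈ P' := by
          rw [hP', ← htp]; exact Subgroup.mem_map_of_mem _ hz
        exact (Subgroup.mem_centralizer_iff.1 hcP' _ hz')
      · exact (Subgroup.mem_centralizer_iff.1 (hct t t.2 htp) _ (Subgroup.mem_map_of_mem _ hz))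
    intro f hf
    have := this hf
    rw [Subgroup.mem_subgroupOf, Subgroup.mem_centralizer_singleton_iff] at this
    exact this
  set cB : ↥B := ⟨c, hcB⟩ with hcBdef
  have hcBF : cB ∈ fittingSubgroup ↥B := by
    rw [← hFs]
    apply centralizer_generalizedFittingSubgroup_le
    rw [Subgroup.mem_centralizer_iff]
    intro f hf
    rw [hFs] at hf
    exact Subtype.ext (hcF f hf)
  obtain ⟨c₁, c₂, hc₁, hc₂, hdec, hc₁p, hc₂p⟩ :=
    Cfsg.Agent.Lib.H8.exists_p_decomp cB (orderOf_pos cB).ne' p hp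
  have hzF : Subgroup.zpowers cB ≤ fittingSubgroup ↥B := by
    rw [Subgroup.zpowers_le]; exact hcBF
  have hc₁core : c₁ ∈ pCore p ↥B := mem_pCore_of_mem_fitting_of_pow p (hzF hc₁) hc₁p
  have hc₁P' : (c₁ : G) ∈ P' := Subgroup.mem_map_of_mem _ hc₁core
  -- `c₂` is central in `F(B)`
  have hc₂cent : ∀ f ∈ fittingSubgroup ↥B, (f : G) * (c₂ : G) = (c₂ : G) * (f : G) := by
    intro f hf
    obtain ⟨n, hn⟩ := Subgroup.mem_zpowers_iff.1 hc₂
    have h1 : Commute f cB := Subtype.ext (hcF f hf)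
    have h2 : Commute f (cB ^ n) := h1.zpow_right n
    rw [hn] at h2
    exact congrArg Subtype.val h2
  -- `a` commutes with `c₂`
  have hac₂ : a * (c₂ : G) = (c₂ : G) * a := by
    have hmem : c₂ ∈ (Subgroup.centralizer ({a} : Set G)).subgroupOf B := by
      apply mem_of_coprime_of_mem_generalizedFittingSubgroup p (H := ↥B)
      · rw [hlayB]; exact bot_le
      · intro r hr hrp z hz
        rw [Subgroup.mem_subgroupOf, Subgroup.mem_centralizer_singleton_iff]
        exact (Subgroup.mem_centralizer_iff.1 (hacore r hr hrp) _ (Subgroup.mem_map_of_mem _ hz))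
      · rw [hFs]; exact hzF hc₂
      · exact hc₂p
    rw [Subgroup.mem_subgroupOf, Subgroup.mem_centralizer_singleton_iff] at hmem
    exact hmem.symm
  -- `x` commutes with `c₁`
  have hxc₁ : x * (c₁ : G) = (c₁ : G) * x := (Subgroup.mem_centralizer_iff.1 hxP' _ hc₁P').symm
  -- decomposition in `G`
  have hdecG : c = (c₁ : G) * (c₂ : G) := by
    have := congrArg Subtype.val hdec
    simpa [hcBdef] using this
  have hconj : a * x * a⁻¹ = (c₁ : G) * (c₂ : G) * x := by
    rw [← hdecG, hc]; group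
  have hc₂P' : ∀ u ∈ P', u * (c₂ : G) = (c₂ : G) * u := by
    rintro _ ⟨z, hz, rfl⟩
    exact hc₂cent z (pCore_le_fittingSubgroup p hz)
  obtain ⟨k, hk⟩ := hap
  obtain ⟨u, hu, huk⟩ := conj_pow_decomp (le_normalizer_map_pCore p B haB) hc₁P' hac₂ hc₂P' hconj (p ^ k)
  rw [hk, one_mul, inv_one, mul_one] at huk
  -- hence `c₂ ^ (p ^ k) ∈ P'`
  have h3 : (c₂ : G) ^ (p ^ k) = u⁻¹ := by
    have h4 : u * (c₂ : G) ^ (p ^ k) = 1 := by
      have := congrArg (· * x⁻¹) huk
      simp only [mul_inv_cancel, mul_assoc, mul_one] at this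
      exact this.symm
    exact eq_inv_of_mul_eq_one_right h4
  have h5 : (c₂ : G) ^ (p ^ k) ∈ P' := by rw [h3]; exact inv_mem hu
  obtain ⟨i, hi⟩ := (isPGroup_map_pCore p B) ⟨_, h5⟩
  have h6 : (c₂ : G) ^ (p ^ (k + i)) = 1 := by
    have := congrArg Subtype.val hi
    rw [pow_add, pow_mul]
    simpa using this
  have hc₂one : (c₂ : G) = 1 := by
    have hd : orderOf (c₂ : G) ∣ p ^ (k + i) := orderOf_dvd_of_pow_eq_one h6
    have hcop : (orderOf (c₂ : G)).Coprime (p ^ (k + i)) := by
      rw [Subgroup.orderOf_coe]; exact Nat.Coprime.pow_right _ hc₂p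
    have : orderOf (c₂ : G) = 1 := Nat.eq_one_of_dvd_coprimes hcop (dvd_refl _) hd
    exact orderOf_eq_one_iff.1 this
  have hcc₁ : c = (c₁ : G) := by rw [hdecG, hc₂one, mul_one]
  obtain ⟨j, hj⟩ := hc₁p
  have hj' : (c⁻¹) ^ (p ^ j) = 1 := by
    rw [hcc₁, inv_pow]
    have := congrArg Subtype.val hj
    simp only [Subgroup.coe_pow, Subgroup.coe_one] at this
    rw [this, inv_one]
  have hxc : x * c⁻¹ = c⁻¹ * x := by
    have : Commute x c := by rw [hcc₁]; exact hxc₁
    exact this.inv_right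
  have hz : x * a * x⁻¹ = c⁻¹ * a := by rw [hc]; group
  have hone : c⁻¹ = 1 :=
    eq_one_of_conj_eq_mul (pow_orderOf_eq_one x) hj' (Nat.Coprime.pow_right j hxcop) hz hxc
  have hc1 : c = 1 := inv_eq_one.1 hone
  have : a * x = (a * x * a⁻¹ * x⁻¹) * (x * a) := by group
  rw [this, ← hc, hc1, one_mul]

/-- `O_s(A) ≤ O_s(B)` when some other prime `p` divides both `|F(A)|` and `|F(B)|`. -/
theorem core_le [IsSimpleGroup G] (A B : Subgroup G) (hA : IsCoatom A) (hB : IsCoatom B)
    (hAB : (generalizedFittingSubgroup ↥A).map A.subtype ≤ B)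
    (hBA : (generalizedFittingSubgroup ↥B).map B.subtype ≤ A) (hlayB : layer ↥B = ⊥)
    (p s : ℕ) [Fact p.Prime] [Fact s.Prime] (hps : p ≠ s)
    (hpA : pCore p ↥A ≠ ⊥) (hpB : pCore p ↥B ≠ ⊥) :
    (pCore s ↥A).map A.subtype ≤ (pCore s ↥B).map B.subtype := by
  have hp : p.Prime := Fact.out
  have hs : s.Prime := Fact.out
  have hnA : (pCore p ↥A).Normal := Cfsg.Agent.Lib.H1.pCore_normal p ↥A
  have hnB : (pCore p ↥B).Normal := Cfsg.Agent.Lib.H1.pCore_normal p ↥B
  set P : Subgroup G := (pCore p ↥A).map A.subtype with hP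
  set P' : Subgroup G := (pCore p ↥B).map B.subtype with hP'
  set R : Subgroup G := (pCore s ↥A).map A.subtype with hR
  have hNP : Subgroup.normalizer (P : Set G) = A := normalizer_map_eq_of_isCoatom A hA _ hpA
  have hNP' : Subgroup.normalizer (P' : Set G) = B := normalizer_map_eq_of_isCoatom B hB _ hpB
  have hCB : Subgroup.centralizer (P' : Set G) ≤ B :=
    (Subgroup.centralizer_le_normalizer _).trans hNP'.le
  have hPB : P ≤ B := (pCoreG_le_FsG p A).trans hAB
  have hRB : R ≤ B := (pCoreG_le_FsG s A).trans hAB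
  set K : Subgroup G := Subgroup.closure
    {x : G | x ∈ Subgroup.centralizer (P' : Set G) ∧ (orderOf x).Coprime p} with hK
  have hKC : K ≤ Subgroup.centralizer (P' : Set G) := by
    rw [hK, Subgroup.closure_le]; exact fun x hx => hx.1
  have hKB : K ≤ B := hKC.trans hCB
  -- `K` centralizes `P`
  have hKP : K ≤ Subgroup.centralizer (P : Set G) := by
    rw [hK, Subgroup.closure_le]
    rintro x ⟨hx1, hx2⟩
    rw [SetLike.mem_coe, Subgroup.mem_centralizer_iff]
    intro a ha
    apply star_commute hlayB p (hPB ha) (hCB hx1) hx1 hx2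
    · obtain ⟨k, hk⟩ := (isPGroup_map_pCore p A) ⟨a, ha⟩
      exact ⟨k, congrArg Subtype.val hk⟩
    · intro t ht htp
      have : Fact t.Prime := ⟨ht⟩
      obtain ⟨a', ha', rfl⟩ := ha
      have := (cross A B hA hAB hBA t).2 p hp (Ne.symm htp) ha'
      exact Subgroup.mem_subgroupOf.1 this
  have hKA : K ≤ A := hKP.trans ((Subgroup.centralizer_le_normalizer _).trans hNP.le)
  -- `B` normalizes `K`
  have hBK : ∀ b ∈ B, ∀ k ∈ K, b * k * b⁻¹ ∈ K := by
    intro b hb k hk
    rw [hK] at hk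
    induction hk using Subgroup.closure_induction with
    | mem x hx =>
      apply Subgroup.subset_closure
      refine ⟨?_, ?_⟩
      · have hb1 : b ∈ Subgroup.normalizer
            ((Subgroup.centralizer (P' : Set G) : Subgroup G) : Set G) :=
          normalizer_le_normalizer_centralizer _ (le_normalizer_map_pCore p B hb)
        exact (Subgroup.mem_normalizer_iff.1 hb1 x).1 hx.1
      · have : orderOf (b * x * b⁻¹) = orderOf x := by
          have := (MulAut.conj b).orderOf_eq x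
          rwa [MulAut.conj_apply] at this
        rw [this]; exact hx.2
    | one => simp
    | mul x y _ _ hx hy =>
      have : b * (x * y) * b⁻¹ = (b * x * b⁻¹) * (b * y * b⁻¹) := by group
      rw [this]; exact mul_mem hx hy
    | inv x _ hx =>
      have : b * x⁻¹ * b⁻¹ = (b * x * b⁻¹)⁻¹ := by group
      rw [this]; exact inv_mem hx
  -- `R ≤ K`
  have hRK : R ≤ K := by
    rintro _ ⟨z, hz, rfl⟩
    apply Subgroup.subset_closure
    refine ⟨?_, ?_⟩
    · have := (cross A B hA hAB hBA p).2 s hs (Ne.symm hps) hz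
      exact Subgroup.mem_subgroupOf.1 this
    · obtain ⟨k, hk⟩ := (IsPGroup.iff_orderOf.1 (Cfsg.Agent.Lib.H1.pCore_isPGroup s ↥A)) ⟨z, hz⟩
      rw [Subgroup.orderOf_mk] at hk
      have : orderOf (A.subtype z) = orderOf z := Subgroup.orderOf_coe z
      rw [this, hk]
      exact Nat.Coprime.pow_left k ((Nat.coprime_primes hs hp).2 (Ne.symm hps))
  have hKR : K ≤ Subgroup.normalizer (R : Set G) := hKA.trans (le_normalizer_map_pCore s A)
  -- subnormality in `↥B`
  have hKBn : (K.subgroupOf B).Normal := by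
    constructor
    intro n hn g
    rw [Subgroup.mem_subgroupOf] at hn ⊢
    exact hBK g g.2 n hn
  have hRKB : R.subgroupOf B ≤ K.subgroupOf B := fun x hx => hRK hx
  have hRn : ((R.subgroupOf B).subgroupOf (K.subgroupOf B)).Normal := by
    constructor
    intro n hn g
    rw [Subgroup.mem_subgroupOf, Subgroup.mem_subgroupOf] at hn ⊢
    have hg : ((g : ↥B) : G) ∈ K := g.2
    exact (Subgroup.mem_normalizer_iff.1 (hKR hg) _).1 hn
  have hRsn : (R.subgroupOf B).IsSubnormal :=
    isSubnormal_of_le_of_le hRKB le_rfl hKBn.isSubnormal hRn.isSubnormal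
  have hRp : IsPGroup s (R.subgroupOf B) :=
    (isPGroup_map_pCore s A).comap_of_injective B.subtype B.subtype_injective
  have hRF : R.subgroupOf B ≤ fittingSubgroup ↥B :=
    subnormal_nilpotent_le_fittingSubgroup hRsn hRp.isNilpotent
  intro z hz
  have hzB : z ∈ B := hRB hz
  have hz' : (⟨z, hzB⟩ : ↥B) ∈ R.subgroupOf B := Subgroup.mem_subgroupOf.2 hz
  have hzcore : (⟨z, hzB⟩ : ↥B) ∈ pCore s ↥B := by
    apply mem_pCore_of_mem_fitting_of_pow s (hRF hz')
    obtain ⟨k, hk⟩ := hRp ⟨_, hz'⟩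
    exact ⟨k, congrArg Subtype.val hk⟩
  exact ⟨_, hzcore, rfl⟩

/-- The layers vanish. -/
theorem layer_eq_bot_of_ne [IsSimpleGroup G] (M N : Subgroup G) (hM : IsCoatom M) (hN : IsCoatom N)
    (hMN : M ≠ N) (h1 : (generalizedFittingSubgroup ↥M).map M.subtype ≤ N)
    (h2 : (generalizedFittingSubgroup ↥N).map N.subtype ≤ M) :
    layer ↥M = ⊥ ∧ layer ↥N = ⊥ := by
  have heq : (layer ↥M).map M.subtype = (layer ↥N).map N.subtype :=
    le_antisymm (layer_map_le M N hM h1 h2) (layer_map_le N M hN h2 h1)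
  by_cases hlM : layer ↥M = ⊥
  · refine ⟨hlM, ?_⟩
    rw [hlM, Subgroup.map_bot] at heq
    exact (Subgroup.map_eq_bot_iff_of_injective _ N.subtype_injective).1 heq.symm
  · exfalso
    have hlN : layer ↥N ≠ ⊥ := by
      intro h
      rw [h, Subgroup.map_bot] at heq
      exact hlM ((Subgroup.map_eq_bot_iff_of_injective _ M.subtype_injective).1 heq)
    have hNM := normalizer_map_eq_of_isCoatom M hM (layer ↥M) hlM
    have hNN := normalizer_map_eq_of_isCoatom N hN (layer ↥N) hlN
    rw [heq, hNN] at hNM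
    exact hMN hNM.symm

end


/-- Let G be a non-abelian finite simple group and M ≠ N maximal subgroups of G with F*(M) ≤ N and F*(N) ≤ M. Then there is a prime p such that F*(M) and F*(N) are both p-groups. -/
theorem result {G : Type*} [Group G] [Finite G] [IsSimpleGroup G] (hna : ¬ IsMulCommutative G) (M N : Subgroup G) (hM : IsCoatom M) (hN : IsCoatom N) (hMN : M ≠ N) (h1 : (Cfsg.generalizedFittingSubgroup ↥M).map M.subtype ≤ N) (h2 : (Cfsg.generalizedFittingSubgroup ↥N).map N.subtype ≤ M) : ∃ p : ℕ, p.Prime ∧ IsPGroup p ↥(Cfsg.generalizedFittingSubgroup ↥M) ∧ IsPGroup p ↥(Cfsg.generalizedFittingSubgroup ↥N) := by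
  obtain ⟨hlM, hlN⟩ := layer_eq_bot_of_ne M N hM hN hMN h1 h2
  have hFM : generalizedFittingSubgroup ↥M = fittingSubgroup ↥M := by
    unfold generalizedFittingSubgroup; rw [hlM, bot_sup_eq]
  have hFN : generalizedFittingSubgroup ↥N = fittingSubgroup ↥N := by
    unfold generalizedFittingSubgroup; rw [hlN, bot_sup_eq]
  -- the prime divisors of `|F(M)|` and `|F(N)|` coincide
  have hπ1 : ∀ q : ℕ, q.Prime → q ∣ Nat.card (fittingSubgroup ↥N) →
      q ∣ Nat.card (fittingSubgroup ↥M) := by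
    intro q hq hqN
    have : Fact q.Prime := ⟨hq⟩
    by_contra hqM
    exact pCore_ne_bot_of_dvd_card_fittingSubgroup q hqN (pCore_eq_bot_of_cross M N h1 h2 q hqM)
  have hπ2 : ∀ q : ℕ, q.Prime → q ∣ Nat.card (fittingSubgroup ↥M) →
      q ∣ Nat.card (fittingSubgroup ↥N) := by
    intro q hq hqM
    have : Fact q.Prime := ⟨hq⟩
    by_contra hqN
    exact pCore_ne_bot_of_dvd_card_fittingSubgroup q hqM (pCore_eq_bot_of_cross N M h2 h1 q hqN)
  -- two distinct primes are impossible
  have htwo : ∀ p r : ℕ, p.Prime → r.Prime → p ∣ Nat.card (fittingSubgroup ↥M) →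
      r ∣ Nat.card (fittingSubgroup ↥M) → p = r := by
    intro p r hp hr hpM hrM
    by_contra hpr
    have : Fact p.Prime := ⟨hp⟩
    have : Fact r.Prime := ⟨hr⟩
    have hpMc := pCore_ne_bot_of_dvd_card_fittingSubgroup p hpM
    have hrMc := pCore_ne_bot_of_dvd_card_fittingSubgroup r hrM
    have hpNc := pCore_ne_bot_of_dvd_card_fittingSubgroup p (hπ2 p hp hpM)
    have hrNc := pCore_ne_bot_of_dvd_card_fittingSubgroup r (hπ2 r hr hrM)
    have e1 := core_le M N hM hN h1 h2 hlN r p (Ne.symm hpr) hrMc hrNc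
    have e2 := core_le N M hN hM h2 h1 hlM r p (Ne.symm hpr) hrNc hrMc
    have heq := le_antisymm e1 e2
    have hnM : (pCore p ↥M).Normal := Cfsg.Agent.Lib.H1.pCore_normal p ↥M
    have hnN : (pCore p ↥N).Normal := Cfsg.Agent.Lib.H1.pCore_normal p ↥N
    have hNM := normalizer_map_eq_of_isCoatom M hM (pCore p ↥M) hpMc
    have hNN := normalizer_map_eq_of_isCoatom N hN (pCore p ↥N) hpNc
    rw [heq, hNN] at hNM
    exact hMN hNM.symm
  -- conclusion
  have hposM : Nat.card (fittingSubgroup ↥M) ≠ 0 := Nat.card_pos.ne'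
  have hposN : Nat.card (fittingSubgroup ↥N) ≠ 0 := Nat.card_pos.ne'
  by_cases hex : ∃ p : ℕ, p.Prime ∧ p ∣ Nat.card (fittingSubgroup ↥M)
  · obtain ⟨p, hp, hpM⟩ := hex
    have : Fact p.Prime := ⟨hp⟩
    refine ⟨p, hp, ?_, ?_⟩
    · rw [hFM]
      exact IsPGroup.of_card (Nat.eq_prime_pow_of_unique_prime_dvd hposM
        (fun {d} hd hdM => htwo d p hd hp hdM hpM))
    · rw [hFN]
      exact IsPGroup.of_card (Nat.eq_prime_pow_of_unique_prime_dvd hposN
        (fun {d} hd hdN => htwo d p hd hp (hπ1 d hd hdN) hpM))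
  · refine ⟨2, Nat.prime_two, ?_, ?_⟩
    · rw [hFM]
      have h1 : Nat.card (fittingSubgroup ↥M) = 1 := by
        by_contra hne
        obtain ⟨q, hq, hqd⟩ := Nat.exists_prime_and_dvd hne
        exact hex ⟨q, hq, hqd⟩
      exact IsPGroup.of_card (n := 0) (by rw [h1, pow_zero])
    · rw [hFN]
      have h1 : Nat.card (fittingSubgroup ↥N) = 1 := by
        by_contra hne
        obtain ⟨q, hq, hqd⟩ := Nat.exists_prime_and_dvd hne
        exact hex ⟨q, hq, hπ1 q hq hqd⟩
      exact IsPGroup.of_card (n := 0) (by rw [h1, pow_zero])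

end Cfsg.Agent.S1312
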