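import Cfsg.Statements.S1313
import Cfsg.Agent.Lib.H7.FStar

set_option autoImplicit false
open Cfsg
open Cfsg.Agent.Lib.H7

namespace Cfsg.Agent.S1313

/-- The number of automorphisms of a finite group `N` is at most `(|N| - 1)!`. -/
theorem card_mulAut_le {N : Type*} [Group N] [Finite N] :
    Nat.card (MulAut N) ≤ (Nat.card N - 1).factorial := by
  classical
  let f : MulAut N → Equiv.Perm {x : N // x ≠ 1} := fun σ =>
    σ.toEquiv.subtypeEquiv (fun x => by
      show x ≠ 1 ↔ σ x ≠ 1
      rw [Ne, Ne, map_eq_one_iff σ (MulEquiv.injective σ)])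
  have hf : Function.Injective f := by
    intro σ τ h
    ext x
    by_cases hx : x = 1
    · rw [hx, map_one, map_one]
    · have := congrArg (fun e => ((e ⟨x, hx⟩ : {x : N // x ≠ 1}) : N)) h
      exact this
  have h1 := Nat.card_le_card_of_injective f hf
  rw [Nat.card_perm] at h1
  have h2 : Nat.card {x : N // x ≠ 1} = Nat.card N - 1 := by
    have := Fintype.ofFinite N
    rw [Nat.card_eq_fintype_card, Nat.card_eq_fintype_card]
    exact Set.card_ne_eq (1 : N)
  rwa [h2] at h1


/-- For a finite group H, |H| ≤ |F*(H)|!. -/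
theorem result {H : Type*} [Group H] [Finite H] : Nat.card H ≤ Nat.factorial (Nat.card ↥(Cfsg.generalizedFittingSubgroup H)) := by
  set N := Cfsg.generalizedFittingSubgroup H with hN
  have hNn : N.Normal := generalizedFittingSubgroup_normal
  let φ : H →* MulAut N := MulAut.conjNormal
  have h1 : Nat.card φ.ker * Nat.card φ.range = Nat.card H := by
    rw [← Subgroup.index_ker]; exact Subgroup.card_mul_index _
  have h2 : φ.ker ≤ N := by
    refine le_trans ?_ (centralizer_generalizedFittingSubgroup_le (G := H))
    intro h hh x hx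
    have := congrArg (fun σ : MulAut N => ((σ ⟨x, hx⟩ : N) : H)) (MonoidHom.mem_ker.1 hh)
    simp only [φ, MulAut.conjNormal_apply, MulAut.one_apply] at this
    -- this : h * x * h⁻¹ = x
    calc x * h = (h * x * h⁻¹) * h := by rw [this]
      _ = h * x := by group
  have h3 : Nat.card φ.ker ≤ Nat.card N := Subgroup.card_le_of_le h2
  have h4 : Nat.card φ.range ≤ (Nat.card N - 1).factorial :=
    (Subgroup.card_le_card_group _).trans card_mulAut_le
  have h5 : 0 < Nat.card N := Nat.card_pos
  calc Nat.card H = Nat.card φ.ker * Nat.card φ.range := h1.symm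
    _ ≤ Nat.card N * (Nat.card N - 1).factorial := Nat.mul_le_mul h3 h4
    _ = (Nat.card N).factorial := Nat.mul_factorial_pred (Nat.ne_of_gt h5)

end Cfsg.Agent.S1313
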