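import Cfsg.Statements.S1314
import Cfsg.Agent.Lib.H1.Complement

set_option autoImplicit false
open Cfsg
open scoped commutatorElement
set_option autoImplicit false

namespace Cfsg.Agent.S1314

theorem commutatorElement_mul_central {G : Type*} [Group G] {z₁ z₂ p₁ p₂ : G}
    (h12 : Commute z₁ z₂) (h11 : Commute z₁ p₁) (h1p2 : Commute z₁ p₂) (h21 : Commute z₂ p₁)
    (h22 : Commute z₂ p₂) : ⁅z₁ * p₁, z₂ * p₂⁆ = ⁅p₁, p₂⁆ := by
  rw [commutatorElement_def, commutatorElement_def]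
  have hz1 : Commute z₁ (p₁ * (z₂ * p₂) * p₁⁻¹) :=
    (h11.mul_right (h12.mul_right h1p2)).mul_right h11.inv_right
  have hz2 : Commute z₂ (p₁ * p₂ * p₁⁻¹ * p₂⁻¹) :=
    ((h21.mul_right h22).mul_right h21.inv_right).mul_right h22.inv_right
  calc z₁ * p₁ * (z₂ * p₂) * (z₁ * p₁)⁻¹ * (z₂ * p₂)⁻¹
      = (z₁ * (p₁ * (z₂ * p₂) * p₁⁻¹)) * z₁⁻¹ * (z₂ * p₂)⁻¹ := by group
    _ = ((p₁ * (z₂ * p₂) * p₁⁻¹) * z₁) * z₁⁻¹ * (z₂ * p₂)⁻¹ := by rw [hz1.eq]
    _ = p₁ * z₂ * p₂ * p₁⁻¹ * p₂⁻¹ * z₂⁻¹ := by group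
    _ = z₂ * p₁ * p₂ * p₁⁻¹ * p₂⁻¹ * z₂⁻¹ := by rw [h21.eq]
    _ = (z₂ * (p₁ * p₂ * p₁⁻¹ * p₂⁻¹)) * z₂⁻¹ := by group
    _ = ((p₁ * p₂ * p₁⁻¹ * p₂⁻¹) * z₂) * z₂⁻¹ := by rw [hz2.eq]
    _ = p₁ * p₂ * p₁⁻¹ * p₂⁻¹ := by group


/-- Let x be an involution of a group G and L a perfect subgroup with ⁅L, x L x⁻¹⁆ = 1. Then l ↦ l (x l x⁻¹) is a group homomorphism π from L to G whose kernel is central in L and whose image lies in C_G(x); and the commutator subgroup of C_{L ⊔ xLx⁻¹}(x) equals the image of π. -/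
theorem result {G : Type*} [Group G] [Finite G] (x : G) (hx : orderOf x = 2) (L : Subgroup G) (hperf : ⁅L, L⁆ = L) (hcomm : ⁅L, L.map (MulAut.conj x).toMonoidHom⁆ = ⊥) : ∃ π : ↥L →* G, (∀ l : ↥L, π l = (l : G) * (x * (l : G) * x⁻¹)) ∧ π.ker ≤ Subgroup.center ↥L ∧ π.range ≤ Subgroup.centralizer ({x} : Set G) ∧ ⁅(L ⊔ L.map (MulAut.conj x).toMonoidHom) ⊓ Subgroup.centralizer ({x} : Set G), (L ⊔ L.map (MulAut.conj x).toMonoidHom) ⊓ Subgroup.centralizer ({x} : Set G)⁆ = π.range := by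
  have hx2 : x * x = 1 := by
    have := pow_orderOf_eq_one x
    rwa [hx, pow_two] at this
  have hxinv : x⁻¹ = x := inv_eq_of_mul_eq_one_left hx2
  have hmemLx : ∀ m ∈ L, x * m * x⁻¹ ∈ L.map (MulAut.conj x).toMonoidHom :=
    fun m hm => ⟨m, hm, by simp⟩
  -- elements of L commute with elements of L^x
  have hc : ∀ l ∈ L, ∀ m ∈ L, Commute l (x * m * x⁻¹) := by
    intro l hl m hm
    have h1 : ⁅l, x * m * x⁻¹⁆ ∈ ⁅L, L.map (MulAut.conj x).toMonoidHom⁆ :=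
      Subgroup.commutator_mem_commutator hl (hmemLx m hm)
    rw [hcomm, Subgroup.mem_bot, commutatorElement_eq_one_iff_mul_comm] at h1
    exact h1
  let π : ↥L →* G :=
    { toFun := fun l => (l : G) * (x * (l : G) * x⁻¹)
      map_one' := by simp
      map_mul' := by
        intro a b
        have h := (hc (b : G) b.2 (a : G) a.2).eq
        simp only [Subgroup.coe_mul]
        calc (a : G) * b * (x * ((a : G) * b) * x⁻¹)
            = (a : G) * ((b : G) * (x * (a : G) * x⁻¹)) * (x * (b : G) * x⁻¹) := by group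
          _ = (a : G) * ((x * (a : G) * x⁻¹) * (b : G)) * (x * (b : G) * x⁻¹) := by rw [h]
          _ = _ := by group }
  have hπ : ∀ l : ↥L, π l = (l : G) * (x * (l : G) * x⁻¹) := fun l => rfl
  have hrange : π.range ≤ Subgroup.centralizer ({x} : Set G) := by
    rintro _ ⟨l, rfl⟩
    rw [Subgroup.mem_centralizer_singleton_iff, hπ]
    have h := (hc (l : G) l.2 (l : G) l.2).eq
    calc (l : G) * (x * (l : G) * x⁻¹) * x = (x * (l : G) * x⁻¹) * (l : G) * x := by rw [h]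
      _ = x * ((l : G) * (x⁻¹ * (l : G) * x)) := by group
      _ = x * ((l : G) * (x * (l : G) * x⁻¹)) := by rw [hxinv]
  have hrangeM : π.range ≤ L ⊔ L.map (MulAut.conj x).toMonoidHom := by
    rintro _ ⟨l, rfl⟩
    rw [hπ]
    exact Subgroup.mul_mem _ (Subgroup.mem_sup_left l.2) (Subgroup.mem_sup_right (hmemLx _ l.2))
  refine ⟨π, hπ, ?_, hrange, ?_⟩
  · intro l hl
    rw [MonoidHom.mem_ker, hπ] at hl
    rw [Subgroup.mem_center_iff]
    intro g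
    apply Subtype.ext
    simp only [Subgroup.coe_mul]
    have h1 : (l : G) = x * (l : G)⁻¹ * x⁻¹ := by
      have h0 : (l : G) = (x * (l : G) * x⁻¹)⁻¹ := eq_inv_of_mul_eq_one_left hl
      calc (l : G) = (x * (l : G) * x⁻¹)⁻¹ := h0
        _ = x * (l : G)⁻¹ * x⁻¹ := by group
    have h2 := (hc (g : G) g.2 ((l : G)⁻¹) (L.inv_mem l.2)).eq
    rw [← h1] at h2
    exact h2
  · apply le_antisymm
    · rw [Subgroup.commutator_le]
      have hstruct : ∀ c ∈ (L ⊔ L.map (MulAut.conj x).toMonoidHom) ⊓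
          Subgroup.centralizer ({x} : Set G), ∃ z ∈ L, ∃ m : ↥L,
            (∀ l ∈ L, Commute z l) ∧ (∀ l ∈ L, Commute z (x * l * x⁻¹)) ∧ c = z * π m := by
        rintro c ⟨hcM, hcx⟩
        have hnorm : L.map (MulAut.conj x).toMonoidHom ≤ Subgroup.normalizer (L : Set G) := by
          refine le_trans ?_ (Subgroup.centralizer_le_normalizer (L : Set G))
          rintro _ ⟨m, hm, rfl⟩
          rw [Subgroup.mem_centralizer_iff]
          intro l hl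
          exact (hc l hl m hm).eq
        obtain ⟨l₁, hl₁, y, ⟨l₂, hl₂, rfl⟩, rfl⟩ :=
          Cfsg.Agent.Lib.H1.mem_sup_of_le_normalizer hnorm hcM
        have hcx' : l₁ * (x * l₂ * x⁻¹) * x = x * (l₁ * (x * l₂ * x⁻¹)) :=
          Subgroup.mem_centralizer_singleton_iff.1 hcx
        -- z = l₂⁻¹ l₁ lies in L ∩ L^x
        have h4 : l₁ * (x * l₂ * x⁻¹) = l₂ * (x * l₁ * x⁻¹) := by
          have h1 : x * (l₁ * (x * l₂ * x⁻¹)) * x⁻¹ = l₁ * (x * l₂ * x⁻¹) := by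
            rw [← hcx']; group
          have h2 : x * (l₁ * (x * l₂ * x⁻¹)) * x⁻¹ = (x * l₁ * x⁻¹) * l₂ := by
            have : x * (l₁ * (x * l₂ * x⁻¹)) * x⁻¹ =
                (x * l₁ * x⁻¹) * ((x * x) * l₂ * (x⁻¹ * x⁻¹)) := by group
            rw [this, hxinv, hx2]; group
          rw [← h1, h2, (hc l₂ hl₂ l₁ hl₁).eq]
        have hz : l₂⁻¹ * l₁ = x * (l₁ * l₂⁻¹) * x⁻¹ := by
          calc l₂⁻¹ * l₁ = l₂⁻¹ * (l₁ * (x * l₂ * x⁻¹)) * (x * l₂ * x⁻¹)⁻¹ := by group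
            _ = l₂⁻¹ * (l₂ * (x * l₁ * x⁻¹)) * (x * l₂ * x⁻¹)⁻¹ := by rw [h4]
            _ = x * (l₁ * l₂⁻¹) * x⁻¹ := by group
        have hzL : l₂⁻¹ * l₁ ∈ L := L.mul_mem (L.inv_mem hl₂) hl₁
        have hzL' : l₁ * l₂⁻¹ ∈ L := L.mul_mem hl₁ (L.inv_mem hl₂)
        refine ⟨l₂⁻¹ * l₁, hzL, ⟨l₂, hl₂⟩, ?_, ?_, ?_⟩
        · intro l hl
          rw [hz]
          exact (hc l hl _ hzL').symm
        · intro l hl
          exact hc _ hzL l hl
        · rw [hπ]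
          have hzc : Commute l₂ (l₂⁻¹ * l₁) := by
            rw [hz]; exact hc l₂ hl₂ _ hzL'
          show l₁ * (x * l₂ * x⁻¹) = l₂⁻¹ * l₁ * (l₂ * (x * l₂ * x⁻¹))
          calc l₁ * (x * l₂ * x⁻¹) = (l₂ * (l₂⁻¹ * l₁)) * (x * l₂ * x⁻¹) := by group
            _ = ((l₂⁻¹ * l₁) * l₂) * (x * l₂ * x⁻¹) := by rw [hzc.eq]
            _ = _ := by group
      intro c₁ hc₁ c₂ hc₂
      obtain ⟨z₁, hz₁, m₁, hz₁L, hz₁x, rfl⟩ := hstruct c₁ hc₁
      obtain ⟨z₂, hz₂, m₂, hz₂L, hz₂x, rfl⟩ := hstruct c₂ hc₂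
      have hzπ : ∀ z : G, (∀ l ∈ L, Commute z l) →
          (∀ l ∈ L, Commute z (x * l * x⁻¹)) → ∀ m : ↥L, Commute z (π m) := by
        intro z h1 h2 m
        rw [hπ]
        exact (h1 _ m.2).mul_right (h2 _ m.2)
      have e : ⁅z₁ * π m₁, z₂ * π m₂⁆ = π ⁅m₁, m₂⁆ := by
        rw [map_commutatorElement]
        exact commutatorElement_mul_central (hz₁L z₂ hz₂) (hzπ z₁ hz₁L hz₁x m₁)
          (hzπ z₁ hz₁L hz₁x m₂) (hzπ z₂ hz₂L hz₂x m₁) (hzπ z₂ hz₂L hz₂x m₂)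
      rw [e]
      exact ⟨_, rfl⟩
    · -- π(L) is perfect and lies in C_M(x)
      have htop : (⁅(⊤ : Subgroup ↥L), ⊤⁆ : Subgroup ↥L) = ⊤ := by
        apply Subgroup.map_injective (Subgroup.subtype_injective L)
        rw [Subgroup.map_commutator, ← MonoidHom.range_eq_map, Subgroup.range_subtype, hperf]
      rw [MonoidHom.range_eq_map, ← htop, Subgroup.map_commutator, ← MonoidHom.range_eq_map]
      exact Subgroup.commutator_mono (le_inf hrangeM hrange) (le_inf hrangeM hrange)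

end Cfsg.Agent.S1314
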