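import Cfsg.Statements.S1316
import Cfsg.Agent.Lib.H7.FStar

set_option autoImplicit false
open Cfsg
open Cfsg.Agent.Lib.H7

namespace Cfsg.Agent.S1316

/-- For a finite group X, E(X) equals the intersection of the derived series of F*(X) (its last term). -/
theorem result {X : Type*} [Group X] [Finite X] : (⨅ n : ℕ, (derivedSeries ↥(Cfsg.generalizedFittingSubgroup X) n).map (Cfsg.generalizedFittingSubgroup X).subtype) = Cfsg.layer X := by
  set E := Cfsg.layer X with hE
  set F := Cfsg.fittingSubgroup X with hF
  have hFs : Cfsg.generalizedFittingSubgroup X = E ⊔ F := rfl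
  have hEn : E.Normal := layer_normal
  have hFn : F.Normal := fittingSubgroup_normal
  -- relative derived series
  have hrel : ∀ (H : Subgroup X) (n : ℕ), (derivedSeries H (n + 1)).map H.subtype
      = ⁅(derivedSeries H n).map H.subtype, (derivedSeries H n).map H.subtype⁆ := by
    intro H n
    rw [derivedSeries_succ, Subgroup.map_commutator]
  have hrel0 : ∀ (H : Subgroup X), (derivedSeries H 0).map H.subtype = H := by
    intro H
    rw [derivedSeries_zero, ← MonoidHom.range_eq_map, Subgroup.range_subtype]
  have hFdn : ∀ n, ((derivedSeries F n).map F.subtype).Normal := by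
    intro n
    induction n with
    | zero => rw [hrel0]; exact hFn
    | succ n ih => rw [hrel]; exact Subgroup.commutator_normal _ _
  have hFdle : ∀ n, (derivedSeries F n).map F.subtype ≤ F := fun n => Subgroup.map_subtype_le _
  have key : ∀ n, (derivedSeries ↥(Cfsg.generalizedFittingSubgroup X) n).map
      (Cfsg.generalizedFittingSubgroup X).subtype = E ⊔ (derivedSeries F n).map F.subtype := by
    intro n
    induction n with
    | zero => rw [hrel0, hrel0]; exact hFs
    | succ n ih =>
      rw [hrel, ih, hrel]
      have := hFdn n
      have hcomm : ⁅E, (derivedSeries F n).map F.subtype⁆ = ⊥ := by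
        rw [eq_bot_iff, ← layer_commutator_fitting (G := X)]
        exact Subgroup.commutator_mono le_rfl (hFdle n)
      rw [commutator_sup_sup_of_commute _ _ hcomm, layer_commutator_self]
  have hsolv : Group.IsSolvable F := by
    have := fittingSubgroup_isNilpotent (G := X)
    infer_instance
  obtain ⟨m, hm⟩ := (Group.isSolvable_def F).1 hsolv
  apply le_antisymm
  · refine (iInf_le _ m).trans ?_
    rw [key, hm, Subgroup.map_bot, sup_bot_eq]
  · apply le_iInf
    intro n
    rw [key]
    exact le_sup_left

end Cfsg.Agent.S1316
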