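import Cfsg.Statements.S1317
import Cfsg.Agent.Lib.H7.FStar

set_option autoImplicit false
open Cfsg
open Cfsg.Agent.Lib.H7

namespace Cfsg.Agent.S1317

/-- For a finite group X, the centre of the layer E(X) is F(X) ∩ E(X). -/
theorem result {X : Type*} [Group X] [Finite X] : (Subgroup.center ↥(Cfsg.layer X)).map (Cfsg.layer X).subtype = Cfsg.fittingSubgroup X ⊓ Cfsg.layer X := by
  apply le_antisymm
  · apply le_inf _ (Subgroup.map_subtype_le _)
    have h1 : ((Subgroup.center ↥(Cfsg.layer X)).map (Cfsg.layer X).subtype).Normal :=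
      ConjAct.normal_of_characteristic_of_normal
    apply le_fittingSubgroup h1
    have e := (Subgroup.center ↥(Cfsg.layer X)).equivMapOfInjective (Cfsg.layer X).subtype
      (Subgroup.subtype_injective _)
    refine (Group.isNilpotent_congr e).1 ?_
    apply Subgroup.isNilpotent_of_lowerCentralSeries_eq_bot (n := 1)
    rw [Subgroup.lowerCentralSeries_succ, Subgroup.lowerCentralSeries_zero]
    exact Subgroup.commutator_center_right _
  · rintro x ⟨hxF, hxE⟩
    refine ⟨⟨x, hxE⟩, ?_, rfl⟩
    rw [SetLike.mem_coe, Subgroup.mem_center_iff]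
    intro g
    have h := layer_commutator_fitting (G := X)
    rw [Subgroup.commutator_eq_bot_iff_le_centralizer] at h
    have := h g.2 x hxF
    exact Subtype.ext this.symm

end Cfsg.Agent.S1317
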