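import Cfsg.Statements.S1321
import Cfsg.Agent.Lib.H7.FStar2

set_option autoImplicit false
open Cfsg
open Cfsg.Agent.Lib.H7

namespace Cfsg.Agent.S1321

/-- Let X be finite and U ≤ X. Then E(X) is generated by C_{E(X)}(U) together with ⁅E(X), U⁆ (indeed it is their product, ⁅E(X), U⁆ being normal in E(X)). -/
theorem result {X : Type*} [Group X] [Finite X] (U : Subgroup X) : Cfsg.layer X = (Cfsg.layer X ⊓ Subgroup.centralizer (U : Set X)) ⊔ ⁅Cfsg.layer X, U⁆ ∧ ⁅Cfsg.layer X, U⁆ ≤ Cfsg.layer X := by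
  have hEn : (Cfsg.layer X).Normal := layer_normal
  have h2 : ⁅Cfsg.layer X, U⁆ ≤ Cfsg.layer X := Subgroup.commutator_le_left _ _
  refine ⟨?_, h2⟩
  apply le_antisymm _ (sup_le inf_le_left h2)
  set N := ⁅Cfsg.layer X, U⁆ with hN
  -- `N` is subnormal in `X`
  have hNsn : N.IsSubnormal := by
    refine Subgroup.IsSubnormal.trans h2 ?_ hEn.isSubnormal
    have : (N.subgroupOf (Cfsg.layer X)).Normal := by
      rw [Subgroup.normal_subgroupOf_iff_le_normalizer h2]
      exact Subgroup.normalizer_commutator_ge_left (H₁ := Cfsg.layer X) (H₂ := U)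
    exact this.isSubnormal
  apply sSup_le
  intro L hL
  rcases component_le_or_commutator_eq_bot hL hNsn with h | h
  · exact h.trans le_sup_right
  · refine le_trans ?_ le_sup_left
    apply le_inf (component_le_layer hL)
    rw [← Subgroup.commutator_eq_bot_iff_le_centralizer]
    -- three subgroups lemma
    have h3 : ⁅L, U⁆ ≤ N := Subgroup.commutator_mono (component_le_layer hL) le_rfl
    have h4 : ⁅⁅L, U⁆, L⁆ = ⊥ := by
      rw [eq_bot_iff, ← h, Subgroup.commutator_comm L N]
      exact Subgroup.commutator_mono h3 le_rfl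
    have h5 : ⁅⁅U, L⁆, L⁆ = ⊥ := by rwa [Subgroup.commutator_comm U L]
    have h6 : ⁅⁅L, L⁆, U⁆ = ⊥ := Subgroup.commutator_commutator_eq_bot_of_rotate h4 h5
    rwa [component_commutator_self hL] at h6

end Cfsg.Agent.S1321
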