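import Cfsg.Statements.S1323
import Cfsg.Agent.Lib.H7.AltStd

set_option autoImplicit false
open Cfsg
open Cfsg.Agent.Lib.H7.AltStd
set_option autoImplicit false

namespace Cfsg.Agent.S1323

theorem L_eq (n : ℕ) (h4 : 4 ≤ n) :
    (⨅ i : Fin 4, MulAction.stabilizer ↥(alternatingGroup (Fin n)) (Fin.castLE h4 i : Fin n)) =
      R (Finset.univ.filter (fun x : Fin n => 4 ≤ x.val)) := by
  ext σ
  rw [Subgroup.mem_iInf, mem_R_iff]
  constructor
  · intro h x hx
    rw [Equiv.Perm.mem_support] at hx
    rw [Finset.mem_filter]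
    refine ⟨Finset.mem_univ _, ?_⟩
    by_contra hlt
    apply hx
    have := h ⟨x.val, by omega⟩
    rw [MulAction.mem_stabilizer_iff] at this
    have hx' : (Fin.castLE h4 ⟨x.val, by omega⟩ : Fin n) = x := Fin.ext rfl
    rw [hx'] at this
    exact this
  · intro h i
    rw [MulAction.mem_stabilizer_iff]
    by_contra hne
    have : (Fin.castLE h4 i : Fin n) ∈ (σ : Equiv.Perm (Fin n)).support := by
      rw [Equiv.Perm.mem_support]; exact hne
    have := h this
    rw [Finset.mem_filter] at this
    have h2 : (Fin.castLE h4 i : Fin n).val = i.val := rfl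
    have := i.isLt
    omega


/-- For n ≥ 9, the subgroup of the alternating group on Fin n fixing each of the points 0, 1, 2, 3 is a standard subgroup. -/
theorem result (n : ℕ) (h4 : 4 ≤ n) (hn : 9 ≤ n) : Cfsg.IsStandardSubgroup (⨅ i : Fin 4, MulAction.stabilizer ↥(alternatingGroup (Fin n)) (Fin.castLE h4 i : Fin n)) := by
  rw [L_eq]
  have hcompl : (Finset.univ.filter (fun x : Fin n => 4 ≤ x.val))ᶜ =
      Finset.univ.filter (fun x : Fin n => x.val < 4) := by
    ext x
    simp
  have hc : (Finset.univ.filter (fun x : Fin n => 4 ≤ x.val))ᶜ.card = 4 := by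
    rw [hcompl, Fin.card_filter_val_lt]
    omega
  apply standard_R _ _ hc
  have := Finset.card_add_card_compl (Finset.univ.filter (fun x : Fin n => 4 ≤ x.val))
  rw [hc, Fintype.card_fin] at this
  omega

end Cfsg.Agent.S1323
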