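import Cfsg.Statements.S1328
import Cfsg.Agent.Lib.H7.CoreComp2
import Cfsg.Agent.Lib.H7.InvExt2

set_option autoImplicit false
open Cfsg
open Cfsg Cfsg.Agent.Lib.H7
open scoped commutatorElement
set_option autoImplicit false

namespace Cfsg.Agent.S1328

/-- A component of `↥A` whose image lies in `X ≤ A` gives a component of `↥X`. -/
theorem isComponent_subgroupOf_of_map_le' {G : Type*} [Group G] {A X : Subgroup G} (hXA : X ≤ A)
    {L : Subgroup ↥A} (hL : IsComponent L) (hLX : L.map A.subtype ≤ X) :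
    IsComponent ((L.map A.subtype).subgroupOf X) := by
  have hcomap : L.comap (Subgroup.inclusion hXA) = (L.map A.subtype).subgroupOf X := by
    ext x
    rw [Subgroup.mem_comap, Subgroup.mem_subgroupOf]
    constructor
    · intro h; exact ⟨_, h, rfl⟩
    · rintro ⟨y, hy, hyx⟩
      have : y = Subgroup.inclusion hXA x := Subtype.ext hyx
      rw [← this]; exact hy
  refine ⟨?_, ?_⟩
  · rw [← hcomap]; exact hL.1.comap _
  · exact quasisimple_of_mulEquiv ((L.equivMapOfInjective A.subtype A.subtype_injective).trans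
      (Subgroup.subgroupOfEquivOfLe hLX).symm) hL.2


/-- Let G be finite, H ≤ G with O(H) = 1, t an involution of G normalizing H, and Y a nontrivial subgroup of O(C_H(t)). Then some component E of H is normalized by t and by Y and centralized by neither t nor Y. -/
theorem result {G : Type*} [Group G] [Finite G] (H : Subgroup G) (hO : Cfsg.oddCore ↥H = ⊥) (t : G) (ht : orderOf t = 2) (htH : t ∈ Subgroup.normalizer (H : Set G)) (Y : Subgroup G) (hY1 : Y ≠ ⊥) (hY : Y ≤ (Cfsg.oddCore ↥(H ⊓ Subgroup.centralizer ({t} : Set G))).map (H ⊓ Subgroup.centralizer ({t} : Set G)).subtype) : ∃ E : Subgroup ↥H, Cfsg.IsComponent E ∧ (E.map H.subtype).map (MulAut.conj t).toMonoidHom = E.map H.subtype ∧ Y ≤ Subgroup.normalizer ((E.map H.subtype : Subgroup G) : Set G) ∧ ¬ (t ∈ Subgroup.centralizer ((E.map H.subtype : Subgroup G) : Set G)) ∧ ¬ (Y ≤ Subgroup.centralizer ((E.map H.subtype : Subgroup G) : Set G)) := by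
  have htt : t * t = 1 := by
    have := pow_orderOf_eq_one t
    rwa [ht, pow_two] at this
  set M := H ⊔ Subgroup.zpowers t with hM
  have hHM : H ≤ M := le_sup_left
  have htM : t ∈ M := (le_sup_right : Subgroup.zpowers t ≤ M) (Subgroup.mem_zpowers t)
  set tM : ↥M := ⟨t, htM⟩ with htMdef
  have hOM : pPrimeCore 2 ↥M = ⊥ := oddCore_sup_zpowers_eq_bot htt htH hO
  have htMo : orderOf tM = 2 := by
    rw [← ht]; exact Subgroup.orderOf_mk t htM
  have hYM : Y ≤ M := by
    intro y hy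
    obtain ⟨k, -, rfl⟩ := hY hy
    exact hHM (Subgroup.mem_inf.1 k.2).1
  have hY' : Y.subgroupOf M ≤ centralizerPPrimeCore 2 tM := by
    refine le_trans ?_ (subgroupOf_le_cppc_sup_zpowers htt htH)
    intro y hy
    rw [Subgroup.mem_subgroupOf] at hy ⊢
    exact hY hy
  have hY'1 : Y.subgroupOf M ≠ ⊥ := by
    intro h
    apply hY1
    rw [eq_bot_iff]
    intro y hy
    have : (⟨y, hYM hy⟩ : ↥M) ∈ Y.subgroupOf M := Subgroup.mem_subgroupOf.2 hy
    rw [h, Subgroup.mem_bot] at this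
    rw [Subgroup.mem_bot]
    exact congrArg Subtype.val this
  have : Fact (Nat.Prime 2) := ⟨Nat.prime_two⟩
  obtain ⟨L', hL', hL't, hL'Y, hL'tc, hL'Yc⟩ :=
    exists_component_of_le_cppc hOM htMo hY' hY'1
  -- `L'` lies in `H`
  have hL'H : L'.map M.subtype ≤ H := by
    have hperf : ⁅L', L'⁆ = L' := component_commutator_self hL'
    rw [← hperf, Subgroup.map_commutator, Subgroup.commutator_le]
    rintro _ ⟨a, -, rfl⟩ _ ⟨b, -, rfl⟩
    exact commutator_mem_of_mem_sup_zpowers htt htH a.2 b.2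
  set LG := L'.map M.subtype with hLG
  refine ⟨LG.subgroupOf H, isComponent_subgroupOf_of_map_le' hHM hL' hL'H, ?_⟩
  rw [Subgroup.map_subgroupOf_eq_of_le hL'H]
  have hmemLG : ∀ g : G, g ∈ LG ↔ ∃ hg : g ∈ M, (⟨g, hg⟩ : ↥M) ∈ L' := by
    intro g
    constructor
    · rintro ⟨l, hl, rfl⟩
      exact ⟨l.2, hl⟩
    · rintro ⟨hg, hl⟩
      exact ⟨⟨g, hg⟩, hl, rfl⟩
  refine ⟨?_, ?_, ?_, ?_⟩
  · -- `t` normalizes `LG`
    have h1 := congrArg (Subgroup.map M.subtype) hL't
    rw [Subgroup.map_map] at h1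
    have h2 : (MulAut.conj t).toMonoidHom.comp M.subtype =
        M.subtype.comp (MulAut.conj tM).toMonoidHom := by
      ext m
      rfl
    calc LG.map (MulAut.conj t).toMonoidHom
        = L'.map ((MulAut.conj t).toMonoidHom.comp M.subtype) := by rw [hLG, Subgroup.map_map]
      _ = L'.map (M.subtype.comp (MulAut.conj tM).toMonoidHom) := by rw [h2]
      _ = LG := h1
  · intro y hy
    have h1 : (⟨y, hYM hy⟩ : ↥M) ∈ Subgroup.normalizer (L' : Set ↥M) :=
      hL'Y (Subgroup.mem_subgroupOf.2 hy)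
    rw [Subgroup.mem_normalizer_iff] at h1 ⊢
    intro g
    constructor
    · rintro ⟨l, hl, rfl⟩
      have := (h1 l).1 hl
      exact ⟨_, this, rfl⟩
    · intro hg
      obtain ⟨l, hl, hlg⟩ := hg
      have hgM : g ∈ M := by
        have h2 : y⁻¹ * (y * g * y⁻¹) * y ∈ M :=
          M.mul_mem (M.mul_mem (M.inv_mem (hYM hy)) (hlg ▸ l.2)) (hYM hy)
        have e : y⁻¹ * (y * g * y⁻¹) * y = g := by group
        rwa [e] at h2
      have h3 : (⟨y, hYM hy⟩ : ↥M) * ⟨g, hgM⟩ * (⟨y, hYM hy⟩ : ↥M)⁻¹ ∈ L' := by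
        have : (⟨y, hYM hy⟩ : ↥M) * ⟨g, hgM⟩ * (⟨y, hYM hy⟩ : ↥M)⁻¹ = l := by
          apply Subtype.ext
          exact hlg.symm
        rw [this]; exact hl
      exact ⟨⟨g, hgM⟩, (h1 _).2 h3, rfl⟩
  · intro htc
    apply hL'tc
    rw [Subgroup.mem_centralizer_iff]
    intro l hl
    apply Subtype.ext
    exact Subgroup.mem_centralizer_iff.1 htc (l : G) ⟨l, hl, rfl⟩
  · intro hYc
    apply hL'Yc
    intro y hy
    rw [Subgroup.mem_centralizer_iff]
    intro l hl
    apply Subtype.ext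
    exact Subgroup.mem_centralizer_iff.1 (hYc (Subgroup.mem_subgroupOf.1 hy)) (l : G) ⟨l, hl, rfl⟩

end Cfsg.Agent.S1328
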