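import Cfsg.Statements.S1335
import Mathlib
import Cfsg.Prelude.Def_Local
import Cfsg.Prelude.Def_ClassificationK

set_option autoImplicit false
open Cfsg
set_option autoImplicit false

namespace Cfsg.Agent.S1335

/-- `p`-rank bounds pull back along injective homomorphisms. -/
theorem pRankLE_of_injective {G G' : Type*} [Group G] [Group G'] (p k : ℕ) (f : G →* G')
    (hf : Function.Injective f) (h : PRankLE p k G') : PRankLE p k G := by
  intro A hA hexp
  have h1 : IsMulCommutative (A.map f) := by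
    constructor
    constructor
    rintro ⟨_, a, ha, rfl⟩ ⟨_, b, hb, rfl⟩
    apply Subtype.ext
    have := hA.is_comm.comm ⟨a, ha⟩ ⟨b, hb⟩
    have h2 : a * b = b * a := congrArg Subtype.val this
    show f a * f b = f b * f a
    rw [← map_mul, ← map_mul, h2]
  have h2 : ∀ a ∈ A.map f, a ^ p = 1 := by
    rintro _ ⟨a, ha, rfl⟩
    rw [← map_pow, hexp a ha, map_one]
  have h3 := h (A.map f) h1 h2
  rwa [← Nat.card_congr (A.equivMapOfInjective f hf).toEquiv] at h3


/-- Let H be a subgroup of the finite group G, p a prime, k ≥ 1, P a Sylow p-subgroup of H of p-rank at least k, and suppose N_G(X) ≤ H for every subgroup X ≤ P of p-rank at least k. Then P is a Sylow p-subgroup of G. -/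
theorem result {G : Type*} [Group G] [Finite G] {p : ℕ} [Fact p.Prime] (k : ℕ) (hk : 1 ≤ k) (H : Subgroup G) (P : Sylow p ↥H) (hP : ¬ Cfsg.PRankLE p (k - 1) ↥(P : Subgroup ↥H)) (hΓ : (∀ X : Subgroup G, X ≤ (P : Subgroup ↥H).map H.subtype → ¬ Cfsg.PRankLE p (k - 1) ↥X → Subgroup.normalizer (X : Set G) ≤ H)) : ∃ Q : Sylow p G, (Q : Subgroup G) = (P : Subgroup ↥H).map H.subtype := by
  set P' : Subgroup G := (P : Subgroup ↥H).map H.subtype with hP'
  have hP'p : IsPGroup p P' := P.isPGroup'.map _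
  have hP'H : P' ≤ H := Subgroup.map_subtype_le _
  have hrank : ¬ PRankLE p (k - 1) P' := by
    intro h
    apply hP
    exact pRankLE_of_injective p (k - 1)
      ((P : Subgroup ↥H).equivMapOfInjective H.subtype (Subgroup.subtype_injective H)).toMonoidHom
      (MulEquiv.injective _) h
  have hN : Subgroup.normalizer (P' : Set G) ≤ H := hΓ P' le_rfl hrank
  obtain ⟨Q, hQ⟩ := hP'p.exists_le_sylow
  refine ⟨Q, ?_⟩
  by_contra hne
  have hlt : P' < (Q : Subgroup G) := lt_of_le_of_ne hQ (Ne.symm hne)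
  have hQnil : Group.IsNilpotent (Q : Subgroup G) := Q.isPGroup'.isNilpotent
  have hnc := Group.normalizerCondition_of_isNilpotent (G := (Q : Subgroup G))
  have hlt' : P'.subgroupOf (Q : Subgroup G) < ⊤ := by
    rw [lt_top_iff_ne_top, Ne, Subgroup.subgroupOf_eq_top]
    exact not_le_of_gt hlt
  have h1 := hnc _ hlt'
  obtain ⟨x, hxN, hxP⟩ := SetLike.exists_of_lt h1
  rw [← Subgroup.subgroupOf_normalizer_eq hQ, Subgroup.mem_subgroupOf] at hxN
  rw [Subgroup.mem_subgroupOf] at hxP
  have hxH : (x : G) ∈ H := hN hxN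
  -- the p-subgroup P' ⊔ ⟨x⟩ of H
  set R : Subgroup G := P' ⊔ Subgroup.zpowers (x : G) with hR
  have hRQ : R ≤ (Q : Subgroup G) := sup_le hQ (by rw [Subgroup.zpowers_le]; exact x.2)
  have hRp : IsPGroup p R := Q.isPGroup'.to_le hRQ
  have hRH : R ≤ H := sup_le hP'H (by rw [Subgroup.zpowers_le]; exact hxH)
  have hPR : (P : Subgroup ↥H) ≤ R.subgroupOf H := by
    intro y hy
    rw [Subgroup.mem_subgroupOf]
    exact le_sup_left (a := P') ⟨y, hy, rfl⟩
  have heq : R.subgroupOf H = (P : Subgroup ↥H) := P.is_maximal' (hRp.comap_subtype) hPR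
  have hxR : (⟨(x : G), hxH⟩ : H) ∈ R.subgroupOf H := by
    rw [Subgroup.mem_subgroupOf]
    exact le_sup_right (a := P') (Subgroup.mem_zpowers _)
  rw [heq] at hxR
  exact hxP ⟨_, hxR, rfl⟩

end Cfsg.Agent.S1335
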