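import Cfsg.Statements.S1336
import Cfsg.Agent.Lib.H15.SylowGraph
-- import your own Cfsg.Agent.* helpers here

set_option autoImplicit false
open Cfsg

namespace Cfsg.Agent.S1336

open Cfsg.Agent.Lib.H15

variable {G : Type*} [Group G]

/-- the edge relation of the `1`-connectivity graph -/
def KAdj (p : ℕ) (A B : Subgroup G) : Prop :=
  IsElementaryAbelian p A ∧ p ^ 1 ≤ Nat.card ↥A ∧ IsElementaryAbelian p B ∧
    p ^ 1 ≤ Nat.card ↥B ∧ ∀ a ∈ A, ∀ b ∈ B, a * b = b * a

theorem isElementaryAbelian_zpowers {p : ℕ} {x : G} (hx : x ^ p = 1) :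
    IsElementaryAbelian p (Subgroup.zpowers x) := by
  refine ⟨⟨⟨?_⟩⟩, ?_⟩
  · rintro ⟨_, i, rfl⟩ ⟨_, j, rfl⟩
    apply Subtype.ext
    show x ^ i * x ^ j = x ^ j * x ^ i
    rw [← zpow_add, ← zpow_add, add_comm]
  · rintro _ ⟨k, rfl⟩
    rw [← zpow_natCast, ← zpow_mul, mul_comm, zpow_mul, zpow_natCast, hx, one_zpow]

theorem card_zpowers_of_orderOf {p : ℕ} {x : G} (hx : orderOf x = p) :
    Nat.card (Subgroup.zpowers x) = p := by
  rw [Nat.card_zpowers, hx]

theorem isPGroup_of_elemAb {p : ℕ} {A : Subgroup G} (hA : IsElementaryAbelian p A) :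
    IsPGroup p A := by
  intro a
  refine ⟨1, ?_⟩
  apply Subtype.ext
  simp only [pow_one, Subgroup.coe_pow, Subgroup.coe_one]
  exact hA.2 a a.2

theorem exists_ne_one_of_card {p : ℕ} [hp : Fact p.Prime] [Finite G] {A : Subgroup G}
    (hA : p ^ 1 ≤ Nat.card A) : ∃ a ∈ A, a ≠ 1 := by
  by_contra hcon
  push Not at hcon
  have : A = ⊥ := (Subgroup.eq_bot_iff_forall A).mpr hcon
  rw [this, Subgroup.card_bot, pow_one] at hA
  exact absurd hA (not_le.mpr hp.out.one_lt)

/-- Lemma A -/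
theorem not_kConnected_of_classicalSE [Finite G] {p : ℕ} [hp : Fact p.Prime] {H : Subgroup G}
    (hse : IsClassicalSE p H) : ¬ IsKConnected p 1 G := by
  intro hK
  obtain ⟨hH, hdvd, hcl⟩ := hse
  obtain ⟨x, hx⟩ := exists_prime_orderOf_dvd_card' p hdvd
  have hxo : orderOf (x : G) = p := by rw [Subgroup.orderOf_coe]; exact hx
  have hxp : (x : G) ^ p = 1 := by rw [← hxo]; exact pow_orderOf_eq_one _
  obtain ⟨g, hg⟩ : ∃ g : G, g ∉ H := by
    by_contra hcon
    push Not at hcon
    exact hH (eq_top_iff.mpr fun y _ => hcon y)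
  set E := Subgroup.zpowers (x : G) with hE
  have hEel : IsElementaryAbelian p E := isElementaryAbelian_zpowers hxp
  have hEc : p ^ 1 ≤ Nat.card E := by rw [pow_one, card_zpowers_of_orderOf hxo]
  have hgx : (g * x * g⁻¹) ^ p = 1 := by rw [conj_pow, hxp]; group
  have hgo : orderOf (g * (x : G) * g⁻¹) = p := by
    rw [← hxo]
    exact orderOf_injective (MulAut.conj g).toMonoidHom (MulAut.conj g).injective (x : G)
  set E' := Subgroup.zpowers (g * (x : G) * g⁻¹) with hE'
  have hE'el : IsElementaryAbelian p E' := isElementaryAbelian_zpowers hgx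
  have hE'c : p ^ 1 ≤ Nat.card E' := by rw [pow_one, card_zpowers_of_orderOf hgo]
  have hchain := hK E E' hEel hEc hE'el hE'c
  have hEH : E ≤ H := by rw [hE, Subgroup.zpowers_le]; exact x.2
  have key : ∀ B : Subgroup G, Relation.ReflTransGen
      (fun A B : Subgroup G => IsElementaryAbelian p A ∧ p ^ 1 ≤ Nat.card ↥A ∧
        IsElementaryAbelian p B ∧ p ^ 1 ≤ Nat.card ↥B ∧ ∀ a ∈ A, ∀ b ∈ B, a * b = b * a) E B →
      B ≤ H := by
    intro B hB
    induction hB with
    | refl => exact hEH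
    | tail _ hab ih =>
      obtain ⟨hA1, hA2, hB1, hB2, hcomm⟩ := hab
      obtain ⟨a, ha, ha1⟩ := exists_ne_one_of_card hA2
      have hse' : IsClassicalSE p H := ⟨hH, hdvd, hcl⟩
      have hQ : IsPGroup p (Subgroup.zpowers a) :=
        isPGroup_of_elemAb (isElementaryAbelian_zpowers (hA1.2 a ha))
      have hQH : Subgroup.zpowers a ≤ H := by rw [Subgroup.zpowers_le]; exact ih ha
      have hQne : Subgroup.zpowers a ≠ ⊥ := by
        intro h0
        exact ha1 (Subgroup.zpowers_eq_bot.mp h0)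
      have hN := hse'.normalizer_le hQH hQ hQne
      intro b hb
      apply hN
      apply Subgroup.centralizer_le_normalizer
      rw [Subgroup.mem_centralizer_iff]
      rintro _ ⟨k, rfl⟩
      have : Commute a b := hcomm a ha b hb
      exact (this.zpow_left k).eq
  have hE'H := key E' hchain
  apply hcl g hg
  have hle : E' ≤ H ⊓ H.map (MulAut.conj g).toMonoidHom := by
    refine le_inf hE'H ?_
    rw [hE', Subgroup.zpowers_le]
    exact ⟨x, x.2, rfl⟩
  have h1 : p ∣ Nat.card E' := by rw [card_zpowers_of_orderOf hgo]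
  exact h1.trans (Subgroup.card_dvd_of_le hle)

theorem exists_central_order_p [Finite G] {p : ℕ} [hp : Fact p.Prime] (S : Subgroup G)
    (hS : IsPGroup p S) (hne : S ≠ ⊥) :
    ∃ z ∈ S, orderOf z = p ∧ ∀ s ∈ S, s * z = z * s := by
  have hnt : Nontrivial S := (Subgroup.nontrivial_iff_ne_bot S).mpr hne
  have hc : Nontrivial (Subgroup.center S) := hS.center_nontrivial
  have hcp : IsPGroup p (Subgroup.center S) := hS.to_subgroup _
  have hcne : Subgroup.center S ≠ ⊥ := (Subgroup.nontrivial_iff_ne_bot _).mp hc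
  have hdvd : p ∣ Nat.card (Subgroup.center S) := dvd_card_of_isPGroup_ne_bot hcp hcne
  obtain ⟨z, hz⟩ := exists_prime_orderOf_dvd_card' p hdvd
  refine ⟨((z : S) : G), (z : S).2, ?_, ?_⟩
  · rw [Subgroup.orderOf_coe, Subgroup.orderOf_coe]; exact hz
  · intro s hs
    have := (Subgroup.mem_center_iff.mp z.2) ⟨s, hs⟩
    exact congrArg Subtype.val this

/-- inside a `p`-subgroup `S` with a central element `z` of order `p`, every vertex is adjacent
to `⟨z⟩`. -/
theorem kAdj_central {p : ℕ} {S A : Subgroup G} {z : G} (hzo : orderOf z = p)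
    (hzc : ∀ s ∈ S, s * z = z * s) (hAS : A ≤ S) (hA : IsElementaryAbelian p A)
    (hAc : p ^ 1 ≤ Nat.card A) : KAdj p A (Subgroup.zpowers z) := by
  have hzp : z ^ p = 1 := by rw [← hzo]; exact pow_orderOf_eq_one _
  refine ⟨hA, hAc, isElementaryAbelian_zpowers hzp, ?_, ?_⟩
  · rw [pow_one, card_zpowers_of_orderOf hzo]
  · rintro a ha _ ⟨k, rfl⟩
    have : Commute a z := hzc a (hAS ha)
    exact (this.zpow_right k).eq

theorem kAdj_symm {p : ℕ} {A B : Subgroup G} (h : KAdj p A B) : KAdj p B A :=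
  ⟨h.2.2.1, h.2.2.2.1, h.1, h.2.1, fun b hb a ha => (h.2.2.2.2 a ha b hb).symm⟩

theorem kReach_in_pgroup [Finite G] {p : ℕ} [hp : Fact p.Prime] {S A B : Subgroup G}
    (hS : IsPGroup p S) (hAS : A ≤ S) (hA : IsElementaryAbelian p A) (hAc : p ^ 1 ≤ Nat.card A)
    (hBS : B ≤ S) (hB : IsElementaryAbelian p B) (hBc : p ^ 1 ≤ Nat.card B) :
    Relation.ReflTransGen (KAdj p) A B := by
  have hne : S ≠ ⊥ := by
    obtain ⟨a, ha, ha1⟩ := exists_ne_one_of_card hAc
    intro h0
    rw [h0] at hAS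
    exact ha1 ((Subgroup.mem_bot).mp (hAS ha))
  obtain ⟨z, hzS, hzo, hzc⟩ := exists_central_order_p S hS hne
  exact Relation.ReflTransGen.tail
    (Relation.ReflTransGen.single (kAdj_central hzo hzc hAS hA hAc))
    (kAdj_symm (kAdj_central hzo hzc hBS hB hBc))

/-- Lemma B -/
theorem kConnected_of_chainConnected [Finite G] {p : ℕ} [hp : Fact p.Prime]
    (h : IsSylowChainConnected p G) : IsKConnected p 1 G := by
  rw [isSylowChainConnected_iff] at h
  intro E E' hE hEc hE' hE'c
  change Relation.ReflTransGen (KAdj p) E E'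
  obtain ⟨S, hES⟩ := (isPGroup_of_elemAb hE).exists_le_sylow
  obtain ⟨T, hE'T⟩ := (isPGroup_of_elemAb hE').exists_le_sylow
  have key : ∀ T : Sylow p G, sylConn S T → ∀ B : Subgroup G, B ≤ (T : Subgroup G) →
      IsElementaryAbelian p B → p ^ 1 ≤ Nat.card B → Relation.ReflTransGen (KAdj p) E B := by
    intro T hST
    induction hST with
    | refl =>
      intro B hBS hB hBc
      exact kReach_in_pgroup S.2 hES hE hEc hBS hB hBc
    | @tail T₁ T₂ _ hab ih =>
      intro B hBT hB hBc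
      obtain ⟨x, hx1, hxT₁, hxT₂⟩ := inf_ne_bot_iff.mp hab.2
      -- an element of order p in ⟨x⟩
      have hxp : IsPGroup p (Subgroup.zpowers x) :=
        T₁.2.to_le (by rw [Subgroup.zpowers_le]; exact hxT₁)
      have hxne : Subgroup.zpowers x ≠ ⊥ := fun h0 => hx1 (Subgroup.zpowers_eq_bot.mp h0)
      have hdvd : p ∣ Nat.card (Subgroup.zpowers x) := dvd_card_of_isPGroup_ne_bot hxp hxne
      obtain ⟨d, hd⟩ := exists_prime_orderOf_dvd_card' p hdvd
      have hdo : orderOf (d : G) = p := by rw [Subgroup.orderOf_coe]; exact hd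
      have hdp : (d : G) ^ p = 1 := by rw [← hdo]; exact pow_orderOf_eq_one _
      have hD1 : Subgroup.zpowers (d : G) ≤ (T₁ : Subgroup G) := by
        rw [Subgroup.zpowers_le]
        exact (Subgroup.zpowers_le.mpr hxT₁) d.2
      have hD2 : Subgroup.zpowers (d : G) ≤ (T₂ : Subgroup G) := by
        rw [Subgroup.zpowers_le]
        exact (Subgroup.zpowers_le.mpr hxT₂) d.2
      have hDel := isElementaryAbelian_zpowers hdp
      have hDc : p ^ 1 ≤ Nat.card (Subgroup.zpowers (d : G)) := by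
        rw [pow_one, card_zpowers_of_orderOf hdo]
      exact (ih _ hD1 hDel hDc).trans (kReach_in_pgroup T₂.2 hD2 hDel hDc hBT hB hBc)
  exact key T (h S T) E' hE'T hE' hE'c


/-- Let G be finite and p prime. Then G has a proper subgroup H with p ∣ |H| and p ∤ |H ∩ gHg⁻¹| for every g ∉ H (a strongly p-embedded subgroup) if and only if G is not 1-connected for p. -/
theorem result {G : Type*} [Group G] [Finite G] (p : ℕ) [Fact p.Prime] : (∃ H : Subgroup G, H ≠ ⊤ ∧ p ∣ Nat.card ↥H ∧ ∀ g : G, g ∉ H → ¬ p ∣ Nat.card ↥(H ⊓ H.map (MulAut.conj g).toMonoidHom)) ↔ ¬ Cfsg.IsKConnected p 1 G := by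
  constructor
  · rintro ⟨H, hH⟩
    exact not_kConnected_of_classicalSE hH
  · intro hK
    have h1 : ¬ IsSylowChainConnected p G := fun h => hK (kConnected_of_chainConnected h)
    obtain ⟨H, hH⟩ := not_connected_iff_exists_classicalSE.mp h1
    exact ⟨H, hH⟩


end Cfsg.Agent.S1336
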