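import Cfsg.Statements.S1337
import Cfsg.Agent.Lib.H3.Thompson
import Cfsg.Agent.Lib.H19.HallPi
import Cfsg.Agent.Lib.H10.LocalGlobalGen
import Cfsg.Agent.Lib.H16.NormalFour
import Cfsg.Agent.Lib.H22.NormalSeries
import Cfsg.Agent.Lib.H22.MaxNormalAbelian
import Cfsg.Agent.Lib.H22.UniqueOrderP
import Cfsg.Agent.Lib.H8.PGroup
-- import your own Cfsg.Agent.* helpers here

set_option autoImplicit false
open Cfsg

namespace Cfsg.Agent.S1337

open Cfsg.Agent.Lib

/-- Adjoining a centralizing involution to an elementary abelian subgroup of order 2. -/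
theorem extend2 {X : Type*} [Group X] [Finite X] (V : Subgroup X)
    (hV : Cfsg.IsElementaryAbelian 2 V) (hV2 : Nat.card V = 2)
    (e : X) (he2 : e ^ 2 = 1) (heC : e ∈ Subgroup.centralizer (V : Set X)) (heV : e ∉ V) :
    Cfsg.IsElementaryAbelian 2 (V ⊔ Subgroup.zpowers e) ∧
      Nat.card (V ⊔ Subgroup.zpowers e : Subgroup X) = 4 := by
  have hzc : Subgroup.zpowers e ≤ Subgroup.centralizer (V : Set X) := by
    rw [Subgroup.zpowers_le]; exact heC
  refine ⟨H3.elemAb_sup hV (H3.elemAb_zpowers he2) hzc, ?_⟩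
  have hzn : Subgroup.zpowers e ≤ Subgroup.normalizer (V : Set X) :=
    hzc.trans (Subgroup.centralizer_le_normalizer (V : Set X))
  have h1 : Nat.card (Subgroup.zpowers e ⊔ V : Subgroup X) ∣
      Nat.card (Subgroup.zpowers e) * Nat.card V :=
    H19.card_sup_dvd_mul_of_le_normalizer hzn
  rw [sup_comm] at h1
  have hz : Nat.card (Subgroup.zpowers e) ∣ 2 := by
    rw [Nat.card_zpowers]; exact orderOf_dvd_of_pow_eq_one he2
  have h2 : Nat.card (V ⊔ Subgroup.zpowers e : Subgroup X) ∣ 4 := by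
    refine dvd_trans h1 ?_
    rw [hV2]
    exact Nat.mul_dvd_mul_right hz 2 |>.trans (by norm_num)
  have hlt : V < V ⊔ Subgroup.zpowers e := by
    refine lt_of_le_of_ne le_sup_left ?_
    intro h
    apply heV
    rw [h]
    exact Subgroup.mem_sup_right (Subgroup.mem_zpowers e)
  have h3 : Nat.card V < Nat.card (V ⊔ Subgroup.zpowers e : Subgroup X) :=
    H10.card_lt_card_of_lt hlt
  have h4 : Nat.card V ∣ Nat.card (V ⊔ Subgroup.zpowers e : Subgroup X) :=
    Subgroup.card_dvd_of_le hlt.le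
  rw [hV2] at h3 h4
  have hle : Nat.card (V ⊔ Subgroup.zpowers e : Subgroup X) ≤ 4 :=
    Nat.le_of_dvd (by norm_num) h2
  generalize Nat.card (V ⊔ Subgroup.zpowers e : Subgroup X) = t at *
  interval_cases t <;> omega

section
variable {P : Type*} [Group P]

/-- `Ω₁` of an abelian subgroup. -/
def omegaP (p : ℕ) (A : Subgroup P) (hA : ∀ x ∈ A, ∀ y ∈ A, x * y = y * x) : Subgroup P where
  carrier := {x | x ∈ A ∧ x ^ p = 1}
  mul_mem' := by
    rintro x y ⟨hx, hx2⟩ ⟨hy, hy2⟩
    refine ⟨A.mul_mem hx hy, ?_⟩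
    rw [(show Commute x y from hA x hx y hy).mul_pow, hx2, hy2, one_mul]
  one_mem' := ⟨A.one_mem, one_pow _⟩
  inv_mem' := by
    rintro x ⟨hx, hx2⟩
    exact ⟨A.inv_mem hx, by rw [inv_pow, hx2, inv_one]⟩

theorem mem_omegaP {p : ℕ} {A : Subgroup P} {hA : ∀ x ∈ A, ∀ y ∈ A, x * y = y * x} {x : P} :
    x ∈ omegaP p A hA ↔ x ∈ A ∧ x ^ p = 1 := Iff.rfl

theorem omegaP_normal (p : ℕ) (A : Subgroup P) (hA : ∀ x ∈ A, ∀ y ∈ A, x * y = y * x) [hn : A.Normal] :
    (omegaP p A hA).Normal := by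
  constructor
  rintro x ⟨hx, hx2⟩ g
  refine ⟨hn.conj_mem x hx g, ?_⟩
  rw [conj_pow, hx2, mul_one, mul_inv_cancel]

theorem omegaP_elemAb (p : ℕ) (A : Subgroup P) (hA : ∀ x ∈ A, ∀ y ∈ A, x * y = y * x) :
    Cfsg.IsElementaryAbelian p (omegaP p A hA) := by
  refine ⟨⟨⟨fun a b => Subtype.ext (hA a a.2.1 b b.2.1)⟩⟩, fun a ha => ha.2⟩

theorem card_le_of_isCyclic_of_pow {G : Type*} [Group G] [Finite G] [hc : IsCyclic G] (p : ℕ)
    (hp : 0 < p) (h : ∀ x : G, x ^ p = 1) : Nat.card G ≤ p := by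
  obtain ⟨g, hg⟩ := IsCyclic.exists_generator (α := G)
  rw [← orderOf_eq_card_of_forall_mem_zpowers hg]
  exact Nat.le_of_dvd hp (orderOf_dvd_of_pow_eq_one (h g))

variable [Finite P]

theorem card_le_sq_of_cyclic_selfCentralizing {p : ℕ} [hp : Fact p.Prime] (hp2 : p ≠ 2)
    (hP : IsPGroup p P) (A : Subgroup P) [hAn : A.Normal] (hcyc : IsCyclic A)
    (hCA : Subgroup.centralizer (A : Set P) = A)
    (E : Subgroup P) (hE : Cfsg.IsElementaryAbelian p E) : Nat.card E ≤ p ^ 2 := by
  obtain ⟨m, hm⟩ := IsPGroup.iff_card.mp (hP.to_subgroup A)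
  have hAutCyc : IsCyclic (MulAut ↥A) := by
    have h1 : IsCyclic (ZMod (Nat.card ↥A))ˣ := by
      rw [hm]; exact ZMod.isCyclic_units_of_prime_pow p hp.out hp2 m
    exact (IsCyclic.mulAutMulEquiv ↥A).isCyclic.mpr h1
  let ψ : ↥E →* MulAut ↥A := (MulAut.conjNormal (H := A)).comp E.subtype
  have hker : Nat.card ψ.ker ≤ p := by
    have hcycEA : IsCyclic ↥(E ⊓ A : Subgroup P) := Subgroup.isCyclic_of_le (inf_le_right : E ⊓ A ≤ A)
    have h1 : Nat.card ↥(E ⊓ A : Subgroup P) ≤ p := by
      apply card_le_of_isCyclic_of_pow p hp.out.pos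
      intro x
      apply Subtype.ext
      have := hE.2 x x.2.1
      simpa using this
    have hkA : ∀ k : ↥E, ψ k = 1 → (k : P) ∈ A := by
      intro k hk
      have hc : (k : P) ∈ Subgroup.centralizer (A : Set P) := by
        rw [Subgroup.mem_centralizer_iff]
        intro a ha
        have h2 : ψ k ⟨a, ha⟩ = ⟨a, ha⟩ := by rw [hk]; rfl
        have h3 := congrArg Subtype.val h2
        have h4 : (k : P) * a * (k : P)⁻¹ = a := h3
        calc a * (k : P) = ((k : P) * a * (k : P)⁻¹) * (k : P) := by rw [h4]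
          _ = (k : P) * a := by group
      exact hCA.le hc
    refine le_trans ?_ h1
    apply Nat.card_le_card_of_injective
      (fun k : ψ.ker => (⟨((k : ↥E) : P), ⟨(k : ↥E).2, hkA k (MonoidHom.mem_ker.mp k.2)⟩⟩ :
        ↥(E ⊓ A : Subgroup P)))
    intro k1 k2 h
    have := congrArg (fun c : ↥(E ⊓ A : Subgroup P) => (c : P)) h
    exact Subtype.ext (Subtype.ext this)
  have hrange : Nat.card ψ.range ≤ p := by
    apply card_le_of_isCyclic_of_pow p hp.out.pos
    rintro ⟨_, e, rfl⟩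
    apply Subtype.ext
    show (ψ e) ^ p = 1
    rw [← map_pow]
    have : e ^ p = 1 := by
      apply Subtype.ext
      have := hE.2 e e.2
      simpa using this
    rw [this, map_one]
  have hcard : Nat.card E = Nat.card ψ.ker * Nat.card ψ.range := by
    rw [← Subgroup.index_ker, Subgroup.card_mul_index]
  rw [hcard, pow_two]
  exact Nat.mul_le_mul hker hrange

/-- A finite `p`-group of rank at least 3 has a normal elementary abelian subgroup of order `p²`
(odd `p`). -/
theorem exists_normal_sq_odd {p : ℕ} [hp : Fact p.Prime] (hp2 : p ≠ 2)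
    (hP : IsPGroup p P) (E : Subgroup P) (hE : Cfsg.IsElementaryAbelian p E)
    (hEc : p ^ 2 < Nat.card E) :
    ∃ U : Subgroup P, U.Normal ∧ Cfsg.IsElementaryAbelian p U ∧ Nat.card U = p ^ 2 := by
  have hbotc : IsMulCommutative (⊥ : Subgroup P) := ⟨⟨fun a b => Subsingleton.elim _ _⟩⟩
  obtain ⟨A, -, hAn, hAc, hCA⟩ := H8.exists_normal_selfCentralizing hP ⊥
  have hAcomm : ∀ x ∈ A, ∀ y ∈ A, x * y = y * x := fun x hx y hy =>
    congrArg Subtype.val (hAc.is_comm.comm (⟨x, hx⟩ : A) ⟨y, hy⟩)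
  have hΩn := omegaP_normal p A hAcomm
  by_cases hbig : p ^ 2 ≤ Nat.card (omegaP p A hAcomm)
  · obtain ⟨M, hMn, hMle, hMc⟩ := H22.exists_normal_card_pow hP (omegaP p A hAcomm) 2 hbig
    exact ⟨M, hMn, H3.elemAb_mono hMle (omegaP_elemAb p A hAcomm), hMc⟩
  · exfalso
    push Not at hbig
    -- `Ω₁(A)` has order at most `p`
    have hΩp : Nat.card (omegaP p A hAcomm) ≤ p := by
      obtain ⟨j, hj⟩ := IsPGroup.iff_card.mp (hP.to_subgroup (omegaP p A hAcomm))
      rw [hj] at hbig ⊢
      have : j < 2 := (Nat.pow_lt_pow_iff_right hp.out.one_lt).mp hbig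
      calc p ^ j ≤ p ^ 1 := Nat.pow_le_pow_right hp.out.pos (by omega)
        _ = p := pow_one p
    have huniq : H22.AtMostOneOrderP p ↥A := by
      have key : ∀ H : Subgroup ↥A, Nat.card H = p → H.map A.subtype = omegaP p A hAcomm := by
        intro H hH
        have hle : H.map A.subtype ≤ omegaP p A hAcomm := by
          rintro _ ⟨h, hh, rfl⟩
          refine ⟨h.2, ?_⟩
          have h1 : (⟨h, hh⟩ : ↥H) ^ p = 1 := by
            rw [← hH]; exact pow_card_eq_one'
          have h2 := congrArg (fun x : ↥H => ((x : ↥A) : P)) h1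
          simpa using h2
        apply Subgroup.eq_of_le_of_card_ge hle
        rw [H3.card_map_subtype, hH]; exact hΩp
      intro H K hH hK
      have := (key H hH).trans (key K hK).symm
      exact Subgroup.map_injective A.subtype_injective this
    have hcyc : IsCyclic ↥A :=
      H22.isCyclic_of_comm_of_atMostOne (hP.to_subgroup A) huniq
        (fun a b => Subtype.ext (hAcomm a a.2 b b.2))
    have := card_le_sq_of_cyclic_selfCentralizing hp2 hP A hcyc hCA E hE
    omega

theorem exists_normal_sq_two 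
    (hP : IsPGroup 2 P) (E : Subgroup P) (hE : Cfsg.IsElementaryAbelian 2 E)
    (hEc : 2 ^ 2 < Nat.card E) :
    ∃ U : Subgroup P, U.Normal ∧ Cfsg.IsElementaryAbelian 2 U ∧ Nat.card U = 2 ^ 2 := by
  have hp : Fact (Nat.Prime 2) := ⟨Nat.prime_two⟩
  -- a subgroup of order 8
  obtain ⟨n, hn⟩ := IsPGroup.iff_card.mp (H3.elemAb_isPGroup hE)
  have hn3 : 3 ≤ n := by
    rw [hn] at hEc
    have : 2 < n := (Nat.pow_lt_pow_iff_right (by norm_num : 1 < 2)).mp hEc
    omega
  have hdvd : 2 ^ 3 ∣ Nat.card ↥E := by rw [hn]; exact pow_dvd_pow 2 hn3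
  obtain ⟨E', hE'⟩ := Sylow.exists_subgroup_card_pow_prime 2 hdvd
  set E8 := E'.map E.subtype with hE8
  have hE8c : Nat.card E8 = 8 := by rw [hE8, H3.card_map_subtype, hE']; norm_num
  have hE8le : E8 ≤ E := Subgroup.map_subtype_le _
  obtain ⟨z, u, hzc, hz1, hz2, hu2, hu1, huz, hconj⟩ :=
    H16.exists_normal_four_data hP E8 hE8c (fun e he => hE.2 e (hE8le he))
  have hzcent : ∀ g : P, g * z = z * g := fun g => Subgroup.mem_center_iff.mp hzc g
  have hV : Cfsg.IsElementaryAbelian 2 (Subgroup.zpowers z) := H3.elemAb_zpowers hz2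
  have hV2 : Nat.card (Subgroup.zpowers z) = 2 := by
    rw [Nat.card_zpowers]
    exact orderOf_eq_prime hz2 hz1
  have huC : u ∈ Subgroup.centralizer ((Subgroup.zpowers z : Subgroup P) : Set P) := by
    rw [Subgroup.mem_centralizer_iff]
    intro h hh
    obtain ⟨k, rfl⟩ := Subgroup.mem_zpowers_iff.mp hh
    have : Commute u (z ^ k) := (show Commute u z from hzcent u).zpow_right k
    exact this.symm
  have huV : u ∉ Subgroup.zpowers z := by
    intro h
    obtain ⟨k, hk⟩ := Subgroup.mem_zpowers_iff.mp h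
    have hz2' : z ^ (2 : ℤ) = 1 := by exact_mod_cast hz2
    rcases Int.emod_two_eq_zero_or_one k with h0 | h1
    · have : z ^ k = 1 := by
        rw [← Int.mul_ediv_add_emod k 2, h0, add_zero, zpow_mul, hz2', one_zpow]
      exact hu1 (hk.symm.trans this)
    · have : z ^ k = z := by
        rw [← Int.mul_ediv_add_emod k 2, h1, zpow_add, zpow_mul, hz2', one_zpow, one_mul, zpow_one]
      exact huz (hk.symm.trans this)
  obtain ⟨hUel, hUc⟩ := extend2 (Subgroup.zpowers z) hV hV2 u hu2 huC huV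
  refine ⟨Subgroup.zpowers z ⊔ Subgroup.zpowers u, ?_, hUel, by rw [hUc]; norm_num⟩
  set U := Subgroup.zpowers z ⊔ Subgroup.zpowers u with hU
  have hzU : z ∈ U := Subgroup.mem_sup_left (Subgroup.mem_zpowers z)
  have huU : u ∈ U := Subgroup.mem_sup_right (Subgroup.mem_zpowers u)
  constructor
  intro x hx g
  have hmap : U ≤ U.comap (MulAut.conj g).toMonoidHom := by
    rw [hU]
    apply sup_le
    · rw [Subgroup.zpowers_le]
      show g * z * g⁻¹ ∈ U
      rw [hzcent g, mul_inv_cancel_right]; exact hzU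
    · rw [Subgroup.zpowers_le]
      show g * u * g⁻¹ ∈ U
      rcases hconj g with h | h
      · rw [h]; exact huU
      · rw [h]; exact U.mul_mem huU hzU
  exact hmap hx

theorem exists_normal_sq {p : ℕ} [hp : Fact p.Prime]
    (hP : IsPGroup p P) (E : Subgroup P) (hE : Cfsg.IsElementaryAbelian p E)
    (hEc : p ^ 2 < Nat.card E) :
    ∃ U : Subgroup P, U.Normal ∧ Cfsg.IsElementaryAbelian p U ∧ Nat.card U = p ^ 2 := by
  by_cases hp2 : p = 2
  · subst hp2
    exact exists_normal_sq_two hP E hE hEc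
  · exact exists_normal_sq_odd hp2 hP E hE hEc

theorem not_prank_of_le {p : ℕ} (X D : Subgroup P) (hD : Cfsg.IsElementaryAbelian p D)
    (hDX : D ≤ Subgroup.centralizer (X : Set P)) (hc : p ^ 2 < Nat.card D) :
    ¬ Cfsg.PRankLE p 2 ↥(Subgroup.centralizer (X : Set P)) := by
  intro h
  have h1 := h (D.subgroupOf (Subgroup.centralizer (X : Set P)))
    (H3.elemAb_subgroupOf _ hD).1 (H3.elemAb_subgroupOf _ hD).2
  rw [H3.card_subgroupOf_of_le hDX] at h1
  omega

end


/-- Let P be a finite p-group of p-rank greater than 2. Then P has a normal elementary abelian subgroup U of order p², and for every elementary abelian X ≤ P with |X| ≥ p²: X is joined to U by a chain of pairwise commuting elementary abelian subgroups of order ≥ p² if and only if C_P(X) has p-rank greater than 2. -/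
theorem result {P : Type*} [Group P] [Finite P] (p : ℕ) [Fact p.Prime] (hP : IsPGroup p P) (hrk : ¬ Cfsg.PRankLE p 2 P) : ∃ U : Subgroup P, U.Normal ∧ Cfsg.IsElementaryAbelian p U ∧ Nat.card ↥U = p ^ 2 ∧ ∀ X : Subgroup P, Cfsg.IsElementaryAbelian p X → p ^ 2 ≤ Nat.card ↥X → (Relation.ReflTransGen (fun A B : Subgroup P => Cfsg.IsElementaryAbelian p A ∧ p ^ 2 ≤ Nat.card ↥A ∧ Cfsg.IsElementaryAbelian p B ∧ p ^ 2 ≤ Nat.card ↥B ∧ ∀ a ∈ A, ∀ b ∈ B, a * b = b * a) X U ↔ ¬ Cfsg.PRankLE p 2 ↥(Subgroup.centralizer (X : Set P))) := by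
  classical
  have hp : Nat.Prime p := Fact.out
  have hex : ∃ E : Subgroup P, Cfsg.IsElementaryAbelian p E ∧ p ^ 2 < Nat.card E := by
    by_contra hno
    push Not at hno
    exact hrk (fun A hA1 hA2 => hno A ⟨hA1, hA2⟩)
  obtain ⟨E, hE, hEc⟩ := hex
  obtain ⟨U, hUn, hUel, hUc⟩ := exists_normal_sq hP E hE hEc
  refine ⟨U, hUn, hUel, hUc, ?_⟩
  have comm_of : ∀ {A : Subgroup P}, Cfsg.IsElementaryAbelian p A → ∀ a ∈ A, ∀ b ∈ A, a * b = b * a := by
    intro A hA a ha b hb
    have := hA.1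
    exact congrArg Subtype.val (mul_comm' (⟨a, ha⟩ : ↥A) ⟨b, hb⟩)
  have hUcomm := comm_of hUel
  obtain ⟨M, hMn, hMle, hMc, hMidx⟩ :=
    H22.exists_normal_index_centralizer_le hP U hUcomm 2 (by rw [hUc])
  have hMU : M = U := Subgroup.eq_of_le_of_card_ge hMle (by rw [hMc, hUc])
  rw [hMU] at hMidx
  have hidx : (Subgroup.centralizer (U : Set P)).index ≤ p := by simpa using hMidx
  have hCn : (Subgroup.centralizer (U : Set P)).Normal := Subgroup.normal_centralizer
  have hkey : ∀ D : Subgroup P,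
      Nat.card D ≤ p * Nat.card (D ⊓ Subgroup.centralizer (U : Set P) : Subgroup P) := by
    intro D
    have h1 := H3.relIndex_mul_card_inf D (Subgroup.centralizer (U : Set P))
    have h2 : (Subgroup.centralizer (U : Set P)).relIndex D ∣ (Subgroup.centralizer (U : Set P)).index :=
      Subgroup.relIndex_dvd_index_of_normal _ _
    have hpos : 0 < (Subgroup.centralizer (U : Set P)).index :=
      Nat.pos_of_ne_zero Subgroup.index_ne_zero_of_finite
    have h3 : (Subgroup.centralizer (U : Set P)).relIndex D ≤ p := (Nat.le_of_dvd hpos h2).trans hidx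
    rw [← h1]; exact Nat.mul_le_mul_right _ h3
  have hpow : ∀ D : Subgroup P, p < Nat.card D → p ^ 2 ≤ Nat.card D := by
    intro D hD
    obtain ⟨j, hj⟩ := IsPGroup.iff_card.mp (hP.to_subgroup D)
    rw [hj] at hD ⊢
    have : 1 < j := by
      by_contra h
      push Not at h
      have h' : p ^ j ≤ p ^ 1 := Nat.pow_le_pow_right hp.pos h
      rw [pow_one] at h'; omega
    exact Nat.pow_le_pow_right hp.pos this
  have hbase : ¬ Cfsg.PRankLE p 2 ↥(Subgroup.centralizer (U : Set P)) := by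
    by_cases hUE : U ≤ E
    · apply not_prank_of_le U E hE _ hEc
      intro e he
      rw [Subgroup.mem_centralizer_iff]
      intro u hu
      exact comm_of hE u (hUE hu) e he
    · set E₀ := E ⊓ Subgroup.centralizer (U : Set P) with hE₀
      have h1 : Nat.card E ≤ p * Nat.card E₀ := hkey E
      have hE₀c : p ^ 2 ≤ Nat.card E₀ := by
        apply hpow
        by_contra hlt
        push Not at hlt
        have : p * Nat.card E₀ ≤ p * p := Nat.mul_le_mul_left _ hlt
        rw [pow_two] at hEc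
        omega
      have hDel : Cfsg.IsElementaryAbelian p (U ⊔ E₀) :=
        H3.elemAb_sup hUel (H3.elemAb_mono inf_le_left hE) inf_le_right
      have hDle : U ⊔ E₀ ≤ Subgroup.centralizer (U : Set P) :=
        sup_le (Subgroup.le_centralizer_iff_isMulCommutative.mpr hUel.1) inf_le_right
      have hlt : E₀ < U ⊔ E₀ := by
        refine lt_of_le_of_ne le_sup_right ?_
        intro h
        apply hUE
        have : U ≤ E₀ := by rw [h]; exact le_sup_left
        exact this.trans inf_le_left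
      have := H10.card_lt_card_of_lt hlt
      exact not_prank_of_le U _ hDel hDle (by omega)
  have hfwd : ∀ X : Subgroup P, Relation.ReflTransGen (fun A B : Subgroup P => Cfsg.IsElementaryAbelian p A ∧ p ^ 2 ≤ Nat.card ↥A ∧ Cfsg.IsElementaryAbelian p B ∧ p ^ 2 ≤ Nat.card ↥B ∧ ∀ a ∈ A, ∀ b ∈ B, a * b = b * a) X U →
      ¬ Cfsg.PRankLE p 2 ↥(Subgroup.centralizer (X : Set P)) := by
    intro X h
    refine Relation.ReflTransGen.head_induction_on h hbase ?_
    · intro X' C h' _ ih
      obtain ⟨hX', hX'c, hC, hCc, hcomm⟩ := h'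
      by_cases hXC : X' = C
      · rw [hXC]; exact ih
      · have hCle : C ≤ Subgroup.centralizer (X' : Set P) := by
          intro c hc
          rw [Subgroup.mem_centralizer_iff]
          intro x hx
          exact hcomm x hx c hc
        have hDel : Cfsg.IsElementaryAbelian p (X' ⊔ C) := H3.elemAb_sup hX' hC hCle
        have hDle : X' ⊔ C ≤ Subgroup.centralizer (X' : Set P) :=
          sup_le (Subgroup.le_centralizer_iff_isMulCommutative.mpr hX'.1) hCle
        apply not_prank_of_le X' _ hDel hDle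
        by_contra hle
        push Not at hle
        have e1 : X' = X' ⊔ C := Subgroup.eq_of_le_of_card_ge le_sup_left (hle.trans hX'c)
        have e2 : C = X' ⊔ C := Subgroup.eq_of_le_of_card_ge le_sup_right (hle.trans hCc)
        exact hXC (e1.trans e2.symm)
  intro X hX hXc
  constructor
  · exact hfwd X
  · intro hr
    have hex : ∃ B : Subgroup ↥(Subgroup.centralizer (X : Set P)), Cfsg.IsElementaryAbelian p B ∧
        p ^ 2 < Nat.card B := by
      by_contra hno
      push Not at hno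
      exact hr (fun A hA1 hA2 => hno A ⟨hA1, hA2⟩)
    obtain ⟨B, hB, hBc⟩ := hex
    set B' := B.map (Subgroup.centralizer (X : Set P)).subtype with hB'
    have hB'el : Cfsg.IsElementaryAbelian p B' := H3.elemAb_map _ hB
    have hB'c : Nat.card B' = Nat.card B := H3.card_map_subtype B
    have hB'le : B' ≤ Subgroup.centralizer (X : Set P) := Subgroup.map_subtype_le _
    have hDel : Cfsg.IsElementaryAbelian p (X ⊔ B') := H3.elemAb_sup hX hB'el hB'le
    set D' := (X ⊔ B') ⊓ Subgroup.centralizer (U : Set P) with hD'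
    have hD'el : Cfsg.IsElementaryAbelian p D' := H3.elemAb_mono inf_le_left hDel
    have hDc : p ^ 2 < Nat.card (X ⊔ B' : Subgroup P) := by
      have : Nat.card B' ≤ Nat.card (X ⊔ B' : Subgroup P) := Subgroup.card_le_of_le le_sup_right
      omega
    have hD'c : p ^ 2 ≤ Nat.card D' := by
      apply hpow
      have h1 : Nat.card (X ⊔ B' : Subgroup P) ≤ p * Nat.card D' := hkey (X ⊔ B')
      by_contra hlt
      push Not at hlt
      have : p * Nat.card D' ≤ p * p := Nat.mul_le_mul_left _ hlt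
      rw [pow_two] at hDc
      omega
    have hR1 : (fun A B : Subgroup P => Cfsg.IsElementaryAbelian p A ∧ p ^ 2 ≤ Nat.card ↥A ∧ Cfsg.IsElementaryAbelian p B ∧ p ^ 2 ≤ Nat.card ↥B ∧ ∀ a ∈ A, ∀ b ∈ B, a * b = b * a) X D' := by
      refine ⟨hX, hXc, hD'el, hD'c, ?_⟩
      intro a ha b hb
      exact comm_of hDel a (Subgroup.mem_sup_left ha) b hb.1
    have hR2 : (fun A B : Subgroup P => Cfsg.IsElementaryAbelian p A ∧ p ^ 2 ≤ Nat.card ↥A ∧ Cfsg.IsElementaryAbelian p B ∧ p ^ 2 ≤ Nat.card ↥B ∧ ∀ a ∈ A, ∀ b ∈ B, a * b = b * a) D' U := by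
      refine ⟨hD'el, hD'c, hUel, le_of_eq hUc.symm, ?_⟩
      intro a ha b hb
      exact ((Subgroup.mem_centralizer_iff.mp ha.2) b hb).symm
    exact Relation.ReflTransGen.head hR1 (Relation.ReflTransGen.single hR2)


end Cfsg.Agent.S1337
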