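import Cfsg.Statements.S1338
import Mathlib
import Cfsg.Agent.S0122
import Cfsg.Agent.Lib.H1.NilpotentBasic
import Cfsg.Agent.Lib.H3.Thompson
import Cfsg.Agent.Lib.H6.NilpCount

set_option autoImplicit false
open Cfsg

namespace Cfsg.Agent.S1338

/-- the edge relation of the commuting graph -/
def Rel {P : Type*} [Group P] (A B : Subgroup P) : Prop :=
  IsElementaryAbelian 3 A ∧ 3 ^ 2 ≤ Nat.card ↥A ∧ IsElementaryAbelian 3 B ∧
    3 ^ 2 ≤ Nat.card ↥B ∧ ∀ a ∈ A, ∀ b ∈ B, a * b = b * a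

theorem rel_symm {P : Type*} [Group P] {A B : Subgroup P} : Rel A B → Rel B A := by
  rintro ⟨h1, h2, h3, h4, h5⟩
  exact ⟨h3, h4, h1, h2, fun a ha b hb => (h5 b hb a ha).symm⟩

theorem comm_of_elemAb {P : Type*} [Group P] {A : Subgroup P} (hA : IsElementaryAbelian 3 A) :
    ∀ x ∈ A, ∀ y ∈ A, x * y = y * x := by
  intro x hx y hy
  haveI := hA.1
  exact setLike_mul_comm hx hy

theorem path_to_V {P : Type*} [Group P] [Finite P] (hP : IsPGroup 3 P) (V : Subgroup P)
    (hVn : V.Normal) (hV : IsElementaryAbelian 3 V) (hVcard : Nat.card V = 3 ^ 4)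
    (E : Subgroup P) (hE : IsElementaryAbelian 3 E) (hEc : 3 ^ 2 ≤ Nat.card E) :
    ∃ B₁ B₂ : Subgroup P, Rel E B₁ ∧ Rel B₁ B₂ ∧ Rel B₂ V := by
  classical
  haveI : Fact (Nat.Prime 3) := ⟨by norm_num⟩
  haveI := hVn
  haveI : Group.IsNilpotent P := hP.isNilpotent
  -- a central element z of order 3 in V
  have hVne : V ≠ ⊥ := by
    intro h
    rw [h, Subgroup.card_bot] at hVcard
    norm_num at hVcard
  have hz := Cfsg.Agent.Lib.H1.normal_inf_center_ne_bot V hVne
  obtain ⟨⟨z, hzm⟩, hz1⟩ := (Subgroup.ne_bot_iff_exists_ne_one).1 hz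
  have hz1' : z ≠ 1 := fun h => hz1 (Subtype.ext h)
  have hzV : z ∈ V := hzm.1
  have hzZ : z ∈ Subgroup.center P := hzm.2
  have hzc : ∀ g : P, g * z = z * g := fun g => (Subgroup.mem_center_iff.1 hzZ g)
  have hz3 : z ^ 3 = 1 := hV.2 z hzV
  have hzord : orderOf z = 3 := by
    have hd : orderOf z ∣ 3 := orderOf_dvd_of_pow_eq_one hz3
    rcases (Nat.dvd_prime (by norm_num : Nat.Prime 3)).1 hd with h | h
    · exact absurd (orderOf_eq_one_iff.1 h) hz1'
    · exact h
  -- a ∈ E outside ⟨z⟩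
  have hex : ∃ a ∈ E, a ∉ Subgroup.zpowers z := by
    by_contra hcon
    push Not at hcon
    have hle : E ≤ Subgroup.zpowers z := hcon
    have := Subgroup.card_le_of_le hle
    rw [Nat.card_zpowers, hzord] at this
    omega
  obtain ⟨a, haE, haz⟩ := hex
  have ha3 : a ^ 3 = 1 := hE.2 a haE
  -- B₁ = ⟨a⟩⟨z⟩
  set B₁ : Subgroup P := Subgroup.zpowers z ⊔ Subgroup.zpowers a with hB₁
  have hB₁e : IsElementaryAbelian 3 B₁ := by
    apply Cfsg.Agent.Lib.H3.elemAb_sup (Cfsg.Agent.Lib.H3.elemAb_zpowers hz3)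
      (Cfsg.Agent.Lib.H3.elemAb_zpowers ha3)
    rw [Subgroup.zpowers_le]
    rw [Subgroup.mem_centralizer_iff]
    intro g hg
    obtain ⟨k, rfl⟩ := Subgroup.mem_zpowers_iff.1 hg
    exact ((Commute.zpow_left (show Commute z a from (hzc a).symm) k)).eq
  have hB₁c : 3 ^ 2 ≤ Nat.card B₁ := by
    have hp : IsPGroup 3 B₁ := hP.to_subgroup B₁
    obtain ⟨k, hk⟩ := hp.exists_card_eq
    have hcl : 3 < 3 ^ k := by
      by_contra hcon
      rw [not_lt, ← hk] at hcon
      have hle : Subgroup.zpowers z ≤ B₁ := le_sup_left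
      have heq := Subgroup.eq_of_le_of_card_ge hle (by rw [Nat.card_zpowers, hzord]; exact hcon)
      apply haz
      rw [heq]
      exact (le_sup_right : Subgroup.zpowers a ≤ B₁) (Subgroup.mem_zpowers a)
    rw [hk]
    have hk2 : 2 ≤ k := by
      by_contra h
      have h1 : k ≤ 1 := by omega
      have := Nat.pow_le_pow_right (show 0 < 3 by norm_num) h1
      omega
    exact Nat.pow_le_pow_right (by norm_num) hk2
  -- B₂ = C_V(a)
  set B₂ : Subgroup P := V ⊓ Subgroup.centralizer {a} with hB₂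
  have hB₂e : IsElementaryAbelian 3 B₂ := Cfsg.Agent.Lib.H3.elemAb_mono inf_le_left hV
  have hB₂c : 3 ^ 2 ≤ Nat.card B₂ := by
    have := Cfsg.Agent.Lib.H6.NilpCount.nine_le_card_fixed V (comm_of_elemAb hV) hV.2
      (by rw [hVcard]; norm_num) a ha3
    exact this
  have hVc : 3 ^ 2 ≤ Nat.card V := by rw [hVcard]; norm_num
  -- the path
  have e1 : Rel E B₁ := by
    refine ⟨hE, hEc, hB₁e, hB₁c, ?_⟩
    intro x hx b hb
    have : B₁ ≤ Subgroup.centralizer {x} := by
      rw [hB₁]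
      apply sup_le
      · rw [Subgroup.zpowers_le, Subgroup.mem_centralizer_iff]
        intro g hg
        rw [Set.mem_singleton_iff] at hg
        subst hg
        exact hzc g
      · rw [Subgroup.zpowers_le, Subgroup.mem_centralizer_iff]
        intro g hg
        rw [Set.mem_singleton_iff] at hg
        subst hg
        exact comm_of_elemAb hE g hx a haE
    exact Subgroup.mem_centralizer_iff.1 (this hb) x rfl
  have e2 : Rel B₁ B₂ := by
    refine ⟨hB₁e, hB₁c, hB₂e, hB₂c, ?_⟩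
    intro b hb y hy
    have : B₁ ≤ Subgroup.centralizer {y} := by
      rw [hB₁]
      apply sup_le
      · rw [Subgroup.zpowers_le, Subgroup.mem_centralizer_iff]
        intro g hg
        rw [Set.mem_singleton_iff] at hg
        subst hg
        exact hzc g
      · rw [Subgroup.zpowers_le, Subgroup.mem_centralizer_iff]
        intro g hg
        rw [Set.mem_singleton_iff] at hg
        subst hg
        exact (Subgroup.mem_centralizer_iff.1 hy.2 a rfl).symm
    exact (Subgroup.mem_centralizer_iff.1 (this hb) y rfl).symm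
  have e3 : Rel B₂ V := by
    refine ⟨hB₂e, hB₂c, hV, hVc, ?_⟩
    intro y hy v hv
    exact comm_of_elemAb hV y hy.1 v hv
  exact ⟨B₁, B₂, e1, e2, e3⟩

/-- A finite 3-group of 3-rank at least 4 is 2-connected for the prime 3: its commuting graph on elementary abelian subgroups of order ≥ 9 is connected. -/
theorem result {P : Type*} [Group P] [Finite P] (hP : IsPGroup 3 P) (hrk : ¬ Cfsg.PRankLE 3 3 P) : Cfsg.IsKConnected 3 2 P := by
  classical
  haveI : Fact (Nat.Prime 3) := ⟨by norm_num⟩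
  unfold Cfsg.PRankLE at hrk
  push Not at hrk
  obtain ⟨A₀, hA₀c, hA₀e, hA₀card⟩ := hrk
  have hA₀p : IsPGroup 3 A₀ := hP.to_subgroup A₀
  obtain ⟨n, hn⟩ := hA₀p.exists_card_eq
  have hn4 : 4 ≤ n := by
    by_contra h
    have h3 : n ≤ 3 := by omega
    have := Nat.pow_le_pow_right (show 0 < 3 by norm_num) h3
    omega
  have hdvd : 3 ^ 4 ∣ Nat.card A₀ := hn ▸ pow_dvd_pow 3 hn4
  obtain ⟨K, hK⟩ := Sylow.exists_subgroup_card_pow_prime 3 hdvd
  have hE0card : Nat.card (K.map A₀.subtype) = 3 ^ 4 := by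
    rw [Subgroup.card_map_of_injective (Subgroup.subtype_injective _)]
    exact hK
  have hE0 : IsElementaryAbelian 3 (K.map A₀.subtype) := by
    apply Cfsg.Agent.Lib.H3.elemAb_mono (B := A₀)
    · rintro _ ⟨x, _, rfl⟩
      exact x.2
    · exact ⟨hA₀c, hA₀e⟩
  obtain ⟨V, hVn, hV, hVcard⟩ := Cfsg.Agent.S0122.result (by norm_num) hP _ hE0 hE0card
  intro E E' hE hEc hE' hEc'
  obtain ⟨B₁, B₂, e1, e2, e3⟩ := path_to_V hP V hVn hV hVcard E hE hEc
  obtain ⟨C₁, C₂, f1, f2, f3⟩ := path_to_V hP V hVn hV hVcard E' hE' hEc'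
  exact Relation.ReflTransGen.single e1 |>.tail e2 |>.tail e3 |>.tail (rel_symm f3)
    |>.tail (rel_symm f2) |>.tail (rel_symm f1)

end Cfsg.Agent.S1338
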