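import Cfsg.Statements.S1340
import Cfsg.Agent.Lib.H6.GLComp
import Cfsg.Agent.Lib.H12.SL2Odd

set_option autoImplicit false
open Cfsg

namespace Cfsg.Agent.S1340

/-- Let F be a finite field of odd order and n ≥ 3 with (n, |F|) ≠ (3, 3). Then GL(n, F) has a non-central involution t such that C(t) / O(C(t)) has a component. -/
theorem result {F : Type*} [Field F] [Fintype F] [DecidableEq F] (hF : Odd (Fintype.card F)) (n : ℕ) (hn : 3 ≤ n) (h33 : ¬ (n = 3 ∧ Fintype.card F = 3)) : ∃ t : Matrix.GeneralLinearGroup (Fin n) F, orderOf t = 2 ∧ t ∉ Subgroup.center (Matrix.GeneralLinearGroup (Fin n) F) ∧ Cfsg.HasComponent (↥(Subgroup.centralizer ({t} : Set (Matrix.GeneralLinearGroup (Fin n) F))) ⧸ Cfsg.oddCore ↥(Subgroup.centralizer ({t} : Set (Matrix.GeneralLinearGroup (Fin n) F)))) := by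

  have h2 : (2 : F) ≠ 0 := Cfsg.Agent.Lib.H12.two_ne_zero_of_odd hF
  obtain ⟨k, rfl⟩ : ∃ k, n = k + 2 + 1 := ⟨n - 3, by omega⟩
  have hq : IsQuasisimple (Matrix.SpecialLinearGroup (Fin (k + 2)) F) := by
    rcases Nat.eq_zero_or_pos k with rfl | hk
    · have h1 : 1 < Fintype.card F := Fintype.one_lt_card
      have h3 : Fintype.card F ≠ 3 := fun h => h33 ⟨rfl, h⟩
      have h4 : 4 ≤ Fintype.card F := by
        rcases hF with ⟨r, hr⟩
        omega
      exact Cfsg.Agent.Lib.H6.GLComp.quasisimple_SL2 h4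
    · exact Cfsg.Agent.Lib.H6.SLStd.quasisimple_SL (by omega)
  exact ⟨Cfsg.Agent.Lib.H6.GLComp.tGL F (k + 2),
    Cfsg.Agent.Lib.H6.GLComp.orderOf_tGL h2 (by omega),
    Cfsg.Agent.Lib.H6.GLComp.tGL_not_mem_center h2 (by omega),
    Cfsg.Agent.Lib.H6.GLComp.hasComponent_GL h2 k hq⟩

end Cfsg.Agent.S1340
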