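import Cfsg.Statements.S1341
import Mathlib
import Cfsg.Prelude.Def_Local
import Cfsg.Prelude.Def_Balance
import Cfsg.Agent.Lib.H7.ExtLayer2

set_option autoImplicit false
open Cfsg
open Cfsg.Agent.Lib.H7
open scoped Pointwise
set_option autoImplicit false

namespace Cfsg.Agent.S1341

/-- Conjugating `O_{p'}(C_X(T))`. -/
theorem pPrimeCoreOf_centralizer_map_conj {X : Type*} [Group X] (p : ℕ) (T : Subgroup X) (g : X) :
    (pPrimeCoreOf p (Subgroup.centralizer (T : Set X))).map (MulAut.conj g).toMonoidHom =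
      pPrimeCoreOf p (Subgroup.centralizer ((T.map (MulAut.conj g).toMonoidHom : Subgroup X) :
        Set X)) := by
  rw [pPrimeCoreOf_map_equiv, ← Cfsg.Agent.Lib.H14.centralizer_map_conj]

/-- In `M = L_{p'}(X) O_{p',p}(X)`, every element is a product of an element of `L_{p'}(X) O_{p'}(X)`
and an element of a given Sylow `p`-subgroup. -/
theorem exists_mul_of_mem_pLayer_sup {X : Type*} [Group X] [Finite X] (p : ℕ) [Fact p.Prime]
    (T : Sylow p ↥(pLayer p X ⊔ pPrimePCore p X)) (m : ↥(pLayer p X ⊔ pPrimePCore p X)) :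
    ∃ b ∈ pLayer p X ⊔ pPrimeCore p X, ∃ t ∈ (T : Subgroup ↥(pLayer p X ⊔ pPrimePCore p X)),
      (m : X) = b * (t : X) := by
  have hLn : (pLayer p X).Normal := pLayer_normal p
  have hBn : (pLayer p X ⊔ pPrimeCore p X).Normal := inferInstance
  have hNn : ((pLayer p X ⊔ pPrimeCore p X).subgroupOf (pLayer p X ⊔ pPrimePCore p X)).Normal :=
    inferInstance
  have hquot : IsPGroup p (↥(pLayer p X ⊔ pPrimePCore p X) ⧸
      (pLayer p X ⊔ pPrimeCore p X).subgroupOf (pLayer p X ⊔ pPrimePCore p X)) := by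
    intro q
    obtain ⟨m, rfl⟩ := QuotientGroup.mk_surjective q
    obtain ⟨l, hl, w, hw, hlw⟩ := Subgroup.mem_sup_of_normal_left.1 m.2
    have hw' : QuotientGroup.mk' (pPrimeCore p X) w ∈ pCore p (X ⧸ pPrimeCore p X) := hw
    obtain ⟨k, hk⟩ := (Cfsg.Agent.Lib.H1.pCore_isPGroup p (X ⧸ pPrimeCore p X)) ⟨_, hw'⟩
    have hwk : w ^ (p ^ k) ∈ pPrimeCore p X := by
      have h1 : QuotientGroup.mk' (pPrimeCore p X) (w ^ (p ^ k)) = 1 := by
        rw [map_pow]; exact congrArg Subtype.val hk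
      rwa [QuotientGroup.mk'_apply, QuotientGroup.eq_one_iff] at h1
    refine ⟨k, ?_⟩
    rw [← QuotientGroup.mk_pow, QuotientGroup.eq_one_iff, Subgroup.mem_subgroupOf]
    have hwn : w ∈ Subgroup.normalizer ((pLayer p X : Subgroup X) : Set X) := by
      rw [Subgroup.normalizer_eq_top]; exact Subgroup.mem_top w
    obtain ⟨s', hs', h⟩ := exists_mul_pow_eq hl hwn (p ^ k)
    rw [Subgroup.coe_pow, ← hlw, h]
    exact Subgroup.mul_mem_sup hs' hwk
  have htop := sylow_sup_eq_top_of_isPGroup_quotient p T _ hquot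
  have hm : m ∈ (pLayer p X ⊔ pPrimeCore p X).subgroupOf (pLayer p X ⊔ pPrimePCore p X) ⊔
      (T : Subgroup ↥(pLayer p X ⊔ pPrimePCore p X)) := by
    have h' : (pLayer p X ⊔ pPrimeCore p X).subgroupOf (pLayer p X ⊔ pPrimePCore p X) ⊔
        (T : Subgroup ↥(pLayer p X ⊔ pPrimePCore p X)) = ⊤ := by
      rw [← htop]; exact sup_comm _ _
    rw [h']; exact Subgroup.mem_top m
  obtain ⟨b, hb, t, ht, hbt⟩ := Subgroup.mem_sup_of_normal_left.1 hm
  refine ⟨(b : X), Subgroup.mem_subgroupOf.1 hb, t, ht, ?_⟩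
  rw [← hbt]; rfl

theorem extendedTwoLayer_eq {X : Type*} [Group X] [Finite X]
    (T : Sylow 2 ↥(pLayer 2 X ⊔ pPrimePCore 2 X)) :
    extendedTwoLayer X = pLayer 2 X ⊔ oddCore X ⊔
      pPrimeCoreOf 2 (Subgroup.centralizer
        (((T : Subgroup ↥(pLayer 2 X ⊔ pPrimePCore 2 X)).map
          (pLayer 2 X ⊔ pPrimePCore 2 X).subtype : Subgroup X) : Set X)) := by
  have hLn : (pLayer 2 X).Normal := pLayer_normal 2
  have hWn : (pPrimePCore 2 X).Normal := pPrimePCore_normal 2 X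
  have hMn : (pLayer 2 X ⊔ pPrimePCore 2 X).Normal := inferInstance
  apply le_antisymm
  · unfold extendedTwoLayer
    apply sup_le le_sup_left
    apply iSup_le
    intro T2
    obtain ⟨m, hm⟩ := MulAction.exists_smul_eq ↥(pLayer 2 X ⊔ pPrimePCore 2 X) T T2
    obtain ⟨b, hb, t, ht, hmbt⟩ := exists_mul_of_mem_pLayer_sup 2 T m
    set T' : Subgroup X := (T : Subgroup ↥(pLayer 2 X ⊔ pPrimePCore 2 X)).map
      (pLayer 2 X ⊔ pPrimePCore 2 X).subtype with hT'
    -- `T2' = b T' b⁻¹`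
    have hT2 : (T2 : Subgroup ↥(pLayer 2 X ⊔ pPrimePCore 2 X)).map
        (pLayer 2 X ⊔ pPrimePCore 2 X).subtype = T'.map (MulAut.conj b).toMonoidHom := by
      rw [← hm]
      ext x
      constructor
      · rintro ⟨y, hy, rfl⟩
        have hy' : y ∈ MulAut.conj m • (T : Subgroup ↥(pLayer 2 X ⊔ pPrimePCore 2 X)) := hy
        have h := Subgroup.mem_pointwise_smul_iff_inv_smul_mem.1 hy'
        -- `m⁻¹ y m ∈ T`, so `t (m⁻¹ y m) t⁻¹ ∈ T`
        have h2 : t * ((MulAut.conj m)⁻¹ • y) * t⁻¹ ∈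
            (T : Subgroup ↥(pLayer 2 X ⊔ pPrimePCore 2 X)) :=
          Subgroup.mul_mem _ (Subgroup.mul_mem _ ht h) (Subgroup.inv_mem _ ht)
        refine ⟨_, ⟨_, h2, rfl⟩, ?_⟩
        simp only [MulEquiv.coe_toMonoidHom, MulAut.conj_apply, Subgroup.coe_subtype,
          Subgroup.coe_mul, InvMemClass.coe_inv, MulAut.smul_def, MulAut.conj_inv_apply, hmbt]
        group
      · rintro ⟨_, ⟨y, hy, rfl⟩, rfl⟩
        have h2 : t⁻¹ * y * t ∈ (T : Subgroup ↥(pLayer 2 X ⊔ pPrimePCore 2 X)) :=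
          Subgroup.mul_mem _ (Subgroup.mul_mem _ (Subgroup.inv_mem _ ht) hy) ht
        refine ⟨m * (t⁻¹ * y * t) * m⁻¹, ?_, ?_⟩
        · show m * (t⁻¹ * y * t) * m⁻¹ ∈
            MulAut.conj m • (T : Subgroup ↥(pLayer 2 X ⊔ pPrimePCore 2 X))
          exact ⟨_, h2, by simp [MulAut.conj_apply]; group⟩
        · simp only [MulEquiv.coe_toMonoidHom, MulAut.conj_apply, Subgroup.coe_subtype,
            Subgroup.coe_mul, InvMemClass.coe_inv, hmbt]
          group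
    show pPrimeCoreOf 2 _ ≤ _
    rw [pPrimeCoreOf_congr 2 (congrArg (fun S : Subgroup X => Subgroup.centralizer (S : Set X)) hT2),
      ← pPrimeCoreOf_centralizer_map_conj]
    -- conjugation by `b` preserves the right-hand side
    have hbR : b ∈ pLayer 2 X ⊔ oddCore X ⊔ pPrimeCoreOf 2 (Subgroup.centralizer (T' : Set X)) :=
      le_sup_left (a := pLayer 2 X ⊔ oddCore X) hb
    rintro _ ⟨x, hx, rfl⟩
    have hxR : x ∈ pLayer 2 X ⊔ oddCore X ⊔ pPrimeCoreOf 2 (Subgroup.centralizer (T' : Set X)) :=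
      le_sup_right (a := pLayer 2 X ⊔ oddCore X) hx
    exact Subgroup.mul_mem _ (Subgroup.mul_mem _ hbR hxR) (Subgroup.inv_mem _ hbR)
  · unfold extendedTwoLayer
    apply sup_le le_sup_left
    refine le_trans ?_ le_sup_right
    exact le_iSup (fun T : Sylow 2 ↥(pLayer 2 X ⊔ pPrimePCore 2 X) => pPrimeCoreOf 2
      (Subgroup.centralizer (((T : Subgroup ↥(pLayer 2 X ⊔ pPrimePCore 2 X)).map
        (pLayer 2 X ⊔ pPrimePCore 2 X).subtype : Subgroup X) : Set X))) T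


/-- Let X be finite and T a Sylow 2-subgroup of L_{2'}(X) O_{2',2}(X). Then L*_{2'}(X) = L_{2'}(X) ⊔ O(X) ⊔ O(C_X(T)). -/
theorem result {X : Type*} [Group X] [Finite X] (T : Sylow 2 ↥(Cfsg.pLayer 2 X ⊔ Cfsg.pPrimePCore 2 X)) : Cfsg.extendedTwoLayer X = Cfsg.pLayer 2 X ⊔ Cfsg.oddCore X ⊔ ((Cfsg.oddCore ↥(Subgroup.centralizer (((T : Subgroup ↥(Cfsg.pLayer 2 X ⊔ Cfsg.pPrimePCore 2 X)).map (Cfsg.pLayer 2 X ⊔ Cfsg.pPrimePCore 2 X).subtype : Subgroup X) : Set X))).map (Subgroup.centralizer (((T : Subgroup ↥(Cfsg.pLayer 2 X ⊔ Cfsg.pPrimePCore 2 X)).map (Cfsg.pLayer 2 X ⊔ Cfsg.pPrimePCore 2 X).subtype : Subgroup X) : Set X)).subtype) := by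
  exact extendedTwoLayer_eq T

end Cfsg.Agent.S1341
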