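import Cfsg.Statements.S1343
import Cfsg.Agent.S1341
import Cfsg.Agent.Lib.H7.CoprimeFactor
import Cfsg.Agent.Lib.H7.PLocal

set_option autoImplicit false
open Cfsg
open Cfsg.Agent.Lib.H7
set_option autoImplicit false

namespace Cfsg.Agent.S1343

theorem le_normalizer_sup' {X : Type*} [Group X] {K A B : Subgroup X}
    (hA : K ≤ Subgroup.normalizer (A : Set X)) (hB : K ≤ Subgroup.normalizer (B : Set X)) :
    K ≤ Subgroup.normalizer ((A ⊔ B : Subgroup X) : Set X) := by
  intro k hk
  rw [Subgroup.mem_normalizer_iff_map_conj_eq, Subgroup.map_sup,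
    Subgroup.mem_normalizer_iff_map_conj_eq.1 (hA hk),
    Subgroup.mem_normalizer_iff_map_conj_eq.1 (hB hk)]


/-- Let X be finite. Then L*_{2'}(X) = L_{2'}(X) ⊔ F for some subgroup F of odd order normalized by a Sylow 2-subgroup of X. -/
theorem result {X : Type*} [Group X] [Finite X] : ∃ F : Subgroup X, Odd (Nat.card ↥F) ∧ (∃ S : Sylow 2 X, (S : Subgroup X) ≤ Subgroup.normalizer (F : Set X)) ∧ Cfsg.extendedTwoLayer X = Cfsg.pLayer 2 X ⊔ F := by
  have : Fact (Nat.Prime 2) := ⟨Nat.prime_two⟩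
  have hLn : (pLayer 2 X).Normal := pLayer_normal 2
  have hPn : (pPrimePCore 2 X).Normal := pPrimePCore_normal 2 X
  set K : Subgroup X := pLayer 2 X ⊔ pPrimePCore 2 X with hK
  have hKn : K.Normal := inferInstance
  obtain ⟨T⟩ : Nonempty (Sylow 2 ↥K) := inferInstance
  set TX : Subgroup X := (T : Subgroup ↥K).map K.subtype with hTX
  have hTXp : IsPGroup 2 TX := T.2.map K.subtype
  obtain ⟨S, hTS⟩ := hTXp.exists_le_sylow
  have hTXK : TX ≤ K := Subgroup.map_subtype_le _
  -- `TX = S ⊓ K`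
  have hTeq : TX = (S : Subgroup X) ⊓ K := by
    apply le_antisymm (le_inf hTS hTXK)
    have h1 : IsPGroup 2 (((S : Subgroup X) ⊓ K).subgroupOf K) :=
      (S.2.to_le inf_le_left).comap_of_injective K.subtype K.subtype_injective
    have h2 : (T : Subgroup ↥K) ≤ ((S : Subgroup X) ⊓ K).subgroupOf K := by
      intro t ht
      rw [Subgroup.mem_subgroupOf]
      exact Subgroup.mem_inf.2 ⟨hTS (Subgroup.mem_map_of_mem _ ht), t.2⟩
    have h3 := T.is_maximal' h1 h2
    intro x hx
    have hxK : x ∈ K := (Subgroup.mem_inf.1 hx).2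
    have : (⟨x, hxK⟩ : ↥K) ∈ ((S : Subgroup X) ⊓ K).subgroupOf K := Subgroup.mem_subgroupOf.2 hx
    rw [h3] at this
    exact ⟨_, this, rfl⟩
  have hSN : (S : Subgroup X) ≤ Subgroup.normalizer (TX : Set X) := by
    rw [hTeq]
    apply le_normalizer_inf Subgroup.le_normalizer
    rw [Subgroup.normalizer_eq_top]; exact le_top
  set F₀ : Subgroup X := pPrimeCoreOf 2 (Subgroup.centralizer (TX : Set X)) with hF₀
  have hSF₀ : (S : Subgroup X) ≤ Subgroup.normalizer (F₀ : Set X) := by
    intro s hs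
    have h1 := Cfsg.Agent.S1341.pPrimeCoreOf_centralizer_map_conj 2 TX s
    have h2 : TX.map (MulAut.conj s).toMonoidHom = TX :=
      Subgroup.mem_normalizer_iff_map_conj_eq.1 (hSN hs)
    rw [h2] at h1
    rw [Subgroup.mem_normalizer_iff_map_conj_eq]
    exact h1
  refine ⟨oddCore X ⊔ F₀, ?_, ⟨S, ?_⟩, ?_⟩
  · have hOn : (oddCore X).Normal := inferInstance
    have hdvd := card_sup_dvd_mul_of_le_normalizer (X := oddCore X) (Y := F₀)
      (by rw [Subgroup.normalizer_eq_top]; exact le_top)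
    have h1 : Odd (Nat.card (oddCore X)) :=
      Nat.coprime_two_right.1 (Cfsg.Agent.Lib.H22.card_pPrimeCore_coprime 2)
    have h2 : Odd (Nat.card F₀) := by
      rw [hF₀, Subgroup.card_map_of_injective (Subgroup.subtype_injective _)]
      exact Nat.coprime_two_right.1 (Cfsg.Agent.Lib.H22.card_pPrimeCore_coprime 2)
    exact Odd.of_dvd_nat (h1.mul h2) hdvd
  · apply le_normalizer_sup' _ hSF₀
    rw [Subgroup.normalizer_eq_top]; exact le_top
  · rw [Cfsg.Agent.S1341.result T, sup_assoc]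

end Cfsg.Agent.S1343
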