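import Cfsg.Statements.S1344
import Mathlib
import Cfsg.Prelude.Def_Local
import Cfsg.Prelude.Def_Balance
import Cfsg.Agent.Lib.H7.ExtLayer

set_option autoImplicit false
open Cfsg
open Cfsg.Agent.Lib.H7
set_option autoImplicit false

namespace Cfsg.Agent.S1344

/-- Let K be a 2-component of the finite group X. Then K ≤ L*_{2'}(X) and K is normal in L*_{2'}(X). -/
theorem result {X : Type*} [Group X] [Finite X] (K : Subgroup X) (hK : Cfsg.IsPComponent 2 K) : K ≤ Cfsg.extendedTwoLayer X ∧ (K.subgroupOf (Cfsg.extendedTwoLayer X)).Normal := by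
  have hKL : K ≤ extendedTwoLayer X :=
    (isPComponent_le_pLayer 2 hK).trans (le_sup_left.trans le_sup_left)
  refine ⟨hKL, ?_⟩
  apply Subgroup.normal_subgroupOf_of_le_normalizer
  unfold extendedTwoLayer
  apply sup_le (sup_le (pLayer_le_normalizer 2 hK) ?_) ?_
  · intro g hg
    apply mem_normalizer_of_isPComponent 2 hK
    have : QuotientGroup.mk' (pPrimeCore 2 X) g = 1 := by
      rw [QuotientGroup.mk'_apply, QuotientGroup.eq_one_iff]; exact hg
    rw [this]; exact Subgroup.one_mem _
  · apply iSup_le
    intro T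
    exact (Subgroup.map_subtype_le _).trans (centralizer_sylow_le_normalizer_isPComponent 2 hK T)

end Cfsg.Agent.S1344
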