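import Cfsg.Statements.S1359
import Cfsg.Agent.Lib.H20.BGZ5
import Cfsg.Agent.S1416
import Cfsg.Agent.S1417

set_option autoImplicit false
open Cfsg

namespace Cfsg.Agent.S1359

/-- Let G be a minimal simple group of odd order and M a maximal subgroup with standard factorisation M = K U M_σ. Then the subgroup generated by the elements of U that centralize some non-identity element of M_σ is abelian. -/
theorem result {G : Type*} [Group G] [Finite G] (hG : Cfsg.IsMinSimpleOddOrder G)
    (M : Subgroup G) (hM : IsCoatom M) (K U : Subgroup G) (hKU : Cfsg.IsSigmaDecomposition M K U) :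
    IsMulCommutative (Subgroup.closure ((U : Set G) ∩ Cfsg.sigmaHat M)) := by
  obtain ⟨⟨A₀, hA₀c, hA₀⟩, -⟩ := Cfsg.Agent.Lib.H20.BGZ.conclU hG
    (fun M hM p _ A h1 h2 h3 => (Cfsg.Agent.S1416.result hG M hM p A ⟨h1, h2, h3⟩).1)
    (fun M hM p _ hp A hA => Cfsg.Agent.S1417.result hG M hM p hp A hA) hM hKU
  apply Cfsg.Agent.Lib.H8.BG12.isMulCommutative_of_le _ hA₀c
  rw [Subgroup.closure_le]
  rintro u ⟨huU, -, y, hy, hy1, huy⟩
  apply hA₀ u huU
  intro h
  apply hy1
  have hmem : y ∈ Cfsg.sigmaCore M ⊓ Subgroup.centralizer ({u} : Set G) := by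
    refine Subgroup.mem_inf.2 ⟨hy, ?_⟩
    rw [Subgroup.mem_centralizer_singleton_iff]
    exact huy.symm
  rw [h] at hmem
  exact Subgroup.mem_bot.1 hmem

end Cfsg.Agent.S1359
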