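import Cfsg.Statements.S1383
import Cfsg.Agent.Lib.H21.BG158k
import Cfsg.Agent.Lib.H7.BG16g
import Cfsg.Agent.S1356
import Cfsg.Agent.S1364
import Cfsg.Agent.S1365

set_option autoImplicit false
open Cfsg

namespace Cfsg.Agent.S1383

open Cfsg.Agent.Lib.H16.BG in
/-- `K` embeds into `M / M_F`: if the exponent of `M / M_F` divides `n` then `|K|` divides `n`. -/
theorem card_dvd_of_exponent_dvd {G : Type*} [Group G] [Finite G] {M K : Subgroup G}
    (hKc : IsCyclic ↥K) (hKM : K ≤ M) (hKH : K ⊓ fittingHallOf M = ⊥) {n : ℕ}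
    (h : Monoid.exponent (↥M ⧸ fittingHall ↥M) ∣ n) : Nat.card ↥K ∣ n := by
  haveI := hKc
  obtain ⟨k₀, hk₀⟩ := IsCyclic.exists_ofOrder_eq_natCard (α := ↥K)
  rw [← hk₀, ← Subgroup.orderOf_coe, orderOf_dvd_iff_pow_eq_one]
  have h1 : ((QuotientGroup.mk (⟨(k₀ : G), hKM k₀.2⟩ : ↥M) : ↥M ⧸ fittingHall ↥M)) ^ n = 1 := by
    obtain ⟨c, hc⟩ := h
    rw [hc, pow_mul, Monoid.pow_exponent_eq_one, one_pow]
  rw [← QuotientGroup.mk_pow, QuotientGroup.eq_one_iff,
    Cfsg.Agent.Lib.H10.BG152.mem_fittingHall_iff, Subgroup.coe_pow] at h1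
  have h2 : (k₀ : G) ^ n ∈ K ⊓ fittingHallOf M := ⟨Subgroup.pow_mem _ k₀.2 n, h1⟩
  rw [hKH, Subgroup.mem_bot] at h2
  exact h2

/-- A maximal subgroup M is of Type V iff K ≠ 1, U = 1 and M_F = M_σ. -/
theorem result {G : Type*} [Group G] [Finite G] (hG : Cfsg.IsMinSimpleOddOrder G)
    (M : Subgroup G) (hM : IsCoatom M) (K U : Subgroup G) (hKU : Cfsg.IsSigmaDecomposition M K U) :
    Cfsg.IsOfTypeV M ↔ (K ≠ ⊥ ∧ U = ⊥ ∧ Cfsg.fittingHallOf M = Cfsg.sigmaCore M) := by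
  have h56 : Cfsg.Agent.Lib.H7.BG16.Hyp1356 G := fun M hM => Cfsg.Agent.S1356.result hG M hM
  have h64 : Cfsg.Agent.Lib.H7.BG16.Hyp1364 G := fun M hM K U hKU hK1 =>
    Cfsg.Agent.S1364.result hG M hM K U hKU hK1
  have hle : fittingHallOf M ≤ sigmaCore M :=
    Cfsg.Agent.Lib.H10.BG144.fittingHallOf_le_sigmaCore hG hM
  constructor
  · rintro ⟨W₁, UP, W₂, hT, hUP, -⟩
    subst hUP
    have hK1 := Cfsg.Agent.Lib.H7.BG16.K_ne_bot_of_typeP hG hM hKU hT
    have h1 : fittingHallOf M = ⁅M, M⁆ := Cfsg.Agent.Lib.H7.BG16.eq_of_isComplIn_bot hT.U_compl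
    have h65 := (Cfsg.Agent.S1365.result hG M hM K U hKU hK1).1
    have hUσ : U ≤ sigmaCore M := by
      have h2 : U ≤ ⁅M, M⁆ := by rw [h65]; exact le_sup_left
      rw [← h1] at h2; exact h2.trans hle
    have hU : U = ⊥ := by
      have h3 := hKU.compl.2.2.1
      rw [eq_bot_iff]
      intro u hu
      rw [← h3]
      exact ⟨hu, (le_sup_right : sigmaCore M ≤ K ⊔ sigmaCore M) (hUσ hu)⟩
    refine ⟨hK1, hU, le_antisymm hle ?_⟩
    rw [h1, h65]; exact le_sup_right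
  · rintro ⟨hK1, hU, hF⟩
    subst hU
    have hM' := Cfsg.Agent.Lib.H7.BG16.commutator_eq_sigmaCore hG hM hKU hK1
    have hE := Cfsg.Agent.Lib.H7.BG1366.compl_of_bot hG hM hKU
    have hKH : K ⊓ fittingHallOf M = ⊥ := by rw [hF]; exact hE.2.2.1
    have hT : IsTypePWith M K ⊥ (sigmaCore M ⊓ Subgroup.centralizer (K : Set G)) := by
      refine Cfsg.Agent.Lib.H7.BG16.isTypePWith hG h56 h64 hM hKU hK1 (UP := ⊥) inferInstance ?_ ?_
      · intro k _
        rw [Subgroup.mem_normalizer_iff]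
        intro h
        simp only [SetLike.mem_coe, Subgroup.mem_bot, conj_eq_one_iff]
      · rw [hF, hM']
        exact ⟨le_rfl, bot_le, inf_bot_eq _, fun m hm => ⟨m, hm, 1, Subgroup.one_mem _,
          (mul_one m).symm⟩⟩
    refine ⟨K, ⊥, _, hT, rfl, ?_⟩
    by_cases hTI : IsTISubset (fittingHallOf M : Set G)
    · left; exact hTI
    · right
      unfold IsTISubset at hTI
      push Not at hTI
      obtain ⟨g, hg, x, hx, hgx, hx1⟩ := hTI
      have hgM : g ∉ M := fun h => hg (Cfsg.Agent.Lib.H8.le_normalizer_fittingHallOf M h)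
      have hHF : fittingHallOf M ≤ fittingOf M :=
        Cfsg.Agent.Lib.H16.BG.le_fittingOf (Cfsg.Agent.Lib.H8.fittingHallOf_le M)
          (Cfsg.Agent.Lib.H8.le_normalizer_fittingHallOf M)
          (Cfsg.Agent.Lib.H8.fittingHallOf_isNilpotent M)
      have hX : fittingOf M ⊓ (fittingOf M).map (MulAut.conj g).toMonoidHom ≠ ⊥ := by
        intro hbot
        have hmem : g * x * g⁻¹ ∈ fittingOf M ⊓ (fittingOf M).map (MulAut.conj g).toMonoidHom :=
          ⟨hHF hgx, Cfsg.Agent.Lib.H16.BG.conj_mem_cj (hHF hx)⟩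
        rw [hbot, Subgroup.mem_bot, conj_eq_one_iff] at hmem
        exact hx1 hmem
      have h := Cfsg.Agent.Lib.H21.BG158.thm_15_8 hG hM hKU hgM hX
      unfold Cfsg.Agent.Lib.H21.BG158.Concl158 at h
      obtain ⟨-, ⟨hXle, -⟩, -, h3⟩ := h
      rcases h3 with ⟨hK, -⟩ | ⟨p, hp, hcard, -, -, -, hCc, hexp⟩ |
        ⟨p, hp, hcard, -, -, hCc, hP3, -, -, -, hidx⟩
      · exact absurd hK hK1
      · left
        have hpH : p ∣ Nat.card ↥(fittingHallOf M) := by
          rw [← hcard]; exact Subgroup.card_dvd_of_le hXle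
        exact ⟨p, hp, hpH,
          card_dvd_of_exponent_dvd hKU.cyclic hKU.hall.1 hKH (hexp p hp hpH), hCc⟩
      · right
        have hpH : p ∣ Nat.card ↥(fittingHallOf M) := by
          rw [← hcard]; exact Subgroup.card_dvd_of_le hXle
        refine ⟨p, hp, hpH, hP3, ?_, hCc⟩
        rw [Cfsg.Agent.Lib.H8.BG12.compl_card_eq_relIndex hE, ← hF]
        exact hidx

end Cfsg.Agent.S1383
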