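import Cfsg.Statements.S1386
import Cfsg.Agent.Lib.H1.Complement

set_option autoImplicit false
open Cfsg
set_option autoImplicit false

namespace Cfsg.Agent.S1386

/-- In a cyclic group, subgroups meeting trivially and commuting have coprime orders. -/
theorem coprime_card_of_isCyclic_sup {G : Type*} [Group G] [Finite G] {A B : Subgroup G}
    (hcyc : IsCyclic ↥(A ⊔ B)) (hAB : A ⊓ B = ⊥) (hcomm : ∀ a ∈ A, ∀ b ∈ B, a * b = b * a) :
    (Nat.card A).Coprime (Nat.card B) := by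
  let f : A →* ↥(A ⊔ B) := Subgroup.inclusion le_sup_left
  let g : B →* ↥(A ⊔ B) := Subgroup.inclusion le_sup_right
  have comm : ∀ (m : A) (n : B), Commute (f m) (g n) := by
    intro m n
    apply Subtype.ext
    exact hcomm m.1 m.2 n.1 n.2
  have hinj : Function.Injective (MonoidHom.noncommCoprod f g comm) := by
    rw [MonoidHom.noncommCoprod_injective]
    refine ⟨Subgroup.inclusion_injective _, Subgroup.inclusion_injective _, ?_⟩
    rw [disjoint_iff_inf_le]
    rintro x ⟨⟨a, ha⟩, ⟨b, hb⟩⟩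
    have h1 : (x : G) = a := by rw [← ha]; rfl
    have h2 : (x : G) = b := by rw [← hb]; rfl
    have h3 : (x : G) ∈ A ⊓ B := ⟨h1 ▸ a.2, h2 ▸ b.2⟩
    rw [hAB, Subgroup.mem_bot] at h3
    rw [Subgroup.mem_bot]
    exact Subtype.ext h3
  have : IsCyclic (A × B) := isCyclic_of_injective _ hinj
  exact coprime_card_of_isCyclic_prod A B


/-- Let G be a finite group, W₁, W₂ subgroups forming a self-normalizing cyclic pair, S a subgroup with W₂ ≤ S and W₁ a complement to S' in S, and (W₁, U, W₂') type-P data for S. Then W₂' = W₂ (that is, C_{S'}(W₁) = W₂). -/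
theorem result {G : Type*} [Group G] [Finite G] (W₁ W₂ S U W₂' : Subgroup G) (hW : Cfsg.IsSelfNormalizingCyclic W₁ W₂)
    (hSW : Cfsg.IsComplIn ⁅S, S⁆ W₁ S) (hW₂S : W₂ ≤ S) (hP : Cfsg.IsTypePWith S W₁ U W₂') :
    W₂' = W₂ := by
  obtain ⟨hW₁ne, hW₂ne, hdisj, hcomm, hcyc, hnorm⟩ := hW
  obtain ⟨-, hW₂'ne, hdisj', hcomm', hcyc', hnorm'⟩ := hP.selfNormalizing
  obtain ⟨hS'S, hW₁S, hS'W₁, hprod⟩ := hSW
  have hcop := coprime_card_of_isCyclic_sup hcyc hdisj hcomm
  obtain ⟨x, hxW₁⟩ := (Subgroup.ne_bot_iff_exists_ne_one).1 hW₁ne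
  have hx : (x : G) ∈ W₁ := x.2
  have hx1' : (x : G) ≠ 1 := fun h => hxW₁ (Subtype.ext h)
  have hcent := hP.W₂_centralizer x hx hx1'
  -- step 2
  have h2 : W₂ ≤ W₂' := by
    intro b hb
    rw [← hcent]
    refine Subgroup.mem_inf.2 ⟨?_, ?_⟩
    · obtain ⟨s', hs', a, ha, hba⟩ := hprod b (hW₂S hb)
      have hab : a * b = b * a := hcomm a ha b hb
      have hs'eq : s' = b * a⁻¹ := by rw [hba]; group
      have hpow : ∀ n : ℕ, s' ^ n = b ^ n * (a ^ n)⁻¹ := by
        intro n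
        rw [hs'eq]
        have hc : Commute b a⁻¹ := (Commute.inv_right (show Commute b a from hab.symm))
        rw [hc.mul_pow, inv_pow]
      have hbn : b ^ Nat.card W₂ = 1 := by
        have := pow_card_eq_one' (G := W₂) (x := ⟨b, hb⟩)
        exact congrArg Subtype.val this
      have han : a ^ Nat.card W₂ = 1 := by
        have h1 : (a ^ Nat.card W₂)⁻¹ ∈ ⁅S, S⁆ ⊓ W₁ := by
          refine Subgroup.mem_inf.2 ⟨?_, inv_mem (pow_mem ha _)⟩
          have := hpow (Nat.card W₂)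
          rw [hbn, one_mul] at this
          rw [← this]; exact pow_mem hs' _
        rw [hS'W₁, Subgroup.mem_bot] at h1
        simpa using h1
      have ham : a ^ Nat.card W₁ = 1 := by
        have := pow_card_eq_one' (G := W₁) (x := ⟨a, ha⟩)
        exact congrArg Subtype.val this
      have ha1 : a = 1 := by
        have h1 := orderOf_dvd_of_pow_eq_one han
        have h2 := orderOf_dvd_of_pow_eq_one ham
        have := Nat.dvd_gcd h2 h1
        rw [hcop.gcd_eq_one, Nat.dvd_one] at this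
        exact orderOf_eq_one_iff.1 this
      rw [hba, ha1, mul_one]; exact hs'
    · rw [Subgroup.mem_centralizer_singleton_iff]
      exact (hcomm x hx b hb).symm
  -- step 3
  obtain ⟨b, hbW₂⟩ := (Subgroup.ne_bot_iff_exists_ne_one).1 hW₂ne
  have hb : (b : G) ∈ W₂ := b.2
  have hb1' : (b : G) ≠ 1 := fun h => hbW₂ (Subtype.ext h)
  have hy1 : ({(x : G) * b} : Set G) ⊆ (↑(W₁ ⊔ W₂) : Set G) \ (↑W₁ ∪ ↑W₂) := by
    rintro _ rfl
    refine ⟨mul_mem (Subgroup.mem_sup_left hx) (Subgroup.mem_sup_right hb), ?_⟩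
    rintro (h | h)
    · have : (b : G) ∈ W₁ ⊓ W₂ := ⟨by simpa using (W₁.mul_mem_cancel_left hx).1 h, hb⟩
      rw [hdisj, Subgroup.mem_bot] at this
      exact hb1' this
    · have : (x : G) ∈ W₁ ⊓ W₂ := ⟨hx, by simpa using (W₂.mul_mem_cancel_right hb).1 h⟩
      rw [hdisj, Subgroup.mem_bot] at this
      exact hx1' this
  have hy2 : ({(x : G) * b} : Set G) ⊆ (↑(W₁ ⊔ W₂') : Set G) \ (↑W₁ ∪ ↑W₂') := by
    rintro _ rfl
    refine ⟨mul_mem (Subgroup.mem_sup_left hx) (Subgroup.mem_sup_right (h2 hb)), ?_⟩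
    rintro (h | h)
    · have : (b : G) ∈ W₁ ⊓ W₂' := ⟨by simpa using (W₁.mul_mem_cancel_left hx).1 h, h2 hb⟩
      rw [hdisj', Subgroup.mem_bot] at this
      exact hb1' this
    · have : (x : G) ∈ W₁ ⊓ W₂' := ⟨hx, by simpa using (W₂'.mul_mem_cancel_right (h2 hb)).1 h⟩
      rw [hdisj', Subgroup.mem_bot] at this
      exact hx1' this
  have hN1 := hnorm _ hy1 (Set.singleton_nonempty _)
  have hN2 := hnorm' _ hy2 (Set.singleton_nonempty _)
  have hsup : W₁ ⊔ W₂' = W₁ ⊔ W₂ := by rw [← hN1, ← hN2]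
  apply le_antisymm _ h2
  intro c hc
  have hc' : c ∈ W₁ ⊔ W₂ := by rw [← hsup]; exact Subgroup.mem_sup_right hc
  have hkey : ∀ w ∈ W₂, ∀ a ∈ W₁, w * a * w⁻¹ = a := by
    intro w hw a ha
    rw [← hcomm a ha w hw]; group
  have hW₂N : W₂ ≤ Subgroup.normalizer (W₁ : Set G) := by
    intro w hw
    rw [Subgroup.mem_normalizer_iff]
    intro a
    constructor
    · intro ha
      rw [hkey w hw a ha]; exact ha
    · intro ha
      have h3 := hkey w⁻¹ (inv_mem hw) _ ha
      have h4 : w⁻¹ * (w * a * w⁻¹) * w⁻¹⁻¹ = a := by group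
      rw [h4] at h3
      rw [h3]; exact ha
  obtain ⟨a, ha, b', hb', hcab⟩ := Cfsg.Agent.Lib.H1.mem_sup_of_le_normalizer hW₂N hc'
  have ha' : a ∈ W₁ ⊓ W₂' := by
    refine Subgroup.mem_inf.2 ⟨ha, ?_⟩
    have : a = c * b'⁻¹ := by rw [hcab]; group
    rw [this]; exact mul_mem hc (inv_mem (h2 hb'))
  rw [hdisj', Subgroup.mem_bot] at ha'
  rw [hcab, ha', one_mul]; exact hb'

end Cfsg.Agent.S1386
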