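import Cfsg.Statements.S1387
import Cfsg.Agent.Lib.H7.TypeP

set_option autoImplicit false
open Cfsg
open Cfsg.Agent.Lib.H7
set_option autoImplicit false

namespace Cfsg.Agent.S1387

/-- Let M be a subgroup of a finite group G with type-P data (W₁, U, W₂) and H = M_F. Then the Fitting subgroup F(M) is generated by H and the centralizer of H in U. -/
theorem result {G : Type*} [Group G] [Finite G] (M W₁ U W₂ : Subgroup G) (hP : Cfsg.IsTypePWith M W₁ U W₂) :
    Cfsg.fittingOf M = Cfsg.fittingHallOf M ⊔ (U ⊓ Subgroup.centralizer (Cfsg.fittingHallOf M : Set G)) := by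
  obtain ⟨hHM', hUM', hHU, hprod⟩ := hP.U_compl
  have hM'M : ⁅M, M⁆ ≤ M := Subgroup.commutator_le.2 (fun a ha b hb =>
    mul_mem (mul_mem (mul_mem ha hb) (inv_mem ha)) (inv_mem hb))
  have hcop := coprime_card_fittingHallOf (hUM'.trans hM'M) hHU
  apply le_antisymm
  · rw [← hP.fitting_eq]
    apply sup_le le_sup_left
    intro c hc
    have hcF : c ∈ fittingOf M := by
      rw [← hP.fitting_eq]; exact Subgroup.mem_sup_right hc
    obtain ⟨h, hh, u, hu, hchu⟩ := hprod c (hP.fitting_le hcF)
    have hc2 : h * u ∈ Subgroup.centralizer (fittingHallOf M : Set G) := by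
      rw [← hchu]; exact (Subgroup.mem_inf.1 hc).2
    obtain ⟨hucent, -⟩ := mem_centralizer_of_mul_mem_centralizer hcop hh hu hc2
    rw [hchu]
    exact mul_mem (Subgroup.mem_sup_left hh) (Subgroup.mem_sup_right (Subgroup.mem_inf.2 ⟨hu, hucent⟩))
  · rw [← hP.fitting_eq]
    apply sup_le le_sup_left
    refine le_trans ?_ le_sup_right
    exact inf_le_inf_right _ (hUM'.trans hM'M)

end Cfsg.Agent.S1387
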