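import Cfsg.Statements.S1388
import Cfsg.Agent.Lib.H7.TypeP
import Cfsg.Agent.Lib.H7.CoprimeGen

set_option autoImplicit false
open Cfsg
open Cfsg.Agent.Lib.H7
open scoped commutatorElement
set_option autoImplicit false

namespace Cfsg.Agent.S1388

/-- Let M be a subgroup of a finite group G with type-P data (W₁, U, W₂) and H = M_F. Then the derived subgroup of U centralizes H, and if U ≠ 1 then U does not centralize H. -/
theorem result {G : Type*} [Group G] [Finite G] (M W₁ U W₂ : Subgroup G) (hP : Cfsg.IsTypePWith M W₁ U W₂) :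
    ⁅U, U⁆ ≤ Subgroup.centralizer (Cfsg.fittingHallOf M : Set G) ∧ (U ≠ ⊥ → ¬ U ≤ Subgroup.centralizer (Cfsg.fittingHallOf M : Set G)) := by
  have hcompl := hP.U_compl
  obtain ⟨hHM', hUM', hHU, hprod⟩ := hP.U_compl
  have hM'M : ⁅M, M⁆ ≤ M := Subgroup.commutator_le.2 (fun a ha b hb =>
    mul_mem (mul_mem (mul_mem ha hb) (inv_mem ha)) (inv_mem hb))
  have hUM : U ≤ M := hUM'.trans hM'M
  have hcop := coprime_card_fittingHallOf hUM hHU
  constructor
  · intro x hx
    have hxU : x ∈ U := (Subgroup.commutator_le.2 (fun a ha b hb =>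
      mul_mem (mul_mem (mul_mem ha hb) (inv_mem ha)) (inv_mem hb)) : ⁅U, U⁆ ≤ U) hx
    have hx2 : x ∈ fittingHallOf M ⊔ (M ⊓ Subgroup.centralizer (fittingHallOf M : Set G)) :=
      hP.derived_two_le (Subgroup.commutator_mono hUM' hUM' hx)
    have hN : M ⊓ Subgroup.centralizer (fittingHallOf M : Set G) ≤
        Subgroup.normalizer (fittingHallOf M : Set G) :=
      inf_le_left.trans (le_normalizer_fittingHallOf M)
    obtain ⟨h, hh, c, hc, hxhc⟩ := Cfsg.Agent.Lib.H1.mem_sup_of_le_normalizer hN hx2
    have hcF : c ∈ fittingOf M := by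
      rw [← hP.fitting_eq]; exact Subgroup.mem_sup_right hc
    obtain ⟨h', hh', u', hu', hchu⟩ := hprod c (hP.fitting_le hcF)
    have hc2 : h' * u' ∈ Subgroup.centralizer (fittingHallOf M : Set G) := by
      rw [← hchu]; exact (Subgroup.mem_inf.1 hc).2
    obtain ⟨hucent, -⟩ := mem_centralizer_of_mul_mem_centralizer hcop hh' hu' hc2
    have he : 1 * x = (h * h') * u' := by
      rw [one_mul, hxhc, hchu]; group
    obtain ⟨-, hxu⟩ := isComplIn_unique hcompl (one_mem _) (mul_mem hh hh') hxU hu' he
    rw [hxu]; exact hucent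
  · intro hUne hUc
    apply hUne
    -- conjugation by M preserves U
    have hconj : ∀ m ∈ M, ∀ u ∈ U, m * u * m⁻¹ ∈ U := by
      intro m hm u hu
      have h1 : m * u * m⁻¹ ∈ ⁅M, M⁆ := by
        have : m * u * m⁻¹ = ⁅m, u⁆ * u := by
          rw [commutatorElement_def]; group
        rw [this]
        exact mul_mem (Subgroup.commutator_mem_commutator hm (hUM hu)) (hUM' hu)
      obtain ⟨h, hh, u₁, hu₁, he⟩ := hprod _ h1
      have hcomm : Commute h u₁ := by
        have := Subgroup.mem_centralizer_iff.1 (hUc hu₁) h hh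
        exact this
      have hk : (m * u * m⁻¹) ^ Nat.card U = 1 := by
        rw [conj_pow]
        have : u ^ Nat.card U = 1 := by
          have := pow_card_eq_one' (G := U) (x := ⟨u, hu⟩)
          exact congrArg Subtype.val this
        rw [this]; group
      have hu₁k : u₁ ^ Nat.card U = 1 := by
        have := pow_card_eq_one' (G := U) (x := ⟨u₁, hu₁⟩)
        exact congrArg Subtype.val this
      have hhk : h ^ Nat.card U = 1 := by
        rw [he, hcomm.mul_pow, hu₁k, mul_one] at hk
        exact hk
      have hhH : h ^ Nat.card (fittingHallOf M) = 1 := by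
        have := pow_card_eq_one' (G := fittingHallOf M) (x := ⟨h, hh⟩)
        exact congrArg Subtype.val this
      have h1' : h = 1 := by
        have h2 := orderOf_dvd_of_pow_eq_one hhk
        have h3 := orderOf_dvd_of_pow_eq_one hhH
        have := Nat.dvd_gcd h3 h2
        rw [hcop.gcd_eq_one, Nat.dvd_one] at this
        exact orderOf_eq_one_iff.1 this
      rw [he, h1', one_mul]; exact hu₁
    have hnorm : M ≤ Subgroup.normalizer (U : Set G) := by
      intro m hm
      rw [Subgroup.mem_normalizer_iff]
      intro u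
      constructor
      · exact hconj m hm u
      · intro hu
        have := hconj m⁻¹ (inv_mem hm) _ hu
        have h4 : m⁻¹ * (m * u * m⁻¹) * m⁻¹⁻¹ = u := by group
        rwa [h4] at this
    have hnormal : (U.subgroupOf M).Normal :=
      (Subgroup.normal_subgroupOf_iff_le_normalizer hUM).2 hnorm
    have hnil : Group.IsNilpotent (U.subgroupOf M) := by
      have := hP.U_nilpotent
      exact Group.nilpotent_of_mulEquiv (Subgroup.subgroupOfEquivOfLe hUM).symm
    have hcardU' : Nat.card (U.subgroupOf M) = Nat.card U :=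
      Nat.card_congr (Subgroup.subgroupOfEquivOfLe hUM).toEquiv
    have hM'card := isComplIn_card_mul hcompl
    have hMcard := isComplIn_card_mul hP.W₁_compl
    have hidx : (U.subgroupOf M).index = Nat.card (fittingHallOf M) * Nat.card W₁ := by
      have h1 := (U.subgroupOf M).card_mul_index
      rw [hcardU', ← hMcard, ← hM'card] at h1
      have hpos : 0 < Nat.card U := Nat.card_pos
      have : Nat.card U * (U.subgroupOf M).index
          = Nat.card U * (Nat.card (fittingHallOf M) * Nat.card W₁) := by
        rw [h1]; ring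
      exact Nat.eq_of_mul_eq_mul_left hpos this
    have hW₁rel : W₁.relIndex M = Nat.card (fittingHallOf M) * Nat.card U := by
      have h1 := card_mul_relIndex_of_le hP.W₁_compl.2.1
      rw [← hMcard, ← hM'card] at h1
      have hpos : 0 < Nat.card W₁ := Nat.card_pos
      have : Nat.card W₁ * W₁.relIndex M
          = Nat.card W₁ * (Nat.card (fittingHallOf M) * Nat.card U) := by
        rw [h1]; ring
      exact Nat.eq_of_mul_eq_mul_left hpos this
    have hcopW : (Nat.card U).Coprime (Nat.card W₁) := by
      have := hP.W₁_hall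
      rw [hW₁rel] at this
      exact (Nat.Coprime.coprime_mul_left_right this).symm
    have hhall : (Nat.card (U.subgroupOf M)).Coprime (U.subgroupOf M).index := by
      rw [hcardU', hidx]
      exact Nat.Coprime.mul_right hcop.symm hcopW
    have hle : U.subgroupOf M ≤ fittingHall M := le_sSup ⟨hnormal, hnil, hhall⟩
    rw [eq_bot_iff]
    intro u hu
    have h1 : u ∈ fittingHallOf M := by
      have : (⟨u, hUM hu⟩ : M) ∈ fittingHall M := hle (Subgroup.mem_subgroupOf.2 hu)
      exact ⟨⟨u, hUM hu⟩, this, rfl⟩
    have h2 : u ∈ fittingHallOf M ⊓ U := Subgroup.mem_inf.2 ⟨h1, hu⟩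
    rwa [hHU] at h2

end Cfsg.Agent.S1388
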