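import Cfsg.Statements.S1424
import Mathlib
import Cfsg.Agent.Lib.H20.BGT2
import Cfsg.Agent.Lib.H7.BG124
import Cfsg.Agent.S1417

set_option autoImplicit false
open Cfsg

namespace Cfsg.Agent.S1424

/-- Let G be a minimal simple group of odd order, M a maximal subgroup, q ∈ σ(M), X a nontrivial q-subgroup of M, M* a maximal subgroup different from M with N_G(X) ≤ M*, and S a Sylow q-subgroup of M ∩ M* containing X. Then M* is not conjugate to M in G, N_G(S) ≤ M, and q does not divide the index of S in M*. -/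
theorem result {G : Type*} [Group G] [Finite G] (hG : Cfsg.IsMinSimpleOddOrder G)
    (M : Subgroup G) (hM : IsCoatom M) (q : ℕ) [Fact q.Prime] (hq : q ∈ Cfsg.sigma M) (X : Subgroup G) (hXq : IsPGroup q X) (hX1 : X ≠ ⊥) (hXM : X ≤ M)
    (Mstar : Subgroup G) (hMs : IsCoatom Mstar) (hne : Mstar ≠ M) (hNX : Subgroup.normalizer (X : Set G) ≤ Mstar)
    (S : Sylow q ↥(M ⊓ Mstar)) (hXS : X ≤ (S : Subgroup ↥(M ⊓ Mstar)).map (M ⊓ Mstar).subtype) :
    (∀ g : G, Mstar ≠ M.map (MulAut.conj g).toMonoidHom) ∧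
      Subgroup.normalizer (((S : Subgroup ↥(M ⊓ Mstar)).map (M ⊓ Mstar).subtype : Subgroup G) : Set G) ≤ M ∧
      ¬ q ∣ ((S : Subgroup ↥(M ⊓ Mstar)).map (M ⊓ Mstar).subtype).relIndex Mstar := by
  classical
  have h17' : Cfsg.Agent.Lib.H8.BG12.Hyp1417 G := fun M'' hM'' p'' _ hp'' A'' hA'' =>
    Cfsg.Agent.S1417.result hG M'' hM'' p'' hp'' A'' hA''
  have h16 : Cfsg.Agent.Lib.H20.BGT.H1416a G := fun M' hM' p _ A hAM hAe hAc =>
    (Cfsg.Agent.Lib.H7.BG124.thm_12_4 hG h17' M' hM' p A ⟨hAM, hAe, hAc⟩).1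
  have hS : Cfsg.Agent.Lib.H16.BG.SylIn q ((S : Subgroup ↥(M ⊓ Mstar)).map (M ⊓ Mstar).subtype) (M ⊓ Mstar) :=
    Cfsg.Agent.Lib.H16.BG.SylIn.of_sylow S
  obtain ⟨h1, h2, h3⟩ := Cfsg.Agent.Lib.H20.BGT.sigma_subgroup_embedding hG h16 hM hq hXq hX1 hXM hMs hne hNX hS hXS
  exact ⟨h1, h2, h3.2.2⟩

end Cfsg.Agent.S1424
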