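import Cfsg.Statements.S1441
import Cfsg.Agent.Lib.H7.Coprime

set_option autoImplicit false
open Cfsg
open Cfsg.Agent.Lib.H7
open scoped commutatorElement

namespace Cfsg.Agent.S1441

/-- Let G be a finite group, H a solvable subgroup and A a subgroup normalizing H. Suppose there is a chain H = H₀ ≥ H₁ ≥ ⋯ ≥ H_n = 1 of subgroups normal in H and normalized by A such that A acts trivially on each factor H_{i-1}/H_i (that is, [H_{i-1}, A] ≤ H_i). Then every prime dividing the index of C_A(H) in A divides the order of H. -/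
theorem result {G : Type*} [Group G] [Finite G] (H A : Subgroup G) (hH : Group.IsSolvable H) (hA : (A ≤ Subgroup.normalizer (H : Set G)))
    (n : ℕ) (c : Fin (n + 1) → Subgroup G) (hc0 : c 0 = H) (hcn : c (Fin.last n) = ⊥) (hanti : Antitone c)
    (hcN : ∀ i, H ≤ Subgroup.normalizer ((c i : Subgroup G) : Set G)) (hcA : ∀ i, A ≤ Subgroup.normalizer ((c i : Subgroup G) : Set G))
    (htriv : ∀ i : Fin n, ⁅c i.castSucc, A⁆ ≤ c i.succ) :
    ∀ p : ℕ, p.Prime → p ∣ (A ⊓ Subgroup.centralizer (H : Set G)).relIndex A → p ∣ Nat.card H := by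
  intro p hp hdvd
  by_contra hpH
  have : Fact p.Prime := ⟨hp⟩
  have hcle : ∀ i, c i ≤ H := fun i => hc0 ▸ hanti (Fin.zero_le i)
  -- every element of `A` of `p`-power order centralizes `H`
  have key : ∀ a ∈ A, (∃ k, orderOf a = p ^ k) → ∀ i, ∀ q ∈ c i, a * q = q * a := by
    intro a ha ⟨k, hk⟩ i
    induction i using Fin.reverseInduction with
    | last =>
      intro q hq
      rw [hcn, Subgroup.mem_bot] at hq
      rw [hq, mul_one, one_mul]
    | cast i ih =>
      apply commute_of_stable_step (a := a) (Q := c i.castSucc) (R := c i.succ)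
      · rw [hk]
        apply Nat.Coprime.pow_left
        rw [Nat.Prime.coprime_iff_not_dvd hp]
        intro h
        exact hpH (h.trans (Subgroup.card_dvd_of_le (hcle _)))
      · intro q hq
        apply htriv i
        have : a * q * a⁻¹ * q⁻¹ = ⁅a, q⁆ := rfl
        rw [this, Subgroup.commutator_comm]
        exact Subgroup.commutator_mem_commutator ha hq
      · exact ih
  -- a Sylow `p`-subgroup of `A` lies in the centralizer
  obtain P : Sylow p A := default
  have hP : (P : Subgroup A) ≤ (A ⊓ Subgroup.centralizer (H : Set G)).subgroupOf A := by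
    intro x hx
    rw [Subgroup.mem_subgroupOf]
    refine ⟨x.2, ?_⟩
    have hord : ∃ k, orderOf (x : G) = p ^ k := by
      obtain ⟨k, hk⟩ := (IsPGroup.iff_orderOf.1 P.2) ⟨x, hx⟩
      refine ⟨k, ?_⟩
      have h1 : orderOf (x : G) = orderOf x := Subgroup.orderOf_coe x
      have h2 : orderOf (⟨x, hx⟩ : (P : Subgroup A)) = orderOf x := Subgroup.orderOf_mk x hx
      rw [h1, ← h2, hk]
    intro h hh
    have := key x x.2 hord 0 h (hc0 ▸ hh)
    exact this.symm
  have h1 : ((A ⊓ Subgroup.centralizer (H : Set G)).subgroupOf A).index ∣ (P : Subgroup A).index :=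
    Subgroup.index_dvd_of_le hP
  have h2 : ¬ p ∣ (P : Subgroup A).index := P.not_dvd_index
  exact h2 (hdvd.trans h1)

end Cfsg.Agent.S1441
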