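import Cfsg.Statements.S1442
import Cfsg.Agent.Lib.H7.Coprime

set_option autoImplicit false
open Cfsg
open Cfsg.Agent.Lib.H7
open scoped commutatorElement

namespace Cfsg.Agent.S1442

/-- Let G be a finite group, H a nilpotent subgroup and A a subgroup normalizing H with the orders of A and H coprime. Put C = H ∩ C_G(A). If H ∩ C_G(C) ≤ C then A centralizes H. -/
theorem result {G : Type*} [Group G] [Finite G] (H A : Subgroup G) (hH : Group.IsNilpotent H) (hA : (A ≤ Subgroup.normalizer (H : Set G))) (hcop : (Nat.card A).Coprime (Nat.card H))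
    (hC : H ⊓ Subgroup.centralizer (((H ⊓ Subgroup.centralizer (A : Set G)) : Subgroup G) : Set G) ≤ (H ⊓ Subgroup.centralizer (A : Set G))) :
    A ≤ Subgroup.centralizer (H : Set G) := by
  set C : Subgroup G := H ⊓ Subgroup.centralizer (A : Set G) with hCdef
  have hCH : C ≤ H := inf_le_left
  have hCA : ⁅C, A⁆ = ⊥ := Subgroup.commutator_eq_bot_iff_le_centralizer.2 inf_le_right
  by_cases hCeq : C = H
  · rw [Subgroup.le_centralizer_iff, ← hCeq]
    exact inf_le_right
  exfalso
  -- normalizer condition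
  set N : Subgroup G := H ⊓ Subgroup.normalizer (C : Set G) with hN
  have hNH : N ≤ H := inf_le_left
  have hlt : C.subgroupOf H < ⊤ := by
    rw [lt_top_iff_ne_top, Ne, Subgroup.subgroupOf_eq_top]
    intro h
    exact hCeq (le_antisymm hCH h)
  have hnc := Group.normalizerCondition_of_isNilpotent (G := H) (C.subgroupOf H) hlt
  obtain ⟨x, hxN, hxC⟩ := SetLike.exists_of_lt hnc
  have hxN' : (x : G) ∈ N := by
    refine ⟨x.2, ?_⟩
    rw [← Subgroup.subgroupOf_normalizer_eq hCH] at hxN
    exact Subgroup.mem_subgroupOf.1 hxN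
  have hxC' : (x : G) ∉ C := fun h => hxC (Subgroup.mem_subgroupOf.2 h)
  -- `A` normalizes `N`
  have hAN : A ≤ Subgroup.normalizer (N : Set G) := by
    have hAC : A ≤ Subgroup.normalizer (C : Set G) :=
      (Subgroup.le_centralizer_iff.1 (inf_le_right : C ≤ _)).trans (Subgroup.centralizer_le_normalizer _)
    have hANC : A ≤ Subgroup.normalizer ((Subgroup.normalizer (C : Set G) : Subgroup G) : Set G) :=
      hAC.trans Subgroup.le_normalizer
    exact (le_inf hA hANC).trans Subgroup.inf_normalizer_le_normalizer_inf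
  -- `⁅N, A⁆ ≤ C`
  have h1 : ⁅⁅N, C⁆, A⁆ = ⊥ := by
    rw [eq_bot_iff, ← hCA]
    apply Subgroup.commutator_mono _ le_rfl
    exact Subgroup.le_normalizer_iff_commutator_le_right.1 inf_le_right
  have h2 : ⁅⁅C, A⁆, N⁆ = ⊥ := by rw [hCA]; exact Subgroup.commutator_bot_left N
  have h3 : ⁅⁅A, N⁆, C⁆ = ⊥ := Subgroup.commutator_commutator_eq_bot_of_rotate h1 h2
  have h4 : ⁅N, A⁆ ≤ C := by
    apply le_trans _ hC
    apply le_inf
    · exact (Subgroup.commutator_mono hNH le_rfl).trans
        (Subgroup.le_normalizer_iff_commutator_le_left.1 hA)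
    · rw [Subgroup.commutator_comm]
      exact Subgroup.commutator_eq_bot_iff_le_centralizer.1 h3
  have h5 : ⁅⁅N, A⁆, A⁆ = ⊥ := by
    rw [eq_bot_iff, ← hCA]
    exact Subgroup.commutator_mono h4 le_rfl
  have hcop' : (Nat.card A).Coprime (Nat.card N) :=
    Nat.Coprime.coprime_dvd_right (Subgroup.card_dvd_of_le hNH) hcop
  have h6 : ⁅N, A⁆ = ⊥ := commutator_eq_bot_of_commutator_commutator_eq_bot hcop' hAN h5
  have h7 : N ≤ C := le_inf hNH (Subgroup.commutator_eq_bot_iff_le_centralizer.1 h6)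
  exact hxC' (h7 hxN')

end Cfsg.Agent.S1442
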