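import Cfsg.Statements.S1443
import Cfsg.Agent.Lib.H7.Coprime
import Cfsg.Agent.Lib.H7.CoprimeFactor
import Cfsg.Agent.Lib.H7.PLocal
import Cfsg.Agent.Lib.H15.OmegaOdd

set_option autoImplicit false
open Cfsg
set_option autoImplicit false

namespace Cfsg.Agent.S1443

/-- Let G be a finite group, p an odd prime, H a p-subgroup, E an elementary abelian subgroup of H, and A a subgroup of order coprime to p normalizing H. If A centralizes every element of order p in H ∩ C_G(E), then A centralizes H. -/
theorem result {G : Type*} [Group G] [Finite G] (p : ℕ) [Fact p.Prime] (hp : p ≠ 2) (H E A : Subgroup G) (hH : IsPGroup p H) (hE : E ≤ H) (hEe : Cfsg.IsElementaryAbelian p E)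
    (hA : (A ≤ Subgroup.normalizer (H : Set G))) (hcop : (Nat.card A).Coprime p)
    (hfix : ∀ x ∈ (H ⊓ Subgroup.centralizer (E : Set G)), orderOf x = p → A ≤ Subgroup.centralizer ({x} : Set G)) :
    A ≤ Subgroup.centralizer (H : Set G) := by
  have hpp : p.Prime := Fact.out
  obtain ⟨hEc, hEp⟩ := hEe
  -- elements x with x^p = 1 in H ⊓ C(E) commute with A
  have hfix' : ∀ x ∈ (H ⊓ Subgroup.centralizer (E : Set G)), x ^ p = 1 → ∀ a ∈ A, a * x = x * a := by
    intro x hx hxp a ha
    by_cases hx1 : x = 1
    · rw [hx1]; simp
    · have ho : orderOf x = p := orderOf_eq_prime hxp hx1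
      have := hfix x hx ho ha
      exact (Subgroup.mem_centralizer_singleton_iff.1 this)
  have hEcent : E ≤ Subgroup.centralizer (E : Set G) := by
    intro e he
    rw [Subgroup.mem_centralizer_iff]
    intro e' he'
    have := hEc.is_comm.comm (⟨e', he'⟩ : E) ⟨e, he⟩
    exact congrArg Subtype.val this
  -- A centralizes E
  have hAE : A ≤ Subgroup.centralizer (E : Set G) := by
    intro a ha
    rw [Subgroup.mem_centralizer_iff]
    intro e he
    exact (hfix' e ⟨hE he, hEcent he⟩ (hEp e he) a ha).symm
  have hAEc : ⁅A, E⁆ = ⊥ := Subgroup.commutator_eq_bot_iff_le_centralizer.2 hAE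
  -- A normalizes Q = H ⊓ C(E)
  have hAQ : A ≤ Subgroup.normalizer ((H ⊓ Subgroup.centralizer (E : Set G) : Subgroup G) : Set G) := by
    have h1 : A ≤ Subgroup.normalizer ((Subgroup.centralizer (E : Set G) : Subgroup G) : Set G) := by
      have hAN : A ≤ Subgroup.normalizer (E : Set G) := by
        intro a ha
        rw [Subgroup.mem_normalizer_iff]
        intro e
        have hc := Subgroup.mem_centralizer_iff.1 (hAE ha)
        constructor
        · intro he
          have : a * e * a⁻¹ = e := by rw [← hc e he]; group
          rw [this]; exact he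
        · intro he
          have h2 := hc _ he
          have : a * e * a⁻¹ = e := by
            have : a * (a * e * a⁻¹) = a * e := by
              rw [← h2]; group
            exact mul_left_cancel this
          rw [← this]; exact he
      exact hAN.trans (Cfsg.Agent.Lib.H7.normalizer_le_normalizer_centralizer E)
    exact Cfsg.Agent.Lib.H7.le_normalizer_inf hA h1
  have hAQc : ⁅A, H ⊓ Subgroup.centralizer (E : Set G)⁆ = ⊥ := by
    rw [Subgroup.commutator_eq_bot_iff_le_centralizer]
    intro a ha
    rw [Subgroup.mem_centralizer_iff]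
    intro x hx
    have hoa : (orderOf a).Coprime p :=
      Nat.Coprime.coprime_dvd_left (Subgroup.orderOf_dvd_natCard A ha) hcop
    have := Cfsg.Agent.Lib.H15.commute_of_commute_omega hp hoa (hH.to_le inf_le_left) (hAQ ha)
      (fun y hy hyp => hfix' y hy hyp a ha) x hx
    exact this.symm
  have := Cfsg.Agent.Lib.H7.thompson_AxB' p hH (hH.to_le hE) hcop hAEc hA
    (hE.trans Subgroup.le_normalizer) hAQc
  exact Subgroup.commutator_eq_bot_iff_le_centralizer.1 this

end Cfsg.Agent.S1443
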