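import Mathlib
import Cfsg.Statements.S1445
import Cfsg.Agent.Lib.H8.BG37

set_option autoImplicit false
open Cfsg
open Cfsg.Agent.Lib.H8.BG37
open scoped commutatorElement

namespace Cfsg.Agent.S1445

/-- Let G be a solvable group of odd order, K a normal subgroup and R a subgroup with G = KR and the orders of K and R coprime. Suppose K ∩ C_G(x) = K ∩ C_G(R) for every non-identity x ∈ R, and F(K) ∩ C_G(R) = 1. Then [K, R] is contained in the Fitting subgroup of K. -/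
theorem result {G : Type*} [Group G] [Finite G] [Group.IsSolvable G] (hodd : Odd (Nat.card G)) (K R : Subgroup G) [K.Normal] (hKR : K ⊔ R = ⊤) (hcop : (Nat.card K).Coprime (Nat.card R))
    (hprime : ∀ x ∈ R, x ≠ 1 → K ⊓ Subgroup.centralizer ({x} : Set G) = (K ⊓ Subgroup.centralizer (R : Set G)))
    (hF : Cfsg.fittingOf K ⊓ Subgroup.centralizer (R : Set G) = ⊥) :
    ⁅K, R⁆ ≤ Cfsg.fittingOf K := by
  classical
  set F := Cfsg.fittingOf K with hFdef
  haveI hFn : F.Normal := fittingOf_normal K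
  have hFK : F ≤ K := Cfsg.Agent.Lib.H16.BG.fittingOf_le K
  by_cases hR : R = ⊥
  · rw [hR, Subgroup.commutator_bot_right]; exact bot_le
  have hRcard : Nat.card R ≠ 1 := fun h => hR (Subgroup.card_eq_one.mp h)
  obtain ⟨r, hr, hrR⟩ := Nat.exists_prime_and_dvd hRcard
  haveI : Fact r.Prime := ⟨hr⟩
  obtain ⟨x', hx'⟩ := exists_prime_orderOf_dvd_card' r hrR
  set x : G := (x' : G) with hx
  have hxR : x ∈ R := x'.2
  have hxr : orderOf x = r := by rw [hx, Subgroup.orderOf_coe]; exact hx'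
  have hx1 : x ≠ 1 := by
    intro h
    rw [h, orderOf_one] at hxr
    exact hr.one_lt.ne hxr
  have hrK : ¬ r ∣ Nat.card K := by
    intro h
    have := Nat.Coprime.eq_one_of_dvd (hcop.coprime_dvd_right hrR).symm h
    exact hr.one_lt.ne' this
  have hcx : K ⊓ Subgroup.centralizer ({x} : Set G) = K ⊓ Subgroup.centralizer (R : Set G) :=
    hprime x hxR hx1
  have hfix : F ⊓ Subgroup.centralizer ({x} : Set G) = ⊥ := by
    rw [eq_bot_iff, ← hF]
    intro g hg
    have h1 : g ∈ K ⊓ Subgroup.centralizer ({x} : Set G) :=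
      Subgroup.mem_inf.mpr ⟨hFK (Subgroup.mem_inf.mp hg).1, (Subgroup.mem_inf.mp hg).2⟩
    rw [hcx] at h1
    exact Subgroup.mem_inf.mpr ⟨(Subgroup.mem_inf.mp hg).1, (Subgroup.mem_inf.mp h1).2⟩
  have hmain : ⁅K, Subgroup.zpowers x⁆ ≤ F :=
    commutator_zpowers_le_fittingOf inferInstance hodd hr hxr hrK hfix
  -- coprime action of `⟨x⟩` on `K`
  have hKN : Subgroup.normalizer (K : Set G) = ⊤ := Subgroup.normalizer_eq_top_iff.mpr inferInstance
  have hFN : Subgroup.normalizer (F : Set G) = ⊤ := Subgroup.normalizer_eq_top_iff.mpr hFn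
  have hA : Cfsg.Agent.Lib.H1.CoprimeAction (Subgroup.zpowers x) K := by
    refine ⟨by rw [hKN]; exact le_top, ?_, Or.inr ?_⟩
    · rw [Nat.card_zpowers, hxr]
      exact (Nat.Prime.coprime_iff_not_dvd hr).mpr hrK
    · exact Group.isSolvable_of_isSolvable_injective (Subgroup.subtype_injective K)
  rw [Subgroup.commutator_le]
  intro k hk y hy
  have hfix' : ∀ a ∈ Subgroup.zpowers x, a * k * a⁻¹ * k⁻¹ ∈ F := by
    intro a ha
    have h1 : ⁅a, k⁆ ∈ ⁅Subgroup.zpowers x, K⁆ := Subgroup.commutator_mem_commutator ha hk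
    rw [Subgroup.commutator_comm] at h1
    have h2 := hmain h1
    rwa [commutatorElement_def] at h2
  obtain ⟨c, hc, hkc⟩ := Cfsg.Agent.Lib.H1.coprime_centralizer_quotient hA hFK
    (by rw [hFN]; exact le_top) (by rw [hFN]; exact le_top) hk hfix'
  have hcK : c ∈ K := (Subgroup.mem_inf.mp hc).1
  have hcx' : c ∈ Subgroup.centralizer ({x} : Set G) := by
    have h1 := (Subgroup.mem_inf.mp hc).2
    rw [Subgroup.mem_centralizer_iff] at h1 ⊢
    intro z hz
    rw [Set.mem_singleton_iff] at hz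
    rw [hz]
    exact h1 x (Subgroup.mem_zpowers x)
  have hcR : c ∈ Subgroup.centralizer (R : Set G) := by
    have h1 : c ∈ K ⊓ Subgroup.centralizer ({x} : Set G) := Subgroup.mem_inf.mpr ⟨hcK, hcx'⟩
    rw [hcx] at h1
    exact (Subgroup.mem_inf.mp h1).2
  have hyc : y * c = c * y := Subgroup.mem_centralizer_iff.mp hcR y hy
  -- `k = c * f` with `f ∈ F`
  set f : G := c⁻¹ * k with hf
  have hfF : f ∈ F := by
    have h1 := F.inv_mem hkc
    have h2 : (k⁻¹ * c)⁻¹ = f := by rw [hf]; group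
    rwa [h2] at h1
  have hkf : k = c * f := by rw [hf]; group
  have h1 : y * f⁻¹ * y⁻¹ ∈ F := hFn.conj_mem _ (F.inv_mem hfF) y
  have h2 : f * (y * f⁻¹ * y⁻¹) ∈ F := F.mul_mem hfF h1
  have h3 : c * (f * (y * f⁻¹ * y⁻¹)) * c⁻¹ ∈ F := hFn.conj_mem _ h2 c
  have hyc' : c⁻¹ * y⁻¹ = y⁻¹ * c⁻¹ := by
    have : (y * c)⁻¹ = (c * y)⁻¹ := by rw [hyc]
    simpa [mul_inv_rev] using this
  have h4 : ⁅k, y⁆ = c * (f * (y * f⁻¹ * y⁻¹)) * c⁻¹ := by
    rw [commutatorElement_def, hkf]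
    calc c * f * y * (c * f)⁻¹ * y⁻¹ = c * f * y * f⁻¹ * (c⁻¹ * y⁻¹) := by group
      _ = c * f * y * f⁻¹ * (y⁻¹ * c⁻¹) := by rw [hyc']
      _ = c * (f * (y * f⁻¹ * y⁻¹)) * c⁻¹ := by group
  rw [h4]
  exact h3

end Cfsg.Agent.S1445
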