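import Cfsg.Statements.S1447
-- import your own Cfsg.Agent.* helpers here
import Mathlib
import Cfsg.Agent.Lib.H16.MetaCoprimeD
import Cfsg.Agent.Lib.H1.CoprimeAction
import Cfsg.Agent.Lib.H1.CoprimeAbelian
import Cfsg.Agent.Lib.H1.FpfAction
import Cfsg.Agent.S0638

set_option autoImplicit false
open Cfsg

namespace Cfsg.Agent.S1447

open Cfsg.Agent.Lib.H16.Meta
open scoped commutatorElement

/-- `Ω₁` of a subgroup computed inside the subgroup. -/
theorem map_omegaOne_top {G : Type*} [Group G] (p : ℕ) (H : Subgroup G) :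
    (Cfsg.omegaOne p (⊤ : Subgroup ↥H)).map H.subtype = Cfsg.omegaOne p H := by
  unfold Cfsg.omegaOne
  rw [MonoidHom.map_closure]
  congr 1
  ext x
  constructor
  · rintro ⟨y, ⟨_, hy⟩, rfl⟩
    refine ⟨y.2, ?_⟩
    have := congrArg Subtype.val hy
    simpa using this
  · rintro ⟨hx, hxp⟩
    refine ⟨⟨x, hx⟩, ⟨Subgroup.mem_top _, ?_⟩, rfl⟩
    apply Subtype.ext
    simpa using hxp

/-- For a non-cyclic metacyclic `p`-subgroup (`p` odd), `Ω₁` has order `p ^ 2`. -/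
theorem card_omegaOne_of_not_isCyclic {G : Type*} [Group G] [Finite G] {p : ℕ} [Fact p.Prime]
    (hp : p ≠ 2) (H : Subgroup G) (hH : IsPGroup p H) (hm : Cfsg.IsMetacyclic ↥H)
    (hnc : ¬ IsCyclic ↥H) : Nat.card (Cfsg.omegaOne p H) = p ^ 2 := by
  have h1 := (Cfsg.Agent.S0638.result hp hH hm hnc).2
  rw [← map_omegaOne_top, ← h1]
  exact Nat.card_congr
    (Subgroup.equivMapOfInjective _ H.subtype H.subtype_injective).toEquiv.symm

theorem omegaOne_le {G : Type*} [Group G] (p : ℕ) (H : Subgroup G) : Cfsg.omegaOne p H ≤ H := by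
  unfold Cfsg.omegaOne
  rw [Subgroup.closure_le]
  intro x hx
  exact hx.1

theorem omegaOne_mono {G : Type*} [Group G] (p : ℕ) {H L : Subgroup G} (hHL : H ≤ L) :
    Cfsg.omegaOne p H ≤ Cfsg.omegaOne p L := by
  unfold Cfsg.omegaOne
  apply Subgroup.closure_mono
  intro x hx
  exact ⟨hHL hx.1, hx.2⟩

/-- a nontrivial `p`-subgroup contains an element `x ≠ 1` with `x ^ p = 1` -/
theorem exists_pow_eq_one_of_ne_bot {G : Type*} [Group G] [Finite G] {p : ℕ} [hpf : Fact p.Prime]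
    (H : Subgroup G) (hH : IsPGroup p H) (hne : H ≠ ⊥) : ∃ x ∈ H, x ≠ 1 ∧ x ^ p = 1 := by
  have hp : p.Prime := hpf.out
  obtain ⟨j, hj⟩ := IsPGroup.iff_card.mp hH
  have hj0 : j ≠ 0 := by
    intro h0
    rw [h0, pow_zero] at hj
    exact hne (Subgroup.card_eq_one.mp hj)
  have hdvd : p ∣ Nat.card H := by rw [hj]; exact dvd_pow_self p hj0
  obtain ⟨y, hy⟩ := exists_prime_orderOf_dvd_card' p hdvd
  refine ⟨y, y.2, ?_, ?_⟩
  · intro h1
    have : y = 1 := Subtype.ext h1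
    rw [this, orderOf_one] at hy
    exact hp.ne_one hy.symm
  · have : y ^ p = 1 := by rw [← hy]; exact pow_orderOf_eq_one y
    have := congrArg Subtype.val this
    simpa using this

/-- If `K` is a non-cyclic subgroup of the non-cyclic metacyclic `p`-group `R`, then every element of
order dividing `p` of `R` lies in `K`. -/
theorem mem_of_pow_eq_one {G : Type*} [Group G] [Finite G] {p : ℕ} [Fact p.Prime] (hp : p ≠ 2)
    (R K : Subgroup G) (hR : IsPGroup p R) (hm : Cfsg.IsMetacyclic ↥R) (hRnc : ¬ IsCyclic ↥R)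
    (hKR : K ≤ R) (hKnc : ¬ IsCyclic ↥K) {x : G} (hx : x ∈ R) (hxp : x ^ p = 1) : x ∈ K := by
  have h1 := card_omegaOne_of_not_isCyclic hp R hR hm hRnc
  have h2 := card_omegaOne_of_not_isCyclic hp K (hR.to_le hKR) (isMetacyclic_of_le hKR hm) hKnc
  have h3 : Cfsg.omegaOne p K = Cfsg.omegaOne p R :=
    Subgroup.eq_of_le_of_card_ge (omegaOne_mono p hKR) (by rw [h1, h2])
  have h4 : x ∈ Cfsg.omegaOne p R := Subgroup.subset_closure ⟨hx, hxp⟩
  rw [← h3] at h4
  exact omegaOne_le p K h4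

/-- Let G be a finite group, p an odd prime, R a metacyclic p-subgroup and A a subgroup of order coprime to p normalizing R. Then [R, A] is abelian; R is generated by [R, A] and R ∩ C_G(A), which meet trivially; and if R is non-abelian and A does not centralize R, then [R, A] and R ∩ C_G(A) are nontrivial cyclic groups and [R, R] ≤ [R, A]. -/
theorem result {G : Type*} [Group G] [Finite G] (p : ℕ) [Fact p.Prime] (hp : p ≠ 2) (R A : Subgroup G) (hR : IsPGroup p R) (hRm : Cfsg.IsMetacyclic R)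
    (hA : (A ≤ Subgroup.normalizer (R : Set G))) (hcop : (Nat.card A).Coprime p) :
    IsMulCommutative ↥⁅R, A⁆ ∧ ⁅R, A⁆ ⊔ (R ⊓ Subgroup.centralizer (A : Set G)) = R ∧ ⁅R, A⁆ ⊓ (R ⊓ Subgroup.centralizer (A : Set G)) = ⊥ ∧
      (¬ IsMulCommutative R → ¬ A ≤ Subgroup.centralizer (R : Set G) →
        ⁅R, A⁆ ≠ ⊥ ∧ IsCyclic ↥⁅R, A⁆ ∧ (R ⊓ Subgroup.centralizer (A : Set G)) ≠ ⊥ ∧ IsCyclic ↥(R ⊓ Subgroup.centralizer (A : Set G)) ∧ ⁅R, R⁆ ≤ ⁅R, A⁆) := by
  classical
  have hpP : p.Prime := Fact.out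
  obtain ⟨nR, hnR⟩ := IsPGroup.iff_card.mp hR
  have hcopR : (Nat.card A).Coprime (Nat.card R) := by
    rw [hnR]; exact Nat.Coprime.pow_right nR hcop
  have hRsolv : Group.IsSolvable R := by
    haveI : Group.IsNilpotent R := hR.isNilpotent
    infer_instance
  have hAR : Cfsg.Agent.Lib.H1.CoprimeAction A R := ⟨hA, hcopR, Or.inr hRsolv⟩
  set K := ⁅R, A⁆ with hKdef
  set C := R ⊓ Subgroup.centralizer (A : Set G) with hCdef
  have hKR : K ≤ R := hAR.commutator_le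
  have hAK : A ≤ Subgroup.normalizer (K : Set G) := Subgroup.normalizer_commutator_ge_right R A
  have hRK : R ≤ Subgroup.normalizer (K : Set G) := Subgroup.normalizer_commutator_ge_left R A
  have hKK : ⁅K, A⁆ = K := Cfsg.Agent.Lib.H1.coprime_commutator_commutator hAR
  have hKp : IsPGroup p K := hR.to_le hKR
  have hKm : Cfsg.IsMetacyclic ↥K := isMetacyclic_of_le hKR hRm
  -- `K` is abelian
  have hKcomm : ∀ x y : ↥K, x * y = y * x := by
    let φ : A →* MulAut K := Cfsg.Agent.Lib.H1.conjAutHom hAK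
    have hcard : (Nat.card φ.range).Coprime p :=
      Nat.Coprime.coprime_dvd_left (Subgroup.card_range_dvd φ) hcop
    apply comm_of_metacyclic_of_comm_eq_top hp hKp hKm φ.range hcard
    rw [eq_top_iff]
    intro x _
    set S : Set ↥K := {x : ↥K | ∃ g : ↥K, ∃ a ∈ φ.range, x = g⁻¹ * a g} with hS
    have hle : ⁅K, A⁆ ≤ (Subgroup.closure S).map K.subtype := by
      rw [Subgroup.commutator_le]
      intro k hk a ha
      have hk' : k⁻¹ ∈ K := K.inv_mem hk
      refine ⟨(⟨k⁻¹, hk'⟩ : ↥K)⁻¹ * φ ⟨a, ha⟩ ⟨k⁻¹, hk'⟩, ?_, ?_⟩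
      · apply Subgroup.subset_closure
        exact ⟨⟨k⁻¹, hk'⟩, φ ⟨a, ha⟩, ⟨⟨a, ha⟩, rfl⟩, rfl⟩
      · show ((⟨k⁻¹, hk'⟩ : ↥K)⁻¹ * φ ⟨a, ha⟩ ⟨k⁻¹, hk'⟩ : ↥K).1 = ⁅k, a⁆
        rw [Subgroup.coe_mul, Subgroup.coe_inv, Cfsg.Agent.Lib.H1.conjAutHom_apply,
          commutatorElement_def]
        simp only [inv_inv]
        group
    rw [hKK] at hle
    obtain ⟨y, hy, hyx⟩ := hle x.2
    have : y = x := Subtype.ext hyx
    rw [← this]; exact hy
  have hKcommI : IsMulCommutative ↥K := ⟨⟨hKcomm⟩⟩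
  have hsup : K ⊔ C = R := Cfsg.Agent.Lib.H1.coprime_commutator_sup_centralizer hAR
  have hinf : K ⊓ C = ⊥ := by
    obtain ⟨nK, hnK⟩ := IsPGroup.iff_card.mp hKp
    have hcopK : (Nat.card A).Coprime (Nat.card K) := by
      rw [hnK]; exact Nat.Coprime.pow_right nK hcop
    have h1 := Cfsg.Agent.Lib.H1.coprime_abelian_centralizer_inf_commutator hAK hcopK
    rw [hKK] at h1
    rw [eq_bot_iff]
    intro x hx
    rw [← h1]
    exact ⟨⟨hx.1, hx.2.2⟩, hx.1⟩
  refine ⟨hKcommI, hsup, hinf, ?_⟩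
  intro hRna hAC
  have hRnc : ¬ IsCyclic ↥R := fun hc => hRna hc.isMulCommutative
  have hCR : C ≤ R := inf_le_left
  have hCp : IsPGroup p C := hR.to_le hCR
  have hK1 : K ≠ ⊥ := by
    intro hb
    apply hAC
    have h1 : R ≤ Subgroup.centralizer (A : Set G) :=
      Subgroup.commutator_eq_bot_iff_le_centralizer.mp hb
    intro a ha
    rw [Subgroup.mem_centralizer_iff]
    intro r hr
    have := Subgroup.mem_centralizer_iff.mp (h1 hr) a ha
    exact this.symm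
  have hC1 : C ≠ ⊥ := by
    intro hb
    apply hRna
    rw [hb, sup_bot_eq] at hsup
    rw [← hsup]
    exact hKcommI
  have hKcyc : IsCyclic ↥K := by
    by_contra hnc
    obtain ⟨c, hcC, hc1, hcp⟩ := exists_pow_eq_one_of_ne_bot C hCp hC1
    have hcK : c ∈ K := mem_of_pow_eq_one hp R K hR hRm hRnc hKR hnc (hCR hcC) hcp
    have : c ∈ K ⊓ C := ⟨hcK, hcC⟩
    rw [hinf, Subgroup.mem_bot] at this
    exact hc1 this
  have hCcyc : IsCyclic ↥C := by
    by_contra hnc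
    obtain ⟨k, hkK, hk1, hkp⟩ := exists_pow_eq_one_of_ne_bot K hKp hK1
    have hkC : k ∈ C := mem_of_pow_eq_one hp R C hR hRm hRnc hCR hnc (hKR hkK) hkp
    have : k ∈ K ⊓ C := ⟨hkK, hkC⟩
    rw [hinf, Subgroup.mem_bot] at this
    exact hk1 this
  refine ⟨hK1, hKcyc, hC1, hCcyc, ?_⟩
  -- `[R, R] ≤ K`
  haveI hKn : (K.subgroupOf R).Normal := (Subgroup.normal_subgroupOf_iff_le_normalizer hKR).mpr hRK
  have hCcomm : ∀ c₁ ∈ C, ∀ c₂ ∈ C, c₁ * c₂ = c₂ * c₁ := by
    intro c₁ h1 c₂ h2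
    have := hCcyc.isMulCommutative.is_comm.comm (⟨c₁, h1⟩ : ↥C) ⟨c₂, h2⟩
    exact congrArg Subtype.val this
  have hquot : IsMulCommutative (↥R ⧸ K.subgroupOf R) := by
    have hrep : ∀ q : ↥R ⧸ K.subgroupOf R, ∃ c : ↥R, (c : G) ∈ C ∧ q = QuotientGroup.mk c := by
      intro q
      obtain ⟨r, rfl⟩ := QuotientGroup.mk_surjective q
      have hr : (r : G) ∈ K ⊔ C := by rw [hsup]; exact r.2
      haveI : (K.subgroupOf (K ⊔ C)).Normal := by
        rw [hsup]; exact hKn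
      obtain ⟨k, hk, c, hc, hkc⟩ : ∃ k ∈ K, ∃ c ∈ C, k * c = (r : G) := by
        have hKnorm : C ≤ Subgroup.normalizer (K : Set G) := hCR.trans hRK
        rw [Subgroup.sup_eq_closure_mul] at hr
        -- use the normalizer form
        have := Subgroup.mem_sup_of_normal_left (s := K.subgroupOf R) (t := C.subgroupOf R) (x := r)
        have hr' : r ∈ K.subgroupOf R ⊔ C.subgroupOf R := by
          rw [← Subgroup.subgroupOf_sup hKR hCR, hsup]
          exact Subgroup.mem_subgroupOf.mpr r.2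
        obtain ⟨y, hy, z, hz, hyz⟩ := this.mp hr'
        exact ⟨y, hy, z, hz, by rw [← hyz]; rfl⟩
      refine ⟨⟨c, hCR hc⟩, hc, ?_⟩
      rw [QuotientGroup.eq]
      rw [Subgroup.mem_subgroupOf]
      show ((r : G))⁻¹ * c ∈ K
      rw [← hkc]
      have : (k * c)⁻¹ * c = c⁻¹ * k⁻¹ * c := by group
      rw [this]
      have hcn := hCR.trans hRK (C.inv_mem hc)
      have := (Subgroup.mem_normalizer_iff.mp hcn k⁻¹).mp (K.inv_mem hk)
      simpa using this
    refine ⟨⟨fun a b => ?_⟩⟩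
    obtain ⟨c₁, h1, rfl⟩ := hrep a
    obtain ⟨c₂, h2, rfl⟩ := hrep b
    rw [← QuotientGroup.mk_mul, ← QuotientGroup.mk_mul]
    congr 1
    apply Subtype.ext
    exact hCcomm _ h1 _ h2
  have hcommle : commutator ↥R ≤ K.subgroupOf R :=
    (Subgroup.Normal.quotient_commutative_iff_commutator_le).mp hquot
  rw [← Subgroup.map_subtype_commutator]
  intro x hx
  obtain ⟨y, hy, rfl⟩ := hx
  exact Subgroup.mem_subgroupOf.mp (hcommle hy)

end Cfsg.Agent.S1447
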