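import Cfsg.Statements.S1454
-- import your own Cfsg.Agent.* helpers here
import Mathlib
import Cfsg.Agent.Lib.H16.R2ActG
import Cfsg.Agent.Lib.H16.NarrowAutF
import Cfsg.Agent.Lib.H16.NarrowMaxSq
import Cfsg.Agent.Lib.H16.RankTwoD
import Cfsg.Agent.Lib.H1.FpfAction

set_option autoImplicit false
open Cfsg

namespace Cfsg.Agent.S1454

open Cfsg.Agent.Lib.H16 Cfsg.Agent.Lib.H16.Narrow

/-- Let G be a finite group, p an odd prime, R a narrow p-subgroup and A a solvable subgroup of odd order normalizing R with A ∩ C_G(R) = 1. Then [A, A] ≤ O_p(A) and the index of O_p(A) in A is coprime to p; if R has an elementary abelian subgroup of order p ^ 3 then the order of every element of A of order coprime to p divides p − 1; and if the order of A is a prime not dividing p(p − 1), then 2·#A divides p + 1, and if in addition [R, A] = R and R is non-abelian then #R = p ^ 3. -/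
theorem result {G : Type*} [Group G] [Finite G] (p : ℕ) [Fact p.Prime] (hp : p ≠ 2) (R A : Subgroup G) (hR : IsPGroup p R) (hRn : Cfsg.IsNarrow p R)
    (hA : (A ≤ Subgroup.normalizer (R : Set G))) (hAs : Group.IsSolvable A) (hAodd : Odd (Nat.card A)) (hfaith : A ⊓ Subgroup.centralizer (R : Set G) = ⊥) :
    (commutator ↥A ≤ Cfsg.pCore p ↥A ∧ ((Cfsg.pCore p ↥A).index).Coprime p) ∧
      (¬ Cfsg.PRankLE p 2 R → ∀ a ∈ A, (orderOf a).Coprime p → orderOf a ∣ p - 1) ∧
      ((Nat.card A).Prime → ¬ Nat.card A ∣ p * (p - 1) →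
        2 * Nat.card A ∣ p + 1 ∧ (⁅R, A⁆ = R → ¬ IsMulCommutative R → Nat.card R = p ^ 3)) := by
  classical
  have hpp : p.Prime := Fact.out
  have hsA : Group.IsSolvable ↥A := hAs
  let ρ : ↥A →* MulAut ↥R := Cfsg.Agent.Lib.H1.conjAutHom hA
  have hker : ρ.ker = ⊥ := by
    rw [eq_bot_iff]
    intro a ha
    rw [Subgroup.mem_bot]
    have ha' : ρ a = 1 := MonoidHom.mem_ker.mp ha
    have hcent : (a : G) ∈ Subgroup.centralizer (R : Set G) := by
      rw [Subgroup.mem_centralizer_iff]
      intro r hr'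
      have h1 := congrArg (fun β : MulAut ↥R => ((β ⟨r, hr'⟩ : ↥R) : G)) ha'
      simp only [MulAut.one_apply] at h1
      have h2 : (a : G) * r * (a : G)⁻¹ = r := h1
      calc r * (a : G) = ((a : G) * r * (a : G)⁻¹) * (a : G) := by rw [h2]
        _ = (a : G) * r := by group
    have hmem : (a : G) ∈ A ⊓ Subgroup.centralizer (R : Set G) := ⟨a.2, hcent⟩
    rw [hfaith, Subgroup.mem_bot] at hmem
    exact Subtype.ext hmem
  have hkerp : IsPGroup p ρ.ker := by
    rw [hker]
    exact IsPGroup.of_bot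
  have hinj : Function.Injective ρ := (MonoidHom.ker_eq_bot_iff ρ).mp hker
  -- the narrow structure in the case of rank at least three
  have hmax : ¬ Cfsg.PRankLE p 2 ↥R → ∃ E : Subgroup ↥R, MaxSq ↥R p E := by
    intro hrk
    rcases hRn with h | ⟨R₀, R₁, h0, h1, hd, hc, hC⟩
    · exact absurd h hrk
    · exact exists_maxSq_of_narrow hp hR hrk R₀ R₁ h0 h1 hd hc hC
  -- part (b)
  have hb : ¬ Cfsg.PRankLE p 2 ↥R → ∀ a ∈ A, (orderOf a).Coprime p → orderOf a ∣ p - 1 := by
    intro hrk a ha hcop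
    obtain ⟨E, hE⟩ := hmax hrk
    have hm : (ρ ⟨a, ha⟩) ^ (orderOf a) = 1 := by
      rw [← map_pow]
      have : (⟨a, ha⟩ : ↥A) ^ orderOf a = 1 := by
        apply Subtype.ext
        rw [Subgroup.coe_pow, Subgroup.coe_one]
        exact pow_orderOf_eq_one a
      rw [this, map_one]
    have h1 : (ρ ⟨a, ha⟩) ^ (p - 1) = 1 := pow_pred_eq_one hE (ρ ⟨a, ha⟩) hm hcop
    rw [← map_pow] at h1
    have h2 : (⟨a, ha⟩ : ↥A) ^ (p - 1) = 1 := hinj (by rw [h1, map_one])
    have h3 : a ^ (p - 1) = 1 := by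
      have := congrArg Subtype.val h2
      simpa using this
    exact orderOf_dvd_of_pow_eq_one h3
  refine ⟨?_, hb, ?_⟩
  · -- part (a)
    have hmain : IsPGroup p ↥(commutator ↥A) := by
      by_cases hrk : Cfsg.PRankLE p 2 ↥R
      · exact Cfsg.Agent.Lib.H16.RankTwo.isPGroup_commutator_of_action hp hR hrk hsA hAodd ρ hkerp
      · obtain ⟨E, hE⟩ := hmax hrk
        exact isPGroup_commutator_of_action_maxSq hE ρ hkerp
    exact commutator_le_pCore_of_isPGroup hmain
  · -- part (c)
    intro hq hnd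
    have hqp : ¬ Nat.card A ∣ p := fun h => hnd (h.trans (dvd_mul_right p (p - 1)))
    have hqp1 : ¬ Nat.card A ∣ p - 1 := fun h => hnd (h.trans (dvd_mul_left (p - 1) p))
    have hqne : Nat.card A ≠ p := fun h => hqp (h ▸ dvd_rfl)
    haveI : Fact (Nat.card A).Prime := ⟨hq⟩
    obtain ⟨a, ha⟩ := exists_prime_orderOf_dvd_card' (G := ↥A) (Nat.card A) dvd_rfl
    have ha' : orderOf (a : G) = Nat.card A := by rw [Subgroup.orderOf_coe]; exact ha
    have hcop : (Nat.card A).Coprime p := (Nat.coprime_primes hq hpp).mpr hqne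
    have hrk : Cfsg.PRankLE p 2 ↥R := by
      by_contra hrk
      apply hqp1
      have := hb hrk (a : G) a.2 (by rw [ha']; exact hcop)
      rwa [ha'] at this
    refine ⟨?_, ?_⟩
    · have hαq : (ρ a) ^ (Nat.card A) = 1 := by
        rw [← map_pow, ← ha, pow_orderOf_eq_one, map_one]
      have hα1 : ρ a ≠ 1 := by
        intro h
        have h1 : a = 1 := hinj (by rw [h, map_one])
        rw [h1, orderOf_one] at ha
        exact hq.one_lt.ne ha
      have hdvd := Cfsg.Agent.Lib.H16.RankTwo.prime_dvd_of_aut hp hR hrk hq hqne (ρ a) hαq hα1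
      have hp1 : 2 ≤ p := hpp.two_le
      have hfac : p ^ 2 - 1 = (p - 1) * (p + 1) := by
        obtain ⟨k, rfl⟩ : ∃ k, p = k + 1 := ⟨p - 1, by omega⟩
        apply Nat.sub_eq_of_eq_add
        simp only [Nat.add_sub_cancel]
        ring
      rw [hfac] at hdvd
      have h1 : Nat.card A ∣ p + 1 := by
        rcases (Nat.Prime.dvd_mul hq).mp hdvd with h | h
        · exact absurd h hqp1
        · exact h
      have hpodd : Odd p := hpp.odd_of_ne_two hp
      have h2 : 2 ∣ p + 1 := by
        obtain ⟨k, hk⟩ := hpodd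
        exact ⟨k + 1, by omega⟩
      have hq2 : Nat.card A ≠ 2 := by
        intro h
        rw [h] at hAodd
        obtain ⟨k, hk⟩ := hAodd
        omega
      have hcop2 : Nat.Coprime 2 (Nat.card A) :=
        (Nat.coprime_primes Nat.prime_two hq).mpr (Ne.symm hq2)
      exact Nat.Coprime.mul_dvd_of_dvd_of_dvd hcop2 h2 h1
    · intro hRA hnc
      exact Cfsg.Agent.Lib.H16.R2A.card_of_commutator_eq hp R A hR hrk hA hq hnd hRA hnc

end Cfsg.Agent.S1454
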