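import Cfsg.Statements.S1456
-- import your own Cfsg.Agent.* helpers here
import Mathlib
import Cfsg.Agent.Lib.H16.NarrowFit

set_option autoImplicit false
open Cfsg

namespace Cfsg.Agent.S1456

open Cfsg.Agent.Lib.H16.Narrow Cfsg.Agent.Lib.H16.RankTwo

theorem pRankLE_of_le {G : Type*} [Group G] {q k : ℕ} {H K : Subgroup G} (hHK : H ≤ K)
    (h : Cfsg.PRankLE q k ↥K) : Cfsg.PRankLE q k ↥H := by
  intro A hA hexp
  have h1 : Nat.card (A.map (Subgroup.inclusion hHK)) = Nat.card A :=
    Subgroup.card_map_of_injective (Subgroup.inclusion_injective hHK)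
  rw [← h1]
  apply h
  · exact Subgroup.map_isMulCommutative A _
  · rintro _ ⟨a, ha, rfl⟩
    rw [← map_pow, hexp a ha, map_one]


/-- Let G be a solvable group of odd order, p a prime, and E an elementary abelian p-subgroup of the Fitting subgroup F(G) such that F(G) ∩ C_G(E) has no elementary abelian subgroup of order q ^ 3 for any prime q. Then the derived subgroup of G is contained in F(G). -/
theorem result {G : Type*} [Group G] [Finite G] [Group.IsSolvable G] (hodd : Odd (Nat.card G)) (p : ℕ) [Fact p.Prime] (E : Subgroup G) (hE : E ≤ Cfsg.fittingSubgroup G) (hEe : Cfsg.IsElementaryAbelian p E)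
    (hr : Cfsg.RankLE 2 ↥(Cfsg.fittingSubgroup G ⊓ Subgroup.centralizer (E : Set G))) :
    commutator G ≤ Cfsg.fittingSubgroup G := by
  classical
  have hs : Group.IsSolvable G := inferInstance
  have hpp : p.Prime := Fact.out
  have hFle : ∀ q : ℕ, q.Prime → Cfsg.pCore q G ≤ Cfsg.fittingSubgroup G := by
    intro q hq
    haveI : Fact q.Prime := ⟨hq⟩
    rw [← pCore_sup_Vr q]
    exact le_sup_left
  have hEp : E ≤ Cfsg.pCore p G := by
    intro e he
    have h1 : orderOf e ∣ p := orderOf_dvd_of_pow_eq_one (hEe.2 e he)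
    rcases (Nat.dvd_prime hpp).mp h1 with h2 | h2
    · exact mem_pCore_of_mem_fitting_of_orderOf p (hE he) (k := 0) (by rw [h2, pow_zero])
    · exact mem_pCore_of_mem_fitting_of_orderOf p (hE he) (k := 1) (by rw [h2, pow_one])
  apply commutator_le_fittingSubgroup_of_centralizes hs
  intro q hq d hd hcop
  haveI : Fact q.Prime := ⟨hq⟩
  by_cases hqp : q = p
  · subst hqp
    by_cases hrk : Cfsg.PRankLE q 2 ↥(Cfsg.pCore q G)
    · exact mem_centralizer_pCore_of_mem_commutator hs hodd hrk hd hcop
    · have hq2 : q ≠ 2 := by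
        intro h2
        apply hrk
        subst h2
        rw [pCore_two_eq_bot hodd]
        intro A _ _
        have h3 : Nat.card A ≤ Nat.card (⊥ : Subgroup G) := Subgroup.card_le_card_group A
        rw [Subgroup.card_bot] at h3
        omega
      have hE'' : Cfsg.IsElementaryAbelian q (E.subgroupOf (Cfsg.pCore q G)) := by
        refine ⟨⟨⟨fun a b => ?_⟩⟩, ?_⟩
        · apply Subtype.ext
          apply Subtype.ext
          have h4 := hEe.1.is_comm.comm (⟨((a : ↥(Cfsg.pCore q G)) : G), a.2⟩ : E)
            ⟨((b : ↥(Cfsg.pCore q G)) : G), b.2⟩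
          show ((a : ↥(Cfsg.pCore q G)) : G) * ((b : ↥(Cfsg.pCore q G)) : G) =
            ((b : ↥(Cfsg.pCore q G)) : G) * ((a : ↥(Cfsg.pCore q G)) : G)
          exact congrArg Subtype.val h4
        · intro a ha
          apply Subtype.ext
          rw [Subgroup.coe_pow, Subgroup.coe_one]
          exact hEe.2 _ ha
      have hC : ∀ B : Subgroup ↥(Cfsg.pCore q G), Cfsg.IsElementaryAbelian q B →
          B ≤ Subgroup.centralizer ((E.subgroupOf (Cfsg.pCore q G) : Subgroup ↥(Cfsg.pCore q G)) :
            Set ↥(Cfsg.pCore q G)) → Nat.card B ≤ q ^ 2 := by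
        intro B hB hBC
        have hle : B.map (Cfsg.pCore q G).subtype ≤
            Cfsg.fittingSubgroup G ⊓ Subgroup.centralizer (E : Set G) := by
          rintro _ ⟨b, hb, rfl⟩
          refine Subgroup.mem_inf.mpr ⟨hFle q hq b.2, ?_⟩
          rw [Subgroup.mem_centralizer_iff]
          intro e he
          have h5 := Subgroup.mem_centralizer_iff.mp (hBC hb) ⟨e, hEp he⟩
            (Subgroup.mem_subgroupOf.mpr he)
          exact congrArg Subtype.val h5
        set B' : Subgroup ↥(Cfsg.fittingSubgroup G ⊓ Subgroup.centralizer (E : Set G)) :=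
          (B.map (Cfsg.pCore q G).subtype).subgroupOf _ with hB'
        have hcard : Nat.card B' = Nat.card B := by
          rw [hB', Nat.card_congr (Subgroup.subgroupOfEquivOfLe hle).toEquiv]
          exact Subgroup.card_map_of_injective (Subgroup.subtype_injective _)
        rw [← hcard]
        apply hr q hq
        · refine ⟨⟨fun a b => ?_⟩⟩
          apply Subtype.ext
          apply Subtype.ext
          obtain ⟨a', ha', haa⟩ := Subgroup.mem_subgroupOf.mp a.2
          obtain ⟨b', hb', hbb⟩ := Subgroup.mem_subgroupOf.mp b.2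
          have h6 := hB.1.is_comm.comm (⟨a', ha'⟩ : B) ⟨b', hb'⟩
          have h7 : (a' : G) * (b' : G) = (b' : G) * (a' : G) := by
            have := congrArg (fun x : B => ((x : ↥(Cfsg.pCore q G)) : G)) h6
            simpa using this
          have haa' : (a' : G) = ((a : ↥(Cfsg.fittingSubgroup G ⊓ Subgroup.centralizer (E : Set G))) : G) := haa
          have hbb' : (b' : G) = ((b : ↥(Cfsg.fittingSubgroup G ⊓ Subgroup.centralizer (E : Set G))) : G) := hbb
          rw [haa', hbb'] at h7
          exact h7
        · intro a ha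
          obtain ⟨a', ha', haa⟩ := Subgroup.mem_subgroupOf.mp ha
          apply Subtype.ext
          rw [Subgroup.coe_pow, Subgroup.coe_one]
          have haa' : (a' : G) = (a : G) := haa
          rw [← haa']
          have h8 := hB.2 a' ha'
          have := congrArg Subtype.val h8
          simpa using this
      obtain ⟨B, hB⟩ := exists_maxSq_of_centralizer hq2 (Cfsg.Agent.Lib.H1.pCore_isPGroup q G) hrk
        (E.subgroupOf (Cfsg.pCore q G)) hE'' hC
      apply mem_centralizer_of_conjNormal_eq_one
      exact map_eq_one_of_mem_commutator_maxSq hB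
        (MulAut.conjNormal : G →* MulAut (Cfsg.pCore q G)) hd hcop
  · have hQC : Cfsg.pCore q G ≤ Cfsg.fittingSubgroup G ⊓ Subgroup.centralizer (E : Set G) := by
      intro x hx
      refine Subgroup.mem_inf.mpr ⟨hFle q hq hx, ?_⟩
      rw [Subgroup.mem_centralizer_iff]
      intro e he
      have h1 : x ∈ Subgroup.centralizer (Cfsg.pCore p G : Set G) :=
        Vr_le_centralizer_pCore p (pCore_le_Vr hq hqp hx)
      exact Subgroup.mem_centralizer_iff.mp h1 e (hEp he)
    have hrk : Cfsg.PRankLE q 2 ↥(Cfsg.pCore q G) := pRankLE_of_le hQC (hr q hq)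
    exact mem_centralizer_pCore_of_mem_commutator hs hodd hrk hd hcop

end Cfsg.Agent.S1456
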