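import Mathlib
import Cfsg.Statements.S1458
import Cfsg.Agent.Lib.H8.ZJFull
import Cfsg.Agent.Lib.H16.OddStable
import Cfsg.Agent.Lib.H16.PuigOdd
import Cfsg.Agent.Lib.H10.PSolvable
import Cfsg.Agent.Lib.H1.PSolvOfSolv
import Cfsg.Agent.Lib.H9.PPrimeCore
import Cfsg.Agent.Lib.H22.PPrimeCore
set_option autoImplicit false
open Cfsg
namespace Cfsg.Agent.S1458

open Cfsg.Agent.Lib.H8.ZJFull

/-- Let G be a solvable group of odd order, p a prime and S a Sylow p-subgroup of G. Then the subgroup generated by the centre of the Thompson subgroup of S and O_{p'}(G) is normal in G. -/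
theorem result {G : Type*} [Group G] [Finite G] [Group.IsSolvable G] (hodd : Odd (Nat.card G)) (p : ℕ) [Fact p.Prime] (S : Sylow p G) :
    (Cfsg.centerThompsonOf p (S : Subgroup G) ⊔ Cfsg.pPrimeCore p G).Normal := by
  classical
  have hp : p.Prime := Fact.out
  obtain ⟨K, hK⟩ : ∃ K : Subgroup G, K = Cfsg.pPrimeCore p G := ⟨_, rfl⟩
  rw [← hK]
  haveI hKn : K.Normal := hK ▸ Cfsg.Agent.Lib.H22.pPrimeCore_normal p
  have hKc : (Nat.card K).Coprime p := hK ▸ Cfsg.Agent.Lib.H22.card_pPrimeCore_coprime p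
  have hZS : Cfsg.centerThompsonOf p (S : Subgroup G) ≤ (S : Subgroup G) := by
    rw [← ZF_eq]; exact ZF_le _ _
  by_cases hp2 : p = 2
  · -- the Sylow 2-subgroup of a group of odd order is trivial
    have hS1 : (S : Subgroup G) = ⊥ := by
      rw [← Subgroup.card_eq_one]
      obtain ⟨k, hk⟩ := IsPGroup.iff_card.mp S.isPGroup'
      have hdvd : Nat.card (S : Subgroup G) ∣ Nat.card G := Subgroup.card_subgroup_dvd_card _
      rcases Nat.eq_zero_or_pos k with rfl | hk0
      · simpa using hk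
      · exfalso
        have h2 : 2 ∣ Nat.card G := by
          refine dvd_trans ?_ hdvd
          rw [hk, hp2]
          exact dvd_pow_self 2 hk0.ne'
        exact (Nat.not_even_iff_odd.mpr hodd) (even_iff_two_dvd.mpr h2)
    have : Cfsg.centerThompsonOf p (S : Subgroup G) = ⊥ := by
      rw [eq_bot_iff, ← hS1]; exact hZS
    rw [this, bot_sup_eq]
    exact hKn
  obtain ⟨π, hπ⟩ : ∃ π : G →* G ⧸ K, π = QuotientGroup.mk' K := ⟨_, rfl⟩
  have hπs : Function.Surjective π := hπ ▸ QuotientGroup.mk'_surjective K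
  have hπk : ∀ x y : G, π x = π y → x⁻¹ * y ∈ K := by
    intro x y hxy
    rw [hπ] at hxy
    exact QuotientGroup.eq.1 hxy
  have hinj : Set.InjOn π ((S : Subgroup G) : Set G) := by
    intro x hx y hy hxy
    have h1 := hπk x y hxy
    have h2 : x⁻¹ * y ∈ (S : Subgroup G) := Subgroup.mul_mem _ (Subgroup.inv_mem _ hx) hy
    have h3 := Cfsg.Agent.Lib.H16.Puig.eq_one_of_mem_pGroup_of_mem_coprime S.isPGroup' hKc h2 h1
    exact inv_mul_eq_one.1 h3
  have hoddq : Odd (Nat.card (G ⧸ K)) := Odd.of_dvd_nat hodd (Subgroup.card_quotient_dvd_card K)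
  have hObot : Cfsg.pPrimeCore p (G ⧸ K) = ⊥ := by
    subst hK
    exact Cfsg.Agent.Lib.H9.pPrimeCore_quotient_eq_bot p
  have hps : Cfsg.IsPSolvable p (G ⧸ K) :=
    Cfsg.Agent.Lib.H1.PSolvOfSolv.isPSolvable_of_isSolvable p (G ⧸ K)
  have hc := Cfsg.Agent.Lib.H10.centralizer_pCore_le_of_isPSolvable p hps hObot
  have hst : ∀ (V : Subgroup (G ⧸ K)) [V.Normal], IsPGroup p V → Cfsg.IsPStableOn p V := by
    intro V _ hV a hq
    exact Cfsg.Agent.Lib.H16.odd_quadratic_mem_pCore hp2 hoddq V hV a hq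
  have hZn := centerThompsonOf_normal hp2 (S.mapSurjective hπs) hc hst
  rw [Sylow.coe_mapSurjective, centerThompsonOf_map p π _ hinj] at hZn
  have hcomap : ((Cfsg.centerThompsonOf p (S : Subgroup G)).map π).comap π =
      Cfsg.centerThompsonOf p (S : Subgroup G) ⊔ K := by
    rw [Subgroup.comap_map_eq, hπ, QuotientGroup.ker_mk']
  rw [← hcomap]
  exact Subgroup.Normal.comap hZn π
end Cfsg.Agent.S1458
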