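import Mathlib
import Cfsg.Statements.S1459
import Cfsg.Agent.Lib.H1.CoprimeAbelian
import Cfsg.Agent.Lib.H22.LowerCentralP
import Cfsg.Agent.Lib.H23.DefectZero

set_option autoImplicit false
open Cfsg
open scoped commutatorElement

namespace Cfsg.Agent.S1459

/-- a subgroup of a solvable group contained in its own derived subgroup is trivial -/
theorem eq_bot_of_le_commutator_self {Q : Type*} [Group Q] [hQ : Group.IsSolvable Q]
    (P : Subgroup Q) (h : P ≤ ⁅P, P⁆) : P = ⊥ := by
  obtain ⟨n, hn⟩ := hQ.solvable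
  have key : ∀ n, P ≤ derivedSeries Q n := by
    intro n
    induction n with
    | zero => rw [derivedSeries_zero]; exact le_top
    | succ n ih =>
      rw [derivedSeries_succ]
      exact h.trans (Subgroup.commutator_mono ih ih)
  exact le_bot_iff.mp (hn ▸ key n)

/-- transfer step: a normal Hall subgroup inside `G'` lies in `[H, G]` -/
theorem le_commutator_top_of_coprime {G : Type*} [Group G] [Finite G] (H : Subgroup G)
    [H.Normal] (hcop : (Nat.card H).Coprime H.index) (hH : H ≤ commutator G) :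
    H ≤ ⁅H, (⊤ : Subgroup G)⁆ := by
  intro h hh
  obtain ⟨N, hN⟩ : ∃ N : Subgroup G, N = ⁅H, (⊤ : Subgroup G)⁆ := ⟨_, rfl⟩
  rw [← hN]
  haveI : N.Normal := by rw [hN]; infer_instance
  have hcent : H.map (QuotientGroup.mk' N) ≤ Subgroup.center (G ⧸ N) := by
    rintro _ ⟨x, hx, rfl⟩
    rw [Subgroup.mem_center_iff]
    intro y
    obtain ⟨g, rfl⟩ := QuotientGroup.mk'_surjective N y
    rw [← map_mul, ← map_mul]
    apply (QuotientGroup.eq).mpr
    have h1 : ⁅x⁻¹, g⁻¹⁆ ∈ N := by
      rw [hN]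
      exact Subgroup.commutator_mem_commutator (H.inv_mem hx) (Subgroup.mem_top _)
    have h2 : (g * x)⁻¹ * (x * g) = ⁅x⁻¹, g⁻¹⁆ := by
      rw [commutatorElement_def]; group
    rw [h2]; exact h1
  have hidx : (Subgroup.center (G ⧸ N)).index ∣ H.index :=
    (Subgroup.index_dvd_of_le hcent).trans
      (Subgroup.index_map_dvd H (QuotientGroup.mk'_surjective N))
  have hker : commutator G ≤
      ((MonoidHom.transferCenterPow (G ⧸ N)).comp (QuotientGroup.mk' N)).ker := by
    rw [commutator_def, Subgroup.commutator_le]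
    intro a _ b _
    rw [MonoidHom.mem_ker, map_commutatorElement, commutatorElement_eq_one_iff_mul_comm]
    apply Subtype.ext
    rw [Subgroup.coe_mul, Subgroup.coe_mul]
    exact Subgroup.mem_center_iff.mp
      (((MonoidHom.transferCenterPow (G ⧸ N)).comp (QuotientGroup.mk' N)) b).2 _
  have h1 : (QuotientGroup.mk' N h) ^ (Subgroup.center (G ⧸ N)).index = 1 := by
    have h0 := hker (hH hh)
    rw [MonoidHom.mem_ker, MonoidHom.comp_apply] at h0
    have h00 := congrArg Subtype.val h0
    rw [MonoidHom.transferCenterPow_apply] at h00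
    exact h00
  have h2 : (QuotientGroup.mk' N h) ^ Nat.card H = 1 := by
    rw [← map_pow]
    have h0 : h ^ Nat.card H = 1 := by
      have := pow_card_eq_one' (G := H) (x := ⟨h, hh⟩)
      exact congrArg Subtype.val this
    rw [h0, map_one]
  have h3 : (QuotientGroup.mk' N h) ^ H.index = 1 := by
    obtain ⟨c, hc⟩ := hidx
    rw [hc, pow_mul, h1, one_pow]
  have h4 : QuotientGroup.mk' N h = 1 := by
    have := pow_gcd_eq_one.mpr ⟨h2, h3⟩
    rwa [Nat.Coprime.gcd_eq_one hcop, pow_one] at this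
  exact (QuotientGroup.eq_one_iff h).mp h4

/-- `[H, G] ≤ [H, H][H, K]` when `G = HK` -/
theorem commutator_top_le {G : Type*} [Group G] (H K : Subgroup G) [H.Normal]
    (hHK : H ⊔ K = ⊤) : ⁅H, (⊤ : Subgroup G)⁆ ≤ ⁅H, H⁆ ⊔ ⁅H, K⁆ := by
  rw [Subgroup.commutator_le]
  intro h hh g _
  have hg : g ∈ H ⊔ K := hHK ▸ Subgroup.mem_top g
  obtain ⟨h', hh', k, hk, rfl⟩ := Subgroup.mem_sup_of_normal_left.mp hg
  have e : ⁅h, h' * k⁆ = ⁅h, h'⁆ * (h' * ⁅h, k⁆ * h'⁻¹) := by
    simp only [commutatorElement_def]; group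
  rw [e]
  apply Subgroup.mul_mem_sup (Subgroup.commutator_mem_commutator hh hh')
  have hn := Subgroup.normalizer_commutator_ge_left (H₁ := H) (H₂ := K) hh'
  exact (Subgroup.mem_normalizer_iff.mp hn _).mp (Subgroup.commutator_mem_commutator hh hk)

/-- part (a), first claim -/
theorem partA1 {G : Type*} [Group G] [Finite G] [Group.IsSolvable G] (H K : Subgroup G)
    [H.Normal] (hcop : (Nat.card H).Coprime H.index) (hHK : H ⊔ K = ⊤)
    (hH : H ≤ commutator G) : H = ⁅H, K⁆ := by
  apply le_antisymm _ (Subgroup.commutator_le_left H K)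
  obtain ⟨M, hM⟩ : ∃ M : Subgroup G, M = ⁅H, K⁆ := ⟨_, rfl⟩
  rw [← hM]
  haveI : M.Normal := by
    rw [← Subgroup.normalizer_eq_top_iff, eq_top_iff, ← hHK, hM]
    exact sup_le (Subgroup.normalizer_commutator_ge_left H K)
      (Subgroup.normalizer_commutator_ge_right H K)
  have h1 : H ≤ ⁅H, H⁆ ⊔ M :=
    (le_commutator_top_of_coprime H hcop hH).trans (hM ▸ commutator_top_le H K hHK)
  have h2 : H.map (QuotientGroup.mk' M) ≤
      ⁅H.map (QuotientGroup.mk' M), H.map (QuotientGroup.mk' M)⁆ := by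
    calc H.map (QuotientGroup.mk' M) ≤ (⁅H, H⁆ ⊔ M).map (QuotientGroup.mk' M) :=
          Subgroup.map_mono h1
      _ = ⁅H.map (QuotientGroup.mk' M), H.map (QuotientGroup.mk' M)⁆ := by
          rw [Subgroup.map_sup, QuotientGroup.map_mk'_self, sup_bot_eq, Subgroup.map_commutator]
  have h3 := eq_bot_of_le_commutator_self _ h2
  intro x hx
  have : QuotientGroup.mk' M x ∈ H.map (QuotientGroup.mk' M) := Subgroup.mem_map_of_mem _ hx
  rw [h3, Subgroup.mem_bot] at this
  exact (QuotientGroup.eq_one_iff x).mp this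

/-- part (a), second claim -/
theorem partA2 {G : Type*} [Group G] [Finite G] (H K : Subgroup G)
    [H.Normal] (hcop : (Nat.card H).Coprime (Nat.card K)) (hHK : H = ⁅H, K⁆) :
    H ⊓ Subgroup.centralizer (K : Set G) ≤ ⁅H, H⁆ := by
  obtain ⟨D, hD⟩ : ∃ D : Subgroup G, D = ⁅H, H⁆ := ⟨_, rfl⟩
  rw [← hD]
  haveI : D.Normal := by rw [hD]; infer_instance
  obtain ⟨V, hV⟩ : ∃ V : Subgroup (G ⧸ D), V = H.map (QuotientGroup.mk' D) := ⟨_, rfl⟩
  obtain ⟨A, hA⟩ : ∃ A : Subgroup (G ⧸ D), A = K.map (QuotientGroup.mk' D) := ⟨_, rfl⟩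
  haveI : IsMulCommutative V := by
    refine ⟨⟨?_⟩⟩
    rintro ⟨a, ha⟩ ⟨b, hb⟩
    apply Subtype.ext
    rw [hV] at ha hb
    obtain ⟨x, hx, rfl⟩ := ha
    obtain ⟨y, hy, rfl⟩ := hb
    show QuotientGroup.mk' D x * QuotientGroup.mk' D y
      = QuotientGroup.mk' D y * QuotientGroup.mk' D x
    rw [← map_mul, ← map_mul]
    apply (QuotientGroup.eq).mpr
    have h1 : ⁅y⁻¹, x⁻¹⁆ ∈ D := by
      rw [hD]
      exact Subgroup.commutator_mem_commutator (H.inv_mem hy) (H.inv_mem hx)
    have h2 : (x * y)⁻¹ * (y * x) = ⁅y⁻¹, x⁻¹⁆ := by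
      rw [commutatorElement_def]; group
    rw [h2]; exact h1
  haveI : V.Normal := by
    rw [hV]; exact Subgroup.Normal.map inferInstance _ (QuotientGroup.mk'_surjective D)
  have hAV : A ≤ Subgroup.normalizer (V : Set (G ⧸ D)) := by
    rw [Subgroup.normalizer_eq_top_iff.mpr inferInstance]; exact le_top
  have hcop' : (Nat.card A).Coprime (Nat.card V) := by
    rw [hA, hV]
    exact Nat.Coprime.coprime_dvd_left (Subgroup.card_map_dvd _ _)
      (Nat.Coprime.coprime_dvd_right (Subgroup.card_map_dvd _ _) hcop.symm)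
  have hVA : ⁅V, A⁆ = V := by
    rw [hV, hA, ← Subgroup.map_commutator, ← hHK]
  have hbot := Cfsg.Agent.Lib.H1.coprime_abelian_centralizer_inf_commutator hAV hcop'
  rw [hVA, inf_assoc, inf_comm (Subgroup.centralizer (A : Set (G ⧸ D))) V, ← inf_assoc,
    inf_idem] at hbot
  intro c hc
  have hcV : QuotientGroup.mk' D c ∈ V := by
    rw [hV]; exact Subgroup.mem_map_of_mem _ hc.1
  have hcC : QuotientGroup.mk' D c ∈ Subgroup.centralizer (A : Set (G ⧸ D)) := by
    rw [Subgroup.mem_centralizer_iff]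
    intro a ha
    rw [SetLike.mem_coe, hA] at ha
    obtain ⟨k, hk, rfl⟩ := ha
    rw [← map_mul, ← map_mul, (Subgroup.mem_centralizer_iff.mp hc.2) k hk]
  have : QuotientGroup.mk' D c ∈ V ⊓ Subgroup.centralizer (A : Set (G ⧸ D)) := ⟨hcV, hcC⟩
  rw [hbot, Subgroup.mem_bot] at this
  exact (QuotientGroup.eq_one_iff c).mp this

/-- part (b), coprimality -/
theorem partB {G : Type*} [Group G] [Finite G] (hnil : Group.IsNilpotent ↥(commutator G))
    (hp : (commutator G).index.Prime) :
    (Nat.card ↥(commutator G)).Coprime (commutator G).index := by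
  obtain ⟨p, hpe⟩ : ∃ p, p = (commutator G).index := ⟨_, rfl⟩
  rw [← hpe] at hp ⊢
  haveI : Fact p.Prime := ⟨hp⟩
  obtain ⟨P, K, ⟨a, ha⟩, hKcop, hcard, -, hKmem⟩ :=
    Cfsg.Agent.Lib.H23.exists_hall_decomp ↥(commutator G) p hp
  obtain ⟨Q, hQ⟩ : ∃ Q : Subgroup G, Q = K.map (commutator G).subtype := ⟨_, rfl⟩
  haveI : Q.Normal := by
    constructor
    intro q hq g
    rw [hQ] at hq ⊢
    obtain ⟨e, he, rfl⟩ := hq
    have hmem : g * (e : G) * g⁻¹ ∈ commutator G :=
      (inferInstance : (commutator G).Normal).conj_mem _ e.2 g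
    refine ⟨⟨_, hmem⟩, ?_, rfl⟩
    rw [SetLike.mem_coe] at he ⊢
    rw [hKmem] at he ⊢
    have h1 : orderOf (⟨g * (e : G) * g⁻¹, hmem⟩ : ↥(commutator G)) = orderOf e := by
      rw [← Subgroup.orderOf_coe, ← Subgroup.orderOf_coe (a := e)]
      show orderOf (g * (e : G) * g⁻¹) = orderOf (e : G)
      have h0 := MulEquiv.orderOf_eq (MulAut.conj g) (e : G)
      rwa [MulAut.conj_apply] at h0
    rwa [h1]
  have hKidx : K.index = p ^ a := by
    have h1 := K.index_mul_card
    rw [← hcard, ha] at h1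
    have hpos : 0 < Nat.card K := Nat.card_pos
    exact Nat.eq_of_mul_eq_mul_right hpos h1
  have hQidx : Q.index = p ^ (a + 1) := by
    rw [hQ, Subgroup.index_map_subtype, hKidx, ← hpe, pow_succ]
  have hPG : IsPGroup p (G ⧸ Q) := by
    apply IsPGroup.of_card (n := a + 1)
    rw [← Subgroup.index_eq_card, hQidx]
  have hidx' : (commutator (G ⧸ Q)).index ∣ p := by
    have h1 : commutator (G ⧸ Q) = (commutator G).map (QuotientGroup.mk' Q) := by
      rw [commutator_def, commutator_def, Subgroup.map_commutator,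
        Subgroup.map_top_of_surjective _ (QuotientGroup.mk'_surjective Q)]
    rw [h1, hpe]
    exact Subgroup.index_map_dvd _ (QuotientGroup.mk'_surjective Q)
  have hab : ∀ x y : G ⧸ Q, x * y = y * x := by
    by_contra hna
    have h1 := Cfsg.Agent.Lib.H22.sq_le_index_commutator hPG hna
    have h2 := Nat.le_of_dvd hp.pos hidx'
    have h3 : 2 ≤ p := hp.two_le
    nlinarith
  have hle : commutator G ≤ Q := by
    rw [commutator_def, Subgroup.commutator_le]
    intro x _ y _
    rw [← QuotientGroup.eq_one_iff, ← QuotientGroup.mk'_apply, map_commutatorElement,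
      commutatorElement_eq_one_iff_mul_comm]
    exact hab _ _
  have hKtop : K = ⊤ := by
    rw [eq_top_iff]
    intro e _
    have := hle e.2
    rw [hQ] at this
    obtain ⟨e', he', hee⟩ := this
    have : e' = e := Subtype.ext hee
    rwa [← this]
  have : Nat.card ↥(commutator G) = Nat.card K := by
    rw [hKtop]; exact (Subgroup.card_top).symm
  rw [this]; exact hKcop

/-- Let G be a finite solvable group. (a) If H is a normal subgroup of order coprime to its index, K is a complement to H, and H ≤ G', then H = [H, K] and H ∩ C_G(K) ≤ [H, H]. (b) If G' is nilpotent and has prime index in G, then the order of G' is coprime to its index and G' = [G, K] (the subgroup generated by commutators of elements of G with elements of K) for every complement K of G'. -/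
theorem result {G : Type*} [Group G] [Finite G] [Group.IsSolvable G] :
    (∀ (H K : Subgroup G), H.Normal → (Nat.card H).Coprime H.index → Subgroup.IsComplement' H K → H ≤ commutator G →
        H = ⁅H, K⁆ ∧ H ⊓ Subgroup.centralizer (K : Set G) ≤ ⁅H, H⁆) ∧
      (Group.IsNilpotent ↥(commutator G) → (commutator G).index.Prime →
        (Nat.card ↥(commutator G)).Coprime (commutator G).index ∧
        ∀ K : Subgroup G, Subgroup.IsComplement' (commutator G) K → commutator G = ⁅(⊤ : Subgroup G), K⁆) := by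
  refine ⟨?_, ?_⟩
  · intro H K hHn hcop hHK hH
    haveI := hHn
    have h1 := partA1 H K hcop hHK.sup_eq_top hH
    refine ⟨h1, partA2 H K ?_ h1⟩
    rw [← hHK.symm.index_eq_card]; exact hcop
  · intro hnil hp
    have hcop := partB hnil hp
    refine ⟨hcop, ?_⟩
    intro K hK
    apply le_antisymm
    · have h1 := partA1 (commutator G) K hcop hK.sup_eq_top le_rfl
      exact h1.le.trans (Subgroup.commutator_mono le_top le_rfl)
    · rw [commutator_def]
      exact Subgroup.commutator_mono le_rfl le_top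

end Cfsg.Agent.S1459
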