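import Mathlib
import Cfsg.Statements.S1463
import Cfsg.Agent.Lib.H8.SL2Odd

set_option autoImplicit false
open scoped MatrixGroups
open Cfsg

namespace Cfsg.Agent.S1463

open Matrix Cfsg.Agent.Lib.H12 Cfsg.Agent.Lib.H8 Cfsg.Agent.Lib.H8.SL2Odd

/-- Let F be a field of odd characteristic p and H a finite subgroup of odd order of GL(2, F) that leaves no 1-dimensional subspace of F² invariant. Then p does not divide the order of H. -/
theorem result {F : Type*} [Field F] (p : ℕ) [Fact p.Prime] [CharP F p] (hp : p ≠ 2)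
    (H : Subgroup (GL (Fin 2) F)) [Finite H] (hodd : Odd (Nat.card H))
    (hirr : ∀ v : Fin 2 → F, v ≠ 0 → ∃ g ∈ H, (g : Matrix (Fin 2) (Fin 2) F).mulVec v ∉ Submodule.span F {v}) :
    ¬ p ∣ Nat.card H := by
  intro hdvd
  have hpP : p.Prime := Fact.out
  have h2 : (2 : F) ≠ 0 := by
    intro h
    have h' : ((2 : ℕ) : F) = 0 := by exact_mod_cast h
    rw [CharP.cast_eq_zero_iff F p] at h'
    exact hp ((Nat.prime_dvd_prime_iff_eq hpP Nat.prime_two).mp h')
  -- the subgroup K = H ∩ SL₂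
  obtain ⟨φ, hφ⟩ : ∃ φ : Matrix.SpecialLinearGroup (Fin 2) F →* GL (Fin 2) F,
      φ = Matrix.SpecialLinearGroup.toGL := ⟨_, rfl⟩
  have hφinj : Function.Injective φ := by
    rw [hφ]; exact Matrix.SpecialLinearGroup.toGL_injective
  have hφcoe : ∀ x : Matrix.SpecialLinearGroup (Fin 2) F,
      ((φ x : GL (Fin 2) F) : Matrix (Fin 2) (Fin 2) F) = (x : Matrix (Fin 2) (Fin 2) F) := by
    intro x; rw [hφ]; rfl
  obtain ⟨K, hK⟩ : ∃ K : Subgroup (Matrix.SpecialLinearGroup (Fin 2) F), K = H.comap φ :=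
    ⟨_, rfl⟩
  have memK : ∀ x : Matrix.SpecialLinearGroup (Fin 2) F, x ∈ K ↔ φ x ∈ H := by
    intro x; rw [hK]; exact Subgroup.mem_comap
  haveI : Finite K := Finite.of_injective
    (fun k : K => (⟨φ k, (memK k).mp k.2⟩ : H)) (by
      intro a b hab
      have : φ a = φ b := congrArg Subtype.val hab
      exact Subtype.ext (hφinj this))
  have hKodd : Odd (Nat.card K) := by
    have hd : Nat.card K ∣ Nat.card H := by
      rw [hK]; exact Subgroup.card_comap_dvd_of_injective H φ hφinj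
    exact Odd.of_dvd_nat hodd hd
  -- lifting elements of H of order dividing p
  have lift : ∀ x : GL (Fin 2) F, x ∈ H → x ^ p = 1 →
      ∃ y : Matrix.SpecialLinearGroup (Fin 2) F, y ∈ K ∧ φ y = x ∧ y ^ p = 1 := by
    intro x hx hxp
    have hdet : (x : Matrix (Fin 2) (Fin 2) F).det = 1 := by
      have h1 : ((x : Matrix (Fin 2) (Fin 2) F).det) ^ p = 1 := by
        rw [← Matrix.det_pow, ← Units.val_pow_eq_pow_val, hxp, Units.val_one, Matrix.det_one]
      have h3 : frobenius F p ((x : Matrix (Fin 2) (Fin 2) F).det) = frobenius F p 1 := by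
        rw [frobenius_def, frobenius_def, h1, one_pow]
      exact frobenius_inj F p h3
    obtain ⟨y, hyx⟩ : ∃ y : Matrix.SpecialLinearGroup (Fin 2) F,
        (y : Matrix (Fin 2) (Fin 2) F) = (x : Matrix (Fin 2) (Fin 2) F) := ⟨⟨_, hdet⟩, rfl⟩
    have hy : φ y = x := by
      apply Units.ext
      rw [hφcoe, hyx]
    refine ⟨y, ?_, hy, ?_⟩
    · rw [memK, hy]; exact hx
    · apply hφinj
      rw [map_pow, hy, hxp, map_one]
  -- an element of order p
  obtain ⟨h₀, hh₀⟩ := exists_prime_orderOf_dvd_card' p hdvd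
  have hx₀p : (h₀ : GL (Fin 2) F) ^ p = 1 := by
    rw [← Subgroup.coe_pow, ← hh₀, pow_orderOf_eq_one, Subgroup.coe_one]
  have hx₀1 : (h₀ : GL (Fin 2) F) ≠ 1 := by
    intro h
    have : h₀ = 1 := Subtype.ext h
    rw [this, orderOf_one] at hh₀
    exact hpP.one_lt.ne hh₀
  obtain ⟨u, huK, hux, hup⟩ := lift _ h₀.2 hx₀p
  have hu1 : u ≠ 1 := by
    intro h
    apply hx₀1
    rw [← hux, h, map_one]
  -- the fixed vector
  have hUtr := (pow_char_eq_one_iff_trace p h2 u).mp hup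
  have hNN := sub_one_sq_of_trace_two (u : Matrix (Fin 2) (Fin 2) F) u.det_coe hUtr
  have hN0 : (u : Matrix (Fin 2) (Fin 2) F) - 1 ≠ 0 := by
    intro h
    apply hu1
    apply Subtype.ext
    rw [Matrix.SpecialLinearGroup.coe_one]
    exact sub_eq_zero.mp h
  obtain ⟨i₀, j₀, hij⟩ : ∃ i j, ((u : Matrix (Fin 2) (Fin 2) F) - 1) i j ≠ 0 := by
    by_contra hcon
    push Not at hcon
    apply hN0
    ext i j
    exact hcon i j
  obtain ⟨v, hvdef⟩ : ∃ v : Fin 2 → F, v = fun i => ((u : Matrix (Fin 2) (Fin 2) F) - 1) i j₀ :=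
    ⟨_, rfl⟩
  have hv0 : v ≠ 0 := by
    intro h
    apply hij
    have := congrFun h i₀
    rw [hvdef] at this
    exact this
  have hNv : ((u : Matrix (Fin 2) (Fin 2) F) - 1).mulVec v = 0 := by
    funext i
    have := congrFun (congrFun hNN i) j₀
    rw [Matrix.mul_apply] at this
    rw [hvdef]
    simpa [Matrix.mulVec, dotProduct] using this
  obtain ⟨g, hgH, hgv⟩ := hirr v hv0
  apply hgv
  -- the conjugate
  have hx₁H : g * (h₀ : GL (Fin 2) F) * g⁻¹ ∈ H := H.mul_mem (H.mul_mem hgH h₀.2) (H.inv_mem hgH)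
  have hx₁p : (g * (h₀ : GL (Fin 2) F) * g⁻¹) ^ p = 1 := by
    rw [conj_pow, hx₀p]; group
  obtain ⟨u', hu'K, hu'x, hu'p⟩ := lift _ hx₁H hx₁p
  have hu'1 : u' ≠ 1 := by
    intro h
    apply hx₀1
    have h1 : g * (h₀ : GL (Fin 2) F) * g⁻¹ = 1 := by rw [← hu'x, h, map_one]
    have : (h₀ : GL (Fin 2) F) = g⁻¹ * (g * (h₀ : GL (Fin 2) F) * g⁻¹) * g := by group
    rw [this, h1]; group
  have hcomm : Commute u' u := commute_of_pow_char p h2 K hKodd hu'K huK hu'p hup
  -- matrices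
  have hU'tr := (pow_char_eq_one_iff_trace p h2 u').mp hu'p
  have hN'N' := sub_one_sq_of_trace_two (u' : Matrix (Fin 2) (Fin 2) F) u'.det_coe hU'tr
  have hN'0 : (u' : Matrix (Fin 2) (Fin 2) F) - 1 ≠ 0 := by
    intro h
    apply hu'1
    apply Subtype.ext
    rw [Matrix.SpecialLinearGroup.coe_one]
    exact sub_eq_zero.mp h
  have hUU' : (u' : Matrix (Fin 2) (Fin 2) F) * (u : Matrix (Fin 2) (Fin 2) F) =
      (u : Matrix (Fin 2) (Fin 2) F) * (u' : Matrix (Fin 2) (Fin 2) F) := by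
    rw [← Matrix.SpecialLinearGroup.coe_mul, ← Matrix.SpecialLinearGroup.coe_mul, hcomm.eq]
  have hNN'comm : ((u' : Matrix (Fin 2) (Fin 2) F) - 1) * ((u : Matrix (Fin 2) (Fin 2) F) - 1) =
      ((u : Matrix (Fin 2) (Fin 2) F) - 1) * ((u' : Matrix (Fin 2) (Fin 2) F) - 1) := by
    simp only [sub_mul, mul_sub, mul_one, one_mul, hUU']
    abel
  -- N' v = 0
  have hN'v : ((u' : Matrix (Fin 2) (Fin 2) F) - 1).mulVec v = 0 := by
    have h1 : ((u : Matrix (Fin 2) (Fin 2) F) - 1).mulVec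
        (((u' : Matrix (Fin 2) (Fin 2) F) - 1).mulVec v) = 0 := by
      rw [Matrix.mulVec_mulVec, ← hNN'comm, ← Matrix.mulVec_mulVec, hNv, Matrix.mulVec_zero]
    have h3 := mem_span_of_ker hN0 hv0 hNv h1
    obtain ⟨c, hc⟩ := Submodule.mem_span_singleton.mp h3
    have h4 : ((u' : Matrix (Fin 2) (Fin 2) F) - 1).mulVec
        (((u' : Matrix (Fin 2) (Fin 2) F) - 1).mulVec v) = 0 := by
      rw [Matrix.mulVec_mulVec, hN'N', Matrix.zero_mulVec]
    rw [← hc, Matrix.mulVec_smul, ← hc, smul_smul] at h4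
    have hc0 : c = 0 := by
      by_contra hc0
      apply hv0
      have := (smul_eq_zero.mp h4).resolve_left (mul_ne_zero hc0 hc0)
      exact this
    rw [← hc, hc0, zero_smul]
  -- N' (g v) = 0
  have hGU : (u' : Matrix (Fin 2) (Fin 2) F) * (g : Matrix (Fin 2) (Fin 2) F) =
      (g : Matrix (Fin 2) (Fin 2) F) * (u : Matrix (Fin 2) (Fin 2) F) := by
    have e1 : (g * (h₀ : GL (Fin 2) F) * g⁻¹) * g = g * (h₀ : GL (Fin 2) F) := by group
    have e2 := congrArg (fun z : GL (Fin 2) F => (z : Matrix (Fin 2) (Fin 2) F)) e1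
    simp only [Units.val_mul] at e2
    rw [← hφcoe u', ← hφcoe u, hu'x, hux]
    simp only [Units.val_mul]
    exact e2
  have hN'gv : ((u' : Matrix (Fin 2) (Fin 2) F) - 1).mulVec
      ((g : Matrix (Fin 2) (Fin 2) F).mulVec v) = 0 := by
    rw [Matrix.mulVec_mulVec, sub_mul, one_mul, hGU]
    have : (g : Matrix (Fin 2) (Fin 2) F) * (u : Matrix (Fin 2) (Fin 2) F) -
        (g : Matrix (Fin 2) (Fin 2) F) =
        (g : Matrix (Fin 2) (Fin 2) F) * ((u : Matrix (Fin 2) (Fin 2) F) - 1) := by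
      rw [mul_sub, mul_one]
    rw [this, ← Matrix.mulVec_mulVec, hNv, Matrix.mulVec_zero]
  exact mem_span_of_ker hN'0 hv0 hN'v hN'gv

end Cfsg.Agent.S1463
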