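import Cfsg.Statements.S1464
-- import your own Cfsg.Agent.* helpers here
import Mathlib
import Cfsg.Agent.Lib.H16.OddStable

set_option autoImplicit false
open Cfsg

namespace Cfsg.Agent.S1464

open Cfsg.Agent.Lib.H16

theorem key {X : Type*} [Group X] [Finite X] {p : ℕ} [Fact p.Prime] (hp : p ≠ 2)
    (hodd : Odd (Nat.card X)) (P A : Subgroup X) [P.Normal] (hP : IsPGroup p P)
    (hquad : ⁅⁅P, A⁆, A⁆ = ⊥) (C : Subgroup X) [C.Normal]
    (hC : C = Subgroup.centralizer (P : Set X)) :
    A.map (QuotientGroup.mk' C) ≤ Cfsg.pCore p (X ⧸ C) := by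
  subst hC
  rw [Subgroup.map_le_iff_le_comap]
  intro a ha
  have hz : Subgroup.zpowers a ≤ A := Subgroup.zpowers_le.2 ha
  have hq : ⁅⁅P, Subgroup.zpowers a⁆, Subgroup.zpowers a⁆ = ⊥ := by
    rw [eq_bot_iff, ← hquad]
    exact Subgroup.commutator_mono (Subgroup.commutator_mono le_rfl hz) hz
  exact odd_quadratic_mem_pCore hp hodd P hP a hq

/-- Let p be an odd prime and G a solvable group of odd order, P a p-subgroup with O_{p'}(G)P normal in G, and A a p-subgroup of N_G(P) with [[P, A], A] = 1. Then the image of A in the quotient N_G(P)/C_G(P) is contained in the p-core of that quotient. -/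
theorem result {G : Type*} [Group G] [Finite G] [Group.IsSolvable G] (hodd : Odd (Nat.card G)) (p : ℕ) [Fact p.Prime] (hp : p ≠ 2) (P A : Subgroup G) (hP : IsPGroup p P) (hPn : (Cfsg.pPrimeCore p G ⊔ P).Normal)
    (hA : IsPGroup p A) (hAN : A ≤ Subgroup.normalizer (P : Set G)) (hquad : ⁅⁅P, A⁆, A⁆ = ⊥) :
    (A.subgroupOf (Subgroup.normalizer (P : Set G))).map
        (QuotientGroup.mk' ((Subgroup.centralizer (P : Set G)).subgroupOf (Subgroup.normalizer (P : Set G))))
      ≤ Cfsg.pCore p _ := by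
  classical
  obtain ⟨N, hN⟩ : ∃ N : Subgroup G, N = Subgroup.normalizer (P : Set G) := ⟨_, rfl⟩
  have hPN : P ≤ N := hN ▸ Subgroup.le_normalizer
  have hoddN : Odd (Nat.card ↥N) := Odd.of_dvd_nat hodd (Subgroup.card_subgroup_dvd_card N)
  haveI hPn' : (P.subgroupOf N).Normal := by
    rw [hN]; exact Subgroup.normal_in_normalizer
  have hP' : IsPGroup p (P.subgroupOf N) := hP.comap_subtype
  have hq' : ⁅⁅P.subgroupOf N, A.subgroupOf N⁆, A.subgroupOf N⁆ = ⊥ := by
    apply (Subgroup.map_eq_bot_iff_of_injective _ N.subtype_injective).1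
    rw [Subgroup.map_commutator, Subgroup.map_commutator, Subgroup.subgroupOf_map_subtype,
      Subgroup.subgroupOf_map_subtype, eq_bot_iff, ← hquad]
    exact Subgroup.commutator_mono (Subgroup.commutator_mono inf_le_left inf_le_left) inf_le_left
  have hCeq : (Subgroup.centralizer (P : Set G)).subgroupOf N =
      Subgroup.centralizer ((P.subgroupOf N : Subgroup ↥N) : Set ↥N) := by
    ext x
    rw [Subgroup.mem_subgroupOf, Subgroup.mem_centralizer_iff, Subgroup.mem_centralizer_iff]
    constructor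
    · intro h y hy
      exact Subtype.ext (h (y : G) (Subgroup.mem_subgroupOf.1 hy))
    · intro h y hy
      exact congrArg Subtype.val (h ⟨y, hPN hy⟩ (Subgroup.mem_subgroupOf.2 hy))
  subst hN
  exact key hp hoddN (P.subgroupOf _) (A.subgroupOf _) hP' hq' _ hCeq

end Cfsg.Agent.S1464
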