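import Mathlib
import Cfsg.Statements.S1470
import Cfsg.Agent.Lib.H8.NormPoly

set_option autoImplicit false
open Cfsg

namespace Cfsg.Agent.S1470

/-- Let p and q be odd primes with (p^q − 1)/(p − 1) coprime to p − 1, and let E be the set of elements a of the field with p ^ q elements whose norm to the prime field is 1 and for which 2 − a also has norm 1. If a⁻¹ ∈ E for every a ∈ E and E has at least two elements, then p ≤ q. -/
theorem result (p q : ℕ) [Fact p.Prime] [Fact q.Prime] (hp : p ≠ 2) (hq : q ≠ 2) (hA : Nat.Coprime ((p ^ q - 1) / (p - 1)) (p - 1))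
    (hinv : ∀ a ∈ {a : GaloisField p q | Algebra.norm (ZMod p) a = 1 ∧ Algebra.norm (ZMod p) (2 - a) = 1}, a⁻¹ ∈ {a : GaloisField p q | Algebra.norm (ZMod p) a = 1 ∧ Algebra.norm (ZMod p) (2 - a) = 1})
    (h2 : 2 ≤ Set.ncard {a : GaloisField p q | Algebra.norm (ZMod p) a = 1 ∧ Algebra.norm (ZMod p) (2 - a) = 1}) :
    p ≤ q := by
  classical
  have hq0 : q ≠ 0 := (Fact.out : q.Prime).ne_zero
  have hpp : p.Prime := Fact.out
  have hfr : Module.finrank (ZMod p) (GaloisField p q) = q := GaloisField.finrank p hq0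
  obtain ⟨E, hEdef⟩ : ∃ E : Set (GaloisField p q), E = {a : GaloisField p q |
      Algebra.norm (ZMod p) a = 1 ∧ Algebra.norm (ZMod p) (2 - a) = 1} := ⟨_, rfl⟩
  rw [← hEdef] at hinv h2
  have hmem : ∀ a : GaloisField p q, a ∈ E ↔
      Algebra.norm (ZMod p) a = 1 ∧ Algebra.norm (ZMod p) (2 - a) = 1 := by
    intro a; rw [hEdef]; rfl
  have hne0 : ∀ a ∈ E, a ≠ 0 := by
    intro a ha h0
    have h1 := ((hmem a).mp ha).1
    rw [h0, Algebra.norm_zero] at h1
    exact zero_ne_one h1
  have hs : ∀ b ∈ E, 2 - b ∈ E := by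
    intro b hb
    rw [hmem] at hb ⊢
    refine ⟨hb.2, ?_⟩
    rw [sub_sub_cancel]; exact hb.1
  have hEfin : E.Finite := Set.toFinite E
  obtain ⟨a, haE, ha1⟩ : ∃ a ∈ E, a ≠ 1 := by
    obtain ⟨x, y, hx, hy, hxy⟩ := (Set.one_lt_ncard_iff hEfin).mp h2
    by_cases h : x = 1
    · exact ⟨y, hy, fun h' => hxy (h.trans h'.symm)⟩
    · exact ⟨x, hx, h⟩
  obtain ⟨c, hc⟩ : ∃ c : GaloisField p q, c = a - 1 := ⟨_, rfl⟩
  have hc0 : c ≠ 0 := by rw [hc]; exact sub_ne_zero.mpr ha1
  have hac : a = 1 + c := by rw [hc]; ring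
  -- the arithmetic progression
  have hstep : ∀ k : ℕ, (1 + (k : GaloisField p q) * c) ≠ 0 ∧
      (1 + ((k + 1 : ℕ) : GaloisField p q) * c) ≠ 0 ∧
      (1 + ((k + 1 : ℕ) : GaloisField p q) * c) / (1 + (k : GaloisField p q) * c) ∈ E := by
    intro k
    induction k with
    | zero =>
      have h1 : (1 + ((0 + 1 : ℕ) : GaloisField p q) * c) = a := by
        rw [hac]; push_cast; ring
      have h0 : (1 + ((0 : ℕ) : GaloisField p q) * c) = 1 := by push_cast; ring
      rw [h1, h0, div_one]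
      exact ⟨one_ne_zero, hne0 a haE, haE⟩
    | succ k ih =>
      obtain ⟨hk0, hk1, hkE⟩ := ih
      have hx := hs _ (hinv _ hkE)
      have e : 2 - ((1 + ((k + 1 : ℕ) : GaloisField p q) * c) /
          (1 + (k : GaloisField p q) * c))⁻¹ =
          (1 + ((k + 1 + 1 : ℕ) : GaloisField p q) * c) /
            (1 + ((k + 1 : ℕ) : GaloisField p q) * c) := by
        rw [inv_div, eq_div_iff hk1, sub_mul, div_mul_cancel₀ _ hk1]
        push_cast
        ring
      rw [e] at hx
      refine ⟨hk1, ?_, hx⟩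
      intro h0
      have := hne0 _ hx
      rw [h0, zero_div] at this
      exact this rfl
  have hnorm : ∀ k : ℕ, Algebra.norm (ZMod p) (1 + (k : GaloisField p q) * c) = 1 := by
    intro k
    induction k with
    | zero => simp
    | succ k ih =>
      obtain ⟨hk0, hk1, hkE⟩ := hstep k
      have h1 := ((hmem _).mp hkE).1
      have h2 : (1 + ((k + 1 : ℕ) : GaloisField p q) * c) =
          (1 + ((k + 1 : ℕ) : GaloisField p q) * c) / (1 + (k : GaloisField p q) * c) *
            (1 + (k : GaloisField p q) * c) := by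
        rw [div_mul_cancel₀ _ hk0]
      rw [h2, map_mul, h1, ih, mul_one]
  -- norm of c + j
  have hnj : ∀ j : ZMod p, j ≠ 0 →
      Algebra.norm (ZMod p) (c + algebraMap (ZMod p) (GaloisField p q) j) = j ^ q := by
    intro j hj
    have hji : j * j⁻¹ = 1 := mul_inv_cancel₀ hj
    have h1 : algebraMap (ZMod p) (GaloisField p q) j⁻¹ = ((j⁻¹).val : GaloisField p q) := by
      conv_lhs => rw [← ZMod.natCast_zmod_val j⁻¹]
      rw [map_natCast]
    have e : c + algebraMap (ZMod p) (GaloisField p q) j =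
        algebraMap (ZMod p) (GaloisField p q) j * (1 + ((j⁻¹).val : GaloisField p q) * c) := by
      rw [← h1, mul_add, mul_one, ← mul_assoc, ← map_mul, hji, map_one, one_mul, add_comm]
    rw [e, map_mul, hnorm, mul_one, Algebra.norm_algebraMap, hfr]
  obtain ⟨P, hPm, hPd, hPe⟩ := Cfsg.Agent.Lib.H8.exists_norm_add_algebraMap_poly
    (K := ZMod p) (L := GaloisField p q) c
  rw [hfr] at hPd
  have hq1 : 1 ≤ q := Nat.one_le_iff_ne_zero.mpr hq0
  set Q : Polynomial (ZMod p) := P - Polynomial.X ^ q with hQ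
  have hQ0 : Q.eval 0 ≠ 0 := by
    rw [hQ, Polynomial.eval_sub, ← hPe 0, Polynomial.eval_pow, Polynomial.eval_X, map_zero,
      add_zero, zero_pow hq0, sub_zero]
    exact Algebra.norm_ne_zero_iff.mpr hc0
  have hQne : Q ≠ 0 := by
    intro h
    rw [h] at hQ0
    simp at hQ0
  have hQdeg : Q.natDegree < q := by
    have hP0 : P ≠ 0 := hPm.ne_zero
    have hdeg : P.degree = (Polynomial.X ^ q : Polynomial (ZMod p)).degree := by
      rw [Polynomial.degree_X_pow, Polynomial.degree_eq_natDegree hP0, hPd]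
    have hlc : P.leadingCoeff = (Polynomial.X ^ q : Polynomial (ZMod p)).leadingCoeff := by
      rw [hPm.leadingCoeff, (Polynomial.monic_X_pow q).leadingCoeff]
    have h1 := Polynomial.degree_sub_lt_left hdeg hP0 hlc
    rw [Polynomial.degree_eq_natDegree hP0, hPd, ← hQ, Polynomial.degree_eq_natDegree hQne] at h1
    exact_mod_cast h1
  have hroots : ((Finset.univ : Finset (ZMod p)).filter (fun j => j ≠ 0)).val ⊆ Q.roots := by
    intro j hj
    have hj' : j ≠ 0 := by
      have := Finset.mem_val.mp hj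
      exact (Finset.mem_filter.mp this).2
    rw [Polynomial.mem_roots hQne, Polynomial.IsRoot, hQ, Polynomial.eval_sub, ← hPe j, hnj j hj',
      Polynomial.eval_pow, Polynomial.eval_X, sub_self]
  have hcard := Polynomial.card_le_degree_of_subset_roots hroots
  have hcnt : ((Finset.univ : Finset (ZMod p)).filter (fun j => j ≠ 0)).card = p - 1 := by
    haveI : NeZero p := ⟨hpp.ne_zero⟩
    rw [Finset.filter_ne' Finset.univ (0 : ZMod p), Finset.card_erase_of_mem (Finset.mem_univ _),
      Finset.card_univ, ZMod.card]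
  rw [hcnt] at hcard
  omega

end Cfsg.Agent.S1470
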