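import Mathlib
import Cfsg.Statements.S1471
import Cfsg.Agent.Lib.H8.NormOneSum

set_option autoImplicit false
open Cfsg

namespace Cfsg.Agent.S1471

open Polynomial Cfsg.Agent.Lib.H8.NOS

/-- the norm of `r - root f` in `AdjoinRoot f` is `f(r)` -/
theorem norm_sub_root {k : Type*} [Field k] {f : k[X]} (hf : f.Monic) (hf0 : f ≠ 0) (r : k) :
    Algebra.norm k (algebraMap k (AdjoinRoot f) r - AdjoinRoot.root f) = f.eval r := by
  classical
  rw [Algebra.norm_eq_matrix_det (AdjoinRoot.powerBasis hf0).basis, map_sub, AlgHom.commutes,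
    ← AdjoinRoot.powerBasis_gen hf0]
  have h1 := charpoly_leftMulMatrix (AdjoinRoot.powerBasis hf0)
  have h2 := Matrix.eval_charpoly
    ((Algebra.leftMulMatrix (AdjoinRoot.powerBasis hf0).basis) (AdjoinRoot.powerBasis hf0).gen) r
  rw [h1, AdjoinRoot.powerBasis_gen, AdjoinRoot.minpoly_root hf0, hf.leadingCoeff, inv_one, C_1,
    mul_one] at h2
  rw [h2]
  rfl

theorem exists_cubic (p : ℕ) [Fact p.Prime] :
    ∃ a₀ : ZMod p, ∀ y : ZMod p, y ^ 3 + a₀ * y ^ 2 - a₀ ≠ 0 := by
  classical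
  obtain ⟨s, hs⟩ : ∃ s : Finset (ZMod p), s = Finset.univ.filter (fun y => y ^ 2 ≠ 1) := ⟨_, rfl⟩
  obtain ⟨h, hh⟩ : ∃ h : ZMod p → ZMod p, h = fun y => - y ^ 3 / (y ^ 2 - 1) := ⟨_, rfl⟩
  have hlt : (s.image h).card < Fintype.card (ZMod p) := by
    calc (s.image h).card ≤ s.card := Finset.card_image_le
      _ < (Finset.univ : Finset (ZMod p)).card := Finset.card_lt_card (by
          rw [Finset.ssubset_iff_of_subset (Finset.subset_univ _)]
          exact ⟨1, Finset.mem_univ _, by simp [hs]⟩)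
      _ = _ := Finset.card_univ
  obtain ⟨a₀, ha₀⟩ : ∃ a₀, a₀ ∉ s.image h := by
    by_contra hcon
    push Not at hcon
    have : s.image h = Finset.univ := Finset.eq_univ_iff_forall.mpr hcon
    rw [this, Finset.card_univ] at hlt
    exact lt_irrefl _ hlt
  refine ⟨a₀, fun y hy => ?_⟩
  by_cases hy1 : y ^ 2 = 1
  · have e : y ^ 3 + a₀ * y ^ 2 - a₀ = y := by
      have : y ^ 3 = y ^ 2 * y := by ring
      rw [this, hy1]; ring
    rw [e] at hy
    rw [hy] at hy1
    simp at hy1
  · apply ha₀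
    rw [Finset.mem_image]
    refine ⟨y, by rw [hs, Finset.mem_filter]; exact ⟨Finset.mem_univ _, hy1⟩, ?_⟩
    have hne : y ^ 2 - 1 ≠ 0 := sub_ne_zero.mpr hy1
    rw [hh]
    simp only
    rw [div_eq_iff hne]
    linear_combination (-1 : ZMod p) * hy

theorem exists_E_cubic (p : ℕ) [Fact p.Prime] :
    ∃ a : GaloisField p 3, a ≠ 1 ∧ Algebra.norm (ZMod p) a = 1 ∧
      Algebra.norm (ZMod p) (2 - a) = 1 := by
  obtain ⟨a₀, ha₀⟩ := exists_cubic p
  obtain ⟨f, hfdef⟩ : ∃ f : (ZMod p)[X], f = X ^ 3 + C a₀ * X ^ 2 - C a₀ := ⟨_, rfl⟩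
  have hfdeg : f.natDegree = 3 := by
    rw [hfdef]; compute_degree!
  have hfmonic : f.Monic := by
    rw [hfdef]; monicity!
  have hf0 : f ≠ 0 := hfmonic.ne_zero
  have hfeval : ∀ r, f.eval r = r ^ 3 + a₀ * r ^ 2 - a₀ := by
    intro r; rw [hfdef]; simp
  have hroots : f.roots = 0 := by
    rw [Multiset.eq_zero_iff_forall_notMem]
    intro y hy
    rw [mem_roots hf0, IsRoot.def, hfeval] at hy
    exact ha₀ y hy
  have hirr : Irreducible f :=
    (hfmonic.irreducible_iff_roots_eq_zero_of_degree_le_three (by omega) (by omega)).mpr hroots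
  haveI : Fact (Irreducible f) := ⟨hirr⟩
  have hcard : Nat.card (AdjoinRoot f) = p ^ 3 := by
    haveI : Module.Finite (ZMod p) (AdjoinRoot f) := (AdjoinRoot.powerBasis hf0).finite
    rw [Module.natCard_eq_pow_finrank (K := ZMod p), (AdjoinRoot.powerBasis hf0).finrank,
      Nat.card_eq_fintype_card, ZMod.card]
    congr 1
  obtain ⟨e⟩ : Nonempty (AdjoinRoot f ≃ₐ[ZMod p] GaloisField p 3) :=
    ⟨GaloisField.algEquivGaloisField p 3 hcard⟩
  obtain ⟨c, hc⟩ : ∃ c : AdjoinRoot f, c = AdjoinRoot.root f := ⟨_, rfl⟩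
  have hN1 : Algebra.norm (ZMod p) (1 - c) = 1 := by
    have := norm_sub_root hfmonic hf0 1
    rw [map_one, hfeval, ← hc] at this
    rw [this]; ring
  have hfin : Module.finrank (ZMod p) (AdjoinRoot f) = 3 := by
    rw [(AdjoinRoot.powerBasis hf0).finrank]
    exact hfdeg
  have hN2 : Algebra.norm (ZMod p) (1 + c) = 1 := by
    have h1 := norm_sub_root hfmonic hf0 (-1)
    rw [hfeval, ← hc] at h1
    have e1 : (1 : AdjoinRoot f) + c =
        algebraMap (ZMod p) (AdjoinRoot f) (-1) * (algebraMap (ZMod p) (AdjoinRoot f) (-1) - c) := by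
      rw [map_neg, map_one]; ring
    haveI : Module.Free (ZMod p) (AdjoinRoot f) := Module.Free.of_basis (AdjoinRoot.powerBasis hf0).basis
    rw [e1, map_mul, Algebra.norm_algebraMap, hfin, h1]
    ring
  refine ⟨e (1 + c), ?_, ?_, ?_⟩
  · intro h1
    have h2 : (1 : AdjoinRoot f) + c = 1 := by
      apply e.injective
      rw [h1, map_one]
    have hc0 : c = 0 := by linear_combination h2
    have h3 := AdjoinRoot.isRoot_root f
    rw [← hc, hc0, IsRoot.def, ← coeff_zero_eq_eval_zero, coeff_map] at h3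
    have h4 : f.coeff 0 = 0 := by
      have hinj := AdjoinRoot.coe_injective' (f := f)
      apply hinj
      rw [h3, map_zero]
    have h5 : f.eval 0 = 0 := by rw [← coeff_zero_eq_eval_zero]; exact h4
    rw [hfeval] at h5
    exact ha₀ 0 h5
  · rw [Algebra.norm_eq_of_algEquiv]; exact hN2
  · have : (2 : GaloisField p 3) - e (1 + c) = e (1 - c) := by
      rw [map_sub, map_add, map_one]; ring
    rw [this, Algebra.norm_eq_of_algEquiv]; exact hN1

theorem arith_contra (p m n Q : ℝ) (hp : 3 ≤ p) (hm : p ^ 4 ≤ m) (hQ : Q = p * m) (hn : m ≤ n)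
    (hnQ : n ≤ Q) (h : (Q - n ^ 2) ^ 2 ≤ (Q - n) ^ 3) : False := by
  have hp0 : 0 < p := by linarith
  have hm0 : 0 < m := lt_of_lt_of_le (by positivity) hm
  have h7 : 3 * p ^ 3 ≤ p ^ 4 := by nlinarith [pow_pos hp0 3]
  have h8 : 2 * p ≤ p ^ 3 := by nlinarith [mul_pos hp0 hp0]
  have hpm : p ≤ m := by nlinarith [pow_pos hp0 3]
  have h1 : m * (m - p) ≤ n ^ 2 - Q := by rw [hQ]; nlinarith
  have hmp : 0 ≤ m * (m - p) := mul_nonneg hm0.le (by linarith)
  have h2 : (m * (m - p)) ^ 2 ≤ (Q - n ^ 2) ^ 2 := by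
    have : (Q - n ^ 2) ^ 2 = (n ^ 2 - Q) ^ 2 := by ring
    rw [this]; exact pow_le_pow_left₀ hmp h1 2
  have h3 : (Q - n) ^ 3 ≤ ((p - 1) * m) ^ 3 := by
    apply pow_le_pow_left₀ (by linarith)
    rw [hQ]; nlinarith
  have h4 : (m * (m - p)) ^ 2 ≤ ((p - 1) * m) ^ 3 := le_trans h2 (le_trans h h3)
  have h5 : (m - p) ^ 2 ≤ (p - 1) ^ 3 * m := by
    have e1 : (m * (m - p)) ^ 2 = m ^ 2 * (m - p) ^ 2 := by ring
    have e2 : ((p - 1) * m) ^ 3 = m ^ 2 * ((p - 1) ^ 3 * m) := by ring
    rw [e1, e2] at h4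
    exact le_of_mul_le_mul_left h4 (by positivity)
  have h6 : (p - 1) ^ 3 ≤ p ^ 3 := pow_le_pow_left₀ (by linarith) (by linarith) 3
  have ha : p ^ 4 * m ≤ m * m := mul_le_mul_of_nonneg_right hm hm0.le
  have hb : 3 * p ^ 3 * m ≤ p ^ 4 * m := mul_le_mul_of_nonneg_right h7 hm0.le
  have hc : (p - 1) ^ 3 * m ≤ p ^ 3 * m := mul_le_mul_of_nonneg_right h6 hm0.le
  have hd : 2 * p * m ≤ p ^ 3 * m := mul_le_mul_of_nonneg_right h8 hm0.le
  have he : 0 < p ^ 3 * m := by positivity
  nlinarith [sq_nonneg p]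

/-- Let p and q be odd primes with (p^q − 1)/(p − 1) coprime to p − 1. Then there are at least two elements a of the field with p ^ q elements such that both a and 2 − a have norm 1 to the prime field. -/
theorem result (p q : ℕ) [Fact p.Prime] [Fact q.Prime] (hp : p ≠ 2) (hq : q ≠ 2) (hA : Nat.Coprime ((p ^ q - 1) / (p - 1)) (p - 1)) :
    2 ≤ Set.ncard {a : GaloisField p q | Algebra.norm (ZMod p) a = 1 ∧ Algebra.norm (ZMod p) (2 - a) = 1} := by
  classical
  have hpP : p.Prime := Fact.out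
  have hqP : q.Prime := Fact.out
  have hq3 : 3 ≤ q := by have := hqP.two_le; omega
  have hp3 : 3 ≤ p := by have := hpP.two_le; omega
  by_cases hq : q = 3
  · subst hq
    obtain ⟨a, ha1, haN, haN2⟩ := exists_E_cubic p
    have hsub : ({1, a} : Set (GaloisField p 3)) ⊆
        {a : GaloisField p 3 | Algebra.norm (ZMod p) a = 1 ∧ Algebra.norm (ZMod p) (2 - a) = 1} := by
      intro x hx
      rcases hx with rfl | rfl
      · refine ⟨map_one _, ?_⟩
        have : (2 : GaloisField p 3) - 1 = 1 := by norm_num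
        rw [this, map_one]
      · exact ⟨haN, haN2⟩
    calc 2 = ({1, a} : Set (GaloisField p 3)).ncard := (Set.ncard_pair (Ne.symm ha1)).symm
      _ ≤ _ := Set.ncard_le_ncard hsub (Set.toFinite _)
  · have hq5 : 5 ≤ q := by
      by_contra hlt
      push Not at hlt
      have h4 : q = 4 := by omega
      rw [h4] at hqP
      exact absurd hqP (by decide)
    have hq0 : q ≠ 0 := by omega
    haveI : Fintype (GaloisField p q) := Fintype.ofFinite _
    have hcardK : Fintype.card (GaloisField p q) = p ^ q := by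
      rw [← Nat.card_eq_fintype_card]; exact GaloisField.card p q hq0
    have h2K : (2 : GaloisField p q) ≠ 0 := by
      intro h
      have h' : ((2 : ℕ) : GaloisField p q) = 0 := by exact_mod_cast h
      rw [CharP.cast_eq_zero_iff (GaloisField p q) p] at h'
      exact hp ((Nat.prime_dvd_prime_iff_eq hpP Nat.prime_two).mp h')
    obtain ⟨U, hU⟩ : ∃ U : Finset (GaloisField p q),
        U = Finset.univ.filter (fun a => Algebra.norm (ZMod p) a = 1) := ⟨_, rfl⟩
    have memU : ∀ a, a ∈ U ↔ Algebra.norm (ZMod p) a = 1 := by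
      intro a; rw [hU, Finset.mem_filter]; simp
    have h0 : (0 : GaloisField p q) ∉ U := by
      rw [memU, Algebra.norm_zero]; exact zero_ne_one
    have h1 : (1 : GaloisField p q) ∈ U := by rw [memU, map_one]
    have hmul : ∀ a ∈ U, ∀ b ∈ U, a * b ∈ U := by
      intro a ha b hb
      rw [memU] at ha hb ⊢
      rw [map_mul, ha, hb, one_mul]
    have hinv : ∀ a ∈ U, a⁻¹ ∈ U := by
      intro a ha
      have ha0 : a ≠ 0 := fun h => h0 (h ▸ ha)
      rw [memU] at ha ⊢
      have h3 : Algebra.norm (ZMod p) a * Algebra.norm (ZMod p) a⁻¹ = 1 := by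
        rw [← map_mul, mul_inv_cancel₀ ha0, map_one]
      rwa [ha, one_mul] at h3
    -- the count T
    obtain ⟨T, hT⟩ : ∃ T : Finset (GaloisField p q), T = U.filter (fun x => 2 - x ∈ U) := ⟨_, rfl⟩
    have hset : {a : GaloisField p q | Algebra.norm (ZMod p) a = 1 ∧
        Algebra.norm (ZMod p) (2 - a) = 1} = (T : Set (GaloisField p q)) := by
      ext a
      rw [hT, Finset.mem_coe, Finset.mem_filter, memU, memU]
      rfl
    rw [hset, Set.ncard_coe_finset]
    have hT1 : (1 : GaloisField p q) ∈ T := by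
      rw [hT, Finset.mem_filter]
      refine ⟨h1, ?_⟩
      have : (2 : GaloisField p q) - 1 = 1 := by norm_num
      rw [this]; exact h1
    by_contra hlt
    push Not at hlt
    have hTcard : T.card = 1 := by
      have : 0 < T.card := Finset.card_pos.mpr ⟨1, hT1⟩
      omega
    -- lower bound for n
    have hlow : p ^ q - 1 ≤ U.card * (p - 1) := by
      obtain ⟨s, hs⟩ : ∃ s : Finset (GaloisField p q), s = Finset.univ.filter (fun a => a ≠ 0) :=
        ⟨_, rfl⟩
      have hscard : s.card = p ^ q - 1 := by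
        rw [hs, Finset.filter_ne' Finset.univ (0 : GaloisField p q),
          Finset.card_erase_of_mem (Finset.mem_univ _), Finset.card_univ, hcardK]
      have hnorm0 : ∀ a : GaloisField p q, a ≠ 0 → Algebra.norm (ZMod p) a ≠ 0 := by
        intro a ha h
        have h3 : Algebra.norm (ZMod p) a * Algebra.norm (ZMod p) a⁻¹ = 1 := by
          rw [← map_mul, mul_inv_cancel₀ ha, map_one]
        rw [h, zero_mul] at h3
        exact zero_ne_one h3
      have himg : (s.image (Algebra.norm (ZMod p))).card ≤ p - 1 := by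
        have hsub : s.image (Algebra.norm (ZMod p)) ⊆ Finset.univ.erase (0 : ZMod p) := by
          intro b hb
          obtain ⟨a, ha, rfl⟩ := Finset.mem_image.mp hb
          rw [hs, Finset.mem_filter] at ha
          exact Finset.mem_erase.mpr ⟨hnorm0 a ha.2, Finset.mem_univ _⟩
        calc (s.image (Algebra.norm (ZMod p))).card ≤ (Finset.univ.erase (0 : ZMod p)).card :=
              Finset.card_le_card hsub
          _ = p - 1 := by
              rw [Finset.card_erase_of_mem (Finset.mem_univ _), Finset.card_univ, ZMod.card]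
      have hfib : ∀ b ∈ s.image (Algebra.norm (ZMod p)),
          (s.filter (fun a => Algebra.norm (ZMod p) a = b)).card ≤ U.card := by
        intro b hb
        obtain ⟨x₀, hx₀, rfl⟩ := Finset.mem_image.mp hb
        rw [hs, Finset.mem_filter] at hx₀
        apply Finset.card_le_card_of_injOn (fun a => a * x₀⁻¹)
        · intro a ha
          rw [Finset.mem_coe, Finset.mem_filter] at ha
          rw [Finset.mem_coe, memU]
          have h3 : Algebra.norm (ZMod p) x₀ * Algebra.norm (ZMod p) x₀⁻¹ = 1 := by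
            rw [← map_mul, mul_inv_cancel₀ hx₀.2, map_one]
          rw [map_mul, ha.2, h3]
        · intro a _ a' _ haa
          have hx0 : x₀⁻¹ ≠ 0 := inv_ne_zero hx₀.2
          exact mul_right_cancel₀ hx0 haa
      calc p ^ q - 1 = s.card := hscard.symm
        _ ≤ U.card * (s.image (Algebra.norm (ZMod p))).card :=
            Finset.card_le_mul_card_image s U.card hfib
        _ ≤ U.card * (p - 1) := Nat.mul_le_mul_left _ himg
    -- n ≥ p^(q-1)
    have hQm : p ^ q = p * p ^ (q - 1) := by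
      rw [← pow_succ']; congr 1; omega
    have hn_ge : p ^ (q - 1) ≤ U.card := by
      by_contra hcon
      push Not at hcon
      obtain ⟨p', hp'⟩ : ∃ p', p = p' + 1 := ⟨p - 1, by omega⟩
      have hmpos : 0 < p ^ (q - 1) := pow_pos hpP.pos _
      have h3 : p' * (U.card + 1) ≤ p' * p ^ (q - 1) := Nat.mul_le_mul_left _ hcon
      have h4 : p ^ q = p' * p ^ (q - 1) + p ^ (q - 1) := by
        rw [hQm]; nth_rewrite 1 [hp']; ring
      have h5 : p - 1 = p' := by omega
      rw [h5, h4] at hlow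
      rw [mul_add, mul_one] at h3
      have h6 : 2 ≤ p' := by omega
      have h7 : U.card * p' = p' * U.card := mul_comm _ _
      omega
    -- the inequality
    have key := key_ineq U hmul hinv h0 h1 h2K
    rw [← hT, hTcard, hcardK] at key
    have hnpos : (0 : ℝ) < U.card := by
      exact_mod_cast Finset.card_pos.mpr ⟨1, h1⟩
    have hnQ : (U.card : ℝ) ≤ ((p ^ q : ℕ) : ℝ) := by
      have : U.card ≤ Fintype.card (GaloisField p q) := Finset.card_le_univ U
      rw [hcardK] at this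
      exact_mod_cast this
    have key2 : (((p ^ q : ℕ) : ℝ) - (U.card : ℝ) ^ 2) ^ 2 ≤ (((p ^ q : ℕ) : ℝ) - U.card) ^ 3 := by
      have e1 : (((p ^ q : ℕ) : ℝ) * U.card * ((1 : ℕ) : ℝ) - (U.card : ℝ) ^ 3) ^ 2 =
          (U.card : ℝ) ^ 2 * (((p ^ q : ℕ) : ℝ) - (U.card : ℝ) ^ 2) ^ 2 := by
        push_cast; ring
      have e2 : (((p ^ q : ℕ) : ℝ) - U.card) * (((p ^ q : ℕ) : ℝ) * U.card - (U.card : ℝ) ^ 2) ^ 2 =
          (U.card : ℝ) ^ 2 * (((p ^ q : ℕ) : ℝ) - U.card) ^ 3 := by ring
      rw [e1, e2] at key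
      exact le_of_mul_le_mul_left key (by positivity)
    apply arith_contra (p : ℝ) ((p ^ (q - 1) : ℕ) : ℝ) (U.card : ℝ) ((p ^ q : ℕ) : ℝ)
    · exact_mod_cast hp3
    · have : p ^ 4 ≤ p ^ (q - 1) := Nat.pow_le_pow_right hpP.pos (by omega)
      exact_mod_cast this
    · exact_mod_cast hQm
    · exact_mod_cast hn_ge
    · exact hnQ
    · exact key2

end Cfsg.Agent.S1471
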