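import Mathlib
import Cfsg.Statements.S1476
import Cfsg.Agent.S1474
import Cfsg.Agent.Lib.H8.CNSolv
import Cfsg.Agent.Lib.H8.CNThreeStep

set_option autoImplicit false
open Cfsg
open Cfsg.Agent.Lib.H8

namespace Cfsg.Agent.S1476

/-- Let G be a finite solvable group in which every non-identity element has nilpotent centralizer. Then either G is nilpotent; or G has a normal subgroup K with a Frobenius complement E (K E = G, K ∩ E = 1, E meets its conjugates by outside elements trivially) such that E is cyclic or E is generated by two elementwise-commuting subgroups, one cyclic of odd order and one isomorphic to a generalized quaternion group; or G is a three-step group with respect to some prime p. -/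
theorem result {G : Type*} [Group G] [Finite G] [Group.IsSolvable G] (hCN : Cfsg.IsCNGroup G) :
    Group.IsNilpotent G ∨
      (∃ K E : Subgroup G, K.Normal ∧ Subgroup.IsComplement' K E ∧ Cfsg.IsFrobeniusComplement E ∧
        (IsCyclic E ∨ ∃ C Q : Subgroup G, C ⊔ Q = E ∧ (∀ a ∈ C, ∀ b ∈ Q, a * b = b * a) ∧ IsCyclic C ∧ Odd (Nat.card C) ∧
          ∃ n : ℕ, Nonempty (↥Q ≃* QuaternionGroup (2 ^ n)))) ∨
      ∃ p : ℕ, p.Prime ∧ Cfsg.IsThreeStepGroup p G := by
  by_cases hnil : Group.IsNilpotent G
  · exact Or.inl hnil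
  right
  by_cases hA : ∃ (p : ℕ) (_ : Fact p.Prime) (P : Sylow p G),
      (P : Subgroup G) ≠ ⊥ ∧ (P : Subgroup G).Normal
  · left
    obtain ⟨p, hp, P, hP1, hPn⟩ := hA
    obtain ⟨hH1, -, ⟨E, hHE, hFrob, hfpf⟩, hquot⟩ := Cfsg.Agent.S1474.result hCN hnil p P hP1 hPn
    haveI hHn : (Cfsg.fittingHall G).Normal := inferInstance
    haveI := hquot
    have hEnil : Group.IsNilpotent E := by
      apply isNilpotent_of_injective' ((QuotientGroup.mk' (Cfsg.fittingHall G)).comp E.subtype)
      rw [injective_iff_map_eq_one]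
      intro e he
      have h2 : (e : G) ∈ Cfsg.fittingHall G := (QuotientGroup.eq_one_iff (e : G)).mp he
      have h3 : (e : G) ∈ Cfsg.fittingHall G ⊓ E := ⟨h2, e.2⟩
      rw [hHE.disjoint.eq_bot, Subgroup.mem_bot] at h3
      exact Subtype.ext h3
    have hEnorm : E ≤ Subgroup.normalizer (Cfsg.fittingHall G : Set G) := by
      rw [Subgroup.normalizer_eq_top_iff.2 hHn]; exact le_top
    exact ⟨Cfsg.fittingHall G, E, hHn, hHE, hFrob, fpf_nilpotent_structure hH1 hEnorm hfpf hEnil⟩
  · right
    have hB : ∀ (p : ℕ) [Fact p.Prime] (P : Sylow p G), (P : Subgroup G).Normal →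
        (P : Subgroup G) = ⊥ := by
      intro p hp P hPn
      by_contra h
      exact hA ⟨p, hp, P, h, hPn⟩
    obtain ⟨p, hp, h1, hcent⟩ := cn_exists_prime hCN hnil hB
    exact ⟨p, hp.out, cn_three_step hCN hB p h1 hcent⟩

end Cfsg.Agent.S1476
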