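import Mathlib
import Cfsg.Statements.S1478
import Cfsg.Agent.Lib.H8.MinSimpleCN
import Cfsg.Agent.Lib.H8.ThreeStepGeneral

set_option autoImplicit false
open Cfsg
open Cfsg.Agent.Lib.H8

namespace Cfsg.Agent.S1478

/-- Let G be a minimal simple group of odd order in which every non-identity element has nilpotent centralizer. Then no subgroup of G is a three-step group with respect to any prime. -/
theorem result {G : Type*} [Group G] [Finite G] (hG : Cfsg.IsMinSimpleOddOrder G) (hCN : Cfsg.IsCNGroup G) :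
    ∀ (H : Subgroup G) (p : ℕ), ¬ Cfsg.IsThreeStepGroup p ↥H := by
  intro H p h3
  by_cases hH : H = ⊤
  · subst hH
    haveI := hG.2.1
    obtain ⟨h1, A, -, -, -, -, -, hLtop, -, -, -⟩ := h3
    haveI hn : (Cfsg.pCore p ↥(⊤ : Subgroup G)).Normal := Cfsg.Agent.Lib.H1.pCore_normal p _
    have hNn : ((Cfsg.pCore p ↥(⊤ : Subgroup G)).map (⊤ : Subgroup G).subtype).Normal := by
      constructor
      rintro _ ⟨n, hn', rfl⟩ g
      refine ⟨⟨g, Subgroup.mem_top g⟩ * n * ⟨g, Subgroup.mem_top g⟩⁻¹, hn.conj_mem n hn' _, rfl⟩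
    rcases hNn.eq_bot_or_eq_top with hb | ht
    · apply h1
      rw [eq_bot_iff]
      intro x hx
      have : (x : G) ∈ (Cfsg.pCore p ↥(⊤ : Subgroup G)).map (⊤ : Subgroup G).subtype :=
        Subgroup.mem_map_of_mem _ hx
      rw [hb, Subgroup.mem_bot] at this
      exact Subgroup.mem_bot.mpr (Subtype.ext this)
    · apply hLtop
      rw [eq_top_iff]
      intro x _
      have : (x : G) ∈ (Cfsg.pCore p ↥(⊤ : Subgroup G)).map (⊤ : Subgroup G).subtype := by
        rw [ht]; exact Subgroup.mem_top _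
      obtain ⟨y, hy, hyx⟩ := this
      have : y = x := Subtype.ext hyx
      rw [← this]
      exact (le_sup_left : Cfsg.pCore p ↥(⊤ : Subgroup G) ≤ _) hy
  · obtain ⟨hsol, hCNH, hoddH⟩ := minSimple_proper hG hCN H hH
    haveI := hsol
    obtain ⟨r, hr, h3r⟩ := threeStep_general_to_prime hCNH hoddH p h3
    exact minSimple_no_threeStep_prime hG hCN r H h3r

end Cfsg.Agent.S1478
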