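import Cfsg.Statements.S1480
import Cfsg.Agent.Lib.H7.GorT11

set_option autoImplicit false
open Cfsg
open scoped commutatorElement
set_option linter.style.haveILetI false

namespace Cfsg.Agent.S1480

/-- Let G be a finite group and p a prime such that the normalizer of every nontrivial p-subgroup of G is p-constrained; if p = 2 assume also that the Sylow 2-subgroups of G have nilpotency class at most 2. Let E be an abelian p-subgroup containing an elementary abelian subgroup of order p ^ 3 and containing every element of p-power order of C_G(E). Then for every prime q ≠ p, any two maximal E-invariant q-subgroups of G are conjugate by an element of O_{p'}(C_G(E)). -/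
theorem result {G : Type*} [Group G] [Finite G] (p : ℕ) [Fact p.Prime]
    (hloc : ∀ T : Subgroup G, IsPGroup p T → T ≠ ⊥ → Cfsg.IsPConstrained p ↥(Subgroup.normalizer (T : Set G)))
    (h2 : p = 2 → ∀ S : Sylow p G, Group.IsNilpotent (S : Subgroup G) ∧ Group.nilpotencyClass (S : Subgroup G) ≤ 2)
    (E : Subgroup G) (hEp : IsPGroup p E) (hEc : IsMulCommutative E) (hE3 : ¬ Cfsg.PRankLE p 2 E)
    (hEfull : ∀ x ∈ Subgroup.centralizer (E : Set G), IsPGroup p (Subgroup.zpowers x) → x ∈ E)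
    (q : ℕ) [Fact q.Prime] (hqp : q ≠ p) :
    ∀ Q₁ ∈ Cfsg.maxInvSubgroups ⊤ E {q}, ∀ Q₂ ∈ Cfsg.maxInvSubgroups ⊤ E {q},
        ∃ k ∈ Cfsg.piCoreOf (Cfsg.primesNotDvd p) (Subgroup.centralizer (E : Set G)), Q₂ = Q₁.map (MulAut.conj k).toMonoidHom := by
  intro Q₁ hQ₁ Q₂ hQ₂
  have hp : p.Prime := Fact.out
  have hq : q.Prime := Fact.out
  rw [Cfsg.Agent.Lib.H7.BG7.mem_maxInv_iff hq] at hQ₁ hQ₂
  have hEc' : ∀ x ∈ E, ∀ y ∈ E, x * y = y * x := by
    intro x hx y hy
    have h := mul_comm' (⟨x, hx⟩ : E) ⟨y, hy⟩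
    exact congrArg Subtype.val h
  have hcase : p ≠ 2 ∨ ∀ S : Subgroup G, IsPGroup p S →
      ∀ x ∈ S, ∀ y ∈ S, ∀ z ∈ S, ⁅⁅x, y⁆, z⁆ = 1 := by
    by_cases hp2 : p = 2
    · right
      intro S hS x hx y hy z hz
      obtain ⟨P, hSP⟩ := hS.exists_le_sylow
      obtain ⟨hn, hc⟩ := h2 hp2 P
      haveI := hn
      have h := Cfsg.Agent.Lib.H7.GorT.class_two hc (⟨x, hSP hx⟩ : ↥(P : Subgroup G))
        ⟨y, hSP hy⟩ ⟨z, hSP hz⟩
      have h' := congrArg Subtype.val h
      simpa [commutatorElement_def] using h'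
    · exact Or.inl hp2
  obtain ⟨A, hAE, hA, hA3⟩ := Cfsg.Agent.Lib.H7.BG7.exists_elemAb_of_not_pRankLE hp hE3
  obtain ⟨k, hk, hkQ⟩ := Cfsg.Agent.Lib.H7.GorT.transitivity_thm p hloc hcase E hEp hEc'
    ⟨A, hAE, hA, hA3⟩ hEfull q hqp Q₁ Q₂ hQ₁ hQ₂
  exact ⟨k, hk, hkQ.symm⟩

end Cfsg.Agent.S1480
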