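import Cfsg.Statements.S1481
import Cfsg.Agent.Lib.H10.BMLc
import Cfsg.Agent.Lib.H1.FrattiniArg

set_option autoImplicit false
open Cfsg

namespace Cfsg.Agent.S1481

open Cfsg.Agent.Lib Cfsg.Agent.Lib.H10

open Cfsg.Agent.Lib.H10.BML Cfsg.Agent.Lib.H1 Cfsg.Agent.Lib.H19
open Cfsg.Agent.Lib.H16.BG Cfsg.Agent.Lib.H7.BG7

/-- Let G be a finite group and H a local subgroup (the normalizer of a nontrivial subgroup of prime-power order) not properly contained in any local subgroup; let F = F(H), suppose at least two primes divide #F, put X = H ∩ C_G(F), let M ≤ F with F ∩ C_G(M) ≤ M, and let R be a solvable subgroup normalized by M and by X. Then for every prime q not dividing #F there is exactly one maximal M-invariant q-subgroup of R, and it is a Sylow q-subgroup of the largest normal subgroup of R of order coprime to #F. -/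
theorem result {G : Type*} [Group G] [Finite G] (H : Subgroup G) (hH : Cfsg.IsLocalSubgroup H) (hHmax : ∀ L : Subgroup G, Cfsg.IsLocalSubgroup L → H ≤ L → L = H)
    (hF2 : 2 ≤ (Nat.card (Cfsg.fittingOf H)).primeFactors.card)
    (M : Subgroup G) (hM : M ≤ Cfsg.fittingOf H) (hCM : Cfsg.fittingOf H ⊓ Subgroup.centralizer (M : Set G) ≤ M)
    (R : Subgroup G) (hR : Group.IsSolvable R) (hMR : M ≤ Subgroup.normalizer (R : Set G))
    (hXR : H ⊓ Subgroup.centralizer (Cfsg.fittingOf H : Set G) ≤ Subgroup.normalizer (R : Set G))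
    (q : ℕ) [Fact q.Prime] (hq : ¬ q ∣ Nat.card (Cfsg.fittingOf H)) :
    ∃! Q : Subgroup G, Q ∈ Cfsg.maxInvSubgroups R M {q} ∧
      (∀ Q' : Subgroup G, Q' ∈ Cfsg.maxInvSubgroups R M {q} →
        Q' ≤ Cfsg.piCoreOf (Cfsg.primesNotDvd (Nat.card (Cfsg.fittingOf H))) R ∧
        ¬ q ∣ Q'.relIndex (Cfsg.piCoreOf (Cfsg.primesNotDvd (Nat.card (Cfsg.fittingOf H))) R)) := by
  classical
  have hML : MaxLocal H := ⟨hH, hHmax⟩
  have hqp : q.Prime := Fact.out
  set σ := Cfsg.primesNotDvd (Nat.card (Cfsg.fittingOf H)) with hσ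
  set K := Cfsg.piCoreOf σ R with hK
  have hKR : K ≤ R := piCoreOf_le σ R
  have hMK : M ≤ Subgroup.normalizer (K : Set G) :=
    hMR.trans (normalizer_le_normalizer_piCoreOf σ R)
  have hKσ : IsPiCard σ (Nat.card K) := piCoreOf_isPiCard σ R
  have hcopFK : (Nat.card (Cfsg.fittingOf H)).Coprime (Nat.card K) := coprime_of_isPiCard _ hKσ
  have hcop : CoprimeAction M K :=
    ⟨hMK, Nat.Coprime.coprime_dvd_left (Subgroup.card_dvd_of_le hM) hcopFK,
      Or.inr (isSolvable_of_le hR hKR)⟩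
  obtain ⟨S, hS, hMS⟩ := coprime_exists_invariant_sylow hcop q
  -- a prime divisor of `#F`
  have hne : (Nat.card (Cfsg.fittingOf H)).primeFactors.Nonempty := by
    rw [← Finset.card_pos]; omega
  obtain ⟨p, hpmem⟩ := hne
  have hp : p.Prime := Nat.prime_of_mem_primeFactors hpmem
  have hpF : p ∣ Nat.card (Cfsg.fittingOf H) := Nat.dvd_of_mem_primeFactors hpmem
  have : Fact p.Prime := ⟨hp⟩
  have hfix : K ⊓ Subgroup.centralizer (M : Set G) = ⊥ := by
    rw [eq_bot_iff, ← inf_centralizer_Zq_eq_bot hML hM hCM hR hXR hKR hMK hcopFK hpF]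
    exact inf_le_inf_left _ (centralizer_anti (Zq_le_of_centralizer_le hM hCM p))
  -- every `M`-invariant `q`-subgroup of `K` lies in `S`
  have hU : ∀ U : Subgroup G, U ≤ K → IsPGroup q U →
      M ≤ Subgroup.normalizer (U : Set G) → U ≤ S := by
    intro U hUK hUq hMU
    obtain ⟨P, hP, hUP, hMP⟩ := coprime_invariant_psubgroup_le_sylow hcop hUK hUq hMU
    obtain ⟨c, hc, hcPS⟩ := coprime_invariant_sylow_conj hcop hP hS hMP hMS
    rw [hfix, Subgroup.mem_bot] at hc
    rw [hc, map_one, one_smul] at hcPS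
    rw [← hcPS]
    exact hUP
  have hall : ∀ Y ∈ Cfsg.invSubgroups R M {q}, Y ≤ S := by
    rintro Y ⟨hYR, hYq, hMY⟩
    have hYp : IsPGroup q Y := isPGroup_of_isPiCard_singleton hqp hYq
    exact hU Y (le_piCoreOf_of_invariant hML hF2 hM hCM hR hMR hXR hq hYR hYp hMY) hYp hMY
  have hSinv : S ∈ Cfsg.invSubgroups R M {q} :=
    ⟨hS.le.trans hKR, isPiCard_of_isPGroup hqp (Set.mem_singleton q) hS.isPGroup, hMS⟩
  have hSmax : S ∈ Cfsg.maxInvSubgroups R M {q} :=
    ⟨hSinv, fun Y hY hSY => le_antisymm (hall Y hY) hSY⟩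
  have huniq : ∀ Q' ∈ Cfsg.maxInvSubgroups R M {q}, Q' = S := by
    rintro Q' ⟨hQ'inv, hQ'max⟩
    exact (hQ'max S hSinv (hall Q' hQ'inv)).symm
  refine ⟨S, ⟨hSmax, ?_⟩, fun Q' hQ' => huniq Q' hQ'.1⟩
  intro Q' hQ'
  rw [huniq Q' hQ']
  exact ⟨hS.le, hS.not_dvd_relIndex⟩

end Cfsg.Agent.S1481
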