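import Mathlib
import Cfsg.Statements.S1483
import Cfsg.Agent.Lib.H8.Nilpotent
import Cfsg.Agent.S1477

set_option autoImplicit false
open Cfsg
open Cfsg.Agent.Lib.H8

namespace Cfsg.Agent.S1483

section
variable {G : Type*} [Group G] [Finite G]

omit [Finite G] in
theorem orderOf_of_isPGroup_zpowers {p : ℕ} {x : G} (hx : IsPGroup p (Subgroup.zpowers x)) :
    ∃ k : ℕ, x ^ p ^ k = 1 := by
  obtain ⟨k, hk⟩ := hx ⟨x, Subgroup.mem_zpowers x⟩
  refine ⟨k, ?_⟩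
  have := congrArg Subtype.val hk
  rwa [Subgroup.coe_pow, Subgroup.coe_one] at this

omit [Finite G] in
theorem isPGroup_zpowers_of_pow {p : ℕ} {x : G} {k : ℕ} (hk : x ^ p ^ k = 1) :
    IsPGroup p (Subgroup.zpowers x) := by
  intro ⟨y, hy⟩
  obtain ⟨n, rfl⟩ := Subgroup.mem_zpowers_iff.mp hy
  refine ⟨k, ?_⟩
  apply Subtype.ext
  rw [Subgroup.coe_pow, Subgroup.coe_one]
  show (x ^ n) ^ p ^ k = 1
  rw [← zpow_natCast, ← zpow_mul, mul_comm, zpow_mul, zpow_natCast, hk, one_zpow]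

omit [Finite G] in
theorem coprime_orderOf_of_pow {p q : ℕ} (hp : p.Prime) (hq : q.Prime) (hpq : p ≠ q) {a b : G} {k l : ℕ}
    (ha : a ^ p ^ k = 1) (hb : b ^ q ^ l = 1) : (orderOf a).Coprime (orderOf b) := by
  have h1 : orderOf a ∣ p ^ k := orderOf_dvd_of_pow_eq_one ha
  have h2 : orderOf b ∣ q ^ l := orderOf_dvd_of_pow_eq_one hb
  have h3 : (p ^ k).Coprime (q ^ l) := Nat.Coprime.pow _ _ ((Nat.coprime_primes hp hq).mpr hpq)
  exact Nat.Coprime.coprime_dvd_left h1 (Nat.Coprime.coprime_dvd_right h2 h3)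

/-- the conjugation relation part -/
theorem part_one (hCN : Cfsg.IsCNGroup G) (H₁ H₂ : Subgroup G)
    (h1 : Group.IsNilpotent ↥H₁ ∧ ∀ L : Subgroup G, Group.IsNilpotent L → H₁ ≤ L → L = H₁)
    (h2 : Group.IsNilpotent ↥H₂ ∧ ∀ L : Subgroup G, Group.IsNilpotent L → H₂ ≤ L → L = H₂) :
    (∃ g : G, H₂ = H₁.map (MulAut.conj g).toMonoidHom) ∨ (Nat.card H₁).Coprime (Nat.card H₂) := by
  by_cases hcop : (Nat.card H₁).Coprime (Nat.card H₂)
  · exact Or.inr hcop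
  left
  obtain ⟨p, hp, hp1, hp2⟩ := Nat.Prime.not_coprime_iff_dvd.mp hcop
  haveI : Fact p.Prime := ⟨hp⟩
  obtain ⟨hn1, hmax1⟩ := h1
  obtain ⟨hn2, hmax2⟩ := h2
  obtain ⟨P₁, hP₁H, hP₁p, hP₁card, hP₁all⟩ := sylow_of_nilpotent H₁ hn1 p
  obtain ⟨P₂, hP₂H, hP₂p, hP₂card, hP₂all⟩ := sylow_of_nilpotent H₂ hn2 p
  have hc1 := Cfsg.Agent.S1477.card_sylow_eq H₁ (Cfsg.Agent.S1477.part_a hCN H₁ hn1 hmax1) p hp hp1
  have hc2 := Cfsg.Agent.S1477.card_sylow_eq H₂ (Cfsg.Agent.S1477.part_a hCN H₂ hn2 hmax2) p hp hp2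
  rw [hc1] at hP₁card
  rw [hc2] at hP₂card
  obtain ⟨S₁, hS₁⟩ : ∃ S : Sylow p G, (S : Subgroup G) = P₁ := ⟨Sylow.ofCard P₁ hP₁card, rfl⟩
  obtain ⟨S₂, hS₂⟩ : ∃ S : Sylow p G, (S : Subgroup G) = P₂ := ⟨Sylow.ofCard P₂ hP₂card, rfl⟩
  obtain ⟨g, hg⟩ := MulAction.exists_smul_eq G S₁ S₂
  have hP1 : P₁ ≠ ⊥ := by
    intro h
    rw [h, Subgroup.card_bot] at hP₁card
    have hv : 0 < (Nat.card G).factorization p :=
      hp.factorization_pos_of_dvd Nat.card_pos.ne' (hp1.trans (Subgroup.card_subgroup_dvd_card H₁))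
    have : 1 < p ^ (Nat.card G).factorization p := Nat.one_lt_pow hv.ne' hp.one_lt
    omega
  obtain ⟨y, hyP, hy1, hyc⟩ := Cfsg.Agent.S1477.exists_central_of_pgroup p P₁ hP₁p hP1
  have hCy : Subgroup.centralizer ({y} : Set G) = H₁ :=
    Cfsg.Agent.S1477.centralizer_eq hCN H₁ hmax1 hy1
      (central_of_sylow_central H₁ hn1 p P₁ hP₁H hP₁p hP₁all hyP hyc)
  -- P₂ = g P₁ g⁻¹
  have hmem : ∀ u : G, u ∈ P₂ ↔ g⁻¹ * u * g ∈ P₁ := by
    intro u
    rw [← hS₂, ← hg, ← hS₁, Sylow.coe_subgroup_smul, Subgroup.mem_pointwise_smul_iff_inv_smul_mem]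
    simp [MulAut.smul_def, MulAut.conj_apply]
  have hy2P : g * y * g⁻¹ ∈ P₂ := by
    rw [hmem]
    have : g⁻¹ * (g * y * g⁻¹) * g = y := by group
    rw [this]; exact hyP
  have hy21 : g * y * g⁻¹ ≠ 1 := by
    intro h
    apply hy1
    have : y = g⁻¹ * (g * y * g⁻¹) * g := by group
    rw [this, h]; group
  have hy2c : ∀ u ∈ P₂, (g * y * g⁻¹) * u = u * (g * y * g⁻¹) := by
    intro u hu
    have h3 := hyc _ ((hmem u).mp hu)
    calc (g * y * g⁻¹) * u = g * (y * (g⁻¹ * u * g)) * g⁻¹ := by group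
      _ = g * ((g⁻¹ * u * g) * y) * g⁻¹ := by rw [h3]
      _ = u * (g * y * g⁻¹) := by group
  have hCy2 : Subgroup.centralizer ({g * y * g⁻¹} : Set G) = H₂ :=
    Cfsg.Agent.S1477.centralizer_eq hCN H₂ hmax2 hy21
      (central_of_sylow_central H₂ hn2 p P₂ hP₂H hP₂p hP₂all hy2P hy2c)
  refine ⟨g, ?_⟩
  ext u
  rw [← hCy2, Subgroup.mem_map, Cfsg.Agent.S1477.mem_centralizer_singleton]
  constructor
  · intro hu
    refine ⟨g⁻¹ * u * g, ?_, ?_⟩
    · rw [← hCy, Cfsg.Agent.S1477.mem_centralizer_singleton]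
      calc y * (g⁻¹ * u * g) = g⁻¹ * ((g * y * g⁻¹) * u) * g := by group
        _ = g⁻¹ * (u * (g * y * g⁻¹)) * g := by rw [hu]
        _ = (g⁻¹ * u * g) * y := by group
    · simp [MulAut.conj_apply]; group
  · rintro ⟨v, hv, rfl⟩
    rw [← hCy, Cfsg.Agent.S1477.mem_centralizer_singleton] at hv
    simp only [MulEquiv.coe_toMonoidHom, MulAut.conj_apply]
    calc (g * y * g⁻¹) * (g * v * g⁻¹) = g * (y * v) * g⁻¹ := by group
      _ = g * (v * y) * g⁻¹ := by rw [hv]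
      _ = (g * v * g⁻¹) * (g * y * g⁻¹) := by group

theorem part_two (hCN : Cfsg.IsCNGroup G) (p q r : ℕ) (hp : p.Prime) (hq : q.Prime) (hr : r.Prime)
    (x y y' z : G) (hx1 : x ≠ 1) (hy1 : y ≠ 1) (hy'1 : y' ≠ 1) (hz1 : z ≠ 1)
    (hx : IsPGroup p (Subgroup.zpowers x)) (hy : IsPGroup q (Subgroup.zpowers y))
    (hy' : IsPGroup q (Subgroup.zpowers y')) (hz : IsPGroup r (Subgroup.zpowers z))
    (hxy : x * y = y * x) (hyz : y' * z = z * y') :
    ∃ x' z' : G, x' ≠ 1 ∧ z' ≠ 1 ∧ IsPGroup p (Subgroup.zpowers x') ∧ IsPGroup r (Subgroup.zpowers z') ∧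
      x' * z' = z' * x' := by
  by_cases hpr : p = r
  · subst hpr
    exact ⟨x, x, hx1, hx1, hx, hx, rfl⟩
  by_cases hpq : p = q
  · subst hpq
    exact ⟨y', z, hy'1, hz1, hy', hz, hyz⟩
  by_cases hqr : q = r
  · subst hqr
    exact ⟨x, y, hx1, hy1, hx, hy, hxy⟩
  haveI : Fact q.Prime := ⟨hq⟩
  obtain ⟨kx, hkx⟩ := orderOf_of_isPGroup_zpowers hx
  obtain ⟨ky, hky⟩ := orderOf_of_isPGroup_zpowers hy
  obtain ⟨ky', hky'⟩ := orderOf_of_isPGroup_zpowers hy'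
  obtain ⟨kz, hkz⟩ := orderOf_of_isPGroup_zpowers hz
  obtain ⟨Q, hQ⟩ := hy.exists_le_sylow
  obtain ⟨Q', hQ'⟩ := hy'.exists_le_sylow
  have hyQ : y ∈ (Q : Subgroup G) := hQ (Subgroup.mem_zpowers y)
  have hy'Q : y' ∈ (Q' : Subgroup G) := hQ' (Subgroup.mem_zpowers y')
  have hQ1 : (Q : Subgroup G) ≠ ⊥ := by
    intro h
    rw [h, Subgroup.mem_bot] at hyQ
    exact hy1 hyQ
  obtain ⟨w, hwQ, hw1, hwc⟩ := Cfsg.Agent.S1477.exists_central_of_pgroup q (Q : Subgroup G) Q.isPGroup' hQ1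
  obtain ⟨kw, hkw⟩ := Cfsg.Agent.S1477.exists_pow_eq_one_of_isPGroup Q.isPGroup' hwQ
  -- x commutes with w
  have hxw : x * w = w * x := by
    apply mul_comm_of_coprime_of_mem_nilpotent _ (hCN y hy1)
    · rw [Cfsg.Agent.S1477.mem_centralizer_singleton]; exact hxy.symm
    · rw [Cfsg.Agent.S1477.mem_centralizer_singleton]; exact (hwc y hyQ).symm
    · exact coprime_orderOf_of_pow hp hq hpq hkx hkw
  obtain ⟨g, hg⟩ := MulAction.exists_smul_eq G Q Q'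
  have hmem : ∀ u : G, u ∈ (Q' : Subgroup G) ↔ g⁻¹ * u * g ∈ (Q : Subgroup G) := by
    intro u
    rw [← hg, Sylow.coe_subgroup_smul, Subgroup.mem_pointwise_smul_iff_inv_smul_mem]
    simp [MulAut.smul_def, MulAut.conj_apply]
  have hy''Q := (hmem y').mp hy'Q
  have hy''1 : g⁻¹ * y' * g ≠ 1 := by
    intro h
    apply hy'1
    have : y' = g * (g⁻¹ * y' * g) * g⁻¹ := by group
    rw [this, h]; group
  have hy''pow : (g⁻¹ * y' * g) ^ q ^ ky' = 1 := by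
    have := Cfsg.Agent.S1477.conj_pow_eq_one (c := g⁻¹) hky'
    simpa using this
  have hz''pow : (g⁻¹ * z * g) ^ r ^ kz = 1 := by
    have := Cfsg.Agent.S1477.conj_pow_eq_one (c := g⁻¹) hkz
    simpa using this
  -- x commutes with y''
  have hxy'' : x * (g⁻¹ * y' * g) = (g⁻¹ * y' * g) * x := by
    apply mul_comm_of_coprime_of_mem_nilpotent _ (hCN w hw1)
    · rw [Cfsg.Agent.S1477.mem_centralizer_singleton]; exact hxw.symm
    · rw [Cfsg.Agent.S1477.mem_centralizer_singleton]; exact hwc _ hy''Q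
    · exact coprime_orderOf_of_pow hp hq hpq hkx hy''pow
  have hyz'' : (g⁻¹ * y' * g) * (g⁻¹ * z * g) = (g⁻¹ * z * g) * (g⁻¹ * y' * g) := by
    calc (g⁻¹ * y' * g) * (g⁻¹ * z * g) = g⁻¹ * (y' * z) * g := by group
      _ = g⁻¹ * (z * y') * g := by rw [hyz]
      _ = (g⁻¹ * z * g) * (g⁻¹ * y' * g) := by group
  have hxz'' : x * (g⁻¹ * z * g) = (g⁻¹ * z * g) * x := by
    apply mul_comm_of_coprime_of_mem_nilpotent _ (hCN _ hy''1)
    · rw [Cfsg.Agent.S1477.mem_centralizer_singleton]; exact hxy''.symm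
    · rw [Cfsg.Agent.S1477.mem_centralizer_singleton]; exact hyz''
    · exact coprime_orderOf_of_pow hp hr hpr hkx hz''pow
  refine ⟨x, g⁻¹ * z * g, hx1, ?_, hx, isPGroup_zpowers_of_pow hz''pow, hxz''⟩
  intro h
  apply hz1
  have : z = g * (g⁻¹ * z * g) * g⁻¹ := by group
  rw [this, h]; group

end

/-- Let G be a minimal simple group of odd order in which every non-identity element has nilpotent centralizer. Then any two nilpotent subgroups each contained in no larger nilpotent subgroup are either conjugate or of coprime orders; and for primes p, q, r: if some elements x, y ≠ 1 of p-power and q-power order commute, and some elements y', z ≠ 1 of q-power and r-power order commute, then some elements of p-power and r-power order, both ≠ 1, commute. -/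
theorem result {G : Type*} [Group G] [Finite G] (hG : Cfsg.IsMinSimpleOddOrder G) (hCN : Cfsg.IsCNGroup G) :
    (∀ H₁ H₂ : Subgroup G, (Group.IsNilpotent ↥H₁ ∧ ∀ L : Subgroup G, Group.IsNilpotent L → H₁ ≤ L → L = H₁) → (Group.IsNilpotent ↥H₂ ∧ ∀ L : Subgroup G, Group.IsNilpotent L → H₂ ≤ L → L = H₂) → (∃ g : G, H₂ = H₁.map (MulAut.conj g).toMonoidHom) ∨ (Nat.card H₁).Coprime (Nat.card H₂)) ∧
      ∀ (p q r : ℕ), p.Prime → q.Prime → r.Prime → ∀ (x y y' z : G), x ≠ 1 → y ≠ 1 → y' ≠ 1 → z ≠ 1 →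
        IsPGroup p (Subgroup.zpowers x) → IsPGroup q (Subgroup.zpowers y) → IsPGroup q (Subgroup.zpowers y') → IsPGroup r (Subgroup.zpowers z) →
        x * y = y * x → y' * z = z * y' →
        ∃ x' z' : G, x' ≠ 1 ∧ z' ≠ 1 ∧ IsPGroup p (Subgroup.zpowers x') ∧ IsPGroup r (Subgroup.zpowers z') ∧ x' * z' = z' * x' := by
  obtain ⟨hodd, hms⟩ := hG
  haveI : Finite G := by
    apply Nat.finite_of_card_ne_zero
    intro h
    rw [h] at hodd
    exact absurd hodd (by decide)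
  refine ⟨fun H₁ H₂ h1 h2 => part_one hCN H₁ H₂ h1 h2, ?_⟩
  intro p q r hp hq hr x y y' z hx1 hy1 hy'1 hz1 hx hy hy' hz hxy hyz
  exact part_two hCN p q r hp hq hr x y y' z hx1 hy1 hy'1 hz1 hx hy hy' hz hxy hyz

end Cfsg.Agent.S1483
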