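import Mathlib
import Cfsg.Statements.S1484
import Cfsg.Agent.Lib.H8.MinSimpleCover
import Cfsg.Agent.S1483

set_option autoImplicit false
open Cfsg
open Cfsg.Agent.Lib.H8

namespace Cfsg.Agent.S1484

/-- Let G be a minimal simple group of odd order in which every non-identity element has nilpotent centralizer, and M₁, …, M_k maximal subgroups, pairwise non-conjugate, such that every maximal subgroup is conjugate to some M_i. Let H_i be the largest normal nilpotent Hall subgroup of M_i. Then the orders of the H_i are pairwise coprime, their product is the order of G, and every element of G is conjugate to an element of some H_i. -/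
theorem result {G : Type*} [Group G] [Finite G] (hG : Cfsg.IsMinSimpleOddOrder G) (hCN : Cfsg.IsCNGroup G) (k : ℕ) (Mrep : Fin k → Subgroup G) (hmax : ∀ i, IsCoatom (Mrep i))
    (hnc : ∀ i j, i ≠ j → ∀ g : G, Mrep j ≠ (Mrep i).map (MulAut.conj g).toMonoidHom) (hall : ∀ M : Subgroup G, IsCoatom M → ∃ i, ∃ g : G, M = (Mrep i).map (MulAut.conj g).toMonoidHom) :
    (∀ i j, i ≠ j → (Nat.card (Cfsg.fittingHallOf (Mrep i))).Coprime (Nat.card (Cfsg.fittingHallOf (Mrep j)))) ∧
      ∏ i, Nat.card (Cfsg.fittingHallOf (Mrep i)) = Nat.card G ∧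
      ∀ x : G, ∃ i, ∃ g : G, g * x * g⁻¹ ∈ Cfsg.fittingHallOf (Mrep i) := by
  classical
  haveI := hG.2.1
  have hnil : ∀ i, Group.IsNilpotent (Cfsg.fittingHallOf (Mrep i)) :=
    fun i => fittingHallOf_isNilpotent _
  have hmaxK : ∀ i, ∀ L : Subgroup G, Group.IsNilpotent L → Cfsg.fittingHallOf (Mrep i) ≤ L →
      L = Cfsg.fittingHallOf (Mrep i) := by
    intro i
    obtain ⟨E, -, h⟩ := coatom_structure hG hCN _ (hmax i)
    exact h
  have hNK : ∀ i, Subgroup.normalizer (Cfsg.fittingHallOf (Mrep i) : Set G) = Mrep i :=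
    fun i => coatom_normalizer_fittingHallOf hG hCN _ (hmax i)
  -- every maximal nilpotent subgroup is conjugate to some `K_i`
  have hconj : ∀ L : Subgroup G, Group.IsNilpotent L →
      (∀ L' : Subgroup G, Group.IsNilpotent L' → L ≤ L' → L' = L) →
      ∃ i, ∃ g : G, L.map (MulAut.conj g).toMonoidHom = Cfsg.fittingHallOf (Mrep i) := by
    intro L hL hLmax
    have hco := maxNil_coatom hG hCN L hL hLmax
    obtain ⟨i, g, hig⟩ := hall _ hco
    refine ⟨i, g⁻¹, ?_⟩
    obtain ⟨hL'nil, hL'max⟩ := maxNil_conj L hL hLmax g⁻¹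
    have h1 : Subgroup.normalizer ((L.map (MulAut.conj g⁻¹).toMonoidHom : Subgroup G) : Set G)
        = Mrep i := by
      rw [← Subgroup.map_equiv_normalizer_eq, hig, map_conj_inv_map_conj]
    have h2 := maxNil_fittingHallOf_normalizer hCN _ hL'nil hL'max
    rw [h1] at h2
    exact h2.symm
  have h3 : ∀ x : G, ∃ i, ∃ g : G, g * x * g⁻¹ ∈ Cfsg.fittingHallOf (Mrep i) := by
    intro x
    by_cases hx : x = 1
    · have hbot : Group.IsNilpotent (⊥ : Subgroup G) := inferInstance
      obtain ⟨L, -, hL, hLmax⟩ := exists_maxNil_ge (⊥ : Subgroup G) hbot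
      obtain ⟨i, g, -⟩ := hconj L hL hLmax
      refine ⟨i, 1, ?_⟩
      rw [hx]
      simp only [mul_one, inv_one]
      exact Subgroup.one_mem _
    · obtain ⟨L, hCL, hL, hLmax⟩ := exists_maxNil_ge _ (hCN x hx)
      obtain ⟨i, g, hig⟩ := hconj L hL hLmax
      refine ⟨i, g, ?_⟩
      rw [← hig]
      have hxL : x ∈ L := hCL (mem_centralizer_singleton'.mpr rfl)
      exact Subgroup.mem_map_of_mem (MulAut.conj g).toMonoidHom hxL
  have h1 : ∀ i j, i ≠ j → (Nat.card (Cfsg.fittingHallOf (Mrep i))).Coprime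
      (Nat.card (Cfsg.fittingHallOf (Mrep j))) := by
    intro i j hij
    rcases (Cfsg.Agent.S1483.result hG hCN).1 _ _ ⟨hnil i, hmaxK i⟩ ⟨hnil j, hmaxK j⟩ with
      ⟨g, hg⟩ | h
    · exfalso
      apply hnc i j hij g
      rw [← hNK j, hg, ← Subgroup.map_equiv_normalizer_eq, hNK i]
    · exact h
  refine ⟨h1, ?_, h3⟩
  apply prod_eq_of_hall_cover (Nat.card G) Nat.card_pos.ne'
    (fun i => Nat.card (Cfsg.fittingHallOf (Mrep i))) (fun i => (Cfsg.fittingHallOf (Mrep i)).index)
  · intro i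
    exact Subgroup.card_mul_index _
  · intro i
    exact (Cfsg.Agent.S1477.result hCN _ (hnil i) (hmaxK i)).1
  · exact h1
  · intro p hp hpG
    haveI : Fact p.Prime := ⟨hp⟩
    obtain ⟨x, hx⟩ := exists_prime_orderOf_dvd_card' p hpG
    obtain ⟨i, g, hmem⟩ := h3 x
    refine ⟨i, ?_⟩
    have h4 : orderOf (g * x * g⁻¹) = orderOf x := MulEquiv.orderOf_eq (MulAut.conj g) x
    have h5 := orderOf_dvd_natCard (⟨g * x * g⁻¹, hmem⟩ : Cfsg.fittingHallOf (Mrep i))
    rw [Subgroup.orderOf_mk, h4, hx] at h5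
    exact h5

end Cfsg.Agent.S1484
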