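import Mathlib
import Cfsg.Statements.S1487
import Cfsg.Agent.Lib.H8.Clifford
import Cfsg.Agent.Lib.L0.CharBasic

set_option autoImplicit false
open Cfsg

namespace Cfsg.Agent.S1487

open Cfsg.Agent.Lib.H8 Cfsg.Agent.Lib.L0

/-- If complex numbers of norm at most `r` sum to `card * r`, they are all equal to `r`. -/
theorem eq_of_sum_eq_card_mul {ι : Type*} (s : Finset ι) (z : ι → ℂ) (r : ℝ)
    (hle : ∀ i ∈ s, ‖z i‖ ≤ r) (hsum : ∑ i ∈ s, z i = (s.card : ℂ) * r) : ∀ i ∈ s, z i = r := by
  have hre : ∑ i ∈ s, (z i).re = ∑ _i ∈ s, r := by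
    have := congrArg Complex.re hsum
    rw [Complex.re_sum] at this
    rw [this, Finset.sum_const, nsmul_eq_mul]
    simp
  have hle' : ∀ i ∈ s, (z i).re ≤ r := fun i hi => (Complex.re_le_norm _).trans (hle i hi)
  have heq := (Finset.sum_eq_sum_iff_of_le hle').mp hre
  intro i hi
  have h1 : (z i).re = r := heq i hi
  have h2 : ‖z i‖ ^ 2 ≤ r ^ 2 := by
    have h0 : 0 ≤ ‖z i‖ := norm_nonneg _
    have := hle i hi
    nlinarith
  rw [Complex.sq_norm, Complex.normSq_apply, h1] at h2
  have h3 : (z i).im = 0 := by nlinarith [mul_self_nonneg (z i).im]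
  apply Complex.ext
  · simpa using h1
  · simpa using h3

/-- Let A ≤ H be normal subgroups of the finite group G and θ an irreducible character of H. Then θ takes the value θ 1 on all of A if and only if the function induced from θ to G takes its value at 1 on all of A. -/
theorem result {G : Type*} [Group G] [Fintype G] (A H : Subgroup G) [A.Normal] [H.Normal] (hAH : A ≤ H) (θ : H → ℂ) (hθ : Cfsg.IsIrrCharacter H θ) : (∀ a : H, (a : G) ∈ A → θ a = θ 1) ↔ (∀ a : G, a ∈ A → Cfsg.indFun H θ a = Cfsg.indFun H θ 1) := by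
  have hA : A.Normal := inferInstance
  have hN : H.Normal := inferInstance
  have hone : Cfsg.indFun H θ 1 = (Nat.card H : ℂ)⁻¹ * ∑ _x : G, θ 1 := by
    have := indFun_coe_of_normal H θ (1 : H)
    have h1 : Cfsg.indFun H θ 1 = Cfsg.indFun H θ ((1 : H) : G) := rfl
    rw [h1, this]
    congr 1
    apply Finset.sum_congr rfl
    intro x _
    exact fun_subtype_congr H θ _ (one_mem H) (by simp)
  constructor
  · intro h a ha
    have := indFun_coe_of_normal H θ ⟨a, hAH ha⟩
    simp only at this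
    rw [this, hone]
    congr 1
    apply Finset.sum_congr rfl
    intro x _
    exact h ⟨x * a * x⁻¹, _⟩ (hA.conj_mem a ha x)
  · intro h a ha
    have hc := isCharacter_of_irr hθ
    obtain ⟨n, hn⟩ := isCharacter_apply_one hc
    have h1 := h a ha
    rw [indFun_coe_of_normal H θ a, hone] at h1
    have hH : (Nat.card H : ℂ)⁻¹ ≠ 0 := inv_ne_zero (Nat.cast_ne_zero.mpr Nat.card_pos.ne')
    have h2 := mul_left_cancel₀ hH h1
    rw [Finset.sum_const, nsmul_eq_mul, hn] at h2
    have h3 := eq_of_sum_eq_card_mul Finset.univ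
      (fun x : G => θ ⟨x * a * x⁻¹, hN.conj_mem a a.2 x⟩) (n : ℝ) ?_ (by simpa using h2) 1
      (Finset.mem_univ _)
    · rw [hn]
      have h4 : θ a = θ ⟨1 * (a : G) * 1⁻¹, hN.conj_mem a a.2 1⟩ :=
        (fun_subtype_congr H θ _ a.2 (by simp)).symm
      rw [h4, h3]
      simp
    · intro x _
      have := isCharacter_norm_le hc (⟨x * a * x⁻¹, hN.conj_mem a a.2 x⟩ : H)
      rw [hn] at this
      simpa using this

end Cfsg.Agent.S1487
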