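import Mathlib
import Cfsg.Statements.S1488
import Cfsg.Agent.Lib.H8.ClassFun

set_option autoImplicit false
open Cfsg

namespace Cfsg.Agent.S1488

open Cfsg.Agent.Lib.H8

/-- Let A be a normal subgroup of the finite group G contained in the subgroup H, let θ be a function on H and θ₁ a function on the image of H in G ⧸ A whose composite with the projection is θ. Then the function induced from θ₁ to G ⧸ A, composed with the projection G → G ⧸ A, equals the function induced from θ to G. -/
theorem result {G : Type*} [Group G] [Fintype G] (A H : Subgroup G) [A.Normal] (hAH : A ≤ H) [Fintype (G ⧸ A)] [Fintype ↥(H.map (QuotientGroup.mk' A))] (θ : H → ℂ) (θ₁ : ↥(H.map (QuotientGroup.mk' A)) → ℂ) (hθ : ∀ x : H, θ₁ ⟨QuotientGroup.mk' A x, Subgroup.mem_map_of_mem _ x.2⟩ = θ x) (g : G) : Cfsg.indFun (H.map (QuotientGroup.mk' A)) θ₁ (QuotientGroup.mk' A g) = Cfsg.indFun H θ g := by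
  -- membership in the image
  have hmem : ∀ z : G, QuotientGroup.mk' A z ∈ H.map (QuotientGroup.mk' A) ↔ z ∈ H := by
    intro z
    constructor
    · rintro ⟨w, hw, hwz⟩
      have h1 : w⁻¹ * z ∈ A := by
        rw [← QuotientGroup.eq]; exact hwz
      have : z = w * (w⁻¹ * z) := by group
      rw [this]
      exact H.mul_mem hw (hAH h1)
    · intro hz
      exact Subgroup.mem_map_of_mem _ hz
  have hext : ∀ z : G, Cfsg.extendByZero (H.map (QuotientGroup.mk' A)) θ₁ (QuotientGroup.mk' A z)
      = Cfsg.extendByZero H θ z := by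
    intro z
    by_cases hz : z ∈ H
    · rw [extendByZero_of_mem H θ hz, extendByZero_of_mem _ θ₁ ((hmem z).mpr hz)]
      exact hθ ⟨z, hz⟩
    · rw [extendByZero_of_not_mem H θ hz, extendByZero_of_not_mem _ θ₁ (fun h => hz ((hmem z).mp h))]
  have hcard : (Nat.card H : ℂ) = (Nat.card ↥(H.map (QuotientGroup.mk' A)) : ℂ) * (Nat.card A : ℂ) := by
    have h1 : (QuotientGroup.mk' A).ker.relIndex H = Nat.card ↥(H.map (QuotientGroup.mk' A)) :=
      Subgroup.relIndex_ker H (QuotientGroup.mk' A)
    rw [QuotientGroup.ker_mk'] at h1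
    have h2 : Nat.card (A.subgroupOf H) * (A.subgroupOf H).index = Nat.card H :=
      Subgroup.card_mul_index _
    have h3 : Nat.card (A.subgroupOf H) = Nat.card A :=
      Nat.card_congr (Subgroup.subgroupOfEquivOfLe hAH).toEquiv
    rw [h3] at h2
    have h4 : (A.subgroupOf H).index = Nat.card ↥(H.map (QuotientGroup.mk' A)) := h1
    rw [h4] at h2
    rw [← h2]; push_cast; ring
  have hA0 : (Nat.card A : ℂ) ≠ 0 := Nat.cast_ne_zero.mpr Nat.card_pos.ne'
  have hH0 : (Nat.card ↥(H.map (QuotientGroup.mk' A)) : ℂ) ≠ 0 := Nat.cast_ne_zero.mpr Nat.card_pos.ne'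
  rw [indFun_apply, indFun_apply]
  have hsum : ∑ x : G, Cfsg.extendByZero H θ (x⁻¹ * g * x)
      = (Nat.card A : ℂ) * ∑ q : G ⧸ A, Cfsg.extendByZero (H.map (QuotientGroup.mk' A)) θ₁
          (q⁻¹ * QuotientGroup.mk' A g * q) := by
    rw [← sum_comp_mk A (fun q => Cfsg.extendByZero (H.map (QuotientGroup.mk' A)) θ₁
          (q⁻¹ * QuotientGroup.mk' A g * q))]
    apply Finset.sum_congr rfl
    intro x _
    rw [← hext]
    rfl
  rw [hsum, hcard]
  field_simp

end Cfsg.Agent.S1488
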