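import Mathlib
import Cfsg.Statements.S1489
import Cfsg.Agent.Lib.H8.Clifford
import Cfsg.Agent.Lib.L0.CharIndChar
import Cfsg.Agent.Lib.H24.CharOrth
import Cfsg.Agent.S0193

set_option autoImplicit false
open Cfsg

namespace Cfsg.Agent.S1489

open scoped ComplexConjugate
open Cfsg.Agent.Lib.H8 Cfsg.Agent.Lib.L0 Cfsg.Agent.Lib.H24

theorem indFun_apply_one {G : Type*} [Group G] [Fintype G] (H : Subgroup G) (θ : H → ℂ) :
    Cfsg.indFun H θ 1 = (Nat.card G : ℂ) / (Nat.card H : ℂ) * θ 1 := by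
  rw [Cfsg.Agent.Lib.H8.indFun_apply]
  have : ∀ x : G, Cfsg.extendByZero H θ (x⁻¹ * 1 * x) = θ 1 := by
    intro x
    have h1 : x⁻¹ * 1 * x = ((1 : H) : G) := by simp
    rw [h1, extendByZero_coe]
  simp only [this, Finset.sum_const, Finset.card_univ, nsmul_eq_mul, Fintype.card_eq_nat_card]
  ring

/-- The function induced from an irreducible character has norm at least one. -/
theorem one_le_of_classInner_indFun_self {G : Type*} [Group G] [Fintype G] (T : Subgroup G)
    (ξ : T → ℂ) (hξ : Cfsg.IsIrrCharacter T ξ) (m : ℕ)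
    (hm : Cfsg.classInner (Cfsg.indFun T ξ) (Cfsg.indFun T ξ) = m) : 1 ≤ m := by
  rcases Nat.eq_zero_or_pos m with h0 | h0
  · exfalso
    rw [h0, Nat.cast_zero] at hm
    have hz := classInner_self_eq_zero hm
    have h1 := congrFun hz 1
    rw [indFun_apply_one, Pi.zero_apply] at h1
    have hG : (Nat.card G : ℂ) ≠ 0 := Nat.cast_ne_zero.mpr Nat.card_pos.ne'
    have hT : (Nat.card T : ℂ) ≠ 0 := Nat.cast_ne_zero.mpr Nat.card_pos.ne'
    have hξ1 : ξ 1 ≠ 0 := irr_one_ne_zero ⟨ξ, hξ⟩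
    exact mul_ne_zero (div_ne_zero hG hT) hξ1 h1
  · exact h0

/-- Let H be a normal subgroup of the finite group G, θ an irreducible character of H, and T the inertia group of θ (the elements g with θ(g h g⁻¹) = θ(h) for all h ∈ H). If ψ and ψ' are irreducible characters of T having nonzero inner product with the function induced from θ to T, then the function induced from ψ to G is an irreducible character of G, and it equals the one induced from ψ' only if ψ = ψ'. -/
theorem result {G : Type*} [Group G] [Fintype G] (H T : Subgroup G) [hN : H.Normal] [Fintype T] (θ : H → ℂ) (hθ : Cfsg.IsIrrCharacter H θ) (hT : ∀ g : G, g ∈ T ↔ ∀ h : H, θ ⟨g * h * g⁻¹, hN.conj_mem h h.2 g⟩ = θ h) (hHT : H ≤ T) (ψ ψ' : T → ℂ) (hψ : Cfsg.IsIrrCharacter T ψ) (hψ' : Cfsg.IsIrrCharacter T ψ') (hc : Cfsg.classInner (Cfsg.indFun (H.subgroupOf T) (fun x => θ ⟨(x : T), Subgroup.mem_subgroupOf.mp x.2⟩)) ψ ≠ 0) (hc' : Cfsg.classInner (Cfsg.indFun (H.subgroupOf T) (fun x =>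 θ ⟨(x : T), Subgroup.mem_subgroupOf.mp x.2⟩)) ψ' ≠ 0) : Cfsg.IsIrrCharacter G (Cfsg.indFun T ψ) ∧ (Cfsg.indFun T ψ = Cfsg.indFun T ψ' → ψ = ψ') := by
  classical
  haveI : Fintype (IrrCharacter T) := Fintype.ofFinite _
  set θ' : H.subgroupOf T → ℂ := fun x => θ ⟨(x : T), Subgroup.mem_subgroupOf.mp x.2⟩ with hθ'
  set Θ : T → ℂ := Cfsg.indFun (H.subgroupOf T) θ' with hΘ
  -- `θ'` is irreducible
  have hθ'irr : Cfsg.IsIrrCharacter (H.subgroupOf T) θ' := by
    have := isIrrCharacter_comp_of_surjective (Subgroup.subgroupOfEquivOfLe hHT).toMonoidHom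
      (Subgroup.subgroupOfEquivOfLe hHT).surjective hθ
    convert this using 1
    funext x
    exact congrArg θ (Subtype.ext rfl)
  have hΘc : Cfsg.IsCharacter T Θ := isCharacter_indFun _ (isCharacter_of_irr hθ'irr)
  have htrans : Cfsg.indFun T Θ = Cfsg.indFun H θ := indFun_trans H T hHT θ
  -- norms
  have hcardH : Nat.card (H.subgroupOf T) = Nat.card H :=
    Nat.card_congr (Subgroup.subgroupOfEquivOfLe hHT).toEquiv
  have hnormG : (Nat.card H : ℂ) * Cfsg.classInner (Cfsg.indFun H θ) (Cfsg.indFun H θ)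
      = Nat.card T := by
    rw [Cfsg.Agent.S0193.result H θ hθ]
    congr 1
    exact Nat.card_congr (Equiv.subtypeEquivRight (fun g => (hT g).symm))
  have hnormT : (Nat.card H : ℂ) * Cfsg.classInner Θ Θ = Nat.card T := by
    have h1 := Cfsg.Agent.S0193.result (H.subgroupOf T) θ' hθ'irr
    rw [hcardH] at h1
    rw [h1]
    congr 1
    apply Nat.card_congr (Equiv.subtypeUnivEquiv ?_)
    intro t h'
    exact (hT t.1).mp t.2 ⟨(h' : T), Subgroup.mem_subgroupOf.mp h'.2⟩
  have hH : (Nat.card H : ℂ) ≠ 0 := Nat.cast_ne_zero.mpr Nat.card_pos.ne'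
  have hnorm : Cfsg.classInner (Cfsg.indFun T Θ) (Cfsg.indFun T Θ) = Cfsg.classInner Θ Θ := by
    rw [htrans]
    exact mul_left_cancel₀ hH (hnormG.trans hnormT.symm)
  -- multiplicities
  have hn : ∀ ξ : IrrCharacter T, ∃ n : ℕ, Cfsg.classInner Θ (ξ : T → ℂ) = n :=
    fun ξ => classInner_char_irr_nat hΘc ξ.2
  choose n hn using hn
  have hm : ∀ ξ η : IrrCharacter T, ∃ m : ℕ,
      Cfsg.classInner (Cfsg.indFun T (ξ : T → ℂ)) (Cfsg.indFun T (η : T → ℂ)) = m :=
    fun ξ η => classInner_char_char_nat (isCharacter_indFun T (isCharacter_of_irr ξ.2))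
      (isCharacter_indFun T (isCharacter_of_irr η.2))
  choose m hm using hm
  have hmdiag : ∀ ξ : IrrCharacter T, 1 ≤ m ξ ξ :=
    fun ξ => one_le_of_classInner_indFun_self T ξ.1 ξ.2 _ (hm ξ ξ)
  have hexp : Θ = ∑ ξ : IrrCharacter T, (n ξ : ℂ) • (ξ : T → ℂ) := by
    have := classFunction_expansion Θ (isClassFunction_of_isCharacter hΘc)
    simp only [hn] at this
    exact this
  have hexpG : Cfsg.indFun T Θ = ∑ ξ : IrrCharacter T, (n ξ : ℂ) • Cfsg.indFun T (ξ : T → ℂ) := by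
    conv_lhs => rw [hexp]
    rw [indFun_sum]
    apply Finset.sum_congr rfl
    intro ξ _
    rw [indFun_smul]
  have e1 : Cfsg.classInner (Cfsg.indFun T Θ) (Cfsg.indFun T Θ)
      = ∑ ξ : IrrCharacter T, ∑ η : IrrCharacter T, ((n ξ * n η * m ξ η : ℕ) : ℂ) := by
    rw [hexpG, classInner_sum_left]
    apply Finset.sum_congr rfl
    intro ξ _
    rw [classInner_sum_right]
    apply Finset.sum_congr rfl
    intro η _
    rw [classInner_smul_left, classInner_smul_right, hm, Complex.conj_natCast]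
    push_cast
    ring
  have e2 : Cfsg.classInner Θ Θ
      = ∑ ξ : IrrCharacter T, ∑ η : IrrCharacter T,
          ((n ξ * n η * (if ξ = η then 1 else 0) : ℕ) : ℂ) := by
    conv_lhs => rw [hexp]
    rw [classInner_sum_left]
    apply Finset.sum_congr rfl
    intro ξ _
    rw [classInner_sum_right]
    apply Finset.sum_congr rfl
    intro η _
    rw [classInner_smul_left, classInner_smul_right, irr_classInner_eq ξ.2 η.2,
      Complex.conj_natCast]
    by_cases h : ξ = η
    · have h' : (ξ : T → ℂ) = (η : T → ℂ) := congrArg Subtype.val h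
      rw [if_pos h, if_pos h']
      push_cast
      ring
    · have h' : ¬ (ξ : T → ℂ) = (η : T → ℂ) := fun h' => h (Subtype.ext h')
      rw [if_neg h, if_neg h']
      push_cast
      ring
  have e3 : ∑ ξ : IrrCharacter T, ∑ η : IrrCharacter T, (n ξ * n η * m ξ η)
      = ∑ ξ : IrrCharacter T, ∑ η : IrrCharacter T, (n ξ * n η * (if ξ = η then 1 else 0)) := by
    have := e1.symm.trans (hnorm.trans e2)
    exact_mod_cast this
  -- pointwise comparison
  have hle : ∀ p ∈ (Finset.univ : Finset (IrrCharacter T × IrrCharacter T)),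
      (n p.1 * n p.2 * (if p.1 = p.2 then 1 else 0)) ≤ (n p.1 * n p.2 * m p.1 p.2) := by
    rintro ⟨ξ, η⟩ _
    by_cases h : ξ = η
    · subst h
      simp only [if_pos rfl]
      exact Nat.mul_le_mul_left _ (hmdiag ξ)
    · simp only [if_neg h, mul_zero]
      exact Nat.zero_le _
  have e4 : ∑ p : IrrCharacter T × IrrCharacter T, (n p.1 * n p.2 * (if p.1 = p.2 then 1 else 0))
      = ∑ p : IrrCharacter T × IrrCharacter T, (n p.1 * n p.2 * m p.1 p.2) := by
    rw [Fintype.sum_prod_type, Fintype.sum_prod_type]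
    exact e3.symm
  have hpt := (Finset.sum_eq_sum_iff_of_le hle).mp e4
  -- conclusions
  have hnψ : n ⟨ψ, hψ⟩ ≠ 0 := by
    intro h0
    apply hc
    have := hn ⟨ψ, hψ⟩
    rw [h0] at this
    simpa using this
  have hnψ' : n ⟨ψ', hψ'⟩ ≠ 0 := by
    intro h0
    apply hc'
    have := hn ⟨ψ', hψ'⟩
    rw [h0] at this
    simpa using this
  have hself : Cfsg.classInner (Cfsg.indFun T ψ) (Cfsg.indFun T ψ) = 1 := by
    have h1 := hpt (⟨ψ, hψ⟩, ⟨ψ, hψ⟩) (Finset.mem_univ _)
    simp only [if_true, mul_one] at h1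
    have h2 : m ⟨ψ, hψ⟩ ⟨ψ, hψ⟩ = 1 := by
      have hpos : 0 < n ⟨ψ, hψ⟩ * n ⟨ψ, hψ⟩ := Nat.mul_pos (Nat.pos_of_ne_zero hnψ) (Nat.pos_of_ne_zero hnψ)
      exact (Nat.eq_of_mul_eq_mul_left hpos (by rw [mul_one]; exact h1)).symm
    have := hm ⟨ψ, hψ⟩ ⟨ψ, hψ⟩
    rw [h2] at this
    simpa using this
  constructor
  · exact isIrrCharacter_of_classInner_self_eq_one (isCharacter_indFun T (isCharacter_of_irr hψ)) hself
  · intro heq
    by_contra hne
    have hne' : (⟨ψ, hψ⟩ : IrrCharacter T) ≠ ⟨ψ', hψ'⟩ := fun h => hne (congrArg Subtype.val h)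
    have h1 := hpt (⟨ψ, hψ⟩, ⟨ψ', hψ'⟩) (Finset.mem_univ _)
    simp only [if_neg hne', mul_zero] at h1
    have h2 : m ⟨ψ, hψ⟩ ⟨ψ', hψ'⟩ = 0 := by
      rcases Nat.mul_eq_zero.mp h1.symm with h | h
      · rcases Nat.mul_eq_zero.mp h with h | h
        · exact absurd h hnψ
        · exact absurd h hnψ'
      · exact h
    have h3 := hm ⟨ψ, hψ⟩ ⟨ψ', hψ'⟩
    rw [h2] at h3
    simp only at h3
    rw [← heq, hself] at h3
    norm_num at h3

end Cfsg.Agent.S1489
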