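import Mathlib
import Cfsg.Statements.S1491
import Cfsg.Agent.Lib.H8.AbelianInertia
import Cfsg.Agent.Lib.H23.DegreeDvd

set_option autoImplicit false
open Cfsg

namespace Cfsg.Agent.S1491

open Cfsg.Agent.Lib.H8 Cfsg.Agent.Lib.L0 Cfsg.Agent.Lib.H23

/-- Let H be a normal subgroup of the finite group G and θ an irreducible character of H with inertia group T, where T/H is abelian (commutators of T lie in H) and the index of H in T is coprime to the order of H. Then the function induced from θ is the sum of a set of exactly [T:H] irreducible characters of G, each of degree [G:T] * θ(1). -/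
theorem result {G : Type*} [Group G] [Fintype G] (H T : Subgroup G) [hN : H.Normal] (θ : H → ℂ) (hθ : Cfsg.IsIrrCharacter H θ) (hT : ∀ g : G, g ∈ T ↔ ∀ h : H, θ ⟨g * h * g⁻¹, hN.conj_mem h h.2 g⟩ = θ h) (hab : ∀ x ∈ T, ∀ y ∈ T, x * y * x⁻¹ * y⁻¹ ∈ H) (hcop : Nat.Coprime (Nat.card H) (H.relIndex T)) : ∃ C : Finset (G → ℂ), (∀ χ ∈ C, Cfsg.IsIrrCharacter G χ) ∧ C.card = H.relIndex T ∧ Cfsg.indFun H θ = ∑ χ ∈ C, χ ∧ ∀ χ ∈ C, χ 1 = (T.index : ℂ) * θ 1 := by
  classical
  haveI : Fintype H := Fintype.ofFinite H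
  haveI : Fintype T := Fintype.ofFinite T
  have hθcl : Cfsg.IsClassFunction H θ := isClassFunction_of_isCharacter (isCharacter_of_irr hθ)
  have hHT : H ≤ T := by
    intro h hh
    rw [hT]
    intro n
    have := hθcl n ⟨h, hh⟩
    rw [← this]
    congr 1
  have hinv : ∀ g ∈ T, ∀ n : H, θ ⟨g * n * g⁻¹, hN.conj_mem (n : G) n.2 g⟩ = θ n :=
    fun g hg => (hT g).mp hg
  obtain ⟨e, C, he, hC, hcard, hsum⟩ := abelian_inertia H T hHT θ hθ hinv hab
  -- e = 1
  obtain ⟨k, hk⟩ := ramification_dvd_degree H T hHT θ e C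
    (fun ψ hψ => isCharacter_of_irr (hC ψ hψ).1) hsum hcop
  obtain ⟨d, hd0, hd1, hd2⟩ := irr_apply_one_dvd_card θ hθ
  have he1 : e = 1 := by
    rw [hd1] at hk
    have hdk : d = e * k := by exact_mod_cast hk
    have h1 : e ∣ Nat.card H := (Dvd.intro k hdk.symm).trans hd2
    have h2 : e ∣ H.relIndex T := by
      rw [← hcard]
      exact Dvd.intro (e * C.card) (by ring)
    exact Nat.eq_one_of_dvd_coprimes hcop h1 h2
  subst he1
  rw [Nat.cast_one] at hsum hC
  rw [one_pow, one_mul] at hcard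
  rw [one_smul] at hsum
  have hover : ∀ ψ ∈ C, Cfsg.classInner (resTo H T hHT ψ) θ ≠ 0 := by
    intro ψ hψ
    rw [(hC ψ hψ).2, classInner_smul_left, irr_classInner_self hθ, mul_one]
    exact one_ne_zero
  have hinj : Set.InjOn (fun ψ : T → ℂ => Cfsg.indFun T ψ) (C : Set (T → ℂ)) := by
    intro ψ hψ ψ' hψ' heq
    exact indFun_inertia_injective H T hHT θ hθ hT ψ ψ' (hC ψ hψ).1 (hC ψ' hψ').1
      (hover ψ hψ) (hover ψ' hψ') heq
  have hrel : H.relIndex T * Nat.card H = Nat.card T := by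
    have := Subgroup.card_mul_index (H.subgroupOf T)
    rw [Nat.card_congr (Subgroup.subgroupOfEquivOfLe hHT).toEquiv] at this
    rw [mul_comm]; exact this
  refine ⟨C.image (fun ψ : T → ℂ => Cfsg.indFun T ψ), ?_, ?_, ?_, ?_⟩
  · intro χ hχ
    obtain ⟨ψ, hψ, rfl⟩ := Finset.mem_image.mp hχ
    exact (isIrrCharacter_indFun_inertia H T hHT θ hθ hT ψ (hC ψ hψ).1 (hover ψ hψ)).1
  · rw [Finset.card_image_of_injOn hinj, hcard]
  · rw [Finset.sum_image hinj, ← indFun_sum, ← hsum, indFun_eq_smul_indFun_extTo hHT,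
      ← indFun_smul]
    congr 2
    have hH0 : (Nat.card H : ℂ) ≠ 0 := Nat.cast_ne_zero.mpr Nat.card_pos.ne'
    rw [← hrel]
    push_cast
    field_simp
  · intro χ hχ
    obtain ⟨ψ, hψ, rfl⟩ := Finset.mem_image.mp hχ
    show Cfsg.indFun T ψ 1 = _
    rw [indFun_apply_one]
    have h1 := congrFun (hC ψ hψ).2 1
    rw [Pi.smul_apply, smul_eq_mul, one_mul] at h1
    have h2 : resTo H T hHT ψ 1 = ψ 1 := rfl
    rw [h2] at h1
    rw [h1]

end Cfsg.Agent.S1491
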