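import Mathlib
import Cfsg.Statements.S1492
import Cfsg.Agent.Lib.H8.CharConstituent
import Cfsg.Agent.Lib.H23.Ito
import Cfsg.Agent.Lib.H23.CentralChar
import Cfsg.Agent.Lib.L0.CharDegree
import Cfsg.Agent.Lib.L0.CharIndChar
import Cfsg.Agent.Lib.H24.CharBasic

set_option autoImplicit false
open Cfsg

namespace Cfsg.Agent.S1492

open Cfsg.Agent.Lib.H8 Cfsg.Agent.Lib.L0 Cfsg.Agent.Lib.H23

/-- Let ψ be an irreducible character of the finite group G and B ≤ D ≤ C subgroups with B normal in C, every commutator of an element of D with an element of C lying in B (so D/B is central in C/B), and ψ constant equal to ψ 1 on B. Then ψ(1) ^ 2 * |C| * |D| ≤ |G| ^ 2. -/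
theorem result {G : Type*} [Group G] [Finite G] (ψ : G → ℂ) (hψ : Cfsg.IsIrrCharacter G ψ) (B C D : Subgroup G) (hBD : B ≤ D) (hDC : D ≤ C) (hBn : ∀ c ∈ C, ∀ b ∈ B, c * b * c⁻¹ ∈ B) (hcent : ∀ d ∈ D, ∀ c ∈ C, d * c * d⁻¹ * c⁻¹ ∈ B) (hker : ∀ b ∈ B, ψ b = ψ 1) : ‖ψ 1‖ ^ 2 * (Nat.card C : ℝ) * (Nat.card D : ℝ) ≤ (Nat.card G : ℝ) ^ 2 := by
  classical
  haveI : Fintype G := Fintype.ofFinite G
  haveI : Fintype C := Fintype.ofFinite C
  have hψc : Cfsg.IsCharacter G ψ := isCharacter_of_irr hψ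
  have hψcl : Cfsg.IsClassFunction G ψ := isClassFunction_of_isCharacter hψc
  have hψC : Cfsg.IsCharacter C (fun c : C => ψ c) := isCharacter_restrict C hψc
  have hψ1 : ψ 1 ≠ 0 := Cfsg.Agent.Lib.H24.irr_one_ne_zero ⟨ψ, hψ⟩
  obtain ⟨φ, hφ, hcon⟩ := exists_irr_constituent hψC (by simpa using hψ1)
  have hφc : Cfsg.IsCharacter C φ := isCharacter_of_irr hφ
  -- (1) degree bound
  have hfr : Cfsg.classInner (Cfsg.indFun C φ) ψ ≠ 0 := by
    rw [Cfsg.Agent.Lib.L0.frobenius_reciprocity C φ ψ hψcl, ← classInner_conj_symm]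
    intro h0
    apply hcon
    have := congrArg (starRingEnd ℂ) h0
    simpa using this
  obtain ⟨a, b, ha, hb, hab⟩ := degree_le_of_classInner_ne_zero hψ (isCharacter_indFun C hφc) hfr
  rw [indFun_apply_one] at hb
  -- (2) B acts trivially
  have hBφ : ∀ x : C, (x : G) ∈ B → φ x = φ 1 := by
    intro x hx
    apply constituent_apply_eq_one hψC hφ hcon
    show ψ x = ψ ((1 : C) : G)
    rw [Subgroup.coe_one]
    exact hker x hx
  -- representation
  have hφself := irr_classInner_self hφ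
  obtain ⟨n, σ, hσirr, rfl⟩ := hφ
  haveI := hσirr
  have hσB : ∀ x : C, (x : G) ∈ B → σ x = 1 := fun x hx =>
    (char_eq_char_one_iff σ x).mp (hBφ x hx)
  have hcomm : ∀ d : C, (d : G) ∈ D → ∀ g : C, σ d ∘ₗ σ g = σ g ∘ₗ σ d := by
    intro d hd g
    have hmem : ((d * g * d⁻¹ * g⁻¹ : C) : G) ∈ B := by
      have := hcent d hd g g.2
      simpa using this
    have h1 := hσB _ hmem
    have h2 : d * g = (d * g * d⁻¹ * g⁻¹) * (g * d) := by group
    have h3 : σ (d * g) = σ (g * d) := by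
      rw [h2, map_mul, h1, one_mul]
    rw [map_mul, map_mul] at h3
    exact h3
  have hfin : Module.finrank ℂ (Fin n → ℂ) = n := by simp
  have hone : σ.character 1 = (n : ℂ) := by rw [Representation.char_one, hfin]
  have hnormD : ∀ d : C, (d : G) ∈ D → ‖σ.character d‖ = (n : ℝ) := by
    intro d hd
    obtain ⟨c, hc⟩ := exists_scalar_of_commute σ (σ d) (hcomm d hd)
    have := (norm_char_eq_finrank_iff σ d).mpr ⟨c, hc⟩
    rw [this, hfin]
  -- (4) norm of φ
  have hsumC : ∑ c : C, ‖σ.character c‖ ^ 2 = (Nat.card C : ℝ) := by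
    rw [classInner_self_eq] at hφself
    have h1 : (Nat.card C : ℝ)⁻¹ * ∑ g : C, ‖σ.character g‖ ^ 2 = 1 := by exact_mod_cast hφself
    have hC0 : (Nat.card C : ℝ) ≠ 0 := Nat.cast_ne_zero.mpr Nat.card_pos.ne'
    field_simp at h1
    linarith
  -- (5) restrict the sum to D
  have hcardD : (Finset.univ.filter (fun c : C => (c : G) ∈ D)).card = Nat.card D := by
    rw [← Nat.card_congr (Subgroup.subgroupOfEquivOfLe hDC).toEquiv, Nat.card_eq_fintype_card,
      Fintype.card_subtype]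
    rfl
  have hle : (Nat.card D : ℝ) * (n : ℝ) ^ 2 ≤ (Nat.card C : ℝ) := by
    rw [← hsumC, ← hcardD]
    calc ((Finset.univ.filter (fun c : C => (c : G) ∈ D)).card : ℝ) * (n : ℝ) ^ 2
        = ∑ c ∈ Finset.univ.filter (fun c : C => (c : G) ∈ D), ‖σ.character c‖ ^ 2 := by
          rw [Finset.sum_congr rfl (fun c hc => by
            rw [hnormD c (Finset.mem_filter.mp hc).2]), Finset.sum_const, nsmul_eq_mul]
      _ ≤ ∑ c : C, ‖σ.character c‖ ^ 2 :=
          Finset.sum_le_sum_of_subset_of_nonneg (Finset.filter_subset _ _)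
            (fun _ _ _ => sq_nonneg _)
  -- (6) conclude
  rw [hone] at hb
  have hb' : b = C.index * n := by exact_mod_cast hb.symm
  have hcardG : (Nat.card G : ℝ) = (C.index : ℝ) * (Nat.card C : ℝ) := by
    rw [← Subgroup.card_mul_index C]; push_cast; ring
  rw [ha, Complex.norm_natCast, hcardG]
  have hab' : (a : ℝ) ≤ (C.index : ℝ) * n := by
    have : a ≤ C.index * n := hb' ▸ hab
    exact_mod_cast this
  have ha0 : (0 : ℝ) ≤ a := Nat.cast_nonneg a
  have hC0 : (0 : ℝ) ≤ (Nat.card C : ℝ) := Nat.cast_nonneg _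
  have hD0 : (0 : ℝ) ≤ (Nat.card D : ℝ) := Nat.cast_nonneg _
  have hsq : (a : ℝ) ^ 2 ≤ ((C.index : ℝ) * n) ^ 2 := pow_le_pow_left₀ ha0 hab' 2
  calc (a : ℝ) ^ 2 * (Nat.card C : ℝ) * (Nat.card D : ℝ)
      ≤ ((C.index : ℝ) * n) ^ 2 * (Nat.card C : ℝ) * (Nat.card D : ℝ) := by
        apply mul_le_mul_of_nonneg_right _ hD0
        exact mul_le_mul_of_nonneg_right hsq hC0
    _ = (C.index : ℝ) ^ 2 * (Nat.card C : ℝ) * ((Nat.card D : ℝ) * (n : ℝ) ^ 2) := by ring
    _ ≤ (C.index : ℝ) ^ 2 * (Nat.card C : ℝ) * (Nat.card C : ℝ) := by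
        apply mul_le_mul_of_nonneg_left hle
        positivity
    _ = ((C.index : ℝ) * (Nat.card C : ℝ)) ^ 2 := by ring

end Cfsg.Agent.S1492
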