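import Mathlib
import Cfsg.Statements.S1495

set_option autoImplicit false
open Cfsg

namespace Cfsg.Agent.S1495

open Finset

/-- A rational number whose image in `ℂ` is an algebraic integer is an integer. -/
theorem rat_int_of_isIntegral (r : ℚ) (h : IsIntegral ℤ ((r : ℚ) : ℂ)) : ∃ y : ℤ, (y : ℚ) = r := by
  have h1 : IsIntegral ℤ r := by
    have : ((r : ℚ) : ℂ) = algebraMap ℚ ℂ r := rfl
    rw [this] at h
    exact (isIntegral_algebraMap_iff (algebraMap ℚ ℂ).injective).mp h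
  obtain ⟨y, hy⟩ := IsIntegrallyClosed.isIntegral_iff.mp h1
  exact ⟨y, by simpa using hy⟩

/-- Let p be a prime, ε = exp(2πi/p), and n an integer such that n = (1 − ε) * ω for some algebraic integer ω. Then p divides n. -/
theorem result (p : ℕ) (hp : p.Prime) (n : ℤ) (ω : ℂ) (hω : IsIntegral ℤ ω) (h : (n : ℂ) = (1 - Complex.exp (2 * Real.pi * Complex.I / p)) * ω) : (p : ℤ) ∣ n := by
  obtain ⟨ε, hε⟩ : ∃ ε : ℂ, ε = Complex.exp (2 * Real.pi * Complex.I / p) := ⟨_, rfl⟩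
  rw [← hε] at h
  have hprim : IsPrimitiveRoot ε p := by
    rw [hε]; exact Complex.isPrimitiveRoot_exp p hp.ne_zero
  have hεint : IsIntegral ℤ ε := hprim.isIntegral hp.pos
  have hεp : ε ^ p = 1 := hprim.pow_eq_one
  have hp1 : p - 1 + 1 = p := Nat.sub_add_cancel hp.one_le
  -- the inverse exponents
  have hj : ∀ k ∈ range (p - 1), ∃ j : ℕ, ε ^ ((k + 1) * j) = ε := by
    intro k hk
    rw [mem_range] at hk
    have hcop : Nat.Coprime (k + 1) p := by
      apply Nat.Coprime.symm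
      rw [Nat.Prime.coprime_iff_not_dvd hp]
      intro hdvd
      have := Nat.le_of_dvd (Nat.succ_pos k) hdvd
      omega
    obtain ⟨j, -, hj⟩ := Nat.exists_mul_mod_eq_one_of_coprime hcop hp.one_lt
    refine ⟨j, ?_⟩
    have h2 := Nat.div_add_mod ((k + 1) * j) p
    rw [hj] at h2
    rw [← h2, pow_add, pow_mul, hεp, one_pow, one_mul, pow_one]
  choose! j hj using hj
  -- ω_k
  let W : ℕ → ℂ := fun k => ω * ∑ i ∈ range (j k), (ε ^ (k + 1)) ^ i
  have hWint : ∀ k, IsIntegral ℤ (W k) := by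
    intro k
    apply IsIntegral.mul hω
    apply IsIntegral.sum
    intro i _
    exact (hεint.pow _).pow _
  have hW : ∀ k ∈ range (p - 1), (1 - ε ^ (k + 1)) * W k = (n : ℂ) := by
    intro k hk
    have h3 : (1 - ε ^ (k + 1)) * ∑ i ∈ range (j k), (ε ^ (k + 1)) ^ i = 1 - ε := by
      rw [mul_neg_geom_sum, ← pow_mul, hj k hk]
    calc (1 - ε ^ (k + 1)) * W k = ((1 - ε ^ (k + 1)) * ∑ i ∈ range (j k), (ε ^ (k + 1)) ^ i) * ω := by
          simp only [W]; ring
      _ = (1 - ε) * ω := by rw [h3]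
      _ = (n : ℂ) := h.symm
  have hprod : (n : ℂ) ^ (p - 1) = (p : ℂ) * ∏ k ∈ range (p - 1), W k := by
    have h4 : ∏ k ∈ range (p - 1), ((1 - ε ^ (k + 1)) * W k) = ∏ k ∈ range (p - 1), (n : ℂ) :=
      Finset.prod_congr rfl hW
    rw [Finset.prod_mul_distrib, Finset.prod_const, Finset.card_range] at h4
    have h5 : ∏ k ∈ range (p - 1), (1 - ε ^ (k + 1)) = ((p - 1 : ℕ) : ℂ) + 1 :=
      IsPrimitiveRoot.prod_one_sub_pow_eq_order (by rw [hp1]; exact hprim)
    have h6 : ((p - 1 : ℕ) : ℂ) + 1 = (p : ℂ) := by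
      rw [← Nat.cast_one (R := ℂ), ← Nat.cast_add, hp1]
    rw [h5, h6] at h4
    exact h4.symm
  have hcint : IsIntegral ℤ (∏ k ∈ range (p - 1), W k) := IsIntegral.prod _ (fun k _ => hWint k)
  have hpne : (p : ℂ) ≠ 0 := Nat.cast_ne_zero.mpr hp.ne_zero
  have hc : ∏ k ∈ range (p - 1), W k = (((n : ℚ) ^ (p - 1) / (p : ℚ) : ℚ) : ℂ) := by
    push_cast
    rw [hprod]
    field_simp
  rw [hc] at hcint
  obtain ⟨y, hy⟩ := rat_int_of_isIntegral _ hcint
  have hpneq : (p : ℚ) ≠ 0 := Nat.cast_ne_zero.mpr hp.ne_zero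
  have h7 : (n : ℚ) ^ (p - 1) = (p : ℚ) * y := by
    rw [hy]; field_simp
  have h8 : n ^ (p - 1) = (p : ℤ) * y := by
    have : ((n ^ (p - 1) : ℤ) : ℚ) = (((p : ℤ) * y : ℤ) : ℚ) := by
      push_cast; exact h7
    exact_mod_cast this
  exact Int.Prime.dvd_pow' hp (Dvd.intro _ h8.symm)

end Cfsg.Agent.S1495
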