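import Cfsg.Statements.S1497

set_option autoImplicit false
open Cfsg

namespace Cfsg.Agent.S1497

/-- Let A be a nonempty subset of the finite group G not containing 1 and L a subgroup. Then A is a TI-subset whose normaliser is L if and only if the Dade hypothesis holds for A, L and the constant choice H(a) = ⊥. -/
theorem result {G : Type*} [Group G] [Finite G] (A : Set G) (hA : A.Nonempty) (h1 : (1 : G) ∉ A) (L : Subgroup G) : (Cfsg.IsTISubset A ∧ Subgroup.normalizer A = L) ↔ Cfsg.DadeHypothesis A L (fun _ => ⊥) := by
  constructor
  · rintro ⟨hTI, hN⟩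
    -- any g conjugating some element of A into A lies in L
    have key : ∀ g : G, ∀ a ∈ A, g * a * g⁻¹ ∈ A → g ∈ L := by
      intro g a ha hga
      by_contra hg
      rw [← hN] at hg
      have := hTI g hg a ha hga
      rw [this] at ha
      exact h1 ha
    have hcent : ∀ a ∈ A, Subgroup.centralizer ({a} : Set G) ≤ L := by
      intro a ha c hc
      rw [Subgroup.mem_centralizer_iff] at hc
      apply key c a ha
      have : c * a * c⁻¹ = a := by
        rw [← hc a rfl]; group
      rw [this]; exact ha
    refine ⟨h1, ?_, ?_, ?_, ?_, ?_, ?_, ?_, ?_⟩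
    · intro a ha
      apply key a a ha
      have : a * a * a⁻¹ = a := by group
      rw [this]; exact ha
    · intro x hx a ha
      rw [← hN, Subgroup.mem_set_normalizer_iff] at hx
      exact (hx a).mp ha
    · intro a ha g hga
      exact ⟨g, key g a ha hga, rfl⟩
    · intro a _; exact bot_le
    · intro a _ c _ u hu
      rw [Subgroup.mem_bot] at hu
      rw [hu, Subgroup.mem_bot]; group
    · intro a _; exact bot_inf_eq _
    · intro a ha
      rw [bot_sup_eq]
      exact inf_eq_right.mpr (hcent a ha)
    · intro a _ b _
      simp
  · intro hD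
    have hcent : ∀ a ∈ A, Subgroup.centralizer ({a} : Set G) ≤ L := by
      intro a ha
      have := hD.sup_eq a ha
      rw [bot_sup_eq] at this
      rw [← this]; exact inf_le_left
    have key : ∀ g : G, ∀ a ∈ A, g * a * g⁻¹ ∈ A → g ∈ L := by
      intro g a ha hga
      obtain ⟨x, hx, hxa⟩ := hD.fusion a ha g hga
      have hc : x⁻¹ * g ∈ Subgroup.centralizer ({a} : Set G) := by
        rw [Subgroup.mem_centralizer_iff]
        intro h hh
        rw [Set.mem_singleton_iff.mp hh]
        have e : g * a = x * a * x⁻¹ * g := by rw [hxa]; group
        calc a * (x⁻¹ * g) = x⁻¹ * (x * a * x⁻¹ * g) := by group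
          _ = x⁻¹ * (g * a) := by rw [e]
          _ = x⁻¹ * g * a := by group
      have := L.mul_mem hx (hcent a ha hc)
      simpa using this
    have hN : Subgroup.normalizer A = L := by
      ext g
      constructor
      · intro hg
        obtain ⟨a, ha⟩ := hA
        rw [Subgroup.mem_set_normalizer_iff] at hg
        exact key g a ha ((hg a).mp ha)
      · intro hg
        rw [Subgroup.mem_set_normalizer_iff]
        intro n
        constructor
        · intro hn; exact hD.conj_mem g hg n hn
        · intro hn
          have := hD.conj_mem g⁻¹ (L.inv_mem hg) _ hn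
          have e : g⁻¹ * (g * n * g⁻¹) * g⁻¹⁻¹ = n := by group
          rw [e] at this; exact this
    refine ⟨?_, hN⟩
    intro g hg x hx hgx
    rw [hN] at hg
    exact absurd (key g x hx hgx) hg

end Cfsg.Agent.S1497
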