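import Cfsg.Statements.S1498

set_option autoImplicit false
open Cfsg

namespace Cfsg.Agent.S1498

/-- An element of order coprime to a supplement of a normal subgroup lies in the normal subgroup. -/
theorem mem_of_coprime {C : Type*} [Group C] [Finite C] (N M : Subgroup C) [N.Normal]
    (hsup : N ⊔ M = ⊤) (k : C) (hk : (orderOf k).Coprime (Nat.card M)) : k ∈ N := by
  have h1 : orderOf (QuotientGroup.mk' N k) ∣ orderOf k := orderOf_map_dvd _ k
  have h2 : orderOf (QuotientGroup.mk' N k) ∣ Nat.card M := by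
    have h3 : orderOf (QuotientGroup.mk' N k) ∣ Nat.card (C ⧸ N) := orderOf_dvd_natCard _
    rw [← Subgroup.index_eq_card, ← Subgroup.relIndex_top_right, ← hsup, Subgroup.relIndex_sup_left] at h3
    exact h3.trans (Subgroup.relIndex_dvd_card N M)
  have h4 : orderOf (QuotientGroup.mk' N k) = 1 := Nat.eq_one_of_dvd_coprimes hk h1 h2
  rw [orderOf_eq_one_iff] at h4
  exact (QuotientGroup.eq_one_iff k).mp h4

theorem claim {G : Type*} [Group G] [Finite G] (A : Set G) (L : Subgroup G) (H : G → Subgroup G)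
    (hD : Cfsg.DadeHypothesis A L H) (a : G) (ha : a ∈ A) (x : G) (hx : x ∈ L) :
    (H a).map (MulAut.conj x).toMonoidHom ≤ H (x * a * x⁻¹) := by
  have ha' : x * a * x⁻¹ ∈ A := hD.conj_mem x hx a ha
  set a' := x * a * x⁻¹ with ha'def
  rintro k ⟨u, hu, rfl⟩
  -- k = x u x⁻¹
  have hua : a * u = u * a := by
    have := hD.le_centralizer a ha hu
    rw [Subgroup.mem_centralizer_iff] at this
    exact this a rfl
  have hkC : (MulAut.conj x).toMonoidHom u ∈ Subgroup.centralizer ({a'} : Set G) := by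
    rw [Subgroup.mem_centralizer_iff]
    intro h hh
    rw [Set.mem_singleton_iff.mp hh]
    simp only [MulEquiv.toMonoidHom_eq_coe, MonoidHom.coe_coe, MulAut.conj_apply, ha'def]
    calc x * a * x⁻¹ * (x * u * x⁻¹) = x * (a * u) * x⁻¹ := by group
      _ = x * (u * a) * x⁻¹ := by rw [hua]
      _ = x * u * x⁻¹ * (x * a * x⁻¹) := by group
  -- work inside the centralizer
  let C := Subgroup.centralizer ({a'} : Set G)
  let N : Subgroup C := (H a').subgroupOf C
  let M : Subgroup C := (L ⊓ C).subgroupOf C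
  have : N.Normal := by
    constructor
    intro n hn g
    rw [Subgroup.mem_subgroupOf] at hn ⊢
    have := hD.conj_mem_H a' ha' (g : G) g.2 (n : G) hn
    simpa using this
  have hsup : N ⊔ M = ⊤ := by
    have h1 : H a' ≤ C := hD.le_centralizer a' ha'
    have h2 : L ⊓ C ≤ C := inf_le_right
    change (H a').subgroupOf C ⊔ (L ⊓ C).subgroupOf C = ⊤
    rw [← Subgroup.subgroupOf_sup h1 h2]
    have := hD.sup_eq a' ha'
    change H a' ⊔ (L ⊓ C) = C at this
    rw [this]
    exact Subgroup.subgroupOf_self C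
  have hord : (orderOf (⟨_, hkC⟩ : C)).Coprime (Nat.card M) := by
    have e1 : orderOf (⟨_, hkC⟩ : C) = orderOf u := by
      rw [Subgroup.orderOf_mk]
      exact orderOf_injective (MulAut.conj x).toMonoidHom (MulAut.conj x).injective u
    have e2 : Nat.card M = Nat.card ↥(L ⊓ C) :=
      Nat.card_congr (Subgroup.subgroupOfEquivOfLe (inf_le_right : L ⊓ C ≤ C)).toEquiv
    rw [e1, e2]
    have := hD.coprime a ha a' ha'
    exact this.coprime_dvd_left (Subgroup.orderOf_dvd_natCard (H a) hu)
  have := mem_of_coprime N M hsup ⟨_, hkC⟩ hord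
  exact Subgroup.mem_subgroupOf.mp this

/-- Under the Dade hypothesis for (A, L, H): for a ∈ A and x ∈ L, the subgroup attached to x * a * x⁻¹ is the conjugate of H a by x. -/
theorem result {G : Type*} [Group G] [Finite G] (A : Set G) (L : Subgroup G) (H : G → Subgroup G) (hD : Cfsg.DadeHypothesis A L H) (a : G) (ha : a ∈ A) (x : G) (hx : x ∈ L) : H (x * a * x⁻¹) = (H a).map (MulAut.conj x).toMonoidHom := by
  apply le_antisymm
  · have ha' : x * a * x⁻¹ ∈ A := hD.conj_mem x hx a ha
    have h := claim A L H hD (x * a * x⁻¹) ha' x⁻¹ (L.inv_mem hx)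
    have e : x⁻¹ * (x * a * x⁻¹) * x⁻¹⁻¹ = a := by group
    rw [e] at h
    intro k hk
    refine ⟨x⁻¹ * k * x, ?_, ?_⟩
    · apply h
      refine ⟨k, hk, ?_⟩
      simp
    · simp only [MulEquiv.toMonoidHom_eq_coe, MonoidHom.coe_coe, MulAut.conj_apply]
      group
  · exact claim A L H hD a ha x hx

end Cfsg.Agent.S1498
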