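import Mathlib
import Cfsg.Statements.S1503
import Cfsg.Agent.Lib.H8.CyclicTI
import Cfsg.Agent.Lib.H24.CharOrth

set_option autoImplicit false
open Cfsg

namespace Cfsg.Agent.S1503

open scoped ComplexConjugate
open Cfsg.Agent.Lib.H8 Cfsg.Agent.Lib.L0 Cfsg.Agent.Lib.H24

/-- Let W₁, W₂ ≤ G with W = W₁ ⊔ W₂ and let χ an orthonormal family of irreducible characters of G up to sign, indexed by the linear characters ω of W, with χ_1 = 1, χ_ω = ω on W outside W₁ ∪ W₂, and the induction identity for (1 − φ)(1 − ψ). If θ is an irreducible character of G orthogonal to χ ω for every linear character ω of W, then θ vanishes at every element of W lying outside W₁ ∪ W₂. -/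
theorem result {G : Type*} [Group G] [Fintype G] (W₁ W₂ : Subgroup G) (hW : Cfsg.IsSelfNormalizingCyclic W₁ W₂) (χ : (↥(W₁ ⊔ W₂) →* ℂˣ) → (G → ℂ)) (hχ : Cfsg.IsCyclicTIFamily W₁ W₂ χ) (θ : G → ℂ) (hθ : Cfsg.IsIrrCharacter G θ) (horth : ∀ ω, Cfsg.classInner θ (χ ω) = 0) (w : ↥(W₁ ⊔ W₂)) (hw₁ : (w : G) ∉ W₁) (hw₂ : (w : G) ∉ W₂) : θ w = 0 := by
  classical
  haveI : Fintype (IrrCharacter G) := Fintype.ofFinite _
  haveI : IsCyclic ↥(W₁ ⊔ W₂) := hW.2.2.2.2.1
  haveI : Fintype (↥(W₁ ⊔ W₂) →* ℂˣ) := Fintype.ofFinite _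
  -- second orthogonality at `w`
  have h2 := second_orthogonality (w : G) (w : G)
  rw [if_pos (IsConj.refl _), centralizer_eq_of_selfNormalizingCyclic hW w.2 hw₁ hw₂] at h2
  have hreal : ∑ ψ : IrrCharacter G, ‖(ψ : G → ℂ) w‖ ^ 2 = (Nat.card ↥(W₁ ⊔ W₂) : ℝ) := by
    have : ∀ ψ : IrrCharacter G, (ψ : G → ℂ) w * conj ((ψ : G → ℂ) w)
        = ((‖(ψ : G → ℂ) w‖ ^ 2 : ℝ) : ℂ) := by
      intro ψ
      rw [Complex.mul_conj, Complex.normSq_eq_norm_sq]
    simp only [this] at h2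
    rw [← Complex.ofReal_sum] at h2
    exact_mod_cast h2
  -- the injection from linear characters of `W` to `Irr G`
  have hj : ∀ ω, ∃ ψ : IrrCharacter G, (ψ : G → ℂ) = χ ω ∨ (ψ : G → ℂ) = -χ ω := by
    intro ω
    rcases hχ.irr_or_neg ω with h | h
    · exact ⟨⟨_, h⟩, Or.inl rfl⟩
    · exact ⟨⟨_, h⟩, Or.inr rfl⟩
  choose j hj using hj
  have hself : ∀ ω, Cfsg.classInner (χ ω) (χ ω) = 1 := by
    intro ω
    rw [hχ.orthonormal, if_pos rfl]
  have hjinj : Function.Injective j := by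
    intro ω ω' heq
    by_contra hne
    have e1 : Cfsg.classInner (j ω : G → ℂ) (j ω' : G → ℂ) = 1 := by
      rw [← heq]; exact irr_classInner_self (j ω).2
    have e0 : Cfsg.classInner (χ ω) (χ ω') = 0 := by rw [hχ.orthonormal, if_neg hne]
    rcases hj ω with h | h <;> rcases hj ω' with h' | h' <;> rw [h, h'] at e1 <;>
      simp [classInner_neg_left, classInner_neg_right, e0] at e1
  have hjw : ∀ ω, ‖(j ω : G → ℂ) w‖ ^ 2 = 1 := by
    intro ω
    have h1 : ‖((ω w : ℂˣ) : ℂ)‖ = 1 := by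
      apply Complex.norm_eq_one_of_pow_eq_one (n := orderOf w)
      · rw [← Units.val_pow_eq_pow_val, ← map_pow, pow_orderOf_eq_one, map_one, Units.val_one]
      · exact (orderOf_pos w).ne'
    have h3 := hχ.eq_on ω w hw₁ hw₂
    rcases hj ω with h | h
    · rw [h, h3, h1]; norm_num
    · rw [h, Pi.neg_apply, norm_neg, h3, h1]; norm_num
  have hθj : (⟨θ, hθ⟩ : IrrCharacter G) ∉ Finset.univ.image j := by
    intro hmem
    obtain ⟨ω, -, hω⟩ := Finset.mem_image.mp hmem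
    have h0 := horth ω
    have hv : (j ω : G → ℂ) = θ := congrArg Subtype.val hω
    rcases hj ω with h | h
    · rw [← hv, h, hself] at h0
      exact one_ne_zero h0
    · have : θ = -χ ω := by rw [← hv, h]
      rw [this, classInner_neg_left, hself] at h0
      norm_num at h0
  have hle : ∑ ψ ∈ insert (⟨θ, hθ⟩ : IrrCharacter G) (Finset.univ.image j), ‖(ψ : G → ℂ) w‖ ^ 2
      ≤ ∑ ψ : IrrCharacter G, ‖(ψ : G → ℂ) w‖ ^ 2 :=
    Finset.sum_le_sum_of_subset_of_nonneg (Finset.subset_univ _) (fun _ _ _ => by positivity)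
  rw [Finset.sum_insert hθj, Finset.sum_image (fun a _ b _ h => hjinj h), hreal] at hle
  simp only [hjw, Finset.sum_const, Finset.card_univ, nsmul_eq_mul, mul_one] at hle
  rw [Fintype.card_eq_nat_card, card_monoidHom_units_of_isCyclic] at hle
  have h0 : ‖θ w‖ ^ 2 ≤ 0 := by linarith
  have h1 : ‖θ w‖ = 0 := by
    have := sq_nonneg ‖θ w‖
    exact pow_eq_zero_iff (two_ne_zero) |>.mp (le_antisymm h0 this)
  exact norm_eq_zero.mp h1

end Cfsg.Agent.S1503
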