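import Mathlib
import Cfsg.Statements.S1504

set_option autoImplicit false
open Cfsg

namespace Cfsg.Agent.S1504

theorem hom_ext_sup {G M : Type*} [Group G] [Monoid M] (W₁ W₂ : Subgroup G)
    (f g : ↥(W₁ ⊔ W₂) →* M)
    (h1 : ∀ w : ↥(W₁ ⊔ W₂), (w : G) ∈ W₁ → f w = g w)
    (h2 : ∀ w : ↥(W₁ ⊔ W₂), (w : G) ∈ W₂ → f w = g w) : f = g := by
  have : (⊤ : Subgroup ↥(W₁ ⊔ W₂)) ≤ f.eqLocus g := by
    rw [← Subgroup.subgroupOf_self (W₁ ⊔ W₂), Subgroup.subgroupOf_sup le_sup_left le_sup_right,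
      sup_le_iff]
    constructor
    · intro w hw; exact h1 w (Subgroup.mem_subgroupOf.mp hw)
    · intro w hw; exact h2 w (Subgroup.mem_subgroupOf.mp hw)
  ext w; exact this (Subgroup.mem_top w)

/-- Linear characters with values in units, as monoid homs into `ℂ`. -/
def toC {W : Type*} [Group W] (φ : W →* ℂˣ) : W →* ℂ := (Units.coeHom ℂ).comp φ

theorem toC_apply {W : Type*} [Group W] (φ : W →* ℂˣ) (w : W) : toC φ w = (φ w : ℂ) := rfl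

theorem toC_injective {W : Type*} [Group W] : Function.Injective (toC : (W →* ℂˣ) → (W →* ℂ)) := by
  intro φ ψ h
  ext w
  have := DFunLike.congr_fun h w
  simpa [toC_apply] using this

theorem linInd {G : Type*} [Group G] (W₁ W₂ : Subgroup G) :
    LinearIndependent ℂ (fun p : {p : (↥(W₁ ⊔ W₂) →* ℂˣ) × (↥(W₁ ⊔ W₂) →* ℂˣ) // p.1 ≠ 1 ∧ p.2 ≠ 1 ∧ (∀ w : ↥(W₁ ⊔ W₂), (w : G) ∈ W₂ → p.1 w = 1) ∧ (∀ w : ↥(W₁ ⊔ W₂), (w : G) ∈ W₁ → p.2 w = 1)} => fun w : ↥(W₁ ⊔ W₂) => 1 - (p.1.1 w : ℂ) - (p.1.2 w : ℂ) + (p.1.1 w : ℂ) * (p.1.2 w : ℂ)) := by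
  classical
  set e : (↥(W₁ ⊔ W₂) →* ℂ) → (↥(W₁ ⊔ W₂) → ℂ) := fun f => ⇑f with he
  have hli : LinearIndependent ℂ e := linearIndependent_monoidHom _ ℂ
  set S : Set (↥(W₁ ⊔ W₂) →* ℂ) :=
    {f | (∀ w : ↥(W₁ ⊔ W₂), (w : G) ∈ W₁ → f w = 1) ∨ (∀ w : ↥(W₁ ⊔ W₂), (w : G) ∈ W₂ → f w = 1)}
    with hS
  set U : Submodule ℂ (↥(W₁ ⊔ W₂) → ℂ) := Submodule.span ℂ (e '' S) with hU
  -- the index map
  have ha : ∀ p : {p : (↥(W₁ ⊔ W₂) →* ℂˣ) × (↥(W₁ ⊔ W₂) →* ℂˣ) // p.1 ≠ 1 ∧ p.2 ≠ 1 ∧ (∀ w : ↥(W₁ ⊔ W₂), (w : G) ∈ W₂ → p.1 w = 1) ∧ (∀ w : ↥(W₁ ⊔ W₂), (w : G) ∈ W₁ → p.2 w = 1)},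
      toC (p.1.1 * p.1.2) ∈ Sᶜ := by
    rintro ⟨⟨φ, ψ⟩, hφ, hψ, hφ₂, hψ₁⟩
    simp only [Set.mem_compl_iff, hS, Set.mem_ofPred_eq, toC_apply, MonoidHom.mul_apply,
      Units.val_mul, not_or]
    constructor
    · intro h
      apply hφ
      apply hom_ext_sup W₁ W₂
      · intro w hw
        have h1 := h w hw
        have h2 : ψ w = 1 := hψ₁ w hw
        rw [h2, Units.val_one, mul_one] at h1
        rw [MonoidHom.one_apply]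
        exact Units.ext h1
      · intro w hw
        rw [MonoidHom.one_apply]
        exact hφ₂ w hw
    · intro h
      apply hψ
      apply hom_ext_sup W₁ W₂
      · intro w hw
        rw [MonoidHom.one_apply]
        exact hψ₁ w hw
      · intro w hw
        have h1 := h w hw
        have h2 : φ w = 1 := hφ₂ w hw
        rw [h2, Units.val_one, one_mul] at h1
        rw [MonoidHom.one_apply]
        exact Units.ext h1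
  set i' : {p : (↥(W₁ ⊔ W₂) →* ℂˣ) × (↥(W₁ ⊔ W₂) →* ℂˣ) // p.1 ≠ 1 ∧ p.2 ≠ 1 ∧ (∀ w : ↥(W₁ ⊔ W₂), (w : G) ∈ W₂ → p.1 w = 1) ∧ (∀ w : ↥(W₁ ⊔ W₂), (w : G) ∈ W₁ → p.2 w = 1)} → (Sᶜ : Set _) :=
    fun p => ⟨toC (p.1.1 * p.1.2), ha p⟩ with hi'
  have hinj : Function.Injective i' := by
    rintro ⟨⟨φ, ψ⟩, hφ, hψ, hφ₂, hψ₁⟩ ⟨⟨φ', ψ'⟩, hφ', hψ', hφ₂', hψ₁'⟩ h
    have h0 : φ * ψ = φ' * ψ' := toC_injective (congrArg Subtype.val h)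
    have e1 : φ = φ' := by
      apply hom_ext_sup W₁ W₂
      · intro w hw
        have := DFunLike.congr_fun h0 w
        simp only [MonoidHom.mul_apply] at this
        rw [show ψ w = 1 from hψ₁ w hw, show ψ' w = 1 from hψ₁' w hw, mul_one, mul_one] at this
        exact this
      · intro w hw
        rw [show φ w = 1 from hφ₂ w hw, show φ' w = 1 from hφ₂' w hw]
    have e2 : ψ = ψ' := by
      apply hom_ext_sup W₁ W₂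
      · intro w hw
        rw [show ψ w = 1 from hψ₁ w hw, show ψ' w = 1 from hψ₁' w hw]
      · intro w hw
        have := DFunLike.congr_fun h0 w
        simp only [MonoidHom.mul_apply] at this
        rw [show φ w = 1 from hφ₂ w hw, show φ' w = 1 from hφ₂' w hw, one_mul, one_mul] at this
        exact this
    subst e1 e2
    rfl
  -- independence modulo `U`
  have hdisj : Disjoint (Submodule.span ℂ (Set.range (e ∘ (Subtype.val : (Sᶜ : Set _) → _))))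
      (LinearMap.ker U.mkQ) := by
    rw [Submodule.ker_mkQ, Set.range_comp, Subtype.range_val]
    exact hli.disjoint_span_image disjoint_compl_left
  have h1 : LinearIndependent ℂ (U.mkQ ∘ (e ∘ (Subtype.val : (Sᶜ : Set _) → _))) :=
    (hli.comp _ Subtype.val_injective).map hdisj
  have h2 := h1.comp i' hinj
  have hfun : (U.mkQ ∘ (fun p : {p : (↥(W₁ ⊔ W₂) →* ℂˣ) × (↥(W₁ ⊔ W₂) →* ℂˣ) // p.1 ≠ 1 ∧ p.2 ≠ 1 ∧ (∀ w : ↥(W₁ ⊔ W₂), (w : G) ∈ W₂ → p.1 w = 1) ∧ (∀ w : ↥(W₁ ⊔ W₂), (w : G) ∈ W₁ → p.2 w = 1)} => fun w : ↥(W₁ ⊔ W₂) => 1 - (p.1.1 w : ℂ) - (p.1.2 w : ℂ) + (p.1.1 w : ℂ) * (p.1.2 w : ℂ)))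
      = ((U.mkQ ∘ (e ∘ (Subtype.val : (Sᶜ : Set _) → _))) ∘ i') := by
    funext p
    obtain ⟨⟨φ, ψ⟩, hφ, hψ, hφ₂, hψ₁⟩ := p
    simp only [Function.comp_apply, hi', Submodule.mkQ_apply]
    rw [Submodule.Quotient.eq]
    have m1 : e 1 ∈ U := Submodule.subset_span ⟨1, Or.inl (fun w _ => rfl), rfl⟩
    have m2 : e (toC φ) ∈ U := Submodule.subset_span ⟨toC φ, Or.inr (fun w hw => by
      rw [toC_apply, show φ w = 1 from hφ₂ w hw, Units.val_one]), rfl⟩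
    have m3 : e (toC ψ) ∈ U := Submodule.subset_span ⟨toC ψ, Or.inl (fun w hw => by
      rw [toC_apply, show ψ w = 1 from hψ₁ w hw, Units.val_one]), rfl⟩
    have : (fun w : ↥(W₁ ⊔ W₂) => 1 - (φ w : ℂ) - (ψ w : ℂ) + (φ w : ℂ) * (ψ w : ℂ)) - e (toC (φ * ψ))
        = e 1 - e (toC φ) - e (toC ψ) := by
      funext w
      simp [he, toC_apply]
    rw [this]
    exact U.sub_mem (U.sub_mem m1 m2) m3
  refine LinearIndependent.of_comp U.mkQ ?_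
  rw [hfun]
  exact h2

/-- Let W₁, W₂ be subgroups of a finite group with W₁ ⊓ W₂ = ⊥ whose elements commute, and W = W₁ ⊔ W₂. For linear characters φ, ψ of W with φ trivial on W₂ and ψ trivial on W₁, the function (1 − φ)(1 − ψ) vanishes on W₁ ∪ W₂; and the family of these functions, indexed by pairs (φ, ψ) with φ ≠ 1 ≠ ψ, is linearly independent over ℂ. -/
theorem result {G : Type*} [Group G] [Finite G] (W₁ W₂ : Subgroup G) (hdisj : W₁ ⊓ W₂ = ⊥) (hcomm : ∀ a ∈ W₁, ∀ b ∈ W₂, a * b = b * a) : (∀ φ ψ : ↥(W₁ ⊔ W₂) →* ℂˣ, (∀ w : ↥(W₁ ⊔ W₂), (w : G) ∈ W₂ → φ w = 1) → (∀ w : ↥(W₁ ⊔ W₂), (w : G) ∈ W₁ → ψ w = 1) → ∀ w : ↥(W₁ ⊔ W₂), ((w : G) ∈ W₁ ∨ (w : G) ∈ W₂) → (1 - (φ w : ℂ) - (ψ w : ℂ) + (φ w : ℂ) * (ψ w : ℂ)) = 0) ∧ LinearIndependent ℂ (fun p : {p : (↥(W₁ ⊔ W₂) →* ℂˣ) × (↥(W₁ ⊔ W₂) →* ℂˣ) // p.1 ≠ 1 ∧ p.2 ≠ 1 ∧ (∀ w : ↥(W₁ ⊔ W₂), (w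 : G) ∈ W₂ → p.1 w = 1) ∧ (∀ w : ↥(W₁ ⊔ W₂), (w : G) ∈ W₁ → p.2 w = 1)} => fun w : ↥(W₁ ⊔ W₂) => 1 - (p.1.1 w : ℂ) - (p.1.2 w : ℂ) + (p.1.1 w : ℂ) * (p.1.2 w : ℂ)) := by
  refine ⟨?_, linInd W₁ W₂⟩
  intro φ ψ hφ hψ w hw
  rcases hw with hw | hw
  · rw [hψ w hw]; simp
  · rw [hφ w hw]; simp

end Cfsg.Agent.S1504
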