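import Mathlib
import Cfsg.Statements.S1507
import Cfsg.Agent.Lib.H8.CyclicTIChars
import Cfsg.Agent.Lib.H8.GridComb
import Cfsg.Agent.S1506

set_option autoImplicit false
open Cfsg

namespace Cfsg.Agent.S1507

open Cfsg.Agent.Lib.H8

open Classical in
/-- Let W₁, W₂ ≤ G form a self-normalising cyclic subgroup W = W₁ ⊔ W₂ of odd order with Nat.card W₁ < Nat.card W₂, and χ an orthonormal family of irreducible characters of G up to sign, indexed by the linear characters ω of W, with χ_1 = 1, χ_ω = ω on W outside W₁ ∪ W₂, and the induction identity for (1 − φ)(1 − ψ). Let θ be a class function of G vanishing on W outside W₁ ∪ W₂, and suppose fewer than 2 · Nat.card W₁ linear characters ω of W have ⟨θ, χ ω⟩ ≠ 0. Then one of: all ⟨θ, χ ω⟩ vanish; or there are ψ₀ and a with ⟨θ, χ ω⟩ = a when ω ψ₀⁻¹ is trivial on W₂ and 0 otherwise; or there are φ₀ and a with ⟨θ, χ ω⟩ = a when ω φ₀⁻¹ is trivial on W₁ and 0 otherwise. -/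
theorem result {G : Type*} [Group G] [Fintype G] (W₁ W₂ : Subgroup G) (hW : Cfsg.IsSelfNormalizingCyclic W₁ W₂) (hodd : Odd (Nat.card ↥(W₁ ⊔ W₂))) (χ : (↥(W₁ ⊔ W₂) →* ℂˣ) → (G → ℂ)) (hχ : Cfsg.IsCyclicTIFamily W₁ W₂ χ) (hlt : Nat.card W₁ < Nat.card W₂) (θ : G → ℂ) (hθ : Cfsg.IsClassFunction G θ) (hθV : ∀ w : ↥(W₁ ⊔ W₂), (w : G) ∉ W₁ → (w : G) ∉ W₂ → θ w = 0) (hfew : Nat.card {ω : ↥(W₁ ⊔ W₂) →* ℂˣ // Cfsg.classInner θ (χ ω) ≠ 0} < 2 * Nat.card W₁) : (∀ ω, Cfsg.classInner θ (χ ω) = 0) ∨ (∃ (ψ₀ : ↥(W₁ ⊔ W₂) →* ℂˣ) (a : ℂ), ∀ ω, Cfsg.classInner θ (χ ω) = if (∀ w : ↥(W₁ ⊔ W₂), (w : G) ∈ W₂ → (ω * ψ₀⁻¹) w = 1) then a else 0) ∨ (∃ (φ₀ : ↥(W₁ ⊔ W₂) →* ℂˣ) (a : ℂ), ∀ ω, Cfsg.classInner θ (χ ω) = if (∀ w : ↥(W₁ ⊔ W₂), (w : G) ∈ W₁ → (ω * φ₀⁻¹) w = 1) then a else 0) := by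
  classical
  set a : (↥(W₁ ⊔ W₂) →* ℂˣ) → ℂ := fun ω => Cfsg.classInner θ (χ ω) with ha
  have hcop := coprime_card_of_selfNormalizingCyclic hW
  haveI := hW.2.2.2.2.1
  haveI : Finite (↥(W₁ ⊔ W₂) →* ℂˣ) := by
    apply Nat.finite_of_card_ne_zero
    rw [card_monoidHom_units_of_isCyclic]
    exact Nat.card_pos.ne'
  haveI : Fintype (↥(W₁ ⊔ W₂) →* ℂˣ) := Fintype.ofFinite _
  -- the two factors of the dual group
  set I : Set (↥(W₁ ⊔ W₂) →* ℂˣ) := {φ | ∀ w : ↥(W₁ ⊔ W₂), (w : G) ∈ W₂ → φ w = 1} with hI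
  set J : Set (↥(W₁ ⊔ W₂) →* ℂˣ) := {ψ | ∀ w : ↥(W₁ ⊔ W₂), (w : G) ∈ W₁ → ψ w = 1} with hJ
  have hImem : ∀ i : I, ∀ w : ↥(W₁ ⊔ W₂), (w : G) ∈ W₂ → i.1 w = 1 := fun i => i.2
  have hJmem : ∀ j : J, ∀ w : ↥(W₁ ⊔ W₂), (w : G) ∈ W₁ → j.1 w = 1 := fun j => j.2
  haveI : Fintype I := Fintype.ofFinite _
  haveI : Fintype J := Fintype.ofFinite _
  set e : I × J → (↥(W₁ ⊔ W₂) →* ℂˣ) := fun p => p.1.1 * p.2.1 with he
  have he_inj : Function.Injective e := by
    rintro ⟨i, j⟩ ⟨i', j'⟩ h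
    simp only [he] at h
    have h1 : i.1 = i'.1 := by
      apply monoidHom_ext_sup W₁ W₂
      · intro w hw
        have := congrArg (fun f : ↥(W₁ ⊔ W₂) →* ℂˣ => f w) h
        simp only [MonoidHom.mul_apply, hJmem j w hw, hJmem j' w hw, mul_one] at this
        exact this
      · intro w hw
        rw [hImem i w hw, hImem i' w hw]
    have h2 : j.1 = j'.1 := by
      apply monoidHom_ext_sup W₁ W₂
      · intro w hw
        rw [hJmem j w hw, hJmem j' w hw]
      · intro w hw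
        have := congrArg (fun f : ↥(W₁ ⊔ W₂) →* ℂˣ => f w) h
        simp only [MonoidHom.mul_apply, hImem i w hw, hImem i' w hw, one_mul] at this
        exact this
    rw [Prod.mk.injEq]
    exact ⟨Subtype.ext h1, Subtype.ext h2⟩
  have he_surj : Function.Surjective e := by
    intro ω
    obtain ⟨φ, ψ, hφ, hψ, rfl⟩ := exists_decomp_hom hW ω
    exact ⟨(⟨φ, hφ⟩, ⟨ψ, hψ⟩), rfl⟩
  have hkey : ∀ p : I × J, a (e p) = (a p.1.1 - a 1) + a p.2.1 := by
    intro p
    have := Cfsg.Agent.S1506.key W₁ W₂ χ hχ θ hθ hθV p.1.1 p.2.1 (hImem p.1) (hJmem p.2)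
    simp only [ha, he]
    rw [this]; ring
  -- cardinalities
  have hIcard : Nat.card W₁ ≤ Fintype.card I := by
    obtain ⟨Λ, hΛ1, hΛ2⟩ := exists_finset_trivial_on hW W₂ W₁ le_sup_right le_sup_left hcop
    refine hΛ2.trans ?_
    rw [← Finset.card_univ (α := I)]
    refine Finset.card_le_card_of_injOn (fun f => if h : f ∈ I then ⟨f, h⟩ else ⟨1, by
      intro w _; rfl⟩) (fun f _ => Finset.mem_univ _) ?_
    intro f hf f' hf' h
    have hfI : f ∈ I := hΛ1 f hf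
    have hf'I : f' ∈ I := hΛ1 f' hf'
    simp only [dif_pos hfI, dif_pos hf'I] at h
    exact congrArg Subtype.val h
  have hJcard : Nat.card W₂ ≤ Fintype.card J := by
    obtain ⟨Λ, hΛ1, hΛ2⟩ := exists_finset_trivial_on hW W₁ W₂ le_sup_left le_sup_right hcop.symm
    refine hΛ2.trans ?_
    rw [← Finset.card_univ (α := J)]
    refine Finset.card_le_card_of_injOn (fun f => if h : f ∈ J then ⟨f, h⟩ else ⟨1, by
      intro w _; rfl⟩) (fun f _ => Finset.mem_univ _) ?_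
    intro f hf f' hf' h
    have hfJ : f ∈ J := hΛ1 f hf
    have hf'J : f' ∈ J := hΛ1 f' hf'
    simp only [dif_pos hfJ, dif_pos hf'J] at h
    exact congrArg Subtype.val h
  have h12 : Nat.card W₁ + 2 ≤ Nat.card W₂ := by
    have o1 : Odd (Nat.card W₁) := Odd.of_dvd_nat hodd (Subgroup.card_dvd_of_le le_sup_left)
    have o2 : Odd (Nat.card W₂) := Odd.of_dvd_nat hodd (Subgroup.card_dvd_of_le le_sup_right)
    obtain ⟨k1, hk1⟩ := o1
    obtain ⟨k2, hk2⟩ := o2
    omega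
  have hcount : (Finset.univ.filter (fun p : I × J => (a p.1.1 - a 1) + a p.2.1 ≠ 0)).card =
      Nat.card {ω : ↥(W₁ ⊔ W₂) →* ℂˣ // a ω ≠ 0} := by
    rw [Nat.card_eq_fintype_card, ← Fintype.card_subtype]
    refine Fintype.card_congr (Equiv.subtypeEquiv (Equiv.ofBijective e ⟨he_inj, he_surj⟩) ?_)
    intro p
    show _ ↔ a (e p) ≠ 0
    rw [hkey p]
  have hfew' : (Finset.univ.filter (fun p : I × J => (a p.1.1 - a 1) + a p.2.1 ≠ 0)).card <
      2 * Nat.card W₁ := by rw [hcount]; exact hfew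
  rcases grid_few_nonzero (fun i : I => a i.1 - a 1) (fun j : J => a j.1) _ _ hIcard hJcard h12
    hfew' with h | ⟨j₀, c, h⟩ | ⟨i₀, c, h⟩
  · left
    intro ω
    obtain ⟨p, rfl⟩ := he_surj ω
    have := hkey p
    rw [h p.1 p.2] at this
    exact this
  · right; left
    refine ⟨j₀.1, c, fun ω => ?_⟩
    obtain ⟨⟨i, j⟩, rfl⟩ := he_surj ω
    have h1 := hkey (i, j)
    rw [h i j] at h1
    show a (e (i, j)) = _
    rw [h1]
    by_cases hj : j = j₀
    · rw [if_pos hj, if_pos]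
      intro w hw
      simp only [he]
      rw [hj, MonoidHom.mul_apply, MonoidHom.mul_apply, MonoidHom.inv_apply, hImem i w hw, one_mul,
        mul_inv_cancel]
    · rw [if_neg hj, if_neg]
      intro hcon
      apply hj
      apply Subtype.ext
      apply monoidHom_ext_sup W₁ W₂
      · intro w hw
        rw [hJmem j w hw, hJmem j₀ w hw]
      · intro w hw
        have := hcon w hw
        simp only [he] at this
        rw [MonoidHom.mul_apply, MonoidHom.mul_apply, MonoidHom.inv_apply, hImem i w hw, one_mul]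
          at this
        exact mul_inv_eq_one.mp this
  · right; right
    refine ⟨i₀.1, c, fun ω => ?_⟩
    obtain ⟨⟨i, j⟩, rfl⟩ := he_surj ω
    have h1 := hkey (i, j)
    rw [h i j] at h1
    show a (e (i, j)) = _
    rw [h1]
    by_cases hi : i = i₀
    · rw [if_pos hi, if_pos]
      intro w hw
      simp only [he]
      rw [hi, MonoidHom.mul_apply, MonoidHom.mul_apply, MonoidHom.inv_apply, hJmem j w hw, mul_one,
        mul_inv_cancel]
    · rw [if_neg hi, if_neg]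
      intro hcon
      apply hi
      apply Subtype.ext
      apply monoidHom_ext_sup W₁ W₂
      · intro w hw
        have := hcon w hw
        simp only [he] at this
        rw [MonoidHom.mul_apply, MonoidHom.mul_apply, MonoidHom.inv_apply, hJmem j w hw, mul_one]
          at this
        exact mul_inv_eq_one.mp this
      · intro w hw
        rw [hImem i w hw, hImem i₀ w hw]

end Cfsg.Agent.S1507
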