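import Mathlib
import Cfsg.Statements.S1508
import Cfsg.Agent.Lib.H8.CyclicTIGalois

set_option autoImplicit false
open Cfsg

namespace Cfsg.Agent.S1508

open Cfsg.Agent.Lib.H8

/-- Let W₁, W₂ ≤ G form a self-normalising cyclic subgroup W = W₁ ⊔ W₂ of odd order and χ an orthonormal family of irreducible characters of G up to sign, indexed by the linear characters ω of W, with χ_1 = 1, χ_ω = ω on W outside W₁ ∪ W₂, and the induction identity for (1 − φ)(1 − ψ). Let ω be a linear character of W and g an element of G whose order is coprime to the order of ω. Then χ ω g is an integer. -/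
theorem result {G : Type*} [Group G] [Fintype G] (W₁ W₂ : Subgroup G) (hW : Cfsg.IsSelfNormalizingCyclic W₁ W₂) (hodd : Odd (Nat.card ↥(W₁ ⊔ W₂))) (χ : (↥(W₁ ⊔ W₂) →* ℂˣ) → (G → ℂ)) (hχ : Cfsg.IsCyclicTIFamily W₁ W₂ χ) (ω : ↥(W₁ ⊔ W₂) →* ℂˣ) (g : G) (hg : Nat.Coprime (orderOf g) (orderOf ω)) : ∃ n : ℤ, χ ω g = n := by
  apply exists_int_of_forall_pow_eq (hχ.irr_or_neg ω) g
  intro m hm
  -- the order of ω divides |G|
  have hωpow : ω ^ Nat.card ↥(W₁ ⊔ W₂) = 1 := by
    apply MonoidHom.ext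
    intro w
    rw [MonoidHom.pow_apply, ← map_pow, pow_card_eq_one', map_one, MonoidHom.one_apply]
  have hωdvd : orderOf ω ∣ Nat.card G :=
    (orderOf_dvd_of_pow_eq_one hωpow).trans (Subgroup.card_subgroup_dvd_card _)
  have hgdvd : orderOf g ∣ Nat.card G := orderOf_dvd_natCard g
  have hMdvd : orderOf g * orderOf ω ∣ Nat.card G :=
    Nat.Coprime.mul_dvd_of_dvd_of_dvd hg hgdvd hωdvd
  obtain ⟨k₀, hk₀g, hk₀ω⟩ := Nat.chineseRemainder hg m 1
  have hk₀cop : k₀.Coprime (orderOf g * orderOf ω) := by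
    apply Nat.Coprime.mul_right
    · have := hk₀g.gcd_eq
      unfold Nat.Coprime
      rw [this]
      exact Nat.Coprime.coprime_dvd_right hgdvd hm
    · have := hk₀ω.gcd_eq
      unfold Nat.Coprime
      rw [this]
      exact Nat.gcd_one_left _
  obtain ⟨k, hkcop, hkk₀⟩ := exists_coprime_lift (Nat.card_pos (α := G)).ne' hMdvd hk₀cop
  have hkg : k ≡ m [MOD orderOf g] := (hkk₀.of_mul_right _).trans hk₀g
  have hkω : k ≡ 1 [MOD orderOf ω] := (hkk₀.of_mul_left _).trans hk₀ω
  have e1 : g ^ m = g ^ k := pow_eq_pow_iff_modEq.mpr hkg.symm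
  have e2 : ω ^ k = ω := by
    have h := hkω
    unfold Nat.ModEq at h
    rw [← pow_mod_orderOf ω k, h, pow_mod_orderOf, pow_one]
  rw [e1, galois_compat hW hodd hχ hkcop ω g, e2]

end Cfsg.Agent.S1508
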