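import Mathlib
import Cfsg.Statements.S1511
import Cfsg.Agent.Lib.H8.TypePChars
import Cfsg.Agent.Lib.H8.CyclicTI
import Cfsg.Agent.Lib.H24.CharOrth
import Cfsg.Agent.Lib.L0.CharIndChar
import Cfsg.Agent.Lib.L0.CharInd
import Cfsg.Agent.Lib.L0.FrobTIAbelian
import Cfsg.Agent.Lib.L0.CharOps
import Cfsg.Agent.S1505

set_option autoImplicit false
open Cfsg
open scoped ComplexConjugate

namespace Cfsg.Agent.S1511

open Cfsg.Agent.Lib.H8 Cfsg.Agent.Lib.L0 Cfsg.Agent.Lib.H24 Cfsg.Agent.S1505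

/-- agreement of two linear characters of `W₁ ⊔ W₂` on `W₂` -/
def Rel {L : Type*} [Group L] (W₁ W₂ : Subgroup L) (ω ω' : ↥(W₁ ⊔ W₂) →* ℂˣ) : Prop :=
  ∀ w : ↥(W₁ ⊔ W₂), (w : L) ∈ W₂ → ω w = ω' w

theorem Rel.refl {L : Type*} [Group L] {W₁ W₂ : Subgroup L} (ω : ↥(W₁ ⊔ W₂) →* ℂˣ) :
    Rel W₁ W₂ ω ω := fun _ _ => rfl

theorem Rel.symm {L : Type*} [Group L] {W₁ W₂ : Subgroup L} {ω ω' : ↥(W₁ ⊔ W₂) →* ℂˣ}
    (h : Rel W₁ W₂ ω ω') : Rel W₁ W₂ ω' ω := fun w hw => (h w hw).symm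

theorem Rel.trans {L : Type*} [Group L] {W₁ W₂ : Subgroup L} {ω ω' ω'' : ↥(W₁ ⊔ W₂) →* ℂˣ}
    (h : Rel W₁ W₂ ω ω') (h' : Rel W₁ W₂ ω' ω'') : Rel W₁ W₂ ω ω'' :=
  fun w hw => (h w hw).trans (h' w hw)

/-- the basic package: induction from `W` is the identity on functions vanishing on `W₂`, and the
centralizer of an element of `W ∖ W₂` is `W` -/
theorem basic {L : Type*} [Group L] [Fintype L] (K W₁ W₂ : Subgroup L) [hK : K.Normal] (hKW₁ : K ⊓ W₁ = ⊥) (hKW₁' : K ⊔ W₁ = ⊤) (hW₁ : W₁ ≠ ⊥) (hW₁c : IsCyclic W₁) (hHall : Nat.Coprime (Nat.card W₁) W₁.index) (hW₂ : W₂ ≠ ⊥) (hW₂c : IsCyclic W₂) (hW₂K : W₂ ≤ K) (hC : ∀ x ∈ W₁, x ≠ 1 → K ⊓ Subgroup.centralizer ({x} : Set L) = W₂) (hodd : Odd (Nat.card ↥(W₁ ⊔ W₂))) :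
    IsCyclic ↥(W₁ ⊔ W₂) ∧ W₁ ⊓ W₂ = ⊥ ∧
    (∀ θ : ↥(W₁ ⊔ W₂) → ℂ, (∀ w : ↥(W₁ ⊔ W₂), (w : L) ∈ W₂ → θ w = 0) →
      ∀ w : ↥(W₁ ⊔ W₂), Cfsg.indFun (W₁ ⊔ W₂) θ (w : L) = θ w) ∧
    (∀ w : ↥(W₁ ⊔ W₂), (w : L) ∉ W₂ →
      Subgroup.centralizer ({(w : L)} : Set L) = W₁ ⊔ W₂) := by
  have hSNC := Cfsg.Agent.S1510.result K W₁ W₂ hKW₁ hKW₁' hW₁ hW₁c hHall hW₂ hW₂c hW₂K hC hodd
  haveI hcyc : IsCyclic ↥(W₁ ⊔ W₂) := hSNC.2.2.2.2.1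
  have hinf : W₁ ⊓ W₂ = ⊥ := hSNC.2.2.1
  have hW₁comm : ∀ a ∈ W₁, ∀ b ∈ W₁, a * b = b * a := by
    intro a ha b hb
    haveI := hW₁c
    have := (IsCyclic.commGroup (α := ↥W₁)).mul_comm ⟨a, ha⟩ ⟨b, hb⟩
    exact congrArg Subtype.val this
  obtain ⟨hcomm, hWK, hTI⟩ := typeP_ti K W₁ W₂ hKW₁ hKW₁' hHall hW₂K hW₁comm hC
  have hWc : ∀ a ∈ W₁ ⊔ W₂, ∀ b ∈ W₁ ⊔ W₂, a * b = b * a := by
    intro a ha b hb
    have := (IsCyclic.commGroup (α := ↥(W₁ ⊔ W₂))).mul_comm ⟨a, ha⟩ ⟨b, hb⟩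
    exact congrArg Subtype.val this
  have hTI' : ∀ w ∈ W₁ ⊔ W₂, w ∉ W₂ → ∀ x : L, x⁻¹ * w * x ∈ W₁ ⊔ W₂ → x ∈ W₁ ⊔ W₂ := by
    intro w hw hw2 x hx
    have h1 : x⁻¹ * w * x⁻¹⁻¹ ∈ W₁ ⊔ W₂ := by rwa [inv_inv]
    have := hTI w hw hw2 x⁻¹ h1
    have h2 := (W₁ ⊔ W₂).inv_mem this
    rwa [inv_inv] at h2
  have hZ : ∀ z ∈ W₂, ∀ x : L, x⁻¹ * z * x ∈ W₁ ⊔ W₂ → x⁻¹ * z * x ∈ W₂ := by
    intro z hz x hx
    apply hWK _ hx
    have := hK.conj_mem z (hW₂K hz) x⁻¹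
    rwa [inv_inv] at this
  refine ⟨hcyc, hinf, fun θ hθ w => indFun_eq_of_ti (W₁ ⊔ W₂) W₂ hWc hTI' hZ θ hθ w, ?_⟩
  intro w hw
  apply le_antisymm
  · intro g hg
    have h1 : (w : L) * g = g * (w : L) := (Subgroup.mem_centralizer_iff.mp hg) (w : L) rfl
    apply hTI (w : L) w.2 hw g
    have : g * (w : L) * g⁻¹ = (w : L) := by rw [← h1]; group
    rw [this]; exact w.2
  · intro g hg
    exact Subgroup.mem_centralizer_iff.mpr (fun y hy => by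
      rw [Set.mem_singleton_iff.mp hy]; exact hWc _ w.2 _ hg)

/-- construction of the characters `μ ω` and signs `δ ω` -/
theorem construct {L : Type*} [Group L] [Fintype L] (W₁ W₂ : Subgroup L)
    (hcyc : IsCyclic ↥(W₁ ⊔ W₂)) (hinf : W₁ ⊓ W₂ = ⊥) (hW₁ : W₁ ≠ ⊥)
    (hodd : Odd (Nat.card ↥(W₁ ⊔ W₂)))
    (hind : ∀ θ : ↥(W₁ ⊔ W₂) → ℂ, (∀ w : ↥(W₁ ⊔ W₂), (w : L) ∈ W₂ → θ w = 0) →
      ∀ w : ↥(W₁ ⊔ W₂), Cfsg.indFun (W₁ ⊔ W₂) θ (w : L) = θ w) :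
    ∃ (μ : (↥(W₁ ⊔ W₂) →* ℂˣ) → (L → ℂ)) (δ : (↥(W₁ ⊔ W₂) →* ℂˣ) → ℂ),
      Function.Injective μ ∧ (∀ ω, Cfsg.IsIrrCharacter L (μ ω)) ∧ (∀ ω, δ ω = 1 ∨ δ ω = -1) ∧
      (∀ ω ω', Rel W₁ W₂ ω ω' → δ ω = δ ω' ∧
        Cfsg.indFun (W₁ ⊔ W₂) (fun w => (ω w : ℂ) - (ω' w : ℂ)) = δ ω • (μ ω - μ ω')) := by
  classical
  haveI := hcyc
  haveI : Fintype ↥(W₁ ⊔ W₂) := Fintype.ofFinite _
  haveI : Fintype (↥(W₁ ⊔ W₂) →* ℂˣ) := Fintype.ofFinite _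
  -- vanishing on `W₂`
  have hvan : ∀ ω ω' : ↥(W₁ ⊔ W₂) →* ℂˣ, Rel W₁ W₂ ω ω' →
      ∀ w : ↥(W₁ ⊔ W₂), (w : L) ∈ W₂ → (fun w => (ω w : ℂ) - (ω' w : ℂ)) w = 0 := by
    intro ω ω' h w hw
    show (ω w : ℂ) - (ω' w : ℂ) = 0
    rw [h w hw, sub_self]
  -- isometry
  have hiso : ∀ θ θ' : ↥(W₁ ⊔ W₂) → ℂ, (∀ w : ↥(W₁ ⊔ W₂), (w : L) ∈ W₂ → θ' w = 0) →
      Cfsg.classInner (Cfsg.indFun (W₁ ⊔ W₂) θ) (Cfsg.indFun (W₁ ⊔ W₂) θ')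
        = Cfsg.classInner θ θ' := by
    intro θ θ' hθ'
    rw [Cfsg.Agent.Lib.H8.frobenius_reciprocity (W₁ ⊔ W₂) θ _ (isClassFunction_indFun _ θ')]
    congr 1
    funext w
    exact hind θ' hθ' w
  obtain ⟨D, hD⟩ : ∃ D : (↥(W₁ ⊔ W₂) →* ℂˣ) → (↥(W₁ ⊔ W₂) →* ℂˣ) → (L → ℂ),
      ∀ ω ω', D ω ω' = Cfsg.indFun (W₁ ⊔ W₂) (fun w => (ω w : ℂ) - (ω' w : ℂ)) :=
    ⟨_, fun _ _ => rfl⟩
  have hDinner : ∀ ω₁ ω₂ ω₃ ω₄ : ↥(W₁ ⊔ W₂) →* ℂˣ, Rel W₁ W₂ ω₃ ω₄ →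
      Cfsg.classInner (D ω₁ ω₂) (D ω₃ ω₄) =
        ((if ω₁ = ω₃ then 1 else 0) - (if ω₁ = ω₄ then 1 else 0))
          - ((if ω₂ = ω₃ then 1 else 0) - (if ω₂ = ω₄ then 1 else 0)) := by
    intro ω₁ ω₂ ω₃ ω₄ h34
    rw [hD, hD, hiso _ _ (hvan ω₃ ω₄ h34)]
    show Cfsg.classInner (lin ω₁ - lin ω₂) (lin ω₃ - lin ω₄) = _
    rw [classInner_sub_left, classInner_sub_right, classInner_sub_right, classInner_lin,
      classInner_lin, classInner_lin, classInner_lin]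
  have hcoc : ∀ i j k, D i j + D j k = D i k := by
    intro i j k
    rw [hD, hD, hD, ← indFun_add]
    congr 1
    funext w
    simp only [Pi.add_apply]
    ring
  -- the linear characters trivial on `W₂`
  have hWc : ∀ x y : ↥(W₁ ⊔ W₂), x * y = y * x :=
    fun x y => (IsCyclic.commGroup (α := ↥(W₁ ⊔ W₂))).mul_comm x y
  haveI hNn : (W₂.subgroupOf (W₁ ⊔ W₂)).Normal := by
    constructor
    intro n hn g
    have : g * n * g⁻¹ = n := by rw [hWc g n]; group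
    rw [this]; exact hn
  have hab : ∀ x y : ↥(W₁ ⊔ W₂), x * y * x⁻¹ * y⁻¹ ∈ W₂.subgroupOf (W₁ ⊔ W₂) := by
    intro x y
    have : x * y * x⁻¹ * y⁻¹ = 1 := by rw [hWc x y]; group
    rw [this]; exact Subgroup.one_mem _
  obtain ⟨Λ, hΛtriv, hΛcard, -, -⟩ := exists_linear_chars (W₂.subgroupOf (W₁ ⊔ W₂)) hab
  have hidx : 2 < (W₂.subgroupOf (W₁ ⊔ W₂)).index := by
    have h1 : (W₂.subgroupOf (W₁ ⊔ W₂)).index ∣ Nat.card ↥(W₁ ⊔ W₂) :=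
      Subgroup.index_dvd_card _
    have h2 : Odd (W₂.subgroupOf (W₁ ⊔ W₂)).index := Odd.of_dvd_nat hodd h1
    have h3 : (W₂.subgroupOf (W₁ ⊔ W₂)).index ≠ 1 := by
      intro h
      have h4 : W₁ ⊔ W₂ ≤ W₂ := Subgroup.relIndex_eq_one.mp h
      apply hW₁
      rw [eq_bot_iff, ← hinf]
      exact le_inf le_rfl (le_sup_left.trans h4)
    obtain ⟨k, hk⟩ := h2
    omega
  obtain ⟨F, hF⟩ : ∃ F : (↥(W₁ ⊔ W₂) →* ℂˣ) → Finset (↥(W₁ ⊔ W₂) →* ℂˣ),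
      ∀ ω ω', ω' ∈ F ω ↔ Rel W₁ W₂ ω ω' :=
    ⟨fun ω => Finset.univ.filter (fun ω' => Rel W₁ W₂ ω ω'), fun ω ω' => by simp⟩
  have hFcard : ∀ ω, 2 < (F ω).card := by
    intro ω
    have hsub : Λ.image (fun f => ω * f) ⊆ F ω := by
      intro ω' hω'
      obtain ⟨f, hf, rfl⟩ := Finset.mem_image.mp hω'
      rw [hF]
      intro w hw
      have := hΛtriv f hf w (Subgroup.mem_subgroupOf.mpr hw)
      rw [MonoidHom.mul_apply, this, mul_one]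
    have hcard : (Λ.image (fun f => ω * f)).card = Λ.card :=
      Finset.card_image_of_injective _ (mul_right_injective ω)
    have := Finset.card_le_card hsub
    rw [hcard, hΛcard] at this
    omega
  have hFeq : ∀ ω ω', Rel W₁ W₂ ω ω' → F ω = F ω' := by
    intro ω ω' h
    ext x
    rw [hF, hF]
    exact ⟨fun h1 => h.symm.trans h1, fun h1 => h.trans h1⟩
  -- the star lemma on each fiber
  have hstar : ∀ s : Finset (↥(W₁ ⊔ W₂) →* ℂˣ), (∃ ω₀, s = F ω₀) →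
      ∃ (δ : ℂ) (χ : (↥(W₁ ⊔ W₂) →* ℂˣ) → (L → ℂ)), (δ = 1 ∨ δ = -1) ∧
        (∀ i ∈ s, Cfsg.IsIrrCharacter L (χ i)) ∧ Set.InjOn χ s ∧
        ∀ i ∈ s, ∀ j ∈ s, D i j = δ • (χ i - χ j) := by
    rintro s ⟨ω₀, rfl⟩
    have hrel : ∀ i ∈ F ω₀, ∀ j ∈ F ω₀, Rel W₁ W₂ i j :=
      fun i hi j hj => ((hF _ _).mp hi).symm.trans ((hF _ _).mp hj)
    apply star_lemma (F ω₀) (hFcard ω₀) D hcoc
    · intro i hi j hj hij
      have hR := hrel i hi j hj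
      apply genChar_norm_two_degree_zero
      · rw [hD]
        have e : (fun w : ↥(W₁ ⊔ W₂) => (i w : ℂ) - (j w : ℂ)) = lin i - lin j := rfl
        rw [e, indFun_sub]
        exact ⟨_, _, isCharacter_indFun _ (isCharacter_of_irr (isIrrCharacter_of_hom i)),
          isCharacter_indFun _ (isCharacter_of_irr (isIrrCharacter_of_hom j)), rfl⟩
      · rw [hDinner i j i j hR, if_pos rfl, if_neg hij, if_neg (Ne.symm hij), if_pos rfl]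
        norm_num
      · rw [hD]
        have h1 := hind _ (hvan i j hR) 1
        rw [Subgroup.coe_one] at h1
        rw [h1]
        simp
    · intro i hi j hj k hk hij hik hjk
      rw [hDinner i j i k (hrel i hi k hk), if_pos rfl, if_neg hik, if_neg (Ne.symm hij),
        if_neg hjk]
      norm_num
  choose δs χs hδs hχirr hχinj hχD using hstar
  have hcongr : ∀ (s s' : Finset (↥(W₁ ⊔ W₂) →* ℂˣ)) (h : s = s') (p : ∃ ω₀, s = F ω₀)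
      (p' : ∃ ω₀, s' = F ω₀), χs s p = χs s' p' ∧ δs s p = δs s' p' := by
    intro s s' h p p'
    subst h
    exact ⟨rfl, rfl⟩
  have hself : ∀ ω, ω ∈ F ω := fun ω => (hF ω ω).mpr (Rel.refl ω)
  refine ⟨fun ω => χs (F ω) ⟨ω, rfl⟩ ω, fun ω => δs (F ω) ⟨ω, rfl⟩, ?_, ?_, ?_, ?_⟩
  · -- injectivity
    intro ω ω' hμ
    simp only at hμ
    by_cases hR : Rel W₁ W₂ ω ω'
    · have e := (hcongr _ _ (hFeq ω ω' hR) ⟨ω, rfl⟩ ⟨ω', rfl⟩).1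
      rw [← e] at hμ
      exact hχinj (F ω) ⟨ω, rfl⟩ (hself ω) ((hF ω ω').mpr hR) hμ
    · exfalso
      obtain ⟨ω₁, hω₁, hne₁⟩ := Finset.exists_mem_ne (s := F ω) (by have := hFcard ω; omega) ω
      obtain ⟨ω₁', hω₁', hne₁'⟩ := Finset.exists_mem_ne (s := F ω') (by have := hFcard ω'; omega) ω'
      have hR₁ : Rel W₁ W₂ ω ω₁ := (hF _ _).mp hω₁
      have hR₁' : Rel W₁ W₂ ω' ω₁' := (hF _ _).mp hω₁'
      have h0 : Cfsg.classInner (D ω ω₁) (D ω' ω₁') = 0 := by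
        have m1 : ¬ ω = ω' := by
          intro h; exact hR (by rw [h]; exact Rel.refl _)
        have m2 : ¬ ω = ω₁' := by
          intro h; apply hR; rw [h]; exact hR₁'.symm
        have m3 : ¬ ω₁ = ω' := by
          intro h; apply hR; rw [← h]; exact hR₁
        have m4 : ¬ ω₁ = ω₁' := by
          intro h; apply hR; rw [h] at hR₁; exact hR₁.trans hR₁'.symm
        rw [hDinner ω ω₁ ω' ω₁' hR₁', if_neg m1, if_neg m2, if_neg m3, if_neg m4]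
        ring
      rw [hχD (F ω) ⟨ω, rfl⟩ ω (hself ω) ω₁ hω₁, hχD (F ω') ⟨ω', rfl⟩ ω' (hself ω') ω₁' hω₁',
        classInner_smul_left, classInner_smul_right] at h0
      have hd1 : δs (F ω) ⟨ω, rfl⟩ ≠ 0 := by
        rcases hδs (F ω) ⟨ω, rfl⟩ with h | h <;> rw [h] <;> norm_num
      have hd2 : conj (δs (F ω') ⟨ω', rfl⟩) ≠ 0 := by
        rcases hδs (F ω') ⟨ω', rfl⟩ with h | h <;> rw [h] <;> norm_num
      have h1 := (mul_eq_zero.mp h0).resolve_left hd1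
      have h2 := (mul_eq_zero.mp h1).resolve_left hd2
      have i1 := hχirr (F ω) ⟨ω, rfl⟩ ω (hself ω)
      have i2 := hχirr (F ω) ⟨ω, rfl⟩ ω₁ hω₁
      have i3 := hχirr (F ω') ⟨ω', rfl⟩ ω' (hself ω')
      have i4 := hχirr (F ω') ⟨ω', rfl⟩ ω₁' hω₁'
      rw [classInner_sub_right, irr_sub_inner i1 i2 i3, irr_sub_inner i1 i2 i4] at h2
      have n1 : χs (F ω) ⟨ω, rfl⟩ ω₁ ≠ χs (F ω') ⟨ω', rfl⟩ ω' := by
        rw [← hμ]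
        intro h
        exact hne₁ (hχinj (F ω) ⟨ω, rfl⟩ hω₁ (hself ω) h)
      have n2 : χs (F ω) ⟨ω, rfl⟩ ω ≠ χs (F ω') ⟨ω', rfl⟩ ω₁' := by
        rw [hμ]
        intro h
        exact hne₁' (hχinj (F ω') ⟨ω', rfl⟩ hω₁' (hself ω') h.symm)
      rw [if_pos hμ, if_neg n1, if_neg n2] at h2
      split_ifs at h2 <;> norm_num at h2
  · intro ω
    exact hχirr (F ω) ⟨ω, rfl⟩ ω (hself ω)
  · intro ω
    exact hδs (F ω) ⟨ω, rfl⟩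
  · intro ω ω' hR
    obtain ⟨e1, e2⟩ := hcongr _ _ (hFeq ω ω' hR) ⟨ω, rfl⟩ ⟨ω', rfl⟩
    refine ⟨e2, ?_⟩
    rw [← hD]
    simp only
    rw [← e1]
    exact hχD (F ω) ⟨ω, rfl⟩ ω (hself ω) ω' ((hF ω ω').mpr hR)

theorem normSq_hom_apply {W : Type*} [Group W] [Finite W] (ω : W →* ℂˣ) (w : W) :
    Complex.normSq ((ω w : ℂˣ) : ℂ) = 1 := by
  have h1 : ‖((ω w : ℂˣ) : ℂ)‖ = 1 := by
    apply Complex.norm_eq_one_of_pow_eq_one (n := orderOf w)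
    · rw [← Units.val_pow_eq_pow_val, ← map_pow, pow_orderOf_eq_one, map_one, Units.val_one]
    · exact (orderOf_pos w).ne'
  rw [Complex.normSq_eq_norm_sq, h1, one_pow]

/-- values on `W ∖ W₂` -/
theorem values {L : Type*} [Group L] [Fintype L] (W₁ W₂ : Subgroup L)
    (hcyc : IsCyclic ↥(W₁ ⊔ W₂))
    (hind : ∀ θ : ↥(W₁ ⊔ W₂) → ℂ, (∀ w : ↥(W₁ ⊔ W₂), (w : L) ∈ W₂ → θ w = 0) →
      ∀ w : ↥(W₁ ⊔ W₂), Cfsg.indFun (W₁ ⊔ W₂) θ (w : L) = θ w)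
    (hcent : ∀ w : ↥(W₁ ⊔ W₂), (w : L) ∉ W₂ →
      Subgroup.centralizer ({(w : L)} : Set L) = W₁ ⊔ W₂)
    (μ : (↥(W₁ ⊔ W₂) →* ℂˣ) → (L → ℂ)) (δ : (↥(W₁ ⊔ W₂) →* ℂˣ) → ℂ)
    (hinj : Function.Injective μ) (hirr : ∀ ω, Cfsg.IsIrrCharacter L (μ ω))
    (hδ : ∀ ω, δ ω = 1 ∨ δ ω = -1)
    (hD : ∀ ω ω', Rel W₁ W₂ ω ω' → δ ω = δ ω' ∧
        Cfsg.indFun (W₁ ⊔ W₂) (fun w => (ω w : ℂ) - (ω' w : ℂ)) = δ ω • (μ ω - μ ω'))
    (w : ↥(W₁ ⊔ W₂)) (hw : (w : L) ∉ W₂) :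
    (∀ ω, μ ω w = δ ω * (ω w : ℂ)) ∧
      (∀ θ : L → ℂ, Cfsg.IsIrrCharacter L θ → (∀ ω, θ ≠ μ ω) → θ w = 0) := by
  classical
  haveI := hcyc
  haveI : Fintype ↥(W₁ ⊔ W₂) := Fintype.ofFinite _
  haveI : Fintype (↥(W₁ ⊔ W₂) →* ℂˣ) := Fintype.ofFinite _
  haveI : Fintype (IrrCharacter L) := Fintype.ofFinite _
  have hδsq : ∀ ω, δ ω * δ ω = 1 := by
    intro ω
    rcases hδ ω with h | h <;> rw [h] <;> norm_num
  obtain ⟨c, hc⟩ : ∃ c : (↥(W₁ ⊔ W₂) →* ℂˣ) → ℂ, ∀ ω, c ω = μ ω w - δ ω * (ω w : ℂ) :=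
    ⟨_, fun _ => rfl⟩
  have hconst : ∀ ω ω', Rel W₁ W₂ ω ω' → c ω = c ω' := by
    intro ω ω' hR
    obtain ⟨hd, hDD⟩ := hD ω ω' hR
    have h1 := congrFun hDD (w : L)
    have hvan : ∀ v : ↥(W₁ ⊔ W₂), (v : L) ∈ W₂ →
        (fun v => (ω v : ℂ) - (ω' v : ℂ)) v = 0 := by
      intro v hv
      show (ω v : ℂ) - (ω' v : ℂ) = 0
      rw [hR v hv, sub_self]
    rw [hind _ hvan w] at h1
    simp only [Pi.smul_apply, Pi.sub_apply, smul_eq_mul] at h1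
    rw [hc, hc, ← hd]
    have h2 := hδsq ω
    linear_combination (-(δ ω)) * h1 - (μ ω ↑w - μ ω' ↑w) * h2
  -- the cross term vanishes
  have hWc : ∀ x y : ↥(W₁ ⊔ W₂), x * y = y * x :=
    fun x y => (IsCyclic.commGroup (α := ↥(W₁ ⊔ W₂))).mul_comm x y
  haveI hNn : (W₂.subgroupOf (W₁ ⊔ W₂)).Normal := by
    constructor
    intro n hn g
    have : g * n * g⁻¹ = n := by rw [hWc g n]; group
    rw [this]; exact hn
  have hab : ∀ x y : ↥(W₁ ⊔ W₂), x * y * x⁻¹ * y⁻¹ ∈ W₂.subgroupOf (W₁ ⊔ W₂) := by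
    intro x y
    have : x * y * x⁻¹ * y⁻¹ = 1 := by rw [hWc x y]; group
    rw [this]; exact Subgroup.one_mem _
  have hcross : ∑ ω : ↥(W₁ ⊔ W₂) →* ℂˣ, ((ω w : ℂˣ) : ℂ) * (δ ω * conj (c ω)) = 0 := by
    apply sum_mul_eq_zero_of_fiber_const (W₂.subgroupOf (W₁ ⊔ W₂)) hab
      (fun ω => δ ω * conj (c ω))
    · intro ω f hf
      have hR : Rel W₁ W₂ ω (ω * f) := by
        intro v hv
        rw [MonoidHom.mul_apply, hf v (Subgroup.mem_subgroupOf.mpr hv), mul_one]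
      show δ (ω * f) * conj (c (ω * f)) = δ ω * conj (c ω)
      rw [← (hD ω (ω * f) hR).1, ← hconst ω (ω * f) hR]
    · intro h
      exact hw (Subgroup.mem_subgroupOf.mp h)
  -- norms
  have hnorm : ∀ ω, Complex.normSq (μ ω w) = 1 + Complex.normSq (c ω)
      + 2 * (((ω w : ℂˣ) : ℂ) * (δ ω * conj (c ω))).re := by
    intro ω
    have e : μ ω w = δ ω * (ω w : ℂ) + c ω := by rw [hc]; ring
    rw [e, Complex.normSq_add, Complex.normSq_mul, normSq_hom_apply]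
    have : Complex.normSq (δ ω) = 1 := by
      rcases hδ ω with h | h <;> rw [h] <;> simp
    rw [this, mul_one]
    congr 2
    ring_nf
  have hcardΩ : (Fintype.card (↥(W₁ ⊔ W₂) →* ℂˣ) : ℝ) = Nat.card ↥(W₁ ⊔ W₂) := by
    rw [Fintype.card_eq_nat_card, card_monoidHom_units_of_isCyclic]
  have hsumμ : ∑ ω : ↥(W₁ ⊔ W₂) →* ℂˣ, Complex.normSq (μ ω w)
      = (Nat.card ↥(W₁ ⊔ W₂) : ℝ) + ∑ ω : ↥(W₁ ⊔ W₂) →* ℂˣ, Complex.normSq (c ω) := by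
    simp only [hnorm]
    rw [Finset.sum_add_distrib, Finset.sum_add_distrib, Finset.sum_const, Finset.card_univ,
      nsmul_eq_mul, mul_one, hcardΩ, ← Finset.mul_sum, ← Complex.re_sum, hcross]
    simp
  -- second orthogonality
  have h2 := second_orthogonality (w : L) (w : L)
  rw [if_pos (IsConj.refl _), hcent w hw] at h2
  have hreal : ∑ ψ : IrrCharacter L, Complex.normSq ((ψ : L → ℂ) w)
      = (Nat.card ↥(W₁ ⊔ W₂) : ℝ) := by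
    have : ∀ ψ : IrrCharacter L, (ψ : L → ℂ) w * conj ((ψ : L → ℂ) w)
        = ((Complex.normSq ((ψ : L → ℂ) w) : ℝ) : ℂ) := by
      intro ψ
      rw [Complex.mul_conj]
    simp only [this] at h2
    rw [← Complex.ofReal_sum] at h2
    exact_mod_cast h2
  obtain ⟨j, hj⟩ : ∃ j : (↥(W₁ ⊔ W₂) →* ℂˣ) → IrrCharacter L, ∀ ω, (j ω : L → ℂ) = μ ω :=
    ⟨fun ω => ⟨μ ω, hirr ω⟩, fun _ => rfl⟩
  have hjinj : Function.Injective j := by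
    intro ω ω' h
    apply hinj
    rw [← hj, ← hj, h]
  have hsumj : ∑ ψ ∈ Finset.univ.image j, Complex.normSq ((ψ : L → ℂ) w)
      = ∑ ω : ↥(W₁ ⊔ W₂) →* ℂˣ, Complex.normSq (μ ω w) := by
    rw [Finset.sum_image (fun a _ b _ h => hjinj h)]
    simp only [hj]
  have hnonneg : ∀ ω : ↥(W₁ ⊔ W₂) →* ℂˣ, 0 ≤ Complex.normSq (c ω) :=
    fun ω => Complex.normSq_nonneg _
  have hsumc_nonneg : 0 ≤ ∑ ω : ↥(W₁ ⊔ W₂) →* ℂˣ, Complex.normSq (c ω) :=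
    Finset.sum_nonneg (fun ω _ => hnonneg ω)
  constructor
  · have hle : ∑ ψ ∈ Finset.univ.image j, Complex.normSq ((ψ : L → ℂ) w)
        ≤ ∑ ψ : IrrCharacter L, Complex.normSq ((ψ : L → ℂ) w) :=
      Finset.sum_le_sum_of_subset_of_nonneg (Finset.subset_univ _)
        (fun _ _ _ => Complex.normSq_nonneg _)
    rw [hsumj, hsumμ, hreal] at hle
    have h0 : ∑ ω : ↥(W₁ ⊔ W₂) →* ℂˣ, Complex.normSq (c ω) = 0 := by linarith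
    intro ω
    have h1 := (Finset.sum_eq_zero_iff_of_nonneg (fun ω _ => hnonneg ω)).mp h0 ω (Finset.mem_univ _)
    have h3 : c ω = 0 := Complex.normSq_eq_zero.mp h1
    rw [hc] at h3
    exact sub_eq_zero.mp h3
  · intro θ hθ hne
    have hθj : (⟨θ, hθ⟩ : IrrCharacter L) ∉ Finset.univ.image j := by
      intro hmem
      obtain ⟨ω, -, hω⟩ := Finset.mem_image.mp hmem
      apply hne ω
      rw [← hj, hω]
    have hle : ∑ ψ ∈ insert (⟨θ, hθ⟩ : IrrCharacter L) (Finset.univ.image j),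
        Complex.normSq ((ψ : L → ℂ) w)
        ≤ ∑ ψ : IrrCharacter L, Complex.normSq ((ψ : L → ℂ) w) :=
      Finset.sum_le_sum_of_subset_of_nonneg (Finset.subset_univ _)
        (fun _ _ _ => Complex.normSq_nonneg _)
    rw [Finset.sum_insert hθj, hsumj, hsumμ, hreal] at hle
    have h0 : Complex.normSq (θ w) ≤ 0 := by
      have hle' : Complex.normSq (θ w) + ((Nat.card ↥(W₁ ⊔ W₂) : ℝ)
          + ∑ ω : ↥(W₁ ⊔ W₂) →* ℂˣ, Complex.normSq (c ω)) ≤ (Nat.card ↥(W₁ ⊔ W₂) : ℝ) := hle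
      linarith
    exact Complex.normSq_eq_zero.mp (le_antisymm h0 (Complex.normSq_nonneg _))

/-- the congruence for the degree -/
theorem congruence {L : Type*} [Group L] [Fintype L] (W₁ W₂ : Subgroup L) (hinf : W₁ ⊓ W₂ = ⊥)
    (ω : ↥(W₁ ⊔ W₂) →* ℂˣ) (χ : L → ℂ) (hχ : Cfsg.IsIrrCharacter L χ) (d : ℂ)
    (hd : d = 1 ∨ d = -1)
    (hval : ∀ w : ↥(W₁ ⊔ W₂), (w : L) ∉ W₂ → χ w = d * (ω w : ℂ)) :
    ∃ n : ℤ, χ 1 - d = n * (Nat.card W₁ : ℂ) := by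
  classical
  haveI : Fintype ↥W₁ := Fintype.ofFinite _
  obtain ⟨lam, hlam⟩ : ∃ lam : ↥W₁ →* ℂˣ, ∀ x : ↥W₁, lam x = ω ⟨x, Subgroup.mem_sup_left x.2⟩ :=
    ⟨ω.comp (Subgroup.inclusion le_sup_left), fun _ => rfl⟩
  obtain ⟨n, hn⟩ := classInner_char_irr_nat (isCharacter_restrict W₁ (isCharacter_of_irr hχ))
    (isIrrCharacter_of_hom lam)
  rw [Cfsg.Agent.Lib.H8.classInner_def] at hn
  have hterm : ∀ x : ↥W₁, x ≠ 1 → χ (x : L) * conj ((lam x : ℂˣ) : ℂ) = d := by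
    intro x hx
    have hx2 : (x : L) ∉ W₂ := by
      intro h
      have : (x : L) ∈ W₁ ⊓ W₂ := ⟨x.2, h⟩
      rw [hinf, Subgroup.mem_bot] at this
      exact hx (Subtype.ext this)
    have h1 := hval ⟨x, Subgroup.mem_sup_left x.2⟩ hx2
    simp only at h1
    rw [h1, hlam, mul_assoc, Complex.mul_conj, normSq_hom_apply]
    simp
  have hsum : ∑ x : ↥W₁, χ (x : L) * conj ((lam x : ℂˣ) : ℂ)
      = χ 1 + ((Nat.card W₁ : ℂ) - 1) * d := by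
    rw [← Finset.add_sum_erase _ _ (Finset.mem_univ (1 : ↥W₁))]
    congr 1
    · simp
    · rw [Finset.sum_congr rfl (fun x hx => hterm x (Finset.ne_of_mem_erase hx)),
        Finset.sum_const, Finset.card_erase_of_mem (Finset.mem_univ _), Finset.card_univ,
        nsmul_eq_mul, Fintype.card_eq_nat_card]
      have hpos : 1 ≤ Nat.card ↥W₁ := Nat.card_pos
      rw [Nat.cast_sub hpos]
      simp
  rw [hsum] at hn
  have hne : (Nat.card ↥W₁ : ℂ) ≠ 0 := Nat.cast_ne_zero.mpr Nat.card_pos.ne'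
  have h1 : χ 1 + ((Nat.card W₁ : ℂ) - 1) * d = n * (Nat.card W₁ : ℂ) := by
    field_simp at hn
    linear_combination hn
  rcases hd with rfl | rfl
  · refine ⟨(n : ℤ) - 1, ?_⟩
    push_cast
    linear_combination h1
  · refine ⟨(n : ℤ) + 1, ?_⟩
    push_cast
    linear_combination h1

/-- Let L be a finite group with K normal with complement W₁ ≠ 1 a cyclic Hall subgroup, and W₂ ≠ 1 a cyclic subgroup of K equal to C_K(x) for every non-identity x ∈ W₁, with W₁W₂ of odd order. Then there are a map μ from the linear characters of W = W₁ ⊔ W₂ to irreducible characters of L, injective, and a sign δ(ω) ∈ {1, −1} depending only on the values of ω on W₂, such that: for ω, ω' agreeing on W₂, the function induced to L from ω − ω' equals δ(ω) • (μ ω − μ ω'); μ ω x = δ(ω) ω x for x ∈ W outside W₂; every irreducible character of L not of the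 form μ ω vanishes on W outside W₂; and μ ω 1 − δ(ω) is an integer multiple of Nat.card W₁. -/
theorem result {L : Type*} [Group L] [Fintype L] (K W₁ W₂ : Subgroup L) [hK : K.Normal] (hKW₁ : K ⊓ W₁ = ⊥) (hKW₁' : K ⊔ W₁ = ⊤) (hW₁ : W₁ ≠ ⊥) (hW₁c : IsCyclic W₁) (hHall : Nat.Coprime (Nat.card W₁) W₁.index) (hW₂ : W₂ ≠ ⊥) (hW₂c : IsCyclic W₂) (hW₂K : W₂ ≤ K) (hC : ∀ x ∈ W₁, x ≠ 1 → K ⊓ Subgroup.centralizer ({x} : Set L) = W₂) (hodd : Odd (Nat.card ↥(W₁ ⊔ W₂))) : ∃ (μ : (↥(W₁ ⊔ W₂) →* ℂˣ) → (L → ℂ)) (δ : (↥(W₁ ⊔ W₂) →* ℂˣ) → ℂ), Function.Injective μ ∧ (∀ ω, Cfsg.IsIrrCharacter L (μ ω)) ∧ (∀ ω, δ ω = 1 ∨ δ ω = -1) ∧ (∀ ω ω' : ↥(W₁ ⊔ W₂) →* ℂˣ, (∀ w : ↥(W₁ ⊔ W₂), (w : L) ∈ W₂ → ω w = ω' w) → δ ω = δ ω' ∧ Cfsg.indFun (W₁ ⊔ W₂) (fun w => (ω w : ℂ) - (ω' w : ℂ)) = δ ω • (μ ω - μ ω')) ∧ (∀ ω, ∀ w : ↥(W₁ ⊔ W₂), (w : L) ∉ W₂ → μ ω w = δ ω * (ω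 w : ℂ)) ∧ (∀ θ : L → ℂ, Cfsg.IsIrrCharacter L θ → (∀ ω, θ ≠ μ ω) → ∀ w : ↥(W₁ ⊔ W₂), (w : L) ∉ W₂ → θ w = 0) ∧ (∀ ω, ∃ n : ℤ, μ ω 1 - δ ω = n * (Nat.card W₁ : ℂ)) := by
  classical
  obtain ⟨hcyc, hinf, hind, hcent⟩ :=
    basic K W₁ W₂ hKW₁ hKW₁' hW₁ hW₁c hHall hW₂ hW₂c hW₂K hC hodd
  obtain ⟨μ, δ, hinj, hirr, hδ, hD⟩ := construct W₁ W₂ hcyc hinf hW₁ hodd hind
  refine ⟨μ, δ, hinj, hirr, hδ, ?_, ?_, ?_, ?_⟩
  · intro ω ω' h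
    exact hD ω ω' h
  · intro ω w hw
    exact (values W₁ W₂ hcyc hind hcent μ δ hinj hirr hδ hD w hw).1 ω
  · intro θ hθ hne w hw
    exact (values W₁ W₂ hcyc hind hcent μ δ hinj hirr hδ hD w hw).2 θ hθ hne
  · intro ω
    exact congruence W₁ W₂ hinf ω (μ ω) (hirr ω) (δ ω) (hδ ω)
      (fun w hw => (values W₁ W₂ hcyc hind hcent μ δ hinj hirr hδ hD w hw).1 ω)

end Cfsg.Agent.S1511
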