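import Mathlib
import Cfsg.Statements.S1512
import Cfsg.Agent.S1496

set_option autoImplicit false
open Cfsg

namespace Cfsg.Agent.S1512

/-- Every `x`-invariant class of `K` contains an element of `W₂`. -/
theorem exists_rep_in_W₂ {L : Type*} [Group L] [Finite L] (K W₂ : Subgroup L) [hK : K.Normal] (x : L) (hx1 : x ≠ 1)
    (hx : Nat.Coprime (orderOf x) (Nat.card K))
    (hC : ∀ y ∈ Subgroup.zpowers x, y ≠ 1 → K ⊓ Subgroup.centralizer ({y} : Set L) = W₂)
    (C : ConjClasses K)
    (hinv : ConjClasses.map (MulEquiv.toMonoidHom ((MulAut.conjNormal x : MulAut K))) C = C) :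
    ∃ k' : K, ConjClasses.mk k' = C ∧ (k' : L) ∈ W₂ := by
  obtain ⟨k, rfl⟩ := ConjClasses.exists_rep C
  have h1 : ConjClasses.mk ((MulAut.conjNormal x : MulAut K) k) = ConjClasses.mk k := hinv
  rw [ConjClasses.mk_eq_mk_iff_isConj, isConj_iff] at h1
  obtain ⟨u, hu⟩ := h1
  -- in L: u * (x k x⁻¹) * u⁻¹ = k
  have hu' : (u : L) * (x * (k : L) * x⁻¹) * (u : L)⁻¹ = (k : L) := by
    have := congrArg (fun w : K => (w : L)) hu
    simpa [MulAut.conjNormal_apply] using this
  have hcomm : ((u : L) * x) * (k : L) = (k : L) * ((u : L) * x) := by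
    calc ((u : L) * x) * (k : L) = ((u : L) * (x * (k : L) * x⁻¹) * (u : L)⁻¹) * ((u : L) * x) := by group
      _ = (k : L) * ((u : L) * x) := by rw [hu']
  have hxN : x ∈ Subgroup.normalizer (K : Set L) := by
    rw [Subgroup.normalizer_eq_top]; trivial
  obtain ⟨v, hv, c, hc, hcx, hconj⟩ := Cfsg.Agent.S1496.result K x hxN hx (u : L) u.2
  -- k' := v k v⁻¹
  have hk'K : v * (k : L) * v⁻¹ ∈ K := K.mul_mem (K.mul_mem hv k.2) (K.inv_mem hv)
  refine ⟨⟨v * (k : L) * v⁻¹, hk'K⟩, ?_, ?_⟩
  · rw [ConjClasses.mk_eq_mk_iff_isConj, isConj_iff]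
    refine ⟨⟨v, hv⟩⁻¹, ?_⟩
    apply Subtype.ext
    simp only [Subgroup.coe_mul, Subgroup.coe_inv, inv_inv]
    group
  · -- c * x commutes with k'
    have hcxk : (c * x) * (v * (k : L) * v⁻¹) = (v * (k : L) * v⁻¹) * (c * x) := by
      rw [← hconj]
      calc v * ((u : L) * x) * v⁻¹ * (v * (k : L) * v⁻¹) = v * (((u : L) * x) * (k : L)) * v⁻¹ := by group
        _ = v * ((k : L) * ((u : L) * x)) * v⁻¹ := by rw [hcomm]
        _ = v * (k : L) * v⁻¹ * (v * ((u : L) * x) * v⁻¹) := by group
    -- x is a power of c * x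
    obtain ⟨m, hm⟩ := exists_pow_eq_self_of_coprime (x := x) (n := Nat.card K) hx.symm
    have hcpow : c ^ (Nat.card K) = 1 := by
      have h4 : (⟨c, hc⟩ : K) ^ Nat.card K = 1 := pow_card_eq_one'
      have h5 := congrArg (fun w : K => (w : L)) h4
      simpa only [Subgroup.coe_pow, Subgroup.coe_one] using h5
    have hpow : (c * x) ^ (Nat.card K * m) = x := by
      rw [(show Commute c x from hcx).mul_pow, pow_mul, pow_mul, hcpow, one_pow, one_mul, hm]
    have hxk : x * (v * (k : L) * v⁻¹) = (v * (k : L) * v⁻¹) * x := by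
      have : Commute ((c * x) ^ (Nat.card K * m)) (v * (k : L) * v⁻¹) :=
        Commute.pow_left (show Commute (c * x) (v * (k : L) * v⁻¹) from hcxk) _
      rw [hpow] at this
      exact this.eq
    have hmem : v * (k : L) * v⁻¹ ∈ K ⊓ Subgroup.centralizer ({x} : Set L) := by
      refine Subgroup.mem_inf.mpr ⟨hk'K, ?_⟩
      rw [Subgroup.mem_centralizer_iff]
      intro h hh
      rw [Set.mem_singleton_iff.mp hh]
      exact hxk
    rw [hC x (Subgroup.mem_zpowers x) hx1] at hmem
    exact hmem

/-- Let K be a normal subgroup of the finite group L and x a non-identity element whose order is coprime to the order of K, such that K ⊓ C_L(y) = W₂ for every non-identity element y of the cyclic group generated by x. Then the number of conjugacy classes of K mapped to themselves by conjugation by x is at most Nat.card W₂. -/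
theorem result {L : Type*} [Group L] [Finite L] (K W₂ : Subgroup L) [hK : K.Normal] (x : L) (hx1 : x ≠ 1) (hx : Nat.Coprime (orderOf x) (Nat.card K)) (hC : ∀ y ∈ Subgroup.zpowers x, y ≠ 1 → K ⊓ Subgroup.centralizer ({y} : Set L) = W₂) : Nat.card {C : ConjClasses K // ConjClasses.map (MulEquiv.toMonoidHom ((MulAut.conjNormal x : MulAut K))) C = C} ≤ Nat.card W₂ := by
  classical
  choose f hf1 hf2 using fun C : {C : ConjClasses K // ConjClasses.map (MulEquiv.toMonoidHom ((MulAut.conjNormal x : MulAut K))) C = C} =>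
    exists_rep_in_W₂ K W₂ x hx1 hx hC C.1 C.2
  let F : {C : ConjClasses K // ConjClasses.map (MulEquiv.toMonoidHom ((MulAut.conjNormal x : MulAut K))) C = C} → W₂ :=
    fun C => ⟨(f C : L), hf2 C⟩
  have hF : Function.Injective F := by
    intro C D hCD
    have h1 : (f C : L) = (f D : L) := congrArg (fun w : W₂ => (w : L)) hCD
    have h2 : f C = f D := Subtype.ext h1
    apply Subtype.ext
    rw [← hf1 C, ← hf1 D, h2]
  exact Nat.card_le_card_of_injective F hF

end Cfsg.Agent.S1512
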