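import Mathlib
import Cfsg.Statements.S1513
import Cfsg.Agent.Lib.H8.CoprimeClasses
import Cfsg.Agent.S0173
import Cfsg.Agent.S1491
import Cfsg.Agent.Lib.H23.Ito
import Cfsg.Agent.Lib.H23.CliffordCorr
import Cfsg.Agent.Lib.L0.CharBasic
import Cfsg.Agent.Lib.L0.CharOps

set_option autoImplicit false
open Cfsg

namespace Cfsg.Agent.S1513

open Cfsg.Agent.Lib.H8 Cfsg.Agent.Lib.H23 Cfsg.Agent.Lib.L0

/-- Let L be a finite group with K normal with complement W₁ ≠ 1 a cyclic Hall subgroup, and W₂ ≠ 1 a cyclic subgroup of K equal to C_K(x) for every non-identity x ∈ W₁, with W₁W₂ of odd order. For an irreducible character θ of K: if θ is not fixed under conjugation by some element of W₁, then the function induced from θ to L is an irreducible character of L; and the irreducible characters of K fixed by all of W₁ are exactly Nat.card W₂ in number, each inducing to the sum of Nat.card W₁ pairwise distinct irreducible characters of L. -/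
theorem result {L : Type*} [Group L] [Fintype L] (K W₁ W₂ : Subgroup L) [hK : K.Normal] (hKW₁ : K ⊓ W₁ = ⊥) (hKW₁' : K ⊔ W₁ = ⊤) (hW₁ : W₁ ≠ ⊥) (hW₁c : IsCyclic W₁) (hHall : Nat.Coprime (Nat.card W₁) W₁.index) (hW₂ : W₂ ≠ ⊥) (hW₂c : IsCyclic W₂) (hW₂K : W₂ ≤ K) (hC : ∀ x ∈ W₁, x ≠ 1 → K ⊓ Subgroup.centralizer ({x} : Set L) = W₂) (hodd : Odd (Nat.card ↥(W₁ ⊔ W₂))) : (∀ θ : K → ℂ, Cfsg.IsIrrCharacter K θ → (∃ x ∈ W₁, (fun k : K => θ ⟨x * k * x⁻¹, hK.conj_mem (k : L) k.2 x⟩) ≠ θ) → Cfsg.IsIrrCharacter L (Cfsg.indFun K θ)) ∧ Nat.card {θ : Cfsg.IrrCharacter K // ∀ x ∈ W₁, (fun k : K => (θ : K → ℂ) ⟨x * k * x⁻¹, hK.conj_mem (k : L) k.2 x⟩) = θ} = Nat.card W₂ ∧ (∀ θ : K → ℂ, Cfsg.IsIrrCharacter K θ → (∀ x ∈ W₁, (fun k : K => θ ⟨x * k * x⁻¹, hK.conj_mem (k : L) k.2 x⟩) = θ) → ∃ C : Finset (L → ℂ), C.card = Nat.card W₁ ∧ (∀ μ ∈ C, Cfsg.IsIrrCharacter L μ) ∧ Cfsg.indFun K θ = ∑ μ ∈ C, μ) := by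
  classical
  haveI : Fintype K := Fintype.ofFinite K
  have hcompl : Subgroup.IsComplement' K W₁ := by
    apply Subgroup.isComplement'_of_disjoint_and_mul_eq_univ (disjoint_iff.mpr hKW₁)
    rw [← Subgroup.normal_mul, hKW₁', Subgroup.coe_top]
  have hcardK : Nat.card K = W₁.index := hcompl.index_eq_card.symm
  have hidxK : K.index = Nat.card W₁ := hcompl.symm.index_eq_card
  have hcopKW : (Nat.card K).Coprime (Nat.card W₁) := by rw [hcardK]; exact hHall.symm
  have hcopy : ∀ y ∈ W₁, (Nat.card K).Coprime (orderOf y) := fun y hy =>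
    Nat.Coprime.coprime_dvd_right (Subgroup.orderOf_dvd_natCard W₁ hy) hcopKW
  have hpred : ∀ (θ : K → ℂ) (x : L),
      (fun k : K => θ ⟨x * k * x⁻¹, hK.conj_mem (k : L) k.2 x⟩) = θ ↔ x ∈ inertia K θ := by
    intro θ x
    rw [mem_inertia]
    exact funext_iff
  have hconjN : ∀ (y : L) (k : K), (MulAut.conjNormal y : K ≃* K) k =
      ⟨y * k * y⁻¹, hK.conj_mem (k : L) k.2 y⟩ :=
    fun y k => Subtype.ext (MulAut.conjNormal_apply y k)
  have hpred' : ∀ (θ : K → ℂ) (y : L),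
      θ ∘ (MulAut.conjNormal y : K ≃* K) = θ ↔ y ∈ inertia K θ := by
    intro θ y
    rw [mem_inertia, funext_iff]
    constructor
    · intro h k
      have := h k
      rw [Function.comp_apply, hconjN] at this
      exact this
    · intro h k
      rw [Function.comp_apply, hconjN]
      exact h k
  have hW₂comm : ∀ a ∈ W₂, ∀ b ∈ W₂, a * b = b * a := by
    intro a ha b hb
    have h := (IsCyclic.isMulCommutative (α := W₂)).is_comm.comm ⟨a, ha⟩ ⟨b, hb⟩
    exact congrArg Subtype.val h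
  have hW₁comm : ∀ a b : W₁, a * b = b * a := fun a b =>
    (IsCyclic.isMulCommutative (α := W₁)).is_comm.comm a b
  have hcount : ∀ y ∈ W₁, y ≠ 1 → Nat.card {χ : IrrCharacter K //
      (χ : K → ℂ) ∘ (MulAut.conjNormal y : K ≃* K) = (χ : K → ℂ)} = Nat.card W₂ := by
    intro y hy hy1
    rw [← Cfsg.Agent.S0173.result (MulAut.conjNormal y : K ≃* K)]
    rw [card_fixed_conjClasses_of_coprime (hcopy y hy) (by rw [hC y hy hy1]; exact hW₂comm)]
    rw [hC y hy hy1]
  obtain ⟨⟨x₀, hx₀⟩, hgen⟩ := IsCyclic.exists_generator (α := W₁)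
  have hpowers : ∀ x ∈ W₁, ∃ j : ℤ, x = x₀ ^ j := by
    intro x hx
    obtain ⟨j, hj⟩ := Subgroup.mem_zpowers_iff.mp (hgen ⟨x, hx⟩)
    refine ⟨j, ?_⟩
    have := congrArg Subtype.val hj
    simpa using this.symm
  have hx₀1 : x₀ ≠ 1 := by
    rintro rfl
    apply hW₁
    rw [Subgroup.eq_bot_iff_forall]
    intro x hx
    obtain ⟨j, hj⟩ := hpowers x hx
    rw [hj, one_zpow]
  have hW₁le : ∀ θ : K → ℂ, x₀ ∈ inertia K θ → W₁ ≤ inertia K θ := by
    intro θ h x hx
    obtain ⟨j, hj⟩ := hpowers x hx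
    rw [hj]; exact (inertia K θ).zpow_mem h j
  have hkey : ∀ (θ : K → ℂ), IsIrrCharacter K θ → ∀ w ∈ W₁, w ≠ 1 → w ∈ inertia K θ →
      x₀ ∈ inertia K θ := by
    intro θ hθ w hw hw1 hwθ
    have hAB : ∀ χ : IrrCharacter K,
        (χ : K → ℂ) ∘ (MulAut.conjNormal x₀ : K ≃* K) = (χ : K → ℂ) →
        (χ : K → ℂ) ∘ (MulAut.conjNormal w : K ≃* K) = (χ : K → ℂ) := by
      intro χ h
      rw [hpred'] at h ⊢
      exact hW₁le _ h hw
    let f : {χ : IrrCharacter K //
        (χ : K → ℂ) ∘ (MulAut.conjNormal x₀ : K ≃* K) = (χ : K → ℂ)} →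
        {χ : IrrCharacter K //
        (χ : K → ℂ) ∘ (MulAut.conjNormal w : K ≃* K) = (χ : K → ℂ)} :=
      fun a => ⟨a.1, hAB a.1 a.2⟩
    have hf : Function.Injective f := fun a b hab => Subtype.ext (congrArg (fun z => z.1) hab)
    have hcB := hcount w hw hw1
    have hcA := hcount x₀ hx₀ hx₀1
    haveI : Finite {χ : IrrCharacter K //
        (χ : K → ℂ) ∘ (MulAut.conjNormal w : K ≃* K) = (χ : K → ℂ)} :=
      Nat.finite_of_card_ne_zero (by rw [hcB]; exact Nat.card_pos.ne')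
    have hbij := hf.bijective_of_nat_card_le (by rw [hcA, hcB])
    obtain ⟨a, ha⟩ := hbij.2 ⟨⟨θ, hθ⟩, (hpred' θ w).mpr hwθ⟩
    have e : (a.1 : K → ℂ) = θ := congrArg (fun z => (z.1 : K → ℂ)) ha
    rw [← hpred', ← e]; exact a.2
  have hdecomp : ∀ g : L, ∃ k ∈ K, ∃ w ∈ W₁, k * w = g := by
    intro g
    have hgtop : g ∈ K ⊔ W₁ := by rw [hKW₁']; trivial
    exact Subgroup.mem_sup_of_normal_left.mp hgtop
  refine ⟨?_, ?_, ?_⟩
  · rintro θ hθ ⟨x, hx, hne⟩
    have hθcl : IsClassFunction K θ := isClassFunction_of_isCharacter (isCharacter_of_irr hθ)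
    have hT : ∀ g : L, g ∈ K ↔
        ∀ n : K, θ ⟨g * n * g⁻¹, hK.conj_mem (n : L) n.2 g⟩ = θ n := by
      intro g
      constructor
      · intro hg; exact (mem_inertia K θ g).mp (le_inertia K hθcl hg)
      · intro hg
        have hgI : g ∈ inertia K θ := hg
        obtain ⟨k, hk, w, hw, rfl⟩ := hdecomp g
        by_cases hw1 : w = 1
        · rw [hw1, mul_one]; exact hk
        · exfalso
          have hwI : w ∈ inertia K θ := by
            have e : w = k⁻¹ * (k * w) := by group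
            rw [e]
            exact (inertia K θ).mul_mem ((inertia K θ).inv_mem (le_inertia K hθcl hk)) hgI
          have := hW₁le θ (hkey θ hθ w hw hw1 hwI) hx
          exact hne ((hpred θ x).mpr this)
    have hres : resTo K K le_rfl θ = θ := by funext n; rfl
    have hf : Cfsg.classInner (resTo K K le_rfl θ) θ ≠ 0 := by
      rw [hres, irr_classInner_self hθ]; exact one_ne_zero
    exact (isIrrCharacter_indFun_inertia K K le_rfl θ hθ hT θ hθ hf).1
  · rw [← hcount x₀ hx₀ hx₀1]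
    refine Nat.card_congr (Equiv.subtypeEquivRight (fun θ => ?_))
    constructor
    · intro h
      rw [hpred']
      exact (hpred _ x₀).mp (h x₀ hx₀)
    · intro h x hx
      rw [hpred]
      rw [hpred'] at h
      exact hW₁le _ h hx
  · intro θ hθ hfix
    have hθcl : IsClassFunction K θ := isClassFunction_of_isCharacter (isCharacter_of_irr hθ)
    have hT : ∀ g : L, g ∈ (⊤ : Subgroup L) ↔
        ∀ h : K, θ ⟨g * h * g⁻¹, hK.conj_mem h h.2 g⟩ = θ h := by
      intro g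
      refine ⟨fun _ => ?_, fun _ => Subgroup.mem_top g⟩
      obtain ⟨k, hk, w, hw, rfl⟩ := hdecomp g
      exact (mem_inertia K θ (k * w)).mp ((inertia K θ).mul_mem (le_inertia K hθcl hk)
        ((hpred θ w).mp (hfix w hw)))
    have hab : ∀ x ∈ (⊤ : Subgroup L), ∀ y ∈ (⊤ : Subgroup L), x * y * x⁻¹ * y⁻¹ ∈ K := by
      intro x _ y _
      let e := hcompl.symm.QuotientMulEquiv
      have hc : ∀ a b : L ⧸ K, a * b = b * a := by
        intro a b
        apply e.injective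
        rw [map_mul, map_mul]
        exact hW₁comm (e a) (e b)
      rw [← QuotientGroup.eq_one_iff]
      simp only [QuotientGroup.mk_mul, QuotientGroup.mk_inv]
      rw [hc (↑x) (↑y)]; group
    have hcop : Nat.Coprime (Nat.card K) (K.relIndex ⊤) := by
      rw [Subgroup.relIndex_top_right, hidxK]; exact hcopKW
    obtain ⟨C, hCirr, hCcard, hCsum, -⟩ := Cfsg.Agent.S1491.result K ⊤ θ hθ hT hab hcop
    refine ⟨C, ?_, hCirr, hCsum⟩
    rw [hCcard, Subgroup.relIndex_top_right, hidxK]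

end Cfsg.Agent.S1513
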