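import Mathlib
import Cfsg.Statements.S1515
import Cfsg.Agent.Lib.H8.GenChar

set_option autoImplicit false
open Cfsg

namespace Cfsg.Agent.S1515

open scoped ComplexConjugate
open Cfsg.Agent.Lib.H8 Cfsg.Agent.Lib.L0 Cfsg.Agent.Lib.H24

/-- Let (S, τ, R) be a coherence system from L to G, χ ∈ S, and ψ an integer combination of S with ⟨χ, ψ⟩ = ⟨conj χ, ψ⟩ = 0. Let τ₁ be a linear isometry on the integer combinations of χ − ψ and χ − conj χ, with virtual-character values, agreeing with τ on integer multiples of χ − conj χ. Then the sum over α ∈ R χ of the squared absolute values of ⟨τ₁(χ − ψ), α⟩ is at least ⟨χ, χ⟩; and if ⟨τ₁(χ − ψ), τ₁(χ − ψ)⟩ minus that sum is at least ⟨ψ, ψ⟩, then the sum equals ⟨χ, χ⟩ and every ⟨τ₁(χ − ψ), α⟩ with α ∈ R χ is 0 or 1. -/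
theorem result {L : Type*} [Group L] [Fintype L] {G : Type*} [Group G] [Fintype G] (S : Set (L → ℂ)) (τ : (L → ℂ) → (G → ℂ)) (R : (L → ℂ) → Finset (G → ℂ)) (hS : Cfsg.IsCoherenceSystem S τ R) (χ : L → ℂ) (hχ : χ ∈ S) (ψ : L → ℂ) (hψ : ψ ∈ Cfsg.zspan S) (h1 : Cfsg.classInner χ ψ = 0) (h2 : Cfsg.classInner (Cfsg.conjFun χ) ψ = 0) (τ₁ : (L → ℂ) → (G → ℂ)) (hτ₁ : Cfsg.IsLinearIsometryOn (Cfsg.zspan {χ - ψ, χ - Cfsg.conjFun χ}) τ₁) (hagree : ∀ n : ℤ, τ₁ (n • (χ - Cfsg.conjFun χ)) = τ (n • (χ - Cfsg.conjFun χ))) : (Cfsg.classInner χ χ).re ≤ ∑ α ∈ R χ, ‖Cfsg.classInner (τ₁ (χ - ψ)) α‖ ^ 2 ∧ ((Cfsg.classInner ψ ψ).re ≤ (Cfsg.classInner (τ₁ (χ - ψ)) (τ₁ (χ - ψ))).re - ∑ α ∈ R χ, ‖Cfsg.classInner (τ₁ (χ - ψ)) α‖ ^ 2 → (∑ α ∈ R χ, ‖Cfsg.classInner (τ₁ (χ - ψ)) α‖ ^ 2 = (Cfsg.classInner χ χ).re ∧ ∀ α ∈ R χ, Cfsg.classInner (τ₁ (χ - ψ)) α = 0 ∨ Cfsg.classInner (τ₁ (χ - ψ)) α = 1)) := by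
  classical
  obtain ⟨hadd, hsmul, hiso, hgen⟩ := hτ₁
  have hd1 : (χ - ψ) ∈ Cfsg.zspan {χ - ψ, χ - Cfsg.conjFun χ} :=
    Submodule.subset_span (by simp)
  have hd2 : (χ - Cfsg.conjFun χ) ∈ Cfsg.zspan {χ - ψ, χ - Cfsg.conjFun χ} :=
    Submodule.subset_span (by simp)
  have hag : τ₁ (χ - Cfsg.conjFun χ) = ∑ α ∈ R χ, α := by
    have := hagree 1
    rw [one_smul] at this
    rw [this, hS.sum_eq χ hχ]
  have hχχbar : Cfsg.classInner χ (Cfsg.conjFun χ) = 0 :=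
    hS.orthogonal χ hχ _ (hS.conj_mem χ hχ) (hS.conj_ne χ hχ).symm
  have hψχ : Cfsg.classInner ψ χ = 0 := by rw [← classInner_conj_symm, h1, map_zero]
  have hψχbar : Cfsg.classInner ψ (Cfsg.conjFun χ) = 0 := by
    rw [← classInner_conj_symm, h2, map_zero]
  -- integrality
  have hX : Cfsg.IsGeneralizedCharacter G (τ₁ (χ - ψ)) := hgen _ hd1
  have hk : ∀ α : G → ℂ, ∃ k : ℤ, α ∈ R χ → Cfsg.classInner (τ₁ (χ - ψ)) α = k := by
    intro α
    by_cases hα : α ∈ R χ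
    · obtain ⟨k, hk⟩ := genChar_classInner_int hX (hS.virtual χ hχ α hα)
      exact ⟨k, fun _ => hk⟩
    · exact ⟨0, fun h => absurd h hα⟩
  choose k hk using hk
  -- the sum of the `k α`
  have hsum : Cfsg.classInner χ χ = ((∑ α ∈ R χ, k α : ℤ) : ℂ) := by
    have e := hiso _ hd1 _ hd2
    rw [hag, classInner_sum_right, classInner_sub_left, classInner_sub_right, classInner_sub_right,
      hχχbar, hψχ, hψχbar] at e
    rw [Finset.sum_congr rfl (fun α hα => hk α hα)] at e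
    push_cast
    rw [e]; ring
  have hre : (Cfsg.classInner χ χ).re = ((∑ α ∈ R χ, k α : ℤ) : ℝ) := by
    rw [hsum]; simp
  have hsq : ∑ α ∈ R χ, ‖Cfsg.classInner (τ₁ (χ - ψ)) α‖ ^ 2 = ((∑ α ∈ R χ, k α ^ 2 : ℤ) : ℝ) := by
    push_cast
    apply Finset.sum_congr rfl
    intro α hα
    rw [hk α hα, Complex.norm_intCast, sq_abs]
  have hle : ∀ α ∈ R χ, k α ≤ k α ^ 2 := by
    intro α _
    nlinarith [sq_nonneg (2 * k α - 1), sq_nonneg (k α), sq_nonneg (k α - 1)]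
  have hle' : ∑ α ∈ R χ, k α ≤ ∑ α ∈ R χ, k α ^ 2 := Finset.sum_le_sum hle
  constructor
  · rw [hre, hsq]
    exact_mod_cast hle'
  · intro hhyp
    have hXX : Cfsg.classInner (τ₁ (χ - ψ)) (τ₁ (χ - ψ))
        = Cfsg.classInner χ χ + Cfsg.classInner ψ ψ := by
      rw [hiso _ hd1 _ hd1, classInner_sub_left, classInner_sub_right, classInner_sub_right, h1, hψχ]
      ring
    rw [hXX, Complex.add_re, hre, hsq] at hhyp
    have hge : ∑ α ∈ R χ, k α ^ 2 ≤ ∑ α ∈ R χ, k α := by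
      have : ((∑ α ∈ R χ, k α ^ 2 : ℤ) : ℝ) ≤ ((∑ α ∈ R χ, k α : ℤ) : ℝ) := by linarith
      exact_mod_cast this
    have heq : ∑ α ∈ R χ, k α = ∑ α ∈ R χ, k α ^ 2 := le_antisymm hle' hge
    constructor
    · rw [hre, hsq, heq]
    · intro α hα
      have := (Finset.sum_eq_sum_iff_of_le hle).mp heq α hα
      rw [hk α hα]
      have h0 : k α * (k α - 1) = 0 := by ring_nf; linarith
      rcases mul_eq_zero.mp h0 with h | h
      · left; rw [h]; simp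
      · right
        have : k α = 1 := by linarith
        rw [this]; simp

end Cfsg.Agent.S1515
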