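import Mathlib
import Cfsg.Statements.S1518
import Cfsg.Agent.Lib.H8.DadeOrbit
import Cfsg.Agent.Lib.L0.CharExceptional
import Cfsg.Agent.Lib.H24.CharConj
import Cfsg.Agent.S1500

set_option autoImplicit false
open Cfsg
open Cfsg.Agent.Lib.H8 Cfsg.Agent.Lib.L0 Cfsg.Agent.Lib.H24
open scoped ComplexConjugate

namespace Cfsg.Agent.S1518

theorem conjFun_apply' {X : Type*} (χ : X → ℂ) (x : X) : conjFun χ x = conj (χ x) := rfl

theorem dadeIsometry_comp {G : Type*} [Group G] (A : Set G) (L : Subgroup G)
    (H : G → Subgroup G) (f : ℂ → ℂ) (hf : f 0 = 0) (α : L → ℂ) :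
    Cfsg.dadeIsometry A L H (fun x => f (α x)) = fun g => f (Cfsg.dadeIsometry A L H α g) := by
  funext g
  unfold Cfsg.dadeIsometry
  by_cases h : ∃ a : ↥L, (a : G) ∈ A ∧ ∃ x : G, ∃ u ∈ H (a : G), x * g * x⁻¹ = (a : G) * u
  · rw [dif_pos h, dif_pos h]
  · rw [dif_neg h, dif_neg h, hf]

theorem dadeIsometry_one {G : Type*} [Group G] {A : Set G} {L : Subgroup G}
    {H : G → Subgroup G} (hD : Cfsg.DadeHypothesis A L H) (α : L → ℂ) :
    Cfsg.dadeIsometry A L H α 1 = 0 := by
  apply dadeIsometry_eq_zero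
  rintro ⟨a, ha, x, u, hu, hx⟩
  have h1 : (a : G) * u = 1 := by rw [← hx]; group
  have hu' : u = (a : G)⁻¹ := eq_inv_of_mul_eq_one_right h1
  have hu1 : u = 1 := dade_eq_one_of_mem hD ha hu (by rw [hu']; exact L.inv_mem a.2)
  rw [hu1, mul_one] at h1
  rw [h1] at ha
  exact hD.one_not_mem ha

/-- Under the Dade hypothesis for (A, L, H): if χ is an irreducible character of L vanishing at every non-identity element of L outside A, then the Dade image of χ − conj χ equals μ − conj μ for some irreducible character μ of G. -/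
theorem result {G : Type*} [Group G] [Fintype G] (A : Set G) (L : Subgroup G) [Fintype L] (H : G → Subgroup G) (hD : Cfsg.DadeHypothesis A L H) (χ : L → ℂ) (hχ : Cfsg.IsIrrCharacter L χ) (hsupp : ∀ x : L, x ≠ 1 → (x : G) ∉ A → χ x = 0) : ∃ μ : G → ℂ, Cfsg.IsIrrCharacter G μ ∧ Cfsg.dadeIsometry A L H (χ - Cfsg.conjFun χ) = μ - Cfsg.conjFun μ := by
  classical
  have hχc : IsCharacter L χ := isCharacter_of_irr hχ
  have hχbar : IsIrrCharacter L (conjFun χ) := isIrrCharacter_conj hχ
  obtain ⟨α, hαdef⟩ : ∃ α : L → ℂ, α = χ - conjFun χ := ⟨_, rfl⟩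
  rw [← hαdef]
  have hαg : IsGeneralizedCharacter L α :=
    ⟨χ, conjFun χ, hχc, isCharacter_of_irr hχbar, hαdef⟩
  have hαc : IsClassFunction L α := isClassFunction_of_isGeneralizedCharacter hαg
  have hαA : ∀ x : L, (x : G) ∉ A → α x = 0 := by
    intro x hx
    rw [hαdef]
    by_cases h1 : x = 1
    · subst h1
      obtain ⟨n, -, hχ1⟩ := irr_apply_one_pos hχ
      simp [conjFun_apply', hχ1]
    · simp [conjFun_apply', hsupp x h1 hx]
  have hθg := dade_isGeneralizedCharacter hD α hαg hαA
  by_cases hreal : conjFun χ = χ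
  · refine ⟨1, Cfsg.Agent.Lib.L0.isIrrCharacter_one, ?_⟩
    have hα0 : α = fun _ => (0 : ℂ) := by rw [hαdef, hreal]; funext x; simp
    have h0 := dadeIsometry_comp A L H (fun _ => (0 : ℂ)) rfl α
    rw [hα0, h0]
    funext g
    simp [conjFun_apply']
  · have hnorm : classInner (dadeIsometry A L H α) (dadeIsometry A L H α) = 2 := by
      rw [(S1500.result A L H hD α hαc hαA).1 α hαc hαA, hαdef]
      have h1 := irr_orthonormal (⟨χ, hχ⟩ : IrrCharacter L) ⟨conjFun χ, hχbar⟩
      have h2 := irr_orthonormal (⟨conjFun χ, hχbar⟩ : IrrCharacter L) ⟨χ, hχ⟩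
      have hne : (⟨χ, hχ⟩ : IrrCharacter L) ≠ ⟨conjFun χ, hχbar⟩ := by
        intro h
        exact hreal (congrArg Subtype.val h).symm
      rw [if_neg hne] at h1
      rw [if_neg hne.symm] at h2
      rw [classInner_sub_left, classInner_sub_right, classInner_sub_right, h1, h2,
        irr_classInner_self hχ, irr_classInner_self hχbar]
      norm_num
    have h1 : dadeIsometry A L H α 1 = 0 := dadeIsometry_one hD α
    obtain ⟨a, b, hab, hθ⟩ := genChar_norm_two_vanish hθg hnorm h1
    have hconj : ∀ g, conj (dadeIsometry A L H α g) = -dadeIsometry A L H α g := by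
      intro g
      have e1 := congrFun (dadeIsometry_comp A L H (fun z => conj z) (map_zero _) α) g
      have e2 := congrFun (dadeIsometry_comp A L H (fun z => -z) neg_zero α) g
      rw [← e1, ← e2]
      congr 1
      funext x
      rw [hαdef]
      simp [conjFun_apply']
    have hsum : (irrConj a : G → ℂ) + (a : G → ℂ) = (b : G → ℂ) + (irrConj b : G → ℂ) := by
      funext g
      have := hconj g
      rw [hθ] at this
      simp only [Pi.sub_apply, Pi.add_apply, map_sub, irrConj_apply] at this ⊢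
      linear_combination this
    have hinner := congrArg (fun f => classInner f (b : G → ℂ)) hsum
    simp only [classInner_add_left, irr_orthonormal] at hinner
    have hba : irrConj a = b := by
      by_contra hne
      rw [if_neg hne, if_neg hab] at hinner
      split_ifs at hinner <;> norm_num at hinner
    refine ⟨a, a.2, ?_⟩
    rw [hθ, ← hba]
    rfl

end Cfsg.Agent.S1518
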