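import Mathlib
import Cfsg.Statements.S1519
import Cfsg.Agent.Lib.H8.CohExtend

set_option autoImplicit false
open Cfsg
open Cfsg.Agent.Lib.H8 Cfsg.Agent.Lib.L0 Cfsg.Agent.Lib.H24

namespace Cfsg.Agent.S1519

/-- Let K be a solvable normal subgroup of the finite group L and (S, τ, R) a coherence system from L to G where S is the set of functions induced from non-principal irreducible characters of K; write S(A) for those induced from characters whose kernel contains A. Let A, B, C, D be normal subgroups of L with A < K, B < K, B ≤ D ≤ C ≤ K and every commutator of D with C in B. If S(A) is coherent and 4 * [L:C]^2 * [C:D] < ([K:A] − 1)^2, then S(B) is coherent. -/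
theorem result {L : Type*} [Group L] [Fintype L] {G : Type*} [Group G] [Fintype G] (K : Subgroup L) [hK : K.Normal] (hsolv : Group.IsSolvable K) (τ : (L → ℂ) → (G → ℂ)) (R : (L → ℂ) → Finset (G → ℂ)) (hS : Cfsg.IsCoherenceSystem (Cfsg.inducedIrrAbove K ⊥) τ R) (A B C D : Subgroup L) [A.Normal] [B.Normal] [C.Normal] [D.Normal] (hAK : A < K) (hBK : B < K) (hBD : B ≤ D) (hDC : D ≤ C) (hCK : C ≤ K) (hcent : ∀ x ∈ D, ∀ y ∈ C, x * y * x⁻¹ * y⁻¹ ∈ B) (hA : Cfsg.IsCoherent (Cfsg.inducedIrrAbove K A) {1}ᶜ τ) (hlt : 4 * C.index ^ 2 * D.relIndex C < (A.relIndex K - 1) ^ 2) : Cfsg.IsCoherent (Cfsg.inducedIrrAbove K B) {1}ᶜ τ := by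
  classical
  have hAK' : ¬ K ≤ A := fun h => (lt_irrefl A) (lt_of_lt_of_le hAK h)
  have hBK' : ¬ K ≤ B := fun h => (lt_irrefl B) (lt_of_lt_of_le hBK h)
  haveI : Finite ↥K := inferInstance
  apply coherent_of_degree_bound K hsolv τ R hS A hAK' hA (inducedIrrAbove K B)
    (inducedIrrAbove_subset_bot K B) (fun φ hφ => inducedIrrAbove_conj K B hφ)
  · obtain ⟨χ, hχ, -⟩ := exists_linear_induced K B hsolv hBK'
    exact ⟨χ, hχ⟩
  · rintro φ ⟨θ, hθ, hθ1, hθB, rfl⟩
    refine ⟨charDegree θ, ?_, ?_⟩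
    · have h1 := charDegree_irr (⟨θ, hθ⟩ : IrrCharacter ↥K)
      have h2 : ((charDegree θ : ℕ) : ℂ) = θ 1 := h1
      rw [indFun_one, ← h2]
      push_cast
      rfl
    · have hb := induced_degree_bound K B C D hBD hDC hCK hcent θ hθ hθB
      have hCi : C.index = C.relIndex K * K.index := (Subgroup.relIndex_mul_index hCK).symm
      by_contra hcon
      push Not at hcon
      have h1 : (A.relIndex K - 1) ^ 2 ≤ (2 * K.index * charDegree θ) ^ 2 := Nat.pow_le_pow_left hcon 2
      have h2 : (2 * K.index * charDegree θ) ^ 2 = 4 * K.index ^ 2 * charDegree θ ^ 2 := by ring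
      have h3 : 4 * K.index ^ 2 * charDegree θ ^ 2 ≤ 4 * K.index ^ 2 * (C.relIndex K ^ 2 * D.relIndex C) :=
        Nat.mul_le_mul_left _ hb
      have h4 : 4 * K.index ^ 2 * (C.relIndex K ^ 2 * D.relIndex C) = 4 * C.index ^ 2 * D.relIndex C := by
        rw [hCi]; ring
      omega

end Cfsg.Agent.S1519
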