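import Mathlib
import Cfsg.Statements.S1520
import Cfsg.Agent.Lib.H8.CohExtend
import Cfsg.Agent.S1519

set_option autoImplicit false
open Cfsg
open Cfsg.Agent.Lib.H8 Cfsg.Agent.Lib.L0 Cfsg.Agent.Lib.H24
open scoped commutatorElement

namespace Cfsg.Agent.S1520

/-- If `H/M` is nilpotent and `H₁ ≤ M [H₁, H]` then `H₁ ≤ M`. -/
theorem le_of_le_sup_commutator {L : Type*} [Group L] (M H₁ H : Subgroup L) [M.Normal]
    (hMH₁ : M ≤ H₁) (hH₁H : H₁ ≤ H) [(M.subgroupOf H).Normal]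
    (hnil : Group.IsNilpotent (↥H ⧸ M.subgroupOf H)) (h : H₁ ≤ M ⊔ ⁅H₁, H⁆) : H₁ ≤ M := by
  obtain ⟨π, hπ⟩ : ∃ π : ↥H →* ↥H ⧸ M.subgroupOf H, π = QuotientGroup.mk' (M.subgroupOf H) := ⟨_, rfl⟩
  have hπs : Function.Surjective π := by rw [hπ]; exact QuotientGroup.mk'_surjective _
  have hπker : ∀ x : ↥H, π x = 1 ↔ (x : L) ∈ M := by
    intro x
    rw [hπ, QuotientGroup.mk'_apply, QuotientGroup.eq_one_iff, Subgroup.mem_subgroupOf]
  obtain ⟨N, hN⟩ : ∃ N : Subgroup (↥H ⧸ M.subgroupOf H), N = (H₁.subgroupOf H).map π := ⟨_, rfl⟩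
  have hcomm : ⁅H₁, H⁆ = (⁅H₁.subgroupOf H, (⊤ : Subgroup ↥H)⁆).map H.subtype := by
    rw [Subgroup.map_commutator, Subgroup.map_subgroupOf_eq_of_le hH₁H, ← MonoidHom.range_eq_map,
      Subgroup.range_subtype]
  have h1 : N ≤ ⁅N, (⊤ : Subgroup (↥H ⧸ M.subgroupOf H))⁆ := by
    rw [hN]
    rintro _ ⟨x, hx, rfl⟩
    have hxL : (x : L) ∈ M ⊔ ⁅H₁, H⁆ := h (Subgroup.mem_subgroupOf.mp hx)
    have hxL' : (x : L) ∈ (↑(M ⊔ ⁅H₁, H⁆) : Set L) := hxL
    rw [Subgroup.normal_mul, Set.mem_mul] at hxL'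
    obtain ⟨m, hm, c, hc, hmc⟩ := hxL'
    have hc' : c ∈ (⁅H₁.subgroupOf H, (⊤ : Subgroup ↥H)⁆).map H.subtype := by rw [← hcomm]; exact hc
    obtain ⟨c', hc'1, hc'2⟩ := hc'
    have hmH : m ∈ H := hH₁H (hMH₁ hm)
    have hxeq : x = ⟨m, hmH⟩ * c' := by
      apply Subtype.ext
      rw [Subgroup.coe_mul, ← hmc, ← hc'2]
      rfl
    have hπm : π ⟨m, hmH⟩ = 1 := (hπker _).mpr hm
    rw [hxeq, map_mul, hπm, one_mul]
    have : π c' ∈ (⁅H₁.subgroupOf H, (⊤ : Subgroup ↥H)⁆).map π := Subgroup.mem_map_of_mem _ hc'1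
    rwa [Subgroup.map_commutator, Subgroup.map_top_of_surjective π hπs] at this
  have h2 : ∀ n : ℕ, N ≤ (⊤ : Subgroup (↥H ⧸ M.subgroupOf H)).lowerCentralSeries n := by
    intro n
    induction n with
    | zero => rw [Subgroup.lowerCentralSeries_zero]; exact le_top
    | succ n ih =>
      rw [Subgroup.lowerCentralSeries_succ]
      exact h1.trans (Subgroup.commutator_mono ih le_rfl)
  obtain ⟨n, hn⟩ := Subgroup.nilpotent_iff_lowerCentralSeries.mp hnil
  have h3 : N = ⊥ := le_bot_iff.mp (hn ▸ h2 n)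
  intro x hx
  have hxH : x ∈ H := hH₁H hx
  have : π ⟨x, hxH⟩ ∈ N := by
    rw [hN]; exact Subgroup.mem_map_of_mem _ (Subgroup.mem_subgroupOf.mpr hx)
  rw [h3, Subgroup.mem_bot, hπker] at this
  exact this

theorem arith (l k h : ℕ) (hk : 1 ≤ k) (hh : 4 * l ^ 2 + 1 < h) :
    4 * (k * l) ^ 2 * h < (h * k - 1) ^ 2 := by
  have h1 : 1 ≤ h * k := by nlinarith
  zify [h1]
  have hh' : (4 * (l : ℤ) ^ 2 + 2) ≤ h := by exact_mod_cast hh
  have hk' : (1 : ℤ) ≤ k := by exact_mod_cast hk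
  have hh0 : (0 : ℤ) ≤ h := by positivity
  nlinarith [mul_nonneg (mul_nonneg hh0 (sub_nonneg.mpr hk')) (le_trans zero_le_one hk'),
    mul_nonneg (mul_nonneg hh0 (le_trans zero_le_one hk')) (le_trans zero_le_one hk'),
    mul_le_mul_of_nonneg_left hh' (mul_nonneg (mul_nonneg hh0 (le_trans zero_le_one hk')) (le_trans zero_le_one hk'))]

theorem relIndex_pos' {L : Type*} [Group L] [Finite L] (H K : Subgroup L) : 1 ≤ H.relIndex K := by
  have : (H.subgroupOf K).index ≠ 0 := Subgroup.index_ne_zero_of_finite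
  exact Nat.pos_of_ne_zero this

theorem main {L : Type*} [Group L] [Fintype L] {G : Type*} [Group G] [Fintype G] (K : Subgroup L)
    [hK : K.Normal] (hsolv : Group.IsSolvable K) (τ : (L → ℂ) → (G → ℂ))
    (R : (L → ℂ) → Finset (G → ℂ)) (hS : Cfsg.IsCoherenceSystem (Cfsg.inducedIrrAbove K ⊥) τ R)
    (M H : Subgroup L) [M.Normal] [H.Normal] (hHK : H ≤ K) [(M.subgroupOf H).Normal]
    (hnil : Group.IsNilpotent (↥H ⧸ M.subgroupOf H)) :
    ∀ (c : ℕ) (H₁ : Subgroup L), H₁.Normal → Nat.card H₁ ≤ c → M ≤ H₁ → H₁ ≤ H →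
      Cfsg.IsCoherent (Cfsg.inducedIrrAbove K H₁) {1}ᶜ τ → 4 * K.index ^ 2 + 1 < H₁.relIndex H →
      Cfsg.IsCoherent (Cfsg.inducedIrrAbove K M) {1}ᶜ τ := by
  intro c
  induction c with
  | zero =>
    intro H₁ _ hc
    exact absurd hc (by have := Nat.card_pos (α := H₁); omega)
  | succ c ih =>
    intro H₁ hH₁n hc hMH₁ hH₁H hcoh hbig
    haveI := hH₁n
    by_cases hle : H₁ ≤ M
    · have : H₁ = M := le_antisymm hle hMH₁
      rw [← this]; exact hcoh
    · obtain ⟨M₁, hM₁⟩ : ∃ M₁ : Subgroup L, M₁ = M ⊔ ⁅H₁, H⁆ := ⟨_, rfl⟩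
      haveI : (⁅H₁, H⁆).Normal := Subgroup.commutator_normal H₁ H
      haveI hM₁n : M₁.Normal := by rw [hM₁]; infer_instance
      have hMM₁ : M ≤ M₁ := by rw [hM₁]; exact le_sup_left
      have hM₁H₁ : M₁ ≤ H₁ := by
        rw [hM₁]; exact sup_le hMH₁ (Subgroup.commutator_le_left H₁ H)
      have hne : M₁ ≠ H₁ := by
        intro h
        apply hle
        apply le_of_le_sup_commutator M H₁ H hMH₁ hH₁H hnil
        rw [← hM₁, h]
      have hlt : M₁ < H₁ := lt_of_le_of_ne hM₁H₁ hne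
      have hcard : Nat.card M₁ < Nat.card H₁ := by
        have h1 := Subgroup.card_dvd_of_le hM₁H₁
        have h2 : Nat.card M₁ ≤ Nat.card H₁ := Nat.le_of_dvd Nat.card_pos h1
        rcases Nat.lt_or_ge (Nat.card M₁) (Nat.card H₁) with h3 | h3
        · exact h3
        · exfalso
          apply hne
          exact Subgroup.eq_of_le_of_card_ge hM₁H₁ h3
      have hH₁ltH : H₁ < H := by
        refine lt_of_le_of_ne hH₁H ?_
        intro h
        rw [h, Subgroup.relIndex_self] at hbig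
        omega
      have hcent : ∀ x ∈ H₁, ∀ y ∈ H, x * y * x⁻¹ * y⁻¹ ∈ M₁ := by
        intro x hx y hy
        rw [hM₁]
        exact (le_sup_right : ⁅H₁, H⁆ ≤ M ⊔ ⁅H₁, H⁆) (Subgroup.commutator_mem_commutator hx hy)
      have hk1 : 1 ≤ H.relIndex K := relIndex_pos' H K
      have hidx : H.index = H.relIndex K * K.index := (Subgroup.relIndex_mul_index hHK).symm
      have hrel : H₁.relIndex K = H₁.relIndex H * H.relIndex K :=
        (Subgroup.relIndex_mul_relIndex H₁ H K hH₁H hHK).symm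
      have hcoh₁ : Cfsg.IsCoherent (Cfsg.inducedIrrAbove K M₁) {1}ᶜ τ := by
        apply Cfsg.Agent.S1519.result K hsolv τ R hS H₁ M₁ H H₁ (lt_of_lt_of_le hH₁ltH hHK)
          (lt_of_lt_of_le hlt (hH₁H.trans hHK)) hM₁H₁ hH₁H hHK hcent hcoh
        rw [hidx, hrel]
        exact arith K.index (H.relIndex K) (H₁.relIndex H) hk1 hbig
      apply ih M₁ hM₁n (by omega) hMM₁ (hM₁H₁.trans hH₁H) hcoh₁
      have h1 := Subgroup.relIndex_mul_relIndex M₁ H₁ H hM₁H₁ hH₁H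
      have h2 : 1 ≤ M₁.relIndex H₁ := relIndex_pos' M₁ H₁
      calc 4 * K.index ^ 2 + 1 < H₁.relIndex H := hbig
        _ ≤ M₁.relIndex H₁ * H₁.relIndex H := Nat.le_mul_of_pos_left _ h2
        _ = M₁.relIndex H := h1

/-- Let K be a solvable normal subgroup of the finite group L and (S, τ, R) a coherence system from L to G with S the functions induced from non-principal irreducible characters of K; S(A) the members of S induced from characters whose kernel contains A. Let M ≤ H₁ ≤ H ≤ K be normal subgroups of L such that every term of the lower central series of H eventually lies in M (H/M nilpotent), S(H₁) is coherent and [H:H₁] > 4 * [L:K]^2 + 1. Then S(M) is coherent. -/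
theorem result {L : Type*} [Group L] [Fintype L] {G : Type*} [Group G] [Fintype G] (K : Subgroup L) [hK : K.Normal] (hsolv : Group.IsSolvable K) (τ : (L → ℂ) → (G → ℂ)) (R : (L → ℂ) → Finset (G → ℂ)) (hS : Cfsg.IsCoherenceSystem (Cfsg.inducedIrrAbove K ⊥) τ R) (M H₁ H : Subgroup L) [M.Normal] [H₁.Normal] [H.Normal] (hMH₁ : M ≤ H₁) (hH₁H : H₁ ≤ H) (hHK : H ≤ K) [(M.subgroupOf H).Normal] (hnil : Group.IsNilpotent (↥H ⧸ M.subgroupOf H)) (hcoh : Cfsg.IsCoherent (Cfsg.inducedIrrAbove K H₁) {1}ᶜ τ) (hbig : 4 * K.index ^ 2 + 1 < H₁.relIndex H) : Cfsg.IsCoherent (Cfsg.inducedIrrAbove K M) {1}ᶜ τ := by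
  exact main K hsolv τ R hS M H hHK hnil (Nat.card H₁) H₁ inferInstance le_rfl hMH₁ hH₁H hcoh hbig

end Cfsg.Agent.S1520
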