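import Mathlib
import Cfsg.Statements.S1521
import Cfsg.Agent.Lib.H8.CohFrob
import Cfsg.Agent.Lib.H22.LowerCentralP
import Cfsg.Agent.S1520

set_option autoImplicit false
open Cfsg
open Cfsg.Agent.Lib.H8 Cfsg.Agent.Lib.L0 Cfsg.Agent.Lib.H24
open scoped commutatorElement

namespace Cfsg.Agent.S1521

/-- if `|K:H₁|` is not a prime power (with `K/H₁` abelian) there is an `L`-normal subgroup
strictly between -/
theorem exists_between {L : Type*} [Group L] [Finite L] (K H₁ : Subgroup L) [K.Normal]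
    [H₁.Normal] (hKK : ⁅K, K⁆ ≤ H₁) (hH₁K : H₁ ≤ K)
    (hnpp : ¬ ∃ p m : ℕ, p.Prime ∧ H₁.relIndex K = p ^ m) :
    ∃ N : Subgroup L, N.Normal ∧ H₁ < N ∧ N < K := by
  classical
  obtain ⟨r, hr⟩ : ∃ r : ℕ, r = H₁.relIndex K := ⟨_, rfl⟩
  have hr0 : r ≠ 0 := by
    have : (H₁.subgroupOf K).index ≠ 0 := Subgroup.index_ne_zero_of_finite
    rw [hr]; exact this
  have hr1 : r ≠ 1 := by
    intro h
    exact hnpp ⟨2, 0, Nat.prime_two, by rw [← hr, h, pow_zero]⟩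
  obtain ⟨p, hpdef⟩ : ∃ p, p = r.minFac := ⟨_, rfl⟩
  have hp : p.Prime := hpdef ▸ Nat.minFac_prime hr1
  have hpr : p ∣ r := hpdef ▸ Nat.minFac_dvd r
  have hq : ∃ q : ℕ, q.Prime ∧ q ∣ r ∧ q ≠ p := by
    by_contra hcon
    push Not at hcon
    apply hnpp
    refine ⟨p, r.primeFactorsList.length, hp, ?_⟩
    rw [← hr]
    exact Nat.eq_prime_pow_of_unique_prime_dvd hr0 (fun {d} hd hdr => hcon d hd hdr)
  obtain ⟨q, hq, hqr, hqp⟩ := hq
  obtain ⟨π, hπ⟩ : ∃ π : L →* L ⧸ H₁, π = QuotientGroup.mk' H₁ := ⟨_, rfl⟩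
  have hπs : Function.Surjective π := by rw [hπ]; exact QuotientGroup.mk'_surjective _
  have hπker : π.ker = H₁ := by rw [hπ]; exact QuotientGroup.ker_mk' H₁
  have hπ1 : ∀ x : L, π x = 1 ↔ x ∈ H₁ := by
    intro x; rw [← MonoidHom.mem_ker, hπker]
  obtain ⟨KQ, hKQ⟩ : ∃ KQ : Subgroup (L ⧸ H₁), KQ = K.map π := ⟨_, rfl⟩
  have hKQn : KQ.Normal := by rw [hKQ]; exact Subgroup.Normal.map inferInstance π hπs
  have hKQcard : Nat.card KQ = r := by rw [hKQ, hr, ← Subgroup.relIndex_ker, hπker]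
  have hcommKQ : ∀ a ∈ KQ, ∀ b ∈ KQ, a * b = b * a := by
    rw [hKQ]
    rintro _ ⟨k, hk, rfl⟩ _ ⟨k', hk', rfl⟩
    rw [← map_mul, ← map_mul]
    have h1 : π (k * k' * k⁻¹ * k'⁻¹) = 1 :=
      (hπ1 _).mpr (hKK (Subgroup.commutator_mem_commutator hk hk'))
    have h2 : k * k' = (k * k' * k⁻¹ * k'⁻¹) * (k' * k) := by group
    rw [h2, map_mul, h1, one_mul]
  haveI : Fact p.Prime := ⟨hp⟩
  haveI : Fact q.Prime := ⟨hq⟩
  obtain ⟨yp, hyp⟩ := exists_prime_orderOf_dvd_card' (G := KQ) p (hKQcard ▸ hpr)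
  obtain ⟨yq, hyq⟩ := exists_prime_orderOf_dvd_card' (G := KQ) q (hKQcard ▸ hqr)
  rw [← Subgroup.orderOf_coe] at hyp hyq
  -- the p-torsion subgroup of KQ
  let T : Subgroup (L ⧸ H₁) :=
    { carrier := {y | y ∈ KQ ∧ ∃ j : ℕ, y ^ p ^ j = 1}
      one_mem' := ⟨KQ.one_mem, 0, one_pow _⟩
      mul_mem' := by
        rintro a b ⟨ha, j, hj⟩ ⟨hb, k, hk⟩
        refine ⟨KQ.mul_mem ha hb, j + k, ?_⟩
        have hc : Commute a b := hcommKQ a ha b hb
        rw [hc.mul_pow, pow_add, pow_mul, hj, one_pow, mul_comm (p ^ j), pow_mul, hk, one_pow, one_mul]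
      inv_mem' := by
        rintro a ⟨ha, j, hj⟩
        exact ⟨KQ.inv_mem ha, j, by rw [inv_pow, hj, inv_one]⟩ }
  have hTmem : ∀ y : L ⧸ H₁, y ∈ T ↔ y ∈ KQ ∧ ∃ j : ℕ, y ^ p ^ j = 1 := fun y => Iff.rfl
  have hTn : T.Normal := by
    constructor
    intro y hy g
    rw [hTmem] at hy ⊢
    obtain ⟨hyK, j, hj⟩ := hy
    refine ⟨hKQn.conj_mem y hyK g, j, ?_⟩
    rw [conj_pow, hj, mul_one, mul_inv_cancel]
  refine ⟨T.comap π, Subgroup.Normal.comap hTn π, ?_, ?_⟩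
  · refine lt_of_le_of_ne ?_ ?_
    · intro x hx
      rw [Subgroup.mem_comap, (hπ1 x).mpr hx]
      exact T.one_mem
    · intro h
      have hypK : (yp : L ⧸ H₁) ∈ K.map π := by rw [← hKQ]; exact yp.2
      obtain ⟨x, hxK, hx⟩ := hypK
      have hxN : x ∈ T.comap π := by
        rw [Subgroup.mem_comap, hx, hTmem]
        refine ⟨yp.2, 1, ?_⟩
        rw [pow_one, ← hyp]; exact pow_orderOf_eq_one _
      rw [← h, ← hπ1, hx] at hxN
      rw [hxN, orderOf_one] at hyp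
      exact hp.one_lt.ne hyp
  · refine lt_of_le_of_ne ?_ ?_
    · intro x hx
      rw [Subgroup.mem_comap, hTmem] at hx
      have := hx.1
      rw [hKQ] at this
      obtain ⟨k, hk, hkx⟩ := this
      have h1 : π (k⁻¹ * x) = 1 := by rw [map_mul, map_inv, hkx, inv_mul_cancel]
      have h2 : k⁻¹ * x ∈ K := hH₁K ((hπ1 _).mp h1)
      have : x = k * (k⁻¹ * x) := by group
      rw [this]; exact K.mul_mem hk h2
    · intro h
      have hyqK : (yq : L ⧸ H₁) ∈ K.map π := by rw [← hKQ]; exact yq.2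
      obtain ⟨x, hxK, hx⟩ := hyqK
      have hxK' : x ∈ T.comap π := by rw [h]; exact hxK
      rw [Subgroup.mem_comap, hx, hTmem] at hxK'
      obtain ⟨-, j, hj⟩ := hxK'
      have h1 : q ∣ p ^ j := by rw [← hyq]; exact orderOf_dvd_of_pow_eq_one hj
      have h2 : q ∣ p := hq.dvd_of_dvd_pow h1
      exact hqp ((Nat.prime_dvd_prime_iff_eq hq hp).mp h2)

theorem arith2 (e p : ℕ) (he : Odd e) (hp : Odd p) (hp1 : 1 < p) (hd : e ∣ p - 1) : 2 * e + 1 ≤ p := by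
  apply ge_of_modEq_odd e p he hp hp1
  exact ((Nat.modEq_iff_dvd' (by omega)).mpr hd).symm

/-- Let K be a solvable normal subgroup of the finite group L of odd order and (S, τ, R) a coherence system from L to G with S the functions induced from non-principal irreducible characters of K; S(A) as before. Let M ≤ K be normal in L with K/M nilpotent, H₁ = [K, K] ⊔ M, H₁ < K < L, and suppose every element of K outside H₁ is centralised modulo H₁ only from inside K (L/H₁ is a Frobenius group with kernel K/H₁). Suppose one of the following: some normal subgroup of L lies strictly between H₁ and K; or [K:H₁] > 4[L:K]^2 + 1; or [K:M] is not a prime power; or [K,K] ≤ M; or [K:M] is a power of a prime p with [L:K] dividing p − 1. Then S(M) is coherent. -/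
theorem result {L : Type*} [Group L] [Fintype L] {G : Type*} [Group G] [Fintype G] (K : Subgroup L) [hK : K.Normal] (hsolv : Group.IsSolvable K) (τ : (L → ℂ) → (G → ℂ)) (R : (L → ℂ) → Finset (G → ℂ)) (hS : Cfsg.IsCoherenceSystem (Cfsg.inducedIrrAbove K ⊥) τ R) (hodd : Odd (Nat.card L)) (M : Subgroup L) [M.Normal] (hMK : M ≤ K) [(M.subgroupOf K).Normal] (hnil : Group.IsNilpotent (↥K ⧸ M.subgroupOf K)) (H₁ : Subgroup L) (hH₁ : H₁ = ⁅K, K⁆ ⊔ M) (hH₁K : H₁ < K) (hKL : K < ⊤) (hfrob : ∀ k ∈ K, k ∉ H₁ → ∀ x : L, x * k * x⁻¹ * k⁻¹ ∈ H₁ → x ∈ K) (hgood : (∃ N : Subgroup L, N.Normal ∧ H₁ < N ∧ N < K) ∨ 4 * K.index ^ 2 + 1 < H₁.relIndex K ∨ (¬ ∃ p m : ℕ, p.Prime ∧ M.relIndex K = p ^ m) ∨ ⁅K, K⁆ ≤ M ∨ (∃ p m : ℕ, p.Prime ∧ M.relIndex K = p ^ m ∧ K.index ∣ p - 1)) : Cfsg.IsCoherent (Cfsg.inducedIrrAbove K M) {1}ᶜ τ := by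
  classical
  subst hH₁
  haveI : (⁅K, K⁆).Normal := Subgroup.commutator_normal K K
  haveI hH₁n : (⁅K, K⁆ ⊔ M).Normal := inferInstance
  have hKK : ⁅K, K⁆ ≤ ⁅K, K⁆ ⊔ M := le_sup_left
  have hMH₁ : M ≤ ⁅K, K⁆ ⊔ M := le_sup_right
  have hcohH₁ : IsCoherent (inducedIrrAbove K (⁅K, K⁆ ⊔ M)) {1}ᶜ τ :=
    coherent_of_commutator_le K hsolv τ R hS _ hKK (not_le_of_gt hH₁K)
  have key : 4 * K.index ^ 2 + 1 < (⁅K, K⁆ ⊔ M).relIndex K →
      IsCoherent (inducedIrrAbove K M) {1}ᶜ τ := fun hb =>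
    Cfsg.Agent.S1520.result K hsolv τ R hS M (⁅K, K⁆ ⊔ M) K hMH₁ hH₁K.le le_rfl hnil hcohH₁ hb
  have keyA : (∃ N : Subgroup L, N.Normal ∧ ⁅K, K⁆ ⊔ M < N ∧ N < K) →
      IsCoherent (inducedIrrAbove K M) {1}ᶜ τ := by
    rintro ⟨N, hNn, h1, h2⟩
    haveI := hNn
    exact key (big_of_between hodd K _ N hKK h1 h2 hfrob)
  have keyD : ⁅K, K⁆ ≤ M → IsCoherent (inducedIrrAbove K M) {1}ᶜ τ := by
    intro h
    have : ⁅K, K⁆ ⊔ M = M := sup_eq_right.mpr h
    rw [this] at hcohH₁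
    exact hcohH₁
  haveI : Group.IsNilpotent (↥K ⧸ M.subgroupOf K) := hnil
  have hQcard : Nat.card (↥K ⧸ M.subgroupOf K) = M.relIndex K := rfl
  have hcidx := index_commutator_quotient K M hMK
  have hMltK : M < K := lt_of_le_of_lt hMH₁ hH₁K
  rcases hgood with ha | hb | hc | hd | ⟨p, m, hp, hpm, hdvd⟩
  · exact keyA ha
  · exact key hb
  · apply keyA
    apply exists_between K _ hKK hH₁K.le
    rintro ⟨p, m', hp, hpm'⟩
    apply hc
    refine ⟨p, (M.relIndex K).primeFactorsList.length, hp, ?_⟩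
    have hne : M.relIndex K ≠ 0 := by
      have : (M.subgroupOf K).index ≠ 0 := Subgroup.index_ne_zero_of_finite
      exact this
    apply Nat.eq_prime_pow_of_unique_prime_dvd hne
    intro q hq hqd
    have h1 := prime_dvd_index_commutator (E := ↥K ⧸ M.subgroupOf K) q hq (hQcard ▸ hqd)
    rw [hcidx, hpm'] at h1
    exact (Nat.prime_dvd_prime_iff_eq hq hp).mp (hq.dvd_of_dvd_pow h1)
  · exact keyD hd
  · haveI : Fact p.Prime := ⟨hp⟩
    have hQp : IsPGroup p (↥K ⧸ M.subgroupOf K) := IsPGroup.of_card (hQcard.trans hpm)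
    by_cases hab : ∀ a b : ↥K ⧸ M.subgroupOf K, a * b = b * a
    · apply keyD
      rw [Subgroup.commutator_le]
      intro a ha b hb
      have h1 := hab (QuotientGroup.mk ⟨a, ha⟩) (QuotientGroup.mk ⟨b, hb⟩)
      have h2 : ((⟨a, ha⟩ * ⟨b, hb⟩ : ↥K) : ↥K ⧸ M.subgroupOf K) = ((⟨b, hb⟩ * ⟨a, ha⟩ : ↥K) : ↥K ⧸ M.subgroupOf K) := h1
      rw [eq_comm, QuotientGroup.eq, Subgroup.mem_subgroupOf] at h2
      have h3 : ⁅a, b⁆ = a * b * a⁻¹ * b⁻¹ := rfl
      have h4 : ((((⟨b, hb⟩ * ⟨a, ha⟩ : ↥K))⁻¹ * (⟨a, ha⟩ * ⟨b, hb⟩ : ↥K) : ↥K) : L) = a⁻¹ * (b⁻¹ * a * b * a⁻¹) * a := by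
        simp only [Subgroup.coe_mul, Subgroup.coe_inv, mul_inv_rev]
        group
      rw [h4] at h2
      have h5 : b⁻¹ * a * b * a⁻¹ ∈ M := by
        have := (inferInstance : M.Normal).conj_mem _ h2 a
        have e : a * (a⁻¹ * (b⁻¹ * a * b * a⁻¹) * a) * a⁻¹ = b⁻¹ * a * b * a⁻¹ := by group
        rwa [e] at this
      have h6 : a * b * a⁻¹ * b⁻¹ = b * (b⁻¹ * a * b * a⁻¹) * b⁻¹ := by group
      rw [h3, h6]
      exact (inferInstance : M.Normal).conj_mem _ h5 b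
    · apply key
      have h1 := Cfsg.Agent.Lib.H22.sq_le_index_commutator hQp hab
      rw [hcidx] at h1
      have hLodd := hodd
      have heodd : Odd K.index := Odd.of_dvd_nat hodd (Subgroup.index_dvd_card K)
      have hm : m ≠ 0 := by
        rintro rfl
        rw [pow_zero, Subgroup.relIndex_eq_one] at hpm
        exact (lt_irrefl _) (lt_of_lt_of_le hMltK hpm)
      have hpodd : Odd p := by
        apply Odd.of_dvd_nat hodd
        have h2 : p ∣ M.relIndex K := by rw [hpm]; exact dvd_pow_self p hm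
        exact h2.trans ((Subgroup.relIndex_dvd_card M K).trans (Subgroup.card_subgroup_dvd_card K))
      have h2 := arith2 K.index p heodd hpodd hp.one_lt hdvd
      have hepos : 0 < K.index := Nat.pos_of_ne_zero Subgroup.index_ne_zero_of_finite
      nlinarith [Nat.mul_le_mul h2 h2]

end Cfsg.Agent.S1521
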