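import Cfsg.Statements.S1522
import Mathlib
import Cfsg.Agent.Lib.H8.CohCentralD
import Cfsg.Agent.S1521

set_option autoImplicit false
open Cfsg
open Cfsg.Agent.Lib.H8 Cfsg.Agent.Lib.L0 Cfsg.Agent.Lib.H24
open scoped commutatorElement

namespace Cfsg.Agent.S1522

/-- Let K be a nilpotent normal subgroup of the finite group L of odd order with [K,K] < K < L and L/[K,K] a Frobenius group with kernel K/[K,K] (elements of K outside [K,K] are centralised modulo [K,K] only from inside K); let (S, τ, R) be a coherence system from L to G with S the functions induced from non-principal irreducible characters of K. Let Z be a nontrivial normal subgroup of L contained in the centre of K, and suppose every member of S outside S(Z) is an irreducible character of L. Then S minus S(Z) is the set of irreducible characters χ of L with χ z ≠ χ 1 for some z ∈ Z, and it is coherent. -/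
theorem result {L : Type*} [Group L] [Fintype L] {G : Type*} [Group G] [Fintype G] (K : Subgroup L) [hK : K.Normal] (hsolv : Group.IsSolvable K) (τ : (L → ℂ) → (G → ℂ)) (R : (L → ℂ) → Finset (G → ℂ)) (hS : Cfsg.IsCoherenceSystem (Cfsg.inducedIrrAbove K ⊥) τ R) (hodd : Odd (Nat.card L)) (hnil : Group.IsNilpotent K) (hH₁K : ⁅K, K⁆ < K) (hKL : K < ⊤) (hfrob : ∀ k ∈ K, k ∉ ⁅K, K⁆ → ∀ x : L, x * k * x⁻¹ * k⁻¹ ∈ ⁅K, K⁆ → x ∈ K) (Z : Subgroup L) [Z.Normal] (hZ1 : Z ≠ ⊥) (hZK : Z ≤ K) (hZc : ∀ z ∈ Z, ∀ k ∈ K, z * k = k * z) (hirr : ∀ χ ∈ Cfsg.inducedIrrAbove K ⊥ \ Cfsg.inducedIrrAbove K Z, Cfsg.IsIrrCharacter L χ) : Cfsg.inducedIrrAbove K ⊥ \ Cfsg.inducedIrrAbove K Z = {χ | Cfsg.IsIrrCharacter L χ ∧ ∃ z ∈ Z, χ z ≠ χ 1} ∧ Cfsg.IsCoherent (Cfsg.inducedIrrAbove K ⊥ \ Cfsg.inducedIrrAbove K Z) {1}ᶜ τ := by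
  classical
  have hXeq := diff_eq_irr K Z hZK hirr
  refine ⟨hXeq, ?_⟩
  have hXS : inducedIrrAbove K ⊥ \ inducedIrrAbove K Z ⊆ inducedIrrAbove K ⊥ := Set.sdiff_subset
  -- nonemptiness
  have hne : (inducedIrrAbove K ⊥ \ inducedIrrAbove K Z).Nonempty := by
    by_contra hcon
    rw [Set.not_nonempty_iff_eq_empty] at hcon
    have h1 := sum_degree_sq_not_ker' Z (∅ : Finset (L → ℂ)) (by rw [← hXeq, hcon]; simp)
    rw [Finset.sum_empty, zero_mul, zero_add] at h1
    have hLpos : 0 < Nat.card L := Nat.card_pos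
    have h2 : Nat.card Z = 1 := by
      have : Nat.card L * 1 = Nat.card L * Nat.card Z := by rw [mul_one]; exact h1
      exact (Nat.eq_of_mul_eq_mul_left hLpos this).symm
    exact hZ1 (Subgroup.card_eq_one.mp h2)
  have hXc : ∀ φ ∈ inducedIrrAbove K ⊥ \ inducedIrrAbove K Z,
      conjFun φ ∈ inducedIrrAbove K ⊥ \ inducedIrrAbove K Z := fun φ hφ => diff_conj K Z hφ
  by_cases hgood : (∃ N : Subgroup L, N.Normal ∧ ⁅K, K⁆ ⊔ ⊥ < N ∧ N < K) ∨
      4 * K.index ^ 2 + 1 < (⁅K, K⁆ ⊔ ⊥).relIndex K ∨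
      (¬ ∃ p m : ℕ, p.Prime ∧ (⊥ : Subgroup L).relIndex K = p ^ m) ∨ ⁅K, K⁆ ≤ ⊥ ∨
      (∃ p m : ℕ, p.Prime ∧ (⊥ : Subgroup L).relIndex K = p ^ m ∧ K.index ∣ p - 1)
  · haveI : Group.IsNilpotent ↥K := hnil
    have hcoh := Cfsg.Agent.S1521.result K hsolv τ R hS hodd ⊥ bot_le inferInstance (⁅K, K⁆ ⊔ ⊥) rfl
      (by rw [sup_bot_eq]; exact hH₁K) hKL (by rw [sup_bot_eq]; exact hfrob) hgood
    obtain ⟨χ, hχ⟩ := hne
    apply isCoherent_subset hXS hcoh
    refine ⟨χ - conjFun χ, ?_, coh_sub_conj_ne_zero hS (hXS hχ)⟩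
    rw [mem_zspanOn_compl_one]
    refine ⟨sub_mem_zspan (subset_zspan _ hχ) (subset_zspan _ (hXc χ hχ)), ?_⟩
    rw [Pi.sub_apply, coh_conj_apply_one hS (hXS hχ), sub_self]
  · push Not at hgood
    obtain ⟨-, -, ⟨p, m, hp, hpm⟩, -, -⟩ := hgood
    have hKp : Nat.card K = p ^ m := by rwa [Subgroup.relIndex_bot_left] at hpm
    have hrel : ⁅K, K⁆.relIndex K ∣ p ^ m := by
      rw [← hKp]; exact Subgroup.relIndex_dvd_card _ _
    have hrel1 : ⁅K, K⁆.relIndex K ≠ 1 := by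
      intro h
      exact (lt_irrefl _) (lt_of_lt_of_le hH₁K (Subgroup.relIndex_eq_one.mp h))
    obtain ⟨s, -, hs⟩ := (Nat.dvd_prime_pow hp).mp hrel
    have hs0 : s ≠ 0 := by
      intro h
      rw [h, pow_zero] at hs
      exact hrel1 hs
    have hpdvd : p ∣ ⁅K, K⁆.relIndex K := by rw [hs]; exact dvd_pow_self p hs0
    have hmod := frob_relIndex_modEq K ⁅K, K⁆ K le_rfl hH₁K.le le_rfl hfrob
    have hep : Nat.Coprime K.index p := by
      apply Nat.Coprime.symm
      rw [Nat.Prime.coprime_iff_not_dvd hp]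
      intro hpe
      have h1 : ⁅K, K⁆.relIndex K ≡ 1 [MOD p] := hmod.of_dvd hpe
      have h2 : ⁅K, K⁆.relIndex K ≡ 0 [MOD p] := (Nat.modEq_zero_iff_dvd).mpr hpdvd
      have h3 : (1 : ℕ) ≡ 0 [MOD p] := h1.symm.trans h2
      have h4 : p ∣ 1 := (Nat.modEq_zero_iff_dvd).mp h3
      exact hp.one_lt.ne' (Nat.dvd_one.mp h4)
    have hp2 : 2 < p := by
      have hpL : p ∣ Nat.card L := by
        have h1 : p ∣ Nat.card K := by
          rw [hKp]
          apply dvd_pow_self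
          intro hm0
          rw [hm0, pow_zero] at hKp
          have : K = ⊥ := Subgroup.card_eq_one.mp hKp
          rw [this] at hH₁K
          exact not_lt_bot hH₁K
        exact h1.trans (Subgroup.card_subgroup_dvd_card K)
      have hpodd : Odd p := Odd.of_dvd_nat hodd hpL
      have := hp.two_le
      rcases Nat.lt_or_ge 2 p with h | h
      · exact h
      · exfalso
        have : p = 2 := by omega
        rw [this] at hpodd
        exact absurd hpodd (by decide)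
    exact coherent_diff_of_pgroup K τ R hS Z hZK hZc hirr p m hp hp2 hKp hep hne

end Cfsg.Agent.S1522
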