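import Cfsg.Statements.S1524
import Mathlib
import Cfsg.Agent.Lib.H8.SibleyF
import Cfsg.Agent.Lib.H8.SibleyG
import Cfsg.Agent.S1535

set_option autoImplicit false
open Cfsg
open Cfsg.Agent.Lib.H8 Cfsg.Agent.Lib.L0 Cfsg.Agent.Lib.H24

namespace Cfsg.Agent.S1524

/-- Let G be a finite group and H ≤ L subgroups with L of odd order, H ≠ ⊥ nilpotent and normal in L with a nontrivial complement W₁ in L (H ⊓ W₁ = ⊥, H ⊔ W₁ = L) acting on H without non-identity fixed points (L is a Frobenius group with kernel H), and suppose the underlying set of H is a TI-subset of G whose normaliser is L. Let S be the set of functions on L induced from the non-principal irreducible characters of H. Then (S, L minus 1, induction to G) is coherent. -/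
theorem result {G : Type*} [Group G] [Fintype G] (H L W₁ : Subgroup G) [Fintype L] (hodd : Odd (Nat.card L)) (hHL : H ≤ L) (hW₁L : W₁ ≤ L) (hH1 : H ≠ ⊥) (hW1 : W₁ ≠ ⊥) (hnil : Group.IsNilpotent H) (hHn : ∀ x ∈ L, ∀ h ∈ H, x * h * x⁻¹ ∈ H) (hinf : H ⊓ W₁ = ⊥) (hsup : H ⊔ W₁ = L) (hfpf : ∀ w ∈ W₁, w ≠ 1 → ∀ h ∈ H, w * h = h * w → h = 1) (hTI : Cfsg.IsTISubset (H : Set G)) (hN : Subgroup.normalizer (H : Set G) = L) : Cfsg.IsCoherent (Cfsg.inducedIrrAbove (H.subgroupOf L) ⊥) {1}ᶜ (fun α : L → ℂ => Cfsg.indFun L α) := by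
  classical
  have hC := centralizer_le_of_ti_frob H L W₁ hsup hfpf hTI hN
  obtain ⟨K, hKdef⟩ : ∃ K : Subgroup ↥L, K = H.subgroupOf L := ⟨_, rfl⟩
  rw [← hKdef]
  have hKmem : ∀ x : ↥L, x ∈ K ↔ (x : G) ∈ H := fun x => by
    rw [hKdef]; exact Subgroup.mem_subgroupOf
  haveI hKn : K.Normal := by
    constructor
    intro k hk x
    rw [hKmem] at hk ⊢
    exact hHn x x.2 k hk
  have hCK : ∀ k ∈ K, k ≠ 1 → Subgroup.centralizer ({k} : Set ↥L) ≤ K := by
    intro k hk hk1 x hx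
    rw [hKmem]
    apply hC (k : G) ((hKmem k).mp hk) (fun h => hk1 (Subtype.ext h))
    rw [Subgroup.mem_centralizer_singleton_iff] at hx ⊢
    exact congrArg Subtype.val hx
  have hKcard : Nat.card K = Nat.card H := by
    rw [hKdef]
    exact Nat.card_congr (Subgroup.subgroupOfEquivOfLe hHL).toEquiv
  have hK1 : K ≠ ⊥ := by
    intro h
    apply hH1
    rw [← Subgroup.card_eq_one, ← hKcard, h]
    exact Subgroup.card_bot
  have hK2 : K ≠ ⊤ := by
    intro h
    apply hW1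
    rw [eq_bot_iff, ← hinf]
    intro w hw
    refine ⟨?_, hw⟩
    have : (⟨w, hW₁L hw⟩ : ↥L) ∈ K := by rw [h]; exact Subgroup.mem_top _
    exact (hKmem _).mp this
  have he : Nat.card K ≠ K.index + 1 := by
    intro h
    have h1 : Odd (Nat.card K) := Odd.of_dvd_nat hodd (Subgroup.card_subgroup_dvd_card K)
    have h2 : Odd K.index := Odd.of_dvd_nat hodd (Subgroup.index_dvd_card K)
    rw [h] at h1
    obtain ⟨a, ha⟩ := h1
    obtain ⟨b, hb⟩ := h2
    omega
  -- the isometry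
  obtain ⟨A, hA⟩ : ∃ A : Set G, A = {a | a ∈ H ∧ a ≠ 1} := ⟨_, rfl⟩
  have hTIA : ∀ g : G, ∀ a ∈ A, g * a * g⁻¹ ∈ A → g ∈ L := by
    intro g a ha hga
    rw [hA] at ha hga
    by_contra hg
    rw [← hN] at hg
    exact ha.2 (hTI g hg a ha.1 hga.1)
  have hSeq : feitSet K = inducedIrrAbove K ⊥ :=
    Set.Subset.antisymm (feitSet_subset_inducedIrrAbove K hCK)
      (inducedIrrAbove_subset_feitSet K hCK ⊥)
  have hSA : ∀ χ ∈ feitSet K, ∀ x : ↥L, x ≠ 1 → (x : G) ∉ A → χ x = 0 := by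
    intro χ hχ
    rw [hSeq] at hχ
    obtain ⟨θ, -, -, -, rfl⟩ := hχ
    intro x hx hxA
    apply indFun_of_not_mem_normal
    intro hxK
    apply hxA
    rw [hA]
    exact ⟨(hKmem x).mp hxK, fun h => hx (Subtype.ext h)⟩
  obtain ⟨hτ, hτ1⟩ := isLinearIsometryOn_indFun_of_tiSet L A hTIA (feitSet K)
    (fun χ hχ => isCharacter_of_irr hχ.1) hSA
  have hSdef : feitSet K = {χ : ↥L → ℂ | IsIrrCharacter ↥L χ ∧ ∃ h ∈ K, χ h ≠ χ 1} := rfl
  rw [hSdef] at hτ hτ1
  rcases Cfsg.Agent.S1535.result K hK1 hK2 hCK he (fun α => indFun L α) hτ hτ1 with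
    h | ⟨p, hp, ⟨m, hm⟩, hna, -⟩
  · rw [← hSeq, hSdef]; exact h
  · haveI : Fact p.Prime := ⟨hp⟩
    have hHcard : Nat.card H = p ^ m := by rw [← hKcard]; exact hm
    have hHp : IsPGroup p H := IsPGroup.of_card hHcard
    have hp2 : p ≠ 2 := by
      intro h2
      have hm0 : m ≠ 0 := by
        intro h0
        rw [h0, pow_zero] at hm
        exact hK1 (Subgroup.card_eq_one.mp hm)
      have h1 : p ∣ Nat.card ↥L := by
        have : p ∣ Nat.card K := by rw [hm]; exact dvd_pow_self p hm0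
        exact this.trans (Subgroup.card_subgroup_dvd_card K)
      have h3 : Odd p := Odd.of_dvd_nat hodd h1
      rw [h2] at h3
      exact absurd h3 (by decide)
    have hna' : ¬ IsMulCommutative H := by
      intro hc
      apply hna
      refine ⟨⟨fun a b => ?_⟩⟩
      have h1 := hc.is_comm.comm ⟨((a : ↥L) : G), (hKmem a).mp a.2⟩
        ⟨((b : ↥L) : G), (hKmem b).mp b.2⟩
      have h2 : ((a : ↥L) : G) * ((b : ↥L) : G) = ((b : ↥L) : G) * ((a : ↥L) : G) :=
        congrArg Subtype.val h1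
      apply Subtype.ext
      apply Subtype.ext
      exact h2
    obtain ⟨P, hP⟩ := exists_sylow_eq_of_centralizer_le p H hHp hH1 hC
    subst hP
    rw [hKdef]
    exact sibley_sylow p hp2 P hTI L hN hna' hC

end Cfsg.Agent.S1524
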