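import Mathlib
import Cfsg.Statements.S1525
import Cfsg.Agent.Lib.H8.Dade

set_option autoImplicit false
open Cfsg
open Cfsg.Agent.Lib.H8
open Finset

namespace Cfsg.Agent.S1525

theorem norm_avg_sq_le {X : Type*} (s : Finset X) (n : ℕ) (hn : s.card = n) (hn0 : n ≠ 0)
    (f : X → ℂ) :
    ‖(n : ℂ)⁻¹ * ∑ u ∈ s, f u‖ ^ 2 ≤ (n : ℝ)⁻¹ * ∑ u ∈ s, ‖f u‖ ^ 2 := by
  have hn' : (0 : ℝ) < n := Nat.cast_pos.mpr (Nat.pos_of_ne_zero hn0)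
  rw [norm_mul, norm_inv, Complex.norm_natCast, mul_pow]
  have h1 : ‖∑ u ∈ s, f u‖ ^ 2 ≤ (∑ u ∈ s, ‖f u‖) ^ 2 :=
    pow_le_pow_left₀ (norm_nonneg _) (norm_sum_le _ _) 2
  have h2 : (∑ u ∈ s, ‖f u‖) ^ 2 ≤ (s.card : ℝ) * ∑ u ∈ s, ‖f u‖ ^ 2 :=
    sq_sum_le_card_mul_sum_sq
  rw [hn] at h2
  have h3 := h1.trans h2
  calc ((n : ℝ)⁻¹) ^ 2 * ‖∑ u ∈ s, f u‖ ^ 2 ≤ ((n : ℝ)⁻¹) ^ 2 * ((n : ℝ) * ∑ u ∈ s, ‖f u‖ ^ 2) :=
        mul_le_mul_of_nonneg_left h3 (by positivity)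
    _ = (n : ℝ)⁻¹ * ∑ u ∈ s, ‖f u‖ ^ 2 := by
        field_simp

/-- Under the Dade hypothesis for (A, L, H), let χ be a class function of G and let ψ be a function on L whose value at each a ∈ A is the average of χ over the coset a·H(a). Then the sum of |ψ(a)|² over a ∈ A divided by |L| is at most the sum of |χ(g)|² over the elements g of G that are conjugate to an element of some coset a·H(a) with a ∈ A, divided by |G|. -/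
theorem result {G : Type*} [Group G] [Fintype G] (A : Set G) (L : Subgroup G) [Fintype L] (H : G → Subgroup G) (hD : Cfsg.DadeHypothesis A L H) (χ : G → ℂ) (hχ : Cfsg.IsClassFunction G χ) (ψ : L → ℂ) (hψ : ∀ a : L, (a : G) ∈ A → ψ a = (Nat.card (H a) : ℂ)⁻¹ * ∑ᶠ u ∈ (H a : Set G), χ (a * u)) : (Nat.card L : ℝ)⁻¹ * ∑ᶠ a ∈ {a : L | (a : G) ∈ A}, ‖ψ a‖ ^ 2 ≤ (Nat.card G : ℝ)⁻¹ * ∑ᶠ g ∈ {g : G | ∃ a ∈ A, ∃ u ∈ H a, ∃ x : G, x * g * x⁻¹ = a * u}, ‖χ g‖ ^ 2 := by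
  classical
  obtain ⟨F, hFdef⟩ : ∃ F : G → ℝ, F = fun g => ‖χ g‖ ^ 2 := ⟨_, rfl⟩
  have hF : ∀ g x : G, F (x * g * x⁻¹) = F g := by
    intro g x; simp only [hFdef]; rw [hχ g x]
  have hcount := dade_count (K := ℝ) hD F hF
  have hG : (0 : ℝ) < Nat.card G := Nat.cast_pos.mpr Nat.card_pos
  have hL : (0 : ℝ) < Nat.card L := Nat.cast_pos.mpr Nat.card_pos
  obtain ⟨S1, hS1⟩ : ∃ S1, S1 = ∑ᶠ a ∈ {a : L | (a : G) ∈ A}, ‖ψ a‖ ^ 2 := ⟨_, rfl⟩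
  obtain ⟨S2, hS2⟩ : ∃ S2, S2 = ∑ᶠ g ∈ {g : G | ∃ a ∈ A, ∃ u ∈ H a, ∃ x : G,
    x * g * x⁻¹ = a * u}, ‖χ g‖ ^ 2 := ⟨_, rfl⟩
  rw [← hS1, ← hS2]
  rw [finsum_mem_eq_sum_filter_univ] at hS1 hS2
  have hrhs : S2 = ∑ g ∈ univ.filter
        (fun g => ∃ a ∈ A, ∃ u ∈ H a, ∃ x : G, x * g * x⁻¹ = a * u), F g := by
    rw [hS2, hFdef]
    apply Finset.sum_congr _ (fun _ _ => rfl)
    ext g
    simp
  have hlhs : S1 ≤
      ∑ g ∈ univ.filter (· ∈ A), (Nat.card (H g) : ℝ)⁻¹ *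
        ∑ u ∈ univ.filter (· ∈ H g), F (g * u) := by
    rw [hS1, sum_filter_mem_eq_sum_subtype hD, Finset.sum_filter]
    apply Finset.sum_le_sum
    intro a _
    simp only [Set.mem_ofPred_eq]
    split_ifs with ha
    · rw [hψ a ha, finsum_mem_eq_sum_filter_univ, hFdef]
      apply norm_avg_sq_le
      · rw [← card_filter_mem_subgroup]
        congr 1
      · exact Nat.card_pos.ne'
    · exact le_refl _
  have h1 : (Nat.card L : ℝ)⁻¹ * S1 ≤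
      (Nat.card L : ℝ)⁻¹ * ∑ g ∈ univ.filter (· ∈ A), (Nat.card (H g) : ℝ)⁻¹ *
        ∑ u ∈ univ.filter (· ∈ H g), F (g * u) :=
    mul_le_mul_of_nonneg_left hlhs (by positivity)
  refine h1.trans (le_of_eq ?_)
  rw [hrhs, inv_mul_eq_div, inv_mul_eq_div, div_eq_div_iff hL.ne' hG.ne']
  linear_combination -hcount

end Cfsg.Agent.S1525
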