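import Mathlib
import Cfsg.Statements.S1526
import Cfsg.Agent.Lib.H8.ExcNilFamily
import Cfsg.Agent.Lib.H8.NilCommIndex
import Cfsg.Agent.Lib.H8.FrobKernelNil

set_option autoImplicit false
open Cfsg

namespace Cfsg.Agent.S1526

open Cfsg.Agent.Lib.H8 Cfsg.Agent.Lib.L0 in
/-- Let G be a finite group of odd order and (L i, H i), i in a finite index type with at least two elements, pairs of subgroups with H i a nontrivial proper normal subgroup of L i such that every non-identity element of H i has its centraliser within L i contained in H i (L i is a Frobenius group with kernel H i), the orders of the H i pairwise coprime, and the underlying set of each H i a TI-subset of G with normaliser L i. If every non-identity element of G is conjugate to an element of some H i, we reach a contradiction. -/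
theorem result {G : Type*} [Group G] [Finite G] (hodd : Odd (Nat.card G)) {ι : Type*} [Fintype ι] (hι : 2 ≤ Fintype.card ι) (L H : ι → Subgroup G) (hHL : ∀ i, H i < L i) (hH1 : ∀ i, H i ≠ ⊥) (hHn : ∀ i, ∀ x ∈ L i, ∀ h ∈ H i, x * h * x⁻¹ ∈ H i) (hfrob : ∀ i, ∀ h ∈ H i, h ≠ 1 → L i ⊓ Subgroup.centralizer ({h} : Set G) ≤ H i) (hcop : ∀ i j, i ≠ j → Nat.Coprime (Nat.card (H i)) (Nat.card (H j))) (hTI : ∀ i, Cfsg.IsTISubset (H i : Set G) ∧ Subgroup.normalizer (H i : Set G) = L i) (hcover : ∀ g : G, g ≠ 1 → ∃ i, ∃ x : G, x * g * x⁻¹ ∈ H i) : False := by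
  classical
  haveI : Fintype G := Fintype.ofFinite G
  haveI : Nonempty ι := Fintype.card_pos_iff.mp (by omega)
  have hnz : ∀ i, FrobTI.nz (H i) = L i := fun i => (hTI i).2
  have hfrobTI : ∀ i, FrobTI (H i) := by
    intro i
    refine ⟨(hTI i).1, ?_⟩
    intro k hk hk1 y hy
    have hyk : y * k * y⁻¹ = k := by
      rw [Subgroup.mem_centralizer_singleton_iff] at hy
      rw [hy]; group
    have hyN : y ∈ Subgroup.normalizer ((H i : Subgroup G) : Set G) := by
      by_contra hcon
      exact hk1 ((hTI i).1 y hcon k hk (by rw [hyk]; exact hk))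
    rw [(hTI i).2] at hyN
    exact hfrob i k hk hk1 (Subgroup.mem_inf.mpr ⟨hyN, hy⟩)
  have hnil : ∀ i, Group.IsNilpotent (H i) := fun i =>
    nilpotent_of_frobenius_kernel (H i) (L i) (hHL i) (hHn i) (hfrob i)
  refine false_of_nil_family hodd H hfrobTI (fun i => by rw [hnz i]; exact hHL i)
    (fun i => commutator_ne_self_of_nilpotent (H i) (hnil i) (hH1 i))
    (fun i hne => exists_prime_sq_dvd_relIndex_commutator (H i) (hnil i) hne) hcop ?_
  intro g hg
  obtain ⟨i, x, hx⟩ := hcover g hg
  refine ⟨i, x⁻¹, x * g * x⁻¹, hx, ?_, by group⟩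
  intro h1
  apply hg
  have : g = x⁻¹ * (x * g * x⁻¹) * x := by group
  rw [this, h1]; group

end Cfsg.Agent.S1526
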