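import Mathlib
import Cfsg.Statements.S1527

set_option autoImplicit false
open Cfsg

namespace Cfsg.Agent.S1527

theorem orderOf_conj_eq {G : Type*} [Group G] (g x : G) : orderOf (g * x * g⁻¹) = orderOf x := by
  simpa using orderOf_injective (MulAut.conj g).toMonoidHom (MulAut.conj g).injective x

/-- The number of non-identity elements conjugate into a TI-subgroup `H`. -/
theorem card_conj_TI {G : Type*} [Group G] [Fintype G] [DecidableEq G] (H : Subgroup G)
    [DecidablePred (· ∈ H)] [DecidablePred (· ∈ Subgroup.normalizer (H : Set G))]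
    [DecidablePred (fun g : G => g ≠ 1 ∧ ∃ x : G, x * g * x⁻¹ ∈ H)]
    (hTI : Cfsg.IsTISubset (H : Set G)) :
    (Finset.univ.filter (fun g : G => g ≠ 1 ∧ ∃ x : G, x * g * x⁻¹ ∈ H)).card
      = (Subgroup.normalizer (H : Set G)).index * (Nat.card H - 1) := by
  classical
  set N := Subgroup.normalizer (H : Set G) with hN
  have hNcard : (Finset.univ.filter (fun n : G => n ∈ N)).card = Nat.card N := by
    rw [Nat.card_eq_fintype_card, Fintype.card_subtype]
  have hHcard : (Finset.univ.filter (fun h : G => h ≠ 1 ∧ h ∈ H)).card = Nat.card H - 1 := by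
    have : (Finset.univ.filter (fun h : G => h ≠ 1 ∧ h ∈ H))
        = (Finset.univ.filter (fun h : G => h ∈ H)).erase 1 := by
      ext h
      simp only [Finset.mem_filter, Finset.mem_univ, true_and, Finset.mem_erase]
    rw [this, Finset.card_erase_of_mem (by simp [H.one_mem]), Nat.card_eq_fintype_card,
      Fintype.card_subtype]
  -- fibres over `g`
  have hfib1 : ∀ g : G, (Finset.univ.filter (fun x : G => g ≠ 1 ∧ x * g * x⁻¹ ∈ H)).card
      = if (g ≠ 1 ∧ ∃ x : G, x * g * x⁻¹ ∈ H) then Nat.card N else 0 := by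
    intro g
    split_ifs with hg
    · obtain ⟨hg1, x₀, hx₀⟩ := hg
      rw [← hNcard]
      apply Finset.card_nbij' (fun x => x * x₀⁻¹) (fun n => n * x₀)
      · intro x hx
        simp only [Finset.coe_filter, Finset.mem_univ, true_and, Set.mem_ofPred_eq] at hx ⊢
        by_contra hnot
        have := hTI (x * x₀⁻¹) hnot (x₀ * g * x₀⁻¹) hx₀ (by
          have : x * x₀⁻¹ * (x₀ * g * x₀⁻¹) * (x * x₀⁻¹)⁻¹ = x * g * x⁻¹ := by group
          rw [this]; exact hx.2)
        apply hg1
        have h2 : g = x₀⁻¹ * (x₀ * g * x₀⁻¹) * x₀ := by group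
        rw [h2, this]; group
      · intro n hn
        simp only [Finset.coe_filter, Finset.mem_univ, true_and, Set.mem_ofPred_eq] at hn ⊢
        refine ⟨hg1, ?_⟩
        have := (Subgroup.mem_set_normalizer_iff.mp hn (x₀ * g * x₀⁻¹)).mp hx₀
        have e : n * x₀ * g * (n * x₀)⁻¹ = n * (x₀ * g * x₀⁻¹) * n⁻¹ := by group
        rw [e]; exact this
      · intro x _; simp
      · intro n _; simp
    · rw [Finset.card_eq_zero, Finset.filter_eq_empty_iff]
      intro x _ hx
      exact hg ⟨hx.1, x, hx.2⟩
  -- fibres over `x`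
  have hfib2 : ∀ x : G, (Finset.univ.filter (fun g : G => g ≠ 1 ∧ x * g * x⁻¹ ∈ H)).card
      = Nat.card H - 1 := by
    intro x
    rw [← hHcard]
    apply Finset.card_nbij' (fun g => x * g * x⁻¹) (fun h => x⁻¹ * h * x)
    · intro g hg
      simp only [Finset.coe_filter, Finset.mem_univ, true_and, Set.mem_ofPred_eq] at hg ⊢
      refine ⟨?_, hg.2⟩
      intro h1
      apply hg.1
      have : g = x⁻¹ * (x * g * x⁻¹) * x := by group
      rw [this, h1]; group
    · intro h hh
      simp only [Finset.coe_filter, Finset.mem_univ, true_and, Set.mem_ofPred_eq] at hh ⊢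
      refine ⟨?_, ?_⟩
      · intro h1
        apply hh.1
        have : h = x * (x⁻¹ * h * x) * x⁻¹ := by group
        rw [this, h1]; group
      · have : x * (x⁻¹ * h * x) * x⁻¹ = h := by group
        rw [this]; exact hh.2
    · intro g _; simp only; group
    · intro h _; simp only; group
  -- double counting
  have hdc := Finset.sum_card_bipartiteAbove_eq_sum_card_bipartiteBelow
    (fun (g x : G) => g ≠ 1 ∧ x * g * x⁻¹ ∈ H) (s := Finset.univ) (t := Finset.univ)
  simp only [Finset.bipartiteAbove, Finset.bipartiteBelow] at hdc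
  rw [Finset.sum_congr rfl (fun g _ => hfib1 g), Finset.sum_congr rfl (fun x _ => hfib2 x),
    Finset.sum_ite, Finset.sum_const_zero, add_zero, Finset.sum_const, Finset.sum_const,
    smul_eq_mul, smul_eq_mul, Finset.card_univ, Fintype.card_eq_nat_card,
    ← Subgroup.index_mul_card N] at hdc
  have hpos : 0 < Nat.card N := Nat.card_pos
  apply Nat.eq_of_mul_eq_mul_right hpos
  rw [hdc]; ring

/-- Let G be a finite group and H i (i in a finite index type) subgroups of pairwise coprime orders, each of whose underlying sets is a TI-subset of G, such that every non-identity element of G is conjugate to an element of some H i. Then Nat.card G − 1 = Σ_i [G : N_G(H i)] · (Nat.card (H i) − 1). -/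
theorem result {G : Type*} [Group G] [Finite G] {ι : Type*} [Fintype ι] (H : ι → Subgroup G) (hcop : ∀ i j, i ≠ j → Nat.Coprime (Nat.card (H i)) (Nat.card (H j))) (hTI : ∀ i, Cfsg.IsTISubset (H i : Set G)) (hcover : ∀ g : G, g ≠ 1 → ∃ i, ∃ x : G, x * g * x⁻¹ ∈ H i) : Nat.card G - 1 = ∑ i, (Subgroup.normalizer (H i : Set G)).index * (Nat.card (H i) - 1) := by
  classical
  haveI : Fintype G := Fintype.ofFinite G
  have h1 : Nat.card G - 1 = (Finset.univ.filter (fun g : G => g ≠ 1)).card := by
    rw [Finset.filter_ne', Finset.card_erase_of_mem (Finset.mem_univ _), Finset.card_univ,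
      Nat.card_eq_fintype_card]
  have h2 : (Finset.univ.filter (fun g : G => g ≠ 1))
      = (Finset.univ : Finset ι).biUnion
          (fun i => Finset.univ.filter (fun g : G => g ≠ 1 ∧ ∃ x : G, x * g * x⁻¹ ∈ H i)) := by
    ext g
    simp only [Finset.mem_filter, Finset.mem_univ, true_and, Finset.mem_biUnion]
    constructor
    · intro hg
      obtain ⟨i, x, hx⟩ := hcover g hg
      exact ⟨i, hg, x, hx⟩
    · rintro ⟨i, hg, -⟩
      exact hg
  have hdisj : ((Finset.univ : Finset ι) : Set ι).PairwiseDisjoint
      (fun i => Finset.univ.filter (fun g : G => g ≠ 1 ∧ ∃ x : G, x * g * x⁻¹ ∈ H i)) := by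
    intro i _ j _ hij
    rw [Function.onFun, Finset.disjoint_left]
    intro g hgi hgj
    simp only [Finset.mem_filter, Finset.mem_univ, true_and] at hgi hgj
    obtain ⟨hg1, x, hx⟩ := hgi
    obtain ⟨-, y, hy⟩ := hgj
    have o1 : orderOf g ∣ Nat.card (H i) := by
      have := (H i).orderOf_dvd_natCard hx
      rwa [orderOf_conj_eq] at this
    have o2 : orderOf g ∣ Nat.card (H j) := by
      have := (H j).orderOf_dvd_natCard hy
      rwa [orderOf_conj_eq] at this
    have := Nat.eq_one_of_dvd_coprimes (hcop i j hij) o1 o2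
    exact hg1 (orderOf_eq_one_iff.mp this)
  rw [h1, h2, Finset.card_biUnion hdisj]
  apply Finset.sum_congr rfl
  intro i _
  exact card_conj_TI (H i) (hTI i)

end Cfsg.Agent.S1527
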