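import Mathlib
import Cfsg.Statements.S1529
import Cfsg.Agent.Lib.H8.GenChar
import Cfsg.Agent.Lib.H24.CharBasic

set_option autoImplicit false
open Cfsg

namespace Cfsg.Agent.S1529

open scoped ComplexConjugate
open Cfsg.Agent.Lib.H8 Cfsg.Agent.Lib.L0 Cfsg.Agent.Lib.H24

/-- Let N be a subgroup of the finite group G, S a set of irreducible characters of N with at least two members, and τ₁ a linear isometry on the integer combinations of S with virtual-character values such that τ₁ α vanishes at 1 whenever α ∈ ℤ[S] does. Then there is ε ∈ {1, −1} such that ε • τ₁ χ is an irreducible character of G for every χ ∈ S, and distinct members of S give distinct characters. -/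
theorem result {G : Type*} [Group G] [Fintype G] (N : Subgroup G) [Fintype N] (S : Set (N → ℂ)) (hirr : ∀ χ ∈ S, Cfsg.IsIrrCharacter N χ) (htwo : ∃ χ ∈ S, ∃ ψ ∈ S, χ ≠ ψ) (τ₁ : (N → ℂ) → (G → ℂ)) (hτ₁ : Cfsg.IsLinearIsometryOn (Cfsg.zspan S) τ₁) (h0 : ∀ α ∈ Cfsg.zspan S, α 1 = 0 → τ₁ α 1 = 0) : ∃ ε : ℂ, (ε = 1 ∨ ε = -1) ∧ (∀ χ ∈ S, Cfsg.IsIrrCharacter G (ε • τ₁ χ)) ∧ (∀ χ ∈ S, ∀ ψ ∈ S, τ₁ χ = τ₁ ψ → χ = ψ) := by
  classical
  obtain ⟨hadd, hsmul, hiso, hgen⟩ := hτ₁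
  have hmem : ∀ χ ∈ S, χ ∈ Cfsg.zspan S := fun χ hχ => Submodule.subset_span hχ
  have hsigned : ∀ χ ∈ S, Cfsg.IsIrrCharacter G (τ₁ χ) ∨ Cfsg.IsIrrCharacter G (-τ₁ χ) := by
    intro χ hχ
    apply genChar_norm_one (hgen χ (hmem χ hχ))
    rw [hiso χ (hmem χ hχ) χ (hmem χ hχ)]
    exact irr_classInner_self (hirr χ hχ)
  -- no mixed signs
  have hmix : ∀ χ ∈ S, ∀ ψ ∈ S, Cfsg.IsIrrCharacter G (τ₁ χ) → Cfsg.IsIrrCharacter G (-τ₁ ψ) →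
      False := by
    intro χ hχ ψ hψ hP hQ
    obtain ⟨nχ, hnχ0, hnχ⟩ := irr_one_eq ⟨χ, hirr χ hχ⟩
    obtain ⟨nψ, hnψ0, hnψ⟩ := irr_one_eq ⟨ψ, hirr ψ hψ⟩
    obtain ⟨m, hm0, hm⟩ := irr_one_eq ⟨τ₁ χ, hP⟩
    obtain ⟨m', hm'0, hm'⟩ := irr_one_eq ⟨-τ₁ ψ, hQ⟩
    simp only at hnχ hnψ hm hm'
    have hα : ((nψ : ℤ) • χ + (-(nχ : ℤ)) • ψ) ∈ Cfsg.zspan S :=
      Submodule.add_mem _ (Submodule.smul_mem _ _ (hmem χ hχ)) (Submodule.smul_mem _ _ (hmem ψ hψ))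
    have hα1 : ((nψ : ℤ) • χ + (-(nχ : ℤ)) • ψ) 1 = 0 := by
      rw [Pi.add_apply, Pi.smul_apply, Pi.smul_apply, hnχ, hnψ, zsmul_eq_mul, zsmul_eq_mul]
      push_cast; ring
    have h1 := h0 _ hα hα1
    rw [hadd _ (Submodule.smul_mem _ _ (hmem χ hχ)) _ (Submodule.smul_mem _ _ (hmem ψ hψ)),
      hsmul χ (hmem χ hχ), hsmul ψ (hmem ψ hψ)] at h1
    have hψ1 : τ₁ ψ 1 = -(m' : ℂ) := by
      have : (-τ₁ ψ) 1 = m' := hm'
      rw [Pi.neg_apply] at this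
      rw [← this]; ring
    rw [Pi.add_apply, Pi.smul_apply, Pi.smul_apply, hm, hψ1, zsmul_eq_mul, zsmul_eq_mul] at h1
    have h2 : ((nψ * m + nχ * m' : ℕ) : ℂ) = 0 := by
      push_cast at h1 ⊢
      linear_combination h1
    have h3 : nψ * m + nχ * m' = 0 := by exact_mod_cast h2
    have : 0 < nψ * m := Nat.mul_pos hnψ0 hm0
    omega
  obtain ⟨χ₀, hχ₀, -⟩ := htwo
  have hinj : ∀ χ ∈ S, ∀ ψ ∈ S, τ₁ χ = τ₁ ψ → χ = ψ := by
    intro χ hχ ψ hψ heq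
    by_contra hne
    have h1 := hiso χ (hmem χ hχ) ψ (hmem ψ hψ)
    rw [← heq, hiso χ (hmem χ hχ) χ (hmem χ hχ), irr_classInner_self (hirr χ hχ),
      irr_classInner_ne (hirr χ hχ) (hirr ψ hψ) hne] at h1
    exact one_ne_zero h1
  rcases hsigned χ₀ hχ₀ with hP | hQ
  · refine ⟨1, Or.inl rfl, ?_, hinj⟩
    intro ψ hψ
    rw [one_smul]
    rcases hsigned ψ hψ with h | h
    · exact h
    · exact (hmix χ₀ hχ₀ ψ hψ hP h).elim
  · refine ⟨-1, Or.inr rfl, ?_, hinj⟩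
    intro ψ hψ
    rw [neg_one_smul]
    rcases hsigned ψ hψ with h | h
    · exact (hmix ψ hψ χ₀ hχ₀ h hQ).elim
    · exact h

end Cfsg.Agent.S1529
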