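import Mathlib
import Cfsg.Statements.S1530
import Cfsg.Agent.Lib.H8.Coherence
import Cfsg.Agent.Lib.H8.SignedIrr
import Cfsg.Agent.Lib.L0.CharBasic
import Cfsg.Agent.Lib.H24.CharBasic

set_option autoImplicit false
open Cfsg

namespace Cfsg.Agent.S1530

open Cfsg.Agent.Lib.H8 Cfsg.Agent.Lib.L0

/-- Let N be a subgroup of the finite group G and S₀ a finite set of irreducible characters of N, χ an irreducible character of N not in S₀, with degrees ξ 1 = d ξ. Let τ be a linear isometry on the integer combinations of S₀ ∪ {χ} vanishing at 1, with values virtual characters of G vanishing at 1, such that (S₀, N minus 1, τ) is coherent. If some ψ ∈ S₀ has d ψ dividing d χ and 2 · d ψ · d χ < Σ_{ξ ∈ S₀} (d ξ)², then (S₀ ∪ {χ}, N minus 1, τ) is coherent. -/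
theorem result {G : Type*} [Group G] [Fintype G] (N : Subgroup G) [Fintype N] (S₀ : Finset (N → ℂ)) (χ : N → ℂ) (hirr : ∀ ξ ∈ S₀, Cfsg.IsIrrCharacter N ξ) (hχ : Cfsg.IsIrrCharacter N χ) (hχS : χ ∉ S₀) (d : (N → ℂ) → ℕ) (hd : ∀ ξ ∈ insert χ S₀, ξ 1 = (d ξ : ℂ)) (τ : (N → ℂ) → (G → ℂ)) (hτ : Cfsg.IsLinearIsometryOn (Cfsg.zspanOn (↑(insert χ S₀) : Set (N → ℂ)) {1}ᶜ) τ) (hτ1 : ∀ α ∈ Cfsg.zspanOn (↑(insert χ S₀) : Set (N → ℂ)) {1}ᶜ, τ α 1 = 0) (hcoh : Cfsg.IsCoherent (↑S₀ : Set (N → ℂ)) {1}ᶜ τ) (ψ : N → ℂ) (hψ : ψ ∈ S₀) (hdvd : d ψ ∣ d χ) (hlt : 2 * d ψ * d χ < ∑ ξ ∈ S₀, d ξ ^ 2) : Cfsg.IsCoherent (↑(insert χ S₀) : Set (N → ℂ)) {1}ᶜ τ := by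
  classical
  obtain ⟨⟨α₀, hα₀, hα₀ne⟩, τ₁, hτ₁, hagree⟩ := hcoh
  set T : Finset (N → ℂ) := insert χ S₀ with hT
  have hS₀T : (↑S₀ : Set (N → ℂ)) ⊆ ↑T := by
    intro x hx
    exact Finset.mem_insert_of_mem hx
  have hχT : χ ∈ T := Finset.mem_insert_self χ S₀
  have hmemT : ∀ ξ ∈ S₀, ξ ∈ T := fun ξ hξ => Finset.mem_insert_of_mem hξ
  have hirrT : ∀ ξ ∈ T, IsIrrCharacter N ξ := by
    intro ξ hξ
    rcases Finset.mem_insert.mp hξ with rfl | h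
    · exact hχ
    · exact hirr ξ h
  have hnorm : ∀ ξ ∈ T, classInner ξ ξ = 1 := fun ξ hξ => irr_classInner_self (hirrT ξ hξ)
  have horthT : ∀ ξ ∈ T, ∀ η ∈ T, ξ ≠ η → classInner ξ η = 0 :=
    fun ξ hξ η hη hne => irr_classInner_ne (hirrT ξ hξ) (hirrT η hη) hne
  have hneT : ∀ ξ ∈ T, classInner ξ ξ ≠ 0 := fun ξ hξ => by
    rw [hnorm ξ hξ]; exact one_ne_zero
  have hψT : ψ ∈ T := hmemT ψ hψ
  have hψχ : ψ ≠ χ := fun h => hχS (h ▸ hψ)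
  have hne_of_mem : ∀ ξ ∈ S₀, ξ ≠ χ := fun ξ hξ h => hχS (h ▸ hξ)
  -- degrees
  have hdeg0 : ∀ ξ ∈ T, d ξ ≠ 0 := by
    intro ξ hξ h0
    have h1 := hd ξ hξ
    rw [h0] at h1
    exact Cfsg.Agent.Lib.H24.irr_one_ne_zero ⟨ξ, hirrT ξ hξ⟩ (by simpa using h1)
  have hdψ0 : d ψ ≠ 0 := hdeg0 ψ hψT
  obtain ⟨a, ha⟩ := hdvd
  have ha0 : a ≠ 0 := by
    rintro rfl
    rw [mul_zero] at ha
    exact hdeg0 χ hχT ha
  have hE := isZClosed_zspanOn (↑T : Set (N → ℂ)) ({1}ᶜ : Set N)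
  have hZ₀ := isZClosed_zspan (↑S₀ : Set (N → ℂ))
  -- β
  set β : N → ℂ := χ - (a : ℤ) • ψ with hβ
  have hβE : β ∈ zspanOn (↑T : Set (N → ℂ)) ({1}ᶜ : Set N) := by
    rw [mem_zspanOn_compl_one]
    refine ⟨sub_mem_zspan (subset_zspan _ hχT) (zsmul_mem_zspan (subset_zspan _ hψT) _), ?_⟩
    rw [hβ, Pi.sub_apply, Pi.smul_apply, hd χ hχT, hd ψ hψT, ha, zsmul_eq_mul]
    push_cast; ring
  -- γ
  have hγ : ∀ ξ ∈ S₀, (d ψ : ℤ) • ξ - (d ξ : ℤ) • ψ ∈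
      zspanOn (↑S₀ : Set (N → ℂ)) ({1}ᶜ : Set N) := by
    intro ξ hξ
    rw [mem_zspanOn_compl_one]
    refine ⟨sub_mem_zspan (zsmul_mem_zspan (subset_zspan _ hξ) _)
      (zsmul_mem_zspan (subset_zspan _ hψ) _), ?_⟩
    rw [Pi.sub_apply, Pi.smul_apply, Pi.smul_apply, hd ξ (hmemT ξ hξ), hd ψ hψT, zsmul_eq_mul,
      zsmul_eq_mul]
    push_cast; ring
  have hγE : ∀ ξ ∈ S₀, (d ψ : ℤ) • ξ - (d ξ : ℤ) • ψ ∈
      zspanOn (↑T : Set (N → ℂ)) ({1}ᶜ : Set N) :=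
    fun ξ hξ => zspanOn_mono hS₀T _ (hγ ξ hξ)
  have hτγ : ∀ ξ ∈ S₀, τ ((d ψ : ℤ) • ξ - (d ξ : ℤ) • ψ) =
      (d ψ : ℤ) • τ₁ ξ - (d ξ : ℤ) • τ₁ ψ := by
    intro ξ hξ
    rw [← hagree _ (hγ ξ hξ), lio_sub hτ₁ hZ₀ (zsmul_mem_zspan (subset_zspan _ hξ) _)
      (zsmul_mem_zspan (subset_zspan _ hψ) _), lio_zsmul hτ₁ (subset_zspan _ hξ),
      lio_zsmul hτ₁ (subset_zspan _ hψ)]
  have hYorth : ∀ ξ ∈ S₀, ∀ η ∈ S₀, classInner (τ₁ ξ) (τ₁ η) = if ξ = η then 1 else 0 := by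
    intro ξ hξ η hη
    rw [lio_inner hτ₁ (subset_zspan _ hξ) (subset_zspan _ hη)]
    split_ifs with h
    · rw [h]; exact hnorm η (hmemT η hη)
    · exact horthT ξ (hmemT ξ hξ) η (hmemT η hη) h
  have hYg : ∀ ξ ∈ S₀, IsGeneralizedCharacter G (τ₁ ξ) :=
    fun ξ hξ => lio_genChar hτ₁ (subset_zspan _ hξ)
  -- X
  obtain ⟨X, hX⟩ : ∃ X : G → ℂ, X = τ β + (a : ℤ) • τ₁ ψ := ⟨_, rfl⟩
  have hXg : IsGeneralizedCharacter G X := by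
    rw [hX]
    exact isGeneralizedCharacter_add (lio_genChar hτ hβE)
      (isGeneralizedCharacter_zsmul (hYg ψ hψ) _)
  have hτβ : τ β = X - (a : ℤ) • τ₁ ψ := by rw [hX]; abel
  obtain ⟨y, hy⟩ := genChar_classInner_int hXg (hYg ψ hψ)
  have hyξ : ∀ ξ ∈ S₀, ∃ c : ℤ, classInner X (τ₁ ξ) = c :=
    fun ξ hξ => genChar_classInner_int hXg (hYg ξ hξ)
  choose! yy hyy using hyξ
  have hy' : classInner (τ₁ ψ) X = (y : ℂ) := by
    rw [← classInner_conj_symm, hy, map_intCast]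
  have e2 : classInner χ ψ = 0 := horthT χ hχT ψ hψT (Ne.symm hψχ)
  have e2' : classInner ψ χ = 0 := horthT ψ hψT χ hχT hψχ
  have e4 : classInner (τ₁ ψ) (τ₁ ψ) = 1 := by rw [hYorth ψ hψ ψ hψ, if_pos rfl]
  have e4' : classInner ψ ψ = 1 := hnorm ψ hψT
  have e5 : classInner χ χ = 1 := hnorm χ hχT
  have hkey : ∀ ξ ∈ S₀, (d ψ : ℤ) * yy ξ = (d ξ : ℤ) * y := by
    intro ξ hξ
    have h1 := lio_inner hτ hβE (hγE ξ hξ)
    rw [hτγ ξ hξ, hτβ] at h1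
    have e1 : classInner χ ξ = 0 := horthT χ hχT ξ (hmemT ξ hξ) (Ne.symm (hne_of_mem ξ hξ))
    have e3 := lio_inner hτ₁ (subset_zspan _ hψ) (subset_zspan _ hξ)
    simp only [hβ, classInner_sub_left, classInner_sub_right, classInner_zsmul_left,
      classInner_zsmul_right] at h1
    rw [hyy ξ hξ, hy, e1, e2, e3, e4, e4'] at h1
    have h2 : ((d ψ : ℤ) : ℂ) * (yy ξ : ℂ) = ((d ξ : ℤ) : ℂ) * (y : ℂ) := by
      linear_combination h1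
    exact_mod_cast h2
  have hXX : classInner X X = ((1 + 2 * (a : ℤ) * y : ℤ) : ℂ) := by
    have h1 := lio_inner hτ hβE hβE
    rw [hτβ] at h1
    simp only [hβ, classInner_sub_left, classInner_sub_right, classInner_zsmul_left,
      classInner_zsmul_right] at h1
    rw [hy, hy', e2, e2', e4, e4', e5] at h1
    push_cast
    linear_combination h1
  have hbes := bessel_int S₀ τ₁ hYorth X yy hyy (1 + 2 * (a : ℤ) * y) hXX
  have hsum : (d ψ : ℤ) ^ 2 * ∑ ξ ∈ S₀, yy ξ ^ 2 = y ^ 2 * ∑ ξ ∈ S₀, (d ξ : ℤ) ^ 2 := by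
    rw [Finset.mul_sum, Finset.mul_sum]
    apply Finset.sum_congr rfl
    intro ξ hξ
    have h := hkey ξ hξ
    calc (d ψ : ℤ) ^ 2 * yy ξ ^ 2 = ((d ψ : ℤ) * yy ξ) ^ 2 := by ring
      _ = ((d ξ : ℤ) * y) ^ 2 := by rw [h]
      _ = y ^ 2 * (d ξ : ℤ) ^ 2 := by ring
  have hltZ : 2 * (d ψ : ℤ) * (d χ : ℤ) < ∑ ξ ∈ S₀, (d ξ : ℤ) ^ 2 := by exact_mod_cast hlt
  have hA : (0 : ℤ) < (a : ℤ) := by exact_mod_cast Nat.pos_of_ne_zero ha0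
  have hD : (0 : ℤ) < (d ψ : ℤ) := by exact_mod_cast Nat.pos_of_ne_zero hdψ0
  have haZ : (d χ : ℤ) = (d ψ : ℤ) * (a : ℤ) := by exact_mod_cast ha
  have hτ₁one : ∀ ξ ∈ S₀, ((d ψ : ℤ) : ℂ) * τ₁ ξ 1 = ((d ξ : ℤ) : ℂ) * τ₁ ψ 1 := by
    intro ξ hξ
    have h1 := hτ1 _ (hγE ξ hξ)
    rw [hτγ ξ hξ, Pi.sub_apply, Pi.smul_apply, Pi.smul_apply, zsmul_eq_mul, zsmul_eq_mul] at h1
    linear_combination h1
  have hy0 : y = 0 := by
    by_contra hyne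
    have hysq : 0 < y ^ 2 := by positivity
    have h3 : 2 * (a : ℤ) * y ^ 2 < ∑ ξ ∈ S₀, yy ξ ^ 2 := by
      by_contra hle
      push Not at hle
      have h4 : (d ψ : ℤ) ^ 2 * ∑ ξ ∈ S₀, yy ξ ^ 2 ≤ (d ψ : ℤ) ^ 2 * (2 * (a : ℤ) * y ^ 2) :=
        mul_le_mul_of_nonneg_left hle (sq_nonneg _)
      rw [hsum] at h4
      have h5 : y ^ 2 * (2 * (d ψ : ℤ) * (d χ : ℤ)) < y ^ 2 * ∑ ξ ∈ S₀, (d ξ : ℤ) ^ 2 :=
        mul_lt_mul_of_pos_left hltZ hysq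
      rw [haZ] at h5
      nlinarith
    have h6 : (a : ℤ) * y ^ 2 ≤ (a : ℤ) * y := by linarith [hbes.1]
    have h7 : y ^ 2 ≤ y := le_of_mul_le_mul_left h6 hA
    have hy1 : y = 1 := by
      have h8 : 0 ≤ y := by nlinarith
      have h9 : 1 ≤ y := by omega
      nlinarith
    subst hy1
    have hsumeq : ∑ ξ ∈ S₀, yy ξ ^ 2 = 1 + 2 * (a : ℤ) * 1 := by
      have := hbes.1
      linarith
    have hXeq := hbes.2 hsumeq
    have hX1 : X 1 = ((a : ℤ) : ℂ) * τ₁ ψ 1 := by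
      rw [hX, Pi.add_apply, hτ1 β hβE, Pi.smul_apply, zsmul_eq_mul, zero_add]
    have hX1' : ((d ψ : ℤ) : ℂ) ^ 2 * X 1 =
        ((∑ ξ ∈ S₀, (d ξ : ℤ) ^ 2 : ℤ) : ℂ) * τ₁ ψ 1 := by
      rw [hXeq, Finset.sum_apply, Finset.mul_sum]
      push_cast
      rw [Finset.sum_mul]
      apply Finset.sum_congr rfl
      intro ξ hξ
      have h1 := hτ₁one ξ hξ
      have h2 : ((d ψ : ℤ) : ℂ) * (yy ξ : ℂ) = ((d ξ : ℤ) : ℂ) := by
        have := hkey ξ hξ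
        rw [mul_one] at this
        exact_mod_cast this
      rw [Pi.smul_apply, zsmul_eq_mul]
      push_cast at h1 h2 ⊢
      calc (d ψ : ℂ) ^ 2 * ((yy ξ : ℂ) * τ₁ ξ 1)
          = ((d ψ : ℂ) * (yy ξ : ℂ)) * ((d ψ : ℂ) * τ₁ ξ 1) := by ring
        _ = (d ξ : ℂ) * ((d ξ : ℂ) * τ₁ ψ 1) := by rw [h1, h2]
        _ = (d ξ : ℂ) ^ 2 * τ₁ ψ 1 := by ring
    have hsum' : ∑ ξ ∈ S₀, (d ξ : ℤ) ^ 2 = (d ψ : ℤ) ^ 2 * (1 + 2 * (a : ℤ) * 1) := by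
      rw [← hsumeq, hsum]; ring
    rw [hsum', hX1] at hX1'
    have hzero : ((d ψ : ℤ) : ℂ) ^ 2 * (((a : ℤ) : ℂ) + 1) * τ₁ ψ 1 = 0 := by
      push_cast at hX1' ⊢
      linear_combination -hX1'
    have hne1 : ((d ψ : ℤ) : ℂ) ^ 2 * (((a : ℤ) : ℂ) + 1) ≠ 0 := by
      apply mul_ne_zero
      · apply pow_ne_zero
        exact_mod_cast hD.ne'
      · have : (0 : ℤ) < (a : ℤ) + 1 := by linarith
        exact_mod_cast this.ne'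
    have hψ1 : τ₁ ψ 1 = 0 := by
      rcases mul_eq_zero.mp hzero with h | h
      · exact absurd h hne1
      · exact h
    exact signedIrr_apply_one_ne_zero (genChar_norm_one (hYg ψ hψ) e4) hψ1
  subst hy0
  have hyy0 : ∀ ξ ∈ S₀, classInner X (τ₁ ξ) = 0 := by
    intro ξ hξ
    have h := hkey ξ hξ
    rw [mul_zero] at h
    have : yy ξ = 0 := by
      rcases mul_eq_zero.mp h with h | h
      · exact absurd h hD.ne'
      · exact h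
    rw [hyy ξ hξ, this]; simp
  have hXX1 : classInner X X = 1 := by
    rw [hXX]; simp
  -- the new images
  set Y' : (N → ℂ) → (G → ℂ) := fun ξ => if ξ = χ then X else τ₁ ξ with hY'
  have hY'χ : Y' χ = X := by simp [hY']
  have hY'S : ∀ ξ ∈ S₀, Y' ξ = τ₁ ξ := by
    intro ξ hξ
    simp [hY', hne_of_mem ξ hξ]
  have hY'inner : ∀ ξ ∈ T, ∀ η ∈ T, classInner (Y' ξ) (Y' η) = classInner ξ η := by
    intro ξ hξ η hη
    rcases Finset.mem_insert.mp hξ with rfl | hξ'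
    · rcases Finset.mem_insert.mp hη with rfl | hη'
      · rw [hY'χ, hXX1, e5]
      · rw [hY'χ, hY'S η hη', hyy0 η hη',
          horthT _ hχT η (hmemT η hη') (Ne.symm (hne_of_mem η hη'))]
    · rcases Finset.mem_insert.mp hη with rfl | hη'
      · rw [hY'χ, hY'S ξ hξ', ← classInner_conj_symm, hyy0 ξ hξ', map_zero,
          horthT ξ (hmemT ξ hξ') _ hχT (hne_of_mem ξ hξ')]
      · rw [hY'S ξ hξ', hY'S η hη',
          lio_inner hτ₁ (subset_zspan _ hξ') (subset_zspan _ hη')]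
  have hY'g : ∀ ξ ∈ T, IsGeneralizedCharacter G (Y' ξ) := by
    intro ξ hξ
    rcases Finset.mem_insert.mp hξ with rfl | hξ'
    · rw [hY'χ]; exact hXg
    · rw [hY'S ξ hξ']; exact hYg ξ hξ'
  have hiso := isLinearIsometryOn_extendIso T hneT horthT Y' hY'inner hY'g
  have hbase : ∀ ξ ∈ T, τ ((d ψ : ℤ) • ξ - (d ξ : ℤ) • ψ) =
      (d ψ : ℤ) • Y' ξ - (d ξ : ℤ) • Y' ψ := by
    intro ξ hξ
    rw [hY'S ψ hψ]
    rcases Finset.mem_insert.mp hξ with rfl | hξ'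
    · rw [hY'χ]
      have e : (d ψ : ℤ) • ξ - (d ξ : ℤ) • ψ = (d ψ : ℤ) • β := by
        rw [hβ, smul_sub, smul_smul, haZ]
      rw [e, lio_zsmul hτ hβE, hτβ, smul_sub, smul_smul, haZ]
    · rw [hY'S ξ hξ']; exact hτγ ξ hξ'
  have hagree₂ := extendIso_eq_of_base T hneT horthT Y' hτ d hd hψT hdψ0 hbase
  exact ⟨⟨α₀, zspanOn_mono hS₀T _ hα₀, hα₀ne⟩, extendIso T Y', hiso, hagree₂⟩

end Cfsg.Agent.S1530
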