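import Cfsg.Statements.S1533
import Mathlib
import Cfsg.Agent.Lib.H8.SibleyF
import Cfsg.Agent.Lib.H8.SibleyH
import Cfsg.Agent.S1535

set_option autoImplicit false
open Cfsg
open Cfsg.Agent.Lib.H8 Cfsg.Agent.Lib.L0 Cfsg.Agent.Lib.H24

namespace Cfsg.Agent.S1533

/-- Let G be a finite group, p an odd prime, and P a nontrivial Sylow p-subgroup whose underlying set is a TI-subset of G, with P properly contained in its set normaliser N and C_G(x) ≤ P for every non-identity x ∈ P. Let S be the set of irreducible characters χ of N with χ x ≠ χ 1 for some x ∈ P. Then either S has exactly one member, P is elementary abelian and Nat.card P = [N:P] + 1; or (S, N minus 1, induction to G) is coherent. -/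
theorem result {G : Type*} [Group G] [Fintype G] (p : ℕ) [Fact p.Prime] (hp : p ≠ 2) (P : Sylow p G) (hP1 : (P : Subgroup G) ≠ ⊥) (hTI : Cfsg.IsTISubset ((P : Subgroup G) : Set G)) (hlt : (P : Subgroup G) < Subgroup.normalizer ((P : Subgroup G) : Set G)) (hC : ∀ k ∈ (P : Subgroup G), k ≠ 1 → Subgroup.centralizer ({k} : Set G) ≤ (P : Subgroup G)) [Fintype ↥(Subgroup.normalizer ((P : Subgroup G) : Set G))] : (Nat.card {χ : ↥(Subgroup.normalizer ((P : Subgroup G) : Set G)) → ℂ // Cfsg.IsIrrCharacter ↥(Subgroup.normalizer ((P : Subgroup G) : Set G)) χ ∧ ∃ x : ↥(Subgroup.normalizer ((P : Subgroup G) : Set G)), (x : G) ∈ (P : Subgroup G) ∧ χ x ≠ χ 1} = 1 ∧ Cfsg.IsElementaryAbelian p (P : Subgroup G) ∧ Nat.card (P : Subgroup G) = ((P : Subgroup G).subgroupOf (Subgroup.normalizer ((P : Subgroup G) : Set G))).index + 1) ∨ Cfsg.IsCoherent {χ : ↥(Subgroup.normalizer ((P : Subgroup G) : Set G)) → ℂ | Cfsg.IsIrrCharacter ↥(Subgroup.normalizer ((P : Subgroup G) : Set G)) χ ∧ ∃ x : ↥(Subgroup.normalizer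 ((P : Subgroup G) : Set G)), (x : G) ∈ (P : Subgroup G) ∧ χ x ≠ χ 1} {1}ᶜ (fun α => Cfsg.indFun (Subgroup.normalizer ((P : Subgroup G) : Set G)) α) := by
  classical
  have hpp : p.Prime := Fact.out
  have hPN : (P : Subgroup G) ≤ Subgroup.normalizer ((P : Subgroup G) : Set G) :=
    Subgroup.le_normalizer
  have hnorm : ∀ x ∈ Subgroup.normalizer ((P : Subgroup G) : Set G), ∀ y ∈ (P : Subgroup G),
      x * y * x⁻¹ ∈ (P : Subgroup G) := by
    intro x hx y hy
    rw [Subgroup.mem_normalizer_iff] at hx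
    exact (hx y).mp hy
  have hTI' : ∀ g : G, ∀ a ∈ (P : Subgroup G), a ≠ 1 → g * a * g⁻¹ ∈ (P : Subgroup G) →
      g ∈ Subgroup.normalizer ((P : Subgroup G) : Set G) := by
    intro g a ha ha1 hga
    by_contra hg
    exact ha1 (hTI g hg a ha hga)
  obtain ⟨K, hKdef⟩ : ∃ K : Subgroup ↥(Subgroup.normalizer ((P : Subgroup G) : Set G)),
      K = (P : Subgroup G).subgroupOf (Subgroup.normalizer ((P : Subgroup G) : Set G)) := ⟨_, rfl⟩
  have hKmem : ∀ x : ↥(Subgroup.normalizer ((P : Subgroup G) : Set G)),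
      x ∈ K ↔ (x : G) ∈ (P : Subgroup G) := fun x => by
    rw [hKdef]; exact Subgroup.mem_subgroupOf
  haveI hKn : K.Normal := by
    constructor
    intro k hk x
    rw [hKmem] at hk ⊢
    exact hnorm x x.2 k hk
  have hCK : ∀ k ∈ K, k ≠ 1 → Subgroup.centralizer
      ({k} : Set ↥(Subgroup.normalizer ((P : Subgroup G) : Set G))) ≤ K := by
    intro k hk hk1 x hx
    rw [hKmem]
    apply hC (k : G) ((hKmem k).mp hk) (fun h => hk1 (Subtype.ext h))
    rw [Subgroup.mem_centralizer_singleton_iff] at hx ⊢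
    exact congrArg Subtype.val hx
  have hKcard : Nat.card K = Nat.card (P : Subgroup G) := by
    rw [hKdef]
    exact Nat.card_congr (Subgroup.subgroupOfEquivOfLe hPN).toEquiv
  have hK1 : K ≠ ⊥ := by
    intro h
    apply hP1
    rw [← Subgroup.card_eq_one, ← hKcard, h]
    exact Subgroup.card_bot
  have hK2 : K ≠ ⊤ := by
    intro h
    apply hlt.not_ge
    intro x hx
    have : (⟨x, hx⟩ : ↥(Subgroup.normalizer ((P : Subgroup G) : Set G))) ∈ K := by
      rw [h]; exact Subgroup.mem_top _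
    exact (hKmem _).mp this
  have hiff : ∀ χ : ↥(Subgroup.normalizer ((P : Subgroup G) : Set G)) → ℂ,
      (IsIrrCharacter ↥(Subgroup.normalizer ((P : Subgroup G) : Set G)) χ ∧
        ∃ x : ↥(Subgroup.normalizer ((P : Subgroup G) : Set G)),
          (x : G) ∈ (P : Subgroup G) ∧ χ x ≠ χ 1) ↔
      (IsIrrCharacter ↥(Subgroup.normalizer ((P : Subgroup G) : Set G)) χ ∧
        ∃ h ∈ K, χ h ≠ χ 1) := by
    intro χ
    constructor
    · rintro ⟨h1, x, hx, h2⟩
      exact ⟨h1, x, (hKmem x).mpr hx, h2⟩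
    · rintro ⟨h1, x, hx, h2⟩
      exact ⟨h1, x, (hKmem x).mp hx, h2⟩
  have hset : {χ : ↥(Subgroup.normalizer ((P : Subgroup G) : Set G)) → ℂ |
      IsIrrCharacter ↥(Subgroup.normalizer ((P : Subgroup G) : Set G)) χ ∧
        ∃ x : ↥(Subgroup.normalizer ((P : Subgroup G) : Set G)),
          (x : G) ∈ (P : Subgroup G) ∧ χ x ≠ χ 1} =
      {χ | IsIrrCharacter ↥(Subgroup.normalizer ((P : Subgroup G) : Set G)) χ ∧
        ∃ h ∈ K, χ h ≠ χ 1} := by
    ext χ
    exact hiff χ
  have hSeq : feitSet K = inducedIrrAbove K ⊥ :=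
    Set.Subset.antisymm (feitSet_subset_inducedIrrAbove K hCK)
      (inducedIrrAbove_subset_feitSet K hCK ⊥)
  have hSdef : feitSet K = {χ : ↥(Subgroup.normalizer ((P : Subgroup G) : Set G)) → ℂ |
      IsIrrCharacter ↥(Subgroup.normalizer ((P : Subgroup G) : Set G)) χ ∧
        ∃ h ∈ K, χ h ≠ χ 1} := rfl
  by_cases hna : IsMulCommutative (P : Subgroup G)
  · by_cases he : Nat.card K = K.index + 1
    · left
      have hKp : IsPGroup p K := by
        obtain ⟨m, hm⟩ := IsPGroup.iff_card.mp P.isPGroup'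
        exact IsPGroup.of_card (hKcard.trans hm)
      haveI hKnil : Group.IsNilpotent ↥K := hKp.isNilpotent
      have hpK : p ∣ Nat.card K := by
        obtain ⟨m, hm⟩ := IsPGroup.iff_card.mp hKp
        have hm0 : m ≠ 0 := by
          intro h0
          rw [h0, pow_zero] at hm
          exact hK1 (Subgroup.card_eq_one.mp hm)
        rw [hm]; exact dvd_pow_self p hm0
      refine ⟨?_, ⟨hna, ?_⟩, ?_⟩
      · rw [← card_feitSet_of_card_eq_index_succ K hCK he]
        exact Nat.card_congr (Equiv.subtypeEquivRight hiff)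
      · intro a ha
        have h1 := pow_eq_one_of_card_eq_index_succ K hCK he hK1 hKnil p hpp hpK
          ⟨a, hPN ha⟩ ((hKmem _).mpr ha)
        have h2 := congrArg Subtype.val h1
        exact h2
      · rw [← hKcard, he, hKdef]
    · right
      obtain ⟨hτ, hτ1⟩ := tifn_isometry (P : Subgroup G)
        (Subgroup.normalizer ((P : Subgroup G) : Set G)) hnorm hTI' hC
      rw [← hKdef] at hτ hτ1
      rcases Cfsg.Agent.S1535.result K hK1 hK2 hCK he
        (fun α => indFun (Subgroup.normalizer ((P : Subgroup G) : Set G)) α) hτ hτ1 with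
        h | ⟨q, -, -, hna', -⟩
      · rw [hset]; exact h
      · exfalso
        apply hna'
        refine ⟨⟨fun a b => ?_⟩⟩
        have h1 := hna.is_comm.comm ⟨(a : G), (hKmem a).mp a.2⟩ ⟨(b : G), (hKmem b).mp b.2⟩
        have h2 : ((a : ↥(Subgroup.normalizer ((P : Subgroup G) : Set G))) : G) * (b : G) =
            (b : G) * (a : G) := congrArg Subtype.val h1
        apply Subtype.ext
        apply Subtype.ext
        exact h2
  · right
    rw [hset, ← hSdef, hSeq, hKdef]
    exact sibley_sylow p hp P hTI _ rfl hna hC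

end Cfsg.Agent.S1533
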