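import Mathlib
import Cfsg.Statements.S1536
import Cfsg.Agent.S0173
import Cfsg.Agent.S1496
import Cfsg.Agent.Lib.H24.CharBasic

set_option autoImplicit false
open Cfsg

namespace Cfsg.Agent.S1536

open Cfsg.Agent.Lib.H24

/-- Group-theoretic core: a fixed nontrivial class gives a nontrivial fixed point. -/
theorem core {M : Type*} [Group M] [Finite M] (H : Subgroup M) [hN : H.Normal]
    (hHall : Nat.Coprime (Nat.card H) H.index) (x c k : M) (hc : c ∈ H) (hc1 : c ≠ 1) (hk : k ∈ H)
    (hy : (k * x) * c * (k * x)⁻¹ = c) : ∃ h ∈ H, h ≠ 1 ∧ x * h = h * x := by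
  set m := Nat.card H with hm
  set d := H.index with hd
  have hxd : x ^ d ∈ H := by
    rw [← QuotientGroup.eq_one_iff, QuotientGroup.mk_pow, hd, Subgroup.index_eq_card]
    exact pow_card_eq_one'
  have hxdm : (x ^ d) ^ m = 1 := by
    have := pow_card_eq_one' (G := H) (x := ⟨x ^ d, hxd⟩)
    exact congrArg Subtype.val this
  obtain ⟨l, hl1, hl0⟩ := Nat.chineseRemainder hHall.symm 0 1
  -- l ≡ 0 [MOD d], l ≡ 1 [MOD m]
  obtain ⟨k', hk'1, hk'0⟩ := Nat.chineseRemainder hHall.symm 1 0
  -- k' ≡ 1 [MOD d], k' ≡ 0 [MOD m]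
  have hdl : d ∣ l := (Nat.modEq_zero_iff_dvd).mp hl1
  have hmk' : m ∣ k' := (Nat.modEq_zero_iff_dvd).mp hk'0
  by_cases hxl : x ^ l = 1
  · -- the order of `x` divides `d`
    have ho1 : orderOf x ∣ l := orderOf_dvd_of_pow_eq_one hxl
    have ho2 : orderOf x ∣ d * m := orderOf_dvd_of_pow_eq_one (by rw [pow_mul]; exact hxdm)
    have hlm : Nat.Coprime l m := by
      have : Nat.gcd l m = Nat.gcd 1 m := Nat.ModEq.gcd_eq hl0
      rw [Nat.Coprime, this, Nat.gcd_one_left]
    have hod : orderOf x ∣ d := by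
      have hcop : Nat.Coprime (orderOf x) m := Nat.Coprime.coprime_dvd_left ho1 hlm
      exact hcop.dvd_of_dvd_mul_right ho2
    have hcop : Nat.Coprime (orderOf x) (Nat.card H) :=
      Nat.Coprime.coprime_dvd_left hod hHall.symm
    have hxn : x ∈ Subgroup.normalizer (H : Set M) := by
      rw [Subgroup.mem_set_normalizer_iff]
      intro h
      constructor
      · intro hh; exact hN.conj_mem h hh x
      · intro hh
        have := hN.conj_mem _ hh x⁻¹
        simpa [mul_assoc] using this
    obtain ⟨t, ht, c', hc', hcomm, hconj⟩ := Cfsg.Agent.S1496.result H x hxn hcop k hk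
    refine ⟨t * c * t⁻¹, hN.conj_mem c hc t, ?_, ?_⟩
    · intro h1
      apply hc1
      have : c = t⁻¹ * (t * c * t⁻¹) * t := by group
      rw [this, h1]; group
    · -- `z = c' * x` commutes with `t c t⁻¹`
      have hz : Commute (c' * x) (t * c * t⁻¹) := by
        rw [← hconj]
        show t * (k * x) * t⁻¹ * (t * c * t⁻¹) = t * c * t⁻¹ * (t * (k * x) * t⁻¹)
        have e1 : t * (k * x) * t⁻¹ * (t * c * t⁻¹) = t * ((k * x) * c * (k * x)⁻¹) * (k * x) * t⁻¹ := by
          group
        rw [e1, hy]; group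
      have hxpow : (c' * x) ^ k' = x := by
        have hcx : Commute c' x := hcomm
        rw [hcx.mul_pow]
        have h1 : c' ^ k' = 1 := by
          obtain ⟨q, rfl⟩ := hmk'
          rw [pow_mul]
          have := pow_card_eq_one' (G := H) (x := ⟨c', hc'⟩)
          have h2 : c' ^ m = 1 := congrArg Subtype.val this
          rw [h2, one_pow]
        have h2 : x ^ k' = x := by
          have : x ^ k' = x ^ 1 := by
            rw [pow_eq_pow_iff_modEq]
            exact hk'1.of_dvd hod
          rw [this, pow_one]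
        rw [h1, h2, one_mul]
      have := hz.pow_left k'
      rw [hxpow] at this
      exact this
  · refine ⟨x ^ l, ?_, hxl, ?_⟩
    · obtain ⟨q, rfl⟩ := hdl
      rw [pow_mul]
      exact H.pow_mem hxd q
    · exact ((Commute.refl x).pow_right l).eq

/-- Let H be a normal subgroup of the finite group M whose order is coprime to its index. For x ∈ M: some non-principal irreducible character of H is unchanged under h ↦ θ(x h x⁻¹) if and only if some non-identity element of H commutes with x. -/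
theorem result {M : Type*} [Group M] [Finite M] (H : Subgroup M) [hN : H.Normal] (hHall : Nat.Coprime (Nat.card H) H.index) (x : M) : (∃ θ : H → ℂ, Cfsg.IsIrrCharacter H θ ∧ θ ≠ (fun _ => 1) ∧ (fun h : H => θ ⟨x * h * x⁻¹, hN.conj_mem h h.2 x⟩) = θ) ↔ ∃ h ∈ H, h ≠ 1 ∧ x * h = h * x := by
  classical
  set α : H ≃* H := MulAut.conjNormal x with hα
  have key := Cfsg.Agent.S0173.result α
  have hcomp : ∀ θ : H → ℂ, θ ∘ α = fun h : H => θ ⟨x * h * x⁻¹, hN.conj_mem h h.2 x⟩ := by
    intro θ
    funext h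
    exact congrArg θ (Subtype.ext (MulAut.conjNormal_apply x h))
  constructor
  · rintro ⟨θ, hθ, hθ1, hfix⟩
    -- two fixed irreducible characters
    have hnt : Nontrivial {χ : Cfsg.IrrCharacter H // (χ : H → ℂ) ∘ α = (χ : H → ℂ)} := by
      refine ⟨⟨⟨trivialIrr H, by funext h; rfl⟩, ⟨⟨θ, hθ⟩, by rw [hcomp]; exact hfix⟩, ?_⟩⟩
      intro h
      apply hθ1
      have := congrArg (fun χ => (χ.1 : H → ℂ)) h
      simp only at this
      rw [← this]
      rfl
    have h1 : 1 < Nat.card {χ : Cfsg.IrrCharacter H // (χ : H → ℂ) ∘ α = (χ : H → ℂ)} :=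
      Finite.one_lt_card_iff_nontrivial.mpr hnt
    rw [← key] at h1
    have hnt2 := Finite.one_lt_card_iff_nontrivial.mp h1
    obtain ⟨C, hC⟩ := exists_ne (⟨ConjClasses.mk 1, by
      show ConjClasses.mk (α 1) = ConjClasses.mk 1
      rw [map_one]⟩ : {C : ConjClasses H // ConjClasses.map α.toMonoidHom C = C})
    obtain ⟨c, hc⟩ := ConjClasses.exists_rep C.1
    have hc1 : c ≠ 1 := by
      rintro rfl
      apply hC
      exact Subtype.ext hc.symm
    have hfixC : ConjClasses.mk (α c) = ConjClasses.mk c := by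
      have := C.2
      rw [← hc] at this
      exact this
    rw [ConjClasses.mk_eq_mk_iff_isConj, isConj_iff] at hfixC
    obtain ⟨k, hk⟩ := hfixC
    have hk' : (k : M) * (x * c * x⁻¹) * (k : M)⁻¹ = c := by
      have := congrArg Subtype.val hk
      simpa [hα, MulAut.conjNormal_apply] using this
    apply core H hHall x c k c.2 (fun h => hc1 (Subtype.ext h)) k.2
    have e : ((k : M) * x) * (c : M) * ((k : M) * x)⁻¹ = (k : M) * (x * c * x⁻¹) * (k : M)⁻¹ := by
      group
    rw [e]; exact hk'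
  · rintro ⟨h, hh, hh1, hcomm⟩
    have hfix1 : ConjClasses.map α.toMonoidHom (ConjClasses.mk (1 : H)) = ConjClasses.mk 1 := by
      show ConjClasses.mk (α 1) = ConjClasses.mk 1
      rw [map_one]
    have hfix2 : ConjClasses.map α.toMonoidHom (ConjClasses.mk (⟨h, hh⟩ : H))
        = ConjClasses.mk ⟨h, hh⟩ := by
      show ConjClasses.mk (α ⟨h, hh⟩) = ConjClasses.mk ⟨h, hh⟩
      congr 1
      apply Subtype.ext
      rw [hα, MulAut.conjNormal_apply]
      show x * h * x⁻¹ = h
      rw [hcomm]; group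
    have hnt : Nontrivial {C : ConjClasses H // ConjClasses.map α.toMonoidHom C = C} := by
      refine ⟨⟨⟨_, hfix1⟩, ⟨_, hfix2⟩, ?_⟩⟩
      intro heq
      have h2 : ConjClasses.mk (1 : H) = ConjClasses.mk ⟨h, hh⟩ := congrArg Subtype.val heq
      rw [ConjClasses.mk_eq_mk_iff_isConj, isConj_iff] at h2
      obtain ⟨c, hc⟩ := h2
      apply hh1
      have := congrArg Subtype.val hc
      simpa using this.symm
    have h1 := Finite.one_lt_card_iff_nontrivial.mpr hnt
    rw [key] at h1
    have hnt2 := Finite.one_lt_card_iff_nontrivial.mp h1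
    obtain ⟨χ, hχ⟩ := exists_ne (⟨trivialIrr H, by funext h; rfl⟩ :
      {χ : Cfsg.IrrCharacter H // (χ : H → ℂ) ∘ α = (χ : H → ℂ)})
    refine ⟨χ.1.1, χ.1.2, ?_, ?_⟩
    · intro h1
      apply hχ
      apply Subtype.ext
      apply Subtype.ext
      exact h1
    · rw [← hcomp]
      exact χ.2

end Cfsg.Agent.S1536
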