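import Cfsg.Statements.S1542
import Mathlib
import Cfsg.Agent.Lib.H8.SibleyF
import Cfsg.Agent.Lib.H8.SibleyG
import Cfsg.Agent.Lib.H8.MinSimpleStruct
import Cfsg.Agent.Lib.H16.BGa
import Cfsg.Agent.Lib.H7.PF12a
import Cfsg.Agent.Lib.H7.FBBound
import Cfsg.Agent.S1535
import Cfsg.Agent.S1524
import Cfsg.Agent.S1537

set_option autoImplicit false
open Cfsg
open Cfsg.Agent.Lib.H8 Cfsg.Agent.Lib.L0 Cfsg.Agent.Lib.H24 Cfsg.Agent.Lib.H7.PF12

namespace Cfsg.Agent.S1542

/-- Let G be a minimal simple group of odd order and L a maximal subgroup of Type I in which every non-identity element of H = L_F has its centraliser within L inside H. Let S be the set of functions on L induced from non-principal irreducible characters of H. Then every member of S is an irreducible character of L, and (S, L minus 1, τ) is coherent for τ the Dade map relative to A(L), L and a ↦ R(a). -/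
theorem result {G : Type*} [Group G] [Fintype G] (hG : Cfsg.IsMinSimpleOddOrder G) (L : Subgroup G) [Fintype L] (hL : IsCoatom L) (hI : Cfsg.IsOfTypeI L) (hfrob : ∀ x ∈ Cfsg.fittingHallOf L, x ≠ 1 → L ⊓ Subgroup.centralizer ({x} : Set G) ≤ Cfsg.fittingHallOf L) : (∀ χ ∈ Cfsg.inducedIrrAbove (Cfsg.fittingHall L) ⊥, Cfsg.IsIrrCharacter L χ) ∧ Cfsg.IsCoherent (Cfsg.inducedIrrAbove (Cfsg.fittingHall L) ⊥) {1}ᶜ (Cfsg.dadeIsometry (Cfsg.typeA L) L (Cfsg.supportR L)) := by
  classical
  have hF := hI.1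
  have hcases := hI.2
  obtain ⟨hsol, hodd, hH1, hH2, U, hU1, hcompl, -, -⟩ := hF
  obtain ⟨Hs, hHs⟩ : ∃ Hs : Subgroup ↥L, Hs = fittingHall ↥L := ⟨_, rfl⟩
  have hHof : fittingHallOf L = Hs.map L.subtype := by rw [hHs]; rfl
  rw [← hHs] at hH1 hH2 hcompl ⊢
  have hHsn : Hs.Normal := by rw [hHs]; infer_instance
  have hinj := L.subtype_injective
  have hHmem : ∀ x : ↥L, x ∈ Hs ↔ (x : G) ∈ fittingHallOf L := by
    intro x
    rw [hHof]
    constructor
    · intro hx; exact ⟨x, hx, rfl⟩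
    · rintro ⟨y, hy, hyx⟩
      have : y = x := Subtype.ext hyx
      rw [← this]; exact hy
  have hHL : fittingHallOf L ≤ L := fittingHallOf_le L
  have hCK : ∀ k ∈ Hs, k ≠ 1 → Subgroup.centralizer ({k} : Set ↥L) ≤ Hs := by
    intro k hk hk1 x hx
    rw [hHmem]
    apply hfrob (k : G) ((hHmem k).mp hk) (fun h => hk1 (Subtype.ext h))
    refine ⟨x.2, ?_⟩
    rw [Subgroup.mem_centralizer_singleton_iff] at hx
    exact Subgroup.mem_centralizer_singleton_iff.mpr (congrArg Subtype.val hx)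
  have he : Nat.card Hs ≠ Hs.index + 1 := by
    intro h
    have h1 : Odd (Nat.card Hs) := Odd.of_dvd_nat hodd (Subgroup.card_subgroup_dvd_card Hs)
    have h2 : Odd Hs.index := Odd.of_dvd_nat hodd (Subgroup.index_dvd_card Hs)
    rw [h] at h1
    obtain ⟨a, ha⟩ := h1
    obtain ⟨b, hb⟩ := h2
    omega
  have hSeq : feitSet Hs = inducedIrrAbove Hs ⊥ :=
    Set.Subset.antisymm (feitSet_subset_inducedIrrAbove Hs hCK)
      (inducedIrrAbove_subset_feitSet Hs hCK ⊥)
  refine ⟨fun χ hχ => (inducedIrrAbove_subset_feitSet Hs hCK ⊥ hχ).1, ?_⟩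
  -- the set `A(L)`
  have hA : typeA L = {a | a ∈ fittingHallOf L ∧ a ≠ 1} := by
    unfold typeA
    rw [if_pos hI]
    ext a
    constructor
    · rintro ⟨haL, ha1, x, hx, hx1, hax⟩
      refine ⟨?_, ha1⟩
      apply hfrob x hx hx1
      exact ⟨haL, Subgroup.mem_centralizer_singleton_iff.mpr hax⟩
    · rintro ⟨ha, ha1⟩
      exact ⟨hHL ha, ha1, a, ha, ha1, rfl⟩
  have hD : DadeHypothesis (typeA L) L (supportR L) :=
    (Cfsg.Agent.S1537.result hG L hL (typeA L) (Or.inr (Or.inl rfl))).2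
  have hSA : ∀ χ ∈ feitSet Hs, ∀ x : ↥L, x ≠ 1 → (x : G) ∉ typeA L → χ x = 0 := by
    intro χ hχ
    rw [hSeq] at hχ
    obtain ⟨θ, -, -, -, rfl⟩ := hχ
    intro x hx hxA
    apply indFun_of_not_mem_normal
    intro hxK
    apply hxA
    rw [hA]
    exact ⟨(hHmem x).mp hxK, fun h => hx (Subtype.ext h)⟩
  have hSchar : ∀ χ ∈ feitSet Hs, IsCharacter ↥L χ := fun χ hχ => isCharacter_of_irr hχ.1
  obtain ⟨hτ, hτ1⟩ := isLinearIsometryOn_dadeIsometry (typeA L) L (supportR L) hD (feitSet Hs)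
    hSchar hSA
  have hSdef : feitSet Hs = {χ : ↥L → ℂ | IsIrrCharacter ↥L χ ∧ ∃ h ∈ Hs, χ h ≠ χ 1} := rfl
  rw [hSdef] at hτ hτ1
  rcases Cfsg.Agent.S1535.result Hs hH1 hH2 hCK he (dadeIsometry (typeA L) L (supportR L)) hτ hτ1
    with h | ⟨p, hp, ⟨m, hm⟩, hna, hle⟩
  · rw [← hSeq, hSdef]; exact h
  · have : Fact p.Prime := ⟨hp⟩
    have hcardH : Nat.card (fittingHallOf L) = Nat.card Hs := by
      rw [hHof]
      exact (Nat.card_congr (Hs.equivMapOfInjective L.subtype hinj).toEquiv).symm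
    have hm0 : m ≠ 0 := by
      intro h0
      rw [h0, pow_zero] at hm
      exact hH1 (Subgroup.card_eq_one.mp hm)
    rcases hcases with hTI | ⟨hab, -, -⟩ | ⟨hexp, -⟩
    · -- `H` is a TI subgroup: Sibley's theorem S1524
      have hH1' : fittingHallOf L ≠ ⊥ := by
        rw [hHof]
        exact fun h => hH1 ((Subgroup.map_eq_bot_iff_of_injective _ hinj).mp h)
      have hW1 : U.map L.subtype ≠ ⊥ :=
        fun h => hU1 ((Subgroup.map_eq_bot_iff_of_injective _ hinj).mp h)
      have hHn : ∀ x ∈ L, ∀ h ∈ fittingHallOf L, x * h * x⁻¹ ∈ fittingHallOf L := by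
        intro x hx h hh
        have h1 : (⟨h, hHL hh⟩ : ↥L) ∈ Hs := (hHmem _).mpr hh
        have h2 := hHsn.conj_mem _ h1 ⟨x, hx⟩
        exact (hHmem _).mp h2
      have hinf : fittingHallOf L ⊓ U.map L.subtype = ⊥ := by
        rw [hHof, ← Subgroup.map_inf _ _ L.subtype hinj, disjoint_iff.mp hcompl.disjoint,
          Subgroup.map_bot]
      have hsup : fittingHallOf L ⊔ U.map L.subtype = L := by
        rw [hHof, ← Subgroup.map_sup, hcompl.sup_eq_top, ← MonoidHom.range_eq_map,
          Subgroup.range_subtype]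
      have hfpf : ∀ w ∈ U.map L.subtype, w ≠ 1 → ∀ h ∈ fittingHallOf L, w * h = h * w → h = 1 := by
        intro w hw hw1 h hh hwh
        by_contra hh1
        apply hw1
        have h1 : w ∈ fittingHallOf L := by
          apply hfrob h hh hh1
          exact ⟨Subgroup.map_subtype_le _ hw, Subgroup.mem_centralizer_singleton_iff.mpr hwh⟩
        have h2 : w ∈ fittingHallOf L ⊓ U.map L.subtype := ⟨h1, hw⟩
        rw [hinf] at h2
        exact Subgroup.mem_bot.mp h2
      have hN : Subgroup.normalizer (fittingHallOf L : Set G) = L :=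
        Cfsg.Agent.Lib.H16.BG.normalizer_eq_of_coatom hG hL hHL hH1' (le_normalizer_fittingHallOf L)
      have hcoh := Cfsg.Agent.S1524.result (fittingHallOf L) L (U.map L.subtype) hodd hHL
        (Subgroup.map_subtype_le _) hH1' hW1 (fittingHallOf_isNilpotent L) hHn hinf hsup hfpf hTI hN
      have hsub : (fittingHallOf L).subgroupOf L = Hs := by
        rw [hHof]
        exact Subgroup.comap_map_eq_self_of_injective hinj Hs
      rw [hsub] at hcoh
      have hC := centralizer_le_of_ti_frob (fittingHallOf L) L (U.map L.subtype) hsup hfpf hTI hN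
      have hsupp : ∀ a ∈ typeA L, supportR L a = ⊥ := by
        intro a ha
        rw [hA] at ha
        unfold supportR
        rw [dif_neg]
        rintro ⟨h1, -⟩
        exact h1 ((hC a ha.1 ha.2).trans hHL)
      have hTIA : ∀ g : G, ∀ a ∈ typeA L, g * a * g⁻¹ ∈ typeA L → g ∈ L := by
        intro g a ha hga
        rw [hA] at ha hga
        by_contra hg
        rw [← hN] at hg
        exact ha.2 (hTI g hg a ha.1 hga.1)
      refine isCoherent_congr _ _ _ _ ?_ hcoh
      intro α hα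
      rw [← hSeq] at hα
      obtain ⟨h1, h2⟩ := zspanOn_props (typeA L) L (feitSet Hs) hSchar hSA α hα
      exact dadeIsometry_eq_indFun_of_ti (typeA L) L (supportR L) hD hsupp hTIA α
        (isClassFunction_of_isGeneralizedCharacter h1) h2
    · -- `H` abelian
      exfalso
      apply hna
      refine ⟨⟨fun a b => ?_⟩⟩
      have h1 := hab.is_comm.comm ⟨((a : ↥L) : G), (hHmem a).mp a.2⟩
        ⟨((b : ↥L) : G), (hHmem b).mp b.2⟩
      have h2 : ((a : ↥L) : G) * ((b : ↥L) : G) = ((b : ↥L) : G) * ((a : ↥L) : G) :=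
        congrArg Subtype.val h1
      apply Subtype.ext
      apply Subtype.ext
      exact h2
    · -- `exp (L / H) ∣ p - 1`
      exfalso
      have hpdvd : p ∣ Nat.card (fittingHallOf L) := by
        rw [hcardH, hm]
        exact dvd_pow_self p hm0
      have hexp' : Monoid.exponent (↥L ⧸ Hs) ∣ p - 1 := by
        subst hHs
        exact hexp p hp hpdvd
      have := Cfsg.Agent.Lib.H7.FB.frob_index_lt Hs p (IsPGroup.of_card hm) hna hCK hodd hsol hexp'
      omega

end Cfsg.Agent.S1542
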