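import Mathlib
import Cfsg.Statements.S1546

set_option autoImplicit false
open Cfsg

namespace Cfsg.Agent.S1546

open Finset

theorem geom_modEq (p m : ℕ) (h : p ≡ 1 [MOD m]) (n : ℕ) :
    (∑ k ∈ range n, p ^ k) ≡ n [MOD m] := by
  induction n with
  | zero => simp [Nat.ModEq]
  | succ n ih =>
    rw [Finset.sum_range_succ]
    have h1 : p ^ n ≡ 1 [MOD m] := by
      have := Nat.ModEq.pow n h
      rwa [one_pow] at this
    exact Nat.ModEq.add ih h1

theorem modEq_one_of_dvd_pred (p r : ℕ) (hp : 1 ≤ p) (h : r ∣ p - 1) : p ≡ 1 [MOD r] :=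
  ((Nat.modEq_iff_dvd' hp).mpr h).symm

theorem prime_dvd_case (p q : ℕ) (hp : p.Prime) (hq : q.Prime) (hpq : p % q ≠ 1)
    (r : ℕ) (hr : r.Prime) (hrS : r ∣ ∑ k ∈ range q, p ^ k) : r % q = 1 := by
  have hq1 : 1 < q := hq.one_lt
  have : Fact r.Prime := ⟨hr⟩
  have hS0 : ((∑ k ∈ range q, p ^ k : ℕ) : ZMod r) = 0 := (ZMod.natCast_eq_zero_iff _ _).mpr hrS
  have hpow : (p : ZMod r) ^ q = 1 := by
    have h1 := geom_sum_mul (p : ZMod r) q
    have h2 : (∑ i ∈ range q, (p : ZMod r) ^ i) = 0 := by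
      rw [← hS0]; push_cast; rfl
    rw [h2, zero_mul] at h1
    exact (sub_eq_zero.mp h1.symm)
  have hord : orderOf (p : ZMod r) ∣ q := orderOf_dvd_of_pow_eq_one hpow
  rcases (Nat.dvd_prime hq).mp hord with h1 | hqord
  · -- p ≡ 1 mod r
    exfalso
    rw [orderOf_eq_one_iff] at h1
    have hp1 : p ≡ 1 [MOD r] := by
      rw [← ZMod.natCast_eq_natCast_iff]; simpa using h1
    have h3 := geom_modEq p r hp1 q
    have h4 : r ∣ q := by
      have : (∑ k ∈ range q, p ^ k) ≡ 0 [MOD r] := (Nat.modEq_zero_iff_dvd).mpr hrS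
      exact (Nat.modEq_zero_iff_dvd).mp (h3.symm.trans this)
    have h5 : r = q := (Nat.prime_dvd_prime_iff_eq hr hq).mp h4
    rw [h5] at hp1
    apply hpq
    rw [hp1, Nat.mod_eq_of_lt hq1]
  · have hne : (p : ZMod r) ≠ 0 := by
      intro h0
      rw [h0, zero_pow hq.ne_zero] at hpow
      exact zero_ne_one hpow
    have h6 : (p : ZMod r) ^ (r - 1) = 1 := ZMod.pow_card_sub_one_eq_one hne
    have h7 : q ∣ r - 1 := by
      rw [← hqord]; exact orderOf_dvd_of_pow_eq_one h6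
    have h8 : r ≡ 1 [MOD q] := modEq_one_of_dvd_pred r q hr.one_le h7
    rw [h8, Nat.mod_eq_of_lt hq1]

theorem all_dvd_case (p q : ℕ) (hp : p.Prime) (hq : q.Prime) (hpq : p % q ≠ 1)
    (hS : (∑ k ∈ range q, p ^ k) ≠ 0) :
    ∀ x : ℕ, x ∣ (∑ k ∈ range q, p ^ k) → x % q = 1 := by
  have hq1 : 1 < q := hq.one_lt
  intro x
  induction x using Nat.strong_induction_on with
  | _ x ih =>
  intro hx
  by_cases hx1 : x = 1
  · rw [hx1, Nat.mod_eq_of_lt hq1]
  have hx0 : x ≠ 0 := by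
    rintro rfl
    exact hS (zero_dvd_iff.mp hx)
  have hr : (x.minFac).Prime := Nat.minFac_prime hx1
  obtain ⟨x', hx'⟩ := Nat.minFac_dvd x
  have hx'pos : 0 < x' := by
    rcases Nat.eq_zero_or_pos x' with h | h
    · rw [h, mul_zero] at hx'; exact absurd hx' hx0
    · exact h
  have hx'lt : x' < x := by
    calc x' = 1 * x' := (one_mul x').symm
      _ < x.minFac * x' := Nat.mul_lt_mul_of_pos_right hr.one_lt hx'pos
      _ = x := hx'.symm
  have hx'dvd : x' ∣ ∑ k ∈ range q, p ^ k := (Dvd.intro_left _ hx'.symm).trans hx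
  have hrdvd : x.minFac ∣ ∑ k ∈ range q, p ^ k := (Nat.minFac_dvd x).trans hx
  have e1 := ih x' hx'lt hx'dvd
  have e2 := prime_dvd_case p q hp hq hpq _ hr hrdvd
  rw [hx', Nat.mul_mod, e1, e2, Nat.mod_eq_of_lt hq1]

/-- Let p and q be odd primes and N = (p ^ q − 1) / (p − 1) = 1 + p + ⋯ + p^(q−1). Then N is odd; if p ≡ 1 (mod q) then q ∣ N; and if p is not ≡ 1 (mod q) then N is coprime to p − 1 and every divisor of N is ≡ 1 (mod q). -/
theorem result (p q : ℕ) (hp : p.Prime) (hq : q.Prime) (hp2 : p ≠ 2) (hq2 : q ≠ 2) : Odd ((p ^ q - 1) / (p - 1)) ∧ (p % q = 1 → q ∣ (p ^ q - 1) / (p - 1)) ∧ (p % q ≠ 1 → Nat.Coprime ((p ^ q - 1) / (p - 1)) (p - 1) ∧ ∀ x : ℕ, x ∣ (p ^ q - 1) / (p - 1) → x % q = 1) := by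
  rw [← Nat.geomSum_eq hp.two_le q]
  have hq1 : 1 < q := hq.one_lt
  have hpodd : Odd p := hp.odd_of_ne_two hp2
  have hqodd : Odd q := hq.odd_of_ne_two hq2
  have hodd : Odd (∑ k ∈ range q, p ^ k) := by
    have h1 : p ≡ 1 [MOD 2] := by
      unfold Nat.ModEq; rw [Nat.odd_iff.mp hpodd]
    have h2 := geom_modEq p 2 h1 q
    rw [Nat.odd_iff, h2, Nat.odd_iff.mp hqodd]
  refine ⟨hodd, ?_, ?_⟩
  · intro hpq
    have h1 : p ≡ 1 [MOD q] := by
      unfold Nat.ModEq; rw [hpq, Nat.mod_eq_of_lt hq1]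
    have h2 := geom_modEq p q h1 q
    rw [← Nat.modEq_zero_iff_dvd]
    exact h2.trans ((Nat.modEq_zero_iff_dvd).mpr dvd_rfl)
  · intro hpq
    have hS0 : (∑ k ∈ range q, p ^ k) ≠ 0 := by
      intro h0
      rw [h0] at hodd
      exact (Nat.not_odd_iff_even.mpr (by decide : Even 0)) hodd
    refine ⟨?_, all_dvd_case p q hp hq hpq hS0⟩
    apply Nat.coprime_of_dvd
    intro r hr hrS hrp
    have hp1 : p ≡ 1 [MOD r] := modEq_one_of_dvd_pred p r hp.one_le hrp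
    have h3 := geom_modEq p r hp1 q
    have h4 : r ∣ q := by
      have : (∑ k ∈ range q, p ^ k) ≡ 0 [MOD r] := (Nat.modEq_zero_iff_dvd).mpr hrS
      exact (Nat.modEq_zero_iff_dvd).mp (h3.symm.trans this)
    have h5 : r = q := (Nat.prime_dvd_prime_iff_eq hr hq).mp h4
    rw [h5] at hp1
    apply hpq
    rw [hp1, Nat.mod_eq_of_lt hq1]

end Cfsg.Agent.S1546
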