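import Cfsg.Statements.S1551
import Cfsg.Agent.Lib.H14.SextConc
import Cfsg.Agent.Lib.H14.StabTransp
import Cfsg.Agent.Lib.H28.SextTrioStructure

set_option autoImplicit false
open scoped Pointwise
open Cfsg

namespace Cfsg.Agent.S1551

open Cfsg.Agent.Lib.H14.SextAbs Cfsg.Agent.Lib.H14.SextConc Cfsg.Agent.Lib.H14.StabTransp

theorem ncard_sextets' : sextets.ncard = 1771 := by
  rw [Cfsg.Agent.Lib.H28.sextets_eq_absSextets]
  exact Cfsg.Agent.Lib.H28.ncard_absSextets Cfsg.Agent.Lib.H28.golayCode_isAbsGolay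

theorem card_stab {S : Finset (Finset GolayPt)} (hS : S ∈ sextets) :
    Nat.card ↥(MulAction.stabilizer ↥M24 S) = 138240 := by
  have h1 := Subgroup.card_eq_card_quotient_mul_card_subgroup (MulAction.stabilizer ↥M24 S)
  have h2 : Nat.card (↥M24 ⧸ MulAction.stabilizer ↥M24 S) = Nat.card (MulAction.orbit ↥M24 S) :=
    Nat.card_congr (MulAction.orbitEquivQuotientStabilizer ↥M24 S).symm
  have h3 : MulAction.orbit ↥M24 S = sextets := by
    ext S'
    rw [MulAction.mem_orbit_iff]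
    constructor
    · rintro ⟨g, rfl⟩
      exact Cfsg.Agent.Lib.H28.smul_mem_sextets' g hS
    · intro hS'
      obtain ⟨g, hg, e⟩ := Cfsg.Agent.Lib.H28.exists_M24_smul_sextet hS hS'
      exact ⟨⟨g, hg⟩, e⟩
  rw [h2, h3, Nat.card_coe_set_eq, ncard_sextets', Cfsg.Agent.Lib.H28.card_M24] at h1
  omega

theorem perm_of_surj (S : Finset (Finset GolayPt)) (h : Function.Surjective (tetHom S)) :
    ∀ e : Equiv.Perm ↥S, ∃ g ∈ MulAction.stabilizer ↥M24 S, ∀ t : ↥S,
      ((g : ↥M24) : Equiv.Perm GolayPt) • (t : Finset GolayPt) = ((e t : ↥S) : Finset GolayPt) := by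
  intro e
  obtain ⟨g, hg⟩ := h e
  refine ⟨g.1, g.2, fun t => ?_⟩
  rw [← hg]
  rfl

theorem surj_of_perm (S : Finset (Finset GolayPt))
    (h : ∀ e : Equiv.Perm ↥S, ∃ g ∈ MulAction.stabilizer ↥M24 S, ∀ t : ↥S,
      ((g : ↥M24) : Equiv.Perm GolayPt) • (t : Finset GolayPt) = ((e t : ↥S) : Finset GolayPt)) :
    Function.Surjective (tetHom S) := by
  intro e
  obtain ⟨g, hg, hgt⟩ := h e
  refine ⟨⟨g, hg⟩, ?_⟩
  apply Equiv.ext
  intro t
  apply Subtype.ext
  exact hgt t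

/-- Structure of a sextet stabiliser: it induces every permutation of the six tetrads, the subgroup fixing each tetrad setwise has order 192, and there is a normal subgroup of order 64 consisting of elements squaring to the identity. -/
theorem result (S : Finset (Finset Cfsg.GolayPt)) (hS : S ∈ Cfsg.sextets) : (∀ e : Equiv.Perm ↥S, ∃ g ∈ MulAction.stabilizer Cfsg.M24 S, ∀ t : ↥S, (g : Equiv.Perm Cfsg.GolayPt) • (t : Finset Cfsg.GolayPt) = ((e t : ↥S) : Finset Cfsg.GolayPt)) ∧ Nat.card {g : ↥(MulAction.stabilizer Cfsg.M24 S) // ∀ t ∈ S, ((g : Cfsg.M24) : Equiv.Perm Cfsg.GolayPt) • t = t} = 192 ∧ ∃ N : Subgroup ↥(MulAction.stabilizer Cfsg.M24 S), N.Normal ∧ Nat.card N = 64 ∧ ∀ x ∈ N, x * x = 1 := by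
    obtain ⟨g0, hg0, hgS⟩ := Cfsg.Agent.Lib.H28.exists_M24_smul_sextet S0_mem hS
    have hgS' : (⟨g0, hg0⟩ : ↥M24) • S0 = S := hgS
    subst hgS'
    have hP1 := perm_transport S0 ⟨g0, hg0⟩ (perm_of_surj S0 tetHom_surj)
    have hsurj := surj_of_perm _ hP1
    have hk := card_ker hS (card_stab hS) hsurj
    refine ⟨hP1, ?_, ?_⟩
    · rw [← hk]
      exact Nat.card_congr (Equiv.subtypeEquivRight (fun g => (mem_ker_tetHom _ g).symm))
    · have h0 : ∃ N : Subgroup ↥(MulAction.stabilizer ↥M24 S0), N.Normal ∧ Nat.card N = 64 ∧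
          ∀ x ∈ N, x * x = 1 :=
        ⟨vier S0, vier_normal S0, card_vier S0_mem (card_ker S0_mem (card_stab S0_mem) tetHom_surj)
          card_vier_ge, fun x hx => vier_sq S0_mem hx⟩
      exact exists_normal_transport
        (MulAction.stabilizerEquivStabilizer (g := (⟨g0, hg0⟩ : ↥M24)) (a := S0) rfl) h0

end Cfsg.Agent.S1551
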