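import Cfsg.Statements.S1552
import Cfsg.Agent.Lib.H28.SextTrioStructure

set_option autoImplicit false
open scoped Pointwise
open Cfsg

namespace Cfsg.Agent.S1552

/-- A sextet stabiliser has four orbits on the 1771 sextets, of sizes 1, 90, 240, 1440; and the stabiliser is a maximal proper subgroup. -/
theorem result (S : Finset (Finset Cfsg.GolayPt)) (hS : S ∈ Cfsg.sextets) : ∃ X₁ ∈ Cfsg.sextets, ∃ X₂ ∈ Cfsg.sextets, ∃ X₃ ∈ Cfsg.sextets, (MulAction.orbit ↥(MulAction.stabilizer Cfsg.M24 S) X₁).ncard = 90 ∧ (MulAction.orbit ↥(MulAction.stabilizer Cfsg.M24 S) X₂).ncard = 240 ∧ (MulAction.orbit ↥(MulAction.stabilizer Cfsg.M24 S) X₃).ncard = 1440 ∧ Cfsg.sextets = {S} ∪ MulAction.orbit ↥(MulAction.stabilizer Cfsg.M24 S) X₁ ∪ MulAction.orbit ↥(MulAction.stabilizer Cfsg.M24 S) X₂ ∪ MulAction.orbit ↥(MulAction.stabilizer Cfsg.M24 S) X₃ ∧ IsCoatom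 (MulAction.stabilizer Cfsg.M24 S) := by
  classical
  obtain ⟨g, hg, rfl⟩ := Cfsg.Agent.Lib.H28.exists_M24_smul_sextet Cfsg.Agent.Lib.H28.sext0_mem_sextets hS
  obtain ⟨t1, t2, t3⟩ := Cfsg.Agent.Lib.H28.sextet_sextet_structure ⟨g, hg⟩
  have hperm : ∀ j : ℕ, j ∈ [60030, 1224, 2196, 576] ↔ j ∈ Cfsg.Agent.Lib.H28.sextSextJ := by
    intro j
    unfold Cfsg.Agent.Lib.H28.sextSextJ
    simp only [List.mem_cons, List.not_mem_nil, or_false]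
    tauto
  have h := Cfsg.Agent.Lib.H28.pack3s (G := ↥Cfsg.M24) Cfsg.sextets Cfsg.Agent.Lib.H28.pairInv
    ((⟨g, hg⟩ : ↥Cfsg.M24) • Cfsg.Agent.Lib.H28.decL Cfsg.Agent.Lib.H28.sext0Key) 60030 1224 2196 576 Cfsg.Agent.Lib.H28.sextSextN ((⟨g, hg⟩ : ↥Cfsg.M24) • Cfsg.Agent.Lib.H28.decL Cfsg.Agent.Lib.H28.sext0Key)
    (Cfsg.Agent.Lib.H28.smul_mem_sextets hg Cfsg.Agent.Lib.H28.sext0_mem_sextets) (Cfsg.Agent.Lib.H28.pairInv_sext0_self ⟨g, hg⟩) rfl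
    (fun j hj => t1 j ((hperm j).1 hj)) t2
    (fun y hy => (hperm _).2 (t3 y hy))
  obtain ⟨X₁, hX₁, X₂, hX₂, X₃, hX₃, c1, c2, c3, hU⟩ := h
  exact ⟨X₁, hX₁, X₂, hX₂, X₃, hX₃, c1, c2, c3, hU, Cfsg.Agent.Lib.H28.isCoatom_stabilizer_sextet ⟨g, hg⟩⟩

end Cfsg.Agent.S1552
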