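import Cfsg.Statements.S1558
import Cfsg.Agent.Lib.H14.TrioConc
import Cfsg.Agent.Lib.H14.StabTransp
import Cfsg.Agent.Lib.H28.SextTrioStructure

set_option autoImplicit false
open scoped Pointwise
open Cfsg

namespace Cfsg.Agent.S1558

open Cfsg.Agent.Lib.H14.SextAbs Cfsg.Agent.Lib.H14.TrioConc Cfsg.Agent.Lib.H14.StabTransp

theorem ncard_trios' : trios.ncard = 3795 := by
  rw [Cfsg.Agent.Lib.H28.trios_eq_absTrios]
  exact Cfsg.Agent.Lib.H28.ncard_absTrios Cfsg.Agent.Lib.H28.golayCode_isAbsGolay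

theorem card_stab {T : Finset (Finset GolayPt)} (hT : T ∈ trios) :
    Nat.card ↥(MulAction.stabilizer ↥M24 T) = 64512 := by
  have h1 := Subgroup.card_eq_card_quotient_mul_card_subgroup (MulAction.stabilizer ↥M24 T)
  have h2 : Nat.card (↥M24 ⧸ MulAction.stabilizer ↥M24 T) = Nat.card (MulAction.orbit ↥M24 T) :=
    Nat.card_congr (MulAction.orbitEquivQuotientStabilizer ↥M24 T).symm
  have h3 : MulAction.orbit ↥M24 T = trios := by
    ext T'
    rw [MulAction.mem_orbit_iff]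
    constructor
    · rintro ⟨g, rfl⟩
      exact Cfsg.Agent.Lib.H28.smul_mem_trios' g hT
    · intro hT'
      obtain ⟨g, hg, e⟩ := Cfsg.Agent.Lib.H28.exists_M24_smul_trio hT hT'
      exact ⟨⟨g, hg⟩, e⟩
  rw [h2, h3, Nat.card_coe_set_eq, ncard_trios', Cfsg.Agent.Lib.H28.card_M24] at h1
  omega

theorem perm_of_surj (S : Finset (Finset GolayPt)) (h : Function.Surjective (tetHom S)) :
    ∀ e : Equiv.Perm ↥S, ∃ g ∈ MulAction.stabilizer ↥M24 S, ∀ t : ↥S,
      ((g : ↥M24) : Equiv.Perm GolayPt) • (t : Finset GolayPt) = ((e t : ↥S) : Finset GolayPt) := by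
  intro e
  obtain ⟨g, hg⟩ := h e
  refine ⟨g.1, g.2, fun t => ?_⟩
  rw [← hg]
  rfl

/-- Structure of a trio stabiliser: every permutation of the three octads is induced, and there is a normal subgroup of order 64 of elements squaring to the identity whose quotient is isomorphic to the product of GL(3, 2) with the symmetric group of degree 3. -/
theorem result (T : Finset (Finset Cfsg.GolayPt)) (hT : T ∈ Cfsg.trios) : (∀ e : Equiv.Perm ↥T, ∃ g ∈ MulAction.stabilizer Cfsg.M24 T, ∀ o : ↥T, (g : Equiv.Perm Cfsg.GolayPt) • (o : Finset Cfsg.GolayPt) = ((e o : ↥T) : Finset Cfsg.GolayPt)) ∧ ∃ (N : Subgroup ↥(MulAction.stabilizer Cfsg.M24 T)) (_ : N.Normal), Nat.card N = 64 ∧ (∀ x ∈ N, x * x = 1) ∧ Nonempty (↥(MulAction.stabilizer Cfsg.M24 T) ⧸ N ≃* GL (Fin 3) (ZMod 2) × Equiv.Perm (Fin 3)) := by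
    obtain ⟨g0, hg0, hgT⟩ := Cfsg.Agent.Lib.H28.exists_M24_smul_trio T0_mem hT
    have hgT' : (⟨g0, hg0⟩ : ↥M24) • T0 = T := hgT
    subst hgT'
    refine ⟨perm_transport T0 ⟨g0, hg0⟩ (perm_of_surj T0 tetHom_surj), ?_⟩
    exact exists_normal_quot_transport
      (MulAction.stabilizerEquivStabilizer (g := (⟨g0, hg0⟩ : ↥M24)) (a := T0) rfl)
      (trio0_structure (card_stab T0_mem))

end Cfsg.Agent.S1558
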