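import Cfsg.Statements.S1559
import Cfsg.Agent.Lib.H28.SextTrioStructure

set_option autoImplicit false
open scoped Pointwise
open Cfsg

namespace Cfsg.Agent.S1559

/-- A trio stabiliser has five orbits on the 3795 trios, of sizes 1, 42, 56, 1008, 2688; and the stabiliser is a maximal proper subgroup. -/
theorem result (T : Finset (Finset Cfsg.GolayPt)) (hT : T ∈ Cfsg.trios) : ∃ X₁ ∈ Cfsg.trios, ∃ X₂ ∈ Cfsg.trios, ∃ X₃ ∈ Cfsg.trios, ∃ X₄ ∈ Cfsg.trios, (MulAction.orbit ↥(MulAction.stabilizer Cfsg.M24 T) X₁).ncard = 42 ∧ (MulAction.orbit ↥(MulAction.stabilizer Cfsg.M24 T) X₂).ncard = 56 ∧ (MulAction.orbit ↥(MulAction.stabilizer Cfsg.M24 T) X₃).ncard = 1008 ∧ (MulAction.orbit ↥(MulAction.stabilizer Cfsg.M24 T) X₄).ncard = 2688 ∧ Cfsg.trios = {T} ∪ MulAction.orbit ↥(MulAction.stabilizer Cfsg.M24 T) X₁ ∪ MulAction.orbit ↥(MulAction.stabilizer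 Cfsg.M24 T) X₂ ∪ MulAction.orbit ↥(MulAction.stabilizer Cfsg.M24 T) X₃ ∪ MulAction.orbit ↥(MulAction.stabilizer Cfsg.M24 T) X₄ ∧ IsCoatom (MulAction.stabilizer Cfsg.M24 T) := by
  classical
  obtain ⟨g, hg, rfl⟩ := Cfsg.Agent.Lib.H28.exists_M24_smul_trio Cfsg.Agent.Lib.H28.trio0_mem_trios hT
  obtain ⟨t1, t2, t3⟩ := Cfsg.Agent.Lib.H28.trio_trio_structure ⟨g, hg⟩
  have hperm : ∀ j : ℕ, j ∈ [300000006, 100040004, 60003, 40401, 30600] ↔ j ∈ Cfsg.Agent.Lib.H28.trioTrioJ := by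
    intro j
    unfold Cfsg.Agent.Lib.H28.trioTrioJ
    simp only [List.mem_cons, List.not_mem_nil, or_false]
    tauto
  have h := Cfsg.Agent.Lib.H28.pack4s (G := ↥Cfsg.M24) Cfsg.trios Cfsg.Agent.Lib.H28.pairInv
    ((⟨g, hg⟩ : ↥Cfsg.M24) • Cfsg.Agent.Lib.H28.decL Cfsg.Agent.Lib.H28.trio0Key) 300000006 100040004 60003 40401 30600 Cfsg.Agent.Lib.H28.trioTrioN ((⟨g, hg⟩ : ↥Cfsg.M24) • Cfsg.Agent.Lib.H28.decL Cfsg.Agent.Lib.H28.trio0Key)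
    (Cfsg.Agent.Lib.H28.smul_mem_trios hg Cfsg.Agent.Lib.H28.trio0_mem_trios) (Cfsg.Agent.Lib.H28.pairInv_trio0_self ⟨g, hg⟩) rfl
    (fun j hj => t1 j ((hperm j).1 hj)) t2
    (fun y hy => (hperm _).2 (t3 y hy))
  obtain ⟨X₁, hX₁, X₂, hX₂, X₃, hX₃, X₄, hX₄, c1, c2, c3, c4, hU⟩ := h
  exact ⟨X₁, hX₁, X₂, hX₂, X₃, hX₃, X₄, hX₄, c1, c2, c3, c4, hU, Cfsg.Agent.Lib.H28.isCoatom_stabilizer_trio ⟨g, hg⟩⟩

end Cfsg.Agent.S1559
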