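import Cfsg.Statements.S1572
import Cfsg.Agent.Lib.H7.CoMax.P23
import Cfsg.Agent.Lib.H27.Co0NCount
import Cfsg.Agent.Lib.H27.ConwayOrders
import Cfsg.Agent.Lib.H18.NXSTEP3

set_option autoImplicit false
open scoped Pointwise
open Cfsg

namespace Cfsg.Agent.S1572

open Cfsg.Agent.Lib.H27 Cfsg.Agent.Lib.H28 Cfsg.Agent.Lib.H18.NX MulAction

/-- the only divisor of `8292375 = 3^6 * 5^3 * 7 * 13` that is `1 mod 23` and divisible by 13 and 25 -/
theorem final_arith (t : ℕ) (h1 : t ∣ 8292375) (h2 : t % 23 = 1) (h3 : 13 ∣ t) (h4 : 25 ∣ t) :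
    t = 8292375 := by
  have h5 : 13 * 25 ∣ t := Nat.Coprime.mul_dvd_of_dvd_of_dvd (by norm_num) h3 h4
  obtain ⟨j, rfl⟩ := h5
  have h6 : j ∣ 3 ^ 6 * (5 * 7) := by
    have : (13 * 25 * j) ∣ 13 * 25 * (3 ^ 6 * (5 * 7)) := by norm_num; exact h1
    exact Nat.dvd_of_mul_dvd_mul_left (by norm_num) this
  obtain ⟨a, b, ha, hb, rfl⟩ := (Nat.dvd_mul).1 h6
  obtain ⟨m, hm, rfl⟩ := (Nat.dvd_prime_pow Nat.prime_three).1 ha
  obtain ⟨c, d, hc, hd, rfl⟩ := (Nat.dvd_mul).1 hb
  have hc' : c = 1 ∨ c = 5 := (Nat.dvd_prime Nat.prime_five).1 hc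
  have hd' : d = 1 ∨ d = 7 := (Nat.dvd_prime (by norm_num : Nat.Prime 7)).1 hd
  interval_cases m <;> rcases hc' with rfl | rfl <;> rcases hd' with rfl | rfl <;> omega

/-- the orbit of a lattice vector under a subgroup, as a set -/
def orb (K : Subgroup Co0) (x : leechLattice) : Set leechLattice := {y | ∃ k ∈ K, k • x = y}

theorem card_orb (K : Subgroup Co0) (x : leechLattice) :
    Nat.card ↥(K ⊓ stabilizer Co0 x) * (orb K x).ncard = Nat.card ↥K :=
  card_sub_stab K x (orb K x) ⟨1, K.one_mem, one_smul _ _⟩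
    (fun g hg y hy => by
      obtain ⟨k, hk, rfl⟩ := hy
      exact ⟨g * k, K.mul_mem hg hk, mul_smul _ _ _⟩)
    (fun y hy => hy)

theorem orb_cases (K : Subgroup Co0) (hNK : ∀ g : Co0, StabCross g → g ∈ K) (x : leechLattice)
    (hx32 : sqNorm (x : GolayPt → ℤ) = 32) (hxA : IsA (x : GolayPt → ℤ)) :
    orb K x = {w : leechLattice | IsA (w : GolayPt → ℤ)} ∨ (orb K x).ncard = 98256 ∨
      (orb K x).ncard = 99408 ∨ orb K x = {w : leechLattice | sqNorm (w : GolayPt → ℤ) = 32} := by
  apply nOrbit_cases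
  · rintro w ⟨k, _, rfl⟩
    rw [Co0_sqNorm]; exact hx32
  · rintro w ⟨k, hk, rfl⟩ w' ⟨g, hg, rfl⟩
    exact ⟨g * k, K.mul_mem (hNK g hg) hk, mul_smul _ _ _⟩
  · exact ⟨x, ⟨1, K.one_mem, one_smul _ _⟩, hxA⟩

/-- The stabiliser of the standard cross is a maximal proper subgroup of the lattice's automorphism group. -/
theorem result (H : Subgroup ↥Cfsg.Co0) (hH : (H : Set ↥Cfsg.Co0) = {g : ↥Cfsg.Co0 | (∀ v : ↥Cfsg.leechLattice, (v : Cfsg.GolayPt → ℤ) ∈ Cfsg.stdCross → ((g • v : ↥Cfsg.leechLattice) : Cfsg.GolayPt → ℤ) ∈ Cfsg.stdCross)}) : IsCoatom H := by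
  have hN : ∀ g : Co0, g ∈ H ↔ StabCross g := fun g => by
    rw [← SetLike.mem_coe, hH]; rfl
  have hfin : Finite Co0 := Cfsg.Agent.Lib.H7.CoMax.finite_Co0'
  have hcardN : Nat.card H = 1002795171840 := by
    have h1 : Nat.card H = Nat.card {g : Co0 // StabCross g} :=
      Nat.card_congr (Equiv.subtypeEquivRight hN)
    rw [h1, card_stabCross]
  constructor
  · intro htop
    have h1 := Subgroup.card_top (G := Co0)
    rw [← htop, hcardN, card_Co0] at h1
    norm_num at h1
  · intro K hHK
    have hle : H ≤ K := hHK.le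
    obtain ⟨k0, hk0K, hk0H⟩ := SetLike.exists_of_lt hHK
    have hpq : (none : GolayPt) ≠ some 0 := by decide
    set v : leechLattice := vPQ none (some 0) hpq with hv
    have hNK : ∀ g : Co0, StabCross g → g ∈ K := fun g hg => hle ((hN g).2 hg)
    have hv32 : sqNorm (v : GolayPt → ℤ) = 32 := sqNorm_vecA hpq (Or.inl rfl) (Or.inl rfl)
    have hvA : IsA (v : GolayPt → ℤ) := isA_vecA hpq (Or.inl rfl) (Or.inl rfl)
    have hKdvd : Nat.card K ∣ 8315553613086720000 := by
      rw [← card_Co0]; exact Subgroup.card_subgroup_dvd_card K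
    have hKorb := card_orb K v
    rcases orb_cases K hNK v hv32 hvA with h | h | h | h
    · -- `K` preserves the shape `A`, hence stabilises the cross
      exfalso
      apply hk0H
      rw [hN]
      apply stabCross_of_isA
      intro w hw
      have h1 : w ∈ orb K v := by rw [h]; exact hw
      obtain ⟨k, hk, rfl⟩ := h1
      have h2 : k0 • k • v ∈ orb K v := ⟨k0 * k, K.mul_mem hk0K hk, mul_smul _ _ _⟩
      rw [h] at h2
      exact h2
    · exfalso
      rw [h] at hKorb
      have h1 : 98256 ∣ 8315553613086720000 := Dvd.dvd.trans ⟨_, by rw [← hKorb]; ring⟩ hKdvd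
      norm_num at h1
    · exfalso
      rw [h] at hKorb
      have h1 : 99408 ∣ 8315553613086720000 := Dvd.dvd.trans ⟨_, by rw [← hKorb]; ring⟩ hKdvd
      norm_num at h1
    · rw [h, ncard_norm32] at hKorb
      have hKv2 : Nat.card ↥(K ⊓ stabilizer Co0 v) ∣ 42305421312000 := by
        rw [← card_stab32 v hv32]
        exact Subgroup.card_dvd_of_le inf_le_right
      have ht := Cfsg.Agent.Lib.H7.CoMax.relIndex_modEq_one H K hN hle
      have hKN : Nat.card H * H.relIndex K = Nat.card K := by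
        have h1 := Subgroup.relIndex_mul_relIndex ⊥ H K bot_le hle
        rwa [Subgroup.relIndex_bot_left, Subgroup.relIndex_bot_left] at h1
      have h25 : 25 ∣ Nat.card ↥(K ⊓ stabilizer Co0 v) := by
        by_contra h25
        have h29 : ¬ 29 ∣ Nat.card ↥(K ⊓ stabilizer Co0 v) := fun h' => by
          have h1 := h'.trans hKv2
          norm_num at h1
        have h89 : ¬ 89 ∣ Nat.card ↥(K ⊓ stabilizer Co0 v) := fun h' => by
          have h1 := h'.trans hKv2
          norm_num at h1
        have hst := stab_le_of_card none (some 0) hpq K hNK h29 h89 h25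
        have hNv : H ⊓ stabilizer Co0 v = K ⊓ stabilizer Co0 v := by
          apply le_antisymm
          · exact inf_le_inf_right _ hle
          · intro k hk
            exact ⟨(hN k).2 (hst k hk), hk.2⟩
        have hNorb := card_orb H v
        rw [hNv, hcardN] at hNorb
        rw [← hKN, hcardN] at hKorb
        have hpos : 0 < Nat.card ↥(K ⊓ stabilizer Co0 v) := Nat.card_pos
        rcases orb_cases H (fun g hg => (hN g).2 hg) v hv32 hvA with h' | h' | h' | h'
        · rw [h', ncard_isA] at hNorb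
          rw [← hNorb, mul_assoc] at hKorb
          have h1 := Nat.eq_of_mul_eq_mul_left hpos hKorb
          omega
        · rw [h'] at hNorb; omega
        · rw [h'] at hNorb; omega
        · rw [h', ncard_norm32] at hNorb; omega
      have e1 : 1002795171840 * H.relIndex K = Nat.card ↥(K ⊓ stabilizer Co0 v) * 196560 := by
        rw [← hcardN, hKN, hKorb]
      have h13 : 13 ∣ H.relIndex K := by omega
      have h25t : 25 ∣ H.relIndex K := by
        obtain ⟨m, hm⟩ := h25
        rw [hm] at e1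
        omega
      have htd : H.relIndex K ∣ 8292375 := by
        have h1 : 1002795171840 * H.relIndex K ∣ 1002795171840 * 8292375 := by
          have e2 : 1002795171840 * H.relIndex K = Nat.card ↥K := by rw [← hcardN, hKN]
          rw [e2]
          norm_num
          exact hKdvd
        exact Nat.dvd_of_mul_dvd_mul_left (by norm_num) h1
      have hfinal := final_arith _ htd ht h13 h25t
      rw [← Subgroup.card_eq_iff_eq_top, ← hKN, hcardN, hfinal, card_Co0]

end Cfsg.Agent.S1572
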