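import Cfsg.Statements.S1579
import Cfsg.Agent.Lib.H27.Co0Pairs2

set_option autoImplicit false
open Cfsg

namespace Cfsg.Agent.S1579

open Cfsg.Agent.Lib.H27

/-- The stabiliser of a vector of customary norm 6 is transitive on the 552 minimal vectors that complete it to a sum of two minimal vectors. -/
theorem result (u v v' : ↥Cfsg.leechLattice) (hu : Cfsg.sqNorm (u : Cfsg.GolayPt → ℤ) = 48) (hv : Cfsg.sqNorm (v : Cfsg.GolayPt → ℤ) = 32 ∧ Cfsg.sqNorm ((u - v) : Cfsg.GolayPt → ℤ) = 32) (hv' : Cfsg.sqNorm (v' : Cfsg.GolayPt → ℤ) = 32 ∧ Cfsg.sqNorm ((u - v') : Cfsg.GolayPt → ℤ) = 32) : ∃ g : ↥Cfsg.Co0, g • u = u ∧ g • v = v' := by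
  obtain ⟨hv1, hv2⟩ := hv
  obtain ⟨hv1', hv2'⟩ := hv'
  -- `v · (u - v) = -8`
  have key : ∀ x : leechLattice, sqNorm (x : GolayPt → ℤ) = 32 →
      sqNorm ((u - x) : GolayPt → ℤ) = 32 →
      dotInt (x : GolayPt → ℤ) ((u - x : leechLattice) : GolayPt → ℤ) = -8 := by
    intro x hx1 hx2
    have h1 := sqNorm_add' (x : GolayPt → ℤ) ((u - x : leechLattice) : GolayPt → ℤ)
    have e : (x : GolayPt → ℤ) + ((u - x : leechLattice) : GolayPt → ℤ) = (u : GolayPt → ℤ) := by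
      rw [AddSubgroup.coe_sub]; abel
    rw [e, hu, hx1] at h1
    have hx2' : sqNorm ((u - x : leechLattice) : GolayPt → ℤ) = 32 := hx2
    rw [hx2'] at h1
    omega
  obtain ⟨g, hg1, hg2⟩ := trans_pairs' v (u - v) v' (u - v') hv1 hv2 hv1' hv2' (Or.inr rfl)
    (key v hv1 hv2) (key v' hv1' hv2')
  refine ⟨g, ?_, hg1⟩
  have e1 : u = v + (u - v) := by abel
  have e2 : u = v' + (u - v') := by abel
  conv_lhs => rw [e1]
  rw [Co0_smul_add, hg1, hg2]
  abel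

end Cfsg.Agent.S1579
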