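import Mathlib
import Cfsg.Statements.S1595
import Cfsg.Agent.Lib.H27.SteinerInt

set_option autoImplicit false
open Cfsg

namespace Cfsg.Agent.S1595

open Finset Cfsg.Agent.Lib.H28 Cfsg.Agent.Lib.H27

section aux

set_option linter.unusedSectionVars false

variable {α : Type*} [Fintype α] [DecidableEq α]

/-- The number of blocks meeting `b` exactly in `u`. -/
noncomputable def mu (B : Set (Finset α)) (b u : Finset α) : ℕ :=
  ((blocksF B).filter (fun c => b ∩ c = u)).card

theorem through_eq_sum (B : Set (Finset α)) (b s : Finset α) (hs : s ⊆ b) :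
    ((blocksF B).filter (s ⊆ ·)).card = ∑ u ∈ b.powerset.filter (s ⊆ ·), mu B b u := by
  unfold mu
  rw [Finset.card_eq_sum_card_fiberwise (f := fun c => b ∩ c) (t := b.powerset.filter (s ⊆ ·))]
  · apply sum_congr rfl
    intro u hu
    rw [mem_filter, mem_powerset] at hu
    congr 1
    ext c
    simp only [mem_filter]
    constructor
    · rintro ⟨⟨hc, _⟩, h⟩
      exact ⟨hc, h⟩
    · rintro ⟨hc, h⟩
      refine ⟨⟨hc, ?_⟩, h⟩
      rw [← h] at hu
      exact hu.2.trans inter_subset_right
  · intro c hc
    rw [Finset.mem_coe, mem_filter] at hc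
    rw [Finset.mem_coe, mem_filter, mem_powerset]
    exact ⟨inter_subset_left, subset_inter hs hc.2⟩

theorem sum_powerset_filter (b s : Finset α) (f : Finset α → ℕ) :
    ∑ u ∈ b.powerset.filter (s ⊆ ·), f u =
      ∑ m ∈ range (b.card + 1), ∑ u ∈ (b.powersetCard m).filter (s ⊆ ·), f u := by
  rw [← Finset.sum_fiberwise_of_maps_to (s := b.powerset.filter (s ⊆ ·))
    (t := range (b.card + 1)) (g := Finset.card)]
  · apply sum_congr rfl
    intro m _
    apply sum_congr _ (fun _ _ => rfl)
    ext u
    simp only [mem_filter, mem_powerset, mem_powersetCard]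
    tauto
  · intro u hu
    rw [mem_filter, mem_powerset] at hu
    rw [mem_range]
    have := card_le_card hu.1
    omega

theorem inner_lt (b s : Finset α) (f : Finset α → ℕ) (m : ℕ) (hm : m < s.card) :
    ∑ u ∈ (b.powersetCard m).filter (s ⊆ ·), f u = 0 := by
  apply sum_eq_zero
  intro u hu
  rw [mem_filter, mem_powersetCard] at hu
  have := card_le_card hu.2
  omega

theorem inner_eq (b s : Finset α) (hs : s ⊆ b) (f : Finset α → ℕ) :
    ∑ u ∈ (b.powersetCard s.card).filter (s ⊆ ·), f u = f s := by
  have : (b.powersetCard s.card).filter (s ⊆ ·) = {s} := by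
    ext u
    rw [mem_filter, mem_powersetCard, mem_singleton]
    constructor
    · rintro ⟨⟨_, h1⟩, h2⟩
      exact (eq_of_subset_of_card_le h2 h1.le).symm
    · rintro rfl
      exact ⟨⟨hs, rfl⟩, subset_rfl⟩
  rw [this, sum_singleton]

theorem inner_gt (b s : Finset α) (hs : s ⊆ b) (f : Finset α → ℕ) (m ν : ℕ) (hm : s.card ≤ m)
    (hf : ∀ u, u ⊆ b → u.card = m → f u = ν) :
    ∑ u ∈ (b.powersetCard m).filter (s ⊆ ·), f u = (b.card - s.card).choose (m - s.card) * ν := by
  rw [sum_congr rfl (g := fun _ => ν), sum_const, smul_eq_mul,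
    card_filter_powersetCard_subset s b m hs hm]
  intro u hu
  rw [mem_filter, mem_powersetCard] at hu
  exact hf u hu.1.1 hu.1.2

theorem step (B : Set (Finset α)) (b s : Finset α) (hs : s ⊆ b) (ν : ℕ → ℕ)
    (hν : ∀ u, u ⊆ b → s.card < u.card → mu B b u = ν u.card) :
    ((blocksF B).filter (s ⊆ ·)).card = ∑ m ∈ range (b.card + 1),
      (if m < s.card then 0 else if m = s.card then mu B b s
        else (b.card - s.card).choose (m - s.card) * ν m) := by
  rw [through_eq_sum B b s hs, sum_powerset_filter]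
  apply sum_congr rfl
  intro m _
  by_cases h1 : m < s.card
  · rw [if_pos h1, inner_lt b s _ m h1]
  · rw [if_neg h1]
    by_cases h2 : m = s.card
    · rw [if_pos h2, h2, inner_eq b s hs]
    · rw [if_neg h2]
      apply inner_gt b s hs _ m (ν m) (by omega)
      intro u hub hum
      rw [hν u hub (by omega), hum]

theorem mu_self {B : Set (Finset α)} (hB : IsSteinerSystem 5 6 B) {b : Finset α} (hb : b ∈ B) :
    mu B b b = 1 := by
  unfold mu
  rw [card_eq_one]
  refine ⟨b, ?_⟩
  ext c
  rw [mem_filter, mem_singleton, mem_blocksF]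
  constructor
  · rintro ⟨hc, h⟩
    have h1 : b ⊆ c := inter_eq_left.mp h
    exact (eq_of_subset_of_card_le h1 (by rw [hB.1 b hb, hB.1 c hc])).symm
  · rintro rfl
    exact ⟨hb, inter_self _⟩

/-- The Leech triangle values. -/
def nu : ℕ → ℕ
  | 6 => 1
  | 4 => 3
  | 3 => 2
  | 2 => 3
  | _ => 0

theorem mu_vals (hα : Fintype.card α = 12) {B : Set (Finset α)} (hB : IsSteinerSystem 5 6 B)
    {b : Finset α} (hb : b ∈ B) : ∀ u, u ⊆ b → 1 ≤ u.card → mu B b u = nu u.card := by
  have hbk : b.card = 6 := hB.1 b hb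
  have h6 : ∀ u, u ⊆ b → 5 < u.card → mu B b u = nu u.card := by
    intro u hub hu
    have h1 := card_le_card hub
    have h2 : u = b := eq_of_subset_of_card_le hub (by omega)
    rw [h2, hbk, mu_self hB hb]
    rfl
  have h5 : ∀ u, u ⊆ b → 4 < u.card → mu B b u = nu u.card := by
    intro u hub hu
    by_cases h : 5 < u.card
    · exact h6 u hub h
    have hu5 : u.card = 5 := by omega
    have hN := steiner_count hB u (by omega)
    have hS := step B b u hub nu (fun v hv hlt => h6 v hv (by omega))
    rw [hbk, hu5] at hS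
    rw [hu5, hα] at hN
    simp [sum_range_succ, nu, Nat.choose] at hS hN
    rw [hu5]
    show mu B b u = 0
    omega
  have h4 : ∀ u, u ⊆ b → 3 < u.card → mu B b u = nu u.card := by
    intro u hub hu
    by_cases h : 4 < u.card
    · exact h5 u hub h
    have hu5 : u.card = 4 := by omega
    have hN := steiner_count hB u (by omega)
    have hS := step B b u hub nu (fun v hv hlt => h5 v hv (by omega))
    rw [hbk, hu5] at hS
    rw [hu5, hα] at hN
    simp [sum_range_succ, nu, Nat.choose] at hS hN
    rw [hu5]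
    show mu B b u = 3
    omega
  have h3 : ∀ u, u ⊆ b → 2 < u.card → mu B b u = nu u.card := by
    intro u hub hu
    by_cases h : 3 < u.card
    · exact h4 u hub h
    have hu5 : u.card = 3 := by omega
    have hN := steiner_count hB u (by omega)
    have hS := step B b u hub nu (fun v hv hlt => h4 v hv (by omega))
    rw [hbk, hu5] at hS
    rw [hu5, hα] at hN
    simp [sum_range_succ, nu, Nat.choose] at hS hN
    rw [hu5]
    show mu B b u = 2
    omega
  have h2 : ∀ u, u ⊆ b → 1 < u.card → mu B b u = nu u.card := by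
    intro u hub hu
    by_cases h : 2 < u.card
    · exact h3 u hub h
    have hu5 : u.card = 2 := by omega
    have hN := steiner_count hB u (by omega)
    have hS := step B b u hub nu (fun v hv hlt => h3 v hv (by omega))
    rw [hbk, hu5] at hS
    rw [hu5, hα] at hN
    simp [sum_range_succ, nu, Nat.choose] at hS hN
    rw [hu5]
    show mu B b u = 3
    omega
  intro u hub hu
  by_cases h : 1 < u.card
  · exact h2 u hub h
  have hu5 : u.card = 1 := by omega
  have hN := steiner_count hB u (by omega)
  have hS := step B b u hub nu (fun v hv hlt => h2 v hv (by omega))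
  rw [hbk, hu5] at hS
  rw [hu5, hα] at hN
  simp [sum_range_succ, nu, Nat.choose] at hS hN
  rw [hu5]
  show mu B b u = 0
  omega

end aux

/-- Leech triangle of S(5, 6, 12): blocks meet in 0, 2, 3 or 4 points, and a block is met exactly in a given 2-, 3- or 4-subset by 3, 2, 3 blocks respectively. -/
theorem result {α : Type*} [Fintype α] [DecidableEq α] (hα : Fintype.card α = 12) {B : Set (Finset α)} (hB : Cfsg.IsSteinerSystem 5 6 B) (b : Finset α) (hb : b ∈ B) : (∀ c ∈ B, c ≠ b → (b ∩ c).card = 0 ∨ (b ∩ c).card = 2 ∨ (b ∩ c).card = 3 ∨ (b ∩ c).card = 4) ∧ ∀ s ⊆ b, (s.card = 2 → {c : Finset α | c ∈ B ∧ b ∩ c = s}.ncard = 3) ∧ (s.card = 3 → {c : Finset α | c ∈ B ∧ b ∩ c = s}.ncard = 2) ∧ (s.card = 4 → {c : Finset α | c ∈ B ∧ b ∩ c = s}.ncard = 3) := by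
  have hmu := mu_vals hα hB hb
  have hn : ∀ s : Finset α, {c : Finset α | c ∈ B ∧ b ∩ c = s}.ncard = mu B b s := by
    intro s
    exact ncard_eq_card_filter B (fun c => b ∩ c = s)
  constructor
  · intro c hc hne
    have hlt := inter_card_lt hB hb hc hne
    rw [inter_comm] at hlt
    have h1 : (b ∩ c).card ≠ 1 := by
      intro h1
      have h2 := hmu (b ∩ c) inter_subset_left (by omega)
      rw [h1] at h2
      have h3 : c ∈ (blocksF B).filter (fun d => b ∩ d = b ∩ c) := by
        rw [mem_filter, mem_blocksF]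
        exact ⟨hc, rfl⟩
      have h4 : 0 < mu B b (b ∩ c) := card_pos.mpr ⟨c, h3⟩
      rw [h2] at h4
      exact absurd h4 (by decide)
    omega
  · intro s hs
    refine ⟨?_, ?_, ?_⟩
    · intro h
      rw [hn, hmu s hs (by omega), h]
      rfl
    · intro h
      rw [hn, hmu s hs (by omega), h]
      rfl
    · intro h
      rw [hn, hmu s hs (by omega), h]
      rfl

end Cfsg.Agent.S1595
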