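import Cfsg.Statements.S1604
import Cfsg.Agent.Lib.H28.OctadThruRank3

set_option autoImplicit false
open scoped Pointwise
open Cfsg

namespace Cfsg.Agent.S1604

/-- A hexad stabiliser in the two-point stabiliser has orbits of sizes 1, 16, 60 on the 77 hexads: the 16 hexads disjoint from it and the 60 meeting it in two points. -/
theorem result (p q : Cfsg.GolayPt) (hpq : p ≠ q) (o o' o'' : Finset Cfsg.GolayPt) (ho : o ∈ Cfsg.octads) (ho' : o' ∈ Cfsg.octads) (ho'' : o'' ∈ Cfsg.octads) (hp : p ∈ o ∧ p ∈ o' ∧ p ∈ o'') (hq : q ∈ o ∧ q ∈ o' ∧ q ∈ o'') (h : (o ∩ o').card = (o ∩ o'').card) : {x : Finset Cfsg.GolayPt | x ∈ Cfsg.octads ∧ p ∈ x ∧ q ∈ x ∧ (o ∩ x).card = 2}.ncard = 16 ∧ {x : Finset Cfsg.GolayPt | x ∈ Cfsg.octads ∧ p ∈ x ∧ q ∈ x ∧ (o ∩ x).card = 4}.ncard = 60 ∧ ∃ g : Equiv.Perm Cfsg.GolayPt, g ∈ Cfsg.M24 ∧ g p = p ∧ g q = q ∧ g • o = o ∧ g • o' = o'' := by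
  classical
  have hP : ({p, q} : Finset GolayPt) ⊆ o := by
    intro z hz
    rw [Finset.mem_insert, Finset.mem_singleton] at hz
    rcases hz with rfl | rfl
    · exact hp.1
    · exact hq.1
  have hPc : ({p, q} : Finset GolayPt).card = 2 := Finset.card_pair hpq
  have hsub : ∀ x : Finset GolayPt, ({p, q} : Finset GolayPt) ⊆ x ↔ p ∈ x ∧ q ∈ x := by
    intro x
    rw [Finset.insert_subset_iff, Finset.singleton_subset_iff]
  refine ⟨?_, ?_, ?_⟩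
  · have h2 := Cfsg.Agent.Lib.H28.ncard_octads_thru_meet_two ho hP (by rw [hPc])
    rw [hPc] at h2
    have e : Nat.choose (8 - 2) (2 - 2) * 16 = 16 := by decide
    rw [e] at h2
    rw [← h2]
    congr 1
    ext x
    simp only [Set.mem_ofPred_eq, hsub, and_assoc]
  · have h4 := Cfsg.Agent.Lib.H28.ncard_octads_thru_meet_four ho hP (by rw [hPc]; norm_num)
    rw [hPc] at h4
    have e : Nat.choose (8 - 2) (4 - 2) * 4 = 60 := by decide
    rw [e] at h4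
    rw [← h4]
    congr 1
    ext x
    simp only [Set.mem_ofPred_eq, hsub, and_assoc]
  · obtain ⟨g1, hg1, hgp⟩ := Cfsg.Agent.Lib.H28.exists_M24_map (n := 2) (by norm_num)
      ![Cfsg.Agent.Lib.H28.gPt 23, Cfsg.Agent.Lib.H28.gPt 0] ![p, q]
      (Cfsg.Agent.Lib.H28.injective_pair (by decide)) (Cfsg.Agent.Lib.H28.injective_pair hpq)
    have hgp' : g1 (Cfsg.Agent.Lib.H28.gPt 23) = p := hgp 0
    have hgq' : g1 (Cfsg.Agent.Lib.H28.gPt 0) = q := hgp 1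
    have hmemL : ∀ (g : Equiv.Perm GolayPt), g (Cfsg.Agent.Lib.H28.gPt 23) = p →
        g (Cfsg.Agent.Lib.H28.gPt 0) = q → ∀ y : Finset GolayPt, p ∈ y → q ∈ y →
        ∀ j ∈ [0, 23], g (Cfsg.Agent.Lib.H28.gPt j) ∈ y := by
      intro g h23 h0 y hpy hqy j hj
      rw [List.mem_cons, List.mem_singleton] at hj
      rcases hj with rfl | rfl
      · rw [h0]; exact hqy
      · rw [h23]; exact hpy
    obtain ⟨g0, hg0, hg0L, hg0o⟩ := Cfsg.Agent.Lib.H28.exists_flag_map Cfsg.Agent.Lib.H28.inOct_0_23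
      Cfsg.Agent.Lib.H28.m22Cert Cfsg.Agent.Lib.H28.m22Cert_ok hg1 ho
      (hmemL g1 hgp' hgq' o hp.1 hq.1)
    have hg0p : g0 (Cfsg.Agent.Lib.H28.gPt 23) = p := by
      rw [hg0L 23 (by simp), hgp']
    have hg0q : g0 (Cfsg.Agent.Lib.H28.gPt 0) = q := by
      rw [hg0L 0 (by simp), hgq']
    obtain ⟨g, hg, hgL, hgo, e⟩ := Cfsg.Agent.Lib.H28.rank3_thru Cfsg.Agent.Lib.H28.inOct_0_23
      (by decide) Cfsg.Agent.Lib.H28.m22Cert Cfsg.Agent.Lib.H28.m22Cert_ok hg0 ho' ho''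
      (hmemL g0 hg0p hg0q o' hp.2.1 hq.2.1) (hmemL g0 hg0p hg0q o'' hp.2.2 hq.2.2)
      (by rw [hg0o]; exact h)
    refine ⟨g, hg, ?_, ?_, ?_, e⟩
    · have := hgL 23 (by simp)
      rwa [hg0p] at this
    · have := hgL 0 (by simp)
      rwa [hg0q] at this
    · rwa [hg0o] at hgo

end Cfsg.Agent.S1604
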