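import Cfsg.Statements.S1605
import Cfsg.Agent.Lib.H28.OctadFlagOrbits

set_option autoImplicit false
open scoped Pointwise
open Cfsg

namespace Cfsg.Agent.S1605

/-- The two-point stabiliser acts on the 176 octads through the first point avoiding the second with rank 3 and subdegrees 1, 70, 105 (intersections 8, 2, 4). -/
theorem result (p q : Cfsg.GolayPt) (hpq : p ≠ q) : {x : Finset Cfsg.GolayPt | (x ∈ Cfsg.octads ∧ p ∈ x ∧ q ∉ x)}.ncard = 176 ∧ (∀ o o' : Finset Cfsg.GolayPt, (o ∈ Cfsg.octads ∧ p ∈ o ∧ q ∉ o) → (o' ∈ Cfsg.octads ∧ p ∈ o' ∧ q ∉ o') → ∃ g : Equiv.Perm Cfsg.GolayPt, g ∈ Cfsg.M24 ∧ g p = p ∧ g q = q ∧ g • o = o') ∧ ∀ o : Finset Cfsg.GolayPt, (o ∈ Cfsg.octads ∧ p ∈ o ∧ q ∉ o) → {x : Finset Cfsg.GolayPt | (x ∈ Cfsg.octads ∧ p ∈ x ∧ q ∉ x) ∧ (o ∩ x).card = 2}.ncard = 70 ∧ {x : Finset Cfsg.GolayPt | (x ∈ Cfsg.octads ∧ p ∈ x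 ∧ q ∉ x) ∧ (o ∩ x).card = 4}.ncard = 105 ∧ ∀ o' o'' : Finset Cfsg.GolayPt, (o' ∈ Cfsg.octads ∧ p ∈ o' ∧ q ∉ o') → (o'' ∈ Cfsg.octads ∧ p ∈ o'' ∧ q ∉ o'') → (o ∩ o').card = (o ∩ o'').card → ∃ g : Equiv.Perm Cfsg.GolayPt, g ∈ Cfsg.M24 ∧ g p = p ∧ g q = q ∧ g • o = o ∧ g • o' = o'' := by
  classical
  refine ⟨?_, ?_, ?_⟩
  · obtain ⟨g1, hg1, hgp⟩ := Cfsg.Agent.Lib.H28.exists_M24_map (n := 2) (by norm_num)
      ![Cfsg.Agent.Lib.H28.gPt 23, Cfsg.Agent.Lib.H28.gPt 4] ![p, q]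
      (Cfsg.Agent.Lib.H28.injective_pair (by decide)) (Cfsg.Agent.Lib.H28.injective_pair hpq)
    have hgp' : g1 (Cfsg.Agent.Lib.H28.gPt 23) = p := hgp 0
    have hgq' : g1 (Cfsg.Agent.Lib.H28.gPt 4) = q := hgp 1
    have h1 := Cfsg.Agent.Lib.H28.ncard_octads_smul hg1 (fun x => p ∈ x ∧ q ∉ x)
    rw [h1]
    have h2 := Cfsg.Agent.Lib.H28.ncard_octads_filter
      (fun y => Cfsg.Agent.Lib.H28.gPt 23 ∈ y ∧ Cfsg.Agent.Lib.H28.gPt 4 ∉ y)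
      (fun m => m.testBit 23 && !(m.testBit 4)) (by
        intro m _
        rw [Cfsg.Agent.Lib.H28.gPt_mem_ptsMask (by norm_num),
          Cfsg.Agent.Lib.H28.gPt_mem_ptsMask (by norm_num), Bool.and_eq_true, Bool.not_eq_true',
          Bool.not_eq_true])
    rw [Cfsg.Agent.Lib.H28.flagCls_counts.2.2.2.2.2] at h2
    rw [← h2]
    congr 1
    ext y
    simp only [Set.mem_ofPred_eq]
    rw [← hgp', ← hgq', Cfsg.Agent.Lib.H28.smul_mem_smul_iff, Cfsg.Agent.Lib.H28.smul_mem_smul_iff]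
  · rintro o o' ⟨ho, hpo, hqo⟩ ⟨ho', hpo', hqo'⟩
    obtain ⟨g0, hg0, e1, e2, e3⟩ := Cfsg.Agent.Lib.H28.exists_flag_in_out ho hpo hqo
    obtain ⟨g0', hg0', e1', e2', e3'⟩ := Cfsg.Agent.Lib.H28.exists_flag_in_out ho' hpo' hqo'
    have i2 : g0⁻¹ p = Cfsg.Agent.Lib.H28.gPt 23 := by
      rw [Equiv.Perm.inv_def, Equiv.symm_apply_eq, e2]
    have i3 : g0⁻¹ q = Cfsg.Agent.Lib.H28.gPt 4 := by
      rw [Equiv.Perm.inv_def, Equiv.symm_apply_eq, e3]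
    refine ⟨g0' * g0⁻¹, M24.mul_mem hg0' (M24.inv_mem hg0), ?_, ?_, ?_⟩
    · rw [Equiv.Perm.mul_apply, i2, e2']
    · rw [Equiv.Perm.mul_apply, i3, e3']
    · rw [mul_smul, ← e1, inv_smul_smul, e1']
  · rintro o ⟨ho, hpo, hqo⟩
    obtain ⟨g0, hg0, hgo, hgp, hgq⟩ := Cfsg.Agent.Lib.H28.exists_flag_in_out ho hpo hqo
    have hcount : ∀ k : ℕ, {x : Finset Cfsg.GolayPt | (x ∈ Cfsg.octads ∧ p ∈ x ∧ q ∉ x) ∧
        (o ∩ x).card = k}.ncard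
        = (Cfsg.Agent.Lib.H28.octMasks.filter (Cfsg.Agent.Lib.H28.flagCls [23] k)).length := by
      intro k
      rw [← Cfsg.Agent.Lib.H28.ncard_flag_class Cfsg.Agent.Lib.H28.inOct_23 hg0 k]
      congr 1
      ext o'
      simp only [Set.mem_ofPred_eq, hgo, hgq, List.mem_singleton, forall_eq, hgp, and_assoc]
    refine ⟨?_, ?_, ?_⟩
    · rw [hcount]; exact Cfsg.Agent.Lib.H28.flagCls_counts.2.2.2.1
    · rw [hcount]; exact Cfsg.Agent.Lib.H28.flagCls_counts.2.2.2.2.1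
    · rintro o' o'' ⟨ho', hpo', hqo'⟩ ⟨ho'', hpo'', hqo''⟩ hc
      obtain ⟨g, hg, h1, h2, h3, h4⟩ := Cfsg.Agent.Lib.H28.a7_orbits_flag hg0 ho' ho''
        (by rw [hgp]; exact hpo') (by rw [hgp]; exact hpo'')
        (by rw [hgq]; exact hqo') (by rw [hgq]; exact hqo'') (by rw [hgo]; exact hc)
      rw [hgp] at h1
      rw [hgq] at h2
      rw [hgo] at h3
      exact ⟨g, hg, h1, h2, h3, h4⟩

end Cfsg.Agent.S1605
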