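import Cfsg.Statements.S1607
import Cfsg.Agent.Lib.H28.OctadThruRank3

set_option autoImplicit false
open scoped Pointwise
open Cfsg

namespace Cfsg.Agent.S1607

/-- The point stabiliser acts on the 253 heptads of its S(4, 7, 23) with rank 3 and subdegrees 1, 112, 140 (intersections 8, 2, 4). -/
theorem result (x : Cfsg.GolayPt) (o : Finset Cfsg.GolayPt) (ho : o ∈ Cfsg.octads) (hx : x ∈ o) : {o' : Finset Cfsg.GolayPt | o' ∈ Cfsg.octads ∧ x ∈ o' ∧ (o ∩ o').card = 2}.ncard = 112 ∧ {o' : Finset Cfsg.GolayPt | o' ∈ Cfsg.octads ∧ x ∈ o' ∧ (o ∩ o').card = 4}.ncard = 140 ∧ ∀ o' o'' : Finset Cfsg.GolayPt, o' ∈ Cfsg.octads → o'' ∈ Cfsg.octads → x ∈ o' → x ∈ o'' → (o ∩ o').card = (o ∩ o'').card → ∃ g : Equiv.Perm Cfsg.GolayPt, g ∈ Cfsg.M24 ∧ g x = x ∧ g • o = o ∧ g • o' = o'' := by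
  classical
  have hP : ({x} : Finset GolayPt) ⊆ o := Finset.singleton_subset_iff.2 hx
  refine ⟨?_, ?_, ?_⟩
  · have h := Cfsg.Agent.Lib.H28.ncard_octads_thru_meet_two ho hP (by simp)
    rw [Finset.card_singleton] at h
    have e : Nat.choose (8 - 1) (2 - 1) * 16 = 112 := by decide
    rw [e] at h
    rw [← h]
    congr 1
    ext o'
    simp only [Set.mem_ofPred_eq, Finset.singleton_subset_iff]
  · have h := Cfsg.Agent.Lib.H28.ncard_octads_thru_meet_four ho hP (by simp)
    rw [Finset.card_singleton] at h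
    have e : Nat.choose (8 - 1) (4 - 1) * 4 = 140 := by decide
    rw [e] at h
    rw [← h]
    congr 1
    ext o'
    simp only [Set.mem_ofPred_eq, Finset.singleton_subset_iff]
  · intro o' o'' ho' ho'' hx' hx'' hc
    obtain ⟨g1, hg1, hgp⟩ := Cfsg.Agent.Lib.H28.exists_M24_map (n := 1) (by norm_num)
      ![Cfsg.Agent.Lib.H28.gPt 23] ![x] (Function.injective_of_subsingleton _)
      (Function.injective_of_subsingleton _)
    have hgp' : g1 (Cfsg.Agent.Lib.H28.gPt 23) = x := hgp 0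
    obtain ⟨g0, hg0, hg0L, hg0o⟩ := Cfsg.Agent.Lib.H28.exists_flag_map Cfsg.Agent.Lib.H28.inOct_23
      Cfsg.Agent.Lib.H28.m23Cert Cfsg.Agent.Lib.H28.m23Cert_ok hg1 ho (by
        intro j hj
        rw [List.mem_singleton] at hj
        subst hj
        rw [hgp']; exact hx)
    have hg0x : g0 (Cfsg.Agent.Lib.H28.gPt 23) = x := by
      rw [hg0L 23 (List.mem_singleton.2 rfl), hgp']
    obtain ⟨g, hg, hgL, hgo, e⟩ := Cfsg.Agent.Lib.H28.rank3_thru Cfsg.Agent.Lib.H28.inOct_23
      (by decide) Cfsg.Agent.Lib.H28.m23Cert Cfsg.Agent.Lib.H28.m23Cert_ok hg0 ho' ho''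
      (by
        intro j hj
        rw [List.mem_singleton] at hj
        subst hj
        rw [hg0x]; exact hx')
      (by
        intro j hj
        rw [List.mem_singleton] at hj
        subst hj
        rw [hg0x]; exact hx'')
      (by rw [hg0o]; exact hc)
    refine ⟨g, hg, ?_, ?_, e⟩
    · have := hgL 23 (List.mem_singleton.2 rfl)
      rwa [hg0x] at this
    · rwa [hg0o] at hgo

end Cfsg.Agent.S1607
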