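import Cfsg.Statements.S1608
import Cfsg.Agent.Lib.H28.OctadFlagOrbits

set_option autoImplicit false
open scoped Pointwise
open Cfsg

namespace Cfsg.Agent.S1608

/-- The point stabiliser acts on the 506 octads avoiding the point with rank 4 and subdegrees 1, 15, 210, 280, the suborbits being given by intersection size with the fixed octad. -/
theorem result (x : Cfsg.GolayPt) (o : Finset Cfsg.GolayPt) (ho : o ∈ Cfsg.octads) (hx : x ∉ o) : {o' : Finset Cfsg.GolayPt | o' ∈ Cfsg.octads ∧ x ∉ o' ∧ (o ∩ o').card = 0}.ncard = 15 ∧ {o' : Finset Cfsg.GolayPt | o' ∈ Cfsg.octads ∧ x ∉ o' ∧ (o ∩ o').card = 4}.ncard = 210 ∧ {o' : Finset Cfsg.GolayPt | o' ∈ Cfsg.octads ∧ x ∉ o' ∧ (o ∩ o').card = 2}.ncard = 280 ∧ ∀ o' o'' : Finset Cfsg.GolayPt, o' ∈ Cfsg.octads → o'' ∈ Cfsg.octads → x ∉ o' → x ∉ o'' → (o ∩ o').card = (o ∩ o'').card → ∃ g : Equiv.Perm Cfsg.GolayPt, g ∈ Cfsg.M24 ∧ g x = x ∧ g •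 o = o ∧ g • o' = o'' := by
  classical
  obtain ⟨g0, hg0, hgo, hgx⟩ := Cfsg.Agent.Lib.H28.exists_flag_out ho hx
  have hcount : ∀ k : ℕ, {o' : Finset Cfsg.GolayPt | o' ∈ Cfsg.octads ∧ x ∉ o' ∧ (o ∩ o').card = k}.ncard
      = (Cfsg.Agent.Lib.H28.octMasks.filter (Cfsg.Agent.Lib.H28.flagCls [] k)).length := by
    intro k
    rw [← Cfsg.Agent.Lib.H28.ncard_flag_class Cfsg.Agent.Lib.H28.inOct_nil hg0 k]
    congr 1
    ext o'
    simp only [Set.mem_ofPred_eq, hgo, hgx, List.not_mem_nil, false_imp_iff, implies_true, true_and]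
  refine ⟨?_, ?_, ?_, ?_⟩
  · rw [hcount]; exact Cfsg.Agent.Lib.H28.flagCls_counts.1
  · rw [hcount]; exact Cfsg.Agent.Lib.H28.flagCls_counts.2.2.1
  · rw [hcount]; exact Cfsg.Agent.Lib.H28.flagCls_counts.2.1
  · intro o' o'' ho' ho'' hx' hx'' hc
    obtain ⟨g, hg, h1, h2, h3⟩ := Cfsg.Agent.Lib.H28.a8_orbits_flag hg0 ho' ho''
      (by rw [hgx]; exact hx') (by rw [hgx]; exact hx'') (by rw [hgo]; exact hc)
    rw [hgx] at h1
    rw [hgo] at h2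
    exact ⟨g, hg, h1, h2, h3⟩

end Cfsg.Agent.S1608
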