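import Mathlib
import Cfsg.Statements.S1610
import Cfsg.Agent.Lib.H8.Hexacode

set_option autoImplicit false
open Cfsg
open Cfsg.Agent.Lib.H8.Hexa

namespace Cfsg.Agent.S1610

/-- The hexacode has 64 words, minimum weight 4, and weight distribution 0^1 4^45 6^18. -/
theorem result (F : Type*) [Field F] [Fintype F] [DecidableEq F] (hF : Fintype.card F = 4) (ω : F) (hω : ω ^ 2 + ω + 1 = 0) : Nat.card ↥(Cfsg.hexacode F ω) = 64 ∧ (∀ x ∈ Cfsg.hexacode F ω, x ≠ 0 → (Finset.univ.filter fun i => x i ≠ 0).card = 4 ∨ (Finset.univ.filter fun i => x i ≠ 0).card = 6) ∧ {x : Fin 6 → F | x ∈ Cfsg.hexacode F ω ∧ (Finset.univ.filter fun i => x i ≠ 0).card = 4}.ncard = 45 ∧ {x : Fin 6 → F | x ∈ Cfsg.hexacode F ω ∧ (Finset.univ.filter fun i => x i ≠ 0).card = 6}.ncard = 18 := by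
  have h2 := two_eq_zero_of_card hF
  refine ⟨card_hexacode hF hω, ?_, ?_, ?_⟩
  · intro x hx h0
    obtain ⟨t, rfl⟩ := (mem_hexacode_iff hF hω x).mp hx
    rw [wt_word hω h2]
    rcases wtc_cases t with h | h
    · exfalso; apply h0; rw [h, word_zero]
    · exact h
  · rw [ncard_hexacode_filter hF hω]
    rw [← wtc_count4]
    congr 1
    apply Finset.filter_congr
    intro t _
    rw [wt_word hω h2]
  · rw [ncard_hexacode_filter hF hω]
    rw [← wtc_count6]
    congr 1
    apply Finset.filter_congr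
    intro t _
    rw [wt_word hω h2]

end Cfsg.Agent.S1610
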