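import Cfsg.Statements.S1612
import Cfsg.Agent.Lib.H18.TTFischer4

set_option autoImplicit false
open Cfsg

namespace Cfsg.Agent.S1612

open Cfsg.Agent.Lib.H18.TTF Cfsg.Agent.Lib.H26.ThreeTrans Cfsg.Agent.Lib.H7.TT

/-- In a 3-transposition group (no solvable normal subgroup, perfect derived group), the normaliser of a commuting set of transpositions of maximum size contains a Sylow 2-subgroup and is doubly transitive on the set. -/
theorem result {G : Type*} [Group G] [Finite G] (hsol : ∀ N : Subgroup G, N.Normal → Group.IsSolvable ↥N → N = ⊥) (hperf : ⁅commutator G, commutator G⁆ = commutator G) {D : Set G} (hD : Cfsg.IsThreeTranspositionClass D) {E : Set G} (hE : E ⊆ D) (hc : ∀ a ∈ E, ∀ b ∈ E, Commute a b) (hmax : ∀ E' : Set G, E' ⊆ D → (∀ a ∈ E', ∀ b ∈ E', Commute a b) → E'.ncard ≤ E.ncard) : (∃ P : Sylow 2 G, (P : Subgroup G) ≤ Subgroup.normalizer E) ∧ ∀ a ∈ E, ∀ b ∈ E, ∀ c ∈ E, ∀ d ∈ E, a ≠ b → c ≠ d → ∃ g ∈ Subgroup.normalizer E, g * a * g⁻¹ = c ∧ g * b * g⁻¹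 = d := by
  haveI : Fact (Nat.Prime 2) := ⟨Nat.prime_two⟩
  have hS := hD.1
  have hconj := class_conj hD
  constructor
  · obtain ⟨P, hP⟩ := (isPGroup_closure_of_commute hS hE hc).exists_le_sylow
    refine ⟨P, ?_⟩
    intro g hg
    apply mem_normalizer_of_conj_mem hS hconj hE hmax P.2
      (fun e he => hP (Subgroup.subset_closure he))
    intro e he
    exact (P : Subgroup G).mul_mem ((P : Subgroup G).mul_mem hg (hP (Subgroup.subset_closure he)))
      ((P : Subgroup G).inv_mem hg)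
  · intro a ha b hb c hcE d hd hab hcd
    have hD2 : ∃ x ∈ D, ∃ y ∈ D, x ≠ y := ⟨a, hE ha, b, hE hb, hab⟩
    have hprim := primitive_of_fischer hsol hperf hD hD2
    exact normalizer_two_transitive hD hprim hE hc hmax ha hb hcE hd hab hcd

end Cfsg.Agent.S1612
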