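import Cfsg.Statements.S1615
import Cfsg.Agent.Lib.H15.FS8

set_option autoImplicit false
open Cfsg

namespace Cfsg.Agent.S1615

/-- If O(⟨D_x⟩) is not central in ⟨D_x⟩ for some transposition x, the 3-transposition group is the symmetric group of degree 5. -/
theorem result {G : Type*} [Group G] [Finite G] (hsol : ∀ N : Subgroup G, N.Normal → Group.IsSolvable ↥N → N = ⊥) (hperf : ⁅commutator G, commutator G⁆ = commutator G) {D : Set G} (hD : Cfsg.IsThreeTranspositionClass D) (x : G) (hx : x ∈ D) (h : ¬ Cfsg.oddCore ↥(Subgroup.closure {y : G | y ∈ D ∧ y ≠ x ∧ Commute x y}) ≤ Subgroup.center ↥(Subgroup.closure {y : G | y ∈ D ∧ y ≠ x ∧ Commute x y})) : Nonempty (G ≃* Equiv.Perm (Fin 5)) := by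
  have hctx : Cfsg.Agent.Lib.H15.TT.Ctx D := ⟨hD.1, Cfsg.Agent.Lib.H26.ThreeTrans.class_conj hD⟩
  obtain ⟨a, b, hw⟩ := Cfsg.Agent.Lib.H15.FS.exists_WP hctx (x := x) h
  have ha := hw.1
  have hD2 : ∃ a ∈ D, ∃ b ∈ D, a ≠ b := ⟨x, hx, a, ha.1, fun e => ha.2.1 e.symm⟩
  have hprim := Cfsg.Agent.Lib.H18.TTF.primitive_of_fischer hsol hperf hD hD2
  have F : Cfsg.Agent.Lib.H15.FS.FCtx D :=
    ⟨hD, hprim, ⟨x, hx, a, ha.1, fun e => ha.2.1 e.symm, ha.2.2⟩⟩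
  exact F.iso_S5 hx hw

end Cfsg.Agent.S1615
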