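import Cfsg.Statements.S1618
import Mathlib
import Cfsg.Agent.Lib.H21.InvProd

set_option autoImplicit false
open Cfsg

namespace Cfsg.Agent.S1618

open Cfsg.Agent.Lib.H1 Cfsg.Agent.Lib.H22 Cfsg.Agent.Lib.H21.InvProd
open scoped commutatorElement

/-- A group generated by a class of involutions whose pairwise products (of distinct members) have p-power order for a fixed odd prime p has nilpotent derived subgroup. -/
theorem result {G : Type*} [Group G] [Finite G] (p : ℕ) (hp : p.Prime) (hodd : p ≠ 2) {D : Set G} (hinv : ∀ d ∈ D, orderOf d = 2) (hconj : ∃ d ∈ D, D = conjugatesOf d) (hgen : Subgroup.closure D = ⊤) (hprod : ∀ x ∈ D, ∀ y ∈ D, x ≠ y → ∃ k : ℕ, orderOf (x * y) = p ^ k) : Group.IsNilpotent ↥(commutator G) := by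
  haveI : Fact p.Prime := ⟨hp⟩
  obtain ⟨d, hdD, hD⟩ := hconj
  have hd2 := hinv d hdD
  have hsq : ∀ x ∈ D, x * x = 1 := by
    intro x hx
    rw [← sq, ← hinv x hx]; exact pow_orderOf_eq_one x
  have hinv' : ∀ x ∈ D, x⁻¹ = x := fun x hx => inv_eq_of_mul_eq_one_left (hsq x hx)
  have hprod' : ∀ x ∈ D, ∀ y ∈ D, ∃ k : ℕ, orderOf (x * y) = p ^ k := by
    intro x hx y hy
    by_cases hxy : x = y
    · refine ⟨0, ?_⟩
      rw [← hxy, hsq x hx, orderOf_one, pow_zero]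
    · exact hprod x hx y hy hxy
  have hDform : ∀ x ∈ D, ∃ g, x = g * d * g⁻¹ := by
    intro x hx
    rw [hD] at hx
    obtain ⟨c, hc⟩ := isConj_iff.mp hx
    exact ⟨c, hc.symm⟩
  have hmemD : ∀ g, g * d * g⁻¹ ∈ D := by
    intro g
    rw [hD]
    exact isConj_iff.mpr ⟨g, rfl⟩
  have hDconj : ∀ x ∈ D, ∀ c : G, c * x * c⁻¹ ∈ D := by
    intro x hx c
    obtain ⟨g, rfl⟩ := hDform x hx
    have : c * (g * d * g⁻¹) * c⁻¹ = (c * g) * d * (c * g)⁻¹ := by group
    rw [this]; exact hmemD _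
  -- `d` is isolated
  have hpodd : Odd p := hp.eq_two_or_odd'.resolve_left hodd
  have hiso : ZStar.Iso d := by
    refine ⟨hd2, fun g => ?_⟩
    have h1 : d * g * d⁻¹ * g⁻¹ = d * (g * d * g⁻¹) := by rw [hinv' d hdD]; group
    obtain ⟨k, hk⟩ := hprod' d hdD _ (hmemD g)
    rw [h1, hk]
    exact hpodd.pow
  have hZ := ZStar.zstar d hiso
  obtain ⟨N, hN⟩ : ∃ N, N = Cfsg.oddCore G := ⟨_, rfl⟩
  have hNn : N.Normal := hN ▸ Cfsg.Agent.Lib.H22.pPrimeCore_normal 2
  have hNodd : (Nat.card N).Coprime 2 := hN ▸ Cfsg.Agent.Lib.H22.card_pPrimeCore_coprime 2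
  haveI := hNn
  have hZ' : ∀ g : G, d * g * d⁻¹ * g⁻¹ ∈ N := fun g => hN ▸ hZ g
  -- `G = N ⟨d⟩`
  have htop : N ⊔ Subgroup.zpowers d = ⊤ := by
    rw [eq_top_iff, ← hgen, Subgroup.closure_le]
    intro x hx
    obtain ⟨g, rfl⟩ := hDform x hx
    have h1 : g * d * g⁻¹ = (d * g * d⁻¹ * g⁻¹)⁻¹ * d := by group
    rw [h1]
    exact Subgroup.mul_mem _ ((le_sup_left : N ≤ _) (N.inv_mem (hZ' g)))
      ((le_sup_right : Subgroup.zpowers d ≤ _) (Subgroup.mem_zpowers d))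
  have hconjN : ∀ g : G, ∃ n ∈ N, g * d * g⁻¹ = n * d * n⁻¹ := by
    intro g
    have hg : g ∈ N ⊔ Subgroup.zpowers d := by rw [htop]; trivial
    obtain ⟨n, hn, z, hz, rfl⟩ := Subgroup.mem_sup_of_normal_left.mp hg
    refine ⟨n, hn, ?_⟩
    obtain ⟨k, rfl⟩ := Subgroup.mem_zpowers_iff.mp hz
    have h1 : d ^ k * d = d * d ^ k := by
      rw [← zpow_add_one, ← zpow_one_add]
      congr 1; ring
    calc n * d ^ k * d * (n * d ^ k)⁻¹ = n * (d ^ k * d) * (d ^ k)⁻¹ * n⁻¹ := by group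
      _ = n * (d * d ^ k) * (d ^ k)⁻¹ * n⁻¹ := by rw [h1]
      _ = n * d * n⁻¹ := by group
  obtain ⟨P, hPp, hP⟩ := exists_pGroup_of_inverted (p := p) hNn hNodd hd2
    (fun n _ => hprod' d hdD _ (hmemD n))
  have hdx : ∀ x ∈ D, d * x ∈ P := by
    intro x hx
    obtain ⟨g, rfl⟩ := hDform x hx
    obtain ⟨n, hn, hgn⟩ := hconjN g
    rw [hgn]; exact hP n hn
  have hxy : ∀ x ∈ D, ∀ y ∈ D, x * y ∈ P := by
    intro x hx y hy
    have h1 : x * y = (d * x)⁻¹ * (d * y) := by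
      rw [mul_inv_rev, hinv' d hdD, hinv' x hx]
      calc x * y = x * (d * d) * y := by rw [hsq d hdD, mul_one]
        _ = x * d * (d * y) := by group
    rw [h1]
    exact P.mul_mem (P.inv_mem (hdx x hx)) (hdx y hy)
  -- the normal subgroup generated by the products
  obtain ⟨I, hI⟩ : ∃ I : Set G, I = {z | ∃ x ∈ D, ∃ y ∈ D, z = x * y} := ⟨_, rfl⟩
  obtain ⟨T, hT⟩ : ∃ T, T = Subgroup.normalClosure I := ⟨_, rfl⟩
  haveI hTn : T.Normal := hT ▸ Subgroup.normalClosure_normal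
  have hIT : I ⊆ T := hT ▸ Subgroup.subset_normalClosure
  have hTP : T ≤ P := by
    rw [hT, Subgroup.normalClosure, Subgroup.closure_le]
    intro z hz
    rw [Group.mem_conjugatesOfSet_iff] at hz
    obtain ⟨b, hb, hbz⟩ := hz
    rw [hI] at hb
    obtain ⟨x, hx, y, hy, rfl⟩ := hb
    rw [isConj_iff] at hbz
    obtain ⟨c, rfl⟩ := hbz
    have h1 : c * (x * y) * c⁻¹ = (c * x * c⁻¹) * (c * y * c⁻¹) := by group
    rw [SetLike.mem_coe, h1]
    exact hxy _ (hDconj x hx c) _ (hDconj y hy c)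
  -- `G / T` is abelian
  have hcentral : ∀ g : G, (QuotientGroup.mk' T g) ∈ Subgroup.center (G ⧸ T) := by
    have h1 : Subgroup.closure D ≤ (Subgroup.center (G ⧸ T)).comap (QuotientGroup.mk' T) := by
      rw [Subgroup.closure_le]
      intro x hx
      rw [SetLike.mem_coe, Subgroup.mem_comap, Subgroup.mem_center_iff]
      intro g'
      obtain ⟨g, rfl⟩ := QuotientGroup.mk'_surjective T g'
      rw [← map_mul, ← map_mul, QuotientGroup.mk'_apply, QuotientGroup.mk'_apply,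
        QuotientGroup.eq]
      apply hIT
      rw [hI]
      refine ⟨x, hx, g⁻¹ * x * g⁻¹⁻¹, hDconj x hx g⁻¹, ?_⟩
      rw [mul_inv_rev, hinv' x hx]; group
    intro g
    have : g ∈ Subgroup.closure D := by rw [hgen]; trivial
    exact h1 this
  have hcomm : commutator G ≤ T := by
    rw [commutator_def, Subgroup.commutator_le]
    intro a _ b _
    rw [← QuotientGroup.eq_one_iff, ← QuotientGroup.mk'_apply, map_commutatorElement,
      commutatorElement_eq_one_iff_commute]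
    exact (Subgroup.mem_center_iff.mp (hcentral a) _).symm
  have hpG : IsPGroup p (commutator G) := hPp.to_le (hcomm.trans hTP)
  exact hpG.isNilpotent

end Cfsg.Agent.S1618
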