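import Cfsg.Statements.S1619
-- import your own Cfsg.Agent.* helpers here
import Cfsg.Agent.Lib.H3.J2.Center
import Cfsg.Agent.Lib.H17.J2Ord.Order
import Mathlib

set_option autoImplicit false
open Quaternion
open Cfsg

namespace Cfsg.Agent.S1619

/-- The icosian reflection group has order 1209600 with centre {±1}; the Hall–Janko group has order 604800 = 2^7·3^3·5^2·7. -/
theorem result : Nat.card ↥Cfsg.Spor.twoJ2 = 1209600 ∧ Nat.card ↥(Subgroup.center ↥Cfsg.Spor.twoJ2) = 2 ∧ (∃ z ∈ Subgroup.center ↥Cfsg.Spor.twoJ2, ∀ x : ↥Cfsg.Spor.icoLeech, (((z : Equiv.Perm ↥Cfsg.Spor.icoLeech) x : ↥Cfsg.Spor.icoLeech) : Fin 3 → ℍ[ℝ]) = -(x : Fin 3 → ℍ[ℝ])) ∧ Nat.card Cfsg.Spor.J2 = 604800 := by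
  have hJ : Nat.card Cfsg.Spor.J2 = 604800 := by
    rw [← Nat.card_congr Cfsg.Agent.Lib.H3.J2.presEquivJ2.toEquiv]
    exact Cfsg.Agent.Lib.H17.J2Ord.card_eq
  have hC := Cfsg.Agent.Lib.H3.J2.card_center
  refine ⟨?_, hC, ?_, hJ⟩
  · rw [Subgroup.card_eq_card_quotient_mul_card_subgroup (Subgroup.center Cfsg.Spor.twoJ2), hC]
    have : Nat.card (↥Cfsg.Spor.twoJ2 ⧸ Subgroup.center ↥Cfsg.Spor.twoJ2) = 604800 := hJ
    rw [this]
  · exact ⟨Cfsg.Agent.Lib.H3.J2.negT, Cfsg.Agent.Lib.H3.J2.negT_mem_center, fun x => rfl⟩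

end Cfsg.Agent.S1619
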