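import Cfsg.Statements.S1620
-- import your own Cfsg.Agent.* helpers here
import Cfsg.Agent.Lib.H3.J2.Bridge
import Cfsg.Agent.Lib.H17.J2Ord.Order
import Mathlib

set_option autoImplicit false
open Quaternion
open Cfsg

namespace Cfsg.Agent.S1620

/-- The Hall–Janko group is simple and non-abelian. -/
theorem result : IsSimpleGroup Cfsg.Spor.J2 ∧ ∃ a b : Cfsg.Spor.J2, a * b ≠ b * a := by
  have e := Cfsg.Agent.Lib.H3.J2.presEquivJ2
  haveI : IsSimpleGroup Cfsg.Agent.Lib.H17.J2Pres.Grp := Cfsg.Agent.Lib.H17.J2PSimple.simple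
  have hs : IsSimpleGroup Cfsg.Spor.J2 := e.symm.isSimpleGroup
  refine ⟨hs, ?_⟩
  by_contra hcon
  have hcomm : ∀ a b : Cfsg.Spor.J2, a * b = b * a := by
    intro a b
    by_contra h
    exact hcon ⟨a, b, h⟩
  letI : CommGroup Cfsg.Spor.J2 := { (inferInstance : Group Cfsg.Spor.J2) with mul_comm := hcomm }
  have hp := IsSimpleGroup.prime_card (α := Cfsg.Spor.J2)
  have hc : Nat.card Cfsg.Spor.J2 = 604800 := by
    rw [← Nat.card_congr e.toEquiv]
    exact Cfsg.Agent.Lib.H17.J2Ord.card_eq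
  rw [hc] at hp
  norm_num at hp

end Cfsg.Agent.S1620
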