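import Cfsg.Statements.S1629
import Cfsg.Agent.Lib.H13.ThreeTransp
import Cfsg.Agent.Lib.H13.StdForm
import Cfsg.Agent.S0287

set_option autoImplicit false
open scoped MatrixGroups
open Cfsg

namespace Cfsg.Agent.S1629

/-- The orthogonal transvections of the plus-type orthogonal group in dimension 2m ≥ 6 over the field with two elements form a generating conjugacy class of 3-transpositions. -/
theorem result (m : ℕ) (hm : 3 ≤ m) : Cfsg.IsThreeTranspositionClass {g : ↥(Cfsg.isometryGroup (ZMod 2) (Cfsg.quadFormPlus m (ZMod 2))) | (((g : GL (Fin m ⊕ Fin m) (ZMod 2)) : Matrix (Fin m ⊕ Fin m) (Fin m ⊕ Fin m) (ZMod 2)) - 1).rank = 1} := by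
  have hnd := Cfsg.Agent.S0287.nondeg (F := ZMod 2) m
  have hcard : Fintype.card (Fin m ⊕ Fin m) = 2 * m := by
    rw [Fintype.card_sum, Fintype.card_fin]; ring
  have hA : Cfsg.Agent.Lib.H13.Char2OmegaA.LemmaA (Cfsg.Agent.Lib.H13.plusQF (ZMod 2) m) := by
    apply Cfsg.Agent.Lib.H13.Char2OmegaA.lemmaA_of_card _ hnd
    right
    rw [Module.finrank_fintype_fun_eq_card, hcard]
    omega
  haveI : Nonempty (Fin m ⊕ Fin m) := ⟨Sum.inl ⟨0, by omega⟩⟩
  have hone : ∀ x : ZMod 2, x ≠ 0 → x = 1 := by decide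
  have key := Cfsg.Agent.Lib.H13.ThreeTransp.isThreeTranspositionClass
    (Cfsg.Agent.Lib.H13.plusQF (ZMod 2) m) hnd hA hone
  unfold Cfsg.Agent.Lib.H13.ThreeTransp.DD at key
  rw [Cfsg.Agent.S0287.coe_plusQF] at key
  exact key

end Cfsg.Agent.S1629
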