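import Cfsg.Statements.S1630
import Cfsg.Agent.Lib.H13.ThreeTransp
import Cfsg.Agent.Lib.H13.StdForm
import Cfsg.Agent.S0288

set_option autoImplicit false
open scoped MatrixGroups
open Cfsg

namespace Cfsg.Agent.S1630

/-- The orthogonal transvections of the minus-type orthogonal group in dimension ≥ 6 over the field with two elements form a generating conjugacy class of 3-transpositions. -/
theorem result (m : ℕ) (hm : 2 ≤ m) : Cfsg.IsThreeTranspositionClass {g : ↥(Cfsg.isometryGroup (ZMod 2) (Cfsg.quadFormMinus m (ZMod 2) 1 1)) | (((g : GL ((Fin m ⊕ Fin m) ⊕ Fin 2) (ZMod 2)) : Matrix ((Fin m ⊕ Fin m) ⊕ Fin 2) ((Fin m ⊕ Fin m) ⊕ Fin 2) (ZMod 2)) - 1).rank = 1} := by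
  have hcd : ∀ z₁ z₂ : ZMod 2, z₁ ^ 2 + 1 * z₁ * z₂ + 1 * z₂ ^ 2 = 0 → z₁ = 0 ∧ z₂ = 0 := by decide
  have hnd := Cfsg.Agent.S0288.nondeg (F := ZMod 2) 1 1 hcd m
  have hcard : Fintype.card ((Fin m ⊕ Fin m) ⊕ Fin 2) = 2 * m + 2 := by
    simp; ring
  have hA : Cfsg.Agent.Lib.H13.Char2OmegaA.LemmaA (Cfsg.Agent.Lib.H13.minusQF (ZMod 2) m 1 1) := by
    apply Cfsg.Agent.Lib.H13.Char2OmegaA.lemmaA_of_card _ hnd
    right
    rw [Module.finrank_fintype_fun_eq_card, hcard]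
    omega
  haveI : Nonempty ((Fin m ⊕ Fin m) ⊕ Fin 2) := ⟨Sum.inr 0⟩
  have hone : ∀ x : ZMod 2, x ≠ 0 → x = 1 := by decide
  have key := Cfsg.Agent.Lib.H13.ThreeTransp.isThreeTranspositionClass
    (Cfsg.Agent.Lib.H13.minusQF (ZMod 2) m 1 1) hnd hA hone
  unfold Cfsg.Agent.Lib.H13.ThreeTransp.DD at key
  rw [Cfsg.Agent.S0288.coe_minusQF] at key
  exact key

end Cfsg.Agent.S1630
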