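import Cfsg.Statements.S1631
import Cfsg.Agent.Lib.H29.HermF4
import Cfsg.Agent.Lib.H11.UnitarySimple6
import Cfsg.Agent.Lib.H2.Unitary5

set_option autoImplicit false
open Cfsg

namespace Cfsg.Agent.S1631

open Matrix Cfsg.Agent.Lib.H29.HermF4

section rank

variable {K : Type*} [Field K] {m : Type*} [Fintype m] [DecidableEq m]

/-- a matrix acting as `x ↦ f x • w` with `w ≠ 0`, `f ≠ 0` has rank one -/
theorem rank_eq_one_of (A : Matrix m m K) (w : m → K) (hw : w ≠ 0) (f : (m → K) → K)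
    (hA : ∀ x, A *ᵥ x = f x • w) (x₀ : m → K) (hx₀ : f x₀ ≠ 0) : A.rank = 1 := by
  unfold Matrix.rank
  rw [finrank_eq_one_iff']
  refine ⟨⟨A *ᵥ x₀, ⟨x₀, rfl⟩⟩, ?_, ?_⟩
  · intro h
    have h1 : A *ᵥ x₀ = 0 := congrArg Subtype.val h
    rw [hA] at h1
    rcases smul_eq_zero.1 h1 with h2 | h2
    · exact hx₀ h2
    · exact hw h2
  · rintro ⟨_, x, rfl⟩
    refine ⟨f x * (f x₀)⁻¹, ?_⟩
    apply Subtype.ext
    show (f x * (f x₀)⁻¹) • (A *ᵥ x₀) = A.mulVecLin x
    rw [Matrix.mulVecLin_apply, hA, hA, smul_smul, mul_assoc, inv_mul_cancel₀ hx₀, mul_one]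

/-- a rank one matrix acts as `x ↦ f x • w` -/
theorem exists_of_rank_eq_one (A : Matrix m m K) (hA : A.rank = 1) :
    ∃ w : m → K, w ≠ 0 ∧ ∃ f : (m → K) →ₗ[K] K, (∀ x, A *ᵥ x = f x • w) ∧ ∃ x₀, f x₀ ≠ 0 := by
  unfold Matrix.rank at hA
  rw [finrank_eq_one_iff'] at hA
  obtain ⟨⟨w, x₀, hx₀⟩, hw0, hw⟩ := hA
  have hw' : w ≠ 0 := by
    intro h
    apply hw0
    exact Subtype.ext h
  obtain ⟨i₀, hi₀⟩ : ∃ i, w i ≠ 0 := by
    by_contra h
    push Not at h
    exact hw' (funext h)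
  let f : (m → K) →ₗ[K] K :=
    (w i₀)⁻¹ • ((LinearMap.proj i₀ : (m → K) →ₗ[K] K) ∘ₗ A.mulVecLin)
  have hf : ∀ x, f x = (w i₀)⁻¹ * (A *ᵥ x) i₀ := fun x => rfl
  have key : ∀ x, A *ᵥ x = f x • w := by
    intro x
    obtain ⟨c, hc⟩ := hw ⟨A *ᵥ x, ⟨x, rfl⟩⟩
    have hc' : c • w = A *ᵥ x := congrArg Subtype.val hc
    rw [hf, ← hc']
    simp only [Pi.smul_apply, smul_eq_mul]
    rw [mul_comm c, ← mul_assoc, inv_mul_cancel₀ hi₀, one_mul]
  refine ⟨w, hw', f, key, x₀, ?_⟩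
  intro h
  have h1 := key x₀
  rw [h, zero_smul] at h1
  apply hw'
  rw [← h1]
  exact hx₀.symm

end rank


section tv

variable {F : Type*} [Field F] [Fintype F] {n : ℕ}

/-- the unitary transvection matrix along `v` -/
def tvm (v : Fin n → F) : Matrix (Fin n) (Fin n) F := Cfsg.unitaryTransvection n 2 v 1

omit [Fintype F] in
theorem tvm_mulVec (v x : Fin n → F) : tvm v *ᵥ x = x + Cfsg.hermForm n F 2 x v • v := by
  unfold tvm Cfsg.unitaryTransvection
  rw [Matrix.add_mulVec, Matrix.one_mulVec, one_smul, Matrix.vecMulVec_mulVec, op_smul_eq_smul]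
  congr 2
  unfold Cfsg.hermForm
  rw [dotProduct]
  exact Finset.sum_congr rfl (fun i _ => mul_comm _ _)

omit [Fintype F] in
theorem utv_mulVec (v x : Fin n → F) (c : F) :
    Cfsg.unitaryTransvection n 2 v c *ᵥ x = x + (c * Cfsg.hermForm n F 2 x v) • v := by
  unfold Cfsg.unitaryTransvection
  rw [Matrix.add_mulVec, Matrix.one_mulVec, Matrix.smul_mulVec, Matrix.vecMulVec_mulVec,
    op_smul_eq_smul, smul_smul]
  congr 3
  unfold Cfsg.hermForm
  rw [dotProduct]
  exact Finset.sum_congr rfl (fun i _ => mul_comm _ _)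

omit [Fintype F] in
theorem mat_ext' {M N : Matrix (Fin n) (Fin n) F} (h : ∀ x, M *ᵥ x = N *ᵥ x) : M = N := by
  rw [Matrix.ext_iff_mulVec]
  exact h

variable (hF : Fintype.card F = 4)

include hF in
theorem tvm_smul (c : F) (hc : c ≠ 0) (v : Fin n → F) : tvm (c • v) = tvm v := by
  have hH := isHerm_hermForm hF n
  apply mat_ext'
  intro x
  rw [tvm_mulVec, tvm_mulVec, hH.smul_right, smul_smul]
  congr 2
  have := f4_cube hF c hc
  linear_combination (Cfsg.hermForm n F 2 x v) * this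

include hF in
theorem tvm_sq (v : Fin n → F) (hv : Cfsg.hermForm n F 2 v v = 0) : tvm v * tvm v = 1 := by
  have hH := isHerm_hermForm hF n
  apply mat_ext'
  intro x
  rw [← Matrix.mulVec_mulVec, tvm_mulVec, tvm_mulVec, hH.add_left, hH.smul_left, hv, mul_zero,
    add_zero, Matrix.one_mulVec, add_assoc, ← add_smul]
  have h2 := f4_two hF
  have : Cfsg.hermForm n F 2 x v + Cfsg.hermForm n F 2 x v = 0 := by
    linear_combination (Cfsg.hermForm n F 2 x v) * h2
  rw [this, zero_smul, add_zero]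

omit [Fintype F] in
theorem hermForm_single_left (i : Fin n) (v : Fin n → F) :
    Cfsg.hermForm n F 2 (Pi.single i 1) v = v i ^ 2 := by
  unfold Cfsg.hermForm
  rw [Finset.sum_eq_single i]
  · simp
  · intro j _ hj
    simp [hj]
  · intro h; exact absurd (Finset.mem_univ i) h

omit [Fintype F] in
theorem exists_herm_ne_zero (v : Fin n → F) (hv : v ≠ 0) :
    ∃ x, Cfsg.hermForm n F 2 x v ≠ 0 := by
  obtain ⟨i, hi⟩ : ∃ i, v i ≠ 0 := by
    by_contra h
    push Not at h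
    exact hv (funext h)
  exact ⟨Pi.single i 1, by rw [hermForm_single_left]; exact pow_ne_zero 2 hi⟩

omit [Fintype F] in
theorem tvm_ne_one (v : Fin n → F) (hv : v ≠ 0) : tvm v ≠ 1 := by
  intro h
  obtain ⟨x, hx⟩ := exists_herm_ne_zero v hv
  have h1 := tvm_mulVec v x
  rw [h, Matrix.one_mulVec] at h1
  have h2 : Cfsg.hermForm n F 2 x v • v = 0 := by
    have := h1.symm
    rwa [add_eq_left] at this
  rcases smul_eq_zero.1 h2 with h3 | h3
  · exact hx h3
  · exact hv h3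

omit [Fintype F] in
theorem conj_tvm (g : ↥(Cfsg.SU n F 2)) (v : Fin n → F) :
    g.1.1 * tvm v = tvm (g.1.1 *ᵥ v) * g.1.1 := by
  apply mat_ext'
  intro x
  rw [← Matrix.mulVec_mulVec, ← Matrix.mulVec_mulVec, tvm_mulVec, tvm_mulVec, Matrix.mulVec_add,
    Matrix.mulVec_smul]
  congr 2
  exact (g.2 x v).symm

omit [Fintype F] in
theorem rank_tvm (v : Fin n → F) (hv : v ≠ 0) : (tvm v - 1).rank = 1 := by
  obtain ⟨x₀, hx₀⟩ := exists_herm_ne_zero v hv
  apply rank_eq_one_of (tvm v - 1) v hv (fun x => Cfsg.hermForm n F 2 x v) _ x₀ hx₀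
  intro x
  rw [Matrix.sub_mulVec, tvm_mulVec, Matrix.one_mulVec, add_sub_cancel_left]

end tv


section grp

open Cfsg.Agent.Lib.H11.UGen Cfsg.Agent.Lib.H11.USimple
open Cfsg.Agent.S0837 (Bs Bs_apply Bs_symm Bs_nondeg)
open Cfsg.Agent.S0782 (Bs_eq_herm)

variable {F : Type*} [Field F] [Fintype F] {n : ℕ} (hF : Fintype.card F = 4)

include hF in
/-- the transvection along an isotropic vector lies in `SU` -/
theorem exists_tv (v : Fin n → F) (hv : Cfsg.hermForm n F 2 v v = 0) :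
    ∃ A : ↥(Cfsg.SU n F 2), A.1.1 = tvm v := by
  have hF' : Fintype.card F = 2 ^ 2 := by rw [hF]; norm_num
  obtain ⟨φ, hφ, hφ2⟩ := Cfsg.Agent.Lib.H4.exists_frob hF'
  have hB : Bs φ n v v = 0 := by rw [Bs_eq_herm φ hφ]; exact hv
  have hc : (1 : F) + φ 1 + 1 * φ 1 * Bs φ n v v = 0 := by
    rw [map_one, hB, mul_zero, add_zero]
    exact f4_two hF
  have hval : (uEl φ hφ hφ2 v 1 hc).1.1 = tvm v := by
    rw [uEl_val, Um_eq φ hφ]
    rfl
  have hdet : (tvm v).det = 1 := by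
    rw [← hval, uEl_det, hB, mul_zero, add_zero]
  have hpres : ∀ x y : Fin n → F, Cfsg.hermForm n F 2 (tvm v *ᵥ x) (tvm v *ᵥ y) =
      Cfsg.hermForm n F 2 x y := by
    rw [← hval]
    exact (uEl φ hφ hφ2 v 1 hc).2
  exact ⟨Cfsg.Agent.Lib.H2.Unitary.mkSU (tvm v) hdet hpres, rfl⟩

include hF in
/-- `SU` is transitive on isotropic points -/
theorem su_trans (u v : Fin n → F) (hu : u ≠ 0) (hv : v ≠ 0)
    (huu : Cfsg.hermForm n F 2 u u = 0) (hvv : Cfsg.hermForm n F 2 v v = 0) :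
    ∃ g : ↥(Cfsg.SU n F 2), ∃ a : F, a ≠ 0 ∧ g.1.1 *ᵥ u = a • v := by
  have hF' : Fintype.card F = 2 ^ 2 := by rw [hF]; norm_num
  obtain ⟨φ, hφ, hφ2⟩ := Cfsg.Agent.Lib.H4.exists_frob hF'
  have hφne := Cfsg.Agent.S0837.phi_ne_id φ hF' hφ
  obtain ⟨g, hdet, a, ha, hga⟩ := su_trans_sing φ hF' hφ hφ2 hφne u v
    (by rw [Bs_eq_herm φ hφ]; exact huu) (by rw [Bs_eq_herm φ hφ]; exact hvv) hu hv
  exact ⟨Cfsg.Agent.Lib.H2.Unitary.mkSU g.1.1 hdet g.2, a, ha, hga⟩


omit [Fintype F] in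
theorem det_one_add_rank_one (w : Fin n → F) (f : (Fin n → F) →ₗ[F] F)
    (M : Matrix (Fin n) (Fin n) F) (hM : ∀ x, M *ᵥ x = x + f x • w) : M.det = 1 + f w := by
  have hM' : M = 1 + Matrix.replicateCol Unit w *
      Matrix.replicateRow Unit (fun j => f (Pi.single j 1)) := by
    apply mat_ext'
    intro x
    rw [hM, Matrix.add_mulVec, Matrix.one_mulVec, ← Matrix.vecMulVec_eq,
      Matrix.vecMulVec_mulVec, op_smul_eq_smul]
    congr 2
    rw [LinearMap.pi_apply_eq_sum_univ f x, dotProduct]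
    apply Finset.sum_congr rfl
    intro i _
    rw [smul_eq_mul, mul_comm]
    congr 2
    funext j
    rw [Pi.single_apply]
    simp [eq_comm]
  rw [hM', Matrix.det_one_add_replicateCol_mul_replicateRow]
  congr 1
  rw [LinearMap.pi_apply_eq_sum_univ f w, dotProduct]
  apply Finset.sum_congr rfl
  intro i _
  rw [smul_eq_mul, mul_comm]
  congr 2
  funext j
  rw [Pi.single_apply]
  simp [eq_comm]

include hF in
/-- elements of `SU_n(2)` with `g - 1` of rank one are transvections -/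
theorem eq_tvm_of_rank (A : ↥(Cfsg.SU n F 2)) (hA : (A.1.1 - 1).rank = 1) :
    ∃ w : Fin n → F, w ≠ 0 ∧ Cfsg.hermForm n F 2 w w = 0 ∧ A.1.1 = tvm w := by
  have hH := isHerm_hermForm hF n
  have two := f4_two hF
  obtain ⟨w, hw, f, hf, x₀, hx₀⟩ := exists_of_rank_eq_one _ hA
  have hAx : ∀ x, A.1.1 *ᵥ x = x + f x • w := by
    intro x
    have := hf x
    rw [Matrix.sub_mulVec, Matrix.one_mulVec, sub_eq_iff_eq_add] at this
    rw [this, add_comm]
  have hfw : f w = 0 := by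
    have h1 := det_one_add_rank_one w f A.1.1 hAx
    rw [A.1.2] at h1
    linear_combination -h1
  have E : ∀ x y, (f y) ^ 2 * Cfsg.hermForm n F 2 x w +
      f x * (Cfsg.hermForm n F 2 w y + (f y) ^ 2 * Cfsg.hermForm n F 2 w w) = 0 := by
    intro x y
    have h := A.2 x y
    change Cfsg.hermForm n F 2 (A.1.1 *ᵥ x) (A.1.1 *ᵥ y) = Cfsg.hermForm n F 2 x y at h
    rw [hAx, hAx, hH.add_left, hH.smul_left, hH.add_right hF, hH.add_right hF, hH.smul_right,
      hH.smul_right] at h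
    linear_combination h
  have hww : Cfsg.hermForm n F 2 w w = 0 := by
    have h1 := E w x₀
    rw [hfw, zero_mul, add_zero] at h1
    rcases mul_eq_zero.1 h1 with h2 | h2
    · exact absurd ((pow_eq_zero_iff (two_ne_zero)).1 h2) hx₀
    · exact h2
  have E' : ∀ x, (f x₀) ^ 2 * Cfsg.hermForm n F 2 x w + f x * Cfsg.hermForm n F 2 w x₀ = 0 := by
    intro x
    have h1 := E x x₀
    rw [hww, mul_zero, add_zero] at h1
    exact h1
  have hb : Cfsg.hermForm n F 2 w x₀ ≠ 0 := by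
    intro hb
    obtain ⟨x, hx⟩ := exists_herm_ne_zero w hw
    have h1 := E' x
    rw [hb, mul_zero, add_zero] at h1
    rcases mul_eq_zero.1 h1 with h2 | h2
    · exact hx₀ ((pow_eq_zero_iff (two_ne_zero)).1 h2)
    · exact hx h2
  have hab : f x₀ * Cfsg.hermForm n F 2 w x₀ = 1 := by
    have h1 := E' x₀
    rw [hH.herm x₀ w] at h1
    have h2 : (f x₀ * Cfsg.hermForm n F 2 w x₀) *
        (f x₀ * Cfsg.hermForm n F 2 w x₀ + 1) = 0 := by linear_combination h1
    rcases mul_eq_zero.1 h2 with h3 | h3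
    · exact absurd h3 (mul_ne_zero hx₀ hb)
    · linear_combination h3 - two
  have h3 := f4_cube hF (f x₀) hx₀
  refine ⟨w, hw, hww, ?_⟩
  apply mat_ext'
  intro x
  rw [hAx, tvm_mulVec]
  congr 2
  have e1 := E' x
  linear_combination (f x₀) * e1 - (Cfsg.hermForm n F 2 x w) * h3 - (f x) * hab -
    (Cfsg.hermForm n F 2 x w) * two


theorem braid_cube {G : Type*} [Group G] (d e t : G) (h1 : d * e = t * d) (h2 : e * d = t * e)
    (hd : d * d = 1) (he : e * e = 1) (ht : t * t = 1) : (d * e) ^ 3 = 1 := by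
  have h3 : (d * e) ^ 3 = (d * e) * d * (e * d) * e := by
    rw [pow_succ, pow_two]; group
  rw [h3, h1, h2]
  calc t * d * d * (t * e) * e = t * (d * d) * t * (e * e) := by group
    _ = 1 := by rw [hd, he, mul_one, mul_one, ht]

omit [Fintype F] in
theorem su_ext {A B : ↥(Cfsg.SU n F 2)} (h : A.1.1 = B.1.1) : A = B :=
  Subtype.ext (Subtype.ext h)

include hF in
theorem tv_mul_self (d : ↥(Cfsg.SU n F 2)) (w : Fin n → F)
    (hww : Cfsg.hermForm n F 2 w w = 0) (hd : d.1.1 = tvm w) : d * d = 1 := by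
  apply su_ext
  show d.1.1 * d.1.1 = 1
  rw [hd, tvm_sq hF w hww]

omit [Fintype F] in
theorem act_ne_zero (k : ↥(Cfsg.SU n F 2)) (v : Fin n → F) (hv : v ≠ 0) : k.1.1 *ᵥ v ≠ 0 := by
  obtain ⟨x, hx⟩ := exists_herm_ne_zero v hv
  intro h
  apply hx
  rw [← k.2 x v]
  show Cfsg.hermForm n F 2 (k.1.1 *ᵥ x) (k.1.1 *ᵥ v) = 0
  rw [h]
  unfold Cfsg.hermForm
  simp

omit [Fintype F] in
theorem act_iso (k : ↥(Cfsg.SU n F 2)) (v : Fin n → F) (hv : Cfsg.hermForm n F 2 v v = 0) :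
    Cfsg.hermForm n F 2 (k.1.1 *ᵥ v) (k.1.1 *ᵥ v) = 0 := by
  rw [← hv]
  exact k.2 v v

include hF in
theorem three_transp (d e : ↥(Cfsg.SU n F 2)) (u v : Fin n → F)
    (huu : Cfsg.hermForm n F 2 u u = 0) (hvv : Cfsg.hermForm n F 2 v v = 0)
    (hd : d.1.1 = tvm u) (he : e.1.1 = tvm v) : (d * e) ^ 2 = 1 ∨ (d * e) ^ 3 = 1 := by
  have hH := isHerm_hermForm hF n
  have hdd := tv_mul_self hF d u huu hd
  have hee := tv_mul_self hF e v hvv he
  by_cases hs : Cfsg.hermForm n F 2 u v = 0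
  · left
    have hs' : Cfsg.hermForm n F 2 v u = 0 := hH.eq_zero_symm hs
    have hcomm : d * e = e * d := by
      apply su_ext
      show d.1.1 * e.1.1 = e.1.1 * d.1.1
      rw [he, conj_tvm d v, hd, tvm_mulVec, hs', zero_smul, add_zero]
    rw [pow_two]
    calc d * e * (d * e) = d * (e * d) * e := by group
      _ = d * (d * e) * e := by rw [hcomm]
      _ = (d * d) * (e * e) := by group
      _ = 1 := by rw [hdd, hee, mul_one]
  · right
    set s := Cfsg.hermForm n F 2 u v with hsdef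
    have hs3 := f4_cube hF s hs
    have hvu : Cfsg.hermForm n F 2 v u = s ^ 2 := by rw [hsdef, hH.conj]
    -- the two conjugates
    have hdv : d.1.1 *ᵥ v = v + s ^ 2 • u := by rw [hd, tvm_mulVec, hvu]
    have heu : e.1.1 *ᵥ u = u + s • v := by rw [he, tvm_mulVec]
    have hrel : d.1.1 *ᵥ v = s ^ 2 • (e.1.1 *ᵥ u) := by
      rw [hdv, heu, smul_add, smul_smul]
      have : s ^ 2 * s = 1 := by rw [← hs3]; ring
      rw [this, one_smul, add_comm]
    have hiso := act_iso e u huu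
    obtain ⟨t, ht⟩ := exists_tv hF (e.1.1 *ᵥ u) hiso
    have htt := tv_mul_self hF t _ hiso ht
    have h1 : d * e = t * d := by
      apply su_ext
      show d.1.1 * e.1.1 = t.1.1 * d.1.1
      rw [he, conj_tvm d v, hrel, tvm_smul hF _ (pow_ne_zero 2 hs), ht]
    have h2 : e * d = t * e := by
      apply su_ext
      show e.1.1 * d.1.1 = t.1.1 * e.1.1
      rw [hd, conj_tvm e u, ht]
    exact braid_cube d e t h1 h2 hdd hee htt


include hF in
theorem mem_D_iff (g : ↥(Cfsg.SU n F 2)) :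
    (g.1.1 - 1).rank = 1 ↔
      ∃ w : Fin n → F, w ≠ 0 ∧ Cfsg.hermForm n F 2 w w = 0 ∧ g.1.1 = tvm w := by
  constructor
  · exact eq_tvm_of_rank hF g
  · rintro ⟨w, hw, -, hg⟩
    rw [hg]
    exact rank_tvm w hw

end grp

/-- The unitary transvections of SU(n, 2), n ≥ 4, form a generating conjugacy class of 3-transpositions. -/
theorem result (F : Type) [Field F] [Fintype F] [DecidableEq F] (hF : Fintype.card F = 4) (n : ℕ) (hn : 4 ≤ n) : Cfsg.IsThreeTranspositionClass {g : ↥(Cfsg.SU n F 2) | (((g : Matrix.SpecialLinearGroup (Fin n) F) : Matrix (Fin n) (Fin n) F) - 1).rank = 1} := by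
  have hH := isHerm_hermForm hF n
  have two := f4_two hF
  refine ⟨⟨?_, ?_⟩, ?_, ?_⟩
  · -- order two
    intro d hd
    obtain ⟨w, hw, hww, hdw⟩ := (mem_D_iff hF d).1 hd
    haveI : Fact (Nat.Prime 2) := ⟨Nat.prime_two⟩
    apply orderOf_eq_prime
    · rw [pow_two]
      exact tv_mul_self hF d w hww hdw
    · intro h1
      apply tvm_ne_one w hw
      rw [← hdw, h1]
      rfl
  · -- products
    intro d hd e he
    obtain ⟨u, -, huu, hdu⟩ := (mem_D_iff hF d).1 hd
    obtain ⟨v, -, hvv, hev⟩ := (mem_D_iff hF e).1 he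
    exact three_transp hF d e u v huu hvv hdu hev
  · -- a single class
    let i0 : Fin n := ⟨0, by omega⟩
    let i1 : Fin n := ⟨1, by omega⟩
    have hi : i0 ≠ i1 := by
      intro h
      have := congrArg Fin.val h
      simp [i0, i1] at this
    let v₀ : Fin n → F := Pi.single i0 1 + Pi.single i1 1
    have hv₀ : v₀ ≠ 0 := by
      intro h
      have := congrFun h i0
      simp [v₀, hi] at this
    have hvv₀ : Cfsg.hermForm n F 2 v₀ v₀ = 0 := by
      rw [hH.add_left, hermForm_single_left, hermForm_single_left]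
      simp [v₀, hi, hi.symm]
      exact two
    obtain ⟨d₀, hd₀⟩ := exists_tv hF v₀ hvv₀
    refine ⟨d₀, (mem_D_iff hF d₀).2 ⟨v₀, hv₀, hvv₀, hd₀⟩, ?_⟩
    ext g
    show _ ↔ IsConj d₀ g
    rw [isConj_iff]
    constructor
    · intro hg
      obtain ⟨w, hw, hww, hgw⟩ := (mem_D_iff hF g).1 hg
      obtain ⟨k, a, ha, hk⟩ := su_trans hF v₀ w hv₀ hw hvv₀ hww
      refine ⟨k, ?_⟩
      rw [mul_inv_eq_iff_eq_mul]
      apply su_ext
      show k.1.1 * d₀.1.1 = g.1.1 * k.1.1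
      rw [hd₀, conj_tvm k v₀, hk, tvm_smul hF a ha, hgw]
    · rintro ⟨k, rfl⟩
      have hiso := act_iso k v₀ hvv₀
      obtain ⟨t, ht⟩ := exists_tv hF (k.1.1 *ᵥ v₀) hiso
      have h1 : k * d₀ * k⁻¹ = t := by
        rw [mul_inv_eq_iff_eq_mul]
        apply su_ext
        show k.1.1 * d₀.1.1 = t.1.1 * k.1.1
        rw [hd₀, conj_tvm k v₀, ht]
      rw [h1]
      exact (mem_D_iff hF t).2 ⟨_, act_ne_zero k v₀ hv₀, hiso, ht⟩
  · -- generation
    have hF' : Fintype.card F = 2 ^ 2 := by rw [hF]; norm_num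
    have hgen := Cfsg.Agent.Lib.H11.UGen.su_closure_eq_top hF' n (by omega) (by omega)
    rw [eq_top_iff, ← hgen, Subgroup.closure_le]
    rintro A ⟨v, c, hvv, hA⟩
    by_cases hc : c = 0
    · have : A = 1 := by
        apply su_ext
        rw [hA, hc]
        unfold Cfsg.unitaryTransvection
        rw [zero_smul, add_zero]
        rfl
      rw [this]
      exact Subgroup.one_mem _
    by_cases hv : v = 0
    · have : A = 1 := by
        apply su_ext
        rw [hA, hv]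
        apply mat_ext'
        intro x
        rw [utv_mulVec, smul_zero, add_zero]
        show x = (1 : Matrix (Fin n) (Fin n) F) *ᵥ x
        rw [Matrix.one_mulVec]
      rw [this]
      exact Subgroup.one_mem _
    apply Subgroup.subset_closure
    obtain ⟨x₀, hx₀⟩ := exists_herm_ne_zero v hv
    show (A.1.1 - 1).rank = 1
    apply rank_eq_one_of (A.1.1 - 1) v hv (fun x => c * Cfsg.hermForm n F 2 x v) _ x₀
      (mul_ne_zero hc hx₀)
    intro x
    rw [Matrix.sub_mulVec, hA, utv_mulVec, Matrix.one_mulVec, add_sub_cancel_left]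

end Cfsg.Agent.S1631
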