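import Cfsg.Statements.S1632
import Cfsg.Agent.Lib.H14.ThetaTHS
import Cfsg.Agent.Lib.H26.ThetaTH1
import Cfsg.Agent.Lib.H1.ThetaTH2
import Cfsg.Agent.Lib.H27.ThetaAR

set_option autoImplicit false
open Matrix
open Cfsg

namespace Cfsg.Agent.S1632

open Complex UpperHalfPlane ModularForm ModularFormClass MatrixGroups EisensteinSeries
open Cfsg.Agent.Lib.H14.Theta

theorem theta_eq_thetaS {n : ℕ} (B : Matrix (Fin n) (Fin n) ℤ) (τ : ℍ) :
    theta B τ = thetaS B (-Complex.I * (τ : ℂ)) := by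
  unfold theta thetaS
  congr 1
  funext x
  congr 1
  ring

theorem re_neg_I_mul (τ : ℍ) : 0 < (-Complex.I * (τ : ℂ)).re := by
  simp [Complex.mul_re]
  exact τ.im_pos

/-- An even unimodular lattice of rank 24 without roots has 196560, 16773120 and 398034000 vectors of norms 4, 6 and 8. -/
theorem result (B : Matrix (Fin 24) (Fin 24) ℤ) (hsymm : B.IsSymm) (hpos : ∀ x : Fin 24 → ℤ, x ≠ 0 → 0 < x ⬝ᵥ (B *ᵥ x)) (heven : ∀ x : Fin 24 → ℤ, (2 : ℤ) ∣ x ⬝ᵥ (B *ᵥ x)) (hdet : B.det = 1) (h2 : ∀ x : Fin 24 → ℤ, x ⬝ᵥ (B *ᵥ x) ≠ 2) : {x : Fin 24 → ℤ | x ⬝ᵥ (B *ᵥ x) = 4}.ncard = 196560 ∧ {x : Fin 24 → ℤ | x ⬝ᵥ (B *ᵥ x) = 6}.ncard = 16773120 ∧ {x : Fin 24 → ℤ | x ⬝ᵥ (B *ᵥ x) = 8}.ncard = 398034000 := by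
  have hpos' : ∀ x : Fin 24 → ℤ, x ≠ 0 → 0 < Bq B x := hpos
  have hPD : IsPD (Br B) := Cfsg.Agent.Lib.H21.Theta.isPD_Br B hsymm hpos' hdet
  have hfin := Cfsg.Agent.Lib.H21.Theta.finite_Bq_eq B hsymm hpos' hdet
  have hnn : ∀ x : Fin 24 → ℤ, 0 ≤ Bq B x := by
    intro x
    by_cases hx : x = 0
    · subst hx
      simp [Bq]
    · exact (hpos' x hx).le
  have hev : ∀ x : Fin 24 → ℤ, (2 : ℤ) ∣ Bq B x := heven
  -- summability
  have hsum : ∀ τ : ℍ, Summable (fun x : Fin 24 → ℤ =>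
      ‖cexp ((Real.pi : ℂ) * Complex.I * (τ : ℂ) * ((Bq B x : ℤ) : ℂ))‖) := by
    intro τ
    have h := Cfsg.Agent.Lib.H24.Theta.summable_gterm (fun A hA σ hσ β => Cfsg.Agent.Lib.H26.Theta.summable_real_gauss A hA σ hσ β) (Br B) hPD
      (-Complex.I * (τ : ℂ)) (re_neg_I_mul τ) 0
    refine h.congr ?_
    intro x
    congr 1
    unfold gterm
    rw [Cfsg.Agent.Lib.H21.Theta.qf_Br B]
    congr 1
    simp only [Pi.zero_apply, zero_mul, Finset.sum_const_zero, mul_zero, add_zero]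
    ring
  have hq : ∀ τ : ℍ, HasSum (fun m : ℕ => ((rep B m : ℕ) : ℂ) • Function.Periodic.qParam 1 (τ : ℂ) ^ m)
      (theta B τ) := fun τ => Cfsg.Agent.Lib.H26.Theta.hasSum_theta B hnn hev hfin τ (hsum τ)
  -- S-invariance
  have hS : ∀ τ : ℍ, theta B (ModularGroup.S • τ) = (τ : ℂ) ^ 12 * theta B τ := by
    intro τ
    rw [theta_eq_thetaS, theta_eq_thetaS]
    have h := Cfsg.Agent.Lib.H14.Theta.thetaS_inv B hsymm hpos' hdet (-Complex.I * (τ : ℂ)) (re_neg_I_mul τ)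
    have hτ : (τ : ℂ) ≠ 0 := τ.ne_zero
    have e1 : -Complex.I * ((ModularGroup.S • τ : ℍ) : ℂ) = 1 / (-Complex.I * (τ : ℂ)) := by
      rw [UpperHalfPlane.modular_S_smul]
      simp only [UpperHalfPlane.coe_mk]
      have hI : Complex.I ≠ 0 := Complex.I_ne_zero
      field_simp
      have : Complex.I ^ 2 = -1 := Complex.I_sq
      linear_combination this
    rw [e1, h]
    congr 1
    rw [mul_pow]
    have : (-Complex.I) ^ 12 = 1 := by
      have h4 : (-Complex.I) ^ 12 = (((-Complex.I) ^ 2) ^ 2) ^ 3 := by ring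
      rw [h4, neg_sq, Complex.I_sq]
      norm_num
    rw [this, one_mul]
  obtain ⟨F, hF⟩ := Cfsg.Agent.Lib.H1.Theta.exists_modularForm_of_qExpansion (theta B) (fun m => ((rep B m : ℕ) : ℂ)) hq hS
  have hc : ∀ m : ℕ, ((rep B m : ℕ) : ℂ) = (qExpansion 1 F).coeff m := by
    intro m
    exact ModularFormClass.qExpansion_coeff_unique (c := fun m => ((rep B m : ℕ) : ℂ)) one_pos
      one_mem_strictPeriods_SL (f := F) (fun τ => by rw [hF]; exact hq τ) m
  have h0 : rep B 0 = 1 := by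
    unfold rep
    have : {x : Fin 24 → ℤ | Bq B x = 2 * ((0 : ℕ) : ℤ)} = {0} := by
      ext x
      simp only [Nat.cast_zero, mul_zero, Set.mem_setOf_eq, Set.mem_singleton_iff]
      constructor
      · intro h
        by_contra hx
        have := hpos' x hx
        omega
      · rintro rfl
        simp [Bq]
    rw [this, Set.ncard_singleton]
  have h1 : rep B 1 = 0 := by
    unfold rep
    have : {x : Fin 24 → ℤ | Bq B x = 2 * ((1 : ℕ) : ℤ)} = ∅ := by
      ext x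
      simp only [Nat.cast_one, mul_one, Set.mem_setOf_eq, Set.mem_empty_iff_false, iff_false]
      exact h2 x
    rw [this, Set.ncard_empty]
  obtain ⟨c2, c3, c4⟩ := Cfsg.Agent.Lib.H27.Theta.coeff_of_weight_twelve F (by rw [← hc 0, h0]; simp) (by rw [← hc 1, h1]; simp)
  have r2 : rep B 2 = 196560 := by
    have := (hc 2).trans c2
    exact_mod_cast this
  have r3 : rep B 3 = 16773120 := by
    have := (hc 3).trans c3
    exact_mod_cast this
  have r4 : rep B 4 = 398034000 := by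
    have := (hc 4).trans c4
    exact_mod_cast this
  refine ⟨?_, ?_, ?_⟩
  · rw [← r2]; rfl
  · rw [← r3]; rfl
  · rw [← r4]; rfl

end Cfsg.Agent.S1632
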