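import Cfsg.Statements.S1638
import Cfsg.Agent.Lib.H28.TetradPairs
import Cfsg.Agent.Lib.H28.M24Stab

set_option autoImplicit false
open scoped Pointwise
open Cfsg

namespace Cfsg.Agent.S1638

/-- Fix two points p ≠ q and a pair s of two further points. Among the pairs avoiding p, q and disjoint from s, exactly 30 lie in an octad together with p, q and s and exactly 160 do not; and any two pairs other than s that meet s in equally many points and agree on that octad property are carried to one another by an element of the group of the length-24 code fixing p, q and s. -/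
theorem result (p q : Cfsg.GolayPt) (hpq : p ≠ q) (s : Finset Cfsg.GolayPt) (hs : (s.card = 2 ∧ p ∉ s ∧ q ∉ s)) : {t : Finset Cfsg.GolayPt | (t.card = 2 ∧ p ∉ t ∧ q ∉ t) ∧ Disjoint s t ∧ (∃ o ∈ Cfsg.octads, p ∈ o ∧ q ∈ o ∧ s ∪ t ⊆ o)}.ncard = 30 ∧ {t : Finset Cfsg.GolayPt | (t.card = 2 ∧ p ∉ t ∧ q ∉ t) ∧ Disjoint s t ∧ ¬ (∃ o ∈ Cfsg.octads, p ∈ o ∧ q ∈ o ∧ s ∪ t ⊆ o)}.ncard = 160 ∧ ∀ t t' : Finset Cfsg.GolayPt, (t.card = 2 ∧ p ∉ t ∧ q ∉ t) → (t'.card = 2 ∧ p ∉ t' ∧ q ∉ t') → t ≠ s → t' ≠ s → (s ∩ t).card = (s ∩ t').card → ((∃ o ∈ Cfsg.octads, p ∈ o ∧ q ∈ o ∧ s ∪ t ⊆ o) ↔ (∃ o ∈ Cfsg.octads, p ∈ o ∧ q ∈ o ∧ s ∪ t' ⊆ o)) → ∃ g : Equiv.Perm Cfsg.GolayPt, g ∈ Cfsg.M24 ∧ g p = p ∧ g q = q ∧ g • s = s ∧ g • t = t' := by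
  classical
  obtain ⟨hs2, hps, hqs⟩ := hs
  set T : Finset Cfsg.GolayPt := insert p (insert q s) with hTdef
  have hT : T.card = 4 := by
    rw [hTdef, Finset.card_insert_of_notMem (by simp [hpq, hps]), Finset.card_insert_of_notMem hqs, hs2]
  have hdisj : ∀ t : Finset Cfsg.GolayPt, (p ∉ t ∧ q ∉ t ∧ Disjoint s t) ↔ Disjoint T t := by
    intro t
    rw [hTdef, Finset.disjoint_insert_left, Finset.disjoint_insert_left]
  have hoct : ∀ t : Finset Cfsg.GolayPt, (∃ o ∈ Cfsg.octads, p ∈ o ∧ q ∈ o ∧ s ∪ t ⊆ o) ↔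
      (∃ o ∈ Cfsg.octads, T ∪ t ⊆ o) := by
    intro t
    constructor
    · rintro ⟨o, ho, h1, h2, h3⟩
      refine ⟨o, ho, ?_⟩
      rw [hTdef, Finset.insert_union, Finset.insert_union]
      exact Finset.insert_subset h1 (Finset.insert_subset h2 h3)
    · rintro ⟨o, ho, h⟩
      rw [hTdef, Finset.insert_union, Finset.insert_union, Finset.insert_subset_iff,
        Finset.insert_subset_iff] at h
      exact ⟨o, ho, h.1, h.2.1, h.2.2⟩
  have hA : {t : Finset Cfsg.GolayPt | (t.card = 2 ∧ p ∉ t ∧ q ∉ t) ∧ Disjoint s t ∧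
      (∃ o ∈ Cfsg.octads, p ∈ o ∧ q ∈ o ∧ s ∪ t ⊆ o)} = ↑(Cfsg.Agent.Lib.H28.tetradPairs T) := by
    ext t
    rw [Set.mem_ofPred_eq, Finset.mem_coe]
    constructor
    · rintro ⟨⟨h2, hp, hq⟩, hd, ho⟩
      exact (Cfsg.Agent.Lib.H28.exists_octad_iff_mem_tetradPairs hT h2 ((hdisj t).1 ⟨hp, hq, hd⟩)).1
        ((hoct t).1 ho)
    · intro ht
      have hd := Cfsg.Agent.Lib.H28.tetradPairs_disjoint hT ht
      obtain ⟨hp, hq, hds⟩ := (hdisj t).2 hd
      have h2 : t.card = 2 := by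
        obtain ⟨τ, _, _, _, h2⟩ := Cfsg.Agent.Lib.H28.mem_tetradPairs.1 ht
        exact h2
      exact ⟨⟨h2, hp, hq⟩, hds, (hoct t).2
        ((Cfsg.Agent.Lib.H28.exists_octad_iff_mem_tetradPairs hT h2 hd).2 ht)⟩
  have hsubU : Cfsg.Agent.Lib.H28.tetradPairs T ⊆ Tᶜ.powersetCard 2 := by
    intro t ht
    have hd := Cfsg.Agent.Lib.H28.tetradPairs_disjoint hT ht
    obtain ⟨τ, _, _, _, h2⟩ := Cfsg.Agent.Lib.H28.mem_tetradPairs.1 ht
    rw [Finset.mem_powersetCard]
    refine ⟨?_, h2⟩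
    intro x hx
    rw [Finset.mem_compl]
    exact fun hxT => Finset.disjoint_left.1 hd hxT hx
  have hB : {t : Finset Cfsg.GolayPt | (t.card = 2 ∧ p ∉ t ∧ q ∉ t) ∧ Disjoint s t ∧
      ¬ (∃ o ∈ Cfsg.octads, p ∈ o ∧ q ∈ o ∧ s ∪ t ⊆ o)}
      = ↑(Tᶜ.powersetCard 2 \ Cfsg.Agent.Lib.H28.tetradPairs T) := by
    ext t
    rw [Set.mem_ofPred_eq, Finset.mem_coe, Finset.mem_sdiff, Finset.mem_powersetCard]
    constructor
    · rintro ⟨⟨h2, hp, hq⟩, hd, ho⟩
      have hdT := (hdisj t).1 ⟨hp, hq, hd⟩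
      refine ⟨⟨?_, h2⟩, ?_⟩
      · intro x hx
        rw [Finset.mem_compl]
        exact fun hxT => Finset.disjoint_left.1 hdT hxT hx
      · intro ht
        exact ho ((hoct t).2 ((Cfsg.Agent.Lib.H28.exists_octad_iff_mem_tetradPairs hT h2 hdT).2 ht))
    · rintro ⟨⟨hsub, h2⟩, hnot⟩
      have hdT : Disjoint T t := by
        rw [Finset.disjoint_left]
        intro x hxT hx
        have := hsub hx
        rw [Finset.mem_compl] at this
        exact this hxT
      obtain ⟨hp, hq, hds⟩ := (hdisj t).2 hdT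
      refine ⟨⟨h2, hp, hq⟩, hds, ?_⟩
      intro ho
      exact hnot ((Cfsg.Agent.Lib.H28.exists_octad_iff_mem_tetradPairs hT h2 hdT).1 ((hoct t).1 ho))
  refine ⟨?_, ?_, ?_⟩
  · rw [hA, Set.ncard_coe_finset, Cfsg.Agent.Lib.H28.card_tetradPairs hT]
  · rw [hB, Set.ncard_coe_finset, Finset.card_sdiff_of_subset hsubU,
      Cfsg.Agent.Lib.H28.card_tetradPairs hT, Finset.card_powersetCard, Finset.card_compl, hT,
      Cfsg.Agent.Lib.H28.card_GolayPt]
    rfl
  · intro t t' ht ht' hts ht's hcard hiff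
    obtain ⟨ht2, hpt, hqt⟩ := ht
    obtain ⟨ht'2, hpt', hqt'⟩ := ht'
    have hle : (s ∩ t).card ≤ 2 := (Finset.card_le_card Finset.inter_subset_left).trans hs2.le
    have h2ne : ∀ u : Finset Cfsg.GolayPt, u.card = 2 → u ≠ s → (s ∩ u).card ≠ 2 := by
      intro u hu2 hus h2
      have e1 : s ∩ u = s := Finset.eq_of_subset_of_card_le Finset.inter_subset_left (by rw [h2, hs2])
      have e2 : s ∩ u = u := Finset.eq_of_subset_of_card_le Finset.inter_subset_right (by rw [h2, hu2])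
      exact hus (e2.symm.trans e1)
    have hne2 := h2ne t ht2 hts
    rcases Nat.lt_or_ge (s ∩ t).card 1 with h0 | h1
    · -- disjoint pairs
      have hd : s ∩ t = ∅ := by rw [← Finset.card_eq_zero]; omega
      have hd' : s ∩ t' = ∅ := by rw [← Finset.card_eq_zero]; omega
      obtain ⟨a, b, hab, rfl⟩ := Finset.card_eq_two.1 hs2
      obtain ⟨c, d, hcd, rfl⟩ := Finset.card_eq_two.1 ht2
      obtain ⟨c', d', hcd', rfl⟩ := Finset.card_eq_two.1 ht'2
      rw [← Finset.disjoint_iff_inter_eq_empty] at hd hd'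
      have hx : [p, q, a, b, c, d].Nodup :=
        Cfsg.Agent.Lib.H28.nodup_six hpq hps hqs hpt hqt hab hcd hd
      have hy : [p, q, a, b, c', d'].Nodup :=
        Cfsg.Agent.Lib.H28.nodup_six hpq hps hqs hpt' hqt' hab hcd' hd'
      have hoctx := Cfsg.Agent.Lib.H28.exists_octad_tuple6_iff p q a b
      obtain ⟨g, hg, hmap⟩ := Cfsg.Agent.Lib.H28.six_trans _ _
        (Cfsg.Agent.Lib.H28.tupleOf_injective hx (n := 6) rfl)
        (Cfsg.Agent.Lib.H28.tupleOf_injective hy (n := 6) rfl)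
        ((hoctx c d).trans (hiff.trans (hoctx c' d').symm))
      have e0 : g p = p := hmap 0
      have e1 : g q = q := hmap 1
      have e2 : g a = a := hmap 2
      have e3 : g b = b := hmap 3
      have e4 : g c = c' := hmap 4
      have e5 : g d = d' := hmap 5
      refine ⟨g, hg, e0, e1, ?_, ?_⟩
      · rw [Finset.smul_finset_insert, Finset.smul_finset_singleton, Equiv.Perm.smul_def,
          Equiv.Perm.smul_def, e2, e3]
      · rw [Finset.smul_finset_insert, Finset.smul_finset_singleton, Equiv.Perm.smul_def,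
          Equiv.Perm.smul_def, e4, e5]
    · -- pairs meeting in one point
      have h1' : (s ∩ t).card = 1 := by omega
      have h1'' : (s ∩ t').card = 1 := by omega
      obtain ⟨u, u', c, huu', huc, hu'c, es, et⟩ := Cfsg.Agent.Lib.H28.pair_meet_one hs2 ht2 h1'
      obtain ⟨v, v', c', hvv', hvc, hv'c, es', et'⟩ := Cfsg.Agent.Lib.H28.pair_meet_one hs2 ht'2 h1''
      have hps' := hps
      have hqs' := hqs
      rw [es] at hps hqs
      rw [es'] at hps' hqs'
      rw [et] at hpt hqt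
      rw [et'] at hpt' hqt'
      have hx : [p, q, u, u', c].Nodup :=
        Cfsg.Agent.Lib.H28.nodup_five hpq hps hqs hpt hqt huu' huc hu'c
      have hy : [p, q, v, v', c'].Nodup :=
        Cfsg.Agent.Lib.H28.nodup_five hpq hps' hqs' hpt' hqt' hvv' hvc hv'c
      obtain ⟨g, hg, hmap⟩ := Cfsg.Agent.Lib.H28.exists_M24_map (n := 5) le_rfl _ _
        (Cfsg.Agent.Lib.H28.tupleOf_injective hx (n := 5) rfl)
        (Cfsg.Agent.Lib.H28.tupleOf_injective hy (n := 5) rfl)
      have e0 : g p = p := hmap 0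
      have e1 : g q = q := hmap 1
      have e2 : g u = v := hmap 2
      have e3 : g u' = v' := hmap 3
      have e4 : g c = c' := hmap 4
      refine ⟨g, hg, e0, e1, ?_, ?_⟩
      · rw [es, Finset.smul_finset_insert, Finset.smul_finset_singleton, Equiv.Perm.smul_def,
          Equiv.Perm.smul_def, e2, e3, ← es', es]
      · rw [et, et', Finset.smul_finset_insert, Finset.smul_finset_singleton, Equiv.Perm.smul_def,
          Equiv.Perm.smul_def, e2, e4]

end Cfsg.Agent.S1638
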