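import Cfsg.Statements.S1639
import Cfsg.Agent.Lib.H28.MaskFamily

set_option autoImplicit false
open scoped Pointwise
open Cfsg

namespace Cfsg.Agent.S1639

/-- The point stabiliser acts on the 1288 dodecads through the point with rank 4 and subdegrees 1, 165, 330, 792, distinguished by intersection 4, 8, 6 with the fixed dodecad. -/
theorem result (x : Cfsg.GolayPt) (d : Finset Cfsg.GolayPt) (hd : d ∈ Cfsg.dodecads) (hx : x ∈ d) : {d' : Finset Cfsg.GolayPt | d' ∈ Cfsg.dodecads ∧ x ∈ d' ∧ (d ∩ d').card = 4}.ncard = 165 ∧ {d' : Finset Cfsg.GolayPt | d' ∈ Cfsg.dodecads ∧ x ∈ d' ∧ (d ∩ d').card = 8}.ncard = 330 ∧ {d' : Finset Cfsg.GolayPt | d' ∈ Cfsg.dodecads ∧ x ∈ d' ∧ (d ∩ d').card = 6}.ncard = 792 ∧ ∀ d' d'' : Finset Cfsg.GolayPt, d' ∈ Cfsg.dodecads → d'' ∈ Cfsg.dodecads → x ∈ d' → x ∈ d'' → (d ∩ d').card = (d ∩ d'').card → ∃ g : Equiv.Perm Cfsg.GolayPt, g ∈ Cfsg.M24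 ∧ g x = x ∧ g • d = d ∧ g • d' = d'' := by
  classical
  obtain ⟨g0, hg0, hgd, hgx⟩ := Cfsg.Agent.Lib.H28.exists_M24_smul_ptsMask_dod0_point hd hx
  have hcount : ∀ k : ℕ, {d' : Finset Cfsg.GolayPt | d' ∈ Cfsg.dodecads ∧ x ∈ d' ∧ (d ∩ d').card = k}.ncard
      = (Cfsg.Agent.Lib.H28.dodMasks.filter (Cfsg.Agent.Lib.H28.dodCls k)).length := by
    intro k
    rw [← Cfsg.Agent.Lib.H28.ncard_dodecad_class hg0 k]
    congr 1
    ext d'
    simp only [Set.mem_ofPred_eq, hgd, hgx]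
  refine ⟨?_, ?_, ?_, ?_⟩
  · rw [hcount]; exact Cfsg.Agent.Lib.H28.dodCls_counts.1
  · rw [hcount]; exact Cfsg.Agent.Lib.H28.dodCls_counts.2.2
  · rw [hcount]; exact Cfsg.Agent.Lib.H28.dodCls_counts.2.1
  · intro d' d'' hd' hd'' hx' hx'' hc
    obtain ⟨g, hg, h1, h2, h3⟩ := Cfsg.Agent.Lib.H28.m11_dodecad_orbits_flag hg0 hd' hd''
      (by rw [hgx]; exact hx') (by rw [hgx]; exact hx'') (by rw [hgd]; exact hc)
    rw [hgx] at h1
    rw [hgd] at h2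
    exact ⟨g, hg, h1, h2, h3⟩

end Cfsg.Agent.S1639
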