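import Cfsg.Statements.S1666
import Cfsg.Agent.S0430
import Cfsg.Agent.S1586
import Cfsg.Agent.Lib.H14.HSModel
import Cfsg.Agent.Lib.H27.OutM22
import Cfsg.Agent.Lib.H6.HSRank3

set_option autoImplicit false
open Cfsg

namespace Cfsg.Agent.S1666

open Cfsg.Agent.Lib.H6 Cfsg.Agent.Lib.H6.Rank3Srg Cfsg.Agent.Lib.H14.Srg Cfsg.Agent.Lib.H14

/-- a graph with parameters `(100, 22, 0, 6)` has 88704000 automorphisms -/
theorem card_aut {V : Type*} [Fintype V] (M : SimpleGraph V) (hM : SRGProp M 100 22 0 6) :
    Nat.card (M ≃g M) = 88704000 := by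
  classical
  haveI : Fintype ↥HSModel.B0 := Fintype.ofFinite _
  obtain ⟨ψ⟩ := Cfsg.Agent.S0430.result (isSRGWith_of_prop M hM)
    (isSRGWith_of_prop (pointBlockGraph HSModel.B0) HSModel.srg100)
  rw [← Cfsg.Agent.S1586.result (Fintype.card_fin 22) HSModel.isSteiner_B0]
  exact Nat.card_congr
    { toFun := fun f => ψ.symm.trans (f.trans ψ)
      invFun := fun f => ψ.trans (f.trans ψ.symm)
      left_inv := by
        intro f
        ext v
        simp
      right_inv := by
        intro f
        ext v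
        simp }

/-- Recognition of the Higman–Sims group as a rank 3 permutation group: a transitive permutation group on 100 points in which the stabiliser of a point is isomorphic to the Mathieu group M₂₂ and has two further orbits, of sizes 22 and 77, is isomorphic to the Higman–Sims group. -/
theorem result {Ω : Type*} [Fintype Ω] [DecidableEq Ω] (hΩ : Fintype.card Ω = 100) (G : Subgroup (Equiv.Perm Ω)) [MulAction.IsPretransitive G Ω] (a : Ω)  (e : MulAction.stabilizer G a ≃* Cfsg.Spor.M22) (b c : Ω) (hb : (MulAction.orbit (MulAction.stabilizer G a) b).ncard = 22) (hc : (MulAction.orbit (MulAction.stabilizer G a) c).ncard = 77) : Cfsg.Spor.IsoHS G := by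
  classical
  have h : Hyp ↥G a b c :=
    ⟨fun x y => MulAction.exists_smul_eq ↥G x y, by rw [Nat.card_eq_fintype_card, hΩ], hb, hc⟩
  have hM := h.srg
  have hA := card_aut h.graph hM
  let Φ := Rank3Aut.autHom h.graph h.graph h.graph_smul SimpleGraph.Iso.refl
  have hΦ : Function.Injective Φ := Rank3Aut.autHom_injective _ _ _ _ (by
    intro g hg
    apply Subtype.ext
    ext x
    exact hg x)
  have hcardG : Nat.card ↥G = 44352000 := by
    have h1 := (MulAction.stabilizer ↥G a).card_mul_index
    rw [MulAction.index_stabilizer_of_transitive, Nat.card_congr e.toEquiv,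
      (Cfsg.Agent.Lib.H27.OutM.closure22).2, Nat.card_eq_fintype_card, hΩ] at h1
    omega
  obtain ⟨H2, hc2, hs2, ⟨e2⟩⟩ := HSRank3.exists_sub h.graph hM
    (fun 𝒢 h𝒢 => Cfsg.Agent.S0430.result (isSRGWith_of_prop 𝒢 h𝒢) (isSRGWith_of_prop h.graph hM))
  have e1 : ↥G ≃* ↥Φ.range := MonoidHom.ofInjective hΦ
  haveI : Finite (h.graph ≃g h.graph) := Nat.finite_of_card_ne_zero (by rw [hA]; norm_num)
  have heq : Φ.range = H2 := Rank3Aut.eq_of_half Φ.range H2 44352000 (by rw [hA])
    (by rw [← Nat.card_congr e1.toEquiv, hcardG]) hc2 hs2 (by norm_num)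
  exact ⟨e1.trans ((MulEquiv.subgroupCongr heq).trans e2)⟩

end Cfsg.Agent.S1666
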