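import Cfsg.Statements.S1717
import Cfsg.Agent.Lib.H5.SylowIn
import Cfsg.Agent.Lib.H2.NormGrow
-- import your own Cfsg.Agent.* helpers here

set_option autoImplicit false
open Cfsg

namespace Cfsg.Agent.S1717

abbrev M5 := Matrix (Fin 5) (Fin 5) (ZMod 2)
abbrev SL5 := Matrix.SpecialLinearGroup (Fin 5) (ZMod 2)

theorem entries_of_commute_single {n R : Type*} [Fintype n] [DecidableEq n] [CommRing R]
    (a b : n) (d : Matrix n n R)
    (h : d * Matrix.single a b 1 = Matrix.single a b 1 * d) :
    (∀ i, i ≠ a → d i a = 0) ∧ (∀ j, j ≠ b → d b j = 0) ∧ d a a = d b b := by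
  refine ⟨fun i hi => ?_, fun j hj => ?_, ?_⟩
  · have := congrFun (congrFun h i) b
    rw [Matrix.mul_single_apply_same, Matrix.single_mul_apply_of_ne _ _ _ _ _ hi, mul_one] at this
    exact this
  · have := congrFun (congrFun h a) j
    rw [Matrix.mul_single_apply_of_ne _ _ _ _ _ hj, Matrix.single_mul_apply_same, one_mul] at this
    exact this.symm
  · have := congrFun (congrFun h a) b
    rw [Matrix.mul_single_apply_same, Matrix.single_mul_apply_same, mul_one, one_mul] at this
    exact this

theorem commute_single_of_commute_transvection {n R : Type*} [Fintype n] [DecidableEq n]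
    [CommRing R] (a b : n) (d : Matrix n n R)
    (h : d * Matrix.transvection a b 1 = Matrix.transvection a b 1 * d) :
    d * Matrix.single a b 1 = Matrix.single a b 1 * d := by
  unfold Matrix.transvection at h
  rw [mul_add, add_mul, mul_one, one_mul] at h
  exact add_left_cancel h

theorem zmod2_cases (x : ZMod 2) : x = 0 ∨ x = 1 := by
  revert x; decide

/-- An invertible matrix whose `a`-th column is `d a a • e_a` has `d a a ≠ 0`. -/
theorem diag_ne_zero_of_col {n R : Type*} [Fintype n] [DecidableEq n] [CommRing R] [Nontrivial R]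
    (a : n) (d : Matrix n n R) (hdet : d.det = 1) (hcol : ∀ i, i ≠ a → d i a = 0) :
    d a a ≠ 0 := by
  intro h0
  have : d.det = 0 := by
    apply Matrix.det_eq_zero_of_column_eq_zero a
    intro i
    by_cases hi : i = a
    · rw [hi]; exact h0
    · exact hcol i hi
  rw [hdet] at this
  exact one_ne_zero this

/-- the index embedding `{0,1,2} → {2,3,4}` -/
def f3 : Fin 3 → Fin 5 := ![2, 3, 4]

theorem f3_injective : Function.Injective f3 := by decide

theorem f3_ne_zero (i : Fin 3) : f3 i ≠ 0 := by revert i; decide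
theorem f3_ne_one (i : Fin 3) : f3 i ≠ 1 := by revert i; decide

theorem submatrix_mul_of_shape (d d' : M5) (h : ∀ i, i ≠ 0 → d i 0 = 0)
    (h' : ∀ j, j ≠ 1 → d' 1 j = 0) :
    (d * d').submatrix f3 f3 = d.submatrix f3 f3 * d'.submatrix f3 f3 := by
  ext i j
  simp only [Matrix.submatrix_apply, Matrix.mul_apply, Fin.sum_univ_five, Fin.sum_univ_three]
  rw [h _ (f3_ne_zero i), h' _ (f3_ne_one j)]
  simp [f3]

/-- Shape of the matrices commuting with the transvection. -/
theorem shape (s : SL5) (hs : (s : M5) = Matrix.transvection 0 1 1) (d : SL5)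
    (hd : d * s = s * d) :
    (∀ i, i ≠ 0 → (d : M5) i 0 = 0) ∧ (∀ j, j ≠ 1 → (d : M5) 1 j = 0) ∧
      (d : M5) 0 0 = 1 ∧ (d : M5) 1 1 = 1 := by
  have hm : (d : M5) * (s : M5) = (s : M5) * (d : M5) := by
    have := congrArg Subtype.val hd
    simpa using this
  rw [hs] at hm
  obtain ⟨h1, h2, h3⟩ := entries_of_commute_single 0 1 _
    (commute_single_of_commute_transvection 0 1 _ hm)
  have h4 : (d : M5) 0 0 ≠ 0 := diag_ne_zero_of_col 0 _ d.2 h1
  have h5 : (d : M5) 0 0 = 1 := by
    rcases zmod2_cases ((d : M5) 0 0) with h | h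
    · exact absurd h h4
    · exact h
  exact ⟨h1, h2, h5, by rw [← h3]; exact h5⟩

theorem explicit_form (q : M5) (h1 : ∀ i, i ≠ 0 → q i 0 = 0) (h2 : ∀ j, j ≠ 1 → q 1 j = 0)
    (h00 : q 0 0 = 1) (h11 : q 1 1 = 1) (hb : q.submatrix f3 f3 = 1) :
    q = !![1, q 0 1, q 0 2, q 0 3, q 0 4; 0, 1, 0, 0, 0; 0, q 2 1, 1, 0, 0; 0, q 3 1, 0, 1, 0;
      0, q 4 1, 0, 0, 1] := by
  have hb' : ∀ i j : Fin 3, q (f3 i) (f3 j) = (1 : Matrix (Fin 3) (Fin 3) (ZMod 2)) i j :=
    fun i j => by rw [← hb]; rfl
  have e22 : q 2 2 = 1 := by simpa [f3] using hb' 0 0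
  have e23 : q 2 3 = 0 := by simpa [f3] using hb' 0 1
  have e24 : q 2 4 = 0 := by simpa [f3] using hb' 0 2
  have e32 : q 3 2 = 0 := by simpa [f3] using hb' 1 0
  have e33 : q 3 3 = 1 := by simpa [f3] using hb' 1 1
  have e34 : q 3 4 = 0 := by simpa [f3] using hb' 1 2
  have e42 : q 4 2 = 0 := by simpa [f3] using hb' 2 0
  have e43 : q 4 3 = 0 := by simpa [f3] using hb' 2 1
  have e44 : q 4 4 = 1 := by simpa [f3] using hb' 2 2
  have c1 : q 1 0 = 0 := h1 1 (by decide)
  have c2 : q 2 0 = 0 := h1 2 (by decide)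
  have c3 : q 3 0 = 0 := h1 3 (by decide)
  have c4 : q 4 0 = 0 := h1 4 (by decide)
  have r2 : q 1 2 = 0 := h2 2 (by decide)
  have r3 : q 1 3 = 0 := h2 3 (by decide)
  have r4 : q 1 4 = 0 := h2 4 (by decide)
  ext i j
  fin_cases i <;> fin_cases j <;> simp [*]

theorem pow_four_explicit : ∀ a1 a2 a3 a4 b2 b3 b4 : ZMod 2,
    (!![1, a1, a2, a3, a4; 0, 1, 0, 0, 0; 0, b2, 1, 0, 0; 0, b3, 0, 1, 0; 0, b4, 0, 0, 1] :
      Matrix (Fin 5) (Fin 5) (ZMod 2)) ^ 4 = 1 := by
  decide +kernel

/-- The block homomorphism on the centralizer of the transvection. -/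
def blockHom (s : SL5) (hs : (s : M5) = Matrix.transvection 0 1 1) :
    Subgroup.centralizer ({s} : Set SL5) →* Matrix (Fin 3) (Fin 3) (ZMod 2) where
  toFun d := ((d : SL5) : M5).submatrix f3 f3
  map_one' := by
    show ((1 : SL5) : M5).submatrix f3 f3 = 1
    rw [Matrix.SpecialLinearGroup.coe_one, Matrix.submatrix_one _ f3_injective]
  map_mul' d d' := by
    show (((d : SL5) * (d' : SL5) : SL5) : M5).submatrix f3 f3 = _
    rw [Matrix.SpecialLinearGroup.coe_mul]
    exact submatrix_mul_of_shape _ _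
      (shape s hs d (Subgroup.mem_centralizer_singleton_iff.mp d.2)).1
      (shape s hs d' (Subgroup.mem_centralizer_singleton_iff.mp d'.2)).2.1

theorem blockHom_ker_isPGroup (s : SL5) (hs : (s : M5) = Matrix.transvection 0 1 1) :
    IsPGroup 2 (blockHom s hs).ker := by
  intro q
  refine ⟨2, ?_⟩
  have hq : (((q : Subgroup.centralizer ({s} : Set SL5)) : SL5) : M5).submatrix f3 f3 = 1 := q.2
  obtain ⟨h1, h2, h00, h11⟩ :=
    shape s hs (q : Subgroup.centralizer ({s} : Set SL5))
      (Subgroup.mem_centralizer_singleton_iff.mp (q : Subgroup.centralizer ({s} : Set SL5)).2)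
  have hform := explicit_form _ h1 h2 h00 h11 hq
  apply Subtype.ext
  apply Subtype.ext
  apply Subtype.ext
  show ((((q : Subgroup.centralizer ({s} : Set SL5)) : SL5) ^ 2 ^ 2 : SL5) : M5) = ((1 : SL5) : M5)
  rw [Matrix.SpecialLinearGroup.coe_pow, Matrix.SpecialLinearGroup.coe_one, hform]
  exact pow_four_explicit _ _ _ _ _ _ _

/-- The transvection `1 + E_{ab}` as an element of `SL₅(2)`. -/
def tv (a b : Fin 5) (hab : a ≠ b) : SL5 :=
  ⟨Matrix.transvection a b 1, Matrix.det_transvection_of_ne a b hab 1⟩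

theorem tv_comm (s : SL5) (hs : (s : M5) = Matrix.transvection 0 1 1) (a b : Fin 5) (hab : a ≠ b)
    (ha : a ≠ 1) (hb : b ≠ 0) : tv a b hab * s = s * tv a b hab := by
  apply Subtype.ext
  show Matrix.transvection a b 1 * (s : M5) = (s : M5) * Matrix.transvection a b 1
  rw [hs]
  unfold Matrix.transvection
  have e1 : Matrix.single a b (1 : ZMod 2) * Matrix.single (0 : Fin 5) (1 : Fin 5) (1 : ZMod 2) = 0 :=
    Matrix.single_mul_single_of_ne _ _ _ _ hb _
  have e2 : Matrix.single (0 : Fin 5) (1 : Fin 5) (1 : ZMod 2) * Matrix.single a b (1 : ZMod 2) = 0 :=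
    Matrix.single_mul_single_of_ne _ _ _ _ ha.symm _
  simp only [mul_add, add_mul, mul_one, one_mul, e1, e2]
  abel

theorem tv_block (a b : Fin 5) (hab : a ≠ b) (h : a = 0 ∨ b = 1) :
    (Matrix.transvection a b (1 : ZMod 2)).submatrix f3 f3 = 1 := by
  revert a b
  decide +kernel

/-- The transvection as an element of the kernel of the block homomorphism. -/
def tvQ (s : SL5) (hs : (s : M5) = Matrix.transvection 0 1 1) (a b : Fin 5) (hab : a ≠ b)
    (ha : a ≠ 1) (hb : b ≠ 0) (h : a = 0 ∨ b = 1) : (blockHom s hs).ker :=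
  ⟨⟨tv a b hab, Subgroup.mem_centralizer_singleton_iff.mpr (tv_comm s hs a b hab ha hb)⟩,
    tv_block a b hab h⟩

theorem centralizer_ker (s : SL5) (hs : (s : M5) = Matrix.transvection 0 1 1)
    (d : Subgroup.centralizer ({s} : Set SL5))
    (hd : ∀ q ∈ (blockHom s hs).ker, d * q = q * d) :
    d = 1 ∨ (d : SL5) = s := by
  -- entries from commuting with the transvections
  have key : ∀ (a b : Fin 5) (hab : a ≠ b) (ha : a ≠ 1) (hb : b ≠ 0) (h : a = 0 ∨ b = 1),
      (∀ i, i ≠ a → ((d : SL5) : M5) i a = 0) ∧ (∀ j, j ≠ b → ((d : SL5) : M5) b j = 0) ∧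
        ((d : SL5) : M5) a a = ((d : SL5) : M5) b b := by
    intro a b hab ha hb h
    have h1 := hd (tvQ s hs a b hab ha hb h) (tvQ s hs a b hab ha hb h).2
    have h2 : ((d : SL5) : M5) * Matrix.transvection a b 1 =
        Matrix.transvection a b 1 * ((d : SL5) : M5) := by
      have := congrArg (fun x : Subgroup.centralizer ({s} : Set SL5) => ((x : SL5) : M5)) h1
      exact this
    exact entries_of_commute_single a b _ (commute_single_of_commute_transvection a b _ h2)
  obtain ⟨h1, h2, h00, h11⟩ := shape s hs d (Subgroup.mem_centralizer_singleton_iff.mp d.2)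
  have k02 := key 0 2 (by decide) (by decide) (by decide) (Or.inl rfl)
  have k03 := key 0 3 (by decide) (by decide) (by decide) (Or.inl rfl)
  have k04 := key 0 4 (by decide) (by decide) (by decide) (Or.inl rfl)
  have k21 := key 2 1 (by decide) (by decide) (by decide) (Or.inr rfl)
  have k31 := key 3 1 (by decide) (by decide) (by decide) (Or.inr rfl)
  have k41 := key 4 1 (by decide) (by decide) (by decide) (Or.inr rfl)
  have hform : ((d : SL5) : M5) = !![1, ((d : SL5) : M5) 0 1, 0, 0, 0; 0, 1, 0, 0, 0; 0, 0, 1, 0, 0;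
      0, 0, 0, 1, 0; 0, 0, 0, 0, 1] := by
    ext i j
    fin_cases i <;> fin_cases j
    · simpa using h00
    · simp
    · simpa using k21.1 0 (by decide)
    · simpa using k31.1 0 (by decide)
    · simpa using k41.1 0 (by decide)
    · simpa using h1 1 (by decide)
    · simpa using h11
    · simpa using h2 2 (by decide)
    · simpa using h2 3 (by decide)
    · simpa using h2 4 (by decide)
    · simpa using h1 2 (by decide)
    · simpa using k02.2.1 1 (by decide)
    · simpa using k02.2.2.symm.trans h00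
    · simpa using k02.2.1 3 (by decide)
    · simpa using k02.2.1 4 (by decide)
    · simpa using h1 3 (by decide)
    · simpa using k03.2.1 1 (by decide)
    · simpa using k03.2.1 2 (by decide)
    · simpa using k03.2.2.symm.trans h00
    · simpa using k03.2.1 4 (by decide)
    · simpa using h1 4 (by decide)
    · simpa using k04.2.1 1 (by decide)
    · simpa using k04.2.1 2 (by decide)
    · simpa using k04.2.1 3 (by decide)
    · simpa using k04.2.2.symm.trans h00
  rcases zmod2_cases (((d : SL5) : M5) 0 1) with h01 | h01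
  · left
    apply Subtype.ext
    apply Subtype.ext
    show ((d : SL5) : M5) = ((1 : SL5) : M5)
    rw [hform, h01, Matrix.SpecialLinearGroup.coe_one]
    decide +kernel
  · right
    apply Subtype.ext
    rw [hform, h01, hs]
    decide +kernel

theorem odd_index_of_center {G : Type*} [Group G] [Finite G] (z : G) (hz1 : z ≠ 1)
    (P : Subgroup G)
    (hP : Cfsg.Agent.Lib.H5.IsSylowIn 2 P (Subgroup.centralizer ({z} : Set G)))
    (hzP : z ∈ P) (hcen : ∀ t ∈ P, (∀ t' ∈ P, t * t' = t' * t) → t = 1 ∨ t = z) :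
    ¬ 2 ∣ P.index := by
  have : Fact (Nat.Prime 2) := ⟨Nat.prime_two⟩
  obtain ⟨hPC, hP2, hPmax⟩ := hP
  obtain ⟨S, hPS⟩ := hP2.exists_le_sylow
  have hzc : ∀ t ∈ P, t * z = z * t := fun t ht =>
    Subgroup.mem_centralizer_singleton_iff.mp (hPC ht)
  have hSC : (S : Subgroup G) ⊓ Subgroup.centralizer ({z} : Set G) = P :=
    hPmax _ (S.2.to_le inf_le_left) (le_inf hPS hPC) inf_le_right
  have hPeq : P = S := by
    apply Cfsg.Agent.Lib.H2.eq_of_inf_normalizer_le S.2 hPS
    intro g hg
    obtain ⟨hgS, hgN⟩ := Subgroup.mem_inf.mp hg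
    rw [← hSC]
    refine Subgroup.mem_inf.mpr ⟨hgS, ?_⟩
    rw [Subgroup.mem_normalizer_iff] at hgN
    -- g z g⁻¹ is central in P
    have h1 : g * z * g⁻¹ ∈ P := (hgN z).mp hzP
    have h2 : ∀ t' ∈ P, (g * z * g⁻¹) * t' = t' * (g * z * g⁻¹) := by
      intro t' ht'
      have h3 : g⁻¹ * t' * g ∈ P := by
        rw [hgN]
        have : g * (g⁻¹ * t' * g) * g⁻¹ = t' := by group
        rw [this]; exact ht'
      have h4 := hzc _ h3
      calc g * z * g⁻¹ * t' = g * (z * (g⁻¹ * t' * g)) * g⁻¹ := by group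
        _ = g * ((g⁻¹ * t' * g) * z) * g⁻¹ := by rw [h4]
        _ = t' * (g * z * g⁻¹) := by group
    rcases hcen _ h1 h2 with h5 | h5
    · exfalso
      apply hz1
      have : z = g⁻¹ * (g * z * g⁻¹) * g := by group
      rw [this, h5]; group
    · rw [Subgroup.mem_centralizer_singleton_iff]
      calc g * z = (g * z * g⁻¹) * g := by group
        _ = z * g := by rw [h5]
  rw [hPeq]
  exact S.not_dvd_index



/-- Let G be a finite group with an involution z whose centraliser C is isomorphic to the centraliser of a transvection of SL(5, 2). Then a Sylow 2-subgroup of C, viewed in G, is a Sylow 2-subgroup of G (its index in G is odd). -/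
theorem result {G : Type*} [Group G] [Finite G] (s : Matrix.SpecialLinearGroup (Fin 5) (ZMod 2)) (hs : (s : Matrix (Fin 5) (Fin 5) (ZMod 2)) = Matrix.transvection 0 1 1) (z : G) (hz : orderOf z = 2) (e : (Subgroup.centralizer ({z} : Set G)) ≃* Subgroup.centralizer ({s} : Set (Matrix.SpecialLinearGroup (Fin 5) (ZMod 2)))) (T : Sylow 2 (Subgroup.centralizer ({z} : Set G))) : ¬ 2 ∣ ((T : Subgroup (Subgroup.centralizer ({z} : Set G))).map (Subgroup.subtype (Subgroup.centralizer ({z} : Set G)))).index := by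
  have : Fact (Nat.Prime 2) := ⟨Nat.prime_two⟩
  have hz1 : z ≠ 1 := by rintro rfl; simp at hz
  obtain ⟨z', hz'⟩ : ∃ z' : Subgroup.centralizer ({z} : Set G), (z' : G) = z :=
    ⟨⟨z, Subgroup.mem_centralizer_singleton_iff.mpr rfl⟩, rfl⟩
  have hz'c : ∀ c : Subgroup.centralizer ({z} : Set G), c * z' = z' * c := fun c =>
    Subtype.ext (by
      have := Subgroup.mem_centralizer_singleton_iff.mp c.2
      simpa [hz'] using this)
  have hz'1 : z' ≠ 1 := by
    intro h; apply hz1; rw [← hz', h]; rfl
  have hz'o : orderOf z' = 2 := by rw [← Subgroup.orderOf_coe, hz', hz]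
  -- the normal 2-subgroup
  have hQC2 : IsPGroup 2 ((blockHom s hs).ker.comap e.toMonoidHom) :=
    (blockHom_ker_isPGroup s hs).comap_of_injective e.toMonoidHom e.injective
  have hQCT : (blockHom s hs).ker.comap e.toMonoidHom ≤ T := hQC2.le_sylow_of_normal T
  have hzT : z' ∈ (T : Subgroup (Subgroup.centralizer ({z} : Set G))) := by
    have hn : (Subgroup.zpowers z').Normal := by
      constructor
      intro n hn g
      obtain ⟨k, rfl⟩ := Subgroup.mem_zpowers_iff.mp hn
      have hc : Commute g (z' ^ k) := Commute.zpow_right (hz'c g) k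
      have : g * z' ^ k * g⁻¹ = z' ^ k := by rw [hc.eq, mul_inv_cancel_right]
      rw [this]; exact hn
    have h2 : IsPGroup 2 (Subgroup.zpowers z') :=
      IsPGroup.of_card (n := 1) (by rw [Nat.card_zpowers, hz'o, pow_one])
    exact (h2.le_sylow_of_normal T) (Subgroup.mem_zpowers z')
  -- elements commuting with the normal 2-subgroup
  have key0 : ∀ c : Subgroup.centralizer ({z} : Set G),
      (∀ t' ∈ (blockHom s hs).ker.comap e.toMonoidHom, c * t' = t' * c) →
      e c = 1 ∨ ((e c : Subgroup.centralizer ({s} : Set (Matrix.SpecialLinearGroup (Fin 5) (ZMod 2)))) :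
        Matrix.SpecialLinearGroup (Fin 5) (ZMod 2)) = s := by
    intro c hc
    apply centralizer_ker s hs
    intro q hq
    have h1 : e.symm q ∈ (blockHom s hs).ker.comap e.toMonoidHom := by
      rw [Subgroup.mem_comap]
      simpa using hq
    have h2 := congrArg e (hc _ h1)
    simpa using h2
  have hez : ((e z' : Subgroup.centralizer ({s} : Set (Matrix.SpecialLinearGroup (Fin 5) (ZMod 2)))) :
      Matrix.SpecialLinearGroup (Fin 5) (ZMod 2)) = s := by
    rcases key0 z' (fun t' _ => (hz'c t').symm) with h | h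
    · exact absurd ((map_eq_one_iff e e.injective).mp h) hz'1
    · exact h
  have key : ∀ c : Subgroup.centralizer ({z} : Set G),
      (∀ t' ∈ (T : Subgroup (Subgroup.centralizer ({z} : Set G))), c * t' = t' * c) →
      c = 1 ∨ c = z' := by
    intro c hc
    rcases key0 c (fun t' ht' => hc t' (hQCT ht')) with h | h
    · left; exact (map_eq_one_iff e e.injective).mp h
    · right
      apply e.injective
      apply Subtype.ext
      rw [h, hez]
  apply odd_index_of_center z hz1 _ (Cfsg.Agent.Lib.H5.isSylowIn_of_sylow T)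
  · exact ⟨z', hzT, hz'⟩
  · rintro _ ⟨t, ht, rfl⟩ hcomm
    have h1 : t = 1 ∨ t = z' := by
      apply key t
      intro t' ht'
      apply Subtype.ext
      have := hcomm _ ⟨t', ht', rfl⟩
      simpa using this
    rcases h1 with h | h
    · left; rw [h]; rfl
    · right; rw [h]; exact hz'


end Cfsg.Agent.S1717
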