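import Cfsg.Statements.S1753
-- import your own Cfsg.Agent.* helpers here

set_option autoImplicit false
universe u
open Cfsg

namespace Cfsg.Agent.S1753

/-- Let K be any property of groups. (1) If G is a minimal counterexample relative to K — a finite non-abelian simple group not satisfying K such that every finite non-abelian simple group of smaller order satisfies K — then every proper subgroup of G is a K-group (all its non-abelian simple sections satisfy K), since such sections have smaller order than G. (2) Consequently (induction on the order), if every finite non-abelian simple group all of whose proper subgroups are K-groups satisfies K, then every finite non-abelian simple group satisfies K. -/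
theorem result (K : ∀ (X : Type u) [Group X], Prop) :
    (∀ (G : Type u) [Group G], Cfsg.IsMinCounterexampleWith K G → Cfsg.IsKProperWith K G) ∧
      ((∀ (X : Type u) [Group X] [Finite X], IsSimpleGroup X → ¬ IsMulCommutative X → Cfsg.IsKProperWith K X → K X) →
        ∀ (G : Type u) [Group G] [Finite G], IsSimpleGroup G → ¬ IsMulCommutative G → K G) := by
  have key : ∀ (G : Type u) [Group G] [Finite G] (H : Subgroup G), H ≠ ⊤ →
      ∀ (L : Subgroup H) (N : Subgroup L) [N.Normal], Nat.card (L ⧸ N) < Nat.card G := by
    intro G _ _ H hH L N _
    have h1 : Nat.card (L ⧸ N) ≤ Nat.card L :=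
      Nat.le_of_dvd Nat.card_pos (Subgroup.card_quotient_dvd_card N)
    have h2 : Nat.card L ≤ Nat.card H := Subgroup.card_le_card_group L
    have h3 : Nat.card H < Nat.card G := by
      refine lt_of_le_of_ne (Subgroup.card_le_card_group H) ?_
      intro h
      exact hH (Subgroup.eq_top_of_card_eq H h)
    omega
  refine ⟨?_, ?_⟩
  · intro G _ hmin H hH L N _ hs hna
    obtain ⟨hfin, _, _, _, hsmall⟩ := hmin
    exact hsmall (L ⧸ N) hs hna (key G H hH L N)
  · intro hstep
    have main : ∀ n : ℕ, ∀ (G : Type u) [Group G] [Finite G], Nat.card G = n →
        IsSimpleGroup G → ¬ IsMulCommutative G → K G := by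
      intro n
      induction n using Nat.strong_induction_on with
      | _ n ih =>
        intro G _ _ hn hs hna
        apply hstep G hs hna
        intro H hH L N _ hs' hna'
        have hlt := key G H hH L N
        exact ih (Nat.card (L ⧸ N)) (hn ▸ hlt) (L ⧸ N) rfl hs' hna'
    intro G _ _ hs hna
    exact main (Nat.card G) G rfl hs hna

end Cfsg.Agent.S1753
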