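import Cfsg.Statements.S1755
import Cfsg.Agent.Lib.H9.Basic
-- import your own Cfsg.Agent.* helpers here

set_option autoImplicit false
open Cfsg

namespace Cfsg.Agent.S1755

open Cfsg.Agent.Lib.H9 in
/-- In a finite 2-group of symplectic type, an involution of a characteristic abelian subgroup equals any
given central involution. -/
theorem involution_unique {Q : Type*} [Group Q] [Finite Q] (hQ : Cfsg.IsOfSymplecticType Q)
    (B : Subgroup Q) (hBc : B.Characteristic) (hBa : IsMulCommutative ↥B)
    (u : Q) (hu : u ∈ Subgroup.center Q) (hu2 : orderOf u = 2)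
    (b : Q) (hb : b ∈ B) (hb2 : orderOf b = 2) : b = u := by
  have hBcyc : IsCyclic B := hQ.2 B hBc hBa
  have hBn : B.Normal := inferInstance
  -- b is central
  have hbc : b ∈ Subgroup.center Q := by
    rw [Subgroup.mem_center_iff]
    intro q
    have h1 : q * b * q⁻¹ ∈ B := hBn.conj_mem b hb q
    have h2 : orderOf (⟨q * b * q⁻¹, h1⟩ : B) = 2 := by
      rw [Subgroup.orderOf_mk]
      apply orderOf_eq_prime
      · rw [conj_pow, ← hb2, pow_orderOf_eq_one]; group
      · intro h
        have : b = 1 := by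
          have e : b = q⁻¹ * (q * b * q⁻¹) * q := by group
          rw [e, h]; group
        rw [this] at hb2; simp at hb2
    have h3 : orderOf (⟨b, hb⟩ : B) = 2 := by rw [Subgroup.orderOf_mk]; exact hb2
    have := eq_of_orderOf_two_of_isCyclic h2 h3
    have h4 : q * b * q⁻¹ = b := congrArg Subtype.val this
    calc q * b = (q * b * q⁻¹) * q := by group
      _ = b * q := by rw [h4]
  have hZcyc : IsCyclic (Subgroup.center Q) :=
    hQ.2 (Subgroup.center Q) inferInstance inferInstance
  have h5 : orderOf (⟨b, hbc⟩ : Subgroup.center Q) = 2 := by rw [Subgroup.orderOf_mk]; exact hb2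
  have h6 : orderOf (⟨u, hu⟩ : Subgroup.center Q) = 2 := by rw [Subgroup.orderOf_mk]; exact hu2
  exact congrArg Subtype.val (eq_of_orderOf_two_of_isCyclic h5 h6)

/-- The abstract form of the statement: `C` is the centralizer of the involution `z`, `Q` a normal
subgroup of `C` of symplectic type containing `z`, `B` a characteristic abelian subgroup of `Q`. -/
theorem ti_aux {G : Type*} [Group G] [Finite G] (z : G) (hz : orderOf z = 2) (C : Subgroup G)
    (hC : ∀ g : G, g ∈ C ↔ g * z = z * g) (Q : Subgroup C) [hQn : Q.Normal]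
    (hzQ : ∃ h : z ∈ C, (⟨z, h⟩ : C) ∈ Q) (hQ : Cfsg.IsOfSymplecticType ↥Q)
    (B : Subgroup ↥Q) (hBc : B.Characteristic) (hBa : IsMulCommutative ↥B) (g : G) :
    ((B.map Q.subtype).map C.subtype).map (MulAut.conj g).toMonoidHom = (B.map Q.subtype).map C.subtype ∨
    ((B.map Q.subtype).map C.subtype).map (MulAut.conj g).toMonoidHom ⊓ (B.map Q.subtype).map C.subtype = ⊥ := by
  classical
  obtain ⟨hzC, hzQ⟩ := hzQ
  have hzQc : (⟨⟨z, hzC⟩, hzQ⟩ : Q) ∈ Subgroup.center Q := by
    rw [Subgroup.mem_center_iff]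
    intro q
    apply Subtype.ext
    apply Subtype.ext
    exact (hC _).mp q.1.2
  have hzQ2 : orderOf (⟨⟨z, hzC⟩, hzQ⟩ : Q) = 2 := by
    rw [Subgroup.orderOf_mk, Subgroup.orderOf_mk]; exact hz
  -- every involution of BG is z
  have huniq : ∀ x ∈ (B.map Q.subtype).map C.subtype, orderOf x = 2 → x = z := by
    rintro _ ⟨_, ⟨b, hb, rfl⟩, rfl⟩ hx
    have hb2 : orderOf b = 2 := by
      rw [← hx]
      simp only [Subgroup.subtype_apply, Subgroup.orderOf_coe]
    have := involution_unique hQ B hBc hBa _ hzQc hzQ2 b hb hb2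
    rw [this]
    rfl
  -- elements of BG have 2-power order
  have hpow : ∀ x ∈ (B.map Q.subtype).map C.subtype, ∃ m, orderOf x = 2 ^ m := by
    rintro _ ⟨_, ⟨b, hb, rfl⟩, rfl⟩
    obtain ⟨m, hm⟩ := (IsPGroup.iff_orderOf.mp hQ.1) b
    refine ⟨m, ?_⟩
    rw [← hm]
    simp only [Subgroup.subtype_apply, Subgroup.orderOf_coe]
  by_cases hbot : ((B.map Q.subtype).map C.subtype).map (MulAut.conj g).toMonoidHom ⊓
      (B.map Q.subtype).map C.subtype = ⊥
  · right; exact hbot
  left
  obtain ⟨x, hx1⟩ := (Subgroup.ne_bot_iff_exists_ne_one).mp hbot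
  obtain ⟨hxg, hxB⟩ := x.2
  have hx1' : (x : G) ≠ 1 := fun h => hx1 (Subtype.ext h)
  obtain ⟨m, hm⟩ := hpow x hxB
  obtain ⟨n, hn⟩ := Cfsg.Agent.Lib.H9.exists_pow_orderOf_two hx1' hm
  have hy1 : (x : G) ^ n = z := huniq _ (Subgroup.pow_mem _ hxB n) hn
  obtain ⟨w, hw, hwx⟩ := hxg
  have hwn : (MulAut.conj g) (w ^ n) = z := by
    have : (MulAut.conj g) w = x := hwx
    rw [map_pow, this, hy1]
  have hwn2 : orderOf (w ^ n) = 2 := by
    apply orderOf_eq_prime
    · apply (MulAut.conj g).injective
      rw [map_pow, hwn, ← hz, pow_orderOf_eq_one, map_one]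
    · intro h
      rw [h, map_one] at hwn
      rw [← hwn] at hz; simp at hz
  have hwz : w ^ n = z := huniq _ (Subgroup.pow_mem _ hw n) hwn2
  rw [hwz] at hwn
  have hgz : g * z * g⁻¹ = z := by simpa using hwn
  have hgC : g ∈ C := by
    rw [hC]
    calc g * z = (g * z * g⁻¹) * g := by group
      _ = z * g := by rw [hgz]
  -- conjugation by g induces an automorphism of Q preserving B
  have hB' := (Subgroup.characteristic_iff_map_eq.mp hBc) (MulAut.conjNormal (⟨g, hgC⟩ : C))
  have hφ : ∀ q : Q, (((MulAut.conjNormal (⟨g, hgC⟩ : C)) q : Q) : G) = g * ((q : C) : G) * g⁻¹ := by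
    intro q
    simp [MulAut.conjNormal_apply]
  ext x
  constructor
  · rintro ⟨_, ⟨_, ⟨b, hb, rfl⟩, rfl⟩, rfl⟩
    have hb' : (MulAut.conjNormal (⟨g, hgC⟩ : C)) b ∈ B := by
      rw [← hB']; exact ⟨b, hb, rfl⟩
    refine ⟨_, ⟨_, hb', rfl⟩, ?_⟩
    simp only [Subgroup.subtype_apply, MulEquiv.coe_toMonoidHom, MulAut.conj_apply]
    exact hφ b
  · rintro ⟨_, ⟨b, hb, rfl⟩, rfl⟩
    rw [← hB'] at hb
    obtain ⟨b0, hb0, rfl⟩ := hb
    refine ⟨_, ⟨_, ⟨b0, hb0, rfl⟩, rfl⟩, ?_⟩
    simp only [Subgroup.subtype_apply, MulEquiv.coe_toMonoidHom, MulAut.conj_apply]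
    exact (hφ b0).symm


/-- Let G be a finite group and let z be an involution of G such that Q, the generalized Fitting subgroup of the centralizer C of z, is a 2-group of symplectic type (every characteristic abelian subgroup of Q is cyclic). Let B be a characteristic abelian subgroup of Q, viewed as a subgroup of G. Then for every g in G, the conjugate of B by g either equals B or meets B trivially. -/
theorem result {G : Type*} [Group G] [Finite G] (z : G) (hz : orderOf z = 2) (hQ : Cfsg.IsOfSymplecticType ↥(Cfsg.generalizedFittingSubgroup ↥(Subgroup.centralizer ({z} : Set G))))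
    (B : Subgroup ↥(Cfsg.generalizedFittingSubgroup ↥(Subgroup.centralizer ({z} : Set G)))) (hBc : B.Characteristic) (hBa : IsMulCommutative ↥B) (g : G) :
    ((B.map (Cfsg.generalizedFittingSubgroup ↥(Subgroup.centralizer ({z} : Set G))).subtype).map (Subgroup.centralizer ({z} : Set G)).subtype).map (MulAut.conj g).toMonoidHom =
        (B.map (Cfsg.generalizedFittingSubgroup ↥(Subgroup.centralizer ({z} : Set G))).subtype).map (Subgroup.centralizer ({z} : Set G)).subtype ∨
      ((B.map (Cfsg.generalizedFittingSubgroup ↥(Subgroup.centralizer ({z} : Set G))).subtype).map (Subgroup.centralizer ({z} : Set G)).subtype).map (MulAut.conj g).toMonoidHom ⊓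
        (B.map (Cfsg.generalizedFittingSubgroup ↥(Subgroup.centralizer ({z} : Set G))).subtype).map (Subgroup.centralizer ({z} : Set G)).subtype = ⊥ := by
  classical
  have hQn : (Cfsg.generalizedFittingSubgroup ↥(Subgroup.centralizer ({z} : Set G))).Normal :=
    Cfsg.Agent.Lib.H9.generalizedFittingSubgroup_normal _
  have hzC : z ∈ Subgroup.centralizer ({z} : Set G) := Subgroup.mem_centralizer_singleton_iff.mpr rfl
  have hzCc : (⟨z, hzC⟩ : Subgroup.centralizer ({z} : Set G)) ∈
      Subgroup.center (Subgroup.centralizer ({z} : Set G)) := by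
    rw [Subgroup.mem_center_iff]
    intro c
    apply Subtype.ext
    have := Subgroup.mem_centralizer_singleton_iff.mp c.2
    simpa using this
  -- z ∈ Q: zpowers zC is a normal nilpotent subgroup of C
  have hzQ : (⟨z, hzC⟩ : Subgroup.centralizer ({z} : Set G)) ∈
      Cfsg.generalizedFittingSubgroup ↥(Subgroup.centralizer ({z} : Set G)) := by
    have hle : Subgroup.zpowers (⟨z, hzC⟩ : Subgroup.centralizer ({z} : Set G)) ≤
        Subgroup.center (Subgroup.centralizer ({z} : Set G)) := by
      rw [Subgroup.zpowers_le]; exact hzCc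
    have hn : (Subgroup.zpowers (⟨z, hzC⟩ : Subgroup.centralizer ({z} : Set G))).Normal := by
      constructor
      intro n hn c
      have := Subgroup.mem_center_iff.mp (hle hn) c
      have e : c * n * c⁻¹ = n := by rw [this]; group
      rw [e]; exact hn
    have hnil : Group.IsNilpotent (Subgroup.zpowers (⟨z, hzC⟩ : Subgroup.centralizer ({z} : Set G))) := by
      let _ : CommGroup (Subgroup.zpowers (⟨z, hzC⟩ : Subgroup.centralizer ({z} : Set G))) :=
        { (inferInstance : Group (Subgroup.zpowers (⟨z, hzC⟩ : Subgroup.centralizer ({z} : Set G)))) with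
          mul_comm := mul_comm' }
      exact CommGroup.isNilpotent
    have h1 := Cfsg.Agent.Lib.H1.le_fittingSubgroup hn hnil
    exact le_sup_right (a := Cfsg.layer ↥(Subgroup.centralizer ({z} : Set G)))
      (h1 (Subgroup.mem_zpowers _))
  exact ti_aux z hz (Subgroup.centralizer ({z} : Set G))
    (fun g => Subgroup.mem_centralizer_singleton_iff) _ ⟨hzC, hzQ⟩ hQ B hBc hBa g


end Cfsg.Agent.S1755
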