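import Cfsg.Statements.S1757
-- import your own Cfsg.Agent.* helpers here

set_option autoImplicit false
open Cfsg

namespace Cfsg.Agent.S1757

/-- Let p be a prime and A, B p-subgroups of the finite group G, each of which meets every conjugate of itself other than itself trivially. Suppose the order of A is at most that of B, A and B intersect trivially, and B normalizes A. Then A and B commute elementwise. -/
theorem result {G : Type*} [Group G] [Finite G] (p : ℕ) [Fact p.Prime] (A B : Subgroup G)
    (hA : IsPGroup p ↥A) (hB : IsPGroup p ↥B)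
    (hAti : ∀ g : G, A.map (MulAut.conj g).toMonoidHom = A ∨ A.map (MulAut.conj g).toMonoidHom ⊓ A = ⊥)
    (hBti : ∀ g : G, B.map (MulAut.conj g).toMonoidHom = B ∨ B.map (MulAut.conj g).toMonoidHom ⊓ B = ⊥)
    (hle : Nat.card ↥A ≤ Nat.card ↥B) (hAB : A ⊓ B = ⊥) (hN : B ≤ Subgroup.normalizer (A : Set G)) : ⁅A, B⁆ = ⊥ := by
  classical
  rw [Subgroup.commutator_eq_bot_iff_le_centralizer]
  intro a ha
  by_contra hcon
  -- conj by b maps A to A
  have hNA : ∀ b ∈ B, ∀ x ∈ A, b * x * b⁻¹ ∈ A := by
    intro b hb x hx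
    exact (Subgroup.mem_normalizer_iff.mp (hN hb) x).mp hx
  -- key: any b ∈ B commuting with a is 1
  have key : ∀ b ∈ B, a * b = b * a → b = 1 := by
    intro b hb hab
    by_contra hb1
    apply hcon
    -- B^a ∩ B ≠ ⊥
    have hmem : b ∈ B.map (MulAut.conj a).toMonoidHom ⊓ B := by
      refine ⟨⟨b, hb, ?_⟩, hb⟩
      show a * b * a⁻¹ = b
      rw [hab]; group
    have hBa : B.map (MulAut.conj a).toMonoidHom = B := by
      rcases hBti a with h | h
      · exact h
      · exfalso
        rw [h, Subgroup.mem_bot] at hmem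
        exact hb1 hmem
    -- a normalizes B
    rw [Subgroup.mem_centralizer_iff]
    intro b' hb'
    have h1 : a * b' * a⁻¹ ∈ B := by
      rw [← hBa]; exact ⟨b', hb', rfl⟩
    have h2 : a * b' * a⁻¹ * b'⁻¹ ∈ B := B.mul_mem h1 (B.inv_mem hb')
    have h3 : a * b' * a⁻¹ * b'⁻¹ ∈ A := by
      have : a * b' * a⁻¹ * b'⁻¹ = a * (b' * a⁻¹ * b'⁻¹) := by group
      rw [this]
      exact A.mul_mem ha (hNA b' hb' _ (A.inv_mem ha))
    have h4 : a * b' * a⁻¹ * b'⁻¹ ∈ A ⊓ B := ⟨h3, h2⟩
    rw [hAB, Subgroup.mem_bot] at h4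
    have : a * b' = b' * a := by
      calc a * b' = (a * b' * a⁻¹ * b'⁻¹) * (b' * a) := by group
        _ = b' * a := by rw [h4, one_mul]
    exact this.symm
  have ha1 : a ≠ 1 := by
    intro h
    apply hcon
    rw [h]; exact Subgroup.one_mem _
  -- injective map Option B → A
  let φ : Option ↥B → ↥A := fun o =>
    match o with
    | none => 1
    | some b => ⟨b * a * (b : G)⁻¹, hNA b b.2 a ha⟩
  have hφ : Function.Injective φ := by
    intro o1 o2 h
    match o1, o2 with
    | none, none => rfl
    | none, some b =>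
      exfalso
      have := congrArg Subtype.val h
      simp only [φ, Subgroup.coe_one] at this
      apply ha1
      have e : a = (b : G)⁻¹ * (b * a * (b : G)⁻¹) * b := by group
      rw [e, ← this]; group
    | some b, none =>
      exfalso
      have := congrArg Subtype.val h
      simp only [φ, Subgroup.coe_one] at this
      apply ha1
      have e : a = (b : G)⁻¹ * (b * a * (b : G)⁻¹) * b := by group
      rw [e, this]; group
    | some b1, some b2 =>
      have := congrArg Subtype.val h
      simp only [φ] at this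
      have hb : ((b2 : G)⁻¹ * b1) = 1 := by
        apply key _ (B.mul_mem (B.inv_mem b2.2) b1.2)
        calc a * ((b2 : G)⁻¹ * b1) = (b2 : G)⁻¹ * (b2 * a * (b2 : G)⁻¹) * b1 := by group
          _ = (b2 : G)⁻¹ * (b1 * a * (b1 : G)⁻¹) * b1 := by rw [this]
          _ = (b2 : G)⁻¹ * b1 * a := by group
      congr 1
      apply Subtype.ext
      have : (b1 : G) = b2 * ((b2 : G)⁻¹ * b1) := by group
      rw [this, hb, mul_one]
  have hcard := Nat.card_le_card_of_injective φ hφ
  rw [Finite.card_option] at hcard
  omega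

end Cfsg.Agent.S1757
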