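import Cfsg.Statements.S1780
-- import your own Cfsg.Agent.* helpers here

set_option autoImplicit false
open Cfsg

namespace Cfsg.Agent.S1780

/-- Let A be a finite abelian 2-group and t an automorphism of A whose order is a power of 2. If every element of A fixed by t² is fixed by t, then t fixes every element of A. -/
theorem result {A : Type*} [CommGroup A] [Finite A]
    (hA : IsPGroup 2 A) (t : MulAut A) (ht : ∃ k : ℕ, orderOf t = 2 ^ k) (hC : ∀ a : A, t (t a) = a → t a = a) :
    ∀ a : A, t a = a := by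
  classical
  obtain ⟨k, hk⟩ := ht
  have : Fact (Nat.Prime 2) := ⟨Nat.prime_two⟩
  -- the hom f a = t a * a⁻¹
  let f : A →* A :=
    { toFun := fun a => t a * a⁻¹
      map_one' := by simp
      map_mul' := by
        intro a b
        show t (a * b) * (a * b)⁻¹ = t a * a⁻¹ * (t b * b⁻¹)
        rw [map_mul, mul_inv]
        exact mul_mul_mul_comm _ _ _ _ }
  have hf : ∀ a, f a = t a * a⁻¹ := fun a => rfl
  -- claim: f (f a) = 1 → f a = 1
  have claim : ∀ a : A, f (f a) = 1 → f a = 1 := by
    intro a h
    set c := f a with hc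
    have htc : t c = c := by
      have := h; rw [hf] at this
      exact mul_inv_eq_one.mp this
    have hta : t a = a * c := by rw [hc, hf]; simp [mul_comm]
    by_contra hne
    -- minimal m with c^(2^m) = 1
    obtain ⟨m, hm⟩ := hA c
    have hex : ∃ m, c ^ (2 ^ m) = 1 := ⟨m, hm⟩
    set m0 := Nat.find hex with hm0
    have hm0spec : c ^ (2 ^ m0) = 1 := Nat.find_spec hex
    have hm0pos : m0 ≠ 0 := by
      intro h0
      rw [h0] at hm0spec
      simp at hm0spec
      exact hne hm0spec
    obtain ⟨n, hn⟩ := Nat.exists_eq_succ_of_ne_zero hm0pos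
    have hnmin : c ^ (2 ^ n) ≠ 1 := by
      have := Nat.find_min hex (m := n) (by omega)
      exact this
    have hsq : (c ^ (2 ^ n)) ^ 2 = 1 := by
      rw [← pow_mul, ← pow_succ, ← Nat.succ_eq_add_one, ← hn]; exact hm0spec
    -- a' = a^(2^n)
    have h1 : t (a ^ (2 ^ n)) = a ^ (2 ^ n) * c ^ (2 ^ n) := by
      rw [map_pow, hta, mul_pow]
    have h2 : t (t (a ^ (2 ^ n))) = a ^ (2 ^ n) := by
      rw [h1, map_mul, h1, map_pow, htc, mul_assoc, ← pow_two, hsq, mul_one]
    have h3 := hC _ h2
    rw [h1] at h3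
    exact hnmin (mul_eq_left.mp h3)
  -- T = zpowers t is a 2-group
  have hT : IsPGroup 2 (Subgroup.zpowers t) := by
    apply IsPGroup.of_card (n := k)
    rw [Nat.card_zpowers, hk]
  -- the sub-action on range f
  let S : SubMulAction (Subgroup.zpowers t) A :=
    { carrier := (f.range : Set A)
      smul_mem' := by
        rintro ⟨s, hs⟩ _ ⟨a, rfl⟩
        refine ⟨s a, ?_⟩
        obtain ⟨n, rfl⟩ := Subgroup.mem_zpowers_iff.mp hs
        show t ((t ^ n) a) * ((t ^ n) a)⁻¹ = (t ^ n) (t a * a⁻¹)
        have hcomm : t ((t ^ n) a) = (t ^ n) (t a) := by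
          have : t * t ^ n = t ^ n * t := (Commute.zpow_right (Commute.refl t) n).eq
          calc t ((t ^ n) a) = (t * t ^ n) a := rfl
            _ = (t ^ n * t) a := by rw [this]
            _ = (t ^ n) (t a) := rfl
        rw [hcomm, map_mul, map_inv] }
  by_contra hcon
  push Not at hcon
  obtain ⟨a0, ha0⟩ := hcon
  have hf0 : f a0 ≠ 1 := by
    rw [hf]; intro h; exact ha0 (mul_inv_eq_one.mp h)
  have hcardS : Nat.card S = Nat.card f.range := rfl
  have hdvd : 2 ∣ Nat.card S := by
    rw [hcardS]
    rcases (hA.to_subgroup f.range).card_eq_or_dvd with h | h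
    · exfalso
      rw [Subgroup.card_eq_one] at h
      have : f a0 ∈ f.range := ⟨a0, rfl⟩
      rw [h, Subgroup.mem_bot] at this
      exact hf0 this
    · exact h
  have hfix1 : (⟨1, f.range.one_mem⟩ : S) ∈ MulAction.fixedPoints (Subgroup.zpowers t) S := by
    intro s
    apply Subtype.ext
    show (s : MulAut A) (1 : A) = 1
    simp
  obtain ⟨b, hbfix, hb1⟩ := hT.exists_fixed_point_of_prime_dvd_card_of_fixed_point S hdvd hfix1
  obtain ⟨b, a, rfl⟩ := b
  have htb : t (f a) = f a := by
    have := hbfix ⟨t, Subgroup.mem_zpowers t⟩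
    exact congrArg Subtype.val this
  have hff : f (f a) = 1 := by
    rw [hf (f a), htb, mul_inv_cancel]
  have := claim a hff
  apply hb1
  apply Subtype.ext
  exact this.symm

end Cfsg.Agent.S1780
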