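import Cfsg.Statements.S1781
import Cfsg.Agent.S1757
import Cfsg.Agent.S1780
-- import your own Cfsg.Agent.* helpers here

set_option autoImplicit false
open Cfsg

namespace Cfsg.Agent.S1781

/-- Conjugation by an element normalizing `B`, as an automorphism of `B`. -/
def conjAut {G : Type*} [Group G] (B : Subgroup G) (d : G)
    (hd : d ∈ Subgroup.normalizer (B : Set G)) : MulAut B where
  toFun b := ⟨d * b * d⁻¹, (Subgroup.mem_normalizer_iff.mp hd b).mp b.2⟩
  invFun b := ⟨d⁻¹ * b * d, by
    have := (Subgroup.mem_normalizer_iff.mp hd (d⁻¹ * b * d)).mpr (by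
      have e : d * (d⁻¹ * (b : G) * d) * d⁻¹ = b := by group
      rw [e]; exact b.2)
    exact this⟩
  left_inv b := by apply Subtype.ext; simp only []; group
  right_inv b := by apply Subtype.ext; simp only []; group
  map_mul' a b := by apply Subtype.ext; simp only [Subgroup.coe_mul]; group

theorem conjAut_pow {G : Type*} [Group G] (B : Subgroup G) (d : G)
    (hd : d ∈ Subgroup.normalizer (B : Set G)) (n : ℕ) (b : B) :
    (((conjAut B d hd) ^ n) b : G) = d ^ n * b * (d ^ n)⁻¹ := by
  induction n generalizing b with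
  | zero => simp
  | succ n ih =>
    rw [pow_succ, MulAut.mul_apply, ih]
    show d ^ n * (d * b * d⁻¹) * (d ^ n)⁻¹ = d ^ (n + 1) * b * (d ^ (n + 1))⁻¹
    rw [pow_succ]; group


/-- Let A be an abelian 2-subgroup of the finite group G such that every conjugate of A equals A or meets A trivially, and let g ∈ G with g A g⁻¹ ≠ A. Then either the subgroup of those elements of A that normalize g A g⁻¹ is an elementary abelian 2-group, or A and g A g⁻¹ commute elementwise. -/
theorem result {G : Type*} [Group G] [Finite G] (A : Subgroup G)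
    (hA2 : IsPGroup 2 ↥A) (hAa : IsMulCommutative ↥A)
    (hti : ∀ h : G, A.map (MulAut.conj h).toMonoidHom = A ∨ A.map (MulAut.conj h).toMonoidHom ⊓ A = ⊥)
    (g : G) (hg : A.map (MulAut.conj g).toMonoidHom ≠ A) :
    Cfsg.IsElementaryAbelian 2 (A ⊓ Subgroup.normalizer ((A.map (MulAut.conj g).toMonoidHom : Subgroup G) : Set G)) ∨
      ⁅A, A.map (MulAut.conj g).toMonoidHom⁆ = ⊥ := by
  classical
  have : Fact (Nat.Prime 2) := ⟨Nat.prime_two⟩
  set B : Subgroup G := A.map (MulAut.conj g).toMonoidHom with hB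
  have hAB : A ⊓ B = ⊥ := by
    rcases hti g with h | h
    · exact absurd h hg
    · rw [inf_comm]; exact h
  have hBA : B ⊓ A = ⊥ := by rw [inf_comm]; exact hAB
  by_cases hall : ∀ d ∈ A ⊓ Subgroup.normalizer (B : Set G), d ^ 2 = 1
  · left
    refine ⟨⟨⟨fun x y => ?_⟩⟩, hall⟩
    apply Subtype.ext
    have := congrArg Subtype.val (mul_comm' (⟨x.1, x.2.1⟩ : A) ⟨y.1, y.2.1⟩)
    simpa using this
  · right
    push Not at hall
    obtain ⟨d, ⟨hdA, hdN⟩, hd2⟩ := hall
    have hd1 : d ≠ 1 := by rintro rfl; simp at hd2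
    -- B is commutative and a 2-group
    have hBcomm : ∀ x y : B, x * y = y * x := by
      rintro ⟨_, x, hx, rfl⟩ ⟨_, y, hy, rfl⟩
      apply Subtype.ext
      have := congrArg Subtype.val (mul_comm' (⟨x, hx⟩ : A) ⟨y, hy⟩)
      simp only [Subgroup.coe_mul] at this ⊢
      rw [← map_mul, ← map_mul, this]
    have hB2 : IsPGroup 2 B := hA2.map _
    let cB : CommGroup B := { (inferInstance : Group B) with mul_comm := hBcomm }
    -- TI consequence: if x ∈ A, x ≠ 1 commutes with b, then b normalizes A
    have hnorm : ∀ x ∈ A, x ≠ 1 → ∀ b : G, b * x = x * b → ∀ y ∈ A, b * y * b⁻¹ ∈ A := by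
      intro x hx hx1 b hbx y hy
      have hmem : x ∈ A.map (MulAut.conj b).toMonoidHom ⊓ A := by
        refine ⟨⟨x, hx, ?_⟩, hx⟩
        show b * x * b⁻¹ = x
        rw [hbx]; group
      rcases hti b with h | h
      · rw [← h]; exact ⟨y, hy, rfl⟩
      · rw [h, Subgroup.mem_bot] at hmem; exact absurd hmem hx1
    -- the automorphism of B induced by d
    let τ : MulAut B := conjAut B d hdN
    have hτ : ∀ b : B, (τ b : G) = d * b * d⁻¹ := fun b => rfl
    -- order of τ is a power of 2
    obtain ⟨j, hj⟩ := hA2 ⟨d, hdA⟩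
    have hdj : d ^ (2 ^ j) = 1 := by
      have := congrArg Subtype.val hj
      simpa using this
    have hτj : τ ^ (2 ^ j) = 1 := by
      ext b
      rw [conjAut_pow, hdj]; simp
    have hord : ∃ k, orderOf τ = 2 ^ k := by
      have := orderOf_dvd_of_pow_eq_one hτj
      obtain ⟨k, _, hk⟩ := (Nat.dvd_prime_pow Nat.prime_two).mp this
      exact ⟨k, hk⟩
    -- fixed points of τ² are fixed by τ
    have hfix : ∀ b : B, τ (τ b) = b → τ b = b := by
      intro b hb
      have hb' : d ^ 2 * (b : G) = b * d ^ 2 := by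
        have := congrArg Subtype.val hb
        rw [hτ, hτ] at this
        calc d ^ 2 * (b : G) = (d * (d * b * d⁻¹) * d⁻¹) * d ^ 2 := by simp only [pow_two]; group
          _ = b * d ^ 2 := by rw [this]
      -- b normalizes A
      have hbN := hnorm (d ^ 2) (A.pow_mem hdA 2) hd2 b hb'.symm
      -- commutator b d b⁻¹ d⁻¹ ∈ A ⊓ B
      have h1 : (b : G) * d * (b : G)⁻¹ * d⁻¹ ∈ A := A.mul_mem (hbN d hdA) (A.inv_mem hdA)
      have h2 : (b : G) * d * (b : G)⁻¹ * d⁻¹ ∈ B := by
        have e : (b : G) * d * (b : G)⁻¹ * d⁻¹ = b * (d * (b : G)⁻¹ * d⁻¹) := by group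
        rw [e]
        exact B.mul_mem b.2 ((Subgroup.mem_normalizer_iff.mp hdN _).mp (B.inv_mem b.2))
      have h3 : (b : G) * d * (b : G)⁻¹ * d⁻¹ ∈ A ⊓ B := ⟨h1, h2⟩
      rw [hAB, Subgroup.mem_bot] at h3
      apply Subtype.ext
      rw [hτ]
      calc d * (b : G) * d⁻¹ = ((b : G) * d * (b : G)⁻¹ * d⁻¹)⁻¹ * b := by group
        _ = b := by rw [h3]; simp
    have hτtriv := Cfsg.Agent.S1780.result (A := B) hB2 τ hord hfix
    -- d centralizes B
    have hdB : ∀ b ∈ B, d * b = b * d := by
      intro b hb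
      have := congrArg Subtype.val (hτtriv ⟨b, hb⟩)
      rw [hτ] at this
      simp only at this
      calc d * b = (d * b * d⁻¹) * d := by group
        _ = b * d := by rw [this]
    -- B normalizes A
    have hBN : B ≤ Subgroup.normalizer (A : Set G) := by
      intro b hb
      rw [Subgroup.mem_normalizer_iff]
      intro y
      constructor
      · exact hnorm d hdA hd1 b (hdB b hb).symm y
      · intro hy
        have hb' : b⁻¹ ∈ B := B.inv_mem hb
        have := hnorm d hdA hd1 b⁻¹ (hdB b⁻¹ hb').symm _ hy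
        have e : b⁻¹ * (b * y * b⁻¹) * b⁻¹⁻¹ = y := by group
        rwa [e] at this
    -- B is TI
    have hBti : ∀ h : G, B.map (MulAut.conj h).toMonoidHom = B ∨ B.map (MulAut.conj h).toMonoidHom ⊓ B = ⊥ := by
      intro h
      have hmap : ∀ x : G, B.map (MulAut.conj x).toMonoidHom =
          (A.map (MulAut.conj (g⁻¹ * x * g)).toMonoidHom).map (MulAut.conj g).toMonoidHom := by
        intro x
        rw [hB, Subgroup.map_map, Subgroup.map_map]
        congr 1
        ext y
        simp only [MonoidHom.coe_comp, MulEquiv.coe_toMonoidHom, Function.comp_apply, MulAut.conj_apply]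
        group
      rcases hti (g⁻¹ * h * g) with h1 | h1
      · left; rw [hmap, h1]
      · right
        rw [hmap, hB, ← Subgroup.map_inf_eq _ _ _ (MulAut.conj g).injective, h1, Subgroup.map_bot]
    have hcard : Nat.card A ≤ Nat.card B := by
      rw [hB, Subgroup.card_map_of_injective (MulAut.conj g).injective]
    exact Cfsg.Agent.S1757.result 2 A B hA2 hB2 hti hBti hcard hAB hBN


end Cfsg.Agent.S1781
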