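import Cfsg.Statements.S1756
import Mathlib
import Cfsg.Agent.S1781
-- import your own Cfsg.Agent.* helpers here

set_option autoImplicit false
open Cfsg

open scoped IsMulCommutative

namespace Cfsg.Agent.S1756


/-- Step (a): if `τ` is an involutive automorphism of `Q` whose fixed subgroup `M` has index
two, then `x⁻¹ τ x` is central for all `x`. -/
theorem inv_mul_apply_mem_center_of_index_two {Q : Type*} [Group Q] (τ : MulAut Q)
    (hτ : ∀ x, τ (τ x) = x) (M : Subgroup Q) (hM : ∀ x, x ∈ M ↔ τ x = x) (hi : M.index = 2) :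
    ∀ x, x⁻¹ * τ x ∈ Subgroup.center Q := by
  have hmul : ∀ {a b : Q}, a * b ∈ M ↔ (a ∈ M ↔ b ∈ M) := Subgroup.mul_mem_iff_of_index_two hi
  have hN : M.Normal := Subgroup.normal_of_index_eq_two hi
  have hτM : ∀ x, τ x ∈ M ↔ x ∈ M := by
    intro x
    rw [hM, hM, hτ]
    exact eq_comm
  -- c x ∈ M
  have hcM : ∀ x, x⁻¹ * τ x ∈ M := by
    intro x
    rw [hmul, hτM, inv_mem_iff]
  -- c x commutes with M
  have hcomm : ∀ x, ∀ m ∈ M, (x⁻¹ * τ x) * m = m * (x⁻¹ * τ x) := by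
    intro x m hm
    have h1 : x * m * x⁻¹ ∈ M := hN.conj_mem m hm x
    have h2 := (hM _).mp h1
    rw [map_mul, map_mul, map_inv, (hM m).mp hm] at h2
    -- τ x * m * (τ x)⁻¹ = x * m * x⁻¹
    have h3 : τ x * m = x * m * x⁻¹ * τ x := by
      rw [← h2]; group
    calc x⁻¹ * τ x * m = x⁻¹ * (τ x * m) := by group
      _ = x⁻¹ * (x * m * x⁻¹ * τ x) := by rw [h3]
      _ = m * (x⁻¹ * τ x) := by group
  -- c x is an involution
  have hinv : ∀ x, (x⁻¹ * τ x)⁻¹ = x⁻¹ * τ x := by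
    intro x
    have h1 := (hM _).mp (hcM x)
    rw [map_mul, map_inv, hτ] at h1
    rw [mul_inv_rev, inv_inv]; exact h1
  -- uniformity
  have hunif : ∀ x x', x ∉ M → x' ∉ M → x'⁻¹ * τ x' = x⁻¹ * τ x := by
    intro x x' hx hx'
    have hm : x⁻¹ * x' ∈ M := by
      rw [hmul, inv_mem_iff]
      exact ⟨fun h => absurd h hx, fun h => absurd h hx'⟩
    have e : x' = x * (x⁻¹ * x') := by group
    have h1 : τ x' = τ x * (x⁻¹ * x') := by
      conv_lhs => rw [e, map_mul, (hM _).mp hm]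
    rw [h1]
    calc x'⁻¹ * (τ x * (x⁻¹ * x')) = (x⁻¹ * x')⁻¹ * ((x⁻¹ * τ x) * (x⁻¹ * x')) := by group
      _ = (x⁻¹ * x')⁻¹ * ((x⁻¹ * x') * (x⁻¹ * τ x)) := by rw [hcomm x _ hm]
      _ = x⁻¹ * τ x := by group
  intro x
  by_cases hx : x ∈ M
  · rw [(hM x).mp hx, inv_mul_cancel]; exact one_mem _
  · -- c x commutes with x
    have hx' : x⁻¹ ∉ M := by rwa [inv_mem_iff]
    have h1 := hunif x x⁻¹ hx hx'
    rw [map_inv, inv_inv] at h1
    -- x * (τ x)⁻¹ = x⁻¹ * τ x
    have hcx : (x⁻¹ * τ x) * x = x * (x⁻¹ * τ x) := by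
      have h2 : x * (x⁻¹ * τ x)⁻¹ * x⁻¹ = x⁻¹ * τ x := by
        calc x * (x⁻¹ * τ x)⁻¹ * x⁻¹ = x * (τ x)⁻¹ := by group
          _ = _ := h1
      rw [hinv] at h2
      calc (x⁻¹ * τ x) * x = (x * (x⁻¹ * τ x) * x⁻¹) * x := by rw [h2]
        _ = x * (x⁻¹ * τ x) := by group
    rw [Subgroup.mem_center_iff]
    intro g
    by_cases hg : g ∈ M
    · exact (hcomm x g hg).symm
    · have hm : x⁻¹ * g ∈ M := by
        rw [hmul, inv_mem_iff]
        exact ⟨fun h => absurd h hx, fun h => absurd h hg⟩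
      have e : g = x * (x⁻¹ * g) := by group
      rw [e]
      calc x * (x⁻¹ * g) * (x⁻¹ * τ x) = x * ((x⁻¹ * g) * (x⁻¹ * τ x)) := by group
        _ = x * ((x⁻¹ * τ x) * (x⁻¹ * g)) := by rw [hcomm x _ hm]
        _ = (x * (x⁻¹ * τ x)) * (x⁻¹ * g) := by group
        _ = ((x⁻¹ * τ x) * x) * (x⁻¹ * g) := by rw [hcx]
        _ = x⁻¹ * τ x * (x * (x⁻¹ * g)) := by group


/-- Step (b): in a finite group `Q` whose centre has order two and equals the derived subgroup,
every homomorphism-like map `x ↦ c x` into the centre is given by a commutator with a fixed element. -/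
theorem exists_commutator_eq {Q : Type*} [Group Q] [Finite Q]
    (hcard : Nat.card (Subgroup.center Q) = 2) (hcomm : commutator Q = Subgroup.center Q)
    (c : Q → Q) (hc : ∀ x, c x ∈ Subgroup.center Q) (hcmul : ∀ x y, c (x * y) = c x * c y) :
    ∃ y : Q, ∀ x, y * x * y⁻¹ * x⁻¹ = c x := by
  classical
  -- an injective character of the centre
  have hZfin : Finite (Subgroup.center Q) := inferInstance
  have : NeZero (Monoid.exponent (Subgroup.center Q)) := ⟨Monoid.exponent_ne_zero_of_finite⟩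
  have hnt : Nontrivial (Subgroup.center Q) := by
    rw [← Finite.one_lt_card_iff_nontrivial, hcard]; norm_num
  obtain ⟨z, hz⟩ := exists_ne (1 : Subgroup.center Q)
  obtain ⟨ε, hε⟩ := CommGroup.exists_apply_ne_one_of_hasEnoughRootsOfUnity (Subgroup.center Q) ℂ hz
  have hεinj : ∀ w : Subgroup.center Q, ε w = 1 → w = 1 := by
    intro w hw
    by_contra hw1
    -- the centre is {1, z}
    have h2 : ∀ a b : Subgroup.center Q, a ≠ 1 → b ≠ 1 → a = b := by
      intro a b ha hb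
      by_contra hab
      have : Fintype (Subgroup.center Q) := Fintype.ofFinite _
      have : 2 < Nat.card (Subgroup.center Q) := by
        rw [Nat.card_eq_fintype_card]
        exact Fintype.two_lt_card_iff.mpr ⟨1, a, b, ha.symm, hb.symm, hab⟩
      omega
    rw [h2 w z hw1 hz] at hw
    exact hε hw
  -- commutators are central
  have hcz : ∀ y x : Q, y * x * y⁻¹ * x⁻¹ ∈ Subgroup.center Q := by
    intro y x
    rw [← hcomm, commutator_def, ← commutatorElement_def]
    exact Subgroup.commutator_mem_commutator (Subgroup.mem_top y) (Subgroup.mem_top x)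
  have hcz_comm : ∀ y x g : Q, g * (y * x * y⁻¹ * x⁻¹) = (y * x * y⁻¹ * x⁻¹) * g := fun y x g =>
    Subgroup.mem_center_iff.mp (hcz y x) g
  have hmulR : ∀ y x1 x2 : Q, y * (x1 * x2) * y⁻¹ * (x1 * x2)⁻¹
      = (y * x1 * y⁻¹ * x1⁻¹) * (y * x2 * y⁻¹ * x2⁻¹) := by
    intro y x1 x2
    calc y * (x1 * x2) * y⁻¹ * (x1 * x2)⁻¹
        = (y * x1 * y⁻¹ * x1⁻¹) * (x1 * (y * x2 * y⁻¹ * x2⁻¹)) * x1⁻¹ := by group
      _ = (y * x1 * y⁻¹ * x1⁻¹) * ((y * x2 * y⁻¹ * x2⁻¹) * x1) * x1⁻¹ := by rw [hcz_comm y x2 x1]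
      _ = _ := by group
  have hmulL : ∀ y1 y2 x : Q, (y1 * y2) * x * (y1 * y2)⁻¹ * x⁻¹
      = (y1 * x * y1⁻¹ * x⁻¹) * (y2 * x * y2⁻¹ * x⁻¹) := by
    intro y1 y2 x
    calc (y1 * y2) * x * (y1 * y2)⁻¹ * x⁻¹
        = (y1 * (y2 * x * y2⁻¹ * x⁻¹)) * x * y1⁻¹ * x⁻¹ := by group
      _ = ((y2 * x * y2⁻¹ * x⁻¹) * y1) * x * y1⁻¹ * x⁻¹ := by rw [hcz_comm y2 x y1]
      _ = (y2 * x * y2⁻¹ * x⁻¹) * (y1 * x * y1⁻¹ * x⁻¹) := by group
      _ = (y1 * x * y1⁻¹ * x⁻¹) * (y2 * x * y2⁻¹ * x⁻¹) := by rw [hcz_comm y1 x]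
  -- the pairing
  let P1 : Q → (Q →* ℂˣ) := fun y => MonoidHom.mk' (fun x => ε ⟨y * x * y⁻¹ * x⁻¹, hcz y x⟩) (by
    intro x1 x2
    rw [← map_mul]
    congr 1
    apply Subtype.ext
    exact hmulR y x1 x2)
  let P : Q →* (Q →* ℂˣ) := MonoidHom.mk' P1 (by
    intro y1 y2
    refine MonoidHom.ext fun x => ?_
    show (ε ⟨(y1 * y2) * x * (y1 * y2)⁻¹ * x⁻¹, _⟩ : ℂˣ) = (ε ⟨_, _⟩ * ε ⟨_, _⟩ : ℂˣ)
    rw [← map_mul]
    congr 1
    apply Subtype.ext
    exact hmulL y1 y2 x)
  have hPapp : ∀ y x, P y x = ε ⟨y * x * y⁻¹ * x⁻¹, hcz y x⟩ := fun y x => rfl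
  have hker : P.ker = Subgroup.center Q := by
    ext y
    rw [MonoidHom.mem_ker, Subgroup.mem_center_iff]
    constructor
    · intro h g
      have h1 : P y g = 1 := by rw [h]; rfl
      rw [hPapp] at h1
      have h2 := congrArg Subtype.val (hεinj _ h1)
      simp only [Subgroup.coe_one] at h2
      calc g * y = (y * g * y⁻¹ * g⁻¹)⁻¹ * (y * g) := by group
        _ = y * g := by rw [h2]; group
    · intro h
      refine MonoidHom.ext fun x => ?_
      rw [hPapp]
      have : (⟨y * x * y⁻¹ * x⁻¹, hcz y x⟩ : Subgroup.center Q) = 1 := by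
        apply Subtype.ext
        simp only [Subgroup.coe_one]
        rw [← h x]; group
      rw [this, map_one]; rfl
  -- counting
  have hcardHom : Nat.card (Q →* ℂˣ) = (Subgroup.center Q).index := by
    have : NeZero (Monoid.exponent (Abelianization Q)) := ⟨Monoid.exponent_ne_zero_of_finite⟩
    rw [Nat.card_congr (Abelianization.lift (G := Q) (A := ℂˣ)),
      CommGroup.card_monoidHom_of_hasEnoughRootsOfUnity (Abelianization Q) ℂ, ← hcomm,
      Subgroup.index_eq_card]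
    rfl
  have hidx : (Subgroup.center Q).index ≠ 0 := Subgroup.index_ne_zero_of_finite
  have hfin : Finite (Q →* ℂˣ) := Nat.finite_of_card_ne_zero (by rw [hcardHom]; exact hidx)
  have hsurj : Function.Surjective P := by
    apply MonoidHom.surjective_of_card_ker_le_div
    rw [hker, hcardHom, ← Subgroup.card_mul_index (Subgroup.center Q),
      Nat.mul_div_cancel _ (Nat.pos_of_ne_zero hidx)]
  -- the target character
  let φ : Q →* ℂˣ := MonoidHom.mk' (fun x => ε ⟨c x, hc x⟩) (by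
    intro x1 x2
    rw [← map_mul]
    congr 1
    apply Subtype.ext
    exact hcmul x1 x2)
  obtain ⟨y, hy⟩ := hsurj φ
  refine ⟨y, fun x => ?_⟩
  have h1 : P y x = φ x := by rw [hy]
  rw [hPapp] at h1
  have h2 : ε ⟨y * x * y⁻¹ * x⁻¹, hcz y x⟩ = ε ⟨c x, hc x⟩ := h1
  have h3 : ε (⟨y * x * y⁻¹ * x⁻¹, hcz y x⟩ * (⟨c x, hc x⟩ : Subgroup.center Q)⁻¹) = 1 := by
    rw [map_mul, map_inv, h2, mul_inv_cancel]
  have h4 := congrArg Subtype.val (hεinj _ h3)
  simp only [Subgroup.coe_mul, Subgroup.coe_inv, Subgroup.coe_one] at h4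
  exact mul_inv_eq_one.mp h4


/-- The abstract form: an involutive automorphism of an extraspecial 2-group fixing a subgroup of index at most two
pointwise is inner. -/
theorem inner_of_index_le_two {Q : Type*} [Group Q] [Finite Q] (hQ : Cfsg.IsExtraspecial 2 Q)
    (τ : MulAut Q) (hτ : ∀ x, τ (τ x) = x) (M : Subgroup Q) (hM : ∀ x, x ∈ M ↔ τ x = x)
    (hi : M.index ≤ 2) : ∃ y : Q, ∀ x, τ x = y * x * y⁻¹ := by
  have hi0 : M.index ≠ 0 := Subgroup.index_ne_zero_of_finite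
  have h12 : M.index = 1 ∨ M.index = 2 := by omega
  rcases h12 with h1 | h2
  · refine ⟨1, fun x => ?_⟩
    rw [Subgroup.index_eq_one] at h1
    have : x ∈ M := by rw [h1]; exact Subgroup.mem_top x
    rw [(hM x).mp this]; group
  · have hc := inv_mul_apply_mem_center_of_index_two τ hτ M hM h2
    obtain ⟨y, hy⟩ := exists_commutator_eq hQ.2 hQ.1.2.2 (fun x => x⁻¹ * τ x) hc (by
      intro x y
      have h := Subgroup.mem_center_iff.mp (hc x) y⁻¹
      calc (x * y)⁻¹ * τ (x * y) = (y⁻¹ * (x⁻¹ * τ x)) * τ y := by rw [map_mul]; group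
        _ = ((x⁻¹ * τ x) * y⁻¹) * τ y := by rw [h]
        _ = _ := by group)
    refine ⟨y, fun x => ?_⟩
    have h : y * x * y⁻¹ * x⁻¹ = x⁻¹ * τ x := hy x
    have h3 := Subgroup.mem_center_iff.mp (hc x) x
    calc τ x = x * (x⁻¹ * τ x) := by group
      _ = (x⁻¹ * τ x) * x := h3
      _ = (y * x * y⁻¹ * x⁻¹) * x := by rw [h]
      _ = _ := by group


/-- Let Q be an extraspecial 2-subgroup of the finite group G (special with centre of order 2) and t an involution of G normalizing Q such that the centralizer of t in Q has index at most 2 in Q. Then t lies in the product of Q with the centralizer of Q. -/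
theorem result {G : Type*} [Group G] [Finite G] (Q : Subgroup G)
    (hQ : Cfsg.IsExtraspecial 2 ↥Q) (t : G) (ht : orderOf t = 2) (htN : t ∈ Subgroup.normalizer (Q : Set G))
    (hi : (Subgroup.centralizer ({t} : Set G) ⊓ Q).relIndex Q ≤ 2) :
    t ∈ Q ⊔ Subgroup.centralizer (Q : Set G) := by
  have ht2 : t * t = 1 := by rw [← pow_two, ← ht, pow_orderOf_eq_one]
  have htinv : t⁻¹ = t := inv_eq_of_mul_eq_one_right ht2
  obtain ⟨y, hy⟩ := inner_of_index_le_two hQ (Cfsg.Agent.S1781.conjAut Q t htN) (by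
      intro x
      apply Subtype.ext
      show t * (t * x * t⁻¹) * t⁻¹ = x
      rw [htinv]
      calc t * (t * x * t) * t = (t * t) * x * (t * t) := by group
        _ = x := by rw [ht2]; group)
    ((Subgroup.centralizer ({t} : Set G) ⊓ Q).subgroupOf Q) (by
      intro x
      rw [Subgroup.mem_subgroupOf, Subgroup.mem_inf, Subgroup.mem_centralizer_singleton_iff]
      constructor
      · rintro ⟨h, _⟩
        apply Subtype.ext
        show t * x * t⁻¹ = x
        rw [← h]; group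
      · intro h
        refine ⟨?_, x.2⟩
        have h1 : t * x * t⁻¹ = x := congrArg Subtype.val h
        calc (x : G) * t = (t * x * t⁻¹) * t := by rw [h1]
          _ = t * x := by group) hi
  have hyx : ∀ x ∈ Q, t * x * t⁻¹ = y * x * (y : G)⁻¹ := by
    intro x hx
    exact congrArg Subtype.val (hy ⟨x, hx⟩)
  have hcen : (y : G)⁻¹ * t ∈ Subgroup.centralizer (Q : Set G) := by
    rw [Subgroup.mem_centralizer_iff]
    intro x hx
    have h := hyx x hx
    calc x * ((y : G)⁻¹ * t) = (y : G)⁻¹ * (y * x * (y : G)⁻¹) * t := by group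
      _ = (y : G)⁻¹ * (t * x * t⁻¹) * t := by rw [h]
      _ = _ := by group
  have : t = (y : G) * ((y : G)⁻¹ * t) := by group
  rw [this]
  exact Subgroup.mul_mem_sup y.2 hcen


end Cfsg.Agent.S1756
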