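import Cfsg.Statements.S1774
import Cfsg.Agent.Lib.H22.SympExtra4
import Cfsg.Agent.Lib.H5.KleinPair

set_option autoImplicit false
open Cfsg

namespace Cfsg.Agent.S1774

open Cfsg.Agent.Lib.H22.LargeExtra Cfsg.Agent.Lib.H15

theorem main_aux {G : Type*} [Group G] {Q : Subgroup G} {z : G} (hL : LXS Q z) (g : G)
    (hne : g * z * g⁻¹ ≠ z) (hin : g * z * g⁻¹ ∈ Q) :
    z ∈ cj g Q ∧
      ∀ u ∈ Subgroup.closure ({z, g * z * g⁻¹} : Set G),
        ∀ v ∈ Subgroup.closure ({z, g * z * g⁻¹} : Set G),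
        u ≠ 1 → v ≠ 1 → u ≠ v →
          ∃ x ∈ Q ⊔ cj g Q, x * z * x⁻¹ = u ∧ x * (g * z * g⁻¹) * x⁻¹ = v := by
  have hLx : LXS (cj g Q) (g * z * g⁻¹) := hL.conj g
  obtain ⟨x, hx⟩ : ∃ x, x = g * z * g⁻¹ := ⟨_, rfl⟩
  rw [← hx] at hne hin hLx ⊢
  have hconj : ∀ k : G, k * z * k⁻¹ = x → ∀ a ∈ Q, k * a * k⁻¹ ∈ cj g Q := by
    intro k hk a ha
    rw [mem_cj_iff]
    have h1 : (g⁻¹ * k) * z * (g⁻¹ * k)⁻¹ = z := by
      calc (g⁻¹ * k) * z * (g⁻¹ * k)⁻¹ = g⁻¹ * (k * z * k⁻¹) * g := by group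
        _ = g⁻¹ * (g * z * g⁻¹) * g := by rw [hk, hx]
        _ = z := by group
    have h2 := hL.normal _ (conj_eq_self_iff.mp h1) a ha
    have e : g⁻¹ * k * a * (g⁻¹ * k)⁻¹ = g⁻¹ * (k * a * k⁻¹) * g := by group
    rwa [e] at h2
  have hzQx : z ∈ cj g Q := hL.symm_core hLx hin hconj
  refine ⟨hzQx, ?_⟩
  have hzz := hL.sq_one
  have hxx := hLx.sq_one
  have hz1 := hL.ne_one
  have hx1 := hLx.ne_one
  have hzx : z * x = x * z := (hL.cz x hin).symm
  have hxnc := hL.not_central hin hx1 hne hxx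
  have hznc := hLx.not_central hzQx hz1 (fun h => hne h.symm) hzz
  obtain ⟨q, hq, hqx⟩ := hL.exists_conj_mul hin hxnc
  obtain ⟨q', hq', hq'z⟩ := hLx.exists_conj_mul hzQx hznc
  have hqz : q * z * q⁻¹ = z := conj_eq_self_iff.mpr (hL.cz _ hq)
  have hq'x : q' * x * q'⁻¹ = x := conj_eq_self_iff.mpr (hLx.cz _ hq')
  have hqX : q ∈ Q ⊔ cj g Q := (le_sup_left : Q ≤ Q ⊔ cj g Q) hq
  have hq'X : q' ∈ Q ⊔ cj g Q := (le_sup_right : cj g Q ≤ Q ⊔ cj g Q) hq'
  -- more conjugation formulas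
  have hq_zx : q * (z * x) * q⁻¹ = x := by
    calc q * (z * x) * q⁻¹ = (q * z * q⁻¹) * (q * x * q⁻¹) := by group
      _ = z * (z * x) := by rw [hqz, hqx]
      _ = x := by rw [← mul_assoc, hzz, one_mul]
  have hq'_zx : q' * (z * x) * q'⁻¹ = z := by
    calc q' * (z * x) * q'⁻¹ = (q' * z * q'⁻¹) * (q' * x * q'⁻¹) := by group
      _ = (x * z) * x := by rw [hq'z, hq'x]
      _ = (z * x) * x := by rw [hzx]
      _ = z := by rw [mul_assoc, hxx, mul_one]
  have hq'z' : q' * z * q'⁻¹ = z * x := by rw [hq'z, hzx]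
  -- membership in V
  have hV : ∀ u ∈ Subgroup.closure ({z, x} : Set G), u = 1 ∨ u = z ∨ u = x ∨ u = z * x := by
    intro u hu
    have hle : Subgroup.closure ({z, x} : Set G) ≤
        Cfsg.Agent.Lib.H5.KP.kleinPair z x hzz hxx hzx := by
      rw [Subgroup.closure_le]
      intro v hv
      rcases hv with rfl | hv
      · exact (Cfsg.Agent.Lib.H5.KP.mem_kleinPair hzz hxx hzx _).mpr (Or.inr (Or.inl rfl))
      · rw [Set.mem_singleton_iff] at hv
        rw [hv]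
        exact (Cfsg.Agent.Lib.H5.KP.mem_kleinPair hzz hxx hzx _).mpr (Or.inr (Or.inr (Or.inl rfl)))
    exact (Cfsg.Agent.Lib.H5.KP.mem_kleinPair hzz hxx hzx _).mp (hle hu)
  intro u hu v hv hu1 hv1 huv
  -- the six elements
  have w1 : ∃ w ∈ Q ⊔ cj g Q, w * z * w⁻¹ = z ∧ w * x * w⁻¹ = x :=
    ⟨1, Subgroup.one_mem _, by simp, by simp⟩
  have w2 : ∃ w ∈ Q ⊔ cj g Q, w * z * w⁻¹ = z ∧ w * x * w⁻¹ = z * x := ⟨q, hqX, hqz, hqx⟩
  have w3 : ∃ w ∈ Q ⊔ cj g Q, w * z * w⁻¹ = z * x ∧ w * x * w⁻¹ = x := ⟨q', hq'X, hq'z', hq'x⟩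
  have w4 : ∃ w ∈ Q ⊔ cj g Q, w * z * w⁻¹ = x ∧ w * x * w⁻¹ = z * x := by
    refine ⟨q * q', Subgroup.mul_mem _ hqX hq'X, ?_, ?_⟩
    · calc (q * q') * z * (q * q')⁻¹ = q * (q' * z * q'⁻¹) * q⁻¹ := by group
        _ = x := by rw [hq'z', hq_zx]
    · calc (q * q') * x * (q * q')⁻¹ = q * (q' * x * q'⁻¹) * q⁻¹ := by group
        _ = z * x := by rw [hq'x, hqx]
  have w5 : ∃ w ∈ Q ⊔ cj g Q, w * z * w⁻¹ = z * x ∧ w * x * w⁻¹ = z := by
    refine ⟨q' * q, Subgroup.mul_mem _ hq'X hqX, ?_, ?_⟩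
    · calc (q' * q) * z * (q' * q)⁻¹ = q' * (q * z * q⁻¹) * q'⁻¹ := by group
        _ = z * x := by rw [hqz, hq'z']
    · calc (q' * q) * x * (q' * q)⁻¹ = q' * (q * x * q⁻¹) * q'⁻¹ := by group
        _ = z := by rw [hqx, hq'_zx]
  have w6 : ∃ w ∈ Q ⊔ cj g Q, w * z * w⁻¹ = x ∧ w * x * w⁻¹ = z := by
    refine ⟨q * q' * q, Subgroup.mul_mem _ (Subgroup.mul_mem _ hqX hq'X) hqX, ?_, ?_⟩
    · calc (q * q' * q) * z * (q * q' * q)⁻¹ = q * (q' * (q * z * q⁻¹) * q'⁻¹) * q⁻¹ := by group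
        _ = x := by rw [hqz, hq'z', hq_zx]
    · calc (q * q' * q) * x * (q * q' * q)⁻¹ = q * (q' * (q * x * q⁻¹) * q'⁻¹) * q⁻¹ := by group
        _ = z := by rw [hqx, hq'_zx, hqz]
  rcases hV u hu with rfl | rfl | rfl | rfl
  · exact absurd rfl hu1
  · rcases hV v hv with rfl | rfl | rfl | rfl
    · exact absurd rfl hv1
    · exact absurd rfl huv
    · exact w1
    · exact w2
  · rcases hV v hv with rfl | rfl | rfl | rfl
    · exact absurd rfl hv1
    · exact w6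
    · exact absurd rfl huv
    · exact w4
  · rcases hV v hv with rfl | rfl | rfl | rfl
    · exact absurd rfl hv1
    · exact w5
    · exact w3
    · exact absurd rfl huv

/-- Let G be a finite group and let z be an involution of G such that Q, the generalized Fitting subgroup of the centralizer C of z, is a 2-group of symplectic type (every characteristic abelian subgroup of Q is cyclic); suppose every element of Q has order dividing 4. Let g ∈ G with z' = g z g⁻¹ ≠ z and z' ∈ Q. Then z lies in the conjugate g Q g⁻¹, and the subgroup X generated by Q and g Q g⁻¹ induces every automorphism of the four-group generated by z and z': for any two distinct non-identity elements u, v of that four-group there is x ∈ X with x z x⁻¹ = u and x z' x⁻¹ = v. -/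
theorem result {G : Type*} [Group G] [Finite G] (z : G) (hz : orderOf z = 2) (hQ : Cfsg.IsOfSymplecticType ↥(Cfsg.generalizedFittingSubgroup ↥(Subgroup.centralizer ({z} : Set G))))
    (h4 : ∀ q ∈ (Cfsg.generalizedFittingSubgroup ↥(Subgroup.centralizer ({z} : Set G))).map (Subgroup.centralizer ({z} : Set G)).subtype, q ^ 4 = 1) (g : G) (hne : g * z * g⁻¹ ≠ z) (hin : g * z * g⁻¹ ∈ (Cfsg.generalizedFittingSubgroup ↥(Subgroup.centralizer ({z} : Set G))).map (Subgroup.centralizer ({z} : Set G)).subtype) :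
    z ∈ ((Cfsg.generalizedFittingSubgroup ↥(Subgroup.centralizer ({z} : Set G))).map (Subgroup.centralizer ({z} : Set G)).subtype).map (MulAut.conj g).toMonoidHom ∧
      ∀ u ∈ Subgroup.closure ({z, g * z * g⁻¹} : Set G), ∀ v ∈ Subgroup.closure ({z, g * z * g⁻¹} : Set G),
        u ≠ 1 → v ≠ 1 → u ≠ v →
          ∃ x ∈ (Cfsg.generalizedFittingSubgroup ↥(Subgroup.centralizer ({z} : Set G))).map (Subgroup.centralizer ({z} : Set G)).subtype ⊔ ((Cfsg.generalizedFittingSubgroup ↥(Subgroup.centralizer ({z} : Set G))).map (Subgroup.centralizer ({z} : Set G)).subtype).map (MulAut.conj g).toMonoidHom, x * z * x⁻¹ = u ∧ x * (g * z * g⁻¹) * x⁻¹ = v := by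
  exact main_aux (lxs_of_hyp z hz hQ h4) g hne hin

end Cfsg.Agent.S1774
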