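import Cfsg.Statements.S1784
import Cfsg.Agent.Lib.H7.FStar
import Cfsg.Agent.Lib.H1.PGroupBasic
import Cfsg.Agent.Lib.H9.Basic
-- import your own Cfsg.Agent.* helpers here

set_option autoImplicit false
open Cfsg

namespace Cfsg.Agent.S1784

open Subgroup
open scoped commutatorElement

section Abstract
variable {G : Type*} [Group G]

theorem mem_Z_iff {z x : G} (hz : z * z = 1) : x ∈ zpowers z ↔ x = 1 ∨ x = z := by
  constructor
  · intro hx
    obtain ⟨k, rfl⟩ := mem_zpowers_iff.mp hx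
    rcases Int.even_or_odd' k with ⟨m, hm | hm⟩
    · left
      rw [hm, zpow_mul, zpow_two, hz, one_zpow]
    · right
      rw [hm, zpow_add, zpow_mul, zpow_two, hz, one_zpow, one_mul, zpow_one]
  · rintro (rfl | rfl)
    · exact one_mem _
    · exact mem_zpowers _

theorem card_Z {z : G} (hz : z * z = 1) (hz1 : z ≠ 1) : Nat.card (zpowers z) = 2 := by
  rw [Nat.card_zpowers]
  exact orderOf_eq_prime (by rw [pow_two]; exact hz) hz1

theorem comm_mul_left' (b b' a : G) (hc1 : b * ⁅b', a⁆ = ⁅b', a⁆ * b)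
    (hc2 : ⁅b', a⁆ * ⁅b, a⁆ = ⁅b, a⁆ * ⁅b', a⁆) :
    ⁅b * b', a⁆ = ⁅b, a⁆ * ⁅b', a⁆ := by
  have h : ⁅b * b', a⁆ = (b * ⁅b', a⁆) * b⁻¹ * ⁅b, a⁆ := by
    simp only [commutatorElement_def]; group
  rw [h, hc1]
  calc ⁅b', a⁆ * b * b⁻¹ * ⁅b, a⁆ = ⁅b', a⁆ * ⁅b, a⁆ := by group
    _ = ⁅b, a⁆ * ⁅b', a⁆ := hc2

theorem comm_mul_right' (b a a' : G) (hc : a * ⁅b, a'⁆ = ⁅b, a'⁆ * a) :
    ⁅b, a * a'⁆ = ⁅b, a⁆ * ⁅b, a'⁆ := by
  have h : ⁅b, a * a'⁆ = ⁅b, a⁆ * (a * ⁅b, a'⁆) * a⁻¹ := by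
    simp only [commutatorElement_def]; group
  rw [h, hc]; group

/-- abstract extraspecial 2-group data inside `G` -/
structure ES (Q : Subgroup G) (z : G) : Prop where
  z_mem : z ∈ Q
  z_ne : z ≠ 1
  z_sq : z * z = 1
  z_cent : ∀ q ∈ Q, q * z = z * q
  cen : ∀ x ∈ Q, (∀ q ∈ Q, q * x = x * q) → x = 1 ∨ x = z
  comm : ∀ x ∈ Q, ∀ y ∈ Q, ⁅x, y⁆ = 1 ∨ ⁅x, y⁆ = z
  sq : ∀ x ∈ Q, x ^ 2 = 1 ∨ x ^ 2 = z

namespace ES
variable {Q : Subgroup G} {z : G}

theorem Z_le (h : ES Q z) : zpowers z ≤ Q := zpowers_le.mpr h.z_mem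

theorem comm_mem (h : ES Q z) {x y : G} (hx : x ∈ Q) (hy : y ∈ Q) : ⁅x, y⁆ ∈ zpowers z :=
  (mem_Z_iff h.z_sq).mpr (h.comm x hx y hy)

theorem sq_mem (h : ES Q z) {x : G} (hx : x ∈ Q) : x ^ 2 ∈ zpowers z :=
  (mem_Z_iff h.z_sq).mpr (h.sq x hx)

theorem Z_central (h : ES Q z) {ζ q : G} (hζ : ζ ∈ zpowers z) (hq : q ∈ Q) : q * ζ = ζ * q := by
  rcases (mem_Z_iff h.z_sq).mp hζ with rfl | rfl
  · simp
  · exact h.z_cent q hq

theorem comm_mul_left (h : ES Q z) {x y c : G} (hx : x ∈ Q) (hy : y ∈ Q) (hc : c ∈ Q) :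
    ⁅x * y, c⁆ = ⁅x, c⁆ * ⁅y, c⁆ :=
  comm_mul_left' x y c (h.Z_central (h.comm_mem hy hc) hx)
    (h.Z_central (h.comm_mem hx hc) (h.Z_le (h.comm_mem hy hc)))

theorem comm_mul_right (h : ES Q z) {x y c : G} (hx : x ∈ Q) (hy : y ∈ Q) (hc : c ∈ Q) :
    ⁅c, x * y⁆ = ⁅c, x⁆ * ⁅c, y⁆ :=
  comm_mul_right' c x y (h.Z_central (h.comm_mem hc hy) hx)

theorem comm_Z_right (h : ES Q z) {x ζ c : G} (hx : x ∈ Q) (hζ : ζ ∈ zpowers z) (hc : c ∈ Q) :
    ⁅c, ζ * x⁆ = ⁅c, x⁆ := by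
  rw [h.comm_mul_right (h.Z_le hζ) hx hc]
  have : ⁅c, ζ⁆ = 1 := by
    rw [commutatorElement_eq_one_iff_mul_comm]
    exact h.Z_central hζ hc
  rw [this, one_mul]


/-- the commutator-with-`x` homomorphism on a subgroup of `Q` -/
noncomputable def kap (h : ES Q z) (A : Subgroup G) (hA : A ≤ Q) (x : G) (hx : x ∈ Q) :
    ↥A →* ↥(zpowers z) :=
  MonoidHom.mk' (fun a => ⟨⁅(a : G), x⁆, h.comm_mem (hA a.2) hx⟩) (by
    intro a b
    apply Subtype.ext
    show ⁅((a * b : A) : G), x⁆ = ⁅(a : G), x⁆ * ⁅(b : G), x⁆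
    rw [Subgroup.coe_mul]
    exact h.comm_mul_left (hA a.2) (hA b.2) hx)

theorem card_le_two_mul_inf [Finite G] (h : ES Q z) (A : Subgroup G) (hA : A ≤ Q) (x : G)
    (hx : x ∈ Q) : Nat.card A ≤ 2 * Nat.card (A ⊓ centralizer ({x} : Set G) : Subgroup G) := by
  classical
  set κ := h.kap A hA x hx with hκ
  have h1 := Subgroup.card_mul_index κ.ker
  rw [Subgroup.index_ker] at h1
  have h2 : Nat.card κ.range ≤ 2 := by
    have := Subgroup.card_le_card_group κ.range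
    rwa [card_Z h.z_sq h.z_ne] at this
  have h3 : Nat.card κ.ker = Nat.card (A ⊓ centralizer ({x} : Set G) : Subgroup G) := by
    refine Nat.card_congr
      ⟨fun a => ⟨(a : A), ?_⟩, fun b => ⟨⟨b.1, (mem_inf.mp b.2).1⟩, ?_⟩, ?_, ?_⟩
    · have ha := a.2
      rw [MonoidHom.mem_ker] at ha
      have ha' : ⁅((a : A) : G), x⁆ = 1 := congrArg Subtype.val ha
      rw [commutatorElement_eq_one_iff_mul_comm] at ha'
      rw [mem_inf, mem_centralizer_iff]
      refine ⟨(a : A).2, ?_⟩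
      intro g hg
      rw [Set.mem_singleton_iff] at hg
      rw [hg]; exact ha'.symm
    · rw [MonoidHom.mem_ker]
      apply Subtype.ext
      show ⁅(b.1 : G), x⁆ = 1
      rw [commutatorElement_eq_one_iff_mul_comm]
      have := (mem_centralizer_iff.mp (mem_inf.mp b.2).2) x (Set.mem_singleton x)
      exact this.symm
    · intro a; rfl
    · intro b; rfl
  rw [← h3, ← h1]
  calc Nat.card κ.ker * Nat.card κ.range ≤ Nat.card κ.ker * 2 := Nat.mul_le_mul_left _ h2
    _ = 2 * Nat.card κ.ker := mul_comm _ _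

theorem cent_bound [Finite G] (h : ES Q z) :
    ∀ (n : ℕ) (U : Subgroup G), zpowers z ≤ U → U ≤ Q → Nat.card Q - Nat.card U ≤ n →
      Nat.card (Q ⊓ centralizer (U : Set G) : Subgroup G) * Nat.card U ≤ 2 * Nat.card Q := by
  intro n
  induction n with
  | zero =>
    intro U hZU hUQ hn
    have hUQ' : U = Q := eq_of_le_of_card_ge hUQ (by omega)
    subst hUQ'
    have hle : U ⊓ centralizer (U : Set G) ≤ zpowers z := by
      intro x hx
      rw [mem_inf, mem_centralizer_iff] at hx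
      exact (mem_Z_iff h.z_sq).mpr (h.cen x hx.1 hx.2)
    have := card_le_of_le hle
    rw [card_Z h.z_sq h.z_ne] at this
    exact Nat.mul_le_mul_right _ this
  | succ n ih =>
    intro U hZU hUQ hn
    by_cases hUQ' : U = Q
    · subst hUQ'
      have hle : U ⊓ centralizer (U : Set G) ≤ zpowers z := by
        intro x hx
        rw [mem_inf, mem_centralizer_iff] at hx
        exact (mem_Z_iff h.z_sq).mpr (h.cen x hx.1 hx.2)
      have := card_le_of_le hle
      rw [card_Z h.z_sq h.z_ne] at this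
      exact Nat.mul_le_mul_right _ this
    · have hlt : U < Q := lt_of_le_of_ne hUQ hUQ'
      obtain ⟨x, hxQ, hxU⟩ := SetLike.exists_of_lt hlt
      set U' := U ⊔ zpowers x with hU'
      have hUU' : U ≤ U' := le_sup_left
      have hU'Q : U' ≤ Q := sup_le hUQ (zpowers_le.mpr hxQ)
      have hxU' : x ∈ U' := (le_sup_right : zpowers x ≤ U') (mem_zpowers x)
      have hcard : 2 * Nat.card U ≤ Nat.card U' := by
        have hdvd : Nat.card U ∣ Nat.card U' := card_dvd_of_le hUU'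
        obtain ⟨k, hk⟩ := hdvd
        have hk0 : k ≠ 0 := by
          rintro rfl
          have : 0 < Nat.card U' := Nat.card_pos
          omega
        have hk1 : k ≠ 1 := by
          rintro rfl
          apply hxU
          have : U = U' := eq_of_le_of_card_ge hUU' (by omega)
          rw [this]; exact hxU'
        have : 2 ≤ k := by omega
        calc 2 * Nat.card U = Nat.card U * 2 := mul_comm _ _
          _ ≤ Nat.card U * k := Nat.mul_le_mul_left _ this
          _ = Nat.card U' := hk.symm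
      have hQU' : Nat.card U' ≤ Nat.card Q := card_le_of_le hU'Q
      have hUpos : 0 < Nat.card U := Nat.card_pos
      have ih' := ih U' (hZU.trans hUU') hU'Q (by omega)
      have hcent : (Q ⊓ centralizer (U : Set G)) ⊓ centralizer ({x} : Set G)
          ≤ Q ⊓ centralizer (U' : Set G) := by
        intro c hc
        rw [mem_inf, mem_inf] at hc
        rw [mem_inf]
        refine ⟨hc.1.1, ?_⟩
        rw [mem_centralizer_iff]
        intro u hu
        have hle : U' ≤ centralizer ({c} : Set G) := by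
          apply sup_le
          · intro u hu
            rw [mem_centralizer_iff]
            intro g hg
            rw [Set.mem_singleton_iff] at hg
            rw [hg]
            exact ((mem_centralizer_iff.mp hc.1.2) u hu).symm
          · rw [zpowers_le, mem_centralizer_iff]
            intro g hg
            rw [Set.mem_singleton_iff] at hg
            rw [hg]
            exact ((mem_centralizer_iff.mp hc.2) x (Set.mem_singleton x)).symm
        have := (mem_centralizer_iff.mp (hle hu)) c (Set.mem_singleton c)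
        exact this.symm
      have h1 := h.card_le_two_mul_inf (Q ⊓ centralizer (U : Set G)) inf_le_left x hxQ
      have h2 := card_le_of_le hcent
      calc Nat.card (Q ⊓ centralizer (U : Set G) : Subgroup G) * Nat.card U
          ≤ (2 * Nat.card (Q ⊓ centralizer (U' : Set G) : Subgroup G)) * Nat.card U :=
            Nat.mul_le_mul_right _ (h1.trans (Nat.mul_le_mul_left _ h2))
        _ = Nat.card (Q ⊓ centralizer (U' : Set G) : Subgroup G) * (2 * Nat.card U) := by ring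
        _ ≤ Nat.card (Q ⊓ centralizer (U' : Set G) : Subgroup G) * Nat.card U' :=
            Nat.mul_le_mul_left _ hcard
        _ ≤ 2 * Nat.card Q := ih'


end ES

section MainAbs
variable {Q : Subgroup G} {z : G}

/-- data of the involution `α` acting on `Q` -/
structure Act (Q : Subgroup G) (z α : G) : Prop where
  sq : α * α = 1
  norm : ∀ q ∈ Q, α * q * α⁻¹ ∈ Q
  cz : α * z = z * α
  nc : ∃ q ∈ Q, α * q ≠ q * α

variable {α : G}

theorem Act.conj_conj (ha : Act Q z α) (y : G) : α * (α * y * α⁻¹) * α⁻¹ = y := by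
  have : α * (α * y * α⁻¹) * α⁻¹ = (α * α) * y * (α * α)⁻¹ := by group
  rw [this, ha.sq]; group

theorem Act.conj_Z (ha : Act Q z α) (h : ES Q z) {ζ : G} (hζ : ζ ∈ zpowers z) :
    α * ζ * α⁻¹ = ζ := by
  rcases (mem_Z_iff h.z_sq).mp hζ with rfl | rfl
  · simp
  · rw [ha.cz]; group

theorem phi_mem (ha : Act Q z α) {q : G} (hq : q ∈ Q) : α * q * α⁻¹ * q⁻¹ ∈ Q :=
  Q.mul_mem (ha.norm q hq) (Q.inv_mem hq)

theorem phi_phi_mem (ha : Act Q z α) (h : ES Q z) {q : G} (hq : q ∈ Q) :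
    α * (α * q * α⁻¹ * q⁻¹) * α⁻¹ * (α * q * α⁻¹ * q⁻¹)⁻¹ ∈ zpowers z := by
  have e1 : ∀ p : G, α * (p * q⁻¹) * α⁻¹ * (p * q⁻¹)⁻¹ =
      (α * p * α⁻¹) * (α * q * α⁻¹)⁻¹ * q * p⁻¹ := by
    intro p; group
  have e2 : α * (α * q * α⁻¹ * q⁻¹) * α⁻¹ * (α * q * α⁻¹ * q⁻¹)⁻¹ =
      (q * (α * q * α⁻¹)⁻¹) ^ 2 := by
    rw [e1 (α * q * α⁻¹), ha.conj_conj, pow_two]
    simp only [mul_assoc]
  rw [e2]
  exact h.sq_mem (Q.mul_mem hq (Q.inv_mem (ha.norm q hq)))

theorem phi_comm (ha : Act Q z α) (h : ES Q z) {q c : G} (hq : q ∈ Q) (hc : c ∈ Q)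
    (hcz : α * c * α⁻¹ * c⁻¹ ∈ zpowers z) :
    c * (α * q * α⁻¹ * q⁻¹) = (α * q * α⁻¹ * q⁻¹) * c := by
  have hp : α * q * α⁻¹ ∈ Q := ha.norm q hq
  have h1 : ⁅α * q * α⁻¹ * q⁻¹, c⁆ = ⁅α * q * α⁻¹, c⁆ * ⁅q⁻¹, c⁆ :=
    h.comm_mul_left hp (Q.inv_mem hq) hc
  have h2 : ⁅α * q * α⁻¹, c⁆ = ⁅q, c⁆ := by
    have e : α * c * α⁻¹ = (α * c * α⁻¹ * c⁻¹) * c := by group
    have h3 : ⁅α * q * α⁻¹, α * c * α⁻¹⁆ = ⁅α * q * α⁻¹, c⁆ := by
      rw [e]; exact h.comm_Z_right hc hcz hp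
    have h4 : ⁅α * q * α⁻¹, α * c * α⁻¹⁆ = α * ⁅q, c⁆ * α⁻¹ := by
      simp only [commutatorElement_def]; group
    rw [← h3, h4]
    exact ha.conj_Z h (h.comm_mem hq hc)
  have h5 : ⁅q, c⁆ * ⁅q⁻¹, c⁆ = 1 := by
    rw [← h.comm_mul_left hq (Q.inv_mem hq) hc, mul_inv_cancel]
    simp
  rw [h2, h5] at h1
  rw [commutatorElement_eq_one_iff_mul_comm] at h1
  exact h1.symm

theorem conj_phi (g q : G) :
    g * (α * q * α⁻¹ * q⁻¹) * g⁻¹ = (α * g * α⁻¹ * g⁻¹)⁻¹ * (α * (g * q) * α⁻¹ * (g * q)⁻¹) := by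
  group

theorem main_abs [Finite G] (h : ES Q z) (ha : Act Q z α) (Q₀ : Subgroup G)
    (hQ₀ : ∀ q : G, q ∈ Q₀ ↔ (q ∈ Q ∧ α * q * α⁻¹ * q⁻¹ ∈ zpowers z)) :
    closure ((fun q : G => α * q * α⁻¹ * q⁻¹) '' (Q : Set G)) =
      (center ↥Q₀).map Q₀.subtype := by
  classical
  set K := closure ((fun q : G => α * q * α⁻¹ * q⁻¹) '' (Q : Set G)) with hK
  have hQ₀Q : Q₀ ≤ Q := fun q hq => ((hQ₀ q).mp hq).1
  have hgen : ∀ q ∈ Q, α * q * α⁻¹ * q⁻¹ ∈ K := fun q hq =>
    subset_closure ⟨q, hq, rfl⟩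
  have hKQ : K ≤ Q := by
    rw [hK, closure_le]
    rintro _ ⟨q, hq, rfl⟩
    exact phi_mem ha hq
  have hKQ₀ : K ≤ Q₀ := by
    rw [hK, closure_le]
    rintro _ ⟨q, hq, rfl⟩
    exact (hQ₀ _).mpr ⟨phi_mem ha hq, phi_phi_mem ha h hq⟩
  have hKD : K ≤ Q ⊓ centralizer (Q₀ : Set G) := by
    rw [hK, closure_le]
    rintro _ ⟨q, hq, rfl⟩
    show α * q * α⁻¹ * q⁻¹ ∈ Q ⊓ centralizer (Q₀ : Set G)
    rw [mem_inf, mem_centralizer_iff]
    refine ⟨phi_mem ha hq, ?_⟩
    intro c hc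
    exact phi_comm ha h hq (hQ₀Q hc) ((hQ₀ c).mp hc).2
  -- `z ∈ K`
  have hzK : z ∈ K := by
    obtain ⟨q₁, hq₁, hne⟩ := ha.nc
    set k := α * q₁ * α⁻¹ * q₁⁻¹ with hk
    have hk1 : k ≠ 1 := by
      intro h1
      apply hne
      have : α * q₁ = k * q₁ * α := by rw [hk]; group
      rw [this, h1, one_mul]
    have hkK : k ∈ K := hgen q₁ hq₁
    have hkQ : k ∈ Q := hKQ hkK
    by_cases hkZ : k ∈ zpowers z
    · rcases (mem_Z_iff h.z_sq).mp hkZ with h1 | h1
      · exact absurd h1 hk1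
      · rw [← h1]; exact hkK
    · have hnc : ¬ ∀ q ∈ Q, q * k = k * q := by
        intro hall
        exact hkZ ((mem_Z_iff h.z_sq).mpr (h.cen k hkQ hall))
      push Not at hnc
      obtain ⟨g, hg, hgk⟩ := hnc
      have hc1 : ⁅g, k⁆ ≠ 1 := by
        intro hc
        rw [commutatorElement_eq_one_iff_mul_comm] at hc
        exact hgk hc
      have hcz : ⁅g, k⁆ = z := by
        rcases h.comm g hg k hkQ with h1 | h1
        · exact absurd h1 hc1
        · exact h1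
      have hconj : g * k * g⁻¹ ∈ K := by
        rw [hk, conj_phi]
        exact K.mul_mem (K.inv_mem (hgen g hg)) (hgen (g * q₁) (Q.mul_mem hg hq₁))
      have : ⁅g, k⁆ ∈ K := by
        rw [commutatorElement_def]
        exact K.mul_mem hconj (K.inv_mem hkK)
      rw [← hcz]; exact this
  have hZK : zpowers z ≤ K := zpowers_le.mpr hzK
  have hZQ₀ : zpowers z ≤ Q₀ := hZK.trans hKQ₀
  -- counting `K`
  have hcount : 2 * Nat.card Q ≤ Nat.card Q₀ * Nat.card K := by
    have hZKn : ((zpowers z).subgroupOf K).Normal := by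
      constructor
      intro n hn g
      rw [mem_subgroupOf] at hn ⊢
      have : ((g * n * g⁻¹ : K) : G) = (n : G) := by
        have hc := h.Z_central hn (hKQ g.2)
        simp only [Subgroup.coe_mul, Subgroup.coe_inv]
        rw [hc]; group
      rw [this]; exact hn
    have hZKcard : Nat.card ((zpowers z).subgroupOf K) = 2 := by
      rw [← card_Z h.z_sq h.z_ne]
      exact Nat.card_congr (subgroupOfEquivOfLe hZK).toEquiv
    let ψ : ↥Q →* (↥K ⧸ (zpowers z).subgroupOf K) := MonoidHom.mk'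
      (fun q => QuotientGroup.mk (⟨α * (q : G) * α⁻¹ * (q : G)⁻¹, hgen q q.2⟩ : K)) (by
        intro a b
        rw [← QuotientGroup.mk_mul, QuotientGroup.eq, mem_subgroupOf]
        have hφb : α * (b : G) * α⁻¹ * (b : G)⁻¹ ∈ Q := phi_mem ha b.2
        have hcomm : ⁅(a : G), α * (b : G) * α⁻¹ * (b : G)⁻¹⁆ ∈ zpowers z := h.comm_mem a.2 hφb
        have e : (((⟨α * ((a * b : Q) : G) * α⁻¹ * ((a * b : Q) : G)⁻¹, hgen _ (a * b).2⟩ : K)⁻¹ *
            ((⟨α * (a : G) * α⁻¹ * (a : G)⁻¹, hgen a a.2⟩ : K) *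
            ⟨α * (b : G) * α⁻¹ * (b : G)⁻¹, hgen b b.2⟩) : K) : G) =
            (α * (b : G) * α⁻¹ * (b : G)⁻¹)⁻¹ * (⁅(a : G), α * (b : G) * α⁻¹ * (b : G)⁻¹⁆)⁻¹ *
              (α * (b : G) * α⁻¹ * (b : G)⁻¹) := by
          simp only [Subgroup.coe_mul, Subgroup.coe_inv, commutatorElement_def]
          group
        rw [e]
        have hci : (⁅(a : G), α * (b : G) * α⁻¹ * (b : G)⁻¹⁆)⁻¹ ∈ zpowers z := inv_mem hcomm
        have hc := h.Z_central hci hφb
        have : (α * (b : G) * α⁻¹ * (b : G)⁻¹)⁻¹ * (⁅(a : G), α * (b : G) * α⁻¹ * (b : G)⁻¹⁆)⁻¹ *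
              (α * (b : G) * α⁻¹ * (b : G)⁻¹) = (⁅(a : G), α * (b : G) * α⁻¹ * (b : G)⁻¹⁆)⁻¹ := by
          rw [mul_assoc, ← hc]; group
        rw [this]; exact hci)
    have h1 := Subgroup.card_mul_index ψ.ker
    rw [Subgroup.index_ker] at h1
    have h2 : Nat.card ψ.range ≤ Nat.card (↥K ⧸ (zpowers z).subgroupOf K) :=
      Subgroup.card_le_card_group _
    have h3 : Nat.card (↥K ⧸ (zpowers z).subgroupOf K) * 2 = Nat.card K := by
      have := Subgroup.card_mul_index ((zpowers z).subgroupOf K)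
      rw [hZKcard, Subgroup.index_eq_card] at this
      rw [mul_comm]; exact this
    have h4 : Nat.card ψ.ker = Nat.card Q₀ := by
      refine Nat.card_congr
        ⟨fun a => ⟨((a : Q) : G), ?_⟩, fun b => ⟨⟨b.1, hQ₀Q b.2⟩, ?_⟩, ?_, ?_⟩
      · rw [hQ₀]
        refine ⟨(a : Q).2, ?_⟩
        have hk := a.2
        rw [MonoidHom.mem_ker] at hk
        have hk' : (QuotientGroup.mk (⟨α * ((a : Q) : G) * α⁻¹ * ((a : Q) : G)⁻¹,
            hgen _ (a : Q).2⟩ : K) : ↥K ⧸ (zpowers z).subgroupOf K) = 1 := hk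
        rw [QuotientGroup.eq_one_iff, mem_subgroupOf] at hk'
        exact hk'
      · rw [MonoidHom.mem_ker]
        show (QuotientGroup.mk (⟨α * (b.1 : G) * α⁻¹ * (b.1 : G)⁻¹, hgen _ (hQ₀Q b.2)⟩ : K) :
          ↥K ⧸ (zpowers z).subgroupOf K) = 1
        rw [QuotientGroup.eq_one_iff, mem_subgroupOf]
        exact ((hQ₀ b.1).mp b.2).2
      · intro a; rfl
      · intro b; rfl
    calc 2 * Nat.card Q = 2 * (Nat.card ψ.ker * Nat.card ψ.range) := by rw [h1]
      _ ≤ 2 * (Nat.card Q₀ * Nat.card (↥K ⧸ (zpowers z).subgroupOf K)) := by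
          rw [h4]; exact Nat.mul_le_mul_left _ (Nat.mul_le_mul_left _ h2)
      _ = Nat.card Q₀ * (Nat.card (↥K ⧸ (zpowers z).subgroupOf K) * 2) := by ring
      _ = Nat.card Q₀ * Nat.card K := by rw [h3]
  have hbound := h.cent_bound (Nat.card Q - Nat.card Q₀) Q₀ hZQ₀ hQ₀Q le_rfl
  have hKD' : K = Q ⊓ centralizer (Q₀ : Set G) := by
    apply eq_of_le_of_card_ge hKD
    have hpos : 0 < Nat.card Q₀ := Nat.card_pos
    have : Nat.card (Q ⊓ centralizer (Q₀ : Set G) : Subgroup G) * Nat.card Q₀ ≤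
        Nat.card K * Nat.card Q₀ := by
      calc _ ≤ 2 * Nat.card Q := hbound
        _ ≤ Nat.card Q₀ * Nat.card K := hcount
        _ = Nat.card K * Nat.card Q₀ := mul_comm _ _
    exact Nat.le_of_mul_le_mul_right this hpos
  ext x
  rw [mem_map]
  constructor
  · intro hx
    refine ⟨⟨x, hKQ₀ hx⟩, ?_, rfl⟩
    rw [mem_center_iff]
    intro g
    apply Subtype.ext
    have := hKD hx
    rw [mem_inf, mem_centralizer_iff] at this
    exact this.2 g g.2
  · rintro ⟨c, hc, rfl⟩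
    rw [hKD', mem_inf, mem_centralizer_iff]
    refine ⟨hQ₀Q c.2, ?_⟩
    intro g hg
    rw [mem_center_iff] at hc
    exact congrArg Subtype.val (hc ⟨g, hg⟩)

end MainAbs
end Abstract

section Concrete
variable {G : Type*} [Group G] [Finite G]

theorem mem_Q_iff {z : G} {x : G} :
    x ∈ (Cfsg.generalizedFittingSubgroup ↥(centralizer ({z} : Set G))).map
        (centralizer ({z} : Set G)).subtype ↔
      ∃ hx : x ∈ centralizer ({z} : Set G),
        (⟨x, hx⟩ : ↥(centralizer ({z} : Set G))) ∈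
          Cfsg.generalizedFittingSubgroup ↥(centralizer ({z} : Set G)) := by
  rw [mem_map]
  constructor
  · rintro ⟨c, hc, rfl⟩
    exact ⟨c.2, hc⟩
  · rintro ⟨hx, hc⟩
    exact ⟨⟨x, hx⟩, hc, rfl⟩

theorem es_of_hyp (z : G) (hz : orderOf z = 2)
    (hE : Cfsg.IsExtraspecial 2 ↥(Cfsg.generalizedFittingSubgroup ↥(centralizer ({z} : Set G)))) :
    ES ((Cfsg.generalizedFittingSubgroup ↥(centralizer ({z} : Set G))).map
        (centralizer ({z} : Set G)).subtype) z := by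
  classical
  have : Fact (Nat.Prime 2) := ⟨Nat.prime_two⟩
  set C := centralizer ({z} : Set G) with hC
  set F := Cfsg.generalizedFittingSubgroup ↥C with hF
  obtain ⟨⟨hp, hfr, hcm⟩, hcard⟩ := hE
  have hz1 : z ≠ 1 := by
    intro h1
    rw [h1, orderOf_one] at hz
    omega
  have hzz : z * z = 1 := by
    rw [← pow_two, ← hz]; exact pow_orderOf_eq_one z
  have hzC : z ∈ C := by
    rw [hC, mem_centralizer_iff]
    intro g hg
    rw [Set.mem_singleton_iff] at hg
    rw [hg]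
  have hCz : ∀ c : ↥C, (c : G) * z = z * (c : G) := by
    intro c
    have := (mem_centralizer_iff.mp c.2) z (Set.mem_singleton z)
    exact this.symm
  have hzF : (⟨z, hzC⟩ : ↥C) ∈ F := by
    apply Cfsg.Agent.Lib.H7.centralizer_generalizedFittingSubgroup_le
    rw [mem_centralizer_iff]
    intro c _
    apply Subtype.ext
    exact hCz c
  set zF : ↥F := ⟨⟨z, hzC⟩, hzF⟩ with hzFdef
  have hzFz : zF * zF = 1 := by
    apply Subtype.ext; apply Subtype.ext
    exact hzz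
  have hzF1 : zF ≠ 1 := by
    intro h1
    apply hz1
    have h2 : ((zF : ↥C) : G) = ((1 : ↥F) : ↥C) := congrArg (fun w : ↥F => ((w : ↥C) : G)) h1
    exact h2
  have hzFc : zF ∈ center ↥F := by
    rw [mem_center_iff]
    intro g
    apply Subtype.ext; apply Subtype.ext
    exact hCz (g : ↥C)
  have hcen : center ↥F = zpowers zF := by
    symm
    apply eq_of_le_of_card_ge (zpowers_le.mpr hzFc)
    rw [hcard, card_Z hzFz hzF1]
  have hcenmem : ∀ x : ↥F, x ∈ center ↥F → x = 1 ∨ x = zF := by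
    intro x hx
    rw [hcen] at hx
    exact (mem_Z_iff hzFz).mp hx
  have hval : ∀ x : ↥F, (x = 1 ∨ x = zF) → (((x : ↥C) : G) = 1 ∨ ((x : ↥C) : G) = z) := by
    rintro x (rfl | rfl)
    · left; rfl
    · right; rfl
  refine ⟨mem_Q_iff.mpr ⟨hzC, hzF⟩, hz1, hzz, ?_, ?_, ?_, ?_⟩
  · intro q hq
    obtain ⟨hqC, _⟩ := mem_Q_iff.mp hq
    exact hCz ⟨q, hqC⟩
  · intro x hx hall
    obtain ⟨hxC, hxF⟩ := mem_Q_iff.mp hx
    have : (⟨⟨x, hxC⟩, hxF⟩ : ↥F) ∈ center ↥F := by
      rw [mem_center_iff]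
      intro g
      apply Subtype.ext; apply Subtype.ext
      exact hall _ (mem_Q_iff.mpr ⟨(g : ↥C).2, g.2⟩)
    exact hval _ (hcenmem _ this)
  · intro x hx y hy
    obtain ⟨hxC, hxF⟩ := mem_Q_iff.mp hx
    obtain ⟨hyC, hyF⟩ := mem_Q_iff.mp hy
    have : ⁅(⟨⟨x, hxC⟩, hxF⟩ : ↥F), (⟨⟨y, hyC⟩, hyF⟩ : ↥F)⁆ ∈ center ↥F := by
      rw [← hcm]
      exact commutator_mem_commutator (mem_top _) (mem_top _)
    have h2 := hval _ (hcenmem _ this)
    simpa [commutatorElement_def] using h2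
  · intro x hx
    obtain ⟨hxC, hxF⟩ := mem_Q_iff.mp hx
    have : (⟨⟨x, hxC⟩, hxF⟩ : ↥F) ^ 2 ∈ center ↥F := by
      rw [← hfr]
      exact Cfsg.Agent.Lib.H1.isPGroup_pow_mem_frattini hp _
    have h2 := hval _ (hcenmem _ this)
    simpa using h2

theorem act_of_hyp (z : G) (α : G) (hα : orderOf α = 2)
    (hαC : α ∈ centralizer ({z} : Set G))
    (hαQ : α ∉ (Cfsg.generalizedFittingSubgroup ↥(centralizer ({z} : Set G))).map
      (centralizer ({z} : Set G)).subtype) :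
    Act ((Cfsg.generalizedFittingSubgroup ↥(centralizer ({z} : Set G))).map
        (centralizer ({z} : Set G)).subtype) z α := by
  classical
  set C := centralizer ({z} : Set G) with hC
  set F := Cfsg.generalizedFittingSubgroup ↥C with hF
  have hFn : F.Normal := Cfsg.Agent.Lib.H9.generalizedFittingSubgroup_normal ↥C
  refine ⟨?_, ?_, ?_, ?_⟩
  · rw [← pow_two, ← hα]; exact pow_orderOf_eq_one α
  · intro q hq
    obtain ⟨hqC, hqF⟩ := mem_Q_iff.mp hq
    have := hFn.conj_mem _ hqF ⟨α, hαC⟩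
    exact mem_Q_iff.mpr ⟨C.mul_mem (C.mul_mem hαC hqC) (C.inv_mem hαC), this⟩
  · have := (mem_centralizer_iff.mp hαC) z (Set.mem_singleton z)
    exact this.symm
  · by_contra hall
    push Not at hall
    apply hαQ
    apply mem_Q_iff.mpr
    refine ⟨hαC, ?_⟩
    apply Cfsg.Agent.Lib.H7.centralizer_generalizedFittingSubgroup_le
    rw [mem_centralizer_iff]
    intro c hc
    apply Subtype.ext
    exact (hall _ (mem_Q_iff.mpr ⟨c.2, hc⟩)).symm

end Concrete


/-- Let G be a finite group and let z be an involution of G such that Q, the generalized Fitting subgroup of the centralizer C of z, is a 2-group of symplectic type (every characteristic abelian subgroup of Q is cyclic); suppose Q is extraspecial, and view Q inside G. Let α be an involution of C that is not in Q, and let Q₀ be the subgroup of those q ∈ Q whose commutator with α lies in the subgroup generated by z. Then (a) the subgroup generated by the commutators α q α⁻¹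 q⁻¹, q ∈ Q, equals the centre of Q₀; and (b) if Q₀ is not contained in the product of the centralizer of α in Q with the subgroup generated by z, then some element of Q conjugates α to α z. -/
theorem result {G : Type*} [Group G] [Finite G] (z : G) (hz : orderOf z = 2) (hQ : Cfsg.IsOfSymplecticType ↥(Cfsg.generalizedFittingSubgroup ↥(Subgroup.centralizer ({z} : Set G)))) (hE : Cfsg.IsExtraspecial 2 ↥(Cfsg.generalizedFittingSubgroup ↥(Subgroup.centralizer ({z} : Set G))))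
    (α : G) (hα : orderOf α = 2) (hαC : α ∈ Subgroup.centralizer ({z} : Set G)) (hαQ : α ∉ (Cfsg.generalizedFittingSubgroup ↥(Subgroup.centralizer ({z} : Set G))).map (Subgroup.centralizer ({z} : Set G)).subtype)
    (Q₀ : Subgroup G) (hQ₀ : ∀ q : G, q ∈ Q₀ ↔ (q ∈ (Cfsg.generalizedFittingSubgroup ↥(Subgroup.centralizer ({z} : Set G))).map (Subgroup.centralizer ({z} : Set G)).subtype ∧ α * q * α⁻¹ * q⁻¹ ∈ Subgroup.zpowers z)) :
    Subgroup.closure ((fun q : G => α * q * α⁻¹ * q⁻¹) '' ((Cfsg.generalizedFittingSubgroup ↥(Subgroup.centralizer ({z} : Set G))).map (Subgroup.centralizer ({z} : Set G)).subtype : Set G)) = (Subgroup.center ↥Q₀).map Q₀.subtype ∧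
      (¬ Q₀ ≤ ((Cfsg.generalizedFittingSubgroup ↥(Subgroup.centralizer ({z} : Set G))).map (Subgroup.centralizer ({z} : Set G)).subtype ⊓ Subgroup.centralizer ({α} : Set G)) ⊔ Subgroup.zpowers z →
        ∃ q ∈ (Cfsg.generalizedFittingSubgroup ↥(Subgroup.centralizer ({z} : Set G))).map (Subgroup.centralizer ({z} : Set G)).subtype, q * α * q⁻¹ = α * z) := by
  have hes := es_of_hyp z hz hE
  have hact := act_of_hyp z α hα hαC hαQ
  refine ⟨main_abs hes hact Q₀ hQ₀, ?_⟩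
  intro hnle
  obtain ⟨q₀, hq₀, hq₀n⟩ := SetLike.not_le_iff_exists.mp hnle
  obtain ⟨hq₀Q, hφ⟩ := (hQ₀ q₀).mp hq₀
  refine ⟨q₀, hq₀Q, ?_⟩
  have hαi : α⁻¹ = α := inv_eq_of_mul_eq_one_left hact.sq
  rcases (mem_Z_iff hes.z_sq).mp hφ with h1 | h1
  · exfalso
    apply hq₀n
    apply Subgroup.mem_sup_left
    rw [Subgroup.mem_inf, Subgroup.mem_centralizer_iff]
    refine ⟨hq₀Q, ?_⟩
    intro g hg
    rw [Set.mem_singleton_iff] at hg
    rw [hg]
    calc α * q₀ = (α * q₀ * α⁻¹ * q₀⁻¹) * q₀ * α := by group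
      _ = q₀ * α := by rw [h1, one_mul]
  · rw [hαi] at h1
    calc q₀ * α * q₀⁻¹ = (α * α) * q₀ * α * q₀⁻¹ := by rw [hact.sq, one_mul]
      _ = α * (α * q₀ * α * q₀⁻¹) := by simp only [mul_assoc]
      _ = α * z := by rw [h1]


end Cfsg.Agent.S1784
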