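import Cfsg.Statements.S1785
import Cfsg.Agent.Lib.H3.Thompson
import Cfsg.Agent.Lib.H19.HallPi
import Cfsg.Agent.Lib.H10.LocalGlobalGen
-- import your own Cfsg.Agent.* helpers here

set_option autoImplicit false
open Cfsg

namespace Cfsg.Agent.S1785

open Cfsg.Agent.Lib

section
variable {X : Type*} [Group X] [Finite X]

/-- An involution normalizing an elementary abelian 2-group `M` has at least `sqrt |M|` fixed
points on it. -/
theorem card_le_sq (M : Subgroup X) (hM : Cfsg.IsElementaryAbelian 2 M) (a : X) (ha : a * a = 1)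
    (hn : ∀ m ∈ M, a * m * a⁻¹ ∈ M) :
    Nat.card M ≤ Nat.card (M ⊓ Subgroup.centralizer ({a} : Set X) : Subgroup X) ^ 2 := by
  classical
  have hcomm : ∀ x ∈ M, ∀ y ∈ M, x * y = y * x := by
    intro x hx y hy
    have := hM.1
    have h := mul_comm' (⟨x, hx⟩ : ↥M) ⟨y, hy⟩
    exact congrArg Subtype.val h
  have hsq : ∀ x ∈ M, x * x = 1 := fun x hx => by
    have := hM.2 x hx; rwa [pow_two] at this
  have hainv : a⁻¹ = a := inv_eq_of_mul_eq_one_left ha
  let φ : ↥M →* ↥M :=
    { toFun := fun m => ⟨m * (a * m * a⁻¹), M.mul_mem m.2 (hn m m.2)⟩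
      map_one' := by
        apply Subtype.ext
        simp
      map_mul' := by
        intro m n
        apply Subtype.ext
        show (m : X) * n * (a * ((m : X) * n) * a⁻¹) = m * (a * m * a⁻¹) * (n * (a * n * a⁻¹))
        have h1 := hcomm _ n.2 _ (hn m m.2)
        calc (m : X) * n * (a * ((m : X) * n) * a⁻¹)
            = m * (n * (a * m * a⁻¹)) * (a * n * a⁻¹) := by group
          _ = m * ((a * m * a⁻¹) * n) * (a * n * a⁻¹) := by rw [h1]
          _ = m * (a * m * a⁻¹) * (n * (a * n * a⁻¹)) := by group }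
  set C := (M ⊓ Subgroup.centralizer ({a} : Set X) : Subgroup X) with hC
  have hφ : ∀ m : ↥M, ((φ m : ↥M) : X) = m * (a * m * a⁻¹) := fun m => rfl
  have hkerC : ∀ m : ↥M, φ m = 1 → (m : X) ∈ C := by
    intro m hm
    refine ⟨m.2, ?_⟩
    show (m : X) ∈ Subgroup.centralizer ({a} : Set X)
    rw [Subgroup.mem_centralizer_singleton_iff]
    have h1 : (m : X) * (a * (m : X) * a⁻¹) = 1 := by
      rw [← hφ, hm]; rfl
    have h2 := hsq _ m.2
    have h3 : a * (m : X) * a⁻¹ = (m : X) := by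
      have e1 : a * (m : X) * a⁻¹ = (m : X)⁻¹ := (inv_eq_of_mul_eq_one_right h1).symm
      rw [e1]; exact inv_eq_of_mul_eq_one_left h2
    calc (m : X) * a = (a * (m : X) * a⁻¹) * a := by rw [h3]
      _ = a * (m : X) := by group
  have hrangeC : ∀ m : ↥M, ((φ m : ↥M) : X) ∈ C := by
    intro m
    refine ⟨(φ m).2, ?_⟩
    show ((φ m : ↥M) : X) ∈ Subgroup.centralizer ({a} : Set X)
    rw [Subgroup.mem_centralizer_singleton_iff, hφ]
    have h1 := hcomm _ m.2 _ (hn m m.2)
    calc (m : X) * (a * m * a⁻¹) * a = (m : X) * a * m := by group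
      _ = (m : X) * a * m * (a * a) := by rw [ha, mul_one]
      _ = ((m : X) * (a * m * a⁻¹)) * a * a * a := by group
      _ = ((a * m * a⁻¹) * (m : X)) * a * a * a := by rw [h1]
      _ = a * (m : X) * (a⁻¹ * m * a) * (a * a) := by group
      _ = a * (m : X) * (a⁻¹ * m * a) := by rw [ha, mul_one]
      _ = a * ((m : X) * (a * m * a⁻¹)) := by rw [hainv]; group
  have hker : Nat.card φ.ker ≤ Nat.card C := by
    apply Nat.card_le_card_of_injective
      (fun k : φ.ker => (⟨((k : ↥M) : X), hkerC k (MonoidHom.mem_ker.mp k.2)⟩ : C))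
    intro k1 k2 h
    have := congrArg (fun c : C => (c : X)) h
    exact Subtype.ext (Subtype.ext this)
  have hrange : Nat.card φ.range ≤ Nat.card C := by
    apply Nat.card_le_card_of_injective
      (fun r : φ.range => (⟨((r : ↥M) : X), by
        obtain ⟨m, hm⟩ := r.2
        rw [← hm]; exact hrangeC m⟩ : C))
    intro r1 r2 h
    have := congrArg (fun c : C => (c : X)) h
    exact Subtype.ext (Subtype.ext this)
  have hcard : Nat.card M = Nat.card φ.ker * Nat.card φ.range := by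
    rw [← Subgroup.index_ker, Subgroup.card_mul_index]
  rw [hcard, pow_two]
  exact Nat.mul_le_mul hker hrange

/-- fixed points of `E` under `T` -/
def fixE (E T : Subgroup X) : Subgroup X := E ⊓ Subgroup.centralizer (T : Set X)

theorem mono_fix (E : Subgroup X) [hEn : E.Normal] (hE : Cfsg.IsElementaryAbelian 2 E)
    (T : Subgroup X) (hT : Cfsg.IsElementaryAbelian 2 T) :
    ∀ n : ℕ, ∀ T₀ : Subgroup X, T₀ ≤ T → Nat.card T - Nat.card T₀ = n →
      Nat.card (fixE E T₀) ^ Nat.card T₀ ≤ Nat.card (fixE E T) ^ Nat.card T := by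
  intro n
  induction n using Nat.strong_induction_on with
  | _ n ih =>
  intro T₀ hT₀ hn
  by_cases heq : T₀ = T
  · rw [heq]
  have hlt : T₀ < T := lt_of_le_of_ne hT₀ heq
  obtain ⟨a, haT, haT₀⟩ := SetLike.exists_of_lt hlt
  set T₁ := T₀ ⊔ Subgroup.zpowers a with hT₁
  have hT₁T : T₁ ≤ T := sup_le hT₀ (by rw [Subgroup.zpowers_le]; exact haT)
  have hT₀T₁ : T₀ < T₁ := by
    refine lt_of_le_of_ne le_sup_left ?_
    intro h
    apply haT₀
    rw [h]
    exact Subgroup.mem_sup_right (Subgroup.mem_zpowers a)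
  have hc01 : Nat.card T₀ < Nat.card T₁ := H10.card_lt_card_of_lt hT₀T₁
  have hd01 : Nat.card T₀ ∣ Nat.card T₁ := Subgroup.card_dvd_of_le hT₀T₁.le
  have hc1 : Nat.card T₁ ≤ Nat.card T := Subgroup.card_le_of_le hT₁T
  have h2 : 2 * Nat.card T₀ ≤ Nat.card T₁ := by
    obtain ⟨k, hk⟩ := hd01
    have hpos : 0 < Nat.card T₀ := Nat.card_pos
    have hk2 : 2 ≤ k := by
      by_contra hk'
      push Not at hk'
      interval_cases k
      · omega
      · omega
    rw [hk]
    calc 2 * Nat.card T₀ = Nat.card T₀ * 2 := by ring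
      _ ≤ Nat.card T₀ * k := Nat.mul_le_mul_left _ hk2
  have ih1 := ih (Nat.card T - Nat.card T₁) (by omega) T₁ hT₁T rfl
  -- the key step
  have hTcomm : ∀ x ∈ T, ∀ y ∈ T, x * y = y * x := by
    intro x hx y hy
    have := hT.1
    have h := mul_comm' (⟨x, hx⟩ : ↥T) ⟨y, hy⟩
    exact congrArg Subtype.val h
  have haa : a * a = 1 := by
    have := hT.2 a haT; rwa [pow_two] at this
  set M := fixE E T₀ with hM
  have hME : M ≤ E := inf_le_left
  have hMel : Cfsg.IsElementaryAbelian 2 M := H3.elemAb_mono hME hE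
  have hn' : ∀ m ∈ M, a * m * a⁻¹ ∈ M := by
    intro m hm
    refine ⟨hEn.conj_mem m hm.1 a, ?_⟩
    show a * m * a⁻¹ ∈ Subgroup.centralizer (T₀ : Set X)
    rw [Subgroup.mem_centralizer_iff]
    intro t ht
    have h1 := (Subgroup.mem_centralizer_iff.mp hm.2) t ht
    have h2 := hTcomm a haT t (hT₀ ht)
    have h3 : t * a⁻¹ = a⁻¹ * t := by
      calc t * a⁻¹ = a⁻¹ * (a * t) * a⁻¹ := by group
        _ = a⁻¹ * (t * a) * a⁻¹ := by rw [h2]
        _ = a⁻¹ * t := by group
    calc t * (a * m * a⁻¹) = (t * a) * m * a⁻¹ := by group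
      _ = (a * t) * m * a⁻¹ := by rw [h2]
      _ = a * (t * m) * a⁻¹ := by group
      _ = a * (m * t) * a⁻¹ := by rw [h1]
      _ = a * m * (t * a⁻¹) := by group
      _ = a * m * (a⁻¹ * t) := by rw [h3]
      _ = a * m * a⁻¹ * t := by group
  have hsq := card_le_sq M hMel a haa hn'
  have hsub : (M ⊓ Subgroup.centralizer ({a} : Set X) : Subgroup X) ≤ fixE E T₁ := by
    intro x hx
    refine ⟨hx.1.1, ?_⟩
    show x ∈ Subgroup.centralizer (T₁ : Set X)
    have h1 : T₀ ≤ Subgroup.centralizer ({x} : Set X) := by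
      intro t ht
      rw [Subgroup.mem_centralizer_singleton_iff]
      exact ((Subgroup.mem_centralizer_iff.mp hx.1.2) t ht)
    have h2 : Subgroup.zpowers a ≤ Subgroup.centralizer ({x} : Set X) := by
      rw [Subgroup.zpowers_le, Subgroup.mem_centralizer_singleton_iff]
      have := Subgroup.mem_centralizer_singleton_iff.mp hx.2
      exact this.symm
    rw [Subgroup.mem_centralizer_iff]
    intro t ht
    have := (sup_le h1 h2) ht
    rw [Subgroup.mem_centralizer_singleton_iff] at this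
    exact this
  have hle : Nat.card M ≤ Nat.card (fixE E T₁) ^ 2 :=
    hsq.trans (Nat.pow_le_pow_left (Subgroup.card_le_of_le hsub) 2)
  have hpos1 : 0 < Nat.card (fixE E T₁) := Nat.card_pos
  calc Nat.card M ^ Nat.card T₀ ≤ (Nat.card (fixE E T₁) ^ 2) ^ Nat.card T₀ :=
        Nat.pow_le_pow_left hle _
    _ = Nat.card (fixE E T₁) ^ (2 * Nat.card T₀) := by rw [← pow_mul]
    _ ≤ Nat.card (fixE E T₁) ^ Nat.card T₁ := Nat.pow_le_pow_right hpos1 h2
    _ ≤ Nat.card (fixE E T) ^ Nat.card T := ih1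

theorem exists_fixed_outside (E : Subgroup X) [hEn : E.Normal] (hE : Cfsg.IsElementaryAbelian 2 E)
    (hE32 : 32 ≤ Nat.card ↥E) (A : Subgroup X) (hA : Cfsg.IsElementaryAbelian 2 A)
    (hc : Nat.card A = 8 ∨ Nat.card A = 4) :
    ∃ e ∈ E, e ∈ Subgroup.centralizer (A : Set X) ∧ e ∉ A := by
  by_contra hno
  push Not at hno
  set T₀ := A ⊓ E with hT₀
  have h1 := mono_fix E hE A hA _ T₀ inf_le_left rfl
  have hEcomm : ∀ x ∈ E, ∀ y ∈ E, x * y = y * x := by
    intro x hx y hy
    have := hE.1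
    have h := mul_comm' (⟨x, hx⟩ : ↥E) ⟨y, hy⟩
    exact congrArg Subtype.val h
  have hfix0 : fixE E T₀ = E := by
    apply le_antisymm inf_le_left
    intro x hx
    refine ⟨hx, ?_⟩
    show x ∈ Subgroup.centralizer (T₀ : Set X)
    rw [Subgroup.mem_centralizer_iff]
    intro t ht
    exact hEcomm t ht.2 x hx
  have hfixA : fixE E A ≤ T₀ := by
    intro x hx
    exact ⟨hno x hx.1 hx.2, hx.1⟩
  rw [hfix0] at h1
  have h2 : Nat.card (fixE E A) ≤ Nat.card T₀ := Subgroup.card_le_of_le hfixA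
  have h3 : 32 ^ Nat.card T₀ ≤ Nat.card T₀ ^ Nat.card A :=
    calc 32 ^ Nat.card T₀ ≤ Nat.card E ^ Nat.card T₀ := Nat.pow_le_pow_left hE32 _
      _ ≤ Nat.card (fixE E A) ^ Nat.card A := h1
      _ ≤ Nat.card T₀ ^ Nat.card A := Nat.pow_le_pow_left h2 _
  have hd : Nat.card T₀ ∣ Nat.card A := Subgroup.card_dvd_of_le inf_le_left
  have hpos : 0 < Nat.card T₀ := Nat.card_pos
  rcases hc with hc | hc
  · rw [hc] at h3 hd
    have hle : Nat.card T₀ ≤ 8 := Nat.le_of_dvd (by norm_num) hd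
    generalize Nat.card T₀ = t at *
    interval_cases t <;> norm_num at h3
  · rw [hc] at h3 hd
    have hle : Nat.card T₀ ≤ 4 := Nat.le_of_dvd (by norm_num) hd
    generalize Nat.card T₀ = t at *
    interval_cases t <;> norm_num at h3

theorem extend4 (V : Subgroup X) (hV : Cfsg.IsElementaryAbelian 2 V) (hV4 : Nat.card V = 4)
    (e : X) (he2 : e ^ 2 = 1) (heC : e ∈ Subgroup.centralizer (V : Set X)) (heV : e ∉ V) :
    Cfsg.IsElementaryAbelian 2 (V ⊔ Subgroup.zpowers e) ∧ Nat.card (V ⊔ Subgroup.zpowers e : Subgroup X) = 8 := by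
  have hzc : Subgroup.zpowers e ≤ Subgroup.centralizer (V : Set X) := by
    rw [Subgroup.zpowers_le]; exact heC
  refine ⟨H3.elemAb_sup hV (H3.elemAb_zpowers he2) hzc, ?_⟩
  have hzn : Subgroup.zpowers e ≤ Subgroup.normalizer (V : Set X) :=
    hzc.trans (Subgroup.centralizer_le_normalizer (V : Set X))
  have h1 : Nat.card (Subgroup.zpowers e ⊔ V : Subgroup X) ∣ Nat.card (Subgroup.zpowers e) * Nat.card V :=
    H19.card_sup_dvd_mul_of_le_normalizer hzn
  rw [sup_comm] at h1
  have hz : Nat.card (Subgroup.zpowers e) ∣ 2 := by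
    rw [Nat.card_zpowers]; exact orderOf_dvd_of_pow_eq_one he2
  have h2 : Nat.card (V ⊔ Subgroup.zpowers e : Subgroup X) ∣ 8 := by
    refine dvd_trans h1 ?_
    rw [hV4]
    exact Nat.mul_dvd_mul_right hz 4 |>.trans (by norm_num)
  have hlt : V < V ⊔ Subgroup.zpowers e := by
    refine lt_of_le_of_ne le_sup_left ?_
    intro h
    apply heV
    rw [h]
    exact Subgroup.mem_sup_right (Subgroup.mem_zpowers e)
  have h3 : Nat.card V < Nat.card (V ⊔ Subgroup.zpowers e : Subgroup X) := H10.card_lt_card_of_lt hlt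
  have h4 : Nat.card V ∣ Nat.card (V ⊔ Subgroup.zpowers e : Subgroup X) := Subgroup.card_dvd_of_le hlt.le
  rw [hV4] at h3 h4
  have hle : Nat.card (V ⊔ Subgroup.zpowers e : Subgroup X) ≤ 8 := Nat.le_of_dvd (by norm_num) h2
  generalize Nat.card (V ⊔ Subgroup.zpowers e : Subgroup X) = t at *
  interval_cases t <;> omega

theorem step (E : Subgroup X) [hEn : E.Normal] (hE : Cfsg.IsElementaryAbelian 2 E)
    (hE32 : 32 ≤ Nat.card ↥E) (A : Subgroup X) (hA : Cfsg.IsElementaryAbelian 2 A)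
    (hA8 : Nat.card A = 8) (hAE : ¬ A ≤ E) :
    ∃ A' : Subgroup X, Cfsg.IsElementaryAbelian 2 A' ∧ Nat.card A' = 8 ∧ ⁅A, A'⁆ = ⊥ ∧
      Nat.card (A ⊓ E : Subgroup X) < Nat.card (A' ⊓ E : Subgroup X) := by
  have hp2 : Fact (Nat.Prime 2) := ⟨Nat.prime_two⟩
  obtain ⟨e, heE, heC, heA⟩ := exists_fixed_outside E hE hE32 A hA (Or.inl hA8)
  set T₀ := A ⊓ E with hT₀
  have hT₀lt : T₀ < A := by
    refine lt_of_le_of_ne inf_le_left ?_
    intro h
    apply hAE
    rw [← h]; exact inf_le_right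
  have hT₀p : IsPGroup 2 T₀ := (H3.elemAb_isPGroup hA).to_le inf_le_left
  obtain ⟨n, hn⟩ := hT₀p.exists_card_eq
  have hn2 : n ≤ 2 := by
    have h1 := H10.card_lt_card_of_lt hT₀lt
    rw [hn, hA8] at h1
    have : (2:ℕ) ^ n < 2 ^ 3 := by norm_num; exact h1
    have := (Nat.pow_lt_pow_iff_right (by norm_num : 1 < 2)).mp this
    omega
  have hK : Nat.card (T₀.subgroupOf A) = 2 ^ n := by
    rw [H3.card_subgroupOf_of_le inf_le_left, hn]
  have hdvd : 2 ^ 2 ∣ Nat.card ↥A := by rw [hA8]; norm_num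
  obtain ⟨B', hB'card, hB'le⟩ := Sylow.exists_subgroup_card_pow_prime_le 2 hdvd (T₀.subgroupOf A) hK hn2
  set B := B'.map A.subtype with hB
  have hBcard : Nat.card B = 4 := by
    rw [hB, H3.card_map_subtype, hB'card]; norm_num
  have hBA : B ≤ A := Subgroup.map_subtype_le _
  have hT₀B : T₀ ≤ B := by
    intro x hx
    exact ⟨⟨x, hx.1⟩, hB'le (Subgroup.mem_subgroupOf.mpr hx), rfl⟩
  have hBel : Cfsg.IsElementaryAbelian 2 B := H3.elemAb_mono hBA hA
  have heCB : e ∈ Subgroup.centralizer (B : Set X) :=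
    Subgroup.centralizer_le (by exact_mod_cast hBA) heC
  have heB : e ∉ B := fun h => heA (hBA h)
  have he2 : e ^ 2 = 1 := hE.2 e heE
  obtain ⟨hA'el, hA'card⟩ := extend4 B hBel hBcard e he2 heCB heB
  refine ⟨B ⊔ Subgroup.zpowers e, hA'el, hA'card, ?_, ?_⟩
  · rw [Subgroup.commutator_eq_bot_iff_le_centralizer, Subgroup.le_centralizer_iff]
    apply sup_le
    · have := hA.1
      exact hBA.trans (Subgroup.le_centralizer_iff_isMulCommutative.mpr hA.1)
    · rw [Subgroup.zpowers_le]; exact heC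
  · apply H10.card_lt_card_of_lt
    refine lt_of_le_of_ne (le_inf (hT₀B.trans le_sup_left) inf_le_right) ?_
    intro h
    have : e ∈ (B ⊔ Subgroup.zpowers e) ⊓ E :=
      ⟨Subgroup.mem_sup_right (Subgroup.mem_zpowers e), heE⟩
    rw [← h] at this
    exact heA this.1

end


/-- Let X be a finite 2-group having a normal elementary abelian subgroup of order at least 32. Then (a) for any two elementary abelian subgroups A, B of X of order 8 there is a chain A = A₁, A₂, …, Aₙ = B of elementary abelian subgroups of order 8 in which consecutive members commute elementwise; and (b) every elementary abelian subgroup of X of order 4 is contained in an elementary abelian subgroup of order 8. -/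
theorem result {X : Type*} [Group X] [Finite X]
    (hX : IsPGroup 2 X) (E : Subgroup X) [E.Normal] (hE : Cfsg.IsElementaryAbelian 2 E) (hE32 : 32 ≤ Nat.card ↥E) :
    (∀ A B : Subgroup X, Cfsg.IsElementaryAbelian 2 A → Nat.card ↥A = 8 → Cfsg.IsElementaryAbelian 2 B → Nat.card ↥B = 8 →
        Relation.ReflTransGen
          (fun C D : Subgroup X => Cfsg.IsElementaryAbelian 2 C ∧ Nat.card ↥C = 8 ∧ Cfsg.IsElementaryAbelian 2 D ∧ Nat.card ↥D = 8 ∧ ⁅C, D⁆ = ⊥)
          A B) ∧
      (∀ V : Subgroup X, Cfsg.IsElementaryAbelian 2 V → Nat.card ↥V = 4 →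
        ∃ A : Subgroup X, V ≤ A ∧ Cfsg.IsElementaryAbelian 2 A ∧ Nat.card ↥A = 8) := by
  classical
  have hEcomm : ∀ x ∈ E, ∀ y ∈ E, x * y = y * x := by
    intro x hx y hy
    have := hE.1
    have h := mul_comm' (⟨x, hx⟩ : ↥E) ⟨y, hy⟩
    exact congrArg Subtype.val h
  constructor
  · set R := (fun C D : Subgroup X => Cfsg.IsElementaryAbelian 2 C ∧ Nat.card ↥C = 8 ∧
      Cfsg.IsElementaryAbelian 2 D ∧ Nat.card ↥D = 8 ∧ ⁅C, D⁆ = ⊥) with hR
    have hsymm : ∀ C D : Subgroup X, R C D → R D C := by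
      intro C D h
      exact ⟨h.2.2.1, h.2.2.2.1, h.1, h.2.1, by rw [Subgroup.commutator_comm]; exact h.2.2.2.2⟩
    have key : ∀ n : ℕ, ∀ A : Subgroup X, Cfsg.IsElementaryAbelian 2 A → Nat.card A = 8 →
        8 - Nat.card (A ⊓ E : Subgroup X) = n →
        ∃ A' : Subgroup X, A' ≤ E ∧ Cfsg.IsElementaryAbelian 2 A' ∧ Nat.card A' = 8 ∧
          Relation.ReflTransGen R A A' := by
      intro n
      induction n using Nat.strong_induction_on with
      | _ n ih =>
      intro A hA hA8 hn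
      by_cases hAE : A ≤ E
      · exact ⟨A, hAE, hA, hA8, Relation.ReflTransGen.refl⟩
      · obtain ⟨A', hA'el, hA'8, hcomm, hlt⟩ := step E hE hE32 A hA hA8 hAE
        have hle : Nat.card (A' ⊓ E : Subgroup X) ≤ 8 := by
          rw [← hA'8]; exact Subgroup.card_le_of_le inf_le_left
        obtain ⟨A'', h1, h2, h3, h4⟩ := ih (8 - Nat.card (A' ⊓ E : Subgroup X)) (by omega) A' hA'el hA'8 rfl
        exact ⟨A'', h1, h2, h3, Relation.ReflTransGen.head ⟨hA, hA8, hA'el, hA'8, hcomm⟩ h4⟩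
    intro A B hA hA8 hB hB8
    obtain ⟨A', hA'E, hA'el, hA'8, hchA⟩ := key _ A hA hA8 rfl
    obtain ⟨B', hB'E, hB'el, hB'8, hchB⟩ := key _ B hB hB8 rfl
    have hAB : R A' B' := by
      refine ⟨hA'el, hA'8, hB'el, hB'8, ?_⟩
      rw [Subgroup.commutator_eq_bot_iff_le_centralizer]
      intro x hx
      rw [Subgroup.mem_centralizer_iff]
      intro y hy
      exact hEcomm y (hB'E hy) x (hA'E hx)
    have hrev : ∀ {C D : Subgroup X}, Relation.ReflTransGen R C D → Relation.ReflTransGen R D C := by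
      intro C D h
      induction h with
      | refl => exact Relation.ReflTransGen.refl
      | tail _ hcd ih => exact Relation.ReflTransGen.head (hsymm _ _ hcd) ih
    have hchB' : Relation.ReflTransGen R B' B := hrev hchB
    exact (hchA.trans (Relation.ReflTransGen.single hAB)).trans hchB'
  · intro V hV hV4
    obtain ⟨e, heE, heC, heV⟩ := exists_fixed_outside E hE hE32 V hV (Or.inr hV4)
    obtain ⟨h1, h2⟩ := extend4 V hV hV4 e (hE.2 e heE) heC heV
    exact ⟨V ⊔ Subgroup.zpowers e, le_sup_left, h1, h2⟩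


end Cfsg.Agent.S1785
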