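import Cfsg.Statements.S1850
import Cfsg.Agent.Lib.H10.CharPLocal

set_option autoImplicit false
open Cfsg

namespace Cfsg.Agent.S1850

open Cfsg.Agent.Lib.H10.CharPLocal Cfsg.Agent.Lib.H7

/-- Let G be a non-abelian finite simple QTKE-group and T a Sylow 2-subgroup of G. If U is a nontrivial 2-subgroup of G with U ∩ Z(T) ≠ 1, then F*(N_G(U)) = O₂(N_G(U)). -/
theorem result {G : Type*} [Group G] [Finite G] [IsSimpleGroup G]
    (hG : ¬ IsMulCommutative G) (hQ : Cfsg.IsQTKE G) (T : Sylow 2 G) (U : Subgroup G)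
    (hU : IsPGroup 2 ↥U) (hZ : U ⊓ ((T : Subgroup G) ⊓ Subgroup.centralizer ((T : Subgroup G) : Set G)) ≠ ⊥) :
    Subgroup.normalizer (U : Set G) ∈ Cfsg.calHe G := by
  haveI : Fact (Nat.Prime 2) := ⟨Nat.prime_two⟩
  -- an involution `z ∈ U ∩ Z(T)`
  set W : Subgroup G := U ⊓ ((T : Subgroup G) ⊓ Subgroup.centralizer ((T : Subgroup G) : Set G))
    with hW
  have hWp : IsPGroup 2 ↥W := hU.to_le inf_le_left
  have h2 : 2 ∣ Nat.card ↥W := by
    obtain ⟨k, hk⟩ := IsPGroup.iff_card.mp hWp
    rw [hk]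
    have hk0 : k ≠ 0 := by
      rintro rfl
      rw [pow_zero] at hk
      exact hZ (Subgroup.eq_bot_of_card_eq W hk)
    exact dvd_pow_self 2 hk0
  obtain ⟨z', hz'⟩ := exists_prime_orderOf_dvd_card' 2 h2
  set z : G := (z' : G) with hzdef
  have hzo : orderOf z = 2 := by rw [hzdef, Subgroup.orderOf_coe]; exact hz'
  have hzU : z ∈ U := z'.2.1
  have hzC : z ∈ Subgroup.centralizer ((T : Subgroup G) : Set G) := z'.2.2.2
  have hz1 : z ≠ 1 := by
    intro h
    rw [h, orderOf_one] at hzo
    omega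
  -- `C_G(z) = N_G(⟨z⟩)` is a 2-local containing `T`
  have hZp : IsPGroup 2 ↥(Subgroup.zpowers z) := by
    apply IsPGroup.of_card (n := 1)
    rw [Nat.card_zpowers, hzo, pow_one]
  have hZne : Subgroup.zpowers z ≠ ⊥ := by
    intro h
    exact hz1 (Subgroup.zpowers_eq_bot.mp h)
  have hTM : (T : Subgroup G) ≤ Subgroup.normalizer ((Subgroup.zpowers z : Subgroup G) : Set G) := by
    intro t ht
    have hc : z * t = t * z := Subgroup.mem_centralizer_iff.mp hzC t ht |>.symm
    apply (Subgroup.centralizer_le_normalizer _)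
    rw [Subgroup.mem_centralizer_iff]
    intro y hy
    obtain ⟨i, rfl⟩ := Subgroup.mem_zpowers_iff.mp hy
    have hcz : Commute z t := hc
    exact (hcz.zpow_left i).eq
  have hchar := hQ.2.2 _ ⟨Subgroup.zpowers z, hZp, hZne, rfl⟩ ⟨T, hTM⟩
  have hF := generalizedFittingSubgroup_eq_pCore_of_centralizer_le 2 hchar
  have hcn : Subgroup.centralizer ((Subgroup.zpowers z : Subgroup G) : Set G) =
      Subgroup.normalizer ((Subgroup.zpowers z : Subgroup G) : Set G) := by
    apply le_antisymm (Subgroup.centralizer_le_normalizer _)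
    intro g hg
    have h1 : g * z * g⁻¹ ∈ Subgroup.zpowers z :=
      (Subgroup.mem_normalizer_iff.mp hg z).mp (Subgroup.mem_zpowers z)
    have h3 : g * z * g⁻¹ = z := by
      obtain ⟨i, hi⟩ := Subgroup.mem_zpowers_iff.mp h1
      have hi2 : z ^ i = z ^ (i % 2) := by
        have := zpow_mod_orderOf z i
        rw [hzo] at this
        exact this.symm
      have hcases : i % 2 = 0 ∨ i % 2 = 1 := by omega
      rcases hcases with h0 | h0
      · rw [hi2, h0, zpow_zero] at hi
        exfalso
        apply hz1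
        have : z = g⁻¹ * (g * z * g⁻¹) * g := by group
        rw [this, ← hi]; group
      · rw [hi2, h0, zpow_one] at hi
        exact hi.symm
    rw [Subgroup.mem_centralizer_iff]
    intro y hy
    obtain ⟨i, rfl⟩ := Subgroup.mem_zpowers_iff.mp hy
    have hcz : Commute z g := by
      show z * g = g * z
      calc z * g = (g * z * g⁻¹) * g := by rw [h3]
        _ = g * z := by group
    exact (hcz.zpow_left i).eq
  have hgood : Good 2 (Subgroup.zpowers z) := by
    unfold Good
    rw [hcn]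
    exact hF
  have hgoodU : Good 2 U := hgood.of_le hU (Subgroup.zpowers_le.mpr hzU)
  exact hgoodU.normalizer hU

end Cfsg.Agent.S1850
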