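import Cfsg.Statements.S1892
import Cfsg.Agent.Lib.H10.PSolvable
import Cfsg.Agent.Lib.H10.TrivSub
import Cfsg.Agent.Lib.H7.Coprime

set_option autoImplicit false
open Cfsg

namespace Cfsg.Agent.S1892

open Cfsg.Agent.Lib.H10
open scoped commutatorElement

theorem result {S : Type*} [Group S] [Finite S] {p : ℕ} [Fact p.Prime]
    (hS : Cfsg.IsPSolvable p S) (hred : Cfsg.pPrimeCore p S = ⊥)
    (A Q : Subgroup S) (hA : IsPGroup p A) (hQ : ¬ p ∣ Nat.card Q) (hQ1 : Q ≠ ⊥)
    (hinv : ∀ a ∈ A, ∀ x ∈ Q, a * x * a⁻¹ ∈ Q) (hAQ : ⁅A, Q⁆ = Q) :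
    ⁅⁅Cfsg.pCore p S, A⁆, Q⁆ ≠ ⊥ := by
  intro hbot
  have hp : p.Prime := Fact.out
  have hPn : (Cfsg.pCore p S).Normal := Cfsg.Agent.Lib.H1.pCore_normal p S
  have hPp : IsPGroup p (Cfsg.pCore p S) := Cfsg.Agent.Lib.H1.pCore_isPGroup p S
  set P := Cfsg.pCore p S with hP
  set D := ⁅P, A⁆ with hD
  have hDP : D ≤ P := Subgroup.commutator_le_left P A
  -- `Q` centralizes `D`
  have hQD : Q ≤ Subgroup.centralizer (D : Set S) := by
    rw [Subgroup.commutator_comm, Subgroup.commutator_eq_bot_iff_le_centralizer] at hbot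
    exact hbot
  have hQND : Q ≤ Subgroup.normalizer (D : Set S) :=
    hQD.trans (Subgroup.centralizer_le_normalizer _)
  have hNP : ∀ X : Subgroup S, X ≤ Subgroup.normalizer (P : Set S) := by
    intro X
    rw [Subgroup.normalizer_eq_top]
    exact le_top
  -- `A ≤ trivSub P D`
  have hAT : A ≤ trivSub P D := by
    intro a ha
    refine ⟨?_, ?_⟩
    · exact Subgroup.normalizer_commutator_ge_right P A ha
    · intro k hk
      have h1 : ⁅a, k⁆ ∈ ⁅A, P⁆ := Subgroup.commutator_mem_commutator ha hk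
      rw [Subgroup.commutator_comm] at h1
      rw [commutatorElement_def] at h1
      exact h1
  have hQT : Q ≤ trivSub P D := by
    rw [← hAQ]
    exact commutator_le_trivSub hAT (hNP Q) hQND
  -- `Q` centralizes `P`
  have hcop : (Nat.card Q).Coprime p := ((Nat.Prime.coprime_iff_not_dvd hp).2 hQ).symm
  have hQP : Q ≤ Subgroup.centralizer (P : Set S) := by
    intro q hq
    rw [Subgroup.mem_centralizer_iff]
    intro x hx
    have hcop' : (orderOf q).Coprime (Nat.card D) := by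
      apply Nat.Coprime.coprime_dvd_left (Subgroup.orderOf_dvd_natCard Q hq)
      obtain ⟨k, hk⟩ := IsPGroup.iff_card.1 (hPp.to_le hDP)
      rw [hk]
      exact Nat.Coprime.pow_right k hcop
    have := Cfsg.Agent.Lib.H7.commute_of_stable_step (a := q) (Q := P) (R := D) hcop'
      (fun x hx => (hQT hq).2 x hx)
      (fun r hr => (Subgroup.mem_centralizer_iff.1 (hQD hq) r hr).symm) x hx
    exact this.symm
  have hQleP : Q ≤ P := hQP.trans (centralizer_pCore_le_of_isPSolvable p hS hred)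
  have hQp : IsPGroup p Q := hPp.to_le hQleP
  apply hQ1
  obtain ⟨k, hk⟩ := IsPGroup.iff_card.1 hQp
  rcases Nat.eq_zero_or_pos k with h0 | h0
  · rw [h0, pow_zero] at hk
    exact Subgroup.card_eq_one.1 hk
  · exfalso
    apply hQ
    rw [hk]
    exact dvd_pow_self p h0.ne'

end Cfsg.Agent.S1892
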