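import Cfsg.Statements.S1893
import Cfsg.Agent.Lib.H9.SolvStable
import Cfsg.Agent.Lib.H19.FittingCrit
import Cfsg.Agent.Lib.H19.HallPi
import Cfsg.Agent.Lib.H1.Hall
import Cfsg.Agent.Lib.H1.Fitting
import Cfsg.Agent.Lib.H1.PCore
-- import your own Cfsg.Agent.* helpers here

set_option autoImplicit false
open Cfsg

namespace Cfsg.Agent.S1893

open Cfsg
open scoped commutatorElement

universe u

/-- core: in a finite solvable group `T`, a subgroup `B` normalized by `F(T)` with
`F(T) ∩ C(B) ≤ B`, all primes dividing `|F(T)|` at least `5`: then `C_T(B) ≤ B`. -/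
theorem centralizer_le_of_fitting {T : Type u} [Group T] [Finite T] [hT : Group.IsSolvable T]
    (B : Subgroup T)
    (hFn : fittingSubgroup T ≤ Subgroup.normalizer (B : Set T))
    (hFc : fittingSubgroup T ⊓ Subgroup.centralizer (B : Set T) ≤ B)
    (hq : ∀ q : ℕ, q.Prime → pCore q T ≠ ⊥ → q ≠ 2 ∧ q ≠ 3) :
    Subgroup.centralizer (B : Set T) ≤ B := by
  intro x hx
  have hFnorm : (fittingSubgroup T).Normal := Cfsg.Agent.Lib.H1.fittingSubgroup_normal T
  have hPn : ∀ q : ℕ, (pCore q T).Normal := fun q => Cfsg.Agent.Lib.H1.pCore_normal q T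
  -- the normal subgroups N_q
  obtain ⟨Nq, hNq⟩ : ∃ Nq : ℕ → Subgroup T, Nq = fun q =>
      (pCore q (T ⧸ Subgroup.centralizer ((pCore q T : Subgroup T) : Set T))).comap
        (QuotientGroup.mk' (Subgroup.centralizer ((pCore q T : Subgroup T) : Set T))) := ⟨_, rfl⟩
  have hNqn : ∀ q, (Nq q).Normal := by
    intro q
    rw [hNq]
    have := Cfsg.Agent.Lib.H1.pCore_normal q
      (T ⧸ Subgroup.centralizer ((pCore q T : Subgroup T) : Set T))
    exact Subgroup.Normal.comap this _
  obtain ⟨N, hN⟩ : ∃ N : Subgroup T, N = ⨅ q : Nat.Primes, Nq q := ⟨_, rfl⟩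
  have hNn : N.Normal := by
    rw [hN]
    exact Subgroup.normal_iInf_normal (fun q => hNqn q)
  -- zpowers x centralizes B
  have hZC : Subgroup.zpowers x ≤ Subgroup.centralizer (B : Set T) :=
    Subgroup.zpowers_le.2 hx
  -- x ∈ N
  have hxN : x ∈ N := by
    rw [hN, Subgroup.mem_iInf]
    intro q
    have hqp : Fact (q : ℕ).Prime := ⟨q.2⟩
    rw [hNq]
    show x ∈ (pCore q (T ⧸ Subgroup.centralizer ((pCore q T : Subgroup T) : Set T))).comap
        (QuotientGroup.mk' (Subgroup.centralizer ((pCore q T : Subgroup T) : Set T)))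
    rw [Subgroup.mem_comap]
    by_cases hbot : pCore (q : ℕ) T = ⊥
    · have h1 : (QuotientGroup.mk' (Subgroup.centralizer ((pCore q T : Subgroup T) : Set T))) x
          = 1 := by
        rw [QuotientGroup.mk'_apply, QuotientGroup.eq_one_iff, hbot, Subgroup.mem_centralizer_iff]
        intro h hh
        have : h = 1 := by simpa using hh
        rw [this]; simp
      rw [h1]
      exact Subgroup.one_mem _
    · obtain ⟨hq2, hq3⟩ := hq q q.2 hbot
      have := hPn q
      have hst := Cfsg.Agent.Lib.H9.SolvStable.isPStableOn_of_isSolvable hq2 hq3 (pCore (q : ℕ) T)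
        (Cfsg.Agent.Lib.H1.pCore_isPGroup q T)
      apply hst x
      -- quadratic action
      have hPF : pCore (q : ℕ) T ≤ fittingSubgroup T :=
        Cfsg.Agent.Lib.H1.le_fittingSubgroup (hPn q)
          (Cfsg.Agent.Lib.H1.pCore_isPGroup q T).isNilpotent
      have h1 : ⁅pCore (q : ℕ) T, Subgroup.zpowers x⁆ ≤ B := by
        rw [Subgroup.commutator_le]
        intro v hv y hy
        apply hFc
        have hvF : v ∈ fittingSubgroup T := hPF hv
        have hyC : y ∈ Subgroup.centralizer (B : Set T) := hZC hy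
        refine Subgroup.mem_inf.2 ⟨?_, ?_⟩
        · rw [commutatorElement_def]
          have h2 : y * v⁻¹ * y⁻¹ ∈ fittingSubgroup T :=
            hFnorm.conj_mem _ (Subgroup.inv_mem _ hvF) y
          have h3 := Subgroup.mul_mem _ hvF h2
          have h4 : v * y * v⁻¹ * y⁻¹ = v * (y * v⁻¹ * y⁻¹) := by group
          rw [h4]; exact h3
        · rw [commutatorElement_def]
          have hvN := hFn hvF
          have h2 : v * y * v⁻¹ ∈ Subgroup.centralizer (B : Set T) := by
            rw [Subgroup.mem_centralizer_iff]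
            intro b hb
            have hb' : v⁻¹ * b * v ∈ B := by
              have := (Subgroup.mem_normalizer_iff.1 (Subgroup.inv_mem _ hvN) b).1 hb
              simpa using this
            have h5 := (Subgroup.mem_centralizer_iff.1 hyC) _ hb'
            calc b * (v * y * v⁻¹) = v * ((v⁻¹ * b * v) * y) * v⁻¹ := by group
              _ = v * (y * (v⁻¹ * b * v)) * v⁻¹ := by rw [h5]
              _ = v * y * v⁻¹ * b := by group
          exact Subgroup.mul_mem _ h2 (Subgroup.inv_mem _ hyC)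
      have h2 : ⁅⁅pCore (q : ℕ) T, Subgroup.zpowers x⁆, Subgroup.zpowers x⁆ ≤
          ⁅B, Subgroup.zpowers x⁆ := Subgroup.commutator_mono h1 le_rfl
      have h3 : ⁅B, Subgroup.zpowers x⁆ = ⊥ := by
        rw [Subgroup.commutator_eq_bot_iff_le_centralizer]
        exact Subgroup.le_centralizer_iff.1 hZC
      rw [h3] at h2
      exact le_bot_iff.1 h2
  -- N ≤ F(T)
  have hNF : N ≤ fittingSubgroup T := by
    apply Cfsg.Agent.Lib.H19.le_fittingSubgroup_of_coprime_centralizes hT N hNn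
    intro p hp y hy hcop z hz
    have hyq : y ∈ Nq p := by
      rw [hN, Subgroup.mem_iInf] at hy
      exact hy ⟨p, hp.out⟩
    rw [hNq] at hyq
    have hyq' : (QuotientGroup.mk' (Subgroup.centralizer ((pCore p T : Subgroup T) : Set T))) y ∈
        pCore p (T ⧸ Subgroup.centralizer ((pCore p T : Subgroup T) : Set T)) := hyq
    obtain ⟨k, hk⟩ := (Cfsg.Agent.Lib.H1.pCore_isPGroup p
      (T ⧸ Subgroup.centralizer ((pCore p T : Subgroup T) : Set T))) ⟨_, hyq'⟩
    have hk' : ((QuotientGroup.mk' (Subgroup.centralizer ((pCore p T : Subgroup T) : Set T))) y)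
        ^ (p ^ k) = 1 := by
      have := congrArg Subtype.val hk
      simpa using this
    have hd1 : orderOf ((QuotientGroup.mk' (Subgroup.centralizer
        ((pCore p T : Subgroup T) : Set T))) y) ∣ p ^ k := orderOf_dvd_of_pow_eq_one hk'
    have hd2 : orderOf ((QuotientGroup.mk' (Subgroup.centralizer
        ((pCore p T : Subgroup T) : Set T))) y) ∣ orderOf y := orderOf_map_dvd _ y
    have hcop2 : (orderOf y).Coprime (p ^ k) := Nat.Coprime.pow_right k hcop
    have hone : orderOf ((QuotientGroup.mk' (Subgroup.centralizer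
        ((pCore p T : Subgroup T) : Set T))) y) = 1 :=
      Nat.Coprime.eq_one_of_dvd (Nat.Coprime.coprime_dvd_left hd2 hcop2) hd1
    rw [orderOf_eq_one_iff, QuotientGroup.mk'_apply, QuotientGroup.eq_one_iff] at hone
    exact ((Subgroup.mem_centralizer_iff.1 hone) z hz).symm
  exact hFc (Subgroup.mem_inf.2 ⟨hNF hxN, hx⟩)


/-- Let S be a finite solvable group, π a set of primes containing neither 2 nor 3, H a Hall π-subgroup of S, and A a self-centralizing normal subgroup of the Fitting subgroup F(H). Then C_S(A) = A × D for a normal subgroup D of C_S(A) whose order has no prime divisor in π. -/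
theorem result {S : Type*} [Group S] [Finite S] [Group.IsSolvable S]
    (π : Set ℕ) (h2 : 2 ∉ π) (h3 : 3 ∉ π) (H : Subgroup S) (hH : Cfsg.IsPiHall π H)
    (A : Subgroup S) (hA : Cfsg.IsSCN ((Cfsg.fittingSubgroup H).map H.subtype) A) :
    ∃ D : Subgroup S, D ≤ Subgroup.centralizer (A : Set S) ∧
      (∀ c ∈ Subgroup.centralizer (A : Set S), ∀ d ∈ D, c * d * c⁻¹ ∈ D) ∧
      A ⊓ D = ⊥ ∧ A ⊔ D = Subgroup.centralizer (A : Set S) ∧
      ∀ q : ℕ, q.Prime → q ∣ Nat.card D → q ∉ π := by
  classical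
  obtain ⟨hAF, hFNA, hFCA⟩ := hA
  obtain ⟨FH, hFH⟩ : ∃ FH : Subgroup S, FH = (Cfsg.fittingSubgroup H).map H.subtype := ⟨_, rfl⟩
  rw [← hFH] at hAF hFNA hFCA
  have hFHH : FH ≤ H := hFH ▸ Subgroup.map_subtype_le _
  obtain ⟨K, hK⟩ : ∃ K : Subgroup S, K = Cfsg.piCore πᶜ S := ⟨_, rfl⟩
  have hKn : K.Normal := by rw [hK]; infer_instance
  have hKcard : Cfsg.Agent.Lib.H19.IsPiCard πᶜ (Nat.card K) := by
    rw [hK]; exact Cfsg.Agent.Lib.H19.piCore_isPiCard πᶜ
  have hHcard : Cfsg.Agent.Lib.H19.IsPiCard π (Nat.card H) := hH.1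
  have hHK : H ⊓ K = ⊥ :=
    disjoint_iff.1 (Subgroup.disjoint_of_coprime_natCard
      (Cfsg.Agent.Lib.H19.coprime_of_isPiCard hHcard hKcard))
  obtain ⟨φ, hφ⟩ : ∃ φ : S →* S ⧸ K, φ = QuotientGroup.mk' K := ⟨_, rfl⟩
  have hφs : Function.Surjective φ := hφ ▸ QuotientGroup.mk'_surjective K
  have hφk : ∀ x, φ x = 1 ↔ x ∈ K := fun x => by rw [hφ]; exact QuotientGroup.eq_one_iff x
  -- primes outside π have trivial core in the quotient
  have hc : ∀ q : ℕ, q.Prime → q ∉ π → pCore q (S ⧸ K) = ⊥ := by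
    intro q hq hqπ
    have hqf : Fact q.Prime := ⟨hq⟩
    have hQn := Cfsg.Agent.Lib.H1.pCore_normal q (S ⧸ K)
    have hQp := Cfsg.Agent.Lib.H1.pCore_isPGroup q (S ⧸ K)
    have h1 : (pCore q (S ⧸ K)).comap φ ≤ K := by
      refine le_of_le_of_eq (Cfsg.Agent.Lib.H19.le_piCore (hQn.comap φ) ?_) hK.symm
      intro p hp hpd
      show p ∉ π
      intro hpπ
      have hpf : Fact p.Prime := ⟨hp⟩
      obtain ⟨g, hg⟩ := exists_prime_orderOf_dvd_card' p hpd
      have hgQ : φ (g : S) ∈ pCore q (S ⧸ K) := g.2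
      obtain ⟨k, hk⟩ := hQp ⟨_, hgQ⟩
      have hk' : (φ (g : S)) ^ (q ^ k) = 1 := by simpa using congrArg Subtype.val hk
      have hgo : orderOf (g : S) = p := by rw [Subgroup.orderOf_coe]; exact hg
      have hgp : (g : S) ^ p = 1 := by rw [← hgo]; exact pow_orderOf_eq_one _
      have h5 : (φ (g : S)) ^ p = 1 := by rw [← map_pow, hgp, map_one]
      have hpq : p ≠ q := fun h => hqπ (h ▸ hpπ)
      have hone : φ (g : S) = 1 := by
        have hd1 : orderOf (φ (g : S)) ∣ q ^ k := orderOf_dvd_of_pow_eq_one hk'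
        have hd2 : orderOf (φ (g : S)) ∣ p := orderOf_dvd_of_pow_eq_one h5
        have hcop : Nat.Coprime p (q ^ k) :=
          Nat.Coprime.pow_right k ((Nat.coprime_primes hp hq).2 hpq)
        have := Nat.Coprime.eq_one_of_dvd (Nat.Coprime.coprime_dvd_left hd2 hcop) hd1
        exact orderOf_eq_one_iff.1 this
      have hgK : (g : S) ∈ K := (hφk _).1 hone
      have hdiv : p ∣ Nat.card K := by
        have h6 : orderOf (⟨(g : S), hgK⟩ : K) = p := by
          rw [← Subgroup.orderOf_coe]; exact hgo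
        rw [← h6]; exact orderOf_dvd_natCard _
      exact hKcard p hp hdiv hpπ
    have h2' : pCore q (S ⧸ K) = ((pCore q (S ⧸ K)).comap φ).map φ :=
      (Subgroup.map_comap_eq_self_of_surjective hφs _).symm
    rw [h2', eq_bot_iff]
    calc ((pCore q (S ⧸ K)).comap φ).map φ ≤ K.map φ := Subgroup.map_mono h1
      _ = ⊥ := by rw [hφ]; exact QuotientGroup.map_mk'_self K
  -- primes in π: the core lies in the image of F(H)
  have hd : ∀ q : ℕ, q.Prime → q ∈ π → pCore q (S ⧸ K) ≤ FH.map φ := by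
    intro q hq hqπ
    have hqf : Fact q.Prime := ⟨hq⟩
    have hQn := Cfsg.Agent.Lib.H1.pCore_normal q (S ⧸ K)
    have hQp := Cfsg.Agent.Lib.H1.pCore_isPGroup q (S ⧸ K)
    have hidx : ¬ q ∣ (H.map φ).index :=
      fun h => hH.2 q hq hqπ (h.trans (Subgroup.index_map_dvd H hφs))
    have hQH : pCore q (S ⧸ K) ≤ H.map φ :=
      Cfsg.Agent.Lib.H1.le_of_normal_isPGroup_of_not_dvd_index hQp hidx
    obtain ⟨M, hM⟩ : ∃ M : Subgroup S, M = H ⊓ (pCore q (S ⧸ K)).comap φ := ⟨_, rfl⟩
    have hMH : M ≤ H := hM ▸ inf_le_left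
    have hMn : (M.subgroupOf H).Normal := by
      have hn : ((pCore q (S ⧸ K)).comap φ).Normal := hQn.comap φ
      rw [hM, Subgroup.inf_subgroupOf_left]
      infer_instance
    have hMp : IsPGroup q (M.subgroupOf H) := by
      rintro ⟨g, hg⟩
      have hgM : (g : S) ∈ M := Subgroup.mem_subgroupOf.1 hg
      rw [hM] at hgM
      have hgQ : φ (g : S) ∈ pCore q (S ⧸ K) := (Subgroup.mem_inf.1 hgM).2
      obtain ⟨k, hk⟩ := hQp ⟨_, hgQ⟩
      have hk' : (φ (g : S)) ^ (q ^ k) = 1 := by simpa using congrArg Subtype.val hk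
      refine ⟨k, ?_⟩
      apply Subtype.ext
      apply Subtype.ext
      have h1 : ((g : S)) ^ (q ^ k) ∈ H ⊓ K :=
        Subgroup.mem_inf.2 ⟨H.pow_mem g.2 _, (hφk _).1 (by rw [map_pow]; exact hk')⟩
      rw [hHK, Subgroup.mem_bot] at h1
      simpa using h1
    have hMF : M.subgroupOf H ≤ fittingSubgroup ↥H :=
      Cfsg.Agent.Lib.H1.le_fittingSubgroup hMn hMp.isNilpotent
    intro y hy
    obtain ⟨h, hh, rfl⟩ := hQH hy
    have hhM : h ∈ M := by
      rw [hM]; exact Subgroup.mem_inf.2 ⟨hh, hy⟩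
    have hhF : h ∈ FH := by
      rw [hFH]
      exact Subgroup.mem_map.2 ⟨⟨h, hh⟩, hMF (Subgroup.mem_subgroupOf.2 hhM), rfl⟩
    exact Subgroup.mem_map_of_mem φ hhF
  have hFT : fittingSubgroup (S ⧸ K) ≤ FH.map φ := by
    rw [Cfsg.Agent.Lib.H1.fittingSubgroup_eq_iSup_pCore]
    apply iSup_le
    intro q
    by_cases hqπ : (q : ℕ) ∈ π
    · exact hd q q.2 hqπ
    · rw [hc q q.2 hqπ]; exact bot_le
  -- the core lemma in the quotient
  have hcore : Subgroup.centralizer ((A.map φ : Subgroup (S ⧸ K)) : Set (S ⧸ K)) ≤ A.map φ := by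
    apply centralizer_le_of_fitting (A.map φ)
    · exact hFT.trans ((Subgroup.map_mono hFNA).trans (Subgroup.le_normalizer_map φ))
    · intro y hy
      obtain ⟨hyF, hyC⟩ := Subgroup.mem_inf.1 hy
      obtain ⟨f, hf, rfl⟩ := hFT hyF
      have hfC : f ∈ Subgroup.centralizer (A : Set S) := by
        rw [Subgroup.mem_centralizer_iff]
        intro a ha
        have h1 : φ a * φ f = φ f * φ a :=
          (Subgroup.mem_centralizer_iff.1 hyC) (φ a) (Subgroup.mem_map_of_mem φ ha)
        have h4 : a * f * a⁻¹ * f⁻¹ ∈ H ⊓ K := by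
          refine Subgroup.mem_inf.2 ⟨?_, ?_⟩
          · have haH : a ∈ H := hFHH (hAF ha)
            have hfH : f ∈ H := hFHH hf
            exact H.mul_mem (H.mul_mem (H.mul_mem haH hfH) (H.inv_mem haH)) (H.inv_mem hfH)
          · rw [← hφk]
            simp only [map_mul, map_inv]
            rw [h1]; group
        rw [hHK, Subgroup.mem_bot] at h4
        calc a * f = (a * f * a⁻¹ * f⁻¹) * (f * a) := by group
          _ = f * a := by rw [h4, one_mul]
      have hfA : f ∈ A := by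
        rw [← hFCA]; exact Subgroup.mem_inf.2 ⟨hf, hfC⟩
      exact Subgroup.mem_map_of_mem φ hfA
    · intro q hq hne
      have hqπ : q ∈ π := by
        by_contra hqn
        exact hne (hc q hq hqn)
      exact ⟨fun h => h2 (h ▸ hqπ), fun h => h3 (h ▸ hqπ)⟩
  have hAC : A ≤ Subgroup.centralizer (A : Set S) := by
    intro a ha
    have : a ∈ FH ⊓ Subgroup.centralizer (A : Set S) := by rw [hFCA]; exact ha
    exact (Subgroup.mem_inf.1 this).2
  refine ⟨Subgroup.centralizer (A : Set S) ⊓ K, inf_le_left, ?_, ?_, ?_, ?_⟩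
  · intro c hc' d hd'
    obtain ⟨hd1, hd2⟩ := Subgroup.mem_inf.1 hd'
    exact Subgroup.mem_inf.2 ⟨Subgroup.mul_mem _ (Subgroup.mul_mem _ hc' hd1)
      (Subgroup.inv_mem _ hc'), hKn.conj_mem d hd2 c⟩
  · rw [eq_bot_iff, ← hHK]
    intro x hx
    obtain ⟨hx1, hx2⟩ := Subgroup.mem_inf.1 hx
    exact Subgroup.mem_inf.2 ⟨hFHH (hAF hx1), (Subgroup.mem_inf.1 hx2).2⟩
  · apply le_antisymm
    · exact sup_le hAC inf_le_left
    · intro c hc'
      have h1 : φ c ∈ Subgroup.centralizer ((A.map φ : Subgroup (S ⧸ K)) : Set (S ⧸ K)) := by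
        rw [Subgroup.mem_centralizer_iff]
        rintro _ ⟨a, ha, rfl⟩
        rw [← map_mul, ← map_mul, (Subgroup.mem_centralizer_iff.1 hc') a ha]
      obtain ⟨a, ha, hac⟩ := hcore h1
      have hk : a⁻¹ * c ∈ Subgroup.centralizer (A : Set S) ⊓ K := by
        refine Subgroup.mem_inf.2 ⟨Subgroup.mul_mem _ (Subgroup.inv_mem _ (hAC ha)) hc', ?_⟩
        rw [← hφk, map_mul, map_inv, hac]; group
      have : c = a * (a⁻¹ * c) := by group
      rw [this]
      exact Subgroup.mul_mem_sup ha hk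
  · intro q hq hqd
    have h1 : Nat.card ↥(Subgroup.centralizer (A : Set S) ⊓ K) ∣ Nat.card K :=
      Subgroup.card_dvd_of_le inf_le_right
    exact hKcard q hq (hqd.trans h1)

end Cfsg.Agent.S1893
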