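import Cfsg.Statements.S1894
import Cfsg.Agent.Lib.H10.PGroup

set_option autoImplicit false
open Cfsg

namespace Cfsg.Agent.S1894

/-- Let P be a finite p-group, A a normal subgroup of P, and B an abelian subgroup of A which is normal in P. Then there is a subgroup C with B ≤ C ≤ A that is normal in P and belongs to SCN(A), that is, C is normal in A and equals its own centralizer in A. -/
theorem result {P : Type*} [Group P] [Finite P] {p : ℕ} [Fact p.Prime] (hP : IsPGroup p P)
    (A : Subgroup P) [A.Normal] (B : Subgroup P) [B.Normal] (hBA : B ≤ A) (hB : IsMulCommutative B) :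
    ∃ C : Subgroup P, C.Normal ∧ B ≤ C ∧ Cfsg.IsSCN A C := by
  exact Cfsg.Agent.Lib.H10.exists_scn hP A B hBA hB

end Cfsg.Agent.S1894
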