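import Cfsg.Statements.S1895
-- import your own Cfsg.Agent.* helpers here
import Mathlib
import Cfsg.Agent.Lib.H16.ChiefRankG

set_option autoImplicit false
open Cfsg

namespace Cfsg.Agent.S1895

/-- Let p be an odd prime and G a finite p-solvable group with no elementary abelian subgroup of order p³. Then every chief factor H/K of G (H, K normal in G with no normal subgroup of G strictly between them) whose order is a power of p has order p or p². -/
theorem result {G : Type*} [Group G] [Finite G] {p : ℕ} [Fact p.Prime] (hp : p ≠ 2)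
    (hG : Cfsg.IsPSolvable p G) (hr : Cfsg.PRankLE p 2 G)
    (H K : Subgroup G) [H.Normal] [K.Normal] (hKH : K < H) (hpow : ∃ n : ℕ, K.relIndex H = p ^ n)
    (hchief : ∀ L : Subgroup G, L.Normal → K ≤ L → L ≤ H → L = K ∨ L = H) :
    K.relIndex H = p ∨ K.relIndex H = p ^ 2 := by
  have hpp : p.Prime := Fact.out
  have hdvd := Cfsg.Agent.Lib.H16.ChiefRank.relIndex_dvd_sq_of_pRankLE hp hr H K hKH hpow hchief
  obtain ⟨i, hi, hidx⟩ := (Nat.dvd_prime_pow hpp).mp hdvd
  have hne : K.relIndex H ≠ 1 := by
    intro h
    have := Subgroup.relIndex_eq_one.mp h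
    exact hKH.not_ge this
  interval_cases i
  · rw [pow_zero] at hidx; exact absurd hidx hne
  · left; rw [hidx, pow_one]
  · right; exact hidx

end Cfsg.Agent.S1895
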