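import Cfsg.Statements.S1897
import Cfsg.Agent.S0255
import Cfsg.Agent.Lib.H4.Herm
import Cfsg.Agent.Lib.H2.Unitary5
import Cfsg.Agent.Lib.H29.L27Tab
import Cfsg.Agent.Lib.H2.SLGen

set_option autoImplicit false
open scoped MatrixGroups
open Cfsg Matrix

namespace Cfsg.Agent.S1897

open Cfsg.Agent.Lib.H29.L27Tab

section
variable {F : Type*} [Field F]

theorem charP3 [Fintype F] (hF : Fintype.card F = 9) : CharP F 3 := by
  obtain ⟨p, hp⟩ := CharP.exists F
  obtain ⟨⟨k, hk⟩, hpprime, hcard⟩ := FiniteField.card F p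
  have h1 : p ∣ 3 ^ 2 := by
    have : (3 : ℕ) ^ 2 = 9 := by norm_num
    rw [this, ← hF, hcard]
    exact dvd_pow_self p (PNat.ne_zero _)
  have h2 : p = 3 := (Nat.prime_dvd_prime_iff_eq hpprime Nat.prime_three).1
    (hpprime.dvd_of_dvd_pow h1)
  subst h2
  exact hp

theorem exists_i [Fintype F] (hF : Fintype.card F = 9) : ∃ i : F, i * i = -1 := by
  have : IsSquare (-1 : F) := by
    rw [FiniteField.isSquare_neg_one_iff, hF]
    decide
  obtain ⟨r, hr⟩ := this
  exact ⟨r, hr.symm⟩

variable [CharP F 3]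

/-- the embedding of `𝔽₃[i]` -/
def phi (i : F) (hi : i * i = -1) : Z9 →+* F where
  toFun z := ZMod.castHom (dvd_refl 3) F z.re + i * ZMod.castHom (dvd_refl 3) F z.im
  map_one' := by simp [QuadraticAlgebra.re_one, QuadraticAlgebra.im_one]
  map_zero' := by simp
  map_add' z w := by
    simp only [QuadraticAlgebra.re_add, QuadraticAlgebra.im_add, map_add]
    ring
  map_mul' z w := by
    simp only [QuadraticAlgebra.re_mul, QuadraticAlgebra.im_mul, map_add, map_mul, map_neg,
      map_one, map_zero]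
    linear_combination (-(ZMod.castHom (dvd_refl 3) F z.im) * (ZMod.castHom (dvd_refl 3) F w.im)) * hi

theorem phi_apply (i : F) (hi : i * i = -1) (z : Z9) :
    phi i hi z = ZMod.castHom (dvd_refl 3) F z.re + i * ZMod.castHom (dvd_refl 3) F z.im := rfl

theorem cast_cube (a : ZMod 3) : (ZMod.castHom (dvd_refl 3) F a) ^ 3 = ZMod.castHom (dvd_refl 3) F a := by
  rw [← map_pow]
  congr 1
  revert a
  decide

theorem phi_cj (i : F) (hi : i * i = -1) (z : Z9) : phi i hi (cj z) = (phi i hi z) ^ 3 := by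
  have : Fact (Nat.Prime 3) := ⟨Nat.prime_three⟩
  rw [phi_apply, phi_apply, add_pow_char, mul_pow, cast_cube, cast_cube]
  simp only [cj, map_neg]
  have : i ^ 3 = -i := by
    calc i ^ 3 = i * i * i := by ring
      _ = -i := by rw [hi]; ring
  rw [this]
  ring

theorem phi_injective (i : F) (hi : i * i = -1) : Function.Injective (phi i hi) := by
  rw [injective_iff_map_eq_zero]
  intro z hz
  rw [phi_apply] at hz
  have hinj := ZMod.castHom_injective (n := 3) F
  by_cases hb : z.im = 0
  · rw [hb, map_zero, mul_zero, add_zero] at hz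
    have : z.re = 0 := hinj (by rw [hz, map_zero])
    exact QuadraticAlgebra.ext this hb
  · exfalso
    have hy : ZMod.castHom (dvd_refl 3) F z.im ≠ 0 := by
      intro h
      exact hb (hinj (by rw [h, map_zero]))
    have hieq : i = ZMod.castHom (dvd_refl 3) F (-z.re / z.im) := by
      rw [map_div₀, map_neg]
      field_simp
      linear_combination hz
    have h2 : ZMod.castHom (dvd_refl 3) F ((-z.re / z.im) * (-z.re / z.im)) =
        ZMod.castHom (dvd_refl 3) F (-1) := by
      rw [map_mul, ← hieq, hi, map_neg, map_one]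
    have h3 := hinj h2
    have key : ∀ t : ZMod 3, t * t ≠ -1 := by decide
    exact key _ h3

end

abbrev S32 := Matrix.SpecialLinearGroup (Fin 3) (ZMod 2)

theorem det3_one (g : S32) :
    det3 (mk (g.1 0 0) (g.1 0 1) (g.1 0 2) (g.1 1 0) (g.1 1 1) (g.1 1 2) (g.1 2 0) (g.1 2 1) (g.1 2 2)) = 1 := by
  rw [← mk_eta, det3_eq]
  exact g.2

instance fact2 : Fact (Nat.Prime 2) := ⟨Nat.prime_two⟩

theorem rho0_mul (g h : S32) : rho0 (g * h).1 = rho0 g.1 * rho0 h.1 := by
  revert g
  refine Cfsg.Agent.Lib.H2.SL_transvection_induction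
    (fun h => ∀ g : S32, rho0 (g * h).1 = rho0 g.1 * rho0 h.1) ?_ ?_ h
  · intro i j hij c g
    have h1 : (Matrix.SpecialLinearGroup.transvection hij c).1 = Matrix.transvection i j c := rfl
    rw [Matrix.SpecialLinearGroup.coe_mul, h1]
    have := check_mul _ _ _ _ _ _ _ _ _ (det3_one g) i j hij c
    rw [← mk_eta] at this
    exact this
  · intro A B hA hB g
    have e1 : rho0 (A * B).1 = rho0 A.1 * rho0 B.1 := by
      have := hB A
      exact this
    rw [← mul_assoc, hB (g * A), hA g, e1, mul_assoc]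

theorem rho0_unit (g : S32) : (rho0 g.1)ᵀ * (rho0 g.1).map cj = 1 := by
  have := (check_unit _ _ _ _ _ _ _ _ _ (det3_one g)).1
  rw [← mk_eta] at this
  exact this

theorem rho0_det (g : S32) : (rho0 g.1).det = 1 := by
  have := (check_unit _ _ _ _ _ _ _ _ _ (det3_one g)).2.1
  rw [← mk_eta, det3_eq] at this
  exact this

theorem rho0_inj (g : S32) (h : rho0 g.1 = 1) : g = 1 := by
  have := (check_unit _ _ _ _ _ _ _ _ _ (det3_one g)).2.2
  rw [← mk_eta] at this
  exact Subtype.ext (this h)

theorem center_trivial (g : S32) (h : ∀ x : S32, g * x = x * g) : g = 1 := by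
  have := check_center _ _ _ _ _ _ _ _ _ (det3_one g)
  rw [← mk_eta] at this
  apply Subtype.ext
  apply this
  intro i j hij
  have := congrArg Subtype.val (h (Matrix.SpecialLinearGroup.transvection hij 1))
  exact this

theorem rho0_injective (a b : S32) (h : rho0 a.1 = rho0 b.1) : a = b := by
  have h1 : rho0 (a * b⁻¹).1 = 1 := by
    rw [rho0_mul, h, ← rho0_mul, mul_inv_cancel]
    exact rho0_one
  have := rho0_inj _ h1
  exact mul_inv_eq_one.1 this

section rep
variable {F : Type*} [Field F] [CharP F 3] (i : F) (hi : i * i = -1)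

def rhoF (g : S32) : Matrix (Fin 3) (Fin 3) F := (rho0 g.1).map (phi i hi)

theorem rhoF_mul (g h : S32) : rhoF i hi (g * h) = rhoF i hi g * rhoF i hi h := by
  rw [rhoF, rho0_mul, Matrix.map_mul]
  rfl

theorem rhoF_det (g : S32) : (rhoF i hi g).det = 1 := by
  have := RingHom.map_det (phi i hi) (rho0 g.1)
  rw [rho0_det, map_one] at this
  exact this.symm

theorem rhoF_unit (g : S32) : (rhoF i hi g)ᵀ * (rhoF i hi g).map (fun x => x ^ 3) = 1 := by
  have h := congrArg (fun M => M.map (phi i hi)) (rho0_unit g)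
  simp only [Matrix.map_mul, Matrix.map_one _ (map_zero (phi i hi)) (map_one (phi i hi))] at h
  rw [← h, rhoF, Matrix.transpose_map, Matrix.map_map, Matrix.map_map]
  congr 2
  funext z
  exact (phi_cj i hi z).symm

theorem rhoF_injective (a b : S32) (h : rhoF i hi a = rhoF i hi b) : a = b := by
  apply rho0_injective
  exact Matrix.map_injective (phi_injective i hi) h

end rep

theorem herm_of_matrix {F : Type*} [Field F] (frob : F →+* F) (hfrob : ∀ x, frob x = x ^ 3)
    (M : Matrix (Fin 3) (Fin 3) F) (hM : Mᵀ * M.map (fun x => x ^ 3) = 1) (u v : Fin 3 → F) :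
    Cfsg.hermForm 3 F 3 (M *ᵥ u) (M *ᵥ v) = Cfsg.hermForm 3 F 3 u v := by
  have hform : ∀ x y : Fin 3 → F, Cfsg.hermForm 3 F 3 x y = x ⬝ᵥ (frob ∘ y) := by
    intro x y
    simp only [Cfsg.hermForm, dotProduct, Function.comp, hfrob]
  have hmap : M.map (fun x => x ^ 3) = M.map frob := by
    ext a b
    simp only [Matrix.map_apply, hfrob]
  rw [hform, hform]
  have h1 : frob ∘ (M *ᵥ v) = (M.map frob) *ᵥ (frob ∘ v) := by
    funext a
    exact (RingHom.map_mulVec frob M v a)
  rw [h1, dotProduct_comm, Matrix.dotProduct_mulVec, ← Matrix.mulVec_transpose,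
    Matrix.mulVec_mulVec, ← hmap, dotProduct_comm]
  rw [hM, Matrix.one_mulVec]

section final
variable {F : Type*} [Field F] [CharP F 3] (i : F) (hi : i * i = -1)
  (frob : F →+* F) (hfrob : ∀ x, frob x = x ^ 3)

/-- the representation into `SU₃(3)` -/
def rhoSU : S32 →* Cfsg.SU 3 F 3 where
  toFun g := ⟨⟨rhoF i hi g, rhoF_det i hi g⟩,
    fun u v => herm_of_matrix frob hfrob _ (rhoF_unit i hi g) u v⟩
  map_one' := by
    apply Subtype.ext
    apply Subtype.ext
    show rhoF i hi 1 = 1
    rw [rhoF, Matrix.SpecialLinearGroup.coe_one, rho0_one,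
      Matrix.map_one _ (map_zero (phi i hi)) (map_one (phi i hi))]
  map_mul' g h := by
    apply Subtype.ext
    apply Subtype.ext
    show rhoF i hi (g * h) = rhoF i hi g * rhoF i hi h
    exact rhoF_mul i hi g h

theorem rhoSU_val (g : S32) :
    (((rhoSU i hi frob hfrob g : Cfsg.SU 3 F 3) : Matrix.SpecialLinearGroup (Fin 3) F) :
      Matrix (Fin 3) (Fin 3) F) = rhoF i hi g := rfl

theorem rhoSU_injective : Function.Injective (rhoSU i hi frob hfrob) := by
  intro a b h
  apply rhoF_injective i hi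
  rw [← rhoSU_val i hi frob hfrob a, ← rhoSU_val i hi frob hfrob b, h]

/-- the composite to `PSU₃(3)` -/
def piHom : S32 →* Cfsg.PSU 3 F 3 :=
  (QuotientGroup.mk' (Subgroup.center (Cfsg.SU 3 F 3))).comp (rhoSU i hi frob hfrob)

theorem piHom_injective : Function.Injective (piHom i hi frob hfrob) := by
  rw [injective_iff_map_eq_one]
  intro g hg
  have hc : rhoSU i hi frob hfrob g ∈ Subgroup.center (Cfsg.SU 3 F 3) := by
    have : (QuotientGroup.mk' (Subgroup.center (Cfsg.SU 3 F 3))) (rhoSU i hi frob hfrob g) = 1 := hg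
    exact (QuotientGroup.eq_one_iff _).1 this
  apply center_trivial
  intro x
  apply rhoSU_injective i hi frob hfrob
  rw [map_mul, map_mul]
  exact ((Subgroup.mem_center_iff.1 hc) (rhoSU i hi frob hfrob x)).symm

end final

theorem center_S32 : Subgroup.center S32 = ⊥ := by
  rw [Subgroup.eq_bot_iff_forall]
  intro g hg
  apply center_trivial
  intro x
  exact ((Subgroup.mem_center_iff.1 hg) x).symm

theorem result {F : Type*} [Field F] [Fintype F] (hF : Fintype.card F = 9)
    {K : Type*} [Field K] [Fintype K] (hK : Fintype.card K = 7) :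
    ∃ H : Subgroup (Cfsg.PSU 3 F 3), Nonempty (H ≃* Matrix.ProjectiveSpecialLinearGroup (Fin 2) K) := by
  have hchar : CharP F 3 := charP3 hF
  obtain ⟨i, hi⟩ := exists_i hF
  obtain ⟨frob, hfrob, -⟩ := Cfsg.Agent.Lib.H4.exists_frob (F := F) (q := 3) (by rw [hF]; norm_num)
  refine ⟨(piHom i hi frob hfrob).range, ?_⟩
  let e1 : S32 ≃* (piHom i hi frob hfrob).range :=
    MonoidHom.ofInjective (piHom_injective i hi frob hfrob)
  let e2 : Matrix.ProjectiveSpecialLinearGroup (Fin 3) (ZMod 2) ≃* S32 :=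
    (QuotientGroup.quotientMulEquivOfEq center_S32).trans QuotientGroup.quotientBot
  obtain ⟨e3⟩ := Cfsg.Agent.S0255.result (F := K) (K := ZMod 2) hK (by simp)
  exact ⟨e1.symm.trans (e2.symm.trans e3.symm)⟩

end Cfsg.Agent.S1897
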