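import Cfsg.Statements.S1898
import Mathlib

set_option autoImplicit false
open Cfsg

namespace Cfsg.Agent.S1898

open scoped commutatorElement

section aux
variable {X : Type*} [Group X]

theorem sq_central_aux (x y c : X) (h1 : y * x = c * (x * y)) (hc : ∀ g : X, g * c = c * g)
    (hc2 : c ^ 2 = 1) : y ^ 2 * x = x * y ^ 2 := by
  calc y ^ 2 * x = y * (y * x) := by simp only [pow_two, mul_assoc]
    _ = y * (c * (x * y)) := by rw [h1]
    _ = (y * c) * (x * y) := by simp only [mul_assoc]
    _ = (c * y) * (x * y) := by rw [hc y]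
    _ = c * (y * x) * y := by simp only [mul_assoc]
    _ = c * (c * (x * y)) * y := by rw [h1]
    _ = c ^ 2 * (x * y ^ 2) := by simp only [pow_two, mul_assoc]
    _ = x * y ^ 2 := by rw [hc2, one_mul]

theorem mul_sq_aux (x y c : X) (h1 : y * x = c * (x * y)) (hc : ∀ g : X, g * c = c * g) :
    (x * y) * (x * y) = c * (x ^ 2 * y ^ 2) := by
  calc (x * y) * (x * y) = x * (y * x) * y := by simp only [mul_assoc]
    _ = x * (c * (x * y)) * y := by rw [h1]
    _ = (x * c) * (x * y) * y := by simp only [mul_assoc]
    _ = (c * x) * (x * y) * y := by rw [hc x]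
    _ = c * (x ^ 2 * y ^ 2) := by simp only [pow_two, mul_assoc]

/-- commutators are central and of order ≤ 2 -/
theorem comm_props (hel : Cfsg.IsElementaryAbelian 2 (commutator X))
    (hcen : commutator X ≤ Subgroup.center X) (x y : X) :
    (∀ g : X, g * ⁅x, y⁆ = ⁅x, y⁆ * g) ∧ ⁅x, y⁆ ^ 2 = 1 := by
  have hmem : ⁅x, y⁆ ∈ commutator X := by
    rw [commutator_def]
    exact Subgroup.commutator_mem_commutator (Subgroup.mem_top x) (Subgroup.mem_top y)
  refine ⟨fun g => ?_, hel.2 _ hmem⟩
  have := hcen hmem
  rw [Subgroup.mem_center_iff] at this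
  exact this g

theorem comm_rel (x y : X) : y * x = ⁅y, x⁆ * (x * y) := by
  rw [commutatorElement_def]; group

/-- squares are central -/
theorem sq_central (hel : Cfsg.IsElementaryAbelian 2 (commutator X))
    (hcen : commutator X ≤ Subgroup.center X) (x y : X) : y ^ 2 * x = x * y ^ 2 := by
  obtain ⟨hc, hc2⟩ := comm_props hel hcen y x
  exact sq_central_aux x y _ (comm_rel x y) hc hc2

theorem mul_sq (hel : Cfsg.IsElementaryAbelian 2 (commutator X))
    (hcen : commutator X ≤ Subgroup.center X) (x y : X) :
    (x * y) ^ 2 = ⁅y, x⁆ * (x ^ 2 * y ^ 2) := by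
  obtain ⟨hc, _⟩ := comm_props hel hcen y x
  rw [pow_two (x * y)]
  exact mul_sq_aux x y _ (comm_rel x y) hc

theorem mul_pow_four_aux (a b c : X) (hc : ∀ g : X, g * c = c * g) (hc2 : c ^ 2 = 1)
    (hab : b * a = a * b) : (c * (a * b)) * (c * (a * b)) = a ^ 2 * b ^ 2 := by
  calc (c * (a * b)) * (c * (a * b)) = c * ((a * b) * c) * (a * b) := by simp only [mul_assoc]
    _ = c * (c * (a * b)) * (a * b) := by rw [hc]
    _ = c ^ 2 * (a * (b * a) * b) := by simp only [pow_two, mul_assoc]
    _ = c ^ 2 * (a * (a * b) * b) := by rw [hab]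
    _ = a ^ 2 * b ^ 2 := by rw [hc2]; simp only [pow_two, mul_assoc, one_mul]

theorem mul_pow_four (hel : Cfsg.IsElementaryAbelian 2 (commutator X))
    (hcen : commutator X ≤ Subgroup.center X) (x y : X) :
    (x * y) ^ 4 = x ^ 4 * y ^ 4 := by
  obtain ⟨hc, hc2⟩ := comm_props hel hcen y x
  have hs := sq_central hel hcen
  calc (x * y) ^ 4 = ((x * y) ^ 2) * ((x * y) ^ 2) := by rw [← pow_add]
    _ = (⁅y, x⁆ * (x ^ 2 * y ^ 2)) * (⁅y, x⁆ * (x ^ 2 * y ^ 2)) := by rw [mul_sq hel hcen]
    _ = (x ^ 2) ^ 2 * (y ^ 2) ^ 2 := mul_pow_four_aux _ _ _ hc hc2 (hs (x ^ 2) y)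
    _ = x ^ 4 * y ^ 4 := by rw [← pow_mul, ← pow_mul]

end aux

/-- Let X be a finite 2-group whose derived subgroup is elementary abelian and central. Then the subgroup generated by the elements of order dividing 4 has exponent dividing 4, and every automorphism of X fixing each element of order dividing 4 has 2-power order. -/
theorem result {X : Type*} [Group X] [Finite X] (hX : IsPGroup 2 X)
    (hel : Cfsg.IsElementaryAbelian 2 (commutator X)) (hcen : commutator X ≤ Subgroup.center X) :
    (∀ x ∈ Subgroup.closure {g : X | g ^ 4 = 1}, x ^ 4 = 1) ∧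
      ∀ φ : MulAut X, (∀ g : X, g ^ 4 = 1 → φ g = g) → ∃ k : ℕ, φ ^ (2 ^ k) = 1 := by
  refine ⟨?_, ?_⟩
  · intro x hx
    induction hx using Subgroup.closure_induction with
    | mem x hx => exact hx
    | one => exact one_pow _
    | mul x y _ _ hx hy => rw [mul_pow_four hel hcen, hx, hy, one_mul]
    | inv x _ hx => rw [inv_pow, hx, inv_one]
  · intro φ hφ
    have hfin : Finite (MulAut X) := Finite.of_injective (fun f : MulAut X => (f : X → X))
      (fun f g h => MulEquiv.ext (congrFun h))
    have hn : 0 < orderOf φ := orderOf_pos φ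
    obtain ⟨k, m, hm, hkm⟩ := Nat.exists_eq_two_pow_mul_odd hn.ne'
    refine ⟨k, ?_⟩
    set ψ : MulAut X := φ ^ (2 ^ k) with hψ
    have hψm : ψ ^ m = 1 := by
      rw [hψ, ← pow_mul, ← hkm, pow_orderOf_eq_one]
    have hψfix : ∀ g : X, g ^ 4 = 1 → ψ g = g := by
      intro g hg
      have : ∀ j : ℕ, (φ ^ j) g = g := by
        intro j
        induction j with
        | zero => simp
        | succ j ih => rw [pow_succ, MulAut.mul_apply, hφ g hg, ih]
      exact this _
    -- main claim
    have key : ∀ n : ℕ, ∀ x : X, orderOf x = n → ψ x = x := by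
      intro n
      induction n using Nat.strong_induction_on with
      | _ n ih =>
        intro x hxn
        by_cases hx4 : x ^ 4 = 1
        · exact hψfix x hx4
        · -- order of x² smaller
          obtain ⟨e, he⟩ := IsPGroup.iff_orderOf.mp hX x
          have hx1 : x ≠ 1 := by rintro rfl; exact hx4 (one_pow _)
          have he0 : e ≠ 0 := by
            rintro rfl
            rw [pow_zero, orderOf_eq_one_iff] at he
            exact hx1 he
          have hlt : orderOf (x ^ 2) < n := by
            rw [orderOf_pow' x two_ne_zero, ← hxn, he]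
            obtain ⟨e', rfl⟩ := Nat.exists_eq_succ_of_ne_zero he0
            have : Nat.gcd (2 ^ (e' + 1)) 2 = 2 :=
              Nat.gcd_eq_right (dvd_pow_self 2 (Nat.succ_ne_zero e'))
            rw [this, pow_succ, Nat.mul_div_cancel _ two_pos]
            have : 0 < 2 ^ e' := by positivity
            omega
          have hsq : ψ (x ^ 2) = x ^ 2 := ih _ hlt _ rfl
          set z : X := x⁻¹ * ψ x with hz
          have hψx : ψ x = x * z := by rw [hz]; group
          have h2 : (x * z) ^ 2 = x ^ 2 := by rw [← hψx, ← map_pow, hsq]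
          rw [mul_sq hel hcen] at h2
          have h3 : z ^ 2 = ⁅z, x⁆⁻¹ := by
            have hs := sq_central hel hcen z x
            have h4 : (⁅z, x⁆ * z ^ 2) * x ^ 2 = 1 * x ^ 2 := by
              rw [one_mul, mul_assoc, sq_central hel hcen (x ^ 2) z]
              exact h2
            have h5 := mul_right_cancel h4
            exact eq_inv_of_mul_eq_one_right h5
          have hz4 : z ^ 4 = 1 := by
            have : z ^ 4 = (z ^ 2) ^ 2 := by rw [← pow_mul]
            rw [this, h3, inv_pow, (comm_props hel hcen z x).2, inv_one]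
          have hψz : ψ z = z := hψfix z hz4
          have hpow : ∀ j : ℕ, (ψ ^ j) x = x * z ^ j := by
            intro j
            induction j with
            | zero => simp
            | succ j ih2 =>
              rw [pow_succ', MulAut.mul_apply, ih2, map_mul, map_pow, hψz, hψx, pow_succ']
              group
          have hzm : z ^ m = 1 := by
            have := hpow m
            rw [hψm, MulAut.one_apply] at this
            exact (mul_eq_left.mp this.symm)
          have hz1 : z = 1 := by
            have hd : orderOf z ∣ Nat.gcd m 4 :=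
              Nat.dvd_gcd (orderOf_dvd_of_pow_eq_one hzm) (orderOf_dvd_of_pow_eq_one hz4)
            have hg : Nat.gcd m 4 = 1 := by
              have h22 : Nat.Coprime m (2 ^ 2) :=
                Nat.Coprime.pow_right 2 (Nat.coprime_two_right.mpr hm)
              exact h22
            rw [hg, Nat.dvd_one, orderOf_eq_one_iff] at hd
            exact hd
          rw [hψx, hz1, mul_one]
    ext x
    rw [MulAut.one_apply]
    exact key _ x rfl

end Cfsg.Agent.S1898
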