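import Cfsg.Statements.S1899
import Mathlib

set_option autoImplicit false
open Cfsg

namespace Cfsg.Agent.S1899

theorem result {A : Type*} [CommGroup A] [Finite A] (hA : IsPGroup 2 A)
    {n : ℕ} (hn : Odd n) (hn1 : 1 < n) (d t : MulAut A) (hd : d ^ n = 1) (ht : t ^ 2 = 1) (hdt : t * d * t⁻¹ = d⁻¹)
    (hfix : ∀ a : A, d a = a → a = 1) :
    (MulEquiv.toMonoidHom t).eqLocus (MonoidHom.id A) ⊓ ((MulEquiv.toMonoidHom t).eqLocus (MonoidHom.id A)).map d.toMonoidHom = ⊥ ∧
      (MulEquiv.toMonoidHom t).eqLocus (MonoidHom.id A) ⊔ ((MulEquiv.toMonoidHom t).eqLocus (MonoidHom.id A)).map d.toMonoidHom = ⊤ := by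
  -- basic facts
  have htt : ∀ a : A, t (t a) = a := by
    intro a
    have : (t ^ 2) a = a := by rw [ht]; rfl
    simpa [pow_two] using this
  have htd : ∀ a : A, t (d a) = d⁻¹ (t a) := by
    intro a
    have h1 : t * d = d⁻¹ * t := by
      have := congrArg (fun x => x * t) hdt
      simpa [mul_assoc] using this
    have := congrArg (fun f : MulAut A => f a) h1
    simpa using this
  have htdinv : ∀ a : A, t (d⁻¹ a) = d (t a) := by
    intro a
    have h := htd (d⁻¹ a)
    have h2 : d (d⁻¹ a) = a := by simp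
    rw [h2] at h
    -- h : t a = d⁻¹ (t (d⁻¹ a))
    have := congrArg d h
    simp at this
    exact this.symm
  have hd2 : ∀ a : A, d (d a) = a → d a = a := by
    intro a ha
    obtain ⟨k, hk⟩ := hn
    have hpow : ∀ m : ℕ, (d ^ (2 * m)) a = a := by
      intro m
      induction m with
      | zero => simp
      | succ m ih =>
        have : d ^ (2 * (m + 1)) = d ^ (2 * m) * (d * d) := by
          rw [mul_add, pow_add]; simp [pow_two]
        rw [this]
        change (d ^ (2 * m)) (d (d a)) = a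
        rw [ha, ih]
    have h1 : d ^ (2 * (k + 1)) = d := by
      have : 2 * (k + 1) = n + 1 := by omega
      rw [this, pow_succ, hd, one_mul]
    have := hpow (k + 1)
    rw [h1] at this
    exact this
  set B := (MulEquiv.toMonoidHom t).eqLocus (MonoidHom.id A) with hB
  have hmemB : ∀ a : A, a ∈ B ↔ t a = a := by
    intro a
    rw [hB]
    exact Iff.rfl
  have hmemB' : ∀ c : A, c ∈ B.map d.toMonoidHom ↔ t (d⁻¹ c) = d⁻¹ c := by
    intro c
    constructor
    · rintro ⟨b, hb, rfl⟩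
      have : d⁻¹ (d b) = b := by simp
      change t (d⁻¹ (d b)) = d⁻¹ (d b)
      rw [this]
      exact (hmemB b).mp hb
    · intro h
      exact ⟨d⁻¹ c, (hmemB _).mpr h, by simp⟩
  have hinf : B ⊓ B.map d.toMonoidHom = ⊥ := by
    rw [eq_bot_iff]
    intro c hc
    have hc1 : c ∈ B := hc.1
    have hc2 : c ∈ B.map d.toMonoidHom := hc.2
    rw [hmemB] at hc1
    rw [hmemB', htdinv, hc1] at hc2
    -- hc2 : d c = d⁻¹ c
    have h3 : d (d c) = c := by
      rw [hc2]; simp
    have := hfix c (hd2 c h3)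
    rw [this]
    exact one_mem _
  refine ⟨hinf, ?_⟩
  -- injection A → B × B'
  let f : A → B × (B.map d.toMonoidHom : Subgroup A) := fun a =>
    (⟨a * t a, (hmemB _).mpr (by rw [map_mul, htt, mul_comm])⟩,
     ⟨a * d (t (d⁻¹ a)), (hmemB' _).mpr (by
        rw [map_mul, map_mul]
        have h1 : d⁻¹ (d (t (d⁻¹ a))) = t (d⁻¹ a) := by simp
        rw [h1, htt, mul_comm])⟩)
  have hf : Function.Injective f := by
    intro a b hab
    have h1 : a * t a = b * t b := congrArg (fun x => (x.1 : A)) hab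
    have h2 : a * d (t (d⁻¹ a)) = b * d (t (d⁻¹ b)) := congrArg (fun x => (x.2 : A)) hab
    -- let c = a * b⁻¹
    have hc1 : t (a * b⁻¹) = (a * b⁻¹)⁻¹ := by
      rw [map_mul, map_inv]
      have : t a = a⁻¹ * (b * t b) := by rw [← h1]; group
      rw [this]
      have e : ∀ x y z : A, x⁻¹ * (y * z) * z⁻¹ = (x * y⁻¹)⁻¹ := by
        intro x y z
        rw [mul_inv_rev, inv_inv, mul_comm y x⁻¹]
        group
      exact e a b (t b)
    have hc2 : d (t (d⁻¹ (a * b⁻¹))) = (a * b⁻¹)⁻¹ := by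
      rw [map_mul, map_inv, map_mul, map_inv, map_mul, map_inv]
      have : d (t (d⁻¹ a)) = a⁻¹ * (b * d (t (d⁻¹ b))) := by rw [← h2]; group
      rw [this]
      have e : ∀ x y z : A, x⁻¹ * (y * z) * z⁻¹ = (x * y⁻¹)⁻¹ := by
        intro x y z
        rw [mul_inv_rev, inv_inv, mul_comm y x⁻¹]
        group
      exact e a b _
    set c := a * b⁻¹ with hc
    rw [htdinv, hc1, map_inv, map_inv] at hc2
    -- hc2 : (d (d c))⁻¹ = c⁻¹
    have h3 : d (d c) = c := inv_injective hc2
    have := hfix c (hd2 c h3)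
    rw [hc] at this
    exact mul_inv_eq_one.mp this
  -- product map B × B' → A
  let m : B × (B.map d.toMonoidHom : Subgroup A) → A := fun x => (x.1 : A) * (x.2 : A)
  have hm : Function.Injective m := by
    rintro ⟨⟨b, hb⟩, ⟨c, hc⟩⟩ ⟨⟨b', hb'⟩, ⟨c', hc'⟩⟩ h
    change b * c = b' * c' at h
    have h1 : b'⁻¹ * b = c' * c⁻¹ := by
      have : b = b' * c' * c⁻¹ := by rw [← h]; group
      rw [this]; group
    have h2a : b'⁻¹ * b ∈ B := B.mul_mem (B.inv_mem hb') hb
    have h2b : b'⁻¹ * b ∈ B.map d.toMonoidHom := by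
      rw [h1]
      exact Subgroup.mul_mem _ hc' (Subgroup.inv_mem _ hc)
    have h2 : b'⁻¹ * b ∈ B ⊓ B.map d.toMonoidHom := ⟨h2a, h2b⟩
    rw [hinf, Subgroup.mem_bot] at h2
    have hbb : b = b' := by
      have := inv_mul_eq_one.mp h2
      exact this.symm
    have hcc : c = c' := by
      rw [h2] at h1
      have := mul_inv_eq_one.mp h1.symm
      exact this.symm
    subst hbb; subst hcc; rfl
  have hcard : Nat.card A ≤ Nat.card (B × (B.map d.toMonoidHom : Subgroup A)) :=
    Nat.card_le_card_of_injective f hf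
  have hbij : Function.Bijective m := hm.bijective_of_nat_card_le hcard
  rw [eq_top_iff]
  intro a _
  obtain ⟨⟨b, c⟩, hbc⟩ := hbij.2 a
  rw [← hbc]
  exact Subgroup.mul_mem_sup b.2 c.2

end Cfsg.Agent.S1899
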