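import Cfsg.Statements.S1900
import Mathlib
import Cfsg.Agent.Lib.H9.CoprimeGeneration

set_option autoImplicit false
open Cfsg

namespace Cfsg.Agent.S1900

open Cfsg.Agent.Lib.H1 Cfsg.Agent.Lib.H9
open scoped commutatorElement

section lemmas
variable {S : Type*} [Group S]

/-- three subgroups lemma modulo a normal subgroup -/
theorem three_subgroups_mod (N : Subgroup S) [N.Normal] (H₁ H₂ H₃ : Subgroup S)
    (h1 : ⁅⁅H₂, H₃⁆, H₁⁆ ≤ N) (h2 : ⁅⁅H₃, H₁⁆, H₂⁆ ≤ N) : ⁅⁅H₁, H₂⁆, H₃⁆ ≤ N := by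
  have key : ∀ A B C : Subgroup S, ⁅⁅A, B⁆, C⁆ ≤ N ↔
      ⁅⁅A.map (QuotientGroup.mk' N), B.map (QuotientGroup.mk' N)⁆,
        C.map (QuotientGroup.mk' N)⁆ = ⊥ := by
    intro A B C
    rw [← Subgroup.map_commutator, ← Subgroup.map_commutator, Subgroup.map_eq_bot_iff,
      QuotientGroup.ker_mk']
  rw [key] at h1 h2 ⊢
  exact Subgroup.commutator_commutator_eq_bot_of_rotate h1 h2

theorem step (N : Subgroup S) [N.Normal] (M T D E : Subgroup S) (hMT : ⁅M, T⁆ ≤ N)
    (hDE : ⁅D, E⁆ ≤ M) (hD : ⁅T, D⁆ = ⊥) (hE : ⁅E, T⁆ = E) : ⁅D, E⁆ ≤ N := by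
  have h1 : ⁅⁅T, D⁆, E⁆ ≤ N := by rw [hD, Subgroup.commutator_bot_left]; exact bot_le
  have h2 : ⁅⁅D, E⁆, T⁆ ≤ N := (Subgroup.commutator_mono hDE le_rfl).trans hMT
  have h3 := three_subgroups_mod N E T D h1 h2
  rw [hE] at h3
  rwa [Subgroup.commutator_comm]

theorem centralizer_singleton_eq (a : S) :
    Subgroup.centralizer ({a} : Set S) = Subgroup.centralizer (Subgroup.zpowers a : Set S) := by
  apply le_antisymm
  · intro c hc
    rw [Subgroup.mem_centralizer_singleton_iff] at hc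
    rw [Subgroup.mem_centralizer_iff]
    rintro _ ⟨k, rfl⟩
    have : Commute c a := hc
    exact (this.zpow_right k).eq.symm
  · exact Subgroup.centralizer_le (by simp)

theorem le_normalizer_of_conj_mem {K H : Subgroup S} (h : ∀ g ∈ K, ∀ a ∈ H, g * a * g⁻¹ ∈ H) :
    K ≤ Subgroup.normalizer (H : Set S) := by
  intro g hg
  rw [Subgroup.mem_normalizer_iff]
  intro a
  constructor
  · exact h g hg a
  · intro ha
    have := h g⁻¹ (K.inv_mem hg) _ ha
    simpa [mul_assoc] using this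

theorem zpowers_eq_of_ne_one [Finite S] {q : ℕ} [Fact q.Prime] {X : Subgroup S} (hX : Nat.card X = q) {a : S}
    (ha : a ∈ X) (ha1 : a ≠ 1) : Subgroup.zpowers a = X := by
  have hle : Subgroup.zpowers a ≤ X := Subgroup.zpowers_le.mpr ha
  apply Subgroup.eq_of_le_of_card_ge hle
  have hd : Nat.card (Subgroup.zpowers a) ∣ q := hX ▸ Subgroup.card_dvd_of_le hle
  rcases (Nat.dvd_prime (Fact.out : q.Prime)).mp hd with h1 | h1
  · exfalso
    apply ha1
    have := (Subgroup.card_eq_one.mp h1)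
    rwa [Subgroup.zpowers_eq_bot] at this
  · rw [hX, h1]

end lemmas

section setup
variable {S : Type*} [Group S] [Finite S]

structure Setup (p q : ℕ) (P Q : Subgroup S) (x y : S) : Prop where
  hpq : p ≠ q
  hP : IsPGroup p P
  hPn : P.Normal
  hQcomm : ∀ a ∈ Q, ∀ b ∈ Q, a * b = b * a
  hQexp : ∀ a ∈ Q, a ^ q = 1
  hx : x ∈ Q
  hy : y ∈ Q
  hx1 : x ≠ 1
  hy1 : y ≠ 1
  honly : ∀ i j : ℕ, x ^ i ≠ 1 → y ^ j ≠ 1 → P ⊓ Subgroup.centralizer {x ^ i * y ^ j} = ⊥
  top : P ⊔ Q = ⊤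

variable {p q : ℕ} [Fact p.Prime] [Fact q.Prime] {P Q : Subgroup S} {x y : S}

theorem Setup.symm (h : Setup p q P Q x y) : Setup p q P Q y x where
  hpq := h.hpq
  hP := h.hP
  hPn := h.hPn
  hQcomm := h.hQcomm
  hQexp := h.hQexp
  hx := h.hy
  hy := h.hx
  hx1 := h.hy1
  hy1 := h.hx1
  honly := by
    intro i j hi hj
    have e : y ^ i * x ^ j = x ^ j * y ^ i :=
      h.hQcomm _ (Q.pow_mem h.hy i) _ (Q.pow_mem h.hx j)
    rw [e]
    exact h.honly j i hj hi
  top := h.top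

theorem Setup.isPGroupQ (h : Setup p q P Q x y) : IsPGroup q Q := by
  intro a
  refine ⟨1, ?_⟩
  apply Subtype.ext
  have := h.hQexp a a.2
  simpa using this

theorem Setup.coprimeAction (h : Setup p q P Q x y) {A K : Subgroup S} (hA : A ≤ Q) (hK : K ≤ P)
    (hAK : A ≤ Subgroup.normalizer (K : Set S)) : CoprimeAction A K := by
  have hKp : IsPGroup p K := h.hP.to_le hK
  have hAq : IsPGroup q A := h.isPGroupQ.to_le hA
  refine ⟨hAK, IsPGroup.coprime_card_of_ne q p h.hpq.symm A K hAq hKp, Or.inr ?_⟩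
  have : Group.IsNilpotent K := hKp.isNilpotent
  infer_instance

theorem Setup.gen (h : Setup p q P Q x y) {K : Subgroup S} (hK : K ≤ P)
    (hQK : Q ≤ Subgroup.normalizer (K : Set S)) :
    K ≤ (K ⊓ Subgroup.centralizer {x}) ⊔ (K ⊓ Subgroup.centralizer {y}) := by
  have hCA := h.coprimeAction le_rfl hK hQK
  have hKp : IsPGroup p K := h.hP.to_le hK
  have hKq : (Nat.card K).Coprime q := by
    obtain ⟨n, hn⟩ := hKp.exists_card_eq
    rw [hn]
    exact Nat.Coprime.pow_left n ((Nat.coprime_primes Fact.out Fact.out).mpr h.hpq)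
  apply le_of_centralizers_le hCA hKq h.hx h.hy (h.hQcomm x h.hx y h.hy) (h.hQexp x h.hx)
    (h.hQexp y h.hy) le_sup_left
  intro i
  by_cases hi : x ^ i = 1
  · rw [hi, one_mul]; exact le_sup_right
  · have := h.honly i 1 hi (by simpa using h.hy1)
    rw [pow_one] at this
    calc K ⊓ Subgroup.centralizer {x ^ i * y} ≤ P ⊓ Subgroup.centralizer {x ^ i * y} :=
          inf_le_inf_right _ hK
      _ = ⊥ := this
      _ ≤ _ := bot_le

theorem Setup.inf_eq_bot (h : Setup p q P Q x y) :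
    (P ⊓ Subgroup.centralizer {x}) ⊓ (P ⊓ Subgroup.centralizer {y}) = ⊥ := by
  rw [eq_bot_iff]
  have := h.honly 1 1 (by simpa using h.hx1) (by simpa using h.hy1)
  rw [pow_one, pow_one] at this
  rw [← this]
  intro c hc
  obtain ⟨⟨hcP, hcx⟩, ⟨_, hcy⟩⟩ := hc
  refine ⟨hcP, ?_⟩
  change c ∈ Subgroup.centralizer {x} at hcx
  change c ∈ Subgroup.centralizer {y} at hcy
  change c ∈ Subgroup.centralizer {x * y}
  rw [Subgroup.mem_centralizer_singleton_iff] at hcx hcy ⊢
  rw [← mul_assoc, hcx, mul_assoc, hcy, mul_assoc]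

/-- `[C_P(y), ⟨x⟩] = C_P(y)`. -/
theorem Setup.comm_eq (h : Setup p q P Q x y) :
    ⁅P ⊓ Subgroup.centralizer {y}, Subgroup.zpowers x⁆ = P ⊓ Subgroup.centralizer {y} := by
  haveI := h.hPn
  have hxQ : Subgroup.zpowers x ≤ Q := Subgroup.zpowers_le.mpr h.hx
  have hnorm : Subgroup.zpowers x ≤
      Subgroup.normalizer ((P ⊓ Subgroup.centralizer {y} : Subgroup S) : Set S) := by
    apply le_normalizer_of_conj_mem
    intro g hg a ha
    have hgy : g * y = y * g := h.hQcomm g (hxQ hg) y h.hy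
    refine ⟨h.hPn.conj_mem a ha.1 g, ?_⟩
    have hay : a ∈ Subgroup.centralizer {y} := ha.2
    change g * a * g⁻¹ ∈ Subgroup.centralizer {y}
    rw [Subgroup.mem_centralizer_singleton_iff] at hay ⊢
    calc g * a * g⁻¹ * y = g * a * (g⁻¹ * y) := by group
      _ = g * a * (y * g⁻¹) := by
          congr 1
          calc g⁻¹ * y = g⁻¹ * (y * g) * g⁻¹ := by group
            _ = g⁻¹ * (g * y) * g⁻¹ := by rw [hgy]
            _ = y * g⁻¹ := by group
      _ = g * (a * y) * g⁻¹ := by group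
      _ = g * (y * a) * g⁻¹ := by rw [hay]
      _ = (g * y) * a * g⁻¹ := by group
      _ = (y * g) * a * g⁻¹ := by rw [hgy]
      _ = y * (g * a * g⁻¹) := by group
  have hCA := h.coprimeAction hxQ inf_le_left hnorm
  have h1 := coprime_commutator_sup_centralizer hCA
  have h2 : (P ⊓ Subgroup.centralizer {y}) ⊓
      Subgroup.centralizer (Subgroup.zpowers x : Set S) = ⊥ := by
    rw [← centralizer_singleton_eq, eq_bot_iff, ← h.inf_eq_bot]
    intro c hc
    exact ⟨⟨hc.1.1, hc.2⟩, hc.1⟩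
  rw [h2, sup_bot_eq] at h1
  exact h1

end setup

section main
variable {S : Type*} [Group S] [Finite S]
variable {p q : ℕ} [Fact p.Prime] [Fact q.Prime] {P Q : Subgroup S} {x y : S}

/-- the preimage in `P` of `C_{Z(P/N)}(t)` -/
def Mt (P N : Subgroup S) [N.Normal] (t : S) : Subgroup S :=
  P ⊓ (Subgroup.centralizer ((P.map (QuotientGroup.mk' N) : Subgroup (S ⧸ N)) : Set (S ⧸ N)) ⊓
    Subgroup.centralizer {QuotientGroup.mk' N t}).comap (QuotientGroup.mk' N)

omit [Finite S] in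
theorem mem_Mt {P N : Subgroup S} [N.Normal] {t m : S} :
    m ∈ Mt P N t ↔ m ∈ P ∧ (∀ g ∈ P, ⁅m, g⁆ ∈ N) ∧ ⁅m, t⁆ ∈ N := by
  unfold Mt
  rw [Subgroup.mem_inf, Subgroup.mem_comap, Subgroup.mem_inf, Subgroup.mem_centralizer_iff,
    Subgroup.mem_centralizer_singleton_iff]
  have hc : ∀ a b : S, ⁅a, b⁆ ∈ N ↔
      QuotientGroup.mk' N a * QuotientGroup.mk' N b = QuotientGroup.mk' N b * QuotientGroup.mk' N a := by
    intro a b
    rw [← QuotientGroup.eq_one_iff, ← QuotientGroup.mk'_apply, map_commutatorElement,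
      commutatorElement_eq_one_iff_commute]
    exact Iff.rfl
  constructor
  · rintro ⟨h1, h2, h3⟩
    refine ⟨h1, ?_, (hc _ _).mpr h3⟩
    intro g hg
    rw [hc]
    exact (h2 _ (Subgroup.mem_map_of_mem _ hg)).symm
  · rintro ⟨h1, h2, h3⟩
    refine ⟨h1, ?_, (hc _ _).mp h3⟩
    rintro _ ⟨g, hg, rfl⟩
    exact ((hc _ _).mp (h2 g hg)).symm

omit [Finite S] in
theorem le_Mt {P N : Subgroup S} [N.Normal] (hNP : N ≤ P) (t : S) : N ≤ Mt P N t := by
  intro n hn
  rw [mem_Mt]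
  have hN : ∀ g : S, ⁅n, g⁆ ∈ N := by
    intro g
    rw [commutatorElement_def, mul_assoc, mul_assoc]
    apply N.mul_mem hn
    have := ‹N.Normal›.conj_mem n⁻¹ (N.inv_mem hn) g
    simpa [mul_assoc] using this
  exact ⟨hNP hn, fun g _ => hN g, hN t⟩

omit [Finite S] in
theorem conj_mem_Mt {P N : Subgroup S} [P.Normal] [N.Normal] {t m a : S} (hm : m ∈ Mt P N t)
    (hat : a * t = t * a) : a * m * a⁻¹ ∈ Mt P N t := by
  rw [mem_Mt] at hm ⊢
  refine ⟨‹P.Normal›.conj_mem m hm.1 a, ?_, ?_⟩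
  · intro g hg
    have h1 : a⁻¹ * g * a ∈ P := by
      have := ‹P.Normal›.conj_mem g hg a⁻¹
      simpa using this
    have h2 := ‹N.Normal›.conj_mem _ (hm.2.1 _ h1) a
    rw [conjugate_commutatorElement] at h2
    have e : a * (a⁻¹ * g * a) * a⁻¹ = g := by group
    rwa [e] at h2
  · have h2 := ‹N.Normal›.conj_mem _ hm.2.2 a
    rw [conjugate_commutatorElement] at h2
    have e : a * t * a⁻¹ = t := by rw [hat]; group
    rwa [e] at h2

omit [Finite S] [Fact p.Prime] [Fact q.Prime] in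
theorem Setup.Mt_normal (h : Setup p q P Q x y) (N : Subgroup S) [N.Normal] (hNP : N ≤ P)
    {t : S} (ht : t ∈ Q) : (Mt P N t).Normal := by
  haveI := h.hPn
  rw [← Subgroup.normalizer_eq_top_iff, eq_top_iff, ← h.top]
  apply sup_le
  · -- P normalizes
    apply le_normalizer_of_conj_mem
    intro g hg m hm
    have hm' := hm
    rw [mem_Mt] at hm'
    have h1 : ⁅g, m⁆ ∈ N := by
      have := N.inv_mem (hm'.2.1 g hg)
      rwa [commutatorElement_inv] at this
    have e : g * m * g⁻¹ = ⁅g, m⁆ * m := by rw [commutatorElement_def]; group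
    rw [e]
    exact (Mt P N t).mul_mem (le_Mt hNP t h1) hm
  · apply le_normalizer_of_conj_mem
    intro a ha m hm
    exact conj_mem_Mt hm (h.hQcomm a ha t ht)

omit [Finite S] in
theorem commutator_Mt_le {P N : Subgroup S} [N.Normal] (t : S) :
    ⁅Mt P N t, Subgroup.zpowers t⁆ ≤ N := by
  rw [Subgroup.commutator_le]
  intro m hm g hg
  rw [mem_Mt] at hm
  obtain ⟨k, rfl⟩ := hg
  -- work in the quotient
  rw [← QuotientGroup.eq_one_iff, ← QuotientGroup.mk'_apply, map_commutatorElement,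
      commutatorElement_eq_one_iff_commute, map_zpow]
  apply Commute.zpow_right
  rw [← commutatorElement_eq_one_iff_commute, ← map_commutatorElement, QuotientGroup.mk'_apply,
    QuotientGroup.eq_one_iff]
  exact hm.2.2

theorem Setup.exists_M (h : Setup p q P Q x y) (N : Subgroup S) [N.Normal] (hNP : N ≤ P)
    (hNe : N ≠ P) :
    ∃ M : Subgroup S, M.Normal ∧ N ≤ M ∧ M ≤ P ∧ ¬ M ≤ N ∧
      (⁅M, Subgroup.zpowers x⁆ ≤ N ∨ ⁅M, Subgroup.zpowers y⁆ ≤ N) := by
  haveI := h.hPn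
  -- the preimage of the centre of P/N
  let M₀ : Subgroup S := P ⊓ (Subgroup.centralizer
    ((P.map (QuotientGroup.mk' N) : Subgroup (S ⧸ N)) : Set (S ⧸ N))).comap (QuotientGroup.mk' N)
  haveI : (P.map (QuotientGroup.mk' N)).Normal :=
    Subgroup.Normal.map h.hPn _ (QuotientGroup.mk'_surjective N)
  have hM₀n : M₀.Normal := inferInstance
  have hex : ∃ z ∈ M₀, z ∉ N := by
    have hlt : ∃ g ∈ P, g ∉ N := by
      by_contra hcon
      push Not at hcon
      exact hNe (le_antisymm hNP hcon)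
    obtain ⟨g, hgP, hgN⟩ := hlt
    haveI : Nontrivial ↥(P.map (QuotientGroup.mk' N)) := by
      refine ⟨⟨⟨QuotientGroup.mk' N g, Subgroup.mem_map_of_mem _ hgP⟩, 1, ?_⟩⟩
      intro he
      have : QuotientGroup.mk' N g = 1 := congrArg Subtype.val he
      exact hgN ((QuotientGroup.eq_one_iff g).mp this)
    have hPm : IsPGroup p ↥(P.map (QuotientGroup.mk' N)) := h.hP.map _
    haveI := hPm.center_nontrivial
    obtain ⟨⟨⟨z, hzP⟩, hz⟩, hz1⟩ := exists_ne (1 : ↥(Subgroup.center ↥(P.map (QuotientGroup.mk' N))))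
    obtain ⟨z₀, hz₀P, rfl⟩ := hzP
    refine ⟨z₀, Subgroup.mem_inf.mpr ⟨hz₀P, Subgroup.mem_comap.mpr ?_⟩, ?_⟩
    · rw [Subgroup.mem_centralizer_iff]
      intro w hw
      rw [Subgroup.mem_center_iff] at hz
      have := hz ⟨w, hw⟩
      exact congrArg Subtype.val this
    · intro hzN
      apply hz1
      apply Subtype.ext
      apply Subtype.ext
      exact (QuotientGroup.eq_one_iff z₀).mpr hzN
  obtain ⟨z, hzM, hzN⟩ := hex
  have hgen := h.gen (K := M₀) inf_le_left (by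
    rw [Subgroup.normalizer_eq_top_iff.mpr hM₀n]; exact le_top)
  have hsub : ∀ t : S, M₀ ⊓ Subgroup.centralizer {t} ≤ Mt P N t := by
    intro t m hm
    unfold Mt
    have hm1 : m ∈ M₀ := hm.1
    have hm2 : m ∈ Subgroup.centralizer {t} := hm.2
    have hm3 := (Subgroup.mem_inf.mp hm1).2
    rw [Subgroup.mem_comap] at hm3
    refine Subgroup.mem_inf.mpr ⟨hm1.1, Subgroup.mem_comap.mpr (Subgroup.mem_inf.mpr ⟨hm3, ?_⟩)⟩
    have := hm2
    rw [Subgroup.mem_centralizer_singleton_iff] at this ⊢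
    rw [← map_mul, this, map_mul]
  have hcases : ¬ (M₀ ⊓ Subgroup.centralizer {x} ≤ N) ∨ ¬ (M₀ ⊓ Subgroup.centralizer {y} ≤ N) := by
    by_contra hcon
    push Not at hcon
    exact hzN ((hgen.trans (sup_le hcon.1 hcon.2)) hzM)
  rcases hcases with hc | hc
  · exact ⟨Mt P N x, h.Mt_normal N hNP h.hx, le_Mt hNP x, inf_le_left,
      fun hle => hc ((hsub x).trans hle), Or.inl (commutator_Mt_le x)⟩
  · exact ⟨Mt P N y, h.Mt_normal N hNP h.hy, le_Mt hNP y, inf_le_left,
      fun hle => hc ((hsub y).trans hle), Or.inr (commutator_Mt_le y)⟩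

theorem Setup.comm_le (h : Setup p q P Q x y) :
    ∀ (k : ℕ) (N : Subgroup S) [N.Normal], N ≤ P → Nat.card P - Nat.card N = k →
      ⁅P ⊓ Subgroup.centralizer {x}, P ⊓ Subgroup.centralizer {y}⁆ ≤ N := by
  intro k
  induction k using Nat.strong_induction_on with
  | _ k ih =>
  intro N _ hNP hk
  haveI := h.hPn
  by_cases hNe : N = P
  · rw [hNe]
    exact (Subgroup.commutator_mono inf_le_left inf_le_left).trans
      (Subgroup.commutator_le_left P P)
  · obtain ⟨M, hMn, hNM, hMP, hMN, hM⟩ := h.exists_M N hNP hNe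
    have hcard : Nat.card N < Nat.card M := by
      by_contra hcon
      push Not at hcon
      exact hMN (Subgroup.eq_of_le_of_card_ge hNM hcon).ge
    have hcardP : Nat.card M ≤ Nat.card P := Subgroup.card_le_of_le hMP
    have hIH := ih (Nat.card P - Nat.card M) (by omega) M hMP rfl
    rcases hM with hM | hM
    · -- M/N centralized by x
      apply step N M (Subgroup.zpowers x) _ _ hM hIH
      · rw [Subgroup.commutator_comm, Subgroup.commutator_eq_bot_iff_le_centralizer,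
          ← centralizer_singleton_eq]
        exact inf_le_right
      · exact h.comm_eq
    · rw [Subgroup.commutator_comm]
      rw [Subgroup.commutator_comm] at hIH
      apply step N M (Subgroup.zpowers y) _ _ hM hIH
      · rw [Subgroup.commutator_comm, Subgroup.commutator_eq_bot_iff_le_centralizer,
          ← centralizer_singleton_eq]
        exact inf_le_right
      · exact h.symm.comm_eq

end main

/-- Let S = PQ be a finite group with P a normal Sylow p-subgroup and Q elementary abelian of order q², q a prime different from p. If exactly two subgroups X₁, X₂ of order q in Q have a nontrivial centralizer in P, then P is the internal direct product of C_P(X₁) and C_P(X₂): they commute elementwise, meet trivially and generate P. -/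
theorem result {S : Type*} [Group S] [Finite S] {p q : ℕ} [Fact p.Prime] [Fact q.Prime] (hpq : p ≠ q)
    (P : Sylow p S) [(P : Subgroup S).Normal] (Q : Subgroup S) (hQ : Cfsg.IsElementaryAbelian q Q) (hQc : Nat.card Q = q ^ 2)
    (hS : (P : Subgroup S) ⊔ Q = ⊤)
    (X₁ X₂ : Subgroup S) (h₁ : X₁ ≤ Q) (h₂ : X₂ ≤ Q) (h₁₂ : X₁ ≠ X₂) (hc₁ : Nat.card X₁ = q) (hc₂ : Nat.card X₂ = q)
    (hf₁ : (P : Subgroup S) ⊓ Subgroup.centralizer (X₁ : Set S) ≠ ⊥)
    (hf₂ : (P : Subgroup S) ⊓ Subgroup.centralizer (X₂ : Set S) ≠ ⊥)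
    (honly : ∀ X : Subgroup S, X ≤ Q → Nat.card X = q →
      (P : Subgroup S) ⊓ Subgroup.centralizer (X : Set S) ≠ ⊥ → X = X₁ ∨ X = X₂) :
    ⁅(P : Subgroup S) ⊓ Subgroup.centralizer (X₁ : Set S), (P : Subgroup S) ⊓ Subgroup.centralizer (X₂ : Set S)⁆ = ⊥ ∧
      ((P : Subgroup S) ⊓ Subgroup.centralizer (X₁ : Set S)) ⊓ ((P : Subgroup S) ⊓ Subgroup.centralizer (X₂ : Set S)) = ⊥ ∧
      ((P : Subgroup S) ⊓ Subgroup.centralizer (X₁ : Set S)) ⊔ ((P : Subgroup S) ⊓ Subgroup.centralizer (X₂ : Set S)) = P := by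
  have hq : q.Prime := Fact.out
  -- generators
  have hexg : ∀ X : Subgroup S, Nat.card X = q → ∃ a, a ≠ 1 ∧ Subgroup.zpowers a = X := by
    intro X hX
    have hXne : X ≠ ⊥ := by
      intro hb
      rw [hb, Subgroup.card_bot] at hX
      exact hq.one_lt.ne hX
    rcases X.bot_or_exists_ne_one with hb | ⟨a, ha, ha1⟩
    · exact absurd hb hXne
    · exact ⟨a, ha1, zpowers_eq_of_ne_one hX ha ha1⟩
  obtain ⟨x, hx1, hxX⟩ := hexg X₁ hc₁
  obtain ⟨y, hy1, hyX⟩ := hexg X₂ hc₂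
  have hxQ : x ∈ Q := h₁ (hxX ▸ Subgroup.mem_zpowers x)
  have hyQ : y ∈ Q := h₂ (hyX ▸ Subgroup.mem_zpowers y)
  have hQcomm : ∀ a ∈ Q, ∀ b ∈ Q, a * b = b * a := by
    intro a ha b hb
    have := hQ.1.is_comm.comm ⟨a, ha⟩ ⟨b, hb⟩
    exact congrArg Subtype.val this
  have hsetup : Setup p q (P : Subgroup S) Q x y := by
    refine ⟨hpq, P.isPGroup', inferInstance, hQcomm, hQ.2, hxQ, hyQ, hx1, hy1, ?_, hS⟩
    intro i j hi hj
    by_contra hne
    have hxi : Subgroup.zpowers (x ^ i) = X₁ :=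
      zpowers_eq_of_ne_one hc₁ (hxX ▸ Subgroup.pow_mem _ (Subgroup.mem_zpowers x) i) hi
    have hyj : Subgroup.zpowers (y ^ j) = X₂ :=
      zpowers_eq_of_ne_one hc₂ (hyX ▸ Subgroup.pow_mem _ (Subgroup.mem_zpowers y) j) hj
    have hxi1 : x ^ i ∈ X₁ := hxi ▸ Subgroup.mem_zpowers _
    have hyj2 : y ^ j ∈ X₂ := hyj ▸ Subgroup.mem_zpowers _
    set w := x ^ i * y ^ j with hw
    have hwQ : w ∈ Q := Q.mul_mem (Q.pow_mem hxQ i) (Q.pow_mem hyQ j)
    -- X₁ ≤ X₂ if x^i ∈ X₂ etc.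
    have hx2 : x ^ i ∉ X₂ := by
      intro hmem
      apply h₁₂
      apply Subgroup.eq_of_le_of_card_ge
      · rw [← hxi]; exact Subgroup.zpowers_le.mpr hmem
      · rw [hc₁, hc₂]
    have hy1' : y ^ j ∉ X₁ := by
      intro hmem
      apply h₁₂
      symm
      apply Subgroup.eq_of_le_of_card_ge
      · rw [← hyj]; exact Subgroup.zpowers_le.mpr hmem
      · rw [hc₁, hc₂]
    have hw1 : w ≠ 1 := by
      intro hw1
      apply hx2
      have : x ^ i = (y ^ j)⁻¹ := eq_inv_of_mul_eq_one_left hw1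
      rw [this]
      exact X₂.inv_mem hyj2
    have hwcard : Nat.card (Subgroup.zpowers w) = q := by
      rw [Nat.card_zpowers]
      exact orderOf_eq_prime (hQ.2 w hwQ) hw1
    have hwle : Subgroup.zpowers w ≤ Q := Subgroup.zpowers_le.mpr hwQ
    rw [centralizer_singleton_eq] at hne
    rcases honly _ hwle hwcard hne with hX | hX
    · apply hy1'
      have hwX : w ∈ X₁ := hX ▸ Subgroup.mem_zpowers w
      have : y ^ j = (x ^ i)⁻¹ * w := by rw [hw]; group
      rw [this]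
      exact X₁.mul_mem (X₁.inv_mem hxi1) hwX
    · apply hx2
      have hwX : w ∈ X₂ := hX ▸ Subgroup.mem_zpowers w
      have : x ^ i = w * (y ^ j)⁻¹ := by rw [hw]; group
      rw [this]
      exact X₂.mul_mem hwX (X₂.inv_mem hyj2)
  rw [← hxX, ← hyX, ← centralizer_singleton_eq, ← centralizer_singleton_eq]
  refine ⟨?_, hsetup.inf_eq_bot, ?_⟩
  · rw [eq_bot_iff]
    exact hsetup.comm_le _ ⊥ bot_le rfl
  · apply le_antisymm
    · exact sup_le inf_le_left inf_le_left
    · apply hsetup.gen le_rfl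
      rw [Subgroup.normalizer_eq_top_iff.mpr inferInstance]
      exact le_top

end Cfsg.Agent.S1900
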