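import Cfsg.Statements.S1901
import Cfsg.Agent.Lib.H10.PSolvable2
import Cfsg.Agent.Lib.H10.SylowIn
import Cfsg.Agent.Lib.H16.SylowMore
import Cfsg.Agent.Lib.H7.Coprime

set_option autoImplicit false
open Cfsg

namespace Cfsg.Agent.S1901

open Cfsg.Agent.Lib.H10

universe u

/-- In a `p`-solvable group, a `p`-element normalizing a `p'`-subgroup `Q` which normalizes a Sylow
`p`-subgroup centralizes `Q`. -/
theorem key {p : ℕ} [hp : Fact p.Prime] (n : ℕ) : ∀ (G : Type u) [Group G] [Finite G],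
    Nat.card G = n → IsPSolvable p G → ∀ (P : Sylow p G) (Q : Subgroup G),
    (Nat.card Q).Coprime p → Q ≤ Subgroup.normalizer ((P : Subgroup G) : Set G) →
    ∀ x ∈ Subgroup.normalizer (Q : Set G), (∃ k : ℕ, orderOf x = p ^ k) →
    x ∈ Subgroup.centralizer (Q : Set G) := by
  induction n using Nat.strong_induction_on with
  | _ n ih =>
  intro G _ _ hn hG P Q hQ hQP x hxN hxo
  rcases subsingleton_or_nontrivial G with hsub | hnt
  · rw [Subsingleton.elim x 1]; exact Subgroup.one_mem _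
  obtain ⟨M, hMn, hM1, hM⟩ := exists_normal_of_isPSolvable hG
  have hcardlt : Nat.card (G ⧸ M) < n := by
    rw [← hn, ← Subgroup.index_eq_card, ← Subgroup.index_mul_card M]
    have h1 : 1 < Nat.card M := by
      rw [Subgroup.one_lt_card_iff_ne_bot]; exact hM1
    have h2 : 0 < M.index := Nat.pos_of_ne_zero Subgroup.index_ne_zero_of_finite
    nlinarith
  set π := QuotientGroup.mk' M with hπ
  have hπs : Function.Surjective π := QuotientGroup.mk'_surjective M
  obtain ⟨k, hk⟩ := hxo
  -- induction hypothesis in `G ⧸ M`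
  have hbar : π x ∈ Subgroup.centralizer ((Q.map π : Subgroup (G ⧸ M)) : Set (G ⧸ M)) := by
    apply ih (Nat.card (G ⧸ M)) hcardlt (G ⧸ M) rfl (isPSolvable_quotient hG M)
      (P.mapSurjective hπs) (Q.map π)
    · exact Nat.Coprime.coprime_dvd_left (Subgroup.card_map_dvd _ _) hQ
    · have : ((P.mapSurjective hπs : Sylow p (G ⧸ M)) : Subgroup (G ⧸ M)) = (P : Subgroup G).map π := rfl
      rw [this]
      exact (Subgroup.map_mono hQP).trans (Subgroup.le_normalizer_map π)
    · exact Subgroup.le_normalizer_map π (Subgroup.mem_map_of_mem π hxN)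
    · have h1 : orderOf (π x) ∣ p ^ k := hk ▸ orderOf_map_dvd π x
      obtain ⟨l, _, hl⟩ := (Nat.dvd_prime_pow hp.out).1 h1
      exact ⟨l, hl⟩
  -- commutators lie in `M ⊓ Q`
  have hcomm : ∀ q ∈ Q, x * q * x⁻¹ * q⁻¹ ∈ M ⊓ Q := by
    intro q hq
    refine Subgroup.mem_inf.2 ⟨?_, ?_⟩
    · rw [← QuotientGroup.ker_mk' M, MonoidHom.mem_ker]
      have h1 := Subgroup.mem_centralizer_iff.1 hbar (π q) (Subgroup.mem_map_of_mem π hq)
      simp only [map_mul, map_inv]
      rw [← hπ, ← h1]
      group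
    · exact Subgroup.mul_mem _ ((Subgroup.mem_normalizer_iff.1 hxN q).1 hq) (Subgroup.inv_mem _ hq)
  have hxp : x ^ (p ^ k) = 1 := hk ▸ pow_orderOf_eq_one x
  rcases hM with hMp | hMc
  · -- `M` a `p`-group
    have hdisj : M ⊓ Q = ⊥ := by
      obtain ⟨l, hl⟩ := IsPGroup.iff_card.1 hMp
      have : (Nat.card M).Coprime (Nat.card Q) := by
        rw [hl]; exact (Nat.Coprime.pow_right l hQ).symm
      exact (Subgroup.disjoint_of_coprime_natCard this).eq_bot
    rw [Subgroup.mem_centralizer_iff]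
    intro q hq
    have h1 := hcomm q hq
    rw [hdisj, Subgroup.mem_bot] at h1
    have h2 : x * q * x⁻¹ * q⁻¹ * (q * x) = 1 * (q * x) := by rw [h1]
    have e : x * q * x⁻¹ * q⁻¹ * (q * x) = x * q := by group
    rw [e, one_mul] at h2
    exact h2.symm
  · -- `M` a `p'`-group
    set Q₁ := M ⊓ Q with hQ₁
    have hPM : (P : Subgroup G) ⊓ M = ⊥ := by
      obtain ⟨l, hl⟩ := IsPGroup.iff_card.1 P.2
      have : (Nat.card (P : Subgroup G)).Coprime (Nat.card M) := by
        rw [hl]; exact (Nat.Coprime.pow_right l hMc).symm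
      exact (Subgroup.disjoint_of_coprime_natCard this).eq_bot
    have hPC : (P : Subgroup G) ≤ Subgroup.centralizer (Q₁ : Set G) := by
      intro s hs
      rw [Subgroup.mem_centralizer_iff]
      intro q hq
      have hqN := hQP hq.2
      have h1 : q * s * q⁻¹ * s⁻¹ ∈ (P : Subgroup G) ⊓ M := by
        refine Subgroup.mem_inf.2 ⟨?_, ?_⟩
        · exact Subgroup.mul_mem _ ((Subgroup.mem_normalizer_iff.1 hqN s).1 hs) (Subgroup.inv_mem _ hs)
        · have : q * s * q⁻¹ * s⁻¹ = q * (s * q⁻¹ * s⁻¹) := by group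
          rw [this]
          exact Subgroup.mul_mem _ hq.1 (hMn.conj_mem _ (Subgroup.inv_mem _ hq.1) s)
      rw [hPM, Subgroup.mem_bot] at h1
      have h2 : q * s * q⁻¹ * s⁻¹ * (s * q) = 1 * (s * q) := by rw [h1]
      have e : q * s * q⁻¹ * s⁻¹ * (s * q) = q * s := by group
      rw [e, one_mul] at h2
      exact h2
    have hxN₁ : x ∈ Subgroup.normalizer (Q₁ : Set G) := by
      rw [Subgroup.mem_normalizer_iff]
      intro q
      rw [hQ₁, Subgroup.mem_inf, Subgroup.mem_inf]
      have h1 := Subgroup.mem_normalizer_iff.1 hxN q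
      have h2 : q ∈ M ↔ x * q * x⁻¹ ∈ M := by
        constructor
        · intro h; exact hMn.conj_mem q h x
        · intro h
          have := hMn.conj_mem _ h x⁻¹
          simpa [mul_assoc] using this
      rw [h1, h2]
    have hxC := Cfsg.Agent.Lib.H16.mem_centralizer_of_mem_normalizer_of_sylow_le Q₁ P hPC x hxN₁ k hxp
    rw [Subgroup.mem_centralizer_iff]
    intro q hq
    have hcop : (orderOf x).Coprime (Nat.card Q₁) := by
      rw [hk]
      apply Nat.Coprime.pow_left
      exact (Nat.Coprime.coprime_dvd_left (Subgroup.card_dvd_of_le inf_le_right) hQ).symm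
    have := Cfsg.Agent.Lib.H7.commute_of_stable_step (a := x) (Q := Q) (R := Q₁) hcop hcomm
      (fun r hr => (Subgroup.mem_centralizer_iff.1 hxC r hr).symm) q hq
    exact this.symm

theorem result {G : Type*} [Group G] [Finite G] {p : ℕ} [Fact p.Prime]
    (hG : Cfsg.IsPSolvable p G) (Q : Subgroup G) (hQ : ¬ p ∣ Nat.card Q)
    (hA : p ∣ (Subgroup.centralizer (Q : Set G)).relIndex (Subgroup.normalizer (Q : Set G)))
    (P : Sylow p G) : ¬ Q ≤ Subgroup.normalizer ((P : Subgroup G) : Set G) := by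
  intro hQP
  have hp : p.Prime := Fact.out
  have hQc : (Nat.card Q).Coprime p := ((Nat.Prime.coprime_iff_not_dvd hp).2 hQ).symm
  set N := Subgroup.normalizer (Q : Set G) with hN
  set C := Subgroup.centralizer (Q : Set G) with hC
  obtain ⟨S, -, hSN, hSp, hSi⟩ := exists_sylowIn (p := p) (P := (⊥ : Subgroup G)) (K := N)
    (IsPGroup.of_bot) bot_le
  have hSC : S ≤ C := by
    intro s hs
    apply key (Nat.card G) G rfl hG P Q hQc hQP s (hSN hs)
    obtain ⟨k, hk⟩ := (IsPGroup.iff_orderOf.1 hSp) ⟨s, hs⟩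
    exact ⟨k, by rw [← Subgroup.orderOf_coe] at hk; exact hk⟩
  have hCN : C ≤ N := Subgroup.centralizer_le_normalizer _
  have h1 : S.relIndex C * C.relIndex N = S.relIndex N := Subgroup.relIndex_mul_relIndex S C N hSC hCN
  exact hSi (h1 ▸ Dvd.dvd.mul_left hA _)

end Cfsg.Agent.S1901
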