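import Cfsg.Statements.S1902
import Cfsg.Agent.S1302
import Cfsg.Agent.Lib.H10.PSolvable
import Cfsg.Agent.Lib.H10.PSolvable2
import Cfsg.Agent.Lib.H7.PLocal3

set_option autoImplicit false
open Cfsg
open Cfsg.Agent.Lib.H7
set_option autoImplicit false

namespace Cfsg.Agent.S1902

theorem isPConstrained_of_isPSolvable {G : Type*} [Group G] [Finite G] {p : ℕ} [Fact p.Prime]
    (hG : Cfsg.IsPSolvable p G) : Cfsg.IsPConstrained p G := by
  rw [isPConstrained_iff_pLayer_eq_bot, pLayer_eq_bot_iff_layer_quotient_eq_bot]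
  have hn : (pPrimeCore p G).Normal := Cfsg.Agent.Lib.H22.pPrimeCore_normal p
  have h1 := Cfsg.Agent.Lib.H10.isPSolvable_quotient hG (pPrimeCore p G)
  have h2 := Cfsg.Agent.Lib.H10.centralizer_pCore_le_of_isPSolvable p h1
    (Cfsg.Agent.Lib.H9.pPrimeCore_quotient_eq_bot p)
  set Y := G ⧸ pPrimeCore p G
  have h3 : layer Y ≤ pCore p Y := (layer_le_centralizer_pCore p).trans h2
  have hs : Group.IsSolvable (layer Y) := by
    have : Group.IsNilpotent (layer Y) :=
      ((Cfsg.Agent.Lib.H1.pCore_isPGroup p Y).to_le h3).isNilpotent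
    infer_instance
  have := layer_commutator_solvable (G := Y) (N := layer Y) hs
  rw [layer_commutator_self] at this
  exact this


/-- Let p be an odd prime, G a finite p-solvable group, and B an elementary abelian subgroup of order p² such that B is the subgroup generated by the elements of order p of some Sylow p-subgroup of C_G(b₀), for some nontrivial b₀ ∈ B. Then every B-invariant subgroup of G of order prime to p lies in O_{p'}(G). -/
theorem result {G : Type*} [Group G] [Finite G] {p : ℕ} [Fact p.Prime] (hp : p ≠ 2)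
    (hG : Cfsg.IsPSolvable p G) (B : Subgroup G) (hB : Cfsg.IsElementaryAbelian p B) (hBc : Nat.card B = p ^ 2)
    (b₀ : G) (hb₀ : b₀ ∈ B) (hb₁ : b₀ ≠ 1) (P : Sylow p ↥(Subgroup.centralizer ({b₀} : Set G)))
    (hBP : B = Subgroup.closure {x : G | x ∈ ((P : Subgroup ↥(Subgroup.centralizer ({b₀} : Set G))).map
      (Subgroup.centralizer ({b₀} : Set G)).subtype : Subgroup G) ∧ orderOf x = p})
    (Q : Subgroup G) (hQ : ¬ p ∣ Nat.card Q) (hinv : ∀ b ∈ B, ∀ x ∈ Q, b * x * b⁻¹ ∈ Q) :
    Q ≤ Cfsg.pPrimeCore p G := by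
  have hpp : p.Prime := Fact.out
  have hBcomm : IsMulCommutative ↥B := hB.1
  have hBp : IsPGroup p ↥B := IsPGroup.of_card hBc
  have hBH' : B ≤ Subgroup.centralizer ({b₀} : Set G) := by
    intro b hb
    rw [Subgroup.mem_centralizer_singleton_iff]
    have := hBcomm.is_comm.comm ⟨b, hb⟩ ⟨b₀, hb₀⟩
    exact congrArg Subtype.val this
  have hcenH : ∀ x : G, x ∈ Subgroup.centralizer (B : Set G) →
      x ∈ Subgroup.centralizer ({b₀} : Set G) := by
    intro x hxC
    rw [Subgroup.mem_centralizer_singleton_iff]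
    exact (Subgroup.mem_centralizer_iff.1 hxC b₀ hb₀).symm
  have hBN : B ≤ Subgroup.normalizer (Q : Set G) := by
    intro b hb
    rw [Subgroup.mem_normalizer_iff]
    intro x
    constructor
    · exact hinv b hb x
    · intro hx
      have := hinv b⁻¹ (B.inv_mem hb) _ hx
      simpa [mul_assoc] using this
  refine Cfsg.Agent.S1302.result p hp (isPConstrained_of_isPSolvable hG) B hBcomm hBp ?_ Q hQ hBN
  revert P hBP hBH' hcenH
  generalize Subgroup.centralizer ({b₀} : Set G) = H
  intro P hBP hBH hcenH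
  intro x hxC hxo
  -- `K = B⟨x⟩` is a `p`-subgroup of `H`
  have hxH : x ∈ H := hcenH x hxC
  have hxp : IsPGroup p (Subgroup.zpowers x) := by
    apply IsPGroup.of_card (n := 1)
    rw [Nat.card_zpowers, hxo, pow_one]
  have hxN : Subgroup.zpowers x ≤ Subgroup.normalizer (B : Set G) := by
    rw [Subgroup.zpowers_le]
    exact Subgroup.centralizer_le_normalizer _ hxC
  have hKp : IsPGroup p ↥(B ⊔ Subgroup.zpowers x) :=
    IsPGroup.to_sup_of_normal_left' hBp hxp hxN
  have hKH : B ⊔ Subgroup.zpowers x ≤ H := sup_le hBH (by rw [Subgroup.zpowers_le]; exact hxH)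
  have hKp' : IsPGroup p ↥((B ⊔ Subgroup.zpowers x).subgroupOf H) := hKp.comap_subtype
  obtain ⟨P', hP'⟩ := hKp'.exists_le_sylow
  obtain ⟨g, hg⟩ := MulAction.exists_smul_eq (↥H) P' P
  have hord : ∀ y : G, orderOf ((g : G) * y * (g : G)⁻¹) = orderOf y := fun y => by
    have := MulEquiv.orderOf_eq (MulAut.conj (g : G)) y
    simpa using this
  -- conjugates by `g` of elements of `K` lie in `P`
  have hconj : ∀ k ∈ B ⊔ Subgroup.zpowers x, (g : G) * k * (g : G)⁻¹ ∈
      ((P : Subgroup ↥H).map H.subtype : Subgroup G) := by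
    intro k hk
    have h1 : (⟨k, hKH hk⟩ : ↥H) ∈ (P' : Subgroup ↥H) := hP' (Subgroup.mem_subgroupOf.2 hk)
    have h2 : g * ⟨k, hKH hk⟩ * g⁻¹ ∈ ((g • P' : Sylow p ↥H) : Subgroup ↥H) := by
      rw [Sylow.coe_subgroup_smul]
      have := Subgroup.smul_mem_pointwise_smul (⟨k, hKH hk⟩ : ↥H) (MulAut.conj g)
        (P' : Subgroup ↥H) h1
      simpa [MulAut.smul_def] using this
    rw [hg] at h2
    exact ⟨_, h2, rfl⟩
  have hmemB : ∀ y : G, y ∈ ((P : Subgroup ↥H).map H.subtype : Subgroup G) → orderOf y = p →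
      y ∈ B := by
    intro y hy hyo
    rw [hBP]
    exact Subgroup.subset_closure ⟨hy, hyo⟩
  have hBconj : B.map (MulAut.conj (g : G)).toMonoidHom ≤ B := by
    rintro _ ⟨b, hb, rfl⟩
    by_cases hb1 : b = 1
    · rw [hb1, map_one]; exact B.one_mem
    · apply hmemB _ (hconj b (le_sup_left (a := B) hb))
      show orderOf ((g : G) * b * (g : G)⁻¹) = p
      rw [hord]
      exact orderOf_eq_prime (hB.2 b hb) hb1
  have hBeq : B.map (MulAut.conj (g : G)).toMonoidHom = B := by
    apply Subgroup.eq_of_le_of_card_ge hBconj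
    rw [Subgroup.card_map_of_injective (MulAut.conj (g : G)).injective]
  have hx1 : (g : G) * x * (g : G)⁻¹ ∈ B := by
    apply hmemB _ (hconj x (le_sup_right (a := B) (Subgroup.mem_zpowers x)))
    rw [hord]; exact hxo
  rw [← hBeq] at hx1
  obtain ⟨b, hb, hbx⟩ := hx1
  have : b = x := (MulAut.conj (g : G)).injective hbx
  exact this ▸ hb

end Cfsg.Agent.S1902
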