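import Cfsg.Statements.S1904
import Cfsg.Agent.Lib.H26.NGPAsm
import Cfsg.Agent.S0119

set_option autoImplicit false
open Cfsg

namespace Cfsg.Agent.S1904

open Cfsg.Agent.Lib.H26.NGP

/-- Let X be a finite nonabelian 2-group with no normal abelian subgroup that is self-centralizing and contains an elementary abelian subgroup of order 8. Suppose a group A of automorphisms of X of odd order satisfies [X, A] = X. Then X is the quaternion group of order 8, or X is special of order 64 with exactly three involutions, all central, or X is extraspecial of order 32 with exactly eleven involutions (the central product of a quaternion group and a dihedral group of order 8). -/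
theorem result {X : Type*} [Group X] [Finite X] (hX : IsPGroup 2 X) (hna : ¬ IsMulCommutative X)
    (hscn : ¬ ∃ A : Subgroup X, A.Normal ∧ Subgroup.centralizer (A : Set X) = A ∧
      ∃ E : Subgroup X, E ≤ A ∧ Cfsg.IsElementaryAbelian 2 E ∧ Nat.card E = 8)
    (A : Subgroup (MulAut X)) (hA : Odd (Nat.card A))
    (hXA : Subgroup.closure {g : X | ∃ φ ∈ A, ∃ x : X, g = x⁻¹ * φ x} = ⊤) :
    Nonempty (X ≃* QuaternionGroup 2) ∨
      (Cfsg.IsSpecial 2 X ∧ Nat.card X = 64 ∧ Nat.card {x : X // orderOf x = 2} = 3 ∧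
        ∀ x : X, orderOf x = 2 → x ∈ Subgroup.center X) ∨
      (Cfsg.IsExtraspecial 2 X ∧ Nat.card X = 32 ∧ Nat.card {x : X // orderOf x = 2} = 11) := by
  have : Fact (Nat.Prime 2) := ⟨Nat.prime_two⟩
  have hne : NE X := Cfsg.Agent.Lib.H8.NGP.ne_of_hscn hX hscn
  have hC : Ctx A := ⟨hX, hne, hA, hXA⟩
  by_cases hchar : ∀ H : Subgroup X, H.Characteristic → IsMulCommutative H →
      ∀ a ∈ A, ∀ h ∈ H, a h = h
  · have hcop : Nat.Coprime (Nat.card A) 2 := Nat.Coprime.symm (Nat.coprime_two_left.mpr hA)
    have hGA : Subgroup.closure {x : X | ∃ g : X, ∃ a ∈ A, x = g⁻¹ * a g} = ⊤ := by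
      rw [← hXA]
      congr 1
      ext x
      constructor
      · rintro ⟨g, a, ha, rfl⟩
        exact ⟨a, ha, g, rfl⟩
      · rintro ⟨a, ha, g, rfl⟩
        exact ⟨g, a, ha, rfl⟩
    obtain ⟨hsp, hfix⟩ := Cfsg.Agent.S0119.result (p := 2) hX A hcop hGA hchar
    exact caseC1 hX hna hne A hA hXA hsp hfix
  · right; left
    exact caseC2 hC hna hchar

end Cfsg.Agent.S1904
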