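import Cfsg.Statements.S1905
import Mathlib

set_option autoImplicit false
open Cfsg

namespace Cfsg.Agent.S1905

section dihedral
variable {G : Type*} [Group G]

theorem inv_eq_self_of_orderOf_two {a : G} (ha : orderOf a = 2) : a⁻¹ = a := by
  have h : a * a = 1 := by rw [← pow_two, ← ha, pow_orderOf_eq_one]
  exact inv_eq_of_mul_eq_one_left h

theorem orderOf_conj_eq (g a : G) : orderOf (g * a * g⁻¹) = orderOf a := by
  have := orderOf_injective (MulAut.conj g).toMonoidHom (MulAut.conj g).injective a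
  simpa using this

/-- two involutions: conjugate via an inverted element, or a common commuting involution. -/
theorem invol_dichotomy [Finite G] (a b : G) (ha : orderOf a = 2) (hb : orderOf b = 2) :
    (∃ y : G, y⁻¹ * a * y = b ∧ a * y * a = y⁻¹) ∨
    (∃ z : G, orderOf z = 2 ∧ z * a = a * z ∧ z * b = b * z) := by
  have ha' := inv_eq_self_of_orderOf_two ha
  have hb' := inv_eq_self_of_orderOf_two hb
  have ha2 : a * a = 1 := by rw [← pow_two, ← ha, pow_orderOf_eq_one]
  set w := a * b with hw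
  clear_value w
  have hinv : a * w * a = w⁻¹ := by
    rw [hw, mul_inv_rev, ha', hb', ← mul_assoc, ha2, one_mul]
  have hpow : ∀ k : ℕ, a * w ^ k * a = (w ^ k)⁻¹ := by
    intro k
    induction k with
    | zero => simp [ha2]
    | succ k ih =>
      calc a * w ^ (k + 1) * a = (a * w ^ k * a) * (a * w * a) := by
            rw [pow_succ]
            simp only [mul_assoc]
            rw [← mul_assoc a a, ha2, one_mul]
        _ = (w ^ (k + 1))⁻¹ := by
            rw [ih, hinv, pow_succ', mul_inv_rev]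
  have hb_eq : b = a * w := by rw [hw, ← mul_assoc, ha2, one_mul]
  have hn : 0 < orderOf w := orderOf_pos w
  rcases Nat.even_or_odd (orderOf w) with he | ho
  · right
    obtain ⟨j, hj⟩ := he
    have hj0 : j ≠ 0 := by rintro rfl; omega
    have hwj2 : w ^ j * w ^ j = 1 := by rw [← pow_add, ← hj, pow_orderOf_eq_one]
    have hwjinv : (w ^ j)⁻¹ = w ^ j := inv_eq_of_mul_eq_one_left hwj2
    have hcomm_a : w ^ j * a = a * w ^ j := by
      have h1 := hpow j
      rw [hwjinv] at h1
      calc w ^ j * a = (a * w ^ j * a) * a := by rw [h1]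
        _ = a * w ^ j := by rw [mul_assoc, ha2, mul_one]
    refine ⟨w ^ j, ?_, hcomm_a, ?_⟩
    · rw [orderOf_pow' w hj0, hj]
      have : Nat.gcd (j + j) j = j := Nat.gcd_eq_right ⟨2, by ring⟩
      rw [this]
      have hjpos : 0 < j := Nat.pos_of_ne_zero hj0
      rw [← two_mul, Nat.mul_div_cancel _ hjpos]
    · rw [hb_eq, ← mul_assoc, hcomm_a, mul_assoc, mul_assoc]
      congr 1
      rw [← pow_succ, ← pow_succ']
  · left
    obtain ⟨j, hj⟩ := ho
    refine ⟨w ^ (j + 1), ?_, hpow _⟩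
    have h1 := hpow (j + 1)
    have h2 : (w ^ (j + 1))⁻¹ * a = a * w ^ (j + 1) := by
      rw [← h1, mul_assoc, ha2, mul_one]
    rw [h2, mul_assoc, ← pow_add, hb_eq]
    congr 1
    have : j + 1 + (j + 1) = orderOf w + 1 := by omega
    rw [this, pow_succ, pow_orderOf_eq_one, one_mul]

end dihedral

section sylowconj
open scoped Pointwise

theorem sylow_conj_in_subgroup {S : Type*} [Group S] [Finite S] {p : ℕ} [Fact p.Prime]
    (M : Subgroup S) (P : Sylow p M) (Q : Subgroup S) (hQM : Q ≤ M)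
    (hcard : Nat.card Q = Nat.card (P : Subgroup M)) :
    ∃ m : M, ∀ x : S, x ∈ Q ↔ ∃ z : M, z ∈ (P : Subgroup M) ∧ x = (m : S) * z * (m : S)⁻¹ := by
  set Q' : Subgroup M := Q.subgroupOf M with hQ'
  have hcardQ' : Nat.card Q' = Nat.card Q :=
    Nat.card_congr (Subgroup.subgroupOfEquivOfLe hQM).toEquiv
  have hQ'p : IsPGroup p Q' :=
    IsPGroup.of_card (n := (Nat.card M).factorization p)
      (by rw [hcardQ', hcard, P.card_eq_multiplicity])
  obtain ⟨R, hR⟩ := hQ'p.exists_le_sylow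
  have hQR : Q' = (R : Subgroup M) :=
    Subgroup.eq_of_le_of_card_ge hR
      (by rw [R.card_eq_multiplicity, hcardQ', hcard, P.card_eq_multiplicity])
  obtain ⟨m, hm⟩ := MulAction.exists_smul_eq M P R
  have hmR : (R : Subgroup M) = MulAut.conj m • (P : Subgroup M) := by
    rw [← hm]; rfl
  refine ⟨m, fun x => ⟨fun hx => ?_, ?_⟩⟩
  · have hxM : x ∈ M := hQM hx
    have h1 : (⟨x, hxM⟩ : M) ∈ Q' := by
      rw [hQ', Subgroup.mem_subgroupOf]; exact hx
    rw [hQR, hmR, Subgroup.mem_pointwise_smul_iff_inv_smul_mem] at h1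
    refine ⟨_, h1, ?_⟩
    simp [MulAut.smul_def, mul_assoc]
  · rintro ⟨z, hz, rfl⟩
    have h1 : m * z * m⁻¹ ∈ Q' := by
      rw [hQR, hmR, Subgroup.mem_pointwise_smul_iff_inv_smul_mem]
      simpa [MulAut.smul_def, mul_assoc] using hz
    rw [hQ', Subgroup.mem_subgroupOf] at h1
    simpa using h1

end sylowconj

section main
variable {S : Type*} [Group S] [Finite S] (M : Subgroup S)

theorem part1 (hM : Even (Nat.card M))
    (hC : ∀ i ∈ M, orderOf i = 2 → Subgroup.centralizer ({i} : Set S) ≤ M)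
    (hcore : Odd (Nat.card M.normalCore)) :
    ∀ x y : S, orderOf x = 2 → orderOf y = 2 → IsConj x y := by
  have : Fact (Nat.Prime 2) := ⟨Nat.prime_two⟩
  obtain ⟨i, hi⟩ := exists_prime_orderOf_dvd_card' 2 hM.two_dvd
  have hiS : orderOf (i : S) = 2 := by rw [Subgroup.orderOf_coe]; exact hi
  have key : ∀ x : S, orderOf x = 2 → IsConj (i : S) x := by
    by_contra hcon
    push Not at hcon
    obtain ⟨x₀, hx₀, hx₀c⟩ := hcon
    have hJ : ∀ x : S, orderOf x = 2 → ¬ IsConj (i : S) x → x ∈ M := by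
      intro x hx hnc
      rcases invol_dichotomy (i : S) x hiS hx with ⟨y, hy, _⟩ | ⟨z, hz, hzi, hzx⟩
      · exfalso
        apply hnc
        rw [isConj_iff]
        exact ⟨y⁻¹, by simpa using hy⟩
      · have hzM : z ∈ M :=
          hC i i.2 hiS (by rw [Subgroup.mem_centralizer_singleton_iff]; exact hzi)
        exact hC z hzM hz (by rw [Subgroup.mem_centralizer_singleton_iff]; exact hzx.symm)
    have hcoremem : x₀ ∈ M.normalCore := by
      intro b
      apply hJ
      · rw [orderOf_conj_eq]; exact hx₀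
      · intro hc
        apply hx₀c
        refine hc.trans ?_
        rw [isConj_comm, isConj_iff]
        exact ⟨b, rfl⟩
    have h2 : 2 ∣ Nat.card M.normalCore := by
      have := orderOf_dvd_natCard (⟨x₀, hcoremem⟩ : M.normalCore)
      rwa [Subgroup.orderOf_mk, hx₀] at this
    rcases hcore with ⟨k, hk⟩
    omega
  intro x y hx hy
  exact (key x hx).symm.trans (key y hy)

omit [Finite S] in
/-- Lemma U -/
theorem lemmaU (hC : ∀ i ∈ M, orderOf i = 2 → Subgroup.centralizer ({i} : Set S) ≤ M)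
    (hconjM : ∀ x y : M, orderOf x = 2 → orderOf y = 2 → IsConj x y)
    (j : S) (hj : j ∈ M) (hj2 : orderOf j = 2) (a : S) (ha : a * j * a⁻¹ ∈ M) : a ∈ M := by
  have h1 : IsConj (⟨j, hj⟩ : M) ⟨a * j * a⁻¹, ha⟩ := by
    apply hconjM
    · rw [Subgroup.orderOf_mk]; exact hj2
    · rw [Subgroup.orderOf_mk, orderOf_conj_eq]; exact hj2
  rw [isConj_iff] at h1
  obtain ⟨m, hm⟩ := h1
  have hm' : (m : S) * j * (m : S)⁻¹ = a * j * a⁻¹ := by
    have := congrArg Subtype.val hm
    simpa using this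
  have h2 : (m : S)⁻¹ * a ∈ Subgroup.centralizer ({j} : Set S) := by
    rw [Subgroup.mem_centralizer_singleton_iff]
    have : j = (m : S)⁻¹ * (a * j * a⁻¹) * (m : S) := by
      rw [← hm']; group
    calc (m : S)⁻¹ * a * j = ((m : S)⁻¹ * (a * j * a⁻¹) * (m : S)) * ((m : S)⁻¹ * a) := by group
      _ = j * ((m : S)⁻¹ * a) := by rw [← this]
  have h3 := hC j hj hj2 h2
  have : a = (m : S) * ((m : S)⁻¹ * a) := by group
  rw [this]
  exact M.mul_mem m.2 h3

end main

section main2
variable {S : Type*} [Group S] [Finite S] (M : Subgroup S)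

theorem part2a (hC : ∀ i ∈ M, orderOf i = 2 → Subgroup.centralizer ({i} : Set S) ≤ M)
    (hconjS : ∀ x y : S, orderOf x = 2 → orderOf y = 2 → IsConj x y)
    (X : Sylow 2 M) (I : M)
    (hI : I ∈ (Subgroup.center ↥(X : Subgroup ↥M)).map (X : Subgroup ↥M).subtype)
    (hI2 : orderOf I = 2)
    (hN : Subgroup.normalizer (((X : Subgroup M).map M.subtype : Subgroup S) : Set S) ≤ M) :
    ∀ x y : M, orderOf x = 2 → orderOf y = 2 → IsConj x y := by
  have : Fact (Nat.Prime 2) := ⟨Nat.prime_two⟩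
  have key : ∀ x : M, orderOf x = 2 → IsConj I x := by
    intro x hx
    have hIS : orderOf (I : S) = 2 := by rw [Subgroup.orderOf_coe]; exact hI2
    have hxS : orderOf (x : S) = 2 := by rw [Subgroup.orderOf_coe]; exact hx
    obtain ⟨g, hg⟩ := isConj_iff.mp (hconjS (I : S) (x : S) hIS hxS)
    set X' : Subgroup S := (X : Subgroup M).map M.subtype with hX'
    have hXI : ∀ h ∈ X', h * (I : S) = (I : S) * h := by
      rintro h ⟨h', hh', rfl⟩
      obtain ⟨c, hc, hcI⟩ := hI
      have h1 := Subgroup.mem_center_iff.mp hc ⟨h', hh'⟩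
      have h2 := congrArg (fun u : (X : Subgroup M) => ((u : M) : S)) h1
      simp only [Subgroup.coe_mul] at h2
      have hcI' : ((c : M) : S) = (I : S) := by rw [← hcI]; rfl
      rw [hcI'] at h2
      exact h2
    set Q : Subgroup S := X'.map (MulAut.conj g).toMonoidHom with hQ
    have hQM : Q ≤ M := by
      rintro q ⟨h, hh, rfl⟩
      apply hC x x.2 hxS
      rw [Subgroup.mem_centralizer_singleton_iff]
      have h3 := hXI h hh
      simp only [MulEquiv.toMonoidHom_eq_coe, MonoidHom.coe_coe, MulAut.conj_apply]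
      rw [← hg]
      calc g * h * g⁻¹ * (g * ↑I * g⁻¹) = g * (h * ↑I) * g⁻¹ := by group
        _ = g * (↑I * h) * g⁻¹ := by rw [h3]
        _ = g * ↑I * g⁻¹ * (g * h * g⁻¹) := by group
    have hcard : Nat.card Q = Nat.card (X : Subgroup M) := by
      rw [hQ, Subgroup.card_map_of_injective (MulAut.conj g).injective, hX',
        Subgroup.card_map_of_injective M.subtype_injective]
    obtain ⟨m, hm⟩ := sylow_conj_in_subgroup M X Q hQM hcard
    have hn : (m : S)⁻¹ * g ∈ Subgroup.normalizer (X' : Set S) := by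
      rw [Subgroup.mem_normalizer_iff]
      intro h
      constructor
      · intro hh
        have h4 : g * h * g⁻¹ ∈ Q := ⟨h, hh, by simp⟩
        obtain ⟨z, hz, hzeq⟩ := (hm _).mp h4
        have h5 : (m : S)⁻¹ * g * h * ((m : S)⁻¹ * g)⁻¹ = z := by
          calc (m : S)⁻¹ * g * h * ((m : S)⁻¹ * g)⁻¹ = (m : S)⁻¹ * (g * h * g⁻¹) * m := by group
            _ = (m : S)⁻¹ * (↑m * ↑z * (↑m)⁻¹) * m := by rw [hzeq]
            _ = z := by group
        rw [h5]
        exact ⟨z, hz, rfl⟩
      · intro hh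
        obtain ⟨z, hz, hzeq⟩ := hh
        have h6 : g * h * g⁻¹ ∈ Q := by
          refine (hm _).mpr ⟨z, hz, ?_⟩
          have : ((z : M) : S) = (m : S)⁻¹ * g * h * ((m : S)⁻¹ * g)⁻¹ := hzeq
          rw [this]; group
        obtain ⟨h', hh', heq⟩ := h6
        have : h' = h := by
          simp only [MulEquiv.toMonoidHom_eq_coe, MonoidHom.coe_coe, MulAut.conj_apply] at heq
          calc h' = g⁻¹ * (g * h' * g⁻¹) * g := by group
            _ = g⁻¹ * (g * h * g⁻¹) * g := by rw [heq]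
            _ = h := by group
        rwa [← this]
    have hgM : g ∈ M := by
      have h7 := hN hn
      have : g = (m : S) * ((m : S)⁻¹ * g) := by group
      rw [this]
      exact M.mul_mem m.2 h7
    rw [isConj_iff]
    exact ⟨⟨g, hgM⟩, Subtype.ext (by simpa using hg)⟩
  intro x y hx hy
  exact (key x hx).symm.trans (key y hy)

theorem part2b (hC : ∀ i ∈ M, orderOf i = 2 → Subgroup.centralizer ({i} : Set S) ≤ M)
    (hcore : Odd (Nat.card M.normalCore)) (hM : Even (Nat.card M))
    (hconjM : ∀ x y : M, orderOf x = 2 → orderOf y = 2 → IsConj x y)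
    (I : M) (hI2 : orderOf I = 2) :
    ∃ M₀ : Subgroup M, Odd (Nat.card M₀) ∧
      ∀ m : M, ∃ a ∈ M₀, ∃ c ∈ Subgroup.centralizer ({I} : Set M), m = a * c := by
  have : Fact (Nat.Prime 2) := ⟨Nat.prime_two⟩
  have hMtop : ∃ g : S, g ∉ M := by
    by_contra h
    push Not at h
    have h1 : M.normalCore = M := by
      apply le_antisymm (Subgroup.normalCore_le M)
      intro a _ b
      exact h _
    rw [h1] at hcore
    exact (Nat.not_even_iff_odd.mpr hcore) hM
  obtain ⟨g, hg⟩ := hMtop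
  have hIS : orderOf (I : S) = 2 := by rw [Subgroup.orderOf_coe]; exact hI2
  have hII : (I : S) * (I : S) = 1 := by rw [← pow_two, ← hIS, pow_orderOf_eq_one]
  set i' : S := g * I * g⁻¹ with hi'def
  have hi' : orderOf i' = 2 := by rw [hi'def, orderOf_conj_eq]; exact hIS
  have hi'2 : i' * i' = 1 := by rw [← pow_two, ← hi', pow_orderOf_eq_one]
  have U := lemmaU M hC hconjM
  let M₀ : Subgroup M := (M.comap (MulAut.conj g⁻¹).toMonoidHom).comap M.subtype
  have hmem : ∀ a : M, a ∈ M₀ ↔ g⁻¹ * a * g ∈ M := by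
    intro a
    change (MulAut.conj g⁻¹) (a : S) ∈ M ↔ _
    rw [MulAut.conj_apply, inv_inv]
  have hnoinv : ∀ z : S, orderOf z = 2 → z ∈ M → g⁻¹ * z * g ∈ M → False := by
    intro z hz hzM hzg
    have h1 := U z hzM hz g⁻¹ (by simpa using hzg)
    exact hg (by simpa using M.inv_mem h1)
  refine ⟨M₀, ?_, ?_⟩
  · by_contra hodd
    rw [Nat.not_odd_iff_even] at hodd
    obtain ⟨j, hj⟩ := exists_prime_orderOf_dvd_card' 2 hodd.two_dvd
    exact hnoinv ((j : M) : S) (by rw [Subgroup.orderOf_coe, Subgroup.orderOf_coe]; exact hj)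
      (j : M).2 ((hmem _).mp j.2)
  · have hy : ∀ t : S, t ∈ M → orderOf t = 2 →
        ∃ y : S, y⁻¹ * i' * y = t ∧ i' * y * i' = y⁻¹ := by
      intro t htM ht
      rcases invol_dichotomy i' t hi' ht with h | ⟨z, hz, hzi, hzt⟩
      · exact h
      · exfalso
        have hzM : z ∈ M :=
          hC t htM ht (by rw [Subgroup.mem_centralizer_singleton_iff]; exact hzt)
        refine hnoinv z hz hzM ?_
        apply hC I I.2 hIS
        rw [Subgroup.mem_centralizer_singleton_iff]
        calc g⁻¹ * z * g * ↑I = g⁻¹ * (z * i') * g := by rw [hi'def]; group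
          _ = g⁻¹ * (i' * z) * g := by rw [hzi]
          _ = ↑I * (g⁻¹ * z * g) := by rw [hi'def]; group
    have hprop : ∀ t : S, t ∈ M → ∀ y : S, y⁻¹ * i' * y = t → y⁻¹ * g ∈ M := by
      intro t htM y hyt
      apply U I I.2 hIS
      have : y⁻¹ * g * I * (y⁻¹ * g)⁻¹ = t := by
        rw [← hyt, hi'def]; group
      rw [this]; exact htM
    have he : ∀ y : S, i' * y * i' = y⁻¹ → i' * y * g = y⁻¹ * g * I := by
      intro y hy2
      calc i' * y * g = (i' * y * i') * (i' * g) := by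
            simp only [mul_assoc]; rw [← mul_assoc i' i', hi'2, one_mul]
        _ = y⁻¹ * (i' * g) := by rw [hy2]
        _ = y⁻¹ * g * I := by rw [hi'def]; group
    intro m
    set t : S := m * I * (m : S)⁻¹ with ht_def
    have htM : t ∈ M := M.mul_mem (M.mul_mem m.2 I.2) (M.inv_mem m.2)
    have ht : orderOf t = 2 := by rw [ht_def, orderOf_conj_eq]; exact hIS
    obtain ⟨y, hy1, hy2⟩ := hy t htM ht
    obtain ⟨y₀, hy01, hy02⟩ := hy I I.2 hIS
    have h1 := hprop t htM y hy1
    have h2 := hprop I I.2 y₀ hy01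
    have haM : y⁻¹ * y₀ ∈ M := by
      have : y⁻¹ * y₀ = (y⁻¹ * g) * (y₀⁻¹ * g)⁻¹ := by group
      rw [this]; exact M.mul_mem h1 (M.inv_mem h2)
    have haM₀ : g⁻¹ * (y⁻¹ * y₀) * g ∈ M := by
      have e1 := he y hy2
      have e2 := he y₀ hy02
      have : g⁻¹ * (y⁻¹ * y₀) * g = (i' * y * g)⁻¹ * (i' * y₀ * g) := by group
      rw [this, e1, e2]
      exact M.mul_mem (M.inv_mem (M.mul_mem h1 I.2)) (M.mul_mem h2 I.2)
    refine ⟨⟨y⁻¹ * y₀, haM⟩, (hmem _).mpr haM₀, ?_⟩
    refine ⟨(⟨y⁻¹ * y₀, haM⟩ : M)⁻¹ * m, ?_, by group⟩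
    rw [Subgroup.mem_centralizer_singleton_iff]
    apply Subtype.ext
    simp only [Subgroup.coe_mul, Subgroup.coe_inv]
    -- a I a⁻¹ = t
    have hat : (y⁻¹ * y₀) * I * (y⁻¹ * y₀)⁻¹ = (m : S) * I * (m : S)⁻¹ := by
      rw [← ht_def, ← hy1]
      have : i' = y₀ * I * y₀⁻¹ := by rw [← hy01]; group
      rw [this]; group
    calc (y⁻¹ * y₀)⁻¹ * ↑m * ↑I = (y⁻¹ * y₀)⁻¹ * (↑m * ↑I * (↑m)⁻¹) * ↑m := by group
      _ = (y⁻¹ * y₀)⁻¹ * ((y⁻¹ * y₀) * I * (y⁻¹ * y₀)⁻¹) * ↑m := by rw [hat]
      _ = ↑I * ((y⁻¹ * y₀)⁻¹ * ↑m) := by group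

end main2

/-- Let M be a subgroup of even order of a finite group S such that M contains the centralizer in S of each of its involutions and the normal core of M in S has odd order. Then all involutions of S are conjugate. If moreover N_S(X) ≤ M for a Sylow 2-subgroup X of M and I is an involution in the centre of X, then all involutions of M are conjugate in M and M = M₀ C_M(I) for some subgroup M₀ of M of odd order. -/
theorem result {S : Type*} [Group S] [Finite S] (M : Subgroup S) (hM : Even (Nat.card M))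
    (hC : ∀ i ∈ M, orderOf i = 2 → Subgroup.centralizer ({i} : Set S) ≤ M) (hcore : Odd (Nat.card M.normalCore)) :
    (∀ x y : S, orderOf x = 2 → orderOf y = 2 → IsConj x y) ∧
      ∀ (X : Sylow 2 M) (I : M), I ∈ (Subgroup.center ↥(X : Subgroup ↥M)).map (X : Subgroup ↥M).subtype → orderOf I = 2 →
        Subgroup.normalizer (((X : Subgroup M).map M.subtype : Subgroup S) : Set S) ≤ M →
        (∀ x y : M, orderOf x = 2 → orderOf y = 2 → IsConj x y) ∧
          ∃ M₀ : Subgroup M, Odd (Nat.card M₀) ∧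
            ∀ m : M, ∃ a ∈ M₀, ∃ c ∈ Subgroup.centralizer ({I} : Set M), m = a * c := by
  have h1 := part1 M hM hC hcore
  refine ⟨h1, fun X I hI hI2 hN => ?_⟩
  have h2 := part2a M hC h1 X I hI hI2 hN
  exact ⟨h2, part2b M hC hcore hM h2 I hI2⟩

end Cfsg.Agent.S1905
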