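import Cfsg.Statements.S1906
import Cfsg.Agent.Lib.H9.TransferInvolution
import Cfsg.Agent.Lib.H9.GL3Inv
import Cfsg.Agent.Lib.H10.PGroup
-- import your own Cfsg.Agent.* helpers here

set_option autoImplicit false
open Cfsg

namespace Cfsg.Agent.S1906

open Cfsg.Agent.Lib.H9
open scoped commutatorElement

/-- A homomorphism to a finite cyclic group whose image contains an element of order two gives a
subgroup of index two. -/
theorem exists_index_two {G A : Type*} [Group G] [CommGroup A] [Finite A] [IsCyclic A]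
    (V : G →* A) (y : G) (hy : V y ≠ 1) (hy2 : V y * V y = 1) : ∃ H : Subgroup G, H.index = 2 := by
  obtain ⟨w, hw⟩ := IsCyclic.exists_generator (α := V.range)
  have hn : orderOf w = Nat.card V.range := orderOf_eq_card_of_forall_mem_zpowers hw
  have hpos : 0 < Nat.card V.range := Nat.card_pos
  have h2 : 2 ∣ Nat.card V.range := by
    have ho : orderOf (⟨V y, y, rfl⟩ : V.range) = 2 := by
      apply orderOf_eq_prime
      · apply Subtype.ext
        simp [sq, hy2]
      · intro h
        exact hy (congrArg Subtype.val h)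
    rw [← ho]
    exact orderOf_dvd_natCard _
  let K : Subgroup V.range := Subgroup.zpowers (w ^ 2)
  have hK : Nat.card K = Nat.card V.range / 2 := by
    rw [Nat.card_zpowers, orderOf_pow, hn, Nat.gcd_eq_right h2]
  have hidx : K.index = 2 := by
    have h := K.card_mul_index
    rw [hK] at h
    obtain ⟨m, hm⟩ := h2
    rw [hm] at h hpos
    rw [Nat.mul_div_cancel_left m (by norm_num)] at h
    have hm0 : 0 < m := by omega
    exact Nat.eq_of_mul_eq_mul_left hm0 (by rw [h]; ring)
  refine ⟨K.comap V.rangeRestrict, ?_⟩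
  rw [Subgroup.index_comap_of_surjective K V.rangeRestrict_surjective, hidx]

/-- A nonabelian finite `2`-group has a central involution in its commutator subgroup. -/
theorem exists_central_involution_commutator {P : Type*} [Group P] [Finite P] (hP : IsPGroup 2 P)
    (hnc : ¬ IsMulCommutative P) :
    ∃ z : P, z ∈ commutator P ∧ z ∈ Subgroup.center P ∧ z ≠ 1 ∧ z * z = 1 := by
  have : Fact (Nat.Prime 2) := ⟨Nat.prime_two⟩
  have hne : commutator P ≠ ⊥ := by
    intro h
    apply hnc
    refine ⟨⟨fun a b => ?_⟩⟩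
    have : ⁅a, b⁆ ∈ commutator P := Subgroup.commutator_mem_commutator (Subgroup.mem_top a) (Subgroup.mem_top b)
    rw [h, Subgroup.mem_bot, commutatorElement_eq_one_iff_mul_comm] at this
    exact this
  obtain ⟨x, hxN, hx1, hxc⟩ := Cfsg.Agent.Lib.H10.exists_ne_one_mem_center_of_normal hP (commutator P) hne
  obtain ⟨k, hk⟩ := (IsPGroup.iff_orderOf.mp hP) x
  have hk0 : k ≠ 0 := by
    intro h
    rw [h, pow_zero, orderOf_eq_one_iff] at hk
    exact hx1 hk
  obtain ⟨j, rfl⟩ := Nat.exists_eq_succ_of_ne_zero hk0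
  have ho : orderOf (x ^ 2 ^ j) = 2 := by
    rw [orderOf_pow_of_dvd (by positivity) (by rw [hk]; exact pow_dvd_pow 2 (Nat.le_succ j)), hk,
      pow_succ, Nat.mul_div_cancel_left _ (by positivity)]
  refine ⟨x ^ 2 ^ j, Subgroup.pow_mem _ hxN _, Subgroup.pow_mem _ hxc _, ?_, ?_⟩
  · intro h
    rw [h, orderOf_one] at ho
    norm_num at ho
  · have := pow_orderOf_eq_one (x ^ 2 ^ j)
    rw [ho, sq] at this
    exact this

section lin

variable {P : Type*} [Group P] {F : Type*} [Field F]

theorem neg_one_ne_one_GL (h2F : (2 : F) ≠ 0) : (-1 : GL (Fin 3) F) ≠ 1 := by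
  intro h
  have h1 := congrArg (fun g : GL (Fin 3) F => (g : Matrix (Fin 3) (Fin 3) F) 0 0) h
  simp only [Units.val_neg, Units.val_one, Matrix.neg_apply, Matrix.one_apply_eq] at h1
  apply h2F
  have : (1 : F) + 1 = 0 := by
    nth_rewrite 1 [← h1]
    ring
  rw [← one_add_one_eq_two]
  exact this

theorem det_neg_one_GL : Matrix.GeneralLinearGroup.det (-1 : GL (Fin 3) F) = -1 := by
  apply Units.ext
  simp only [Matrix.GeneralLinearGroup.val_det_apply, Units.val_neg, Units.val_one, Matrix.det_neg,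
    Fintype.card_fin, Matrix.det_one, mul_one]
  ring

theorem neg_one_ne_one_units (h2F : (2 : F) ≠ 0) : (-1 : Fˣ) ≠ 1 := by
  intro h
  have h1 := congrArg Units.val h
  simp only [Units.val_neg, Units.val_one] at h1
  apply h2F
  have : (1 : F) + 1 = 0 := by
    nth_rewrite 1 [← h1]
    ring
  rw [← one_add_one_eq_two]
  exact this

theorem units_eq_neg_one_of_sq {a : Fˣ} (ha : a * a = 1) (ha1 : a ≠ 1) : a = -1 := by
  have h1 : ((a : F) - 1) * ((a : F) + 1) = 0 := by
    have := congrArg Units.val ha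
    simp only [Units.val_mul, Units.val_one] at this
    linear_combination this
  rcases mul_eq_zero.mp h1 with h | h
  · exact absurd (Units.ext (by simpa using sub_eq_zero.mp h)) ha1
  · apply Units.ext
    simp only [Units.val_neg, Units.val_one]
    exact eq_neg_of_add_eq_zero_left h

theorem det_conj_ne_one [Finite P] (h2F : (2 : F) ≠ 0) (hP : IsPGroup 2 P)
    (hnc : ¬ IsMulCommutative P) (f : P →* GL (Fin 3) F) (hf : Function.Injective f) (t : P)
    (hft : f t = -1) (φ : P →* P) (hφ : Function.Injective φ) :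
    (Matrix.GeneralLinearGroup.det.comp f) (φ t) ≠ 1 := by
  intro hcon
  have hφs : Function.Surjective φ := Finite.injective_iff_surjective.mp hφ
  have hlt : (Matrix.GeneralLinearGroup.det.comp f) t = -1 := by
    rw [MonoidHom.comp_apply, hft, det_neg_one_GL]
  have ht2 : t * t = 1 := by
    apply hf
    rw [map_mul, hft, map_one]
    simp
  have ht1 : t ≠ 1 := by
    intro h
    rw [h, map_one] at hft
    exact neg_one_ne_one_GL h2F hft.symm
  have htc : ∀ x : P, x * t = t * x := by
    intro x
    apply hf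
    rw [map_mul, map_mul, hft]
    simp
  obtain ⟨z, hzc, hzZ, hz1, hz2⟩ := exists_central_involution_commutator hP hnc
  have hlz : (Matrix.GeneralLinearGroup.det.comp f) z = 1 :=
    MonoidHom.mem_ker.mp (Abelianization.commutator_subset_ker _ hzc)
  have hzc' : ∀ x : P, x * z = z * x := fun x => (Subgroup.mem_center_iff.mp hzZ x)
  have h''c : ∀ x : P, x * φ t = φ t * x := by
    intro x
    obtain ⟨x', rfl⟩ := hφs x
    rw [← map_mul, ← map_mul, htc]
  have h''2 : φ t * φ t = 1 := by rw [← map_mul, ht2, map_one]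
  have h''1 : φ t ≠ 1 := fun h => ht1 (hφ (h.trans (map_one φ).symm))
  have h''t : φ t ≠ t := by
    intro h
    rw [h, hlt] at hcon
    exact neg_one_ne_one_units h2F hcon
  have htz : t ≠ z := by
    intro h
    rw [h, hlz] at hlt
    exact neg_one_ne_one_units h2F hlt.symm
  have h''zt : φ t ≠ z * t := by
    intro h
    rw [h, map_mul, hlz, hlt, one_mul] at hcon
    exact neg_one_ne_one_units h2F hcon
  have h''z : φ t ≠ z := by
    intro h
    have hmap : (commutator P).map φ = commutator P := by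
      rw [commutator_def, Subgroup.map_commutator, Subgroup.map_top_of_surjective φ hφs]
    have hz' : z ∈ (commutator P).map φ := by rw [hmap]; exact hzc
    obtain ⟨z', hz'c, hz'e⟩ := hz'
    have : z' = t := hφ (hz'e.trans h.symm)
    rw [this] at hz'c
    have := MonoidHom.mem_ker.mp (Abelianization.commutator_subset_ker
      (Matrix.GeneralLinearGroup.det.comp f) hz'c)
    rw [hlt] at this
    exact neg_one_ne_one_units h2F this
  apply hnc
  refine ⟨⟨fun x y => ?_⟩⟩
  apply hf
  rw [map_mul, map_mul]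
  have tr : ∀ {a b c d : P}, a * b = c * d → f a * f b = f c * f d := by
    intro a b c d h
    rw [← map_mul, ← map_mul, h]
  have tr1 : ∀ {a : P}, a * a = 1 → f a * f a = 1 := by
    intro a h
    rw [← map_mul, h, map_one]
  have ne : ∀ {a b : P}, a ≠ b → f a ≠ f b := fun h h' => h (hf h')
  refine GL3Inv.commute_of_centralize h2F (s1 := f z) (s2 := f t) (s3 := f (φ t)) (tr1 hz2) (tr1 ht2)
    (tr1 h''2) (tr (htc z)) (tr (h''c z)) (tr (h''c t)) ?_ ?_ (ne htz) ?_ (ne h''z)
    (ne h''t) ?_ (tr (hzc' x)) (tr (htc x)) (tr (h''c x)) (tr (hzc' y)) (tr (htc y)) (tr (h''c y))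
  · rw [← map_one f]; exact ne hz1
  · rw [← map_one f]; exact ne ht1
  · rw [← map_one f]; exact ne h''1
  · rw [← map_mul]; exact ne h''zt

end lin


/-- Let G be a finite group with no subgroup of index 2 whose Sylow 2-subgroup X embeds in GL₃(F) for a finite field F of odd order. If X contains an elementary abelian subgroup of order 8, then X is abelian. -/
theorem result {G : Type*} [Group G] [Finite G] (hG : ∀ H : Subgroup G, H.index ≠ 2) (X : Sylow 2 G)
    {F : Type*} [Field F] [Fintype F] (hF : Odd (Fintype.card F))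
    (f : ↥(X : Subgroup G) →* GL (Fin 3) F) (hf : Function.Injective f)
    (E : Subgroup G) (hE : E ≤ (X : Subgroup G)) (hEa : Cfsg.IsElementaryAbelian 2 E) (hE8 : Nat.card E = 8) :
    IsMulCommutative (X : Subgroup G) := by
  classical
  by_contra hnc
  have : Fact (Nat.Prime 2) := ⟨Nat.prime_two⟩
  have h2F : (2 : F) ≠ 0 := by
    intro h
    have hch : ringChar F = 2 := CharP.ringChar_of_prime_eq_zero Nat.prime_two (by exact_mod_cast h)
    have := FiniteField.even_card_of_char_two hch
    rcases hF with ⟨m, hm⟩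
    omega
  -- the element `t` with `f t = -1`
  let E' : Subgroup ↥(X : Subgroup G) := E.subgroupOf (X : Subgroup G)
  have hT8 : Nat.card (E'.map f) = 8 := by
    rw [← hE8, Nat.card_congr (E'.equivMapOfInjective f hf).symm.toEquiv,
      Nat.card_congr (Subgroup.subgroupOfEquivOfLe hE).toEquiv]
  have hTexp : ∀ g ∈ E'.map f, g * g = 1 := by
    rintro _ ⟨e, he, rfl⟩
    rw [← map_mul]
    have h1 := hEa.2 e.1 (Subgroup.mem_subgroupOf.mp he)
    have : e * e = 1 := Subtype.ext (by simpa [sq] using h1)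
    rw [this, map_one]
  obtain ⟨t, -, hft⟩ := GL3Inv.neg_one_mem h2F (E'.map f) hTexp hT8
  set lam : ↥(X : Subgroup G) →* Fˣ := Matrix.GeneralLinearGroup.det.comp f with hlam
  have hlt : lam t = -1 := by
    rw [hlam, MonoidHom.comp_apply, hft, det_neg_one_GL]
  have ht2 : t * t = 1 := by
    apply hf
    rw [map_mul, hft, map_one]
    simp
  have ht2G : (t : G) * (t : G) = 1 := congrArg Subtype.val ht2
  have htc : ∀ x : ↥(X : Subgroup G), x * t = t * x := by
    intro x
    apply hf
    rw [map_mul, map_mul, hft]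
    simp
  let Kg : Subgroup G := lam.ker.map (X : Subgroup G).subtype
  have hKgmem : ∀ (x : G) (hx : x ∈ (X : Subgroup G)), x ∈ Kg ↔ lam ⟨x, hx⟩ = 1 := by
    intro x hx
    constructor
    · rintro ⟨k, hk, hke⟩
      have : k = ⟨x, hx⟩ := Subtype.ext hke
      rw [← this]
      exact MonoidHom.mem_ker.mp hk
    · intro h
      exact ⟨⟨x, hx⟩, MonoidHom.mem_ker.mpr h, rfl⟩
  have hKgle : Kg ≤ (X : Subgroup G) := by
    rintro _ ⟨k, -, rfl⟩
    exact k.2
  have hKn : ∀ h ∈ (X : Subgroup G), ∀ k ∈ Kg, h⁻¹ * k * h ∈ Kg := by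
    intro h hh k hk
    have hkX := hKgle hk
    have hmem : h⁻¹ * k * h ∈ (X : Subgroup G) :=
      (X : Subgroup G).mul_mem ((X : Subgroup G).mul_mem ((X : Subgroup G).inv_mem hh) hkX) hh
    rw [hKgmem _ hmem]
    have e : (⟨h⁻¹ * k * h, hmem⟩ : ↥(X : Subgroup G)) = (⟨h, hh⟩)⁻¹ * ⟨k, hkX⟩ * ⟨h, hh⟩ := rfl
    rw [e, map_mul, map_mul, map_inv, (hKgmem k hkX).mp hk]
    simp
  have hpow := transfer_involution_eq_pow lam (t : G) ht2G Kg (-1) ?_ ?_
  rotate_left
  · intro x hxX hxK
    rw [extendHom_of_mem _ hxX]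
    apply units_eq_neg_one_of_sq
    · rw [← map_mul]
      have hx2 : x⁻¹ * (t : G) * x * (x⁻¹ * (t : G) * x) = 1 := by
        calc x⁻¹ * (t : G) * x * (x⁻¹ * (t : G) * x) = x⁻¹ * ((t : G) * (t : G)) * x := by group
          _ = 1 := by rw [ht2G]; group
      have : (⟨x⁻¹ * (t : G) * x, hxX⟩ : ↥(X : Subgroup G)) * ⟨x⁻¹ * (t : G) * x, hxX⟩ = 1 :=
        Subtype.ext hx2
      rw [this, map_one]
    · intro h
      exact hxK ((hKgmem _ hxX).mpr h)
  · intro x hxK
    rw [extendHom_of_mem _ (hKgle hxK)]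
    exact (hKgmem _ (hKgle hxK)).mp hxK
  have hodd : Odd (Nat.card {q : G ⧸ (X : Subgroup G) //
      (t : G) • q = q ∧ q.out⁻¹ * (t : G) * q.out ∉ Kg}) := by
    have hmod := card_invariant_modEq (p := 2) (P := ↥(X : Subgroup G))
      (X := G ⧸ (X : Subgroup G)) X.2
      {q : G ⧸ (X : Subgroup G) | (t : G) • q = q ∧ q.out⁻¹ * (t : G) * q.out ∉ Kg} ?_ ?_
    · have h2 : ¬ 2 ∣ Nat.card (G ⧸ (X : Subgroup G)) := X.not_dvd_index
      rw [← Nat.not_even_iff_odd, even_iff_two_dvd]
      intro hd
      exact h2 (Nat.modEq_zero_iff_dvd.mp (hmod.symm.trans (Nat.modEq_zero_iff_dvd.mpr hd)))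
    · intro r q hq
      have hrc : (r : G) * (t : G) = (t : G) * (r : G) := congrArg Subtype.val (htc r)
      exact fixedSet_invariant hKn (t : G) (r : G) hrc q hq
    · intro q hq
      have hfix : ∀ r ∈ (X : Subgroup G), r • q = q := fun r hr => hq ⟨r, hr⟩
      refine ⟨hfix (t : G) t.2, ?_⟩
      have hconj : ∀ r ∈ (X : Subgroup G), q.out⁻¹ * r * q.out ∈ (X : Subgroup G) :=
        fun r hr => out_conj_mem_of_smul_eq r q (hfix r hr)
      let φ : ↥(X : Subgroup G) →* ↥(X : Subgroup G) :=
        { toFun := fun r => ⟨q.out⁻¹ * (r : G) * q.out, hconj r r.2⟩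
          map_one' := Subtype.ext (by simp)
          map_mul' := fun a b => Subtype.ext (by simp [mul_assoc]) }
      have hφ : Function.Injective φ := by
        intro a b hab
        have := congrArg Subtype.val hab
        apply Subtype.ext
        simpa [φ] using this
      have hne := det_conj_ne_one h2F X.2 hnc f hf t hft φ hφ
      intro hmem
      exact hne ((hKgmem _ (hconj t t.2)).mp hmem)
  have hVt : lam.transfer (t : G) = -1 := by
    rw [hpow]
    exact Odd.neg_one_pow hodd
  obtain ⟨H, hH⟩ := exists_index_two lam.transfer (t : G) (by rw [hVt]; exact neg_one_ne_one_units h2F)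
    (by rw [hVt]; simp)
  exact hG H hH


end Cfsg.Agent.S1906
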