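import Cfsg.Statements.S1948
import Mathlib
import Cfsg.Agent.Lib.H10.NormalSylow
import Cfsg.Agent.Lib.H10.Conj
import Cfsg.Agent.Lib.H7.PConstrained2
import Cfsg.Agent.Lib.H9.PPrimeCore
import Cfsg.Agent.Lib.H1.PCore

set_option autoImplicit false
open Cfsg

namespace Cfsg.Agent.S1948

open Cfsg.Agent.Lib.H10

variable {G : Type*} [Group G] {p : ℕ}

theorem pPrimePCore_normal' : (pPrimePCore p G).Normal :=
  Subgroup.Normal.comap inferInstance _

theorem pPrimeCore_le_pPrimePCore : pPrimeCore p G ≤ pPrimePCore p G := by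
  intro x hx
  change QuotientGroup.mk' (pPrimeCore p G) x ∈ pCore p (G ⧸ pPrimeCore p G)
  have : QuotientGroup.mk' (pPrimeCore p G) x = 1 := (QuotientGroup.eq_one_iff x).mpr hx
  rw [this]
  exact one_mem _

variable [Finite G] [Fact p.Prime]

/-- `O_{p',p}(G) = R O_{p'}(G)` for a Sylow `p`-subgroup `R` of `O_{p',p}(G)`. -/
theorem pPrimePCore_eq_sup (P : Sylow p ↥(pPrimePCore p G)) :
    pPrimePCore p G =
      (P : Subgroup ↥(pPrimePCore p G)).map (pPrimePCore p G).subtype ⊔ pPrimeCore p G := by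
  have h := Cfsg.Agent.Lib.H7.map_sylow_pPrimePCore p P
  have h3 : Subgroup.comap (QuotientGroup.mk' (pPrimeCore p G)) (pCore p (G ⧸ pPrimeCore p G)) =
      (P : Subgroup ↥(pPrimePCore p G)).map (pPrimePCore p G).subtype ⊔ pPrimeCore p G := by
    rw [← h, Subgroup.comap_map_eq, QuotientGroup.ker_mk']
  exact h3

theorem disjoint_sylow_pPrimeCore (S : Sylow p G) : (S : Subgroup G) ⊓ pPrimeCore p G = ⊥ := by
  have h1 : (Nat.card (pPrimeCore p G)).Coprime p := Cfsg.Agent.Lib.H22.card_pPrimeCore_coprime p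
  obtain ⟨k, hk⟩ := IsPGroup.iff_card.mp S.2
  have : (Nat.card (S : Subgroup G)).Coprime (Nat.card (pPrimeCore p G)) := by
    rw [hk]
    exact (Nat.Coprime.pow_right k h1).symm
  exact (Subgroup.disjoint_of_coprime_natCard this).eq_bot

theorem result {G : Type*} [Group G] [Finite G] {p : ℕ} [Fact p.Prime] (S : Sylow p G) :
    Subgroup.normalizer ((S : Subgroup G) : Set G) ⊔ Cfsg.pPrimeCore p G = ⊤ ↔
      (Cfsg.IsPConstrained p G ∧
        ∀ Q : Subgroup G, Q ≤ (S : Subgroup G) → ∀ g : G, Q.map (MulAut.conj g).toMonoidHom ≤ (S : Subgroup G) →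
          ∃ n ∈ Subgroup.normalizer ((S : Subgroup G) : Set G), ∃ c ∈ Subgroup.centralizer (Q : Set G), g = n * c) := by
  set K := pPrimeCore p G with hK
  set L := pPrimePCore p G with hL
  have hLn : L.Normal := pPrimePCore_normal'
  have hKL : K ≤ L := pPrimeCore_le_pPrimePCore
  constructor
  · intro htop
    constructor
    · -- p-constrained
      intro P
      set π := QuotientGroup.mk' K with hπ
      have hπs : Function.Surjective π := QuotientGroup.mk'_surjective K
      set T : Sylow p (G ⧸ K) := S.mapSurjective hπs with hT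
      have hTcoe : (T : Subgroup (G ⧸ K)) = (S : Subgroup G).map π := rfl
      have hTn : (T : Subgroup (G ⧸ K)).Normal := by
        constructor
        intro t ht g
        obtain ⟨g', rfl⟩ := hπs g
        have hg' : g' ∈ Subgroup.normalizer ((S : Subgroup G) : Set G) ⊔ K := by
          rw [htop]; exact Subgroup.mem_top _
        obtain ⟨n, hn, k, hk, rfl⟩ := Subgroup.mem_sup_of_normal_right.mp hg'
        have hk1 : π k = 1 := (QuotientGroup.eq_one_iff k).mpr hk
        rw [map_mul, hk1, mul_one]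
        rw [hTcoe] at ht ⊢
        obtain ⟨s, hs, rfl⟩ := ht
        refine ⟨n * s * n⁻¹, (Subgroup.mem_normalizer_iff.mp hn s).mp hs, ?_⟩
        simp
      have hO : pPrimeCore p (G ⧸ K) = ⊥ := Cfsg.Agent.Lib.H9.pPrimeCore_quotient_eq_bot p
      have hcent := centralizer_le_of_normal_sylow T hO
      have hpc : pCore p (G ⧸ K) = (T : Subgroup (G ⧸ K)) :=
        le_antisymm (Cfsg.Agent.Lib.H1.pCore_le_sylow T) (Cfsg.Agent.Lib.H1.le_pCore hTn T.2)
      have hmap := Cfsg.Agent.Lib.H7.map_sylow_pPrimePCore p P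
      intro x hx
      change π x ∈ pCore p (G ⧸ K)
      rw [hpc]
      apply hcent
      rw [← hpc, ← hmap]
      rintro _ ⟨y, hy, rfl⟩
      change π y * π x = π x * π y
      rw [← map_mul, ← map_mul, hx y hy]
    · -- control of fusion
      intro Q hQS g hg
      have hg' : g ∈ Subgroup.normalizer ((S : Subgroup G) : Set G) ⊔ K := by
        rw [htop]; exact Subgroup.mem_top _
      obtain ⟨n, hn, k, hk, rfl⟩ := Subgroup.mem_sup_of_normal_right.mp hg'
      refine ⟨n, hn, k, ?_, rfl⟩
      intro x hx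
      have h1 : n * k * x * (n * k)⁻¹ ∈ (S : Subgroup G) := hg ⟨x, hx, rfl⟩
      have h2 : k * x * k⁻¹ ∈ (S : Subgroup G) := by
        have := (Subgroup.mem_normalizer_iff.mp (Subgroup.inv_mem _ hn) _).mp h1
        have e : n⁻¹ * (n * k * x * (n * k)⁻¹) * n⁻¹⁻¹ = k * x * k⁻¹ := by group
        rwa [e] at this
      have h3 : k * x * k⁻¹ * x⁻¹ ∈ (S : Subgroup G) ⊓ K := by
        refine ⟨Subgroup.mul_mem _ h2 (Subgroup.inv_mem _ (hQS hx)), ?_⟩
        have : k * x * k⁻¹ * x⁻¹ = k * (x * k⁻¹ * x⁻¹) := by group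
        rw [this]
        exact Subgroup.mul_mem _ hk ((inferInstance : K.Normal).conj_mem _ (Subgroup.inv_mem _ hk) x)
      rw [disjoint_sylow_pPrimeCore S, Subgroup.mem_bot] at h3
      have h4 : k * x = x * k := by
        have h5 : k * x * k⁻¹ * x⁻¹ * (x * k) = 1 * (x * k) := by rw [h3]
        have e : k * x * k⁻¹ * x⁻¹ * (x * k) = k * x := by group
        rw [e, one_mul] at h5
        exact h5
      exact h4.symm
  · rintro ⟨hcon, hctl⟩
    set P := Cfsg.Agent.Lib.H14.sylowInf S L with hP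
    have hPmap : (P : Subgroup L).map L.subtype = (S : Subgroup G) ⊓ L :=
      Cfsg.Agent.Lib.H14.sylowInf_map S L
    have hfrat := Sylow.normalizer_sup_eq_top P
    rw [hPmap] at hfrat
    have hLeq := pPrimePCore_eq_sup P
    rw [hPmap] at hLeq
    have hcP := hcon P
    rw [hPmap] at hcP
    have hNle : Subgroup.normalizer ((((S : Subgroup G) ⊓ L : Subgroup G)) : Set G) ≤
        Subgroup.normalizer ((S : Subgroup G) : Set G) ⊔ K := by
      intro g hg
      have hg2 : ((S : Subgroup G) ⊓ L).map (MulAut.conj g).toMonoidHom ≤ (S : Subgroup G) := by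
        rw [mem_normalizer_iff_map_conj.mp hg]
        exact inf_le_left
      obtain ⟨n, hn, c, hc, rfl⟩ := hctl _ inf_le_left g hg2
      have hcL : c ∈ L := hcP hc
      have hcL' : c ∈ (S : Subgroup G) ⊓ L ⊔ K := hLeq ▸ hcL
      have hc2 : c ∈ Subgroup.normalizer ((S : Subgroup G) : Set G) ⊔ K :=
        (sup_le_sup_right (inf_le_left.trans Subgroup.le_normalizer) K) hcL'
      exact mul_mem (Subgroup.mem_sup_left hn) hc2
    rw [eq_top_iff, ← hfrat]
    refine sup_le hNle ?_
    have hLle : L ≤ (S : Subgroup G) ⊓ L ⊔ K := hLeq.le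
    exact hLle.trans (sup_le_sup_right (inf_le_left.trans Subgroup.le_normalizer) K)

end Cfsg.Agent.S1948
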