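import Cfsg.Statements.S1907
import Cfsg.Agent.S1948
import Cfsg.Agent.Lib.H20.CoprimeConj

set_option autoImplicit false
open Cfsg

namespace Cfsg.Agent.S1907

open Cfsg.Agent.Lib.H10 Cfsg.Agent.S1948

section aux

variable {G : Type*} [Group G] [Finite G] {p : ℕ} [Fact p.Prime]

/-- `N_G(H) O_{p'}(G) = G` for `H = P ∩ O_{p',p}(G)`. -/
theorem normalizer_sup_pPrimeCore (P : Sylow p G) :
    Subgroup.normalizer (((P : Subgroup G) ⊓ pPrimePCore p G : Subgroup G) : Set G) ⊔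
      pPrimeCore p G = ⊤ := by
  set L := pPrimePCore p G with hL
  set K := pPrimeCore p G with hK
  have hLn : L.Normal := pPrimePCore_normal'
  set R := Cfsg.Agent.Lib.H14.sylowInf P L with hR
  have hRmap : (R : Subgroup L).map L.subtype = (P : Subgroup G) ⊓ L :=
    Cfsg.Agent.Lib.H14.sylowInf_map P L
  have hfrat := Sylow.normalizer_sup_eq_top R
  rw [hRmap] at hfrat
  have hLeq := pPrimePCore_eq_sup R
  rw [hRmap] at hLeq
  rw [eq_top_iff, ← hfrat]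
  apply sup_le le_sup_left
  have hLeq' : L ≤ (P : Subgroup G) ⊓ L ⊔ K := hLeq.le
  exact hLeq'.trans (sup_le (Subgroup.le_normalizer.trans le_sup_left) le_sup_right)

/-- `O_{p'}(G) ∩ N_G(H) ≤ C_G(H)` for a `p`-subgroup `H`. -/
theorem pPrimeCore_inf_normalizer_le (H : Subgroup G) (hH : IsPGroup p H) :
    pPrimeCore p G ⊓ Subgroup.normalizer (H : Set G) ≤ Subgroup.centralizer (H : Set G) := by
  rintro c ⟨hcK, hcN⟩
  rw [Subgroup.mem_centralizer_iff]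
  intro h hh
  have hKn : (pPrimeCore p G).Normal := Cfsg.Agent.Lib.H22.pPrimeCore_normal p
  have h1 : c * h * c⁻¹ * h⁻¹ ∈ H :=
    Subgroup.mul_mem _ ((Subgroup.mem_normalizer_iff.1 hcN h).1 hh) (Subgroup.inv_mem _ hh)
  have h2 : c * h * c⁻¹ * h⁻¹ ∈ pPrimeCore p G := by
    have : c * h * c⁻¹ * h⁻¹ = c * (h * c⁻¹ * h⁻¹) := by group
    rw [this]
    exact Subgroup.mul_mem _ hcK (hKn.conj_mem _ (Subgroup.inv_mem _ hcK) h)
  have hdisj : H ⊓ pPrimeCore p G = ⊥ := by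
    have hc : (Nat.card (pPrimeCore p G)).Coprime p := Cfsg.Agent.Lib.H22.card_pPrimeCore_coprime p
    obtain ⟨k, hk⟩ := IsPGroup.iff_card.mp hH
    have : (Nat.card H).Coprime (Nat.card (pPrimeCore p G)) := by
      rw [hk]; exact (Nat.Coprime.pow_right k hc).symm
    exact (Subgroup.disjoint_of_coprime_natCard this).eq_bot
  have h3 : c * h * c⁻¹ * h⁻¹ ∈ H ⊓ pPrimeCore p G := ⟨h1, h2⟩
  rw [hdisj, Subgroup.mem_bot] at h3
  have h4 : c * h * c⁻¹ * h⁻¹ * (h * c) = 1 * (h * c) := by rw [h3]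
  have e : c * h * c⁻¹ * h⁻¹ * (h * c) = c * h := by group
  rw [e, one_mul] at h4
  exact h4.symm

/-- part (a) in general form: `N` a subgroup, `K` a normal `p'`-subgroup. -/
theorem factor (K N : Subgroup G) [hKn : K.Normal] (hK : (Nat.card K).Coprime p)
    (y : G) (hyN : y ∈ N) (hy : ∃ k : ℕ, orderOf y = p ^ k) (d : G) (hd : d ∈ K)
    (hdy : d⁻¹ * y * d ∈ N) :
    ∃ d₁ ∈ K ⊓ Subgroup.centralizer ({y} : Set G), ∃ d₂ ∈ K ⊓ N, d = d₁ * d₂ := by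
  -- work inside `N`
  set N' : Subgroup ↥N := K.subgroupOf N with hN'
  have hN'n : N'.Normal := hKn.subgroupOf N
  have hN'c : (Nat.card N').Coprime p := by
    have h1 : Nat.card N' = Nat.card (N'.map N.subtype) :=
      Nat.card_congr (N'.equivMapOfInjective N.subtype (Subgroup.subtype_injective N)).toEquiv
    rw [h1, hN', Subgroup.subgroupOf_map_subtype]
    exact Nat.Coprime.coprime_dvd_left (Subgroup.card_dvd_of_le inf_le_left) hK
  set y₁ : ↥N := ⟨y, hyN⟩ with hy₁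
  set z : ↥N := ⟨d⁻¹ * y * d, hdy⟩ with hz
  set Q' : Subgroup ↥N := Subgroup.zpowers y₁ with hQ'
  obtain ⟨k, hk⟩ := hy
  have hQ'p : IsPGroup p Q' := by
    apply IsPGroup.of_card (n := k)
    rw [hQ', Nat.card_zpowers, ← Subgroup.orderOf_coe]
    exact hk
  have hc₀ : y₁⁻¹ * z ∈ N' := by
    rw [hN', Subgroup.mem_subgroupOf]
    change y⁻¹ * (d⁻¹ * y * d) ∈ K
    have : y⁻¹ * (d⁻¹ * y * d) = (y⁻¹ * d⁻¹ * y⁻¹⁻¹) * d := by group
    rw [this]
    exact Subgroup.mul_mem _ (hKn.conj_mem _ (Subgroup.inv_mem _ hd) _) hd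
  have hzsup : z ∈ N' ⊔ Q' := by
    have : z = y₁ * (y₁⁻¹ * z) := by group
    rw [this]
    exact Subgroup.mul_mem _ (Subgroup.mem_sup_right (Subgroup.mem_zpowers y₁))
      (Subgroup.mem_sup_left hc₀)
  have hzo : ∃ k : ℕ, orderOf z = p ^ k := by
    refine ⟨k, ?_⟩
    rw [← Subgroup.orderOf_coe, ← hk]
    change orderOf (d⁻¹ * y * d) = orderOf y
    have := (MulAut.conj d⁻¹).orderOf_eq y
    simpa using this
  obtain ⟨n, hn, hnz⟩ := Cfsg.Agent.Lib.H20.exists_conj_mem_of_coprime N' Q' p hQ'p hN'c z hzsup hzo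
  -- `n z n⁻¹ = y₁`
  obtain ⟨i, hi⟩ := Subgroup.mem_zpowers_iff.1 hnz
  have hquot : y₁⁻¹ * (n * z * n⁻¹) ∈ N' := by
    have : y₁⁻¹ * (n * z * n⁻¹) = (y₁⁻¹ * n * y₁⁻¹⁻¹) * (y₁⁻¹ * z) * n⁻¹ := by group
    rw [this]
    exact Subgroup.mul_mem _ (Subgroup.mul_mem _ (hN'n.conj_mem _ hn _) hc₀) (Subgroup.inv_mem _ hn)
  have hone : y₁⁻¹ * (n * z * n⁻¹) = 1 := by
    -- a `p`-element of the `p'`-group `N'`
    set w := y₁⁻¹ * (n * z * n⁻¹) with hw
    have hwQ : w ∈ Q' := by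
      rw [hw, ← hi]
      exact Subgroup.mul_mem _ (Subgroup.inv_mem _ (Subgroup.mem_zpowers y₁))
        (Subgroup.zpow_mem_zpowers y₁ i)
    have h1 : orderOf w ∣ Nat.card N' := Subgroup.orderOf_dvd_natCard N' hquot
    have h2 : orderOf w ∣ Nat.card Q' := Subgroup.orderOf_dvd_natCard Q' hwQ
    obtain ⟨l, hl⟩ := IsPGroup.iff_card.1 hQ'p
    rw [hl] at h2
    have h3 : (orderOf w).Coprime (p ^ l) :=
      Nat.Coprime.coprime_dvd_left h1 (Nat.Coprime.pow_right l hN'c)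
    have h4 : orderOf w = 1 := Nat.Coprime.eq_one_of_dvd h3 h2
    exact orderOf_eq_one_iff.1 h4
  have hconj : n * z * n⁻¹ = y₁ := by
    have : n * z * n⁻¹ = y₁ * (y₁⁻¹ * (n * z * n⁻¹)) := by group
    rw [this, hone, mul_one]
  have hconj' : (n : G) * (d⁻¹ * y * d) * (n : G)⁻¹ = y := congrArg Subtype.val hconj
  refine ⟨d * (n : G)⁻¹, Subgroup.mem_inf.2 ⟨?_, ?_⟩, (n : G),
    Subgroup.mem_inf.2 ⟨Subgroup.mem_subgroupOf.1 hn, n.2⟩, by group⟩
  · exact Subgroup.mul_mem _ hd (Subgroup.inv_mem _ (Subgroup.mem_subgroupOf.1 hn))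
  · rw [Subgroup.mem_centralizer_singleton_iff]
    have : d * (n : G)⁻¹ * y = d * (n : G)⁻¹ * ((n : G) * (d⁻¹ * y * d) * (n : G)⁻¹) := by
      rw [hconj']
    rw [this]; group

end aux

theorem result {G : Type*} [Group G] [Finite G] {p : ℕ} [Fact p.Prime] (P : Sylow p G) :
    (∀ y ∈ Subgroup.normalizer (((P : Subgroup G) ⊓ Cfsg.pPrimePCore p G : Subgroup G) : Set G), (∃ k : ℕ, orderOf y = p ^ k) →
      ∀ d ∈ Cfsg.pPrimeCore p G, d⁻¹ * y * d ∈ Subgroup.normalizer (((P : Subgroup G) ⊓ Cfsg.pPrimePCore p G : Subgroup G) : Set G) →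
        ∃ d₁ ∈ Cfsg.pPrimeCore p G ⊓ Subgroup.centralizer ({y} : Set G),
          ∃ d₂ ∈ Cfsg.pPrimeCore p G ⊓ Subgroup.centralizer (((P : Subgroup G) ⊓ Cfsg.pPrimePCore p G : Subgroup G) : Set G), d = d₁ * d₂) ∧
    ∀ x y : G, x ∈ (P : Subgroup G) → y ∈ (P : Subgroup G) → IsConj x y →
      ∃ n ∈ Subgroup.normalizer (((P : Subgroup G) ⊓ Cfsg.pPrimePCore p G : Subgroup G) : Set G), n * x * n⁻¹ = y := by
  set H := (P : Subgroup G) ⊓ Cfsg.pPrimePCore p G with hH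
  set K := Cfsg.pPrimeCore p G with hK
  have hKn : K.Normal := Cfsg.Agent.Lib.H22.pPrimeCore_normal p
  have hKc : (Nat.card K).Coprime p := Cfsg.Agent.Lib.H22.card_pPrimeCore_coprime p
  have hHp : IsPGroup p H := P.2.to_le inf_le_left
  have hCle := pPrimeCore_inf_normalizer_le (p := p) H hHp
  have hLn : (Cfsg.pPrimePCore p G).Normal := pPrimePCore_normal'
  have hPN : (P : Subgroup G) ≤ Subgroup.normalizer (H : Set G) := by
    intro x hx
    rw [Subgroup.mem_normalizer_iff]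
    intro h
    rw [hH, Subgroup.mem_inf, Subgroup.mem_inf]
    constructor
    · rintro ⟨h1, h2⟩
      exact ⟨Subgroup.mul_mem _ (Subgroup.mul_mem _ hx h1) (Subgroup.inv_mem _ hx), hLn.conj_mem h h2 x⟩
    · rintro ⟨h1, h2⟩
      refine ⟨?_, ?_⟩
      · have := Subgroup.mul_mem _ (Subgroup.mul_mem _ (Subgroup.inv_mem _ hx) h1) hx
        simpa [mul_assoc] using this
      · have := hLn.conj_mem _ h2 x⁻¹
        simpa [mul_assoc] using this
  have partA : ∀ y ∈ Subgroup.normalizer (H : Set G), (∃ k : ℕ, orderOf y = p ^ k) →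
      ∀ d ∈ K, d⁻¹ * y * d ∈ Subgroup.normalizer (H : Set G) →
        ∃ d₁ ∈ K ⊓ Subgroup.centralizer ({y} : Set G),
          ∃ d₂ ∈ K ⊓ Subgroup.centralizer (H : Set G), d = d₁ * d₂ := by
    intro y hyN hy d hd hdy
    obtain ⟨d₁, hd₁, d₂, hd₂, rfl⟩ := factor K (Subgroup.normalizer (H : Set G)) hKc y hyN hy d hd hdy
    exact ⟨d₁, hd₁, d₂, ⟨hd₂.1, hCle hd₂⟩, rfl⟩
  refine ⟨partA, ?_⟩
  intro x y hx hy hxy
  obtain ⟨g, hg⟩ := isConj_iff.1 hxy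
  have hgtop : g ∈ Subgroup.normalizer (H : Set G) ⊔ K := by
    rw [normalizer_sup_pPrimeCore P]; exact Subgroup.mem_top _
  obtain ⟨n, hn, d, hd, rfl⟩ := Subgroup.mem_sup_of_normal_right.mp hgtop
  -- `d x d⁻¹ = n⁻¹ y n ∈ N(H)`
  have hx' : d * x * d⁻¹ ∈ Subgroup.normalizer (H : Set G) := by
    have : d * x * d⁻¹ = n⁻¹ * y * n := by rw [← hg]; group
    rw [this]
    exact Subgroup.mul_mem _ (Subgroup.mul_mem _ (Subgroup.inv_mem _ hn) (hPN hy)) hn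
  have hxo : ∃ k : ℕ, orderOf x = p ^ k := by
    obtain ⟨k, hk⟩ := (IsPGroup.iff_orderOf.1 P.2) ⟨x, hx⟩
    exact ⟨k, by rw [← Subgroup.orderOf_coe] at hk; exact hk⟩
  obtain ⟨d₁, hd₁, d₂, hd₂, hdd⟩ := partA x (hPN hx) hxo d⁻¹ (Subgroup.inv_mem _ hd)
    (by simpa using hx')
  have hd₁x : d₁ * x = x * d₁ := by
    have := Subgroup.mem_centralizer_singleton_iff.1 hd₁.2
    exact this
  have hdeq : d = d₂⁻¹ * d₁⁻¹ := by
    have : d = (d⁻¹)⁻¹ := (inv_inv d).symm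
    rw [this, hdd]; group
  refine ⟨n * d₂⁻¹, Subgroup.mul_mem _ hn (Subgroup.inv_mem _
    (Subgroup.centralizer_le_normalizer _ hd₂.2)), ?_⟩
  rw [← hg, hdeq]
  have h5 : d₁⁻¹ * x * d₁ = x := by rw [mul_assoc, ← hd₁x]; group
  have : n * (d₂⁻¹ * d₁⁻¹) * x * (n * (d₂⁻¹ * d₁⁻¹))⁻¹ = n * d₂⁻¹ * (d₁⁻¹ * x * d₁) * (n * d₂⁻¹)⁻¹ := by
    group
  rw [this, h5]

end Cfsg.Agent.S1907
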