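import Cfsg.Statements.S1921
import Cfsg.Agent.Lib.H7.Components
import Cfsg.Agent.Lib.H7.FStar2

set_option autoImplicit false
open Cfsg

namespace Cfsg.Agent.S1921

open Cfsg.Agent.Lib.H7
open scoped commutatorElement

theorem result {H : Type*} [Group H] [Finite H] (a : H) (ha : orderOf a = 2) (L : Subgroup H) (hL : Cfsg.IsComponent L)
    (hLa : L.map (MulAut.conj a).toMonoidHom ≠ L) (x : H) (hxM : x ∈ L ⊔ L.map (MulAut.conj a).toMonoidHom)
    (hxJ : x ∉ Subgroup.closure {y : H | ∃ l ∈ L, y = l * (a * l * a⁻¹)} ⊔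
      ((L ⊔ L.map (MulAut.conj a).toMonoidHom) ⊓ Subgroup.centralizer ((L ⊔ L.map (MulAut.conj a).toMonoidHom : Subgroup H) : Set H))) :
    Subgroup.closure {y : H | ∃ l ∈ L, y = l * (a * l * a⁻¹)} ⊔ Subgroup.zpowers x = L ⊔ L.map (MulAut.conj a).toMonoidHom := by
  set L' := L.map (MulAut.conj a).toMonoidHom with hL'
  set M := L ⊔ L' with hM
  set J := Subgroup.closure {y : H | ∃ l ∈ L, y = l * (a * l * a⁻¹)} with hJ
  set Z := M ⊓ Subgroup.centralizer (M : Set H) with hZ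
  have hL'c : IsComponent L' := isComponent_map_conj a hL
  have hLL' : ⁅L, L'⁆ = ⊥ := components_commute hL hL'c (fun h => hLa h.symm)
  have hcomm : ∀ l ∈ L, ∀ l' ∈ L', l * l' = l' * l := by
    intro l hl l' hl'
    rw [Subgroup.commutator_eq_bot_iff_le_centralizer] at hLL'
    exact (Subgroup.mem_centralizer_iff.1 (hLL' hl) l' hl').symm
  have hδ : ∀ l ∈ L, l * (a * l * a⁻¹) ∈ J := fun l hl => Subgroup.subset_closure ⟨l, hl, rfl⟩
  have hconjL' : ∀ l ∈ L, a * l * a⁻¹ ∈ L' := fun l hl => ⟨l, hl, by simp [MulAut.conj_apply]⟩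
  have hLM : L ≤ M := le_sup_left
  have hL'M : L' ≤ M := le_sup_right
  have hJM : J ≤ M := by
    rw [hJ, Subgroup.closure_le]
    rintro _ ⟨l, hl, rfl⟩
    exact Subgroup.mul_mem _ (hLM hl) (hL'M (hconjL' l hl))
  set U := J ⊔ Subgroup.zpowers x with hU
  have hUM : U ≤ M := sup_le hJM ((Subgroup.zpowers_le).2 hxM)
  set T := U ⊔ Z with hT
  -- decompose `x`
  obtain ⟨u, hu, v, hv, huv⟩ := mem_sup_of_commutator_eq_bot hLL' hxM
  set x' := (a * u * a⁻¹)⁻¹ * v with hx'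
  have hx'L' : x' ∈ L' := Subgroup.mul_mem _ (Subgroup.inv_mem _ (hconjL' u hu)) hv
  have hx'eq : x' = (u * (a * u * a⁻¹))⁻¹ * x := by rw [← huv, hx']; group
  have hxT : x ∈ T := Subgroup.mem_sup_left (Subgroup.mem_sup_right (Subgroup.mem_zpowers x))
  have hJT : J ≤ T := le_sup_left.trans le_sup_left
  have hx'T : x' ∈ T := by
    rw [hx'eq]
    exact Subgroup.mul_mem _ (Subgroup.inv_mem _ (hJT (hδ u hu))) hxT
  have hx'Z : x' ∉ Z := by
    intro h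
    apply hxJ
    have : x = (u * (a * u * a⁻¹)) * x' := by rw [hx'eq]; group
    rw [this]
    exact Subgroup.mul_mem _ (Subgroup.mem_sup_left (hδ u hu)) (Subgroup.mem_sup_right h)
  -- `T ⊓ L'` is normal in `L'`
  have hWn : ((T ⊓ L').subgroupOf L').Normal := by
    constructor
    rintro ⟨w, hwL'⟩ hw ⟨m', hm'⟩
    rw [Subgroup.mem_subgroupOf] at hw ⊢
    obtain ⟨m, hm, rfl⟩ := hm'
    have hmm : (MulAut.conj a).toMonoidHom m = a * m * a⁻¹ := by simp [MulAut.conj_apply]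
    simp only [Subgroup.coe_mul, InvMemClass.coe_inv]
    rw [hmm]
    refine Subgroup.mem_inf.2 ⟨?_, ?_⟩
    · have h1 : (m * (a * m * a⁻¹)) * w * (m * (a * m * a⁻¹))⁻¹ ∈ T :=
        Subgroup.mul_mem _ (Subgroup.mul_mem _ (hJT (hδ m hm)) hw.1) (Subgroup.inv_mem _ (hJT (hδ m hm)))
      have h2 : (m * (a * m * a⁻¹)) * w * (m * (a * m * a⁻¹))⁻¹ = (a * m * a⁻¹) * w * (a * m * a⁻¹)⁻¹ := by
        have e1 : m * ((a * m * a⁻¹) * w * (a * m * a⁻¹)⁻¹) = ((a * m * a⁻¹) * w * (a * m * a⁻¹)⁻¹) * m :=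
          hcomm m hm _ (Subgroup.mul_mem _ (Subgroup.mul_mem _ (hconjL' m hm) hwL')
            (Subgroup.inv_mem _ (hconjL' m hm)))
        calc (m * (a * m * a⁻¹)) * w * (m * (a * m * a⁻¹))⁻¹
            = (m * ((a * m * a⁻¹) * w * (a * m * a⁻¹)⁻¹)) * m⁻¹ := by group
          _ = (((a * m * a⁻¹) * w * (a * m * a⁻¹)⁻¹) * m) * m⁻¹ := by rw [e1]
          _ = (a * m * a⁻¹) * w * (a * m * a⁻¹)⁻¹ := by group
      rw [← h2]; exact h1
    · exact Subgroup.mul_mem _ (Subgroup.mul_mem _ (hconjL' m hm) hwL') (Subgroup.inv_mem _ (hconjL' m hm))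
  have hL'T : L' ≤ T := by
    rcases quasisimple_normal hL'c.2 ((T ⊓ L').subgroupOf L') with h | h
    · intro l' hl'
      have : (⟨l', hl'⟩ : L') ∈ (T ⊓ L').subgroupOf L' := by rw [h]; exact Subgroup.mem_top _
      exact (Subgroup.mem_subgroupOf.1 this).1
    · exfalso
      apply hx'Z
      have hc : (⟨x', hx'L'⟩ : L') ∈ Subgroup.center L' :=
        h (Subgroup.mem_subgroupOf.2 (Subgroup.mem_inf.2 ⟨hx'T, hx'L'⟩))
      refine Subgroup.mem_inf.2 ⟨hL'M hx'L', ?_⟩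
      -- `x'` centralizes `L ⊔ L'`
      have hcl : L ⊔ L' ≤ Subgroup.centralizer ({x'} : Set H) := by
        apply sup_le
        · intro l hl
          rw [Subgroup.mem_centralizer_singleton_iff]
          exact hcomm l hl x' hx'L'
        · intro l' hl'
          rw [Subgroup.mem_centralizer_singleton_iff]
          have := Subgroup.mem_center_iff.1 hc ⟨l', hl'⟩
          exact congrArg Subtype.val this
      rw [Subgroup.mem_centralizer_iff]
      intro m hm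
      have := Subgroup.mem_centralizer_singleton_iff.1 (hcl hm)
      exact this
  have hLT : L ≤ T := by
    intro l hl
    have : l = (l * (a * l * a⁻¹)) * (a * l * a⁻¹)⁻¹ := by group
    rw [this]
    exact Subgroup.mul_mem _ (hJT (hδ l hl)) (Subgroup.inv_mem _ (hL'T (hconjL' l hl)))
  have hMT : M ≤ T := sup_le hLT hL'T
  -- `M` is perfect
  have hperf : ⁅M, M⁆ = M := by
    apply le_antisymm (Subgroup.commutator_le_self M)
    apply sup_le
    · rw [← component_commutator_self hL]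
      exact Subgroup.commutator_mono hLM hLM
    · rw [← component_commutator_self hL'c]
      exact Subgroup.commutator_mono hL'M hL'M
  have hUZ : ⁅U, Z⁆ = ⊥ := by
    rw [Subgroup.commutator_eq_bot_iff_le_centralizer]
    intro u hu
    rw [Subgroup.mem_centralizer_iff]
    intro z hz
    exact (Subgroup.mem_centralizer_iff.1 hz.2 u (hUM hu)).symm
  apply le_antisymm hUM
  rw [← hperf, Subgroup.commutator_le]
  intro m₁ hm₁ m₂ hm₂
  obtain ⟨u₁, hu₁, z₁, hz₁, rfl⟩ := mem_sup_of_commutator_eq_bot hUZ (hMT hm₁)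
  obtain ⟨u₂, hu₂, z₂, hz₂, rfl⟩ := mem_sup_of_commutator_eq_bot hUZ (hMT hm₂)
  have hz₁c : ∀ m ∈ M, z₁ * m = m * z₁ := fun m hm => (Subgroup.mem_centralizer_iff.1 hz₁.2 m hm).symm
  have hz₂c : ∀ m ∈ M, z₂ * m = m * z₂ := fun m hm => (Subgroup.mem_centralizer_iff.1 hz₂.2 m hm).symm
  have : ⁅u₁ * z₁, u₂ * z₂⁆ = ⁅u₁, u₂⁆ := by
    rw [commutatorElement_def, commutatorElement_def]
    have e1 := hz₁c u₂ (hUM hu₂)
    have e2 := hz₁c z₂ hz₂.1
    have e3 := hz₂c u₁ (hUM hu₁)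
    have e4 := hz₁c u₁ (hUM hu₁)
    have e5 := hz₂c u₂ (hUM hu₂)
    calc u₁ * z₁ * (u₂ * z₂) * (u₁ * z₁)⁻¹ * (u₂ * z₂)⁻¹
        = u₁ * (z₁ * u₂) * z₂ * z₁⁻¹ * u₁⁻¹ * z₂⁻¹ * u₂⁻¹ := by group
      _ = u₁ * (u₂ * z₁) * z₂ * z₁⁻¹ * u₁⁻¹ * z₂⁻¹ * u₂⁻¹ := by rw [e1]
      _ = u₁ * u₂ * (z₁ * z₂) * z₁⁻¹ * u₁⁻¹ * z₂⁻¹ * u₂⁻¹ := by group
      _ = u₁ * u₂ * (z₂ * z₁) * z₁⁻¹ * u₁⁻¹ * z₂⁻¹ * u₂⁻¹ := by rw [e2]
      _ = u₁ * u₂ * (z₂ * u₁⁻¹) * z₂⁻¹ * u₂⁻¹ := by group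
      _ = u₁ * u₂ * (u₁⁻¹ * z₂) * z₂⁻¹ * u₂⁻¹ := by
          rw [hz₂c u₁⁻¹ (Subgroup.inv_mem _ (hUM hu₁))]
      _ = u₁ * u₂ * u₁⁻¹ * u₂⁻¹ := by group
  rw [this]
  exact Subgroup.commutator_le_self U (Subgroup.commutator_mem_commutator hu₁ hu₂)

end Cfsg.Agent.S1921
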