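import Mathlib
import Cfsg.Statements.S1922

set_option autoImplicit false

namespace Cfsg.Agent.S1922

/-- an involution on a finite type with exactly one fixed point: the cardinality is odd -/
theorem odd_card_of_involution {α : Type*} [Finite α] (f : α → α) (hf : ∀ x, f (f x) = x)
    (x₀ : α) (h₀ : f x₀ = x₀) (huniq : ∀ x, f x = x → x = x₀) : Odd (Nat.card α) := by
  classical
  have := Fintype.ofFinite α
  have : Fact (Nat.Prime 2) := ⟨Nat.prime_two⟩
  let σ : Equiv.Perm α := Function.Involutive.toPerm f hf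
  have hσ : ∀ x, σ x = f x := fun x => rfl
  have h1 : σ ^ 2 ^ 1 = 1 := by
    ext x
    simp only [pow_one, pow_two, Equiv.Perm.coe_mul, Function.comp_apply, Equiv.Perm.coe_one, id_eq,
      hσ, hf]
  have h2 := Equiv.Perm.card_compl_support_modEq (p := 2) (n := 1) h1
  have h3 : σ.supportᶜ = {x₀} := by
    ext x
    simp only [Finset.mem_compl, Equiv.Perm.mem_support, not_not, Finset.mem_singleton, hσ]
    exact ⟨huniq x, fun h => h ▸ h₀⟩
  rw [h3, Finset.card_singleton] at h2
  rw [Nat.card_eq_fintype_card, Nat.odd_iff]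
  exact h2.symm


section Dihedral

variable {G : Type*} [Group G]

theorem inv_eq_self_of_sq {a : G} (ha : a * a = 1) : a⁻¹ = a :=
  inv_eq_of_mul_eq_one_right ha

/-- `a r a = r⁻¹` for `r = a b` -/
theorem refl_conj {a b : G} (ha : a * a = 1) (hb : b * b = 1) : a * (a * b) * a = (a * b)⁻¹ := by
  rw [mul_inv_rev, inv_eq_self_of_sq ha, inv_eq_self_of_sq hb, ← mul_assoc, ha, one_mul]

theorem refl_conj' {a b : G} (ha : a * a = 1) (hb : b * b = 1) : b * (a * b) * b = (a * b)⁻¹ := by
  rw [mul_inv_rev, inv_eq_self_of_sq ha, inv_eq_self_of_sq hb, mul_assoc, mul_assoc, hb, mul_one]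

/-- `a r^n = (r^n)⁻¹ a` whenever `a r a = r⁻¹`, `a a = 1` -/
theorem refl_pow {a r : G} (ha : a * a = 1) (har : a * r * a = r⁻¹) (n : ℕ) :
    a * r ^ n = (r ^ n)⁻¹ * a := by
  have h1 : a * r ^ n * a⁻¹ = (a * r * a⁻¹) ^ n := (conj_pow).symm
  rw [inv_eq_self_of_sq ha, har, inv_pow] at h1
  calc a * r ^ n = a * r ^ n * (a * a) := by rw [ha, mul_one]
    _ = a * r ^ n * a * a := by group
    _ = (r ^ n)⁻¹ * a := by rw [h1]

theorem refl_pow_inv {a r : G} (ha : a * a = 1) (har : a * r * a = r⁻¹) (n : ℕ) :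
    a * (r ^ n)⁻¹ = r ^ n * a := by
  have h := refl_pow ha har n
  calc a * (r ^ n)⁻¹ = r ^ n * ((r ^ n)⁻¹ * a) * (r ^ n)⁻¹ := by group
    _ = r ^ n * (a * r ^ n) * (r ^ n)⁻¹ := by rw [h]
    _ = r ^ n * a := by group

end Dihedral

section Abstract

variable {G : Type*} [Group G] {X : Type*} [MulAction G X]

structure OddSetup (Δ : Set G) (X : Type*) [MulAction G X] : Prop where
  sq : ∀ a ∈ Δ, a * a = 1
  conj : ∀ a ∈ Δ, ∀ g : G, g * a * g⁻¹ ∈ Δ
  fixA : ∀ a ∈ Δ, ∃! x : X, a • x = x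
  fixB : ∀ a ∈ Δ, ∀ b ∈ Δ, a ≠ b → a * b = b * a → ∃! x : X, (a * b) • x = x

variable {Δ : Set G} (S : OddSetup Δ X)
include S

theorem OddSetup.fix_of_commute {a b : G} (ha : a ∈ Δ) {x : X} (hx : a • x = x)
    (hab : b * a = a * b) : b • x = x := by
  obtain ⟨y, hy, hy'⟩ := S.fixA a ha
  have h1 : a • (b • x) = b • x := by
    rw [← mul_smul, ← hab, mul_smul, hx]
  rw [hy' _ h1, hy' _ hx]

theorem OddSetup.fix_unique {a : G} (ha : a ∈ Δ) {x y : X} (hx : a • x = x) (hy : a • y = y) :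
    x = y := by
  obtain ⟨w, _, hw'⟩ := S.fixA a ha
  rw [hw' _ hx, hw' _ hy]

/-- the central involution of an even dihedral group generated by two elements of `Δ` -/
theorem OddSetup.central_involution {a b : G} (ha : a ∈ Δ) (hb : b ∈ Δ) {j : ℕ} (hj : 0 < j)
    (hord : orderOf (a * b) = 2 * j) :
    (∃! x : X, ((a * b) ^ j) • x = x) ∧ (a * b) ^ j * a = a * (a * b) ^ j ∧
      (a * b) ^ j * b = b * (a * b) ^ j := by
  have ha2 := S.sq a ha
  have hb2 := S.sq b hb
  set r := a * b with hr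
  have har : a * r * a = r⁻¹ := refl_conj ha2 hb2
  have hbr : b * r * b = r⁻¹ := refl_conj' ha2 hb2
  set c := r ^ j with hc
  have hcc : c * c = 1 := by
    rw [hc, ← pow_add, ← two_mul, ← hord, pow_orderOf_eq_one]
  have hcinv : c⁻¹ = c := inv_eq_self_of_sq hcc
  have hc1 : c ≠ 1 := by
    apply pow_ne_one_of_lt_orderOf hj.ne'
    rw [hord]; omega
  have hca : c * a = a * c := by
    have := refl_pow ha2 har j
    rw [← hc, hcinv] at this
    exact this.symm
  have hcb : c * b = b * c := by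
    have := refl_pow hb2 hbr j
    rw [← hc, hcinv] at this
    exact this.symm
  refine ⟨?_, hca, hcb⟩
  -- d = a * c is in Δ
  have hd : a * c ∈ Δ := by
    rcases Nat.even_or_odd' j with ⟨i, hi | hi⟩
    · have : a * c = (r ^ i)⁻¹ * a * ((r ^ i)⁻¹)⁻¹ := by
        rw [inv_inv, ← refl_pow ha2 har i, mul_assoc, ← pow_add, hc, hi, two_mul]
      rw [this]
      exact S.conj a ha _
    · have hb' : b = a * r := by rw [hr, ← mul_assoc, ha2, one_mul]
      have : a * c = (r ^ i)⁻¹ * b * ((r ^ i)⁻¹)⁻¹ := by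
        rw [inv_inv, hb', ← mul_assoc, ← refl_pow ha2 har i, mul_assoc, mul_assoc, ← pow_succ',
          ← pow_add, hc, hi]
        congr 2
        omega
      rw [this]
      exact S.conj b hb _
  have hda : a ≠ a * c := by
    intro h
    apply hc1
    have : a * 1 = a * c := by rw [mul_one]; exact h
    exact (mul_left_cancel this).symm
  have hcomm : a * (a * c) = (a * c) * a := by
    rw [mul_assoc, hca]
  have := S.fixB a ha (a * c) hd hda hcomm
  rwa [← mul_assoc, ha2, one_mul] at this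


omit S in
theorem pow_smul_fix {g : G} {x : X} (h : g • x = x) (n : ℕ) : (g ^ n) • x = x := by
  induction n with
  | zero => simp
  | succ n ih => rw [pow_succ, mul_smul, h, ih]

/-- elements of `Δ` with different fixed points have a product of odd order -/
theorem OddSetup.odd_order_of_fix_ne [Finite G] {a b : G} (ha : a ∈ Δ) (hb : b ∈ Δ) {x y : X}
    (hx : a • x = x) (hy : b • y = y) (hxy : x ≠ y) : Odd (orderOf (a * b)) := by
  by_contra hodd
  rw [Nat.not_odd_iff_even] at hodd
  obtain ⟨j, hj⟩ := hodd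
  have hpos : 0 < orderOf (a * b) := orderOf_pos _
  have hj0 : 0 < j := by omega
  have hord : orderOf (a * b) = 2 * j := by omega
  obtain ⟨⟨w, _, hw'⟩, hca, hcb⟩ := S.central_involution ha hb hj0 hord
  have h1 := S.fix_of_commute ha hx hca
  have h2 := S.fix_of_commute hb hy hcb
  exact hxy ((hw' _ h1).trans (hw' _ h2).symm)

theorem OddSetup.smul_swap {s : G} (hs : s ∈ Δ) {α β : X} (h : s • α = β) : s • β = α := by
  rw [← h, ← mul_smul, S.sq s hs, one_smul]

/-- two different elements of `Δ` mapping `α` to `β ≠ α` have a product of odd order -/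
theorem OddSetup.odd_order_of_swap [Finite G] {s s' : G} (hs : s ∈ Δ) (hs' : s' ∈ Δ) {α β : X}
    (h : s • α = β) (h' : s' • α = β) (hαβ : α ≠ β) : Odd (orderOf (s * s')) := by
  by_contra hodd
  rw [Nat.not_odd_iff_even] at hodd
  obtain ⟨j, hj⟩ := hodd
  have hpos : 0 < orderOf (s * s') := orderOf_pos _
  have hj0 : 0 < j := by omega
  have hord : orderOf (s * s') = 2 * j := by omega
  obtain ⟨⟨w, _, hw'⟩, -, -⟩ := S.central_involution hs hs' hj0 hord
  have e1 : (s * s') • α = α := by rw [mul_smul, h', S.smul_swap hs h]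
  have e2 : (s * s') • β = β := by rw [mul_smul, S.smul_swap hs' h', h]
  have h1 := pow_smul_fix e1 j
  have h2 := pow_smul_fix e2 j
  exact hαβ ((hw' _ h1).trans (hw' _ h2).symm)

/-- two different elements of `Δ` mapping `α` to `β ≠ α` do not commute -/
theorem OddSetup.not_commute_of_swap {s s' : G} (hs : s ∈ Δ) (hs' : s' ∈ Δ) {α β : X}
    (h : s • α = β) (h' : s' • α = β) (hαβ : α ≠ β) (hne : s ≠ s') : s * s' ≠ s' * s := by
  intro hcomm
  obtain ⟨w, _, hw'⟩ := S.fixB s hs s' hs' hne hcomm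
  have e1 : (s * s') • α = α := by rw [mul_smul, h', S.smul_swap hs h]
  have e2 : (s * s') • β = β := by rw [mul_smul, S.smul_swap hs' h', h]
  exact hαβ ((hw' _ e1).trans (hw' _ e2).symm)

/-- two elements of `Δ` whose product has odd order are conjugate under an element of `Δ` -/
theorem OddSetup.exists_conj [Finite G] {a b : G} (ha : a ∈ Δ) (hb : b ∈ Δ)
    (hodd : Odd (orderOf (a * b))) : ∃ s ∈ Δ, s * a * s⁻¹ = b := by
  obtain ⟨i, hi⟩ := hodd
  have ha2 := S.sq a ha
  have hb2 := S.sq b hb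
  set r := a * b with hr
  have har : a * r * a = r⁻¹ := refl_conj ha2 hb2
  set n := i * (i + 1) with hn
  refine ⟨r ^ n * a * (r ^ n)⁻¹, S.conj a ha _, ?_⟩
  have hs : r ^ n * a * (r ^ n)⁻¹ = r ^ (2 * n) * a := by
    rw [mul_assoc, refl_pow_inv ha2 har n, ← mul_assoc, ← pow_add, two_mul]
  have hsinv : (r ^ n * a * (r ^ n)⁻¹)⁻¹ = r ^ n * a * (r ^ n)⁻¹ :=
    inv_eq_self_of_sq (S.sq _ (S.conj a ha _))
  rw [hsinv, hs]
  have hb' : b = r⁻¹ * a := by
    have := refl_pow ha2 har 1
    rw [pow_one] at this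
    rw [← this, hr, ← mul_assoc, ha2, one_mul]
  have h4 : r ^ (4 * n + 1) = 1 := by
    have : 4 * n + 1 = orderOf r * orderOf r := by rw [hi, hn]; ring
    rw [this, pow_mul, pow_orderOf_eq_one, one_pow]
  have h5 : r ^ (4 * n) = r⁻¹ := by
    rw [pow_succ] at h4
    exact eq_inv_of_mul_eq_one_left h4
  calc r ^ (2 * n) * a * a * (r ^ (2 * n) * a)
      = r ^ (2 * n) * (a * a) * (r ^ (2 * n) * a) := by group
    _ = r ^ (2 * n) * r ^ (2 * n) * a := by rw [ha2]; group
    _ = r ^ (4 * n) * a := by rw [← pow_add]; congr 2; ring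
    _ = b := by rw [h5, hb']


/-- a finite set of elements of `Δ` mapping `α` to `β ≠ α`, stable under conjugation by one of
its elements, has odd cardinality -/
theorem OddSetup.odd_card_of_stable {α β : X} (hαβ : α ≠ β) (T : Finset G)
    (hT : ∀ s ∈ T, s ∈ Δ ∧ s • α = β) {s₁ : G} (hs₁ : s₁ ∈ T)
    (hstab : ∀ s ∈ T, s₁ * s * s₁⁻¹ ∈ T) : Odd T.card := by
  have h1 : s₁ * s₁ = 1 := S.sq s₁ (hT s₁ hs₁).1
  have h1inv : s₁⁻¹ = s₁ := inv_eq_self_of_sq h1
  have := odd_card_of_involution (α := {s // s ∈ T})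
    (fun s => ⟨s₁ * s.1 * s₁⁻¹, hstab _ s.2⟩) ?_ ⟨s₁, hs₁⟩ ?_ ?_
  · simpa using this
  · rintro ⟨s, hs⟩
    apply Subtype.ext
    show s₁ * (s₁ * s * s₁⁻¹) * s₁⁻¹ = s
    rw [h1inv]
    calc s₁ * (s₁ * s * s₁) * s₁ = (s₁ * s₁) * s * (s₁ * s₁) := by group
      _ = s := by rw [h1, one_mul, mul_one]
  · apply Subtype.ext
    show s₁ * s₁ * s₁⁻¹ = s₁
    group
  · rintro ⟨s, hs⟩ h
    apply Subtype.ext
    show s = s₁
    have h' : s₁ * s * s₁⁻¹ = s := congrArg Subtype.val h
    by_contra hne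
    have hcomm : s₁ * s = s * s₁ := by
      calc s₁ * s = (s₁ * s * s₁⁻¹) * s₁ := by group
        _ = s * s₁ := by rw [h']
    exact S.not_commute_of_swap (hT s₁ hs₁).1 (hT s hs).1 (hT s₁ hs₁).2 (hT s hs).2 hαβ
      (fun h => hne h.symm) hcomm

/-- the number of elements of `Δ` fixing `β` is odd -/
theorem OddSetup.odd_card_fix [Finite G] {z b₀ : G} (hz : z ∈ Δ) (hb₀ : b₀ ∈ Δ) {α β : X}
    (hzα : z • α = α) (hbβ : b₀ • β = β) (hαβ : α ≠ β) :
    Odd (Nat.card {b : G // b ∈ Δ ∧ b • β = β}) := by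
  classical
  have := Fintype.ofFinite G
  set I : Finset G := Finset.univ.filter (fun s => s ∈ Δ ∧ s • α = β) with hI
  set K : Finset G := Finset.univ.filter (fun b => b ∈ Δ ∧ b • β = β) with hK
  have hKcard : Nat.card {b : G // b ∈ Δ ∧ b • β = β} = K.card := by
    rw [Nat.card_eq_fintype_card, Fintype.card_subtype]
  rw [hKcard]
  have memI : ∀ s, s ∈ I ↔ s ∈ Δ ∧ s • α = β := fun s => by simp [hI]
  have memK : ∀ s, s ∈ K ↔ s ∈ Δ ∧ s • β = β := fun s => by simp [hK]
  -- elements conjugating z to a given element fixing β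
  have key : ∀ b ∈ K, ∃ s ∈ I, s * z * s⁻¹ = b := by
    intro b hb
    rw [memK] at hb
    obtain ⟨s, hs, hsb⟩ := S.exists_conj hz hb.1 (S.odd_order_of_fix_ne hz hb.1 hzα hb.2 hαβ)
    refine ⟨s, (memI s).2 ⟨hs, ?_⟩, hsb⟩
    have : b • (s • α) = s • α := by
      rw [← hsb, ← mul_smul]
      have : s * z * s⁻¹ * s = s * z := by group
      rw [this, mul_smul, hzα]
    exact S.fix_unique hb.1 this hb.2
  set ψ : G → G := fun s => s * z * s⁻¹ with hψ
  have hmaps : (I : Set G).MapsTo ψ K := by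
    intro s hs
    have hs' := (memI s).1 hs
    show ψ s ∈ K
    rw [memK]
    refine ⟨S.conj z hz s, ?_⟩
    have hsinv : s⁻¹ = s := inv_eq_self_of_sq (S.sq s hs'.1)
    rw [hψ]
    simp only
    rw [mul_smul, mul_smul, hsinv, S.smul_swap hs'.1 hs'.2, hzα, hs'.2]
  have hcount := Finset.card_eq_sum_card_fiberwise hmaps
  -- the set I is odd
  have hIodd : Odd I.card := by
    obtain ⟨s₀, hs₀, -⟩ := key b₀ ((memK b₀).2 ⟨hb₀, hbβ⟩)
    refine S.odd_card_of_stable hαβ I (fun s hs => (memI s).1 hs) hs₀ ?_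
    intro s hs
    have hs' := (memI s).1 hs
    have hs₀' := (memI s₀).1 hs₀
    rw [memI]
    refine ⟨S.conj s hs'.1 s₀, ?_⟩
    rw [inv_eq_self_of_sq (S.sq s₀ hs₀'.1), mul_smul, mul_smul, hs₀'.2,
      S.smul_swap hs'.1 hs'.2, hs₀'.2]
  -- each fibre is odd
  have hfib : ∀ b ∈ K, Odd (I.filter (fun s => ψ s = b)).card := by
    intro b hb
    obtain ⟨s₁, hs₁, hs₁b⟩ := key b hb
    have hs₁' := (memI s₁).1 hs₁
    have hs₁inv : s₁⁻¹ = s₁ := inv_eq_self_of_sq (S.sq s₁ hs₁'.1)
    refine S.odd_card_of_stable hαβ _ (fun s hs => (memI s).1 (Finset.mem_filter.1 hs).1)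
      (Finset.mem_filter.2 ⟨hs₁, hs₁b⟩) ?_
    intro s hs
    obtain ⟨hsI, hsb⟩ := Finset.mem_filter.1 hs
    have hs' := (memI s).1 hsI
    have hsinv : s⁻¹ = s := inv_eq_self_of_sq (S.sq s hs'.1)
    refine Finset.mem_filter.2 ⟨(memI _).2 ⟨S.conj s hs'.1 s₁, ?_⟩, ?_⟩
    · rw [hs₁inv, mul_smul, mul_smul, hs₁'.2, S.smul_swap hs'.1 hs'.2, hs₁'.2]
    · show s₁ * s * s₁⁻¹ * z * (s₁ * s * s₁⁻¹)⁻¹ = b
      have hsb' : s * z * s = b := by
        have : s * z * s⁻¹ = b := hsb
        rwa [hsinv] at this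
      have hs₁b' : s₁ * z * s₁ = b := by rw [← hs₁b, hs₁inv]
      have e1 : s₁ * b * s₁ = z := by
        rw [← hs₁b']
        calc s₁ * (s₁ * z * s₁) * s₁ = (s₁ * s₁) * z * (s₁ * s₁) := by group
          _ = z := by rw [S.sq s₁ hs₁'.1, one_mul, mul_one]
      have e2 : s * b * s = z := by
        rw [← hsb']
        calc s * (s * z * s) * s = (s * s) * z * (s * s) := by group
          _ = z := by rw [S.sq s hs'.1, one_mul, mul_one]
      rw [mul_inv_rev, mul_inv_rev, hs₁inv, hsinv, hs₁inv]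
      calc s₁ * s * s₁ * z * (s₁ * (s * s₁)) = s₁ * (s * (s₁ * z * s₁) * s) * s₁ := by group
        _ = b := by rw [hs₁b', e2, hs₁b']
  rw [hcount, Finset.odd_sum_iff_odd_card_odd] at hIodd
  have : K.filter (fun b => Odd (I.filter (fun s => ψ s = b)).card) = K :=
    Finset.filter_true_of_mem hfib
  rwa [this] at hIodd


/-- the set `Δ` has odd cardinality -/
theorem OddSetup.odd_card [Finite G] [Finite X] [MulAction.IsPretransitive G X] [Nontrivial X]
    (hne : Δ.Nonempty) : Odd (Nat.card Δ) := by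
  classical
  have := Fintype.ofFinite G
  have := Fintype.ofFinite X
  obtain ⟨a₀, ha₀⟩ := hne
  obtain ⟨x₀, hx₀, hx₀'⟩ := S.fixA a₀ ha₀
  have hXodd : Odd (Nat.card X) :=
    odd_card_of_involution (fun x => a₀ • x)
      (fun x => by show a₀ • a₀ • x = x; rw [← mul_smul, S.sq a₀ ha₀, one_smul]) x₀ hx₀
      (fun x hx => hx₀' x hx)
  have hKne : ∀ x : X, ∃ b ∈ Δ, b • x = x := by
    intro x
    obtain ⟨g, hg⟩ := MulAction.exists_smul_eq G x₀ x
    refine ⟨g * a₀ * g⁻¹, S.conj a₀ ha₀ g, ?_⟩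
    have : g⁻¹ • x = x₀ := by rw [← hg, inv_smul_smul]
    rw [mul_smul, mul_smul, this, hx₀, hg]
  have hKodd : ∀ x : X, Odd (Finset.univ.filter (fun b : G => b ∈ Δ ∧ b • x = x)).card := by
    intro x
    obtain ⟨y, hy⟩ := exists_ne x
    obtain ⟨z, hz, hzy⟩ := hKne y
    obtain ⟨b₀, hb₀, hb₀x⟩ := hKne x
    have := S.odd_card_fix hz hb₀ hzy hb₀x hy
    rwa [Nat.card_eq_fintype_card, Fintype.card_subtype] at this
  set φ : G → X := fun a => if h : a ∈ Δ then (S.fixA a h).choose else x₀ with hφ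
  have hcount := Finset.card_eq_sum_card_fiberwise (f := φ)
    (s := Finset.univ.filter (fun a : G => a ∈ Δ)) (t := Finset.univ)
    (fun a _ => Finset.mem_coe.2 (Finset.mem_univ _))
  have hfib : ∀ x : X, (Finset.univ.filter (fun a : G => a ∈ Δ)).filter (fun a => φ a = x)
      = Finset.univ.filter (fun b : G => b ∈ Δ ∧ b • x = x) := by
    intro x
    ext a
    simp only [Finset.mem_filter, Finset.mem_univ, true_and]
    constructor
    · rintro ⟨ha, hax⟩
      refine ⟨ha, ?_⟩
      have h1 : φ a = (S.fixA a ha).choose := by rw [hφ]; simp only [dif_pos ha]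
      have h2 := (S.fixA a ha).choose_spec.1
      rw [← h1, hax] at h2
      exact h2
    · rintro ⟨ha, hax⟩
      refine ⟨ha, ?_⟩
      have h1 : φ a = (S.fixA a ha).choose := by rw [hφ]; simp only [dif_pos ha]
      rw [h1]
      exact ((S.fixA a ha).choose_spec.2 x hax).symm
  have hΔ : Nat.card Δ = (Finset.univ.filter (fun a : G => a ∈ Δ)).card := by
    rw [Nat.card_eq_fintype_card, ← Fintype.card_subtype]
  rw [hΔ, hcount, Finset.odd_sum_iff_odd_card_odd]
  have : (Finset.univ : Finset X).filter (fun x => Odd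
      ((Finset.univ.filter (fun a : G => a ∈ Δ)).filter (fun a => φ a = x)).card) = Finset.univ := by
    apply Finset.filter_true_of_mem
    intro x _
    rw [hfib x]
    exact hKodd x
  rw [this, Finset.card_univ, ← Nat.card_eq_fintype_card]
  exact hXodd

end Abstract

section Concrete

variable {G : Type*} [Group G]

theorem mem_map_conj_iff (H : Subgroup G) (a g : G) :
    a ∈ H.map (MulAut.conj g).toMonoidHom ↔ g⁻¹ * a * g ∈ H := by
  rw [Subgroup.mem_map]
  constructor
  · rintro ⟨h, hh, rfl⟩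
    have : g⁻¹ * (MulAut.conj g).toMonoidHom h * g = h := by
      simp [MulAut.conj_apply, mul_assoc]
    rw [this]; exact hh
  · intro h
    exact ⟨g⁻¹ * a * g, h, by simp [MulAut.conj_apply, mul_assoc]⟩

theorem smul_coset_iff (H : Subgroup G) (a x : G) :
    a • (x : G ⧸ H) = (x : G ⧸ H) ↔ x⁻¹ * a * x ∈ H := by
  rw [MulAction.Quotient.smul_mk, QuotientGroup.eq, ← inv_mem_iff, smul_eq_mul]
  have : ((a * x)⁻¹ * x)⁻¹ = x⁻¹ * a * x := by group
  rw [this]

theorem existsUnique_fix_conj {X : Type*} [MulAction G X] (u g : G)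
    (h : ∃! x : X, u • x = x) : ∃! x : X, (g * u * g⁻¹) • x = x := by
  obtain ⟨w, hw, hw'⟩ := h
  refine ⟨g • w, ?_, ?_⟩
  · show (g * u * g⁻¹) • g • w = g • w
    rw [mul_smul, mul_smul, inv_smul_smul, hw]
  · intro y hy
    have h1 : u • (g⁻¹ • y) = g⁻¹ • y := by
      have : (g * u * g⁻¹) • y = y := hy
      rw [mul_smul, mul_smul] at this
      calc u • (g⁻¹ • y) = g⁻¹ • (g • u • g⁻¹ • y) := by rw [inv_smul_smul]
        _ = g⁻¹ • y := by rw [this]
    have := hw' _ h1
    rw [← this, smul_inv_smul]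

theorem existsUnique_fix_of_iff (H : Subgroup G) (u : G)
    (h : ∀ g : G, u ∈ H.map (MulAut.conj g).toMonoidHom ↔ g ∈ H) :
    ∃! x : G ⧸ H, u • x = x := by
  refine ⟨((1 : G) : G ⧸ H), ?_, ?_⟩
  · show u • ((1 : G) : G ⧸ H) = ((1 : G) : G ⧸ H)
    rw [smul_coset_iff, ← mem_map_conj_iff, h]
    exact H.one_mem
  · intro y
    induction y using QuotientGroup.induction_on with
    | H g =>
      intro hy
      have hy' : u • (g : G ⧸ H) = (g : G ⧸ H) := hy
      rw [smul_coset_iff, ← mem_map_conj_iff, h] at hy'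
      rw [QuotientGroup.eq, mul_one]
      exact H.inv_mem hy'


theorem sq_of_orderOf_two {z : G} (hz : orderOf z = 2) : z * z = 1 := by
  rw [← pow_two, ← hz, pow_orderOf_eq_one]

theorem setup_of_hyp (z : G) (hz : orderOf z = 2) (H : Subgroup G)
    (h0 : ∀ g : G, z ∈ H.map (MulAut.conj g).toMonoidHom ↔ g ∈ H)
    (h1 : ∀ t : G, IsConj z t → t ≠ z → t * z = z * t →
      ∀ g : G, z * t ∈ H.map (MulAut.conj g).toMonoidHom ↔ g ∈ H) :
    OddSetup {a : G | IsConj z a} (G ⧸ H) where
  sq := by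
    intro a ha
    obtain ⟨c, rfl⟩ := isConj_iff.1 ha
    calc c * z * c⁻¹ * (c * z * c⁻¹) = c * (z * z) * c⁻¹ := by group
      _ = 1 := by rw [sq_of_orderOf_two hz]; group
  conj := by
    intro a ha g
    exact IsConj.trans ha (isConj_iff.2 ⟨g, rfl⟩)
  fixA := by
    intro a ha
    obtain ⟨c, rfl⟩ := isConj_iff.1 ha
    exact existsUnique_fix_conj z c (existsUnique_fix_of_iff H z h0)
  fixB := by
    intro a ha b hb hab hcomm
    obtain ⟨c, rfl⟩ := isConj_iff.1 ha
    have hb' : IsConj z b := hb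
    set t := c⁻¹ * b * c with ht
    have htconj : IsConj z t := by
      refine IsConj.trans hb' (isConj_iff.2 ⟨c⁻¹, ?_⟩)
      rw [inv_inv]
    have htz : t ≠ z := by
      intro h
      apply hab
      rw [← h, ht]; group
    have hbt : b = c * t * c⁻¹ := by rw [ht]; group
    have hcomm' : t * z = z * t := by
      have e1 : t * z = c⁻¹ * (b * (c * z * c⁻¹)) * c := by rw [ht]; group
      have e2 : z * t = c⁻¹ * ((c * z * c⁻¹) * b) * c := by rw [ht]; group
      rw [e1, e2, hcomm]
    have := existsUnique_fix_conj (z * t) c (existsUnique_fix_of_iff H (z * t) (h1 t htconj htz hcomm'))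
    have e : c * (z * t) * c⁻¹ = c * z * c⁻¹ * b := by rw [hbt]; group
    rwa [e] at this

theorem index_centralizer_eq [Finite G] (z : G) :
    (Subgroup.centralizer {z}).index = Nat.card {a : G | IsConj z a} := by
  have h1 : Nat.card (Subgroup.centralizer {z}) = Nat.card (MulAction.stabilizer (ConjAct G) z) :=
    Subgroup.nat_card_centralizer_nat_card_stabilizer z
  have h2 := (MulAction.stabilizer (ConjAct G) z).index_mul_card
  have h3 := (Subgroup.centralizer {z}).index_mul_card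
  have h4 : Nat.card (ConjAct G) = Nat.card G := rfl
  have h5 : (Subgroup.centralizer {z}).index = (MulAction.stabilizer (ConjAct G) z).index := by
    have hpos : 0 < Nat.card (Subgroup.centralizer {z}) := Nat.card_pos
    apply Nat.eq_of_mul_eq_mul_right hpos
    rw [h3, h1, h2, h4]
  have h6 : MulAction.orbit (ConjAct G) z = {a : G | IsConj z a} := by
    ext a
    rw [ConjAct.mem_orbit_conjAct]
    exact ⟨fun h => h.symm, fun h => IsConj.symm h⟩
  rw [h5, MulAction.index_stabilizer, ← Nat.card_coe_set_eq, h6]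


/-- if the centralizer of the involution `z` has odd index, `z` is central in a Sylow 2-subgroup -/
theorem exists_sylow_of_odd_index [Finite G] (z : G) (hz : orderOf z = 2)
    (hodd : Odd (Subgroup.centralizer {z}).index) :
    ∃ P : Sylow 2 G, z ∈ (Subgroup.center ↥(P : Subgroup G)).map (P : Subgroup G).subtype := by
  have : Fact (Nat.Prime 2) := ⟨Nat.prime_two⟩
  set C := Subgroup.centralizer ({z} : Set G) with hC
  have hzC : z ∈ C := by
    rw [hC, Subgroup.mem_centralizer_iff]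
    intro h hh
    rw [Set.mem_singleton_iff] at hh
    rw [hh]
  set zC : ↥C := ⟨z, hzC⟩ with hzCdef
  have hpg : IsPGroup 2 (Subgroup.zpowers zC) := by
    apply IsPGroup.of_card (n := 1)
    rw [Nat.card_zpowers, pow_one, hzCdef, Subgroup.orderOf_mk, hz]
  obtain ⟨Q, hQ⟩ := hpg.exists_le_sylow
  set P₀ : Subgroup G := (Q : Subgroup ↥C).map C.subtype with hP₀
  have hP₀pg : IsPGroup 2 P₀ := Q.2.map _
  have hidx : ¬ 2 ∣ P₀.index := by
    rw [hP₀, Subgroup.index_map_subtype]
    intro hdvd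
    rcases (Nat.Prime.dvd_mul Nat.prime_two).1 hdvd with h | h
    · exact Q.not_dvd_index h
    · exact (Nat.not_even_iff_odd.2 hodd) (even_iff_two_dvd.2 h)
  refine ⟨hP₀pg.toSylow hidx, ?_⟩
  have hzP : z ∈ P₀ := by
    rw [hP₀, Subgroup.mem_map]
    exact ⟨zC, hQ (Subgroup.mem_zpowers zC), rfl⟩
  have hcomm : ∀ y ∈ P₀, y * z = z * y := by
    intro y hy
    rw [hP₀, Subgroup.mem_map] at hy
    obtain ⟨y', _, rfl⟩ := hy
    have : (y' : G) ∈ Subgroup.centralizer ({z} : Set G) := y'.2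
    rw [Subgroup.mem_centralizer_iff] at this
    exact (this z (Set.mem_singleton z)).symm
  rw [Subgroup.mem_map]
  refine ⟨⟨z, (IsPGroup.mem_toSylow hP₀pg hidx).2 hzP⟩, ?_, rfl⟩
  rw [Subgroup.mem_center_iff]
  rintro ⟨y, hy⟩
  apply Subtype.ext
  exact hcomm y ((IsPGroup.mem_toSylow hP₀pg hidx).1 hy)

end Concrete

theorem result {G : Type*} [Group G] [Finite G] (z : G) (hz : orderOf z = 2) (H : Subgroup G) (hH : H ≠ ⊤)
    (h0 : ∀ g : G, z ∈ H.map (MulAut.conj g).toMonoidHom ↔ g ∈ H) :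
    (∀ t : G, IsConj z t → t ≠ z → t * z = z * t → ∀ g : G, z * t ∈ H.map (MulAut.conj g).toMonoidHom ↔ g ∈ H) ↔
      ((∃ P : Sylow 2 G, z ∈ (Subgroup.center ↥(P : Subgroup G)).map (P : Subgroup G).subtype) ∧
        ∀ t : G, IsConj z t → t ≠ z → t * z = z * t → Subgroup.centralizer ({z * t} : Set G) ≤ H) := by
  have : Fact (Nat.Prime 2) := ⟨Nat.prime_two⟩
  have hz2 : z * z = 1 := sq_of_orderOf_two hz
  have hzH : z ∈ H := by
    have := (h0 1).2 H.one_mem
    rw [mem_map_conj_iff] at this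
    simpa using this
  have hCH : Subgroup.centralizer ({z} : Set G) ≤ H := by
    intro c hc
    rw [Subgroup.mem_centralizer_iff] at hc
    have hc' := hc z (Set.mem_singleton z)
    apply (h0 c).1
    rw [mem_map_conj_iff]
    have : c⁻¹ * z * c = z := by
      rw [mul_assoc, hc']; group
    rw [this]; exact hzH
  constructor
  · -- (1) ⇒ (2)
    intro h1
    refine ⟨?_, ?_⟩
    · have S := setup_of_hyp z hz H h0 h1
      have hnt : Nontrivial (G ⧸ H) := by
        have : ∃ g : G, g ∉ H := by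
          by_contra hcon
          push Not at hcon
          exact hH (eq_top_iff.2 fun g _ => hcon g)
        obtain ⟨g, hg⟩ := this
        refine ⟨⟨(g : G ⧸ H), ((1 : G) : G ⧸ H), ?_⟩⟩
        intro h
        rw [QuotientGroup.eq, mul_one] at h
        exact hg (by simpa using H.inv_mem h)
      have hodd := S.odd_card ⟨z, IsConj.refl z⟩
      rw [← index_centralizer_eq] at hodd
      exact exists_sylow_of_odd_index z hz hodd
    · intro t ht htz hcomm c hc
      rw [Subgroup.mem_centralizer_iff] at hc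
      have hc' := hc (z * t) (Set.mem_singleton _)
      apply (h1 t ht htz hcomm c).1
      rw [mem_map_conj_iff]
      have e : c⁻¹ * (z * t) * c = z * t := by
        rw [mul_assoc, hc']; group
      rw [e]
      have h11 := (h1 t ht htz hcomm 1).2 H.one_mem
      rw [mem_map_conj_iff] at h11
      simpa using h11
  · -- (2) ⇒ (1)
    rintro ⟨⟨P, hP⟩, h2⟩ t ht htz hcomm g
    rw [Subgroup.mem_map] at hP
    obtain ⟨w, hw, hwz⟩ := hP
    have hzP : z ∈ (P : Subgroup G) := by rw [← hwz]; exact w.2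
    have hcommP : ∀ y ∈ (P : Subgroup G), y * z = z * y := by
      intro y hy
      rw [Subgroup.mem_center_iff] at hw
      have := hw ⟨y, hy⟩
      have h' := congrArg Subtype.val this
      simp only [Subgroup.coe_mul] at h'
      rw [← hwz]
      exact h'
    have hPH : (P : Subgroup G) ≤ H := by
      intro y hy
      apply hCH
      rw [Subgroup.mem_centralizer_iff]
      intro h hh
      rw [Set.mem_singleton_iff] at hh
      rw [hh]
      exact (hcommP y hy).symm
    have htH : t ∈ H := by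
      apply hCH
      rw [Subgroup.mem_centralizer_iff]
      intro h hh
      rw [Set.mem_singleton_iff] at hh
      rw [hh]
      exact hcomm.symm
    have ht2 : t * t = 1 := by
      obtain ⟨c, rfl⟩ := isConj_iff.1 ht
      calc c * z * c⁻¹ * (c * z * c⁻¹) = c * (z * z) * c⁻¹ := by group
        _ = 1 := by rw [hz2]; group
    rw [mem_map_conj_iff]
    constructor
    · intro hu
      set u' := g⁻¹ * (z * t) * g with hu'
      have hu2 : u' * u' = 1 := by
        have : (z * t) * (z * t) = 1 := by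
          calc z * t * (z * t) = z * (t * z) * t := by group
            _ = z * (z * t) * t := by rw [hcomm]
            _ = (z * z) * (t * t) := by group
            _ = 1 := by rw [hz2, ht2, one_mul]
        calc u' * u' = g⁻¹ * ((z * t) * (z * t)) * g := by rw [hu']; group
          _ = 1 := by rw [this]; group
      set u'' : ↥H := ⟨u', hu⟩ with hu''
      have hu''2 : u'' ^ 2 = 1 := by
        apply Subtype.ext
        rw [pow_two]
        exact hu2
      have hpg : IsPGroup 2 (Subgroup.zpowers u'') := by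
        rintro ⟨x, hx⟩
        obtain ⟨n, rfl⟩ := Subgroup.mem_zpowers_iff.1 hx
        refine ⟨1, ?_⟩
        apply Subtype.ext
        show (u'' ^ n) ^ 2 ^ 1 = 1
        rw [pow_one, ← zpow_natCast, ← zpow_mul, mul_comm, zpow_mul, zpow_natCast, hu''2, one_zpow]
      obtain ⟨Q', hQ'⟩ := hpg.exists_le_sylow
      obtain ⟨h, hh⟩ := MulAction.exists_smul_eq ↥H Q' (P.subtype hPH)
      have hmem : h * u'' * h⁻¹ ∈ ((P.subtype hPH : Sylow 2 ↥H) : Subgroup ↥H) := by
        rw [← hh, Sylow.smul_def, Sylow.pointwise_smul_def]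
        have : h * u'' * h⁻¹ = MulAut.conj h • u'' := by
          rw [MulAut.smul_def, MulAut.conj_apply]
        rw [this, Subgroup.smul_mem_pointwise_smul_iff]
        exact hQ' (Subgroup.mem_zpowers u'')
      rw [Sylow.coe_subtype, Subgroup.mem_subgroupOf] at hmem
      have hmem' : (h : G) * u' * (h : G)⁻¹ ∈ (P : Subgroup G) := by
        simpa using hmem
      set k : G := (h : G) * g⁻¹ with hk
      have hv : (h : G) * u' * (h : G)⁻¹ = k * (z * t) * k⁻¹ := by
        rw [hk, hu']; group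
      rw [hv] at hmem'
      have hzv := hcommP _ hmem'
      have hkz : k⁻¹ * z * k ∈ Subgroup.centralizer ({z * t} : Set G) := by
        rw [Subgroup.mem_centralizer_iff]
        intro x hx
        rw [Set.mem_singleton_iff] at hx
        rw [hx]
        calc z * t * (k⁻¹ * z * k) = k⁻¹ * ((k * (z * t) * k⁻¹) * z) * k := by group
          _ = k⁻¹ * (z * (k * (z * t) * k⁻¹)) * k := by rw [hzv]
          _ = k⁻¹ * z * k * (z * t) := by group
      have hkH : k ∈ H := by
        apply (h0 k).1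
        rw [mem_map_conj_iff]
        exact h2 t ht htz hcomm hkz
      have : g = k⁻¹ * (h : G) := by rw [hk]; group
      rw [this]
      exact H.mul_mem (H.inv_mem hkH) h.2
    · intro hg
      exact H.mul_mem (H.mul_mem (H.inv_mem hg) (H.mul_mem hzH htH)) hg


end Cfsg.Agent.S1922
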