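import Cfsg.Statements.S1939
-- (no extra imports)

set_option autoImplicit false
open Cfsg

namespace Cfsg.Agent.S1939

open scoped Pointwise

/-- membership in a conjugate Sylow subgroup -/
theorem mem_smul_sylow {G : Type*} [Group G] {p : ℕ} (S : Sylow p G) (h x : G) :
    x ∈ ((h • S : Sylow p G) : Subgroup G) ↔ h⁻¹ * x * h ∈ (S : Subgroup G) := by
  rw [Sylow.coe_subgroup_smul, Subgroup.mem_pointwise_smul_iff_inv_smul_mem, MulAut.smul_def,
    ← map_inv, MulAut.conj_apply, inv_inv]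

theorem result {G : Type*} [Group G] [Finite G] {p : ℕ} [Fact p.Prime] (S : Sylow p G) (a : G)
    (haS : a ∈ (S : Subgroup G)) (hwc : ∀ g : G, g * a * g⁻¹ ∈ (S : Subgroup G) → g * a * g⁻¹ = a) (n : ℕ) :
    ∀ g : G, g * a ^ n * g⁻¹ ∈ (S : Subgroup G) → g * a ^ n * g⁻¹ = a ^ n := by
  intro g hg
  set b' := g * a ^ n * g⁻¹ with hb'
  set a' := g * a * g⁻¹ with ha'
  have hpow : a' ^ n = b' := by rw [ha', hb', conj_pow]
  -- a is central in S
  have hacen : ∀ s ∈ (S : Subgroup G), s * a = a * s := by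
    intro s hs
    have h1 : s * a * s⁻¹ ∈ (S : Subgroup G) := S.mul_mem (S.mul_mem hs haS) (S.inv_mem hs)
    have h2 := hwc s h1
    calc s * a = s * a * s⁻¹ * s := by group
      _ = a * s := by rw [h2]
  let C : Subgroup G := Subgroup.centralizer ({b'} : Set G)
  have haC : a ∈ C := by
    rw [Subgroup.mem_centralizer_iff]
    intro y hy
    rw [Set.mem_singleton_iff] at hy
    subst hy
    exact hacen _ hg
  have ha'C : a' ∈ C := by
    rw [Subgroup.mem_centralizer_iff]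
    intro y hy
    rw [Set.mem_singleton_iff] at hy
    subst hy
    rw [← hpow]
    exact (pow_mul_comm' a' n)
  -- Sylow subgroups of C
  obtain ⟨R, hR⟩ := (S.isPGroup'.comap_subtype (K := C)).exists_le_sylow
  obtain ⟨R', hR'⟩ := ((g • S).isPGroup'.comap_subtype (K := C)).exists_le_sylow
  obtain ⟨c, hc⟩ := MulAction.exists_smul_eq C R R'
  have h1 : (⟨a, haC⟩ : C) ∈ (R : Subgroup C) := hR (by
    show (⟨a, haC⟩ : C) ∈ Subgroup.comap C.subtype (S : Subgroup G)
    rw [Subgroup.mem_comap]; exact haS)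
  have h2 : (⟨a', ha'C⟩ : C) ∈ (R' : Subgroup C) := hR' (by
    show (⟨a', ha'C⟩ : C) ∈ Subgroup.comap C.subtype ((g • S : Sylow p G) : Subgroup G)
    rw [Subgroup.mem_comap]
    rw [mem_smul_sylow]
    simp only [Subgroup.coe_subtype, ha']
    have : g⁻¹ * (g * a * g⁻¹) * g = a := by group
    rw [this]; exact haS)
  rw [← hc, mem_smul_sylow] at h2
  -- move to G
  obtain ⟨P, hP⟩ := ((R.isPGroup').map C.subtype).exists_le_sylow
  obtain ⟨h, hh⟩ := MulAction.exists_smul_eq G S P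
  have h3 : a ∈ (P : Subgroup G) := hP (Subgroup.mem_map.mpr ⟨⟨a, haC⟩, h1, rfl⟩)
  have h4 : (c : G)⁻¹ * a' * c ∈ (P : Subgroup G) :=
    hP (Subgroup.mem_map.mpr ⟨_, h2, by simp⟩)
  rw [← hh, mem_smul_sylow] at h3 h4
  have e3 : h⁻¹ * a * h = a := by
    have := hwc h⁻¹ (by simpa using h3)
    simpa using this
  have e4 : h⁻¹ * ((c : G)⁻¹ * a' * c) * h = a := by
    have key : h⁻¹ * ((c : G)⁻¹ * a' * c) * h = (h⁻¹ * (c : G)⁻¹ * g) * a * (h⁻¹ * (c : G)⁻¹ * g)⁻¹ := by
      rw [ha']; group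
    rw [key]
    apply hwc
    rw [← key]; exact h4
  have e5 : (c : G)⁻¹ * a' * c = a := by
    have : (c : G)⁻¹ * a' * c = h * a * h⁻¹ := by rw [← e4]; group
    rw [this]
    calc h * a * h⁻¹ = h * (h⁻¹ * a * h) * h⁻¹ := by rw [e3]
      _ = a := by group
  have e6 : (c : G)⁻¹ * b' * c = a ^ n := by
    rw [← hpow, ← e5]
    have := conj_pow (a := (c : G)⁻¹) (b := a') (i := n)
    simpa using this.symm
  have hcC : (c : G) * b' = b' * c := by
    have := c.2
    rw [Subgroup.mem_centralizer_iff] at this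
    exact (this b' (Set.mem_singleton _)).symm
  rw [← e6]
  calc b' = (c : G)⁻¹ * ((c : G) * b') := by group
    _ = (c : G)⁻¹ * b' * c := by rw [hcC]; group

end Cfsg.Agent.S1939
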