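import Cfsg.Statements.S1940
import Mathlib

set_option autoImplicit false
open Cfsg

namespace Cfsg.Agent.S1940

theorem result {L : Type*} [Group L] [Finite L] {M : Type*} [CommGroup M] [Finite M] [MulDistribMulAction L M]
    {p : ℕ} [Fact p.Prime] (N : Subgroup M) (hN : ∀ (l : L) (m : M), m ∈ N → l • m ∈ N)
    (hquot : IsPGroup p (M ⧸ N)) (htriv : ∀ (l : L) (m : M), (l • m) * m⁻¹ ∈ N) (T : Sylow p L)
    (hT : ∀ m : M, ∃ n ∈ N, ∃ c : M, (∀ t ∈ (T : Subgroup L), t • c = c) ∧ m = n * c) :
    ∀ m : M, ∃ n ∈ N, ∃ c : M, (∀ l : L, l • c = c) ∧ m = n * c := by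
  classical
  have hp : p.Prime := Fact.out
  intro m
  obtain ⟨n, hn, c, hc, rfl⟩ := hT m
  haveI : Fintype (L ⧸ (T : Subgroup L)) := Fintype.ofFinite _
  -- the coset function
  let f : L ⧸ (T : Subgroup L) → M := fun q => Quotient.liftOn' q (fun g => g • c) (by
    intro a b hab
    rw [QuotientGroup.leftRel_apply] at hab
    have : b = a * (a⁻¹ * b) := by group
    show a • c = b • c
    rw [this, mul_smul, hc _ hab])
  have hf_mk : ∀ g : L, f (QuotientGroup.mk g) = g • c := fun g => rfl
  have hf_smul : ∀ (l : L) (q : L ⧸ (T : Subgroup L)), l • f q = f (l • q) := by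
    intro l q
    induction q using QuotientGroup.induction_on with
    | H g =>
      rw [MulAction.Quotient.smul_mk, hf_mk, hf_mk, smul_eq_mul, mul_smul]
  set c' : M := ∏ q, f q with hc'
  have hfix : ∀ l : L, l • c' = c' := by
    intro l
    rw [hc', Finset.smul_prod']
    simp_rw [hf_smul]
    exact Fintype.prod_equiv (MulAction.toPerm l) _ _ (fun q => rfl)
  -- congruence modulo N
  set r : ℕ := Fintype.card (L ⧸ (T : Subgroup L)) with hr
  have hmk : (QuotientGroup.mk c' : M ⧸ N) = (QuotientGroup.mk c) ^ r := by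
    rw [hc', ← QuotientGroup.mk'_apply, map_prod]
    have : ∀ q ∈ (Finset.univ : Finset (L ⧸ (T : Subgroup L))), (QuotientGroup.mk' N) (f q) = QuotientGroup.mk c := by
      intro q _
      induction q using QuotientGroup.induction_on with
      | H g =>
        rw [hf_mk, QuotientGroup.mk'_apply, QuotientGroup.eq]
        have := htriv g c
        have h2 := N.inv_mem this
        rwa [mul_inv_rev, inv_inv, mul_comm] at h2
    rw [Finset.prod_congr rfl this, Finset.prod_const, Finset.card_univ]
  have hrcop : Nat.Coprime r p := by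
    have h1 : r = (T : Subgroup L).index := by
      rw [hr, Subgroup.index, Nat.card_eq_fintype_card]
    rw [h1]
    exact ((Nat.Prime.coprime_iff_not_dvd hp).mpr T.not_dvd_index).symm
  -- order of the image of c
  obtain ⟨k, hk⟩ := (IsPGroup.iff_orderOf.mp hquot) (QuotientGroup.mk c : M ⧸ N)
  by_cases ho : orderOf (QuotientGroup.mk c : M ⧸ N) = 1
  · rw [orderOf_eq_one_iff, QuotientGroup.eq_one_iff] at ho
    exact ⟨n * c, N.mul_mem hn ho, 1, fun l => smul_one l, by simp⟩
  · have ho1 : 1 < orderOf (QuotientGroup.mk c : M ⧸ N) := by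
      have := orderOf_pos (QuotientGroup.mk c : M ⧸ N)
      omega
    have hcop2 : Nat.Coprime r (orderOf (QuotientGroup.mk c : M ⧸ N)) := by
      rw [hk]; exact Nat.Coprime.pow_right k hrcop
    obtain ⟨s, -, hs⟩ := Nat.exists_mul_mod_eq_one_of_coprime hcop2 ho1
    have hd : (QuotientGroup.mk (c' ^ s) : M ⧸ N) = QuotientGroup.mk c := by
      rw [QuotientGroup.mk_pow, hmk, ← pow_mul, ← pow_mod_orderOf, hs, pow_one]
    refine ⟨n * (c * (c' ^ s)⁻¹), N.mul_mem hn ?_, c' ^ s, ?_, by group⟩
    · rw [← QuotientGroup.eq_one_iff, QuotientGroup.mk_mul, QuotientGroup.mk_inv, hd, mul_inv_cancel]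
    · intro l
      rw [smul_pow', hfix]

end Cfsg.Agent.S1940
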