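import Cfsg.Statements.S1941
import Cfsg.Agent.Lib.H7.FStar
import Cfsg.Agent.Lib.H16.SolvableCore
import Cfsg.Agent.Lib.H1.PCore

set_option autoImplicit false
open Cfsg

namespace Cfsg.Agent.S1941

open Cfsg.Agent.Lib.H7

theorem result {G : Type*} [Group G] [Finite G] {p : ℕ} [Fact p.Prime] (hcore : Cfsg.pPrimeCore p G = ⊥)
    (T : Sylow p G) (α : MulAut G) (hα : ∃ j : ℕ, orderOf α = p ^ j) (hfixT : ∀ x ∈ (T : Subgroup G), α x = x)
    (hfixE : ∀ x ∈ Cfsg.layer G, α x = x) : ∃ g : G, ∀ x : G, α x = g * x * g⁻¹ := by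
  classical
  obtain ⟨j, hj⟩ := hα
  have hp : p.Prime := Fact.out
  set Fs := generalizedFittingSubgroup G with hFs
  have hFsn : Fs.Normal := generalizedFittingSubgroup_normal
  -- `α` fixes `F*(G)` pointwise
  let Fix : Subgroup G :=
    { carrier := {x | α x = x}
      one_mem' := map_one α
      mul_mem' := by
        intro a b ha hb
        change α (a * b) = a * b
        rw [map_mul, ha, hb]
      inv_mem' := by
        intro a ha
        change α a⁻¹ = a⁻¹
        rw [map_inv, ha] }
  have hfixF : ∀ x ∈ Fs, α x = x := by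
    have h1 : layer G ≤ Fix := hfixE
    have h2 : fittingSubgroup G ≤ Fix := by
      rw [Cfsg.Agent.Lib.H16.fittingSubgroup_eq_pCore_of_pPrimeCore_eq_bot p hcore]
      intro x hx
      exact hfixT x (Cfsg.Agent.Lib.H1.pCore_le_sylow T hx)
    exact sup_le h1 h2
  set A := Subgroup.centralizer (Fs : Set G) with hA
  have hAn : A.Normal := Subgroup.normal_centralizer
  have hAF : A ≤ Fs := centralizer_generalizedFittingSubgroup_le
  have hAcomm : ∀ a ∈ A, ∀ b ∈ A, a * b = b * a := fun a ha b hb =>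
    (Subgroup.mem_centralizer_iff.1 ha b (hAF hb)).symm
  let instA : CommGroup A :=
    { (inferInstance : Group A) with
      mul_comm := fun a b => Subtype.ext (hAcomm a a.2 b b.2) }
  have hφmem : ∀ g : G, α g * g⁻¹ ∈ A := by
    intro g
    rw [hA, Subgroup.mem_centralizer_iff]
    intro y hy
    have h1 : g⁻¹ * y * g ∈ Fs := by
      have := hFsn.conj_mem y hy g⁻¹
      simpa using this
    have h2 := hfixF _ h1
    rw [map_mul, map_mul, map_inv, hfixF y hy] at h2
    -- h2 : (α g)⁻¹ * y * α g = g⁻¹ * y * g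
    have h3 : y * (α g * g⁻¹) = α g * ((α g)⁻¹ * y * α g) * g⁻¹ := by group
    rw [h3, h2]; group
  let φ : G → A := fun g => ⟨α g * g⁻¹, hφmem g⟩
  have hφval : ∀ g : G, ((φ g : A) : G) = α g * g⁻¹ := fun g => rfl
  have hφT : ∀ g : G, ∀ t ∈ (T : Subgroup G), φ (g * t) = φ g := by
    intro g t ht
    apply Subtype.ext
    rw [hφval, hφval, map_mul, hfixT t ht]
    group
  have hφmul : ∀ h g : G, φ (h * g) = φ h * MulAut.conjNormal h (φ g) := by
    intro h g
    apply Subtype.ext
    rw [Subgroup.coe_mul, MulAut.conjNormal_apply, hφval, hφval, hφval, map_mul]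
    -- α h * α g * (h*g)⁻¹ = α h * h⁻¹ * (h * (α g * g⁻¹) * h⁻¹)
    group
  have hαφ : ∀ g : G, α ((φ g : A) : G) = ((φ g : A) : G) := fun g => hfixF _ (hAF (φ g).2)
  have hpowα : ∀ (k : ℕ) (g : G), (α ^ k) g = ((φ g : A) : G) ^ k * g := by
    intro k
    induction k with
    | zero => intro g; simp
    | succ k ih =>
      intro g
      rw [pow_succ', MulAut.mul_apply, ih, map_mul, map_pow, hαφ, pow_succ, hφval]
      group
  have hφpow : ∀ g : G, φ g ^ (p ^ j) = 1 := by
    intro g
    have h1 := hpowα (p ^ j) g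
    rw [← hj, pow_orderOf_eq_one, MulAut.one_apply] at h1
    apply Subtype.ext
    rw [Subgroup.coe_pow, Subgroup.coe_one]
    have h2 : ((φ g : A) : G) ^ orderOf α * g = 1 * g := by rw [one_mul]; exact h1.symm
    rw [← hj]
    exact mul_right_cancel h2
  -- averaging over `G ⧸ T`
  have : Fintype (G ⧸ (T : Subgroup G)) := Fintype.ofFinite _
  set n := Fintype.card (G ⧸ (T : Subgroup G)) with hn
  have hnT : n = (T : Subgroup G).index := by
    rw [hn, Subgroup.index, Nat.card_eq_fintype_card]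
  have hncop : Nat.Coprime n (p ^ j) := by
    apply Nat.Coprime.pow_right
    rw [hnT]
    exact ((Nat.Prime.coprime_iff_not_dvd hp).2 T.not_dvd_index).symm
  set c : A := ∏ q : G ⧸ (T : Subgroup G), φ q.out with hc
  have hkey : ∀ h : G, c = φ h ^ n * MulAut.conjNormal h c := by
    intro h
    have h1 : ∏ q : G ⧸ (T : Subgroup G), φ (h * q.out) = φ h ^ n * MulAut.conjNormal h c := by
      simp only [hφmul]
      rw [Finset.prod_mul_distrib, Finset.prod_const, Finset.card_univ, hc, map_prod]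
    have h2 : ∏ q : G ⧸ (T : Subgroup G), φ (h * q.out) = c := by
      rw [hc]
      rw [← Equiv.prod_comp (MulAction.toPerm h : Equiv.Perm (G ⧸ (T : Subgroup G)))
        (fun q => φ q.out)]
      apply Finset.prod_congr rfl
      intro q _
      have h3 : (MulAction.toPerm h : Equiv.Perm (G ⧸ (T : Subgroup G))) q =
          ((h * q.out : G) : G ⧸ (T : Subgroup G)) := by
        rw [MulAction.toPerm_apply]
        conv_lhs => rw [← QuotientGroup.out_eq' q]
        rfl
      rw [h3]
      obtain ⟨t, ht⟩ := QuotientGroup.mk_out_eq_mul (T : Subgroup G) (h * q.out)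
      rw [ht]
      exact (hφT _ t t.2).symm
    exact h2.symm.trans h1
  -- Bezout
  have hb := Nat.gcd_eq_gcd_ab n (p ^ j)
  rw [hncop] at hb
  set a := Nat.gcdA n (p ^ j) with ha
  set b := Nat.gcdB n (p ^ j) with hb'
  set d : A := c ^ a with hd
  have hφd : ∀ h : G, φ h = d * (MulAut.conjNormal h d)⁻¹ := by
    intro h
    have h1 : φ h ^ n = c * (MulAut.conjNormal h c)⁻¹ := by
      rw [eq_mul_inv_iff_mul_eq]
      exact (hkey h).symm
    have h2 : φ h = (φ h ^ n) ^ a := by
      have h3 : φ h = φ h ^ (1 : ℤ) := (zpow_one _).symm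
      have h4 : (1 : ℤ) = (n : ℤ) * a + ((p ^ j : ℕ) : ℤ) * b := by
        have := hb
        push_cast at this ⊢
        exact this
      conv_lhs => rw [h3, h4, zpow_add, zpow_mul, zpow_mul, zpow_natCast, zpow_natCast, hφpow h]
      simp
    rw [h2, h1, mul_zpow, inv_zpow, ← map_zpow]
  refine ⟨(d : G), ?_⟩
  intro x
  have h1 := congrArg (fun y : A => (y : G)) (hφd x)
  simp only [Subgroup.coe_mul, Subgroup.coe_inv, MulAut.conjNormal_apply] at h1
  rw [hφval] at h1
  -- α x * x⁻¹ = d * (x * d * x⁻¹)⁻¹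
  have h2 : α x = (α x * x⁻¹) * x := by group
  rw [h2, h1]
  group

end Cfsg.Agent.S1941
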