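import Cfsg.Statements.S1944
import Cfsg.Agent.S1907
import Cfsg.Agent.Lib.H7.PLocal
import Cfsg.Agent.Lib.H10.SylowIn

set_option autoImplicit false
open Cfsg

namespace Cfsg.Agent.S1944

open Cfsg.Agent.Lib.H10

/-- trace argument: for `S ≤ N` of index prime to `p` acting on an abelian `p`-group `V`,
`C_V(N)` is a direct factor of `C_V(S)`. -/
theorem trace_split {G : Type*} [Group G] [Finite G] {p : ℕ} [Fact p.Prime] (N S V : Subgroup G)
    (hSN : S ≤ N) (hVc : ∀ a ∈ V, ∀ b ∈ V, a * b = b * a)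
    (hNV : N ≤ Subgroup.normalizer (V : Set G)) (hVp : IsPGroup p V)
    (hidx : ¬ p ∣ S.relIndex N) :
    ∃ K : Subgroup G, K ≤ V ⊓ Subgroup.centralizer (S : Set G) ∧
      (V ⊓ Subgroup.centralizer (N : Set G)) ⊓ K = ⊥ ∧
      (V ⊓ Subgroup.centralizer (N : Set G)) ⊔ K = V ⊓ Subgroup.centralizer (S : Set G) := by
  classical
  have hp : p.Prime := Fact.out
  let instV : CommGroup V :=
    { (inferInstance : Group V) with
      mul_comm := fun a b => Subtype.ext (hVc a a.2 b b.2) }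
  -- conjugation action of `N` on `V`
  have hκmem : ∀ (n : N) (v : V), (n : G) * v * (n : G)⁻¹ ∈ V := fun n v =>
    (Subgroup.mem_normalizer_iff.1 (hNV n.2) v).1 v.2
  let κ : N → V → V := fun n v => ⟨(n : G) * v * (n : G)⁻¹, hκmem n v⟩
  have hκval : ∀ n v, ((κ n v : V) : G) = (n : G) * v * (n : G)⁻¹ := fun n v => rfl
  have hκmul : ∀ n v₁ v₂, κ n (v₁ * v₂) = κ n v₁ * κ n v₂ := by
    intro n v₁ v₂
    apply Subtype.ext
    rw [Subgroup.coe_mul, hκval, hκval, hκval, Subgroup.coe_mul]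
    group
  have hκκ : ∀ n₁ n₂ v, κ n₁ (κ n₂ v) = κ (n₁ * n₂) v := by
    intro n₁ n₂ v
    apply Subtype.ext
    rw [hκval, hκval, hκval, Subgroup.coe_mul]
    group
  have hκone : ∀ n, κ n 1 = 1 := by
    intro n
    apply Subtype.ext
    rw [hκval]; simp
  set S' : Subgroup N := S.subgroupOf N with hS'
  have : Fintype (N ⧸ S') := Fintype.ofFinite _
  set m := Fintype.card (N ⧸ S') with hm
  have hmidx : m = S.relIndex N := by
    rw [hm, Subgroup.relIndex, Subgroup.index, Nat.card_eq_fintype_card]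
  have hmcop : Nat.Coprime m p := by
    rw [hmidx]
    exact ((Nat.Prime.coprime_iff_not_dvd hp).2 hidx).symm
  let τ : V → V := fun v => ∏ q : N ⧸ S', κ q.out v
  have hτmul : ∀ v₁ v₂, τ (v₁ * v₂) = τ v₁ * τ v₂ := by
    intro v₁ v₂
    change ∏ q : N ⧸ S', κ q.out (v₁ * v₂) = (∏ q : N ⧸ S', κ q.out v₁) * ∏ q : N ⧸ S', κ q.out v₂
    rw [← Finset.prod_mul_distrib]
    exact Finset.prod_congr rfl (fun q _ => hκmul _ _ _)
  have hτone : τ 1 = 1 := by
    change ∏ q : N ⧸ S', κ q.out 1 = 1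
    simp only [hκone, Finset.prod_const_one]
  have hκprod : ∀ (n : N) (f : N ⧸ S' → V), κ n (∏ q, f q) = ∏ q, κ n (f q) := by
    intro n f
    let κh : V →* V := { toFun := κ n, map_one' := hκone n, map_mul' := hκmul n }
    exact map_prod κh f Finset.univ
  -- `S`-fixed points
  have hfixS : ∀ v : V, (v : G) ∈ Subgroup.centralizer (S : Set G) → ∀ s : N, s ∈ S' → κ s v = v := by
    intro v hv s hs
    apply Subtype.ext
    rw [hκval]
    have := Subgroup.mem_centralizer_iff.1 hv (s : G) (Subgroup.mem_subgroupOf.1 hs)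
    rw [this]; group
  -- `N`-invariance of `τ v`
  have hτinv : ∀ v : V, (v : G) ∈ Subgroup.centralizer (S : Set G) → ∀ n : N, κ n (τ v) = τ v := by
    intro v hv n
    change κ n (∏ q : N ⧸ S', κ q.out v) = ∏ q : N ⧸ S', κ q.out v
    rw [hκprod]
    simp only [hκκ]
    rw [← Equiv.prod_comp (MulAction.toPerm n : Equiv.Perm (N ⧸ S')) (fun q => κ q.out v)]
    apply Finset.prod_congr rfl
    intro q _
    have h3 : (MulAction.toPerm n : Equiv.Perm (N ⧸ S')) q = ((n * q.out : N) : N ⧸ S') := by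
      rw [MulAction.toPerm_apply]
      conv_lhs => rw [← QuotientGroup.out_eq' q]
      rfl
    rw [h3]
    obtain ⟨t, ht⟩ := QuotientGroup.mk_out_eq_mul S' (n * q.out)
    rw [ht, ← hκκ (n * q.out) (t : N) v, hfixS v hv t t.2]
  have hfixN : ∀ v : V, (v : G) ∈ Subgroup.centralizer (N : Set G) → ∀ n : N, κ n v = v := by
    intro v hv n
    apply Subtype.ext
    rw [hκval]
    have := Subgroup.mem_centralizer_iff.1 hv (n : G) n.2
    rw [this]; group
  have hτW : ∀ v : V, (v : G) ∈ Subgroup.centralizer (N : Set G) → τ v = v ^ m := by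
    intro v hv
    change ∏ q : N ⧸ S', κ q.out v = v ^ m
    simp only [hfixN v hv]
    rw [Finset.prod_const, Finset.card_univ]
  have hτmemN : ∀ v : V, (v : G) ∈ Subgroup.centralizer (S : Set G) →
      ((τ v : V) : G) ∈ Subgroup.centralizer (N : Set G) := by
    intro v hv
    rw [Subgroup.mem_centralizer_iff]
    intro n hn
    have h1 := congrArg (fun y : V => (y : G)) (hτinv v hv ⟨n, hn⟩)
    simp only [hκval] at h1
    -- n * τ v * n⁻¹ = τ v
    have h2 : n * ((τ v : V) : G) = (n * ((τ v : V) : G) * n⁻¹) * n := by group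
    rw [h2, h1]
  have hNS : Subgroup.centralizer (N : Set G) ≤ Subgroup.centralizer (S : Set G) :=
    Subgroup.centralizer_le hSN
  set Wd := V ⊓ Subgroup.centralizer (N : Set G) with hWd
  set Zd := V ⊓ Subgroup.centralizer (S : Set G) with hZd
  -- the kernel
  let K : Subgroup G :=
    { carrier := {z | ∃ hz : z ∈ V, z ∈ Subgroup.centralizer (S : Set G) ∧ τ ⟨z, hz⟩ = 1}
      one_mem' := ⟨Subgroup.one_mem _, Subgroup.one_mem _, hτone⟩
      mul_mem' := by
        rintro a b ⟨ha, hac, hat⟩ ⟨hb, hbc, hbt⟩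
        refine ⟨Subgroup.mul_mem _ ha hb, Subgroup.mul_mem _ hac hbc, ?_⟩
        have : (⟨a * b, Subgroup.mul_mem _ ha hb⟩ : V) = ⟨a, ha⟩ * ⟨b, hb⟩ := rfl
        rw [this, hτmul, hat, hbt, one_mul]
      inv_mem' := by
        rintro a ⟨ha, hac, hat⟩
        refine ⟨Subgroup.inv_mem _ ha, Subgroup.inv_mem _ hac, ?_⟩
        have h1 : τ (⟨a, ha⟩ * ⟨a⁻¹, Subgroup.inv_mem _ ha⟩) = 1 := by
          have : (⟨a, ha⟩ * ⟨a⁻¹, Subgroup.inv_mem _ ha⟩ : V) = 1 := by
            apply Subtype.ext; simp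
          rw [this, hτone]
        rw [hτmul, hat, one_mul] at h1
        exact h1 }
  have hKZ : K ≤ Zd := by
    rintro z ⟨hz, hzc, -⟩
    exact Subgroup.mem_inf.2 ⟨hz, hzc⟩
  obtain ⟨e, he⟩ := IsPGroup.iff_card.1 hVp
  have hpowV : ∀ v : V, v ^ (p ^ e) = 1 := by
    intro v
    rw [← he]
    exact pow_card_eq_one'
  have hcop' : Nat.Coprime m (p ^ e) := Nat.Coprime.pow_right e hmcop
  refine ⟨K, hKZ, ?_, ?_⟩
  · -- `W ⊓ K = ⊥`
    rw [eq_bot_iff]
    rintro w ⟨hw, hwV, hwc, hwt⟩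
    rw [Subgroup.mem_bot]
    have hwN : w ∈ Subgroup.centralizer (N : Set G) := hw.2
    have h1 := hτW ⟨w, hwV⟩ hwN
    rw [hwt] at h1
    have h2 : (⟨w, hwV⟩ : V) ^ (m.gcd (p ^ e)) = 1 := pow_gcd_eq_one.2 ⟨h1.symm, hpowV _⟩
    rw [hcop', pow_one] at h2
    exact congrArg Subtype.val h2
  · -- `W ⊔ K = Z`
    apply le_antisymm
    · exact sup_le (inf_le_inf_left V hNS) hKZ
    · intro z hz
      have hzV : z ∈ V := hz.1
      have hzc : z ∈ Subgroup.centralizer (S : Set G) := hz.2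
      set u : V := τ ⟨z, hzV⟩ with hu
      have huN : (u : G) ∈ Subgroup.centralizer (N : Set G) := hτmemN ⟨z, hzV⟩ hzc
      -- an `m`-th root of `u`
      have hb := Nat.gcd_eq_gcd_ab m (p ^ e)
      rw [hcop'] at hb
      set a := Nat.gcdA m (p ^ e) with ha
      set b := Nat.gcdB m (p ^ e) with hb'
      set w : V := u ^ a with hw
      have hwN : (w : G) ∈ Subgroup.centralizer (N : Set G) := by
        rw [hw, Subgroup.coe_zpow]
        exact Subgroup.zpow_mem _ huN a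
      have hwm : w ^ m = u := by
        have h4 : (1 : ℤ) = (m : ℤ) * a + ((p ^ e : ℕ) : ℤ) * b := by
          have := hb
          push_cast at this ⊢
          exact this
        have h5 : u ^ ((m : ℤ) * a) = u := by
          have h6 : u ^ ((m : ℤ) * a + ((p ^ e : ℕ) : ℤ) * b) = u := by rw [← h4, zpow_one]
          rw [zpow_add, zpow_mul u ((p ^ e : ℕ) : ℤ) b, zpow_natCast, hpowV u, one_zpow, mul_one] at h6
          exact h6
        rw [hw, ← zpow_natCast, ← zpow_mul, mul_comm]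
        exact h5
      have hτw : τ w = u := by rw [hτW w hwN, hwm]
      have hwW : (w : G) ∈ Wd := Subgroup.mem_inf.2 ⟨w.2, hwN⟩
      have hzw : z * (w : G)⁻¹ ∈ K := by
        refine ⟨Subgroup.mul_mem _ hzV (Subgroup.inv_mem _ w.2),
          Subgroup.mul_mem _ hzc (Subgroup.inv_mem _ (hNS hwN)), ?_⟩
        have : (⟨z * (w : G)⁻¹, Subgroup.mul_mem _ hzV (Subgroup.inv_mem _ w.2)⟩ : V) =
            ⟨z, hzV⟩ * w⁻¹ := by
          apply Subtype.ext; simp
        rw [this, hτmul]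
        have h5 : τ w⁻¹ = (τ w)⁻¹ := by
          have h6 : τ (w * w⁻¹) = 1 := by rw [mul_inv_cancel, hτone]
          rw [hτmul] at h6
          exact eq_inv_of_mul_eq_one_right h6
        rw [h5, hτw, ← hu, mul_inv_cancel]
      have : z = (w : G) * (z * (w : G)⁻¹) := by
        have hc := hVc (w : G) w.2 (z * (w : G)⁻¹) (Subgroup.mul_mem _ hzV (Subgroup.inv_mem _ w.2))
        rw [hc]; group
      rw [this]
      exact Subgroup.mul_mem _ (Subgroup.mem_sup_left hwW) (Subgroup.mem_sup_right hzw)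

theorem result {G : Type*} [Group G] [Finite G] {p : ℕ} [Fact p.Prime] (S : Sylow p G)
    (hZ : ((S : Subgroup G) ⊓ Subgroup.centralizer ((S : Subgroup G) : Set G)) ≤ Cfsg.pPrimePCore p G) :
    ∃ W K : Subgroup G, (∀ x : G, x ∈ W ↔ (x ∈ (S : Subgroup G) ∧ ∀ g : G, g * x * g⁻¹ ∈ (S : Subgroup G) → g * x * g⁻¹ = x)) ∧
      K ≤ ((S : Subgroup G) ⊓ Subgroup.centralizer ((S : Subgroup G) : Set G)) ∧ W ⊓ K = ⊥ ∧ W ⊔ K = ((S : Subgroup G) ⊓ Subgroup.centralizer ((S : Subgroup G) : Set G)) := by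
  set L := Cfsg.pPrimePCore p G with hL
  have hLn : L.Normal := Cfsg.Agent.S1948.pPrimePCore_normal'
  set R := (S : Subgroup G) ⊓ L with hR
  set N := Subgroup.normalizer (R : Set G) with hN
  set V := R ⊓ Subgroup.centralizer (R : Set G) with hV
  set Z := (S : Subgroup G) ⊓ Subgroup.centralizer ((S : Subgroup G) : Set G) with hZdef
  have hRS : R ≤ (S : Subgroup G) := inf_le_left
  have hZR : Z ≤ R := le_inf inf_le_left hZ
  have hCSR : Subgroup.centralizer ((S : Subgroup G) : Set G) ≤ Subgroup.centralizer (R : Set G) :=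
    Subgroup.centralizer_le hRS
  have hZV : Z ≤ V := le_inf hZR (inf_le_right.trans hCSR)
  have hVZ : V ⊓ Subgroup.centralizer ((S : Subgroup G) : Set G) = Z :=
    le_antisymm (le_inf (inf_le_left.trans (inf_le_left.trans hRS)) inf_le_right)
      (le_inf hZV inf_le_right)
  have hSN : (S : Subgroup G) ≤ N := by
    intro x hx
    rw [hN, Subgroup.mem_normalizer_iff]
    intro h
    rw [hR, Subgroup.mem_inf, Subgroup.mem_inf]
    constructor
    · rintro ⟨h1, h2⟩
      exact ⟨Subgroup.mul_mem _ (Subgroup.mul_mem _ hx h1) (Subgroup.inv_mem _ hx), hLn.conj_mem h h2 x⟩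
    · rintro ⟨h1, h2⟩
      refine ⟨?_, ?_⟩
      · have := Subgroup.mul_mem _ (Subgroup.mul_mem _ (Subgroup.inv_mem _ hx) h1) hx
        simpa [mul_assoc] using this
      · have := hLn.conj_mem _ h2 x⁻¹
        simpa [mul_assoc] using this
  have hNV : N ≤ Subgroup.normalizer (V : Set G) := by
    intro n hn
    have h1 : n ∈ Subgroup.normalizer ((Subgroup.centralizer (R : Set G) : Subgroup G) : Set G) :=
      Cfsg.Agent.Lib.H7.normalizer_le_normalizer_centralizer R hn
    rw [Subgroup.mem_normalizer_iff] at hn h1 ⊢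
    intro v
    constructor
    · rintro ⟨hv1, hv2⟩
      exact Subgroup.mem_inf.2 ⟨(hn v).1 hv1, (h1 v).1 hv2⟩
    · rintro ⟨hv1, hv2⟩
      exact Subgroup.mem_inf.2 ⟨(hn v).2 hv1, (h1 v).2 hv2⟩
  have hVc : ∀ a ∈ V, ∀ b ∈ V, a * b = b * a := by
    intro a ha b hb
    exact (Subgroup.mem_centralizer_iff.1 ha.2 b hb.1).symm
  have hVp : IsPGroup p V := S.2.to_le (inf_le_left.trans hRS)
  have hidx : ¬ p ∣ (S : Subgroup G).relIndex N := not_dvd_relIndex_of_sylow_le S hSN
  obtain ⟨K, hK1, hK2, hK3⟩ := trace_split N (S : Subgroup G) V hSN hVc hNV hVp hidx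
  rw [hVZ] at hK1 hK3
  refine ⟨V ⊓ Subgroup.centralizer (N : Set G), K, ?_, hK1, hK2, hK3⟩
  intro x
  constructor
  · rintro ⟨hxV, hxN⟩
    refine ⟨hRS hxV.1, ?_⟩
    intro g hg
    have hconj : IsConj x (g * x * g⁻¹) := isConj_iff.2 ⟨g, rfl⟩
    obtain ⟨n, hn, hnx⟩ := (Cfsg.Agent.S1907.result S).2 x (g * x * g⁻¹) (hRS hxV.1) hg hconj
    rw [← hnx]
    have := Subgroup.mem_centralizer_iff.1 hxN n hn
    rw [this]; group
  · rintro ⟨hxS, hwc⟩
    have hxC : x ∈ Subgroup.centralizer ((S : Subgroup G) : Set G) := by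
      rw [Subgroup.mem_centralizer_iff]
      intro s hs
      have h1 := hwc s (Subgroup.mul_mem _ (Subgroup.mul_mem _ hs hxS) (Subgroup.inv_mem _ hs))
      have h2 : s * x = (s * x * s⁻¹) * s := by group
      rw [h2, h1]
    have hxZ : x ∈ Z := Subgroup.mem_inf.2 ⟨hxS, hxC⟩
    refine Subgroup.mem_inf.2 ⟨hZV hxZ, ?_⟩
    rw [Subgroup.mem_centralizer_iff]
    intro n hn
    have h0 : n * x * n⁻¹ ∈ R := (Subgroup.mem_normalizer_iff.1 hn x).1 (hZR hxZ)
    have h1 := hwc n (hRS h0)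
    have h2 : n * x = (n * x * n⁻¹) * n := by group
    rw [h2, h1]

end Cfsg.Agent.S1944
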