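import Cfsg.Statements.S2799
import Cfsg.Agent.Lib.H25.GlauMain
import Cfsg.Agent.Lib.H26.GroupSaturated
import Cfsg.Agent.Lib.H26.QdFreeGroup

set_option autoImplicit false
open Cfsg

namespace Cfsg.Agent.S2799

/-- Let S be a Sylow p-subgroup of the finite group G, J(S) the subgroup generated by the abelian subgroups of S of largest order, and x an element of S lying in the centre of N_G(J(S)). Assume that p is odd, or that x is a p-th power of an element of Z(S), or that the symmetric group of degree 4 is not involved in G. Then x is weakly closed in S with respect to G: every G-conjugate of x that lies in S equals x. -/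
theorem result {G : Type*} [Group G] [Finite G] {p : ℕ} [Fact p.Prime] (S : Sylow p G) (x : G) (hxS : x ∈ (S : Subgroup G)) (hxZ : x ∈ (Subgroup.center ↥(Subgroup.normalizer ((Cfsg.thompsonSubgroupAOf (S : Subgroup G)) : Set G))).map (Subgroup.normalizer ((Cfsg.thompsonSubgroupAOf (S : Subgroup G)) : Set G)).subtype) (h : p ≠ 2 ∨ (∃ z ∈ (S : Subgroup G) ⊓ Subgroup.centralizer ((S : Subgroup G) : Set G), z ^ p = x) ∨ ¬ Cfsg.Involves (Equiv.Perm (Fin 4)) G) : ∀ g : G, g * x * g⁻¹ ∈ (S : Subgroup G) → g * x * g⁻¹ = x := by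
  classical
  have hSp : IsPGroup p (S : Subgroup G) := S.2
  set F := Cfsg.groupFusionSystem (S : Subgroup G) with hFdef
  have hF : F.IsSaturated p := Cfsg.Agent.Lib.H26.groupFusionSystem_isSaturated S
  -- `x` is centralized by the normalizer of `J(S)`
  have hcomm : ∀ m ∈ Subgroup.normalizer ((Cfsg.thompsonSubgroupAOf (S : Subgroup G)) : Set G),
      m * x = x * m := by
    intro m hm
    obtain ⟨n, hn, rfl⟩ := hxZ
    have := Subgroup.mem_center_iff.1 hn ⟨m, hm⟩
    exact congrArg Subtype.val this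
  have hSN : (S : Subgroup G) ≤
      Subgroup.normalizer ((Cfsg.thompsonSubgroupAOf (S : Subgroup G)) : Set G) :=
    Subgroup.le_normalizer.trans
      ((Cfsg.Agent.Lib.H26.Gen.jFun p).normalizer_le (S : Subgroup G) inferInstance hSp)
  have hxc : x ∈ (S : Subgroup G) ⊓ Subgroup.centralizer ((S : Subgroup G) : Set G) := by
    refine ⟨hxS, ?_⟩
    show x ∈ Subgroup.centralizer ((S : Subgroup G) : Set G)
    rw [Subgroup.mem_centralizer_iff]
    intro s hs
    exact hcomm s (hSN hs)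
  have hZ : Subgroup.zpowers x ≤
      (S : Subgroup G) ⊓ Subgroup.centralizer ((S : Subgroup G) : Set G) := by
    rw [Subgroup.zpowers_le]; exact hxc
  have hZJ : Subgroup.zpowers x ≤ Cfsg.thompsonSubgroupAOf (S : Subgroup G) :=
    hZ.trans (Cfsg.Agent.Lib.H25.Glau.jFun_center_le (p := p) (S : Subgroup G) inferInstance)
  have hfix : ∀ f : G → G, Cfsg.Agent.Lib.H25.IsIso F (Cfsg.thompsonSubgroupAOf (S : Subgroup G))
      (Cfsg.thompsonSubgroupAOf (S : Subgroup G)) f → ∀ z ∈ Subgroup.zpowers x, f z = z := by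
    intro f hf z hz
    obtain ⟨φ, hφ, hφf, hr⟩ := hf
    obtain ⟨-, -, g, hg⟩ := Cfsg.Agent.Lib.H26.mem_groupFusionSystem_hom.1 hφ
    have hgN : g ∈ Subgroup.normalizer ((Cfsg.thompsonSubgroupAOf (S : Subgroup G)) : Set G) := by
      apply Cfsg.Agent.Lib.H14.SFour.mem_nzr_of_conj_mem_finite
      intro y hy
      have h2 : φ ⟨y, hy⟩ ∈ φ.range := ⟨_, rfl⟩
      rw [hr, hg] at h2
      exact h2
    have h1 : Commute g x := hcomm g hgN
    obtain ⟨k, rfl⟩ := Subgroup.mem_zpowers_iff.1 hz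
    have hzJ : x ^ k ∈ Cfsg.thompsonSubgroupAOf (S : Subgroup G) :=
      hZJ (Subgroup.zpow_mem _ (Subgroup.mem_zpowers x) k)
    rw [← hφf ⟨x ^ k, hzJ⟩, hg]
    show g * x ^ k * g⁻¹ = x ^ k
    rw [(h1.zpow_right k).eq, mul_inv_cancel_right]
  have hFix : Cfsg.Agent.Lib.H26.Ctl.FixZ F (Subgroup.zpowers x) := by
    rcases h with h | h | h
    · exact Cfsg.Agent.Lib.H25.GlauF.fixZ_of_fr hSp F hF (Or.inl h) _ hZ hfix
    · apply Cfsg.Agent.Lib.H25.GlauF.fixZ_of_pow hSp F hF _ _ hfix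
      obtain ⟨z₀, hz₀, hz₀x⟩ := h
      intro z hz
      obtain ⟨k, rfl⟩ := Subgroup.mem_zpowers_iff.1 hz
      refine ⟨z₀ ^ k, Subgroup.zpow_mem _ hz₀ k, ?_⟩
      rw [← hz₀x, ← zpow_natCast, ← zpow_natCast, ← zpow_mul, ← zpow_mul, mul_comm]
    · exact Cfsg.Agent.Lib.H25.GlauF.fixZ_of_fr hSp F hF
        (Or.inr (Cfsg.Agent.Lib.H26.QdFree.groupFusionSystem_isSectionFree S h)) _ hZ hfix
  intro g hgx
  have hZS : Subgroup.zpowers x ≤ (S : Subgroup G) := hZ.trans inf_le_left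
  have hcj : Cfsg.Agent.Lib.H26.cj g (Subgroup.zpowers x) ≤ (S : Subgroup G) := by
    rintro _ ⟨y, hy, rfl⟩
    obtain ⟨k, rfl⟩ := Subgroup.mem_zpowers_iff.1 hy
    show g * x ^ k * g⁻¹ ∈ (S : Subgroup G)
    have e : g * x ^ k * g⁻¹ = (g * x * g⁻¹) ^ k := by
      have := map_zpow (MulAut.conj g) x k
      simpa [MulAut.conj_apply] using this
    rw [e]
    exact Subgroup.zpow_mem _ hgx k
  have hφ := Cfsg.Agent.Lib.H26.conjHom_mem_groupFusionSystem hZS hcj
  have hiso := Cfsg.Agent.Lib.H25.isIso_of_mem F hφ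
  have h1 := hFix _ _ _ hiso x (Subgroup.mem_zpowers x) (Subgroup.mem_zpowers x)
  rw [Cfsg.Agent.Lib.H25.ext1_apply_mem _ (Subgroup.mem_zpowers x)] at h1
  exact h1

end Cfsg.Agent.S2799
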