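import Cfsg.Statements.S1945
import Cfsg.Agent.S1944
import Cfsg.Agent.S2799
import Cfsg.Agent.S0629
import Cfsg.Agent.Lib.H1.PSolvOfSolv
import Cfsg.Agent.Lib.H14.NPCG2
import Cfsg.Agent.Lib.H4.PStable

set_option autoImplicit false
set_option linter.style.haveILetI false
open Cfsg

namespace Cfsg.Agent.S1945

/-- Solvable case: `Z(S) ≤ O_{p',p}(G)`. -/
theorem center_le_pPrimePCore_of_solvable {G : Type*} [Group G] [Finite G] {p : ℕ} [Fact p.Prime]
    (S : Sylow p G) (hsol : Group.IsSolvable G) :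
    ((S : Subgroup G) ⊓ Subgroup.centralizer ((S : Subgroup G) : Set G)) ≤ Cfsg.pPrimePCore p G := by
  classical
  -- a Sylow `p`-subgroup of `O_{p',p}(G)`
  obtain ⟨P⟩ : Nonempty (Sylow p ↥(Cfsg.pPrimePCore p G)) := inferInstance
  set P' : Subgroup G := (P : Subgroup ↥(Cfsg.pPrimePCore p G)).map (Cfsg.pPrimePCore p G).subtype
    with hP'
  have hsolC : Cfsg.IsPSolvable p ↥(Subgroup.centralizer (P' : Set G)) := by
    haveI : Group.IsSolvable ↥(Subgroup.centralizer (P' : Set G)) :=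
      Group.isSolvable_of_isSolvable_injective (Subgroup.centralizer (P' : Set G)).subtype_injective
    exact Cfsg.Agent.Lib.H1.PSolvOfSolv.isPSolvable_of_isSolvable p _
  have hcon : Cfsg.IsPConstrained p G := Cfsg.Agent.S0629.result P hsolC
  have hC : Subgroup.centralizer (P' : Set G) ≤ Cfsg.pPrimePCore p G := hcon P
  -- `P'` is a `p`-subgroup of `G`, contained in a conjugate of `S`
  have hP'p : IsPGroup p P' := P.2.map _
  obtain ⟨Q, hQ⟩ := hP'p.exists_le_sylow
  obtain ⟨g, hg⟩ := MulAction.exists_smul_eq G S Q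
  haveI hnorm : (Cfsg.pPrimePCore p G).Normal := Cfsg.Agent.Lib.H9.pPrimePCore_normal p G
  intro z hz
  obtain ⟨hzS, hzC⟩ := Subgroup.mem_inf.mp hz
  -- `g z g⁻¹` centralizes `g S g⁻¹ ⊇ P'`
  have h1 : g * z * g⁻¹ ∈ Subgroup.centralizer (P' : Set G) := by
    rw [Subgroup.mem_centralizer_iff]
    intro y hy
    have hyQ : y ∈ (Q : Subgroup G) := hQ hy
    rw [← hg, Sylow.coe_subgroup_smul, Subgroup.mem_pointwise_smul_iff_inv_smul_mem] at hyQ
    have hyS : g⁻¹ * y * g ∈ (S : Subgroup G) := by simpa [MulAut.smul_def] using hyQ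
    have hcomm := (Subgroup.mem_centralizer_iff.mp hzC) _ hyS
    -- (g⁻¹ y g) z = z (g⁻¹ y g)
    calc y * (g * z * g⁻¹) = g * ((g⁻¹ * y * g) * z) * g⁻¹ := by group
      _ = g * (z * (g⁻¹ * y * g)) * g⁻¹ := by rw [hcomm]
      _ = g * z * g⁻¹ * y := by group
  have h2 : g * z * g⁻¹ ∈ Cfsg.pPrimePCore p G := hC h1
  have h3 := hnorm.conj_mem _ h2 g⁻¹
  simpa [mul_assoc] using h3

theorem result {G : Type*} [Group G] [Finite G] {p : ℕ} [Fact p.Prime] (S : Sylow p G) (h : p ≠ 2 ∨ Group.IsSolvable G) :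
    ∃ W K : Subgroup G, (∀ x : G, x ∈ W ↔ (x ∈ (S : Subgroup G) ∧ ∀ g : G, g * x * g⁻¹ ∈ (S : Subgroup G) → g * x * g⁻¹ = x)) ∧
      K ≤ ((S : Subgroup G) ⊓ Subgroup.centralizer ((S : Subgroup G) : Set G)) ∧ W ⊓ K = ⊥ ∧ W ⊔ K = ((S : Subgroup G) ⊓ Subgroup.centralizer ((S : Subgroup G) : Set G)) := by
  classical
  rcases h with hp2 | hsol
  · -- `p` odd: work inside `N = N_G(J(S))`
    set J : Subgroup G := Cfsg.thompsonSubgroupAOf (S : Subgroup G) with hJ
    set N : Subgroup G := Subgroup.normalizer (J : Set G) with hN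
    have hSN : (S : Subgroup G) ≤ N :=
      Subgroup.le_normalizer.trans
        (Cfsg.Agent.Lib.H14.NPCG.normalizer_le_normalizer_thompsonSubgroupAOf _)
    have hJS : J ≤ (S : Subgroup G) := Cfsg.Agent.Lib.H14.NPCG.thompsonSubgroupAOf_le _
    have hZJ : Cfsg.Agent.Lib.L0.zOf (S : Subgroup G) ≤ J :=
      (Cfsg.Agent.Lib.L0.zOf_le_centerThompsonAOf _).trans
        (Cfsg.Agent.Lib.H14.NPCG.centerThompsonAOf_le_thompsonSubgroupAOf _)
    set SN : Sylow p ↥N := S.subtype hSN with hSNdef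
    have hmemSN : ∀ n : ↥N, n ∈ (SN : Subgroup ↥N) ↔ (n : G) ∈ (S : Subgroup G) := by
      intro n
      rw [hSNdef, Sylow.coe_subtype, Subgroup.mem_subgroupOf]
    have hJN : (J.subgroupOf N).Normal := Subgroup.normal_in_normalizer
    have hJNp : IsPGroup p ↥(J.subgroupOf N) := (S.2.to_le hJS).comap_subtype
    have hJcore : J.subgroupOf N ≤ Cfsg.pPrimePCore p ↥N :=
      (Cfsg.Agent.Lib.H1.le_pCore hJN hJNp).trans
        (Cfsg.Agent.Lib.H4.PStable.pCore_le_pPrimePCore p)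
    -- centre of `SN` versus centre of `S`
    have hcen : ∀ n : ↥N, n ∈ ((SN : Subgroup ↥N) ⊓ Subgroup.centralizer ((SN : Subgroup ↥N) : Set ↥N)) ↔
        (n : G) ∈ ((S : Subgroup G) ⊓ Subgroup.centralizer ((S : Subgroup G) : Set G)) := by
      intro n
      rw [Subgroup.mem_inf, Subgroup.mem_inf, hmemSN, Subgroup.mem_centralizer_iff,
        Subgroup.mem_centralizer_iff]
      constructor
      · rintro ⟨h1, h2⟩
        refine ⟨h1, fun s hs => ?_⟩
        have := h2 ⟨s, hSN hs⟩ ((hmemSN _).mpr hs)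
        exact congrArg Subtype.val this
      · rintro ⟨h1, h2⟩
        refine ⟨h1, fun m hm => ?_⟩
        exact Subtype.ext (h2 _ ((hmemSN m).mp hm))
    have hZ : ((SN : Subgroup ↥N) ⊓ Subgroup.centralizer ((SN : Subgroup ↥N) : Set ↥N)) ≤
        Cfsg.pPrimePCore p ↥N := by
      intro n hn
      apply hJcore
      rw [Subgroup.mem_subgroupOf]
      exact hZJ ((hcen n).mp hn)
    obtain ⟨WN, KN, hW, hK, hinf, hsup⟩ := Cfsg.Agent.S1944.result SN hZ
    have hmapcen : ((SN : Subgroup ↥N) ⊓ Subgroup.centralizer ((SN : Subgroup ↥N) : Set ↥N)).map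
        N.subtype = ((S : Subgroup G) ⊓ Subgroup.centralizer ((S : Subgroup G) : Set G)) := by
      ext x
      constructor
      · rintro ⟨n, hn, rfl⟩
        exact (hcen n).mp hn
      · intro hx
        have hxS : x ∈ (S : Subgroup G) := (Subgroup.mem_inf.mp hx).1
        exact ⟨⟨x, hSN hxS⟩, (hcen _).mpr hx, rfl⟩
    refine ⟨WN.map N.subtype, KN.map N.subtype, ?_, ?_, ?_, ?_⟩
    · intro x
      constructor
      · rintro ⟨n, hn, rfl⟩
        obtain ⟨hnS, hnw⟩ := (hW n).mp hn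
        have hxS : (n : G) ∈ (S : Subgroup G) := (hmemSN n).mp hnS
        refine ⟨hxS, ?_⟩
        have hxZ : (n : G) ∈ Cfsg.Agent.Lib.L0.zOf (S : Subgroup G) := by
          rw [Cfsg.Agent.Lib.L0.mem_zOf]
          refine ⟨hxS, fun s hs => ?_⟩
          have h1 := hnw ⟨s, hSN hs⟩ ((hmemSN _).mpr
            ((S : Subgroup G).mul_mem ((S : Subgroup G).mul_mem hs hxS)
              ((S : Subgroup G).inv_mem hs)))
          have h2 : s * (n : G) * s⁻¹ = (n : G) := congrArg Subtype.val h1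
          exact mul_inv_eq_iff_eq_mul.mp h2
        have hxJ : (n : G) ∈ J := hZJ hxZ
        have hxc : ∀ m : ↥N, m * n = n * m := by
          intro m
          have hmJ : (m : G) * n * (m : G)⁻¹ ∈ J :=
            (Subgroup.mem_normalizer_iff.mp m.2 _).mp hxJ
          have h1 := hnw m ((hmemSN _).mpr (hJS hmJ))
          exact mul_inv_eq_iff_eq_mul.mp h1
        apply Cfsg.Agent.S2799.result S (n : G) hxS ?_ (Or.inl hp2)
        exact ⟨n, Subgroup.mem_center_iff.mpr (fun m => hxc m), rfl⟩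
      · rintro ⟨hxS, hxw⟩
        refine ⟨⟨x, hSN hxS⟩, (hW _).mpr ⟨(hmemSN _).mpr hxS, fun m hm => ?_⟩, rfl⟩
        have hm' : (m : G) * x * (m : G)⁻¹ ∈ (S : Subgroup G) := (hmemSN _).mp hm
        exact Subtype.ext (hxw m hm')
    · rintro x ⟨k, hk, rfl⟩
      exact (hcen k).mp (hK hk)
    · rw [← Subgroup.map_inf _ _ _ N.subtype_injective, hinf, Subgroup.map_bot]
    · rw [← Subgroup.map_sup, hsup, hmapcen]
  · exact Cfsg.Agent.S1944.result S (center_le_pPrimePCore_of_solvable S hsol)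

end Cfsg.Agent.S1945
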