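import Cfsg.Statements.S1946
import Cfsg.Agent.Lib.H26.SmallExponent
import Cfsg.Agent.Lib.L0.FrobeniusPC

set_option autoImplicit false
open Cfsg
open scoped commutatorElement Pointwise

namespace Cfsg.Agent.S1946

open Cfsg.Agent.Lib

/-- the forward direction: a normal `p`-complement forces control of fusion -/
theorem forward {G : Type*} [Group G] [Finite G] {p : ℕ} [Fact p.Prime] (P : Sylow p G)
    (h : Cfsg.HasNormalPComplement p G) (a : G) (ha : a ∈ (P : Subgroup G)) (g : G)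
    (hg : g * a * g⁻¹ ∈ (P : Subgroup G)) :
    ∃ x ∈ (P : Subgroup G), g * a * g⁻¹ = x * a * x⁻¹ := by
  obtain ⟨P₀, N, hN, hc⟩ := h
  have hcard : Nat.card (P : Subgroup G) = Nat.card (P₀ : Subgroup G) := by
    rw [Sylow.card_eq_multiplicity, Sylow.card_eq_multiplicity]
  have h1 := hc.card_mul_card
  rw [← hcard] at h1
  have hidx : (P : Subgroup G).index = Nat.card N := by
    have h2 := (P : Subgroup G).card_mul_index
    have hpos : 0 < Nat.card (P : Subgroup G) := Nat.card_pos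
    rw [← h1, mul_comm] at h2
    exact Nat.eq_of_mul_eq_mul_right hpos h2
  have hcop : (Nat.card N).Coprime (Nat.card (P : Subgroup G)) := by
    rw [← hidx]
    exact (Sylow.card_coprime_index P).symm
  have hc' : N.IsComplement' (P : Subgroup G) := Subgroup.isComplement'_of_coprime h1 hcop
  have hdisj := hc'.disjoint
  obtain ⟨⟨n, x⟩, hnx, -⟩ := hc'.existsUnique g
  simp only at hnx
  refine ⟨x, x.2, ?_⟩
  have hb : (x : G) * a * (x : G)⁻¹ ∈ (P : Subgroup G) :=
    Subgroup.mul_mem _ (Subgroup.mul_mem _ x.2 ha) (Subgroup.inv_mem _ x.2)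
  have hg' : g * a * g⁻¹ = (n : G) * ((x : G) * a * (x : G)⁻¹) * (n : G)⁻¹ := by
    rw [← hnx]; group
  have hcomm : (n : G) * ((x : G) * a * (x : G)⁻¹) * (n : G)⁻¹ * ((x : G) * a * (x : G)⁻¹)⁻¹ = 1 := by
    apply Subgroup.disjoint_def.1 hdisj
    · have : (n : G) * ((x : G) * a * (x : G)⁻¹) * (n : G)⁻¹ * ((x : G) * a * (x : G)⁻¹)⁻¹ =
          (n : G) * (((x : G) * a * (x : G)⁻¹) * (n : G)⁻¹ * ((x : G) * a * (x : G)⁻¹)⁻¹) := by group
      rw [this]
      exact Subgroup.mul_mem _ n.2 (hN.conj_mem _ (Subgroup.inv_mem _ n.2) _)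
    · rw [← hg']
      exact Subgroup.mul_mem _ hg (Subgroup.inv_mem _ hb)
  rw [hg']
  exact mul_inv_eq_one.1 hcomm

/-- the fusion hypothesis passes to every Sylow `p`-subgroup -/
theorem hyp_conj {G : Type*} [Group G] [Finite G] {p : ℕ} [Fact p.Prime] (P : Sylow p G)
    (h : ∀ a ∈ (P : Subgroup G), (a ^ p = 1 ∨ (p = 2 ∧ a ^ 4 = 1)) → ∀ g : G,
      g * a * g⁻¹ ∈ (P : Subgroup G) → ∃ x ∈ (P : Subgroup G), g * a * g⁻¹ = x * a * x⁻¹)
    (P' : Sylow p G) :
    ∀ a ∈ (P' : Subgroup G), (a ^ p = 1 ∨ (p = 2 ∧ a ^ 4 = 1)) → ∀ g : G,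
      g * a * g⁻¹ ∈ (P' : Subgroup G) → ∃ x ∈ (P' : Subgroup G), g * a * g⁻¹ = x * a * x⁻¹ := by
  obtain ⟨y, hy⟩ := MulAction.exists_smul_eq G P P'
  have hmem : ∀ z : G, z ∈ (P' : Subgroup G) ↔ y⁻¹ * z * y ∈ (P : Subgroup G) := by
    intro z
    rw [← hy, Sylow.coe_subgroup_smul, Subgroup.mem_pointwise_smul_iff_inv_smul_mem]
    simp [MulAut.smul_def, mul_assoc]
  intro a ha hsmall g hg
  have ha' := (hmem a).1 ha
  have hsmall' : ((y⁻¹ * a * y) ^ p = 1 ∨ (p = 2 ∧ (y⁻¹ * a * y) ^ 4 = 1)) := by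
    have e : ∀ k : ℕ, (y⁻¹ * a * y) ^ k = y⁻¹ * a ^ k * y := by
      intro k
      have := conj_pow (a := y⁻¹) (b := a) (i := k)
      simpa using this
    rcases hsmall with h1 | ⟨h2, h1⟩
    · left; rw [e, h1]; group
    · right; refine ⟨h2, ?_⟩; rw [e, h1]; group
  have hg' : (y⁻¹ * g * y) * (y⁻¹ * a * y) * (y⁻¹ * g * y)⁻¹ ∈ (P : Subgroup G) := by
    have := (hmem _).1 hg
    have e : (y⁻¹ * g * y) * (y⁻¹ * a * y) * (y⁻¹ * g * y)⁻¹ = y⁻¹ * (g * a * g⁻¹) * y := by group
    rw [e]; exact this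
  obtain ⟨x, hx, hxe⟩ := h _ ha' hsmall' _ hg'
  refine ⟨y * x * y⁻¹, ?_, ?_⟩
  · rw [hmem]
    have e : y⁻¹ * (y * x * y⁻¹) * y = x := by group
    rw [e]; exact hx
  · have e1 : g * a * g⁻¹ = y * ((y⁻¹ * g * y) * (y⁻¹ * a * y) * (y⁻¹ * g * y)⁻¹) * y⁻¹ := by group
    rw [e1, hxe]; group

/-- Let P be a Sylow p-subgroup of the finite group G. Then G has a normal p-complement if and only if P controls the fusion of its elements of order dividing p (dividing 4 when p = 2): whenever such an element a of P has a G-conjugate g a g⁻¹ in P, that conjugate is already x a x⁻¹ for some x in P. -/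
theorem result {G : Type*} [Group G] [Finite G] {p : ℕ} [Fact p.Prime] (P : Sylow p G) :
    Cfsg.HasNormalPComplement p G ↔
      ∀ a ∈ (P : Subgroup G), (a ^ p = 1 ∨ (p = 2 ∧ a ^ 4 = 1)) → ∀ g : G, g * a * g⁻¹ ∈ (P : Subgroup G) →
        ∃ x ∈ (P : Subgroup G), g * a * g⁻¹ = x * a * x⁻¹ := by
  constructor
  · intro h a ha _ g hg
    exact forward P h a ha g hg
  intro h
  apply L0.hasNormalPComplement_of_frobHyp
  intro Q hQ g hg hgp
  by_contra hcon
  obtain ⟨P', hQP'⟩ := hQ.exists_le_sylow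
  have hP' := hyp_conj P h P'
  have hinv : ∀ x ∈ Q, (MulAut.conj g) x ∈ Q := fun x hx => by
    simpa using (Subgroup.mem_normalizer_iff.1 hg x).1 hx
  have ha : (orderOf (H26.restrictAut (MulAut.conj g) Q hinv)).Coprime p :=
    Nat.Coprime.coprime_dvd_left ((H26.orderOf_restrictAut_dvd _ _ _).trans
      (orderOf_map_dvd (MulAut.conj : G →* MulAut G) g)) hgp
  have hne : H26.restrictAut (MulAut.conj g) Q hinv ≠ 1 := by
    intro h1
    apply hcon
    rw [Subgroup.mem_centralizer_iff]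
    intro x hx
    have h2 := congrArg (fun f : MulAut Q => ((f ⟨x, hx⟩ : Q) : G)) h1
    simp only [H26.restrictAut_apply, MulAut.conj_apply, MulAut.one_apply] at h2
    have h3 : g * x = (g * x * g⁻¹) * g := by group
    rw [h3, h2]
  obtain ⟨R, hRinv, ⟨x₀, hx₀R, hx₀⟩, hRsmall, hRgen⟩ := H26.exists_minimal_invariant hQ _ ha hne
  have hRP' : R.map Q.subtype ≤ (P' : Subgroup G) :=
    (Subgroup.map_subtype_le R).trans hQP'
  have hchain : ∀ k : ℕ, R.map Q.subtype ≤ (P' : Subgroup G).lowerCentralSeries k := by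
    intro k
    induction k with
    | zero => exact hRP'
    | succ k ih =>
      refine (Subgroup.map_mono hRgen).trans ?_
      rw [MonoidHom.map_closure, Subgroup.closure_le]
      rintro _ ⟨_, ⟨x, hxR, rfl⟩, rfl⟩
      have hxG : (x : G) ∈ R.map Q.subtype := ⟨x, hxR, rfl⟩
      have hxs : ((x : G) ^ p = 1 ∨ (p = 2 ∧ (x : G) ^ 4 = 1)) := by
        rcases hRsmall x hxR with hx | ⟨h2, hx⟩
        · left
          have := congrArg Subtype.val hx
          simpa using this
        · right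
          refine ⟨h2, ?_⟩
          have := congrArg Subtype.val hx
          simpa using this
      have hgx : g * (x : G) * g⁻¹ ∈ (P' : Subgroup G) := hQP' (by simpa using hinv x x.2)
      obtain ⟨u, hu, hue⟩ := hP' (x : G) (hRP' hxG) hxs g hgx
      have e : Q.subtype (x⁻¹ * (H26.restrictAut (MulAut.conj g) Q hinv) x) = ⁅(x : G)⁻¹, u⁆ := by
        rw [map_mul, map_inv]
        simp only [Subgroup.coe_subtype, H26.restrictAut_apply, MulAut.conj_apply]
        rw [hue, commutatorElement_def]; group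
      rw [SetLike.mem_coe, e, Subgroup.lowerCentralSeries_succ]
      exact Subgroup.commutator_mem_commutator (ih (Subgroup.inv_mem _ hxG)) hu
  have hnil : Group.IsNilpotent (P' : Subgroup G) := P'.2.isNilpotent
  obtain ⟨k, hk⟩ := (Subgroup.isNilpotent_iff_lowerCentralSeries _).1 hnil
  have hbot := hchain k
  rw [hk, le_bot_iff, Subgroup.map_eq_bot_iff_of_injective _ (Subgroup.subtype_injective Q)] at hbot
  rw [hbot, Subgroup.mem_bot] at hx₀R
  apply hx₀
  rw [hx₀R, map_one]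

end Cfsg.Agent.S1946
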