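import Cfsg.Statements.S1947
import Cfsg.Agent.Lib.H26.SmallExponent
import Cfsg.Agent.Lib.L0.FrobeniusPC

set_option autoImplicit false
open Cfsg
open scoped commutatorElement

namespace Cfsg.Agent.S1947

open Cfsg.Agent.Lib

/-- A `p'`-element normalizing the `p`-subgroup `Q` centralizes `Q ∩ Z_n(G)`. -/
theorem fix_of_mem_upperCentralSeries {G : Type*} [Group G] [Finite G] {p : ℕ} [Fact p.Prime]
    (Q : Subgroup G) (hQ : IsPGroup p Q) (g : G) (hg : g ∈ Subgroup.normalizer (Q : Set G))
    (hgp : (orderOf g).Coprime p) :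
    ∀ n : ℕ, ∀ x ∈ Q, x ∈ Subgroup.upperCentralSeries G n → g * x * g⁻¹ = x := by
  have ha : (orderOf (MulAut.conj g)).Coprime p :=
    Nat.Coprime.coprime_dvd_left (orderOf_map_dvd (MulAut.conj : G →* MulAut G) g) hgp
  intro n
  induction n with
  | zero =>
    intro x _ hx
    rw [Subgroup.upperCentralSeries_zero, Subgroup.mem_bot] at hx
    subst hx; simp
  | succ n ih =>
    intro x hxQ hx
    have hgx : g * x * g⁻¹ ∈ Q := (Subgroup.mem_normalizer_iff.1 hg x).1 hxQ
    have hcQ : x⁻¹ * (g * x * g⁻¹) ∈ Q := Q.mul_mem (Q.inv_mem hxQ) hgx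
    have hcZ : x⁻¹ * (g * x * g⁻¹) ∈ Subgroup.upperCentralSeries G n := by
      have := Subgroup.mem_upperCentralSeries_succ_iff.1 (Subgroup.inv_mem _ hx) g
      rw [commutatorElement_def, inv_inv] at this
      have e : x⁻¹ * (g * x * g⁻¹) = x⁻¹ * g * x * g⁻¹ := by group
      rw [e]; exact this
    have hfix := ih _ hcQ hcZ
    obtain ⟨k, hk⟩ := hQ ⟨_, hcQ⟩
    have hk' : (x⁻¹ * (g * x * g⁻¹)) ^ (p ^ k) = 1 := by
      have := congrArg Subtype.val hk
      simpa using this
    have := H26.fix_of_fixes_comm (MulAut.conj g) ha x ⟨k, by simpa using hk'⟩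
      (by simpa using hfix)
    simpa using this

/-- Let G be a finite group and p a prime. If every element of G of order dividing p (dividing 4 when p = 2) lies in some fixed term Z_n(G) of the upper central series, then G has a normal p-complement. -/
theorem result {G : Type*} [Group G] [Finite G] {p : ℕ} [Fact p.Prime] (n : ℕ)
    (h : ∀ a : G, (a ^ p = 1 ∨ (p = 2 ∧ a ^ 4 = 1)) → a ∈ Subgroup.upperCentralSeries G n) : Cfsg.HasNormalPComplement p G := by
  apply L0.hasNormalPComplement_of_frobHyp
  intro Q hQ g hg hgp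
  have hinv : ∀ x ∈ Q, (MulAut.conj g) x ∈ Q := fun x hx => by
    simpa using (Subgroup.mem_normalizer_iff.1 hg x).1 hx
  have ha : (orderOf (H26.restrictAut (MulAut.conj g) Q hinv)).Coprime p :=
    Nat.Coprime.coprime_dvd_left ((H26.orderOf_restrictAut_dvd _ _ _).trans
      (orderOf_map_dvd (MulAut.conj : G →* MulAut G) g)) hgp
  have h1 : H26.restrictAut (MulAut.conj g) Q hinv = 1 := by
    apply H26.aut_eq_one_of_fix_small hQ _ ha
    intro x hx
    have hxs : ((x : G) ^ p = 1 ∨ (p = 2 ∧ (x : G) ^ 4 = 1)) := by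
      rcases hx with hx | ⟨h2, hx⟩
      · left
        have := congrArg Subtype.val hx
        simpa using this
      · right
        refine ⟨h2, ?_⟩
        have := congrArg Subtype.val hx
        simpa using this
    have := fix_of_mem_upperCentralSeries Q hQ g hg hgp n x x.2 (h x hxs)
    apply Subtype.ext
    rw [H26.restrictAut_apply]
    simpa using this
  rw [Subgroup.mem_centralizer_iff]
  intro x hx
  have h2 := congrArg (fun f : MulAut Q => ((f ⟨x, hx⟩ : Q) : G)) h1
  simp only [H26.restrictAut_apply, MulAut.conj_apply, MulAut.one_apply] at h2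
  have h3 : g * x = (g * x * g⁻¹) * g := by group
  rw [h3, h2]

end Cfsg.Agent.S1947
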