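import Cfsg.Statements.S1949
import Cfsg.Agent.Lib.H26.SmallExponent
import Cfsg.Agent.Lib.H10.PResidual

set_option autoImplicit false
open Cfsg
open scoped commutatorElement

namespace Cfsg.Agent.S1949

open Cfsg.Agent.Lib

variable {P : Type*} [Group P] [Finite P] {p : ℕ} [hp : Fact p.Prime]

/-- smallness of an element -/
def Small (p : ℕ) (x : P) : Prop := x ^ p = 1 ∨ (p = 2 ∧ x ^ 4 = 1)

omit [Finite P] hp in
theorem small_map (α : MulAut P) {x : P} (h : Small p x) : Small p (α x) := by
  rcases h with h | ⟨h2, h⟩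
  · left; rw [← map_pow, h, map_one]
  · right; refine ⟨h2, ?_⟩; rw [← map_pow, h, map_one]

omit [Finite P] hp in
theorem small_inv {x : P} (h : Small p x) : Small p x⁻¹ := by
  rcases h with h | ⟨h2, h⟩
  · left; rw [inv_pow, h, inv_one]
  · right; refine ⟨h2, ?_⟩; rw [inv_pow, h, inv_one]

/-- the small elements of a critical subgroup form a subgroup -/
theorem small_mul (hP : IsPGroup p P) (C : Subgroup P)
    (h1 : (frattini C).map C.subtype ≤ Subgroup.centralizer (C : Set P))
    (h2 : ⁅C, (⊤ : Subgroup P)⁆ ≤ C ⊓ Subgroup.centralizer (C : Set P))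
    {x y : P} (hx : x ∈ C) (hy : y ∈ C) (hxs : Small p x) (hys : Small p y) : Small p (x * y) := by
  set c := y⁻¹ * x⁻¹ * y * x with hc
  have hcC : c ∈ Subgroup.centralizer (C : Set P) := by
    have : c = ⁅y⁻¹, x⁻¹⁆ := by rw [hc, commutatorElement_def]; group
    rw [this]
    exact (h2 (Subgroup.commutator_mem_commutator (Subgroup.inv_mem _ hy) (Subgroup.mem_top _))).2
  have h : y * x = x * y * c := by rw [hc]; group
  have hcx : Commute c x := (Subgroup.mem_centralizer_iff.1 hcC x hx).symm
  have hcy : Commute c y := (Subgroup.mem_centralizer_iff.1 hcC y hy).symm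
  by_cases hp2 : p = 2
  · right
    refine ⟨hp2, ?_⟩
    have hx4 : x ^ 4 = 1 := by
      rcases hxs with h | ⟨_, h⟩
      · rw [hp2] at h
        have : x ^ 4 = (x ^ 2) ^ 2 := by rw [← pow_mul]
        rw [this, h, one_pow]
      · exact h
    have hy4 : y ^ 4 = 1 := by
      rcases hys with h | ⟨_, h⟩
      · rw [hp2] at h
        have : y ^ 4 = (y ^ 2) ^ 2 := by rw [← pow_mul]
        rw [this, h, one_pow]
      · exact h
    have hy2 : Commute (y ^ 2) x := by
      have hCp : IsPGroup p C := hP.to_subgroup C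
      have := H1.isPGroup_pow_mem_frattini hCp (⟨y, hy⟩ : C)
      have h3 : y ^ p ∈ (frattini C).map C.subtype := ⟨_, this, by simp⟩
      rw [hp2] at h3
      exact (Subgroup.mem_centralizer_iff.1 (h1 h3) x hx).symm
    have hc2 : c ^ 2 = 1 := H16.pow_eq_one_of_pow_commute h hcy hy2
    rw [H16.mul_pow_of_central h hcx hcy 4, hx4, hy4, one_mul, one_mul]
    have : 4 * (4 - 1) / 2 = 2 * 3 := by norm_num
    rw [this, pow_mul, hc2, one_pow]
  · left
    have hx' : x ^ p = 1 := by
      rcases hxs with h | ⟨h, _⟩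
      · exact h
      · exact absurd h hp2
    have hy' : y ^ p = 1 := by
      rcases hys with h | ⟨h, _⟩
      · exact h
      · exact absurd h hp2
    exact H16.mul_pow_eq_one_of_central h hcx hcy (hp.out.odd_of_ne_two hp2) hx' hy'

/-- the subgroup of small elements of `C` -/
def smallSub (hP : IsPGroup p P) (C : Subgroup P)
    (h1 : (frattini C).map C.subtype ≤ Subgroup.centralizer (C : Set P))
    (h2 : ⁅C, (⊤ : Subgroup P)⁆ ≤ C ⊓ Subgroup.centralizer (C : Set P)) : Subgroup P where
  carrier := {x | x ∈ C ∧ Small p x}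
  one_mem' := ⟨Subgroup.one_mem _, Or.inl (one_pow _)⟩
  mul_mem' := fun hx hy =>
    ⟨Subgroup.mul_mem _ hx.1 hy.1, small_mul hP C h1 h2 hx.1 hy.1 hx.2 hy.2⟩
  inv_mem' := fun hx => ⟨Subgroup.inv_mem _ hx.1, small_inv hx.2⟩


omit [Finite P] hp in
/-- an element of `D` commuting with the maximal abelian subgroup `A` of `D` lies in `A` -/
theorem mem_of_commute_maximal (D A : Subgroup P) (hAD : A ≤ D) (hAc : IsMulCommutative ↥A)
    (hmax : ∀ B : Subgroup P, A ≤ B → B ≤ D → IsMulCommutative ↥B → B = A)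
    {c : P} (hcD : c ∈ D) (hc : ∀ a ∈ A, c * a = a * c) : c ∈ A := by
  have hAA : A ≤ Subgroup.centralizer (A : Set P) := by
    intro a ha
    rw [Subgroup.mem_centralizer_iff]
    intro b hb
    have := hAc.is_comm.comm (⟨b, hb⟩ : A) ⟨a, ha⟩
    exact congrArg Subtype.val this
  have hcA : Subgroup.zpowers c ≤ Subgroup.centralizer (A : Set P) := by
    rw [Subgroup.zpowers_le, Subgroup.mem_centralizer_iff]
    intro a ha
    exact (hc a ha).symm
  have hcc : Subgroup.zpowers c ≤ Subgroup.centralizer ((Subgroup.zpowers c : Subgroup P) : Set P) := by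
    rw [Subgroup.zpowers_le, Subgroup.mem_centralizer_iff]
    intro b hb
    obtain ⟨k, rfl⟩ := Subgroup.mem_zpowers_iff.1 hb
    exact (Commute.zpow_self c k)
  set B := A ⊔ Subgroup.zpowers c with hB
  have hBB : B ≤ Subgroup.centralizer (B : Set P) := by
    apply sup_le
    · rw [Subgroup.le_centralizer_iff]
      exact sup_le hAA hcA
    · rw [Subgroup.le_centralizer_iff]
      refine sup_le ?_ hcc
      rw [Subgroup.le_centralizer_iff]
      exact hcA
  have hBc : IsMulCommutative ↥B := by
    refine ⟨⟨fun a b => ?_⟩⟩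
    apply Subtype.ext
    have := Subgroup.mem_centralizer_iff.1 (hBB b.2) a a.2
    exact this
  have hBD : B ≤ D := sup_le hAD (Subgroup.zpowers_le.2 hcD)
  have := hmax B le_sup_left hBD hBc
  rw [← this]
  exact (le_sup_right : Subgroup.zpowers c ≤ B) (Subgroup.mem_zpowers c)


/-- Let P be a finite p-group and G a group of automorphisms of P containing the inner automorphisms. Then there is a G-invariant subgroup D of P, contained in the subgroup generated by the elements x⁻¹α(x) with x in P and α in O^p(G), of exponent dividing p when p is odd and dividing 4 when p = 2, with [D, P] ≤ Z(D), such that every automorphism in G of order prime to p that fixes D elementwise is the identity; moreover every maximal abelian subgroup A of D is normal in P and every automorphism in G fixing A elementwise has p-power order. -/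
theorem result {P : Type*} [Group P] [Finite P] {p : ℕ} [Fact p.Prime] (hP : IsPGroup p P)
    (G : Subgroup (MulAut P)) (hG : Cfsg.Inn P ≤ G) :
    ∃ D : Subgroup P,
      (∀ α ∈ G, D.map α.toMonoidHom = D) ∧
      D ≤ Subgroup.closure {y : P | ∃ α ∈ Cfsg.pResidual p ↥G, ∃ x : P, y = x⁻¹ * (α : MulAut P) x} ∧
      (∀ d ∈ D, d ^ p = 1 ∨ (p = 2 ∧ d ^ 4 = 1)) ∧
      ⁅D, (⊤ : Subgroup P)⁆ ≤ D ⊓ Subgroup.centralizer (D : Set P) ∧
      (∀ α ∈ G, (orderOf α).Coprime p → (∀ d ∈ D, α d = d) → α = 1) ∧
      ∀ A : Subgroup P, A ≤ D → IsMulCommutative ↥A →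
        (∀ B : Subgroup P, A ≤ B → B ≤ D → IsMulCommutative ↥B → B = A) →
        A.Normal ∧ ∀ α ∈ G, (∀ a ∈ A, α a = a) → ∃ k : ℕ, orderOf α = p ^ k := by
  obtain ⟨C, hCchar, h1, h2, h3⟩ := Cfsg.Agent.S0093.result hP
  set W := smallSub hP C h1 h2 with hW
  have hWmem : ∀ x : P, x ∈ W ↔ x ∈ C ∧ Small p x := fun x => Iff.rfl
  have hCinv : ∀ (α : MulAut P) (x : P), x ∈ C → α x ∈ C := by
    intro α x hx
    have := SetLike.ext_iff.1 (hCchar.fixed α) x
    rw [Subgroup.mem_comap] at this
    exact this.2 hx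
  have hWinv : ∀ (α : MulAut P) (x : P), x ∈ W → α x ∈ W := by
    intro α x hx
    exact ⟨hCinv α x hx.1, small_map α hx.2⟩
  have hHn : (Cfsg.pResidual p ↥G).Normal := H10.pResidual_normal p ↥G
  set S : Set P := {y : P | ∃ α ∈ Cfsg.pResidual p ↥G, ∃ x ∈ W, y = x⁻¹ * (α : MulAut P) x} with hS
  set D := Subgroup.closure S with hD
  have hSD : ∀ y ∈ S, y ∈ D := fun y hy => Subgroup.subset_closure hy
  have hDW : D ≤ W := by
    rw [hD, Subgroup.closure_le]
    rintro _ ⟨α, _, x, hx, rfl⟩
    exact Subgroup.mul_mem _ (Subgroup.inv_mem _ hx) (hWinv _ x hx)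
  -- invariance
  have hDle : ∀ β ∈ G, D.map β.toMonoidHom ≤ D := by
    intro β hβ
    rw [hD, MonoidHom.map_closure, Subgroup.closure_le]
    rintro _ ⟨_, ⟨α, hα, x, hx, rfl⟩, rfl⟩
    apply Subgroup.subset_closure
    refine ⟨(⟨β, hβ⟩ : G) * α * (⟨β, hβ⟩ : G)⁻¹, hHn.conj_mem α hα _, β x, hWinv β x hx, ?_⟩
    simp [map_mul, map_inv]
  have hDinv : ∀ β ∈ G, D.map β.toMonoidHom = D := by
    intro β hβ
    apply le_antisymm (hDle β hβ)
    have h4 := hDle β⁻¹ (Subgroup.inv_mem _ hβ)
    have h5 := Subgroup.map_mono (f := β.toMonoidHom) h4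
    rw [Subgroup.map_map] at h5
    have h6 : β.toMonoidHom.comp (β⁻¹).toMonoidHom = MonoidHom.id P := by
      ext x; simp
    rwa [h6, Subgroup.map_id] at h5
  have hDn : D.Normal := by
    constructor
    intro d hd g
    have h4 := hDinv (MulAut.conj g) (hG ⟨g, rfl⟩)
    rw [← h4]
    exact ⟨d, hd, by simp⟩
  -- fixing D
  have hfixD : ∀ α ∈ G, (orderOf α).Coprime p → (∀ d ∈ D, α d = d) → α = 1 := by
    intro α hα hcop hfix
    have hαH : (⟨α, hα⟩ : G) ∈ Cfsg.pResidual p ↥G := by
      apply Subgroup.subset_closure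
      show (orderOf (⟨α, hα⟩ : G)).Coprime p
      rw [Subgroup.orderOf_mk]; exact hcop
    have hfixW : ∀ x ∈ W, α x = x := by
      intro x hx
      have hc : x⁻¹ * α x ∈ D := hSD _ ⟨⟨α, hα⟩, hαH, x, hx, rfl⟩
      obtain ⟨k, hk⟩ := hP (x⁻¹ * α x)
      exact H26.fix_of_fixes_comm α hcop x ⟨k, hk⟩ (hfix _ hc)
    have hCp : IsPGroup p C := hP.to_subgroup C
    have hcop' : (orderOf (H26.restrictAut α C (hCinv α))).Coprime p :=
      Nat.Coprime.coprime_dvd_left (H26.orderOf_restrictAut_dvd _ _ _) hcop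
    have h4 : H26.restrictAut α C (hCinv α) = 1 := by
      apply H26.aut_eq_one_of_fix_small hCp _ hcop'
      intro y hy
      have hys : Small p (y : P) := by
        rcases hy with hy | ⟨h2', hy⟩
        · left
          have := congrArg Subtype.val hy
          simpa using this
        · right
          refine ⟨h2', ?_⟩
          have := congrArg Subtype.val hy
          simpa using this
      apply Subtype.ext
      rw [H26.restrictAut_apply]
      exact hfixW y ⟨y.2, hys⟩
    apply Cfsg.Agent.S0121.result hP C hCchar h1 h2 h3 α hcop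
    intro x hx
    have h5 := congrArg (fun f : MulAut C => ((f ⟨x, hx⟩ : C) : P)) h4
    simpa [H26.restrictAut_apply] using h5
  have hcomm : ⁅D, (⊤ : Subgroup P)⁆ ≤ D ⊓ Subgroup.centralizer (D : Set P) := by
    apply le_inf
    · exact Subgroup.commutator_le_left D ⊤
    · have h4 : ⁅D, (⊤ : Subgroup P)⁆ ≤ ⁅C, (⊤ : Subgroup P)⁆ :=
        Subgroup.commutator_mono (hDW.trans (fun x hx => hx.1)) le_rfl
      refine (h4.trans (h2.trans inf_le_right)).trans ?_
      apply Subgroup.centralizer_le
      exact (hDW.trans (fun x hx => hx.1))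
  refine ⟨D, hDinv, ?_, ?_, hcomm, hfixD, ?_⟩
  · apply Subgroup.closure_mono
    rintro _ ⟨α, hα, x, _, rfl⟩
    exact ⟨α, hα, x, rfl⟩
  · intro d hd
    exact (hDW hd).2
  · intro A hAD hAc hmax
    have hZA : ∀ z ∈ D ⊓ Subgroup.centralizer (D : Set P), z ∈ A := by
      intro z hz
      apply mem_of_commute_maximal D A hAD hAc hmax hz.1
      intro a ha
      exact (Subgroup.mem_centralizer_iff.1 hz.2 a (hAD ha)).symm
    constructor
    · constructor
      intro a ha g
      have h4 : g * a * g⁻¹ = (⁅a, g⁆)⁻¹ * a := by rw [commutatorElement_def]; group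
      rw [h4]
      refine Subgroup.mul_mem _ (Subgroup.inv_mem _ (hZA _ (hcomm ?_))) ha
      exact Subgroup.commutator_mem_commutator (hAD ha) (Subgroup.mem_top g)
    · intro α hα hfixA
      obtain ⟨k, m, hm, hkm⟩ := Nat.exists_eq_pow_mul_and_not_dvd (orderOf_pos α).ne' p
        (Fact.out : p.Prime).ne_one
      have hord : orderOf (α ^ p ^ k) = m := by
        rw [orderOf_pow, hkm, Nat.gcd_eq_right (Dvd.intro _ rfl)]
        exact Nat.mul_div_cancel_left m (pow_pos (Fact.out : p.Prime).pos k)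
      have hcop : (orderOf (α ^ p ^ k)).Coprime p := by
        rw [hord]
        exact ((Nat.Prime.coprime_iff_not_dvd (Fact.out : p.Prime)).2 hm).symm
      have hβG : α ^ p ^ k ∈ G := Subgroup.pow_mem _ hα _
      have hβA : ∀ a ∈ A, (α ^ p ^ k) a = a := by
        intro a ha
        have : ∀ n : ℕ, (α ^ n) a = a := by
          intro n
          induction n with
          | zero => simp
          | succ n ih => rw [pow_succ, MulAut.mul_apply, hfixA a ha, ih]
        exact this _
      have hβ1 : α ^ p ^ k = 1 := by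
        apply hfixD _ hβG hcop
        intro x hx
        set β := α ^ p ^ k with hβ
        have hβx : β x ∈ D := by
          rw [← hDinv β hβG]
          exact ⟨x, hx, rfl⟩
        have hcD : x⁻¹ * β x ∈ D := Subgroup.mul_mem _ (Subgroup.inv_mem _ hx) hβx
        have hcA : x⁻¹ * β x ∈ A := by
          apply mem_of_commute_maximal D A hAD hAc hmax hcD
          intro a ha
          have hz : ⁅x, a⁆ ∈ A :=
            hZA _ (hcomm (Subgroup.commutator_mem_commutator hx (Subgroup.mem_top a)))
          have h4 := hβA _ hz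
          rw [commutatorElement_def, map_mul, map_mul, map_mul, map_inv, map_inv, hβA a ha] at h4
          -- h4 : β x * a * (β x)⁻¹ * a⁻¹ = x * a * x⁻¹ * a⁻¹
          have h5 : β x * a * (β x)⁻¹ = x * a * x⁻¹ := by
            have := congrArg (· * a) h4
            simpa using this
          calc x⁻¹ * β x * a = x⁻¹ * (β x * a * (β x)⁻¹) * β x := by group
            _ = x⁻¹ * (x * a * x⁻¹) * β x := by rw [h5]
            _ = a * (x⁻¹ * β x) := by group
        obtain ⟨j, hj⟩ := hP (x⁻¹ * β x)
        exact H26.fix_of_fixes_comm β hcop x ⟨j, hj⟩ (hβA _ hcA)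
      have hdvd : orderOf α ∣ p ^ k := orderOf_dvd_of_pow_eq_one hβ1
      obtain ⟨j, _, hj⟩ := (Nat.dvd_prime_pow (Fact.out : p.Prime)).1 hdvd
      exact ⟨j, hj⟩

end Cfsg.Agent.S1949
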