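import Cfsg.Statements.S1951
import Cfsg.Agent.Lib.H19.AEINT2
import Cfsg.Agent.Lib.H23.KWSING
import Cfsg.Agent.Lib.H2.AECOUNT
import Cfsg.Agent.Lib.H25.AEPSI
import Cfsg.Agent.Lib.H9.AECS2
import Cfsg.Agent.Lib.H4.PCOMPLcore
import Cfsg.Agent.Lib.H3.AEREG
import Cfsg.Agent.Lib.H18.ZPARITH
import Cfsg.Agent.Lib.H8.AEBRIDGE
import Cfsg.Agent.Lib.L0.PRegCongP

set_option autoImplicit false
open Cfsg

namespace Cfsg.Agent.S1951

/-- Let p be a prime and P a nontrivial elementary abelian Sylow p-subgroup of a finite nonabelian simple group G whose nonidentity elements are all conjugate in G. Suppose that two elements of P are conjugate in G only if they are conjugate in N_G(P), that the centralizer of every element of order p of P has a normal p-complement, and that every two elements of order p of G generate a p-solvable subgroup. Then p = 2. -/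
theorem result {G : Type*} [Group G] [Finite G] [IsSimpleGroup G] (hG : ¬ IsMulCommutative G) {p : ℕ} [Fact p.Prime] (P : Sylow p G)
    (hP1 : (P : Subgroup G) ≠ ⊥) (hPe : Cfsg.IsElementaryAbelian p (P : Subgroup G))
    (hconj : ∀ x ∈ (P : Subgroup G), ∀ y ∈ (P : Subgroup G), x ≠ 1 → y ≠ 1 → ∃ g : G, g * x * g⁻¹ = y)
    (ha : ∀ x ∈ (P : Subgroup G), ∀ y ∈ (P : Subgroup G), (∃ g : G, g * x * g⁻¹ = y) →
      ∃ n ∈ Subgroup.normalizer ((P : Subgroup G) : Set G), n * x * n⁻¹ = y)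
    (hb : ∀ x ∈ (P : Subgroup G), orderOf x = p → Cfsg.HasNormalPComplement p ↥(Subgroup.centralizer ({x} : Set G)))
    (hc : ∀ x y : G, orderOf x = p → orderOf y = p → Cfsg.IsPSolvable p ↥(Subgroup.closure ({x, y} : Set G))) :
    p = 2 := by
  classical
  by_contra hp2
  have hp : p.Prime := Fact.out
  haveI : Fintype G := Fintype.ofFinite G
  obtain ⟨M, hM⟩ := Cfsg.Agent.Lib.L0.PRegP.exists_isPModular hp
  haveI hPr : M.IsPrime := Cfsg.Agent.Lib.H23.isPrime_of_isPModular hM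
  -- a nontrivial element of `P`
  obtain ⟨a, haP, ha1⟩ : ∃ a ∈ (P : Subgroup G), a ≠ 1 := by
    by_contra hcon
    push Not at hcon
    exact hP1 ((Subgroup.eq_bot_iff_forall _).2 hcon)
  have hKW : Cfsg.Agent.Lib.H23.KW.Hyp p P a := ⟨hPe, hconj, hb, haP, ha1⟩
  have hordA : orderOf a = p := hKW.orderOf_eq
  have hap : ∃ k : ℕ, orderOf a = p ^ k := hKW.pElement
  -- `|P| = p ^ n`, `n ≥ 1`
  obtain ⟨n, hn⟩ := P.2.exists_card_eq
  have hn1 : 1 ≤ n := by
    rcases Nat.eq_zero_or_pos n with h0 | h0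
    · exfalso
      rw [h0, pow_zero] at hn
      exact hP1 ((Subgroup.card_eq_one).1 hn)
    · exact h0
  have hP2 : 2 ≤ Nat.card (P : Subgroup G) := by
    rw [hn]
    calc 2 ≤ p := hp.two_le
      _ = p ^ 1 := (pow_one p).symm
      _ ≤ p ^ n := Nat.pow_le_pow_right hp.pos hn1
  -- INT
  obtain ⟨d, f, hd, hf1, hfm, htriv⟩ := Cfsg.Agent.Lib.H19.AE.ae_int_fun (P : Subgroup G) hP2 a ha1
    (fun x hx hx1 => isConj_iff.2 (hconj a haP x hx ha1 hx1))
  -- CONST
  have hconst : ∀ χ ∈ principalBlock M G, ∀ g : G, p ∣ orderOf g →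
      (χ : G → ℂ) g = (χ : G → ℂ) a := fun χ hχ g hg => hKW.const_on_singular hM χ hχ hg
  -- COUNT
  have hcount := Cfsg.Agent.Lib.H2.AE.card_pSingular_mul_card P hP1 hPe hconj hb
  -- PSI
  have hinv : ∀ χ : IrrCharacter G, (χ : G → ℂ) a⁻¹ = (d χ : ℂ) := by
    intro χ
    rw [Cfsg.Agent.Lib.L0.isCharacter_apply_inv (Cfsg.Agent.Lib.L0.isCharacter_of_irr χ.2), hd χ]
    simp
  have hself := Cfsg.Agent.Lib.H25.AE.psi_self_eq hM a ha1 hap (Nat.card (P : Subgroup G)) hconst hcount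
  have hone := Cfsg.Agent.Lib.H25.AE.psi_one_eq_zero hM a ha1 hap
  have hΨ : ∀ g : G, ∑ᶠ χ ∈ principalBlock M G, (d χ : ℂ) * (χ : G → ℂ) g =
      if g ∈ {g : G | p ∣ orderOf g} then ((Nat.card (P : Subgroup G) : ℕ) : ℂ) else 0 := by
    intro g
    split_ifs with hg
    · rw [← hself]
      refine finsum_mem_congr rfl fun χ hχ => ?_
      rw [hconst χ hχ g hg, hinv χ, hd χ]
    · have h0 := Cfsg.Agent.Lib.H25.AE.psi_eq_zero_of_regular hM a ha1 hap g hg
      rw [← h0]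
      refine finsum_mem_congr rfl fun χ hχ => ?_
      rw [hinv χ, mul_comm]
  -- CLASSSUM
  have hN := Cfsg.Agent.Lib.H9.AECS.nsing_eq (principalBlock M G) d a
    ((Nat.card (P : Subgroup G) : ℕ) : ℂ) {g : G | p ∣ orderOf g} (fun χ _ => hd χ) hΨ
  -- the class of `a` is the set of elements of order `p`
  have hcls : Cfsg.Agent.Lib.H9.AECS.cls a = Cfsg.Agent.Lib.H3.AE.ordP G p := by
    ext y
    simp only [Cfsg.Agent.Lib.H9.AECS.mem_cls, Cfsg.Agent.Lib.H3.AE.ordP, Finset.mem_filter,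
      Finset.mem_univ, true_and]
    constructor
    · intro h
      obtain ⟨c, hc'⟩ := isConj_iff.1 h
      have hinj := orderOf_injective (MulAut.conj c).toMonoidHom (MulAut.conj c).injective a
      rw [← hc', ← hordA]
      simpa [MulAut.conj_apply] using hinj
    · intro hy
      have hy1 : y ≠ 1 := by
        rintro rfl
        rw [orderOf_one] at hy
        exact hp.one_lt.ne hy
      obtain ⟨c, hc'⟩ := hKW.exists_conj_of_pElement ⟨1, by rw [hy, pow_one]⟩ hy1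
      exact isConj_iff.2 ⟨c, hc'⟩
  -- REGCOUNT
  have hPcomm : ∀ x ∈ (P : Subgroup G), ∀ y ∈ (P : Subgroup G), x * y = y * x := by
    intro x hx y hy
    have h := hPe.1.is_comm.comm (⟨x, hx⟩ : (P : Subgroup G)) ⟨y, hy⟩
    have h2 := congrArg Subtype.val h
    simpa using h2
  have hreg := Cfsg.Agent.Lib.H3.AE.singcount hp a
    (Cfsg.Agent.Lib.H4.PC.regular_unique P hPcomm hc hordA)
  rw [← hcls] at hreg
  -- BRIDGE
  have hkpos : 0 < (Cfsg.Agent.Lib.H9.AECS.cls a).card :=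
    Finset.card_pos.2 ⟨a, Cfsg.Agent.Lib.H9.AECS.mem_cls.2 (IsConj.refl a)⟩
  have hlow := Cfsg.Agent.Lib.H8.AEB.hlow_of_finsum (principalBlock M G) d f
    (fun χ => (χ : G → ℂ) 1) (fun χ _ => hf1 χ)
    ((Cfsg.Agent.Lib.H9.AECS.cls a).filter (fun y => a⁻¹ * y ∈ {g : G | p ∣ orderOf g})).card
    (Cfsg.Agent.Lib.H9.AECS.cls a).card (Nat.card (P : Subgroup G)) p hkpos hp.two_le hN hreg
  -- ARITH
  set s : Finset (IrrCharacter G) := (Set.toFinite (principalBlock M G)).toFinset with hs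
  have hi₀ : Cfsg.Agent.Lib.H24.trivialIrr G ∈ s :=
    (Set.Finite.mem_toFinset _).2 Cfsg.Agent.Lib.H23.trivialIrr_mem_principalBlock
  have htr := htriv (Cfsg.Agent.Lib.H24.trivialIrr G) rfl
  have hcardZ : ((Nat.card (P : Subgroup G) : ℕ) : ℤ) = (p : ℤ) ^ n := by
    rw [hn]
    push_cast
    rfl
  refine Cfsg.Agent.Lib.H18.ZP.arith_false s (Cfsg.Agent.Lib.H24.trivialIrr G) hi₀ d f p n hp hp2 hn1
    htr.1 htr.2 ?_ ?_ ?_ ?_
  · intro χ _ hne
    have hne' : (χ : G → ℂ) ≠ (fun _ => (1 : ℂ)) := by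
      intro h
      apply hne
      exact Subtype.ext h
    obtain ⟨m, hm1, hm⟩ := hfm χ hne'
    exact ⟨m, hm1, by rw [hm, hcardZ]⟩
  · refine Cfsg.Agent.Lib.H8.AEB.int_sum_of_finsum (principalBlock M G) (fun χ => d χ ^ 2) ((p : ℤ) ^ n) ?_
    have : (((p : ℤ) ^ n : ℤ) : ℂ) = ((Nat.card (P : Subgroup G) : ℕ) : ℂ) := by
      rw [← hcardZ]
      push_cast
      rfl
    rw [this, ← hself]
    refine finsum_mem_congr rfl fun χ _ => ?_
    rw [hinv χ, hd χ]
    push_cast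
    ring
  · refine Cfsg.Agent.Lib.H8.AEB.int_sum_of_finsum (principalBlock M G) (fun χ => d χ * f χ) 0 ?_
    rw [Int.cast_zero, ← hone]
    refine finsum_mem_congr rfl fun χ _ => ?_
    rw [hinv χ, hf1 χ]
    push_cast
    ring
  · have hcardQ : ((Nat.card (P : Subgroup G) : ℕ) : ℚ) = (p : ℚ) ^ n := by
      rw [hn]
      push_cast
      rfl
    rw [← hcardQ]
    exact hlow

end Cfsg.Agent.S1951
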