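import Cfsg.Statements.S1952
import Mathlib
import Cfsg.Agent.Lib.H17.CyclicModule2

set_option autoImplicit false
open Cfsg

namespace Cfsg.Agent.S1952

open Cfsg.Agent.Lib.H17.CyclicModule

theorem padic_fact {p : ℕ} [Fact p.Prime] : (Nat.factorial (p ^ 2)).factorization p = p + 1 := by
  have hp : p.Prime := Fact.out
  rw [Nat.factorization_def _ hp, pow_two, padicValNat_factorial_mul]
  have h1 : padicValNat p (Nat.factorial p) = 1 := by
    have := padicValNat_factorial_mul (p := p) 1
    rw [mul_one] at this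
    rw [this]
    simp
  rw [h1, add_comm]

/-- Let P be a finite p-group with a normal elementary abelian subgroup A of index p, and let x ∈ A and y ∈ P with y outside A. If the product of the p conjugates y^(-i) x y^i (i = 0, …, p−1) is not the identity, then the wreath product Z_p ≀ Z_p, realised as a Sylow p-subgroup of the symmetric group of degree p², is a homomorphic image of P. -/
theorem result {P : Type*} [Group P] [Finite P] {p : ℕ} [Fact p.Prime] (hP : IsPGroup p P) (A : Subgroup P) [A.Normal]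
    (hA : Cfsg.IsElementaryAbelian p A) (hidx : A.index = p) (x y : P) (hx : x ∈ A) (hy : y ∉ A)
    (hprod : ((List.range p).map (fun i => (y ^ i)⁻¹ * x * y ^ i)).prod ≠ 1) :
    ∃ (Q : Sylow p (Equiv.Perm (Fin (p ^ 2)))) (f : P →* ↥(Q : Subgroup (Equiv.Perm (Fin (p ^ 2))))), Function.Surjective f := by
  classical
  have hp : p.Prime := Fact.out
  -- the operator
  set τ : ↥A →* ↥A := (MulAut.conjNormal (y⁻¹) : MulAut A).toMonoidHom with hτdef
  have hτ1 : ∀ a : A, ((τ a : A) : P) = y⁻¹ * a * y := by
    intro a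
    rw [hτdef]
    change ((MulAut.conjNormal (y⁻¹) a : A) : P) = _
    rw [MulAut.conjNormal_apply, inv_inv]
  have hτi : ∀ (i : ℕ) (a : A), (((τ^[i]) a : A) : P) = (y ^ i)⁻¹ * a * y ^ i := by
    intro i
    induction i with
    | zero => intro a; simp
    | succ i ih =>
      intro a
      rw [Function.iterate_succ_apply', hτ1, ih, pow_succ]
      group
  have hcomm : ∀ a b : A, a * b = b * a := fun a b => hA.1.is_comm.comm a b
  have hexp : ∀ a : A, a ^ p = 1 := by
    intro a
    apply Subtype.ext
    rw [Subgroup.coe_pow, Subgroup.coe_one]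
    exact hA.2 a a.2
  have hyp : y ^ p ∈ A := by
    have := A.pow_index_mem y
    rwa [hidx] at this
  have hτp : ∀ a : A, (τ^[p]) a = a := by
    intro a
    apply Subtype.ext
    rw [hτi]
    have h1 := hcomm ⟨y ^ p, hyp⟩ a
    have h2 : y ^ p * (a : P) = a * y ^ p := congrArg Subtype.val h1
    calc (y ^ p)⁻¹ * ↑a * y ^ p = (y ^ p)⁻¹ * (↑a * y ^ p) := by group
      _ = (y ^ p)⁻¹ * (y ^ p * ↑a) := by rw [h2]
      _ = a := by group
  have hx' : ((List.range p).map (fun i => (τ^[i]) (⟨x, hx⟩ : A))).prod ≠ 1 := by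
    intro h
    apply hprod
    have h1 := congrArg (A.subtype) h
    rw [map_list_prod, List.map_map, map_one] at h1
    have h2 : (List.map (fun i => (y ^ i)⁻¹ * x * y ^ i) (List.range p)) =
        List.map (⇑A.subtype ∘ fun i => (τ^[i]) (⟨x, hx⟩ : A)) (List.range p) := by
      apply List.map_congr_left
      intro i _
      simp only [Function.comp_apply, Subgroup.subtype_apply]
      rw [hτi]
    rw [h2]
    exact h1
  obtain ⟨K₀, hK₀card, hK₀core⟩ := mul_version (p := p) hcomm hexp τ hτp ⟨x, hx⟩ hx'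
  set K : Subgroup P := K₀.map A.subtype with hKdef
  have hKA : K ≤ A := by
    rintro _ ⟨a, _, rfl⟩; exact a.2
  have hKcard : Nat.card K = Nat.card K₀ :=
    Subgroup.card_map_of_injective A.subtype_injective
  have hmemK : ∀ a : A, (a : P) ∈ K ↔ a ∈ K₀ := by
    intro a
    constructor
    · rintro ⟨b, hb, hba⟩
      have : b = a := Subtype.ext hba
      rwa [← this]
    · intro ha; exact ⟨a, ha, rfl⟩
  have hPcard : Nat.card P = p * Nat.card A := by
    rw [← A.index_mul_card, hidx]
  have hKpos : 0 < Nat.card K := Nat.card_pos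
  have hKidx : K.index = p ^ 2 := by
    have h1 := K.card_mul_index
    rw [hPcard, hK₀card, ← hKcard] at h1
    have : Nat.card K * K.index = Nat.card K * (p ^ 2) := by rw [h1]; ring
    exact Nat.eq_of_mul_eq_mul_left hKpos this
  -- the action
  set φ : P →* Equiv.Perm (P ⧸ K) := MulAction.toPermHom P (P ⧸ K) with hφ
  have hker : φ.ker = K.normalCore := (Subgroup.normalCore_eq_ker K).symm
  -- bound on the kernel
  have hkerle : p ^ p * Nat.card φ.ker ≤ Nat.card A := by
    refine le_trans (Nat.mul_le_mul_left _ ?_) hK₀core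
    rw [hker]
    have hcoreK : ∀ g ∈ K.normalCore, g ∈ K := fun g hg => by
      have := hg 1
      simpa using this
    apply Nat.card_le_card_of_injective
      (fun g : K.normalCore => (⟨⟨g.1, hKA (hcoreK g.1 g.2)⟩, fun i _ => by
        rw [← hmemK, hτi]
        have := g.2 ((y ^ i)⁻¹)
        simpa using this⟩ : {a : A // ∀ i < p, (τ^[i]) a ∈ K₀}))
    intro g h hgh
    apply Subtype.ext
    have := congrArg (fun z : {a : A // ∀ i < p, (τ^[i]) a ∈ K₀} => ((z : A) : P)) hgh
    exact this
  -- size of the range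
  have hrange : Nat.card φ.range * Nat.card φ.ker = Nat.card P := by
    rw [Subgroup.card_eq_card_quotient_mul_card_subgroup φ.ker,
      Nat.card_congr (QuotientGroup.quotientKerEquivRange φ).toEquiv]
  have hrange_ge : p ^ (p + 1) ≤ Nat.card φ.range := by
    have hkpos : 0 < Nat.card φ.ker := Nat.card_pos
    have h1 : p ^ (p + 1) * Nat.card φ.ker ≤ Nat.card φ.range * Nat.card φ.ker := by
      rw [hrange, hPcard, pow_succ']
      calc p * p ^ p * Nat.card φ.ker = p * (p ^ p * Nat.card φ.ker) := by ring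
        _ ≤ p * Nat.card A := Nat.mul_le_mul_left p hkerle
    exact Nat.le_of_mul_le_mul_right h1 hkpos
  -- transport to Fin (p^2)
  have hcardq : Nat.card (P ⧸ K) = p ^ 2 := by
    rw [← hKidx]; rfl
  let e : (P ⧸ K) ≃ Fin (p ^ 2) := (Finite.equivFin (P ⧸ K)).trans (finCongr hcardq)
  set ψ : P →* Equiv.Perm (Fin (p ^ 2)) := e.permCongrHom.toMonoidHom.comp φ with hψ
  have hψrange : Nat.card ψ.range = Nat.card φ.range := by
    rw [hψ, MonoidHom.range_comp]
    exact Subgroup.card_map_of_injective e.permCongrHom.injective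
  have hψp : IsPGroup p ψ.range := hP.of_surjective ψ.rangeRestrict ψ.rangeRestrict_surjective
  obtain ⟨Q, hQ⟩ := hψp.exists_le_sylow
  have hQcard : Nat.card Q = p ^ (p + 1) := by
    rw [Q.card_eq_multiplicity, Nat.card_eq_fintype_card, Fintype.card_perm, Fintype.card_fin,
      padic_fact]
  have hQeq : ψ.range = (Q : Subgroup (Equiv.Perm (Fin (p ^ 2)))) :=
    Subgroup.eq_of_le_of_card_ge hQ (by rw [hQcard, hψrange]; exact hrange_ge)
  refine ⟨Q, ψ.codRestrict (Q : Subgroup (Equiv.Perm (Fin (p ^ 2)))) (fun g => hQ ⟨g, rfl⟩), ?_⟩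
  rintro ⟨q, hq⟩
  rw [← hQeq] at hq
  obtain ⟨g, rfl⟩ := hq
  exact ⟨g, rfl⟩

end Cfsg.Agent.S1952
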