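import Cfsg.Statements.S1953
import Mathlib
import Cfsg.Agent.Lib.H1.CentRad
import Cfsg.Agent.S0274
import Cfsg.Agent.S1987
import Cfsg.Agent.Lib.H26.Involves
import Cfsg.Agent.Lib.H1.QdStable
import Cfsg.Agent.S1978

set_option autoImplicit false
open Cfsg

namespace Cfsg.Agent.S1953

open Cfsg.Agent.Lib.H1.CentRad

/-- a section of a section is a section -/
theorem involves_of_section {H : Type*} [Group H] {G : Type*} [Group G] (K R : Subgroup G)
    [hR : (R.subgroupOf K).Normal] (h : Cfsg.Involves H (↥K ⧸ R.subgroupOf K)) : Cfsg.Involves H G := by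
  rw [Cfsg.Agent.Lib.H26.involves_iff] at h
  obtain ⟨K', f, hf⟩ := h
  have h1 : Cfsg.Involves H ↥K :=
    Cfsg.Agent.Lib.H26.involves_of_le_range (QuotientGroup.mk' (R.subgroupOf K)) K'
      (by rw [MonoidHom.range_eq_top.mpr (QuotientGroup.mk'_surjective _)]; exact le_top) f hf
  exact Cfsg.Agent.Lib.H26.involves_of_injective K.subtype K.subtype_injective h1

/-- Let p be an odd prime and P a Sylow p-subgroup of the finite group G, and suppose that for no p-subgroup Q of G does N_G(Q)/C_G(Q) have a section isomorphic to SL₂(p). Call a subgroup Q of P centric-radical when Z(Q) is a Sylow p-subgroup of C_G(Q) and the only normal subgroup X of N_G(Q) containing Q·C_G(Q) such that the index of Q·C_G(Q) in X is a power of p is Q·C_G(Q) itself (that is, N_G(Q)/Q·C_G(Q) has no nontrivial normal p-subgroup). Then there is a centric-radical subgroup Q of P contained in every centric-radical subgroup of P; it is normal in P, and N_G(Q) controls strong fusion in P: whenever a subgroup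 A of P has g A g⁻¹ ≤ P, the element g is a product h c with h in N_G(Q) and c centralizing A. -/
theorem result {G : Type*} [Group G] [Finite G] {p : ℕ} [Fact p.Prime] (hp : p ≠ 2) (P : Sylow p G)
    (hfree : ∀ Q : Subgroup G, IsPGroup p ↥Q → ¬ ∃ (H K : Subgroup G) (_ : (K.subgroupOf H).Normal),
      Subgroup.centralizer (Q : Set G) ≤ K ∧ K ≤ H ∧ H ≤ Subgroup.normalizer (Q : Set G) ∧
      Nonempty ((↥H ⧸ K.subgroupOf H) ≃* Matrix.SpecialLinearGroup (Fin 2) (ZMod p)))
    (cr : Subgroup G → Prop)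
    (hcr : ∀ Q : Subgroup G, cr Q ↔ (Q ≤ (P : Subgroup G) ∧
      (∃ R : Sylow p ↥(Subgroup.centralizer (Q : Set G)),
        (R : Subgroup ↥(Subgroup.centralizer (Q : Set G))).map (Subgroup.centralizer (Q : Set G)).subtype = Q ⊓ Subgroup.centralizer (Q : Set G)) ∧
      ∀ X : Subgroup G, X ≤ Subgroup.normalizer (Q : Set G) →
        (∀ n ∈ Subgroup.normalizer (Q : Set G), X.map (MulAut.conj n).toMonoidHom = X) →
        Q ⊔ Subgroup.centralizer (Q : Set G) ≤ X → (∃ k : ℕ, (Q ⊔ Subgroup.centralizer (Q : Set G)).relIndex X = p ^ k) →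
        X = Q ⊔ Subgroup.centralizer (Q : Set G))) :
    ∃ Q : Subgroup G, cr Q ∧ (∀ R : Subgroup G, cr R → Q ≤ R) ∧ (∀ x ∈ (P : Subgroup G), Q.map (MulAut.conj x).toMonoidHom = Q) ∧
      ∀ A : Subgroup G, A ≤ (P : Subgroup G) → ∀ g : G, A.map (MulAut.conj g).toMonoidHom ≤ (P : Subgroup G) →
        ∃ h ∈ Subgroup.normalizer (Q : Set G), ∃ c ∈ Subgroup.centralizer (A : Set G), g = h * c := by
  have hqd : ¬ Involves ↥(qd p) G := by
    intro h
    obtain ⟨Q, hQp, H, K, hKn, h1, h2, h3, h4⟩ := exists_sl2_automizer_of_involves_qd h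
    exact hfree Q hQp ⟨H, K, hKn, h1, h2, h3, h4⟩
  have hst : ∀ (K R : Subgroup G) [hR : (R.subgroupOf K).Normal],
      Cfsg.IsNormalizerPStable p (↥K ⧸ R.subgroupOf K) := by
    intro K R hR
    apply Cfsg.Agent.Lib.H1.QdStable.isNormalizerPStable_of_not_involves_qd hp
      (Cfsg.Agent.S0274.dicksonHyp hp)
    intro h
    exact hqd (involves_of_section K R h)
  have hcsf := Cfsg.Agent.S1987.result hp hst P
  set W := Cfsg.inducedFunctor Cfsg.kInfLower (P : Subgroup G) with hW
  have hWP : W ≤ (P : Subgroup G) := Subgroup.map_subtype_le _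
  have hWctl := ctl_of_controlsStrongFusion P W hWP hcsf
  have hWcent : (P : Subgroup G) ⊓ Subgroup.centralizer (W : Set G) ≤ W := by
    rintro x ⟨hxS, hxC⟩
    have h1 := (Cfsg.Agent.S1978.result (P := ↥(P : Subgroup G)) P.2).1
    have h2 : (⟨x, hxS⟩ : ↥(P : Subgroup G)) ∈
        Subgroup.centralizer (Cfsg.kInfLower ↥(P : Subgroup G) : Set ↥(P : Subgroup G)) := by
      rw [Subgroup.mem_centralizer_iff]
      intro y hy
      apply Subtype.ext
      have hyK : (y : G) ∈ W := ⟨y, hy, rfl⟩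
      exact Subgroup.mem_centralizer_iff.mp hxC (y : G) hyK
    exact ⟨⟨x, hxS⟩, h1 h2, rfl⟩
  obtain ⟨Q, hQcr, hleast, hnorm, hctl⟩ := exists_least_centricRadical P W hWP hWctl hWcent
  exact ⟨Q, (hcr Q).mpr hQcr, fun R hR => hleast R ((hcr R).mp hR), hnorm, hctl⟩

end Cfsg.Agent.S1953
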