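import Cfsg.Statements.S1954
import Cfsg.Agent.Lib.H22.AlperinRadical
import Cfsg.Agent.Lib.H16.PGroupBasic

set_option autoImplicit false
open Cfsg

namespace Cfsg.Agent.S1954

open Cfsg.Agent.Lib.H10 Cfsg.Agent.Lib.H5 Cfsg.Agent.Lib.H22.AlperinRadical

variable {G : Type*} [Group G]

/-- `Good W B g`: the conjugation map `b ↦ g⁻¹ b g` on `B` is induced by an element of `N_G(W)`. -/
def Good (W : Subgroup G) (B : Set G) (g : G) : Prop :=
  ∃ y ∈ Subgroup.normalizer (W : Set G), ∀ b ∈ B, g⁻¹ * b * g = y⁻¹ * b * y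

theorem good_res {W : Subgroup G} {B B' : Set G} {g : G} (h : Good W B g) (hBB : B' ⊆ B) :
    Good W B' g := by
  obtain ⟨y, hy, hyb⟩ := h
  exact ⟨y, hy, fun b hb => hyb b (hBB hb)⟩

theorem good_trans {W : Subgroup G} {B : Set G} {g h : G} (h1 : Good W B g)
    (h2 : Good W (rconj g B) h) : Good W B (g * h) := by
  obtain ⟨y, hy, hyb⟩ := h1
  obtain ⟨z, hz, hzb⟩ := h2
  refine ⟨y * z, Subgroup.mul_mem _ hy hz, ?_⟩
  intro b hb
  have h3 := hzb (g⁻¹ * b * g) ⟨b, hb, rfl⟩
  calc (g * h)⁻¹ * b * (g * h) = h⁻¹ * (g⁻¹ * b * g) * h := by group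
    _ = z⁻¹ * (g⁻¹ * b * g) * z := h3
    _ = z⁻¹ * (y⁻¹ * b * y) * z := by rw [hyb b hb]
    _ = (y * z)⁻¹ * b * (y * z) := by group

theorem good_symm {W : Subgroup G} {B : Set G} {g : G} (h1 : Good W B g) :
    Good W (rconj g B) g⁻¹ := by
  obtain ⟨y, hy, hyb⟩ := h1
  refine ⟨y⁻¹, Subgroup.inv_mem _ hy, ?_⟩
  rintro _ ⟨b, hb, rfl⟩
  show g⁻¹⁻¹ * (g⁻¹ * b * g) * g⁻¹ = y⁻¹⁻¹ * (g⁻¹ * b * g) * y⁻¹
  calc g⁻¹⁻¹ * (g⁻¹ * b * g) * g⁻¹ = b := by group
    _ = y⁻¹⁻¹ * (y⁻¹ * b * y) * y⁻¹ := by group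
    _ = y⁻¹⁻¹ * (g⁻¹ * b * g) * y⁻¹ := by rw [hyb b hb]

/-- conjugation by a centralizing element fixes the subgroup -/
theorem map_conj_of_mem_centralizer {A : Subgroup G} {c : G}
    (hc : c ∈ Subgroup.centralizer (A : Set G)) : A.map (MulAut.conj c).toMonoidHom = A :=
  mem_normalizer_iff_map_conj.mp (Subgroup.centralizer_le_normalizer _ hc)

/-- `x c x⁻¹` centralizes `A` when `c` centralizes `x⁻¹ A x`. -/
theorem conj_mem_centralizer {A : Subgroup G} {x c : G}
    (hc : c ∈ Subgroup.centralizer ((A.map (MulAut.conj x⁻¹).toMonoidHom : Subgroup G) : Set G)) :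
    x * c * x⁻¹ ∈ Subgroup.centralizer (A : Set G) := by
  rw [Subgroup.mem_centralizer_iff] at hc ⊢
  intro a ha
  have h1 : x⁻¹ * a * x ∈ A.map (MulAut.conj x⁻¹).toMonoidHom := by
    have := conj_mem_map_conj (g := x⁻¹) ha
    simpa using this
  have h2 := hc _ h1
  calc a * (x * c * x⁻¹) = x * ((x⁻¹ * a * x) * c) * x⁻¹ := by group
    _ = x * (c * (x⁻¹ * a * x)) * x⁻¹ := by rw [h2]
    _ = x * c * x⁻¹ * a := by group

/-- the control hypothesis for `V` transported to the conjugate `V^x`, `x ∈ N_G(Q)`. -/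
theorem ctrl_conj {N Q V : Subgroup G} [hN : N.Normal]
    (hctrl : ∀ A : Subgroup G, A ≤ Q → ∀ n ∈ N, A.map (MulAut.conj n).toMonoidHom ≤ Q →
      ∃ h ∈ N ⊓ Subgroup.normalizer (V : Set G), ∃ c ∈ N ⊓ Subgroup.centralizer (A : Set G),
        n = h * c)
    {x : G} (hx : x ∈ Subgroup.normalizer (Q : Set G)) :
    ∀ A : Subgroup G, A ≤ Q → ∀ n ∈ N, A.map (MulAut.conj n).toMonoidHom ≤ Q →
      ∃ h ∈ N ⊓ Subgroup.normalizer ((V.map (MulAut.conj x).toMonoidHom : Subgroup G) : Set G),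
        ∃ c ∈ N ⊓ Subgroup.centralizer (A : Set G), n = h * c := by
  intro A hA n hn hAn
  have hxi : Q.map (MulAut.conj x⁻¹).toMonoidHom = Q :=
    mem_normalizer_iff_map_conj.mp (inv_mem hx)
  have hA' : A.map (MulAut.conj x⁻¹).toMonoidHom ≤ Q := by
    rw [← hxi]
    exact Subgroup.map_mono hA
  have hn' : x⁻¹ * n * x ∈ N := by
    have := hN.conj_mem n hn x⁻¹
    simpa using this
  have hAn' : (A.map (MulAut.conj x⁻¹).toMonoidHom).map (MulAut.conj (x⁻¹ * n * x)).toMonoidHom
      ≤ Q := by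
    rw [map_conj_map_conj]
    have : x⁻¹ * n * x * x⁻¹ = x⁻¹ * n := by group
    rw [this, ← map_conj_map_conj, ← hxi]
    exact Subgroup.map_mono hAn
  obtain ⟨h', hh', c', hc', hnhc⟩ := hctrl _ hA' _ hn' hAn'
  refine ⟨x * h' * x⁻¹, ⟨hN.conj_mem h' hh'.1 x, conj_mem_normalizer_map_conj x hh'.2⟩,
    x * c' * x⁻¹, ⟨hN.conj_mem c' hc'.1 x, conj_mem_centralizer hc'.2⟩, ?_⟩
  calc n = x * (x⁻¹ * n * x) * x⁻¹ := by group
    _ = x * (h' * c') * x⁻¹ := by rw [hnhc]
    _ = x * h' * x⁻¹ * (x * c' * x⁻¹) := by group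

/-- simultaneous control for a finite set of conjugates of `V`. -/
theorem ctrl_finset {N Q V : Subgroup G}
    (hctrlx : ∀ x ∈ Subgroup.normalizer (Q : Set G), ∀ A : Subgroup G, A ≤ Q → ∀ n ∈ N,
      A.map (MulAut.conj n).toMonoidHom ≤ Q →
      ∃ h ∈ N ⊓ Subgroup.normalizer ((V.map (MulAut.conj x).toMonoidHom : Subgroup G) : Set G),
        ∃ c ∈ N ⊓ Subgroup.centralizer (A : Set G), n = h * c)
    (hVQ : ∀ x ∈ Subgroup.normalizer (Q : Set G), V.map (MulAut.conj x).toMonoidHom ≤ Q)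
    (S : Finset G) :
    (∀ x ∈ S, x ∈ Subgroup.normalizer (Q : Set G)) →
    ∀ A : Subgroup G, A ≤ Q → ∀ n ∈ N, A.map (MulAut.conj n).toMonoidHom ≤ Q →
      ∃ h ∈ N, (∀ x ∈ S,
        h ∈ Subgroup.normalizer ((V.map (MulAut.conj x).toMonoidHom : Subgroup G) : Set G)) ∧
        ∃ c ∈ N ⊓ Subgroup.centralizer (A : Set G), n = h * c := by
  classical
  induction S using Finset.induction_on with
  | empty =>
    intro _ A _ n hn _
    exact ⟨n, hn, by simp, 1, one_mem _, by simp⟩
  | insert x S' hxS' ih =>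
    intro hS A hA n hn hAn
    have hxQ : x ∈ Subgroup.normalizer (Q : Set G) := hS x (Finset.mem_insert_self _ _)
    have hS' : ∀ y ∈ S', y ∈ Subgroup.normalizer (Q : Set G) :=
      fun y hy => hS y (Finset.mem_insert_of_mem hy)
    obtain ⟨h₁, hh₁, c₁, hc₁, hn1⟩ := hctrlx x hxQ A hA n hn hAn
    set Vx := V.map (MulAut.conj x).toMonoidHom with hVx
    have hAh₁ : A.map (MulAut.conj h₁).toMonoidHom ≤ Q := by
      have : A.map (MulAut.conj n).toMonoidHom = A.map (MulAut.conj h₁).toMonoidHom := by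
        rw [hn1, ← map_conj_map_conj, map_conj_of_mem_centralizer hc₁.2]
      rw [← this]
      exact hAn
    have hA₁ : A ⊔ Vx ≤ Q := sup_le hA (hVQ x hxQ)
    have hA₁h : (A ⊔ Vx).map (MulAut.conj h₁).toMonoidHom ≤ Q := by
      rw [Subgroup.map_sup]
      refine sup_le hAh₁ ?_
      rw [mem_normalizer_iff_map_conj.mp hh₁.2]
      exact hVQ x hxQ
    obtain ⟨h₂, hh₂, hall, c₂, hc₂, hh12⟩ := ih hS' (A ⊔ Vx) hA₁ h₁ hh₁.1 hA₁h
    have hc₂A : c₂ ∈ Subgroup.centralizer (A : Set G) :=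
      Subgroup.centralizer_le (SetLike.coe_subset_coe.mpr le_sup_left) hc₂.2
    have hc₂V : c₂ ∈ Subgroup.centralizer (Vx : Set G) :=
      Subgroup.centralizer_le (SetLike.coe_subset_coe.mpr le_sup_right) hc₂.2
    refine ⟨h₂, hh₂, ?_, c₂ * c₁, ⟨mul_mem hc₂.1 hc₁.1, mul_mem hc₂A hc₁.2⟩, ?_⟩
    · intro y hy
      rcases Finset.mem_insert.mp hy with rfl | hy'
      · have : h₂ = h₁ * c₂⁻¹ := by rw [hh12]; group
        rw [this]
        exact mul_mem hh₁.2 (inv_mem (Subgroup.centralizer_le_normalizer _ hc₂V))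
      · exact hall y hy'
    · rw [hn1, hh12, mul_assoc]

/-- an element permuting a generating set normalizes the generated subgroup -/
theorem mem_normalizer_closure [Finite G] {Ω : Set G} {g : G}
    (h : ∀ y ∈ Ω, g * y * g⁻¹ ∈ Ω) : g ∈ Subgroup.normalizer ((Subgroup.closure Ω : Subgroup G) : Set G) := by
  apply mem_normalizer_iff_map_conj.mpr
  apply eq_of_le_of_card_map_conj _ le_rfl
  rw [Subgroup.map_le_iff_le_comap, Subgroup.closure_le]
  intro y hy
  exact Subgroup.subset_closure (h y hy)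


theorem map_conj_normal (N : Subgroup G) [hN : N.Normal] (g : G) :
    N.map (MulAut.conj g).toMonoidHom = N := by
  ext x
  rw [mem_map_conj]
  constructor
  · intro h
    have := hN.conj_mem _ h g
    simpa [mul_assoc] using this
  · intro h
    have := hN.conj_mem _ h g⁻¹
    simpa [mul_assoc] using this

theorem top_le_normalizer_normal (N : Subgroup G) [N.Normal] (M : Subgroup G) :
    M ≤ Subgroup.normalizer (N : Set G) := fun g _ =>
  mem_normalizer_iff_map_conj.mpr (map_conj_normal N g)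

/-- Let N be a normal subgroup of the finite group G, P a Sylow p-subgroup of G, and V a subgroup of P ∩ N normal in P ∩ N such that N_N(V) controls strong fusion in P ∩ N with respect to N (whenever a subgroup A of P ∩ N has n A n⁻¹ ≤ P ∩ N for some n in N, then n = h c with h in N_N(V) and c in C_N(A)). Let W be the subgroup generated by the conjugates of V under N_G(P ∩ N). Then N_G(W) controls strong fusion in P with respect to G. -/
theorem result {G : Type*} [Group G] [Finite G] {p : ℕ} [Fact p.Prime] (N : Subgroup G) [N.Normal] (P : Sylow p G) (V : Subgroup G)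
    (hV : V ≤ (P : Subgroup G) ⊓ N) (hVn : ∀ x ∈ (P : Subgroup G) ⊓ N, V.map (MulAut.conj x).toMonoidHom = V)
    (hctrl : ∀ A : Subgroup G, A ≤ (P : Subgroup G) ⊓ N → ∀ n ∈ N, A.map (MulAut.conj n).toMonoidHom ≤ (P : Subgroup G) ⊓ N →
      ∃ h ∈ N ⊓ Subgroup.normalizer (V : Set G), ∃ c ∈ N ⊓ Subgroup.centralizer (A : Set G), n = h * c)
    (W : Subgroup G) (hW : W = Subgroup.closure (⋃ x ∈ Subgroup.normalizer (((P : Subgroup G) ⊓ N : Subgroup G) : Set G),
      ((V.map (MulAut.conj x).toMonoidHom : Subgroup G) : Set G))) :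
    ∀ A : Subgroup G, A ≤ (P : Subgroup G) → ∀ g : G, A.map (MulAut.conj g).toMonoidHom ≤ (P : Subgroup G) →
        ∃ h ∈ Subgroup.normalizer (W : Set G), ∃ c ∈ Subgroup.centralizer (A : Set G), g = h * c := by
  classical
  have hNn : N.Normal := inferInstance
  set Q : Subgroup G := (P : Subgroup G) ⊓ N with hQ
  set T : Subgroup G := Subgroup.normalizer (W : Set G) with hT
  have hQP : Q ≤ (P : Subgroup G) := inf_le_left
  have hQN : Q ≤ N := inf_le_right
  have hPNQ : (P : Subgroup G) ≤ Subgroup.normalizer (Q : Set G) :=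
    le_normalizer_inf Subgroup.le_normalizer (top_le_normalizer_normal N _)
  have hVQx : ∀ x ∈ Subgroup.normalizer (Q : Set G), V.map (MulAut.conj x).toMonoidHom ≤ Q := by
    intro x hx
    rw [← mem_normalizer_iff_map_conj.mp hx]
    exact Subgroup.map_mono hV
  have hctrlx := fun x (hx : x ∈ Subgroup.normalizer (Q : Set G)) => ctrl_conj (Q := Q) hctrl hx
  set Ω : Set G := ⋃ x ∈ Subgroup.normalizer (Q : Set G),
      ((V.map (MulAut.conj x).toMonoidHom : Subgroup G) : Set G) with hΩdef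
  have hΩ : ∀ y, y ∈ Ω ↔ ∃ x ∈ Subgroup.normalizer (Q : Set G),
      y ∈ V.map (MulAut.conj x).toMonoidHom := by
    intro y
    simp only [hΩdef, Set.mem_iUnion, SetLike.mem_coe, exists_prop]
  have hWQ : W ≤ Q := by
    rw [hW, Subgroup.closure_le]
    intro y hy
    obtain ⟨x, hx, hyx⟩ := (hΩ y).mp hy
    exact hVQx x hx hyx
  have hNQT : Subgroup.normalizer (Q : Set G) ≤ T := by
    intro m hm
    rw [hT, hW]
    apply mem_normalizer_closure
    intro y hy
    obtain ⟨x, hx, hyx⟩ := (hΩ y).mp hy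
    refine (hΩ _).mpr ⟨m * x, mul_mem hm hx, ?_⟩
    rw [← map_conj_map_conj]
    exact conj_mem_map_conj hyx
  have hallT : ∀ h : G, (∀ x ∈ Subgroup.normalizer (Q : Set G),
      h ∈ Subgroup.normalizer ((V.map (MulAut.conj x).toMonoidHom : Subgroup G) : Set G)) →
      h ∈ T := by
    intro h hh
    rw [hT, hW]
    apply mem_normalizer_closure
    intro y hy
    obtain ⟨x, hx, hyx⟩ := (hΩ y).mp hy
    refine (hΩ _).mpr ⟨x, hx, ?_⟩
    have := conj_mem_map_conj (g := h) hyx
    rwa [mem_normalizer_iff_map_conj.mp (hh x hx)] at this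
  -- control of strong fusion in `Q` w.r.t. `N` by `N_N(W)`
  have hctrlW : ∀ A : Subgroup G, A ≤ Q → ∀ n ∈ N, A.map (MulAut.conj n).toMonoidHom ≤ Q →
      ∃ h ∈ N ⊓ T, ∃ c ∈ N ⊓ Subgroup.centralizer (A : Set G), n = h * c := by
    intro A hA n hn hAn
    obtain ⟨h, hhN, hall, c, hc, hnhc⟩ := ctrl_finset hctrlx hVQx
      (Set.toFinite (Subgroup.normalizer (Q : Set G) : Set G)).toFinset
      (fun x hx => (Set.Finite.mem_toFinset _).mp hx) A hA n hn hAn
    exact ⟨h, ⟨hhN, hallT h (fun x hx => hall x ((Set.Finite.mem_toFinset _).mpr hx))⟩,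
      c, hc, hnhc⟩
  -- Frattini
  have hQp : IsPGroup p Q := P.2.to_le inf_le_left
  have hQi : ¬ p ∣ Q.relIndex N :=
    AC.not_dvd_relIndex_inf_of_normal (H := (P : Subgroup G)) (N := ⊤) (C := N) P.2 le_top
      (by rw [Subgroup.relIndex_top_right]; exact P.not_dvd_index) le_top
      (top_le_normalizer_normal N _)
  have hfrat : ∀ g : G, ∃ m ∈ Subgroup.normalizer (Q : Set G), ∃ n ∈ N, g = m * n := by
    intro g
    have h1 : Q.map (MulAut.conj g).toMonoidHom ≤ N := by
      rw [← map_conj_normal N g]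
      exact Subgroup.map_mono hQN
    obtain ⟨k, hkN, hk⟩ := exists_mem_map_conj_le_of_sylowIn hQp hQN hQi (hQp.map _) h1
    rw [map_conj_map_conj] at hk
    have hm : k * g ∈ Subgroup.normalizer (Q : Set G) :=
      mem_normalizer_iff_map_conj.mpr (eq_of_le_of_card_map_conj hk le_rfl)
    refine ⟨k * g, hm, (k * g)⁻¹ * k⁻¹ * (k * g), ?_, by group⟩
    have := hNn.conj_mem k⁻¹ (inv_mem hkN) (k * g)⁻¹
    rwa [inv_inv] at this
  -- control of strong fusion in `Q` w.r.t. `G` by `T`
  have hctrlG : ∀ A : Subgroup G, A ≤ Q → ∀ g : G, A.map (MulAut.conj g).toMonoidHom ≤ Q →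
      ∃ t ∈ T, ∃ c ∈ N ⊓ Subgroup.centralizer (A : Set G), g = t * c := by
    intro A hA g hAg
    obtain ⟨m, hm, n, hn, rfl⟩ := hfrat g
    have hAn : A.map (MulAut.conj n).toMonoidHom ≤ Q := by
      rw [← map_conj_map_conj] at hAg
      have := Subgroup.map_mono (f := (MulAut.conj m⁻¹).toMonoidHom) hAg
      rw [map_conj_inv_map_conj, mem_normalizer_iff_map_conj.mp (inv_mem hm)] at this
      exact this
    obtain ⟨h, hh, c, hc, rfl⟩ := hctrlW A hA n hn hAn
    exact ⟨m * h, mul_mem (hNQT hm) hh.2, c, hc, by rw [mul_assoc]⟩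
  -- weak closure
  have hweak : ∀ g : G, W.map (MulAut.conj g).toMonoidHom ≤ Q → g ∈ T := by
    intro g hg
    obtain ⟨t, ht, c, hc, rfl⟩ := hctrlG W hWQ g hg
    exact mul_mem ht (Subgroup.centralizer_le_normalizer _ hc.2)
  -- exponent of P
  obtain ⟨a, ha⟩ := IsPGroup.iff_card.mp P.2
  have hPpow : ∀ g ∈ (P : Subgroup G), g ^ (p ^ a) = 1 := by
    intro g hg
    have h1 : (⟨g, hg⟩ : ↥(P : Subgroup G)) ^ Nat.card ↥(P : Subgroup G) = 1 := pow_card_eq_one'
    rw [ha] at h1
    have h2 := congrArg Subtype.val h1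
    simpa using h2
  -- the local step
  have hloc : ∀ D ∈ sylNormFamily p (P : Subgroup G),
      (∀ M : Subgroup G, M ≤ Subgroup.normalizer (D : Set G) →
        Subgroup.normalizer (D : Set G) ≤ Subgroup.normalizer (M : Set G) →
        (∀ y ∈ M, ∃ j : ℕ, y ^ (p ^ j) ∈ Subgroup.centralizer (D : Set G)) →
        M ⊓ (P : Subgroup G) ≤ D) →
      ∀ x ∈ Subgroup.normalizer (D : Set G), Good W (D : Set G) x := by
    intro D hD hrad x hx
    refine ⟨x, ?_, fun b _ => rfl⟩
    change x ∈ T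
    obtain ⟨hDP, -⟩ := hD
    have hDT : D ≤ T := hDP.trans (hPNQ.trans hNQT)
    set D₀ : Subgroup G := D ⊓ N with hD₀
    have hD₀Q : D₀ ≤ Q := inf_le_inf_right N hDP
    set ND : Subgroup G := Subgroup.normalizer (D : Set G) with hND
    set K : Subgroup G := N ⊓ ND with hK
    set W' : Subgroup G := W ⊓ Subgroup.normalizer (D₀ : Set G) with hW'
    set C₀ : Subgroup G := Subgroup.centralizer (D₀ : Set G) with hC₀
    set E : Subgroup G := W' ⊔ C₀ with hE
    set M : Subgroup G := K ⊓ E with hM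
    have hNDD₀ : ND ≤ Subgroup.normalizer (D₀ : Set G) :=
      le_normalizer_inf le_rfl (top_le_normalizer_normal N _)
    have hW'C₀ : W' ≤ Subgroup.normalizer (C₀ : Set G) :=
      inf_le_right.trans (NC.normalizer_le_normalizer_centralizer D₀)
    have hM1 : M ≤ ND := inf_le_left.trans inf_le_right
    have hM2 : ND ≤ Subgroup.normalizer (M : Set G) := by
      intro g hg
      have hgK : g ∈ Subgroup.normalizer (K : Set G) :=
        le_normalizer_inf (M := ND) (top_le_normalizer_normal N _) Subgroup.le_normalizer hg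
      have hgD₀ : g ∈ Subgroup.normalizer (D₀ : Set G) := hNDD₀ hg
      obtain ⟨t, ht, c, hc, hgtc⟩ := hctrlG D₀ hD₀Q g
        (by rw [mem_normalizer_iff_map_conj.mp hgD₀]; exact hD₀Q)
      have hcE : c ∈ E := le_sup_right (a := W') hc.2
      have htD₀ : t ∈ Subgroup.normalizer (D₀ : Set G) := by
        have : t = g * c⁻¹ := by rw [hgtc]; group
        rw [this]
        exact mul_mem hgD₀ (inv_mem (Subgroup.centralizer_le_normalizer _ hc.2))
      have htW' : t ∈ Subgroup.normalizer (W' : Set G) :=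
        le_normalizer_inf (M := T ⊓ Subgroup.normalizer (D₀ : Set G)) inf_le_left
          (inf_le_right.trans Subgroup.le_normalizer) ⟨ht, htD₀⟩
      have htC₀ : t ∈ Subgroup.normalizer (C₀ : Set G) :=
        NC.normalizer_le_normalizer_centralizer D₀ htD₀
      have htE : t ∈ Subgroup.normalizer (E : Set G) :=
        NC.normalizer_inf_le_normalizer_sup' W' C₀ ⟨htW', htC₀⟩
      have hgE : g ∈ Subgroup.normalizer (E : Set G) := by
        rw [hgtc]
        exact mul_mem htE (Subgroup.le_normalizer hcE)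
      exact le_normalizer_inf
        (M := Subgroup.normalizer (K : Set G) ⊓ Subgroup.normalizer (E : Set G))
        inf_le_left inf_le_right ⟨hgK, hgE⟩
    have hM3 : ∀ y ∈ M, ∃ j : ℕ, y ^ (p ^ j) ∈ Subgroup.centralizer (D : Set G) := by
      intro y hy
      have hyK : y ∈ K := hy.1
      have hyE : y ∈ E := hy.2
      rw [← SetLike.mem_coe, Subgroup.coe_mul_of_left_le_normalizer_right W' C₀ hW'C₀,
        Set.mem_mul] at hyE
      obtain ⟨w, hw, c, hc, rfl⟩ := hyE
      have hpow : ∀ n : ℕ, ∃ c' ∈ C₀, (w * c) ^ n = w ^ n * c' := by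
        intro n
        induction n with
        | zero => exact ⟨1, one_mem _, by simp⟩
        | succ n ih =>
          obtain ⟨c', hc', e⟩ := ih
          refine ⟨w⁻¹ * c' * w * c, mul_mem ?_ hc, ?_⟩
          · have := (Subgroup.mem_normalizer_iff.mp (inv_mem (hW'C₀ hw)) c').mp hc'
            simpa using this
          · rw [pow_succ, e, pow_succ]
            simp only [mul_assoc, mul_inv_cancel_left]
      obtain ⟨z', hz'C, hz'⟩ := hpow (p ^ a)
      have hwP : w ∈ (P : Subgroup G) := hQP (hWQ hw.1)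
      rw [hPpow w hwP, one_mul] at hz'
      set z := (w * c) ^ (p ^ a) with hz
      have hzK : z ∈ K := K.pow_mem hyK _
      have hzC : z ∈ C₀ := hz' ▸ hz'C
      refine ⟨a + a, ?_⟩
      rw [pow_add, pow_mul, ← hz]
      rw [Subgroup.mem_centralizer_iff]
      intro d hd
      set e := z * d * z⁻¹ * d⁻¹ with he
      have heD : e ∈ D := mul_mem ((Subgroup.mem_normalizer_iff.mp hzK.2 d).mp hd) (inv_mem hd)
      have heN : e ∈ N := by
        have h1 : d * z⁻¹ * d⁻¹ ∈ N := hNn.conj_mem _ (inv_mem hzK.1) d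
        have : e = z * (d * z⁻¹ * d⁻¹) := by rw [he]; group
        rw [this]
        exact mul_mem hzK.1 h1
      have heD₀ : e ∈ D₀ := ⟨heD, heN⟩
      have hze : Commute z e := (Subgroup.mem_centralizer_iff.mp hzC e heD₀).symm
      have hzd : z * d = e * d * z := by rw [he]; group
      have hcomm : ∀ n : ℕ, z ^ n * d = e ^ n * d * z ^ n := by
        intro n
        induction n with
        | zero => simp
        | succ n ih =>
          have hzen : z * e ^ n = e ^ n * z := (hze.pow_right n).eq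
          calc z ^ (n + 1) * d = z * (z ^ n * d) := by rw [pow_succ', mul_assoc]
            _ = z * (e ^ n * d * z ^ n) := by rw [ih]
            _ = (z * e ^ n) * d * z ^ n := by simp only [mul_assoc]
            _ = (e ^ n * z) * d * z ^ n := by rw [hzen]
            _ = e ^ n * (z * d) * z ^ n := by simp only [mul_assoc]
            _ = e ^ n * (e * d * z) * z ^ n := by rw [hzd]
            _ = e ^ (n + 1) * d * z ^ (n + 1) := by
              rw [pow_succ, pow_succ']
              simp only [mul_assoc]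
      have := hcomm (p ^ a)
      rw [hPpow e (hDP heD), one_mul] at this
      exact this.symm
    have hMD := hrad M hM1 hM2 hM3
    have hNWD : W ⊓ ND ≤ D := by
      intro w hw
      apply hMD
      have hwN : w ∈ N := hQN (hWQ hw.1)
      exact ⟨⟨⟨hwN, hw.2⟩, le_sup_left (b := C₀) ⟨hw.1, hNDD₀ hw.2⟩⟩, hQP (hWQ hw.1)⟩
    have hWD : W ≤ D := by
      by_contra hnot
      have hlt : D < W ⊔ D :=
        lt_of_le_of_ne le_sup_right (fun h => hnot (le_sup_left.trans h.ge))
      have hpg : IsPGroup p ↥(W ⊔ D) := P.2.to_le (sup_le (hWQ.trans hQP) hDP)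
      obtain ⟨n, hn, hnD, hnN⟩ :=
        Cfsg.Agent.Lib.H16.exists_mem_normalizer_not_mem (W ⊔ D) D hpg hlt
      rw [← SetLike.mem_coe, Subgroup.coe_mul_of_right_le_normalizer_left W D hDT,
        Set.mem_mul] at hn
      obtain ⟨w, hw, d, hd, rfl⟩ := hn
      apply hnD
      have hwND : w ∈ ND := by
        have : w = w * d * d⁻¹ := by group
        rw [this]
        exact mul_mem hnN (inv_mem (Subgroup.le_normalizer hd))
      exact mul_mem (hNWD ⟨hw, hwND⟩) hd
    apply hweak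
    have h1 : W.map (MulAut.conj x).toMonoidHom ≤ D := by
      rw [← mem_normalizer_iff_map_conj.mp hx]
      exact Subgroup.map_mono hWD
    have h2 : W.map (MulAut.conj x).toMonoidHom ≤ N := by
      rw [← map_conj_normal N x]
      exact Subgroup.map_mono (hWQ.trans hQN)
    exact fun y hy => ⟨hDP (h1 hy), h2 hy⟩
  have hcent : ∀ (T' : Subgroup G) (c : G), T' ≤ (P : Subgroup G) →
      c ∈ Subgroup.centralizer (T' : Set G) → Good W (T' : Set G) c := by
    intro T' c _ hc
    refine ⟨1, one_mem _, fun b hb => ?_⟩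
    have := Subgroup.mem_centralizer_iff.mp hc b hb
    rw [mul_assoc, this, inv_mul_cancel_left]
    simp
  have main := good_of_radical P (Good W) (fun h hB => good_res h hB)
    (fun h1 h2 => good_trans h1 h2) (fun h => good_symm h) hcent hloc
  intro A hA g hAg
  obtain ⟨y, hy, hyb⟩ := main A hA g⁻¹ (by rwa [inv_inv])
  refine ⟨y⁻¹, inv_mem hy, y * g, ?_, by group⟩
  rw [Subgroup.mem_centralizer_iff]
  intro b hb
  have := hyb b hb
  rw [inv_inv] at this
  calc b * (y * g) = y * (y⁻¹ * b * y) * g := by group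
    _ = y * (g * b * g⁻¹) * g := by rw [this]
    _ = y * g * b := by group

end Cfsg.Agent.S1954
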