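import Cfsg.Statements.S1957
import Cfsg.Agent.Lib.H9.CoprimeGeneration
import Cfsg.Agent.Lib.H16.ConjSub
import Cfsg.Agent.Lib.H16.OddStable
import Cfsg.Agent.Lib.H1.PCore
import Cfsg.Agent.Lib.H1.NilpotentBasic
-- import your own Cfsg.Agent.* helpers here

set_option autoImplicit false
open Cfsg

namespace Cfsg.Agent.S1957

open Cfsg

section Four
variable {G : Type*} [Group G]

theorem conj_eq_of_comm {z g w : G} (hg : g * z = z * g) (hw : w ∈ Subgroup.zpowers z) :
    g * w * g⁻¹ = w := by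
  obtain ⟨k, rfl⟩ := Subgroup.mem_zpowers_iff.1 hw
  have : Commute g (z ^ k) := (show Commute g z from hg).zpow_right k
  rw [this.eq]; group

/-- index two trick in a four-group -/
theorem four_mul_inv_mem {U : Subgroup G} (h4 : Nat.card U = 4) {z : G} (hzU : z ∈ U)
    (hz : orderOf z = 2) {a b : G} (ha : a ∈ U) (hb : b ∈ U)
    (haz : a ∉ Subgroup.zpowers z) (hbz : b ∉ Subgroup.zpowers z) :
    a * b⁻¹ ∈ Subgroup.zpowers z := by
  have hzU' : Subgroup.zpowers z ≤ U := Subgroup.zpowers_le.2 hzU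
  obtain ⟨H, hH⟩ : ∃ H : Subgroup U, H = (Subgroup.zpowers z).subgroupOf U := ⟨_, rfl⟩
  have hcard : Nat.card H = 2 := by
    rw [hH, Nat.card_congr (Subgroup.subgroupOfEquivOfLe hzU').toEquiv, Nat.card_zpowers, hz]
  have hidx : H.index = 2 := by
    have := H.card_mul_index
    rw [hcard, h4] at this
    omega
  have key := Subgroup.mul_mem_iff_of_index_two hidx (a := (⟨a, ha⟩ : U))
    (b := (⟨b⁻¹, U.inv_mem hb⟩ : U))
  have h1 : (⟨a, ha⟩ : U) ∉ H := by rw [hH, Subgroup.mem_subgroupOf]; exact haz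
  have h2 : (⟨b⁻¹, U.inv_mem hb⟩ : U) ∉ H := by
    rw [hH, Subgroup.mem_subgroupOf]
    intro h
    exact hbz (by simpa using Subgroup.inv_mem _ h)
  have h3 : ((⟨a, ha⟩ : U) * (⟨b⁻¹, U.inv_mem hb⟩ : U)) ∈ H :=
    key.2 ⟨fun h => absurd h h1, fun h => absurd h h2⟩
  rw [hH, Subgroup.mem_subgroupOf] at h3
  exact h3

theorem four_comm_mem {U : Subgroup G} (h4 : Nat.card U = 4) {z : G} (hzU : z ∈ U)
    (hz : orderOf z = 2) {x y : G} (hx : x ∈ U) (hyU : ∀ w ∈ U, y * w * y⁻¹ ∈ U)
    (hyz : y * z = z * y) :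
    x * y * x⁻¹ * y⁻¹ ∈ Subgroup.zpowers z := by
  have h1 : x * y * x⁻¹ * y⁻¹ = x * (y * x * y⁻¹)⁻¹ := by group
  rw [h1]
  by_cases hxz : x ∈ Subgroup.zpowers z
  · rw [conj_eq_of_comm hyz hxz, mul_inv_cancel]; exact Subgroup.one_mem _
  · apply four_mul_inv_mem h4 hzU hz hx (hyU x hx) hxz
    intro h
    apply hxz
    have hyz' : y⁻¹ * z = z * y⁻¹ := by
      have e1 : y⁻¹ * z = y⁻¹ * (z * y) * y⁻¹ := by group
      rw [e1, ← hyz]; group
    have h2 := conj_eq_of_comm hyz' h
    have h3 : y⁻¹ * (y * x * y⁻¹) * y⁻¹⁻¹ = x := by group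
    rw [h3] at h2
    rw [h2]; exact h

theorem four_le_of_mem {U V : Subgroup G} (h4 : Nat.card U = 4) {z u : G} (hzU : z ∈ U)
    (hz : orderOf z = 2) (huU : u ∈ U) (huz : u ∉ Subgroup.zpowers z) (hzV : z ∈ V)
    (huV : u ∈ V) : U ≤ V := by
  intro x hx
  by_cases hxz : x ∈ Subgroup.zpowers z
  · exact (Subgroup.zpowers_le.2 hzV) hxz
  · have h1 := four_mul_inv_mem h4 hzU hz hx huU hxz huz
    have h2 : x * u⁻¹ ∈ V := (Subgroup.zpowers_le.2 hzV) h1
    have h3 : x = x * u⁻¹ * u := by group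
    rw [h3]; exact V.mul_mem h2 huV

theorem four_conj_mem {U : Subgroup G} (h4 : Nat.card U = 4) {z u t : G} (hzU : z ∈ U)
    (hz : orderOf z = 2) (huU : u ∈ U) (huz : u ∉ Subgroup.zpowers z)
    (htu : t * u * t⁻¹ ∈ U) (htz : t * z * t⁻¹ ∈ U) : ∀ x ∈ U, t * x * t⁻¹ ∈ U := by
  have h := four_le_of_mem (V := U.comap (MulAut.conj t).toMonoidHom) h4 hzU hz huU huz
    (by simpa using htz) (by simpa using htu)
  intro x hx
  simpa using h hx

end Four

/-- in a group of characteristic 2 with a central involution `z`: an element acting trivially on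
`O_2(L)` modulo `⟨z⟩` lies in `O_2(L)`. -/
theorem mem_pCore_two_of_comm {L : Type*} [Group L] [Finite L]
    (hchar : Subgroup.centralizer (pCore 2 L : Set L) ≤ pCore 2 L)
    (z : L) (hz : z ∈ Subgroup.center L) (hz2 : z ^ 2 = 1)
    (x : L) (hx : ∀ y ∈ pCore 2 L, x * y * x⁻¹ * y⁻¹ ∈ Subgroup.zpowers z) : x ∈ pCore 2 L := by
  have h2 : Fact (Nat.Prime 2) := ⟨Nat.prime_two⟩
  have hQn := Cfsg.Agent.Lib.H1.pCore_normal 2 L
  have hQp := Cfsg.Agent.Lib.H1.pCore_isPGroup 2 L
  have hZc : ∀ c ∈ Subgroup.zpowers z, ∀ g : L, g * c = c * g := by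
    intro c hc g
    have : c ∈ Subgroup.center L := (Subgroup.zpowers_le.2 hz) hc
    exact (Subgroup.mem_center_iff.1 this g)
  have hZ2 : ∀ c ∈ Subgroup.zpowers z, c ^ 2 = 1 := by
    intro c hc
    obtain ⟨k, rfl⟩ := Subgroup.mem_zpowers_iff.1 hc
    rw [← zpow_natCast, ← zpow_mul, mul_comm, zpow_mul, zpow_natCast, hz2, one_zpow]
  obtain ⟨R, hR⟩ : ∃ R : Subgroup L, ∀ g, g ∈ R ↔
      ∀ y ∈ pCore 2 L, g * y * g⁻¹ * y⁻¹ ∈ Subgroup.zpowers z :=
    ⟨{ carrier := {g | ∀ y ∈ pCore 2 L, g * y * g⁻¹ * y⁻¹ ∈ Subgroup.zpowers z}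
       one_mem' := by intro y _; simp
       mul_mem' := by
         intro a b ha hb y hy
         have h1 := ha y hy
         have h2 := hb y hy
         have h3 : a * b * y * (a * b)⁻¹ * y⁻¹ =
             (a * (b * y * b⁻¹ * y⁻¹) * a⁻¹) * (a * y * a⁻¹ * y⁻¹) := by group
         have h4 : a * (b * y * b⁻¹ * y⁻¹) * a⁻¹ = b * y * b⁻¹ * y⁻¹ := by
           rw [hZc _ h2 a]; group
         rw [h3, h4]; exact Subgroup.mul_mem _ h2 h1
       inv_mem' := by
         intro a ha y hy
         have h1 := ha y hy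
         have h3 : a⁻¹ * y * a⁻¹⁻¹ * y⁻¹ = a⁻¹ * (a * y * a⁻¹ * y⁻¹)⁻¹ * a := by group
         have h4 : a⁻¹ * (a * y * a⁻¹ * y⁻¹)⁻¹ * a = (a * y * a⁻¹ * y⁻¹)⁻¹ := by
           rw [hZc _ (Subgroup.inv_mem _ h1) a⁻¹]; group
         rw [h3, h4]; exact Subgroup.inv_mem _ h1 }, fun g => Iff.rfl⟩
  have hRn : R.Normal := by
    constructor
    intro a ha g
    rw [hR] at ha ⊢
    intro y hy
    have hy' : g⁻¹ * y * g ∈ pCore 2 L := by simpa using hQn.conj_mem y hy g⁻¹
    have h1 := ha _ hy'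
    have h3 : g * a * g⁻¹ * y * (g * a * g⁻¹)⁻¹ * y⁻¹ =
        g * (a * (g⁻¹ * y * g) * a⁻¹ * (g⁻¹ * y * g)⁻¹) * g⁻¹ := by group
    rw [h3, hZc _ h1 g]
    simpa using h1
  have hRp : IsPGroup 2 R := by
    rintro ⟨g, hg⟩
    obtain ⟨j, hj⟩ := Cfsg.Agent.Lib.H16.exists_pow_coprime_order (p := 2) g
    refine ⟨j, Subtype.ext ?_⟩
    show g ^ (2 ^ j) = 1
    obtain ⟨e, he⟩ : ∃ e : L, e = g ^ (2 ^ j) := ⟨_, rfl⟩
    rw [← he] at hj ⊢
    have heR : e ∈ R := he ▸ R.pow_mem hg _
    have hecent : e ∈ Subgroup.centralizer (pCore 2 L : Set L) := by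
      rw [Subgroup.mem_centralizer_iff]
      intro y hy
      obtain ⟨c, hc⟩ : ∃ c : L, c = e * y * e⁻¹ * y⁻¹ := ⟨_, rfl⟩
      have hcZ : c ∈ Subgroup.zpowers z := hc ▸ (hR e).1 heR y hy
      have hey : e * y * e⁻¹ = c * y := by rw [hc]; group
      have hpow : ∀ n : ℕ, e ^ n * y * (e ^ n)⁻¹ = c ^ n * y := by
        intro n
        induction n with
        | zero => simp
        | succ n ih =>
          have h5 : e ^ (n + 1) * y * (e ^ (n + 1))⁻¹ = e * (e ^ n * y * (e ^ n)⁻¹) * e⁻¹ := by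
            rw [pow_succ']; group
          have hcn : c ^ n ∈ Subgroup.zpowers z := Subgroup.pow_mem _ hcZ n
          rw [h5, ih]
          calc e * (c ^ n * y) * e⁻¹ = (e * c ^ n) * y * e⁻¹ := by group
            _ = c ^ n * e * y * e⁻¹ := by rw [hZc _ hcn e]
            _ = c ^ n * (e * y * e⁻¹) := by group
            _ = c ^ n * (c * y) := by rw [hey]
            _ = c ^ (n + 1) * y := by rw [pow_succ]; group
      have h6 := hpow (orderOf e)
      rw [pow_orderOf_eq_one] at h6
      have h7 : c ^ orderOf e = 1 := by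
        have : y = c ^ orderOf e * y := by simpa using h6
        exact (mul_eq_right.1 this.symm)
      have h8 : c ^ 2 = 1 := hZ2 c hcZ
      have hd1 : orderOf c ∣ orderOf e := orderOf_dvd_of_pow_eq_one h7
      have hd2 : orderOf c ∣ 2 := orderOf_dvd_of_pow_eq_one h8
      have h9 : orderOf c = 1 := Nat.Coprime.eq_one_of_dvd (Nat.Coprime.coprime_dvd_left hd1 hj) hd2
      have hc1 : c = 1 := orderOf_eq_one_iff.1 h9
      rw [hc1, one_mul] at hey
      calc y * e = (e * y * e⁻¹) * e := by rw [hey]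
        _ = e * y := by group
    have he1 : e ∈ pCore 2 L := hchar hecent
    obtain ⟨k, hk⟩ := hQp ⟨e, he1⟩
    have hk' : e ^ (2 ^ k) = 1 := by simpa using congrArg Subtype.val hk
    have hd : orderOf e ∣ 2 ^ k := orderOf_dvd_of_pow_eq_one hk'
    have : orderOf e = 1 := Nat.Coprime.eq_one_of_dvd (Nat.Coprime.pow_right k hj) hd
    exact orderOf_eq_one_iff.1 this
  exact Cfsg.Agent.Lib.H1.le_pCore hRn hRp ((hR x).2 hx)

section KL
variable {G : Type*} [Group G] [Finite G]

theorem eq_one_or_eq_of_mem_zpowers {z w : G} (hz : orderOf z = 2) (hw : w ∈ Subgroup.zpowers z) :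
    w = 1 ∨ w = z := by
  obtain ⟨k, rfl⟩ := Subgroup.mem_zpowers_iff.1 hw
  rw [← zpow_mod_orderOf, hz]
  rcases Int.emod_two_eq_zero_or_one k with h | h
  · left
    have h' : k % ((2 : ℕ) : ℤ) = 0 := by exact_mod_cast h
    rw [h']; simp
  · right
    have h' : k % ((2 : ℕ) : ℤ) = 1 := by exact_mod_cast h
    rw [h']; simp

theorem mem_nzr_zpowers_iff {z g : G} (hz : orderOf z = 2) :
    g ∈ Subgroup.normalizer ((Subgroup.zpowers z : Subgroup G) : Set G) ↔ g * z = z * g := by
  constructor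
  · intro hg
    have h1 : g * z * g⁻¹ ∈ Subgroup.zpowers z :=
      (Subgroup.mem_normalizer_iff.1 hg z).1 (Subgroup.mem_zpowers z)
    rcases eq_one_or_eq_of_mem_zpowers hz h1 with h | h
    · exfalso
      have hz1 : z = 1 := by
        have : z = g⁻¹ * (g * z * g⁻¹) * g := by group
        rw [this, h]; group
      rw [hz1, orderOf_one] at hz
      omega
    · calc g * z = (g * z * g⁻¹) * g := by group
        _ = z * g := by rw [h]
  · intro hg
    apply Cfsg.Agent.Lib.H16.mem_normalizer_of_conj_mem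
    intro x hx
    have hx' : x ∈ Subgroup.zpowers z := hx
    rw [conj_eq_of_comm hg hx']; exact hx

/-- key lemma: a four-group `U` normal in a `2`-subgroup `T ≥ O_2(L)` of `L = C_G(z)`, `z ∈ U`,
lies in `O_2(L)` when `L` has characteristic `2`. -/
theorem four_le_pCore_of_sylow {z : G} (hz : orderOf z = 2)
    (hchar : IsOfCharacteristicTwo
      ↥(Subgroup.normalizer ((Subgroup.zpowers z : Subgroup G) : Set G)))
    (T U : Subgroup G)
    (hTL : T ≤ Subgroup.normalizer ((Subgroup.zpowers z : Subgroup G) : Set G))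
    (hQT : (pCore 2 ↥(Subgroup.normalizer ((Subgroup.zpowers z : Subgroup G) : Set G))).map
      (Subgroup.subtype _) ≤ T)
    (hUT : U ≤ T) (hTU : T ≤ Subgroup.normalizer (U : Set G)) (hzU : z ∈ U)
    (h4 : Nat.card U = 4) :
    U ≤ (pCore 2 ↥(Subgroup.normalizer ((Subgroup.zpowers z : Subgroup G) : Set G))).map
      (Subgroup.subtype _) := by
  obtain ⟨L, hL⟩ : ∃ L : Subgroup G,
      L = Subgroup.normalizer ((Subgroup.zpowers z : Subgroup G) : Set G) := ⟨_, rfl⟩
  rw [← hL] at hchar hTL hQT ⊢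
  have hLmem : ∀ g, g ∈ L ↔ g * z = z * g := fun g => by rw [hL]; exact mem_nzr_zpowers_iff hz
  intro x hx
  have hxL : x ∈ L := hTL (hUT hx)
  have hzL : z ∈ L := (hLmem z).2 rfl
  have key : (⟨x, hxL⟩ : L) ∈ pCore 2 ↥L := by
    apply mem_pCore_two_of_comm hchar ⟨z, hzL⟩
    · rw [Subgroup.mem_center_iff]
      intro g
      apply Subtype.ext
      simp only [Subgroup.coe_mul]
      exact (hLmem g).1 g.2
    · apply Subtype.ext
      simp only [Subgroup.coe_pow, Subgroup.coe_one]
      rw [← hz]; exact pow_orderOf_eq_one z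
    · intro y hy
      have hyQ : (y : G) ∈ (pCore 2 ↥L).map L.subtype := Subgroup.mem_map.2 ⟨y, hy, rfl⟩
      have hyT : (y : G) ∈ T := hQT hyQ
      have hyN := hTU hyT
      have h1 := four_comm_mem h4 hzU hz hx
        (fun w hw => (Subgroup.mem_normalizer_iff.1 hyN w).1 hw) ((hLmem y).1 y.2)
      obtain ⟨k, hk⟩ := Subgroup.mem_zpowers_iff.1 h1
      rw [Subgroup.mem_zpowers_iff]
      refine ⟨k, Subtype.ext ?_⟩
      simp [hk]
  exact Subgroup.mem_map.2 ⟨⟨x, hxL⟩, key, rfl⟩

end KL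

section Main
variable {G : Type*} [Group G] [Finite G]

theorem unique_involution_of_isCyclic {C : Type*} [Group C] [Finite C] [IsCyclic C] {a b : C}
    (ha : orderOf a = 2) (hb : orderOf b = 2) : a = b := by
  classical
  have : Fintype C := Fintype.ofFinite C
  have hd : 2 ∣ Fintype.card C := ha ▸ orderOf_dvd_card
  have h := IsCyclic.card_orderOf_eq_totient hd
  rw [Nat.totient_two] at h
  exact Finset.card_le_one.1 h.le a (by simp [ha]) b (by simp [hb])

/-- relative index two facts -/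
theorem rel_index_two {T T' : Subgroup G} (hTT : T ≤ T') (hcard : Nat.card T' = 2 * Nat.card T) :
    (∀ t ∈ T', ∀ s ∈ T, t * s * t⁻¹ ∈ T) ∧ (∀ t ∈ T', t ^ 2 ∈ T) ∧
    (∀ a ∈ T', ∀ t ∈ T', a ∉ T → t ∉ T → a * t⁻¹ ∈ T) := by
  obtain ⟨H, hH⟩ : ∃ H : Subgroup T', H = T.subgroupOf T' := ⟨_, rfl⟩
  have hc : Nat.card H = Nat.card T := by
    rw [hH]; exact Nat.card_congr (Subgroup.subgroupOfEquivOfLe hTT).toEquiv
  have hidx : H.index = 2 := by
    have h1 := H.card_mul_index
    rw [hc, hcard] at h1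
    have hpos : 0 < Nat.card T := Nat.card_pos
    have h2 : Nat.card T * H.index = Nat.card T * 2 := by rw [h1]; ring
    exact Nat.eq_of_mul_eq_mul_left hpos h2
  have hn : H.Normal := Subgroup.normal_of_index_eq_two hidx
  refine ⟨?_, ?_, ?_⟩
  · intro t ht s hs
    have h1 : (⟨s, hTT hs⟩ : T') ∈ H := by rw [hH, Subgroup.mem_subgroupOf]; exact hs
    have h2 := hn.conj_mem ⟨s, hTT hs⟩ h1 ⟨t, ht⟩
    rw [hH, Subgroup.mem_subgroupOf] at h2
    simpa using h2
  · intro t ht
    have h1 := Subgroup.sq_mem_of_index_two hidx (⟨t, ht⟩ : T')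
    rw [hH, Subgroup.mem_subgroupOf] at h1
    simpa using h1
  · intro a ha t ht haT htT
    have key := Subgroup.mul_mem_iff_of_index_two hidx (a := (⟨a, ha⟩ : T'))
      (b := (⟨t⁻¹, T'.inv_mem ht⟩ : T'))
    have h1 : (⟨a, ha⟩ : T') ∉ H := by rw [hH, Subgroup.mem_subgroupOf]; exact haT
    have h2 : (⟨t⁻¹, T'.inv_mem ht⟩ : T') ∉ H := by
      rw [hH, Subgroup.mem_subgroupOf]
      intro h
      exact htT (by simpa using T.inv_mem h)
    have h3 := key.2 ⟨fun h => absurd h h1, fun h => absurd h h2⟩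
    rw [hH, Subgroup.mem_subgroupOf] at h3
    exact h3

theorem card_eq_two_mul_card {P T : Subgroup G} (hTP : T ≤ P) (a : G) (haP : a ∈ P) (haT : a ∉ T)
    (h : ∀ b ∈ P, b * a ∈ T ∨ b ∈ T) : Nat.card P = 2 * Nat.card T := by
  obtain ⟨H, hH⟩ : ∃ H : Subgroup P, H = T.subgroupOf P := ⟨_, rfl⟩
  have hc : Nat.card H = Nat.card T := by
    rw [hH]; exact Nat.card_congr (Subgroup.subgroupOfEquivOfLe hTP).toEquiv
  have hidx : H.index = 2 := by
    rw [Subgroup.index_eq_two_iff_exists_notMem_and]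
    refine ⟨⟨a, haP⟩, ?_, ?_⟩
    · rw [hH, Subgroup.mem_subgroupOf]; exact haT
    · rintro ⟨b, hb⟩
      rw [hH, Subgroup.mem_subgroupOf, Subgroup.mem_subgroupOf]
      exact h b hb
  have h1 := H.card_mul_index
  rw [hc, hidx] at h1
  omega

end Main

section Main2
variable {G : Type*} [Group G] [Finite G]

theorem four_le_pCore_centralizer (h2 : IsCharacteristicTwoType G)
    (P : Sylow 2 G) (U : Subgroup G) (hUP : U ≤ (P : Subgroup G))
    (hUn : (P : Subgroup G) ≤ Subgroup.normalizer (U : Set G))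
    (h4 : Nat.card U = 4) (hexp : ∀ x ∈ U, x ^ 2 = 1)
    (hUZ : ¬ IsCyclic ↥((P : Subgroup G) ⊓ Subgroup.centralizer ((P : Subgroup G) : Set G)) →
      U ≤ Subgroup.centralizer ((P : Subgroup G) : Set G))
    (u : G) (huU : u ∈ U) (hu1 : u ≠ 1) :
    U ≤ (pCore 2 ↥(Subgroup.normalizer ((Subgroup.zpowers u : Subgroup G) : Set G))).map
      (Subgroup.subtype _) := by
  have hf2 : Fact (Nat.Prime 2) := ⟨Nat.prime_two⟩
  have hu2 : orderOf u = 2 := orderOf_eq_prime (hexp u huU) hu1
  have hinv : ∀ x ∈ U, x⁻¹ = x := by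
    intro x hx
    rw [inv_eq_iff_mul_eq_one, ← pow_two]; exact hexp x hx
  have hcomm : ∀ x ∈ U, ∀ y ∈ U, x * y = y * x := by
    intro x hx y hy
    have h1 := hinv _ (U.mul_mem hx hy)
    rw [mul_inv_rev, hinv x hx, hinv y hy] at h1
    exact h1.symm
  have hP2 : IsPGroup 2 (P : Subgroup G) := P.2
  have hchar : IsOfCharacteristicTwo
      ↥(Subgroup.normalizer ((Subgroup.zpowers u : Subgroup G) : Set G)) := by
    apply h2.2 (Subgroup.zpowers u)
    · exact hP2.to_le (Subgroup.zpowers_le.2 (hUP huU))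
    · intro h
      apply hu1
      have : u ∈ (⊥ : Subgroup G) := h ▸ Subgroup.mem_zpowers u
      exact Subgroup.mem_bot.1 this
  have hLmem : ∀ g, g ∈ Subgroup.normalizer ((Subgroup.zpowers u : Subgroup G) : Set G) ↔
      g * u = u * g := fun g => mem_nzr_zpowers_iff hu2
  by_cases hc : ∀ y ∈ (P : Subgroup G), y * u = u * y
  · -- Case A: u central in P
    have hPL : (P : Subgroup G) ≤
        Subgroup.normalizer ((Subgroup.zpowers u : Subgroup G) : Set G) :=
      fun y hy => (hLmem y).2 (hc y hy)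
    apply four_le_pCore_of_sylow hu2 hchar (P : Subgroup G) U hPL ?_ hUP hUn huU h4
    have h1 := Subgroup.map_mono (f := Subgroup.subtype _)
      (Cfsg.Agent.Lib.H1.pCore_le_sylow (P.subtype hPL))
    rw [Sylow.coe_subtype, Subgroup.map_subgroupOf_eq_of_le hPL] at h1
    exact h1
  · -- Case B
    push Not at hc
    obtain ⟨y₀, hy₀P, hy₀u⟩ := hc
    have hcyc : IsCyclic
        ↥((P : Subgroup G) ⊓ Subgroup.centralizer ((P : Subgroup G) : Set G)) := by
      by_contra hn
      have h1 := hUZ hn huU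
      exact hy₀u (Subgroup.mem_centralizer_iff.1 h1 y₀ hy₀P)
    obtain ⟨z, hzU, hz1, hzc⟩ : ∃ z ∈ U, z ≠ 1 ∧ ∀ y ∈ (P : Subgroup G), y * z = z * y := by
      have hnil : Group.IsNilpotent ↥(P : Subgroup G) := hP2.isNilpotent
      have hN : (U.subgroupOf (P : Subgroup G)).Normal := by
        constructor
        intro n hn g
        rw [Subgroup.mem_subgroupOf] at hn ⊢
        have h1 := (Subgroup.mem_normalizer_iff.1 (hUn g.2) n).1 hn
        simpa using h1
      have hNne : U.subgroupOf (P : Subgroup G) ≠ ⊥ := by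
        intro h
        apply hu1
        have h1 : (⟨u, hUP huU⟩ : ↥(P : Subgroup G)) ∈ U.subgroupOf (P : Subgroup G) :=
          Subgroup.mem_subgroupOf.2 huU
        rw [h, Subgroup.mem_bot] at h1
        exact congrArg Subtype.val h1
      have h1 := Cfsg.Agent.Lib.H1.normal_inf_center_ne_bot (U.subgroupOf (P : Subgroup G)) hNne
      obtain ⟨⟨⟨z, hzP⟩, hzmem⟩, hzne⟩ := (Subgroup.ne_bot_iff_exists_ne_one).1 h1
      obtain ⟨hzm1, hzm2⟩ := Subgroup.mem_inf.1 hzmem
      refine ⟨z, Subgroup.mem_subgroupOf.1 hzm1, ?_, ?_⟩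
      · intro h
        apply hzne
        apply Subtype.ext
        apply Subtype.ext
        simpa using h
      · intro y hy
        have h3 := Subgroup.mem_center_iff.1 hzm2 ⟨y, hy⟩
        exact congrArg Subtype.val h3
    have hz2 : orderOf z = 2 := orderOf_eq_prime (hexp z hzU) hz1
    have hzu : u ∉ Subgroup.zpowers z := by
      intro h
      rcases eq_one_or_eq_of_mem_zpowers hz2 h with h | h
      · exact hu1 h
      · exact hy₀u (h ▸ hzc y₀ hy₀P)
    have hzP : z ∈ (P : Subgroup G) := hUP hzU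
    have hzz : z * z = 1 := by rw [← pow_two]; exact hexp z hzU
    have huniq : ∀ w₁ w₂ : G, w₁ ∈ (P : Subgroup G) → w₂ ∈ (P : Subgroup G) →
        (∀ y ∈ (P : Subgroup G), y * w₁ = w₁ * y) → (∀ y ∈ (P : Subgroup G), y * w₂ = w₂ * y) →
        orderOf w₁ = 2 → orderOf w₂ = 2 → w₁ = w₂ := by
      intro w₁ w₂ h1 h2' c1 c2 o1 o2
      have m1 : w₁ ∈ (P : Subgroup G) ⊓ Subgroup.centralizer ((P : Subgroup G) : Set G) :=
        Subgroup.mem_inf.2 ⟨h1, Subgroup.mem_centralizer_iff.2 c1⟩
      have m2 : w₂ ∈ (P : Subgroup G) ⊓ Subgroup.centralizer ((P : Subgroup G) : Set G) :=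
        Subgroup.mem_inf.2 ⟨h2', Subgroup.mem_centralizer_iff.2 c2⟩
      have e := unique_involution_of_isCyclic
        (C := ↥((P : Subgroup G) ⊓ Subgroup.centralizer ((P : Subgroup G) : Set G)))
        (a := ⟨w₁, m1⟩) (b := ⟨w₂, m2⟩)
        (by rw [← Subgroup.orderOf_coe]; exact o1) (by rw [← Subgroup.orderOf_coe]; exact o2)
      exact congrArg Subtype.val e
    have hconjP : ∀ y ∈ (P : Subgroup G), y * u * y⁻¹ = u ∨ y * u * y⁻¹ = z * u := by
      intro y hy
      have h1 := four_comm_mem h4 hzU hz2 huU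
        (fun w hw => (Subgroup.mem_normalizer_iff.1 (hUn hy) w).1 hw) (hzc y hy)
      have h3 : y * u * y⁻¹ = (u * y * u⁻¹ * y⁻¹)⁻¹ * u := by group
      rcases eq_one_or_eq_of_mem_zpowers hz2 h1 with h | h
      · left
        rw [h3, h]; group
      · right
        rw [h3, h, hinv z hzU]
    obtain ⟨T, hT⟩ : ∃ T : Subgroup G,
        T = (P : Subgroup G) ⊓ Subgroup.centralizer ({u} : Set G) := ⟨_, rfl⟩
    have hTmem : ∀ g, g ∈ T ↔ g ∈ (P : Subgroup G) ∧ g * u = u * g := by
      intro g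
      rw [hT, Subgroup.mem_inf, Subgroup.mem_centralizer_iff]
      constructor
      · rintro ⟨h1, h2'⟩
        exact ⟨h1, (h2' u rfl).symm⟩
      · rintro ⟨h1, h2'⟩
        exact ⟨h1, fun h hh => by rw [Set.mem_singleton_iff.1 hh]; exact h2'.symm⟩
    have hTP : T ≤ (P : Subgroup G) := fun g hg => ((hTmem g).1 hg).1
    have hy' : y₀ * u * y₀⁻¹ = z * u := by
      rcases hconjP y₀ hy₀P with h | h
      · exfalso
        apply hy₀u
        calc y₀ * u = (y₀ * u * y₀⁻¹) * y₀ := by group
          _ = u * y₀ := by rw [h]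
      · exact h
    have hcardP : Nat.card (P : Subgroup G) = 2 * Nat.card T := by
      apply card_eq_two_mul_card hTP y₀ hy₀P (fun h => hy₀u ((hTmem y₀).1 h).2)
      intro b hb
      by_cases hbT : b ∈ T
      · right; exact hbT
      · left
        rw [hTmem]
        refine ⟨Subgroup.mul_mem _ hb hy₀P, ?_⟩
        have hb' : b * u * b⁻¹ = z * u := by
          rcases hconjP b hb with h | h
          · exfalso
            apply hbT
            rw [hTmem]
            refine ⟨hb, ?_⟩
            calc b * u = (b * u * b⁻¹) * b := by group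
              _ = u * b := by rw [h]
          · exact h
        have hbz : b * z * b⁻¹ = z := by rw [hzc b hb]; group
        have h5 : (b * y₀) * u * (b * y₀)⁻¹ = u := by
          calc (b * y₀) * u * (b * y₀)⁻¹ = b * (y₀ * u * y₀⁻¹) * b⁻¹ := by group
            _ = b * (z * u) * b⁻¹ := by rw [hy']
            _ = (b * z * b⁻¹) * (b * u * b⁻¹) := by group
            _ = z * (z * u) := by rw [hbz, hb']
            _ = u := by rw [← mul_assoc, hzz, one_mul]
        calc b * y₀ * u = ((b * y₀) * u * (b * y₀)⁻¹) * (b * y₀) := by group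
          _ = u * (b * y₀) := by rw [h5]
    obtain ⟨L, hL⟩ : ∃ L : Subgroup G,
        L = Subgroup.normalizer ((Subgroup.zpowers u : Subgroup G) : Set G) := ⟨_, rfl⟩
    rw [← hL] at hchar hLmem ⊢
    have hTL : T ≤ L := fun g hg => (hLmem g).2 ((hTmem g).1 hg).2
    have hT2 : IsPGroup 2 T := hP2.to_le hTP
    obtain ⟨S, hS⟩ := (hT2.comap_subtype (K := L)).exists_le_sylow
    obtain ⟨TG, hTG⟩ : ∃ TG : Subgroup G, TG = (S : Subgroup ↥L).map L.subtype := ⟨_, rfl⟩
    have hTTG : T ≤ TG := by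
      intro g hg
      rw [hTG]
      exact Subgroup.mem_map.2 ⟨⟨g, hTL hg⟩, hS (Subgroup.mem_subgroupOf.2 hg), rfl⟩
    have hTGL : TG ≤ L := hTG ▸ Subgroup.map_subtype_le _
    have hTG2 : IsPGroup 2 TG := hTG ▸ S.2.map L.subtype
    have hQTG : (pCore 2 ↥L).map L.subtype ≤ TG :=
      hTG ▸ Subgroup.map_mono (Cfsg.Agent.Lib.H1.pCore_le_sylow S)
    have hUT : U ≤ T := fun x hx => (hTmem x).2 ⟨hUP hx, hcomm x hx u huU⟩
    have huT : u ∈ T := hUT huU
    have hzT : z ∈ T := hUT hzU
    have huTG : ∀ a ∈ TG, a * u = u * a := fun a ha => (hLmem a).1 (hTGL ha)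
    have hzcT : ∀ s ∈ T, s * z = z * s := fun s hs => hzc s (hTP hs)
    have hTGU : TG ≤ Subgroup.normalizer (U : Set G) := by
      by_cases hle : TG ≤ (P : Subgroup G)
      · exact hle.trans hUn
      · have hne : T ≠ TG := fun h => hle (h ▸ hTP)
        have hlt : Nat.card T < Nat.card TG := by
          by_contra hge
          push Not at hge
          exact hne (Subgroup.eq_of_le_of_card_ge hTTG hge)
        obtain ⟨a, ha⟩ := IsPGroup.iff_card.1 hT2
        obtain ⟨b, hb⟩ := IsPGroup.iff_card.1 hTG2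
        have hab : a < b := by
          rw [ha, hb] at hlt
          exact (Nat.pow_lt_pow_iff_right (by norm_num)).1 hlt
        have hge : Nat.card (P : Subgroup G) ≤ Nat.card TG := by
          rw [hcardP, ha, hb, ← pow_succ']
          exact Nat.pow_le_pow_right (by norm_num) hab
        obtain ⟨P', hP'⟩ := hTG2.exists_le_sylow
        have hcardP' : Nat.card (P' : Subgroup G) = Nat.card (P : Subgroup G) := by
          rw [Sylow.card_eq_multiplicity, Sylow.card_eq_multiplicity]
        have hTGP' : TG = (P' : Subgroup G) :=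
          Subgroup.eq_of_le_of_card_ge hP' (by rw [hcardP']; exact hge)
        obtain ⟨g, hg⟩ := MulAction.exists_smul_eq G P P'
        have hTGmem : ∀ x, x ∈ TG ↔ g⁻¹ * x * g ∈ (P : Subgroup G) := by
          intro x
          rw [hTGP', ← hg, Sylow.coe_subgroup_smul, Cfsg.Agent.Lib.H1.mem_conj_smul_iff]
        have hcardTG : Nat.card TG = 2 * Nat.card T := by rw [hTGP', hcardP', hcardP]
        obtain ⟨hnorm, hsq, hcos⟩ := rel_index_two hTTG hcardTG
        obtain ⟨t, htTG, htT⟩ : ∃ t ∈ TG, t ∉ T := by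
          by_contra hcon
          push Not at hcon
          exact hne (le_antisymm hTTG hcon)
        obtain ⟨z', hz'⟩ : ∃ z' : G, z' = t * z * t⁻¹ := ⟨_, rfl⟩
        have hz'T : z' ∈ T := hz' ▸ hnorm t htTG z hzT
        have hz'c : ∀ s ∈ T, s * z' = z' * s := by
          intro s hs
          have h1 : t⁻¹ * s * t ∈ T := by
            have h0 := hnorm t⁻¹ (TG.inv_mem htTG) s hs
            simpa using h0
          have h2' := hzcT _ h1
          calc s * z' = t * ((t⁻¹ * s * t) * z) * t⁻¹ := by rw [hz']; group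
            _ = t * (z * (t⁻¹ * s * t)) * t⁻¹ := by rw [h2']
            _ = z' * s := by rw [hz']; group
        have hz'z : z' * z = z * z' := hzcT z' hz'T
        obtain ⟨w, hw⟩ : ∃ w : G, w = z * z' := ⟨_, rfl⟩
        have hwTG : w ∈ TG := hw ▸ TG.mul_mem (hTTG hzT) (hTTG hz'T)
        have hwT : ∀ s ∈ T, s * w = w * s := by
          intro s hs
          rw [hw, ← mul_assoc, hzcT s hs, mul_assoc, hz'c s hs, ← mul_assoc]
        have hwt : t * w = w * t := by
          have ht2 : t * t ∈ T := by rw [← pow_two]; exact hsq t htTG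
          have h1 : t * z' * t⁻¹ = z := by
            have h0 := hzcT _ ht2
            calc t * z' * t⁻¹ = (t * t * z) * (t * t)⁻¹ := by rw [hz']; group
              _ = z := by rw [h0]; group
          have h3 : t * w * t⁻¹ = w := by
            calc t * w * t⁻¹ = (t * z * t⁻¹) * (t * z' * t⁻¹) := by rw [hw]; group
              _ = z' * z := by rw [h1, ← hz']
              _ = w := by rw [hw]; exact hz'z
          calc t * w = (t * w * t⁻¹) * t := by group
            _ = w * t := by rw [h3]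
        have hwc : ∀ a ∈ TG, a * w = w * a := by
          intro a ha
          by_cases haT : a ∈ T
          · exact hwT a haT
          · have hs := hcos a ha t htTG haT htT
            have h1 := hwT _ hs
            calc a * w = (a * t⁻¹) * (t * w) := by group
              _ = (a * t⁻¹) * (w * t) := by rw [hwt]
              _ = ((a * t⁻¹) * w) * t := by group
              _ = (w * (a * t⁻¹)) * t := by rw [h1]
              _ = w * a := by group
        have hz'2 : z' ^ 2 = 1 := by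
          rw [hz', pow_two]
          calc t * z * t⁻¹ * (t * z * t⁻¹) = t * (z * z) * t⁻¹ := by group
            _ = 1 := by rw [hzz]; group
        have hw2 : w ^ 2 = 1 := by
          rw [hw, (show Commute z z' from hz'z.symm).mul_pow, hexp z hzU, hz'2, one_mul]
        -- transport of central involutions
        have htrans : ∀ v ∈ TG, (∀ a ∈ TG, a * v = v * a) → v ^ 2 = 1 → v ≠ 1 →
            (g⁻¹ * v * g ∈ (P : Subgroup G)) ∧
            (∀ y ∈ (P : Subgroup G), y * (g⁻¹ * v * g) = (g⁻¹ * v * g) * y) ∧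
            orderOf (g⁻¹ * v * g) = 2 := by
          intro v hv hvc hv2 hv1
          refine ⟨(hTGmem v).1 hv, ?_, ?_⟩
          · intro y hy
            have hy' : g * y * g⁻¹ ∈ TG := by
              rw [hTGmem]
              have : g⁻¹ * (g * y * g⁻¹) * g = y := by group
              rw [this]; exact hy
            have h1 := hvc _ hy'
            calc y * (g⁻¹ * v * g) = g⁻¹ * ((g * y * g⁻¹) * v) * g := by group
              _ = g⁻¹ * (v * (g * y * g⁻¹)) * g := by rw [h1]
              _ = (g⁻¹ * v * g) * y := by group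
          · apply orderOf_eq_prime
            · rw [pow_two]
              calc g⁻¹ * v * g * (g⁻¹ * v * g) = g⁻¹ * (v * v) * g := by group
                _ = 1 := by rw [← pow_two, hv2]; group
            · intro h
              apply hv1
              calc v = g * (g⁻¹ * v * g) * g⁻¹ := by group
                _ = 1 := by rw [h]; group
        have hw_cases : w = 1 ∨ w = u := by
          by_cases hw1 : w = 1
          · left; exact hw1
          · right
            obtain ⟨a1, a2, a3⟩ := htrans w hwTG hwc hw2 hw1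
            obtain ⟨b1, b2, b3⟩ := htrans u (hTTG huT) huTG (hexp u huU) hu1
            have e := huniq _ _ a1 b1 a2 b2 a3 b3
            calc w = g * (g⁻¹ * w * g) * g⁻¹ := by group
              _ = g * (g⁻¹ * u * g) * g⁻¹ := by rw [e]
              _ = u := by group
        have htz : t * z * t⁻¹ ∈ U := by
          rcases hw_cases with h | h
          · have h1 : z' = z⁻¹ := by
              rw [hw] at h
              exact eq_inv_of_mul_eq_one_right h
            rw [← hz', h1]; exact U.inv_mem hzU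
          · have h1 : z' = z⁻¹ * u := by
              rw [hw] at h
              rw [← h]; group
            rw [← hz', h1]; exact U.mul_mem (U.inv_mem hzU) huU
        have htu : t * u * t⁻¹ ∈ U := by
          have h0 := huTG t htTG
          have e : t * u * t⁻¹ = u := by rw [h0]; group
          rw [e]; exact huU
        have htN : t ∈ Subgroup.normalizer (U : Set G) :=
          Cfsg.Agent.Lib.H16.mem_normalizer_of_conj_mem t U
            (four_conj_mem h4 hzU hz2 huU hzu htu htz)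
        intro a ha
        by_cases haT : a ∈ T
        · exact hUn (hTP haT)
        · have hs := hcos a ha t htTG haT htT
          have h0 : a = (a * t⁻¹) * t := by group
          rw [h0]
          exact Subgroup.mul_mem _ (hUn (hTP hs)) htN
    subst hL
    exact four_le_pCore_of_sylow hu2 hchar TG U hTGL hQTG (hUT.trans hTTG) hTGU huU h4

end Main2


/-- Let `G` be a finite non-abelian simple group in which every local subgroup is solvable and which is of characteristic 2 type. Let `P` be a Sylow 2-subgroup of `G` and `U` a normal subgroup of `P` that is a four-group, with `U` central in `P` if the centre of `P` is not cyclic. Then `U` centralizes every subgroup of odd order of `G` that it normalizes. -/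
theorem result {G : Type*} [Group G] [Finite G]
    [IsSimpleGroup G] (hna : ¬ IsMulCommutative G) (hN : Cfsg.IsNGroup G) (h2 : Cfsg.IsCharacteristicTwoType G)
    (P : Sylow 2 G) (U : Subgroup G) (hUP : U ≤ (P : Subgroup G)) (hUn : (P : Subgroup G) ≤ Subgroup.normalizer (U : Set G))
    (hU4 : IsKleinFour ↥U)
    (hUZ : ¬ IsCyclic ↥((P : Subgroup G) ⊓ Subgroup.centralizer ((P : Subgroup G) : Set G)) →
      U ≤ Subgroup.centralizer ((P : Subgroup G) : Set G))
    (K : Subgroup G) (hK : Odd (Nat.card K)) (hUK : U ≤ Subgroup.normalizer (K : Set G)) :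
    U ≤ Subgroup.centralizer (K : Set G) := by
  have hf2 : Fact (Nat.Prime 2) := ⟨Nat.prime_two⟩
  have h4 : Nat.card U = 4 := hU4.card_four
  have hexp : ∀ x ∈ U, x ^ 2 = 1 := by
    intro x hx
    have h1 := Monoid.pow_exponent_eq_one (⟨x, hx⟩ : U)
    rw [hU4.exponent_two] at h1
    simpa using congrArg Subtype.val h1
  have hmain : ∀ u ∈ U, u ≠ 1 →
      K ⊓ Subgroup.centralizer ({u} : Set G) ≤ Subgroup.centralizer (U : Set G) := by
    intro u huU hu1 d hd
    obtain ⟨hdK, hdu⟩ := Subgroup.mem_inf.1 hd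
    have hU_le := four_le_pCore_centralizer h2 P U hUP hUn h4 hexp hUZ u huU hu1
    have hu2 : orderOf u = 2 := orderOf_eq_prime (hexp u huU) hu1
    have hdL : d ∈ Subgroup.normalizer ((Subgroup.zpowers u : Subgroup G) : Set G) := by
      rw [mem_nzr_zpowers_iff hu2]
      exact ((Subgroup.mem_centralizer_iff.1 hdu) u rfl).symm
    obtain ⟨L, hL⟩ : ∃ L : Subgroup G,
        L = Subgroup.normalizer ((Subgroup.zpowers u : Subgroup G) : Set G) := ⟨_, rfl⟩
    rw [← hL] at hU_le hdL
    rw [Subgroup.mem_centralizer_iff]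
    intro x hx
    obtain ⟨c, hc⟩ : ∃ c : G, c = d * x * d⁻¹ * x⁻¹ := ⟨_, rfl⟩
    have hcK : c ∈ K := by
      have h1 : x * d⁻¹ * x⁻¹ ∈ K :=
        (Subgroup.mem_normalizer_iff.1 (hUK hx) d⁻¹).1 (K.inv_mem hdK)
      have h3 : c = d * (x * d⁻¹ * x⁻¹) := by rw [hc]; group
      rw [h3]; exact K.mul_mem hdK h1
    have hcQ : c ∈ (pCore 2 ↥L).map L.subtype := by
      obtain ⟨⟨x', hx'L⟩, hx'Q, hx'e⟩ := Subgroup.mem_map.1 (hU_le hx)
      have hxe : x' = x := hx'e
      subst hxe
      have hQn := Cfsg.Agent.Lib.H1.pCore_normal 2 ↥L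
      have h1 := hQn.conj_mem _ hx'Q ⟨d, hdL⟩
      have h3 := Subgroup.mul_mem _ h1 (Subgroup.inv_mem _ hx'Q)
      refine Subgroup.mem_map.2 ⟨_, h3, ?_⟩
      rw [hc]; rfl
    have hc1 : c = 1 := by
      have hQ2 : IsPGroup 2 ((pCore 2 ↥L).map L.subtype) :=
        (Cfsg.Agent.Lib.H1.pCore_isPGroup 2 ↥L).map _
      obtain ⟨k, hk⟩ := hQ2 ⟨c, hcQ⟩
      have hk' : c ^ (2 ^ k) = 1 := by simpa using congrArg Subtype.val hk
      have hd1 : orderOf c ∣ 2 ^ k := orderOf_dvd_of_pow_eq_one hk'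
      have hd2 : orderOf c ∣ Nat.card K := by
        have h0 := orderOf_dvd_natCard (⟨c, hcK⟩ : K)
        rwa [← Subgroup.orderOf_coe] at h0
      have hcop : Nat.Coprime (Nat.card K) (2 ^ k) :=
        Nat.Coprime.pow_right k (Nat.coprime_two_right.2 hK)
      have h5 : orderOf c = 1 :=
        Nat.Coprime.eq_one_of_dvd (Nat.Coprime.coprime_dvd_left hd2 hcop) hd1
      exact orderOf_eq_one_iff.1 h5
    rw [hc] at hc1
    calc x * d = (d * x * d⁻¹ * x⁻¹)⁻¹ * (d * x) := by group
      _ = d * x := by rw [hc1]; group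
  -- two distinct involutions
  have hUne : U ≠ ⊥ := by
    intro h
    rw [h, Subgroup.card_bot] at h4
    omega
  obtain ⟨u, huU, hu1⟩ : ∃ u ∈ U, u ≠ 1 := by
    obtain ⟨a, ha⟩ := (Subgroup.ne_bot_iff_exists_ne_one (H := U)).1 hUne
    exact ⟨(a : G), a.2, fun h => ha (Subtype.ext h)⟩
  have hu2 : orderOf u = 2 := orderOf_eq_prime (hexp u huU) hu1
  obtain ⟨v, hvU, hvu⟩ : ∃ v ∈ U, v ∉ Subgroup.zpowers u := by
    by_contra hcon
    push Not at hcon
    have hle : U ≤ Subgroup.zpowers u := hcon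
    have h1 := Subgroup.card_le_of_le hle
    rw [h4, Nat.card_zpowers, hu2] at h1
    omega
  have hcomm : ∀ x ∈ U, ∀ y ∈ U, x * y = y * x := by
    have hinv : ∀ x ∈ U, x⁻¹ = x := by
      intro x hx
      rw [inv_eq_iff_mul_eq_one, ← pow_two]; exact hexp x hx
    intro x hx y hy
    have h1 := hinv _ (U.mul_mem hx hy)
    rw [mul_inv_rev, hinv x hx, hinv y hy] at h1
    exact h1.symm
  have hact : Cfsg.Agent.Lib.H1.CoprimeAction U K := by
    refine ⟨hUK, ?_, Or.inl ?_⟩
    · rw [h4]
      have : (4 : ℕ) = 2 ^ 2 := by norm_num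
      rw [this]
      exact Nat.Coprime.pow_left 2 (Nat.coprime_two_left.2 hK)
    · have hU2 : IsPGroup 2 U := IsPGroup.of_card (n := 2) (by rw [h4]; norm_num)
      have : Group.IsNilpotent U := hU2.isNilpotent
      infer_instance
  have hKle : K ≤ Subgroup.centralizer (U : Set G) := by
    apply Cfsg.Agent.Lib.H9.le_of_centralizers_le (p := 2) hact (Nat.coprime_two_right.2 hK)
      huU hvU (hcomm u huU v hvU) (hexp u huU) (hexp v hvU)
    · exact hmain u huU hu1
    · intro i
      apply hmain _ (U.mul_mem (U.pow_mem huU i) hvU)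
      intro h
      apply hvu
      have : v = (u ^ i)⁻¹ := eq_inv_of_mul_eq_one_right h
      rw [this]
      exact Subgroup.inv_mem _ (Subgroup.pow_mem _ (Subgroup.mem_zpowers u) i)
  exact Subgroup.le_centralizer_iff.1 hKle

end Cfsg.Agent.S1957
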