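import Cfsg.Statements.S1960
import Mathlib
import Cfsg.Agent.Lib.H10.FamilyTransfer

set_option autoImplicit false
open Cfsg

namespace Cfsg.Agent.S1960

theorem result {G : Type*} [Group G] [Finite G] {p : ℕ} [Fact p.Prime] (S : Sylow p G) (𝓦 : Set (Subgroup G → Subgroup G)) (h𝓦 : ∀ W ∈ 𝓦, Cfsg.IsConjugacyFunctor p W) (hloc : ∀ T : Subgroup G, T ≤ (S : Subgroup G) → T ≠ ⊥ → ¬ p ∣ ((S : Subgroup G) ⊓ Subgroup.normalizer ((T : Subgroup G) : Set G)).relIndex (Subgroup.normalizer ((T : Subgroup G) : Set G)) → Cfsg.FamilyControlsTransferIn p 𝓦 (Subgroup.normalizer ((T : Subgroup G) : Set G))) : Cfsg.FamilyControlsTransferIn p 𝓦 ⊤ := by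
  exact Cfsg.Agent.Lib.H10.familyControlsTransferIn_top S h𝓦 hloc

end Cfsg.Agent.S1960
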