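import Cfsg.Statements.S1964
import Mathlib
import Cfsg.Agent.Lib.H10.ConjFamily
import Cfsg.Agent.Lib.H10.WellPlaced

set_option autoImplicit false
open Cfsg

namespace Cfsg.Agent.S1964

theorem result {G : Type*} [Group G] [Finite G] {p : ℕ} [Fact p.Prime] (S : Sylow p G) (W : Subgroup G → Subgroup G) (hW : Cfsg.IsConjugacyFunctor p W) : Cfsg.IsConjugationFamily {T : Subgroup G | Cfsg.IsWellPlaced p W (S : Subgroup G) T} (S : Subgroup G) := by
  apply Cfsg.Agent.Lib.H10.isConjugationFamily_of_criterion S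
  · intro U hU
    exact hU.1
  · intro T hT
    obtain ⟨g, hg, -⟩ := Cfsg.Agent.Lib.H10.exists_wellPlaced_conj S hW _ T hT rfl
    exact ⟨_, hg, ⟨g, rfl⟩, hg.2 0⟩

end Cfsg.Agent.S1964
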