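import Cfsg.Statements.S1966
-- (no extra imports)

set_option autoImplicit false
open Cfsg

namespace Cfsg.Agent.S1966

theorem pCore_le_sylow' {G : Type*} [Group G] {p : ℕ} [Fact p.Prime] (P : Sylow p G) :
    Cfsg.pCore p G ≤ P := by
  have hn : (Cfsg.pCore p G).Normal := Subgroup.sSup_normal _ (fun _ hH => hH.1)
  have hp : IsPGroup p (Cfsg.pCore p G) :=
    Sylow.sSup_of_normal _ (fun _ hH => hH.2) (fun _ hH => hH.1)
  exact hp.le_sylow_of_normal P

theorem result {G : Type*} [Group G] [Finite G] {p : ℕ} [Fact p.Prime] (S : Sylow p G) (𝓕 : Set (Subgroup G)) (h : Cfsg.IsConjugationFamily 𝓕 (S : Subgroup G)) : Cfsg.IsConjugationFamily {T : Subgroup G | T ∈ 𝓕 ∧ Cfsg.pCore p G ≤ T} (S : Subgroup G) := by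
  obtain ⟨h1, h2⟩ := h
  have hn : (Cfsg.pCore p G).Normal := Subgroup.sSup_normal _ (fun _ hH => hH.1)
  have hRS : Cfsg.pCore p G ≤ (S : Subgroup G) := pCore_le_sylow' S
  refine ⟨fun T hT => h1 T hT.1, ?_⟩
  intro A g hAne hAS hAg
  set R : Subgroup G := Cfsg.pCore p G with hR
  have hA'S : A ∪ (R : Set G) ⊆ ((S : Subgroup G) : Set G) := by
    intro a ha
    rcases ha with ha | ha
    · exact hAS ha
    · exact hRS ha
  have hA'g : (fun a => g⁻¹ * a * g) '' (A ∪ (R : Set G)) ⊆ ((S : Subgroup G) : Set G) := by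
    rintro _ ⟨a, ha, rfl⟩
    rcases ha with ha | ha
    · exact hAg ⟨a, ha, rfl⟩
    · apply hRS
      have := hn.conj_mem a ha g⁻¹
      simpa using this
  obtain ⟨n, T, x, hprod, hT, hx, h0, hstep⟩ := h2 (A ∪ (R : Set G)) g (hAne.mono Set.subset_union_left) hA'S hA'g
  refine ⟨n, T, x, hprod, ?_, hx, ?_, ?_⟩
  · intro i
    refine ⟨hT i, ?_⟩
    obtain ⟨iv, hi⟩ := i
    cases iv with
    | zero =>
      intro r hr
      exact h0 (by omega) (Set.mem_union_right _ hr)
    | succ j =>
      intro r hr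
      have hj : j < n := by omega
      have := hstep ⟨j, hj⟩ hi
      apply this
      refine ⟨((List.ofFn x).take (j + 1)).prod * r * (((List.ofFn x).take (j + 1)).prod)⁻¹, ?_, ?_⟩
      · exact Set.mem_union_right _ (hn.conj_mem r hr _)
      · simp only []
        group
  · intro h a ha
    exact h0 h (Set.mem_union_left _ ha)
  · intro i hi
    refine subset_trans (Set.image_mono Set.subset_union_left) (hstep i hi)

end Cfsg.Agent.S1966
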