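import Cfsg.Statements.S1967
import Cfsg.Agent.Lib.H10.Conj

set_option autoImplicit false
open Cfsg

namespace Cfsg.Agent.S1967

open Cfsg.Agent.Lib.H10

theorem result {G : Type*} [Group G] [Finite G] {p : ℕ} [Fact p.Prime] (S : Sylow p G) (W : Subgroup G → Subgroup G) (hW : Cfsg.IsConjugacyFunctor p W) : Cfsg.ControlsStrongFusionIn p W ⊤ ↔ ∀ (T : Subgroup G) (g : G), T ≤ (S : Subgroup G) → T.map (MulAut.conj g).toMonoidHom ≤ (S : Subgroup G) → ∃ n ∈ Subgroup.normalizer ((W (S : Subgroup G) : Subgroup G) : Set G), ∃ c ∈ Subgroup.centralizer (T : Set G), g = n * c := by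
  constructor
  · rintro ⟨T₀, -, hT₀p, hT₀i, hctrl⟩ T g hTS hTg
    rw [Subgroup.relIndex_top_right] at hT₀i
    obtain ⟨Q, hQ⟩ := exists_sylow_eq hT₀p hT₀i
    obtain ⟨k, hk⟩ := MulAction.exists_smul_eq G Q S
    have hS : (S : Subgroup G) = T₀.map (MulAut.conj k).toMonoidHom := by
      rw [← hk, coe_smul_sylow_eq_map, hQ]
    -- the set A = k⁻¹ T k
    have hA : (fun t => k⁻¹ * t * k) '' (T : Set G) ⊆ (T₀ : Set G) := by
      rintro _ ⟨t, ht, rfl⟩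
      have := hTS ht
      rw [hS, mem_map_conj] at this
      exact this
    have hAh : (fun a => (k⁻¹ * g * k) * a * (k⁻¹ * g * k)⁻¹) '' ((fun t => k⁻¹ * t * k) '' (T : Set G)) ⊆ (T₀ : Set G) := by
      rintro _ ⟨_, ⟨t, ht, rfl⟩, rfl⟩
      have : g * t * g⁻¹ ∈ (S : Subgroup G) := hTg (conj_mem_map_conj ht)
      rw [hS, mem_map_conj] at this
      have e : (k⁻¹ * g * k) * (k⁻¹ * t * k) * (k⁻¹ * g * k)⁻¹ = k⁻¹ * (g * t * g⁻¹) * k := by group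
      show (k⁻¹ * g * k) * (k⁻¹ * t * k) * (k⁻¹ * g * k)⁻¹ ∈ T₀
      rw [e]; exact this
    obtain ⟨x, hx, hxa⟩ := hctrl _ (k⁻¹ * g * k) (Subgroup.mem_top _) hA hAh
    have hxN : x ∈ Subgroup.normalizer ((W T₀ : Subgroup G) : Set G) := (Subgroup.mem_inf.mp hx).2
    have hn : k * x * k⁻¹ ∈ Subgroup.normalizer ((W (S : Subgroup G) : Subgroup G) : Set G) := by
      have := conj_mem_normalizer_map_conj k hxN
      rw [← (hW T₀ hT₀p).2.2 k, ← hS] at this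
      exact this
    refine ⟨k * x * k⁻¹, hn, (k * x * k⁻¹)⁻¹ * g, ?_, by group⟩
    rw [Subgroup.mem_centralizer_iff]
    intro t ht
    have := hxa (k⁻¹ * t * k) ⟨t, ht, rfl⟩
    -- x (k⁻¹ t k) x⁻¹ = (k⁻¹ g k) (k⁻¹ t k) (k⁻¹ g k)⁻¹
    have e1 : (k * x * k⁻¹) * t * (k * x * k⁻¹)⁻¹ = g * t * g⁻¹ := by
      calc (k * x * k⁻¹) * t * (k * x * k⁻¹)⁻¹ = k * (x * (k⁻¹ * t * k) * x⁻¹) * k⁻¹ := by group
        _ = k * ((k⁻¹ * g * k) * (k⁻¹ * t * k) * (k⁻¹ * g * k)⁻¹) * k⁻¹ := by rw [this]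
        _ = g * t * g⁻¹ := by group
    calc t * ((k * x * k⁻¹)⁻¹ * g) = (k * x * k⁻¹)⁻¹ * ((k * x * k⁻¹) * t * (k * x * k⁻¹)⁻¹) * (k * x * k⁻¹) * ((k * x * k⁻¹)⁻¹ * g) := by group
      _ = (k * x * k⁻¹)⁻¹ * (g * t * g⁻¹) * (k * x * k⁻¹) * ((k * x * k⁻¹)⁻¹ * g) := by rw [e1]
      _ = (k * x * k⁻¹)⁻¹ * g * t := by group
  · intro h
    refine ⟨(S : Subgroup G), le_top, S.isPGroup', ?_, ?_⟩
    · rw [Subgroup.relIndex_top_right]; exact S.not_dvd_index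
    · intro A g _ hAS hAg
      have hT : Subgroup.closure A ≤ (S : Subgroup G) := (Subgroup.closure_le _).mpr hAS
      have hTg : (Subgroup.closure A).map (MulAut.conj g).toMonoidHom ≤ (S : Subgroup G) := by
        rw [MonoidHom.map_closure, Subgroup.closure_le]
        rintro _ ⟨a, ha, rfl⟩
        apply hAg
        exact ⟨a, ha, by simp⟩
      obtain ⟨n, hn, c, hc, rfl⟩ := h _ g hT hTg
      refine ⟨n, Subgroup.mem_inf.mpr ⟨Subgroup.mem_top _, hn⟩, ?_⟩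
      intro a ha
      have hca : a * c = c * a := (Subgroup.mem_centralizer_iff.mp hc) a (Subgroup.subset_closure ha)
      calc n * a * n⁻¹ = n * (a * c) * c⁻¹ * n⁻¹ := by group
        _ = n * (c * a) * c⁻¹ * n⁻¹ := by rw [hca]
        _ = n * c * a * (n * c)⁻¹ := by group
      
end Cfsg.Agent.S1967
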