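import Cfsg.Statements.S1968
import Mathlib
import Cfsg.Agent.Lib.H10.LocalGlobal

set_option autoImplicit false
open Cfsg

namespace Cfsg.Agent.S1968

open Cfsg.Agent.Lib.H10

theorem exists_step_of_reach {G : Type*} [Group G] {𝓕 : Set (Subgroup G)} {A : Set G} {g : G}
    (h : Reach 𝓕 A g) : rconj g A ≠ A →
    ∃ T ∈ 𝓕, ∃ x ∈ Subgroup.normalizer (T : Set G), A ⊆ (T : Set G) ∧ rconj x A ≠ A := by
  induction h with
  | nil A => intro hne; exact absurd (rconj_one A) hne
  | cons A T x g hT hx hA _ ih =>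
    intro hne
    by_cases hxA : rconj x A = A
    · rw [rconj_mul] at hne
      rw [hxA] at ih hne
      obtain ⟨T', hT', x', hx', hA', hne'⟩ := ih hne
      exact ⟨T', hT', x', hx', hA', hne'⟩
    · exact ⟨T, hT, x, hx, hA, hxA⟩

theorem result {G : Type*} [Group G] [Finite G] {p : ℕ} [Fact p.Prime] (S : Sylow p G) (W : Subgroup G → Subgroup G) (hW : Cfsg.IsConjugacyFunctor p W) (hWZ : ∀ P : Subgroup G, IsPGroup p ↥P → P ⊓ Subgroup.centralizer (P : Set G) ≤ W P) (A : Subgroup G) (hAZ : A ≤ (S : Subgroup G) ⊓ Subgroup.centralizer ((S : Subgroup G) : Set G)) (hAN : Subgroup.normalizer ((W (S : Subgroup G) : Subgroup G) : Set G) ≤ Subgroup.normalizer ((A : Subgroup G) : Set G)) (hnwc : ¬ Cfsg.IsWeaklyClosed A (S : Subgroup G)) : ∃ T : Subgroup G, Cfsg.IsWellPlaced p W (S : Subgroup G) T ∧ A ≤ T ∧ Subgroup.normalizer ((W ((S : Subgroup G) ⊓ Subgroup.normalizer ((T : Subgroup G) : Set G)) : Subgroup G) : Set G) ≤ Subgroup.normalizer ((A : Subgroup G) : Set G) ∧ ¬ p ∣ ((S : Subgroup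 G) ⊓ Subgroup.normalizer ((T : Subgroup G) : Set G)).relIndex (Subgroup.normalizer ((T : Subgroup G) : Set G)) ∧ A ≤ Subgroup.centralizer (((S : Subgroup G) ⊓ Subgroup.normalizer ((T : Subgroup G) : Set G) : Subgroup G) : Set G) ∧ ∃ g ∈ Subgroup.normalizer ((T : Subgroup G) : Set G), A.map (MulAut.conj g).toMonoidHom ≤ (S : Subgroup G) ⊓ Subgroup.normalizer ((T : Subgroup G) : Set G) ∧ A.map (MulAut.conj g).toMonoidHom ≠ A := by
  have hAS : A ≤ (S : Subgroup G) := hAZ.trans inf_le_left
  -- a bad conjugate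
  have hex : ∃ g : G, A.map (MulAut.conj g).toMonoidHom ≤ (S : Subgroup G) ∧
      A.map (MulAut.conj g).toMonoidHom ≠ A := by
    by_contra hcon
    push Not at hcon
    exact hnwc ⟨hAS, fun g hg => hcon g hg⟩
  obtain ⟨g, hgS, hgA⟩ := hex
  -- the chain
  have hreach : Reach {T : Subgroup G | IsWellPlaced p W (S : Subgroup G) T} (A : Set G) g⁻¹ := by
    apply reach_of_criterion_set S _ (fun U hU => hU.1) _ (SetLike.coe_subset_coe.mpr hAS)
    · rw [rconj_coe, inv_inv]
      exact SetLike.coe_subset_coe.mpr hgS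
    · intro T hT
      obtain ⟨g, hg, -⟩ := exists_wellPlaced_conj S hW _ T hT rfl
      exact ⟨_, hg, ⟨g, rfl⟩, hg.2 0⟩
  have hne : rconj g⁻¹ (A : Set G) ≠ (A : Set G) := by
    rw [rconj_coe, inv_inv]
    intro h
    exact hgA (SetLike.coe_injective h)
  obtain ⟨T₀, hT₀wp, x₀, hx₀, hAT₀, hx₀A⟩ := exists_step_of_reach hreach hne
  -- maximality argument
  have key : ∀ (n : ℕ) (T : Subgroup G), IsWellPlaced p W (S : Subgroup G) T → A ≤ T →
      (∃ x ∈ Subgroup.normalizer (T : Set G), A.map (MulAut.conj x).toMonoidHom ≠ A) →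
      Nat.card (S : Subgroup G) -
        Nat.card ((S : Subgroup G) ⊓ Subgroup.normalizer (T : Set G) : Subgroup G) = n →
      ∃ T : Subgroup G, Cfsg.IsWellPlaced p W (S : Subgroup G) T ∧ A ≤ T ∧ Subgroup.normalizer ((W ((S : Subgroup G) ⊓ Subgroup.normalizer ((T : Subgroup G) : Set G)) : Subgroup G) : Set G) ≤ Subgroup.normalizer ((A : Subgroup G) : Set G) ∧ ¬ p ∣ ((S : Subgroup G) ⊓ Subgroup.normalizer ((T : Subgroup G) : Set G)).relIndex (Subgroup.normalizer ((T : Subgroup G) : Set G)) ∧ A ≤ Subgroup.centralizer (((S : Subgroup G) ⊓ Subgroup.normalizer ((T : Subgroup G) : Set G) : Subgroup G) : Set G) ∧ ∃ g ∈ Subgroup.normalizer ((T : Subgroup G) : Set G), A.map (MulAut.conj g).toMonoidHom ≤ (S : Subgroup G) ⊓ Subgroup.normalizer ((T : Subgroup G) : Set G) ∧ A.map (MulAut.conj g).toMonoidHom ≠ A := by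
    intro n
    induction n using Nat.strong_induction_on with
    | _ n ih =>
    intro T hwp hAT hx hn
    set N := (S : Subgroup G) ⊓ Subgroup.normalizer (T : Set G) with hN
    have hNp : IsPGroup p N := S.2.to_le inf_le_left
    have hTN : T ≤ N := le_inf hwp.1 Subgroup.le_normalizer
    have hAcent : A ≤ Subgroup.centralizer (N : Set G) :=
      (hAZ.trans inf_le_right).trans (Subgroup.centralizer_le (SetLike.coe_subset_coe.mpr inf_le_left))
    have hAWN : A ≤ W N := (le_inf (hAT.trans hTN) hAcent).trans (hWZ N hNp)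
    by_cases hnorm : Subgroup.normalizer ((W N : Subgroup G) : Set G) ≤
        Subgroup.normalizer ((A : Subgroup G) : Set G)
    · obtain ⟨x, hxN, hxA⟩ := hx
      refine ⟨T, hwp, hAT, hnorm, hwp.2 0, hAcent, x, hxN, ?_, hxA⟩
      refine le_trans ?_ hTN
      have := mem_normalizer_iff_map_conj.mp hxN
      rw [← this]
      exact Subgroup.map_mono hAT
    · -- move up the tower
      have hcase : N ≠ (S : Subgroup G) := by
        intro hNS
        apply hnorm
        rw [hNS]
        exact hAN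
      have hNS : N < (S : Subgroup G) := lt_of_le_of_ne inf_le_left hcase
      have hwp1 : IsWellPlaced p W (S : Subgroup G) (W N) := isWellPlaced_functor S.2 hW hwp
      have hlt : N < (S : Subgroup G) ⊓ Subgroup.normalizer (N : Set G) :=
        lt_inf_normalizer_of_lt S.2 hNS
      have hle : (S : Subgroup G) ⊓ Subgroup.normalizer (N : Set G) ≤
          (S : Subgroup G) ⊓ Subgroup.normalizer ((W N : Subgroup G) : Set G) :=
        inf_le_inf_left _ (normalizer_le_normalizer_functor hW hNp)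
      have hlt2 : N < (S : Subgroup G) ⊓ Subgroup.normalizer ((W N : Subgroup G) : Set G) :=
        lt_of_lt_of_le hlt hle
      have hc2 : Nat.card N <
          Nat.card ((S : Subgroup G) ⊓ Subgroup.normalizer ((W N : Subgroup G) : Set G) : Subgroup G) := by
        refine lt_of_le_of_ne (Subgroup.card_le_of_le hlt2.le) ?_
        intro heq
        exact hlt2.ne (Subgroup.eq_of_le_of_card_ge hlt2.le heq.ge)
      have hc3 : Nat.card ((S : Subgroup G) ⊓ Subgroup.normalizer ((W N : Subgroup G) : Set G) : Subgroup G) ≤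
          Nat.card (S : Subgroup G) := Subgroup.card_le_of_le inf_le_left
      have hx' : ∃ y ∈ Subgroup.normalizer ((W N : Subgroup G) : Set G),
          A.map (MulAut.conj y).toMonoidHom ≠ A := by
        by_contra hcon
        push Not at hcon
        apply hnorm
        intro y hy
        exact mem_normalizer_iff_map_conj.mpr (hcon y hy)
      exact ih _ (by omega) (W N) hwp1 hAWN hx' rfl
  refine key _ T₀ hT₀wp (SetLike.coe_subset_coe.mp hAT₀) ⟨x₀⁻¹, inv_mem hx₀, ?_⟩ rfl
  intro h
  apply hx₀A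
  rw [rconj_coe, h]

end Cfsg.Agent.S1968
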