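import Cfsg.Statements.S1969
import Cfsg.Agent.Lib.H10.SecMain

set_option autoImplicit false
universe u
open Cfsg

namespace Cfsg.Agent.S1969

open Cfsg.Agent.Lib Cfsg.Agent.Lib.H10

/-- a chain for a single functor ends in the normalizer -/
theorem mem_normalizer_of_FC_singleton {H : Type u} [Group H] {W₀ : Subgroup H → Subgroup H}
    {X T : Subgroup H} {A : Set H} {c : H} (h : FC {W₀} X T A c) :
    c ∈ Subgroup.normalizer ((W₀ T : Subgroup H) : Set H) := by
  induction h with
  | nil A _ => exact Subgroup.one_mem _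
  | cons A e g W hW he _ _ ih =>
    have hW' : W = W₀ := hW
    rw [hW'] at he
    exact Subgroup.mul_mem _ he.2 ih

/-- Let p be a prime, G a finite group and W an isomorphism-invariant p-group functor (W assigns to every group Q a subgroup W(Q), nontrivial whenever Q is a nontrivial finite p-group, and every isomorphism from a finite p-group Q onto a group R carries W(Q) onto W(R)). Suppose that W(S*) is normal in G* whenever G* = K/R is a section of G with C_{G*}(O_p(G*)) ≤ O_p(G*) and S* is a Sylow p-subgroup of G*. Then W controls strong fusion in every section of G: for every section K/R and every Sylow p-subgroup T of K/R, the subgroup W(T) controls strong fusion in K/R. -/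
theorem result {G : Type u} [Group G] [Finite G] {p : ℕ} [Fact p.Prime] (W : ∀ (Q : Type u) [Group Q], Subgroup Q) (hW : Cfsg.IsCharPFunctor.{u} p W) (hloc : ∀ (K R : Subgroup G) [hR : (R.subgroupOf K).Normal], Subgroup.centralizer ((Cfsg.pCore p (↥K ⧸ R.subgroupOf K) : Subgroup (↥K ⧸ R.subgroupOf K)) : Set (↥K ⧸ R.subgroupOf K)) ≤ Cfsg.pCore p (↥K ⧸ R.subgroupOf K) → ∀ T : Sylow p (↥K ⧸ R.subgroupOf K), (Cfsg.inducedFunctor (G := (↥K ⧸ R.subgroupOf K)) W ((T : Subgroup (↥K ⧸ R.subgroupOf K)))).Normal) : ∀ (K R : Subgroup G) [hR : (R.subgroupOf K).Normal], ∀ T : Sylow p (↥K ⧸ R.subgroupOf K), Cfsg.ControlsStrongFusion p (Cfsg.inducedFunctor (G := (↥K ⧸ R.subgroupOf K)) W ((T : Subgroup (↥K ⧸ R.subgroupOf K)))) := by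
  have hW1 : ∀ W' ∈ ({W} : Set (∀ (Q : Type u) [Group Q], Subgroup Q)), IsCharPFunctor.{u} p W' := by
    intro W' hW'
    rw [Set.mem_singleton_iff.1 hW']
    exact hW
  have hIF : ∀ (H : Type u) [Group H], IF {W} H = {inducedFunctor (G := H) W} := by
    intro H _
    unfold IF
    rw [Set.image_singleton]
  have hloc' : ∀ (H : Type u) [Group H], IsSec G H →
      Subgroup.centralizer ((Cfsg.pCore p H : Subgroup H) : Set H) ≤ Cfsg.pCore p H →
      FamilyControlsStrongFusionIn p (IF {W} H) ⊤ := by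
    intro H _ hsec hcon
    obtain ⟨K, R, hR, ⟨ε⟩⟩ := hsec.exists_equiv
    have h1 := hloc K R (constrained_of_mulEquiv p ε hcon)
    apply familyControls_of_equiv hW1 ε
    have T₀ : Sylow p (↥K ⧸ R.subgroupOf K) := default
    apply familyControls_of_ctlF T₀.2 T₀.not_dvd_index
    intro A g hA hAg
    have hn := h1 T₀
    refine GoodF.single (W := inducedFunctor W) ⟨W, rfl, rfl⟩ ?_ hA hAg
    rw [Subgroup.normalizer_eq_top]
    exact Subgroup.mem_top g
  intro K R hR T
  have hmain := familyControls_of_constrained_sections G {W} hW1 hloc' _ (↥K ⧸ R.subgroupOf K) rfl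
    (isSec_section K R)
  have hctl : CtlF (IF {W} (↥K ⧸ R.subgroupOf K)) (T : Subgroup (↥K ⧸ R.subgroupOf K)) :=
    ctlF_of_familyControls (isConjugacyFunctor_of_mem_IF hW1) hmain T.2 T.not_dvd_index
  refine ⟨T, Subgroup.map_subtype_le _, ?_⟩
  intro A hA
  refine ⟨hA, ?_⟩
  intro g hg
  have hAg : rconj g⁻¹ A ⊆ ((T : Subgroup (↥K ⧸ R.subgroupOf K)) : Set (↥K ⧸ R.subgroupOf K)) := by
    rintro _ ⟨a, ha, rfl⟩
    have := hg ⟨a, ha, rfl⟩
    simpa using this
  obtain ⟨c, hc, hca⟩ := hctl A g⁻¹ hA hAg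
  rw [hIF] at hc
  have hcN := mem_normalizer_of_FC_singleton hc
  refine ⟨c⁻¹, Subgroup.inv_mem _ hcN, ?_⟩
  intro a ha
  have := hca a ha
  rw [inv_inv] at this ⊢
  exact this.symm

end Cfsg.Agent.S1969
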