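import Cfsg.Statements.S1970
import Cfsg.Agent.Lib.H10.SecTransfer

set_option autoImplicit false
universe u
open Cfsg

namespace Cfsg.Agent.S1970

open Cfsg.Agent.Lib Cfsg.Agent.Lib.H10

/-- Let p be a prime, G a finite group and W an isomorphism-invariant p-group functor (W assigns to every group Q a subgroup W(Q), nontrivial whenever Q is a nontrivial finite p-group, and every isomorphism from a finite p-group Q onto a group R carries W(Q) onto W(R)). Suppose that for every section G* = K/R of G with C_{G*}(O_p(G*)) ≤ O_p(G*) and every Sylow p-subgroup S* of G*, one has O_p(G*) ∩ (G*)' = O_p(G*) ∩ (N_{G*}(W(S*)))'. Then W controls transfer in every section G* of G: S* ∩ (G*)' = S* ∩ (N_{G*}(W(S*)))' for a Sylow p-subgroup S* of G*. -/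
theorem result {G : Type u} [Group G] [Finite G] {p : ℕ} [Fact p.Prime] (W : ∀ (Q : Type u) [Group Q], Subgroup Q) (hW : Cfsg.IsCharPFunctor.{u} p W) (hloc : ∀ (K R : Subgroup G) [hR : (R.subgroupOf K).Normal], Subgroup.centralizer ((Cfsg.pCore p (↥K ⧸ R.subgroupOf K) : Subgroup (↥K ⧸ R.subgroupOf K)) : Set (↥K ⧸ R.subgroupOf K)) ≤ Cfsg.pCore p (↥K ⧸ R.subgroupOf K) → ∀ T : Sylow p (↥K ⧸ R.subgroupOf K), Cfsg.pCore p (↥K ⧸ R.subgroupOf K) ⊓ commutator (↥K ⧸ R.subgroupOf K) = Cfsg.pCore p (↥K ⧸ R.subgroupOf K) ⊓ ⁅Subgroup.normalizer ((Cfsg.inducedFunctor (G := (↥K ⧸ R.subgroupOf K)) W ((T : Subgroup (↥K ⧸ R.subgroupOf K))) : Subgroup (↥K ⧸ R.subgroupOf K)) : Set (↥K ⧸ R.subgroupOf K)), Subgroup.normalizer ((Cfsg.inducedFunctor (G := (↥K ⧸ R.subgroupOf K)) W ((T : Subgroup (↥K ⧸ R.subgroupOf K))) : Subgroup (↥K ⧸ R.subgroupOf K)) : Set (↥K ⧸ R.subgroupOf K))⁆) : ∀ (K R : Subgroup G) [hR : (R.subgroupOf K).Normal], Cfsg.ControlsTransferIn p (Cfsg.inducedFunctor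 (G := (↥K ⧸ R.subgroupOf K)) W) ⊤ := by
  have h𝓦 : ∀ W' ∈ ({W} : Set (∀ (Q : Type u) [Group Q], Subgroup Q)), IsCharPFunctor.{u} p W' := by
    intro W' hW'
    rw [Set.mem_singleton_iff] at hW'
    rw [hW']; exact hW
  have hloc' : ∀ (H : Type u) [Group H] [Finite H], IsSec G H →
      Subgroup.centralizer ((Cfsg.pCore p H : Subgroup H) : Set H) ≤ Cfsg.pCore p H →
      ∀ S : Sylow p H, Cfsg.pCore p H ⊓ ⁅(⊤ : Subgroup H), ⊤⁆ ≤
        TF (IF ({W} : Set (∀ (Q : Type u) [Group Q], Subgroup Q)) H) ⊤ (S : Subgroup H) := by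
    intro H _ _ hsec hcon S
    obtain ⟨K, R, hR, ⟨ε⟩⟩ := hsec.exists_equiv
    have hcon' := constrained_of_mulEquiv p ε hcon
    -- the Sylow subgroup of `K / R`
    have hT'p : IsPGroup p ((S : Subgroup H).map ε.symm.toMonoidHom) := S.2.map _
    have hT'i : ¬ p ∣ ((S : Subgroup H).map ε.symm.toMonoidHom).index := by
      have := Subgroup.index_map_equiv (S : Subgroup H) ε.symm
      rw [show ((ε.symm : H →* (↥K ⧸ R.subgroupOf K))) = ε.symm.toMonoidHom from rfl] at this
      rw [this]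
      exact S.not_dvd_index
    let T' : Sylow p (↥K ⧸ R.subgroupOf K) := hT'p.toSylow hT'i
    have hT' : (T' : Subgroup (↥K ⧸ R.subgroupOf K)) = (S : Subgroup H).map ε.symm.toMonoidHom :=
      hT'p.toSylow_coe hT'i
    have hmapT : (T' : Subgroup (↥K ⧸ R.subgroupOf K)).map ε.toMonoidHom = (S : Subgroup H) := by
      rw [hT', Subgroup.map_map]
      have : ε.toMonoidHom.comp ε.symm.toMonoidHom = MonoidHom.id H := by
        ext x; simp
      rw [this, Subgroup.map_id]
    have h1 := hloc K R hcon' T'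
    have h2 := congrArg (Subgroup.map ε.toMonoidHom) h1
    rw [Subgroup.map_inf _ _ _ ε.injective, Subgroup.map_inf _ _ _ ε.injective,
      pCore_map_mulEquiv p ε, commutator_def, Subgroup.map_commutator, Subgroup.map_commutator,
      Subgroup.map_top_of_surjective _ ε.surjective] at h2
    have h3 : Subgroup.map ε.toMonoidHom (Subgroup.normalizer
        ((Cfsg.inducedFunctor (G := (↥K ⧸ R.subgroupOf K)) W
          ((T' : Subgroup (↥K ⧸ R.subgroupOf K))) : Subgroup (↥K ⧸ R.subgroupOf K)) :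
            Set (↥K ⧸ R.subgroupOf K))) =
        Subgroup.normalizer ((inducedFunctor W (S : Subgroup H) : Subgroup H) : Set H) := by
      rw [Subgroup.map_normalizer_eq_of_bijective _ (f := ε.toMonoidHom) ε.bijective,
        inducedFunctor_map_equiv hW ε _ T'.2, hmapT]
    rw [h3] at h2
    rw [h2, TF_IF]
    have : Cfsg.pCore p H ⊓ ⁅Subgroup.normalizer ((inducedFunctor W (S : Subgroup H) : Subgroup H) :
        Set H), Subgroup.normalizer ((inducedFunctor W (S : Subgroup H) : Subgroup H) : Set H)⁆ ≤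
        (S : Subgroup H) ⊓ ⁅⊤ ⊓ Subgroup.normalizer ((inducedFunctor W (S : Subgroup H) :
          Subgroup H) : Set H), ⊤ ⊓ Subgroup.normalizer ((inducedFunctor W (S : Subgroup H) :
          Subgroup H) : Set H)⁆ := by
      rw [top_inf_eq]
      exact inf_le_inf_right _ (H1.pCore_le_sylow S)
    refine this.trans ?_
    exact le_iSup₂ (f := fun W' (_ : W' ∈ ({W} : Set (∀ (Q : Type u) [Group Q], Subgroup Q))) =>
      (S : Subgroup H) ⊓ ⁅⊤ ⊓ Subgroup.normalizer ((inducedFunctor W' (S : Subgroup H) :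
        Subgroup H) : Set H), ⊤ ⊓ Subgroup.normalizer ((inducedFunctor W' (S : Subgroup H) :
        Subgroup H) : Set H)⁆) W (Set.mem_singleton W)
  intro K R hR
  have hmain := familyTransfer_of_constrained_sections G {W} h𝓦 hloc' _
    (↥K ⧸ R.subgroupOf K) rfl (isSec_section K R)
  obtain ⟨T, hT1, hT2, hT3, hT4⟩ := hmain
  refine ⟨T, hT1, hT2, hT3, ?_⟩
  rw [hT4]
  have hIF : IF ({W} : Set (∀ (Q : Type u) [Group Q], Subgroup Q)) (↥K ⧸ R.subgroupOf K) =
      {inducedFunctor (G := (↥K ⧸ R.subgroupOf K)) W} := by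
    unfold IF
    rw [Set.image_singleton]
  rw [hIF, iSup_singleton]

end Cfsg.Agent.S1970
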