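import Cfsg.Statements.S1971
import Cfsg.Agent.Lib.H10.Sections
import Cfsg.Agent.Lib.H10.CharFunctor
import Cfsg.Agent.Lib.H10.CentralSylow
import Cfsg.Agent.Lib.H10.PResidual
import Cfsg.Agent.Lib.H10.Conj
import Cfsg.Agent.Lib.H1.PGroupBasic

set_option autoImplicit false
universe u
open Cfsg

namespace Cfsg.Agent.S1971

open Cfsg.Agent.Lib Cfsg.Agent.Lib.H10


/-- transport of control of transfer along an isomorphism -/
theorem controlsTransferIn_top_of_equiv {H H' : Type u} [Group H] [Group H'] [Finite H] {p : ℕ}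
    {W : ∀ (Q : Type u) [Group Q], Subgroup Q} (hW : IsCharPFunctor.{u} p W) (e : H ≃* H')
    (h : ControlsTransferIn p (inducedFunctor (G := H) W) ⊤) :
    ControlsTransferIn p (inducedFunctor (G := H') W) ⊤ := by
  obtain ⟨T, -, hTp, hTi, hTeq⟩ := h
  have hinj : Function.Injective e.toMonoidHom := e.injective
  refine ⟨T.map e.toMonoidHom, le_top, hTp.map _, ?_, ?_⟩
  · rw [Subgroup.relIndex_top_right] at hTi ⊢
    have := Subgroup.index_map_equiv (H := T) e
    rw [show ((e : H →* H')) = e.toMonoidHom from rfl] at this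
    rwa [this]
  · have h1 := congrArg (Subgroup.map e.toMonoidHom) hTeq
    rw [Subgroup.map_inf_eq _ _ _ hinj, Subgroup.map_inf_eq _ _ _ hinj, Subgroup.map_commutator,
      Subgroup.map_commutator, Subgroup.map_inf_eq _ _ _ hinj,
      Subgroup.map_top_of_surjective _ e.surjective, Subgroup.map_equiv_normalizer_eq,
      inducedFunctor_map_equiv hW e T hTp] at h1
    exact h1

/-- a nontrivial finite `p`-group has a normal subgroup of index `p` -/
theorem exists_normal_index_of_isPGroup {Q : Type u} [Group Q] [Finite Q] [Nontrivial Q] {p : ℕ}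
    [hp : Fact p.Prime] (hQ : IsPGroup p Q) : ∃ M : Subgroup Q, M.Normal ∧ M.index = p := by
  rcases eq_top_or_exists_le_coatom (⊥ : Subgroup Q) with h | ⟨M, hM, -⟩
  · exact absurd h bot_ne_top
  · exact ⟨M, H1.isPGroup_coatom_normal hQ hM, H1.isPGroup_coatom_index hQ hM⟩

/-- a finite group with a `p`-element outside the derived subgroup has a normal subgroup of index `p` -/
theorem exists_normal_index_of_not_mem_commutator {H : Type u} [Group H] [Finite H] {p : ℕ}
    [hp : Fact p.Prime] {t : H} (ht : ∃ k : ℕ, t ^ p ^ k = 1) (htc : t ∉ commutator H) :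
    ∃ N : Subgroup H, N.Normal ∧ N.index = p := by
  obtain ⟨k, hk⟩ := ht
  set a : Abelianization H := Abelianization.of t with ha
  have ha1 : a ≠ 1 := by
    intro h
    apply htc
    rw [← Abelianization.ker_of]
    exact h
  have hak : a ^ p ^ k = 1 := by rw [ha, ← map_pow, hk, map_one]
  have hsurj : Function.Surjective (Abelianization.of : H →* Abelianization H) := by
    intro x
    induction x using QuotientGroup.induction_on with
    | H y => exact ⟨y, rfl⟩
  have : Finite (Abelianization H) := Finite.of_surjective _ hsurj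
  -- an element of order p
  obtain ⟨j, hj⟩ := (Nat.dvd_prime_pow hp.out).1 (orderOf_dvd_of_pow_eq_one hak)
  obtain ⟨hj1, hj2⟩ := hj
  have hjpos : j ≠ 0 := by
    intro h0
    rw [h0, pow_zero, orderOf_eq_one_iff] at hj2
    exact ha1 hj2
  set b := a ^ p ^ (j - 1) with hb
  have hbp : b ^ p = 1 := by
    rw [hb, ← pow_mul, ← pow_succ, Nat.sub_add_cancel (Nat.pos_of_ne_zero hjpos), ← hj2]
    exact pow_orderOf_eq_one a
  have hb1 : b ≠ 1 := by
    intro h
    have hdvd : orderOf a ∣ p ^ (j - 1) := orderOf_dvd_of_pow_eq_one h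
    rw [hj2, Nat.pow_dvd_pow_iff_le_right hp.out.one_lt] at hdvd
    omega
  set φ : Abelianization H →* Abelianization H := powMonoidHom p with hφ
  have hrange : φ.range ≠ ⊤ := by
    intro h
    have hs : Function.Surjective φ := MonoidHom.range_eq_top.1 h
    have hi : Function.Injective φ := Finite.injective_iff_surjective.2 hs
    apply hb1
    apply hi
    rw [map_one]
    exact hbp
  have hnt : Nontrivial (Abelianization H ⧸ φ.range) := by
    rw [QuotientGroup.nontrivial_iff]
    exact hrange
  have hQp : IsPGroup p (Abelianization H ⧸ φ.range) := by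
    intro x
    induction x using QuotientGroup.induction_on with
    | H y =>
      refine ⟨1, ?_⟩
      rw [pow_one, ← QuotientGroup.mk_pow, QuotientGroup.eq_one_iff]
      exact ⟨y, rfl⟩
  obtain ⟨M, hMn, hMi⟩ := exists_normal_index_of_isPGroup hQp
  refine ⟨(M.comap (QuotientGroup.mk' φ.range)).comap Abelianization.of, ?_, ?_⟩
  · exact (hMn.comap _).comap _
  · rw [Subgroup.index_comap_of_surjective _ hsurj,
      Subgroup.index_comap_of_surjective _ (QuotientGroup.mk'_surjective _), hMi]


/-- lifting an element of order prime to `p` through a surjection -/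
theorem exists_coprime_lift {H Q : Type u} [Group H] [Group Q] [Finite H] {p : ℕ} [hp : Fact p.Prime]
    (π : H →* Q) (hπ : Function.Surjective π) (x : Q) (hx : (orderOf x).Coprime p) :
    ∃ g : H, π g = x ∧ (orderOf g).Coprime p := by
  obtain ⟨g₀, rfl⟩ := hπ x
  obtain ⟨a, b, hb, hab⟩ := Nat.exists_eq_pow_mul_and_not_dvd (orderOf_pos g₀).ne' p hp.out.ne_one
  by_cases hr : orderOf (π g₀) = 1
  · refine ⟨1, ?_, by simp⟩
    rw [map_one]
    exact (orderOf_eq_one_iff.1 hr).symm
  have hr1 : 1 < orderOf (π g₀) := by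
    have : Finite Q := Finite.of_surjective π hπ
    have := orderOf_pos (π g₀)
    omega
  have hcop : Nat.Coprime (p ^ a) (orderOf (π g₀)) := (Nat.Coprime.pow_right a hx).symm
  obtain ⟨c, -, hc⟩ := Nat.exists_mul_mod_eq_one_of_coprime hcop hr1
  refine ⟨g₀ ^ (p ^ a * c), ?_, ?_⟩
  · rw [map_pow, ← pow_mod_orderOf, hc, pow_one]
  · have h1 : (g₀ ^ (p ^ a * c)) ^ b = 1 := by
      rw [← pow_mul]
      have : p ^ a * c * b = orderOf g₀ * c := by rw [hab]; ring
      rw [this, pow_mul, pow_orderOf_eq_one, one_pow]
    have h2 : orderOf (g₀ ^ (p ^ a * c)) ∣ b := orderOf_dvd_of_pow_eq_one h1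
    exact Nat.Coprime.coprime_dvd_left h2
      ((Nat.Prime.coprime_iff_not_dvd hp.out).2 hb).symm

/-- the hypothesis on the normalizer of a Sylow subgroup -/
def NC {H : Type u} [Group H] (p : ℕ) (T : Subgroup H) : Prop :=
  ∀ g ∈ Subgroup.normalizer (T : Set H), (orderOf g).Coprime p → g ∈ Subgroup.centralizer (T : Set H)

theorem NC.map_conj {H : Type u} [Group H] {p : ℕ} {T : Subgroup H} (h : NC p T) (y : H) :
    NC p (T.map (MulAut.conj y).toMonoidHom) := by
  intro g hg hgp
  have h1 : y⁻¹ * g * y ∈ Subgroup.normalizer (T : Set H) := by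
    rw [Subgroup.mem_normalizer_iff] at hg ⊢
    intro t
    have := hg (y * t * y⁻¹)
    rw [mem_map_conj, mem_map_conj] at this
    have e1 : y⁻¹ * (y * t * y⁻¹) * y = t := by group
    have e2 : y⁻¹ * (g * (y * t * y⁻¹) * g⁻¹) * y = y⁻¹ * g * y * t * (y⁻¹ * g * y)⁻¹ := by group
    rw [e1, e2] at this
    exact this
  have h2 : (orderOf (y⁻¹ * g * y)).Coprime p := by
    have := (MulAut.conj y⁻¹).orderOf_eq g
    rw [MulAut.conj_apply, inv_inv] at this
    rwa [this]
  have h3 := h _ h1 h2
  rw [Subgroup.mem_centralizer_iff] at h3 ⊢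
  intro t ht
  rw [SetLike.mem_coe, mem_map_conj] at ht
  have := h3 _ ht
  have e : t * g = y * ((y⁻¹ * t * y) * (y⁻¹ * g * y)) * y⁻¹ := by group
  rw [e, this]; group


theorem card_lt_of_ne_top {H : Type u} [Group H] [Finite H] {L : Subgroup H} (h : L ≠ ⊤) :
    Nat.card L < Nat.card H := by
  refine lt_of_le_of_ne (Subgroup.card_le_card_group L) ?_
  intro heq
  exact h (Subgroup.eq_top_of_card_eq L heq)

theorem core (G₀ : Type u) [Group G₀] [Finite G₀] {p : ℕ} [hp : Fact p.Prime]
    (W : ∀ (Q : Type u) [Group Q], Subgroup Q) (hW : IsCharPFunctor.{u} p W)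
    (hctl : ∀ (H : Type u) [Group H], IsSec G₀ H →
      ControlsTransferIn p (inducedFunctor (G := H) W) ⊤) :
    ∀ (n : ℕ) (H : Type u) [Group H] [Finite H], Nat.card H = n → IsSec G₀ H →
      ∀ T₀ : Subgroup H, IsPGroup p T₀ → ¬ p ∣ T₀.index → T₀ ≠ ⊥ → NC p T₀ →
      ∃ N : Subgroup H, N.Normal ∧ N.index = p := by
  intro n
  induction n using Nat.strong_induction_on with
  | _ n ih =>
  intro H _ _ hn hsec T₀ hT₀p hT₀i hT₀1 hT₀N
  obtain ⟨T, -, hTp, hTi, hTeq⟩ := hctl H hsec
  rw [Subgroup.relIndex_top_right] at hTi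
  obtain ⟨S₀, hS₀⟩ := exists_sylow_eq hT₀p hT₀i
  obtain ⟨S, hS⟩ := exists_sylow_eq hTp hTi
  obtain ⟨y, hy⟩ := MulAction.exists_smul_eq H S₀ S
  have hTconj : T = T₀.map (MulAut.conj y).toMonoidHom := by
    rw [← hS, ← hy, coe_smul_sylow_eq_map, hS₀]
  have hTN : NC p T := by rw [hTconj]; exact hT₀N.map_conj y
  have hT1 : T ≠ ⊥ := by
    rw [hTconj]
    intro h
    exact hT₀1 ((Subgroup.map_eq_bot_iff_of_injective _ (MulAut.conj y).injective).1 h)
  have hWc := isConjugacyFunctor_inducedFunctor (H := H) hW
  set WT := inducedFunctor W T with hWT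
  have hWT1 : WT ≠ ⊥ := (hWc T hTp).2.1 hT1
  have hWTle : WT ≤ T := (hWc T hTp).1
  have hTNW : T ≤ Subgroup.normalizer (WT : Set H) :=
    Subgroup.le_normalizer.trans (normalizer_le_normalizer_functor hWc hTp)
  by_cases hcase : Subgroup.normalizer (WT : Set H) = ⊤
  · have hWTn : WT.Normal := Subgroup.normalizer_eq_top_iff.1 hcase
    by_cases hTW : T ≤ WT
    · -- `T` is normal
      have hTeqW : T = WT := le_antisymm hTW hWTle
      have hTn : T.Normal := by rw [hTeqW]; exact hWTn
      have hres : Cfsg.pResidual p H ≤ Subgroup.centralizer (T : Set H) := by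
        unfold Cfsg.pResidual
        rw [Subgroup.closure_le]
        intro g hg
        apply hTN g _ hg
        rw [Subgroup.normalizer_eq_top]
        exact Subgroup.mem_top g
      have hRn := pResidual_normal p H
      by_cases hR : Cfsg.pResidual p H = ⊤
      · exfalso
        have hTc : T ≤ Subgroup.center H := by
          intro t ht
          rw [Subgroup.mem_center_iff]
          intro g
          have hg : g ∈ Subgroup.centralizer (T : Set H) := hres (by rw [hR]; exact Subgroup.mem_top g)
          exact (Subgroup.mem_centralizer_iff.1 hg t ht).symm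
        have h1 := not_dvd_card_pResidual_of_central_sylow p T hTc hTp hTi
        rw [hR, Subgroup.card_top] at h1
        apply h1
        have hnt : Nontrivial T := (Subgroup.nontrivial_iff_ne_bot T).2 hT1
        obtain ⟨k, hk⟩ := IsPGroup.iff_card.mp hTp
        have hk0 : k ≠ 0 := by
          intro h0
          rw [h0, pow_zero] at hk
          have := Finite.one_lt_card (α := T)
          omega
        have h2 : p ∣ Nat.card T := by rw [hk]; exact dvd_pow_self p hk0
        exact h2.trans (Subgroup.card_subgroup_dvd_card T)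
      · have hnt : Nontrivial (H ⧸ Cfsg.pResidual p H) := by
          rw [QuotientGroup.nontrivial_iff]; exact hR
        have hQp := pResidual_quotient_isPGroup p H
        obtain ⟨M, hMn, hMi⟩ := exists_normal_index_of_isPGroup hQp
        refine ⟨M.comap (QuotientGroup.mk' _), hMn.comap _, ?_⟩
        rw [Subgroup.index_comap_of_surjective _ (QuotientGroup.mk'_surjective _), hMi]
    · -- pass to the quotient by `WT`
      have hπs : Function.Surjective (QuotientGroup.mk' WT) := QuotientGroup.mk'_surjective WT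
      have hQcard : Nat.card (H ⧸ WT) < n := by
        have h1 := Subgroup.card_eq_card_quotient_mul_card_subgroup WT
        have hnt : Nontrivial WT := (Subgroup.nontrivial_iff_ne_bot WT).2 hWT1
        have h2 := Finite.one_lt_card (α := WT)
        have h3 : 0 < Nat.card (H ⧸ WT) := Nat.card_pos
        rw [← hn, h1]
        nlinarith
      have hTQp : IsPGroup p (T.map (QuotientGroup.mk' WT)) := hTp.map _
      have hTQi : ¬ p ∣ (T.map (QuotientGroup.mk' WT)).index := by
        intro h
        exact hTi (h.trans (Subgroup.index_map_dvd T hπs))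
      have hTQ1 : T.map (QuotientGroup.mk' WT) ≠ ⊥ := by
        intro h
        apply hTW
        rw [← QuotientGroup.ker_mk' WT]
        exact (Subgroup.map_eq_bot_iff _).1 h
      have hcomap : (T.map (QuotientGroup.mk' WT)).comap (QuotientGroup.mk' WT) = T := by
        rw [Subgroup.comap_map_eq, QuotientGroup.ker_mk', sup_eq_left]
        exact hWTle
      have hTQN : NC p (T.map (QuotientGroup.mk' WT)) := by
        intro x hx hxp
        obtain ⟨g, rfl, hgp⟩ := exists_coprime_lift (QuotientGroup.mk' WT) hπs x hxp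
        have hgN : g ∈ Subgroup.normalizer (T : Set H) := by
          have h1 : g ∈ (Subgroup.normalizer ((T.map (QuotientGroup.mk' WT) : Subgroup (H ⧸ WT)) :
              Set (H ⧸ WT))).comap (QuotientGroup.mk' WT) := hx
          rw [Subgroup.comap_normalizer_eq_of_surjective _ hπs, hcomap] at h1
          exact h1
        have hgC := hTN g hgN hgp
        rw [Subgroup.mem_centralizer_iff] at hgC ⊢
        rintro _ ⟨t, ht, rfl⟩
        rw [← map_mul, ← map_mul, hgC t ht]
      have hsecQ : IsSec G₀ (H ⧸ WT) := hsec.quotient WT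
      obtain ⟨M, hMn, hMi⟩ := ih _ hQcard (H ⧸ WT) rfl hsecQ _ hTQp hTQi hTQ1 hTQN
      refine ⟨M.comap (QuotientGroup.mk' WT), hMn.comap _, ?_⟩
      rw [Subgroup.index_comap_of_surjective _ hπs, hMi]
  · -- the normalizer of `WT` is proper
    set L := Subgroup.normalizer (WT : Set H) with hL
    have hLcard : Nat.card L < n := by rw [← hn]; exact card_lt_of_ne_top hcase
    have hsecL : IsSec G₀ ↥L := hsec.subgroup L
    have hTLp : IsPGroup p (T.subgroupOf L) := hTp.comap_subtype
    have hTLi : ¬ p ∣ (T.subgroupOf L).index := by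
      intro h
      apply hTi
      rw [← Subgroup.relIndex_mul_index hTNW]
      exact Dvd.dvd.mul_right h _
    have hTL1 : T.subgroupOf L ≠ ⊥ := by
      intro h
      apply hT1
      rw [Subgroup.subgroupOf_eq_bot, disjoint_iff, inf_eq_left.2 hTNW] at h
      exact h
    have hTLN : NC p (T.subgroupOf L) := by
      intro g hg hgp
      have hgN : (g : H) ∈ Subgroup.normalizer (T : Set H) := by
        rw [Subgroup.mem_normalizer_iff] at hg ⊢
        intro t
        constructor
        · intro ht
          have := (hg ⟨t, hTNW ht⟩).1 (Subgroup.mem_subgroupOf.2 ht)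
          exact Subgroup.mem_subgroupOf.1 this
        · intro ht
          have htL : t ∈ L := by
            have h1 : (g : H)⁻¹ * ((g : H) * t * (g : H)⁻¹) * (g : H) = t := by group
            rw [← h1]
            exact Subgroup.mul_mem _ (Subgroup.mul_mem _ (Subgroup.inv_mem _ g.2) (hTNW ht)) g.2
          have := (hg ⟨t, htL⟩).2 (Subgroup.mem_subgroupOf.2 ht)
          exact Subgroup.mem_subgroupOf.1 this
      have hgp' : (orderOf (g : H)).Coprime p := by rwa [Subgroup.orderOf_coe]
      have hgC := hTN _ hgN hgp'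
      rw [Subgroup.mem_centralizer_iff] at hgC ⊢
      intro t ht
      apply Subtype.ext
      exact hgC t (Subgroup.mem_subgroupOf.1 ht)
    obtain ⟨M, hMn, hMi⟩ := ih _ hLcard ↥L rfl hsecL _ hTLp hTLi hTL1 hTLN
    have hnotle : ¬ T.subgroupOf L ≤ M := by
      intro hle
      apply hTLi
      rw [← Subgroup.relIndex_mul_index hle, hMi]
      exact Dvd.intro_left _ rfl
    obtain ⟨t, htT, htM⟩ := SetLike.not_le_iff_exists.1 hnotle
    have hcomm : commutator L ≤ M := by
      have hcard : Nat.card (L ⧸ M) = p := by rw [← Subgroup.index_eq_card]; exact hMi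
      have hcyc : IsCyclic (L ⧸ M) := isCyclic_of_prime_card hcard
      let inst : CommGroup (L ⧸ M) := IsCyclic.commGroup
      have := Abelianization.commutator_subset_ker (QuotientGroup.mk' M)
      rwa [QuotientGroup.ker_mk'] at this
    obtain ⟨k, hk⟩ := hTp ⟨(t : H), Subgroup.mem_subgroupOf.1 htT⟩
    apply exists_normal_index_of_not_mem_commutator (t := (t : H)) (p := p)
      ⟨k, by simpa using congrArg Subtype.val hk⟩
    intro hc
    have h1 : (t : H) ∈ T ⊓ ⁅(⊤ : Subgroup H), ⊤⁆ := by
      refine Subgroup.mem_inf.2 ⟨Subgroup.mem_subgroupOf.1 htT, ?_⟩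
      rwa [← commutator_def]
    rw [hTeq, top_inf_eq, ← Subgroup.map_subtype_commutator] at h1
    obtain ⟨t', ht', hte⟩ := (Subgroup.mem_inf.1 h1).2
    have : t' = t := Subtype.ext hte
    rw [this] at ht'
    exact htM (hcomm ht')

/-- Let p be a prime, G a finite group with nontrivial Sylow p-subgroup S, and W an isomorphism-invariant p-group functor (W assigns to every group Q a subgroup W(Q), nontrivial whenever Q is a nontrivial finite p-group, and every isomorphism from a finite p-group Q onto a group R carries W(Q) onto W(R)) that controls transfer in every section of G. If N_G(S)/C_G(S) is a p-group (every element of N_G(S) of order prime to p centralizes S), then G has a normal subgroup of index p. -/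
theorem result {G : Type u} [Group G] [Finite G] {p : ℕ} [Fact p.Prime] (W : ∀ (Q : Type u) [Group Q], Subgroup Q) (hW : Cfsg.IsCharPFunctor.{u} p W) (hctl : ∀ (K R : Subgroup G) [hR : (R.subgroupOf K).Normal], Cfsg.ControlsTransferIn p (Cfsg.inducedFunctor (G := (↥K ⧸ R.subgroupOf K)) W) ⊤) (S : Sylow p G) (hS : (S : Subgroup G) ≠ ⊥) (hN : ∀ g ∈ Subgroup.normalizer (((S : Subgroup G) : Subgroup G) : Set G), (orderOf g).Coprime p → g ∈ Subgroup.centralizer ((S : Subgroup G) : Set G)) : ∃ N : Subgroup G, N.Normal ∧ N.index = p := by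
  have hctl' : ∀ (H : Type u) [Group H], IsSec G H →
      ControlsTransferIn p (inducedFunctor (G := H) W) ⊤ := by
    intro H _ hsec
    obtain ⟨K, R, hR, ⟨ε⟩⟩ := hsec.exists_equiv
    exact controlsTransferIn_top_of_equiv hW ε (hctl K R)
  exact core G W hW hctl' _ G rfl isSec_self S S.2 S.not_dvd_index hS hN

end Cfsg.Agent.S1971
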