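import Cfsg.Statements.S1976
import Cfsg.Agent.Lib.H10.KInf
import Mathlib.Order.OrderIsoNat

set_option autoImplicit false
open Cfsg

namespace Cfsg.Agent.S1976

theorem result {P : Type*} [Group P] [Finite P] {p : ℕ} [Fact p.Prime] (hP : IsPGroup p P) : ∃ n : ℕ, ∀ m : ℕ, n ≤ m → Cfsg.kSeqEven P m = Cfsg.kInfLower P ∧ Cfsg.kSeqOdd P m = Cfsg.kInfUpper P := by
  have hmono := Cfsg.Agent.Lib.H10.kSeqEven_monotone (P := P)
  have hanti := Cfsg.Agent.Lib.H10.kSeqOdd_antitone (P := P)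
  obtain ⟨n1, h1⟩ := WellFoundedGT.monotone_chain_condition (⟨Cfsg.kSeqEven P, hmono⟩ : ℕ →o Subgroup P)
  obtain ⟨n2, h2⟩ := WellFoundedGT.monotone_chain_condition
    (⟨fun n => OrderDual.toDual (Cfsg.kSeqOdd P n), fun a b hab => hanti hab⟩ : ℕ →o (Subgroup P)ᵒᵈ)
  have e1 : Cfsg.kInfLower P = Cfsg.kSeqEven P n1 := by
    apply le_antisymm
    · apply iSup_le
      intro m
      rcases le_total m n1 with h | h
      · exact hmono h
      · exact (h1 m h).symm.le
    · exact le_iSup (fun n => Cfsg.kSeqEven P n) n1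
  have e2 : Cfsg.kInfUpper P = Cfsg.kSeqOdd P n2 := by
    apply le_antisymm
    · exact iInf_le (fun n => Cfsg.kSeqOdd P n) n2
    · apply le_iInf
      intro m
      rcases le_total m n2 with h | h
      · exact hanti h
      · have := h2 m h
        exact (OrderDual.toDual_inj.mp this).le
  refine ⟨max n1 n2, fun m hm => ⟨?_, ?_⟩⟩
  · rw [e1]; exact (h1 m (le_trans (le_max_left _ _) hm)).symm
  · rw [e2]; exact (OrderDual.toDual_inj.mp (h2 m (le_trans (le_max_right _ _) hm))).symm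

end Cfsg.Agent.S1976
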