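import Cfsg.Statements.S1977
import Mathlib
import Cfsg.Agent.Lib.H10.PGroup

set_option autoImplicit false
open Cfsg

namespace Cfsg.Agent.S1977

open scoped commutatorElement
open Cfsg.Agent.Lib.H10

/-- In a finite `p`-group, if `Q` normalizes `B` and `C(B) ≰ B`, there is `c ∈ C(B) \ B` all of whose
powers commute with `Q` modulo `B`. -/
theorem exists_central_mod {P : Type*} [Group P] [Finite P] {p : ℕ} [Fact p.Prime]
    (hP : IsPGroup p P) (B Q : Subgroup P) (hQ : Q ≤ Subgroup.normalizer (B : Set P))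
    (hC : ¬ Subgroup.centralizer (B : Set P) ≤ B) :
    ∃ c ∈ Subgroup.centralizer (B : Set P), c ∉ B ∧ ∀ q ∈ Q, ∀ i : ℤ, ⁅c ^ i, q⁆ ∈ B := by
  obtain ⟨c, hcC, hcB⟩ := SetLike.not_le_iff_exists.mp hC
  set R : Subgroup P := Q ⊔ B ⊔ Subgroup.centralizer (B : Set P) with hR
  have hBR : B ≤ R := le_sup_of_le_left le_sup_right
  have hQR : Q ≤ R := le_sup_of_le_left le_sup_left
  have hCR : Subgroup.centralizer (B : Set P) ≤ R := le_sup_right
  have hRN : R ≤ Subgroup.normalizer (B : Set P) :=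
    sup_le (sup_le hQ Subgroup.le_normalizer) (Subgroup.centralizer_le_normalizer _)
  have hBn : (B.subgroupOf R).Normal := (Subgroup.normal_subgroupOf_iff_le_normalizer hBR).mpr hRN
  have hRp : IsPGroup p R := hP.to_subgroup R
  have hquot : IsPGroup p (↥R ⧸ B.subgroupOf R) := hRp.to_quotient _
  let π := QuotientGroup.mk' (B.subgroupOf R)
  let Z' : Subgroup R := Subgroup.centralizer ((B.subgroupOf R : Subgroup R) : Set R)
  have hZn : Z'.Normal := Subgroup.normal_centralizer
  let N : Subgroup (↥R ⧸ B.subgroupOf R) := Z'.map π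
  have hNn : N.Normal := Subgroup.Normal.map hZn π (QuotientGroup.mk'_surjective _)
  have hZmem : ∀ x : R, x ∈ Z' ↔ (x : P) ∈ Subgroup.centralizer (B : Set P) := by
    intro x
    constructor
    · intro hx b hb
      have := hx ⟨b, hBR hb⟩ (by simpa [Subgroup.mem_subgroupOf] using hb)
      exact congrArg Subtype.val this
    · intro hx b hb
      have hb' : (b : P) ∈ B := by simpa [Subgroup.mem_subgroupOf] using hb
      exact Subtype.ext (hx b hb')
  have hN1 : N ≠ ⊥ := by
    intro h0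
    have hmem : π ⟨c, hCR hcC⟩ ∈ N := ⟨⟨c, hCR hcC⟩, (hZmem _).mpr hcC, rfl⟩
    rw [h0, Subgroup.mem_bot] at hmem
    have := (QuotientGroup.eq_one_iff _).mp hmem
    rw [Subgroup.mem_subgroupOf] at this
    exact hcB this
  obtain ⟨x, hxN, hx1, hxc⟩ := exists_ne_one_mem_center_of_normal hquot N hN1
  obtain ⟨c₀, hc₀, rfl⟩ := hxN
  refine ⟨(c₀ : P), (hZmem c₀).mp hc₀, ?_, ?_⟩
  · intro hmem
    apply hx1
    exact (QuotientGroup.eq_one_iff _).mpr (by rw [Subgroup.mem_subgroupOf]; exact hmem)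
  · intro q hq i
    have hcomm : ⁅(π c₀) ^ i, π ⟨q, hQR hq⟩⁆ = 1 := by
      rw [commutatorElement_eq_one_iff_commute]
      have hz : (π c₀) ^ i ∈ Subgroup.center (↥R ⧸ B.subgroupOf R) := zpow_mem hxc i
      exact (Subgroup.mem_center_iff.mp hz _).symm
    have h2 : π ⁅c₀ ^ i, ⟨q, hQR hq⟩⁆ = 1 := by
      rw [map_commutatorElement, map_zpow]
      exact hcomm
    have h3 := (QuotientGroup.eq_one_iff _).mp h2
    rw [Subgroup.mem_subgroupOf] at h3
    have h4 : ((⁅c₀ ^ i, (⟨q, hQR hq⟩ : R)⁆ : R) : P) = ⁅(c₀ : P) ^ i, q⁆ := by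
      simp [commutatorElement_def]
    rw [h4] at h3
    exact h3

variable {P : Type*} [Group P]

/-- joining commutator bounds: if `H₁`, `H₂` normalize `X` and `⁅Hᵢ, D⁆ ≤ X` then `⁅H₁ ⊔ H₂, D⁆ ≤ X`. -/
theorem sup_commutator_le {X D H₁ H₂ : Subgroup P} (hn₁ : H₁ ≤ Subgroup.normalizer (X : Set P))
    (hn₂ : H₂ ≤ Subgroup.normalizer (X : Set P)) (h₁ : ⁅H₁, D⁆ ≤ X) (h₂ : ⁅H₂, D⁆ ≤ X) :
    ⁅H₁ ⊔ H₂, D⁆ ≤ X := by
  let K : Subgroup P :=
    { carrier := {h | h ∈ Subgroup.normalizer (X : Set P) ∧ ∀ d ∈ D, ⁅h, d⁆ ∈ X}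
      one_mem' := ⟨one_mem _, fun d _ => by simp⟩
      mul_mem' := by
        rintro a b ⟨ha, ha'⟩ ⟨hb, hb'⟩
        refine ⟨mul_mem ha hb, fun d hd => ?_⟩
        rw [commutatorElement_mul_left_eq_conj_mul]
        refine mul_mem ?_ (ha' d hd)
        exact (Subgroup.mem_normalizer_iff.mp ha _).mp (hb' d hd)
      inv_mem' := by
        rintro a ⟨ha, ha'⟩
        refine ⟨inv_mem ha, fun d hd => ?_⟩
        rw [commutatorElement_inv_left]
        have h1 : ⁅d, a⁆ ∈ X := by
          rw [← commutatorElement_inv]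
          exact inv_mem (ha' d hd)
        have h2 := (Subgroup.mem_normalizer_iff.mp (inv_mem ha) _).mp h1
        simpa using h2 }
  have hK₁ : H₁ ≤ K := fun h hh => ⟨hn₁ hh, fun d hd => h₁ (Subgroup.commutator_mem_commutator hh hd)⟩
  have hK₂ : H₂ ≤ K := fun h hh => ⟨hn₂ hh, fun d hd => h₂ (Subgroup.commutator_mem_commutator hh hd)⟩
  rw [Subgroup.commutator_le]
  intro h hh d hd
  exact ((sup_le hK₁ hK₂) hh).2 d hd

theorem centralizer_sup_eq (H₁ H₂ : Subgroup P) :
    Subgroup.centralizer ((H₁ ⊔ H₂ : Subgroup P) : Set P) =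
      Subgroup.centralizer (H₁ : Set P) ⊓ Subgroup.centralizer (H₂ : Set P) := by
  apply le_antisymm
  · exact le_inf (Subgroup.centralizer_le (SetLike.coe_subset_coe.mpr le_sup_left))
      (Subgroup.centralizer_le (SetLike.coe_subset_coe.mpr le_sup_right))
  · intro x hx
    have h1 : H₁ ≤ Subgroup.centralizer ({x} : Set P) := by
      intro y hy
      rw [Subgroup.mem_centralizer_singleton_iff]
      exact (hx.1 y hy)
    have h2 : H₂ ≤ Subgroup.centralizer ({x} : Set P) := by
      intro y hy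
      rw [Subgroup.mem_centralizer_singleton_iff]
      exact (hx.2 y hy)
    intro y hy
    have := (sup_le h1 h2) hy
    rw [Subgroup.mem_centralizer_singleton_iff] at this
    exact this

/-- the "centre" `B ⊓ C(B)` written as a function. -/
abbrev zc (B : Subgroup P) : Subgroup P := B ⊓ Subgroup.centralizer (B : Set P)

theorem le_normalizer_zc (B : Subgroup P) : B ≤ Subgroup.normalizer ((zc B : Subgroup P) : Set P) := by
  intro b hb
  rw [Subgroup.mem_normalizer_iff]
  intro x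
  constructor
  · rintro ⟨hx1, hx2⟩
    refine ⟨B.mul_mem (B.mul_mem hb hx1) (B.inv_mem hb), ?_⟩
    have : b * x * b⁻¹ = x := by
      have := hx2 b hb
      calc b * x * b⁻¹ = x * b * b⁻¹ := by rw [this]
        _ = x := by group
    rw [this]
    exact hx2
  · rintro ⟨hx1, hx2⟩
    have hxB : x ∈ B := by
      have := B.mul_mem (B.mul_mem (B.inv_mem hb) hx1) hb
      simpa [mul_assoc] using this
    have hcomm : b * x * b⁻¹ = x := by
      have h := hx2 b hb
      -- h : b * (b * x * b⁻¹) = (b * x * b⁻¹) * b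
      have : b * (b * x * b⁻¹) = b * x := by rw [h]; group
      exact mul_left_cancel (a := b) (by rw [this])
    rw [hcomm] at hx2
    exact ⟨hxB, hx2⟩

section join

variable {B : Subgroup P} {c : P}

theorem zpowers_le_centralizer_join (hc : c ∈ Subgroup.centralizer (B : Set P)) :
    Subgroup.zpowers c ≤ Subgroup.centralizer ((B ⊔ Subgroup.zpowers c : Subgroup P) : Set P) := by
  rw [centralizer_sup_eq]
  refine le_inf (Subgroup.zpowers_le.mpr hc) ?_
  rw [Subgroup.le_centralizer_iff_isMulCommutative]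
  infer_instance

theorem le_centralizer_zpowers (hc : c ∈ Subgroup.centralizer (B : Set P)) :
    B ≤ Subgroup.centralizer ((Subgroup.zpowers c : Subgroup P) : Set P) := by
  rw [Subgroup.le_centralizer_iff]
  exact Subgroup.zpowers_le.mpr hc

theorem zc_le_zc_join (hc : c ∈ Subgroup.centralizer (B : Set P)) :
    zc B ≤ zc (B ⊔ Subgroup.zpowers c) := by
  refine le_inf (inf_le_left.trans le_sup_left) ?_
  rw [centralizer_sup_eq]
  exact le_inf inf_le_right (inf_le_left.trans (le_centralizer_zpowers hc))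

theorem zpowers_le_zc_join (hc : c ∈ Subgroup.centralizer (B : Set P)) :
    Subgroup.zpowers c ≤ zc (B ⊔ Subgroup.zpowers c) :=
  le_inf le_sup_right (zpowers_le_centralizer_join hc)

theorem join_le_normalizer_zc_join :
    B ⊔ Subgroup.zpowers c ≤ Subgroup.normalizer ((zc (B ⊔ Subgroup.zpowers c) : Subgroup P) : Set P) :=
  le_normalizer_zc _

/-- Lemma Z. -/
theorem join_commutator_le_zc (hc : c ∈ Subgroup.centralizer (B : Set P)) {D : Subgroup P}
    (h1 : ⁅B, D⁆ ≤ zc B) (h2 : ⁅Subgroup.zpowers c, D⁆ ≤ B) :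
    ⁅B ⊔ Subgroup.zpowers c, D⁆ ≤ zc (B ⊔ Subgroup.zpowers c) := by
  apply sup_commutator_le (le_sup_left.trans join_le_normalizer_zc_join)
    (le_sup_right.trans join_le_normalizer_zc_join) (h1.trans (zc_le_zc_join hc))
  refine le_trans ?_ (zc_le_zc_join hc)
  refine le_inf h2 ?_
  rw [← Subgroup.commutator_eq_bot_iff_le_centralizer]
  apply Subgroup.commutator_commutator_eq_bot_of_rotate
  · -- ⁅⁅D, B⁆, zpowers c⁆ = ⊥
    rw [Subgroup.commutator_eq_bot_iff_le_centralizer, Subgroup.commutator_comm]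
    exact h1.trans (inf_le_left.trans (le_centralizer_zpowers hc))
  · -- ⁅⁅B, zpowers c⁆, D⁆ = ⊥
    have : ⁅B, Subgroup.zpowers c⁆ = ⊥ :=
      Subgroup.commutator_eq_bot_iff_le_centralizer.mpr (le_centralizer_zpowers hc)
    rw [this, Subgroup.commutator_bot_left]

theorem join_mem_classTwo (hB : B ∈ classTwoSubgroups P) (hc : c ∈ Subgroup.centralizer (B : Set P)) :
    B ⊔ Subgroup.zpowers c ∈ classTwoSubgroups P := by
  change ⁅B ⊔ Subgroup.zpowers c, B ⊔ Subgroup.zpowers c⁆ ≤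
    Subgroup.centralizer ((B ⊔ Subgroup.zpowers c : Subgroup P) : Set P)
  refine le_trans ?_ (inf_le_right : zc (B ⊔ Subgroup.zpowers c) ≤ _)
  apply sup_commutator_le (le_sup_left.trans join_le_normalizer_zc_join)
    (le_sup_right.trans join_le_normalizer_zc_join)
  · rw [Subgroup.commutator_comm]
    apply sup_commutator_le (le_sup_left.trans join_le_normalizer_zc_join)
      (le_sup_right.trans join_le_normalizer_zc_join)
    · exact (le_inf (Subgroup.commutator_le_self B) hB).trans (zc_le_zc_join hc)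
    · have : ⁅Subgroup.zpowers c, B⁆ = ⊥ :=
        Subgroup.commutator_eq_bot_iff_le_centralizer.mpr (Subgroup.zpowers_le.mpr hc)
      rw [this]
      exact bot_le
  · have : ⁅Subgroup.zpowers c, B ⊔ Subgroup.zpowers c⁆ = ⊥ :=
      Subgroup.commutator_eq_bot_iff_le_centralizer.mpr (zpowers_le_centralizer_join hc)
    rw [this]
    exact bot_le

end join

theorem zpowers_commutator_le {B Q : Subgroup P} {c : P}
    (h : ∀ q ∈ Q, ∀ i : ℤ, ⁅c ^ i, q⁆ ∈ B) : ⁅Subgroup.zpowers c, Q⁆ ≤ B := by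
  rw [Subgroup.commutator_le]
  rintro _ ⟨i, rfl⟩ q hq
  exact h q hq i

theorem result {P : Type*} [Group P] [Finite P] {p : ℕ} [Fact p.Prime] (hP : IsPGroup p P) (B : Subgroup P) (𝒦 : Set (Subgroup P)) (h𝒦 : 𝒦 = Cfsg.classTwoSubgroups P ∨ (∃ n, 𝒦 = Cfsg.kLowerStarFamily (Cfsg.kSeqOdd P n)) ∨ ∃ n, 𝒦 = Cfsg.kUpperStarFamily (Cfsg.kSeqEven P n)) (hB : B ∈ 𝒦) (hmax : ∀ C ∈ 𝒦, B ≤ C → C = B) : Subgroup.centralizer (B : Set P) ≤ B := by
  rcases h𝒦 with rfl | ⟨n, rfl⟩ | ⟨n, rfl⟩
  · intro x hx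
    have h1 := hmax _ (join_mem_classTwo hB hx) le_sup_left
    rw [← h1]
    exact le_sup_right (α := Subgroup P) (Subgroup.mem_zpowers x)
  · by_contra hC
    set Q := kSeqOdd P n with hQ
    obtain ⟨hB2, hQN, hBA⟩ := hB
    obtain ⟨c, hcC, hcB, hcQ⟩ := exists_central_mod hP B Q hQN hC
    have hzQ : ⁅Subgroup.zpowers c, Q⁆ ≤ B := zpowers_commutator_le hcQ
    have hmem : B ⊔ Subgroup.zpowers c ∈ kLowerStarFamily Q := by
      refine ⟨join_mem_classTwo hB2 hcC, ?_, ?_⟩
      · rw [Subgroup.le_normalizer_iff_commutator_le_left]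
        apply sup_commutator_le (le_sup_left.trans Subgroup.le_normalizer)
          (le_sup_right.trans Subgroup.le_normalizer)
        · exact (Subgroup.le_normalizer_iff_commutator_le_left.mp hQN).trans le_sup_left
        · exact hzQ.trans le_sup_left
      · intro A hA hAQ hBN h1 h2
        have hB1 : ⁅B, ⁅A, A⁆⁆ = ⊥ := by
          rw [eq_bot_iff, ← h1]
          exact Subgroup.commutator_mono le_sup_left le_rfl
        have hB3 : ⁅⁅B ⊓ Subgroup.centralizer (B : Set P), A⁆, A⁆ = ⊥ := by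
          rw [eq_bot_iff, ← h2]
          exact Subgroup.commutator_mono (Subgroup.commutator_mono (zc_le_zc_join hcC) le_rfl) le_rfl
        have hBA' := hBA A hA hAQ (le_sup_left.trans hBN) hB1 hB3
        exact join_commutator_le_zc hcC hBA'
          ((Subgroup.commutator_mono le_rfl hAQ).trans hzQ)
    have h1 := hmax _ hmem le_sup_left
    apply hcB
    rw [← h1]
    exact le_sup_right (α := Subgroup P) (Subgroup.mem_zpowers c)
  · by_contra hC
    set Q := kSeqEven P n with hQ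
    obtain ⟨hB2, hBQ⟩ := hB
    have hQN : Q ≤ Subgroup.normalizer (B : Set P) := by
      rw [Subgroup.le_normalizer_iff_commutator_le_left]
      exact hBQ.trans inf_le_left
    obtain ⟨c, hcC, hcB, hcQ⟩ := exists_central_mod hP B Q hQN hC
    have hzQ : ⁅Subgroup.zpowers c, Q⁆ ≤ B := zpowers_commutator_le hcQ
    have hmem : B ⊔ Subgroup.zpowers c ∈ kUpperStarFamily Q :=
      ⟨join_mem_classTwo hB2 hcC, join_commutator_le_zc hcC hBQ hzQ⟩
    have h1 := hmax _ hmem le_sup_left
    apply hcB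
    rw [← h1]
    exact le_sup_right (α := Subgroup P) (Subgroup.mem_zpowers c)

end Cfsg.Agent.S1977
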