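import Cfsg.Statements.S1983
import Cfsg.Agent.Lib.H10.KInfCritical
import Cfsg.Agent.Lib.H10.PStableQuot

set_option autoImplicit false
universe u
open Cfsg

namespace Cfsg.Agent.S1983

open Cfsg.Agent.Lib Cfsg.Agent.Lib.H10


/-- Let p be a prime, G a finite group with Sylow p-subgroup S and T = O_p(G). Suppose that the lower or the upper K-infinity subgroup of S is not normal in G. Then there is an element g of S outside T such that [X, g, g, g, g] ≤ Y for every chief factor X/Y of G with X ≤ T, and [Z(T), g, g] = 1; and if moreover C_G(T) ≤ T then some quotient group of G is not p-stable (in the normalizer form: some quadratically acting element of a normalizer fails to map into O_p of the automizer). -/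
theorem result {G : Type u} [Group G] [Finite G] {p : ℕ} [Fact p.Prime] (S : Sylow p G) (hK : ¬ (Cfsg.inducedFunctor Cfsg.kInfLower (S : Subgroup G)).Normal ∨ ¬ (Cfsg.inducedFunctor Cfsg.kInfUpper (S : Subgroup G)).Normal) : ∃ g : G, g ∈ (S : Subgroup G) ∧ g ∉ (Cfsg.pCore p G) ∧ (∀ U V : Subgroup G, Cfsg.IsChiefFactor U V → U ≤ (Cfsg.pCore p G) → Cfsg.iterCommutator U (Subgroup.zpowers g) 4 ≤ V) ∧ ⁅⁅((Cfsg.pCore p G) ⊓ Subgroup.centralizer (((Cfsg.pCore p G) : Subgroup G) : Set G)), (Subgroup.zpowers g)⁆, (Subgroup.zpowers g)⁆ = ⊥ ∧ (Subgroup.centralizer (((Cfsg.pCore p G) : Subgroup G) : Set G) ≤ (Cfsg.pCore p G) → ∃ (N : Subgroup G) (_ : N.Normal), ¬ Cfsg.IsNormalizerPStable p (G ⧸ N)) := by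
  by_cases hCT : Subgroup.centralizer (((Cfsg.pCore p G) : Subgroup G) : Set G) ≤ (Cfsg.pCore p G)
  · obtain ⟨A, hAn, hAT, -, hA2, hA3, hA4⟩ := exists_critical_pCore G p
    have := hAn
    have hA5 := coprime_aut_trivial_of_critical A hAT hA4
    obtain ⟨g, hgS, hgT, h1, h2, U, V, hUV, hUA, hq, hn⟩ :=
      exists_goodElt_of_not_normal S A hAT hA2 hA3 hA4 hA5 hCT hK
    obtain ⟨e1, e2⟩ := engel_four_of_cubic A hAT hA3 hA4 g h1 h2
    refine ⟨g, hgS, hgT, e1, e2, fun _ => ?_⟩
    have hVn : V.Normal := hUV.2.2.1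
    refine ⟨V, hVn, ?_⟩
    exact not_isNormalizerPStable_of_quadratic hUV
      ((H1.pCore_isPGroup p G).to_le (hUA.trans hAT)) g hq hn
  · obtain ⟨g, hgS, hgT, e1, e2⟩ := exists_engel_four_of_not_normal S hK
    exact ⟨g, hgS, hgT, e1, e2, fun h => absurd h hCT⟩

end Cfsg.Agent.S1983
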