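import Cfsg.Statements.S1985
import Mathlib
import Cfsg.Agent.Lib.H10.KInfLocal
import Cfsg.Agent.S1973
import Cfsg.Agent.S1986

set_option autoImplicit false
universe u
open Cfsg

namespace Cfsg.Agent.S1985

open Cfsg.Agent.Lib Cfsg.Agent.Lib.H10


theorem iterCommutator_eq_bot_add {L : Type*} [Group L] (N K : Subgroup L) (k m : ℕ)
    (h : Cfsg.iterCommutator N K k = ⊥) : Cfsg.iterCommutator N K (k + m) = ⊥ := by
  induction m with
  | zero => exact h
  | succ m ih =>
    show ⁅Cfsg.iterCommutator N K (k + m), K⁆ = ⊥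
    rw [ih, Subgroup.commutator_bot_left]

/-- Let p be an odd prime and G a finite group. Then the lower K-infinity subgroup controls weak closure of elements in G: the lower K-infinity subgroup of every p-subgroup P of G contains Z(P), and for some (equivalently, every) Sylow p-subgroup S of G, with K the lower K-infinity subgroup of S, every element of S commuting with all of N_G(K) is weakly closed in S with respect to G (every G-conjugate of it lying in S equals it). -/
theorem result {G : Type u} [Group G] [Finite G] {p : ℕ} [Fact p.Prime] (hp : p ≠ 2) : Cfsg.ControlsWeakClosureOfElementsIn p (Cfsg.inducedFunctor (G := G) Cfsg.kInfLower) ⊤ := by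
  have hp3 : 3 ≤ p := by
    have h2 : 2 ≤ p := (Fact.out : p.Prime).two_le
    omega
  refine Cfsg.Agent.S1973.result (Cfsg.inducedFunctor Cfsg.kInfLower)
    (isConjugacyFunctor_inducedFunctor (isCharPFunctor_kInfLower.{u} p))
    (fun P _ => Cfsg.Agent.S1986.center_le_induced_kInfLower P) ?_ ⊤
  intro H T hTH hTp hTi hN
  obtain ⟨g, hgT, hgP, hq⟩ := exists_quadratic_center_of_not_le_normalizer H T hTH hTp hTi hN
  refine ⟨g, hgT, hgP, ?_⟩
  intro U V _ hU
  have h2 : Cfsg.iterCommutator (U.map H.subtype) (Subgroup.zpowers g) 2 = ⊥ := by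
    rw [eq_bot_iff, ← hq]
    show ⁅⁅U.map H.subtype, Subgroup.zpowers g⁆, Subgroup.zpowers g⁆ ≤ _
    exact Subgroup.commutator_mono (Subgroup.commutator_mono hU le_rfl) le_rfl
  have h3 := iterCommutator_eq_bot_add (U.map H.subtype) (Subgroup.zpowers g) 2 (p - 1 - 2) h2
  have e : 2 + (p - 1 - 2) = p - 1 := by omega
  rw [e] at h3
  rw [h3]
  exact bot_le

end Cfsg.Agent.S1985
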