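import Cfsg.Statements.S1990
import Cfsg.Agent.Lib.H10.PAbP
import Cfsg.Agent.Lib.H10.ThompsonNPC
import Cfsg.Agent.Lib.L0.NPCBasic

set_option autoImplicit false
universe u
open Cfsg

namespace Cfsg.Agent.S1990

open Cfsg.Agent.Lib Cfsg.Agent.Lib.H10


/-- Let p be an odd prime, G a finite group with Sylow p-subgroup S, and W an isomorphism-invariant p-group functor (W assigns to every group Q a subgroup W(Q), nontrivial whenever Q is a nontrivial finite p-group, and every isomorphism from a finite p-group Q onto a group R carries W(Q) onto W(R)). Suppose N_G(W(S)) has a normal p-complement, and W(T) controls strong fusion in every section G* = K/R of G all of whose sections are p-stable in the normalizer form, for every Sylow p-subgroup T of G*. Then G has a normal p-complement. -/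
theorem result {G : Type u} [Group G] [Finite G] {p : ℕ} [Fact p.Prime] (hp : p ≠ 2) (W : ∀ (Q : Type u) [Group Q], Subgroup Q) (hW : Cfsg.IsCharPFunctor.{u} p W) (S : Sylow p G) (hN : Cfsg.HasNormalPComplement p ↥(Subgroup.normalizer ((Cfsg.inducedFunctor (G := G) W (S : Subgroup G) : Subgroup G) : Set G))) (hctl : ∀ (K R : Subgroup G) [hR : (R.subgroupOf K).Normal], (∀ (K' R' : Subgroup (↥K ⧸ R.subgroupOf K)) [hR' : (R'.subgroupOf K').Normal], Cfsg.IsNormalizerPStable p (↥K' ⧸ R'.subgroupOf K')) → ∀ T : Sylow p (↥K ⧸ R.subgroupOf K), Cfsg.ControlsStrongFusion p (Cfsg.inducedFunctor (G := (↥K ⧸ R.subgroupOf K)) W (T : Subgroup (↥K ⧸ R.subgroupOf K)))) : Cfsg.HasNormalPComplement p G := by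
  have hN' : Npc p (Subgroup.normalizer ((Cfsg.inducedFunctor (G := G) W (S : Subgroup G) :
      Subgroup G) : Set G)) := (hasNPC_subgroup_iff _).mp hN
  have hloc : ∀ (H : Type u) [Group H] [Finite H], IsSec G H →
      Subgroup.centralizer ((Cfsg.pCore p H : Subgroup H) : Set H) ≤ Cfsg.pCore p H →
      Cfsg.HasNormalPComplement p (H ⧸ Cfsg.pCore p H) →
      ∀ T : Sylow p H, IsCoatom (T : Subgroup H) →
      Npc p (Subgroup.normalizer ((inducedFunctor W (T : Subgroup H) : Subgroup H) : Set H)) →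
      Npc p (⊤ : Subgroup H) := by
    intro H _ _ hsec _ hquot T hT hNT
    have hX : IsPAbP p H := isPAbP_of_coatom_sylow hquot T hT
    obtain ⟨K, R, hR, ⟨ε⟩⟩ := hsec.exists_equiv
    have hX₁ : IsPAbP p (↥K ⧸ R.subgroupOf K) := hX.of_injective ε.toMonoidHom ε.injective
    have hst₁ : ∀ (K' R' : Subgroup (↥K ⧸ R.subgroupOf K)) [hR' : (R'.subgroupOf K').Normal],
        Cfsg.IsNormalizerPStable p (↥K' ⧸ R'.subgroupOf K') := by
      intro K' R' hR'
      apply IsPAbP.isNormalizerPStable hp
      exact hX₁.of_isSec ⟨K', QuotientGroup.mk' _, QuotientGroup.mk'_surjective _⟩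
    -- the Sylow subgroup of `K / R`
    have hT'p : IsPGroup p ((T : Subgroup H).map ε.symm.toMonoidHom) := T.2.map _
    have hT'i : ¬ p ∣ ((T : Subgroup H).map ε.symm.toMonoidHom).index := by
      have := Subgroup.index_map_equiv (T : Subgroup H) ε.symm
      rw [show ((ε.symm : H →* (↥K ⧸ R.subgroupOf K))) = ε.symm.toMonoidHom from rfl] at this
      rw [this]
      exact T.not_dvd_index
    let T' : Sylow p (↥K ⧸ R.subgroupOf K) := hT'p.toSylow hT'i
    have hT' : (T' : Subgroup (↥K ⧸ R.subgroupOf K)) = (T : Subgroup H).map ε.symm.toMonoidHom :=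
      hT'p.toSylow_coe hT'i
    have hctl₁ := hctl K R hst₁ T'
    have hmapW : (Cfsg.inducedFunctor (G := H) W (T : Subgroup H)).map ε.symm.toMonoidHom =
        Cfsg.inducedFunctor (G := (↥K ⧸ R.subgroupOf K)) W
          ((T' : Subgroup (↥K ⧸ R.subgroupOf K))) := by
      rw [inducedFunctor_map_equiv hW ε.symm _ T.2, hT']
    have hN₁ : Npc p (Subgroup.normalizer ((Cfsg.inducedFunctor (G := (↥K ⧸ R.subgroupOf K)) W
        ((T' : Subgroup (↥K ⧸ R.subgroupOf K))) : Subgroup (↥K ⧸ R.subgroupOf K)) :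
          Set (↥K ⧸ R.subgroupOf K))) := by
      have h1 := hNT.map ε.symm.toMonoidHom
      have h2 := Subgroup.map_equiv_normalizer_eq
        (Cfsg.inducedFunctor (G := H) W (T : Subgroup H)) ε.symm
      rw [h2, hmapW] at h1
      exact h1
    have hnpc₁ : Cfsg.HasNormalPComplement p (↥K ⧸ R.subgroupOf K) :=
      hasNPC_of_controlsStrongFusion W hW T' hctl₁ ((hasNPC_subgroup_iff _).mpr hN₁)
    have hnpc : Cfsg.HasNormalPComplement p H := Cfsg.Agent.Lib.L0.HasNormalPComplement.of_mulEquiv ε hnpc₁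
    exact hasNPC_iff_npc_top.mp hnpc
  have key := npc_of_sections G W hW hloc (Nat.card G) G rfl isSec_self S hN'
  exact hasNPC_iff_npc_top.mpr key

end Cfsg.Agent.S1990
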