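import Cfsg.Statements.S2015
import Mathlib
import Cfsg.Agent.Lib.H10.KInfEngel
import Cfsg.Agent.Lib.H10.FamilyTransfer
import Cfsg.Agent.S1984

set_option autoImplicit false
universe u
open Cfsg

namespace Cfsg.Agent.S2015

open Cfsg.Agent.Lib Cfsg.Agent.Lib.H10


/-- transfer control by a single functor, at a prescribed Sylow subgroup -/
theorem controlsTransfer_at_sylow {G : Type u} [Group G] [Finite G] {p : ℕ} [Fact p.Prime]
    (W : Subgroup G → Subgroup G) (hW : Cfsg.IsConjugacyFunctor p W)
    (hc : Cfsg.ControlsTransferIn p W ⊤) (T : Sylow p G) :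
    (T : Subgroup G) ⊓ ⁅(⊤ : Subgroup G), ⊤⁆ =
      (T : Subgroup G) ⊓ ⁅Subgroup.normalizer ((W (T : Subgroup G) : Subgroup G) : Set G),
        Subgroup.normalizer ((W (T : Subgroup G) : Subgroup G) : Set G)⁆ := by
  have hfam : Cfsg.FamilyControlsTransferIn p ({W} : Set (Subgroup G → Subgroup G)) ⊤ := by
    obtain ⟨T₀, h1, h2, h3, h4⟩ := hc
    refine ⟨T₀, h1, h2, h3, ?_⟩
    rw [iSup_singleton]
    exact h4
  have h𝓦 : ∀ W' ∈ ({W} : Set (Subgroup G → Subgroup G)), Cfsg.IsConjugacyFunctor p W' := by
    intro W' hW'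
    rw [Set.mem_singleton_iff] at hW'
    rw [hW']; exact hW
  have hTi : ¬ p ∣ (T : Subgroup G).relIndex ⊤ := by
    rw [Subgroup.relIndex_top_right]
    exact T.not_dvd_index
  have := familyControlsTransferIn_sylowIn h𝓦 hfam T.2 le_top hTi
  rw [iSup_singleton, top_inf_eq] at this
  exact this

/-- For p ≥ 5, every finite p-group P has a characteristic subgroup K containing Z(P), depending only on P, whose normalizer controls transfer wherever P is a Sylow subgroup: for every finite group G and every embedding ι of P onto a Sylow p-subgroup of G, the intersection of ι(P) with the derived subgroup of G equals its intersection with the derived subgroup of N_G(ι(K)). -/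
theorem result (p : ℕ) [Fact p.Prime] (hp : 5 ≤ p) (P : Type u) [Group P] [Finite P] (hP : IsPGroup p P) : ∃ K : Subgroup P, K.Characteristic ∧ Subgroup.center P ≤ K ∧ ∀ (G : Type u) [Group G] [Finite G] (ι : P →* G), Function.Injective ι → (∃ T : Sylow p G, (T : Subgroup G) = ι.range) → ι.range ⊓ commutator G = ι.range ⊓ (commutator ↥(Subgroup.normalizer ((K.map ι : Subgroup G) : Set G))).map (Subgroup.normalizer ((K.map ι : Subgroup G) : Set G)).subtype := by
  refine ⟨Cfsg.kInfLower P, ?_, center_le_kInfLower P, ?_⟩
  · rw [Subgroup.characteristic_iff_map_eq]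
    intro φ
    exact kInfLower_map_equiv φ
  · intro G _ _ ι hι hT
    obtain ⟨T, hTι⟩ := hT
    have hW := isConjugacyFunctor_inducedFunctor (H := G) (isCharPFunctor_kInfLower.{u} p)
    have h1 := controlsTransfer_at_sylow (Cfsg.inducedFunctor (G := G) Cfsg.kInfLower) hW
      (Cfsg.Agent.S1984.result hp) T
    -- identify `W T` with `K.map ι`
    have hWT : Cfsg.inducedFunctor (G := G) Cfsg.kInfLower (T : Subgroup G) =
        (Cfsg.kInfLower P).map ι := by
      rw [hTι]
      unfold Cfsg.inducedFunctor
      have e := kInfLower_map_equiv (MonoidHom.ofInjective hι)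
      rw [← e, Subgroup.map_map]
      congr 1
    rw [hWT, hTι] at h1
    set N := Subgroup.normalizer (((Cfsg.kInfLower P).map ι : Subgroup G) : Set G) with hN
    have h2 : (commutator ↥N).map N.subtype = ⁅N, N⁆ := by
      rw [commutator_def, Subgroup.map_commutator, ← MonoidHom.range_eq_map, Subgroup.range_subtype]
    rw [h2, commutator_def]
    exact h1

end Cfsg.Agent.S2015
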