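import Cfsg.Statements.S1991
import Mathlib
import Cfsg.Agent.Lib.H10.KInfEngel
import Cfsg.Agent.Lib.H10.FamilyTransfer
import Cfsg.Agent.Lib.H10.SecMain
import Cfsg.Agent.Lib.H6.PResidual
import Cfsg.Agent.Lib.H1.PGroupBasic
import Cfsg.Agent.S1984
import Cfsg.Agent.S2015

set_option autoImplicit false
open Cfsg

namespace Cfsg.Agent.S1991

open Cfsg.Agent.Lib Cfsg.Agent.Lib.H10

universe u

/-- the hypothesis: `p'`-elements of `N_G(S)` centralize `S` -/
def Hyp {G : Type u} [Group G] {p : ℕ} [Fact p.Prime] (S : Sylow p G) : Prop :=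
  ∀ g ∈ Subgroup.normalizer (((S : Subgroup G) : Subgroup G) : Set G), (orderOf g).Coprime p →
    g ∈ Subgroup.centralizer (((S : Subgroup G) : Subgroup G) : Set G)

/-- abelian Sylow subgroup: Burnside -/
theorem not_le_commutator_of_abelian {G : Type u} [Group G] [Finite G] {p : ℕ} [hp : Fact p.Prime]
    (S : Sylow p G) (hS : (S : Subgroup G) ≠ ⊥) (hab : ⁅(S : Subgroup G), (S : Subgroup G)⁆ = ⊥)
    (hN : Hyp S) : ¬ (S : Subgroup G) ≤ commutator G := by
  have hSC : (S : Subgroup G) ≤ Subgroup.centralizer ((S : Subgroup G) : Set G) :=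
    Subgroup.commutator_eq_bot_iff_le_centralizer.mp hab
  have hP : Subgroup.normalizer ((S : Subgroup G) : Set G) ≤
      Subgroup.centralizer ((S : Subgroup G) : Set G) := by
    intro g hg
    have hpos : 0 < orderOf g := orderOf_pos g
    obtain ⟨a, m, hm, hem⟩ := Nat.exists_eq_pow_mul_and_not_dvd hpos.ne' p hp.out.ne_one
    have hmp : Nat.Coprime m p := ((Nat.Prime.coprime_iff_not_dvd hp.out).mpr hm).symm
    have h1 : g ^ (p ^ a) ∈ Subgroup.centralizer ((S : Subgroup G) : Set G) := by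
      apply hN _ (Subgroup.pow_mem _ hg _)
      have hd : orderOf (g ^ (p ^ a)) ∣ m := by
        rw [orderOf_dvd_iff_pow_eq_one, ← pow_mul, ← hem, pow_orderOf_eq_one]
      exact Nat.Coprime.coprime_dvd_left hd hmp
    have h2 : g ^ m ∈ Subgroup.centralizer ((S : Subgroup G) : Set G) := by
      apply hSC
      have hgm : (g ^ m) ^ (p ^ a) = 1 := by
        rw [← pow_mul, mul_comm, ← hem, pow_orderOf_eq_one]
      have hpg : IsPGroup p (Subgroup.zpowers (g ^ m)) := by
        rintro ⟨y, hy⟩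
        obtain ⟨n, rfl⟩ := Subgroup.mem_zpowers_iff.mp hy
        refine ⟨a, Subtype.ext ?_⟩
        show ((g ^ m) ^ n) ^ (p ^ a) = 1
        rw [← zpow_natCast, ← zpow_mul, mul_comm, zpow_mul, zpow_natCast, hgm, one_zpow]
      have h3 := hpg.inf_normalizer_sylow S
      have h4 : g ^ m ∈ Subgroup.zpowers (g ^ m) ⊓ (S : Subgroup G) := by
        rw [← h3]
        exact ⟨Subgroup.mem_zpowers _, Subgroup.pow_mem _ hg _⟩
      exact h4.2
    exact Cfsg.Agent.Lib.H6.mem_of_pow_mem_of_coprime (Nat.Coprime.pow_left a hmp.symm) h1 h2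
  have hcompl := MonoidHom.ker_transferSylow_isComplement' S hP
  intro hle
  apply hS
  have hker : commutator G ≤ (MonoidHom.transferSylow S hP).ker := by
    rw [commutator_def, Subgroup.commutator_le]
    intro x _ y _
    rw [MonoidHom.mem_ker, map_commutatorElement, commutatorElement_eq_one_iff_commute]
    have := Subgroup.mem_centralizer_iff.mp (hSC ((MonoidHom.transferSylow S hP) x).2)
      ((MonoidHom.transferSylow S hP) y) ((MonoidHom.transferSylow S hP) y).2
    exact Subtype.ext this.symm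
  have hdis := hcompl.disjoint
  rw [disjoint_iff] at hdis
  rw [eq_bot_iff, ← hdis]
  exact le_inf (hle.trans hker) le_rfl

/-- descent to a subgroup containing `S` -/
theorem sub_step {G : Type u} [Group G] [Finite G] {p : ℕ} [hp : Fact p.Prime]
    (S : Sylow p G) (hS : (S : Subgroup G) ≠ ⊥) (hN : Hyp S) (N₀ : Subgroup G)
    (hle : (S : Subgroup G) ≤ N₀)
    (IH : ∀ S' : Sylow p ↥N₀, (S' : Subgroup ↥N₀) ≠ ⊥ → Hyp S' →
      ¬ (S' : Subgroup ↥N₀) ≤ commutator ↥N₀) :
    ¬ (S : Subgroup G) ≤ ⁅N₀, N₀⁆ := by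
  intro hcon
  have hcoe : ((S.subtype hle : Sylow p ↥N₀) : Subgroup ↥N₀) = (S : Subgroup G).subgroupOf N₀ :=
    Sylow.coe_subtype S hle
  have hmap : ((S : Subgroup G).subgroupOf N₀).map N₀.subtype = (S : Subgroup G) :=
    Subgroup.map_subgroupOf_eq_of_le hle
  apply IH (S.subtype hle)
  · rw [hcoe]
    intro hb
    apply hS
    rw [← hmap, hb, Subgroup.map_bot]
  · intro g hg hgo
    rw [hcoe] at hg ⊢
    rw [mem_normalizer_subtype_iff, hmap] at hg
    have h1 := hN (g : G) hg (by rw [Subgroup.orderOf_coe]; exact hgo)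
    rw [Subgroup.mem_centralizer_iff] at h1 ⊢
    intro y hy
    apply Subtype.ext
    exact h1 (y : G) (Subgroup.mem_subgroupOf.mp hy)
  · rw [hcoe]
    intro x hx
    have hx' : (x : G) ∈ ⁅N₀, N₀⁆ := hcon (Subgroup.mem_subgroupOf.mp hx)
    have e : (commutator ↥N₀).map N₀.subtype = ⁅N₀, N₀⁆ := by
      rw [commutator_def, Subgroup.map_commutator, ← MonoidHom.range_eq_map, Subgroup.range_subtype]
    rw [← e] at hx'
    obtain ⟨y, hy, hyx⟩ := hx'
    have : y = x := Subtype.ext hyx
    rw [← this]; exact hy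

/-- descent to a quotient by a normal subgroup properly contained in `S` -/
theorem quot_step {G : Type u} [Group G] [Finite G] {p : ℕ} [hp : Fact p.Prime]
    (S : Sylow p G) (hN : Hyp S) (K₁ : Subgroup G) [hK₁n : K₁.Normal]
    (hK₁S : K₁ ≤ (S : Subgroup G)) (hne : K₁ ≠ (S : Subgroup G))
    (IH : ∀ S' : Sylow p (G ⧸ K₁), (S' : Subgroup (G ⧸ K₁)) ≠ ⊥ → Hyp S' →
      ¬ (S' : Subgroup (G ⧸ K₁)) ≤ commutator (G ⧸ K₁)) :
    ¬ (S : Subgroup G) ≤ commutator G := by
  intro hcon
  set π := QuotientGroup.mk' K₁ with hπ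
  have hπs : Function.Surjective π := QuotientGroup.mk'_surjective K₁
  have hTp : IsPGroup p ((S : Subgroup G).map π) := S.2.map π
  have hTi : ¬ p ∣ ((S : Subgroup G).map π).index := by
    rw [Subgroup.index_map, QuotientGroup.ker_mk', sup_eq_left.mpr hK₁S,
      MonoidHom.range_eq_top.mpr hπs, Subgroup.index_top, mul_one]
    exact S.not_dvd_index
  have hcoe : ((hTp.toSylow hTi : Sylow p (G ⧸ K₁)) : Subgroup (G ⧸ K₁)) = (S : Subgroup G).map π :=
    hTp.toSylow_coe hTi
  have hmem : ∀ x : G, π x ∈ (S : Subgroup G).map π ↔ x ∈ (S : Subgroup G) := by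
    intro x
    rw [← Subgroup.mem_comap, hπ, QuotientGroup.comap_map_mk', sup_eq_right.mpr hK₁S]
  apply IH (hTp.toSylow hTi)
  · rw [hcoe]
    intro hb
    apply hne
    apply le_antisymm hK₁S
    intro x hx
    have : π x ∈ (S : Subgroup G).map π := Subgroup.mem_map_of_mem π hx
    rw [hb, Subgroup.mem_bot, hπ, QuotientGroup.mk'_apply, QuotientGroup.eq_one_iff] at this
    exact this
  · intro gb hgb hgo
    rw [hcoe] at hgb ⊢
    obtain ⟨g, rfl⟩ := hπs gb
    have hgN : g ∈ Subgroup.normalizer ((S : Subgroup G) : Set G) := by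
      rw [Subgroup.mem_normalizer_iff] at hgb ⊢
      intro x
      rw [← hmem x, ← hmem (g * x * g⁻¹), map_mul, map_mul, map_inv]
      exact hgb (π x)
    have hpos : 0 < orderOf g := orderOf_pos g
    obtain ⟨a, m, hm, hem⟩ := Nat.exists_eq_pow_mul_and_not_dvd hpos.ne' p hp.out.ne_one
    have hmp : Nat.Coprime m p := ((Nat.Prime.coprime_iff_not_dvd hp.out).mpr hm).symm
    have h1 : g ^ (p ^ a) ∈ Subgroup.centralizer ((S : Subgroup G) : Set G) := by
      apply hN _ (Subgroup.pow_mem _ hgN _)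
      have hd : orderOf (g ^ (p ^ a)) ∣ m := by
        rw [orderOf_dvd_iff_pow_eq_one, ← pow_mul, ← hem, pow_orderOf_eq_one]
      exact Nat.Coprime.coprime_dvd_left hd hmp
    have h2 : (π g) ^ (p ^ a) ∈
        Subgroup.centralizer ((((S : Subgroup G).map π : Subgroup (G ⧸ K₁))) : Set (G ⧸ K₁)) := by
      rw [Subgroup.mem_centralizer_iff]
      rintro _ ⟨y, hy, rfl⟩
      rw [← map_pow, ← map_mul, ← map_mul]
      congr 1
      exact Subgroup.mem_centralizer_iff.mp h1 y hy
    have h3 : (π g) ^ (orderOf (π g)) ∈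
        Subgroup.centralizer ((((S : Subgroup G).map π : Subgroup (G ⧸ K₁))) : Set (G ⧸ K₁)) := by
      rw [pow_orderOf_eq_one]; exact Subgroup.one_mem _
    exact Cfsg.Agent.Lib.H6.mem_of_pow_mem_of_coprime (Nat.Coprime.pow_left a hgo.symm) h2 h3
  · rw [hcoe]
    have e : (commutator G).map π = commutator (G ⧸ K₁) := by
      rw [commutator_def, Subgroup.map_commutator, ← MonoidHom.range_eq_map,
        MonoidHom.range_eq_top.mpr hπs, commutator_def]
    rw [← e]
    exact Subgroup.map_mono hcon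

theorem commutator_ne_self_of_isPGroup {G : Type u} [Group G] [Finite G] {p : ℕ} [hp : Fact p.Prime]
    (S : Subgroup G) (hSp : IsPGroup p ↥S) (hS : S ≠ ⊥) : ⁅S, S⁆ ≠ S := by
  intro h
  obtain ⟨c, hc⟩ := (Subgroup.isNilpotent_iff_lowerCentralSeries S).mp hSp.isNilpotent
  have key : ∀ k : ℕ, S.lowerCentralSeries k = S := by
    intro k
    induction k with
    | zero => rfl
    | succ k ih => rw [Subgroup.lowerCentralSeries_succ, ih, h]
  apply hS
  rw [← key c, hc]

theorem main {p : ℕ} [hp : Fact p.Prime] (hp5 : 5 ≤ p) :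
    ∀ (n : ℕ) (G : Type u) [Group G] [Finite G], Nat.card G = n → ∀ S : Sylow p G,
      (S : Subgroup G) ≠ ⊥ → Hyp S → ¬ (S : Subgroup G) ≤ commutator G := by
  intro n
  induction n using Nat.strong_induction_on with
  | _ n ih =>
  intro G _ _ hn S hS hN hle
  by_cases hab : ⁅(S : Subgroup G), (S : Subgroup G)⁆ = ⊥
  · exact not_le_commutator_of_abelian S hS hab hN hle
  have hW := isConjugacyFunctor_inducedFunctor (H := G) (isCharPFunctor_kInfLower.{u} p)
  set K := Cfsg.inducedFunctor (G := G) Cfsg.kInfLower (S : Subgroup G) with hK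
  have htr := Cfsg.Agent.S2015.controlsTransfer_at_sylow
    (Cfsg.inducedFunctor (G := G) Cfsg.kInfLower) hW (Cfsg.Agent.S1984.result hp5) S
  rw [← hK] at htr
  set N₀ := Subgroup.normalizer ((K : Subgroup G) : Set G) with hN₀
  have hSN₀ : (S : Subgroup G) ≤ N₀ :=
    Subgroup.le_normalizer.trans (normalizer_le_normalizer_functor hW S.2)
  have hS' : (S : Subgroup G) ≤ ⁅N₀, N₀⁆ := by
    have h1 : (S : Subgroup G) ≤ (S : Subgroup G) ⊓ ⁅(⊤ : Subgroup G), ⊤⁆ := by
      rw [← commutator_def]; exact le_inf le_rfl hle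
    rw [htr] at h1
    exact h1.trans inf_le_right
  have hKS : K ≤ (S : Subgroup G) := functor_le hW S.2
  have hK1 : K ≠ ⊥ := (hW (S : Subgroup G) S.2).2.1 hS
  by_cases hN₀top : N₀ = ⊤
  · haveI hKn : K.Normal := Subgroup.normalizer_eq_top_iff.mp hN₀top
    by_cases hKeq : K = (S : Subgroup G)
    · haveI hSn : (S : Subgroup G).Normal := hKeq ▸ hKn
      haveI : (⁅(S : Subgroup G), (S : Subgroup G)⁆).Normal := Subgroup.commutator_normal _ _
      refine quot_step S hN ⁅(S : Subgroup G), (S : Subgroup G)⁆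
        (Subgroup.commutator_le_left _ _) (commutator_ne_self_of_isPGroup _ S.2 hS) ?_ hle
      intro S' hS'1 hS'2
      exact ih _ (hn ▸ card_quotient_lt_of_ne_bot hab) _ rfl S' hS'1 hS'2
    · refine quot_step S hN K hKS hKeq ?_ hle
      intro S' hS'1 hS'2
      exact ih _ (hn ▸ card_quotient_lt_of_ne_bot hK1) _ rfl S' hS'1 hS'2
  · refine sub_step S hS hN N₀ hSN₀ ?_ hS'
    intro S' hS'1 hS'2
    exact ih _ (hn ▸ card_subgroup_lt_of_ne_top hN₀top) _ rfl S' hS'1 hS'2

theorem exists_normal_index_p {G : Type u} [Group G] [Finite G] {p : ℕ} [hp : Fact p.Prime]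
    (S : Sylow p G) (h : ¬ (S : Subgroup G) ≤ commutator G) :
    ∃ N : Subgroup G, N.Normal ∧ N.index = p := by
  have hO : Cfsg.pResidual p G ≠ ⊤ := by
    intro htop
    apply h
    intro s hs
    obtain ⟨k, hk⟩ := S.2 ⟨s, hs⟩
    have hk' : s ^ p ^ k = 1 := by
      have := congrArg Subtype.val hk
      simpa using this
    exact Cfsg.Agent.Lib.H6.mem_commutator_of_pResidual_eq_top p htop s k hk'
  haveI hOn : (Cfsg.pResidual p G).Normal := Cfsg.Agent.Lib.H6.pResidual_normal p
  have hQp : IsPGroup p (G ⧸ Cfsg.pResidual p G) := Cfsg.Agent.Lib.H6.isPGroup_quotient_pResidual p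
  have hbt : (⊥ : Subgroup (G ⧸ Cfsg.pResidual p G)) ≠ ⊤ := by
    intro hbt
    apply hO
    rw [eq_top_iff]
    intro x _
    have : (QuotientGroup.mk' (Cfsg.pResidual p G)) x ∈ (⊥ : Subgroup (G ⧸ Cfsg.pResidual p G)) := by
      rw [hbt]; exact Subgroup.mem_top _
    rw [Subgroup.mem_bot, QuotientGroup.mk'_apply, QuotientGroup.eq_one_iff] at this
    exact this
  obtain ⟨M, hM, -⟩ := (eq_top_or_exists_le_coatom (⊥ : Subgroup (G ⧸ Cfsg.pResidual p G))).resolve_left hbt
  have hMn : M.Normal := Cfsg.Agent.Lib.H1.isPGroup_coatom_normal hQp hM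
  have hMi : M.index = p := Cfsg.Agent.Lib.H1.isPGroup_coatom_index hQp hM
  refine ⟨M.comap (QuotientGroup.mk' (Cfsg.pResidual p G)), hMn.comap _, ?_⟩
  rw [Subgroup.index_comap_of_surjective _ (QuotientGroup.mk'_surjective _)]
  exact hMi

/-- Let p ≥ 5 be a prime and S a nontrivial Sylow p-subgroup of the finite group G. If N_G(S)/C_G(S) is a p-group (every element of N_G(S) of order prime to p centralizes S), then G has a normal subgroup of index p. -/
theorem result {G : Type*} [Group G] [Finite G] {p : ℕ} [Fact p.Prime] (hp : 5 ≤ p) (S : Sylow p G) (hS : (S : Subgroup G) ≠ ⊥) (hN : ∀ g ∈ Subgroup.normalizer (((S : Subgroup G) : Subgroup G) : Set G), (orderOf g).Coprime p → g ∈ Subgroup.centralizer (((S : Subgroup G) : Subgroup G) : Set G)) : ∃ N : Subgroup G, N.Normal ∧ N.index = p := by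
  exact exists_normal_index_p S (main hp (Nat.card G) G rfl S hS hN)

end Cfsg.Agent.S1991
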