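import Cfsg.Statements.S1992
import Cfsg.Agent.S1991
import Cfsg.Agent.Lib.H23.BurnsidePQ
-- import your own Cfsg.Agent.* helpers here

set_option autoImplicit false
open Cfsg

namespace Cfsg.Agent.S1992


/-- A finite group with a proper derived subgroup has a normal subgroup of prime index. -/
theorem exists_normal_prime_index {G : Type*} [Group G] [Finite G]
    (h : commutator G ≠ ⊤) : ∃ N : Subgroup G, N.Normal ∧ N.index.Prime := by
  obtain ⟨M, hM, hle⟩ := (eq_top_or_exists_le_coatom (commutator G)).resolve_left h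
  have hMn : M.Normal := by
    refine ⟨fun n hn g => ?_⟩
    have : g * n * g⁻¹ = (g * n * g⁻¹ * n⁻¹) * n := by group
    rw [this]
    refine M.mul_mem (hle ?_) hn
    rw [commutator_def]
    exact Subgroup.commutator_mem_commutator (Subgroup.mem_top g) (Subgroup.mem_top n)
  refine ⟨M, hMn, ?_⟩
  have h1 : M.index ≠ 1 := fun h => hM.1 (Subgroup.index_eq_one.1 h)
  obtain ⟨r, hr, hrdvd⟩ := Nat.exists_prime_and_dvd h1
  have : Fact r.Prime := ⟨hr⟩
  have hcard : Nat.card (G ⧸ M) = M.index := rfl
  obtain ⟨a, ha⟩ := exists_prime_orderOf_dvd_card' (G := G ⧸ M) r (hcard ▸ hrdvd)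
  obtain ⟨g, rfl⟩ := QuotientGroup.mk_surjective a
  have hgM : g ∉ M := by
    intro hg
    have : ((g : G) : G ⧸ M) = 1 := (QuotientGroup.eq_one_iff g).2 hg
    rw [this, orderOf_one] at ha
    exact hr.one_lt.ne ha
  have htop : (Subgroup.zpowers (g : G ⧸ M)).comap (QuotientGroup.mk' M) = ⊤ := by
    refine hM.2 _ (lt_of_le_of_ne ?_ ?_)
    · intro x hx
      rw [Subgroup.mem_comap]
      have : (QuotientGroup.mk' M) x = 1 := (QuotientGroup.eq_one_iff x).2 hx
      rw [this]; exact Subgroup.one_mem _
    · intro heq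
      apply hgM
      rw [heq, Subgroup.mem_comap]
      exact Subgroup.mem_zpowers _
  have hz : Subgroup.zpowers (g : G ⧸ M) = ⊤ := by
    rw [eq_top_iff]
    intro x _
    obtain ⟨y, rfl⟩ := QuotientGroup.mk_surjective x
    have : y ∈ (Subgroup.zpowers (g : G ⧸ M)).comap (QuotientGroup.mk' M) := by
      rw [htop]; exact Subgroup.mem_top y
    exact this
  have : Nat.card (G ⧸ M) = r := by
    rw [← ha, ← Nat.card_zpowers, hz, Subgroup.card_top]
  rw [← hcard, this]
  exact hr

/-- Frattini: a normal subgroup of prime index `p` and a self-normalizing Sylow `q`-subgroup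
with `q ≠ p` cannot coexist. -/
theorem false_of_normal_index {G : Type*} [Group G] [Finite G] {p q : ℕ} [Fact q.Prime]
    (hp : p.Prime) (hpq : q ≠ p) (N : Subgroup G) [N.Normal] (hN : N.index = p)
    (Q : Sylow q G)
    (hQ : Subgroup.normalizer ((Q : Subgroup G) : Set G) = Q) : False := by
  have hq : q.Prime := Fact.out
  -- `Q ≤ N`
  have hQN : (Q : Subgroup G) ≤ N := by
    intro x hx
    have hcard : Nat.card (G ⧸ N) = p := hN
    have h1 : orderOf ((x : G) : G ⧸ N) ∣ p := hcard ▸ orderOf_dvd_natCard _
    obtain ⟨k, hk⟩ := Q.2 ⟨x, hx⟩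
    have hk' : x ^ q ^ k = 1 := by
      have := congrArg Subtype.val hk
      simpa using this
    have h2 : orderOf ((x : G) : G ⧸ N) ∣ q ^ k := by
      apply orderOf_dvd_of_pow_eq_one
      rw [← QuotientGroup.mk_pow, hk']; rfl
    have hcop : Nat.Coprime p (q ^ k) :=
      Nat.Coprime.pow_right k ((Nat.coprime_primes hp hq).2 (Ne.symm hpq))
    have h3 : orderOf ((x : G) : G ⧸ N) = 1 := Nat.eq_one_of_dvd_coprimes hcop h1 h2
    exact (QuotientGroup.eq_one_iff x).1 (orderOf_eq_one_iff.1 h3)
  have hfr := Sylow.normalizer_sup_eq_top (Q.subtype hQN)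
  have hmap : ((Q.subtype hQN : Sylow q N) : Subgroup N).map N.subtype = Q := by
    rw [Sylow.coe_subtype, Subgroup.subgroupOf_map_subtype, inf_eq_left.2 hQN]
  rw [hmap, hQ, sup_eq_right.2 hQN] at hfr
  rw [hfr, Subgroup.index_top] at hN
  exact hp.one_lt.ne hN



/-- Let G be a finite group in which, for every prime q dividing the order of G, every Sylow q-subgroup is its own normalizer. Then the order of G is a power of a single prime (G is a q-group for some prime q; for G trivial any prime works). -/
theorem result {G : Type*} [Group G] [Finite G] (h : ∀ q : ℕ, q.Prime → q ∣ Nat.card G → ∀ Q : Sylow q G, Subgroup.normalizer ((Q : Subgroup G) : Set G) = Q) : ∃ q : ℕ, q.Prime ∧ IsPGroup q G := by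
  classical
  -- key: a normal subgroup of prime index `p` forces `G` to be a `p`-group
  have key : ∀ (p : ℕ), p.Prime → ∀ N : Subgroup G, N.Normal → N.index = p →
      IsPGroup p G := by
    intro p hp N hNn hN
    have : Fact p.Prime := ⟨hp⟩
    rw [IsPGroup.iff_card]
    have hpos : Nat.card G ≠ 0 := Nat.card_pos.ne'
    refine ⟨(Nat.card G).factorization p, ?_⟩
    refine Nat.eq_of_factorization_eq hpos (pow_ne_zero _ hp.ne_zero) ?_
    intro q
    rw [hp.factorization_pow]
    by_cases hqp : q = p
    · subst hqp; simp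
    · rw [Finsupp.single_apply, if_neg (Ne.symm hqp)]
      by_contra hne
      have hqprime : q.Prime := Nat.prime_of_mem_primeFactors
        (Nat.support_factorization _ ▸ Finsupp.mem_support_iff.2 hne)
      have hqdvd : q ∣ Nat.card G := Nat.dvd_of_factorization_pos hne
      have : Fact q.Prime := ⟨hqprime⟩
      obtain ⟨Q⟩ : Nonempty (Sylow q G) := inferInstance
      exact false_of_normal_index hp hqp N hN Q (h q hqprime hqdvd Q)
  by_cases hbig : ∃ p : ℕ, p.Prime ∧ 5 ≤ p ∧ p ∣ Nat.card G
  · obtain ⟨p, hp, hp5, hpdvd⟩ := hbig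
    have : Fact p.Prime := ⟨hp⟩
    obtain ⟨S⟩ : Nonempty (Sylow p G) := inferInstance
    have hS : (S : Subgroup G) ≠ ⊥ := by
      intro hbot
      have hc := S.card_eq_multiplicity
      rw [hbot, Subgroup.card_bot] at hc
      have hfac : (Nat.card G).factorization p = 0 := by
        by_contra hne
        have : 1 < p ^ (Nat.card G).factorization p :=
          Nat.one_lt_pow hne hp.one_lt
        omega
      have := (hp.dvd_iff_one_le_factorization Nat.card_pos.ne').1 hpdvd
      omega
    have hnorm := h p hp hpdvd S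
    obtain ⟨N, hNn, hN⟩ := Cfsg.Agent.S1991.result hp5 S hS (by
      intro g hg hcop
      rw [hnorm] at hg
      obtain ⟨k, hk⟩ := (IsPGroup.iff_orderOf.1 S.2) ⟨g, hg⟩
      have hk' : orderOf g = p ^ k := by
        rw [← hk]; exact (Subgroup.orderOf_mk g hg).symm
      rw [hk'] at hcop
      have hk0 : k = 0 := by
        by_contra hk0
        have := (Nat.coprime_pow_left_iff (Nat.pos_of_ne_zero hk0) p p).1 hcop
        rw [Nat.coprime_self] at this
        exact hp.one_lt.ne' this
      rw [hk0, pow_zero, orderOf_eq_one_iff] at hk'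
      rw [hk']; exact Subgroup.one_mem _)
    exact ⟨p, hp, key p hp N hNn hN⟩
  · push Not at hbig
    -- `|G| = 2^a 3^b`, so `G` is solvable
    have hsolv : Group.IsSolvable G := by
      refine Cfsg.Agent.Lib.H23.isSolvable_of_card_eq_prime_pow_mul_prime_pow 2 3
        ((Nat.card G).factorization 2) ((Nat.card G).factorization 3) Nat.prime_two
        Nat.prime_three ?_
      have hpos : Nat.card G ≠ 0 := Nat.card_pos.ne'
      refine Nat.eq_of_factorization_eq hpos (by positivity) ?_
      intro q
      rw [Nat.factorization_mul (by positivity) (by positivity),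
        Nat.prime_two.factorization_pow, Nat.prime_three.factorization_pow]
      simp only [Finsupp.coe_add, Pi.add_apply, Finsupp.single_apply]
      by_cases h2 : q = 2
      · subst h2; simp
      by_cases h3 : q = 3
      · subst h3; simp
      rw [if_neg (Ne.symm h2), if_neg (Ne.symm h3)]
      by_contra hne
      have hqprime : q.Prime := Nat.prime_of_mem_primeFactors
        (Nat.support_factorization _ ▸ Finsupp.mem_support_iff.2 hne)
      have hqdvd : q ∣ Nat.card G := Nat.dvd_of_factorization_pos hne
      have h5 : ¬ 5 ≤ q := fun h5 => hbig q hqprime h5 hqdvd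
      have h4 : q ≠ 4 := by rintro rfl; norm_num at hqprime
      have := hqprime.two_le
      omega
    by_cases htriv : Subsingleton G
    · refine ⟨2, Nat.prime_two, ?_⟩
      intro g
      exact ⟨0, by rw [pow_zero, pow_one]; exact Subsingleton.elim _ _⟩
    · rw [not_subsingleton_iff_nontrivial] at htriv
      have hcomm : commutator G ≠ ⊤ :=
        (Group.IsSolvable.commutator_lt_top_of_nontrivial G).ne
      obtain ⟨N, hNn, hN⟩ := exists_normal_prime_index hcomm
      exact ⟨N.index, hN, key _ hN N hNn rfl⟩


end Cfsg.Agent.S1992
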