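import Cfsg.Statements.S1993
import Cfsg.Agent.Lib.H10.SecNormal
import Cfsg.Agent.S1984
import Cfsg.Agent.S2015

set_option autoImplicit false
universe u
open Cfsg

namespace Cfsg.Agent.S1993

open Cfsg.Agent.Lib Cfsg.Agent.Lib.H10


/-- Let p be a prime, G a finite group with Sylow p-subgroup S, and K the upper K-infinity subgroup of S. If p ≥ 5 then S ∩ G' = S ∩ (N_G(K))'; and if p is odd and every section of G is p-stable in the normalizer form, then K controls strong fusion in G. -/
theorem result {G : Type u} [Group G] [Finite G] {p : ℕ} [Fact p.Prime] (S : Sylow p G) : (5 ≤ p → (S : Subgroup G) ⊓ commutator G = (S : Subgroup G) ⊓ ⁅Subgroup.normalizer ((Cfsg.inducedFunctor Cfsg.kInfUpper (S : Subgroup G) : Subgroup G) : Set G), Subgroup.normalizer ((Cfsg.inducedFunctor Cfsg.kInfUpper (S : Subgroup G) : Subgroup G) : Set G)⁆) ∧ (p ≠ 2 → (∀ (K R : Subgroup G) [hR : (R.subgroupOf K).Normal], Cfsg.IsNormalizerPStable p (↥K ⧸ R.subgroupOf K)) → Cfsg.ControlsStrongFusion p (Cfsg.inducedFunctor Cfsg.kInfUpper (S : Subgroup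 G))) := by
  constructor
  · intro hp
    have hc : Cfsg.ControlsTransferIn p (Cfsg.inducedFunctor (G := G) Cfsg.kInfUpper) ⊤ := by
      apply Cfsg.Agent.S1984.controlsTransfer_of_engel Cfsg.kInfUpper (isCharPFunctor_kInfUpper.{u} p)
      intro H _ _ T hn
      exact exists_engel_of_not_normal hp T (Or.inr hn)
    have hW := isConjugacyFunctor_inducedFunctor (H := G) (isCharPFunctor_kInfUpper.{u} p)
    have h1 := Cfsg.Agent.S2015.controlsTransfer_at_sylow
      (Cfsg.inducedFunctor (G := G) Cfsg.kInfUpper) hW hc S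
    rw [commutator_def]
    exact h1
  · intro _ hst
    apply controlsStrongFusion_of_normal_in_constrained_sections Cfsg.kInfUpper
      (isCharPFunctor_kInfUpper.{u} p) _ S
    intro H _ _ hsec hcon T
    exact (kInf_normal_of_pstable_sections hst H hsec hcon T).2

end Cfsg.Agent.S1993
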