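import Cfsg.Statements.S1996
import Cfsg.Agent.Lib.H10.SecMain

set_option autoImplicit false
universe u
open Cfsg

namespace Cfsg.Agent.S1996

open Cfsg.Agent.Lib Cfsg.Agent.Lib.H10

/-- Let p be a prime, G a finite group and W₁, W₂ two isomorphism-invariant p-group functors (W assigns to every group Q a subgroup W(Q), nontrivial whenever Q is a nontrivial finite p-group, and every isomorphism from a finite p-group Q onto a group R carries W(Q) onto W(R)). Suppose that G* = N_{G*}(W₁(S*)) N_{G*}(W₂(S*)) whenever G* = K/R is a section of G with C_{G*}(O_p(G*)) ≤ O_p(G*) and S* is a Sylow p-subgroup of G*. Then the pair {W₁, W₂} controls strong fusion in G. -/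
theorem result {G : Type u} [Group G] [Finite G] {p : ℕ} [Fact p.Prime] (W₁ W₂ : ∀ (Q : Type u) [Group Q], Subgroup Q) (hW₁ : Cfsg.IsCharPFunctor.{u} p W₁) (hW₂ : Cfsg.IsCharPFunctor.{u} p W₂) (hfac : ∀ (K R : Subgroup G) [hR : (R.subgroupOf K).Normal], Subgroup.centralizer ((Cfsg.pCore p (↥K ⧸ R.subgroupOf K) : Subgroup (↥K ⧸ R.subgroupOf K)) : Set (↥K ⧸ R.subgroupOf K)) ≤ Cfsg.pCore p (↥K ⧸ R.subgroupOf K) → ∀ T : Sylow p (↥K ⧸ R.subgroupOf K), ∀ x : (↥K ⧸ R.subgroupOf K), ∃ a ∈ Subgroup.normalizer ((Cfsg.inducedFunctor (G := (↥K ⧸ R.subgroupOf K)) W₁ (T : Subgroup (↥K ⧸ R.subgroupOf K)) : Subgroup (↥K ⧸ R.subgroupOf K)) : Set (↥K ⧸ R.subgroupOf K)), ∃ b ∈ Subgroup.normalizer ((Cfsg.inducedFunctor (G := (↥K ⧸ R.subgroupOf K)) W₂ (T : Subgroup (↥K ⧸ R.subgroupOf K)) : Subgroup (↥K ⧸ R.subgroupOf K)) : Set (↥K ⧸ R.subgroupOf K)), x = a * b) : Cfsg.FamilyControlsStrongFusionIn p {Cfsg.inducedFunctor (G := G) W₁, Cfsg.inducedFunctor (G :=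 G) W₂} ⊤ := by
  have hW : ∀ W' ∈ ({W₁, W₂} : Set (∀ (Q : Type u) [Group Q], Subgroup Q)),
      IsCharPFunctor.{u} p W' := by
    intro W' hW'
    rcases hW' with h | h
    · rw [h]; exact hW₁
    · rw [Set.mem_singleton_iff.1 h]; exact hW₂
  have hIF : ∀ (H : Type u) [Group H], IF {W₁, W₂} H =
      {inducedFunctor (G := H) W₁, inducedFunctor (G := H) W₂} := by
    intro H _
    unfold IF
    rw [Set.image_pair]
  have hloc' : ∀ (H : Type u) [Group H], IsSec G H →
      Subgroup.centralizer ((Cfsg.pCore p H : Subgroup H) : Set H) ≤ Cfsg.pCore p H →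
      FamilyControlsStrongFusionIn p (IF {W₁, W₂} H) ⊤ := by
    intro H _ hsec hcon
    obtain ⟨K, R, hR, ⟨ε⟩⟩ := hsec.exists_equiv
    have h1 := hfac K R (constrained_of_mulEquiv p ε hcon)
    apply familyControls_of_equiv hW ε
    have T₀ : Sylow p (↥K ⧸ R.subgroupOf K) := default
    apply familyControls_of_ctlF T₀.2 T₀.not_dvd_index
    have hc₁ := isConjugacyFunctor_inducedFunctor (H := ↥K ⧸ R.subgroupOf K) hW₁
    have hc₂ := isConjugacyFunctor_inducedFunctor (H := ↥K ⧸ R.subgroupOf K) hW₂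
    apply ctlF_of_factorization T₀
      (X := Subgroup.normalizer ((inducedFunctor W₁ (T₀ : Subgroup (↥K ⧸ R.subgroupOf K)) :
        Subgroup (↥K ⧸ R.subgroupOf K)) : Set (↥K ⧸ R.subgroupOf K)))
      (Y := Subgroup.normalizer ((inducedFunctor W₂ (T₀ : Subgroup (↥K ⧸ R.subgroupOf K)) :
        Subgroup (↥K ⧸ R.subgroupOf K)) : Set (↥K ⧸ R.subgroupOf K)))
    · exact Subgroup.le_normalizer.trans (normalizer_le_normalizer_functor hc₁ T₀.2)
    · exact Subgroup.le_normalizer.trans (normalizer_le_normalizer_functor hc₂ T₀.2)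
    · intro g
      obtain ⟨a, ha, b, hb, hab⟩ := h1 T₀ g
      exact ⟨a, ha, b, hb, hab⟩
    · intro A g hg hA hAg
      exact GoodF.single (W := inducedFunctor W₁) ⟨W₁, Or.inl rfl, rfl⟩ hg hA hAg
    · intro A g hg hA hAg
      exact GoodF.single (W := inducedFunctor W₂) ⟨W₂, Or.inr rfl, rfl⟩ hg hA hAg
  have hmain := familyControls_of_constrained_sections G {W₁, W₂} hW hloc' _ G rfl isSec_self
  rw [hIF] at hmain
  exact hmain

end Cfsg.Agent.S1996
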