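import Cfsg.Statements.S1998
import Cfsg.Agent.Lib.H10.TransferMin

set_option autoImplicit false
universe u
open Cfsg

namespace Cfsg.Agent.S1998

open Cfsg.Agent.Lib Cfsg.Agent.Lib.H10

open scoped commutatorElement


/-- Let p be a prime, G a finite group with Sylow p-subgroup S, and 𝓦 a nonempty set of isomorphism-invariant p-group functors (W assigns to every group Q a subgroup W(Q), nontrivial whenever Q is a nontrivial finite p-group, and every isomorphism from a finite p-group Q onto a group R carries W(Q) onto W(R)). Suppose the induced conjugacy functors control transfer in every section of G other than G itself, but not in G. Let T be the subgroup generated by the S ∩ (N_G(W(S)))', W ∈ 𝓦, and M = N_G(T ∩ O_p(G)). Then: C_G(O_p(G)) ≤ O_p(G); M is a proper subgroup of G containing every proper subgroup of G that contains S (the unique maximal subgroup over S); [O_p(G), M] ≤ O_p(G) ∩ M' ≤ O_p(G) ∩ T; and every element u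 of S outside O_p(G) satisfies [X, u, …, u] ≰ Y with p − 1 entries u, for some chief factor X/Y of G with X ≤ O_p(G). -/
theorem result {G : Type u} [Group G] [Finite G] {p : ℕ} [Fact p.Prime] (S : Sylow p G) (𝓦 : Set (∀ (Q : Type u) [Group Q], Subgroup Q)) (h𝓦 : ∀ W ∈ 𝓦, Cfsg.IsCharPFunctor.{u} p W) (hne : 𝓦.Nonempty) (hsec : ∀ (K R : Subgroup G) [hR : (R.subgroupOf K).Normal], (K = ⊤ → R ≠ ⊥) → Cfsg.FamilyControlsTransferIn p ((fun W => Cfsg.inducedFunctor (G := (↥K ⧸ R.subgroupOf K)) W) '' 𝓦) ⊤) (hG : ¬ Cfsg.FamilyControlsTransferIn p ((fun W => Cfsg.inducedFunctor (G := G) W) '' 𝓦) ⊤) (T M : Subgroup G) (hT : T = (⨆ W ∈ 𝓦, (S : Subgroup G) ⊓ ⁅Subgroup.normalizer ((Cfsg.inducedFunctor (G := G) W (S : Subgroup G) : Subgroup G) : Set G), Subgroup.normalizer ((Cfsg.inducedFunctor (G := G) W (S : Subgroup G) : Subgroup G) : Set G)⁆)) (hM : M = Subgroup.normalizer ((T ⊓ Cfsg.pCore p G : Subgroup G) : Set G)) : Subgroup.centralizer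 ((Cfsg.pCore p G : Subgroup G) : Set G) ≤ Cfsg.pCore p G ∧ (M ≠ ⊤ ∧ ∀ H : Subgroup G, (S : Subgroup G) ≤ H → H ≠ ⊤ → H ≤ M) ∧ (⁅Cfsg.pCore p G, M⁆ ≤ Cfsg.pCore p G ⊓ ⁅M, M⁆ ∧ Cfsg.pCore p G ⊓ ⁅M, M⁆ ≤ Cfsg.pCore p G ⊓ T) ∧ ∀ u : G, u ∈ (S : Subgroup G) → u ∉ Cfsg.pCore p G → ∃ U V : Subgroup G, Cfsg.IsChiefFactor U V ∧ U ≤ Cfsg.pCore p G ∧ ¬ Cfsg.iterCommutator U (Subgroup.zpowers u) (p - 1) ≤ V := by
  classical
  have hGc : ¬ FamilyControlsTransferIn p (IF 𝓦 G) ⊤ := hG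
  set P := Cfsg.pCore p G with hP
  haveI hPn : P.Normal := H1.pCore_normal p G
  have hPp : IsPGroup p P := H1.pCore_isPGroup p G
  have hPS : P ≤ (S : Subgroup G) := H1.pCore_le_sylow S
  have hc := isConjugacyFunctor_of_mem_IF (H := G) h𝓦
  -- the induction hypotheses
  have hsub : ∀ L : Subgroup G, L ≠ ⊤ → FamilyControlsTransferIn p (IF 𝓦 ↥L) ⊤ := by
    intro L hL
    have h1 : FamilyControlsTransferIn p (IF 𝓦 (↥L ⧸ (⊥ : Subgroup G).subgroupOf L)) ⊤ :=
      hsec L ⊥ (fun h => absurd h hL)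
    have hbot : (⊥ : Subgroup G).subgroupOf L = ⊥ := Subgroup.bot_subgroupOf L
    exact familyTransfer_of_equiv h𝓦
      ((QuotientGroup.quotientMulEquivOfEq hbot).trans QuotientGroup.quotientBot) h1
  have hquo : ∀ (N : Subgroup G) [N.Normal], N ≠ ⊥ →
      FamilyControlsTransferIn p (IF 𝓦 (G ⧸ N)) ⊤ := by
    intro N _ hN
    have h1 : FamilyControlsTransferIn p (IF 𝓦 (↥(⊤ : Subgroup G) ⧸ N.subgroupOf ⊤)) ⊤ :=
      hsec ⊤ N (fun _ => hN)
    have hmap : (N.subgroupOf ⊤).map (Subgroup.topEquiv : ↥(⊤ : Subgroup G) ≃* G).toMonoidHom = N := by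
      ext x
      constructor
      · rintro ⟨y, hy, rfl⟩
        exact hy
      · intro hx
        exact ⟨⟨x, Subgroup.mem_top x⟩, hx, rfl⟩
    exact familyTransfer_of_equiv h𝓦
      (QuotientGroup.congr (N.subgroupOf ⊤) N Subgroup.topEquiv hmap) h1
  set A₀ := TF (IF 𝓦 G) ⊤ (S : Subgroup G) with hA₀
  have hTA₀ : T = A₀ := by
    rw [hT, hA₀, TF_IF]
    simp only [top_inf_eq]
  have hA₀S : A₀ ≤ (S : Subgroup G) := (TF_le_inf_commutator _ _ _).trans inf_le_left
  have ihsubS : ∀ L : Subgroup G, L ≠ ⊤ → (S : Subgroup G) ≤ L →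
      (S : Subgroup G) ⊓ ⁅L, L⁆ ≤ A₀ := by
    intro L hL hSL
    have h1 := familyTransferIn_of_subgroup h𝓦 L (hsub L hL)
    have := familyControlsTransferIn_sylowIn hc h1 S.2 hSL (not_dvd_relIndex_of_sylow_le S hSL)
    rw [this]
    exact TF_mono_left _ le_top _
  -- `S' ≤ A₀`
  obtain ⟨W₀, hW₀⟩ := hne
  have hWterm : ∀ W ∈ 𝓦, (S : Subgroup G) ⊓
      ⁅Subgroup.normalizer ((Cfsg.inducedFunctor (G := G) W (S : Subgroup G) : Subgroup G) : Set G),
        Subgroup.normalizer ((Cfsg.inducedFunctor (G := G) W (S : Subgroup G) : Subgroup G) : Set G)⁆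
        ≤ A₀ := by
    intro W hW
    rw [← hTA₀, hT]
    exact le_iSup₂ (f := fun W (_ : W ∈ 𝓦) => (S : Subgroup G) ⊓
      ⁅Subgroup.normalizer ((Cfsg.inducedFunctor (G := G) W (S : Subgroup G) : Subgroup G) : Set G),
        Subgroup.normalizer ((Cfsg.inducedFunctor (G := G) W (S : Subgroup G) : Subgroup G) : Set G)⁆)
      W hW
  have hSNW : ∀ W ∈ 𝓦, (S : Subgroup G) ≤
      Subgroup.normalizer ((Cfsg.inducedFunctor (G := G) W (S : Subgroup G) : Subgroup G) : Set G) := by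
    intro W hW
    exact Subgroup.le_normalizer.trans
      (normalizer_le_normalizer_functor (hc _ ⟨W, hW, rfl⟩) S.2)
  have hS'A₀ : ⁅(S : Subgroup G), (S : Subgroup G)⁆ ≤ A₀ :=
    (le_inf (Subgroup.commutator_le_self _)
      (Subgroup.commutator_mono (hSNW W₀ hW₀) (hSNW W₀ hW₀))).trans (hWterm W₀ hW₀)
  -- failure in the constrained case
  have hstep : ¬ (Subgroup.centralizer ((P : Subgroup G) : Set G) ≤ P →
      P ⊓ ⁅(⊤ : Subgroup G), ⊤⁆ ≤ A₀) := by
    intro h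
    exact hGc (familyTransfer_step 𝓦 h𝓦 hsub hquo S (fun hcon _ => h hcon))
  have hcon : Subgroup.centralizer ((P : Subgroup G) : Set G) ≤ P := by
    by_contra hncon
    exact hstep (fun h => absurd h hncon)
  have hPfail : ¬ P ⊓ ⁅(⊤ : Subgroup G), ⊤⁆ ≤ A₀ := fun h => hstep (fun _ => h)
  have hcomm : ¬ ⁅P, (⊤ : Subgroup G)⁆ ≤ A₀ := by
    intro h
    exact hPfail ((inf_commutator_le_sup_commutator_top S P hPS).trans (sup_le hS'A₀ h))
  -- `S` is not normal
  have hSnn : Subgroup.normalizer (((S : Subgroup G) : Subgroup G) : Set G) ≠ ⊤ := by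
    intro htop
    apply hGc
    rw [familyControlsTransferIn_iff]
    refine ⟨(S : Subgroup G), le_top, S.2, ?_, ?_⟩
    · rw [Subgroup.relIndex_top_right]; exact S.not_dvd_index
    · have hN : Subgroup.normalizer ((Cfsg.inducedFunctor (G := G) W₀ (S : Subgroup G) :
          Subgroup G) : Set G) = ⊤ := by
        rw [eq_top_iff, ← htop]
        exact normalizer_le_normalizer_functor (hc _ ⟨W₀, hW₀, rfl⟩) S.2
      have := hWterm W₀ hW₀
      rwa [hN] at this
  have hStop : (S : Subgroup G) ≠ ⊤ := by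
    intro h
    apply hSnn
    rw [h, Subgroup.normalizer_eq_top_iff]
    infer_instance
  -- conjugation keeps `A₀ ⊓ P` inside proper overgroups of `S`
  have hLnorm : ∀ L : Subgroup G, (S : Subgroup G) ≤ L → L ≠ ⊤ →
      L ≤ Subgroup.normalizer ((A₀ ⊓ P : Subgroup G) : Set G) := by
    intro L hSL hL
    have key : ∀ l ∈ L, ∀ y ∈ A₀ ⊓ P, l * y * l⁻¹ ∈ A₀ ⊓ P := by
      intro l hl y hy
      obtain ⟨hyA, hyP⟩ := Subgroup.mem_inf.1 hy
      have hconjP : l * y * l⁻¹ ∈ P := hPn.conj_mem y hyP l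
      refine Subgroup.mem_inf.2 ⟨?_, hconjP⟩
      have h1 : ⁅l, y⁆ ∈ (S : Subgroup G) ⊓ ⁅L, L⁆ := by
        refine Subgroup.mem_inf.2 ⟨?_, Subgroup.commutator_mem_commutator hl (hSL (hPS hyP))⟩
        rw [commutatorElement_def]
        exact hPS (P.mul_mem hconjP (P.inv_mem hyP))
      have h2 : l * y * l⁻¹ = ⁅l, y⁆ * y := by rw [commutatorElement_def]; group
      rw [h2]
      exact A₀.mul_mem (ihsubS L hL hSL h1) hyA
    intro l hl
    rw [Subgroup.mem_normalizer_iff]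
    intro y
    constructor
    · exact key l hl y
    · intro h
      have := key l⁻¹ (L.inv_mem hl) _ h
      simpa [mul_assoc] using this
  have hSM : (S : Subgroup G) ≤ M := by
    rw [hM, hTA₀]
    exact hLnorm _ le_rfl hStop
  -- `M ≠ ⊤`
  have hMtop : M ≠ ⊤ := by
    intro htop
    rw [hM, hTA₀] at htop
    haveI hT₀n : (A₀ ⊓ P).Normal := Subgroup.normalizer_eq_top_iff.1 htop
    set π := QuotientGroup.mk' (A₀ ⊓ P) with hπ
    set M₁ : Subgroup G := (Subgroup.centralizer ((P.map π : Subgroup (G ⧸ (A₀ ⊓ P))) :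
      Set (G ⧸ (A₀ ⊓ P)))).comap π with hM₁
    haveI hPπn : (P.map π).Normal := hPn.map _ (QuotientGroup.mk'_surjective _)
    haveI hM₁n : M₁.Normal := by
      rw [hM₁]
      exact (Subgroup.normal_centralizer).comap _
    have hmemM₁ : ∀ h : G, h ∈ M₁ ↔ ∀ y ∈ P, y⁻¹ * h⁻¹ * y * h ∈ A₀ ⊓ P := by
      intro h
      rw [hM₁, Subgroup.mem_comap, Subgroup.mem_centralizer_iff]
      constructor
      · intro h1 y hy
        have h2 := h1 (π y) ⟨y, hy, rfl⟩
        rw [← map_mul, ← map_mul, hπ, QuotientGroup.mk'_apply, QuotientGroup.mk'_apply,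
          QuotientGroup.eq] at h2
        have : (y * h)⁻¹ * (h * y) = y⁻¹⁻¹⁻¹ * h⁻¹ * y⁻¹⁻¹ * h * (h⁻¹ * y⁻¹ * h * y * h⁻¹ * y⁻¹ * h * y)
            := by group
        have h3 : h⁻¹ * y⁻¹ * (h * y) ∈ A₀ ⊓ P := by
          have := (A₀ ⊓ P).inv_mem h2
          have e : ((y * h)⁻¹ * (h * y))⁻¹ = y⁻¹ * h⁻¹ * y * h := by group
          rw [e] at this
          have e2 : h⁻¹ * y⁻¹ * (h * y) = (y⁻¹ * h⁻¹ * y * h)⁻¹ := by group
          rw [e2]
          exact (A₀ ⊓ P).inv_mem this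
        have := (A₀ ⊓ P).inv_mem h3
        have e3 : (h⁻¹ * y⁻¹ * (h * y))⁻¹ = y⁻¹ * h⁻¹ * y * h := by group
        rwa [e3] at this
      · rintro h1 _ ⟨y, hy, rfl⟩
        rw [← map_mul, ← map_mul, hπ, QuotientGroup.mk'_apply, QuotientGroup.mk'_apply,
          QuotientGroup.eq]
        have h2 := h1 y hy
        have e : (y * h)⁻¹ * (h * y) = (y⁻¹ * h⁻¹ * y * h)⁻¹ := by group
        rw [e]
        exact (A₀ ⊓ P).inv_mem h2
    have hL₁ : ∀ L : Subgroup G, (S : Subgroup G) ≤ L → L ≠ ⊤ → L ≤ M₁ := by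
      intro L hSL hL l hl
      rw [hmemM₁]
      intro y hy
      have hP' : y⁻¹ * l⁻¹ * y * l ∈ P := by
        have h1 : l⁻¹ * y * l ∈ P := by
          have := hPn.conj_mem y hy l⁻¹
          simpa using this
        have e : y⁻¹ * l⁻¹ * y * l = y⁻¹ * (l⁻¹ * y * l) := by group
        rw [e]
        exact P.mul_mem (P.inv_mem hy) h1
      refine Subgroup.mem_inf.2 ⟨?_, hP'⟩
      apply ihsubS L hL hSL
      refine Subgroup.mem_inf.2 ⟨hPS hP', ?_⟩
      have e : y⁻¹ * l⁻¹ * y * l = ⁅y⁻¹, l⁻¹⁆ := by rw [commutatorElement_def]; group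
      rw [e]
      exact Subgroup.commutator_mem_commutator (L.inv_mem (hSL (hPS hy))) (L.inv_mem hl)
    have hSM₁ : (S : Subgroup G) ≤ M₁ := hL₁ _ le_rfl hStop
    have hM₁top : M₁ ≠ ⊤ := by
      intro h
      apply hcomm
      rw [Subgroup.commutator_le]
      intro y hy g _
      have hg : g⁻¹ ∈ M₁ := by rw [h]; exact Subgroup.mem_top _
      have := (hmemM₁ g⁻¹).1 hg y⁻¹ (P.inv_mem hy)
      have e : ⁅y, g⁆ = y⁻¹⁻¹ * g⁻¹⁻¹ * y⁻¹ * g⁻¹ := by rw [commutatorElement_def]; group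
      rw [e]
      exact (Subgroup.mem_inf.1 this).1
    -- Frattini
    have hS'p : IsPGroup p ((S : Subgroup G).subgroupOf M₁) := S.2.comap_subtype
    have hS'i : ¬ p ∣ ((S : Subgroup G).subgroupOf M₁).index := by
      have := not_dvd_relIndex_of_sylow_le S hSM₁
      exact this
    let Q : Sylow p M₁ := hS'p.toSylow hS'i
    have hQ : (Q : Subgroup M₁) = (S : Subgroup G).subgroupOf M₁ := hS'p.toSylow_coe hS'i
    have hfr := Sylow.normalizer_sup_eq_top Q
    rw [hQ, Subgroup.subgroupOf_map_subtype, inf_eq_left.2 hSM₁] at hfr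
    have hNM₁ : Subgroup.normalizer (((S : Subgroup G) : Subgroup G) : Set G) ≤ M₁ :=
      hL₁ _ Subgroup.le_normalizer hSnn
    apply hM₁top
    rw [eq_top_iff, ← hfr]
    exact sup_le hNM₁ le_rfl
  refine ⟨hcon, ⟨hMtop, ?_⟩, ⟨?_, ?_⟩, ?_⟩
  · intro L hSL hL
    rw [hM, hTA₀]
    exact hLnorm L hSL hL
  · refine le_inf (Subgroup.commutator_le_left P M) ?_
    exact Subgroup.commutator_mono (hPS.trans hSM) le_rfl
  · rw [hTA₀]
    refine le_inf inf_le_left ?_
    exact (inf_le_inf_right _ hPS).trans (ihsubS M hMtop hSM)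
  · intro u huS huP
    by_contra hno
    push Not at hno
    apply hcomm
    exact commutator_pCore_le_of_engel S A₀ hA₀S hS'A₀ ihsubS u huS huP
      (fun U V hUV hUP => hno U V hUV hUP)

end Cfsg.Agent.S1998
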