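import Cfsg.Statements.S2004
import Mathlib
import Cfsg.Agent.S0274
import Cfsg.Agent.Lib.H1.SecLiftP

set_option autoImplicit false
open Cfsg

namespace Cfsg.Agent.S2004

/-- Let p be an odd prime and G a finite group such that SL₂(p) is not involved in N_G(P) for any nonidentity p-subgroup P of G. Then every section of G is p-stable in the normalizer form: in each section, whenever an element of the normalizer of a p-subgroup Q acts quadratically on Q, its image in N(Q)/C(Q) lies in O_p(N(Q)/C(Q)). -/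
theorem result {G : Type*} [Group G] [Finite G] {p : ℕ} [Fact p.Prime] (hp : p ≠ 2) (h : ∀ P : Subgroup G, IsPGroup p ↥P → P ≠ ⊥ → ¬ Cfsg.Involves (Matrix.SpecialLinearGroup (Fin 2) (ZMod p)) ↥(Subgroup.normalizer ((P : Subgroup G) : Set G))) : ∀ (K R : Subgroup G) [hR : (R.subgroupOf K).Normal], Cfsg.IsNormalizerPStable p (↥K ⧸ R.subgroupOf K) := by
  intro K R hR Q hQ x hx hq
  by_cases hQbot : Q = ⊥
  · have hC : (⟨x, hx⟩ : ↥(Subgroup.normalizer (Q : Set (↥K ⧸ R.subgroupOf K)))) ∈
        (Subgroup.centralizer (Q : Set (↥K ⧸ R.subgroupOf K))).subgroupOf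
          (Subgroup.normalizer (Q : Set (↥K ⧸ R.subgroupOf K))) := by
      rw [Subgroup.mem_subgroupOf, Subgroup.mem_centralizer_iff]
      intro y hy
      rw [hQbot, SetLike.mem_coe, Subgroup.mem_bot] at hy
      rw [hy, one_mul, mul_one]
    rw [(QuotientGroup.eq_one_iff _).mpr hC]
    exact Subgroup.one_mem _
  · apply Cfsg.Agent.Lib.H1.SecLiftP.normalizerPStable_at hp (Cfsg.Agent.S0274.dicksonHyp hp) Q hQ ?_ x hx hq
    intro hinv
    obtain ⟨P₁, hP₁p, hP₁map, hP₁N⟩ := Cfsg.Agent.Lib.H1.SecLiftP.exists_lift_pSubgroup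
      (QuotientGroup.mk' (R.subgroupOf K)) (QuotientGroup.mk'_surjective _) Q hQ
    have hP₁ne : P₁ ≠ ⊥ := by
      rintro rfl
      apply hQbot
      rw [← hP₁map, Subgroup.map_bot]
    have hPp : IsPGroup p (P₁.map K.subtype) := hP₁p.map _
    have hPne : P₁.map K.subtype ≠ ⊥ := by
      rw [Ne, Subgroup.map_eq_bot_iff_of_injective _ K.subtype_injective]
      exact hP₁ne
    apply h (P₁.map K.subtype) hPp hPne
    -- step 1: `SL₂(p)` is involved in `N_K(P₁)`
    have h1 : Cfsg.Involves (Matrix.SpecialLinearGroup (Fin 2) (ZMod p))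
        ↥(Subgroup.normalizer (P₁ : Set ↥K)) := by
      rw [Cfsg.Agent.Lib.H26.involves_iff] at hinv
      obtain ⟨K', f, hf⟩ := hinv
      refine Cfsg.Agent.Lib.H26.involves_of_le_range
        ((MulEquiv.subgroupCongr hP₁N).toMonoidHom.comp
          ((QuotientGroup.mk' (R.subgroupOf K)).subgroupMap (Subgroup.normalizer (P₁ : Set ↥K))))
        K' ?_ f hf
      rw [MonoidHom.range_eq_top.mpr]
      · exact le_top
      · exact (MulEquiv.subgroupCongr hP₁N).surjective.comp
          (MonoidHom.subgroupMap_surjective _ _)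
    -- step 2: `N_K(P₁)` embeds in `N_G(P)`
    have hmem : ∀ y : ↥(Subgroup.normalizer (P₁ : Set ↥K)),
        (K.subtype.comp (Subgroup.normalizer (P₁ : Set ↥K)).subtype) y ∈
          Subgroup.normalizer ((P₁.map K.subtype : Subgroup G) : Set G) := fun y =>
      Subgroup.le_normalizer_map K.subtype ⟨y.1, y.2, rfl⟩
    refine Cfsg.Agent.Lib.H26.involves_of_injective
      ((K.subtype.comp (Subgroup.normalizer (P₁ : Set ↥K)).subtype).codRestrict _ hmem) ?_ h1
    intro a b hab
    have := congrArg Subtype.val hab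
    exact Subtype.ext (Subtype.ext this)

end Cfsg.Agent.S2004
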