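import Cfsg.Statements.S2007
import Cfsg.Agent.Lib.H10.Conj
import Cfsg.Agent.Lib.H10.CentralSylow

set_option autoImplicit false
open Cfsg

namespace Cfsg.Agent.S2007

open Cfsg.Agent.Lib.H10

/-- image of `O^p(H)` in the ambient group -/
theorem map_pResidual {G : Type*} [Group G] (p : ℕ) (H : Subgroup G) :
    (Cfsg.pResidual p ↥H).map H.subtype =
      Subgroup.closure {g : G | g ∈ H ∧ Nat.Coprime (orderOf g) p} := by
  unfold Cfsg.pResidual
  rw [MonoidHom.map_closure]
  congr 1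
  ext g
  constructor
  · rintro ⟨x, hx, rfl⟩
    refine ⟨x.2, ?_⟩
    have hx' : Nat.Coprime (orderOf x) p := hx
    rwa [← Subgroup.orderOf_coe] at hx'
  · rintro ⟨hg, hcop⟩
    refine ⟨⟨g, hg⟩, ?_, rfl⟩
    show Nat.Coprime (orderOf (⟨g, hg⟩ : H)) p
    rwa [← Subgroup.orderOf_coe]

theorem result {G : Type*} [Group G] [Finite G] {p : ℕ} [Fact p.Prime] (S : Sylow p G) (T : Subgroup G) (hTS : T ≤ (S : Subgroup G)) (hTn : (S : Subgroup G) ≤ Subgroup.normalizer ((T : Subgroup G) : Set G)) (hC : (S : Subgroup G) ⊓ Subgroup.centralizer ((T : Subgroup G) : Set G) ≤ T) (hN : ∀ g ∈ Subgroup.normalizer ((T : Subgroup G) : Set G), (orderOf g).Coprime p → g ∈ Subgroup.centralizer ((T : Subgroup G) : Set G)) : Cfsg.HasNormalPComplement p ↥(Subgroup.normalizer ((T : Subgroup G) : Set G)) := by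
  have hp : p.Prime := Fact.out
  set M : Subgroup G := Subgroup.normalizer ((T : Subgroup G) : Set G) with hM
  set C : Subgroup G := Subgroup.centralizer ((T : Subgroup G) : Set G) with hCdef
  have hCM : C ≤ M := Subgroup.centralizer_le_normalizer _
  let S_M : Sylow p ↥M := S.subtype hTn
  -- Claim 1: p-elements of C lie in T
  have claim1 : ∀ x ∈ C, (∃ k : ℕ, x ^ (p ^ k) = 1) → x ∈ T := by
    intro x hx ⟨k, hk⟩
    have hzp : IsPGroup p (Subgroup.zpowers (⟨x, hCM hx⟩ : ↥M)) := by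
      rintro ⟨g, hg⟩
      obtain ⟨i, rfl⟩ := Subgroup.mem_zpowers_iff.mp hg
      refine ⟨k, Subtype.ext ?_⟩
      apply Subtype.ext
      simp only [Subgroup.coe_pow, Subgroup.coe_zpow, Subgroup.coe_one]
      rw [← zpow_natCast, ← zpow_mul, mul_comm, zpow_mul, zpow_natCast, hk, one_zpow]
    obtain ⟨Q', hQ'⟩ := hzp.exists_le_sylow
    obtain ⟨m, hm⟩ := MulAction.exists_smul_eq ↥M S_M Q'
    have h1 : (⟨x, hCM hx⟩ : ↥M) ∈ (Q' : Subgroup ↥M) := hQ' (Subgroup.mem_zpowers _)
    rw [← hm, mem_smul_sylow] at h1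
    have h2 : (m : G)⁻¹ * x * m ∈ (S : Subgroup G) := by
      have : m⁻¹ * (⟨x, hCM hx⟩ : ↥M) * m ∈ ((S : Subgroup G).subgroupOf M) := h1
      rw [Subgroup.mem_subgroupOf] at this
      simpa using this
    have hmT : ∀ t ∈ T, (m : G) * t * (m : G)⁻¹ ∈ T := by
      intro t ht
      exact (Subgroup.mem_normalizer_iff.mp m.2 t).mp ht
    have h3 : (m : G)⁻¹ * x * m ∈ C := by
      rw [hCdef, Subgroup.mem_centralizer_iff]
      intro t ht
      have := Subgroup.mem_centralizer_iff.mp hx _ (hmT t ht)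
      calc t * ((m : G)⁻¹ * x * m) = (m : G)⁻¹ * ((m : G) * t * (m : G)⁻¹ * x) * m := by group
        _ = (m : G)⁻¹ * (x * ((m : G) * t * (m : G)⁻¹)) * m := by rw [this]
        _ = (m : G)⁻¹ * x * m * t := by group
    have h4 : (m : G)⁻¹ * x * m ∈ T := hC (Subgroup.mem_inf.mpr ⟨h2, h3⟩)
    have h5 := hmT _ h4
    have : (m : G) * ((m : G)⁻¹ * x * m) * (m : G)⁻¹ = x := by group
    rwa [this] at h5
  -- the central Sylow subgroup of C
  set Z : Subgroup ↥C := (T ⊓ C).subgroupOf C with hZ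
  have hTp : IsPGroup p T := S.isPGroup'.to_le hTS
  have hZp : IsPGroup p Z := (hTp.to_inf_left).comap_subtype
  have hZc : Z ≤ Subgroup.center ↥C := by
    intro z hz
    rw [Subgroup.mem_center_iff]
    intro c
    have hzT : (z : G) ∈ T := (Subgroup.mem_inf.mp (Subgroup.mem_subgroupOf.mp hz)).1
    have := Subgroup.mem_centralizer_iff.mp c.2 _ hzT
    apply Subtype.ext
    simp only [Subgroup.coe_mul]
    exact this.symm
  have hZi : ¬ p ∣ Z.index := by
    let R : Sylow p ↥C := default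
    have hRZ : (R : Subgroup ↥C) ≤ Z := by
      intro r hr
      obtain ⟨k, hk⟩ := R.isPGroup' ⟨r, hr⟩
      have hk' : (r : G) ^ (p ^ k) = 1 := by
        have := congrArg (fun y : (R : Subgroup ↥C) => ((y : ↥C) : G)) hk
        simpa using this
      have hrT : (r : G) ∈ T := claim1 _ r.2 ⟨k, hk'⟩
      rw [hZ, Subgroup.mem_subgroupOf]
      exact Subgroup.mem_inf.mpr ⟨hrT, r.2⟩
    have : Z = R := R.is_maximal' hZp hRZ
    rw [this]
    exact R.not_dvd_index
  have hKC : ¬ p ∣ Nat.card (Cfsg.pResidual p ↥C) :=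
    not_dvd_card_pResidual_of_central_sylow p Z hZc hZp hZi
  -- K = O^p(M)
  set K : Subgroup ↥M := Cfsg.pResidual p ↥M with hK
  haveI hKn : K.Normal := pResidual_normal p ↥M
  have hmaps : K.map M.subtype = (Cfsg.pResidual p ↥C).map C.subtype := by
    rw [hK, map_pResidual, map_pResidual]
    congr 1
    ext g
    constructor
    · rintro ⟨hg, hcop⟩
      exact ⟨hN g hg hcop, hcop⟩
    · rintro ⟨hg, hcop⟩
      exact ⟨hCM hg, hcop⟩
  have hcardK : Nat.card K = Nat.card (Cfsg.pResidual p ↥C) := by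
    have e1 := Subgroup.card_map_of_injective (K := K) (f := M.subtype) M.subtype_injective
    have e2 := Subgroup.card_map_of_injective (K := Cfsg.pResidual p ↥C) (f := C.subtype) C.subtype_injective
    rw [← e1, hmaps, e2]
  have hKp : ¬ p ∣ Nat.card K := by rw [hcardK]; exact hKC
  -- index of K is a power of p
  obtain ⟨j, hj⟩ := (IsPGroup.iff_card (p := p)).mp (pResidual_quotient_isPGroup p ↥M)
  have hidx : K.index = p ^ j := by rw [Subgroup.index_eq_card, ← hj]
  have hcardM : Nat.card K * p ^ j = Nat.card ↥M := by rw [← hidx]; exact K.card_mul_index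
  -- order of the Sylow subgroup
  obtain ⟨i, hi⟩ := (IsPGroup.iff_card (p := p)).mp S_M.isPGroup'
  have hcop : Nat.Coprime (Nat.card K) p := ((Nat.Prime.coprime_iff_not_dvd hp).mpr hKp).symm
  have hSM : Nat.card S_M = p ^ j := by
    apply Nat.dvd_antisymm
    · have h1 : Nat.card S_M ∣ Nat.card K * p ^ j := by
        rw [hcardM]; exact Subgroup.card_subgroup_dvd_card _
      have h2 : Nat.Coprime (Nat.card S_M) (Nat.card K) := by
        rw [hi]; exact Nat.Coprime.pow_left i hcop.symm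
      exact h2.dvd_of_dvd_mul_left h1
    · apply S_M.pow_dvd_card_of_pow_dvd_card
      rw [← hcardM]; exact dvd_mul_left _ _
  refine ⟨S_M, K, hKn, ?_⟩
  apply Subgroup.isComplement'_of_coprime
  · rw [hSM]; exact hcardM
  · rw [hSM]; exact Nat.Coprime.pow_right j hcop

end Cfsg.Agent.S2007
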