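import Cfsg.Statements.S2010
import Cfsg.Agent.Lib.H9.JeCore
import Cfsg.Agent.Lib.H1.ThompsonJ
import Cfsg.Agent.Lib.H9.PPrimeCore
-- import your own Cfsg.Agent.* helpers here

set_option autoImplicit false
open Cfsg

namespace Cfsg.Agent.S2010

open Cfsg.Agent.Lib.H9 Cfsg.Agent.Lib.H26 in
/-- if all the largest elementary abelian subgroups of `S` lie in a normal subgroup `Q ≤ S`,
then `J(S)` is normal -/
theorem JJ_normal_of_forall_le {X : Type*} [Group X] {p : ℕ} {S Q : Subgroup X} (hQn : Q.Normal)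
    (hQS : Q ≤ S) (h : ∀ A ∈ maxEA p S, A ≤ Q) : (JJ p S).Normal := by
  refine ⟨fun n hn g => ?_⟩
  have hle : (JJ p S).map (MulAut.conj g).toMonoidHom ≤ JJ p S := by
    rw [Subgroup.map_le_iff_le_comap]
    apply sSup_le
    intro A hA
    rw [← Subgroup.map_le_iff_le_comap]
    apply le_sSup
    have hinj : Function.Injective (MulAut.conj g).toMonoidHom := (MulAut.conj g).injective
    refine ⟨?_, (isElementaryAbelian_map_iff p _ hinj A).mpr hA.2.1, ?_⟩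
    · rintro _ ⟨a, ha, rfl⟩
      apply hQS
      simpa [MulAut.conj_apply] using hQn.conj_mem a (h A hA ha) g
    · intro B hBS hB
      rw [Subgroup.card_map_of_injective hinj]
      exact hA.2.2 B hBS hB
  have := hle (Subgroup.mem_map_of_mem _ hn)
  simpa [MulAut.conj_apply] using this


/-- Let G be a finite solvable group with no section isomorphic to the symmetric group of degree 4, whose Sylow 2-subgroup S has nilpotency class at most 2. Then G = N_G(J_e(S)) · O_{2'}(G), where J_e(S) is the subgroup generated by the elementary abelian subgroups of S of largest order. -/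
theorem result {G : Type*} [Group G] [Finite G]
    [Group.IsSolvable G] (hS4 : ¬ Cfsg.Involves (Equiv.Perm (Fin 4)) G) (S : Sylow 2 G)
    (hcl : Subgroup.lowerCentralSeries (S : Subgroup G) 2 = ⊥) :
    Subgroup.normalizer ((Cfsg.thompsonSubgroupOf 2 (S : Subgroup G)) : Set G) ⊔ Cfsg.pPrimeCore 2 G = ⊤ := by
  have hp2 : Fact (Nat.Prime 2) := ⟨Nat.prime_two⟩
  rw [Cfsg.Agent.Lib.H26.thompsonSubgroupOf_eq 2 (S : Subgroup G)]
  obtain ⟨J, hJdef⟩ : ∃ J, J = Cfsg.Agent.Lib.H26.JJ 2 (S : Subgroup G) := ⟨_, rfl⟩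
  rw [← hJdef]
  have hJS : J ≤ S := hJdef ▸ Cfsg.Agent.Lib.H26.JJ_le 2 _
  obtain ⟨N, hN⟩ : ∃ N, N = Cfsg.pPrimeCore 2 G := ⟨_, rfl⟩
  have hNn : N.Normal := hN ▸ Cfsg.Agent.Lib.H22.pPrimeCore_normal 2
  have hNodd : (Nat.card N).Coprime 2 := hN ▸ Cfsg.Agent.Lib.H22.card_pPrimeCore_coprime 2
  have hOq : Cfsg.pPrimeCore 2 (G ⧸ N) = ⊥ := by
    subst hN; exact Cfsg.Agent.Lib.H9.pPrimeCore_quotient_eq_bot 2
  rw [← hN]
  obtain ⟨π, hπ⟩ : ∃ π : G →* G ⧸ N, π = QuotientGroup.mk' N := ⟨_, rfl⟩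
  have hπs : Function.Surjective π := hπ ▸ QuotientGroup.mk'_surjective N
  have hπker : π.ker = N := hπ ▸ QuotientGroup.ker_mk' N
  have hSpow : ∀ s ∈ (S : Subgroup G), ∃ k : ℕ, s ^ 2 ^ k = 1 := by
    intro s hs
    obtain ⟨k, hk⟩ := S.2 ⟨s, hs⟩
    exact ⟨k, by simpa using congrArg Subtype.val hk⟩
  have hinjP : ∀ P : Subgroup G, IsPGroup 2 P → Cfsg.Agent.Lib.H1.InjOnSub π P := by
    intro P hP s hs hs1
    have hsN : s ∈ N := by rw [← hπker]; exact hs1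
    obtain ⟨k, hk⟩ := hP ⟨s, hs⟩
    exact Cfsg.Agent.Lib.H9.Je.eq_one_of_mem_of_pow hNodd hsN
      (by simpa using congrArg Subtype.val hk)
  have hinj : Cfsg.Agent.Lib.H1.InjOnSub π (S : Subgroup G) := hinjP _ S.2
  have hS4q : ¬ Cfsg.Involves (Equiv.Perm (Fin 4)) (G ⧸ N) :=
    fun h => hS4 (Cfsg.Agent.Lib.H14.SFour.involves_of_surj π hπs h)
  obtain ⟨Sb, hSb⟩ : ∃ Sb : Sylow 2 (G ⧸ N), (Sb : Subgroup (G ⧸ N)) = (S : Subgroup G).map π :=
    ⟨S.mapSurjective hπs, Sylow.coe_mapSurjective hπs S⟩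
  have hclS : Cfsg.Agent.Lib.H9.Je.Cl2 (S : Subgroup G) := Cfsg.Agent.Lib.H9.Je.cl2_of_lcs hcl
  have hclSb : Cfsg.Agent.Lib.H9.Je.Cl2 (Sb : Subgroup (G ⧸ N)) := by
    rw [hSb]; exact hclS.map π
  have hclq : ∀ P : Subgroup (G ⧸ N), IsPGroup 2 P → Cfsg.Agent.Lib.H9.Je.Cl2 P :=
    Cfsg.Agent.Lib.H9.Je.cl2_of_sylow Sb hclSb
  have hall : ∀ B ∈ Cfsg.Agent.Lib.H26.maxEA 2 (Sb : Subgroup (G ⧸ N)),
      B ≤ Cfsg.pCore 2 (G ⧸ N) := by
    intro B hB
    exact Cfsg.Agent.Lib.H9.Je.core (G ⧸ N) hS4q hOq hclq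
      (Cfsg.Agent.Lib.H9.Je.maxElemAb_of_maxEA Sb hB)
  have hJbn : (Cfsg.Agent.Lib.H26.JJ 2 (Sb : Subgroup (G ⧸ N))).Normal :=
    JJ_normal_of_forall_le (Cfsg.Agent.Lib.H1.pCore_normal 2 _)
      (Cfsg.Agent.Lib.H1.pCore_le_sylow Sb) hall
  have hJb : Cfsg.Agent.Lib.H26.JJ 2 (Sb : Subgroup (G ⧸ N)) = J.map π := by
    rw [hSb, hJdef]; exact Cfsg.Agent.Lib.H1.JJ_map hinj 2
  obtain ⟨M, hM⟩ : ∃ M, M = J ⊔ N := ⟨_, rfl⟩
  have hMn : M.Normal := by
    have : M = (J.map π).comap π := by rw [Subgroup.comap_map_eq, hπker, hM]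
    rw [this, ← hJb]; exact hJbn.comap π
  have hJM : J ≤ M := hM ▸ le_sup_left
  have hNM : N ≤ M := hM ▸ le_sup_right
  have hMmap : M.map π = J.map π := by
    rw [hM, Subgroup.map_sup]
    have : N.map π = ⊥ := (Subgroup.map_eq_bot_iff _).mpr hπker.ge
    rw [this, sup_bot_eq]
  have hJ2 : IsPGroup 2 J := S.2.to_le hJS
  -- a Sylow subgroup of `M` containing `J`
  have hJ2' : IsPGroup 2 (J.subgroupOf M) := by
    apply IsPGroup.of_injective hJ2 ((M.subtype.comp (J.subgroupOf M).subtype).codRestrict J ?_) ?_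
    · intro x; exact Subgroup.mem_subgroupOf.mp x.2
    · intro x y hxy
      have := congrArg Subtype.val hxy
      exact Subtype.ext (Subtype.ext this)
  obtain ⟨P, hP⟩ := hJ2'.exists_le_sylow
  obtain ⟨P', hP'⟩ : ∃ P', P' = (P : Subgroup M).map M.subtype := ⟨_, rfl⟩
  have hJP' : J ≤ P' := by
    intro j hj
    rw [hP']
    exact ⟨⟨j, hJM hj⟩, hP (Subgroup.mem_subgroupOf.mpr hj), rfl⟩
  have hP'M : P' ≤ M := by rw [hP']; exact Subgroup.map_subtype_le _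
  have hP'2 : IsPGroup 2 P' := by rw [hP']; exact P.2.map _
  have hP'J : P' = J := by
    symm
    apply Subgroup.eq_of_le_of_card_ge hJP'
    rw [← (hinjP P' hP'2).card_map, ← (hinjP J hJ2).card_map]
    apply Subgroup.card_le_of_le
    rw [← hMmap]
    exact Subgroup.map_mono hP'M
  have hfrat := Sylow.normalizer_sup_eq_top P
  rw [← hP', hP'J] at hfrat
  rw [eq_top_iff, ← hfrat, hM]
  apply sup_le le_sup_left
  apply sup_le _ le_sup_right
  exact Subgroup.le_normalizer.trans le_sup_left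


end Cfsg.Agent.S2010
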