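import Cfsg.Statements.S2011
import Mathlib
import Cfsg.Agent.Lib.H22.PPrimeCore

set_option autoImplicit false
open Cfsg

namespace Cfsg.Agent.S2011

open scoped Pointwise
open Cfsg.FusionSystem

section aux
variable {G : Type*} [Group G]

/-- conjugate subgroup -/
abbrev cjg (g : G) (P : Subgroup G) : Subgroup G := P.map (MulAut.conj g).toMonoidHom

theorem mem_cjg {g : G} {P : Subgroup G} {x : G} : x ∈ cjg g P ↔ g⁻¹ * x * g ∈ P := by
  constructor
  · rintro ⟨y, hy, rfl⟩
    have : g⁻¹ * ((MulAut.conj g).toMonoidHom y) * g = y := by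
      simp [MulAut.conj_apply, mul_assoc]
    rw [this]; exact hy
  · intro h
    refine ⟨g⁻¹ * x * g, h, ?_⟩
    simp [MulAut.conj_apply, mul_assoc]

/-- (after helper26's `isConj_groupFusionSystem_iff`) -/
theorem isConj_gfs_iff {S P Q : Subgroup G} :
    (groupFusionSystem S).IsConj P Q ↔ P ≤ S ∧ Q ≤ S ∧ ∃ g : G, cjg g P = Q := by
  constructor
  · rintro ⟨φ, ⟨hP, hφS, g, hg⟩, hr⟩
    refine ⟨hP, ?_, g, ?_⟩
    · rw [← hr]
      rintro _ ⟨x, rfl⟩
      exact hφS x
    · rw [← hr]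
      ext y
      constructor
      · rintro ⟨x, hx, rfl⟩
        exact ⟨⟨x, hx⟩, hg ⟨x, hx⟩⟩
      · rintro ⟨x, rfl⟩
        exact ⟨x, x.2, (hg x).symm⟩
  · rintro ⟨hP, hQ, g, rfl⟩
    refine ⟨conjHom P g, ⟨hP, fun x => hQ ⟨x, x.2, rfl⟩, g, fun _ => rfl⟩, ?_⟩
    ext y
    constructor
    · rintro ⟨x, rfl⟩
      exact ⟨x, x.2, rfl⟩
    · rintro ⟨x, hx, rfl⟩
      exact ⟨⟨x, hx⟩, rfl⟩

end aux

section main
variable {G : Type*} [Group G] [Finite G] (p : ℕ) [Fact p.Prime]

theorem card_K_coprime (C : Subgroup G) :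
    (Nat.card ((Cfsg.pPrimeCore p ↥C).map C.subtype)).Coprime p := by
  rw [Subgroup.card_map_of_injective C.subtype_injective]
  exact Cfsg.Agent.Lib.H22.card_pPrimeCore_coprime p

theorem backward (P : Sylow p G) (Q : Subgroup G) (hQ : Q ≤ P)
    (h : Cfsg.IsInternalDirectProduct (Q ⊓ Subgroup.centralizer (Q : Set G))
      ((Cfsg.pPrimeCore p ↥(Subgroup.centralizer (Q : Set G))).map
        (Subgroup.centralizer (Q : Set G)).subtype) (Subgroup.centralizer (Q : Set G))) :
    (Cfsg.groupFusionSystem (P : Subgroup G)).IsCentric Q := by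
  obtain ⟨_, _, hcomm, hdisj, hsup⟩ := h
  set C := Subgroup.centralizer (Q : Set G) with hC
  set Z := Q ⊓ C with hZ
  set K := (Cfsg.pPrimeCore p ↥C).map C.subtype with hK
  refine ⟨hQ, fun R hR => ?_⟩
  rw [isConj_gfs_iff] at hR
  obtain ⟨_, hRP, g, rfl⟩ := hR
  intro x hx
  obtain ⟨hxP, hxc⟩ := hx
  rw [mem_cjg]
  -- x' = g⁻¹ x g ∈ C
  have hx'C : g⁻¹ * x * g ∈ C := by
    rw [hC, Subgroup.mem_centralizer_iff]
    intro q hq
    have hq' : g * q * g⁻¹ ∈ cjg g Q := ⟨q, hq, by simp [MulAut.conj_apply]⟩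
    have h1 := (Subgroup.mem_centralizer_iff.mp hxc) _ hq'
    -- h1 : g q g⁻¹ * x = x * g q g⁻¹
    calc q * (g⁻¹ * x * g) = g⁻¹ * ((g * q * g⁻¹) * x) * g := by group
      _ = g⁻¹ * (x * (g * q * g⁻¹)) * g := by rw [h1]
      _ = g⁻¹ * x * g * q := by group
  -- decompose
  have hx'sup : g⁻¹ * x * g ∈ Z ⊔ K := by rw [hsup]; exact hx'C
  have hKnorm : K ≤ Subgroup.normalizer (Z : Set G) := by
    intro k hk
    rw [Subgroup.mem_normalizer_iff]
    intro z
    constructor
    · intro hz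
      have := hcomm z hz k hk
      have e : k * z * k⁻¹ = z := by rw [← this]; group
      rw [e]; exact hz
    · intro hz
      have := hcomm _ hz k hk
      -- (k z k⁻¹) * k = k * (k z k⁻¹)
      have e : z = k * z * k⁻¹ := by
        have : k * z * k⁻¹ * k = k * (k * z * k⁻¹) := this
        have h2 : k * z = k * (k * z * k⁻¹) := by rw [← this]; group
        exact mul_left_cancel h2
      rw [e]; exact hz
  rw [sup_comm] at hx'sup
  have hset : g⁻¹ * x * g ∈ ((K ⊔ Z : Subgroup G) : Set G) := hx'sup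
  rw [Subgroup.coe_mul_of_left_le_normalizer_right K Z hKnorm, Set.mem_mul] at hset
  obtain ⟨k, hk, z, hz, hkz⟩ := hset
  -- p-power
  obtain ⟨n, hn⟩ := P.2 ⟨x, hxP⟩
  have hxn : x ^ p ^ n = 1 := by
    have := congrArg Subtype.val hn
    simpa using this
  have hx'n : (g⁻¹ * x * g) ^ p ^ n = 1 := by
    have : (g⁻¹ * x * g) ^ p ^ n = g⁻¹ * x ^ p ^ n * g := by
      have := conj_pow (a := g⁻¹) (b := x) (i := p ^ n)
      simpa using this
    rw [this, hxn]; group
  have hkzc : Commute k z := (hcomm z hz k hk).symm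
  rw [← hkz, hkzc.mul_pow] at hx'n
  have hkpow : k ^ p ^ n ∈ Z ⊓ K := by
    have e : k ^ p ^ n = (z ^ p ^ n)⁻¹ := eq_inv_of_mul_eq_one_left hx'n
    refine ⟨?_, K.pow_mem hk _⟩
    rw [e]; exact Z.inv_mem (Z.pow_mem hz _)
  rw [hdisj, Subgroup.mem_bot] at hkpow
  have hk1 : k = 1 := by
    have h1 : orderOf k ∣ p ^ n := orderOf_dvd_of_pow_eq_one hkpow
    have h2 : orderOf k ∣ Nat.card K := by
      have := orderOf_dvd_natCard (⟨k, hk⟩ : K)
      rwa [Subgroup.orderOf_mk] at this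
    have hcop : Nat.Coprime (p ^ n) (Nat.card K) :=
      Nat.Coprime.pow_left n (card_K_coprime p C).symm
    exact orderOf_eq_one_iff.mp (Nat.eq_one_of_dvd_coprimes hcop h1 h2)
  rw [hk1, one_mul] at hkz
  rw [← hkz]
  exact hz.1

theorem forward (P : Sylow p G) (Q : Subgroup G) (hQ : Q ≤ P)
    (h : (Cfsg.groupFusionSystem (P : Subgroup G)).IsCentric Q) :
    Cfsg.IsInternalDirectProduct (Q ⊓ Subgroup.centralizer (Q : Set G))
      ((Cfsg.pPrimeCore p ↥(Subgroup.centralizer (Q : Set G))).map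
        (Subgroup.centralizer (Q : Set G)).subtype) (Subgroup.centralizer (Q : Set G)) := by
  obtain ⟨_, hcen⟩ := h
  set C := Subgroup.centralizer (Q : Set G) with hC
  set Z := Q ⊓ C with hZ
  set K := (Cfsg.pPrimeCore p ↥C).map C.subtype with hK
  have hQp : IsPGroup p Q := P.2.to_le hQ
  have hZp : IsPGroup p Z := hQp.to_le inf_le_left
  have hcommZK : ∀ a ∈ Z, ∀ b ∈ K, a * b = b * a := by
    intro a ha b hb
    have hbC : b ∈ C := Subgroup.map_subtype_le _ hb
    exact (Subgroup.mem_centralizer_iff.mp hbC a ha.1)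
  have hdisj : Z ⊓ K = ⊥ := by
    rw [eq_bot_iff]
    intro x hx
    rw [Subgroup.mem_bot]
    obtain ⟨n, hn⟩ := hZp ⟨x, hx.1⟩
    have hxn : x ^ p ^ n = 1 := by
      have := congrArg Subtype.val hn
      simpa using this
    have h1 : orderOf x ∣ p ^ n := orderOf_dvd_of_pow_eq_one hxn
    have h2 : orderOf x ∣ Nat.card K := by
      have := orderOf_dvd_natCard (⟨x, hx.2⟩ : K)
      rwa [Subgroup.orderOf_mk] at this
    have hcop : Nat.Coprime (p ^ n) (Nat.card K) :=
      Nat.Coprime.pow_left n (card_K_coprime p C).symm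
    exact orderOf_eq_one_iff.mp (Nat.eq_one_of_dvd_coprimes hcop h1 h2)
  refine ⟨inf_le_right, Subgroup.map_subtype_le _, hcommZK, hdisj, ?_⟩
  -- Sylow of C containing Z
  have hZ'p : IsPGroup p (Z.subgroupOf C) :=
    hZp.comap_of_injective C.subtype C.subtype_injective
  obtain ⟨T, hT⟩ := hZ'p.exists_le_sylow
  set T' : Subgroup G := (T : Subgroup C).map C.subtype with hT'
  have hT'C : T' ≤ C := Subgroup.map_subtype_le _
  have hT'p : IsPGroup p T' := T.2.map C.subtype
  -- T' ⊔ Q is a p-group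
  have hT'N : T' ≤ Subgroup.normalizer (Q : Set G) :=
    hT'C.trans (Subgroup.centralizer_le_normalizer (Q : Set G) |> fun h => h)
  have hsupp : IsPGroup p (T' ⊔ Q : Subgroup G) := hT'p.to_sup_of_normal_right' hQp hT'N
  obtain ⟨P', hP'⟩ := hsupp.exists_le_sylow
  obtain ⟨g, hg⟩ := MulAction.exists_smul_eq G P' P
  -- g • P' = P : conj by g sends P' to P
  have hconj : ∀ y ∈ (P' : Subgroup G), g * y * g⁻¹ ∈ (P : Subgroup G) := by
    intro y hy
    have : (P : Subgroup G) = MulAut.conj g • (P' : Subgroup G) := by rw [← hg]; rfl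
    rw [this, Subgroup.mem_pointwise_smul_iff_inv_smul_mem]
    simpa [MulAut.smul_def, mul_assoc] using hy
  -- R := cjg g Q
  have hRP : cjg g Q ≤ P := by
    rintro _ ⟨q, hq, rfl⟩
    exact hconj q (hP' (Subgroup.mem_sup_right hq))
  have hRconj : (Cfsg.groupFusionSystem (P : Subgroup G)).IsConj Q (cjg g Q) :=
    isConj_gfs_iff.mpr ⟨hQ, hRP, g, rfl⟩
  have hcenR := hcen _ hRconj
  -- T' ≤ Z
  have hT'Z : T' ≤ Z := by
    intro t ht
    have htC : t ∈ C := hT'C ht
    have h1 : g * t * g⁻¹ ∈ centralizerIn (P : Subgroup G) (cjg g Q) := by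
      unfold centralizerIn
      rw [Subgroup.mem_inf]
      refine ⟨hconj t (hP' (Subgroup.mem_sup_left ht)), ?_⟩
      rw [Subgroup.mem_centralizer_iff]
      rintro _ ⟨q, hq, rfl⟩
      have hcq := Subgroup.mem_centralizer_iff.mp htC q hq
      simp only [MulEquiv.toMonoidHom_eq_coe, MonoidHom.coe_coe, MulAut.conj_apply]
      calc g * q * g⁻¹ * (g * t * g⁻¹) = g * (q * t) * g⁻¹ := by group
        _ = g * (t * q) * g⁻¹ := by rw [hcq]
        _ = g * t * g⁻¹ * (g * q * g⁻¹) := by group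
    have h2 := hcenR h1
    rw [mem_cjg] at h2
    have : g⁻¹ * (g * t * g⁻¹) * g = t := by group
    rw [this] at h2
    exact ⟨h2, htC⟩
  -- so T = Z.subgroupOf C
  have hTeq : (T : Subgroup C) = Z.subgroupOf C := by
    apply le_antisymm _ hT
    intro t ht
    rw [Subgroup.mem_subgroupOf]
    exact hT'Z ⟨t, ht, rfl⟩
  -- T central
  have hTcen : Subgroup.normalizer ((T : Subgroup C) : Set C) ≤
      Subgroup.centralizer ((T : Subgroup C) : Set C) := by
    intro c _
    rw [Subgroup.mem_centralizer_iff]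
    intro t ht
    have ht : t ∈ Z.subgroupOf C := by rw [← hTeq]; exact ht
    rw [Subgroup.mem_subgroupOf] at ht
    apply Subtype.ext
    have := Subgroup.mem_centralizer_iff.mp c.2 (t : G) ht.1
    simpa using this
  have hcompl := MonoidHom.ker_transferSylow_isComplement' T hTcen
  have hnd := MonoidHom.not_dvd_card_ker_transferSylow T hTcen
  set N := (MonoidHom.transferSylow T hTcen).ker with hN
  have hNle : N ≤ Cfsg.pPrimeCore p ↥C :=
    Cfsg.Agent.Lib.H22.le_pPrimeCore p N inferInstance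
      ((Nat.Coprime.symm ((Nat.Prime.coprime_iff_not_dvd Fact.out).mpr hnd)))
  have hsup : N ⊔ (T : Subgroup C) = ⊤ := hcompl.sup_eq_top
  apply le_antisymm
  · exact sup_le inf_le_right (Subgroup.map_subtype_le _)
  · intro c hc
    have hmem : (⟨c, hc⟩ : C) ∈ N ⊔ (T : Subgroup C) := by rw [hsup]; trivial
    have h3 : c ∈ (N ⊔ (T : Subgroup C)).map C.subtype := ⟨⟨c, hc⟩, hmem, rfl⟩
    rw [Subgroup.map_sup] at h3
    refine (sup_le ?_ ?_ : N.map C.subtype ⊔ (T : Subgroup C).map C.subtype ≤ Z ⊔ K) h3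
    · exact (Subgroup.map_mono hNle).trans le_sup_right
    · exact hT'Z.trans le_sup_left

end main

/-- Let G be a finite group with Sylow p-subgroup P and Q ≤ P. Then Q is centric in the fusion system of G on P (C_P(R) ≤ R for every G-conjugate R of Q lying in P) if and only if C_G(Q) is the internal direct product of Z(Q) = Q ∩ C_G(Q) and the largest normal subgroup of C_G(Q) of order prime to p. -/
theorem result {G : Type*} [Group G] [Finite G] (p : ℕ) [Fact p.Prime] (P : Sylow p G) (Q : Subgroup G) (hQ : Q ≤ P) : (Cfsg.groupFusionSystem (P : Subgroup G)).IsCentric Q ↔ Cfsg.IsInternalDirectProduct (Q ⊓ Subgroup.centralizer (Q : Set G)) ((Cfsg.pPrimeCore p ↥(Subgroup.centralizer (Q : Set G))).map (Subgroup.centralizer (Q : Set G)).subtype) (Subgroup.centralizer (Q : Set G)) :=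
  ⟨forward p P Q hQ, backward p P Q hQ⟩

end Cfsg.Agent.S2011
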