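import Cfsg.Statements.S2014
import Cfsg.Agent.Lib.H10.Conj
import Cfsg.Agent.Lib.H10.PResidual

set_option autoImplicit false
open Cfsg

namespace Cfsg.Agent.S2014

open Cfsg.Agent.Lib.H10

theorem result {G : Type*} [Group G] [Finite G] (p : ℕ) [Fact p.Prime] (P : Sylow p G) (A C : Subgroup G) (hA : A ≤ P) (hC : C ≤ P) (hext : ¬ p ∣ ((P : Subgroup G) ⊓ Subgroup.normalizer ((C : Subgroup G) : Set G)).relIndex (Subgroup.normalizer ((C : Subgroup G) : Set G))) (h : G) (hh : A.map (MulAut.conj h).toMonoidHom = C) : ∃ g : G, A.map (MulAut.conj g).toMonoidHom = C ∧ ((P : Subgroup G) ⊓ Subgroup.normalizer ((A : Subgroup G) : Set G)).map (MulAut.conj g).toMonoidHom ≤ (P : Subgroup G) ⊓ Subgroup.normalizer ((C : Subgroup G) : Set G) ∧ h * g⁻¹ ∈ (Cfsg.pResidual p ↥(Subgroup.normalizer ((C : Subgroup G) : Set G))).map (Subgroup.normalizer ((C : Subgroup G) : Set G)).subtype := by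
  set N : Subgroup G := Subgroup.normalizer ((C : Subgroup G) : Set G) with hN
  set Q : Subgroup ↥N := ((P : Subgroup G) ⊓ N).subgroupOf N with hQ
  have hQp : IsPGroup p Q := (P.isPGroup'.to_inf_left).comap_subtype
  have hQi : ¬ p ∣ Q.index := hext
  -- X = h N_P(A) h⁻¹
  set X : Subgroup G := ((P : Subgroup G) ⊓ Subgroup.normalizer ((A : Subgroup G) : Set G)).map (MulAut.conj h).toMonoidHom with hX
  have hXN : X ≤ N := by
    rintro _ ⟨y, hy, rfl⟩
    have := conj_mem_normalizer_map_conj h (Subgroup.mem_inf.mp hy).2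
    rw [hh] at this
    simpa using this
  have hXp : IsPGroup p X := (P.isPGroup'.to_inf_left).map _
  have hX'p : IsPGroup p (X.subgroupOf N) := hXp.comap_subtype
  obtain ⟨Q', hQ'⟩ := hX'p.exists_le_sylow
  obtain ⟨n, hn⟩ := MulAction.exists_smul_eq ↥N (hQp.toSylow hQi) Q'
  obtain ⟨s, hs, u, hu, hsu⟩ := exists_mul_of_sylow_pResidual p Q hQi n⁻¹
  have hkey : ∀ x : ↥N, (x : G) ∈ X → u * x * u⁻¹ ∈ Q := by
    intro x hx
    have h1 : x ∈ (Q' : Subgroup ↥N) := hQ' (by rw [Subgroup.mem_subgroupOf]; exact hx)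
    rw [← hn, mem_smul_sylow, IsPGroup.toSylow_coe] at h1
    have h2 : u * x * u⁻¹ = s⁻¹ * (n⁻¹ * x * n) * s := by
      have : n = u⁻¹ * s⁻¹ := by
        have := congrArg (·⁻¹) hsu
        simpa using this
      rw [hsu, this]; group
    rw [h2]
    exact Q.mul_mem (Q.mul_mem (Q.inv_mem hs) h1) hs
  have huN : (u : G) ∈ N := u.2
  refine ⟨(u : G) * h, ?_, ?_, ?_⟩
  · rw [← map_conj_map_conj, hh]
    exact mem_normalizer_iff_map_conj.mp huN
  · rw [← map_conj_map_conj]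
    rintro _ ⟨x, hx, rfl⟩
    have := hkey ⟨x, hXN hx⟩ hx
    rw [hQ, Subgroup.mem_subgroupOf] at this
    simpa using this
  · refine ⟨u⁻¹, (Cfsg.pResidual p ↥N).inv_mem hu, ?_⟩
    simp

end Cfsg.Agent.S2014
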