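import Cfsg.Statements.S2040
import Cfsg.Agent.Lib.H28.J2Cover
import Cfsg.Agent.Lib.H28.J2Upper

set_option autoImplicit false
open Cfsg

namespace Cfsg.Agent.S2040

/-- The Schur multiplier of the Hall–Janko group J₂ (the icosian reflection group modulo its centre) is cyclic of order 2; here the Schur multiplier is described through stem extensions, as in the definitions: surjective homomorphisms onto the group from a finite group, whose kernel is central in that finite group and contained in that finite group's commutator subgroup. -/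
theorem result : Cfsg.HasCyclicSchurMultiplier Cfsg.Spor.J2 2 := by
  have : Fact (Nat.Prime 2) := ⟨Nat.prime_two⟩
  have h2 : Nat.card (Multiplicative (ZMod 2)) = 2 := by
    rw [Nat.card_eq_fintype_card]
    rfl
  refine ⟨⟨↥Cfsg.Spor.twoJ2, inferInstance, Cfsg.Agent.Lib.H28.J2Cover.finite_twoJ2,
    Cfsg.Agent.Lib.H28.J2Cover.cov, Cfsg.Agent.Lib.H28.J2Cover.isStem_cov,
    ⟨mulEquivOfPrimeCardEq Cfsg.Agent.Lib.H28.J2Cover.card_ker_cov h2⟩⟩, ?_⟩
  intro Γ _ _ σ hσ
  -- transport to the presented group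
  let φ : Cfsg.Spor.J2 ≃* Cfsg.Agent.Lib.H28.J2Rel.G := Cfsg.Agent.Lib.H3.J2.presEquivJ2.symm
  let σ' : Γ →* Cfsg.Agent.Lib.H28.J2Rel.G := φ.toMonoidHom.comp σ
  have hker : σ'.ker = σ.ker := by
    ext x
    simp only [MonoidHom.mem_ker, σ', MonoidHom.comp_apply]
    constructor
    · intro h
      have : φ (σ x) = 1 := h
      rwa [MulEquiv.map_eq_one_iff] at this
    · intro h
      rw [h]
      exact map_one _
  have hσ' : Cfsg.IsStemExtension σ' := by
    obtain ⟨hs, hc, hk⟩ := hσ
    refine ⟨?_, ?_, ?_⟩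
    · exact φ.surjective.comp hs
    · rw [hker]; exact hc
    · rw [hker]; exact hk
  have hle' := (Cfsg.Agent.Lib.H28.J2Upper.card_ker_le_two hσ').2
  have hle : Nat.card σ.ker ≤ 2 := by rw [← hker]; exact hle'
  have hpos : 0 < Nat.card σ.ker := Nat.card_pos
  rcases (by omega : Nat.card σ.ker = 1 ∨ Nat.card σ.ker = 2) with h1 | h1
  · refine ⟨1, ?_⟩
    have hs : Subsingleton σ.ker := (Nat.card_eq_one_iff_unique.1 h1).1
    intro x
    exact ⟨1, Subsingleton.elim _ _⟩
  · exact ⟨(mulEquivOfPrimeCardEq h2 h1).toMonoidHom, (mulEquivOfPrimeCardEq h2 h1).surjective⟩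

end Cfsg.Agent.S2040
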