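import Cfsg.Statements.S2048
import Cfsg.Agent.Lib.H14.SuzM.Upper
import Cfsg.Agent.Lib.H14.SuzM.Lower2
import Cfsg.Agent.Lib.H14.SuzM.Lower3
import Cfsg.Agent.Lib.H14.SuzM.M2Mat
import Cfsg.Agent.Lib.H18.SchurSix

set_option autoImplicit false
open Cfsg

namespace Cfsg.Agent.S2048

/-- The Schur multiplier of the Suzuki sporadic group (the finitely presented group of the definitions) is cyclic of order 6; here the Schur multiplier is described through stem extensions, as in the definitions: surjective homomorphisms onto the group from a finite group, whose kernel is central in that finite group and contained in that finite group's commutator subgroup. -/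
theorem result : Cfsg.HasCyclicSchurMultiplier Cfsg.Spor.Suz 6 := by
  haveI : Finite Cfsg.Spor.Suz := Cfsg.Agent.Lib.H14.SuzM.finite_G
  exact Cfsg.Agent.Lib.H18.SchurSix.hasCyclicSchurMultiplier_six
    Cfsg.Agent.Lib.H14.SuzM.card_ker_dvd_six
    (Cfsg.Agent.Lib.H14.SuzM.exists_stem2_of Cfsg.Agent.Lib.H14.SuzM.M2.z2_ne_one_mat)
    Cfsg.Agent.Lib.H14.SuzM.exists_stem3

end Cfsg.Agent.S2048
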