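import Cfsg.Statements.S2053
import Cfsg.Agent.Lib.H28.Fi22M.UpperOf
import Cfsg.Agent.Lib.H28.Fi22M.LowerOf
import Cfsg.Agent.Lib.H28.Fi22M.BF1
import Cfsg.Agent.Lib.H5.Fi22MW
import Cfsg.Agent.Lib.H5.Fi22MFA
import Cfsg.Agent.Lib.H9.Fi22MKL
import Cfsg.Agent.Lib.H20.Fi22MBF2
import Cfsg.Agent.Lib.H11.Fi22MM2
import Cfsg.Agent.Lib.H11.Fi22MM3
import Cfsg.Agent.Lib.H18.SchurSix

set_option autoImplicit false
open Cfsg

namespace Cfsg.Agent.S2053

open Cfsg.Agent.Lib.H28.Fi22M

/-- The Schur multiplier of the Fischer group Fi₂₂ (the finitely presented group of the definitions) is cyclic of order 6; here the Schur multiplier is described through stem extensions, as in the definitions: surjective homomorphisms onto the group from a finite group, whose kernel is central in that finite group and contained in that finite group's commutator subgroup. -/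
theorem result : Cfsg.HasCyclicSchurMultiplier Cfsg.Spor.Fi22 6 := by
  -- facts on `⟨b, …, i⟩ ≅ Ω₇(3)` (index 14080, perfect, multiplier of order dividing 6; helper23/helper28, on S2095)
  have hBF1 := Cfsg.Agent.Lib.H28.Fi22M.BF1.facts_KS9
  have : Finite Cfsg.Spor.Fi22 := hBF1.1
  -- the transposition `a` lifts to an involution in every central extension (helper9's KL on helper5's FA)
  have hFA := Cfsg.Agent.Lib.H5.Fi22M.involLift_fi22
    (fun Γ _ σ hs hc t d0 ht hrank X hodd hXt hXc hXX hprod =>
      Cfsg.Agent.Lib.H9.Fi22M.involution_lift_of_odd_relation σ hs hc t d0 ht hrank X hodd hXt hXc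
        hXX hprod)
  exact Cfsg.Agent.Lib.H18.SchurSix.hasCyclicSchurMultiplier_six
    -- upper bound: the monomial certificate over `Ω₇(3)` and the transfer to `Sp₆(2)`
    (fun Γ _ _ σ hσ => card_ker_dvd_six_of hFA hBF1 Cfsg.Agent.Lib.H20.Fi22M.facts_KS7
      Cfsg.Agent.Lib.H5.Fi22M.wv_fg_D Γ σ hσ)
    -- lower bound: the presented double and triple covers (helper20) and their models (helper11)
    (exists_stem2_of Cfsg.Agent.Lib.H11.Fi22M.z2_ne_one hBF1.1)
    (exists_stem3_of Cfsg.Agent.Lib.H11.Fi22M.z3_ne_one hBF1.1)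

end Cfsg.Agent.S2053
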