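import Cfsg.Statements.S2054
import Cfsg.Agent.Lib.H28.Fi23Norm3
import Cfsg.Agent.Lib.H17.Fi23Ord.Upper
import Cfsg.Agent.Lib.H20.Schur

set_option autoImplicit false
open Cfsg

namespace Cfsg.Agent.S2054

/-- The Schur multiplier of the Fischer group Fi₂₃ (the finitely presented group of the definitions) is trivial; here the Schur multiplier is described through stem extensions, as in the definitions: surjective homomorphisms onto the group from a finite group, whose kernel is central in that finite group and contained in that finite group's commutator subgroup. -/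
theorem result : Cfsg.HasCyclicSchurMultiplier Cfsg.Spor.Fi23 1 := by
  haveI : Finite Cfsg.Spor.Fi23 :=
    Nat.finite_of_card_ne_zero (Nat.pos_iff_ne_zero.mp Cfsg.Agent.Lib.H17.Fi23Ord.card_le.1)
  exact Cfsg.Agent.Lib.H20.hasCyclicSchurMultiplier_one_of_ker
    (fun Γ _ _ σ hσ => Cfsg.Agent.Lib.H28.Fi23Norm.ker_eq_bot σ hσ)

end Cfsg.Agent.S2054
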