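import Cfsg.Statements.S2100
import Cfsg.Agent.Lib.H29.ChevCert13
import Cfsg.Agent.Lib.H29.ChevStChkAll
import Cfsg.Agent.Lib.H29.ChevStN
import Cfsg.Agent.Lib.H29.ChevTL4
import Cfsg.Agent.Lib.H29.ChevTLG2

set_option autoImplicit false
open Cfsg

namespace Cfsg.Agent.S2100

/-- Schur multipliers of the Chevalley groups of type G₂: over a field with q ≥ 5 elements the Schur multiplier of G₂(q) is trivial (here the Schur multiplier is described through stem extensions, as in the definitions); the cases q = 3 and q = 4 are exceptional and q = 2 gives a non-simple group. -/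
theorem result {F : Type*} [Field F] [Fintype F] (hF : 5 ≤ Fintype.card F) : Cfsg.HasCyclicSchurMultiplier ↥(Cfsg.Lie.chevG2.group F) 1 := by
  open Cfsg.Agent.Lib.H29.Chev in
  -- a generator of the multiplicative group has order at least 4
  obtain ⟨g, hg⟩ := IsCyclic.exists_generator (α := Fˣ)
  have hord : orderOf g = Fintype.card F - 1 := by
    classical
    rw [orderOf_eq_card_of_forall_mem_zpowers hg, Nat.card_eq_fintype_card, Fintype.card_units]
  have hpow : ∀ k : ℕ, k ≠ 0 → k < 4 → ((g : Fˣ) : F) ^ k ≠ 1 := by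
    intro k hk0 hk h
    have h1 : g ^ k = 1 := by
      apply Units.ext
      rw [Units.val_pow_eq_pow_val, h, Units.val_one]
    exact pow_ne_one_of_lt_orderOf hk0 (by rw [hord]; omega) h1
  exact cert12_G2.schur_trivial_of_lift F fdG2_ChkSt uniG2 fdG2_ChkUni
    (fun σ hs hc => cert12_G2.torus_lift F fdG2_ChkSt ztG2 fdG2_ChkZS fdG2_ChkGS (g : F) (Units.ne_zero g)
      (hpow 2 (by norm_num) (by norm_num)) (hpow 3 (by norm_num) (by norm_num)) σ hs hc)

end Cfsg.Agent.S2100
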