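import Cfsg.Statements.S2103
import Cfsg.Agent.Lib.H29.ChevCert13
import Cfsg.Agent.Lib.H29.ChevStChkAll
import Cfsg.Agent.Lib.H29.ChevStN
import Cfsg.Agent.Lib.H29.ChevTL4
import Cfsg.Agent.Lib.H29.ChevTL9
import Cfsg.Agent.Lib.H29.ChevTLF4
import Cfsg.Agent.Lib.H29.ChevTLF4q

set_option autoImplicit false
open Cfsg

namespace Cfsg.Agent.S2103

/-- Schur multipliers of the Chevalley groups of type F₄: over a finite field with more than 2 elements the Schur multiplier of F₄(q) is trivial (here the Schur multiplier is described through stem extensions, as in the definitions); q = 2 is exceptional. -/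
theorem result {F : Type*} [Field F] [Fintype F] (hF : 3 ≤ Fintype.card F) : Cfsg.HasCyclicSchurMultiplier ↥(Cfsg.Lie.chevF4.group F) 1 := by
  open Cfsg.Agent.Lib.H29.Chev in
  -- a generator of the multiplicative group, of order `q - 1`
  obtain ⟨g, hg⟩ := IsCyclic.exists_generator (α := Fˣ)
  have hord : orderOf g = Fintype.card F - 1 := by
    classical
    rw [orderOf_eq_card_of_forall_mem_zpowers hg, Nat.card_eq_fintype_card, Fintype.card_units]
  have hzpow : ∀ m : ℤ, ((g : Fˣ) : F) ^ m = 1 ↔ m % ((Fintype.card F - 1 : ℕ) : ℤ) = 0 := by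
    intro m
    rw [← hord, ← Units.val_zpow_eq_zpow_val, Units.val_eq_one, ← Int.dvd_iff_emod_eq_zero]
    exact orderOf_dvd_iff_zpow_eq_one.symm
  apply cert12_F4.schur_trivial_of_lift F fdF4_ChkSt uniF4 fdF4_ChkUni
  intro Γ _ σ hs hc
  rcases Nat.lt_or_ge (Fintype.card F) 5 with h5 | h5
  · rcases Nat.lt_or_ge (Fintype.card F) 4 with h4 | h4
    · -- `q = 3`: an element of order 2, and `2 ≠ 0`
      have hq : Fintype.card F = 3 := by omega
      have h2 : (2 : F) ≠ 0 := by
        intro h
        have h1 : ((g : Fˣ) : F) ^ (1 : ℤ) = 1 ↔ (1 : ℤ) % ((Fintype.card F - 1 : ℕ) : ℤ) = 0 := hzpow 1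
        have h3 : ((g : Fˣ) : F) ^ (2 : ℤ) = 1 := (hzpow 2).mpr (by rw [hq]; norm_num)
        have h4 : ((g : Fˣ) : F) ≠ 1 := by
          intro h5
          have := h1.mp (by rw [h5]; simp)
          rw [hq] at this
          norm_num at this
        have h5 : (((g : Fˣ) : F) - 1) * (((g : Fˣ) : F) + 1) = 0 := by
          have : ((g : Fˣ) : F) ^ 2 = 1 := by exact_mod_cast h3
          linear_combination this
        rcases mul_eq_zero.mp h5 with h6 | h6
        · exact h4 (sub_eq_zero.mp h6)
        · have h7 : ((g : Fˣ) : F) = 1 := by linear_combination h6 - h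
          exact h4 h7
      exact cert12_F4.torus_lift_d F fdF4_ChkSt ztF4q3 zdF4q3 2 true (fun _ => h2) fdF4_ChkPair_q3 fdF4_gs_q3
        (fun r hr => by
          obtain ⟨c1, c2, c3, c4, c5, c6, c7, c8, c9, c10, c11, c12⟩ := fdF4_de_q3 r hr
          refine ⟨c1, c2, c3, c4, c5, c6, c7, c8, c9, ?_, c11, c12⟩
          rcases c10 with h | h | ⟨h, _⟩
          · exact Or.inl h
          · exact Or.inr (Or.inl h)
          · exact absurd h (by simp))
        (g : F) (Units.ne_zero g) (fun m => by have := hzpow m; rw [hq] at this; exact this) σ hs hc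
    · -- `q = 4`: an element of order 3
      have hq : Fintype.card F = 4 := by omega
      exact cert12_F4.torus_lift_d F fdF4_ChkSt ztF4 zdF4q3 3 false (fun h => absurd h (by simp))
        (fun r hr s hs' h1 h2 => Or.inl (FD.chkZSd_of_chkZS 3 (fdF4_ChkZS r hr s hs' h1 h2)
          (by rcases fdF4_gam_q4 r hr s hs' with h | h | h
              · exact h
              · exact absurd h h1
              · exact absurd h h2)))
        fdF4_gs_q4 fdF4_de_q3
        (g : F) (Units.ne_zero g) (fun m => by have := hzpow m; rw [hq] at this; exact this) σ hs hc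
  · have hpow : ∀ k : ℕ, k ≠ 0 → k < 4 → ((g : Fˣ) : F) ^ k ≠ 1 := by
      intro k hk0 hk h
      have h1 : g ^ k = 1 := by
        apply Units.ext
        rw [Units.val_pow_eq_pow_val, h, Units.val_one]
      exact pow_ne_one_of_lt_orderOf hk0 (by rw [hord]; omega) h1
    exact cert12_F4.torus_lift F fdF4_ChkSt ztF4 fdF4_ChkZS fdF4_ChkGS (g : F) (Units.ne_zero g)
      (hpow 2 (by norm_num) (by norm_num)) (hpow 3 (by norm_num) (by norm_num)) σ hs hc

end Cfsg.Agent.S2103
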