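import Cfsg.Statements.S2106
import Cfsg.Agent.Lib.H29.ChevCert13
import Cfsg.Agent.Lib.H29.ChevStChkAll
import Cfsg.Agent.Lib.H29.ChevSmithData
import Cfsg.Agent.Lib.H29.ChevCen2
import Cfsg.Agent.Lib.H29.ChevCE7
import Cfsg.Agent.Lib.H29.ChevCE4E7
import Cfsg.Agent.Lib.H29.ChevChkPerfE7
import Cfsg.Agent.Lib.H29.ChevEmbE7E8

set_option autoImplicit false
open Cfsg

namespace Cfsg.Agent.S2106

/-- Schur multipliers of the (adjoint, simple) Chevalley groups of type E₇: over a field with q elements the Schur multiplier is cyclic of order gcd(2, q − 1) (here the Schur multiplier is described through stem extensions, as in the definitions). -/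
theorem result {F : Type*} [Field F] [Fintype F] {q : ℕ} (hF : Fintype.card F = q) : Cfsg.HasCyclicSchurMultiplier ↥(Cfsg.Lie.chevE7.group F) (Nat.gcd 2 (q - 1)) := by
  open Cfsg.Agent.Lib.H29.Chev in
  have hK : Nat.card F = q := by rw [Nat.card_eq_fintype_card, hF]
  have h := cert12_E7.card_center_cover cert12_E8 F fdE7_ChkSt ioE7E8 fdE7E8_ChkEmb fdE7E8_ChkEmbS
    uniLE7E8 fdE7E8_ChkUniL fsE7 fdE7_ChkSmith
  have h2 : Nat.card (Subgroup.center (Cfsg.Lie.chevE7.SteinbergCover F)) = Nat.gcd 2 (q - 1) := by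
    rw [h, hK]
    show ∏ i ∈ Finset.range 7, (q - 1).gcd (fsE7.d.getD i 0) = Nat.gcd 2 (q - 1)
    simp [Finset.prod_range_succ, fsE7, Nat.gcd_comm]
  have hn : (Nat.gcd 2 (q - 1)).Prime ∨ Nat.gcd 2 (q - 1) = 1 := by
    rcases (Nat.dvd_prime Nat.prime_two).mp (Nat.gcd_dvd_left 2 (q - 1)) with h1 | h1
    · exact Or.inr h1
    · left; rw [h1]; exact Nat.prime_two
  exact cert12_E7.schur_cyclic F fdE7_ChkSt fdE7_ChkCE fdE7_ChkPerf fdE7_allK1 _ hn h2

end Cfsg.Agent.S2106
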