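import Mathlib
import Cfsg.Statements.S2111
import Cfsg.Agent.Lib.H2.SzMult4
import Cfsg.Agent.Lib.H2.SzB3
-- import your own Cfsg.Agent.* helpers here

set_option autoImplicit false
open Cfsg

namespace Cfsg.Agent.S2111

/-- Schur multipliers of the Suzuki groups: for q = 2^(2m+1) with m ≥ 2 the Schur multiplier of Sz(q) is trivial (here the Schur multiplier is described through stem extensions, as in the definitions); q = 8 is exceptional. -/
theorem result {F : Type*} [Field F] [Fintype F] {m : ℕ} (hm : 2 ≤ m) (hF : Fintype.card F = 2 ^ (2 * m + 1)) : Cfsg.HasCyclicSchurMultiplier ↥(Cfsg.Lie.Sz F (2 ^ (m + 1))) 1 := by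
  have h := Cfsg.Agent.Lib.H2.Sz.fld_of_card hF
  have hm1 : 1 ≤ m := by omega
  let e := Cfsg.Agent.Lib.H2.SzB.bridge h hm1 hF
  refine ⟨⟨↥(Cfsg.Lie.Sz F (2 ^ (m + 1))), inferInstance, inferInstance,
    MonoidHom.id _, ⟨fun x => ⟨x, rfl⟩, ?_, ?_⟩, ?_⟩, ?_⟩
  · rw [MonoidHom.ker_id]
    exact bot_le
  · rw [MonoidHom.ker_id]
    exact bot_le
  · have hk : (MonoidHom.id ↥(Cfsg.Lie.Sz F (2 ^ (m + 1)))).ker = ⊥ := MonoidHom.ker_id
    exact ⟨(MulEquiv.subgroupCongr hk).trans MulEquiv.ofUnique⟩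
  · intro Γ _ _ σ hst
    obtain ⟨hsurj, hcen, hcomm⟩ := hst
    let σ' : Γ →* Cfsg.Sz F m := e.symm.toMonoidHom.comp σ
    have hker : σ'.ker = σ.ker := by
      ext x
      simp [σ', MonoidHom.mem_ker]
    have hσ' : Function.Surjective σ' := e.symm.surjective.comp hsurj
    have hbot := Cfsg.Agent.Lib.H2.Sz.stem_ker_eq_bot hm hF σ' hσ' (hker ▸ hcen) (hker ▸ hcomm)
    rw [hker] at hbot
    refine ⟨1, fun x => ⟨1, ?_⟩⟩
    have hx : (x : Γ) ∈ σ.ker := x.2
    have hx1 : (x : Γ) = 1 := by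
      have hle : σ.ker ≤ ⊥ := le_of_eq hbot
      exact Subgroup.mem_bot.1 (hle hx)
    exact Subtype.ext hx1.symm

end Cfsg.Agent.S2111
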