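import Mathlib
import Cfsg.Statements.S2112
import Cfsg.Agent.Lib.H16.SZ8EXIST
import Cfsg.Agent.Lib.H16.SZ8UPPER
import Cfsg.Agent.Lib.H2.SzB3
import Cfsg.Agent.Lib.H18.SchurTransport
-- import your own Cfsg.Agent.* helpers here

set_option autoImplicit false
open Cfsg

namespace Cfsg.Agent.S2112

open Cfsg.Agent.Lib.H16.SZ8

universe u

/-- the statement in helper2's model of the Suzuki group -/
theorem main {F : Type u} [Field F] [Fintype F] (hF : Fintype.card F = 2 ^ (2 * 1 + 1)) :
    Cfsg.HasSchurMultiplier ↥(Cfsg.Sz F 1) (Multiplicative (ZMod 2 × ZMod 2)) := by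
  refine ⟨?_, ?_⟩
  · obtain ⟨Γ, i1, i2, σ, hst, hcard⟩ := exists_stem_card_gt_two hF
    refine ⟨Γ, i1, i2, σ, hst, ?_⟩
    obtain ⟨π, hπ⟩ := exists_surjective_ker hF σ hst
    have hdvd : Nat.card σ.ker ∣ Nat.card (Multiplicative (ZMod 2 × ZMod 2)) :=
      Subgroup.card_dvd_of_surjective π hπ
    have h4 : Nat.card (Multiplicative (ZMod 2 × ZMod 2)) = 4 := by
      rw [Nat.card_eq_fintype_card]
      rfl
    rw [h4] at hdvd
    have hle : Nat.card σ.ker ≤ 4 := Nat.le_of_dvd (by norm_num) hdvd
    have heq : Nat.card σ.ker = 4 := by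
      interval_cases hk : Nat.card σ.ker
      · omega
      · rfl
    have hbij : Function.Bijective π :=
      hπ.bijective_of_nat_card_le (by rw [h4, heq])
    exact ⟨(MulEquiv.ofBijective π hbij).symm⟩
  · intro Γ _ _ σ hst
    exact exists_surjective_ker hF σ hst

/-- Exceptional Schur multiplier: the Suzuki group Sz(8), built over the field with 8 elements using the map x ↦ x⁴, has Schur multiplier a four-group, the product of two cyclic groups of order 2 (here the Schur multiplier is described through stem extensions, as in the definitions). -/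
theorem result {F : Type*} [Field F] [Fintype F] (hF : Fintype.card F = 8) : Cfsg.HasSchurMultiplier ↥(Cfsg.Lie.Sz F 4) (Multiplicative (ZMod 2 × ZMod 2)) := by
  have hF' : Fintype.card F = 2 ^ (2 * 1 + 1) := by rw [hF]; norm_num
  have h := Cfsg.Agent.Lib.H2.Sz.fld_of_card hF'
  exact Cfsg.Agent.Lib.H18.SchurTransport.hasSchurMultiplier_of_group_mulEquiv
    (Cfsg.Agent.Lib.H2.SzB.bridge h le_rfl hF') (main hF')

end Cfsg.Agent.S2112
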