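import Cfsg.Statements.S2116
import Cfsg.Agent.Lib.H18.SchurSix
import Cfsg.Agent.Lib.H18.StemSylow
import Cfsg.Agent.Lib.H18.TripleCover
import Cfsg.Agent.Lib.H18.SpinCover2

set_option autoImplicit false
open Cfsg

namespace Cfsg.Agent.S2116

open Cfsg.Agent.Lib.H18

set_option maxRecDepth 100000 in
theorem dihedral_six : ∃ r s : alternatingGroup (Fin (4 + 2)),
    r ^ 4 = 1 ∧ r ^ 2 ≠ 1 ∧ s ^ 2 = 1 ∧ s * r * s⁻¹ = r⁻¹ :=
  ⟨⟨Equiv.swap 0 1 * Equiv.swap 1 2 * Equiv.swap 2 3 * Equiv.swap 4 5,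
      Equiv.Perm.mem_alternatingGroup.mpr (by decide)⟩,
    ⟨Equiv.swap 1 3 * Equiv.swap 4 5, Equiv.Perm.mem_alternatingGroup.mpr (by decide)⟩,
    by decide, by decide, by decide, by decide⟩

set_option maxRecDepth 100000 in
theorem dihedral_seven : ∃ r s : alternatingGroup (Fin (5 + 2)),
    r ^ 4 = 1 ∧ r ^ 2 ≠ 1 ∧ s ^ 2 = 1 ∧ s * r * s⁻¹ = r⁻¹ :=
  ⟨⟨Equiv.swap 0 1 * Equiv.swap 1 2 * Equiv.swap 2 3 * Equiv.swap 4 5,
      Equiv.Perm.mem_alternatingGroup.mpr (by decide)⟩,
    ⟨Equiv.swap 1 3 * Equiv.swap 4 5, Equiv.Perm.mem_alternatingGroup.mpr (by decide)⟩,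
    by decide, by decide, by decide, by decide⟩

theorem dihedral (m : ℕ) (hm : m = 4 ∨ m = 5) : ∃ r s : alternatingGroup (Fin (m + 2)),
    r ^ 4 = 1 ∧ r ^ 2 ≠ 1 ∧ s ^ 2 = 1 ∧ s * r * s⁻¹ = r⁻¹ := by
  rcases hm with rfl | rfl
  · exact dihedral_six
  · exact dihedral_seven

theorem card_alt (m : ℕ) (hm : m = 4 ∨ m = 5) :
    Nat.card (alternatingGroup (Fin (m + 2))) = 360 ∨
      Nat.card (alternatingGroup (Fin (m + 2))) = 2520 := by
  haveI : Nontrivial (Fin (m + 2)) := ⟨⟨0, 1, AltStem.zero_ne_one'⟩⟩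
  have h2 := two_mul_nat_card_alternatingGroup (α := Fin (m + 2))
  rw [Nat.card_perm, Nat.card_fin] at h2
  rcases hm with rfl | rfl
  · left
    have : (4 + 2).factorial = 720 := by decide
    omega
  · right
    have : (5 + 2).factorial = 5040 := by decide
    omega

theorem not_sq_dvd (N : ℕ) (hN : N = 360 ∨ N = 2520) (p : ℕ) (hp : p.Prime) (h2 : p ≠ 2)
    (h3 : p ≠ 3) : ¬ p ^ 2 ∣ N := by
  intro hd
  have hle : p ^ 2 ≤ 2520 := by
    rcases hN with rfl | rfl
    · exact le_trans (Nat.le_of_dvd (by norm_num) hd) (by norm_num)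
    · exact Nat.le_of_dvd (by norm_num) hd
  have hp51 : p < 51 := by nlinarith
  rcases hN with rfl | rfl
  · interval_cases p <;> first | omega | (exfalso; revert hp; decide)
  · interval_cases p <;> first | omega | (exfalso; revert hp; decide)

theorem main (m : ℕ) (hm : m = 4 ∨ m = 5) :
    Cfsg.HasCyclicSchurMultiplier (alternatingGroup (Fin (m + 2))) 6 := by
  have hm4 : 4 ≤ m := by omega
  have hm5 : m ≤ 5 := by omega
  have hcard := card_alt m hm
  apply SchurSix.hasCyclicSchurMultiplier_six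
  · intro Γ _ _ σ hσ
    obtain ⟨r, s, hr4, hr2, hs2, hsr⟩ := dihedral m hm
    refine StemSylow.card_ker_dvd_six hσ.1 hσ.2.1 hσ.2.2 r s hr4 hr2 hs2 hsr ?_ ?_ ?_
    · rcases hcard with h | h <;> rw [h] <;> decide
    · rcases hcard with h | h <;> rw [h] <;> decide
    · intro p hp h2 h3
      exact not_sq_dvd _ hcard p hp h2 h3
  · refine ⟨SpinCover.P m, inferInstance, SpinCover.finite_P, SpinCover.φ,
      ⟨SpinCover.φ_surjective, ?_, ?_⟩, ?_⟩
    · intro g hg
      rcases SpinCover.ker_φ (MonoidHom.mem_ker.mp hg) with h | h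
      · rw [h]; exact Subgroup.one_mem _
      · rw [h]; exact SpinCover.z_mem_center
    · intro g hg
      rcases SpinCover.ker_φ (MonoidHom.mem_ker.mp hg) with h | h
      · rw [h]; exact Subgroup.one_mem _
      · rw [h]; exact SpinCover.z_mem_commutator (by omega)
    · haveI := SpinCover.finite_P (m := m)
      have hz : (⟨SpinCover.z, MonoidHom.mem_ker.mpr SpinCover.φ_z⟩ :
          (SpinCover.φ : SpinCover.P m →* _).ker) ^ 2 = 1 :=
        Subtype.ext (by simpa using SpinCover.z_sq (m := m))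
      have hz1 : (⟨SpinCover.z, MonoidHom.mem_ker.mpr SpinCover.φ_z⟩ :
          (SpinCover.φ : SpinCover.P m →* _).ker) ≠ 1 := by
        intro h
        exact SpinCover.z_ne_one (congrArg Subtype.val h)
      haveI : Fact (Nat.Prime 2) := ⟨Nat.prime_two⟩
      have hd := orderOf_dvd_natCard (⟨SpinCover.z, MonoidHom.mem_ker.mpr SpinCover.φ_z⟩ :
          (SpinCover.φ : SpinCover.P m →* _).ker)
      rwa [orderOf_eq_prime hz hz1] at hd
  · exact ⟨TripleCover.P m, inferInstance, TripleCover.finite_P, TripleCover.φ,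
      TripleCover.isStem_φ hm4, by rw [TripleCover.card_ker_φ hm5]⟩

/-- Exceptional Schur multipliers of the alternating groups: for n = 6 and n = 7 the Schur multiplier of the alternating group of degree n is cyclic of order 6 (here the Schur multiplier is described through stem extensions, as in the definitions). -/
theorem result (n : ℕ) (hn : n = 6 ∨ n = 7) : Cfsg.HasCyclicSchurMultiplier (alternatingGroup (Fin n)) 6 := by
  rcases hn with rfl | rfl
  · exact main 4 (Or.inl rfl)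
  · exact main 5 (Or.inr rfl)

end Cfsg.Agent.S2116
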