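import Cfsg.Statements.S2118
import Cfsg.Agent.S2116
import Cfsg.Agent.Lib.H18.SL2Nine
import Cfsg.Agent.Lib.H18.StemCompose
import Cfsg.Agent.Lib.H18.SchurPrime
import Cfsg.Agent.Lib.H18.SchurTransport

set_option autoImplicit false
open Cfsg

namespace Cfsg.Agent.S2118

open Cfsg.Agent.Lib.H18

/-- Stem kernels of the alternating group of degree 6 have order dividing 6. -/
theorem card_ker_dvd_six_alt {Γ : Type*} [Group Γ] [Finite Γ]
    (σ : Γ →* alternatingGroup (Fin (4 + 2))) (hσ : Cfsg.IsStemExtension σ) :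
    Nat.card σ.ker ∣ 6 := by
  have hcard := Cfsg.Agent.S2116.card_alt 4 (Or.inl rfl)
  obtain ⟨r, s, hr4, hr2, hs2, hsr⟩ := Cfsg.Agent.S2116.dihedral 4 (Or.inl rfl)
  refine StemSylow.card_ker_dvd_six hσ.1 hσ.2.1 hσ.2.2 r s hr4 hr2 hs2 hsr ?_ ?_ ?_
  · rcases hcard with h | h <;> rw [h] <;> decide
  · rcases hcard with h | h <;> rw [h] <;> decide
  · intro p hp h2 h3
    exact Cfsg.Agent.S2116.not_sq_dvd _ hcard p hp h2 h3

theorem alt_perfect : commutator (alternatingGroup (Fin (4 + 2))) = ⊤ :=
  commutator_alternatingGroup_eq_top (by rw [Nat.card_fin]; norm_num)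

theorem ker_φ2_le_center :
    (SpinCover.φ : SpinCover.P 4 →* _).ker ≤ Subgroup.center (SpinCover.P 4) := by
  intro g hg
  rcases SpinCover.ker_φ (MonoidHom.mem_ker.mp hg) with h | h
  · rw [h]; exact Subgroup.one_mem _
  · rw [h]; exact SpinCover.z_mem_center

theorem ker_φ2_le_commutator :
    (SpinCover.φ : SpinCover.P 4 →* _).ker ≤ commutator (SpinCover.P 4) := by
  intro g hg
  rcases SpinCover.ker_φ (MonoidHom.mem_ker.mp hg) with h | h
  · rw [h]; exact Subgroup.one_mem _
  · rw [h]; exact SpinCover.z_mem_commutator (by norm_num)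

theorem P2_perfect : commutator (SpinCover.P 4) = ⊤ :=
  StemCompose.commutator_eq_top_of_stem SpinCover.φ SpinCover.φ_surjective ker_φ2_le_commutator
    alt_perfect

theorem P3_perfect : commutator (TripleCover.P 4) = ⊤ :=
  StemCompose.commutator_eq_top_of_stem TripleCover.φ TripleCover.φ_surjective
    (TripleCover.isStem_φ (le_refl 4)).2.2 alt_perfect

theorem two_dvd_card_ker_φ2 : 2 ∣ Nat.card (SpinCover.φ : SpinCover.P 4 →* _).ker := by
  haveI := SpinCover.finite_P (m := 4)
  have hz : (⟨SpinCover.z, MonoidHom.mem_ker.mpr SpinCover.φ_z⟩ :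
      (SpinCover.φ : SpinCover.P 4 →* _).ker) ^ 2 = 1 :=
    Subtype.ext (by simpa using SpinCover.z_sq (m := 4))
  have hz1 : (⟨SpinCover.z, MonoidHom.mem_ker.mpr SpinCover.φ_z⟩ :
      (SpinCover.φ : SpinCover.P 4 →* _).ker) ≠ 1 := by
    intro h
    exact SpinCover.z_ne_one (congrArg Subtype.val h)
  haveI : Fact (Nat.Prime 2) := ⟨Nat.prime_two⟩
  have hd := orderOf_dvd_natCard (⟨SpinCover.z, MonoidHom.mem_ker.mpr SpinCover.φ_z⟩ :
      (SpinCover.φ : SpinCover.P 4 →* _).ker)
  rwa [orderOf_eq_prime hz hz1] at hd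

/-- The Schur multiplier of the double cover of the alternating group of degree 6. -/
theorem schur_P2 : Cfsg.HasCyclicSchurMultiplier (SpinCover.P 4) 3 := by
  haveI := SpinCover.finite_P (m := 4)
  haveI := TripleCover.finite_P (m := 4)
  haveI : Fact (Nat.Prime 3) := ⟨Nat.prime_three⟩
  apply SchurPrime.hasCyclicSchurMultiplier_prime
  · intro E _ _ τ hτ
    have hσ := StemCompose.isStem_comp τ SpinCover.φ hτ SpinCover.φ_surjective ker_φ2_le_center
      P2_perfect
    have h6 := card_ker_dvd_six_alt _ hσ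
    rw [StemCompose.card_ker_comp τ SpinCover.φ hτ.1 SpinCover.φ_surjective] at h6
    have h2 : 2 * Nat.card τ.ker ∣ 2 * 3 :=
      dvd_trans (Nat.mul_dvd_mul_right two_dvd_card_ker_φ2 _) h6
    exact Nat.dvd_of_mul_dvd_mul_left (by norm_num) h2
  · refine ⟨StemCompose.pull (TripleCover.φ : TripleCover.P 4 →* _)
      (SpinCover.φ : SpinCover.P 4 →* _), inferInstance, inferInstance,
      StemCompose.pullSnd _ _, ?_, ?_⟩
    · apply StemCompose.isStem_pullSnd TripleCover.φ_surjective SpinCover.φ_surjective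
        (TripleCover.isStem_φ (le_refl 4)).2.1 P3_perfect P2_perfect 3 2 (by norm_num)
      · intro k hk
        rw [TripleCover.ker_φ] at hk
        obtain ⟨j, rfl⟩ := Subgroup.mem_zpowers_iff.mp hk
        rw [← zpow_natCast, ← zpow_mul, mul_comm, zpow_mul, zpow_natCast, TripleCover.z_cube,
          one_zpow]
      · intro k hk
        rcases SpinCover.ker_φ (MonoidHom.mem_ker.mp hk) with h | h
        · rw [h, one_pow]
        · rw [h, SpinCover.z_sq]
    · have := StemCompose.orderOf_dvd_card_ker_pullSnd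
        (φ₁ := (TripleCover.φ : TripleCover.P 4 →* _))
        (φ₂ := (SpinCover.φ : SpinCover.P 4 →* _)) TripleCover.z TripleCover.φ_z
      rwa [TripleCover.orderOf_z (by norm_num)] at this

/-- For the field with 9 elements, the special linear group SL₂ has Schur multiplier cyclic of order 3 (here the Schur multiplier is described through stem extensions, as in the definitions). -/
theorem result {F : Type*} [Field F] [Fintype F] (hF : Fintype.card F = 9) : Cfsg.HasCyclicSchurMultiplier (Matrix.SpecialLinearGroup (Fin 2) F) 3 := by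
  obtain ⟨e⟩ := SL2Nine.nonempty_mulEquiv hF
  haveI := SpinCover.finite_P (m := 4)
  exact SchurTransport.hasSchurMultiplier_of_group_mulEquiv e schur_P2

end Cfsg.Agent.S2118
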