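import Cfsg.Statements.S2132
import Cfsg.Agent.Lib.H27.McLInvB

set_option autoImplicit false
set_option linter.style.haveILetI false
open Cfsg

namespace Cfsg.Agent.S2132

open Cfsg MulAction Cfsg.Agent.Lib.H28 Cfsg.Agent.Lib.H27 Cfsg.Agent.Lib.H27.Eng Cfsg.Agent.Lib.H27.McLInv
open McLData McL2025Data

/-- The McLaughlin group as a subgroup of `Co0`. -/
abbrev MC : Subgroup Co0 := stabilizer Co0 Spor.leechV ⊓ stabilizer Co0 Spor.leechU

/-- The third side of the triangle. -/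
def WP : leechLattice := -(Spor.leechU + Spor.leechV)

def uL : V := [4, 0, 0, 0, 0, 0, 0, 0, 0, 0, 0, 0, 0, 0, 0, 0, 0, 0, 0, 0, 0, 0, 0, 4]
def wpL : V := [-3, 1, 1, 1, 1, 1, 1, 1, 1, 1, 1, 1, 1, 1, 1, 1, 1, 1, 1, 1, 1, 1, 1, 1]

theorem toFn_uL : toFn uL = Spor.vecU := by
  funext p
  revert p
  decide +kernel

theorem toFn_wpL : toFn wpL = (WP : GolayPt → ℤ) := by
  funext p
  show _ = -(Spor.vecU p + Spor.vecV p)
  revert p
  decide +kernel

theorem sqNorm_U : sqNorm ((Spor.leechU : leechLattice) : GolayPt → ℤ) = 32 := by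
  show sqNorm Spor.vecU = 32
  decide +kernel

theorem sqNorm_WP : sqNorm ((WP : leechLattice) : GolayPt → ℤ) = 32 := by
  rw [← toFn_wpL, ← sqNorm_spec]
  decide +kernel

theorem dot_U_WP : dotInt ((Spor.leechU : leechLattice) : GolayPt → ℤ) ((WP : leechLattice) : GolayPt → ℤ) = -8 := by
  rw [← toFn_wpL]
  show dotInt Spor.vecU _ = -8
  rw [← toFn_uL, ← dotL_spec]
  decide +kernel

theorem MC_eq : MC = stabilizer Co0 Spor.leechU ⊓ stabilizer Co0 WP := by
  unfold WP
  rw [← stab_pair48_eq, inf_comm]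

theorem smul_V {g : Co0} (hg : g ∈ MC) : g • Spor.leechV = Spor.leechV := mem_stabilizer_iff.1 hg.1

theorem smul_U {g : Co0} (hg : g ∈ MC) : g • Spor.leechU = Spor.leechU := mem_stabilizer_iff.1 hg.2

/-- The group `MC` is the McLaughlin group of the Prelude. -/
def mcEquiv : ↥MC ≃* ↥Spor.McL where
  toFun g := ⟨((g : Co0) : Equiv.Perm leechLattice),
    ⟨⟨(g : Co0).2, mem_stabilizer_iff.2 (smul_V g.2)⟩, mem_stabilizer_iff.2 (smul_U g.2)⟩⟩
  invFun h := ⟨⟨h.1, h.2.1.1⟩, ⟨mem_stabilizer_iff.2 (mem_stabilizer_iff.1 h.2.1.2),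
    mem_stabilizer_iff.2 (mem_stabilizer_iff.1 h.2.2)⟩⟩
  left_inv := fun _ => rfl
  right_inv := fun _ => rfl
  map_mul' := fun _ _ => rfl

theorem invStmt_McL : InvStmt ↥Spor.McL := by
  obtain ⟨h, h1, h2⟩ := exists_std_pair8 Spor.leechU WP sqNorm_U sqNorm_WP dot_U_WP
  have e := conjStabEquiv₂ h Spor.leechU WP
  rw [h1, h2] at e
  have e2 : ↥KM ≃* ↥MC := by
    rw [MC_eq]
    exact e.symm
  haveI : Finite ↥KM := inferInstance
  haveI : Finite ↥MC := Finite.of_equiv _ e2.toEquiv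
  exact (invStmt_KM.congr e2).congr mcEquiv


/-- The McLaughlin group (as a two-vector stabiliser in the automorphism group of the rank-24 lattice) has a single conjugacy class of involutions, and the centraliser of an involution is a non-split double cover of the alternating group of degree 8. -/
theorem result : (∀ x y : ↥Cfsg.Spor.McL, orderOf x = 2 → orderOf y = 2 → IsConj x y) ∧ ∃ t : ↥Cfsg.Spor.McL, orderOf t = 2 ∧ Cfsg.IsNonsplitDoubleCover ↥(Subgroup.centralizer ({t} : Set ↥Cfsg.Spor.McL)) ↥(alternatingGroup (Fin 8)) := by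
  exact invStmt_McL

end Cfsg.Agent.S2132
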