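import Cfsg.Statements.S2149
import Cfsg.Agent.Lib.H27.U35P

set_option autoImplicit false
open Cfsg

namespace Cfsg.Agent.S2149

open Cfsg.Agent.Lib.H27.U35 Cfsg.Agent.Lib.H27.PermW Cfsg.Agent.Lib.H2.Spec

theorem center_map_mulEquiv {A B : Type*} [Group A] [Group B] (e : A ≃* B) :
    (Subgroup.center A).map e.toMonoidHom = Subgroup.center B := by
  ext x
  rw [Subgroup.mem_map, Subgroup.mem_center_iff]
  constructor
  · rintro ⟨a, ha, rfl⟩ g
    obtain ⟨b, rfl⟩ := e.surjective g
    have := Subgroup.mem_center_iff.1 ha b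
    show e b * e a = e a * e b
    rw [← map_mul, ← map_mul, this]
  · intro hx
    refine ⟨e.symm x, ?_, e.apply_symm_apply x⟩
    rw [Subgroup.mem_center_iff]
    intro g
    apply e.injective
    rw [map_mul, map_mul, e.apply_symm_apply]
    exact hx (e g)

/-- transport of the subgroup bounds along an isomorphism with a permutation group -/
theorem index_of_iso {P : Type*} [Group P] {G : Subgroup (Equiv.Perm (Fin 126))} (φ : P ≃* G)
    (hG : Nat.card G = 126000)
    (h1 : ∀ K : Subgroup (Equiv.Perm (Fin 126)), K ≤ G → K ≠ G → Nat.card K ≤ 2520)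
    (h2 : ∃ K : Subgroup (Equiv.Perm (Fin 126)), K ≤ G ∧ Nat.card K = 2520) :
    (∀ H : Subgroup P, H ≠ ⊤ → 50 ≤ H.index) ∧ (∃ H : Subgroup P, H.index = 50) := by
  have hP : Nat.card P = 126000 := by rw [Nat.card_congr φ.toEquiv, hG]
  have hfin : Finite P := Nat.finite_of_card_ne_zero (by rw [hP]; norm_num)
  constructor
  · intro H hH
    set K : Subgroup (Equiv.Perm (Fin 126)) := (H.map φ.toMonoidHom).map G.subtype with hK
    have hKG : K ≤ G := by
      rw [hK]
      exact Subgroup.map_subtype_le _
    have hcK : Nat.card K = Nat.card H := by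
      rw [hK, Subgroup.card_map_of_injective G.subtype_injective,
        Subgroup.card_map_of_injective φ.injective]
    have hne : K ≠ G := by
      intro h
      apply hH
      apply Subgroup.eq_top_of_card_eq
      rw [← hcK, h, hG, hP]
    have hle := h1 K hKG hne
    rw [hcK] at hle
    have hmul := H.card_mul_index
    rw [hP] at hmul
    by_contra hcon
    push Not at hcon
    have : Nat.card H * H.index ≤ 2520 * 49 := Nat.mul_le_mul hle (by omega)
    omega
  · obtain ⟨K, hKG, hcK⟩ := h2
    refine ⟨(K.subgroupOf G).map φ.symm.toMonoidHom, ?_⟩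
    have hc : Nat.card ((K.subgroupOf G).map φ.symm.toMonoidHom) = 2520 := by
      rw [Subgroup.card_map_of_injective φ.symm.injective,
        Nat.card_congr (Subgroup.subgroupOfEquivOfLe hKG).toEquiv, hcK]
    have hmul := ((K.subgroupOf G).map φ.symm.toMonoidHom).card_mul_index
    rw [hc, hP] at hmul
    omega

/-- Minimal index of a proper subgroup of PSU₃(5), realised over the field with 25 elements: every proper subgroup has index at least 50, and that index is attained. -/
theorem result {F : Type*} [Field F] [Fintype F] (hF : Fintype.card F = 25) : (∀ H : Subgroup (Cfsg.PSU 3 F 5), H ≠ ⊤ → 50 ≤ H.index) ∧ (∃ H : Subgroup (Cfsg.PSU 3 F 5), H.index = 50) := by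
  have e : F ≃+* K25 := FiniteField.ringEquivOfCardEq (hF.trans card_K25.symm)
  have E : Cfsg.SU 3 F 5 ≃* Cfsg.SU 3 K25 5 := suEquiv e 3 5
  have E' : Cfsg.PSU 3 F 5 ≃* Cfsg.PSU 3 K25 5 :=
    QuotientGroup.congr _ _ E (center_map_mulEquiv E)
  exact index_of_iso (E'.trans isoG) card_G (fun K hK hne => card_le_of_ne hK hne) exists_card_eq

end Cfsg.Agent.S2149
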