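import Cfsg.Statements.S2155
import Cfsg.Agent.Lib.H29.ChevPJ4
import Cfsg.Agent.Lib.H29.ChevPJ5

set_option autoImplicit false
open Cfsg

namespace Cfsg.Agent.S2155

/-- In a Chevalley group of type G₂, B₂, D₄, F₄, E₆, E₇ or E₈ over a finite field of characteristic p (for types G₂ and B₂ the field is assumed to have at least 3 elements, so that the group is simple), the generalized Fitting subgroup of every proper standard parabolic subgroup P_J is a p-group (P_J is p-constrained with trivial largest normal subgroup of order prime to p). -/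
theorem result {F : Type*} [Field F] [Fintype F] (p : ℕ) [Fact p.Prime] [CharP F p] (D : Cfsg.Lie.ChevalleyDatum) (hD : D ∈ [Cfsg.Lie.chevG2, Cfsg.Lie.chevB2, Cfsg.Lie.chevD4, Cfsg.Lie.chevF4, Cfsg.Lie.chevE6, Cfsg.Lie.chevE7, Cfsg.Lie.chevE8]) (hq : (D = Cfsg.Lie.chevG2 ∨ D = Cfsg.Lie.chevB2) → 3 ≤ Fintype.card F) (J : Set ℕ) (hJ : ∃ i, i < D.rank ∧ i ∉ J) : IsPGroup p ↥(Cfsg.generalizedFittingSubgroup ↥(D.parabolicSubgroup F J)) := by
  open Cfsg.Agent.Lib.H29.Chev in
  simp only [List.mem_cons, List.not_mem_nil, or_false] at hD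
  rcases hD with rfl | rfl | rfl | rfl | rfl | rfl | rfl
  · exact cert12_G2.fstar_parabolic p chkPJ1_G2 chkPJ2_G2 J hJ
  · exact cert12_B2.fstar_parabolic p chkPJ1_B2 chkPJ2_B2 J hJ
  · exact cert12_D4.fstar_parabolic p chkPJ1_D4 chkPJ2_D4 J hJ
  · exact cert12_F4.fstar_parabolic p chkPJ1_F4 chkPJ2_F4 J hJ
  · exact cert12_E6.fstar_parabolic p chkPJ1_E6 chkPJ2_E6 J hJ
  · exact cert12_E7.fstar_parabolic p chkPJ1_E7 chkPJ2_E7 J hJ
  · exact cert12_E8.fstar_parabolic p chkPJ1_E8 chkPJ2_E8 J hJ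

end Cfsg.Agent.S2155
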