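import Cfsg.Statements.S2159
import Cfsg.Agent.Lib.H29.ChevOut15

set_option autoImplicit false
open Cfsg

namespace Cfsg.Agent.S2159

/-- Structure of the outer automorphism group of the Chevalley group `G` of type G₂, B₂, D₄, F₄, E₆, E₇ or E₈ over a finite field. Let `D̄` be the image in `Out(G)` of the subgroup generated by the diagonal automorphisms and `F̄` the image of the subgroup generated by the field automorphisms. Then `D̄` is a normal abelian subgroup of `Out(G)`, `F̄` is cyclic, `D̄F̄` is a normal subgroup, and the quotient of `Out(G)` by `D̄F̄` is trivial, of order 2, or non-abelian of order 6 (so isomorphic to the symmetric group on three letters): its index is 1 or 2, or it is 6 with the commutator subgroup of `Out(G)` not inside `D̄F̄`. -/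
theorem result {F : Type*} [Field F] [Finite F] (D : Cfsg.Lie.ChevalleyDatum) (hD : D ∈ [Cfsg.Lie.chevG2, Cfsg.Lie.chevB2, Cfsg.Lie.chevD4, Cfsg.Lie.chevF4, Cfsg.Lie.chevE6, Cfsg.Lie.chevE7, Cfsg.Lie.chevE8])
    (Dbar Fbar : Subgroup (Cfsg.Out ↥(D.group F)))
    (hDbar : Dbar = (Subgroup.closure {φ : MulAut ↥(D.group F) | D.IsDiagonalAut φ}).map (QuotientGroup.mk' (Cfsg.Inn ↥(D.group F))))
    (hFbar : Fbar = (Subgroup.closure {φ : MulAut ↥(D.group F) | D.IsFieldAut φ}).map (QuotientGroup.mk' (Cfsg.Inn ↥(D.group F)))) :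
    Dbar.Normal ∧ IsMulCommutative ↥Dbar ∧ IsCyclic ↥Fbar ∧ (Dbar ⊔ Fbar).Normal ∧
      ((Dbar ⊔ Fbar).index = 1 ∨ (Dbar ⊔ Fbar).index = 2 ∨
        ((Dbar ⊔ Fbar).index = 6 ∧ ¬ commutator (Cfsg.Out ↥(D.group F)) ≤ Dbar ⊔ Fbar)) := by
  obtain ⟨p, hp⟩ := CharP.exists F
  have hpp : Fact p.Prime := ⟨CharP.char_is_prime F p⟩
  simp only [List.mem_cons, List.mem_nil_iff, or_false] at hD
  open Cfsg.Agent.Lib.H29.Chev in
  rcases hD with rfl | rfl | rfl | rfl | rfl | rfl | rfl
  · by_cases hp3 : p = 3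
    · subst hp3
      exact cert12_G2.out_final 3 fdG2_chkOpp diagConj_G2 esG2 chkConn_G2 graphData_G2_3
        (Or.inr (Or.inl rfl)) Dbar Fbar hDbar hFbar
    · exact cert12_G2.out_final p fdG2_chkOpp diagConj_G2 esG2 chkConn_G2 (graphData_G2 p hp3)
        (Or.inl rfl) Dbar Fbar hDbar hFbar
  · by_cases hp2 : p = 2
    · subst hp2
      exact cert12_B2.out_final 2 fdB2_chkOpp diagConj_B2 esB2 chkConn_B2 graphData_B2_2
        (Or.inr (Or.inl rfl)) Dbar Fbar hDbar hFbar
    · exact cert12_B2.out_final p fdB2_chkOpp diagConj_B2 esB2 chkConn_B2 (graphData_B2 p hp2)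
        (Or.inl rfl) Dbar Fbar hDbar hFbar
  · exact cert12_D4.out_final p fdD4_chkOpp diagConj_D4 esD4 chkConn_D4 graphData_D4
      (Or.inr (Or.inr ⟨rfl, [0, 1, 3, 2], by decide, [2, 1, 0, 3], by decide, 0, by decide, by decide⟩))
      Dbar Fbar hDbar hFbar
  · by_cases hp2 : p = 2
    · subst hp2
      exact cert12_F4.out_final 2 fdF4_chkOpp diagConj_F4 esF4 chkConn_F4 graphData_F4_2
        (Or.inr (Or.inl rfl)) Dbar Fbar hDbar hFbar
    · exact cert12_F4.out_final p fdF4_chkOpp diagConj_F4 esF4 chkConn_F4 (graphData_F4 p hp2)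
        (Or.inl rfl) Dbar Fbar hDbar hFbar
  · exact cert12_E6.out_final p fdE6_chkOpp diagConj_E6 esE6 chkConn_E6 graphData_E6
      (Or.inr (Or.inl rfl)) Dbar Fbar hDbar hFbar
  · exact cert12_E7.out_final p fdE7_chkOpp diagConj_E7 esE7 chkConn_E7 graphData_E7
      (Or.inl rfl) Dbar Fbar hDbar hFbar
  · exact cert12_E8.out_final p fdE8_chkOpp diagConj_E8 esE8 chkConn_E8 graphData_E8
      (Or.inl rfl) Dbar Fbar hDbar hFbar

end Cfsg.Agent.S2159
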