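import Cfsg.Statements.S2162
-- import your own Cfsg.Agent.* helpers here

set_option autoImplicit false
open Cfsg

namespace Cfsg.Agent.S2162

open Matrix Module

/-- adapted basis for a square-zero endomorphism -/
theorem exists_adapted_basis {F V : Type*} [Field F] [AddCommGroup V] [Module F V]
    [FiniteDimensional F V] (f : V →ₗ[F] V) (hf : f ∘ₗ f = 0) (r : ℕ)
    (hr : Module.finrank F (LinearMap.range f) = r) :
    ∃ s : ℕ, r + (r + s) = Module.finrank F V ∧
    ∃ b : Module.Basis (Fin r ⊕ (Fin r ⊕ Fin s)) F V,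
      (∀ i, f (b (Sum.inl i)) = b (Sum.inr (Sum.inl i))) ∧ (∀ x, f (b (Sum.inr x)) = 0) := by
  classical
  set K := LinearMap.ker f with hK
  have hWK : LinearMap.range f ≤ K := by
    rintro _ ⟨x, rfl⟩
    rw [hK, LinearMap.mem_ker]
    exact LinearMap.congr_fun hf x
  set W' : Submodule F K := (LinearMap.range f).comap K.subtype with hW'
  have hW'r : Module.finrank F W' = r := by
    rw [← hr]
    exact LinearEquiv.finrank_eq (Submodule.comapSubtypeEquivOfLe hWK)
  obtain ⟨U', hU'⟩ := Submodule.exists_isCompl W'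
  set s := Module.finrank F U' with hs
  have hKdim : Module.finrank F K = r + s := by
    rw [← hW'r, hs]
    exact (Submodule.finrank_add_eq_of_isCompl hU').symm
  have hVdim : r + (r + s) = Module.finrank F V := by
    rw [← hKdim, ← hr]
    exact LinearMap.finrank_range_add_finrank_ker f
  refine ⟨s, hVdim, ?_⟩
  let bW' : Module.Basis (Fin r) F W' := Module.finBasisOfFinrankEq F W' hW'r
  let bU : Module.Basis (Fin s) F U' := Module.finBasisOfFinrankEq F U' rfl
  let bK : Module.Basis (Fin r ⊕ Fin s) F K :=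
    (bW'.prod bU).map (Submodule.prodEquivOfIsCompl W' U' hU')
  have hbK_inl : ∀ i, bK (Sum.inl i) = (bW' i : K) := by
    intro i
    simp [bK, Submodule.coe_prodEquivOfIsCompl']
  have hpre : ∀ i, ∃ v, f v = ((bK (Sum.inl i) : K) : V) := by
    intro i
    rw [hbK_inl]
    exact (bW' i).2
  choose v hv using hpre
  let fam : Fin r ⊕ (Fin r ⊕ Fin s) → V := Sum.elim v (fun x => ((bK x : K) : V))
  have hKind : LinearIndependent F (fun x => ((bK x : K) : V)) :=
    bK.linearIndependent.map' K.subtype (Submodule.ker_subtype K)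
  have hvind : LinearIndependent F v := by
    apply LinearIndependent.of_comp f
    have : f ∘ v = (fun x => ((bK x : K) : V)) ∘ Sum.inl := by
      funext i
      simp [hv]
    rw [this]
    exact hKind.comp _ Sum.inl_injective
  have hdisj : Disjoint (Submodule.span F (Set.range v))
      (Submodule.span F (Set.range (fun x => ((bK x : K) : V)))) := by
    rw [Submodule.disjoint_def]
    intro x hx1 hx2
    have hxK : x ∈ K := by
      have : Submodule.span F (Set.range (fun x => ((bK x : K) : V))) ≤ K := by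
        rw [Submodule.span_le]
        rintro _ ⟨y, rfl⟩
        exact (bK y).2
      exact this hx2
    obtain ⟨c, rfl⟩ := (Submodule.mem_span_range_iff_exists_fun F).1 hx1
    have h0 : f (∑ i, c i • v i) = 0 := hxK
    rw [map_sum] at h0
    simp only [map_smul, hv] at h0
    have hc : ∀ i, c i = 0 := by
      have hli := hKind.comp _ Sum.inl_injective
      rw [Fintype.linearIndependent_iff] at hli
      exact hli c h0
    simp [hc]
  have hind : LinearIndependent F fam := LinearIndependent.sum_type hvind hKind hdisj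
  have hcard : Fintype.card (Fin r ⊕ (Fin r ⊕ Fin s)) = Module.finrank F V := by
    simp [← hVdim]
  let b := basisOfLinearIndependentOfCardEqFinrank' fam hind hcard
  refine ⟨b, ?_, ?_⟩
  · intro i
    simp [b, fam, hv]
  · intro x
    simp only [b, coe_basisOfLinearIndependentOfCardEqFinrank', fam, Sum.elim_inr]
    exact (bK x).2


/-- canonical square-zero matrix -/
def canonE (F : Type*) [Field F] (r s : ℕ) :
    Matrix (Fin r ⊕ (Fin r ⊕ Fin s)) (Fin r ⊕ (Fin r ⊕ Fin s)) F :=
  Matrix.of fun j i => match i with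
    | Sum.inl i' => if j = Sum.inr (Sum.inl i') then 1 else 0
    | Sum.inr _ => 0

theorem canonE_inl (F : Type*) [Field F] (r s : ℕ) (j : Fin r ⊕ (Fin r ⊕ Fin s)) (i : Fin r) :
    canonE F r s j (Sum.inl i) = if j = Sum.inr (Sum.inl i) then 1 else 0 := rfl

theorem canonE_inr (F : Type*) [Field F] (r s : ℕ) (j : Fin r ⊕ (Fin r ⊕ Fin s)) (x : Fin r ⊕ Fin s) :
    canonE F r s j (Sum.inr x) = 0 := rfl

theorem exists_adapted_matrices {F : Type*} [Field F] {n : ℕ} (N : Matrix (Fin n) (Fin n) F)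
    (hN : N * N = 0) (r : ℕ) (hr : N.rank = r) :
    ∃ s : ℕ, r + (r + s) = n ∧ ∃ (P : Matrix (Fin n) (Fin r ⊕ (Fin r ⊕ Fin s)) F)
      (P' : Matrix (Fin r ⊕ (Fin r ⊕ Fin s)) (Fin n) F),
      P * P' = 1 ∧ P' * P = 1 ∧ N * P = P * canonE F r s := by
  classical
  have hf : N.mulVecLin ∘ₗ N.mulVecLin = 0 := by
    rw [← Matrix.mulVecLin_mul, hN]
    simp
  obtain ⟨s, hs, b, hb1, hb2⟩ := exists_adapted_basis N.mulVecLin hf r hr
  rw [Module.finrank_fin_fun] at hs
  refine ⟨s, hs, (Pi.basisFun F (Fin n)).toMatrix b, b.toMatrix (Pi.basisFun F (Fin n)),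
    Module.Basis.toMatrix_mul_toMatrix_flip _ _, Module.Basis.toMatrix_mul_toMatrix_flip _ _, ?_⟩
  ext x i
  have hL : (N * (Pi.basisFun F (Fin n)).toMatrix b) x i = (N.mulVecLin (b i)) x := by
    simp [Matrix.mul_apply, Matrix.mulVec, dotProduct, Module.Basis.toMatrix_apply]
  rw [hL]
  rcases i with i | y
  · rw [hb1, Matrix.mul_apply]
    simp only [canonE_inl, mul_ite, mul_one, mul_zero, Finset.sum_ite_eq', Finset.mem_univ, if_true]
    simp [Module.Basis.toMatrix_apply]
  · rw [hb2, Matrix.mul_apply]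
    simp [canonE_inr]

/-- weight vector scaling one Jordan block -/
def wvec (F : Type*) [Field F] (r s : ℕ) (i₀ : Fin r) (μ : F) : Fin r ⊕ (Fin r ⊕ Fin s) → F :=
  fun j => match j with
    | Sum.inl i => if i = i₀ then μ else 1
    | Sum.inr (Sum.inl i) => if i = i₀ then μ else 1
    | Sum.inr (Sum.inr _) => 1

theorem wvec_prod (F : Type*) [Field F] (r s : ℕ) (i₀ : Fin r) (μ : F) :
    ∏ j, wvec F r s i₀ μ j = μ * μ := by
  rw [Fintype.prod_sum_type, Fintype.prod_sum_type]
  simp [wvec]

theorem wvec_comm (F : Type*) [Field F] (r s : ℕ) (i₀ : Fin r) (μ : F) :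
    Matrix.diagonal (wvec F r s i₀ μ) * canonE F r s = canonE F r s * Matrix.diagonal (wvec F r s i₀ μ) := by
  ext j i
  rw [Matrix.diagonal_mul, Matrix.mul_diagonal]
  rcases i with i | x
  · rw [canonE_inl]
    by_cases h : j = Sum.inr (Sum.inl i)
    · subst h
      simp [wvec, mul_comm]
    · simp [h]
  · rw [canonE_inr]
    simp

theorem canonE_zero (F : Type*) [Field F] (s : ℕ) : canonE F 0 s = 0 := by
  ext j i
  rcases i with i | x
  · exact i.elim0
  · rfl

theorem exists_sl_conj {F : Type*} [Field F] [Fintype F] [CharP F 2] {n : ℕ}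
    (N M : Matrix (Fin n) (Fin n) F) (hN : N * N = 0) (hM : M * M = 0)
    (hrank : N.rank = M.rank) (hN0 : N ≠ 0) :
    ∃ g : Matrix (Fin n) (Fin n) F, g.det = 1 ∧ g * N = M * g := by
  classical
  obtain ⟨r, hr⟩ : ∃ r, N.rank = r := ⟨_, rfl⟩
  obtain ⟨s₁, hs₁, P, P', hPP', hP'P, hNP⟩ := exists_adapted_matrices N hN r hr
  obtain ⟨s₂, hs₂, Q, Q', hQQ', hQ'Q, hMQ⟩ := exists_adapted_matrices M hM r (hrank ▸ hr)
  have hs : s₁ = s₂ := by omega
  subst hs
  have hr1 : 0 < r := by
    rw [Nat.pos_iff_ne_zero]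
    intro h0
    subst h0
    apply hN0
    have h1 : N * P = 0 := by rw [hNP, canonE_zero, Matrix.mul_zero]
    calc N = N * (P * P') := by rw [hPP', Matrix.mul_one]
      _ = 0 := by rw [← Matrix.mul_assoc, h1, Matrix.zero_mul]
  have hg₀N : (Q * P') * N = M * (Q * P') := by
    calc (Q * P') * N = Q * P' * N * (P * P') := by rw [hPP', Matrix.mul_one]
      _ = Q * P' * (N * P) * P' := by simp only [Matrix.mul_assoc]
      _ = Q * (P' * P) * canonE F r s₁ * P' := by rw [hNP]; simp only [Matrix.mul_assoc]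
      _ = (Q * canonE F r s₁) * P' := by rw [hP'P, Matrix.mul_one]
      _ = M * (Q * P') := by rw [← hMQ, Matrix.mul_assoc]
  have hdet0 : (Q * P').det ≠ 0 := by
    have h1 : (Q * P') * (P * Q') = 1 := by
      calc (Q * P') * (P * Q') = Q * (P' * P) * Q' := by simp only [Matrix.mul_assoc]
        _ = 1 := by rw [hP'P, Matrix.mul_one, hQQ']
    have h2 := congrArg Matrix.det h1
    rw [Matrix.det_mul, Matrix.det_one] at h2
    intro h0
    rw [h0, zero_mul] at h2
    exact zero_ne_one h2
  obtain ⟨μ, hμ⟩ := isSquare_of_charTwo' ((Q * P').det)⁻¹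
  set D := Matrix.diagonal (wvec F r s₁ ⟨0, hr1⟩ μ) with hD
  have hDE : D * canonE F r s₁ = canonE F r s₁ * D := wvec_comm F r s₁ ⟨0, hr1⟩ μ
  have hzM : (Q * D * Q') * M = M * (Q * D * Q') := by
    have hM' : M = Q * canonE F r s₁ * Q' := by
      calc M = M * (Q * Q') := by rw [hQQ', Matrix.mul_one]
        _ = Q * canonE F r s₁ * Q' := by rw [← Matrix.mul_assoc, hMQ]
    calc (Q * D * Q') * M = Q * D * (Q' * Q) * canonE F r s₁ * Q' := by
          nth_rewrite 1 [hM']; simp only [Matrix.mul_assoc]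
      _ = Q * (D * canonE F r s₁) * Q' := by rw [hQ'Q, Matrix.mul_one]; simp only [Matrix.mul_assoc]
      _ = Q * (canonE F r s₁ * D) * Q' := by rw [hDE]
      _ = Q * canonE F r s₁ * (Q' * Q) * D * Q' := by rw [hQ'Q, Matrix.mul_one]; simp only [Matrix.mul_assoc]
      _ = M * (Q * D * Q') := by rw [hM']; simp only [Matrix.mul_assoc]
  have hdetz : (Q * D * Q').det = μ * μ := by
    rw [Matrix.det_conj_of_mul_eq_one hQQ' hQ'Q, hD, Matrix.det_diagonal, wvec_prod]
  refine ⟨(Q * D * Q') * (Q * P'), ?_, ?_⟩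
  · rw [Matrix.det_mul, hdetz, ← hμ, inv_mul_cancel₀ hdet0]
  · rw [Matrix.mul_assoc, hg₀N, ← Matrix.mul_assoc, hzM, Matrix.mul_assoc]

theorem invol_sub_one_sq {F : Type*} [Field F] [CharP F 2] {n : ℕ}
    (a : Matrix.SpecialLinearGroup (Fin n) F) (ha : orderOf a = 2) :
    ((a : Matrix (Fin n) (Fin n) F) - 1) * ((a : Matrix (Fin n) (Fin n) F) - 1) = 0 ∧
      (a : Matrix (Fin n) (Fin n) F) - 1 ≠ 0 := by
  have ha2 : a ^ 2 = 1 := by rw [← ha]; exact pow_orderOf_eq_one a
  have ha2' : (a : Matrix (Fin n) (Fin n) F) * (a : Matrix (Fin n) (Fin n) F) = 1 := by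
    have := congrArg (fun z : Matrix.SpecialLinearGroup (Fin n) F => (z : Matrix (Fin n) (Fin n) F)) ha2
    simpa [pow_two] using this
  have h2 : (2 : F) = 0 := CharTwo.two_eq_zero
  have hadd : ∀ X : Matrix (Fin n) (Fin n) F, X + X = 0 := fun X => by
    rw [← two_smul F X, h2, zero_smul]
  constructor
  · have : ((a : Matrix (Fin n) (Fin n) F) - 1) * ((a : Matrix (Fin n) (Fin n) F) - 1)
        = (a : Matrix (Fin n) (Fin n) F) * (a : Matrix (Fin n) (Fin n) F) + 1
          - ((a : Matrix (Fin n) (Fin n) F) + (a : Matrix (Fin n) (Fin n) F)) := by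
      noncomm_ring
    rw [this, ha2', hadd, hadd, sub_zero]
  · intro h
    have h1 : (a : Matrix (Fin n) (Fin n) F) = 1 := sub_eq_zero.1 h
    have h3 : a = 1 := Subtype.ext h1
    rw [h3, orderOf_one] at ha
    omega

/-- Conjugacy of involutions in the special linear group over a finite field of characteristic two, in dimension at least 3: two elements of order 2 of SL_n(F) are conjugate in SL_n(F) exactly when the matrices a − 1 and b − 1 have the same rank (the rank of a − 1 is the dimension of the commutator space [V, a]). -/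
theorem result {F : Type*} [Field F] [Fintype F] [CharP F 2] {n : ℕ} (hn : 3 ≤ n) (a b : Matrix.SpecialLinearGroup (Fin n) F) (ha : orderOf a = 2) (hb : orderOf b = 2) :
    IsConj a b ↔ ((a : Matrix (Fin n) (Fin n) F) - 1).rank = ((b : Matrix (Fin n) (Fin n) F) - 1).rank := by
  constructor
  · intro h
    obtain ⟨c, hc⟩ := isConj_iff.1 h
    have hc' : c * a = b * c := by rw [← hc]; group
    have hc'' : (c : Matrix (Fin n) (Fin n) F) * (a : Matrix (Fin n) (Fin n) F)
        = (b : Matrix (Fin n) (Fin n) F) * (c : Matrix (Fin n) (Fin n) F) := by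
      have := congrArg (fun z : Matrix.SpecialLinearGroup (Fin n) F => (z : Matrix (Fin n) (Fin n) F)) hc'
      simpa using this
    have h1 : (c : Matrix (Fin n) (Fin n) F) * ((a : Matrix (Fin n) (Fin n) F) - 1)
        = ((b : Matrix (Fin n) (Fin n) F) - 1) * (c : Matrix (Fin n) (Fin n) F) := by
      rw [Matrix.mul_sub, Matrix.sub_mul, hc'', Matrix.mul_one, Matrix.one_mul]
    have hcu : IsUnit (c : Matrix (Fin n) (Fin n) F).det := by
      rw [c.2]; exact isUnit_one
    rw [← Matrix.rank_mul_eq_right_of_isUnit_det _ _ hcu, h1,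
      Matrix.rank_mul_eq_left_of_isUnit_det _ _ hcu]
  · intro h
    obtain ⟨hN, hN0⟩ := invol_sub_one_sq a ha
    obtain ⟨hM, _⟩ := invol_sub_one_sq b hb
    obtain ⟨g, hgdet, hg⟩ := exists_sl_conj _ _ hN hM h hN0
    rw [isConj_iff]
    let c : Matrix.SpecialLinearGroup (Fin n) F := ⟨g, hgdet⟩
    refine ⟨c, ?_⟩
    have h1 : g * (a : Matrix (Fin n) (Fin n) F) = (b : Matrix (Fin n) (Fin n) F) * g := by
      rw [Matrix.mul_sub, Matrix.sub_mul, Matrix.mul_one, Matrix.one_mul] at hg
      exact sub_left_injective hg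
    have h2 : c * a = b * c := by
      apply Subtype.ext
      rw [Matrix.SpecialLinearGroup.coe_mul, Matrix.SpecialLinearGroup.coe_mul]
      exact h1
    rw [h2]
    group

end Cfsg.Agent.S2162
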