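import Cfsg.Statements.S2163
-- import your own Cfsg.Agent.* helpers here

set_option autoImplicit false
open Cfsg

namespace Cfsg.Agent.S2163

/-- The nilpotent part of the block involution. -/
def Nmat (F : Type*) [Field F] (n ℓ : ℕ) : Matrix (Fin n) (Fin n) F :=
  Matrix.of (fun i j : Fin n => if j.val < ℓ ∧ i.val = j.val + (n - ℓ) then (1 : F) else 0)

theorem Nmat_apply (F : Type*) [Field F] (n ℓ : ℕ) (i j : Fin n) :
    Nmat F n ℓ i j = if j.val < ℓ ∧ i.val = j.val + (n - ℓ) then (1 : F) else 0 := rfl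

theorem Nmat_mul_self (F : Type*) [Field F] (n ℓ : ℕ) (h2 : 2 * ℓ ≤ n) :
    Nmat F n ℓ * Nmat F n ℓ = 0 := by
  ext i k
  rw [Matrix.mul_apply]
  apply Finset.sum_eq_zero
  intro j _
  rw [Nmat_apply, Nmat_apply]
  by_cases hj : j.val < ℓ
  · have : ¬ (k.val < ℓ ∧ j.val = k.val + (n - ℓ)) := by omega
    rw [if_neg this, mul_zero]
  · have : ¬ (j.val < ℓ ∧ i.val = j.val + (n - ℓ)) := by omega
    rw [if_neg this, zero_mul]

theorem Nmat_lower (F : Type*) [Field F] (n ℓ : ℕ) :
    (1 + Nmat F n ℓ).IsLowerTriangular := by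
  intro i j hij
  have hij' : i < j := hij
  have hne : i ≠ j := ne_of_lt hij'
  rw [Matrix.add_apply, Matrix.one_apply_ne hne, Nmat_apply, zero_add]
  have hlt : i.val < j.val := hij'
  have : ¬ (j.val < ℓ ∧ i.val = j.val + (n - ℓ)) := by omega
  rw [if_neg this]

theorem Nmat_det (F : Type*) [Field F] (n ℓ : ℕ) (h1 : 1 ≤ ℓ) (h2 : 2 * ℓ ≤ n) :
    (1 + Nmat F n ℓ).det = 1 := by
  rw [Matrix.det_of_isLowerTriangular _ (Nmat_lower F n ℓ)]
  apply Finset.prod_eq_one
  intro i _
  rw [Matrix.add_apply, Matrix.one_apply_eq, Nmat_apply]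
  have : ¬ (i.val < ℓ ∧ i.val = i.val + (n - ℓ)) := by omega
  rw [if_neg this, add_zero]

theorem Nmat_rank (F : Type*) [Field F] (n ℓ : ℕ) (h1 : 1 ≤ ℓ) (h2 : 2 * ℓ ≤ n) :
    (Nmat F n ℓ).rank = ℓ := by
  have hℓn : ℓ ≤ n := by omega
  apply le_antisymm
  · -- N = A * B with A of width ℓ
    let c : Fin ℓ → Fin n := Fin.castLE hℓn
    let A : Matrix (Fin n) (Fin ℓ) F := (Nmat F n ℓ).submatrix id c
    let B : Matrix (Fin ℓ) (Fin n) F := Matrix.of (fun k j => if j.val = k.val then (1 : F) else 0)
    have hAB : Nmat F n ℓ = A * B := by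
      ext i j
      rw [Matrix.mul_apply]
      by_cases hj : j.val < ℓ
      · rw [Finset.sum_eq_single (⟨j.val, hj⟩ : Fin ℓ)]
        · simp only [A, B, Matrix.submatrix_apply, Matrix.of_apply, id_eq, if_true, mul_one]
          congr 1
        · intro k _ hk
          have : ¬ (j.val = k.val) := by
            intro h
            apply hk
            exact Fin.ext h.symm
          simp only [B, Matrix.of_apply, if_neg this, mul_zero]
        · intro h
          exact absurd (Finset.mem_univ _) h
      · rw [Nmat_apply]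
        have : ¬ (j.val < ℓ ∧ i.val = j.val + (n - ℓ)) := by omega
        rw [if_neg this]
        symm
        apply Finset.sum_eq_zero
        intro k _
        have : ¬ (j.val = k.val) := by
          have := k.2
          omega
        simp only [B, Matrix.of_apply, if_neg this, mul_zero]
    rw [hAB]
    exact (Matrix.rank_mul_le_left A B).trans (Matrix.rank_le_width A)
  · let r : Fin ℓ → Fin n := fun k => ⟨k.val + (n - ℓ), by have := k.2; omega⟩
    let c : Fin ℓ → Fin n := Fin.castLE hℓn
    have hsub : (Nmat F n ℓ).submatrix r c = 1 := by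
      ext k k'
      rw [Matrix.submatrix_apply, Nmat_apply, Matrix.one_apply]
      have hk' := k'.2
      by_cases hkk : k = k'
      · subst hkk
        rw [if_pos rfl, if_pos]
        exact ⟨hk', rfl⟩
      · rw [if_neg hkk, if_neg]
        rintro ⟨_, h⟩
        apply hkk
        apply Fin.ext
        simp only [r, c, Fin.val_castLE] at h
        omega
    have := Matrix.rank_submatrix_le (Nmat F n ℓ) r c
    rw [hsub, Matrix.rank_one, Fintype.card_fin] at this
    exact this

/-- Over a finite field of characteristic two and for n ≥ 3: for every ℓ with 1 ≤ ℓ and 2ℓ ≤ n, the matrix j_ℓ that is the identity plus the entries 1 in positions (n − ℓ + i, i) for i < ℓ (an identity block of size ℓ in the lower left corner) lies in SL_n(F), has order 2, and j_ℓ − 1 has rank ℓ. Together with the conjugacy criterion by rank, these matrices represent the conjugacy classes of involutions of SL_n(F). -/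
theorem result {F : Type*} [Field F] [Fintype F] [CharP F 2] {n : ℕ} (hn : 3 ≤ n) (ℓ : ℕ) (h1 : 1 ≤ ℓ) (h2 : 2 * ℓ ≤ n) :
    ∃ a : Matrix.SpecialLinearGroup (Fin n) F, (a : Matrix (Fin n) (Fin n) F) = 1 + Matrix.of (fun i j : Fin n => if j.val < ℓ ∧ i.val = j.val + (n - ℓ) then (1 : F) else 0) ∧ orderOf a = 2 ∧ ((a : Matrix (Fin n) (Fin n) F) - 1).rank = ℓ := by
  let a : Matrix.SpecialLinearGroup (Fin n) F := ⟨1 + Nmat F n ℓ, Nmat_det F n ℓ h1 h2⟩
  have ha : (a : Matrix (Fin n) (Fin n) F) = 1 + Nmat F n ℓ := rfl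
  refine ⟨a, rfl, ?_, ?_⟩
  · apply orderOf_eq_prime
    · apply Subtype.ext
      rw [pow_two, Matrix.SpecialLinearGroup.coe_mul, ha, Matrix.SpecialLinearGroup.coe_one]
      rw [mul_add, add_mul, add_mul, Nmat_mul_self F n ℓ h2, one_mul, one_mul, mul_one, add_zero,
        add_assoc]
      have : Nmat F n ℓ + Nmat F n ℓ = 0 := by
        ext i j
        rw [Matrix.add_apply]
        exact CharTwo.add_self_eq_zero _
      rw [this, add_zero]
    · intro h
      have h' : (a : Matrix (Fin n) (Fin n) F) ⟨n - ℓ, by omega⟩ ⟨0, by omega⟩ = (1 : Matrix (Fin n) (Fin n) F) ⟨n - ℓ, by omega⟩ ⟨0, by omega⟩ := by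
        rw [h, Matrix.SpecialLinearGroup.coe_one]
      rw [ha, Matrix.add_apply, Nmat_apply, Matrix.one_apply_ne] at h'
      · rw [if_pos] at h'
        · simp at h'
        · constructor
          · change 0 < ℓ
            omega
          · simp
      · intro hh
        have := congrArg Fin.val hh
        simp at this
        omega
  · rw [ha, add_sub_cancel_left]
    exact Nmat_rank F n ℓ h1 h2

end Cfsg.Agent.S2163
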