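import Cfsg.Statements.S2165
-- import your own Cfsg.Agent.* helpers here

set_option autoImplicit false
open Cfsg

namespace Cfsg.Agent.S2165

/-- The swap function on indices. -/
def sw (n ℓ : ℕ) (h2 : 2 * ℓ ≤ n) (i : Fin n) : Fin n :=
  if h : i.val < ℓ then ⟨i.val + (n - ℓ), by omega⟩
  else if h' : n - ℓ ≤ i.val then ⟨i.val - (n - ℓ), by have := i.2; omega⟩
  else i

theorem sw_val (n ℓ : ℕ) (h2 : 2 * ℓ ≤ n) (i : Fin n) :
    (sw n ℓ h2 i).val = if i.val < ℓ then i.val + (n - ℓ) else if n - ℓ ≤ i.val then i.val - (n - ℓ) else i.val := by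
  unfold sw
  split_ifs <;> rfl

theorem sw_invol (n ℓ : ℕ) (h2 : 2 * ℓ ≤ n) : Function.Involutive (sw n ℓ h2) := by
  intro i
  apply Fin.ext
  rw [sw_val, sw_val]
  have := i.2
  split_ifs <;> omega

/-- The permutation matrix. -/
def Mmat (F : Type*) [Field F] (n ℓ : ℕ) : Matrix (Fin n) (Fin n) F :=
  Matrix.of (fun i j : Fin n => if (j.val < ℓ ∧ i.val = j.val + (n - ℓ)) ∨ (i.val < ℓ ∧ j.val = i.val + (n - ℓ)) ∨ (i = j ∧ ℓ ≤ i.val ∧ i.val < n - ℓ) then (1 : F) else 0)

theorem Mmat_apply (F : Type*) [Field F] (n ℓ : ℕ) (h2 : 2 * ℓ ≤ n) (i j : Fin n) :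
    Mmat F n ℓ i j = if sw n ℓ h2 i = j then 1 else 0 := by
  unfold Mmat
  rw [Matrix.of_apply]
  congr 1
  rw [Fin.ext_iff (a := sw n ℓ h2 i), sw_val, Fin.ext_iff]
  have := i.2
  have := j.2
  apply propext
  split_ifs <;> omega

theorem Mmat_mulVec (F : Type*) [Field F] (n ℓ : ℕ) (h2 : 2 * ℓ ≤ n) (u : Fin n → F) (i : Fin n) :
    (Mmat F n ℓ).mulVec u i = u (sw n ℓ h2 i) := by
  rw [Matrix.mulVec, dotProduct]
  simp_rw [Mmat_apply F n ℓ h2]
  simp

theorem Mmat_mul_self (F : Type*) [Field F] (n ℓ : ℕ) (h2 : 2 * ℓ ≤ n) :
    Mmat F n ℓ * Mmat F n ℓ = 1 := by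
  ext i k
  rw [Matrix.mul_apply]
  simp_rw [Mmat_apply F n ℓ h2]
  simp only [ite_mul, one_mul, zero_mul, Finset.sum_ite_eq, Finset.mem_univ, if_true]
  rw [sw_invol n ℓ h2 i, Matrix.one_apply]

theorem Mmat_det (F : Type*) [Field F] [CharP F 2] (n ℓ : ℕ) (h2 : 2 * ℓ ≤ n) :
    (Mmat F n ℓ).det = 1 := by
  have h := congrArg Matrix.det (Mmat_mul_self F n ℓ h2)
  rw [Matrix.det_mul, Matrix.det_one] at h
  set d := (Mmat F n ℓ).det
  have h3 : (d - 1) * (d - 1) = 0 := by
    have h4 : (d - 1) * (d - 1) = d * d - (d + d) + 1 := by ring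
    rw [h4, h, CharTwo.add_self_eq_zero, sub_zero, CharTwo.add_self_eq_zero]
  have := mul_self_eq_zero.1 h3
  exact sub_eq_zero.1 this


theorem Mmat_rank (F : Type*) [Field F] (n ℓ : ℕ) (h2 : 2 * ℓ ≤ n) :
    (Mmat F n ℓ - 1).rank = ℓ := by
  have hℓn : ℓ ≤ n := by omega
  let r : Fin ℓ → Fin n := fun k => ⟨k.val + (n - ℓ), by have := k.2; omega⟩
  let c : Fin ℓ → Fin n := Fin.castLE hℓn
  have hr : ∀ k, (r k).val = k.val + (n - ℓ) := fun k => rfl
  have hc : ∀ k, (c k).val = k.val := fun k => rfl
  have hswr : ∀ k, sw n ℓ h2 (r k) = c k := by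
    intro k
    apply Fin.ext
    rw [sw_val, hr, hc]
    have := k.2
    split_ifs <;> omega
  have hswc : ∀ k, sw n ℓ h2 (c k) = r k := by
    intro k
    apply Fin.ext
    rw [sw_val, hr, hc]
    have := k.2
    split_ifs <;> omega
  have hentry : ∀ i j, (Mmat F n ℓ - 1) i j = (if sw n ℓ h2 i = j then (1 : F) else 0) - (if i = j then 1 else 0) := by
    intro i j
    rw [Matrix.sub_apply, Mmat_apply F n ℓ h2, Matrix.one_apply]
  apply le_antisymm
  · let R : Matrix (Fin ℓ) (Fin n) F := (Mmat F n ℓ - 1).submatrix c id
    let C : Matrix (Fin n) (Fin ℓ) F := Matrix.of (fun i k => (if i = c k then (1 : F) else 0) - (if i = r k then 1 else 0))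
    have hCR : Mmat F n ℓ - 1 = C * R := by
      ext i j
      rw [Matrix.mul_apply]
      simp only [C, R, Matrix.of_apply, Matrix.submatrix_apply, id_eq]
      by_cases hi1 : i.val < ℓ
      · let k0 : Fin ℓ := ⟨i.val, hi1⟩
        have hk0 : c k0 = i := Fin.ext rfl
        rw [Finset.sum_eq_single k0]
        · have h1 : i = c k0 := hk0.symm
          have h2' : ¬ (i = r k0) := by
            intro h
            have := congrArg Fin.val h
            rw [hr] at this
            simp only [k0] at this
            omega
          rw [if_pos h1, if_neg h2', sub_zero, one_mul, hk0]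
        · intro k _ hk
          have h1 : ¬ (i = c k) := by
            intro h
            apply hk
            apply Fin.ext
            have := congrArg Fin.val h
            rw [hc] at this
            exact this.symm
          have h2' : ¬ (i = r k) := by
            intro h
            have := congrArg Fin.val h
            rw [hr] at this
            have := k.2
            omega
          rw [if_neg h1, if_neg h2', sub_zero, zero_mul]
        · intro h
          exact absurd (Finset.mem_univ _) h
      · by_cases hi2 : n - ℓ ≤ i.val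
        · have hin := i.2
          let k0 : Fin ℓ := ⟨i.val - (n - ℓ), by omega⟩
          have hk0 : r k0 = i := by
            apply Fin.ext
            rw [hr]
            simp only [k0]
            omega
          rw [Finset.sum_eq_single k0]
          · have h1 : ¬ (i = c k0) := by
              intro h
              have := congrArg Fin.val h
              rw [hc] at this
              simp only [k0] at this
              omega
            have h2' : i = r k0 := hk0.symm
            rw [if_neg h1, if_pos h2', zero_sub, neg_one_mul, hentry, hentry, ← hk0, hswr, hswc]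
            ring
          · intro k _ hk
            have h1 : ¬ (i = c k) := by
              intro h
              have := congrArg Fin.val h
              rw [hc] at this
              have := k.2
              omega
            have h2' : ¬ (i = r k) := by
              intro h
              apply hk
              apply Fin.ext
              have := congrArg Fin.val h
              rw [hr] at this
              simp only [k0]
              omega
            rw [if_neg h1, if_neg h2', sub_zero, zero_mul]
          · intro h
            exact absurd (Finset.mem_univ _) h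
        · have hsw : sw n ℓ h2 i = i := by
            apply Fin.ext
            rw [sw_val, if_neg hi1, if_neg hi2]
          rw [hentry, hsw, sub_self]
          symm
          apply Finset.sum_eq_zero
          intro k _
          have h1 : ¬ (i = c k) := by
            intro h
            have := congrArg Fin.val h
            rw [hc] at this
            have := k.2
            omega
          have h2' : ¬ (i = r k) := by
            intro h
            have := congrArg Fin.val h
            rw [hr] at this
            omega
          rw [if_neg h1, if_neg h2', sub_zero, zero_mul]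
    rw [hCR]
    exact (Matrix.rank_mul_le_left C R).trans (Matrix.rank_le_width C)
  · have hsub : (Mmat F n ℓ - 1).submatrix r c = 1 := by
      ext k k'
      rw [Matrix.submatrix_apply, hentry, hswr, Matrix.one_apply]
      have hne : ¬ (r k = c k') := by
        intro h
        have := congrArg Fin.val h
        rw [hr, hc] at this
        have := k'.2
        omega
      rw [if_neg hne, sub_zero]
      by_cases hkk : k = k'
      · subst hkk
        rw [if_pos rfl, if_pos rfl]
      · rw [if_neg hkk, if_neg]
        intro h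
        apply hkk
        apply Fin.ext
        have := congrArg Fin.val h
        rw [hc, hc] at this
        exact this
    have := Matrix.rank_submatrix_le (Mmat F n ℓ - 1) r c
    rw [hsub, Matrix.rank_one, Fintype.card_fin] at this
    exact this

/-- In SU_n(q), q even, n ≥ 3 (matrices of determinant 1 over the field with q² elements preserving Σ u_i v_i^q): for every ℓ with 1 ≤ ℓ and 2ℓ ≤ n, the permutation matrix of the involution of {0, …, n−1} exchanging i and n − ℓ + i for each i < ℓ lies in SU_n(q), has order 2, and differs from the identity by a matrix of rank ℓ. So every rank between 1 and n/2 occurs for involutions of SU_n(q). -/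
theorem result {F : Type*} [Field F] [Fintype F] [CharP F 2] {n q : ℕ} (hF : Fintype.card F = q ^ 2) (hn : 3 ≤ n) (ℓ : ℕ) (h1 : 1 ≤ ℓ) (h2 : 2 * ℓ ≤ n) :
    ∃ a : ↥(Cfsg.SU n F q), (((a : Matrix.SpecialLinearGroup (Fin n) F) : Matrix (Fin n) (Fin n) F) = Matrix.of (fun i j : Fin n => if (j.val < ℓ ∧ i.val = j.val + (n - ℓ)) ∨ (i.val < ℓ ∧ j.val = i.val + (n - ℓ)) ∨ (i = j ∧ ℓ ≤ i.val ∧ i.val < n - ℓ) then (1 : F) else 0)) ∧ orderOf a = 2 ∧ ((((a : Matrix.SpecialLinearGroup (Fin n) F) : Matrix (Fin n) (Fin n) F)) - 1).rank = ℓ := by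
  let a0 : Matrix.SpecialLinearGroup (Fin n) F := ⟨Mmat F n ℓ, Mmat_det F n ℓ h2⟩
  have ha0 : (a0 : Matrix (Fin n) (Fin n) F) = Mmat F n ℓ := rfl
  have hmem : a0 ∈ Cfsg.SU n F q := by
    intro u v
    change Cfsg.hermForm n F q ((Mmat F n ℓ).mulVec u) ((Mmat F n ℓ).mulVec v) = Cfsg.hermForm n F q u v
    unfold Cfsg.hermForm
    simp_rw [Mmat_mulVec F n ℓ h2]
    exact Equiv.sum_comp (sw_invol n ℓ h2).toPerm (fun i => u i * v i ^ q)
  let a : ↥(Cfsg.SU n F q) := ⟨a0, hmem⟩
  refine ⟨a, rfl, ?_, ?_⟩
  · apply orderOf_eq_prime
    · apply Subtype.ext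
      apply Subtype.ext
      rw [pow_two]
      change Mmat F n ℓ * Mmat F n ℓ = 1
      exact Mmat_mul_self F n ℓ h2
    · intro h
      have h' : (a0 : Matrix (Fin n) (Fin n) F) = 1 := by
        have := congrArg (fun x : ↥(Cfsg.SU n F q) => ((x : Matrix.SpecialLinearGroup (Fin n) F) : Matrix (Fin n) (Fin n) F)) h
        simpa using this
      have h'' := congrFun (congrFun h' ⟨0, by omega⟩) ⟨0, by omega⟩
      rw [ha0, Mmat_apply F n ℓ h2, Matrix.one_apply_eq, if_neg] at h''
      · exact zero_ne_one h''
      · intro hh
        have := congrArg Fin.val hh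
        rw [sw_val] at this
        simp only at this
        split_ifs at this <;> omega
  · change (Mmat F n ℓ - 1).rank = ℓ
    exact Mmat_rank F n ℓ h2

end Cfsg.Agent.S2165
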