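import Cfsg.Statements.S2167
import Mathlib
import Cfsg.Agent.Lib.H11.AltForm
-- import your own Cfsg.Agent.* helpers here

set_option autoImplicit false
open Cfsg

namespace Cfsg.Agent.S2167

open Matrix in
theorem J_alt (m : ℕ) (F : Type*) [CommRing F] (v : Fin m ⊕ Fin m → F) :
    v ⬝ᵥ (Matrix.J (Fin m) F *ᵥ v) = 0 := by
  have h1 : ∀ i, (Matrix.J (Fin m) F *ᵥ v) (Sum.inl i) = - v (Sum.inr i) := by
    intro i
    simp [Matrix.J, Matrix.mulVec, dotProduct, Fintype.sum_sum_type, Matrix.one_apply]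
  have h2 : ∀ i, (Matrix.J (Fin m) F *ᵥ v) (Sum.inr i) = v (Sum.inl i) := by
    intro i
    simp [Matrix.J, Matrix.mulVec, dotProduct, Fintype.sum_sum_type, Matrix.one_apply]
  rw [dotProduct, Fintype.sum_sum_type]
  simp_rw [h1, h2]
  rw [← Finset.sum_add_distrib]
  apply Finset.sum_eq_zero
  intro i _
  ring

open Matrix in
/-- The key facts about the quadratic map `v ↦ f(v, A v)` for a symplectic involution in char 2. -/
theorem quad_facts {F : Type*} [Field F] [CharP F 2] {m : ℕ}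
    (A : Matrix (Fin m ⊕ Fin m) (Fin m ⊕ Fin m) F) (hA : A ∈ Matrix.symplecticGroup (Fin m) F)
    (hAA : A * A = 1) :
    (∀ u v : Fin m ⊕ Fin m → F, Cfsg.sympForm m F (u + v) (A *ᵥ (u + v)) =
      Cfsg.sympForm m F u (A *ᵥ u) + Cfsg.sympForm m F v (A *ᵥ v)) ∧
    (∀ (c : F) (v : Fin m ⊕ Fin m → F), Cfsg.sympForm m F (c • v) (A *ᵥ (c • v)) =
      c * c * Cfsg.sympForm m F v (A *ᵥ v)) ∧
    (∀ v : Fin m ⊕ Fin m → F, v ⬝ᵥ ((Matrix.J (Fin m) F * (A - 1)) *ᵥ v) = Cfsg.sympForm m F v (A *ᵥ v)) := by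
  have hneg : ∀ M : Matrix (Fin m ⊕ Fin m) (Fin m ⊕ Fin m) F, -M = M := by
    intro M
    ext i j
    exact CharTwo.neg_eq _
  set J := Matrix.J (Fin m) F with hJ
  set S := J * A with hS
  have hA' : Aᵀ * J * A = J := (SymplecticGroup.mem_iff').1 hA
  have hAJ : Aᵀ * J = J * A := by
    calc Aᵀ * J = Aᵀ * J * (A * A) := by rw [hAA, mul_one]
      _ = (Aᵀ * J * A) * A := by simp only [mul_assoc]
      _ = J * A := by rw [hA']
  have hSt : Sᵀ = S := by
    rw [hS, Matrix.transpose_mul, hJ, Matrix.J_transpose, hneg, ← hJ, hAJ]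
  have hform : ∀ u v : Fin m ⊕ Fin m → F, Cfsg.sympForm m F u (A *ᵥ v) = u ⬝ᵥ (S *ᵥ v) := by
    intro u v
    rw [Cfsg.sympForm, hS, ← hJ, Matrix.mulVec_mulVec]
  have hsymm : ∀ u v : Fin m ⊕ Fin m → F, v ⬝ᵥ (S *ᵥ u) = u ⬝ᵥ (S *ᵥ v) := by
    intro u v
    rw [Matrix.dotProduct_mulVec, ← hSt, Matrix.vecMul_transpose, hSt, dotProduct_comm]
  refine ⟨?_, ?_, ?_⟩
  · intro u v
    rw [hform, hform, hform, Matrix.mulVec_add, add_dotProduct, dotProduct_add, dotProduct_add,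
      hsymm u v]
    have : u ⬝ᵥ S *ᵥ v + u ⬝ᵥ S *ᵥ v = 0 := CharTwo.add_self_eq_zero _
    calc u ⬝ᵥ S *ᵥ u + u ⬝ᵥ S *ᵥ v + (u ⬝ᵥ S *ᵥ v + v ⬝ᵥ S *ᵥ v)
        = u ⬝ᵥ S *ᵥ u + (u ⬝ᵥ S *ᵥ v + u ⬝ᵥ S *ᵥ v) + v ⬝ᵥ S *ᵥ v := by ring
      _ = u ⬝ᵥ S *ᵥ u + v ⬝ᵥ S *ᵥ v := by rw [this, add_zero]
  · intro c v
    rw [hform, hform, Matrix.mulVec_smul, smul_dotProduct, dotProduct_smul, smul_eq_mul, smul_eq_mul,
      mul_assoc]
  · intro v
    rw [hform, Matrix.mul_sub, mul_one, Matrix.sub_mulVec, dotProduct_sub, ← hS, J_alt, sub_zero]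

/-- For an involution t of the symplectic group Sp_{2m}(F), m ≥ 2, F a finite field of characteristic two (matrices A with A J Aᵀ = J acting on column vectors, alternating form f(u, v) = u ⬝ (J v)): the set V(t) of vectors v with f(v, t v) = 0 has either q^{2m} or q^{2m−1} elements, q the order of F (it is a subspace of codimension at most 1), and if it is the whole space then t − 1 has even rank. -/
theorem result {F : Type*} [Field F] [Fintype F] [CharP F 2] {m : ℕ} (hm : 2 ≤ m) (a : ↥(Matrix.symplecticGroup (Fin m) F)) (ha : orderOf a = 2) :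
    (Nat.card {v : Fin m ⊕ Fin m → F // Cfsg.sympForm m F v (Matrix.mulVec ((a : ↥(Matrix.symplecticGroup (Fin m) F)) : Matrix (Fin m ⊕ Fin m) (Fin m ⊕ Fin m) F) v) = 0} = Fintype.card F ^ (2 * m) ∨ Nat.card {v : Fin m ⊕ Fin m → F // Cfsg.sympForm m F v (Matrix.mulVec ((a : ↥(Matrix.symplecticGroup (Fin m) F)) : Matrix (Fin m ⊕ Fin m) (Fin m ⊕ Fin m) F) v) = 0} * Fintype.card F = Fintype.card F ^ (2 * m)) ∧
    ((∀ v : Fin m ⊕ Fin m → F, Cfsg.sympForm m F v (Matrix.mulVec ((a : ↥(Matrix.symplecticGroup (Fin m) F)) : Matrix (Fin m ⊕ Fin m) (Fin m ⊕ Fin m) F) v) = 0) → Even (((a : ↥(Matrix.symplecticGroup (Fin m) F)) : Matrix (Fin m ⊕ Fin m) (Fin m ⊕ Fin m) F) - 1).rank) := by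
  classical
  set A : Matrix (Fin m ⊕ Fin m) (Fin m ⊕ Fin m) F := (a : Matrix (Fin m ⊕ Fin m) (Fin m ⊕ Fin m) F) with hAdef
  have hA : A ∈ Matrix.symplecticGroup (Fin m) F := a.2
  have hAA : A * A = 1 := by
    have h1 : a ^ 2 = 1 := by rw [← ha]; exact pow_orderOf_eq_one a
    have h2 := congrArg (fun x : ↥(Matrix.symplecticGroup (Fin m) F) => (x : Matrix (Fin m ⊕ Fin m) (Fin m ⊕ Fin m) F)) h1
    simpa [pow_two] using h2
  obtain ⟨hadd, hsmul, hT⟩ := quad_facts A hA hAA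
  constructor
  · -- counting
    let φ : (Fin m ⊕ Fin m → F) →+ F := AddMonoidHom.mk' (fun v => Cfsg.sympForm m F v (Matrix.mulVec A v)) hadd
    have hφ : ∀ v, φ v = Cfsg.sympForm m F v (Matrix.mulVec A v) := fun v => rfl
    have hcardK : Nat.card {v : Fin m ⊕ Fin m → F // Cfsg.sympForm m F v (Matrix.mulVec A v) = 0} = Nat.card φ.ker := by
      apply Nat.card_congr
      exact Equiv.subtypeEquivRight (fun v => (AddMonoidHom.mem_ker (f := φ)).symm)
    rw [hcardK]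
    have hidx : Nat.card φ.ker * Nat.card φ.range = Fintype.card F ^ (2 * m) := by
      rw [← AddSubgroup.index_ker, AddSubgroup.card_mul_index, Nat.card_eq_fintype_card, Fintype.card_fun,
        Fintype.card_sum, Fintype.card_fin, two_mul]
    by_cases hall : ∀ v, φ v = 0
    · left
      have : φ.range = ⊥ := by
        rw [eq_bot_iff]
        rintro x ⟨v, rfl⟩
        rw [hall v]
        exact AddSubgroup.zero_mem _
      rw [this, AddSubgroup.card_bot, mul_one] at hidx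
      exact hidx
    · right
      push Not at hall
      obtain ⟨v0, hv0⟩ := hall
      have : φ.range = ⊤ := by
        rw [eq_top_iff]
        intro x _
        obtain ⟨s, hs⟩ := FiniteField.isSquare_of_char_two (ringChar.eq F 2) (x / φ v0)
        refine ⟨s • v0, ?_⟩
        rw [hφ, hsmul, ← hφ, ← hs, div_mul_cancel₀ _ hv0]
      rw [this, AddSubgroup.card_top, Nat.card_eq_fintype_card (α := F)] at hidx
      exact hidx
  · intro hall
    have hrank : (Matrix.J (Fin m) F * (A - 1)).rank = (A - 1).rank :=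
      Matrix.rank_mul_eq_right_of_isUnit_det _ _ (Matrix.isUnit_det_J _ _)
    rw [← hrank]
    apply Cfsg.Agent.Lib.H11.even_rank_of_alternating
    intro v
    rw [hT, hall]

end Cfsg.Agent.S2167
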