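import Cfsg.Statements.S2174
import Cfsg.Agent.Lib.H12.F4Cls4
import Cfsg.Agent.Lib.H21.ICCPART

set_option autoImplicit false
open Cfsg

namespace Cfsg.Agent.S2174

/-- Conjugacy classes of involutions in the Chevalley group of type F₄ over a finite field F of characteristic two (the matrix group generated by the root elements x_r(t)). In this problem's root numbering for type F₄ (the Chevalley data module; fundamental roots p₁, p₂ short and p₃, p₄ long; roots indexed by their coefficient vectors in increasing order) let r = 47 be the highest root (2,4,3,2), s = 44 the highest short root (2,3,2,1), and α = 39 = (1,2,2,1), β = 45 = (2,4,2,1), an orthogonal short/long pair; consider the four elements x_r(1), x_s(1), x_r(1)x_s(1), x_α(1)x_β(1). Then: each invertible matrix equal to one of these four products lies in the group and has order 2; every element of order 2 of the group is conjugate in the group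 to one of them; and no two of them are conjugate in the group (so, the four matrices being distinct, the group has exactly four conjugacy classes of involutions). -/
theorem result {F : Type*} [Field F] [Fintype F] [CharP F 2] :
    (∀ y : GL Cfsg.Lie.chevF4.Idx F, ((y : GL Cfsg.Lie.chevF4.Idx F) : Matrix Cfsg.Lie.chevF4.Idx Cfsg.Lie.chevF4.Idx F) ∈ [Cfsg.Lie.chevF4.x F 47 1, Cfsg.Lie.chevF4.x F 44 1, Cfsg.Lie.chevF4.x F 47 1 * Cfsg.Lie.chevF4.x F 44 1, Cfsg.Lie.chevF4.x F 39 1 * Cfsg.Lie.chevF4.x F 45 1] → y ∈ Cfsg.Lie.chevF4.group F ∧ orderOf y = 2) ∧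
    (∀ g ∈ Cfsg.Lie.chevF4.group F, orderOf g = 2 → ∃ y ∈ Cfsg.Lie.chevF4.group F, ((y : GL Cfsg.Lie.chevF4.Idx F) : Matrix Cfsg.Lie.chevF4.Idx Cfsg.Lie.chevF4.Idx F) ∈ [Cfsg.Lie.chevF4.x F 47 1, Cfsg.Lie.chevF4.x F 44 1, Cfsg.Lie.chevF4.x F 47 1 * Cfsg.Lie.chevF4.x F 44 1, Cfsg.Lie.chevF4.x F 39 1 * Cfsg.Lie.chevF4.x F 45 1] ∧ ∃ h ∈ Cfsg.Lie.chevF4.group F, h * g * h⁻¹ = y) ∧
    (∀ y₁ ∈ Cfsg.Lie.chevF4.group F, ∀ y₂ ∈ Cfsg.Lie.chevF4.group F, ((y₁ : GL Cfsg.Lie.chevF4.Idx F) : Matrix Cfsg.Lie.chevF4.Idx Cfsg.Lie.chevF4.Idx F) ∈ [Cfsg.Lie.chevF4.x F 47 1, Cfsg.Lie.chevF4.x F 44 1, Cfsg.Lie.chevF4.x F 47 1 * Cfsg.Lie.chevF4.x F 44 1, Cfsg.Lie.chevF4.x F 39 1 * Cfsg.Lie.chevF4.x F 45 1] → ((y₂ : GL Cfsg.Lie.chevF4.Idx F) : Matrix Cfsg.Lie.chevF4.Idx Cfsg.Lie.chevF4.Idx F) ∈ [Cfsg.Lie.chevF4.x F 47 1, Cfsg.Lie.chevF4.x F 44 1, Cfsg.Lie.chevF4.x F 47 1 * Cfsg.Lie.chevF4.x F 44 1, Cfsg.Lie.chevF4.x F 39 1 *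 Cfsg.Lie.chevF4.x F 45 1] →
      (∃ h ∈ Cfsg.Lie.chevF4.group F, h * y₁ * h⁻¹ = y₂) → ((y₁ : GL Cfsg.Lie.chevF4.Idx F) : Matrix Cfsg.Lie.chevF4.Idx Cfsg.Lie.chevF4.Idx F) = ((y₂ : GL Cfsg.Lie.chevF4.Idx F) : Matrix Cfsg.Lie.chevF4.Idx Cfsg.Lie.chevF4.Idx F)) := by
  classical
  have hnc := Cfsg.Agent.Lib.H21.IC.not_conj_F4 (F := F)
  obtain ⟨n12, n13, n14, n23, n24, n34⟩ := hnc
  have hsymm : ∀ {a b : GL Cfsg.Lie.chevF4.Idx F},
      (∃ h ∈ Cfsg.Lie.chevF4.group F, h * a * h⁻¹ = b) → (∃ h ∈ Cfsg.Lie.chevF4.group F, h * b * h⁻¹ = a) := by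
    rintro a b ⟨h, hh, e⟩
    refine ⟨h⁻¹, inv_mem hh, ?_⟩
    rw [← e]
    group
  refine ⟨?_, ?_, ?_⟩
  · intro y hy
    exact Cfsg.Agent.Lib.H12.F4Cls.rep_mem_order y (Cfsg.Agent.Lib.H12.F4Cls.isRep_of_mem y hy)
  · intro g hg hord
    have hg2 : g * g = 1 := by
      have := pow_orderOf_eq_one g
      rw [hord, sq] at this
      exact this
    have hg1 : g ≠ 1 := by
      intro h
      rw [h, orderOf_one] at hord
      exact absurd hord (by norm_num)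
    obtain ⟨y, hy, h, hh, hc⟩ := Cfsg.Agent.Lib.H12.F4Cls.f4_involution_conj g hg hg2 hg1
    exact ⟨y, (Cfsg.Agent.Lib.H12.F4Cls.rep_mem_order y hy).1, Cfsg.Agent.Lib.H12.F4Cls.mem_of_isRep y hy, h, hh, hc⟩
  · intro y₁ _ y₂ _ h1 h2 hc
    have r1 := Cfsg.Agent.Lib.H12.F4Cls.isRep_of_mem y₁ h1
    have r2 := Cfsg.Agent.Lib.H12.F4Cls.isRep_of_mem y₂ h2
    rcases r1 with rfl | rfl | rfl | rfl <;> rcases r2 with rfl | rfl | rfl | rfl
    · rfl
    · exact absurd hc n12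
    · exact absurd hc n13
    · exact absurd hc n14
    · exact absurd (hsymm hc) n12
    · rfl
    · exact absurd hc n23
    · exact absurd hc n24
    · exact absurd (hsymm hc) n13
    · exact absurd (hsymm hc) n23
    · rfl
    · exact absurd hc n34
    · exact absurd (hsymm hc) n14
    · exact absurd (hsymm hc) n24
    · exact absurd (hsymm hc) n34
    · rfl

end Cfsg.Agent.S2174
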