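-- Statement S2175: the three classes of involutions of `E₆(F)`, `F` finite of characteristic two.
import Cfsg.Statements.S2175
import Cfsg.Agent.Lib.H6.E6InvConj
import Cfsg.Agent.Lib.H6.E6InvRank

set_option autoImplicit false
set_option linter.unusedSectionVars false
open Cfsg

namespace Cfsg.Agent.S2175

open Cfsg.Lie Matrix Cfsg.Agent.Lib.H29.Chev Cfsg.Agent.Lib.H6.Inv

section aux

variable {F : Type*} [Field F] [CharP F 2]

theorem prod_y1 : ([71].map fun r => chevE6.x F r 1).prod = chevE6.x F 71 1 := by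
  simp

theorem prod_y2 : ([68, 66].map fun r => chevE6.x F r 1).prod = chevE6.x F 68 1 * chevE6.x F 66 1 := by
  simp

theorem prod_y3 : ([55, 65, 67].map fun r => chevE6.x F r 1).prod =
    chevE6.x F 55 1 * chevE6.x F 65 1 * chevE6.x F 67 1 := by
  simp [mul_assoc]

/-- the membership in the list of the three matrices, through the words -/
theorem mem_iff (M : Matrix chevE6.Idx chevE6.Idx F) :
    M ∈ [chevE6.x F 71 1, chevE6.x F 68 1 * chevE6.x F 66 1, chevE6.x F 55 1 * chevE6.x F 65 1 * chevE6.x F 67 1] ↔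
      M = ([71].map fun r => chevE6.x F r 1).prod ∨ M = ([68, 66].map fun r => chevE6.x F r 1).prod ∨
        M = ([55, 65, 67].map fun r => chevE6.x F r 1).prod := by
  rw [prod_y1, prod_y2, prod_y3]
  simp only [List.mem_cons, List.not_mem_nil, or_false]

theorem eq_word (y : GL chevE6.Idx F) (L : List ℕ)
    (h : (y : Matrix chevE6.Idx chevE6.Idx F) = (L.map fun r => chevE6.x F r 1).prod) :
    y = wordG cert12_E6.c6.c2 F L := by
  apply Units.ext
  rw [h, wordG_val]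

theorem word_sq (L : List ℕ) (hL : ∀ r ∈ L ++ L, r < fdE6.n) (hc : chkWord fdE6 2 (L ++ L) [] = true) :
    wordG cert12_E6.c6.c2 F L ^ 2 = 1 := by
  have := word_eq 2 (F := F) cert12_E6.c6.c2 (L ++ L) [] hL (by simp) hc
  rw [wordG_append] at this
  rw [sq, this]
  rfl

theorem word_ne_one (L : List ℕ) (h : 0 < ((L.map fun r => chevE6.x F r 1).prod - 1).rank) :
    wordG cert12_E6.c6.c2 F L ≠ 1 := by
  intro e
  have h1 : ((wordG cert12_E6.c6.c2 F L : GL chevE6.Idx F) : Matrix chevE6.Idx chevE6.Idx F) = 1 := by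
    rw [e]; rfl
  rw [wordG_val] at h1
  rw [h1, sub_self, Matrix.rank_zero] at h
  exact lt_irrefl _ h

theorem order_two (L : List ℕ) (hL : ∀ r ∈ L ++ L, r < fdE6.n) (hc : chkWord fdE6 2 (L ++ L) [] = true)
    (h : 0 < ((L.map fun r => chevE6.x F r 1).prod - 1).rank) :
    orderOf (wordG cert12_E6.c6.c2 F L) = 2 := by
  have : Fact (Nat.Prime 2) := ⟨Nat.prime_two⟩
  exact orderOf_eq_prime (word_sq L hL hc) (word_ne_one L h)

theorem order_y1 : orderOf (wordG cert12_E6.c6.c2 F [71]) = 2 :=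
  order_two [71] (by decide) (by decide +kernel) (lt_of_lt_of_le (by norm_num) e6_le_rank_y1)

theorem order_y2 : orderOf (wordG cert12_E6.c6.c2 F [68, 66]) = 2 :=
  order_two [68, 66] (by decide) (by decide +kernel) (lt_of_lt_of_le (by norm_num) e6_le_rank_y2)

theorem order_y3 : orderOf (wordG cert12_E6.c6.c2 F [55, 65, 67]) = 2 :=
  order_two [55, 65, 67] (by decide) (by decide +kernel) (lt_of_lt_of_le (by norm_num) e6_le_rank_y3)

end aux

/-- Conjugacy classes of involutions in the Chevalley group of type E₆ over a finite field F of characteristic two (the matrix group generated by the root elements x_r(t)). In this problem's root numbering for type E₆ (the Chevalley data module; fundamental roots numbered so that p₁–p₃–p₄–p₅–p₆ is the long chain of the diagram and p₂ is joined to p₄; roots indexed by their coefficient vectors in increasing order) let r = 71 be the highest root (1,2,2,3,2,1), α = 68 = (1,1,2,2,1,1), β = 66 =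 (1,1,1,2,2,1), γ = 55 = (0,1,1,2,2,1), δ = 65 = (1,1,1,2,1,1), ε = 67 = (1,1,2,2,1,0) (α ⊥ β and γ, δ, ε pairwise orthogonal); consider x_r(1), x_α(1)x_β(1) and x_γ(1)x_δ(1)x_ε(1). Then: each invertible matrix equal to one of these three products lies in the group and has order 2; every element of order 2 of the group is conjugate in the group to one of them; and no two of them are conjugate in the group (so, the three matrices being distinct, the group has exactly three conjugacy classes of involutions). -/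
theorem result {F : Type*} [Field F] [Fintype F] [CharP F 2] :
    (∀ y : GL Cfsg.Lie.chevE6.Idx F, ((y : GL Cfsg.Lie.chevE6.Idx F) : Matrix Cfsg.Lie.chevE6.Idx Cfsg.Lie.chevE6.Idx F) ∈ [Cfsg.Lie.chevE6.x F 71 1, Cfsg.Lie.chevE6.x F 68 1 * Cfsg.Lie.chevE6.x F 66 1, Cfsg.Lie.chevE6.x F 55 1 * Cfsg.Lie.chevE6.x F 65 1 * Cfsg.Lie.chevE6.x F 67 1] → y ∈ Cfsg.Lie.chevE6.group F ∧ orderOf y = 2) ∧
    (∀ g ∈ Cfsg.Lie.chevE6.group F, orderOf g = 2 → ∃ y ∈ Cfsg.Lie.chevE6.group F, ((y : GL Cfsg.Lie.chevE6.Idx F) : Matrix Cfsg.Lie.chevE6.Idx Cfsg.Lie.chevE6.Idx F) ∈ [Cfsg.Lie.chevE6.x F 71 1, Cfsg.Lie.chevE6.x F 68 1 * Cfsg.Lie.chevE6.x F 66 1, Cfsg.Lie.chevE6.x F 55 1 * Cfsg.Lie.chevE6.x F 65 1 * Cfsg.Lie.chevE6.x F 67 1] ∧ ∃ h ∈ Cfsg.Lie.chevE6.group F, h * g * h⁻¹ = y) ∧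
    (∀ y₁ ∈ Cfsg.Lie.chevE6.group F, ∀ y₂ ∈ Cfsg.Lie.chevE6.group F, ((y₁ : GL Cfsg.Lie.chevE6.Idx F) : Matrix Cfsg.Lie.chevE6.Idx Cfsg.Lie.chevE6.Idx F) ∈ [Cfsg.Lie.chevE6.x F 71 1, Cfsg.Lie.chevE6.x F 68 1 * Cfsg.Lie.chevE6.x F 66 1, Cfsg.Lie.chevE6.x F 55 1 * Cfsg.Lie.chevE6.x F 65 1 * Cfsg.Lie.chevE6.x F 67 1] → ((y₂ : GL Cfsg.Lie.chevE6.Idx F) : Matrix Cfsg.Lie.chevE6.Idx Cfsg.Lie.chevE6.Idx F) ∈ [Cfsg.Lie.chevE6.x F 71 1, Cfsg.Lie.chevE6.x F 68 1 * Cfsg.Lie.chevE6.x F 66 1, Cfsg.Lie.chevE6.x F 55 1 * Cfsg.Lie.chevE6.x F 65 1 * Cfsg.Lie.chevE6.x F 67 1] →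
      (∃ h ∈ Cfsg.Lie.chevE6.group F, h * y₁ * h⁻¹ = y₂) → ((y₁ : GL Cfsg.Lie.chevE6.Idx F) : Matrix Cfsg.Lie.chevE6.Idx Cfsg.Lie.chevE6.Idx F) = ((y₂ : GL Cfsg.Lie.chevE6.Idx F) : Matrix Cfsg.Lie.chevE6.Idx Cfsg.Lie.chevE6.Idx F)) := by
  refine ⟨?_, ?_, ?_⟩
  · intro y hy
    rw [mem_iff] at hy
    rcases hy with hy | hy | hy
    · rw [eq_word y _ hy]
      exact ⟨wordG_mem _ _, order_y1⟩
    · rw [eq_word y _ hy]
      exact ⟨wordG_mem _ _, order_y2⟩
    · rw [eq_word y _ hy]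
      exact ⟨wordG_mem _ _, order_y3⟩
  · intro g hg hg2
    have hgg : g * g = 1 := by
      rw [← sq, ← hg2]
      exact pow_orderOf_eq_one g
    have hg1 : g ≠ 1 := by
      intro e
      rw [e, orderOf_one] at hg2
      exact absurd hg2 (by decide)
    rcases e6_invol_conj g hg hgg hg1 with h | h | h
    · refine ⟨wordG cert12_E6.c6.c2 F [71], wordG_mem _ _, ?_, h⟩
      rw [mem_iff, wordG_val]
      exact Or.inl rfl
    · refine ⟨wordG cert12_E6.c6.c2 F [68, 66], wordG_mem _ _, ?_, h⟩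
      rw [mem_iff, wordG_val]
      exact Or.inr (Or.inl rfl)
    · refine ⟨wordG cert12_E6.c6.c2 F [55, 65, 67], wordG_mem _ _, ?_, h⟩
      rw [mem_iff, wordG_val]
      exact Or.inr (Or.inr rfl)
  · intro y₁ _ y₂ _ h1 h2 hc
    obtain ⟨h, _, e⟩ := hc
    have hr : ((y₂ : Matrix chevE6.Idx chevE6.Idx F) - 1).rank = ((y₁ : Matrix chevE6.Idx chevE6.Idx F) - 1).rank := by
      rw [← e]
      exact rank_sub_one_conj h y₁
    rw [mem_iff] at h1 h2
    have a1 := e6_rank_y1_le (F := F)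
    have a2 := e6_le_rank_y1 (F := F)
    have b1 := e6_rank_y2_le (F := F)
    have b2 := e6_le_rank_y2 (F := F)
    have c1 := e6_rank_y3_le (F := F)
    have c2 := e6_le_rank_y3 (F := F)
    rcases h1 with h1 | h1 | h1 <;> rcases h2 with h2 | h2 | h2 <;> rw [h1, h2] at hr ⊢ <;> omega

end Cfsg.Agent.S2175
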