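import Cfsg.Statements.S2177
import Cfsg.Agent.Lib.H29.ChevInvG2e

set_option autoImplicit false
open Cfsg

namespace Cfsg.Agent.S2177

/-- Conjugacy classes of involutions in the Chevalley group of type G₂ over a finite field F of characteristic two with at least four elements (the matrix group generated by the root elements x_r(t)). In this problem's root numbering for type G₂ (the Chevalley data module; p₁ = a short, p₂ = b long; roots indexed by coefficient vectors in increasing order) let 11 be the highest root 3a + 2b (long) and 9 the short root 2a + b; consider x_{3a+2b}(1) and x_{2a+b}(1). Then: each invertible matrix equal to one of these two products lies in the group and has order 2; every element of order 2 of the group is conjugate in the group to one of them; and no two of them are conjugate in the group (so, the two matrices being distinct, the group has exactly two conjugacy classes of involutions).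 -/
theorem result {F : Type*} [Field F] [Fintype F] [CharP F 2] (hF : 4 ≤ Fintype.card F) :
    (∀ y : GL Cfsg.Lie.chevG2.Idx F, ((y : GL Cfsg.Lie.chevG2.Idx F) : Matrix Cfsg.Lie.chevG2.Idx Cfsg.Lie.chevG2.Idx F) ∈ [Cfsg.Lie.chevG2.x F 11 1, Cfsg.Lie.chevG2.x F 9 1] → y ∈ Cfsg.Lie.chevG2.group F ∧ orderOf y = 2) ∧
    (∀ g ∈ Cfsg.Lie.chevG2.group F, orderOf g = 2 → ∃ y ∈ Cfsg.Lie.chevG2.group F, ((y : GL Cfsg.Lie.chevG2.Idx F) : Matrix Cfsg.Lie.chevG2.Idx Cfsg.Lie.chevG2.Idx F) ∈ [Cfsg.Lie.chevG2.x F 11 1, Cfsg.Lie.chevG2.x F 9 1] ∧ ∃ h ∈ Cfsg.Lie.chevG2.group F, h * g * h⁻¹ = y) ∧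
    (∀ y₁ ∈ Cfsg.Lie.chevG2.group F, ∀ y₂ ∈ Cfsg.Lie.chevG2.group F, ((y₁ : GL Cfsg.Lie.chevG2.Idx F) : Matrix Cfsg.Lie.chevG2.Idx Cfsg.Lie.chevG2.Idx F) ∈ [Cfsg.Lie.chevG2.x F 11 1, Cfsg.Lie.chevG2.x F 9 1] → ((y₂ : GL Cfsg.Lie.chevG2.Idx F) : Matrix Cfsg.Lie.chevG2.Idx Cfsg.Lie.chevG2.Idx F) ∈ [Cfsg.Lie.chevG2.x F 11 1, Cfsg.Lie.chevG2.x F 9 1] →
      (∃ h ∈ Cfsg.Lie.chevG2.group F, h * y₁ * h⁻¹ = y₂) → ((y₁ : GL Cfsg.Lie.chevG2.Idx F) : Matrix Cfsg.Lie.chevG2.Idx Cfsg.Lie.chevG2.Idx F) = ((y₂ : GL Cfsg.Lie.chevG2.Idx F) : Matrix Cfsg.Lie.chevG2.Idx Cfsg.Lie.chevG2.Idx F)) := by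
  open Cfsg.Agent.Lib.H29.Chev in
  have hmem : ∀ y : GL Cfsg.Lie.chevG2.Idx F, ((y : GL Cfsg.Lie.chevG2.Idx F) : Matrix Cfsg.Lie.chevG2.Idx Cfsg.Lie.chevG2.Idx F) ∈ [Cfsg.Lie.chevG2.x F 11 1, Cfsg.Lie.chevG2.x F 9 1] →
      y = cert12_G2.c6.c2.xA 11 1 ∨ y = cert12_G2.c6.c2.xA 9 1 := by
    intro y hy
    simp only [List.mem_cons, List.mem_nil_iff, or_false] at hy
    rcases hy with hy | hy
    · exact Or.inl (gl_ext (by rw [hy, cert12_G2.c6.c2.xA_val]))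
    · exact Or.inr (gl_ext (by rw [hy, cert12_G2.c6.c2.xA_val]))
  refine ⟨?_, ?_, ?_⟩
  · intro y hy
    rcases hmem y hy with rfl | rfl
    · exact ⟨cert12_G2.c6.c2.xA_mem_group 11 1, g2_root_order 11 (by norm_num)⟩
    · exact ⟨cert12_G2.c6.c2.xA_mem_group 9 1, g2_root_order 9 (by norm_num)⟩
  · intro g hg hg2
    have h2 : g * g = 1 := by
      rw [← sq, ← hg2]
      exact pow_orderOf_eq_one g
    have h1 : g ≠ 1 := by
      intro h
      rw [h, orderOf_one] at hg2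
      norm_num at hg2
    rcases g2_involution_conj g hg h2 h1 with ⟨x, hx, hc⟩ | ⟨x, hx, hc⟩
    · refine ⟨cert12_G2.c6.c2.xA 11 1, cert12_G2.c6.c2.xA_mem_group 11 1, ?_, x, hx, hc⟩
      rw [cert12_G2.c6.c2.xA_val]
      simp
    · refine ⟨cert12_G2.c6.c2.xA 9 1, cert12_G2.c6.c2.xA_mem_group 9 1, ?_, x, hx, hc⟩
      rw [cert12_G2.c6.c2.xA_val]
      simp
  · intro y₁ hy₁ y₂ hy₂ m₁ m₂ hconj
    rcases hmem y₁ m₁ with rfl | rfl <;> rcases hmem y₂ m₂ with rfl | rfl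
    · rfl
    · exfalso
      obtain ⟨h, hh, hc⟩ := hconj
      exact g2_not_conj ⟨h, hh, hc⟩
    · exfalso
      obtain ⟨h, hh, hc⟩ := hconj
      exact g2_not_conj (ConjG.symm ⟨h, hh, hc⟩)
    · rfl

end Cfsg.Agent.S2177
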