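import Cfsg.Statements.S2182
import Cfsg.Agent.Lib.H9.TE6Fin

set_option autoImplicit false
open Cfsg

namespace Cfsg.Agent.S2182

/-- The twisted group ²E₆(q), q even, realised inside the Chevalley group of type E₆ over the field K with q² elements, has exactly three conjugacy classes of elements of order 2. -/
theorem result {K : Type*} [Field K] [Fintype K] [CharP K 2] (q : ℕ) (hK : Fintype.card K = q ^ 2) :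
    (ConjClasses.mk '' {g : ↥(Cfsg.Lie.twistedE6 K q) | orderOf g = 2}).ncard = 3 := by
  classical
  obtain ⟨φ, e, W⟩ := Cfsg.Agent.Lib.H9.TE6.te6_setup q hK
  rw [e]
  have hy1 := Cfsg.Agent.Lib.H17.TwE6.z1_mem (K := K) W
  have hy2 := Cfsg.Agent.Lib.H17.TwE6.z2_mem (K := K) W
  have hy3 := Cfsg.Agent.Lib.H17.TwE6.z3_mem (K := K) W
  have hord : ∀ (y : GL Cfsg.Lie.chevE6.Idx K)
      (hy : y ∈ Cfsg.Agent.Lib.H29.Chev.Cert12.G1 Cfsg.Agent.Lib.H29.Chev.cert12_E6 Cfsg.Agent.Lib.H29.Chev.gaE6a 2 φ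
        Cfsg.Agent.Lib.H29.Chev.srE6a), y * y = 1 → y ≠ 1 →
      orderOf (⟨y, hy⟩ : ↥(Cfsg.Agent.Lib.H29.Chev.Cert12.G1 Cfsg.Agent.Lib.H29.Chev.cert12_E6
        Cfsg.Agent.Lib.H29.Chev.gaE6a 2 φ Cfsg.Agent.Lib.H29.Chev.srE6a)) = 2 := by
    intro y hy h2 h1
    rw [Cfsg.Agent.Lib.H9.TE6.orderOf_eq_two_iff']
    exact ⟨Subtype.ext h2, fun h => h1 (congrArg Subtype.val h)⟩
  have hnc : ∀ (y y' : GL Cfsg.Lie.chevE6.Idx K)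
      (hy : y ∈ Cfsg.Agent.Lib.H29.Chev.Cert12.G1 Cfsg.Agent.Lib.H29.Chev.cert12_E6 Cfsg.Agent.Lib.H29.Chev.gaE6a 2 φ
        Cfsg.Agent.Lib.H29.Chev.srE6a)
      (hy' : y' ∈ Cfsg.Agent.Lib.H29.Chev.Cert12.G1 Cfsg.Agent.Lib.H29.Chev.cert12_E6 Cfsg.Agent.Lib.H29.Chev.gaE6a 2 φ
        Cfsg.Agent.Lib.H29.Chev.srE6a), (¬ ∃ c : GL Cfsg.Lie.chevE6.Idx K, c * y * c⁻¹ = y') →
      ¬ IsConj (⟨y, hy⟩ : ↥(Cfsg.Agent.Lib.H29.Chev.Cert12.G1 Cfsg.Agent.Lib.H29.Chev.cert12_E6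
        Cfsg.Agent.Lib.H29.Chev.gaE6a 2 φ Cfsg.Agent.Lib.H29.Chev.srE6a)) ⟨y', hy'⟩ := by
    intro y y' hy hy' h hc
    obtain ⟨c, hc⟩ := isConj_iff.mp hc
    exact h ⟨(c : GL Cfsg.Lie.chevE6.Idx K), congrArg Subtype.val hc⟩
  have hcj : ∀ (g : ↥(Cfsg.Agent.Lib.H29.Chev.Cert12.G1 Cfsg.Agent.Lib.H29.Chev.cert12_E6
        Cfsg.Agent.Lib.H29.Chev.gaE6a 2 φ Cfsg.Agent.Lib.H29.Chev.srE6a)) (y : GL Cfsg.Lie.chevE6.Idx K)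
      (hy : y ∈ Cfsg.Agent.Lib.H29.Chev.Cert12.G1 Cfsg.Agent.Lib.H29.Chev.cert12_E6 Cfsg.Agent.Lib.H29.Chev.gaE6a 2 φ
        Cfsg.Agent.Lib.H29.Chev.srE6a),
      Cfsg.Agent.Lib.H29.Chev.ConjS (Cfsg.Agent.Lib.H29.Chev.Cert12.G1 Cfsg.Agent.Lib.H29.Chev.cert12_E6
        Cfsg.Agent.Lib.H29.Chev.gaE6a 2 φ Cfsg.Agent.Lib.H29.Chev.srE6a) (g : GL Cfsg.Lie.chevE6.Idx K) y →
      IsConj g ⟨y, hy⟩ := by
    intro g y hy ⟨x, hx, e⟩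
    exact isConj_iff.mpr ⟨⟨x, hx⟩, Subtype.ext e⟩
  apply Cfsg.Agent.Lib.H9.TE6.ncard_inv_classes_eq_three ⟨_, hy1⟩ ⟨_, hy2⟩ ⟨_, hy3⟩
  · exact hord _ hy1 Cfsg.Agent.Lib.H17.TwE6.z1_sq Cfsg.Agent.Lib.H17.TwE6.z1_ne_one
  · exact hord _ hy2 Cfsg.Agent.Lib.H17.TwE6.z2_sq Cfsg.Agent.Lib.H17.TwE6.z2_ne_one
  · exact hord _ hy3 Cfsg.Agent.Lib.H17.TwE6.z3_sq Cfsg.Agent.Lib.H17.TwE6.z3_ne_one
  · exact hnc _ _ hy1 hy2 Cfsg.Agent.Lib.H17.TwE6.z12_not_conj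
  · exact hnc _ _ hy1 hy3 Cfsg.Agent.Lib.H17.TwE6.z13_not_conj
  · exact hnc _ _ hy2 hy3 Cfsg.Agent.Lib.H17.TwE6.z23_not_conj
  · intro g hg
    obtain ⟨hg2, hg1⟩ := (Cfsg.Agent.Lib.H9.TE6.orderOf_eq_two_iff' g).mp hg
    rcases Cfsg.Agent.Lib.H9.TE6.te6_inv_conj W g hg2 hg1 with h | h | h
    · exact Or.inl (hcj g _ hy1 h)
    · exact Or.inr (Or.inl (hcj g _ hy2 h))
    · exact Or.inr (Or.inr (hcj g _ hy3 h))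

end Cfsg.Agent.S2182
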