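import Cfsg.Statements.S2221
import Cfsg.Agent.Lib.H9.AltSylJ
-- import your own Cfsg.Agent.* helpers here

set_option autoImplicit false
open Cfsg

namespace Cfsg.Agent.S2221

open Cfsg.Agent.Lib.H9.AltSyl in
theorem main_aux (m ρ : ℕ) (hm : 1 ≤ m) (hρ : ρ < 4)
    (P : Sylow 2 (alternatingGroup (Fin (4 * m + ρ)))) :
    Decomp ↥(P : Subgroup (alternatingGroup (Fin (4 * m + ρ)))) ↔
      (4 * m + ρ = 4 ∨ 4 * m + ρ = 5 ∨ ((ρ = 2 ∨ ρ = 3) ∧ ∀ r : ℕ, 4 * m ≠ 2 ^ r)) := by
  let L := m.bitIndices
  let ℓ : Fin L.length → ℕ := fun i => L[i.1]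
  have hsum : ∑ i, 2 ^ ℓ i = m := by
    have h1 := Fin.sum_univ_fun_getElem L (fun i => 2 ^ i)
    have h2 := Nat.sum_map_two_pow_bitIndices m
    exact h1.trans h2
  have hc : Fintype.card (Fin L.length) = m.bitIndices.length := Fintype.card_fin _
  have hLpos : 0 < L.length := by
    by_contra h
    have h0 : L = [] := List.length_eq_zero_iff.mp (by omega)
    have h2 := Nat.sum_map_two_pow_bitIndices m
    have h0' : m.bitIndices = [] := h0
    rw [h0'] at h2
    simp at h2
    omega
  have hne : Nonempty (Fin L.length) := ⟨⟨0, hLpos⟩⟩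
  have hpow : ∀ r : ℕ, 4 * m = 2 ^ r → L.length = 1 := by
    intro r hr
    have hr2 : 2 ≤ r := by
      by_contra h
      have : r = 0 ∨ r = 1 := by omega
      rcases this with rfl | rfl <;> omega
    obtain ⟨k, rfl⟩ : ∃ k, r = k + 2 := ⟨r - 2, by omega⟩
    have hmk : m = 2 ^ k := by
      rw [pow_add] at hr
      omega
    show m.bitIndices.length = 1
    rw [hmk, Nat.bitIndices_two_pow]
    rfl
  by_cases hlen : L.length = 1
  · -- one block
    have hU : Unique (Fin L.length) :=
      ⟨⟨⟨0, hLpos⟩⟩, fun i => Fin.ext (by have := i.2; show i.1 = 0; omega)⟩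
    have hmk : m = 2 ^ ℓ default := by
      rw [← hsum, Fintype.sum_unique]
    by_cases hρ1 : ρ ≤ 1
    · obtain ⟨e⟩ := alt_sylow_low ℓ (4 * m + ρ) m ρ hm hρ1 rfl hsum hc P
      rw [decomp_congr_iff e, decomp_kerRSg_unique_iff]
      constructor
      · intro h0
        rw [h0] at hmk
        omega
      · intro h
        have hm1 : m = 1 := by omega
        rw [hm1] at hmk
        by_contra hne0
        have : 2 ≤ 2 ^ ℓ default := by
          calc 2 = 2 ^ 1 := by norm_num
            _ ≤ 2 ^ ℓ default := Nat.pow_le_pow_right (by norm_num) (by omega)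
        omega
    · obtain ⟨e⟩ := alt_sylow_high ℓ (4 * m + ρ) m ρ hm (by omega) rfl hsum hc P
      rw [decomp_congr_iff e]
      constructor
      · intro h
        exact absurd h (not_decomp_RGrp_unique ℓ)
      · rintro (h | h | ⟨_, h⟩)
        · omega
        · omega
        · exfalso
          apply h (ℓ default + 2)
          rw [pow_add, ← hmk]
          ring
  · -- at least two blocks
    have hlen2 : 2 ≤ L.length := by omega
    have hij : (⟨0, by omega⟩ : Fin L.length) ≠ ⟨1, by omega⟩ := by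
      intro h
      have := congrArg Fin.val h
      simp at this
    by_cases hρ1 : ρ ≤ 1
    · obtain ⟨e⟩ := alt_sylow_low ℓ (4 * m + ρ) m ρ hm hρ1 rfl hsum hc P
      rw [decomp_congr_iff e]
      constructor
      · intro h
        exact absurd h (not_decomp_kerRSg_of_ne ℓ _ _ hij)
      · rintro (h | h | ⟨h, _⟩)
        · exfalso
          apply hlen
          have hm1 : m = 1 := by omega
          show m.bitIndices.length = 1
          rw [hm1]
          rfl
        · exfalso
          apply hlen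
          have hm1 : m = 1 := by omega
          show m.bitIndices.length = 1
          rw [hm1]
          rfl
        · omega
    · obtain ⟨e⟩ := alt_sylow_high ℓ (4 * m + ρ) m ρ hm (by omega) rfl hsum hc P
      rw [decomp_congr_iff e]
      constructor
      · intro _
        right; right
        refine ⟨by omega, ?_⟩
        intro r hr
        exact hlen (hpow r hr)
      · intro _
        exact decomp_RGrp_of_ne ℓ _ _ hij


/-- Direct decomposability of the Sylow 2-subgroups of the alternating groups. Let n ≥ 4 and let P be a Sylow 2-subgroup of the alternating group of degree n. Then P is the internal direct product of two nontrivial subgroups if and only if n = 4, n = 5, or n ≡ 2, 3 (mod 4) with 4⌊n/4⌋ not a power of 2. In the remaining cases (n ≡ 0, 1 (mod 4) with n ≥ 8, or n ≡ 2, 3 (mod 4) with 4⌊n/4⌋ a power of 2) P is directly indecomposable. -/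
theorem result (n : ℕ) (hn : 4 ≤ n)
    (P : Sylow 2 (alternatingGroup (Fin n))) :
    (∃ S₁ S₂ : Subgroup (alternatingGroup (Fin n)), S₁ ≠ ⊥ ∧ S₂ ≠ ⊥ ∧
        Cfsg.IsInternalDirectProduct S₁ S₂ (P : Subgroup (alternatingGroup (Fin n)))) ↔
      (n = 4 ∨ n = 5 ∨ ((n % 4 = 2 ∨ n % 4 = 3) ∧ ∀ r : ℕ, 4 * (n / 4) ≠ 2 ^ r)) := by
  have h0 : (∃ S₁ S₂ : Subgroup (alternatingGroup (Fin n)), S₁ ≠ ⊥ ∧ S₂ ≠ ⊥ ∧
        Cfsg.IsInternalDirectProduct S₁ S₂ (P : Subgroup (alternatingGroup (Fin n)))) ↔
      Cfsg.Agent.Lib.H9.AltSyl.Decomp ↥(P : Subgroup (alternatingGroup (Fin n))) :=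
    Cfsg.Agent.Lib.H9.AltSyl.decomp_subgroup_iff _
  rw [h0]
  obtain ⟨m, ρ, hρ, rfl⟩ : ∃ m ρ, ρ < 4 ∧ n = 4 * m + ρ :=
    ⟨n / 4, n % 4, Nat.mod_lt _ (by norm_num), (Nat.div_add_mod n 4).symm⟩
  have e1 : (4 * m + ρ) % 4 = ρ := by omega
  have e2 : (4 * m + ρ) / 4 = m := by omega
  rw [e1, e2]
  exact main_aux m ρ (by omega) hρ P


end Cfsg.Agent.S2221
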