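import Cfsg.Statements.S2222
import Cfsg.Agent.Lib.H9.PronA
import Cfsg.Agent.Lib.H9.PronD
-- import your own Cfsg.Agent.* helpers here

set_option autoImplicit false
open Cfsg

namespace Cfsg.Agent.S2222

open Cfsg.Agent.Lib.H9.Pron

theorem card_alt_five : Nat.card (alternatingGroup (Fin 5)) = 60 := by
  have h2 := two_mul_nat_card_alternatingGroup (α := Fin 5)
  rw [Nat.card_perm, Nat.card_fin] at h2
  have : Nat.factorial 5 = 120 := by decide
  omega

theorem pronormal_five (H : Subgroup (alternatingGroup (Fin 5))) (hH : Odd H.index)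
    (S : Sylow 2 (alternatingGroup (Fin 5))) (hS : (S : Subgroup (alternatingGroup (Fin 5))) ≤ H) :
    Cfsg.IsPronormal H := by
  have : Fact (Nat.Prime 2) := ⟨Nat.prime_two⟩
  have hc := card_alt_five
  have hci := Subgroup.card_mul_index H
  rw [hc] at hci
  have hidx : H.index ∣ 15 := by
    have h1 : H.index ∣ 4 * 15 := ⟨Nat.card H, by rw [mul_comm H.index, hci]⟩
    have hcop : Nat.Coprime H.index 4 := by
      have : Nat.Coprime H.index 2 := Nat.coprime_two_right.mpr hH
      exact Nat.Coprime.pow_right 2 this
    exact hcop.dvd_of_dvd_mul_left h1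
  have hidx_le : H.index ≤ 15 := Nat.le_of_dvd (by norm_num) hidx
  have hidx_cases : H.index = 1 ∨ H.index = 3 ∨ H.index = 5 ∨ H.index = 15 := by
    obtain ⟨i, hi⟩ : ∃ i, H.index = i := ⟨_, rfl⟩
    rw [hi] at hidx hidx_le ⊢
    interval_cases i <;> omega
  by_cases h15 : H.index = 15
  · have hH4 : Nat.card H = 4 := by rw [h15] at hci; omega
    have h4S : 2 ^ 2 ∣ Nat.card (S : Subgroup (alternatingGroup (Fin 5))) := by
      apply Sylow.pow_dvd_card_of_pow_dvd_card
      rw [hc]
      norm_num
    have hSH : Nat.card (S : Subgroup (alternatingGroup (Fin 5))) ∣ Nat.card H :=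
      Subgroup.card_dvd_of_le hS
    have hS4 : Nat.card H ≤ Nat.card (S : Subgroup (alternatingGroup (Fin 5))) := by
      rw [hH4]
      exact Nat.le_of_dvd Nat.card_pos h4S
    have hEq : (S : Subgroup (alternatingGroup (Fin 5))) = H := Subgroup.eq_of_le_of_card_ge hS hS4
    apply pronormal_of_sylow S H hS
    rw [hEq]
  · apply pronormal_of_maximal
    intro K hK
    obtain ⟨m, hm⟩ : Nat.card H ∣ Nat.card K := Subgroup.card_dvd_of_le hK
    obtain ⟨m', hm'⟩ : Nat.card K ∣ 60 := hc ▸ Subgroup.card_subgroup_dvd_card K
    have hKpos : 0 < Nat.card K := Nat.card_pos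
    have hKcases : Nat.card K = Nat.card H ∨ Nat.card K = 60 := by
      have hmle : m ≤ 5 := by
        by_contra hcon
        push Not at hcon
        have h12 : 12 ≤ Nat.card H := by
          rcases hidx_cases with h | h | h | h <;> rw [h] at hci <;> omega
        have : 60 < Nat.card K := by
          rw [hm]
          calc 60 < 12 * 6 := by norm_num
            _ ≤ Nat.card H * m := Nat.mul_le_mul h12 hcon
        have : Nat.card K ≤ 60 := Nat.le_of_dvd (by norm_num) ⟨m', hm'⟩
        omega
      have hm'pos : 0 < m' := by
        rcases Nat.eq_zero_or_pos m' with h | h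
        · rw [h] at hm'; omega
        · exact h
      rcases hidx_cases with h | h | h | h
      · rw [h] at hci
        have : Nat.card H = 60 := by omega
        rw [this] at hm ⊢
        interval_cases m <;> rw [hm] at hm' <;> omega
      · rw [h] at hci
        have : Nat.card H = 20 := by omega
        rw [this] at hm ⊢
        interval_cases m <;> rw [hm] at hm' <;> omega
      · rw [h] at hci
        have : Nat.card H = 12 := by omega
        rw [this] at hm ⊢
        interval_cases m <;> rw [hm] at hm' <;> omega
      · exact absurd h h15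
    rcases hKcases with h | h
    · left
      exact (Subgroup.eq_of_le_of_card_ge hK h.le).symm
    · right
      rw [← Subgroup.card_eq_iff_eq_top, h, hc]


/-- In the alternating group of degree n ≥ 5 every subgroup H of odd index is pronormal: for every element g, the subgroups H and gHg⁻¹ are conjugate by an element of the subgroup they generate. -/
theorem result (n : ℕ) (hn : 5 ≤ n)
    (H : Subgroup (alternatingGroup (Fin n))) (hH : Odd H.index) : Cfsg.IsPronormal H := by
  have : Fact (Nat.Prime 2) := ⟨Nat.prime_two⟩
  have h2 : ¬ 2 ∣ H.index := by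
    intro h
    exact (Nat.not_even_iff_odd.mpr hH) (even_iff_two_dvd.mpr h)
  obtain ⟨S, hS⟩ := exists_sylow_le H h2
  by_cases h6 : 6 ≤ n
  · apply pronormal_of_sylow S H hS
    rw [alt_sylow_self_normalizing n h6 S]
    exact hS.trans Subgroup.le_normalizer
  · have hn5 : n = 5 := by omega
    subst hn5
    exact pronormal_five H hH S hS


end Cfsg.Agent.S2222
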