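import Cfsg.Statements.S2231
import Mathlib
-- import your own Cfsg.Agent.* helpers here

set_option autoImplicit false
open Cfsg

namespace Cfsg.Agent.S2231

open Matrix

/-- all p-subgroups are commutative -/
def AllPSubComm (p : ℕ) (A : Type*) [Group A] : Prop :=
  ∀ T : Subgroup A, IsPGroup p T → ∀ a ∈ T, ∀ b ∈ T, a * b = b * a

/-- key 2×2 fact: if `g` has determinant one and fixes `v`, then `(g - 1) x` is "parallel" to `v`. -/
theorem sl2_sub_one_parallel {K : Type*} [Field K] (g : Matrix (Fin 2) (Fin 2) K) (hdet : g.det = 1)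
    (v : Fin 2 → K) (hv : g *ᵥ v = v) (x : Fin 2 → K) :
    ((g - 1) *ᵥ x) 0 * v 1 - ((g - 1) *ᵥ x) 1 * v 0 = 0 := by
  have h0 : g 0 0 * v 0 + g 0 1 * v 1 = v 0 := by
    have := congrFun hv 0
    simpa [Matrix.mulVec, dotProduct, Fin.sum_univ_two] using this
  have h1 : g 1 0 * v 0 + g 1 1 * v 1 = v 1 := by
    have := congrFun hv 1
    simpa [Matrix.mulVec, dotProduct, Fin.sum_univ_two] using this
  rw [Matrix.det_fin_two] at hdet
  rw [Matrix.sub_mulVec, Matrix.one_mulVec]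
  simp only [Pi.sub_apply, Matrix.mulVec, dotProduct, Fin.sum_univ_two]
  -- goal: ((g00 x0 + g01 x1) - x0) * v1 - ((g10 x0 + g11 x1) - x1) * v0 = 0
  have e1 : (g 0 0 * x 0 + g 0 1 * x 1) * (g 1 0 * v 0 + g 1 1 * v 1)
      - (g 1 0 * x 0 + g 1 1 * x 1) * (g 0 0 * v 0 + g 0 1 * v 1)
      = (g 0 0 * g 1 1 - g 0 1 * g 1 0) * (x 0 * v 1 - x 1 * v 0) := by ring
  rw [h0, h1, hdet, one_mul] at e1
  linear_combination e1

theorem parallel_of_det_zero {K : Type*} [Field K] (v : Fin 2 → K) (hv : v ≠ 0) (y : Fin 2 → K)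
    (hy : y 0 * v 1 - y 1 * v 0 = 0) : ∃ c : K, y = c • v := by
  by_cases h0 : v 0 = 0
  · have h1 : v 1 ≠ 0 := by
      intro h1
      apply hv
      ext i
      fin_cases i <;> simp [h0, h1]
    refine ⟨y 1 / v 1, ?_⟩
    ext i
    fin_cases i
    · simp only [Fin.zero_eta, Pi.smul_apply, smul_eq_mul, h0, mul_zero]
      rw [h0, mul_zero, sub_zero] at hy
      rcases mul_eq_zero.1 hy with h | h
      · exact h
      · exact absurd h h1
    · simp only [Fin.mk_one, Pi.smul_apply, smul_eq_mul]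
      field_simp
  · refine ⟨y 0 / v 0, ?_⟩
    ext i
    fin_cases i
    · simp only [Fin.zero_eta, Pi.smul_apply, smul_eq_mul]
      field_simp
    · simp only [Fin.mk_one, Pi.smul_apply, smul_eq_mul]
      field_simp
      linear_combination -hy

theorem sl2_commute_of_common_fixed {K : Type*} [Field K] (g h : Matrix (Fin 2) (Fin 2) K)
    (hg : g.det = 1) (hh : h.det = 1) (v : Fin 2 → K) (hv : v ≠ 0) (hgv : g *ᵥ v = v) (hhv : h *ᵥ v = v) :
    g * h = h * g := by
  have key : ∀ (a b : Matrix (Fin 2) (Fin 2) K), a.det = 1 → a *ᵥ v = v → b *ᵥ v = v →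
      (b - 1) * (a - 1) = 0 := by
    intro a b ha hav hbv
    have hb0 : (b - 1) *ᵥ v = 0 := by rw [Matrix.sub_mulVec, hbv, Matrix.one_mulVec, sub_self]
    apply Matrix.toLin'.injective
    apply LinearMap.ext
    intro x
    rw [Matrix.toLin'_apply, map_zero, LinearMap.zero_apply, ← Matrix.mulVec_mulVec]
    obtain ⟨c, hc⟩ := parallel_of_det_zero v hv _ (sl2_sub_one_parallel a ha v hav x)
    rw [hc, Matrix.mulVec_smul, hb0, smul_zero]
  have k1 := key g h hg hgv hhv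
  have k2 := key h g hh hhv hgv
  have e1 : h * g = h + g - 1 := by
    have h1 : (h - 1) * (g - 1) = h * g - h - g + 1 := by noncomm_ring
    rw [h1] at k1
    calc h * g = (h * g - h - g + 1) + (h + g - 1) := by abel
      _ = h + g - 1 := by rw [k1, zero_add]
  have e2 : g * h = g + h - 1 := by
    have h1 : (g - 1) * (h - 1) = g * h - g - h + 1 := by noncomm_ring
    rw [h1] at k2
    calc g * h = (g * h - g - h + 1) + (g + h - 1) := by abel
      _ = g + h - 1 := by rw [k2, zero_add]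
  rw [e1, e2, add_comm]

theorem sl2_allPSubComm {p : ℕ} [Fact p.Prime] {K : Type*} [Field K] [Fintype K] [CharP K p] :
    AllPSubComm p (Matrix.SpecialLinearGroup (Fin 2) K) := by
  intro T hT a ha b hb
  letI act : MulAction T (Fin 2 → K) :=
    { smul := fun g v => (g : Matrix.SpecialLinearGroup (Fin 2) K).1 *ᵥ v
      one_smul := by
        intro v
        change (1 : Matrix (Fin 2) (Fin 2) K) *ᵥ v = v
        rw [Matrix.one_mulVec]
      mul_smul := by
        intro g h v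
        change ((g : Matrix.SpecialLinearGroup (Fin 2) K).1 * (h : Matrix.SpecialLinearGroup (Fin 2) K).1) *ᵥ v = _
        rw [← Matrix.mulVec_mulVec]
        rfl }
  have hsmul : ∀ (g : T) (v : Fin 2 → K), g • v = (g : Matrix.SpecialLinearGroup (Fin 2) K).1 *ᵥ v := fun g v => rfl
  have hdvd : p ∣ Nat.card (Fin 2 → K) := by
    obtain ⟨n, hn⟩ := FiniteField.card K p
    rw [Nat.card_eq_fintype_card, Fintype.card_fun, hn.2, Fintype.card_fin]
    have : (n : ℕ) ≠ 0 := n.ne_zero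
    exact dvd_pow (dvd_pow_self p this) (by norm_num)
  have h0 : (0 : Fin 2 → K) ∈ MulAction.fixedPoints T (Fin 2 → K) := by
    intro g
    rw [hsmul, Matrix.mulVec_zero]
  obtain ⟨v, hvfix, hv0⟩ := hT.exists_fixed_point_of_prime_dvd_card_of_fixed_point (Fin 2 → K) hdvd h0
  have hfix : ∀ g : T, (g : Matrix.SpecialLinearGroup (Fin 2) K).1 *ᵥ v = v := fun g => hvfix g
  apply Subtype.ext
  rw [Matrix.SpecialLinearGroup.coe_mul, Matrix.SpecialLinearGroup.coe_mul]
  exact sl2_commute_of_common_fixed a.1 b.1 a.2 b.2 v (Ne.symm hv0) (hfix ⟨a, ha⟩) (hfix ⟨b, hb⟩)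

/-- upper unitriangular 3×3 -/
def UT3 {R : Type*} [CommRing R] (M : Matrix (Fin 3) (Fin 3) R) : Prop :=
  M 1 0 = 0 ∧ M 2 0 = 0 ∧ M 2 1 = 0 ∧ M 0 0 = 1 ∧ M 1 1 = 1 ∧ M 2 2 = 1

theorem UT3_one {R : Type*} [CommRing R] : UT3 (1 : Matrix (Fin 3) (Fin 3) R) := by
  unfold UT3
  simp

theorem UT3_mul {R : Type*} [CommRing R] {A B : Matrix (Fin 3) (Fin 3) R} (hA : UT3 A) (hB : UT3 B) :
    UT3 (A * B) := by
  obtain ⟨a1, a2, a3, a4, a5, a6⟩ := hA
  obtain ⟨b1, b2, b3, b4, b5, b6⟩ := hB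
  unfold UT3
  simp [Matrix.mul_apply, Fin.sum_univ_three, a1, a2, a3, a4, a5, a6, b1, b2, b3, b4, b5, b6]

theorem UT3_sub_one_cube {R : Type*} [CommRing R] {A : Matrix (Fin 3) (Fin 3) R} (hA : UT3 A) :
    (A - 1) ^ 3 = 0 := by
  obtain ⟨a1, a2, a3, a4, a5, a6⟩ := hA
  ext i j
  fin_cases i <;> fin_cases j <;>
    simp [pow_three, Matrix.mul_apply, Fin.sum_univ_three, a1, a2, a3, a4, a5, a6]

theorem UT3_pow_p {p : ℕ} [Fact p.Prime] (hp3 : 3 ≤ p) {A : Matrix (Fin 3) (Fin 3) (ZMod p)} (hA : UT3 A) :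
    A ^ p = 1 := by
  have hchar : CharP (Matrix (Fin 3) (Fin 3) (ZMod p)) p := inferInstance
  have h1 : (A - 1) ^ p = A ^ p - 1 := by
    rw [sub_pow_char_of_commute p (Commute.one_right _), one_pow]
  have h2 : (A - 1) ^ p = 0 := pow_eq_zero_of_le hp3 (UT3_sub_one_cube hA)
  rw [h2] at h1
  exact (sub_eq_zero.1 h1.symm)

/-- The unitriangular submonoid of SL₃. -/
def UT3Submonoid (R : Type*) [CommRing R] : Submonoid (Matrix.SpecialLinearGroup (Fin 3) R) where
  carrier := {g | UT3 g.1}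
  one_mem' := UT3_one
  mul_mem' := fun {a b} ha hb => by
    change UT3 (a * b).1
    rw [Matrix.SpecialLinearGroup.coe_mul]
    exact UT3_mul ha hb

theorem UT3_pow_p' {p : ℕ} [Fact p.Prime] (hp3 : 3 ≤ p) {g : Matrix.SpecialLinearGroup (Fin 3) (ZMod p)}
    (hg : UT3 g.1) : g ^ p = 1 := by
  apply Subtype.ext
  rw [Matrix.SpecialLinearGroup.coe_pow, Matrix.SpecialLinearGroup.coe_one]
  exact UT3_pow_p hp3 hg

/-- The unitriangular subgroup of SL₃(ZMod p), `p ≥ 3`. -/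
def UT3Subgroup (p : ℕ) [Fact p.Prime] (hp3 : 3 ≤ p) : Subgroup (Matrix.SpecialLinearGroup (Fin 3) (ZMod p)) where
  toSubmonoid := UT3Submonoid (ZMod p)
  inv_mem' := fun {g} hg => by
    have h1 : g ^ p = 1 := UT3_pow_p' hp3 hg
    have h2 : g⁻¹ = g ^ (p - 1) := by
      rw [inv_eq_iff_mul_eq_one, ← pow_succ']
      have : p - 1 + 1 = p := by omega
      rw [this, h1]
    rw [h2]
    exact (UT3Submonoid (ZMod p)).pow_mem hg (p - 1)

theorem UT3Subgroup_isPGroup (p : ℕ) [Fact p.Prime] (hp3 : 3 ≤ p) : IsPGroup p (UT3Subgroup p hp3) := by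
  intro g
  refine ⟨1, ?_⟩
  apply Subtype.ext
  rw [pow_one]
  exact UT3_pow_p' hp3 g.2

theorem AllPSubComm.of_surjective {p : ℕ} [Fact p.Prime] {A B : Type*} [Group A] [Group B] [Finite A]
    (f : A →* B) (hf : Function.Surjective f) (h : AllPSubComm p A) : AllPSubComm p B := by
  intro U hU a ha b hb
  haveI : Finite B := Finite.of_surjective f hf
  obtain ⟨Q, hQ⟩ := hU.exists_le_sylow
  let S : Sylow p A := Classical.arbitrary _
  obtain ⟨g, hg⟩ := MulAction.exists_smul_eq B (S.mapSurjective hf) Q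
  have hmem : ∀ c ∈ U, ∃ s ∈ S, g * f s * g⁻¹ = c := by
    intro c hc
    have hc' : c ∈ (g • S.mapSurjective hf : Sylow p B) := by rw [hg]; exact hQ hc
    rw [← SetLike.mem_coe, Sylow.coe_smul] at hc'
    obtain ⟨y, hy, rfl⟩ := hc'
    obtain ⟨s, hs, rfl⟩ := hy
    exact ⟨s, hs, rfl⟩
  obtain ⟨s, hs, rfl⟩ := hmem a ha
  obtain ⟨t, ht, rfl⟩ := hmem b hb
  have hst : s * t = t * s := h S S.isPGroup' s hs t ht
  calc g * f s * g⁻¹ * (g * f t * g⁻¹) = g * f (s * t) * g⁻¹ := by rw [map_mul]; group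
    _ = g * f (t * s) * g⁻¹ := by rw [hst]
    _ = g * f t * g⁻¹ * (g * f s * g⁻¹) := by rw [map_mul]; group

theorem AllPSubComm.subgroup {p : ℕ} {A : Type*} [Group A] (h : AllPSubComm p A) (K : Subgroup A) :
    AllPSubComm p K := by
  intro T hT a ha b hb
  have := h (T.map K.subtype) (hT.map _) a ⟨a, ha, rfl⟩ b ⟨b, hb, rfl⟩
  exact Subtype.ext this

/-- Let p be an odd prime and K a finite field of characteristic p. Then Qd(p) (the natural semidirect product of an elementary abelian group of order p² by SL₂(p)) is not involved in the projective special linear group PSL₂(K). -/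
theorem result {p : ℕ} [Fact p.Prime] (hp : p ≠ 2) {K : Type*} [Field K] [Fintype K] [CharP K p] : ¬ Cfsg.Involves ↥(Cfsg.qd p) (Matrix.ProjectiveSpecialLinearGroup (Fin 2) K) := by
  classical
  rintro ⟨K', R', hnorm, ⟨e⟩⟩
  have hpp : p.Prime := Fact.out
  have hp3 : 3 ≤ p := by
    have := hpp.two_le
    omega
  have h1 : AllPSubComm p (Matrix.SpecialLinearGroup (Fin 2) K) := sl2_allPSubComm
  have h2 : AllPSubComm p (Matrix.ProjectiveSpecialLinearGroup (Fin 2) K) :=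
    h1.of_surjective (QuotientGroup.mk' _) (QuotientGroup.mk'_surjective _)
  have h3 : AllPSubComm p K' := h2.subgroup K'
  have h4 : AllPSubComm p (K' ⧸ R'.subgroupOf K') :=
    h3.of_surjective (QuotientGroup.mk' _) (QuotientGroup.mk'_surjective _)
  have h5 : AllPSubComm p ↥(Cfsg.qd p) := h4.of_surjective e.toMonoidHom e.surjective
  -- the two transvections
  let x0 : Matrix.SpecialLinearGroup (Fin 3) (ZMod p) :=
    ⟨!![1, 1, 0; 0, 1, 0; 0, 0, 1], by rw [Matrix.det_fin_three]; simp⟩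
  let y0 : Matrix.SpecialLinearGroup (Fin 3) (ZMod p) :=
    ⟨!![1, 0, 0; 0, 1, 1; 0, 0, 1], by rw [Matrix.det_fin_three]; simp⟩
  have hx0 : x0 ∈ Cfsg.qd p := Subgroup.subset_closure (by
    refine ⟨?_, ?_, ?_⟩ <;> simp [x0])
  have hy0 : y0 ∈ Cfsg.qd p := Subgroup.subset_closure (by
    refine ⟨?_, ?_, ?_⟩ <;> simp [y0])
  have hxU : x0 ∈ UT3Subgroup p hp3 := by
    change UT3 x0.1
    unfold UT3
    simp [x0]
  have hyU : y0 ∈ UT3Subgroup p hp3 := by
    change UT3 y0.1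
    unfold UT3
    simp [y0]
  let U : Subgroup ↥(Cfsg.qd p) := (UT3Subgroup p hp3).subgroupOf (Cfsg.qd p)
  have hU : IsPGroup p U := by
    intro g
    obtain ⟨k, hk⟩ := UT3Subgroup_isPGroup p hp3 ⟨g.1.1, g.2⟩
    refine ⟨k, ?_⟩
    apply Subtype.ext
    apply Subtype.ext
    have := congrArg Subtype.val hk
    simpa using this
  have hcomm := h5 U hU ⟨x0, hx0⟩ hxU ⟨y0, hy0⟩ hyU
  have hcomm' : x0 * y0 = y0 * x0 := congrArg Subtype.val hcomm
  have hm : (x0.1 * y0.1) 0 2 = (y0.1 * x0.1) 0 2 := by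
    rw [← Matrix.SpecialLinearGroup.coe_mul, ← Matrix.SpecialLinearGroup.coe_mul, hcomm']
  have hx01 : x0.1 = !![1, 1, 0; 0, 1, 0; 0, 0, 1] := rfl
  have hy01 : y0.1 = !![1, 0, 0; 0, 1, 1; 0, 0, 1] := rfl
  rw [hx01, hy01] at hm
  simp [Matrix.mul_apply, Fin.sum_univ_three] at hm

end Cfsg.Agent.S2231
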