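import Mathlib
import Cfsg.Statements.S2240
import Cfsg.Agent.Lib.H2.Sz14

set_option autoImplicit false
open Cfsg

namespace Cfsg.Agent.S2240

open Cfsg.Agent.Lib.H2.Sz Cfsg.Agent.Lib.H2

/-- Elementary abelian TI-subgroups of the Suzuki group: let q = 2^(2m+1) with m ≥ 1, the group realised as the stabiliser in SL₄ of the Suzuki–Tits ovoid, and n ≥ 2. There is an elementary abelian 2-subgroup E of order 2^n that is a TI-subgroup (every conjugate of E meeting E nontrivially is E itself) if and only if n divides 2m + 1. -/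
theorem result {F : Type*} [Field F] [Fintype F] {m : ℕ} (hm : 1 ≤ m) (hF : Fintype.card F = 2 ^ (2 * m + 1)) (n : ℕ) (hn : 2 ≤ n) :
    (∃ E : Subgroup ↥(Cfsg.Sz F m), Cfsg.IsElementaryAbelian 2 E ∧ Nat.card ↥E = 2 ^ n ∧
      ∀ x : ↥(Cfsg.Sz F m), E ⊓ E.map (MulAut.conj x).toMonoidHom ≠ ⊥ → x ∈ Subgroup.normalizer (E : Set ↥(Cfsg.Sz F m))) ↔ n ∣ 2 * m + 1 := by
  classical
  have h := fld_of_card hF
  constructor
  · rintro ⟨E, hE, hcard, hTI⟩
    exact dvd_of_ti h hm hF (by omega) E hE hcard hTI
  · intro hdvd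
    have : CharP F 2 := h.charP
    have : Fact (Nat.Prime 2) := ⟨Nat.prime_two⟩
    let V : AddSubgroup F :=
      { carrier := {x | x ^ (2 ^ n) = x}
        add_mem' := by
          intro x y hx hy
          simp only [Set.mem_ofPred_eq] at hx hy ⊢
          rw [add_pow_char_pow, hx, hy]
        zero_mem' := by
          simp only [Set.mem_ofPred_eq]
          rw [zero_pow]
          positivity
        neg_mem' := by
          intro x hx
          simp only [Set.mem_ofPred_eq] at hx ⊢
          rw [h.neg, hx] }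
    have hVmem : ∀ x : F, x ∈ V ↔ x ^ (2 ^ n) = x := fun x => Iff.rfl
    refine ⟨EV h V, isElementaryAbelian_EV h V, ?_, ?_⟩
    · rw [card_EV, ← SubF.card_fixed_pow hF hdvd, Nat.card_eq_fintype_card, Fintype.card_subtype]
      congr 1
    · apply ti_EV h hm hF V
      intro b hb b' hb' _ v hv
      rw [hVmem] at hb hb' hv ⊢
      rw [mul_pow, div_pow, hb, hb', hv]

end Cfsg.Agent.S2240
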