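import Mathlib
import Cfsg.Statements.S2241
import Cfsg.Agent.Lib.H2.Sz10

set_option autoImplicit false
open Cfsg

namespace Cfsg.Agent.S2241

open Cfsg.Agent.Lib.H2.Sz Matrix

/-- `θ u = 1 + u` has no solution -/
theorem no_θ_eq_one_add {F : Type*} [Field F] {m : ℕ} (h : Fld F m) (u : F) : θ m u ≠ 1 + u := by
  intro hu
  have h2 := h.two
  have h1 : θ m (θ m u) = 1 + θ m u := by rw [hu, θ_add h, θ_one, ← hu]
  rw [θ_θ h, hu] at h1
  have h3 : u * (u - 1) = 0 := by linear_combination h1 + h2
  rcases mul_eq_zero.1 h3 with h4 | h4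
  · rw [h4, θ_zero] at hu
    simp at hu
  · have h5 : u = 1 := sub_eq_zero.1 h4
    rw [h5, θ_one] at hu
    have : (1 : F) = 0 := by linear_combination -hu
    exact one_ne_zero this

/-- the key computation: `T a b` with `a ≠ 0` is not conjugate to its inverse -/
theorem not_conj_T {F : Type*} [Field F] [Fintype F] {m : ℕ} (h : Fld F m) (hm : 1 ≤ m)
    (hF : Fintype.card F = 2 ^ (2 * m + 1)) {a b : F} (ha : a ≠ 0)
    {x : SpecialLinearGroup (Fin 4) F} (hx : x ∈ Sz F m)
    (hconj : x * T m a b = (T m a b)⁻¹ * x) : False := by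
  -- `x` fixes `∞`
  have hab : ¬ (a = 0 ∧ b = 0) := fun h0 => ha h0.1
  have hfix : x • (pinf : Projectivization F (Fin 4 → F)) = pinf := by
    apply eq_pinf_of_T_smul h hab (smul_mem_of_mem_Sz hx pinf_mem)
    have h1 : (T m a b)⁻¹ • x • (pinf : Projectivization F (Fin 4 → F)) = x • pinf := by
      rw [← mul_smul, ← hconj, mul_smul, T_smul_pinf]
    rw [inv_smul_eq_iff] at h1
    exact h1.symm
  obtain ⟨c, d, k, rfl⟩ := exists_TD_of_fix_pinf h hm hF hx hfix
  rw [T_inv h, mul_assoc, D_mul_T h hm hF, ← mul_assoc, ← mul_assoc, T_mul h, T_mul h] at hconj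
  obtain ⟨e1, e2, -⟩ := TD_injective h hconj
  have hk : (k : F) = 1 := by
    have : ((k : F) - 1) * a = 0 := by linear_combination e1
    rcases mul_eq_zero.1 this with h4 | h4
    · exact sub_eq_zero.1 h4
    · exact absurd h4 ha
  rw [hk, θ_one] at e2
  have hθa : θ m a ≠ 0 := fun h0 => ha (θ_eq_zero.1 h0)
  apply no_θ_eq_one_add h (c / a)
  rw [θ_div]
  field_simp
  linear_combination e2

/-- Real 2-elements of the Suzuki group: with q = 2^(2m+1), m ≥ 1, and the group realised as the stabiliser in SL₄ of the Suzuki–Tits ovoid, a non-identity element of a Sylow 2-subgroup is conjugate to its inverse if and only if it is an involution; in particular no element of order 4 is conjugate to its inverse. -/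
theorem result {F : Type*} [Field F] [Fintype F] {m : ℕ} (hm : 1 ≤ m) (hF : Fintype.card F = 2 ^ (2 * m + 1)) (P : Sylow 2 ↥(Cfsg.Sz F m)) (g : ↥(Cfsg.Sz F m)) (hg : g ∈ (P : Subgroup ↥(Cfsg.Sz F m))) (h1 : g ≠ 1) :
    IsConj g g⁻¹ ↔ orderOf g = 2 := by
  have h := fld_of_card hF
  constructor
  · intro hc
    obtain ⟨s, hs⟩ := exists_conj_TS h hm hF P
    obtain ⟨a, b, hab⟩ := (hs g).1 hg
    rw [isConj_iff] at hc
    obtain ⟨c, hc⟩ := hc
    -- the conjugate `s g s⁻¹ = T a b`
    have hab' : s * g * s⁻¹ = ⟨T m a b, T_mem h a b⟩ := Subtype.ext hab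
    by_cases ha : a = 0
    · -- `g` is an involution
      subst ha
      have hsq : (s * g * s⁻¹) ^ 2 = 1 := by
        rw [hab']
        apply Subtype.ext
        show (T m 0 b) ^ 2 = 1
        rw [pow_two, T_mul h, θ_zero, ← T_zero (m := m)]
        congr 1
        · ring
        · linear_combination b * h.two
      have hg2 : g ^ 2 = 1 := by
        have : (s * g * s⁻¹) ^ 2 = s * g ^ 2 * s⁻¹ := by rw [pow_two, pow_two]; group
        rw [this] at hsq
        have : g ^ 2 = s⁻¹ * (s * g ^ 2 * s⁻¹) * s := by group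
        rw [this, hsq]
        group
      exact orderOf_eq_prime hg2 h1
    · exfalso
      -- conjugate everything by `s`
      have hx : ((s * c * s⁻¹ : Sz F m) : SpecialLinearGroup (Fin 4) F) ∈ Sz F m := (s * c * s⁻¹).2
      apply not_conj_T h hm hF ha hx
      have e : (s * c * s⁻¹) * (s * g * s⁻¹) = (s * g * s⁻¹)⁻¹ * (s * c * s⁻¹) := by
        have : c * g = g⁻¹ * c := by
          rw [← hc]
          group
        calc (s * c * s⁻¹) * (s * g * s⁻¹) = s * (c * g) * s⁻¹ := by group
          _ = s * (g⁻¹ * c) * s⁻¹ := by rw [this]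
          _ = (s * g * s⁻¹)⁻¹ * (s * c * s⁻¹) := by group
      rw [hab'] at e
      exact congrArg Subtype.val e
  · intro ho
    have : g⁻¹ = g := by
      have h2 : g ^ 2 = 1 := by rw [← ho]; exact pow_orderOf_eq_one g
      rw [pow_two] at h2
      exact inv_eq_of_mul_eq_one_left h2
    rw [this]

end Cfsg.Agent.S2241
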