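import Cfsg.Statements.S2244
import Cfsg.Agent.Lib.H29.ChevCert13
import Cfsg.Agent.Lib.H29.WcH
import Cfsg.Agent.Lib.H29.WcTabG2
import Cfsg.Agent.Lib.H29.WcTabB2
import Cfsg.Agent.Lib.H29.WcTabD4
import Cfsg.Agent.Lib.H29.WcTabF4
import Cfsg.Agent.Lib.H29.WcTabE6
import Cfsg.Agent.Lib.H29.WcTabE7
import Cfsg.Agent.Lib.H29.WcTabE8

set_option autoImplicit false
open Cfsg

namespace Cfsg.Agent.S2244

/-- Weakly closed unipotent subgroups of Chevalley groups: let G be the Chevalley group of type G₂, B₂, D₄, F₄, E₆, E₇ or E₈ over a finite field F (the matrix group generated by the root elements), with |F| ≠ 2, and |F| ≠ 3 as well for the types G₂, B₂, D₄, F₄. Let U be the subgroup generated by the positive root subgroups. If X ≤ U is weakly closed in U with respect to G (every G-conjugate of X lying in U equals X), then X is the unipotent radical U_J of a standard parabolic subgroup for some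 set J of fundamental roots. -/
theorem result {F : Type*} [Field F] [Fintype F] (D : Cfsg.Lie.ChevalleyDatum) (hD : D ∈ [Cfsg.Lie.chevG2, Cfsg.Lie.chevB2, Cfsg.Lie.chevD4, Cfsg.Lie.chevF4, Cfsg.Lie.chevE6, Cfsg.Lie.chevE7, Cfsg.Lie.chevE8])
    (h2 : Fintype.card F ≠ 2) (h3 : D ∈ [Cfsg.Lie.chevG2, Cfsg.Lie.chevB2, Cfsg.Lie.chevD4, Cfsg.Lie.chevF4] → Fintype.card F ≠ 3)
    (X : Subgroup (GL D.Idx F)) (hXU : X ≤ D.posUnipotent F)
    (hwc : ∀ g ∈ D.group F, X.map (MulAut.conj g).toMonoidHom ≤ D.posUnipotent F → X.map (MulAut.conj g).toMonoidHom = X) :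
    ∃ J : Set ℕ, (∀ j ∈ J, j < D.rank) ∧ X = D.unipotentRadical F J := by
  have h1 := Fintype.one_lt_card (α := F)
  simp only [List.mem_cons, List.not_mem_nil, or_false] at hD
  rcases hD with rfl | rfl | rfl | rfl | rfl | rfl | rfl
  · have h3' := h3 (by simp)
    exact Cfsg.Agent.Lib.H29.Chev.cert12_G2.wc_of_tab true false Cfsg.Agent.Lib.H29.Chev.wcWitG2 Cfsg.Agent.Lib.H29.Chev.wcDerG2 Cfsg.Agent.Lib.H29.Chev.wcProdG2 Cfsg.Agent.Lib.H29.Chev.wcSmallG2 h2 (fun h => absurd h h3')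
      (fun _ => by omega) X hXU hwc
  · have h3' := h3 (by simp)
    exact Cfsg.Agent.Lib.H29.Chev.cert12_B2.wc_of_tab false false Cfsg.Agent.Lib.H29.Chev.wcWitB2 Cfsg.Agent.Lib.H29.Chev.wcDerB2 Cfsg.Agent.Lib.H29.Chev.wcProdB2 Cfsg.Agent.Lib.H29.Chev.wcSmallB2 h2 (fun h => absurd h h3')
      (fun h => Bool.noConfusion h) X hXU hwc
  · have h3' := h3 (by simp)
    exact Cfsg.Agent.Lib.H29.Chev.cert12_D4.wc_of_tab false false Cfsg.Agent.Lib.H29.Chev.wcWitD4 Cfsg.Agent.Lib.H29.Chev.wcDerD4 Cfsg.Agent.Lib.H29.Chev.wcProdD4 Cfsg.Agent.Lib.H29.Chev.wcSmallD4 h2 (fun h => absurd h h3')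
      (fun h => Bool.noConfusion h) X hXU hwc
  · have h3' := h3 (by simp)
    exact Cfsg.Agent.Lib.H29.Chev.cert12_F4.wc_of_tab false false Cfsg.Agent.Lib.H29.Chev.wcWitF4 Cfsg.Agent.Lib.H29.Chev.wcDerF4 Cfsg.Agent.Lib.H29.Chev.wcProdF4 Cfsg.Agent.Lib.H29.Chev.wcSmallF4 h2 (fun h => absurd h h3')
      (fun h => Bool.noConfusion h) X hXU hwc
  · exact Cfsg.Agent.Lib.H29.Chev.cert12_E6.wc_of_tab false true Cfsg.Agent.Lib.H29.Chev.wcWitE6 Cfsg.Agent.Lib.H29.Chev.wcDerE6 Cfsg.Agent.Lib.H29.Chev.wcProdE6 Cfsg.Agent.Lib.H29.Chev.wcSmallE6 h2 (fun _ => rfl)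
      (fun h => Bool.noConfusion h) X hXU hwc
  · exact Cfsg.Agent.Lib.H29.Chev.cert12_E7.wc_of_tab false true Cfsg.Agent.Lib.H29.Chev.wcWitE7 Cfsg.Agent.Lib.H29.Chev.wcDerE7 Cfsg.Agent.Lib.H29.Chev.wcProdE7 Cfsg.Agent.Lib.H29.Chev.wcSmallE7 h2 (fun _ => rfl)
      (fun h => Bool.noConfusion h) X hXU hwc
  · exact Cfsg.Agent.Lib.H29.Chev.cert12_E8.wc_of_tab false true Cfsg.Agent.Lib.H29.Chev.wcWitE8 Cfsg.Agent.Lib.H29.Chev.wcDerE8 Cfsg.Agent.Lib.H29.Chev.wcProdE8 Cfsg.Agent.Lib.H29.Chev.wcSmallE8 h2 (fun _ => rfl)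
      (fun h => Bool.noConfusion h) X hXU hwc

end Cfsg.Agent.S2244
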