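import Cfsg.Statements.S2245
import Cfsg.Agent.Lib.H25.MaxM

set_option autoImplicit false
open Cfsg

namespace Cfsg.Agent.S2245

open Cfsg.Agent.Lib.H25.Mx in
/-- For n ≥ 5 with n ≠ 6, a Sylow 2-subgroup of the alternating group A_n lies in exactly one maximal subgroup of A_n if and only if n = 2^k + 1 for some k ≥ 2; the same holds for the symmetric group S_n. -/
theorem result (n : ℕ) (hn : 5 ≤ n) (h6 : n ≠ 6) :
    ((∀ R : Sylow 2 ↥(alternatingGroup (Fin n)), (∃! M : Subgroup ↥(alternatingGroup (Fin n)), IsCoatom M ∧ (R : Subgroup ↥(alternatingGroup (Fin n))) ≤ M) ↔ ∃ k : ℕ, 2 ≤ k ∧ n = 2 ^ k + 1) ∧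
    (∀ R : Sylow 2 (Equiv.Perm (Fin n)), (∃! M : Subgroup (Equiv.Perm (Fin n)), IsCoatom M ∧ (R : Subgroup (Equiv.Perm (Fin n))) ≤ M) ↔ ∃ k : ℕ, 2 ≤ k ∧ n = 2 ^ k + 1)) := by
  by_cases hex : ∃ k : ℕ, 2 ≤ k ∧ n = 2 ^ k + 1
  · obtain ⟨k, hk, rfl⟩ := hex
    obtain ⟨h1, h2⟩ := uc_of_pow_add_one k hk
    exact ⟨fun R => ⟨fun _ => ⟨k, hk, rfl⟩, fun _ => h1 R⟩,
      fun R => ⟨fun _ => ⟨k, hk, rfl⟩, fun _ => h2 R⟩⟩
  · have key : (∀ Rn : Sylow 2 (alternatingGroup (Fin n)),
          ¬ UC (Rn : Subgroup (alternatingGroup (Fin n)))) ∧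
        (∀ Rn : Sylow 2 (Equiv.Perm (Fin n)),
          ¬ UC (Rn : Subgroup (Equiv.Perm (Fin n)))) := by
      by_cases hm : ∃ j : ℕ, n / 2 = 2 ^ j
      · obtain ⟨j, hj⟩ := hm
        have hdm := Nat.div_add_mod n 2
        rcases Nat.mod_two_eq_zero_or_one n with h0 | h1
        · -- `n = 2 ^ (j + 1)`
          have hn' : n = 2 ^ (j + 1) := by
            rw [pow_succ]
            omega
          have hj2 : 2 ≤ j := by
            by_contra hlt
            have : j = 0 ∨ j = 1 := by omega
            rcases this with rfl | rfl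
            · norm_num at hn'
              omega
            · norm_num at hn'
              omega
          obtain ⟨j', rfl⟩ : ∃ j', j = j' + 2 := ⟨j - 2, by omega⟩
          rw [hn']
          exact not_uc_of_pow j'
        · exfalso
          apply hex
          refine ⟨j + 1, ?_, ?_⟩
          · by_contra hlt
            have : j = 0 := by omega
            subst this
            norm_num at hj
            omega
          · rw [pow_succ]
            omega
      · push Not at hm
        exact not_uc_of_half_not_pow n (by omega) hm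
    exact ⟨fun R => ⟨fun h => absurd h (key.1 R), fun h => absurd h hex⟩,
      fun R => ⟨fun h => absurd h (key.2 R), fun h => absurd h hex⟩⟩

end Cfsg.Agent.S2245
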