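import Mathlib
import Cfsg.Statements.S2247
import Cfsg.Agent.Lib.H2.Sz12

set_option autoImplicit false
open Cfsg

namespace Cfsg.Agent.S2247

open Cfsg.Agent.Lib.H2.Sz

/-- In the Suzuki group with q = 2^(2m+1), m ≥ 1 (realised as the stabiliser in SL₄ of the Suzuki–Tits ovoid), the normalizer of a Sylow 2-subgroup P is a maximal subgroup and is the only maximal subgroup containing P. -/
theorem result {F : Type*} [Field F] [Fintype F] {m : ℕ} (hm : 1 ≤ m) (hF : Fintype.card F = 2 ^ (2 * m + 1)) (P : Sylow 2 ↥(Cfsg.Sz F m)) :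
    IsCoatom (Subgroup.normalizer ((P : Subgroup ↥(Cfsg.Sz F m)) : Set ↥(Cfsg.Sz F m))) ∧
    ∀ M : Subgroup ↥(Cfsg.Sz F m), IsCoatom M → (P : Subgroup ↥(Cfsg.Sz F m)) ≤ M → M = Subgroup.normalizer ((P : Subgroup ↥(Cfsg.Sz F m)) : Set ↥(Cfsg.Sz F m)) := by
  have h := fld_of_card hF
  obtain ⟨s, hs⟩ := exists_conj_TS h hm hF P
  have hmap : (P : Subgroup (Sz F m)).map (MulAut.conj s).toMonoidHom = TS h := by
    ext g
    rw [Subgroup.mem_map]
    constructor
    · rintro ⟨x, hx, rfl⟩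
      exact (hs x).1 hx
    · intro hg
      refine ⟨s⁻¹ * g * s, (hs _).2 ?_, ?_⟩
      · have : s * (s⁻¹ * g * s) * s⁻¹ = g := by group
        rwa [this]
      · show s * (s⁻¹ * g * s) * s⁻¹ = g
        group
  apply transport_coatom_normalizer (P : Subgroup (Sz F m)) s
  rw [hmap, normalizer_TS h hm hF]
  exact ⟨isCoatom_stabilizer_pinf h, fun M hM hT => eq_stabilizer_of_coatom h hm hF hM hT⟩

end Cfsg.Agent.S2247
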