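import Cfsg.Statements.S2250
import Cfsg.Agent.Lib.H9.InvRankC
-- import your own Cfsg.Agent.* helpers here

set_option autoImplicit false
open Cfsg

namespace Cfsg.Agent.S2250

/-- The normal 2-rank of the symplectic group over a finite field of odd order: for n ≥ 1 and S a Sylow 2-subgroup of Sp_{2n}(F), the largest rank of an elementary abelian subgroup of S that is normal in S equals n. -/
theorem result {F : Type*} [Field F] [Fintype F] (hF : Odd (Fintype.card F)) (n : ℕ) (hn : 1 ≤ n) (S : Sylow 2 ↥(Matrix.symplecticGroup (Fin n) F)) :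
    ((∃ E : Subgroup ↥(S : Subgroup ↥(Matrix.symplecticGroup (Fin n) F)), E.Normal ∧ Cfsg.IsElementaryAbelian 2 E ∧ 2 ^ (n) ≤ Nat.card ↥E) ∧
      ∀ E : Subgroup ↥(S : Subgroup ↥(Matrix.symplecticGroup (Fin n) F)), E.Normal → Cfsg.IsElementaryAbelian 2 E → Nat.card ↥E ≤ 2 ^ (n)) := by
  have h2 := Cfsg.Agent.Lib.H9.SqC.two_ne_zero_of_odd_card hF
  constructor
  · obtain ⟨E, hEn, hEc, hEs, hEcard⟩ := Cfsg.Agent.Lib.H9.InvRank.exists_normal_elementary hF n S
    exact ⟨E, hEn, ⟨⟨⟨hEc⟩⟩, hEs⟩, hEcard⟩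
  · intro E _ hE
    obtain ⟨hcomm, hsq⟩ := hE
    let H : Subgroup ↥(Matrix.symplecticGroup (Fin n) F) :=
      E.map (S : Subgroup ↥(Matrix.symplecticGroup (Fin n) F)).subtype
    have hcard : Nat.card ↥H = Nat.card ↥E :=
      Subgroup.card_map_of_injective (Subgroup.subtype_injective _)
    rw [← hcard]
    apply Cfsg.Agent.Lib.H9.InvRank.card_le_of_elementary h2 H
    · rintro _ ⟨x, hx, rfl⟩ _ ⟨y, hy, rfl⟩
      have h1 : (⟨x, hx⟩ : ↥E) * ⟨y, hy⟩ = ⟨y, hy⟩ * ⟨x, hx⟩ := hcomm.is_comm.comm _ _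
      have h3 : x * y = y * x := congrArg Subtype.val h1
      rw [← map_mul, ← map_mul, h3]
    · rintro _ ⟨x, hx, rfl⟩
      have h1 := hsq x hx
      rw [← map_mul, ← pow_two, h1, map_one]

end Cfsg.Agent.S2250
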