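-- Statement S2254, proved by helper25.
import Cfsg.Statements.S2254
import Cfsg.Agent.Lib.H25.NilAlt3Main
import Cfsg.Agent.Lib.H25.NilAlt3Exist

set_option autoImplicit false
open Cfsg

namespace Cfsg.Agent.S2254

open Cfsg.Agent.Lib.H18 Cfsg.Agent.Lib.H25.NA

/-- Let n ≡ 3 (mod 4). Then every nilpotent subgroup of the symmetric group on n letters has order at most 3 times the order of a Sylow 2-subgroup of the symmetric group on n − 3 letters; the bound is attained by a nilpotent subgroup isomorphic to the direct product of such a Sylow 2-subgroup with a cyclic group of order 3; and any two nilpotent subgroups attaining the bound are conjugate. -/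
theorem result  (n : ℕ) (hn : n % 4 = 3)
    (P : Sylow 2 (Equiv.Perm (Fin (n - 3)))) :
    (∀ N : Subgroup (Equiv.Perm (Fin n)), Group.IsNilpotent N → Nat.card N ≤ 3 * Nat.card P) ∧
    (∃ M : Subgroup (Equiv.Perm (Fin n)), Group.IsNilpotent M ∧ Nat.card M = 3 * Nat.card P ∧
      Nonempty (M ≃* (↥(P : Subgroup (Equiv.Perm (Fin (n - 3)))) × Multiplicative (ZMod 3)))) ∧
    (∀ N₁ N₂ : Subgroup (Equiv.Perm (Fin n)), Group.IsNilpotent N₁ → Group.IsNilpotent N₂ →
      Nat.card N₁ = 3 * Nat.card P → Nat.card N₂ = 3 * Nat.card P →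
      ∃ g : Equiv.Perm (Fin n), N₂ = N₁.map (MulAut.conj g).toMonoidHom) := by
  have hP : Nat.card P = sylTwo (n - 3) := card_sylow_two_perm (n - 3) P
  have hcard : Fintype.card (Fin n) = n := Fintype.card_fin n
  refine ⟨?_, ?_, ?_⟩
  · intro N hN
    have h1 := card_nilpotent_perm_le n N hN
    unfold nilTgt at h1
    rw [if_pos hn] at h1
    rw [hP]; exact h1
  · obtain ⟨M, hM, hMc, hMe, _⟩ :=
      exists_prod_three n (by omega) (P : Subgroup (Equiv.Perm (Fin (n - 3)))) P.isPGroup'
    exact ⟨M, hM, hMc, hMe⟩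
  · intro N₁ N₂ hN₁ hN₂ h₁ h₂
    rw [hP] at h₁ h₂
    exact conj_sym N₁ N₂ (by rw [hcard]; exact hn) (by rw [hcard]; exact h₁)
      (by rw [hcard]; exact h₂)

end Cfsg.Agent.S2254
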