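-- Statement S2255, proved by helper25.
import Cfsg.Statements.S2255
import Cfsg.Agent.Lib.H25.NilAltSyl

set_option autoImplicit false
open Cfsg

namespace Cfsg.Agent.S2255

open Cfsg.Agent.Lib.H18 Cfsg.Agent.Lib.H25.NA

/-- Let n be a natural number not congruent to 3 modulo 4, with n ∉ {5, 6, 9}. Then every nilpotent subgroup of the alternating group on n letters has order at most the order of a Sylow 2-subgroup of the alternating group (so the nilpotent subgroups of largest order are exactly the Sylow 2-subgroups). -/
theorem result  (n : ℕ) (hn : n % 4 ≠ 3)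
    (h5 : n ≠ 5) (h6 : n ≠ 6) (h9 : n ≠ 9)
    (N : Subgroup (alternatingGroup (Fin n))) (hN : Group.IsNilpotent N)
    (P : Sylow 2 (alternatingGroup (Fin n))) :
    Nat.card N ≤ Nat.card P := by
  by_cases h2 : 2 ≤ n
  · set M : Subgroup (Equiv.Perm (Fin n)) := N.map (alternatingGroup (Fin n)).subtype with hM
    have hinj : Function.Injective (alternatingGroup (Fin n)).subtype :=
      (alternatingGroup (Fin n)).subtype_injective
    have hcard : Nat.card M = Nat.card N := Subgroup.card_map_of_injective hinj
    have : Group.IsNilpotent M :=
      Group.nilpotent_of_surjective ((alternatingGroup (Fin n)).subtype.subgroupMap N)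
        ((alternatingGroup (Fin n)).subtype.subgroupMap_surjective N)
    have halt : M ≤ alternatingGroup (Fin n) := Subgroup.map_subtype_le _
    have h1 := two_mul_card_le_of_alt n h2 hn h5 h6 h9 M halt
    have h3 := two_mul_card_sylow_alt n h2 P
    omega
  · have hsub : Subsingleton (Equiv.Perm (Fin n)) := by
      have hle : n ≤ 1 := by omega
      have : Subsingleton (Fin n) := Fin.subsingleton_iff_le_one.mpr hle
      infer_instance
    have : Subsingleton (alternatingGroup (Fin n)) := inferInstance
    have h1 : Nat.card N = 1 := Nat.card_unique
    have h3 : 0 < Nat.card P := Nat.card_pos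
    omega

end Cfsg.Agent.S2255
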