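-- Statement S2256, proved by helper25.
import Cfsg.Statements.S2256
import Cfsg.Agent.Lib.H25.NilAlt3Main
import Cfsg.Agent.Lib.H25.NilAlt3Exist
import Cfsg.Agent.Lib.H25.NilAlt3Bound

set_option autoImplicit false
open Cfsg

namespace Cfsg.Agent.S2256

open Cfsg.Agent.Lib.H18 Cfsg.Agent.Lib.H25.NA

/-- Let n ≡ 3 (mod 4) with n ≥ 7. Then every nilpotent subgroup of the alternating group on n letters has order at most 3 times the order of a Sylow 2-subgroup of the alternating group on n − 3 letters; the bound is attained by a nilpotent subgroup isomorphic to the direct product of such a Sylow 2-subgroup with a cyclic group of order 3; and any two nilpotent subgroups of the alternating group attaining the bound are conjugate in it. -/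
theorem result  (n : ℕ) (hn : n % 4 = 3) (h7 : 7 ≤ n)
    (P : Sylow 2 (alternatingGroup (Fin (n - 3)))) :
    (∀ N : Subgroup (alternatingGroup (Fin n)), Group.IsNilpotent N → Nat.card N ≤ 3 * Nat.card P) ∧
    (∃ M : Subgroup (alternatingGroup (Fin n)), Group.IsNilpotent M ∧ Nat.card M = 3 * Nat.card P ∧
      Nonempty (M ≃* (↥(P : Subgroup (alternatingGroup (Fin (n - 3)))) × Multiplicative (ZMod 3)))) ∧
    (∀ N₁ N₂ : Subgroup (alternatingGroup (Fin n)), Group.IsNilpotent N₁ → Group.IsNilpotent N₂ →
      Nat.card N₁ = 3 * Nat.card P → Nat.card N₂ = 3 * Nat.card P →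
      ∃ g : alternatingGroup (Fin n), N₂ = N₁.map (MulAut.conj g).toMonoidHom) := by
  have hP : 2 * Nat.card P = sylTwo (n - 3) := two_mul_card_sylow_alt (n - 3) (by omega) P
  have hcard : Fintype.card (Fin n) = n := Fintype.card_fin n
  have hinj : Function.Injective (alternatingGroup (Fin n)).subtype :=
    (alternatingGroup (Fin n)).subtype_injective
  -- transfer of subgroups of `A_n` to `S_n`
  have htrans : ∀ N : Subgroup (alternatingGroup (Fin n)), Group.IsNilpotent N →
      Group.IsNilpotent (N.map (alternatingGroup (Fin n)).subtype) ∧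
      N.map (alternatingGroup (Fin n)).subtype ≤ alternatingGroup (Fin n) ∧
      Nat.card (N.map (alternatingGroup (Fin n)).subtype) = Nat.card N := by
    intro N hN
    refine ⟨?_, Subgroup.map_subtype_le _, Subgroup.card_map_of_injective hinj⟩
    exact Group.nilpotent_of_surjective ((alternatingGroup (Fin n)).subtype.subgroupMap N)
      ((alternatingGroup (Fin n)).subtype.subgroupMap_surjective N)
  refine ⟨?_, ?_, ?_⟩
  · intro N hN
    obtain ⟨hnil, halt, hc⟩ := htrans N hN
    have h1 := two_mul_card_le_of_alt_three n h7 hn _ halt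
    rw [hc] at h1
    omega
  · have hP'2 : IsPGroup 2 ((P : Subgroup (alternatingGroup (Fin (n - 3)))).map
        (alternatingGroup (Fin (n - 3))).subtype) := P.isPGroup'.map _
    have hP'alt : (P : Subgroup (alternatingGroup (Fin (n - 3)))).map
        (alternatingGroup (Fin (n - 3))).subtype ≤ alternatingGroup (Fin (n - 3)) :=
      Subgroup.map_subtype_le _
    obtain ⟨M', hM'nil, hM'c, ⟨e'⟩, hM'alt⟩ := exists_prod_three n (by omega) _ hP'2
    have hle : M' ≤ alternatingGroup (Fin n) := hM'alt hP'alt
    have e1 : M'.subgroupOf (alternatingGroup (Fin n)) ≃* M' := Subgroup.subgroupOfEquivOfLe hle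
    have e2 : (P : Subgroup (alternatingGroup (Fin (n - 3)))) ≃*
        (P : Subgroup (alternatingGroup (Fin (n - 3)))).map
          (alternatingGroup (Fin (n - 3))).subtype :=
      (P : Subgroup (alternatingGroup (Fin (n - 3)))).equivMapOfInjective
        (alternatingGroup (Fin (n - 3))).subtype (alternatingGroup (Fin (n - 3))).subtype_injective
    have e3 : M'.subgroupOf (alternatingGroup (Fin n)) ≃*
        (↥(P : Subgroup (alternatingGroup (Fin (n - 3)))) × Multiplicative (ZMod 3)) :=
      (e1.trans e').trans (MulEquiv.prodCongr e2.symm (MulEquiv.refl _))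
    refine ⟨M'.subgroupOf (alternatingGroup (Fin n)), Group.nilpotent_of_mulEquiv e1.symm, ?_, ⟨e3⟩⟩
    rw [Nat.card_congr e1.toEquiv, hM'c, ← Nat.card_congr e2.toEquiv]
  · intro N₁ N₂ hN₁ hN₂ h₁ h₂
    obtain ⟨hnil₁, halt₁, hc₁⟩ := htrans N₁ hN₁
    obtain ⟨hnil₂, halt₂, hc₂⟩ := htrans N₂ hN₂
    obtain ⟨g, hgA, hg⟩ := conj_alt (N₁.map (alternatingGroup (Fin n)).subtype)
      (N₂.map (alternatingGroup (Fin n)).subtype) halt₁ halt₂ (by rw [hcard]; exact hn)
      (by rw [hcard]; exact h7) (Nat.card P) (by rw [hcard]; exact hP) (by rw [hc₁, h₁])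
      (by rw [hc₂, h₂])
    refine ⟨⟨g, hgA⟩, ?_⟩
    apply Subgroup.map_injective hinj
    rw [hg, Subgroup.map_map, Subgroup.map_map]
    congr 1

end Cfsg.Agent.S2256
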