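import Mathlib
import Cfsg.Statements.S2257
import Cfsg.Agent.Lib.H2.PSol5
-- import your own Cfsg.Agent.* helpers here

set_option autoImplicit false
open Cfsg

namespace Cfsg.Agent.S2257

open Cfsg.Agent.Lib.H2.PSol Cfsg.Agent.Lib.H2.CTSol

theorem isSolvable_closure_congr {G H : Type*} [Group G] [Group H] (e : G ≃* H) (x y : G) :
    Group.IsSolvable (Subgroup.closure ({e x, e y} : Set H)) ↔
      Group.IsSolvable (Subgroup.closure ({x, y} : Set G)) := by
  have hmap : (Subgroup.closure ({x, y} : Set G)).map e.toMonoidHom =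
      Subgroup.closure ({e x, e y} : Set H) := by
    rw [MonoidHom.map_closure, Set.image_pair]
    rfl
  rw [← hmap]
  let φ := (Subgroup.closure ({x, y} : Set G)).equivMapOfInjective e.toMonoidHom e.injective
  constructor
  · intro hs
    exact Group.isSolvable_of_isSolvable_injective (f := φ.toMonoidHom) φ.injective
  · intro hs
    exact Group.isSolvable_of_surjective (f := φ.toMonoidHom) φ.surjective

theorem two_eq_zero_of_even {F : Type*} [Field F] [Fintype F] (h : Even (Fintype.card F)) :
    (2 : F) = 0 := by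
  have h1 : ringChar F = 2 := FiniteField.even_card_iff_char_two.mpr (Nat.even_iff.mp h)
  have : CharP F 2 := ringChar.of_eq h1
  exact CharTwo.two_eq_zero


/-- Let G = PSL_2(F) with F a field of order q = 2^p, p prime, and for x ∈ G call the solubilizer of x the set of y ∈ G such that x and y generate a solvable subgroup. Then the solubilizer of an involution has 3q(q − 1) elements; that of a non-identity element of order dividing q − 1 has 2q(q − 1) elements; and that of a non-identity element of order dividing q + 1 has 2(q + 1) elements. -/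
theorem result (p : ℕ) (hp : p.Prime) {F : Type*} [Field F] [Fintype F]
    (hF : Fintype.card F = 2 ^ p) (x : Matrix.ProjectiveSpecialLinearGroup (Fin 2) F) :
    (orderOf x = 2 → Nat.card {y : Matrix.ProjectiveSpecialLinearGroup (Fin 2) F // Group.IsSolvable ↥(Subgroup.closure ({x, y} : Set (Matrix.ProjectiveSpecialLinearGroup (Fin 2) F)))} = 3 * 2 ^ p * (2 ^ p - 1)) ∧
    (x ≠ 1 → orderOf x ∣ 2 ^ p - 1 → Nat.card {y : Matrix.ProjectiveSpecialLinearGroup (Fin 2) F // Group.IsSolvable ↥(Subgroup.closure ({x, y} : Set (Matrix.ProjectiveSpecialLinearGroup (Fin 2) F)))} = 2 * 2 ^ p * (2 ^ p - 1)) ∧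
    (x ≠ 1 → orderOf x ∣ 2 ^ p + 1 → Nat.card {y : Matrix.ProjectiveSpecialLinearGroup (Fin 2) F // Group.IsSolvable ↥(Subgroup.closure ({x, y} : Set (Matrix.ProjectiveSpecialLinearGroup (Fin 2) F)))} = 2 * (2 ^ p + 1)) := by
  have heven : Even (Fintype.card F) := by
    rw [hF]; exact (Nat.even_pow' hp.ne_zero).2 even_two
  have h2 : (2 : F) = 0 := two_eq_zero_of_even heven
  let e : Matrix.SpecialLinearGroup (Fin 2) F ≃* Matrix.ProjectiveSpecialLinearGroup (Fin 2) F :=
    MulEquiv.ofBijective (QuotientGroup.mk' (Subgroup.center (Matrix.SpecialLinearGroup (Fin 2) F)))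
      ⟨Cfsg.Agent.Lib.H5.SL2Char2.mk_injective h2, QuotientGroup.mk'_surjective _⟩
  obtain ⟨x₀, hx₀⟩ : ∃ x₀, x₀ = e.symm x := ⟨_, rfl⟩
  have hcard : Nat.card {y : Matrix.ProjectiveSpecialLinearGroup (Fin 2) F //
      Group.IsSolvable ↥(Subgroup.closure ({x, y} : Set (Matrix.ProjectiveSpecialLinearGroup (Fin 2) F)))} =
      (Sol x₀).ncard := by
    rw [← Nat.card_coe_set_eq]
    apply Nat.card_congr
    refine Equiv.subtypeEquiv e.symm.toEquiv ?_
    intro y
    show _ ↔ e.symm y ∈ Sol x₀
    rw [mem_Sol, ← isSolvable_closure_congr e, hx₀, e.apply_symm_apply, e.apply_symm_apply]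
  have hord : orderOf x₀ = orderOf x := by rw [hx₀]; exact e.symm.orderOf_eq x
  have hne : x ≠ 1 → x₀ ≠ 1 := by
    intro hx h
    apply hx
    rw [hx₀] at h
    exact e.symm.map_eq_one_iff.1 h
  rw [hcard]
  refine ⟨?_, ?_, ?_⟩
  · intro ho
    rw [← hord] at ho
    have hx1 : x₀ ≠ 1 := by
      intro h
      rw [h, orderOf_one] at ho
      omega
    have hxx : x₀ * x₀ = 1 := by
      have := pow_orderOf_eq_one x₀
      rw [ho, pow_two] at this
      exact this
    rw [ncard_Sol_invol h2 hx1 hxx, hF]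
  · intro hx1 hdvd
    rw [← hord, ← hF] at hdvd
    rw [ncard_Sol_split h2 heven (hne hx1) (orderOf_dvd_iff_pow_eq_one.1 hdvd), hF]
  · intro hx1 hdvd
    rw [← hord, ← hF] at hdvd
    rw [ncard_Sol_nonsplit h2 heven (hne hx1) (orderOf_dvd_iff_pow_eq_one.1 hdvd), hF]

end Cfsg.Agent.S2257
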