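import Mathlib
import Cfsg.Statements.S2258
import Cfsg.Agent.Lib.H2.QSol13
-- import your own Cfsg.Agent.* helpers here

set_option autoImplicit false
open Cfsg

namespace Cfsg.Agent.S2258

open Cfsg.Agent.Lib.H2.QSol Cfsg.Agent.Lib.H2.CTSol Cfsg.Agent.Lib.H2.PSol

theorem three_pow_mod_four {p : ℕ} (hodd : Odd p) : 3 ^ p % 4 = 3 := by
  obtain ⟨k, rfl⟩ := hodd
  rw [pow_succ, pow_mul, Nat.mul_mod, Nat.pow_mod]
  norm_num

theorem orderOf_eq_one_of_dvd_three {G : Type*} [Group G] {x : G} {n : ℕ} (h3 : x ^ 3 = 1)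
    (hn : orderOf x ∣ n) (hcop : ¬ 3 ∣ n) : x = 1 := by
  have h1 : orderOf x ∣ 3 := orderOf_dvd_of_pow_eq_one h3
  rcases (Nat.dvd_prime Nat.prime_three).1 h1 with h | h
  · exact orderOf_eq_one_iff.1 h
  · rw [h] at hn
    exact absurd hn hcop

theorem orderOf_dvd_two {G : Type*} [Group G] {x : G} {q : ℕ} (hq : 1 ≤ q)
    (h1 : orderOf x ∣ q - 1) (h2 : orderOf x ∣ q + 1) : orderOf x = 1 ∨ orderOf x = 2 := by
  have h : orderOf x ∣ (q + 1) - (q - 1) := Nat.dvd_sub h2 h1
  have e : (q + 1) - (q - 1) = 2 := by omega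
  rw [e] at h
  exact (Nat.dvd_prime Nat.prime_two).1 h

/-- Let G = PSL_2(F) with F a field of order q = 3^p, p an odd prime, and for x ∈ G call the solubilizer of x the set of y ∈ G such that x and y generate a solvable subgroup. Then the solubilizer of an involution has q(q + 1) elements; that of an element of order 3 has q(q + 5)/2 elements; that of an element of order neither 1 nor 2 dividing q − 1 has q(q − 1) elements; and that of an element of order neither 1 nor 2 dividing q + 1 has q + 1 elements. -/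
theorem result (p : ℕ) (hp : p.Prime) (hodd : Odd p) {F : Type*} [Field F] [Fintype F]
    (hF : Fintype.card F = 3 ^ p) (x : Matrix.ProjectiveSpecialLinearGroup (Fin 2) F) :
    (orderOf x = 2 → Nat.card {y : Matrix.ProjectiveSpecialLinearGroup (Fin 2) F // Group.IsSolvable ↥(Subgroup.closure ({x, y} : Set (Matrix.ProjectiveSpecialLinearGroup (Fin 2) F)))} = 3 ^ p * (3 ^ p + 1)) ∧
    (orderOf x = 3 → 2 * Nat.card {y : Matrix.ProjectiveSpecialLinearGroup (Fin 2) F // Group.IsSolvable ↥(Subgroup.closure ({x, y} : Set (Matrix.ProjectiveSpecialLinearGroup (Fin 2) F)))} = 3 ^ p * (3 ^ p + 5)) ∧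
    (x ≠ 1 → orderOf x ≠ 2 → orderOf x ∣ 3 ^ p - 1 → Nat.card {y : Matrix.ProjectiveSpecialLinearGroup (Fin 2) F // Group.IsSolvable ↥(Subgroup.closure ({x, y} : Set (Matrix.ProjectiveSpecialLinearGroup (Fin 2) F)))} = 3 ^ p * (3 ^ p - 1)) ∧
    (x ≠ 1 → orderOf x ≠ 2 → orderOf x ∣ 3 ^ p + 1 → Nat.card {y : Matrix.ProjectiveSpecialLinearGroup (Fin 2) F // Group.IsSolvable ↥(Subgroup.closure ({x, y} : Set (Matrix.ProjectiveSpecialLinearGroup (Fin 2) F)))} = 3 ^ p + 1) := by
  classical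
  have hp1 : 1 ≤ p := hp.one_le
  have hoddq : Odd (Fintype.card F) := by
    rw [hF]
    exact Odd.pow (by decide)
  have hq3 : 3 ≤ Fintype.card F := by
    rw [hF]
    calc 3 = 3 ^ 1 := by norm_num
      _ ≤ 3 ^ p := Nat.pow_le_pow_right (by norm_num) hp1
  have h3 : (3 : F) = 0 := by
    have h := Nat.cast_card_eq_zero F
    rw [hF] at h
    push_cast at h
    exact pow_eq_zero_iff (hp.ne_zero) |>.1 h
  have h2 : (2 : F) ≠ 0 := two_ne h3
  have hm1 : ∀ t : F, t ^ 2 ≠ -1 := by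
    intro t ht
    have hsq : IsSquare (-1 : F) := ⟨t, by rw [← ht]; ring⟩
    rw [FiniteField.isSquare_neg_one_iff, hF] at hsq
    exact hsq (three_pow_mod_four hodd)
  obtain ⟨m, hm⟩ : 3 ∣ 3 ^ p := dvd_pow_self 3 hp.ne_zero
  have hcop1 : ¬ 3 ∣ 3 ^ p - 1 := by omega
  have hcop2 : ¬ 3 ∣ 3 ^ p + 1 := by omega
  have hq1 : 1 ≤ 3 ^ p := Nat.one_le_pow _ _ (by norm_num)
  obtain ⟨x0, rfl⟩ := prj_surjective x
  have hcard := fun z : Matrix.SpecialLinearGroup (Fin 2) F => card_Sol_prj h2 z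
  refine ⟨?_, ?_, ?_, ?_⟩
  · intro ho
    have hxx : x0 * x0 = -1 := Cfsg.Agent.Lib.H5.PSL2Klein.mul_self_of_orderOf_mk h2 x0 ho
    have htr : tr x0 = 0 := by
      rw [tr_eq_trace]
      exact Cfsg.Agent.Lib.H12.trace_eq_zero_of_mul_self x0 hxx
    have h := hcard x0
    rw [ncard_Sol_invol h3 hm1 hoddq hq3 htr, hF] at h
    have e : 2 * 3 ^ p * (3 ^ p + 1) = 2 * (3 ^ p * (3 ^ p + 1)) := by ring
    rw [e] at h
    exact Nat.eq_of_mul_eq_mul_left (by norm_num) h
  · intro ho
    have hx1 : prj x0 ≠ 1 := by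
      intro h
      rw [h, orderOf_one] at ho
      omega
    have hxc : x0 ∉ Subgroup.center (Matrix.SpecialLinearGroup (Fin 2) F) :=
      fun h => hx1 ((prj_eq_one_iff x0).2 h)
    have hcube : x0 * x0 * x0 ∈ Subgroup.center (Matrix.SpecialLinearGroup (Fin 2) F) := by
      rw [← prj_eq_one_iff, map_mul, map_mul]
      have := pow_orderOf_eq_one (prj x0)
      rw [ho, pow_succ, pow_two] at this
      exact this
    rcases tr_of_cube hxc hcube with htr | htr
    · -- use `-x0`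
      have htr' : tr (-x0) = 2 := by
        rw [tr_neg, htr]
        linear_combination -h3
      have h := hcard (-x0)
      rw [prj_neg, ncard_Sol_unip h3 hm1 (neg_not_mem_center hxc) htr', hF] at h
      exact h
    · have htr' : tr x0 = 2 := by
        rw [htr]
        linear_combination -h3
      have h := hcard x0
      rw [ncard_Sol_unip h3 hm1 hxc htr', hF] at h
      exact h
  · intro hx1 ho2 hdvd
    have ht0 : tr x0 ≠ 0 := by
      intro h
      have h' : orderOf (prj x0) ∣ 2 := orderOf_dvd_of_pow_eq_one (prj_sq_of_tr h)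
      rcases (Nat.dvd_prime Nat.prime_two).1 h' with h'' | h''
      · exact hx1 (orderOf_eq_one_iff.1 h'')
      · exact ho2 h''
    have ht1 : ¬ (tr x0 = 1 ∨ tr x0 = -1) := by
      intro h
      exact hx1 (orderOf_eq_one_of_dvd_three (prj_cube_of_tr h) hdvd hcop1)
    rcases trichotomy h3 hoddq x0 with ⟨l, hl, htr, -⟩ | hc | ⟨-, hq⟩
    · have h := hcard x0
      rw [ncard_Sol_split h3 hm1 hoddq hl htr ht0 (fun h => ht1 (Or.inl h))
        (fun h => ht1 (Or.inr h)), hF] at h
      have e : 2 * 3 ^ p * (3 ^ p - 1) = 2 * (3 ^ p * (3 ^ p - 1)) := by ring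
      rw [e] at h
      exact Nat.eq_of_mul_eq_mul_left (by norm_num) h
    · exact absurd (orderOf_eq_one_of_dvd_three hc hdvd hcop1) hx1
    · exfalso
      rw [hF] at hq
      rcases orderOf_dvd_two hq1 hdvd (orderOf_dvd_of_pow_eq_one hq) with h | h
      · exact hx1 (orderOf_eq_one_iff.1 h)
      · exact ho2 h
  · intro hx1 ho2 hdvd
    have ht0 : tr x0 ≠ 0 := by
      intro h
      have h' : orderOf (prj x0) ∣ 2 := orderOf_dvd_of_pow_eq_one (prj_sq_of_tr h)
      rcases (Nat.dvd_prime Nat.prime_two).1 h' with h'' | h''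
      · exact hx1 (orderOf_eq_one_iff.1 h'')
      · exact ho2 h''
    have ht1 : ¬ (tr x0 = 1 ∨ tr x0 = -1) := by
      intro h
      exact hx1 (orderOf_eq_one_of_dvd_three (prj_cube_of_tr h) hdvd hcop2)
    rcases trichotomy h3 hoddq x0 with ⟨l, -, -, hq⟩ | hc | ⟨hno, -⟩
    · exfalso
      rw [hF] at hq
      rcases orderOf_dvd_two hq1 (orderOf_dvd_of_pow_eq_one hq) hdvd with h | h
      · exact hx1 (orderOf_eq_one_iff.1 h)
      · exact ho2 h
    · exact absurd (orderOf_eq_one_of_dvd_three hc hdvd hcop2) hx1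
    · have h := hcard x0
      rw [ncard_Sol_nonsplit' h3 hm1 hoddq hno ht0 (fun h => ht1 (Or.inl h))
        (fun h => ht1 (Or.inr h)), hF] at h
      exact Nat.eq_of_mul_eq_mul_left (by norm_num) h

end Cfsg.Agent.S2258
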