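import Mathlib
import Cfsg.Statements.S2259
import Cfsg.Agent.Lib.H2.SzSol14
-- import your own Cfsg.Agent.* helpers here

set_option autoImplicit false
open Cfsg

namespace Cfsg.Agent.S2259

/-- Let G be the Suzuki group Sz(q), q = 2^(2m+1) with 2m + 1 prime and m ≥ 1, realised inside Sp_4(F) for F the field of order q, write r = 2^(m+1) (so r² = 2q), and for x ∈ G call the solubilizer of x the set of y ∈ G such that x and y generate a solvable subgroup. Then the solubilizer of an involution has q²(4q − 3) elements; that of an element of order 4 has q²(q + 3) elements; that of a non-identity element of order dividing q − 1 has 2q²(q − 1) elements; that of a non-identity element of order dividing q + r + 1 has 4(q + r + 1) elements; and that of a non-identity element of order dividing q − r + 1 has 4(q − r + 1) elements. -/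
theorem result {F : Type*} [Field F] [Fintype F] {m : ℕ} (hm : 1 ≤ m)
    (hp : (2 * m + 1).Prime) (hF : Fintype.card F = 2 ^ (2 * m + 1)) (x : ↥(Cfsg.Lie.Sz F (2 ^ (m + 1)))) :
    (orderOf x = 2 → Nat.card {y : ↥(Cfsg.Lie.Sz F (2 ^ (m + 1))) // Group.IsSolvable ↥(Subgroup.closure ({x, y} : Set (↥(Cfsg.Lie.Sz F (2 ^ (m + 1))))))} = (2 ^ (2 * m + 1)) ^ 2 * (4 * 2 ^ (2 * m + 1) - 3)) ∧
    (orderOf x = 4 → Nat.card {y : ↥(Cfsg.Lie.Sz F (2 ^ (m + 1))) // Group.IsSolvable ↥(Subgroup.closure ({x, y} : Set (↥(Cfsg.Lie.Sz F (2 ^ (m + 1))))))} = (2 ^ (2 * m + 1)) ^ 2 * (2 ^ (2 * m + 1) + 3)) ∧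
    (x ≠ 1 → orderOf x ∣ 2 ^ (2 * m + 1) - 1 →
      Nat.card {y : ↥(Cfsg.Lie.Sz F (2 ^ (m + 1))) // Group.IsSolvable ↥(Subgroup.closure ({x, y} : Set (↥(Cfsg.Lie.Sz F (2 ^ (m + 1))))))} = 2 * (2 ^ (2 * m + 1)) ^ 2 * (2 ^ (2 * m + 1) - 1)) ∧
    (x ≠ 1 → orderOf x ∣ 2 ^ (2 * m + 1) + 2 ^ (m + 1) + 1 → Nat.card {y : ↥(Cfsg.Lie.Sz F (2 ^ (m + 1))) // Group.IsSolvable ↥(Subgroup.closure ({x, y} : Set (↥(Cfsg.Lie.Sz F (2 ^ (m + 1))))))} = 4 * (2 ^ (2 * m + 1) + 2 ^ (m + 1) + 1)) ∧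
    (x ≠ 1 → orderOf x ∣ 2 ^ (2 * m + 1) - 2 ^ (m + 1) + 1 → Nat.card {y : ↥(Cfsg.Lie.Sz F (2 ^ (m + 1))) // Group.IsSolvable ↥(Subgroup.closure ({x, y} : Set (↥(Cfsg.Lie.Sz F (2 ^ (m + 1))))))} = 4 * (2 ^ (2 * m + 1) - 2 ^ (m + 1) + 1)) := by
  have h := Cfsg.Agent.Lib.H2.Sz.fld_of_card hF
  set e := Cfsg.Agent.Lib.H2.SzB.bridge h hm hF with he
  have hord : orderOf (e.symm x) = orderOf x := MulEquiv.orderOf_eq e.symm x
  have hne : x ≠ 1 → e.symm x ≠ 1 := by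
    intro hx h0
    apply hx
    have := congrArg e h0
    rwa [e.apply_symm_apply, map_one] at this
  rw [Cfsg.Agent.Lib.H2.Sz.card_solubilizer_lie h hm hF hp x]
  refine ⟨?_, ?_, ?_, ?_, ?_⟩
  · intro h2
    rw [← hord] at h2
    apply Cfsg.Agent.Lib.H2.Sz.ncard_Sol_invol h hm hF hp
    · have h2' := pow_orderOf_eq_one (e.symm x)
      rw [h2, pow_two] at h2'
      exact h2'
    · intro h0
      rw [h0, orderOf_one] at h2
      omega
  · intro h4
    rw [← hord] at h4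
    apply Cfsg.Agent.Lib.H2.Sz.ncard_Sol_four h hm hF hp
    · have h4' := pow_orderOf_eq_one (e.symm x)
      rw [h4] at h4'
      exact h4'
    · intro h0
      have : orderOf (e.symm x) ∣ 2 := orderOf_dvd_of_pow_eq_one (by rw [pow_two]; exact h0)
      rw [h4] at this
      omega
  · intro hx hd
    rw [← hord] at hd
    exact Cfsg.Agent.Lib.H2.Sz.ncard_Sol_diag h hm hF hp (hne hx) hd
  · intro hx hd
    rw [← hord] at hd
    exact Cfsg.Agent.Lib.H2.Sz.ncard_Sol_plus h hm hF hp (hne hx) hd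
  · intro hx hd
    rw [← hord] at hd
    exact Cfsg.Agent.Lib.H2.Sz.ncard_Sol_minus h hm hF hp (hne hx) hd

end Cfsg.Agent.S2259
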