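import Cfsg.Statements.S2260
-- import your own Cfsg.Agent.* helpers here

set_option autoImplicit false
open Cfsg

namespace Cfsg.Agent.S2260

open Matrix Polynomial in
theorem nilp_pow_card {F : Type*} [Field F] {d : ℕ} (N : Matrix (Fin d) (Fin d) F) (hN : IsNilpotent N) :
    N ^ d = 0 := by
  have h1 := Matrix.isNilpotent_charpoly_sub_pow_of_isNilpotent hN
  have h2 : N.charpoly - X ^ (Fintype.card (Fin d)) = 0 := h1.eq_zero
  have h3 : N.charpoly = X ^ d := by
    rw [sub_eq_zero] at h2
    simpa using h2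
  have h4 := Matrix.aeval_self_charpoly N
  rw [h3] at h4
  simpa using h4

/-- Let F be a finite field of prime characteristic p and u an invertible d × d matrix over F with u − 1 nilpotent (a unipotent element). Then the order of u is at most p^⌈log_p d⌉; and if moreover (u − 1)^(d−1) ≠ 0 (u is a single Jordan block) then the order of u is exactly p^⌈log_p d⌉. -/
theorem result {F : Type*} [Field F] [Finite F] (p : ℕ) [Fact p.Prime] [CharP F p] (d : ℕ)
    (u : GL (Fin d) F) (hu : IsNilpotent ((u : Matrix (Fin d) (Fin d) F) - 1)) :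
    orderOf u ≤ p ^ Nat.clog p d ∧
    (((u : Matrix (Fin d) (Fin d) F) - 1) ^ (d - 1) ≠ 0 → orderOf u = p ^ Nat.clog p d) := by
  have hp : p.Prime := Fact.out
  rcases Nat.eq_zero_or_pos d with rfl | hd
  · have : u = 1 := Subsingleton.elim _ _
    subst this
    simp
  have : Nonempty (Fin d) := ⟨⟨0, hd⟩⟩
  have hchar : CharP (Matrix (Fin d) (Fin d) F) p := by
    infer_instance
  set N : Matrix (Fin d) (Fin d) F := (u : Matrix (Fin d) (Fin d) F) - 1 with hN
  have hNd : N ^ d = 0 := nilp_pow_card N hu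
  have key : ∀ k : ℕ, ((u ^ (p ^ k) : GL (Fin d) F) : Matrix (Fin d) (Fin d) F) - 1 = N ^ (p ^ k) := by
    intro k
    rw [hN, sub_pow_char_pow_of_commute _ _ (Commute.one_right _)]
    simp
  have hle : d ≤ p ^ Nat.clog p d := Nat.le_pow_clog hp.one_lt d
  have hpow : u ^ (p ^ Nat.clog p d) = 1 := by
    have h1 := key (Nat.clog p d)
    have h2 : N ^ (p ^ Nat.clog p d) = 0 := pow_eq_zero_of_le hle hNd
    rw [h2, sub_eq_zero] at h1
    exact Units.ext h1
  have hdvd : orderOf u ∣ p ^ Nat.clog p d := orderOf_dvd_of_pow_eq_one hpow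
  refine ⟨Nat.le_of_dvd (pow_pos hp.pos _) hdvd, ?_⟩
  intro hne
  obtain ⟨j, hj, hoj⟩ := (Nat.dvd_prime_pow hp).1 hdvd
  rcases hj.eq_or_lt with rfl | hlt
  · exact hoj
  exfalso
  have hlt' : p ^ j < d := by
    by_contra hcon
    have hcon' : d ≤ p ^ j := Nat.le_of_not_lt hcon
    have := Nat.clog_le_of_le_pow hcon'
    omega
  have h1 := key j
  have h2 : u ^ (p ^ j) = 1 := by rw [← hoj]; exact pow_orderOf_eq_one u
  rw [h2] at h1
  simp at h1
  apply hne
  exact pow_eq_zero_of_le (by omega) h1.symm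

end Cfsg.Agent.S2260
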