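import Cfsg.Statements.S2262
import Cfsg.Agent.Lib.H11.APM5
import Cfsg.Agent.Lib.H1.APMSinger

set_option autoImplicit false
open Cfsg

namespace Cfsg.Agent.S2262

/-- Let F be a finite field with q elements and d ≥ 2, with q ≥ 4 when d = 2, and (d, q) ∉ {(2, 4), (3, 2)}. Then every automorphism of the simple group PSL_d(F) has order at most (q^d − 1)/(q − 1) as an element of the automorphism group, and some automorphism has exactly this order. -/
theorem result {F : Type*} [Field F] [Fintype F] (d : ℕ) (hd : 2 ≤ d)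
    (h2 : d = 2 → 4 ≤ Fintype.card F) (h24 : ¬ (d = 2 ∧ Fintype.card F = 4)) (h32 : ¬ (d = 3 ∧ Fintype.card F = 2)) :
    (∀ φ : MulAut (Matrix.ProjectiveSpecialLinearGroup (Fin d) F),
      (Fintype.card F - 1) * orderOf φ ≤ Fintype.card F ^ d - 1) ∧
    (∃ φ : MulAut (Matrix.ProjectiveSpecialLinearGroup (Fin d) F),
      (Fintype.card F - 1) * orderOf φ = Fintype.card F ^ d - 1) := by
  classical
  obtain ⟨p, hp⟩ := CharP.exists F
  have : Fact p.Prime := ⟨CharP.char_is_prime F p⟩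
  refine ⟨fun φ => ?_, Cfsg.Agent.Lib.H1.APM.exists_singer d hd⟩
  by_cases hd3 : 3 ≤ d
  · obtain ⟨g, σ, e, rfl⟩ := Cfsg.Agent.Lib.H13.AutPSL.exists_form3 hd3 p φ
    by_cases he : e = 0
    · rw [he, Cfsg.Agent.Lib.H13.AutPSL.tPow_zero, mul_one]
      exact Cfsg.Agent.Lib.H11.APM.caseA hd g σ (by intro h; omega)
    · rw [Cfsg.Agent.Lib.H13.AutPSL.tPow_of_ne he, mul_assoc]
      show (Fintype.card F - 1) * orderOf (Cfsg.Agent.Lib.H13.AutPSL.cGL g *
        Cfsg.Agent.Lib.H13.AutPSL.gfAut σ) ≤ _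
      by_cases hσ2 : σ * σ = 1
      · by_cases hσ1 : σ = 1
        · subst hσ1
          exact Cfsg.Agent.Lib.H11.APM.caseB2 hd3 p g h32
        · exact Cfsg.Agent.Lib.H11.APM.caseB3 hd3 p g σ hσ1 hσ2
      · exact Cfsg.Agent.Lib.H11.APM.caseB1 hd3 g σ hσ2
  · have hd2 : d = 2 := by omega
    subst hd2
    obtain ⟨g, σ, rfl⟩ := Cfsg.Agent.Lib.H13.AutPSL.exists_form2 p φ
    exact Cfsg.Agent.Lib.H11.APM.caseA (le_refl 2) g σ (fun h => h24 ⟨rfl, h.2⟩)

end Cfsg.Agent.S2262
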