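import Cfsg.Statements.S2263
import Cfsg.Agent.Lib.H11.PGU4
import Cfsg.Agent.Lib.H11.PGU5e
import Cfsg.Agent.Lib.H1.PGUSinger
import Cfsg.Agent.Lib.H16.PGUSub
import Cfsg.Agent.Lib.H18.PGUa
import Cfsg.Agent.Lib.H18.PGUb
import Cfsg.Agent.Lib.H18.PGUc

set_option autoImplicit false
open Cfsg

namespace Cfsg.Agent.S2263

/-- Let q = p^f with p prime and f ≥ 1, F a field with q² elements, d ≥ 3 with (d, q) ≠ (3, 2), and PGU_d(q) the general unitary group of the standard Hermitian form modulo its centre. Then the largest order of an element of PGU_d(q) is: q^(d−1) − 1 if d is odd and f ≥ 2; (p^(d−2) + 1)p if d is odd and f = 1; q^(d−1) + 1 if d is even and q > 2; 4(2^(d−3) + 1) if d is even and q = 2. -/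
theorem result {F : Type*} [Field F] [Fintype F] (p f d : ℕ) (hp : p.Prime) (hf : 1 ≤ f) (q : ℕ) (hq : q = p ^ f)
    (hF : Fintype.card F = q ^ 2) (hd : 3 ≤ d) (h32 : ¬ (d = 3 ∧ q = 2)) :
    (Odd d → 2 ≤ f → (∀ g : (↥(Cfsg.GU d F q) ⧸ Subgroup.center ↥(Cfsg.GU d F q)), orderOf g ≤ q ^ (d - 1) - 1) ∧ ∃ g : (↥(Cfsg.GU d F q) ⧸ Subgroup.center ↥(Cfsg.GU d F q)), orderOf g = q ^ (d - 1) - 1) ∧
    (Odd d → f = 1 → (∀ g : (↥(Cfsg.GU d F q) ⧸ Subgroup.center ↥(Cfsg.GU d F q)), orderOf g ≤ (p ^ (d - 2) + 1) * p) ∧ ∃ g : (↥(Cfsg.GU d F q) ⧸ Subgroup.center ↥(Cfsg.GU d F q)), orderOf g = (p ^ (d - 2) + 1) * p) ∧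
    (Even d → 2 < q → (∀ g : (↥(Cfsg.GU d F q) ⧸ Subgroup.center ↥(Cfsg.GU d F q)), orderOf g ≤ q ^ (d - 1) + 1) ∧ ∃ g : (↥(Cfsg.GU d F q) ⧸ Subgroup.center ↥(Cfsg.GU d F q)), orderOf g = q ^ (d - 1) + 1) ∧
    (Even d → q = 2 → (∀ g : (↥(Cfsg.GU d F q) ⧸ Subgroup.center ↥(Cfsg.GU d F q)), orderOf g ≤ 4 * (2 ^ (d - 3) + 1)) ∧ ∃ g : (↥(Cfsg.GU d F q) ⧸ Subgroup.center ↥(Cfsg.GU d F q)), orderOf g = 4 * (2 ^ (d - 3) + 1)) := by
  classical
  have : Fact p.Prime := ⟨hp⟩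
  have hd1 : 1 ≤ d := by omega
  have hq2 : 2 ≤ q := Cfsg.Agent.Lib.H11.PGU.two_le_of_card q hF
  -- upper bound
  have hub : ∀ g : (↥(Cfsg.GU d F q) ⧸ Subgroup.center ↥(Cfsg.GU d F q)),
      (Odd d → 2 ≤ f → orderOf g ≤ q ^ (d - 1) - 1) ∧
      (Odd d → f = 1 → orderOf g ≤ (p ^ (d - 2) + 1) * p) ∧
      (Even d → 2 < q → orderOf g ≤ q ^ (d - 1) + 1) ∧
      (Even d → q = 2 → orderOf g ≤ 4 * (2 ^ (d - 3) + 1)) := by
    intro g
    obtain ⟨l, E, N, hl, hw, hN, hle⟩ := Cfsg.Agent.Lib.H11.PGU.pgu_upper p f q d hq hF hd1 g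
    have h := Cfsg.Agent.Lib.H11.PGU.arithPGU p f q d hp hf hq hd h32 l E hl hw N hN
    exact ⟨fun h1 h2 => hle.trans (h.1 h1 h2), fun h1 h2 => hle.trans (h.2.1 h1 h2),
      fun h1 h2 => hle.trans (h.2.2.1 h1 h2), fun h1 h2 => hle.trans (h.2.2.2 h1 h2)⟩
  -- the trivial element of `GU_1` with a fixed vector
  have hone : Matrix.mulVec ((1 : Matrix.GeneralLinearGroup (Fin 1) F) : Matrix (Fin 1) (Fin 1) F)
      (fun _ => (1 : F)) = fun _ => (1 : F) := by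
    simp
  have hv1 : (fun _ : Fin 1 => (1 : F)) ≠ 0 := by
    intro h
    have := congrFun h 0
    simp at this
  refine ⟨fun hodd hf2 => ⟨fun g => (hub g).1 hodd hf2, ?_⟩,
    fun hodd hf1 => ⟨fun g => (hub g).2.1 hodd hf1, ?_⟩,
    fun hev hq3 => ⟨fun g => (hub g).2.2.1 hev hq3, ?_⟩,
    fun hev hq2' => ⟨fun g => (hub g).2.2.2 hev hq2', ?_⟩⟩
  · -- `d` odd, `f ≥ 2`
    obtain ⟨m, rfl⟩ : ∃ m, d = m + 1 := ⟨d - 1, by omega⟩
    simp only [Nat.add_sub_cancel]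
    have hm : Even m := by
      rcases Nat.even_or_odd m with h | h
      · exact h
      · exfalso
        have : Even (m + 1) := h.add_one
        exact (Nat.not_even_iff_odd.mpr hodd) this
    obtain ⟨A, hA, hAo⟩ := Cfsg.Agent.Lib.H16.PGU.exists_GU_orderOf_sub_one q hF m hm (by omega)
    obtain ⟨g, hg⟩ := Cfsg.Agent.Lib.H18.PGU.exists_mk_orderOf q hF m 1 A hA 1 (one_mem _) _ hv1 hone
    refine ⟨g, ?_⟩
    rw [hg, hAo, orderOf_one, Nat.lcm_one_right]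
  · -- `d` odd, `f = 1`
    obtain ⟨m, rfl⟩ : ∃ m, d = m + 2 := ⟨d - 2, by omega⟩
    simp only [Nat.add_sub_cancel]
    have hqp : q = p := by rw [hq, hf1, pow_one]
    have hm : Odd m := by
      rcases Nat.even_or_odd m with h | h
      · exfalso
        have : Even (m + 2) := h.add (by decide)
        exact (Nat.not_even_iff_odd.mpr hodd) this
      · exact h
    obtain ⟨A, hA, hAo⟩ := Cfsg.Agent.Lib.H1.PGU.exists_GU_orderOf_add_one q hF m hm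
    obtain ⟨J, hJ, hJo, v, hv, hJv⟩ := Cfsg.Agent.Lib.H18.PGU.exists_GU2_unipotent p f q hp hf hq hF
    obtain ⟨g, hg⟩ := Cfsg.Agent.Lib.H18.PGU.exists_mk_orderOf q hF m 2 A hA J hJ v hv hJv
    refine ⟨g, ?_⟩
    rw [hg, hAo, hJo, hqp]
    have hcop : Nat.Coprime (p ^ m + 1) p := by
      obtain ⟨k, hk⟩ : ∃ k, m = k + 1 := ⟨m - 1, by obtain ⟨j, hj⟩ := hm; omega⟩
      rw [hk, pow_succ, add_comm, Nat.coprime_add_mul_right_left]
      exact Nat.coprime_one_left p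
    exact hcop.lcm_eq_mul
  · -- `d` even, `q > 2`
    obtain ⟨m, rfl⟩ : ∃ m, d = m + 1 := ⟨d - 1, by omega⟩
    simp only [Nat.add_sub_cancel]
    have hm : Odd m := by
      rcases Nat.even_or_odd m with h | h
      · exfalso
        have : Odd (m + 1) := h.add_one
        exact (Nat.not_odd_iff_even.mpr hev) this
      · exact h
    obtain ⟨A, hA, hAo⟩ := Cfsg.Agent.Lib.H1.PGU.exists_GU_orderOf_add_one q hF m hm
    obtain ⟨g, hg⟩ := Cfsg.Agent.Lib.H18.PGU.exists_mk_orderOf q hF m 1 A hA 1 (one_mem _) _ hv1 hone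
    refine ⟨g, ?_⟩
    rw [hg, hAo, orderOf_one, Nat.lcm_one_right]
  · -- `d` even, `q = 2`
    obtain ⟨m, rfl⟩ : ∃ m, d = m + 3 := ⟨d - 3, by omega⟩
    simp only [Nat.add_sub_cancel]
    subst hq2'
    have hm : Odd m := by
      rcases Nat.even_or_odd m with h | h
      · exfalso
        have : Odd (m + 3) := h.add_odd (by decide)
        exact (Nat.not_odd_iff_even.mpr hev) this
      · exact h
    obtain ⟨A, hA, hAo⟩ := Cfsg.Agent.Lib.H1.PGU.exists_GU_orderOf_add_one 2 hF m hm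
    obtain ⟨J, hJ, hJo, v, hv, hJv⟩ := Cfsg.Agent.Lib.H18.PGU.exists_GU3_order_four (F := F) hF
    obtain ⟨g, hg⟩ := Cfsg.Agent.Lib.H18.PGU.exists_mk_orderOf 2 hF m 3 A hA J hJ v hv hJv
    refine ⟨g, ?_⟩
    rw [hg, hAo, hJo]
    have hcop : Nat.Coprime (2 ^ m + 1) 4 := by
      have hm1 : 1 ≤ m := by obtain ⟨k, hk⟩ := hm; omega
      have hodd' : Odd (2 ^ m + 1) := by
        have : Even (2 ^ m) := (Nat.even_pow' (by omega)).mpr (by decide)
        exact this.add_one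
      have : Nat.Coprime (2 ^ m + 1) (2 ^ 2) := Nat.Coprime.pow_right 2 (Nat.coprime_two_right.mpr hodd')
      simpa using this
    rw [hcop.lcm_eq_mul, mul_comm]

end Cfsg.Agent.S2263
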