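import Cfsg.Statements.S2264
import Cfsg.Agent.Lib.H11.EOB5

set_option autoImplicit false
open Cfsg

namespace Cfsg.Agent.S2264

/-- Let F be a finite field with q elements and m ≥ 2. Then every element g of PSp_2m(F) satisfies (q − 1)·|g| ≤ q^(m+1), i.e. has order at most q^(m+1)/(q − 1). -/
theorem result {F : Type*} [Field F] [Fintype F] (m : ℕ) (hm : 2 ≤ m) (g : Cfsg.PSp m F) :
    (Fintype.card F - 1) * orderOf g ≤ Fintype.card F ^ (m + 1) := by
  classical
  obtain ⟨a, rfl⟩ := QuotientGroup.mk_surjective g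
  obtain ⟨p, hp⟩ := CharP.exists F
  have : Fact p.Prime := ⟨CharP.char_is_prime F p⟩
  have hJ : IsUnit (Matrix.J (Fin m) F) :=
    (Matrix.isUnit_iff_isUnit_det _).mpr (Matrix.isUnit_det_J (Fin m) F)
  have h : (a : Matrix (Fin m ⊕ Fin m) (Fin m ⊕ Fin m) F).transpose * Matrix.J (Fin m) F
      * (a : Matrix (Fin m ⊕ Fin m) (Fin m ⊕ Fin m) F) = Matrix.J (Fin m) F :=
    SymplecticGroup.mem_iff'.mp a.2
  have hcard : Fintype.card (Fin m ⊕ Fin m) = 2 * m := by
    rw [Fintype.card_sum, Fintype.card_fin]; ring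
  obtain ⟨N, hN1, hN2, hN3⟩ := Cfsg.Agent.Lib.H11.EOB.pow_eq_of_form
    (a : Matrix (Fin m ⊕ Fin m) (Fin m ⊕ Fin m) F) (Matrix.J (Fin m) F) hJ h p m
    (by rw [hcard]; omega) (fun _ => by rw [hcard]) (fun h' => by rw [hcard] at h'; omega)
  have hle := Cfsg.Agent.Lib.H11.EOB.orderOf_mk_le
    (Matrix.symplecticGroup (Fin m) F).subtype Subtype.val_injective a N hN1 hN3
  calc (Fintype.card F - 1) * orderOf (QuotientGroup.mk a : Cfsg.PSp m F)
      ≤ (Fintype.card F - 1) * N := Nat.mul_le_mul_left _ hle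
    _ ≤ Fintype.card F ^ (m + 1) := hN2

end Cfsg.Agent.S2264
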