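import Cfsg.Statements.S2265
import Cfsg.Agent.Lib.H11.EOB6

set_option autoImplicit false
open Cfsg

namespace Cfsg.Agent.S2265

/-- Let F be a finite field with q elements. Every element g of PΩ_(2m+1)(F) (m ≥ 3, q odd), of PΩ⁺_2m(F) (m ≥ 4), or of PΩ⁻_2m(F) (m ≥ 4, the form having an anisotropic binary part) satisfies (q − 1)·|g| ≤ q^(m+1), i.e. has order at most q^(m+1)/(q − 1). -/
theorem result {F : Type*} [Field F] [Fintype F] (m : ℕ) :
    (3 ≤ m → Odd (Fintype.card F) → ∀ g : Cfsg.POmega F (Cfsg.quadFormOdd m F),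
      (Fintype.card F - 1) * orderOf g ≤ Fintype.card F ^ (m + 1)) ∧
    (4 ≤ m → ∀ g : Cfsg.POmega F (Cfsg.quadFormPlus m F),
      (Fintype.card F - 1) * orderOf g ≤ Fintype.card F ^ (m + 1)) ∧
    (4 ≤ m → ∀ a b : F, (∀ z₁ z₂ : F, z₁ ^ 2 + a * z₁ * z₂ + b * z₂ ^ 2 = 0 → z₁ = 0 ∧ z₂ = 0) →
      ∀ g : Cfsg.POmega F (Cfsg.quadFormMinus (m - 1) F a b),
      (Fintype.card F - 1) * orderOf g ≤ Fintype.card F ^ (m + 1)) := by
  classical
  refine ⟨?_, ?_, ?_⟩
  · intro hm hodd g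
    refine Cfsg.Agent.Lib.H11.EOB.POmega_bound (Cfsg.quadFormOdd m F)
      (Cfsg.Agent.Lib.H11.EOB.gramOdd m F)
      (Cfsg.Agent.Lib.H11.EOB.isUnit_gramOdd m (Cfsg.Agent.Lib.H11.EOB.two_ne_zero_of_odd hodd))
      (Cfsg.Agent.Lib.H11.EOB.polar_quadFormOdd' m) m ?_ (fun h => absurd hodd h) (fun _ => hm) g
    simp only [Fintype.card_sum, Fintype.card_fin, Fintype.card_unit]
    omega
  · intro hm g
    have hcard : Fintype.card (Fin m ⊕ Fin m) = 2 * m := by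
      rw [Fintype.card_sum, Fintype.card_fin]; ring
    exact Cfsg.Agent.Lib.H11.EOB.POmega_bound (Cfsg.quadFormPlus m F)
      (Cfsg.Agent.Lib.H13.gramPlus m F) (Cfsg.Agent.Lib.H11.EOB.isUnit_gramPlus m)
      (Cfsg.Agent.Lib.H13.polar_quadFormPlus m) m (by rw [hcard]; omega) (fun _ => by rw [hcard])
      (fun h => by rw [hcard] at h; omega) g
  · intro hm a b hab g
    have hcard : Fintype.card ((Fin (m - 1) ⊕ Fin (m - 1)) ⊕ Fin 2) = 2 * m := by
      simp only [Fintype.card_sum, Fintype.card_fin]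
      omega
    exact Cfsg.Agent.Lib.H11.EOB.POmega_bound (Cfsg.quadFormMinus (m - 1) F a b)
      (Cfsg.Agent.Lib.H13.gramMinus (m - 1) F a b)
      (Cfsg.Agent.Lib.H11.EOB.isUnit_gramMinus (m - 1) a b hab)
      (Cfsg.Agent.Lib.H13.polar_quadFormMinus (m - 1) a b) m (by rw [hcard]; omega)
      (fun _ => by rw [hcard]) (fun h => by rw [hcard] at h; omega) g

end Cfsg.Agent.S2265
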