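import Cfsg.Statements.S2268
-- import your own Cfsg.Agent.* helpers here

set_option autoImplicit false
open Cfsg

namespace Cfsg.Agent.S2268

open Subgroup MulAction

theorem part1 {G : Type*} [Group G] [Finite G] {p : ℕ} [Fact p.Prime]
    (P : Sylow p G) (hP : IsMulCommutative (P : Subgroup G)) (Q : Subgroup G) (hQ : Q ≤ (P : Subgroup G)) :
    Subgroup.normalizer (Q : Set G) =
      (Subgroup.normalizer (Q : Set G) ⊓ Subgroup.normalizer ((P : Subgroup G) : Set G)) ⊔ Subgroup.centralizer (Q : Set G) := by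
  apply le_antisymm
  · intro g hg
    -- P ≤ C(Q)
    have h1 : (P : Subgroup G) ≤ centralizer (Q : Set G) := by
      intro x hx y hy
      have := hP.is_comm.comm ⟨y, hQ hy⟩ ⟨x, hx⟩
      exact congrArg Subtype.val this
    have h2 : ((g • P : Sylow p G) : Subgroup G) ≤ centralizer (Q : Set G) := by
      rintro - ⟨z, hz, rfl⟩ y hy
      -- y ∈ Q, need y * (g z g⁻¹) = (g z g⁻¹) * y
      have hy' : g⁻¹ * y * g ∈ Q := by
        have := (Subgroup.mem_normalizer_iff'' (H := Q)).1 hg y
        exact this.1 hy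
      have := h1 hz (g⁻¹ * y * g) hy'
      simp only [MulDistribMulAction.toMonoidEnd_apply, MulDistribMulAction.toMonoidHom_apply,
        MulAut.smul_def, MulAut.conj_apply]
      calc y * (g * z * g⁻¹) = g * ((g⁻¹ * y * g) * z) * g⁻¹ := by group
        _ = g * (z * (g⁻¹ * y * g)) * g⁻¹ := by rw [this]
        _ = g * z * g⁻¹ * y := by group
    obtain ⟨h, hh⟩ :=
      exists_smul_eq (centralizer (Q : Set G)) ((g • P).subtype h2) (P.subtype h1)
    simp_rw [Sylow.smul_subtype, Subgroup.smul_def, smul_smul] at hh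
    have hn : (h : G) * g ∈ normalizer ((P : Subgroup G) : Set G) :=
      Sylow.smul_eq_iff_mem_normalizer.mp (Sylow.subtype_injective hh)
    have hh' : (h : G) ∈ normalizer (Q : Set G) := centralizer_le_normalizer _ h.2
    have : g = (h : G)⁻¹ * ((h : G) * g) := by group
    rw [this, sup_comm]
    apply mul_mem_sup (inv_mem h.2)
    exact ⟨mul_mem hh' hg, hn⟩
  · apply sup_le inf_le_left (centralizer_le_normalizer _)

/-- Let G be a finite group with an abelian Sylow p-subgroup P and let Q ≤ P. Then N_G(Q) = (N_G(Q) ∩ N_G(P))·C_G(Q), so that N_G(Q)/C_G(Q) is a homomorphic image of the subgroup (N_G(Q) ∩ N_G(P))/C_G(P) of N_G(P)/C_G(P); in particular the order of N_G(Q)/C_G(Q) divides the order of N_G(P)/C_G(P). -/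
theorem result {G : Type*} [Group G] [Finite G] {p : ℕ} [Fact p.Prime]
    (P : Sylow p G) (hP : IsMulCommutative (P : Subgroup G)) (Q : Subgroup G) (hQ : Q ≤ (P : Subgroup G)) :
    Subgroup.normalizer (Q : Set G) =
      (Subgroup.normalizer (Q : Set G) ⊓ Subgroup.normalizer ((P : Subgroup G) : Set G)) ⊔ Subgroup.centralizer (Q : Set G) ∧
    ((Subgroup.centralizer (Q : Set G)).subgroupOf (Subgroup.normalizer (Q : Set G))).index ∣ ((Subgroup.centralizer ((P : Subgroup G) : Set G)).subgroupOf (Subgroup.normalizer ((P : Subgroup G) : Set G))).index := by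
  have p1 := part1 P hP Q hQ
  refine ⟨p1, ?_⟩
  set NQ := normalizer (Q : Set G) with hNQ
  set NP := normalizer ((P : Subgroup G) : Set G) with hNP
  set CQ := centralizer (Q : Set G) with hCQ
  set CP := centralizer ((P : Subgroup G) : Set G) with hCP
  have hCPQ : CP ≤ CQ := centralizer_le hQ
  have hCQN : CQ ≤ NQ := centralizer_le_normalizer _
  have hCPN : CP ≤ NP := centralizer_le_normalizer _
  -- step 1 : (CQ.subgroupOf NQ).index = CQ.relIndex (NQ ⊓ NP)
  have s1 : (CQ.subgroupOf NQ).index = CQ.relIndex (NQ ⊓ NP) := by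
    have hnorm : (CQ.subgroupOf NQ).Normal := normal_subgroupOf_centralizer_normalizer _
    have htop : (NP.subgroupOf NQ) ⊔ (CQ.subgroupOf NQ) = ⊤ := by
      rw [← inf_subgroupOf_left NP NQ, ← subgroupOf_sup inf_le_left hCQN, ← p1, subgroupOf_self]
    rw [← relIndex_top_right, ← htop, relIndex_sup_right]
    rw [show CQ.subgroupOf NQ = CQ.comap NQ.subtype from rfl, relIndex_comap,
      subgroupOf_map_subtype, inf_comm]
  rw [s1]
  change _ ∣ CP.relIndex NP
  have hCPA : CP ≤ NQ ⊓ NP := le_inf (hCPQ.trans hCQN) hCPN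
  calc CQ.relIndex (NQ ⊓ NP) ∣ CP.relIndex (NQ ⊓ NP) := relIndex_dvd_of_le_left _ hCPQ
    _ ∣ CP.relIndex NP := by
      rw [← relIndex_mul_relIndex CP (NQ ⊓ NP) NP hCPA inf_le_right]
      exact dvd_mul_right _ _

end Cfsg.Agent.S2268
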