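import Cfsg.Statements.S2269
-- import your own Cfsg.Agent.* helpers here

set_option autoImplicit false
open Cfsg

namespace Cfsg.Agent.S2269

open MulAction Equiv

/-- For an abelian group acting on a set there is an involution of the set that
intertwines the action with its inverse and preserves every orbit. -/
theorem exists_inverting_involution' {A α : Type*} [Group A] [MulAction A α]
    (hcomm : ∀ a b : A, a * b = b * a) :
    ∃ t : α → α, Function.Involutive t ∧ (∀ (a : A) (ω : α), t (a • ω) = a⁻¹ • t ω) ∧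
      ∀ ω, ∃ a : A, t ω = a • ω := by
  classical
  let rep : α → α := fun ω => (Quotient.mk (orbitRel A α) ω).out
  have hrep : ∀ ω, ∃ g : A, g • rep ω = ω := by
    intro ω
    have h1 : (orbitRel A α) (rep ω) ω := Quotient.mk_out (s := orbitRel A α) ω
    rw [orbitRel_apply] at h1
    have h2 := (mem_orbit_symm (G := A)).1 h1
    obtain ⟨g, hg⟩ := h2
    exact ⟨g, hg⟩
  have hrep_smul : ∀ (a : A) ω, rep (a • ω) = rep ω := by
    intro a ω
    have : Quotient.mk (orbitRel A α) (a • ω) = Quotient.mk (orbitRel A α) ω := by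
      apply Quotient.sound
      change (orbitRel A α) (a • ω) ω
      rw [orbitRel_apply]
      exact ⟨a, rfl⟩
    simp only [rep, this]
  let g : α → A := fun ω => Classical.choose (hrep ω)
  have hg : ∀ ω, g ω • rep ω = ω := fun ω => Classical.choose_spec (hrep ω)
  let t : α → α := fun ω => (g ω)⁻¹ • rep ω
  have claim1 : ∀ (ω : α) (h : A), h • rep ω = ω → t ω = h⁻¹ • rep ω := by
    intro ω h hh
    have e1 : g ω • rep ω = h • rep ω := by rw [hg, hh]
    have e2 : (h⁻¹ * g ω) • rep ω = rep ω := by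
      rw [mul_smul, e1, smul_smul, inv_mul_cancel, one_smul]
    have e3 : (g ω * h⁻¹) • rep ω = rep ω := by rw [hcomm]; exact e2
    change (g ω)⁻¹ • rep ω = h⁻¹ • rep ω
    calc (g ω)⁻¹ • rep ω = (g ω)⁻¹ • ((g ω * h⁻¹) • rep ω) := by rw [e3]
      _ = h⁻¹ • rep ω := by rw [smul_smul, inv_mul_cancel_left]
  have claim3 : ∀ (a : A) (ω : α), t (a • ω) = a⁻¹ • t ω := by
    intro a ω
    have h1 : (a * g ω) • rep (a • ω) = a • ω := by
      rw [hrep_smul, mul_smul, hg]
    rw [claim1 (a • ω) (a * g ω) h1, hrep_smul]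
    change _ = a⁻¹ • ((g ω)⁻¹ • rep ω)
    rw [smul_smul, mul_inv_rev, hcomm]
  have hreprep : ∀ ω, rep (rep ω) = rep ω := by
    intro ω
    obtain ⟨k, hk⟩ := hrep ω
    conv_lhs => rw [← hrep_smul k (rep ω), hk]
  have claim0 : ∀ ω, t (rep ω) = rep ω := by
    intro ω
    have := claim1 (rep ω) 1 (by rw [one_smul, hreprep])
    rw [this, inv_one, one_smul, hreprep]
  refine ⟨t, ?_, claim3, ?_⟩
  · intro ω
    change t ((g ω)⁻¹ • rep ω) = ω
    rw [claim3, claim0, inv_inv, hg]
  · intro ω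
    refine ⟨(g ω)⁻¹ * (g ω)⁻¹, ?_⟩
    change (g ω)⁻¹ • rep ω = _
    have h1 : ((g ω)⁻¹ * (g ω)⁻¹) • ω = ((g ω)⁻¹ * (g ω)⁻¹) • (g ω • rep ω) := by rw [hg ω]
    rw [h1, smul_smul, mul_assoc, inv_mul_cancel, mul_one]


section pinv
variable {α : Type*}

open Classical in
/-- partial inversion function: apply `t` on `S`, identity elsewhere -/
noncomputable def pfun (t : α → α) (S : Set α) (x : α) : α := if x ∈ S then t x else x

theorem pfun_invol {t : α → α} (ht : Function.Involutive t) {S : Set α}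
    (hS : ∀ x, t x ∈ S ↔ x ∈ S) : Function.Involutive (pfun t S) := by
  intro x
  unfold pfun
  by_cases h : x ∈ S
  · have h' : t x ∈ S := (hS x).2 h
    simp [h, h', ht x]
  · simp [h]

/-- the partial inversion permutation -/
noncomputable def pperm {t : α → α} (ht : Function.Involutive t) {S : Set α}
    (hS : ∀ x, t x ∈ S ↔ x ∈ S) : Perm α := (pfun_invol ht hS).toPerm

theorem pperm_apply {t : α → α} (ht : Function.Involutive t) {S : Set α}
    (hS : ∀ x, t x ∈ S ↔ x ∈ S) (x : α) : pperm ht hS x = pfun t S x := rfl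

theorem pperm_inv {t : α → α} (ht : Function.Involutive t) {S : Set α}
    (hS : ∀ x, t x ∈ S ↔ x ∈ S) : (pperm ht hS)⁻¹ = pperm ht hS := by
  ext x; rfl

theorem pperm_mul_self {t : α → α} (ht : Function.Involutive t) {S : Set α}
    (hS : ∀ x, t x ∈ S ↔ x ∈ S) : pperm ht hS * pperm ht hS = 1 := by
  ext x
  simp only [Perm.mul_apply, pperm_apply, Perm.one_apply]
  exact pfun_invol ht hS x

open Classical in
/-- `a⁻¹` on `S`, `a` elsewhere -/
noncomputable def cfun (a : Perm α) (S : Set α) (x : α) : α := if x ∈ S then a⁻¹ x else a x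

theorem pperm_conj_apply {t : α → α} (ht : Function.Involutive t) {S : Set α}
    (hS : ∀ x, t x ∈ S ↔ x ∈ S) (a : Perm α) (hta : ∀ x, t (a x) = a⁻¹ (t x))
    (hSa : ∀ x, a x ∈ S ↔ x ∈ S) (x : α) :
    (pperm ht hS * a * (pperm ht hS)⁻¹) x = cfun a S x := by
  rw [pperm_inv]
  simp only [Perm.mul_apply, pperm_apply]
  unfold pfun cfun
  by_cases h : x ∈ S
  · have h1 : t x ∈ S := (hS x).2 h
    have h2 : a (t x) ∈ S := (hSa _).2 h1
    simp only [h, h2, if_true]
    rw [hta, ht x]
  · have h3 : ¬ a x ∈ S := fun h' => h ((hSa _).1 h')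
    simp [h, h3]

/-- the conjugate `τ a τ⁻¹` commutes with every `b` commuting with `a` and preserving `S` -/
theorem pperm_conj_comm {t : α → α} (ht : Function.Involutive t) {S : Set α}
    (hS : ∀ x, t x ∈ S ↔ x ∈ S) (a : Perm α) (hta : ∀ x, t (a x) = a⁻¹ (t x))
    (hSa : ∀ x, a x ∈ S ↔ x ∈ S) (b : Perm α) (hab : a * b = b * a)
    (hSb : ∀ x, b x ∈ S ↔ x ∈ S) :
    (pperm ht hS * a * (pperm ht hS)⁻¹) * b = b * (pperm ht hS * a * (pperm ht hS)⁻¹) := by
  have hcx := pperm_conj_apply ht hS a hta hSa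
  generalize pperm ht hS * a * (pperm ht hS)⁻¹ = c at hcx ⊢
  ext x
  rw [Perm.mul_apply, Perm.mul_apply, hcx, hcx]
  unfold cfun
  have hab' : a⁻¹ * b = b * a⁻¹ := by
    calc a⁻¹ * b = a⁻¹ * (b * a) * a⁻¹ := by group
      _ = a⁻¹ * (a * b) * a⁻¹ := by rw [hab]
      _ = b * a⁻¹ := by group
  by_cases h : x ∈ S
  · have h1 : b x ∈ S := (hSb x).2 h
    simp only [h, h1, if_true]
    have := congrArg (fun σ : Perm α => σ x) hab'
    simpa using this
  · have h1 : ¬ b x ∈ S := fun h' => h ((hSb x).1 h')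
    simp only [h, h1, if_false]
    have := congrArg (fun σ : Perm α => σ x) hab
    simpa using this

theorem pperm_union {t : α → α} (ht : Function.Involutive t) {S S' : Set α}
    (hS : ∀ x, t x ∈ S ↔ x ∈ S) (hS' : ∀ x, t x ∈ S' ↔ x ∈ S') (hdisj : ∀ x, x ∈ S → x ∉ S')
    (hSS' : ∀ x, t x ∈ S ∪ S' ↔ x ∈ S ∪ S') :
    pperm ht hSS' = pperm ht hS * pperm ht hS' := by
  ext x
  simp only [Perm.mul_apply, pperm_apply]
  unfold pfun
  by_cases h : x ∈ S
  · have h1 : x ∉ S' := hdisj x h
    have h2 : x ∈ S ∪ S' := Or.inl h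
    simp [h, h1]
  · by_cases h' : x ∈ S'
    · have h2 : t x ∈ S' := (hS' x).2 h'
      have h3 : t x ∉ S := fun hh => hdisj _ hh h2
      simp [h, h', h3]
    · simp [h, h']

end pinv

/-- Sylow maximality: a `p`-element of `A_n` centralising the Sylow subgroup `P` lies in `P`. -/
theorem mem_of_centralizes {n : ℕ} {p : ℕ} [Fact p.Prime]
    (P : Sylow p (alternatingGroup (Fin n))) (c : alternatingGroup (Fin n))
    (hc : ∃ k : ℕ, c ^ (p ^ k) = 1) (hcomm : ∀ b ∈ (P : Subgroup (alternatingGroup (Fin n))), c * b = b * c) :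
    c ∈ (P : Subgroup (alternatingGroup (Fin n))) := by
  obtain ⟨k, hk⟩ := hc
  have hH : IsPGroup p (Subgroup.zpowers c) := by
    rintro ⟨x, hx⟩
    obtain ⟨m, rfl⟩ := Subgroup.mem_zpowers_iff.1 hx
    refine ⟨k, ?_⟩
    apply Subtype.ext
    simp only [Subgroup.coe_pow, Subgroup.coe_one]
    rw [← zpow_natCast, ← zpow_mul, mul_comm, zpow_mul, zpow_natCast, hk, one_zpow]
  have hle : Subgroup.zpowers c ≤ Subgroup.normalizer ((P : Subgroup (alternatingGroup (Fin n))) : Set (alternatingGroup (Fin n))) := by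
    rw [Subgroup.zpowers_le]
    rw [Subgroup.mem_normalizer_iff]
    intro h
    constructor
    · intro hh
      have : c * h * c⁻¹ = h := by rw [hcomm h hh]; group
      rw [this]; exact hh
    · intro hh
      have h1 := hcomm _ hh
      have : h = c * h * c⁻¹ := by
        have h2 : c * (c * h * c⁻¹) = c * h := by rw [h1]; group
        exact (mul_left_cancel h2).symm
      rw [this]; exact hh
  have hsup := IsPGroup.to_sup_of_normal_right' hH P.isPGroup' hle
  have heq := P.is_maximal' hsup le_sup_right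
  have : c ∈ Subgroup.zpowers c ⊔ (P : Subgroup (alternatingGroup (Fin n))) :=
    (le_sup_left : Subgroup.zpowers c ≤ _) (Subgroup.mem_zpowers c)
  rw [heq] at this
  exact this

/-- quotient argument: an involution in the normaliser outside the centraliser makes the
automiser have even order. -/
theorem two_dvd_index_of_invol {G : Type*} [Group G] [Finite G] (P : Subgroup G) (τ : G)
    (hτ2 : τ * τ = 1) (hτN : τ ∈ Subgroup.normalizer (P : Set G))
    (hτC : τ ∉ Subgroup.centralizer (P : Set G)) :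
    2 ∣ ((Subgroup.centralizer (P : Set G)).subgroupOf (Subgroup.normalizer (P : Set G))).index := by
  set N := Subgroup.normalizer (P : Set G) with hN
  set C := Subgroup.centralizer (P : Set G) with hC
  have hnorm : (C.subgroupOf N).Normal := Subgroup.normal_subgroupOf_centralizer_normalizer _
  let q : ↥N ⧸ C.subgroupOf N := QuotientGroup.mk ⟨τ, hτN⟩
  have hq1 : q ≠ 1 := by
    intro h
    rw [QuotientGroup.eq_one_iff] at h
    exact hτC h
  have hq2 : q ^ 2 = 1 := by
    change (QuotientGroup.mk ((⟨τ, hτN⟩ : ↥N) ^ 2) : ↥N ⧸ C.subgroupOf N) = 1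
    have : (⟨τ, hτN⟩ : ↥N) ^ 2 = 1 := by
      apply Subtype.ext
      simp [pow_two, hτ2]
    rw [this]
    rfl
  have hord : orderOf q = 2 := orderOf_eq_prime hq2 hq1
  rw [Subgroup.index, ← hord]
  exact orderOf_dvd_natCard q

theorem pow_div_dvd_factorial {p : ℕ} (hp : p.Prime) (n : ℕ) : p ^ (n / p) ∣ n.factorial := by
  rw [hp.pow_dvd_factorial_iff (b := Nat.log p n + 2) (by omega)]
  have h1 : (1 : ℕ) ∈ Finset.Ico 1 (Nat.log p n + 2) := by simp
  have := Finset.single_le_sum (f := fun i => n / p ^ i) (fun i _ => Nat.zero_le _) h1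
  simpa using this

theorem succ_le_three_pow (k : ℕ) (hk : 2 ≤ k) : k + 1 ≤ 3 ^ (k - 1) := by
  induction k, hk using Nat.le_induction with
  | base => norm_num
  | succ k hk ih =>
    have : k + 1 - 1 = (k - 1) + 1 := by omega
    rw [this, pow_succ]
    omega

theorem cyclic_of_card_le {n : ℕ} {p : ℕ} [Fact p.Prime] (hp2 : p ≠ 2) (hn : 2 ≤ n)
    (P : Sylow p (alternatingGroup (Fin n)))
    (hcard : Nat.card (P : Subgroup (alternatingGroup (Fin n))) ≤ n) :
    IsCyclic (P : Subgroup (alternatingGroup (Fin n))) := by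
  have hp : p.Prime := Fact.out
  have hp3 : 3 ≤ p := by
    have := hp.two_le
    omega
  have : Nontrivial (Fin n) := Fin.nontrivial_iff_two_le.2 hn
  have hG : 2 * Nat.card (alternatingGroup (Fin n)) = n.factorial := by
    rw [Nat.card_eq_fintype_card, two_mul_card_alternatingGroup, Fintype.card_perm, Fintype.card_fin]
  set k := n / p with hk
  have h1 : p ^ k ∣ Nat.card (alternatingGroup (Fin n)) := by
    have h2 : p ^ k ∣ 2 * Nat.card (alternatingGroup (Fin n)) := by
      rw [hG]; exact pow_div_dvd_factorial hp n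
    have hcop : Nat.Coprime (p ^ k) 2 := by
      apply Nat.Coprime.pow_left
      rw [Nat.coprime_primes hp Nat.prime_two]
      exact hp2
    exact hcop.dvd_of_dvd_mul_left h2
  have h3 : p ^ k ∣ Nat.card (P : Subgroup (alternatingGroup (Fin n))) :=
    P.pow_dvd_card_of_pow_dvd_card h1
  have hpos : 0 < Nat.card (P : Subgroup (alternatingGroup (Fin n))) := Nat.card_pos
  have h4 : p ^ k ≤ n := (Nat.le_of_dvd hpos h3).trans hcard
  -- k ≤ 1
  have hk1 : k ≤ 1 := by
    by_contra hcon
    have hk2 : 2 ≤ k := by omega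
    have h5 : k + 1 ≤ 3 ^ (k - 1) := succ_le_three_pow k hk2
    have h6 : 3 ^ (k - 1) ≤ p ^ (k - 1) := Nat.pow_le_pow_left hp3 _
    have h7 : p ^ k = p ^ (k - 1) * p := by
      rw [← pow_succ]; congr 1; omega
    have h8 : n < (k + 1) * p := by
      have e := Nat.div_add_mod n p
      have m := Nat.mod_lt n hp.pos
      rw [← hk] at e
      have : (k + 1) * p = p * k + p := by ring
      omega
    have h9 : (k + 1) * p ≤ p ^ k := by
      rw [h7]
      exact Nat.mul_le_mul_right p (h5.trans h6)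
    omega
  -- n < 2 p
  have hn2 : n < 2 * p := by
    have e := Nat.div_add_mod n p
    have m := Nat.mod_lt n hp.pos
    rw [← hk] at e
    have : p * k ≤ p * 1 := Nat.mul_le_mul_left p hk1
    omega
  obtain ⟨v, hv⟩ := IsPGroup.iff_card.mp P.isPGroup'
  have hv1 : v ≤ 1 := by
    by_contra hcon
    have hv2 : 2 ≤ v := by omega
    have h5 : p ^ 2 ≤ p ^ v := Nat.pow_le_pow_right hp.pos hv2
    have h6 : 2 * p < p ^ 2 := by rw [pow_two]; exact Nat.mul_lt_mul_of_pos_right (by omega) hp.pos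
    omega
  interval_cases v
  · rw [pow_zero] at hv
    have : Subsingleton (P : Subgroup (alternatingGroup (Fin n))) :=
      (Nat.card_eq_one_iff_unique.1 hv).1
    exact isCyclic_of_subsingleton
  · rw [pow_one] at hv
    exact isCyclic_of_prime_card hv


theorem odd_case (n : ℕ) (hn : 5 ≤ n) {p : ℕ} [Fact p.Prime] (hp2 : p ≠ 2)
    (P : Sylow p (alternatingGroup (Fin n)))
    (hP : IsMulCommutative (P : Subgroup (alternatingGroup (Fin n)))) :
    2 ∣ ((Subgroup.centralizer ((P : Subgroup (alternatingGroup (Fin n))) : Set (alternatingGroup (Fin n)))).subgroupOf (Subgroup.normalizer ((P : Subgroup (alternatingGroup (Fin n))) : Set (alternatingGroup (Fin n))))).index ∨ IsCyclic (P : Subgroup (alternatingGroup (Fin n))) := by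
  classical
  have hp : p.Prime := Fact.out
  set A : Subgroup (Perm (Fin n)) :=
    (P : Subgroup (alternatingGroup (Fin n))).map (alternatingGroup (Fin n)).subtype with hA
  have hAmem : ∀ a : Perm (Fin n), a ∈ A ↔ ∃ h : a ∈ alternatingGroup (Fin n), (⟨a, h⟩ : alternatingGroup (Fin n)) ∈ (P : Subgroup (alternatingGroup (Fin n))) := by
    intro a
    rw [hA, Subgroup.mem_map]
    constructor
    · rintro ⟨x, hx, rfl⟩
      exact ⟨x.2, hx⟩
    · rintro ⟨h, hx⟩
      exact ⟨⟨a, h⟩, hx, rfl⟩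
  have hcomm : ∀ a ∈ A, ∀ b ∈ A, a * b = b * a := by
    intro a ha b hb
    obtain ⟨ha1, ha2⟩ := (hAmem a).1 ha
    obtain ⟨hb1, hb2⟩ := (hAmem b).1 hb
    have := hP.is_comm.comm ⟨⟨a, ha1⟩, ha2⟩ ⟨⟨b, hb1⟩, hb2⟩
    have := congrArg (fun z : (P : Subgroup (alternatingGroup (Fin n))) => ((z : alternatingGroup (Fin n)) : Perm (Fin n))) this
    simpa using this
  have hpow : ∀ a ∈ A, ∃ k : ℕ, a ^ (p ^ k) = 1 := by
    intro a ha
    obtain ⟨ha1, ha2⟩ := (hAmem a).1 ha
    obtain ⟨k, hk⟩ := P.isPGroup' ⟨⟨a, ha1⟩, ha2⟩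
    refine ⟨k, ?_⟩
    have := congrArg (fun z : (P : Subgroup (alternatingGroup (Fin n))) => ((z : alternatingGroup (Fin n)) : Perm (Fin n))) hk
    simpa using this
  -- inverting involution
  obtain ⟨t, ht, htA, horb⟩ := exists_inverting_involution' (A := ↥A) (α := Fin n)
    (fun a b => Subtype.ext (hcomm a a.2 b b.2))
  have htA' : ∀ a ∈ A, ∀ x, t (a x) = a⁻¹ (t x) := fun a ha x => htA ⟨a, ha⟩ x
  have horb' : ∀ x, ∃ a ∈ A, t x = a x := fun x => by
    obtain ⟨a, h⟩ := horb x
    exact ⟨a.1, a.2, h⟩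
  have hinvS : ∀ S : Set (Fin n), (∀ a ∈ A, ∀ x, a x ∈ S ↔ x ∈ S) → ∀ x, t x ∈ S ↔ x ∈ S := by
    intro S hS x
    obtain ⟨a, ha, hax⟩ := horb' x
    rw [hax]
    exact hS a ha x
  have hnormal : ∀ (S : Set (Fin n)) (hS : ∀ a ∈ A, ∀ x, a x ∈ S ↔ x ∈ S), ∀ a ∈ A,
      pperm ht (hinvS S hS) * a * (pperm ht (hinvS S hS))⁻¹ ∈ A := by
    intro S hS a ha
    set τ := pperm ht (hinvS S hS) with hτ
    set c := τ * a * τ⁻¹ with hc
    obtain ⟨ha1, ha2⟩ := (hAmem a).1 ha
    have hcG : c ∈ alternatingGroup (Fin n) := by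
      rw [Equiv.Perm.mem_alternatingGroup] at ha1 ⊢
      rw [hc]
      simp [ha1]
    rw [hAmem]
    refine ⟨hcG, ?_⟩
    apply mem_of_centralizes P ⟨c, hcG⟩
    · obtain ⟨k, hk⟩ := hpow a ha
      refine ⟨k, ?_⟩
      apply Subtype.ext
      simp only [Subgroup.coe_pow, Subgroup.coe_one]
      rw [hc, conj_pow, hk]
      simp
    · intro b hb
      apply Subtype.ext
      simp only [Subgroup.coe_mul]
      have hbA : (b : Perm (Fin n)) ∈ A := (hAmem _).2 ⟨b.2, hb⟩
      exact pperm_conj_comm ht (hinvS S hS) a (htA' a ha) (hS a ha) b (hcomm a ha b hbA) (hS b hbA)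
  have hfinish : ∀ τ : Perm (Fin n), Equiv.Perm.sign τ = 1 → τ * τ = 1 →
      (∀ a ∈ A, τ * a * τ⁻¹ ∈ A) → (∃ a ∈ A, τ * a * τ⁻¹ ≠ a) →
      2 ∣ ((Subgroup.centralizer ((P : Subgroup (alternatingGroup (Fin n))) : Set (alternatingGroup (Fin n)))).subgroupOf (Subgroup.normalizer ((P : Subgroup (alternatingGroup (Fin n))) : Set (alternatingGroup (Fin n))))).index := by
    intro τ hsign hτ2 hτA hτne
    have hτG : τ ∈ alternatingGroup (Fin n) := Equiv.Perm.mem_alternatingGroup.2 hsign
    have h22 : (⟨τ, hτG⟩ : alternatingGroup (Fin n)) * ⟨τ, hτG⟩ = 1 := by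
      apply Subtype.ext
      simpa using hτ2
    apply two_dvd_index_of_invol (P : Subgroup (alternatingGroup (Fin n))) ⟨τ, hτG⟩ h22
    · have hfwd : ∀ h : alternatingGroup (Fin n), h ∈ (P : Subgroup (alternatingGroup (Fin n))) →
          (⟨τ, hτG⟩ : alternatingGroup (Fin n)) * h * (⟨τ, hτG⟩ : alternatingGroup (Fin n))⁻¹ ∈
            (P : Subgroup (alternatingGroup (Fin n))) := by
        intro h hh
        have h1 : (h : Perm (Fin n)) ∈ A := (hAmem _).2 ⟨h.2, hh⟩
        obtain ⟨h2, h3⟩ := (hAmem _).1 (hτA _ h1)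
        convert h3 using 1
        apply Subtype.ext
        simp
      rw [Subgroup.mem_normalizer_iff]
      intro h
      refine ⟨hfwd h, fun hh => ?_⟩
      have h5 := hfwd _ hh
      have hinv : (⟨τ, hτG⟩ : alternatingGroup (Fin n))⁻¹ = ⟨τ, hτG⟩ :=
        inv_eq_of_mul_eq_one_left h22
      have e : (⟨τ, hτG⟩ : alternatingGroup (Fin n)) * (⟨τ, hτG⟩ * h * (⟨τ, hτG⟩ : alternatingGroup (Fin n))⁻¹) * (⟨τ, hτG⟩ : alternatingGroup (Fin n))⁻¹ = h := by
        rw [hinv]
        calc (⟨τ, hτG⟩ : alternatingGroup (Fin n)) * (⟨τ, hτG⟩ * h * ⟨τ, hτG⟩) * ⟨τ, hτG⟩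
            = (⟨τ, hτG⟩ * ⟨τ, hτG⟩) * h * (⟨τ, hτG⟩ * ⟨τ, hτG⟩) := by group
          _ = h := by rw [h22]; simp
      rwa [e] at h5
    · obtain ⟨a, ha, hne⟩ := hτne
      obtain ⟨ha1, ha2⟩ := (hAmem a).1 ha
      intro hC
      have h3 := hC ⟨a, ha1⟩ ha2
      apply hne
      have h4 := congrArg (fun z : alternatingGroup (Fin n) => (z : Perm (Fin n))) h3
      simp only [Subgroup.coe_mul] at h4
      rw [← h4]
      group
  -- orbit sets
  let S : Fin n → Set (Fin n) := fun ω => {x | ∃ a ∈ A, a ω = x}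
  have hSinv : ∀ ω, ∀ a ∈ A, ∀ x, a x ∈ S ω ↔ x ∈ S ω := by
    intro ω a ha x
    constructor
    · rintro ⟨b, hb, hbx⟩
      refine ⟨a⁻¹ * b, A.mul_mem (A.inv_mem ha) hb, ?_⟩
      simp [hbx]
    · rintro ⟨b, hb, rfl⟩
      exact ⟨a * b, A.mul_mem ha hb, rfl⟩
  have hself : ∀ ω, ω ∈ S ω := fun ω => ⟨1, A.one_mem, rfl⟩
  have hodd : ∀ a ∈ A, ∀ x, a (a x) = x → a x = x := by
    intro a ha x hx
    obtain ⟨k, hk⟩ := hpow a ha
    have hoddpk : Odd (p ^ k) := (hp.odd_of_ne_two hp2).pow
    obtain ⟨m, hm⟩ := hoddpk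
    have h1 : ((a ^ 2) ^ m) x = x := by
      apply Equiv.Perm.pow_apply_eq_self_of_apply_eq_self
      simpa [pow_two] using hx
    have h2 : a ^ (2 * m + 1) = 1 := by rw [← hm]; exact hk
    have h3 : a * (a ^ 2) ^ m = 1 := by rw [← pow_mul, ← pow_succ']; exact h2
    have h4 := congrArg (fun σ : Perm (Fin n) => σ x) h3
    simp only [Perm.mul_apply, Perm.one_apply] at h4
    rw [h1] at h4
    exact h4
  have hnc : ∀ (T : Set (Fin n)) (hT : ∀ a ∈ A, ∀ x, a x ∈ T ↔ x ∈ T) (ω : Fin n), ω ∈ T →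
      (∃ a ∈ A, a ω ≠ ω) →
      ∃ a ∈ A, pperm ht (hinvS T hT) * a * (pperm ht (hinvS T hT))⁻¹ ≠ a := by
    rintro T hT ω hω ⟨a, ha, haω⟩
    refine ⟨a, ha, fun heq => haω ?_⟩
    have h1 := pperm_conj_apply ht (hinvS T hT) a (htA' a ha) (hT a ha) ω
    rw [heq] at h1
    unfold cfun at h1
    simp only [hω, if_true] at h1
    apply hodd a ha
    rw [h1]
    simp
  by_cases hcase : ∃ ω ω', (∃ a ∈ A, a ω ≠ ω) ∧ (∃ a ∈ A, a ω' ≠ ω') ∧ ω' ∉ S ω
  · left
    obtain ⟨ω, ω', hω, hω', hnot⟩ := hcase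
    have hdisj : ∀ x, x ∈ S ω → x ∉ S ω' := by
      rintro x ⟨a, ha, rfl⟩ ⟨b, hb, hbx⟩
      apply hnot
      refine ⟨b⁻¹ * a, A.mul_mem (A.inv_mem hb) ha, ?_⟩
      simp [← hbx]
    have hU : ∀ a ∈ A, ∀ x, a x ∈ S ω ∪ S ω' ↔ x ∈ S ω ∪ S ω' := by
      intro a ha x
      simp only [Set.mem_union, hSinv ω a ha x, hSinv ω' a ha x]
    have hunion := pperm_union ht (hinvS _ (hSinv ω)) (hinvS _ (hSinv ω')) hdisj (hinvS _ hU)
    rcases Int.units_eq_one_or (Equiv.Perm.sign (pperm ht (hinvS _ (hSinv ω)))) with h1 | h1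
    · exact hfinish _ h1 (pperm_mul_self _ _) (hnormal _ (hSinv ω)) (hnc _ (hSinv ω) ω (hself ω) hω)
    · rcases Int.units_eq_one_or (Equiv.Perm.sign (pperm ht (hinvS _ (hSinv ω')))) with h2 | h2
      · exact hfinish _ h2 (pperm_mul_self _ _) (hnormal _ (hSinv ω'))
          (hnc _ (hSinv ω') ω' (hself ω') hω')
      · have h3 : Equiv.Perm.sign (pperm ht (hinvS _ hU)) = 1 := by
          rw [hunion, Equiv.Perm.sign_mul, h1, h2]
          simp
        exact hfinish _ h3 (pperm_mul_self _ _) (hnormal _ hU) (hnc _ hU ω (Or.inl (hself ω)) hω)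
  · right
    simp only [not_exists, not_and, not_not] at hcase
    apply cyclic_of_card_le hp2 (by omega) P
    have hcardA : Nat.card (P : Subgroup (alternatingGroup (Fin n))) = Nat.card A := by
      rw [hA]
      exact (Subgroup.card_map_of_injective (Subgroup.subtype_injective _)).symm
    rw [hcardA]
    by_cases hmoved : ∃ ω, ∃ a ∈ A, a ω ≠ ω
    · obtain ⟨ω, hω⟩ := hmoved
      have hinj : Function.Injective (fun a : A => (a : Perm (Fin n)) ω) := by
        intro a b hab
        simp only at hab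
        set c : Perm (Fin n) := (b : Perm (Fin n))⁻¹ * a with hc
        have hcA : c ∈ A := A.mul_mem (A.inv_mem b.2) a.2
        have hcω : c ω = ω := by simp [hc, hab]
        have hc1 : c = 1 := by
          refine Equiv.Perm.ext fun x => ?_
          by_cases hx : ∃ a' ∈ A, a' x ≠ x
          · obtain ⟨d, hd, hdx⟩ := hcase ω x hω hx
            rw [← hdx]
            have h5 := congrArg (fun σ : Perm (Fin n) => σ ω) (hcomm c hcA d hd)
            simp only [Perm.mul_apply] at h5
            rw [h5, hcω]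
            simp
          · simp only [not_exists, not_and, not_not] at hx
            simpa using hx c hcA
        apply Subtype.ext
        have h6 : (b : Perm (Fin n)) * c = a := by rw [hc]; group
        rw [← h6, hc1, mul_one]
      have h7 := Nat.card_le_card_of_injective _ hinj
      simpa using h7
    · simp only [not_exists, not_and, not_not] at hmoved
      have hbot : A = ⊥ := by
        rw [eq_bot_iff]
        intro a ha
        rw [Subgroup.mem_bot]
        refine Equiv.Perm.ext fun x => ?_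
        simpa using hmoved x a ha
      rw [hbot]
      simp
      omega

/-- In a finite group with abelian Sylow 2-subgroups, an element `r` of order dividing 4 that is
inverted by an involution `u` satisfies `r² = 1`. -/
theorem sq_eq_one_of_abelian_sylow2 {G : Type*} [Group G] [Finite G] (P : Sylow 2 G)
    (hP : IsMulCommutative (P : Subgroup G)) (u r : G) (hu : u * u = 1) (hr : r ^ 4 = 1)
    (hur : u * r * u⁻¹ = r⁻¹) : r * r = 1 := by
  have hH : IsPGroup 2 (Subgroup.zpowers u) := by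
    rintro ⟨x, hx⟩
    obtain ⟨m, rfl⟩ := Subgroup.mem_zpowers_iff.1 hx
    refine ⟨1, ?_⟩
    apply Subtype.ext
    simp only [Subgroup.coe_pow, Subgroup.coe_one, pow_one]
    rw [← zpow_natCast, ← zpow_mul, mul_comm, zpow_mul, zpow_natCast, pow_two, hu, one_zpow]
  have hK : IsPGroup 2 (Subgroup.zpowers r) := by
    rintro ⟨x, hx⟩
    obtain ⟨m, rfl⟩ := Subgroup.mem_zpowers_iff.1 hx
    refine ⟨2, ?_⟩
    apply Subtype.ext
    simp only [Subgroup.coe_pow, Subgroup.coe_one]
    rw [← zpow_natCast, ← zpow_mul, mul_comm, zpow_mul, zpow_natCast]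
    norm_num
    rw [hr, one_zpow]
  have hle : Subgroup.zpowers u ≤ Subgroup.normalizer ((Subgroup.zpowers r : Subgroup G) : Set G) := by
    rw [Subgroup.zpowers_le, Subgroup.mem_normalizer_iff]
    have hfwd : ∀ h, h ∈ Subgroup.zpowers r → u * h * u⁻¹ ∈ Subgroup.zpowers r := by
      intro h hh
      obtain ⟨m, rfl⟩ := Subgroup.mem_zpowers_iff.1 hh
      have : u * r ^ m * u⁻¹ = (u * r * u⁻¹) ^ m := (conj_zpow).symm
      rw [this, hur]
      exact Subgroup.zpow_mem _ (Subgroup.inv_mem _ (Subgroup.mem_zpowers r)) m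
    intro h
    refine ⟨hfwd h, fun hh => ?_⟩
    have h2 := hfwd _ hh
    have huinv : u⁻¹ = u := inv_eq_of_mul_eq_one_left hu
    have e : u * (u * h * u⁻¹) * u⁻¹ = h := by
      rw [huinv]
      calc u * (u * h * u) * u = (u * u) * h * (u * u) := by group
        _ = h := by rw [hu]; simp
    rwa [e] at h2
  have hsup := IsPGroup.to_sup_of_normal_right' hH hK hle
  obtain ⟨Q, hQ⟩ := hsup.exists_le_sylow
  obtain ⟨g, hg⟩ := MulAction.exists_smul_eq G Q P
  have huQ : u ∈ (Q : Subgroup G) := hQ ((le_sup_left : Subgroup.zpowers u ≤ _) (Subgroup.mem_zpowers u))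
  have hrQ : r ∈ (Q : Subgroup G) := hQ ((le_sup_right : Subgroup.zpowers r ≤ _) (Subgroup.mem_zpowers r))
  have hmemP : ∀ x ∈ (Q : Subgroup G), g * x * g⁻¹ ∈ (P : Subgroup G) := by
    intro x hx
    rw [← hg, Sylow.coe_subgroup_smul]
    exact ⟨x, hx, rfl⟩
  have hc := hP.is_comm.comm ⟨_, hmemP u huQ⟩ ⟨_, hmemP r hrQ⟩
  have hc' : g * u * g⁻¹ * (g * r * g⁻¹) = g * r * g⁻¹ * (g * u * g⁻¹) := congrArg Subtype.val hc
  have hcomm : u * r = r * u := by
    have h1 : g * (u * r) * g⁻¹ = g * (r * u) * g⁻¹ := by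
      calc g * (u * r) * g⁻¹ = g * u * g⁻¹ * (g * r * g⁻¹) := by group
        _ = g * r * g⁻¹ * (g * u * g⁻¹) := hc'
        _ = g * (r * u) * g⁻¹ := by group
    exact mul_left_cancel (mul_right_cancel h1)
  have h3 : r = r⁻¹ := by
    rw [← hur, hcomm]
    group
  calc r * r = r * r⁻¹ := by nth_rewrite 2 [h3]; rfl
    _ = 1 := mul_inv_cancel r

theorem not_abelian_sylow2 (n : ℕ) (hn : 6 ≤ n) (P : Sylow 2 (alternatingGroup (Fin n)))
    (hP : IsMulCommutative (P : Subgroup (alternatingGroup (Fin n)))) : False := by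
  classical
  let u : Perm (Fin 6) := swap 0 1 * swap 2 3
  let r : Perm (Fin 6) := swap 0 1 * swap 2 3 * (swap 0 2 * swap 4 5)
  have hu : u * u = 1 := by decide
  have hr : r ^ 4 = 1 := by decide
  have hur : u * r * u⁻¹ = r⁻¹ := by decide
  have hrr : r * r ≠ 1 := by decide
  have hsu : Equiv.Perm.sign u = 1 := by decide
  have hsr : Equiv.Perm.sign r = 1 := by decide
  let φ : Perm (Fin 6) →* Perm (Fin n) := Equiv.Perm.viaEmbeddingHom (Fin.castLEEmb hn)
  have hφinj : Function.Injective φ := Equiv.Perm.viaEmbeddingHom_injective _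
  have hφsign : ∀ σ : Perm (Fin 6), Equiv.Perm.sign (φ σ) = Equiv.Perm.sign σ := by
    intro σ
    simp only [φ, Equiv.Perm.viaEmbeddingHom_apply, Equiv.Perm.viaEmbedding]
    rw [Equiv.Perm.sign_extendDomain]
  have hU : φ u ∈ alternatingGroup (Fin n) := by
    rw [Equiv.Perm.mem_alternatingGroup, hφsign, hsu]
  have hR : φ r ∈ alternatingGroup (Fin n) := by
    rw [Equiv.Perm.mem_alternatingGroup, hφsign, hsr]
  have key := sq_eq_one_of_abelian_sylow2 P hP ⟨φ u, hU⟩ ⟨φ r, hR⟩
    (by apply Subtype.ext; simp only [Subgroup.coe_mul, Subgroup.coe_one]; rw [← map_mul, hu, map_one])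
    (by apply Subtype.ext; simp only [Subgroup.coe_pow, Subgroup.coe_one]; rw [← map_pow, hr, map_one])
    (by apply Subtype.ext; simp only [Subgroup.coe_mul, Subgroup.coe_inv]; rw [← map_inv, ← map_inv, ← map_mul, ← map_mul, hur])
  have h1 : φ (r * r) = φ 1 := by
    have := congrArg Subtype.val key
    simp only [Subgroup.coe_mul, Subgroup.coe_one] at this
    rw [map_mul, map_one]
    exact this
  exact hrr (hφinj h1)

theorem a5_two_case (P : Sylow 2 (alternatingGroup (Fin 5)))
    (hP : IsMulCommutative (P : Subgroup (alternatingGroup (Fin 5)))) :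
    ((Subgroup.centralizer ((P : Subgroup (alternatingGroup (Fin 5))) : Set (alternatingGroup (Fin 5)))).subgroupOf (Subgroup.normalizer ((P : Subgroup (alternatingGroup (Fin 5))) : Set (alternatingGroup (Fin 5))))).index = 3 ∧ IsKleinFour (P : Subgroup (alternatingGroup (Fin 5))) := by
  classical
  have hG : Nat.card (alternatingGroup (Fin 5)) = 60 := by
    have h := two_mul_card_alternatingGroup (α := Fin 5)
    rw [Fintype.card_perm, Fintype.card_fin] at h
    rw [Nat.card_eq_fintype_card]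
    have : (5 : ℕ).factorial = 120 := by decide
    omega
  -- |P| = 4
  have hcardP : Nat.card (P : Subgroup (alternatingGroup (Fin 5))) = 4 := by
    obtain ⟨v, hv⟩ := IsPGroup.iff_card.mp P.isPGroup'
    have h1 : 2 ^ 2 ∣ Nat.card (P : Subgroup (alternatingGroup (Fin 5))) :=
      P.pow_dvd_card_of_pow_dvd_card (by rw [hG]; norm_num)
    have h2 : Nat.card (P : Subgroup (alternatingGroup (Fin 5))) ∣ 60 := by
      rw [← hG]; exact Subgroup.card_subgroup_dvd_card _
    rw [hv] at h1 h2 ⊢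
    have hv2 : 2 ≤ v := (Nat.pow_dvd_pow_iff_le_right (by norm_num : 1 < 2)).1 h1
    have hv3 : v ≤ 2 := by
      by_contra hcon
      have h3 : 2 ^ 3 ∣ 2 ^ v := pow_dvd_pow 2 (by omega)
      have h4 : 2 ^ 3 ∣ 60 := h3.trans h2
      norm_num at h4
    have : v = 2 := le_antisymm hv3 hv2
    rw [this]
    norm_num
  have hklein : IsKleinFour (P : Subgroup (alternatingGroup (Fin 5))) := by
    refine ⟨hcardP, ?_⟩
    have hdec : ∀ x : Perm (Fin 5), x ^ 4 = 1 → Equiv.Perm.sign x = 1 → x ^ 2 = 1 := by decide +kernel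
    have hexp : ∀ g : (P : Subgroup (alternatingGroup (Fin 5))), g ^ 2 = 1 := by
      intro g
      have h4 : g ^ 4 = 1 := by rw [← hcardP]; exact pow_card_eq_one'
      have h4' : ((g : alternatingGroup (Fin 5)) : Perm (Fin 5)) ^ 4 = 1 := by
        have := congrArg (fun z : (P : Subgroup (alternatingGroup (Fin 5))) => ((z : alternatingGroup (Fin 5)) : Perm (Fin 5))) h4
        simpa using this
      have h2 := hdec _ h4' (Equiv.Perm.mem_alternatingGroup.1 (g : alternatingGroup (Fin 5)).2)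
      apply Subtype.ext
      apply Subtype.ext
      simpa using h2
    have hdvd : Monoid.exponent (P : Subgroup (alternatingGroup (Fin 5))) ∣ 2 :=
      Monoid.exponent_dvd_of_forall_pow_eq_one hexp
    rcases (Nat.dvd_prime Nat.prime_two).1 hdvd with h | h
    · exfalso
      rw [Monoid.exp_eq_one_iff] at h
      have := Nat.card_eq_one_iff_unique.2 ⟨h, ⟨1⟩⟩
      omega
    · exact h
  refine ⟨?_, hklein⟩
  set N := Subgroup.normalizer ((P : Subgroup (alternatingGroup (Fin 5))) : Set (alternatingGroup (Fin 5))) with hN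
  set C := Subgroup.centralizer ((P : Subgroup (alternatingGroup (Fin 5))) : Set (alternatingGroup (Fin 5))) with hC
  -- r divides |MulAut P| which divides 24
  have key := Subgroup.card_dvd_of_injective _
    (QuotientGroup.kerLift_injective (P : Subgroup (alternatingGroup (Fin 5))).normalizerMonoidHom)
  rw [Subgroup.normalizerMonoidHom_ker, ← Subgroup.index] at key
  have hperm : Nat.card (MulAut (P : Subgroup (alternatingGroup (Fin 5)))) ∣ 24 := by
    have hinj : Function.Injective (MulAut.toPerm (P : Subgroup (alternatingGroup (Fin 5)))) := by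
      intro f g hfg
      refine MulEquiv.ext fun x => ?_
      exact congrArg (fun σ : Perm (P : Subgroup (alternatingGroup (Fin 5))) => σ x) hfg
    have h1 := Subgroup.card_dvd_of_injective _ hinj
    rw [Nat.card_perm, hcardP] at h1
    exact h1
  have hr24 : (C.subgroupOf N).index ∣ 24 := key.trans hperm
  have hrodd : (C.subgroupOf N).index ∣ (P : Subgroup (alternatingGroup (Fin 5))).index := by
    have h1 : C.relIndex N ∣ (P : Subgroup (alternatingGroup (Fin 5))).relIndex N :=
      Subgroup.relIndex_dvd_of_le_left _ P.le_centralizer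
    have h2 : (P : Subgroup (alternatingGroup (Fin 5))).relIndex N ∣ (P : Subgroup (alternatingGroup (Fin 5))).index :=
      Subgroup.relIndex_dvd_index_of_le P.le_normalizer
    exact h1.trans h2
  have hidx : (P : Subgroup (alternatingGroup (Fin 5))).index = 15 := by
    have := (P : Subgroup (alternatingGroup (Fin 5))).index_mul_card
    rw [hcardP, hG] at this
    omega
  rw [hidx] at hrodd
  have hr3 : (C.subgroupOf N).index ∣ 3 := by
    have : (C.subgroupOf N).index ∣ Nat.gcd 24 15 := Nat.dvd_gcd hr24 hrodd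
    simpa using this
  rcases (Nat.dvd_prime Nat.prime_three).1 hr3 with h | h
  · exfalso
    have hNC : N ≤ C := Subgroup.relIndex_eq_one.1 h
    have hcompl := MonoidHom.ker_transferSylow_isComplement' P hNC
    have hsimple : IsSimpleGroup (alternatingGroup (Fin 5)) :=
      alternatingGroup.isSimpleGroup (by simp)
    have hcm := hcompl.card_mul_card
    rw [hcardP, hG] at hcm
    rcases IsSimpleGroup.eq_bot_or_eq_top_of_normal (MonoidHom.transferSylow P hNC).ker inferInstance with hk | hk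
    · rw [hk, Subgroup.card_bot] at hcm
      omega
    · rw [hk, Subgroup.card_top, hG] at hcm
      omega
  · exact h

/-- Let n ≥ 5 and let P be an abelian Sylow p-subgroup of the alternating group A_n. Then N(P)/C(P) (taken in A_n) has even order, or P is cyclic, except when n = 5 and p = 2, where P is a four-group and N(P)/C(P) has order 3. -/
theorem result (n : ℕ) (hn : 5 ≤ n) {p : ℕ} [Fact p.Prime]
    (P : Sylow p (alternatingGroup (Fin n))) (hP : IsMulCommutative (P : Subgroup (alternatingGroup (Fin n)))) :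
    (¬ (n = 5 ∧ p = 2) → 2 ∣ ((Subgroup.centralizer ((P : Subgroup (alternatingGroup (Fin n))) : Set (alternatingGroup (Fin n)))).subgroupOf (Subgroup.normalizer ((P : Subgroup (alternatingGroup (Fin n))) : Set (alternatingGroup (Fin n))))).index ∨ IsCyclic (P : Subgroup (alternatingGroup (Fin n)))) ∧
    ((n = 5 ∧ p = 2) → ((Subgroup.centralizer ((P : Subgroup (alternatingGroup (Fin n))) : Set (alternatingGroup (Fin n)))).subgroupOf (Subgroup.normalizer ((P : Subgroup (alternatingGroup (Fin n))) : Set (alternatingGroup (Fin n))))).index = 3 ∧ IsKleinFour (P : Subgroup (alternatingGroup (Fin n)))) := by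
  constructor
  · intro hne
    by_cases hp2 : p = 2
    · subst hp2
      have hn6 : 6 ≤ n := by
        rcases Nat.lt_or_ge n 6 with h | h
        · exfalso
          apply hne
          exact ⟨by omega, rfl⟩
        · exact h
      exact (not_abelian_sylow2 n hn6 P hP).elim
    · exact odd_case n hn hp2 P hP
  · rintro ⟨rfl, rfl⟩
    exact a5_two_case P hP

end Cfsg.Agent.S2269
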