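import Cfsg.Statements.S2270
-- import your own Cfsg.Agent.* helpers here

set_option autoImplicit false
open Cfsg

namespace Cfsg.Agent.S2270

open MulAction

/-- For an abelian group acting on a set there is an involution of the set that
intertwines the action with its inverse. -/
theorem exists_inverting_involution {A α : Type*} [Group A] [MulAction A α]
    (hcomm : ∀ a b : A, a * b = b * a) :
    ∃ t : α → α, Function.Involutive t ∧ ∀ (a : A) (ω : α), t (a • ω) = a⁻¹ • t ω := by
  classical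
  let rep : α → α := fun ω => (Quotient.mk (orbitRel A α) ω).out
  have hrep : ∀ ω, ∃ g : A, g • rep ω = ω := by
    intro ω
    have h1 : (orbitRel A α) (rep ω) ω := Quotient.mk_out (s := orbitRel A α) ω
    rw [orbitRel_apply] at h1
    have h2 := (mem_orbit_symm (G := A)).1 h1
    obtain ⟨g, hg⟩ := h2
    exact ⟨g, hg⟩
  have hrep_smul : ∀ (a : A) ω, rep (a • ω) = rep ω := by
    intro a ω
    have : Quotient.mk (orbitRel A α) (a • ω) = Quotient.mk (orbitRel A α) ω := by
      apply Quotient.sound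
      change (orbitRel A α) (a • ω) ω
      rw [orbitRel_apply]
      exact ⟨a, rfl⟩
    simp only [rep, this]
  let g : α → A := fun ω => Classical.choose (hrep ω)
  have hg : ∀ ω, g ω • rep ω = ω := fun ω => Classical.choose_spec (hrep ω)
  let t : α → α := fun ω => (g ω)⁻¹ • rep ω
  have claim1 : ∀ (ω : α) (h : A), h • rep ω = ω → t ω = h⁻¹ • rep ω := by
    intro ω h hh
    have e1 : g ω • rep ω = h • rep ω := by rw [hg, hh]
    have e2 : (h⁻¹ * g ω) • rep ω = rep ω := by
      rw [mul_smul, e1, smul_smul, inv_mul_cancel, one_smul]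
    have e3 : (g ω * h⁻¹) • rep ω = rep ω := by rw [hcomm]; exact e2
    change (g ω)⁻¹ • rep ω = h⁻¹ • rep ω
    calc (g ω)⁻¹ • rep ω = (g ω)⁻¹ • ((g ω * h⁻¹) • rep ω) := by rw [e3]
      _ = h⁻¹ • rep ω := by rw [smul_smul, inv_mul_cancel_left]
  have claim3 : ∀ (a : A) (ω : α), t (a • ω) = a⁻¹ • t ω := by
    intro a ω
    have h1 : (a * g ω) • rep (a • ω) = a • ω := by
      rw [hrep_smul, mul_smul, hg]
    rw [claim1 (a • ω) (a * g ω) h1, hrep_smul]
    change _ = a⁻¹ • ((g ω)⁻¹ • rep ω)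
    rw [smul_smul, mul_inv_rev, hcomm]
  have hreprep : ∀ ω, rep (rep ω) = rep ω := by
    intro ω
    obtain ⟨k, hk⟩ := hrep ω
    conv_lhs => rw [← hrep_smul k (rep ω), hk]
  have claim0 : ∀ ω, t (rep ω) = rep ω := by
    intro ω
    have := claim1 (rep ω) 1 (by rw [one_smul, hreprep])
    rw [this, inv_one, one_smul, hreprep]
  refine ⟨t, ?_, claim3⟩
  intro ω
  change t ((g ω)⁻¹ • rep ω) = ω
  rw [claim3, claim0, inv_inv, hg]

/-- Let n ≥ 3, p an odd prime, and P an abelian Sylow p-subgroup of the symmetric group S_n (with p dividing n!, so that P ≠ 1). Then N(P)/C(P) has even order. -/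
theorem result (n : ℕ) (hn : 3 ≤ n) {p : ℕ} [Fact p.Prime] (hp : p ≠ 2) (hpn : p ≤ n)
    (P : Sylow p (Equiv.Perm (Fin n))) (hP : IsMulCommutative (P : Subgroup (Equiv.Perm (Fin n)))) :
    2 ∣ ((Subgroup.centralizer ((P : Subgroup (Equiv.Perm (Fin n))) : Set (Equiv.Perm (Fin n)))).subgroupOf (Subgroup.normalizer ((P : Subgroup (Equiv.Perm (Fin n))) : Set (Equiv.Perm (Fin n))))).index := by
  classical
  set PS : Subgroup (Equiv.Perm (Fin n)) := (P : Subgroup (Equiv.Perm (Fin n))) with hPS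
  have hcomm : ∀ a b : ↥PS, a * b = b * a := fun a b => hP.is_comm.comm a b
  obtain ⟨t, ht, htA⟩ := exists_inverting_involution (A := ↥PS) (α := Fin n) hcomm
  let τ : Equiv.Perm (Fin n) := ht.toPerm
  have hτinv : τ⁻¹ = τ := by
    refine Equiv.Perm.ext fun ω => ?_
    rfl
  have hττ : τ * τ = 1 := by
    refine Equiv.Perm.ext fun ω => ?_
    change t (t ω) = ω
    rw [ht ω]
  have key : ∀ x ∈ PS, τ * x * τ⁻¹ = x⁻¹ := by
    intro x hx
    refine Equiv.Perm.ext fun ω => ?_
    rw [hτinv]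
    change (t (x (t ω)) : Fin n) = ((x⁻¹ : Equiv.Perm (Fin n)) ω : Fin n)
    have := htA ⟨x, hx⟩ (t ω)
    rw [ht ω] at this
    exact this
  have hτN : τ ∈ Subgroup.normalizer (PS : Set (Equiv.Perm (Fin n))) := by
    rw [Subgroup.mem_normalizer_iff]
    intro x
    constructor
    · intro hx
      rw [key x hx]
      exact inv_mem hx
    · intro hx
      have h2 := key _ hx
      have h3 : τ * (τ * x * τ⁻¹) * τ⁻¹ = x := by
        rw [hτinv]
        calc τ * (τ * x * τ) * τ = (τ * τ) * x * (τ * τ) := by group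
          _ = x := by rw [hττ]; simp
      rw [h3] at h2
      rw [h2]
      exact inv_mem hx
  -- P is nontrivial
  have hp' : p.Prime := Fact.out
  have hdvd : p ∣ Nat.card (Equiv.Perm (Fin n)) := by
    rw [Nat.card_eq_fintype_card, Fintype.card_perm, Fintype.card_fin]
    exact (Nat.Prime.dvd_factorial hp').2 hpn
  have hne : PS ≠ ⊥ := P.ne_bot_of_dvd_card hdvd
  obtain ⟨x, hx, hx1⟩ := (Subgroup.ne_bot_iff_exists_ne_one (H := PS)).1 hne |>.imp (fun a h => h) |> fun ⟨a, ha⟩ => (⟨a.1, a.2, fun h => ha (Subtype.ext h)⟩ : ∃ x, x ∈ PS ∧ x ≠ 1)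
  have hxinv : x⁻¹ ≠ x := by
    intro h
    have hx2 : x ^ 2 = 1 := by
      rw [pow_two]
      calc x * x = x⁻¹ * x := by rw [h]
        _ = 1 := inv_mul_cancel x
    obtain ⟨k, hk⟩ := P.isPGroup' ⟨x, hx⟩
    have hk' : x ^ (p ^ k) = 1 := by
      have := congrArg Subtype.val hk
      simpa using this
    have h1 : orderOf x ∣ 2 := orderOf_dvd_of_pow_eq_one hx2
    have h2 : orderOf x ∣ p ^ k := orderOf_dvd_of_pow_eq_one hk'
    have hcop : Nat.Coprime 2 (p ^ k) := by
      apply Nat.Coprime.pow_right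
      rw [Nat.coprime_primes Nat.prime_two hp']
      exact fun h => hp h.symm
    have : orderOf x ∣ 1 := by
      have := Nat.dvd_gcd h1 h2
      rwa [hcop] at this
    exact hx1 (orderOf_eq_one_iff.1 (Nat.dvd_one.1 this))
  have hτC : τ ∉ Subgroup.centralizer (PS : Set (Equiv.Perm (Fin n))) := by
    intro hC
    have h1 := hC x hx
    -- x * τ = τ * x
    have h2 := key x hx
    apply hxinv
    rw [← h2, ← h1]
    group
  -- quotient argument
  set N := Subgroup.normalizer (PS : Set (Equiv.Perm (Fin n))) with hN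
  set C := Subgroup.centralizer (PS : Set (Equiv.Perm (Fin n))) with hC
  have hnorm : (C.subgroupOf N).Normal := Subgroup.normal_subgroupOf_centralizer_normalizer _
  let q : ↥N ⧸ C.subgroupOf N := QuotientGroup.mk ⟨τ, hτN⟩
  have hq1 : q ≠ 1 := by
    intro h
    rw [QuotientGroup.eq_one_iff] at h
    exact hτC h
  have hq2 : q ^ 2 = 1 := by
    change (QuotientGroup.mk ((⟨τ, hτN⟩ : ↥N) ^ 2) : ↥N ⧸ C.subgroupOf N) = 1
    have : (⟨τ, hτN⟩ : ↥N) ^ 2 = 1 := by
      apply Subtype.ext
      simp [pow_two, hττ]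
    rw [this]
    rfl
  have hord : orderOf q = 2 := orderOf_eq_prime hq2 hq1
  rw [Subgroup.index, ← hord]
  exact orderOf_dvd_natCard q

end Cfsg.Agent.S2270
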