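import Cfsg.Statements.S2272
import Cfsg.Agent.Lib.H4.ClsProd.Trace

set_option autoImplicit false
open Cfsg

namespace Cfsg.Agent.S2272

local notation "PSLd" => Matrix.ProjectiveSpecialLinearGroup

theorem nonscalar_of_mk_ne_one {F : Type*} [Field F] {k : ℕ}
    (A : Matrix.SpecialLinearGroup (Fin (k + 3)) F)
    (hA : (QuotientGroup.mk A : Matrix.ProjectiveSpecialLinearGroup (Fin (k + 3)) F) ≠ 1) (c : F) :
    (A : Matrix (Fin (k + 3)) (Fin (k + 3)) F) ≠ Matrix.scalar (Fin (k + 3)) c := by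
  intro h
  apply hA
  rw [QuotientGroup.eq_one_iff, Matrix.SpecialLinearGroup.mem_center_iff]
  refine ⟨c, ?_, h.symm⟩
  have hdet := A.2
  rw [h] at hdet
  simpa using hdet

theorem trace_of_isConj {F : Type*} [Field F] {k : ℕ}
    (X Y : Matrix.SpecialLinearGroup (Fin (k + 3)) F)
    (h : IsConj (QuotientGroup.mk X : Matrix.ProjectiveSpecialLinearGroup (Fin (k + 3)) F)
      (QuotientGroup.mk Y)) :
    ∃ r : F, r ≠ 0 ∧ (Y : Matrix (Fin (k + 3)) (Fin (k + 3)) F).trace =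
      r * (X : Matrix (Fin (k + 3)) (Fin (k + 3)) F).trace := by
  rw [isConj_iff] at h
  obtain ⟨c, hc⟩ := h
  obtain ⟨C, rfl⟩ := QuotientGroup.mk_surjective c
  rw [← QuotientGroup.mk_inv, ← QuotientGroup.mk_mul, ← QuotientGroup.mk_mul,
    QuotientGroup.eq] at hc
  obtain ⟨r, hr1, hr⟩ := Matrix.SpecialLinearGroup.mem_center_iff.1 hc
  have hr0 : r ≠ 0 := by
    rintro rfl
    rw [Fintype.card_fin, zero_pow (by omega)] at hr1
    exact zero_ne_one hr1
  refine ⟨r, hr0, ?_⟩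
  have hY : Y = (C * X * C⁻¹) * ((C * X * C⁻¹)⁻¹ * Y) := by group
  have h1 : (Y : Matrix (Fin (k + 3)) (Fin (k + 3)) F) =
      ((C * X * C⁻¹ : Matrix.SpecialLinearGroup (Fin (k + 3)) F) :
        Matrix (Fin (k + 3)) (Fin (k + 3)) F) * Matrix.scalar (Fin (k + 3)) r := by
    conv_lhs => rw [hY]
    rw [Matrix.SpecialLinearGroup.coe_mul, ← hr]
  have h2 : ((C * X * C⁻¹ : Matrix.SpecialLinearGroup (Fin (k + 3)) F) :
      Matrix (Fin (k + 3)) (Fin (k + 3)) F).trace =
      (X : Matrix (Fin (k + 3)) (Fin (k + 3)) F).trace := by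
    have := Cfsg.Agent.Lib.H4.ClsProd.trace_conj (C⁻¹) X
    rwa [inv_inv] at this
  rw [h1, Matrix.scalar_apply, ← Matrix.smul_one_eq_diagonal, Matrix.mul_smul, Matrix.mul_one,
    Matrix.trace_smul, h2, smul_eq_mul]

/-- Let F be a finite field and d ≥ 3, and let a, b be non-identity elements of PSL_d(F). Then the product of the conjugacy classes of a and b is not a single conjugacy class: there are conjugates a′ of a and b′ of b such that a′b′ is not conjugate to ab. -/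
theorem result {F : Type*} [Field F] [Fintype F] (d : ℕ) (hd : 3 ≤ d)
    (a b : Matrix.ProjectiveSpecialLinearGroup (Fin d) F) (ha : a ≠ 1) (hb : b ≠ 1) :
    ∃ g h : Matrix.ProjectiveSpecialLinearGroup (Fin d) F, ¬ IsConj (a * b) (g * a * g⁻¹ * (h * b * h⁻¹)) := by
  obtain ⟨k, rfl⟩ : ∃ k, d = k + 3 := ⟨d - 3, by omega⟩
  obtain ⟨A, rfl⟩ := QuotientGroup.mk_surjective a
  obtain ⟨B, rfl⟩ := QuotientGroup.mk_surjective b
  have hA := nonscalar_of_mk_ne_one A ha
  have hB := nonscalar_of_mk_ne_one B hb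
  by_contra hcon
  push Not at hcon
  obtain ⟨h0, hh0⟩ := Cfsg.Agent.Lib.H4.ClsProd.exists_trace_eq A B hA hB 0
  obtain ⟨h1, hh1⟩ := Cfsg.Agent.Lib.H4.ClsProd.exists_trace_eq A B hA hB 1
  have key : ∀ h : Matrix.SpecialLinearGroup (Fin (k + 3)) F,
      ∃ r : F, r ≠ 0 ∧ ((A * (h * B * h⁻¹) : Matrix.SpecialLinearGroup (Fin (k + 3)) F) :
        Matrix (Fin (k + 3)) (Fin (k + 3)) F).trace =
        r * ((A * B : Matrix.SpecialLinearGroup (Fin (k + 3)) F) :
          Matrix (Fin (k + 3)) (Fin (k + 3)) F).trace := by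
    intro h
    apply trace_of_isConj
    have := hcon 1 (QuotientGroup.mk h)
    simpa [QuotientGroup.mk_mul, QuotientGroup.mk_inv] using this
  obtain ⟨r0, hr0ne, hr0⟩ := key h0
  obtain ⟨r1, -, hr1⟩ := key h1
  rw [hh0] at hr0
  rw [hh1] at hr1
  rcases mul_eq_zero.1 hr0.symm with h | h
  · exact hr0ne h
  · rw [h, mul_zero] at hr1
    exact one_ne_zero hr1

end Cfsg.Agent.S2272
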