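import Cfsg.Statements.S2278
import Cfsg.Agent.Lib.H12.Gen3G
import Cfsg.Agent.Lib.H12.Gen3I

set_option autoImplicit false
open Cfsg

namespace Cfsg.Agent.S2278

/-- Let F be a finite field. Then SL_3(F) is generated by two conjugate regular unipotent elements: there are u with u − 1 nilpotent and (u − 1)² ≠ 0, and g, such that u and g u g⁻¹ generate SL_3(F). -/
theorem result {F : Type*} [Field F] [Fintype F] :
    ∃ u g : Matrix.SpecialLinearGroup (Fin 3) F, IsNilpotent ((u : Matrix (Fin 3) (Fin 3) F) - 1) ∧ ((u : Matrix (Fin 3) (Fin 3) F) - 1) ^ (3 - 1) ≠ 0 ∧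
      Subgroup.closure ({u, g * u * g⁻¹} : Set (Matrix.SpecialLinearGroup (Fin 3) F)) = ⊤ := by
  classical
  by_cases h2 : Fintype.card F = 2
  · obtain ⟨u, g, ⟨hu1, hu2⟩, hgen⟩ := Cfsg.Agent.Lib.H12.Gen3.caseTwo h2
    exact ⟨u, g, hu1, hu2, hgen⟩
  by_cases h4 : Fintype.card F = 4
  · obtain ⟨u, g, ⟨hu1, hu2⟩, hgen⟩ := Cfsg.Agent.Lib.H12.Gen3.caseFour h4
    exact ⟨u, g, hu1, hu2, hgen⟩
  obtain ⟨l, hl, hl3, hcl⟩ := Cfsg.Agent.Lib.H12.Gen3.exists_lam h2 h4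
  by_cases h3 : (3 : F) = 0
  · have hθ : 1 - l ^ 3 ≠ 0 := sub_ne_zero.mpr (Ne.symm hl3)
    refine ⟨Cfsg.Agent.Lib.H12.Gen3.xC (1 - l ^ 3), Cfsg.Agent.Lib.H12.Gen3.gC l hl,
      ⟨3, Cfsg.Agent.Lib.H12.Gen3.xCm_sub_one_pow h3 _⟩,
      Cfsg.Agent.Lib.H12.Gen3.xCm_sub_one_sq h3 hθ, ?_⟩
    exact Cfsg.Agent.Lib.H12.Gen3.caseC hl hl3 hcl
  · refine ⟨Cfsg.Agent.Lib.H12.Gen3.xB F, Cfsg.Agent.Lib.H12.Gen3.gB l hl,
      ⟨3, Cfsg.Agent.Lib.H12.Gen3.Cm_sub_one_pow⟩,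
      Cfsg.Agent.Lib.H12.Gen3.Cm_sub_one_sq, ?_⟩
    exact Cfsg.Agent.Lib.H12.Gen3.caseB h3 hl hl3 hcl

end Cfsg.Agent.S2278
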