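import Cfsg.Statements.S2298
import Cfsg.Agent.Lib.H12.GL2Values

set_option autoImplicit false
open Cfsg

namespace Cfsg.Agent.S2298

open Cfsg.Agent.Lib.H12 Cfsg.Agent.Lib.L0 Matrix

theorem two_mul_choose_two (n : ℕ) : 2 * n.choose 2 = n * (n - 1) := by
  rw [Nat.choose_two_right, Nat.mul_div_cancel' (Nat.even_mul_pred_self n).two_dvd]

theorem arith1 (q : ℕ) (hq : 3 ≤ q) : (q - 1).choose 2 = (q - 1) * (q - 2) / 2 := by
  rw [Nat.choose_two_right]
  have : q - 1 - 1 = q - 2 := by omega
  rw [this]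

theorem arith2 (q : ℕ) (hq : 3 ≤ q) :
    (q - 1) + q * (q - 1) - ((q - 1) + ((q - 1) + (q - 1).choose 2)) = q * (q - 1) / 2 := by
  obtain ⟨n, rfl⟩ : ∃ n, q = n + 1 := ⟨q - 1, by omega⟩
  simp only [Nat.add_sub_cancel]
  have h1 := two_mul_choose_two n
  have h2 : (n + 1) * n = n * (n - 1) + 2 * n := by
    cases n with
    | zero => simp
    | succ k => simp only [Nat.add_sub_cancel]; ring
  have h3 : (n + 1) * n / 2 = n.choose 2 + n := by
    rw [h2, ← h1]
    omega
  rw [h3]
  rw [h2, ← h1]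
  omega

/-- Over a finite field F with q elements, every irreducible complex character of GL₂ has degree 1, q − 1, q or q + 1; and when q ≥ 3 (so that these four numbers are distinct) there are exactly q − 1 irreducible characters of degree 1, exactly q − 1 of degree q, exactly (q − 1)(q − 2)/2 of degree q + 1 and exactly q(q − 1)/2 of degree q − 1. -/
theorem result {F : Type*} [Field F] [Fintype F] :
    (∀ χ : Matrix.GeneralLinearGroup (Fin 2) F → ℂ, Cfsg.IsIrrCharacter (Matrix.GeneralLinearGroup (Fin 2) F) χ →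
      χ 1 = 1 ∨ χ 1 = (Fintype.card F : ℂ) - 1 ∨ χ 1 = (Fintype.card F : ℂ) ∨ χ 1 = (Fintype.card F : ℂ) + 1) ∧
    (3 ≤ Fintype.card F →
      Nat.card {χ : Cfsg.IrrCharacter (Matrix.GeneralLinearGroup (Fin 2) F) // (χ : Matrix.GeneralLinearGroup (Fin 2) F → ℂ) 1 = 1} = Fintype.card F - 1 ∧
      Nat.card {χ : Cfsg.IrrCharacter (Matrix.GeneralLinearGroup (Fin 2) F) // (χ : Matrix.GeneralLinearGroup (Fin 2) F → ℂ) 1 = (Fintype.card F : ℂ)} = Fintype.card F - 1 ∧
      Nat.card {χ : Cfsg.IrrCharacter (Matrix.GeneralLinearGroup (Fin 2) F) // (χ : Matrix.GeneralLinearGroup (Fin 2) F → ℂ) 1 = (Fintype.card F : ℂ) + 1} = (Fintype.card F - 1) * (Fintype.card F - 2) / 2 ∧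
      Nat.card {χ : Cfsg.IrrCharacter (Matrix.GeneralLinearGroup (Fin 2) F) // (χ : Matrix.GeneralLinearGroup (Fin 2) F → ℂ) 1 = (Fintype.card F : ℂ) - 1} = Fintype.card F * (Fintype.card F - 1) / 2) := by
  classical
  have hq0 : (Fintype.card F : ℂ) ≠ 0 := card_ne_zero_complex
  have hne1 : (Fintype.card F : ℂ) ≠ 1 := card_ne_one_complex
  constructor
  · intro χ hχ
    rcases gl2_irr_classification χ hχ with ⟨α, rfl⟩ | ⟨α, rfl⟩ | ⟨α, β, hαβ, rfl⟩ | ⟨hc, hd, hu'⟩
    · left; exact detChar_one α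
    · right; right; left; exact stChar_one α
    · right; right; right; exact psChar_one α β
    · right; left; exact hd
  · intro hq
    have hne2 : (Fintype.card F : ℂ) ≠ 2 := by
      intro h
      have : Fintype.card F = 2 := by exact_mod_cast h
      omega
    -- degrees of the members of the principal series
    have hdegA : ∀ α : MulChar F ℂ, ((psIrr (Sum.inl α) : Cfsg.IrrCharacter (GL (Fin 2) F)) : GL (Fin 2) F → ℂ) 1 = 1 :=
      fun α => detChar_one α
    have hdegS : ∀ α : MulChar F ℂ,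
        ((psIrr (Sum.inr (Sum.inl α)) : Cfsg.IrrCharacter (GL (Fin 2) F)) : GL (Fin 2) F → ℂ) 1 = (Fintype.card F : ℂ) :=
      fun α => stChar_one α
    have hdegR : ∀ s : {s : Sym2 (MulChar F ℂ) // ¬ s.IsDiag},
        ((psIrr (Sum.inr (Sum.inr s)) : Cfsg.IrrCharacter (GL (Fin 2) F)) : GL (Fin 2) F → ℂ) 1 =
          (Fintype.card F : ℂ) + 1 :=
      fun s => rSym_one s.1
    -- classification in terms of `psIrr`
    have hcls : ∀ χ : Cfsg.IrrCharacter (GL (Fin 2) F),
        (∃ α, χ = psIrr (Sum.inl α)) ∨ (∃ α, χ = psIrr (Sum.inr (Sum.inl α))) ∨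
        (∃ s, χ = psIrr (Sum.inr (Sum.inr s))) ∨
        (χ ∉ Set.range (psIrr (F := F)) ∧ (χ : GL (Fin 2) F → ℂ) 1 = (Fintype.card F : ℂ) - 1) := by
      intro χ
      by_cases hr : χ ∈ Set.range (psIrr (F := F))
      · obtain ⟨p, rfl⟩ := hr
        rcases p with α | α | s
        · exact Or.inl ⟨α, rfl⟩
        · exact Or.inr (Or.inl ⟨α, rfl⟩)
        · exact Or.inr (Or.inr (Or.inl ⟨s, rfl⟩))
      · exact Or.inr (Or.inr (Or.inr ⟨hr, (cuspidal_values χ hr).1⟩))
    refine ⟨?_, ?_, ?_, ?_⟩
    · -- degree 1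
      rw [← card_mulChar (F := F)]
      symm
      apply Nat.card_congr
      refine Equiv.ofBijective (fun α => ⟨psIrr (Sum.inl α), hdegA α⟩) ⟨?_, ?_⟩
      · intro α α' h
        have h' : psIrr (Sum.inl α) = psIrr (Sum.inl α') := congrArg Subtype.val h
        exact Sum.inl_injective (psIrr_injective h')
      · rintro ⟨χ, hχ⟩
        rcases hcls χ with ⟨α, rfl⟩ | ⟨α, rfl⟩ | ⟨s, rfl⟩ | ⟨_, hd⟩
        · exact ⟨α, rfl⟩
        · exfalso; rw [hdegS] at hχ; exact hne1 hχ
        · exfalso; rw [hdegR] at hχ; exact hq0 (by linear_combination hχ)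
        · exfalso; rw [hd] at hχ; exact hne2 (by linear_combination hχ)
    · -- degree q
      rw [← card_mulChar (F := F)]
      symm
      apply Nat.card_congr
      refine Equiv.ofBijective (fun α => ⟨psIrr (Sum.inr (Sum.inl α)), hdegS α⟩) ⟨?_, ?_⟩
      · intro α α' h
        have h' : psIrr (Sum.inr (Sum.inl α)) = psIrr (Sum.inr (Sum.inl α')) := congrArg Subtype.val h
        exact Sum.inl_injective (Sum.inr_injective (psIrr_injective h'))
      · rintro ⟨χ, hχ⟩
        rcases hcls χ with ⟨α, rfl⟩ | ⟨α, rfl⟩ | ⟨s, rfl⟩ | ⟨_, hd⟩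
        · exfalso; rw [hdegA] at hχ; exact hne1 hχ.symm
        · exact ⟨α, rfl⟩
        · exfalso; rw [hdegR] at hχ
          have : (1 : ℂ) = 0 := by linear_combination hχ
          norm_num at this
        · exfalso; rw [hd] at hχ
          have : (1 : ℂ) = 0 := by linear_combination (-1 : ℂ) * hχ
          norm_num at this
    · -- degree q + 1
      rw [← arith1 _ hq, ← card_offDiag_mulChar (F := F)]
      symm
      apply Nat.card_congr
      refine Equiv.ofBijective (fun s => ⟨psIrr (Sum.inr (Sum.inr s)), hdegR s⟩) ⟨?_, ?_⟩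
      · intro s s' h
        have h' : psIrr (Sum.inr (Sum.inr s)) = psIrr (Sum.inr (Sum.inr s')) := congrArg Subtype.val h
        exact Sum.inr_injective (Sum.inr_injective (psIrr_injective h'))
      · rintro ⟨χ, hχ⟩
        rcases hcls χ with ⟨α, rfl⟩ | ⟨α, rfl⟩ | ⟨s, rfl⟩ | ⟨_, hd⟩
        · exfalso; rw [hdegA] at hχ; exact hq0 (by linear_combination (-1 : ℂ) * hχ)
        · exfalso; rw [hdegS] at hχ
          have : (1 : ℂ) = 0 := by linear_combination (-1 : ℂ) * hχ
          norm_num at this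
        · exact ⟨s, rfl⟩
        · exfalso; rw [hd] at hχ
          have : (2 : ℂ) = 0 := by linear_combination (-1 : ℂ) * hχ
          norm_num at this
    · -- degree q - 1
      have hequiv : Nat.card {χ : Cfsg.IrrCharacter (GL (Fin 2) F) // (χ : GL (Fin 2) F → ℂ) 1 = (Fintype.card F : ℂ) - 1} =
          Nat.card {χ : Cfsg.IrrCharacter (GL (Fin 2) F) // χ ∉ Set.range (psIrr (F := F))} := by
        apply Nat.card_congr
        apply Equiv.subtypeEquivRight
        intro χ
        constructor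
        · intro hχ
          rcases hcls χ with ⟨α, rfl⟩ | ⟨α, rfl⟩ | ⟨s, rfl⟩ | ⟨hr, _⟩
          · exfalso; rw [hdegA] at hχ; exact hne2 (by linear_combination (-1 : ℂ) * hχ)
          · exfalso; rw [hdegS] at hχ
            have : (1 : ℂ) = 0 := by linear_combination hχ
            norm_num at this
          · exfalso; rw [hdegR] at hχ
            have : (2 : ℂ) = 0 := by linear_combination hχ
            norm_num at this
          · exact hr
        · intro hr
          exact (cuspidal_values χ hr).1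
      rw [hequiv]
      have : Fintype (Cfsg.IrrCharacter (GL (Fin 2) F)) := Fintype.ofFinite _
      have : Fintype (MulChar F ℂ) := Fintype.ofFinite _
      rw [Nat.card_eq_fintype_card, Fintype.card_subtype_compl, ← Nat.card_eq_fintype_card,
        ← Nat.card_eq_fintype_card, card_irr_gl2]
      have hr : Nat.card {χ : Cfsg.IrrCharacter (GL (Fin 2) F) // χ ∈ Set.range (psIrr (F := F))} =
          Nat.card (PSParam F) := Nat.card_range_of_injective psIrr_injective
      rw [hr, card_psParam]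
      exact arith2 _ hq

end Cfsg.Agent.S2298
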