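import Cfsg.Statements.S2300
import Cfsg.Agent.Lib.H12.SL2Count2

set_option autoImplicit false
open Cfsg

namespace Cfsg.Agent.S2300

open Cfsg.Agent.Lib.H12 Cfsg.Agent.Lib.L0 Matrix

/-- Over a finite field F with q elements, q even, every irreducible complex character of SL₂ has degree 1, q − 1, q or q + 1; and when q ≥ 4 (so that these four numbers are distinct) there are exactly one irreducible character of degree 1, one of degree q, (q − 2)/2 of degree q + 1 and q/2 of degree q − 1. -/
theorem result {F : Type*} [Field F] [Fintype F] [CharP F 2] :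
    (∀ χ : Matrix.SpecialLinearGroup (Fin 2) F → ℂ, Cfsg.IsIrrCharacter (Matrix.SpecialLinearGroup (Fin 2) F) χ →
      χ 1 = 1 ∨ χ 1 = (Fintype.card F : ℂ) - 1 ∨ χ 1 = (Fintype.card F : ℂ) ∨ χ 1 = (Fintype.card F : ℂ) + 1) ∧
    (4 ≤ Fintype.card F →
      Nat.card {χ : Cfsg.IrrCharacter (Matrix.SpecialLinearGroup (Fin 2) F) // (χ : Matrix.SpecialLinearGroup (Fin 2) F → ℂ) 1 = 1} = 1 ∧
      Nat.card {χ : Cfsg.IrrCharacter (Matrix.SpecialLinearGroup (Fin 2) F) // (χ : Matrix.SpecialLinearGroup (Fin 2) F → ℂ) 1 = (Fintype.card F : ℂ)} = 1 ∧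
      Nat.card {χ : Cfsg.IrrCharacter (Matrix.SpecialLinearGroup (Fin 2) F) // (χ : Matrix.SpecialLinearGroup (Fin 2) F → ℂ) 1 = (Fintype.card F : ℂ) + 1} = (Fintype.card F - 2) / 2 ∧
      Nat.card {χ : Cfsg.IrrCharacter (Matrix.SpecialLinearGroup (Fin 2) F) // (χ : Matrix.SpecialLinearGroup (Fin 2) F → ℂ) 1 = (Fintype.card F : ℂ) - 1} = Fintype.card F / 2) := by
  classical
  have hq1 : 1 ≤ Fintype.card F := Fintype.card_pos
  have heven : Even (Fintype.card F) := by
    rw [Nat.even_iff]
    exact FiniteField.even_card_of_char_two (ringChar.eq F 2)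
  constructor
  · intro χ hχ
    obtain ⟨k, hk, hcases⟩ := sl2_irr_classification_deg hχ
    rw [hk]
    obtain ⟨m, hm⟩ := heven
    rcases hcases with ⟨-, h⟩ | ⟨-, h⟩ | ⟨γ, -, -, h⟩ | ⟨γ, χ', δ, -, -, -, -, -, -, h⟩ |
      ⟨π, -, -, h⟩ | ⟨π, χ', δ, -, -, -, -, -, h⟩
    · left; rw [h]; norm_num
    · right; right; left; rw [h]
    · right; right; right; rw [h]; push_cast; ring
    · exfalso; omega
    · right; left
      have : (k : ℂ) + 1 = (Fintype.card F : ℂ) := by exact_mod_cast h
      linear_combination this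
    · exfalso; omega
  · intro hq
    have : Fintype (MulChar F ℂ) := Fintype.ofFinite _
    refine ⟨?_, ?_, ?_, ?_⟩
    · have h := natCard_irr_deg_one (F := F) hq
      simp only [Nat.cast_one] at h
      exact h
    · exact natCard_irr_deg_q hq
    · have h := natCard_irr_deg_q_add_one (F := F)
      rw [card_mulChar_sq_ne_one_even heven] at h
      simp only [Nat.cast_add, Nat.cast_one] at h
      omega
    · have h := natCard_irr_deg_cusp_even (F := F) hq
      simp only [Nat.cast_sub hq1, Nat.cast_one] at h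
      exact h

end Cfsg.Agent.S2300
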