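import Cfsg.Statements.S2301
import Cfsg.Agent.Lib.H12.SL2OddUnip

set_option autoImplicit false
open Cfsg

namespace Cfsg.Agent.S2301

open Cfsg.Agent.Lib.H12

theorem odd_card {F : Type*} [Field F] [Fintype F] (p : ℕ) [Fact p.Prime] [CharP F p] (hp : p ≠ 2) :
    Odd (Fintype.card F) := by
  obtain ⟨n, hprime, hcard⟩ := FiniteField.card F p
  rw [hcard]
  exact (hprime.eq_two_or_odd'.resolve_left hp).pow

theorem upper_eq {F : Type*} [Field F] (g : Matrix.SpecialLinearGroup (Fin 2) F)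
    (h00 : (g : Matrix (Fin 2) (Fin 2) F) 0 0 = 1) (h11 : (g : Matrix (Fin 2) (Fin 2) F) 1 1 = 1)
    (h10 : (g : Matrix (Fin 2) (Fin 2) F) 1 0 = 0) :
    g = sl2Up true ((g : Matrix (Fin 2) (Fin 2) F) 0 1) := by
  apply Subtype.ext
  ext i j
  fin_cases i <;> fin_cases j <;> simp [sgn, h00, h11, h10]

/-- Over a finite field with q elements of odd characteristic p, the elements of order p of SL₂ (the non-identity unipotent elements) fall into exactly two conjugacy classes, each of size (q² − 1)/2; two upper unitriangular matrices with non-zero off-diagonal entries b and b′ are conjugate exactly when bb′ is a square. -/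
theorem result {F : Type*} [Field F] [Fintype F] (p : ℕ) [Fact p.Prime] [CharP F p] (hp : p ≠ 2) :
    Nat.card {C : ConjClasses (Matrix.SpecialLinearGroup (Fin 2) F) // ∃ g : Matrix.SpecialLinearGroup (Fin 2) F, orderOf g = p ∧ ConjClasses.mk g = C} = 2 ∧
    (∀ g : Matrix.SpecialLinearGroup (Fin 2) F, orderOf g = p → Nat.card (ConjClasses.mk g).carrier = (Fintype.card F ^ 2 - 1) / 2) ∧
    ∀ g h : Matrix.SpecialLinearGroup (Fin 2) F, (g : Matrix (Fin 2) (Fin 2) F) 0 0 = 1 → (g : Matrix (Fin 2) (Fin 2) F) 1 1 = 1 → (g : Matrix (Fin 2) (Fin 2) F) 1 0 = 0 → (g : Matrix (Fin 2) (Fin 2) F) 0 1 ≠ 0 →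
      (h : Matrix (Fin 2) (Fin 2) F) 0 0 = 1 → (h : Matrix (Fin 2) (Fin 2) F) 1 1 = 1 → (h : Matrix (Fin 2) (Fin 2) F) 1 0 = 0 → (h : Matrix (Fin 2) (Fin 2) F) 0 1 ≠ 0 →
      (IsConj g h ↔ IsSquare ((g : Matrix (Fin 2) (Fin 2) F) 0 1 * (h : Matrix (Fin 2) (Fin 2) F) 0 1)) := by
  have hodd : Odd (Fintype.card F) := odd_card p hp
  have h2 : (2 : F) ≠ 0 := two_ne_zero_of_odd hodd
  obtain ⟨ν, hν⟩ := FiniteField.exists_nonsquare (ringChar_ne_two_of_odd hodd)
  have hν0 : ν ≠ 0 := by rintro rfl; exact hν IsSquare.zero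
  have hβ : ∀ s : Bool, (if s then (1 : F) else ν) ≠ 0 := by
    intro s; cases s <;> simp [hν0]
  -- every element of order p is conjugate to a representative
  have hrep : ∀ g : Matrix.SpecialLinearGroup (Fin 2) F, orderOf g = p →
      ∃ s : Bool, ConjClasses.mk g = ConjClasses.mk (sl2Up true (if s then 1 else ν)) := by
    intro g hg
    obtain ⟨hns, htr⟩ := (sl2_orderOf_eq_char_iff p g).mp hg
    obtain ⟨s, hs⟩ := exists_isConj_sl2Up ν hν g hns true (by rw [htr]; simp [sgn])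
    exact ⟨s, (ConjClasses.mk_eq_mk_iff_isConj.mpr hs).symm⟩
  have hord : ∀ β : F, β ≠ 0 → orderOf (sl2Up true β : Matrix.SpecialLinearGroup (Fin 2) F) = p := by
    intro β hβ0
    rw [sl2_orderOf_eq_char_iff p]
    exact ⟨nonScalar_sl2Up true hβ0, by rw [trace_sl2Up]; simp [sgn]⟩
  refine ⟨?_, ?_, ?_⟩
  · rw [Nat.card_eq_two_iff]
    refine ⟨⟨ConjClasses.mk (sl2Up true 1), sl2Up true 1, hord 1 one_ne_zero, rfl⟩,
      ⟨ConjClasses.mk (sl2Up true ν), sl2Up true ν, hord ν hν0, rfl⟩, ?_, ?_⟩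
    · intro h
      have h' := Subtype.mk.inj h
      have := sl2ClassMapOdd_injective h2 ν hν
        (a₁ := Sum.inr (Sum.inr (true, true))) (a₂ := Sum.inr (Sum.inr (true, false)))
        (by simpa [sl2ClassMapOdd] using h')
      simp at this
    · rw [Set.eq_univ_iff_forall]
      rintro ⟨C, g, hg, rfl⟩
      obtain ⟨s, hs⟩ := hrep g hg
      cases s
      · right
        rw [Set.mem_singleton_iff]
        apply Subtype.ext
        simpa using hs
      · left
        apply Subtype.ext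
        simpa using hs
  · intro g hg
    obtain ⟨s, hs⟩ := hrep g hg
    rw [hs]
    exact card_carrier_sl2Up h2 (hβ s)
  · intro g h g00 g11 g10 g01 h00 h11 h10 h01
    have hg := upper_eq g g00 g11 g10
    have hh := upper_eq h h00 h11 h10
    have htr : (g : Matrix (Fin 2) (Fin 2) F).trace = (h : Matrix (Fin 2) (Fin 2) F).trace := by
      rw [Matrix.trace_fin_two, Matrix.trace_fin_two, g00, g11, h00, h11]
    have ht : (h : Matrix (Fin 2) (Fin 2) F).trace ^ 2 = 4 := by
      rw [Matrix.trace_fin_two, h00, h11]; norm_num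
    have hDg : (cycMat (g : Matrix (Fin 2) (Fin 2) F) 0 1).det = -(g : Matrix (Fin 2) (Fin 2) F) 0 1 := by
      rw [det_cycMat]; simp
    have hDh : (cycMat (h : Matrix (Fin 2) (Fin 2) F) 0 1).det = -(h : Matrix (Fin 2) (Fin 2) F) 0 1 := by
      rw [det_cycMat]; simp
    rw [sl2_isConj_iff_isSquare h2 g h htr ht 0 1 0 1 (by rw [hDg]; exact neg_ne_zero.mpr g01)
      (by rw [hDh]; exact neg_ne_zero.mpr h01), hDg, hDh, neg_div_neg_eq, isSquare_div_iff_mul h01]

end Cfsg.Agent.S2301
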