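import Cfsg.Statements.S2302
import Cfsg.Agent.Lib.H12.Unipotent
import Cfsg.Agent.Lib.H12.SL2

set_option autoImplicit false
open Cfsg

namespace Cfsg.Agent.S2302

open Cfsg.Agent.Lib.H12

variable {F : Type*} [Field F]

theorem facts [CharP F 2] (g : Matrix.SpecialLinearGroup (Fin 2) F) (hg : orderOf g = 2) :
    NonScalar (g : Matrix (Fin 2) (Fin 2) F) ∧ (g : Matrix (Fin 2) (Fin 2) F).trace = 2 := by
  have : Fact (Nat.Prime 2) := ⟨Nat.prime_two⟩
  have h0 : g ^ 2 = 1 := by
    have := pow_orderOf_eq_one g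
    rwa [hg] at this
  have h1 : (g : Matrix (Fin 2) (Fin 2) F) ^ 2 ^ 1 = 1 := by
    rw [pow_one, ← Matrix.SpecialLinearGroup.coe_pow, h0, Matrix.SpecialLinearGroup.coe_one]
  have h2 : ((g : Matrix (Fin 2) (Fin 2) F) - 1) ^ 2 = 0 := by
    have := sub_one_pow_card_eq_zero 2 (g : Matrix (Fin 2) (Fin 2) F) 1 h1
    simpa using this
  have h3 : (g : Matrix (Fin 2) (Fin 2) F) ≠ 1 := by
    intro h
    have : g = 1 := Subtype.ext h
    rw [this, orderOf_one] at hg
    exact absurd hg (by norm_num)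
  exact ⟨(unipotent_two_facts _ h2 h3).1, (unipotent_two_facts _ h2 h3).2.1⟩

theorem two_eq_zero' [CharP F 2] : (2 : F) = 0 := by exact_mod_cast CharP.cast_eq_zero F 2

/-- the involution with given off-diagonal entries -/
theorem exists_invol [CharP F 2] (hF : ∀ a : F, IsSquare a) (b c : F) (hbc : (b, c) ≠ (0, 0)) :
    ∃ x : Matrix.SpecialLinearGroup (Fin 2) F, orderOf x = 2 ∧
      (x : Matrix (Fin 2) (Fin 2) F) 0 1 = b ∧ (x : Matrix (Fin 2) (Fin 2) F) 1 0 = c := by
  obtain ⟨a, ha⟩ := hF (1 + b * c)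
  have h2 : (2 : F) = 0 := two_eq_zero'
  have hdet : (!![a, b; c, a] : Matrix (Fin 2) (Fin 2) F).det = 1 := by
    rw [Matrix.det_fin_two_of]; linear_combination (-1 : F) * ha
  let x : Matrix.SpecialLinearGroup (Fin 2) F := ⟨!![a, b; c, a], hdet⟩
  have hxval : (x : Matrix (Fin 2) (Fin 2) F) = !![a, b; c, a] := rfl
  refine ⟨x, ?_, by simp [hxval], by simp [hxval]⟩
  apply orderOf_eq_prime
  · apply Subtype.ext
    rw [Matrix.SpecialLinearGroup.coe_pow, hxval, Matrix.SpecialLinearGroup.coe_one, pow_two]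
    ext i j
    fin_cases i <;> fin_cases j <;> simp [Matrix.mul_apply, Fin.sum_univ_two]
    · linear_combination (-1 : F) * ha + b * c * h2
    · linear_combination a * b * h2
    · linear_combination a * c * h2
    · linear_combination (-1 : F) * ha + b * c * h2
  · intro hx1
    apply hbc
    have e1 := congrArg (fun g : Matrix.SpecialLinearGroup (Fin 2) F => (g : Matrix (Fin 2) (Fin 2) F) 0 1) hx1
    have e2 := congrArg (fun g : Matrix.SpecialLinearGroup (Fin 2) F => (g : Matrix (Fin 2) (Fin 2) F) 1 0) hx1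
    simp [hxval] at e1 e2
    rw [e1, e2]

theorem card_invol [Fintype F] [CharP F 2] :
    Nat.card {x : Matrix.SpecialLinearGroup (Fin 2) F // orderOf x = 2} = Fintype.card F ^ 2 - 1 := by
  classical
  have hF : ∀ a : F, IsSquare a := FiniteField.isSquare_of_char_two (ringChar.eq F 2)
  have h2 : (2 : F) = 0 := two_eq_zero'
  let φ : {x : Matrix.SpecialLinearGroup (Fin 2) F // orderOf x = 2} → {bc : F × F // bc ≠ (0, 0)} :=
    fun x => ⟨((x.1 : Matrix (Fin 2) (Fin 2) F) 0 1, (x.1 : Matrix (Fin 2) (Fin 2) F) 1 0), by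
      obtain ⟨hns, htr⟩ := facts x.1 x.2
      intro h
      have h01 : (x.1 : Matrix (Fin 2) (Fin 2) F) 0 1 = 0 := (Prod.mk.inj h).1
      have h10 : (x.1 : Matrix (Fin 2) (Fin 2) F) 1 0 = 0 := (Prod.mk.inj h).2
      apply hns
      refine ⟨h01, h10, ?_⟩
      rw [Matrix.trace_fin_two] at htr
      linear_combination htr + (1 - (x.1 : Matrix (Fin 2) (Fin 2) F) 1 1) * h2⟩
  have hinj : Function.Injective φ := by
    rintro ⟨x, hx⟩ ⟨y, hy⟩ hxy
    have h01 : (x : Matrix (Fin 2) (Fin 2) F) 0 1 = (y : Matrix (Fin 2) (Fin 2) F) 0 1 :=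
      (Prod.mk.inj (Subtype.mk.inj hxy)).1
    have h10 : (x : Matrix (Fin 2) (Fin 2) F) 1 0 = (y : Matrix (Fin 2) (Fin 2) F) 1 0 :=
      (Prod.mk.inj (Subtype.mk.inj hxy)).2
    obtain ⟨-, htrx⟩ := facts x hx
    obtain ⟨-, htry⟩ := facts y hy
    rw [Matrix.trace_fin_two] at htrx htry
    have hdx := x.det_coe
    have hdy := y.det_coe
    rw [Matrix.det_fin_two] at hdx hdy
    have hx11 : (x : Matrix (Fin 2) (Fin 2) F) 1 1 = (x : Matrix (Fin 2) (Fin 2) F) 0 0 := by
      linear_combination htrx + (1 - (x : Matrix (Fin 2) (Fin 2) F) 0 0) * h2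
    have hy11 : (y : Matrix (Fin 2) (Fin 2) F) 1 1 = (y : Matrix (Fin 2) (Fin 2) F) 0 0 := by
      linear_combination htry + (1 - (y : Matrix (Fin 2) (Fin 2) F) 0 0) * h2
    have hsq : ((x : Matrix (Fin 2) (Fin 2) F) 0 0 - (y : Matrix (Fin 2) (Fin 2) F) 0 0) ^ 2 = 0 := by
      rw [hx11] at hdx
      rw [hy11] at hdy
      rw [h01, h10] at hdx
      linear_combination hdx + hdy + ((y : Matrix (Fin 2) (Fin 2) F) 0 1 * (y : Matrix (Fin 2) (Fin 2) F) 1 0 + 1 - (x : Matrix (Fin 2) (Fin 2) F) 0 0 * (y : Matrix (Fin 2) (Fin 2) F) 0 0) * h2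
    have h00 : (x : Matrix (Fin 2) (Fin 2) F) 0 0 = (y : Matrix (Fin 2) (Fin 2) F) 0 0 := by
      have := pow_eq_zero_iff (two_ne_zero) |>.mp hsq
      exact sub_eq_zero.mp this
    apply Subtype.ext
    apply Subtype.ext
    ext i j
    fin_cases i <;> fin_cases j
    · exact h00
    · exact h01
    · exact h10
    · show (x : Matrix (Fin 2) (Fin 2) F) 1 1 = (y : Matrix (Fin 2) (Fin 2) F) 1 1
      rw [hx11, hy11, h00]
  have hsurj : Function.Surjective φ := by
    rintro ⟨⟨b, c⟩, hbc⟩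
    obtain ⟨x, hx, hb, hc⟩ := exists_invol hF b c hbc
    refine ⟨⟨x, hx⟩, ?_⟩
    apply Subtype.ext
    show ((x : Matrix (Fin 2) (Fin 2) F) 0 1, (x : Matrix (Fin 2) (Fin 2) F) 1 0) = (b, c)
    rw [hb, hc]
  rw [Nat.card_congr (Equiv.ofBijective φ ⟨hinj, hsurj⟩), Nat.card_eq_fintype_card]
  simp [pow_two]

/-- Over a finite field with q elements of characteristic 2, the involutions of SL₂ (the non-identity unipotent elements) form a single conjugacy class, of size q² − 1. -/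
theorem result {F : Type*} [Field F] [Fintype F] [CharP F 2] (g h : Matrix.SpecialLinearGroup (Fin 2) F) (hg : orderOf g = 2) (hh : orderOf h = 2) :
    IsConj g h ∧ Nat.card (ConjClasses.mk g).carrier = Fintype.card F ^ 2 - 1 := by
  have hF : ∀ a : F, IsSquare a := FiniteField.isSquare_of_char_two (ringChar.eq F 2)
  have key : ∀ x y : Matrix.SpecialLinearGroup (Fin 2) F, orderOf x = 2 → orderOf y = 2 → IsConj x y := by
    intro x y hx hy
    obtain ⟨x1, x2⟩ := facts x hx
    obtain ⟨y1, y2⟩ := facts y hy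
    exact sl2_isConj_of_trace_of_allSquares hF x y x1 y1 (by rw [x2, y2])
  refine ⟨key g h hg hh, ?_⟩
  rw [← card_invol (F := F)]
  apply Nat.card_congr
  apply Equiv.subtypeEquivRight
  intro x
  rw [ConjClasses.mem_carrier_iff_mk_eq, ConjClasses.mk_eq_mk_iff_isConj]
  constructor
  · intro hx
    rw [orderOf_eq_of_isConj hx]
    exact hg
  · intro hx
    exact key x g hx hg

end Cfsg.Agent.S2302
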