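import Cfsg.Statements.S2303
import Cfsg.Agent.Lib.H12.GL2

set_option autoImplicit false
open Cfsg

namespace Cfsg.Agent.S2303

open Cfsg.Agent.Lib.H12 Matrix

variable {F : Type*} [Field F]

theorem mem_cent (g h : GL (Fin 2) F) :
    h ∈ Subgroup.centralizer ({g} : Set (GL (Fin 2) F)) ↔
      (g : Matrix (Fin 2) (Fin 2) F) * (h : Matrix (Fin 2) (Fin 2) F) = (h : Matrix (Fin 2) (Fin 2) F) * (g : Matrix (Fin 2) (Fin 2) F) := by
  rw [Subgroup.mem_centralizer_iff]
  simp only [Set.mem_singleton_iff, forall_eq]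
  rw [← Units.val_mul, ← Units.val_mul]
  exact ⟨fun h => by rw [h], fun h => Units.ext h⟩

/-- no eigenvector implies `x + y g` invertible for `(x, y) ≠ 0` -/
theorem det_ne_zero_of_noEigen (A : Matrix (Fin 2) (Fin 2) F)
    (hA : ∀ (c : F) (v : Fin 2 → F), v ≠ 0 → A.mulVec v ≠ c • v) (α β : F) (hαβ : (α, β) ≠ (0, 0)) :
    (α • (1 : Matrix (Fin 2) (Fin 2) F) + β • A).det ≠ 0 := by
  intro hdet
  obtain ⟨v, hv, hMv⟩ := Matrix.exists_mulVec_eq_zero_iff.mpr hdet
  rw [Matrix.add_mulVec, Matrix.smul_mulVec, Matrix.smul_mulVec, Matrix.one_mulVec] at hMv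
  by_cases hβ : β = 0
  · rw [hβ, zero_smul, add_zero] at hMv
    have hα : α ≠ 0 := by
      rintro rfl
      exact hαβ (by rw [hβ])
    exact hv ((smul_eq_zero.mp hMv).resolve_left hα)
  · apply hA (-α / β) v hv
    have : β • A.mulVec v = -(α • v) := by
      rw [eq_neg_iff_add_eq_zero, add_comm]; exact hMv
    calc A.mulVec v = β⁻¹ • (β • A.mulVec v) := by rw [smul_smul, inv_mul_cancel₀ hβ, one_smul]
      _ = β⁻¹ • (-(α • v)) := by rw [this]
      _ = (-α / β) • v := by rw [smul_neg, smul_smul, ← neg_smul]; congr 1; field_simp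

/-- Over a finite field with q elements: a diagonal element of GL₂ with two distinct diagonal entries has centralizer of order (q − 1)² (so q(q + 1) conjugates), and an element of GL₂ with no eigenvector in F² has centralizer of order q² − 1 (so q(q − 1) conjugates). -/
theorem result {F : Type*} [Field F] [Fintype F] (g : Matrix.GeneralLinearGroup (Fin 2) F) :
    ((g : Matrix (Fin 2) (Fin 2) F) 0 1 = 0 → (g : Matrix (Fin 2) (Fin 2) F) 1 0 = 0 → (g : Matrix (Fin 2) (Fin 2) F) 0 0 ≠ (g : Matrix (Fin 2) (Fin 2) F) 1 1 →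
      Nat.card (Subgroup.centralizer ({g} : Set (Matrix.GeneralLinearGroup (Fin 2) F))) = (Fintype.card F - 1) ^ 2) ∧
    ((∀ (c : F) (v : Fin 2 → F), v ≠ 0 → (g : Matrix (Fin 2) (Fin 2) F).mulVec v ≠ c • v) →
      Nat.card (Subgroup.centralizer ({g} : Set (Matrix.GeneralLinearGroup (Fin 2) F))) = Fintype.card F ^ 2 - 1) := by
  classical
  constructor
  · intro h01 h10 hne
    have hns : NonScalar (g : Matrix (Fin 2) (Fin 2) F) := fun h => hne h.2.2
    -- the map from pairs of units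
    let ψ : Fˣ × Fˣ → Subgroup.centralizer ({g} : Set (GL (Fin 2) F)) := fun p =>
      ⟨Matrix.GeneralLinearGroup.mkOfDetNeZero !![(p.1 : F), 0; 0, (p.2 : F)]
        (by rw [Matrix.det_fin_two_of]; simp), by
        rw [mem_cent]
        show (g : Matrix (Fin 2) (Fin 2) F) * !![(p.1 : F), 0; 0, (p.2 : F)] = !![(p.1 : F), 0; 0, (p.2 : F)] * (g : Matrix (Fin 2) (Fin 2) F)
        ext i j
        fin_cases i <;> fin_cases j <;> simp [Matrix.mul_apply, Fin.sum_univ_two, h01, h10, mul_comm]⟩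
    have hψval : ∀ p : Fˣ × Fˣ, ((ψ p : GL (Fin 2) F) : Matrix (Fin 2) (Fin 2) F) = !![(p.1 : F), 0; 0, (p.2 : F)] :=
      fun p => rfl
    have hinj : Function.Injective ψ := by
      intro p p' h
      have h' : ((ψ p : GL (Fin 2) F) : Matrix (Fin 2) (Fin 2) F) = ((ψ p' : GL (Fin 2) F) : Matrix (Fin 2) (Fin 2) F) := by
        rw [h]
      rw [hψval, hψval] at h'
      have e0 := congrFun (congrFun h' 0) 0
      have e1 := congrFun (congrFun h' 1) 1
      simp at e0 e1
      exact Prod.ext (Units.ext e0) (Units.ext e1)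
    have hsurj : Function.Surjective ψ := by
      rintro ⟨h, hh⟩
      have hc := (mem_cent g h).mp hh
      obtain ⟨α, β, hαβ⟩ := commute_nonScalar _ _ hns hc
      have e01 : (h : Matrix (Fin 2) (Fin 2) F) 0 1 = 0 := by rw [hαβ]; simp [h01]
      have e10 : (h : Matrix (Fin 2) (Fin 2) F) 1 0 = 0 := by rw [hαβ]; simp [h10]
      have hdet : (h : Matrix (Fin 2) (Fin 2) F).det ≠ 0 := by
        have := (Matrix.isUnit_iff_isUnit_det _).mp h.isUnit
        exact this.ne_zero
      rw [Matrix.det_fin_two, e01, e10] at hdet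
      simp only [mul_zero, sub_zero] at hdet
      have h00 : (h : Matrix (Fin 2) (Fin 2) F) 0 0 ≠ 0 := left_ne_zero_of_mul hdet
      have h11 : (h : Matrix (Fin 2) (Fin 2) F) 1 1 ≠ 0 := right_ne_zero_of_mul hdet
      refine ⟨(Units.mk0 _ h00, Units.mk0 _ h11), ?_⟩
      apply Subtype.ext
      apply Units.ext
      rw [hψval]
      ext i j
      fin_cases i <;> fin_cases j <;> simp [e01, e10]
    rw [← Nat.card_congr (Equiv.ofBijective ψ ⟨hinj, hsurj⟩), Nat.card_prod, Nat.card_units,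
      Nat.card_eq_fintype_card, pow_two]
  · intro hA
    have hb : (g : Matrix (Fin 2) (Fin 2) F) 0 1 ≠ 0 := by
      intro hb
      apply hA ((g : Matrix (Fin 2) (Fin 2) F) 1 1) ![0, 1] (by
        intro h
        have := congrFun h 1
        simp at this)
      ext i
      fin_cases i <;> simp [Matrix.mulVec, dotProduct, Fin.sum_univ_two, hb]
    have hns : NonScalar (g : Matrix (Fin 2) (Fin 2) F) := fun h => hb h.1
    let ψ : {p : F × F // p ≠ (0, 0)} → Subgroup.centralizer ({g} : Set (GL (Fin 2) F)) := fun p =>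
      ⟨Matrix.GeneralLinearGroup.mkOfDetNeZero
        (p.1.1 • (1 : Matrix (Fin 2) (Fin 2) F) + p.1.2 • (g : Matrix (Fin 2) (Fin 2) F))
        (det_ne_zero_of_noEigen _ hA p.1.1 p.1.2 p.2), by
        rw [mem_cent]
        show (g : Matrix (Fin 2) (Fin 2) F) * (p.1.1 • (1 : Matrix (Fin 2) (Fin 2) F) + p.1.2 • (g : Matrix (Fin 2) (Fin 2) F)) =
          (p.1.1 • (1 : Matrix (Fin 2) (Fin 2) F) + p.1.2 • (g : Matrix (Fin 2) (Fin 2) F)) * (g : Matrix (Fin 2) (Fin 2) F)
        simp [Matrix.mul_add, Matrix.add_mul]⟩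
    have hψval : ∀ p : {p : F × F // p ≠ (0, 0)}, ((ψ p : GL (Fin 2) F) : Matrix (Fin 2) (Fin 2) F) =
        p.1.1 • (1 : Matrix (Fin 2) (Fin 2) F) + p.1.2 • (g : Matrix (Fin 2) (Fin 2) F) := fun p => rfl
    have hinj : Function.Injective ψ := by
      rintro ⟨⟨α, β⟩, hp⟩ ⟨⟨α', β'⟩, hp'⟩ h
      have h' : ((ψ ⟨⟨α, β⟩, hp⟩ : GL (Fin 2) F) : Matrix (Fin 2) (Fin 2) F) =
          ((ψ ⟨⟨α', β'⟩, hp'⟩ : GL (Fin 2) F) : Matrix (Fin 2) (Fin 2) F) := by rw [h]
      rw [hψval, hψval] at h'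
      have e01 := congrFun (congrFun h' 0) 1
      have e00 := congrFun (congrFun h' 0) 0
      simp at e01 e00
      have hβ : β = β' := by
        rcases e01 with h | h
        · exact h
        · exact absurd h hb
      subst hβ
      have hα : α = α' := by simpa using e00
      subst hα
      rfl
    have hsurj : Function.Surjective ψ := by
      rintro ⟨h, hh⟩
      have hc := (mem_cent g h).mp hh
      obtain ⟨α, β, hαβ⟩ := commute_nonScalar _ _ hns hc
      have hne : (α, β) ≠ (0, 0) := by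
        intro h0
        have hα : α = 0 := (Prod.mk.inj h0).1
        have hβ : β = 0 := (Prod.mk.inj h0).2
        rw [hα, hβ, zero_smul, zero_smul, add_zero] at hαβ
        have := h.isUnit
        rw [hαβ] at this
        exact not_isUnit_zero this
      refine ⟨⟨(α, β), hne⟩, ?_⟩
      apply Subtype.ext
      apply Units.ext
      rw [hψval, hαβ]
    rw [← Nat.card_congr (Equiv.ofBijective ψ ⟨hinj, hsurj⟩), Nat.card_eq_fintype_card]
    simp [pow_two]

end Cfsg.Agent.S2303
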