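import Cfsg.Statements.S2305
import Cfsg.Agent.Lib.H12.GL2Ind3

set_option autoImplicit false
open Cfsg

namespace Cfsg.Agent.S2305

open Cfsg.Agent.Lib.H12

/-- the induced function is symmetric in the two characters -/
theorem indFun_borelChar_swap {F : Type*} [Field F] [Fintype F] [DecidableEq F] (α β : MulChar F ℂ) :
    Cfsg.indFun (Cfsg.upperTriangularGL 2 F) (borelChar α β) =
      Cfsg.indFun (Cfsg.upperTriangularGL 2 F) (borelChar β α) := by
  -- both are class functions whose difference has norm zero
  have h1 := classInner_indFun_borelChar α β α β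
  have h2 := classInner_indFun_borelChar α β β α
  have h3 := classInner_indFun_borelChar β α α β
  have h4 := classInner_indFun_borelChar β α β α
  have hz : Cfsg.classInner
      (Cfsg.indFun (Cfsg.upperTriangularGL 2 F) (borelChar α β) -
        Cfsg.indFun (Cfsg.upperTriangularGL 2 F) (borelChar β α))
      (Cfsg.indFun (Cfsg.upperTriangularGL 2 F) (borelChar α β) -
        Cfsg.indFun (Cfsg.upperTriangularGL 2 F) (borelChar β α)) = 0 := by
    rw [Cfsg.Agent.Lib.L0.classInner_sub_left, Cfsg.Agent.Lib.L0.classInner_sub_right,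
      Cfsg.Agent.Lib.L0.classInner_sub_right, h1, h2, h3, h4]
    by_cases h : α = β
    · subst h; simp
    · have h' : ¬ β = α := fun e => h e.symm
      simp [h, h']
  have := Cfsg.Agent.Lib.L0.classInner_self_eq_zero hz
  exact sub_eq_zero.mp this

/-- Over a finite field F, for multiplicative characters α, β, α′, β′ of F, the characters of GL₂ induced from the linear characters b ↦ α(b₁₁) β(b₂₂) and b ↦ α′(b₁₁) β′(b₂₂) of the upper triangular subgroup coincide exactly when {α, β} = {α′, β′} as unordered pairs. -/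
theorem result {F : Type*} [Field F] [Fintype F] [DecidableEq F] (α β α' β' : MulChar F ℂ) :
    Cfsg.indFun (Cfsg.upperTriangularGL 2 F) (fun b => α (((b : Matrix.GeneralLinearGroup (Fin 2) F) : Matrix (Fin 2) (Fin 2) F) 0 0) * β (((b : Matrix.GeneralLinearGroup (Fin 2) F) : Matrix (Fin 2) (Fin 2) F) 1 1)) = Cfsg.indFun (Cfsg.upperTriangularGL 2 F) (fun b => α' (((b : Matrix.GeneralLinearGroup (Fin 2) F) : Matrix (Fin 2) (Fin 2) F) 0 0) * β' (((b : Matrix.GeneralLinearGroup (Fin 2) F) : Matrix (Fin 2) (Fin 2) F) 1 1)) ↔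
      (α = α' ∧ β = β') ∨ (α = β' ∧ β = α') := by
  show Cfsg.indFun (Cfsg.upperTriangularGL 2 F) (borelChar α β) =
    Cfsg.indFun (Cfsg.upperTriangularGL 2 F) (borelChar α' β') ↔ _
  constructor
  · intro h
    have h1 := classInner_indFun_borelChar α β α β
    have h2 := classInner_indFun_borelChar α β α' β'
    rw [← h, h1] at h2
    by_contra hne
    rw [not_or] at hne
    simp only [hne.1, hne.2, if_false, add_zero] at h2
    by_cases hab : α = β ∧ β = α
    · rw [if_pos hab] at h2; norm_num at h2
    · rw [if_neg hab] at h2; norm_num at h2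
  · rintro (⟨rfl, rfl⟩ | ⟨rfl, rfl⟩)
    · rfl
    · exact indFun_borelChar_swap _ _

end Cfsg.Agent.S2305
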