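import Cfsg.Statements.S2308
import Cfsg.Agent.Lib.H12.Borel2

set_option autoImplicit false
open Cfsg

namespace Cfsg.Agent.S2308

open Cfsg.Agent.Lib.H12 Matrix

/-- Values of the permutation character of GL₂ over a finite field F with q elements on the cosets of its upper triangular subgroup (equivalently, the number of lines of F² that an element maps to themselves): q + 1 at a scalar matrix, 2 at a diagonal matrix with two different diagonal entries, 0 at an element with no eigenvector in F², and 1 at an upper triangular matrix with equal diagonal entries and non-zero upper right entry. -/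
theorem result {F : Type*} [Field F] [Fintype F] (g : Matrix.GeneralLinearGroup (Fin 2) F) :
    ((∃ a : F, (g : Matrix (Fin 2) (Fin 2) F) = a • (1 : Matrix (Fin 2) (Fin 2) F)) → Cfsg.fixedPointCharacter (Cfsg.upperTriangularGL 2 F) g = Fintype.card F + 1) ∧
    ((g : Matrix (Fin 2) (Fin 2) F) 0 1 = 0 → (g : Matrix (Fin 2) (Fin 2) F) 1 0 = 0 → (g : Matrix (Fin 2) (Fin 2) F) 0 0 ≠ (g : Matrix (Fin 2) (Fin 2) F) 1 1 →
      Cfsg.fixedPointCharacter (Cfsg.upperTriangularGL 2 F) g = 2) ∧
    ((∀ (c : F) (v : Fin 2 → F), v ≠ 0 → (g : Matrix (Fin 2) (Fin 2) F).mulVec v ≠ c • v) → Cfsg.fixedPointCharacter (Cfsg.upperTriangularGL 2 F) g = 0) ∧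
    ((g : Matrix (Fin 2) (Fin 2) F) 1 0 = 0 → (g : Matrix (Fin 2) (Fin 2) F) 0 0 = (g : Matrix (Fin 2) (Fin 2) F) 1 1 → (g : Matrix (Fin 2) (Fin 2) F) 0 1 ≠ 0 →
      Cfsg.fixedPointCharacter (Cfsg.upperTriangularGL 2 F) g = 1) := by
  rw [fixedPointCharacter_eq]
  have hdet := gl2_det_ne_zero g
  rw [Matrix.det_fin_two] at hdet
  refine ⟨?_, ?_, ?_, ?_⟩
  · rintro ⟨a, ha⟩
    have h00 : (g : Matrix (Fin 2) (Fin 2) F) 0 0 = a := by rw [ha]; simp
    have h01 : (g : Matrix (Fin 2) (Fin 2) F) 0 1 = 0 := by rw [ha]; simp
    have h10 : (g : Matrix (Fin 2) (Fin 2) F) 1 0 = 0 := by rw [ha]; simp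
    have h11 : (g : Matrix (Fin 2) (Fin 2) F) 1 1 = a := by rw [ha]; simp
    rw [h00, h01, h10, h11] at hdet
    have ha0 : a ≠ 0 := by
      rintro rfl
      simp at hdet
    have : {p : Option F | colPt (g * ptRep p) = p} = Set.univ := by
      ext p
      simp only [Set.mem_ofPred_eq, Set.mem_univ, iff_true]
      rcases p with _ | t
      · rw [fix_none_iff]; exact h10
      · rw [fix_some_iff, h00, h01, h10, h11]
        refine ⟨by simpa using ha0, by ring⟩
    rw [this, Set.ncard_univ, Nat.card_eq_fintype_card, Fintype.card_option]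
    push_cast
    ring
  · intro h01 h10 hne
    rw [h01, h10] at hdet
    have h11 : (g : Matrix (Fin 2) (Fin 2) F) 1 1 ≠ 0 := by
      intro h
      rw [h] at hdet
      simp at hdet
    have : {p : Option F | colPt (g * ptRep p) = p} = {none, some 0} := by
      ext p
      simp only [Set.mem_ofPred_eq, Set.mem_insert_iff, Set.mem_singleton_iff]
      rcases p with _ | t
      · rw [fix_none_iff]; simp [h10]
      · rw [fix_some_iff, h01, h10]
        simp only [zero_mul, zero_add, ne_eq, h11, not_false_eq_true, add_zero, true_and,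
          reduceCtorEq, Option.some.injEq, false_or]
        constructor
        · intro h
          have : t * ((g : Matrix (Fin 2) (Fin 2) F) 0 0 - (g : Matrix (Fin 2) (Fin 2) F) 1 1) = 0 := by
            linear_combination h
          exact (mul_eq_zero.mp this).resolve_right (sub_ne_zero.mpr hne)
        · rintro rfl; ring
    rw [this, Set.ncard_pair (by simp)]
    norm_num
  · intro hA
    have : {p : Option F | colPt (g * ptRep p) = p} = ∅ := by
      ext p
      simp only [Set.mem_ofPred_eq, Set.mem_empty_iff_false, iff_false]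
      rcases p with _ | t
      · rw [fix_none_iff]
        intro h10
        apply hA ((g : Matrix (Fin 2) (Fin 2) F) 0 0) ![1, 0] (by
          intro h
          have := congrFun h 0
          simp at this)
        ext i
        fin_cases i <;> simp [Matrix.mulVec, dotProduct, Fin.sum_univ_two, h10]
      · rw [fix_some_iff]
        rintro ⟨-, h2⟩
        apply hA ((g : Matrix (Fin 2) (Fin 2) F) 1 0 * t + (g : Matrix (Fin 2) (Fin 2) F) 1 1) ![t, 1] (by
          intro h
          have := congrFun h 1
          simp at this)
        ext i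
        fin_cases i
        · simp [Matrix.mulVec, dotProduct, Fin.sum_univ_two]
          linear_combination h2
        · simp [Matrix.mulVec, dotProduct, Fin.sum_univ_two]
    rw [this, Set.ncard_empty]
    norm_num
  · intro h10 h00 h01
    have : {p : Option F | colPt (g * ptRep p) = p} = {none} := by
      ext p
      simp only [Set.mem_ofPred_eq, Set.mem_singleton_iff]
      rcases p with _ | t
      · rw [fix_none_iff]; simp [h10]
      · rw [fix_some_iff, h10, h00]
        simp only [zero_mul, zero_add, ne_eq, reduceCtorEq, iff_false, not_and]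
        intro _ h
        apply h01
        linear_combination h
    rw [this, Set.ncard_singleton]
    norm_num

end Cfsg.Agent.S2308
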