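import Cfsg.Statements.S2309
import Cfsg.Agent.Lib.H12.GL2Values

set_option autoImplicit false
open Cfsg

namespace Cfsg.Agent.S2309

open Cfsg.Agent.Lib.H12 Cfsg.Agent.Lib.L0 Matrix

/-- an upper triangular element of `GL₂` in the `borelMk` form -/
theorem exists_eq_borelMk {F : Type*} [Field F] (g : GL (Fin 2) F)
    (h10 : (g : Matrix (Fin 2) (Fin 2) F) 1 0 = 0) :
    ∃ a d : Fˣ, (a : F) = (g : Matrix (Fin 2) (Fin 2) F) 0 0 ∧ (d : F) = (g : Matrix (Fin 2) (Fin 2) F) 1 1 ∧
      g = ((borelMk (a, d, (g : Matrix (Fin 2) (Fin 2) F) 0 1) : Cfsg.upperTriangularGL 2 F) : GL (Fin 2) F) := by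
  have hmem : g ∈ Cfsg.upperTriangularGL 2 F := (mem_upperTriangularGL_two g).mpr h10
  obtain ⟨⟨a, d, e⟩, h⟩ := borelMk_bijective.2 (⟨g, hmem⟩ : Cfsg.upperTriangularGL 2 F)
  have h' : ((borelMk (a, d, e) : Cfsg.upperTriangularGL 2 F) : GL (Fin 2) F) = g := congrArg Subtype.val h
  have hv := congrArg (fun x : GL (Fin 2) F => (x : Matrix (Fin 2) (Fin 2) F)) h'
  simp only [borelMk_val] at hv
  have e00 := congrFun (congrFun hv 0) 0
  have e01 := congrFun (congrFun hv 0) 1
  have e11 := congrFun (congrFun hv 1) 1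
  simp at e00 e01 e11
  refine ⟨a, d, e00, e11, ?_⟩
  rw [← e01, h']

theorem card_eq_two_of_cast {n : ℕ} (h : (1 : ℂ) = (n : ℂ) - 1) : n = 2 := by
  have : (n : ℂ) = 2 := by linear_combination (-1 : ℂ) * h
  exact_mod_cast this

/-- Over a finite field F with q elements: every irreducible complex character of GL₂ of degree q − 1 vanishes at every diagonal matrix with two distinct entries, and every irreducible complex character of degree q + 1 vanishes at every element with no eigenvector in F². -/
theorem result {F : Type*} [Field F] [Fintype F] (χ : Matrix.GeneralLinearGroup (Fin 2) F → ℂ) (hχ : Cfsg.IsIrrCharacter (Matrix.GeneralLinearGroup (Fin 2) F) χ) (g : Matrix.GeneralLinearGroup (Fin 2) F) :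
    (χ 1 = (Fintype.card F : ℂ) - 1 → (g : Matrix (Fin 2) (Fin 2) F) 0 1 = 0 → (g : Matrix (Fin 2) (Fin 2) F) 1 0 = 0 → (g : Matrix (Fin 2) (Fin 2) F) 0 0 ≠ (g : Matrix (Fin 2) (Fin 2) F) 1 1 → χ g = 0) ∧
    (χ 1 = (Fintype.card F : ℂ) + 1 → (∀ (c : F) (v : Fin 2 → F), v ≠ 0 → (g : Matrix (Fin 2) (Fin 2) F).mulVec v ≠ c • v) → χ g = 0) := by
  classical
  have hq0 : (Fintype.card F : ℂ) ≠ 0 := card_ne_zero_complex
  rcases gl2_irr_classification χ hχ with ⟨α, rfl⟩ | ⟨α, rfl⟩ | ⟨α, β, hαβ, rfl⟩ | ⟨hc, hd, hu⟩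
  · constructor
    · intro hdeg h01 h10 hne
      exfalso
      rw [detChar_one] at hdeg
      have hq2 : Fintype.card F = 2 := card_eq_two_of_cast hdeg
      obtain ⟨a, d, ha, hd, -⟩ := exists_eq_borelMk g h10
      have hsub : Subsingleton Fˣ := by
        rw [← Fintype.card_le_one_iff_subsingleton, Fintype.card_units, hq2]
      apply hne
      rw [← ha, ← hd, Subsingleton.elim a d]
    · intro hdeg
      exfalso
      rw [detChar_one] at hdeg
      apply hq0
      linear_combination (-1 : ℂ) * hdeg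
  · constructor
    · intro hdeg
      exfalso
      rw [stChar_one] at hdeg
      have : (0 : ℂ) = -1 := by linear_combination hdeg
      norm_num at this
    · intro hdeg
      exfalso
      rw [stChar_one] at hdeg
      have : (0 : ℂ) = 1 := by linear_combination hdeg
      norm_num at this
  · constructor
    · intro hdeg
      exfalso
      rw [psChar_one] at hdeg
      have : (2 : ℂ) = 0 := by linear_combination hdeg
      norm_num at this
    · intro _ hA
      exact psChar_apply_elliptic α β g hA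
  · constructor
    · intro _ h01 h10 hne
      obtain ⟨a, d, ha, hd', hg⟩ := exists_eq_borelMk g h10
      rw [hg]
      apply cuspidal_apply_of_ne χ (isClassFunction_of_isCharacter (isCharacter_of_irr hχ)) hc
      intro had
      apply hne
      rw [← ha, ← hd', had]
    · intro hdeg
      exfalso
      rw [hd] at hdeg
      have : (2 : ℂ) = 0 := by linear_combination (-1 : ℂ) * hdeg
      norm_num at this

end Cfsg.Agent.S2309
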