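import Cfsg.Statements.S2310
import Cfsg.Agent.Lib.H12.GL2Values

set_option autoImplicit false
open Cfsg

namespace Cfsg.Agent.S2310

open Cfsg.Agent.Lib.H12 Cfsg.Agent.Lib.L0 Matrix

/-- Over a finite field F with q ≥ 3 elements, let u be the upper unitriangular matrix of GL₂ with off-diagonal entry 1. An irreducible complex character χ of GL₂ takes at u the value 1 if χ has degree 1 or q + 1, the value −1 if χ has degree q − 1, and the value 0 if χ has degree q. -/
theorem result {F : Type*} [Field F] [Fintype F] (hq : 3 ≤ Fintype.card F) (χ : Matrix.GeneralLinearGroup (Fin 2) F → ℂ) (hχ : Cfsg.IsIrrCharacter (Matrix.GeneralLinearGroup (Fin 2) F) χ)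
    (u : Matrix.GeneralLinearGroup (Fin 2) F) (hu : (u : Matrix (Fin 2) (Fin 2) F) = !![1, 1; 0, 1]) :
    (χ 1 = 1 → χ u = 1) ∧ (χ 1 = (Fintype.card F : ℂ) + 1 → χ u = 1) ∧
    (χ 1 = (Fintype.card F : ℂ) - 1 → χ u = -1) ∧ (χ 1 = (Fintype.card F : ℂ) → χ u = 0) := by
  classical
  have hq0 : (Fintype.card F : ℂ) ≠ 0 := card_ne_zero_complex
  have hq3 : (3 : ℝ) ≤ (Fintype.card F : ℝ) := by exact_mod_cast hq
  have hne1 : (Fintype.card F : ℂ) ≠ 1 := card_ne_one_complex
  have hne2 : (Fintype.card F : ℂ) ≠ 2 := by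
    intro h
    have : Fintype.card F = 2 := by exact_mod_cast h
    omega
  have hu00 : (u : Matrix (Fin 2) (Fin 2) F) 0 0 = 1 := by rw [hu]; simp
  have hu01 : (u : Matrix (Fin 2) (Fin 2) F) 0 1 = 1 := by rw [hu]; simp
  have hu10 : (u : Matrix (Fin 2) (Fin 2) F) 1 0 = 0 := by rw [hu]; simp
  have hu11 : (u : Matrix (Fin 2) (Fin 2) F) 1 1 = 1 := by rw [hu]; simp
  have hub : u = ((borelMk (1, 1, 1) : Cfsg.upperTriangularGL 2 F) : GL (Fin 2) F) := by
    apply Matrix.GeneralLinearGroup.ext
    intro i j
    rw [hu, borelMk_val]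
    simp
  have hps : ∀ α β : MulChar F ℂ, psChar α β u = 1 := by
    intro α β
    rw [psChar_apply_unip α β u hu10 (by rw [hu00, hu11]) (by rw [hu01]; exact one_ne_zero), hu00]
    simp
  have hdet : ∀ α : MulChar F ℂ, detChar α u = 1 := by
    intro α
    rw [detChar_apply_of_lower_zero α u hu10, hu00, hu11]
    simp
  rcases gl2_irr_classification χ hχ with ⟨α, rfl⟩ | ⟨α, rfl⟩ | ⟨α, β, hαβ, rfl⟩ | ⟨hc, hd, hu'⟩
  · refine ⟨fun _ => hdet α, ?_, ?_, ?_⟩
    · intro h; rw [detChar_one] at h
      exact absurd (by linear_combination (-1 : ℂ) * h) hq0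
    · intro h; rw [detChar_one] at h
      exact absurd (by linear_combination (-1 : ℂ) * h) hne2
    · intro h; rw [detChar_one] at h
      exact absurd h.symm hne1
  · have hst : stChar α u = 0 := by
      unfold stChar
      rw [Pi.sub_apply, hdet]
      have := hps α α
      rw [psChar] at this
      rw [this, sub_self]
    refine ⟨?_, ?_, ?_, fun _ => hst⟩
    · intro h; rw [stChar_one] at h
      exact absurd h hne1
    · intro h; rw [stChar_one] at h
      have : (0 : ℂ) = 1 := by linear_combination h
      norm_num at this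
    · intro h; rw [stChar_one] at h
      have : (0 : ℂ) = -1 := by linear_combination h
      norm_num at this
  · refine ⟨fun _ => hps α β, fun _ => hps α β, ?_, ?_⟩
    · intro h; rw [psChar_one] at h
      have : (2 : ℂ) = 0 := by linear_combination h
      norm_num at this
    · intro h; rw [psChar_one] at h
      have : (1 : ℂ) = 0 := by linear_combination h
      norm_num at this
  · rw [← hub] at hu'
    refine ⟨?_, ?_, fun _ => hu', ?_⟩
    · intro h; rw [hd] at h
      exact absurd (by linear_combination h) hne2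
    · intro h; rw [hd] at h
      have : (2 : ℂ) = 0 := by linear_combination (-1 : ℂ) * h
      norm_num at this
    · intro h; rw [hd] at h
      have : (1 : ℂ) = 0 := by linear_combination (-1 : ℂ) * h
      norm_num at this

end Cfsg.Agent.S2310
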