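import Cfsg.Statements.S2320
import Cfsg.Agent.Lib.H12.GL2Values

set_option autoImplicit false
open Cfsg

namespace Cfsg.Agent.S2320

open Cfsg.Agent.Lib.H12 Cfsg.Agent.Lib.L0 Matrix

/-- Over a finite field F with q elements, every irreducible complex character of GL₂ of degree q takes a value of absolute value 1 at every diagonal matrix with two different diagonal entries and at every element with no eigenvector in F². -/
theorem result {F : Type*} [Field F] [Fintype F] (χ : Matrix.GeneralLinearGroup (Fin 2) F → ℂ) (hχ : Cfsg.IsIrrCharacter (Matrix.GeneralLinearGroup (Fin 2) F) χ) (hdeg : χ 1 = (Fintype.card F : ℂ)) (g : Matrix.GeneralLinearGroup (Fin 2) F) :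
    ((g : Matrix (Fin 2) (Fin 2) F) 0 1 = 0 → (g : Matrix (Fin 2) (Fin 2) F) 1 0 = 0 → (g : Matrix (Fin 2) (Fin 2) F) 0 0 ≠ (g : Matrix (Fin 2) (Fin 2) F) 1 1 → ‖χ g‖ = 1) ∧
    ((∀ (c : F) (v : Fin 2 → F), v ≠ 0 → (g : Matrix (Fin 2) (Fin 2) F).mulVec v ≠ c • v) → ‖χ g‖ = 1) := by
  classical
  have hne1 : (Fintype.card F : ℂ) ≠ 1 := card_ne_one_complex
  have hdetne := gl2_det_ne_zero g
  rcases gl2_irr_classification χ hχ with ⟨α, rfl⟩ | ⟨α, rfl⟩ | ⟨α, β, hαβ, rfl⟩ | ⟨hc, hd, hu'⟩
  · exfalso
    rw [detChar_one] at hdeg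
    exact hne1 hdeg.symm
  · constructor
    · intro h01 h10 hne
      have h1 := psChar_apply_diag α α g h01 h10 hne
      have h2 := detChar_apply_of_lower_zero α g h10
      have hval : stChar α g = α ((g : Matrix (Fin 2) (Fin 2) F) 0 0) * α ((g : Matrix (Fin 2) (Fin 2) F) 1 1) := by
        unfold stChar
        rw [Pi.sub_apply, h2]
        rw [psChar] at h1
        rw [h1]
        ring
      rw [Matrix.det_fin_two, h01, h10, mul_zero, sub_zero] at hdetne
      rw [hval, norm_mul, norm_mulChar_apply α (left_ne_zero_of_mul hdetne),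
        norm_mulChar_apply α (right_ne_zero_of_mul hdetne), mul_one]
    · intro hA
      have h1 := psChar_apply_elliptic α α g hA
      have hval : stChar α g = -detChar α g := by
        unfold stChar
        rw [Pi.sub_apply]
        rw [psChar] at h1
        rw [h1, zero_sub]
      rw [hval, norm_neg, detChar_apply, norm_mulChar_apply α hdetne]
  · exfalso
    rw [psChar_one] at hdeg
    have : (1 : ℂ) = 0 := by linear_combination hdeg
    norm_num at this
  · exfalso
    rw [hd] at hdeg
    have : (1 : ℂ) = 0 := by linear_combination (-1 : ℂ) * hdeg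
    norm_num at this

end Cfsg.Agent.S2320
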