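import Cfsg.Statements.S2321
import Cfsg.Agent.Lib.H12.SL2Values

set_option autoImplicit false
open Cfsg

namespace Cfsg.Agent.S2321

open Cfsg.Agent.Lib.H12 Cfsg.Agent.Lib.L0 Matrix

/-- Over a finite field F with q elements, an irreducible complex character of SL₂ of degree q (the Steinberg character) takes the value 1 at every diagonal matrix whose diagonal entry a has a² ≠ 1, the value −1 at every element with no eigenvector in F², and the value 0 at every upper triangular matrix with equal diagonal entries and non-zero upper right entry. -/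
theorem result {F : Type*} [Field F] [Fintype F] (χ : Matrix.SpecialLinearGroup (Fin 2) F → ℂ) (hχ : Cfsg.IsIrrCharacter (Matrix.SpecialLinearGroup (Fin 2) F) χ) (hdeg : χ 1 = (Fintype.card F : ℂ)) (g : Matrix.SpecialLinearGroup (Fin 2) F) :
    ((g : Matrix (Fin 2) (Fin 2) F) 0 1 = 0 → (g : Matrix (Fin 2) (Fin 2) F) 1 0 = 0 → (g : Matrix (Fin 2) (Fin 2) F) 0 0 ^ 2 ≠ 1 → χ g = 1) ∧
    ((∀ (c : F) (v : Fin 2 → F), v ≠ 0 → (g : Matrix (Fin 2) (Fin 2) F).mulVec v ≠ c • v) → χ g = -1) ∧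
    ((g : Matrix (Fin 2) (Fin 2) F) 1 0 = 0 → (g : Matrix (Fin 2) (Fin 2) F) 0 0 = (g : Matrix (Fin 2) (Fin 2) F) 1 1 → (g : Matrix (Fin 2) (Fin 2) F) 0 1 ≠ 0 → χ g = 0) := by
  classical
  have hq : 1 < Fintype.card F := Fintype.one_lt_card
  have hst : χ = stCharSL := by
    obtain ⟨k, hk, hcases⟩ := sl2_irr_classification_deg hχ
    rw [hk] at hdeg
    have hkq : k = Fintype.card F := by exact_mod_cast hdeg
    rcases hcases with ⟨-, h⟩ | ⟨h, -⟩ | ⟨γ, -, -, h⟩ | ⟨γ, χ', δ, -, -, -, -, -, -, h⟩ |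
      ⟨π, -, -, h⟩ | ⟨π, χ', δ, -, -, -, -, -, h⟩
    · exfalso; omega
    · exact h
    all_goals (exfalso; omega)
  subst hst
  have hdet := sl2_entries_det g
  refine ⟨?_, ?_, ?_⟩
  · intro h01 h10 hsq
    unfold stCharSL
    rw [Pi.sub_apply, psCharSL_apply_split 1 g h01 h10 hsq, Pi.one_apply]
    rw [h01, zero_mul, sub_zero] at hdet
    have h0 : IsUnit ((g : Matrix (Fin 2) (Fin 2) F) 0 0) := IsUnit.of_mul_eq_one _ hdet
    have h1 : IsUnit ((g : Matrix (Fin 2) (Fin 2) F) 1 1) := IsUnit.of_mul_eq_one _ (by rw [mul_comm]; exact hdet)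
    rw [MulChar.one_apply h0, MulChar.one_apply h1]
    norm_num
  · intro hA
    unfold stCharSL
    rw [Pi.sub_apply, psCharSL_apply_elliptic 1 g hA, Pi.one_apply]
    norm_num
  · intro h10 h00 h01
    unfold stCharSL
    rw [Pi.sub_apply, psCharSL_apply_unip 1 g h10 h00 h01, Pi.one_apply]
    rw [h10, mul_zero, sub_zero] at hdet
    have h0 : IsUnit ((g : Matrix (Fin 2) (Fin 2) F) 0 0) := IsUnit.of_mul_eq_one _ hdet
    rw [MulChar.one_apply h0]
    norm_num

end Cfsg.Agent.S2321
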