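import Cfsg.Statements.S2322
import Cfsg.Agent.Lib.H12.SL2CuspEll

set_option autoImplicit false
open Cfsg

namespace Cfsg.Agent.S2322

open Cfsg.Agent.Lib.H12 Cfsg.Agent.Lib.L0 Matrix

/-- Over a finite field F with q elements, q odd: every irreducible complex character of SL₂ of degree q − 1 or (q − 1)/2 vanishes at every diagonal matrix whose diagonal entry a has a² ≠ 1, and every irreducible complex character of degree q + 1 or (q + 1)/2 vanishes at every element with no eigenvector in F². -/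
theorem result {F : Type*} [Field F] [Fintype F] (hodd : Odd (Fintype.card F)) (χ : Matrix.SpecialLinearGroup (Fin 2) F → ℂ) (hχ : Cfsg.IsIrrCharacter (Matrix.SpecialLinearGroup (Fin 2) F) χ) (g : Matrix.SpecialLinearGroup (Fin 2) F) :
    ((χ 1 = (Fintype.card F : ℂ) - 1 ∨ χ 1 = (((Fintype.card F - 1) / 2 : ℕ) : ℂ)) →
      (g : Matrix (Fin 2) (Fin 2) F) 0 1 = 0 → (g : Matrix (Fin 2) (Fin 2) F) 1 0 = 0 → (g : Matrix (Fin 2) (Fin 2) F) 0 0 ^ 2 ≠ 1 → χ g = 0) ∧
    ((χ 1 = (Fintype.card F : ℂ) + 1 ∨ χ 1 = (((Fintype.card F + 1) / 2 : ℕ) : ℂ)) →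
      (∀ (c : F) (v : Fin 2 → F), v ≠ 0 → (g : Matrix (Fin 2) (Fin 2) F).mulVec v ≠ c • v) → χ g = 0) := by
  classical
  obtain ⟨m, hm⟩ := hodd
  have hodd : Odd (Fintype.card F) := ⟨m, hm⟩
  obtain ⟨k, hk, hcases⟩ := sl2_irr_classification_deg hχ
  have hdet := sl2_entries_det g
  -- in a field with three elements there are no split regular elements
  have hvac : Fintype.card F = 3 → (g : Matrix (Fin 2) (Fin 2) F) 0 1 = 0 →
      (g : Matrix (Fin 2) (Fin 2) F) 0 0 ^ 2 ≠ 1 → False := by
    intro h3 h01 hsq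
    rw [h01, zero_mul, sub_zero] at hdet
    have h0 : (g : Matrix (Fin 2) (Fin 2) F) 0 0 ≠ 0 := left_ne_zero_of_mul_eq_one hdet
    have := FiniteField.pow_card_sub_one_eq_one _ h0
    rw [h3] at this
    exact hsq this
  constructor
  · intro hdeg h01 h10 hsq
    have hkq : k + 1 = Fintype.card F ∨ k = (Fintype.card F - 1) / 2 := by
      rcases hdeg with hdeg | hdeg
      · left
        rw [hk] at hdeg
        have : (k : ℂ) + 1 = (Fintype.card F : ℂ) := by rw [hdeg]; ring
        exact_mod_cast this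
      · right
        rw [hk] at hdeg
        exact_mod_cast hdeg
    rcases hcases with ⟨-, h⟩ | ⟨-, h⟩ | ⟨γ, -, -, h⟩ | ⟨γ, χ', δ, -, -, -, -, -, -, h⟩ |
      ⟨π, hπ, hπχ, h⟩ | ⟨π, χ', δ, hπ, hχ', hne, hs, hx, h⟩
    · exfalso
      exact hvac (by omega) h01 hsq
    · exfalso; omega
    · exfalso; omega
    · exfalso
      exact hvac (by omega) h01 hsq
    · rw [hπχ]
      exact cusp_apply_split hπ g h01 h10 hsq
    · have h1 := cusp_apply_split hπ g h01 h10 hsq
      rw [hs, Pi.add_apply, ← eq_of_diag hx h01 h10] at h1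
      have : (2 : ℂ) * χ g = 0 := by linear_combination h1
      exact (mul_eq_zero.mp this).resolve_left two_ne_zero
  · intro hdeg hell
    have hell' : IsElliptic g := hell
    have hkq : k = Fintype.card F + 1 ∨ k = (Fintype.card F + 1) / 2 := by
      rcases hdeg with hdeg | hdeg
      · left
        rw [hk] at hdeg
        exact_mod_cast hdeg
      · right
        rw [hk] at hdeg
        exact_mod_cast hdeg
    have hq1 : 1 < Fintype.card F := Fintype.one_lt_card
    rcases hcases with ⟨-, h⟩ | ⟨-, h⟩ | ⟨γ, -, hγ, h⟩ | ⟨γ, χ', δ, -, -, hχ', hne, hs, hx, h⟩ |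
      ⟨π, hπ, hπχ, h⟩ | ⟨π, χ', δ, hπ, hχ', hne, hs, hx, h⟩
    · exfalso; omega
    · exfalso; omega
    · rw [hγ]
      exact psCharSL_apply_elliptic γ g hell
    · have h1 := psCharSL_apply_elliptic γ g hell
      rw [hs, Pi.add_apply, ← eq_of_isElliptic hodd hχ' hx hell'] at h1
      have : (2 : ℂ) * χ g = 0 := by linear_combination h1
      exact (mul_eq_zero.mp this).resolve_left two_ne_zero
    · have h3 : Fintype.card F = 3 := by omega
      subst hπχ
      exact cusp_apply_elliptic_of_card_three h3 hπ hχ hell'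
    · exfalso; omega

end Cfsg.Agent.S2322
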