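import Cfsg.Statements.S2323
import Cfsg.Agent.Lib.H12.SL2Values

set_option autoImplicit false
open Cfsg

namespace Cfsg.Agent.S2323

open Cfsg.Agent.Lib.H12 Cfsg.Agent.Lib.L0 Matrix

/-- Over a finite field F with q ≥ 4 elements, let u be the upper unitriangular matrix of SL₂ with off-diagonal entry 1. An irreducible complex character of SL₂ takes at u the value 1 if its degree is q + 1 and the value −1 if its degree is q − 1. -/
theorem result {F : Type*} [Field F] [Fintype F] (hq : 4 ≤ Fintype.card F) (χ : Matrix.SpecialLinearGroup (Fin 2) F → ℂ) (hχ : Cfsg.IsIrrCharacter (Matrix.SpecialLinearGroup (Fin 2) F) χ)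
    (u : Matrix.SpecialLinearGroup (Fin 2) F) (hu : (u : Matrix (Fin 2) (Fin 2) F) = !![1, 1; 0, 1]) :
    (χ 1 = (Fintype.card F : ℂ) + 1 → χ u = 1) ∧ (χ 1 = (Fintype.card F : ℂ) - 1 → χ u = -1) := by
  classical
  have hu' : u = upSL 1 := eq_upSL_of_val hu
  subst hu'
  obtain ⟨k, hk, hcases⟩ := sl2_irr_classification_deg hχ
  constructor
  · intro hdeg
    rw [hk] at hdeg
    have hkq : k = Fintype.card F + 1 := by exact_mod_cast hdeg
    rcases hcases with ⟨-, h⟩ | ⟨-, h⟩ | ⟨γ, -, hγ, h⟩ | ⟨γ, χ', δ, -, -, -, -, -, -, h⟩ |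
      ⟨π, -, -, h⟩ | ⟨π, χ', δ, -, -, -, -, -, h⟩
    · exfalso; omega
    · exfalso; omega
    · rw [hγ]
      exact psCharSL_upSL γ one_ne_zero
    all_goals (exfalso; omega)
  · intro hdeg
    rw [hk] at hdeg
    have hkq : k + 1 = Fintype.card F := by
      have : (k : ℂ) + 1 = (Fintype.card F : ℂ) := by rw [hdeg]; ring
      exact_mod_cast this
    rcases hcases with ⟨-, h⟩ | ⟨-, h⟩ | ⟨γ, -, hγ, h⟩ | ⟨γ, χ', δ, -, -, -, -, -, -, h⟩ |
      ⟨π, hπ, hπχ, h⟩ | ⟨π, χ', δ, -, -, -, -, -, h⟩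
    · exfalso; omega
    · exfalso; omega
    · exfalso; omega
    · exfalso; omega
    · rw [hπχ]
      exact cusp_apply_upSL hπ one_ne_zero
    · exfalso; omega

end Cfsg.Agent.S2323
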