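import Cfsg.Statements.S2324
import Cfsg.Agent.Lib.H12.SL2Half
import Cfsg.Agent.Lib.H12.SL2Count2

set_option autoImplicit false
open Cfsg

namespace Cfsg.Agent.S2324

open Cfsg.Agent.Lib.H12 Cfsg.Agent.Lib.L0 Matrix

/-- Over a finite field F with q elements, q odd and q ≥ 5, let u be the upper unitriangular matrix of SL₂ with off-diagonal entry 1 and let δ = (−1)^((q−1)/2). Every irreducible complex character χ of SL₂ of degree (q + 1)/2 satisfies (2χ(u) − 1)² = δq, and every irreducible complex character χ of degree (q − 1)/2 satisfies (2χ(u) + 1)² = δq; that is, χ(u) = (1 ± √(δq))/2 in the first case and χ(u) = (−1 ± √(δq))/2 in the second. Moreover two different irreducible characters of degree (q + 1)/2 take the two different values (their values at u add up to 1), and likewise for degree (q − 1)/2 (values adding up to −1). -/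
theorem result {F : Type*} [Field F] [Fintype F] (hodd : Odd (Fintype.card F)) (hq : 5 ≤ Fintype.card F)
    (u : Matrix.SpecialLinearGroup (Fin 2) F) (hu : (u : Matrix (Fin 2) (Fin 2) F) = !![1, 1; 0, 1]) :
    (∀ χ : Matrix.SpecialLinearGroup (Fin 2) F → ℂ, Cfsg.IsIrrCharacter (Matrix.SpecialLinearGroup (Fin 2) F) χ → χ 1 = (((Fintype.card F + 1) / 2 : ℕ) : ℂ) → (2 * χ u - 1) ^ 2 = (-1 : ℂ) ^ ((Fintype.card F - 1) / 2) * (Fintype.card F : ℂ)) ∧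
    (∀ χ : Matrix.SpecialLinearGroup (Fin 2) F → ℂ, Cfsg.IsIrrCharacter (Matrix.SpecialLinearGroup (Fin 2) F) χ → χ 1 = (((Fintype.card F - 1) / 2 : ℕ) : ℂ) → (2 * χ u + 1) ^ 2 = (-1 : ℂ) ^ ((Fintype.card F - 1) / 2) * (Fintype.card F : ℂ)) ∧
    (∀ χ₁ χ₂ : Matrix.SpecialLinearGroup (Fin 2) F → ℂ, Cfsg.IsIrrCharacter (Matrix.SpecialLinearGroup (Fin 2) F) χ₁ → Cfsg.IsIrrCharacter (Matrix.SpecialLinearGroup (Fin 2) F) χ₂ → χ₁ ≠ χ₂ →
      χ₁ 1 = (((Fintype.card F + 1) / 2 : ℕ) : ℂ) → χ₂ 1 = (((Fintype.card F + 1) / 2 : ℕ) : ℂ) → χ₁ u + χ₂ u = 1) ∧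
    (∀ χ₁ χ₂ : Matrix.SpecialLinearGroup (Fin 2) F → ℂ, Cfsg.IsIrrCharacter (Matrix.SpecialLinearGroup (Fin 2) F) χ₁ → Cfsg.IsIrrCharacter (Matrix.SpecialLinearGroup (Fin 2) F) χ₂ → χ₁ ≠ χ₂ →
      χ₁ 1 = (((Fintype.card F - 1) / 2 : ℕ) : ℂ) → χ₂ 1 = (((Fintype.card F - 1) / 2 : ℕ) : ℂ) → χ₁ u + χ₂ u = -1) := by
  classical
  have hu' : u = upSL 1 := eq_upSL_of_val hu
  subst hu'
  obtain ⟨m, hm⟩ := hodd
  have hodd : Odd (Fintype.card F) := ⟨m, hm⟩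
  -- structure of the characters of degree `(q + 1) / 2`
  have hplus : ∀ χ : Matrix.SpecialLinearGroup (Fin 2) F → ℂ,
      Cfsg.IsIrrCharacter (Matrix.SpecialLinearGroup (Fin 2) F) χ →
      χ 1 = (((Fintype.card F + 1) / 2 : ℕ) : ℂ) →
      ∃ (χ' : Matrix.SpecialLinearGroup (Fin 2) F → ℂ) (δ : Fˣ),
        Cfsg.IsIrrCharacter (Matrix.SpecialLinearGroup (Fin 2) F) χ' ∧ χ' ≠ χ ∧
        χ' 1 = (((Fintype.card F + 1) / 2 : ℕ) : ℂ) ∧
        (∀ n, χ' (conjSL (dg δ) n) = χ n) ∧ χ (upSL 1) + χ' (upSL 1) = 1 := by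
    intro χ hχ hdeg
    obtain ⟨k, hk, hcases⟩ := sl2_irr_classification_deg hχ
    rw [hk] at hdeg
    have hkq : k = (Fintype.card F + 1) / 2 := by exact_mod_cast hdeg
    rcases hcases with ⟨-, h⟩ | ⟨-, h⟩ | ⟨γ, -, -, h⟩ | ⟨γ, χ', δ, -, -, hχ', hne, hs, hx, h⟩ |
      ⟨π, -, -, h⟩ | ⟨π, χ', δ, -, -, -, -, -, h⟩
    · exfalso; omega
    · exfalso; omega
    · exfalso; omega
    · refine ⟨χ', δ, hχ', hne, ?_, hx, ?_⟩
      · have := hx 1
        rw [conjSL_one] at this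
        rw [this, hk, hkq]
      · have := congrFun hs (upSL 1)
        rw [psCharSL_upSL γ one_ne_zero, Pi.add_apply] at this
        exact this.symm
    · exfalso; omega
    · exfalso; omega
  have hminus : ∀ χ : Matrix.SpecialLinearGroup (Fin 2) F → ℂ,
      Cfsg.IsIrrCharacter (Matrix.SpecialLinearGroup (Fin 2) F) χ →
      χ 1 = (((Fintype.card F - 1) / 2 : ℕ) : ℂ) →
      ∃ (χ' : Matrix.SpecialLinearGroup (Fin 2) F → ℂ) (δ : Fˣ),
        Cfsg.IsIrrCharacter (Matrix.SpecialLinearGroup (Fin 2) F) χ' ∧ χ' ≠ χ ∧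
        χ' 1 = (((Fintype.card F - 1) / 2 : ℕ) : ℂ) ∧
        (∀ n, χ' (conjSL (dg δ) n) = χ n) ∧ χ (upSL 1) + χ' (upSL 1) = -1 := by
    intro χ hχ hdeg
    obtain ⟨k, hk, hcases⟩ := sl2_irr_classification_deg hχ
    rw [hk] at hdeg
    have hkq : k = (Fintype.card F - 1) / 2 := by exact_mod_cast hdeg
    rcases hcases with ⟨-, h⟩ | ⟨-, h⟩ | ⟨γ, -, -, h⟩ | ⟨γ, χ', δ, -, -, -, -, -, -, h⟩ |
      ⟨π, -, -, h⟩ | ⟨π, χ', δ, hπ, hχ', hne, hs, hx, h⟩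
    · exfalso; omega
    · exfalso; omega
    · exfalso; omega
    · exfalso; omega
    · exfalso; omega
    · refine ⟨χ', δ, hχ', hne, ?_, hx, ?_⟩
      · have := hx 1
        rw [conjSL_one] at this
        rw [this, hk, hkq]
      · have := congrFun hs (upSL 1)
        rw [cusp_apply_upSL hπ one_ne_zero, Pi.add_apply] at this
        exact this.symm
  -- a set with two elements
  have hcard2 : ∀ (P : Cfsg.IrrCharacter (Matrix.SpecialLinearGroup (Fin 2) F) → Prop),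
      Nat.card {χ // P χ} = 2 → ∀ a b c : {χ // P χ}, a ≠ b → c ≠ a → c = b := by
    intro P hP a b c hab hca
    by_contra hcb
    have : Fintype {χ // P χ} := Fintype.ofFinite _
    have h3 : ({a, b, c} : Finset {χ // P χ}).card = 3 := by
      rw [Finset.card_insert_of_notMem, Finset.card_pair (fun h => hcb h.symm)]
      simp only [Finset.mem_insert, Finset.mem_singleton, not_or]
      exact ⟨hab, fun h => hca h.symm⟩
    have h4 := Finset.card_le_univ ({a, b, c} : Finset {χ // P χ})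
    rw [h3, ← Nat.card_eq_fintype_card, hP] at h4
    omega
  refine ⟨?_, ?_, ?_, ?_⟩
  · intro χ hχ hdeg
    obtain ⟨χ', δ, hχ', hne, -, hx, hsum⟩ := hplus χ hχ hdeg
    have := sub_upSL_one_sq hodd hχ hχ' hne hx
    rw [← this]
    congr 1
    linear_combination hsum
  · intro χ hχ hdeg
    obtain ⟨χ', δ, hχ', hne, -, hx, hsum⟩ := hminus χ hχ hdeg
    have := sub_upSL_one_sq hodd hχ hχ' hne hx
    rw [← this]
    congr 1
    linear_combination hsum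
  · intro χ₁ χ₂ h₁ h₂ h12 hd₁ hd₂
    obtain ⟨χ', δ, hχ', hne, hd', hx, hsum⟩ := hplus χ₁ h₁ hd₁
    have := hcard2 _ (natCard_irr_deg_half_add hodd hq) ⟨⟨χ₁, h₁⟩, hd₁⟩ ⟨⟨χ₂, h₂⟩, hd₂⟩ ⟨⟨χ', hχ'⟩, hd'⟩
      (fun h => h12 (congrArg (fun x => (x.1 : Matrix.SpecialLinearGroup (Fin 2) F → ℂ)) h))
      (fun h => hne (congrArg (fun x => (x.1 : Matrix.SpecialLinearGroup (Fin 2) F → ℂ)) h))
    have h' : χ' = χ₂ := congrArg (fun x => (x.1 : Matrix.SpecialLinearGroup (Fin 2) F → ℂ)) this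
    rw [← h']
    exact hsum
  · intro χ₁ χ₂ h₁ h₂ h12 hd₁ hd₂
    obtain ⟨χ', δ, hχ', hne, hd', hx, hsum⟩ := hminus χ₁ h₁ hd₁
    have := hcard2 _ (natCard_irr_deg_cusp_odd hodd hq).2 ⟨⟨χ₁, h₁⟩, hd₁⟩ ⟨⟨χ₂, h₂⟩, hd₂⟩ ⟨⟨χ', hχ'⟩, hd'⟩
      (fun h => h12 (congrArg (fun x => (x.1 : Matrix.SpecialLinearGroup (Fin 2) F → ℂ)) h))
      (fun h => hne (congrArg (fun x => (x.1 : Matrix.SpecialLinearGroup (Fin 2) F → ℂ)) h))
    have h' : χ' = χ₂ := congrArg (fun x => (x.1 : Matrix.SpecialLinearGroup (Fin 2) F → ℂ)) this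
    rw [← h']
    exact hsum

end Cfsg.Agent.S2324
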