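import Cfsg.Statements.S2329
import Cfsg.Agent.Lib.H12.Unipotent
import Cfsg.Agent.Lib.H12.GL2

set_option autoImplicit false
open Cfsg

namespace Cfsg.Agent.S2329

open Cfsg.Agent.Lib.H12

theorem facts {F : Type*} [Field F] (p : ℕ) [Fact p.Prime] [CharP F p]
    (g : Matrix.GeneralLinearGroup (Fin 2) F) (hg : orderOf g = p) :
    NonScalar (g : Matrix (Fin 2) (Fin 2) F) ∧ (g : Matrix (Fin 2) (Fin 2) F).trace = 2 ∧
      (g : Matrix (Fin 2) (Fin 2) F).det = 1 := by
  have hp : p.Prime := Fact.out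
  have h1 : (g : Matrix (Fin 2) (Fin 2) F) ^ p ^ 1 = 1 := by
    rw [pow_one, ← hg, ← Units.val_pow_eq_pow_val, pow_orderOf_eq_one, Units.val_one]
  have h2 : ((g : Matrix (Fin 2) (Fin 2) F) - 1) ^ 2 = 0 := by
    have := sub_one_pow_card_eq_zero p (g : Matrix (Fin 2) (Fin 2) F) 1 h1
    simpa using this
  have h3 : (g : Matrix (Fin 2) (Fin 2) F) ≠ 1 := by
    intro h
    have : g = 1 := Units.ext h
    rw [this, orderOf_one] at hg
    exact hp.one_lt.ne hg
  exact unipotent_two_facts _ h2 h3

/-- Over a finite field of characteristic p, any two elements of order p of GL₂ are conjugate: there is a single conjugacy class of non-identity unipotent elements. -/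
theorem result {F : Type*} [Field F] [Fintype F] (p : ℕ) [Fact p.Prime] [CharP F p] (g h : Matrix.GeneralLinearGroup (Fin 2) F)
    (hg : orderOf g = p) (hh : orderOf h = p) : IsConj g h := by
  obtain ⟨g1, g2, g3⟩ := facts p g hg
  obtain ⟨h1, h2, h3⟩ := facts p h hh
  exact gl2_isConj_of_trace_det g h g1 h1 (by rw [g2, h2]) (by rw [g3, h3])

end Cfsg.Agent.S2329
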