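import Cfsg.Statements.S2333
import Cfsg.Agent.Lib.H12.LS2Main

set_option autoImplicit false
open Cfsg

namespace Cfsg.Agent.S2333

/-- For a finite field F of even order q and n ≥ 2 with (n, q) ≠ (2, 2), every irreducible complex representation of the symplectic group Sp_{2n}(F) of degree at least 2 has degree at least (q^n − 1)(q^n − q)/(2(q + 1)). -/
theorem result {F : Type*} [Field F] [Fintype F] [DecidableEq F] (n : ℕ) (hn : 2 ≤ n) (heven : Even (Fintype.card F)) (hex : (n, Fintype.card F) ≠ (2, 2)) :
    (∀ (k : ℕ) (ρ : Representation ℂ (Matrix.symplecticGroup (Fin n) F) (Fin k → ℂ)), ρ.IsIrreducible → 2 ≤ k → (Fintype.card F ^ n - 1) * (Fintype.card F ^ n - Fintype.card F) / (2 * (Fintype.card F + 1)) ≤ k) := by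
  intro k ρ hirr hk
  have hchar : ringChar F = 2 := by
    rw [FiniteField.even_card_iff_char_two]
    exact Nat.even_iff.1 heven
  have h2 : (2 : F) = 0 := by
    have h3 : ((ringChar F : ℕ) : F) = 0 := ringChar.Nat.cast_ringChar
    rw [hchar] at h3
    exact_mod_cast h3
  have hex' : n = 2 → 3 ≤ Fintype.card F := by
    intro hn2
    have h1 : 1 < Fintype.card F := Fintype.one_lt_card
    have h3 : Fintype.card F ≠ 2 := by
      intro h4
      apply hex
      rw [hn2, h4]
    omega
  have hnt : ∃ g, ρ g ≠ 1 := by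
    by_contra hcon
    have htriv : ∀ g, ρ g = 1 := fun g => by_contra fun h => hcon ⟨g, h⟩
    have hk0 : 0 < k := by omega
    let v : Fin k → ℂ := Pi.single ⟨0, hk0⟩ 1
    let W : Subrepresentation ρ :=
      ⟨Submodule.span ℂ {v}, fun g x hx => by rw [htriv g]; exact hx⟩
    rcases hirr.eq_bot_or_eq_top W with h7 | h7
    · have h8 : v ∈ W.toSubmodule := Submodule.subset_span rfl
      rw [h7] at h8
      have h9 : v = 0 := h8
      have h10 := congrFun h9 ⟨0, hk0⟩
      simp [v] at h10
    · have h8 : W.toSubmodule = ⊤ := congrArg Subrepresentation.toSubmodule h7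
      have hv0 : v ≠ 0 := by
        intro h9
        have h10 := congrFun h9 ⟨0, hk0⟩
        simp [v] at h10
      have h9 : Module.finrank ℂ (Submodule.span ℂ {v}) = 1 := finrank_span_singleton hv0
      have h10 : Module.finrank ℂ (Submodule.span ℂ {v}) = k := by
        have h11 : Submodule.span ℂ {v} = ⊤ := h8
        rw [h11, finrank_top, Module.finrank_fin_fun]
      omega
  have hmain := Cfsg.Agent.Lib.H12.LS2.min_degree h2 n hn hex' ρ hnt
  rw [Module.finrank_fin_fun] at hmain
  apply Nat.div_le_of_le_mul
  exact hmain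

end Cfsg.Agent.S2333
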