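import Mathlib
import Cfsg.Statements.S2337
import Cfsg.Agent.Lib.H2.SzRep2
import Cfsg.Agent.Lib.H2.SzB3
import Cfsg.Agent.S0325
-- import your own Cfsg.Agent.* helpers here

set_option autoImplicit false
open Cfsg

namespace Cfsg.Agent.S2337

/-- For the Suzuki group Sz(q), q = 2^(2m+1) with m ≥ 1 (realised inside Sp₄ over the field with q elements), every irreducible complex representation of degree at least 2 has degree at least 2^m·(q − 1). -/
theorem result {F : Type*} [Field F] [Fintype F] (m : ℕ) (hm : 1 ≤ m) (hF : Fintype.card F = 2 ^ (2 * m + 1)) :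
    (∀ (k : ℕ) (ρ : Representation ℂ (Cfsg.Lie.Sz F (2 ^ (m + 1))) (Fin k → ℂ)), ρ.IsIrreducible → 2 ≤ k → 2 ^ m * (2 ^ (2 * m + 1) - 1) ≤ k) := by
  intro k ρ hirr hk
  have h := Cfsg.Agent.Lib.H2.Sz.fld_of_card hF
  let e := Cfsg.Agent.Lib.H2.SzB.bridge h hm hF
  let ρ' : Cfsg.Sz F m →* Module.End ℂ (Fin k → ℂ) := ρ.comp e.toMonoidHom
  have hsimple : IsSimpleGroup (Cfsg.Sz F m) := Cfsg.Agent.S0325.result hm hF
  have hfaith : ρ' (Cfsg.Agent.Lib.H2.Sz.t0 h 1) ≠ 1 := by
    intro h1
    have hker : ρ'.ker = ⊤ := by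
      rcases hsimple.eq_bot_or_eq_top_of_normal ρ'.ker inferInstance with h2 | h2
      · exfalso
        have h3 : Cfsg.Agent.Lib.H2.Sz.t0 h (1 : F) ∈ ρ'.ker := h1
        rw [h2, Subgroup.mem_bot, Cfsg.Agent.Lib.H2.Sz.t0_eq_one_iff h] at h3
        exact one_ne_zero h3
      · exact h2
    have htriv : ∀ g, ρ g = 1 := by
      intro g
      have h4 : e.symm g ∈ ρ'.ker := by
        rw [hker]
        trivial
      have h5 : ρ' (e.symm g) = 1 := h4
      have h6 : ρ' (e.symm g) = ρ (e (e.symm g)) := rfl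
      rw [h6, MulEquiv.apply_symm_apply] at h5
      exact h5
    have hk0 : 0 < k := by omega
    let v : Fin k → ℂ := Pi.single ⟨0, hk0⟩ 1
    let W : Subrepresentation ρ :=
      ⟨Submodule.span ℂ {v}, fun g x hx => by rw [htriv g]; exact hx⟩
    rcases hirr.eq_bot_or_eq_top W with h7 | h7
    · have h8 : v ∈ W.toSubmodule := Submodule.subset_span rfl
      rw [h7] at h8
      have h9 : v = 0 := h8
      have h10 := congrFun h9 ⟨0, hk0⟩
      simp [v] at h10
    · have h8 : W.toSubmodule = ⊤ := congrArg Subrepresentation.toSubmodule h7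
      have hv0 : v ≠ 0 := by
        intro h9
        have h10 := congrFun h9 ⟨0, hk0⟩
        simp [v] at h10
      have h9 : Module.finrank ℂ (Submodule.span ℂ {v}) = 1 := finrank_span_singleton hv0
      have h10 : Module.finrank ℂ (Submodule.span ℂ {v}) = k := by
        have h11 : Submodule.span ℂ {v} = ⊤ := h8
        rw [h11, finrank_top, Module.finrank_fin_fun]
      omega
  have hmain := Cfsg.Agent.Lib.H2.Sz.min_degree h ρ' hm hF hfaith
  rwa [Module.finrank_fin_fun] at hmain

end Cfsg.Agent.S2337
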