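import Cfsg.Statements.S2343
import Cfsg.Agent.Lib.H22.ReeLS
import Cfsg.Agent.Lib.H12.ReeT8
-- import your own Cfsg.Agent.* helpers here

set_option autoImplicit false
open Cfsg

namespace Cfsg.Agent.S2343

/-- For the Ree group ²G₂(q), q = 3^(2m+1) with m ≥ 1 (realised over the field with q elements), every irreducible complex representation of degree at least 2 has degree at least q² − q + 1. -/
theorem result {K : Type*} [Field K] [Fintype K] (m : ℕ) (hm : 1 ≤ m) (hK : Fintype.card K = 3 ^ (2 * m + 1)) :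
    (∀ (k : ℕ) (ρ : Representation ℂ (Cfsg.Lie.twistedG2 K (3 ^ m)) (Fin k → ℂ)), ρ.IsIrreducible → 2 ≤ k → (3 ^ (2 * m + 1)) ^ 2 - 3 ^ (2 * m + 1) + 1 ≤ k) := by
  classical
  have : CharP K 3 := Cfsg.Agent.Lib.H29.Chev.charP_of_card_pow 3 (2 * m + 1) (by norm_num) hK
  intro k ρ hirr hk
  let R := Cfsg.Agent.Lib.H12.ReeC.reeRSys m hK
  have hD := Cfsg.Agent.Lib.H12.ReeC.reeRSys_data hm hK
  have hT := Cfsg.Agent.Lib.H12.ReeC.reeRSys_torusFacts m hK
  have hsimple : IsSimpleGroup ↥(Cfsg.Lie.twistedG2 K (3 ^ m)) :=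
    (Cfsg.Agent.Lib.H29.Chev.tw_simple_G2 m hK hm).1
  let ρ' : ↥(Cfsg.Lie.twistedG2 K (3 ^ m)) →* Module.End ℂ (Fin k → ℂ) := ρ
  have hx1 : R.x 0 0 1 ≠ 1 := by
    intro h
    rw [← R.x_zero] at h
    exact one_ne_zero (R.x_inj _ _ _ _ _ _ h).2.2
  have hfaith : ρ' (R.x 0 0 1) ≠ 1 := by
    intro h1
    have hker : ρ'.ker = ⊤ := by
      rcases hsimple.eq_bot_or_eq_top_of_normal ρ'.ker inferInstance with h2 | h2
      · exfalso
        have h3 : R.x 0 0 1 ∈ ρ'.ker := h1
        rw [h2, Subgroup.mem_bot] at h3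
        exact hx1 h3
      · exact h2
    have htriv : ∀ g, ρ g = 1 := by
      intro g
      have h4 : g ∈ ρ'.ker := by
        rw [hker]
        trivial
      exact h4
    have hk0 : 0 < k := by omega
    let v : Fin k → ℂ := Pi.single ⟨0, hk0⟩ 1
    let W : Subrepresentation ρ :=
      ⟨Submodule.span ℂ {v}, fun g x hx => by rw [htriv g]; exact hx⟩
    rcases hirr.eq_bot_or_eq_top W with h7 | h7
    · have h8 : v ∈ W.toSubmodule := Submodule.subset_span rfl
      rw [h7] at h8
      have h9 : v = 0 := h8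
      have h10 := congrFun h9 ⟨0, hk0⟩
      simp [v] at h10
    · have h8 : W.toSubmodule = ⊤ := congrArg Subrepresentation.toSubmodule h7
      have hv0 : v ≠ 0 := by
        intro h9
        have h10 := congrFun h9 ⟨0, hk0⟩
        simp [v] at h10
      have h9 : Module.finrank ℂ (Submodule.span ℂ {v}) = 1 := finrank_span_singleton hv0
      have h10 : Module.finrank ℂ (Submodule.span ℂ {v}) = k := by
        have h11 : Submodule.span ℂ {v} = ⊤ := h8
        rw [h11, finrank_top, Module.finrank_fin_fun]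
      omega
  have hmain := Cfsg.Agent.Lib.H22.ReeLS.ree_min_degree R ρ' hD hT hfaith
  rwa [Module.finrank_fin_fun] at hmain

end Cfsg.Agent.S2343
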