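import Cfsg.Statements.S2352

set_option autoImplicit false
open Cfsg

namespace Cfsg.Agent.S2352

open Equiv

variable {N : ℕ}

/-- the permutation by which a letter acts -/
def act (f : ℕ → Perm (Fin N)) (l : ℕ × Bool) : Perm (Fin N) := cond l.2 (f l.1) (f l.1)⁻¹

/-- evaluation of a word -/
def ev (f : ℕ → Perm (Fin N)) (L : List (ℕ × Bool)) : Perm (Fin N) := (L.map (act f)).prod

theorem ev_cons (f : ℕ → Perm (Fin N)) (l : ℕ × Bool) (L : List (ℕ × Bool)) :
    ev f (l :: L) = act f l * ev f L := by
  simp [ev]

theorem act_inv (f : ℕ → Perm (Fin N)) (a : ℕ) (b : Bool) (x : Fin N) :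
    act f (a, !b) (act f (a, b) x) = x := by
  cases b <;> simp [act]

/-- the trajectory of the point `0` follows `0, 1, 2, …` -/
def Good (f : ℕ → Perm (Fin N)) : List (ℕ × Bool) → Prop
  | [] => True
  | l :: L => Good f L ∧ ∀ x : Fin N, x.val = L.length → (act f l x).val = L.length + 1

theorem good_ev (f : ℕ → Perm (Fin N)) : ∀ (L : List (ℕ × Bool)), Good f L →
    ∀ x : Fin N, x.val = 0 → (ev f L x).val = L.length
  | [], _, x, hx => by simpa [ev] using hx
  | l :: L, hG, x, hx => by
    rw [ev_cons, Perm.mul_apply]
    have h1 := good_ev f L hG.1 x hx
    rw [hG.2 _ h1, List.length_cons]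

/-- `Good` only depends on the values of the letters along the trajectory. -/
theorem good_of_agree (f f' : ℕ → Perm (Fin N)) (L : List (ℕ × Bool)) (hG : Good f L)
    (H : ∀ (l : ℕ × Bool) (T : List (ℕ × Bool)), (l :: T) <:+ L →
      ∀ x : Fin N, x.val = T.length → act f' l x = act f l x) : Good f' L := by
  induction L with
  | nil => trivial
  | cons l L ih =>
    refine ⟨ih hG.1 (fun l' T hT => H l' T (hT.trans (List.suffix_cons l L))), ?_⟩
    intro x hx
    rw [H l L (List.suffix_refl _) x hx]
    exact hG.2 x hx

theorem suffix_length_lt {α : Type*} {S L : List α} (h : S <:+ L) (hne : S.length ≠ L.length) :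
    S.length < L.length := lt_of_le_of_ne h.length_le hne

theorem main : ∀ (L : List (ℕ × Bool)), FreeGroup.IsReduced L → L.length + 1 ≤ N →
    ∃ f : ℕ → Perm (Fin N), Good f L ∧ ∀ (i : ℕ) (x : Fin N), L.length < x.val → f i x = x := by
  intro L
  induction L with
  | nil =>
    intro _ _
    exact ⟨fun _ => 1, trivial, fun _ _ _ => rfl⟩
  | cons l L ih =>
    intro hred hlen
    obtain ⟨a, b⟩ := l
    have hredL : FreeGroup.IsReduced L := by
      cases L with
      | nil => exact FreeGroup.IsReduced.nil
      | cons l' L' => exact (FreeGroup.isReduced_cons_cons.mp hred).2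
    simp only [List.length_cons] at hlen
    obtain ⟨f, hG, hfix⟩ := ih hredL (by omega)
    set m := L.length with hm
    let xm : Fin N := ⟨m, by omega⟩
    let z : Fin N := ⟨m + 1, by omega⟩
    let y : Fin N := act f (a, b) xm
    have hfix_act : ∀ (l : ℕ × Bool) (x : Fin N), m < x.val → act f l x = x := by
      intro l x hx
      rcases l with ⟨i, c⟩
      cases c
      · simp only [act, cond_false]
        rw [Perm.inv_eq_iff_eq]
        exact (hfix i x hx).symm
      · simp only [act, cond_true]
        exact hfix i x hx
    have hy : y.val ≤ m := by
      by_contra hcon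
      have h1 : act f (a, b) y = y := hfix_act (a, b) y (by omega)
      have h2 : y = xm := (act f (a, b)).injective h1
      have : y.val = m := by rw [h2]
      omega
    have hyz : y ≠ z := by
      intro h
      have : y.val = m + 1 := by rw [h]
      omega
    -- the new assignment
    let f' : ℕ → Perm (Fin N) := Function.update f a
      (if b then Equiv.swap y z * f a else f a * Equiv.swap y z)
    have hf'_ne : ∀ (i : ℕ) (c : Bool), i ≠ a → act f' (i, c) = act f (i, c) := by
      intro i c hi
      simp only [act, f', Function.update_of_ne hi]
    have hf'_same : act f' (a, b) = Equiv.swap y z * act f (a, b) := by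
      cases b
      · simp only [act, f', Function.update_self, cond_false, Bool.false_eq_true, if_false]
        rw [mul_inv_rev, Equiv.swap_inv]
      · simp only [act, f', Function.update_self, cond_true, if_true]
    have hf'_opp : act f' (a, !b) = act f (a, !b) * Equiv.swap y z := by
      cases b
      · simp only [act, f', Function.update_self, Bool.not_false, cond_true, Bool.false_eq_true, if_false]
      · simp only [act, f', Function.update_self, Bool.not_true, cond_false, if_true]
        rw [mul_inv_rev, Equiv.swap_inv]
    refine ⟨f', ⟨?_, ?_⟩, ?_⟩
    · -- Good f' L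
      apply good_of_agree f f' L hG
      intro l T hT x hx
      have hTlen : T.length + 1 ≤ m := by
        have := hT.length_le
        simpa [hm] using this
      rcases l with ⟨i, c⟩
      by_cases hi : i = a
      · subst hi
        -- value along the trajectory under f
        have hgoodT : Good f ((i, c) :: T) := by
          obtain ⟨S, hS⟩ := hT
          have : ∀ (S : List (ℕ × Bool)) (L₀ : List (ℕ × Bool)), Good f (S ++ L₀) → Good f L₀ := by
            intro S
            induction S with
            | nil => intro L₀ h; simpa using h
            | cons s S ihS => intro L₀ h; exact ihS L₀ h.1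
          exact this S _ (hS ▸ hG)
        have hval : (act f (i, c) x).val = T.length + 1 := hgoodT.2 x hx
        by_cases hc : c = b
        · subst hc
          rw [hf'_same, Perm.mul_apply]
          apply Equiv.swap_apply_of_ne_of_ne
          · intro h
            have : x = xm := (act f (i, c)).injective h
            have : x.val = m := by rw [this]
            omega
          · intro h
            have : (act f (i, c) x).val = m + 1 := by rw [h]
            omega
        · have hc' : c = !b := by
            cases c <;> cases b <;> simp_all
          subst hc'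
          rw [hf'_opp, Perm.mul_apply]
          congr 1
          apply Equiv.swap_apply_of_ne_of_ne
          · intro h
            -- x = y
            have h1 : act f (i, !b) x = xm := by
              rw [h]; exact act_inv f i b xm
            have h2 : T.length + 1 = m := by
              rw [← hval, h1]
            -- then (i, !b) :: T = L, contradicting reducedness
            have hLeq : (i, !b) :: T = L := by
              apply List.IsSuffix.eq_of_length hT
              rw [List.length_cons, h2]
            rw [← hLeq] at hred
            have := (FreeGroup.isReduced_cons_cons.mp hred).1 rfl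
            cases b <;> simp at this
          · intro h
            have : x.val = m + 1 := by rw [h]
            omega
      · rw [hf'_ne i c hi]
    · -- the new step
      intro x hx
      have hx' : x = xm := Fin.ext (by simpa [hm] using hx)
      subst hx'
      rw [hf'_same, Perm.mul_apply]
      show (Equiv.swap y z y).val = m + 1
      rw [Equiv.swap_apply_left]
    · -- fixed points
      intro i x hx
      simp only [List.length_cons] at hx
      by_cases hi : i = a
      · subst hi
        have hxy : x ≠ y := by
          intro h; rw [h] at hx; omega
        have hxz : x ≠ z := by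
          intro h
          have : x.val = m + 1 := by rw [h]
          omega
        have hfx : f i x = x := hfix i x (by omega)
        simp only [f', Function.update_self]
        split_ifs
        · rw [Perm.mul_apply, hfx, Equiv.swap_apply_of_ne_of_ne hxy hxz]
        · rw [Perm.mul_apply, Equiv.swap_apply_of_ne_of_ne hxy hxz, hfx]
      · simp only [f', Function.update_of_ne hi]
        exact hfix i x (by omega)


theorem lift_coe {n : ℕ} (g : ℕ → alternatingGroup (Fin n)) (w : FreeGroup ℕ) :
    ((FreeGroup.lift g w : alternatingGroup (Fin n)) : Perm (Fin n)) =
      FreeGroup.lift (fun i => (g i : Perm (Fin n))) w := by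
  have := FreeGroup.lift_unique (f := fun i => (g i : Perm (Fin n)))
    ((alternatingGroup (Fin n)).subtype.comp (FreeGroup.lift g)) (fun x => by simp) (x := w)
  simpa using this

/-- A non-trivial law holds in only finitely many alternating groups: for every non-trivial element w of the free group on countably many generators there is N such that for all n ≥ N some substitution of elements of the alternating group of degree n into w is not the identity. -/
theorem result (w : FreeGroup ℕ) (hw : w ≠ 1) :
    ∃ N : ℕ, ∀ n : ℕ, N ≤ n → ∃ f : ℕ → alternatingGroup (Fin n), FreeGroup.lift f w ≠ 1 := by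
  set L := w.toWord with hL
  have hred : FreeGroup.IsReduced L := FreeGroup.isReduced_toWord
  have hLne : L ≠ [] := fun h => hw (FreeGroup.toWord_eq_nil_iff.mp h)
  have hmpos : 0 < L.length := List.length_pos_iff.mpr hLne
  refine ⟨L.length + 3, fun n hn => ?_⟩
  obtain ⟨f, hG, hfix⟩ := main (N := n) L hred (by omega)
  let u : Fin n := ⟨n - 1, by omega⟩
  let v : Fin n := ⟨n - 2, by omega⟩
  have huv : u ≠ v := by
    intro h
    have : u.val = v.val := by rw [h]
    simp only [u, v] at this
    omega
  let τ : ℕ → Perm (Fin n) := fun i => if Perm.sign (f i) = 1 then 1 else Equiv.swap u v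
  have hτ_fix : ∀ (i : ℕ) (x : Fin n), x.val ≤ L.length → τ i x = x := by
    intro i x hx
    simp only [τ]
    split_ifs
    · rfl
    · apply Equiv.swap_apply_of_ne_of_ne
      · intro h
        have : x.val = n - 1 := by rw [h]
        omega
      · intro h
        have : x.val = n - 2 := by rw [h]
        omega
  have hτ_inv : ∀ i, (τ i)⁻¹ = τ i := by
    intro i
    simp only [τ]
    split_ifs
    · simp
    · exact Equiv.swap_inv u v
  let f'' : ℕ → Perm (Fin n) := fun i => f i * τ i
  have hsign : ∀ i, Perm.sign (f'' i) = 1 := by
    intro i
    simp only [f'', τ, Perm.sign_mul]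
    split_ifs with h
    · rw [h, Perm.sign_one, mul_one]
    · have h' : Perm.sign (f i) = -1 := (Int.units_eq_one_or _).resolve_left h
      rw [h', Perm.sign_swap huv]; rfl
  have hG'' : Good f'' L := by
    apply good_of_agree f f'' L hG
    intro l T hT x hx
    have hTlen : T.length + 1 ≤ L.length := by
      have := hT.length_le
      simpa using this
    rcases l with ⟨i, c⟩
    cases c
    · simp only [act, cond_false, f'', mul_inv_rev, Perm.mul_apply, hτ_inv]
      apply hτ_fix
      by_contra hcon
      have h1 : f i ((f i)⁻¹ x) = (f i)⁻¹ x := hfix i _ (by omega)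
      rw [show f i ((f i)⁻¹ x) = x from (Equiv.eq_symm_apply (f i)).mp rfl] at h1
      rw [← h1] at hcon
      omega
    · simp only [act, cond_true, f'', Perm.mul_apply]
      rw [hτ_fix i x (by omega)]
  let g : ℕ → alternatingGroup (Fin n) := fun i => ⟨f'' i, Equiv.Perm.mem_alternatingGroup.mpr (hsign i)⟩
  refine ⟨g, ?_⟩
  intro h1
  have h2 := lift_coe g w
  rw [h1] at h2
  have h3 : FreeGroup.lift (fun i => (g i : Perm (Fin n))) w = ev f'' L := by
    conv_lhs => rw [← FreeGroup.mk_toWord (x := w)]
    rw [FreeGroup.lift_mk]
    rfl
  rw [h3] at h2
  have h4 := good_ev f'' L hG'' ⟨0, by omega⟩ rfl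
  rw [← h2] at h4
  simp at h4
  omega

end Cfsg.Agent.S2352
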