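import Cfsg.Statements.S2353

set_option autoImplicit false
open Cfsg

namespace Cfsg.Agent.S2353

open Polynomial Matrix

variable {F : Type*} [Field F]

/-- the second component is nonzero and of smaller degree -/
def TA (p r : F[X]) : Prop := r ≠ 0 ∧ r.degree < p.degree

/-- the first component has smaller degree -/
def TB (p r : F[X]) : Prop := p.degree < r.degree

theorem degree_lt_mul {f p : F[X]} (hf : 1 ≤ f.natDegree) (hp : p ≠ 0) : p.degree < (f * p).degree := by
  have hf0 : f ≠ 0 := by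
    rintro rfl
    simp at hf
  apply degree_lt_degree
  rw [natDegree_mul hf0 hp]
  omega

theorem ne_zero_of_degree_lt {p r : F[X]} (h : r.degree < p.degree) : p ≠ 0 := by
  rintro rfl
  rw [degree_zero] at h
  exact not_lt_bot h

/-- `M(f)` preserves type A. -/
theorem TA_actM {f p r : F[X]} (hf : 1 ≤ f.natDegree) (h : TA p r) : TA (f * p + r) (-p) := by
  have hp : p ≠ 0 := ne_zero_of_degree_lt h.2
  refine ⟨neg_ne_zero.mpr hp, ?_⟩
  rw [degree_neg]
  have h1 : r.degree < (f * p).degree := h.2.trans (degree_lt_mul hf hp)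
  rw [degree_add_eq_left_of_degree_lt h1]
  exact degree_lt_mul hf hp

/-- `M(f)⁻¹` preserves type B. -/
theorem TB_actMinv {f p r : F[X]} (hf : 1 ≤ f.natDegree) (h : TB p r) : TB (-r) (p + f * r) := by
  have hr : r ≠ 0 := ne_zero_of_degree_lt h
  unfold TB
  rw [degree_neg]
  have h1 : p.degree < (f * r).degree := h.trans (degree_lt_mul hf hr)
  rw [degree_add_eq_right_of_degree_lt h1]
  exact degree_lt_mul hf hr

/-- a lower unitriangular matrix maps type A to type B -/
theorem TB_of_TA {h p r : F[X]} (hh : 1 ≤ h.natDegree) (hA : TA p r) : TB p (h * p + r) := by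
  have hp : p ≠ 0 := ne_zero_of_degree_lt hA.2
  unfold TB
  have h1 : r.degree < (h * p).degree := hA.2.trans (degree_lt_mul hh hp)
  rw [degree_add_eq_left_of_degree_lt h1]
  exact degree_lt_mul hh hp

/-- an upper unitriangular matrix maps type B to type A -/
theorem TA_of_TB {h p r : F[X]} (hh : 1 ≤ h.natDegree) (hB : TB p r) : TA (p + h * r) r := by
  have hr : r ≠ 0 := ne_zero_of_degree_lt hB
  refine ⟨hr, ?_⟩
  have h1 : p.degree < (h * r).degree := hB.trans (degree_lt_mul hh hr)
  rw [degree_add_eq_right_of_degree_lt h1]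
  exact degree_lt_mul hh hr

/-- The matrix `M(f) = [[f, 1], [-1, 0]]`. -/
noncomputable def Mf (f : F[X]) : Matrix.SpecialLinearGroup (Fin 2) F[X] :=
  ⟨!![f, 1; -1, 0], by simp [Matrix.det_fin_two_of]⟩

theorem Mf_val (f : F[X]) : ((Mf f : Matrix.SpecialLinearGroup (Fin 2) F[X]) : Matrix (Fin 2) (Fin 2) F[X]) =
    !![f, 1; -1, 0] := rfl

theorem Mf_inv_val (f : F[X]) :
    (((Mf f)⁻¹ : Matrix.SpecialLinearGroup (Fin 2) F[X]) : Matrix (Fin 2) (Fin 2) F[X]) =
    !![0, -1; 1, f] := by
  rw [Matrix.SpecialLinearGroup.coe_inv, Mf_val, Matrix.adjugate_fin_two_of]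
  simp

/-- the first column -/
def col (P : Matrix.SpecialLinearGroup (Fin 2) F[X]) : F[X] × F[X] :=
  ((P : Matrix (Fin 2) (Fin 2) F[X]) 0 0, (P : Matrix (Fin 2) (Fin 2) F[X]) 1 0)

theorem col_Mf_mul (f : F[X]) (P : Matrix.SpecialLinearGroup (Fin 2) F[X]) :
    col (Mf f * P) = (f * (col P).1 + (col P).2, -(col P).1) := by
  unfold col
  rw [Matrix.SpecialLinearGroup.coe_mul, Mf_val]
  simp [Matrix.mul_apply, Fin.sum_univ_two]

theorem col_Mf_inv_mul (f : F[X]) (P : Matrix.SpecialLinearGroup (Fin 2) F[X]) :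
    col ((Mf f)⁻¹ * P) = (-(col P).2, (col P).1 + f * (col P).2) := by
  unfold col
  rw [Matrix.SpecialLinearGroup.coe_mul, Mf_inv_val]
  simp [Matrix.mul_apply, Fin.sum_univ_two]

theorem col_one : col (1 : Matrix.SpecialLinearGroup (Fin 2) F[X]) = (1, 0) := by
  unfold col
  simp

/-- the polynomials `a i = X^(2i+1)`, `b i = X^(2i+2)` -/
noncomputable def pa (i : ℕ) : F[X] := X ^ (2 * i + 1)
noncomputable def pb (i : ℕ) : F[X] := X ^ (2 * i + 2)

theorem natDegree_pa (i : ℕ) : (pa i : F[X]).natDegree = 2 * i + 1 := natDegree_X_pow _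
theorem natDegree_pb (i : ℕ) : (pb i : F[X]).natDegree = 2 * i + 2 := natDegree_X_pow _

theorem natDegree_X_pow_sub {m n : ℕ} (hm : 1 ≤ m) (hn : 1 ≤ n) (hmn : m ≠ n) :
    1 ≤ ((X : F[X]) ^ m - X ^ n).natDegree := by
  rcases lt_or_gt_of_ne hmn with h | h
  · rw [natDegree_sub_eq_right_of_natDegree_lt (by rw [natDegree_X_pow, natDegree_X_pow]; exact h),
      natDegree_X_pow]
    exact hn
  · rw [natDegree_sub_eq_left_of_natDegree_lt (by rw [natDegree_X_pow, natDegree_X_pow]; exact h),
      natDegree_X_pow]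
    exact hm

/-- the generators -/
noncomputable def xg (i : ℕ) : Matrix.SpecialLinearGroup (Fin 2) F[X] := Mf (pa i) * Mf (pb i)

/-- evaluation of a word -/
noncomputable def ev (L : List (ℕ × Bool)) : Matrix.SpecialLinearGroup (Fin 2) F[X] :=
  (L.map fun x => cond x.2 (xg (F := F) x.1) (xg x.1)⁻¹).prod

theorem ev_cons_true (i : ℕ) (L : List (ℕ × Bool)) :
    ev ((i, true) :: L) = Mf (pa i) * (Mf (pb i) * ev (F := F) L) := by
  simp [ev, xg, mul_assoc]

theorem ev_cons_false (i : ℕ) (L : List (ℕ × Bool)) :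
    ev ((i, false) :: L) = (Mf (pb i))⁻¹ * ((Mf (pa i))⁻¹ * ev (F := F) L) := by
  simp [ev, xg, mul_assoc]

/-- the invariant -/
def Inv : List (ℕ × Bool) → Prop
  | [] => True
  | (i, true) :: L => ∃ p r : F[X], TA p r ∧ col (ev ((i, true) :: L)) = (pa i * p + r, -p)
  | (i, false) :: L => ∃ p r : F[X], TB p r ∧ col (ev ((i, false) :: L)) = (-r, p + pb i * r)

theorem inv_of_reduced : ∀ L : List (ℕ × Bool), FreeGroup.IsReduced L → Inv (F := F) L := by
  intro L
  induction L with
  | nil => intro _; trivial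
  | cons l L ih =>
    intro hred
    obtain ⟨j, e'⟩ := l
    cases L with
    | nil =>
      cases e'
      · -- `x_j⁻¹`
        refine ⟨0, 1, ?_, ?_⟩
        · unfold TB
          rw [degree_zero, degree_one]
          exact WithBot.bot_lt_coe _
        · rw [ev_cons_false, col_Mf_inv_mul, col_Mf_inv_mul]
          simp [ev, col_one]
      · -- `x_j`
        refine ⟨pb j, -1, ⟨by simp, ?_⟩, ?_⟩
        · rw [degree_neg, degree_one]
          apply lt_of_lt_of_le _ (le_of_eq (degree_eq_natDegree (by simp [pb])).symm)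
          rw [natDegree_pb]
          exact_mod_cast (by omega : 0 < 2 * j + 2)
        · rw [ev_cons_true, col_Mf_mul, col_Mf_mul]
          simp [ev, col_one]
    | cons l' L' =>
      obtain ⟨i, e⟩ := l'
      have hred' := FreeGroup.isReduced_cons_cons.mp hred
      have hI := ih hred'.2
      have ha : ∀ k : ℕ, 1 ≤ (pa k : F[X]).natDegree := fun k => by rw [natDegree_pa]; omega
      have hb : ∀ k : ℕ, 1 ≤ (pb k : F[X]).natDegree := fun k => by rw [natDegree_pb]; omega
      cases e' <;> cases e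
      · -- `x_j⁻¹ x_i⁻¹`
        obtain ⟨p, r, hB, hcol⟩ := hI
        have hB1 : TB (-r) (p + pb i * r) := TB_actMinv (hb i) hB
        have hB2 := TB_actMinv (ha j) hB1
        refine ⟨_, _, hB2, ?_⟩
        rw [ev_cons_false, col_Mf_inv_mul, col_Mf_inv_mul, hcol]
      · -- `x_j⁻¹ x_i`, `i ≠ j`
        obtain ⟨p, r, hA, hcol⟩ := hI
        have hij : j ≠ i := by
          intro h
          have := hred'.1 h
          simp at this
        have hh : 1 ≤ ((pa i : F[X]) - pa j).natDegree := by
          apply natDegree_X_pow_sub <;> omega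
        have hB := TB_of_TA hh hA
        refine ⟨_, _, hB, ?_⟩
        rw [ev_cons_false, col_Mf_inv_mul, col_Mf_inv_mul, hcol]
        simp only [Prod.mk.injEq]
        constructor <;> ring
      · -- `x_j x_i⁻¹`, `i ≠ j`
        obtain ⟨p, r, hB, hcol⟩ := hI
        have hij : j ≠ i := by
          intro h
          have := hred'.1 h
          simp at this
        have hh : 1 ≤ ((pb i : F[X]) - pb j).natDegree := by
          apply natDegree_X_pow_sub <;> omega
        have hA := TA_of_TB hh hB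
        refine ⟨_, _, hA, ?_⟩
        rw [ev_cons_true, col_Mf_mul, col_Mf_mul, hcol]
        simp only [Prod.mk.injEq]
        constructor <;> ring
      · -- `x_j x_i`
        obtain ⟨p, r, hA, hcol⟩ := hI
        have hA1 : TA (pa i * p + r) (-p) := TA_actM (ha i) hA
        have hA2 := TA_actM (hb j) hA1
        refine ⟨_, _, hA2, ?_⟩
        rw [ev_cons_true, col_Mf_mul, col_Mf_mul, hcol]

/-- The lower left entry of a nonempty reduced word is a nonzero polynomial. -/
theorem lower_ne_zero (L : List (ℕ × Bool)) (hred : FreeGroup.IsReduced L) (hne : L ≠ []) :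
    ((ev (F := F) L : Matrix.SpecialLinearGroup (Fin 2) F[X]) : Matrix (Fin 2) (Fin 2) F[X]) 1 0 ≠ 0 := by
  have hI := inv_of_reduced (F := F) L hred
  cases L with
  | nil => exact absurd rfl hne
  | cons l L =>
    obtain ⟨i, e⟩ := l
    cases e
    · obtain ⟨p, r, hB, hcol⟩ := hI
      have h2 : ((ev (F := F) ((i, false) :: L) : Matrix.SpecialLinearGroup (Fin 2) F[X]) :
          Matrix (Fin 2) (Fin 2) F[X]) 1 0 = p + pb i * r := congrArg Prod.snd hcol
      have hb : 1 ≤ (pb i : F[X]).natDegree := by rw [natDegree_pb]; omega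
      have hB1 := TB_actMinv hb hB
      rw [h2]
      exact ne_zero_of_degree_lt hB1
    · obtain ⟨p, r, hA, hcol⟩ := hI
      have h2 : ((ev (F := F) ((i, true) :: L) : Matrix.SpecialLinearGroup (Fin 2) F[X]) :
          Matrix (Fin 2) (Fin 2) F[X]) 1 0 = -p := congrArg Prod.snd hcol
      rw [h2]
      exact neg_ne_zero.mpr (ne_zero_of_degree_lt hA.2)

/-- all entries have degree at most `D` -/
def Bdd (P : Matrix (Fin 2) (Fin 2) F[X]) (D : ℕ) : Prop := ∀ k l, (P k l).natDegree ≤ D

theorem Bdd_mul {P Q : Matrix (Fin 2) (Fin 2) F[X]} {D E : ℕ} (hP : Bdd P D) (hQ : Bdd Q E) :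
    Bdd (P * Q) (D + E) := by
  intro k l
  rw [Matrix.mul_apply, Fin.sum_univ_two]
  apply natDegree_add_le_of_degree_le
  · exact natDegree_mul_le.trans (add_le_add (hP _ _) (hQ _ _))
  · exact natDegree_mul_le.trans (add_le_add (hP _ _) (hQ _ _))

theorem Bdd_one : Bdd (1 : Matrix (Fin 2) (Fin 2) F[X]) 0 := by
  intro k l
  fin_cases k <;> fin_cases l <;> simp

theorem Bdd_Mf (f : F[X]) : Bdd ((Mf f : Matrix.SpecialLinearGroup (Fin 2) F[X]) :
    Matrix (Fin 2) (Fin 2) F[X]) f.natDegree := by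
  intro k l
  rw [Mf_val]
  fin_cases k <;> fin_cases l <;> simp

theorem Bdd_Mf_inv (f : F[X]) : Bdd (((Mf f)⁻¹ : Matrix.SpecialLinearGroup (Fin 2) F[X]) :
    Matrix (Fin 2) (Fin 2) F[X]) f.natDegree := by
  intro k l
  rw [Mf_inv_val]
  fin_cases k <;> fin_cases l <;> simp

/-- the degree bound of a word -/
def dgL (L : List (ℕ × Bool)) : ℕ := (L.map fun x => 4 * x.1 + 3).sum

theorem Bdd_ev : ∀ L : List (ℕ × Bool),
    Bdd ((ev (F := F) L : Matrix.SpecialLinearGroup (Fin 2) F[X]) : Matrix (Fin 2) (Fin 2) F[X]) (dgL L)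
  | [] => by
    have : ev (F := F) [] = 1 := by simp [ev]
    rw [this]
    exact Bdd_one
  | (i, true) :: L => by
    rw [ev_cons_true, Matrix.SpecialLinearGroup.coe_mul, Matrix.SpecialLinearGroup.coe_mul]
    have h := Bdd_mul (Bdd_Mf (pa (F := F) i)) (Bdd_mul (Bdd_Mf (pb (F := F) i)) (Bdd_ev L))
    rw [natDegree_pa, natDegree_pb] at h
    have e : dgL ((i, true) :: L) = 2 * i + 1 + (2 * i + 2 + dgL L) := by
      simp only [dgL, List.map_cons, List.sum_cons]; ring
    rw [e]
    exact h
  | (i, false) :: L => by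
    rw [ev_cons_false, Matrix.SpecialLinearGroup.coe_mul, Matrix.SpecialLinearGroup.coe_mul]
    have h := Bdd_mul (Bdd_Mf_inv (pb (F := F) i)) (Bdd_mul (Bdd_Mf_inv (pa (F := F) i)) (Bdd_ev L))
    rw [natDegree_pa, natDegree_pb] at h
    have e : dgL ((i, false) :: L) = 2 * i + 2 + (2 * i + 1 + dgL L) := by
      simp only [dgL, List.map_cons, List.sum_cons]; ring
    rw [e]
    exact h

theorem lift_map {G H : Type*} [Group G] [Group H] (φ : G →* H) (g : ℕ → G) (w : FreeGroup ℕ) :
    φ (FreeGroup.lift g w) = FreeGroup.lift (fun i => φ (g i)) w := by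
  have := FreeGroup.lift_unique (f := fun i => φ (g i))
    (φ.comp (FreeGroup.lift g)) (fun x => by simp) (x := w)
  simpa using this

/-- A non-trivial law holds in PSL_2 over only finitely many finite fields: for every non-trivial element w of the free group on countably many generators there is N such that over every finite field with at least N elements some substitution of elements of PSL_2 into w is not the identity. -/
theorem result (w : FreeGroup ℕ) (hw : w ≠ 1) :
    ∃ N : ℕ, ∀ (F : Type*) [Field F] [Fintype F], N ≤ Fintype.card F →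
      ∃ f : ℕ → Matrix.ProjectiveSpecialLinearGroup (Fin 2) F, FreeGroup.lift f w ≠ 1 := by
  set L := w.toWord with hL
  have hred : FreeGroup.IsReduced L := FreeGroup.isReduced_toWord
  have hLne : L ≠ [] := fun h => hw (FreeGroup.toWord_eq_nil_iff.mp h)
  refine ⟨dgL L + 1, ?_⟩
  intro F _ _ hcard
  set P : F[X] := ((ev (F := F) L : Matrix.SpecialLinearGroup (Fin 2) F[X]) :
    Matrix (Fin 2) (Fin 2) F[X]) 1 0 with hP
  have hP0 : P ≠ 0 := lower_ne_zero L hred hLne
  have hPd : P.natDegree ≤ dgL L := Bdd_ev L 1 0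
  obtain ⟨t, ht⟩ : ∃ t : F, P.eval t ≠ 0 := by
    by_contra hcon
    simp only [not_exists, not_not] at hcon
    exact hP0 (Polynomial.eq_zero_of_natDegree_lt_card_of_eval_eq_zero P
      (f := id) Function.injective_id hcon (by omega))
  let φ : Matrix.SpecialLinearGroup (Fin 2) F[X] →* Matrix.SpecialLinearGroup (Fin 2) F :=
    Matrix.SpecialLinearGroup.map (Polynomial.evalRingHom t)
  let π : Matrix.SpecialLinearGroup (Fin 2) F →* Matrix.ProjectiveSpecialLinearGroup (Fin 2) F :=
    QuotientGroup.mk' _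
  refine ⟨fun i => π (φ (xg i)), ?_⟩
  have h1 : FreeGroup.lift (fun i => π (φ (xg (F := F) i))) w =
      π (φ (FreeGroup.lift (fun i => xg (F := F) i) w)) := by
    rw [lift_map φ, lift_map π]
  have h2 : FreeGroup.lift (fun i => xg (F := F) i) w = ev L := by
    conv_lhs => rw [← FreeGroup.mk_toWord (x := w)]
    rw [FreeGroup.lift_mk]
    rfl
  rw [h1, h2]
  intro h3
  have h4 : φ (ev L) ∈ Subgroup.center (Matrix.SpecialLinearGroup (Fin 2) F) :=
    (QuotientGroup.eq_one_iff _).mp h3
  rw [Matrix.SpecialLinearGroup.mem_center_iff] at h4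
  obtain ⟨r, -, hr⟩ := h4
  have h5 := congrFun (congrFun hr 1) 0
  rw [Matrix.scalar_apply, Matrix.diagonal_apply_ne _ (by decide)] at h5
  apply ht
  exact h5.symm

end Cfsg.Agent.S2353
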