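import Cfsg.Statements.S2355
import Cfsg.Agent.S2353
import Cfsg.Agent.Lib.H12.LawE

set_option autoImplicit false
open Cfsg
open Cfsg.Agent.Lib.H12

namespace Cfsg.Agent.S2355

/-- A non-trivial law is satisfied by only finitely many finite simple groups that are alternating or classical, up to isomorphism: for every non-trivial element w of the free group on countably many generators there is a bound N such that every alternating group of degree ≥ 5 and every simple classical group (linear, symplectic, unitary or orthogonal, in this problem's sense) in which w is a law has order at most N. -/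
theorem result (w : FreeGroup ℕ) (hw : w ≠ 1) :
    ∃ N : ℕ, ∀ (G : Type*) [Group G] [Finite G],
      (Cfsg.IsAlternating G ∨ Cfsg.IsPSL G ∨ Cfsg.IsPSp G ∨ Cfsg.IsPSU G ∨ Cfsg.IsPOmegaOdd G ∨
          Cfsg.IsPOmegaPlus G ∨ Cfsg.IsPOmegaMinus G) →
      (∀ f : ℕ → G, FreeGroup.lift f w = 1) → Nat.card G ≤ N := by
  obtain ⟨N₀, hN₀⟩ := Cfsg.Agent.S2353.result w hw
  obtain ⟨p₀, hp₀, hp₀prime⟩ := Nat.exists_infinite_primes N₀
  have := Fact.mk hp₀prime
  -- the field bound
  have hfield : ∀ (K : Type) [Field K] [Fintype K],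
      Law.IsLaw w (Matrix.SpecialLinearGroup (Fin 2) K ⧸
        Subgroup.center (Matrix.SpecialLinearGroup (Fin 2) K)) → Fintype.card K < N₀ := by
    intro K _ _ hlaw
    by_contra hcon
    obtain ⟨f, hf⟩ := hN₀ K (not_lt.mp hcon)
    exact hf (hlaw f)
  obtain ⟨N₁, hN₁⟩ : ∃ N₁, N₁ = Nat.card (Matrix.SpecialLinearGroup (Fin 2) (ZMod p₀)) + 2 := ⟨_, rfl⟩
  have hB : Law.Bounds w N₀ N₁ := by
    refine ⟨hfield, ?_⟩
    intro m hlaw
    by_contra hcon
    obtain ⟨φ, hφ⟩ := Law.exists_injective_alt (Matrix.SpecialLinearGroup (Fin 2) (ZMod p₀)) m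
      (by omega)
    have h1 := hfield (ZMod p₀) (hlaw.center_quot φ hφ)
    rw [ZMod.card] at h1
    omega
  refine ⟨N₁.factorial + ((N₀ + 1) ^ 2) ^ ((2 * N₁ + 1) ^ 2), ?_⟩
  intro G _ _ hG hlaw
  have hL : Law.IsLaw w G := hlaw
  rcases hG with h | h | h | h | h | h | h
  · obtain ⟨n, -, ⟨e⟩⟩ := h
    rw [Nat.card_congr e.toEquiv]
    exact (Law.alt_le hB n (hL.of_mulEquiv e)).trans (Nat.le_add_right _ _)
  · obtain ⟨F, _, _, n, hn, -, ⟨e⟩⟩ := h
    rw [Nat.card_congr e.toEquiv]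
    exact (Law.psl_le hB F n hn (hL.of_mulEquiv e)).trans (Nat.le_add_left _ _)
  · obtain ⟨F, _, _, m, hm, -, ⟨e⟩⟩ := h
    rw [Nat.card_congr e.toEquiv]
    exact (Law.psp_le hB F m hm (hL.of_mulEquiv e)).trans (Nat.le_add_left _ _)
  · obtain ⟨F, _, _, n, q, hF, hn, -, ⟨e⟩⟩ := h
    rw [Nat.card_congr e.toEquiv]
    exact (Law.psu_le hB F n q hF (by omega) (hL.of_mulEquiv e)).trans (Nat.le_add_left _ _)
  · obtain ⟨F, _, _, m, hm, -, ⟨e⟩⟩ := h
    rw [Nat.card_congr e.toEquiv]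
    exact (Law.pomega_odd_le hB F m hm (hL.of_mulEquiv e)).trans (Nat.le_add_left _ _)
  · obtain ⟨F, _, _, m, hm, ⟨e⟩⟩ := h
    rw [Nat.card_congr e.toEquiv]
    exact (Law.pomega_plus_le hB F m (by omega) (hL.of_mulEquiv e)).trans (Nat.le_add_left _ _)
  · obtain ⟨F, _, _, m, a, b, hm, -, ⟨e⟩⟩ := h
    rw [Nat.card_congr e.toEquiv]
    exact (Law.pomega_minus_le hB F (m - 1) (by omega) a b (hL.of_mulEquiv e)).trans
      (Nat.le_add_left _ _)

end Cfsg.Agent.S2355
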