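import Cfsg.Statements.S2360
import Cfsg.Agent.Lib.H12.SU3Third

set_option autoImplicit false
open Cfsg

namespace Cfsg.Agent.S2360

/-- Let q be odd, F the field with q² elements and S = SU_3(F) (determinant-one isometries of the standard Hermitian form). Then all involutions of S are conjugate; there are exactly q²(q²−q+1) of them; the centralizer of an involution has order q(q+1)(q²−1), the order of the full unitary group of degree 2; and for two distinct commuting involutions t and x there is exactly one further involution commuting with both. -/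
theorem result {F : Type*} [Field F] [Fintype F] {q : ℕ} (hq : Odd q)
    (hF : Fintype.card F = q ^ 2) (t : ↥(Cfsg.SU 3 F q)) (ht : t ≠ 1) (ht2 : t * t = 1) :
    (∀ x : ↥(Cfsg.SU 3 F q), x ≠ 1 → x * x = 1 → ∃ g : ↥(Cfsg.SU 3 F q), g * t * g⁻¹ = x) ∧
    Nat.card {x : ↥(Cfsg.SU 3 F q) // x ≠ 1 ∧ x * x = 1} = q ^ 2 * (q ^ 2 - q + 1) ∧
    Nat.card ↥(Subgroup.centralizer ({t} : Set ↥(Cfsg.SU 3 F q))) = q * (q + 1) * (q ^ 2 - 1) ∧
    ∀ x : ↥(Cfsg.SU 3 F q), x ≠ 1 → x * x = 1 → x ≠ t → Commute t x →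
      Nat.card {y : ↥(Cfsg.SU 3 F q) // y ≠ 1 ∧ y * y = 1 ∧ y ≠ t ∧ y ≠ x ∧ Commute t y ∧ Commute x y} = 1 := by
  classical
  open Cfsg.Agent.Lib.H12.SU3Inv in
  refine ⟨fun x hx hx2 => conj_involutions hF hq t x ht ht2 hx hx2, card_inv hF hq,
    card_centralizer hF hq t ht ht2, ?_⟩
  intro x hx hx2 hxt ctx
  rw [Nat.card_eq_one_iff_unique]
  have ht1 : t⁻¹ = t := inv_eq_of_mul_eq_one_right ht2
  refine ⟨⟨?_⟩, ⟨⟨t * x, ?_, ?_, ?_, ?_, ?_, ?_⟩⟩⟩
  · rintro ⟨y, hy, hy2, hyt, hyx, cty, cxy⟩ ⟨y', hy', hy2', hyt', hyx', cty', cxy'⟩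
    apply Subtype.ext
    show y = y'
    rw [Cfsg.Agent.Lib.H12.SU3Inv.third_unique hF hq t x y ht ht2 hx hx2 hy hy2 hxt hyt hyx ctx cty cxy,
      Cfsg.Agent.Lib.H12.SU3Inv.third_unique hF hq t x y' ht ht2 hx hx2 hy' hy2' hxt hyt' hyx' ctx cty' cxy']
  · intro h
    apply hxt
    rw [← ht1]
    exact (inv_eq_of_mul_eq_one_right h).symm
  · calc t * x * (t * x) = t * (x * t) * x := by group
      _ = t * (t * x) * x := by rw [ctx.eq]
      _ = (t * t) * (x * x) := by group
      _ = 1 := by rw [ht2, hx2, one_mul]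
  · intro h
    apply hx
    exact mul_left_cancel (h.trans (mul_one t).symm)
  · intro h
    apply ht
    exact mul_right_cancel (h.trans (one_mul x).symm)
  · exact (Commute.refl t).mul_right ctx
  · exact ctx.symm.mul_right (Commute.refl x)

end Cfsg.Agent.S2360
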