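import Cfsg.Statements.S2363
import Cfsg.Agent.Lib.H4.LieOrd2
import Cfsg.Agent.Lib.H4.LieOrd3
import Cfsg.Agent.Lib.H4.LieOrd4
import Cfsg.Agent.Lib.H4.LieOrd5
import Cfsg.Agent.Lib.H4.LieOrd7

set_option autoImplicit false
open Cfsg

namespace Cfsg.Agent.S2363

open Cfsg.Agent.Lib.H4.LieOrd in
theorem transport {G H : Type*} [Group G] [Group H] (e : G ≃* H) {p k : ℕ}
    (h1 : (Nat.card H).factorization p = k) (h2 : Nat.card H < p ^ (3 * k))
    (h3 : Nat.card H ^ 3 < p ^ (8 * k)) (P : Prop) :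
    Nat.card G < p ^ (3 * (Nat.card G).factorization p) ∧
      (P → Nat.card G ^ 3 < p ^ (8 * (Nat.card G).factorization p)) := by
  rw [Nat.card_congr e.toEquiv, h1]
  exact ⟨h2, fun _ => h3⟩

open Cfsg.Agent.Lib.H4.LieOrd in
/-- Let G be a finite simple group of Lie type in characteristic p and let p^k be the exact power of p dividing the order of G. Then the order of G is less than p^(3k); and unless G is isomorphic to PSL(2, F) for the field F with p^k elements, the cube of the order of G is less than p^(8k) (that is, the order is below p^(8k/3)). -/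
theorem result {G : Type*} [Group G] [Finite G] (p : ℕ) (hp : p.Prime) (hG : Cfsg.IsLieTypeChar p G) :
    Nat.card G < p ^ (3 * (Nat.card G).factorization p) ∧
      ((¬ ∃ (F : Type) (_ : Field F) (_ : Fintype F), Fintype.card F = p ^ (Nat.card G).factorization p ∧
          Nonempty (G ≃* Matrix.ProjectiveSpecialLinearGroup (Fin 2) F)) →
        Nat.card G ^ 3 < p ^ (8 * (Nat.card G).factorization p)) := by
  rcases hG with h | h | h | h | h | h | h | h | h | h | h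
  · -- PSL
    obtain ⟨F, _, _, _, n, hn, hn2, ⟨e⟩⟩ := h
    obtain ⟨f, _, hF⟩ := FiniteField.card F p
    obtain ⟨k, rfl⟩ : ∃ k, n = k + 2 := ⟨n - 2, by omega⟩
    obtain ⟨r1, r2, r3⟩ := psl_bounds hp hF f.pos k
    rcases Nat.eq_zero_or_pos k with rfl | hk
    · rw [Nat.card_congr e.toEquiv, r1]
      refine ⟨r2, fun hne => absurd ?_ hne⟩
      refine ⟨F, inferInstance, inferInstance, ?_, ⟨e⟩⟩
      rw [hF]
      congr 1
      simp [Finset.sum_range_succ]
    · exact transport e r1 r2 (r3 hk) _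
  · -- PSp
    obtain ⟨F, _, _, _, m, hm, hm2, ⟨e⟩⟩ := h
    obtain ⟨f, _, hF⟩ := FiniteField.card F p
    obtain ⟨r1, r2, r3⟩ := psp_bounds hp hF f.pos m (by omega)
    exact transport e r1 r2 (r3 hm) _
  · -- PSU
    obtain ⟨F, _, _, _, n, q, hFq, hn, hne, ⟨e⟩⟩ := h
    obtain ⟨f, _, hF⟩ := FiniteField.card F p
    have hq2 : 2 ≤ q := by
      by_contra hlt
      have h1 : q ≤ 1 := by omega
      have h2 : q ^ 2 ≤ 1 ^ 2 := Nat.pow_le_pow_left h1 2
      have h3 := Fintype.one_lt_card (α := F)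
      omega
    obtain ⟨j, hj, hq⟩ := eq_pow_of_pow_eq hp (by norm_num) hq2 (hFq.symm.trans hF)
    obtain ⟨k, rfl⟩ : ∃ k, n = k + 2 := ⟨n - 2, by omega⟩
    obtain ⟨r1, r2, r3⟩ := psu_bounds hp hFq hq hj k
    exact transport e r1 r2 (r3 (by omega)) _
  · -- odd-dimensional orthogonal
    obtain ⟨F, _, _, _, m, hm, hodd, ⟨e⟩⟩ := h
    obtain ⟨f, _, hF⟩ := FiniteField.card F p
    obtain ⟨r1, r2, r3⟩ := pomega_odd_bounds hp hF f.pos (hF ▸ hodd) m hm
    exact transport e r1 r2 r3 _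
  · -- plus type
    obtain ⟨F, _, _, _, m, hm, ⟨e⟩⟩ := h
    obtain ⟨f, _, hF⟩ := FiniteField.card F p
    obtain ⟨r1, r2, r3⟩ := pomega_plus_bounds hp hF f.pos m hm
    exact transport e r1 r2 r3 _
  · -- minus type
    obtain ⟨F, _, _, _, m, a, b, hm, hab, ⟨e⟩⟩ := h
    obtain ⟨f, _, hF⟩ := FiniteField.card F p
    obtain ⟨r1, r2, r3⟩ := pomega_minus_bounds hp hF f.pos m hm a b hab
    exact transport e r1 r2 r3 _
  · -- untwisted exceptional
    obtain ⟨F, _, _, _, h⟩ := h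
    obtain ⟨f, _, hF⟩ := FiniteField.card F p
    rcases h with ⟨_, ⟨e⟩⟩ | ⟨⟨e⟩⟩ | ⟨⟨e⟩⟩ | ⟨⟨e⟩⟩ | ⟨⟨e⟩⟩
    · obtain ⟨r1, r2, r3⟩ := g2_bounds (F := F) hp hF f.pos
      exact transport e r1 r2 r3 _
    · obtain ⟨r1, r2, r3⟩ := f4_bounds (F := F) hp hF f.pos
      exact transport e r1 r2 r3 _
    · obtain ⟨r1, r2, r3⟩ := e6_bounds (F := F) hp hF f.pos
      exact transport e r1 r2 r3 _
    · obtain ⟨r1, r2, r3⟩ := e7_bounds (F := F) hp hF f.pos
      exact transport e r1 r2 r3 _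
    · obtain ⟨r1, r2, r3⟩ := e8_bounds (F := F) hp hF f.pos
      exact transport e r1 r2 r3 _
  · -- twisted E6, D4
    obtain ⟨K, _, _, _, q, hpp, h⟩ := h
    obtain ⟨f, _, hF⟩ := FiniteField.card K p
    rcases h with ⟨hK, ⟨e⟩⟩ | ⟨hK, ⟨e⟩⟩
    · obtain ⟨j, hj, hq⟩ := eq_pow_of_pow_eq hp (by norm_num) hpp.two_le (hK.symm.trans hF)
      obtain ⟨r1, r2, r3⟩ := tw_e6_bounds hp hK hq hj
      exact transport e r1 r2 r3 _
    · obtain ⟨j, hj, hq⟩ := eq_pow_of_pow_eq hp (by norm_num) hpp.two_le (hK.symm.trans hF)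
      obtain ⟨r1, r2, r3⟩ := tw_d4_bounds hp hK hq hj
      exact transport e r1 r2 r3 _
  · -- Suzuki
    obtain ⟨rfl, F, _, _, m, hm, hF, ⟨e⟩⟩ := h
    obtain ⟨r1, r2, r3⟩ := sz_bounds hm hF
    exact transport e r1 r2 r3 _
  · -- large Ree
    obtain ⟨rfl, K, _, _, m, hm, hK, ⟨e⟩⟩ := h
    obtain ⟨r1, r2, r3⟩ := tw_f4_bounds hK
    exact transport e r1 r2 r3 _
  · -- small Ree
    obtain ⟨rfl, K, _, _, m, hm, hK, ⟨e⟩⟩ := h
    obtain ⟨r1, r2, r3⟩ := tw_g2_bounds hK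
    exact transport e r1 r2 r3 _

end Cfsg.Agent.S2363
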