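import Cfsg.Statements.S2364
import Cfsg.Agent.Lib.H12.CommUnip3

set_option autoImplicit false
open Cfsg

namespace Cfsg.Agent.S2364

/-- Let F be a finite field of characteristic p, n ≥ 4, and let a, b be commuting elements of PSL(n, F) with a of order p. Then every prime divisor of the order of b divides the order of SL(n − 2, F). -/
theorem result {F : Type*} [Field F] [Fintype F] (p : ℕ) [Fact p.Prime] [CharP F p] (n : ℕ) (hn : 4 ≤ n)
    (a b : Matrix.ProjectiveSpecialLinearGroup (Fin n) F) (ha : orderOf a = p) (hab : Commute a b) :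
    (orderOf b).primeFactors ⊆ (Nat.card (Matrix.SpecialLinearGroup (Fin (n - 2)) F)).primeFactors := by
  classical
  intro r hr
  rw [Nat.mem_primeFactors] at hr ⊢
  obtain ⟨hrp, hrb, hb0⟩ := hr
  have hpp : p.Prime := Fact.out
  refine ⟨hrp, ?_, Nat.card_pos.ne'⟩
  by_cases hrp' : r = p
  · subst hrp'
    have h1 : r ∣ Fintype.card F :=
      (CharP.cast_eq_zero_iff F r (Fintype.card F)).1 (Nat.cast_card_eq_zero F)
    exact h1.trans (Cfsg.Agent.Lib.H12.CommUnip.card_dvd_card_SL (F := F) (n - 2) (by omega))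
  · have h2 : orderOf (b ^ (orderOf b / r)) = r := orderOf_pow_orderOf_div hb0 hrb
    exact Cfsg.Agent.Lib.H12.CommUnip.psl_main p hn a (b ^ (orderOf b / r)) ha
      (hab.pow_right _) r hrp h2 hrp'

end Cfsg.Agent.S2364
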