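import Cfsg.Statements.S2365
import Cfsg.Agent.Lib.H12.UCommE

set_option autoImplicit false
open Cfsg

namespace Cfsg.Agent.S2365

/-- Let q be a power of the prime p, F the field with q² elements, m ≥ 4, and let a, b be commuting elements of PSU(m, q) with a of order p. Then every prime divisor of the order of b divides the order of SU(m − 2, q). -/
theorem result {F : Type*} [Field F] [Fintype F] (p : ℕ) [Fact p.Prime] [CharP F p] (m q : ℕ) (hm : 4 ≤ m) (hF : Fintype.card F = q ^ 2)
    (a b : Cfsg.PSU m F q) (ha : orderOf a = p) (hab : Commute a b) :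
    (orderOf b).primeFactors ⊆ (Nat.card ↥(Cfsg.SU (m - 2) F q)).primeFactors := by
  classical
  intro r hr
  rw [Nat.mem_primeFactors] at hr ⊢
  obtain ⟨hrp, hrb, hb0⟩ := hr
  have hpp : p.Prime := Fact.out
  refine ⟨hrp, ?_, Nat.card_pos.ne'⟩
  by_cases hrp' : r = p
  · subst hrp'
    have h1 : r ∣ Fintype.card F :=
      (CharP.cast_eq_zero_iff F r (Fintype.card F)).1 (Nat.cast_card_eq_zero F)
    rw [hF] at h1
    have h2 : r ∣ q := hrp.dvd_of_dvd_pow h1
    rw [Cfsg.Agent.Lib.H12.UComm.card_SU_eq hF (m - 2) (by omega)]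
    apply Dvd.dvd.mul_right
    refine h2.trans (dvd_pow_self q ?_)
    have h3 : 2 ≤ (m - 2) * (m - 2 - 1) := by
      have h4 : 2 ≤ m - 2 := by omega
      have h5 : 1 ≤ m - 2 - 1 := by omega
      calc 2 = 2 * 1 := by norm_num
        _ ≤ (m - 2) * (m - 2 - 1) := Nat.mul_le_mul h4 h5
    have h6 : 1 ≤ (m - 2) * (m - 2 - 1) / 2 := by
      rw [Nat.le_div_iff_mul_le (by norm_num)]
      omega
    omega
  · have h2 : orderOf (b ^ (orderOf b / r)) = r := orderOf_pow_orderOf_div hb0 hrb
    exact Cfsg.Agent.Lib.H12.UComm.psu_main p hm hF a (b ^ (orderOf b / r)) ha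
      (hab.pow_right _) r hrp h2 hrp'

end Cfsg.Agent.S2365
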