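import Cfsg.Statements.S2367
-- import your own Cfsg.Agent.* helpers here

set_option autoImplicit false
open Cfsg

namespace Cfsg.Agent.S2367

theorem spor_aux (N : ℕ) (L : List ℕ) (hL : N.primeFactorsList = L)
    (hchk : ∀ q ∈ L, q ≠ 2 → L.count q = 3 → q ^ 3 < 2 ^ L.count 2)
    (p : ℕ) (hodd : p ≠ 2) (h3 : N.factorization p = 3) :
    p ^ 3 < 2 ^ N.factorization 2 := by
  have hc : ∀ q, L.count q = N.factorization q := fun q => by
    rw [← hL]; exact Nat.primeFactorsList_count_eq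
  rw [← hc] at h3 ⊢
  have hmem : p ∈ L := List.count_pos_iff.mp (by omega)
  exact hchk p hmem hodd h3

theorem pow_aux : ∀ p : ℕ, 5 ≤ p → p ^ 3 < 2 ^ (2 * p - 1) := by
  intro p hp
  induction p, hp using Nat.le_induction with
  | base => norm_num
  | succ p hp ih =>
    have e : 2 * (p + 1) - 1 = (2 * p - 1) + 2 := by omega
    rw [e, pow_add]
    have h1 : (p + 1) ^ 3 ≤ 4 * p ^ 3 := by nlinarith [sq_nonneg p, mul_pos (show 0 < p by omega) (show 0 < p by omega)]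
    nlinarith

theorem alt_aux (n : ℕ) (hn : 5 ≤ n) (p : ℕ) (hp : p.Prime) (hodd : p ≠ 2)
    (h3 : (Nat.card (alternatingGroup (Fin n))).factorization p = 3) :
    p ^ 3 < 2 ^ (Nat.card (alternatingGroup (Fin n))).factorization 2 := by
  have : Nontrivial (Fin n) := Fin.nontrivial_iff_two_le.mpr (by omega)
  have : Fact p.Prime := ⟨hp⟩
  have : Fact (Nat.Prime 2) := ⟨Nat.prime_two⟩
  set A := Nat.card (alternatingGroup (Fin n)) with hAdef
  have hA : 2 * A = n.factorial := by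
    rw [hAdef, two_mul_nat_card_alternatingGroup, Nat.card_perm, Nat.card_eq_fintype_card, Fintype.card_fin]
  have hA0 : A ≠ 0 := by
    intro h0; rw [h0] at hA; exact (Nat.factorial_pos n).ne' hA.symm
  have hfac : (n.factorial).factorization = (2 : ℕ).factorization + A.factorization := by
    rw [← hA, Nat.factorization_mul two_ne_zero hA0]
  have hp_fac : (n.factorial).factorization p = 3 := by
    rw [hfac, Finsupp.add_apply, h3, Nat.Prime.factorization Nat.prime_two, Finsupp.single_apply,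
      if_neg (Ne.symm hodd)]
  have h2_fac : (n.factorial).factorization 2 = 1 + A.factorization 2 := by
    rw [hfac, Finsupp.add_apply, Nat.Prime.factorization Nat.prime_two, Finsupp.single_apply, if_pos rfl]
  rw [Nat.factorization_def _ hp] at hp_fac
  rw [Nat.factorization_def _ Nat.prime_two] at h2_fac
  -- the p-part
  have e1 : padicValNat p (n.factorial) = padicValNat p ((n / p).factorial) + n / p := by
    rw [← padicValNat_mul_div_factorial n, padicValNat_factorial_mul]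
  rw [e1] at hp_fac
  have hp2 : 2 ≤ p := hp.two_le
  have hk3 : n / p = 3 ∧ p ≠ 3 := by
    obtain ⟨k, hkdef⟩ : ∃ k, n / p = k := ⟨_, rfl⟩
    rw [hkdef] at hp_fac ⊢
    have hk : k ≤ 3 := by omega
    rcases Nat.lt_or_ge k 3 with hlt | hge
    · exfalso
      have hcases : k = 0 ∨ k = 1 ∨ k = 2 := by omega
      rcases hcases with h | h | h
      · rw [h] at hp_fac; simp at hp_fac
      · rw [h] at hp_fac; simp at hp_fac
      · rw [h] at hp_fac
        have : padicValNat p (Nat.factorial 2) = 0 := by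
          apply padicValNat.eq_zero_of_not_dvd
          intro hd
          have : p ∣ 2 := by simpa using hd
          exact hodd ((Nat.prime_dvd_prime_iff_eq hp Nat.prime_two).mp this)
        omega
    · have h3' : k = 3 := le_antisymm hk hge
      refine ⟨h3', ?_⟩
      rintro rfl
      rw [h3'] at hp_fac
      have : padicValNat 3 (Nat.factorial 3) = 1 := by
        have e : Nat.factorial 3 = 3 * 2 := by decide
        rw [e, padicValNat.mul (by norm_num) (by norm_num), padicValNat_self,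
          padicValNat.eq_zero_of_not_dvd (by norm_num)]
      omega
  obtain ⟨hk3, hp3⟩ := hk3
  have hp5 : 5 ≤ p := by
    rcases Nat.lt_or_ge p 5 with hlt | hge
    · exfalso
      have : p = 2 ∨ p = 3 ∨ p = 4 := by omega
      rcases this with h | h | h
      · exact hodd h
      · exact hp3 h
      · rw [h] at hp; exact absurd hp (by norm_num)
    · exact hge
  have hn3p : 3 * p ≤ n := by
    have := Nat.div_mul_le_self n p
    rw [hk3] at this; omega
  -- the 2-part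
  have e2 : padicValNat 2 (n.factorial) = padicValNat 2 ((n / 2).factorial) + n / 2 := by
    rw [← padicValNat_mul_div_factorial n, padicValNat_factorial_mul]
  have e3 : padicValNat 2 ((n / 2).factorial) = padicValNat 2 ((n / 2 / 2).factorial) + n / 2 / 2 := by
    rw [← padicValNat_mul_div_factorial (n / 2), padicValNat_factorial_mul]
  have hge : 2 * p - 1 ≤ A.factorization 2 := by omega
  calc p ^ 3 < 2 ^ (2 * p - 1) := pow_aux p hp5
    _ ≤ 2 ^ A.factorization 2 := Nat.pow_le_pow_right (by norm_num) hge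

set_option maxRecDepth 100000 in
/-- Let G be an alternating group of degree at least 5 or a simple group with the order of one of the 26 sporadic groups, and let p be an odd prime such that p³ is the exact power of p dividing the order of G. Then p³ is less than the 2-part of the order of G. -/
theorem result {G : Type*} [Group G] [Finite G] (hG : Cfsg.IsAlternating G ∨ Cfsg.IsSporadic G)
    (p : ℕ) (hp : p.Prime) (hodd : p ≠ 2) (h3 : (Nat.card G).factorization p = 3) :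
    p ^ 3 < 2 ^ (Nat.card G).factorization 2 := by
  rcases hG with ⟨n, hn, ⟨e⟩⟩ | hS
  · have hc : Nat.card G = Nat.card (alternatingGroup (Fin n)) := Nat.card_congr e.toEquiv
    rw [hc] at h3 ⊢
    exact alt_aux n hn p hp hodd h3
  · unfold Cfsg.IsSporadic at hS
    rcases hS with ⟨-, hc⟩ | ⟨-, hc⟩ | ⟨-, hc⟩ | ⟨-, hc⟩ | ⟨-, hc⟩ | ⟨-, hc⟩ | ⟨-, hc⟩ | ⟨-, hc⟩ | ⟨-, hc⟩ | ⟨-, hc⟩ | ⟨-, hc⟩ | ⟨-, hc⟩ | ⟨-, hc⟩ | ⟨-, hc⟩ | ⟨-, hc⟩ | ⟨-, hc⟩ | ⟨-, hc⟩ | ⟨-, hc⟩ | ⟨-, hc⟩ | ⟨-, hc⟩ | ⟨-, hc⟩ | ⟨-, hc⟩ | ⟨-, hc⟩ | ⟨-, hc⟩ | ⟨-, hc⟩ | ⟨-, hc⟩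
    · rw [hc] at h3 ⊢
      exact spor_aux _ [2,2,2,2,3,3,5,11] (by simp) (by decide) p hodd h3
    · rw [hc] at h3 ⊢
      exact spor_aux _ [2,2,2,2,2,2,3,3,3,5,11] (by simp) (by decide) p hodd h3
    · rw [hc] at h3 ⊢
      exact spor_aux _ [2,2,2,2,2,2,2,3,3,5,7,11] (by simp) (by decide) p hodd h3
    · rw [hc] at h3 ⊢
      exact spor_aux _ [2,2,2,2,2,2,2,3,3,5,7,11,23] (by simp) (by decide) p hodd h3
    · rw [hc] at h3 ⊢
      exact spor_aux _ [2,2,2,2,2,2,2,2,2,2,3,3,3,5,7,11,23] (by simp) (by decide) p hodd h3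
    · rw [hc] at h3 ⊢
      exact spor_aux _ [2,2,2,3,5,7,11,19] (by simp) (by decide) p hodd h3
    · rw [hc] at h3 ⊢
      exact spor_aux _ [2,2,2,2,2,2,2,3,3,3,5,5,7] (by simp) (by decide) p hodd h3
    · rw [hc] at h3 ⊢
      exact spor_aux _ [2,2,2,2,2,2,2,3,3,3,3,3,5,17,19] (by simp) (by decide) p hodd h3
    · rw [hc] at h3 ⊢
      exact spor_aux _ [2,2,2,2,2,2,2,2,2,2,2,2,2,2,2,2,2,2,2,2,2,3,3,3,5,7,11,11,11,23,29,31,37,43] (by simp) (by decide) p hodd h3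
    · rw [hc] at h3 ⊢
      exact spor_aux _ [2,2,2,2,2,2,2,2,2,2,2,2,2,2,2,2,2,2,2,2,2,3,3,3,3,3,3,3,3,3,5,5,5,5,7,7,11,13,23] (by simp) (by decide) p hodd h3
    · rw [hc] at h3 ⊢
      exact spor_aux _ [2,2,2,2,2,2,2,2,2,2,2,2,2,2,2,2,2,2,3,3,3,3,3,3,5,5,5,7,11,23] (by simp) (by decide) p hodd h3
    · rw [hc] at h3 ⊢
      exact spor_aux _ [2,2,2,2,2,2,2,2,2,2,3,3,3,3,3,3,3,5,5,5,7,11,23] (by simp) (by decide) p hodd h3
    · rw [hc] at h3 ⊢
      exact spor_aux _ [2,2,2,2,2,2,2,2,2,2,2,2,2,2,2,2,2,3,3,3,3,3,3,3,3,3,5,5,7,11,13] (by simp) (by decide) p hodd h3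
    · rw [hc] at h3 ⊢
      exact spor_aux _ [2,2,2,2,2,2,2,2,2,2,2,2,2,2,2,2,2,2,3,3,3,3,3,3,3,3,3,3,3,3,3,5,5,7,11,13,17,23] (by simp) (by decide) p hodd h3
    · rw [hc] at h3 ⊢
      exact spor_aux _ [2,2,2,2,2,2,2,2,2,2,2,2,2,2,2,2,2,2,2,2,2,3,3,3,3,3,3,3,3,3,3,3,3,3,3,3,3,5,5,7,7,7,11,13,17,23,29] (by simp) (by decide) p hodd h3
    · rw [hc] at h3 ⊢
      exact spor_aux _ [2,2,2,2,2,2,2,2,2,3,3,5,5,5,7,11] (by simp) (by decide) p hodd h3
    · rw [hc] at h3 ⊢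
      exact spor_aux _ [2,2,2,2,2,2,2,3,3,3,3,3,3,5,5,5,7,11] (by simp) (by decide) p hodd h3
    · rw [hc] at h3 ⊢
      exact spor_aux _ [2,2,2,2,2,2,2,2,2,2,3,3,3,5,5,7,7,7,17] (by simp) (by decide) p hodd h3
    · rw [hc] at h3 ⊢
      exact spor_aux _ [2,2,2,2,2,2,2,2,2,2,2,2,2,2,3,3,3,5,5,5,7,13,29] (by simp) (by decide) p hodd h3
    · rw [hc] at h3 ⊢
      exact spor_aux _ [2,2,2,2,2,2,2,2,2,2,2,2,2,3,3,3,3,3,3,3,5,5,7,11,13] (by simp) (by decide) p hodd h3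
    · rw [hc] at h3 ⊢
      exact spor_aux _ [2,2,2,2,2,2,2,2,2,3,3,3,3,5,7,7,7,11,19,31] (by simp) (by decide) p hodd h3
    · rw [hc] at h3 ⊢
      exact spor_aux _ [2,2,2,2,2,2,2,2,2,2,2,2,2,2,3,3,3,3,3,3,5,5,5,5,5,5,7,11,19] (by simp) (by decide) p hodd h3
    · rw [hc] at h3 ⊢
      exact spor_aux _ [2,2,2,2,2,2,2,2,3,3,3,3,3,3,3,5,5,5,5,5,5,7,11,31,37,67] (by simp) (by decide) p hodd h3
    · rw [hc] at h3 ⊢
      exact spor_aux _ [2,2,2,2,2,2,2,2,2,2,2,2,2,2,2,3,3,3,3,3,3,3,3,3,3,5,5,5,7,7,13,19,31] (by simp) (by decide) p hodd h3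
    · rw [hc] at h3 ⊢
      exact spor_aux _ [2,2,2,2,2,2,2,2,2,2,2,2,2,2,2,2,2,2,2,2,2,2,2,2,2,2,2,2,2,2,2,2,2,2,2,2,2,2,2,2,2,3,3,3,3,3,3,3,3,3,3,3,3,3,5,5,5,5,5,5,7,7,11,13,17,19,23,31,47] (by simp) (by decide) p hodd h3
    · rw [hc] at h3 ⊢
      exact spor_aux _ [2,2,2,2,2,2,2,2,2,2,2,2,2,2,2,2,2,2,2,2,2,2,2,2,2,2,2,2,2,2,2,2,2,2,2,2,2,2,2,2,2,2,2,2,2,2,3,3,3,3,3,3,3,3,3,3,3,3,3,3,3,3,3,3,3,3,5,5,5,5,5,5,5,5,5,7,7,7,7,7,7,11,11,13,13,13,17,19,23,29,31,41,47,59,71] (by simp) (by decide) p hodd h3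

end Cfsg.Agent.S2367
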