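import Cfsg.Statements.S2368
import Cfsg.Agent.Lib.H12.Unipotent

set_option autoImplicit false
open Cfsg

namespace Cfsg.Agent.S2368

open Cfsg.Agent.Lib.H12

theorem pow_clog_lt (p m : ℕ) (hp : 2 ≤ p) (hm : 1 ≤ m) : p ^ Nat.clog p m < p * m := by
  rcases Nat.lt_or_ge m 2 with h | h
  · have : m = 1 := by omega
    subst this
    simp; omega
  · have h1 := Nat.pow_pred_clog_lt_self (b := p) (x := m) (by omega) (by omega)
    have h2 : 0 < Nat.clog p m := Nat.clog_pos (by omega) h
    have e : Nat.clog p m = (Nat.clog p m).pred + 1 := by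
      rw [Nat.pred_eq_sub_one]; omega
    rw [e, pow_succ, mul_comm]
    exact Nat.mul_lt_mul_of_pos_left h1 (by omega)

/-- Let F be a finite field of characteristic p and m ≥ 1. Every element of GL(m, F) of p-power order has order less than p·m, and GL(m, F) has an element of p-power order at least m; so the largest order of a p-element of GL(m, F) is the least power of p that is at least m. -/
theorem result {F : Type*} [Field F] [Fintype F] (p : ℕ) [Fact p.Prime] [CharP F p] (m : ℕ) (hm : 1 ≤ m) :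
    (∀ g : Matrix.GeneralLinearGroup (Fin m) F, (∃ j : ℕ, orderOf g = p ^ j) → orderOf g < p * m) ∧
      ∃ g : Matrix.GeneralLinearGroup (Fin m) F, (∃ j : ℕ, orderOf g = p ^ j) ∧ m ≤ orderOf g := by
  have hp : p.Prime := Fact.out
  have hp2 : 2 ≤ p := hp.two_le
  have hclog : m ≤ p ^ Nat.clog p m := Nat.le_pow_clog (by omega) m
  constructor
  · rintro g ⟨j, hj⟩
    have h1 : (g : Matrix (Fin m) (Fin m) F) ^ p ^ j = 1 := by
      rw [← hj, ← Units.val_pow_eq_pow_val, pow_orderOf_eq_one, Units.val_one]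
    have h2 : ((g : Matrix (Fin m) (Fin m) F) - 1) ^ m = 0 := by
      have := sub_one_pow_card_eq_zero p (g : Matrix (Fin m) (Fin m) F) j h1
      simpa using this
    have h3 : (g : Matrix (Fin m) (Fin m) F) ^ p ^ Nat.clog p m = 1 :=
      pow_char_pow_eq_one_of_sub_one_pow p _ m _ h2 hclog
    have h4 : g ^ p ^ Nat.clog p m = 1 := by
      apply Units.ext
      rw [Units.val_pow_eq_pow_val, h3, Units.val_one]
    have h5 : orderOf g ∣ p ^ Nat.clog p m := orderOf_dvd_of_pow_eq_one h4
    have h6 : orderOf g ≤ p ^ Nat.clog p m := Nat.le_of_dvd (pow_pos (by omega) _) h5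
    exact lt_of_le_of_lt h6 (pow_clog_lt p m hp2 hm)
  · have hnil : IsNilpotent (shiftMatrix (F := F) m) := ⟨m, shiftMatrix_pow_eq_zero m⟩
    obtain ⟨g, hg⟩ := hnil.isUnit_one_add
    have h3 : (g : Matrix (Fin m) (Fin m) F) ^ p ^ Nat.clog p m = 1 := by
      rw [hg, one_add_pow_char_pow, pow_eq_zero_of_le hclog (shiftMatrix_pow_eq_zero m), add_zero]
    have h4 : g ^ p ^ Nat.clog p m = 1 := by
      apply Units.ext
      rw [Units.val_pow_eq_pow_val, h3, Units.val_one]
    have h5 : orderOf g ∣ p ^ Nat.clog p m := orderOf_dvd_of_pow_eq_one h4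
    obtain ⟨j, -, hj⟩ := (Nat.dvd_prime_pow hp).mp h5
    refine ⟨g, ⟨j, hj⟩, ?_⟩
    by_contra hlt
    rw [not_le] at hlt
    have h6 : (g : Matrix (Fin m) (Fin m) F) ^ p ^ j = 1 := by
      rw [← hj, ← Units.val_pow_eq_pow_val, pow_orderOf_eq_one, Units.val_one]
    rw [hg, one_add_pow_char_pow] at h6
    have h7 : shiftMatrix (F := F) m ^ p ^ j = 0 := by
      have := congrArg (fun X => X - 1) h6
      simpa using this
    rw [hj] at hlt
    exact shiftMatrix_pow_ne_zero m _ hlt h7

end Cfsg.Agent.S2368
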