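import Cfsg.Statements.S2371
import Cfsg.Agent.Lib.H29.G2SingJ

set_option autoImplicit false
open Cfsg

namespace Cfsg.Agent.S2371

open Cfsg.Lie Matrix Cfsg.Agent.Lib.H29.Chev Cfsg.Agent.Lib.H29.G2Inv Cfsg.Agent.Lib.H29.G2Sing

/-- The group G₂(q), q ≥ 3, contains a cyclic subgroup of order q² + q + 1 which is its own centralizer. -/
theorem result {F : Type*} [Field F] [Fintype F] (q : ℕ) (hF : Fintype.card F = q) (hq : 3 ≤ q) :
    ∃ H : Subgroup ↥(Cfsg.Lie.chevG2.group F), IsCyclic ↥H ∧ Nat.card ↥H = q ^ 2 + q + 1 ∧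
      Subgroup.centralizer (H : Set ↥(Cfsg.Lie.chevG2.group F)) = H := by
  classical
  obtain ⟨K, iK, ⟨S⟩⟩ := exists_singerData F q hF (by omega)
  obtain ⟨c, a, Q, h1, h2, h3⟩ := S.exists_singer_matrices (by omega)
  set sG : ↥(chevG2.group F) := ⟨rho F c, rho_mem_group c⟩ with hsG
  -- the order of the Singer element
  have hord : orderOf sG = q ^ 2 + q + 1 := by
    rw [← Subgroup.orderOf_coe, ← S.hlam]
    show orderOf (rho F c) = orderOf S.lam
    rw [orderOf_eq_orderOf_iff]
    intro n
    have hb : bc chevG2 S.ι ((rho F c) ^ n) =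
        rho K a * ((rho K).comp (torHom K q)) (S.lam ^ n) * (rho K a)⁻¹ := by
      rw [map_pow, bc_rho, h1, map_mul, map_mul, map_inv, conj_pow, map_pow, MonoidHom.comp_apply, torHom_apply]
    constructor
    · intro h
      rw [h, map_one] at hb
      have h5 : ((rho K).comp (torHom K q)) (S.lam ^ n) = 1 := by
        have : ((rho K).comp (torHom K q)) (S.lam ^ n) =
            (rho K a)⁻¹ * (rho K a * ((rho K).comp (torHom K q)) (S.lam ^ n) * (rho K a)⁻¹) * rho K a := by
          group
        rw [this, ← hb]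
        group
      apply rho_torHom_injective q
      rw [h5, map_one]
    · intro h
      rw [h, map_one, mul_one, mul_inv_cancel] at hb
      apply bc_injective (D := chevG2) S.ι
      rw [hb, map_one]
  -- the centraliser
  set C := Subgroup.centralizer ({sG} : Set ↥(chevG2.group F)) with hC
  have hHC : Subgroup.zpowers sG ≤ C := by
    rw [Subgroup.zpowers_le]
    intro x hx
    rw [Set.mem_singleton_iff] at hx
    rw [hx]
  have hex : ∀ g : C, ∃ e : Kˣ, e ^ (q ^ 2 + q + 1) = 1 ∧
      bc chevG2 S.ι (g.1.1) = rho K a * rho K (torHom K q e) * (rho K a)⁻¹ := by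
    intro g
    apply S.cent_form hq c a Q h1 h2 h3 g.1.1 g.1.2
    have := g.2 sG rfl
    have h' := congrArg Subtype.val this
    exact h'.symm
  choose f hf1 hf2 using hex
  have hinj : Function.Injective (fun g : C => (⟨f g, (mem_rootsOfUnity _ _).mpr (hf1 g)⟩ :
      rootsOfUnity (q ^ 2 + q + 1) K)) := by
    intro g g' h
    have h' : f g = f g' := congrArg Subtype.val h
    have : bc chevG2 S.ι (g.1.1) = bc chevG2 S.ι (g'.1.1) := by
      rw [hf2 g, hf2 g', h']
    exact Subtype.ext (Subtype.ext (bc_injective (D := chevG2) S.ι this))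
  have hcardC : Nat.card C ≤ q ^ 2 + q + 1 :=
    (Nat.card_le_card_of_injective _ hinj).trans (card_rootsOfUnity (R := K) (k := q ^ 2 + q + 1))
  have hcardH : Nat.card (Subgroup.zpowers sG) = q ^ 2 + q + 1 := by
    rw [Nat.card_zpowers, hord]
  have hEq : Subgroup.zpowers sG = C := Subgroup.eq_of_le_of_card_ge hHC (by rw [hcardH]; exact hcardC)
  refine ⟨Subgroup.zpowers sG, inferInstance, hcardH, ?_⟩
  rw [Subgroup.zpowers_eq_closure, Subgroup.centralizer_closure, ← Subgroup.zpowers_eq_closure, hEq]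

end Cfsg.Agent.S2371
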