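import Cfsg.Statements.S2372
-- import your own Cfsg.Agent.* helpers here
import Cfsg.Agent.Lib.H29.F4SingH

set_option autoImplicit false
open Cfsg

namespace Cfsg.Agent.S2372

open Cfsg.Lie Matrix Cfsg.Agent.Lib.H29.Chev Cfsg.Agent.Lib.H29.F4Sing in
/-- The group F₄(q) contains a cyclic subgroup of order q⁴ + 1 which is its own centralizer. -/
theorem result {F : Type*} [Field F] [Fintype F] (q : ℕ) (hF : Fintype.card F = q) :
    ∃ H : Subgroup ↥(Cfsg.Lie.chevF4.group F), IsCyclic ↥H ∧ Nat.card ↥H = q ^ 4 + 1 ∧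
      Subgroup.centralizer (H : Set ↥(Cfsg.Lie.chevF4.group F)) = H := by
  obtain ⟨S⟩ := exists_f4Tor q hF
  set K := AlgebraicClosure F with hK
  set X : ↥(chevF4.group F) := ⟨S.X, S.hX⟩ with hX
  set H : Subgroup ↥(chevF4.group F) := Subgroup.centralizer {X} with hH
  -- every element of `H` descends to the diagonal torus
  have hdesc : ∀ h : ↥(chevF4.group F), h ∈ H → Desc S.φ S.n (S.cj (h : GL chevF4.Idx F)) := by
    intro h hh
    have hc : S.X * (h : GL chevF4.Idx F) = (h : GL chevF4.Idx F) * S.X := by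
      have := Subgroup.mem_centralizer_iff.mp hh X (Set.mem_singleton X)
      exact congrArg Subtype.val this
    exact S.desc_of_diag _ (S.cent_cj _ h.2 hc)
  -- the character
  let f : ↥H →* K :=
    { toFun := fun h => dE chevF4 (S.cj ((h : ↥(chevF4.group F)) : GL chevF4.Idx F)) 40
      map_one' := by
        show dE chevF4 (S.cj (((1 : ↥H) : ↥(chevF4.group F)) : GL chevF4.Idx F)) 40 = 1
        rw [Subgroup.coe_one, Subgroup.coe_one, map_one, cert12_F4.dE_one]
      map_mul' := by
        intro h1 h2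
        show dE chevF4 (S.cj (((h1 * h2 : ↥H) : ↥(chevF4.group F)) : GL chevF4.Idx F)) 40 = _
        rw [Subgroup.coe_mul, Subgroup.coe_mul, map_mul,
          cert12_F4.dE_mul _ _ (hdesc _ h1.2).1 (hdesc _ h2.2).1 40 (by decide)] }
  have hf1 : ∀ h : ↥H, f h = 1 → h = 1 := by
    intro h hh
    have e1 := desc_eq_one S.φ q S.hφ S.n S.L.hn S.L.hπ _ (hdesc _ h.2) hh
    have e2 : ((h : ↥(chevF4.group F)) : GL chevF4.Idx F) = 1 := S.cj_injective (by rw [e1, map_one])
    apply Subtype.ext
    apply Subtype.ext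
    exact e2
  have hf : Function.Injective f := by
    intro h1 h2 h12
    have e : f (h1⁻¹ * h2) = 1 := by
      rw [map_mul, ← h12, ← map_mul, inv_mul_cancel, map_one]
    have := hf1 _ e
    exact inv_mul_eq_one.mp this
  have hcyc : IsCyclic ↥H := isCyclic_of_injective_ringHom f hf
  -- the element `X` of `H`
  have hXH : X ∈ H := Subgroup.mem_centralizer_iff.mpr (fun y hy => by rw [Set.mem_singleton_iff.mp hy])
  have hfX : f ⟨X, hXH⟩ = (S.z0 : K) := by
    show dE chevF4 (S.cj S.X) 40 = _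
    rw [S.cj_X, S.hz0]
  have hoX : orderOf (⟨X, hXH⟩ : ↥H) = q ^ 4 + 1 := by
    rw [← orderOf_injective f hf, hfX, orderOf_units, S.ho]
  -- the order of `H`
  have hpow : ∀ h : ↥H, h ^ (q ^ 4 + 1) = 1 := by
    intro h
    apply hf
    rw [map_pow, map_one]
    have hne : f h ≠ 0 := cert12_F4.dE_ne_zero _ (hdesc _ h.2).1 40 (by decide)
    obtain ⟨_, hN⟩ := desc_zpow S.φ q S.hφ S.n S.L.hn S.L.hπ _ (hdesc _ h.2) (Units.mk0 (f h) hne) rfl
    have hNq : Nq (q : ℤ) = ((q ^ 4 + 1 : ℕ) : ℤ) := by unfold Nq; push_cast; ring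
    rw [hNq, zpow_natCast] at hN
    have := congrArg Units.val hN
    rwa [Units.val_pow_eq_pow_val, Units.val_mk0, Units.val_one] at this
  have hcard : Nat.card ↥H = q ^ 4 + 1 := by
    apply Nat.dvd_antisymm
    · rw [← IsCyclic.exponent_eq_card]
      exact Monoid.exponent_dvd_of_forall_pow_eq_one hpow
    · rw [← hoX]
      exact orderOf_dvd_natCard _
  refine ⟨H, hcyc, hcard, ?_⟩
  -- `H` is its own centraliser
  apply le_antisymm
  · intro g hg
    rw [hH]
    apply Subgroup.mem_centralizer_iff.mpr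
    intro y hy
    rw [Set.mem_singleton_iff.mp hy]
    exact Subgroup.mem_centralizer_iff.mp hg X hXH
  · intro g hg
    apply Subgroup.mem_centralizer_iff.mpr
    intro y hy
    have e : f (⟨y, hy⟩ * ⟨g, hg⟩) = f (⟨g, hg⟩ * ⟨y, hy⟩) := by
      rw [map_mul, map_mul, mul_comm]
    have := hf e
    exact congrArg Subtype.val this

end Cfsg.Agent.S2372
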