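import Cfsg.Statements.S2376
-- import your own Cfsg.Agent.* helpers here
import Cfsg.Agent.Lib.H29.D4SingL

set_option autoImplicit false
open Cfsg
namespace Cfsg.Agent.S2376
open Cfsg.Lie Matrix Cfsg.Agent.Lib.H29.Chev Cfsg.Agent.Lib.H29.D4Sing in
/-- The group ³D₄(q) contains a cyclic subgroup of order (q³ − 1)(q + 1) which is its own centralizer. -/
theorem result {K : Type*} [Field K] [Fintype K] (q : ℕ) (hq : IsPrimePow q) (hK : Fintype.card K = q ^ 3) :
    ∃ H : Subgroup ↥(Cfsg.Lie.twistedD4 K q), IsCyclic ↥H ∧ Nat.card ↥H = (q ^ 3 - 1) * (q + 1) ∧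
      Subgroup.centralizer (H : Set ↥(Cfsg.Lie.twistedD4 K q)) = H := by
  obtain ⟨K', iF, iFt, ⟨S⟩⟩ := exists_d4Field q hq hK
  have hG : twistedD4 K q = G1 S.φ := twistedD4_eq S.φ q S.hφ
  obtain ⟨x, hx, hxd, a1, h1, ho⟩ := S.exists_x
  have hxG : x ∈ twistedD4 K q := by rw [hG]; exact hx
  set X : ↥(twistedD4 K q) := ⟨x, hxG⟩ with hX
  set H : Subgroup ↥(twistedD4 K q) := Subgroup.centralizer {X} with hH
  -- every element of `H` descends to the diagonal torus
  have hdesc : ∀ h : ↥(twistedD4 K q), h ∈ H → S.Desc (S.cj (h : GL chevD4.Idx K)) := by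
    intro h hh
    have hgG : (h : GL chevD4.Idx K) ∈ G1 S.φ := by rw [← hG]; exact h.2
    have hc : x * (h : GL chevD4.Idx K) = (h : GL chevD4.Idx K) * x := by
      have := Subgroup.mem_centralizer_iff.mp hh X (Set.mem_singleton X)
      exact congrArg Subtype.val this
    exact S.desc_of_diag _ hgG (S.cent_desc x hx hxd a1 h1 ho _ hgG hc)
  -- the character
  let f : ↥H →* K' :=
    { toFun := fun h => dE chevD4 (S.cj ((h : ↥(twistedD4 K q)) : GL chevD4.Idx K)) 18
      map_one' := by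
        show dE chevD4 (S.cj (((1 : ↥H) : ↥(twistedD4 K q)) : GL chevD4.Idx K)) 18 = 1
        rw [Subgroup.coe_one, Subgroup.coe_one, map_one, cert12_D4.dE_one]
      map_mul' := by
        intro h1 h2
        show dE chevD4 (S.cj (((h1 * h2 : ↥H) : ↥(twistedD4 K q)) : GL chevD4.Idx K)) 18 = _
        rw [Subgroup.coe_mul, Subgroup.coe_mul, map_mul,
          cert12_D4.dE_mul _ _ (hdesc _ h1.2).1 (hdesc _ h2.2).1 18 (by decide)] }
  have hf1 : ∀ h : ↥H, f h = 1 → h = 1 := by
    intro h hh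
    have e1 := S.desc_eq_one _ (hdesc _ h.2) hh
    have e2 : ((h : ↥(twistedD4 K q)) : GL chevD4.Idx K) = 1 := S.cj_injective (by rw [e1, map_one])
    apply Subtype.ext
    apply Subtype.ext
    exact e2
  have hf : Function.Injective f := by
    intro h1 h2 h12
    have e : f (h1⁻¹ * h2) = 1 := by
      rw [map_mul, ← h12, ← map_mul, inv_mul_cancel, map_one]
    have := hf1 _ e
    exact inv_mul_eq_one.mp this
  have hcyc : IsCyclic ↥H := isCyclic_of_injective_ringHom f hf
  -- the element `X` of `H`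
  have hXH : X ∈ H := Subgroup.mem_centralizer_iff.mpr (fun y hy => by rw [Set.mem_singleton_iff.mp hy])
  have hfX : f ⟨X, hXH⟩ = (a1 : K') := h1.symm
  have hoX : orderOf (⟨X, hXH⟩ : ↥H) = (q ^ 3 - 1) * (q + 1) := by
    rw [← orderOf_injective f hf, hfX, orderOf_units, ho]
  -- the order of `H`
  have hpow : ∀ h : ↥H, h ^ ((q ^ 3 - 1) * (q + 1)) = 1 := by
    intro h
    apply hf
    rw [map_pow, map_one]
    have hne : f h ≠ 0 := cert12_D4.dE_ne_zero _ (hdesc _ h.2).1 18 (by decide)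
    obtain ⟨_, hN⟩ := S.desc_zpow _ (hdesc _ h.2) (Units.mk0 (f h) hne) rfl
    rw [← S.cast_N, zpow_natCast] at hN
    have := congrArg Units.val hN
    rwa [Units.val_pow_eq_pow_val, Units.val_mk0, Units.val_one] at this
  have hcard : Nat.card ↥H = (q ^ 3 - 1) * (q + 1) := by
    apply Nat.dvd_antisymm
    · rw [← IsCyclic.exponent_eq_card]
      exact Monoid.exponent_dvd_of_forall_pow_eq_one hpow
    · rw [← hoX]
      exact orderOf_dvd_natCard _
  refine ⟨H, hcyc, hcard, ?_⟩
  -- `H` is its own centraliser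
  apply le_antisymm
  · intro g hg
    rw [hH]
    apply Subgroup.mem_centralizer_iff.mpr
    intro y hy
    rw [Set.mem_singleton_iff.mp hy]
    exact Subgroup.mem_centralizer_iff.mp hg X hXH
  · intro g hg
    apply Subgroup.mem_centralizer_iff.mpr
    intro y hy
    have e : f (⟨y, hy⟩ * ⟨g, hg⟩) = f (⟨g, hg⟩ * ⟨y, hy⟩) := by
      rw [map_mul, map_mul, mul_comm]
    have := hf e
    exact congrArg Subtype.val this
end Cfsg.Agent.S2376
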