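import Cfsg.Statements.S2391
import Cfsg.Agent.Lib.H12.BorelTitsFlag

set_option autoImplicit false
open Cfsg

namespace Cfsg.Agent.S2391

/-- The Borel–Tits property of `SL_n(q)` in flag form: for a field `F` of characteristic `p` with finitely many elements and a non-trivial `p`-subgroup `U` of `SL_n(F)`, there is a flag `0 = V₀ < V₁ < ⋯ < V_{k+1} = F^n` with at least one proper non-zero member such that every element of the normaliser of `U` maps each `V_i` onto itself and every element of `U` acts trivially on each quotient `V_{i+1}/V_i` (so the normaliser lies in the parabolic subgroup of the flag and `U` in its unipotent radical). -/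
theorem result {F : Type*} [Field F] [Fintype F] (p : ℕ) [Fact p.Prime] [CharP F p] (n : ℕ)
    (U : Subgroup (Matrix.SpecialLinearGroup (Fin n) F)) (hU : IsPGroup p ↥U) (hne : U ≠ ⊥) :
    ∃ (k : ℕ) (V : Fin (k + 2) → Submodule F (Fin n → F)), 1 ≤ k ∧ StrictMono V ∧ V 0 = ⊥ ∧ V (Fin.last (k + 1)) = ⊤ ∧
      (∀ g ∈ Subgroup.normalizer (U : Set (Matrix.SpecialLinearGroup (Fin n) F)), ∀ i, (V i).map (Matrix.mulVecLin (g : Matrix (Fin n) (Fin n) F)) = V i) ∧
      (∀ u ∈ U, ∀ i : Fin (k + 1), ∀ v ∈ V i.succ, (u : Matrix (Fin n) (Fin n) F).mulVec v - v ∈ V (Fin.castSucc i)) := by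
  classical
  have hex := Cfsg.Agent.Lib.H12.exists_fixChain_eq_top p U hU
  have hm₀ : Cfsg.Agent.Lib.H12.fixChain U (Nat.find hex) = ⊤ := Nat.find_spec hex
  have hmin : ∀ j, j < Nat.find hex → Cfsg.Agent.Lib.H12.fixChain U j ≠ ⊤ := fun j hj => Nat.find_min hex hj
  have h1 : Cfsg.Agent.Lib.H12.fixChain U 1 ≠ ⊤ := Cfsg.Agent.Lib.H12.fixChain_one_ne_top U hne
  have h0 : Cfsg.Agent.Lib.H12.fixChain U 0 ≠ ⊤ := by
    intro h
    apply h1
    rw [eq_top_iff, ← h]
    exact Cfsg.Agent.Lib.H12.fixChain_le_succ U 0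
  have hm2 : 2 ≤ Nat.find hex := by
    by_contra hlt
    push Not at hlt
    interval_cases hfind : Nat.find hex
    · exact h0 hm₀
    · exact h1 hm₀
  obtain ⟨k, hk⟩ : ∃ k, Nat.find hex = k + 1 := ⟨Nat.find hex - 1, by omega⟩
  refine ⟨k, fun i => Cfsg.Agent.Lib.H12.fixChain U i.val, by omega, ?_, ?_, ?_, ?_, ?_⟩
  · rw [Fin.strictMono_iff_lt_succ]
    intro i
    show Cfsg.Agent.Lib.H12.fixChain U i.castSucc.val < Cfsg.Agent.Lib.H12.fixChain U i.succ.val
    rw [Fin.val_castSucc, Fin.val_succ]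
    apply Cfsg.Agent.Lib.H12.fixChain_lt_succ p U hU
    apply hmin
    have := i.isLt
    omega
  · rfl
  · show Cfsg.Agent.Lib.H12.fixChain U (Fin.last (k + 1)).val = ⊤
    rw [Fin.val_last, ← hk]
    exact hm₀
  · intro g hg i
    apply le_antisymm
    · rintro _ ⟨v, hv, rfl⟩
      exact Cfsg.Agent.Lib.H12.fixChain_normalizer U _ hg hv
    · intro v hv
      refine ⟨((g⁻¹ : Matrix.SpecialLinearGroup (Fin n) F) : Matrix (Fin n) (Fin n) F).mulVec v,
        Cfsg.Agent.Lib.H12.fixChain_normalizer U _ (Subgroup.inv_mem _ hg) hv, ?_⟩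
      rw [Matrix.mulVecLin_apply]
      exact Cfsg.Agent.Lib.H12.coe_inv_mulVec g v
  · intro u hu i v hv
    change v ∈ Cfsg.Agent.Lib.H12.fixChain U i.succ.val at hv
    show _ ∈ Cfsg.Agent.Lib.H12.fixChain U i.castSucc.val
    rw [Fin.val_castSucc]
    rw [Fin.val_succ, Cfsg.Agent.Lib.H12.fixChain_succ, Cfsg.Agent.Lib.H12.mem_nxt] at hv
    exact hv u hu

end Cfsg.Agent.S2391
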