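import Cfsg.Statements.S2398
import Cfsg.Agent.S2395
import Cfsg.Agent.Lib.H29.ChevCert13
import Cfsg.Agent.Lib.H29.ChevStChkAll
import Cfsg.Agent.Lib.H29.ChevUCE2
import Cfsg.Agent.Lib.H29.ChevTL6
import Cfsg.Agent.Lib.H29.ChevTL7
import Cfsg.Agent.Lib.H29.ChevTLG2
import Cfsg.Agent.Lib.H29.ChevTLB2
import Cfsg.Agent.Lib.H29.ChevTLD4
import Cfsg.Agent.Lib.H29.ChevTLF4
import Cfsg.Agent.Lib.H29.ChevCE4E6
import Cfsg.Agent.Lib.H29.ChevCE4E7
import Cfsg.Agent.Lib.H29.ChevCE4E8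

set_option autoImplicit false
open Cfsg

namespace Cfsg.Agent.S2398

/-- Universality of the group Δ presented by Steinberg's generators with relators (R1), (R2), over a field with more than four elements (types G₂, B₂, D₄, F₄, E₆, E₇, E₈): for every central extension `π₁ : E → G₁` (surjective, central kernel) and every homomorphism `σ : Δ → G₁` there is exactly one homomorphism `τ : Δ → E` with `π₁ ∘ τ = σ`. In particular every central extension of Δ splits; together with the fact that Δ maps onto the Chevalley group with central kernel, this makes Δ the universal central extension of the Chevalley group. -/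
theorem result {K : Type*} [Field K] (hK5 : ∃ s : Finset K, 4 < s.card) (D : Cfsg.Lie.ChevalleyDatum) (hD : D ∈ [Cfsg.Lie.chevG2, Cfsg.Lie.chevB2, Cfsg.Lie.chevD4, Cfsg.Lie.chevF4, Cfsg.Lie.chevE6, Cfsg.Lie.chevE7, Cfsg.Lie.chevE8])
    {G₁ E : Type*} [Group G₁] [Group E] (π₁ : E →* G₁) (hπ : Function.Surjective π₁) (hc : π₁.ker ≤ Subgroup.center E)
    (σ : D.SteinbergCover K →* G₁) : ∃! τ : D.SteinbergCover K →* E, π₁.comp τ = σ := by
  open Cfsg.Agent.Lib.H29.Chev in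
  obtain ⟨a, ha, ha2, ha3⟩ := exists_torus_elt hK5
  have ha1 : a ≠ 1 := by
    intro h; rw [h] at ha2; simp at ha2
  have hperf : commutator (D.SteinbergCover K) = ⊤ :=
    Cfsg.Agent.S2395.result D hD (fun _ => ⟨a, ha, ha1⟩)
  simp only [List.mem_cons, List.not_mem_nil, or_false] at hD
  rcases hD with rfl | rfl | rfl | rfl | rfl | rfl | rfl
  · exact cert12_G2.cover_universal_of_lift K fdG2_ChkSt hperf π₁ hπ hc σ
      (fun Γ σ' hs hc' => cert12_G2.torus_lift K fdG2_ChkSt ztG2 fdG2_ChkZS fdG2_ChkGS a ha ha2 ha3 σ' hs hc')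
  · refine cert12_B2.cover_universal_of_lift K fdB2_ChkSt hperf π₁ hπ hc σ
      (fun Γ σ' hs hc' => cert12_B2.torus_lift' K fdB2_ChkSt ztB2 fdB2_ChkZS a ha ha2 ha3 σ' hs hc' ?_)
    intro r hr
    have hr' : r < 8 := hr
    obtain ⟨l0, l3, l4, l7⟩ := fdB2_ChkLR
    interval_cases r
    · exact cert12_B2.ecom_of_LR K fdB2_ChkSt a ha ha2 ha3 σ' hs hc' 0 3 2 1 3 hr l0
    · exact cert12_B2.ecom_of_gs K fdB2_ChkSt ztB2 a ha ha2 ha3 σ' hs hc' 1 hr (fdB2_ChkGS_short 1 (by simp))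
    · exact cert12_B2.ecom_of_gs K fdB2_ChkSt ztB2 a ha ha2 ha3 σ' hs hc' 2 hr (fdB2_ChkGS_short 2 (by simp))
    · exact cert12_B2.ecom_of_LR K fdB2_ChkSt a ha ha2 ha3 σ' hs hc' 3 0 5 1 0 hr l3
    · exact cert12_B2.ecom_of_LR K fdB2_ChkSt a ha ha2 ha3 σ' hs hc' 4 0 6 2 0 hr l4
    · exact cert12_B2.ecom_of_gs K fdB2_ChkSt ztB2 a ha ha2 ha3 σ' hs hc' 5 hr (fdB2_ChkGS_short 5 (by simp))
    · exact cert12_B2.ecom_of_gs K fdB2_ChkSt ztB2 a ha ha2 ha3 σ' hs hc' 6 hr (fdB2_ChkGS_short 6 (by simp))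
    · exact cert12_B2.ecom_of_LR K fdB2_ChkSt a ha ha2 ha3 σ' hs hc' 7 3 6 5 3 hr l7
  · exact cert12_D4.cover_universal_of_lift K fdD4_ChkSt hperf π₁ hπ hc σ
      (fun Γ σ' hs hc' => cert12_D4.torus_lift K fdD4_ChkSt ztD4 fdD4_ChkZS fdD4_ChkGS a ha ha2 ha3 σ' hs hc')
  · exact cert12_F4.cover_universal_of_lift K fdF4_ChkSt hperf π₁ hπ hc σ
      (fun Γ σ' hs hc' => cert12_F4.torus_lift K fdF4_ChkSt ztF4 fdF4_ChkZS fdF4_ChkGS a ha ha2 ha3 σ' hs hc')
  · exact cert12_E6.cover_universal_of_chkCE K fdE6_ChkCE hperf π₁ hπ hc σ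
  · exact cert12_E7.cover_universal_of_chkCE K fdE7_ChkCE hperf π₁ hπ hc σ
  · exact cert12_E8.cover_universal_of_chkCE K fdE8_ChkCE hperf π₁ hπ hc σ

end Cfsg.Agent.S2398
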