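import Cfsg.Statements.S2399
import Cfsg.Agent.S2395
import Cfsg.Agent.S2398
import Cfsg.Agent.Lib.H29.ChevCert13
import Cfsg.Agent.Lib.H29.ChevStChkAll
import Cfsg.Agent.Lib.H29.ChevUCE2
import Cfsg.Agent.Lib.H29.ChevPL3
import Cfsg.Agent.Lib.H29.ChevPLWG2
import Cfsg.Agent.Lib.H29.ChevPLWB2
import Cfsg.Agent.Lib.H29.ChevPLWD4
import Cfsg.Agent.Lib.H29.ChevPLWF4
import Cfsg.Agent.Lib.H29.ChevCE4E6
import Cfsg.Agent.Lib.H29.ChevCE4E7
import Cfsg.Agent.Lib.H29.ChevCE4E8

set_option autoImplicit false
open scoped MatrixGroups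
open Cfsg

namespace Cfsg.Agent.S2399

/-- Projective representations in the natural characteristic lift: for each of the types G₂, B₂, D₄, F₄, E₆, E₇, E₈ over any field `K` (for types B₂ and G₂ the field must have more than two elements — the cases where the Chevalley group is not simple are set aside), every homomorphism from the Chevalley group to `PGL_n(L) = GL_n(L)/Z`, `L` a field of the same characteristic as `K`, lifts uniquely to a homomorphism from the group Δ presented by (R1), (R2) to `GL_n(L)`, compatibly with the projection Δ → Chevalley group sending x̄_r(t) to x_r(t). -/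
theorem result {K : Type*} [Field K] (D : Cfsg.Lie.ChevalleyDatum) (hD : D ∈ [Cfsg.Lie.chevG2, Cfsg.Lie.chevB2, Cfsg.Lie.chevD4, Cfsg.Lie.chevF4, Cfsg.Lie.chevE6, Cfsg.Lie.chevE7, Cfsg.Lie.chevE8]) (hK : D ∈ [Cfsg.Lie.chevB2, Cfsg.Lie.chevG2] → ∃ x : K, x ≠ 0 ∧ x ≠ 1)
    (θ : D.SteinbergCover K →* ↥(D.group K))
    (hθ : ∀ (r : ℕ) (t : K), r < D.nroots → ((θ (D.scGen K r t) : GL D.Idx K) : Matrix D.Idx D.Idx K) = D.x K r t)
    {L : Type*} [Field L] (hL : ringChar L = ringChar K) {n : ℕ}
    (φ : ↥(D.group K) →* GL (Fin n) L ⧸ Subgroup.center (GL (Fin n) L)) :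
    ∃! ψ : D.SteinbergCover K →* GL (Fin n) L, (QuotientGroup.mk' (Subgroup.center (GL (Fin n) L))).comp ψ = φ.comp θ := by
  open Cfsg.Agent.Lib.H29.Chev in
  have hπ : Function.Surjective (QuotientGroup.mk' (Subgroup.center (GL (Fin n) L))) :=
    QuotientGroup.mk'_surjective _
  have hc : (QuotientGroup.mk' (Subgroup.center (GL (Fin n) L))).ker ≤ Subgroup.center (GL (Fin n) L) :=
    le_of_eq (QuotientGroup.ker_mk' _)
  by_cases hK5 : ∃ s : Finset K, 4 < s.card
  · -- more than four elements: the group `Δ` is a universal central extension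
    exact Cfsg.Agent.S2398.result hK5 D hD _ hπ hc (φ.comp θ)
  · -- at most four elements: the kernel `Lˣ` has no `p`-torsion
    have hfin : Finite K := by
      by_contra hinf
      rw [not_finite_iff_infinite] at hinf
      obtain ⟨s, hs⟩ := Infinite.exists_subset_card_eq K 5
      exact hK5 ⟨s, by omega⟩
    have hft := Fintype.ofFinite K
    have hcK : CharP K (ringChar K) := ringChar.charP K
    have hp : Fact (ringChar K).Prime := ⟨CharP.char_is_prime K (ringChar K)⟩
    have hcL : CharP L (ringChar K) := by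
      rw [← hL]
      exact ringChar.charP L
    have hperf : commutator (D.SteinbergCover K) = ⊤ := Cfsg.Agent.S2395.result D hD hK
    have hnt : ∀ x ∈ (QuotientGroup.mk' (Subgroup.center (GL (Fin n) L))).ker, x ^ (ringChar K) = 1 → x = 1 := by
      intro x hx hxp
      rw [QuotientGroup.ker_mk'] at hx
      obtain ⟨a, ha⟩ := Matrix.GeneralLinearGroup.mem_center_iff_val_mem_range_scalar.mp hx
      have h1 : (x ^ (ringChar K) : GL (Fin n) L).val = 1 := by rw [hxp]; rfl
      rw [Units.val_pow_eq_pow_val, ← ha, ← map_pow] at h1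
      rcases isEmpty_or_nonempty (Fin n) with hn | hn
      · apply Units.ext
        apply Matrix.ext
        intro i
        exact (hn.false i).elim
      · have h2 : a ^ (ringChar K) = 1 := by
          have := congrFun (congrFun h1 hn.some) hn.some
          simpa using this
        have h3 : a = 1 := by
          apply frobenius_inj L (ringChar K)
          rw [frobenius_def, frobenius_def, h2, one_pow]
        apply Units.ext
        rw [← ha, h3, map_one]
        rfl
    simp only [List.mem_cons, List.not_mem_nil, or_false] at hD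
    rcases hD with rfl | rfl | rfl | rfl | rfl | rfl | rfl
    · exact cert12_G2.cover_universal_of_plift K (ringChar K) fdG2_ChkSt hperf zwG2 fdG2_ChkW1 fdG2_ChkWP _ hπ hc hnt
        (φ.comp θ)
    · exact cert12_B2.cover_universal_of_plift K (ringChar K) fdB2_ChkSt hperf zwB2 fdB2_ChkW1 fdB2_ChkWP _ hπ hc hnt
        (φ.comp θ)
    · exact cert12_D4.cover_universal_of_plift K (ringChar K) fdD4_ChkSt hperf zwD4 fdD4_ChkW1 fdD4_ChkWP _ hπ hc hnt
        (φ.comp θ)
    · exact cert12_F4.cover_universal_of_plift K (ringChar K) fdF4_ChkSt hperf zwF4 fdF4_ChkW1 fdF4_ChkWP _ hπ hc hnt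
        (φ.comp θ)
    · exact cert12_E6.cover_universal_of_chkCE K fdE6_ChkCE hperf _ hπ hc (φ.comp θ)
    · exact cert12_E7.cover_universal_of_chkCE K fdE7_ChkCE hperf _ hπ hc (φ.comp θ)
    · exact cert12_E8.cover_universal_of_chkCE K fdE8_ChkCE hperf _ hπ hc (φ.comp θ)

end Cfsg.Agent.S2399
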