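import Cfsg.Statements.S2400
import Cfsg.Agent.S2395
import Cfsg.Agent.Lib.H12.StMultA
import Cfsg.Agent.Lib.H12.StMultL
import Cfsg.Agent.Lib.H29.ChevCert13
import Cfsg.Agent.Lib.H29.ChevStChkAll
import Cfsg.Agent.Lib.H29.ChevUCE2
import Cfsg.Agent.Lib.H29.ChevCE4E6
import Cfsg.Agent.Lib.H29.ChevCE4E7

set_option autoImplicit false
open Cfsg

namespace Cfsg.Agent.S2400

/-- Over a finite field `K`, the group presented by Steinberg's relators (R1)–(R3) (the universal Chevalley group) of type E₆ or E₇, or of type B₂ or D₄ with `K` of more than two elements, has trivial Schur multiplier: every finite stem extension of it is an isomorphism (Schur multiplier described through stem extensions as in the definitions). Types G₂, F₄ and E₈ are not covered here. -/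
theorem result {K : Type*} [Field K] [Fintype K] (e : Cfsg.Lie.ChevalleyDatum × ℕ)
    (he : e ∈ [(Cfsg.Lie.chevE6, 0), (Cfsg.Lie.chevE7, 0), (Cfsg.Lie.chevB2, 2), (Cfsg.Lie.chevD4, 2)]) (hK : Fintype.card K ≠ e.2) :
    Cfsg.HasCyclicSchurMultiplier (e.1.SteinbergGroup K) 1 := by
  open Cfsg.Agent.Lib.H29.Chev Cfsg.Agent.Lib.H12.StMult in
  simp only [List.mem_cons, List.not_mem_nil, or_false] at he
  rcases he with rfl | rfl | rfl | rfl
  · -- type E6
    have hperf : commutator (Cfsg.Lie.chevE6.SteinbergCover K) = ⊤ := by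
      apply Cfsg.Agent.S2395.result Cfsg.Lie.chevE6 (by simp)
      intro h
      exfalso
      simp only [List.mem_cons, List.not_mem_nil, or_false] at h
      rcases h with h | h
      · exact absurd (congrArg Cfsg.Lie.ChevalleyDatum.rank h) (by decide)
      · exact absurd (congrArg Cfsg.Lie.ChevalleyDatum.rank h) (by decide)
    apply steinberg_mult_trivial cert12_E6 K fdE6_ChkSt hperf
    intro Γ _ _ σ hs hc
    obtain ⟨τ, hτ, _⟩ := cert12_E6.cover_universal_of_chkCE K fdE6_ChkCE hperf σ hs hc
      (PresentedGroup.toGroup (cert12_E6.rels_AB K))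
    exact ⟨τ, fun m => by rw [← hτ]; rfl⟩
  · -- type E7
    have hperf : commutator (Cfsg.Lie.chevE7.SteinbergCover K) = ⊤ := by
      apply Cfsg.Agent.S2395.result Cfsg.Lie.chevE7 (by simp)
      intro h
      exfalso
      simp only [List.mem_cons, List.not_mem_nil, or_false] at h
      rcases h with h | h
      · exact absurd (congrArg Cfsg.Lie.ChevalleyDatum.rank h) (by decide)
      · exact absurd (congrArg Cfsg.Lie.ChevalleyDatum.rank h) (by decide)
    apply steinberg_mult_trivial cert12_E7 K fdE7_ChkSt hperf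
    intro Γ _ _ σ hs hc
    obtain ⟨τ, hτ, _⟩ := cert12_E7.cover_universal_of_chkCE K fdE7_ChkCE hperf σ hs hc
      (PresentedGroup.toGroup (cert12_E7.rels_AB K))
    exact ⟨τ, fun m => by rw [← hτ]; rfl⟩
  · -- type B2, more than two elements
    have hK' : Fintype.card K ≠ 2 := hK
    have hperf : commutator (Cfsg.Lie.chevB2.SteinbergCover K) = ⊤ := by
      apply Cfsg.Agent.S2395.result Cfsg.Lie.chevB2 (by simp)
      intro _
      obtain ⟨a, ha, hord⟩ := exists_gen_zpow (K := K)
      refine ⟨a, ha, ?_⟩
      intro h1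
      have h2 : 2 ≤ Fintype.card K := Fintype.one_lt_card
      have h3 := (hord 1).mp (by rw [h1]; simp)
      have h4 : ((Fintype.card K - 1 : ℕ) : ℤ) ∣ 1 := Int.dvd_of_emod_eq_zero h3
      have h5 := Int.natCast_dvd_natCast.mp (by exact_mod_cast h4 : ((Fintype.card K - 1 : ℕ) : ℤ) ∣ ((1 : ℕ) : ℤ))
      have h6 := Nat.le_of_dvd (by norm_num) h5
      omega
    apply steinberg_mult_trivial cert12_B2 K fdB2_ChkSt hperf
    intro Γ _ _ σ hs hc
    exact b2_lift K hK' σ hs hc
  · -- type D4, more than two elements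
    have hK' : Fintype.card K ≠ 2 := hK
    have hperf : commutator (Cfsg.Lie.chevD4.SteinbergCover K) = ⊤ := by
      apply Cfsg.Agent.S2395.result Cfsg.Lie.chevD4 (by simp)
      intro h
      exfalso
      simp only [List.mem_cons, List.not_mem_nil, or_false] at h
      rcases h with h | h
      · exact absurd (congrArg Cfsg.Lie.ChevalleyDatum.rank h) (by decide)
      · exact absurd (congrArg Cfsg.Lie.ChevalleyDatum.rank h) (by decide)
    apply steinberg_mult_trivial cert12_D4 K fdD4_ChkSt hperf
    intro Γ _ _ σ hs hc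
    exact d4_lift K hK' σ hs hc

end Cfsg.Agent.S2400
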