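import Cfsg.Statements.S2402
import Cfsg.Agent.Lib.H12.SLCycleGen

set_option autoImplicit false
open Cfsg

namespace Cfsg.Agent.S2402

/-- Explicit two-element generation of `PSL_{n+1}(K)` for a finite field `K` with more than three elements: let `k` generate the multiplicative group of `K`, `h = diag(k, k⁻¹, 1, …, 1)`, `x = 1 + E₁₂` (the elementary transvection) and `w` the monomial matrix with entries `1` in positions `(i, i+1)` and `(−1)^n` in position `(n+1, 1)`. Then `h` and `x·w` generate `SL_{n+1}(K)` modulo its centre: the subgroup they generate together with the centre is everything. -/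
theorem result {K : Type*} [Field K] [Fintype K] (hK : 3 < Fintype.card K) (n : ℕ) (hn : 1 ≤ n)
    (k : Kˣ) (hk : ∀ u : Kˣ, u ∈ Subgroup.zpowers k)
    (h x w : Matrix.SpecialLinearGroup (Fin (n + 1)) K)
    (hh : (h : Matrix (Fin (n + 1)) (Fin (n + 1)) K) =
      Matrix.diagonal (fun i => if i.val = 0 then (k : K) else if i.val = 1 then ((k⁻¹ : Kˣ) : K) else 1))
    (hx : (x : Matrix (Fin (n + 1)) (Fin (n + 1)) K) = Matrix.transvection (0 : Fin (n + 1)) (1 : Fin (n + 1)) 1)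
    (hw : (w : Matrix (Fin (n + 1)) (Fin (n + 1)) K) =
      Matrix.of (fun i j => if j.val = i.val + 1 then 1 else if i.val = n ∧ j.val = 0 then (-1) ^ n else 0)) :
    Subgroup.closure ({h, x * w} : Set (Matrix.SpecialLinearGroup (Fin (n + 1)) K)) ⊔
      Subgroup.center (Matrix.SpecialLinearGroup (Fin (n + 1)) K) = ⊤ := by
  classical
  set H := Subgroup.closure ({h, x * w} : Set (Matrix.SpecialLinearGroup (Fin (n + 1)) K)) with hH
  have hhH : h ∈ H := Subgroup.subset_closure (by simp)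
  have hgH : x * w ∈ H := Subgroup.subset_closure (by simp)
  have hv1 : (1 : Fin (n + 1)).val = 1 := by
    rw [Fin.val_one']
    exact Nat.mod_eq_of_lt (by omega)
  have h01 : (0 : Fin (n + 1)) ≠ 1 := by
    intro h
    have := congrArg Fin.val h
    rw [Fin.val_zero, hv1] at this
    omega
  have hx' : x = Matrix.SpecialLinearGroup.transvection h01 1 := Subtype.ext hx
  set δ : Fin (n + 1) → K :=
    fun i => if i.val = 0 then (k : K) else if i.val = 1 then ((k⁻¹ : Kˣ) : K) else 1 with hδ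
  have hδ0 : δ 0 = (k : K) := by
    show (if (0 : Fin (n + 1)).val = 0 then (k : K) else
      if (0 : Fin (n + 1)).val = 1 then ((k⁻¹ : Kˣ) : K) else 1) = _
    rw [Fin.val_zero, if_pos rfl]
  have hδ1 : δ 1 = ((k⁻¹ : Kˣ) : K) := by
    show (if (1 : Fin (n + 1)).val = 0 then (k : K) else
      if (1 : Fin (n + 1)).val = 1 then ((k⁻¹ : Kˣ) : K) else 1) = _
    rw [hv1, if_neg one_ne_zero, if_pos rfl]
  have hk0 : (k : K) ≠ 0 := k.ne_zero
  -- `k² ≠ 1`
  have hk2 : (k : K) * k ≠ 1 := by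
    intro hkk
    have h1 : k ^ 2 = 1 := by
      apply Units.ext
      rw [Units.val_pow_eq_pow_val, Units.val_one, sq]
      exact hkk
    have h2 := orderOf_dvd_of_pow_eq_one h1
    rw [orderOf_eq_card_of_forall_mem_zpowers hk, Nat.card_eq_fintype_card, Fintype.card_units] at h2
    have := Nat.le_of_dvd (by norm_num) h2
    omega
  have hk1 : (k : K) ≠ 1 := by
    intro h
    apply hk2
    rw [h, mul_one]
  -- the entry `δ (1 + 1)`
  have he : δ (1 + 1) = 1 ∨ δ (1 + 1) = (k : K) := by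
    rcases Nat.lt_or_ge 1 n with hn2 | hn2
    · left
      have hv2 : ((1 : Fin (n + 1)) + 1).val = 2 := by
        rw [Fin.val_add, hv1]
        exact Nat.mod_eq_of_lt (by omega)
      show (if ((1 : Fin (n + 1)) + 1).val = 0 then (k : K) else
        if ((1 : Fin (n + 1)) + 1).val = 1 then ((k⁻¹ : Kˣ) : K) else 1) = _
      rw [hv2, if_neg (by norm_num), if_neg (by norm_num)]
    · right
      have hn1 : n = 1 := by omega
      have hv2 : ((1 : Fin (n + 1)) + 1).val = 0 := by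
        rw [Fin.val_add, hv1, hn1]
      show (if ((1 : Fin (n + 1)) + 1).val = 0 then (k : K) else
        if ((1 : Fin (n + 1)) + 1).val = 1 then ((k⁻¹ : Kˣ) : K) else 1) = _
      rw [hv2, if_pos rfl]
  have hw' : (w : Matrix (Fin (n + 1)) (Fin (n + 1)) K) =
      Cfsg.Agent.Lib.H12.monoMat (Equiv.addRight (1 : Fin (n + 1))) (Cfsg.Agent.Lib.H12.cycSign K n) := by
    rw [hw, Cfsg.Agent.Lib.H12.cycMat_eq]
  -- the conjugate of `h` by `w`
  obtain ⟨dS, hdS⟩ : ∃ dS : Matrix.SpecialLinearGroup (Fin (n + 1)) K, dS = w * h * w⁻¹ := ⟨_, rfl⟩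
  have hdSmat : (dS : Matrix (Fin (n + 1)) (Fin (n + 1)) K) =
      Matrix.diagonal (fun i => δ (i + 1)) := by
    have e1 : dS * w = w * h := by rw [hdS]; group
    have e2 : ((dS * w : Matrix.SpecialLinearGroup (Fin (n + 1)) K) : Matrix (Fin (n + 1)) (Fin (n + 1)) K) =
        ((w * h : Matrix.SpecialLinearGroup (Fin (n + 1)) K) : Matrix (Fin (n + 1)) (Fin (n + 1)) K) := by
      rw [e1]
    rw [Matrix.SpecialLinearGroup.coe_mul, Matrix.SpecialLinearGroup.coe_mul, hh] at e2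
    have e3 : (w : Matrix (Fin (n + 1)) (Fin (n + 1)) K) *
        ((w⁻¹ : Matrix.SpecialLinearGroup (Fin (n + 1)) K) : Matrix (Fin (n + 1)) (Fin (n + 1)) K) = 1 := by
      rw [← Matrix.SpecialLinearGroup.coe_mul, mul_inv_cancel, Matrix.SpecialLinearGroup.coe_one]
    have e4 : (w : Matrix (Fin (n + 1)) (Fin (n + 1)) K) * Matrix.diagonal δ =
        Matrix.diagonal (fun i => δ (i + 1)) * (w : Matrix (Fin (n + 1)) (Fin (n + 1)) K) := by
      rw [hw', Cfsg.Agent.Lib.H12.monoMat_mul_diagonal]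
      rfl
    rw [e4] at e2
    calc (dS : Matrix (Fin (n + 1)) (Fin (n + 1)) K)
        = (dS : Matrix (Fin (n + 1)) (Fin (n + 1)) K) * ((w : Matrix (Fin (n + 1)) (Fin (n + 1)) K) *
            ((w⁻¹ : Matrix.SpecialLinearGroup (Fin (n + 1)) K) : Matrix (Fin (n + 1)) (Fin (n + 1)) K)) := by
          rw [e3, Matrix.mul_one]
      _ = Matrix.diagonal (fun i => δ (i + 1)) * ((w : Matrix (Fin (n + 1)) (Fin (n + 1)) K) *
            ((w⁻¹ : Matrix.SpecialLinearGroup (Fin (n + 1)) K) : Matrix (Fin (n + 1)) (Fin (n + 1)) K)) := by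
          rw [← Matrix.mul_assoc, e2, Matrix.mul_assoc]
      _ = Matrix.diagonal (fun i => δ (i + 1)) := by rw [e3, Matrix.mul_one]
  have hd0 : δ (0 + 1) ≠ 0 := by
    rw [zero_add, hδ1]
    exact Units.ne_zero _
  have hd1 : δ (1 + 1) ≠ 0 := by
    rcases he with h | h
    · rw [h]; exact one_ne_zero
    · rw [h]; exact hk0
  -- the element `y`
  have hy : (x * w) * h * (x * w)⁻¹ =
      dS * Matrix.SpecialLinearGroup.transvection h01 (δ (1 + 1) * (δ (0 + 1))⁻¹ - 1) := by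
    have : (x * w) * h * (x * w)⁻¹ = x * dS * x⁻¹ := by rw [hdS]; group
    rw [this, hx']
    exact Cfsg.Agent.Lib.H12.transvection_conj_diag hdSmat h01 hd0 hd1
  have hyH : dS * Matrix.SpecialLinearGroup.transvection h01 (δ (1 + 1) * (δ (0 + 1))⁻¹ - 1) ∈ H := by
    rw [← hy]
    exact H.mul_mem (H.mul_mem hgH hhH) (H.inv_mem hgH)
  have hδ1ne : δ 1 ≠ 0 := by
    rw [hδ1]; exact Units.ne_zero _
  have hz := Cfsg.Agent.Lib.H12.comm_diag_mul_transvection hh hdSmat h01 hδ1ne hd1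
    (δ (1 + 1) * (δ (0 + 1))⁻¹ - 1)
  have hzH := H.mul_mem (H.mul_mem (H.mul_mem hhH hyH) (H.inv_mem hhH)) (H.inv_mem hyH)
  rw [hz] at hzH
  -- the parameter is non-zero
  have ha : δ (1 + 1) * (δ (0 + 1))⁻¹ - 1 ≠ 0 := by
    rw [zero_add, hδ1, Units.val_inv_eq_inv_val, inv_inv, sub_ne_zero]
    rcases he with h | h
    · rw [h, one_mul]; exact hk1
    · rw [h]; exact hk2
  have hc₀ : δ (0 + 1) * (δ 0 * (δ (1 + 1) * (δ (0 + 1))⁻¹ - 1) * (δ 1)⁻¹ -
      (δ (1 + 1) * (δ (0 + 1))⁻¹ - 1)) * (δ (1 + 1))⁻¹ ≠ 0 := by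
    apply mul_ne_zero (mul_ne_zero hd0 ?_) (inv_ne_zero hd1)
    rw [hδ0, hδ1, Units.val_inv_eq_inv_val, inv_inv]
    have : (k : K) * (δ (1 + 1) * (δ (0 + 1))⁻¹ - 1) * k - (δ (1 + 1) * (δ (0 + 1))⁻¹ - 1) =
        ((k : K) * k - 1) * (δ (1 + 1) * (δ (0 + 1))⁻¹ - 1) := by ring
    rw [this]
    exact mul_ne_zero (sub_ne_zero.mpr hk2) ha
  have hroot : Cfsg.Agent.Lib.H12.rootAddSubgroup H h01 = ⊤ := by
    apply Cfsg.Agent.Lib.H12.addSubgroup_eq_top_of_sq_stable _ hc₀
    intro u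
    rw [Cfsg.Agent.Lib.H12.rootAddSubgroup_sq_stable hh hhH h01 k hk hδ0 hδ1 u]
    exact hzH
  have hT := Cfsg.Agent.Lib.H12.Tmem_of_rootAddSubgroup_eq_top h01 hroot
  have hxH : x ∈ H := by
    rw [hx', ← Cfsg.Agent.Lib.H12.mem_rootAddSubgroup, hroot]
    trivial
  have hwH : w ∈ H := by
    have : w = x⁻¹ * (x * w) := by group
    rw [this]
    exact H.mul_mem (H.inv_mem hxH) hgH
  have htop := Cfsg.Agent.Lib.H12.eq_top_of_cycle hn H w (Cfsg.Agent.Lib.H12.cycSign K n)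
    Cfsg.Agent.Lib.H12.cycSign_mul_self hw' hwH hT
  rw [htop, top_sup_eq]

end Cfsg.Agent.S2402
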