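import Cfsg.Statements.S2405
import Cfsg.Agent.Lib.H12.Gen2Main
import Cfsg.Agent.Lib.H29.B2Iso
import Cfsg.Agent.Lib.H29.D4Iso
import Cfsg.Agent.S2411
import Cfsg.Agent.S2414

set_option autoImplicit false
open Cfsg

namespace Cfsg.Agent.S2405

/-- two-element generation is transported by an isomorphism -/
theorem two_gen_of_equiv {G H : Type*} [Group G] [Group H] (e : G ≃* H)
    (h : ∃ a b : H, Subgroup.closure ({a, b} : Set H) = ⊤) :
    ∃ a b : G, Subgroup.closure ({a, b} : Set G) = ⊤ := by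
  obtain ⟨a, b, hab⟩ := h
  refine ⟨e.symm a, e.symm b, ?_⟩
  have h1 : (Subgroup.closure ({a, b} : Set H)).map e.symm.toMonoidHom =
      Subgroup.closure ({e.symm a, e.symm b} : Set G) := by
    rw [MonoidHom.map_closure, Set.image_pair]
    rfl
  rw [← h1, hab, ← MonoidHom.range_eq_map, MonoidHom.range_eq_top]
  exact e.symm.surjective

/-- Each Chevalley group of type G₂, B₂, D₄, F₄, E₆, E₇ or E₈ over a finite field is generated by two of its elements (types B₂ and G₂ over the field with two elements, where the group is not simple, excepted). -/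
theorem result {F : Type*} [Field F] [Finite F] (D : Cfsg.Lie.ChevalleyDatum) (hD : D ∈ [Cfsg.Lie.chevG2, Cfsg.Lie.chevB2, Cfsg.Lie.chevD4, Cfsg.Lie.chevF4, Cfsg.Lie.chevE6, Cfsg.Lie.chevE7, Cfsg.Lie.chevE8])
    (hF : D ∈ [Cfsg.Lie.chevB2, Cfsg.Lie.chevG2] → ∃ x : F, x ≠ 0 ∧ x ≠ 1) :
    ∃ a b : ↥(D.group F), Subgroup.closure ({a, b} : Set ↥(D.group F)) = ⊤ := by
  have := Fintype.ofFinite F
  simp only [List.mem_cons, List.not_mem_nil, or_false] at hD
  rcases hD with rfl | rfl | rfl | rfl | rfl | rfl | rfl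
  · exact Cfsg.Agent.Lib.H12.Gen2.gen_G2 F (hF (by simp))
  · obtain ⟨x, hx0, hx1⟩ := hF (by simp)
    have hcard : 2 < Fintype.card F :=
      Fintype.two_lt_card_iff.mpr ⟨0, 1, x, zero_ne_one, hx0.symm, hx1.symm⟩
    exact two_gen_of_equiv (Cfsg.Agent.Lib.H29.B2.isoPSp F)
      (Cfsg.Agent.S2411.result 2 le_rfl (fun _ => hcard))
  · exact two_gen_of_equiv (Cfsg.Agent.Lib.H29.D4.isoD4 F) (Cfsg.Agent.S2414.result 4 le_rfl)
  · exact Cfsg.Agent.Lib.H12.Gen2.gen_F4 F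
  · exact Cfsg.Agent.Lib.H12.Gen2.gen_E6 F
  · exact Cfsg.Agent.Lib.H12.Gen2.gen_E7 F
  · exact Cfsg.Agent.Lib.H12.Gen2.gen_E8 F

end Cfsg.Agent.S2405
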