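-- Statement S2406 (row 2406): the twisted group ²E₆(q) is generated by two elements.
-- Proof: Steinberg's generators `h_a(κ)`, `x_a(1) n_w` (architect helper28; commutator formulas by helper29).
import Cfsg.Statements.S2406
import Cfsg.Agent.Lib.H28.TwGenE6
import Cfsg.Agent.Lib.H29.TwGenCOMME6

set_option autoImplicit false
open Cfsg

namespace Cfsg.Agent.S2406

/-- The twisted group ²E₆(q) (realised inside E₆ over the field with `q²` elements) is generated by two of its elements. -/
theorem result {K : Type*} [Field K] [Fintype K] {q : ℕ} (hq : IsPrimePow q) (hK : Fintype.card K = q ^ 2) :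
    ∃ a b : ↥(Cfsg.Lie.twistedE6 K q), Subgroup.closure ({a, b} : Set ↥(Cfsg.Lie.twistedE6 K q)) = ⊤ := by
  exact Cfsg.Agent.Lib.H28.TwGen.two_gen_twistedE6_of_comm hq hK
    (fun φ hφ2 => Cfsg.Agent.Lib.H29.TwGen.comm_E6_iv φ hφ2)
    (fun φ hφ2 => Cfsg.Agent.Lib.H29.TwGen.comm_E6_ii φ hφ2)

end Cfsg.Agent.S2406
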