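-- Statement S2407 (row 2407): the twisted group ³D₄(q) is generated by two elements.
-- Proof: Steinberg's generators `h_a(κ)`, `x_a(1) n_w` (architect helper28; commutator formula by helper29).
import Cfsg.Statements.S2407
import Cfsg.Agent.Lib.H28.TwGenD4
import Cfsg.Agent.Lib.H29.TwGenCOMM

set_option autoImplicit false
open Cfsg

namespace Cfsg.Agent.S2407

/-- The twisted group ³D₄(q) (realised inside D₄ over the field with `q³` elements) is generated by two of its elements. -/
theorem result {K : Type*} [Field K] [Fintype K] {q : ℕ} (hq : IsPrimePow q) (hK : Fintype.card K = q ^ 3) :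
    ∃ a b : ↥(Cfsg.Lie.twistedD4 K q), Subgroup.closure ({a, b} : Set ↥(Cfsg.Lie.twistedD4 K q)) = ⊤ := by
  exact Cfsg.Agent.Lib.H28.TwGen.two_gen_twistedD4_of_comm hq hK
    (fun φ => Cfsg.Agent.Lib.H29.TwGen.comm_D4 φ)

end Cfsg.Agent.S2407
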