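import Cfsg.Statements.S2408
import Cfsg.Agent.Lib.H29.F4Gen1

set_option autoImplicit false
open Cfsg

namespace Cfsg.Agent.S2408

/-- The large Ree group ²F₄(2^(2m+1)) with `m ≥ 1` is generated by two of its elements. -/
theorem result {K : Type*} [Field K] [Fintype K] {m : ℕ} (hm : 1 ≤ m) (hK : Fintype.card K = 2 ^ (2 * m + 1)) :
    ∃ a b : ↥(Cfsg.Lie.twistedF4 K (2 ^ m)), Subgroup.closure ({a, b} : Set ↥(Cfsg.Lie.twistedF4 K (2 ^ m))) = ⊤ := by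
  open Cfsg.Agent.Lib.H29.Chev in
  have : CharP K 2 := charP_of_card_pow 2 (2 * m + 1) (by norm_num) hK
  open Cfsg.Agent.Lib.H29.Chev in
  obtain ⟨z, hz⟩ := IsCyclic.exists_generator (α := Kˣ)
  open Cfsg.Agent.Lib.H29.Chev in
  refine ⟨⟨f4Tor m ((1 : Kˣ), z), f4Tor_mem_tw m _⟩,
    ⟨cU m 1 0 * f4W K, mul_mem (cU_mem_tw m 1 0) (f4W_mem_tw m)⟩, ?_⟩
  open Cfsg.Agent.Lib.H29.Chev in
  rw [eq_top_iff]
  open Cfsg.Agent.Lib.H29.Chev in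
  intro g _
  open Cfsg.Agent.Lib.H29.Chev in
  have key := f4_two_gen m hK hm z hz
    ((Subgroup.closure ({⟨f4Tor m ((1 : Kˣ), z), f4Tor_mem_tw m _⟩,
      ⟨cU m 1 0 * f4W K, mul_mem (cU_mem_tw m 1 0) (f4W_mem_tw m)⟩} :
        Set ↥(Cfsg.Lie.twistedF4 K (2 ^ m)))).map (Cfsg.Lie.twistedF4 K (2 ^ m)).subtype)
    (Subgroup.mem_map.mpr ⟨⟨f4Tor m ((1 : Kˣ), z), f4Tor_mem_tw m _⟩,
      Subgroup.subset_closure (Set.mem_insert _ _), rfl⟩)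
    (Subgroup.mem_map.mpr ⟨⟨cU m 1 0 * f4W K, mul_mem (cU_mem_tw m 1 0) (f4W_mem_tw m)⟩,
      Subgroup.subset_closure (Set.mem_insert_of_mem _ (Set.mem_singleton _)), rfl⟩) g.property
  obtain ⟨g', hg', e⟩ := Subgroup.mem_map.mp key
  have : g' = g := Subtype.ext e
  rwa [this] at hg'

end Cfsg.Agent.S2408
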