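import Mathlib
import Cfsg.Statements.S2410
import Cfsg.Agent.Lib.H2.Sz13

set_option autoImplicit false
open Cfsg

namespace Cfsg.Agent.S2410

open Cfsg.Agent.Lib.H2.Sz Matrix

/-- The Suzuki group over the field with `2^(2m+1)` elements, `m ≥ 1` (realised as the stabiliser in `SL₄` of the Suzuki–Tits ovoid), is generated by two of its elements. -/
theorem result {F : Type*} [Field F] [Fintype F] {m : ℕ} (hm : 1 ≤ m) (hF : Fintype.card F = 2 ^ (2 * m + 1)) :
    ∃ a b : ↥(Cfsg.Sz F m), Subgroup.closure ({a, b} : Set ↥(Cfsg.Sz F m)) = ⊤ := by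
  have h := fld_of_card hF
  obtain ⟨k₀, hk₀⟩ := IsCyclic.exists_generator (α := Fˣ)
  refine ⟨⟨D m k₀, D_mem h k₀⟩,
    ⟨T m (1 : F) 0 * W, (Sz F m).mul_mem (T_mem h 1 0) (W_mem h)⟩, ?_⟩
  set a : Sz F m := ⟨D m k₀, D_mem h k₀⟩ with ha
  set b : Sz F m := ⟨T m (1 : F) 0 * W, (Sz F m).mul_mem (T_mem h 1 0) (W_mem h)⟩ with hb
  -- the image in `SL₄`
  have hmap : (Subgroup.closure ({a, b} : Set (Sz F m))).map (Sz F m).subtype =
      Subgroup.closure {D m k₀, T m (1 : F) 0 * W} := by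
    rw [MonoidHom.map_closure, Set.image_pair]
    rfl
  have hle : Sz F m ≤ Subgroup.closure {D m k₀, T m (1 : F) 0 * W} := by
    apply Sz_le_of_mem h hm hF
    · intro k
      obtain ⟨n, rfl⟩ := Subgroup.mem_zpowers_iff.1 (hk₀ k)
      have : D m (k₀ ^ n) = (D m k₀) ^ n := map_zpow (Dhom (F := F) m) k₀ n
      rw [this]
      exact Subgroup.zpow_mem _ (Subgroup.subset_closure (by simp)) n
    · exact Subgroup.subset_closure (by simp)
  rw [eq_top_iff]
  intro g _
  have hg := hle g.2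
  rw [← hmap] at hg
  obtain ⟨y, hy, hyg⟩ := hg
  have : y = g := Subtype.ext hyg
  rwa [← this]

end Cfsg.Agent.S2410
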