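import Cfsg.Statements.S2412
import Cfsg.Agent.S2283
import Cfsg.Agent.Lib.H15.SUGenN

set_option autoImplicit false
open Cfsg

namespace Cfsg.Agent.S2412

theorem su_two_gen {F : Type*} [Field F] [Fintype F] {q : ℕ} (hF : Fintype.card F = q ^ 2)
    (n : ℕ) (hn : 3 ≤ n) (h32 : n = 3 → q ≠ 2) :
    ∃ a b : ↥(Cfsg.SU n F q), Subgroup.closure ({a, b} : Set ↥(Cfsg.SU n F q)) = ⊤ := by
  have hq2 := Cfsg.Agent.Lib.H2.Herm.two_le_q hF
  rcases Nat.lt_or_ge 3 n with h | h
  · obtain ⟨m, rfl⟩ : ∃ m, n = m + 3 + 1 := ⟨n - 4, by omega⟩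
    by_cases hq : q = 2
    · subst hq
      rcases m with _ | m
      · exact Cfsg.Agent.Lib.H15.SUGen.exists_gen_two_four hF
      · exact Cfsg.Agent.Lib.H15.SUGen.exists_gen_two_ge_five hF m
    · exact Cfsg.Agent.Lib.H15.SUGen.exists_gen_ge_three hF hq m
  · have h3 : n = 3 := by omega
    subst h3
    have hq3 : 3 ≤ q := by
      have := h32 rfl
      omega
    obtain ⟨u, g, _, hcl⟩ := Cfsg.Agent.S2283.result q hq3 hF
    exact ⟨u, g * u * g⁻¹, hcl⟩


/-- The projective special unitary group `PSU_n(q)` with `n ≥ 3`, realised over the field with `q²` elements, `(n, q) ≠ (3, 2)`, is generated by two of its elements. -/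
theorem result {F : Type*} [Field F] [Fintype F] {q : ℕ} (hq : IsPrimePow q) (hF : Fintype.card F = q ^ 2) (n : ℕ) (hn : 3 ≤ n) (h32 : n = 3 → q ≠ 2) :
    ∃ a b : Cfsg.PSU n F q, Subgroup.closure ({a, b} : Set (Cfsg.PSU n F q)) = ⊤ := by
  obtain ⟨a, b, hab⟩ := su_two_gen hF n hn h32
  refine ⟨QuotientGroup.mk a, QuotientGroup.mk b, ?_⟩
  have h1 : Subgroup.map (QuotientGroup.mk' (Subgroup.center ↥(Cfsg.SU n F q)))
      (Subgroup.closure ({a, b} : Set ↥(Cfsg.SU n F q))) = ⊤ := by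
    rw [hab, ← MonoidHom.range_eq_map]
    exact MonoidHom.range_eq_top.2 (QuotientGroup.mk'_surjective _)
  rw [MonoidHom.map_closure, Set.image_pair] at h1
  exact h1

end Cfsg.Agent.S2412
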