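import Cfsg.Statements.S2418
import Cfsg.Agent.Lib.H6.CoxOrders1
import Cfsg.Agent.Lib.H6.CoxOrders2
import Cfsg.Agent.Lib.H6.CoxLB6
import Cfsg.Agent.Lib.H6.CoxCenterData

set_option autoImplicit false
open Cfsg

namespace Cfsg.Agent.S2418

open Cfsg.Agent.Lib.H6.CoxTC Cfsg.Agent.Lib.H6.CoxLB Cfsg.Agent.Lib.H6.CoxLB.Data
  Cfsg.Agent.Lib.H6.CoxOrders

theorem center_B2 : Nat.card (Subgroup.center (CoxeterMatrix.B 2).Group) = 2 ∧
    Subgroup.center (CoxeterMatrix.B 2).Group ≤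
      Subgroup.zpowers ((List.finRange 2).map (CoxeterMatrix.B 2).simple).prod := by
  obtain ⟨hfin, hub⟩ := ub_B2
  have hinj := (lb_of_checks (CoxeterMatrix.B 2) invOKB2 hmB2 relsOKB2 levelsB2 chainOKB2).2
    (by rw [chainProdB2]; exact hub)
  exact center_card_two (CoxeterMatrix.B 2) invOKB2 hmB2 relsOKB2 hinj (by norm_num) stabOKB2 fixOKB2
    transOKB2 rfl commOKB2 powNeB2

theorem center_G2 : Nat.card (Subgroup.center CoxeterMatrix.G₂.Group) = 2 ∧
    Subgroup.center CoxeterMatrix.G₂.Group ≤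
      Subgroup.zpowers ((List.finRange 2).map CoxeterMatrix.G₂.simple).prod := by
  obtain ⟨hfin, hub⟩ := ub_G2
  have hinj := (lb_of_checks CoxeterMatrix.G₂ invOKG2 hmG2 relsOKG2 levelsG2 chainOKG2).2
    (by rw [chainProdG2]; exact hub)
  exact center_card_two CoxeterMatrix.G₂ invOKG2 hmG2 relsOKG2 hinj (by norm_num) stabOKG2 fixOKG2
    transOKG2 rfl commOKG2 powNeG2

theorem center_D4 : Nat.card (Subgroup.center Cfsg.Lie.coxeterD4.Group) = 2 ∧
    Subgroup.center Cfsg.Lie.coxeterD4.Group ≤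
      Subgroup.zpowers ((List.finRange 4).map Cfsg.Lie.coxeterD4.simple).prod := by
  obtain ⟨hfin, hub⟩ := ub_D4
  have hinj := (lb_of_checks Cfsg.Lie.coxeterD4 invOKD4 hmD4 relsOKD4 levelsD4 chainOKD4).2
    (by rw [chainProdD4]; exact hub)
  exact center_card_two Cfsg.Lie.coxeterD4 invOKD4 hmD4 relsOKD4 hinj (by norm_num) stabOKD4 fixOKD4
    transOKD4 rfl commOKD4 powNeD4

theorem center_F4 : Nat.card (Subgroup.center CoxeterMatrix.F₄.Group) = 2 ∧
    Subgroup.center CoxeterMatrix.F₄.Group ≤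
      Subgroup.zpowers ((List.finRange 4).map CoxeterMatrix.F₄.simple).prod := by
  obtain ⟨hfin, hub⟩ := ub_F4
  have hinj := (lb_of_checks CoxeterMatrix.F₄ invOKF4 hmF4 relsOKF4 levelsF4 chainOKF4).2
    (by rw [chainProdF4]; exact hub)
  exact center_card_two CoxeterMatrix.F₄ invOKF4 hmF4 relsOKF4 hinj (by norm_num) stabOKF4 fixOKF4
    transOKF4 rfl commOKF4 powNeF4

theorem center_E7 : Nat.card (Subgroup.center CoxeterMatrix.E₇.Group) = 2 ∧
    Subgroup.center CoxeterMatrix.E₇.Group ≤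
      Subgroup.zpowers ((List.finRange 7).map CoxeterMatrix.E₇.simple).prod := by
  obtain ⟨hfin, hub⟩ := ub_E7
  have hinj := (lb_of_checks CoxeterMatrix.E₇ invOKE7 hmE7 relsOKE7 levelsE7 chainOKE7).2
    (by rw [chainProdE7]; exact hub)
  exact center_card_two CoxeterMatrix.E₇ invOKE7 hmE7 relsOKE7 hinj (by norm_num) stabOKE7 fixOKE7
    transOKE7 rfl commOKE7 powNeE7

theorem center_E8 : Nat.card (Subgroup.center CoxeterMatrix.E₈.Group) = 2 ∧
    Subgroup.center CoxeterMatrix.E₈.Group ≤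
      Subgroup.zpowers ((List.finRange 8).map CoxeterMatrix.E₈.simple).prod := by
  obtain ⟨hfin, hub⟩ := ub_E8
  have hinj := (lb_of_checks CoxeterMatrix.E₈ invOKE8 hmE8 relsOKE8 levelsE8 chainOKE8).2
    (by rw [chainProdE8]; exact hub)
  exact center_card_two CoxeterMatrix.E₈ invOKE8 hmE8 relsOKE8 hinj (by norm_num) stabOKE8 fixOKE8
    transOKE8 rfl commOKE8 powNeE8

theorem center_E6 : Nat.card (Subgroup.center CoxeterMatrix.E₆.Group) = 1 ∧
    Subgroup.center CoxeterMatrix.E₆.Group ≤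
      Subgroup.zpowers ((List.finRange 6).map CoxeterMatrix.E₆.simple).prod := by
  obtain ⟨hfin, hub⟩ := ub_E6
  have hinj := (lb_of_checks CoxeterMatrix.E₆ invOKE6 hmE6 relsOKE6 levelsE6 chainOKE6).2
    (by rw [chainProdE6]; exact hub)
  exact center_card_one CoxeterMatrix.E₆ invOKE6 hmE6 relsOKE6 hinj (by norm_num) stabOKE6 fixOKE6
    transOKE6 rfl

/-- For the Coxeter groups of types B₂, G₂, D₄, F₄, E₇, E₈ the centre has order 2 (the element acting as −1 on the root system) and is generated by a power of the Coxeter element `s₁ s₂ ⋯ s_l`; the Coxeter group of type E₆ has trivial centre. -/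
theorem result (c : (Σ n : ℕ, CoxeterMatrix (Fin n)) × ℕ)
    (hc : c ∈ [(⟨2, CoxeterMatrix.B 2⟩, 2), (⟨2, CoxeterMatrix.G₂⟩, 2), (⟨4, Cfsg.Lie.coxeterD4⟩, 2), (⟨4, CoxeterMatrix.F₄⟩, 2),
      (⟨6, CoxeterMatrix.E₆⟩, 1), (⟨7, CoxeterMatrix.E₇⟩, 2), (⟨8, CoxeterMatrix.E₈⟩, 2)]) :
    Nat.card (Subgroup.center c.1.2.Group) = c.2 ∧
      Subgroup.center c.1.2.Group ≤ Subgroup.zpowers ((List.finRange c.1.1).map c.1.2.simple).prod := by

  simp only [List.mem_cons, List.not_mem_nil, or_false] at hc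
  rcases hc with rfl | rfl | rfl | rfl | rfl | rfl | rfl
  · exact center_B2
  · exact center_G2
  · exact center_D4
  · exact center_F4
  · exact center_E6
  · exact center_E7
  · exact center_E8

end Cfsg.Agent.S2418
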