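import Cfsg.Statements.S2424
import Cfsg.Agent.Lib.H12.ParabF

set_option autoImplicit false
open scoped MatrixGroups
open Cfsg

namespace Cfsg.Agent.S2424

/-- Degrees of the partition-indexed irreducible characters of `GL_n(q)`: for `ν` a partition of `n` with `n` non-decreasing parts `ν_0 ≤ ⋯ ≤ ν_{n−1}` (zeros allowed; positions counted from 0) and `λ_i = ν_i + i`, write `Q(r)` for the q-integer `1 + q + ⋯ + q^(r−1)` and `Q!(r)` for `Q(1)Q(2)⋯Q(r)`; then the degree `γ(ν)` of the character satisfies `γ(ν) · q^(n(n−1)(n−2)/6) · ∏_i Q!(λ_i) = Q!(n) · ∏_{i<j} (Q(λ_j) − Q(λ_i))`. For `ν = (1,…,1)` this gives the Steinberg degree `q^(n(n−1)/2)`, for `ν = (0,…,0,n)` degree 1. -/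
theorem result {F : Type*} [Field F] [Fintype F] {q : ℕ} (hq : Fintype.card F = q) {n : ℕ} (ν : Fin n → ℕ) (hmono : Monotone ν) (hsum : ∑ i, ν i = n) :
    Cfsg.unipotentCharacterGL n F ν 1 * (q : ℂ) ^ (n * (n - 1) * (n - 2) / 6) *
        ∏ i : Fin n, ∏ j ∈ Finset.range (ν i + i.val), ((∑ l ∈ Finset.range (j + 1), q ^ l : ℕ) : ℂ) =
      (∏ j ∈ Finset.range n, ((∑ l ∈ Finset.range (j + 1), q ^ l : ℕ) : ℂ)) *
        ∏ i : Fin n, ∏ j ∈ Finset.univ.filter (fun j : Fin n => i < j),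
          (((∑ l ∈ Finset.range (ν j + j.val), q ^ l : ℕ) : ℂ) - ((∑ l ∈ Finset.range (ν i + i.val), q ^ l : ℕ) : ℂ)) := by
  classical
  subst hq
  have hb : n * (n - 1) * (n - 2) / 6 = ∑ j ∈ Finset.range n, Cfsg.Agent.Lib.H12.Parab.TT j := by
    apply Nat.div_eq_of_eq_mul_right (by norm_num)
    exact (Cfsg.Agent.Lib.H12.Parab.six_sum_TT n).symm
  have hchar : Cfsg.unipotentCharacterGL n F ν 1 =
      ((∑ κ : Equiv.Perm (Fin n),
        if ∀ i : Fin n, ((κ i : Fin n) : ℕ) ≤ ν i + (i : ℕ) then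
          ((Equiv.Perm.sign κ : ℤ)) * (Nat.card (GL (Fin n) F ⧸
            Cfsg.parabolicGL n F fun i => ν i + (i : ℕ) - ((κ i : Fin n) : ℕ)) : ℤ)
        else 0 : ℤ) : ℂ) := by
    unfold Cfsg.unipotentCharacterGL
    rw [Int.cast_sum]
    apply Finset.sum_congr rfl
    intro κ _
    split_ifs with h
    · rw [Cfsg.Agent.Lib.H12.Parab.fixedPointCharacter_one]
      push_cast
      rfl
    · simp
  have hint := Cfsg.Agent.Lib.H12.Parab.degree_int (F := F) ν hsum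
  have hcast := congrArg (Int.cast : ℤ → ℂ) hint
  rw [hchar, hb]
  simp only [Cfsg.Agent.Lib.H12.Parab.QF, Cfsg.Agent.Lib.H12.Parab.Qn] at hcast
  push_cast at hcast ⊢
  rw [hcast]
  congr 1
  apply Finset.prod_congr rfl
  intro i _
  apply Finset.prod_congr
  · ext j
    simp
  · intro j _
    rfl

end Cfsg.Agent.S2424
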