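import Cfsg.Statements.S2427
import Cfsg.Agent.Lib.H2.SL23
import Cfsg.Agent.Lib.H12.SL2Syl2

set_option autoImplicit false
open Cfsg

namespace Cfsg.Agent.S2427

open Cfsg.Agent.Lib.H2.SL23 Cfsg.Agent.Lib.H12
open scoped commutatorElement

theorem two_ne : (2 : ZMod 3) ≠ 0 := by decide

theorem odd3 : Odd (Fintype.card (ZMod 3)) := by
  rw [ZMod.card]; decide

set_option maxRecDepth 100000 in
theorem keyC : ∀ g : G₀, g ^ 4 ≠ 1 →
    (g * A₀ * g⁻¹ * A₀⁻¹) * (g * A₀ * g⁻¹ * A₀⁻¹) = -1 := by decide

set_option maxRecDepth 100000 in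
theorem exists_not_pow : ∃ g : G₀, g ^ 4 ≠ 1 := by decide

theorem card_Q₀ : Nat.card Q₀ = 8 := by
  rw [Nat.card_congr equivQ₀.symm.toEquiv, Nat.card_eq_fintype_card, QuaternionGroup.card]

theorem q_cases (g : G₀) (hg : g ∈ Q₀) : g = 1 ∨ g = -1 ∨ g * g = -1 := by
  rw [mem_Q₀] at hg
  have h4 : (g * g) * (g * g) = 1 := by
    rw [← hg]
    norm_num [pow_succ, mul_assoc]
  rcases (sl2_mul_self_eq_one_iff two_ne (g * g)).mp h4 with h5 | h5
  · rcases (sl2_mul_self_eq_one_iff two_ne g).mp h5 with h6 | h6
    · left; exact h6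
    · right; left; exact h6
  · right; right; exact h5

theorem conj_of_sq (g h : G₀) (hg : g * g = -1) (hh : h * h = -1) : ∃ a : G₀, a * g * a⁻¹ = h := by
  have htg := trace_eq_zero_of_mul_self g hg
  have hth := trace_eq_zero_of_mul_self h hh
  have h1 := sl2_isConj_of_trace_regular odd3 g h
    (nonScalar_of_trace_sq_ne h (trace_sq_ne_of_mul_self two_ne h hh)) (by rw [htg, hth])
    (trace_sq_ne_of_mul_self two_ne g hg)
  exact isConj_iff.mp h1

/-- a normal subgroup containing an element of order four contains `Q₀` -/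
theorem Q₀_le (N : Subgroup G₀) (hN : N.Normal) (c : G₀) (hc : c ∈ N) (hcc : c * c = -1) : Q₀ ≤ N := by
  intro g hg
  rcases q_cases g hg with h | h | h
  · rw [h]; exact N.one_mem
  · rw [h, ← hcc]; exact N.mul_mem hc hc
  · obtain ⟨a, ha⟩ := conj_of_sq c g hcc h
    rw [← ha]
    exact hN.conj_mem c hc a

/-- a normal subgroup containing an element outside `Q₀` contains an element of order four -/
theorem exists_order_four (N : Subgroup G₀) (hN : N.Normal) (g : G₀) (hg : g ∈ N) (hg4 : g ^ 4 ≠ 1) :
    ∃ c ∈ N, c * c = -1 := by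
  refine ⟨g * A₀ * g⁻¹ * A₀⁻¹, ?_, keyC g hg4⟩
  have : g * A₀ * g⁻¹ * A₀⁻¹ = g * (A₀ * g⁻¹ * A₀⁻¹) := by group
  rw [this]
  exact N.mul_mem hg (hN.conj_mem _ (N.inv_mem hg) A₀)

theorem eq_or_eq_top (N : Subgroup G₀) (h : Q₀ ≤ N) : N = Q₀ ∨ N = ⊤ := by
  have h1 := Subgroup.index_dvd_of_le h
  rw [index_Q₀] at h1
  rcases (Nat.dvd_prime Nat.prime_three).mp h1 with h3 | h3
  · right; exact Subgroup.index_eq_one.mp h3
  · left
    symm
    apply Subgroup.eq_of_le_of_card_ge h
    have h4 := Subgroup.card_mul_index N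
    have h5 := Subgroup.card_mul_index Q₀
    rw [h3] at h4
    rw [index_Q₀] at h5
    omega

theorem commutator_eq : commutator G₀ = Q₀ := by
  apply le_antisymm
  · have hcard : Nat.card (G₀ ⧸ Q₀) = 3 := index_Q₀
    have : Fact (Nat.Prime 3) := ⟨Nat.prime_three⟩
    have : IsCyclic (G₀ ⧸ Q₀) := isCyclic_of_prime_card hcard
    let _ : CommGroup (G₀ ⧸ Q₀) := IsCyclic.commGroup
    have := Abelianization.commutator_subset_ker (QuotientGroup.mk' Q₀)
    rwa [QuotientGroup.ker_mk'] at this
  · obtain ⟨g, hg⟩ := exists_not_pow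
    apply Q₀_le _ inferInstance _ _ (keyC g hg)
    have : g * A₀ * g⁻¹ * A₀⁻¹ = ⁅g, A₀⁆ := (commutatorElement_def g A₀).symm
    rw [this, _root_.commutator_def]
    exact Subgroup.commutator_mem_commutator (Subgroup.mem_top g) (Subgroup.mem_top A₀)

theorem center_eq : ((Subgroup.center G₀ : Subgroup G₀) : Set G₀) = {1, -1} := by
  ext z
  constructor
  · intro hz
    rcases sl2_center_cases z hz with h | h
    · rw [h]; exact Set.mem_insert _ _
    · rw [h]; exact Set.mem_insert_of_mem _ rfl
  · rintro (h | h)
    · rw [h]; exact Subgroup.one_mem _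
    · rw [Set.mem_singleton_iff] at h
      rw [h]; exact sl2_neg_one_mem_center

theorem card_center : Nat.card (Subgroup.center G₀) = 2 := by
  have h1 : Nat.card (Subgroup.center G₀) = ((Subgroup.center G₀ : Subgroup G₀) : Set G₀).ncard :=
    Nat.card_coe_set_eq _
  rw [h1, center_eq]
  exact Set.ncard_pair (sl2_neg_one_ne_one two_ne).symm

theorem fact24 : (24 : ℕ).factorization 3 = 1 := by
  have : (24 : ℕ) = 3 * 8 := by norm_num
  rw [this, Nat.factorization_mul (by norm_num) (by norm_num)]
  simp [Nat.Prime.factorization_self Nat.prime_three, Nat.factorization_eq_zero_of_not_dvd]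

/-- The group SL₂ over the field with 3 elements has order 24 and centre of order 2; its commutator subgroup has order 8, is isomorphic to the quaternion group of order 8 and is complemented by every Sylow 3-subgroup (so the group is a semidirect product of a quaternion group of order 8 by a cyclic group of order 3); and its only normal subgroups besides the trivial subgroup and the whole group are the centre and the commutator subgroup. -/
theorem result :
    Nat.card (Matrix.SpecialLinearGroup (Fin 2) (ZMod 3)) = 24 ∧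
    Nat.card (Subgroup.center (Matrix.SpecialLinearGroup (Fin 2) (ZMod 3))) = 2 ∧
    Nat.card (commutator (Matrix.SpecialLinearGroup (Fin 2) (ZMod 3))) = 8 ∧
    Nonempty (commutator (Matrix.SpecialLinearGroup (Fin 2) (ZMod 3)) ≃* QuaternionGroup 2) ∧
    (∀ P : Sylow 3 (Matrix.SpecialLinearGroup (Fin 2) (ZMod 3)),
      Subgroup.IsComplement' (commutator (Matrix.SpecialLinearGroup (Fin 2) (ZMod 3)))
        (P : Subgroup (Matrix.SpecialLinearGroup (Fin 2) (ZMod 3)))) ∧
    ∀ N : Subgroup (Matrix.SpecialLinearGroup (Fin 2) (ZMod 3)), N.Normal →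
      N = ⊥ ∨ N = ⊤ ∨ N = Subgroup.center (Matrix.SpecialLinearGroup (Fin 2) (ZMod 3)) ∨
        N = commutator (Matrix.SpecialLinearGroup (Fin 2) (ZMod 3)) := by
  have hG : Nat.card G₀ = 24 := by rw [Nat.card_eq_fintype_card, card_G₀]
  have hcomm : Nat.card (commutator G₀) = 8 := by rw [commutator_eq, card_Q₀]
  refine ⟨hG, card_center, hcomm, ?_, ?_, ?_⟩
  · rw [commutator_eq]
    exact ⟨equivQ₀.symm⟩
  · intro P
    have : Fact (Nat.Prime 3) := ⟨Nat.prime_three⟩
    have hP : Nat.card (P : Subgroup G₀) = 3 := by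
      rw [Sylow.card_eq_multiplicity, hG, fact24, pow_one]
    apply Subgroup.isComplement'_of_coprime
    · rw [hcomm, hP, hG]
    · rw [hcomm, hP]; decide
  · intro N hN
    by_cases h1 : ∃ g ∈ N, g ^ 4 ≠ 1
    · obtain ⟨g, hg, hg4⟩ := h1
      obtain ⟨c, hc, hcc⟩ := exists_order_four N hN g hg hg4
      rcases eq_or_eq_top N (Q₀_le N hN c hc hcc) with h3 | h3
      · exfalso
        apply hg4
        rw [h3] at hg
        exact hg
      · right; left; exact h3
    · push Not at h1
      by_cases h3 : ∃ c ∈ N, c * c = -1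
      · obtain ⟨c, hc, hcc⟩ := h3
        right; right; right
        rw [commutator_eq]
        exact le_antisymm (fun g hg => h1 g hg) (Q₀_le N hN c hc hcc)
      · push Not at h3
        have hN' : ∀ g ∈ N, g = 1 ∨ g = -1 := by
          intro g hg
          rcases q_cases g (h1 g hg) with h | h | h
          · left; exact h
          · right; exact h
          · exact absurd h (h3 g hg)
        by_cases h5 : (-1 : G₀) ∈ N
        · right; right; left
          ext g
          constructor
          · intro hg
            rcases hN' g hg with h | h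
            · rw [h]; exact Subgroup.one_mem _
            · rw [h]; exact sl2_neg_one_mem_center
          · intro hg
            rcases sl2_center_cases g hg with h | h
            · rw [h]; exact N.one_mem
            · rw [h]; exact h5
        · left
          rw [Subgroup.eq_bot_iff_forall]
          intro g hg
          rcases hN' g hg with h | h
          · exact h
          · rw [h] at hg; exact absurd hg h5

end Cfsg.Agent.S2427
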