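-- Statement S2429
import Cfsg.Statements.S2429
import Cfsg.Agent.Lib.H12.SL2Ell

set_option autoImplicit false
open Cfsg

namespace Cfsg.Agent.S2429

open Matrix Cfsg.Agent.Lib.H12

/-- Let F be a finite field with q elements, q odd. Then SL₂ over F contains a cyclic subgroup T′ of order q + 1 (a non-split torus) with the following properties: T′ is its own centraliser, and indeed the centraliser of each element of T′ other than 1 and −1 is exactly T′; every element of SL₂ having no eigenvector in F² is conjugate to an element of T′; the normaliser of T′ has order 2(q + 1) and exactly (q + 7)/2 conjugacy classes; and every element of that normaliser outside T′ has square −1. -/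
theorem result {F : Type*} [Field F] [Fintype F] (hodd : Odd (Fintype.card F)) :
    ∃ T' : Subgroup (Matrix.SpecialLinearGroup (Fin 2) F), IsCyclic T' ∧ Nat.card T' = Fintype.card F + 1 ∧
      Subgroup.centralizer ((T' : Set (Matrix.SpecialLinearGroup (Fin 2) F))) = T' ∧
      (∀ g : Matrix.SpecialLinearGroup (Fin 2) F, g ∈ T' → (g : Matrix (Fin 2) (Fin 2) F) ≠ 1 → (g : Matrix (Fin 2) (Fin 2) F) ≠ -1 → Subgroup.centralizer ({g} : Set (Matrix.SpecialLinearGroup (Fin 2) F)) = T') ∧
      (∀ g : Matrix.SpecialLinearGroup (Fin 2) F, (∀ (c : F) (v : Fin 2 → F), v ≠ 0 → (g : Matrix (Fin 2) (Fin 2) F).mulVec v ≠ c • v) → ∃ h : Matrix.SpecialLinearGroup (Fin 2) F, h * g * h⁻¹ ∈ T') ∧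
      Nat.card (Subgroup.normalizer (T' : Set (Matrix.SpecialLinearGroup (Fin 2) F))) = 2 * (Fintype.card F + 1) ∧
      Nat.card (ConjClasses (Subgroup.normalizer (T' : Set (Matrix.SpecialLinearGroup (Fin 2) F)))) = (Fintype.card F + 7) / 2 ∧
      ∀ g : Matrix.SpecialLinearGroup (Fin 2) F, g ∈ Subgroup.normalizer (T' : Set (Matrix.SpecialLinearGroup (Fin 2) F)) → g ∉ T' → ((g * g) : Matrix (Fin 2) (Fin 2) F) = -1 := by
  have h2 : (2 : F) ≠ 0 := two_ne_zero_of_odd hodd
  obtain ⟨t, ht⟩ := exists_noRoot (F := F)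
  have := ht.fact
  have hcard : Nat.card (torusT t) = Fintype.card F + 1 := card_torusT
  have hcent := centralizer_sl2Comp t
  have hns := nonScalar_sl2Comp t
  have htr : ((sl2Comp t : Matrix.SpecialLinearGroup (Fin 2) F) : Matrix (Fin 2) (Fin 2) F).trace ^ 2 ≠ 4 := by
    rw [trace_sl2Comp]
    exact ht.trace_sq_ne h2
  obtain ⟨hN, hK⟩ := classes_normalizer hodd htr
  rw [hcent] at hN hK
  refine ⟨torusT t, isCyclic_torusT, hcard, ?_, ?_, ?_, ?_, ?_, ?_⟩
  · -- self-centralizing
    apply le_antisymm
    · intro g hg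
      rw [← hcent, Subgroup.mem_centralizer_singleton_iff]
      exact (Subgroup.mem_centralizer_iff.mp hg _ (sl2Comp_mem_torusT t)).symm
    · intro g hg
      rw [Subgroup.mem_centralizer_iff]
      intro h hh
      rw [← hcent] at hg
      rw [SetLike.mem_coe, ← hcent] at hh
      exact centralizer_comm hns hh hg
  · intro g hg h1 hm1
    rw [← hcent] at hg ⊢
    apply centralizer_eq_of_mem hns _ hg
    rintro ⟨h01, h10, h00⟩
    have hdet := g.det_coe
    rw [Matrix.det_fin_two, h01, zero_mul, sub_zero, ← h00] at hdet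
    have h5 : ((g : Matrix (Fin 2) (Fin 2) F) 0 0 - 1) * ((g : Matrix (Fin 2) (Fin 2) F) 0 0 + 1) = 0 := by
      linear_combination hdet
    rcases mul_eq_zero.mp h5 with h6 | h6
    · apply h1
      ext i j
      fin_cases i <;> fin_cases j <;> simp [h01, h10, ← h00, sub_eq_zero.mp h6]
    · apply hm1
      ext i j
      fin_cases i <;> fin_cases j <;> simp [h01, h10, ← h00, eq_neg_of_add_eq_zero_left h6]
  · intro g hg
    exact exists_conj_mem_torusT hodd ht g hg
  · rw [hN, hcard]
  · rw [hcard] at hK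
    omega
  · intro g hg hgT
    rw [← hcent] at hg hgT
    exact sq_eq_neg_one_of_mem_normalizer h2 htr hg hgT

end Cfsg.Agent.S2429
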