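import Cfsg.Statements.S2433
import Cfsg.Agent.Lib.H12.SL2Ind2

set_option autoImplicit false
open Cfsg

namespace Cfsg.Agent.S2433

open Cfsg.Agent.Lib.H12 Matrix

/-- Let F be a finite field with q elements, q odd, α a multiplicative character of F, and R(α) the function on SL₂ induced from the linear character b ↦ α(b₁₁) of the upper triangular subgroup. Then R(α) takes the value α(a) + α(a⁻¹) at a diagonal element with entries a, a⁻¹, a² ≠ 1; the value 0 at every element with no eigenvector in F²; the value α(ε) at an upper triangular element with both diagonal entries ε and non-zero upper right entry; and the value (q + 1)α(ε) at the scalar element ε (ε = ±1). -/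
theorem result {F : Type*} [Field F] [Fintype F] [DecidableEq F] (hodd : Odd (Fintype.card F)) (α : MulChar F ℂ) (g : Matrix.SpecialLinearGroup (Fin 2) F) :
    ((g : Matrix (Fin 2) (Fin 2) F) 0 1 = 0 → (g : Matrix (Fin 2) (Fin 2) F) 1 0 = 0 → (g : Matrix (Fin 2) (Fin 2) F) 0 0 ^ 2 ≠ 1 →
      (Cfsg.indFun ((Cfsg.upperTriangularGL 2 F).comap Matrix.SpecialLinearGroup.toGL) (fun b => α (((b : Matrix.SpecialLinearGroup (Fin 2) F) : Matrix (Fin 2) (Fin 2) F) 0 0))) g = α ((g : Matrix (Fin 2) (Fin 2) F) 0 0) + α ((g : Matrix (Fin 2) (Fin 2) F) 1 1)) ∧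
    ((∀ (c : F) (v : Fin 2 → F), v ≠ 0 → (g : Matrix (Fin 2) (Fin 2) F).mulVec v ≠ c • v) → (Cfsg.indFun ((Cfsg.upperTriangularGL 2 F).comap Matrix.SpecialLinearGroup.toGL) (fun b => α (((b : Matrix.SpecialLinearGroup (Fin 2) F) : Matrix (Fin 2) (Fin 2) F) 0 0))) g = 0) ∧
    ((g : Matrix (Fin 2) (Fin 2) F) 1 0 = 0 → (g : Matrix (Fin 2) (Fin 2) F) 0 0 = (g : Matrix (Fin 2) (Fin 2) F) 1 1 → (g : Matrix (Fin 2) (Fin 2) F) 0 1 ≠ 0 →
      (Cfsg.indFun ((Cfsg.upperTriangularGL 2 F).comap Matrix.SpecialLinearGroup.toGL) (fun b => α (((b : Matrix.SpecialLinearGroup (Fin 2) F) : Matrix (Fin 2) (Fin 2) F) 0 0))) g = α ((g : Matrix (Fin 2) (Fin 2) F) 0 0)) ∧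
    ((g : Matrix (Fin 2) (Fin 2) F) 0 1 = 0 → (g : Matrix (Fin 2) (Fin 2) F) 1 0 = 0 → (g : Matrix (Fin 2) (Fin 2) F) 0 0 = (g : Matrix (Fin 2) (Fin 2) F) 1 1 →
      (Cfsg.indFun ((Cfsg.upperTriangularGL 2 F).comap Matrix.SpecialLinearGroup.toGL) (fun b => α (((b : Matrix.SpecialLinearGroup (Fin 2) F) : Matrix (Fin 2) (Fin 2) F) 0 0))) g = ((Fintype.card F : ℂ) + 1) * α ((g : Matrix (Fin 2) (Fin 2) F) 0 0)) := by
  have hval := indFun_borelCharSL_apply α g
  have hform : Cfsg.indFun ((Cfsg.upperTriangularGL 2 F).comap Matrix.SpecialLinearGroup.toGL) (fun b => α (((b : Matrix.SpecialLinearGroup (Fin 2) F) : Matrix (Fin 2) (Fin 2) F) 0 0)) g =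
      Cfsg.indFun (borelSL F) (borelCharSL α) g := rfl
  rw [hform, hval]
  have hdet := g.det_coe
  rw [Matrix.det_fin_two] at hdet
  refine ⟨?_, ?_, ?_, ?_⟩
  · intro h01 h10 hne
    rw [h01, h10, if_pos rfl]
    rw [h01, h10] at hdet
    have hprod : (g : Matrix (Fin 2) (Fin 2) F) 0 0 * (g : Matrix (Fin 2) (Fin 2) F) 1 1 = 1 := by
      linear_combination hdet
    have hne' : (g : Matrix (Fin 2) (Fin 2) F) 0 0 ≠ (g : Matrix (Fin 2) (Fin 2) F) 1 1 := by
      intro h
      apply hne
      rw [pow_two]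
      nth_rewrite 2 [h]
      exact hprod
    congr 1
    rw [Finset.sum_eq_single (0 : F)]
    · simp
    · intro t _ ht
      rw [if_neg]
      intro h
      apply ht
      have : t * ((g : Matrix (Fin 2) (Fin 2) F) 0 0 - (g : Matrix (Fin 2) (Fin 2) F) 1 1) = 0 := by
        linear_combination h
      exact (mul_eq_zero.mp this).resolve_right (sub_ne_zero.mpr hne')
    · intro h; exact absurd (Finset.mem_univ _) h
  · intro hA
    have h10 : (g : Matrix (Fin 2) (Fin 2) F) 1 0 ≠ 0 := by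
      intro h10
      apply hA ((g : Matrix (Fin 2) (Fin 2) F) 0 0) ![1, 0] (by
        intro h
        have := congrFun h 0
        simp at this)
      ext i
      fin_cases i <;> simp [Matrix.mulVec, dotProduct, Fin.sum_univ_two, h10]
    rw [if_neg h10, zero_add]
    apply Finset.sum_eq_zero
    intro t _
    rw [if_neg]
    intro h2
    apply hA ((g : Matrix (Fin 2) (Fin 2) F) 1 0 * t + (g : Matrix (Fin 2) (Fin 2) F) 1 1) ![t, 1] (by
      intro h
      have := congrFun h 1
      simp at this)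
    ext i
    fin_cases i
    · simp [Matrix.mulVec, dotProduct, Fin.sum_univ_two]
      linear_combination h2
    · simp [Matrix.mulVec, dotProduct, Fin.sum_univ_two]
  · intro h10 h00 h01
    rw [h10, if_pos rfl, ← h00]
    rw [Finset.sum_eq_zero, add_zero]
    intro t _
    rw [if_neg]
    intro h
    apply h01
    linear_combination h
  · intro h01 h10 h00
    rw [h01, h10, if_pos rfl, ← h00]
    have : ∀ t : F, (if (g : Matrix (Fin 2) (Fin 2) F) 0 0 * t + 0 = t * (0 * t + (g : Matrix (Fin 2) (Fin 2) F) 0 0) then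
        α (0 * t + (g : Matrix (Fin 2) (Fin 2) F) 0 0) else 0) = α ((g : Matrix (Fin 2) (Fin 2) F) 0 0) := by
      intro t
      rw [if_pos (by ring)]
      simp
    rw [Finset.sum_congr rfl (fun t _ => this t), Finset.sum_const, Finset.card_univ, nsmul_eq_mul]
    ring

end Cfsg.Agent.S2433
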