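import Cfsg.Statements.S2435
import Cfsg.Agent.Lib.H12.SL2TorusRes
import Cfsg.Agent.Lib.H12.SL2Count

set_option autoImplicit false
open Cfsg

namespace Cfsg.Agent.S2435


open Cfsg.Agent.Lib.H12 Cfsg.Agent.Lib.L0 Cfsg.Agent.Lib.H24 in
/-- the values of the multiplicative character of order two -/
theorem mulChar_order_two_apply {F : Type*} [Field F] [Fintype F] {γ : MulChar F ℂ} (h1 : γ ≠ 1)
    (h2 : γ ^ 2 = 1) (a : F) (ha : a ≠ 0) :
    (IsSquare a → γ a = 1) ∧ (¬ IsSquare a → γ a = -1) := by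
  have hsq : ∀ x : F, x ≠ 0 → γ x ^ 2 = 1 := by
    intro x hx
    rw [← MulChar.pow_apply' γ (by norm_num : (2 : ℕ) ≠ 0), h2, MulChar.one_apply (isUnit_iff_ne_zero.mpr hx)]
  constructor
  · rintro ⟨b, rfl⟩
    have hb : b ≠ 0 := by
      rintro rfl
      exact ha (by simp)
    rw [map_mul, ← sq, hsq b hb]
  · intro hns
    obtain ⟨x, hx⟩ := MulChar.ne_one_iff.mp h1
    have hx0 : (x : F) ≠ 0 := x.ne_zero
    have hxm : γ x = -1 := by
      have h3 : (γ x - 1) * (γ x + 1) = 0 := by linear_combination hsq x hx0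
      rcases mul_eq_zero.mp h3 with h | h
      · exact absurd (by linear_combination h) hx
      · linear_combination h
    have hxns : ¬ IsSquare (x : F) := by
      rintro ⟨b, hb⟩
      apply hx
      have hb0 : b ≠ 0 := by
        rintro rfl
        rw [mul_zero] at hb
        exact hx0 hb
      rw [hb, map_mul, ← sq, hsq b hb0]
    obtain ⟨b, hb⟩ := isSquare_mul_of_not_isSquare hns hxns
    have hb0 : b ≠ 0 := by
      rintro rfl
      rw [mul_zero] at hb
      exact (mul_ne_zero ha hx0) hb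
    have h3 : γ (a * x) = 1 := by rw [hb, map_mul, ← sq, hsq b hb0]
    rw [map_mul, hxm] at h3
    linear_combination -h3

/-- Let F be a finite field with q elements, q odd and q ≥ 5, and χ an irreducible complex character of SL₂ over F. If χ has degree (q + 1)/2, then at a diagonal element with entry a, a² ≠ 1, χ takes the value 1 when a is a square in F and −1 otherwise. If χ has degree (q − 1)/2, then at an element g with no eigenvector in F² (so g has order dividing q + 1), χ takes the value −1 when g raised to the power (q + 1)/2 is the identity and the value 1 otherwise. -/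
theorem result {F : Type*} [Field F] [Fintype F] (hodd : Odd (Fintype.card F)) (hq : 5 ≤ Fintype.card F)
    (χ : Matrix.SpecialLinearGroup (Fin 2) F → ℂ) (hχ : Cfsg.IsIrrCharacter (Matrix.SpecialLinearGroup (Fin 2) F) χ) (g : Matrix.SpecialLinearGroup (Fin 2) F) :
    (χ 1 = (((Fintype.card F + 1) / 2 : ℕ) : ℂ) → (g : Matrix (Fin 2) (Fin 2) F) 0 1 = 0 → (g : Matrix (Fin 2) (Fin 2) F) 1 0 = 0 → (g : Matrix (Fin 2) (Fin 2) F) 0 0 ^ 2 ≠ 1 →
      (IsSquare ((g : Matrix (Fin 2) (Fin 2) F) 0 0) → χ g = 1) ∧ (¬ IsSquare ((g : Matrix (Fin 2) (Fin 2) F) 0 0) → χ g = -1)) ∧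
    (χ 1 = (((Fintype.card F - 1) / 2 : ℕ) : ℂ) → (∀ (c : F) (v : Fin 2 → F), v ≠ 0 → (g : Matrix (Fin 2) (Fin 2) F).mulVec v ≠ c • v) →
      (((g ^ ((Fintype.card F + 1) / 2)) : Matrix (Fin 2) (Fin 2) F) = 1 → χ g = -1) ∧ (((g ^ ((Fintype.card F + 1) / 2)) : Matrix (Fin 2) (Fin 2) F) ≠ 1 → χ g = 1)) := by
  classical
  open Cfsg.Agent.Lib.H12 Cfsg.Agent.Lib.L0 Cfsg.Agent.Lib.H24 in
  have h2F : (2 : F) ≠ 0 := two_ne_zero_of_odd hodd
  obtain ⟨m, hm⟩ := hodd
  obtain ⟨k, hk, hcases⟩ := Cfsg.Agent.Lib.H12.sl2_irr_classification_deg hχ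
  constructor
  · intro hdeg h01 h10 hsq
    have hkk : k = (Fintype.card F + 1) / 2 := by
      rw [hk] at hdeg
      exact_mod_cast hdeg
    rcases hcases with ⟨-, h⟩ | ⟨-, h⟩ | ⟨γ, -, -, h⟩ | ⟨γ, χ', δ, hγ1, hγ2, hχ', hne, hsum, hx, h⟩ |
      ⟨π, -, -, h⟩ | ⟨π, χ', δ, -, -, -, -, -, h⟩
    · omega
    · omega
    · omega
    · have h1 : χ g = χ' g := Cfsg.Agent.Lib.H12.eq_of_diag hx h01 h10
      have h3 := Cfsg.Agent.Lib.H12.psCharSL_apply_split γ g h01 h10 hsq
      rw [hsum, Pi.add_apply, ← h1] at h3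
      have hdet := g.det_coe
      rw [Matrix.det_fin_two, h01, zero_mul, sub_zero] at hdet
      have h00 : (g : Matrix (Fin 2) (Fin 2) F) 0 0 ≠ 0 := by
        intro h0
        rw [h0, zero_mul] at hdet
        exact zero_ne_one hdet
      have h11 : (g : Matrix (Fin 2) (Fin 2) F) 1 1 ≠ 0 := by
        intro h0
        rw [h0, mul_zero] at hdet
        exact zero_ne_one hdet
      have hγ := mulChar_order_two_apply hγ1 hγ2 _ h00
      have hγ' := mulChar_order_two_apply hγ1 hγ2 _ h11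
      have hiff : IsSquare ((g : Matrix (Fin 2) (Fin 2) F) 1 1) ↔ IsSquare ((g : Matrix (Fin 2) (Fin 2) F) 0 0) := by
        have := (Cfsg.Agent.Lib.H12.isSquare_mul_iff h00 h11).mp (by rw [hdet]; exact ⟨1, by simp⟩)
        exact this.symm
      constructor
      · intro hs
        rw [hγ.1 hs, hγ'.1 (hiff.mpr hs)] at h3
        linear_combination (1 / 2 : ℂ) * h3
      · intro hs
        rw [hγ.2 hs, hγ'.2 (fun h => hs (hiff.mp h))] at h3
        linear_combination (1 / 2 : ℂ) * h3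
    · omega
    · omega
  · intro hdeg hg
    have hkk : k = (Fintype.card F - 1) / 2 := by
      rw [hk] at hdeg
      exact_mod_cast hdeg
    rcases hcases with ⟨-, h⟩ | ⟨-, h⟩ | ⟨γ, -, -, h⟩ | ⟨γ, χ', δ, -, -, -, -, -, -, h⟩ |
      ⟨π, -, -, h⟩ | ⟨π, χ', δ, hπ, hχ', hne, hsum, hx, h⟩
    · omega
    · omega
    · omega
    · omega
    · omega
    · have hodd' : Odd (Fintype.card F) := ⟨m, hm⟩
      have hell : Cfsg.Agent.Lib.H12.IsElliptic g := hg
      have ht := hell.trace_sq_ne h2F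
      obtain ⟨hcyc, -, hcard⟩ := Cfsg.Agent.Lib.H12.regular_centralizer hodd' g ht
      have hcard' := hcard ((Cfsg.Agent.Lib.H12.noRoot_of_noEigen g hg).disc_not_isSquare h2F)
      have hC : Cfsg.Agent.Lib.H12.IsNonsplitTorus (Subgroup.centralizer ({g} : Set (Matrix.SpecialLinearGroup (Fin 2) F))) :=
        ⟨hcard', g, hell, rfl⟩
      obtain ⟨θ, hθ, hθ1, hval⟩ :=
        Cfsg.Agent.Lib.H12.half_cusp_torus_values hC hodd' hq hπ hχ hχ' hne hsum hx
      have hgZ := hell.not_mem_center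
      have hv := hval ⟨g, Cfsg.Agent.Lib.H12.self_mem_centralizer g⟩ hgZ
      have : Fintype (Subgroup.centralizer ({g} : Set (Matrix.SpecialLinearGroup (Fin 2) F))) := Fintype.ofFinite _
      have hiff := Cfsg.Agent.Lib.H12.hom_real_eq_one_iff ((Fintype.card F + 1) / 2)
        (by rw [hcard']; omega) θ hθ hθ1 ⟨g, Cfsg.Agent.Lib.H12.self_mem_centralizer g⟩
      have hpow : (⟨g, Cfsg.Agent.Lib.H12.self_mem_centralizer g⟩ :
          Subgroup.centralizer ({g} : Set (Matrix.SpecialLinearGroup (Fin 2) F))) ^ ((Fintype.card F + 1) / 2) = 1 ↔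
          ((g ^ ((Fintype.card F + 1) / 2) : Matrix.SpecialLinearGroup (Fin 2) F) : Matrix (Fin 2) (Fin 2) F) = 1 := by
        rw [Subtype.ext_iff, Subgroup.coe_pow, Subgroup.coe_one]
        constructor
        · intro h; rw [h]; rfl
        · intro h; exact Subtype.ext h
      simp only at hv
      constructor
      · intro hp
        have := hiff.mpr (hpow.mpr hp)
        rw [hv, this]
        simp
      · intro hp
        have hne1 : θ ⟨g, Cfsg.Agent.Lib.H12.self_mem_centralizer g⟩ ≠ 1 := fun h => hp (hpow.mp (hiff.mp h))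
        rcases Cfsg.Agent.Lib.H12.hom_real_apply θ hθ ⟨g, Cfsg.Agent.Lib.H12.self_mem_centralizer g⟩ with h | h
        · exact absurd h hne1
        · rw [hv, h]
          simp

end Cfsg.Agent.S2435
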