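import Cfsg.Statements.S2436
import Cfsg.Agent.Lib.H12.SL2McKayG
import Cfsg.Agent.Lib.H12.TorusMcKay
import Cfsg.Agent.Lib.H12.Syl2McKay
import Cfsg.Agent.Lib.H12.BorelMcKay

set_option autoImplicit false
open Cfsg

namespace Cfsg.Agent.S2436

/-- Let F be a finite field with q elements, q odd, ℓ any prime and S a Sylow ℓ-subgroup of SL₂ over F with normaliser N. Then SL₂ and N have the same number of irreducible complex characters of degree not divisible by ℓ (the McKay equality holds for SL₂ over F at every prime). -/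
theorem result {F : Type*} [Field F] [Fintype F] (hodd : Odd (Fintype.card F)) (ℓ : ℕ) [Fact ℓ.Prime] (S : Sylow ℓ (Matrix.SpecialLinearGroup (Fin 2) F)) :
    Nat.card {χ : Cfsg.IrrCharacter (Matrix.SpecialLinearGroup (Fin 2) F) // ¬ ℓ ∣ Cfsg.charDegree (χ : Matrix.SpecialLinearGroup (Fin 2) F → ℂ)} =
      Nat.card {ψ : Cfsg.IrrCharacter (Subgroup.normalizer ((S : Subgroup (Matrix.SpecialLinearGroup (Fin 2) F)) : Set (Matrix.SpecialLinearGroup (Fin 2) F))) //
        ¬ ℓ ∣ Cfsg.charDegree (ψ : Subgroup.normalizer ((S : Subgroup (Matrix.SpecialLinearGroup (Fin 2) F)) : Set (Matrix.SpecialLinearGroup (Fin 2) F)) → ℂ)} := by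
  classical
  have hℓ : ℓ.Prime := Fact.out
  have hq1 : 1 < Fintype.card F := Fintype.one_lt_card
  show Cfsg.Agent.Lib.H12.mckay ℓ (Matrix.SpecialLinearGroup (Fin 2) F) =
    Cfsg.Agent.Lib.H12.mckay ℓ (Subgroup.normalizer
      ((S : Subgroup (Matrix.SpecialLinearGroup (Fin 2) F)) : Set (Matrix.SpecialLinearGroup (Fin 2) F)))
  have hq35 : Fintype.card F = 3 ∨ 5 ≤ Fintype.card F := by
    obtain ⟨m, hm⟩ := hodd
    omega
  by_cases hdq : ℓ ∣ Fintype.card F
  · -- the defining characteristic
    rw [Cfsg.Agent.Lib.H12.mckay_normalizer_sylow_char hodd ℓ hdq S]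
    rcases hq35 with hq3 | hq5
    · have hℓ3 : ℓ = 3 := by
        rw [hq3] at hdq
        exact (Nat.prime_dvd_prime_iff_eq hℓ Nat.prime_three).mp hdq
      subst hℓ3
      rw [(Cfsg.Agent.Lib.H12.mckay_sl2_card_three hq3).2, hq3]
    · exact (Cfsg.Agent.Lib.H12.mckay_sl2_cases hodd hq5 ℓ hℓ).1 hdq
  · by_cases hℓ2 : ℓ = 2
    · subst hℓ2
      rw [Cfsg.Agent.Lib.H12.mckay_normalizer_sylow_two hodd S]
      rcases hq35 with hq3 | hq5
      · exact (Cfsg.Agent.Lib.H12.mckay_sl2_card_three hq3).1
      · exact (Cfsg.Agent.Lib.H12.mckay_sl2_cases hodd hq5 2 hℓ).2.1 rfl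
    · have hNside := Cfsg.Agent.Lib.H12.mckay_normalizer_sylow_odd hodd ℓ hℓ2 hdq S
      by_cases hd1 : ℓ ∣ Fintype.card F - 1
      · have hq5 : 5 ≤ Fintype.card F := by
          rcases hq35 with hq3 | hq5
          · exfalso
            rw [hq3] at hd1
            exact hℓ2 ((Nat.prime_dvd_prime_iff_eq hℓ Nat.prime_two).mp hd1)
          · exact hq5
        have hG := (Cfsg.Agent.Lib.H12.mckay_sl2_cases hodd hq5 ℓ hℓ).2.2.1 hℓ2 hd1
        have hN := hNside.1 hd1
        omega
      · by_cases hd2 : ℓ ∣ Fintype.card F + 1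
        · have hq5 : 5 ≤ Fintype.card F := by
            rcases hq35 with hq3 | hq5
            · exfalso
              rw [hq3] at hd2
              have h4 : ℓ ∣ 2 ^ 2 := by norm_num; exact hd2
              exact hℓ2 ((Nat.prime_dvd_prime_iff_eq hℓ Nat.prime_two).mp (hℓ.dvd_of_dvd_pow h4))
            · exact hq5
          have hG := (Cfsg.Agent.Lib.H12.mckay_sl2_cases hodd hq5 ℓ hℓ).2.2.2 hℓ2 hd2
          have hN := hNside.2 hd2
          omega
        · -- `ℓ` does not divide the group order
          have hcard : Nat.card (Matrix.SpecialLinearGroup (Fin 2) F) =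
              Fintype.card F * (Fintype.card F ^ 2 - 1) := Cfsg.Agent.Lib.H12.card_SL2
          have hfac : Fintype.card F ^ 2 - 1 = (Fintype.card F - 1) * (Fintype.card F + 1) := by
            obtain ⟨k, hk⟩ : ∃ k, Fintype.card F = k + 1 := ⟨Fintype.card F - 1, by omega⟩
            rw [hk]
            have : (k + 1) ^ 2 - 1 = k * (k + 2) := by
              have : (k + 1) ^ 2 = k * (k + 2) + 1 := by ring
              omega
            rw [this]
            rfl
          have hnd : ¬ ℓ ∣ Nat.card (Matrix.SpecialLinearGroup (Fin 2) F) := by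
            rw [hcard, hfac]
            intro h
            rcases (Nat.Prime.dvd_mul hℓ).mp h with h' | h'
            · exact hdq h'
            · rcases (Nat.Prime.dvd_mul hℓ).mp h' with h'' | h''
              · exact hd1 h''
              · exact hd2 h''
          have hS1 : Nat.card (S : Subgroup (Matrix.SpecialLinearGroup (Fin 2) F)) = 1 := by
            rw [Sylow.card_eq_multiplicity, Nat.factorization_eq_zero_of_not_dvd hnd, pow_zero]
          have hSbot : (S : Subgroup (Matrix.SpecialLinearGroup (Fin 2) F)) = ⊥ :=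
            Subgroup.eq_bot_of_card_eq _ hS1
          have hN : Subgroup.normalizer ((S : Subgroup (Matrix.SpecialLinearGroup (Fin 2) F)) :
              Set (Matrix.SpecialLinearGroup (Fin 2) F)) = ⊤ := by
            rw [hSbot]
            exact Subgroup.normalizer_eq_top_iff.mpr inferInstance
          rw [Cfsg.Agent.Lib.H12.mckay_congr ℓ (MulEquiv.subgroupCongr hN),
            Cfsg.Agent.Lib.H12.mckay_congr ℓ Subgroup.topEquiv]

end Cfsg.Agent.S2436
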