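-- Statement S2437
import Cfsg.Statements.S2437
import Cfsg.Agent.Lib.H12.SL2Ind2
import Cfsg.Agent.Lib.H12.SL2Odd

set_option autoImplicit false
open Cfsg

namespace Cfsg.Agent.S2437

open Matrix Cfsg.Agent.Lib.H12

variable {F : Type*} [Field F]

/-- the commuting condition in coordinates -/
def CommCond (x y : Fˣ × F) : Prop :=
  y.2 * ((x.1 : F) - (x.1 : F)⁻¹) = x.2 * ((y.1 : F) - (y.1 : F)⁻¹)

theorem commute_borelMkSL_iff (x y : Fˣ × F) :
    Commute (borelMkSL x) (borelMkSL y) ↔ CommCond x y := by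
  unfold CommCond
  rw [commute_iff_eq]
  constructor
  · intro h
    have h' := congrArg (fun b : borelSL F =>
      ((b : Matrix.SpecialLinearGroup (Fin 2) F) : Matrix (Fin 2) (Fin 2) F) 0 1) h
    simp only [Subgroup.coe_mul, Matrix.SpecialLinearGroup.coe_mul, borelMkSL_val,
      Matrix.mul_apply, Fin.sum_univ_two] at h'
    simp at h'
    linear_combination h'
  · intro h
    apply Subtype.ext
    apply Subtype.ext
    simp only [Subgroup.coe_mul, Matrix.SpecialLinearGroup.coe_mul, borelMkSL_val]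
    ext i j
    fin_cases i <;> fin_cases j <;> simp [Matrix.mul_apply, Fin.sum_univ_two]
    · ring
    · linear_combination h
    · ring

variable [Fintype F]

theorem card_line (s s' : F) (h : ¬ (s = 0 ∧ s' = 0)) :
    Nat.card {x : F × F // x.2 * s = x.1 * s'} = Fintype.card F := by
  rw [← Nat.card_eq_fintype_card]
  apply Nat.card_congr
  by_cases hs : s = 0
  · have hs' : s' ≠ 0 := fun h' => h ⟨hs, h'⟩
    refine ⟨fun x => x.1.2, fun b => ⟨(0, b), by simp [hs]⟩, ?_, ?_⟩
    · rintro ⟨⟨b, b'⟩, hx⟩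
      simp only [hs, mul_zero] at hx
      have : b = 0 := by
        rcases mul_eq_zero.mp hx.symm with h1 | h1
        · exact h1
        · exact absurd h1 hs'
      subst this
      rfl
    · intro b
      rfl
  · refine ⟨fun x => x.1.1, fun b => ⟨(b, b * s' / s), by field_simp⟩, ?_, ?_⟩
    · rintro ⟨⟨b, b'⟩, hx⟩
      apply Subtype.ext
      simp only [Prod.mk.injEq, true_and]
      simp only at hx
      rw [← hx]
      field_simp
    · intro b
      rfl

theorem card_plane (s s' : F) (h : s = 0 ∧ s' = 0) :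
    Nat.card {x : F × F // x.2 * s = x.1 * s'} = Fintype.card F ^ 2 := by
  rw [Nat.card_congr (Equiv.subtypeUnivEquiv (by intro x; simp [h.1, h.2])), Nat.card_prod,
    Nat.card_eq_fintype_card, sq]

/-- `a - a⁻¹` -/
def sF (a : Fˣ) : F := (a : F) - (a : F)⁻¹

theorem sF_eq_zero_iff (a : Fˣ) : sF a = 0 ↔ a = 1 ∨ a = -1 := by
  unfold sF
  have ha : (a : F) ≠ 0 := a.ne_zero
  constructor
  · intro h
    have h1 : ((a : F) - 1) * ((a : F) + 1) = 0 := by
      field_simp at h
      linear_combination h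
    rcases mul_eq_zero.mp h1 with h2 | h2
    · left
      apply Units.ext
      simpa using sub_eq_zero.mp h2
    · right
      apply Units.ext
      simpa using eq_neg_of_add_eq_zero_left h2
  · rintro (rfl | rfl) <;> simp

theorem card_commCond [DecidableEq F] :
    Nat.card {p : (Fˣ × F) × (Fˣ × F) // CommCond p.1 p.2} =
      ∑ a : Fˣ × Fˣ, if sF a.1 = 0 ∧ sF a.2 = 0 then Fintype.card F ^ 2 else Fintype.card F := by
  have e : {p : (Fˣ × F) × (Fˣ × F) // CommCond p.1 p.2} ≃
      Σ a : Fˣ × Fˣ, {x : F × F // x.2 * sF a.1 = x.1 * sF a.2} :=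
    { toFun := fun p => ⟨(p.1.1.1, p.1.2.1), ⟨(p.1.1.2, p.1.2.2), p.2⟩⟩
      invFun := fun y => ⟨((y.1.1, y.2.1.1), (y.1.2, y.2.1.2)), y.2.2⟩
      left_inv := fun p => rfl
      right_inv := fun y => rfl }
  rw [Nat.card_congr e, Nat.card_sigma]
  apply Finset.sum_congr rfl
  intro a _
  split_ifs with h
  · exact card_plane _ _ h
  · exact card_line _ _ h

theorem card_Z [DecidableEq F] (h2 : (2 : F) ≠ 0) :
    (Finset.univ.filter fun a : Fˣ => sF a = 0).card = 2 := by
  have : (Finset.univ.filter fun a : Fˣ => sF a = 0) = {1, -1} := by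
    ext a
    simp [sF_eq_zero_iff]
  rw [this, Finset.card_pair]
  intro h
  have h' := congrArg Units.val h
  simp only [Units.val_one, Units.val_neg] at h'
  apply h2
  linear_combination h'

theorem sum_eq [DecidableEq F] (h2 : (2 : F) ≠ 0) :
    (∑ a : Fˣ × Fˣ, if sF a.1 = 0 ∧ sF a.2 = 0 then Fintype.card F ^ 2 else Fintype.card F) =
      4 * Fintype.card F ^ 2 + ((Fintype.card F - 1) ^ 2 - 4) * Fintype.card F := by
  have hc1 : (Finset.univ.filter fun a : Fˣ × Fˣ => sF a.1 = 0 ∧ sF a.2 = 0).card = 4 := by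
    have : (Finset.univ.filter fun a : Fˣ × Fˣ => sF a.1 = 0 ∧ sF a.2 = 0) =
        (Finset.univ.filter fun a : Fˣ => sF a = 0) ×ˢ (Finset.univ.filter fun a : Fˣ => sF a = 0) := by
      ext a
      simp
    rw [this, Finset.card_product, card_Z h2]
  have hc2 : (Finset.univ.filter fun a : Fˣ × Fˣ => ¬ (sF a.1 = 0 ∧ sF a.2 = 0)).card =
      (Fintype.card F - 1) ^ 2 - 4 := by
    have := Finset.card_filter_add_card_filter_not (s := (Finset.univ : Finset (Fˣ × Fˣ)))
      (fun a : Fˣ × Fˣ => sF a.1 = 0 ∧ sF a.2 = 0)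
    rw [hc1, Finset.card_univ, Fintype.card_prod, Fintype.card_units] at this
    rw [sq]
    omega
  rw [Finset.sum_ite, Finset.sum_const, Finset.sum_const, smul_eq_mul, smul_eq_mul, hc1, hc2]

/-- Over a finite field F with q elements, q odd, the upper triangular subgroup of SL₂ (a Borel subgroup, of order q(q − 1)) has exactly q + 3 conjugacy classes. -/
theorem result {F : Type*} [Field F] [Fintype F] (hodd : Odd (Fintype.card F)) :
    Nat.card (ConjClasses ((Cfsg.upperTriangularGL 2 F).comap Matrix.SpecialLinearGroup.toGL)) = Fintype.card F + 3 := by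
  classical
  have h2 : (2 : F) ≠ 0 := two_ne_zero_of_odd hodd
  have hcomm := card_comm_eq_card_conjClasses_mul_card (borelSL F)
  let eB : Fˣ × F ≃ borelSL F := Equiv.ofBijective _ (borelMkSL_bijective (F := F))
  have e : {p : (Fˣ × F) × (Fˣ × F) // CommCond p.1 p.2} ≃
      {p : borelSL F × borelSL F // Commute p.1 p.2} :=
    (Equiv.prodCongr eB eB).subtypeEquiv (fun p => (commute_borelMkSL_iff p.1 p.2).symm)
  rw [← Nat.card_congr e, card_commCond, sum_eq h2, card_borelSL] at hcomm
  have hq : 3 ≤ Fintype.card F := by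
    have h1 := Fintype.one_lt_card (α := F)
    obtain ⟨k, hk⟩ := hodd
    omega
  obtain ⟨k, hk⟩ : ∃ k, Fintype.card F = k + 3 := ⟨Fintype.card F - 3, by omega⟩
  show Nat.card (ConjClasses (borelSL F)) = Fintype.card F + 3
  rw [hk] at hcomm ⊢
  have h3 : (k + 3 - 1) ^ 2 - 4 = k ^ 2 + 4 * k := by
    have : k + 3 - 1 = k + 2 := by omega
    rw [this]
    apply Nat.sub_eq_of_eq_add
    ring
  have h4 : k + 3 - 1 = k + 2 := by omega
  rw [h3, h4] at hcomm
  have h5 : (k + 3 + 3) * ((k + 2) * (k + 3)) = Nat.card (ConjClasses (borelSL F)) * ((k + 2) * (k + 3)) := by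
    rw [← hcomm]
    ring
  exact (Nat.eq_of_mul_eq_mul_right (by positivity) h5).symm

end Cfsg.Agent.S2437
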