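import Cfsg.Statements.S2438
import Cfsg.Agent.Lib.H12.SL2Values

set_option autoImplicit false
open Cfsg

namespace Cfsg.Agent.S2438

open Cfsg.Agent.Lib.H12 Cfsg.Agent.Lib.L0 Matrix

/-- Let F be a finite field with q elements, q odd, q ≥ 5, U the upper unitriangular subgroup of SL₂ over F, and χ an irreducible complex character. The sum of the values of χ over U equals 2q, q, 0, q, 0 according as the degree of χ is q + 1, q, q − 1, (q + 1)/2, (q − 1)/2; so among these five degrees the sum vanishes exactly for the degrees q − 1 and (q − 1)/2, i.e. the irreducible characters of those two degrees are the ones whose restriction to U does not contain the trivial character (the cuspidal characters), while those of degree q + 1, q and (q + 1)/2 are not cuspidal. -/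
theorem result {F : Type*} [Field F] [Fintype F] [DecidableEq F] (hodd : Odd (Fintype.card F)) (hq : 5 ≤ Fintype.card F)
    (χ : Matrix.SpecialLinearGroup (Fin 2) F → ℂ) (hχ : Cfsg.IsIrrCharacter (Matrix.SpecialLinearGroup (Fin 2) F) χ) :
    (χ 1 = (Fintype.card F : ℂ) + 1 →
      (∑ g : Matrix.SpecialLinearGroup (Fin 2) F, if (g : Matrix (Fin 2) (Fin 2) F) 1 0 = 0 ∧ (g : Matrix (Fin 2) (Fin 2) F) 0 0 = 1 ∧ (g : Matrix (Fin 2) (Fin 2) F) 1 1 = 1 then χ g else 0) = 2 * (Fintype.card F : ℂ)) ∧
    (χ 1 = (Fintype.card F : ℂ) →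
      (∑ g : Matrix.SpecialLinearGroup (Fin 2) F, if (g : Matrix (Fin 2) (Fin 2) F) 1 0 = 0 ∧ (g : Matrix (Fin 2) (Fin 2) F) 0 0 = 1 ∧ (g : Matrix (Fin 2) (Fin 2) F) 1 1 = 1 then χ g else 0) = (Fintype.card F : ℂ)) ∧
    (χ 1 = (Fintype.card F : ℂ) - 1 →
      (∑ g : Matrix.SpecialLinearGroup (Fin 2) F, if (g : Matrix (Fin 2) (Fin 2) F) 1 0 = 0 ∧ (g : Matrix (Fin 2) (Fin 2) F) 0 0 = 1 ∧ (g : Matrix (Fin 2) (Fin 2) F) 1 1 = 1 then χ g else 0) = 0) ∧
    (χ 1 = (((Fintype.card F + 1) / 2 : ℕ) : ℂ) →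
      (∑ g : Matrix.SpecialLinearGroup (Fin 2) F, if (g : Matrix (Fin 2) (Fin 2) F) 1 0 = 0 ∧ (g : Matrix (Fin 2) (Fin 2) F) 0 0 = 1 ∧ (g : Matrix (Fin 2) (Fin 2) F) 1 1 = 1 then χ g else 0) = (Fintype.card F : ℂ)) ∧
    (χ 1 = (((Fintype.card F - 1) / 2 : ℕ) : ℂ) →
      (∑ g : Matrix.SpecialLinearGroup (Fin 2) F, if (g : Matrix (Fin 2) (Fin 2) F) 1 0 = 0 ∧ (g : Matrix (Fin 2) (Fin 2) F) 0 0 = 1 ∧ (g : Matrix (Fin 2) (Fin 2) F) 1 1 = 1 then χ g else 0) = 0) := by
  classical
  obtain ⟨m, hm⟩ := hodd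
  have hq1 : 1 ≤ Fintype.card F := Fintype.card_pos
  simp only [sum_upSL]
  obtain ⟨k, hk, hcases⟩ := sl2_irr_classification_deg hχ
  -- the sum in each of the six cases
  have hsum : (∑ e : F, χ (upSL e) = (if k = Fintype.card F + 1 then 2 * (Fintype.card F : ℂ) else
      if k = Fintype.card F then (Fintype.card F : ℂ) else
      if 2 * k = Fintype.card F + 1 then (Fintype.card F : ℂ) else 0)) ∨ k = 1 := by
    rcases hcases with ⟨-, h⟩ | ⟨hst, h⟩ | ⟨γ, -, hγ, h⟩ | ⟨γ, χ', δ, -, -, -, -, hs, hx, h⟩ |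
      ⟨π, hπ, hπχ, h⟩ | ⟨π, χ', δ, hπ, -, -, hs, hx, h⟩
    · right; exact h
    · left
      rw [if_neg (by omega), if_pos h, hst]
      unfold stCharSL
      simp only [Pi.sub_apply, Pi.one_apply, Finset.sum_sub_distrib, Finset.sum_const, Finset.card_univ,
        nsmul_eq_mul, mul_one]
      rw [psCharSL_sum_upSL]
      ring
    · left
      rw [if_pos h, hγ, psCharSL_sum_upSL]
    · left
      rw [if_neg (by omega), if_neg (by omega), if_pos h]
      have h1 := psCharSL_sum_upSL γ
      rw [hs] at h1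
      simp only [Pi.add_apply, Finset.sum_add_distrib] at h1
      rw [sum_upSL_of_conj hx] at h1
      linear_combination h1 / 2
    · left
      rw [if_neg (by omega), if_neg (by omega), if_neg (by omega), hπχ]
      exact cusp_sum_upSL hπ
    · left
      rw [if_neg (by omega), if_neg (by omega), if_neg (by omega)]
      have h1 := cusp_sum_upSL hπ
      rw [hs] at h1
      simp only [Pi.add_apply, Finset.sum_add_distrib] at h1
      rw [sum_upSL_of_conj hx] at h1
      linear_combination h1 / 2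
  refine ⟨?_, ?_, ?_, ?_, ?_⟩
  · intro hdeg
    rw [hk] at hdeg
    have hkq : k = Fintype.card F + 1 := by exact_mod_cast hdeg
    rcases hsum with h | h
    · rw [h, if_pos hkq]
    · exfalso; omega
  · intro hdeg
    rw [hk] at hdeg
    have hkq : k = Fintype.card F := by exact_mod_cast hdeg
    rcases hsum with h | h
    · rw [h, if_neg (by omega), if_pos hkq]
    · exfalso; omega
  · intro hdeg
    rw [hk] at hdeg
    have hkq : k + 1 = Fintype.card F := by
      have : (k : ℂ) + 1 = (Fintype.card F : ℂ) := by rw [hdeg]; ring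
      exact_mod_cast this
    rcases hsum with h | h
    · rw [h, if_neg (by omega), if_neg (by omega), if_neg (by omega)]
    · exfalso; omega
  · intro hdeg
    rw [hk] at hdeg
    have hkq : k = (Fintype.card F + 1) / 2 := by exact_mod_cast hdeg
    rcases hsum with h | h
    · rw [h, if_neg (by omega), if_neg (by omega), if_pos (by omega)]
    · exfalso; omega
  · intro hdeg
    rw [hk] at hdeg
    have hkq : k = (Fintype.card F - 1) / 2 := by exact_mod_cast hdeg
    rcases hsum with h | h
    · rw [h, if_neg (by omega), if_neg (by omega), if_neg (by omega)]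
    · exfalso; omega

end Cfsg.Agent.S2438
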