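-- Statement S2450
import Cfsg.Statements.S2450
import Cfsg.Agent.Lib.H12.SL2Prod

set_option autoImplicit false
open Cfsg

namespace Cfsg.Agent.S2450

open Matrix Polynomial Cfsg.Agent.Lib.H12

variable {F : Type*} [Field F]

local notation "SL2" => Matrix.SpecialLinearGroup (Fin 2) F
local notation "PSL2" => Matrix.ProjectiveSpecialLinearGroup (Fin 2) F
local notation "M2" => Matrix (Fin 2) (Fin 2) F

/-- a quadratic polynomial with given coefficients -/
noncomputable def quad (α β δ : F) : F[X] := C α * X ^ 2 + C β * X + C δ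

theorem quad_ne_zero (α β δ : F) (h : α ≠ 0 ∨ β ≠ 0) : quad α β δ ≠ 0 := by
  intro h0
  have h2 : (quad α β δ).coeff 2 = α := by simp [quad, coeff_X, coeff_C]
  have h1 : (quad α β δ).coeff 1 = β := by simp [quad, coeff_X, coeff_C]
  rw [h0] at h1 h2
  simp at h1 h2
  rcases h with h | h
  · exact h h2.symm
  · exact h h1.symm

theorem quad_eval (α β δ l : F) : (quad α β δ).eval l = α * l ^ 2 + β * l + δ := by
  simp [quad]

theorem card_quad_roots [DecidableEq F] (α β δ : F) (h : α ≠ 0 ∨ β ≠ 0) (Z : Finset F)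
    (hZ : ∀ l ∈ Z, α * l ^ 2 + β * l + δ = 0) : Z.card ≤ 2 := by
  have hne := quad_ne_zero α β δ h
  have hsub : Z.val ⊆ (quad α β δ).roots := by
    intro l hl
    rw [mem_roots hne, IsRoot.def, quad_eval]
    exact hZ l hl
  exact (card_le_degree_of_subset_roots hsub).trans (natDegree_quadratic_le)

theorem exists_sq_ne [Fintype F] (h4 : 4 ≤ Fintype.card F) (α β γ : F) (h : α ≠ 0 ∨ β ≠ 0) :
    ∃ l₁ l₂ : F, (α * l₁ ^ 2 + β * l₁ + γ) ^ 2 ≠ (α * l₂ ^ 2 + β * l₂ + γ) ^ 2 := by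
  classical
  by_contra hcon
  push Not at hcon
  have hall : ∀ l : F, (α * l ^ 2 + β * l + 0) * (α * l ^ 2 + β * l + 2 * γ) = 0 := by
    intro l
    have := hcon l 0
    linear_combination this
  by_cases h2 : (2 : F) = 0
  · have hZ : ∀ l ∈ (Finset.univ : Finset F), α * l ^ 2 + β * l + 0 = 0 := by
      intro l _
      have := hall l
      rw [h2, zero_mul, add_zero, ← sq] at this
      simpa using this
    have := card_quad_roots α β 0 h Finset.univ hZ
    rw [Finset.card_univ] at this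
    omega
  · have hodd : Odd (Fintype.card F) := by
      by_contra hne
      rw [Nat.not_odd_iff_even, Nat.even_iff] at hne
      have hchar : ringChar F = 2 := FiniteField.even_card_iff_char_two.mpr hne
      have : CharP F 2 := ringChar.of_eq hchar
      exact h2 CharTwo.two_eq_zero
    have h5 : 5 ≤ Fintype.card F := by
      obtain ⟨k, hk⟩ := hodd
      omega
    have h1 := card_quad_roots α β 0 h (Finset.univ.filter fun l => α * l ^ 2 + β * l + 0 = 0)
      (fun l hl => (Finset.mem_filter.mp hl).2)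
    have h3 := card_quad_roots α β (2 * γ) h (Finset.univ.filter fun l => α * l ^ 2 + β * l + 2 * γ = 0)
      (fun l hl => (Finset.mem_filter.mp hl).2)
    have hsub : (Finset.univ : Finset F) ⊆ (Finset.univ.filter fun l => α * l ^ 2 + β * l + 0 = 0) ∪
        (Finset.univ.filter fun l => α * l ^ 2 + β * l + 2 * γ = 0) := by
      intro l _
      rw [Finset.mem_union, Finset.mem_filter, Finset.mem_filter]
      rcases mul_eq_zero.mp (hall l) with h | h
      · left; exact ⟨Finset.mem_univ _, h⟩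
      · right; exact ⟨Finset.mem_univ _, h⟩
    have := (Finset.card_le_card hsub).trans (Finset.card_union_le _ _)
    rw [Finset.card_univ] at this
    omega

/-- upper unitriangular -/
def uP (l : F) : SL2 := ⟨!![1, l; 0, 1], by simp [Matrix.det_fin_two_of]⟩
/-- lower unitriangular -/
def uM (l : F) : SL2 := ⟨!![1, 0; l, 1], by simp [Matrix.det_fin_two_of]⟩

theorem uP_val (l : F) : ((uP l : SL2) : M2) = !![1, l; 0, 1] := rfl
theorem uM_val (l : F) : ((uM l : SL2) : M2) = !![1, 0; l, 1] := rfl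

theorem uP_inv_val (l : F) : (((uP l)⁻¹ : SL2) : M2) = !![1, -l; 0, 1] := by
  rw [Matrix.SpecialLinearGroup.coe_inv, uP_val, Matrix.adjugate_fin_two_of]
  simp

theorem uM_inv_val (l : F) : (((uM l)⁻¹ : SL2) : M2) = !![1, 0; -l, 1] := by
  rw [Matrix.SpecialLinearGroup.coe_inv, uM_val, Matrix.adjugate_fin_two_of]
  simp

theorem trace_uP (t l : F) (B : SL2) :
    ((sl2Comp t * uP l * B * (uP l)⁻¹ : SL2) : M2).trace =
      (-(B : M2) 1 0) * l ^ 2 + ((B : M2) 1 1 - (B : M2) 0 0 - t * (B : M2) 1 0) * l +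
        ((B : M2) 0 1 - (B : M2) 1 0 + t * (B : M2) 1 1) := by
  simp only [Matrix.SpecialLinearGroup.coe_mul, uP_inv_val, uP_val, sl2Comp_val']
  rw [Matrix.trace_fin_two]
  simp [Matrix.mul_apply, Fin.sum_univ_two, Matrix.vecMul, dotProduct]
  ring

theorem trace_uM (t l : F) (B : SL2) :
    ((sl2Comp t * uM l * B * (uM l)⁻¹ : SL2) : M2).trace =
      ((B : M2) 0 1) * l ^ 2 + (t * (B : M2) 0 1 - ((B : M2) 0 0 - (B : M2) 1 1)) * l +
        ((B : M2) 0 1 - (B : M2) 1 0 + t * (B : M2) 1 1) := by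
  simp only [Matrix.SpecialLinearGroup.coe_mul, uM_inv_val, uM_val, sl2Comp_val']
  rw [Matrix.trace_fin_two]
  simp [Matrix.mul_apply, Fin.sum_univ_two, Matrix.vecMul, dotProduct]
  ring

/-- the companion case -/
theorem exists_trace_sq_ne_comp [Fintype F] (h4 : 4 ≤ Fintype.card F) (t : F) (B : SL2)
    (hB : Cfsg.Agent.Lib.H12.NonScalar (B : M2)) :
    ∃ v₁ v₂ : SL2, ((sl2Comp t * v₁ * B * v₁⁻¹ : SL2) : M2).trace ^ 2 ≠
      ((sl2Comp t * v₂ * B * v₂⁻¹ : SL2) : M2).trace ^ 2 := by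
  by_cases h : -(B : M2) 1 0 ≠ 0 ∨ (B : M2) 1 1 - (B : M2) 0 0 - t * (B : M2) 1 0 ≠ 0
  · obtain ⟨l₁, l₂, hl⟩ := exists_sq_ne h4 _ _ ((B : M2) 0 1 - (B : M2) 1 0 + t * (B : M2) 1 1) h
    refine ⟨uP l₁, uP l₂, ?_⟩
    rw [trace_uP, trace_uP]
    exact hl
  · push Not at h
    obtain ⟨h10, h11⟩ := h
    have h10' : (B : M2) 1 0 = 0 := neg_eq_zero.mp h10
    have h00 : (B : M2) 0 0 = (B : M2) 1 1 := by
      rw [h10', mul_zero, sub_zero] at h11
      exact (sub_eq_zero.mp h11).symm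
    have h01 : (B : M2) 0 1 ≠ 0 := fun h01 => hB ⟨h01, h10', h00⟩
    obtain ⟨l₁, l₂, hl⟩ := exists_sq_ne h4 ((B : M2) 0 1) (t * (B : M2) 0 1 - ((B : M2) 0 0 - (B : M2) 1 1))
      ((B : M2) 0 1 - (B : M2) 1 0 + t * (B : M2) 1 1) (Or.inl h01)
    refine ⟨uM l₁, uM l₂, ?_⟩
    rw [trace_uM, trace_uM]
    exact hl

theorem conjMat_one (P : M2) (hP : P.det ≠ 0) : conjMat P hP (1 : SL2) = 1 := by
  have hPu : IsUnit P.det := isUnit_iff_ne_zero.mpr hP
  apply Subtype.ext
  rw [conjMat_val, Matrix.SpecialLinearGroup.coe_one, Matrix.mul_one, Matrix.mul_nonsing_inv _ hPu]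

theorem conjMat_inv (P : M2) (hP : P.det ≠ 0) (v : SL2) : conjMat P hP v⁻¹ = (conjMat P hP v)⁻¹ := by
  apply eq_inv_of_mul_eq_one_left
  rw [← conjMat_mul, inv_mul_cancel, conjMat_one]

theorem det_inv_ne_zero (P : M2) (hP : P.det ≠ 0) : (P⁻¹).det ≠ 0 := by
  rw [Matrix.det_nonsing_inv, Ring.inverse_eq_inv']
  exact inv_ne_zero hP

theorem conjMat_conjMat_inv (P : M2) (hP : P.det ≠ 0) (X : SL2) :
    conjMat P hP (conjMat P⁻¹ (det_inv_ne_zero P hP) X) = X := by
  have hPu : IsUnit P.det := isUnit_iff_ne_zero.mpr hP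
  apply Subtype.ext
  rw [conjMat_val, conjMat_val, Matrix.nonsing_inv_nonsing_inv _ hPu]
  calc P * (P⁻¹ * (X : M2) * P) * P⁻¹ = (P * P⁻¹) * (X : M2) * (P * P⁻¹) := by
        simp only [Matrix.mul_assoc]
    _ = (X : M2) := by rw [Matrix.mul_nonsing_inv _ hPu, Matrix.one_mul, Matrix.mul_one]

theorem nonScalar_conjMat (Q : M2) (hQ : Q.det ≠ 0) (X : SL2)
    (hX : Cfsg.Agent.Lib.H12.NonScalar (X : M2)) :
    Cfsg.Agent.Lib.H12.NonScalar ((conjMat Q hQ X : SL2) : M2) := by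
  have hQu : IsUnit Q.det := isUnit_iff_ne_zero.mpr hQ
  intro h
  apply hX
  obtain ⟨a, ha⟩ := (eq_smul_one_iff _).mpr h
  rw [conjMat_val] at ha
  apply (eq_smul_one_iff _).mp
  refine ⟨a, ?_⟩
  calc (X : M2) = (Q⁻¹ * Q) * (X : M2) * (Q⁻¹ * Q) := by
        rw [Matrix.nonsing_inv_mul _ hQu, Matrix.one_mul, Matrix.mul_one]
    _ = Q⁻¹ * (Q * (X : M2) * Q⁻¹) * Q := by simp only [Matrix.mul_assoc]
    _ = a • (1 : M2) := by
        rw [ha, Matrix.mul_smul, Matrix.smul_mul, Matrix.mul_one, Matrix.nonsing_inv_mul _ hQu]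

/-- the trace of `A v B v⁻¹` takes two values with different squares -/
theorem exists_trace_sq_ne [Fintype F] (h4 : 4 ≤ Fintype.card F) (A B : SL2)
    (hA : Cfsg.Agent.Lib.H12.NonScalar (A : M2)) (hB : Cfsg.Agent.Lib.H12.NonScalar (B : M2)) :
    ∃ v₁ v₂ : SL2, ((A * v₁ * B * v₁⁻¹ : SL2) : M2).trace ^ 2 ≠
      ((A * v₂ * B * v₂⁻¹ : SL2) : M2).trace ^ 2 := by
  obtain ⟨P, hP, hAP⟩ := exists_eq_conjMat_sl2Comp A hA
  set t := (A : M2).trace with ht
  set B' := conjMat P⁻¹ (det_inv_ne_zero P hP) B with hB'def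
  have hB' : Cfsg.Agent.Lib.H12.NonScalar (B' : M2) := nonScalar_conjMat _ _ B hB
  have hBB' : B = conjMat P hP B' := (conjMat_conjMat_inv P hP B).symm
  obtain ⟨v₁, v₂, hv⟩ := exists_trace_sq_ne_comp h4 t B' hB'
  have key : ∀ v : SL2, ((A * conjMat P hP v * B * (conjMat P hP v)⁻¹ : SL2) : M2).trace =
      ((sl2Comp t * v * B' * v⁻¹ : SL2) : M2).trace := by
    intro v
    have : A * conjMat P hP v * B * (conjMat P hP v)⁻¹ = conjMat P hP (sl2Comp t * v * B' * v⁻¹) := by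
      rw [conjMat_mul, conjMat_mul, conjMat_mul, conjMat_inv, ← hAP, ← hBB']
    rw [this, trace_conjMat]
  refine ⟨conjMat P hP v₁, conjMat P hP v₂, ?_⟩
  rw [key, key]
  exact hv

theorem trace_sq_eq_of_isConj_mk (g₁ g₂ : SL2) (h : IsConj ((g₁ : SL2) : PSL2) ((g₂ : SL2) : PSL2)) :
    (g₁ : M2).trace ^ 2 = (g₂ : M2).trace ^ 2 := by
  obtain ⟨w, hw⟩ := isConj_iff.mp h
  obtain ⟨W, rfl⟩ := QuotientGroup.mk_surjective w
  have h1 : ((W * g₁ * W⁻¹ : SL2) : PSL2) = ((g₂ : SL2) : PSL2) := by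
    rw [← hw]
    simp only [QuotientGroup.mk_mul, QuotientGroup.mk_inv]
  have h2 : (W * g₁ * W⁻¹)⁻¹ * g₂ ∈ Subgroup.center SL2 := QuotientGroup.eq.mp h1
  rw [Matrix.SpecialLinearGroup.mem_center_iff] at h2
  obtain ⟨r, hr, hr2⟩ := h2
  have hr' : r ^ 2 = 1 := by simpa using hr
  have h3 : g₂ = (W * g₁ * W⁻¹) * ((W * g₁ * W⁻¹)⁻¹ * g₂) := by group
  have h4 : (g₂ : M2) = r • ((W * g₁ * W⁻¹ : SL2) : M2) := by
    conv_lhs => rw [h3]
    rw [Matrix.SpecialLinearGroup.coe_mul ((W * g₁ * W⁻¹)), ← hr2]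
    ext i j
    simp [Matrix.mul_apply, Matrix.diagonal_apply, Fin.sum_univ_two, mul_comm]
  rw [h4, Matrix.trace_smul, sl2_trace_conj, smul_eq_mul, mul_pow, hr', one_mul]

/-- The Arad–Herzog conjecture for PSL(2,q): let F be a finite field with q ≥ 4 elements. For any two non-identity elements a, b of PSL(2,F), the set of products of a conjugate of a with a conjugate of b is not a single conjugacy class. -/
theorem result {F : Type*} [Field F] [Fintype F] (h4 : 4 ≤ Fintype.card F)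
    (a b : Matrix.ProjectiveSpecialLinearGroup (Fin 2) F) (ha : a ≠ 1) (hb : b ≠ 1) (c : Matrix.ProjectiveSpecialLinearGroup (Fin 2) F) :
    {g : Matrix.ProjectiveSpecialLinearGroup (Fin 2) F | ∃ u v : Matrix.ProjectiveSpecialLinearGroup (Fin 2) F, g = (u * a * u⁻¹) * (v * b * v⁻¹)} ≠ {g | IsConj c g} := by
  intro heq
  obtain ⟨A, rfl⟩ := QuotientGroup.mk_surjective a
  obtain ⟨B, rfl⟩ := QuotientGroup.mk_surjective b
  have hA : Cfsg.Agent.Lib.H12.NonScalar (A : Matrix (Fin 2) (Fin 2) F) := by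
    by_contra h
    apply ha
    apply (QuotientGroup.eq_one_iff _).mpr
    unfold Cfsg.Agent.Lib.H12.NonScalar at h
    rw [not_not] at h
    obtain ⟨h01, h10, h00⟩ := h
    rw [Matrix.SpecialLinearGroup.mem_center_iff]
    refine ⟨(A : Matrix (Fin 2) (Fin 2) F) 0 0, ?_, ?_⟩
    · have := A.det_coe
      rw [Matrix.det_fin_two, h01, zero_mul, sub_zero, ← h00] at this
      simpa [sq] using this
    · ext i j
      fin_cases i <;> fin_cases j <;> simp [h01, h10, h00]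
  have hB : Cfsg.Agent.Lib.H12.NonScalar (B : Matrix (Fin 2) (Fin 2) F) := by
    by_contra h
    apply hb
    apply (QuotientGroup.eq_one_iff _).mpr
    unfold Cfsg.Agent.Lib.H12.NonScalar at h
    rw [not_not] at h
    obtain ⟨h01, h10, h00⟩ := h
    rw [Matrix.SpecialLinearGroup.mem_center_iff]
    refine ⟨(B : Matrix (Fin 2) (Fin 2) F) 0 0, ?_, ?_⟩
    · have := B.det_coe
      rw [Matrix.det_fin_two, h01, zero_mul, sub_zero, ← h00] at this
      simpa [sq] using this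
    · ext i j
      fin_cases i <;> fin_cases j <;> simp [h01, h10, h00]
  obtain ⟨v₁, v₂, hv⟩ := exists_trace_sq_ne h4 A B hA hB
  have hmem : ∀ v : Matrix.SpecialLinearGroup (Fin 2) F,
      IsConj c ((A * v * B * v⁻¹ : Matrix.SpecialLinearGroup (Fin 2) F) : Matrix.ProjectiveSpecialLinearGroup (Fin 2) F) := by
    intro v
    have h1 : ((A * v * B * v⁻¹ : Matrix.SpecialLinearGroup (Fin 2) F) : Matrix.ProjectiveSpecialLinearGroup (Fin 2) F) ∈
        {g : Matrix.ProjectiveSpecialLinearGroup (Fin 2) F | ∃ u v : Matrix.ProjectiveSpecialLinearGroup (Fin 2) F, g = (u * (A : Matrix.ProjectiveSpecialLinearGroup (Fin 2) F) * u⁻¹) * (v * (B : Matrix.ProjectiveSpecialLinearGroup (Fin 2) F) * v⁻¹)} := by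
      refine ⟨1, (v : Matrix.ProjectiveSpecialLinearGroup (Fin 2) F), ?_⟩
      simp only [QuotientGroup.mk_mul, QuotientGroup.mk_inv, one_mul, inv_one, mul_one, mul_assoc]
    rw [heq] at h1
    exact h1
  have hconj := (hmem v₁).symm.trans (hmem v₂)
  exact hv (trace_sq_eq_of_isConj_mk _ _ hconj)

end Cfsg.Agent.S2450
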