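-- Statement S2455
import Cfsg.Statements.S2455
import Cfsg.Agent.Lib.H12.SL2Prod
import Cfsg.Agent.S2430

set_option autoImplicit false
open Cfsg

namespace Cfsg.Agent.S2455

open Matrix Cfsg.Agent.Lib.H12

variable {F : Type*} [Field F]

local notation "SL2" => Matrix.SpecialLinearGroup (Fin 2) F
local notation "PSL2" => Matrix.ProjectiveSpecialLinearGroup (Fin 2) F
local notation "M2" => Matrix (Fin 2) (Fin 2) F

theorem mk_neg (Y : SL2) : ((-Y : SL2) : PSL2) = ((Y : SL2) : PSL2) := by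
  have h1 : (-Y : SL2) = (-1 : SL2) * Y := by simp
  rw [h1, QuotientGroup.mk_mul]
  have h2 : ((-1 : SL2) : PSL2) = 1 := by
    rw [QuotientGroup.eq_one_iff, Subgroup.mem_center_iff]
    intro g
    simp
  rw [h2, one_mul]

theorem mem_center_of_not_nonScalar (G : SL2) (h : ¬ NonScalar (G : M2)) : G ∈ Subgroup.center SL2 := by
  unfold Cfsg.Agent.Lib.H12.NonScalar at h
  rw [not_not] at h
  obtain ⟨h01, h10, h00⟩ := h
  rw [Matrix.SpecialLinearGroup.mem_center_iff]
  refine ⟨(G : M2) 0 0, ?_, ?_⟩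
  · have := G.det_coe
    rw [Matrix.det_fin_two, h01, zero_mul, sub_zero, ← h00] at this
    simpa [sq] using this
  · ext i j
    fin_cases i <;> fin_cases j <;> simp [h01, h10, h00]

/-- the main theorem in `SL₂` form -/
theorem main [Fintype F] (hodd : Odd (Fintype.card F)) (X : SL2) (ht0 : (X : M2).trace ≠ 0)
    (ht4 : (X : M2).trace ^ 2 ≠ 4) (g : PSL2) (hg : g ≠ 1) :
    ∃ u v : PSL2, g = (u * ((X : SL2) : PSL2) * u⁻¹) * (v * ((X : SL2) : PSL2) * v⁻¹) := by
  obtain ⟨G, rfl⟩ := QuotientGroup.mk_surjective g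
  have hG : NonScalar (G : M2) := by
    by_contra h
    apply hg
    exact (QuotientGroup.eq_one_iff _).mpr (mem_center_of_not_nonScalar G h)
  have hX : NonScalar (X : M2) := nonScalar_of_trace_sq_ne X ht4
  obtain ⟨A, B, hA, hB, hAB⟩ := exists_mul_of_trace hodd G hG (X : M2).trace ht0
  obtain ⟨c, hc⟩ := isConj_iff.mp (sl2_isConj_of_trace_regular hodd A X hX hA (by rw [hA]; exact ht4))
  obtain ⟨e, he⟩ := isConj_iff.mp (sl2_isConj_of_trace_regular hodd B X hX hB (by rw [hB]; exact ht4))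
  have hA' : A = c⁻¹ * X * c⁻¹⁻¹ := by rw [← hc]; group
  have hB' : B = e⁻¹ * X * e⁻¹⁻¹ := by rw [← he]; group
  refine ⟨((c⁻¹ : SL2) : PSL2), ((e⁻¹ : SL2) : PSL2), ?_⟩
  have hmk : ((G : SL2) : PSL2) = ((A * B : SL2) : PSL2) := by
    rcases hAB with h | h
    · rw [h]
    · rw [h, mk_neg]
  rw [hmk, hA', hB']
  simp only [QuotientGroup.mk_mul, QuotientGroup.mk_inv]

/-- A strong covering result in the direction of Thompson's conjecture (non-identity elements) for PSL(2,q), q odd: let F be a finite field of odd characteristic p with at least 5 elements and let x ∈ PSL(2,F) have order greater than 2 and not divisible by p (so x is not unipotent). Then every non-identity element of PSL(2,F) is a product of two conjugates of x. -/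
theorem result {F : Type*} [Field F] [Fintype F] (p : ℕ) [Fact p.Prime] [CharP F p] (hp : p ≠ 2) (h5 : 5 ≤ Fintype.card F)
    (x : Matrix.ProjectiveSpecialLinearGroup (Fin 2) F) (hx2 : 2 < orderOf x) (hxp : ¬ p ∣ orderOf x) : ∀ g : Matrix.ProjectiveSpecialLinearGroup (Fin 2) F, g ≠ 1 → ∃ u v : Matrix.ProjectiveSpecialLinearGroup (Fin 2) F, g = (u * x * u⁻¹) * (v * x * v⁻¹) := by
  have hpp : p.Prime := Fact.out
  have hchar : ringChar F ≠ 2 := by rw [ringChar.eq F p]; exact hp
  have hodd : Odd (Fintype.card F) := Nat.odd_iff.mpr (FiniteField.odd_card_of_char_ne_two hchar)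
  obtain ⟨X, rfl⟩ := QuotientGroup.mk_surjective x
  have ht0 : (X : Matrix (Fin 2) (Fin 2) F).trace ≠ 0 := by
    intro h0
    have h1 : ((X * X : Matrix.SpecialLinearGroup (Fin 2) F) : Matrix (Fin 2) (Fin 2) F) = -1 := by
      rw [Matrix.SpecialLinearGroup.coe_mul, m2_cayley _ X.det_coe, h0, zero_smul, zero_sub]
    have h2 : X * X = -1 := by
      apply Subtype.ext
      rw [h1]
      simp
    have h3 : ((X : Matrix.SpecialLinearGroup (Fin 2) F) : Matrix.ProjectiveSpecialLinearGroup (Fin 2) F) ^ 2 = 1 := by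
      rw [← QuotientGroup.mk_pow, sq, h2, mk_neg]
      rfl
    have := Nat.le_of_dvd (by norm_num) (orderOf_dvd_of_pow_eq_one h3)
    omega
  have ht4 : (X : Matrix (Fin 2) (Fin 2) F).trace ^ 2 ≠ 4 := by
    intro h4
    have h1 := Cfsg.Agent.S2430.pow_two_card_eq_one_of_trace_sq X h4
    have h3 : ((X : Matrix.SpecialLinearGroup (Fin 2) F) : Matrix.ProjectiveSpecialLinearGroup (Fin 2) F) ^ (2 * Fintype.card F) = 1 := by
      rw [← QuotientGroup.mk_pow, h1]
      rfl
    have hd := orderOf_dvd_of_pow_eq_one h3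
    obtain ⟨n, -, hn⟩ := FiniteField.card F p
    rw [hn] at hd
    have hcop : Nat.Coprime (orderOf ((X : Matrix.SpecialLinearGroup (Fin 2) F) : Matrix.ProjectiveSpecialLinearGroup (Fin 2) F)) (p ^ (n : ℕ)) := by
      apply Nat.Coprime.pow_right
      exact ((Nat.Prime.coprime_iff_not_dvd hpp).mpr hxp).symm
    have hd2 := hcop.dvd_of_dvd_mul_right hd
    have := Nat.le_of_dvd (by norm_num) hd2
    omega
  exact main hodd X ht0 ht4

end Cfsg.Agent.S2455
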