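-- Statement S2456
import Cfsg.Statements.S2456
import Cfsg.Agent.Lib.H12.SL2Prod2
import Cfsg.Agent.Lib.H12.SL2Ell
import Cfsg.Agent.S2455

set_option autoImplicit false
open Cfsg

namespace Cfsg.Agent.S2456

open Matrix Cfsg.Agent.Lib.H12

variable {F : Type*} [Field F]

local notation "SL2" => Matrix.SpecialLinearGroup (Fin 2) F
local notation "PSL2" => Matrix.ProjectiveSpecialLinearGroup (Fin 2) F
local notation "M2" => Matrix (Fin 2) (Fin 2) F

/-- the main theorem in `SL₂` form -/
theorem main [Fintype F] [CharP F 2] (X : SL2) (ht0 : (X : M2).trace ≠ 0)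
    (r : F) (hr : r ^ 2 - (X : M2).trace * r + 1 = 0) (g : PSL2) (hg : g ≠ 1) :
    ∃ u v : PSL2, g = (u * ((X : SL2) : PSL2) * u⁻¹) * (v * ((X : SL2) : PSL2) * v⁻¹) := by
  have hF : ∀ a : F, IsSquare a := FiniteField.isSquare_of_char_two (ringChar.eq F 2)
  have h20 : (2 : F) = 0 := CharTwo.two_eq_zero
  obtain ⟨G, rfl⟩ := QuotientGroup.mk_surjective g
  have hG : NonScalar (G : M2) := by
    by_contra h
    apply hg
    exact (QuotientGroup.eq_one_iff _).mpr (Cfsg.Agent.S2455.mem_center_of_not_nonScalar G h)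
  have hX : NonScalar (X : M2) := by
    rintro ⟨h01, h10, h00⟩
    apply ht0
    rw [Matrix.trace_fin_two, h00, ← two_mul, h20, zero_mul]
  have hns : ∀ A : SL2, (A : M2).trace = (X : M2).trace → NonScalar (A : M2) := by
    intro A hA
    rintro ⟨h01, h10, h00⟩
    apply ht0
    rw [← hA, Matrix.trace_fin_two, h00, ← two_mul, h20, zero_mul]
  obtain ⟨a, b, hab⟩ := exists_conic_point_char_two hF (G : M2).trace (X : M2).trace r hr
  obtain ⟨A, B, hA, hB, hAB⟩ := exists_mul_of_conic G hG _ _ a b hab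
  obtain ⟨c, hc⟩ := isConj_iff.mp (sl2_isConj_of_trace_of_allSquares hF A X (hns A hA) hX hA)
  obtain ⟨e, he⟩ := isConj_iff.mp (sl2_isConj_of_trace_of_allSquares hF B X (hns B hB) hX hB)
  have hA' : A = c⁻¹ * X * c⁻¹⁻¹ := by rw [← hc]; group
  have hB' : B = e⁻¹ * X * e⁻¹⁻¹ := by rw [← he]; group
  refine ⟨((c⁻¹ : SL2) : PSL2), ((e⁻¹ : SL2) : PSL2), ?_⟩
  rw [hAB, hA', hB']
  simp only [QuotientGroup.mk_mul, QuotientGroup.mk_inv]

/-- A strong covering result in the direction of Thompson's conjecture (non-identity elements) for PSL(2,q), q even: let F be a finite field of characteristic 2 with q ≥ 4 elements and let x ∈ PSL(2,F) have order greater than 2 and not dividing q + 1. Then every non-identity element of PSL(2,F) is a product of two conjugates of x. -/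
theorem result {F : Type*} [Field F] [Fintype F] [CharP F 2] (h4 : 4 ≤ Fintype.card F)
    (x : Matrix.ProjectiveSpecialLinearGroup (Fin 2) F) (hx2 : 2 < orderOf x) (hxq : ¬ orderOf x ∣ Fintype.card F + 1) : ∀ g : Matrix.ProjectiveSpecialLinearGroup (Fin 2) F, g ≠ 1 → ∃ u v : Matrix.ProjectiveSpecialLinearGroup (Fin 2) F, g = (u * x * u⁻¹) * (v * x * v⁻¹) := by
  have hF : ∀ a : F, IsSquare a := FiniteField.isSquare_of_char_two (ringChar.eq F 2)
  have h20 : (2 : F) = 0 := CharTwo.two_eq_zero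
  obtain ⟨X, rfl⟩ := QuotientGroup.mk_surjective x
  have ht0 : (X : Matrix (Fin 2) (Fin 2) F).trace ≠ 0 := by
    intro h0
    have h1 : ((X * X : Matrix.SpecialLinearGroup (Fin 2) F) : Matrix (Fin 2) (Fin 2) F) = 1 := by
      rw [Matrix.SpecialLinearGroup.coe_mul, m2_cayley _ X.det_coe, h0, zero_smul, zero_sub]
      have : (-1 : Matrix (Fin 2) (Fin 2) F) = 1 := by
        ext i j
        fin_cases i <;> fin_cases j <;> simp
        · exact CharTwo.neg_eq (1 : F)
        · exact CharTwo.neg_eq (1 : F)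
      exact this
    have h2 : X * X = 1 := by
      apply Subtype.ext
      rw [h1]
      simp
    have h3 : ((X : Matrix.SpecialLinearGroup (Fin 2) F) : Matrix.ProjectiveSpecialLinearGroup (Fin 2) F) ^ 2 = 1 := by
      rw [← QuotientGroup.mk_pow, sq, h2]
      rfl
    have := Nat.le_of_dvd (by norm_num) (orderOf_dvd_of_pow_eq_one h3)
    omega
  have hX : NonScalar (X : Matrix (Fin 2) (Fin 2) F) := by
    rintro ⟨h01, h10, h00⟩
    apply ht0
    rw [Matrix.trace_fin_two, h00, ← two_mul, h20, zero_mul]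
  have hroot : ∃ r : F, r ^ 2 - (X : Matrix (Fin 2) (Fin 2) F).trace * r + 1 = 0 := by
    by_contra hcon
    rw [not_exists] at hcon
    have hnr : NoRoot (X : Matrix (Fin 2) (Fin 2) F).trace := by
      intro r hr
      apply hcon r
      linear_combination hr
    have := hnr.fact
    apply hxq
    obtain ⟨c, hc⟩ := isConj_iff.mp (sl2_isConj_of_trace_of_allSquares hF X
      (sl2Comp (X : Matrix (Fin 2) (Fin 2) F).trace) hX (nonScalar_sl2Comp _) (by rw [trace_sl2Comp]))
    have hmem : c * X * c⁻¹ ∈ torusT (X : Matrix (Fin 2) (Fin 2) F).trace := by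
      rw [hc]
      exact sl2Comp_mem_torusT _
    have hpow : (c * X * c⁻¹) ^ (Fintype.card F + 1) = 1 := by
      have h1 : (⟨c * X * c⁻¹, hmem⟩ : torusT (X : Matrix (Fin 2) (Fin 2) F).trace) ^ (Fintype.card F + 1) = 1 := by
        rw [← card_torusT (t := (X : Matrix (Fin 2) (Fin 2) F).trace)]
        exact pow_card_eq_one'
      exact congrArg Subtype.val h1
    have hpowX : X ^ (Fintype.card F + 1) = 1 := by
      have : (c * X * c⁻¹) ^ (Fintype.card F + 1) = c * X ^ (Fintype.card F + 1) * c⁻¹ := conj_pow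
      rw [this] at hpow
      have h5 : X ^ (Fintype.card F + 1) = c⁻¹ * (c * X ^ (Fintype.card F + 1) * c⁻¹) * c := by group
      rw [h5, hpow]
      group
    apply orderOf_dvd_of_pow_eq_one
    rw [← QuotientGroup.mk_pow, hpowX]
    rfl
  obtain ⟨r, hr⟩ := hroot
  exact main X ht0 r hr

end Cfsg.Agent.S2456
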