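import Cfsg.Statements.S2467
import Cfsg.Agent.Lib.H12.CycleType

set_option autoImplicit false
open Cfsg

namespace Cfsg.Agent.S2467

open Cfsg.Agent.Lib.H12

/-- Adjacency of 2 and an odd prime in the prime graph of the alternating groups: let r be an odd prime at most n, with n ≥ 4. The alternating group of degree n has an element of order 2r if and only if r + 4 ≤ n. -/
theorem result (n r : ℕ) (hn : 4 ≤ n) (hr : r.Prime) (hr2 : r ≠ 2) (hrn : r ≤ n) :
    (2 * r ∈ Set.range (orderOf : alternatingGroup (Fin n) → ℕ)) ↔ r + 4 ≤ n := by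
  rw [mem_range_orderOf_alt_iff]
  have hr2' : 2 ≤ r := hr.two_le
  have hro : Odd r := hr.odd_of_ne_two hr2
  have hcop : Nat.Coprime 2 r := (Nat.coprime_primes Nat.prime_two hr).mpr (Ne.symm hr2)
  constructor
  · rintro ⟨c, hsum, h2, hev, hlcm⟩
    obtain ⟨a, ha, hra⟩ := prime_dvd_multiset_lcm hr (m := c) (by rw [hlcm]; exact dvd_mul_left r 2)
    obtain ⟨b, hb, h2b⟩ := prime_dvd_multiset_lcm Nat.prime_two (m := c) (by rw [hlcm]; exact dvd_mul_right 2 r)
    have ha0 : 0 < a := by have := h2 a ha; omega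
    rw [even_sum_add_card_iff] at hev
    set E := c.filter (fun a => Even a) with hE
    set O := c.filter (fun a => ¬ Even a) with hO
    have hc : E + O = c := Multiset.filter_add_not _ c
    have hbE : b ∈ E := Multiset.mem_filter.mpr ⟨hb, (even_iff_two_dvd).mpr h2b⟩
    have hcardE : 2 ≤ Multiset.card E := by
      have h1 : 0 < Multiset.card E := Multiset.card_pos_iff_exists_mem.mpr ⟨b, hbE⟩
      rcases hev with ⟨k, hk⟩
      omega
    have hE2 : ∀ x ∈ E, 2 ≤ x := fun x hx => h2 x (Multiset.mem_of_mem_filter hx)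
    have hsumc : c.sum = E.sum + O.sum := by rw [← hc, Multiset.sum_add]
    by_cases hae : Even a
    · have haE : a ∈ E := Multiset.mem_filter.mpr ⟨ha, hae⟩
      obtain ⟨E', hE'⟩ := Multiset.exists_cons_of_mem haE
      have h2ra : 2 * r ∣ a := hcop.mul_dvd_of_dvd_of_dvd (even_iff_two_dvd.mp hae) hra
      have h1 : 2 * r ≤ a := Nat.le_of_dvd ha0 h2ra
      have hcard' : 1 ≤ Multiset.card E' := by
        rw [hE', Multiset.card_cons] at hcardE; omega
      have hE'2 : ∀ x ∈ E', 2 ≤ x := fun x hx => hE2 x (by rw [hE']; exact Multiset.mem_cons_of_mem hx)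
      have h3 := card_mul_le_sum hE'2
      have h4 : E.sum = a + E'.sum := by rw [hE', Multiset.sum_cons]
      omega
    · have haO : a ∈ O := Multiset.mem_filter.mpr ⟨ha, hae⟩
      have h1 : a ≤ O.sum := le_sum_of_mem' haO
      have h3 := card_mul_le_sum hE2
      have h4 : r ≤ a := Nat.le_of_dvd ha0 hra
      omega
  · intro h
    refine ⟨{r, 2, 2}, ?_, ?_, ?_, ?_⟩
    · simp only [Multiset.insert_eq_cons, Multiset.sum_cons, Multiset.sum_singleton]
      omega
    · intro a ha
      simp only [Multiset.insert_eq_cons, Multiset.mem_cons, Multiset.mem_singleton] at ha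
      rcases ha with rfl | rfl | rfl <;> omega
    · simp only [Multiset.insert_eq_cons, Multiset.sum_cons, Multiset.sum_singleton,
        Multiset.card_cons, Multiset.card_singleton]
      rcases hro with ⟨k, rfl⟩
      exact ⟨k + 4, by ring⟩
    · simp only [Multiset.insert_eq_cons, Multiset.lcm_cons, Multiset.lcm_singleton, normalize_eq]
      have : lcm r (lcm 2 2) = Nat.lcm r 2 := by simp [lcm_eq_nat_lcm]
      rw [this, hcop.symm.lcm_eq_mul, mul_comm]

end Cfsg.Agent.S2467
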