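import Cfsg.Statements.S2468
import Cfsg.Agent.Lib.H12.PGraphD

set_option autoImplicit false
open Cfsg

namespace Cfsg.Agent.S2468

/-- Adjacency of two odd primes in the prime graph of PSL(n,q): let F be a finite field of characteristic p with q elements, n ≥ 2 with PSL(n,F) simple, and let r ≠ s be odd primes different from p dividing the order of PSL(n,F). Let k and l be the multiplicative orders of q modulo r and modulo s, and suppose 2 ≤ k ≤ l. Then PSL(n,F) has NO element of order r·s if and only if k + l > n and k does not divide l. -/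
theorem result {F : Type*} [Field F] [Fintype F] (p : ℕ) [Fact p.Prime] [CharP F p] (n : ℕ) (hn : 2 ≤ n) (hsmall : n = 2 → 4 ≤ Fintype.card F)
    (r s : ℕ) (hr : r.Prime) (hs : s.Prime) (hr2 : r ≠ 2) (hs2 : s ≠ 2) (hrp : r ≠ p) (hsp : s ≠ p) (hrs : r ≠ s)
    (hrG : r ∣ Nat.card (Matrix.ProjectiveSpecialLinearGroup (Fin n) F)) (hsG : s ∣ Nat.card (Matrix.ProjectiveSpecialLinearGroup (Fin n) F))
    (k l : ℕ) (hk : k = orderOf ((Fintype.card F : ℕ) : ZMod r)) (hl : l = orderOf ((Fintype.card F : ℕ) : ZMod s))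
    (h2k : 2 ≤ k) (hkl : k ≤ l) :
    (r * s ∉ Set.range (orderOf : Matrix.ProjectiveSpecialLinearGroup (Fin n) F → ℕ)) ↔ (n < k + l ∧ ¬ k ∣ l) := by
  classical
  have : Fact r.Prime := ⟨hr⟩
  have : Fact s.Prime := ⟨hs⟩
  have hpp : p.Prime := Fact.out
  have hq2 : 2 ≤ Fintype.card F := Fintype.one_lt_card
  have hrF : (r : F) ≠ 0 := by
    intro h
    rw [CharP.cast_eq_zero_iff F p] at h
    exact hrp ((Nat.prime_dvd_prime_iff_eq hpp hr).1 h).symm
  have hsF : (s : F) ≠ 0 := by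
    intro h
    rw [CharP.cast_eq_zero_iff F p] at h
    exact hsp ((Nat.prime_dvd_prime_iff_eq hpp hs).1 h).symm
  have hr1 : ¬ r ∣ Fintype.card F - 1 := by
    intro h
    have h1 : r ∣ Fintype.card F ^ 1 - 1 := by rwa [pow_one]
    rw [Cfsg.Agent.Lib.H12.PGraph.dvd_pow_sub_one_iff' _ _ (by omega), ← hk] at h1
    have := Nat.le_of_dvd one_pos h1
    omega
  have hs1 : ¬ s ∣ Fintype.card F - 1 := by
    intro h
    have h1 : s ∣ Fintype.card F ^ 1 - 1 := by rwa [pow_one]
    rw [Cfsg.Agent.Lib.H12.PGraph.dvd_pow_sub_one_iff' _ _ (by omega), ← hl] at h1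
    have := Nat.le_of_dvd one_pos h1
    omega
  have hcop : (r * s).Coprime (Fintype.card F - 1) :=
    Nat.Coprime.mul_left ((Nat.Prime.coprime_iff_not_dvd hr).2 hr1)
      ((Nat.Prime.coprime_iff_not_dvd hs).2 hs1)
  -- `l ≤ n`
  have hln : l ≤ n := by
    obtain ⟨x, hx⟩ := exists_prime_orderOf_dvd_card' s hsG
    obtain ⟨g, hg⟩ := Cfsg.Agent.Lib.H12.PGraph.exists_GL_of_PSL x
    rw [hx] at hg
    rw [hl]
    exact Cfsg.Agent.Lib.H12.PGraph.orderOf_le_of_GL g s hg hsF
  have key : (r * s ∈ Set.range (orderOf : Matrix.ProjectiveSpecialLinearGroup (Fin n) F → ℕ)) ↔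
      (k + l ≤ n ∨ k ∣ l) := by
    constructor
    · rintro ⟨x, hx⟩
      obtain ⟨g, hg⟩ := Cfsg.Agent.Lib.H12.PGraph.exists_GL_of_PSL x
      rw [hx] at hg
      have h1 := Cfsg.Agent.Lib.H12.PGraph.constraint_of_GL g r s hrs hg hrF hsF
      rw [← hk, ← hl] at h1
      exact Cfsg.Agent.Lib.H12.PGraph.lcm_bound k l n (by omega) hkl h1
    · intro h
      obtain ⟨g, hg⟩ := Cfsg.Agent.Lib.H12.PGraph.exists_GL_of_numeric (F := F) (n := n) r s k l
        hr hs hrs hk hl (by omega) (by omega) hln h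
      obtain ⟨x, hx⟩ := Cfsg.Agent.Lib.H12.PGraph.exists_PSL_of_GL (by omega) g (by rw [hg]; exact hcop)
      exact ⟨x, by rw [hx, hg]⟩
  rw [key]
  constructor
  · intro h
    push Not at h
    exact ⟨by omega, h.2⟩
  · rintro ⟨h1, h2⟩ h
    rcases h with h | h
    · omega
    · exact h2 h

end Cfsg.Agent.S2468
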