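import Cfsg.Statements.S2470
import Cfsg.Agent.Lib.H12.PGraphF
import Cfsg.Agent.Lib.H12.PGraphG

set_option autoImplicit false
open Cfsg

namespace Cfsg.Agent.S2470

/-- Adjacency of an odd prime and the characteristic in the prime graph of PSL(n,q): let F be a finite field of characteristic p with q elements, n ≥ 2 with PSL(n,F) simple, and let r ≠ p be an odd prime dividing the order of PSL(n,F), with k the multiplicative order of q modulo r. Then PSL(n,F) has NO element of order r·p if and only if either k > n − 2, or n = 3, r = 3 and 3 divides q − 1 exactly once. -/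
theorem result {F : Type*} [Field F] [Fintype F] (p : ℕ) [Fact p.Prime] [CharP F p] (n : ℕ) (hn : 2 ≤ n) (hsmall : n = 2 → 4 ≤ Fintype.card F)
    (r : ℕ) (hr : r.Prime) (hr2 : r ≠ 2) (hrp : r ≠ p) (hrG : r ∣ Nat.card (Matrix.ProjectiveSpecialLinearGroup (Fin n) F))
    (k : ℕ) (hk : k = orderOf ((Fintype.card F : ℕ) : ZMod r)) :
    (r * p ∉ Set.range (orderOf : Matrix.ProjectiveSpecialLinearGroup (Fin n) F → ℕ)) ↔
      (n - 2 < k ∨ (n = 3 ∧ r = 3 ∧ 3 ∣ Fintype.card F - 1 ∧ ¬ 9 ∣ Fintype.card F - 1)) := by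
  classical
  have hpp : p.Prime := Fact.out
  have : Fact r.Prime := ⟨hr⟩
  have hq1 : 1 ≤ Fintype.card F := Fintype.card_pos
  have hq2 : 2 ≤ Fintype.card F := Fintype.one_lt_card
  constructor
  · intro hno
    by_contra hcon
    push Not at hcon
    obtain ⟨hkn, hspec⟩ := hcon
    apply hno
    -- `k ≥ 1`
    have hk1 : 1 ≤ k := by
      rw [hk]
      apply orderOf_pos_iff.2
      rw [isOfFinOrder_iff_pow_eq_one]
      refine ⟨r - 1, by have := hr.two_le; omega, ?_⟩
      apply ZMod.pow_card_sub_one_eq_one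
      intro h0
      rw [ZMod.natCast_eq_zero_iff] at h0
      obtain ⟨e, -, he⟩ := FiniteField.card F p
      rw [he] at h0
      have := hr.dvd_of_dvd_pow h0
      exact hrp ((Nat.prime_dvd_prime_iff_eq hr hpp).1 this)
    rcases Nat.lt_or_ge k 2 with h | h
    · have hk1' : k = 1 := by omega
      obtain ⟨m, rfl⟩ : ∃ m, n = m + 3 := ⟨n - 3, by omega⟩
      have hrq : r ∣ Fintype.card F - 1 := by
        have h1 : r ∣ Fintype.card F ^ 1 - 1 := by
          rw [Cfsg.Agent.Lib.H12.PGraph.dvd_pow_sub_one_iff' _ _ hq1, ← hk, hk1']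
        rwa [pow_one] at h1
      -- units of prescribed order
      have hunit : ∀ ρ : ℕ, ρ ∣ Fintype.card F - 1 → ∃ a : Fˣ, orderOf a = ρ := by
        intro ρ hρ
        obtain ⟨g, hg⟩ := IsCyclic.exists_ofOrder_eq_natCard (α := Fˣ)
        rw [Nat.card_eq_fintype_card, Fintype.card_units] at hg
        refine ⟨g ^ (orderOf g / ρ), ?_⟩
        apply orderOf_pow_orderOf_div
        · rw [hg]; omega
        · rw [hg]; exact hρ
      have hpow : ∀ (a : Fˣ) (j : ℕ), (a : F) ^ j = 1 ↔ orderOf a ∣ j := by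
        intro a j
        rw [orderOf_dvd_iff_pow_eq_one, ← Units.val_pow_eq_pow_val, Units.val_eq_one]
      by_cases hsp : m = 0 ∧ r = 3
      · obtain ⟨rfl, rfl⟩ := hsp
        have h9 : 9 ∣ Fintype.card F - 1 := hspec rfl rfl hrq
        obtain ⟨a, ha⟩ := hunit 9 h9
        obtain ⟨x, hx⟩ := Cfsg.Agent.Lib.H12.PGraph.exists_rp_of_explicit 0 (a : F) p
          (Units.ne_zero a) 3 hr hrp (by
            intro j
            rw [hpow, ha]
            constructor
            · rintro ⟨h1, -⟩
              exact (Nat.mul_dvd_mul_iff_left (by norm_num : 0 < 3)).1 h1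
            · intro h1
              exact ⟨Nat.mul_dvd_mul_left 3 h1, fun h2 => absurd h2 (by omega)⟩)
        exact ⟨x, hx⟩
      · obtain ⟨a, ha⟩ := hunit r hrq
        obtain ⟨x, hx⟩ := Cfsg.Agent.Lib.H12.PGraph.exists_rp_of_explicit m (a : F) p
          (Units.ne_zero a) r hr hrp (by
            intro j
            rw [hpow, hpow, ha]
            constructor
            · rintro ⟨h1, h2⟩
              rcases Nat.eq_zero_or_pos m with hm | hm
              · have hr3 : r ≠ 3 := fun h3 => hsp ⟨hm, h3⟩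
                have hc : Nat.Coprime r 3 := (Nat.coprime_primes hr Nat.prime_three).2 hr3
                exact Nat.Coprime.dvd_of_dvd_mul_left hc h1
              · exact h2 hm
            · intro h1
              exact ⟨Dvd.dvd.mul_left h1 3, fun _ => h1⟩)
        exact ⟨x, hx⟩
    · exact Cfsg.Agent.Lib.H12.PGraph.exists_rp_of_two_le p r k hr hrp hk h (by omega)
  · rintro (h | ⟨rfl, rfl, h3, h9⟩) ⟨x, hx⟩
    · rw [hk] at h
      exact Cfsg.Agent.Lib.H12.PGraph.no_rp_of_lt p hn x r hr hrp h hx
    · exact Cfsg.Agent.Lib.H12.PGraph.no_3p_three p (fun h => hrp h.symm) x h3 h9 hx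

end Cfsg.Agent.S2470
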