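-- Statement S2471
import Cfsg.Statements.S2471
import Cfsg.Agent.Lib.H12.Unipotent

set_option autoImplicit false
open Cfsg

namespace Cfsg.Agent.S2471

open Matrix Cfsg.Agent.Lib.H12

variable {F : Type*} [Field F]

theorem cayley (A : Matrix (Fin 2) (Fin 2) F) (hA : A.det = 1) : A * A = A.trace • A - 1 := by
  rw [Matrix.det_fin_two] at hA
  ext i j
  fin_cases i <;> fin_cases j <;>
    simp [Matrix.mul_apply, Fin.sum_univ_two, Matrix.trace_fin_two]
  · linear_combination (-1 : F) * hA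
  · ring
  · ring
  · linear_combination (-1 : F) * hA

theorem pow_span (A : Matrix (Fin 2) (Fin 2) F) (hA : A.det = 1) (n : ℕ) :
    ∃ α β : F, A ^ n = α • (1 : Matrix (Fin 2) (Fin 2) F) + β • A := by
  induction n with
  | zero => exact ⟨1, 0, by simp⟩
  | succ n ih =>
    obtain ⟨α, β, h⟩ := ih
    refine ⟨-β, α + A.trace * β, ?_⟩
    rw [pow_succ, h, add_mul, smul_mul_assoc, smul_mul_assoc, one_mul, cayley A hA]
    simp only [smul_sub, smul_smul, add_smul, neg_smul]
    rw [mul_comm β A.trace]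
    abel

theorem key (p : ℕ) [Fact p.Prime] [CharP F p] (A : Matrix (Fin 2) (Fin 2) F) (hA : A.det = 1)
    (h : A ^ (4 * p) = 1) : A ^ 4 = 1 ∨ ∃ γ : F, A ^ p = γ • (1 : Matrix (Fin 2) (Fin 2) F) := by
  have hp : p.Prime := Fact.out
  have : CharP (Matrix (Fin 2) (Fin 2) F) p := Matrix.charP p
  obtain ⟨α, β, hB⟩ := pow_span A hA 4
  have hBp : (A ^ 4) ^ p ^ 1 = 1 := by rw [pow_one, ← pow_mul]; exact h
  have hN : (A ^ 4 - 1) ^ 2 = 0 := by
    have := sub_one_pow_card_eq_zero p (A ^ 4) 1 hBp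
    simpa using this
  by_cases hβ : β = 0
  · left
    rw [hβ, zero_smul, add_zero] at hB
    rw [pow_one, hB, smul_pow, one_pow] at hBp
    have h1 : α ^ p = 1 := by
      have := congrFun (congrFun hBp 0) 0
      simpa using this
    have h2 : (α - 1) ^ p = 0 := by rw [sub_pow_char, h1, one_pow, sub_self]
    have h3 : α = 1 := sub_eq_zero.mp (pow_eq_zero_iff hp.ne_zero |>.mp h2)
    rw [hB, h3, one_smul]
  · right
    have hAeq : A = (β⁻¹ * (1 - α)) • (1 : Matrix (Fin 2) (Fin 2) F) + β⁻¹ • (A ^ 4 - 1) := by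
      rw [hB]
      simp only [smul_sub, smul_add, smul_smul, mul_sub, mul_one, sub_smul]
      rw [inv_mul_cancel₀ hβ, one_smul]
      abel
    refine ⟨(β⁻¹ * (1 - α)) ^ p, ?_⟩
    have hcomm : Commute ((β⁻¹ * (1 - α)) • (1 : Matrix (Fin 2) (Fin 2) F)) (β⁻¹ • (A ^ 4 - 1)) := by
      apply Commute.smul_left
      exact Commute.one_left _
    conv_lhs => rw [hAeq]
    rw [add_pow_char_of_commute p hcomm, smul_pow, smul_pow, one_pow]
    have : (A ^ 4 - 1) ^ p = 0 := pow_eq_zero_of_le hp.two_le hN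
    rw [this, smul_zero, add_zero]

/-- In PSL(2,q) with q odd, the characteristic p is isolated from 2 in the prime graph: for F a finite field of odd characteristic p with at least 5 elements, PSL(2,F) has no element of order 2p. -/
theorem result {F : Type*} [Field F] [Fintype F] (p : ℕ) [Fact p.Prime] [CharP F p] (hp : p ≠ 2) (h5 : 5 ≤ Fintype.card F) (g : Matrix.ProjectiveSpecialLinearGroup (Fin 2) F) :
    orderOf g ≠ 2 * p := by
  have hpp : p.Prime := Fact.out
  intro hord
  obtain ⟨A, rfl⟩ := QuotientGroup.mk_surjective g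
  have h1 : ((A ^ (2 * p) : Matrix.SpecialLinearGroup (Fin 2) F) :
      Matrix.ProjectiveSpecialLinearGroup (Fin 2) F) = 1 := by
    rw [QuotientGroup.mk_pow, ← hord]
    exact pow_orderOf_eq_one _
  have h2 : A ^ (2 * p) ∈ Subgroup.center (Matrix.SpecialLinearGroup (Fin 2) F) :=
    (QuotientGroup.eq_one_iff _).mp h1
  rw [Matrix.SpecialLinearGroup.mem_center_iff] at h2
  obtain ⟨r, hr, hr2⟩ := h2
  have hr' : r ^ 2 = 1 := by simpa using hr
  have h3 : ((A : Matrix (Fin 2) (Fin 2) F)) ^ (4 * p) = 1 := by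
    have : (4 * p) = (2 * p) * 2 := by ring
    rw [this, pow_mul, ← Matrix.SpecialLinearGroup.coe_pow, ← hr2, ← map_pow, hr', map_one]
  rcases key p (A : Matrix (Fin 2) (Fin 2) F) A.2 h3 with h4 | ⟨γ, h4⟩
  · have h5' : A ^ 4 = 1 := by
      apply Subtype.ext
      rw [Matrix.SpecialLinearGroup.coe_pow]
      exact h4
    have h6 : ((A : Matrix.SpecialLinearGroup (Fin 2) F) :
      Matrix.ProjectiveSpecialLinearGroup (Fin 2) F) ^ 4 = 1 := by
      rw [← QuotientGroup.mk_pow, h5']
      rfl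
    have h7 := orderOf_dvd_of_pow_eq_one h6
    rw [hord] at h7
    have h8 := Nat.le_of_dvd (by norm_num) h7
    have := hpp.two_le
    omega
  · have h5' : A ^ p ∈ Subgroup.center (Matrix.SpecialLinearGroup (Fin 2) F) := by
      rw [Matrix.SpecialLinearGroup.mem_center_iff]
      refine ⟨γ, ?_, ?_⟩
      · have hdet := (A ^ p).2
        rw [Matrix.SpecialLinearGroup.coe_pow, h4] at hdet
        simpa using hdet
      · rw [Matrix.SpecialLinearGroup.coe_pow, h4]
        ext i j
        simp [Matrix.one_apply, Matrix.diagonal_apply]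
    have h6 : ((A : Matrix.SpecialLinearGroup (Fin 2) F) :
      Matrix.ProjectiveSpecialLinearGroup (Fin 2) F) ^ p = 1 := by
      rw [← QuotientGroup.mk_pow]
      exact (QuotientGroup.eq_one_iff _).mpr h5'
    have h7 := orderOf_dvd_of_pow_eq_one h6
    rw [hord] at h7
    have h8 := Nat.le_of_dvd hpp.pos h7
    have := hpp.two_le
    omega

end Cfsg.Agent.S2471
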