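-- Statement S2475
import Cfsg.Statements.S2475
import Cfsg.Agent.Lib.H12.SL2Ell
import Cfsg.Agent.Lib.H12.Unipotent
import Cfsg.Agent.S0800
import Cfsg.Agent.S2471

set_option autoImplicit false
open Cfsg

namespace Cfsg.Agent.S2475

open Matrix Cfsg.Agent.Lib.H12

variable {F : Type*} [Field F]

local notation "SL2" => Matrix.SpecialLinearGroup (Fin 2) F
local notation "PSL2" => Matrix.ProjectiveSpecialLinearGroup (Fin 2) F
local notation "M2" => Matrix (Fin 2) (Fin 2) F

/-- If a power of `A` is a non-trivial `p`-element then `A ^ p` is scalar. -/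
theorem pow_char_scalar (p : ℕ) [Fact p.Prime] [CharP F p] (A : M2) (hA : A.det = 1) (k : ℕ)
    (h : (A ^ k) ^ p = 1) (h1 : A ^ k ≠ 1) : ∃ γ : F, A ^ p = γ • (1 : M2) := by
  have hp : p.Prime := Fact.out
  have : CharP M2 p := Matrix.charP p
  obtain ⟨α, β, hB⟩ := Cfsg.Agent.S2471.pow_span A hA k
  have hBp : (A ^ k) ^ p ^ 1 = 1 := by rw [pow_one]; exact h
  have hN : (A ^ k - 1) ^ 2 = 0 := by
    have := sub_one_pow_card_eq_zero p (A ^ k) 1 hBp
    simpa using this
  by_cases hβ : β = 0
  · exfalso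
    apply h1
    rw [hβ, zero_smul, add_zero] at hB
    rw [pow_one, hB, smul_pow, one_pow] at hBp
    have h1' : α ^ p = 1 := by
      have := congrFun (congrFun hBp 0) 0
      simpa using this
    have h2 : (α - 1) ^ p = 0 := by rw [sub_pow_char, h1', one_pow, sub_self]
    have h3 : α = 1 := sub_eq_zero.mp (pow_eq_zero_iff hp.ne_zero |>.mp h2)
    rw [hB, h3, one_smul]
  · have hAeq : A = (β⁻¹ * (1 - α)) • (1 : M2) + β⁻¹ • (A ^ k - 1) := by
      rw [hB]
      simp only [smul_sub, smul_add, smul_smul, mul_sub, mul_one, sub_smul]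
      rw [inv_mul_cancel₀ hβ, one_smul]
      abel
    refine ⟨(β⁻¹ * (1 - α)) ^ p, ?_⟩
    have hcomm : Commute ((β⁻¹ * (1 - α)) • (1 : M2)) (β⁻¹ • (A ^ k - 1)) := by
      apply Commute.smul_left
      exact Commute.one_left _
    conv_lhs => rw [hAeq]
    rw [add_pow_char_of_commute p hcomm, smul_pow, smul_pow, one_pow]
    have : (A ^ k - 1) ^ p = 0 := pow_eq_zero_of_le hp.two_le hN
    rw [this, smul_zero, add_zero]

theorem scalar_mem_center (A : SL2) (γ : F) (h : (A : M2) = γ • (1 : M2)) :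
    A ∈ Subgroup.center SL2 := by
  rw [Matrix.SpecialLinearGroup.mem_center_iff]
  refine ⟨γ, ?_, ?_⟩
  · have hdet := A.2
    rw [h] at hdet
    simpa using hdet
  · rw [h]
    ext i j
    simp [Matrix.one_apply, Matrix.diagonal_apply]

theorem mk_pow_eq_one_iff (A : SL2) (k : ℕ) :
    ((A : SL2) : PSL2) ^ k = 1 ↔ A ^ k ∈ Subgroup.center SL2 := by
  rw [← QuotientGroup.mk_pow]
  exact QuotientGroup.eq_one_iff _

section fin

variable [Fintype F]

omit [Field F] in
theorem gcd_of_odd (hodd : Odd (Fintype.card F)) : Nat.gcd 2 (Fintype.card F - 1) = 2 := by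
  obtain ⟨k, hk⟩ := hodd
  rw [hk]
  simp

theorem gcd_of_even (heven : ¬ Odd (Fintype.card F)) : Nat.gcd 2 (Fintype.card F - 1) = 1 := by
  have hq : 2 ≤ Fintype.card F := Fintype.one_lt_card
  rw [Nat.not_odd_iff_even] at heven
  obtain ⟨k, hk⟩ := heven
  have : Fintype.card F - 1 = 2 * (k - 1) + 1 := by omega
  rw [this]
  simp

theorem two_eq_zero_of_even (heven : ¬ Odd (Fintype.card F)) : (2 : F) = 0 := by
  rw [Nat.not_odd_iff_even, Nat.even_iff] at heven
  have hchar : ringChar F = 2 := FiniteField.even_card_iff_char_two.mpr heven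
  have : CharP F 2 := ringChar.of_eq hchar
  exact CharTwo.two_eq_zero

/-- the order of the image in `PSL₂` divides `m / gcd(2, q-1)` when `A ^ m = 1`, `m` even -/
theorem orderOf_mk_dvd (A : SL2) (m : ℕ) (hm : A ^ m = 1) (hmeven : Odd (Fintype.card F) → Even m) :
    orderOf ((A : SL2) : PSL2) ∣ m / Nat.gcd 2 (Fintype.card F - 1) := by
  apply orderOf_dvd_of_pow_eq_one
  rw [mk_pow_eq_one_iff]
  by_cases hodd : Odd (Fintype.card F)
  · rw [gcd_of_odd hodd]
    have h2 : (2 : F) ≠ 0 := two_ne_zero_of_odd hodd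
    obtain ⟨j, hj⟩ := hmeven hodd
    have hj' : m / 2 = j := by omega
    rw [hj']
    have hsq : A ^ j * A ^ j = 1 := by rw [← pow_add, ← hj, hm]
    rcases (sl2_mul_self_eq_one_iff h2 _).mp hsq with h | h
    · rw [h]; exact Subgroup.one_mem _
    · rw [h, Subgroup.mem_center_iff]
      intro g
      simp
  · rw [gcd_of_even hodd, Nat.div_one, hm]
    exact Subgroup.one_mem _

/-- element orders lie in the spectrum -/
theorem order_cases (p : ℕ) [Fact p.Prime] [CharP F p] (g : PSL2) :
    orderOf g ∣ p ∨ orderOf g ∣ (Fintype.card F - 1) / Nat.gcd 2 (Fintype.card F - 1) ∨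
      orderOf g ∣ (Fintype.card F + 1) / Nat.gcd 2 (Fintype.card F - 1) := by
  have hp : p.Prime := Fact.out
  obtain ⟨A, rfl⟩ := QuotientGroup.mk_surjective g
  have hq : 2 ≤ Fintype.card F := Fintype.one_lt_card
  by_cases hcop : Nat.Coprime (orderOf A) p
  · right
    rcases Cfsg.Agent.S0800.result rfl p A hcop with h | h
    · left
      apply orderOf_mk_dvd A _ (orderOf_dvd_iff_pow_eq_one.mp h)
      rintro ⟨k, hk⟩
      exact ⟨k, by omega⟩
    · right
      apply orderOf_mk_dvd A _ (orderOf_dvd_iff_pow_eq_one.mp h)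
      rintro ⟨k, hk⟩
      exact ⟨k + 1, by omega⟩
  · left
    have hpd : p ∣ orderOf A := by
      by_contra h
      exact hcop ((Nat.Prime.coprime_iff_not_dvd hp).mpr h).symm
    obtain ⟨k, hk⟩ := hpd
    have hn0 : orderOf A ≠ 0 := (orderOf_pos A).ne'
    have hk0 : 0 < k := by
      rcases Nat.eq_zero_or_pos k with h | h
      · rw [h, mul_zero] at hk; exact absurd hk hn0
      · exact h
    have h1 : ((A : M2) ^ k) ^ p = 1 := by
      rw [← pow_mul, mul_comm, ← hk, ← Matrix.SpecialLinearGroup.coe_pow, pow_orderOf_eq_one,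
        Matrix.SpecialLinearGroup.coe_one]
    have h2 : (A : M2) ^ k ≠ 1 := by
      intro h
      have h' : A ^ k = 1 := by
        apply Subtype.ext
        rw [Matrix.SpecialLinearGroup.coe_pow, h, Matrix.SpecialLinearGroup.coe_one]
      have := orderOf_dvd_of_pow_eq_one h'
      have := Nat.le_of_dvd hk0 this
      have hp2 := hp.two_le
      nlinarith
    obtain ⟨γ, hγ⟩ := pow_char_scalar p (A : M2) A.2 k h1 h2
    apply orderOf_dvd_of_pow_eq_one
    rw [mk_pow_eq_one_iff]
    apply scalar_mem_center _ γ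
    rw [Matrix.SpecialLinearGroup.coe_pow, hγ]

/-- the order of the image in `PSL₂` of an element of (even, if `q` is odd) order -/
theorem orderOf_mk (A : SL2) (hmeven : Odd (Fintype.card F) → Even (orderOf A)) :
    orderOf ((A : SL2) : PSL2) = orderOf A / Nat.gcd 2 (Fintype.card F - 1) := by
  apply Nat.dvd_antisymm
  · exact orderOf_mk_dvd A _ (pow_orderOf_eq_one A) hmeven
  · have h1 : ((A : SL2) : PSL2) ^ orderOf ((A : SL2) : PSL2) = 1 := pow_orderOf_eq_one _
    rw [mk_pow_eq_one_iff, Matrix.SpecialLinearGroup.mem_center_iff] at h1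
    obtain ⟨r, hr, hr2⟩ := h1
    have hr' : r ^ 2 = 1 := by simpa using hr
    set j := orderOf ((A : SL2) : PSL2) with hj
    by_cases hodd : Odd (Fintype.card F)
    · rw [gcd_of_odd hodd]
      obtain ⟨i, hi⟩ := hmeven hodd
      have h3 : A ^ (2 * j) = 1 := by
        apply Subtype.ext
        rw [mul_comm, pow_mul, Matrix.SpecialLinearGroup.coe_pow, ← hr2, ← map_pow, hr', map_one,
          Matrix.SpecialLinearGroup.coe_one]
      have h4 := orderOf_dvd_of_pow_eq_one h3
      rw [hi] at h4 ⊢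
      have h5 : (i + i) / 2 = i := by omega
      rw [h5]
      have h6 : 2 * i ∣ 2 * j := by rwa [two_mul]
      exact Nat.dvd_of_mul_dvd_mul_left (by norm_num) h6
    · rw [gcd_of_even hodd, Nat.div_one]
      have h20 := two_eq_zero_of_even hodd
      have hr1 : r = 1 := by
        have : (r - 1) ^ 2 = 0 := by
          have e : (r - 1) ^ 2 = r ^ 2 - 2 * r + 1 := by ring
          rw [e, hr', h20]
          ring_nf
          linear_combination h20
        exact sub_eq_zero.mp (pow_eq_zero_iff (by norm_num) |>.mp this)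
      apply orderOf_dvd_of_pow_eq_one
      apply Subtype.ext
      rw [← hr2, hr1, map_one, Matrix.SpecialLinearGroup.coe_one]

/-- the transvection -/
def uSL : SL2 := ⟨!![1, 1; 0, 1], by simp [Matrix.det_fin_two_of]⟩

omit [Fintype F] in
theorem orderOf_mk_uSL (p : ℕ) [Fact p.Prime] [CharP F p] : orderOf ((uSL : SL2) : PSL2) = p := by
  have hp : p.Prime := Fact.out
  apply orderOf_eq_prime
  · rw [mk_pow_eq_one_iff]
    have hN : (((uSL : SL2) : M2) - 1) ^ 2 = 0 := by
      ext i j
      fin_cases i <;> fin_cases j <;> simp [uSL, sq, Matrix.mul_apply, Fin.sum_univ_two]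
    have h := pow_char_pow_eq_one_of_sub_one_pow p ((uSL : SL2) : M2) 2 1 hN (by rw [pow_one]; exact hp.two_le)
    rw [pow_one] at h
    have : (uSL : SL2) ^ p = 1 := by
      apply Subtype.ext
      rw [Matrix.SpecialLinearGroup.coe_pow, h, Matrix.SpecialLinearGroup.coe_one]
    rw [this]
    exact Subgroup.one_mem _
  · intro h
    have h1 : (uSL : SL2) ∈ Subgroup.center SL2 := (QuotientGroup.eq_one_iff _).mp h
    rw [Matrix.SpecialLinearGroup.mem_center_iff] at h1
    obtain ⟨r, -, hr⟩ := h1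
    have := congrFun (congrFun hr 0) 1
    simp [uSL] at this

/-- diagonal elements -/
def diagSL (a : Fˣ) : SL2 := ⟨!![(a : F), 0; 0, ((a⁻¹ : Fˣ) : F)], by simp [Matrix.det_fin_two_of]⟩

omit [Fintype F] in
theorem diagSL_val (a : Fˣ) : ((diagSL a : SL2) : M2) = !![(a : F), 0; 0, ((a⁻¹ : Fˣ) : F)] := rfl

/-- the diagonal embedding -/
def diagHom : Fˣ →* SL2 where
  toFun a := diagSL a
  map_one' := by
    apply Subtype.ext
    rw [diagSL_val]
    ext i j
    fin_cases i <;> fin_cases j <;> simp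
  map_mul' a b := by
    apply Subtype.ext
    rw [Matrix.SpecialLinearGroup.coe_mul, diagSL_val, diagSL_val, diagSL_val]
    ext i j
    fin_cases i <;> fin_cases j <;> simp [Matrix.mul_apply, Fin.sum_univ_two, mul_comm]

theorem diagHom_injective : Function.Injective (diagHom (F := F)) := by
  intro a b hab
  have := congrArg (fun x : SL2 => (x : M2) 0 0) hab
  simp [diagHom, diagSL_val] at this
  exact Units.ext this

/-- `PSL₂` has elements of order `(q - 1) / d` -/
theorem exists_orderOf_sub : ∃ g : PSL2,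
    orderOf g = (Fintype.card F - 1) / Nat.gcd 2 (Fintype.card F - 1) := by
  obtain ⟨a, ha⟩ := IsCyclic.exists_generator (α := Fˣ)
  have hord : orderOf a = Fintype.card F - 1 := by
    rw [orderOf_eq_card_of_forall_mem_zpowers ha, Nat.card_units, Nat.card_eq_fintype_card]
  have hord' : orderOf (diagHom a) = Fintype.card F - 1 := by
    rw [orderOf_injective diagHom diagHom_injective, hord]
  refine ⟨((diagHom a : SL2) : PSL2), ?_⟩
  rw [orderOf_mk, hord']
  rintro ⟨k, hk⟩
  rw [hord']
  exact ⟨k, by omega⟩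

/-- `PSL₂` has elements of order `(q + 1) / d` -/
theorem exists_orderOf_add : ∃ g : PSL2,
    orderOf g = (Fintype.card F + 1) / Nat.gcd 2 (Fintype.card F - 1) := by
  obtain ⟨t, ht⟩ := exists_noRoot (F := F)
  have := ht.fact
  have hcyc : IsCyclic (torusT t) := isCyclic_torusT
  obtain ⟨c, hc⟩ := IsCyclic.exists_generator (α := torusT t)
  have hord : orderOf c = Fintype.card F + 1 := by
    rw [orderOf_eq_card_of_forall_mem_zpowers hc, card_torusT]
  have hord' : orderOf (c : SL2) = Fintype.card F + 1 := by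
    rw [Subgroup.orderOf_coe, hord]
  refine ⟨((c : SL2) : PSL2), ?_⟩
  rw [orderOf_mk, hord']
  rintro ⟨k, hk⟩
  rw [hord']
  exact ⟨k + 1, by omega⟩

theorem exists_orderOf_of_dvd {G : Type*} [Group G] (g : G) (hg : 0 < orderOf g) (m : ℕ)
    (hm : m ∣ orderOf g) : ∃ h : G, orderOf h = m := by
  obtain ⟨k, hk⟩ := hm
  have hk0 : k ≠ 0 := by
    rintro rfl
    rw [mul_zero] at hk
    omega
  have hm0 : 0 < m := by
    rcases Nat.eq_zero_or_pos m with h | h
    · rw [h, zero_mul] at hk; omega
    · exact h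
  refine ⟨g ^ k, ?_⟩
  rw [orderOf_pow_of_dvd hk0 ⟨m, by rw [hk, mul_comm]⟩, hk, Nat.mul_div_cancel _ (Nat.pos_of_ne_zero hk0)]

end fin

/-- The set of element orders of PSL(2,q): let F be a finite field of characteristic p with q ≥ 4 elements and d = gcd(2, q − 1). The orders of elements of PSL(2,F) are exactly the divisors of p, of (q − 1)/d and of (q + 1)/d. -/
theorem result {F : Type*} [Field F] [Fintype F] (p : ℕ) [Fact p.Prime] [CharP F p] (h4 : 4 ≤ Fintype.card F) :
    Set.range (orderOf : Matrix.ProjectiveSpecialLinearGroup (Fin 2) F → ℕ) =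
      {m : ℕ | m ∣ p ∨ m ∣ (Fintype.card F - 1) / Nat.gcd 2 (Fintype.card F - 1) ∨ m ∣ (Fintype.card F + 1) / Nat.gcd 2 (Fintype.card F - 1)} := by
  have hp : p.Prime := Fact.out
  have hd : Nat.gcd 2 (Fintype.card F - 1) = 1 ∨ Nat.gcd 2 (Fintype.card F - 1) = 2 := by
    by_cases hodd : Odd (Fintype.card F)
    · right; exact gcd_of_odd hodd
    · left; exact gcd_of_even hodd
  ext m
  simp only [Set.mem_range, Set.mem_ofPred_eq]
  constructor
  · rintro ⟨g, rfl⟩
    exact order_cases p g
  · rintro (h | h | h)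
    · exact exists_orderOf_of_dvd _ (by rw [orderOf_mk_uSL p]; exact hp.pos) m (by rw [orderOf_mk_uSL p]; exact h)
    · obtain ⟨g, hg⟩ := exists_orderOf_sub (F := F)
      have hpos : 0 < orderOf g := by
        rw [hg]
        apply Nat.div_pos
        · rcases hd with h' | h' <;> rw [h'] <;> omega
        · rcases hd with h' | h' <;> rw [h'] <;> omega
      exact exists_orderOf_of_dvd g hpos m (by rw [hg]; exact h)
    · obtain ⟨g, hg⟩ := exists_orderOf_add (F := F)
      have hpos : 0 < orderOf g := by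
        rw [hg]
        apply Nat.div_pos
        · rcases hd with h' | h' <;> rw [h'] <;> omega
        · rcases hd with h' | h' <;> rw [h'] <;> omega
      exact exists_orderOf_of_dvd g hpos m (by rw [hg]; exact h)

end Cfsg.Agent.S2475
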