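import Cfsg.Statements.S2477
import Cfsg.Agent.Lib.H12.CycleType

set_option autoImplicit false
open Cfsg

namespace Cfsg.Agent.S2477

open Cfsg.Agent.Lib.H12

/-- The list of element orders. -/
def S : List ℕ := [1, 2, 3, 4, 5, 6, 7, 8, 9, 10, 12, 15, 21]

/-- Exhaustive check over all ways of adding cycles (in any order) within the budget. -/
def chk : ℕ → ℕ → ℕ → ℕ → Bool
  | 0, _, _, _ => false
  | fuel + 1, budget, l, par =>
    (par % 2 != 0 || S.contains l) &&
      (List.range (budget + 1)).all (fun a => a < 2 || chk fuel (budget - a) (Nat.lcm l a) (par + a + 1))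

theorem chk_sound : ∀ (fuel budget l par : ℕ), chk fuel budget l par = true →
    ∀ c : Multiset ℕ, (∀ a ∈ c, 2 ≤ a) → c.sum ≤ budget → Even (par + c.sum + Multiset.card c) →
      Nat.lcm l c.lcm ∈ S := by
  intro fuel
  induction fuel with
  | zero => intro budget l par h; simp [chk] at h
  | succ fuel ih =>
    intro budget l par h c
    rw [chk, Bool.and_eq_true] at h
    obtain ⟨h1, h2⟩ := h
    induction c using Multiset.induction_on with
    | empty =>
      intro _ _ hev
      simp only [Multiset.sum_zero, Multiset.card_zero, add_zero] at hev
      simp only [Multiset.lcm_zero, Nat.lcm_one_right]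
      rw [Bool.or_eq_true] at h1
      rcases h1 with h1 | h1
      · rw [Nat.even_iff] at hev
        simp at h1
        omega
      · simpa using h1
    | cons a s _ =>
      intro hge hsum hev
      simp only [Multiset.sum_cons, Multiset.card_cons] at hsum hev
      have ha2 : 2 ≤ a := hge a (Multiset.mem_cons_self a s)
      rw [List.all_eq_true] at h2
      have h3 := h2 a (by rw [List.mem_range]; omega)
      rw [Bool.or_eq_true] at h3
      rcases h3 with h3 | h3
      · simp at h3; omega
      · have := ih (budget - a) (Nat.lcm l a) (par + a + 1) h3 s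
          (fun b hb => hge b (Multiset.mem_cons_of_mem hb)) (by omega)
          (by
            have e : par + a + 1 + s.sum + Multiset.card s = par + (a + s.sum) + (Multiset.card s + 1) := by ring
            rw [e]; exact hev)
        rw [Multiset.lcm_cons]
        have e2 : lcm a s.lcm = Nat.lcm a s.lcm := rfl
        rw [e2, ← Nat.lcm_assoc]
        exact this

theorem chk_ok : chk 7 10 1 0 = true := by decide

/-- The set of element orders of the alternating group of degree 10 is {1, 2, 3, 4, 5, 6, 7, 8, 9, 10, 12, 15, 21}. -/
theorem result : Set.range (orderOf : alternatingGroup (Fin 10) → ℕ) = {1, 2, 3, 4, 5, 6, 7, 8, 9, 10, 12, 15, 21} := by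
  ext m
  rw [mem_range_orderOf_alt_iff]
  constructor
  · rintro ⟨c, hsum, h2, hev, rfl⟩
    have := chk_sound 7 10 1 0 chk_ok c h2 hsum (by simpa using hev)
    simp only [Nat.lcm_one_left] at this
    simpa [S] using this
  · intro hm
    simp only [Set.mem_insert_iff, Set.mem_singleton_iff] at hm
    rcases hm with rfl | rfl | rfl | rfl | rfl | rfl | rfl | rfl | rfl | rfl | rfl | rfl | rfl
    · exact ⟨0, by decide, by simp, by decide, by decide⟩
    · exact ⟨{2, 2}, by decide, by decide, by decide, by decide⟩
    · exact ⟨{3}, by decide, by decide, by decide, by decide⟩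
    · exact ⟨{4, 2}, by decide, by decide, by decide, by decide⟩
    · exact ⟨{5}, by decide, by decide, by decide, by decide⟩
    · exact ⟨{3, 2, 2}, by decide, by decide, by decide, by decide⟩
    · exact ⟨{7}, by decide, by decide, by decide, by decide⟩
    · exact ⟨{8, 2}, by decide, by decide, by decide, by decide⟩
    · exact ⟨{9}, by decide, by decide, by decide, by decide⟩
    · exact ⟨{5, 2, 2}, by decide, by decide, by decide, by decide⟩
    · exact ⟨{4, 3, 2}, by decide, by decide, by decide, by decide⟩
    · exact ⟨{5, 3}, by decide, by decide, by decide, by decide⟩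
    · exact ⟨{7, 3}, by decide, by decide, by decide, by decide⟩

end Cfsg.Agent.S2477
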