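import Cfsg.Statements.S2485
import Cfsg.Agent.Lib.H9.PGL2Mersenne
-- import your own Cfsg.Agent.* helpers here

set_option autoImplicit false
open scoped Pointwise
open Cfsg

namespace Cfsg.Agent.S2485

open Cfsg.Agent.Lib.H9.PGL2Mersenne


/-- Let q = 2^k − 1 ≥ 7 be a prime and let G = PGL(2,q), the general linear group of degree 2 over the field with q elements modulo its centre. Then any two Sylow 2-subgroups of G have a non-trivial intersection: for a Sylow 2-subgroup H and every x ∈ G, H ∩ H^x ≠ 1. -/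
theorem result {q k : ℕ} [Fact q.Prime] (hk : q + 1 = 2 ^ k) (hq : 7 ≤ q)
    (H : Sylow 2 (GL (Fin 2) (ZMod q) ⧸ Subgroup.center (GL (Fin 2) (ZMod q))))
    (x : GL (Fin 2) (ZMod q) ⧸ Subgroup.center (GL (Fin 2) (ZMod q))) :
    (H : Subgroup (GL (Fin 2) (ZMod q) ⧸ Subgroup.center (GL (Fin 2) (ZMod q)))) ⊓ MulAut.conj x • (H : Subgroup _) ≠ ⊥ := by
  have hq4 : q % 4 = 3 := by
    have hk3 : 3 ≤ k := by
      by_contra h
      push Not at h
      have : 2 ^ k ≤ 2 ^ 2 := Nat.pow_le_pow_right (by norm_num) (by omega)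
      omega
    obtain ⟨m, rfl⟩ := Nat.exists_eq_add_of_le hk3
    rw [pow_add] at hk
    omega
  have hq2 : q ≠ 2 := by omega
  obtain ⟨E, δ, hE, hH⟩ := sylow_eq_centralizer hk hq4 H
  obtain ⟨E', δ', hE', hH'⟩ := sylow_eq_centralizer hk hq4 (x • H)
  rw [Sylow.smul_def, Sylow.pointwise_smul_def] at hH'
  obtain ⟨y, hy1, hy, hy'⟩ := exists_mem_centralizer_inf (two_ne_zero_of_ne hq2) hE hE'
  intro hbot
  apply hy1
  have hmem : y ∈ (H : Subgroup (GL (Fin 2) (ZMod q) ⧸ Subgroup.center (GL (Fin 2) (ZMod q)))) ⊓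
      MulAut.conj x • (H : Subgroup _) := by
    refine ⟨?_, ?_⟩
    · rw [hH]; exact hy
    · rw [hH']; exact hy'
  rw [hbot, Subgroup.mem_bot] at hmem
  exact hmem


end Cfsg.Agent.S2485
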