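import Cfsg.Statements.S2496
import Cfsg.Agent.Lib.H12.TorusG

set_option autoImplicit false
open Cfsg

namespace Cfsg.Agent.S2496

/-- Let q be an odd prime power, n ≥ 4 even, and U = PSU(n,q) (realised over the field with q² elements). Then U has an element of order q^(n/2) + (−1)^(n/2) — that is, q^(n/2) + 1 when n/2 is even and q^(n/2) − 1 when n/2 is odd — if and only if the 2-part of n exceeds the 2-part of q + 1. -/
theorem result {F : Type*} [Field F] [Fintype F] {q : ℕ} (hF : Fintype.card F = q ^ 2) (hodd : Odd q)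
    {n : ℕ} (hn : 4 ≤ n) (heven : Even n) :
    (∃ g : Cfsg.PSU n F q, orderOf g = if Even (n / 2) then q ^ (n / 2) + 1 else q ^ (n / 2) - 1) ↔
      padicValNat 2 (q + 1) < padicValNat 2 n := by
  classical
  obtain ⟨m, hm⟩ := heven
  have hn2 : n = 2 * m := by omega
  have hm2 : 2 ≤ m := by omega
  have hdiv : n / 2 = m := by omega
  have hq2 : 2 ≤ q := Cfsg.Agent.Lib.H12.SpecPSU.two_le_of_card hF
  rw [hdiv]
  have hNN : (if Even m then q ^ m + 1 else q ^ m - 1) = Cfsg.Agent.Lib.H12.Torus.NN q m := rfl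
  rw [hNN]
  -- the characteristic
  obtain ⟨p, hchar⟩ := CharP.exists F
  have hp : p.Prime := CharP.char_is_prime F p
  have : Fact p.Prime := ⟨hp⟩
  obtain ⟨k, -, hk⟩ := FiniteField.card F p
  have hqdvd : q ∣ p ^ (k : ℕ) := by rw [← hk, hF]; exact Dvd.intro_left (q ^ 1) (by ring)
  obtain ⟨a, -, hq⟩ := (Nat.dvd_prime_pow hp).1 hqdvd
  have hcrit : Cfsg.Agent.Lib.H12.Torus.NN q m ∣ Cfsg.Agent.Lib.H12.SpecPSU.MU q n ↔
      padicValNat 2 (q + 1) < padicValNat 2 n := by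
    rw [hn2, Cfsg.Agent.Lib.H12.Torus.NN_dvd_MU_iff q m hq2 (by omega),
      Cfsg.Agent.Lib.H12.Torus.gcd_succ_dvd_half_iff q m (by omega)]
  rw [← hcrit]
  constructor
  · rintro ⟨x, hx⟩
    exact Cfsg.Agent.Lib.H12.Torus.NN_dvd_MU_of_orderOf hF hodd p a hq m hm2 hn2 x hx
  · intro h
    set σ : F →+* F := iterateFrobenius F p a with hσdef
    have hσ : ∀ x, σ x = x ^ q := by
      intro x
      rw [hσdef, iterateFrobenius_def, hq]
    have hσ2 : ∀ x, σ (σ x) = x := by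
      intro x
      rw [hσ, hσ, ← pow_mul, ← sq, ← hF, FiniteField.pow_card]
    have hne : ∃ x, σ x ≠ x := by
      obtain ⟨x, hx⟩ := Cfsg.Agent.Lib.H12.USemi.frob_ne_id hF
      exact ⟨x, by rw [hσ]; exact hx⟩
    obtain ⟨x, hx⟩ := Cfsg.Agent.Lib.H12.SpecPSU.exists_singer_PSU hF p a hq σ hσ hσ2 hne n
      (by omega)
    exact Cfsg.Agent.Lib.H12.Spec.exists_orderOf_eq x _ (h.trans hx)

end Cfsg.Agent.S2496
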