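import Cfsg.Statements.S2506
import Cfsg.Agent.Lib.H25.AbAltMain

set_option autoImplicit false
open scoped Pointwise
open Cfsg

namespace Cfsg.Agent.S2506

open Cfsg.Agent.S2504 Cfsg.Agent.S2505 Cfsg.Agent.Lib.H25.AbAlt Equiv

/-- two subgroups of Sylow order are conjugate -/
theorem exists_conj_of_sylow_card {p : ℕ} [Fact p.Prime] {G : Type*} [Group G] [Finite G]
    (H₁ H₂ : Subgroup G) (h₁ : Nat.card H₁ = p ^ (Nat.card G).factorization p)
    (h₂ : Nat.card H₂ = p ^ (Nat.card G).factorization p) :
    ∃ g : G, H₂ = H₁.map (MulAut.conj g).toMonoidHom := by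
  obtain ⟨g, hg⟩ := MulAction.exists_smul_eq G (Sylow.ofCard H₁ h₁) (Sylow.ofCard H₂ h₂)
  refine ⟨g, ?_⟩
  have : ((Sylow.ofCard H₂ h₂ : Sylow p G) : Subgroup G) =
      ((Sylow.ofCard H₁ h₁ : Sylow p G) : Subgroup G).map (MulAut.conj g).toMonoidHom := by
    rw [← hg]
    rfl
  simpa using this

theorem map_comm {n : ℕ} (A : Subgroup (alternatingGroup (Fin n))) (hA : IsMulCommutative A) :
    IsMulCommutative (A.map (alternatingGroup (Fin n)).subtype) :=
  Subgroup.map_isMulCommutative A _

theorem map_card {n : ℕ} (A : Subgroup (alternatingGroup (Fin n))) :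
    Nat.card (A.map (alternatingGroup (Fin n)).subtype) = Nat.card A :=
  Subgroup.card_map_of_injective (Subgroup.subtype_injective _)

theorem card_le_hmax_alt {n : ℕ} (A : Subgroup (alternatingGroup (Fin n)))
    (hA : IsMulCommutative A) : Nat.card A ≤ hmax n := by
  rw [← map_card A]
  exact card_le_hmax _ (map_comm A hA) (Subgroup.map_subtype_le A)

theorem good_of_max {n : ℕ} (hn : 3 ≤ n) (h5 : n ≠ 5) (A : Subgroup (alternatingGroup (Fin n)))
    (hA : IsMulCommutative A)
    (hAmax : ∀ C : Subgroup (alternatingGroup (Fin n)), IsMulCommutative C →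
      Nat.card C ≤ Nat.card A) :
    Good (A.map (alternatingGroup (Fin n)).subtype) := by
  refine ⟨map_comm A hA, Subgroup.map_subtype_le A, ?_⟩
  rw [map_card]
  apply le_antisymm (card_le_hmax_alt A hA)
  obtain ⟨a, b, hab, hp⟩ := exists_shape n hn h5
  obtain ⟨C, hC, hCc⟩ := exists_abelian_alt' n a b hab
  have := hAmax C hC
  rw [hCc, hp] at this
  exact this

theorem general_case {n : ℕ} (hn : 3 ≤ n) (h5 : n ≠ 5)
    (A B : Subgroup (alternatingGroup (Fin n))) (hA : IsMulCommutative A) (hB : IsMulCommutative B)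
    (hAmax : ∀ C : Subgroup (alternatingGroup (Fin n)), IsMulCommutative C → Nat.card C ≤ Nat.card A)
    (hBmax : ∀ C : Subgroup (alternatingGroup (Fin n)), IsMulCommutative C → Nat.card C ≤ Nat.card B) :
    ∃ g : alternatingGroup (Fin n), B = MulAut.conj g • A := by
  obtain ⟨σ, hσ1, hσ⟩ := good_conj hn h5 (good_of_max hn h5 A hA hAmax)
    (good_of_max hn h5 B hB hBmax)
  refine ⟨⟨σ, Perm.mem_alternatingGroup.mpr hσ1⟩, ?_⟩
  apply Subgroup.map_injective (Subgroup.subtype_injective (alternatingGroup (Fin n)))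
  rw [hσ]
  show (A.map (alternatingGroup (Fin n)).subtype).map (MulAut.conj σ).toMonoidHom =
    (A.map (MulAut.conj (⟨σ, Perm.mem_alternatingGroup.mpr hσ1⟩ :
      alternatingGroup (Fin n))).toMonoidHom).map (alternatingGroup (Fin n)).subtype
  rw [Subgroup.map_map, Subgroup.map_map]
  rfl

theorem small_case {n : ℕ} (hn : n ≤ 2)
    (A B : Subgroup (alternatingGroup (Fin n))) :
    ∃ g : alternatingGroup (Fin n), B = MulAut.conj g • A := by
  have hsub : Subsingleton (alternatingGroup (Fin n)) := by
    interval_cases n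
    · exact ⟨by decide⟩
    · exact ⟨by decide⟩
    · exact ⟨by decide⟩
  refine ⟨1, ?_⟩
  rw [map_one, one_smul]
  ext x
  rw [Subsingleton.elim x 1]
  exact ⟨fun _ => A.one_mem, fun _ => B.one_mem⟩

theorem card_alt_five : Nat.card (alternatingGroup (Fin 5)) = 60 := by
  have h := two_mul_nat_card_alternatingGroup (α := Fin 5)
  rw [Nat.card_perm, Nat.card_fin] at h
  have : Nat.factorial 5 = 120 := by decide
  omega

theorem factorization_sixty : (60 : ℕ).factorization 5 = 1 := by
  have h1 : (60 : ℕ) = 5 * 12 := by norm_num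
  rw [h1, Nat.factorization_mul (by norm_num) (by norm_num)]
  have f5 : (5 : ℕ).factorization 5 = 1 := Nat.Prime.factorization_self (by norm_num)
  have f12 : (12 : ℕ).factorization 5 = 0 := by
    apply Nat.factorization_eq_zero_of_not_dvd
    decide
  rw [Finsupp.add_apply, f5, f12]

theorem five_case
    (A B : Subgroup (alternatingGroup (Fin 5))) (hA : IsMulCommutative A) (hB : IsMulCommutative B)
    (hAmax : ∀ C : Subgroup (alternatingGroup (Fin 5)), IsMulCommutative C → Nat.card C ≤ Nat.card A)
    (hBmax : ∀ C : Subgroup (alternatingGroup (Fin 5)), IsMulCommutative C → Nat.card C ≤ Nat.card B) :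
    ∃ g : alternatingGroup (Fin 5), B = MulAut.conj g • A := by
  haveI : Fact (Nat.Prime 5) := ⟨by norm_num⟩
  obtain ⟨x, hx⟩ := exists_prime_orderOf_dvd_card' (G := alternatingGroup (Fin 5)) 5
    (by rw [card_alt_five]; norm_num)
  have hz : Nat.card (Subgroup.zpowers x) = 5 := by rw [Nat.card_zpowers, hx]
  have h5 : hmax 5 = 5 := by simp [hmax]
  have hcA : Nat.card A = 5 := by
    have h1 := hAmax (Subgroup.zpowers x) (Subgroup.zpowers_isMulCommutative x)
    have h2 := card_le_hmax_alt A hA
    omega
  have hcB : Nat.card B = 5 := by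
    have h1 := hBmax (Subgroup.zpowers x) (Subgroup.zpowers_isMulCommutative x)
    have h2 := card_le_hmax_alt B hB
    omega
  obtain ⟨g, hg⟩ := exists_conj_of_sylow_card (p := 5) A B
    (by rw [card_alt_five, factorization_sixty, hcA, pow_one])
    (by rw [card_alt_five, factorization_sixty, hcB, pow_one])
  exact ⟨g, hg⟩

/-- In the alternating group of any degree, any two abelian subgroups of the largest possible order (among abelian subgroups) are conjugate. -/
theorem result (n : ℕ)
    (A B : Subgroup (alternatingGroup (Fin n))) (hA : IsMulCommutative A) (hB : IsMulCommutative B)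
    (hAmax : ∀ C : Subgroup (alternatingGroup (Fin n)), IsMulCommutative C → Nat.card C ≤ Nat.card A)
    (hBmax : ∀ C : Subgroup (alternatingGroup (Fin n)), IsMulCommutative C → Nat.card C ≤ Nat.card B) :
    ∃ g : alternatingGroup (Fin n), B = MulAut.conj g • A := by
  rcases Nat.lt_or_ge n 3 with h | h
  · exact small_case (by omega) A B
  · by_cases h5 : n = 5
    · subst h5
      exact five_case A B hA hB hAmax hBmax
    · exact general_case h h5 A B hA hB hAmax hBmax

end Cfsg.Agent.S2506
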