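import Cfsg.Statements.S2508
import Mathlib
import Cfsg.Agent.Lib.H12.SL2Syl2
import Cfsg.Agent.Lib.H12.SL2OddClasses
import Cfsg.Agent.Lib.H12.SL2OddUnip
import Cfsg.Agent.Lib.H12.SL2RegCard
import Cfsg.Agent.Lib.H12.CardSL

set_option autoImplicit false

namespace Cfsg.Agent.S2508
open Cfsg Cfsg.Agent.Lib.H12 Matrix

variable {F : Type*} [Field F]

local notation "SL2" => Matrix.SpecialLinearGroup (Fin 2) F
local notation "M2" => Matrix (Fin 2) (Fin 2) F
local notation "PSL2" => Matrix.ProjectiveSpecialLinearGroup (Fin 2) F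

/-- the projection `SL₂ → PSL₂` -/
def prj : SL2 →* PSL2 := QuotientGroup.mk' (Subgroup.center SL2)

theorem prj_surjective : Function.Surjective (prj (F := F)) := QuotientGroup.mk'_surjective _

/-- preimage of the centralizer of the image of `g` -/
def NN (g : SL2) : Subgroup SL2 := (Subgroup.centralizer ({prj g} : Set PSL2)).comap prj

theorem index_NN (g : SL2) : (NN g).index = (Subgroup.centralizer ({prj g} : Set PSL2)).index :=
  Subgroup.index_comap_of_surjective _ prj_surjective

theorem prj_eq_iff (a b : SL2) : prj a = prj b ↔ a⁻¹ * b ∈ Subgroup.center SL2 :=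
  QuotientGroup.eq

theorem mem_NN (g x : SL2) : x ∈ NN g ↔ (x * g = g * x ∨ x * g = -(g * x)) := by
  unfold NN
  rw [Subgroup.mem_comap, Subgroup.mem_centralizer_singleton_iff, ← map_mul, ← map_mul, prj_eq_iff]
  constructor
  · intro h
    rcases sl2_center_cases _ h with h1 | h1
    · left
      rw [inv_mul_eq_one] at h1
      exact h1
    · right
      have : g * x = (x * g) * ((x * g)⁻¹ * (g * x)) := by group
      rw [this, h1, mul_neg, mul_one, neg_neg]
  · rintro (h | h)
    · rw [h, inv_mul_cancel]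
      exact Subgroup.one_mem _
    · rw [h, inv_neg, neg_mul, inv_mul_cancel]
      exact sl2_neg_one_mem_center

theorem centralizer_le_NN (g : SL2) : Subgroup.centralizer ({g} : Set SL2) ≤ NN g := by
  intro x hx
  rw [mem_NN]
  left
  exact Subgroup.mem_centralizer_singleton_iff.mp hx

theorem trace_neg_sl (g : SL2) : ((-g : SL2) : M2).trace = -(g : M2).trace := by
  rw [Matrix.SpecialLinearGroup.coe_neg, Matrix.trace_neg]

theorem NN_eq_of_trace_ne_zero (h2 : (2 : F) ≠ 0) (g : SL2) (ht : (g : M2).trace ≠ 0) :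
    NN g = Subgroup.centralizer ({g} : Set SL2) := by
  apply le_antisymm _ (centralizer_le_NN g)
  intro x hx
  rw [mem_NN] at hx
  rcases hx with h | h
  · exact Subgroup.mem_centralizer_singleton_iff.mpr h
  · exfalso
    apply ht
    have h1 : x * g * x⁻¹ = -g := by
      rw [h, neg_mul, mul_inv_cancel_right]
    have h3 := sl2_trace_conj g x
    rw [h1, trace_neg_sl] at h3
    have : (2 : F) * (g : M2).trace = 0 := by linear_combination -h3
    rcases mul_eq_zero.mp this with h4 | h4
    · exact absurd h4 h2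
    · exact h4


theorem nonScalar_neg {g : SL2} (hg : NonScalar (g : M2)) : NonScalar ((-g : SL2) : M2) := by
  intro h
  apply hg
  rw [Matrix.SpecialLinearGroup.coe_neg] at h
  obtain ⟨h1, h2, h3⟩ := h
  simp only [Matrix.neg_apply, neg_eq_zero, neg_inj] at h1 h2 h3
  exact ⟨h1, h2, h3⟩

theorem neg_ne_self (h2 : (2 : F) ≠ 0) (g : SL2) : -g ≠ g := by
  intro h
  have h1 : (-1 : SL2) = 1 := by
    have : (-g) * g⁻¹ = g * g⁻¹ := by rw [h]
    rw [neg_mul, mul_inv_cancel] at this
    exact this
  have h3 := congrArg (fun x : SL2 => (x : M2) 0 0) h1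
  simp only [Matrix.SpecialLinearGroup.coe_neg, Matrix.SpecialLinearGroup.coe_one, Matrix.neg_apply,
    Matrix.one_apply_eq] at h3
  apply h2
  linear_combination -h3

theorem card_NN_of_trace_zero [Fintype F] (hodd : Odd (Fintype.card F)) (g : SL2)
    (ht : (g : M2).trace = 0) :
    Nat.card (NN g) = 2 * Nat.card (Subgroup.centralizer ({g} : Set SL2)) := by
  have h2 : (2 : F) ≠ 0 := two_ne_zero_of_odd hodd
  have ht4 : (g : M2).trace ^ 2 ≠ 4 := by
    rw [ht]
    intro h
    apply h2
    have : (2 : F) * 2 = 0 := by linear_combination -h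
    rcases mul_eq_zero.mp this with h | h <;> exact h
  have hg : NonScalar (g : M2) := nonScalar_of_trace_sq_ne g ht4
  have hc : IsConj g (-g) :=
    sl2_isConj_of_trace_regular hodd g (-g) (nonScalar_neg hg) (by rw [trace_neg_sl, ht, neg_zero]) ht4
  obtain ⟨w, hw⟩ := isConj_iff.mp hc
  have hwg : w * g = -(g * w) := by
    have : w * g = (w * g * w⁻¹) * w := by group
    rw [this, hw, neg_mul]
  have hset : ((NN g : Subgroup SL2) : Set SL2) =
      ((Subgroup.centralizer ({g} : Set SL2) : Subgroup SL2) : Set SL2) ∪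
        (fun x => w * x) '' ((Subgroup.centralizer ({g} : Set SL2) : Subgroup SL2) : Set SL2) := by
    ext x
    simp only [SetLike.mem_coe, Set.mem_union, Set.mem_image, mem_NN,
      Subgroup.mem_centralizer_singleton_iff]
    constructor
    · rintro (h | h)
      · left; exact h
      · right
        refine ⟨w⁻¹ * x, ?_, by group⟩
        have h5 : w⁻¹ * g = -(g * w⁻¹) := by
          have : w⁻¹ * g = w⁻¹ * (-(w * g)) * w⁻¹ := by
            rw [hwg, neg_neg]; group
          rw [this, mul_neg, neg_mul]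
          congr 1
          group
        calc w⁻¹ * x * g = w⁻¹ * (x * g) := by group
          _ = w⁻¹ * (-(g * x)) := by rw [h]
          _ = -(w⁻¹ * g) * x := by rw [mul_neg, neg_mul, mul_assoc]
          _ = g * (w⁻¹ * x) := by rw [h5, neg_neg, mul_assoc]
    · rintro (h | ⟨y, hy, rfl⟩)
      · left; exact h
      · right
        calc w * y * g = w * (y * g) := by group
          _ = w * (g * y) := by rw [hy]
          _ = (w * g) * y := by group
          _ = -(g * (w * y)) := by rw [hwg, neg_mul, mul_assoc]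
  have hdisj : Disjoint ((Subgroup.centralizer ({g} : Set SL2) : Subgroup SL2) : Set SL2)
      ((fun x => w * x) '' ((Subgroup.centralizer ({g} : Set SL2) : Subgroup SL2) : Set SL2)) := by
    rw [Set.disjoint_left]
    rintro x hx ⟨y, hy, rfl⟩
    simp only [SetLike.mem_coe] at hx hy
    have hwC : w ∈ Subgroup.centralizer ({g} : Set SL2) := by
      have : w = (w * y) * y⁻¹ := by group
      rw [this]
      exact Subgroup.mul_mem _ hx (Subgroup.inv_mem _ hy)
    rw [Subgroup.mem_centralizer_singleton_iff] at hwC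
    rw [hwC] at hwg
    exact neg_ne_self h2 _ hwg.symm
  have hinj : Function.Injective (fun x : SL2 => w * x) := mul_right_injective w
  calc Nat.card (NN g) = ((NN g : Subgroup SL2) : Set SL2).ncard := (_root_.Nat.card_coe_set_eq _)
    _ = 2 * Nat.card (Subgroup.centralizer ({g} : Set SL2)) := by
      rw [hset, Set.ncard_union_eq hdisj (Set.toFinite _) (Set.toFinite _),
        Set.ncard_image_of_injective _ hinj, ← two_mul]
      rfl


theorem card_NN_mul [Fintype F] (g : SL2) :
    Nat.card (NN g) * (Subgroup.centralizer ({prj g} : Set PSL2)).index =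
      Fintype.card F * (Fintype.card F ^ 2 - 1) := by
  rw [← index_NN, Subgroup.card_mul_index, card_SL2]

theorem idx_scalar (g : SL2) (hg : ¬ NonScalar (g : M2)) :
    (Subgroup.centralizer ({prj g} : Set PSL2)).index = 1 := by
  have h1 : prj g = 1 := by
    have := sl2_mem_center_of_not_nonScalar g hg
    exact (QuotientGroup.eq_one_iff g).mpr this
  rw [h1]
  have : Subgroup.centralizer ({1} : Set PSL2) = ⊤ := by
    rw [eq_top_iff]
    intro x _
    rw [Subgroup.mem_centralizer_singleton_iff]
    simp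
  rw [this, Subgroup.index_top]

theorem centralizer_neg (g : SL2) :
    Subgroup.centralizer ({-g} : Set SL2) = Subgroup.centralizer ({g} : Set SL2) := by
  ext x
  rw [Subgroup.mem_centralizer_singleton_iff, Subgroup.mem_centralizer_singleton_iff, mul_neg, neg_mul,
    neg_inj]

theorem sq_sub_one (q : ℕ) (hq : 1 ≤ q) : q ^ 2 - 1 = (q - 1) * (q + 1) := by
  obtain ⟨k, rfl⟩ : ∃ k, q = k + 1 := ⟨q - 1, by omega⟩
  have : (k + 1) ^ 2 = k * (k + 1 + 1) + 1 := by ring
  rw [this]
  simp

theorem idx_unip [Fintype F] (hodd : Odd (Fintype.card F)) (g : SL2) (hg : NonScalar (g : M2))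
    (ht : (g : M2).trace ^ 2 = 4) :
    (Subgroup.centralizer ({prj g} : Set PSL2)).index = (Fintype.card F ^ 2 - 1) / 2 := by
  have h2 : (2 : F) ≠ 0 := two_ne_zero_of_odd hodd
  have hq : 0 < Fintype.card F := Fintype.card_pos
  have ht0 : (g : M2).trace ≠ 0 := by
    intro h
    rw [h] at ht
    apply h2
    have : (2 : F) * 2 = 0 := by linear_combination -ht
    rcases mul_eq_zero.mp this with h | h <;> exact h
  have hcard : Nat.card (Subgroup.centralizer ({g} : Set SL2)) = 2 * Fintype.card F := by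
    obtain ⟨ν, hν⟩ := FiniteField.exists_nonsquare (ringChar_ne_two_of_odd hodd)
    have hν0 : ν ≠ 0 := by rintro rfl; exact hν IsSquare.zero
    have hβ : ∀ s : Bool, (if s then (1 : F) else ν) ≠ 0 := by
      intro s; cases s <;> simp [hν0]
    have h3 : ((g : M2).trace - 2) * ((g : M2).trace + 2) = 0 := by linear_combination ht
    rcases mul_eq_zero.mp h3 with h | h
    · obtain ⟨s, hs⟩ := exists_isConj_sl2Up ν hν g hg true (by simp [sgn]; linear_combination h)
      obtain ⟨c, hc⟩ := isConj_iff.mp hs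
      rw [← Nat.card_congr (centralizerConjEquiv c _ _ hc).toEquiv]
      exact card_centralizer_sl2Up h2 (hβ s)
    · obtain ⟨s, hs⟩ := exists_isConj_sl2Up ν hν (-g) (nonScalar_neg hg) true
        (by rw [trace_neg_sl]; simp [sgn]; linear_combination -h)
      obtain ⟨c, hc⟩ := isConj_iff.mp hs
      rw [← centralizer_neg, ← Nat.card_congr (centralizerConjEquiv c _ _ hc).toEquiv]
      exact card_centralizer_sl2Up h2 (hβ s)
  have h1 := card_NN_mul g
  rw [NN_eq_of_trace_ne_zero h2 g ht0, hcard] at h1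
  have h4 : (Subgroup.centralizer ({prj g} : Set PSL2)).index * 2 = Fintype.card F ^ 2 - 1 := by
    apply Nat.eq_of_mul_eq_mul_left hq
    rw [← h1]; ring
  rw [← h4, Nat.mul_div_cancel _ (by norm_num)]

theorem idx_split [Fintype F] (hodd : Odd (Fintype.card F)) (g : SL2)
    (ht0 : (g : M2).trace ≠ 0) (ht4 : (g : M2).trace ^ 2 ≠ 4) (hs : IsSquare ((g : M2).trace ^ 2 - 4)) :
    (Subgroup.centralizer ({prj g} : Set PSL2)).index = Fintype.card F * (Fintype.card F + 1) := by
  have h2 : (2 : F) ≠ 0 := two_ne_zero_of_odd hodd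
  have hq : 1 < Fintype.card F := Fintype.one_lt_card
  have h1 := card_NN_mul g
  rw [NN_eq_of_trace_ne_zero h2 g ht0, (regular_centralizer hodd g ht4).2.1 hs,
    sq_sub_one _ hq.le] at h1
  apply Nat.eq_of_mul_eq_mul_left (show 0 < Fintype.card F - 1 by omega)
  rw [h1]; ring

theorem idx_nonsplit [Fintype F] (hodd : Odd (Fintype.card F)) (g : SL2)
    (ht0 : (g : M2).trace ≠ 0) (hs : ¬ IsSquare ((g : M2).trace ^ 2 - 4)) :
    (Subgroup.centralizer ({prj g} : Set PSL2)).index = Fintype.card F * (Fintype.card F - 1) := by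
  have h2 : (2 : F) ≠ 0 := two_ne_zero_of_odd hodd
  have hq : 1 < Fintype.card F := Fintype.one_lt_card
  have ht4 : (g : M2).trace ^ 2 ≠ 4 := by
    intro h
    apply hs
    rw [h, sub_self]
    exact IsSquare.zero
  have h1 := card_NN_mul g
  rw [NN_eq_of_trace_ne_zero h2 g ht0, (regular_centralizer hodd g ht4).2.2 hs,
    sq_sub_one _ hq.le] at h1
  apply Nat.eq_of_mul_eq_mul_left (show 0 < Fintype.card F + 1 by omega)
  rw [h1]; ring

theorem isSquare_neg_four_iff [Fintype F] (hodd : Odd (Fintype.card F)) :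
    IsSquare ((0 : F) ^ 2 - 4) ↔ Fintype.card F % 4 ≠ 3 := by
  have h2 : (2 : F) ≠ 0 := two_ne_zero_of_odd hodd
  rw [← FiniteField.isSquare_neg_one_iff]
  constructor
  · rintro ⟨s, hs⟩
    refine ⟨s / 2, ?_⟩
    field_simp
    linear_combination hs
  · rintro ⟨s, hs⟩
    refine ⟨2 * s, ?_⟩
    linear_combination 4 * hs

theorem idx_trace_zero_one [Fintype F] (hodd : Odd (Fintype.card F)) (g : SL2)
    (ht0 : (g : M2).trace = 0) (h4 : Fintype.card F % 4 = 1) :
    (Subgroup.centralizer ({prj g} : Set PSL2)).index = Fintype.card F * (Fintype.card F + 1) / 2 := by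
  have h2 : (2 : F) ≠ 0 := two_ne_zero_of_odd hodd
  have hq : 1 < Fintype.card F := Fintype.one_lt_card
  have ht4 : (g : M2).trace ^ 2 ≠ 4 := by
    rw [ht0]
    intro h
    apply h2
    have : (2 : F) * 2 = 0 := by linear_combination -h
    rcases mul_eq_zero.mp this with h | h <;> exact h
  have hs : IsSquare ((g : M2).trace ^ 2 - 4) := by
    rw [ht0, isSquare_neg_four_iff hodd]; omega
  have h1 := card_NN_mul g
  rw [card_NN_of_trace_zero hodd g ht0, (regular_centralizer hodd g ht4).2.1 hs,
    sq_sub_one _ hq.le] at h1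
  have h5 : (Subgroup.centralizer ({prj g} : Set PSL2)).index * 2 =
      Fintype.card F * (Fintype.card F + 1) := by
    apply Nat.eq_of_mul_eq_mul_left (show 0 < Fintype.card F - 1 by omega)
    have h6 : (Fintype.card F - 1) * ((Subgroup.centralizer ({prj g} : Set PSL2)).index * 2) =
      2 * (Fintype.card F - 1) * (Subgroup.centralizer ({prj g} : Set PSL2)).index := by ring
    rw [h6, h1]; ring
  rw [← h5, Nat.mul_div_cancel _ (by norm_num)]

theorem idx_trace_zero_three [Fintype F] (hodd : Odd (Fintype.card F)) (g : SL2)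
    (ht0 : (g : M2).trace = 0) (h4 : Fintype.card F % 4 = 3) :
    (Subgroup.centralizer ({prj g} : Set PSL2)).index = Fintype.card F * (Fintype.card F - 1) / 2 := by
  have h2 : (2 : F) ≠ 0 := two_ne_zero_of_odd hodd
  have hq : 1 < Fintype.card F := Fintype.one_lt_card
  have ht4 : (g : M2).trace ^ 2 ≠ 4 := by
    rw [ht0]
    intro h
    apply h2
    have : (2 : F) * 2 = 0 := by linear_combination -h
    rcases mul_eq_zero.mp this with h | h <;> exact h
  have hs : ¬ IsSquare ((g : M2).trace ^ 2 - 4) := by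
    rw [ht0, isSquare_neg_four_iff hodd]; omega
  have h1 := card_NN_mul g
  rw [card_NN_of_trace_zero hodd g ht0, (regular_centralizer hodd g ht4).2.2 hs,
    sq_sub_one _ hq.le] at h1
  have h5 : (Subgroup.centralizer ({prj g} : Set PSL2)).index * 2 =
      Fintype.card F * (Fintype.card F - 1) := by
    apply Nat.eq_of_mul_eq_mul_left (show 0 < Fintype.card F + 1 by omega)
    have h6 : (Fintype.card F + 1) * ((Subgroup.centralizer ({prj g} : Set PSL2)).index * 2) =
      2 * (Fintype.card F + 1) * (Subgroup.centralizer ({prj g} : Set PSL2)).index := by ring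
    rw [h6, h1]; ring
  rw [← h5, Nat.mul_div_cancel _ (by norm_num)]


theorem exists_pow_four_ne [Fintype F] (h7 : 7 ≤ Fintype.card F) : ∃ a : F, a ≠ 0 ∧ a ^ 4 ≠ 1 := by
  classical
  obtain ⟨u, hu⟩ := IsCyclic.exists_generator (α := Fˣ)
  refine ⟨(u : F), u.ne_zero, ?_⟩
  intro h
  have h1 : u ^ 4 = 1 := by
    apply Units.ext
    rw [Units.val_pow_eq_pow_val, h, Units.val_one]
  have h3 : orderOf u = Nat.card Fˣ := orderOf_eq_card_of_forall_mem_zpowers hu
  rw [Nat.card_eq_fintype_card, Fintype.card_units] at h3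
  have h4 : orderOf u ∣ 4 := orderOf_dvd_of_pow_eq_one h1
  have h5 := Nat.le_of_dvd (by norm_num) h4
  omega

theorem exists_split [Fintype F] (h7 : 7 ≤ Fintype.card F) :
    ∃ g : SL2, (g : M2).trace ≠ 0 ∧ (g : M2).trace ^ 2 ≠ 4 ∧ IsSquare ((g : M2).trace ^ 2 - 4) := by
  obtain ⟨a, ha0, ha⟩ := exists_pow_four_ne h7
  refine ⟨sl2Comp (a + a⁻¹), ?_, ?_, ?_⟩
  · rw [trace_sl2Comp]
    intro h
    apply ha
    have h1 : a * (a + a⁻¹) = 0 := by rw [h, mul_zero]
    rw [mul_add, mul_inv_cancel₀ ha0] at h1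
    linear_combination (a * a - 1) * h1
  · rw [trace_sl2Comp]
    intro h
    apply ha
    have h1 : (a * (a + a⁻¹)) ^ 2 = a ^ 2 * 4 := by rw [mul_pow, h]
    rw [mul_add, mul_inv_cancel₀ ha0] at h1
    have h3 : (a ^ 2 - 1) ^ 2 = 0 := by linear_combination h1
    have h4 : a ^ 2 = 1 := by
      have := pow_eq_zero_iff (two_ne_zero) |>.mp h3
      linear_combination this
    have : a ^ 4 = (a ^ 2) ^ 2 := by ring
    rw [this, h4, one_pow]
  · rw [trace_sl2Comp]
    refine ⟨a - a⁻¹, ?_⟩
    field_simp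
    ring

theorem exists_nonsplit [Fintype F] (hodd : Odd (Fintype.card F)) (h7 : 7 ≤ Fintype.card F) :
    ∃ g : SL2, (g : M2).trace ≠ 0 ∧ ¬ IsSquare ((g : M2).trace ^ 2 - 4) := by
  classical
  have h2 : (2 : F) ≠ 0 := two_ne_zero_of_odd hodd
  by_cases hi : IsSquare (-1 : F)
  · obtain ⟨t, ht⟩ := exists_noRoot (F := F)
    refine ⟨sl2Comp t, ?_, ?_⟩
    · rw [trace_sl2Comp]
      rintro rfl
      apply ht.disc_not_isSquare h2
      obtain ⟨i, hi⟩ := hi
      refine ⟨2 * i, ?_⟩
      linear_combination 4 * hi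
    · rw [trace_sl2Comp]
      exact ht.disc_not_isSquare h2
  · have hex : ∃ m : F, m ∉ ({0, 1, -1} : Finset F) := by
      by_contra hcon
      push Not at hcon
      have h1 : (Finset.univ : Finset F) ⊆ {0, 1, -1} := fun x _ => hcon x
      have h3 := Finset.card_le_card h1
      rw [Finset.card_univ] at h3
      have h4 : ({0, 1, -1} : Finset F).card ≤ 3 := Finset.card_le_three
      omega
    obtain ⟨m, hm⟩ := hex
    simp only [Finset.mem_insert, Finset.mem_singleton, not_or] at hm
    obtain ⟨hm0, hm1, hm2⟩ := hm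
    have hd : 1 + m ^ 2 ≠ 0 := by
      intro h
      apply hi
      refine ⟨m, ?_⟩
      linear_combination -h
    have hmm : 1 - m ^ 2 ≠ 0 := by
      intro h
      have : (m - 1) * (m + 1) = 0 := by linear_combination -h
      rcases mul_eq_zero.mp this with h | h
      · exact hm1 (by linear_combination h)
      · exact hm2 (by linear_combination h)
    refine ⟨sl2Comp (2 * (1 - m ^ 2) / (1 + m ^ 2)), ?_, ?_⟩
    · rw [trace_sl2Comp]
      exact div_ne_zero (mul_ne_zero h2 hmm) hd
    · rw [trace_sl2Comp]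
      rintro ⟨r, hr⟩
      apply hi
      have h4 : (4 : F) ≠ 0 := by
        have : (4 : F) = 2 * 2 := by norm_num
        rw [this]; exact mul_ne_zero h2 h2
      refine ⟨r * (1 + m ^ 2) / (4 * m), ?_⟩
      field_simp
      have hr' : r * r * (1 + m ^ 2) ^ 2 = (2 * (1 - m ^ 2)) ^ 2 - 4 * (1 + m ^ 2) ^ 2 := by
        rw [← hr]
        field_simp
      linear_combination -hr'


theorem trace_sq_ne_four_of_zero (h2 : (2 : F) ≠ 0) : (0 : F) ^ 2 ≠ 4 := by
  intro h
  apply h2
  have : (2 : F) * 2 = 0 := by linear_combination -h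
  rcases mul_eq_zero.mp this with h | h <;> exact h

/-- Let F be a finite field with q elements, q odd and q ≥ 7: the conjugacy class sizes of PSL(2,F). -/
theorem result {F : Type*} [Field F] [Fintype F]
    (hodd : ¬ 2 ∣ Fintype.card F) (h7 : 7 ≤ Fintype.card F) :
    (Fintype.card F % 4 = 1 →
      Set.range (fun g : (Matrix.ProjectiveSpecialLinearGroup (Fin 2) F) => (Subgroup.centralizer ({g} : Set (Matrix.ProjectiveSpecialLinearGroup (Fin 2) F))).index) =
        {1, (Fintype.card F ^ 2 - 1) / 2, Fintype.card F * (Fintype.card F + 1) / 2,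
          Fintype.card F * (Fintype.card F - 1), Fintype.card F * (Fintype.card F + 1)}) ∧
    (Fintype.card F % 4 = 3 →
      Set.range (fun g : (Matrix.ProjectiveSpecialLinearGroup (Fin 2) F) => (Subgroup.centralizer ({g} : Set (Matrix.ProjectiveSpecialLinearGroup (Fin 2) F))).index) =
        {1, (Fintype.card F ^ 2 - 1) / 2, Fintype.card F * (Fintype.card F - 1) / 2,
          Fintype.card F * (Fintype.card F + 1), Fintype.card F * (Fintype.card F - 1)}) := by
  have hodd' : Odd (Fintype.card F) := by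
    rw [Nat.odd_iff]; omega
  have h2 : (2 : F) ≠ 0 := two_ne_zero_of_odd hodd'
  obtain ⟨gs, hgs0, hgs4, hgs⟩ := exists_split (F := F) h7
  obtain ⟨gn, hgn0, hgn⟩ := exists_nonsplit (F := F) hodd' h7
  have hup : NonScalar ((sl2Up true (1 : F) : Matrix.SpecialLinearGroup (Fin 2) F) : Matrix (Fin 2) (Fin 2) F) :=
    nonScalar_sl2Up true one_ne_zero
  have hupt : ((sl2Up true (1 : F) : Matrix.SpecialLinearGroup (Fin 2) F) : Matrix (Fin 2) (Fin 2) F).trace ^ 2 = 4 := by
    rw [trace_sl2Up]; simp [sgn]; norm_num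
  have h1s : ¬ NonScalar (((1 : Matrix.SpecialLinearGroup (Fin 2) F)) : Matrix (Fin 2) (Fin 2) F) := by
    intro h
    apply h
    simp
  constructor
  · intro h4
    ext n
    simp only [Set.mem_range, Set.mem_insert_iff, Set.mem_singleton_iff]
    constructor
    · rintro ⟨gb, rfl⟩
      obtain ⟨g, rfl⟩ := prj_surjective gb
      by_cases hg : NonScalar (g : Matrix (Fin 2) (Fin 2) F)
      · by_cases ht : (g : Matrix (Fin 2) (Fin 2) F).trace ^ 2 = 4
        · right; left; exact idx_unip hodd' g hg ht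
        · by_cases ht0 : (g : Matrix (Fin 2) (Fin 2) F).trace = 0
          · right; right; left; exact idx_trace_zero_one hodd' g ht0 h4
          · by_cases hs : IsSquare ((g : Matrix (Fin 2) (Fin 2) F).trace ^ 2 - 4)
            · right; right; right; right; exact idx_split hodd' g ht0 ht hs
            · right; right; right; left; exact idx_nonsplit hodd' g ht0 hs
      · left; exact idx_scalar g hg
    · rintro (rfl | rfl | rfl | rfl | rfl)
      · exact ⟨prj 1, idx_scalar 1 h1s⟩
      · exact ⟨prj (sl2Up true 1), idx_unip hodd' _ hup hupt⟩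
      · exact ⟨prj (sl2Comp 0), idx_trace_zero_one hodd' _ (trace_sl2Comp 0) h4⟩
      · exact ⟨prj gn, idx_nonsplit hodd' _ hgn0 hgn⟩
      · exact ⟨prj gs, idx_split hodd' _ hgs0 hgs4 hgs⟩
  · intro h4
    ext n
    simp only [Set.mem_range, Set.mem_insert_iff, Set.mem_singleton_iff]
    constructor
    · rintro ⟨gb, rfl⟩
      obtain ⟨g, rfl⟩ := prj_surjective gb
      by_cases hg : NonScalar (g : Matrix (Fin 2) (Fin 2) F)
      · by_cases ht : (g : Matrix (Fin 2) (Fin 2) F).trace ^ 2 = 4
        · right; left; exact idx_unip hodd' g hg ht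
        · by_cases ht0 : (g : Matrix (Fin 2) (Fin 2) F).trace = 0
          · right; right; left; exact idx_trace_zero_three hodd' g ht0 h4
          · by_cases hs : IsSquare ((g : Matrix (Fin 2) (Fin 2) F).trace ^ 2 - 4)
            · right; right; right; left; exact idx_split hodd' g ht0 ht hs
            · right; right; right; right; exact idx_nonsplit hodd' g ht0 hs
      · left; exact idx_scalar g hg
    · rintro (rfl | rfl | rfl | rfl | rfl)
      · exact ⟨prj 1, idx_scalar 1 h1s⟩
      · exact ⟨prj (sl2Up true 1), idx_unip hodd' _ hup hupt⟩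
      · exact ⟨prj (sl2Comp 0), idx_trace_zero_three hodd' _ (trace_sl2Comp 0) h4⟩
      · exact ⟨prj gs, idx_split hodd' _ hgs0 hgs4 hgs⟩
      · exact ⟨prj gn, idx_nonsplit hodd' _ hgn0 hgn⟩

end Cfsg.Agent.S2508
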