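import Cfsg.Statements.S2510
import Cfsg.Agent.Lib.H12.SpecPSLA
import Cfsg.Agent.Lib.H12.SpecPSLD
import Cfsg.Agent.Lib.H12.SpecPSLF

set_option autoImplicit false
open Cfsg

namespace Cfsg.Agent.S2510

theorem charP_of_card {F : Type*} [Field F] [Fintype F] {p a : ℕ} (hp : p.Prime) (ha : 1 ≤ a)
    (hF : Fintype.card F = p ^ a) : CharP F p := by
  obtain ⟨p', hp'⟩ := CharP.exists F
  have h1 : ((p ^ a : ℕ) : F) = 0 := by rw [← hF]; exact Nat.cast_card_eq_zero F
  have h2 : (p : F) = 0 := by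
    rw [Nat.cast_pow] at h1
    exact (pow_eq_zero_iff (by omega)).1 h1
  have h3 : p' ∣ p := (CharP.cast_eq_zero_iff F p' p).1 h2
  have h4 : p' ≠ 1 := CharP.char_ne_one F p'
  have h5 : p' = p := ((Nat.dvd_prime hp).1 h3).resolve_left h4
  exact h5 ▸ hp'

/-- Let F be a finite field with q = p^a elements, n ≥ 2 (with q ≥ 4 when n = 2), L = PSL(n, F), and let r be a prime dividing q − 1 and not dividing n. Then for every m the direct product L × L × L × (ℤ/r)^m has the same set of element orders as L × L × L; and if n − 1 ≠ p^j for every j ≥ 0 (so never when n = 2, since 1 = p^0), then already L × L × (ℤ/r)^m has the same set of element orders as L × L. -/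
theorem result {F : Type*} [Field F] [Fintype F] (p a n r m : ℕ) (hp : p.Prime) (ha : 1 ≤ a) (hF : Fintype.card F = p ^ a)
    (hn : 2 ≤ n) (hn2 : n = 2 → 4 ≤ Fintype.card F) (hr : r.Prime) (hrq : r ∣ Fintype.card F - 1) (hrn : ¬ r ∣ n) :
    Set.range (orderOf : Matrix.ProjectiveSpecialLinearGroup (Fin n) F × Matrix.ProjectiveSpecialLinearGroup (Fin n) F × Matrix.ProjectiveSpecialLinearGroup (Fin n) F × Multiplicative (Fin m → ZMod r) → ℕ) =
      Set.range (orderOf : Matrix.ProjectiveSpecialLinearGroup (Fin n) F × Matrix.ProjectiveSpecialLinearGroup (Fin n) F × Matrix.ProjectiveSpecialLinearGroup (Fin n) F → ℕ) ∧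
    ((¬ ∃ j : ℕ, n - 1 = p ^ j) →
      Set.range (orderOf : Matrix.ProjectiveSpecialLinearGroup (Fin n) F × Matrix.ProjectiveSpecialLinearGroup (Fin n) F × Multiplicative (Fin m → ZMod r) → ℕ) =
        Set.range (orderOf : Matrix.ProjectiveSpecialLinearGroup (Fin n) F × Matrix.ProjectiveSpecialLinearGroup (Fin n) F → ℕ)) := by
  classical
  have : Fact p.Prime := ⟨hp⟩
  have hchar : CharP F p := charP_of_card hp ha hF
  have hq2 : 2 ≤ Fintype.card F := Fintype.one_lt_card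
  have hpq : p ∣ Fintype.card F := by rw [hF]; exact dvd_pow_self p (by omega)
  have hT : n ≤ p ^ Nat.clog p n := Nat.le_pow_clog hp.one_lt n
  have hTlt : p ^ (Nat.clog p n - 1) < n := Nat.pow_pred_clog_lt_self hp.one_lt (by omega)
  have hMp := Cfsg.Agent.Lib.H12.SpecPSL.coprime_gs (Fintype.card F) n p hp hpq hq2 (by omega)
  have hpr : p ≠ r := Cfsg.Agent.Lib.H12.SpecPSL.prime_ne_of_dvd_pred (Fintype.card F) p r hp hpq hq2 hrq
  have H1 := Cfsg.Agent.Lib.H12.SpecPSL.dichotomy (F := F) (n := n) p (by omega) hr hrq hrn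
    (Nat.clog p n) hT
  have H2 : ∀ b, b ∣ Cfsg.Agent.Lib.H12.SpecPSL.gs (Fintype.card F) n / Nat.gcd n (Fintype.card F - 1) →
      ∃ y : Matrix.ProjectiveSpecialLinearGroup (Fin n) F, orderOf y = b := by
    obtain ⟨x, hx⟩ := Cfsg.Agent.Lib.H12.SpecPSL.exists_singer_PSL (F := F) p n (by omega)
    intro b hb
    exact Cfsg.Agent.Lib.H12.Spec.exists_orderOf_eq x b (hb.trans hx)
  have H4 := Cfsg.Agent.Lib.H12.SpecPSL.exists_semi (F := F) (n := n) hr hrq hrn hn
  have hJ : ∀ j, j ≤ Nat.clog p n → j = 0 ∨ ∃ J, j = J + 1 ∧ p ^ J < n := by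
    intro j hj
    rcases Nat.eq_zero_or_pos j with h | h
    · left; exact h
    · right
      refine ⟨j - 1, by omega, ?_⟩
      calc p ^ (j - 1) ≤ p ^ (Nat.clog p n - 1) := Nat.pow_le_pow_right hp.pos (by omega)
        _ < n := hTlt
  have H3 : ∀ j, j ≤ Nat.clog p n →
      ∃ y : Matrix.ProjectiveSpecialLinearGroup (Fin n) F, orderOf y = p ^ j := by
    intro j hj
    rcases hJ j hj with rfl | ⟨J, rfl, hJn⟩
    · exact ⟨1, by simp⟩
    · exact Cfsg.Agent.Lib.H12.SpecPSL.exists_unip p J (by omega)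
  refine ⟨Cfsg.Agent.Lib.H12.SpecPSL.range3 hp hr hMp H1 H2 H3 H4, ?_⟩
  intro hnp
  have H3' : ∀ j, j ≤ Nat.clog p n →
      ∃ y : Matrix.ProjectiveSpecialLinearGroup (Fin n) F, orderOf y = p ^ j * r := by
    intro j hj
    rcases hJ j hj with rfl | ⟨J, rfl, hJn⟩
    · obtain ⟨y, hy⟩ := H4
      exact ⟨y, by rw [hy, pow_zero, one_mul]⟩
    · have hne : p ^ J ≠ n - 1 := fun h => hnp ⟨J, h.symm⟩
      exact Cfsg.Agent.Lib.H12.SpecPSL.exists_mixed hr hrq hrn p hpr J (by omega)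
  exact Cfsg.Agent.Lib.H12.SpecPSL.range2 hp hpr hr hMp H1 H2 H3'

end Cfsg.Agent.S2510
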