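import Cfsg.Statements.S2511
import Cfsg.Agent.Lib.H12.SpecPSLA
import Cfsg.Agent.Lib.H12.SpecPSUF
import Cfsg.Agent.Lib.H12.SpecPSUG
import Cfsg.Agent.Lib.H12.SpecPSUI

set_option autoImplicit false
open Cfsg

namespace Cfsg.Agent.S2511

theorem charP_of_card {F : Type*} [Field F] [Fintype F] {p a : ℕ} (hp : p.Prime) (ha : 1 ≤ a)
    (hF : Fintype.card F = p ^ a) : CharP F p := by
  obtain ⟨p', hp'⟩ := CharP.exists F
  have h1 : ((p ^ a : ℕ) : F) = 0 := by rw [← hF]; exact Nat.cast_card_eq_zero F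
  have h2 : (p : F) = 0 := by
    rw [Nat.cast_pow] at h1
    exact (pow_eq_zero_iff (by omega)).1 h1
  have h3 : p' ∣ p := (CharP.cast_eq_zero_iff F p' p).1 h2
  have h4 : p' ≠ 1 := CharP.char_ne_one F p'
  have h5 : p' = p := ((Nat.dvd_prime hp).1 h3).resolve_left h4
  exact h5 ▸ hp'

/-- Let F be a finite field with q² elements, q = p^a, n ≥ 3 with (n, q) ≠ (3, 2), L = PSU(n, q) realised over F, and let r be a prime dividing q + 1 and not dividing n. Then for every m the direct product L × L × L × (ℤ/r)^m has the same set of element orders as L × L × L; and if n − 1 is not a power of p, then already L × L × (ℤ/r)^m has the same set of element orders as L × L. -/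
theorem result {F : Type*} [Field F] [Fintype F] (p a n q r m : ℕ) (hp : p.Prime) (ha : 1 ≤ a) (hq : q = p ^ a) (hF : Fintype.card F = q ^ 2)
    (hn : 3 ≤ n) (hn3 : ¬ (n = 3 ∧ q = 2)) (hr : r.Prime) (hrq : r ∣ q + 1) (hrn : ¬ r ∣ n) :
    Set.range (orderOf : Cfsg.PSU n F q × Cfsg.PSU n F q × Cfsg.PSU n F q × Multiplicative (Fin m → ZMod r) → ℕ) = Set.range (orderOf : Cfsg.PSU n F q × Cfsg.PSU n F q × Cfsg.PSU n F q → ℕ) ∧
    ((¬ ∃ j : ℕ, n - 1 = p ^ j) →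
      Set.range (orderOf : Cfsg.PSU n F q × Cfsg.PSU n F q × Multiplicative (Fin m → ZMod r) → ℕ) = Set.range (orderOf : Cfsg.PSU n F q × Cfsg.PSU n F q → ℕ)) := by
  classical
  have : Fact p.Prime := ⟨hp⟩
  have hF' : Fintype.card F = p ^ (2 * a) := by rw [hF, hq, ← pow_mul, mul_comm]
  have hchar : CharP F p := charP_of_card hp (by omega) hF'
  have : ExpChar F p := ExpChar.prime hp
  have hq2 : 2 ≤ q := Cfsg.Agent.Lib.H12.SpecPSU.two_le_of_card hF
  have hpq : p ∣ q := by rw [hq]; exact dvd_pow_self p (by omega)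
  have hn1 : 1 ≤ n := by omega
  -- the Frobenius involution
  set σ : F →+* F := iterateFrobenius F p a with hσdef
  have hσ : ∀ x, σ x = x ^ q := by
    intro x
    rw [hσdef, iterateFrobenius_def, hq]
  have hσ2 : ∀ x, σ (σ x) = x := by
    intro x
    rw [hσ, hσ, ← pow_mul, ← sq, ← hF, FiniteField.pow_card]
  have hne : ∃ x, σ x ≠ x := by
    obtain ⟨x, hx⟩ := Cfsg.Agent.Lib.H12.USemi.frob_ne_id hF
    exact ⟨x, by rw [hσ]; exact hx⟩
  let D : Cfsg.Agent.Lib.H13.AutPSU.UF F q := Cfsg.Agent.Lib.H13.AutPSU.UF.ofCard hq hF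
  have hT : n ≤ p ^ Nat.clog p n := Nat.le_pow_clog hp.one_lt n
  have hTlt : p ^ (Nat.clog p n - 1) < n := Nat.pow_pred_clog_lt_self hp.one_lt (by omega)
  have hMp := Cfsg.Agent.Lib.H12.SpecPSU.coprime_MU q n p hp hpq (by omega) hn1
  have hpr : p ≠ r := Cfsg.Agent.Lib.H12.SpecPSU.prime_ne_of_dvd_succ q p r hp hpq hrq
  have H1 := Cfsg.Agent.Lib.H12.SpecPSU.dichotomy (F := F) (n := n) hF p σ hσ hσ2 hne hn1 hr hrq hrn
    (Nat.clog p n) hT
  have H2 : ∀ b, b ∣ Cfsg.Agent.Lib.H12.SpecPSU.MU q n →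
      ∃ y : Cfsg.PSU n F q, orderOf y = b := by
    obtain ⟨x, hx⟩ := Cfsg.Agent.Lib.H12.SpecPSU.exists_singer_PSU hF p a hq σ hσ hσ2 hne n hn1
    intro b hb
    exact Cfsg.Agent.Lib.H12.Spec.exists_orderOf_eq x b (hb.trans hx)
  have H4 := Cfsg.Agent.Lib.H12.SpecPSU.exists_semi_PSU D hF hr hrq n (by omega) hrn
  have hJ : ∀ j, j ≤ Nat.clog p n → j = 0 ∨ ∃ J, j = J + 1 ∧ p ^ J < n := by
    intro j hj
    rcases Nat.eq_zero_or_pos j with h | h
    · left; exact h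
    · right
      refine ⟨j - 1, by omega, ?_⟩
      calc p ^ (j - 1) ≤ p ^ (Nat.clog p n - 1) := Nat.pow_le_pow_right hp.pos (by omega)
        _ < n := hTlt
  have H3 : ∀ j, j ≤ Nat.clog p n → ∃ y : Cfsg.PSU n F q, orderOf y = p ^ j := by
    intro j hj
    rcases hJ j hj with rfl | ⟨J, rfl, hJn⟩
    · exact ⟨1, by simp⟩
    · exact Cfsg.Agent.Lib.H12.SpecPSU.exists_unip_PSU D hF p n J hJn
  refine ⟨Cfsg.Agent.Lib.H12.SpecPSL.range3 hp hr hMp H1 H2 H3 H4, ?_⟩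
  intro hnp
  have H3' : ∀ j, j ≤ Nat.clog p n → ∃ y : Cfsg.PSU n F q, orderOf y = p ^ j * r := by
    intro j hj
    rcases hJ j hj with rfl | ⟨J, rfl, hJn⟩
    · obtain ⟨y, hy⟩ := H4
      exact ⟨y, by rw [hy, pow_zero, one_mul]⟩
    · have hne' : p ^ J ≠ n - 1 := fun h => hnp ⟨J, h.symm⟩
      exact Cfsg.Agent.Lib.H12.SpecPSU.exists_mixed_PSU D hF p hr hrq hpr n J hrn (by omega)
  exact Cfsg.Agent.Lib.H12.SpecPSL.range2 hp hpr hr hMp H1 H2 H3'

end Cfsg.Agent.S2511
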