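import Cfsg.Statements.S2512
import Cfsg.Agent.Lib.H12.SpecPSpH

set_option autoImplicit false
open Cfsg

namespace Cfsg.Agent.S2512

open Cfsg.Agent.Lib.H12.SpecPSp Cfsg.Agent.Lib.H12.PSpG in
theorem charP_of_card {F : Type*} [Field F] [Fintype F] {p a : ℕ} (hp : p.Prime) (ha : 1 ≤ a)
    (hF : Fintype.card F = p ^ a) : CharP F p := by
  obtain ⟨p', hp'⟩ := CharP.exists F
  have h1 : ((p ^ a : ℕ) : F) = 0 := by rw [← hF]; exact Nat.cast_card_eq_zero F
  have h2 : (p : F) = 0 := by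
    rw [Nat.cast_pow] at h1
    exact (pow_eq_zero_iff (by omega)).1 h1
  have h3 : p' ∣ p := (CharP.cast_eq_zero_iff F p' p).1 h2
  have h4 : p' ≠ 1 := CharP.char_ne_one F p'
  have h5 : p' = p := ((Nat.dvd_prime hp).1 h3).resolve_left h4
  exact h5 ▸ hp'

open Cfsg.Agent.Lib.H12.SpecPSp Cfsg.Agent.Lib.H12.PSpG in
/-- the realizers and the class data -/
theorem data {F : Type*} [Field F] [Fintype F] (p n : ℕ) [Fact p.Prime] [CharP F p]
    (hodd : Odd (Fintype.card F)) (hn : 1 ≤ n) :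
    (∀ x : Cfsg.PSp n F, Odd (orderOf x) →
      (∃ y : Cfsg.PSp n F, orderOf y = 2 * orderOf x) ∨
        Cls (Cfsg.PSp n F) (Fintype.card F ^ n - 1) (Fintype.card F ^ n + 1)
          (p ^ (Nat.log p (2 * n - 1) + 1)) (orderOf x)) ∧
    ((¬ ∃ j : ℕ, 2 * n - 1 = p ^ j) → ∀ x : Cfsg.PSp n F, Odd (orderOf x) →
      (∃ y : Cfsg.PSp n F, orderOf y = 2 * orderOf x) ∨
        Cls (Cfsg.PSp n F) (Fintype.card F ^ n - 1) (Fintype.card F ^ n + 1) 1 (orderOf x)) ∧
    (∀ k, Odd k → k ∣ Fintype.card F ^ n - 1 → ∃ y : Cfsg.PSp n F, orderOf y = k) ∧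
    (∀ k, Odd k → k ∣ Fintype.card F ^ n + 1 → ∃ y : Cfsg.PSp n F, orderOf y = k) ∧
    ((∀ k, Odd k → k ∣ Fintype.card F ^ n - 1 → ∃ y : Cfsg.PSp n F, orderOf y = 2 * k) ∨
      (∀ k, Odd k → k ∣ Fintype.card F ^ n + 1 → ∃ y : Cfsg.PSp n F, orderOf y = 2 * k)) := by
  have hp : p.Prime := Fact.out
  have h2 : (2 : F) ≠ 0 := Cfsg.Agent.Lib.H13.two_ne_zero_of_odd_card hodd
  have hp2 : p ≠ 2 := by
    rintro rfl
    apply h2
    exact CharTwo.two_eq_zero
  set q := Fintype.card F with hq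
  refine ⟨?_, ?_, ?_, ?_, ?_⟩
  · intro x hx
    rcases psp_class p h2 hp2 hn x hx with h | h | h | ⟨j, hj, hj2⟩
    · left; exact h
    · right
      exact ⟨orderOf x, 1, 1, by simp, h, one_dvd _, Or.inl rfl⟩
    · right
      exact ⟨1, orderOf x, 1, by simp, one_dvd _, h, Or.inl rfl⟩
    · right
      have hlog : Nat.log p (2 * n - 1) = j := by
        rw [← hj2]
        exact Nat.log_pow hp.one_lt j
      refine ⟨1, 1, orderOf x, by simp, one_dvd _, one_dvd _, Or.inr ⟨?_, x, ?_⟩⟩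
      · rw [hlog, hj]
      · rw [hlog, hj]
  · intro hnp x hx
    rcases psp_class p h2 hp2 hn x hx with h | h | h | ⟨j, hj, hj2⟩
    · left; exact h
    · right
      exact ⟨orderOf x, 1, 1, by simp, h, one_dvd _, Or.inl rfl⟩
    · right
      exact ⟨1, orderOf x, 1, by simp, one_dvd _, h, Or.inl rfl⟩
    · exact absurd ⟨j, hj2.symm⟩ hnp
  · intro k hk hkd
    exact psp_of_hasOrd_dvd n hn (hasOrd_of_dvd_sub_one n hn k hkd) (Or.inr ⟨hk, dvd_rfl⟩)
  · intro k hk hkd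
    exact psp_of_hasOrd_dvd n hn (hasOrd_of_dvd_add_one p n hn k hkd) (Or.inr ⟨hk, dvd_rfl⟩)
  · have hqn : Odd (q ^ n) := hodd.pow
    have h4 : q ^ n % 4 = 1 ∨ q ^ n % 4 = 3 := by
      obtain ⟨t, ht⟩ := hqn
      omega
    rcases h4 with h4 | h4
    · left
      intro k hk hkd
      have h4d : 4 ∣ q ^ n - 1 := by omega
      have hco : Nat.Coprime 4 k := by
        have : Nat.Coprime (2 ^ 2) k := Nat.Coprime.pow_left 2 (Nat.coprime_two_left.2 hk)
        simpa using this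
      have h4k : 4 * k ∣ q ^ n - 1 := hco.mul_dvd_of_dvd_of_dvd h4d hkd
      exact psp_of_hasOrd_dvd n hn (hasOrd_of_dvd_sub_one n hn (4 * k) h4k)
        (Or.inl (by rw [← mul_assoc]; norm_num))
    · right
      intro k hk hkd
      have h4d : 4 ∣ q ^ n + 1 := by omega
      have hco : Nat.Coprime 4 k := by
        have : Nat.Coprime (2 ^ 2) k := Nat.Coprime.pow_left 2 (Nat.coprime_two_left.2 hk)
        simpa using this
      have h4k : 4 * k ∣ q ^ n + 1 := hco.mul_dvd_of_dvd_of_dvd h4d hkd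
      exact psp_of_hasOrd_dvd n hn (hasOrd_of_dvd_add_one p n hn (4 * k) h4k)
        (Or.inl (by rw [← mul_assoc]; norm_num))

/-- Let F be a finite field of odd order q = p^a, n ≥ 2 (with q ≥ 3 automatic), and L = PSp(2n, F). Then for every m the direct product L × L × L × (ℤ/2)^m has the same set of element orders as L × L × L; and if 2n − 1 is not a power of p, then already L × L × (ℤ/2)^m has the same set of element orders as L × L. -/
theorem result {F : Type*} [Field F] [Fintype F] (p a n m : ℕ) (hp : p.Prime) (ha : 1 ≤ a) (hF : Fintype.card F = p ^ a) (hodd : Odd (Fintype.card F))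
    (hn : 2 ≤ n) :
    Set.range (orderOf : Cfsg.PSp n F × Cfsg.PSp n F × Cfsg.PSp n F × Multiplicative (Fin m → ZMod 2) → ℕ) = Set.range (orderOf : Cfsg.PSp n F × Cfsg.PSp n F × Cfsg.PSp n F → ℕ) ∧
    ((¬ ∃ j : ℕ, 2 * n - 1 = p ^ j) →
      Set.range (orderOf : Cfsg.PSp n F × Cfsg.PSp n F × Multiplicative (Fin m → ZMod 2) → ℕ) = Set.range (orderOf : Cfsg.PSp n F × Cfsg.PSp n F → ℕ)) := by
  classical
  have : Fact p.Prime := ⟨hp⟩
  have hchar : CharP F p := charP_of_card hp ha hF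
  obtain ⟨D1, D1', Rm, Rp, R2⟩ := data (F := F) p n hodd (by omega)
  exact ⟨Cfsg.Agent.Lib.H12.SpecPSp.range3 D1 Rm Rp R2,
    fun hnp => Cfsg.Agent.Lib.H12.SpecPSp.range2 (D1' hnp) Rm Rp R2⟩

end Cfsg.Agent.S2512
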