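import Cfsg.Statements.S2513
import Cfsg.Agent.Lib.H9.SpecGL2C
-- import your own Cfsg.Agent.* helpers here

set_option autoImplicit false
open Cfsg

namespace Cfsg.Agent.S2513

open Cfsg.Agent.Lib.H9.SpecGL2


/-- Let F be the field with two elements, n ≥ 2, L = PSL(n, F) and k₀ = ⌊(n + 3)/2⌋. Then for every k ≥ k₀ the direct product of k copies of L has the same set of element orders as the direct product of k₀ copies of L. -/
theorem result {F : Type*} [Field F] [Fintype F] (hF : Fintype.card F = 2) (n k : ℕ) (hn : 2 ≤ n) (hk : (n + 3) / 2 ≤ k) :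
    Set.range (orderOf : (Fin k → Matrix.ProjectiveSpecialLinearGroup (Fin n) F) → ℕ) = Set.range (orderOf : (Fin ((n + 3) / 2) → Matrix.ProjectiveSpecialLinearGroup (Fin n) F) → ℕ) := by
  apply Set.eq_of_subset_of_subset
  · rintro N ⟨f, rfl⟩
    obtain ⟨f0, hf0⟩ := exists_short_tuple hF hn f
    exact ⟨f0, hf0⟩
  · rintro N ⟨f0, rfl⟩
    refine ⟨fun i => if h : i.val < (n + 3) / 2 then f0 ⟨i.val, h⟩ else 1, ?_⟩
    rw [orderOf_eq_orderOf_iff]
    intro m
    constructor
    · intro h
      funext j
      have h1 := congrFun h ⟨j.val, lt_of_lt_of_le j.isLt hk⟩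
      simp only [Pi.pow_apply, Pi.one_apply] at h1
      rw [dif_pos j.isLt] at h1
      exact h1
    · intro h
      funext i
      simp only [Pi.pow_apply, Pi.one_apply]
      by_cases hi : i.val < (n + 3) / 2
      · rw [dif_pos hi]
        exact congrFun h ⟨i.val, hi⟩
      · rw [dif_neg hi, one_pow]

end Cfsg.Agent.S2513
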