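import Cfsg.Statements.S2514

set_option autoImplicit false
open Cfsg

namespace Cfsg.Agent.S2514

/-- maximal element orders -/
def mu (X : Type*) [Group X] : Set ℕ :=
  {n : ℕ | n ∈ Set.range (orderOf : X → ℕ) ∧ ∀ m ∈ Set.range (orderOf : X → ℕ), n ∣ m → m = n}

theorem exists_max {X : Type*} [Group X] [Finite X] (x : X) :
    ∃ m : ℕ, m ∈ mu X ∧ orderOf x ∣ m := by
  classical
  let P : ℕ → Prop := fun m => m ∈ Set.range (orderOf : X → ℕ) ∧ orderOf x ∣ m
  have hPx : P (orderOf x) := ⟨⟨x, rfl⟩, dvd_rfl⟩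
  have hle : ∀ y : X, orderOf y ≤ Nat.card X := fun y => orderOf_le_card
  have hspec : P (Nat.findGreatest P (Nat.card X)) := Nat.findGreatest_spec (hle x) hPx
  refine ⟨Nat.findGreatest P (Nat.card X), ⟨hspec.1, ?_⟩, hspec.2⟩
  rintro m' ⟨y, rfl⟩ hdvd
  have hP' : P (orderOf y) := ⟨⟨y, rfl⟩, hspec.2.trans hdvd⟩
  have h1 : orderOf y ≤ Nat.findGreatest P (Nat.card X) := Nat.le_findGreatest (hle y) hP'
  have h2 : Nat.findGreatest P (Nat.card X) ≤ orderOf y := Nat.le_of_dvd (orderOf_pos y) hdvd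
  omega

theorem exists_of_dvd {X : Type*} [Group X] [Finite X] (y : X) (d : ℕ) (hd : d ∣ orderOf y) :
    ∃ y' : X, orderOf y' = d :=
  ⟨y ^ (orderOf y / d), orderOf_pow_orderOf_div (orderOf_pos y).ne' hd⟩

theorem exists_of_dvd_mu {X : Type*} [Group X] [Finite X] (m d : ℕ) (hm : m ∈ mu X) (hd : d ∣ m) :
    ∃ y' : X, orderOf y' = d := by
  obtain ⟨⟨y, rfl⟩, _⟩ := hm
  exact exists_of_dvd y d hd

theorem pi_pow_eq_one {ι : Type*} {X : Type*} [Group X] (x : ι → X) (N : ℕ) :
    x ^ N = 1 ↔ ∀ i, x i ^ N = 1 := by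
  constructor
  · intro h i
    have := congrFun h i
    simpa using this
  · intro h
    funext i
    simpa using h i

theorem prod_pow_eq_one {A B : Type*} [Group A] [Group B] (x : A × B) (N : ℕ) :
    x ^ N = 1 ↔ x.1 ^ N = 1 ∧ x.2 ^ N = 1 := by
  rw [Prod.ext_iff]; simp

theorem pow_iff_of_orderOf_eq {A B : Type*} [Group A] [Group B] {a : A} {b : B}
    (h : orderOf a = orderOf b) (N : ℕ) : a ^ N = 1 ↔ b ^ N = 1 := by
  rw [← orderOf_dvd_iff_pow_eq_one, ← orderOf_dvd_iff_pow_eq_one, h]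

theorem main {G H : Type*} [Group G] [Finite G] [Group H] [Finite H] (k' : ℕ)
    (hsub : mu H ⊆ mu G)
    (hfew : (mu G \ mu H).ncard < k' + 1) :
    Set.range (orderOf : (Fin (k' + 1) → G) → ℕ) = Set.range (orderOf : (Fin k' → G) × H → ℕ) := by
  classical
  apply Set.eq_of_subset_of_subset
  · rintro n ⟨x, rfl⟩
    -- choose maximal orders
    choose m hm hdvd using fun i => exists_max (x i)
    by_cases hA : ∃ i, m i ∈ mu H
    · obtain ⟨i, hi⟩ := hA
      obtain ⟨h', hh'⟩ := exists_of_dvd_mu (X := H) (m i) (orderOf (x i)) hi (hdvd i)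
      refine ⟨(fun j => x (i.succAbove j), h'), ?_⟩
      rw [orderOf_eq_orderOf_iff]
      intro N
      rw [prod_pow_eq_one, pi_pow_eq_one, pi_pow_eq_one, Fin.forall_iff_succAbove i]
      rw [pow_iff_of_orderOf_eq hh' N]
      tauto
    · push Not at hA
      -- m maps into mu G \ mu H, not injective
      have hfin : (mu G \ mu H).Finite := by
        apply Set.Finite.subset (Set.finite_range (orderOf : G → ℕ))
        rintro n ⟨⟨hn, _⟩, _⟩
        exact hn
      have hninj : ¬ Function.Injective m := by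
        intro hinj
        have hmaps : ∀ i, m i ∈ mu G \ mu H := fun i => ⟨hm i, hA i⟩
        have : Nat.card (Fin (k' + 1)) ≤ (mu G \ mu H).ncard := by
          have h1 : (Set.range m).ncard = Nat.card (Fin (k'+1)) := by
            rw [Set.ncard_range_of_injective hinj]
          rw [← h1]
          apply Set.ncard_le_ncard _ hfin
          rintro _ ⟨i, rfl⟩
          exact hmaps i
        simp at this
        omega
      rw [Function.Injective] at hninj
      push Not at hninj
      obtain ⟨i, j, hij, hne⟩ := hninj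
      -- g' of order lcm
      have hl : Nat.lcm (orderOf (x i)) (orderOf (x j)) ∣ m i :=
        Nat.lcm_dvd (hdvd i) (hij ▸ hdvd j)
      obtain ⟨g', hg'⟩ := exists_of_dvd_mu (X := G) (m i) _ (hm i) hl
      obtain ⟨i', hi'⟩ := Fin.exists_succAbove_eq hne
      refine ⟨(fun l => (Function.update x i g') (j.succAbove l), 1), ?_⟩
      rw [orderOf_eq_orderOf_iff]
      intro N
      rw [prod_pow_eq_one, pi_pow_eq_one, pi_pow_eq_one]
      have hg'N : g' ^ N = 1 ↔ x i ^ N = 1 ∧ x j ^ N = 1 := by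
        rw [← orderOf_dvd_iff_pow_eq_one, ← orderOf_dvd_iff_pow_eq_one, ← orderOf_dvd_iff_pow_eq_one, hg']
        exact Nat.lcm_dvd_iff
      simp only []
      constructor
      · rintro ⟨h, _⟩
        have hgN : g' ^ N = 1 := by
          have := h i'
          rw [hi', Function.update_self] at this
          exact this
        obtain ⟨hi1, hj1⟩ := hg'N.mp hgN
        intro l
        by_cases hlj : l = j
        · rw [hlj]; exact hj1
        · by_cases hli : l = i
          · rw [hli]; exact hi1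
          · obtain ⟨l', hl'⟩ := Fin.exists_succAbove_eq hlj
            have := h l'
            rw [hl', Function.update_of_ne hli] at this
            exact this
      · intro h
        refine ⟨?_, one_pow N⟩
        intro l
        by_cases hl : j.succAbove l = i
        · rw [hl, Function.update_self, hg'N]
          exact ⟨h i, h j⟩
        · rw [Function.update_of_ne hl]
          exact h _
  · rintro n ⟨⟨z, h⟩, rfl⟩
    obtain ⟨m, hm, hdvd⟩ := exists_max h
    obtain ⟨g', hg'⟩ := exists_of_dvd_mu (X := G) m (orderOf h) (hsub hm) hdvd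
    refine ⟨Fin.cons g' z, ?_⟩
    rw [orderOf_eq_orderOf_iff]
    intro N
    rw [prod_pow_eq_one, pi_pow_eq_one, pi_pow_eq_one, Fin.forall_fin_succ]
    simp only [Fin.cons_zero, Fin.cons_succ]
    rw [pow_iff_of_orderOf_eq hg' N]
    tauto

theorem result {G H : Type*} [Group G] [Finite G] [Group H] [Finite H] (k : ℕ) (hk : 1 ≤ k)
    (hsub : {n : ℕ | n ∈ Set.range (orderOf : H → ℕ) ∧ ∀ m ∈ Set.range (orderOf : H → ℕ), n ∣ m → m = n} ⊆ {n : ℕ | n ∈ Set.range (orderOf : G → ℕ) ∧ ∀ m ∈ Set.range (orderOf : G → ℕ), n ∣ m → m = n})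
    (hfew : ({n : ℕ | n ∈ Set.range (orderOf : G → ℕ) ∧ ∀ m ∈ Set.range (orderOf : G → ℕ), n ∣ m → m = n} \ {n : ℕ | n ∈ Set.range (orderOf : H → ℕ) ∧ ∀ m ∈ Set.range (orderOf : H → ℕ), n ∣ m → m = n}).ncard < k) :
    Set.range (orderOf : (Fin k → G) → ℕ) = Set.range (orderOf : (Fin (k - 1) → G) × H → ℕ) := by
  obtain ⟨k', rfl⟩ : ∃ k', k = k' + 1 := ⟨k - 1, by omega⟩
  exact main k' hsub hfew

end Cfsg.Agent.S2514
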