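import Cfsg.Statements.S2516

set_option autoImplicit false
open Cfsg

namespace Cfsg.Agent.S2516

section
variable {F : Type*} [Field F] {V : Type*} [AddCommGroup V] [Module F V] {G : Type*} [Group G] (ρ : Representation F G V)

abbrev phi : G →* MulAut (Multiplicative V) := (MulAutMultiplicative V).symm.toMonoidHom.comp
        ((DistribMulAction.toAddAut ((V →ₗ[F] V)ˣ) V).comp ρ.asGroupHom)

theorem phi_apply (h : G) (v : V) : phi ρ h (Multiplicative.ofAdd v) = Multiplicative.ofAdd (ρ h v) := by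
  rfl

theorem pow_formula (g : G) (v : V) (j : ℕ) :
    (⟨Multiplicative.ofAdd v, g⟩ : Multiplicative V ⋊[phi ρ] G) ^ j =
      ⟨Multiplicative.ofAdd (∑ i ∈ Finset.range j, ((ρ g) ^ i) v), g ^ j⟩ := by
  induction j with
  | zero =>
    simp
  | succ j ih =>
    rw [pow_succ, ih]
    apply SemidirectProduct.ext
    · simp only [SemidirectProduct.mul_left]
      rw [phi_apply, ← ofAdd_add, Finset.sum_range_succ, map_pow]
    · simp only [SemidirectProduct.mul_right, pow_succ]

/-- powers of an element of the normal subgroup -/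
theorem pow_left (w : V) (j : ℕ) :
    (⟨Multiplicative.ofAdd w, 1⟩ : Multiplicative V ⋊[phi ρ] G) ^ j = ⟨Multiplicative.ofAdd (j • w), 1⟩ := by
  rw [pow_formula]
  apply SemidirectProduct.ext
  · simp
  · simp

end

theorem result {F : Type*} [Field F] (p : ℕ) [Fact p.Prime] [CharP F p] {V : Type*} [AddCommGroup V] [Module F V] [FiniteDimensional F V] [Nontrivial V]
    {G : Type*} [Group G] [Finite G] (ρ : Representation F G V) (g : G) :
    (∃ x : Multiplicative V ⋊[(MulAutMultiplicative V).symm.toMonoidHom.comp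
        ((DistribMulAction.toAddAut ((V →ₗ[F] V)ˣ) V).comp ρ.asGroupHom)] G,
        x.right = g ∧ orderOf x = p * orderOf g) ↔
      ¬ (minpoly F (ρ g) ∣ ∑ i ∈ Finset.range (orderOf g), (Polynomial.X : Polynomial F) ^ i) := by
  have hp : p.Prime := Fact.out
  set k := orderOf g with hk
  have hkpos : 0 < k := orderOf_pos g
  -- S = Σ ρ(g)^i
  set S : V →ₗ[F] V := ∑ i ∈ Finset.range k, (ρ g) ^ i with hS
  have haeval : Polynomial.aeval (ρ g) (∑ i ∈ Finset.range k, (Polynomial.X : Polynomial F) ^ i) = S := by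
    simp [hS]
  rw [minpoly.dvd_iff, haeval]
  have hSapply : ∀ v, S v = ∑ i ∈ Finset.range k, ((ρ g) ^ i) v := by
    intro v
    simp [hS, LinearMap.sum_apply]
  have hpk : ∀ v : V, (⟨Multiplicative.ofAdd v, g⟩ : Multiplicative V ⋊[phi ρ] G) ^ k = ⟨Multiplicative.ofAdd (S v), 1⟩ := by
    intro v
    rw [pow_formula, hSapply, hk, pow_orderOf_eq_one]
  have hchar : ∀ w : V, p • w = 0 := by
    intro w
    have : (p : F) = 0 := CharP.cast_eq_zero F p
    rw [← Nat.cast_smul_eq_nsmul F, this, zero_smul]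
  constructor
  · rintro ⟨x, hxr, hxo⟩ hS0
    obtain ⟨xl, xr⟩ := x
    simp only at hxr
    subst hxr
    have h1 : (⟨xl, xr⟩ : Multiplicative V ⋊[phi ρ] G) ^ k = 1 := by
      have := hpk (Multiplicative.toAdd xl)
      rw [hS0, LinearMap.zero_apply] at this
      rw [ofAdd_toAdd] at this
      rw [this]; rfl
    have h2 : orderOf (⟨xl, xr⟩ : Multiplicative V ⋊[phi ρ] G) ∣ k := orderOf_dvd_of_pow_eq_one h1
    rw [hxo] at h2
    have h3 := Nat.le_of_dvd hkpos h2
    have : 2 * k ≤ p * k := Nat.mul_le_mul_right k hp.two_le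
    omega
  · intro hS0
    obtain ⟨v, hv⟩ : ∃ v, S v ≠ 0 := by
      by_contra hcon
      push Not at hcon
      exact hS0 (LinearMap.ext hcon)
    refine ⟨⟨Multiplicative.ofAdd v, g⟩, rfl, ?_⟩
    set x : Multiplicative V ⋊[phi ρ] G := ⟨Multiplicative.ofAdd v, g⟩ with hx
    have hxk : x ^ k = ⟨Multiplicative.ofAdd (S v), 1⟩ := hpk v
    have hxpk : x ^ (k * p) = 1 := by
      rw [pow_mul, hxk, pow_left, hchar]; rfl
    have hdvd1 : orderOf x ∣ k * p := orderOf_dvd_of_pow_eq_one hxpk
    have hdvd2 : k ∣ orderOf x := by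
      have := orderOf_map_dvd (SemidirectProduct.rightHom : Multiplicative V ⋊[phi ρ] G →* G) x
      simpa [hx, hk] using this
    obtain ⟨d, hd⟩ := hdvd2
    rw [hd] at hdvd1
    have hdp : d ∣ p := (Nat.mul_dvd_mul_iff_left hkpos).mp hdvd1
    rcases (Nat.dvd_prime hp).mp hdp with h1 | h1
    · exfalso
      rw [h1, mul_one] at hd
      have : x ^ k = 1 := by rw [← hd]; exact pow_orderOf_eq_one x
      rw [hxk] at this
      have h4 := congrArg SemidirectProduct.left this
      simp only [SemidirectProduct.one_left] at h4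
      exact hv (by simpa using h4)
    · show orderOf x = p * k
      rw [hd, h1, mul_comm]

end Cfsg.Agent.S2516
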