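import Cfsg.Statements.S2521

set_option autoImplicit false
open Cfsg

namespace Cfsg.Agent.S2521

theorem result {B : Type*} [Group B] [Finite B] (U T : Subgroup B) [U.Normal] (hU : Group.IsNilpotent ↥U) (hT : IsMulCommutative ↥T)
    (hcompl : Subgroup.IsComplement' U T) (t : B) (ht : t ∈ T) (hreg : Subgroup.centralizer ({t} : Set B) = T) (u : B) (hu : u ∈ U) :
    ∃ b : B, b * t * b⁻¹ = t * u := by
  have hdisj : Disjoint U T := hcompl.disjoint
  -- φ v = t⁻¹ v t v⁻¹
  let φ : U → U := fun v => ⟨t⁻¹ * (v : B) * t * (v : B)⁻¹, by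
    have h1 : t⁻¹ * (v : B) * t ∈ U := by
      have := (inferInstance : U.Normal).conj_mem (v : B) v.2 t⁻¹
      simpa using this
    exact U.mul_mem h1 (U.inv_mem v.2)⟩
  have hinj : Function.Injective φ := by
    intro v w hvw
    have h1 : t⁻¹ * (v : B) * t * (v : B)⁻¹ = t⁻¹ * (w : B) * t * (w : B)⁻¹ := congrArg Subtype.val hvw
    -- (w⁻¹ v) commutes with t
    have h2 : ((w : B)⁻¹ * v) * t = t * ((w : B)⁻¹ * v) := by
      have h3 : (v : B) * t * (v : B)⁻¹ = (w : B) * t * (w : B)⁻¹ := by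
        calc (v : B) * t * (v : B)⁻¹ = t * (t⁻¹ * (v : B) * t * (v : B)⁻¹) := by group
          _ = t * (t⁻¹ * (w : B) * t * (w : B)⁻¹) := by rw [h1]
          _ = (w : B) * t * (w : B)⁻¹ := by group
      calc ((w : B)⁻¹ * v) * t = (w : B)⁻¹ * ((v : B) * t * (v : B)⁻¹) * v := by group
        _ = (w : B)⁻¹ * ((w : B) * t * (w : B)⁻¹) * v := by rw [h3]
        _ = t * ((w : B)⁻¹ * v) := by group
    have h4 : (w : B)⁻¹ * v ∈ Subgroup.centralizer ({t} : Set B) := by
      rw [Subgroup.mem_centralizer_iff]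
      intro x hx
      rw [Set.mem_singleton_iff] at hx
      subst hx
      exact h2.symm
    rw [hreg] at h4
    have h5 : (w : B)⁻¹ * v ∈ U := U.mul_mem (U.inv_mem w.2) v.2
    have h6 : (w : B)⁻¹ * v = 1 := by
      have := Subgroup.disjoint_def.mp hdisj h5 h4
      exact this
    apply Subtype.ext
    calc (v : B) = w * ((w : B)⁻¹ * v) := by group
      _ = w := by rw [h6, mul_one]
  have hsurj : Function.Surjective φ := Finite.injective_iff_surjective.mp hinj
  obtain ⟨v, hv⟩ := hsurj ⟨u, hu⟩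
  refine ⟨v, ?_⟩
  have h1 : t⁻¹ * (v : B) * t * (v : B)⁻¹ = u := congrArg Subtype.val hv
  rw [← h1]; group

end Cfsg.Agent.S2521
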