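import Cfsg.Statements.S2522
import Cfsg.Agent.Lib.H12.RegProdJ

set_option autoImplicit false
open Cfsg

namespace Cfsg.Agent.S2522

/-- Let K be a field with at least four elements (finite or infinite), n ≥ 3, and J ∈ GL(n, K) the regular unipotent matrix (ones on the diagonal and the superdiagonal, zeros elsewhere). Then every non-scalar g ∈ GL(n, K) with det g = 1 is a product of two GL(n, K)-conjugates of J. -/
theorem result {K : Type*} [Field K] (hK : 4 ≤ Cardinal.mk K) (n : ℕ) (hn : 3 ≤ n) (J g : GL (Fin n) K)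
    (hJ : ∀ i j : Fin n, (J : Matrix (Fin n) (Fin n) K) i j = if i = j then 1 else if j.val = i.val + 1 then 1 else 0)
    (hg : ¬ ∃ c : K, (g : Matrix (Fin n) (Fin n) K) = c • (1 : Matrix (Fin n) (Fin n) K))
    (hdet : (g : Matrix (Fin n) (Fin n) K).det = 1) :
    ∃ x y : GL (Fin n) K, g = (x * J * x⁻¹) * (y * J * y⁻¹) := by
  classical
  open Cfsg.Agent.Lib.H12.RegProd in
  have hBK := bigK_of_card hK
  obtain ⟨m, rfl⟩ : ∃ m, n = m + 1 := ⟨n - 1, by omega⟩
  set gl : Module.End K (Fin (m + 1) → K) := Matrix.toLin' (g : Matrix (Fin (m + 1)) (Fin (m + 1)) K)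
    with hgl
  have hdetl : LinearMap.det gl = 1 := by
    rw [hgl, LinearMap.det_toLin']
    exact hdet
  have hnsl : ¬ ∃ a : K, gl = a • (1 : Module.End K (Fin (m + 1) → K)) := by
    rintro ⟨a, ha⟩
    apply hg
    refine ⟨a, ?_⟩
    have h1 : LinearMap.toMatrix' gl = (g : Matrix (Fin (m + 1)) (Fin (m + 1)) K) := by
      rw [hgl, LinearMap.toMatrix'_toLin']
    rw [← h1, ha, map_smul]
    congr 1
    exact LinearMap.toMatrix'_one
  have hfin : Module.finrank K (Fin (m + 1) → K) = m + 1 := by simp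
  have key : ∃ (A B : Module.End K (Fin (m + 1) → K)) (c d : Fin (m + 1) → K),
      gl = A * B ∧ Cfsg.Agent.Lib.H12.RegProd.Reg A (m + 1) c ∧
        Cfsg.Agent.Lib.H12.RegProd.Reg B (m + 1) d := by
    by_cases hr : 2 ≤ Module.finrank K (LinearMap.range (gl - 1))
    · have hc0 : (Pi.single 0 1 : Fin (m + 1) → K) ≠ 0 := by
        intro h
        have := congrFun h 0
        simp at this
      have hb0 : (LinearMap.proj 0 : Module.Dual K (Fin (m + 1) → K)) ≠ 0 := by
        intro h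
        have := LinearMap.congr_fun h (Pi.single 0 1)
        simp at this
      obtain ⟨A, B, hAB, hA, hB1, hB2⟩ := Cfsg.Agent.Lib.H12.RegProd.main_induction
        (Cfsg.Agent.Lib.H12.RegProd.bigK_of_card hK) m (Fin (m + 1) → K) hfin gl hdetl
        (fun _ => ⟨hnsl, hr⟩) _ hc0 _ hb0
      obtain ⟨d, hd⟩ : ∃ d, ((B - 1) ^ (m + 1 - 1)) d ≠ 0 := by
        by_contra hcon
        push Not at hcon
        apply hB2
        ext v
        simp only [LinearMap.comp_apply, LinearMap.zero_apply]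
        rw [hcon]
        simp
      exact ⟨A, B, _, d, hAB, hA, hB1, hd⟩
    · exact Cfsg.Agent.Lib.H12.RegProd.transvection_case (m + 1) hn hfin gl hdetl hnsl hr
  obtain ⟨A, B, c, d, hAB, hA, hB⟩ := key
  obtain ⟨X, hX, hAX⟩ := Cfsg.Agent.Lib.H12.RegProd.reg_conj A c hA
    (J : Matrix (Fin (m + 1)) (Fin (m + 1)) K) hJ
  obtain ⟨Y, hY, hBY⟩ := Cfsg.Agent.Lib.H12.RegProd.reg_conj B d hB
    (J : Matrix (Fin (m + 1)) (Fin (m + 1)) K) hJ
  refine ⟨hX.unit, hY.unit, ?_⟩
  apply Units.ext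
  have h1 : LinearMap.toMatrix' gl = (g : Matrix (Fin (m + 1)) (Fin (m + 1)) K) := by
    rw [hgl, LinearMap.toMatrix'_toLin']
  have hA' : LinearMap.toMatrix' A
      = (hX.unit : Matrix (Fin (m + 1)) (Fin (m + 1)) K) * (J : Matrix (Fin (m + 1)) (Fin (m + 1)) K)
        * (((hX.unit)⁻¹ : GL (Fin (m + 1)) K) : Matrix (Fin (m + 1)) (Fin (m + 1)) K) := by
    have h2 : (hX.unit : Matrix (Fin (m + 1)) (Fin (m + 1)) K) = X := IsUnit.unit_spec hX
    have h3 : LinearMap.toMatrix' A * (hX.unit : Matrix (Fin (m + 1)) (Fin (m + 1)) K)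
        = (hX.unit : Matrix (Fin (m + 1)) (Fin (m + 1)) K) * (J : Matrix (Fin (m + 1)) (Fin (m + 1)) K) := by
      rw [h2]
      exact hAX
    rw [← h3, mul_assoc, Units.mul_inv, mul_one]
  have hB' : LinearMap.toMatrix' B
      = (hY.unit : Matrix (Fin (m + 1)) (Fin (m + 1)) K) * (J : Matrix (Fin (m + 1)) (Fin (m + 1)) K)
        * (((hY.unit)⁻¹ : GL (Fin (m + 1)) K) : Matrix (Fin (m + 1)) (Fin (m + 1)) K) := by
    have h2 : (hY.unit : Matrix (Fin (m + 1)) (Fin (m + 1)) K) = Y := IsUnit.unit_spec hY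
    have h3 : LinearMap.toMatrix' B * (hY.unit : Matrix (Fin (m + 1)) (Fin (m + 1)) K)
        = (hY.unit : Matrix (Fin (m + 1)) (Fin (m + 1)) K) * (J : Matrix (Fin (m + 1)) (Fin (m + 1)) K) := by
      rw [h2]
      exact hBY
    rw [← h3, mul_assoc, Units.mul_inv, mul_one]
  rw [← h1, hAB, LinearMap.toMatrix'_mul, hA', hB']
  simp only [Units.val_mul]

end Cfsg.Agent.S2522
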