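import Cfsg.Statements.S2532

set_option autoImplicit false
open Cfsg

namespace Cfsg.Agent.S2532

open MulAction

section General
variable {H : Type*} [Group H] [Finite H] {X : Type*} [Fintype X] [DecidableEq X] [MulAction H X]

/-- the number of orbits is at least `|X| / |H|` -/
theorem card_le_orbits_mul : Fintype.card X ≤ Nat.card (orbitRel.Quotient H X) * Nat.card H := by
  classical
  have : Fintype (orbitRel.Quotient H X) := Fintype.ofFinite _
  rw [Fintype.card_congr (selfEquivSigmaOrbits H X), Fintype.card_sigma,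
    Nat.card_eq_fintype_card (α := orbitRel.Quotient H X)]
  calc ∑ ω : orbitRel.Quotient H X, Fintype.card (orbit H ω.out)
      ≤ ∑ _ω : orbitRel.Quotient H X, Nat.card H := by
        apply Finset.sum_le_sum
        intro ω _
        rw [← Nat.card_eq_fintype_card]
        have hsurj : Function.Surjective (fun g : H => (⟨g • ω.out, mem_orbit _ g⟩ : orbit H ω.out)) := by
          rintro ⟨y, g, rfl⟩
          exact ⟨g, rfl⟩
        exact Nat.card_le_card_of_surjective _ hsurj
    _ = Fintype.card (orbitRel.Quotient H X) * Nat.card H := by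
        rw [Finset.sum_const, Finset.card_univ, smul_eq_mul]

theorem exists_points (r : ℕ) (hbig : 2 ^ Nat.card H * Nat.card H * r ≤ Fintype.card X) :
    ∃ (S : Subgroup H) (x : Fin r → X), (∀ i, stabilizer H (x i) = S) ∧
      (∀ i j, (∃ g : H, g • x i = x j) → i = j) := by
  classical
  have : Fintype H := Fintype.ofFinite H
  have : Fintype (orbitRel.Quotient H X) := Fintype.ofFinite _
  have hpos : 0 < Nat.card H := Nat.card_pos
  have h1 := card_le_orbits_mul (H := H) (X := X)
  have h2 : 2 ^ Nat.card H * r ≤ Nat.card (orbitRel.Quotient H X) := by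
    apply Nat.le_of_mul_le_mul_right _ hpos
    calc 2 ^ Nat.card H * r * Nat.card H = 2 ^ Nat.card H * Nat.card H * r := by ring
      _ ≤ Fintype.card X := hbig
      _ ≤ _ := h1
  let f : orbitRel.Quotient H X → Set H := fun ω => (stabilizer H ω.out : Set H)
  have h3 : Fintype.card (Set H) * r ≤ Fintype.card (orbitRel.Quotient H X) := by
    rw [Fintype.card_set, ← Nat.card_eq_fintype_card, ← Nat.card_eq_fintype_card]
    exact h2
  obtain ⟨S₀, hS₀⟩ := Fintype.exists_le_card_fiber_of_mul_le_card f h3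
  have h4 : Fintype.card (Fin r) ≤ Fintype.card {ω : orbitRel.Quotient H X // f ω = S₀} := by
    rw [Fintype.card_fin, Fintype.card_subtype]
    exact hS₀
  obtain ⟨e⟩ := Function.Embedding.nonempty_of_card_le h4
  let x : Fin r → X := fun i => (e i).1.out
  have hx : ∀ i, (stabilizer H (x i) : Set H) = S₀ := fun i => (e i).2
  refine ⟨if h : 0 < r then stabilizer H (x ⟨0, h⟩) else ⊥, x, ?_, ?_⟩
  · intro i
    have hr : 0 < r := Nat.lt_of_le_of_lt (Nat.zero_le _) i.2
    rw [dif_pos hr]
    apply SetLike.coe_injective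
    rw [hx, hx]
  · rintro i j ⟨g, hg⟩
    apply e.injective
    apply Subtype.ext
    have h5 : (Quotient.mk'' (x i) : orbitRel.Quotient H X) = Quotient.mk'' (x j) := by
      apply Quotient.sound'
      show (orbitRel H X) (x i) (x j)
      rw [orbitRel_apply]
      refine ⟨g⁻¹, ?_⟩
      show g⁻¹ • x j = x i
      rw [← hg, inv_smul_smul]
    have h6 : ∀ k, (Quotient.mk'' (x k) : orbitRel.Quotient H X) = (e k).1 := fun k =>
      Quotient.out_eq' _
    rw [← h6 i, ← h6 j, h5]

section Embed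
variable (S : Subgroup H) {r : ℕ} (x : Fin r → X) (hS : ∀ i, stabilizer H (x i) = S)
  (hx : ∀ i j, (∃ g : H, g • x i = x j) → i = j)

/-- the parametrisation of the union of the chosen orbits -/
def iotaFun : (H ⧸ S) × Fin r → X := fun p =>
  Quotient.liftOn' p.1 (fun h => h • x p.2) (by
    intro a b hab
    rw [QuotientGroup.leftRel_apply] at hab
    have h1 : a⁻¹ * b ∈ stabilizer H (x p.2) := by rw [hS]; exact hab
    rw [mem_stabilizer_iff, mul_smul] at h1
    show a • x p.2 = b • x p.2
    rw [← h1, smul_inv_smul, h1])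

theorem iotaFun_mk (h : H) (i : Fin r) :
    iotaFun S x hS ((QuotientGroup.mk h : H ⧸ S), i) = h • x i := rfl

include hx in
theorem iotaFun_injective : Function.Injective (iotaFun S x hS) := by
  rintro ⟨c, i⟩ ⟨c', i'⟩ heq
  induction c using QuotientGroup.induction_on with
  | H h =>
  induction c' using QuotientGroup.induction_on with
  | H h' =>
  rw [iotaFun_mk, iotaFun_mk] at heq
  have hi : i = i' := by
    apply hx
    refine ⟨h'⁻¹ * h, ?_⟩
    rw [mul_smul, heq, inv_smul_smul]
  subst hi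
  have h1 : h⁻¹ * h' ∈ stabilizer H (x i) := by
    rw [mem_stabilizer_iff, mul_smul, ← heq, inv_smul_smul]
  rw [hS] at h1
  rw [Prod.mk.injEq]
  exact ⟨QuotientGroup.eq.mpr h1, rfl⟩

/-- `σ ↦ id × σ` -/
def prodRightHom (α : Type*) (r : ℕ) : Equiv.Perm (Fin r) →* Equiv.Perm (α × Fin r) where
  toFun σ := Equiv.prodCongr (Equiv.refl α) σ
  map_one' := by
    ext p <;> rfl
  map_mul' σ τ := by
    ext p <;> rfl

theorem prodRightHom_apply (α : Type*) (r : ℕ) (σ : Equiv.Perm (Fin r)) (p : α × Fin r) :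
    prodRightHom α r σ p = (p.1, σ p.2) := rfl

theorem prodRightHom_injective (α : Type*) [Nonempty α] (r : ℕ) :
    Function.Injective (prodRightHom α r) := by
  intro σ τ h
  ext i
  obtain ⟨a⟩ := ‹Nonempty α›
  have := congrArg (fun f : Equiv.Perm (α × Fin r) => (f (a, i)).2) h
  simp only [prodRightHom_apply] at this
  rw [this]

/-- the embedding of `Perm (Fin r)` permuting the chosen orbits -/
noncomputable def Phi : Equiv.Perm (Fin r) →* Equiv.Perm X :=
  (Equiv.Perm.viaEmbeddingHom ⟨iotaFun S x hS, iotaFun_injective S x hS hx⟩).comp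
    (prodRightHom (H ⧸ S) r)

theorem Phi_injective : Function.Injective (Phi S x hS hx) := by
  unfold Phi
  rw [MonoidHom.coe_comp]
  exact (Equiv.Perm.viaEmbeddingHom_injective _).comp (prodRightHom_injective _ r)

theorem Phi_iota (σ : Equiv.Perm (Fin r)) (p : (H ⧸ S) × Fin r) :
    Phi S x hS hx σ (iotaFun S x hS p) = iotaFun S x hS (p.1, σ p.2) := by
  show Equiv.Perm.viaEmbedding (prodRightHom (H ⧸ S) r σ)
    ⟨iotaFun S x hS, iotaFun_injective S x hS hx⟩ (iotaFun S x hS p) = _
  exact Equiv.Perm.viaEmbedding_apply _ _ p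

theorem Phi_not_mem (σ : Equiv.Perm (Fin r)) (y : X) (hy : y ∉ Set.range (iotaFun S x hS)) :
    Phi S x hS hx σ y = y := by
  show Equiv.Perm.viaEmbedding (prodRightHom (H ⧸ S) r σ)
    ⟨iotaFun S x hS, iotaFun_injective S x hS hx⟩ y = _
  exact Equiv.Perm.viaEmbedding_apply_of_notMem _ _ y hy

theorem smul_iota (g : H) (p : (H ⧸ S) × Fin r) :
    ∃ c, g • iotaFun S x hS p = iotaFun S x hS (c, p.2) ∧
      ∀ j, g • iotaFun S x hS (p.1, j) = iotaFun S x hS (c, j) := by
  obtain ⟨c, i⟩ := p
  induction c using QuotientGroup.induction_on with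
  | H h =>
  refine ⟨QuotientGroup.mk (g * h), ?_, ?_⟩
  · rw [iotaFun_mk, iotaFun_mk, mul_smul]
  · intro j
    rw [iotaFun_mk, iotaFun_mk, mul_smul]

theorem Phi_smul (σ : Equiv.Perm (Fin r)) (g : H) (y : X) :
    Phi S x hS hx σ (g • y) = g • Phi S x hS hx σ y := by
  by_cases hy : y ∈ Set.range (iotaFun S x hS)
  · obtain ⟨p, rfl⟩ := hy
    obtain ⟨c, hc1, hc2⟩ := smul_iota S x hS g p
    rw [hc1, Phi_iota, Phi_iota, hc2]
  · have hy' : g • y ∉ Set.range (iotaFun S x hS) := by
      rintro ⟨p, hp⟩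
      apply hy
      obtain ⟨c, hc1, _⟩ := smul_iota S x hS g⁻¹ p
      refine ⟨(c, p.2), ?_⟩
      rw [← hc1, hp, inv_smul_smul]
    rw [Phi_not_mem S x hS hx σ y hy, Phi_not_mem S x hS hx σ _ hy']

end Embed

end General

/-- A small subgroup of a large alternating group centralizes an alternating subgroup. -/
theorem result :
    ∃ f : ℕ → ℕ → ℕ, ∀ (m r : ℕ) (H : Subgroup ↥(alternatingGroup (Fin m))), f (Nat.card H) r ≤ m →
      ∃ K : Subgroup ↥(alternatingGroup (Fin m)), Nonempty (↥K ≃* ↥(alternatingGroup (Fin r))) ∧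
        K ≤ Subgroup.centralizer (H : Set ↥(alternatingGroup (Fin m))) := by
  classical
  refine ⟨fun h r => 2 ^ h * h * r, ?_⟩
  intro m r H hm
  have hbig : 2 ^ Nat.card H * Nat.card H * r ≤ Fintype.card (Fin m) := by
    rw [Fintype.card_fin]; exact hm
  obtain ⟨S, x, hS, hx⟩ := exists_points (H := H) (X := Fin m) r hbig
  let Φ : Equiv.Perm (Fin r) →* Equiv.Perm (Fin m) := Phi S x hS hx
  have heven : ∀ σ ∈ alternatingGroup (Fin r), Φ σ ∈ alternatingGroup (Fin m) := by
    intro σ hσ
    rw [← Equiv.Perm.closure_three_cycles_eq_alternating] at hσ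
    refine Subgroup.closure_induction (p := fun σ _ => Φ σ ∈ alternatingGroup (Fin m))
      ?_ ?_ ?_ ?_ hσ
    · intro τ hτ
      have hτ' : τ.IsThreeCycle := hτ
      have h3 : (Φ τ) ^ 3 = 1 := by
        rw [← map_pow, ← hτ'.orderOf, pow_orderOf_eq_one, map_one]
      rw [Equiv.Perm.mem_alternatingGroup]
      have hs : (Equiv.Perm.sign (Φ τ)) ^ 3 = 1 := by rw [← map_pow, h3, map_one]
      rcases Int.units_eq_one_or (Equiv.Perm.sign (Φ τ)) with h | h
      · exact h
      · rw [h] at hs
        exact absurd hs (by decide)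
    · rw [map_one]; exact one_mem _
    · intro a b _ _ ha hb
      rw [map_mul]; exact mul_mem ha hb
    · intro a _ ha
      rw [map_inv]; exact inv_mem ha
  let Ψ : ↥(alternatingGroup (Fin r)) →* ↥(alternatingGroup (Fin m)) :=
    (Φ.comp (Subgroup.subtype _)).codRestrict _ (fun σ => heven σ.1 σ.2)
  have hΨ : ∀ σ, ((Ψ σ : ↥(alternatingGroup (Fin m))) : Equiv.Perm (Fin m)) = Φ σ.1 := fun _ => rfl
  have hΨinj : Function.Injective Ψ := by
    intro σ τ h
    apply Subtype.ext
    apply Phi_injective S x hS hx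
    have := congrArg (fun k : ↥(alternatingGroup (Fin m)) => (k : Equiv.Perm (Fin m))) h
    exact this
  refine ⟨Ψ.range, ⟨(MonoidHom.ofInjective hΨinj).symm⟩, ?_⟩
  rintro _ ⟨σ, rfl⟩
  rw [Subgroup.mem_centralizer_iff]
  intro h hh
  apply Subtype.ext
  apply Equiv.ext
  intro y
  show (h : Equiv.Perm (Fin m)) (Φ σ.1 y) = Φ σ.1 ((h : Equiv.Perm (Fin m)) y)
  exact (Phi_smul S x hS hx σ.1 ⟨h, hh⟩ y).symm

end Cfsg.Agent.S2532
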