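import Cfsg.Statements.S2533
import Cfsg.Agent.Lib.H9.KronBrick
-- import your own Cfsg.Agent.* helpers here

set_option autoImplicit false
open Cfsg

namespace Cfsg.Agent.S2533

open Matrix Cfsg.Agent.Lib.H9.KronBrick

/-- the additive group `(ZMod p)^3`, written multiplicatively -/
abbrev A3 (p : ℕ) := Multiplicative (ZMod p × ZMod p × ZMod p)

/-- the action of `ℤˣ` on a commutative group by powers -/
def powAut (N : Type) [CommGroup N] : ℤˣ →* MulAut N where
  toFun u :=
    { toFun := fun x => x ^ (u : ℤ)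
      invFun := fun x => x ^ ((u⁻¹ : ℤˣ) : ℤ)
      left_inv := fun x => by
        show (x ^ (u : ℤ)) ^ ((u⁻¹ : ℤˣ) : ℤ) = x
        rw [← _root_.zpow_mul, ← Units.val_mul, mul_inv_cancel, Units.val_one, zpow_one]
      right_inv := fun x => by
        show (x ^ ((u⁻¹ : ℤˣ) : ℤ)) ^ (u : ℤ) = x
        rw [← _root_.zpow_mul, ← Units.val_mul, inv_mul_cancel, Units.val_one, zpow_one]
      map_mul' := fun x y => mul_zpow x y _ }
  map_one' := by
    ext x
    show x ^ ((1 : ℤˣ) : ℤ) = x
    rw [Units.val_one, zpow_one]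
  map_mul' u v := by
    ext x
    show x ^ ((u * v : ℤˣ) : ℤ) = (x ^ (v : ℤ)) ^ (u : ℤ)
    rw [← _root_.zpow_mul, Units.val_mul, mul_comm]

lemma powAut_apply (N : Type) [CommGroup N] (u : ℤˣ) (x : N) : powAut N u x = x ^ (u : ℤ) := rfl

/-- the group `C_p^3 : C_2` -/
abbrev HH (p : ℕ) := A3 p ⋊[powAut (A3 p)] ℤˣ

/-- the unipotent part of the representation -/
noncomputable def f1 (p n : ℕ) [Fact p.Prime] : A3 p →* SpecialLinearGroup (Fin n) (ZMod p) where
  toFun x := ⟨rho p n (Multiplicative.toAdd x), det_rho p n _⟩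
  map_one' := by
    apply Subtype.ext
    show rho p n (Multiplicative.toAdd (1 : A3 p)) = 1
    rw [toAdd_one, rho_zero]
  map_mul' x y := by
    apply Subtype.ext
    show rho p n (Multiplicative.toAdd (x * y)) = rho p n (Multiplicative.toAdd x) * rho p n (Multiplicative.toAdd y)
    rw [toAdd_mul, rho_add]

/-- the involution -/
noncomputable def tau (p n : ℕ) (hn : n % 2 = 1) : SpecialLinearGroup (Fin n) (ZMod p) :=
  ⟨mT' p n, det_mT' p n hn⟩

lemma tau_mul_tau (p n : ℕ) (hn : n % 2 = 1) : tau p n hn * tau p n hn = 1 := by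
  apply Subtype.ext
  show mT' p n * mT' p n = 1
  exact mT'_mul_mT' p n

/-- the involutory part of the representation -/
noncomputable def f2 (p n : ℕ) (hn : n % 2 = 1) : ℤˣ →* SpecialLinearGroup (Fin n) (ZMod p) where
  toFun u := if u = 1 then 1 else tau p n hn
  map_one' := by simp
  map_mul' u v := by
    rcases Int.units_eq_one_or u with rfl | rfl <;> rcases Int.units_eq_one_or v with rfl | rfl
    · simp
    · simp
    · simp
    · have h : (-1 : ℤˣ) ≠ 1 := by decide
      simp [h, tau_mul_tau]

lemma f2_neg_one (p n : ℕ) (hn : n % 2 = 1) : f2 p n hn (-1) = tau p n hn := by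
  have h : (-1 : ℤˣ) ≠ 1 := by decide
  simp [f2, h]

lemma f_compat (p n : ℕ) [Fact p.Prime] (hn : n % 2 = 1) (u : ℤˣ) :
    (f1 p n).comp (powAut (A3 p) u).toMonoidHom =
      (MulAut.conj (f2 p n hn u)).toMonoidHom.comp (f1 p n) := by
  refine MonoidHom.ext fun x => ?_
  simp only [MonoidHom.comp_apply, MulEquiv.coe_toMonoidHom, MulAut.conj_apply, powAut_apply]
  rcases Int.units_eq_one_or u with rfl | rfl
  · simp
  · rw [f2_neg_one, eq_mul_inv_iff_mul_eq]
    apply Subtype.ext
    show rho p n (Multiplicative.toAdd (x ^ ((-1 : ℤˣ) : ℤ))) * mT' p n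
      = mT' p n * rho p n (Multiplicative.toAdd x)
    rw [mT'_mul_rho]
    congr 2
    simp

/-- the representation `C_p^3 : C_2 → SL_n(p)` -/
noncomputable def psi (p n : ℕ) [Fact p.Prime] (hn : n % 2 = 1) :
    HH p →* SpecialLinearGroup (Fin n) (ZMod p) :=
  SemidirectProduct.lift (f1 p n) (f2 p n hn) (f_compat p n hn)

lemma psi_apply (p n : ℕ) [Fact p.Prime] (hn : n % 2 = 1) (x : HH p) :
    psi p n hn x = f1 p n x.left * f2 p n hn x.right := rfl

lemma center_eq_bot (p n : ℕ) [Fact p.Prime] (hn0 : 0 < n) (hg : Nat.gcd n (p - 1) = 1) :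
    Subgroup.center (SpecialLinearGroup (Fin n) (ZMod p)) = ⊥ := by
  rw [eq_bot_iff]
  intro A hA
  rw [Subgroup.mem_bot]
  obtain ⟨r, hr, hrA⟩ := Matrix.SpecialLinearGroup.mem_center_iff.mp hA
  rw [Fintype.card_fin] at hr
  have hr0 : r ≠ 0 := by
    rintro rfl
    rw [zero_pow (by omega)] at hr
    exact zero_ne_one hr
  have hr2 : r ^ (p - 1) = 1 := ZMod.pow_card_sub_one_eq_one hr0
  have hr3 : r ^ (Nat.gcd n (p - 1)) = 1 := pow_gcd_eq_one.mpr ⟨hr, hr2⟩
  rw [hg, pow_one] at hr3
  apply Subtype.ext
  rw [← hrA, hr3]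
  simp

lemma psi_injective (p n : ℕ) [Fact p.Prime] (hp : p ≠ 2) (hn : n % 2 = 1) (h3 : 3 < n) :
    Function.Injective (psi p n hn) := by
  rw [injective_iff_map_eq_one]
  intro x hx
  rw [psi_apply] at hx
  rcases Int.units_eq_one_or x.right with hu | hu
  · rw [hu, map_one, mul_one] at hx
    have h1 : rho p n (Multiplicative.toAdd x.left) = 1 := congrArg Subtype.val hx
    have h2 := rho_injective p n h3 _ h1
    apply SemidirectProduct.ext
    · show x.left = 1
      exact Multiplicative.toAdd.injective h2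
    · exact hu
  · exfalso
    rw [hu, f2_neg_one] at hx
    have h1 : rho p n (Multiplicative.toAdd x.left) * mT' p n = 1 := congrArg Subtype.val hx
    have key : ∀ i : Fin n, (mT p n).det * (-1 : ZMod p) ^ i.val = 1 := by
      intro i
      have h2 := congr_fun (congr_fun h1 i) i
      rw [mT', Matrix.mul_smul, Matrix.smul_apply, mT, Matrix.mul_diagonal, rho, Matrix.add_apply,
        (OE_mM p n _).diag i, Matrix.one_apply_eq, add_zero, one_mul, smul_eq_mul] at h2
      exact h2
    have k0 := key ⟨0, by omega⟩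
    have k1 := key ⟨1, by omega⟩
    simp only [pow_zero, pow_one, mul_one] at k0 k1
    rw [k0] at k1
    apply two_ne_zero' hp
    linear_combination -k1

lemma eq_one_of_commute (p n : ℕ) [Fact p.Prime] (hp : p ≠ 2) (hn : n % 2 = 1)
    (hg : Nat.gcd n (p - 1) = 1) (g : SpecialLinearGroup (Fin n) (ZMod p))
    (hc : ∀ x : HH p, psi p n hn x * g = g * psi p n hn x) : g = 1 := by
  have hn0 : 0 < n := by omega
  -- commuting with X
  have hX : g.val * mX p n = mX p n * g.val := by
    have h1 := congrArg Subtype.val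
      (hc (SemidirectProduct.inl (Multiplicative.ofAdd ((1, 0, 0) : ZMod p × ZMod p × ZMod p))))
    rw [psi_apply] at h1
    simp only [SemidirectProduct.left_inl, SemidirectProduct.right_inl, map_one, mul_one] at h1
    have h2 : rho p n ((1, 0, 0) : ZMod p × ZMod p × ZMod p) * g.val
        = g.val * rho p n ((1, 0, 0) : ZMod p × ZMod p × ZMod p) := h1
    have h3 : mM p n ((1, 0, 0) : ZMod p × ZMod p × ZMod p) = mX p n := by simp [mM]
    rw [rho, h3, add_mul, mul_add, one_mul, mul_one] at h2
    exact (add_left_cancel h2).symm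
  have hY : g.val * mY p n = mY p n * g.val := by
    have h1 := congrArg Subtype.val
      (hc (SemidirectProduct.inl (Multiplicative.ofAdd ((0, 1, 0) : ZMod p × ZMod p × ZMod p))))
    rw [psi_apply] at h1
    simp only [SemidirectProduct.left_inl, SemidirectProduct.right_inl, map_one, mul_one] at h1
    have h2 : rho p n ((0, 1, 0) : ZMod p × ZMod p × ZMod p) * g.val
        = g.val * rho p n ((0, 1, 0) : ZMod p × ZMod p × ZMod p) := h1
    have h3 : mM p n ((0, 1, 0) : ZMod p × ZMod p × ZMod p) = mY p n := by simp [mM]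
    rw [rho, h3, add_mul, mul_add, one_mul, mul_one] at h2
    exact (add_left_cancel h2).symm
  have hT : g.val * mT p n = mT p n * g.val := by
    have h1 := congrArg Subtype.val (hc (SemidirectProduct.inr (-1 : ℤˣ)))
    rw [psi_apply] at h1
    simp only [SemidirectProduct.left_inr, SemidirectProduct.right_inr, map_one, one_mul,
      f2_neg_one] at h1
    have h2 : mT' p n * g.val = g.val * mT' p n := h1
    rw [mT', Matrix.smul_mul, Matrix.mul_smul] at h2
    have h3 := congrArg (fun M => (mT p n).det • M) h2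
    simp only [smul_smul, det_mT_sq, one_smul] at h3
    exact h3.symm
  have hs := scalar_of_commute hp hn g.val hT hX hY
  have hcen : g ∈ Subgroup.center (SpecialLinearGroup (Fin n) (ZMod p)) := by
    rw [Subgroup.mem_center_iff]
    intro B
    apply Subtype.ext
    show B.val * g.val = g.val * B.val
    have hg' : g.val = (ext0 g.val 0 0) • (1 : Matrix (Fin n) (Fin n) (ZMod p)) := by
      ext i j
      rw [hs i j, Matrix.smul_apply, Matrix.one_apply, smul_eq_mul]
      split_ifs <;> simp
    rw [hg', Matrix.mul_smul, Matrix.smul_mul, mul_one, one_mul]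
  rw [center_eq_bot p n hn0 hg, Subgroup.mem_bot] at hcen
  exact hcen


/-- For every odd prime `p` there is a finite group `H` of order `2p³` which, for infinitely many `n`, embeds in the projective special linear group `PSL(n, p)` as a subgroup with trivial centralizer. -/
theorem result
    (p : ℕ) [Fact p.Prime] (hp : p ≠ 2) :
    ∃ (H : Type) (_ : Group H) (_ : Finite H), Nat.card H = 2 * p ^ 3 ∧
      ∀ N : ℕ, ∃ n, N ≤ n ∧ ∃ φ : H →* Matrix.ProjectiveSpecialLinearGroup (Fin n) (ZMod p),
        Function.Injective φ ∧ Subgroup.centralizer (φ.range : Set (Matrix.ProjectiveSpecialLinearGroup (Fin n) (ZMod p))) = ⊥ := by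
  have hfin : Finite (HH p) := Finite.of_equiv _ SemidirectProduct.equivProd.symm
  refine ⟨HH p, inferInstance, hfin, ?_, ?_⟩
  · rw [SemidirectProduct.card, Nat.card_eq_fintype_card, Nat.card_eq_fintype_card,
      Fintype.card_units_int]
    have : Fintype.card (A3 p) = p ^ 3 := by
      rw [Fintype.card_multiplicative, Fintype.card_prod, Fintype.card_prod, ZMod.card]
      ring
    rw [this]; ring
  · intro N
    have hp2 := (Fact.out : p.Prime).two_le
    have hp3 : 3 ≤ p := by omega
    have hpodd : p % 2 = 1 := by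
      rcases (Fact.out : p.Prime).eq_two_or_odd with h | h
      · exact absurd h hp
      · exact h
    obtain ⟨q, hq⟩ : ∃ q, p - 1 = 2 * q := ⟨(p - 1) / 2, by omega⟩
    have hq1 : 1 ≤ q := by omega
    set n := (p - 1) * (N + 2) + 1 with hn_def
    have hn : n % 2 = 1 := by
      rw [hn_def, hq, mul_assoc]; omega
    have hnN : N ≤ n := by
      rw [hn_def, hq]
      nlinarith
    have h3 : 3 < n := by
      rw [hn_def, hq]
      nlinarith
    have hg : Nat.gcd n (p - 1) = 1 := by
      have : Nat.Coprime ((p - 1) * (N + 2) + 1) (p - 1) := by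
        rw [Nat.coprime_mul_left_add_left]
        exact Nat.coprime_one_left _
      exact this
    have hcb := center_eq_bot p n (by omega) hg
    refine ⟨n, hnN, (QuotientGroup.mk' _).comp (psi p n hn), ?_, ?_⟩
    · have hmk : Function.Injective (QuotientGroup.mk' (Subgroup.center (SpecialLinearGroup (Fin n) (ZMod p)))) := by
        rw [← MonoidHom.ker_eq_bot_iff, QuotientGroup.ker_mk', hcb]
      exact hmk.comp (psi_injective p n hp hn h3)
    · have hmk : Function.Injective (QuotientGroup.mk' (Subgroup.center (SpecialLinearGroup (Fin n) (ZMod p)))) := by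
        rw [← MonoidHom.ker_eq_bot_iff, QuotientGroup.ker_mk', hcb]
      rw [eq_bot_iff]
      intro y hy
      rw [Subgroup.mem_bot]
      obtain ⟨g, rfl⟩ := QuotientGroup.mk'_surjective _ y
      rw [Subgroup.mem_centralizer_iff] at hy
      have hg1 : g = 1 := by
        apply eq_one_of_commute p n hp hn hg g
        intro x
        apply hmk
        rw [map_mul, map_mul]
        exact hy _ ⟨x, rfl⟩
      rw [hg1, map_one]


end Cfsg.Agent.S2533
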