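import Cfsg.Statements.S2540
import Cfsg.Agent.Lib.H2.PSLSimple

set_option autoImplicit false
open Cfsg

namespace Cfsg.Agent.S2540

open Matrix

theorem core {F : Type*} [Field F] {n : ℕ}
    (hsimple : IsSimpleGroup (Matrix.ProjectiveSpecialLinearGroup (Fin n) F))
    (hperf : commutator (Matrix.SpecialLinearGroup (Fin n) F) = ⊤)
    (G : Subgroup (Matrix.GeneralLinearGroup (Fin n) F))
    (hG : ∀ s : Matrix.SpecialLinearGroup (Fin n) F, ∀ g ∈ G,
      (Matrix.SpecialLinearGroup.toGL s) * g * (Matrix.SpecialLinearGroup.toGL s)⁻¹ ∈ G) :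
    (∀ g ∈ G, ∃ c : F, (g : Matrix (Fin n) (Fin n) F) = c • (1 : Matrix (Fin n) (Fin n) F)) ∨
      (Matrix.SpecialLinearGroup.toGL : Matrix.SpecialLinearGroup (Fin n) F →* _).range ≤ G := by
  classical
  let H : Subgroup (Matrix.SpecialLinearGroup (Fin n) F) := G.comap Matrix.SpecialLinearGroup.toGL
  have hHn : H.Normal := ⟨fun h hh s => by
    show Matrix.SpecialLinearGroup.toGL (s * h * s⁻¹) ∈ G
    rw [map_mul, map_mul, map_inv]
    exact hG s _ hh⟩
  let π := QuotientGroup.mk' (Subgroup.center (Matrix.SpecialLinearGroup (Fin n) F))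
  have hπs : Function.Surjective π := QuotientGroup.mk'_surjective _
  have hmapn : (H.map π).Normal := hHn.map π hπs
  rcases hmapn.eq_bot_or_eq_top with hbot | htop
  · left
    have hHle : H ≤ Subgroup.center (Matrix.SpecialLinearGroup (Fin n) F) := by
      intro h hh
      have h1 : π h ∈ H.map π := Subgroup.mem_map_of_mem π hh
      rw [hbot, Subgroup.mem_bot] at h1
      exact (QuotientGroup.eq_one_iff h).mp h1
    intro g hg
    have hcentral : ∀ z ∈ Subgroup.center (Matrix.SpecialLinearGroup (Fin n) F),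
        ∀ x : Matrix.GeneralLinearGroup (Fin n) F,
          Matrix.SpecialLinearGroup.toGL z * x = x * Matrix.SpecialLinearGroup.toGL z := by
      intro z hz x
      obtain ⟨r, _, hr⟩ := Matrix.SpecialLinearGroup.mem_center_iff.mp hz
      apply Units.ext
      rw [Units.val_mul, Units.val_mul]
      show (z : Matrix (Fin n) (Fin n) F) * (x : Matrix (Fin n) (Fin n) F) = x * z
      rw [← hr]
      exact (Matrix.scalar_commute r (fun r' => mul_comm r r') _)
    have hc : ∀ s : Matrix.SpecialLinearGroup (Fin n) F,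
        ∃ z ∈ Subgroup.center (Matrix.SpecialLinearGroup (Fin n) F),
          Matrix.SpecialLinearGroup.toGL s * g * (Matrix.SpecialLinearGroup.toGL s)⁻¹ * g⁻¹ =
            Matrix.SpecialLinearGroup.toGL z := by
      intro s
      have hmem : Matrix.SpecialLinearGroup.toGL s * g * (Matrix.SpecialLinearGroup.toGL s)⁻¹ * g⁻¹
          ∈ G := G.mul_mem (hG s g hg) (G.inv_mem hg)
      have hdet : ((Matrix.SpecialLinearGroup.toGL s * g * (Matrix.SpecialLinearGroup.toGL s)⁻¹ *
          g⁻¹ : Matrix.GeneralLinearGroup (Fin n) F) : Matrix (Fin n) (Fin n) F).det = 1 := by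
        have h1 : Matrix.GeneralLinearGroup.det
            (Matrix.SpecialLinearGroup.toGL s * g * (Matrix.SpecialLinearGroup.toGL s)⁻¹ * g⁻¹) = 1 := by
          rw [map_mul, map_mul, map_mul, map_inv, map_inv,
            mul_comm (Matrix.GeneralLinearGroup.det (Matrix.SpecialLinearGroup.toGL s)),
            mul_inv_cancel_right, mul_inv_cancel]
        exact congrArg Units.val h1
      obtain ⟨z, hz⟩ : ∃ z : Matrix.SpecialLinearGroup (Fin n) F,
          Matrix.SpecialLinearGroup.toGL z =
            Matrix.SpecialLinearGroup.toGL s * g * (Matrix.SpecialLinearGroup.toGL s)⁻¹ * g⁻¹ :=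
        ⟨⟨_, hdet⟩, Units.ext rfl⟩
      refine ⟨z, hHle ?_, hz.symm⟩
      show Matrix.SpecialLinearGroup.toGL z ∈ G
      rw [hz]
      exact hmem
    -- the map s ↦ [s, g]
    let Z : Matrix.SpecialLinearGroup (Fin n) F → Matrix.GeneralLinearGroup (Fin n) F :=
      fun s => Matrix.SpecialLinearGroup.toGL s * g * (Matrix.SpecialLinearGroup.toGL s)⁻¹ * g⁻¹
    have hZc : ∀ s x, Z s * x = x * Z s := by
      intro s x
      obtain ⟨z, hz, he⟩ := hc s
      show Matrix.SpecialLinearGroup.toGL s * g * (Matrix.SpecialLinearGroup.toGL s)⁻¹ * g⁻¹ * x = 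
        x * (Matrix.SpecialLinearGroup.toGL s * g * (Matrix.SpecialLinearGroup.toGL s)⁻¹ * g⁻¹)
      rw [he]
      exact hcentral z hz x
    have hZmul : ∀ s t, Z (s * t) = Z s * Z t := by
      intro s t
      have h1 : Z (s * t) = Matrix.SpecialLinearGroup.toGL s * (Z t * g) *
          (Matrix.SpecialLinearGroup.toGL s)⁻¹ * g⁻¹ := by
        show Matrix.SpecialLinearGroup.toGL (s * t) * g *
          (Matrix.SpecialLinearGroup.toGL (s * t))⁻¹ * g⁻¹ = 
          Matrix.SpecialLinearGroup.toGL s * ((Matrix.SpecialLinearGroup.toGL t * g *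
            (Matrix.SpecialLinearGroup.toGL t)⁻¹ * g⁻¹) * g) *
          (Matrix.SpecialLinearGroup.toGL s)⁻¹ * g⁻¹
        rw [map_mul]
        group
      rw [h1, hZc t g, ← mul_assoc]
      show Matrix.SpecialLinearGroup.toGL s * g * Z t * (Matrix.SpecialLinearGroup.toGL s)⁻¹ * g⁻¹ = _
      rw [mul_assoc (Matrix.SpecialLinearGroup.toGL s * g), hZc t, ← mul_assoc,
        mul_assoc _ (Z t) g⁻¹, hZc t, ← mul_assoc]
    let ψ : Matrix.SpecialLinearGroup (Fin n) F →* Matrix.GeneralLinearGroup (Fin n) F :=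
      MonoidHom.mk' Z hZmul
    have hker : commutator (Matrix.SpecialLinearGroup (Fin n) F) ≤ ψ.ker := by
      rw [commutator_def, Subgroup.commutator_le]
      intro a _ b _
      rw [MonoidHom.mem_ker, map_commutatorElement, commutatorElement_eq_one_iff_commute]
      exact hZc a (ψ b)
    have hcomm : ∀ s : Matrix.SpecialLinearGroup (Fin n) F,
        Matrix.SpecialLinearGroup.toGL s * g = g * Matrix.SpecialLinearGroup.toGL s := by
      intro s
      have h1 : s ∈ ψ.ker := hker (by rw [hperf]; trivial)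
      have h2 : Matrix.SpecialLinearGroup.toGL s * g * (Matrix.SpecialLinearGroup.toGL s)⁻¹ * g⁻¹ = 1 :=
        MonoidHom.mem_ker.mp h1
      have h3 := mul_inv_eq_one.mp h2
      exact mul_inv_eq_iff_eq_mul.mp h3
    have hsc : (g : Matrix (Fin n) (Fin n) F) ∈ Set.range (Matrix.scalar (Fin n)) := by
      apply Matrix.mem_range_scalar_of_commute_transvectionStruct
      intro t
      have := congrArg (fun x : Matrix.GeneralLinearGroup (Fin n) F => (x : Matrix (Fin n) (Fin n) F))
        (hcomm t.toSpecialLinearGroup)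
      exact this
    obtain ⟨c, hc'⟩ := hsc
    refine ⟨c, ?_⟩
    rw [← hc', Matrix.scalar_apply, Matrix.smul_one_eq_diagonal]
  · right
    rintro _ ⟨s, rfl⟩
    show s ∈ H
    have hle : commutator (Matrix.SpecialLinearGroup (Fin n) F) ≤ H := by
      rw [commutator_def, Subgroup.commutator_le]
      intro a _ b _
      have ha : π a ∈ H.map π := by rw [htop]; trivial
      obtain ⟨h₁, hh₁, he⟩ := ha
      have hz : h₁⁻¹ * a ∈ Subgroup.center (Matrix.SpecialLinearGroup (Fin n) F) :=
        QuotientGroup.eq.mp he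
      have hzc := Subgroup.mem_center_iff.mp hz
      have hconj : a * b * a⁻¹ = h₁ * b * h₁⁻¹ := by
        calc a * b * a⁻¹ = h₁ * ((h₁⁻¹ * a) * b) * (h₁⁻¹ * a)⁻¹ * h₁⁻¹ := by group
          _ = h₁ * (b * (h₁⁻¹ * a)) * (h₁⁻¹ * a)⁻¹ * h₁⁻¹ := by rw [hzc b]
          _ = h₁ * b * h₁⁻¹ := by group
      rw [commutatorElement_def, hconj]
      have h2 : h₁ * b * h₁⁻¹ * b⁻¹ = h₁ * (b * h₁⁻¹ * b⁻¹) := by group
      rw [h2]
      exact H.mul_mem hh₁ (hHn.conj_mem _ (H.inv_mem hh₁) b)
    rw [hperf] at hle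
    exact hle trivial

theorem exists_sq_ne_one {F : Type*} [Field F] [Fintype F] (h4 : 4 ≤ Fintype.card F) :
    ∃ a : F, a ≠ 0 ∧ a ^ 2 ≠ 1 := by
  classical
  by_contra hno
  push Not at hno
  have hsub : (Finset.univ : Finset F) ⊆ {0, 1, -1} := by
    intro a _
    by_cases ha : a = 0
    · simp [ha]
    · have h1 := hno a ha
      have h2 : (a - 1) * (a + 1) = 0 := by ring_nf; rw [h1]; ring
      rcases mul_eq_zero.mp h2 with h3 | h3
      · have : a = 1 := sub_eq_zero.mp h3
        simp [this]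
      · have : a = -1 := eq_neg_of_add_eq_zero_left h3
        simp [this]
  have := Finset.card_le_card hsub
  rw [Finset.card_univ] at this
  have h3 : ({0, 1, -1} : Finset F).card ≤ 3 := Finset.card_le_three
  omega

theorem result {F : Type*} [Field F] [Fintype F] (n : ℕ) (hn : 1 ≤ n) (hex : ¬ (n = 2 ∧ Fintype.card F ≤ 3)) (G : Subgroup (Matrix.GeneralLinearGroup (Fin n) F)) (hG : ∀ s : Matrix.SpecialLinearGroup (Fin n) F, ∀ g ∈ G, (Matrix.SpecialLinearGroup.toGL s) * g * (Matrix.SpecialLinearGroup.toGL s)⁻¹ ∈ G) : (∀ g ∈ G, ∃ c : F, (g : Matrix (Fin n) (Fin n) F) = c • (1 : Matrix (Fin n) (Fin n) F)) ∨ (Matrix.SpecialLinearGroup.toGL : Matrix.SpecialLinearGroup (Fin n) F →* _).range ≤ G := by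
  classical
  rcases Nat.lt_or_ge n 2 with h1 | h2
  · have hn1 : n = 1 := by omega
    subst hn1
    left
    intro g _
    refine ⟨(g : Matrix (Fin 1) (Fin 1) F) 0 0, ?_⟩
    ext i j
    fin_cases i
    fin_cases j
    simp
  · have hperf : commutator (Matrix.SpecialLinearGroup (Fin n) F) = ⊤ := by
      rcases Nat.lt_or_ge n 3 with h3 | h3
      · have hn2 : n = 2 := by omega
        subst hn2
        have hF4 : 4 ≤ Fintype.card F := by
          by_contra h
          exact hex ⟨rfl, by omega⟩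
        obtain ⟨a, ha, hasq⟩ := exists_sq_ne_one hF4
        exact Matrix.SL2.commutator_eq_top ha hasq
      · exact Lib.H2.SL_commutator_eq_top (by simpa using h3)
    haveI : Nontrivial (Fin n) := Fin.nontrivial_iff_two_le.mpr h2
    exact core (Lib.H2.PSL_simple_of_perfect hperf) hperf G hG

end Cfsg.Agent.S2540
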