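import Cfsg.Statements.S2541

set_option autoImplicit false
open Cfsg

namespace Cfsg.Agent.S2541

open Matrix

/-- `S₆` has no element of order 8. -/
theorem no_order8 (σ : Equiv.Perm (Fin 6)) : orderOf σ ≠ 8 := by
  intro h
  rw [← Equiv.Perm.lcm_cycleType] at h
  have h4 : σ.cycleType.lcm ∣ 4 := by
    apply Multiset.lcm_dvd.mpr
    intro n hn
    have h1 : n ∣ 8 := by
      rw [← h]; exact Multiset.dvd_lcm hn
    have h2 : n ≤ 6 := by
      have := Multiset.le_sum_of_mem hn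
      have h3 := Equiv.Perm.sum_cycleType_le σ
      simp only [Fintype.card_fin] at h3
      omega
    have h5 : n ≤ 8 := Nat.le_of_dvd (by norm_num) h1
    interval_cases n <;> omega
  rw [h] at h4
  omega

/-- diag(ζ, 1) -/
noncomputable def dg {F : Type*} [Field F] (ζ : Fˣ) : GL (Fin 2) F :=
  ⟨Matrix.diagonal ![(ζ : F), 1], Matrix.diagonal ![((ζ⁻¹ : Fˣ) : F), 1],
    by
      rw [Matrix.diagonal_mul_diagonal, ← Matrix.diagonal_one]
      congr 1
      ext i
      fin_cases i <;> simp,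
    by
      rw [Matrix.diagonal_mul_diagonal, ← Matrix.diagonal_one]
      congr 1
      ext i
      fin_cases i <;> simp⟩

theorem dg_pow {F : Type*} [Field F] (ζ : Fˣ) (k : ℕ) : (dg ζ) ^ k = dg (ζ ^ k) := by
  apply Units.ext
  rw [Units.val_pow_eq_pow_val]
  show (Matrix.diagonal ![(ζ : F), 1]) ^ k = Matrix.diagonal ![((ζ ^ k : Fˣ) : F), 1]
  rw [Matrix.diagonal_pow]
  congr 1
  ext i
  fin_cases i <;> simp

theorem dg_one {F : Type*} [Field F] : dg (1 : Fˣ) = 1 := by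
  apply Units.ext
  show Matrix.diagonal ![((1 : Fˣ) : F), 1] = 1
  rw [← Matrix.diagonal_one]
  congr 1
  ext i
  fin_cases i <;> simp

theorem dg_center {F : Type*} [Field F] (ζ : Fˣ)
    (h : dg ζ ∈ Subgroup.center (GL (Fin 2) F)) : ζ = 1 := by
  rw [Matrix.GeneralLinearGroup.center_eq_range_scalar] at h
  obtain ⟨r, hr⟩ := h
  have h1 : ((Matrix.GeneralLinearGroup.scalar (Fin 2) r : GL (Fin 2) F) : Matrix (Fin 2) (Fin 2) F)
      = Matrix.diagonal ![(ζ : F), 1] := by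
    rw [hr]; rfl
  rw [Matrix.GeneralLinearGroup.coe_scalar] at h1
  have h00 := congrFun (congrFun h1 0) 0
  have h11 := congrFun (congrFun h1 1) 1
  simp at h00 h11
  apply Units.ext
  rw [← h00, h11]

theorem result {F : Type*} [Field F] [Fintype F] (hF : Fintype.card F = 9) : ¬ Nonempty (Equiv.Perm (Fin 6) ≃* Matrix.ProjGenLinGroup (Fin 2) F) := by
  rintro ⟨φ⟩
  -- F^× is cyclic of order 8
  have hcard : Nat.card Fˣ = 8 := by
    classical
    rw [Nat.card_eq_fintype_card, Fintype.card_units, hF]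
  obtain ⟨ζ, hζ⟩ := IsCyclic.exists_ofOrder_eq_natCard (α := Fˣ)
  rw [hcard] at hζ
  let x : Matrix.ProjGenLinGroup (Fin 2) F := Matrix.ProjGenLinGroup.mk (dg ζ)
  have hx8 : x ^ 2 ^ (2 + 1) = 1 := by
    show (Matrix.ProjGenLinGroup.mk (dg ζ)) ^ 2 ^ (2 + 1) = 1
    rw [← map_pow, dg_pow]
    have : ζ ^ 2 ^ (2 + 1) = 1 := by
      have := pow_orderOf_eq_one ζ
      rw [hζ] at this
      simpa using this
    rw [this, dg_one, map_one]
  have hx4 : ¬ x ^ 2 ^ 2 = 1 := by
    show ¬ (Matrix.ProjGenLinGroup.mk (dg ζ)) ^ 2 ^ 2 = 1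
    rw [← map_pow, dg_pow, Matrix.ProjGenLinGroup.mk_eq_one]
    intro h
    have h1 := dg_center _ h
    have h2 : orderOf ζ ∣ 2 ^ 2 := orderOf_dvd_of_pow_eq_one h1
    rw [hζ] at h2
    omega
  have hx : orderOf x = 2 ^ (2 + 1) := orderOf_eq_prime_pow hx4 hx8
  have : orderOf (φ.symm x) = 8 := by
    rw [MulEquiv.orderOf_eq]; simpa using hx
  exact no_order8 _ this

end Cfsg.Agent.S2541
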