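import Cfsg.Statements.S2550
import Cfsg.Agent.S0820
import Cfsg.Agent.S0243

set_option autoImplicit false
open Cfsg

namespace Cfsg.Agent.S2550

open Matrix

section

variable {F : Type*} [Field F] [Fintype F]

theorem eq_one_of_ne_zero (hF : Fintype.card F = 2) (r : F) (hr : r ≠ 0) : r = 1 := by
  classical
  have h1 : Fintype.card Fˣ = 1 := by rw [Fintype.card_units, hF]
  have h2 : Subsingleton Fˣ := (Fintype.card_le_one_iff_subsingleton).1 h1.le
  have := Subsingleton.elim (Units.mk0 r hr) 1
  exact congrArg Units.val this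

theorem two_eq_zero (hF : Fintype.card F = 2) : (1 : F) + 1 = 0 := by
  by_contra h
  have := eq_one_of_ne_zero hF _ h
  simp at this

theorem center_eq_bot (hF : Fintype.card F = 2) :
    Subgroup.center (Matrix.SpecialLinearGroup (Fin 4) F) = ⊥ := by
  rw [eq_bot_iff]
  intro A hA
  rw [Matrix.SpecialLinearGroup.mem_center_iff] at hA
  obtain ⟨r, hr, hA⟩ := hA
  have hr0 : r ≠ 0 := by
    rintro rfl
    simp at hr
  rw [eq_one_of_ne_zero hF r hr0] at hA
  rw [Subgroup.mem_bot]
  apply Subtype.ext
  rw [← hA]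
  simp

/-- the two involutions -/
def x0 : Matrix.SpecialLinearGroup (Fin 4) F :=
  ⟨transvection 0 1 1, det_transvection_of_ne _ _ (by decide) _⟩

def y0 : Matrix.SpecialLinearGroup (Fin 4) F :=
  ⟨transvection 0 1 1 * transvection 2 3 1, by
    rw [det_mul, det_transvection_of_ne _ _ (by decide), det_transvection_of_ne _ _ (by decide),
      one_mul]⟩

theorem x0_sq (hF : Fintype.card F = 2) : (x0 : Matrix.SpecialLinearGroup (Fin 4) F) ^ 2 = 1 := by
  apply Subtype.ext
  rw [sq, Matrix.SpecialLinearGroup.coe_mul]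
  change transvection 0 1 (1 : F) * transvection 0 1 1 = 1
  have := transvection_mul_transvection_same (R := F) (i := (0 : Fin 4)) (j := 1) (by decide) 1 1
  rw [this, two_eq_zero hF, transvection_zero]

theorem y0_sq (hF : Fintype.card F = 2) : (y0 : Matrix.SpecialLinearGroup (Fin 4) F) ^ 2 = 1 := by
  apply Subtype.ext
  rw [sq, Matrix.SpecialLinearGroup.coe_mul]
  change (transvection 0 1 (1 : F) * transvection 2 3 1) * (transvection 0 1 1 * transvection 2 3 1)
    = 1
  have h2 := two_eq_zero hF
  ext i j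
  fin_cases i <;> fin_cases j <;>
    simp [transvection, Matrix.mul_apply, Fin.sum_univ_four, Matrix.single_apply,
      Matrix.one_apply, h2]

theorem x0_ne_one : (x0 : Matrix.SpecialLinearGroup (Fin 4) F) ≠ 1 := by
  intro h
  have := congrArg (fun A : Matrix.SpecialLinearGroup (Fin 4) F => A.1 0 1) h
  simp [x0, transvection, Matrix.single_apply] at this

theorem y0_ne_one : (y0 : Matrix.SpecialLinearGroup (Fin 4) F) ≠ 1 := by
  intro h
  have := congrArg (fun A : Matrix.SpecialLinearGroup (Fin 4) F => A.1 0 1) h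
  simp [y0, transvection, Matrix.mul_apply, Fin.sum_univ_four, Matrix.single_apply,
    Matrix.one_apply] at this

theorem not_conj (g : Matrix.SpecialLinearGroup (Fin 4) F) :
    g * x0 * g⁻¹ ≠ y0 := by
  intro h
  have hinv : g.1 * (g⁻¹).1 = 1 := by
    rw [← Matrix.SpecialLinearGroup.coe_mul, mul_inv_cancel]; rfl
  have h1 : g.1 * (transvection 0 1 (1 : F)) * (g⁻¹).1 =
      transvection 0 1 1 * transvection 2 3 1 := by
    have := congrArg Subtype.val h
    rw [Matrix.SpecialLinearGroup.coe_mul, Matrix.SpecialLinearGroup.coe_mul] at this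
    exact this
  obtain ⟨G, hG⟩ : ∃ G : Matrix (Fin 4) (Fin 4) F, G = g.1 := ⟨_, rfl⟩
  obtain ⟨Gi, hGi⟩ : ∃ Gi : Matrix (Fin 4) (Fin 4) F, Gi = (g⁻¹).1 := ⟨_, rfl⟩
  rw [← hG, ← hGi] at h1 hinv
  -- subtract the identity
  have h2 : G * (Matrix.single 0 1 (1 : F)) * Gi =
      transvection 0 1 1 * transvection 2 3 1 - 1 := by
    rw [← h1, transvection, mul_add, add_mul, mul_one, hinv]
    abel
  have e01 := congrFun (congrFun h2 0) 1
  have e23 := congrFun (congrFun h2 2) 3
  have e03 := congrFun (congrFun h2 0) 3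
  simp [transvection, Matrix.mul_apply, Fin.sum_univ_four, Matrix.single_apply,
    Matrix.one_apply] at e01 e23 e03
  rcases e03 with h0 | h0
  · rw [h0, zero_mul] at e01; exact zero_ne_one e01
  · rw [h0, mul_zero] at e23; exact zero_ne_one e23

end

/-- Let F be a field with 2 elements and K a field with 4 elements. PSL_4(F) and PSL_3(K) have the same order (20160) but are not isomorphic. -/
theorem result {F K : Type*} [Field F] [Fintype F] [Field K] [Fintype K] (hF : Fintype.card F = 2) (hK : Fintype.card K = 4) : Nat.card (Matrix.ProjectiveSpecialLinearGroup (Fin 4) F) = Nat.card (Matrix.ProjectiveSpecialLinearGroup (Fin 3) K) ∧ ¬ Nonempty (Matrix.ProjectiveSpecialLinearGroup (Fin 4) F ≃* Matrix.ProjectiveSpecialLinearGroup (Fin 3) K) := by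
  constructor
  · have h1 := Cfsg.Agent.S0243.result hF 4 (by norm_num)
    have h2 := Cfsg.Agent.S0243.result hK 3 (by norm_num)
    simp [Fin.prod_univ_four, Fin.prod_univ_three] at h1 h2
    omega
  · rintro ⟨e⟩
    let π := QuotientGroup.mk' (Subgroup.center (Matrix.SpecialLinearGroup (Fin 4) F))
    have hπ : ∀ a : Matrix.SpecialLinearGroup (Fin 4) F, π a = 1 → a = 1 := by
      intro a ha
      have : a ∈ Subgroup.center (Matrix.SpecialLinearGroup (Fin 4) F) :=
        (QuotientGroup.eq_one_iff a).1 ha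
      rw [center_eq_bot hF] at this
      exact Subgroup.mem_bot.1 this
    have hox : orderOf (π x0) = 2 := by
      apply orderOf_eq_prime
      · rw [← map_pow, x0_sq hF, map_one]
      · intro h; exact x0_ne_one (hπ _ h)
    have hoy : orderOf (π y0) = 2 := by
      apply orderOf_eq_prime
      · rw [← map_pow, y0_sq hF, map_one]
      · intro h; exact y0_ne_one (hπ _ h)
    have hc := Cfsg.Agent.S0820.result hK (e (π x0)) (e (π y0))
      (by rw [MulEquiv.orderOf_eq]; exact hox) (by rw [MulEquiv.orderOf_eq]; exact hoy)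
    rw [isConj_iff] at hc
    obtain ⟨c, hc⟩ := hc
    obtain ⟨g, hg⟩ := QuotientGroup.mk'_surjective _ (e.symm c)
    have h3 : π (g * x0 * g⁻¹) = π y0 := by
      apply e.injective
      rw [map_mul, map_mul, map_inv, map_mul, map_mul, map_inv]
      change e (π g) * e (π x0) * (e (π g))⁻¹ = e (π y0)
      have : π g = e.symm c := hg
      rw [this, MulEquiv.apply_symm_apply]
      exact hc
    have h4 : (g * x0 * g⁻¹)⁻¹ * y0 = 1 := by
      apply hπ
      rw [map_mul, map_inv, h3, inv_mul_cancel]
    exact not_conj g (by rw [inv_mul_eq_one] at h4; exact h4)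

end Cfsg.Agent.S2550
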