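import Cfsg.Statements.S2552

set_option autoImplicit false
open Cfsg

namespace Cfsg.Agent.S2552

open Module

/-- on a nonzero finite-dimensional space, every nonzero scalar is a determinant of an automorphism -/
theorem exists_equiv_det {F W : Type*} [Field F] [AddCommGroup W] [Module F W] [FiniteDimensional F W]
    (hW : 0 < finrank F W) (c : F) (hc : c ≠ 0) :
    ∃ a : W ≃ₗ[F] W, LinearMap.det (a : W →ₗ[F] W) = c := by
  classical
  let b := Module.finBasis F W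
  let i₀ : Fin (finrank F W) := ⟨0, hW⟩
  let D : Matrix (Fin (finrank F W)) (Fin (finrank F W)) F := Matrix.diagonal (Function.update (fun _ => (1 : F)) i₀ c)
  have hD : D.det = c := by
    rw [Matrix.det_diagonal, Finset.prod_update_of_mem (Finset.mem_univ i₀)]
    simp
  have hdet : LinearMap.det (Matrix.toLin b b D) = c := by rw [LinearMap.det_toLin, hD]
  refine ⟨LinearMap.equivOfDetNeZero (Matrix.toLin b b D) (by rw [hdet]; exact hc), ?_⟩
  rw [LinearEquiv.coe_ofIsUnitDet, hdet]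

theorem result {F : Type*} [Field F] [Fintype F] (n : ℕ) (hn : 1 ≤ n) (U₁ U₂ : Submodule F (Fin n → F)) (h : Module.finrank F U₁ = Module.finrank F U₂) : ∃ g : Matrix.SpecialLinearGroup (Fin n) F, U₁.map ((Matrix.SpecialLinearGroup.toLin' g : (Fin n → F) ≃ₗ[F] (Fin n → F)) : (Fin n → F) →ₗ[F] (Fin n → F)) = U₂ := by
  classical
  by_cases hk : finrank F U₂ = 0
  · -- both are ⊥
    have h2 : U₂ = ⊥ := Submodule.finrank_eq_zero.mp hk
    have h1 : U₁ = ⊥ := Submodule.finrank_eq_zero.mp (h.trans hk)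
    refine ⟨1, ?_⟩
    rw [h1, h2, Submodule.map_bot]
  · have hkpos : 0 < finrank F U₂ := Nat.pos_of_ne_zero hk
    obtain ⟨C₁, hC₁⟩ := Submodule.exists_isCompl U₁
    obtain ⟨C₂, hC₂⟩ := Submodule.exists_isCompl U₂
    have hfC : finrank F C₁ = finrank F C₂ := by
      have e1 := Submodule.finrank_add_eq_of_isCompl hC₁
      have e2 := Submodule.finrank_add_eq_of_isCompl hC₂
      omega
    let eU : U₁ ≃ₗ[F] U₂ := LinearEquiv.ofFinrankEq _ _ h
    let eC : C₁ ≃ₗ[F] C₂ := LinearEquiv.ofFinrankEq _ _ hfC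
    let P₁ := Submodule.prodEquivOfIsCompl U₁ C₁ hC₁
    let P₂ := Submodule.prodEquivOfIsCompl U₂ C₂ hC₂
    let f₀ : (Fin n → F) ≃ₗ[F] (Fin n → F) := P₁.symm ≪≫ₗ (eU.prodCongr eC) ≪≫ₗ P₂
    have hd : IsUnit (LinearMap.det (f₀ : (Fin n → F) →ₗ[F] (Fin n → F))) := LinearEquiv.isUnit_det' f₀
    set d := LinearMap.det (f₀ : (Fin n → F) →ₗ[F] (Fin n → F)) with hddef
    have hd0 : d ≠ 0 := hd.ne_zero
    obtain ⟨a, ha⟩ := exists_equiv_det hkpos d⁻¹ (inv_ne_zero hd0)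
    let hE : (Fin n → F) ≃ₗ[F] (Fin n → F) := P₂.symm ≪≫ₗ (a.prodCongr (LinearEquiv.refl F C₂)) ≪≫ₗ P₂
    have hEdet : LinearMap.det (hE : (Fin n → F) →ₗ[F] (Fin n → F)) = d⁻¹ := by
      have : (hE : (Fin n → F) →ₗ[F] (Fin n → F)) =
          (P₂ : (U₂ × C₂) →ₗ[F] (Fin n → F)) ∘ₗ (LinearMap.prodMap (a : U₂ →ₗ[F] U₂) (LinearMap.id : C₂ →ₗ[F] C₂)) ∘ₗ
            (P₂.symm : (Fin n → F) →ₗ[F] (U₂ × C₂)) := by
        ext x : 1
        rfl
      rw [this, LinearMap.det_conj, LinearMap.det_prodMap, ha, LinearMap.det_id, mul_one]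
    let gE : (Fin n → F) ≃ₗ[F] (Fin n → F) := f₀ ≪≫ₗ hE
    have hgdet : LinearMap.det (gE : (Fin n → F) →ₗ[F] (Fin n → F)) = 1 := by
      have : (gE : (Fin n → F) →ₗ[F] (Fin n → F)) = (hE : (Fin n → F) →ₗ[F] (Fin n → F)) ∘ₗ (f₀ : (Fin n → F) →ₗ[F] (Fin n → F)) := rfl
      rw [this, LinearMap.det_comp, hEdet, ← hddef, inv_mul_cancel₀ hd0]
    -- gE maps U₁ into U₂
    have hmap : U₁.map (gE : (Fin n → F) →ₗ[F] (Fin n → F)) ≤ U₂ := by
      rintro _ ⟨u, hu0, rfl⟩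
      have hu : u ∈ U₁ := hu0
      have h1 : P₁.symm u = ((Subtype.mk u hu : ↥U₁), (0 : ↥C₁)) := Submodule.prodEquivOfIsCompl_symm_apply_left U₁ C₁ hC₁ (Subtype.mk u hu)
      have h2 : f₀ u = (eU (Subtype.mk u hu) : Fin n → F) := by
        show P₂ ((eU.prodCongr eC) (P₁.symm u)) = _
        rw [h1]
        simp [P₂, Submodule.coe_prodEquivOfIsCompl']
      have h3 : P₂.symm (f₀ u) = (eU (Subtype.mk u hu), (0 : ↥C₂)) := by
        rw [h2]; exact Submodule.prodEquivOfIsCompl_symm_apply_left U₂ C₂ hC₂ _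
      show hE (f₀ u) ∈ U₂
      show P₂ ((a.prodCongr (LinearEquiv.refl F C₂)) (P₂.symm (f₀ u))) ∈ U₂
      rw [h3]
      simp [P₂, Submodule.coe_prodEquivOfIsCompl']
    have heq : U₁.map (gE : (Fin n → F) →ₗ[F] (Fin n → F)) = U₂ := by
      apply Submodule.eq_of_le_of_finrank_eq hmap
      rw [← h]
      exact LinearEquiv.finrank_map_eq gE U₁
    -- build the SL element
    let M : Matrix (Fin n) (Fin n) F := LinearMap.toMatrix' (gE : (Fin n → F) →ₗ[F] (Fin n → F))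
    have hM : M.det = 1 := by
      rw [LinearMap.det_toMatrix', hgdet]
    refine ⟨(⟨M, hM⟩ : Matrix.SpecialLinearGroup (Fin n) F), ?_⟩
    change U₁.map (Matrix.toLin' M) = U₂
    rw [Matrix.toLin'_toMatrix']
    exact heq

end Cfsg.Agent.S2552
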