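import Cfsg.Statements.S2564

set_option autoImplicit false
open Cfsg

namespace Cfsg.Agent.S2564

/-- polar form of the plus form -/
def pol (m : ℕ) (u v : Fin m ⊕ Fin m → ZMod 2) : ZMod 2 :=
  Cfsg.quadFormPlus m (ZMod 2) (u + v) - Cfsg.quadFormPlus m (ZMod 2) u - Cfsg.quadFormPlus m (ZMod 2) v

theorem pol_formula (m : ℕ) (u v : Fin m ⊕ Fin m → ZMod 2) :
    pol m u v = ∑ i : Fin m, (u (.inl i) * v (.inr i) + v (.inl i) * u (.inr i)) := by
  unfold pol quadFormPlus
  rw [← Finset.sum_sub_distrib, ← Finset.sum_sub_distrib]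
  apply Finset.sum_congr rfl
  intro i _
  simp only [Pi.add_apply]
  ring

theorem pol_add_left (m : ℕ) (u v w : Fin m ⊕ Fin m → ZMod 2) :
    pol m (u + v) w = pol m u w + pol m v w := by
  rw [pol_formula, pol_formula, pol_formula, ← Finset.sum_add_distrib]
  apply Finset.sum_congr rfl
  intro i _
  simp only [Pi.add_apply]
  ring

theorem pol_comm (m : ℕ) (u v : Fin m ⊕ Fin m → ZMod 2) : pol m u v = pol m v u := by
  rw [pol_formula, pol_formula]
  apply Finset.sum_congr rfl
  intro i _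
  ring

theorem pol_add_right (m : ℕ) (u v w : Fin m ⊕ Fin m → ZMod 2) :
    pol m w (u + v) = pol m w u + pol m w v := by
  rw [pol_comm, pol_add_left, pol_comm m u, pol_comm m v]

theorem pol_smul_left (m : ℕ) (c : ZMod 2) (u w : Fin m ⊕ Fin m → ZMod 2) :
    pol m (c • u) w = c * pol m u w := by
  rw [pol_formula, pol_formula, Finset.mul_sum]
  apply Finset.sum_congr rfl
  intro i _
  simp only [Pi.smul_apply, smul_eq_mul]
  ring

theorem pol_self (m : ℕ) (w : Fin m ⊕ Fin m → ZMod 2) : pol m w w = 0 := by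
  rw [pol_formula]
  apply Finset.sum_eq_zero
  intro i _
  have : ∀ a : ZMod 2, a + a = 0 := by decide
  rw [mul_comm (w (.inl i))]
  exact this _

theorem pol_zero_left (m : ℕ) (w : Fin m ⊕ Fin m → ZMod 2) : pol m 0 w = 0 := by
  rw [pol_formula]
  simp

theorem exists_pol_eq_one (m : ℕ) (t : Fin m ⊕ Fin m → ZMod 2) (ht : t ≠ 0) :
    ∃ u, pol m u t = 1 := by
  have hex : ∃ s, t s ≠ 0 := by
    by_contra h
    push Not at h
    exact ht (funext h)
  obtain ⟨s, hs⟩ := hex
  have hs1 : t s = 1 := by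
    have : ∀ a : ZMod 2, a ≠ 0 → a = 1 := by decide
    exact this _ hs
  rcases s with i | i
  · refine ⟨Pi.single (.inr i) 1, ?_⟩
    rw [pol_formula, Finset.sum_eq_single i]
    · simp [hs1]
    · intro j _ hji
      have h1 : (Pi.single (Sum.inr i) (1 : ZMod 2) : Fin m ⊕ Fin m → ZMod 2) (.inl j) = 0 := by simp
      have h2 : (Pi.single (Sum.inr i) (1 : ZMod 2) : Fin m ⊕ Fin m → ZMod 2) (.inr j) = 0 := by
        simp [hji]
      rw [h1, h2]; ring
    · intro h; exact absurd (Finset.mem_univ i) h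
  · refine ⟨Pi.single (.inl i) 1, ?_⟩
    rw [pol_formula, Finset.sum_eq_single i]
    · simp [hs1]
    · intro j _ hji
      have h1 : (Pi.single (Sum.inl i) (1 : ZMod 2) : Fin m ⊕ Fin m → ZMod 2) (.inr j) = 0 := by simp
      have h2 : (Pi.single (Sum.inl i) (1 : ZMod 2) : Fin m ⊕ Fin m → ZMod 2) (.inl j) = 0 := by
        simp [hji]
      rw [h1, h2]; ring
    · intro h; exact absurd (Finset.mem_univ i) h

/-- the sign character -/
def chi (a : ZMod 2) : ℤ := if a = 0 then 1 else -1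

theorem chi_add (a b : ZMod 2) : chi (a + b) = chi a * chi b := by
  revert a b; decide

theorem chi_one : chi 1 = -1 := by decide
theorem chi_zero : chi 0 = 1 := by decide

section
variable (m : ℕ) (q : (Fin m ⊕ Fin m → ZMod 2) → ZMod 2)
  (hq : ∀ u v : (Fin m ⊕ Fin m → ZMod 2), q (u + v) = q u + q v + pol m u v)
include hq

theorem q_zero : q 0 = 0 := by
  have := hq 0 0
  rw [add_zero, pol_zero_left, add_zero] at this
  have h2 : ∀ a : ZMod 2, a = a + a → a = 0 := by decide
  exact h2 _ this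

theorem sum_chi_pol (t : Fin m ⊕ Fin m → ZMod 2) (ht : t ≠ 0) :
    ∑ u : Fin m ⊕ Fin m → ZMod 2, chi (pol m u t) = 0 := by
  obtain ⟨u₀, hu₀⟩ := exists_pol_eq_one m t ht
  have h1 : ∑ u : Fin m ⊕ Fin m → ZMod 2, chi (pol m u t) =
      ∑ u : Fin m ⊕ Fin m → ZMod 2, chi (pol m (u + u₀) t) :=
    (Fintype.sum_equiv (Equiv.addRight u₀) _ _ (fun u => rfl)).symm
  have h2 : ∑ u : Fin m ⊕ Fin m → ZMod 2, chi (pol m (u + u₀) t) =
      - ∑ u : Fin m ⊕ Fin m → ZMod 2, chi (pol m u t) := by
    rw [← Finset.sum_neg_distrib]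
    apply Finset.sum_congr rfl
    intro u _
    rw [pol_add_left, hu₀, chi_add, chi_one]
    ring
  omega

/-- the character sum of a quadratic form polarizing to `pol` is nonzero -/
theorem sum_chi_ne_zero : ∑ v : Fin m ⊕ Fin m → ZMod 2, chi (q v) ≠ 0 := by
  set S := ∑ v : Fin m ⊕ Fin m → ZMod 2, chi (q v) with hS
  have hsq : S * S = (Fintype.card (Fin m ⊕ Fin m → ZMod 2) : ℤ) := by
    rw [hS, Finset.sum_mul_sum]
    -- ∑ u ∑ v χ(q u) χ(q v)
    have h1 : ∀ u : Fin m ⊕ Fin m → ZMod 2, ∑ v : Fin m ⊕ Fin m → ZMod 2, chi (q u) * chi (q v) =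
        ∑ t : Fin m ⊕ Fin m → ZMod 2, chi (q t) * chi (pol m u t) := by
      intro u
      rw [← Fintype.sum_equiv (Equiv.addLeft u) (fun t => chi (q u) * chi (q (u + t)))
        (fun v => chi (q u) * chi (q v)) (fun t => rfl)]
      apply Finset.sum_congr rfl
      intro t _
      rw [hq u t, chi_add, chi_add]
      have : chi (q u) * chi (q u) = 1 := by
        rw [← chi_add]
        have : ∀ a : ZMod 2, a + a = 0 := by decide
        rw [this, chi_zero]
      calc chi (q u) * (chi (q u) * chi (q t) * chi (pol m u t))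
          = (chi (q u) * chi (q u)) * (chi (q t) * chi (pol m u t)) := by ring
        _ = chi (q t) * chi (pol m u t) := by rw [this, one_mul]
    rw [Finset.sum_congr rfl (fun u _ => h1 u), Finset.sum_comm]
    have h2 : ∀ t : Fin m ⊕ Fin m → ZMod 2, ∑ u : Fin m ⊕ Fin m → ZMod 2, chi (q t) * chi (pol m u t) =
        if t = 0 then (Fintype.card (Fin m ⊕ Fin m → ZMod 2) : ℤ) else 0 := by
      intro t
      rw [← Finset.mul_sum]
      by_cases ht : t = 0
      · subst ht
        rw [if_pos rfl, q_zero m q hq, chi_zero, one_mul]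
        have : ∀ u : Fin m ⊕ Fin m → ZMod 2, chi (pol m u 0) = 1 := by
          intro u
          rw [pol_comm, pol_zero_left, chi_zero]
        rw [Finset.sum_congr rfl (fun u _ => this u)]
        simp
      · rw [if_neg ht, sum_chi_pol m q hq t ht, mul_zero]
    rw [Finset.sum_congr rfl (fun t _ => h2 t)]
    simp
  intro h0
  rw [h0, zero_mul] at hsq
  have : (Fintype.card (Fin m ⊕ Fin m → ZMod 2) : ℤ) ≠ 0 := by
    exact_mod_cast Fintype.card_ne_zero
  exact this hsq.symm

end

theorem result (m : ℕ) (hm : 1 ≤ m) (q : (Fin m ⊕ Fin m → ZMod 2) → ZMod 2) (hq : (∀ u v : (Fin m ⊕ Fin m → ZMod 2), q (u + v) = q u + q v + (Cfsg.quadFormPlus m (ZMod 2) (u + v) - Cfsg.quadFormPlus m (ZMod 2) u - Cfsg.quadFormPlus m (ZMod 2) v))) (w : (Fin m ⊕ Fin m → ZMod 2)) :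
    (∀ u v : (Fin m ⊕ Fin m → ZMod 2), (q (u + v) + (Cfsg.quadFormPlus m (ZMod 2) (u + v + w) - Cfsg.quadFormPlus m (ZMod 2) (u + v) - Cfsg.quadFormPlus m (ZMod 2) w)) =
        (q u + (Cfsg.quadFormPlus m (ZMod 2) (u + w) - Cfsg.quadFormPlus m (ZMod 2) u - Cfsg.quadFormPlus m (ZMod 2) w)) + (q v + (Cfsg.quadFormPlus m (ZMod 2) (v + w) - Cfsg.quadFormPlus m (ZMod 2) v - Cfsg.quadFormPlus m (ZMod 2) w)) +
        (Cfsg.quadFormPlus m (ZMod 2) (u + v) - Cfsg.quadFormPlus m (ZMod 2) u - Cfsg.quadFormPlus m (ZMod 2) v)) ∧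
    ((∃ g : (Fin m ⊕ Fin m → ZMod 2) ≃ₗ[ZMod 2] (Fin m ⊕ Fin m → ZMod 2), ∀ v, q v + (Cfsg.quadFormPlus m (ZMod 2) (v + w) - Cfsg.quadFormPlus m (ZMod 2) v - Cfsg.quadFormPlus m (ZMod 2) w) = q (g v)) ↔ q w = 0) := by
  have hq' : ∀ u v : (Fin m ⊕ Fin m → ZMod 2), q (u + v) = q u + q v + pol m u v := hq
  constructor
  · intro u v
    show q (u + v) + pol m (u + v) w = (q u + pol m u w) + (q v + pol m v w) + pol m u v
    rw [hq' u v, pol_add_left]
    ring
  · show (∃ g : (Fin m ⊕ Fin m → ZMod 2) ≃ₗ[ZMod 2] (Fin m ⊕ Fin m → ZMod 2),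
      ∀ v, q v + pol m v w = q (g v)) ↔ q w = 0
    constructor
    · rintro ⟨g, hg⟩
      by_contra hw
      have hw1 : q w = 1 := by
        have : ∀ a : ZMod 2, a ≠ 0 → a = 1 := by decide
        exact this _ hw
      apply sum_chi_ne_zero m q hq'
      set S := ∑ v : Fin m ⊕ Fin m → ZMod 2, chi (q v) with hS
      have h1 : ∑ v : Fin m ⊕ Fin m → ZMod 2, chi (q (g v)) = S :=
        Fintype.sum_equiv g.toEquiv _ _ (fun v => rfl)
      have h2 : ∑ v : Fin m ⊕ Fin m → ZMod 2, chi (q v + pol m v w) = -S := by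
        rw [hS, ← Finset.sum_neg_distrib]
        rw [← Fintype.sum_equiv (Equiv.addRight w) (fun v => -chi (q (v + w))) (fun v => -chi (q v))
          (fun v => rfl)]
        apply Finset.sum_congr rfl
        intro v _
        rw [hq' v w, hw1, chi_add, chi_add, chi_add, chi_one]
        ring
      have h3 : ∑ v : Fin m ⊕ Fin m → ZMod 2, chi (q v + pol m v w) =
          ∑ v : Fin m ⊕ Fin m → ZMod 2, chi (q (g v)) :=
        Finset.sum_congr rfl (fun v _ => by rw [hg v])
      omega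
    · intro hw
      -- the transvection
      let gl : (Fin m ⊕ Fin m → ZMod 2) →ₗ[ZMod 2] (Fin m ⊕ Fin m → ZMod 2) :=
        { toFun := fun v => v + pol m v w • w
          map_add' := by
            intro u v
            rw [pol_add_left, add_smul]
            abel
          map_smul' := by
            intro c v
            rw [pol_smul_left, RingHom.id_apply, smul_add, smul_smul] }
      have hgl : ∀ v, gl v = v + pol m v w • w := fun v => rfl
      have hinv : Function.Involutive gl := by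
        intro v
        rw [hgl, hgl, pol_add_left, pol_smul_left, pol_self, mul_zero, add_zero, add_assoc,
          ← add_smul]
        have : ∀ a : ZMod 2, a + a = 0 := by decide
        rw [this, zero_smul, add_zero]
      refine ⟨LinearEquiv.ofInvolutive gl hinv, ?_⟩
      intro v
      rw [LinearEquiv.coe_ofInvolutive, hgl]
      have hc : pol m v w = 0 ∨ pol m v w = 1 := by
        have : ∀ a : ZMod 2, a = 0 ∨ a = 1 := by decide
        exact this _
      rcases hc with hc | hc
      · rw [hc, zero_smul, add_zero, add_zero]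
      · rw [hc, one_smul, hq' v w, hw, hc]
        ring

end Cfsg.Agent.S2564
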