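import Cfsg.Statements.S2617

set_option autoImplicit false
open Cfsg

namespace Cfsg.Agent.S2617

section
variable {F : Type*} [Field F] [Finite F]

/-- zero count of `x*y + Q v`. -/
theorem card_hyp_add {V : Type*} [Finite V] (Q : V → F) :
    Nat.card {p : F × F × V // p.1 * p.2.1 + Q p.2.2 = 0} =
      Nat.card F * Nat.card {v : V // Q v = 0} + (Nat.card F - 1) * Nat.card V := by
  classical
  let e : {p : F × F × V // p.1 * p.2.1 + Q p.2.2 = 0} ≃ (Fˣ × V) ⊕ (F × {v : V // Q v = 0}) :=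
    { toFun := fun p =>
        if hx : p.1.1 = 0 then Sum.inr (p.1.2.1, ⟨p.1.2.2, by
          have := p.2
          rw [hx, zero_mul, zero_add] at this
          exact this⟩)
        else Sum.inl (Units.mk0 p.1.1 hx, p.1.2.2)
      invFun := fun s => match s with
        | Sum.inl (x, v) => ⟨((x : F), - Q v / (x : F), v), by
            show (x : F) * (- Q v / (x : F)) + Q v = 0
            have hx : (x : F) ≠ 0 := x.ne_zero
            field_simp
            ring⟩
        | Sum.inr (y, v) => ⟨(0, y, v.1), by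
            show (0 : F) * y + Q v.1 = 0
            rw [zero_mul, zero_add]; exact v.2⟩
      left_inv := by
        rintro ⟨⟨x, y, v⟩, h⟩
        by_cases hx : x = 0
        · subst hx
          simp
        · simp only [hx, dite_false]
          apply Subtype.ext
          simp only [Units.val_mk0]
          have h' : x * y + Q v = 0 := h
          have : - Q v / x = y := by
            field_simp
            linear_combination -h'
          rw [this]
      right_inv := by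
        rintro (⟨x, v⟩ | ⟨y, v⟩)
        · have hx : (x : F) ≠ 0 := x.ne_zero
          simp [hx]
        · simp }
  rw [Nat.card_congr e, Nat.card_sum, Nat.card_prod, Nat.card_prod, Nat.card_units, add_comm]

/-- zero count of `Q_k ⊕ R` -/
noncomputable def Z (k : ℕ) {V : Type*} (R : V → F) : ℕ :=
  Nat.card {p : (Fin k ⊕ Fin k → F) × V // quadFormPlus k F p.1 + R p.2 = 0}

/-- peel off one hyperbolic plane -/
def peel (k : ℕ) : (Fin (k + 1) ⊕ Fin (k + 1) → F) ≃ F × F × (Fin k ⊕ Fin k → F) where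
  toFun v := (v (Sum.inl 0), v (Sum.inr 0), fun s => v (Sum.map Fin.succ Fin.succ s))
  invFun p := Sum.elim (Fin.cons p.1 (fun i => p.2.2 (Sum.inl i))) (Fin.cons p.2.1 (fun i => p.2.2 (Sum.inr i)))
  left_inv v := by
    funext s
    rcases s with i | i
    · refine Fin.cases ?_ ?_ i
      · simp
      · intro j; simp
    · refine Fin.cases ?_ ?_ i
      · simp
      · intro j; simp
  right_inv p := by
    obtain ⟨x, y, w⟩ := p
    apply Prod.ext
    · simp
    · apply Prod.ext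
      · simp
      · funext s
        rcases s with i | i <;> simp

theorem quadFormPlus_peel (k : ℕ) (v : Fin (k + 1) ⊕ Fin (k + 1) → F) :
    quadFormPlus (k + 1) F v = (peel k v).1 * (peel k v).2.1 + quadFormPlus k F (peel k v).2.2 := by
  unfold quadFormPlus
  rw [Fin.sum_univ_succ]
  rfl

theorem Z_succ (k : ℕ) {V : Type*} [Finite V] (R : V → F) :
    Z (k + 1) R = Nat.card F * Z k R + (Nat.card F - 1) * (Nat.card F ^ (2 * k) * Nat.card V) := by
  unfold Z
  have e : {p : (Fin (k + 1) ⊕ Fin (k + 1) → F) × V // quadFormPlus (k + 1) F p.1 + R p.2 = 0} ≃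
      {p : F × F × ((Fin k ⊕ Fin k → F) × V) //
        p.1 * p.2.1 + (fun w : (Fin k ⊕ Fin k → F) × V => quadFormPlus k F w.1 + R w.2) p.2.2 = 0} := by
    refine Equiv.subtypeEquiv
      { toFun := fun p => ((peel k p.1).1, (peel k p.1).2.1, ((peel k p.1).2.2, p.2))
        invFun := fun p => ((peel k).symm (p.1, p.2.1, p.2.2.1), p.2.2.2)
        left_inv := by
          intro p
          apply Prod.ext
          · simp
          · rfl
        right_inv := by
          rintro ⟨x, y, w, v⟩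
          simp } ?_
    intro p
    simp only [Equiv.coe_fn_mk]
    rw [quadFormPlus_peel, add_assoc]
  rw [Nat.card_congr e,
    card_hyp_add (fun w : (Fin k ⊕ Fin k → F) × V => quadFormPlus k F w.1 + R w.2),
    Nat.card_prod, Nat.card_fun, Nat.card_sum, Nat.card_fin, two_mul]

/-- the binary form -/
def Rz (ζ : F) (z : Fin 2 → F) : F := z 0 ^ 2 + 1 * z 0 * z 1 + ζ * z 1 ^ 2

theorem Rz_aniso (ζ : F) (hζ : ∀ t : F, t ^ 2 + t + ζ ≠ 0) (z : Fin 2 → F) (h : Rz ζ z = 0) : z = 0 := by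
  unfold Rz at h
  have h1 : z 1 = 0 := by
    by_contra h1
    apply hζ (z 0 / z 1)
    field_simp
    linear_combination h
  rw [h1] at h
  have h0 : z 0 = 0 := by
    have : z 0 ^ 2 = 0 := by linear_combination h
    exact pow_eq_zero_iff (two_ne_zero) |>.mp this
  funext i
  fin_cases i
  · exact h0
  · exact h1

theorem Z_zero_unit : Z (F := F) 0 (fun _ : Unit => (0 : F)) = 1 := by
  unfold Z
  rw [Nat.card_eq_one_iff_unique]
  refine ⟨inferInstance, ⟨⟨(fun _ => 0, ()), ?_⟩⟩⟩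
  simp [quadFormPlus]

theorem Z_zero_aniso (ζ : F) (hζ : ∀ t : F, t ^ 2 + t + ζ ≠ 0) : Z (F := F) 0 (Rz ζ) = 1 := by
  unfold Z
  rw [Nat.card_eq_one_iff_unique]
  refine ⟨⟨?_⟩, ⟨⟨(fun _ => 0, 0), ?_⟩⟩⟩
  · rintro ⟨⟨v1, z1⟩, h1⟩ ⟨⟨v2, z2⟩, h2⟩
    apply Subtype.ext
    apply Prod.ext
    · exact Subsingleton.elim _ _
    · simp only [quadFormPlus, Finset.univ_eq_empty, Finset.sum_empty, zero_add] at h1 h2
      show z1 = z2
      rw [Rz_aniso ζ hζ z1 h1, Rz_aniso ζ hζ z2 h2]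
  · simp [quadFormPlus, Rz]

theorem Z_diff (ζ : F) (hζ : ∀ t : F, t ^ 2 + t + ζ ≠ 0) (k : ℕ) :
    Z (F := F) (k + 1) (fun _ : Unit => (0 : F)) =
      Z (F := F) k (Rz ζ) + 2 * (Nat.card F - 1) * Nat.card F ^ k := by
  obtain ⟨r, hr⟩ : ∃ r, Nat.card F = r + 1 := ⟨Nat.card F - 1, by
    have : 0 < Nat.card F := Nat.card_pos
    omega⟩
  induction k with
  | zero =>
    rw [Z_succ, Z_zero_unit, Z_zero_aniso ζ hζ, hr]
    simp
    ring
  | succ k ih =>
    rw [Z_succ, ih, Z_succ k (Rz ζ), Nat.card_fun, hr]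
    simp
    ring

end

theorem result {F : Type*} [Field F] [Finite F] {m : ℕ} (hm : 1 ≤ m) (ζ : F) (hζ : ∀ t : F, t ^ 2 + t + ζ ≠ 0)
    (g : (Fin m ⊕ Fin m → F) ≃ₗ[F] ((Fin (m - 1) ⊕ Fin (m - 1)) ⊕ Fin 2 → F)) :
    ¬ (∀ v : Fin m ⊕ Fin m → F, Cfsg.quadFormMinus (m - 1) F 1 ζ (g v) = Cfsg.quadFormPlus m F v) := by
  obtain ⟨k, rfl⟩ : ∃ k, m = k + 1 := ⟨m - 1, by omega⟩
  intro h
  have g' : (Fin (k + 1) ⊕ Fin (k + 1) → F) ≃ₗ[F] ((Fin k ⊕ Fin k) ⊕ Fin 2 → F) := g
  have h' : ∀ v : Fin (k + 1) ⊕ Fin (k + 1) → F,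
      Cfsg.quadFormMinus k F 1 ζ (g v) = Cfsg.quadFormPlus (k + 1) F v := h
  have e1 : {v : Fin (k + 1) ⊕ Fin (k + 1) → F // quadFormPlus (k + 1) F v = 0} ≃
      {w : (Fin k ⊕ Fin k) ⊕ Fin 2 → F // quadFormMinus k F 1 ζ w = 0} :=
    Equiv.subtypeEquiv (g.toEquiv : (Fin (k + 1) ⊕ Fin (k + 1) → F) ≃ ((Fin k ⊕ Fin k) ⊕ Fin 2 → F))
      (by intro v; rw [← h' v]; rfl)
  have e2 : {v : Fin (k + 1) ⊕ Fin (k + 1) → F // quadFormPlus (k + 1) F v = 0} ≃
      {p : (Fin (k + 1) ⊕ Fin (k + 1) → F) × Unit // quadFormPlus (k + 1) F p.1 + (fun _ : Unit => (0 : F)) p.2 = 0} :=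
    Equiv.subtypeEquiv (Equiv.prodPUnit _).symm (by intro v; simp)
  have e3 : {w : (Fin k ⊕ Fin k) ⊕ Fin 2 → F // quadFormMinus k F 1 ζ w = 0} ≃
      {p : (Fin k ⊕ Fin k → F) × (Fin 2 → F) // quadFormPlus k F p.1 + Rz ζ p.2 = 0} :=
    Equiv.subtypeEquiv (Equiv.sumArrowEquivProdArrow _ _ _) (by intro w; exact Iff.rfl)
  have hcard : Z (F := F) (k + 1) (fun _ : Unit => (0 : F)) = Z (F := F) k (Rz ζ) := by
    unfold Z
    rw [← Nat.card_congr e2, ← Nat.card_congr e3, Nat.card_congr e1]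
  rw [Z_diff ζ hζ k] at hcard
  have hq : 1 < Nat.card F := Finite.one_lt_card
  have hpos : 0 < 2 * (Nat.card F - 1) * Nat.card F ^ k := by
    apply Nat.mul_pos
    · omega
    · exact Nat.pow_pos (by omega)
  omega

end Cfsg.Agent.S2617
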