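import Cfsg.Statements.S2561
import Cfsg.Agent.S2564
import Cfsg.Agent.S2617
import Cfsg.Agent.S2616
import Cfsg.Agent.Lib.H13.StdForm

set_option autoImplicit false
open Cfsg

namespace Cfsg.Agent.S2561

open Cfsg.Agent.S2564 Cfsg.Agent.Lib.H13 Module

/-- the ambient space -/
abbrev VV (m : ℕ) : Type := Fin m ⊕ Fin m → ZMod 2

/-- `q` polarizes to the polar form of the plus form -/
def HQ (m : ℕ) (q : VV m → ZMod 2) : Prop :=
  ∀ u v : VV m, q (u + v) = q u + q v + (Cfsg.quadFormPlus m (ZMod 2) (u + v) -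
    Cfsg.quadFormPlus m (ZMod 2) u - Cfsg.quadFormPlus m (ZMod 2) v)

def IsPlus (m : ℕ) (q : VV m → ZMod 2) : Prop :=
  ∃ g : VV m ≃ₗ[ZMod 2] VV m, ∀ v, q v = Cfsg.quadFormPlus m (ZMod 2) (g v)

def IsMinus (m : ℕ) (q : VV m → ZMod 2) : Prop :=
  ∃ g : VV m ≃ₗ[ZMod 2] ((Fin (m - 1) ⊕ Fin (m - 1)) ⊕ Fin 2 → ZMod 2),
    ∀ v, q v = Cfsg.quadFormMinus (m - 1) (ZMod 2) 1 1 (g v)

theorem HQ_iff (m : ℕ) (q : VV m → ZMod 2) :
    HQ m q ↔ ∀ u v : VV m, q (u + v) = q u + q v + pol m u v := Iff.rfl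

theorem pol_smul_right (m : ℕ) (c : ZMod 2) (u w : VV m) : pol m w (c • u) = c * pol m w u := by
  rw [pol_comm, pol_smul_left, pol_comm]

/-- `pol` as a bilinear map -/
def polB (m : ℕ) : LinearMap.BilinMap (ZMod 2) (VV m) (ZMod 2) :=
  LinearMap.mk₂ (ZMod 2) (pol m) (pol_add_left m) (fun c u w => by rw [pol_smul_left]; rfl)
    (fun w u v => pol_add_right m u v w) (fun c w u => by rw [pol_smul_right]; rfl)

/-- the quadratic form attached to `q` -/
def toQF (m : ℕ) (q : VV m → ZMod 2) (hq : HQ m q) : QuadraticForm (ZMod 2) (VV m) where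
  toFun := q
  toFun_smul := by
    intro a x
    have ha : a = 0 ∨ a = 1 := by revert a; decide
    rcases ha with rfl | rfl
    · rw [zero_smul, mul_zero, zero_smul]
      exact q_zero m q hq
    · rw [one_smul, mul_one, one_smul]
  exists_companion' := ⟨polB m, fun x y => hq x y⟩

theorem toQF_apply (m : ℕ) (q : VV m → ZMod 2) (hq : HQ m q) (v : VV m) : toQF m q hq v = q v := rfl

theorem polar_toQF (m : ℕ) (q : VV m → ZMod 2) (hq : HQ m q) (u v : VV m) :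
    QuadraticMap.polar (toQF m q hq) u v = pol m u v := by
  unfold QuadraticMap.polar
  rw [toQF_apply, toQF_apply, toQF_apply, hq u v]
  show q u + q v + pol m u v - q u - q v = pol m u v
  ring

theorem nondeg_toQF (m : ℕ) (q : VV m → ZMod 2) (hq : HQ m q) :
    (QuadraticMap.polarBilin (toQF m q hq)).Nondegenerate := by
  rw [nondegenerate_polar_iff]
  intro x hx
  by_contra hx0
  obtain ⟨u, hu⟩ := exists_pol_eq_one m x hx0
  have := hx u
  rw [polar_toQF, pol_comm, hu] at this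
  exact one_ne_zero this

theorem finrank_VV (m : ℕ) : finrank (ZMod 2) (VV m) = 2 * m := by
  rw [Module.finrank_fintype_fun_eq_card, Fintype.card_sum, Fintype.card_fin]
  ring

theorem irred_one : ∀ t : ZMod 2, t ^ 2 + t + 1 ≠ 0 := by decide

/-- classification -/
theorem plus_or_minus (m : ℕ) (hm : 1 ≤ m) (q : VV m → ZMod 2) (hq : HQ m q) :
    IsPlus m q ∨ IsMinus m q := by
  rcases Cfsg.Agent.S2616.result hm (finrank_VV m) (toQF m q hq) (nondeg_toQF m q hq) with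
    ⟨b, h1, h2, h3⟩ | ⟨b, ζ, hζ, h1, h2, h3, h4, h5, h6, h7⟩
  · left
    exact ⟨b.equivFun, fun v => eq_quadFormPlus_of_std (toQF m q hq) b h1 h2 h3 v⟩
  · right
    have hζ1 : ζ = 1 := by
      have h0 := hζ 0
      have : ∀ a : ZMod 2, (0 : ZMod 2) ^ 2 + 0 + a ≠ 0 → a = 1 := by decide
      exact this ζ h0
    subst hζ1
    exact ⟨b.equivFun, fun v => eq_quadFormMinus_of_std (toQF m q hq) b 1 h1 h2 h3 h4 h5 h6 h7 v⟩

theorem not_plus_and_minus (m : ℕ) (hm : 1 ≤ m) (q : VV m → ZMod 2) (h1 : IsPlus m q)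
    (h2 : IsMinus m q) : False := by
  obtain ⟨g₁, hg₁⟩ := h1
  obtain ⟨g₂, hg₂⟩ := h2
  apply Cfsg.Agent.S2617.result hm (1 : ZMod 2) irred_one (g₁.symm.trans g₂)
  intro u
  rw [LinearEquiv.trans_apply, ← hg₂, hg₁, LinearEquiv.apply_symm_apply]

theorem HQ_plus (m : ℕ) : HQ m (Cfsg.quadFormPlus m (ZMod 2)) := by
  intro u v
  ring

/-- the parametrization `w ↦ P + pol(·, w)` -/
def Phi (m : ℕ) (w : VV m) : {q : VV m → ZMod 2 // HQ m q} :=
  ⟨fun v => Cfsg.quadFormPlus m (ZMod 2) v + pol m v w, by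
    intro u v
    show Cfsg.quadFormPlus m (ZMod 2) (u + v) + pol m (u + v) w =
      (Cfsg.quadFormPlus m (ZMod 2) u + pol m u w) + (Cfsg.quadFormPlus m (ZMod 2) v + pol m v w) +
        pol m u v
    rw [pol_add_left]
    unfold pol
    ring⟩

theorem Phi_injective (m : ℕ) : Function.Injective (Phi m) := by
  intro w w' h
  have h1 : ∀ v, pol m v w = pol m v w' := by
    intro v
    have := congrFun (congrArg Subtype.val h) v
    exact add_left_cancel this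
  by_contra hne
  have hne' : w + w' ≠ 0 := by
    intro h0
    apply hne
    have : ∀ a b : ZMod 2, a + b = 0 → a = b := by decide
    funext s
    exact this _ _ (congrFun h0 s)
  obtain ⟨u, hu⟩ := exists_pol_eq_one m (w + w') hne'
  rw [pol_add_right, h1 u] at hu
  have : ∀ a : ZMod 2, a + a = 0 := by decide
  rw [this] at hu
  exact zero_ne_one hu

theorem Phi_surjective (m : ℕ) : Function.Surjective (Phi m) := by
  rintro ⟨q, hq⟩
  -- d = q - P is additive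
  let d : VV m →+ ZMod 2 :=
    { toFun := fun v => q v - Cfsg.quadFormPlus m (ZMod 2) v
      map_zero' := by
        rw [q_zero m q hq]
        simp [Cfsg.quadFormPlus]
      map_add' := by
        intro u v
        rw [hq u v, HQ_plus m u v]
        ring }
  let L : VV m →ₗ[ZMod 2] ZMod 2 := d.toZModLinearMap 2
  have hL : ∀ v, L v = q v - Cfsg.quadFormPlus m (ZMod 2) v := fun v => rfl
  let w : VV m := fun s => match s with
    | .inl i => L (Pi.single (.inr i) 1)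
    | .inr i => L (Pi.single (.inl i) 1)
  refine ⟨w, ?_⟩
  apply Subtype.ext
  funext v
  show Cfsg.quadFormPlus m (ZMod 2) v + pol m v w = q v
  have key : pol m v w = L v := by
    rw [LinearMap.pi_apply_eq_sum_univ L v, Fintype.sum_sum_type, pol_formula, Finset.sum_add_distrib]
    congr 1
    · apply Finset.sum_congr rfl
      intro i _
      show v (.inl i) * L (Pi.single (.inl i) 1) = v (.inl i) • L _
      rw [smul_eq_mul]
      congr 2
      funext j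
      simp [Pi.single_apply, eq_comm]
    · apply Finset.sum_congr rfl
      intro i _
      show L (Pi.single (.inr i) 1) * v (.inr i) = v (.inr i) • L _
      rw [smul_eq_mul, mul_comm]
      congr 2
      funext j
      simp [Pi.single_apply, eq_comm]
  rw [key, hL]
  ring

/-- plus type criterion -/
theorem isPlus_Phi_iff (m : ℕ) (hm : 1 ≤ m) (w : VV m) :
    IsPlus m (Phi m w).1 ↔ Cfsg.quadFormPlus m (ZMod 2) w = 0 :=
  (Cfsg.Agent.S2564.result m hm (Cfsg.quadFormPlus m (ZMod 2)) (HQ_plus m) w).2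

/-- the number of zeros of the plus form -/
theorem two_mul_Z (k : ℕ) :
    2 * Cfsg.Agent.S2617.Z (F := ZMod 2) k (fun _ : Unit => (0 : ZMod 2)) = 2 ^ (2 * k) + 2 ^ k := by
  induction k with
  | zero => rw [Cfsg.Agent.S2617.Z_zero_unit]; norm_num
  | succ k ih =>
    rw [Cfsg.Agent.S2617.Z_succ]
    have h2 : Nat.card (ZMod 2) = 2 := by simp
    rw [h2]
    simp only [Nat.card_unique, mul_one, Nat.add_one_sub_one, one_mul]
    have : 2 * (2 * Cfsg.Agent.S2617.Z (F := ZMod 2) k (fun _ : Unit => (0 : ZMod 2)) + 2 ^ (2 * k)) =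
        2 * (2 ^ (2 * k) + 2 ^ k + 2 ^ (2 * k)) := by rw [← ih]
    rw [this]
    ring

theorem card_zeros (m : ℕ) :
    2 * Nat.card {w : VV m // Cfsg.quadFormPlus m (ZMod 2) w = 0} = 2 ^ (2 * m) + 2 ^ m := by
  rw [← two_mul_Z m]
  congr 1
  unfold Cfsg.Agent.S2617.Z
  exact Nat.card_congr (Equiv.subtypeEquiv (Equiv.prodPUnit _).symm (by intro v; simp))

theorem card_plus (m : ℕ) (hm : 1 ≤ m) :
    2 * Nat.card {x : {q : VV m → ZMod 2 // HQ m q} // IsPlus m x.1} = 2 ^ (2 * m) + 2 ^ m := by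
  rw [← card_zeros m]
  congr 1
  symm
  refine Nat.card_congr (Equiv.ofBijective
    (fun w : {w : VV m // Cfsg.quadFormPlus m (ZMod 2) w = 0} =>
      (⟨Phi m w.1, (isPlus_Phi_iff m hm w.1).mpr w.2⟩ :
        {x : {q : VV m → ZMod 2 // HQ m q} // IsPlus m x.1})) ⟨?_, ?_⟩)
  · intro w w' h
    apply Subtype.ext
    apply Phi_injective m
    exact congrArg Subtype.val h
  · rintro ⟨x, hx⟩
    obtain ⟨w, rfl⟩ := Phi_surjective m x
    exact ⟨⟨w, (isPlus_Phi_iff m hm w).mp hx⟩, rfl⟩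

theorem card_all (m : ℕ) : Nat.card {q : VV m → ZMod 2 // HQ m q} = 2 ^ (2 * m) := by
  rw [← Nat.card_congr (Equiv.ofBijective (Phi m) ⟨Phi_injective m, Phi_surjective m⟩)]
  rw [Nat.card_eq_fintype_card, Fintype.card_fun, ZMod.card, Fintype.card_sum, Fintype.card_fin]
  congr 1
  ring

theorem result (m : ℕ) (hm : 1 ≤ m) :
    Nat.card {q : (Fin m ⊕ Fin m → ZMod 2) → ZMod 2 // (∀ u v : (Fin m ⊕ Fin m → ZMod 2), q (u + v) = q u + q v + (Cfsg.quadFormPlus m (ZMod 2) (u + v) - Cfsg.quadFormPlus m (ZMod 2) u - Cfsg.quadFormPlus m (ZMod 2) v))} = 2 ^ (2 * m) ∧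
    (∀ q : (Fin m ⊕ Fin m → ZMod 2) → ZMod 2, (∀ u v : (Fin m ⊕ Fin m → ZMod 2), q (u + v) = q u + q v + (Cfsg.quadFormPlus m (ZMod 2) (u + v) - Cfsg.quadFormPlus m (ZMod 2) u - Cfsg.quadFormPlus m (ZMod 2) v)) →
      (∃ g : (Fin m ⊕ Fin m → ZMod 2) ≃ₗ[ZMod 2] (Fin m ⊕ Fin m → ZMod 2), ∀ v, q v = Cfsg.quadFormPlus m (ZMod 2) (g v)) ∨
      (∃ g : (Fin m ⊕ Fin m → ZMod 2) ≃ₗ[ZMod 2] ((Fin (m - 1) ⊕ Fin (m - 1)) ⊕ Fin 2 → ZMod 2), ∀ v, q v = Cfsg.quadFormMinus (m - 1) (ZMod 2) 1 1 (g v))) ∧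
    Nat.card {q : (Fin m ⊕ Fin m → ZMod 2) → ZMod 2 // (∀ u v : (Fin m ⊕ Fin m → ZMod 2), q (u + v) = q u + q v + (Cfsg.quadFormPlus m (ZMod 2) (u + v) - Cfsg.quadFormPlus m (ZMod 2) u - Cfsg.quadFormPlus m (ZMod 2) v)) ∧ ∃ g : (Fin m ⊕ Fin m → ZMod 2) ≃ₗ[ZMod 2] (Fin m ⊕ Fin m → ZMod 2), ∀ v, q v = Cfsg.quadFormPlus m (ZMod 2) (g v)} = 2 ^ (2 * m - 1) + 2 ^ (m - 1) ∧
    Nat.card {q : (Fin m ⊕ Fin m → ZMod 2) → ZMod 2 // (∀ u v : (Fin m ⊕ Fin m → ZMod 2), q (u + v) = q u + q v + (Cfsg.quadFormPlus m (ZMod 2) (u + v) - Cfsg.quadFormPlus m (ZMod 2) u - Cfsg.quadFormPlus m (ZMod 2) v)) ∧ ∃ g : (Fin m ⊕ Fin m → ZMod 2) ≃ₗ[ZMod 2] ((Fin (m - 1) ⊕ Fin (m - 1)) ⊕ Fin 2 → ZMod 2), ∀ v, q v = Cfsg.quadFormMinus (m - 1) (ZMod 2) 1 1 (g v)} = 2 ^ (2 * m - 1) - 2 ^ (m - 1) := by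
  classical
  obtain ⟨k, rfl⟩ : ∃ k, m = k + 1 := ⟨m - 1, by omega⟩
  have hall := card_all (k + 1)
  have hplus := card_plus (k + 1) hm
  have e1 : {q : VV (k + 1) → ZMod 2 // HQ (k + 1) q ∧ IsPlus (k + 1) q} ≃
      {x : {q : VV (k + 1) → ZMod 2 // HQ (k + 1) q} // IsPlus (k + 1) x.1} :=
    (Equiv.subtypeSubtypeEquivSubtypeInter _ _).symm
  have e2 : {q : VV (k + 1) → ZMod 2 // HQ (k + 1) q ∧ IsMinus (k + 1) q} ≃
      {x : {q : VV (k + 1) → ZMod 2 // HQ (k + 1) q} // ¬ IsPlus (k + 1) x.1} :=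
    (Equiv.subtypeSubtypeEquivSubtypeInter _ _).symm.trans (Equiv.subtypeEquivRight (by
      rintro ⟨q, hq⟩
      constructor
      · intro h2 h1
        exact not_plus_and_minus (k + 1) hm q h1 h2
      · intro h1
        exact (plus_or_minus (k + 1) hm q hq).resolve_left h1))
  have hsum : Nat.card {x : {q : VV (k + 1) → ZMod 2 // HQ (k + 1) q} // IsPlus (k + 1) x.1} +
      Nat.card {x : {q : VV (k + 1) → ZMod 2 // HQ (k + 1) q} // ¬ IsPlus (k + 1) x.1} =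
      Nat.card {q : VV (k + 1) → ZMod 2 // HQ (k + 1) q} := by
    rw [← Nat.card_sum]
    exact Nat.card_congr (Equiv.sumCompl _)
  have hpow : 2 ^ (2 * (k + 1)) = 2 * 2 ^ (2 * k + 1) := by
    rw [show 2 * (k + 1) = (2 * k + 1) + 1 by ring, pow_succ]; ring
  have hpow2 : 2 ^ (k + 1) = 2 * 2 ^ k := by rw [pow_succ]; ring
  have hle : 2 ^ k ≤ 2 ^ (2 * k + 1) := Nat.pow_le_pow_right (by norm_num) (by omega)
  refine ⟨hall, fun q hq => plus_or_minus (k + 1) hm q hq, ?_, ?_⟩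
  · show Nat.card {q : VV (k + 1) → ZMod 2 // HQ (k + 1) q ∧ IsPlus (k + 1) q} = _
    rw [Nat.card_congr e1]
    have h1 : 2 * (k + 1) - 1 = 2 * k + 1 := by omega
    have h2 : k + 1 - 1 = k := by omega
    rw [h1, h2]
    omega
  · show Nat.card {q : VV (k + 1) → ZMod 2 // HQ (k + 1) q ∧ IsMinus (k + 1) q} = _
    rw [Nat.card_congr e2]
    have h1 : 2 * (k + 1) - 1 = 2 * k + 1 := by omega
    have h2 : k + 1 - 1 = k := by omega
    rw [h1, h2]
    omega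

end Cfsg.Agent.S2561
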