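import Cfsg.Statements.S2565
import Cfsg.Agent.S0825

set_option autoImplicit false
open Cfsg

namespace Cfsg.Agent.S2565

/-- An isomorphism carries the commutator subgroup onto the commutator subgroup. -/
theorem map_commutator_equiv {G H : Type*} [Group G] [Group H] (e : G ≃* H) :
    (commutator G).map (e : G →* H) = commutator H := by
  rw [commutator_def, commutator_def, Subgroup.map_commutator]
  have : (⊤ : Subgroup G).map (e : G →* H) = ⊤ := by
    rw [← MonoidHom.range_eq_map]
    exact MonoidHom.range_eq_top.2 e.surjective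
  rw [this]

/-- The commutator subgroup of the full orthogonal group of the plus-type form Σ xᵢyᵢ in dimension 6 over the field of two elements (the group Ω⁺₆(2), of index 2) is isomorphic to the alternating group of degree 8. -/
theorem result :
    (Cfsg.Omega (ZMod 2) (Cfsg.quadFormPlus 3 (ZMod 2))).index = 2 ∧
    Nonempty (↥(Cfsg.Omega (ZMod 2) (Cfsg.quadFormPlus 3 (ZMod 2))) ≃* alternatingGroup (Fin 8)) := by
  obtain ⟨e⟩ := Cfsg.Agent.S0825.result (F := ZMod 2) (by simp)
  have h5 : 5 ≤ Nat.card (Fin 8) := by simp
  have hmap : (Cfsg.Omega (ZMod 2) (Cfsg.quadFormPlus 3 (ZMod 2))).map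
      (e : _ →* Equiv.Perm (Fin 8)) = alternatingGroup (Fin 8) := by
    rw [← alternatingGroup.commutator_perm_eq h5]
    exact map_commutator_equiv e
  constructor
  · rw [← Subgroup.index_map_equiv _ e, hmap]
    exact alternatingGroup.index_eq_two
  · exact ⟨(e.subgroupMap _).trans (MulEquiv.subgroupCongr hmap)⟩

end Cfsg.Agent.S2565
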