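import Cfsg.Statements.S2566
import Mathlib
import Cfsg.Agent.S0287
import Cfsg.Agent.S0250

set_option autoImplicit false

namespace Cfsg.Agent.S2566
open Cfsg Matrix

section gen
variable {F : Type*} [Field F]

local notation "SL2" => Matrix.SpecialLinearGroup (Fin 2) F
local notation "M2" => Matrix (Fin 2) (Fin 2) F
local notation "V4" => (Fin 2 ⊕ Fin 2 → F)

/-- identification of the 4-space with 2×2 matrices, quadratic form = determinant -/
def psi : V4 ≃ₗ[F] M2 where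
  toFun x := !![x (Sum.inl 0), -x (Sum.inl 1); x (Sum.inr 1), x (Sum.inr 0)]
  invFun X := Sum.elim ![X 0 0, -X 0 1] ![X 1 1, X 1 0]
  map_add' x y := by
    ext i j; fin_cases i <;> fin_cases j <;> simp [add_comm]
  map_smul' c x := by
    ext i j; fin_cases i <;> fin_cases j <;> simp
  left_inv x := by
    ext i
    rcases i with i | i <;> fin_cases i <;> simp
  right_inv X := by
    ext i j; fin_cases i <;> fin_cases j <;> simp

theorem det_psi (x : V4) : (psi x).det = Cfsg.quadFormPlus 2 F x := by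
  unfold Cfsg.quadFormPlus
  rw [Fin.sum_univ_two, Matrix.det_fin_two]
  simp [psi]

/-- `X ↦ g X h⁻¹` -/
def mulLR (g h : SL2) : M2 ≃ₗ[F] M2 where
  toFun X := (g : M2) * X * ((h⁻¹ : SL2) : M2)
  invFun X := ((g⁻¹ : SL2) : M2) * X * (h : M2)
  map_add' X Y := by rw [mul_add, add_mul]
  map_smul' c X := by simp
  left_inv X := by
    show ((g⁻¹ : SL2) : M2) * ((g : M2) * X * ((h⁻¹ : SL2) : M2)) * (h : M2) = X
    have h1 : ((g⁻¹ : SL2) : M2) * (g : M2) = 1 := by
      rw [← Matrix.SpecialLinearGroup.coe_mul, inv_mul_cancel, Matrix.SpecialLinearGroup.coe_one]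
    have h2 : ((h⁻¹ : SL2) : M2) * (h : M2) = 1 := by
      rw [← Matrix.SpecialLinearGroup.coe_mul, inv_mul_cancel, Matrix.SpecialLinearGroup.coe_one]
    calc ((g⁻¹ : SL2) : M2) * ((g : M2) * X * ((h⁻¹ : SL2) : M2)) * (h : M2)
        = (((g⁻¹ : SL2) : M2) * (g : M2)) * X * (((h⁻¹ : SL2) : M2) * (h : M2)) := by
          simp only [Matrix.mul_assoc]
      _ = X := by rw [h1, h2, Matrix.one_mul, Matrix.mul_one]
  right_inv X := by
    show (g : M2) * (((g⁻¹ : SL2) : M2) * X * (h : M2)) * ((h⁻¹ : SL2) : M2) = X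
    have h1 : (g : M2) * ((g⁻¹ : SL2) : M2) = 1 := by
      rw [← Matrix.SpecialLinearGroup.coe_mul, mul_inv_cancel, Matrix.SpecialLinearGroup.coe_one]
    have h2 : (h : M2) * ((h⁻¹ : SL2) : M2) = 1 := by
      rw [← Matrix.SpecialLinearGroup.coe_mul, mul_inv_cancel, Matrix.SpecialLinearGroup.coe_one]
    calc (g : M2) * (((g⁻¹ : SL2) : M2) * X * (h : M2)) * ((h⁻¹ : SL2) : M2)
        = ((g : M2) * ((g⁻¹ : SL2) : M2)) * X * ((h : M2) * ((h⁻¹ : SL2) : M2)) := by
          simp only [Matrix.mul_assoc]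
      _ = X := by rw [h1, h2, Matrix.one_mul, Matrix.mul_one]

theorem mulLR_apply (g h : SL2) (X : M2) : mulLR g h X = (g : M2) * X * ((h⁻¹ : SL2) : M2) := rfl

/-- GL element of a linear equivalence -/
noncomputable def glOf {κ : Type} [Fintype κ] [DecidableEq κ]
    (e : (κ → F) ≃ₗ[F] (κ → F)) : GL κ F :=
  ⟨LinearMap.toMatrix' (e : (κ → F) →ₗ[F] (κ → F)),
    LinearMap.toMatrix' (e.symm : (κ → F) →ₗ[F] (κ → F)),
    by rw [← LinearMap.toMatrix'_comp]; simp,
    by rw [← LinearMap.toMatrix'_comp]; simp⟩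

theorem glOf_mulVec {κ : Type} [Fintype κ] [DecidableEq κ]
    (e : (κ → F) ≃ₗ[F] (κ → F)) (v : κ → F) : (glOf e).1 *ᵥ v = e v := by
  show (LinearMap.toMatrix' (e : (κ → F) →ₗ[F] (κ → F))) *ᵥ v = e v
  rw [LinearMap.toMatrix'_mulVec]; rfl

theorem gl_ext {κ : Type} [Fintype κ] [DecidableEq κ] {a b : GL κ F}
    (h : ∀ v : κ → F, a.1 *ᵥ v = b.1 *ᵥ v) : a = b := by
  apply Units.ext
  exact Matrix.ext_iff_mulVec.mpr h

/-- action of `(g, h)` on the 4-space -/
noncomputable def lrEquiv (p : SL2 × SL2) : V4 ≃ₗ[F] V4 := psi.trans ((mulLR p.1 p.2).trans psi.symm)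

theorem lrEquiv_apply (p : SL2 × SL2) (x : V4) :
    lrEquiv p x = psi.symm ((p.1 : M2) * psi x * ((p.2⁻¹ : SL2) : M2)) := rfl

/-- the hom `SL₂ × SL₂ → GL₄` -/
noncomputable def Phi : SL2 × SL2 →* GL (Fin 2 ⊕ Fin 2) F where
  toFun p := glOf (lrEquiv p)
  map_one' := by
    apply gl_ext
    intro v
    rw [glOf_mulVec, lrEquiv_apply]
    simp
  map_mul' p p' := by
    apply gl_ext
    intro v
    rw [Units.val_mul, ← Matrix.mulVec_mulVec, glOf_mulVec, glOf_mulVec, glOf_mulVec, lrEquiv_apply,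
      lrEquiv_apply, lrEquiv_apply, LinearEquiv.apply_symm_apply]
    congr 1
    simp only [Prod.fst_mul, Prod.snd_mul, _root_.mul_inv_rev, Matrix.SpecialLinearGroup.coe_mul, Matrix.mul_assoc]

theorem Phi_mulVec (p : SL2 × SL2) (x : V4) :
    (Phi p).1 *ᵥ x = psi.symm ((p.1 : M2) * psi x * ((p.2⁻¹ : SL2) : M2)) := by
  show (glOf (lrEquiv p)).1 *ᵥ x = _
  rw [glOf_mulVec, lrEquiv_apply]

theorem mem_iso_iff (g : GL (Fin 2 ⊕ Fin 2) F) :
    g ∈ Cfsg.isometryGroup F (Cfsg.quadFormPlus 2 F) ↔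
      ∀ x : V4, Cfsg.quadFormPlus 2 F (g.1 *ᵥ x) = Cfsg.quadFormPlus 2 F x := by
  constructor
  · intro h x
    exact h x x
  · intro h x _
    exact h x

theorem Phi_mem (p : SL2 × SL2) : Phi p ∈ Cfsg.isometryGroup F (Cfsg.quadFormPlus 2 F) := by
  rw [mem_iso_iff]
  intro x
  rw [Phi_mulVec, ← det_psi, ← det_psi, LinearEquiv.apply_symm_apply, Matrix.det_mul, Matrix.det_mul,
    Matrix.SpecialLinearGroup.det_coe, Matrix.SpecialLinearGroup.det_coe, one_mul, mul_one]

/-- the transpose as an isometry -/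
noncomputable def tauEquiv : V4 ≃ₗ[F] V4 :=
  psi.trans ((Matrix.transposeLinearEquiv (Fin 2) (Fin 2) F F).trans psi.symm)

theorem tauEquiv_apply (x : V4) : tauEquiv x = psi.symm ((psi x)ᵀ) := rfl

theorem tau_mem : glOf (tauEquiv (F := F)) ∈ Cfsg.isometryGroup F (Cfsg.quadFormPlus 2 F) := by
  rw [mem_iso_iff]
  intro x
  rw [glOf_mulVec, tauEquiv_apply, ← det_psi, ← det_psi, LinearEquiv.apply_symm_apply,
    Matrix.det_transpose]


theorem tau_Phi (g k : SL2) (hk : ((k⁻¹ : SL2) : M2) = (g : M2)ᵀ) :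
    glOf (tauEquiv (F := F)) * Phi (g, 1) = Phi (1, k) * glOf (tauEquiv (F := F)) := by
  apply gl_ext
  intro x
  rw [Units.val_mul, Units.val_mul, ← Matrix.mulVec_mulVec, ← Matrix.mulVec_mulVec, glOf_mulVec,
    glOf_mulVec, Phi_mulVec, Phi_mulVec, tauEquiv_apply, tauEquiv_apply, LinearEquiv.apply_symm_apply,
    LinearEquiv.apply_symm_apply]
  congr 1
  simp only [inv_one, Matrix.SpecialLinearGroup.coe_one, Matrix.mul_one, Matrix.one_mul, hk,
    Matrix.transpose_mul]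

end gen


section two

local notation "SL2" => Matrix.SpecialLinearGroup (Fin 2) (ZMod 2)
local notation "M2" => Matrix (Fin 2) (Fin 2) (ZMod 2)
local notation "V4" => (Fin 2 ⊕ Fin 2 → ZMod 2)
/-- the orthogonal group `O⁺₄(2)` -/
abbrev G4 : Type := ↥(Cfsg.isometryGroup (ZMod 2) (Cfsg.quadFormPlus 2 (ZMod 2)))

/-- the hom into the isometry group -/
noncomputable def Phi' : SL2 × SL2 →* G4 :=
  (Phi (F := ZMod 2)).codRestrict _ Phi_mem

theorem Phi'_val (p : SL2 × SL2) : ((Phi' p : G4) : GL (Fin 2 ⊕ Fin 2) (ZMod 2)) = Phi p := rfl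

theorem Phi_injective : Function.Injective (Phi (F := ZMod 2)) := by
  rw [injective_iff_map_eq_one]
  rintro ⟨g, h⟩ hp
  have key : ∀ X : M2, (g : M2) * X * ((h⁻¹ : SL2) : M2) = X := by
    intro X
    have h1 := Phi_mulVec (g, h) (psi.symm X)
    rw [hp] at h1
    simp only [Units.val_one, Matrix.one_mulVec, LinearEquiv.apply_symm_apply] at h1
    have := congrArg psi h1
    rw [LinearEquiv.apply_symm_apply, LinearEquiv.apply_symm_apply] at this
    exact this.symm
  have hgh : g = h := by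
    have h1 := key 1
    rw [Matrix.mul_one, ← Matrix.SpecialLinearGroup.coe_mul, ← Matrix.SpecialLinearGroup.coe_one] at h1
    have h2 : g * h⁻¹ = 1 := Subtype.ext h1
    exact mul_inv_eq_one.mp h2
  subst hgh
  have comm : ∀ X : M2, (g : M2) * X = X * (g : M2) := by
    intro X
    have h1 := key X
    have h2 : ((g⁻¹ : SL2) : M2) * (g : M2) = 1 := by
      rw [← Matrix.SpecialLinearGroup.coe_mul, inv_mul_cancel, Matrix.SpecialLinearGroup.coe_one]
    calc (g : M2) * X = (g : M2) * X * (((g⁻¹ : SL2) : M2) * (g : M2)) := by rw [h2, Matrix.mul_one]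
      _ = ((g : M2) * X * ((g⁻¹ : SL2) : M2)) * (g : M2) := by simp only [Matrix.mul_assoc]
      _ = X * (g : M2) := by rw [h1]
  have c1 := comm !![0, 1; 0, 0]
  have c2 := comm !![0, 0; 1, 0]
  have e10 : (g : M2) 1 0 = 0 := by
    have := congrFun (congrFun c1 0) 0
    simp [Matrix.mul_apply, Fin.sum_univ_two] at this
    exact this.symm
  have e00 : (g : M2) 0 0 = (g : M2) 1 1 := by
    have := congrFun (congrFun c1 0) 1
    simp [Matrix.mul_apply, Fin.sum_univ_two] at this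
    exact this
  have e01 : (g : M2) 0 1 = 0 := by
    have := congrFun (congrFun c2 0) 0
    simp [Matrix.mul_apply, Fin.sum_univ_two] at this
    exact this
  have hdet := g.det_coe
  rw [Matrix.det_fin_two, e10, e01, ← e00, mul_zero, sub_zero] at hdet
  have e00' : (g : M2) 0 0 = 1 := by
    generalize (g : M2) 0 0 = c at hdet
    revert c
    decide
  have hg1 : g = 1 := by
    apply Subtype.ext
    ext i j
    fin_cases i <;> fin_cases j <;> simp [e10, e01, e00', ← e00]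
  rw [hg1]
  rfl

theorem Phi'_injective : Function.Injective Phi' := by
  intro p p' h
  apply Phi_injective
  have := congrArg (fun x : G4 => (x : GL (Fin 2 ⊕ Fin 2) (ZMod 2))) h
  exact this

theorem card_SL2 : Nat.card SL2 = 6 := by
  obtain ⟨e⟩ := Cfsg.Agent.S0250.result (F := ZMod 2) (by simp)
  rw [Nat.card_congr e.toEquiv, Nat.card_eq_fintype_card, Fintype.card_perm, Fintype.card_fin]
  rfl

theorem card_G4 : Nat.card G4 = 72 := by
  rw [Cfsg.Agent.S0287.result (F := ZMod 2) (q := 2) (by simp) 2 (by norm_num)]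
  simp


/-- the swap element -/
noncomputable def tau' : G4 := ⟨glOf (tauEquiv (F := ZMod 2)), tau_mem⟩

theorem tau'_Phi' (g k : SL2) (hk : ((k⁻¹ : SL2) : M2) = (g : M2)ᵀ) :
    tau' * Phi' (g, 1) * tau'⁻¹ = Phi' (1, k) := by
  have h : tau' * Phi' (g, 1) = Phi' (1, k) * tau' := by
    apply Subtype.ext
    exact tau_Phi g k hk
  rw [h, mul_inv_cancel_right]

/-- The full orthogonal group O⁺₄(2) has order 72 and is S₃ wr 2. -/
theorem result :
    Nat.card ↥(Cfsg.isometryGroup (ZMod 2) (Cfsg.quadFormPlus 2 (ZMod 2))) = 72 ∧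
    ∃ (A B : Subgroup ↥(Cfsg.isometryGroup (ZMod 2) (Cfsg.quadFormPlus 2 (ZMod 2)))),
      Nonempty (↥A ≃* Equiv.Perm (Fin 3)) ∧ Nonempty (↥B ≃* Equiv.Perm (Fin 3)) ∧ A ⊓ B = ⊥ ∧ (∀ a ∈ A, ∀ b ∈ B, a * b = b * a) ∧
      (A ⊔ B).index = 2 ∧ ∃ g : ↥(Cfsg.isometryGroup (ZMod 2) (Cfsg.quadFormPlus 2 (ZMod 2))), A.map (MulAut.conj g).toMonoidHom = B := by
  refine ⟨card_G4, ?_⟩
  obtain ⟨e3⟩ := Cfsg.Agent.S0250.result (F := ZMod 2) (by simp)
  set fA : SL2 →* G4 := Phi'.comp (MonoidHom.inl SL2 SL2) with hfA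
  set fB : SL2 →* G4 := Phi'.comp (MonoidHom.inr SL2 SL2) with hfB
  have hfAi : Function.Injective fA := Phi'_injective.comp (fun a b h => congrArg Prod.fst h)
  have hfBi : Function.Injective fB := Phi'_injective.comp (fun a b h => congrArg Prod.snd h)
  have hfA' : ∀ g, fA g = Phi' (g, 1) := fun g => rfl
  have hfB' : ∀ g, fB g = Phi' (1, g) := fun g => rfl
  have hcomm : ∀ a ∈ fA.range, ∀ b ∈ fB.range, a * b = b * a := by
    rintro a ⟨g, rfl⟩ b ⟨h, rfl⟩
    rw [hfA', hfB', ← map_mul, ← map_mul]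
    congr 1
    ext <;> simp
  have hdisj : fA.range ⊓ fB.range = ⊥ := by
    rw [eq_bot_iff]
    rintro x ⟨⟨g, hg⟩, ⟨h, hh⟩⟩
    rw [Subgroup.mem_bot]
    have h1 : Phi' (g, 1) = Phi' (1, h) := by rw [← hfA', ← hfB', hg, hh]
    have h2 := Phi'_injective h1
    have h3 : g = 1 := congrArg Prod.fst h2
    rw [← hg, h3, map_one]
  refine ⟨fA.range, fB.range, ⟨(MonoidHom.ofInjective hfAi).symm.trans e3⟩,
    ⟨(MonoidHom.ofInjective hfBi).symm.trans e3⟩, hdisj, hcomm, ?_, tau', ?_⟩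
  · -- the index
    have hsup : fA.range ⊔ fB.range = Phi'.range := by
      apply le_antisymm
      · apply sup_le
        · rintro x ⟨g, rfl⟩
          exact ⟨(g, 1), rfl⟩
        · rintro x ⟨g, rfl⟩
          exact ⟨(1, g), rfl⟩
      · rintro x ⟨⟨g, h⟩, rfl⟩
        have : Phi' (g, h) = fA g * fB h := by
          rw [hfA', hfB', ← map_mul]
          congr 1
          ext <;> simp
        rw [this]
        exact Subgroup.mul_mem _ (Subgroup.mem_sup_left ⟨g, rfl⟩) (Subgroup.mem_sup_right ⟨h, rfl⟩)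
    rw [hsup]
    have hcard : Nat.card Phi'.range = 36 := by
      rw [← Nat.card_congr (MonoidHom.ofInjective Phi'_injective).toEquiv, Nat.card_prod, card_SL2]
    have h1 := Subgroup.card_mul_index Phi'.range
    rw [hcard, card_G4] at h1
    omega
  · -- conjugation by the swap
    ext y
    rw [Subgroup.mem_map]
    constructor
    · rintro ⟨a, ⟨g, rfl⟩, rfl⟩
      refine ⟨(Matrix.SpecialLinearGroup.transpose g)⁻¹, ?_⟩
      rw [hfA', hfB']
      show _ = tau' * Phi' (g, 1) * tau'⁻¹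
      rw [tau'_Phi' g (Matrix.SpecialLinearGroup.transpose g)⁻¹ (by rw [inv_inv]; rfl)]
    · rintro ⟨h, rfl⟩
      refine ⟨fA (Matrix.SpecialLinearGroup.transpose h⁻¹), ⟨_, rfl⟩, ?_⟩
      rw [hfA', hfB']
      show tau' * Phi' (_, 1) * tau'⁻¹ = _
      rw [tau'_Phi' _ h (by
        show ((h⁻¹ : SL2) : M2) = (((h⁻¹ : SL2) : M2)ᵀ)ᵀ
        rw [Matrix.transpose_transpose])]

end two

end Cfsg.Agent.S2566
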