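import Cfsg.Statements.S2567

set_option autoImplicit false
open Cfsg

namespace Cfsg.Agent.S2567

open Matrix

theorem scalar_central {F : Type*} [Field F] {n : ℕ} (u : Fˣ) (g : GL (Fin n) F) :
    Commute g (Matrix.GeneralLinearGroup.scalar (Fin n) u) := by
  have h : Matrix.GeneralLinearGroup.scalar (Fin n) u ∈ Subgroup.center (GL (Fin n) F) := by
    rw [Matrix.GeneralLinearGroup.center_eq_range_scalar]
    exact ⟨u, rfl⟩
  exact (Subgroup.mem_center_iff.mp h g)

theorem result {F : Type*} [Field F] [Fintype F] {q n r : ℕ} (hF : Fintype.card F = q) (hr : r.Prime) (hdiv : ¬ r ∣ q - 1) (x : GL (Fin n) F ⧸ Subgroup.center (GL (Fin n) F)) (hx : orderOf x = r) : ∃! g : GL (Fin n) F, (QuotientGroup.mk g : GL (Fin n) F ⧸ Subgroup.center (GL (Fin n) F)) = x ∧ orderOf g = r := by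
  classical
  have hcard : Nat.card Fˣ = q - 1 := by
    rw [Nat.card_eq_fintype_card, Fintype.card_units, hF]
  have hcop : (Nat.card Fˣ).Coprime r := by
    rw [hcard]
    exact ((Nat.Prime.coprime_iff_not_dvd hr).mpr hdiv).symm
  have hr1 : r ≠ 1 := hr.ne_one
  obtain ⟨g₀, hg₀⟩ := QuotientGroup.mk_surjective x
  -- g₀^r is central
  have hxr : x ^ r = 1 := by rw [← hx]; exact pow_orderOf_eq_one x
  have hg₀r : g₀ ^ r ∈ Subgroup.center (GL (Fin n) F) := by
    rw [← QuotientGroup.eq_one_iff, QuotientGroup.mk_pow, hg₀, hxr]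
  rw [Matrix.GeneralLinearGroup.center_eq_range_scalar] at hg₀r
  obtain ⟨c, hc⟩ := hg₀r
  -- d with d^r = c⁻¹
  obtain ⟨d, hd⟩ := (powCoprime hcop).surjective c⁻¹
  rw [powCoprime_apply] at hd
  have hscal_center : ∀ u : Fˣ, Matrix.GeneralLinearGroup.scalar (Fin n) u ∈ Subgroup.center (GL (Fin n) F) := by
    intro u
    rw [Matrix.GeneralLinearGroup.center_eq_range_scalar]
    exact ⟨u, rfl⟩
  have hmk_scal : ∀ u : Fˣ, (QuotientGroup.mk (Matrix.GeneralLinearGroup.scalar (Fin n) u) : GL (Fin n) F ⧸ Subgroup.center (GL (Fin n) F)) = 1 := by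
    intro u
    rw [QuotientGroup.eq_one_iff]; exact hscal_center u
  refine ⟨g₀ * Matrix.GeneralLinearGroup.scalar (Fin n) d, ⟨?_, ?_⟩, ?_⟩
  · rw [QuotientGroup.mk_mul, hmk_scal, mul_one, hg₀]
  · -- order
    have hpow : (g₀ * Matrix.GeneralLinearGroup.scalar (Fin n) d) ^ r = 1 := by
      rw [(scalar_central d g₀).mul_pow, ← hc, ← map_pow, hd, ← map_mul, mul_inv_cancel, map_one]
    have hdvd : orderOf (g₀ * Matrix.GeneralLinearGroup.scalar (Fin n) d) ∣ r := orderOf_dvd_of_pow_eq_one hpow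
    rcases (Nat.dvd_prime hr).mp hdvd with h1 | h1
    · exfalso
      rw [orderOf_eq_one_iff] at h1
      have : x = 1 := by
        rw [← hg₀]
        have h2 : (QuotientGroup.mk (g₀ * Matrix.GeneralLinearGroup.scalar (Fin n) d) : GL (Fin n) F ⧸ Subgroup.center (GL (Fin n) F)) = 1 := by
          rw [h1]; rfl
        rw [QuotientGroup.mk_mul, hmk_scal, mul_one] at h2
        exact h2
      rw [this, orderOf_one] at hx
      exact hr1 hx.symm
    · exact h1
  · rintro g' ⟨hg'x, hg'r⟩
    -- g' = g₀ * scalar u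
    have h1 : (QuotientGroup.mk g₀ : GL (Fin n) F ⧸ Subgroup.center (GL (Fin n) F)) = QuotientGroup.mk g' := by
      rw [hg₀, hg'x]
    rw [QuotientGroup.eq] at h1
    rw [Matrix.GeneralLinearGroup.center_eq_range_scalar] at h1
    obtain ⟨u, hu⟩ := h1
    have hg' : g' = g₀ * Matrix.GeneralLinearGroup.scalar (Fin n) u := by
      rw [hu]; group
    rw [hg']
    congr 1
    -- u = d: both have r-th power c⁻¹
    have hpow' : (g₀ * Matrix.GeneralLinearGroup.scalar (Fin n) u) ^ r = 1 := by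
      rw [← hg', ← hg'r]; exact pow_orderOf_eq_one g'
    rw [(scalar_central u g₀).mul_pow, ← hc, ← map_pow, ← map_mul] at hpow'
    by_cases hn : n = 0
    · subst hn
      exact Subsingleton.elim _ _
    · haveI : Nonempty (Fin n) := ⟨⟨0, Nat.pos_of_ne_zero hn⟩⟩
      have h3 : c * u ^ r = 1 := by
        have h4 := congrArg (fun g : GL (Fin n) F => (g : Matrix (Fin n) (Fin n) F)) hpow'
        simp only [Matrix.GeneralLinearGroup.coe_scalar, Units.val_one] at h4
        rw [← map_one (Matrix.scalar (Fin n)), Matrix.scalar_inj] at h4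
        exact Units.ext h4
      have h5 : u ^ r = d ^ r := by
        rw [hd]; exact (eq_inv_of_mul_eq_one_right h3)
      have := (powCoprime hcop).injective (a₁ := u) (a₂ := d) (by simpa [powCoprime_apply] using h5)
      rw [this]

end Cfsg.Agent.S2567
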