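import Cfsg.Statements.S2569

set_option autoImplicit false
open Cfsg
open Polynomial Module

namespace Cfsg.Agent.S2569

section key
variable {F : Type*} [Field F] {V : Type*} [AddCommGroup V] [Module F V]

theorem aeval_restrict_apply (T : Module.End F V) (W : Submodule F V) (hW : ∀ v ∈ W, T v ∈ W)
    (p : F[X]) : ∀ v : W, ((aeval (T.restrict hW) p) v : V) = aeval T p (v : V) := by
  induction p using Polynomial.induction_on with
  | C a =>
    intro v
    simp
  | add p q hp hq =>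
    intro v
    simp [hp, hq]
  | monomial n a ih =>
    intro v
    have h1 : aeval (T.restrict hW) (C a * X ^ (n + 1)) =
        aeval (T.restrict hW) (C a * X ^ n) * T.restrict hW := by
      rw [pow_succ, ← mul_assoc, map_mul, aeval_X]
    have h2 : aeval T (C a * X ^ (n + 1)) = aeval T (C a * X ^ n) * T := by
      rw [pow_succ, ← mul_assoc, map_mul, aeval_X]
    rw [h1, h2, Module.End.mul_apply, Module.End.mul_apply, ih]
    rfl

end key

end Cfsg.Agent.S2569

namespace Cfsg.Agent.S2569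
section key2
variable {F : Type*} [Field F] [Finite F] {V : Type*} [AddCommGroup V] [Module F V]
  [FiniteDimensional F V]

theorem exists_commute_det [Nontrivial V] (T : Module.End F V) (N : ℕ) (hN : (N : F) ≠ 0)
    (hT : T ^ N = 1) (c : F) : ∃ S : Module.End F V, Commute S T ∧ LinearMap.det S = c := by
  classical
  have hint : IsIntegral F T := Algebra.IsIntegral.isIntegral T
  set μ := minpoly F T with hμ
  have hμ_dvd : μ ∣ X ^ N - 1 := minpoly.dvd F T (by simp [hT])
  have hsep : μ.Separable := (X_pow_sub_one_separable_iff.mpr hN).of_dvd hμ_dvd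
  have hsqf : Squarefree μ := hsep.squarefree
  have hμ0 : μ ≠ 0 := minpoly.ne_zero hint
  have hμu : ¬ IsUnit μ := minpoly.not_isUnit F T
  obtain ⟨f, hf, hfμ⟩ := WfDvdMonoid.exists_irreducible_factor hμu hμ0
  obtain ⟨g₁, hg₁⟩ := hfμ
  have hcop : IsCoprime f g₁ := by
    rw [hf.coprime_iff_not_dvd]
    rintro ⟨r, hr⟩
    have : f * f ∣ μ := ⟨r, by rw [hg₁, hr]; ring⟩
    exact hf.not_isUnit (hsqf f this)
  have hg₁0 : g₁ ≠ 0 := by
    rintro rfl
    rw [mul_zero] at hg₁
    exact hμ0 hg₁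
  set V₁ := LinearMap.ker (aeval T f) with hV₁
  set V₂ := LinearMap.ker (aeval T g₁) with hV₂
  have hcompl : IsCompl V₁ V₂ := by
    constructor
    · exact disjoint_ker_aeval_of_isCoprime T hcop
    · rw [codisjoint_iff, sup_ker_aeval_eq_ker_aeval_mul_of_coprime T hcop, ← hg₁, hμ,
        minpoly.aeval, LinearMap.ker_zero]
  have hV₁ne : V₁ ≠ ⊥ := by
    intro h0
    have h2 : V₂ = ⊤ := by
      have := hcompl.sup_eq_top
      rwa [h0, bot_sup_eq] at this
    have h3 : aeval T g₁ = 0 := by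
      apply LinearMap.ext
      intro v
      have : v ∈ V₂ := by rw [h2]; trivial
      exact this
    have h4 : μ ∣ g₁ := minpoly.dvd F T h3
    rw [hg₁] at h4
    have h5 : f * g₁ ∣ 1 * g₁ := by rwa [one_mul]
    have h6 : f ∣ 1 := (mul_dvd_mul_iff_right hg₁0).mp h5
    exact hf.not_isUnit (isUnit_of_dvd_one h6)
  -- invariance
  have hcomm : ∀ r : F[X], aeval T r * T = T * aeval T r := by
    intro r
    have := congrArg (aeval T) (mul_comm r X)
    rwa [map_mul, map_mul, aeval_X] at this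
  have hinv₁ : ∀ v ∈ V₁, T v ∈ V₁ := by
    intro v hv
    rw [hV₁, LinearMap.mem_ker] at hv ⊢
    rw [← Module.End.mul_apply, hcomm, Module.End.mul_apply, hv, map_zero]
  have hinv₂ : ∀ v ∈ V₂, T v ∈ V₂ := by
    intro v hv
    rw [hV₂, LinearMap.mem_ker] at hv ⊢
    rw [← Module.End.mul_apply, hcomm, Module.End.mul_apply, hv, map_zero]
  set T₁ : Module.End F V₁ := T.restrict hinv₁ with hT₁
  have hf₁ : aeval T₁ f = 0 := by
    apply LinearMap.ext
    intro v
    apply Subtype.ext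
    rw [aeval_restrict_apply]
    exact v.2
  haveI : Fact (Irreducible f) := ⟨hf⟩
  let ρ : AdjoinRoot f →ₐ[F] Module.End F V₁ :=
    Ideal.Quotient.liftₐ (Ideal.span {f}) (aeval T₁) (by
      intro a ha
      obtain ⟨b, rfl⟩ := Ideal.mem_span_singleton.mp ha
      rw [map_mul, hf₁, zero_mul])
  have hρroot : ρ (AdjoinRoot.root f) = T₁ := by
    have h1 : ρ (AdjoinRoot.mk f X) = aeval T₁ X := rfl
    exact h1.trans (aeval_X T₁)
  letI instM : Module (AdjoinRoot f) V₁ := Module.compHom V₁ (ρ : AdjoinRoot f →+* Module.End F V₁)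
  have hsmul : ∀ (l : AdjoinRoot f) (v : V₁), l • v = ρ l v := fun l v => rfl
  haveI : IsScalarTower F (AdjoinRoot f) V₁ := ⟨fun a l v => by
    rw [hsmul, hsmul, map_smul, LinearMap.smul_apply]⟩
  haveI : Finite V := Module.finite_of_finite F
  haveI : Finite V₁ := inferInstance
  haveI : Module.Finite (AdjoinRoot f) V₁ := Module.Finite.of_finite
  haveI : Module.Finite F (AdjoinRoot f) := (AdjoinRoot.powerBasis hf.ne_zero).finite
  haveI : Finite (AdjoinRoot f) := Module.finite_of_finite F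
  haveI : Nontrivial V₁ := (Submodule.nontrivial_iff_ne_bot).mpr hV₁ne
  have hpos : 0 < finrank (AdjoinRoot f) V₁ := Module.finrank_pos
  obtain ⟨l, hl⟩ := FiniteField.norm_surjective F (AdjoinRoot f) c
  let b := Module.finBasis (AdjoinRoot f) V₁
  let i₀ : Fin (finrank (AdjoinRoot f) V₁) := ⟨0, hpos⟩
  let S₁ : V₁ →ₗ[AdjoinRoot f] V₁ :=
    Matrix.toLin b b (Matrix.diagonal (fun i => if i = i₀ then l else 1))
  have hdet₁ : LinearMap.det S₁ = l := by
    rw [LinearMap.det_toLin, Matrix.det_diagonal, Finset.prod_ite_eq']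
    simp
  let S₁F : V₁ →ₗ[F] V₁ := S₁.restrictScalars F
  have hdetF : LinearMap.det S₁F = c := by
    rw [LinearMap.det_restrictScalars, hdet₁, hl]
  have hcomm₁ : ∀ v : V₁, S₁F (T₁ v) = T₁ (S₁F v) := by
    intro v
    have h1 : ∀ w : V₁, T₁ w = (AdjoinRoot.root f) • w := by
      intro w
      rw [hsmul, hρroot]
    rw [h1, h1]
    exact S₁.map_smul _ _
  let S : Module.End F V := LinearMap.ofIsCompl hcompl (V₁.subtype ∘ₗ S₁F) V₂.subtype
  have hS₁ : ∀ v : V₁, S (v : V) = (S₁F v : V) := fun v =>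
    LinearMap.ofIsCompl_left_apply hcompl v
  have hS₂ : ∀ v : V₂, S (v : V) = (v : V) := fun v =>
    LinearMap.ofIsCompl_right_apply hcompl v
  refine ⟨S, ?_, ?_⟩
  · show S * T = T * S
    apply LinearMap.ext
    intro v
    have hv : v ∈ V₁ ⊔ V₂ := by rw [hcompl.sup_eq_top]; trivial
    obtain ⟨v₁, hv₁, v₂, hv₂, rfl⟩ := Submodule.mem_sup.mp hv
    rw [Module.End.mul_apply, Module.End.mul_apply, map_add, map_add, map_add, map_add]
    congr 1
    · have e1 : T v₁ = ((T₁ ⟨v₁, hv₁⟩ : V₁) : V) := rfl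
      rw [e1, hS₁, hcomm₁, hS₁ ⟨v₁, hv₁⟩]
      rfl
    · have e2 : T v₂ = ((⟨T v₂, hinv₂ v₂ hv₂⟩ : V₂) : V) := rfl
      rw [e2, hS₂, hS₂ ⟨v₂, hv₂⟩]
  · let e := Submodule.prodEquivOfIsCompl V₁ V₂ hcompl
    have hSe : S = (e : (V₁ × V₂) →ₗ[F] V) ∘ₗ (S₁F.prodMap LinearMap.id) ∘ₗ (e.symm : V →ₗ[F] (V₁ × V₂)) := by
      apply LinearMap.ext
      intro v
      obtain ⟨⟨v₁, v₂⟩, rfl⟩ := e.surjective v
      rw [LinearMap.comp_apply, LinearMap.comp_apply, LinearEquiv.coe_coe, LinearEquiv.coe_coe,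
        LinearEquiv.symm_apply_apply, LinearMap.prodMap_apply, LinearMap.id_apply]
      show S (e (v₁, v₂)) = e (S₁F v₁, v₂)
      rw [Submodule.coe_prodEquivOfIsCompl', Submodule.coe_prodEquivOfIsCompl', map_add, hS₁, hS₂]
    rw [hSe, LinearMap.det_conj, LinearMap.det_prodMap, LinearMap.det_id, mul_one, hdetF]

end key2
end Cfsg.Agent.S2569

namespace Cfsg.Agent.S2569

theorem result {F : Type*} [Field F] [Fintype F] {p : ℕ} [Fact p.Prime] [CharP F p] {n : ℕ} (x g : GL (Fin n) F) (hx : (orderOf x).Coprime p) : ∃ h : GL (Fin n) F, (h : Matrix (Fin n) (Fin n) F).det = 1 ∧ h * x * h⁻¹ = g * x * g⁻¹ := by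
  classical
  rcases Nat.eq_zero_or_pos n with rfl | hn
  · exact ⟨g, Matrix.det_isEmpty, rfl⟩
  · haveI : Nonempty (Fin n) := ⟨⟨0, hn⟩⟩
    haveI : Nontrivial (Fin n → F) := Function.nontrivial
    have hNF : ((orderOf x : ℕ) : F) ≠ 0 := by
      rw [Ne, CharP.cast_eq_zero_iff F p]
      intro hdvd
      have h1 : p = 1 := hx.symm.eq_one_of_dvd hdvd
      exact (Fact.out : p.Prime).one_lt.ne' h1
    let T : Module.End F (Fin n → F) := Matrix.toLinAlgEquiv' (x : Matrix (Fin n) (Fin n) F)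
    have hT : T ^ orderOf x = 1 := by
      rw [← map_pow, ← Units.val_pow_eq_pow_val, pow_orderOf_eq_one, Units.val_one, map_one]
    have hg0 : (g : Matrix (Fin n) (Fin n) F).det ≠ 0 := (Matrix.isUnits_det_units g).ne_zero
    obtain ⟨S, hST, hSdet⟩ := exists_commute_det T (orderOf x) hNF hT
      ((g : Matrix (Fin n) (Fin n) F).det)⁻¹
    set z : Matrix (Fin n) (Fin n) F := Matrix.toLinAlgEquiv'.symm S with hz
    have hzS : Matrix.toLinAlgEquiv' z = S := by rw [hz, AlgEquiv.apply_symm_apply]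
    have hzdet : z.det = ((g : Matrix (Fin n) (Fin n) F).det)⁻¹ := by
      rw [← hSdet, ← hzS]
      exact (LinearMap.det_toLin' z).symm
    have hzx : z * (x : Matrix (Fin n) (Fin n) F) = (x : Matrix (Fin n) (Fin n) F) * z := by
      apply Matrix.toLinAlgEquiv'.injective
      rw [map_mul, map_mul, hzS]
      exact hST
    have hz0 : z.det ≠ 0 := by rw [hzdet]; exact inv_ne_zero hg0
    set zGL : GL (Fin n) F := Matrix.GeneralLinearGroup.mkOfDetNeZero z hz0 with hzGL
    have hzGLx : zGL * x = x * zGL := by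
      apply Units.ext
      rw [Units.val_mul, Units.val_mul]
      exact hzx
    refine ⟨g * zGL, ?_, ?_⟩
    · rw [Units.val_mul, Matrix.det_mul]
      show (g : Matrix (Fin n) (Fin n) F).det * z.det = 1
      rw [hzdet, mul_inv_cancel₀ hg0]
    · calc g * zGL * x * (g * zGL)⁻¹ = g * (zGL * x) * zGL⁻¹ * g⁻¹ := by group
        _ = g * (x * zGL) * zGL⁻¹ * g⁻¹ := by rw [hzGLx]
        _ = g * x * g⁻¹ := by group

end Cfsg.Agent.S2569
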