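import Cfsg.Statements.S2574
import Cfsg.Agent.Lib.H13.RegUnip

set_option autoImplicit false
open Cfsg

namespace Cfsg.Agent.S2574

open Cfsg.Agent.Lib.H13 Matrix

section
variable {F : Type*} [Field F] {m : ℕ}

theorem form_preserved (A : Matrix (Fin m ⊕ Fin m) (Fin m ⊕ Fin m) F) (hA : A ∈ Matrix.symplecticGroup (Fin m) F)
    (x y : Fin m ⊕ Fin m → F) : Cfsg.sympForm m F (A *ᵥ x) (A *ᵥ y) = Cfsg.sympForm m F x y := by
  unfold Cfsg.sympForm
  have h := SymplecticGroup.mem_iff'.mp hA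
  rw [← Matrix.vecMul_transpose, ← Matrix.dotProduct_mulVec, Matrix.mulVec_mulVec, Matrix.mulVec_mulVec, h]

theorem form_sub_left (x x' y : Fin m ⊕ Fin m → F) :
    Cfsg.sympForm m F (x - x') y = Cfsg.sympForm m F x y - Cfsg.sympForm m F x' y := by
  unfold Cfsg.sympForm
  rw [sub_dotProduct]

theorem form_sub_right (x y y' : Fin m ⊕ Fin m → F) :
    Cfsg.sympForm m F x (y - y') = Cfsg.sympForm m F x y - Cfsg.sympForm m F x y' := by
  unfold Cfsg.sympForm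
  rw [Matrix.mulVec_sub, dotProduct_sub]

theorem form_zero_right (x : Fin m ⊕ Fin m → F) : Cfsg.sympForm m F x 0 = 0 := by
  unfold Cfsg.sympForm
  simp

/-- key identity: `f(Nx, y) = -f(Ax, Ny)` for `N = A - 1` -/
theorem key (A : Matrix (Fin m ⊕ Fin m) (Fin m ⊕ Fin m) F) (hA : A ∈ Matrix.symplecticGroup (Fin m) F)
    (x y : Fin m ⊕ Fin m → F) :
    Cfsg.sympForm m F ((A - 1) *ᵥ x) y = - Cfsg.sympForm m F (A *ᵥ x) ((A - 1) *ᵥ y) := by
  rw [Matrix.sub_mulVec, Matrix.sub_mulVec, Matrix.one_mulVec, Matrix.one_mulVec, form_sub_left, form_sub_right,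
    form_preserved A hA]
  ring

theorem vanish (A : Matrix (Fin m ⊕ Fin m) (Fin m ⊕ Fin m) F) (hA : A ∈ Matrix.symplecticGroup (Fin m) F) :
    ∀ (k : ℕ) (x y : Fin m ⊕ Fin m → F), ((A - 1) ^ k) *ᵥ y = 0 →
      Cfsg.sympForm m F (((A - 1) ^ k) *ᵥ x) y = 0 := by
  intro k
  induction k with
  | zero =>
    intro x y hy
    simp only [pow_zero, Matrix.one_mulVec] at hy ⊢
    rw [hy, form_zero_right]
  | succ k ih =>
    intro x y hy
    have hcomm : Commute A (A - 1) := (Commute.refl A).sub_right (Commute.one_right A)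
    have hcommk : Commute A ((A - 1) ^ k) := hcomm.pow_right k
    -- (A-1)^(k+1) x = (A-1) ((A-1)^k x)
    have h1 : ((A - 1) ^ (k + 1)) *ᵥ x = (A - 1) *ᵥ (((A - 1) ^ k) *ᵥ x) := by
      rw [Matrix.mulVec_mulVec, ← pow_succ']
    rw [h1, key A hA, Matrix.mulVec_mulVec, hcommk.eq, ← Matrix.mulVec_mulVec]
    have h2 : ((A - 1) ^ k) *ᵥ ((A - 1) *ᵥ y) = 0 := by
      rw [Matrix.mulVec_mulVec, ← pow_succ]; exact hy
    rw [ih (A *ᵥ x) ((A - 1) *ᵥ y) h2, neg_zero]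

end

theorem result {F : Type*} [Field F] [Finite F] {m : ℕ} (u : Matrix.symplecticGroup (Fin m) F) (hnil : ((u : Matrix (Fin m ⊕ Fin m) (Fin m ⊕ Fin m) F) - 1) ^ (2 * m) = 0) (hreg : ((u : Matrix (Fin m ⊕ Fin m) (Fin m ⊕ Fin m) F) - 1).rank = 2 * m - 1) (W : Submodule F (Fin m ⊕ Fin m → F)) (hW : ∀ v ∈ W, (u : Matrix (Fin m ⊕ Fin m) (Fin m ⊕ Fin m) F).mulVec v ∈ W) (hdim : 2 * Module.finrank F W ≤ 2 * m) : ∀ v ∈ W, ∀ w ∈ W, Cfsg.sympForm m F v w = 0 := by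
  set A : Matrix (Fin m ⊕ Fin m) (Fin m ⊕ Fin m) F := (u : Matrix (Fin m ⊕ Fin m) (Fin m ⊕ Fin m) F) with hA
  have hAmem : A ∈ Matrix.symplecticGroup (Fin m) F := u.2
  have hcard : Fintype.card (Fin m ⊕ Fin m) = 2 * m := by simp; ring
  set d := Module.finrank F W with hd
  have hdm : d ≤ m := by omega
  have hWN : ∀ v ∈ W, (A - 1).mulVec v ∈ W := by
    intro v hv
    rw [Matrix.sub_mulVec, Matrix.one_mulVec]
    exact W.sub_mem (hW v hv) hv
  have hWker : W = LinearMap.ker (Matrix.mulVecLin ((A - 1) ^ d)) :=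
    regular_invariant' (A - 1) (by rw [hcard]; exact hnil) (by rw [hcard]; exact hreg) W hWN
  have hrange := regular_ker_eq_range (A - 1) (by rw [hcard]; exact hnil) (by rw [hcard]; exact hreg) d
    (by rw [hcard]; omega)
  rw [hcard] at hrange
  intro v hv w hw
  rw [hWker, hrange] at hv
  obtain ⟨v', rfl⟩ := hv
  rw [Matrix.mulVecLin_apply]
  apply vanish A hAmem
  rw [hWker, LinearMap.mem_ker, Matrix.mulVecLin_apply] at hw
  have : 2 * m - d = (2 * m - d - d) + d := by omega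
  rw [this, pow_add, ← Matrix.mulVec_mulVec, hw, Matrix.mulVec_zero]

end Cfsg.Agent.S2574
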