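import Cfsg.Statements.S2575

set_option autoImplicit false
open Cfsg

namespace Cfsg.Agent.S2575

theorem neg_one_ne_one {F : Type*} [Field F] [Fintype F] (hq : Odd (Fintype.card F)) : (-1 : F) ≠ 1 := by
  apply Ring.neg_one_ne_one_of_char_ne_two
  intro h
  have := FiniteField.even_card_of_char_two h
  rcases hq with ⟨k, hk⟩
  omega

theorem eq_neg_one_of_sq {F : Type*} [Field F] (x : F) (h1 : x ^ 2 = 1) (h2 : x ≠ 1) : x = -1 := by
  have : (x - 1) * (x + 1) = 0 := by ring_nf; rw [h1]; ring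
  rcases mul_eq_zero.mp this with h | h
  · exact absurd (sub_eq_zero.mp h) h2
  · exact eq_neg_of_add_eq_zero_left h

/-- `-1` is an `n`-th power in a finite field of odd order iff `v₂(n) < v₂(q-1)`. -/
theorem neg_one_pow_iff {F : Type*} [Field F] [Fintype F] (hq : Odd (Fintype.card F)) {n : ℕ} (hn : 1 ≤ n) :
    (∃ c : F, c ≠ 0 ∧ c ^ n = -1) ↔ padicValNat 2 n < padicValNat 2 (Fintype.card F - 1) := by
  classical
  have hq2 : 2 ≤ Fintype.card F := Fintype.one_lt_card
  have hN0 : Fintype.card F - 1 ≠ 0 := by omega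
  have hn0 : n ≠ 0 := by omega
  haveI : Fact (Nat.Prime 2) := ⟨Nat.prime_two⟩
  constructor
  · rintro ⟨c, hc0, hc⟩
    by_contra hlt
    push Not at hlt
    -- 2^a ∣ n
    set a := padicValNat 2 (Fintype.card F - 1) with ha
    have h2a : 2 ^ a ∣ n := (padicValNat_dvd_iff_le hn0).mpr hlt
    have h2aN : 2 ^ a ∣ Fintype.card F - 1 := pow_padicValNat_dvd
    obtain ⟨N', hN'⟩ := h2aN
    have hN'odd : Odd N' := by
      rw [← Nat.not_even_iff_odd]
      rintro ⟨t, ht⟩
      have : 2 ^ (a + 1) ∣ Fintype.card F - 1 := by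
        rw [hN', ht, pow_succ]; exact ⟨t, by ring⟩
      have := (padicValNat_dvd_iff_le hN0).mp this
      omega
    obtain ⟨n1, hn1⟩ := h2a
    have h1 : (c ^ n) ^ N' = 1 := by
      rw [← pow_mul, hn1]
      have : 2 ^ a * n1 * N' = (Fintype.card F - 1) * n1 := by rw [hN']; ring
      rw [this, pow_mul, FiniteField.pow_card_sub_one_eq_one c hc0, one_pow]
    rw [hc, Odd.neg_one_pow hN'odd] at h1
    exact neg_one_ne_one hq h1
  · intro hlt
    set b := padicValNat 2 n with hb
    have hdvd : 2 ^ (b + 1) ∣ Fintype.card F - 1 := (padicValNat_dvd_iff_le hN0).mpr hlt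
    -- element of order 2^(b+1)
    obtain ⟨γ, hγ⟩ := IsCyclic.exists_ofOrder_eq_natCard (α := Fˣ)
    have hcard : Nat.card Fˣ = Fintype.card F - 1 := by
      rw [Nat.card_eq_fintype_card, Fintype.card_units]
    rw [hcard] at hγ
    have hζ : orderOf (γ ^ (orderOf γ / 2 ^ (b + 1))) = 2 ^ (b + 1) :=
      orderOf_pow_orderOf_div (by rw [hγ]; exact hN0) (by rw [hγ]; exact hdvd)
    set ζ := γ ^ (orderOf γ / 2 ^ (b + 1)) with hζdef
    refine ⟨(ζ : F), Units.ne_zero ζ, ?_⟩
    apply eq_neg_one_of_sq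
    · have h2n : 2 ^ (b + 1) ∣ n * 2 := by
        have : 2 ^ b ∣ n := pow_padicValNat_dvd
        rw [pow_succ]; exact Nat.mul_dvd_mul this dvd_rfl
      have : ζ ^ (n * 2) = 1 := by
        rw [← orderOf_dvd_iff_pow_eq_one, hζ]; exact h2n
      rw [← pow_mul, ← Units.val_pow_eq_pow_val, this, Units.val_one]
    · intro h
      have h1 : ζ ^ n = 1 := by
        apply Units.ext
        rw [Units.val_pow_eq_pow_val, h, Units.val_one]
      rw [← orderOf_dvd_iff_pow_eq_one, hζ] at h1
      have := (padicValNat_dvd_iff_le hn0).mp h1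
      omega

theorem result {F : Type*} [Field F] [Fintype F] {q : ℕ} (hF : Fintype.card F = q) (hq : Odd q) {n : ℕ} (hn : 1 ≤ n) (i : ℕ) (hi : i ≤ n) : (∃ c : F, c ≠ 0 ∧ (c • Matrix.diagonal (fun j : Fin n => if (j : ℕ) < i then (-1 : F) else 1)).det = 1) ↔ (Even i ∨ padicValNat 2 n < padicValNat 2 (q - 1)) := by
  subst hF
  have hdet : ∀ c : F, (c • Matrix.diagonal (fun j : Fin n => if (j : ℕ) < i then (-1 : F) else 1)).det = c ^ n * (-1) ^ i := by
    intro c
    rw [Matrix.det_smul, Matrix.det_diagonal, Fintype.card_fin, Finset.prod_ite, Finset.prod_const_one, mul_one,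
      Finset.prod_const]
    congr 2
    have := Fin.card_filter_val_lt (n := n) (m := i)
    rw [this]; omega
  simp only [hdet]
  rw [← neg_one_pow_iff hq hn]
  constructor
  · rintro ⟨c, hc0, hc⟩
    by_cases hi2 : Even i
    · exact Or.inl hi2
    · right
      rw [Nat.not_even_iff_odd] at hi2
      rw [Odd.neg_one_pow hi2] at hc
      refine ⟨c, hc0, ?_⟩
      have : c ^ n * -1 = 1 := hc
      linear_combination -this
  · rintro (hi2 | ⟨c, hc0, hc⟩)
    · exact ⟨1, one_ne_zero, by rw [Even.neg_one_pow hi2]; simp⟩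
    · by_cases hi2 : Even i
      · exact ⟨1, one_ne_zero, by rw [Even.neg_one_pow hi2]; simp⟩
      · rw [Nat.not_even_iff_odd] at hi2
        refine ⟨c, hc0, ?_⟩
        rw [Odd.neg_one_pow hi2, hc]; simp

end Cfsg.Agent.S2575
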