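import Cfsg.Statements.S2576

set_option autoImplicit false
open Cfsg

namespace Cfsg.Agent.S2576

theorem neg_one_ne_one {F : Type*} [Field F] [Fintype F] (hq : Odd (Fintype.card F)) : (-1 : F) ≠ 1 := by
  apply Ring.neg_one_ne_one_of_char_ne_two
  intro h
  have := FiniteField.even_card_of_char_two h
  rcases hq with ⟨k, hk⟩
  omega

theorem eq_neg_one_of_sq {F : Type*} [Field F] (x : F) (h1 : x ^ 2 = 1) (h2 : x ≠ 1) : x = -1 := by
  have : (x - 1) * (x + 1) = 0 := by ring_nf; rw [h1]; ring
  rcases mul_eq_zero.mp this with h | h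
  · exact absurd (sub_eq_zero.mp h) h2
  · exact eq_neg_of_add_eq_zero_left h

/-- an element of order `2^a`, `a ≥ 1`, has `μ^(2^(a-1)) = -1`. -/
theorem pow_half {F : Type*} [Field F] (μ : F) (a : ℕ) (ha : 1 ≤ a) (hμ : orderOf μ = 2 ^ a) :
    μ ^ 2 ^ (a - 1) = -1 := by
  apply eq_neg_one_of_sq
  · rw [← pow_mul, ← pow_succ]
    have : a - 1 + 1 = a := by omega
    rw [this, ← hμ]; exact pow_orderOf_eq_one μ
  · intro h
    have := orderOf_dvd_of_pow_eq_one h
    rw [hμ] at this
    have h2 := (Nat.pow_dvd_pow_iff_le_right (by norm_num : 1 < 2)).mp this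
    omega

theorem core {F : Type*} [Field F] [Fintype F] (hq : Odd (Fintype.card F)) {m : ℕ} (hm : 1 ≤ m) (μ : F)
    (hμ : orderOf μ = 2 ^ padicValNat 2 (Fintype.card F - 1)) :
    (∃ c : F, c ≠ 0 ∧ c ^ (2 * m) * (-μ) ^ m = 1) ↔
      (Fintype.card F % 4 = 3 ∨ padicValNat 2 (Fintype.card F - 1) < padicValNat 2 (2 * m)) := by
  classical
  haveI : Fact (Nat.Prime 2) := ⟨Nat.prime_two⟩
  have hq2 : 2 ≤ Fintype.card F := Fintype.one_lt_card
  have hN0 : Fintype.card F - 1 ≠ 0 := by omega
  have hm0 : m ≠ 0 := by omega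
  set N := Fintype.card F - 1 with hN
  set a := padicValNat 2 N with ha
  have hv2m : padicValNat 2 (2 * m) = padicValNat 2 m + 1 := by
    rw [padicValNat.mul (by norm_num) hm0, padicValNat_self]; ring
  have hNeven : 2 ∣ N := by
    rcases hq with ⟨k, hk⟩
    exact ⟨k, by omega⟩
  have ha1 : 1 ≤ a := by
    have : 2 ^ 1 ∣ N := by simpa using hNeven
    exact (padicValNat_dvd_iff_le hN0).mp this
  by_cases h43 : Fintype.card F % 4 = 3
  · -- a = 1, μ = -1
    have ha_eq : a = 1 := by
      by_contra hne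
      have h2 : 2 ≤ a := by omega
      have : 2 ^ 2 ∣ N := (padicValNat_dvd_iff_le hN0).mpr h2
      obtain ⟨t, ht⟩ := this
      omega
    have hμ1 : μ = -1 := by
      have := pow_half μ a ha1 hμ
      rw [ha_eq] at this
      simpa using this
    constructor
    · intro _; exact Or.inl h43
    · intro _
      refine ⟨1, one_ne_zero, ?_⟩
      rw [hμ1]; simp
  · have h41 : Fintype.card F % 4 = 1 := by
      rcases hq with ⟨k, hk⟩
      omega
    have ha2 : 2 ≤ a := by
      have : 2 ^ 2 ∣ N := by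
        refine ⟨Fintype.card F / 4, ?_⟩
        omega
      exact (padicValNat_dvd_iff_le hN0).mp this
    -- ν = -μ has order 2^a
    have hhalf := pow_half μ a ha1 hμ
    have hν_half : (-μ) ^ 2 ^ (a - 1) = -1 := by
      rw [neg_pow, hhalf]
      have : Even (2 ^ (a - 1)) := by
        have : a - 1 ≠ 0 := by omega
        exact (Nat.even_pow' this).mpr even_two
      rw [Even.neg_one_pow this, one_mul]
    have hν_full : (-μ) ^ 2 ^ (a - 1 + 1) = 1 := by
      rw [pow_succ, pow_mul, hν_half]; norm_num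
    have hν_ord : orderOf (-μ) = 2 ^ (a - 1 + 1) :=
      orderOf_eq_prime_pow (by rw [hν_half]; exact neg_one_ne_one hq) hν_full
    have haa : a - 1 + 1 = a := by omega
    rw [haa] at hν_ord
    constructor
    · rintro ⟨c, hc0, hc⟩
      right
      rw [hv2m]
      by_contra hlt
      push Not at hlt
      set b := padicValNat 2 m with hb
      have hb1 : b + 1 ≤ a := by omega
      have hdvd : 2 ^ (b + 1) ∣ N := (padicValNat_dvd_iff_le hN0).mpr hb1
      have hbm : 2 ^ b ∣ m := pow_padicValNat_dvd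
      obtain ⟨m', hm'⟩ := hbm
      obtain ⟨E, hE⟩ := hdvd
      have hE0 : E ≠ 0 := by
        rintro rfl
        simp at hE
        exact hN0 hE
      have h1 : (c ^ (2 * m)) ^ E = 1 := by
        rw [← pow_mul]
        have : 2 * m * E = N * m' := by rw [hE, hm', pow_succ]; ring
        rw [this, pow_mul, FiniteField.pow_card_sub_one_eq_one c hc0, one_pow]
      have h2 : ((-μ) ^ m) ^ E = 1 := by
        have := congrArg (· ^ E) hc
        simp only [mul_pow, one_pow, h1, one_mul] at this
        exact this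
      rw [← pow_mul] at h2
      have h3 := orderOf_dvd_of_pow_eq_one h2
      rw [hν_ord] at h3
      have hmE0 : m * E ≠ 0 := mul_ne_zero hm0 hE0
      have h4 := (padicValNat_dvd_iff_le hmE0).mp h3
      rw [padicValNat.mul hm0 hE0] at h4
      have h5 : padicValNat 2 E = a - (b + 1) := by
        have : E = N / 2 ^ (b + 1) := by
          rw [hE]; exact (Nat.mul_div_cancel_left E (by positivity)).symm
        rw [this, padicValNat.div_pow ⟨E, hE⟩]
      omega
    · rintro (h | h)
      · exact absurd h h43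
      · rw [hv2m] at h
        have : 2 ^ a ∣ m := (padicValNat_dvd_iff_le hm0).mpr (by omega)
        refine ⟨1, one_ne_zero, ?_⟩
        rw [one_pow, one_mul, ← orderOf_dvd_iff_pow_eq_one, hν_ord]
        exact this

theorem result {F : Type*} [Field F] [Fintype F] {q : ℕ} (hF : Fintype.card F = q) (hq : Odd q) {m : ℕ} (hm : 1 ≤ m) (μ : F) (hμ : orderOf μ = 2 ^ padicValNat 2 (q - 1)) : (∃ c : F, c ≠ 0 ∧ (c • Matrix.blockDiagonal (fun _ : Fin m => !![(0 : F), 1; μ, 0])).det = 1) ↔ (q % 4 = 3 ∨ padicValNat 2 (q - 1) < padicValNat 2 (2 * m)) := by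
  subst hF
  have hdet : ∀ c : F, (c • Matrix.blockDiagonal (fun _ : Fin m => !![(0 : F), 1; μ, 0])).det = c ^ (2 * m) * (-μ) ^ m := by
    intro c
    rw [Matrix.det_smul, Matrix.det_blockDiagonal]
    simp [Matrix.det_fin_two_of]
  simp only [hdet]
  exact core hq hm μ hμ

end Cfsg.Agent.S2576
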