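import Cfsg.Statements.S2582
import Cfsg.Agent.Lib.H11.SpType2

set_option autoImplicit false
open Cfsg

namespace Cfsg.Agent.S2582

open Matrix Cfsg.Agent.Lib.H11.Jordan

theorem count_map_univ {t : ℕ} (d : Fin t → ℕ) (j : ℕ) :
    Multiset.count j (Multiset.map d Finset.univ.val) =
      (Finset.univ.filter (fun k : Fin t => d k = j)).card := by
  classical
  rw [Multiset.count_map, Finset.card_def, Finset.filter_val]
  congr 1
  apply Multiset.filter_congr
  intro x _
  exact eq_comm

/-- Which unipotent Jordan types occur in the finite symplectic group: over a finite field, a unipotent matrix with Jordan block sizes d_1, …, d_t (sum 2m, all at least 1) is similar to an element of Sp_2m(F) if and only if every odd block size occurs an even number of times. -/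
theorem result {F : Type*} [Field F] [Fintype F] {m t : ℕ} (d : Fin t → ℕ) (hd : ∀ k, 1 ≤ d k) (hsum : ∑ k, d k = 2 * m) : (∃ e : ((k : Fin t) × Fin (d k)) ≃ (Fin m ⊕ Fin m), ∃ A : Matrix.symplecticGroup (Fin m) F, IsConj (Matrix.reindex e e (Cfsg.jordanTypeMatrix d F)) (A : Matrix (Fin m ⊕ Fin m) (Fin m ⊕ Fin m) F)) ↔ ∀ j : ℕ, Odd j → Even (Finset.univ.filter (fun k : Fin t => d k = j)).card := by
  classical
  have hpos : ∀ a ∈ Multiset.map d Finset.univ.val, 0 < a := by
    intro a ha
    rw [Multiset.mem_map] at ha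
    obtain ⟨k, -, rfl⟩ := ha
    exact hd k
  have hms : (Multiset.map d Finset.univ.val).sum = 2 * m := by
    rw [← hsum, Finset.sum_eq_multiset_sum]
  constructor
  · rintro ⟨e, A, hconj⟩ j hj
    have hR : RankType (A : Matrix (Fin m ⊕ Fin m) (Fin m ⊕ Fin m) F)
        (Multiset.map d Finset.univ.val) :=
      ((rankType_jordanTypeMatrix (K := F) d).reindex e).of_isConj hconj
    have hiso := SymplecticGroup.mem_iff'.mp A.2
    have hdet : IsUnit (A : Matrix (Fin m ⊕ Fin m) (Fin m ⊕ Fin m) F).det :=
      SymplecticGroup.symplectic_det A.2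
    have hev := even_rank_of_isometry_alt (Matrix.J (Fin m) F)
      (A : Matrix (Fin m ⊕ Fin m) (Fin m ⊕ Fin m) F)
      (A : Matrix (Fin m ⊕ Fin m) (Fin m ⊕ Fin m) F)⁻¹ J_alt (Matrix.isUnit_det_J _ _)
      (Matrix.mul_nonsing_inv _ hdet) hiso
    have := count_even_of_even_ranks hR hev j hj
    rw [count_map_univ] at this
    exact this
  · intro hpar
    have hreal : SpReal F (Multiset.map d Finset.univ.val) := by
      apply spReal_of_parity _ hpos
      intro a ha
      rw [count_map_univ]
      exact hpar a ha
    obtain ⟨A, hA, hR⟩ := hreal.exists_symplectic hms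
    have hcard : Fintype.card ((k : Fin t) × Fin (d k)) = Fintype.card (Fin m ⊕ Fin m) := by
      rw [Fintype.card_sigma, Fintype.card_sum, Fintype.card_fin]
      simp only [Fintype.card_fin]
      rw [hsum]
      ring
    refine ⟨Fintype.equivOfCardEq hcard, ⟨A, hA⟩, ?_⟩
    exact ((rankType_jordanTypeMatrix (K := F) d).reindex _).isConj hR hpos

end Cfsg.Agent.S2582
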