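import Cfsg.Statements.S2583
import Cfsg.Agent.Lib.H11.OType2
import Cfsg.Agent.Lib.H11.OrthConj3

set_option autoImplicit false
open Cfsg

namespace Cfsg.Agent.S2583

open Matrix Cfsg.Agent.Lib.H11.Jordan

theorem count_map_univ {t : ℕ} (d : Fin t → ℕ) (j : ℕ) :
    Multiset.count j (Multiset.map d Finset.univ.val) =
      (Finset.univ.filter (fun k : Fin t => d k = j)).card := by
  classical
  rw [Multiset.count_map, Finset.card_def, Finset.filter_val]
  congr 1
  apply Multiset.filter_congr
  intro x _
  exact eq_comm

/-- Which unipotent Jordan types occur in a finite orthogonal group in odd characteristic: over a finite field of odd order, a unipotent matrix with Jordan block sizes d_1, …, d_t (sum n, all at least 1) is similar to an isometry of some quadratic form on F^n with non-degenerate polar form if and only if every even block size occurs an even number of times. -/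
theorem result {F : Type*} [Field F] [Fintype F] (h2 : (2 : F) ≠ 0) {n t : ℕ} (d : Fin t → ℕ) (hd : ∀ k, 1 ≤ d k) (hsum : ∑ k, d k = n) : (∃ Q : QuadraticForm F (Fin n → F), (QuadraticMap.polarBilin Q).Nondegenerate ∧ ∃ e : ((k : Fin t) × Fin (d k)) ≃ Fin n, ∃ A : ↥(Cfsg.isometryGroup F ⇑Q), IsConj (Matrix.reindex e e (Cfsg.jordanTypeMatrix d F)) ((A : Matrix.GeneralLinearGroup (Fin n) F) : Matrix (Fin n) (Fin n) F)) ↔ ∀ j : ℕ, Even j → 0 < j → Even (Finset.univ.filter (fun k : Fin t => d k = j)).card := by
  classical
  have hpos : ∀ a ∈ Multiset.map d Finset.univ.val, 0 < a := by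
    intro a ha
    rw [Multiset.mem_map] at ha
    obtain ⟨k, -, rfl⟩ := ha
    exact hd k
  have hms : (Multiset.map d Finset.univ.val).sum = n := by
    rw [← hsum, Finset.sum_eq_multiset_sum]
  constructor
  · rintro ⟨Q, hQ, e, A, hconj⟩ j hj hj0
    have hR : RankType ((A : Matrix.GeneralLinearGroup (Fin n) F) : Matrix (Fin n) (Fin n) F)
        (Multiset.map d Finset.univ.val) :=
      ((rankType_jordanTypeMatrix (K := F) d).reindex e).of_isConj hconj
    have hiso := Cfsg.Agent.Lib.H11.OrthConj.transpose_gram_mul Q A
    have hX : IsUnit (Cfsg.Agent.Lib.H11.OrthConj.gram Q).det :=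
      isUnit_iff_ne_zero.mpr (Cfsg.Agent.Lib.H11.OrthConj.gram_det_ne_zero Q hQ)
    have hA1 : ((A : Matrix.GeneralLinearGroup (Fin n) F) : Matrix (Fin n) (Fin n) F) *
        (((A : Matrix.GeneralLinearGroup (Fin n) F)⁻¹ : Matrix.GeneralLinearGroup (Fin n) F) :
          Matrix (Fin n) (Fin n) F) = 1 := by
      rw [← Units.val_mul, mul_inv_cancel, Units.val_one]
    have hev := even_rank_of_isometry_sym (Cfsg.Agent.Lib.H11.OrthConj.gram Q) _ _ h2
      (Cfsg.Agent.Lib.H11.OrthConj.gram_transpose Q) hX hA1 hiso ⟨_, hR.pow_eq_zero⟩
    have := count_even_of_even_ranks_odd hR hev j hj hj0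
    rw [count_map_univ] at this
    exact this
  · intro hpar
    have hreal : OReal F (Multiset.map d Finset.univ.val) := by
      apply realizable_of_parity (OReal F) {a | Odd a} OReal.zero (fun _ _ => OReal.add)
        (fun a ha => OReal.pair ha) _ _ hpos
      · intro a ha
        change ¬ Odd a at ha
        rw [count_map_univ]
        by_cases ha0 : 0 < a
        · exact hpar a (Nat.not_odd_iff_even.mp ha) ha0
        · have : a = 0 := by omega
          subst this
          have hc : (Finset.univ.filter (fun k : Fin t => d k = 0)).card = 0 := by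
            rw [Finset.card_eq_zero, Finset.filter_eq_empty_iff]
            intro k _
            have := hd k
            omega
          rw [hc]
          exact ⟨0, rfl⟩
      · intro a _ ha
        exact OReal.single_odd h2 ha
    obtain ⟨Q, hQ, A, hR⟩ := hreal.exists_isometry hms
    have hcard : Fintype.card ((k : Fin t) × Fin (d k)) = Fintype.card (Fin n) := by
      rw [Fintype.card_sigma, Fintype.card_fin]
      simp only [Fintype.card_fin]
      exact hsum
    refine ⟨Q, hQ, Fintype.equivOfCardEq hcard, A, ?_⟩
    exact ((rankType_jordanTypeMatrix (K := F) d).reindex _).isConj hR hpos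

end Cfsg.Agent.S2583
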