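import Cfsg.Statements.S2584
import Cfsg.Agent.Lib.H11.OType3
import Cfsg.Agent.Lib.H11.OrthConj3

set_option autoImplicit false
open Cfsg

namespace Cfsg.Agent.S2584

open Matrix Cfsg.Agent.Lib.H11.Jordan

theorem count_map_univ {t : ℕ} (d : Fin t → ℕ) (j : ℕ) :
    Multiset.count j (Multiset.map d Finset.univ.val) =
      (Finset.univ.filter (fun k : Fin t => d k = j)).card := by
  classical
  rw [Multiset.count_map, Finset.card_def, Finset.filter_val]
  congr 1
  apply Multiset.filter_congr
  intro x _
  exact eq_comm

/-- Which unipotent Jordan types occur in a finite orthogonal group in characteristic two: over a finite field of characteristic 2 and in even dimension 2m, a unipotent matrix with Jordan block sizes d_1, …, d_t (sum 2m, all at least 1) is similar to an isometry of some quadratic form on F^(2m) with non-degenerate polar form if and only if every odd block size occurs an even number of times (the same condition as for the symplectic group, which contains these orthogonal groups). -/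
theorem result {F : Type*} [Field F] [Fintype F] [CharP F 2] {m t : ℕ} (d : Fin t → ℕ) (hd : ∀ k, 1 ≤ d k) (hsum : ∑ k, d k = 2 * m) : (∃ Q : QuadraticForm F (Fin (2 * m) → F), (QuadraticMap.polarBilin Q).Nondegenerate ∧ ∃ e : ((k : Fin t) × Fin (d k)) ≃ Fin (2 * m), ∃ A : ↥(Cfsg.isometryGroup F ⇑Q), IsConj (Matrix.reindex e e (Cfsg.jordanTypeMatrix d F)) ((A : Matrix.GeneralLinearGroup (Fin (2 * m)) F) : Matrix (Fin (2 * m)) (Fin (2 * m)) F)) ↔ ∀ j : ℕ, Odd j → Even (Finset.univ.filter (fun k : Fin t => d k = j)).card := by
  classical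
  have hpos : ∀ a ∈ Multiset.map d Finset.univ.val, 0 < a := by
    intro a ha
    rw [Multiset.mem_map] at ha
    obtain ⟨k, -, rfl⟩ := ha
    exact hd k
  have hms : (Multiset.map d Finset.univ.val).sum = 2 * m := by
    rw [← hsum, Finset.sum_eq_multiset_sum]
  constructor
  · rintro ⟨Q, hQ, e, A, hconj⟩ j hj
    have hR : RankType ((A : Matrix.GeneralLinearGroup (Fin (2 * m)) F) :
        Matrix (Fin (2 * m)) (Fin (2 * m)) F) (Multiset.map d Finset.univ.val) :=
      ((rankType_jordanTypeMatrix (K := F) d).reindex e).of_isConj hconj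
    have hiso := Cfsg.Agent.Lib.H11.OrthConj.transpose_gram_mul Q A
    have hX : IsUnit (Cfsg.Agent.Lib.H11.OrthConj.gram Q).det :=
      isUnit_iff_ne_zero.mpr (Cfsg.Agent.Lib.H11.OrthConj.gram_det_ne_zero Q hQ)
    have hA1 : ((A : Matrix.GeneralLinearGroup (Fin (2 * m)) F) :
        Matrix (Fin (2 * m)) (Fin (2 * m)) F) *
        (((A : Matrix.GeneralLinearGroup (Fin (2 * m)) F)⁻¹ :
          Matrix.GeneralLinearGroup (Fin (2 * m)) F) :
          Matrix (Fin (2 * m)) (Fin (2 * m)) F) = 1 := by
      rw [← Units.val_mul, mul_inv_cancel, Units.val_one]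
    have halt : ∀ v : Fin (2 * m) → F, v ⬝ᵥ Cfsg.Agent.Lib.H11.OrthConj.gram Q *ᵥ v = 0 := by
      intro v
      rw [← Cfsg.Agent.Lib.H11.OrthConj.polar_eq, QuadraticMap.polar_self, two_smul]
      exact CharTwo.add_self_eq_zero _
    have hev := even_rank_of_isometry_alt (Cfsg.Agent.Lib.H11.OrthConj.gram Q) _ _ halt hX hA1
      hiso
    have := count_even_of_even_ranks hR hev j hj
    rw [count_map_univ] at this
    exact this
  · intro hpar
    have hreal : OReal F (Multiset.map d Finset.univ.val) := by
      apply realizable_of_parity (OReal F) {a | Even a} OReal.zero (fun _ _ => OReal.add)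
        (fun a ha => OReal.pair ha) _ _ hpos
      · intro a ha
        change ¬ Even a at ha
        rw [count_map_univ]
        exact hpar a (Nat.not_even_iff_odd.mp ha)
      · intro a ha hev
        obtain ⟨j, rfl⟩ := hev
        have : j + j = 2 * j := by ring
        rw [this]
        exact OReal.single_even_char_two (by omega)
    obtain ⟨Q, hQ, A, hR⟩ := hreal.exists_isometry hms
    have hcard : Fintype.card ((k : Fin t) × Fin (d k)) = Fintype.card (Fin (2 * m)) := by
      rw [Fintype.card_sigma, Fintype.card_fin]
      simp only [Fintype.card_fin]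
      exact hsum
    refine ⟨Q, hQ, Fintype.equivOfCardEq hcard, A, ?_⟩
    exact ((rankType_jordanTypeMatrix (K := F) d).reindex _).isConj hR hpos

end Cfsg.Agent.S2584
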