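import Cfsg.Statements.S2585

set_option autoImplicit false
open Cfsg

namespace Cfsg.Agent.S2585

open Matrix

theorem mem_symplecticGroup_iff_sympForm {F : Type*} [CommRing F] (m : ℕ)
    (A : Matrix (Fin m ⊕ Fin m) (Fin m ⊕ Fin m) F) :
    A ∈ Matrix.symplecticGroup (Fin m) F ↔
      ∀ u v, Cfsg.sympForm m F (A *ᵥ u) (A *ᵥ v) = Cfsg.sympForm m F u v := by
  rw [SymplecticGroup.mem_iff']
  constructor
  · intro h u v
    unfold Cfsg.sympForm
    rw [Matrix.mulVec_mulVec, ← Matrix.vecMul_transpose,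
      ← Matrix.dotProduct_mulVec, Matrix.mulVec_mulVec, ← Matrix.mul_assoc, h]
  · intro h
    ext i j
    have := h (Pi.single i 1) (Pi.single j 1)
    unfold Cfsg.sympForm at this
    rw [Matrix.mulVec_mulVec, ← Matrix.vecMul_transpose,
      ← Matrix.dotProduct_mulVec, Matrix.mulVec_mulVec, ← Matrix.mul_assoc] at this
    simpa using this

section
variable {F : Type*} [Field F] [CharP F 2] {m : ℕ}

local notation "V" => (Fin m ⊕ Fin m → F)

theorem neg_eq_self (a : F) : -a = a := by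
  have h2 : (2 : F) = 0 := by
    have := CharP.cast_eq_zero F 2
    exact_mod_cast this
  have : a + a = 0 := by rw [← two_mul, h2, zero_mul]
  exact neg_eq_of_add_eq_zero_left this

/-- the bilinear form `Σ u(inl i) v(inr i)` -/
def beta : V →ₗ[F] V →ₗ[F] F :=
  LinearMap.mk₂ F (fun u v => ∑ i, u (Sum.inl i) * v (Sum.inr i))
    (by intro u u' v; simp [add_mul, Finset.sum_add_distrib])
    (by intro c u v; simp [Finset.mul_sum, mul_assoc])
    (by intro u v v'; simp [mul_add, Finset.sum_add_distrib])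
    (by intro c u v; simp [Finset.mul_sum, mul_left_comm])

theorem beta_apply (u v : V) : beta u v = ∑ i, u (Sum.inl i) * v (Sum.inr i) := rfl

theorem sympForm_eq (u v : V) :
    Cfsg.sympForm m F u v = ∑ i, (u (Sum.inr i) * v (Sum.inl i) - u (Sum.inl i) * v (Sum.inr i)) := by
  simp only [Cfsg.sympForm, Matrix.J, dotProduct, Fintype.sum_sum_type, Matrix.mulVec,
    Matrix.fromBlocks_apply₁₁,
    Matrix.fromBlocks_apply₁₂, Matrix.fromBlocks_apply₂₁, Matrix.fromBlocks_apply₂₂,
    Matrix.zero_apply, zero_mul, Finset.sum_const_zero, zero_add, add_zero, Matrix.neg_apply,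
    Matrix.one_apply, neg_mul, ite_mul, one_mul, Finset.sum_neg_distrib, Finset.sum_ite_eq,
    Finset.mem_univ, if_true, mul_neg]
  rw [Finset.sum_sub_distrib]
  ring

/-- the standard quadratic form polarizing to the symplectic form -/
noncomputable def Q0 : QuadraticForm F V := LinearMap.BilinMap.toQuadraticMap (beta (F := F) (m := m))

theorem polar_Q0 (u v : V) : QuadraticMap.polar ⇑(Q0 (F := F) (m := m)) u v = Cfsg.sympForm m F u v := by
  unfold Q0
  rw [LinearMap.BilinMap.polar_toQuadraticMap, beta_apply, beta_apply, sympForm_eq,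
    ← Finset.sum_add_distrib]
  apply Finset.sum_congr rfl
  intro i _
  rw [sub_eq_add_neg, neg_eq_self]
  ring

end

/-- Sp_{2m}(q) in O^±_{2m}(q), q even: every element of Sp_{2m}(q) preserves some quadratic form polarising to the symplectic form. -/
theorem result {F : Type*} [Field F] [Fintype F] [CharP F 2] {m : ℕ} (A : Matrix.symplecticGroup (Fin m) F) : ∃ Q : QuadraticForm F (Fin m ⊕ Fin m → F), (∀ u v : Fin m ⊕ Fin m → F, QuadraticMap.polar ⇑Q u v = Cfsg.sympForm m F u v) ∧ ∀ v : Fin m ⊕ Fin m → F, Q ((A : Matrix (Fin m ⊕ Fin m) (Fin m ⊕ Fin m) F).mulVec v) = Q v := by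
  classical
  set M : Matrix (Fin m ⊕ Fin m) (Fin m ⊕ Fin m) F := (A : Matrix (Fin m ⊕ Fin m) (Fin m ⊕ Fin m) F)
    with hM
  have hA : ∀ u v, Cfsg.sympForm m F (M *ᵥ u) (M *ᵥ v) = Cfsg.sympForm m F u v :=
    (mem_symplecticGroup_iff_sympForm m M).mp A.2
  let Q₀ : QuadraticForm F (Fin m ⊕ Fin m → F) := Q0
  let D : (Fin m ⊕ Fin m → F) → F := fun v => Q₀ (M *ᵥ v) - Q₀ v
  have hpol : ∀ u v, Q₀ (u + v) = Q₀ u + Q₀ v + Cfsg.sympForm m F u v := by
    intro u v
    rw [← polar_Q0]
    unfold QuadraticMap.polar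
    ring
  have D_add : ∀ u v, D (u + v) = D u + D v := by
    intro u v
    show Q₀ (M *ᵥ (u + v)) - Q₀ (u + v) = (Q₀ (M *ᵥ u) - Q₀ u) + (Q₀ (M *ᵥ v) - Q₀ v)
    rw [Matrix.mulVec_add, hpol, hpol, hA]
    ring
  have D_smul : ∀ (c : F) v, D (c • v) = c ^ 2 * D v := by
    intro c v
    show Q₀ (M *ᵥ (c • v)) - Q₀ (c • v) = c ^ 2 * (Q₀ (M *ᵥ v) - Q₀ v)
    rw [Matrix.mulVec_smul, QuadraticMap.map_smul, QuadraticMap.map_smul, smul_eq_mul, smul_eq_mul]
    ring
  let ℓ : (Fin m ⊕ Fin m → F) →ₗ[F] F :=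
    { toFun := fun v => (frobeniusEquiv F 2).symm (D v)
      map_add' := by
        intro u v
        rw [D_add, map_add]
      map_smul' := by
        intro c v
        rw [D_smul, map_mul, frobeniusEquiv_symm_pow, RingHom.id_apply, smul_eq_mul] }
  have hℓ : ∀ v, ℓ v ^ 2 = D v := fun v => frobeniusEquiv_symm_pow_p F 2 (D v)
  let T : (Fin m ⊕ Fin m → F) →ₗ[F] (Fin m ⊕ Fin m → F) := Matrix.toLin' M + LinearMap.id
  have hker : ℓ ∈ (LinearMap.ker T).dualAnnihilator := by
    rw [Submodule.mem_dualAnnihilator]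
    intro v hv
    rw [LinearMap.mem_ker] at hv
    have hv' : M *ᵥ v = v := by
      have h1 : M *ᵥ v + v = 0 := by
        simpa [T, Matrix.toLin'_apply] using hv
      have h2 : M *ᵥ v = -v := eq_neg_of_add_eq_zero_left h1
      rw [h2]
      funext i
      exact neg_eq_self (v i)
    have h3 : D v = 0 := by
      show Q₀ (M *ᵥ v) - Q₀ v = 0
      rw [hv', sub_self]
    have h4 := hℓ v
    rw [h3] at h4
    exact pow_eq_zero_iff (two_ne_zero) |>.mp h4
  rw [← LinearMap.range_dualMap_eq_dualAnnihilator_ker] at hker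
  obtain ⟨μ, hμ⟩ := hker
  have hμ' : ∀ v, μ (M *ᵥ v + v) = ℓ v := by
    intro v
    rw [← hμ]
    simp [T, Matrix.toLin'_apply]
  have h22 : ∀ a : F, a + a = 0 := by
    intro a
    have := neg_eq_self a
    nth_rewrite 1 [← this]
    exact neg_add_cancel a
  refine ⟨Q₀ + QuadraticMap.linMulLin μ μ, ?_, ?_⟩
  · intro u v
    rw [QuadraticMap.coeFn_add, QuadraticMap.polar_add, polar_Q0]
    have : QuadraticMap.polar (⇑(QuadraticMap.linMulLin μ μ)) u v = 0 := by
      unfold QuadraticMap.polar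
      simp only [QuadraticMap.linMulLin_apply, map_add]
      have := h22 (μ u * μ v)
      linear_combination this
    rw [this, add_zero]
  · intro v
    rw [QuadraticMap.add_apply, QuadraticMap.add_apply, QuadraticMap.linMulLin_apply,
      QuadraticMap.linMulLin_apply]
    have h5 : Q₀ (M *ᵥ v) = Q₀ v + D v := by
      show Q₀ (M *ᵥ v) = Q₀ v + (Q₀ (M *ᵥ v) - Q₀ v)
      ring
    rw [h5, ← hℓ, ← hμ', map_add]
    have := h22 (μ (M *ᵥ v) * μ (M *ᵥ v) + μ (M *ᵥ v) * μ v)
    linear_combination this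

end Cfsg.Agent.S2585
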