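import Cfsg.Statements.S2586
import Cfsg.Agent.Lib.H13.SelfAdj

set_option autoImplicit false
open Cfsg

namespace Cfsg.Agent.S2586

open Matrix

/-- In Sp_{2m}(q) every element is conjugate in GL_{2m}(q) to its inverse. -/
theorem result {F : Type*} [Field F] [Finite F] {m : ℕ} (A : Matrix.symplecticGroup (Fin m) F) : IsConj (A : Matrix (Fin m ⊕ Fin m) (Fin m ⊕ Fin m) F) ((A⁻¹ : Matrix.symplecticGroup (Fin m) F) : Matrix (Fin m ⊕ Fin m) (Fin m ⊕ Fin m) F) := by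
  refine (Cfsg.Agent.Lib.H13.isConj_transpose (A : Matrix (Fin m ⊕ Fin m) (Fin m ⊕ Fin m) F)).trans ?_
  have hJ : (-J (Fin m) F) * J (Fin m) F = 1 := by
    rw [neg_mul, J_squared, neg_neg]
  have hJ' : J (Fin m) F * (-J (Fin m) F) = 1 := by
    rw [mul_neg, J_squared, neg_neg]
  refine ⟨⟨-J (Fin m) F, J (Fin m) F, hJ, hJ'⟩, ?_⟩
  show (-J (Fin m) F) * (A : Matrix (Fin m ⊕ Fin m) (Fin m ⊕ Fin m) F)ᵀ =
    ((A⁻¹ : Matrix.symplecticGroup (Fin m) F) : Matrix (Fin m ⊕ Fin m) (Fin m ⊕ Fin m) F) *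
      (-J (Fin m) F)
  rw [SymplecticGroup.coe_inv, Matrix.mul_assoc, hJ', Matrix.mul_one]

end Cfsg.Agent.S2586
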