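import Cfsg.Statements.S2588
import Cfsg.Agent.Lib.H11.HermNorm6
-- import your own Cfsg.Agent.* helpers here

set_option autoImplicit false
open Cfsg

namespace Cfsg.Agent.S2588

open Cfsg.Agent.Lib.H13.AutPSU Cfsg.Agent.Lib.H11.HermNorm in
theorem ct_eq_map {K : Type*} [Field K] {q n : ℕ} (D : UF K q) (A : Matrix (Fin n) (Fin n) K) :
    (A.map (fun x : K => x ^ q)).transpose = ct D A := by
  ext i j
  rw [ct_apply, Matrix.transpose_apply, Matrix.map_apply, D.hτ]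


/-- An invertible matrix A over the field with q² elements is conjugate in GL_n(q²) to an element of the general unitary group GU_n(q) (isometries of the Hermitian form Σ u_i v_i^q) if and only if A is similar to the inverse transpose of its entrywise q-th power (A ~ A^(−qT), the image of A under the map sending a matrix to the inverse transpose of its entrywise q-th power — inverse transpose composed with the field automorphism — whose fixed points form GU_n(q)). -/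
theorem result {K : Type*} [Field K] [Fintype K] {q n : ℕ} (hK : Fintype.card K = q ^ 2) (A : GL (Fin n) K) : (∃ B : ↥(Cfsg.GU n K q), IsConj A (B : GL (Fin n) K)) ↔ IsConj (A : Matrix (Fin n) (Fin n) K) (((A : Matrix (Fin n) (Fin n) K).map (fun x : K => x ^ q)).transpose)⁻¹ := by
  classical
  obtain ⟨p, f, hp, hq⟩ := Cfsg.Agent.Lib.H11.HermNorm.exists_prime_pow' hK
  have : Fact p.Prime := ⟨hp⟩
  obtain ⟨D, -⟩ : ∃ D : Cfsg.Agent.Lib.H13.AutPSU.UF K q,
      D = Cfsg.Agent.Lib.H13.AutPSU.UF.ofCard hq hK := ⟨_, rfl⟩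
  rw [ct_eq_map D]
  have hAct : Cfsg.Agent.Lib.H13.AutPSU.ct D (A : Matrix (Fin n) (Fin n) K) *
      Cfsg.Agent.Lib.H13.AutPSU.ct D ((A⁻¹ : GL (Fin n) K) : Matrix (Fin n) (Fin n) K) = 1 := by
    rw [← Cfsg.Agent.Lib.H13.AutPSU.ct_mul, ← Units.val_mul, inv_mul_cancel, Units.val_one,
      Cfsg.Agent.Lib.H13.AutPSU.ct_one]
  have hinvA : (Cfsg.Agent.Lib.H13.AutPSU.ct D (A : Matrix (Fin n) (Fin n) K))⁻¹ =
      Cfsg.Agent.Lib.H13.AutPSU.ct D ((A⁻¹ : GL (Fin n) K) : Matrix (Fin n) (Fin n) K) :=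
    Matrix.inv_eq_right_inv hAct
  rw [hinvA]
  constructor
  · rintro ⟨B, hB⟩
    obtain ⟨h, hh⟩ := isConj_iff.mp hB
    have hBu := (Cfsg.Agent.Lib.H13.AutPSU.mem_GU_iff_ct (D := D) (B : GL (Fin n) K)).mp B.2
    -- `c = h* h`
    have hhA : (h : Matrix (Fin n) (Fin n) K) * (A : Matrix (Fin n) (Fin n) K) =
        ((B : GL (Fin n) K) : Matrix (Fin n) (Fin n) K) * (h : Matrix (Fin n) (Fin n) K) := by
      have h1 : h * A = (B : GL (Fin n) K) * h := by rw [← hh]; group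
      have := congrArg (fun x : GL (Fin n) K => (x : Matrix (Fin n) (Fin n) K)) h1
      simpa using this
    have hct : Cfsg.Agent.Lib.H13.AutPSU.ct D (A : Matrix (Fin n) (Fin n) K) *
        Cfsg.Agent.Lib.H13.AutPSU.ct D (h : Matrix (Fin n) (Fin n) K) =
        Cfsg.Agent.Lib.H13.AutPSU.ct D (h : Matrix (Fin n) (Fin n) K) *
        Cfsg.Agent.Lib.H13.AutPSU.ct D ((B : GL (Fin n) K) : Matrix (Fin n) (Fin n) K) := by
      rw [← Cfsg.Agent.Lib.H13.AutPSU.ct_mul, ← Cfsg.Agent.Lib.H13.AutPSU.ct_mul, hhA]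
    let hs : GL (Fin n) K := ⟨Cfsg.Agent.Lib.H13.AutPSU.ct D (h : Matrix (Fin n) (Fin n) K),
      Cfsg.Agent.Lib.H13.AutPSU.ct D ((h⁻¹ : GL (Fin n) K) : Matrix (Fin n) (Fin n) K),
      by rw [← Cfsg.Agent.Lib.H13.AutPSU.ct_mul, ← Units.val_mul, inv_mul_cancel, Units.val_one,
        Cfsg.Agent.Lib.H13.AutPSU.ct_one],
      by rw [← Cfsg.Agent.Lib.H13.AutPSU.ct_mul, ← Units.val_mul, mul_inv_cancel, Units.val_one,
        Cfsg.Agent.Lib.H13.AutPSU.ct_one]⟩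
    refine ⟨hs * h, ?_⟩
    change ((hs * h : GL (Fin n) K) : Matrix (Fin n) (Fin n) K) * (A : Matrix (Fin n) (Fin n) K)
      = Cfsg.Agent.Lib.H13.AutPSU.ct D ((A⁻¹ : GL (Fin n) K) : Matrix (Fin n) (Fin n) K) *
        ((hs * h : GL (Fin n) K) : Matrix (Fin n) (Fin n) K)
    rw [Units.val_mul]
    change Cfsg.Agent.Lib.H13.AutPSU.ct D (h : Matrix (Fin n) (Fin n) K) *
        (h : Matrix (Fin n) (Fin n) K) * (A : Matrix (Fin n) (Fin n) K)
      = Cfsg.Agent.Lib.H13.AutPSU.ct D ((A⁻¹ : GL (Fin n) K) : Matrix (Fin n) (Fin n) K) *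
        (Cfsg.Agent.Lib.H13.AutPSU.ct D (h : Matrix (Fin n) (Fin n) K) *
          (h : Matrix (Fin n) (Fin n) K))
    have hAct' : Cfsg.Agent.Lib.H13.AutPSU.ct D
        ((A⁻¹ : GL (Fin n) K) : Matrix (Fin n) (Fin n) K) *
        Cfsg.Agent.Lib.H13.AutPSU.ct D (A : Matrix (Fin n) (Fin n) K) = 1 :=
      mul_eq_one_comm.mp hAct
    symm
    calc Cfsg.Agent.Lib.H13.AutPSU.ct D ((A⁻¹ : GL (Fin n) K) : Matrix (Fin n) (Fin n) K) *
        (Cfsg.Agent.Lib.H13.AutPSU.ct D (h : Matrix (Fin n) (Fin n) K) *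
          (h : Matrix (Fin n) (Fin n) K))
        = Cfsg.Agent.Lib.H13.AutPSU.ct D ((A⁻¹ : GL (Fin n) K) : Matrix (Fin n) (Fin n) K) *
          (Cfsg.Agent.Lib.H13.AutPSU.ct D (h : Matrix (Fin n) (Fin n) K) *
            ((Cfsg.Agent.Lib.H13.AutPSU.ct D ((B : GL (Fin n) K) : Matrix (Fin n) (Fin n) K) *
              ((B : GL (Fin n) K) : Matrix (Fin n) (Fin n) K)) *
            (h : Matrix (Fin n) (Fin n) K))) := by rw [hBu, Matrix.one_mul]
      _ = Cfsg.Agent.Lib.H13.AutPSU.ct D ((A⁻¹ : GL (Fin n) K) : Matrix (Fin n) (Fin n) K) *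
          ((Cfsg.Agent.Lib.H13.AutPSU.ct D (h : Matrix (Fin n) (Fin n) K) *
            Cfsg.Agent.Lib.H13.AutPSU.ct D ((B : GL (Fin n) K) : Matrix (Fin n) (Fin n) K)) *
            (((B : GL (Fin n) K) : Matrix (Fin n) (Fin n) K) *
            (h : Matrix (Fin n) (Fin n) K))) := by simp only [Matrix.mul_assoc]
      _ = Cfsg.Agent.Lib.H13.AutPSU.ct D ((A⁻¹ : GL (Fin n) K) : Matrix (Fin n) (Fin n) K) *
          ((Cfsg.Agent.Lib.H13.AutPSU.ct D (A : Matrix (Fin n) (Fin n) K) *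
            Cfsg.Agent.Lib.H13.AutPSU.ct D (h : Matrix (Fin n) (Fin n) K)) *
            ((h : Matrix (Fin n) (Fin n) K) * (A : Matrix (Fin n) (Fin n) K))) := by
          rw [hct, hhA]
      _ = (Cfsg.Agent.Lib.H13.AutPSU.ct D ((A⁻¹ : GL (Fin n) K) : Matrix (Fin n) (Fin n) K) *
          Cfsg.Agent.Lib.H13.AutPSU.ct D (A : Matrix (Fin n) (Fin n) K)) *
            (Cfsg.Agent.Lib.H13.AutPSU.ct D (h : Matrix (Fin n) (Fin n) K) *
            ((h : Matrix (Fin n) (Fin n) K) * (A : Matrix (Fin n) (Fin n) K))) := by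
          simp only [Matrix.mul_assoc]
      _ = Cfsg.Agent.Lib.H13.AutPSU.ct D (h : Matrix (Fin n) (Fin n) K) *
        (h : Matrix (Fin n) (Fin n) K) * (A : Matrix (Fin n) (Fin n) K) := by
          rw [hAct', Matrix.one_mul, Matrix.mul_assoc]
  · rintro ⟨c, hc⟩
    have hc' : (c : Matrix (Fin n) (Fin n) K) * (A : Matrix (Fin n) (Fin n) K) =
        Cfsg.Agent.Lib.H13.AutPSU.ct D ((A⁻¹ : GL (Fin n) K) : Matrix (Fin n) (Fin n) K) *
          (c : Matrix (Fin n) (Fin n) K) := hc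
    have hinv : Cfsg.Agent.Lib.H13.AutPSU.ct D (A : Matrix (Fin n) (Fin n) K) *
        (c : Matrix (Fin n) (Fin n) K) * (A : Matrix (Fin n) (Fin n) K) =
        (c : Matrix (Fin n) (Fin n) K) := by
      rw [Matrix.mul_assoc, hc', ← Matrix.mul_assoc, hAct, Matrix.one_mul]
    obtain ⟨C, Ci, hC1, hC2, hU⟩ := Cfsg.Agent.Lib.H11.HermNorm.exists_conj_unitary D
      (A : Matrix (Fin n) (Fin n) K) ((A⁻¹ : GL (Fin n) K) : Matrix (Fin n) (Fin n) K)
      (c : Matrix (Fin n) (Fin n) K) ((c⁻¹ : (Matrix (Fin n) (Fin n) K)ˣ) : Matrix (Fin n) (Fin n) K)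
      (by rw [← Units.val_mul, mul_inv_cancel, Units.val_one])
      (by rw [← Units.val_mul, inv_mul_cancel, Units.val_one])
      c.mul_inv c.inv_mul hinv
    let Cg : GL (Fin n) K := ⟨C, Ci, hC1, hC2⟩
    have hmem : Cg * A * Cg⁻¹ ∈ Cfsg.GU n K q := by
      rw [Cfsg.Agent.Lib.H13.AutPSU.mem_GU_iff_ct (D := D)]
      exact hU
    exact ⟨⟨Cg * A * Cg⁻¹, hmem⟩, isConj_iff.mpr ⟨Cg, rfl⟩⟩

end Cfsg.Agent.S2588
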