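import Cfsg.Statements.S2589
import Cfsg.Agent.Lib.H12.SpSemiJ

set_option autoImplicit false
open Cfsg

namespace Cfsg.Agent.S2589

/-- Two semisimple elements of the finite symplectic group Sp_2m(F) (elements of order prime to the characteristic) are conjugate in Sp_2m(F) if and only if they are conjugate in GL_2m(F). -/
theorem result {F : Type*} [Field F] [Fintype F] {p : ℕ} [Fact p.Prime] [CharP F p] {m : ℕ} (A B : Matrix.symplecticGroup (Fin m) F) (hA : (orderOf A).Coprime p) : IsConj A B ↔ IsConj (A : Matrix (Fin m ⊕ Fin m) (Fin m ⊕ Fin m) F) (B : Matrix (Fin m ⊕ Fin m) (Fin m ⊕ Fin m) F) := by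
  constructor
  · intro h
    exact MonoidHom.map_isConj (Matrix.symplecticGroup (Fin m) F).subtype h
  · intro h
    obtain ⟨u, hu⟩ := h
    have hB : (B : Matrix (Fin m ⊕ Fin m) (Fin m ⊕ Fin m) F) =
        (u : Matrix (Fin m ⊕ Fin m) (Fin m ⊕ Fin m) F) *
          (A : Matrix (Fin m ⊕ Fin m) (Fin m ⊕ Fin m) F) *
          ((u⁻¹ : (Matrix (Fin m ⊕ Fin m) (Fin m ⊕ Fin m) F)ˣ) :
            Matrix (Fin m ⊕ Fin m) (Fin m ⊕ Fin m) F) := by
      have h1 : (u : Matrix (Fin m ⊕ Fin m) (Fin m ⊕ Fin m) F) *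
          (A : Matrix (Fin m ⊕ Fin m) (Fin m ⊕ Fin m) F) =
          (B : Matrix (Fin m ⊕ Fin m) (Fin m ⊕ Fin m) F) *
            (u : Matrix (Fin m ⊕ Fin m) (Fin m ⊕ Fin m) F) := hu
      rw [h1, mul_assoc, Units.mul_inv, mul_one]
    have hc : (A : Matrix (Fin m ⊕ Fin m) (Fin m ⊕ Fin m) F).charpoly =
        (B : Matrix (Fin m ⊕ Fin m) (Fin m ⊕ Fin m) F).charpoly := by
      rw [hB, Matrix.coe_units_inv, Matrix.charpoly_units_conj]
    have hpow : ∀ k : ℕ, (B : Matrix (Fin m ⊕ Fin m) (Fin m ⊕ Fin m) F) ^ k =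
        (u : Matrix (Fin m ⊕ Fin m) (Fin m ⊕ Fin m) F) *
          (A : Matrix (Fin m ⊕ Fin m) (Fin m ⊕ Fin m) F) ^ k *
          ((u⁻¹ : (Matrix (Fin m ⊕ Fin m) (Fin m ⊕ Fin m) F)ˣ) :
            Matrix (Fin m ⊕ Fin m) (Fin m ⊕ Fin m) F) := by
      intro k
      rw [hB]
      exact (Units.conj_pow u _ k)
    have hBk : B ^ orderOf A = 1 := by
      apply Subtype.ext
      rw [SubmonoidClass.coe_pow, hpow, ← SubmonoidClass.coe_pow, pow_orderOf_eq_one]
      change (u : Matrix (Fin m ⊕ Fin m) (Fin m ⊕ Fin m) F) * 1 * _ = 1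
      rw [mul_one, Units.mul_inv]
    have hBc : (orderOf B).Coprime p :=
      Nat.Coprime.coprime_dvd_left (orderOf_dvd_of_pow_eq_one hBk) hA
    exact Cfsg.Agent.Lib.H12.SpSemi.isConj_Sp_of_semisimple m A B
      (Cfsg.Agent.Lib.H12.SpSemi.isSemisimple_of_orderOf_coprime p m A hA)
      (Cfsg.Agent.Lib.H12.SpSemi.isSemisimple_of_orderOf_coprime p m B hBc) hc

end Cfsg.Agent.S2589
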