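import Cfsg.Statements.S2591
import Cfsg.Agent.Lib.H13.SpRegClasses

set_option autoImplicit false
open Cfsg

namespace Cfsg.Agent.S2591

open Matrix Cfsg.Agent.Lib.H13

/-- Over a finite field of odd order and for m ≥ 1, the regular unipotent elements of Sp_2m(F) (u − 1 nilpotent of rank 2m − 1, a single Jordan block) form exactly two conjugacy classes of Sp_2m(F) (one class under the similarity group, which splits in two). -/
theorem result {F : Type*} [Field F] [Fintype F] {q : ℕ} (hF : Fintype.card F = q) (hq : Odd q) {m : ℕ} (hm : 1 ≤ m) : Nat.card {C : ConjClasses ↥(Matrix.symplecticGroup (Fin m) F) // ∃ u : Matrix.symplecticGroup (Fin m) F, ConjClasses.mk u = C ∧ ((u : Matrix (Fin m ⊕ Fin m) (Fin m ⊕ Fin m) F) - 1) ^ (2 * m) = 0 ∧ ((u : Matrix (Fin m ⊕ Fin m) (Fin m ⊕ Fin m) F) - 1).rank = 2 * m - 1} = 2 := by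
  classical
  subst hF
  obtain ⟨k, rfl⟩ : ∃ k, m = k + 1 := ⟨m - 1, by omega⟩
  have h2 : (2 : F) ≠ 0 := two_ne_zero_of_odd_card hq
  -- the base element
  obtain ⟨u₀, hu₀, hu₀nil, hu₀rk⟩ :=
    exists_unipotent_of_skew (regNil F k) (2 * (k + 1)) sstar_regNil regNil_pow
  rw [rank_two_smul h2, regNil_rank] at hu₀rk
  have hcard : Fintype.card (Fin (k + 1) ⊕ Fin (k + 1)) = 2 * (k + 1) := by
    rw [Fintype.card_sum, Fintype.card_fin]; ring
  have hcard' : Fintype.card (Fin (k + 1) ⊕ Fin (k + 1)) = (2 * k + 1) + 1 := by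
    rw [hcard]; ring
  have hnn : 2 * (k + 1) = (2 * k + 1) + 1 := by ring
  obtain ⟨v, h⟩ := skewReg_of_regular h2 hcard (by omega) hu₀ hu₀nil hu₀rk
  -- a non-square
  have hchar : ringChar F ≠ 2 := by
    intro hc
    apply h2
    have := ringChar.spec F 2
    have h3 : ((2 : ℕ) : F) = 0 := (ringChar.spec F 2).mpr (by rw [hc])
    exact_mod_cast h3
  obtain ⟨δ, hδ⟩ := FiniteField.exists_nonsquare hchar
  have hδ0 : δ ≠ 0 := by
    rintro rfl
    exact hδ ⟨0, by simp⟩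
  -- the similitude
  have hHH := simM_mul_sstar (l := Fin (k + 1)) δ
  have hHunit : IsUnit (simM (Fin (k + 1)) δ) := by
    have h3 : simM (Fin (k + 1)) δ * (δ⁻¹ • sstar (simM (Fin (k + 1)) δ)) = 1 := by
      rw [Matrix.mul_smul, hHH, smul_smul, inv_mul_cancel₀ hδ0, one_smul]
    exact ⟨⟨_, _, h3, mul_eq_one_comm.mp h3⟩, rfl⟩
  obtain ⟨H, hH⟩ := hHunit
  rw [← hH] at hHH
  set u₁ : Matrix (Fin (k + 1) ⊕ Fin (k + 1)) (Fin (k + 1) ⊕ Fin (k + 1)) F :=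
    (H : Matrix (Fin (k + 1) ⊕ Fin (k + 1)) (Fin (k + 1) ⊕ Fin (k + 1)) F) * u₀ *
      (↑H⁻¹ : Matrix (Fin (k + 1) ⊕ Fin (k + 1)) (Fin (k + 1) ⊕ Fin (k + 1)) F) with hu₁def
  have hu₁ : u₁ * sstar u₁ = 1 := by
    rw [hu₁def, sstar_mul, sstar_mul]
    calc (H : Matrix (Fin (k + 1) ⊕ Fin (k + 1)) (Fin (k + 1) ⊕ Fin (k + 1)) F) * u₀ * ↑H⁻¹ *
          (sstar ↑H⁻¹ * (sstar u₀ * sstar ↑H))
        = ↑H * u₀ * (↑H⁻¹ * sstar ↑H⁻¹) * sstar u₀ * sstar ↑H := by simp only [Matrix.mul_assoc]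
      _ = δ⁻¹ • (↑H * (u₀ * sstar u₀) * sstar ↑H) := by
          rw [units_inv_mul_sstar_inv hδ0 H hHH]
          simp only [Matrix.mul_assoc, Matrix.mul_smul, Matrix.smul_mul, Matrix.mul_one,
            Matrix.one_mul]
      _ = 1 := by
          rw [hu₀, Matrix.mul_one, hHH, smul_smul, inv_mul_cancel₀ hδ0, one_smul]
  have hu₁sub : u₁ - 1 = (H : Matrix (Fin (k + 1) ⊕ Fin (k + 1)) (Fin (k + 1) ⊕ Fin (k + 1)) F) *
      (u₀ - 1) * (↑H⁻¹ : Matrix (Fin (k + 1) ⊕ Fin (k + 1)) (Fin (k + 1) ⊕ Fin (k + 1)) F) := by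
    rw [hu₁def, Matrix.mul_sub, Matrix.sub_mul, Matrix.mul_one, Units.mul_inv]
  have hu₁nil : (u₁ - 1) ^ (2 * (k + 1)) = 0 := by
    rw [hu₁sub, Units.conj_pow, hu₀nil, Matrix.mul_zero, Matrix.zero_mul]
  have hu₁rk : (u₁ - 1).rank = 2 * (k + 1) - 1 := by
    rw [hu₁sub, Matrix.rank_mul_eq_left_of_isUnit_det _ _
      ((Matrix.isUnit_iff_isUnit_det _).mp H⁻¹.isUnit),
      Matrix.rank_mul_eq_right_of_isUnit_det _ _
      ((Matrix.isUnit_iff_isUnit_det _).mp H.isUnit), hu₀rk]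
  let U₀ : Matrix.symplecticGroup (Fin (k + 1)) F := ⟨u₀, (mem_symplectic_iff _).mpr hu₀⟩
  let U₁ : Matrix.symplecticGroup (Fin (k + 1)) F := ⟨u₁, (mem_symplectic_iff _).mpr hu₁⟩
  have hne : ConjClasses.mk U₀ ≠ ConjClasses.mk U₁ := by
    intro heq
    rw [ConjClasses.mk_eq_mk_iff_isConj, isConj_iff] at heq
    obtain ⟨S, hS⟩ := heq
    have h3 : S * U₀ = U₁ * S := by
      rw [← hS]; group
    have h4 : (S : Matrix (Fin (k + 1) ⊕ Fin (k + 1)) (Fin (k + 1) ⊕ Fin (k + 1)) F) * u₀ = u₁ * S :=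
      congrArg Subtype.val h3
    exact not_conj_sim h hu₀ hδ H hHH S ((mem_symplectic_iff _).mp S.2) h4
  have hset : {C : ConjClasses ↥(Matrix.symplecticGroup (Fin (k + 1)) F) |
      ∃ u : Matrix.symplecticGroup (Fin (k + 1)) F, ConjClasses.mk u = C ∧
        ((u : Matrix (Fin (k + 1) ⊕ Fin (k + 1)) (Fin (k + 1) ⊕ Fin (k + 1)) F) - 1) ^ (2 * (k + 1)) = 0 ∧
        ((u : Matrix (Fin (k + 1) ⊕ Fin (k + 1)) (Fin (k + 1) ⊕ Fin (k + 1)) F) - 1).rank = 2 * (k + 1) - 1}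
      = {ConjClasses.mk U₀, ConjClasses.mk U₁} := by
    ext C
    constructor
    · rintro ⟨u, rfl, hunil, hurk⟩
      have hu : (u : Matrix (Fin (k + 1) ⊕ Fin (k + 1)) (Fin (k + 1) ⊕ Fin (k + 1)) F) * sstar (u : Matrix (Fin (k + 1) ⊕ Fin (k + 1)) (Fin (k + 1) ⊕ Fin (k + 1)) F) = 1 :=
        (mem_symplectic_iff _).mp u.2
      obtain ⟨w, hw⟩ := exists_cyclic_of_regular hcard (by omega) _ hunil hurk
      obtain ⟨w₀, hw₀⟩ := exists_cyclic_of_regular hcard (by omega) _ hu₀nil hu₀rk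
      rw [hnn] at hunil hu₀nil hw hw₀
      obtain ⟨P, hP⟩ := exists_conj_regular hcard' _ _ hunil w hw hu₀nil w₀ hw₀
      have hP' : (P : Matrix (Fin (k + 1) ⊕ Fin (k + 1)) (Fin (k + 1) ⊕ Fin (k + 1)) F) * u = u₀ * P := by
        rw [Matrix.mul_sub, Matrix.sub_mul, Matrix.mul_one, Matrix.one_mul] at hP
        exact sub_left_injective hP
      obtain ⟨s, hs, hs'⟩ := classify_regular h hu₀ hδ H hHH hu P hP'
      let S : Matrix.symplecticGroup (Fin (k + 1)) F := ⟨s, (mem_symplectic_iff _).mpr hs⟩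
      rcases hs' with hs' | hs'
      · left
        rw [ConjClasses.mk_eq_mk_iff_isConj, isConj_iff]
        refine ⟨S, ?_⟩
        have : S * u = U₀ * S := Subtype.ext hs'
        rw [this]; group
      · right
        rw [Set.mem_singleton_iff, ConjClasses.mk_eq_mk_iff_isConj, isConj_iff]
        refine ⟨S, ?_⟩
        have : S * u = U₁ * S := Subtype.ext hs'
        rw [this]; group
    · rintro (rfl | rfl)
      · exact ⟨U₀, rfl, hu₀nil, hu₀rk⟩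
      · exact ⟨U₁, rfl, hu₁nil, hu₁rk⟩
  calc Nat.card {C : ConjClasses ↥(Matrix.symplecticGroup (Fin (k + 1)) F) //
        ∃ u : Matrix.symplecticGroup (Fin (k + 1)) F, ConjClasses.mk u = C ∧
        ((u : Matrix (Fin (k + 1) ⊕ Fin (k + 1)) (Fin (k + 1) ⊕ Fin (k + 1)) F) - 1) ^ (2 * (k + 1)) = 0 ∧
        ((u : Matrix (Fin (k + 1) ⊕ Fin (k + 1)) (Fin (k + 1) ⊕ Fin (k + 1)) F) - 1).rank = 2 * (k + 1) - 1}
      = Set.ncard {C : ConjClasses ↥(Matrix.symplecticGroup (Fin (k + 1)) F) |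
        ∃ u : Matrix.symplecticGroup (Fin (k + 1)) F, ConjClasses.mk u = C ∧
        ((u : Matrix (Fin (k + 1) ⊕ Fin (k + 1)) (Fin (k + 1) ⊕ Fin (k + 1)) F) - 1) ^ (2 * (k + 1)) = 0 ∧
        ((u : Matrix (Fin (k + 1) ⊕ Fin (k + 1)) (Fin (k + 1) ⊕ Fin (k + 1)) F) - 1).rank = 2 * (k + 1) - 1} := rfl
    _ = 2 := by rw [hset, Set.ncard_pair hne]

end Cfsg.Agent.S2591
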