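import Cfsg.Statements.S2592
import Cfsg.Agent.Lib.H13.SpRegUnip

set_option autoImplicit false
open Cfsg

namespace Cfsg.Agent.S2592

open Matrix Cfsg.Agent.Lib.H13

/-- Over a finite field with q elements, q odd, the centraliser in Sp_2m(F) (m ≥ 1) of a regular unipotent element (u − 1 nilpotent of rank 2m − 1) has order 2 q^m. -/
theorem result {F : Type*} [Field F] [Fintype F] {q : ℕ} (hF : Fintype.card F = q) (hq : Odd q) {m : ℕ} (hm : 1 ≤ m) (u : Matrix.symplecticGroup (Fin m) F) (hnil : ((u : Matrix (Fin m ⊕ Fin m) (Fin m ⊕ Fin m) F) - 1) ^ (2 * m) = 0) (hreg : ((u : Matrix (Fin m ⊕ Fin m) (Fin m ⊕ Fin m) F) - 1).rank = 2 * m - 1) : Nat.card ↥(Subgroup.centralizer ({u} : Set ↥(Matrix.symplecticGroup (Fin m) F))) = 2 * q ^ m := by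
  classical
  subst hF
  have h2 : (2 : F) ≠ 0 := two_ne_zero_of_odd_card hq
  have hu : (u : Matrix (Fin m ⊕ Fin m) (Fin m ⊕ Fin m) F) * sstar (u : Matrix (Fin m ⊕ Fin m) (Fin m ⊕ Fin m) F) = 1 :=
    (mem_symplectic_iff _).mp u.2
  have hcard : Fintype.card (Fin m ⊕ Fin m) = 2 * m := by
    rw [Fintype.card_sum, Fintype.card_fin]; ring
  obtain ⟨v, h⟩ := skewReg_of_regular h2 hcard (by omega) hu hnil hreg
  rw [← Nat.card_eq_fintype_card (α := F), ← h.Sset_ncard rfl, ← _root_.Nat.card_coe_set_eq]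
  apply Nat.card_congr
  refine Equiv.ofBijective (fun g => ⟨(g.1 : Matrix (Fin m ⊕ Fin m) (Fin m ⊕ Fin m) F), ?_⟩) ⟨?_, ?_⟩
  · have hg := g.2
    rw [Subgroup.mem_centralizer_singleton_iff] at hg
    refine ⟨?_, (mem_symplectic_iff _).mp g.1.2⟩
    rw [← commute_iff_of_regular hu h]
    have := congrArg Subtype.val hg
    exact this
  · intro g g' hgg
    apply Subtype.ext
    apply Subtype.ext
    have h3 := congrArg Subtype.val hgg
    exact h3
  · rintro ⟨g, hg1, hg2⟩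
    rw [← commute_iff_of_regular hu h] at hg1
    refine ⟨⟨⟨g, (mem_symplectic_iff _).mpr hg2⟩, ?_⟩, rfl⟩
    rw [Subgroup.mem_centralizer_singleton_iff]
    apply Subtype.ext
    exact hg1.eq

end Cfsg.Agent.S2592
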