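import Mathlib
import Cfsg.Statements.S2594
import Cfsg.Agent.Lib.H2.SpOrder
import Cfsg.Agent.Lib.H2.SpTrans

set_option autoImplicit false
open Cfsg

namespace Cfsg.Agent.S2594

open Matrix Cfsg.Agent.Lib.H4 Cfsg.Agent.Lib.H2.Sp

section
variable {F : Type*} [Field F] {m : ℕ}

/-- the natural action of `Sp` on vectors -/
@[reducible] def spAct (m : ℕ) (F : Type*) [Field F] :
    MulAction (Matrix.symplecticGroup (Fin m) F) (Fin m ⊕ Fin m → F) where
  smul g x := (g : Matrix (Fin m ⊕ Fin m) (Fin m ⊕ Fin m) F) *ᵥ x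
  one_smul x := by
    show ((1 : Matrix.symplecticGroup (Fin m) F) : Matrix (Fin m ⊕ Fin m) (Fin m ⊕ Fin m) F) *ᵥ x = x
    rw [Submonoid.coe_one, Matrix.one_mulVec]
  mul_smul g h x := by
    show ((g * h : Matrix.symplecticGroup (Fin m) F) : Matrix (Fin m ⊕ Fin m) (Fin m ⊕ Fin m) F) *ᵥ x
      = (g : Matrix (Fin m ⊕ Fin m) (Fin m ⊕ Fin m) F) *ᵥ ((h : Matrix (Fin m ⊕ Fin m) (Fin m ⊕ Fin m) F) *ᵥ x)
    rw [Submonoid.coe_mul, Matrix.mulVec_mulVec]

/-- a rank one matrix `N` with `1 + N` symplectic is `x ↦ λ ω(a, x) a` -/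
theorem rank_one_form (T : Matrix (Fin m ⊕ Fin m) (Fin m ⊕ Fin m) F)
    (hT : T ∈ Matrix.symplecticGroup (Fin m) F) (hrank : (T - 1).rank = 1) :
    ∃ (a : Fin m ⊕ Fin m → F) (c : F), a ≠ 0 ∧ c ≠ 0 ∧
      ∀ x, (T - 1) *ᵥ x = (c * Cfsg.sympForm m F a x) • a := by
  classical
  set N := T - 1 with hN
  have hTN : T = 1 + N := by rw [hN]; abel
  have hr : Module.finrank F (LinearMap.range (Matrix.mulVecLin N)) = 1 := hrank
  rw [finrank_eq_one_iff'] at hr
  obtain ⟨⟨a, ha⟩, ha0, hspan⟩ := hr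
  have ha0' : a ≠ 0 := fun h => ha0 (Subtype.ext h)
  have hsp : ∀ x, ∃ c : F, N *ᵥ x = c • a := by
    intro x
    obtain ⟨c, hc⟩ := hspan ⟨N *ᵥ x, ⟨x, rfl⟩⟩
    exact ⟨c, (congrArg Subtype.val hc).symm⟩
  -- the symplectic identity
  have hsymp := (mem_symplecticGroup_iff_sympForm m T).mp hT
  have hid : ∀ x y cx cy, N *ᵥ x = cx • a → N *ᵥ y = cy • a →
      cx * Cfsg.sympForm m F a y = cy * Cfsg.sympForm m F a x := by
    intro x y cx cy hx hy
    have h1 := hsymp x y
    rw [hTN, Matrix.add_mulVec, Matrix.add_mulVec, Matrix.one_mulVec, Matrix.one_mulVec, hx, hy,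
      sympForm_add_left, sympForm_add_right, sympForm_add_right, sympForm_smul_left,
      sympForm_smul_left, sympForm_smul_right, sympForm_smul_right, sympForm_self,
      sympForm_swap m x a] at h1
    linear_combination h1
  obtain ⟨a', ha'⟩ := ha
  obtain ⟨c₀, hc₀⟩ := hsp a'
  have hc₀ne : c₀ ≠ 0 := by
    rintro rfl
    rw [zero_smul] at hc₀
    apply ha0'
    rw [← ha']
    exact hc₀
  obtain ⟨x₁, hx₁⟩ := exists_sympForm_ne_zero m a ha0'
  obtain ⟨c₁, hc₁⟩ := hsp x₁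
  have h2 := hid x₁ a' c₁ c₀ hc₁ hc₀
  have hy₀ : Cfsg.sympForm m F a a' ≠ 0 := by
    intro h0
    rw [h0, mul_zero] at h2
    exact (mul_ne_zero hc₀ne hx₁) h2.symm
  refine ⟨a, c₀ / Cfsg.sympForm m F a a', ha0', div_ne_zero hc₀ne hy₀, ?_⟩
  intro x
  obtain ⟨cx, hcx⟩ := hsp x
  rw [hcx]
  congr 1
  have h3 := hid x a' cx c₀ hcx hc₀
  field_simp
  linear_combination h3


/-- for a transvection `x ↦ x + ω(v,x) v` in characteristic two, commuting means fixing `v` -/
theorem commute_iff_fix [CharP F 2] (T G : Matrix (Fin m ⊕ Fin m) (Fin m ⊕ Fin m) F)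
    (hG : G ∈ Matrix.symplecticGroup (Fin m) F) (v : Fin m ⊕ Fin m → F) (hv : v ≠ 0)
    (hT : ∀ x, (T - 1) *ᵥ x = Cfsg.sympForm m F v x • v) :
    G * T = T * G ↔ G *ᵥ v = v := by
  classical
  have hsymp := (mem_symplecticGroup_iff_sympForm m G).mp hG
  have hTN : T = 1 + (T - 1) := by abel
  have key : G * T = T * G ↔ ∀ x, Cfsg.sympForm m F v x • (G *ᵥ v) = Cfsg.sympForm m F v (G *ᵥ x) • v := by
    constructor
    · intro h x
      have h1 : G *ᵥ ((T - 1) *ᵥ x) = (T - 1) *ᵥ (G *ᵥ x) := by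
        rw [Matrix.mulVec_mulVec, Matrix.mulVec_mulVec, Matrix.mul_sub, Matrix.sub_mul, h,
          Matrix.mul_one, Matrix.one_mul]
      rw [hT, hT, Matrix.mulVec_smul] at h1
      exact h1
    · intro h
      have h1 : G * (T - 1) = (T - 1) * G := by
        rw [Matrix.ext_iff_mulVec]
        intro x
        rw [← Matrix.mulVec_mulVec, ← Matrix.mulVec_mulVec, hT, hT, Matrix.mulVec_smul]
        exact h x
      rw [hTN, Matrix.mul_add, Matrix.add_mul, h1, Matrix.mul_one, Matrix.one_mul]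
  rw [key]
  constructor
  · intro h
    obtain ⟨x₁, hx₁⟩ := exists_sympForm_ne_zero m v hv
    set μ := Cfsg.sympForm m F v (G *ᵥ x₁) / Cfsg.sympForm m F v x₁ with hμ
    have hGv : G *ᵥ v = μ • v := by
      have h1 := h x₁
      have h2 : G *ᵥ v = (Cfsg.sympForm m F v x₁)⁻¹ • (Cfsg.sympForm m F v x₁ • (G *ᵥ v)) := by
        rw [smul_smul, inv_mul_cancel₀ hx₁, one_smul]
      rw [h2, h1, smul_smul, hμ]
      congr 1
      field_simp
    have h3 : ∀ x, Cfsg.sympForm m F v (G *ᵥ x) = μ * Cfsg.sympForm m F v x := by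
      intro x
      have h1 := h x
      rw [hGv, smul_smul] at h1
      have h4 : (Cfsg.sympForm m F v x * μ - Cfsg.sympForm m F v (G *ᵥ x)) • v = 0 := by
        rw [sub_smul, h1, sub_self]
      rcases smul_eq_zero.mp h4 with h5 | h5
      · linear_combination -h5
      · exact absurd h5 hv
    have h6 : μ * μ = 1 := by
      have h7 := hsymp v x₁
      rw [hGv, sympForm_smul_left, h3] at h7
      have h8 : (μ * μ - 1) * Cfsg.sympForm m F v x₁ = 0 := by linear_combination h7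
      rcases mul_eq_zero.mp h8 with h9 | h9
      · linear_combination h9
      · exact absurd h9 hx₁
    have h10 : μ = 1 := by
      have h11 : (μ - 1) * (μ - 1) = 0 := by
        have h12 : (2 : F) = 0 := CharP.cast_eq_zero F 2 |> fun h => by exact_mod_cast h
        linear_combination h6 - μ * h12 + h12
      rcases mul_eq_zero.mp h11 with h13 | h13 <;> linear_combination h13
    rw [hGv, h10, one_smul]
  · intro h x
    have h1 := hsymp v x
    rw [h] at h1
    rw [h, h1]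

theorem arith (q m : ℕ) (hm : 1 ≤ m) :
    q ^ (m ^ 2) * ∏ i ∈ Finset.range m, (q ^ (2 * (i + 1)) - 1)
      = (q ^ (2 * m) - 1) * (q ^ (2 * m - 1) * (q ^ ((m - 1) ^ 2) *
          ∏ i : Fin (m - 1), (q ^ (2 * ((i : ℕ) + 1)) - 1))) := by
  obtain ⟨k, rfl⟩ : ∃ k, m = k + 1 := ⟨m - 1, by omega⟩
  rw [Finset.prod_range_succ, Nat.add_sub_cancel,
    Fin.prod_univ_eq_prod_range (fun i => q ^ (2 * (i + 1)) - 1) k]
  have h1 : (k + 1) ^ 2 = (2 * (k + 1) - 1) + k ^ 2 := by
    have : 2 * (k + 1) - 1 = 2 * k + 1 := by omega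
    rw [this]; ring
  rw [h1, pow_add]
  ring


end

/-- Over a finite field with q elements, q even, an element t of Sp_2m(F) with rank(t − 1) = 1 (a symplectic transvection) has centraliser in Sp_2m(F) of order q^(2m−1) · |Sp_(2m−2)(q)| = q^(2m−1) · q^((m−1)²) · Π_(i=1)^(m−1) (q^(2i) − 1). -/
theorem result {F : Type*} [Field F] [Fintype F] [CharP F 2] {q : ℕ} (hF : Fintype.card F = q) {m : ℕ} (hm : 1 ≤ m) (t : Matrix.symplecticGroup (Fin m) F) (ht : ((t : Matrix (Fin m ⊕ Fin m) (Fin m ⊕ Fin m) F) - 1).rank = 1) : Nat.card ↥(Subgroup.centralizer ({t} : Set ↥(Matrix.symplecticGroup (Fin m) F))) = q ^ (2 * m - 1) * (q ^ ((m - 1) ^ 2) * ∏ i : Fin (m - 1), (q ^ (2 * ((i : ℕ) + 1)) - 1)) := by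
  classical
  subst hF
  obtain ⟨a, c, ha, hc, hN⟩ := rank_one_form _ t.2 ht
  have hchar : ringChar F = 2 := ringChar.eq F 2
  obtain ⟨s, hs⟩ := FiniteField.isSquare_of_char_two hchar c
  have hs0 : s ≠ 0 := by
    rintro rfl
    rw [mul_zero] at hs
    exact hc hs
  have hv : s • a ≠ 0 := smul_ne_zero hs0 ha
  have hT : ∀ x, ((t : Matrix (Fin m ⊕ Fin m) (Fin m ⊕ Fin m) F) - 1) *ᵥ x
      = Cfsg.sympForm m F (s • a) x • (s • a) := by
    intro x
    rw [hN, sympForm_smul_left, smul_smul, hs]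
    congr 1
    ring
  letI := spAct m F
  have hstab : ∀ g : Matrix.symplecticGroup (Fin m) F,
      g ∈ Subgroup.centralizer ({t} : Set ↥(Matrix.symplecticGroup (Fin m) F)) ↔
      g ∈ MulAction.stabilizer (Matrix.symplecticGroup (Fin m) F) (s • a) := by
    intro g
    rw [Subgroup.mem_centralizer_singleton_iff, MulAction.mem_stabilizer_iff]
    show _ ↔ (g : Matrix (Fin m ⊕ Fin m) (Fin m ⊕ Fin m) F) *ᵥ (s • a) = s • a
    rw [← commute_iff_fix _ _ g.2 (s • a) hv hT]
    constructor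
    · intro h
      exact congrArg Subtype.val h
    · intro h
      exact Subtype.ext h
  rw [Nat.card_congr (Equiv.subtypeEquivRight hstab)]
  have horb : MulAction.orbit (Matrix.symplecticGroup (Fin m) F) (s • a) = {0}ᶜ := by
    ext w
    constructor
    · rintro ⟨g, rfl⟩
      rw [Set.mem_compl_iff, Set.mem_singleton_iff]
      intro h0
      have h1 : g⁻¹ • (g • (s • a)) = g⁻¹ • (0 : Fin m ⊕ Fin m → F) := by
        rw [← h0]
      rw [inv_smul_smul] at h1
      apply hv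
      rw [h1]
      show (g⁻¹ : Matrix.symplecticGroup (Fin m) F).1 *ᵥ (0 : Fin m ⊕ Fin m → F) = 0
      exact Matrix.mulVec_zero _
    · intro hw
      rw [Set.mem_compl_iff, Set.mem_singleton_iff] at hw
      obtain ⟨g, hg⟩ := transitive m (s • a) w hv hw
      exact ⟨g, hg⟩
  have h1 := Nat.card_congr (MulAction.orbitProdStabilizerEquivGroup
    (Matrix.symplecticGroup (Fin m) F) (s • a))
  rw [Nat.card_prod, card_Sp, arith _ m hm, horb, Nat.card_coe_set_eq, Set.ncard_compl,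
    Set.ncard_singleton, Nat.card_fun, Nat.card_eq_fintype_card, Nat.card_eq_fintype_card,
    Fintype.card_sum, Fintype.card_fin, ← two_mul] at h1
  have hpos : 0 < Fintype.card F ^ (2 * m) - 1 := by
    have h2 : 2 ≤ Fintype.card F := by
      have := Fintype.one_lt_card (α := F)
      omega
    have h3 : 2 ^ (2 * m) ≤ Fintype.card F ^ (2 * m) := Nat.pow_le_pow_left h2 _
    have h4 : 2 ^ 1 ≤ 2 ^ (2 * m) := Nat.pow_le_pow_right (by norm_num) (by omega)
    omega
  exact Nat.eq_of_mul_eq_mul_left hpos h1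

end Cfsg.Agent.S2594
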