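import Cfsg.Statements.S2599

set_option autoImplicit false
open Cfsg

namespace Cfsg.Agent.S2599

open Matrix Module

theorem mem_iso_iff {ι : Type} [Fintype ι] [DecidableEq ι] {F : Type*} [Field F] (Q : (ι → F) → F)
    (g : Matrix.GeneralLinearGroup ι F) :
    g ∈ Cfsg.isometryGroup F Q ↔ ∀ u, Q ((g : Matrix ι ι F) *ᵥ u) = Q u :=
  ⟨fun h u => h u u, fun h u _ => h u⟩

theorem result {F : Type*} [Field F] [Fintype F] {p : ℕ} [Fact p.Prime] [CharP F p] {n : ℕ} (Q : QuadraticForm F (Fin n → F)) (hQ : (QuadraticMap.polarBilin Q).Nondegenerate) (x : ↥(Cfsg.isometryGroup F ⇑Q)) (hx : (orderOf x).Coprime p) (U : Submodule F (Fin n → F)) (hU0 : U ≠ ⊥) (hUx : ∀ u ∈ U, ((x : Matrix.GeneralLinearGroup (Fin n) F) : Matrix (Fin n) (Fin n) F).mulVec u ∈ U) (hirr : ∀ W : Submodule F (Fin n → F), W ≤ U → (∀ w ∈ W, ((x : Matrix.GeneralLinearGroup (Fin n) F) : Matrix (Fin n) (Fin n) F).mulVec w ∈ W) → W = ⊥ ∨ W = U) : U ⊓ LinearMap.BilinForm.orthogonal (QuadraticMap.polarBilin Q) U = ⊥ ∨ (∀ u ∈ U, Q u = 0) ∨ (p = 2 ∧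 Module.finrank F U = 1 ∧ (∃ u ∈ U, Q u ≠ 0) ∧ ∀ u ∈ U, ((x : Matrix.GeneralLinearGroup (Fin n) F) : Matrix (Fin n) (Fin n) F).mulVec u = u) := by
  classical
  set X : Matrix (Fin n) (Fin n) F := ((x : Matrix.GeneralLinearGroup (Fin n) F) : Matrix (Fin n) (Fin n) F) with hX
  set B := QuadraticMap.polarBilin Q with hB
  have hQx : ∀ u, Q (X *ᵥ u) = Q u := (mem_iso_iff _ _).mp x.2
  have hBx : ∀ u v, B (X *ᵥ u) (X *ᵥ v) = B u v := by
    intro u v
    simp only [hB, QuadraticMap.polarBilin_apply_apply, QuadraticMap.polar]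
    rw [← Matrix.mulVec_add, hQx, hQx, hQx]
  -- X is injective
  have hXinj : Function.Injective (fun v => X *ᵥ v) := by
    intro v w hvw
    have h2 : (((x : Matrix.GeneralLinearGroup (Fin n) F)⁻¹ : Matrix.GeneralLinearGroup (Fin n) F) : Matrix (Fin n) (Fin n) F) * X = 1 :=
      Units.inv_mul _
    have := congrArg (fun z => (((x : Matrix.GeneralLinearGroup (Fin n) F)⁻¹ : Matrix.GeneralLinearGroup (Fin n) F) : Matrix (Fin n) (Fin n) F) *ᵥ z) hvw
    simp only [Matrix.mulVec_mulVec, h2, Matrix.one_mulVec] at this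
    exact this
  -- restriction to U is surjective
  let L : U →ₗ[F] U := (Matrix.mulVecLin X).restrict (by intro u hu; exact hUx u hu)
  have hLval : ∀ u : U, ((L u : U) : Fin n → F) = X *ᵥ (u : Fin n → F) := fun u => rfl
  have hLinj : Function.Injective L := by
    intro u v huv
    apply Subtype.ext
    apply hXinj
    have := congrArg Subtype.val huv
    rw [hLval, hLval] at this
    exact this
  have hLsurj : Function.Surjective L := LinearMap.injective_iff_surjective.mp hLinj
  -- orthogonal complement invariant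
  have hperp : ∀ w ∈ LinearMap.BilinForm.orthogonal B U, X *ᵥ w ∈ LinearMap.BilinForm.orthogonal B U := by
    intro w hw
    rw [LinearMap.BilinForm.mem_orthogonal_iff] at hw ⊢
    intro m hm
    obtain ⟨m', hm'⟩ := hLsurj ⟨m, hm⟩
    have hm'' : X *ᵥ (m' : Fin n → F) = m := by
      have := congrArg Subtype.val hm'
      rw [hLval] at this
      exact this
    rw [← hm'', hBx]
    exact hw _ m'.2
  have hRinv : ∀ w ∈ U ⊓ LinearMap.BilinForm.orthogonal B U, X *ᵥ w ∈ U ⊓ LinearMap.BilinForm.orthogonal B U := by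
    intro w hw
    exact ⟨hUx w hw.1, hperp w hw.2⟩
  rcases hirr _ inf_le_left hRinv with hR | hR
  · exact Or.inl hR
  · right
    have hiso : ∀ u ∈ U, ∀ v ∈ U, B u v = 0 := by
      intro u hu v hv
      have : v ∈ U ⊓ LinearMap.BilinForm.orthogonal B U := by rw [hR]; exact hv
      exact (LinearMap.BilinForm.mem_orthogonal_iff.mp this.2) u hu
    have hpolar : ∀ u ∈ U, ∀ v ∈ U, QuadraticMap.polar (⇑Q) u v = 0 := by
      intro u hu v hv
      have := hiso u hu v hv
      simpa [hB] using this
    have hadd : ∀ u ∈ U, ∀ v ∈ U, Q (u + v) = Q u + Q v := by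
      intro u hu v hv
      rw [QuadraticMap.map_add (⇑Q), hpolar u hu v hv, add_zero]
    by_cases hp2 : p = 2
    · -- the singular vectors of U form an invariant subspace
      let U₀ : Submodule F (Fin n → F) :=
        { carrier := {u | u ∈ U ∧ Q u = 0}
          add_mem' := by
            rintro u v ⟨hu, hu0⟩ ⟨hv, hv0⟩
            exact ⟨U.add_mem hu hv, by rw [hadd u hu v hv, hu0, hv0, add_zero]⟩
          zero_mem' := ⟨U.zero_mem, by simp⟩
          smul_mem' := by
            rintro c u ⟨hu, hu0⟩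
            exact ⟨U.smul_mem c hu, by rw [QuadraticMap.map_smul, hu0, smul_zero]⟩ }
      have hU₀le : U₀ ≤ U := fun u hu => hu.1
      have hU₀inv : ∀ w ∈ U₀, X *ᵥ w ∈ U₀ := by
        rintro w ⟨hw, hw0⟩
        exact ⟨hUx w hw, by rw [hQx, hw0]⟩
      rcases hirr U₀ hU₀le hU₀inv with h0 | h0
      · right
        have hchar : CharP F 2 := hp2 ▸ (inferInstance : CharP F p)
        have h2 : (2 : F) = 0 := CharTwo.two_eq_zero
        have hneg : ∀ a : F, -a = a := fun a => CharTwo.neg_eq a
        have haniso : ∀ u ∈ U, Q u = 0 → u = 0 := by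
          intro u hu hu0
          have : u ∈ U₀ := ⟨hu, hu0⟩
          rw [h0] at this
          exact (Submodule.mem_bot F).mp this
        obtain ⟨u₀, hu₀, hu₀0⟩ := Submodule.exists_mem_ne_zero_of_ne_bot hU0
        have hQu₀ : Q u₀ ≠ 0 := fun h => hu₀0 (haniso u₀ hu₀ h)
        refine ⟨hp2, ?_, ⟨u₀, hu₀, hQu₀⟩, ?_⟩
        · rw [finrank_eq_one_iff']
          refine ⟨⟨u₀, hu₀⟩, ?_, ?_⟩
          · intro h
            exact hu₀0 (congrArg Subtype.val h)
          · rintro ⟨w, hw⟩
            have hringchar : ringChar F = 2 := by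
              rw [ringChar.eq_iff]; exact hchar
            obtain ⟨a, ha⟩ := FiniteField.isSquare_of_char_two hringchar (Q w / Q u₀)
            refine ⟨a, ?_⟩
            apply Subtype.ext
            show a • u₀ = w
            have h1 : Q (a • u₀ + w) = 0 := by
              rw [hadd _ (U.smul_mem a hu₀) _ hw, QuadraticMap.map_smul, smul_eq_mul, ← ha,
                div_mul_cancel₀ _ hQu₀, ← two_mul, h2, zero_mul]
            have h3 := haniso _ (U.add_mem (U.smul_mem a hu₀) hw) h1
            have : a • u₀ = -w := eq_neg_of_add_eq_zero_left h3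
            rw [this]
            ext i
            simp [hneg]
        · intro u hu
          have h1 : Q (X *ᵥ u + u) = 0 := by
            rw [hadd _ (hUx u hu) _ hu, hQx, ← two_mul, h2, zero_mul]
          have h3 := haniso _ (U.add_mem (hUx u hu) hu) h1
          have : X *ᵥ u = -u := eq_neg_of_add_eq_zero_left h3
          rw [this]
          ext i
          simp [hneg]
      · left
        intro u hu
        have : u ∈ U₀ := by rw [h0]; exact hu
        exact this.2
    · left
      intro u hu
      have h1 := hpolar u hu u hu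
      rw [QuadraticMap.polar_self] at h1
      have h2 : (2 : F) ≠ 0 := by
        intro h
        have : (p : ℕ) ∣ 2 := by
          have := (CharP.cast_eq_zero_iff F p 2).mp (by exact_mod_cast h)
          exact this
        have hp := (Nat.prime_dvd_prime_iff_eq (Fact.out : p.Prime) Nat.prime_two).mp this
        exact hp2 hp
      rw [two_smul, ← two_mul] at h1
      rcases mul_eq_zero.mp h1 with h | h
      · exact absurd h h2
      · exact h

end Cfsg.Agent.S2599
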