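import Cfsg.Statements.S2611
import Cfsg.Agent.Lib.H13.PlusLevi

set_option autoImplicit false
open Cfsg

namespace Cfsg.Agent.S2611

open Cfsg.Agent.Lib.H13 Cfsg.Agent.Lib.H13.PlusLevi

/-- In the orthogonal group of the hyperbolic form Σ x_i y_i on F^(2m), F finite, excluding O⁺₄(2): the Levi-type element of the stabilizer of the pair (E, F) of complementary maximal totally singular subspaces acting as A on E = ⟨e_i⟩ and as the inverse transpose of A on F = ⟨f_i⟩ lies in Ω (the commutator subgroup) if and only if det A is a square; in particular the stabilizer of (E, F) in Ω⁺_2m(q) is isomorphic to the group of A in GL_m(q) with square determinant. -/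
theorem result {F : Type*} [Field F] [Fintype F] {m : ℕ} (hm : 1 ≤ m) (h : Fintype.card F ≠ 2 ∨ m ≠ 2) (A : GL (Fin m) F) : (∃ g : ↥(Cfsg.isometryGroup F (Cfsg.quadFormPlus m F)), g ∈ Cfsg.Omega F (Cfsg.quadFormPlus m F) ∧ ((g : Matrix.GeneralLinearGroup (Fin m ⊕ Fin m) F) : Matrix (Fin m ⊕ Fin m) (Fin m ⊕ Fin m) F) = Matrix.fromBlocks (A : Matrix (Fin m) (Fin m) F) 0 0 ((A : Matrix (Fin m) (Fin m) F)⁻¹).transpose) ↔ IsSquare (A : Matrix (Fin m) (Fin m) F).det := by
  have key : (∃ g : ↥(Cfsg.isometryGroup F ⇑(plusQF F m)), g ∈ Cfsg.Omega F ⇑(plusQF F m) ∧ ((g : Matrix.GeneralLinearGroup (Fin m ⊕ Fin m) F) : Matrix (Fin m ⊕ Fin m) (Fin m ⊕ Fin m) F) = Matrix.fromBlocks (A : Matrix (Fin m) (Fin m) F) 0 0 ((A : Matrix (Fin m) (Fin m) F)⁻¹).transpose) ↔ IsSquare (A : Matrix (Fin m) (Fin m) F).det := by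
    have hLA : (((levi A : ↥(Cfsg.isometryGroup F ⇑(plusQF F m))) : Matrix.GeneralLinearGroup (Fin m ⊕ Fin m) F) : Matrix (Fin m ⊕ Fin m) (Fin m ⊕ Fin m) F) = Matrix.fromBlocks (A : Matrix (Fin m) (Fin m) F) 0 0 ((A : Matrix (Fin m) (Fin m) F)⁻¹).transpose := by
      rw [levi_val, leviM, Matrix.coe_units_inv]
    rw [← levi_mem_iff hm h A]
    constructor
    · rintro ⟨g, hg, hg1⟩
      have : g = levi A := by
        apply Subtype.ext
        apply Units.ext
        rw [hg1, hLA]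
      rw [← this]
      exact hg
    · intro hmem
      exact ⟨levi A, hmem, hLA⟩
  rw [Cfsg.Agent.S0287.coe_plusQF] at key
  exact key

end Cfsg.Agent.S2611
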