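import Cfsg.Statements.S2612
import Cfsg.Agent.Lib.H13.Dickson

set_option autoImplicit false
open Cfsg

namespace Cfsg.Agent.S2612

open Matrix
open scoped MatrixGroups
open Cfsg.Agent.Lib.H13 Cfsg.Agent.Lib.H13.PlusLevi Cfsg.Agent.Lib.H13.Dickson
  Cfsg.Agent.Lib.H13.HypPairs Cfsg.Agent.Lib.H4

variable {F : Type*} [Field F] {m : ℕ}

/-- the reflection swapping `e_i` and `f_i` -/
noncomputable def sig (i : Fin m) : ↥(Cfsg.isometryGroup F ⇑(plusQF F m)) :=
  reflG (plusQF F m) (Pi.single (Sum.inl i) 1 - Pi.single (Sum.inr i) 1)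
    (Q_ne_zero_minus_c i 1 one_ne_zero)

theorem sig_mulVec (i : Fin m) (x : K m → F) (k : K m) :
    (((sig i : ↥(Cfsg.isometryGroup F ⇑(plusQF F m))) : GL (K m) F) : Matrix (K m) (K m) F).mulVec x k =
      if Sum.elim id id k = i then x (Sum.swap k) else x k := by
  show (Cfsg.reflectionMatrix _ _ *ᵥ x) k = _
  rw [reflectionMatrix_mulVec, (hypPair_plusQF i).Q_minus, (hypPair_plusQF i).polar_minus]
  rcases k with k | k
  · by_cases hk : k = i
    · subst hk
      simp
    · simp [hk, Ne.symm hk]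
  · by_cases hk : k = i
    · subst hk
      simp
    · simp [hk, Ne.symm hk]

theorem prod_sig_mulVec (l : List (Fin m)) (hl : l.Nodup) (x : K m → F) (k : K m) :
    (((l.map sig).prod : ↥(Cfsg.isometryGroup F ⇑(plusQF F m))) : GL (K m) F).1.mulVec x k =
      if Sum.elim id id k ∈ l then x (Sum.swap k) else x k := by
  induction l generalizing x k with
  | nil => simp
  | cons i l ih =>
    rw [List.nodup_cons] at hl
    rw [List.map_cons, List.prod_cons]
    show ((((sig i : ↥(Cfsg.isometryGroup F ⇑(plusQF F m))) : GL (K m) F) : Matrix (K m) (K m) F) *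
      (((l.map sig).prod : ↥(Cfsg.isometryGroup F ⇑(plusQF F m))) : GL (K m) F).1).mulVec x k = _
    rw [← Matrix.mulVec_mulVec, sig_mulVec]
    by_cases hk : Sum.elim id id k = i
    · have hsw : Sum.elim id id (Sum.swap k) = i := by
        rcases k with k | k <;> simpa using hk
      have h1 : Sum.elim id id (Sum.swap k) ∉ l := by rw [hsw]; exact hl.1
      have h2 : Sum.elim id id k ∈ i :: l := by rw [hk]; exact List.mem_cons_self
      rw [if_pos hk, ih hl.2, if_neg h1, if_pos h2]
    · rw [if_neg hk, ih hl.2]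
      have : Sum.elim id id k ∈ i :: l ↔ Sum.elim id id k ∈ l := by
        rw [List.mem_cons]
        constructor
        · rintro (h | h)
          · exact absurd h hk
          · exact h
        · exact Or.inr
      simp only [this]

/-- the full swap, as an element of the isometry group -/
noncomputable def swapAll : ↥(Cfsg.isometryGroup F ⇑(plusQF F m)) :=
  ((List.finRange m).map sig).prod

theorem swapAll_mulVec (x : K m → F) :
    ((swapAll : ↥(Cfsg.isometryGroup F ⇑(plusQF F m))) : GL (K m) F).1.mulVec x = x ∘ Sum.swap := by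
  funext k
  rw [swapAll, prod_sig_mulVec _ (List.nodup_finRange m), if_pos (List.mem_finRange _)]
  rfl

/-- the permutation matrix as an element of `GL` -/
def permGL (π : Equiv.Perm (Fin m)) : GL (Fin m) F where
  val := π.permMatrix F
  inv := π⁻¹.permMatrix F
  val_inv := by rw [← Matrix.permMatrix_mul, inv_mul_cancel, Matrix.permMatrix_one]
  inv_val := by rw [← Matrix.permMatrix_mul, mul_inv_cancel, Matrix.permMatrix_one]

theorem leviM_permGL_mulVec (π : Equiv.Perm (Fin m)) (x : K m → F) :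
    leviM (permGL π : GL (Fin m) F) *ᵥ x = x ∘ Sum.map π π := by
  rw [leviM, fromBlocks_mulVec]
  have h1 : ((permGL π : GL (Fin m) F) : Matrix (Fin m) (Fin m) F) = π.permMatrix F := rfl
  have h2 : (((permGL π)⁻¹ : GL (Fin m) F) : Matrix (Fin m) (Fin m) F) = π⁻¹.permMatrix F := rfl
  rw [h1, h2, Matrix.transpose_permMatrix, inv_inv]
  simp only [Matrix.zero_mulVec, add_zero, zero_add, Matrix.permMatrix_mulVec]
  funext k
  rcases k with k | k <;> rfl

theorem abel_sig_eq (i j : Fin m) :
    (Abelianization.of (sig i) : Abelianization ↥(Cfsg.isometryGroup F ⇑(plusQF F m))) =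
      Abelianization.of (sig j) := by
  set g := levi (permGL (Equiv.swap i j) : GL (Fin m) F) with hg
  have hmv : ((g : GL (K m) F) : Matrix (K m) (K m) F) *ᵥ
      (Pi.single (Sum.inl i) 1 - Pi.single (Sum.inr i) 1) =
      Pi.single (Sum.inl j) 1 - Pi.single (Sum.inr j) 1 := by
    rw [hg, levi_val, leviM_permGL_mulVec]
    funext k
    rcases k with k | k
    · simp only [Function.comp_apply, Sum.map_inl, Pi.sub_apply, Pi.single_apply, Sum.inl.injEq,
        reduceCtorEq, if_false, sub_zero]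
      by_cases hk : k = j
      · subst hk
        simp
      · rw [if_neg hk, if_neg]
        intro h
        apply hk
        have := congrArg (Equiv.swap i j) h
        simpa using this
    · simp only [Function.comp_apply, Sum.map_inr, Pi.sub_apply, Pi.single_apply, Sum.inr.injEq,
        reduceCtorEq, if_false, zero_sub]
      by_cases hk : k = j
      · subst hk
        simp
      · rw [if_neg hk, if_neg]
        intro h
        apply hk
        have := congrArg (Equiv.swap i j) h
        simpa using this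
  have hQ : plusQF F m (((g : GL (K m) F) : Matrix (K m) (K m) F) *ᵥ
      (Pi.single (Sum.inl i) 1 - Pi.single (Sum.inr i) 1)) ≠ 0 := by
    rw [hmv]
    exact Q_ne_zero_minus_c j 1 one_ne_zero
  have hconj := conj_reflG (plusQF F m) g _ (Q_ne_zero_minus_c i 1 one_ne_zero) hQ
  have hsj : sig j = g * sig i * g⁻¹ := by
    rw [sig, sig, hconj]
    congr 1
    exact hmv.symm
  rw [hsj, map_mul, map_mul, map_inv, mul_comm, inv_mul_cancel_left]

theorem sig_mul_self (i : Fin m) : sig (F := F) i * sig i = 1 := reflG_mul_self _ _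

theorem abel_prod_sig (i₀ : Fin m) (l : List (Fin m)) :
    (Abelianization.of (l.map sig).prod : Abelianization ↥(Cfsg.isometryGroup F ⇑(plusQF F m))) =
      Abelianization.of (sig i₀) ^ l.length := by
  induction l with
  | nil => simp
  | cons i l ih =>
    rw [List.map_cons, List.prod_cons, map_mul, ih, abel_sig_eq i i₀, List.length_cons, pow_succ']

theorem swapAll_mem (hm : 1 ≤ m) (he : Even m) :
    (swapAll : ↥(Cfsg.isometryGroup F ⇑(plusQF F m))) ∈ Cfsg.Omega F ⇑(plusQF F m) := by
  show swapAll ∈ commutator _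
  rw [← Abelianization.ker_of, MonoidHom.mem_ker, swapAll, abel_prod_sig ⟨0, hm⟩, List.length_finRange]
  have key : ∀ n : ℕ, Even n → (Abelianization.of (sig (F := F) (⟨0, hm⟩ : Fin m)) :
      Abelianization ↥(Cfsg.isometryGroup F ⇑(plusQF F m))) ^ n = 1 := by
    rintro n ⟨k, rfl⟩
    rw [← two_mul, pow_mul, pow_two, ← map_mul, sig_mul_self, map_one, one_pow]
  exact key m he

theorem fwd [Fintype F] (g : ↥(Cfsg.isometryGroup F (Cfsg.quadFormPlus m F)))
    (hg : g ∈ Cfsg.Omega F (Cfsg.quadFormPlus m F))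
    (h1 : ∀ v : Fin m ⊕ Fin m → F, (∀ i, v (Sum.inr i) = 0) → ∀ i,
      (((g : Matrix.GeneralLinearGroup (Fin m ⊕ Fin m) F) : Matrix (Fin m ⊕ Fin m) (Fin m ⊕ Fin m) F).mulVec v)
        (Sum.inl i) = 0)
    (h2 : ∀ v : Fin m ⊕ Fin m → F, (∀ i, v (Sum.inl i) = 0) → ∀ i,
      (((g : Matrix.GeneralLinearGroup (Fin m ⊕ Fin m) F) : Matrix (Fin m ⊕ Fin m) (Fin m ⊕ Fin m) F).mulVec v)
        (Sum.inr i) = 0) : Even m := by
  set M := ((g : GL (K m) F) : Matrix (K m) (K m) F) with hM
  have hA : M.toBlocks₁₁ = 0 := by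
    ext i j
    have := h1 (Pi.single (Sum.inl j) 1) (fun k => by simp) i
    rw [Matrix.mulVec_single_one] at this
    exact this
  have hD : M.toBlocks₂₂ = 0 := by
    ext i j
    have := h2 (Pi.single (Sum.inr j) 1) (fun k => by simp) i
    rw [Matrix.mulVec_single_one] at this
    exact this
  have hMb : M = fromBlocks 0 M.toBlocks₁₂ M.toBlocks₂₁ 0 := by
    conv_lhs => rw [← fromBlocks_toBlocks M, hA, hD]
  set B := M.toBlocks₁₂
  set C := M.toBlocks₂₁
  have hiso : IsIso M := isIso_of_mem g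
  have hcr : ColRel (0 : Matrix (Fin m) (Fin m) F) B C 0 := colRel_of_isIso (by rw [← hMb]; exact hiso)
  have hCB : Cᵀ * B = 1 := by
    have := hcr.ad
    simpa using this
  by_cases h2F : (2 : F) = 0
  · have : CharP F 2 := CharTwo.of_one_ne_zero_of_two_eq_zero one_ne_zero h2F
    have hdk := dk_eq_zero_of_mem_Omega g hg
    rw [← hM, hMb, dk_fromBlocks, Matrix.trace_mul_comm, hCB, Matrix.trace_one, Fintype.card_fin] at hdk
    have := (CharP.cast_eq_zero_iff F 2 m).mp hdk
    exact even_iff_two_dvd.mpr this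
  · have hdet := det_eq_one_of_mem_Omega _ g hg
    rw [← hM] at hdet
    have hMJ : M * J0 = fromBlocks B 0 0 C := by
      rw [hMb, J0, fromBlocks_multiply]
      simp
    have h3 := congrArg Matrix.det hMJ
    rw [Matrix.det_mul, hdet, one_mul, det_J0, Matrix.det_fromBlocks_zero₂₁] at h3
    have h4 := congrArg Matrix.det hCB
    rw [Matrix.det_mul, Matrix.det_transpose, Matrix.det_one] at h4
    rw [mul_comm, h4] at h3
    have hne : (-1 : F) ≠ 1 := by
      intro h
      apply h2F
      linear_combination -h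
    exact (neg_one_pow_eq_one_iff_even hne).mp h3

/-- For the hyperbolic quadratic form Σ x_i y_i on F^(2m) (F finite, m ≥ 1, excluding m = 2 over the field of two elements), Ω⁺_2m(F) (the commutator subgroup of the orthogonal group) contains an element interchanging the two complementary maximal totally singular subspaces {y = 0} and {x = 0} if and only if m is even (dimension divisible by 4). -/
theorem result {F : Type*} [Field F] [Fintype F] {m : ℕ} (hm : 1 ≤ m) (h : Fintype.card F ≠ 2 ∨ m ≠ 2) : (∃ g : ↥(Cfsg.isometryGroup F (Cfsg.quadFormPlus m F)), g ∈ Cfsg.Omega F (Cfsg.quadFormPlus m F) ∧ (∀ v : Fin m ⊕ Fin m → F, (∀ i, v (Sum.inr i) = 0) → ∀ i, (((g : Matrix.GeneralLinearGroup (Fin m ⊕ Fin m) F) : Matrix (Fin m ⊕ Fin m) (Fin m ⊕ Fin m) F).mulVec v) (Sum.inl i) = 0) ∧ (∀ v : Fin m ⊕ Fin m → F, (∀ i, v (Sum.inl i) = 0) → ∀ i, (((g : Matrix.GeneralLinearGroup (Fin m ⊕ Fin m) F) : Matrix (Fin m ⊕ Fin m) (Fin m ⊕ Fin m) F).mulVec v) (Sum.inr i) = 0)) ↔ Even m := by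
  constructor
  · rintro ⟨g, hg, h1, h2⟩
    exact fwd g hg h1 h2
  · intro he
    have key : ∃ g : ↥(Cfsg.isometryGroup F ⇑(plusQF F m)), g ∈ Cfsg.Omega F ⇑(plusQF F m) ∧ (∀ v : Fin m ⊕ Fin m → F, (∀ i, v (Sum.inr i) = 0) → ∀ i, (((g : Matrix.GeneralLinearGroup (Fin m ⊕ Fin m) F) : Matrix (Fin m ⊕ Fin m) (Fin m ⊕ Fin m) F).mulVec v) (Sum.inl i) = 0) ∧ (∀ v : Fin m ⊕ Fin m → F, (∀ i, v (Sum.inl i) = 0) → ∀ i, (((g : Matrix.GeneralLinearGroup (Fin m ⊕ Fin m) F) : Matrix (Fin m ⊕ Fin m) (Fin m ⊕ Fin m) F).mulVec v) (Sum.inr i) = 0) := by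
      refine ⟨swapAll, swapAll_mem hm he, ?_, ?_⟩
      · intro v hv i
        have := swapAll_mulVec (F := F) (m := m) v
        rw [show (((swapAll : ↥(Cfsg.isometryGroup F ⇑(plusQF F m))) : GL (K m) F) :
          Matrix (K m) (K m) F).mulVec v = v ∘ Sum.swap from this]
        exact hv i
      · intro v hv i
        have := swapAll_mulVec (F := F) (m := m) v
        rw [show (((swapAll : ↥(Cfsg.isometryGroup F ⇑(plusQF F m))) : GL (K m) F) :
          Matrix (K m) (K m) F).mulVec v = v ∘ Sum.swap from this]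
        exact hv i
    rw [Cfsg.Agent.S0287.coe_plusQF] at key
    exact key

end Cfsg.Agent.S2612
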