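import Cfsg.Statements.S2613
import Cfsg.Agent.Lib.H13.HypPairs
import Cfsg.Agent.S0287

set_option autoImplicit false
open Cfsg

namespace Cfsg.Agent.S2613

open Cfsg.Agent.Lib.H13 Cfsg.Agent.Lib.H13.HypPairs

theorem hypPair_plus {F : Type*} [Field F] (m : ℕ) (j : Fin m) :
    IsHypPair (plusQF F m) (Sum.inl j) (Sum.inr j) where
  ne := by simp
  Qa := by
    rw [plusQF_apply, Cfsg.quadFormPlus]
    simp
  Qb := by
    rw [plusQF_apply, Cfsg.quadFormPlus]
    simp
  pa := by
    intro x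
    rw [Cfsg.Agent.S0287.coe_plusQF, polar_quadFormPlus_formula]
    simp [Pi.single_apply, Finset.sum_ite_eq']
  pb := by
    intro x
    rw [Cfsg.Agent.S0287.coe_plusQF, polar_quadFormPlus_formula]
    simp [Pi.single_apply, Finset.sum_ite_eq']

theorem result {F : Type*} [Field F] [Fintype F] {q : ℕ} (hF : Fintype.card F = q) (hq : Odd q) {m : ℕ} (i : ℕ) (hi : 1 ≤ i) (him : i ≤ m) : (∃ g : ↥(Cfsg.isometryGroup F (Cfsg.quadFormPlus m F)), g ∈ Cfsg.Omega F (Cfsg.quadFormPlus m F) ∧ ((g : Matrix.GeneralLinearGroup (Fin m ⊕ Fin m) F) : Matrix (Fin m ⊕ Fin m) (Fin m ⊕ Fin m) F) = Matrix.diagonal (fun k : Fin m ⊕ Fin m => if (Sum.elim (fun j : Fin m => (j : ℕ)) (fun j : Fin m => (j : ℕ)) k) < i then (-1 : F) else 1)) ↔ q ^ i % 4 = 1 := by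
  classical
  have h2 : (2 : F) ≠ 0 := two_ne_zero_of_odd_card hF hq
  have hm : 0 < m := by omega
  have key := hyp_pairs_crit (plusQF F m) h2 (by simp; omega) (Cfsg.Agent.S0287.nondeg m)
    (Sum.elim (fun j : Fin m => (j : ℕ)) (fun j : Fin m => (j : ℕ))) i
    (fun j => Sum.inl ⟨j % m, Nat.mod_lt _ hm⟩) (fun j => Sum.inr ⟨j % m, Nat.mod_lt _ hm⟩)
    (fun j _ => hypPair_plus m _) ?_
  · rw [Cfsg.Agent.S0287.coe_plusQF] at key
    rw [key, isSquare_neg_one_pow_iff hF hq]
  · intro j hj k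
    have hjm : j % m = j := Nat.mod_eq_of_lt (by omega)
    rcases k with k | k
    · simp only [Sum.elim_inl, Sum.inl.injEq, reduceCtorEq, or_false]
      constructor
      · intro h
        apply Fin.ext
        simp [hjm, h]
      · intro h
        rw [h]
        simp [hjm]
    · simp only [Sum.elim_inr, Sum.inr.injEq, reduceCtorEq, false_or]
      constructor
      · intro h
        apply Fin.ext
        simp [hjm, h]
      · intro h
        rw [h]
        simp [hjm]

end Cfsg.Agent.S2613
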