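import Cfsg.Statements.S2615
import Cfsg.Agent.Lib.H13.HypPairs
import Cfsg.Agent.S0288

set_option autoImplicit false
open Cfsg

namespace Cfsg.Agent.S2615

open Cfsg.Agent.Lib.H13 Cfsg.Agent.Lib.H13.HypPairs Cfsg.Agent.S0288

theorem hypPair_minus {F : Type*} [Field F] (m : ℕ) (a b : F) (j : Fin m) :
    IsHypPair (minusQF F m a b) (Sum.inl (Sum.inl j)) (Sum.inl (Sum.inr j)) where
  ne := by simp
  Qa := by
    rw [minusQF_apply, Cfsg.quadFormMinus]
    simp
  Qb := by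
    rw [minusQF_apply, Cfsg.quadFormMinus]
    simp
  pa := by
    intro x
    rw [coe_minusQF, polar_quadFormMinus_formula]
    simp [Pi.single_apply, Finset.sum_ite_eq']
  pb := by
    intro x
    rw [coe_minusQF, polar_quadFormMinus_formula]
    simp [Pi.single_apply, Finset.sum_ite_eq']

theorem result {F : Type*} [Field F] [Fintype F] {q : ℕ} (hF : Fintype.card F = q) (hq : Odd q) {m : ℕ} (a b : F) (hab : ∀ z₁ z₂ : F, z₁ ^ 2 + a * z₁ * z₂ + b * z₂ ^ 2 = 0 → z₁ = 0 ∧ z₂ = 0) (i : ℕ) (hi : 1 ≤ i) (him : i + 1 ≤ m) : (∃ g : ↥(Cfsg.isometryGroup F (Cfsg.quadFormMinus (m - 1) F a b)), g ∈ Cfsg.Omega F (Cfsg.quadFormMinus (m - 1) F a b) ∧ ((g : Matrix.GeneralLinearGroup ((Fin (m - 1) ⊕ Fin (m - 1)) ⊕ Fin 2) F) : Matrix ((Fin (m - 1) ⊕ Fin (m - 1)) ⊕ Fin 2) ((Fin (m - 1) ⊕ Fin (m - 1)) ⊕ Fin 2) F) = Matrix.diagonal (fun k : (Fin (m - 1) ⊕ Fin (m - 1)) ⊕ Fin 2 => if (Sum.elim (Sum.elim (fun j : Fin (m - 1) => (j : ℕ)) (fun j : Fin (m -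 1) => (j : ℕ))) (fun _ : Fin 2 => i) k) < i then (-1 : F) else 1)) ↔ q ^ i % 4 = 1 := by
  classical
  have h2 : (2 : F) ≠ 0 := two_ne_zero_of_odd_card hF hq
  have hm : 0 < m - 1 := by omega
  have key := hyp_pairs_crit (minusQF F (m - 1) a b) h2 (by simp)
    (Cfsg.Agent.S0288.nondeg a b hab (m - 1))
    (Sum.elim (Sum.elim (fun j : Fin (m - 1) => (j : ℕ)) (fun j : Fin (m - 1) => (j : ℕ)))
      (fun _ : Fin 2 => i)) i
    (fun j => Sum.inl (Sum.inl ⟨j % (m - 1), Nat.mod_lt _ hm⟩))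
    (fun j => Sum.inl (Sum.inr ⟨j % (m - 1), Nat.mod_lt _ hm⟩))
    (fun j _ => hypPair_minus (m - 1) a b _) ?_
  · rw [coe_minusQF] at key
    rw [key, isSquare_neg_one_pow_iff hF hq]
  · intro j hj k
    have hjm : j % (m - 1) = j := Nat.mod_eq_of_lt (by omega)
    rcases k with (k | k) | k
    · simp only [Sum.elim_inl, Sum.inl.injEq, reduceCtorEq, or_false]
      constructor
      · intro h
        apply Fin.ext
        simp [hjm, h]
      · intro h
        rw [h]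
        simp [hjm]
    · simp only [Sum.elim_inr, Sum.elim_inl, Sum.inr.injEq, Sum.inl.injEq, reduceCtorEq, false_or]
      constructor
      · intro h
        apply Fin.ext
        simp [hjm, h]
      · intro h
        rw [h]
        simp [hjm]
    · simp only [Sum.elim_inr, reduceCtorEq, or_false]
      constructor
      · intro h; omega
      · intro h; exact h.elim

end Cfsg.Agent.S2615
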