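import Cfsg.Statements.S2618
import Cfsg.Agent.Lib.H13.Witt

set_option autoImplicit false
open Cfsg

namespace Cfsg.Agent.S2618

open Cfsg.Agent.Lib.H13

theorem result {F V : Type*} [Field F] [Finite F] [AddCommGroup V] [Module F V] [FiniteDimensional F V] {m : ℕ} (hV : Module.finrank F V = 2 * m + 1) (Q : QuadraticForm F V) (hQ : (QuadraticMap.polarBilin Q).Nondegenerate) : ∃ b : Module.Basis (Unit ⊕ (Fin m ⊕ Fin m)) F V, Q (b (Sum.inl ())) ≠ 0 ∧ (∀ i, QuadraticMap.polar ⇑Q (b (Sum.inl ())) (b (Sum.inr (Sum.inl i))) = 0 ∧ QuadraticMap.polar ⇑Q (b (Sum.inl ())) (b (Sum.inr (Sum.inr i))) = 0) ∧ (∀ i, Q (b (Sum.inr (Sum.inl i))) = 0 ∧ Q (b (Sum.inr (Sum.inr i))) = 0) ∧ (∀ i j, QuadraticMap.polar ⇑Q (b (Sum.inr (Sum.inl i))) (b (Sum.inr (Sum.inr j))) = if i = j then 1 else 0) ∧ (∀ i j, QuadraticMap.polar ⇑Q (b (Sum.inr (Sum.inl i))) (b (Sum.inr (Sum.inl j))) = 0 ∧ QuadraticMap.polar ⇑Q (b (Sum.inr (Sum.inr i))) (b (Sum.inr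 (Sum.inr j))) = 0) := by
  obtain ⟨k, r, b, hstd, htail, hdim⟩ := witt Q hQ
  match r, b, hstd, htail, hdim with
  | 0, _, _, _, hdim => omega
  | 1, b, hstd, htail, hdim =>
    obtain rfl : k = m := by omega
    let e : (Fin k ⊕ Fin k) ⊕ Fin 1 ≃ Unit ⊕ (Fin k ⊕ Fin k) :=
      (Equiv.sumComm _ _).trans (Equiv.sumCongr (Equiv.ofUnique (Fin 1) Unit) (Equiv.refl _))
    have he1 : ∀ x, e.symm (Sum.inr x) = Sum.inl x := fun x => rfl
    have he2 : e.symm (Sum.inl ()) = Sum.inr 0 := by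
      rw [Equiv.symm_apply_eq]
      rfl
    refine ⟨b.reindex e, ?_, ?_, ?_, ?_, ?_⟩
    · simp only [Module.Basis.reindex_apply, he2]
      exact htail
    · intro i
      simp only [Module.Basis.reindex_apply, he1, he2]
      rw [QuadraticMap.polar_comm, QuadraticMap.polar_comm _ _ (b (Sum.inl (Sum.inr i)))]
      exact ⟨hstd.orth_l i 0, hstd.orth_r i 0⟩
    · intro i
      simp only [Module.Basis.reindex_apply, he1]
      exact ⟨hstd.sing_l i, hstd.sing_r i⟩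
    · intro i j
      simp only [Module.Basis.reindex_apply, he1]
      exact hstd.pair i j
    · intro i j
      simp only [Module.Basis.reindex_apply, he1]
      exact ⟨hstd.iso_l i j, hstd.iso_r i j⟩
  | 2, _, _, _, hdim => omega
  | _ + 3, _, _, htail, _ => exact htail.elim

end Cfsg.Agent.S2618
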