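import Cfsg.Statements.S2619

set_option autoImplicit false
open Cfsg

namespace Cfsg.Agent.S2619

open LinearMap (BilinForm)

theorem toBilin_basis {F V ι : Type*} [Field F] [AddCommGroup V] [Module F V] [Fintype ι] [DecidableEq ι]
    (b : Module.Basis ι F V) (M : Matrix ι ι F) (i j : ι) : Matrix.toBilin b M (b i) (b j) = M i j := by
  have h := LinearMap.BilinForm.toMatrix_toBilin b M
  have h2 := congrFun (congrFun h i) j
  rwa [LinearMap.BilinForm.toMatrix_apply] at h2

theorem uniq {F V ι : Type*} [Field F] [AddCommGroup V] [Module F V] [Fintype ι]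
    (b : Module.Basis ι F V) (Q Q' : QuadraticForm F V)
    (hpol : ∀ x y, QuadraticMap.polar Q x y = QuadraticMap.polar Q' x y)
    (hb : ∀ i, Q (b i) = Q' (b i)) : Q = Q' := by
  classical
  ext v
  have key : ∀ (s : Finset ι) (a : ι → F), Q (∑ i ∈ s, a i • b i) = Q' (∑ i ∈ s, a i • b i) := by
    intro s a
    induction s using Finset.induction_on with
    | empty => simp
    | insert i s his ih =>
      rw [Finset.sum_insert his, QuadraticMap.map_add (⇑Q), QuadraticMap.map_add (⇑Q'), ih, hpol,
        QuadraticMap.map_smul, QuadraticMap.map_smul, hb]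
  rw [← b.sum_repr v]
  exact key Finset.univ _

theorem result {F V ι : Type*} [Field F] [Finite F] [CharP F 2] [AddCommGroup V] [Module F V] [Fintype ι] (b : Module.Basis ι F V) (B : LinearMap.BilinForm F V) (hB : B.IsAlt) (c : ι → F) : ∃! Q : QuadraticForm F V, QuadraticMap.polarBilin Q = B ∧ ∀ i, Q (b i) = c i := by
  classical
  -- a linear order on ι
  letI : LinearOrder ι := LinearOrder.lift' (Fintype.equivFin ι) (Fintype.equivFin ι).injective
  let M : Matrix ι ι F := fun i j => if i < j then B (b i) (b j) else if i = j then c i else 0
  let B' : LinearMap.BilinForm F V := Matrix.toBilin b M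
  have h2 : (2 : F) = 0 := CharTwo.two_eq_zero
  have hsymm : ∀ x y, B x y = B y x := by
    intro x y
    have := hB.neg_eq x y
    rw [← this]
    exact (CharTwo.neg_eq (B x y)).symm
  refine ⟨LinearMap.BilinMap.toQuadraticMap B', ⟨?_, ?_⟩, ?_⟩
  · rw [LinearMap.BilinMap.polarBilin_toQuadraticMap]
    apply LinearMap.BilinForm.ext_basis b
    intro i j
    simp only [LinearMap.add_apply, LinearMap.flip_apply]
    show Matrix.toBilin b M (b i) (b j) + Matrix.toBilin b M (b j) (b i) = _
    rw [toBilin_basis, toBilin_basis]
    rcases lt_trichotomy i j with h | h | h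
    · simp only [M, h, if_true, not_lt_of_gt h, if_false, h.ne', add_zero]
    · subst h
      simp only [M, lt_irrefl, if_false, if_true]
      rw [hB.self_eq_zero]
      rw [← two_mul, h2, zero_mul]
    · simp only [M, h, if_true, not_lt_of_gt h, if_false, h.ne', zero_add]
      exact hsymm _ _
  · intro i
    rw [LinearMap.BilinMap.toQuadraticMap_apply]
    show Matrix.toBilin b M (b i) (b i) = _
    rw [toBilin_basis]
    simp [M]
  · rintro Q' ⟨hQ'1, hQ'2⟩
    apply uniq b
    · intro x y
      have h1 : QuadraticMap.polarBilin Q' x y = B x y := by rw [hQ'1]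
      have h3 : QuadraticMap.polarBilin (LinearMap.BilinMap.toQuadraticMap B') x y = B x y := by
        rw [LinearMap.BilinMap.polarBilin_toQuadraticMap]
        have : B' + LinearMap.flip B' = B := by
          apply LinearMap.BilinForm.ext_basis b
          intro i j
          simp only [LinearMap.add_apply, LinearMap.flip_apply]
          show Matrix.toBilin b M (b i) (b j) + Matrix.toBilin b M (b j) (b i) = _
          rw [toBilin_basis, toBilin_basis]
          rcases lt_trichotomy i j with h | h | h
          · simp only [M, h, if_true, not_lt_of_gt h, if_false, h.ne', add_zero]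
          · subst h
            simp only [M, lt_irrefl, if_false, if_true]
            rw [hB.self_eq_zero]
            rw [← two_mul, h2, zero_mul]
          · simp only [M, h, if_true, not_lt_of_gt h, if_false, h.ne', zero_add]
            exact hsymm _ _
        rw [this]
      simp only [QuadraticMap.polarBilin_apply_apply] at h1 h3
      rw [h1, h3]
    · intro i
      rw [hQ'2, LinearMap.BilinMap.toQuadraticMap_apply]
      show c i = Matrix.toBilin b M (b i) (b i)
      rw [toBilin_basis]
      simp [M]

end Cfsg.Agent.S2619
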