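import Cfsg.Statements.S2621
import Cfsg.Agent.Lib.H13.Disc

set_option autoImplicit false
open Cfsg

namespace Cfsg.Agent.S2621

open Cfsg.Agent.Lib.H13

theorem result {F : Type*} [Field F] [Fintype F] {q : ℕ} (hF : Fintype.card F = q) (hq : Odd q) {m : ℕ} (hm : 1 ≤ m) (a c : F) (hac : ∀ z₁ z₂ : F, z₁ ^ 2 + a * z₁ * z₂ + c * z₂ ^ 2 = 0 → z₁ = 0 ∧ z₂ = 0) {ι : Type*} [Fintype ι] [DecidableEq ι] (b : Module.Basis ι F ((Fin (m - 1) ⊕ Fin (m - 1)) ⊕ Fin 2 → F)) : IsSquare (Matrix.of (fun i j : ι => QuadraticMap.polar (Cfsg.quadFormMinus (m - 1) F a c) (b i) (b j))).det ↔ ¬ Even (m * (q - 1) / 2) := by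
  classical
  subst hF
  obtain ⟨d, hd0, hd⟩ := gram_det_basis (Cfsg.quadFormMinus (m - 1) F a c) (Matrix.toBilin' (gramMinus (m - 1) F a c))
    (polar_quadFormMinus (m - 1) a c) b
  rw [hd, isSquare_sq_mul_iff d _ hd0, toMatrix'_toBilin'_det, det_gramMinus]
  have h2 : (2 : F) ≠ 0 := by
    intro h
    have hchar : ringChar F = 2 := by
      have hdvd : ringChar F ∣ 2 := by
        have := (ringChar.spec F 2).mp (by exact_mod_cast h)
        exact this
      rcases (Nat.dvd_prime Nat.prime_two).mp hdvd with h1 | h1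
      · exfalso
        have := CharP.ringChar_ne_one (R := F)
        exact this h1
      · exact h1
    have := FiniteField.even_card_of_char_two hchar
    rcases hq with ⟨k, hk⟩
    omega
  have hns := disc_nonsquare h2 a c hac
  have heq : (-1 : F) ^ (m - 1) * (4 * c - a ^ 2) = (-1) ^ m * (a ^ 2 - 4 * c) := by
    obtain ⟨m', rfl⟩ : ∃ m', m = m' + 1 := ⟨m - 1, by omega⟩
    simp only [Nat.add_sub_cancel, pow_succ]
    ring
  rw [heq, isSquare_mul_nonsquare_iff (pow_ne_zero _ (neg_ne_zero.mpr one_ne_zero)) hns,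
    neg_one_pow_isSquare_iff hq m]

end Cfsg.Agent.S2621
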