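import Cfsg.Statements.S2623
import Cfsg.Agent.Lib.H13.QuadExt
import Cfsg.Agent.Lib.H13.Disc

set_option autoImplicit false
open Cfsg

namespace Cfsg.Agent.S2623

open Cfsg.Agent.Lib.H13 Module QuadraticMap

section
variable {F : Type*} [Field F]

theorem gram_std_det {V : Type*} [AddCommGroup V] [Module F V] {k r : ℕ} (Q : QuadraticForm F V)
    (b : Basis ((Fin k ⊕ Fin k) ⊕ Fin r) F V) (hstd : IsStd Q b) :
    (Matrix.of (fun x y => polar Q (b x) (b y))).det =
      (-1) ^ k * (Matrix.of (fun j j' : Fin r => polar Q (b (.inr j)) (b (.inr j')))).det := by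
  have : Matrix.of (fun x y => polar Q (b x) (b y)) =
      Matrix.fromBlocks (Matrix.fromBlocks 0 1 1 0) 0 0
        (Matrix.of (fun j j' : Fin r => polar Q (b (.inr j)) (b (.inr j')))) := by
    ext x y
    rcases x with (i | i) | j <;> rcases y with (i' | i') | j'
    · simp [hstd.iso_l]
    · simp [hstd.pair, Matrix.one_apply]
    · simp [hstd.orth_l]
    · rw [Matrix.of_apply, polar_comm, hstd.pair]; simp [Matrix.one_apply, eq_comm]
    · simp [hstd.iso_r]
    · simp [hstd.orth_r]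
    · rw [Matrix.of_apply, polar_comm, hstd.orth_l]; simp
    · rw [Matrix.of_apply, polar_comm, hstd.orth_r]; simp
    · simp
  rw [this, Matrix.det_fromBlocks_zero₂₁, det_hyp]

theorem iso_of_gram {V₁ V₂ ι : Type*} (h2 : (2 : F) ≠ 0) [AddCommGroup V₁] [Module F V₁]
    [AddCommGroup V₂] [Module F V₂] (Q₁ : QuadraticForm F V₁) (Q₂ : QuadraticForm F V₂)
    (b₁ : Basis ι F V₁) (c : ι → V₂)
    (h : ∀ i j, polar Q₂ (c i) (c j) = polar Q₁ (b₁ i) (b₁ j)) :
    ∀ v, Q₂ (b₁.constr F c v) = Q₁ v := by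
  set g := b₁.constr F c with hgdef
  have hg : ∀ i, g (b₁ i) = c i := fun i => b₁.constr_basis F c i
  have key : Q₂.comp g = Q₁ := by
    apply quadraticMap_ext_basis b₁
    · intro i
      rw [comp_apply, hg]
      have := h i i
      rw [polar_self, polar_self] at this
      simp only [nsmul_eq_mul, Nat.cast_ofNat] at this
      exact mul_left_cancel₀ h2 this
    · intro i j
      rw [← h i j, ← hg i, ← hg j]
      simp only [polar, comp_apply, map_add]
  intro v
  rw [← key]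
  rfl

theorem exists_isometry_of_std {V₁ V₂ : Type*} (h2 : (2 : F) ≠ 0) [AddCommGroup V₁] [Module F V₁]
    [AddCommGroup V₂] [Module F V₂] {k r : ℕ} (Q₁ : QuadraticForm F V₁) (Q₂ : QuadraticForm F V₂)
    (b₁ : Basis ((Fin k ⊕ Fin k) ⊕ Fin r) F V₁) (b₂ : Basis ((Fin k ⊕ Fin k) ⊕ Fin r) F V₂)
    (hstd₁ : IsStd Q₁ b₁) (hstd₂ : IsStd Q₂ b₂) (t : Fin r → V₂)
    (ht : ∀ j j', polar Q₂ (t j) (t j') = polar Q₁ (b₁ (.inr j)) (b₁ (.inr j')))
    (ht3 : ∀ i j, polar Q₂ (b₂ (.inl (.inl i))) (t j) = 0 ∧ polar Q₂ (b₂ (.inl (.inr i))) (t j) = 0) :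
    ∃ g : V₁ →ₗ[F] V₂, ∀ v, Q₂ (g v) = Q₁ v := by
  let c : (Fin k ⊕ Fin k) ⊕ Fin r → V₂ := fun idx =>
    match idx with
    | .inl x => b₂ (.inl x)
    | .inr j => t j
  refine ⟨b₁.constr F c, iso_of_gram h2 Q₁ Q₂ b₁ c ?_⟩
  rintro ((i | i) | j) ((i' | i') | j')
  · show polar Q₂ (b₂ (.inl (.inl i))) (b₂ (.inl (.inl i'))) = _
    rw [hstd₂.iso_l, hstd₁.iso_l]
  · show polar Q₂ (b₂ (.inl (.inl i))) (b₂ (.inl (.inr i'))) = _
    rw [hstd₂.pair, hstd₁.pair]
  · show polar Q₂ (b₂ (.inl (.inl i))) (t j') = _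
    rw [(ht3 i j').1, hstd₁.orth_l]
  · show polar Q₂ (b₂ (.inl (.inr i))) (b₂ (.inl (.inl i'))) = _
    rw [polar_comm, hstd₂.pair, polar_comm Q₁, hstd₁.pair]
  · show polar Q₂ (b₂ (.inl (.inr i))) (b₂ (.inl (.inr i'))) = _
    rw [hstd₂.iso_r, hstd₁.iso_r]
  · show polar Q₂ (b₂ (.inl (.inr i))) (t j') = _
    rw [(ht3 i j').2, hstd₁.orth_r]
  · show polar Q₂ (t j) (b₂ (.inl (.inl i'))) = _
    rw [polar_comm, (ht3 i' j).1, polar_comm Q₁, hstd₁.orth_l]
  · show polar Q₂ (t j) (b₂ (.inl (.inr i'))) = _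
    rw [polar_comm, (ht3 i' j).2, polar_comm Q₁, hstd₁.orth_r]
  · exact ht j j'

theorem aniso_of_irred (ζ : F) (hζ : ∀ t : F, t ^ 2 + t + ζ ≠ 0) :
    ∀ z₁ z₂ : F, z₁ ^ 2 + 1 * z₁ * z₂ + ζ * z₂ ^ 2 = 0 → z₁ = 0 ∧ z₂ = 0 := by
  intro s t hp
  have ht : t = 0 := by
    by_contra ht
    apply hζ (s / t)
    field_simp
    linear_combination hp
  subst ht
  have hs : s = 0 := by
    have : s * s = 0 := by linear_combination hp
    exact mul_self_eq_zero.mp this
  exact ⟨hs, rfl⟩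

theorem nonsq_of_irred (h2 : (2 : F) ≠ 0) (ζ : F) (hζ : ∀ t : F, t ^ 2 + t + ζ ≠ 0) :
    ¬ IsSquare (1 - 4 * ζ) := by
  have := disc_nonsquare h2 1 ζ (aniso_of_irred ζ hζ)
  simpa using this

theorem neg_one_pow_mul_self (k : ℕ) : ((-1 : F) ^ k) * ((-1 : F) ^ k) = 1 := by
  rw [← mul_pow]; simp

end

theorem result {F : Type*} [Field F] [Fintype F] (h2 : (2 : F) ≠ 0) {n : ℕ} (Q₁ Q₂ : QuadraticForm F (Fin n → F)) (h₁ : (QuadraticMap.polarBilin Q₁).Nondegenerate) (h₂ : (QuadraticMap.polarBilin Q₂).Nondegenerate) : (∃ g : (Fin n → F) ≃ₗ[F] (Fin n → F), ∀ v, Q₂ (g v) = Q₁ v) ↔ IsSquare ((Matrix.of (fun i j : Fin n => QuadraticMap.polar ⇑Q₁ (Pi.single i 1) (Pi.single j 1))).det * (Matrix.of (fun i j : Fin n => QuadraticMap.polar ⇑Q₂ (Pi.single i 1) (Pi.single j 1))).det) := by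
  classical
  have hG : ∀ Q : QuadraticForm F (Fin n → F),
      Matrix.of (fun i j : Fin n => polar Q (Pi.single i 1) (Pi.single j 1)) =
        LinearMap.BilinForm.toMatrix' (polarBilin Q) := by
    intro Q
    ext i j
    simp [LinearMap.BilinForm.toMatrix'_apply]
  rw [hG Q₁, hG Q₂]
  constructor
  · rintro ⟨g, hg⟩
    let b : Basis (Fin n) F (Fin n → F) := (Pi.basisFun F (Fin n)).map g
    obtain ⟨d, hd, hdet⟩ := gram_det_basis (⇑Q₂) (polarBilin Q₂) (fun _ _ => rfl) b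
    have hgram : Matrix.of (fun i j : Fin n => polar Q₂ (b i) (b j)) =
        LinearMap.BilinForm.toMatrix' (polarBilin Q₁) := by
      rw [← hG Q₁]
      ext i j
      simp only [Matrix.of_apply, b, Basis.map_apply, Pi.basisFun_apply]
      simp only [polar, ← map_add, hg]
    rw [hgram] at hdet
    rw [hdet]
    exact ⟨d * (LinearMap.BilinForm.toMatrix' (polarBilin Q₂)).det, by ring⟩
  · intro hsq
    obtain ⟨k₁, r₁, b₁, hstd₁, htail₁, hdim₁⟩ := witt Q₁ h₁
    obtain ⟨k₂, r₂, b₂, hstd₂, htail₂, hdim₂⟩ := witt Q₂ h₂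
    obtain ⟨d₁, hd₁, hdet₁⟩ := gram_det_basis (⇑Q₁) (polarBilin Q₁) (fun _ _ => rfl) b₁
    obtain ⟨d₂, hd₂, hdet₂⟩ := gram_det_basis (⇑Q₂) (polarBilin Q₂) (fun _ _ => rfl) b₂
    rw [gram_std_det Q₁ b₁ hstd₁] at hdet₁
    rw [gram_std_det Q₂ b₂ hstd₂] at hdet₂
    have hsq' : IsSquare (((-1) ^ k₁ * (Matrix.of (fun j j' : Fin r₁ =>
        polar Q₁ (b₁ (.inr j)) (b₁ (.inr j')))).det) * ((-1) ^ k₂ * (Matrix.of (fun j j' : Fin r₂ =>
        polar Q₂ (b₂ (.inr j)) (b₂ (.inr j')))).det)) := by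
      rw [hdet₁, hdet₂]
      obtain ⟨s, hs⟩ := hsq
      exact ⟨d₁ * d₂ * s, by
        calc _ = d₁ * d₁ * (d₂ * d₂) * ((LinearMap.BilinForm.toMatrix' (polarBilin Q₁)).det *
            (LinearMap.BilinForm.toMatrix' (polarBilin Q₂)).det) := by ring
          _ = _ := by rw [hs]; ring⟩
    have hfin : finrank F (Fin n → F) = n := by simp
    suffices h : ∃ g : (Fin n → F) →ₗ[F] (Fin n → F), ∀ v, Q₂ (g v) = Q₁ v by
      obtain ⟨g, hg⟩ := h
      have hinj : Function.Injective g := by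
        rw [← LinearMap.ker_eq_bot, LinearMap.ker_eq_bot']
        intro v hv
        apply h₁.1 v
        intro w
        have h1 : polar Q₂ (g v) (g w) = polar Q₁ v w := by
          simp only [polar, ← map_add, hg]
        rw [hv, polar_zero_left] at h1
        exact h1.symm
      exact ⟨LinearEquiv.ofInjectiveEndo g hinj, hg⟩
    clear hdet₁ hdet₂ hsq
    match r₁, b₁, hstd₁, htail₁, hdim₁, r₂, b₂, hstd₂, htail₂, hdim₂, hsq' with
    | 0, b₁, hstd₁, _, hdim₁, 0, b₂, hstd₂, _, hdim₂, _ =>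
      obtain rfl : k₁ = k₂ := by omega
      exact exists_isometry_of_std h2 Q₁ Q₂ b₁ b₂ hstd₁ hstd₂ Fin.elim0 (fun j => j.elim0)
        (fun i j => j.elim0)
    | 0, _, _, _, hdim₁, 1, _, _, _, hdim₂, _ => omega
    | 0, b₁, hstd₁, _, hdim₁, 2, b₂, hstd₂, htail₂, hdim₂, hsq' =>
      exfalso
      obtain ⟨ζ, hζ, hx, hxy, hy⟩ := htail₂
      obtain rfl : k₁ = k₂ + 1 := by omega
      apply nonsq_of_irred h2 ζ hζ
      rw [Matrix.det_fin_two, Matrix.det_isEmpty] at hsq'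
      simp only [Matrix.of_apply, polar_self, hx, hy, hxy, polar_comm Q₂ (b₂ (.inr 1)) (b₂ (.inr 0)),
        nsmul_eq_mul, Nat.cast_ofNat, mul_one] at hsq'
      have he : (-1 : F) ^ (k₂ + 1) * ((-1) ^ k₂ * (2 * (2 * ζ) - 1)) = 1 - 4 * ζ := by
        rw [pow_succ]
        linear_combination (-(4 * ζ - 1)) * neg_one_pow_mul_self (F := F) k₂
      rw [he] at hsq'
      exact hsq'
    | 1, _, _, _, hdim₁, 0, _, _, _, hdim₂, _ => omega
    | 1, b₁, hstd₁, htail₁, hdim₁, 1, b₂, hstd₂, htail₂, hdim₂, hsq' =>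
      obtain rfl : k₁ = k₂ := by omega
      have ha₁ : Q₁ (b₁ (.inr 0)) ≠ 0 := htail₁
      have ha₂ : Q₂ (b₂ (.inr 0)) ≠ 0 := htail₂
      set a₁ := Q₁ (b₁ (.inr 0)) with ha₁def
      set a₂ := Q₂ (b₂ (.inr 0)) with ha₂def
      rw [Matrix.det_unique, Matrix.det_unique] at hsq'
      simp only [Matrix.of_apply, Fin.default_eq_zero, polar_self, nsmul_eq_mul, Nat.cast_ofNat] at hsq'
      obtain ⟨s, hs⟩ := hsq'
      rw [← ha₁def, ← ha₂def] at hs
      have hs' : s * s = 4 * (a₁ * a₂) := by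
        have := neg_one_pow_mul_self (F := F) k₁
        linear_combination (4 * a₁ * a₂) * this - hs
      set lam := (s / 2) / a₂ with hlam
      have hlam2 : lam * lam * a₂ = a₁ := by
        rw [hlam]
        field_simp
        first | linear_combination hs' | linear_combination (-1 : F) * hs'
      refine exists_isometry_of_std h2 Q₁ Q₂ b₁ b₂ hstd₁ hstd₂ (fun _ => lam • b₂ (.inr 0)) ?_ ?_
      · intro j j'
        have hj : j = 0 := Subsingleton.elim _ _
        have hj' : j' = 0 := Subsingleton.elim _ _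
        subst hj hj'
        rw [polar_smul_left, polar_smul_right, polar_self, polar_self]
        simp only [nsmul_eq_mul, Nat.cast_ofNat, smul_eq_mul]
        rw [← ha₁def, ← ha₂def]
        linear_combination 2 * hlam2
      · intro i j
        rw [polar_smul_right, polar_smul_right, hstd₂.orth_l, hstd₂.orth_r]
        simp
    | 1, _, _, _, hdim₁, 2, _, _, _, hdim₂, _ => omega
    | 2, b₁, hstd₁, htail₁, hdim₁, 0, b₂, hstd₂, _, hdim₂, hsq' =>
      exfalso
      obtain ⟨ζ, hζ, hx, hxy, hy⟩ := htail₁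
      obtain rfl : k₂ = k₁ + 1 := by omega
      apply nonsq_of_irred h2 ζ hζ
      rw [Matrix.det_fin_two, Matrix.det_isEmpty] at hsq'
      simp only [Matrix.of_apply, polar_self, hx, hy, hxy, polar_comm Q₁ (b₁ (.inr 1)) (b₁ (.inr 0)),
        nsmul_eq_mul, Nat.cast_ofNat, mul_one] at hsq'
      have he : (-1 : F) ^ k₁ * (2 * (2 * ζ) - 1) * (-1) ^ (k₁ + 1) = 1 - 4 * ζ := by
        rw [pow_succ]
        linear_combination (-(4 * ζ - 1)) * neg_one_pow_mul_self (F := F) k₁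
      rw [he] at hsq'
      exact hsq'
    | 2, _, _, _, hdim₁, 1, _, _, _, hdim₂, _ => omega
    | 2, b₁, hstd₁, htail₁, hdim₁, 2, b₂, hstd₂, htail₂, hdim₂, _ =>
      obtain rfl : k₁ = k₂ := by omega
      obtain ⟨ζ₁, hζ₁, hx₁, hxy₁, hy₁⟩ := htail₁
      obtain ⟨ζ₂, hζ₂, hx₂, hxy₂, hy₂⟩ := htail₂
      have hn₁ := nonsq_of_irred h2 ζ₁ hζ₁
      have hn₂ := nonsq_of_irred h2 ζ₂ hζ₂
      have hne₁ : (1 - 4 * ζ₁) ≠ 0 := by
        intro h0; apply hn₁; rw [h0]; exact ⟨0, by simp⟩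
      have hne₂ : (1 - 4 * ζ₂) ≠ 0 := by
        intro h0; apply hn₂; rw [h0]; exact ⟨0, by simp⟩
      obtain ⟨s, hs⟩ := (isSquare_mul_nonsquare_iff hne₁ hn₂).mpr hn₁
      set lam := s / (1 - 4 * ζ₂) with hlam
      have hlam2 : lam * lam * (1 - 4 * ζ₂) = 1 - 4 * ζ₁ := by
        rw [hlam]
        field_simp
        linear_combination (-1 : F) * hs
      set mu := (1 - lam) / 2 with hmu
      have hmu2 : 2 * mu + lam = 1 := by
        rw [hmu]; field_simp; ring
      set x₂ := b₂ (.inr 0) with hx₂def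
      set y₂ := b₂ (.inr 1) with hy₂def
      refine exists_isometry_of_std h2 Q₁ Q₂ b₁ b₂ hstd₁ hstd₂ ![x₂, mu • x₂ + lam • y₂] ?_ ?_
      · have h00 : polar Q₂ x₂ x₂ = 2 := by
          rw [polar_self, hx₂]; simp
        have h01 : polar Q₂ x₂ (mu • x₂ + lam • y₂) = 1 := by
          rw [polar_add_right, polar_smul_right, polar_smul_right, h00, hxy₂]
          simp only [smul_eq_mul, mul_one]
          linear_combination hmu2
        have h11 : polar Q₂ (mu • x₂ + lam • y₂) (mu • x₂ + lam • y₂) = 2 * ζ₁ := by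
          rw [polar_self]
          simp only [nsmul_eq_mul, Nat.cast_ofNat]
          have hq : Q₂ (mu • x₂ + lam • y₂) = mu * mu + lam * lam * ζ₂ + mu * lam := by
            rw [QuadraticMap.map_add (⇑Q₂), QuadraticMap.map_smul, QuadraticMap.map_smul,
              polar_smul_left, polar_smul_right, hx₂, hy₂, hxy₂]
            simp only [smul_eq_mul]
            ring
          rw [hq]
          have hmu' : mu = (1 - lam) / 2 := hmu
          rw [hmu']
          field_simp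
          linear_combination (-1 : F) * hlam2
        rw [Fin.forall_fin_two]
        constructor
        · rw [Fin.forall_fin_two]
          constructor
          · show polar Q₂ x₂ x₂ = polar Q₁ (b₁ (.inr 0)) (b₁ (.inr 0))
            rw [h00, polar_self, hx₁]; simp
          · show polar Q₂ x₂ (mu • x₂ + lam • y₂) = polar Q₁ (b₁ (.inr 0)) (b₁ (.inr 1))
            rw [h01, hxy₁]
        · rw [Fin.forall_fin_two]
          constructor
          · show polar Q₂ (mu • x₂ + lam • y₂) x₂ = polar Q₁ (b₁ (.inr 1)) (b₁ (.inr 0))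
            rw [polar_comm, h01, polar_comm, hxy₁]
          · show polar Q₂ (mu • x₂ + lam • y₂) (mu • x₂ + lam • y₂) = polar Q₁ (b₁ (.inr 1)) (b₁ (.inr 1))
            rw [h11, polar_self, hy₁]; simp
      · intro i j
        have h0l := hstd₂.orth_l i 0
        have h1l := hstd₂.orth_l i 1
        have h0r := hstd₂.orth_r i 0
        have h1r := hstd₂.orth_r i 1
        revert j
        rw [Fin.forall_fin_two]
        constructor
        · exact ⟨h0l, h0r⟩
        · constructor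
          · show polar Q₂ _ (mu • x₂ + lam • y₂) = 0
            rw [polar_add_right, polar_smul_right, polar_smul_right, h0l, h1l]; simp
          · show polar Q₂ _ (mu • x₂ + lam • y₂) = 0
            rw [polar_add_right, polar_smul_right, polar_smul_right, h0r, h1r]; simp
    | _ + 3, _, _, htail₁, _, _, _, _, _, _, _ => exact htail₁.elim
    | _, _, _, _, _, _ + 3, _, _, htail₂, _, _ => exact htail₂.elim

end Cfsg.Agent.S2623
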