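import Cfsg.Statements.S2624
import Cfsg.Agent.Lib.H13.QuadExt

set_option autoImplicit false
open Cfsg

namespace Cfsg.Agent.S2624

open Cfsg.Agent.Lib.H13 Module QuadraticMap

section
variable {F : Type*} [Field F]

theorem norm_universal [Finite F] (ζ : F) (hζ : ∀ t : F, t ^ 2 + t + ζ ≠ 0) (c : F) :
    ∃ α β : F, α ^ 2 + α * β + ζ * β ^ 2 = c := by
  let N : QuadraticForm F (F × F) :=
    QuadraticMap.linMulLin (LinearMap.fst F F F) (LinearMap.fst F F F) +
      QuadraticMap.linMulLin (LinearMap.fst F F F) (LinearMap.snd F F F) +
      ζ • QuadraticMap.linMulLin (LinearMap.snd F F F) (LinearMap.snd F F F)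
  have hN : ∀ p : F × F, N p = p.1 * p.1 + p.1 * p.2 + ζ * (p.2 * p.2) := by
    intro p
    simp [N]
  have haniso : ∀ p, N p = 0 → p = 0 := by
    rintro ⟨s, t⟩ hp
    rw [hN] at hp
    simp only at hp
    have ht : t = 0 := by
      by_contra ht
      apply hζ (s / t)
      field_simp
      linear_combination hp
    subst ht
    have hs : s = 0 := by
      have : s * s = 0 := by linear_combination hp
      exact mul_self_eq_zero.mp this
    subst hs
    rfl
  obtain ⟨⟨α, β⟩, h⟩ := exists_eq_of_anisotropic N haniso (by simp) c
  rw [hN] at h
  exact ⟨α, β, by simp only at h; linear_combination h⟩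

variable {V : Type*} [AddCommGroup V] [Module F V] (Q : QuadraticForm F V)

theorem Q_lin (a b : F) (x y : V) :
    Q (a • x + b • y) = a * a * Q x + b * b * Q y + a * b * polar Q x y := by
  rw [QuadraticMap.map_add (⇑Q), QuadraticMap.map_smul, QuadraticMap.map_smul, polar_smul_left,
    polar_smul_right]
  simp only [smul_eq_mul]
  ring

theorem polar_lin (a1 b1 a2 b2 : F) (x y : V) :
    polar Q (a1 • x + b1 • y) (a2 • x + b2 • y) =
      a1 * a2 * (2 * Q x) + (a1 * b2 + b1 * a2) * polar Q x y + b1 * b2 * (2 * Q y) := by
  simp only [polar_add_left, polar_add_right, polar_smul_left, polar_smul_right, polar_self,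
    polar_comm Q y x, smul_eq_mul, nsmul_eq_mul, Nat.cast_ofNat]
  ring

end

theorem result {F : Type*} [Field F] [Fintype F] {n : ℕ} (hn : 2 ≤ n) (he : Even n) (Q : QuadraticForm F (Fin n → F)) (hQ : (QuadraticMap.polarBilin Q).Nondegenerate) (c : F) (hc : c ≠ 0) : ∃ g : (Fin n → F) ≃ₗ[F] (Fin n → F), ∀ v, Q (g v) = c * Q v := by
  obtain ⟨k, r, b, hstd, htail, hdim⟩ := witt Q hQ
  have hfin : finrank F (Fin n → F) = n := by simp
  obtain ⟨g, hg⟩ : ∃ g : (Fin n → F) →ₗ[F] (Fin n → F), ∀ v, Q (g v) = c * Q v := by
    match r, b, hstd, htail, hdim with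
    | 0, b, hstd, _, _ =>
      exact exists_similitude_of_std Q b hstd c Fin.elim0 (fun j => j.elim0) (fun j => j.elim0)
        (fun i j => j.elim0)
    | 1, _, _, _, hdim =>
      exfalso
      obtain ⟨a, ha⟩ := he
      omega
    | 2, b, hstd, htail, _ =>
      obtain ⟨ζ, hζ, hx, hxy, hy⟩ := htail
      obtain ⟨α, β, hαβ⟩ := norm_universal ζ hζ c
      set x := b (.inr 0) with hxdef
      set y := b (.inr 1) with hydef
      refine exists_similitude_of_std Q b hstd c
        ![α • x + β • y, (-(β * ζ)) • x + (α + β) • y] ?_ ?_ ?_
      · rw [Fin.forall_fin_two]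
        constructor
        · show Q (α • x + β • y) = c * Q x
          rw [Q_lin, hx, hxy, hy]
          linear_combination hαβ
        · show Q ((-(β * ζ)) • x + (α + β) • y) = c * Q y
          rw [Q_lin, hx, hxy, hy]
          linear_combination ζ * hαβ
      · rw [Fin.forall_fin_two]
        constructor
        · rw [Fin.forall_fin_two]
          constructor
          · show polar Q (α • x + β • y) (α • x + β • y) = c * polar Q x x
            rw [polar_lin, polar_self, hx, hxy, hy]
            simp only [nsmul_eq_mul, Nat.cast_ofNat]
            linear_combination 2 * hαβ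
          · show polar Q (α • x + β • y) ((-(β * ζ)) • x + (α + β) • y) = c * polar Q x y
            rw [polar_lin, hx, hxy, hy]
            linear_combination hαβ
        · rw [Fin.forall_fin_two]
          constructor
          · show polar Q ((-(β * ζ)) • x + (α + β) • y) (α • x + β • y) = c * polar Q y x
            rw [polar_lin, polar_comm Q y x, hx, hxy, hy]
            linear_combination hαβ
          · show polar Q ((-(β * ζ)) • x + (α + β) • y) ((-(β * ζ)) • x + (α + β) • y) = c * polar Q y y
            rw [polar_lin, polar_self, hx, hxy, hy]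
            simp only [nsmul_eq_mul, Nat.cast_ofNat]
            linear_combination 2 * ζ * hαβ
      · intro i j
        have h0l := hstd.orth_l i 0
        have h1l := hstd.orth_l i 1
        have h0r := hstd.orth_r i 0
        have h1r := hstd.orth_r i 1
        revert j
        rw [Fin.forall_fin_two]
        constructor
        · constructor
          · show polar Q _ (α • x + β • y) = 0
            rw [polar_add_right, polar_smul_right, polar_smul_right, h0l, h1l]; simp
          · show polar Q _ (α • x + β • y) = 0
            rw [polar_add_right, polar_smul_right, polar_smul_right, h0r, h1r]; simp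
        · constructor
          · show polar Q _ ((-(β * ζ)) • x + (α + β) • y) = 0
            rw [polar_add_right, polar_smul_right, polar_smul_right, h0l, h1l]; simp
          · show polar Q _ ((-(β * ζ)) • x + (α + β) • y) = 0
            rw [polar_add_right, polar_smul_right, polar_smul_right, h0r, h1r]; simp
    | _ + 3, _, _, htail, _ => exact htail.elim
  have hinj : Function.Injective g := by
    rw [← LinearMap.ker_eq_bot, LinearMap.ker_eq_bot']
    intro v hv
    apply hQ.1 v
    intro w
    have h1 : polar Q (g v) (g w) = c * polar Q v w := by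
      simp only [polar, ← map_add, hg]
      ring
    rw [hv, polar_zero_left] at h1
    have : polar Q v w = 0 := by
      rcases mul_eq_zero.mp h1.symm with h | h
      · exact absurd h hc
      · exact h
    exact this
  exact ⟨LinearEquiv.ofInjectiveEndo g hinj, hg⟩

end Cfsg.Agent.S2624
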