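import Cfsg.Statements.S2625

set_option autoImplicit false
open Cfsg

namespace Cfsg.Agent.S2625

open LinearMap (BilinForm)

theorem result {F : Type*} [Field F] [Fintype F] {n : ℕ} (hn : Odd n) (Q : QuadraticForm F (Fin n → F)) (hQ : (QuadraticMap.polarBilin Q).Nondegenerate) (g : (Fin n → F) ≃ₗ[F] (Fin n → F)) (c : F) (hg : ∀ v, Q (g v) = c * Q v) : IsSquare c := by
  classical
  set B : LinearMap.BilinForm F (Fin n → F) := QuadraticMap.polarBilin Q with hBdef
  have hcomp : B.comp (g : (Fin n → F) →ₗ[F] (Fin n → F)) (g : (Fin n → F) →ₗ[F] (Fin n → F)) = c • B := by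
    refine LinearMap.ext fun v => LinearMap.ext fun w => ?_
    simp only [hBdef, LinearMap.BilinForm.comp_apply, LinearEquiv.coe_coe, QuadraticMap.polarBilin_apply_apply,
      LinearMap.smul_apply, QuadraticMap.polar, smul_eq_mul]
    rw [← map_add, hg, hg, hg]; ring
  have hM : (LinearMap.BilinForm.toMatrix' B).det ≠ 0 := by
    rw [← Matrix.nondegenerate_iff_det_ne_zero]
    exact LinearMap.BilinForm.Nondegenerate.toMatrix' hQ
  have hdet := congrArg (fun X => (LinearMap.BilinForm.toMatrix' X).det) hcomp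
  simp only [LinearMap.BilinForm.toMatrix'_comp, Matrix.det_mul, Matrix.det_transpose, map_smul, Matrix.det_smul,
    Fintype.card_fin] at hdet
  set d := (LinearMap.toMatrix' (g : (Fin n → F) →ₗ[F] (Fin n → F))).det with hd
  have hcn : c ^ n = d * d := by
    have : (c ^ n - d * d) * (LinearMap.BilinForm.toMatrix' B).det = 0 := by
      rw [sub_mul, ← hdet]; ring
    rcases mul_eq_zero.mp this with h | h
    · exact sub_eq_zero.mp h
    · exact absurd h hM
  have hd0 : d ≠ 0 := by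
    have h1 : IsUnit (LinearMap.toMatrix' (g : (Fin n → F) →ₗ[F] (Fin n → F))).det := by
      rw [← Matrix.isUnit_iff_isUnit_det]
      have hgi : (g : (Fin n → F) →ₗ[F] (Fin n → F)) ∘ₗ (g.symm : (Fin n → F) →ₗ[F] (Fin n → F)) = LinearMap.id := by
        ext v; simp
      have hgi' : (g.symm : (Fin n → F) →ₗ[F] (Fin n → F)) ∘ₗ (g : (Fin n → F) →ₗ[F] (Fin n → F)) = LinearMap.id := by
        ext v; simp
      refine ⟨⟨LinearMap.toMatrix' (g : (Fin n → F) →ₗ[F] (Fin n → F)), LinearMap.toMatrix' (g.symm : (Fin n → F) →ₗ[F] (Fin n → F)), ?_, ?_⟩, rfl⟩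
      · rw [← LinearMap.toMatrix'_comp, hgi, LinearMap.toMatrix'_id]
      · rw [← LinearMap.toMatrix'_comp, hgi', LinearMap.toMatrix'_id]
    exact h1.ne_zero
  obtain ⟨k, hk⟩ := hn
  have hc0 : c ≠ 0 := by
    rintro rfl
    rw [hk, zero_pow (by omega)] at hcn
    exact hd0 (mul_self_eq_zero.mp hcn.symm)
  refine ⟨d / c ^ k, ?_⟩
  have hck : c ^ k ≠ 0 := pow_ne_zero _ hc0
  field_simp
  rw [hk] at hcn
  have : d ^ 2 = c ^ (2 * k + 1) := by rw [hcn]; ring
  rw [this]; ring

end Cfsg.Agent.S2625
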