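import Cfsg.Statements.S2626

set_option autoImplicit false
open Cfsg

namespace Cfsg.Agent.S2626

open Matrix

theorem mem_iso_iff {ι : Type} [Fintype ι] [DecidableEq ι] {F : Type*} [Field F] (Q : (ι → F) → F)
    (g : Matrix.GeneralLinearGroup ι F) :
    g ∈ Cfsg.isometryGroup F Q ↔ ∀ u, Q ((g : Matrix ι ι F) *ᵥ u) = Q u :=
  ⟨fun h u => h u u, fun h u _ => h u⟩

/-- a homomorphism maps the commutator subgroup into the commutator subgroup -/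
theorem map_comm {G H : Type*} [Group G] [Group H] (f : G →* H) {g : G} (hg : g ∈ commutator G) :
    f g ∈ commutator H := by
  have h1 : f g ∈ Subgroup.map f (commutator G) := Subgroup.mem_map_of_mem f hg
  rw [commutator_def, Subgroup.map_commutator] at h1
  rw [commutator_def]
  exact Subgroup.commutator_mono le_top le_top h1

/-- block diagonal embedding of matrices as a monoid hom -/
def blk (k l : ℕ) (F : Type*) [Field F] :
    Matrix (Fin k) (Fin k) F × Matrix (Fin l) (Fin l) F →* Matrix (Fin k ⊕ Fin l) (Fin k ⊕ Fin l) F where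
  toFun p := Matrix.fromBlocks p.1 0 0 p.2
  map_one' := Matrix.fromBlocks_one
  map_mul' p q := by
    simp [Matrix.fromBlocks_multiply]

def blkGL (k l : ℕ) (F : Type*) [Field F] :
    GL (Fin k) F × GL (Fin l) F →* GL (Fin k ⊕ Fin l) F :=
  (Units.map (blk k l F)).comp MulEquiv.prodUnits.symm.toMonoidHom

theorem blkGL_coe (k l : ℕ) (F : Type*) [Field F] (p : GL (Fin k) F × GL (Fin l) F) :
    ((blkGL k l F p : GL (Fin k ⊕ Fin l) F) : Matrix (Fin k ⊕ Fin l) (Fin k ⊕ Fin l) F) =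
      Matrix.fromBlocks (p.1 : Matrix (Fin k) (Fin k) F) 0 0 (p.2 : Matrix (Fin l) (Fin l) F) := rfl

theorem result {F : Type*} [Field F] [Fintype F] {k l : ℕ} (Q₁ : QuadraticForm F (Fin k → F)) (Q₂ : QuadraticForm F (Fin l → F)) (h₁ : (QuadraticMap.polarBilin Q₁).Nondegenerate) (h₂ : (QuadraticMap.polarBilin Q₂).Nondegenerate) (g₁ : ↥(Cfsg.isometryGroup F ⇑Q₁)) (g₂ : ↥(Cfsg.isometryGroup F ⇑Q₂)) (hg₁ : g₁ ∈ Cfsg.Omega F ⇑Q₁) (hg₂ : g₂ ∈ Cfsg.Omega F ⇑Q₂) : ∃ g : ↥(Cfsg.isometryGroup F (fun v : Fin k ⊕ Fin l → F => Q₁ (v ∘ Sum.inl) + Q₂ (v ∘ Sum.inr))), g ∈ Cfsg.Omega F (fun v : Fin k ⊕ Fin l → F => Q₁ (v ∘ Sum.inl) + Q₂ (v ∘ Sum.inr)) ∧ ((g : Matrix.GeneralLinearGroup (Fin k ⊕ Fin l) F) : Matrix (Fin k ⊕ Fin l) (Fin k ⊕ Fin l) F) = Matrix.fromBlocks ((g₁ : Matrix.GeneralLinearGroup (Fin k) F) : Matrix (Fin k) (Fin k) F) 0 0 ((g₂ : Matrix.GeneralLinearGroup (Fin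 l) F) : Matrix (Fin l) (Fin l) F) := by
  set Q : (Fin k ⊕ Fin l → F) → F := fun v => Q₁ (v ∘ Sum.inl) + Q₂ (v ∘ Sum.inr) with hQ
  -- the block embedding on isometry groups
  have hmem : ∀ p : ↥(Cfsg.isometryGroup F ⇑Q₁) × ↥(Cfsg.isometryGroup F ⇑Q₂),
      blkGL k l F (p.1.1, p.2.1) ∈ Cfsg.isometryGroup F Q := by
    intro p
    rw [mem_iso_iff]
    intro u
    rw [blkGL_coe, Matrix.fromBlocks_mulVec]
    simp only [hQ, Matrix.zero_mulVec, add_zero, zero_add]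
    have e1 : (Sum.elim ((p.1.1 : Matrix (Fin k) (Fin k) F) *ᵥ (u ∘ Sum.inl)) ((p.2.1 : Matrix (Fin l) (Fin l) F) *ᵥ (u ∘ Sum.inr))) ∘ Sum.inl
        = (p.1.1 : Matrix (Fin k) (Fin k) F) *ᵥ (u ∘ Sum.inl) := by
      ext i; simp
    have e2 : (Sum.elim ((p.1.1 : Matrix (Fin k) (Fin k) F) *ᵥ (u ∘ Sum.inl)) ((p.2.1 : Matrix (Fin l) (Fin l) F) *ᵥ (u ∘ Sum.inr))) ∘ Sum.inr
        = (p.2.1 : Matrix (Fin l) (Fin l) F) *ᵥ (u ∘ Sum.inr) := by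
      ext i; simp
    rw [e1, e2]
    rw [(mem_iso_iff _ _).mp p.1.2, (mem_iso_iff _ _).mp p.2.2]
  let ψ : ↥(Cfsg.isometryGroup F ⇑Q₁) × ↥(Cfsg.isometryGroup F ⇑Q₂) →* ↥(Cfsg.isometryGroup F Q) :=
    MonoidHom.codRestrict ((blkGL k l F).comp
      (MonoidHom.prodMap (Cfsg.isometryGroup F ⇑Q₁).subtype (Cfsg.isometryGroup F ⇑Q₂).subtype))
      (Cfsg.isometryGroup F Q) hmem
  refine ⟨ψ (g₁, g₂), ?_, rfl⟩
  have hsplit : ((g₁, g₂) : ↥(Cfsg.isometryGroup F ⇑Q₁) × ↥(Cfsg.isometryGroup F ⇑Q₂)) =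
      MonoidHom.inl _ _ g₁ * MonoidHom.inr _ _ g₂ := by
    simp
  rw [hsplit, map_mul]
  apply Subgroup.mul_mem
  · exact map_comm (ψ.comp (MonoidHom.inl _ _)) hg₁
  · exact map_comm (ψ.comp (MonoidHom.inr _ _)) hg₂

end Cfsg.Agent.S2626
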