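import Cfsg.Statements.S2627
import Cfsg.Agent.Lib.H13.OmegaSum

set_option autoImplicit false
open Cfsg

namespace Cfsg.Agent.S2627

/-- For an orthogonal direct sum Q = Q₁ ⊕ Q₂ of quadratic forms with non-degenerate polar forms over a finite field, an isometry g₁ of Q₁ extended by the identity on the second summand lies in Ω(Q) (the commutator subgroup of the orthogonal group of Q) if and only if g₁ lies in Ω(Q₁). (Excluded: the field of two elements when the first summand or the whole space has dimension 4, where the commutator subgroup of O⁺₄(2) is smaller than the group usually called Ω.) -/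
theorem result {F : Type*} [Field F] [Fintype F] {k l : ℕ} (h : Fintype.card F ≠ 2 ∨ (k ≠ 4 ∧ k + l ≠ 4)) (Q₁ : QuadraticForm F (Fin k → F)) (Q₂ : QuadraticForm F (Fin l → F)) (h₁ : (QuadraticMap.polarBilin Q₁).Nondegenerate) (h₂ : (QuadraticMap.polarBilin Q₂).Nondegenerate) (g₁ : ↥(Cfsg.isometryGroup F ⇑Q₁)) : (∃ g : ↥(Cfsg.isometryGroup F (fun v : Fin k ⊕ Fin l → F => Q₁ (v ∘ Sum.inl) + Q₂ (v ∘ Sum.inr))), g ∈ Cfsg.Omega F (fun v : Fin k ⊕ Fin l → F => Q₁ (v ∘ Sum.inl) + Q₂ (v ∘ Sum.inr)) ∧ ((g : Matrix.GeneralLinearGroup (Fin k ⊕ Fin l) F) : Matrix (Fin k ⊕ Fin l) (Fin k ⊕ Fin l) F) = Matrix.fromBlocks ((g₁ : Matrix.GeneralLinearGroup (Fin k) F) : Matrix (Fin k) (Fin k) F) 0 0 1) ↔ g₁ ∈ Cfsg.Omega F ⇑Q₁ := by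
  constructor
  · rintro ⟨g, hg, hval⟩
    have hgg : g = Cfsg.Agent.Lib.H13.OrthSum.blkIso Q₁ Q₂ (g₁, 1) := by
      apply Subtype.ext
      apply Units.ext
      rw [hval]
      rfl
    rw [hgg] at hg
    by_cases h2 : (2 : F) = 0
    · haveI : CharP F 2 := CharTwo.of_one_ne_zero_of_two_eq_zero one_ne_zero h2
      apply Cfsg.Agent.Lib.H13.OmegaSum.mem_of_blk_inl_mem_even Q₁ Q₂ h₁ h₂ _ g₁ hg
      rw [Nat.card_eq_fintype_card, Fintype.card_fin]
      rcases h with h | h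
      · exact Or.inl h
      · exact Or.inr h.1
    · exact Cfsg.Agent.Lib.H13.OmegaSum.mem_of_blk_inl_mem_odd Q₂ Q₁ h₁ h₂ h2 g₁ hg
  · intro hg
    exact ⟨Cfsg.Agent.Lib.H13.OrthSum.blkIso Q₁ Q₂ (g₁, 1),
      Cfsg.Agent.Lib.H13.OmegaSum.blk_inl_mem_of_mem Q₁ Q₂ g₁ hg, rfl⟩

end Cfsg.Agent.S2627
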