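import Cfsg.Statements.S2628
import Cfsg.Agent.Lib.H13.OmegaSum

set_option autoImplicit false
open Cfsg

namespace Cfsg.Agent.S2628

/-- For the orthogonal direct sum Q ⊕ Q of two copies of a quadratic form Q with non-degenerate polar form on F^k (F finite), every isometry g of Q acting diagonally, diag(g, g), lies in Ω(Q ⊕ Q), the commutator subgroup of the orthogonal group of Q ⊕ Q. (Excluded: k = 2 over the field of two elements, where Q ⊕ Q is the hyperbolic 4-space whose orthogonal group's commutator subgroup is smaller than the group usually called Ω.) -/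
theorem result {F : Type*} [Field F] [Fintype F] {k : ℕ} (h : Fintype.card F ≠ 2 ∨ k ≠ 2) (Q : QuadraticForm F (Fin k → F)) (hQ : (QuadraticMap.polarBilin Q).Nondegenerate) (g : ↥(Cfsg.isometryGroup F ⇑Q)) : ∃ x : ↥(Cfsg.isometryGroup F (fun v : Fin k ⊕ Fin k → F => Q (v ∘ Sum.inl) + Q (v ∘ Sum.inr))), x ∈ Cfsg.Omega F (fun v : Fin k ⊕ Fin k → F => Q (v ∘ Sum.inl) + Q (v ∘ Sum.inr)) ∧ ((x : Matrix.GeneralLinearGroup (Fin k ⊕ Fin k) F) : Matrix (Fin k ⊕ Fin k) (Fin k ⊕ Fin k) F) = Matrix.fromBlocks ((g : Matrix.GeneralLinearGroup (Fin k) F) : Matrix (Fin k) (Fin k) F) 0 0 ((g : Matrix.GeneralLinearGroup (Fin k) F) : Matrix (Fin k) (Fin k) F) := by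
  refine ⟨Cfsg.Agent.Lib.H13.OrthSum.blkIso Q Q (g, g), ?_, rfl⟩
  apply Cfsg.Agent.Lib.H13.OmegaSum.dbl_mem Q
  intro y
  rcases Nat.eq_zero_or_pos k with hk | hk
  · subst hk
    have : y = 1 := Cfsg.Agent.Lib.H13.OmegaSum.eq_one_of_isEmpty _ y
    rw [this, mul_one]
    exact Subgroup.one_mem _
  · have hQQ := Cfsg.Agent.Lib.H13.OrthSum.nondeg_sumQF Q Q hQ hQ
    by_cases h2 : (2 : F) = 0
    · haveI : CharP F 2 := CharTwo.of_one_ne_zero_of_two_eq_zero one_ne_zero h2
      haveI : Nonempty (Fin k ⊕ Fin k) := ⟨Sum.inl ⟨0, hk⟩⟩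
      apply Cfsg.Agent.Lib.H13.OmegaSum.sq_mem_even _ hQQ
      rw [Nat.card_eq_fintype_card, Fintype.card_sum, Fintype.card_fin]
      rcases h with h | h
      · exact Or.inl h
      · right; omega
    · apply Cfsg.Agent.Lib.H13.OmegaSum.sq_mem_odd _ hQQ h2
      rw [Fintype.card_sum, Fintype.card_fin]
      omega

end Cfsg.Agent.S2628
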