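import Cfsg.Statements.S2636

set_option autoImplicit false
open Cfsg

namespace Cfsg.Agent.S2636

open Module Matrix

theorem fixed_card {F : Type*} [Field F] [Fintype F] {q₀ r : ℕ} (hr : 0 < r)
    (hF : Fintype.card F = q₀ ^ r) (σ : F ≃+* F) (hσ : orderOf σ = r) :
    ∃ F₀ : Subfield F, (∀ x, x ∈ F₀ ↔ σ x = x) ∧ Nat.card F₀ = q₀ := by
  classical
  let G : Subgroup (RingAut F) := Subgroup.zpowers σ
  have : Finite (RingAut F) :=
    Finite.of_injective (fun e : RingAut F => (e : F → F)) DFunLike.coe_injective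
  have : Fintype G := Fintype.ofFinite G
  let F₀ : Subfield F := FixedPoints.subfield G F
  have hmem : ∀ x, x ∈ F₀ ↔ σ x = x := by
    intro x
    constructor
    · intro hx
      exact hx ⟨σ, Subgroup.mem_zpowers σ⟩
    · intro hx g
      obtain ⟨g, k, rfl⟩ := g
      show (σ ^ k) x = x
      have hfix : σ ∈ MulAction.stabilizer (RingAut F) x := hx
      exact (MulAction.stabilizer (RingAut F) x).zpow_mem hfix k
  refine ⟨F₀, hmem, ?_⟩
  have h1 : finrank F₀ F = Fintype.card G := FixedPoints.finrank_eq_card G F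
  have h2 : Fintype.card G = r := by
    rw [← hσ, ← Nat.card_eq_fintype_card]
    exact Nat.card_zpowers σ
  have h3 : Nat.card F = Nat.card F₀ ^ r := by
    rw [Module.natCard_eq_pow_finrank (K := F₀) (V := F), h1, h2]
  rw [Nat.card_eq_fintype_card, hF] at h3
  exact (Nat.pow_left_injective (by omega : r ≠ 0) h3).symm

section
variable {F : Type*} [Field F] {n : ℕ}

/-- scalar matrices in GL -/
def scal (d : Fˣ) : GL (Fin n) F :=
  ⟨(d : F) • 1, ((d⁻¹ : Fˣ) : F) • 1, by simp [smul_smul], by simp [smul_smul]⟩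

theorem scal_val (d : Fˣ) : ((scal d : GL (Fin n) F) : Matrix (Fin n) (Fin n) F) = (d : F) • 1 := rfl

theorem scal_mul_val (d : Fˣ) (g : GL (Fin n) F) :
    ((scal d * g : GL (Fin n) F) : Matrix (Fin n) (Fin n) F) =
      (d : F) • (g : Matrix (Fin n) (Fin n) F) := by
  show ((d : F) • (1 : Matrix (Fin n) (Fin n) F)) * (g : Matrix (Fin n) (Fin n) F) = _
  rw [Matrix.smul_mul, Matrix.one_mul]

/-- `d ↦ σ d / d` -/
def psi (σ : F ≃+* F) : Fˣ →* Fˣ where
  toFun d := Units.map (σ : F →* F) d * d⁻¹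
  map_one' := by simp
  map_mul' a b := by
    rw [map_mul, _root_.mul_inv_rev]
    set x := Units.map (σ : F →* F) a
    set y := Units.map (σ : F →* F) b
    calc x * y * (b⁻¹ * a⁻¹) = x * y * (a⁻¹ * b⁻¹) := by rw [mul_comm b⁻¹ a⁻¹]
      _ = x * a⁻¹ * (y * b⁻¹) := mul_mul_mul_comm _ _ _ _

theorem psi_val (σ : F ≃+* F) (d : Fˣ) : ((psi σ d : Fˣ) : F) = σ d * (d : F)⁻¹ := by
  show ((Units.map (σ : F →* F) d * d⁻¹ : Fˣ) : F) = _
  rw [Units.val_mul, Units.val_inv_eq_inv_val]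
  rfl

theorem psi_spec (σ : F ≃+* F) (d : Fˣ) : σ d = ((psi σ d : Fˣ) : F) * d := by
  rw [psi_val, mul_assoc, inv_mul_cancel₀ d.ne_zero, mul_one]

theorem exists_entry_ne_zero (hn : 1 ≤ n) (g : GL (Fin n) F) :
    ∃ i j, (g : Matrix (Fin n) (Fin n) F) i j ≠ 0 := by
  by_contra h
  push Not at h
  have h0 : (g : Matrix (Fin n) (Fin n) F) = 0 := by
    ext i j; exact h i j
  have h1 := g.isUnit
  rw [h0] at h1
  have : Nonempty (Fin n) := ⟨⟨0, by omega⟩⟩
  exact not_isUnit_zero h1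

end

section Main
variable {F : Type*} [Field F] [Fintype F] {n : ℕ} (σ : F ≃+* F)

theorem card_ne' {α : Type*} [Finite α] (a : α) : Nat.card {x : α // x ≠ a} = Nat.card α - 1 := by
  classical
  have := Fintype.ofFinite α
  rw [Nat.card_eq_fintype_card, Nat.card_eq_fintype_card, Fintype.card_subtype_compl,
    Fintype.card_subtype_eq]

theorem card_range_psi {q₀ : ℕ} (F₀ : Subfield F) (hmem : ∀ x, x ∈ F₀ ↔ σ x = x)
    (hcard : Nat.card F₀ = q₀) :
    Nat.card (psi σ).range * (q₀ - 1) = Fintype.card F - 1 := by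
  have hker : ∀ d : Fˣ, d ∈ (psi σ).ker ↔ σ d = d := by
    intro d
    rw [MonoidHom.mem_ker]
    constructor
    · intro h
      have := psi_spec σ d
      rw [h, Units.val_one, one_mul] at this
      exact this
    · intro h
      apply Units.ext
      rw [psi_val, h, Units.val_one, mul_inv_cancel₀ d.ne_zero]
  have hk : Nat.card (psi σ).ker = q₀ - 1 := by
    rw [← hcard, ← card_ne' (0 : F₀)]
    refine Nat.card_congr
      { toFun := fun d => ⟨⟨(d.1 : F), (hmem _).mpr ((hker d.1).mp d.2)⟩, fun h0 =>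
          d.1.ne_zero (congrArg Subtype.val h0)⟩
        invFun := fun x => ⟨Units.mk0 x.1.1 (fun h0 => x.2 (Subtype.ext h0)),
          (hker _).mpr ((hmem _).mp x.1.2)⟩
        left_inv := fun d => by
          apply Subtype.ext
          apply Units.ext
          rfl
        right_inv := fun x => rfl }
  have h1 := Subgroup.card_mul_index (psi σ).ker
  rw [Subgroup.index_ker, Nat.card_units, Nat.card_eq_fintype_card (α := F), hk] at h1
  rw [← h1, mul_comm]

/-- the σ-fixed elements of GL -/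
abbrev HH := {h : GL (Fin n) F // (h : Matrix (Fin n) (Fin n) F).map σ = (h : Matrix (Fin n) (Fin n) F)}

/-- the elements of GL fixed up to scalars -/
abbrev SS := {g : GL (Fin n) F // ∃ c : F, c ≠ 0 ∧
  (g : Matrix (Fin n) (Fin n) F).map σ = c • (g : Matrix (Fin n) (Fin n) F)}

theorem card_HH (F₀ : Subfield F) (hmem : ∀ x, x ∈ F₀ ↔ σ x = x) :
    Nat.card (HH (n := n) σ) = Nat.card (GL (Fin n) F₀) := by
  classical
  symm
  let f : GL (Fin n) F₀ → HH (n := n) σ := fun M =>
    ⟨Matrix.GeneralLinearGroup.map F₀.subtype M, by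
      ext i j
      rw [Matrix.map_apply, Matrix.GeneralLinearGroup.map_apply]
      exact (hmem _).mp (M i j).2⟩
  have hf : ∀ (M : GL (Fin n) F₀) i j, ((f M).1 : Matrix (Fin n) (Fin n) F) i j = (M i j : F) :=
    fun M i j => rfl
  refine Nat.card_congr (Equiv.ofBijective f ⟨?_, ?_⟩)
  · intro M M' h
    apply Units.ext
    ext i j
    rw [← hf, ← hf, h]
  · intro h
    have hent : ∀ i j, (h.1 : Matrix (Fin n) (Fin n) F) i j ∈ F₀ := by
      intro i j
      rw [hmem]
      have := congrFun (congrFun h.2 i) j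
      rw [Matrix.map_apply] at this
      exact this
    let M₀ : Matrix (Fin n) (Fin n) F₀ := fun i j => ⟨(h.1 : Matrix (Fin n) (Fin n) F) i j, hent i j⟩
    have hmap : M₀.map F₀.subtype = (h.1 : Matrix (Fin n) (Fin n) F) := by
      ext i j; rfl
    have hdet : M₀.det ≠ 0 := by
      intro h0
      have h1 : F₀.subtype M₀.det = (h.1 : Matrix (Fin n) (Fin n) F).det := by
        rw [RingHom.map_det, RingHom.mapMatrix_apply, hmap]
      rw [h0, map_zero] at h1
      have h2 := (Matrix.isUnit_iff_isUnit_det _).mp h.1.isUnit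
      rw [← h1] at h2
      exact not_isUnit_zero h2
    refine ⟨Matrix.GeneralLinearGroup.mkOfDetNeZero M₀ hdet, ?_⟩
    apply Subtype.ext
    apply Units.ext
    ext i j
    rfl

theorem mult_unique (hn : 1 ≤ n) (g : GL (Fin n) F) (c c' : F)
    (h : c • (g : Matrix (Fin n) (Fin n) F) = c' • (g : Matrix (Fin n) (Fin n) F)) : c = c' := by
  obtain ⟨i, j, hij⟩ := exists_entry_ne_zero hn g
  have := congrFun (congrFun h i) j
  simp only [Matrix.smul_apply, smul_eq_mul] at this
  exact mul_right_cancel₀ hij this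

theorem scal_mul_map (d : Fˣ) (g : GL (Fin n) F) :
    ((scal d * g : GL (Fin n) F) : Matrix (Fin n) (Fin n) F).map σ =
      σ d • (g : Matrix (Fin n) (Fin n) F).map σ := by
  rw [scal_mul_val, Matrix.map_smul' _ _ _ (map_mul σ)]

theorem card_SS (hn : 1 ≤ n) :
    Nat.card (SS (n := n) σ) = Nat.card (psi σ).range * Nat.card (HH (n := n) σ) := by
  classical
  rw [← Nat.card_prod]
  symm
  let s : (psi σ).range → Fˣ := fun c => Classical.choose c.2
  have hs : ∀ c : (psi σ).range, psi σ (s c) = c.1 := fun c => Classical.choose_spec c.2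
  have hs' : ∀ c : (psi σ).range, σ (s c) = ((c.1 : Fˣ) : F) * (s c : F) := by
    intro c
    rw [psi_spec, hs]
  let Φ : (psi σ).range × HH (n := n) σ → SS (n := n) σ := fun x =>
    ⟨scal (s x.1) * x.2.1, ((x.1.1 : Fˣ) : F), x.1.1.ne_zero, by
      rw [scal_mul_map, x.2.2, hs', scal_mul_val, smul_smul]⟩
  have hΦ : ∀ x, ((Φ x).1 : GL (Fin n) F) = scal (s x.1) * x.2.1 := fun _ => rfl
  have hΦmult : ∀ x, ((Φ x).1 : Matrix (Fin n) (Fin n) F).map σ =
      ((x.1.1 : Fˣ) : F) • ((Φ x).1 : Matrix (Fin n) (Fin n) F) := by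
    intro x
    rw [hΦ, scal_mul_map, x.2.2, hs', scal_mul_val, smul_smul]
  refine Nat.card_congr (Equiv.ofBijective Φ ⟨?_, ?_⟩)
  · rintro ⟨c, h⟩ ⟨c', h'⟩ heq
    have h1 : ((Φ (c, h)).1 : GL (Fin n) F) = (Φ (c', h')).1 := congrArg Subtype.val heq
    have h2 := hΦmult (c, h)
    have h3 := hΦmult (c', h')
    rw [h1] at h2
    have h4 : ((c.1 : Fˣ) : F) = ((c'.1 : Fˣ) : F) := mult_unique hn _ _ _ (h2.symm.trans h3)
    have h5 : c = c' := Subtype.ext (Units.ext h4)
    subst h5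
    rw [hΦ, hΦ] at h1
    have h6 : h.1 = h'.1 := mul_left_cancel h1
    rw [Prod.mk.injEq]
    exact ⟨rfl, Subtype.ext h6⟩
  · rintro ⟨g, c, hc0, hc⟩
    obtain ⟨i, j, hij⟩ := exists_entry_ne_zero hn g
    have he : σ ((g : Matrix (Fin n) (Fin n) F) i j) = c * (g : Matrix (Fin n) (Fin n) F) i j := by
      have := congrFun (congrFun hc i) j
      simpa using this
    let d : Fˣ := Units.mk0 _ hij
    have hd : psi σ d = Units.mk0 c hc0 := by
      apply Units.ext
      rw [psi_val, Units.val_mk0]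
      show σ ((g : Matrix (Fin n) (Fin n) F) i j) * ((g : Matrix (Fin n) (Fin n) F) i j)⁻¹ = c
      rw [he, mul_assoc, mul_inv_cancel₀ hij, mul_one]
    let cc : (psi σ).range := ⟨Units.mk0 c hc0, ⟨d, hd⟩⟩
    have hcc : σ (s cc) = c * (s cc : F) := hs' cc
    have ht0 : ((s cc : Fˣ) : F) ≠ 0 := (s cc).ne_zero
    have hσt0 : σ (s cc : F) ≠ 0 := by
      rw [hcc]; exact mul_ne_zero hc0 ht0
    let h : HH (n := n) σ := ⟨scal (s cc)⁻¹ * g, by
      rw [scal_mul_map, hc, scal_mul_val, smul_smul]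
      congr 1
      rw [Units.val_inv_eq_inv_val, map_inv₀, hcc, _root_.mul_inv_rev, mul_assoc,
        inv_mul_cancel₀ hc0, mul_one]⟩
    refine ⟨(cc, h), ?_⟩
    apply Subtype.ext
    rw [hΦ]
    show scal (s cc) * (scal (s cc)⁻¹ * g) = g
    apply Units.ext
    rw [scal_mul_val, scal_mul_val, smul_smul, Units.val_inv_eq_inv_val, mul_inv_cancel₀ ht0,
      one_smul]

end Main

/-- Counting the σ-stable cosets of scalars in GL_n(F). -/
theorem result {F : Type*} [Field F] [Fintype F] {q₀ r n : ℕ} (hr : r.Prime) (hn : 1 ≤ n) (hF : Fintype.card F = q₀ ^ r) (σ : F ≃+* F) (hσ : orderOf σ = r) : Nat.card {g : GL (Fin n) F // ∃ c : F, c ≠ 0 ∧ (g : Matrix (Fin n) (Fin n) F).map σ = c • (g : Matrix (Fin n) (Fin n) F)} = (q₀ ^ r - 1) / (q₀ - 1) * ∏ i : Fin n, (q₀ ^ n - q₀ ^ (i : ℕ)) := by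
  classical
  obtain ⟨F₀, hmem, hcard⟩ := fixed_card hr.pos hF σ hσ
  have hq₀ : 2 ≤ q₀ := by
    by_contra h
    push Not at h
    have h1 : q₀ ^ r ≤ 1 := by
      interval_cases q₀
      · rw [zero_pow hr.pos.ne']; omega
      · rw [one_pow]
    have h2 : 1 < Fintype.card F := Fintype.one_lt_card
    omega
  have h1 := card_range_psi σ F₀ hmem hcard
  rw [hF] at h1
  have h2 : (q₀ ^ r - 1) / (q₀ - 1) = Nat.card (psi σ).range :=
    Nat.div_eq_of_eq_mul_left (by omega) h1.symm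
  have : Fintype F₀ := Fintype.ofFinite F₀
  have h3 : Nat.card (GL (Fin n) F₀) = ∏ i : Fin n, (q₀ ^ n - q₀ ^ (i : ℕ)) := by
    rw [Matrix.card_GL_field, ← Nat.card_eq_fintype_card, hcard]
  rw [h2, ← h3, ← card_HH σ F₀ hmem]
  exact card_SS σ hn

end Cfsg.Agent.S2636
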