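import Cfsg.Statements.S2638

set_option autoImplicit false
open Cfsg

namespace Cfsg.Agent.S2638

open Polynomial Matrix

section MinPoly
variable {F : Type*} [Field F] [Fintype F]

/-- the minimal polynomial of an element of primitive prime order is irreducible of degree `n` -/
theorem minpoly_irreducible {p q : ℕ} [Fact p.Prime] [CharP F p] (hF : Fintype.card F = q)
    {n r : ℕ} (hr : r.Prime) (hrp : r ≠ p) (hi : orderOf (q : ZMod r) = n)
    (A : Matrix (Fin n) (Fin n) F) (hX : A ^ r = 1) (hX1 : A ≠ 1) :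
    Irreducible (minpoly F A) ∧ (minpoly F A).natDegree = n := by
  classical
  haveI : Fact r.Prime := ⟨hr⟩
  obtain ⟨f, hp, hf⟩ := FiniteField.card F p
  have hqf : q = p ^ (f : ℕ) := by rw [← hF, hf]
  have hcop : p.Coprime r := by
    rw [Nat.coprime_primes (Fact.out : p.Prime) hr]
    exact fun h => hrp h.symm
  have hint : IsIntegral F A := Matrix.isIntegral A
  set μ := minpoly F A with hμ
  have hμ0 : μ ≠ 0 := minpoly.ne_zero hint
  have hdvd : μ ∣ cyclotomic r F * (X - 1 : F[X]) := by
    rw [cyclotomic_prime_mul_X_sub_one]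
    apply minpoly.dvd
    simp [hX]
  have hdeg : μ.natDegree ≤ n := by
    have h1 := Matrix.minpoly_dvd_charpoly A
    have h2 := natDegree_le_of_dvd h1 (Matrix.charpoly_monic A).ne_zero
    rw [Matrix.charpoly_natDegree_eq_dim, Fintype.card_fin] at h2
    exact h2
  have hnd : ¬ μ ∣ (X - 1 : F[X]) := by
    intro h
    apply hX1
    have h3 : aeval A (X - 1 : F[X]) = 0 := by
      obtain ⟨c, hc⟩ := h
      rw [hc, map_mul, minpoly.aeval, zero_mul]
    simpa [sub_eq_zero] using h3
  have hncop : ¬ IsCoprime μ (cyclotomic r F) := by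
    intro h
    exact hnd (h.dvd_of_dvd_mul_left hdvd)
  obtain ⟨g, hg, hgμ, hgc⟩ : ∃ g : F[X], Irreducible g ∧ g ∣ μ ∧ g ∣ cyclotomic r F := by
    by_contra hcon
    push Not at hcon
    apply hncop
    apply isCoprime_of_irreducible_dvd
    · intro h; exact hμ0 h.1
    · intro z hz hzμ hzc
      exact hcon z hz hzμ hzc
  have hgdeg := natDegree_of_dvd_cyclotomic_of_irreducible hf hcop hgc hg
  have hord : orderOf (ZMod.unitOfCoprime (p ^ (f : ℕ)) (hcop.pow_left f)) = n := by
    rw [← orderOf_units, ZMod.coe_unitOfCoprime, ← hqf]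
    exact hi
  rw [hord] at hgdeg
  have hassoc : Associated g μ :=
    associated_of_dvd_of_natDegree_le hgμ hμ0 (by rw [hgdeg]; exact hdeg)
  refine ⟨hassoc.irreducible hg, ?_⟩
  apply le_antisymm hdeg
  rw [← hgdeg]
  exact natDegree_le_of_dvd hgμ hμ0

end MinPoly

section Cent
variable {F : Type*} [Field F] {n : ℕ}
variable {L : Type*} [Field L] [Algebra F L]

theorem eq_of_commute (hn : 1 ≤ n) (hfr : Module.finrank F L = n)
    (φ : L →ₐ[F] Matrix (Fin n) (Fin n) F)
    (g : Matrix (Fin n) (Fin n) F) (hg : ∀ b, g * φ b = φ b * g) : ∃ a, g = φ a := by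
  classical
  haveI : NeZero n := ⟨by omega⟩
  haveI : Module.Finite F L := Module.finite_of_finrank_pos (by rw [hfr]; omega)
  set v : Fin n → F := Pi.single 0 1 with hv
  have hv0 : v ≠ 0 := by
    intro h
    have := congrFun h 0
    simp [hv] at this
  let ev : L →ₗ[F] (Fin n → F) :=
    { toFun := fun a => φ a *ᵥ v
      map_add' := by intro a b; rw [map_add, Matrix.add_mulVec]
      map_smul' := by intro c a; rw [map_smul, Matrix.smul_mulVec, RingHom.id_apply] }
  have hev : ∀ a, ev a = φ a *ᵥ v := fun _ => rfl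
  have hinj : Function.Injective ev := by
    rw [injective_iff_map_eq_zero]
    intro a ha
    by_contra hne
    apply hv0
    have h1 : φ (a⁻¹ * a) *ᵥ v = v := by
      rw [inv_mul_cancel₀ hne, map_one, Matrix.one_mulVec]
    rw [map_mul, ← Matrix.mulVec_mulVec, ← hev a, ha, Matrix.mulVec_zero] at h1
    exact h1.symm
  have hsurj : Function.Surjective ev := by
    rw [← LinearMap.injective_iff_surjective_of_finrank_eq_finrank]
    · exact hinj
    · rw [hfr, Module.finrank_fin_fun]
  obtain ⟨a, ha⟩ := hsurj (g *ᵥ v)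
  refine ⟨a, ?_⟩
  apply Matrix.toLin'.injective
  apply LinearMap.ext
  intro w
  obtain ⟨b, hb⟩ := hsurj w
  rw [Matrix.toLin'_apply, Matrix.toLin'_apply, ← hb, hev, Matrix.mulVec_mulVec, hg,
    ← Matrix.mulVec_mulVec, ← ha, hev, Matrix.mulVec_mulVec, Matrix.mulVec_mulVec, ← map_mul,
    ← map_mul, mul_comm]

end Cent

/-- Centraliser in GL_n(q) of an element of primitive prime order (the Singer-type torus). -/
theorem result {F : Type*} [Field F] [Fintype F] {p q : ℕ} [Fact p.Prime] [CharP F p] (hF : Fintype.card F = q) {n r : ℕ} (hn : 1 ≤ n) (hr : r.Prime) (hrp : r ≠ p) (hi : orderOf (q : ZMod r) = n) (x : GL (Fin n) F) (hx : orderOf x = r) : IsCyclic ↥(Subgroup.centralizer ({x} : Set (GL (Fin n) F))) ∧ Nat.card ↥(Subgroup.centralizer ({x} : Set (GL (Fin n) F))) = q ^ n - 1 := by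
  classical
  haveI : NeZero n := ⟨by omega⟩
  set A : Matrix (Fin n) (Fin n) F := (x : Matrix (Fin n) (Fin n) F) with hA
  have hr2 : 2 ≤ r := hr.two_le
  have hAr : A ^ r = 1 := by
    have h1 : x ^ r = 1 := by rw [← hx]; exact pow_orderOf_eq_one x
    have h2 := congrArg (fun u : GL (Fin n) F => (u : Matrix (Fin n) (Fin n) F)) h1
    simpa using h2
  have hA1 : A ≠ 1 := by
    intro h
    have h1 : x = 1 := Units.ext h
    rw [h1, orderOf_one] at hx
    omega
  obtain ⟨hirr, hdeg⟩ := minpoly_irreducible hF hr hrp hi A hAr hA1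
  set μ := minpoly F A with hμ
  haveI : Fact (Irreducible μ) := ⟨hirr⟩
  let φ : AdjoinRoot μ →ₐ[F] Matrix (Fin n) (Fin n) F :=
    Ideal.Quotient.liftₐ (Ideal.span {μ}) (aeval A) (by
      intro a ha
      rw [Ideal.mem_span_singleton] at ha
      obtain ⟨c, rfl⟩ := ha
      rw [map_mul, minpoly.aeval, zero_mul])
  have hφmk : ∀ P : F[X], φ (AdjoinRoot.mk μ P) = aeval A P := fun P => rfl
  have hφroot : φ (AdjoinRoot.root μ) = A := by
    rw [AdjoinRoot.root, hφmk, aeval_X]
  have hfr : Module.finrank F (AdjoinRoot μ) = n := by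
    rw [← hdeg, (AdjoinRoot.powerBasis hirr.ne_zero).finrank, AdjoinRoot.powerBasis_dim]
  haveI : Module.Finite F (AdjoinRoot μ) := Module.finite_of_finrank_pos (by rw [hfr]; omega)
  haveI : Finite (AdjoinRoot μ) := Module.finite_of_finite F
  have hcardL : Nat.card (AdjoinRoot μ) = q ^ n := by
    rw [Module.natCard_eq_pow_finrank (K := F) (V := AdjoinRoot μ), hfr, Nat.card_eq_fintype_card, hF]
  have hφinj : Function.Injective φ := φ.toRingHom.injective
  let Ψ : (AdjoinRoot μ)ˣ →* GL (Fin n) F := Units.map (φ : AdjoinRoot μ →* Matrix (Fin n) (Fin n) F)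
  have hΨ : ∀ u : (AdjoinRoot μ)ˣ, ((Ψ u : GL (Fin n) F) : Matrix (Fin n) (Fin n) F) = φ u :=
    fun u => rfl
  have hΨinj : Function.Injective Ψ := by
    intro u w h
    apply Units.ext
    apply hφinj
    rw [← hΨ, ← hΨ, h]
  have hrange : Ψ.range = Subgroup.centralizer ({x} : Set (GL (Fin n) F)) := by
    ext g
    rw [Subgroup.mem_centralizer_iff]
    simp only [Set.mem_singleton_iff, forall_eq]
    constructor
    · rintro ⟨u, rfl⟩
      apply Units.ext
      show A * ((Ψ u : GL (Fin n) F) : Matrix (Fin n) (Fin n) F) =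
        ((Ψ u : GL (Fin n) F) : Matrix (Fin n) (Fin n) F) * A
      rw [hΨ, ← hφroot, ← map_mul, ← map_mul, mul_comm]
    · intro hg
      have hg' : A * (g : Matrix (Fin n) (Fin n) F) = (g : Matrix (Fin n) (Fin n) F) * A :=
        congrArg (fun u : GL (Fin n) F => (u : Matrix (Fin n) (Fin n) F)) hg
      have hcomm : ∀ b, (g : Matrix (Fin n) (Fin n) F) * φ b = φ b * (g : Matrix (Fin n) (Fin n) F) := by
        intro b
        obtain ⟨P, rfl⟩ := AdjoinRoot.mk_surjective b
        rw [hφmk]
        have h1 : Commute (g : Matrix (Fin n) (Fin n) F) A := hg'.symm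
        exact Algebra.commute_of_mem_adjoin_singleton_of_commute
          (Polynomial.aeval_mem_adjoin_singleton F A) h1
      obtain ⟨a, ha⟩ := eq_of_commute hn hfr φ (g : Matrix (Fin n) (Fin n) F) hcomm
      have ha0 : a ≠ 0 := by
        intro h0
        rw [h0, map_zero] at ha
        have := g.isUnit.ne_zero
        exact this ha
      refine ⟨Units.mk0 a ha0, ?_⟩
      apply Units.ext
      rw [hΨ, Units.val_mk0, ha]
  let e : (AdjoinRoot μ)ˣ ≃* ↥(Subgroup.centralizer ({x} : Set (GL (Fin n) F))) :=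
    (MonoidHom.ofInjective hΨinj).trans (MulEquiv.subgroupCongr hrange)
  constructor
  · exact isCyclic_of_surjective e e.surjective
  · rw [← Nat.card_congr e.toEquiv, Nat.card_units, hcardL]

end Cfsg.Agent.S2638
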