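import Cfsg.Statements.S2639
import Cfsg.Agent.Lib.H13.SympBasis
import Cfsg.Agent.Lib.H13.QuadField

set_option autoImplicit false
open Cfsg

namespace Cfsg.Agent.S2639

open Module Matrix Cfsg.Agent.Lib.H13

section
variable {F K : Type*} [Field F] [Fintype F] [Field K] [Fintype K] [Algebra F K] {m : ℕ}

local notation "q" => Fintype.card F
local notation "VK" => (Fin m → K)

/-- the skew-hermitian trace form, as an `F`-bilinear form -/
noncomputable def trForm (ε : K) : LinearMap.BilinForm F VK :=
  LinearMap.mk₂ F (fun u v => Algebra.trace F K (ε * ∑ i, u i * FiniteField.frobeniusAlgHom F K (v i)))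
    (by
      intro u u' v
      simp only [Pi.add_apply, add_mul, Finset.sum_add_distrib, mul_add, map_add])
    (by
      intro c u v
      simp only [Pi.smul_apply, smul_mul_assoc, ← Finset.smul_sum, mul_smul_comm, map_smul])
    (by
      intro u v v'
      simp only [Pi.add_apply, map_add, mul_add, Finset.sum_add_distrib])
    (by
      intro c u v
      simp only [Pi.smul_apply, map_smul, mul_smul_comm, ← Finset.smul_sum])

theorem trForm_apply (ε : K) (u v : VK) :
    trForm (F := F) ε u v = Algebra.trace F K (ε * Cfsg.hermForm m K q u v) := rfl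

theorem exists_eps (hK : Fintype.card K = q ^ 2) :
    ∃ ε : K, ε ≠ 0 ∧ ε ^ q = -ε := by
  have h2 : finrank F K = 2 := finrank_eq_two rfl hK
  haveI : FiniteDimensional F K := Module.finite_of_finrank_pos (by rw [h2]; norm_num)
  have hninj : ¬ Function.Injective (Algebra.trace F K) := by
    intro hinj
    have := LinearMap.finrank_le_finrank_of_injective hinj
    rw [h2, Module.finrank_self] at this
    omega
  rw [← LinearMap.ker_eq_bot, Submodule.eq_bot_iff] at hninj
  push Not at hninj
  obtain ⟨ε, hε, hε0⟩ := hninj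
  refine ⟨ε, hε0, ?_⟩
  rw [LinearMap.mem_ker] at hε
  have := algebraMap_trace (F := F) (K := K) rfl hK ε
  rw [hε, map_zero] at this
  exact (neg_eq_of_add_eq_zero_right this.symm).symm

theorem trForm_alt (hK : Fintype.card K = q ^ 2) (ε : K) (hε : ε ^ q = -ε) (v : VK) :
    trForm (F := F) ε v v = 0 := by
  rw [trForm_apply]
  apply (algebraMap F K).injective
  rw [map_zero, algebraMap_trace (F := F) (K := K) rfl hK, mul_pow, hε]
  have hs : (Cfsg.hermForm m K q v v) ^ q = Cfsg.hermForm m K q v v := by
    unfold Cfsg.hermForm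
    have hsum : (∑ i, v i * v i ^ q) ^ q = ∑ i, (v i * v i ^ q) ^ q := by
      have := map_sum (FiniteField.frobeniusAlgHom F K) (fun i => v i * v i ^ q) Finset.univ
      exact this
    rw [hsum]
    apply Finset.sum_congr rfl
    intro i _
    rw [mul_pow, pow_card_sq hK, mul_comm]
  rw [hs]
  ring

theorem trForm_nondeg (hK : Fintype.card K = q ^ 2) (ε : K) (hε0 : ε ≠ 0) (v : VK)
    (h : ∀ w, trForm (F := F) ε v w = 0) : v = 0 := by
  classical
  have h2 : finrank F K = 2 := finrank_eq_two rfl hK
  haveI : FiniteDimensional F K := Module.finite_of_finrank_pos (by rw [h2]; norm_num)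
  by_contra hv
  obtain ⟨i, hi⟩ : ∃ i, v i ≠ 0 := by
    by_contra h'
    push Not at h'
    exact hv (funext h')
  obtain ⟨z, hz⟩ := Algebra.trace_surjective F K (1 : F)
  set t : K := (z * (ε * v i)⁻¹) ^ q with ht
  have htq : t ^ q = z * (ε * v i)⁻¹ := pow_card_sq hK _
  have := h (Pi.single i t)
  rw [trForm_apply] at this
  unfold Cfsg.hermForm at this
  rw [Finset.sum_eq_single i] at this
  · rw [Pi.single_eq_same, htq, ← mul_assoc, mul_left_comm,
      mul_inv_cancel₀ (mul_ne_zero hε0 hi), mul_one, hz] at this
    exact one_ne_zero this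
  · intro j _ hj
    rw [Pi.single_eq_of_ne hj, zero_pow (Fintype.card_pos.ne'), mul_zero]
  · intro h'; exact absurd (Finset.mem_univ i) h'

/-- the representation of `GU` on the restricted space -/
noncomputable def rho : ↥(Cfsg.GU m K q) →* Module.End F VK where
  toFun g := (Matrix.toLin' ((g : GL (Fin m) K) : Matrix (Fin m) (Fin m) K)).restrictScalars F
  map_one' := by
    apply LinearMap.ext
    intro v
    simp
  map_mul' g h := by
    apply LinearMap.ext
    intro v
    simp [Matrix.toLin'_mul]

theorem rho_apply (g : ↥(Cfsg.GU m K q)) (v : VK) :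
    rho (F := F) g v = ((g : GL (Fin m) K) : Matrix (Fin m) (Fin m) K) *ᵥ v := rfl

theorem rho_injective : Function.Injective (rho (F := F) (K := K) (m := m)) := by
  intro g h hgh
  apply Subtype.ext
  apply Units.ext
  apply Matrix.toLin'.injective
  apply LinearMap.ext
  intro v
  have := congrArg (fun f : Module.End F VK => f v) hgh
  simpa [rho_apply] using this

end

/-- GU_m(q) embeds in Sp_{2m}(q). -/
theorem result {K F : Type*} [Field K] [Fintype K] [Field F] [Fintype F] {q : ℕ} (hK : Fintype.card K = q ^ 2) (hF : Fintype.card F = q) (m : ℕ) : ∃ φ : ↥(Cfsg.GU m K q) →* ↥(Matrix.symplecticGroup (Fin m) F), Function.Injective φ := by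
  classical
  subst hF
  obtain ⟨ι⟩ := nonempty_ringHom_of_card_pow (F := F) (K := K) (d := 2) (by norm_num) hK
  letI : Algebra F K := ι.toAlgebra
  have h2 : finrank F K = 2 := finrank_eq_two rfl hK
  haveI : FiniteDimensional F K := Module.finite_of_finrank_pos (by rw [h2]; norm_num)
  have hV : finrank F (Fin m → K) = 2 * m := by
    rw [Module.finrank_pi_fintype]
    simp [h2]
    ring
  obtain ⟨ε, hε0, hε⟩ := exists_eps (F := F) (K := K) hK
  refine exists_embedding_symplectic hV (trForm (F := F) (K := K) (m := m) ε)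
    (trForm_alt hK ε hε) (trForm_nondeg hK ε hε0) rho rho_injective ?_
  intro g v w
  rw [trForm_apply, trForm_apply, rho_apply, rho_apply]
  congr 2
  exact g.2 v w

end Cfsg.Agent.S2639
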