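import Cfsg.Statements.S2641
import Cfsg.Agent.Lib.H13.HermPlus

set_option autoImplicit false
open Cfsg

namespace Cfsg.Agent.S2641

open Module Matrix QuadraticMap Cfsg.Agent.Lib.H13

section
variable {F K : Type*} [Field F] [Fintype F] [Field K] [Fintype K] [Algebra F K]

local notation "q" => Fintype.card F

/-- a generator of `K` over `F` with prescribed trace and norm -/
theorem exists_gen (hK : Fintype.card K = q ^ 2) (a b : F)
    (hab : ∀ z₁ z₂ : F, z₁ ^ 2 + a * z₁ * z₂ + b * z₂ ^ 2 = 0 → z₁ = 0 ∧ z₂ = 0) :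
    ∃ α : K, (∀ x : F, algebraMap F K x ≠ α) ∧ α + α ^ q = algebraMap F K a ∧
      α * α ^ q = algebraMap F K b := by
  have hab' : ∀ z₁ z₂ : F, z₁ ^ 2 + (-a) * z₁ * z₂ + b * z₂ ^ 2 = 0 → z₁ = 0 ∧ z₂ = 0 := by
    intro z₁ z₂ h
    have := hab z₁ (-z₂) (by rw [← h]; ring)
    exact ⟨this.1, neg_eq_zero.mp this.2⟩
  obtain ⟨α, hα⟩ := exists_root_of_aniso (K := K) rfl hK (-a) b hab'
  have hnot : ∀ x : F, algebraMap F K x ≠ α := by
    intro x hx
    rw [← hx, ← map_pow, ← map_mul, ← map_add, ← map_add] at hα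
    have h0 : x ^ 2 + -a * x + b = 0 := (algebraMap F K).injective (by rw [hα, map_zero])
    have := hab' x 1 (by rw [← h0]; ring)
    exact one_ne_zero this.2
  set T : F := Algebra.trace F K α with hT
  set N : F := Algebra.norm F α with hN
  have hT' : algebraMap F K T = α + α ^ q := algebraMap_trace rfl hK α
  have hN' : algebraMap F K N = α * α ^ q := algebraMap_norm rfl hK α
  have hid : α ^ 2 - algebraMap F K T * α + algebraMap F K N = 0 := by
    rw [hT', hN']; ring
  have hlin : algebraMap F K (T - a) * α = algebraMap F K (N - b) := by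
    rw [map_sub, map_sub]
    rw [map_neg] at hα
    linear_combination hα - hid
  have hTa : T = a := by
    by_contra hne
    have hne' : T - a ≠ 0 := sub_ne_zero.mpr hne
    apply hnot ((N - b) / (T - a))
    rw [map_div₀, ← hlin, mul_div_assoc, mul_comm, div_mul_cancel₀]
    exact (map_ne_zero (algebraMap F K)).mpr hne'
  have hNb : N = b := by
    rw [hTa, sub_self, map_zero, zero_mul] at hlin
    have := (algebraMap F K).injective (by rw [← hlin, map_zero] : algebraMap F K (N - b) = algebraMap F K 0)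
    exact sub_eq_zero.mp this
  exact ⟨α, hnot, by rw [← hT', hTa], by rw [← hN', hNb]⟩

/-- the basis `1, α` of `K` over `F` -/
theorem exists_basis (hK : Fintype.card K = q ^ 2) (α : K) (hα : ∀ x : F, algebraMap F K x ≠ α) :
    ∃ b₂ : Basis (Fin 2) F K, b₂ 0 = 1 ∧ b₂ 1 = α := by
  have h2 : finrank F K = 2 := finrank_eq_two rfl hK
  have hli : LinearIndependent F ![(1 : K), α] := by
    rw [LinearIndependent.pair_iff]
    intro s t hst
    have ht : t = 0 := by
      by_contra ht
      apply hα (-s / t)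
      have h1 : t • α = -(s • (1 : K)) := eq_neg_of_add_eq_zero_right hst
      rw [Algebra.smul_def, Algebra.smul_def, mul_one] at h1
      rw [map_div₀, map_neg, ← h1, mul_comm, mul_div_assoc, div_self, mul_one]
      exact (map_ne_zero (algebraMap F K)).mpr ht
    rw [ht, zero_smul, add_zero, Algebra.smul_def, mul_one] at hst
    exact ⟨(map_eq_zero (algebraMap F K)).mp hst, ht⟩
  refine ⟨basisOfLinearIndependentOfCardEqFinrank hli (by rw [h2]; rfl), ?_, ?_⟩
  · rw [coe_basisOfLinearIndependentOfCardEqFinrank]; rfl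
  · rw [coe_basisOfLinearIndependentOfCardEqFinrank]; rfl

theorem normQF_basis (hK : Fintype.card K = q ^ 2) (a b : F) (α : K)
    (hT : α + α ^ q = algebraMap F K a) (hN : α * α ^ q = algebraMap F K b)
    (b₂ : Basis (Fin 2) F K) (h0 : b₂ 0 = 1) (h1 : b₂ 1 = α) (y : K) :
    normQF (F := F) hK y =
      (b₂.equivFun y 0) ^ 2 + a * b₂.equivFun y 0 * b₂.equivFun y 1 + b * (b₂.equivFun y 1) ^ 2 := by
  apply (algebraMap F K).injective
  rw [algebraMap_normQF]
  have hy : y = algebraMap F K (b₂.equivFun y 0) + algebraMap F K (b₂.equivFun y 1) * α := by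
    conv_lhs => rw [← b₂.sum_equivFun y]
    rw [Fin.sum_univ_two, h0, h1, Algebra.smul_def, Algebra.smul_def, mul_one]
  set Y0 := b₂.equivFun y 0
  set Y1 := b₂.equivFun y 1
  have hpow : y ^ q = algebraMap F K Y0 + algebraMap F K Y1 * α ^ q := by
    rw [hy]
    have hadd : ∀ u w : K, (u + w) ^ q = u ^ q + w ^ q :=
      fun u w => map_add (FiniteField.frobeniusAlgHom F K) u w
    rw [hadd, mul_pow, algebraMap_pow_card rfl, algebraMap_pow_card rfl]
  rw [hpow]
  nth_rewrite 1 [hy]
  simp only [map_add, map_mul, map_pow]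
  rw [← hT, ← hN]
  ring

end

section Split
variable {F K : Type*} [Field F] [Field K] [Algebra F K]

/-- splitting off the last coordinate -/
def splitLast (n : ℕ) : (Fin (n + 1) → K) ≃ₗ[F] (Fin n → K) × K where
  toFun v := (fun i => v (Fin.castSucc i), v (Fin.last n))
  map_add' _ _ := rfl
  map_smul' _ _ := rfl
  invFun p := Fin.snoc (α := fun _ => K) p.1 p.2
  left_inv v := by
    funext i
    refine Fin.lastCases ?_ (fun j => ?_) i
    · simp
    · simp
  right_inv p := by
    apply Prod.ext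
    · funext i; simp
    · simp

end Split

/-- GU_m(q) embeds in O^-_{2m}(q) for m odd. -/
theorem result {K F : Type*} [Field K] [Fintype K] [Field F] [Fintype F] {q : ℕ} (hK : Fintype.card K = q ^ 2) (hF : Fintype.card F = q) (m : ℕ) (hm : Odd m) (a b : F) (hab : ∀ z₁ z₂ : F, z₁ ^ 2 + a * z₁ * z₂ + b * z₂ ^ 2 = 0 → z₁ = 0 ∧ z₂ = 0) : ∃ φ : ↥(Cfsg.GU m K q) →* ↥(Cfsg.isometryGroup F (Cfsg.quadFormMinus (m - 1) F a b)), Function.Injective φ := by
  classical
  subst hF
  obtain ⟨r, rfl⟩ := hm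
  obtain ⟨ι⟩ := nonempty_ringHom_of_card_pow (F := F) (K := K) (d := 2) (by norm_num) hK
  letI : Algebra F K := ι.toAlgebra
  obtain ⟨α, hα, hT, hN⟩ := exists_gen hK a b hab
  obtain ⟨b₂, h0, h1⟩ := exists_basis hK α hα
  obtain ⟨b₁, hb₁⟩ := exists_plus_basis_hermQF (F := F) hK (2 * r) (even_two_mul r)
  let e := splitLast (F := F) (K := K) (2 * r)
  let B : Basis ((Fin (2 * r) ⊕ Fin (2 * r)) ⊕ Fin 2) F (Fin (2 * r + 1) → K) :=
    (b₁.prod b₂).map e.symm
  have hBl : ∀ v x, B.equivFun v (Sum.inl x) = b₁.equivFun (e v).1 x := by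
    intro v x
    show ((b₁.prod b₂).map e.symm).repr v (Sum.inl x) = _
    rw [Basis.map_repr, LinearEquiv.trans_apply, LinearEquiv.symm_symm, Basis.prod_repr_inl]
    rfl
  have hBr : ∀ v j, B.equivFun v (Sum.inr j) = b₂.equivFun (e v).2 j := by
    intro v j
    show ((b₁.prod b₂).map e.symm).repr v (Sum.inr j) = _
    rw [Basis.map_repr, LinearEquiv.trans_apply, LinearEquiv.symm_symm, Basis.prod_repr_inr]
    rfl
  have hB : ∀ v, hermQF (F := F) hK (2 * r + 1) v =
      Cfsg.quadFormMinus (2 * r) F a b (B.equivFun v) := by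
    intro v
    unfold Cfsg.quadFormMinus
    simp only [hBl, hBr]
    rw [← normQF_basis hK a b α hT hN b₂ h0 h1]
    have h3 := hb₁ (e v).1
    unfold Cfsg.quadFormPlus at h3
    rw [← h3, hermQF_apply, hermQF_apply, Fin.sum_univ_castSucc]
    rfl
  exact exists_embedding_isometryGroup B (Cfsg.quadFormMinus (2 * r) F a b)
    (fun v => hermQF (F := F) hK (2 * r + 1) v) hB (rhoGU (2 * r + 1))
    (rhoGU_injective (2 * r + 1)) (hermQF_rhoGU hK (2 * r + 1))

end Cfsg.Agent.S2641
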