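import Cfsg.Statements.S2642
import Cfsg.Agent.Lib.H11.Jordan5
import Cfsg.Agent.Lib.H11.HermNorm4

set_option autoImplicit false
open Cfsg

namespace Cfsg.Agent.S2642

open Matrix Cfsg.Agent.Lib.H11.Jordan Cfsg.Agent.Lib.H13.AutPSU Cfsg.Agent.Lib.H11.HermNorm

section aux

variable {K : Type*} [Field K]

/-- the matrix of an element of `GU` -/
def mat {n q : ℕ} (g : ↥(Cfsg.GU n K q)) : Matrix (Fin n) (Fin n) K :=
  ((g : GL (Fin n) K) : Matrix (Fin n) (Fin n) K)

theorem mat_pow {n q : ℕ} (g : ↥(Cfsg.GU n K q)) (k : ℕ) : mat (g ^ k) = mat g ^ k := by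
  unfold mat
  rw [Subgroup.coe_pow, Units.val_pow_eq_pow_val]

theorem mat_eq_one_iff {n q : ℕ} (g : ↥(Cfsg.GU n K q)) : mat g = 1 ↔ g = 1 := by
  constructor
  · intro h
    apply Subtype.ext
    apply Units.ext
    exact h
  · rintro rfl
    rfl

theorem sub_one_pow_char {n p : ℕ} [Fact p.Prime] [CharP K p] (A : Matrix (Fin n) (Fin n) K) :
    (A - 1) ^ p = A ^ p - 1 := by
  rcases Nat.eq_zero_or_pos n with h | h
  · subst h
    exact Subsingleton.elim _ _
  · have : Nonempty (Fin n) := ⟨⟨0, h⟩⟩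
    have : CharP (Matrix (Fin n) (Fin n) K) p := Matrix.charP p
    rw [sub_pow_char_of_commute p (Commute.one_right A), one_pow]

/-- elements of order `p` in terms of the Jordan type -/
theorem orderOf_eq_iff {n p q : ℕ} [Fact p.Prime] [CharP K p] (g : ↥(Cfsg.GU n K q))
    {μ : Multiset ℕ} (h : HasType (mat g) μ) :
    orderOf g = p ↔ (∀ a ∈ μ, a ≤ p) ∧ ¬ ∀ a ∈ μ, a = 1 := by
  rw [orderOf_eq_prime_iff, ← h.pow_eq_zero_iff, ← h.eq_one_iff, sub_one_pow_char, sub_eq_zero,
    ← mat_pow, mat_eq_one_iff, mat_eq_one_iff]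

theorem exists_type_of_orderOf {n p q : ℕ} [Fact p.Prime] [CharP K p] (g : ↥(Cfsg.GU n K q))
    (h : orderOf g = p) : ∃ μ, HasType (mat g) μ := by
  apply exists_hasType
  refine ⟨p, ?_⟩
  rw [sub_one_pow_char, sub_eq_zero, ← mat_pow, mat_eq_one_iff]
  exact (orderOf_eq_prime_iff.mp h).1

/-- the Jordan type of a matrix (junk value `0` if there is none) -/
noncomputable def typeOf {n : ℕ} (u : Matrix (Fin n) (Fin n) K) : Multiset ℕ := by
  classical
  exact if h : ∃ μ, HasType u μ then h.choose else 0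

theorem typeOf_eq {n : ℕ} {u : Matrix (Fin n) (Fin n) K} {μ : Multiset ℕ} (h : HasType u μ) :
    typeOf u = μ := by
  have h' : ∃ μ, HasType u μ := ⟨μ, h⟩
  unfold typeOf
  rw [dif_pos h']
  exact h'.choose_spec.unique h

theorem isConj_mat {n q : ℕ} {g g' : ↥(Cfsg.GU n K q)} (h : IsConj g g') :
    IsConj (mat g) (mat g') := by
  obtain ⟨c, hc⟩ := isConj_iff.mp h
  refine ⟨((c : ↥(Cfsg.GU n K q)) : GL (Fin n) K), ?_⟩
  change mat c * mat g = mat g' * mat c
  have h1 : c * g = g' * c := by rw [← hc]; group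
  have h2 := congrArg mat h1
  exact h2

theorem typeOf_conj {n q : ℕ} {g g' : ↥(Cfsg.GU n K q)} (h : IsConj g g') :
    typeOf (mat g) = typeOf (mat g') := by
  by_cases h1 : ∃ μ, HasType (mat g) μ
  · obtain ⟨μ, hμ⟩ := h1
    rw [typeOf_eq hμ, typeOf_eq (hμ.of_isConj (isConj_mat h))]
  · have h2 : ¬ ∃ μ, HasType (mat g') μ := by
      rintro ⟨μ, hμ⟩
      exact h1 ⟨μ, hμ.of_isConj (isConj_mat h.symm)⟩
    unfold typeOf
    rw [dif_neg h1, dif_neg h2]

/-- the type of a conjugacy class -/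
noncomputable def classType {n q : ℕ} (C : ConjClasses ↥(Cfsg.GU n K q)) : Multiset ℕ :=
  Quotient.lift (fun g : ↥(Cfsg.GU n K q) => typeOf (mat g)) (fun _ _ h => typeOf_conj h) C

theorem classType_mk {n q : ℕ} (g : ↥(Cfsg.GU n K q)) :
    classType (ConjClasses.mk g) = typeOf (mat g) := rfl

end aux

section count

/-- counting partitions other than the all-ones partition -/
theorem card_filter_sub_one (n p : ℕ) (hp : 1 ≤ p) :
    Nat.card {μ : Nat.Partition n // (∀ a ∈ μ.parts, a ≤ p) ∧ ¬ ∀ a ∈ μ.parts, a = 1} =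
      (Finset.univ.filter (fun μ : Nat.Partition n => ∀ a ∈ μ.parts, a ≤ p)).card - 1 := by
  classical
  rw [Nat.card_eq_fintype_card, Fintype.card_subtype]
  have hsplit := Finset.card_filter_add_card_filter_not
    (s := Finset.univ.filter (fun μ : Nat.Partition n => ∀ a ∈ μ.parts, a ≤ p))
    (fun μ : Nat.Partition n => ∀ a ∈ μ.parts, a = 1)
  rw [Finset.filter_filter, Finset.filter_filter] at hsplit
  let ones : Nat.Partition n := ⟨Multiset.replicate n 1, by
    intro i hi
    rw [Multiset.eq_of_mem_replicate hi]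
    exact Nat.one_pos, by simp⟩
  have hone : (Finset.univ.filter (fun μ : Nat.Partition n =>
      (∀ a ∈ μ.parts, a ≤ p) ∧ ∀ a ∈ μ.parts, a = 1)) = {ones} := by
    ext μ
    rw [Finset.mem_filter, Finset.mem_singleton]
    constructor
    · rintro ⟨-, -, h2⟩
      apply Nat.Partition.ext
      change μ.parts = Multiset.replicate n 1
      rw [Multiset.eq_replicate]
      refine ⟨?_, h2⟩
      have h3 := μ.parts_sum
      have h4 : μ.parts = Multiset.replicate (Multiset.card μ.parts) 1 :=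
        Multiset.eq_replicate.mpr ⟨rfl, h2⟩
      rw [h4, Multiset.sum_replicate, smul_eq_mul, mul_one] at h3
      exact h3
    · rintro rfl
      refine ⟨Finset.mem_univ _, ?_, ?_⟩
      · intro a ha
        rw [Multiset.eq_of_mem_replicate ha]
        exact hp
      · intro a ha
        exact Multiset.eq_of_mem_replicate ha
  rw [hone, Finset.card_singleton] at hsplit
  omega

end count

/-- Number of conjugacy classes of elements of order p in the general unitary group GU_n(q), q a power of p: every unipotent Jordan type occurs and the classes correspond to the partitions of n with all parts at most p other than the all-ones partition, exactly as in GL_n; so there are (number of partitions of n with parts ≤ p) − 1 classes. -/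
theorem result {K : Type*} [Field K] [Fintype K] {p q n : ℕ} [Fact p.Prime] [CharP K p] (hK : Fintype.card K = q ^ 2) : Nat.card {C : ConjClasses ↥(Cfsg.GU n K q) // ∃ g : ↥(Cfsg.GU n K q), ConjClasses.mk g = C ∧ orderOf g = p} = (Finset.univ.filter (fun μ : Nat.Partition n => ∀ a ∈ μ.parts, a ≤ p)).card - 1 := by
  classical
  rw [← card_filter_sub_one n p (Fact.out : p.Prime).one_lt.le]
  obtain ⟨p', f, hp', hq⟩ := exists_prime_pow' hK
  have : Fact p'.Prime := ⟨hp'⟩
  obtain ⟨D, -⟩ : ∃ D : UF K q, D = UF.ofCard hq hK := ⟨_, rfl⟩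
  -- properties of the type of a class of elements of order `p`
  have key : ∀ C : {C : ConjClasses ↥(Cfsg.GU n K q) //
      ∃ g : ↥(Cfsg.GU n K q), ConjClasses.mk g = C ∧ orderOf g = p},
      ∃ g : ↥(Cfsg.GU n K q), ConjClasses.mk g = C.1 ∧ orderOf g = p ∧
        HasType (mat g) (classType C.1) := by
    rintro ⟨C, g, rfl, hg⟩
    obtain ⟨μ, hμ⟩ := exists_type_of_orderOf g hg
    refine ⟨g, rfl, hg, ?_⟩
    rw [classType_mk, typeOf_eq hμ]
    exact hμ
  let F : {C : ConjClasses ↥(Cfsg.GU n K q) //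
      ∃ g : ↥(Cfsg.GU n K q), ConjClasses.mk g = C ∧ orderOf g = p} →
      {μ : Nat.Partition n // (∀ a ∈ μ.parts, a ≤ p) ∧ ¬ ∀ a ∈ μ.parts, a = 1} := fun C =>
    ⟨⟨classType C.1, fun {i} hi => by
        obtain ⟨g, -, -, hg⟩ := key C
        exact hg.pos i hi, by
        obtain ⟨g, -, -, hg⟩ := key C
        exact hg.sum⟩, by
        obtain ⟨g, -, ho, hg⟩ := key C
        exact (orderOf_eq_iff g hg).mp ho⟩
  apply Nat.card_eq_of_bijective F
  constructor
  · intro C C' hCC
    have h1 : classType C.1 = classType C'.1 := by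
      have := congrArg (fun x => x.1.parts) hCC
      exact this
    obtain ⟨g, hgC, -, hg⟩ := key C
    obtain ⟨g', hgC', -, hg'⟩ := key C'
    rw [← h1] at hg'
    obtain ⟨c, hc⟩ := hg.isConj hg'
    have hGL : IsConj (g : GL (Fin n) K) (g' : GL (Fin n) K) := by
      refine isConj_iff.mpr ⟨c, ?_⟩
      rw [mul_inv_eq_iff_eq_mul]
      apply Units.ext
      exact hc
    have hGU := isConj_GU_of_isConj_GL hK g g' hGL
    apply Subtype.ext
    rw [← hgC, ← hgC']
    exact ConjClasses.mk_eq_mk_iff_isConj.mpr hGU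
  · rintro ⟨μ, hμ1, hμ2⟩
    obtain ⟨u, hu⟩ := exists_of_multiset (K := K) μ.parts (fun a ha => μ.parts_pos ha) μ.parts_sum
    obtain ⟨B, hB, hconj⟩ := hu.exists_unitary D
    have hB' : B * ct D B = 1 := mul_eq_one_comm.mp hB
    let Bg : GL (Fin n) K := ⟨B, ct D B, hB', hB⟩
    have hmem : Bg ∈ Cfsg.GU n K q := (mem_GU_iff_ct (D := D) Bg).mpr hB
    let g : ↥(Cfsg.GU n K q) := ⟨Bg, hmem⟩
    have hgt : HasType (mat g) μ.parts := hu.of_isConj hconj
    have hord : orderOf g = p := (orderOf_eq_iff g hgt).mpr ⟨hμ1, hμ2⟩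
    refine ⟨⟨ConjClasses.mk g, g, rfl, hord⟩, ?_⟩
    apply Subtype.ext
    apply Nat.Partition.ext
    change classType (ConjClasses.mk g) = μ.parts
    rw [classType_mk, typeOf_eq hgt]

end Cfsg.Agent.S2642
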