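import Cfsg.Statements.S2643
import Cfsg.Agent.Lib.H11.Jordan7

set_option autoImplicit false
open Cfsg

namespace Cfsg.Agent.S2643

open Matrix Cfsg.Agent.Lib.H11.Jordan Cfsg.Agent.Lib.H13.AutPSU Cfsg.Agent.Lib.H11.HermNorm

section aux

variable {K : Type*} [Field K] {q n : ℕ} (D : UF K q)

/-- matrices of `SU` are unitary -/
theorem su_unitary (s : ↥(Cfsg.SU n K q)) : ct D (mat s) * mat s = 1 :=
  (H_eq_one_iff_ct D (mat s)).mp (fun u v => H_sv D s u v)

/-- the group of norm one scalars -/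
abbrev Mu (K : Type*) [Field K] (q : ℕ) : Subgroup Kˣ := (powMonoidHom (q + 1) : Kˣ →* Kˣ).ker

theorem mem_Mu (x : Kˣ) : x ∈ Mu K q ↔ x ^ (q + 1) = 1 := MonoidHom.mem_ker

/-- the quotient of the norm one group by the `n`-th powers -/
abbrev Qn (K : Type*) [Field K] (q n : ℕ) : Type _ :=
  ↥(Mu K q) ⧸ (powMonoidHom n : ↥(Mu K q) →* ↥(Mu K q)).range

/-- a norm one scalar as an element of `Mu` -/
def toMu (a : K) (ha : a * D.τ a = 1) : ↥(Mu K q) :=
  ⟨Units.mk0 a (left_ne_zero_of_mul_eq_one ha), by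
    rw [mem_Mu]
    apply Units.ext
    rw [Units.val_pow_eq_pow_val, Units.val_mk0, Units.val_one, pow_succ, ← D.hτ, mul_comm]
    exact ha⟩

theorem toMu_val (a : K) (ha : a * D.τ a = 1) : (((toMu D a ha : ↥(Mu K q)) : Kˣ) : K) = a := rfl

theorem norm_of_mem_Mu (z : ↥(Mu K q)) : ((z : Kˣ) : K) * D.τ ((z : Kˣ) : K) = 1 := by
  have h := (mem_Mu (z : Kˣ)).mp z.2
  have h2 := congrArg (fun x : Kˣ => (x : K)) h
  simp only [Units.val_pow_eq_pow_val, Units.val_one] at h2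
  rw [D.hτ, ← pow_succ']
  exact h2

theorem toMu_self (z : ↥(Mu K q)) : toMu D ((z : Kˣ) : K) (norm_of_mem_Mu D z) = z := by
  apply Subtype.ext
  apply Units.ext
  rfl

theorem mk_toMu_eq_iff (a b : K) (ha : a * D.τ a = 1) (hb : b * D.τ b = 1) :
    (QuotientGroup.mk (toMu D a ha) : Qn K q n) = QuotientGroup.mk (toMu D b hb) ↔
      ∃ c : K, c * D.τ c = 1 ∧ b = a * c ^ n := by
  have ha0 : a ≠ 0 := left_ne_zero_of_mul_eq_one ha
  rw [QuotientGroup.eq, MonoidHom.mem_range]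
  constructor
  · rintro ⟨w, hw⟩
    refine ⟨((w : Kˣ) : K), norm_of_mem_Mu D w, ?_⟩
    have h2 := congrArg (fun x : ↥(Mu K q) => ((x : Kˣ) : K)) hw
    simp only [powMonoidHom_apply, Subgroup.coe_pow, Units.val_pow_eq_pow_val, Subgroup.coe_mul,
      Subgroup.coe_inv, Units.val_mul, Units.val_inv_eq_inv_val, toMu_val] at h2
    rw [h2]
    field_simp
  · rintro ⟨c, hc, hbc⟩
    refine ⟨toMu D c hc, ?_⟩
    apply Subtype.ext
    apply Units.ext
    simp only [powMonoidHom_apply, Subgroup.coe_pow, Units.val_pow_eq_pow_val, Subgroup.coe_mul,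
      Subgroup.coe_inv, Units.val_mul, Units.val_inv_eq_inv_val, toMu_val]
    rw [hbc]
    field_simp

theorem card_Qn [Fintype K] (hK : Fintype.card K = q ^ 2) :
    Nat.card (Qn K q n) = Nat.gcd n (q + 1) := by
  have hq : 1 ≤ q := by
    rcases Nat.eq_zero_or_pos q with h | h
    · subst h
      have : 0 < Fintype.card K := Fintype.card_pos
      rw [hK] at this
      simp at this
    · exact h
  have h1 : Nat.card Kˣ = q ^ 2 - 1 := by
    rw [Nat.card_units, Nat.card_eq_fintype_card, hK]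
  have h2 : Nat.card ↥(Mu K q) = q + 1 := by
    rw [IsCyclic.card_powMonoidHom_ker, h1]
    apply Nat.gcd_eq_right
    obtain ⟨r, rfl⟩ : ∃ r, q = r + 1 := ⟨q - 1, by omega⟩
    refine ⟨r, ?_⟩
    apply Nat.sub_eq_of_eq_add
    ring
  change Nat.card (↥(Mu K q) ⧸ (powMonoidHom n : ↥(Mu K q) →* ↥(Mu K q)).range) = _
  rw [← Subgroup.index_eq_card, IsCyclic.index_powMonoidHom_range, h2, Nat.gcd_comm]

end aux

/-- Regular unipotent classes of SU_n(q), n ≥ 2: the elements u of the special unitary group (isometries of Σ u_i v_i^q of determinant one over the field with q² elements) with (u − 1)^n = 0 and rank(u − 1) = n − 1 form exactly gcd(n, q + 1) conjugacy classes of SU_n(q). -/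
theorem result {K : Type*} [Field K] [Fintype K] {q n : ℕ} (hK : Fintype.card K = q ^ 2) (hn : 2 ≤ n) : Nat.card {C : ConjClasses ↥(Cfsg.SU n K q) // ∃ u : ↥(Cfsg.SU n K q), ConjClasses.mk u = C ∧ (((u : GL (Fin n) K) : Matrix (Fin n) (Fin n) K) - 1) ^ n = 0 ∧ (((u : GL (Fin n) K) : Matrix (Fin n) (Fin n) K) - 1).rank = n - 1} = Nat.gcd n (q + 1) := by
  classical
  obtain ⟨p', f, hp', hq⟩ := exists_prime_pow' hK
  have : Fact p'.Prime := ⟨hp'⟩
  obtain ⟨D, -⟩ : ∃ D : UF K q, D = UF.ofCard hq hK := ⟨_, rfl⟩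
  have hn1 : 1 ≤ n := by omega
  obtain ⟨u0, hu0, h0⟩ := exists_regular_unitary D hn1
  rw [← card_Qn (n := n) hK]
  have key : ∀ x : {C : ConjClasses ↥(Cfsg.SU n K q) // ∃ u : ↥(Cfsg.SU n K q),
      ConjClasses.mk u = C ∧ (((u : GL (Fin n) K) : Matrix (Fin n) (Fin n) K) - 1) ^ n = 0 ∧
      (((u : GL (Fin n) K) : Matrix (Fin n) (Fin n) K) - 1).rank = n - 1},
      ∃ (u : ↥(Cfsg.SU n K q)) (g : Matrix (Fin n) (Fin n) K), ConjClasses.mk u = x.1 ∧
        ct D g * g = 1 ∧ g * u0 = mat u * g := by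
    rintro ⟨C, u, rfl, h1, h2⟩
    have hT : HasType (mat u) {n} := hasType_singleton_of_rank hn1 h1 h2
    obtain ⟨g, hg, hconj⟩ := exists_unitary_conj_of_hasType D h0 hT hu0 (su_unitary D u)
    exact ⟨u, g, rfl, hg, hconj⟩
  choose uOf gOf hmk hgU hgc using key
  have hnorm : ∀ x, (gOf x).det * D.τ (gOf x).det = 1 := by
    intro x
    have := det_norm_of_unitary D (hgU x)
    rw [mul_comm]
    exact this
  apply Nat.card_eq_of_bijective
    (fun x => (QuotientGroup.mk (toMu D (gOf x).det (hnorm x)) : Qn K q n))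
  constructor
  · intro x x' hxx
    obtain ⟨c, hc, hdet⟩ := (mk_toMu_eq_iff D _ _ (hnorm x) (hnorm x')).mp hxx
    obtain ⟨s, hs, hsd, hsc⟩ := key_inj D (hgU x) (hgU x') (hgc x) (hgc x') hc hdet
    have hconj : IsConj (uOf x) (uOf x') := by
      refine isConj_iff.mpr ⟨mkSU D s hsd ((H_eq_one_iff_ct D s).mpr hs), ?_⟩
      rw [mul_inv_eq_iff_eq_mul]
      apply mat_injective
      rw [mat_mul, mat_mul, mat_mkSU]
      exact hsc
    apply Subtype.ext
    rw [← hmk x, ← hmk x']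
    exact ConjClasses.mk_eq_mk_iff_isConj.mpr hconj
  · intro z
    obtain ⟨z, rfl⟩ := QuotientGroup.mk_surjective z
    obtain ⟨g, u, hg, hgd, hu, hud, hT, hconj⟩ := key_surj D hn1 h0 hu0 (norm_of_mem_Mu D z)
    have hreg := hT.rank_singleton
    refine ⟨⟨ConjClasses.mk (mkSU D u hud ((H_eq_one_iff_ct D u).mpr hu)),
      mkSU D u hud ((H_eq_one_iff_ct D u).mpr hu), rfl, hreg.1, hreg.2⟩, ?_⟩
    set x : {C : ConjClasses ↥(Cfsg.SU n K q) // ∃ u : ↥(Cfsg.SU n K q),
      ConjClasses.mk u = C ∧ (((u : GL (Fin n) K) : Matrix (Fin n) (Fin n) K) - 1) ^ n = 0 ∧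
      (((u : GL (Fin n) K) : Matrix (Fin n) (Fin n) K) - 1).rank = n - 1} :=
      ⟨ConjClasses.mk (mkSU D u hud ((H_eq_one_iff_ct D u).mpr hu)),
        mkSU D u hud ((H_eq_one_iff_ct D u).mpr hu), rfl, hreg.1, hreg.2⟩ with hx
    have hc : IsConj (mkSU D u hud ((H_eq_one_iff_ct D u).mpr hu)) (uOf x) :=
      (ConjClasses.mk_eq_mk_iff_isConj.mp (hmk x)).symm
    obtain ⟨s, hs⟩ := isConj_iff.mp hc
    have hs' : mat s * u = mat (uOf x) * mat s := by
      have h1 : s * mkSU D u hud ((H_eq_one_iff_ct D u).mpr hu) = uOf x * s := by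
        rw [← hs]; group
      have h2 := congrArg mat h1
      rw [mat_mul, mat_mul, mat_mkSU] at h2
      exact h2
    obtain ⟨a, ha, hdet⟩ := key_W D hn1 h0 hg (hgU x) (su_unitary D s) (mat_det s) hconj (hgc x) hs'
    change (QuotientGroup.mk (toMu D (gOf x).det (hnorm x)) : Qn K q n) = QuotientGroup.mk z
    rw [← toMu_self D z, mk_toMu_eq_iff]
    exact ⟨a, ha, by rw [← hgd]; exact hdet⟩

end Cfsg.Agent.S2643
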