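import Mathlib
import Cfsg.Statements.S2644
import Cfsg.Agent.Lib.H2.Unitary5

set_option autoImplicit false
set_option linter.unusedSectionVars false
open Cfsg

namespace Cfsg.Agent.S2644

open Matrix Cfsg.Agent.Lib.H4 Cfsg.Agent.Lib.H2.Unitary Cfsg.Agent.Lib.H2

section
variable {K : Type*} [Field K] [Fintype K] {q n : ℕ}

/-- an element with non-zero trace -/
theorem exists_trace_ne_zero (hK : Fintype.card K = q ^ 2) : ∃ θ : K, θ + θ ^ q ≠ 0 := by
  by_cases h2 : (2 : K) = 0
  · obtain ⟨l, hl, hl1⟩ := exists_norm_one_ne_one (F := K) hK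
    refine ⟨l, ?_⟩
    intro h0
    have h3 : (l : K) ^ q = (l : K) := by
      linear_combination h0 - (l : K) * h2
    rw [h3] at hl
    have h4 : ((l : K) - 1) * ((l : K) - 1) = 0 := by
      linear_combination hl - (l : K) * h2 + h2
    apply hl1
    rcases mul_eq_zero.mp h4 with h5 | h5 <;> linear_combination h5
  · refine ⟨1, ?_⟩
    rw [one_pow]
    intro h0
    apply h2
    linear_combination h0

/-- surjectivity of the trace onto the fixed field -/
theorem exists_trace_eq (hK : Fintype.card K = q ^ 2) (b : K) (hb : b ^ q = b) :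
    ∃ x : K, x + x ^ q = b := by
  obtain ⟨θ, hθ⟩ := exists_trace_ne_zero hK
  obtain ⟨φ, hφ, hφ2⟩ := exists_frob hK
  have ht : (θ + θ ^ q) ^ q = θ + θ ^ q := by
    rw [← hφ, ← hφ, map_add, hφ2]
    ring
  refine ⟨b * θ / (θ + θ ^ q), ?_⟩
  rw [div_pow, ht, mul_pow, hb]
  field_simp

theorem hermForm_single_left (i : Fin n) (w : Fin n → K) :
    Cfsg.hermForm n K q (Pi.single i 1) w = w i ^ q := by
  classical
  unfold Cfsg.hermForm
  rw [Finset.sum_eq_single i]
  · simp
  · intro j _ hj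
    simp [hj]
  · intro h; exact absurd (Finset.mem_univ i) h

theorem exists_hermForm_ne_zero (w : Fin n → K) (hw : w ≠ 0) :
    ∃ x, Cfsg.hermForm n K q x w ≠ 0 := by
  have hex : ∃ i, w i ≠ 0 := by
    by_contra h
    push Not at h
    exact hw (funext h)
  obtain ⟨i, hi⟩ := hex
  refine ⟨Pi.single i 1, ?_⟩
  rw [hermForm_single_left]
  exact pow_ne_zero _ hi

theorem hermForm_zero_left (v : Fin n → K) : Cfsg.hermForm n K q 0 v = 0 := by
  simp [Cfsg.hermForm]

theorem hermForm_ne_zero_swap (hK : Fintype.card K = q ^ 2) (u v : Fin n → K)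
    (h : Cfsg.hermForm n K q u v ≠ 0) : Cfsg.hermForm n K q v u ≠ 0 := by
  rw [← hermForm_conj n hK u v]
  exact pow_ne_zero _ h

/-- the structure of a unitary transvection -/
theorem transvection_form (hK : Fintype.card K = q ^ 2) (T : Matrix (Fin n) (Fin n) K)
    (hT : ∀ u v, Cfsg.hermForm n K q (T *ᵥ u) (T *ᵥ v) = Cfsg.hermForm n K q u v)
    (hrank : (T - 1).rank = 1) (hsq : (T - 1) * (T - 1) = 0) :
    ∃ (w : Fin n → K) (a : K), w ≠ 0 ∧ a ≠ 0 ∧ Cfsg.hermForm n K q w w = 0 ∧ a + a ^ q = 0 ∧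
      T = Cfsg.unitaryTransvection n q w a := by
  classical
  set N := T - 1 with hN
  have hTN : T = 1 + N := by rw [hN]; abel
  have hr : Module.finrank K (LinearMap.range (Matrix.mulVecLin N)) = 1 := hrank
  rw [finrank_eq_one_iff'] at hr
  obtain ⟨⟨w, hw⟩, hw0, hspan⟩ := hr
  have hw0' : w ≠ 0 := fun h => hw0 (Subtype.ext h)
  have hsp : ∀ x, ∃ c : K, N *ᵥ x = c • w := by
    intro x
    obtain ⟨c, hc⟩ := hspan ⟨N *ᵥ x, ⟨x, rfl⟩⟩
    exact ⟨c, (congrArg Subtype.val hc).symm⟩
  obtain ⟨y₀, hy₀⟩ := hw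
  have hy₀' : N *ᵥ y₀ = w := hy₀
  -- N w = 0
  have hNw : N *ᵥ w = 0 := by
    rw [← hy₀', Matrix.mulVec_mulVec, hsq, Matrix.zero_mulVec]
  -- the unitary identity
  have hid : ∀ x y cx cy, N *ᵥ x = cx • w → N *ᵥ y = cy • w →
      cx * Cfsg.hermForm n K q w y + cy ^ q * Cfsg.hermForm n K q x w
        + cx * cy ^ q * Cfsg.hermForm n K q w w = 0 := by
    intro x y cx cy hx hy
    have h1 := hT x y
    rw [hTN, Matrix.add_mulVec, Matrix.add_mulVec, Matrix.one_mulVec, Matrix.one_mulVec, hx, hy,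
      hermForm_add_left, hermForm_add_right n hK, hermForm_add_right n hK, hermForm_smul_left,
      hermForm_smul_left, hermForm_smul_right, hermForm_smul_right] at h1
    linear_combination h1
  -- w isotropic
  have hww : Cfsg.hermForm n K q w w = 0 := by
    have h1 := hid w y₀ 0 1 (by rw [hNw, zero_smul]) (by rw [hy₀', one_smul])
    rw [one_pow] at h1
    linear_combination h1
  have hid' : ∀ x y cx cy, N *ᵥ x = cx • w → N *ᵥ y = cy • w →
      cx * Cfsg.hermForm n K q w y + cy ^ q * Cfsg.hermForm n K q x w = 0 := by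
    intro x y cx cy hx hy
    have := hid x y cx cy hx hy
    rw [hww, mul_zero, add_zero] at this
    exact this
  -- h(w, y₀) ≠ 0
  obtain ⟨x₁, hx₁⟩ := exists_hermForm_ne_zero w hw0'
  obtain ⟨c₁, hc₁⟩ := hsp x₁
  have h2 := hid' x₁ y₀ c₁ 1 hc₁ (by rw [hy₀', one_smul])
  rw [one_pow, one_mul] at h2
  have hwy₀ : Cfsg.hermForm n K q w y₀ ≠ 0 := by
    intro h0
    rw [h0, mul_zero, zero_add] at h2
    exact hx₁ h2
  -- the coefficient
  set a := -(Cfsg.hermForm n K q w y₀)⁻¹ with ha
  have ha0 : a ≠ 0 := neg_ne_zero.mpr (inv_ne_zero hwy₀)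
  have hcoef : ∀ x cx, N *ᵥ x = cx • w → cx = a * Cfsg.hermForm n K q x w := by
    intro x cx hx
    have h3 := hid' x y₀ cx 1 hx (by rw [hy₀', one_smul])
    rw [one_pow, one_mul] at h3
    rw [ha]
    field_simp
    linear_combination h3
  have hNx : ∀ x, N *ᵥ x = (a * Cfsg.hermForm n K q x w) • w := by
    intro x
    obtain ⟨cx, hcx⟩ := hsp x
    rw [hcx, hcoef x cx hcx]
  -- a + a^q = 0
  have haq : a + a ^ q = 0 := by
    have h4 := hid' x₁ y₀ (a * Cfsg.hermForm n K q x₁ w) (a * Cfsg.hermForm n K q y₀ w)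
      (hNx x₁) (hNx y₀)
    rw [mul_pow, hermForm_conj n hK y₀ w] at h4
    have h5 : (a + a ^ q) * (Cfsg.hermForm n K q x₁ w * Cfsg.hermForm n K q w y₀) = 0 := by
      linear_combination h4
    rcases mul_eq_zero.mp h5 with h6 | h6
    · exact h6
    · exact absurd h6 (mul_ne_zero hx₁ hwy₀)
  refine ⟨w, a, hw0', ha0, hww, haq, ?_⟩
  rw [Matrix.ext_iff_mulVec]
  intro x
  rw [unitaryTransvection_mulVec, hTN, Matrix.add_mulVec, Matrix.one_mulVec, hNx]


/-- one quasi-reflection maps the isotropic `u` to the isotropic `v` when `h(u, v) ≠ 0` -/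
theorem exists_of_ne_zero (hK : Fintype.card K = q ^ 2) (u v : Fin n → K)
    (hu : Cfsg.hermForm n K q u u = 0) (hv : Cfsg.hermForm n K q v v = 0)
    (huv : Cfsg.hermForm n K q u v ≠ 0) :
    ∃ g ∈ Cfsg.GU n K q, (g : Matrix (Fin n) (Fin n) K) *ᵥ u = v := by
  set a := Cfsg.hermForm n K q u v with ha
  have haq : a ^ q = Cfsg.hermForm n K q v u := hermForm_conj n hK u v
  have haq0 : a ^ q ≠ 0 := pow_ne_zero _ huv
  set w := u - v with hw
  have huw : Cfsg.hermForm n K q u w = -a := by
    rw [hw, hermForm_sub_right hK, hu, zero_sub]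
  have hww : Cfsg.hermForm n K q w w = -(a + a ^ q) := by
    rw [hw, hermForm_sub_left, hermForm_sub_right hK, hermForm_sub_right hK, hu, hv, ← haq]
    ring
  have hc : a⁻¹ + (a⁻¹) ^ q + a⁻¹ * (a⁻¹) ^ q * Cfsg.hermForm n K q w w = 0 := by
    rw [hww, inv_pow]
    field_simp
    ring
  refine ⟨qrGL w a⁻¹ hc, qrGL_mem hK w _ hc, ?_⟩
  show Cfsg.unitaryTransvection n q w a⁻¹ *ᵥ u = v
  rw [unitaryTransvection_mulVec, huw, mul_neg, inv_mul_cancel₀ huv, neg_smul, one_smul, hw]
  abel

/-- `GU_n` is transitive on non-zero isotropic vectors -/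
theorem exists_GU_isotropic (hK : Fintype.card K = q ^ 2) (u v : Fin n → K) (hu0 : u ≠ 0)
    (hv0 : v ≠ 0) (hu : Cfsg.hermForm n K q u u = 0) (hv : Cfsg.hermForm n K q v v = 0) :
    ∃ g ∈ Cfsg.GU n K q, (g : Matrix (Fin n) (Fin n) K) *ᵥ u = v := by
  by_cases huv : Cfsg.hermForm n K q u v = 0
  · -- find y with h(y,u) ≠ 0 and h(y,v) ≠ 0
    have hy : ∃ y, Cfsg.hermForm n K q y u ≠ 0 ∧ Cfsg.hermForm n K q y v ≠ 0 := by
      obtain ⟨y₁, hy₁⟩ := exists_hermForm_ne_zero u hu0
      obtain ⟨y₂, hy₂⟩ := exists_hermForm_ne_zero v hv0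
      by_cases h1 : Cfsg.hermForm n K q y₁ v = 0
      · by_cases h2 : Cfsg.hermForm n K q y₂ u = 0
        · refine ⟨y₁ + y₂, ?_, ?_⟩
          · rw [hermForm_add_left, h2, add_zero]; exact hy₁
          · rw [hermForm_add_left, h1, zero_add]; exact hy₂
        · exact ⟨y₂, h2, hy₂⟩
      · exact ⟨y₁, hy₁, h1⟩
    obtain ⟨y, hyu, hyv⟩ := hy
    have huy : Cfsg.hermForm n K q u y ≠ 0 := hermForm_ne_zero_swap hK _ _ hyu
    have hvu : Cfsg.hermForm n K q v u = 0 := by
      rw [← hermForm_conj n hK u v, huv]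
      have hq : q ≠ 0 := by
        have := Herm.two_le_q hK
        omega
      exact zero_pow hq
    -- make it isotropic
    have hb : (-Cfsg.hermForm n K q y y) ^ q = -Cfsg.hermForm n K q y y := by
      obtain ⟨φ, hφ, -⟩ := exists_frob hK
      rw [← hφ, map_neg, hφ, hermForm_conj n hK]
    obtain ⟨x, hx⟩ := exists_trace_eq hK _ hb
    set lam := x / Cfsg.hermForm n K q u y with hlam
    set z := y + lam • u with hz
    have hzz : Cfsg.hermForm n K q z z = 0 := by
      rw [hz, hermForm_add_left, hermForm_add_right n hK, hermForm_add_right n hK,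
        hermForm_smul_left, hermForm_smul_left, hermForm_smul_right, hermForm_smul_right, hu,
        mul_zero, mul_zero, add_zero, ← hermForm_conj n hK u y]
      have h3 : lam * Cfsg.hermForm n K q u y = x := by
        rw [hlam]; field_simp
      have h4 : lam ^ q * Cfsg.hermForm n K q u y ^ q = x ^ q := by
        rw [← mul_pow, h3]
      linear_combination hx + h3 + h4
    have hzu : Cfsg.hermForm n K q z u ≠ 0 := by
      rw [hz, hermForm_add_left, hermForm_smul_left, hu, mul_zero, add_zero]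
      exact hyu
    have hzv : Cfsg.hermForm n K q z v ≠ 0 := by
      rw [hz, hermForm_add_left, hermForm_smul_left, huv, mul_zero, add_zero]
      exact hyv
    have huz : Cfsg.hermForm n K q u z ≠ 0 := hermForm_ne_zero_swap hK _ _ hzu
    obtain ⟨g₁, hg₁, hg₁u⟩ := exists_of_ne_zero hK u z hu hzz huz
    obtain ⟨g₂, hg₂, hg₂z⟩ := exists_of_ne_zero hK z v hzz hv hzv
    refine ⟨g₂ * g₁, mul_mem hg₂ hg₁, ?_⟩
    rw [Units.val_mul, ← Matrix.mulVec_mulVec, hg₁u, hg₂z]
  · exact exists_of_ne_zero hK u v hu hv huv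


/-- conjugating a unitary transvection by an isometry -/
theorem conj_transvection (g : GL (Fin n) K) (hg : g ∈ Cfsg.GU n K q)
    (w : Fin n → K) (a : K) :
    (g : Matrix (Fin n) (Fin n) K) * Cfsg.unitaryTransvection n q w a *
      ((g⁻¹ : GL (Fin n) K) : Matrix (Fin n) (Fin n) K)
      = Cfsg.unitaryTransvection n q ((g : Matrix (Fin n) (Fin n) K) *ᵥ w) a := by
  rw [Matrix.ext_iff_mulVec]
  intro x
  rw [← Matrix.mulVec_mulVec, ← Matrix.mulVec_mulVec, unitaryTransvection_mulVec,
    unitaryTransvection_mulVec, Matrix.mulVec_add, Matrix.mulVec_smul, Matrix.mulVec_mulVec,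
    ← Units.val_mul, mul_inv_cancel, Units.val_one, Matrix.one_mulVec]
  congr 2
  have h1 := (mem_GU_iff g).mp hg (((g⁻¹ : GL (Fin n) K) : Matrix (Fin n) (Fin n) K) *ᵥ x) w
  rw [Matrix.mulVec_mulVec, ← Units.val_mul, mul_inv_cancel, Units.val_one, Matrix.one_mulVec] at h1
  rw [h1]

/-- rescaling the vector of a unitary transvection -/
theorem transvection_smul (w : Fin n → K) (a lam : K) :
    Cfsg.unitaryTransvection n q (lam • w) a
      = Cfsg.unitaryTransvection n q w (a * (lam * lam ^ q)) := by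
  rw [Matrix.ext_iff_mulVec]
  intro x
  rw [unitaryTransvection_mulVec, unitaryTransvection_mulVec, hermForm_smul_right, smul_smul]
  congr 2
  ring

/-- the functional `x ↦ h(x, w)` -/
def hermL (n : ℕ) (q : ℕ) (w : Fin n → K) : (Fin n → K) →ₗ[K] K where
  toFun x := Cfsg.hermForm n K q x w
  map_add' x y := hermForm_add_left n x y w
  map_smul' c x := by
    rw [hermForm_smul_left, RingHom.id_apply, smul_eq_mul]

theorem hermL_apply (w x : Fin n → K) : hermL n q w x = Cfsg.hermForm n K q x w := rfl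

/-- in dimension at least three the orthogonal of a vector contains an anisotropic vector -/
theorem exists_anisotropic (hK : Fintype.card K = q ^ 2) (hn : 3 ≤ n) (w : Fin n → K) :
    ∃ z, Cfsg.hermForm n K q z w = 0 ∧ Cfsg.hermForm n K q z z ≠ 0 := by
  by_contra hcon
  push Not at hcon
  have hq : q ≠ 0 := by
    have := Herm.two_le_q hK
    omega
  obtain ⟨φ, hφ, hφ2⟩ := exists_frob hK
  -- step 1: the form vanishes on the orthogonal of w
  have step1 : ∀ x y, Cfsg.hermForm n K q x w = 0 → Cfsg.hermForm n K q y w = 0 →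
      Cfsg.hermForm n K q x y = 0 := by
    intro x y hx hy
    by_contra hc
    set c := Cfsg.hermForm n K q x y with hcdef
    obtain ⟨θ, hθ⟩ := exists_trace_ne_zero hK
    have hcq : c ^ q ≠ 0 := pow_ne_zero _ hc
    set lam := θ / c ^ q with hlam
    have h1 : Cfsg.hermForm n K q (x + lam • y) w = 0 := by
      rw [hermForm_add_left, hermForm_smul_left, hx, hy, mul_zero, add_zero]
    have h2 := hcon _ h1
    rw [hermForm_add_left, hermForm_add_right n hK, hermForm_add_right n hK, hermForm_smul_left,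
      hermForm_smul_left, hermForm_smul_right, hermForm_smul_right, hcon x hx, hcon y hy,
      ← hermForm_conj n hK x y, ← hcdef] at h2
    apply hθ
    have h3 : lam * c ^ q = θ := by rw [hlam]; field_simp
    have h4 : lam ^ q * c = θ ^ q := by
      rw [hlam, div_pow, ← hφ (c ^ q), ← hφ c, hφ2]
      field_simp
    linear_combination h2 - h3 - h4
  -- step 2: the orthogonal of w is contained in the span of w
  have step2 : LinearMap.ker (hermL n q w) ≤ Submodule.span K {w} := by
    intro x hx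
    rw [LinearMap.mem_ker, hermL_apply] at hx
    have hle : ⨅ _ : Unit, LinearMap.ker (hermL n q w) ≤ LinearMap.ker (hermL n q x) := by
      rw [iInf_const]
      intro y hy
      rw [LinearMap.mem_ker, hermL_apply] at hy ⊢
      exact step1 y x hy hx
    have hmem := mem_span_of_iInf_ker_le_ker (L := fun _ : Unit => hermL n q w) hle
    rw [Set.range_const, Submodule.mem_span_singleton] at hmem
    obtain ⟨μ, hμ⟩ := hmem
    have h5 : ∀ y, Cfsg.hermForm n K q y (x - μ ^ q • w) = 0 := by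
      intro y
      have h6 := LinearMap.congr_fun hμ y
      rw [LinearMap.smul_apply, hermL_apply, hermL_apply, smul_eq_mul] at h6
      rw [hermForm_sub_right hK, hermForm_smul_right, ← hφ (μ ^ q), ← hφ μ, hφ2, ← h6, sub_self]
    have h7 : x - μ ^ q • w = 0 := by
      by_contra hne
      obtain ⟨y, hy⟩ := exists_hermForm_ne_zero _ hne
      exact hy (h5 y)
    rw [Submodule.mem_span_singleton]
    exact ⟨μ ^ q, (sub_eq_zero.mp h7).symm⟩
  -- dimension count
  have h8 := LinearMap.finrank_range_add_finrank_ker (hermL n q w)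
  rw [Module.finrank_fintype_fun_eq_card, Fintype.card_fin] at h8
  have h9 : Module.finrank K (LinearMap.range (hermL n q w)) ≤ 1 := by
    have := Submodule.finrank_le (LinearMap.range (hermL n q w))
    rwa [Module.finrank_self] at this
  have h10 : Module.finrank K (LinearMap.ker (hermL n q w)) ≤ 1 := by
    calc Module.finrank K (LinearMap.ker (hermL n q w))
        ≤ Module.finrank K (Submodule.span K {w}) := Submodule.finrank_mono step2
      _ ≤ 1 := by
          have := finrank_span_le_card (R := K) ({w} : Set (Fin n → K))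
          simpa using this
  omega

/-- determinant of a quasi-reflection -/
theorem det_unitaryTransvection (z : Fin n → K) (c : K) :
    (Cfsg.unitaryTransvection n q z c).det = 1 + c * Cfsg.hermForm n K q z z := by
  unfold Cfsg.unitaryTransvection
  rw [← Matrix.smul_vecMulVec, Matrix.vecMulVec_eq Unit, Matrix.det_one_add_replicateCol_mul_replicateRow,
    dotProduct_smul, hermForm_self_eq_dot, smul_eq_mul]


/-- norm surjectivity -/
theorem exists_norm_eq (hK : Fintype.card K = q ^ 2) (b : K) (hb0 : b ≠ 0) (hb : b ^ q = b) :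
    ∃ lam : K, lam * lam ^ q = b := by
  have h1 := Herm.card_N_fiber hK b hb0 hb
  have hne : Nonempty {x : K // Herm.N q x = b} := by
    rw [← Nat.card_pos_iff.trans ⟨fun h => h.1, fun h => ⟨h, inferInstance⟩⟩, h1]
    omega
  obtain ⟨x, hx⟩ := hne
  exact ⟨x, hx⟩

/-- an isometry of prescribed determinant fixing a given vector -/
theorem exists_GU_fix_det (hK : Fintype.card K = q ^ 2) (hn : 3 ≤ n) (w : Fin n → K) (e : K)
    (he : e * e ^ q = 1) :
    ∃ r ∈ Cfsg.GU n K q, (r : Matrix (Fin n) (Fin n) K) *ᵥ w = w ∧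
      (r : Matrix (Fin n) (Fin n) K).det = e := by
  obtain ⟨z, hzw, hzz⟩ := exists_anisotropic hK hn w
  set s₀ := Cfsg.hermForm n K q z z with hs₀
  have hs₀q : s₀ ^ q = s₀ := hermForm_conj n hK z z
  have hq : q ≠ 0 := by
    have := Herm.two_le_q hK
    omega
  obtain ⟨φ, hφ, hφ2⟩ := exists_frob hK
  have hc : (e - 1) / s₀ + ((e - 1) / s₀) ^ q + (e - 1) / s₀ * ((e - 1) / s₀) ^ q *
      Cfsg.hermForm n K q z z = 0 := by
    rw [← hs₀, div_pow, hs₀q, ← hφ (e - 1), map_sub, map_one, hφ]
    field_simp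
    linear_combination he
  have hwz : Cfsg.hermForm n K q w z = 0 := by
    rw [← hermForm_conj n hK z w, hzw, zero_pow hq]
  refine ⟨qrGL z _ hc, qrGL_mem hK z _ hc, ?_, ?_⟩
  · show Cfsg.unitaryTransvection n q z _ *ᵥ w = w
    rw [unitaryTransvection_mulVec, hwz, mul_zero, zero_smul, add_zero]
  · show (Cfsg.unitaryTransvection n q z _).det = e
    rw [det_unitaryTransvection, ← hs₀]
    field_simp
    ring

end

/-- In the special unitary group SU_n(q) with n ≥ 3 (isometries of Σ u_i v_i^q of determinant one over the field with q² elements), any two transvections (elements t with t − 1 of rank one and square zero) are conjugate. -/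
theorem result {K : Type*} [Field K] [Fintype K] {q n : ℕ} (hK : Fintype.card K = q ^ 2) (hn : 3 ≤ n) (s t : ↥(Cfsg.SU n K q)) (hs : Cfsg.IsTransvection (((s : GL (Fin n) K) : Matrix (Fin n) (Fin n) K))) (ht : Cfsg.IsTransvection (((t : GL (Fin n) K) : Matrix (Fin n) (Fin n) K))) : IsConj s t := by
  classical
  have hq : q ≠ 0 := by
    have := Herm.two_le_q hK
    omega
  obtain ⟨φ, hφ, hφ2⟩ := exists_frob hK
  obtain ⟨w, a, hw0, ha0, hww, haq, hS⟩ := transvection_form hK _ ((mem_SU_iff s.1).mp s.2) hs.1 hs.2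
  obtain ⟨w', a', hw0', ha0', hww', haq', hT⟩ :=
    transvection_form hK _ ((mem_SU_iff t.1).mp t.2) ht.1 ht.2
  -- the ratio is a norm
  have hb : (a' / a) ^ q = a' / a := by
    have h1 : a ^ q = -a := by linear_combination haq
    have h2 : a' ^ q = -a' := by linear_combination haq'
    rw [div_pow, h1, h2, neg_div_neg_eq]
  obtain ⟨lam, hlam⟩ := exists_norm_eq hK (a' / a) (div_ne_zero ha0' ha0) hb
  have hlam0 : lam ≠ 0 := by
    rintro rfl
    rw [zero_mul] at hlam
    exact (div_ne_zero ha0' ha0) hlam.symm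
  -- move w to lam • w'
  have hlw0 : lam • w' ≠ 0 := smul_ne_zero hlam0 hw0'
  have hlww : Cfsg.hermForm n K q (lam • w') (lam • w') = 0 := by
    rw [hermForm_smul_left, hermForm_smul_right, hww', mul_zero, mul_zero]
  obtain ⟨g₀, hg₀, hg₀w⟩ := exists_GU_isotropic hK w (lam • w') hw0 hlw0 hww hlww
  -- fix the determinant
  set d := (g₀ : Matrix (Fin n) (Fin n) K).det with hd
  have hdn : d * d ^ q = 1 := det_norm hK g₀ hg₀
  have hd0 : d ≠ 0 := by
    rintro h0
    rw [h0, zero_mul] at hdn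
    exact zero_ne_one hdn
  have hdn' : d⁻¹ * (d⁻¹) ^ q = 1 := by
    rw [inv_pow, ← mul_inv, hdn, inv_one]
  obtain ⟨r, hr, hrw, hrdet⟩ := exists_GU_fix_det hK hn w d⁻¹ hdn'
  set g := g₀ * r with hgdef
  have hg : g ∈ Cfsg.GU n K q := mul_mem hg₀ hr
  have hgw : (g : Matrix (Fin n) (Fin n) K) *ᵥ w = lam • w' := by
    rw [hgdef, Units.val_mul, ← Matrix.mulVec_mulVec, hrw, hg₀w]
  have hgdet : (g : Matrix (Fin n) (Fin n) K).det = 1 := by
    rw [hgdef, Units.val_mul, Matrix.det_mul, hrdet, ← hd, mul_inv_cancel₀ hd0]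
  -- conjugation
  have hconj : (g : Matrix (Fin n) (Fin n) K) * ((s : SpecialLinearGroup (Fin n) K) : Matrix (Fin n) (Fin n) K) *
      ((g⁻¹ : GL (Fin n) K) : Matrix (Fin n) (Fin n) K)
      = ((t : SpecialLinearGroup (Fin n) K) : Matrix (Fin n) (Fin n) K) := by
    have hS' : ((s : SpecialLinearGroup (Fin n) K) : Matrix (Fin n) (Fin n) K)
        = Cfsg.unitaryTransvection n q w a := hS
    have hT' : ((t : SpecialLinearGroup (Fin n) K) : Matrix (Fin n) (Fin n) K)
        = Cfsg.unitaryTransvection n q w' a' := hT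
    rw [hS', hT', conj_transvection g hg, hgw, transvection_smul, hlam, mul_div_cancel₀ _ ha0]
  have hsemi : (g : Matrix (Fin n) (Fin n) K) * ((s : SpecialLinearGroup (Fin n) K) : Matrix (Fin n) (Fin n) K)
      = ((t : SpecialLinearGroup (Fin n) K) : Matrix (Fin n) (Fin n) K) * (g : Matrix (Fin n) (Fin n) K) := by
    rw [← hconj, Matrix.mul_assoc, ← Units.val_mul, inv_mul_cancel, Units.val_one, Matrix.mul_one]
  let G : Cfsg.SU n K q := mkSU (g : Matrix (Fin n) (Fin n) K) hgdet ((mem_GU_iff g).mp hg)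
  rw [isConj_iff]
  refine ⟨G, ?_⟩
  rw [mul_inv_eq_iff_eq_mul]
  apply Subtype.ext
  apply Subtype.ext
  exact hsemi

end Cfsg.Agent.S2644
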