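import Cfsg.Statements.S2645
import Cfsg.Agent.Lib.H12.SpOrdB
import Cfsg.Agent.Lib.H12.RootCntC
import Cfsg.Agent.Lib.H12.RootCntG

set_option autoImplicit false
open Cfsg

namespace Cfsg.Agent.S2645

/-- Number of conjugacy classes of elements of odd prime order r, r different from the characteristic, in the symplectic group Sp_2m(q): let i be the multiplicative order of q modulo r and t = (r − 1)/i. If i is odd the eigenvalue orbits pair off (Λ ≠ Λ⁻¹) and the classes correspond to the non-zero (t/2)-tuples (a_j) with 2i Σ a_j ≤ 2m, giving C(⌊m/i⌋ + t/2, t/2) − 1 classes; if i is even (Λ = Λ⁻¹) they correspond to the non-zero t-tuples with i Σ a_j ≤ 2m, giving C(⌊2m/i⌋ + t, t) − 1 classes. -/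
theorem result {F : Type*} [Field F] [Fintype F] {p q : ℕ} [Fact p.Prime] [CharP F p] (hF : Fintype.card F = q) (m r i t : ℕ) (hr : r.Prime) (hr2 : r ≠ 2) (hrp : r ≠ p) (hi : i = orderOf (q : ZMod r)) (ht : t * i = r - 1) : Nat.card {C : ConjClasses ↥(Matrix.symplecticGroup (Fin m) F) // ∃ g : Matrix.symplecticGroup (Fin m) F, ConjClasses.mk g = C ∧ orderOf g = r} = if Odd i then Nat.choose (m / i + t / 2) (t / 2) - 1 else Nat.choose (2 * m / i + t) t - 1 := by
  classical
  open Cfsg.Agent.Lib.H12.RootCnt Cfsg.Agent.Lib.H12.SpOrd Polynomial in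
  (
  have : Fact r.Prime := ⟨hr⟩
  have : NeZero r := ⟨hr.ne_zero⟩
  have hp : p.Prime := Fact.out
  have hodd : Odd r := hr.odd_of_ne_two hr2
  -- step 1: classes <-> polynomials
  have h1 := card_classes_order_eq (F := F) p m r hr hrp
  -- the algebraic closure
  have hrF : NeZero (r : F) := by
    refine ⟨?_⟩
    rw [Ne, CharP.cast_eq_zero_iff F p]
    intro hd
    exact hrp ((Nat.prime_dvd_prime_iff_eq hp hr).mp hd).symm
  obtain ⟨ζ, hζ⟩ := HasEnoughRootsOfUnity.exists_primitiveRoot (AlgebraicClosure F) r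
  have : CharP (AlgebraicClosure F) p :=
    charP_of_injective_algebraMap (algebraMap F (AlgebraicClosure F)).injective p
  have : ExpChar (AlgebraicClosure F) p := ExpChar.prime hp
  obtain ⟨f, -, hf⟩ := FiniteField.card F p
  have hφ : ∀ x : AlgebraicClosure F,
      iterateFrobenius (AlgebraicClosure F) p f x = x ^ Fintype.card F := by
    intro x
    rw [iterateFrobenius_def, hf]
  have hq0 : (q : ZMod r) ≠ 0 := by
    intro h0
    have h2 : r ∣ q := (ZMod.natCast_eq_zero_iff q r).mp h0
    rw [← hF, hf] at h2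
    have h3 := hr.dvd_of_dvd_pow h2
    exact hrp ((Nat.prime_dvd_prime_iff_eq hr hp).mp h3)
  set u : (ZMod r)ˣ := Units.mk0 (q : ZMod r) hq0 with hu
  have huv : (u : ZMod r) = (Fintype.card F : ZMod r) := by rw [hF]; rfl
  have hordu : orderOf u = i := by
    rw [hi, ← orderOf_units]
    rfl
  have h2 := card_palindromic_dvd (F := F) hζ hodd
    (iterateFrobenius (AlgebraicClosure F) p f) hφ u huv (2 * m) (even_two_mul m)
  rw [h2] at h1
  rcases Nat.even_or_odd i with hev | hod
  · rw [if_neg (Nat.not_odd_iff_even.mpr hev)]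
    have e1 : {a : ZMod r → ℕ // ∑ j, a j = 2 * m ∧
        (∀ j, a ((u : ZMod r) * j) = a j) ∧ ∀ j, a (-j) = a j} ≃
        {a : ZMod r → ℕ // ∑ j, a j = 2 * m ∧ ∀ j, a ((u : ZMod r) * j) = a j} :=
      Equiv.subtypeEquivRight (fun a => and_congr_right' (twist_even r u i hordu hev a))
    rw [Nat.card_congr e1, card_invariant_fun r u i t (2 * m) hordu ht] at h1
    omega
  · rw [if_pos hod]
    obtain ⟨h3, h4⟩ := twist_odd r hr2 u i hordu hod
    have e1 : {a : ZMod r → ℕ // ∑ j, a j = 2 * m ∧
        (∀ j, a ((u : ZMod r) * j) = a j) ∧ ∀ j, a (-j) = a j} ≃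
        {a : ZMod r → ℕ // ∑ j, a j = 2 * m ∧
          ∀ j, a (((-u : (ZMod r)ˣ) : ZMod r) * j) = a j} :=
      Equiv.subtypeEquivRight (fun a => and_congr_right' (h4 a))
    have hte : Even t := by
      have h5 : Even (t * i) := by rw [ht]; exact hr.even_sub_one hr2
      rcases Nat.even_mul.mp h5 with h6 | h6
      · exact h6
      · exact absurd hod (Nat.not_odd_iff_even.mpr h6)
    have hk : t / 2 * (2 * i) = r - 1 := by
      obtain ⟨s, hs⟩ := hte
      rw [← ht, hs]
      have : (s + s) / 2 = s := by omega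
      rw [this]
      ring
    rw [Nat.card_congr e1, card_invariant_fun r (-u) (2 * i) (t / 2) (2 * m) h3 hk,
      Nat.mul_div_mul_left m i two_pos] at h1
    omega
  )

end Cfsg.Agent.S2645
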