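import Cfsg.Statements.S2646
import Cfsg.Agent.Lib.H11.GUCent8
import Cfsg.Agent.Lib.H11.GUCent9
import Cfsg.Agent.Lib.H11.GUCent11

set_option autoImplicit false
open Cfsg

namespace Cfsg.Agent.S2646

open Matrix Cfsg.Agent.Lib.H13.AutPSU Cfsg.Agent.Lib.H11.HermNorm Cfsg.Agent.Lib.H11.GLCent
  Cfsg.Agent.Lib.H11.GUCent Cfsg.Agent.Lib.H2.Unitary

/-- the order of `GU_a(q)` as an integer -/
theorem ordGU_cast (q a : ℕ) (hq : 1 ≤ q) :
    ((ordGU q a : ℕ) : ℤ) = (q : ℤ) ^ (a * (a - 1) / 2) *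
      ∏ j : Fin a, ((q : ℤ) ^ ((j : ℕ) + 1) - (-1) ^ ((j : ℕ) + 1)) := by
  unfold ordGU
  rw [Nat.cast_mul, Nat.cast_pow, Nat.cast_prod,
    ← Finset.prod_range (fun j => ((q : ℤ) ^ (j + 1) - (-1) ^ (j + 1)))]
  congr 1
  apply Finset.prod_congr rfl
  intro j _
  by_cases hj : Even j
  · rw [if_pos hj, Nat.cast_add, Nat.cast_pow, Nat.cast_one, Odd.neg_one_pow hj.add_one]
    ring
  · rw [if_neg hj]
    have h1 : 1 ≤ q ^ (j + 1) := Nat.one_le_pow _ _ hq
    have h2 : Even (j + 1) := by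
      rw [Nat.not_even_iff_odd] at hj
      exact hj.add_one
    rw [Nat.cast_sub h1, Nat.cast_pow, Nat.cast_one, Even.neg_one_pow h2]

/-- the order of the centraliser, in natural numbers -/
theorem card_nat {K : Type*} [Field K] [Fintype K] {q n t : ℕ} (hK : Fintype.card K = q ^ 2)
    (d : Fin t → ℕ) (hd : ∀ k, 1 ≤ d k) (e : ((k : Fin t) × Fin (d k)) ≃ Fin n)
    (u : ↥(Cfsg.GU n K q))
    (hu : IsConj (Matrix.reindex e e (Cfsg.jordanTypeMatrix d K))
      ((u : GL (Fin n) K) : Matrix (Fin n) (Fin n) K)) :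
    Nat.card ↥(Subgroup.centralizer ({u} : Set ↥(Cfsg.GU n K q))) =
      q ^ Fintype.card (Rest d) * ∏ i : Fin (Finset.univ.sup d + 1),
        ordGU q (Fintype.card {k : Fin t // d k = (i : ℕ)}) := by
  classical
  obtain ⟨p, f, hp, hq⟩ := exists_prime_pow' hK
  have : Fact p.Prime := ⟨hp⟩
  obtain ⟨D, -⟩ : ∃ D : UF K q, D = UF.ofCard hq hK := ⟨_, rfl⟩
  obtain ⟨ε, hε, hε0⟩ := exists_skew_ne_zero D
  have hε' : D.τ ε = -ε := hε
  rw [card_centralizer_GU D d hd hε' hε0 hK e u hu]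
  have h1 := card_commutant_eq D (Cfsg.jordanTypeMatrix d K - 1) (Z0 d ε) (Z0i d ε)
    (nil_isNilpotent d) (ct_Z0 D d hε') (Z0_mul_Z0i d hε0) (skew_Z0 D d)
  have h2 : Nat.card {g : Matrix ((k : Fin t) × Fin (d k)) ((k : Fin t) × Fin (d k)) K //
      g * (Cfsg.jordanTypeMatrix d K - 1) = (Cfsg.jordanTypeMatrix d K - 1) * g ∧ g.det ≠ 0} =
      (q ^ 2) ^ Fintype.card (Rest d) * ∏ i : Fin (Finset.univ.sup d + 1),
        glCard (q ^ 2) (Fintype.card {k : Fin t // d k = (i : ℕ)}) := by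
    rw [← Nat.card_congr (centEquiv (F := K) d), card_centralizer_aux d hd, hK]
  have h3 := card_forms D d hd hε' hε0 hK
  have h4 : ∀ i : Fin (Finset.univ.sup d + 1),
      glCard (q ^ 2) (Fintype.card {k : Fin t // d k = (i : ℕ)}) =
        Nat.card {B : Matrix {k : Fin t // d k = (i : ℕ)} {k : Fin t // d k = (i : ℕ)} K //
          ct D B = B ∧ B.det ≠ 0} * ordGU q (Fintype.card {k : Fin t // d k = (i : ℕ)}) :=
    fun i => (card_herm D hK _).symm
  rw [h2, h3, Finset.prod_congr rfl (fun i _ => h4 i), Finset.prod_mul_distrib] at h1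
  -- cancel
  have hS : q ^ Fintype.card (Rest d) * ∏ i : Fin (Finset.univ.sup d + 1),
      Nat.card {B : Matrix {k : Fin t // d k = (i : ℕ)} {k : Fin t // d k = (i : ℕ)} K //
        ct D B = B ∧ B.det ≠ 0} ≠ 0 := by
    rw [← h3]
    have : Nonempty {Z : Matrix ((k : Fin t) × Fin (d k)) ((k : Fin t) × Fin (d k)) K //
        ct D Z = Z ∧ Z.det ≠ 0 ∧ ct D (Cfsg.jordanTypeMatrix d K - 1) * Z =
          -(Z * (Cfsg.jordanTypeMatrix d K - 1))} :=
      ⟨⟨Z0 d ε, ct_Z0 D d hε', det_Z0_ne_zero d hε0, skew_Z0 D d⟩⟩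
    exact Nat.card_pos.ne'
  apply Nat.eq_of_mul_eq_mul_right (Nat.pos_of_ne_zero hS)
  rw [← h1]
  ring

/-- Order of the centraliser in the general unitary group GU_n(q) of a unipotent element of given Jordan type: if u ∈ GU_n(q) (isometries of Σ u_i v_i^q over the field with q² elements) is similar to the unipotent matrix with a_i Jordan blocks of size i (all sizes at least 1), then its centraliser in GU_n(q) has order q^γ · Π_i |GU_(a_i)(q)| with γ = 2 Σ_(i<j) i a_i a_j + Σ_i (i − 1) a_i², the same exponent as in GL_n(q), where |GU_a(q)| = q^(a(a−1)/2) Π_(k=1)^a (q^k − (−1)^k). -/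
theorem result {K : Type*} [Field K] [Fintype K] {q n t : ℕ} (hK : Fintype.card K = q ^ 2) (d : Fin t → ℕ) (hd : ∀ k, 1 ≤ d k) (e : ((k : Fin t) × Fin (d k)) ≃ Fin n) (u : ↥(Cfsg.GU n K q)) (hu : IsConj (Matrix.reindex e e (Cfsg.jordanTypeMatrix d K)) ((u : GL (Fin n) K) : Matrix (Fin n) (Fin n) K)) : (Nat.card ↥(Subgroup.centralizer ({u} : Set ↥(Cfsg.GU n K q))) : ℤ) = (q : ℤ) ^ (2 * (∑ i ∈ Finset.range (Finset.univ.sup d + 1), ∑ j ∈ Finset.range (Finset.univ.sup d + 1), if i < j then i * (Finset.univ.filter (fun k : Fin t => d k = i)).card * (Finset.univ.filter (fun k : Fin t => d k = j)).card else 0) + ∑ i ∈ Finset.range (Finset.univ.sup d + 1), (i - 1) * (Finset.univ.filter (fun k : Fin t => d k = i)).card ^ 2) * ∏ i ∈ Finset.range (Finset.univ.sup d + 1), ((q : ℤ) ^ ((Finset.univ.filter (fun k : Fin t => d k = i)).card * ((Finset.univ.filter (fun k : Fin t => d k = i)).card - 1) / 2) * ∏ j : Fin (Finset.univ.filter (fun k :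 Fin t => d k = i)).card, ((q : ℤ) ^ ((j : ℕ) + 1) - (-1) ^ ((j : ℕ) + 1))) := by
  classical
  have hq : 1 ≤ q := by
    rcases Nat.eq_zero_or_pos q with h | h
    · subst h
      have : Fintype.card K = 0 := by rw [hK]; norm_num
      exact absurd this Fintype.card_ne_zero
    · exact h
  rw [card_nat hK d hd e u hu, card_rest_eq d, Nat.cast_mul, Nat.cast_pow, Nat.cast_prod]
  congr 1
  rw [Finset.prod_range (fun i => ((q : ℤ) ^ ((Finset.univ.filter (fun k : Fin t => d k = i)).card *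
    ((Finset.univ.filter (fun k : Fin t => d k = i)).card - 1) / 2) *
    ∏ j : Fin (Finset.univ.filter (fun k : Fin t => d k = i)).card,
      ((q : ℤ) ^ ((j : ℕ) + 1) - (-1) ^ ((j : ℕ) + 1))))]
  apply Finset.prod_congr rfl
  intro i _
  rw [Fintype.card_subtype, ordGU_cast q _ hq]

end Cfsg.Agent.S2646
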