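import Cfsg.Statements.S2665

set_option autoImplicit false
open scoped MatrixGroups
open Cfsg
open Polynomial

namespace Cfsg.Agent.S2665

section poly
variable {K : Type*} [Field K]

/-- the polynomials giving the coefficients of a fixed vector -/
noncomputable def Cp (q : ℕ) (a : ℕ → K) : ℕ → K[X]
  | 0 => C (a 0) * X ^ q
  | (i + 1) => (Cp q a i) ^ q + C (a (i + 1)) * X ^ q

theorem Cp_zero (q : ℕ) (a : ℕ → K) : Cp q a 0 = C (a 0) * X ^ q := rfl

theorem Cp_succ (q : ℕ) (a : ℕ → K) (i : ℕ) :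
    Cp q a (i + 1) = (Cp q a i) ^ q + C (a (i + 1)) * X ^ q := rfl

theorem X_pow_dvd_Cp (q : ℕ) (hq : 1 ≤ q) (a : ℕ → K) (i : ℕ) : X ^ q ∣ Cp q a i := by
  induction i with
  | zero => exact Dvd.intro_left _ rfl
  | succ i ih =>
    rw [Cp_succ]
    apply dvd_add
    · exact dvd_trans ih (dvd_pow_self _ (by omega))
    · exact Dvd.intro_left _ rfl

theorem Cp_ne_zero (q : ℕ) (hq : 2 ≤ q) (a : ℕ → K) (i : ℕ) (h : ∃ j ≤ i, a j ≠ 0) :
    Cp q a i ≠ 0 := by
  induction i with
  | zero =>
    obtain ⟨j, hj, haj⟩ := h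
    have : j = 0 := by omega
    subst this
    rw [Cp_zero]
    exact mul_ne_zero (C_ne_zero.mpr haj) (pow_ne_zero _ X_ne_zero)
  | succ i ih =>
    rw [Cp_succ]
    by_cases h0 : Cp q a i = 0
    · rw [h0, zero_pow (by omega), zero_add]
      have hai : a (i + 1) ≠ 0 := by
        obtain ⟨j, hj, haj⟩ := h
        by_contra hc
        apply ih _ h0
        refine ⟨j, ?_, haj⟩
        rcases Nat.lt_or_ge j (i + 1) with hlt | hge
        · omega
        · have : j = i + 1 := by omega
          subst this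
          exact absurd hc haj
      exact mul_ne_zero (C_ne_zero.mpr hai) (pow_ne_zero _ X_ne_zero)
    · intro hsum
      have hdeg1 : q ≤ (Cp q a i).natDegree := by
        have := natDegree_le_of_dvd (X_pow_dvd_Cp q (by omega) a i) h0
        rwa [natDegree_X_pow] at this
      have h1 : (Cp q a i) ^ q = -(C (a (i + 1)) * X ^ q) := eq_neg_of_add_eq_zero_left hsum
      have h2 := congrArg natDegree h1
      rw [natDegree_pow, natDegree_neg] at h2
      have h3 : (C (a (i + 1)) * X ^ q).natDegree ≤ q := natDegree_C_mul_X_pow_le _ _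
      nlinarith

theorem exists_root_Cp [IsAlgClosed K] (q : ℕ) (hq : 2 ≤ q) (a : ℕ → K) (r : ℕ)
    (h : ∃ j ≤ r, a j ≠ 0) : ∃ t : K, t ≠ 0 ∧ (Cp q a r).eval t = t := by
  obtain ⟨D, hD⟩ := X_pow_dvd_Cp q (by omega) a r
  have hD0 : D ≠ 0 := by
    rintro rfl
    rw [mul_zero] at hD
    exact Cp_ne_zero q hq a r h hD
  have hnd : 1 ≤ (X ^ (q - 1) * D : K[X]).natDegree := by
    rw [natDegree_mul (pow_ne_zero _ X_ne_zero) hD0, natDegree_X_pow]
    omega
  have hnd2 : (X ^ (q - 1) * D - 1 : K[X]).natDegree = (X ^ (q - 1) * D : K[X]).natDegree := by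
    apply natDegree_sub_eq_left_of_natDegree_lt
    rw [natDegree_one]
    omega
  have hdeg : (X ^ (q - 1) * D - 1 : K[X]).degree ≠ 0 := by
    intro h0
    have := natDegree_eq_zero_iff_degree_le_zero.mpr h0.le
    rw [hnd2] at this
    omega
  obtain ⟨t, ht⟩ := IsAlgClosed.exists_root _ hdeg
  rw [IsRoot.def, eval_sub, eval_mul, eval_pow, eval_X, eval_one, sub_eq_zero] at ht
  have ht0 : t ≠ 0 := by
    rintro rfl
    rw [zero_pow (by omega), zero_mul] at ht
    exact zero_ne_one ht
  refine ⟨t, ht0, ?_⟩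
  rw [hD, eval_mul, eval_pow, eval_X]
  have hq1 : t ^ q = t * t ^ (q - 1) := by
    rw [← pow_succ']
    congr 1
    omega
  rw [hq1, mul_assoc, ht, mul_one]

end poly

section semilinear
variable {K : Type*} [Field K] [IsAlgClosed K] {q : ℕ} {σ : K →+* K}
  {V : Type*} [AddCommGroup V] [Module K V]

theorem fixed_candidate (hq : 2 ≤ q) (hσ : ∀ a, σ a = a ^ q) (φ : V →ₛₗ[σ] V)
    (hinj : Function.Injective φ) (r : ℕ) (v : V) (a : ℕ → K) (hv : v ≠ 0)
    (hrel : φ^[r + 1] v = ∑ i ∈ Finset.range (r + 1), a i • φ^[i] v) :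
    ∃ c : ℕ → K, c r ≠ 0 ∧
      φ (∑ i ∈ Finset.range (r + 1), c i • φ^[i] v) = ∑ i ∈ Finset.range (r + 1), c i • φ^[i] v := by
  have hnz : ∃ j ≤ r, a j ≠ 0 := by
    by_contra hall
    push Not at hall
    have h1 : φ^[r + 1] v = 0 := by
      rw [hrel]
      apply Finset.sum_eq_zero
      intro i hi
      rw [hall i (by rw [Finset.mem_range] at hi; omega), zero_smul]
    have h0 : φ^[r + 1] 0 = 0 := Function.iterate_fixed (map_zero φ) _
    exact hv ((hinj.iterate (r + 1)) (h1.trans h0.symm))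
  obtain ⟨t, ht0, ht⟩ := exists_root_Cp q hq a r hnz
  refine ⟨fun i => (Cp q a i).eval t, by show (Cp q a r).eval t ≠ 0; rw [ht]; exact ht0, ?_⟩
  show φ (∑ i ∈ Finset.range (r + 1), (Cp q a i).eval t • φ^[i] v) =
    ∑ i ∈ Finset.range (r + 1), (Cp q a i).eval t • φ^[i] v
  have hc0 : (Cp q a 0).eval t = a 0 * t ^ q := by
    rw [Cp_zero, eval_mul, eval_C, eval_pow, eval_X]
  have hcs : ∀ i, (Cp q a (i + 1)).eval t = ((Cp q a i).eval t) ^ q + a (i + 1) * t ^ q := by
    intro i
    rw [Cp_succ, eval_add, eval_pow, eval_mul, eval_C, eval_pow, eval_X]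
  rw [map_sum]
  have hL : ∑ i ∈ Finset.range (r + 1), φ ((Cp q a i).eval t • φ^[i] v) =
      ∑ i ∈ Finset.range r, ((Cp q a i).eval t) ^ q • φ^[i + 1] v +
        t ^ q • ∑ i ∈ Finset.range (r + 1), a i • φ^[i] v := by
    rw [Finset.sum_range_succ]
    congr 1
    · apply Finset.sum_congr rfl
      intro i _
      rw [map_smulₛₗ, hσ, Function.iterate_succ_apply']
    · rw [map_smulₛₗ, hσ, ht, ← hrel, Function.iterate_succ_apply']
  rw [hL, Finset.sum_range_succ' (fun i => (Cp q a i).eval t • φ^[i] v),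
    Finset.sum_range_succ' (fun i => a i • φ^[i] v), smul_add, Finset.smul_sum, ← add_assoc,
    ← Finset.sum_add_distrib]
  congr 1
  · apply Finset.sum_congr rfl
    intro i _
    rw [hcs, add_smul, smul_smul, mul_comm]
  · rw [hc0, smul_smul, mul_comm]

theorem exists_fixed_of_rel (hq : 2 ≤ q) (hσ : ∀ a, σ a = a ^ q) (φ : V →ₛₗ[σ] V)
    (hinj : Function.Injective φ) (r : ℕ) : ∀ (v : V) (a : ℕ → K), v ≠ 0 →
      φ^[r + 1] v = ∑ i ∈ Finset.range (r + 1), a i • φ^[i] v → ∃ w, w ≠ 0 ∧ φ w = w := by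
  induction r with
  | zero =>
    intro v a hv hrel
    obtain ⟨c, hc, hfix⟩ := fixed_candidate hq hσ φ hinj 0 v a hv hrel
    refine ⟨_, ?_, hfix⟩
    simp [hc, hv]
  | succ r ih =>
    intro v a hv hrel
    obtain ⟨c, hc, hfix⟩ := fixed_candidate hq hσ φ hinj (r + 1) v a hv hrel
    by_cases hw : (∑ i ∈ Finset.range (r + 1 + 1), c i • φ^[i] v) = 0
    · apply ih v (fun i => -(c i / c (r + 1))) hv
      rw [Finset.sum_range_succ] at hw
      have h1 : φ^[r + 1] v = (c (r + 1))⁻¹ • (c (r + 1) • φ^[r + 1] v) := by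
        rw [smul_smul, inv_mul_cancel₀ hc, one_smul]
      rw [h1, eq_neg_of_add_eq_zero_right hw, smul_neg, Finset.smul_sum, ← Finset.sum_neg_distrib]
      apply Finset.sum_congr rfl
      intro i _
      rw [smul_smul, neg_smul, div_eq_inv_mul]
    · exact ⟨_, hw, hfix⟩

theorem exists_rel [FiniteDimensional K V] (φ : V → V) (v : V) (hv : v ≠ 0) :
    ∃ (r : ℕ) (a : ℕ → K), φ^[r + 1] v = ∑ i ∈ Finset.range (r + 1), a i • φ^[i] v := by
  by_contra hno
  push Not at hno
  have hli : ∀ m : ℕ, LinearIndependent K (fun i : Fin (m + 1) => φ^[(i : ℕ)] v) := by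
    intro m
    induction m with
    | zero =>
      have : (fun i : Fin (0 + 1) => φ^[(i : ℕ)] v) = fun _ => v := by
        funext i
        have : (i : ℕ) = 0 := by omega
        rw [this]
        rfl
      rw [this]
      haveI : Subsingleton (Fin (0 + 1)) := by
        rw [zero_add]; infer_instance
      exact LinearIndependent.of_subsingleton (⟨0, by omega⟩ : Fin (0 + 1)) hv
    | succ m ih =>
      have hsn : (fun i : Fin (m + 1 + 1) => φ^[(i : ℕ)] v) =
          Fin.snoc (fun i : Fin (m + 1) => φ^[(i : ℕ)] v) (φ^[m + 1] v) := by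
        funext i
        refine Fin.lastCases ?_ (fun j => ?_) i
        · simp
        · simp
      rw [hsn, linearIndependent_finSnoc]
      refine ⟨ih, ?_⟩
      intro hmem
      obtain ⟨c, hc⟩ := (Submodule.mem_span_range_iff_exists_fun K).mp hmem
      apply hno m (fun i => if h : i < m + 1 then c ⟨i, h⟩ else 0)
      rw [← hc, ← Fin.sum_univ_eq_sum_range (fun i => (if h : i < m + 1 then c ⟨i, h⟩ else 0) • φ^[i] v)]
      apply Finset.sum_congr rfl
      intro i _
      rw [dif_pos i.2]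
  have := (hli (Module.finrank K V)).fintype_card_le_finrank
  rw [Fintype.card_fin] at this
  omega

theorem exists_fixed [FiniteDimensional K V] [Nontrivial V] (hq : 2 ≤ q) (hσ : ∀ a, σ a = a ^ q)
    (φ : V →ₛₗ[σ] V) (hinj : Function.Injective φ) : ∃ w, w ≠ 0 ∧ φ w = w := by
  obtain ⟨v, hv⟩ := exists_ne (0 : V)
  obtain ⟨r, a, hrel⟩ := exists_rel (K := K) φ v hv
  exact exists_fixed_of_rel hq hσ φ hinj r v a hv hrel

theorem span_fixed_eq_top [FiniteDimensional K V] (hq : 2 ≤ q) (hσ : ∀ a, σ a = a ^ q)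
    (hσs : Function.Surjective σ) (φ : V →ₛₗ[σ] V) (hinj : Function.Injective φ) :
    Submodule.span K {v : V | φ v = v} = ⊤ := by
  set W := Submodule.span K {v : V | φ v = v} with hW
  by_contra hne
  have hstab : W ≤ W.comap φ := by
    rw [hW, Submodule.span_le]
    intro v hv
    show φ v ∈ W
    have hv' : φ v = v := hv
    rw [hv']
    exact Submodule.subset_span hv
  have hsurj : ∀ w ∈ W, ∃ w' ∈ W, φ w' = w := by
    intro w hw
    induction hw using Submodule.span_induction with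
    | mem v hv => exact ⟨v, Submodule.subset_span hv, hv⟩
    | zero => exact ⟨0, W.zero_mem, map_zero φ⟩
    | add x y _ _ hx hy =>
      obtain ⟨x', hx', rfl⟩ := hx
      obtain ⟨y', hy', rfl⟩ := hy
      exact ⟨x' + y', W.add_mem hx' hy', map_add φ x' y'⟩
    | smul a x _ hx =>
      obtain ⟨x', hx', rfl⟩ := hx
      obtain ⟨b, rfl⟩ := hσs a
      exact ⟨b • x', W.smul_mem b hx', map_smulₛₗ φ b x'⟩
  have hback : ∀ v, φ v ∈ W → v ∈ W := by
    intro v hv
    obtain ⟨w', hw', he⟩ := hsurj _ hv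
    rw [← hinj he]
    exact hw'
  let φq : (V ⧸ W) →ₛₗ[σ] (V ⧸ W) := W.mapQ W φ hstab
  have hφq : ∀ v : V, φq (Submodule.Quotient.mk v) = Submodule.Quotient.mk (φ v) := fun v => rfl
  have hinjq : Function.Injective φq := by
    rw [injective_iff_map_eq_zero]
    intro x hx
    obtain ⟨v, rfl⟩ := Submodule.Quotient.mk_surjective W x
    rw [hφq, Submodule.Quotient.mk_eq_zero] at hx
    rw [Submodule.Quotient.mk_eq_zero]
    exact hback v hx
  haveI : Nontrivial (V ⧸ W) := Submodule.Quotient.nontrivial_iff.mpr hne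
  obtain ⟨x, hx0, hxfix⟩ := exists_fixed hq hσ φq hinjq
  obtain ⟨u, rfl⟩ := Submodule.Quotient.mk_surjective W x
  rw [hφq, Submodule.Quotient.eq] at hxfix
  obtain ⟨n, c, g, hsum⟩ := Submodule.mem_span_set'.mp hxfix
  have hroot : ∀ j : Fin n, ∃ t : K, t ^ q - t + c j = 0 := by
    intro j
    have hdeg : (X ^ q - X + C (c j) : K[X]).degree ≠ 0 := by
      intro h0
      have h1 := natDegree_eq_zero_iff_degree_le_zero.mpr h0.le
      rw [natDegree_add_C, FiniteField.X_pow_card_sub_X_natDegree_eq K (by omega : 1 < q)] at h1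
      omega
    obtain ⟨t, ht⟩ := IsAlgClosed.exists_root _ hdeg
    refine ⟨t, ?_⟩
    rw [IsRoot.def, eval_add, eval_sub, eval_pow, eval_X, eval_C] at ht
    exact ht
  choose t ht using hroot
  have hgfix : ∀ j : Fin n, φ (g j : V) = (g j : V) := fun j => (g j).2
  set u' := u + ∑ j, t j • (g j : V) with hu'
  have hu'fix : φ u' = u' := by
    have h1 : φ u = u + ∑ j, c j • (g j : V) := by
      rw [hsum]; abel
    rw [hu', map_add, map_sum, h1, add_assoc, ← Finset.sum_add_distrib]
    congr 1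
    apply Finset.sum_congr rfl
    intro j _
    rw [map_smulₛₗ, hσ, hgfix, ← add_smul]
    congr 1
    have := ht j
    linear_combination this
  have hu'W : u' ∈ W := Submodule.subset_span hu'fix
  have hsW : ∑ j, t j • (g j : V) ∈ W :=
    Submodule.sum_mem _ (fun j _ => W.smul_mem _ (Submodule.subset_span (g j).2))
  have huW : u ∈ W := by
    have : u = u' - ∑ j, t j • (g j : V) := by rw [hu']; abel
    rw [this]
    exact W.sub_mem hu'W hsW
  exact hx0 ((Submodule.Quotient.mk_eq_zero W).mpr huW)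

end semilinear

end Cfsg.Agent.S2665

namespace Cfsg.Agent.S2665
open Matrix

theorem result {K : Type*} [Field K] [IsAlgClosed K] (p : ℕ) [Fact p.Prime] [CharP K p]
    (f : ℕ) (hf : 1 ≤ f) (n : ℕ) (g : GL (Fin n) K) :
    ∃ x : GL (Fin n) K, g = x * (Matrix.GeneralLinearGroup.map (iterateFrobenius K p f) x)⁻¹ := by
  classical
  set σ : K →+* K := iterateFrobenius K p f with hσdef
  have hp2 : 2 ≤ p := (Fact.out : p.Prime).two_le
  have hq : 2 ≤ p ^ f := by
    calc 2 ≤ p := hp2
      _ = p ^ 1 := (pow_one p).symm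
      _ ≤ p ^ f := Nat.pow_le_pow_right (by omega) hf
  have hσ : ∀ a, σ a = a ^ (p ^ f) := fun a => rfl
  haveI : PerfectRing K p := PerfectField.toPerfectRing p
  have hσb : Function.Bijective σ := bijective_iterateFrobenius K p f
  let φ : (Fin n → K) →ₛₗ[σ] (Fin n → K) :=
    { toFun := fun v => (g : Matrix (Fin n) (Fin n) K) *ᵥ (fun i => σ (v i))
      map_add' := by
        intro v w
        rw [← Matrix.mulVec_add]
        congr 1
        funext i
        simp
      map_smul' := by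
        intro a v
        rw [← Matrix.mulVec_smul]
        congr 1
        funext i
        simp }
  have hφ : ∀ v, φ v = (g : Matrix (Fin n) (Fin n) K) *ᵥ (fun i => σ (v i)) := fun v => rfl
  have hinj : Function.Injective φ := by
    intro v w hvw
    rw [hφ, hφ] at hvw
    have h1 := congrArg (fun u => ((g⁻¹ : GL (Fin n) K) : Matrix (Fin n) (Fin n) K) *ᵥ u) hvw
    simp only [Matrix.mulVec_mulVec, Units.inv_mul, Matrix.one_mulVec] at h1
    funext i
    exact hσb.1 (congrFun h1 i)
  have hspan := span_fixed_eq_top hq hσ hσb.2 φ hinj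
  obtain ⟨b, hbsub, hbspan, hbli⟩ := exists_linearIndependent K {v : Fin n → K | φ v = v}
  let B : Module.Basis b K (Fin n → K) := Module.Basis.mk hbli (by
    rw [Subtype.range_coe, hbspan, hspan])
  haveI : Finite b := Module.Finite.finite_basis B
  haveI : Fintype b := Fintype.ofFinite b
  have hcard : Fintype.card b = n := by
    rw [← Module.finrank_eq_card_basis B, Module.finrank_fin_fun]
  let e : b ≃ Fin n := Fintype.equivFinOfCardEq hcard
  let B' : Module.Basis (Fin n) K (Fin n → K) := B.reindex e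
  have hB'fix : ∀ j, φ (B' j) = B' j := by
    intro j
    have h1 : B' j = ((e.symm j : b) : Fin n → K) := by
      rw [Module.Basis.reindex_apply, Module.Basis.mk_apply]
    rw [h1]
    exact hbsub (e.symm j).2
  let M : Matrix (Fin n) (Fin n) K := (Pi.basisFun K (Fin n)).toMatrix B'
  let M' : Matrix (Fin n) (Fin n) K := B'.toMatrix (Pi.basisFun K (Fin n))
  have hM : ∀ i j, M i j = B' j i := by
    intro i j
    show (Pi.basisFun K (Fin n)).toMatrix B' i j = B' j i
    rw [Module.Basis.toMatrix_apply, Pi.basisFun_repr]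
  let x : GL (Fin n) K := ⟨M, M', Module.Basis.toMatrix_mul_toMatrix_flip _ _,
    Module.Basis.toMatrix_mul_toMatrix_flip _ _⟩
  refine ⟨x, ?_⟩
  apply eq_mul_inv_of_mul_eq
  apply Units.ext
  rw [Units.val_mul]
  ext i j
  show ((g : Matrix (Fin n) (Fin n) K) * M.map σ) i j = M i j
  rw [Matrix.mul_apply, hM, ← hB'fix j, hφ]
  show _ = ∑ k, (g : Matrix (Fin n) (Fin n) K) i k * σ (B' j k)
  apply Finset.sum_congr rfl
  intro k _
  rw [Matrix.map_apply, hM]

end Cfsg.Agent.S2665
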