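import Cfsg.Statements.S2666

set_option autoImplicit false
open Cfsg

namespace Cfsg.Agent.S2666

theorem mem_fix {X : Type*} [Group X] (τ : MulAut X) (x : X) :
    x ∈ (MulEquiv.toMonoidHom τ).eqLocus (MonoidHom.id X) ↔ τ x = x := Iff.rfl

theorem pow_fix {X : Type*} [Group X] (σ : MulAut X) (e : ℕ) (h : X) (hh : σ h = h) : (σ ^ e) h = h := by
  induction e with
  | zero => simp
  | succ n ih => rw [pow_succ, MulAut.mul_apply, hh, ih]

theorem pow_comm_apply {X : Type*} [Group X] (σ : MulAut X) (i j : ℕ) (y : X) :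
    (σ ^ i) ((σ ^ j) y) = (σ ^ j) ((σ ^ i) y) := by
  rw [← MulAut.mul_apply, ← MulAut.mul_apply, ← pow_add, ← pow_add, add_comm]

theorem norm_eq {X : Type*} [Group X] (σ : MulAut X) (a : X) (d : ℕ) :
    ((List.range d).map (fun i => (σ ^ i) (a * (σ a)⁻¹))).prod = a * ((σ ^ d) a)⁻¹ := by
  induction d with
  | zero => simp
  | succ n ih =>
    rw [List.range_succ, List.map_append, List.prod_append, ih]
    simp only [List.map_cons, List.map_nil, List.prod_cons, List.prod_nil, mul_one, map_mul, map_inv]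
    have : (σ ^ n) (σ a) = (σ ^ (n + 1)) a := by
      rw [pow_succ, MulAut.mul_apply]
    rw [this]
    group

/-- the Shintani image is σ-fixed -/
theorem x_fixed {X : Type*} [Group X] (σ : MulAut X) (e : ℕ) (a : X)
    (hg : (σ ^ e) (a * (σ a)⁻¹) = a * (σ a)⁻¹) :
    σ (((σ ^ e) a)⁻¹ * a) = ((σ ^ e) a)⁻¹ * a := by
  set τ := σ ^ e with hτ
  have hτσ : ∀ y, τ (σ y) = σ (τ y) := by
    intro y
    have := pow_comm_apply σ e 1 y
    simpa using this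
  have h1 : τ a * (σ (τ a))⁻¹ = a * (σ a)⁻¹ := by
    simpa [map_mul, map_inv, hτσ] using hg
  simp only [map_mul, map_inv]
  calc (σ (τ a))⁻¹ * σ a = (τ a)⁻¹ * (τ a * (σ (τ a))⁻¹) * σ a := by group
    _ = (τ a)⁻¹ * (a * (σ a)⁻¹) * σ a := by rw [h1]
    _ = (τ a)⁻¹ * a := by group

theorem result {X : Type*} [Group X] (σ : MulAut X) (e : ℕ) (he : 1 ≤ e)
    (hL : ∀ g : X, ∃ a : X, g = a * (σ a)⁻¹) (hLe : ∀ g : X, ∃ a : X, g = a * ((σ ^ e) a)⁻¹) :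
    (∀ g ∈ (MulEquiv.toMonoidHom (σ ^ e)).eqLocus (MonoidHom.id X), ∀ a : X, g = a * (σ a)⁻¹ →
        ((σ ^ e) a)⁻¹ * a ∈ (MulEquiv.toMonoidHom σ).eqLocus (MonoidHom.id X) ∧
          a⁻¹ * ((List.range e).map (fun i => (σ ^ i) g)).prod * a = ((σ ^ e) a)⁻¹ * a) ∧
    (∀ g ∈ (MulEquiv.toMonoidHom (σ ^ e)).eqLocus (MonoidHom.id X), ∀ g' ∈ (MulEquiv.toMonoidHom (σ ^ e)).eqLocus (MonoidHom.id X), ∀ a b : X,
        g = a * (σ a)⁻¹ → g' = b * (σ b)⁻¹ →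
          ((∃ k ∈ (MulEquiv.toMonoidHom (σ ^ e)).eqLocus (MonoidHom.id X), g' = k * g * (σ k)⁻¹) ↔
            (∃ h ∈ (MulEquiv.toMonoidHom σ).eqLocus (MonoidHom.id X), ((σ ^ e) b)⁻¹ * b = h * (((σ ^ e) a)⁻¹ * a) * h⁻¹))) ∧
    (∀ x ∈ (MulEquiv.toMonoidHom σ).eqLocus (MonoidHom.id X), ∃ g ∈ (MulEquiv.toMonoidHom (σ ^ e)).eqLocus (MonoidHom.id X), ∃ a : X,
        g = a * (σ a)⁻¹ ∧ ((σ ^ e) a)⁻¹ * a = x) := by
  simp only [mem_fix]
  set τ := σ ^ e with hτ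
  have hτσ : ∀ y, τ (σ y) = σ (τ y) := by
    intro y
    have := pow_comm_apply σ e 1 y
    simpa using this
  refine ⟨?_, ?_, ?_⟩
  · intro g hg a ha
    subst ha
    refine ⟨x_fixed σ e a hg, ?_⟩
    rw [norm_eq σ a e, ← hτ]
    simp [mul_assoc]
  · intro g hg g' hg' a b ha hb
    subst ha hb
    constructor
    · rintro ⟨k, hk, hkg⟩
      -- h := b⁻¹ k a
      have h1 : σ (b⁻¹ * k * a) = b⁻¹ * k * a := by
        simp only [map_mul, map_inv]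
        calc (σ b)⁻¹ * σ k * σ a = b⁻¹ * (b * (σ b)⁻¹) * σ k * σ a := by group
          _ = b⁻¹ * (k * (a * (σ a)⁻¹) * (σ k)⁻¹) * σ k * σ a := by rw [hkg]
          _ = b⁻¹ * k * a := by group
      refine ⟨b⁻¹ * k * a, h1, ?_⟩
      have h2 : τ (b⁻¹ * k * a) = b⁻¹ * k * a := pow_fix σ e _ h1
      simp only [map_mul, map_inv] at h2
      rw [hk] at h2
      -- h2 : (τ b)⁻¹ * k * τ a = b⁻¹ * k * a
      calc (τ b)⁻¹ * b = ((τ b)⁻¹ * k * τ a) * (τ a)⁻¹ * k⁻¹ * b := by group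
        _ = (b⁻¹ * k * a) * (τ a)⁻¹ * k⁻¹ * b := by rw [h2]
        _ = b⁻¹ * k * a * ((τ a)⁻¹ * a) * (b⁻¹ * k * a)⁻¹ := by group
    · rintro ⟨h, hh, hx⟩
      have hhτ : τ h = h := pow_fix σ e _ hh
      refine ⟨b * h * a⁻¹, ?_, ?_⟩
      · simp only [map_mul, map_inv, hhτ]
        -- τ b * h * (τ a)⁻¹ = b * h * a⁻¹
        calc τ b * h * (τ a)⁻¹ = τ b * (h * ((τ a)⁻¹ * a) * h⁻¹) * h * a⁻¹ := by group
          _ = τ b * ((τ b)⁻¹ * b) * h * a⁻¹ := by rw [hx]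
          _ = b * h * a⁻¹ := by group
      · simp only [map_mul, map_inv, hh]
        group
  · intro x hx
    obtain ⟨c, hc⟩ := hLe x⁻¹
    have hxc : x = τ c * c⁻¹ := by
      calc x = (x⁻¹)⁻¹ := by group
        _ = (c * (τ c)⁻¹)⁻¹ := by rw [hc]
        _ = τ c * c⁻¹ := by group
    have hxτ : τ x = x := pow_fix σ e _ hx
    refine ⟨c⁻¹ * (σ c⁻¹)⁻¹, ?_, c⁻¹, rfl, ?_⟩
    · -- τ c = x * c
      have h3 : τ c = x * c := by rw [hxc]; group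
      simp only [map_mul, map_inv, inv_inv, hτσ, h3, hx]
      group
    · rw [hxc]; simp

end Cfsg.Agent.S2666
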