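import Cfsg.Statements.S2667

set_option autoImplicit false
open Cfsg

namespace Cfsg.Agent.S2667

theorem pow_fix {X : Type*} [Group X] (σ : MulAut X) (e : ℕ) (h : X) (hh : σ h = h) : (σ ^ e) h = h := by
  induction e with
  | zero => simp
  | succ n ih => rw [pow_succ, MulAut.mul_apply, hh, ih]

theorem mem_fix {X : Type*} [Group X] (τ : MulAut X) (x : X) :
    x ∈ (MulEquiv.toMonoidHom τ).eqLocus (MonoidHom.id X) ↔ τ x = x := Iff.rfl

/-- Shintani descent, in an abstract form. -/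
theorem result {X : Type*} [Group X] (σ : MulAut X) (e : ℕ) (he : 1 ≤ e)
    (g : X) (hg : g ∈ (MulEquiv.toMonoidHom (σ ^ e)).eqLocus (MonoidHom.id X)) (a : X) (ha : g = a * (σ a)⁻¹) (k : X) :
    (k ∈ (MulEquiv.toMonoidHom (σ ^ e)).eqLocus (MonoidHom.id X) ∧ k * g * (σ k)⁻¹ = g) ↔
      (a⁻¹ * k * a ∈ (MulEquiv.toMonoidHom σ).eqLocus (MonoidHom.id X) ∧
        (a⁻¹ * k * a) * (((σ ^ e) a)⁻¹ * a) = (((σ ^ e) a)⁻¹ * a) * (a⁻¹ * k * a)) := by
  simp only [mem_fix] at hg ⊢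
  set τ := σ ^ e with hτ
  -- first equivalence: twisted-centralizing iff a⁻¹ k a fixed by σ
  have key1 : k * g * (σ k)⁻¹ = g ↔ σ (a⁻¹ * k * a) = a⁻¹ * k * a := by
    subst ha
    simp only [map_mul, map_inv]
    constructor
    · intro h
      have : k * a = a * (σ a)⁻¹ * σ k * σ a := by
        calc k * a = (k * (a * (σ a)⁻¹) * (σ k)⁻¹) * σ k * σ a := by group
          _ = a * (σ a)⁻¹ * σ k * σ a := by rw [h]
      calc (σ a)⁻¹ * σ k * σ a = a⁻¹ * (a * (σ a)⁻¹ * σ k * σ a) := by group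
        _ = a⁻¹ * (k * a) := by rw [this]
        _ = a⁻¹ * k * a := by group
    · intro h
      have : σ k = σ a * (a⁻¹ * k * a) * (σ a)⁻¹ := by
        rw [← h]; group
      rw [this]; group
  constructor
  · rintro ⟨hk, hkg⟩
    have h1 := key1.mp hkg
    refine ⟨h1, ?_⟩
    have h2 : τ (a⁻¹ * k * a) = a⁻¹ * k * a := pow_fix σ e _ h1
    simp only [map_mul, map_inv] at h2
    rw [hk] at h2
    -- h2 : (τ a)⁻¹ * k * τ a = a⁻¹ * k * a
    have h3 : k * τ a = τ a * (a⁻¹ * k * a) := by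
      rw [← h2]; group
    calc a⁻¹ * k * a * ((τ a)⁻¹ * a) = (τ a)⁻¹ * (τ a * (a⁻¹ * k * a)) * (τ a)⁻¹ * a := by group
      _ = (τ a)⁻¹ * (k * τ a) * (τ a)⁻¹ * a := by rw [h3]
      _ = (τ a)⁻¹ * a * (a⁻¹ * k * a) := by group
  · rintro ⟨h1, hc⟩
    refine ⟨?_, key1.mpr h1⟩
    have h2 : τ (a⁻¹ * k * a) = a⁻¹ * k * a := pow_fix σ e _ h1
    simp only [map_mul, map_inv] at h2
    -- hc : h * ((τ a)⁻¹ * a) = (τ a)⁻¹ * a * h
    have h3 : τ a * (a⁻¹ * k * a) * (τ a)⁻¹ = k := by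
      calc τ a * (a⁻¹ * k * a) * (τ a)⁻¹ = τ a * ((a⁻¹ * k * a) * ((τ a)⁻¹ * a)) * a⁻¹ := by group
        _ = τ a * ((τ a)⁻¹ * a * (a⁻¹ * k * a)) * a⁻¹ := by rw [hc]
        _ = k := by group
    calc τ k = τ a * ((τ a)⁻¹ * τ k * τ a) * (τ a)⁻¹ := by group
      _ = τ a * (a⁻¹ * k * a) * (τ a)⁻¹ := by rw [h2]
      _ = k := h3

end Cfsg.Agent.S2667
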