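import Cfsg.Statements.S2668

set_option autoImplicit false
open Cfsg

namespace Cfsg.Agent.S2668

theorem mem_fix {X : Type*} [Group X] (τ : MulAut X) (x : X) :
    x ∈ (MulEquiv.toMonoidHom τ).eqLocus (MonoidHom.id X) ↔ τ x = x := Iff.rfl

theorem pow_fix {X : Type*} [Group X] (σ : MulAut X) (e : ℕ) (h : X) (hh : σ h = h) : (σ ^ e) h = h := by
  induction e with
  | zero => simp
  | succ n ih => rw [pow_succ, MulAut.mul_apply, hh, ih]

theorem pow_comm_apply {X : Type*} [Group X] (σ : MulAut X) (i j : ℕ) (y : X) :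
    (σ ^ i) ((σ ^ j) y) = (σ ^ j) ((σ ^ i) y) := by
  rw [← MulAut.mul_apply, ← MulAut.mul_apply, ← pow_add, ← pow_add, add_comm]

theorem norm_eq {X : Type*} [Group X] (σ : MulAut X) (a : X) (d : ℕ) :
    ((List.range d).map (fun i => (σ ^ i) (a * (σ a)⁻¹))).prod = a * ((σ ^ d) a)⁻¹ := by
  induction d with
  | zero => simp
  | succ n ih =>
    rw [List.range_succ, List.map_append, List.prod_append, ih]
    simp only [List.map_cons, List.map_nil, List.prod_cons, List.prod_nil, mul_one, map_mul, map_inv]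
    have : (σ ^ n) (σ a) = (σ ^ (n + 1)) a := by
      rw [pow_succ, MulAut.mul_apply]
    rw [this]
    group

theorem result {X : Type*} [Group X] (σ : MulAut X) (e d : ℕ) (he : 1 ≤ e) (hd : 1 ≤ d)
    (g : X) (hg : g ∈ (MulEquiv.toMonoidHom (σ ^ e)).eqLocus (MonoidHom.id X)) (a : X) (ha : g = a * (σ a)⁻¹) :
    ((List.range d).map (fun i => (σ ^ i) g)).prod = a * ((σ ^ d) a)⁻¹ ∧
      ((List.range d).map (fun i => (σ ^ i) g)).prod ∈ (MulEquiv.toMonoidHom ((σ ^ d) ^ e)).eqLocus (MonoidHom.id X) ∧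
      (((σ ^ d) ^ e) a)⁻¹ * a = (((σ ^ e) a)⁻¹ * a) ^ d := by
  rw [mem_fix] at hg
  have hde : (σ ^ d) ^ e = (σ ^ e) ^ d := by rw [← pow_mul, ← pow_mul, mul_comm]
  set τ := σ ^ e with hτ
  have hτσ : ∀ y, τ (σ y) = σ (τ y) := by
    intro y
    have := pow_comm_apply σ e 1 y
    simpa using this
  -- x is σ-fixed
  have hx : σ ((τ a)⁻¹ * a) = (τ a)⁻¹ * a := by
    have h1 : τ a * (σ (τ a))⁻¹ = a * (σ a)⁻¹ := by
      have := hg
      rw [ha] at this
      simpa [map_mul, map_inv, hτσ] using this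
    simp only [map_mul, map_inv]
    calc (σ (τ a))⁻¹ * σ a = (τ a)⁻¹ * (τ a * (σ (τ a))⁻¹) * σ a := by group
      _ = (τ a)⁻¹ * (a * (σ a)⁻¹) * σ a := by rw [h1]
      _ = (τ a)⁻¹ * a := by group
  have hxτ : τ ((τ a)⁻¹ * a) = (τ a)⁻¹ * a := pow_fix σ e _ hx
  refine ⟨?_, ?_, ?_⟩
  · rw [ha]; exact norm_eq σ a d
  · rw [mem_fix, hde]
    -- each factor is fixed by τ^d
    have hfix : ∀ i : ℕ, (τ ^ d) ((σ ^ i) g) = (σ ^ i) g := by
      intro i
      apply pow_fix
      have : τ ((σ ^ i) g) = (σ ^ i) (τ g) := by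
        rw [hτ]; exact pow_comm_apply σ e i g
      rw [this, hg]
    rw [map_list_prod, List.map_map]
    congr 1
    apply List.map_congr_left
    intro i _
    exact hfix i
  · rw [hde]
    -- τ^d a = a * x^{-d}
    have key : ∀ n : ℕ, (τ ^ n) a = a * (((τ a)⁻¹ * a) ^ n)⁻¹ := by
      intro n
      induction n with
      | zero => simp
      | succ n ih =>
        rw [pow_succ', MulAut.mul_apply, ih, map_mul, map_inv, map_pow, hxτ, pow_succ]
        group
    rw [key d]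
    group

end Cfsg.Agent.S2668
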