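import Cfsg.Statements.S2669

set_option autoImplicit false
open Cfsg

namespace Cfsg.Agent.S2669

theorem mem_fix {X : Type*} [Group X] (τ : MulAut X) (x : X) :
    x ∈ (MulEquiv.toMonoidHom τ).eqLocus (MonoidHom.id X) ↔ τ x = x := Iff.rfl

theorem pow_fix {X : Type*} [Group X] (σ : MulAut X) (e : ℕ) (h : X) (hh : σ h = h) : (σ ^ e) h = h := by
  induction e with
  | zero => simp
  | succ n ih => rw [pow_succ, MulAut.mul_apply, hh, ih]

section
variable {X : Type*} [Group X] (σ τ : MulAut X) (Y : Subgroup X) (g x a : X)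

/-- the set Φ -/
abbrev PhiSet : Type _ :=
  {p : X × X // τ p.1 = p.1 ∧ p.2 ∈ Y ∧ p.1⁻¹ * g * σ p.1 = p.2 * (σ p.2)⁻¹}

/-- the set Ψ -/
abbrev PsiSet : Type _ :=
  {p : X × X // σ p.1 = p.1 ∧ p.2 ∈ Y ∧ p.1⁻¹ * x * p.1 = (τ p.2)⁻¹ * p.2}

end

theorem result {X : Type*} [Group X] (σ : MulAut X) (e : ℕ) (he : 1 ≤ e)
    [Finite ↥((MulEquiv.toMonoidHom (σ ^ e)).eqLocus (MonoidHom.id X))]
    (Y : Subgroup X) (hY : ∀ y : X, y ∈ Y ↔ σ y ∈ Y)
    (hYL : ∀ y ∈ Y, ∃ a ∈ Y, y = a * (σ a)⁻¹) (hYLe : ∀ y ∈ Y, ∃ a ∈ Y, y = a * ((σ ^ e) a)⁻¹)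
    (g : X) (hg : g ∈ (MulEquiv.toMonoidHom (σ ^ e)).eqLocus (MonoidHom.id X)) (a : X) (ha : g = a * (σ a)⁻¹) :
    Nat.card {k : ↥((MulEquiv.toMonoidHom (σ ^ e)).eqLocus (MonoidHom.id X)) // (k : X)⁻¹ * g * σ k ∈ Y} *
        Nat.card ↥(Y ⊓ (MulEquiv.toMonoidHom σ).eqLocus (MonoidHom.id X)) =
      Nat.card {h : ↥((MulEquiv.toMonoidHom σ).eqLocus (MonoidHom.id X)) // (h : X)⁻¹ * (((σ ^ e) a)⁻¹ * a) * h ∈ Y} *
        Nat.card ↥(Y ⊓ (MulEquiv.toMonoidHom (σ ^ e)).eqLocus (MonoidHom.id X)) := by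
  classical
  set τ := σ ^ e with hτ
  set x := (τ a)⁻¹ * a with hx
  have hτfix : ∀ h, σ h = h → τ h = h := fun h hh => pow_fix σ e h hh
  -- choice of b_k
  have hb : ∀ k : {k : ↥((MulEquiv.toMonoidHom τ).eqLocus (MonoidHom.id X)) // (k : X)⁻¹ * g * σ k ∈ Y},
      ∃ b ∈ Y, (k.1 : X)⁻¹ * g * σ k.1 = b * (σ b)⁻¹ := fun k => hYL _ k.2
  choose bk hbkY hbk using hb
  have hc : ∀ h : {h : ↥((MulEquiv.toMonoidHom σ).eqLocus (MonoidHom.id X)) // (h : X)⁻¹ * x * h ∈ Y},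
      ∃ c ∈ Y, (h.1 : X)⁻¹ * x * h.1 = (τ c)⁻¹ * c := by
    intro h
    obtain ⟨c', hc'Y, hc'⟩ := hYLe _ (Y.inv_mem h.2)
    refine ⟨c'⁻¹, Y.inv_mem hc'Y, ?_⟩
    have : (h.1 : X)⁻¹ * x * h.1 = (c' * (τ c')⁻¹)⁻¹ := by rw [← hc', inv_inv]
    rw [this]; simp
  choose ch hchY hch using hc
  -- equivalence 1
  let E1 : {k : ↥((MulEquiv.toMonoidHom τ).eqLocus (MonoidHom.id X)) // (k : X)⁻¹ * g * σ k ∈ Y} ×
      ↥(Y ⊓ (MulEquiv.toMonoidHom σ).eqLocus (MonoidHom.id X)) ≃ PhiSet σ τ Y g :=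
    { toFun := fun p => ⟨((p.1.1 : X), bk p.1 * (p.2 : X)), by
        refine ⟨p.1.1.2, Y.mul_mem (hbkY p.1) p.2.2.1, ?_⟩
        have hu : σ (p.2 : X) = p.2 := p.2.2.2
        simp only [map_mul, hu]
        rw [hbk p.1]; group⟩
      invFun := fun q => (⟨⟨q.1.1, q.2.1⟩, by
          show (q.1.1)⁻¹ * g * σ q.1.1 ∈ Y
          rw [q.2.2.2]
          have h2 : σ q.1.2 ∈ Y := (hY _).mp q.2.2.1
          exact Y.mul_mem q.2.2.1 (Y.inv_mem h2)⟩,
        ⟨(bk ⟨⟨q.1.1, q.2.1⟩, by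
          show (q.1.1)⁻¹ * g * σ q.1.1 ∈ Y
          rw [q.2.2.2]
          have h2 : σ q.1.2 ∈ Y := (hY _).mp q.2.2.1
          exact Y.mul_mem q.2.2.1 (Y.inv_mem h2)⟩)⁻¹ * q.1.2, by
          set kk : {k : ↥((MulEquiv.toMonoidHom τ).eqLocus (MonoidHom.id X)) // (k : X)⁻¹ * g * σ k ∈ Y} :=
            ⟨⟨q.1.1, q.2.1⟩, by
              show (q.1.1)⁻¹ * g * σ q.1.1 ∈ Y
              rw [q.2.2.2]
              have h2 : σ q.1.2 ∈ Y := (hY _).mp q.2.2.1
              exact Y.mul_mem q.2.2.1 (Y.inv_mem h2)⟩ with hkk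
          refine ⟨Y.mul_mem (Y.inv_mem (hbkY kk)) q.2.2.1, ?_⟩
          show σ ((bk kk)⁻¹ * q.1.2) = (bk kk)⁻¹ * q.1.2
          have h1 : bk kk * (σ (bk kk))⁻¹ = q.1.2 * (σ q.1.2)⁻¹ := by
            rw [← hbk kk, ← q.2.2.2]
          simp only [map_mul, map_inv]
          calc (σ (bk kk))⁻¹ * σ q.1.2 = (bk kk)⁻¹ * (bk kk * (σ (bk kk))⁻¹) * σ q.1.2 := by group
            _ = (bk kk)⁻¹ * (q.1.2 * (σ q.1.2)⁻¹) * σ q.1.2 := by rw [h1]
            _ = (bk kk)⁻¹ * q.1.2 := by group⟩)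
      left_inv := by
        rintro ⟨⟨⟨k, hk⟩, hkY⟩, ⟨u, hu⟩⟩
        apply Prod.ext
        · rfl
        · apply Subtype.ext
          simp
      right_inv := by
        rintro ⟨⟨k, b⟩, hq⟩
        apply Subtype.ext
        apply Prod.ext
        · rfl
        · simp }
  let E2 : {h : ↥((MulEquiv.toMonoidHom σ).eqLocus (MonoidHom.id X)) // (h : X)⁻¹ * x * h ∈ Y} ×
      ↥(Y ⊓ (MulEquiv.toMonoidHom τ).eqLocus (MonoidHom.id X)) ≃ PsiSet σ τ Y x :=
    { toFun := fun p => ⟨((p.1.1 : X), (p.2 : X) * ch p.1), by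
        refine ⟨p.1.1.2, Y.mul_mem p.2.2.1 (hchY p.1), ?_⟩
        have hu : τ (p.2 : X) = p.2 := p.2.2.2
        simp only [map_mul, hu]
        rw [hch p.1]; group⟩
      invFun := fun q => (⟨⟨q.1.1, q.2.1⟩, by
          show (q.1.1)⁻¹ * x * q.1.1 ∈ Y
          rw [q.2.2.2]
          have h2 : τ q.1.2 ∈ Y := by
            have : ∀ (n : ℕ) (y : X), y ∈ Y → (σ ^ n) y ∈ Y := by
              intro n
              induction n with
              | zero => intro y hy; simpa using hy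
              | succ n ih =>
                intro y hy
                rw [pow_succ', MulAut.mul_apply]
                exact (hY _).mp (ih y hy)
            exact this e _ q.2.2.1
          exact Y.mul_mem (Y.inv_mem h2) q.2.2.1⟩,
        ⟨q.1.2 * (ch ⟨⟨q.1.1, q.2.1⟩, by
          show (q.1.1)⁻¹ * x * q.1.1 ∈ Y
          rw [q.2.2.2]
          have h2 : τ q.1.2 ∈ Y := by
            have : ∀ (n : ℕ) (y : X), y ∈ Y → (σ ^ n) y ∈ Y := by
              intro n
              induction n with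
              | zero => intro y hy; simpa using hy
              | succ n ih =>
                intro y hy
                rw [pow_succ', MulAut.mul_apply]
                exact (hY _).mp (ih y hy)
            exact this e _ q.2.2.1
          exact Y.mul_mem (Y.inv_mem h2) q.2.2.1⟩)⁻¹, by
          set hh : {h : ↥((MulEquiv.toMonoidHom σ).eqLocus (MonoidHom.id X)) // (h : X)⁻¹ * x * h ∈ Y} :=
            ⟨⟨q.1.1, q.2.1⟩, by
              show (q.1.1)⁻¹ * x * q.1.1 ∈ Y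
              rw [q.2.2.2]
              have h2 : τ q.1.2 ∈ Y := by
                have : ∀ (n : ℕ) (y : X), y ∈ Y → (σ ^ n) y ∈ Y := by
                  intro n
                  induction n with
                  | zero => intro y hy; simpa using hy
                  | succ n ih =>
                    intro y hy
                    rw [pow_succ', MulAut.mul_apply]
                    exact (hY _).mp (ih y hy)
                exact this e _ q.2.2.1
              exact Y.mul_mem (Y.inv_mem h2) q.2.2.1⟩ with hhh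
          refine ⟨Y.mul_mem q.2.2.1 (Y.inv_mem (hchY hh)), ?_⟩
          show τ (q.1.2 * (ch hh)⁻¹) = q.1.2 * (ch hh)⁻¹
          have h1 : (τ (ch hh))⁻¹ * ch hh = (τ q.1.2)⁻¹ * q.1.2 := by
            rw [← hch hh, ← q.2.2.2]
          simp only [map_mul, map_inv]
          calc τ q.1.2 * (τ (ch hh))⁻¹ = τ q.1.2 * ((τ (ch hh))⁻¹ * ch hh) * (ch hh)⁻¹ := by group
            _ = τ q.1.2 * ((τ q.1.2)⁻¹ * q.1.2) * (ch hh)⁻¹ := by rw [h1]
            _ = q.1.2 * (ch hh)⁻¹ := by group⟩)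
      left_inv := by
        rintro ⟨⟨⟨k, hk⟩, hkY⟩, ⟨u, hu⟩⟩
        apply Prod.ext
        · rfl
        · apply Subtype.ext
          simp
      right_inv := by
        rintro ⟨⟨k, b⟩, hq⟩
        apply Subtype.ext
        apply Prod.ext
        · rfl
        · simp }
  -- equivalence 3: Φ ≃ Ψ, (k, b) ↦ (a⁻¹ k b, b)
  have hgτ : τ g = g := hg
  have hxdef : τ a = a * x⁻¹ := by rw [hx]; group
  let E3 : PhiSet σ τ Y g ≃ PsiSet σ τ Y x :=
    { toFun := fun q => ⟨(a⁻¹ * q.1.1 * q.1.2, q.1.2), by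
        obtain ⟨⟨k, b⟩, hk, hbY, hkb⟩ := q
        simp only at hk hbY hkb ⊢
        have hσ : σ (a⁻¹ * k * b) = a⁻¹ * k * b := by
          simp only [map_mul, map_inv]
          have h1 : σ k = g⁻¹ * k * (b * (σ b)⁻¹) := by rw [← hkb]; group
          rw [h1, ha]; group
        refine ⟨hσ, hbY, ?_⟩
        have hτh : τ (a⁻¹ * k * b) = a⁻¹ * k * b := hτfix _ hσ
        simp only [map_mul, map_inv, hk] at hτh
        -- hτh : (τ a)⁻¹ * k * τ b = a⁻¹ * k * b
        have h2 : τ b = k⁻¹ * τ a * (a⁻¹ * k * b) := by rw [← hτh]; group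
        rw [h2, hx]; group⟩
      invFun := fun q => ⟨(a * q.1.1 * q.1.2⁻¹, q.1.2), by
        obtain ⟨⟨h, c⟩, hh, hcY, hhc⟩ := q
        simp only at hh hcY hhc ⊢
        have hτh : τ h = h := hτfix _ hh
        refine ⟨?_, hcY, ?_⟩
        · simp only [map_mul, map_inv, hτh]
          have h1 : (τ c)⁻¹ = h⁻¹ * x * h * c⁻¹ := by rw [hhc]; group
          rw [h1, hxdef]; group
        · simp only [map_mul, map_inv, hh]
          rw [ha]; group⟩
      left_inv := by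
        rintro ⟨⟨k, b⟩, hq⟩
        apply Subtype.ext
        apply Prod.ext
        · simp only; group
        · rfl
      right_inv := by
        rintro ⟨⟨h, c⟩, hq⟩
        apply Subtype.ext
        apply Prod.ext
        · simp only; group
        · rfl }
  rw [← Nat.card_prod, ← Nat.card_prod]
  exact Nat.card_congr (E1.trans (E3.trans E2.symm))

end Cfsg.Agent.S2669
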