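import Cfsg.Statements.S2671
import Cfsg.Agent.Lib.H12.GUOrdB
import Cfsg.Agent.Lib.H12.RootCntH
import Cfsg.Agent.Lib.H12.RootCntI

set_option autoImplicit false
open Cfsg

namespace Cfsg.Agent.S2671

/-- Number of conjugacy classes of elements of odd prime order r in the general unitary group GU_n(q), for r not dividing q(q + 1): let i be the multiplicative order of q modulo r, b = i if i is odd and b = i/2 if i is even, and s = (r − 1)/b. If i ≢ 2 (mod 4) the eigenvalue orbits pair off into dual pairs of totally isotropic blocks and there are C(⌊n/(2b)⌋ + s/2, s/2) − 1 classes; if i ≡ 2 (mod 4) each orbit gives a non-degenerate block of dimension i/2 and there are C(⌊2n/i⌋ + s, s) − 1 classes. -/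
theorem result {K : Type*} [Field K] [Fintype K] {p q n r i b s : ℕ} [Fact p.Prime] [CharP K p] (hK : Fintype.card K = q ^ 2) (hr : r.Prime) (hr2 : r ≠ 2) (hrp : r ≠ p) (hi : i = orderOf (q : ZMod r)) (hi2 : i ≠ 2) (hb : b = if Odd i then i else i / 2) (hs : s * b = r - 1) : Nat.card {C : ConjClasses ↥(Cfsg.GU n K q) // ∃ g : ↥(Cfsg.GU n K q), ConjClasses.mk g = C ∧ orderOf g = r} = if i % 4 = 2 then Nat.choose (2 * n / i + s) s - 1 else Nat.choose (n / (2 * b) + s / 2) (s / 2) - 1 := by
  classical
  open Cfsg.Agent.Lib.H12.RootCnt Cfsg.Agent.Lib.H12.GUOrd Cfsg.Agent.Lib.H12.USemi Polynomial in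
  (
  have : Fact r.Prime := ⟨hr⟩
  have : NeZero r := ⟨hr.ne_zero⟩
  have hp : p.Prime := Fact.out
  obtain ⟨σ, hσ, hσ2⟩ := Cfsg.Agent.Lib.H4.exists_frob hK
  have hne : ∃ a, σ a ≠ a := by
    obtain ⟨a, ha⟩ := frob_ne_id hK
    exact ⟨a, by rw [hσ]; exact ha⟩
  -- step 1: classes <-> polynomials
  have h1 := card_classes_order_eq hK p σ hσ hσ2 hne n r hr hrp
  -- the algebraic closure
  have hrF : NeZero (r : K) := by
    refine ⟨?_⟩
    rw [Ne, CharP.cast_eq_zero_iff K p]
    intro hd
    exact hrp ((Nat.prime_dvd_prime_iff_eq hp hr).mp hd).symm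
  obtain ⟨ζ, hζ⟩ := HasEnoughRootsOfUnity.exists_primitiveRoot (AlgebraicClosure K) r
  have : CharP (AlgebraicClosure K) p :=
    charP_of_injective_algebraMap (algebraMap K (AlgebraicClosure K)).injective p
  have : ExpChar (AlgebraicClosure K) p := ExpChar.prime hp
  obtain ⟨f, -, hf⟩ := FiniteField.card K p
  have hqdvd : q ∣ p ^ (f : ℕ) := by
    rw [← hf, hK]
    exact dvd_pow_self q two_ne_zero
  obtain ⟨f', -, hf'⟩ := (Nat.dvd_prime_pow hp).mp hqdvd
  have hφ : ∀ x : AlgebraicClosure K,
      iterateFrobenius (AlgebraicClosure K) p f x = x ^ Fintype.card K := by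
    intro x
    rw [iterateFrobenius_def, hf]
  have hφQ : ∀ x : AlgebraicClosure K,
      iterateFrobenius (AlgebraicClosure K) p f' x = x ^ q := by
    intro x
    rw [iterateFrobenius_def, hf']
  have hq0 : (q : ZMod r) ≠ 0 := by
    intro h0
    have h2 : r ∣ q := (ZMod.natCast_eq_zero_iff q r).mp h0
    rw [hf'] at h2
    have h3 := hr.dvd_of_dvd_pow h2
    exact hrp ((Nat.prime_dvd_prime_iff_eq hr hp).mp h3)
  set v : (ZMod r)ˣ := Units.mk0 (q : ZMod r) hq0 with hv
  have hvv : (v : ZMod r) = (q : ZMod r) := rfl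
  have hUv : ((v * v : (ZMod r)ˣ) : ZMod r) = (Fintype.card K : ZMod r) := by
    rw [Units.val_mul, hvv, hK]
    push_cast
    ring
  have hordv : orderOf v = i := by
    rw [hi, ← orderOf_units]
    rfl
  have h2 := card_selfdual_dvd (F := K) hζ σ (iterateFrobenius (AlgebraicClosure K) p f') q hσ hφQ
    (iterateFrobenius (AlgebraicClosure K) p f) hφ v (v * v) hvv hUv n
  rw [h2] at h1
  have e1 : {a : ZMod r → ℕ // ∑ j, a j = n ∧
      (∀ j, a (((v * v : (ZMod r)ˣ) : ZMod r) * j) = a j) ∧
      ∀ j, a (((-v : (ZMod r)ˣ) : ZMod r) * j) = a j} ≃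
      {a : ZMod r → ℕ // ∑ j, a j = n ∧ ∀ j, a (((-v : (ZMod r)ˣ) : ZMod r) * j) = a j} :=
    Equiv.subtypeEquivRight (fun a => and_congr_right' (by
      constructor
      · intro h
        exact h.2
      · intro h
        refine ⟨?_, h⟩
        intro j
        have h3 : ((v * v : (ZMod r)ˣ) : ZMod r) * j =
            ((-v : (ZMod r)ˣ) : ZMod r) * (((-v : (ZMod r)ˣ) : ZMod r) * j) := by
          rw [Units.val_mul, Units.val_neg]
          ring
        rw [h3, h, h]))
  rw [Nat.card_congr e1] at h1
  have hi0 : 0 < i := hordv ▸ orderOf_pos v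
  rcases Nat.even_or_odd i with hev | hod
  · obtain ⟨c, hc⟩ := hev
    have hc0 : 0 < c := by omega
    have hb' : b = c := by
      rw [hb, if_neg (by rw [Nat.not_odd_iff_even]; exact ⟨c, hc⟩)]
      omega
    have hordv' : orderOf v = 2 * c := by rw [hordv]; omega
    have h3 := orderOf_neg_of_even r v c hordv'
    rcases Nat.even_or_odd c with hce | hco
    · -- i % 4 = 0
      rw [if_neg (Nat.not_odd_iff_even.mpr hce)] at h3
      have h4 : ¬ i % 4 = 2 := by
        obtain ⟨d, hd⟩ := hce
        omega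
      rw [if_neg h4]
      have hdvd : 2 * c ∣ s * c := by
        have h5 : orderOf v ∣ Fintype.card (ZMod r)ˣ := orderOf_dvd_card
        rw [ZMod.card_units, hordv', ← hs, hb'] at h5
        exact h5
      have hk : s / 2 * (2 * c) = r - 1 := by
        obtain ⟨m, hm⟩ := hdvd
        have h6 : s = 2 * m := by
          have h7 : s * c = (2 * m) * c := by rw [hm]; ring
          exact Nat.eq_of_mul_eq_mul_right hc0 h7
        rw [← hs, hb', h6]
        have : 2 * m / 2 = m := by omega
        rw [this]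
        ring
      rw [card_invariant_fun r (-v) (2 * c) (s / 2) n h3 hk, ← hb'] at h1
      omega
    · -- i % 4 = 2
      rw [if_pos hco] at h3
      have h4 : i % 4 = 2 := by
        obtain ⟨d, hd⟩ := hco
        omega
      rw [if_pos h4]
      have hk : s * c = r - 1 := by rw [← hb']; exact hs
      have h5 : 2 * n / i = n / c := by
        rw [hc, ← two_mul, Nat.mul_div_mul_left n c two_pos]
      rw [card_invariant_fun r (-v) c s n h3 hk] at h1
      rw [h5]
      omega
  · have h4 : ¬ i % 4 = 2 := by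
      obtain ⟨d, hd⟩ := hod
      omega
    rw [if_neg h4]
    have hb' : b = i := by rw [hb, if_pos hod]
    obtain ⟨h3, -⟩ := twist_odd r hr2 v i hordv hod
    have hse : Even s := by
      have h5 : Even (s * i) := by rw [← hb', hs]; exact hr.even_sub_one hr2
      rcases Nat.even_mul.mp h5 with h6 | h6
      · exact h6
      · exact absurd hod (Nat.not_odd_iff_even.mpr h6)
    have hk : s / 2 * (2 * i) = r - 1 := by
      obtain ⟨m, hm⟩ := hse
      rw [← hs, hb', hm]
      have : (m + m) / 2 = m := by omega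
      rw [this]
      ring
    rw [card_invariant_fun r (-v) (2 * i) (s / 2) n h3 hk, ← hb'] at h1
    omega
  )

end Cfsg.Agent.S2671
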