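import Cfsg.Statements.S2674
import Cfsg.Agent.Lib.H12.OrdON

set_option autoImplicit false
open Cfsg

namespace Cfsg.Agent.S2674

/-- Number of conjugacy classes of elements of odd prime order r ≠ p in the orthogonal group O⁺_2m(q) of Σ x_j y_j (m ≥ 1): with i the multiplicative order of q mod r and t = (r − 1)/i — if i is odd, C(⌊m/i⌋ + t/2, t/2) − 1; if i is even, C(⌊2m/i⌋ + t, t) − 1 minus, when i divides 2m with odd quotient, the C(2m/i + t − 1, t − 1) tuples using the whole space (an odd number of elliptic i-blocks fills an elliptic, not a hyperbolic, space). -/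
theorem result {F : Type*} [Field F] [Fintype F] {p q : ℕ} [Fact p.Prime] [CharP F p] (hF : Fintype.card F = q) (m r i t : ℕ) (hm : 1 ≤ m) (hr : r.Prime) (hr2 : r ≠ 2) (hrp : r ≠ p) (hi : i = orderOf (q : ZMod r)) (ht : t * i = r - 1) : Nat.card {C : ConjClasses ↥(Cfsg.isometryGroup F (Cfsg.quadFormPlus m F)) // ∃ g : ↥(Cfsg.isometryGroup F (Cfsg.quadFormPlus m F)), ConjClasses.mk g = C ∧ orderOf g = r} = if Odd i then Nat.choose (m / i + t / 2) (t / 2) - 1 else Nat.choose (2 * m / i + t) t - 1 - (if i ∣ 2 * m ∧ Odd (2 * m / i) then Nat.choose (2 * m / i + t - 1) (t - 1) else 0) := by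
  classical
  open Cfsg.Agent.Lib.H12.OrdO Cfsg.Agent.Lib.H12.RootCnt Cfsg.Agent.Lib.H13 in
  (
  have : Fact r.Prime := ⟨hr⟩
  have hq0 : (q : ZMod r) ≠ 0 := by
    intro h0
    have hp : p.Prime := Fact.out
    obtain ⟨f, -, hf⟩ := FiniteField.card F p
    have h2 : r ∣ q := (ZMod.natCast_eq_zero_iff q r).mp h0
    rw [← hF, hf] at h2
    have h3 := hr.dvd_of_dvd_pow h2
    exact hrp ((Nat.prime_dvd_prime_iff_eq hr hp).mp h3)
  set u : (ZMod r)ˣ := Units.mk0 (q : ZMod r) hq0 with hu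
  have huq : (u : ZMod r) = (q : ZMod r) := rfl
  have hordu : orderOf u = i := by
    rw [hi, ← orderOf_units]
    rfl
  have hT := isTy_plus (F := F) m
  rw [← Cfsg.Agent.S0287.coe_plusQF] at hT
  have key := card_classes_even_dim p hr2 hrp q i t hF hi ht (plusQF F m)
    (Cfsg.Agent.S0287.nondeg m) m 0 hm hT
    (fun K _ _ _ _ ζ k' a hk' hRz => by
      rw [Cfsg.Agent.S0287.coe_plusQF]
      exact hRz.to_plus hm (hk'.mpr Even.zero))
  rw [Cfsg.Agent.S0287.coe_plusQF] at key
  rw [key, pow_zero, ← huq]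
  rcases Nat.even_or_odd i with hev | hod
  · rw [if_neg (Nat.not_odd_iff_even.mpr hev), if_neg (Nat.not_odd_iff_even.mpr hev)]
    obtain ⟨b₀, hb₀⟩ := hev
    have hi2 : orderOf u = 2 * b₀ := by rw [hordu, hb₀]; ring
    have hib : i = 2 * b₀ := by rw [hb₀]; ring
    by_cases hdvd : i ∣ 2 * m
    · obtain ⟨h1, h2⟩ := pow_cond_even hr2 u b₀ hi2 m (hib ▸ hdvd)
      rw [← hib] at h1 h2
      by_cases ho : Odd (2 * m / i)
      · have hc : ¬ (u : ZMod r) ^ m = 1 := fun h => (Nat.not_even_iff_odd.mpr ho) (h1.mp h)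
        simp only [hc, hdvd, ho, if_true, if_false, and_self]
      · have hc : (u : ZMod r) ^ m = 1 := h1.mpr (Nat.not_odd_iff_even.mp ho)
        simp only [hc, hdvd, ho, if_true, if_false, and_false]
    · simp only [hdvd, if_false, false_and, ite_self]
  · rw [if_pos hod, if_pos hod]
    obtain ⟨h1, h2⟩ := pow_cond_odd hr2 u i hordu hod m
    by_cases hc : (u : ZMod r) ^ m = 1
    · simp only [hc, if_true, Nat.sub_zero]
    · have hd : ¬ i ∣ m := fun h => hc (h1.mpr h)
      simp only [hc, hd, if_false, Nat.sub_zero]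
  )

end Cfsg.Agent.S2674
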