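import Cfsg.Statements.S2676
import Cfsg.Agent.Lib.H11.SpCls8

set_option autoImplicit false
open Classical
open Cfsg

namespace Cfsg.Agent.S2676

open Matrix Cfsg.Agent.Lib.H11.SpCls Cfsg.Agent.Lib.H11.Jordan

/-- the number of classes of `Sp_{2m}(F)` whose Jordan type is a given partition -/
theorem card_type {F : Type*} [Field F] [Fintype F] {p : ℕ} [Fact p.Prime] [CharP F p] (hp : p ≠ 2)
    (m : ℕ) (μ : Nat.Partition (2 * m)) (hpar : ∀ j : ℕ, Odd j → Even (μ.parts.count j)) :
    Nat.card {C : ConjClasses ↥(Matrix.symplecticGroup (Fin m) F) //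
      ∃ g : ↥(Matrix.symplecticGroup (Fin m) F), ConjClasses.mk g = C ∧
        RankType (g : Matrix (Fin m ⊕ Fin m) (Fin m ⊕ Fin m) F) μ.parts} =
      2 ^ ((μ.parts.toFinset.filter (fun j : ℕ => Even j)).card) := by
  obtain ⟨t, d, hd⟩ := exists_fin_fun μ.parts
  have hd1 : ∀ k, 1 ≤ d k := by
    intro k
    apply μ.parts_pos
    rw [← hd]
    exact Multiset.mem_map_of_mem d (Finset.mem_univ_val k)
  have hsum : ∑ k, d k = 2 * m := by
    rw [Finset.sum_eq_multiset_sum, hd, μ.parts_sum]
  have hpar' : ∀ j : ℕ, Odd j → Even (Fintype.card {k : Fin t // d k = j}) := by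
    intro j hj
    have := card_subtype_eq_count d j
    rw [hd] at this
    have h2 := hpar j hj
    convert h2 using 1
  have key := card_classes_of_type (F := F) m d hd1 p hp hsum hpar'
  rw [evenSizes_eq, hd] at key
  convert key using 2

/-- Number of conjugacy classes of elements of order p in Sp_2m(q), q a power of the odd prime p: the classes correspond to the signed partitions of 2m — partitions with all parts at most p in which every odd part has even multiplicity, each even part size that occurs carrying a sign — other than the all-ones partition; so the count is the sum over such partitions of 2^(number of distinct even parts), minus one. -/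
theorem result {F : Type*} [Field F] [Fintype F] {p : ℕ} [Fact p.Prime] [CharP F p] (hp : p ≠ 2) (m : ℕ) : Nat.card {C : ConjClasses ↥(Matrix.symplecticGroup (Fin m) F) // ∃ g : Matrix.symplecticGroup (Fin m) F, ConjClasses.mk g = C ∧ orderOf g = p} = (∑ μ ∈ Finset.univ.filter (fun μ : Nat.Partition (2 * m) => (∀ a ∈ μ.parts, a ≤ p) ∧ ∀ j : ℕ, Odd j → Even (μ.parts.count j)), 2 ^ ((μ.parts.toFinset.filter (fun j : ℕ => Even j)).card)) - 1 := by
  classical
  have : Fintype (ConjClasses ↥(Matrix.symplecticGroup (Fin m) F)) := Fintype.ofFinite _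
  have hp1 : 1 ≤ p := (Fact.out : p.Prime).one_lt.le
  -- the all-ones partition
  let ones : Nat.Partition (2 * m) := ⟨Multiset.replicate (2 * m) 1, by
    intro i hi
    rw [Multiset.eq_of_mem_replicate hi]
    exact Nat.one_pos, by simp⟩
  have hones_parts : ones.parts = Multiset.replicate (2 * m) 1 := rfl
  have hones_iff : ∀ μ : Nat.Partition (2 * m), μ = ones ↔ ∀ a ∈ μ.parts, a = 1 := by
    intro μ
    constructor
    · rintro rfl a ha
      exact Multiset.eq_of_mem_replicate ha
    · intro h2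
      apply Nat.Partition.ext
      rw [hones_parts, Multiset.eq_replicate]
      refine ⟨?_, h2⟩
      have h3 := μ.parts_sum
      have h4 : μ.parts = Multiset.replicate (Multiset.card μ.parts) 1 :=
        Multiset.eq_replicate.mpr ⟨rfl, h2⟩
      rw [h4, Multiset.sum_replicate, smul_eq_mul, mul_one] at h3
      exact h3
  obtain ⟨PP, hPP⟩ : ∃ PP : Finset (Nat.Partition (2 * m)), PP = Finset.univ.filter
    (fun μ : Nat.Partition (2 * m) => (∀ a ∈ μ.parts, a ≤ p) ∧
      ∀ j : ℕ, Odd j → Even (μ.parts.count j)) := ⟨_, rfl⟩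
  have hmemPP : ∀ μ : Nat.Partition (2 * m), μ ∈ PP ↔ (∀ a ∈ μ.parts, a ≤ p) ∧
      ∀ j : ℕ, Odd j → Even (μ.parts.count j) := by
    intro μ
    rw [hPP, Finset.mem_filter]
    exact ⟨fun h => h.2, fun h => ⟨Finset.mem_univ _, h⟩⟩
  rw [← hPP]
  have hones_mem : ones ∈ PP := by
    rw [hmemPP]
    refine ⟨fun a ha => ?_, fun j hj => ?_⟩
    · rw [Multiset.eq_of_mem_replicate ha]
      exact hp1
    · rw [hones_parts, Multiset.count_replicate]
      split_ifs
      · exact ⟨m, by ring⟩
      · exact ⟨0, rfl⟩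
  have hones_val : 2 ^ ((ones.parts.toFinset.filter (fun j : ℕ => Even j)).card) = 1 := by
    have : ones.parts.toFinset.filter (fun j : ℕ => Even j) = ∅ := by
      rw [Finset.filter_eq_empty_iff]
      intro j hj
      rw [Multiset.mem_toFinset] at hj
      rw [Multiset.eq_of_mem_replicate hj]
      decide
    rw [this, Finset.card_empty, pow_zero]
  -- the classes of elements of order `p` as a finset
  obtain ⟨s, hs⟩ : ∃ s : Finset (ConjClasses ↥(Matrix.symplecticGroup (Fin m) F)),
      s = Finset.univ.filter (fun C => ∃ g : ↥(Matrix.symplecticGroup (Fin m) F),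
        ConjClasses.mk g = C ∧ orderOf g = p) := ⟨_, rfl⟩
  have hLHS : Nat.card {C : ConjClasses ↥(Matrix.symplecticGroup (Fin m) F) //
      ∃ g : ↥(Matrix.symplecticGroup (Fin m) F), ConjClasses.mk g = C ∧ orderOf g = p} =
      s.card := by
    rw [Nat.card_eq_fintype_card, Fintype.card_subtype, hs]
  rw [hLHS]
  -- the type of a class of elements of order `p`
  have hcardι : Fintype.card (Fin m ⊕ Fin m) = 2 * m := by
    rw [Fintype.card_sum, Fintype.card_fin, two_mul]
  have htype : ∀ g : ↥(Matrix.symplecticGroup (Fin m) F), orderOf g = p →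
      ∃ μ : Nat.Partition (2 * m), μ ∈ PP.erase ones ∧
        IsType (g : Matrix (Fin m ⊕ Fin m) (Fin m ⊕ Fin m) F) μ.parts := by
    intro g hg
    obtain ⟨ν, hν⟩ := sp_exists_isType_of_orderOf m p g hg
    have hsum : ν.sum = 2 * m := by rw [hν.sum, hcardι]
    obtain ⟨h1, h2⟩ := (sp_orderOf_eq_iff m p g hν).mp hg
    refine ⟨⟨ν, fun {i} hi => hν.2 i hi, hsum⟩, ?_, hν⟩
    rw [Finset.mem_erase, hmemPP, Ne, hones_iff]
    exact ⟨h2, h1, fun j hj => sp_count_even m g hν.1 j hj⟩
  have hmaps : (s : Set (ConjClasses ↥(Matrix.symplecticGroup (Fin m) F))).MapsTo (classType m)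
      ((PP.erase ones).image (fun μ : Nat.Partition (2 * m) => μ.parts) :
        Finset (Multiset ℕ)) := by
    intro C hC
    rw [Finset.mem_coe, hs, Finset.mem_filter] at hC
    obtain ⟨-, g, rfl, hg⟩ := hC
    obtain ⟨μ, hμ1, hμ2⟩ := htype g hg
    rw [Finset.mem_coe, Finset.mem_image]
    exact ⟨μ, hμ1, by rw [classType_mk, typeOf_eq hμ2]⟩
  rw [Finset.card_eq_sum_card_fiberwise hmaps, Finset.sum_image (by
    intro μ _ μ' _ h
    exact Nat.Partition.ext h)]
  have hfib : ∀ μ ∈ PP.erase ones,
      (s.filter (fun C => classType m C = μ.parts)).card =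
        2 ^ ((μ.parts.toFinset.filter (fun j : ℕ => Even j)).card) := by
    intro μ hμ
    rw [Finset.mem_erase, hmemPP, Ne, hones_iff] at hμ
    obtain ⟨hμ0, hμ1, hμ2⟩ := hμ
    rw [← card_type (F := F) hp m μ hμ2, Nat.card_eq_fintype_card, Fintype.card_subtype]
    congr 1
    ext C
    rw [Finset.mem_filter, Finset.mem_filter, hs, Finset.mem_filter]
    constructor
    · rintro ⟨⟨-, g, rfl, hg⟩, hC⟩
      obtain ⟨ν, -, hν⟩ := htype g hg
      rw [classType_mk, typeOf_eq hν] at hC
      rw [hC] at hν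
      exact ⟨Finset.mem_univ _, g, rfl, hν.1⟩
    · rintro ⟨-, g, rfl, hg⟩
      have hT : IsType (g : Matrix (Fin m ⊕ Fin m) (Fin m ⊕ Fin m) F) μ.parts :=
        ⟨hg, fun a ha => μ.parts_pos ha⟩
      refine ⟨⟨Finset.mem_univ _, g, rfl, ?_⟩, ?_⟩
      · exact (sp_orderOf_eq_iff m p g hT).mpr ⟨hμ1, hμ0⟩
      · rw [classType_mk, typeOf_eq hT]
  rw [Finset.sum_congr rfl hfib]
  have hsplit := Finset.add_sum_erase PP
    (fun μ : Nat.Partition (2 * m) => 2 ^ ((μ.parts.toFinset.filter (fun j : ℕ => Even j)).card))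
    hones_mem
  beta_reduce at hsplit
  rw [hones_val] at hsplit
  omega

end Cfsg.Agent.S2676
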