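import Cfsg.Statements.S2678
import Cfsg.Agent.Lib.H13.SympBasis
import Cfsg.Agent.Lib.H13.QuadField

set_option autoImplicit false
open Cfsg

namespace Cfsg.Agent.S2678

open Module Matrix Cfsg.Agent.Lib.H13

section
variable {F K : Type*} [Field F] [Field K] [Algebra F K] {a : ℕ}

local notation "VK" => (Fin a ⊕ Fin a → K)

theorem dot_J_self' (v : VK) : v ⬝ᵥ (Matrix.J (Fin a) K *ᵥ v) = 0 := by
  simp only [Matrix.J, dotProduct, Fintype.sum_sum_type, Matrix.mulVec, Matrix.fromBlocks_apply₁₁,
    Matrix.fromBlocks_apply₁₂, Matrix.fromBlocks_apply₂₁, Matrix.fromBlocks_apply₂₂,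
    Matrix.zero_apply, zero_mul, Finset.sum_const_zero, zero_add, add_zero, Matrix.neg_apply,
    Matrix.one_apply, neg_mul, ite_mul, one_mul, Finset.sum_neg_distrib, Finset.sum_ite_eq,
    Finset.mem_univ, if_true, mul_neg]
  rw [neg_add_eq_zero]
  exact Finset.sum_congr rfl fun i _ => mul_comm _ _

/-- the trace of the symplectic form, as an `F`-bilinear form -/
noncomputable def trForm : LinearMap.BilinForm F VK :=
  LinearMap.mk₂ F (fun v w => Algebra.trace F K (Cfsg.sympForm a K v w))
    (by
      intro u u' v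
      simp only [Cfsg.sympForm, add_dotProduct, map_add])
    (by
      intro c u v
      simp only [Cfsg.sympForm, smul_dotProduct, map_smul])
    (by
      intro u v v'
      simp only [Cfsg.sympForm, Matrix.mulVec_add, dotProduct_add, map_add])
    (by
      intro c u v
      simp only [Cfsg.sympForm, Matrix.mulVec_smul, dotProduct_smul, map_smul])

theorem trForm_apply (v w : VK) :
    trForm (F := F) v w = Algebra.trace F K (Cfsg.sympForm a K v w) := rfl

theorem trForm_alt (v : VK) : trForm (F := F) v v = 0 := by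
  rw [trForm_apply]
  unfold Cfsg.sympForm
  rw [dot_J_self', map_zero]

theorem trForm_nondeg [FiniteDimensional F K] [Algebra.IsSeparable F K] (v : VK)
    (h : ∀ w, trForm (F := F) v w = 0) : v = 0 := by
  by_contra hv
  obtain ⟨i, hi⟩ : ∃ i, v i ≠ 0 := by
    by_contra h'
    push Not at h'
    exact hv (funext h')
  -- w₀ with J w₀ = e_i
  set w₀ : VK := -(Matrix.J (Fin a) K *ᵥ Pi.single i 1) with hw₀
  have hJ : Matrix.J (Fin a) K *ᵥ w₀ = Pi.single i 1 := by
    rw [hw₀, Matrix.mulVec_neg, Matrix.mulVec_mulVec, Matrix.J_squared, Matrix.neg_mulVec,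
      Matrix.one_mulVec, neg_neg]
  obtain ⟨z, hz⟩ := Algebra.trace_surjective F K (1 : F)
  have := h ((z * (v i)⁻¹) • w₀)
  rw [trForm_apply] at this
  unfold Cfsg.sympForm at this
  rw [Matrix.mulVec_smul, hJ, dotProduct_smul, dotProduct_single, mul_one, smul_eq_mul,
    mul_assoc, inv_mul_cancel₀ hi, mul_one, hz] at this
  exact one_ne_zero this

/-- the representation of `Sp` on the restricted space -/
noncomputable def rho : ↥(Matrix.symplecticGroup (Fin a) K) →* Module.End F VK where
  toFun g := (Matrix.toLin' (g : Matrix (Fin a ⊕ Fin a) (Fin a ⊕ Fin a) K)).restrictScalars F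
  map_one' := by
    apply LinearMap.ext
    intro v
    simp
  map_mul' g h := by
    apply LinearMap.ext
    intro v
    simp [Matrix.toLin'_mul]

theorem rho_apply (g : ↥(Matrix.symplecticGroup (Fin a) K)) (v : VK) :
    rho (F := F) g v = (g : Matrix (Fin a ⊕ Fin a) (Fin a ⊕ Fin a) K) *ᵥ v := rfl

theorem rho_injective : Function.Injective (rho (F := F) (K := K) (a := a)) := by
  intro g h hgh
  apply Subtype.ext
  apply Matrix.toLin'.injective
  apply LinearMap.ext
  intro v
  have := congrArg (fun f : Module.End F VK => f v) hgh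
  simpa [rho_apply] using this

end

/-- Field-extension embedding Sp_{2a}(q²) ≤ Sp_{4a}(q). -/
theorem result {K F : Type*} [Field K] [Fintype K] [Field F] [Fintype F] {q : ℕ} (hK : Fintype.card K = q ^ 2) (hF : Fintype.card F = q) (a : ℕ) : ∃ φ : ↥(Matrix.symplecticGroup (Fin a) K) →* ↥(Matrix.symplecticGroup (Fin (2 * a)) F), Function.Injective φ := by
  classical
  obtain ⟨ι⟩ := nonempty_ringHom_of_card_pow (F := F) (K := K) (d := 2) (by norm_num)
    (by rw [hK, hF])
  letI : Algebra F K := ι.toAlgebra
  have h2 : finrank F K = 2 := finrank_eq_two hF hK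
  haveI : FiniteDimensional F K := Module.finite_of_finrank_pos (by rw [h2]; norm_num)
  have hV : finrank F (Fin a ⊕ Fin a → K) = 2 * (2 * a) := by
    rw [Module.finrank_pi_fintype]
    simp [h2]
    ring
  refine exists_embedding_symplectic hV (trForm (F := F) (K := K) (a := a)) trForm_alt
    trForm_nondeg rho rho_injective ?_
  intro g v w
  rw [trForm_apply, trForm_apply, rho_apply, rho_apply,
    (mem_symplecticGroup_iff_sympForm' a _).mp g.2]

end Cfsg.Agent.S2678
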