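import Cfsg.Statements.S2679
import Cfsg.Agent.Lib.H13.OrthEmbed
import Cfsg.Agent.Lib.H13.QuadField
import Cfsg.Agent.Lib.H13.Disc

set_option autoImplicit false
open Cfsg

namespace Cfsg.Agent.S2679

open Module Matrix QuadraticMap Cfsg.Agent.Lib.H13

section Disc
variable {F : Type*} [Field F] [Finite F]

theorem disc_ne_zero_of_aniso (a c : F)
    (hac : ∀ z₁ z₂ : F, z₁ ^ 2 + a * z₁ * z₂ + c * z₂ ^ 2 = 0 → z₁ = 0 ∧ z₂ = 0) :
    4 * c - a ^ 2 ≠ 0 := by
  intro h
  by_cases h2 : (2 : F) = 0
  · have h4 : (4 : F) = 0 := by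
      have : (4 : F) = 2 * 2 := by norm_num
      rw [this, h2, mul_zero]
    rw [h4, zero_mul, zero_sub, neg_eq_zero] at h
    have ha : a = 0 := pow_eq_zero_iff (two_ne_zero) |>.mp h
    have hchar : ringChar F = 2 := by
      have : CharP F 2 := by
        refine CharTwo.of_one_ne_zero_of_two_eq_zero one_ne_zero h2
      exact ringChar.eq F 2
    obtain ⟨γ, hγ⟩ := FiniteField.isSquare_of_char_two hchar c
    have := hac γ 1 (by
      rw [ha, hγ]
      have : γ * γ + γ * γ = 2 * (γ * γ) := by ring
      simp only [one_pow, mul_one, zero_mul, add_zero, pow_two]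
      rw [this, h2, zero_mul])
    exact one_ne_zero this.2
  · have := hac (-a / 2) 1 (by
      have h' : a ^ 2 = 4 * c := by linear_combination -h
      field_simp
      linear_combination (-1 : F) * h')
    exact one_ne_zero this.2

end Disc

section BaseChange
variable {F K : Type*} [Field F] [Field K] (ι : F →+* K) {k : ℕ} (a c : F)

local notation "κ" => ((Fin k ⊕ Fin k) ⊕ Fin 2)

theorem quadFormMinus_map (x : κ → F) :
    Cfsg.quadFormMinus k K (ι a) (ι c) (ι ∘ x) = ι (Cfsg.quadFormMinus k F a c x) := by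
  unfold Cfsg.quadFormMinus
  simp only [Function.comp_apply, map_add, map_sum, map_mul, map_pow]

theorem comp_add (x y : κ → F) : (ι ∘ (x + y) : κ → K) = ι ∘ x + ι ∘ y := by
  funext i
  simp

theorem comp_single (i : κ) : (ι ∘ (Pi.single i (1 : F)) : κ → K) = Pi.single i (1 : K) := by
  classical
  funext j
  by_cases h : j = i
  · subst h; simp
  · simp [Pi.single_eq_of_ne h]

theorem map_mulVec_comp (M : Matrix κ κ F) (x : κ → F) :
    (M.map ι) *ᵥ (ι ∘ x) = ι ∘ (M *ᵥ x) := by
  funext i
  exact (RingHom.map_mulVec ι M x i).symm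

/-- an isometry over `F` stays an isometry after extension of scalars -/
theorem pres_baseChange (M : Matrix κ κ F)
    (hM : ∀ x, Cfsg.quadFormMinus k F a c (M *ᵥ x) = Cfsg.quadFormMinus k F a c x) (v : κ → K) :
    minusQF K k (ι a) (ι c) ((M.map ι) *ᵥ v) = minusQF K k (ι a) (ι c) v := by
  classical
  set QK := minusQF K k (ι a) (ι c) with hQK
  let Q1 : QuadraticForm K (κ → K) := QK.comp (Matrix.toLin' (M.map ι))
  have hQ1 : ∀ z, Q1 z = QK ((M.map ι) *ᵥ z) := fun z => rfl
  have key : ∀ x : κ → F, Q1 (ι ∘ x) = QK (ι ∘ x) := by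
    intro x
    rw [hQ1, map_mulVec_comp, hQK, minusQF_apply, minusQF_apply, quadFormMinus_map,
      quadFormMinus_map, hM]
  have : Q1 = QK := by
    apply quadraticMap_ext_basis (Pi.basisFun K κ)
    · intro i
      rw [Pi.basisFun_apply, ← comp_single ι]
      exact key _
    · intro i j
      rw [Pi.basisFun_apply, Pi.basisFun_apply, ← comp_single ι, ← comp_single ι]
      unfold polar
      rw [← comp_add, key, key, key]
  rw [← hQ1, this]

end BaseChange

section Geom
variable {K : Type*} [Field K] {k : ℕ} (a c : K)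

local notation "κ" => ((Fin k ⊕ Fin k) ⊕ Fin 2)

theorem nondeg_minusQF (h : 4 * c - a ^ 2 ≠ 0) :
    (polarBilin (minusQF K k a c)).Nondegenerate := by
  have h1 : polarBilin (minusQF K k a c) = Matrix.toBilin' (gramMinus k K a c) := by
    apply LinearMap.ext
    intro u
    apply LinearMap.ext
    intro v
    rw [polarBilin_apply_apply, ← polar_quadFormMinus]
    unfold polar
    rw [minusQF_apply, minusQF_apply, minusQF_apply]
  rw [h1]
  apply LinearMap.BilinForm.nondegenerate_toBilin'_of_det_ne_zero'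
  rw [det_gramMinus]
  exact mul_ne_zero (pow_ne_zero _ (neg_ne_zero.mpr one_ne_zero)) h

/-- the parametrisation of a maximal totally singular subspace -/
def singMap (α : K) : ((Fin k → K) × K) →ₗ[K] (κ → K) where
  toFun p := fun idx =>
    match idx with
    | .inl (.inl i) => p.1 i
    | .inl (.inr _) => 0
    | .inr j => if j = 0 then p.2 * α else p.2
  map_add' p p' := by
    funext idx
    rcases idx with (i | i) | j
    · rfl
    · simp
    · by_cases hj : j = 0 <;> simp [hj, add_mul]
  map_smul' r p := by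
    funext idx
    rcases idx with (i | i) | j
    · rfl
    · simp
    · by_cases hj : j = 0 <;> simp [hj, mul_assoc]

theorem singMap_injective (α : K) : Function.Injective (singMap (k := k) α) := by
  rw [injective_iff_map_eq_zero]
  intro p hp
  apply Prod.ext
  · funext i
    exact congrFun hp (.inl (.inl i))
  · have := congrFun hp (.inr 1)
    simpa [singMap] using this

theorem singMap_sing (α : K) (hα : α ^ 2 + a * α + c = 0) (p : (Fin k → K) × K) :
    minusQF K k a c (singMap α p) = 0 := by
  rw [minusQF_apply]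
  unfold Cfsg.quadFormMinus
  simp only [singMap, LinearMap.coe_mk, AddHom.coe_mk, mul_zero, Finset.sum_const_zero, zero_add,
    if_true, one_ne_zero, if_false]
  have : (p.2 * α) ^ 2 + a * (p.2 * α) * p.2 + c * p.2 ^ 2 = p.2 ^ 2 * (α ^ 2 + a * α + c) := by
    ring
  rw [this, hα, mul_zero]

end Geom

section Rep
variable {F K : Type*} [Field F] [Field K] (ι : F →+* K) {k : ℕ} (a c : F)

local notation "κ" => ((Fin k ⊕ Fin k) ⊕ Fin 2)

/-- the base-changed representation -/
noncomputable def rho :
    ↥(Cfsg.isometryGroup F (Cfsg.quadFormMinus k F a c)) →* Module.End K (κ → K) where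
  toFun g := Matrix.toLin' (((g : Matrix.GeneralLinearGroup κ F) : Matrix κ κ F).map ι)
  map_one' := by
    apply LinearMap.ext
    intro v
    simp
  map_mul' g h := by
    apply LinearMap.ext
    intro v
    simp [Matrix.toLin'_mul, Matrix.map_mul]

theorem rho_apply (g : ↥(Cfsg.isometryGroup F (Cfsg.quadFormMinus k F a c))) (v : κ → K) :
    rho ι a c g v = (((g : Matrix.GeneralLinearGroup κ F) : Matrix κ κ F).map ι) *ᵥ v := rfl

theorem rho_injective : Function.Injective (rho (K := K) ι (k := k) a c) := by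
  intro g h hgh
  apply Subtype.ext
  apply Units.ext
  have h1 : (((g : Matrix.GeneralLinearGroup κ F) : Matrix κ κ F).map ι) =
      (((h : Matrix.GeneralLinearGroup κ F) : Matrix κ κ F).map ι) := by
    apply Matrix.toLin'.injective
    exact hgh
  ext i j
  have := congrFun (congrFun h1 i) j
  simp only [Matrix.map_apply] at this
  exact ι.injective this

end Rep

/-- Embedding O^-_{2m}(q) ≤ O^+_{2m}(q²): a minus-type form becomes plus type over the quadratic extension. -/
theorem result {F K : Type*} [Field F] [Fintype F] [Field K] [Fintype K] {q : ℕ} (hF : Fintype.card F = q) (hK : Fintype.card K = q ^ 2) {m : ℕ} (hm : 1 ≤ m) (a c : F) (hac : ∀ z₁ z₂ : F, z₁ ^ 2 + a * z₁ * z₂ + c * z₂ ^ 2 = 0 → z₁ = 0 ∧ z₂ = 0) : ∃ φ : ↥(Cfsg.isometryGroup F (Cfsg.quadFormMinus (m - 1) F a c)) →* ↥(Cfsg.isometryGroup K (Cfsg.quadFormPlus m K)), Function.Injective φ := by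
  classical
  obtain ⟨ι⟩ := nonempty_ringHom_of_card_pow (F := F) (K := K) (d := 2) (by norm_num)
    (by rw [hK, hF])
  letI : Algebra F K := ι.toAlgebra
  have hιa : ∀ x : F, algebraMap F K x = ι x := fun _ => rfl
  obtain ⟨α, hα⟩ := exists_root_of_aniso (K := K) hF hK a c hac
  rw [hιa, hιa] at hα
  have hdisc : 4 * ι c - (ι a) ^ 2 ≠ 0 := by
    have h1 := disc_ne_zero_of_aniso a c hac
    intro h
    apply h1
    apply ι.injective
    rw [map_zero, map_sub, map_mul, map_pow, ← h]
    have : ι 4 = 4 := map_ofNat ι 4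
    rw [this]
  set Q := minusQF K (m - 1) (ι a) (ι c) with hQ
  have hnd := nondeg_minusQF (k := m - 1) (ι a) (ι c) hdisc
  have hV : finrank K (((Fin (m - 1) ⊕ Fin (m - 1)) ⊕ Fin 2) → K) = 2 * m := by
    rw [Module.finrank_fintype_fun_eq_card]
    simp
    omega
  let U : Submodule K (((Fin (m - 1) ⊕ Fin (m - 1)) ⊕ Fin 2) → K) :=
    LinearMap.range (singMap (k := m - 1) α)
  have hU : m ≤ finrank K U := by
    rw [LinearMap.finrank_range_of_inj (singMap_injective α), Module.finrank_prod,
      Module.finrank_fintype_fun_eq_card, Module.finrank_self]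
    simp
    omega
  have hs : ∀ u ∈ U, Q u = 0 := by
    rintro u ⟨p, rfl⟩
    exact singMap_sing (ι a) (ι c) α hα p
  obtain ⟨b, hb⟩ := exists_plus_basis Q hnd hV U hU hs
  refine exists_embedding_isometryGroup b (Cfsg.quadFormPlus m K) (fun v => Q v) hb
    (rho ι a c) (rho_injective ι a c) ?_
  intro g v
  rw [rho_apply]
  exact pres_baseChange ι a c _ (fun x => g.2 x x) v

end Cfsg.Agent.S2679
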