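import Cfsg.Statements.S2689
import Cfsg.Agent.Lib.H13.AutPSLTwo

set_option autoImplicit false
open Cfsg

namespace Cfsg.Agent.S2689

/-- The automorphism group of a simple projective special linear group PSL_n(F) over a finite field (n ≥ 2; |F| ≥ 4 when n = 2) is generated by the automorphisms induced by invertible semilinear maps of F^n (the image of the projective semilinear group) together with the inverse-transpose automorphism. -/
theorem result {F : Type*} [Field F] [Fintype F] {p f : ℕ} [Fact p.Prime] (hF : Fintype.card F = p ^ f) (hf : 1 ≤ f) {n : ℕ} (hn : 2 ≤ n) (hs : n = 2 → 4 ≤ Fintype.card F) :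
    Cfsg.gammaPSL n F ⊔ Cfsg.autSubgroupOf (fun β : Matrix.ProjectiveSpecialLinearGroup (Fin n) F ≃* Matrix.ProjectiveSpecialLinearGroup (Fin n) F => Cfsg.IsInverseTransposeAutPSL β) = ⊤ := by
  haveI : CharP F p := charP_of_card_eq_prime_pow hF
  rw [eq_top_iff]
  intro β _
  have hG : ∀ (g : GL (Fin n) F) (σ : F ≃+* F),
      ((Cfsg.Agent.Lib.H13.AutPSL.desc (Cfsg.Agent.Lib.H13.AutPSL.fieldAut σ)).trans
        (Cfsg.Agent.Lib.H13.AutPSL.desc (Cfsg.Agent.Lib.H13.AutPSL.conjGL g)) :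
        MulAut (Matrix.ProjectiveSpecialLinearGroup (Fin n) F)) ∈ Cfsg.gammaPSL n F := by
    intro g σ
    apply Subgroup.subset_closure
    refine ⟨g, σ, ?_⟩
    rw [← Cfsg.Agent.Lib.H13.AutPSL.desc_trans]
    exact Cfsg.Agent.Lib.H13.AutPSL.isInducedBySemilinear_desc g σ
  by_cases h3 : 3 ≤ n
  · obtain ⟨g, σ, h | h⟩ := Cfsg.Agent.Lib.H13.AutPSL.main3 h3 p β
    · rw [h]
      exact Subgroup.mem_sup_left (hG g σ)
    · have h' : β = ((Cfsg.Agent.Lib.H13.AutPSL.desc (Cfsg.Agent.Lib.H13.AutPSL.fieldAut σ)).trans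
        (Cfsg.Agent.Lib.H13.AutPSL.desc (Cfsg.Agent.Lib.H13.AutPSL.conjGL g)) :
        MulAut (Matrix.ProjectiveSpecialLinearGroup (Fin n) F)) *
          (Cfsg.Agent.Lib.H13.AutPSL.desc Cfsg.Agent.Lib.H13.AutPSL.invT :
            MulAut (Matrix.ProjectiveSpecialLinearGroup (Fin n) F)) := by
        rw [h]
        rfl
      rw [h']
      refine Subgroup.mul_mem_sup (hG g σ) ?_
      apply Subgroup.subset_closure
      exact Cfsg.Agent.Lib.H13.AutPSL.isInverseTranspose_desc_invT
  · have h2 : n = 2 := by omega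
    subst h2
    obtain ⟨g, σ, h⟩ := Cfsg.Agent.Lib.H13.AutPSL.main2 p β
    rw [h]
    exact Subgroup.mem_sup_left (hG g σ)

end Cfsg.Agent.S2689
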