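import Cfsg.Statements.S2694
import Cfsg.Agent.Lib.H13.AutPO5

set_option autoImplicit false
open Cfsg

namespace Cfsg.Agent.S2694

/-- For m ≥ 3 and a finite field F of odd order, the automorphism group of the orthogonal group Ω_{2m+1}(F) (realised as PΩ of the form x₀² + Σ xᵢ yᵢ, whose centre is trivial) is generated by the automorphisms induced by the semisimilarities v ↦ g σ(v) of the form (the image of the projective semisimilarity group); there are no graph or graph-field automorphisms. -/
theorem result {F : Type*} [Field F] [Fintype F] (hodd : Odd (Fintype.card F)) {m : ℕ} (hm : 3 ≤ m) :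
    Cfsg.gammaPOmega F (Cfsg.quadFormOdd m F) = ⊤ := by
  have h2 := Cfsg.Agent.Lib.H13.AutPO.two_ne_zero_of_odd hodd
  have hQ := Cfsg.Agent.S0286.nondeg (F := F) h2 m
  have hcard : Fintype.card (Unit ⊕ (Fin m ⊕ Fin m)) = 2 * m + 1 := by
    simp; ring
  rw [← Cfsg.Agent.S0286.coe_oddQF (F := F) m]
  apply Cfsg.Agent.Lib.H13.AutPO.gamma_eq_top _ hQ
  · show 7 ≤ Fintype.card (Unit ⊕ (Fin m ⊕ Fin m))
    rw [hcard]; omega
  · by_cases h4 : 4 ≤ m
    · left
      show 9 ≤ Fintype.card (Unit ⊕ (Fin m ⊕ Fin m))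
      rw [hcard]; omega
    · apply Cfsg.Agent.Lib.H13.AutPO.noTriality_of_card_le _ hQ
      show Fintype.card (Unit ⊕ (Fin m ⊕ Fin m)) ≤ 7
      rw [hcard]; omega

end Cfsg.Agent.S2694
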