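import Cfsg.Statements.S2701
import Cfsg.Agent.Lib.H11.PSLGraph14
-- import your own Cfsg.Agent.* helpers here

set_option autoImplicit false
open Cfsg
open Cfsg.Agent.Lib.H11.PSLGraph Cfsg.Agent.Lib.H13.AutPSL

namespace Cfsg.Agent.S2701

/-- Let T = PSL_n(F) over a finite field of characteristic 2 with n = 2m ≥ 4 even, and G = Inndiag(T) the image of PGL_n(F). The involutory graph automorphisms of T fall into exactly two G-classes, with representatives γ₁ and γ₃ whose centralizers in G are isomorphic respectively to the symplectic group Sp_n(F) and to the centralizer in Sp_n(F) of a symplectic transvection. -/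
theorem result {F : Type*} [Field F] [Fintype F] [CharP F 2] {n m : ℕ} (hm : 2 ≤ m) (hnm : n = 2 * m) :
    ∃ (γ₁ γ₃ : MulAut (Matrix.ProjectiveSpecialLinearGroup (Fin n) F)) (t : ↥(Matrix.symplecticGroup (Fin m) F)), Cfsg.IsTransvection (t : Matrix (Fin m ⊕ Fin m) (Fin m ⊕ Fin m) F) ∧ Cfsg.IsGraphAutClassPSL γ₁ ∧ orderOf γ₁ = 2 ∧ Cfsg.IsGraphAutClassPSL γ₃ ∧ orderOf γ₃ = 2 ∧ ¬ Cfsg.IsConjUnder (Cfsg.inndiagPSL n F) γ₁ γ₃ ∧ (∀ γ : MulAut (Matrix.ProjectiveSpecialLinearGroup (Fin n) F), Cfsg.IsGraphAutClassPSL γ → orderOf γ = 2 → Cfsg.IsConjUnder (Cfsg.inndiagPSL n F) γ₁ γ ∨ Cfsg.IsConjUnder (Cfsg.inndiagPSL n F) γ₃ γ) ∧ Nonempty (↥(Cfsg.inndiagPSL n F ⊓ Subgroup.centralizer {γ₁}) ≃* ↥(Matrix.symplecticGroup (Fin m) F)) ∧ Nonempty (↥(Cfsg.inndiagPSL n F ⊓ Subgroup.centralizer {γ₃}) ≃* ↥(Subgroup.centralizer ({t} : Set ↥(Matrix.symplecticGroup (Fin m) F)))) := by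
  classical
  have hn : 3 ≤ n := by omega
  obtain ⟨B₁, hB₁, halt₁⟩ := exists_alt_char2 (F := F) m hnm
  have hB₃ : Matrix.transpose ((1 : GL (Fin n) F) : Matrix (Fin n) (Fin n) F) =
      ((1 : GL (Fin n) F) : Matrix (Fin n) (Fin n) F) := by
    rw [Units.val_one, Matrix.transpose_one]
  have hna₃ : ∃ v, bf ((1 : GL (Fin n) F) : Matrix (Fin n) (Fin n) F) v v ≠ 0 := by
    refine ⟨Pi.single ⟨0, by omega⟩ 1, ?_⟩
    rw [bf_single_single, Units.val_one, Matrix.one_apply_eq]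
    exact one_ne_zero
  obtain ⟨e₃, w₀, hw₀, he₃⟩ := exists_f3_equiv m hnm (1 : GL (Fin n) F) hB₃ hna₃
  refine ⟨gamF B₁, gamF (1 : GL (Fin n) F), Cfsg.Agent.Lib.H2.Sp.tv m w₀ 1,
    isTransvection_tv m w₀ hw₀, (isGraph_iff' _).2 ⟨hn, B₁, rfl⟩,
    (orderOf_gamF_eq_two_iff hn B₁).2 (Or.inl hB₁), (isGraph_iff' _).2 ⟨hn, 1, rfl⟩,
    (orderOf_gamF_eq_two_iff hn 1).2 (Or.inl hB₃), ?_, ?_,
    alt_centralizer_char2 hn m (by omega) hnm B₁ halt₁,
    nonalt_centralizer_char2 hn m 1 e₃ w₀ hw₀ he₃⟩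
  · rw [isConj_gamF_iff hn]
    rintro ⟨g, c, _, h⟩
    obtain ⟨v, hv⟩ := hna₃
    apply hv
    rw [h, bf_smul, ← bf_mulVec, halt₁, mul_zero]
  · intro γ hγ hγ2
    obtain ⟨_, B, rfl⟩ := (isGraph_iff' γ).1 hγ
    have hB := sym_of_char2 B ((orderOf_gamF_eq_two_iff hn B).1 hγ2)
    by_cases halt : ∀ v, bf (B : Matrix (Fin n) (Fin n) F) v v = 0
    · left
      obtain ⟨e, he⟩ := exists_symp_equiv_alt m hnm (B : Matrix (Fin n) (Fin n) F) halt
        (bf_nondeg B)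
      obtain ⟨e₁, he₁⟩ := exists_symp_equiv_alt m hnm (B₁ : Matrix (Fin n) (Fin n) F) halt₁
        (bf_nondeg B₁)
      obtain ⟨g, hg⟩ := congr_of_equiv (B : Matrix (Fin n) (Fin n) F)
        (B₁ : Matrix (Fin n) (Fin n) F) (e.trans e₁.symm) (fun u v => by
          rw [← he₁, LinearEquiv.trans_apply, LinearEquiv.trans_apply,
            LinearEquiv.apply_symm_apply, LinearEquiv.apply_symm_apply, he])
      exact conj_of_congr hn B B₁ g hg
    · right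
      push Not at halt
      obtain ⟨g, hg⟩ := nonalt_congr m hnm B 1 hB hB₃ halt hna₃
      exact conj_of_congr hn B 1 g hg

end Cfsg.Agent.S2701
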