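import Cfsg.Statements.S2702
import Cfsg.Agent.Lib.H11.PSLGraph10
-- import your own Cfsg.Agent.* helpers here

set_option autoImplicit false
open Cfsg
open Cfsg.Agent.Lib.H11.PSLGraph Cfsg.Agent.Lib.H13.AutPSL

namespace Cfsg.Agent.S2702

/-- Let T = PSL_n(F) over the field with q = p^f elements, n ≥ 3, G = Inndiag(T) the image of PGL_n(F), and γ an involutory graph automorphism of T. The G-class of γ is the union of exactly c T-classes, where: if n is even and q is odd, c = gcd(n/2, q − 1) when C_G(γ) is isomorphic to the projective conformal symplectic group PGSp_n(F) (symplectic type) and c = gcd(n, q − 1)/2 otherwise; and c = gcd(n, q − 1) when n is odd or q is even. -/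
theorem result {F : Type*} [Field F] [Fintype F] {p f : ℕ} [Fact p.Prime] (hF : Fintype.card F = p ^ f) (hf : 1 ≤ f) {n : ℕ} (hn : 3 ≤ n) (γ : MulAut (Matrix.ProjectiveSpecialLinearGroup (Fin n) F)) (hγ : Cfsg.IsGraphAutClassPSL γ) (hγ2 : orderOf γ = 2) :
    ((Even n ∧ Odd p ∧ Nonempty (↥(Cfsg.inndiagPSL n F ⊓ Subgroup.centralizer {γ}) ≃* Cfsg.PGSp (n / 2) F)) → Cfsg.splitClassCount (Cfsg.inndiagPSL n F) (Cfsg.Inn (Matrix.ProjectiveSpecialLinearGroup (Fin n) F)) γ = Nat.gcd (n / 2) (p ^ f - 1)) ∧ ((Even n ∧ Odd p ∧ ¬ Nonempty (↥(Cfsg.inndiagPSL n F ⊓ Subgroup.centralizer {γ}) ≃* Cfsg.PGSp (n / 2) F)) → Cfsg.splitClassCount (Cfsg.inndiagPSL n F) (Cfsg.Inn (Matrix.ProjectiveSpecialLinearGroup (Fin n) F)) γ = Nat.gcd n (p ^ f - 1) / 2) ∧ (¬ (Even n ∧ Odd p) → Cfsg.splitClassCount (Cfsg.inndiagPSL n F) (Cfsg.Inn (Matrix.ProjectiveSpecialLinearGroup (Fin n) F)) γ = Nat.gcd n (p ^ f - 1)) := by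
  classical
  have hcharP : CharP F p := charP_of_card_eq_prime_pow hF
  obtain ⟨_, B, rfl⟩ := (isGraph_iff' γ).1 hγ
  have hsym := (orderOf_gamF_eq_two_iff hn B).1 hγ2
  have hq : p ^ f = Fintype.card F := hF.symm
  have h2of : Odd p → (2 : F) ≠ 0 := by
    intro hp h
    have h3 : ((2 : ℕ) : F) = 0 := by exact_mod_cast h
    rw [CharP.cast_eq_zero_iff F p] at h3
    have h4 := (Nat.prime_dvd_prime_iff_eq (Fact.out) Nat.prime_two).1 h3
    rw [h4] at hp
    exact (by decide : ¬ Odd 2) hp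
  have hoddq : Odd p → Odd (Fintype.card F) := by
    intro hp
    rw [hF]
    exact hp.pow
  refine ⟨?_, ?_, ?_⟩
  · rintro ⟨⟨m, hm⟩, hp, ⟨E⟩⟩
    have hnm : n = 2 * m := by omega
    have hdiv : n / 2 = m := by omega
    have h2 := h2of hp
    rw [hdiv] at E ⊢
    rw [hq]
    rcases hsym with hs | hs
    · exfalso
      rcases sym_centralizer h2 hn m hnm B hs with ⟨hplus, hminus⟩
      by_cases hsq : IsSquare ((-1 : F) ^ m * (B : Matrix (Fin n) (Fin n) F).det)
      · obtain ⟨E'⟩ := hplus hsq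
        exact card_PGO_plus_ne (hoddq hp) m (by omega) (Nat.card_congr (E'.symm.trans E).toEquiv)
      · obtain ⟨ζ, hζ, ⟨E'⟩⟩ := hminus hsq
        exact card_PGO_minus_ne (hoddq hp) h2 m (by omega) 1 ζ (aniso_of_irred ζ hζ)
          (Nat.card_congr (E'.symm.trans E).toEquiv)
    · exact count_skew h2 hn p m hnm B hs
  · rintro ⟨⟨m, hm⟩, hp, hnot⟩
    have hnm : n = 2 * m := by omega
    have hdiv : n / 2 = m := by omega
    have h2 := h2of hp
    rw [hdiv] at hnot
    rw [hq]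
    rcases hsym with hs | hs
    · exact count_sym h2 hn p m hnm B hs
    · exact absurd (alt_centralizer h2 hn m hnm B hs) hnot
  · intro hnot
    rw [hq]
    by_cases hev : Even n
    · obtain ⟨m, hm⟩ := hev
      have hnm : n = 2 * m := by omega
      have hp2 : ¬ Odd p := fun hp => hnot ⟨⟨m, hm⟩, hp⟩
      have hp : p = 2 := ((Fact.out : p.Prime).eq_two_or_odd').resolve_right hp2
      subst hp
      exact count_of_le_pow hn 2 B (detSim_le_pow_char2 m hnm B)
    · exact count_of_le_pow hn p B (detSim_le_pow_odd (Nat.not_even_iff_odd.1 hev) B)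

end Cfsg.Agent.S2702
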