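import Cfsg.Statements.S2703
import Cfsg.Agent.Lib.H11.PSLGraph5
import Cfsg.Agent.Lib.H13.HypPairs
-- import your own Cfsg.Agent.* helpers here

set_option autoImplicit false
open Cfsg

namespace Cfsg.Agent.S2703

/-- Let T = PSL_n(F) over the field with q elements, q odd, n = 2m ≥ 4 even, and ι the inverse-transpose automorphism. Its centralizer in G = Inndiag(T) (the image of PGL_n(F)) is isomorphic to the projective conformal orthogonal group of the plus-type form Σ xᵢ yᵢ in dimension n when n(q − 1)/4 is even, and to that of a minus-type form (Σ xᵢ yᵢ + z₁² + a z₁ z₂ + b z₂² with anisotropic binary part) when n(q − 1)/4 is odd. -/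
theorem result {F : Type*} [Field F] [Fintype F] (hodd : Odd (Fintype.card F)) {n m : ℕ} (hm : 2 ≤ m) (hnm : n = 2 * m) (ι : MulAut (Matrix.ProjectiveSpecialLinearGroup (Fin n) F)) (hι : Cfsg.IsInverseTransposeAutPSL ι) :
    (Even (n * (Fintype.card F - 1) / 4) → Nonempty (↥(Cfsg.inndiagPSL n F ⊓ Subgroup.centralizer {ι}) ≃* Cfsg.PGO F (Cfsg.quadFormPlus m F))) ∧ (¬ Even (n * (Fintype.card F - 1) / 4) → ∃ a b : F, (∀ z₁ z₂ : F, z₁ ^ 2 + a * z₁ * z₂ + b * z₂ ^ 2 = 0 → z₁ = 0 ∧ z₂ = 0) ∧ Nonempty (↥(Cfsg.inndiagPSL n F ⊓ Subgroup.centralizer {ι}) ≃* Cfsg.PGO F (Cfsg.quadFormMinus (m - 1) F a b))) := by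
  classical
  have h2 : (2 : F) ≠ 0 := Cfsg.Agent.Lib.H13.HypPairs.two_ne_zero_of_odd_card rfl hodd
  have hn : 3 ≤ n := by omega
  have hι' : ι = Cfsg.Agent.Lib.H11.PSLGraph.gamF (1 : GL (Fin n) F) := by
    have h1 : ι = Cfsg.Agent.Lib.H13.AutPSL.tAut :=
      Cfsg.Agent.Lib.H13.AutPSL.eq_of_isInverseTranspose hι
    rw [h1]
    unfold Cfsg.Agent.Lib.H11.PSLGraph.gamF
    rw [map_one, mul_one]
  subst hι'
  have hmain := Cfsg.Agent.Lib.H11.PSLGraph.sym_centralizer h2 hn m hnm (1 : GL (Fin n) F)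
    (by rw [Units.val_one, Matrix.transpose_one])
  rw [Units.val_one, Matrix.det_one, mul_one] at hmain
  have hiff : Even (n * (Fintype.card F - 1) / 4) ↔ IsSquare ((-1 : F) ^ m) := by
    rw [Cfsg.Agent.Lib.H13.neg_one_pow_isSquare_iff hodd m]
    have : n * (Fintype.card F - 1) / 4 = m * (Fintype.card F - 1) / 2 := by
      rw [hnm, mul_assoc]
      exact Nat.mul_div_mul_left _ 2 (by norm_num)
    rw [this]
  constructor
  · intro h
    exact hmain.1 (hiff.1 h)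
  · intro h
    obtain ⟨ζ, hζ, hE⟩ := hmain.2 (fun hsq => h (hiff.2 hsq))
    exact ⟨1, ζ, Cfsg.Agent.Lib.H11.PSLGraph.aniso_of_irred ζ hζ, hE⟩

end Cfsg.Agent.S2703
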