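import Cfsg.Statements.S2706
import Cfsg.Agent.Lib.H11.PSUGraph6
import Cfsg.Agent.S2699
-- import your own Cfsg.Agent.* helpers here

set_option autoImplicit false
open Cfsg
open Cfsg.Agent.Lib.H13.AutPSU Cfsg.Agent.Lib.H11.PSUGraph Cfsg.Agent.Lib.H11.PSLGraph

namespace Cfsg.Agent.S2706

/-- Let T = PSU_n(q) be simple with n = 2m + 1 ≥ 3 odd, realised over the field F with q² elements, and G = Inndiag(T) the image of PGU_n(q). Every involutory graph automorphism γ of T (an inner-diagonal automorphism times a standard field automorphism of even order, of order 2) has centralizer C_G(γ) isomorphic to the projective conformal orthogonal group of the form x₀² + Σ xᵢ yᵢ in dimension n over a field F₀ with q elements, and any two involutory graph automorphisms of T are G-conjugate. -/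
theorem result {F : Type*} [Field F] [Fintype F] {p f q : ℕ} [Fact p.Prime] (hq : q = p ^ f) (hf : 1 ≤ f) (hF : Fintype.card F = q ^ 2) {n : ℕ} (hn : 3 ≤ n) (hs : ¬ (n = 3 ∧ q = 2)) {m : ℕ} (hnm : n = 2 * m + 1) (F₀ : Type*) [Field F₀] [Fintype F₀] (hF₀ : Fintype.card F₀ = q) (γ γ' : MulAut (Cfsg.PSU n F q)) (hγ : Cfsg.IsGraphAutClassPSU γ) (hγ2 : orderOf γ = 2) (hγ' : Cfsg.IsGraphAutClassPSU γ') (hγ'2 : orderOf γ' = 2) :
    Nonempty (↥(Cfsg.inndiagPSU n F q ⊓ Subgroup.centralizer {γ}) ≃* Cfsg.PGO F₀ (Cfsg.quadFormOdd m F₀)) ∧ Cfsg.IsConjUnder (Cfsg.inndiagPSU n F q) γ γ' := by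
  classical
  obtain ⟨D, -⟩ : ∃ D : UF F q, D = UF.ofCard hq hF := ⟨_, rfl⟩
  have hF' : Fintype.card F = p ^ (2 * f) := by rw [hF, hq, ← pow_mul, mul_comm]
  have : CharP F p := charP_of_card_eq_prime_pow hF'
  obtain ⟨ι, hι⟩ := exists_iota D hF F₀ hF₀
  obtain ⟨B, hB⟩ := exists_relAny p hι hn γ hγ hγ2
  obtain ⟨B', hB'⟩ := exists_relAny p hι hn γ' hγ' hγ'2
  have h1 := Cfsg.Agent.S2699.result (F := F₀) (p := p) (f := f) (by rw [hF₀, hq]) hf hn hnm
    (gamF B) (gamF B') (hB.isGraph_gamF hn) (hB.orderOf_gamF hn) (hB'.isGraph_gamF hn)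
    (hB'.orderOf_gamF hn)
  refine ⟨?_, ?_⟩
  · obtain ⟨e1⟩ := hB.centralizer hι hn
    obtain ⟨e2⟩ := h1.1
    exact ⟨e1.trans e2⟩
  · exact (hB.conj_iff hB' hι hn).2 h1.2

end Cfsg.Agent.S2706
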