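import Cfsg.Statements.S2707
import Cfsg.Agent.Lib.H11.PSUGraph6
import Cfsg.Agent.S2700
-- import your own Cfsg.Agent.* helpers here

set_option autoImplicit false
open Cfsg
open Cfsg.Agent.Lib.H13.AutPSU Cfsg.Agent.Lib.H11.PSUGraph Cfsg.Agent.Lib.H11.PSLGraph

namespace Cfsg.Agent.S2707

/-- Let T = PSU_n(q) with n = 2m ≥ 4 even and q odd, realised over the field F with q² elements, and G = Inndiag(T) the image of PGU_n(q). The involutory graph automorphisms of T fall into exactly three G-classes, with representatives whose centralizers in G are isomorphic respectively to the projective conformal symplectic group PGSp_n(F₀), the projective conformal orthogonal group of the plus-type form Σ xᵢ yᵢ, and that of a minus-type form Σ xᵢ yᵢ + z₁² + a z₁ z₂ + b z₂² (anisotropic binary part) in dimension n, all over a field F₀ with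 q elements. -/
theorem result {F : Type*} [Field F] [Fintype F] {q : ℕ} (hodd : Odd q) (hF : Fintype.card F = q ^ 2) {n m : ℕ} (hm : 2 ≤ m) (hnm : n = 2 * m) (F₀ : Type*) [Field F₀] [Fintype F₀] (hF₀ : Fintype.card F₀ = q) :
    ∃ (γ₁ γ₂ γ₃ : MulAut (Cfsg.PSU n F q)) (a b : F₀), (∀ z₁ z₂ : F₀, z₁ ^ 2 + a * z₁ * z₂ + b * z₂ ^ 2 = 0 → z₁ = 0 ∧ z₂ = 0) ∧ Cfsg.IsGraphAutClassPSU γ₁ ∧ orderOf γ₁ = 2 ∧ Cfsg.IsGraphAutClassPSU γ₂ ∧ orderOf γ₂ = 2 ∧ Cfsg.IsGraphAutClassPSU γ₃ ∧ orderOf γ₃ = 2 ∧ ¬ Cfsg.IsConjUnder (Cfsg.inndiagPSU n F q) γ₁ γ₂ ∧ ¬ Cfsg.IsConjUnder (Cfsg.inndiagPSU n F q) γ₁ γ₃ ∧ ¬ Cfsg.IsConjUnder (Cfsg.inndiagPSU n F q) γ₂ γ₃ ∧ (∀ γ : MulAut (Cfsg.PSU n F q), Cfsg.IsGraphAutClassPSU γ → orderOf γ = 2 → Cfsg.IsConjUnder (Cfsg.inndiagPSU n F q) γ₁ γ ∨ Cfsg.IsConjUnder (Cfsg.inndiagPSU n F q) γ₂ γ ∨ Cfsg.IsConjUnder (Cfsg.inndiagPSU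 n F q) γ₃ γ) ∧ Nonempty (↥(Cfsg.inndiagPSU n F q ⊓ Subgroup.centralizer {γ₁}) ≃* Cfsg.PGSp m F₀) ∧ Nonempty (↥(Cfsg.inndiagPSU n F q ⊓ Subgroup.centralizer {γ₂}) ≃* Cfsg.PGO F₀ (Cfsg.quadFormPlus m F₀)) ∧ Nonempty (↥(Cfsg.inndiagPSU n F q ⊓ Subgroup.centralizer {γ₃}) ≃* Cfsg.PGO F₀ (Cfsg.quadFormMinus (m - 1) F₀ a b)) := by
  classical
  obtain ⟨p, f, hp, hq⟩ := exists_prime_pow hF
  have : Fact p.Prime := ⟨hp⟩
  obtain ⟨D, -⟩ : ∃ D : UF F q, D = UF.ofCard hq hF := ⟨_, rfl⟩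
  have hF' : Fintype.card F = p ^ (2 * f) := by rw [hF, hq, ← pow_mul, mul_comm]
  have : CharP F p := charP_of_card_eq_prime_pow hF'
  have hn : 3 ≤ n := by omega
  obtain ⟨ι, hι⟩ := exists_iota D hF F₀ hF₀
  obtain ⟨β₁, β₂, β₃, a, b, hab, hg₁, ho₁, hg₂, ho₂, hg₃, ho₃, h12, h13, h23, hall, hc₁, hc₂, hc₃⟩ :=
    Cfsg.Agent.S2700.result (F := F₀) (by rw [hF₀]; exact hodd) hm hnm
  obtain ⟨γ₁, B₁, rfl, hB₁⟩ := exists_relAny_of_graph (D := D) hι hn β₁ hg₁ ho₁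
  obtain ⟨γ₂, B₂, rfl, hB₂⟩ := exists_relAny_of_graph (D := D) hι hn β₂ hg₂ ho₂
  obtain ⟨γ₃, B₃, rfl, hB₃⟩ := exists_relAny_of_graph (D := D) hι hn β₃ hg₃ ho₃
  refine ⟨γ₁, γ₂, γ₃, a, b, hab, hB₁.isGraph hn, hB₁.orderOf hn, hB₂.isGraph hn, hB₂.orderOf hn,
    hB₃.isGraph hn, hB₃.orderOf hn, ?_, ?_, ?_, ?_, ?_, ?_, ?_⟩
  · exact fun h => h12 ((hB₁.conj_iff hB₂ hι hn).1 h)
  · exact fun h => h13 ((hB₁.conj_iff hB₃ hι hn).1 h)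
  · exact fun h => h23 ((hB₂.conj_iff hB₃ hι hn).1 h)
  · intro γ hγ hγ2
    obtain ⟨B, hB⟩ := exists_relAny p hι hn γ hγ hγ2
    rcases hall (gamF B) (hB.isGraph_gamF hn) (hB.orderOf_gamF hn) with h | h | h
    · exact Or.inl ((hB₁.conj_iff hB hι hn).2 h)
    · exact Or.inr (Or.inl ((hB₂.conj_iff hB hι hn).2 h))
    · exact Or.inr (Or.inr ((hB₃.conj_iff hB hι hn).2 h))
  · obtain ⟨e1⟩ := hB₁.centralizer hι hn
    obtain ⟨e2⟩ := hc₁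
    exact ⟨e1.trans e2⟩
  · obtain ⟨e1⟩ := hB₂.centralizer hι hn
    obtain ⟨e2⟩ := hc₂
    exact ⟨e1.trans e2⟩
  · obtain ⟨e1⟩ := hB₃.centralizer hι hn
    obtain ⟨e2⟩ := hc₃
    exact ⟨e1.trans e2⟩

end Cfsg.Agent.S2707
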