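import Cfsg.Statements.S2708
import Cfsg.Agent.Lib.H11.PSUGraph6
import Cfsg.Agent.S2701
-- import your own Cfsg.Agent.* helpers here

set_option autoImplicit false
open Cfsg
open Cfsg.Agent.Lib.H13.AutPSU Cfsg.Agent.Lib.H11.PSUGraph Cfsg.Agent.Lib.H11.PSLGraph

namespace Cfsg.Agent.S2708

/-- Let T = PSU_n(q) with n = 2m ≥ 4 even and q even, realised over the field F (of characteristic 2) with q² elements, and G = Inndiag(T) the image of PGU_n(q). The involutory graph automorphisms of T fall into exactly two G-classes, with representatives whose centralizers in G are isomorphic respectively to the symplectic group Sp_n(F₀) and to the centralizer in Sp_n(F₀) of a symplectic transvection, F₀ a field with q elements. -/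
theorem result {F : Type*} [Field F] [Fintype F] [CharP F 2] {q : ℕ} (hF : Fintype.card F = q ^ 2) {n m : ℕ} (hm : 2 ≤ m) (hnm : n = 2 * m) (F₀ : Type*) [Field F₀] [Fintype F₀] (hF₀ : Fintype.card F₀ = q) :
    ∃ (γ₁ γ₃ : MulAut (Cfsg.PSU n F q)) (t : ↥(Matrix.symplecticGroup (Fin m) F₀)), Cfsg.IsTransvection (t : Matrix (Fin m ⊕ Fin m) (Fin m ⊕ Fin m) F₀) ∧ Cfsg.IsGraphAutClassPSU γ₁ ∧ orderOf γ₁ = 2 ∧ Cfsg.IsGraphAutClassPSU γ₃ ∧ orderOf γ₃ = 2 ∧ ¬ Cfsg.IsConjUnder (Cfsg.inndiagPSU n F q) γ₁ γ₃ ∧ (∀ γ : MulAut (Cfsg.PSU n F q), Cfsg.IsGraphAutClassPSU γ → orderOf γ = 2 → Cfsg.IsConjUnder (Cfsg.inndiagPSU n F q) γ₁ γ ∨ Cfsg.IsConjUnder (Cfsg.inndiagPSU n F q) γ₃ γ) ∧ Nonempty (↥(Cfsg.inndiagPSU n F q ⊓ Subgroup.centralizer {γ₁}) ≃* ↥(Matrix.symplecticGroup (Fin m) F₀)) ∧ Nonempty (↥(Cfsg.inndiagPSU n F q ⊓ Subgroup.centralizer {γ₃}) ≃* ↥(Subgroup.centralizer ({t}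 : Set ↥(Matrix.symplecticGroup (Fin m) F₀)))) := by
  classical
  obtain ⟨p, f, hp, hq⟩ := exists_prime_pow hF
  have : Fact p.Prime := ⟨hp⟩
  obtain ⟨D, -⟩ : ∃ D : UF F q, D = UF.ofCard hq hF := ⟨_, rfl⟩
  have hn : 3 ≤ n := by omega
  obtain ⟨ι, hι⟩ := exists_iota D hF F₀ hF₀
  have : CharP F₀ 2 := by
    have h2 : (2 : F) = 0 := CharTwo.two_eq_zero
    have h2' : (2 : F₀) = 0 := by
      apply ι.injective
      rw [map_ofNat, map_zero, h2]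
    exact CharTwo.of_one_ne_zero_of_two_eq_zero one_ne_zero h2'
  obtain ⟨β₁, β₃, t, ht, hg₁, ho₁, hg₃, ho₃, h13, hall, hc₁, hc₃⟩ :=
    Cfsg.Agent.S2701.result (F := F₀) hm hnm
  obtain ⟨γ₁, B₁, rfl, hB₁⟩ := exists_relAny_of_graph (D := D) hι hn β₁ hg₁ ho₁
  obtain ⟨γ₃, B₃, rfl, hB₃⟩ := exists_relAny_of_graph (D := D) hι hn β₃ hg₃ ho₃
  refine ⟨γ₁, γ₃, t, ht, hB₁.isGraph hn, hB₁.orderOf hn, hB₃.isGraph hn, hB₃.orderOf hn,
    ?_, ?_, ?_, ?_⟩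
  · exact fun h => h13 ((hB₁.conj_iff hB₃ hι hn).1 h)
  · intro γ hγ hγ2
    obtain ⟨B, hB⟩ := exists_relAny 2 hι hn γ hγ hγ2
    rcases hall (gamF B) (hB.isGraph_gamF hn) (hB.orderOf_gamF hn) with h | h
    · exact Or.inl ((hB₁.conj_iff hB hι hn).2 h)
    · exact Or.inr ((hB₃.conj_iff hB hι hn).2 h)
  · obtain ⟨e1⟩ := hB₁.centralizer hι hn
    obtain ⟨e2⟩ := hc₁
    exact ⟨e1.trans e2⟩
  · obtain ⟨e1⟩ := hB₃.centralizer hι hn
    obtain ⟨e2⟩ := hc₃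
    exact ⟨e1.trans e2⟩

end Cfsg.Agent.S2708
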