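import Cfsg.Statements.S2709
import Cfsg.Agent.Lib.H11.PSUGraph9
import Cfsg.Agent.Lib.H11.PSLGraph10
-- import your own Cfsg.Agent.* helpers here

set_option autoImplicit false
open Cfsg
open Cfsg.Agent.Lib.H13.AutPSU Cfsg.Agent.Lib.H11.PSUGraph Cfsg.Agent.Lib.H11.PSLGraph

namespace Cfsg.Agent.S2709

/-- Let T = PSU_n(q) be simple (n ≥ 3, (n,q) ≠ (3,2), q = p^f), realised over the field F with q² elements, G = Inndiag(T) the image of PGU_n(q), and γ an involutory graph automorphism of T. The G-class of γ is the union of exactly c T-classes, where: if n is even and q is odd, c = gcd(n/2, q + 1) when C_G(γ) is isomorphic to PGSp_n(F₀) for a field F₀ with q elements (symplectic type) and c = gcd(n, q + 1)/2 otherwise; and c = gcd(n, q + 1) when n is odd or q is even. -/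
theorem result {F : Type*} [Field F] [Fintype F] {p f q : ℕ} [Fact p.Prime] (hq : q = p ^ f) (hf : 1 ≤ f) (hF : Fintype.card F = q ^ 2) {n : ℕ} (hn : 3 ≤ n) (hs : ¬ (n = 3 ∧ q = 2)) (F₀ : Type*) [Field F₀] [Fintype F₀] (hF₀ : Fintype.card F₀ = q) (γ : MulAut (Cfsg.PSU n F q)) (hγ : Cfsg.IsGraphAutClassPSU γ) (hγ2 : orderOf γ = 2) :
    ((Even n ∧ Odd q ∧ Nonempty (↥(Cfsg.inndiagPSU n F q ⊓ Subgroup.centralizer {γ}) ≃* Cfsg.PGSp (n / 2) F₀)) → Cfsg.splitClassCount (Cfsg.inndiagPSU n F q) (Cfsg.Inn (Cfsg.PSU n F q)) γ = Nat.gcd (n / 2) (q + 1)) ∧ ((Even n ∧ Odd q ∧ ¬ Nonempty (↥(Cfsg.inndiagPSU n F q ⊓ Subgroup.centralizer {γ}) ≃* Cfsg.PGSp (n / 2) F₀)) → Cfsg.splitClassCount (Cfsg.inndiagPSU n F q) (Cfsg.Inn (Cfsg.PSU n F q)) γ = Nat.gcd n (q + 1) / 2) ∧ (¬ (Even n ∧ Odd q) → Cfsg.splitClassCount (Cfsg.inndiagPSU n F q) (Cfsg.Inn (Cfsg.PSU n F q)) γ = Nat.gcd n (q + 1)) := by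
  classical
  obtain ⟨D, -⟩ : ∃ D : UF F q, D = UF.ofCard hq hF := ⟨_, rfl⟩
  have hF' : Fintype.card F = p ^ (2 * f) := by rw [hF, hq, ← pow_mul, mul_comm]
  have hcharP : CharP F p := charP_of_card_eq_prime_pow hF'
  have hall := fun θ => isSemi_of_card hq hF hn hs θ
  have hq2 : 2 ≤ q := two_le_q hq hF
  obtain ⟨ι, hι⟩ := exists_iota D hF F₀ hF₀
  obtain ⟨B, hB⟩ := exists_relAny p hι hn γ hγ hγ2
  have hcent := hB.centralizer hι hn
  have h2of : Odd q → (2 : F₀) ≠ 0 := fun ho =>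
    Cfsg.Agent.Lib.H13.HypPairs.two_ne_zero_of_odd_card hF₀ ho
  have h2F : Odd q → (2 : F) ≠ 0 := by
    intro ho h
    apply h2of ho
    apply ι.injective
    rw [map_ofNat, map_zero, h]
  have hoddq : Odd q → Odd (Fintype.card F₀) := fun ho => by rw [hF₀]; exact ho
  refine ⟨?_, ?_, ?_⟩
  · rintro ⟨⟨m, hm⟩, ho, ⟨E⟩⟩
    have hnm : n = 2 * m := by omega
    have hdiv : n / 2 = m := by omega
    have h2 := h2of ho
    rw [hdiv] at E ⊢
    obtain ⟨e1⟩ := hcent
    rcases hB with hB | ⟨-, hB⟩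
    · exfalso
      have hs' := hB.symm_plus
      rcases sym_centralizer h2 hn m hnm B hs' with ⟨hplus, hminus⟩
      by_cases hsq : IsSquare ((-1 : F₀) ^ m * (B : Matrix (Fin n) (Fin n) F₀).det)
      · obtain ⟨E'⟩ := hplus hsq
        exact card_PGO_plus_ne (hoddq ho) m (by omega)
          (Nat.card_congr ((E'.symm.trans e1.symm).trans E).toEquiv)
      · obtain ⟨ζ, hζ, ⟨E'⟩⟩ := hminus hsq
        exact card_PGO_minus_ne (hoddq ho) h2 m (by omega) 1 ζ (aniso_of_irred ζ hζ)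
          (Nat.card_congr ((E'.symm.trans e1.symm).trans E).toEquiv)
    · have hs' := hB.symm_minus
      obtain ⟨g, P, rfl, R, -⟩ := hB.rdata
      exact Cfsg.Agent.Lib.H11.PSUGraph.count_skew hn hF hq2 hall R hι h2 m hnm hs'
  · rintro ⟨⟨m, hm⟩, ho, hnot⟩
    have hnm : n = 2 * m := by omega
    have hdiv : n / 2 = m := by omega
    have h2 := h2of ho
    rw [hdiv] at hnot
    obtain ⟨e1⟩ := hcent
    rcases hB with hB | ⟨-, hB⟩
    · have hs' := hB.symm_plus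
      obtain ⟨g, P, rfl, R, -⟩ := hB.rdata
      exact Cfsg.Agent.Lib.H11.PSUGraph.count_sym hn hF hq2 ho hall R hι (h2F ho) m hnm hs'
    · exfalso
      obtain ⟨E'⟩ := alt_centralizer h2 hn m hnm B hB.symm_minus
      exact hnot ⟨e1.trans E'⟩
  · intro hnot
    by_cases hev : Even n
    · obtain ⟨m, hm⟩ := hev
      have hnm : n = 2 * m := by omega
      have hqe : Even q := Nat.not_odd_iff_even.1 (fun ho => hnot ⟨⟨m, hm⟩, ho⟩)
      have hp2 : p = 2 := by
        have h1 : 2 ∣ p ^ f := by rw [← hq]; exact even_iff_two_dvd.1 hqe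
        have h3 := Nat.Prime.dvd_of_dvd_pow Nat.prime_two h1
        exact ((Nat.prime_dvd_prime_iff_eq Nat.prime_two (Fact.out)).1 h3).symm
      subst hp2
      rcases hB with hB | ⟨-, hB⟩
      · obtain ⟨g, P, rfl, R, -⟩ := hB.rdata
        exact count_of_le hn hF hq2 hall R hι (range_dj_le_char2 R hι hqe m hnm)
      · obtain ⟨g, P, rfl, R, -⟩ := hB.rdata
        exact count_of_le hn hF hq2 hall R hι (range_dj_le_char2 R hι hqe m hnm)
    · obtain ⟨m, hm⟩ := Nat.not_even_iff_odd.1 hev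
      rcases hB with hB | ⟨-, hB⟩
      · obtain ⟨g, P, rfl, R, -⟩ := hB.rdata
        exact count_of_le hn hF hq2 hall R hι (range_dj_le_odd R hι m hm)
      · obtain ⟨g, P, rfl, R, -⟩ := hB.rdata
        exact count_of_le hn hF hq2 hall R hι (range_dj_le_odd R hι m hm)

end Cfsg.Agent.S2709
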