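import Cfsg.Statements.S2710
import Cfsg.Agent.Lib.H11.PSUGraph6
-- import your own Cfsg.Agent.* helpers here

set_option autoImplicit false
open Cfsg
open Cfsg.Agent.Lib.H13.AutPSU Cfsg.Agent.Lib.H11.PSUGraph Cfsg.Agent.Lib.H11.PSLGraph

namespace Cfsg.Agent.S2710

/-- Let T = PSU_n(q) with n ≥ 4 divisible by 4 (n = 2m) and q odd, realised over the field F with q² elements, G = Inndiag(T) the image of PGU_n(q), and φ the standard field automorphism of T attached to the q-th power map of F (it induces inverse-transpose on the unitary matrices and is a graph automorphism). Its centralizer in G is isomorphic to the projective conformal orthogonal group of the plus-type form Σ xᵢ yᵢ in dimension n over a field F₀ with q elements. (Dimensions n ≡ 2 (mod 4) are not covered.) -/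
theorem result {F : Type*} [Field F] [Fintype F] {q : ℕ} (hodd : Odd q) (hF : Fintype.card F = q ^ 2) {n m : ℕ} (hm : 2 ≤ m) (hnm : n = 2 * m) (h4 : 4 ∣ n) (F₀ : Type*) [Field F₀] [Fintype F₀] (hF₀ : Fintype.card F₀ = q) (σ : F ≃+* F) (hσ : ∀ a : F, σ a = a ^ q) (φ : MulAut (Cfsg.PSU n F q)) (hφ : Cfsg.IsFieldAutPSUOf σ φ) :
    Nonempty (↥(Cfsg.inndiagPSU n F q ⊓ Subgroup.centralizer {φ}) ≃* Cfsg.PGO F₀ (Cfsg.quadFormPlus m F₀)) := by
  classical
  obtain ⟨p, f, hp, hq⟩ := exists_prime_pow hF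
  have : Fact p.Prime := ⟨hp⟩
  obtain ⟨D, -⟩ : ∃ D : UF F q, D = UF.ofCard hq hF := ⟨_, rfl⟩
  have hn : 3 ≤ n := by omega
  obtain ⟨ι, hι⟩ := exists_iota D hF F₀ hF₀
  have hστ : σ = D.τ := by
    ext a
    rw [hσ, D.hτ]
  have hφ' : φ = gamU D 1 := by
    rw [eq_fU_of_isFieldAut hφ, hστ]
    unfold gamU
    rw [map_one, one_mul]
  have hrel : RelAny D ι φ (1 : GL (Fin n) F₀) := by
    left
    refine ⟨1, 1, hφ', ?_, ?_, ?_, ?_⟩
    · rw [EDat.plus_ε, one_smul, mt_one, Matrix.transpose_one]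
    · rw [EDat.plus_ε, one_smul, Units.val_one, map_one_hom, Matrix.transpose_one]
    · rw [EDat.plus_c, one_smul, mt_one, Units.val_one, map_one_tau, Matrix.one_mul]
    · rw [EDat.plus_e, one_smul, Units.val_one, Units.val_one, map_one_hom, Matrix.mul_one, ct_one]
  have h2 : (2 : F₀) ≠ 0 :=
    Cfsg.Agent.Lib.H13.HypPairs.two_ne_zero_of_odd_card rfl (by rw [hF₀]; exact hodd)
  have hm2 : Even m := by
    obtain ⟨k, hk⟩ := h4
    exact ⟨k, by omega⟩
  have hsq : IsSquare ((-1 : F₀) ^ m * ((1 : GL (Fin n) F₀) : Matrix (Fin n) (Fin n) F₀).det) := by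
    rw [Units.val_one, Matrix.det_one, mul_one, hm2.neg_one_pow]
    exact ⟨1, by ring⟩
  obtain ⟨e1⟩ := hrel.centralizer hι hn
  obtain ⟨e2⟩ := (sym_centralizer h2 hn m hnm (1 : GL (Fin n) F₀)
    (by rw [Units.val_one, Matrix.transpose_one])).1 hsq
  exact ⟨e1.trans e2⟩

end Cfsg.Agent.S2710
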