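import Cfsg.Statements.S2738
import Mathlib

set_option autoImplicit false
open Cfsg

namespace Cfsg.Agent.S2738

theorem card_units {F : Type*} [Field F] [Fintype F] (hF : Fintype.card F = 4) :
    Nat.card Fˣ = 3 := by
  rw [Nat.card_units, Nat.card_eq_fintype_card, hF]

theorem pow_three_eq_one {F : Type*} [Field F] [Fintype F] (hF : Fintype.card F = 4) (z : F)
    (hz : z ≠ 0) : z ^ 3 = 1 := by
  have := FiniteField.pow_card_sub_one_eq_one z hz
  rwa [hF] at this

theorem card_center {F : Type*} [Field F] [Fintype F] (hF : Fintype.card F = 4) :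
    Nat.card ↥(Subgroup.center (Matrix.SpecialLinearGroup (Fin 3) F)) = 3 := by
  rw [Nat.card_congr (Matrix.SpecialLinearGroup.center_equiv_rootsOfUnity' (0 : Fin 3)).toEquiv]
  have htop : rootsOfUnity (Fintype.card (Fin 3)) F = ⊤ := by
    rw [eq_top_iff]
    intro u _
    rw [mem_rootsOfUnity]
    apply Units.ext
    rw [Units.val_pow_eq_pow_val, Units.val_one]
    simpa using pow_three_eq_one hF (u : F) u.ne_zero
  rw [htop, Nat.card_congr Subgroup.topEquiv.toEquiv, card_units hF]

theorem exists_zeta {F : Type*} [Field F] [Fintype F] (hF : Fintype.card F = 4) :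
    ∃ z : F, z ≠ 0 ∧ z ≠ 1 := by
  have h2 : 2 < Fintype.card F := by rw [hF]; norm_num
  obtain ⟨a, b, c, hab, hac, hbc⟩ := Fintype.two_lt_card_iff.mp h2
  by_cases ha : a ≠ 0 ∧ a ≠ 1
  · exact ⟨a, ha⟩
  by_cases hb : b ≠ 0 ∧ b ≠ 1
  · exact ⟨b, hb⟩
  refine ⟨c, ?_, ?_⟩
  · rintro rfl
    push Not at ha hb
    by_cases ha0 : a = 0
    · exact hac ha0
    · by_cases hb0 : b = 0
      · exact hbc hb0
      · exact hab ((ha ha0).trans (hb hb0).symm)
  · rintro rfl
    push Not at ha hb
    by_cases ha0 : a = 0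
    · by_cases hb0 : b = 0
      · exact hab (ha0.trans hb0.symm)
      · exact hbc (hb hb0)
    · exact hac (ha ha0)

/-- the diagonal matrix `diag(1, z, z²)`. -/
def dmat {F : Type*} [Field F] (z : F) : Matrix (Fin 3) (Fin 3) F :=
  !![1, 0, 0; 0, z, 0; 0, 0, z ^ 2]

/-- the cyclic permutation matrix. -/
def pmat {F : Type*} [Field F] : Matrix (Fin 3) (Fin 3) F :=
  !![0, 1, 0; 0, 0, 1; 1, 0, 0]

theorem det_dmat {F : Type*} [Field F] (z : F) (hz : z ^ 3 = 1) : (dmat z).det = 1 := by
  rw [dmat, Matrix.det_fin_three]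
  simp
  rw [← hz]; ring

theorem det_pmat {F : Type*} [Field F] : (pmat (F := F)).det = 1 := by
  rw [pmat, Matrix.det_fin_three]
  simp

theorem det_scalar {F : Type*} [Field F] (z : F) (hz : z ^ 3 = 1) :
    (Matrix.scalar (Fin 3) z).det = 1 := by
  simp [hz]

theorem rel {F : Type*} [Field F] (z : F) (hz : z ^ 3 = 1) :
    pmat * dmat z = Matrix.scalar (Fin 3) z * (dmat z * pmat) := by
  ext i j
  fin_cases i <;> fin_cases j <;>
    simp [pmat, dmat, Matrix.mul_apply, Fin.sum_univ_three, Matrix.scalar_apply, Matrix.diagonal]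
  · ring
  · rw [← hz]; ring

/-- The special linear group SL(3, 4) has centre of order 3 and does not split over it: no subgroup is a complement to the centre (so SL(3, 4) is a non-split central extension of PSL(3, 4) by a group of order 3). -/
theorem result (F : Type*) [Field F] [Fintype F] (hF : Fintype.card F = 4) : Nat.card ↥(Subgroup.center (Matrix.SpecialLinearGroup (Fin 3) F)) = 3 ∧ ¬ ∃ K : Subgroup (Matrix.SpecialLinearGroup (Fin 3) F), Subgroup.IsComplement' (Subgroup.center (Matrix.SpecialLinearGroup (Fin 3) F)) K := by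
    refine ⟨card_center hF, ?_⟩
    rintro ⟨K, hK⟩
    obtain ⟨z, hz0, hz1⟩ := exists_zeta hF
    have hz3 : z ^ 3 = 1 := pow_three_eq_one hF z hz0
    set Z := Subgroup.center (Matrix.SpecialLinearGroup (Fin 3) F) with hZ
    let a : Matrix.SpecialLinearGroup (Fin 3) F := ⟨dmat z, det_dmat z hz3⟩
    let b : Matrix.SpecialLinearGroup (Fin 3) F := ⟨pmat, det_pmat⟩
    let c : Matrix.SpecialLinearGroup (Fin 3) F := ⟨Matrix.scalar (Fin 3) z, det_scalar z hz3⟩
    have hcZ : c ∈ Z := by
      rw [hZ, Matrix.SpecialLinearGroup.mem_center_iff]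
      exact ⟨z, by simpa using hz3, rfl⟩
    have hrel : b * a = c * (a * b) := by
      apply Subtype.ext
      simp only [Matrix.SpecialLinearGroup.coe_mul]
      exact rel z hz3
    have hdisj : Z ⊓ K = ⊥ := hK.disjoint.eq_bot
    have hsup : Z ⊔ K = ⊤ := hK.sup_eq_top
    have hdecomp : ∀ g : Matrix.SpecialLinearGroup (Fin 3) F, ∃ u ∈ Z, ∃ k ∈ K, g = u * k := by
      intro g
      have hg : g ∈ ((Z ⊔ K : Subgroup _) : Set (Matrix.SpecialLinearGroup (Fin 3) F)) := by
        rw [hsup]; trivial
      rw [Subgroup.normal_mul] at hg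
      obtain ⟨u, hu, k, hk, e⟩ := Set.mem_mul.mp hg
      exact ⟨u, hu, k, hk, e.symm⟩
    obtain ⟨ua, hua, ka, hka, ea⟩ := hdecomp a
    obtain ⟨ub, hub, kb, hkb, eb⟩ := hdecomp b
    have hcomm : ∀ u ∈ Z, ∀ g : Matrix.SpecialLinearGroup (Fin 3) F, g * u = u * g :=
      fun u hu g => Subgroup.mem_center_iff.mp hu g
    have hcK : c ∈ K := by
      have h1 : kb * ka = c * (ka * kb) := by
        have e1 : b * a = (ua * ub) * (kb * ka) := by
          rw [ea, eb]
          calc ub * kb * (ua * ka) = ub * (kb * ua) * ka := by group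
            _ = ub * (ua * kb) * ka := by rw [hcomm ua hua kb]
            _ = (ub * ua) * (kb * ka) := by group
            _ = (ua * ub) * (kb * ka) := by rw [hcomm ua hua ub]
        have e2 : c * (a * b) = (ua * ub) * (c * (ka * kb)) := by
          rw [ea, eb]
          calc c * (ua * ka * (ub * kb)) = c * (ua * (ka * ub) * kb) := by group
            _ = c * (ua * (ub * ka) * kb) := by rw [hcomm ub hub ka]
            _ = (c * (ua * ub)) * (ka * kb) := by group
            _ = ((ua * ub) * c) * (ka * kb) := by rw [hcomm (ua * ub) (Z.mul_mem hua hub) c]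
            _ = (ua * ub) * (c * (ka * kb)) := by group
        rw [e1, e2] at hrel
        exact mul_left_cancel hrel
      have h2 : c = (kb * ka) * (ka * kb)⁻¹ := by rw [h1]; group
      rw [h2]
      exact K.mul_mem (K.mul_mem hkb hka) (K.inv_mem (K.mul_mem hka hkb))
    have hc1 : c = 1 := by
      have : c ∈ Z ⊓ K := ⟨hcZ, hcK⟩
      rw [hdisj] at this
      exact Subgroup.mem_bot.mp this
    have := congrArg (fun M : Matrix.SpecialLinearGroup (Fin 3) F => (M : Matrix (Fin 3) (Fin 3) F) 0 0) hc1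
    simp [c] at this
    exact hz1 this

end Cfsg.Agent.S2738
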