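-- Statement S2772 (row 2772): Sims' theorem in local form (G / O_2(G) dihedral of order 2q, q prime).
-- Proof (helper5): q = 2 impossible (Lib/H5/S2772/Q2); q = 3 via the Sims core theorem of S3685
-- (Lib/H5/S2772/Q3 + Lib/H13/SimsCore, helper13 and the S3685 piece owners); q >= 5 impossible by Thompson's
-- S4-free normal 2-complement theorem S2800 (Lib/H2/S2772Q5, helper2).
import Cfsg.Statements.S2772
import Cfsg.Agent.Lib.H5.S2772.Q2
import Cfsg.Agent.Lib.H5.S2772.Q3
import Cfsg.Agent.Lib.H13.SimsCore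
import Cfsg.Agent.Lib.H2.S2772Q5

set_option autoImplicit false
open Cfsg

namespace Cfsg.Agent.S2772

/-- Sims' Theorem in local form: let H be a finite non-abelian simple group and G a maximal subgroup of H with C_G(O₂(G)) ≤ O₂(G), such that N_H(S) is not contained in G for a Sylow 2-subgroup S of G and G/O₂(G) is dihedral of order 2q for a prime q. Then G is isomorphic to the symmetric group of degree 4 or to its direct product with a group of order 2. -/
theorem result {H : Type*} [Group H] [Finite H] [IsSimpleGroup H] (hna : ¬ IsMulCommutative H) (G : Subgroup H) (hG : IsCoatom G) (hchar : Subgroup.centralizer (Cfsg.pCore 2 ↥G : Set ↥G) ≤ Cfsg.pCore 2 ↥G) (S : Sylow 2 ↥G) (hN : ¬ Subgroup.normalizer (((S : Subgroup ↥G).map G.subtype : Subgroup H) : Set H) ≤ G) (q : ℕ) (hq : q.Prime) (hD : Nonempty (↥G ⧸ Cfsg.pCore 2 ↥G ≃* DihedralGroup q)) : Nonempty (↥G ≃* Equiv.Perm (Fin 4)) ∨ Nonempty (↥G ≃* Equiv.Perm (Fin 4) × Multiplicative (ZMod 2)) := by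
  rcases Nat.lt_or_ge q 5 with h5 | h5
  · have h2 := hq.two_le
    have hcases : q = 2 ∨ q = 3 ∨ q = 4 := by omega
    rcases hcases with rfl | rfl | rfl
    · exact (Cfsg.Agent.Lib.H5.S2772.q_eq_two G hD).elim
    · exact Cfsg.Agent.Lib.H5.S2772.q_eq_three_of_core
        (fun S' => Cfsg.Agent.Lib.H13.Sims.core S') G hG hchar S hN hD
    · exact absurd hq (by decide)
  · exact (Cfsg.Agent.Lib.H2.S2772.q_ge_five hna G hG hchar S hN q hq hD h5).elim

end Cfsg.Agent.S2772
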