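import Cfsg.Statements.S2779
import Cfsg.Agent.Lib.H14.NatMod

set_option autoImplicit false
open Cfsg

namespace Cfsg.Agent.S2779

open Matrix Cfsg.Agent.Lib.H2.SL2 Cfsg.Agent.Lib.H14.NatMod in
theorem main {G : Type*} [Group G] [Finite G] {p : ℕ} [Fact p.Prime] {F : Type*} [Field F] [Fintype F] (n : ℕ) (hF : Fintype.card F = p ^ n) (V L : Subgroup G) (hnat : Cfsg.IsNaturalSL2Module F V L) (hf : L ⊓ Subgroup.centralizer (V : Set G) = ⊥) (S : Sylow p ↥L) (T : Subgroup G) (hT : T = ((S : Subgroup ↥L).map L.subtype)) : ⁅⁅V, T⁆, T⁆ = ⊥ ∧ Nat.card V = p ^ (2 * n) ∧ Nat.card ↥(V ⊓ Subgroup.centralizer ((T : Subgroup G) : Set G)) = p ^ n ∧ ∀ s ∈ T, s ≠ 1 → (V ⊓ Subgroup.centralizer ({s} : Set G)) = (V ⊓ Subgroup.centralizer ((T : Subgroup G) : Set G)) ∧ ⁅V, T⁆ = (V ⊓ Subgroup.centralizer ((T : Subgroup G) : Set G)) ∧ ⁅V, Subgroup.zpowers s⁆ = (V ⊓ Subgroup.centralizer ((T : Subgroup G) : Set G)) ∧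 ∀ v ∈ V, v ∉ Subgroup.centralizer (T : Set G) → Subgroup.closure {x : G | ∃ t ∈ T, x = v * t * v⁻¹ * t⁻¹} = (V ⊓ Subgroup.centralizer ((T : Subgroup G) : Set G)) := by
  obtain ⟨ρ, ψ, g, hbij, hact0, hS1, hS2⟩ := exists_model n hF V L hnat hf S
  have hact : Act ρ ψ := hact0
  -- elements of T
  have hTel : ∀ s ∈ T, ∃ l : L, l ∈ S ∧ (l : G) = s := by
    intro s hs
    rw [hT] at hs
    obtain ⟨l, hl, rfl⟩ := hs
    exact ⟨l, hl, rfl⟩
  have hTpar : ∀ s ∈ T, ∃ (l : L) (τ : F), (l : G) = s ∧ ρ l = g * uSL τ * g⁻¹ ∧ (s ≠ 1 → τ ≠ 0) := by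
    intro s hs
    obtain ⟨l, hl, rfl⟩ := hTel s hs
    obtain ⟨τ, hτ⟩ := hS1 l hl
    refine ⟨l, τ, rfl, hτ, ?_⟩
    intro hne h0
    apply hne
    rw [h0, uSL_zero, mul_one, mul_inv_cancel] at hτ
    have : l = 1 := hbij.1 (by rw [hτ, map_one])
    rw [this]; rfl
  have hTmem : ∀ τ : F, ∃ l : L, (l : G) ∈ T ∧ ρ l = g * uSL τ * g⁻¹ := by
    intro τ
    obtain ⟨l, hl, hρ⟩ := hS2 τ
    exact ⟨l, by rw [hT]; exact ⟨l, hl, rfl⟩, hρ⟩
  -- (A)
  have hA : ∀ s ∈ T, ∀ v ∈ V, v * s * v⁻¹ * s⁻¹ ∈ Wsub ψ g := by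
    intro s hs v hv
    obtain ⟨l, τ, rfl, hρ, _⟩ := hTpar s hs
    exact hact.comm_mem_W l τ hρ hv
  -- (B)
  have hB : ∀ s ∈ T, ∀ w ∈ Wsub ψ g, w * s = s * w := by
    intro s hs w hw
    by_cases h1 : s = 1
    · rw [h1, mul_one, one_mul]
    · obtain ⟨l, τ, rfl, hρ, hτ⟩ := hTpar s hs
      exact (hact.comm_iff_mem_W l τ (hτ h1) hρ hw.1).mpr hw
  -- (C)
  obtain ⟨s₁, hs₁T, hs₁⟩ : ∃ s₁ ∈ T, s₁ ≠ 1 := by
    obtain ⟨l, hlT, hρ⟩ := hTmem 1
    refine ⟨l, hlT, ?_⟩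
    intro h
    have hl1 : l = 1 := Subtype.ext h
    rw [hl1, map_one] at hρ
    have h2 : uSL (1 : F) = 1 := by
      have : g⁻¹ * (g * uSL (1 : F) * g⁻¹) * g = uSL 1 := by group
      rw [← this, ← hρ]; group
    rw [← uSL_zero] at h2
    exact one_ne_zero (uSL_injective h2)
  have hWT : Wsub ψ g ≤ Subgroup.centralizer (T : Set G) := by
    intro w hw
    rw [Subgroup.mem_centralizer_iff]
    intro s hs
    exact (hB s hs w hw).symm
  have hVT_le : ⁅V, T⁆ ≤ Wsub ψ g := by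
    rw [Subgroup.commutator_le]
    intro v hv s hs
    rw [commutatorElement_def]
    exact hA s hs v hv
  have hCs : ∀ s ∈ T, s ≠ 1 → V ⊓ Subgroup.centralizer ({s} : Set G) = Wsub ψ g := by
    intro s hs hs1
    obtain ⟨l, τ, rfl, hρ, hτ⟩ := hTpar s hs
    ext v
    rw [Subgroup.mem_inf, Subgroup.mem_centralizer_singleton_iff]
    constructor
    · rintro ⟨hv, hc⟩
      exact (hact.comm_iff_mem_W l τ (hτ hs1) hρ hv).mp hc
    · intro hw
      exact ⟨hw.1, (hact.comm_iff_mem_W l τ (hτ hs1) hρ hw.1).mpr hw⟩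
  have hCT : V ⊓ Subgroup.centralizer (T : Set G) = Wsub ψ g := by
    apply le_antisymm
    · rw [← hCs s₁ hs₁T hs₁]
      apply inf_le_inf_left
      apply Subgroup.centralizer_le
      intro x hx
      rw [Set.mem_singleton_iff] at hx
      rw [hx]; exact hs₁T
    · exact le_inf Wsub_le hWT
  have hge : ∀ s ∈ T, s ≠ 1 → Wsub ψ g ≤ ⁅V, Subgroup.zpowers s⁆ := by
    intro s hs hs1 w hw
    obtain ⟨l, τ, rfl, hρ, hτ⟩ := hTpar s hs
    obtain ⟨v, hv, hwv⟩ := hact.exists_comm_eq' hw l τ (hτ hs1) hρ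
    rw [hwv, ← commutatorElement_def]
    exact Subgroup.commutator_mem_commutator hv (Subgroup.mem_zpowers _)
  have hqF : Nat.card F = p ^ n := by rw [Nat.card_eq_fintype_card, hF]
  refine ⟨?_, ?_, ?_, ?_⟩
  · rw [eq_bot_iff]
    calc ⁅⁅V, T⁆, T⁆ ≤ ⁅Wsub ψ g, T⁆ := Subgroup.commutator_mono hVT_le le_rfl
      _ = ⊥ := (Subgroup.commutator_eq_bot_iff_le_centralizer).mpr hWT
  · rw [card_V ψ, hqF, ← pow_mul, mul_comm]
  · rw [hCT, card_Wsub, hqF]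
  · intro s hs hs1
    have hzle : Subgroup.zpowers s ≤ T := by rw [Subgroup.zpowers_le]; exact hs
    refine ⟨?_, ?_, ?_, ?_⟩
    · rw [hCs s hs hs1, hCT]
    · rw [hCT]
      exact le_antisymm hVT_le ((hge s hs hs1).trans (Subgroup.commutator_mono le_rfl hzle))
    · rw [hCT]
      exact le_antisymm ((Subgroup.commutator_mono le_rfl hzle).trans hVT_le) (hge s hs hs1)
    · intro v hv hvC
      rw [hCT]
      apply le_antisymm
      · rw [Subgroup.closure_le]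
        rintro x ⟨t, ht, rfl⟩
        exact hA t ht v hv
      · intro w hw
        have hφ : phi g (Psi ψ v) ≠ 0 := by
          intro h0
          exact hvC (hWT ⟨hv, h0⟩)
        obtain ⟨τ, hτ⟩ := hact.exists_comm_eq hw hv hφ
        obtain ⟨l, hlT, hρ⟩ := hTmem τ
        exact Subgroup.subset_closure ⟨l, hlT, hτ l hρ⟩

/-- Let L act on the elementary abelian p-group V (inside a finite group, by conjugation, faithfully) as SL₂(F) on its natural module, F a field with p^n elements, and let S be a Sylow p-subgroup of L. Then [V, S, S] = 1; |V| = p^(2n) and |C_V(S)| = p^n; and for every nonidentity s ∈ S and every v ∈ V outside C_V(S): C_V(s) = C_V(S) = [V, S] = [V, s] = the subgroup generated by the commutators [v, t], t ∈ S. -/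
theorem result {G : Type*} [Group G] [Finite G] {p : ℕ} [Fact p.Prime] {F : Type*} [Field F] [Fintype F] (n : ℕ) (hF : Fintype.card F = p ^ n) (V L : Subgroup G) (hnat : Cfsg.IsNaturalSL2Module F V L) (hf : L ⊓ Subgroup.centralizer (V : Set G) = ⊥) (S : Sylow p ↥L) (T : Subgroup G) (hT : T = ((S : Subgroup ↥L).map L.subtype)) : ⁅⁅V, T⁆, T⁆ = ⊥ ∧ Nat.card V = p ^ (2 * n) ∧ Nat.card ↥(V ⊓ Subgroup.centralizer ((T : Subgroup G) : Set G)) = p ^ n ∧ ∀ s ∈ T, s ≠ 1 → (V ⊓ Subgroup.centralizer ({s} : Set G)) = (V ⊓ Subgroup.centralizer ((T : Subgroup G) : Set G)) ∧ ⁅V, T⁆ = (V ⊓ Subgroup.centralizer ((T : Subgroup G) : Set G)) ∧ ⁅V, Subgroup.zpowers s⁆ = (V ⊓ Subgroup.centralizer ((T : Subgroup G) : Set G)) ∧ ∀ v ∈ V, v ∉ Subgroup.centralizer (T : Set G) → Subgroup.closure {x : G | ∃ t ∈ T, x = v * t * v⁻¹ * t⁻¹} = (V ⊓ Subgroup.centralizer ((T : Subgroup G) : Set G)) := by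
  exact main n hF V L hnat hf S T hT

end Cfsg.Agent.S2779
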