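import Cfsg.Statements.S2781
import Cfsg.Agent.Lib.H14.SylowTrace2

set_option autoImplicit false
open Cfsg

namespace Cfsg.Agent.S2781

/-- Let H act faithfully by conjugation on the elementary abelian p-subgroup V of a finite group, let O^p(H) be the subgroup of H generated by its elements of order prime to p, and T a Sylow p-subgroup of O^p(H). If V is generated by the H-conjugates of C_V(T) (V is the smallest H-invariant subgroup containing C_V(T)), then V = [V, O^p(H)]·C_V(O^p(H)). -/
theorem result {G : Type*} [Group G] [Finite G] {p : ℕ} [Fact p.Prime] (V H : Subgroup G) (hV : Cfsg.IsElementaryAbelian p V) (hHV : H ≤ Subgroup.normalizer (V : Set G)) (hf : H ⊓ Subgroup.centralizer (V : Set G) = ⊥) (R : Subgroup G) (hR : R = (Cfsg.pResidual p ↥H).map H.subtype) (S : Sylow p ↥R) (T : Subgroup G) (hT : T = ((S : Subgroup ↥R).map R.subtype)) (hgen : ∀ W : Subgroup G, H ≤ Subgroup.normalizer (W : Set G) → (V ⊓ Subgroup.centralizer ((T : Subgroup G) : Set G)) ≤ W → V ≤ W) : ⁅V, R⁆ ⊔ (V ⊓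 Subgroup.centralizer ((R : Subgroup G) : Set G)) = V := by
    subst hT
    rw [Cfsg.Agent.Lib.H14.pResidual_map_eq] at hR
    have hRH : R ≤ H := hR ▸ Cfsg.Agent.Lib.H14.presOf_le p H
    have hHR : H ≤ Subgroup.normalizer (R : Set G) := by
      rw [hR]
      exact Subgroup.le_normalizer.trans (Cfsg.Agent.Lib.H14.presOf_normalized p H)
    have hRV : R ≤ Subgroup.normalizer (V : Set G) := hRH.trans hHV
    have hWV : ⁅V, R⁆ ≤ V := Subgroup.le_normalizer_iff_commutator_le_left.mp hRV
    apply le_antisymm (sup_le hWV inf_le_left)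
    apply hgen
    · apply Cfsg.Agent.Lib.H14.le_nzr_sup H _ _
      · exact Cfsg.Agent.Lib.H14.le_nzr_commutator H V R hHV hHR
      · exact Cfsg.Agent.Lib.H14.le_nzr_inf H V _ hHV
          (hHR.trans (Cfsg.Agent.Lib.H14.nzr_le_nzr_centralizer R))
    · rintro v ⟨hvV, hvT⟩
      obtain ⟨c, hc, w, hw, n, hn, e⟩ :=
        Cfsg.Agent.Lib.H14.exists_central_mul_commutator_of_action V R hV hRV S v hvV hvT
      have hpow : v ^ n ∈ ⁅V, R⁆ ⊔ (V ⊓ Subgroup.centralizer ((R : Subgroup G) : Set G)) := by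
        rw [e]
        exact Subgroup.mul_mem _ (le_sup_right (a := ⁅V, R⁆) hc)
          (le_sup_left (b := V ⊓ Subgroup.centralizer ((R : Subgroup G) : Set G)) hw)
      have hdvd : orderOf v ∣ p := orderOf_dvd_of_pow_eq_one (hV.2 v hvV)
      obtain ⟨m, hm⟩ := exists_pow_eq_self_of_coprime (Nat.Coprime.coprime_dvd_right hdvd hn)
      rw [← hm]
      exact Subgroup.pow_mem _ hpow m

end Cfsg.Agent.S2781
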