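import Cfsg.Statements.S2795
import Mathlib
import Cfsg.Agent.S0274
import Cfsg.Agent.Lib.H1.QdStable
import Cfsg.Agent.Lib.H15.SCSections

set_option autoImplicit false
open Cfsg

namespace Cfsg.Agent.S2795

/-- For an odd prime p and a finite group G, the group Qd(p) is not involved in G if and only if every section of G is p-stable in the normalizer form (for every p-subgroup P of the section and every g in its normalizer acting quadratically on P, the image of g in N(P)/C(P) lies in O_p(N(P)/C(P))). -/
theorem result {G : Type*} [Group G] [Finite G] {p : ℕ} [Fact p.Prime] (hp : p ≠ 2) : ¬ Cfsg.Involves ↥(Cfsg.qd p) G ↔ ∀ (K R : Subgroup G) [hR : (R.subgroupOf K).Normal], Cfsg.IsNormalizerPStable p (K ⧸ R.subgroupOf K) := by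
  constructor
  · intro hfree K R hR
    apply Cfsg.Agent.Lib.H1.QdStable.isNormalizerPStable_of_not_involves_qd hp
      (Cfsg.Agent.S0274.dicksonHyp hp)
    intro h
    apply hfree
    rw [Cfsg.Agent.Lib.H26.involves_iff] at h
    obtain ⟨K', f, hf⟩ := h
    have h1 : Cfsg.Involves ↥(Cfsg.qd p) ↥K :=
      Cfsg.Agent.Lib.H26.involves_of_le_range (QuotientGroup.mk' (R.subgroupOf K)) K'
        (by rw [MonoidHom.range_eq_top.mpr (QuotientGroup.mk'_surjective _)]; exact le_top) f hf
    exact Cfsg.Agent.Lib.H26.involves_of_injective K.subtype K.subtype_injective h1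
  · intro h hinv
    obtain ⟨K, R, hR, ⟨e⟩⟩ := hinv
    have h1 := @h K R hR
    exact Cfsg.Agent.Lib.H1.QdStable.not_isNormalizerPStable_qd hp
      (Cfsg.Agent.Lib.H15.SCF.isNormalizerPStable_of_mulEquiv e h1)

end Cfsg.Agent.S2795
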