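import Cfsg.Statements.S2809


set_option autoImplicit false
open Cfsg

namespace Cfsg.Agent.S2809

open scoped commutatorElement

/-- Let H be a finite group, p a prime, R a p-subgroup of H with C_H(R) ≤ R, and L a subgroup of N_H(R) acting nilpotently on R (some iterated commutator [R, L, …, L] is trivial). Then L is a p-group. -/
theorem result {H : Type*} [Group H] [Finite H] {p : ℕ} [Fact p.Prime] (R : Subgroup H) (hR : IsPGroup p ↥R) (hC : Subgroup.centralizer (R : Set H) ≤ R) (L : Subgroup H) (hL : L ≤ Subgroup.normalizer (R : Set H)) (hnil : ∃ n : ℕ, Cfsg.iterCommutator R L n = ⊥) : IsPGroup p ↥L := by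
  obtain ⟨n, hn⟩ := hnil
  -- all terms of the chain lie in R
  have hle : ∀ i, Cfsg.iterCommutator R L i ≤ R := by
    intro i
    induction i with
    | zero => exact le_rfl
    | succ i ih =>
      show ⁅Cfsg.iterCommutator R L i, L⁆ ≤ R
      exact (Subgroup.commutator_mono ih le_rfl).trans
        ((Subgroup.le_normalizer_iff_commutator_le_left).mp hL)
  -- a p'-element of L centralizes every term, by downward induction
  have hcent : ∀ x ∈ L, (orderOf x).Coprime p → ∀ k i, i + k = n →
      ∀ r ∈ Cfsg.iterCommutator R L i, r * x = x * r := by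
    intro x hxL hxp k
    induction k with
    | zero =>
      intro i hi r hr
      have : i = n := by omega
      rw [this, hn, Subgroup.mem_bot] at hr
      rw [hr]; simp
    | succ k ih =>
      intro i hi r hr
      have hc_mem : ⁅r, x⁆ ∈ Cfsg.iterCommutator R L (i + 1) :=
        Subgroup.commutator_mem_commutator hr hxL
      have hcx : Commute ⁅r, x⁆ x := ih (i + 1) (by omega) _ hc_mem
      have e : r * x * r⁻¹ = ⁅r, x⁆ * x := by rw [commutatorElement_def]; group
      have h1 : (r * x * r⁻¹) ^ (orderOf x) = 1 := by rw [conj_pow, pow_orderOf_eq_one]; simp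
      rw [e, hcx.mul_pow, pow_orderOf_eq_one, mul_one] at h1
      obtain ⟨j, hj⟩ := hR ⟨⁅r, x⁆, hle (i + 1) hc_mem⟩
      have hj' : ⁅r, x⁆ ^ (p ^ j) = 1 := by simpa using congrArg Subtype.val hj
      have h2 := pow_gcd_eq_one.mpr ⟨h1, hj'⟩
      have hcop : Nat.gcd (orderOf x) (p ^ j) = 1 := Nat.Coprime.pow_right j hxp
      rw [hcop, pow_one] at h2
      rw [commutatorElement_eq_one_iff_mul_comm] at h2
      exact h2
  -- hence a p'-element of L is trivial
  have htriv : ∀ x ∈ L, (orderOf x).Coprime p → x = 1 := by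
    intro x hxL hxp
    have hxC : x ∈ Subgroup.centralizer (R : Set H) := by
      rw [Subgroup.mem_centralizer_iff]
      intro r hr
      exact hcent x hxL hxp n 0 (by omega) r hr
    obtain ⟨j, hj⟩ := hR ⟨x, hC hxC⟩
    have hj' : x ^ (p ^ j) = 1 := by simpa using congrArg Subtype.val hj
    have h2 := pow_gcd_eq_one.mpr ⟨pow_orderOf_eq_one x, hj'⟩
    have hcop : Nat.gcd (orderOf x) (p ^ j) = 1 := Nat.Coprime.pow_right j hxp
    rwa [hcop, pow_one] at h2
  rintro ⟨g, hg⟩
  have hpos : 0 < orderOf g := orderOf_pos g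
  obtain ⟨e, m, hm, hom⟩ := Nat.exists_eq_pow_mul_and_not_dvd hpos.ne' p (Fact.out : p.Prime).ne_one
  refine ⟨e, Subtype.ext ?_⟩
  simp only [Subgroup.coe_pow, Subgroup.coe_one]
  apply htriv _ (L.pow_mem hg _)
  have hpe : p ^ e ≠ 0 := pow_ne_zero _ (Fact.out : p.Prime).ne_zero
  rw [orderOf_pow' g hpe, hom, Nat.gcd_eq_right (Dvd.intro _ rfl), Nat.mul_div_cancel_left _ (Nat.pos_of_ne_zero hpe)]
  exact (Nat.Coprime.symm ((Fact.out : p.Prime).coprime_iff_not_dvd.mpr hm))

end Cfsg.Agent.S2809
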