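import Cfsg.Statements.S2810
import Cfsg.Agent.Lib.H14.Comm
import Cfsg.Agent.S2809

set_option autoImplicit false
open Cfsg

namespace Cfsg.Agent.S2810

open scoped commutatorElement

/-- Let H be a finite group of characteristic p and L a subgroup of H centralizing every factor of some H-invariant chain 1 = A₀ ≤ A₁ ≤ … ≤ Aₙ = O_p(H) of normal subgroups (that is, [A_{i+1}, L] ≤ Aᵢ for each i). Then L ≤ O_p(H). -/
theorem result {H : Type*} [Group H] [Finite H] {p : ℕ} [Fact p.Prime] (hchar : Subgroup.centralizer (Cfsg.pCore p H : Set H) ≤ Cfsg.pCore p H) (L : Subgroup H) (n : ℕ) (A : Fin (n + 1) → Subgroup H) (h0 : A 0 = ⊥) (hn : A (Fin.last n) = Cfsg.pCore p H) (hmono : Monotone A) (hnorm : ∀ i, (A i).Normal) (hcent : ∀ i : Fin n, ⁅A i.succ, L⁆ ≤ A i.castSucc) : L ≤ Cfsg.pCore p H := by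
  -- the subgroup of elements centralizing all factors
  let C : Subgroup H :=
    { carrier := {g | ∀ i : Fin n, ∀ a ∈ A i.succ, ⁅a, g⁆ ∈ A i.castSucc}
      one_mem' := by
        intro i a _
        rw [commutatorElement_one_right]; exact (A i.castSucc).one_mem
      mul_mem' := by
        intro g h hg hh i a ha
        have e : ⁅a, g * h⁆ = ⁅a, g⁆ * (g * ⁅a, h⁆ * g⁻¹) := by
          simp only [commutatorElement_def]; group
        rw [e]
        exact (A i.castSucc).mul_mem (hg i a ha) ((hnorm i.castSucc).conj_mem _ (hh i a ha) g)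
      inv_mem' := by
        intro g hg i a ha
        have e : ⁅a, g⁻¹⁆ = g⁻¹ * (⁅a, g⁆)⁻¹ * g⁻¹⁻¹ := by
          simp only [commutatorElement_def]; group
        rw [e]
        exact (hnorm i.castSucc).conj_mem _ ((A i.castSucc).inv_mem (hg i a ha)) g⁻¹ }
  have hCmem : ∀ g, g ∈ C ↔ ∀ i : Fin n, ∀ a ∈ A i.succ, ⁅a, g⁆ ∈ A i.castSucc := fun g => Iff.rfl
  have hCnormal : C.Normal := by
    constructor
    intro g hg h i a ha
    have e : ⁅a, h * g * h⁻¹⁆ = h * ⁅h⁻¹ * a * h⁻¹⁻¹, g⁆ * h⁻¹ := by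
      simp only [commutatorElement_def]; group
    rw [e]
    exact (hnorm i.castSucc).conj_mem _ (hg i _ ((hnorm i.succ).conj_mem a ha h⁻¹)) h
  have hLC : L ≤ C := by
    intro g hg i a ha
    exact hcent i (Subgroup.commutator_mem_commutator ha hg)
  -- nilpotent action
  have hQn : (Cfsg.pCore p H).Normal := Cfsg.Agent.Lib.H14.pCore_normal
  have hchain : ∀ k (hk : k ≤ n), Cfsg.iterCommutator (Cfsg.pCore p H) C k ≤ A ⟨n - k, by omega⟩ := by
    intro k
    induction k with
    | zero =>
      intro _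
      show Cfsg.pCore p H ≤ _
      rw [← hn]; exact le_of_eq (congrArg A (Fin.ext (by simp)))
    | succ k ih =>
      intro hk
      have ih' := ih (by omega)
      show ⁅Cfsg.iterCommutator (Cfsg.pCore p H) C k, C⁆ ≤ _
      refine (Subgroup.commutator_mono ih' le_rfl).trans ?_
      rw [Subgroup.commutator_le]
      intro a ha g hg
      have := hg ⟨n - (k + 1), by omega⟩ a (by
        have e : (⟨n - (k + 1), by omega⟩ : Fin n).succ = (⟨n - k, by omega⟩ : Fin (n + 1)) :=
          Fin.ext (by simp; omega)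
        rw [e]; exact ha)
      exact this
  have hnil : ∃ m : ℕ, Cfsg.iterCommutator (Cfsg.pCore p H) C m = ⊥ := by
    refine ⟨n, le_bot_iff.mp ?_⟩
    have := hchain n le_rfl
    rw [← h0]
    refine this.trans (le_of_eq (congrArg A (Fin.ext (by simp))))
  have hCp : IsPGroup p C :=
    Cfsg.Agent.S2809.result (Cfsg.pCore p H) Cfsg.Agent.Lib.H14.pCore_isPGroup hchar C
      (by rw [Subgroup.normalizer_eq_top]; exact le_top) hnil
  have : C ≤ Cfsg.pCore p H := by
    unfold Cfsg.pCore
    exact le_sSup ⟨hCnormal, hCp⟩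
  exact hLC.trans this

end Cfsg.Agent.S2810
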