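import Cfsg.Statements.S2813
import Cfsg.Agent.Lib.H14.Comm

set_option autoImplicit false
open Cfsg

namespace Cfsg.Agent.S2813

open scoped commutatorElement

/-- Let K be a subgroup of the finite group H with O_p(K) = 1 and Y a p-subgroup of N_H(K) with [K, Y, Y] = 1. Then [K, Y] = 1. -/
theorem result {H : Type*} [Group H] [Finite H] {p : ℕ} [Fact p.Prime] (K : Subgroup H) (hO : Cfsg.pCore p ↥K = ⊥) (Y : Subgroup H) (hY : IsPGroup p ↥Y) (hYK : Y ≤ Subgroup.normalizer (K : Set H)) (hq : ⁅⁅K, Y⁆, Y⁆ = ⊥) : ⁅K, Y⁆ = ⊥ := by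
  set A := ⁅K, Y⁆ with hA
  have hAK : A ≤ K := (Subgroup.le_normalizer_iff_commutator_le_left).mp hYK
  have hKA : K ≤ Subgroup.normalizer (A : Set H) := Subgroup.normalizer_commutator_ge_left K Y
  -- three subgroups lemma: [A, A] = ⊥
  have h1 : ⁅⁅Y, A⁆, K⁆ = ⊥ := by
    rw [Subgroup.commutator_comm Y A, hq, Subgroup.commutator_bot_left]
  have h2 : ⁅⁅A, K⁆, Y⁆ = ⊥ := by
    have : ⁅A, K⁆ ≤ A := (Subgroup.le_normalizer_iff_commutator_le_left).mp hKA
    exact le_bot_iff.mp (hq ▸ Subgroup.commutator_mono this le_rfl)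
  have h3 : ⁅A, A⁆ = ⊥ := Subgroup.commutator_commutator_eq_bot_of_rotate h1 h2
  have hcomm : ∀ x ∈ A, ∀ y ∈ A, x * y = y * x := by
    intro x hx y hy
    have := (Subgroup.commutator_eq_bot_iff_le_centralizer.mp h3) hx
    rw [Subgroup.mem_centralizer_iff] at this
    exact (this y hy).symm
  -- generators have p-power order
  have hgen : ∀ x ∈ {g : H | ∃ g₁ ∈ K, ∃ g₂ ∈ Y, ⁅g₁, g₂⁆ = g}, ∃ j : ℕ, x ^ (p ^ j) = 1 := by
    rintro _ ⟨k, hk, y, hy, rfl⟩
    obtain ⟨j, hj⟩ := hY ⟨y, hy⟩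
    have hj' : y ^ (p ^ j) = 1 := by simpa using congrArg Subtype.val hj
    refine ⟨j, ?_⟩
    have hc : Commute ⁅k, y⁆ y := by
      have hmem : ⁅k, y⁆ ∈ A := Subgroup.commutator_mem_commutator hk hy
      have := (Subgroup.commutator_eq_bot_iff_le_centralizer.mp hq) hmem
      rw [Subgroup.mem_centralizer_iff] at this
      exact (this y hy).symm
    have e : k * y * k⁻¹ = ⁅k, y⁆ * y := by rw [commutatorElement_def]; group
    have : (k * y * k⁻¹) ^ (p ^ j) = 1 := by rw [conj_pow, hj']; simp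
    rw [e, hc.mul_pow, hj', mul_one] at this
    exact this
  have hAp : IsPGroup p A := by
    rw [hA, Subgroup.commutator_def]
    apply Cfsg.Agent.Lib.H14.isPGroup_closure_of_comm p _ hgen
    rw [← Subgroup.commutator_def]
    exact hcomm
  exact Cfsg.Agent.Lib.H14.eq_bot_of_pCore_eq_bot p K A hO hAK hKA hAp

end Cfsg.Agent.S2813
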