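import Cfsg.Statements.S2814
import Cfsg.Agent.Lib.H14.SubnClosure

set_option autoImplicit false
open Cfsg

namespace Cfsg.Agent.S2814

open Cfsg.Agent.Lib.H14 in
theorem eq_top_of_subnormal {H : Type*} [Group H] [Finite H] (A K : Subgroup H)
    (hK : K = Cfsg.subnormalClosure A) (B : Subgroup ↥K) (hB : B.IsSubnormal)
    (hAB : A.subgroupOf K ≤ B) : B = ⊤ := by
  have hKs : K.IsSubnormal := hK ▸ subnormalClosure_isSubnormal A
  have hAK : A ≤ K := hK ▸ le_subnormalClosure A
  have h1 : (B.map K.subtype).IsSubnormal := hB.trans' hKs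
  have h2 : A ≤ B.map K.subtype := by
    intro a ha
    exact ⟨⟨a, hAK ha⟩, hAB ha, rfl⟩
  have h3 : K ≤ B.map K.subtype := by
    have := subnormalClosure_le A _ h1 h2
    rw [← hK] at this
    exact this
  rw [eq_top_iff]
  intro x _
  obtain ⟨y, hy, hxy⟩ := h3 x.2
  have : y = x := Subtype.ext hxy
  rw [← this]; exact hy

/-- Let A be a subgroup of the finite group H and K the subnormal closure of A (intersection of the subnormal subgroups containing A). Then K is the normal closure of A inside K and N_H(A) ≤ N_H(K); K = A·O^p(K), O^p(K) being generated by the elements of K of order prime to p; and if A is a p-group, O^p(K) = [O^p(K), A]. -/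
theorem result {H : Type*} [Group H] [Finite H] {p : ℕ} [Fact p.Prime] (A : Subgroup H) (K : Subgroup H) (hK : K = Cfsg.subnormalClosure A) : (Subgroup.normalClosure ((A.subgroupOf K : Subgroup ↥K) : Set ↥K)).map K.subtype = K ∧ Subgroup.normalizer (A : Set H) ≤ Subgroup.normalizer (K : Set H) ∧ A ⊔ (Cfsg.pResidual p ↥K).map K.subtype = K ∧ (IsPGroup p ↥A → ⁅(Cfsg.pResidual p ↥K).map K.subtype, A⁆ = (Cfsg.pResidual p ↥K).map K.subtype) := by
  have hKs : K.IsSubnormal := hK ▸ Cfsg.Agent.Lib.H14.subnormalClosure_isSubnormal A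
  have hAK : A ≤ K := hK ▸ Cfsg.Agent.Lib.H14.le_subnormalClosure A
  have hRn : (Cfsg.pResidual p ↥K).Normal := Cfsg.Agent.Lib.H14.pResidual_normal'
  have htop : (⊤ : Subgroup ↥K).map K.subtype = K := by
    rw [← MonoidHom.range_eq_map, Subgroup.range_subtype]
  have hc : A.subgroupOf K ⊔ Cfsg.pResidual p ↥K = ⊤ :=
    eq_top_of_subnormal A K hK _ (Cfsg.Agent.Lib.H14.isSubnormal_of_pResidual_le _ le_sup_right)
      le_sup_left
  refine ⟨?_, ?_, ?_, ?_⟩
  · rw [eq_top_of_subnormal A K hK _ (Subgroup.normalClosure_normal.isSubnormal)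
      Subgroup.le_normalClosure, htop]
  · intro g hg
    have key : ∀ g : H, g ∈ Subgroup.normalizer (A : Set H) →
        K ≤ K.map (MulAut.conj g).toMonoidHom := by
      intro g hg
      have h1 : (K.map (MulAut.conj g).toMonoidHom).IsSubnormal :=
        hKs.map (MulAut.conj g).surjective
      have h2 : A ≤ K.map (MulAut.conj g).toMonoidHom := by
        rw [← Cfsg.Agent.Lib.H14.map_conj_eq_of_mem_nzr A g hg]
        exact Subgroup.map_mono hAK
      have := Cfsg.Agent.Lib.H14.subnormalClosure_le A _ h1 h2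
      rw [← hK] at this
      exact this
    apply Cfsg.Agent.Lib.H14.mem_nzr_of_map_conj_eq
    apply le_antisymm _ (key g hg)
    have h3 := Subgroup.map_mono (f := (MulAut.conj g).toMonoidHom)
      (key g⁻¹ (Subgroup.inv_mem _ hg))
    have e : (K.map (MulAut.conj g⁻¹).toMonoidHom).map (MulAut.conj g).toMonoidHom = K := by
      have := Cfsg.Agent.Lib.H14.map_conj_conj_inv K g⁻¹
      rw [inv_inv] at this
      exact this
    rw [e] at h3
    exact h3
  · have h1 := congrArg (Subgroup.map K.subtype) hc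
    rw [Subgroup.map_sup, Subgroup.map_subgroupOf_eq_of_le hAK, htop] at h1
    exact h1
  · intro hAp
    have hA'p : IsPGroup p ↥(A.subgroupOf K) := hAp.comap_subtype
    have hRA : Cfsg.pResidual p ↥K ⊔ A.subgroupOf K = ⊤ := by rw [sup_comm]; exact hc
    have hCn : (⁅Cfsg.pResidual p ↥K, A.subgroupOf K⁆).Normal :=
      Cfsg.Agent.Lib.H14.normal_of_sup_le_nzr _ _ _ hRA
        (Subgroup.normalizer_commutator_ge_left _ _) (Subgroup.normalizer_commutator_ge_right _ _)
    have hACn : (A.subgroupOf K ⊔ ⁅Cfsg.pResidual p ↥K, A.subgroupOf K⁆).Normal :=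
      Cfsg.Agent.Lib.H14.normal_of_sup_le_nzr _ _ _ hRA
        (Cfsg.Agent.Lib.H14.le_nzr_sup_of_commutator_le _ _ _ le_rfl Subgroup.le_normalizer_of_normal)
        (Cfsg.Agent.Lib.H14.le_nzr_sup _ _ _ Subgroup.le_normalizer Subgroup.le_normalizer_of_normal)
    have hAC : ⁅Cfsg.pResidual p ↥K, A.subgroupOf K⁆ ⊔ A.subgroupOf K = ⊤ := by
      rw [sup_comm]
      exact eq_top_of_subnormal A K hK _ hACn.isSubnormal le_sup_left
    have hR := Cfsg.Agent.Lib.H14.pResidual_le_of_sup_eq_top _ _ hA'p hAC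
    have h2 : ⁅Cfsg.pResidual p ↥K, A.subgroupOf K⁆ = Cfsg.pResidual p ↥K :=
      le_antisymm (Subgroup.commutator_le_left _ _) hR
    have h3 := congrArg (Subgroup.map K.subtype) h2
    rw [Subgroup.map_commutator, Subgroup.map_subgroupOf_eq_of_le hAK] at h3
    exact h3

end Cfsg.Agent.S2814
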