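import Cfsg.Statements.S2818
import Cfsg.Agent.Lib.H14.OmegaOne

set_option autoImplicit false
open Cfsg

namespace Cfsg.Agent.S2818

open scoped commutatorElement

/-- Let P be a finite p-subgroup of a group G and H a subgroup of N_G(P) with [P, H] ≤ Ω₁(Z(P)) (the elements of order dividing p in the centre of P). Then H centralizes the Frattini subgroup of P. -/
theorem result {G : Type*} [Group G] [Finite G] {p : ℕ} [Fact p.Prime] (P : Subgroup G) (hP : IsPGroup p ↥P) (H : Subgroup G) (hH : H ≤ Subgroup.normalizer (P : Set G)) (h : ⁅P, H⁆ ≤ Cfsg.omegaOne p (P ⊓ Subgroup.centralizer (P : Set G))) : ⁅(frattini ↥P).map P.subtype, H⁆ = ⊥ := by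
  have hPH := h
  rw [Subgroup.commutator_eq_bot_iff_le_centralizer]
  intro f hf
  rw [Subgroup.mem_centralizer_iff]
  intro h hh
  obtain ⟨f', hf', rfl⟩ := hf
  -- conjugation by h on P: h x h⁻¹ = w x with w central of exponent p
  have hw : ∀ x ∈ P, ∃ w : G, h * x * h⁻¹ = w * x ∧ w ∈ P ∧ (∀ g ∈ P, g * w = w * g) ∧ w ^ p = 1 := by
    intro x hx
    have hmem : ⁅x, h⁆ ∈ Cfsg.omegaOne p (P ⊓ Subgroup.centralizer (P : Set G)) :=
      hPH (Subgroup.commutator_mem_commutator hx hh)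
    obtain ⟨z1, z2, z3⟩ := Cfsg.Agent.Lib.H14.mem_oz_props p P _ hmem
    refine ⟨(⁅x, h⁆)⁻¹, ?_, P.inv_mem z1, ?_, by rw [inv_pow, z3, inv_one]⟩
    · rw [commutatorElement_def]; group
    · intro g hg
      have := z2 g hg
      calc g * (⁅x, h⁆)⁻¹ = (⁅x, h⁆)⁻¹ * (⁅x, h⁆ * g) * (⁅x, h⁆)⁻¹ := by group
        _ = (⁅x, h⁆)⁻¹ * (g * ⁅x, h⁆) * (⁅x, h⁆)⁻¹ := by rw [this]
        _ = (⁅x, h⁆)⁻¹ * g := by group
  -- the centralizer of h in P as a subgroup of ↥P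
  let K : Subgroup ↥P :=
    { carrier := {x | h * (x : G) = (x : G) * h}
      one_mem' := by simp
      mul_mem' := by
        intro a b ha hb
        simp only [Set.mem_ofPred_eq, Subgroup.coe_mul] at *
        rw [← mul_assoc, ha, mul_assoc, hb, mul_assoc]
      inv_mem' := by
        intro a ha
        simp only [Set.mem_ofPred_eq, InvMemClass.coe_inv] at *
        calc h * (a : G)⁻¹ = (a : G)⁻¹ * ((a : G) * h) * (a : G)⁻¹ := by group
          _ = (a : G)⁻¹ * (h * (a : G)) * (a : G)⁻¹ := by rw [ha]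
          _ = (a : G)⁻¹ * h := by group }
  have hKmem : ∀ x : ↥P, x ∈ K ↔ h * (x : G) = (x : G) * h := fun x => Iff.rfl
  have hfix_iff : ∀ y : G, h * y = y * h ↔ h * y * h⁻¹ = y := by
    intro y
    constructor
    · intro e; rw [e]; group
    · intro e; calc h * y = h * y * h⁻¹ * h := by group
        _ = y * h := by rw [e]
  have hK1 : commutator ↥P ≤ K := by
    rw [commutator_eq_closure, Subgroup.closure_le]
    rintro _ ⟨x, y, rfl⟩
    rw [SetLike.mem_coe, hKmem, hfix_iff]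
    obtain ⟨wx, ex, hwxP, hwxc, _⟩ := hw x x.2
    obtain ⟨wy, ey, hwyP, hwyc, _⟩ := hw y y.2
    have : h * ((⁅x, y⁆ : ↥P) : G) * h⁻¹ = ⁅h * (x : G) * h⁻¹, h * (y : G) * h⁻¹⁆ := by
      simp only [commutatorElement_def, Subgroup.coe_mul, InvMemClass.coe_inv]; group
    rw [this, ex, ey]
    simp only [commutatorElement_def, Subgroup.coe_mul, InvMemClass.coe_inv]
    have c2 := hwyc (x : G) x.2
    have c3 := hwxc wy hwyP
    have hxyx : (x : G) * y * (x : G)⁻¹ ∈ P := P.mul_mem (P.mul_mem x.2 y.2) (P.inv_mem x.2)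
    have c4 := hwxc _ hxyx
    have c5 := hwyc _ hxyx
    have c6 := hwyc _ (P.inv_mem y.2)
    have i1 : ∀ a b : G, a * b = b * a → a * b⁻¹ = b⁻¹ * a := by
      intro a b hab
      calc a * b⁻¹ = b⁻¹ * (b * a) * b⁻¹ := by group
        _ = b⁻¹ * (a * b) * b⁻¹ := by rw [hab]
        _ = b⁻¹ * a := by group
    calc wx * ↑x * (wy * ↑y) * (wx * ↑x)⁻¹ * (wy * ↑y)⁻¹
        = wx * (↑x * wy) * ↑y * (↑x)⁻¹ * wx⁻¹ * (↑y)⁻¹ * wy⁻¹ := by group
      _ = wx * (wy * ↑x) * ↑y * (↑x)⁻¹ * wx⁻¹ * (↑y)⁻¹ * wy⁻¹ := by rw [c2]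
      _ = wx * (wy * (↑x * ↑y * (↑x)⁻¹)) * wx⁻¹ * (↑y)⁻¹ * wy⁻¹ := by group
      _ = wx * ((↑x * ↑y * (↑x)⁻¹) * wy) * wx⁻¹ * (↑y)⁻¹ * wy⁻¹ := by rw [c5]
      _ = (wx * (↑x * ↑y * (↑x)⁻¹)) * (wy * wx⁻¹) * (↑y)⁻¹ * wy⁻¹ := by group
      _ = ((↑x * ↑y * (↑x)⁻¹) * wx) * (wx⁻¹ * wy) * (↑y)⁻¹ * wy⁻¹ := by
          rw [c4, i1 wy wx c3]
      _ = (↑x * ↑y * (↑x)⁻¹) * (wy * (↑y)⁻¹) * wy⁻¹ := by group
      _ = (↑x * ↑y * (↑x)⁻¹) * ((↑y)⁻¹ * wy) * wy⁻¹ := by rw [← c6]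
      _ = ↑x * ↑y * (↑x)⁻¹ * (↑y)⁻¹ := by group
  have hK2 : ∀ x : ↥P, x ^ p ∈ K := by
    intro x
    rw [hKmem, hfix_iff]
    obtain ⟨wx, ex, hwxP, hwxc, hwxp⟩ := hw x x.2
    have hc : Commute wx (x : G) := (hwxc (x : G) x.2).symm
    calc h * ((x ^ p : ↥P) : G) * h⁻¹ = (h * (x : G) * h⁻¹) ^ p := by
          rw [conj_pow]; simp
      _ = (wx * (x : G)) ^ p := by rw [ex]
      _ = ((x ^ p : ↥P) : G) := by rw [hc.mul_pow, hwxp, one_mul]; simp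
  have := Cfsg.Agent.Lib.H14.frattini_le_of_comm_pow p K hK1 hK2 hf'
  exact this

end Cfsg.Agent.S2818
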