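import Cfsg.Statements.S2819
import Cfsg.Agent.Lib.H14.OmegaOne

set_option autoImplicit false
open Cfsg

namespace Cfsg.Agent.S2819

open scoped commutatorElement

/-- conjugation by an element of the normalizer, as an automorphism of the subgroup -/
def conjEquiv {G : Type*} [Group G] (P : Subgroup G) (h : G) (hh : h ∈ Subgroup.normalizer (P : Set G)) :
    ↥P ≃* ↥P where
  toFun x := ⟨h * x * h⁻¹, (Subgroup.mem_normalizer_iff.mp hh x).mp x.2⟩
  invFun x := ⟨h⁻¹ * x * h, by
    have := (Subgroup.mem_normalizer_iff.mp hh (h⁻¹ * x * h)).mpr (by simpa [mul_assoc] using x.2)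
    exact this⟩
  left_inv x := Subtype.ext (by simp [mul_assoc])
  right_inv x := Subtype.ext (by simp [mul_assoc])
  map_mul' x y := Subtype.ext (by simp [mul_assoc])

theorem frattini_conj_mem {G : Type*} [Group G] (P : Subgroup G) (h : G)
    (hh : h ∈ Subgroup.normalizer (P : Set G)) (f : G) (hf : f ∈ (frattini ↥P).map P.subtype) :
    h * f * h⁻¹ ∈ (frattini ↥P).map P.subtype := by
  obtain ⟨f', hf', rfl⟩ := hf
  have hchar : (frattini ↥P).Characteristic := inferInstance
  have := hchar.fixed (conjEquiv P h hh).symm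
  have h2 : conjEquiv P h hh f' ∈ frattini ↥P := by
    rw [← this, Subgroup.mem_comap]
    simpa using hf'
  exact ⟨_, h2, rfl⟩

theorem comm_conj_mem {G : Type*} [Group G] (P : Subgroup G) (h : G)
    (hh : h ∈ Subgroup.normalizer (P : Set G)) (d : G) (hd : d ∈ ⁅P, P⁆) :
    h * d * h⁻¹ ∈ ⁅P, P⁆ := by
  have key : ⁅P, P⁆ ≤ (⁅P, P⁆).comap (MulAut.conj h).toMonoidHom := by
    rw [Subgroup.commutator_le]
    intro a ha b hb
    show (MulAut.conj h) ⁅a, b⁆ ∈ ⁅P, P⁆
    rw [map_commutatorElement]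
    apply Subgroup.commutator_mem_commutator
    · exact (Subgroup.mem_normalizer_iff.mp hh a).mp ha
    · exact (Subgroup.mem_normalizer_iff.mp hh b).mp hb
  have := key hd
  simpa [MulAut.conj_apply] using this

/-- Let P be a finite p-subgroup of a group G, H a subgroup of N_G(P), and Y a subgroup of H centralizing the derived subgroup P' such that [P, Y] is elementary abelian. Then O^p(⟨Y^H⟩), the subgroup of the normal closure of Y in H generated by its elements of order prime to p, centralizes the Frattini subgroup of P. -/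
theorem result {G : Type*} [Group G] [Finite G] {p : ℕ} [Fact p.Prime] (P : Subgroup G) (hP : IsPGroup p ↥P) (H : Subgroup G) (hH : H ≤ Subgroup.normalizer (P : Set G)) (Y : Subgroup G) (hYH : Y ≤ H) (hYc : Y ≤ Subgroup.centralizer ((⁅P, P⁆ : Subgroup G) : Set G)) (hel : Cfsg.IsElementaryAbelian p ⁅P, Y⁆) (NY : Subgroup G) (hNY : NY = (Subgroup.normalClosure ((Y.subgroupOf H : Subgroup ↥H) : Set ↥H)).map H.subtype) : (Cfsg.pResidual p ↥NY).map NY.subtype ≤ Subgroup.centralizer (((frattini ↥P).map P.subtype : Subgroup G) : Set G) := by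
  set D : Subgroup G := ⁅P, P⁆ with hD
  set Φ : Subgroup G := (frattini ↥P).map P.subtype with hΦ
  have hDP : D ≤ P := Subgroup.commutator_le_self P
  have hΦP : Φ ≤ P := Subgroup.map_subtype_le _
  have hYN : Y ≤ Subgroup.normalizer (P : Set G) := hYH.trans hH
  have hPY_le : ⁅P, Y⁆ ≤ P := (Subgroup.le_normalizer_iff_commutator_le_left).mp hYN
  -- step (i): for y ∈ Y, x ∈ P : ⁅x^n, y⁆ * (⁅x, y⁆^n)⁻¹ ∈ D
  have hpow : ∀ y ∈ Y, ∀ x ∈ P, ∀ n : ℕ, ⁅x ^ n, y⁆ * (⁅x, y⁆ ^ n)⁻¹ ∈ D := by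
    intro y hy x hx n
    induction n with
    | zero => simp
    | succ n ih =>
      set c := ⁅x, y⁆ with hc
      set e := ⁅x ^ n, y⁆ with he
      have heP : e ∈ P := hPY_le (Subgroup.commutator_mem_commutator (P.pow_mem hx n) hy)
      have e1 : ⁅x ^ (n + 1), y⁆ * (c ^ (n + 1))⁻¹ = ⁅x, e⁆ * (e * (c ^ n)⁻¹) := by
        rw [pow_succ' x n, pow_succ c n, he, hc]
        simp only [commutatorElement_def]; group
      rw [e1]
      exact D.mul_mem (Subgroup.commutator_mem_commutator hx heP) ih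
  -- K_y contains Frattini
  have hΦD : ∀ y ∈ Y, ∀ f ∈ Φ, ⁅f, y⁆ ∈ D := by
    intro y hy
    have hycent : ∀ d ∈ D, d * y = y * d := by
      intro d hd
      have := Subgroup.mem_centralizer_iff.mp (hYc hy) d hd
      exact this
    have hyN := hYN hy
    let K : Subgroup ↥P :=
      { carrier := {x | ⁅(x : G), y⁆ ∈ D}
        one_mem' := by simp
        mul_mem' := by
          intro a b ha hb
          simp only [Set.mem_ofPred_eq, Subgroup.coe_mul] at *
          have e : ⁅(a : G) * b, y⁆ = (a : G) * ⁅(b : G), y⁆ * (a : G)⁻¹ * ⁅(a : G), y⁆ := by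
            simp only [commutatorElement_def]; group
          rw [e]
          refine D.mul_mem ?_ ha
          exact comm_conj_mem P a (Subgroup.le_normalizer a.2) _ hb
        inv_mem' := by
          intro a ha
          simp only [Set.mem_ofPred_eq, InvMemClass.coe_inv] at *
          have e : ⁅(a : G)⁻¹, y⁆ = (a : G)⁻¹ * (⁅(a : G), y⁆)⁻¹ * (a : G)⁻¹⁻¹ := by
            simp only [commutatorElement_def]; group
          rw [e]
          exact comm_conj_mem P _ (Subgroup.le_normalizer (P.inv_mem a.2)) _ (D.inv_mem ha) }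
    have hK1 : commutator ↥P ≤ K := by
      intro z hz
      show ⁅(z : G), y⁆ ∈ D
      have hzD : (z : G) ∈ D := by
        rw [hD, ← Subgroup.map_subtype_commutator]
        exact ⟨z, hz, rfl⟩
      have : ⁅(z : G), y⁆ = 1 := by
        rw [commutatorElement_eq_one_iff_mul_comm]; exact hycent _ hzD
      rw [this]; exact D.one_mem
    have hK2 : ∀ x : ↥P, x ^ p ∈ K := by
      intro x
      show ⁅((x ^ p : ↥P) : G), y⁆ ∈ D
      have h1 := hpow y hy x x.2 p
      have hc : ⁅(x : G), y⁆ ^ p = 1 := hel.2 _ (Subgroup.commutator_mem_commutator x.2 hy)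
      rw [hc, inv_one, mul_one] at h1
      simpa using h1
    have hfr := Cfsg.Agent.Lib.H14.frattini_le_of_comm_pow p K hK1 hK2
    rintro f ⟨f', hf', rfl⟩
    exact hfr hf'
  -- the chain stabilizer
  let C : Subgroup G :=
    { carrier := {g | (∀ f ∈ Φ, ⁅f, g⁆ ∈ D) ∧ (∀ d ∈ D, d * g = g * d)}
      one_mem' := by
        refine ⟨fun f _ => ?_, fun d _ => by simp⟩
        rw [commutatorElement_one_right]; exact D.one_mem
      mul_mem' := by
        rintro g k ⟨hg1, hg2⟩ ⟨hk1, hk2⟩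
        refine ⟨fun f hf => ?_, fun d hd => ?_⟩
        · have e : ⁅f, g * k⁆ = ⁅f, g⁆ * (g * ⁅f, k⁆ * g⁻¹) := by
            simp only [commutatorElement_def]; group
          have e2 : g * ⁅f, k⁆ * g⁻¹ = ⁅f, k⁆ := by
            rw [← hg2 _ (hk1 f hf)]; group
          rw [e, e2]
          exact D.mul_mem (hg1 f hf) (hk1 f hf)
        · rw [← mul_assoc, hg2 d hd, mul_assoc, hk2 d hd, mul_assoc]
      inv_mem' := by
        rintro g ⟨hg1, hg2⟩
        have hinv : ∀ d ∈ D, d * g⁻¹ = g⁻¹ * d := by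
          intro d hd
          calc d * g⁻¹ = g⁻¹ * (g * d) * g⁻¹ := by group
            _ = g⁻¹ * (d * g) * g⁻¹ := by rw [hg2 d hd]
            _ = g⁻¹ * d := by group
        refine ⟨fun f hf => ?_, hinv⟩
        have e : ⁅f, g⁻¹⁆ = g⁻¹ * (⁅f, g⁆)⁻¹ * g := by
          simp only [commutatorElement_def]; group
        rw [e, ← hinv _ (D.inv_mem (hg1 f hf))]
        simpa using D.inv_mem (hg1 f hf) }
  have hCmem : ∀ g, g ∈ C ↔ (∀ f ∈ Φ, ⁅f, g⁆ ∈ D) ∧ (∀ d ∈ D, d * g = g * d) := fun g => Iff.rfl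
  have hYC : Y ≤ C := by
    intro y hy
    refine ⟨hΦD y hy, fun d hd => ?_⟩
    exact Subgroup.mem_centralizer_iff.mp (hYc hy) d hd
  -- C is normalized by H
  have hCH : ∀ h ∈ H, ∀ g ∈ C, h * g * h⁻¹ ∈ C := by
    intro h hh g ⟨hg1, hg2⟩
    have hhN := hH hh
    have hhN' : h⁻¹ ∈ Subgroup.normalizer (P : Set G) := (Subgroup.normalizer (P : Set G)).inv_mem hhN
    refine ⟨fun f hf => ?_, fun d hd => ?_⟩
    · have e : ⁅f, h * g * h⁻¹⁆ = h * ⁅h⁻¹ * f * h⁻¹⁻¹, g⁆ * h⁻¹ := by
        simp only [commutatorElement_def]; group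
      rw [e]
      apply comm_conj_mem P h hhN
      exact hg1 _ (frattini_conj_mem P h⁻¹ hhN' f hf)
    · have hd' : h⁻¹ * d * h⁻¹⁻¹ ∈ D := comm_conj_mem P h⁻¹ hhN' d hd
      have := hg2 _ hd'
      calc d * (h * g * h⁻¹) = h * ((h⁻¹ * d * h⁻¹⁻¹) * g) * h⁻¹ := by group
        _ = h * (g * (h⁻¹ * d * h⁻¹⁻¹)) * h⁻¹ := by rw [this]
        _ = h * g * h⁻¹ * d := by group
  have hNYC : NY ≤ C := by
    rw [hNY, Subgroup.map_le_iff_le_comap]
    have hnorm : (C.comap H.subtype).Normal := by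
      constructor
      intro n hn g
      rw [Subgroup.mem_comap] at *
      simpa using hCH g g.2 n hn
    apply Subgroup.normalClosure_le_normal
    intro y hy
    rw [SetLike.mem_coe, Subgroup.mem_subgroupOf] at hy
    exact hYC hy
  -- p'-elements of C centralize Φ
  have hcent : ∀ g ∈ C, (orderOf g).Coprime p → ∀ f ∈ Φ, f * g = g * f := by
    intro g ⟨hg1, hg2⟩ hgp f hf
    have hcD := hg1 f hf
    have hcx : Commute ⁅f, g⁆ g := hg2 _ hcD
    have e : f * g * f⁻¹ = ⁅f, g⁆ * g := by rw [commutatorElement_def]; group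
    have h1 : (f * g * f⁻¹) ^ (orderOf g) = 1 := by rw [conj_pow, pow_orderOf_eq_one]; simp
    rw [e, hcx.mul_pow, pow_orderOf_eq_one, mul_one] at h1
    obtain ⟨j, hj⟩ := hP ⟨⁅f, g⁆, hDP hcD⟩
    have hj' : ⁅f, g⁆ ^ (p ^ j) = 1 := by simpa using congrArg Subtype.val hj
    have h2 := pow_gcd_eq_one.mpr ⟨h1, hj'⟩
    have hcop : Nat.gcd (orderOf g) (p ^ j) = 1 := Nat.Coprime.pow_right j hgp
    rw [hcop, pow_one, commutatorElement_eq_one_iff_mul_comm] at h2
    exact h2
  rw [Subgroup.map_le_iff_le_comap]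
  unfold Cfsg.pResidual
  rw [Subgroup.closure_le]
  intro g hg
  rw [SetLike.mem_coe, Subgroup.mem_comap, Subgroup.mem_centralizer_iff]
  intro f hf
  have hord : orderOf (g : G) = orderOf g := Subgroup.orderOf_coe g
  refine (hcent (g : G) (hNYC g.2) ?_ f hf)
  rw [hord]; exact hg

end Cfsg.Agent.S2819
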