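import Cfsg.Statements.S2820
import Cfsg.Agent.Lib.H14.Subnormal2

set_option autoImplicit false
open Cfsg

namespace Cfsg.Agent.S2820

open Cfsg.Agent.Lib.H14 in
theorem aux {H : Type*} [Group H] [Finite H] {p : ℕ} [Fact p.Prime] (A B : Subgroup H) (hA : A.IsSubnormal) (hB : B.IsSubnormal) (hAp : IsPGroup p ↥A) (hBres : presOf p B = B) :
    A ≤ Subgroup.normalizer (B : Set H) ∧ presOf p (A ⊔ B) = B := by
  have hAN : A ≤ Subgroup.normalizer (B : Set H) := by
    have h1 := le_pCore_of_isSubnormal_of_isPGroup p A hA hAp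
    have h2 := pCore_le_normalizer_presOf p B hB
    rw [hBres] at h2
    exact h1.trans h2
  refine ⟨hAN, le_antisymm ?_ ?_⟩
  · -- every p'-element of A ⊔ B lies in B
    set X : Subgroup H := A ⊔ B with hX
    have hAX : A ≤ X := le_sup_left
    have hBX : B ≤ X := le_sup_right
    have hXN : X ≤ Subgroup.normalizer (B : Set H) := sup_le hAN Subgroup.le_normalizer
    haveI hN1 : (B.subgroupOf X).Normal := Subgroup.normal_subgroupOf_of_le_normalizer hXN
    have hsup : A.subgroupOf X ⊔ B.subgroupOf X = ⊤ := by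
      rw [← Subgroup.subgroupOf_sup hAX hBX]
      exact Subgroup.subgroupOf_self X
    have h1 : ∀ r ∈ B.subgroupOf X, ∃ k : ℕ, r ^ (p ^ k) ∈ B.subgroupOf X :=
      fun r hr => ⟨0, by simpa using hr⟩
    have h2 : ∀ a ∈ A.subgroupOf X, ∃ k : ℕ, a ^ (p ^ k) ∈ B.subgroupOf X := by
      intro a ha
      rw [Subgroup.mem_subgroupOf] at ha
      obtain ⟨k, hk⟩ := hAp ⟨(a : H), ha⟩
      refine ⟨k, ?_⟩
      rw [Subgroup.mem_subgroupOf]
      have : ((a : H)) ^ (p ^ k) = 1 := by simpa using congrArg Subtype.val hk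
      simp only [Subgroup.coe_pow, this]
      exact B.one_mem
    unfold presOf
    rw [Subgroup.closure_le]
    rintro y ⟨hyX, hyc⟩
    obtain ⟨k, hk⟩ := exists_pow_mem_of_sup p (B.subgroupOf X) (A.subgroupOf X) (B.subgroupOf X)
      hsup h1 h2 ⟨y, hyX⟩
    rw [Subgroup.mem_subgroupOf] at hk
    exact mem_of_pow_mem_of_coprime p B y hyc k (by simpa using hk)
  · conv_lhs => rw [← hBres]
    exact presOf_mono p le_sup_right

/-- Let A and B be subnormal subgroups of the finite group H with A a p-group and B = O^p(B) (B generated by its elements of order prime to p). Then A normalizes B and B = O^p(AB), the subgroup of ⟨A, B⟩ generated by its elements of order prime to p. -/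
theorem result {H : Type*} [Group H] [Finite H] {p : ℕ} [Fact p.Prime] (A B : Subgroup H) (hA : A.IsSubnormal) (hB : B.IsSubnormal) (hAp : IsPGroup p ↥A) (hBres : (Cfsg.pResidual p ↥B).map B.subtype = B) : A ≤ Subgroup.normalizer (B : Set H) ∧ (Cfsg.pResidual p ↥(A ⊔ B)).map (A ⊔ B).subtype = B := by
  rw [Cfsg.Agent.Lib.H14.pResidual_map_eq] at hBres ⊢
  exact aux A B hA hB hAp hBres

end Cfsg.Agent.S2820
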