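import Cfsg.Statements.S2823
import Cfsg.Agent.Lib.H14.PReduced7

set_option autoImplicit false
open Cfsg

namespace Cfsg.Agent.S2823

open Cfsg.Agent.Lib.H14 in
open scoped commutatorElement in
theorem aux {H : Type*} [Group H] [Finite H] {p : ℕ} [Fact p.Prime] (T : Sylow p H) (L : Subgroup H)
    (hTL : (T : Subgroup H) ≤ L)
    (hL : Subgroup.centralizer (Cfsg.pCore p ↥L : Set ↥L) ≤ Cfsg.pCore p ↥L) :
    Cfsg.sylowCenterClosure p L = (Cfsg.omegaOne p (L ⊓ Subgroup.centralizer ((L : Subgroup H) : Set H))) ⊔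
      ⁅Cfsg.sylowCenterClosure p L, presOf p L⁆ := by
  set Z := Cfsg.sylowCenterClosure p L with hZ
  set R := presOf p L with hR
  have hLZ : L ≤ Subgroup.normalizer (Z : Set H) := le_nzr_sylowCenterClosure L
  have hZL : Z ≤ L := sylowCenterClosure_le p L
  have hRL : R ≤ L := presOf_le p L
  have hZY : Z ≤ Cfsg.largestPReducedOf p L := sylowCenterClosure_le_largestPReducedOf L hL
  obtain ⟨-, hYe, -⟩ := largestPReducedOf_props (p := p) L
  have hZe : Cfsg.IsElementaryAbelian p Z := isElementaryAbelian_of_le _ Z hYe hZY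
  have hWZ : ⁅Z, R⁆ ≤ Z := Subgroup.le_normalizer_iff_commutator_le_left.mp (hRL.trans hLZ)
  apply le_antisymm
  · rw [hZ]
    conv_lhs => unfold Cfsg.sylowCenterClosure
    apply iSup_le
    intro S
    unfold Cfsg.omegaOne
    rw [Subgroup.closure_le]
    rintro z ⟨⟨hz1, hz2⟩, hzp⟩
    have hzZ : z ∈ Z := oz_le_sylowCenterClosure p L S (Subgroup.subset_closure ⟨⟨hz1, hz2⟩, hzp⟩)
    have hzL : z ∈ L := hZL hzZ
    -- set up the trace lemma in the group L
    have hVn : (Z.subgroupOf L).Normal := by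
      rw [Subgroup.normal_subgroupOf_iff_le_normalizer hZL]; exact hLZ
    have hVc : IsMulCommutative (Z.subgroupOf L) := by
      refine ⟨⟨?_⟩⟩
      rintro ⟨a, ha⟩ ⟨b, hb⟩
      rw [Subgroup.mem_subgroupOf] at ha hb
      apply Subtype.ext
      apply Subtype.ext
      exact comm_of_isElementaryAbelian Z hZe _ ha _ hb
    have hRn : (Cfsg.pResidual p ↥L).Normal := pResidual_normal'
    obtain ⟨c, hcV, hcc, w, hw, e⟩ := exists_central_mul_commutator (Z.subgroupOf L)
      (S : Subgroup ↥L) (Cfsg.pResidual p ↥L) (pResidual_sup_sylow S) (⟨z, hzL⟩ : ↥L)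
      (by rw [Subgroup.mem_subgroupOf]; exact hzZ)
      (by
        intro t ht
        apply Subtype.ext
        have := Subgroup.mem_centralizer_iff.mp hz2 (t : H) ⟨t, ht, rfl⟩
        simpa using this)
    rw [Subgroup.mem_subgroupOf] at hcV
    have hcΩ : (c : H) ∈ Cfsg.omegaOne p (L ⊓ Subgroup.centralizer ((L : Subgroup H) : Set H)) := by
      apply Subgroup.subset_closure
      refine ⟨Subgroup.mem_inf.mpr ⟨c.2, ?_⟩, hZe.2 _ hcV⟩
      rw [Subgroup.mem_centralizer_iff]
      intro l hl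
      have := congrArg Subtype.val (hcc ⟨l, hl⟩)
      simpa using this
    have hwW : (w : H) ∈ ⁅Z, R⁆ := by
      have h1 : (w : H) ∈ (⁅Z.subgroupOf L, Cfsg.pResidual p ↥L⁆).map L.subtype := ⟨w, hw, rfl⟩
      rw [Subgroup.map_commutator, Subgroup.map_subgroupOf_eq_of_le hZL, pResidual_map_eq] at h1
      exact h1
    have hpow : z ^ ((S : Subgroup ↥L).index) ∈
        Cfsg.omegaOne p (L ⊓ Subgroup.centralizer ((L : Subgroup H) : Set H)) ⊔ ⁅Z, R⁆ := by
      have e' := congrArg Subtype.val e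
      simp only [SubgroupClass.coe_pow, Subgroup.coe_mul] at e'
      rw [e']
      exact Subgroup.mul_mem _ (le_sup_left (b := ⁅Z, R⁆) hcΩ)
        (le_sup_right (a := Cfsg.omegaOne p (L ⊓ Subgroup.centralizer ((L : Subgroup H) : Set H))) hwW)
    have hidx : ((S : Subgroup ↥L).index).Coprime p := by
      rw [Nat.coprime_comm, Nat.Prime.coprime_iff_not_dvd Fact.out]
      exact S.not_dvd_index
    have hdvd : orderOf z ∣ p := orderOf_dvd_of_pow_eq_one hzp
    obtain ⟨m, hm⟩ := exists_pow_eq_self_of_coprime (Nat.Coprime.coprime_dvd_right hdvd hidx)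
    rw [SetLike.mem_coe, ← hm]
    exact Subgroup.pow_mem _ hpow m
  · apply sup_le _ hWZ
    unfold Cfsg.omegaOne
    rw [Subgroup.closure_le]
    rintro x ⟨⟨hxL, hxC⟩, hxp⟩
    -- x ∈ T
    have hxT : x ∈ (T : Subgroup H) := by
      apply pCoreOf_le_sylow T L hTL
      apply le_pCoreOf p L (Subgroup.zpowers x) (by rw [Subgroup.zpowers_le]; exact hxL) _ _
        (Subgroup.mem_zpowers x)
      · intro l hl
        rw [Subgroup.mem_normalizer_iff]
        intro y
        have hcomm : ∀ y ∈ Subgroup.zpowers x, l * y * l⁻¹ = y := by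
          intro y hy
          obtain ⟨k, rfl⟩ := Subgroup.mem_zpowers_iff.mp hy
          have h1 : Commute l x := (Subgroup.mem_centralizer_iff.mp hxC l hl)
          have h2 : Commute l (x ^ k) := h1.zpow_right k
          calc l * x ^ k * l⁻¹ = (x ^ k * l) * l⁻¹ := by rw [h2.eq]
            _ = x ^ k := by group
        constructor
        · intro hy; rw [hcomm y hy]; exact hy
        · intro hy
          have h3 : Commute l x := (Subgroup.mem_centralizer_iff.mp hxC l hl)
          obtain ⟨k, hk⟩ := Subgroup.mem_zpowers_iff.mp hy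
          have h4 : Commute l⁻¹ (x ^ k) := (h3.zpow_right k).inv_left
          have : y = l⁻¹ * (l * y * l⁻¹) * l := by group
          rw [this, ← hk, h4.eq]
          have : x ^ k * l⁻¹ * l = x ^ k := by group
          rw [this]
          exact Subgroup.zpow_mem _ (Subgroup.mem_zpowers x) k
      · rintro ⟨y, hy⟩
        obtain ⟨k, rfl⟩ := Subgroup.mem_zpowers_iff.mp hy
        refine ⟨1, ?_⟩
        apply Subtype.ext
        simp only [pow_one, SubgroupClass.coe_pow, OneMemClass.coe_one]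
        rw [← zpow_natCast, ← zpow_mul, mul_comm, zpow_mul, zpow_natCast, hxp, one_zpow]
    have hxCT : x ∈ Subgroup.centralizer ((T : Subgroup H) : Set H) :=
      Subgroup.centralizer_le (show ((T : Subgroup H) : Set H) ⊆ (L : Set H) from fun y hy => hTL hy) hxC
    have hmap : ((T.subtype hTL : Sylow p ↥L) : Subgroup ↥L).map L.subtype = (T : Subgroup H) := by
      rw [Sylow.coe_subtype, Subgroup.map_subgroupOf_eq_of_le hTL]
    have := oz_le_sylowCenterClosure p L (T.subtype hTL)
    unfold oz at this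
    rw [hmap] at this
    exact this (Subgroup.subset_closure ⟨⟨hxT, hxCT⟩, hxp⟩)

/-- Let H be a finite group, p a prime, T a Sylow p-subgroup and L a subgroup of characteristic p containing T; let Z_L be the subgroup generated by the Ω₁(Z(S)) over the Sylow p-subgroups S of L and O^p(L) the subgroup generated by the elements of L of order prime to p. Then Z_L = Ω₁(Z(L))·[Z_L, O^p(L)] and [Z_L, L] = [Z_L, O^p(L)]. -/
theorem result {H : Type*} [Group H] [Finite H] {p : ℕ} [Fact p.Prime] (T : Sylow p H) (L : Subgroup H) (hTL : (T : Subgroup H) ≤ L) (hL : Subgroup.centralizer (Cfsg.pCore p ↥L : Set ↥L) ≤ Cfsg.pCore p ↥L) : Cfsg.sylowCenterClosure p L = (Cfsg.omegaOne p (L ⊓ Subgroup.centralizer ((L : Subgroup H) : Set H))) ⊔ ⁅Cfsg.sylowCenterClosure p L, (Cfsg.pResidual p ↥L).map L.subtype⁆ ∧ ⁅Cfsg.sylowCenterClosure p L, L⁆ = ⁅Cfsg.sylowCenterClosure p L, (Cfsg.pResidual p ↥L).map L.subtype⁆ := by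
    rw [Cfsg.Agent.Lib.H14.pResidual_map_eq]
    refine ⟨aux T L hTL hL, le_antisymm (Cfsg.Agent.Lib.H14.commutator_sylowCenterClosure_le L)
      (Subgroup.commutator_mono le_rfl (Cfsg.Agent.Lib.H14.presOf_le p L))⟩

end Cfsg.Agent.S2823
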