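import Cfsg.Statements.S2825
import Cfsg.Agent.Lib.H14.PReduced9

set_option autoImplicit false
open Cfsg

namespace Cfsg.Agent.S2825

open Cfsg.Agent.Lib.H14 in
open scoped commutatorElement in
theorem subnormal_props {H : Type*} [Group H] [Finite H] {p : ℕ} [Fact p.Prime] (K : Subgroup H)
    (hK : K.IsSubnormal) :
    RedCritIn p K (Cfsg.largestPReduced p H ⊓ K) ∧
      K ⊓ Subgroup.centralizer ((Cfsg.largestPReduced p H ⊓ K : Subgroup H) : Set H) ≤
        Subgroup.centralizer (Cfsg.largestPReduced p H : Set H) ∧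
      K ⊓ Subgroup.centralizer (Cfsg.largestPReduced p H : Set H) ≤
        Subgroup.centralizer ((Cfsg.largestPReducedOf p K : Subgroup H) : Set H) := by
  have hV := isPReducedNormal_largestPReduced (L := H) (p := p)
  rw [isPReducedNormal_iff] at hV
  obtain ⟨hVn, hVe, hVr⟩ := hV
  set V := Cfsg.largestPReduced p H with hVdef
  have hVtop : ∀ A : Subgroup H, A ≤ Subgroup.normalizer (V : Set H) := by
    intro A
    rw [Subgroup.normalizer_eq_top_iff.mpr hVn]; exact le_top
  induction hK with
  | top =>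
    refine ⟨?_, ?_, ?_⟩
    · rw [inf_top_eq]; exact (redCrit_iff_redCritIn_top V).mp hVr
    · rw [inf_top_eq]; exact inf_le_right
    · refine inf_le_right.trans (centralizer_le' ?_)
      obtain ⟨h1, h2, h3⟩ := largestPReducedOf_props (p := p) (⊤ : Subgroup H)
      apply le_largestPReduced
      rw [isPReducedNormal_iff]
      exact ⟨Subgroup.normalizer_eq_top_iff.mp (top_le_iff.mp h1), h2,
        (redCrit_iff_redCritIn_top _).mpr h3⟩
  | step H' K hle hKsub hN ih =>
    obtain ⟨ia, ib, ic⟩ := ih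
    rw [Subgroup.normal_subgroupOf_iff_le_normalizer hle] at hN
    have hKVK : K ≤ Subgroup.normalizer ((V ⊓ K : Subgroup H) : Set H) :=
      le_nzr_inf K V K (hVtop K) Subgroup.le_normalizer
    have hVKe : Cfsg.IsElementaryAbelian p (V ⊓ K) := isElementaryAbelian_of_le V _ hVe inf_le_left
    have hinf : V ⊓ K ⊓ H' = V ⊓ H' := by rw [inf_assoc, inf_eq_right.mpr hle]
    refine ⟨?_, ?_, ?_⟩
    · apply redCritIn_of_commutator_le K H' (V ⊓ K) (V ⊓ H') hle hN hKVK hVKe ia
        (inf_le_inf_left _ hle) (le_nzr_inf K V H' (hVtop K) hN)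
      apply le_inf
      · exact (Subgroup.commutator_mono inf_le_left le_rfl).trans (Subgroup.commutator_le_left V _)
      · exact (Subgroup.commutator_mono inf_le_right (presOf_le p H')).trans
          (Subgroup.le_normalizer_iff_commutator_le_right.mp hN)
    · have h1 := inf_centralizer_inf_le (p := p) K H' (V ⊓ K) hle hN inf_le_right hKVK hVKe ia
      rw [hinf] at h1
      intro x hx
      exact ib ⟨hle hx.1, h1 hx⟩
    · intro x hx
      have h1 : x ∈ Subgroup.centralizer ((Cfsg.largestPReducedOf p K : Subgroup H) : Set H) :=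
        ic ⟨hle hx.1, hx.2⟩
      exact inf_centralizer_largestPReducedOf_le K H' hle hN ⟨hx.1, h1⟩

/-- Let L be a subnormal subgroup of the finite group H, p a prime, Y_H and Y_L the largest p-reduced normal subgroups. Then Y_H ∩ L = Y_H ∩ Y_L and this subgroup is a p-reduced normal subgroup of L; C_L(Y_L) = C_L(Y_H) = C_L(Y_H ∩ L); and if O^p(H) ≤ L, then [Y_L, L] = 1 if and only if [Y_H, H] = 1. -/
theorem result {H : Type*} [Group H] [Finite H] {p : ℕ} [Fact p.Prime] (L : Subgroup H) (hL : L.IsSubnormal) : Cfsg.largestPReduced p H ⊓ L = Cfsg.largestPReduced p H ⊓ (Cfsg.largestPReducedOf p L) ∧ Cfsg.IsPReducedNormal p ((Cfsg.largestPReduced p H ⊓ L).subgroupOf L) ∧ L ⊓ Subgroup.centralizer ((Cfsg.largestPReducedOf p L : Subgroup H) : Set H) = L ⊓ Subgroup.centralizer (Cfsg.largestPReduced p H : Set H) ∧ L ⊓ Subgroup.centralizer (Cfsg.largestPReduced p H : Set H) = L ⊓ Subgroup.centralizer ((Cfsg.largestPReduced p H ⊓ L : Subgroup H) : Set H) ∧ (Cfsg.pResidual p H ≤ L → (⁅(Cfsg.largestPReducedOf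 p L), L⁆ = ⊥ ↔ ⁅Cfsg.largestPReduced p H, (⊤ : Subgroup H)⁆ = ⊥)) := by
    obtain ⟨ha, hb, hc⟩ := subnormal_props (p := p) L hL
    have hV := Cfsg.Agent.Lib.H14.isPReducedNormal_largestPReduced (L := H) (p := p)
    rw [Cfsg.Agent.Lib.H14.isPReducedNormal_iff] at hV
    obtain ⟨hVn, hVe, hVr⟩ := hV
    set V := Cfsg.largestPReduced p H with hVdef
    have hLVL : L ≤ Subgroup.normalizer ((V ⊓ L : Subgroup H) : Set H) := by
      apply Cfsg.Agent.Lib.H14.le_nzr_inf L V L _ Subgroup.le_normalizer
      rw [Subgroup.normalizer_eq_top_iff.mpr hVn]; exact le_top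
    have hVLe : Cfsg.IsElementaryAbelian p (V ⊓ L) :=
      Cfsg.Agent.Lib.H14.isElementaryAbelian_of_le V _ hVe inf_le_left
    have hVLY : V ⊓ L ≤ Cfsg.largestPReducedOf p L :=
      Cfsg.Agent.Lib.H14.le_largestPReducedOf L (V ⊓ L) inf_le_right hLVL hVLe ha
    refine ⟨?_, ?_, ?_, ?_, ?_⟩
    · exact le_antisymm (le_inf inf_le_left hVLY)
        (inf_le_inf_left _ (Cfsg.Agent.Lib.H14.largestPReducedOf_le L))
    · exact (Cfsg.Agent.Lib.H14.isPReducedNormal_subgroupOf_iff L (V ⊓ L) inf_le_right).mpr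
        ⟨hLVL, hVLe, ha⟩
    · apply le_antisymm
      · refine le_inf inf_le_left ?_
        intro x hx
        exact hb ⟨hx.1, Cfsg.Agent.Lib.H14.centralizer_le' hVLY hx.2⟩
      · exact le_inf inf_le_left hc
    · apply le_antisymm
      · exact le_inf inf_le_left (inf_le_right.trans (Cfsg.Agent.Lib.H14.centralizer_le' inf_le_left))
      · exact le_inf inf_le_left hb
    · intro hres
      constructor
      · intro h
        rw [Subgroup.commutator_comm, Subgroup.commutator_eq_bot_iff_le_centralizer] at h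
        have hLV : L ≤ Subgroup.centralizer (V : Set H) := by
          intro x hx
          exact hb ⟨hx, Cfsg.Agent.Lib.H14.centralizer_le' hVLY (h hx)⟩
        have htop : (⊤ : Subgroup H) ≤ Subgroup.centralizer (V : Set H) := by
          apply hVr ⊤ inferInstance
          intro d _
          obtain ⟨k, hk⟩ := Cfsg.Agent.Lib.H14.exists_pow_mem_presOf p (⊤ : Subgroup H) d (Subgroup.mem_top d)
          rw [← Cfsg.Agent.Lib.H14.pResidual_eq_presOf_top] at hk
          exact ⟨k, hLV (hres hk)⟩
        rw [Subgroup.commutator_comm, Subgroup.commutator_eq_bot_iff_le_centralizer]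
        exact htop
      · intro h
        rw [Subgroup.commutator_comm, Subgroup.commutator_eq_bot_iff_le_centralizer] at h
        rw [Subgroup.commutator_comm, Subgroup.commutator_eq_bot_iff_le_centralizer]
        intro x hx
        exact hc ⟨hx, h (Subgroup.mem_top x)⟩

end Cfsg.Agent.S2825
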