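import Cfsg.Statements.S2826
import Cfsg.Agent.Lib.H14.SylowTrace
import Cfsg.Agent.Lib.H14.PReduced

set_option autoImplicit false
open Cfsg

namespace Cfsg.Agent.S2826

open Cfsg.Agent.Lib.H14 in
theorem aux {H : Type*} [Group H] [Finite H] {p : ℕ} [Fact p.Prime] (T : Sylow p H)
    (V : Subgroup H) [hVn : V.Normal] (hV : Cfsg.IsElementaryAbelian p V)
    (hZV : (Cfsg.omegaOne p ((T : Subgroup H) ⊓ Subgroup.centralizer ((T : Subgroup H) : Set H))) ≤ V) :
    Subgroup.centralizer ((((⁅V, Cfsg.pResidual p H⁆ ⊓ (Cfsg.omegaOne p ((T : Subgroup H) ⊓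
      Subgroup.centralizer ((T : Subgroup H) : Set H)))) : Subgroup H) : Set H)) ≤
    Subgroup.centralizer ((Cfsg.omegaOne p ((T : Subgroup H) ⊓
      Subgroup.centralizer ((T : Subgroup H) : Set H))) : Set H) := by
  set Z₀ := Cfsg.omegaOne p ((T : Subgroup H) ⊓ Subgroup.centralizer ((T : Subgroup H) : Set H)) with hZ₀
  have hRn : (Cfsg.pResidual p H).Normal := pResidual_normal'
  have hVc : IsMulCommutative V := hV.1
  have hVT : V ≤ (T : Subgroup H) :=
    (le_pCore_of_normal_isPGroup V hVn (isPGroup_of_isElementaryAbelian V hV)).trans (pCore_le_sylow T)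
  have hidx : (T : Subgroup H).index.Coprime p := by
    rw [Nat.coprime_comm, Nat.Prime.coprime_iff_not_dvd Fact.out]
    exact T.not_dvd_index
  intro x hx
  rw [Subgroup.mem_centralizer_iff] at hx
  have hxcl : Z₀ ≤ Subgroup.centralizer ({x} : Set H) := by
    rw [hZ₀]
    unfold Cfsg.omegaOne
    rw [Subgroup.closure_le]
    rintro z ⟨hz1, hzp⟩
    have hzT : z ∈ (T : Subgroup H) := hz1.1
    have hzC : z ∈ Subgroup.centralizer ((T : Subgroup H) : Set H) := hz1.2
    have hzZ : z ∈ Z₀ := Subgroup.subset_closure ⟨hz1, hzp⟩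
    obtain ⟨c, hcV, hcc, w, hw, e⟩ := exists_central_mul_commutator V (T : Subgroup H)
      (Cfsg.pResidual p H) (pResidual_sup_sylow T) z (hZV hzZ)
      (fun t ht => Subgroup.mem_centralizer_iff.mp hzC t ht)
    have hwV : w ∈ V := (Subgroup.commutator_le_left V _) hw
    have hwe : w = c⁻¹ * z ^ (T : Subgroup H).index := by rw [e]; group
    have hwZ : w ∈ Z₀ := by
      apply Subgroup.subset_closure
      refine ⟨Subgroup.mem_inf.mpr ⟨hVT hwV, ?_⟩, hV.2 w hwV⟩
      rw [Subgroup.mem_centralizer_iff]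
      intro t ht
      rw [hwe]
      have h1 : t * c⁻¹ = c⁻¹ * t := by
        have := hcc t
        calc t * c⁻¹ = c⁻¹ * (c * t) * c⁻¹ := by group
          _ = c⁻¹ * (t * c) * c⁻¹ := by rw [this]
          _ = c⁻¹ * t := by group
      have h2 : t * z ^ (T : Subgroup H).index = z ^ (T : Subgroup H).index * t :=
        ((show Commute t z from Subgroup.mem_centralizer_iff.mp hzC t ht).pow_right _).eq
      calc t * (c⁻¹ * z ^ (T : Subgroup H).index) = (t * c⁻¹) * z ^ (T : Subgroup H).index := by group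
        _ = c⁻¹ * (t * z ^ (T : Subgroup H).index) := by rw [h1]; group
        _ = c⁻¹ * z ^ (T : Subgroup H).index * t := by rw [h2]; group
    have hxw : w * x = x * w := hx w ⟨hw, hwZ⟩
    have hxc : c * x = x * c := (hcc x).symm
    have hxzn : z ^ (T : Subgroup H).index * x = x * z ^ (T : Subgroup H).index := by
      rw [e]
      calc c * w * x = c * (w * x) := by group
        _ = c * (x * w) := by rw [hxw]
        _ = (c * x) * w := by group
        _ = x * c * w := by rw [hxc]
        _ = x * (c * w) := by group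
    have hdvd : orderOf z ∣ p := orderOf_dvd_of_pow_eq_one hzp
    have hcop : ((T : Subgroup H).index).Coprime (orderOf z) := Nat.Coprime.coprime_dvd_right hdvd hidx
    obtain ⟨m, hm⟩ := exists_pow_eq_self_of_coprime hcop
    rw [SetLike.mem_coe, Subgroup.mem_centralizer_iff]
    intro y hy
    rw [Set.mem_singleton_iff] at hy
    subst hy
    rw [← hm]
    exact ((show Commute y (z ^ (T : Subgroup H).index) from hxzn.symm).pow_right m).eq
  rw [Subgroup.mem_centralizer_iff]
  intro z hz
  have := Subgroup.mem_centralizer_iff.mp (hxcl hz) x (Set.mem_singleton x)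
  exact this.symm

/-- Let H be a finite group of characteristic p, T a Sylow p-subgroup, and V a normal elementary abelian p-subgroup of H containing Ω₁(Z(T)). Then C_H(Ω₁(Z(T))) = C_H([V, O^p(H)] ∩ Ω₁(Z(T))), O^p(H) being generated by the elements of order prime to p. -/
theorem result {H : Type*} [Group H] [Finite H] {p : ℕ} [Fact p.Prime] (hH : Subgroup.centralizer (Cfsg.pCore p H : Set H) ≤ Cfsg.pCore p H) (T : Sylow p H) (V : Subgroup H) [V.Normal] (hV : Cfsg.IsElementaryAbelian p V) (hZV : (Cfsg.omegaOne p ((T : Subgroup H) ⊓ Subgroup.centralizer (((T : Subgroup H) : Subgroup H) : Set H))) ≤ V) : Subgroup.centralizer ((Cfsg.omegaOne p ((T : Subgroup H) ⊓ Subgroup.centralizer (((T : Subgroup H) : Subgroup H) : Set H))) : Set H) = Subgroup.centralizer (((⁅V, Cfsg.pResidual p H⁆ ⊓ (Cfsg.omegaOne p ((T : Subgroup H) ⊓ Subgroup.centralizer (((T : Subgroup H) : Subgroup H) : Set H)))) : Subgroup H) : Set H) := by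
    apply le_antisymm
    · exact Subgroup.centralizer_le (fun x hx => (Subgroup.mem_inf.mp hx).2)
    · exact aux T V hV hZV

end Cfsg.Agent.S2826
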