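import Cfsg.Statements.S2830
import Cfsg.Agent.Lib.H14.PIrrQuot

set_option autoImplicit false
open Cfsg

namespace Cfsg.Agent.S2830

open Cfsg.Agent.Lib.H14 in
theorem pCore_quot_eq_bot {K : Type*} [Group K] [Finite K] {p : ℕ} [Fact p.Prime]
    (hK : Cfsg.IsPIrreducible p K) (C : Subgroup K) [C.Normal]
    (hnc : ¬ Cfsg.pResidual p K ≤ C) (hO : Cfsg.pCore p K ≤ C) : Cfsg.pCore p (K ⧸ C) = ⊥ := by
  have hQn : ((Cfsg.pCore p (K ⧸ C)).comap (QuotientGroup.mk' C)).Normal :=
    (pCore_normal (G := K ⧸ C) (p := p)).comap _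
  have h1 : presOf p ((Cfsg.pCore p (K ⧸ C)).comap (QuotientGroup.mk' C)) ≤ C := by
    unfold presOf
    rw [Subgroup.closure_le]
    rintro x ⟨hxQ, hc⟩
    obtain ⟨k, hk⟩ := (pCore_isPGroup (G := K ⧸ C) (p := p)) ⟨QuotientGroup.mk' C x, hxQ⟩
    apply mem_of_pow_mem_of_coprime p C x hc k
    rw [← QuotientGroup.eq_one_iff, QuotientGroup.mk_pow]
    simpa using congrArg Subtype.val hk
  have h2 : Cfsg.IsPClosed p ↥((Cfsg.pCore p (K ⧸ C)).comap (QuotientGroup.mk' C)) := by
    by_contra hc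
    apply hnc
    have h3 := hK.2 _ hQn hc
    refine le_trans ?_ h1
    conv_lhs => unfold Cfsg.pResidual
    rw [Subgroup.closure_le]
    intro x hx
    exact Subgroup.subset_closure ⟨h3 (Subgroup.subset_closure hx), hx⟩
  obtain ⟨P⟩ : Nonempty (Sylow p ↥((Cfsg.pCore p (K ⧸ C)).comap (QuotientGroup.mk' C))) :=
    inferInstance
  have h4 := pResidual_sup_sylow P
  have h5 : (Cfsg.pCore p (K ⧸ C)).comap (QuotientGroup.mk' C) ≤ C := by
    have e : (Cfsg.pCore p (K ⧸ C)).comap (QuotientGroup.mk' C) =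
        (⊤ : Subgroup ↥((Cfsg.pCore p (K ⧸ C)).comap (QuotientGroup.mk' C))).map
          (Subgroup.subtype _) := by
      rw [← MonoidHom.range_eq_map, Subgroup.range_subtype]
    rw [e, ← h4, Subgroup.map_sup, pResidual_map_eq]
    apply sup_le h1
    have hPn := sylow_map_normal_of_pclosed _ h2 P
    have hPp := P.2.map (Subgroup.subtype ((Cfsg.pCore p (K ⧸ C)).comap (QuotientGroup.mk' C)))
    exact le_trans (le_sSup (show _ ∈ {N : Subgroup K | N.Normal ∧ IsPGroup p ↥N} from ⟨hPn, hPp⟩)) hO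
  rw [eq_bot_iff, ← Subgroup.map_comap_eq_self_of_surjective (QuotientGroup.mk'_surjective C)
    (Cfsg.pCore p (K ⧸ C)), Subgroup.map_le_iff_le_comap]
  intro x hx
  rw [Subgroup.mem_comap, Subgroup.mem_bot]
  exact (QuotientGroup.eq_one_iff x).mpr (h5 hx)

/-- Let H act by conjugation on the elementary abelian p-subgroup V of a finite group G (H ≤ N(V)), with H p-irreducible and O^p(H) not centralizing V. Then C_H(V) is p-closed and C_T(V) ≤ O_p(H) for every p-subgroup T of H. If in addition O_p(H) centralizes V, then C_T(V) = T ∩ O_p(H) for every p-subgroup T of H, and V is p-reduced for H: O_p(H/C_H(V)) = 1. -/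
theorem result {G : Type*} [Group G] [Finite G] {p : ℕ} [Fact p.Prime] (V H : Subgroup G) (hV : Cfsg.IsElementaryAbelian p V) (hHV : H ≤ Subgroup.normalizer (V : Set G)) (hH : Cfsg.IsPIrreducible p ↥H) (hnc : ¬ (Cfsg.pResidual p ↥H).map H.subtype ≤ Subgroup.centralizer (V : Set G)) [hn : ((Subgroup.centralizer (V : Set G)).subgroupOf H).Normal] : Cfsg.IsPClosed p ↥(H ⊓ Subgroup.centralizer (V : Set G)) ∧ (∀ T : Subgroup G, T ≤ H → IsPGroup p ↥T → T ⊓ Subgroup.centralizer (V : Set G) ≤ Cfsg.pCoreOf p H) ∧ (Cfsg.pCoreOf p H ≤ Subgroup.centralizer (V : Set G) → (∀ T : Subgroup G, T ≤ H → IsPGroup p ↥T → T ⊓ Subgroup.centralizer (V : Set G) = T ⊓ Cfsg.pCoreOf p H) ∧ Cfsg.pCore p (↥H ⧸ (Subgroup.centralizer (V : Set G)).subgroupOf H) = ⊥) := by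
  have hnc' : ¬ Cfsg.pResidual p ↥H ≤ (Subgroup.centralizer (V : Set G)).subgroupOf H :=
    fun h => hnc (Subgroup.map_le_iff_le_comap.mpr h)
  have hCc : Cfsg.IsPClosed p ↥((Subgroup.centralizer (V : Set G)).subgroupOf H) := by
    by_contra hc
    exact hnc' (hH.2 _ hn hc)
  have part2 : ∀ T : Subgroup G, T ≤ H → IsPGroup p ↥T →
      T ⊓ Subgroup.centralizer (V : Set G) ≤ Cfsg.pCoreOf p H := by
    intro T hTH hT
    have hY : (T ⊓ Subgroup.centralizer (V : Set G)).subgroupOf H ≤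
        (Subgroup.centralizer (V : Set G)).subgroupOf H := by
      intro y hy
      exact hy.2
    have hYp : IsPGroup p ↥((T ⊓ Subgroup.centralizer (V : Set G)).subgroupOf H) :=
      (hT.to_le inf_le_left).comap_subtype
    have h1 := Cfsg.Agent.Lib.H14.le_pCore_of_pclosed_normal _ hCc _ hY hYp
    have h2 := Subgroup.map_mono (f := H.subtype) h1
    rw [Subgroup.map_subgroupOf_eq_of_le (inf_le_left.trans hTH)] at h2
    exact h2
  refine ⟨?_, part2, ?_⟩
  · have e := Subgroup.subgroupOfEquivOfLe (inf_le_left : H ⊓ Subgroup.centralizer (V : Set G) ≤ H)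
    rw [Subgroup.inf_subgroupOf_left] at e
    refine (Cfsg.Agent.Lib.H14.isPClosed_iff_of_surjective e.toMonoidHom e.surjective ?_).mp hCc
    have : e.toMonoidHom.ker = ⊥ := (MonoidHom.ker_eq_bot_iff _).mpr e.injective
    rw [this]
    exact IsPGroup.of_bot
  · intro hO
    refine ⟨?_, ?_⟩
    · intro T hTH hT
      exact le_antisymm (le_inf inf_le_left (part2 T hTH hT))
        (le_inf inf_le_left (inf_le_right.trans hO))
    · exact pCore_quot_eq_bot hH _ hnc' (Subgroup.map_le_iff_le_comap.mp hO)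

end Cfsg.Agent.S2830
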