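import Cfsg.Statements.S2831
import Cfsg.Agent.Lib.H14.PIrr
import Mathlib.Tactic.Group

set_option autoImplicit false
open Cfsg

namespace Cfsg.Agent.S2831

open Cfsg.Agent.Lib.H14 in
theorem le_of_proper {H : Type*} [Group H] [Finite H] (T M : Subgroup H)
    (hM : IsCoatom M ∧ T ≤ M) (hu : ∀ y : Subgroup H, IsCoatom y ∧ T ≤ y → y = M)
    (K : Subgroup H) (hTK : T ≤ K) (hK : K ≠ ⊤) : K ≤ M := by
  rcases eq_top_or_exists_le_coatom K with h | ⟨M', hM', hKM'⟩
  · exact absurd h hK
  · have h1 := hu M' ⟨hM', hTK.trans hKM'⟩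
    exact h1 ▸ hKM'

open Cfsg.Agent.Lib.H14 in
theorem sup_eq_top_of_not_pclosed {H : Type*} [Group H] [Finite H] {p : ℕ} [Fact p.Prime]
    (T : Sylow p H) (M : Subgroup H)
    (hM : IsCoatom M ∧ (T : Subgroup H) ≤ M)
    (hu : ∀ y : Subgroup H, IsCoatom y ∧ (T : Subgroup H) ≤ y → y = M)
    (N : Subgroup H) [N.Normal] (hNc : ¬ Cfsg.IsPClosed p ↥N) : N ⊔ (T : Subgroup H) = ⊤ := by
  by_contra hne
  have hNTM := le_of_proper (T : Subgroup H) M hM hu (N ⊔ T) le_sup_right hne
  have hfr := Sylow.normalizer_sup_eq_top (sylowInf T N)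
  rw [sylowInf_map] at hfr
  have hTn : (T : Subgroup H) ≤ Subgroup.normalizer (((T : Subgroup H) ⊓ N : Subgroup H) : Set H) := by
    intro t ht
    rw [Subgroup.mem_normalizer_iff]
    intro x
    constructor
    · rintro ⟨h1, h2⟩
      exact ⟨Subgroup.mul_mem _ (Subgroup.mul_mem _ ht h1) (Subgroup.inv_mem _ ht),
        ‹N.Normal›.conj_mem x h2 t⟩
    · rintro ⟨h1, h2⟩
      constructor
      · have h3 := Subgroup.mul_mem _ (Subgroup.mul_mem _ (Subgroup.inv_mem _ ht) h1) ht
        have e : t⁻¹ * (t * x * t⁻¹) * t = x := by group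
        rw [e] at h3
        exact h3
      · have := ‹N.Normal›.conj_mem _ h2 t⁻¹
        simpa [mul_assoc] using this
  have hKne : Subgroup.normalizer (((T : Subgroup H) ⊓ N : Subgroup H) : Set H) ≠ ⊤ := by
    intro htop
    apply hNc
    apply isPClosed_of_normal_sylow (sylowInf T N)
    rw [sylowInf_coe]
    have hn : ((T : Subgroup H) ⊓ N).Normal := Subgroup.normalizer_eq_top_iff.mp htop
    infer_instance
  have hKM := le_of_proper (T : Subgroup H) M hM hu _ hTn hKne
  have : (⊤ : Subgroup H) ≤ M := by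
    rw [← hfr]
    exact sup_le hKM (le_sup_left.trans hNTM)
  exact hM.1.1 (top_le_iff.mp this)

/-- Let H be a finite group with Sylow p-subgroup T such that H is T-minimal (H is generated by the conjugates of T and T lies in exactly one maximal subgroup of H). Then H is p-irreducible: H is not p-closed and O^p(H) lies in every normal subgroup of H that is not p-closed. -/
theorem result {H : Type*} [Group H] [Finite H] {p : ℕ} [Fact p.Prime] (T : Sylow p H) (hmin : Cfsg.IsMinimalOver (T : Subgroup H)) : Cfsg.IsPIrreducible p H := by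
  obtain ⟨hcl, M, hM, hu⟩ := hmin
  constructor
  · intro hc
    have hTn : (T : Subgroup H).Normal := hc T
    have h1 : Subgroup.normalClosure ((T : Subgroup H) : Set H) = T := Subgroup.normalClosure_eq_self _
    rw [h1] at hcl
    exact hM.1.1 (top_le_iff.mp (hcl ▸ hM.2))
  · intro N hN hNc
    have := hN
    exact Cfsg.Agent.Lib.H14.pResidual_le_of_sup_eq_top N T T.2
      (sup_eq_top_of_not_pclosed T M hM hu N hNc)

end Cfsg.Agent.S2831
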