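import Cfsg.Statements.S2832
import Cfsg.Agent.Lib.H14.PIrr

set_option autoImplicit false
open Cfsg

namespace Cfsg.Agent.S2832

theorem isCoatom_map_of_ker_le {G K : Type*} [Group G] [Group K] {φ : G →* K}
    (hφ : Function.Surjective φ) {M : Subgroup G} (hM : IsCoatom M) (hk : φ.ker ≤ M) :
    IsCoatom (M.map φ) := by
  constructor
  · intro h
    apply hM.1
    rw [← Subgroup.comap_map_eq_self hk, h, Subgroup.comap_top]
  · intro L hL
    have h1 : M < L.comap φ := by
      rw [← Subgroup.comap_map_eq_self hk]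
      exact (Subgroup.comap_lt_comap_of_surjective hφ).mpr hL
    have h2 := hM.2 _ h1
    rw [← Subgroup.map_comap_eq_self_of_surjective hφ L, h2, Subgroup.map_top_of_surjective _ hφ]

theorem le_of_proper {H : Type*} [Group H] [Finite H] (T M : Subgroup H)
    (hM : IsCoatom M ∧ T ≤ M) (hu : ∀ y : Subgroup H, IsCoatom y ∧ T ≤ y → y = M)
    (K : Subgroup H) (hTK : T ≤ K) (hK : K ≠ ⊤) : K ≤ M := by
  rcases eq_top_or_exists_le_coatom K with h | ⟨M', hM', hKM'⟩
  · exact absurd h hK
  · have h1 := hu M' ⟨hM', hTK.trans hKM'⟩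
    exact h1 ▸ hKM'

/-- Let H be a finite group with Sylow p-subgroup T such that H is T-minimal (generated by the conjugates of T, with T in exactly one maximal subgroup), and let N be a normal subgroup of H. Then either H/N is a p-group or H/N is minimal over the image of T in the same sense. -/
theorem result {H : Type*} [Group H] [Finite H] {p : ℕ} [Fact p.Prime] (T : Sylow p H) (hmin : Cfsg.IsMinimalOver (T : Subgroup H)) (N : Subgroup H) [N.Normal] : IsPGroup p (H ⧸ N) ∨ Cfsg.IsMinimalOver ((T : Subgroup H).map (QuotientGroup.mk' N)) := by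
  have hsurj : Function.Surjective (QuotientGroup.mk' N) := QuotientGroup.mk'_surjective N
  by_cases hNT : N ⊔ (T : Subgroup H) = ⊤
  · left
    intro y
    obtain ⟨x, rfl⟩ := QuotientGroup.mk_surjective y
    have hx' : x ∈ ((N ⊔ (T : Subgroup H) : Subgroup H) : Set H) := by
      rw [hNT]; exact Set.mem_univ x
    rw [Subgroup.normal_mul] at hx'
    obtain ⟨n, hn, t, ht, rfl⟩ := Set.mem_mul.mp hx'
    obtain ⟨k, hk⟩ := T.2 ⟨t, ht⟩
    refine ⟨k, ?_⟩
    have h1 : t ^ p ^ k = 1 := by simpa using congrArg Subtype.val hk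
    rw [QuotientGroup.mk_mul, (QuotientGroup.eq_one_iff n).mpr hn, one_mul, ← QuotientGroup.mk_pow, h1]
    rfl
  · right
    obtain ⟨hcl, M, hM, hu⟩ := hmin
    have hNTM := le_of_proper (T : Subgroup H) M hM hu (N ⊔ T) le_sup_right hNT
    have hNM : N ≤ M := le_sup_left.trans hNTM
    have hker : (QuotientGroup.mk' N).ker ≤ M := by rw [QuotientGroup.ker_mk']; exact hNM
    constructor
    · rw [Subgroup.coe_map, ← Subgroup.map_normalClosure _ _ hsurj, hcl,
        Subgroup.map_top_of_surjective _ hsurj]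
    · refine ⟨M.map (QuotientGroup.mk' N), ⟨isCoatom_map_of_ker_le hsurj hM.1 hker,
        Subgroup.map_mono hM.2⟩, ?_⟩
      rintro Mb ⟨hMb, hTMb⟩
      have h1 : IsCoatom (Mb.comap (QuotientGroup.mk' N)) :=
        Subgroup.isCoatom_comap_of_surjective hsurj hMb
      have h2 : (T : Subgroup H) ≤ Mb.comap (QuotientGroup.mk' N) :=
        Subgroup.map_le_iff_le_comap.mp hTMb
      have h3 := hu _ ⟨h1, h2⟩
      rw [← h3, Subgroup.map_comap_eq_self_of_surjective hsurj]

end Cfsg.Agent.S2832
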