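import Cfsg.Statements.S2833
import Mathlib.Tactic.Group

set_option autoImplicit false
open Cfsg

namespace Cfsg.Agent.S2833

open scoped commutatorElement

theorem aux_norm {G : Type*} [Group G] (V A B : Subgroup G) (hA : A ≤ Subgroup.normalizer (V : Set G))
    (hVB : ⁅V, B⁆ ≤ V) (a : G) (ha : a ∈ A) (s : G) (hs : s ∈ ⁅V, A⁆ ⊔ ⁅V, B⁆) :
    a * s * a⁻¹ ∈ ⁅V, A⁆ ⊔ ⁅V, B⁆ := by
  have hl : ⁅V, A⁆ ≤ ⁅V, A⁆ ⊔ ⁅V, B⁆ := le_sup_left
  have hr : ⁅V, B⁆ ≤ ⁅V, A⁆ ⊔ ⁅V, B⁆ := le_sup_right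
  have key : ⁅V, A⁆ ⊔ ⁅V, B⁆ ≤ (⁅V, A⁆ ⊔ ⁅V, B⁆).comap (MulAut.conj a).toMonoidHom := by
    apply sup_le
    · intro u hu
      rw [Subgroup.mem_comap, MulEquiv.coe_toMonoidHom, MulAut.conj_apply]
      have h1 := (Subgroup.mem_normalizer_iff.mp (Subgroup.normalizer_commutator_ge_right V A ha) u).mp hu
      exact hl h1
    · intro u hu
      rw [Subgroup.mem_comap, MulEquiv.coe_toMonoidHom, MulAut.conj_apply]
      have e : a * u * a⁻¹ = (⁅u, a⁆)⁻¹ * u := by rw [commutatorElement_def]; group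
      rw [e]
      refine Subgroup.mul_mem _ ?_ (hr hu)
      exact hl (Subgroup.inv_mem _ (Subgroup.commutator_mem_commutator (hVB hu) ha))
  have h2 := key hs
  rw [Subgroup.mem_comap, MulEquiv.coe_toMonoidHom, MulAut.conj_apply] at h2
  exact h2

theorem aux {G : Type*} [Group G] (V L X Y : Subgroup G) (hLV : L ≤ Subgroup.normalizer (V : Set G))
    (hX : X ≤ L) (hY : Y ≤ L) (hgen : X ⊔ Y = L) :
    ⁅V, X⁆ ⊔ ⁅V, Y⁆ = ⁅V, L⁆ := by
  have hVX : ⁅V, X⁆ ≤ V := (Subgroup.le_normalizer_iff_commutator_le_left).mp (hX.trans hLV)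
  have hVY : ⁅V, Y⁆ ≤ V := (Subgroup.le_normalizer_iff_commutator_le_left).mp (hY.trans hLV)
  apply le_antisymm
  · exact sup_le (Subgroup.commutator_mono le_rfl hX) (Subgroup.commutator_mono le_rfl hY)
  have hl : ⁅V, X⁆ ≤ ⁅V, X⁆ ⊔ ⁅V, Y⁆ := le_sup_left
  have hr : ⁅V, Y⁆ ≤ ⁅V, X⁆ ⊔ ⁅V, Y⁆ := le_sup_right
  have hXS : ∀ a ∈ X, ∀ s ∈ ⁅V, X⁆ ⊔ ⁅V, Y⁆, a * s * a⁻¹ ∈ ⁅V, X⁆ ⊔ ⁅V, Y⁆ :=
    fun a ha s hs => aux_norm V X Y (hX.trans hLV) hVY a ha s hs
  have hYS : ∀ a ∈ Y, ∀ s ∈ ⁅V, X⁆ ⊔ ⁅V, Y⁆, a * s * a⁻¹ ∈ ⁅V, X⁆ ⊔ ⁅V, Y⁆ := by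
    intro a ha s hs
    rw [sup_comm] at hs ⊢
    exact aux_norm V Y X (hY.trans hLV) hVX a ha s hs
  -- the subgroup T of elements l normalizing S with [V, l] ⊆ S
  let T : Subgroup G :=
    { carrier := {l | (∀ s ∈ ⁅V, X⁆ ⊔ ⁅V, Y⁆, l * s * l⁻¹ ∈ ⁅V, X⁆ ⊔ ⁅V, Y⁆) ∧
        (∀ s ∈ ⁅V, X⁆ ⊔ ⁅V, Y⁆, l⁻¹ * s * l ∈ ⁅V, X⁆ ⊔ ⁅V, Y⁆) ∧ ∀ v ∈ V, ⁅v, l⁆ ∈ ⁅V, X⁆ ⊔ ⁅V, Y⁆}
      one_mem' := by
        refine ⟨?_, ?_, ?_⟩
        · intro s hs; simpa using hs
        · intro s hs; simpa using hs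
        · intro v _
          rw [commutatorElement_one_right]; exact Subgroup.one_mem _
      mul_mem' := by
        rintro a b ⟨ha1, ha2, ha3⟩ ⟨hb1, hb2, hb3⟩
        refine ⟨?_, ?_, ?_⟩
        · intro s hs
          have h1 := ha1 _ (hb1 s hs)
          have e : a * b * s * (a * b)⁻¹ = a * (b * s * b⁻¹) * a⁻¹ := by group
          rw [e]; exact h1
        · intro s hs
          have h1 := hb2 _ (ha2 s hs)
          have e : (a * b)⁻¹ * s * (a * b) = b⁻¹ * (a⁻¹ * s * a) * b := by group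
          rw [e]; exact h1
        · intro v hv
          have e : ⁅v, a * b⁆ = ⁅v, a⁆ * (a * ⁅v, b⁆ * a⁻¹) := by
            simp only [commutatorElement_def]; group
          rw [e]
          exact Subgroup.mul_mem _ (ha3 v hv) (ha1 _ (hb3 v hv))
      inv_mem' := by
        rintro a ⟨ha1, ha2, ha3⟩
        refine ⟨?_, ?_, ?_⟩
        · intro s hs
          simpa using ha2 s hs
        · intro s hs
          simpa using ha1 s hs
        · intro v hv
          have e : ⁅v, a⁻¹⁆ = a⁻¹ * (⁅v, a⁆)⁻¹ * a := by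
            simp only [commutatorElement_def]; group
          rw [e]
          exact ha2 _ (Subgroup.inv_mem _ (ha3 v hv)) }
  have hXT : X ≤ T := by
    intro a ha
    refine ⟨hXS a ha, ?_, ?_⟩
    · intro s hs
      have h1 := hXS a⁻¹ (X.inv_mem ha) s hs
      simpa using h1
    · intro v hv
      exact hl (Subgroup.commutator_mem_commutator hv ha)
  have hYT : Y ≤ T := by
    intro a ha
    refine ⟨hYS a ha, ?_, ?_⟩
    · intro s hs
      have h1 := hYS a⁻¹ (Y.inv_mem ha) s hs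
      simpa using h1
    · intro v hv
      exact hr (Subgroup.commutator_mem_commutator hv ha)
  have hLT : L ≤ T := hgen ▸ sup_le hXT hYT
  rw [Subgroup.commutator_le]
  intro v hv l hl'
  exact (hLT hl').2.2 v hv

theorem map_conj_eq_of_mem_normalizer {G : Type*} [Group G] (V : Subgroup G) (g : G)
    (hg : g ∈ Subgroup.normalizer (V : Set G)) : V.map (MulAut.conj g).toMonoidHom = V := by
  ext x
  constructor
  · rintro ⟨y, hy, rfl⟩
    exact (Subgroup.mem_normalizer_iff.mp hg y).mp hy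
  · intro hx
    refine ⟨g⁻¹ * x * g, ?_, by simp [MulAut.conj_apply, mul_assoc]⟩
    have h1 := (Subgroup.mem_normalizer_iff.mp ((Subgroup.normalizer (V : Set G)).inv_mem hg) x).mp hx
    simpa using h1

theorem mem_sup_exists_mul {G : Type*} [Group G] (A B : Subgroup G)
    (h : A ≤ Subgroup.normalizer (B : Set G)) (w : G) (hw : w ∈ A ⊔ B) :
    ∃ a ∈ A, ∃ b ∈ B, a * b = w := by
  have h1 : w ∈ ((A ⊔ B : Subgroup G) : Set G) := hw
  rw [Subgroup.coe_mul_of_left_le_normalizer_right _ _ h] at h1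
  exact Set.mem_mul.mp h1

/-- Let V be a subgroup of a finite group G normalized by the subgroup L, let X ≤ L and g ∈ L with [V, X, X] = 1 and L generated by X and gXg⁻¹. Put W = [V, L]. Then W = [V, X]·[V, gXg⁻¹], C_W(X) = [V, X], and C_W(L) = [V, X] ∩ [V, gXg⁻¹]. -/
theorem result {G : Type*} [Group G] [Finite G] (V L : Subgroup G) (hLV : L ≤ Subgroup.normalizer (V : Set G)) (X : Subgroup G) (hX : X ≤ L) (g : G) (hg : g ∈ L) (hq : ⁅⁅V, X⁆, X⁆ = ⊥) (hgen : X ⊔ X.map (MulAut.conj g).toMonoidHom = L) (W : Subgroup G) (hW : W = ⁅V, L⁆) : ⁅V, X⁆ ⊔ ⁅V, X.map (MulAut.conj g).toMonoidHom⁆ = W ∧ W ⊓ Subgroup.centralizer (X : Set G) = ⁅V, X⁆ ∧ W ⊓ Subgroup.centralizer (L : Set G) = ⁅V, X⁆ ⊓ ⁅V, X.map (MulAut.conj g).toMonoidHom⁆ := by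
  set Y := X.map (MulAut.conj g).toMonoidHom with hYdef
  have hgV : g ∈ Subgroup.normalizer (V : Set G) := hLV hg
  have hY : Y ≤ L := by
    rintro _ ⟨x, hx, rfl⟩
    rw [MulEquiv.coe_toMonoidHom, MulAut.conj_apply]
    exact L.mul_mem (L.mul_mem hg (hX hx)) (L.inv_mem hg)
  have hVYmap : ⁅V, Y⁆ = (⁅V, X⁆).map (MulAut.conj g).toMonoidHom := by
    rw [Subgroup.map_commutator, map_conj_eq_of_mem_normalizer V g hgV]
  have hqY : ⁅⁅V, Y⁆, Y⁆ = ⊥ := by
    rw [hVYmap, hYdef, ← Subgroup.map_commutator, hq, Subgroup.map_bot]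
  have ha := aux V L X Y hLV hX hY hgen
  have hVX : ⁅V, X⁆ ≤ V := (Subgroup.le_normalizer_iff_commutator_le_left).mp (hX.trans hLV)
  have hVY : ⁅V, Y⁆ ≤ V := (Subgroup.le_normalizer_iff_commutator_le_left).mp (hY.trans hLV)
  have hXc : ⁅V, X⁆ ≤ Subgroup.centralizer (X : Set G) :=
    Subgroup.commutator_eq_bot_iff_le_centralizer.mp hq
  have hYc : ⁅V, Y⁆ ≤ Subgroup.centralizer (Y : Set G) :=
    Subgroup.commutator_eq_bot_iff_le_centralizer.mp hqY
  -- an element centralized by X and Y is centralized by L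
  have hcentL : ∀ b : G, b ∈ Subgroup.centralizer (X : Set G) → b ∈ Subgroup.centralizer (Y : Set G) →
      b ∈ Subgroup.centralizer (L : Set G) := by
    intro b hbX hbY
    have h1 : X ≤ Subgroup.centralizer ({b} : Set G) := by
      intro x hx
      rw [Subgroup.mem_centralizer_iff]
      intro c hc
      rw [Set.mem_singleton_iff] at hc
      rw [hc]
      exact ((Subgroup.mem_centralizer_iff.mp hbX) x hx).symm
    have h2 : Y ≤ Subgroup.centralizer ({b} : Set G) := by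
      intro x hx
      rw [Subgroup.mem_centralizer_iff]
      intro c hc
      rw [Set.mem_singleton_iff] at hc
      rw [hc]
      exact ((Subgroup.mem_centralizer_iff.mp hbY) x hx).symm
    have h3 : L ≤ Subgroup.centralizer ({b} : Set G) := hgen ▸ sup_le h1 h2
    rw [Subgroup.mem_centralizer_iff]
    intro l hl
    have h4 := (Subgroup.mem_centralizer_iff.mp (h3 hl)) b rfl
    exact h4.symm
  -- part (b)
  have hb : W ⊓ Subgroup.centralizer (X : Set G) = ⁅V, X⁆ := by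
    apply le_antisymm
    · rintro w ⟨hwW, hwX⟩
      have hwW' : w ∈ ⁅V, X⁆ ⊔ ⁅V, Y⁆ := by
        rw [ha, ← hW]; exact hwW
      have hnorm : ⁅V, X⁆ ≤ Subgroup.normalizer ((⁅V, Y⁆ : Subgroup G) : Set G) :=
        hVX.trans (Subgroup.normalizer_commutator_ge_left V Y)
      obtain ⟨a, haX, b, hbY, rfl⟩ := mem_sup_exists_mul _ _ hnorm w hwW'
      have haC := hXc haX
      have hbC : b ∈ Subgroup.centralizer (X : Set G) := by
        have e1 : b = a⁻¹ * (a * b) := by group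
        rw [e1]
        exact Subgroup.mul_mem _ (Subgroup.inv_mem _ haC) hwX
      have hbL := hcentL b hbC (hYc hbY)
      have hgb : g * b = b * g := (Subgroup.mem_centralizer_iff.mp hbL) g hg
      rw [hVYmap] at hbY
      obtain ⟨c, hc, hcb⟩ := hbY
      rw [MulEquiv.coe_toMonoidHom, MulAut.conj_apply] at hcb
      have e2 : b = c := by
        calc b = g⁻¹ * (g * b) := by group
          _ = g⁻¹ * (b * g) := by rw [hgb]
          _ = g⁻¹ * ((g * c * g⁻¹) * g) := by rw [hcb]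
          _ = c := by group
      rw [e2]
      exact Subgroup.mul_mem _ haX hc
    · refine le_inf ?_ hXc
      rw [hW]; exact Subgroup.commutator_mono le_rfl hX
  refine ⟨?_, hb, ?_⟩
  · rw [hW]; exact ha
  apply le_antisymm
  · rintro w ⟨hwW, hwL⟩
    have hwX : w ∈ Subgroup.centralizer (X : Set G) :=
      Subgroup.centralizer_le hX hwL
    have hwVX : w ∈ ⁅V, X⁆ := by
      rw [← hb]; exact ⟨hwW, hwX⟩
    refine ⟨hwVX, ?_⟩
    rw [hVYmap]
    refine ⟨w, hwVX, ?_⟩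
    rw [MulEquiv.coe_toMonoidHom, MulAut.conj_apply]
    have hgw : g * w = w * g := (Subgroup.mem_centralizer_iff.mp hwL) g hg
    rw [hgw]; group
  · rintro w ⟨hw1, hw2⟩
    refine ⟨?_, hcentL w (hXc hw1) (hYc hw2)⟩
    rw [hW]; exact Subgroup.commutator_mono le_rfl hX hw1

end Cfsg.Agent.S2833
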