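import Cfsg.Statements.S2835
import Cfsg.Agent.Lib.H14.YMin

set_option autoImplicit false
open Cfsg

namespace Cfsg.Agent.S2835

/-- Let L be a finite group, L₀ a maximal subgroup, T a Sylow p-subgroup of L₀ and Y ≤ T, and suppose L is Y-minimal (generated by the conjugates of Y, with Y in exactly one maximal subgroup, necessarily L₀). Then N_L(T) ≤ L₀, O_p(L) ≤ L₀ and T is a Sylow p-subgroup of L; N_L(L₀) = L₀; L = ⟨Y, gYg⁻¹⟩ for each g ∈ L outside L₀; and if Y is abelian then Y ∩ gYg⁻¹ = C_Y(L) for each such g. -/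
theorem result {L : Type*} [Group L] [Finite L] {p : ℕ} [Fact p.Prime] (L₀ : Subgroup L) (hL₀ : IsCoatom L₀) (T : Sylow p ↥L₀) (Y : Subgroup L) (hYT : Y ≤ (T : Subgroup ↥L₀).map L₀.subtype) (hmin : Cfsg.IsMinimalOver Y) : Subgroup.normalizer (((T : Subgroup ↥L₀).map L₀.subtype : Subgroup L) : Set L) ≤ L₀ ∧ Cfsg.pCore p L ≤ L₀ ∧ (∃ P : Sylow p L, (P : Subgroup L) = (T : Subgroup ↥L₀).map L₀.subtype) ∧ Subgroup.normalizer (L₀ : Set L) = L₀ ∧ (∀ g : L, g ∉ L₀ → Y ⊔ Y.map (MulAut.conj g).toMonoidHom = ⊤) ∧ (IsMulCommutative ↥Y → ∀ g : L, g ∉ L₀ → Y ⊓ Y.map (MulAut.conj g).toMonoidHom = Y ⊓ Subgroup.center L) := by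
  have hT'L₀ := Cfsg.Agent.Lib.H14.map_subtype_le' L₀ (T : Subgroup ↥L₀)
  have hYL₀ : Y ≤ L₀ := hYT.trans hT'L₀
  have h3 := Cfsg.Agent.Lib.H14.ymin_sylow L₀ hL₀ T Y hYT hmin
  have h5 := Cfsg.Agent.Lib.H14.ymin_sup_conj L₀ hL₀ T Y hYT hmin
  refine ⟨Cfsg.Agent.Lib.H14.ymin_normalizer_le L₀ hL₀ T Y hYT hmin, ?_, h3,
    Cfsg.Agent.Lib.H14.ymin_normalizer_self L₀ hL₀ Y hYL₀ hmin, h5, ?_⟩
  · obtain ⟨P, hP⟩ := h3
    exact (Cfsg.Agent.Lib.H14.pCore_le_sylow P).trans (hP ▸ hT'L₀)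
  · intro hab g hg
    apply le_antisymm
    · rintro z ⟨hz1, hz2⟩
      refine Subgroup.mem_inf.mpr ⟨hz1, ?_⟩
      rw [Subgroup.mem_center_iff]
      have h1 : Y ≤ Subgroup.centralizer ({z} : Set L) := by
        intro y hy
        rw [Subgroup.mem_centralizer_iff]
        intro c hc
        rw [Set.mem_singleton_iff] at hc
        rw [hc]
        have := hab.is_comm.comm ⟨z, hz1⟩ ⟨y, hy⟩
        exact congrArg Subtype.val this
      have h2 : Y.map (MulAut.conj g).toMonoidHom ≤ Subgroup.centralizer ({z} : Set L) := by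
        obtain ⟨w, hw, hwz⟩ := hz2
        rintro _ ⟨y, hy, rfl⟩
        rw [Subgroup.mem_centralizer_iff]
        intro c hc
        rw [Set.mem_singleton_iff] at hc
        rw [hc, ← hwz]
        have := hab.is_comm.comm ⟨w, hw⟩ ⟨y, hy⟩
        have h4 : w * y = y * w := congrArg Subtype.val this
        rw [← map_mul, ← map_mul, h4]
      have h6 : (⊤ : Subgroup L) ≤ Subgroup.centralizer ({z} : Set L) := by
        rw [← h5 g hg]; exact sup_le h1 h2
      intro l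
      have := (Subgroup.mem_centralizer_iff.mp (h6 (Subgroup.mem_top l))) z rfl
      exact this.symm
    · rintro z ⟨hz1, hz2⟩
      refine Subgroup.mem_inf.mpr ⟨hz1, z, hz1, ?_⟩
      rw [MulEquiv.coe_toMonoidHom, MulAut.conj_apply]
      have h7 : g * z = z * g := (Subgroup.mem_center_iff.mp hz2) g
      rw [h7]; group

end Cfsg.Agent.S2835
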