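import Cfsg.Statements.S2836
import Cfsg.Agent.Lib.H14.YMin2

set_option autoImplicit false
open Cfsg

namespace Cfsg.Agent.S2836

theorem isNilpotent_of_le {G : Type*} [Group G] {K F : Subgroup G} (h : K ≤ F)
    [hF : Group.IsNilpotent F] : Group.IsNilpotent K := by
  have : Group.IsNilpotent ↥(K.subgroupOf F) := inferInstance
  exact (Group.isNilpotent_congr (Subgroup.subgroupOfEquivOfLe h)).mp this

open Cfsg.Agent.Lib.H14 in
theorem normal_part {L : Type*} [Group L] [Finite L] {p : ℕ} [Fact p.Prime] (L₀ : Subgroup L)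
    (hL₀ : IsCoatom L₀) (Y : Subgroup L) (hmin : Cfsg.IsMinimalOver Y) (P : Sylow p L)
    (hYP : Y ≤ (P : Subgroup L)) (hPL₀ : (P : Subgroup L) ≤ L₀)
    (N : Subgroup L) [hN : N.Normal] (hNL₀ : N ≤ L₀) :
    Cfsg.IsPClosed p ↥N ∧ Group.IsNilpotent (↥N ⧸ Cfsg.pCore p ↥N) ∧
      (Nat.card (↥N ⧸ Cfsg.pCore p ↥N)).Coprime p := by
  have hOn : (Cfsg.pCore p L).Normal := Cfsg.Agent.Lib.H14.pCore_normal
  obtain ⟨h1, h2⟩ := ymin_normal_sub_sylow L₀ hL₀ Y hmin P hYP hPL₀ N hNL₀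
  have hND : N ≤ L₀.normalCore := (Subgroup.normal_le_normalCore).mpr hNL₀
  refine ⟨?_, ?_, ?_⟩
  · apply isPClosed_of_normal_sylow (sylowInf P N)
    rw [h1]
    exact hOn.subgroupOf N
  · -- nilpotent
    let ψ : ↥N →* L ⧸ Cfsg.pCore p L := (QuotientGroup.mk' (Cfsg.pCore p L)).comp N.subtype
    have hker : Cfsg.pCore p ↥N = ψ.ker := by
      rw [h2]
      ext x
      rw [Subgroup.mem_subgroupOf, MonoidHom.mem_ker]
      show (x : L) ∈ Cfsg.pCore p L ↔ (QuotientGroup.mk' (Cfsg.pCore p L)) (x : L) = 1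
      rw [QuotientGroup.mk'_apply, QuotientGroup.eq_one_iff]
    have hrange : ψ.range ≤ frattini (L ⧸ Cfsg.pCore p L) := by
      rw [← ymin_core_map_eq_frattini L₀ hL₀ Y hmin P hYP hPL₀]
      rintro _ ⟨x, rfl⟩
      exact ⟨(x : L), hND x.2, rfl⟩
    have hfn : Group.IsNilpotent (frattini (L ⧸ Cfsg.pCore p L)) := frattini_nilpotent
    have hrn : Group.IsNilpotent ψ.range := isNilpotent_of_le hrange
    have e1 : ↥N ⧸ Cfsg.pCore p ↥N ≃* ↥N ⧸ ψ.ker := QuotientGroup.quotientMulEquivOfEq hker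
    have e2 : ↥N ⧸ ψ.ker ≃* ψ.range := QuotientGroup.quotientKerEquivRange ψ
    exact (Group.isNilpotent_congr (e1.trans e2)).mpr hrn
  · rw [← Subgroup.index_eq_card]
    have h3 : ¬ p ∣ ((sylowInf P N : Sylow p ↥N) : Subgroup ↥N).index := Sylow.not_dvd_index _
    rw [h1, ← h2] at h3
    exact ((Nat.Prime.coprime_iff_not_dvd (Fact.out : p.Prime)).mpr h3).symm

/-- Let L be a finite group, L₀ a maximal subgroup, T a Sylow p-subgroup of L₀, Y ≤ T, and suppose L is Y-minimal. Let D be the intersection of the conjugates of L₀ (the core of L₀). Then D contains O_p(L) and D/O_p(L) is the Frattini subgroup of L/O_p(L), so D is p-closed; and every normal subgroup N of L contained in L₀ is p-closed with N/O_p(N) a nilpotent group of order prime to p. -/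
theorem result {L : Type*} [Group L] [Finite L] {p : ℕ} [Fact p.Prime] (L₀ : Subgroup L) (hL₀ : IsCoatom L₀) (T : Sylow p ↥L₀) (Y : Subgroup L) (hYT : Y ≤ (T : Subgroup ↥L₀).map L₀.subtype) (hmin : Cfsg.IsMinimalOver Y) : (Cfsg.pCore p L ≤ L₀.normalCore ∧ (L₀.normalCore).map (QuotientGroup.mk' (Cfsg.pCore p L)) = frattini (L ⧸ Cfsg.pCore p L) ∧ Cfsg.IsPClosed p ↥(L₀.normalCore)) ∧ ∀ (N : Subgroup L) [N.Normal], N ≤ L₀ → Cfsg.IsPClosed p ↥N ∧ Group.IsNilpotent (↥N ⧸ Cfsg.pCore p ↥N) ∧ (Nat.card (↥N ⧸ Cfsg.pCore p ↥N)).Coprime p := by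
  obtain ⟨P, hP⟩ := Cfsg.Agent.Lib.H14.ymin_sylow L₀ hL₀ T Y hYT hmin
  have hYP : Y ≤ (P : Subgroup L) := by rw [hP]; exact hYT
  have hPL₀ : (P : Subgroup L) ≤ L₀ := by
    rw [hP]; exact Cfsg.Agent.Lib.H14.map_subtype_le' L₀ _
  have hO : Cfsg.pCore p L ≤ L₀ := (Cfsg.Agent.Lib.H14.pCore_le_sylow P).trans hPL₀
  have hOn : (Cfsg.pCore p L).Normal := Cfsg.Agent.Lib.H14.pCore_normal
  refine ⟨⟨?_, ?_, ?_⟩, ?_⟩
  · exact (Subgroup.normal_le_normalCore).mpr hO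
  · exact Cfsg.Agent.Lib.H14.ymin_core_map_eq_frattini L₀ hL₀ Y hmin P hYP hPL₀
  · exact (normal_part L₀ hL₀ Y hmin P hYP hPL₀ L₀.normalCore (Subgroup.normalCore_le L₀)).1
  · intro N hN hNL₀
    exact normal_part L₀ hL₀ Y hmin P hYP hPL₀ N hNL₀

end Cfsg.Agent.S2836
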