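import Cfsg.Statements.S2840
import Cfsg.Agent.Lib.H14.WeaklyClosed2

set_option autoImplicit false
open Cfsg

namespace Cfsg.Agent.S2840

open Cfsg.Agent.Lib.H14 in
theorem conj_le_of_subnormal {G : Type*} [Group G] [Finite G] {p : ℕ} [Fact p.Prime]
    (Q : Subgroup G) (hQp : IsPGroup p Q) (hwc : Cfsg.IsWeaklyClosedSubgroup p Q)
    (S : Subgroup G) (hS : S.IsSubnormal) (hQS : Q ≤ S) (g : G) : Q.map (cj g) ≤ S := by
  induction hS with
  | top => exact le_top
  | step S S₁ hle hS₁ hN ih =>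
    have h1 := ih (hQS.trans hle)
    obtain ⟨s, hs, hgs⟩ := wc_conj_in Q hQp hwc S₁ (hQS.trans hle) g h1
    rw [hgs]
    rw [Subgroup.normal_subgroupOf_iff_le_normalizer hle] at hN
    rw [← map_cj_eq_of_mem_nzr S s (hN hs)]
    exact Subgroup.map_mono hQS

open Cfsg.Agent.Lib.H14 in
theorem map_cj_le_of_mem {H : Type*} [Group H] (Q K : Subgroup H) (hQK : Q ≤ K) (k : H)
    (hk : k ∈ K) : Q.map (cj k) ≤ K :=
  (Subgroup.map_mono hQK).trans (map_cj_eq_of_mem_nzr K k (Subgroup.le_normalizer hk)).le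

open Cfsg.Agent.Lib.H14 in
theorem weakClosure_eq {H : Type*} [Group H] [Finite H] {p : ℕ} [Fact p.Prime] (Q : Subgroup H)
    (hQp : IsPGroup p Q) (hwc : Cfsg.IsWeaklyClosedSubgroup p Q) (K : Subgroup H) (hQK : Q ≤ K) :
    Cfsg.weakClosure Q K = ⨆ k : ↥K, Q.map (cj (k : H)) := by
  unfold Cfsg.weakClosure
  apply le_antisymm
  · apply iSup_le
    rintro ⟨g, hg⟩
    obtain ⟨k, hk, hgk⟩ := wc_conj_in Q hQp hwc K hQK g hg
    show Q.map (cj g) ≤ _
    rw [hgk]
    exact le_iSup (fun k : ↥K => Q.map (cj (k : H))) ⟨k, hk⟩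
  · apply iSup_le
    intro k
    have hk : Q.map (cj (k : H)) ≤ K := map_cj_le_of_mem Q K hQK k k.2
    exact le_iSup (fun g : {g : H // Q.map (MulAut.conj g).toMonoidHom ≤ K} =>
      Q.map (MulAut.conj (g : H)).toMonoidHom) ⟨k, hk⟩

/-- Let Q be a nontrivial p-subgroup of the finite group H that is a weakly closed subgroup and K a subgroup containing Q; let K° be the weak closure of Q in K (generated by the H-conjugates of Q inside K). Then K° is generated by the K-conjugates of Q, and K° is the subnormal closure of Q in K. -/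
theorem result {H : Type*} [Group H] [Finite H] {p : ℕ} [Fact p.Prime] (Q : Subgroup H) (hQp : IsPGroup p ↥Q) (hQ1 : Q ≠ ⊥) (hwc : Cfsg.IsWeaklyClosedSubgroup p Q) (K : Subgroup H) (hQK : Q ≤ K) (Kc : Subgroup H) (hKc : Kc = Cfsg.weakClosure Q K) : Kc = ⨆ k : ↥K, ((Q : Subgroup H).map (MulAut.conj ((k : H) : H)).toMonoidHom) ∧ Kc = (Cfsg.subnormalClosure (Q.subgroupOf K)).map K.subtype := by
  have h1 := weakClosure_eq Q hQp hwc K hQK
  rw [← hKc] at h1
  refine ⟨h1, ?_⟩
  have hKcK : Kc ≤ K := by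
    rw [h1]
    apply iSup_le
    intro k
    exact map_cj_le_of_mem Q K hQK k k.2
  apply le_antisymm
  · -- every K-conjugate of Q lies in the subnormal closure
    rw [h1]
    apply iSup_le
    intro k
    have h2 := conj_le_of_subnormal (Q.subgroupOf K) hQp.comap_subtype
      (Cfsg.Agent.Lib.H14.wc_subgroupOf Q hQp hwc K hQK) _
      (Cfsg.Agent.Lib.H14.subnormalClosure_isSubnormal _)
      (Cfsg.Agent.Lib.H14.le_subnormalClosure _) k
    have h3 := Subgroup.map_mono (f := K.subtype) h2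
    rw [Cfsg.Agent.Lib.H14.map_subtype_map_cj, Subgroup.map_subgroupOf_eq_of_le hQK] at h3
    exact h3
  · -- Kc is normal in K and contains Q
    have hn : (Kc.subgroupOf K).Normal := by
      rw [Subgroup.normal_subgroupOf_iff_le_normalizer hKcK]
      intro k hk
      apply Cfsg.Agent.Lib.H14.mem_nzr_of_map_cj_eq
      have key : ∀ k ∈ K, Kc.map (Cfsg.Agent.Lib.H14.cj k) ≤ Kc := by
        intro k hk
        rw [h1, Subgroup.map_iSup]
        apply iSup_le
        intro k'
        rw [← Cfsg.Agent.Lib.H14.map_cj_mul]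
        exact le_iSup (fun k : ↥K => Q.map (Cfsg.Agent.Lib.H14.cj (k : H))) ⟨k * k', K.mul_mem hk k'.2⟩
      apply le_antisymm (key k hk)
      have h2 := Subgroup.map_mono (f := Cfsg.Agent.Lib.H14.cj k) (key k⁻¹ (K.inv_mem hk))
      rw [Cfsg.Agent.Lib.H14.map_cj_inv_cj] at h2
      exact h2
    have hQKc : Q ≤ Kc := by
      rw [h1]
      have := le_iSup (fun k : ↥K => Q.map (Cfsg.Agent.Lib.H14.cj (k : H))) 1
      simp only [OneMemClass.coe_one] at this
      rw [Cfsg.Agent.Lib.H14.map_cj_one] at this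
      exact this
    have h2 := Cfsg.Agent.Lib.H14.subnormalClosure_le (Q.subgroupOf K) (Kc.subgroupOf K)
      hn.isSubnormal (by intro x hx; exact hQKc hx)
    have h3 := Subgroup.map_mono (f := K.subtype) h2
    rw [Subgroup.map_subgroupOf_eq_of_le hKcK] at h3
    exact h3

end Cfsg.Agent.S2840
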