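import Cfsg.Statements.S2841
import Cfsg.Agent.Lib.H14.WeaklyClosed2

set_option autoImplicit false
open Cfsg

namespace Cfsg.Agent.S2841

open scoped commutatorElement

open Cfsg.Agent.Lib.H14 in
theorem part1 {H : Type*} [Group H] [Finite H] {p : ℕ} [Fact p.Prime] (Q : Subgroup H)
    (hQp : IsPGroup p ↥Q) (hwc : Cfsg.IsWeaklyClosedSubgroup p Q) (N' : Subgroup H) [hN : N'.Normal]
    (n : H) (hn : n ∈ N') :
    ∃ a ∈ N' ⊓ Subgroup.normalizer ((Q : Subgroup H) : Set H), ∃ b ∈ ⁅N', Q⁆, n = a * b := by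
  have hMN : ⁅N', Q⁆ ≤ N' := Subgroup.commutator_le_left _ _
  have hQM : Q ≤ Subgroup.normalizer ((⁅N', Q⁆ : Subgroup H) : Set H) :=
    Subgroup.normalizer_commutator_ge_right _ _
  have h1 : Q.map (cj n⁻¹) ≤ Q ⊔ ⁅N', Q⁆ := by
    rintro _ ⟨q, hq, rfl⟩
    show n⁻¹ * q * n⁻¹⁻¹ ∈ _
    have e : n⁻¹ * q * n⁻¹⁻¹ = ⁅n⁻¹, q⁆ * q := by rw [commutatorElement_def]; group
    rw [e]
    exact Subgroup.mul_mem _ ((le_sup_right : ⁅N', Q⁆ ≤ Q ⊔ ⁅N', Q⁆)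
      (Subgroup.commutator_mem_commutator (N'.inv_mem hn) hq)) ((le_sup_left : Q ≤ Q ⊔ ⁅N', Q⁆) hq)
  obtain ⟨k, hk, hnk⟩ := wc_conj_in Q hQp hwc _ le_sup_left n⁻¹ h1
  have hk' : k ∈ ((Q ⊔ ⁅N', Q⁆ : Subgroup H) : Set H) := hk
  rw [Subgroup.coe_mul_of_left_le_normalizer_right _ _ hQM] at hk'
  obtain ⟨q, hq, m, hm, rfl⟩ := Set.mem_mul.mp hk'
  -- k = q * m = (q m q⁻¹) * q
  have hm' : q * m * q⁻¹ ∈ ⁅N', Q⁆ := (Subgroup.mem_normalizer_iff.mp (hQM hq) m).mp hm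
  have e1 : q * m = (q * m * q⁻¹) * q := by group
  rw [e1, map_cj_mul, map_cj_eq_of_mem_nzr Q q (Subgroup.le_normalizer hq)] at hnk
  have h2 := (map_cj_eq_map_cj_iff Q n⁻¹ (q * m * q⁻¹)).mp hnk
  have h3 := Subgroup.inv_mem _ h2
  have e2 : ((q * m * q⁻¹)⁻¹ * n⁻¹)⁻¹ = n * (q * m * q⁻¹) := by group
  rw [e2] at h3
  refine ⟨n * (q * m * q⁻¹), ⟨N'.mul_mem hn (hMN hm'), h3⟩, (q * m * q⁻¹)⁻¹,
    Subgroup.inv_mem _ hm', by group⟩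

/-- Let Q be a nontrivial p-subgroup of the finite group H that is a weakly closed subgroup and N a normal subgroup of H. Then N = N_N(Q)·[N, Q] and [N, Q] = (Q ∩ [N, Q])·[N, Q, Q]. -/
theorem result {H : Type*} [Group H] [Finite H] {p : ℕ} [Fact p.Prime] (Q : Subgroup H) (hQp : IsPGroup p ↥Q) (hQ1 : Q ≠ ⊥) (hwc : Cfsg.IsWeaklyClosedSubgroup p Q) (N' : Subgroup H) [N'.Normal] : (∀ n : H, n ∈ N' → ∃ a ∈ N' ⊓ Subgroup.normalizer ((Q : Subgroup H) : Set H), ∃ b ∈ ⁅N', Q⁆, n = a * b) ∧ (∀ c : H, c ∈ ⁅N', Q⁆ → ∃ a ∈ Q ⊓ ⁅N', Q⁆, ∃ b ∈ ⁅⁅N', Q⁆, Q⁆, c = a * b) := by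
  refine ⟨fun n hn => part1 Q hQp hwc N' n hn, ?_⟩
  have hMN : ⁅N', Q⁆ ≤ N' := Subgroup.commutator_le_left _ _
  have hnorm : Q ⊓ ⁅N', Q⁆ ≤ Subgroup.normalizer ((⁅⁅N', Q⁆, Q⁆ : Subgroup H) : Set H) :=
    inf_le_left.trans (Subgroup.normalizer_commutator_ge_right _ _)
  have key : ⁅N', Q⁆ ≤ (Q ⊓ ⁅N', Q⁆) ⊔ ⁅⁅N', Q⁆, Q⁆ := by
    rw [Subgroup.commutator_le]
    intro n hn q hq
    obtain ⟨a, ⟨haN, haQ⟩, b, hb, rfl⟩ := part1 Q hQp hwc N' n hn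
    have e : ⁅a * b, q⁆ = (a * ⁅b, q⁆ * a⁻¹) * ⁅a, q⁆ := by
      simp only [commutatorElement_def]; group
    rw [e]
    refine Subgroup.mul_mem _ ((le_sup_right : ⁅⁅N', Q⁆, Q⁆ ≤ _) ?_) ((le_sup_left : Q ⊓ ⁅N', Q⁆ ≤ _) ?_)
    · have haM : a ∈ Subgroup.normalizer ((⁅N', Q⁆ : Subgroup H) : Set H) :=
        Subgroup.normalizer_commutator_ge_left _ _ haN
      have ha1 : a ∈ Subgroup.normalizer ((⁅⁅N', Q⁆, Q⁆ : Subgroup H) : Set H) := by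
        have h5 : Subgroup.zpowers a ≤ Subgroup.normalizer ((⁅⁅N', Q⁆, Q⁆ : Subgroup H) : Set H) := by
          apply Cfsg.Agent.Lib.H14.le_nzr_commutator
          · rw [Subgroup.zpowers_le]; exact haM
          · rw [Subgroup.zpowers_le]; exact haQ
        exact h5 (Subgroup.mem_zpowers a)
      exact (Subgroup.mem_normalizer_iff.mp ha1 _).mp (Subgroup.commutator_mem_commutator hb hq)
    · refine ⟨?_, Subgroup.commutator_mem_commutator haN hq⟩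
      rw [commutatorElement_def]
      exact Q.mul_mem ((Subgroup.mem_normalizer_iff.mp haQ q).mp hq) (Q.inv_mem hq)
  intro c hc
  have hc' : c ∈ (((Q ⊓ ⁅N', Q⁆) ⊔ ⁅⁅N', Q⁆, Q⁆ : Subgroup H) : Set H) := key hc
  rw [Subgroup.coe_mul_of_left_le_normalizer_right _ _ hnorm] at hc'
  obtain ⟨a, ha, b, hb, rfl⟩ := Set.mem_mul.mp hc'
  exact ⟨a, ha, b, hb, rfl⟩

end Cfsg.Agent.S2841
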