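import Cfsg.Statements.S2843
import Cfsg.Agent.Lib.H14.Large2

set_option autoImplicit false
open Cfsg

namespace Cfsg.Agent.S2843

open scoped commutatorElement

open Cfsg.Agent.Lib.H14 in
/-- K1: `C_H(Y)` normalizes every conjugate of `Q` that normalizes `Y`. -/
theorem K1 {H : Type*} [Group H] [Finite H] {p : ℕ} [Fact p.Prime] (Q' : Subgroup H)
    (hQp : IsPGroup p ↥Q') (hLg : Cfsg.IsLarge Q') (Y : Subgroup H) (hYp : IsPGroup p ↥Y)
    (hY1 : Y ≠ ⊥) (hQY : Q' ≤ Subgroup.normalizer (Y : Set H)) :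
    Subgroup.centralizer (Y : Set H) ≤ Subgroup.normalizer (Q' : Set H) := by
  have hU1 := inf_centralizer_ne_bot_of_isPGroup Y Q' hYp hQp hY1 hQY
  refine le_trans ?_ (hLg.2 _ inf_le_right hU1)
  exact (Subgroup.centralizer_le inf_le_left).trans (Subgroup.centralizer_le_normalizer _)

open Cfsg.Agent.Lib.H14 in
theorem map_iSup_cj_eq {H : Type*} [Group H] {ι : Sort*} (S : ι → Subgroup H) (c : H)
    (hc : ∀ i, c ∈ Subgroup.normalizer ((S i : Subgroup H) : Set H)) :
    (⨆ i, S i).map (cj c) = ⨆ i, S i := by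
  rw [Subgroup.map_iSup]
  congr 1
  funext i
  exact map_cj_eq_of_mem_nzr (S i) c (hc i)

/-- Let Q be a nontrivial large p-subgroup of the finite group H, Q ≤ L ≤ H, and Y a nontrivial p-subgroup of H normalized by L. Let L° be the weak closure of Q in L (generated by the conjugates of Q inside L). Then L° equals the weak closure of Q in L·C_H(Y), and [L°, C_H(Y)] ≤ O_p(L°); in particular C_H(Y) normalizes L°. -/
theorem result {H : Type*} [Group H] [Finite H] {p : ℕ} [Fact p.Prime] (Q : Subgroup H) (hQp : IsPGroup p ↥Q) (hQ1 : Q ≠ ⊥) (hL : Cfsg.IsLarge Q) (L : Subgroup H) (hQL : Q ≤ L) (Y : Subgroup H) (hYp : IsPGroup p ↥Y) (hY1 : Y ≠ ⊥) (hLY : L ≤ Subgroup.normalizer ((Y : Subgroup H) : Set H)) : Cfsg.weakClosure Q L = Cfsg.weakClosure Q (L ⊔ Subgroup.centralizer ((Y : Subgroup H) : Set H)) ∧ ⁅Cfsg.weakClosure Q L, Subgroup.centralizer ((Y : Subgroup H) : Set H)⁆ ≤ (Cfsg.pCoreOf p (Cfsg.weakClosure Q L)) ∧ Subgroup.centralizer ((Y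 : Subgroup H) : Set H) ≤ Subgroup.normalizer (((Cfsg.weakClosure Q L) : Subgroup H) : Set H) := by
  have hwc := Cfsg.Agent.Lib.H14.large_wc Q hQp hQ1 hL
  have hCY : Subgroup.centralizer ((Y : Subgroup H) : Set H) ≤ Subgroup.normalizer ((Y : Subgroup H) : Set H) :=
    Subgroup.centralizer_le_normalizer _
  have hLC : L ≤ Subgroup.normalizer ((Subgroup.centralizer ((Y : Subgroup H) : Set H) : Subgroup H) : Set H) :=
    hLY.trans (Cfsg.Agent.Lib.H14.nzr_le_nzr_centralizer Y)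
  -- conjugates inside L are normalized by C
  have hKg : ∀ g : H, Q.map (MulAut.conj g).toMonoidHom ≤ L →
      Subgroup.centralizer ((Y : Subgroup H) : Set H) ≤
        Subgroup.normalizer ((Q.map (MulAut.conj g).toMonoidHom : Subgroup H) : Set H) := by
    intro g hg
    exact K1 _ (hQp.map _) (Cfsg.Agent.Lib.H14.large_map_cj Q hL g) Y hYp hY1 (hg.trans hLY)
  have hCQ : Subgroup.centralizer ((Y : Subgroup H) : Set H) ≤ Subgroup.normalizer ((Q : Subgroup H) : Set H) :=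
    K1 Q hQp hL Y hYp hY1 (hQL.trans hLY)
  -- (c)
  have hc : Subgroup.centralizer ((Y : Subgroup H) : Set H) ≤
      Subgroup.normalizer (((Cfsg.weakClosure Q L) : Subgroup H) : Set H) := by
    intro c hcC
    apply Cfsg.Agent.Lib.H14.mem_nzr_of_map_cj_eq
    unfold Cfsg.weakClosure
    exact map_iSup_cj_eq _ c (fun g => hKg g.1 g.2 hcC)
  -- (a)
  have ha : Cfsg.weakClosure Q L = Cfsg.weakClosure Q (L ⊔ Subgroup.centralizer ((Y : Subgroup H) : Set H)) := by
    apply le_antisymm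
    · unfold Cfsg.weakClosure
      apply iSup_le
      rintro ⟨g, hg⟩
      exact le_iSup (fun g : {g : H // Q.map (MulAut.conj g).toMonoidHom ≤
        L ⊔ Subgroup.centralizer ((Y : Subgroup H) : Set H)} =>
        Q.map (MulAut.conj (g : H)).toMonoidHom) ⟨g, hg.trans le_sup_left⟩
    · conv_lhs => unfold Cfsg.weakClosure
      apply iSup_le
      rintro ⟨g, hg⟩
      obtain ⟨m, hm, hgm⟩ := Cfsg.Agent.Lib.H14.wc_conj_in Q hQp hwc _ (hQL.trans le_sup_left) g hg
      have hm' : m ∈ ((L ⊔ Subgroup.centralizer ((Y : Subgroup H) : Set H) : Subgroup H) : Set H) := hm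
      rw [Subgroup.coe_mul_of_left_le_normalizer_right _ _ hLC] at hm'
      obtain ⟨l, hl, c, hcC, rfl⟩ := Set.mem_mul.mp hm'
      have h1 : Q.map (Cfsg.Agent.Lib.H14.cj g) = Q.map (Cfsg.Agent.Lib.H14.cj l) := by
        rw [hgm, Cfsg.Agent.Lib.H14.map_cj_mul,
          Cfsg.Agent.Lib.H14.map_cj_eq_of_mem_nzr Q c (hCQ hcC)]
      show Q.map (Cfsg.Agent.Lib.H14.cj g) ≤ _
      rw [h1]
      have hlL : Q.map (Cfsg.Agent.Lib.H14.cj l) ≤ L :=
        (Subgroup.map_mono hQL).trans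
          (Cfsg.Agent.Lib.H14.map_cj_eq_of_mem_nzr L l (Subgroup.le_normalizer hl)).le
      exact le_iSup (fun g : {g : H // Q.map (MulAut.conj g).toMonoidHom ≤ L} =>
        Q.map (MulAut.conj (g : H)).toMonoidHom) ⟨l, hlL⟩
  refine ⟨ha, ?_, hc⟩
  -- (b)
  have hWL : Cfsg.weakClosure Q L ≤ L := by
    unfold Cfsg.weakClosure
    apply iSup_le
    rintro ⟨g, hg⟩
    exact hg
  have hWO : Cfsg.weakClosure Q L ≤ Subgroup.normalizer ((Cfsg.pCoreOf p (Cfsg.weakClosure Q L) : Subgroup H) : Set H) :=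
    Cfsg.Agent.Lib.H14.pCoreOf_normalized p _
  -- D = W ∩ C
  have hDO : Cfsg.pCoreOf p (Cfsg.weakClosure Q L ⊓ Subgroup.centralizer ((Y : Subgroup H) : Set H)) ≤
      Cfsg.pCoreOf p (Cfsg.weakClosure Q L) :=
    Cfsg.Agent.Lib.H7.pCoreOf_le_pCoreOf_of_le_normalizer p inf_le_left
      (Cfsg.Agent.Lib.H14.le_nzr_inf _ _ _ Subgroup.le_normalizer (hWL.trans hLC))
  rw [Subgroup.commutator_le]
  intro w hw c hcC
  have key : w ∈ Cfsg.weakClosure Q L ∧ ∀ c ∈ Subgroup.centralizer ((Y : Subgroup H) : Set H),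
      ⁅w, c⁆ ∈ Cfsg.pCoreOf p (Cfsg.weakClosure Q L) := by
    have hw' := hw
    unfold Cfsg.weakClosure at hw'
    refine Subgroup.iSup_induction (C := fun w => w ∈ Cfsg.weakClosure Q L ∧
      ∀ c ∈ Subgroup.centralizer ((Y : Subgroup H) : Set H),
        ⁅w, c⁆ ∈ Cfsg.pCoreOf p (Cfsg.weakClosure Q L)) _ hw' ?_ ?_ ?_
    · rintro ⟨g, hg⟩ q hq
      have hqW : q ∈ Cfsg.weakClosure Q L :=
        (le_iSup (fun g : {g : H // Q.map (MulAut.conj g).toMonoidHom ≤ L} =>
          Q.map (MulAut.conj (g : H)).toMonoidHom) ⟨g, hg⟩) hq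
      refine ⟨hqW, fun c hcC => ?_⟩
      apply hDO
      have h1 : ⁅q, c⁆ ∈ Q.map (MulAut.conj g).toMonoidHom := by
        rw [commutatorElement_def]
        have h2 := (Subgroup.mem_normalizer_iff.mp (hKg g hg hcC) q⁻¹).mp (Subgroup.inv_mem _ hq)
        have e : q * c * q⁻¹ * c⁻¹ = q * (c * q⁻¹ * c⁻¹) := by group
        rw [e]
        exact Subgroup.mul_mem _ hq h2
      have h2 : ⁅q, c⁆ ∈ Subgroup.centralizer ((Y : Subgroup H) : Set H) := by
        rw [commutatorElement_def]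
        have h3 := (Subgroup.mem_normalizer_iff.mp (hLC (hg hq)) c).mp hcC
        exact Subgroup.mul_mem _ h3 (Subgroup.inv_mem _ hcC)
      -- Q' ∩ C is a normal p-subgroup of D
      have h3 : Q.map (MulAut.conj g).toMonoidHom ⊓ Subgroup.centralizer ((Y : Subgroup H) : Set H) ≤
          Cfsg.pCoreOf p (Cfsg.weakClosure Q L ⊓ Subgroup.centralizer ((Y : Subgroup H) : Set H)) := by
        apply Cfsg.Agent.Lib.H14.le_pCoreOf p
        · exact inf_le_inf (le_iSup (fun g : {g : H // Q.map (MulAut.conj g).toMonoidHom ≤ L} =>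
            Q.map (MulAut.conj (g : H)).toMonoidHom) ⟨g, hg⟩) le_rfl
        · exact Cfsg.Agent.Lib.H14.le_nzr_inf _ _ _ (inf_le_right.trans (hKg g hg))
            (inf_le_right.trans Subgroup.le_normalizer)
        · exact (hQp.map _).to_le inf_le_left
      exact h3 ⟨h1, h2⟩
    · refine ⟨Subgroup.one_mem _, fun c _ => ?_⟩
      rw [commutatorElement_one_left]
      exact Subgroup.one_mem _
    · rintro x y ⟨hxW, hx⟩ ⟨hyW, hy⟩
      refine ⟨Subgroup.mul_mem _ hxW hyW, fun c hcC => ?_⟩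
      have e : ⁅x * y, c⁆ = (x * ⁅y, c⁆ * x⁻¹) * ⁅x, c⁆ := by
        simp only [commutatorElement_def]; group
      rw [e]
      exact Subgroup.mul_mem _ ((Subgroup.mem_normalizer_iff.mp (hWO hxW) _).mp (hy c hcC)) (hx c hcC)
  exact key.2 c hcC

end Cfsg.Agent.S2843
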