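import Cfsg.Statements.S2845
import Cfsg.Agent.Lib.H14.Large2

set_option autoImplicit false
open Cfsg

namespace Cfsg.Agent.S2845

open Cfsg.Agent.Lib.H14 in
theorem pCoreOf_ne_bot {G : Type*} [Group G] {p : ℕ} (L : Subgroup G) (h : Cfsg.pCore p ↥L ≠ ⊥) :
    Cfsg.pCoreOf p L ≠ ⊥ := by
  intro hb
  apply h
  unfold Cfsg.pCoreOf at hb
  exact (Subgroup.map_eq_bot_iff_of_injective _ L.subtype_injective).mp hb

open Cfsg.Agent.Lib.H14 in
/-- Lemma B: `L` has characteristic `p`. -/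
theorem charP_of_isPGroup_centralizer {G : Type*} [Group G] {p : ℕ} (L : Subgroup G)
    (h : IsPGroup p ↥(Subgroup.centralizer (Cfsg.pCoreOf p L : Set G))) :
    Subgroup.centralizer (Cfsg.pCore p ↥L : Set ↥L) ≤ Cfsg.pCore p ↥L := by
  have hn : (Cfsg.pCore p ↥L).Normal := Cfsg.Agent.Lib.H14.pCore_normal
  have hCn : (Subgroup.centralizer (Cfsg.pCore p ↥L : Set ↥L)).Normal := Subgroup.normal_centralizer
  have hCp : IsPGroup p ↥(Subgroup.centralizer (Cfsg.pCore p ↥L : Set ↥L)) := by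
    have hle : (Subgroup.centralizer (Cfsg.pCore p ↥L : Set ↥L)).map L.subtype ≤
        Subgroup.centralizer (Cfsg.pCoreOf p L : Set G) := by
      rintro _ ⟨x, hx, rfl⟩
      rw [Subgroup.mem_centralizer_iff]
      rintro _ ⟨y, hy, rfl⟩
      have h1 := (Subgroup.mem_centralizer_iff.mp hx) y hy
      exact congrArg Subtype.val h1
    have h2 : IsPGroup p ↥((Subgroup.centralizer (Cfsg.pCore p ↥L : Set ↥L)).map L.subtype) :=
      h.to_le hle
    exact h2.of_injective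
      ((Subgroup.centralizer (Cfsg.pCore p ↥L : Set ↥L)).equivMapOfInjective L.subtype
        L.subtype_injective).toMonoidHom
      ((Subgroup.centralizer (Cfsg.pCore p ↥L : Set ↥L)).equivMapOfInjective L.subtype
        L.subtype_injective).injective
  exact le_sSup (show _ ∈ {N : Subgroup ↥L | N.Normal ∧ IsPGroup p ↥N} from ⟨hCn, hCp⟩)

open Cfsg.Agent.Lib.H14 in
theorem exists_conj_le_sylow {G : Type*} [Group G] [Finite G] {p : ℕ} [Fact p.Prime]
    (Q : Subgroup G) (hQp : IsPGroup p Q) (S : Sylow p G) :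
    ∃ g : G, Q.map (cj g) ≤ (S : Subgroup G) := by
  obtain ⟨S₀, hS₀⟩ := hQp.exists_le_sylow
  obtain ⟨g, rfl⟩ := MulAction.exists_smul_eq G S S₀
  refine ⟨g⁻¹, ?_⟩
  rw [map_cj_le_iff, inv_inv, ← sylow_smul_coe]
  exact hS₀

open Cfsg.Agent.Lib.H14 in
theorem map_cj_ne_bot {G : Type*} [Group G] (Q : Subgroup G) (hQ1 : Q ≠ ⊥) (g : G) :
    Q.map (cj g) ≠ ⊥ := by
  intro hb
  apply hQ1
  rw [← map_cj_cj_inv Q g, hb, Subgroup.map_bot]

/-- Let Q be a nontrivial large p-subgroup of the finite group H. Then for every subgroup L ≥ Q with O_p(L) ≠ 1, C_H(O_p(L)) is a p-group and L has characteristic p, and either the weak closure L° of Q in L equals Q or C_H(L°) = 1; for every subgroup R of H containing a Sylow p-subgroup of H with O_p(R) ≠ 1, C_H(O_p(R)) ≤ O_p(R); and H has parabolic characteristic p. -/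
theorem result {H : Type*} [Group H] [Finite H] {p : ℕ} [Fact p.Prime] (Q : Subgroup H) (hQp : IsPGroup p ↥Q) (hQ1 : Q ≠ ⊥) (hL : Cfsg.IsLarge Q) : (∀ L : Subgroup H, Q ≤ L → Cfsg.pCore p ↥L ≠ ⊥ → IsPGroup p ↥(Subgroup.centralizer (((Cfsg.pCoreOf p L) : Subgroup H) : Set H)) ∧ Subgroup.centralizer (Cfsg.pCore p ↥L : Set ↥L) ≤ Cfsg.pCore p ↥L ∧ (Cfsg.weakClosure Q L = Q ∨ Subgroup.centralizer (((Cfsg.weakClosure Q L) : Subgroup H) : Set H) = ⊥)) ∧ (∀ R : Subgroup H, Cfsg.IsParabolic p R → Cfsg.pCore p ↥R ≠ ⊥ → Subgroup.centralizer (((Cfsg.pCoreOf p R) : Subgroup H) : Set H) ≤ (Cfsg.pCoreOf p R)) ∧ Cfsg.IsOfParabolicCharacteristic p H := by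
  refine ⟨?_, ?_, ?_⟩
  · intro L hQL hO
    have hP1 := pCoreOf_ne_bot L hO
    have hC := Cfsg.Agent.Lib.H14.large_centralizer_pCoreOf_isPGroup Q hQp hL L hQL hP1
    refine ⟨hC, charP_of_isPGroup_centralizer L hC, ?_⟩
    by_cases hall : ∀ g : H, Q.map (Cfsg.Agent.Lib.H14.cj g) ≤ L → Q.map (Cfsg.Agent.Lib.H14.cj g) = Q
    · left
      unfold Cfsg.weakClosure
      apply le_antisymm
      · apply iSup_le
        rintro ⟨g, hg⟩
        exact (hall g hg).le
      · have h1 : Q.map (Cfsg.Agent.Lib.H14.cj (1 : H)) ≤ L := by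
          rw [Cfsg.Agent.Lib.H14.map_cj_one]; exact hQL
        have h2 := le_iSup (fun g : {g : H // Q.map (MulAut.conj g).toMonoidHom ≤ L} =>
          Q.map (MulAut.conj (g : H)).toMonoidHom) ⟨1, h1⟩
        have h3 : Q.map (MulAut.conj (1 : H)).toMonoidHom = Q := Cfsg.Agent.Lib.H14.map_cj_one Q
        simp only at h2
        rw [h3] at h2
        exact h2
    · right
      push Not at hall
      obtain ⟨g, hgL, hgQ⟩ := hall
      have hgN : g ∉ Subgroup.normalizer ((Q : Subgroup H) : Set H) :=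
        fun h => hgQ (Cfsg.Agent.Lib.H14.map_cj_eq_of_mem_nzr Q g h)
      have h1 := Cfsg.Agent.Lib.H14.large_centralizer_inf Q hQp hQ1 hL g hgN
      rw [eq_bot_iff, ← h1]
      have hle1 : Q ≤ Cfsg.weakClosure Q L := by
        have h0 : Q.map (Cfsg.Agent.Lib.H14.cj (1 : H)) ≤ L := by
          rw [Cfsg.Agent.Lib.H14.map_cj_one]; exact hQL
        have h2 := le_iSup (fun g : {g : H // Q.map (MulAut.conj g).toMonoidHom ≤ L} =>
          Q.map (MulAut.conj (g : H)).toMonoidHom) ⟨1, h0⟩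
        have h3 : Q.map (MulAut.conj (1 : H)).toMonoidHom = Q := Cfsg.Agent.Lib.H14.map_cj_one Q
        simp only at h2
        rw [h3] at h2
        exact h2
      have hle2 : Q.map (Cfsg.Agent.Lib.H14.cj g) ≤ Cfsg.weakClosure Q L :=
        le_iSup (fun g : {g : H // Q.map (MulAut.conj g).toMonoidHom ≤ L} =>
          Q.map (MulAut.conj (g : H)).toMonoidHom) ⟨g, hgL⟩
      exact le_inf (Subgroup.centralizer_le hle1) (Subgroup.centralizer_le hle2)
  · rintro R ⟨S, hSR⟩ hO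
    obtain ⟨g, hg⟩ := exists_conj_le_sylow Q hQp S
    have hC := Cfsg.Agent.Lib.H14.large_centralizer_pCoreOf_isPGroup (Q.map (Cfsg.Agent.Lib.H14.cj g))
      (hQp.map _) (Cfsg.Agent.Lib.H14.large_map_cj Q hL g) R (hg.trans hSR) (pCoreOf_ne_bot R hO)
    have hRC : R ≤ Subgroup.normalizer
        ((Subgroup.centralizer (Cfsg.pCoreOf p R : Set H) : Subgroup H) : Set H) :=
      (Cfsg.Agent.Lib.H14.pCoreOf_normalized p R).trans (Cfsg.Agent.Lib.H14.nzr_le_nzr_centralizer _)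
    have hCS : Subgroup.centralizer (Cfsg.pCoreOf p R : Set H) ≤ (S : Subgroup H) := by
      have h1 : IsPGroup p ↥(Subgroup.centralizer (Cfsg.pCoreOf p R : Set H) ⊔ (S : Subgroup H)) :=
        IsPGroup.to_sup_of_normal_left' hC S.2 (hSR.trans hRC)
      have h2 := S.is_maximal' h1 le_sup_right
      rw [← h2]
      exact le_sup_left
    exact Cfsg.Agent.Lib.H14.le_pCoreOf p R _ (hCS.trans hSR) hRC hC
  · intro R hRp hR1 hpar
    obtain ⟨S, hSR⟩ := hpar
    obtain ⟨g, hg⟩ := exists_conj_le_sylow Q hQp S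
    have hRO : R ≤ Cfsg.pCoreOf p (Subgroup.normalizer (R : Set H)) :=
      Cfsg.Agent.Lib.H14.le_pCoreOf p _ R Subgroup.le_normalizer le_rfl hRp
    have hO1 : Cfsg.pCoreOf p (Subgroup.normalizer (R : Set H)) ≠ ⊥ :=
      fun h => hR1 (le_bot_iff.mp (h ▸ hRO))
    have hC := Cfsg.Agent.Lib.H14.large_centralizer_pCoreOf_isPGroup (Q.map (Cfsg.Agent.Lib.H14.cj g))
      (hQp.map _) (Cfsg.Agent.Lib.H14.large_map_cj Q hL g) _ (hg.trans hSR) hO1
    exact charP_of_isPGroup_centralizer _ hC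

end Cfsg.Agent.S2845
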