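import Cfsg.Statements.S2849
import Cfsg.Agent.Lib.H14.PReduced4
import Cfsg.Agent.Lib.H14.ElemAb

set_option autoImplicit false
open Cfsg

namespace Cfsg.Agent.S2849

/-- Standing hypotheses: G a finite group, S a Sylow p-subgroup, Q a nontrivial large p-subgroup of G contained in S (C_G(Q) ≤ Q and N_G(U) ≤ N_G(Q) for all nontrivial U ≤ C_G(Q)), and M a subgroup containing S with the basic property (M ∈ 𝔐_G(S)); Y_M denotes the largest p-reduced normal subgroup of M and M† = M·C_G(Y_M). Suppose Y_M is asymmetric in G. Then for every subgroup R with Y_M ≤ R ≤ M†, the normal closure of Y_M in N_G(R) is elementary abelian. -/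
theorem result {G : Type*} [Group G] [Finite G] {p : ℕ} [Fact p.Prime] (S : Sylow p G) (Q : Subgroup G) (hQp : IsPGroup p ↥Q) (hQ1 : Q ≠ ⊥) (hQS : Q ≤ (S : Subgroup G)) (hQ : Cfsg.IsLarge Q) (M : Subgroup G) (hSM : (S : Subgroup G) ≤ M) (hM : Cfsg.IsInFrakM p M) (hasym : ¬ Cfsg.IsSymmetricIn (Cfsg.largestPReducedOf p M)) (R : Subgroup G) (hYR : (Cfsg.largestPReducedOf p M) ≤ R) (hRM : R ≤ (M ⊔ Subgroup.centralizer (((Cfsg.largestPReducedOf p M) : Subgroup G) : Set G))) : Cfsg.IsElementaryAbelian p ((Subgroup.normalClosure ((((Cfsg.largestPReducedOf p M)).subgroupOf (Subgroup.normalizer ((R : Subgroup G) : Set G)) : Subgroup ↥(Subgroup.normalizer ((R : Subgroup G) : Set G))) : Set ↥(Subgroup.normalizer ((R : Subgroup G) : Set G)))).map (Subgroup.normalizer ((R : Subgroup G) : Set G)).subtype) := by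
    obtain ⟨h1, h2, h3⟩ := Cfsg.Agent.Lib.H14.largestPReducedOf_props (p := p) M
    set Y := Cfsg.largestPReducedOf p M with hY
    set N := Subgroup.normalizer ((R : Subgroup G) : Set G) with hN
    have hMdY : M ⊔ Subgroup.centralizer (Y : Set G) ≤ Subgroup.normalizer (Y : Set G) :=
      sup_le h1 (Subgroup.centralizer_le_normalizer _)
    have hRY : R ≤ Subgroup.normalizer (Y : Set G) := hRM.trans hMdY
    have hcomm0 : ∀ g ∈ N, ⁅Y, Y.map (Cfsg.Agent.Lib.H14.cj g)⁆ = ⊥ := by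
      intro g hg
      by_contra hne
      apply hasym
      have hRg : R.map (Cfsg.Agent.Lib.H14.cj g) = R := Cfsg.Agent.Lib.H14.map_cj_eq_of_mem_nzr R g hg
      refine ⟨g, hne, le_inf ?_ ?_⟩
      · apply Subgroup.le_normalizer_iff_commutator_le_left.mp
        exact ((Subgroup.map_mono hYR).trans hRg.le).trans hRY
      · apply Subgroup.le_normalizer_iff_commutator_le_right.mp
        have := Cfsg.Agent.Lib.H14.nzr_map_cj Y g
        rw [this]
        exact (hYR.trans hRg.ge).trans (Subgroup.map_mono hRY)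
    set 𝒮 : Set G := {x | ∃ n ∈ N, ∃ y ∈ Y, x = n * y * n⁻¹} with h𝒮
    have hW : (Subgroup.normalClosure (((Y.subgroupOf N : Subgroup ↥N)) : Set ↥N)).map N.subtype ≤
        Subgroup.closure 𝒮 := by
      rw [Subgroup.normalClosure, MonoidHom.map_closure]
      apply Subgroup.closure_mono
      rintro _ ⟨x, hx, rfl⟩
      obtain ⟨y, hy, hc⟩ := Group.mem_conjugatesOfSet_iff.mp hx
      obtain ⟨n, rfl⟩ := isConj_iff.mp hc
      refine ⟨(n : G), n.2, (y : G), ?_, by simp⟩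
      exact Subgroup.mem_subgroupOf.mp hy
    apply Cfsg.Agent.Lib.H14.isElementaryAbelian_of_le _ _ _ hW
    apply Cfsg.Agent.Lib.H14.isElementaryAbelian_closure_of_comm
    · rintro x ⟨n, hn, y, hy, rfl⟩
      rw [conj_pow, h2.2 y hy]; group
    · rintro x ⟨n, hn, y, hy, rfl⟩ x' ⟨n', hn', y', hy', rfl⟩
      have hg : n⁻¹ * n' ∈ N := N.mul_mem (N.inv_mem hn) hn'
      have hc := Subgroup.commutator_eq_bot_iff_le_centralizer.mp (hcomm0 _ hg)
      have hmem : (n⁻¹ * n') * y' * (n⁻¹ * n')⁻¹ ∈ Y.map (Cfsg.Agent.Lib.H14.cj (n⁻¹ * n')) :=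
        ⟨y', hy', by simp only [MulEquiv.coe_toMonoidHom, MulAut.conj_apply]⟩
      have hyy : (n⁻¹ * n') * y' * (n⁻¹ * n')⁻¹ * y = y * ((n⁻¹ * n') * y' * (n⁻¹ * n')⁻¹) :=
        Subgroup.mem_centralizer_iff.mp (hc hy) _ hmem
      calc n * y * n⁻¹ * (n' * y' * n'⁻¹)
          = n * (y * ((n⁻¹ * n') * y' * (n⁻¹ * n')⁻¹)) * n⁻¹ := by group
        _ = n * ((n⁻¹ * n') * y' * (n⁻¹ * n')⁻¹ * y) * n⁻¹ := by rw [hyy]
        _ = n' * y' * n'⁻¹ * (n * y * n⁻¹) := by group

end Cfsg.Agent.S2849
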