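import Cfsg.Statements.S2850
import Cfsg.Agent.Lib.H14.Asym2

set_option autoImplicit false
open Cfsg

namespace Cfsg.Agent.S2850

/-- Standing hypotheses: G a finite group, S a Sylow p-subgroup, Q a nontrivial large p-subgroup of G contained in S (C_G(Q) ≤ Q and N_G(U) ≤ N_G(Q) for all nontrivial U ≤ C_G(Q)), and M a subgroup containing S with the basic property (M ∈ 𝔐_G(S)); Y_M denotes the largest p-reduced normal subgroup of M and M† = M·C_G(Y_M). Suppose Y_M is asymmetric in G. Then N_G(L) ≤ N_G(O_p(M)) ≤ M† for every p-subgroup L containing O_p(M); O_p(M) is a weakly closed subgroup of G; for every subgroup L containing O_p(M), L ∩ M† contains a Sylow p-subgroup of L; and two elements of Y_M conjugate in G are conjugate in M. -/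
theorem result {G : Type*} [Group G] [Finite G] {p : ℕ} [Fact p.Prime] (S : Sylow p G) (Q : Subgroup G) (hQp : IsPGroup p ↥Q) (hQ1 : Q ≠ ⊥) (hQS : Q ≤ (S : Subgroup G)) (hQ : Cfsg.IsLarge Q) (M : Subgroup G) (hSM : (S : Subgroup G) ≤ M) (hM : Cfsg.IsInFrakM p M) (hasym : ¬ Cfsg.IsSymmetricIn (Cfsg.largestPReducedOf p M)) : (∀ L : Subgroup G, IsPGroup p ↥L → (Cfsg.pCoreOf p M) ≤ L → Subgroup.normalizer ((L : Subgroup G) : Set G) ≤ Subgroup.normalizer (((Cfsg.pCoreOf p M) : Subgroup G) : Set G) ∧ Subgroup.normalizer (((Cfsg.pCoreOf p M) : Subgroup G) : Set G) ≤ (M ⊔ Subgroup.centralizer (((Cfsg.largestPReducedOf p M) : Subgroup G) : Set G))) ∧ Cfsg.IsWeaklyClosedSubgroup p (Cfsg.pCoreOf p M) ∧ (∀ L : Subgroup G, (Cfsg.pCoreOf p M) ≤ L → Cfsg.IsParabolic p ((L ⊓ (M ⊔ Subgroup.centralizer (((Cfsg.largestPReducedOf p M) : Subgroup G) : Set G))).subgroupOf L)) ∧ (∀ x ∈ (Cfsg.largestPReducedOf p M), ∀ g : G, g * x * g⁻¹ ∈ (Cfsg.largestPReducedOf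 p M) → ∃ m ∈ M, m * x * m⁻¹ = g * x * g⁻¹) := by
    open Cfsg.Agent.Lib.H14 in
    have hwc := pCoreOf_weaklyClosed S Q hQp hQS hQ M hSM hM hasym
    open Cfsg.Agent.Lib.H14 in
    have hND := nzr_pCoreOf_le_dagger S Q hQp hQS hQ M hSM hM
    open Cfsg.Agent.Lib.H14 in
    have hDp : IsPGroup p (Cfsg.pCoreOf p M) := pCoreOf_isPGroup p M
    refine ⟨fun L hL hDL => ⟨Cfsg.Agent.Lib.H14.wc_normalizer_le _ hwc L hL hDL, hND⟩, hwc,
      fun L hDL => Cfsg.Agent.Lib.H14.wc_inf_parabolic _ hDp hwc _ hND L hDL, ?_⟩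
    intro x hx g hgx
    obtain ⟨h1, h2, h3⟩ := Cfsg.Agent.Lib.H14.largestPReducedOf_props (p := p) M
    have hDC := Cfsg.Agent.Lib.H14.pCoreOf_le_centralizer_largestPReducedOf (p := p) M
    have hc1 : Cfsg.pCoreOf p M ≤ Subgroup.centralizer ({x} : Set G) :=
      hDC.trans (Subgroup.centralizer_le (Set.singleton_subset_iff.mpr hx))
    have hc2 : Cfsg.pCoreOf p M ≤ Subgroup.centralizer ({g * x * g⁻¹} : Set G) :=
      hDC.trans (Subgroup.centralizer_le (Set.singleton_subset_iff.mpr hgx))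
    obtain ⟨k, hk, hkg⟩ := Cfsg.Agent.Lib.H14.wc_fusion _ hDp hwc x g hc1 hc2
    have hMC : M ≤ Subgroup.normalizer
        ((Subgroup.centralizer (Cfsg.largestPReducedOf p M : Set G) : Subgroup G) : Set G) :=
      h1.trans (Cfsg.Agent.Lib.H14.nzr_le_nzr_centralizer _)
    have hmem : k * g ∈ ((M ⊔ Subgroup.centralizer (Cfsg.largestPReducedOf p M : Set G) :
        Subgroup G) : Set G) := hND hkg
    rw [Subgroup.coe_mul_of_left_le_normalizer_right _ _ hMC] at hmem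
    obtain ⟨m, hm, c, hc, hmc⟩ := hmem
    refine ⟨m, hm, ?_⟩
    have hcx : c * x = x * c := Subgroup.mem_centralizer_iff.mp hc x hx |>.symm
    have hkx : k * (g * x * g⁻¹) = g * x * g⁻¹ * k := Subgroup.mem_centralizer_singleton_iff.mp hk
    have e1 : g = k⁻¹ * (m * c) := by
      have : m * c = k * g := hmc
      rw [this]; group
    have e2 : m * x * m⁻¹ = k * (g * x * g⁻¹) * k⁻¹ := by
      rw [e1]
      calc m * x * m⁻¹ = m * (x * c) * c⁻¹ * m⁻¹ := by group
        _ = m * (c * x) * c⁻¹ * m⁻¹ := by rw [hcx]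
        _ = k * (k⁻¹ * (m * c) * x * (k⁻¹ * (m * c))⁻¹) * k⁻¹ := by group
    rw [e2, hkx]; group

end Cfsg.Agent.S2850
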