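import Cfsg.Statements.S2854
import Cfsg.Agent.Lib.H14.Asym5

set_option autoImplicit false
open Cfsg

namespace Cfsg.Agent.S2854

/-- Standing hypotheses: G a finite group, S a Sylow p-subgroup, Q a nontrivial large p-subgroup of G contained in S, M a subgroup containing S with the basic property (M ∈ 𝔐_G(S)); Y_M the largest p-reduced normal subgroup of M and M† = M·C_G(Y_M). Suppose Y_M is asymmetric in G, H ∈ ℌ_G(O_p(M)), and H ≤ N_G(gQg⁻¹) for some g ∈ G. Then gQg⁻¹ ≤ O_p(H·gQg⁻¹) ≤ N_G(O_p(M)) ≤ N_G(Y_M) = M†; H is normal in H·gQg⁻¹ with O^p(H) = O^p(H·gQg⁻¹); and H·gQg⁻¹ is p-irreducible. -/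
theorem result {G : Type*} [Group G] [Finite G] {p : ℕ} [Fact p.Prime] (S : Sylow p G) (Q : Subgroup G) (hQp : IsPGroup p ↥Q) (hQ1 : Q ≠ ⊥) (hQS : Q ≤ (S : Subgroup G)) (hQ : Cfsg.IsLarge Q) (M : Subgroup G) (hSM : (S : Subgroup G) ≤ M) (hM : Cfsg.IsInFrakM p M) (hasym : ¬ Cfsg.IsSymmetricIn (Cfsg.largestPReducedOf p M)) (H : Subgroup G) (hH : Cfsg.IsInFrakH p M H) (g : G) (hHQ : H ≤ Subgroup.normalizer ((((Q : Subgroup G).map (MulAut.conj (g : G)).toMonoidHom) : Subgroup G) : Set G)) : ((Q : Subgroup G).map (MulAut.conj (g : G)).toMonoidHom) ≤ Cfsg.pCoreOf p (H ⊔ ((Q : Subgroup G).map (MulAut.conj (g : G)).toMonoidHom)) ∧ Cfsg.pCoreOf p (H ⊔ ((Q : Subgroup G).map (MulAut.conj (g : G)).toMonoidHom)) ≤ Subgroup.normalizer (((Cfsg.pCoreOf p M) : Subgroup G) : Set G) ∧ Subgroup.normalizer (((Cfsg.pCoreOf p M) : Subgroup G) : Set G) ≤ Subgroup.normalizer (((Cfsg.largestPReducedOf p M) : Subgroup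 G) : Set G) ∧ Subgroup.normalizer (((Cfsg.largestPReducedOf p M) : Subgroup G) : Set G) = (M ⊔ Subgroup.centralizer (((Cfsg.largestPReducedOf p M) : Subgroup G) : Set G)) ∧ (H.subgroupOf (H ⊔ ((Q : Subgroup G).map (MulAut.conj (g : G)).toMonoidHom))).Normal ∧ (Cfsg.pResidual p ↥H).map H.subtype = (Cfsg.pResidual p ↥(H ⊔ ((Q : Subgroup G).map (MulAut.conj (g : G)).toMonoidHom))).map (H ⊔ ((Q : Subgroup G).map (MulAut.conj (g : G)).toMonoidHom)).subtype ∧ Cfsg.IsPIrreducible p ↥(H ⊔ ((Q : Subgroup G).map (MulAut.conj (g : G)).toMonoidHom)) := by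
    open Cfsg.Agent.Lib.H14 in
    have h : AsymHyp p S Q M := ⟨hQp, hQS, hQ, hSM, hM, hasym⟩
    have hHQ' : H ≤ Subgroup.normalizer ((Q.map (Cfsg.Agent.Lib.H14.cj g) : Subgroup G) : Set G) := hHQ
    refine ⟨Cfsg.Agent.Lib.H14.frakH_large_le_pCoreOf h g hHQ', ?_, h.nzrD_le_nzrY, h.nzrY_eq, ?_, ?_,
      Cfsg.Agent.Lib.H14.frakH_large_pirr h hH g hHQ'⟩
    · exact (h.normal_pgroup_le _ _ (hH.2.1.trans le_sup_left) (Cfsg.Agent.Lib.H14.pCoreOf_isPGroup p _)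
        (Cfsg.Agent.Lib.H14.pCoreOf_normalized p _)).trans inf_le_left
    · rw [Subgroup.normal_subgroupOf_iff_le_normalizer le_sup_left]
      exact Cfsg.Agent.Lib.H14.frakH_large_normal h hH g hHQ'
    · rw [Cfsg.Agent.Lib.H14.pResidual_map_eq, Cfsg.Agent.Lib.H14.pResidual_map_eq]
      exact Cfsg.Agent.Lib.H14.frakH_large_presOf h hH g hHQ'

end Cfsg.Agent.S2854
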