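import Cfsg.Statements.S2856
import Cfsg.Agent.Lib.H14.Amalgam9

set_option autoImplicit false
open Cfsg

namespace Cfsg.Agent.S2856

/-- Let (M₁, M₂) be an amalgam pair in X satisfying the rank-two standing hypothesis (characteristic p, the normalizers in M₁ and in M₂ of a Sylow p-subgroup of M₁ ∩ M₂ equal and contained in M₁ ∩ M₂, and strongly p-embedded residues), λ a vertex of the coset graph, L_λ the subgroup of its stabilizer generated by the p-elements, Q_λ = O_p of the stabilizer, O^p(L_λ) the subgroup of L_λ generated by its elements of order prime to p, and V_λ^{(k)} the subgroup generated by the Z_μ over the vertices μ at distance at most k from λ (Z_μ being generated by the Ω₁(Z(S)), S a Sylow p-subgroup of the stabilizer of μ). If n ≥ 1 and V_λ^{(n)} ≤ Q_λ, then O^p(L_λ) does not centralize V_λ^{(n)}/[V_λ^{(n)}, Q_λ], that is, [V_λ^{(n)}, O^p(L_λ)] is not contained in [V_λ^{(n)}, Q_λ]. -/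
theorem result {X : Type*} [Group X] {p : ℕ} [Fact p.Prime] (M₁ M₂ : Subgroup X) (h : Cfsg.IsSpeAmalgamPair p M₁ M₂) (lam : Cfsg.CosetVertex M₁ M₂) (n : ℕ) (hn : 1 ≤ n) (V : Subgroup X) (hV : V = Cfsg.vertexVIter p M₁ M₂ n lam) (hVQ : V ≤ Cfsg.vertexQ p lam) : ¬ ⁅V, ((Cfsg.pResidual p ↥(Cfsg.pElementClosure p (MulAction.stabilizer X lam))).map (Cfsg.pElementClosure p (MulAction.stabilizer X lam)).subtype)⁆ ≤ ⁅V, Cfsg.vertexQ p lam⁆ := by
  intro hle
  subst hV
  have hgen := h.1.1.1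
  have hconn := Cfsg.Agent.Lib.H14.cg_connected M₁ M₂ hgen
  obtain ⟨hf1, hf2⟩ := Cfsg.Agent.Lib.H14.charP_fac M₁ M₂ h.1
  have hfin1 : Finite M₁ := h.1.2.1
  have hfin2 : Finite M₂ := h.1.2.2.1
  have hfinlam := Cfsg.Agent.Lib.H14.stab_finite M₁ M₂ lam
  obtain ⟨μ, hadj⟩ := Cfsg.Agent.Lib.H14.exists_adj M₁ M₂ lam
  obtain ⟨m, rfl⟩ : ∃ m, n = m + 1 := ⟨n - 1, by omega⟩
  set Q := Cfsg.vertexQ p lam with hQ
  set Z := Cfsg.vertexZ p lam with hZ
  set U₀ := Cfsg.vertexVIter p M₁ M₂ m μ with hU₀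
  set V := Cfsg.vertexVIter p M₁ M₂ (m + 1) lam with hVdef
  set R := (Cfsg.pResidual p ↥(Cfsg.pElementClosure p (MulAction.stabilizer X lam))).map
    (Cfsg.pElementClosure p (MulAction.stabilizer X lam)).subtype with hR
  have fQlam : Q ≤ MulAction.stabilizer X lam := Cfsg.Agent.Lib.H14.pCoreOf_le p _
  have fQμ : Q ≤ MulAction.stabilizer X μ :=
    Cfsg.Agent.Lib.H14.vertexQ_le_stab M₁ M₂ hf1 hf2 lam μ hadj
  have fZV : Z ≤ V := by
    apply Cfsg.Agent.Lib.H14.vertexZ_le_vertexVIter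
    rw [SimpleGraph.dist_self]; exact Nat.zero_le _
  have fUV : U₀ ≤ V := Cfsg.Agent.Lib.H14.vertexVIter_le_of_adj M₁ M₂ hgen p m lam μ hadj
  have fnZ := Cfsg.Agent.Lib.H14.vertexZ_normalized M₁ M₂ p lam
  have fnU := Cfsg.Agent.Lib.H14.vertexVIter_normalized M₁ M₂ hgen p m μ
  have hQfin : Finite Q := Finite.of_injective (Subgroup.inclusion fQlam) (Subgroup.inclusion_injective _)
  have hQnil : Group.IsNilpotent Q := (Cfsg.Agent.Lib.H14.pCoreOf_isPGroup p _).isNilpotent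
  -- Step 1
  have step1 : V ≤ (Z ⊔ U₀) ⊔ ⁅V, Q⁆ := by
    conv_lhs => rw [hVdef]; unfold Cfsg.vertexVIter
    apply iSup_le
    rintro ⟨ν, hν⟩
    show Cfsg.vertexZ p ν ≤ _
    by_cases hνl : ν = lam
    · rw [hνl]; exact le_sup_left.trans le_sup_left
    · obtain ⟨w, hw⟩ := hconn.exists_walk_length_eq_dist lam ν
      cases w with
      | nil => exact absurd rfl hνl
      | cons hadj1 w' =>
        rename_i v₁
        rw [SimpleGraph.Walk.length_cons] at hw
        have hd : (Cfsg.cosetGraph M₁ M₂).dist v₁ ν ≤ m := by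
          have h1 := SimpleGraph.dist_le w'
          have hν' : (Cfsg.cosetGraph M₁ M₂).dist lam ν ≤ m + 1 := hν
          omega
        obtain ⟨g, hg, hgμ⟩ := Cfsg.Agent.Lib.H14.cg_nbr_trans M₁ M₂ lam μ v₁ hadj hadj1
        obtain ⟨r, hr, t, ht, rfl⟩ := Cfsg.Agent.Lib.H14.stab_factor M₁ M₂ h lam μ hadj g hg
        have htμ : t • μ = μ := MulAction.mem_stabilizer_iff.mp (Subgroup.mem_inf.mp ht).2
        rw [mul_smul, htμ] at hgμ
        have h2 : Cfsg.vertexZ p ν ≤ Cfsg.vertexVIter p M₁ M₂ m v₁ :=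
          Cfsg.Agent.Lib.H14.vertexZ_le_vertexVIter M₁ M₂ p m v₁ ν hd
        rw [← hgμ, Cfsg.Agent.Lib.H14.vertexVIter_smul M₁ M₂ hgen] at h2
        refine h2.trans ?_
        rintro _ ⟨u, hu, rfl⟩
        show (MulAut.conj r) u ∈ _
        rw [conj_eq_commutatorElement_mul]
        refine Subgroup.mul_mem _ ?_ ?_
        · apply (le_sup_right : ⁅V, Q⁆ ≤ (Z ⊔ U₀) ⊔ ⁅V, Q⁆)
          apply hle
          rw [Subgroup.commutator_comm]
          exact Subgroup.commutator_mem_commutator hr (fUV hu)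
        · exact (le_sup_right.trans le_sup_left : U₀ ≤ (Z ⊔ U₀) ⊔ ⁅V, Q⁆) hu
  -- Step 2
  have hYV : Z ⊔ U₀ ≤ V := sup_le fZV fUV
  have hQY : Q ≤ Subgroup.normalizer ((Z ⊔ U₀ : Subgroup X) : Set X) :=
    Cfsg.Agent.Lib.H14.le_nzr_sup Q Z U₀ (fQlam.trans fnZ) (fQμ.trans fnU)
  have step2 : V ≤ Z ⊔ U₀ :=
    Cfsg.Agent.Lib.H14.le_of_le_sup_commutator_of_nilpotent Q V (Z ⊔ U₀) hVQ (hYV.trans hVQ) hQY step1
  -- Step 3
  have step3 : ⁅V, Q⁆ ≤ U₀ := by
    refine (Subgroup.commutator_mono step2 le_rfl).trans ?_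
    apply Cfsg.Agent.Lib.H14.commutator_sup_le
    · have : ⁅Z, Q⁆ = ⊥ := by
        rw [Subgroup.commutator_eq_bot_iff_le_centralizer]
        exact Cfsg.Agent.Lib.H14.sylowCenterClosure_le_centralizer_pCoreOf p _
      rw [this]; exact bot_le
    · exact (Subgroup.le_normalizer_iff_commutator_le_left).mp (fQμ.trans fnU)
    · exact ((fZV.trans hVQ).trans fQμ).trans fnU
    · exact Subgroup.le_normalizer
  -- Step 4
  apply Cfsg.Agent.Lib.H14.amalgam_core_false M₁ M₂ h lam μ hadj U₀ (fUV.trans hVQ)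
  · apply Cfsg.Agent.Lib.H14.vertexZ_le_vertexVIter
    rw [SimpleGraph.dist_self]; exact Nat.zero_le _
  · exact fnU
  · rw [Subgroup.le_normalizer_iff_commutator_le_left]
    exact (Subgroup.commutator_mono fUV le_rfl).trans (hle.trans step3)

end Cfsg.Agent.S2856
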