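import Cfsg.Statements.S2861
import Cfsg.Agent.Lib.H14.FLPlumb
import Cfsg.Agent.Lib.H14.FLTwo
import Cfsg.Agent.Lib.H14.FLSL2
import Cfsg.Agent.Lib.H14.FLSz

set_option autoImplicit false
set_option linter.unusedVariables false
open Cfsg

namespace Cfsg.Agent.S2861

open Cfsg.Agent.Lib.H14.FL in
/-- the dihedral case: `|Y| = 2` -/
theorem concl_dihedral_fl {H : Type*} [Group H] {r : ℕ} (hr : r.Prime) (hr2 : r ≠ 2)
    (e : H ≃* DihedralGroup r) {Y N : Subgroup H} (hc : Conf 2 Y N) : Concl 2 Y N := by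
  have : Fact (Nat.Prime 2) := ⟨Nat.prime_two⟩
  have : NeZero r := ⟨hr.ne_zero⟩
  have : Finite H := Finite.of_equiv _ e.symm.toEquiv
  apply concl_of_card_two hc
  obtain ⟨k, hk⟩ := (IsPGroup.iff_card (p := 2)).1 (elemAb_isPGroup hc.hYea)
  have hcardH : Nat.card H = 2 * r := by
    rw [Nat.card_congr e.toEquiv, DihedralGroup.nat_card]
  have hdvd : 2 ^ k ∣ 2 * r := by
    rw [← hk, ← hcardH]
    exact Subgroup.card_subgroup_dvd_card Y
  have hk0 : k ≠ 0 := by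
    rintro rfl
    rw [pow_zero] at hk
    exact hc.hYne (Subgroup.card_eq_one.1 hk)
  have hk1 : k ≤ 1 := by
    by_contra hlt
    have h2 : 2 ≤ k := by omega
    have h4 : 2 ^ 2 ∣ 2 * r := (pow_dvd_pow 2 h2).trans hdvd
    have h5 : 2 ∣ r := by
      have : 2 * 2 ∣ 2 * r := by simpa using h4
      exact Nat.dvd_of_mul_dvd_mul_left (by norm_num) this
    exact hr2 ((Nat.prime_dvd_prime_iff_eq Nat.prime_two hr).1 h5).symm
  have : k = 1 := by omega
  rw [hk, this, pow_one]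

open Cfsg.Agent.Lib.H14.FL in
theorem result {G : Type*} [Group G] [Finite G] {p : ℕ} [Fact p.Prime] (S : Sylow p G) (Q : Subgroup G) (hQp : IsPGroup p ↥Q) (hQ1 : Q ≠ ⊥) (hQS : Q ≤ (S : Subgroup G)) (hQ : Cfsg.IsLarge Q) (M : Subgroup G) (hSM : (S : Subgroup G) ≤ M) (hM : Cfsg.IsInFrakM p M) (L : Subgroup G) (hL : Cfsg.IsInFrakL p M L) (NL : Subgroup G) (hNL : NL = L ⊓ Subgroup.normalizer (((Cfsg.largestPReducedOf p M) : Subgroup G) : Set G)) [hn : (((Cfsg.pCoreOf p L)).subgroupOf NL).Normal] : let Ybar : Subgroup (↥NL ⧸ ((Cfsg.pCoreOf p L)).subgroupOf NL) := (((Cfsg.largestPReducedOf p M)).subgroupOf NL).map (QuotientGroup.mk' (((Cfsg.pCoreOf p L)).subgroupOf NL)); Ybar ≠ ⊥ ∧ Ybar.Normal ∧ Cfsg.IsElementaryAbelian p Ybar ∧ ∀ (V : Subgroup (↥NL ⧸ ((Cfsg.pCoreOf p L)).subgroupOf NL)), V.Normal → Cfsg.IsElementaryAbelian p V → V ≠ ⊥ → V = Ybar := by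
  intro Ybar
  obtain ⟨ι, hinj, hYn, hYe, hconf, hcard⟩ := conf_of_frakL M L NL hL hNL
  have hconcl : Concl p (Ybar.map ι) ι.range := by
    obtain ⟨-, -, -, -, -, -, hiso⟩ := hL
    rcases hiso with ⟨F, _, _, hF, ⟨e⟩⟩ | ⟨rfl, F, _, _, m, hF, hF2, ⟨e⟩⟩ | ⟨rfl, r, hr, hr2, ⟨e⟩⟩
    · exact concl_sl2 p e hconf (hF.trans hcard.symm)
    · exact concl_sz m hF e hconf (hF2.trans hcard.symm)
    · exact concl_dihedral_fl hr hr2 e hconf
  refine ⟨?_, hYn, hYe, ?_⟩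
  · intro hbot
    apply hconf.hYne
    show Ybar.map ι = ⊥
    rw [hbot, Subgroup.map_bot]
  · intro V hVn hVe hVne
    have h1 := hconcl (V.map ι) (Subgroup.map_le_range _ _) ?_ (elemAb_map' _ hVe) ?_
    · exact Subgroup.map_injective hinj h1
    · rw [MonoidHom.range_eq_map]
      refine le_trans ?_ (Subgroup.le_normalizer_map ι)
      rw [Subgroup.normalizer_eq_top_iff.2 hVn]
    · intro hbot
      exact hVne ((Subgroup.map_eq_bot_iff_of_injective V hinj).1 hbot)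

end Cfsg.Agent.S2861
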