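import Cfsg.Statements.S2863
import Cfsg.Agent.Lib.H14.FMAsm
import Cfsg.Agent.Lib.H14.FMConf
import Cfsg.Agent.Lib.H14.FMTwo
import Cfsg.Agent.Lib.H14.FMSL2
import Cfsg.Agent.Lib.H14.FMSz

set_option autoImplicit false
set_option linter.unusedVariables false
open Cfsg

namespace Cfsg.Agent.S2863

open Cfsg.Agent.Lib.H14.FL Cfsg.Agent.Lib.H14.FM in
/-- the dihedral case: `|Y| = 2` -/
theorem inp_dihedral_fm {H : Type*} [Group H] {r : ℕ} (hr : r.Prime) (hr2 : r ≠ 2)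
    (e : H ≃* DihedralGroup r) {Y N : Subgroup H} (hc : Conf 2 Y N) : Inp 2 Y := by
  have : Fact (Nat.Prime 2) := ⟨Nat.prime_two⟩
  have : NeZero r := ⟨hr.ne_zero⟩
  have : Finite H := Finite.of_equiv _ e.symm.toEquiv
  apply inp_of_card_two hc
  obtain ⟨k, hk⟩ := (IsPGroup.iff_card (p := 2)).1 (elemAb_isPGroup hc.hYea)
  have hcardH : Nat.card H = 2 * r := by
    rw [Nat.card_congr e.toEquiv, DihedralGroup.nat_card]
  have hdvd : 2 ^ k ∣ 2 * r := by
    rw [← hk, ← hcardH]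
    exact Subgroup.card_subgroup_dvd_card Y
  have hk0 : k ≠ 0 := by
    rintro rfl
    rw [pow_zero] at hk
    exact hc.hYne (Subgroup.card_eq_one.1 hk)
  have hk1 : k ≤ 1 := by
    by_contra hlt
    have h2 : 2 ≤ k := by omega
    have h4 : 2 ^ 2 ∣ 2 * r := (pow_dvd_pow 2 h2).trans hdvd
    have h5 : 2 ∣ r := by
      have : 2 * 2 ∣ 2 * r := by simpa using h4
      exact Nat.dvd_of_mul_dvd_mul_left (by norm_num) this
    exact hr2 ((Nat.prime_dvd_prime_iff_eq Nat.prime_two hr).1 h5).symm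
  have : k = 1 := by omega
  rw [hk, this, pow_one]

open Cfsg.Agent.Lib.H14.FL Cfsg.Agent.Lib.H14.FM in
/-- Standing hypotheses: G a finite group, S a Sylow p-subgroup, Q a nontrivial large p-subgroup of G contained in S, M a subgroup containing S with the basic property (M ∈ 𝔐_G(S)); Y_M the largest p-reduced normal subgroup of M and M† = M·C_G(Y_M). Let L ∈ 𝔏_G(Y_M) (L ∈ 𝔏_G(Y_M): Y_M ≤ L; O_p(L) is the normal closure in L of Y_M ∩ O_p(L) and normalizes Y_M; L is Y_M-minimal of characteristic p with N_L(Y_M) its unique maximal subgroup over Y_M; and L/O_p(L) ≅ SL₂(q) with q = |Y_M : Y_M ∩ O_p(L)|, or p = 2 and L/O_p(L) is a Suzuki group Sz(q) or dihedral of order 2r, r an odd prime), A = O_p(L), and C = C_{Y_M}(L). Then every element h of L whose order is not a power of p acts without nontrivial fixed points on A/C: for a ∈ A, hah⁻¹a⁻¹ ∈ C implies a ∈ C. -/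
theorem result {G : Type*} [Group G] [Finite G] {p : ℕ} [Fact p.Prime] (S : Sylow p G) (Q : Subgroup G) (hQp : IsPGroup p ↥Q) (hQ1 : Q ≠ ⊥) (hQS : Q ≤ (S : Subgroup G)) (hQ : Cfsg.IsLarge Q) (M : Subgroup G) (hSM : (S : Subgroup G) ≤ M) (hM : Cfsg.IsInFrakM p M) (L : Subgroup G) (hL : Cfsg.IsInFrakL p M L) (h : G) (hh : h ∈ L) (hnp : ¬ ∃ k : ℕ, orderOf h = p ^ k) : ∀ a ∈ (Cfsg.pCoreOf p L), h * a * h⁻¹ * a⁻¹ ∈ (Cfsg.largestPReducedOf p M) ⊓ Subgroup.centralizer ((L : Subgroup G) : Set G) → a ∈ (Cfsg.largestPReducedOf p M) ⊓ Subgroup.centralizer ((L : Subgroup G) : Set G) := by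
  obtain ⟨hconf, hcard⟩ := conf_bar M L hL
  have hinp : Inp p (bar L (Cfsg.pCore p ↥L) (Cfsg.largestPReducedOf p M)) := by
    obtain ⟨-, -, -, -, -, -, hiso⟩ := hL
    rcases hiso with ⟨F, _, _, hF, ⟨e⟩⟩ | ⟨rfl, F, _, _, m, hF, hF2, ⟨e⟩⟩ | ⟨rfl, r, hr, hr2, ⟨e⟩⟩
    · exact inp_sl2 p e hconf (hF.trans hcard.symm)
    · exact inp_sz m hF e hconf (hF2.trans hcard.symm)
    · exact inp_dihedral_fm hr hr2 e hconf
  exact fpf_of_inp M L hL hinp h hh hnp

end Cfsg.Agent.S2863
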