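import Cfsg.Statements.S2872
import Cfsg.Agent.Lib.H9.TransferInvolution
import Cfsg.Agent.Lib.H16.ThompsonTransfer
import Cfsg.Agent.Lib.H1.PGroupBasic
import Cfsg.Agent.Lib.H9.StronglyPEmbedded3
-- import your own Cfsg.Agent.* helpers here

set_option autoImplicit false
open Cfsg

namespace Cfsg.Agent.S2872

open Cfsg.Agent.Lib.H9 Cfsg.Agent.Lib.H16 in
/-- Key transfer computation: a central involution of a Sylow 2-subgroup `S` lying outside a
subgroup `M` of index two of `S`, and centralized by `N_G(S)`, is mapped to `-1` by the transfer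
of the sign character of `S/M`. -/
theorem transfer_central_involution {G : Type*} [Group G] [Finite G] (S : Sylow 2 G)
    (M : Subgroup G) (hMS : M ≤ S) (hM : M.relIndex (S : Subgroup G) = 2)
    (z : G) (hzS : z ∈ (S : Subgroup G)) (hzC : ∀ s ∈ (S : Subgroup G), s * z = z * s)
    (hz2 : z * z = 1) (hzM : z ∉ M)
    (hN : ∀ g ∈ Subgroup.normalizer ((S : Subgroup G) : Set G), g * z * g⁻¹ = z) :
    thompsonTransfer S M hM z = -1 := by
  have hMn : ∀ h ∈ (S : Subgroup G), ∀ k ∈ M, h⁻¹ * k * h ∈ M := by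
    intro h hh k hk
    have hnorm : (M.subgroupOf (S : Subgroup G)).Normal := by
      apply Subgroup.normal_of_index_eq_two
      exact hM
    have := hnorm.conj_mem ⟨k, hMS hk⟩ (Subgroup.mem_subgroupOf.mpr hk) ⟨h, hh⟩⁻¹
    rw [Subgroup.mem_subgroupOf] at this
    simpa using this
  unfold thompsonTransfer
  rw [transfer_involution_eq_pow (sgnHom (S : Subgroup G) M hM) z hz2 M (-1)]
  · have hmod := card_invariant_modEq (p := 2) (P := ↥(S : Subgroup G)) (X := G ⧸ (S : Subgroup G))
      S.2 {q : G ⧸ (S : Subgroup G) | z • q = q ∧ q.out⁻¹ * z * q.out ∉ M} ?_ ?_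
    · have hodd : Odd (Nat.card {q : G ⧸ (S : Subgroup G) // z • q = q ∧ q.out⁻¹ * z * q.out ∉ M}) := by
        have h1 : Nat.card (G ⧸ (S : Subgroup G)) = (S : Subgroup G).index := rfl
        have h2 : ¬ 2 ∣ (S : Subgroup G).index := S.not_dvd_index
        rw [← h1] at h2
        rw [← Nat.not_even_iff_odd, even_iff_two_dvd]
        intro h3
        apply h2
        exact (Nat.modEq_zero_iff_dvd.mp (hmod.symm.trans (Nat.modEq_zero_iff_dvd.mpr h3)))
      exact hodd.neg_one_pow
    · intro s q hq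
      exact fixedSet_invariant hMn z (s : G) (hzC s s.2) q hq
    · intro q hq
      have hfix : ∀ s ∈ (S : Subgroup G), s • q = q := fun s hs => hq ⟨s, hs⟩
      refine ⟨hfix z hzS, ?_⟩
      have hconj : ∀ s ∈ (S : Subgroup G), q.out⁻¹ * s * q.out ∈ (S : Subgroup G) :=
        fun s hs => out_conj_mem_of_smul_eq s q (hfix s hs)
      have hn : q.out⁻¹ ∈ Subgroup.normalizer ((S : Subgroup G) : Set G) := by
        rw [mem_normalizer_iff_map_conj_eq]
        apply Subgroup.eq_of_le_of_card_ge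
        · rintro _ ⟨s, hs, rfl⟩
          have := hconj s hs
          simpa [MulAut.conj_apply] using this
        · rw [Subgroup.card_map_of_injective (MulAut.conj q.out⁻¹).injective]
      have := hN _ hn
      rw [inv_inv] at this
      rw [this]
      exact hzM
  · intro x hxS hxM
    rw [extendHom_of_mem _ hxS]
    exact sgnHom_of_not_mem _ M hM _ hxM
  · intro x hxM
    rw [extendHom_of_mem _ (hMS hxM)]
    exact sgnHom_of_mem _ M hM _ hxM


/-- Let S be a Sylow 2-subgroup of the finite group G. Then G has a proper normal subgroup of 2-power index (O²(G) ≠ G), or Ω₁(Z(S)) is contained in the Frattini subgroup of S, or N_G(S) acts nontrivially on Ω₁(Z(S)) by conjugation. -/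
theorem result {G : Type*} [Group G] [Finite G] (S : Sylow 2 G) : Cfsg.pResidual 2 G ≠ ⊤ ∨ Cfsg.omegaOne 2 ((S : Subgroup G) ⊓ Subgroup.centralizer ((S : Subgroup G) : Set G)) ≤ (frattini ↥(S : Subgroup G)).map (S : Subgroup G).subtype ∨ ∃ g ∈ Subgroup.normalizer ((S : Subgroup G) : Set G), ∃ z ∈ Cfsg.omegaOne 2 ((S : Subgroup G) ⊓ Subgroup.centralizer ((S : Subgroup G) : Set G)), g * z * g⁻¹ ≠ z := by
  by_contra hcon
  push Not at hcon
  obtain ⟨h1, h2, h3⟩ := hcon
  have h2' := h2
  unfold Cfsg.omegaOne at h2'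
  rw [Subgroup.closure_le] at h2'
  obtain ⟨z, ⟨hzZ, hz2⟩, hzΦ⟩ := Set.not_subset.mp h2'
  have hzS : z ∈ (S : Subgroup G) := hzZ.1
  have hzC : ∀ s ∈ (S : Subgroup G), s * z = z * s :=
    fun s hs => Subgroup.mem_centralizer_iff.mp hzZ.2 s hs
  have hzΩ : z ∈ Cfsg.omegaOne 2 ((S : Subgroup G) ⊓ Subgroup.centralizer ((S : Subgroup G) : Set G)) :=
    Subgroup.subset_closure ⟨hzZ, hz2⟩
  have hz' : (⟨z, hzS⟩ : ↥(S : Subgroup G)) ∉ frattini ↥(S : Subgroup G) :=
    fun h => hzΦ ⟨_, h, rfl⟩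
  rw [Cfsg.Agent.Lib.H1.frattini_eq_iInf] at hz'
  simp only [Subgroup.mem_iInf, not_forall] at hz'
  obtain ⟨M', hM', hzM'⟩ := hz'
  have hidx : M'.index = 2 :=
    Cfsg.Agent.Lib.H1.isPGroup_coatom_index (S.2 : IsPGroup 2 ↥(S : Subgroup G)) hM'
  have hMS : M'.map (S : Subgroup G).subtype ≤ (S : Subgroup G) := Subgroup.map_subtype_le _
  have hM : (M'.map (S : Subgroup G).subtype).relIndex (S : Subgroup G) = 2 := by
    unfold Subgroup.relIndex Subgroup.subgroupOf
    rw [Subgroup.comap_map_eq_self_of_injective (Subgroup.subtype_injective _)]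
    exact hidx
  have hzM : z ∉ M'.map (S : Subgroup G).subtype := by
    rintro ⟨w, hw, hwz⟩
    apply hzM'
    have : w = ⟨z, hzS⟩ := Subtype.ext hwz
    rwa [← this]
  have hV := transfer_central_involution S _ hMS hM z hzS hzC (by rw [← sq]; exact hz2) hzM
    (fun g hg => h3 g hg z hzΩ)
  have hker : Cfsg.pResidual 2 G ≤ (Cfsg.Agent.Lib.H16.thompsonTransfer S _ hM).ker := by
    unfold Cfsg.pResidual
    rw [Subgroup.closure_le]
    intro g hg
    rw [SetLike.mem_coe, MonoidHom.mem_ker]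
    have h4 : (Cfsg.Agent.Lib.H16.thompsonTransfer S _ hM g) ^ 2 = 1 := by
      rcases Int.units_eq_one_or (Cfsg.Agent.Lib.H16.thompsonTransfer S _ hM g) with h | h <;>
        rw [h] <;> simp
    have h5 : (Cfsg.Agent.Lib.H16.thompsonTransfer S _ hM g) ^ (orderOf g) = 1 := by
      rw [← map_pow, pow_orderOf_eq_one, map_one]
    have h6 := orderOf_dvd_of_pow_eq_one h4
    have h7 := orderOf_dvd_of_pow_eq_one h5
    have hg' : Nat.gcd (orderOf g) 2 = 1 := hg
    exact orderOf_eq_one_iff.mp (Nat.dvd_one.mp (hg' ▸ Nat.dvd_gcd h7 h6))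
  rw [h1] at hker
  have hzk : z ∈ (Cfsg.Agent.Lib.H16.thompsonTransfer S _ hM).ker := hker (Subgroup.mem_top z)
  rw [MonoidHom.mem_ker, hV] at hzk
  exact absurd hzk (by decide)


end Cfsg.Agent.S2872
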