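import Cfsg.Statements.S2873
import Cfsg.Agent.Lib.H14.DihQuot

set_option autoImplicit false
open Cfsg

namespace Cfsg.Agent.S2873

/-- Let G be a finite group and r an odd prime such that G ⧸ O₂(G) is dihedral of order 2r, and let R be a Sylow r-subgroup of G with C_{O₂(G)}(R) = 1. Then N_G(R) is dihedral of order 2r; for any involution a of N_G(R), every involution of G outside O₂(G) is conjugate to a; and |C_{O₂(G)}(a)|² = |O₂(G)|. -/
theorem result {G : Type*} [Group G] [Finite G] {r : ℕ} [Fact r.Prime] (hr : r ≠ 2) [hN : (Cfsg.pCore 2 G).Normal] (hquot : Nonempty (G ⧸ Cfsg.pCore 2 G ≃* DihedralGroup r)) (R : Sylow r G) (hC : Cfsg.pCore 2 G ⊓ Subgroup.centralizer ((R : Subgroup G) : Set G) = ⊥) : Nonempty (↥(Subgroup.normalizer ((R : Subgroup G) : Set G)) ≃* DihedralGroup r) ∧ ∀ a : G, a ∈ Subgroup.normalizer ((R : Subgroup G) : Set G) → orderOf a = 2 → (∀ b : G, orderOf b = 2 → b ∉ Cfsg.pCore 2 G → ∃ g : G, g * a * g⁻¹ = b) ∧ Nat.card ↥(Cfsg.pCore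 2 G ⊓ Subgroup.centralizer ({a} : Set G)) ^ 2 = Nat.card ↥(Cfsg.pCore 2 G) := by
  obtain ⟨e⟩ := hquot
  obtain ⟨ρ, i, hRz, C⟩ := Cfsg.Agent.Lib.H14.DihQuot.exists_ctx hr e R hC
  set π : G →* DihedralGroup r := e.toMonoidHom.comp (QuotientGroup.mk' (Cfsg.pCore 2 G)) with hπdef
  have hπ : Function.Surjective π := e.surjective.comp (QuotientGroup.mk'_surjective _)
  rw [hRz]
  have hone : (1 : G) ∈ Subgroup.normalizer (Subgroup.zpowers ρ : Set G) := Subgroup.one_mem _
  refine ⟨?_, ?_⟩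
  · -- N ≃* D_r
    have hbij : Function.Bijective (π.comp (Subgroup.normalizer (Subgroup.zpowers ρ : Set G)).subtype) := by
      constructor
      · intro n m h
        exact Subtype.ext (C.inj n m n.2 m.2 h)
      · intro d
        obtain ⟨n, hn, hd⟩ := C.exists_mem_nzr hπ d
        exact ⟨⟨n, hn⟩, hd⟩
    exact ⟨MulEquiv.ofBijective _ hbij⟩
  · intro a ha ha2
    have haa : a * a = 1 := by rw [← pow_two, ← ha2, pow_orderOf_eq_one]
    have ha1 : a ≠ 1 := by
      intro h; rw [h, orderOf_one] at ha2; norm_num at ha2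
    have hπa1 : π a ≠ 1 := by
      intro h
      exact ha1 (C.inj a 1 ha hone (by rw [h, map_one]))
    obtain ⟨j, hj⟩ := Cfsg.Agent.Lib.H14.DihQuot.exists_sr_of_sq hr (π a)
      (by rw [← map_mul, haa, map_one]) hπa1
    refine ⟨?_, ?_⟩
    · intro b hb2 hbQ
      have hbb : b * b = 1 := by rw [← pow_two, ← hb2, pow_orderOf_eq_one]
      have hπb1 : π b ≠ 1 := by
        intro h
        apply hbQ
        rw [← C.hker]; exact h
      obtain ⟨j', hj'⟩ := Cfsg.Agent.Lib.H14.DihQuot.exists_sr_of_sq hr (π b)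
        (by rw [← map_mul, hbb, map_one]) hπb1
      exact C.conj_inv hr hπ a ha haa j hj b hbb j' hj'
    · obtain ⟨haρ2, haρN, hπaρ⟩ := C.mul_rho a ha haa j hj
      obtain ⟨g, hg⟩ := C.conj_inv hr hπ a ha haa j hj (a * ρ) haρ2 (j + i) hπaρ
      have h1 := Cfsg.Agent.Lib.H14.DihQuot.card_inf_centralizer_conj_le (Cfsg.pCore 2 G) a g
      have h2 := Cfsg.Agent.Lib.H14.DihQuot.card_inf_centralizer_conj_le (Cfsg.pCore 2 G) (a * ρ) g⁻¹
      rw [hg] at h1
      have e2 : g⁻¹ * (a * ρ) * g⁻¹⁻¹ = a := by rw [← hg]; group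
      rw [e2] at h2
      have h3 := le_antisymm h1 h2
      have h4 := C.card_mul a ha haa j hj
      rw [← h3] at h4
      rw [pow_two]; exact h4

end Cfsg.Agent.S2873
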