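import Cfsg.Statements.S2879
import Cfsg.Agent.Lib.H14.DLike5

set_option autoImplicit false
open Cfsg

namespace Cfsg.Agent.S2879

/-- Let G be a finite solvable group with O(G) = 1 whose Sylow 2-subgroup T is dihedral of order at least 8 or semidihedral, with G ≠ T and Z(T) normal in G. Then G has a normal subgroup isomorphic to SL₂(3). -/
theorem result {G : Type*} [Group G] [Finite G] (hsol : IsSolvable G) (hO : Cfsg.oddCore G = ⊥) (T : Sylow 2 G) (hT : (∃ n : ℕ, 4 ≤ n ∧ Nonempty (↥(T : Subgroup G) ≃* DihedralGroup n)) ∨ Cfsg.IsQuasiDihedral ↥(T : Subgroup G)) (hne : (T : Subgroup G) ≠ ⊤) (hZ : ((T : Subgroup G) ⊓ Subgroup.centralizer ((T : Subgroup G) : Set G)).Normal) : ∃ U : Subgroup G, U.Normal ∧ Nonempty (↥U ≃* Matrix.SpecialLinearGroup (Fin 2) (ZMod 3)) := by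
    classical
    have hp2 : Fact (Nat.Prime 2) := ⟨Nat.prime_two⟩
    obtain ⟨c, z, d, h8⟩ := Cfsg.Agent.Lib.H14.DLike.exists_dl T hT
    obtain ⟨R, hRdef⟩ : ∃ R : Subgroup G, R = Cfsg.pCore 2 G := ⟨_, rfl⟩
    have hRn : R.Normal := hRdef ▸ Cfsg.Agent.Lib.H1.pCore_normal 2 G
    have hR2 : IsPGroup 2 R := hRdef ▸ Cfsg.Agent.Lib.H1.pCore_isPGroup 2 G
    have hRT : R ≤ (T : Subgroup G) := hRdef ▸ Cfsg.Agent.Lib.H1.pCore_le_sylow T
    have hCR : Subgroup.centralizer (R : Set G) ≤ R :=
      hRdef ▸ Cfsg.Agent.Lib.H16.centralizer_pCore_le_of_isSolvable 2 hsol hO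
    -- an element of odd prime order
    have hidx : (T : Subgroup G).index ≠ 1 := by
      rw [Ne, Subgroup.index_eq_one]; exact hne
    obtain ⟨q, hqdef⟩ : ∃ q, q = Nat.minFac (T : Subgroup G).index := ⟨_, rfl⟩
    have hq : q.Prime := hqdef ▸ Nat.minFac_prime hidx
    have hqi : q ∣ (T : Subgroup G).index := hqdef ▸ Nat.minFac_dvd _
    have hq2 : q ≠ 2 := by
      rintro rfl
      exact T.not_dvd_index hqi
    have hqG : q ∣ Nat.card G := hqi.trans (Subgroup.index_dvd_card _)
    have hqf : Fact q.Prime := ⟨hq⟩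
    obtain ⟨g, hgq⟩ := exists_prime_orderOf_dvd_card' q hqG
    have hodd : Odd (orderOf g) := by rw [hgq]; exact hq.odd_of_ne_two hq2
    have hgC : g ∉ Subgroup.centralizer (R : Set G) := by
      intro h
      have hgR : g ∈ R := hCR h
      obtain ⟨k, hk⟩ := (IsPGroup.iff_orderOf.mp hR2) ⟨g, hgR⟩
      rw [Subgroup.orderOf_mk, hgq] at hk
      have h2q : 2 ∣ q := by
        rcases k with _ | k
        · rw [pow_zero] at hk; exact absurd hk hq.one_lt.ne'
        · rw [hk, pow_succ]; exact dvd_mul_left 2 _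
      exact hq2 ((Nat.prime_dvd_prime_iff_eq Nat.prime_two hq).mp h2q).symm
    have hgN : g ∈ Subgroup.normalizer (R : Set G) := by
      rw [Subgroup.normalizer_eq_top]; exact Subgroup.mem_top g
    rcases d.analysis T.2 hRT hgN hodd hgC with ⟨hcard4, hexp⟩ | ⟨x, y, hxR, hyR, hx4, hx2, hyy, hyx, hR, hcard8⟩
    · -- Klein four case: contradiction
      exfalso
      obtain ⟨Z, hZdef⟩ : ∃ Z : Subgroup G,
        Z = (T : Subgroup G) ⊓ Subgroup.centralizer ((T : Subgroup G) : Set G) := ⟨_, rfl⟩
      have hZn : Z.Normal := hZdef ▸ hZ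
      have hZT : Z ≤ (T : Subgroup G) := hZdef ▸ inf_le_left
      have hZC : Z ≤ Subgroup.centralizer ((T : Subgroup G) : Set G) := hZdef ▸ inf_le_right
      have hZR : Z ≤ R := hRdef ▸ Cfsg.Agent.Lib.H1.le_pCore hZn (T.2.to_le hZT)
      have hzZ : z ∈ Z := hZdef ▸ ⟨d.z_memT, d.z_central⟩
      by_cases hZeq : Z = R
      · have hTC : (T : Subgroup G) ≤ Subgroup.centralizer (Z : Set G) :=
          Subgroup.le_centralizer_iff.mp hZC
        rw [hZeq] at hTC
        have := Subgroup.card_le_of_le (hTC.trans hCR)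
        omega
      · have hZ2 : Nat.card Z = 2 := by
          have h1 : Nat.card Z ∣ 2 ^ 2 := by
            have := Subgroup.card_dvd_of_le hZR
            rwa [hcard4] at this
          obtain ⟨m, hm, hm2⟩ := (Nat.dvd_prime_pow Nat.prime_two).mp h1
          interval_cases m
          · exfalso
            rw [pow_zero, Subgroup.card_eq_one] at hm2
            rw [hm2, Subgroup.mem_bot] at hzZ
            exact d.z_ne hzZ
          · rw [hm2, pow_one]
          · exfalso
            apply hZeq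
            apply Subgroup.eq_of_le_of_card_ge hZR
            rw [hcard4, hm2]; norm_num
        apply hgC
        apply Cfsg.Agent.Lib.H14.DLike.four_case hZR hcard4 hexp hZ2 hodd
        · intro u hu
          exact hRn.conj_mem u hu g
        · intro u
          constructor
          · intro h
            have := hZn.conj_mem _ h g⁻¹
            simpa [mul_assoc] using this
          · intro h
            exact hZn.conj_mem u h g
    · exact Cfsg.Agent.Lib.H14.DLike.q8_case hRn hCR hx4 hx2 hyy hyx hR hcard8 hq hgq hq2 hgC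

end Cfsg.Agent.S2879
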