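import Cfsg.Statements.S2882
import Cfsg.Agent.Lib.H14.M24Sylow

set_option autoImplicit false
open Cfsg

namespace Cfsg.Agent.S2882

/-- In the Mathieu group of degree 24 (realised as the automorphism group of the extended binary Golay code) every Sylow 2-subgroup is self-normalizing. -/
theorem result (S : Sylow 2 ↥Cfsg.M24) : Subgroup.normalizer ((S : Subgroup ↥Cfsg.M24) : Set ↥Cfsg.M24) = (S : Subgroup ↥Cfsg.M24) := by
    exact Cfsg.Agent.Lib.H14.M24Sylow.self_normalizing S

end Cfsg.Agent.S2882
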