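import Cfsg.Statements.S2896
import Cfsg.Agent.Lib.H14.CharP

set_option autoImplicit false
open Cfsg

namespace Cfsg.Agent.S2896

open Cfsg.Agent.Lib.H14 in
theorem exists_conj_le_sylow {G : Type*} [Group G] [Finite G] {p : ℕ} [Fact p.Prime]
    (S : Sylow p G) (T : Subgroup G) (hT : IsPGroup p T) :
    ∃ g : G, T ≤ (S : Subgroup G).map (cj g) := by
  obtain ⟨S', hS'⟩ := hT.exists_le_sylow
  obtain ⟨g, hg⟩ := MulAction.exists_smul_eq G S S'
  refine ⟨g, ?_⟩
  rw [← sylow_smul_coe, hg]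
  exact hS'

/-- Let p be a prime dividing the order of the finite group G, S a Sylow p-subgroup of G and X a subgroup of S. (i) If some nontrivial element z of the centre of X has F*(C_G(z)) = O_p(C_G(z)), then F*(N_G(X)) = O_p(N_G(X)). (ii) G has parabolic characteristic p if and only if F*(C_G(z)) = O_p(C_G(z)) for every nontrivial z ∈ Ω₁(Z(S)). (iii) If F*(C_G(z)) = O_p(C_G(z)) for every element z of S of order p, then G has local characteristic p. -/
theorem result {G : Type*} [Group G] [Finite G] {p : ℕ} [Fact p.Prime] (hdiv : p ∣ Nat.card G) (S : Sylow p G) (X : Subgroup G) (hX : X ≤ (S : Subgroup G)) : (∀ z : G, z ≠ 1 → z ∈ X → (∀ x ∈ X, x * z = z * x) → Cfsg.generalizedFittingSubgroup ↥(Subgroup.centralizer ({z} : Set G)) = Cfsg.pCore p ↥(Subgroup.centralizer ({z} : Set G)) → Cfsg.generalizedFittingSubgroup ↥(Subgroup.normalizer (X : Set G)) = Cfsg.pCore p ↥(Subgroup.normalizer (X : Set G))) ∧ (Cfsg.IsOfParabolicCharacteristic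 p G ↔ ∀ z : G, z ≠ 1 → z ∈ Cfsg.omegaOne p ((S : Subgroup G) ⊓ Subgroup.centralizer ((S : Subgroup G) : Set G)) → Cfsg.generalizedFittingSubgroup ↥(Subgroup.centralizer ({z} : Set G)) = Cfsg.pCore p ↥(Subgroup.centralizer ({z} : Set G))) ∧ ((∀ z : G, z ∈ (S : Subgroup G) → orderOf z = p → Cfsg.generalizedFittingSubgroup ↥(Subgroup.centralizer ({z} : Set G)) = Cfsg.pCore p ↥(Subgroup.centralizer ({z} : Set G))) → Cfsg.IsOfLocalCharacteristic p G) := by
  have hpp : p.Prime := Fact.out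
  refine ⟨?_, ⟨?_, ?_⟩, ?_⟩
  · intro z hz1 hzX hzc h
    exact Cfsg.Agent.Lib.H14.fstar_normalizer_of_central p X (S.2.to_le hX) z hzX hzc h
  · intro hG z hz1 hz
    obtain ⟨hzS, hzc, hzp⟩ := Cfsg.Agent.Lib.H14.mem_oz_props p (S : Subgroup G) z hz
    have hzP : IsPGroup p (Subgroup.zpowers z) :=
      S.2.to_le ((Subgroup.zpowers_le).mpr hzS)
    apply Cfsg.Agent.Lib.H14.fstar_centralizer_of_normalizer p z hzP
    apply Cfsg.Agent.Lib.H7.generalizedFittingSubgroup_eq_pCore_of_centralizer_le p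
    apply hG (Subgroup.zpowers z) hzP
    · intro h
      apply hz1
      have : z ∈ (⊥ : Subgroup G) := by rw [← h]; exact Subgroup.mem_zpowers z
      exact Subgroup.mem_bot.mp this
    · refine ⟨S, ?_⟩
      refine le_trans ?_ (Cfsg.Agent.Lib.H14.centralizer_singleton_le_nzr_zpowers z)
      intro s hs
      rw [Subgroup.mem_centralizer_singleton_iff]
      exact hzc s hs
  · intro hyp R hR hR1 hpar
    obtain ⟨S', hS'⟩ := hpar
    obtain ⟨g, hg⟩ := MulAction.exists_smul_eq G S S'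
    have hS'c : (S' : Subgroup G) = (S : Subgroup G).map (Cfsg.Agent.Lib.H14.cj g) := by
      rw [← hg]; exact Cfsg.Agent.Lib.H14.sylow_smul_coe S g
    have hSle : (S : Subgroup G) ≤
        Subgroup.normalizer (((R.map (Cfsg.Agent.Lib.H14.cj g⁻¹) : Subgroup G)) : Set G) := by
      rw [Cfsg.Agent.Lib.H14.nzr_map_cj, ← Cfsg.Agent.Lib.H14.map_cj_le_iff, ← hS'c]
      exact hS'
    have hR'p : IsPGroup p ↥(R.map (Cfsg.Agent.Lib.H14.cj g⁻¹)) := hR.map _
    have hR'1 : R.map (Cfsg.Agent.Lib.H14.cj g⁻¹) ≠ ⊥ := by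
      intro h
      apply hR1
      have := Cfsg.Agent.Lib.H14.map_cj_inv_cj R g
      rw [h, Subgroup.map_bot] at this
      exact this.symm
    have h1 := Cfsg.Agent.Lib.H14.charP_nzr_of_sylow_le p S _ hR'p hR'1 hSle hyp
    exact Cfsg.Agent.Lib.H14.charP_nzr_conj' p _ R g (Cfsg.Agent.Lib.H14.map_cj_inv_cj R g).symm h1
  · intro hyp
    refine ⟨hdiv, ?_⟩
    intro T hT hT1
    obtain ⟨g, hg⟩ := exists_conj_le_sylow S T hT
    have hT'S : T.map (Cfsg.Agent.Lib.H14.cj g⁻¹) ≤ (S : Subgroup G) := by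
      rw [Cfsg.Agent.Lib.H14.map_cj_le_iff, inv_inv]; exact hg
    have hT'p : IsPGroup p ↥(T.map (Cfsg.Agent.Lib.H14.cj g⁻¹)) := hT.map _
    have hT'1 : T.map (Cfsg.Agent.Lib.H14.cj g⁻¹) ≠ ⊥ := by
      intro h
      apply hT1
      have := Cfsg.Agent.Lib.H14.map_cj_inv_cj T g
      rw [h, Subgroup.map_bot] at this
      exact this.symm
    obtain ⟨t, htT, hto, htc⟩ := Cfsg.Agent.Lib.H7.exists_orderOf_eq_prime_central p hT'p hT'1
    have h1 := Cfsg.Agent.Lib.H14.charP_normalizer_of_central p _ hT'p t htT htc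
      (hyp t (hT'S htT) hto)
    exact Cfsg.Agent.Lib.H14.charP_nzr_conj' p _ T g (Cfsg.Agent.Lib.H14.map_cj_inv_cj T g).symm h1

end Cfsg.Agent.S2896
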