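import Cfsg.Statements.S2897
import Cfsg.Agent.Lib.H14.CharP2

set_option autoImplicit false
open Cfsg

namespace Cfsg.Agent.S2897

open Cfsg.Agent.Lib.H14 in
theorem map_centralizer_eq {G : Type*} [Group G] (G₁ : Subgroup G) [G₁.Normal] (z₁ : ↥G₁) :
    (Subgroup.centralizer ({z₁} : Set ↥G₁)).map G₁.subtype =
      Subgroup.centralizer ({(z₁ : G)} : Set G) ⊓ G₁ := by
  ext x
  constructor
  · rintro ⟨y, hy, rfl⟩
    refine Subgroup.mem_inf.mpr ⟨?_, y.2⟩
    rw [SetLike.mem_coe, Subgroup.mem_centralizer_singleton_iff] at hy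
    rw [Subgroup.mem_centralizer_singleton_iff]
    exact congrArg Subtype.val hy
  · intro hx
    obtain ⟨h1, h2⟩ := Subgroup.mem_inf.mp hx
    refine ⟨⟨x, h2⟩, ?_, rfl⟩
    rw [SetLike.mem_coe, Subgroup.mem_centralizer_singleton_iff]
    rw [Subgroup.mem_centralizer_singleton_iff] at h1
    exact Subtype.ext h1

/-- Let p be a prime dividing the order of the finite group G, suppose G has parabolic characteristic p, let S be a Sylow p-subgroup of G and G₁ a normal subgroup of G. If Ω₁(Z(S ∩ G₁)) is nontrivial and contained in Ω₁(Z(S)), then G₁ has parabolic characteristic p. -/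
theorem result {G : Type*} [Group G] [Finite G] {p : ℕ} [Fact p.Prime] (hdiv : p ∣ Nat.card G) (hG : Cfsg.IsOfParabolicCharacteristic p G) (S : Sylow p G) (G₁ : Subgroup G) [G₁.Normal] (hne : Cfsg.omegaOne p (((S : Subgroup G) ⊓ G₁) ⊓ Subgroup.centralizer (((S : Subgroup G) ⊓ G₁ : Subgroup G) : Set G)) ≠ ⊥) (hle : Cfsg.omegaOne p (((S : Subgroup G) ⊓ G₁) ⊓ Subgroup.centralizer (((S : Subgroup G) ⊓ G₁ : Subgroup G) : Set G)) ≤ Cfsg.omegaOne p ((S : Subgroup G) ⊓ Subgroup.centralizer ((S : Subgroup G) : Set G))) : Cfsg.IsOfParabolicCharacteristic p ↥G₁ := by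
  have hpp : p.Prime := Fact.out
  apply Cfsg.Agent.Lib.H14.parabolicChar_of_fstar_centralizer p (Cfsg.Agent.Lib.H14.sylowInf S G₁)
  intro z₁ hz1 hz
  obtain ⟨hzS, hzc, hzp⟩ := Cfsg.Agent.Lib.H14.mem_oz_props p _ z₁ hz
  have hzS' : (z₁ : G) ∈ (S : Subgroup G) ⊓ G₁ := by
    have := hzS
    rw [Cfsg.Agent.Lib.H14.sylowInf_coe, Subgroup.mem_subgroupOf] at this
    exact this
  have hzc' : (z₁ : G) ∈ Subgroup.centralizer (((S : Subgroup G) ⊓ G₁ : Subgroup G) : Set G) := by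
    rw [Subgroup.mem_centralizer_iff]
    intro g hg
    have hgG : g ∈ G₁ := (Subgroup.mem_inf.mp hg).2
    have := hzc ⟨g, hgG⟩ (by rw [Cfsg.Agent.Lib.H14.sylowInf_coe, Subgroup.mem_subgroupOf]; exact hg)
    exact congrArg Subtype.val this
  have hzO : (z₁ : G) ∈ Cfsg.omegaOne p (((S : Subgroup G) ⊓ G₁) ⊓
      Subgroup.centralizer (((S : Subgroup G) ⊓ G₁ : Subgroup G) : Set G)) := by
    unfold Cfsg.omegaOne
    refine Subgroup.subset_closure ⟨Subgroup.mem_inf.mpr ⟨hzS', hzc'⟩, ?_⟩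
    have := congrArg Subtype.val hzp
    simpa using this
  have hz1' : (z₁ : G) ≠ 1 := fun h => hz1 (Subtype.ext h)
  have hF := Cfsg.Agent.Lib.H14.fstar_centralizer_of_parabolicChar p hG S (z₁ : G) hz1' (hle hzO)
  have hK := Cfsg.Agent.Lib.H14.fstar_eq_pCore_of_normal_le p
    (Subgroup.centralizer ({(z₁ : G)} : Set G))
    ((Subgroup.centralizer ({z₁} : Set ↥G₁)).map G₁.subtype)
    (by rw [map_centralizer_eq]; exact inf_le_left)
    (by
      rw [map_centralizer_eq]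
      apply Cfsg.Agent.Lib.H14.le_nzr_inf
      · exact Subgroup.le_normalizer
      · rw [Subgroup.normalizer_eq_top]; exact le_top)
    hF
  exact Cfsg.Agent.Lib.H14.fstar_eq_pCore_of_equiv p
    (Subgroup.equivMapOfInjective _ G₁.subtype G₁.subtype_injective).symm hK

end Cfsg.Agent.S2897
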