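import Cfsg.Statements.S2898
import Cfsg.Agent.Lib.H15.PCoreOf
import Cfsg.Agent.Lib.H15.PPrime
import Cfsg.Agent.Lib.H22.PPrimeCore
import Cfsg.Agent.Lib.H10.Crit19

set_option autoImplicit false
open Cfsg

namespace Cfsg.Agent.S2898

open Cfsg.Agent.Lib.H15 in
/-- step (2): the odd core meets a parabolic 2-local trivially. -/
theorem step2 {G : Type*} [Group G] [Finite G] (hG : Cfsg.IsOfParabolicCharacteristic 2 G)
    (O : Subgroup G) (hOn : O.Normal) (hOodd : (Nat.card O).Coprime 2)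
    (S : Sylow 2 G) (R : Subgroup G) (hR2 : IsPGroup 2 R) (hR : R ≠ ⊥)
    (hSR : (S : Subgroup G) ≤ Subgroup.normalizer (R : Set G)) :
    O ⊓ Subgroup.normalizer (R : Set G) = ⊥ := by
  haveI : Fact (Nat.Prime 2) := ⟨Nat.prime_two⟩
  have h1 := hG R hR2 hR ⟨S, hSR⟩
  rw [hasCharP_iff] at h1
  set N := Subgroup.normalizer (R : Set G) with hNdef
  set Q := Cfsg.pCoreOf 2 N with hQdef
  have hQ2 : IsPGroup 2 Q := pcoreOf_isPGroup 2 N
  have hQN : N ≤ Subgroup.normalizer (Q : Set G) := pcoreOf_normalized 2 N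
  have hOQ : ∀ x, x ∈ O → x ∈ Q → x = 1 := by
    intro x hxO hxQ
    have hc : (orderOf x).Coprime 2 := by
      have : orderOf x ∣ Nat.card O := by
        have := orderOf_dvd_natCard (⟨x, hxO⟩ : O)
        rwa [Subgroup.orderOf_mk] at this
      exact Nat.Coprime.coprime_dvd_left this hOodd
    exact eq_one_of_mem_pgroup_of_coprime hQ2 hxQ hc
  rw [eq_bot_iff]
  intro i hi
  obtain ⟨hiO, hiN⟩ := Subgroup.mem_inf.mp hi
  rw [Subgroup.mem_bot]
  have hiC : i ∈ Subgroup.centralizer (Q : Set G) := by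
    rw [Subgroup.mem_centralizer_iff]
    intro q hq
    have hcomm : i * q * i⁻¹ * q⁻¹ = 1 := by
      apply hOQ
      · have : i * q * i⁻¹ * q⁻¹ = i * (q * i⁻¹ * q⁻¹) := by group
        rw [this]
        exact O.mul_mem hiO (hOn.conj_mem _ (O.inv_mem hiO) q)
      · have h3 : i * q * i⁻¹ ∈ Q := (Subgroup.mem_normalizer_iff.mp (hQN hiN) q).mp hq
        exact Q.mul_mem h3 (Q.inv_mem hq)
    have : i * q = q * i := by
      have := congrArg (fun t => t * q * i) hcomm
      simpa [mul_assoc] using this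
    exact this.symm
  have hiQ : i ∈ Q := h1 (Subgroup.mem_inf.mpr ⟨hiN, hiC⟩)
  exact hOQ i hiO hiQ

/-- Let G be a finite group of even order with parabolic characteristic 2. If the centre of G ⧸ O(G) is trivial, then O(G) = 1. -/
theorem result {G : Type*} [Group G] [Finite G] (h2 : 2 ∣ Nat.card G) (hG : Cfsg.IsOfParabolicCharacteristic 2 G) [hN : (Cfsg.oddCore G).Normal] (hZ : Subgroup.center (G ⧸ Cfsg.oddCore G) = ⊥) : Cfsg.oddCore G = ⊥ := by
  classical
  haveI : Fact (Nat.Prime 2) := ⟨Nat.prime_two⟩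
  by_contra hO
  set O := Cfsg.oddCore G with hOdef
  have hOodd : (Nat.card O).Coprime 2 := Cfsg.Agent.Lib.H22.card_pPrimeCore_coprime 2
  have hOmem : ∀ x, x ∈ O → (orderOf x).Coprime 2 := by
    intro x hxO
    have : orderOf x ∣ Nat.card O := by
      have := orderOf_dvd_natCard (⟨x, hxO⟩ : O)
      rwa [Subgroup.orderOf_mk] at this
    exact Nat.Coprime.coprime_dvd_left this hOodd
  -- a Sylow 2-subgroup and a central involution
  obtain ⟨S⟩ : Nonempty (Sylow 2 G) := inferInstance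
  have hS2 : IsPGroup 2 (S : Subgroup G) := S.2
  have hSne : Nontrivial (S : Subgroup G) := by
    rw [← Finite.one_lt_card_iff_nontrivial]
    have h3 : 2 ∣ Nat.card (S : Subgroup G) := by
      have := S.card_eq_multiplicity
      rw [this]
      have hpos : 0 < (Nat.card G).factorization 2 :=
        Nat.Prime.factorization_pos_of_dvd Nat.prime_two Nat.card_pos.ne' h2
      exact dvd_pow_self 2 hpos.ne'
    exact lt_of_lt_of_le (by norm_num) (Nat.le_of_dvd Nat.card_pos h3)
  have hZne : Nontrivial (Subgroup.center (S : Subgroup G)) := hS2.center_nontrivial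
  have h2Z : 2 ∣ Nat.card (Subgroup.center (S : Subgroup G)) := by
    have hZ2 : IsPGroup 2 (Subgroup.center (S : Subgroup G)) := hS2.to_subgroup _
    obtain ⟨n, hn⟩ := IsPGroup.iff_card.mp hZ2
    have hn0 : n ≠ 0 := by
      rintro rfl
      have : 1 < Nat.card (Subgroup.center (S : Subgroup G)) := Finite.one_lt_card_iff_nontrivial.mpr hZne
      omega
    rw [hn]
    exact dvd_pow_self 2 hn0
  obtain ⟨z0, hz0⟩ := exists_prime_orderOf_dvd_card' 2 h2Z
  set z : G := ((z0 : (S : Subgroup G)) : G) with hzdef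
  have hzS : z ∈ (S : Subgroup G) := (z0 : (S : Subgroup G)).2
  have hzord : orderOf z = 2 := by
    rw [hzdef, Subgroup.orderOf_coe, Subgroup.orderOf_coe]; exact hz0
  have hzcent : ∀ s ∈ (S : Subgroup G), s * z = z * s := by
    intro s hs
    have := (Subgroup.mem_center_iff.mp z0.2) ⟨s, hs⟩
    exact congrArg Subtype.val this
  have hz1 : z ≠ 1 := by
    intro h
    rw [h, orderOf_one] at hzord
    omega
  have hzsq : z ^ 2 = 1 := by rw [← hzord]; exact pow_orderOf_eq_one z
  have hzinv : z⁻¹ = z := by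
    rw [inv_eq_iff_mul_eq_one, ← pow_two]; exact hzsq
  -- step 3: z acts fixed-point-freely on O
  have hfpf : O ⊓ Subgroup.centralizer ({z} : Set G) = ⊥ := by
    have hR2 : IsPGroup 2 (Subgroup.zpowers z) := hS2.to_le (by
      rw [Subgroup.zpowers_le]; exact hzS)
    have hRne : Subgroup.zpowers z ≠ ⊥ := by
      rw [Ne, Subgroup.zpowers_eq_bot]; exact hz1
    have hcz : Subgroup.centralizer ({z} : Set G) ≤ Subgroup.normalizer ((Subgroup.zpowers z : Subgroup G) : Set G) := by
      have : Subgroup.centralizer ({z} : Set G) = Subgroup.centralizer ((Subgroup.zpowers z : Subgroup G) : Set G) := by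
        rw [Subgroup.zpowers_eq_closure, Subgroup.centralizer_closure]
      rw [this]
      exact Subgroup.centralizer_le_normalizer _
    have hSR : (S : Subgroup G) ≤ Subgroup.normalizer ((Subgroup.zpowers z : Subgroup G) : Set G) := by
      refine le_trans ?_ hcz
      intro s hs
      rw [Subgroup.mem_centralizer_iff]
      intro y hy
      rw [Set.mem_singleton_iff] at hy
      rw [hy]
      exact (hzcent s hs).symm
    have := step2 hG O hN hOodd S _ hR2 hRne hSR
    rw [eq_bot_iff, ← this]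
    exact inf_le_inf_left _ hcz
  have hinv : ∀ n ∈ O, z * n * z⁻¹ = n⁻¹ :=
    Cfsg.Agent.Lib.H10.conj_eq_inv_of_fpf O z hzsq hfpf
  -- step 4: commutators [g,z] centralize O
  set K := Subgroup.centralizer (O : Set G) with hKdef
  have hKn : K.Normal := by rw [hKdef]; infer_instance
  have hcomm : ∀ g : G, g * z * g⁻¹ * z⁻¹ ∈ K := by
    intro g
    rw [hKdef, Subgroup.mem_centralizer_iff]
    intro n hn
    have h1 : z⁻¹ * n * z = n⁻¹ := by
      have := hinv n hn
      rw [hzinv] at this ⊢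
      exact this
    have h2' : g⁻¹ * n⁻¹ * g ∈ O := by
      have := hN.conj_mem _ (O.inv_mem hn) g⁻¹
      simpa using this
    have h3 := hinv _ h2'
    have h4 : (g * z * g⁻¹ * z⁻¹) * n * (g * z * g⁻¹ * z⁻¹)⁻¹ = n := by
      calc (g * z * g⁻¹ * z⁻¹) * n * (g * z * g⁻¹ * z⁻¹)⁻¹
          = g * (z * (g⁻¹ * (z⁻¹ * n * z) * g) * z⁻¹) * g⁻¹ := by group
        _ = g * (z * (g⁻¹ * n⁻¹ * g) * z⁻¹) * g⁻¹ := by rw [h1]
        _ = g * (g⁻¹ * n⁻¹ * g)⁻¹ * g⁻¹ := by rw [h3]
        _ = n := by group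
    have := congrArg (fun t => t * (g * z * g⁻¹ * z⁻¹)) h4
    simp only [inv_mul_cancel_right] at this
    exact this.symm
  -- step 6: K has odd order
  have hKS : K ⊓ (S : Subgroup G) = ⊥ := by
    by_contra hR
    have hR2 : IsPGroup 2 (K ⊓ (S : Subgroup G) : Subgroup G) := hS2.to_le inf_le_right
    have hSR : (S : Subgroup G) ≤ Subgroup.normalizer ((K ⊓ (S : Subgroup G) : Subgroup G) : Set G) := by
      intro s hs
      rw [Subgroup.mem_normalizer_iff]
      intro x
      constructor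
      · intro hx
        exact Subgroup.mem_inf.mpr ⟨hKn.conj_mem _ (Subgroup.mem_inf.mp hx).1 s,
          (S : Subgroup G).mul_mem ((S : Subgroup G).mul_mem hs (Subgroup.mem_inf.mp hx).2) ((S : Subgroup G).inv_mem hs)⟩
      · intro hx
        have e : x = s⁻¹ * (s * x * s⁻¹) * s⁻¹⁻¹ := by group
        rw [e]
        exact Subgroup.mem_inf.mpr ⟨hKn.conj_mem _ (Subgroup.mem_inf.mp hx).1 s⁻¹,
          (S : Subgroup G).mul_mem ((S : Subgroup G).mul_mem ((S : Subgroup G).inv_mem hs) (Subgroup.mem_inf.mp hx).2)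
            ((S : Subgroup G).inv_mem ((S : Subgroup G).inv_mem hs))⟩
    have h5 := step2 hG O hN hOodd S _ hR2 hR hSR
    apply hO
    rw [eq_bot_iff, ← h5]
    refine le_inf le_rfl ?_
    refine le_trans ?_ (Subgroup.centralizer_le_normalizer _)
    intro n hn
    rw [Subgroup.mem_centralizer_iff]
    intro y hy
    have hyK : y ∈ K := (Subgroup.mem_inf.mp hy).1
    exact ((Subgroup.mem_centralizer_iff.mp hyK) n hn).symm
  have hKodd : (Nat.card K).Coprime 2 := by
    rw [Nat.coprime_comm, Nat.Prime.coprime_iff_not_dvd Nat.prime_two]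
    intro hdvd
    obtain ⟨k0, hk0⟩ := exists_prime_orderOf_dvd_card' 2 hdvd
    have hk : orderOf (k0 : G) = 2 := by rw [Subgroup.orderOf_coe]; exact hk0
    have hkp : IsPGroup 2 (Subgroup.zpowers (k0 : G)) := by
      apply IsPGroup.of_card (n := 1)
      rw [Nat.card_zpowers, hk, pow_one]
    obtain ⟨T, hT⟩ := hkp.exists_le_sylow
    obtain ⟨g, hg⟩ := MulAction.exists_smul_eq G T S
    have hkT : (k0 : G) ∈ (T : Subgroup G) := hT (Subgroup.mem_zpowers _)
    have hgk : g * (k0 : G) * g⁻¹ ∈ (S : Subgroup G) := by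
      rw [← hg, Sylow.coe_subgroup_smul, Subgroup.mem_pointwise_smul_iff_inv_smul_mem]
      simp only [MulAut.smul_def, MulAut.conj_apply, inv_inv, MulAut.conj_inv_apply]
      have : g⁻¹ * (g * ↑k0 * g⁻¹) * g = (k0 : G) := by group
      rw [this]; exact hkT
    have hgkK : g * (k0 : G) * g⁻¹ ∈ K := hKn.conj_mem _ k0.2 g
    have : g * (k0 : G) * g⁻¹ ∈ K ⊓ (S : Subgroup G) := Subgroup.mem_inf.mpr ⟨hgkK, hgk⟩
    rw [hKS, Subgroup.mem_bot] at this
    have hk1 : (k0 : G) = 1 := by
      have := congrArg (fun t => g⁻¹ * t * g) this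
      simpa [mul_assoc] using this
    rw [hk1, orderOf_one] at hk
    omega
  have hKO : K ≤ O := Cfsg.Agent.Lib.H22.le_pPrimeCore 2 K hKn hKodd
  -- step 7: z is central modulo O
  have hzc : (QuotientGroup.mk z : G ⧸ O) ∈ Subgroup.center (G ⧸ O) := by
    rw [Subgroup.mem_center_iff]
    intro y
    obtain ⟨g, rfl⟩ := QuotientGroup.mk_surjective y
    have h5 : g * z * g⁻¹ * z⁻¹ ∈ O := hKO (hcomm g)
    have h6 : (QuotientGroup.mk (g * z * g⁻¹ * z⁻¹) : G ⧸ O) = 1 := (QuotientGroup.eq_one_iff _).mpr h5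
    simp only [QuotientGroup.mk_mul, QuotientGroup.mk_inv] at h6
    have := congrArg (fun t => t * (QuotientGroup.mk z : G ⧸ O) * (QuotientGroup.mk g : G ⧸ O)) h6
    simpa [mul_assoc] using this
  rw [hZ, Subgroup.mem_bot, QuotientGroup.eq_one_iff] at hzc
  have := hOmem z hzc
  rw [hzord] at this
  norm_num at this


end Cfsg.Agent.S2898
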