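import Cfsg.Statements.S2905
import Cfsg.Agent.Lib.H15.Conj
import Cfsg.Agent.Lib.H3.Wielandt2
import Cfsg.Agent.Lib.H10.PResidual
import Cfsg.Agent.Lib.H14.PIrr
import Cfsg.Agent.Lib.H19.Cores
import Cfsg.Agent.Lib.H1.CoprimeSylow
import Cfsg.Agent.Lib.H1.QuotientBasic
import Cfsg.Agent.Lib.H19.HallPi

set_option autoImplicit false
open Cfsg

namespace Cfsg.Agent.S2905

open Cfsg Cfsg.Agent.Lib.H15

variable {P : Type*} [Group P] [Finite P] {p : ℕ} [Fact p.Prime]

theorem le_M_of_ne_top (hP : Cfsg.IsPMinimal p P) (S : Sylow p P) (M : Subgroup P)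
    (hM : IsCoatom M) (hSM : (S : Subgroup P) ≤ M) (H : Subgroup P) (hSH : (S : Subgroup P) ≤ H)
    (hH : H ≠ ⊤) : H ≤ M := by
  obtain ⟨M', hM', hHM'⟩ := (eq_top_or_exists_le_coatom H).resolve_left hH
  have := (hP S).2.unique ⟨hM', hSH.trans hHM'⟩ ⟨hM, hSM⟩
  rw [← this]; exact hHM'

theorem part3 (hP : Cfsg.IsPMinimal p P) (S : Sylow p P) (M : Subgroup P)
    (hM : IsCoatom M) (hSM : (S : Subgroup P) ≤ M) (N : Subgroup P) (hN : N.Normal) :
    Cfsg.pResidual p P ≤ N ∨ N ≤ M.normalCore := by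
  by_cases h : (S : Subgroup P) ⊔ N = ⊤
  · left
    unfold Cfsg.pResidual
    rw [Subgroup.closure_le]
    intro g hg
    have hg' : Nat.Coprime (orderOf g) p := hg
    have hgm : g ∈ (S : Subgroup P) ⊔ N := by rw [h]; trivial
    obtain ⟨s, hs, n, hn, rfl⟩ := Subgroup.mem_sup_of_normal_right.mp hgm
    obtain ⟨k, hk⟩ := S.2 ⟨s, hs⟩
    have hk' : s ^ (p ^ k) = 1 := by simpa using congrArg Subtype.val hk
    have e1 : (QuotientGroup.mk' N (s * n)) = QuotientGroup.mk' N s := by
      have hn1 : QuotientGroup.mk' N n = 1 := (QuotientGroup.eq_one_iff n).mpr hn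
      rw [map_mul, hn1, mul_one]
    have h1 : orderOf (QuotientGroup.mk' N (s * n)) ∣ p ^ k := by
      apply orderOf_dvd_of_pow_eq_one
      rw [e1, ← map_pow, hk', map_one]
    have h2 : orderOf (QuotientGroup.mk' N (s * n)) ∣ orderOf (s * n) :=
      orderOf_map_dvd _ _
    have hc : Nat.Coprime (orderOf (s * n)) (p ^ k) := Nat.Coprime.pow_right k hg'
    have h3 : orderOf (QuotientGroup.mk' N (s * n)) = 1 :=
      Nat.Coprime.eq_one_of_dvd (Nat.Coprime.coprime_dvd_left h2 hc) h1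
    exact (QuotientGroup.eq_one_iff _).mp (orderOf_eq_one_iff.mp h3)
  · right
    have := le_M_of_ne_top hP S M hM hSM _ le_sup_left h
    exact Subgroup.normal_le_normalCore.mpr (le_sup_right.trans this)

theorem part5 (hP : Cfsg.IsPMinimal p P) (S : Sylow p P) (M : Subgroup P)
    (hM : IsCoatom M) (hSM : (S : Subgroup P) ≤ M) :
    ¬ Cfsg.pResidual p P ≤ M := by
  intro h
  apply hM.1
  rw [eq_top_iff]
  intro m _
  obtain ⟨s, hs, u, hu, rfl⟩ :=
    Cfsg.Agent.Lib.H10.exists_mul_of_sylow_pResidual p (S : Subgroup P) S.not_dvd_index m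
  exact M.mul_mem (hSM hs) (h hu)

theorem core_inf_le (hP : Cfsg.IsPMinimal p P) (S : Sylow p P) (M : Subgroup P)
    (hM : IsCoatom M) (hSM : (S : Subgroup P) ≤ M) [hF : M.normalCore.Normal] :
    (S : Subgroup P) ⊓ M.normalCore ≤ Cfsg.pCore p P := by
  have hfr := Sylow.normalizer_sup_eq_top (Cfsg.Agent.Lib.H14.sylowInf S M.normalCore)
  rw [Cfsg.Agent.Lib.H14.sylowInf_map] at hfr
  have hSn : (S : Subgroup P) ≤ Subgroup.normalizer (((S : Subgroup P) ⊓ M.normalCore : Subgroup P) : Set P) := by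
    intro s hs
    apply mem_normalizer_of_cj_le
    intro x hx
    rw [mem_cj_iff] at hx
    obtain ⟨h1, h2⟩ := Subgroup.mem_inf.mp hx
    refine Subgroup.mem_inf.mpr ⟨?_, ?_⟩
    · have := (S : Subgroup P).mul_mem ((S : Subgroup P).mul_mem hs h1) ((S : Subgroup P).inv_mem hs)
      simpa [mul_assoc] using this
    · have := hF.conj_mem _ h2 s
      simpa [mul_assoc] using this
  have htop : Subgroup.normalizer (((S : Subgroup P) ⊓ M.normalCore : Subgroup P) : Set P) = ⊤ := by
    by_contra hne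
    have h1 := le_M_of_ne_top hP S M hM hSM _ hSn hne
    apply hM.1
    rw [eq_top_iff, ← hfr]
    exact sup_le h1 (Subgroup.normalCore_le M)
  have hn : ((S : Subgroup P) ⊓ M.normalCore).Normal := Subgroup.normalizer_eq_top_iff.mp htop
  exact Cfsg.Agent.Lib.H19.le_pCore hn (S.2.to_le inf_le_left)

theorem part1 (hP : Cfsg.IsPMinimal p P) (S : Sylow p P) (M : Subgroup P)
    (hM : IsCoatom M) (hSM : (S : Subgroup P) ≤ M) [hF : M.normalCore.Normal]
    (N : Subgroup P) (hN : N.IsSubnormal) (hNM : N ≤ M) :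
    N ⊓ (S : Subgroup P) ≤ Cfsg.pCore p P := by
  obtain ⟨J, hJ⟩ : ∃ J, J = sSup {N : Subgroup P | N.IsSubnormal ∧ N ≤ M} := ⟨_, rfl⟩
  have hJsub : J.IsSubnormal := by
    rw [hJ]; exact Cfsg.Agent.Lib.H3.isSubnormal_sSup _ (fun U hU => hU.1)
  have hJM : J ≤ M := by
    rw [hJ]; exact sSup_le (fun U hU => hU.2)
  have hMn : M ≤ Subgroup.normalizer (J : Set P) := by
    intro m hm
    apply mem_normalizer_of_cj_le
    show J.map _ ≤ J
    rw [Subgroup.map_le_iff_le_comap]
    conv_lhs => rw [hJ]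
    apply sSup_le
    intro U hU
    rw [← Subgroup.map_le_iff_le_comap, hJ]
    apply le_sSup
    refine ⟨Subgroup.IsSubnormal.map (MulAut.conj m).surjective hU.1, ?_⟩
    have := cj_mono m hU.2
    rwa [cj_eq_self_of_mem hm] at this
  have hJn : J.Normal := by
    by_contra hnn
    have h1 : Subgroup.normalizer (J : Set P) ≠ ⊤ := fun h => hnn (Subgroup.normalizer_eq_top_iff.mp h)
    have h2 : Subgroup.normalizer (J : Set P) = M := by
      by_contra hne
      exact h1 (hM.2 _ (lt_of_le_of_ne hMn (Ne.symm hne)))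
    have hJtop : J ≠ ⊤ := fun h => hM.1 (eq_top_iff.mpr (h ▸ hJM))
    rcases Subgroup.IsSubnormal.iff_eq_top_or_exists.mp hJsub with h | ⟨K, hJK, hKs, hKn⟩
    · exact hJtop h
    · have hK : K ≤ Subgroup.normalizer (J : Set P) :=
        (Subgroup.normal_subgroupOf_iff_le_normalizer hJK.le).mp hKn
      rw [h2] at hK
      have : K ≤ J := by
        rw [hJ]; exact le_sSup ⟨hKs, hK⟩
      exact absurd hJK (not_lt_of_ge this)
  have hJF : J ≤ M.normalCore := Subgroup.normal_le_normalCore.mpr hJM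
  have hNJ : N ≤ J := by
    rw [hJ]; exact le_sSup ⟨hN, hNM⟩
  refine le_trans ?_ (core_inf_le hP S M hM hSM)
  rw [inf_comm]
  exact inf_le_inf_left _ (hNJ.trans hJF)

theorem primeFactors_card_le_two {n a b c p q : ℕ} (hp : p.Prime) (hq : q.Prime) (hn : n ≠ 0)
    (h : n ∣ p ^ a * (q ^ b * p ^ c)) : n.primeFactors.card ≤ 2 := by
  have h0 : p ^ a * (q ^ b * p ^ c) ≠ 0 := by
    have := hp.pos; have := hq.pos; positivity
  have h1 : n.primeFactors ⊆ (p ^ a * (q ^ b * p ^ c)).primeFactors := Nat.primeFactors_mono h h0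
  have h2 : (p ^ a * (q ^ b * p ^ c)).primeFactors ⊆ {p, q} := by
    intro r hr
    have hr' := Nat.mem_primeFactors.mp hr
    have hrp := hr'.1
    have hd := hr'.2.1
    rcases (Nat.Prime.dvd_mul hrp).mp hd with h | h
    · have := (Nat.prime_dvd_prime_iff_eq hrp hp).mp (hrp.dvd_of_dvd_pow h)
      simp [this]
    · rcases (Nat.Prime.dvd_mul hrp).mp h with h | h
      · have := (Nat.prime_dvd_prime_iff_eq hrp hq).mp (hrp.dvd_of_dvd_pow h)
        simp [this]
      · have := (Nat.prime_dvd_prime_iff_eq hrp hp).mp (hrp.dvd_of_dvd_pow h)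
        simp [this]
  exact (Finset.card_le_card (h1.trans h2)).trans Finset.card_le_two

theorem part2 (hP : Cfsg.IsPMinimal p P) (S : Sylow p P) (M : Subgroup P)
    (hM : IsCoatom M) (hSM : (S : Subgroup P) ≤ M)
    (hT : ∀ T : Sylow p ↥(Cfsg.pResidual p P), (T : Subgroup ↥(Cfsg.pResidual p P)).Normal) :
    (Nat.card P).primeFactors.card ≤ 2 := by
  classical
  have hpp : p.Prime := Fact.out
  have hRn := Cfsg.Agent.Lib.H10.pResidual_normal p P
  obtain ⟨R, hR⟩ : ∃ R, R = Cfsg.pResidual p P := ⟨_, rfl⟩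
  rw [← hR] at hT hRn
  obtain ⟨T₀⟩ : Nonempty (Sylow p ↥R) := inferInstance
  have hT₀n := hT T₀
  have hT₀c : (T₀ : Subgroup ↥R).Characteristic := Sylow.characteristic_of_normal T₀ hT₀n
  obtain ⟨T, hTdef⟩ : ∃ T, T = (T₀ : Subgroup ↥R).map R.subtype := ⟨_, rfl⟩
  have hTn : T.Normal := by
    rw [hTdef]; exact ConjAct.normal_of_characteristic_of_normal
  have hTR : T ≤ R := by rw [hTdef]; exact Subgroup.map_subtype_le _
  have hTp : IsPGroup p T := by rw [hTdef]; exact T₀.2.map _
  have hTS : T ≤ (S : Subgroup P) :=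
    (Cfsg.Agent.Lib.H19.le_pCore hTn hTp).trans (Cfsg.Agent.Lib.H1.pCore_le_sylow S)
  have hTcard : Nat.card T = Nat.card (T₀ : Subgroup ↥R) := by
    rw [hTdef]; exact Subgroup.card_map_of_injective R.subtype_injective
  obtain ⟨c, hc⟩ := IsPGroup.iff_card.mp hTp
  obtain ⟨a, ha⟩ := IsPGroup.iff_card.mp S.2
  -- the quotient
  obtain ⟨π, hπ⟩ : ∃ π : P →* P ⧸ T, π = QuotientGroup.mk' T := ⟨_, rfl⟩
  have hπs : Function.Surjective π := hπ ▸ QuotientGroup.mk'_surjective T
  have hKcard : Nat.card (R.map π) = (T₀ : Subgroup ↥R).index := by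
    have h1 := Cfsg.Agent.Lib.H1.card_map_mk'_mul_of_le hTR
    rw [← hπ, hTcard] at h1
    have h2 := Subgroup.card_mul_index (T₀ : Subgroup ↥R)
    have hpos : 0 < Nat.card (T₀ : Subgroup ↥R) := Nat.card_pos
    apply Nat.eq_of_mul_eq_mul_right hpos
    rw [h1, mul_comm, h2]
  have hKp : ¬ p ∣ Nat.card (R.map π) := by rw [hKcard]; exact T₀.not_dvd_index
  have hAp : IsPGroup p (S.map π : Subgroup (P ⧸ T)) := S.2.map π
  have hKn : (R.map π).Normal := Subgroup.Normal.map hRn π hπs
  have hcop : Cfsg.Agent.Lib.H1.CoprimeAction ((S : Subgroup P).map π) (R.map π) := by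
    refine ⟨?_, ?_, ?_⟩
    · rw [Subgroup.normalizer_eq_top_iff.mpr hKn]; exact le_top
    · obtain ⟨j, hj⟩ := IsPGroup.iff_card.mp hAp
      rw [hj]
      exact Nat.Coprime.pow_left j ((Nat.Prime.coprime_iff_not_dvd hpp).mpr hKp)
    · left
      have := hAp.isNilpotent
      infer_instance
  by_contra hcard
  have hTM : T ≤ M := hTS.trans hSM
  have key : ∀ q : ℕ, q.Prime → ∃ Q : Subgroup (P ⧸ T),
      Cfsg.Agent.Lib.H1.IsSylowOf q (R.map π) Q ∧ Q ≤ M.map π := by
    intro q hq
    haveI : Fact q.Prime := ⟨hq⟩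
    obtain ⟨Q, hQs, hQn⟩ := Cfsg.Agent.Lib.H1.coprime_exists_invariant_sylow hcop q
    refine ⟨Q, hQs, ?_⟩
    have hSn : (S : Subgroup P) ≤ Subgroup.normalizer ((Q.comap π : Subgroup P) : Set P) := by
      intro s hs
      apply Subgroup.le_normalizer_comap π
      exact hQn ⟨s, hs, rfl⟩
    have hmap : (Q.comap π).map π = Q := Subgroup.map_comap_eq_self_of_surjective hπs Q
    by_cases htop : (S : Subgroup P) ⊔ Q.comap π = ⊤
    · exfalso
      apply hcard
      have h1 := Cfsg.Agent.Lib.H19.card_sup_dvd_mul_of_le_normalizer hSn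
      rw [htop, Subgroup.card_top] at h1
      have hTQ : T ≤ Q.comap π := by
        intro t ht
        show π t ∈ Q
        have : π t = 1 := by rw [hπ]; exact (QuotientGroup.eq_one_iff t).mpr ht
        rw [this]; exact Q.one_mem
      have h2 := Cfsg.Agent.Lib.H1.card_map_mk'_mul_of_le hTQ
      rw [← hπ, hmap, hQs.card_eq, hc] at h2
      rw [← h2, ha] at h1
      exact primeFactors_card_le_two hpp hq Nat.card_pos.ne' h1
    · have := le_M_of_ne_top hP S M hM hSM _ le_sup_left htop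
      rw [← hmap]
      exact Subgroup.map_mono (le_sup_right.trans this)
  -- hence the image of `R` lies in the image of `M`
  have hKM : R.map π ≤ M.map π := by
    have hdvd : Nat.card (R.map π) ∣ Nat.card (R.map π ⊓ M.map π : Subgroup (P ⧸ T)) := by
      rw [← Nat.factorization_prime_le_iff_dvd Nat.card_pos.ne' Nat.card_pos.ne']
      intro q hq
      obtain ⟨Q, hQs, hQM⟩ := key q hq
      have h1 : Nat.card Q ∣ Nat.card (R.map π ⊓ M.map π : Subgroup (P ⧸ T)) :=
        Subgroup.card_dvd_of_le (le_inf hQs.le hQM)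
      rw [hQs.card_eq] at h1
      exact (Nat.Prime.pow_dvd_iff_le_factorization hq Nat.card_pos.ne').mp h1
    have := eq_of_le_of_card_le' (inf_le_left : R.map π ⊓ M.map π ≤ R.map π)
      (Nat.le_of_dvd Nat.card_pos hdvd)
    rw [← this]; exact inf_le_right
  apply part5 hP S M hM hSM
  rw [← hR]
  have h1 : R ≤ (R.map π).comap π := Subgroup.le_comap_map π R
  have h2 : (M.map π).comap π = M := by
    rw [hπ]; exact Cfsg.Agent.Lib.H1.comap_map_mk'_of_le hTM
  rw [← h2]
  exact h1.trans (Subgroup.comap_mono hKM)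

/-- Let P be a finite p-minimal group (a Sylow p-subgroup S is not normal and lies in a unique maximal subgroup M of P) and let F be the normal core of M. Then: every subnormal subgroup N of P contained in M satisfies N ∩ S ≤ O_p(P); if O^p(P) has a normal Sylow p-subgroup then the order of P has at most two prime divisors; every normal subgroup N of P either contains O^p(P) or is contained in F; and O^p(P)F ⧸ F is a minimal normal subgroup of P ⧸ F. -/
theorem result {P : Type*} [Group P] [Finite P] {p : ℕ} [Fact p.Prime] (hP : Cfsg.IsPMinimal p P) (S : Sylow p P) (M : Subgroup P) (hM : IsCoatom M) (hSM : (S : Subgroup P) ≤ M) [hF : M.normalCore.Normal] : (∀ N : Subgroup P, N.IsSubnormal → N ≤ M → N ⊓ (S : Subgroup P) ≤ Cfsg.pCore p P) ∧ ((∀ T : Sylow p ↥(Cfsg.pResidual p P), (T : Subgroup ↥(Cfsg.pResidual p P)).Normal) → (Nat.card P).primeFactors.card ≤ 2) ∧ (∀ N : Subgroup P, N.Normal → Cfsg.pResidual p P ≤ N ∨ N ≤ M.normalCore) ∧ (∀ N : Subgroup P, N.Normal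 → M.normalCore ≤ N → N ≤ Cfsg.pResidual p P ⊔ M.normalCore → N = M.normalCore ∨ N = Cfsg.pResidual p P ⊔ M.normalCore) ∧ M.normalCore < Cfsg.pResidual p P ⊔ M.normalCore := by
  have hRn := Cfsg.Agent.Lib.H10.pResidual_normal p P
  refine ⟨fun N hN hNM => part1 hP S M hM hSM N hN hNM, ?_, fun N hN => part3 hP S M hM hSM N hN, ?_, ?_⟩
  · exact part2 hP S M hM hSM
  · intro N hN hFN hNR
    rcases part3 hP S M hM hSM N hN with h | h
    · right
      exact le_antisymm hNR (sup_le h hFN)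
    · left
      exact le_antisymm h hFN
  · refine lt_of_le_of_ne le_sup_right ?_
    intro h
    apply part5 hP S M hM hSM
    have : Cfsg.pResidual p P ≤ M.normalCore := by
      rw [h]; exact le_sup_left
    exact this.trans (Subgroup.normalCore_le M)

end Cfsg.Agent.S2905
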