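import Cfsg.Statements.S2906
import Cfsg.Agent.S2905
import Cfsg.Agent.Lib.H15.Conj
import Cfsg.Agent.Lib.H7.Components
import Cfsg.Agent.Lib.H7.FStar
import Cfsg.Agent.Lib.H7.FStar2
import Cfsg.Agent.Lib.H7.OrbitDiag
import Cfsg.Agent.Lib.H7.PLocal3
import Cfsg.Agent.Lib.H1.CoprimeSylow
import Cfsg.Agent.Lib.H15.SylowControl
import Cfsg.Agent.Lib.H3.Sylow
import Cfsg.Agent.Lib.H15.SubnormalSylow

set_option autoImplicit false
open Cfsg

namespace Cfsg.Agent.S2906

open Cfsg.Agent.Lib.H15 Cfsg.Agent.Lib.H7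
open scoped commutatorElement

variable {P : Type*} [Group P] [Finite P] {p : ℕ} [Fact p.Prime]

/-- A normal subgroup inside `M` has order prime to `p` (when `O_p(P) = 1`). -/
theorem coprime_card_of_le (hP : Cfsg.IsPMinimal p P) (hOp : Cfsg.pCore p P = ⊥) (S : Sylow p P)
    (M : Subgroup P) (hM : IsCoatom M) (hSM : (S : Subgroup P) ≤ M) (N : Subgroup P) [hN : N.Normal]
    (hNM : N ≤ M) : (Nat.card N).Coprime p := by
  have hNc : N ≤ M.normalCore := Subgroup.normal_le_normalCore.mpr hNM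
  have h1 : (S : Subgroup P) ⊓ N = ⊥ := by
    rw [eq_bot_iff, ← hOp]
    exact (inf_le_inf_left _ hNc).trans (Cfsg.Agent.S2905.core_inf_le hP S M hM hSM)
  have h2 := Cfsg.Agent.Lib.H14.sylowInf_map S N
  rw [h1] at h2
  have h3 : ((Cfsg.Agent.Lib.H14.sylowInf S N : Sylow p N) : Subgroup N) = ⊥ := by
    rwa [Subgroup.map_eq_bot_iff_of_injective _ N.subtype_injective] at h2
  have h4 := (Cfsg.Agent.Lib.H14.sylowInf S N).card_eq_multiplicity
  rw [h3, Subgroup.card_bot] at h4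
  have hp : p.Prime := Fact.out
  rw [Nat.coprime_comm, hp.coprime_iff_not_dvd]
  intro hdvd
  have h5 : 0 < (Nat.card N).factorization p :=
    hp.factorization_pos_of_dvd Nat.card_pos.ne' hdvd
  have h6 : 1 < p ^ (Nat.card N).factorization p := Nat.one_lt_pow h5.ne' hp.one_lt
  omega

/-- A normal subgroup inside `M` is nilpotent (Frattini argument). -/
theorem isNilpotent_of_le (hP : Cfsg.IsPMinimal p P) (hOp : Cfsg.pCore p P = ⊥) (S : Sylow p P)
    (M : Subgroup P) (hM : IsCoatom M) (hSM : (S : Subgroup P) ≤ M) (N : Subgroup P) [hN : N.Normal]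
    (hNM : N ≤ M) : Group.IsNilpotent N := by
  have hcop := coprime_card_of_le hP hOp S M hM hSM N hNM
  have hA : Cfsg.Agent.Lib.H1.CoprimeAction (S : Subgroup P) N :=
    { normalizes := by rw [Subgroup.normalizer_eq_top_iff.mpr hN]; exact le_top
      coprime := by
        obtain ⟨k, hk⟩ := IsPGroup.iff_card.mp S.2
        rw [hk]; exact Nat.Coprime.pow_left k hcop.symm
      solvable := Or.inl (by have := S.2.isNilpotent; infer_instance) }
  apply ((Group.isNilpotent_of_finite_tfae (G := N)).out 3 0).mp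
  intro q hq Q
  have := hq
  obtain ⟨Q0, hQ0, hSQ0⟩ := Cfsg.Agent.Lib.H1.coprime_exists_invariant_sylow hA q
  have hfr := Sylow.normalizer_sup_eq_top hQ0.toSylow
  rw [hQ0.map_toSylow] at hfr
  have htop : Subgroup.normalizer (Q0 : Set P) = ⊤ := by
    by_contra hne
    have h1 := Cfsg.Agent.S2905.le_M_of_ne_top hP S M hM hSM _ hSQ0 hne
    apply hM.1
    rw [eq_top_iff, ← hfr]
    exact sup_le h1 hNM
  have hQ0n : Q0.Normal := Subgroup.normalizer_eq_top_iff.mp htop
  have hn' : (hQ0.toSylow : Subgroup N).Normal := by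
    rw [hQ0.coe_toSylow]; infer_instance
  obtain ⟨g, hg⟩ := MulAction.exists_smul_eq N hQ0.toSylow Q
  rw [← hg, Sylow.smul_eq_of_normal]
  exact hn'

/-- A component is not contained in a normal subgroup inside `M`. -/
theorem component_not_le (hP : Cfsg.IsPMinimal p P) (hOp : Cfsg.pCore p P = ⊥) (S : Sylow p P)
    (M : Subgroup P) (hM : IsCoatom M) (hSM : (S : Subgroup P) ≤ M) (K : Subgroup P)
    (hK : Cfsg.IsComponent K) (N : Subgroup P) [hN : N.Normal] (hNM : N ≤ M) : ¬ K ≤ N := by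
  intro hKN
  have := isNilpotent_of_le hP hOp S M hM hSM N hNM
  apply component_not_solvable hK
  exact Group.isSolvable_of_isSolvable_injective (Subgroup.inclusion_injective hKN)

theorem layer_not_le (hP : Cfsg.IsPMinimal p P) (hOp : Cfsg.pCore p P = ⊥) (S : Sylow p P)
    (M : Subgroup P) (hM : IsCoatom M) (hSM : (S : Subgroup P) ≤ M) (K : Subgroup P)
    (hK : Cfsg.IsComponent K) : ¬ Cfsg.layer P ≤ M := fun h =>
  component_not_le hP hOp S M hM hSM K hK (Cfsg.layer P) h (component_le_layer hK)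

theorem pResidual_eq_layer (hP : Cfsg.IsPMinimal p P) (hOp : Cfsg.pCore p P = ⊥) (S : Sylow p P)
    (M : Subgroup P) (hM : IsCoatom M) (hSM : (S : Subgroup P) ≤ M) (K : Subgroup P)
    (hK : Cfsg.IsComponent K) : Cfsg.pResidual p P = Cfsg.layer P := by
  apply le_antisymm
  · rcases Cfsg.Agent.S2905.part3 hP S M hM hSM (Cfsg.layer P) inferInstance with h | h
    · exact h
    · exact absurd (h.trans (Subgroup.normalCore_le M)) (layer_not_le hP hOp S M hM hSM K hK)
  · have : Group.IsPerfect (Cfsg.layer P) := Subgroup.isPerfect_iff.mpr layer_commutator_self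
    apply le_of_isPerfect_of_coprime_mem p
    intro y _ hy
    exact Subgroup.subset_closure hy

theorem gfs_eq_layer (hP : Cfsg.IsPMinimal p P) (hOp : Cfsg.pCore p P = ⊥) (S : Sylow p P)
    (M : Subgroup P) (hM : IsCoatom M) (hSM : (S : Subgroup P) ≤ M) (K : Subgroup P)
    (hK : Cfsg.IsComponent K) : Cfsg.generalizedFittingSubgroup P = Cfsg.layer P := by
  unfold Cfsg.generalizedFittingSubgroup
  rw [sup_eq_left]
  have hCn : (Subgroup.centralizer (Cfsg.layer P : Set P)).Normal := Subgroup.normal_centralizer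
  have hFC : Cfsg.fittingSubgroup P ≤ Subgroup.centralizer (Cfsg.layer P : Set P) := by
    rw [← Subgroup.commutator_eq_bot_iff_le_centralizer, Subgroup.commutator_comm]
    exact layer_commutator_fitting
  have hCM : Subgroup.centralizer (Cfsg.layer P : Set P) ≤ M := by
    rcases Cfsg.Agent.S2905.part3 hP S M hM hSM _ hCn with h | h
    · exfalso
      rw [pResidual_eq_layer hP hOp S M hM hSM K hK,
        ← Subgroup.commutator_eq_bot_iff_le_centralizer, layer_commutator_self] at h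
      apply component_ne_bot hK
      rw [eq_bot_iff, ← h]
      exact component_le_layer hK
    · exact h.trans (Subgroup.normalCore_le M)
  have hcop := coprime_card_of_le hP hOp S M hM hSM _ hCM
  refine hFC.trans ?_
  intro c hc
  rw [← pResidual_eq_layer hP hOp S M hM hSM K hK]
  apply Subgroup.subset_closure
  show (orderOf c).Coprime p
  have h1 : orderOf c ∣ Nat.card (Subgroup.centralizer (Cfsg.layer P : Set P)) := by
    have := orderOf_dvd_natCard (⟨c, hc⟩ : Subgroup.centralizer (Cfsg.layer P : Set P))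
    rwa [Subgroup.orderOf_mk] at this
  exact Nat.Coprime.coprime_dvd_left h1 hcop

theorem layer_eq_iSup (hP : Cfsg.IsPMinimal p P) (hOp : Cfsg.pCore p P = ⊥) (S : Sylow p P)
    (M : Subgroup P) (hM : IsCoatom M) (hSM : (S : Subgroup P) ≤ M) (K : Subgroup P)
    (hK : Cfsg.IsComponent K) :
    Cfsg.layer P = ⨆ s : ↥(S : Subgroup P), cj (s : P) K := by
  obtain ⟨L, hL⟩ : ∃ L, L = ⨆ s : ↥(S : Subgroup P), cj (s : P) K := ⟨_, rfl⟩
  rw [← hL]
  have hLE : L ≤ Cfsg.layer P := by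
    rw [hL]
    exact iSup_le fun s => component_le_layer (isComponent_map_conj _ hK)
  apply le_antisymm _ hLE
  have hSL : (S : Subgroup P) ≤ Subgroup.normalizer (L : Set P) := by
    intro s hs
    apply mem_normalizer_of_cj_le
    show L.map _ ≤ L
    rw [hL, Subgroup.map_iSup]
    apply iSup_le
    intro t
    show cj s (cj (t : P) K) ≤ _
    rw [cj_cj]
    exact le_iSup (fun s : ↥(S : Subgroup P) => cj (s : P) K) ⟨s * t, (S : Subgroup P).mul_mem hs t.2⟩
  have hEL : Cfsg.layer P ≤ Subgroup.normalizer (L : Set P) := by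
    intro e he
    apply mem_normalizer_of_cj_le
    show L.map _ ≤ L
    rw [hL, Subgroup.map_iSup]
    apply iSup_le
    intro t
    have hcomp := isComponent_map_conj (t : P) hK
    have h1 := layer_le_normalizer_component hcomp he
    rw [mem_normalizer_iff_cj_eq] at h1
    show cj e (cj (t : P) K) ≤ _
    rw [h1]
    exact le_iSup (fun s : ↥(S : Subgroup P) => cj (s : P) K) t
  have hLn : L.Normal := by
    rw [← Subgroup.normalizer_eq_top_iff, eq_top_iff]
    intro g _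
    obtain ⟨s, hs, u, hu, rfl⟩ :=
      Cfsg.Agent.Lib.H10.exists_mul_of_sylow_pResidual p (S : Subgroup P) S.not_dvd_index g
    rw [pResidual_eq_layer hP hOp S M hM hSM K hK] at hu
    exact mul_mem (hSL hs) (hEL hu)
  rcases Cfsg.Agent.S2905.part3 hP S M hM hSM L hLn with h | h
  · rwa [pResidual_eq_layer hP hOp S M hM hSM K hK] at h
  · exfalso
    apply component_not_le hP hOp S M hM hSM K hK L (h.trans (Subgroup.normalCore_le M))
    rw [hL]
    calc K = cj ((1 : ↥(S : Subgroup P)) : P) K := by rw [OneMemClass.coe_one, cj_one]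
      _ ≤ _ := le_iSup (fun s : ↥(S : Subgroup P) => cj (s : P) K) 1

theorem component_not_le_M (hP : Cfsg.IsPMinimal p P) (hOp : Cfsg.pCore p P = ⊥) (S : Sylow p P)
    (M : Subgroup P) (hM : IsCoatom M) (hSM : (S : Subgroup P) ≤ M) (K : Subgroup P)
    (hK : Cfsg.IsComponent K) : ¬ K ≤ M := by
  intro h
  apply layer_not_le hP hOp S M hM hSM K hK
  rw [layer_eq_iSup hP hOp S M hM hSM K hK]
  apply iSup_le
  intro s
  have := cj_mono (s : P) h
  rwa [cj_eq_self_of_mem (hSM s.2)] at this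

theorem comm_mul_central {G : Type*} [Group G] {y c b : G} (h1 : Commute c b) :
    ⁅y * c, b⁆ = ⁅y, b⁆ := by
  rw [commutatorElement_def, commutatorElement_def, mul_inv_rev]
  have e : c * b * c⁻¹ = b := by rw [h1.eq, mul_inv_cancel_right]
  calc y * c * b * (c⁻¹ * y⁻¹) * b⁻¹ = y * (c * b * c⁻¹) * y⁻¹ * b⁻¹ := by group
    _ = _ := by rw [e]

theorem comm_mul_central' {G : Type*} [Group G] {y c a : G} (h2 : Commute c a) :
    ⁅a, y * c⁆ = ⁅a, y⁆ := by
  rw [commutatorElement_def, commutatorElement_def, mul_inv_rev]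
  have e : c * a⁻¹ * c⁻¹ = a⁻¹ := by rw [h2.inv_right.eq, mul_inv_cancel_right]
  calc a * (y * c) * a⁻¹ * (c⁻¹ * y⁻¹) = a * y * (c * a⁻¹ * c⁻¹) * y⁻¹ := by group
    _ = _ := by rw [e]

/-- `T`-invariant proper subgroups of `K` lie in `M`. -/
theorem le_M_of_invariant (hP : Cfsg.IsPMinimal p P) (hOp : Cfsg.pCore p P = ⊥) (S : Sylow p P)
    (M : Subgroup P) (hM : IsCoatom M) (hSM : (S : Subgroup P) ≤ M) (K : Subgroup P)
    (hK : Cfsg.IsComponent K) (Y : Subgroup P) (hYK : Y ≤ K)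
    (hYT : (S : Subgroup P) ⊓ Subgroup.normalizer (K : Set P) ≤ Subgroup.normalizer (Y : Set P))
    (hne : Y ≠ K) : Y ≤ M := by
  obtain ⟨Ys, hYs⟩ : ∃ L, L = ⨆ s : ↥(S : Subgroup P), cj (s : P) Y := ⟨_, rfl⟩
  have hYle : Y ≤ Ys := by
    rw [hYs]
    calc Y = cj ((1 : ↥(S : Subgroup P)) : P) Y := by rw [OneMemClass.coe_one, cj_one]
      _ ≤ _ := le_iSup (fun s : ↥(S : Subgroup P) => cj (s : P) Y) 1
  have hSn : (S : Subgroup P) ≤ Subgroup.normalizer (Ys : Set P) := by
    intro s hs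
    apply mem_normalizer_of_cj_le
    show Ys.map _ ≤ Ys
    rw [hYs, Subgroup.map_iSup]
    apply iSup_le
    intro t
    show cj s (cj (t : P) Y) ≤ _
    rw [cj_cj]
    exact le_iSup (fun s : ↥(S : Subgroup P) => cj (s : P) Y) ⟨s * t, (S : Subgroup P).mul_mem hs t.2⟩
  by_cases hn : Ys.Normal
  · rcases Cfsg.Agent.S2905.part3 hP S M hM hSM Ys hn with h | h
    · exfalso
      rw [pResidual_eq_layer hP hOp S M hM hSM K hK] at h
      have hKYs : K ≤ Ys := (component_le_layer hK).trans h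
      have h1 : Ys ≤ Y ⊔ Subgroup.centralizer (K : Set P) := by
        rw [hYs]
        apply iSup_le
        intro s
        by_cases hs : (s : P) ∈ Subgroup.normalizer (K : Set P)
        · have h2 : (s : P) ∈ Subgroup.normalizer (Y : Set P) := hYT (Subgroup.mem_inf.mpr ⟨s.2, hs⟩)
          rw [cj_le_of_mem_normalizer h2]; exact le_sup_left
        · have hne' : cj (s : P) K ≠ K := fun h => hs (mem_normalizer_iff_cj_eq.mpr h)
          have hc := components_commute (isComponent_map_conj (s : P) hK) hK hne'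
          rw [Subgroup.commutator_eq_bot_iff_le_centralizer] at hc
          exact ((cj_mono _ hYK).trans hc).trans le_sup_right
      apply hne
      apply le_antisymm hYK
      rw [← component_commutator_self hK, Subgroup.commutator_le]
      intro a ha b hb
      have hcomm : ⁅Y, Subgroup.centralizer (K : Set P)⁆ = ⊥ := by
        rw [Subgroup.commutator_eq_bot_iff_le_centralizer]
        intro y hy c hc
        exact (hc y (hYK hy)).symm
      obtain ⟨y1, hy1, c1, hc1, rfl⟩ := mem_sup_of_commutator_eq_bot hcomm (h1 (hKYs ha))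
      obtain ⟨y2, hy2, c2, hc2, rfl⟩ := mem_sup_of_commutator_eq_bot hcomm (h1 (hKYs hb))
      have e1 : ⁅y1 * c1, y2 * c2⁆ = ⁅y1, y2 * c2⁆ :=
        comm_mul_central (hc1 _ hb).symm
      have e2 : ⁅y1, y2 * c2⁆ = ⁅y1, y2⁆ := comm_mul_central' (hc2 _ (hYK hy1)).symm
      rw [e1, e2]
      exact Subgroup.commutator_mem_commutator hy1 hy2 |> fun h => (Subgroup.commutator_le_self Y) h
    · exact hYle.trans (h.trans (Subgroup.normalCore_le M))
  · have hne2 : Ys ⊔ (S : Subgroup P) ≠ ⊤ := by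
      intro htop
      apply hn
      rw [← Subgroup.normalizer_eq_top_iff, eq_top_iff, ← htop]
      exact sup_le Subgroup.le_normalizer hSn
    exact hYle.trans (le_sup_left.trans
      (Cfsg.Agent.S2905.le_M_of_ne_top hP S M hM hSM _ le_sup_right hne2))

/-- proper subgroups of `K T` containing `T` lie in `M`. -/
theorem le_M_of_T_le (hP : Cfsg.IsPMinimal p P) (hOp : Cfsg.pCore p P = ⊥) (S : Sylow p P)
    (M : Subgroup P) (hM : IsCoatom M) (hSM : (S : Subgroup P) ≤ M) (K : Subgroup P)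
    (hK : Cfsg.IsComponent K) (X : Subgroup P)
    (hXQ : X ≤ K ⊔ ((S : Subgroup P) ⊓ Subgroup.normalizer (K : Set P)))
    (hTX : (S : Subgroup P) ⊓ Subgroup.normalizer (K : Set P) ≤ X)
    (hne : X ≠ K ⊔ ((S : Subgroup P) ⊓ Subgroup.normalizer (K : Set P))) : X ≤ M := by
  have hY : X ⊓ K ≤ M := by
    apply le_M_of_invariant hP hOp S M hM hSM K hK (X ⊓ K) inf_le_right
    · intro t ht
      have htX := hTX ht
      have htK := (Subgroup.mem_inf.mp ht).2
      apply mem_normalizer_of_cj_le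
      intro x hx
      rw [mem_cj_iff] at hx
      obtain ⟨h1, h2⟩ := Subgroup.mem_inf.mp hx
      refine Subgroup.mem_inf.mpr ⟨?_, ?_⟩
      · have := X.mul_mem (X.mul_mem htX h1) (X.inv_mem htX)
        simpa [mul_assoc] using this
      · have := (Subgroup.mem_normalizer_iff.mp htK (t⁻¹ * x * t)).mp h2
        simpa [mul_assoc] using this
    · intro h
      apply hne
      apply le_antisymm hXQ
      exact sup_le (inf_eq_right.mp h) hTX
  intro x hx
  have hx' : x ∈ ((K ⊔ ((S : Subgroup P) ⊓ Subgroup.normalizer (K : Set P)) : Subgroup P) : Set P) :=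
    hXQ hx
  rw [Subgroup.coe_mul_of_right_le_normalizer_left K _ inf_le_right] at hx'
  obtain ⟨k, hk, t, ht, rfl⟩ := hx'
  have hkX : k ∈ X := by
    have := X.mul_mem hx (X.inv_mem (hTX ht))
    simpa using this
  exact M.mul_mem (hY (Subgroup.mem_inf.mpr ⟨hkX, hk⟩)) (hSM (Subgroup.mem_inf.mp ht).1)

theorem isCoatom_cj {G : Type*} [Group G] (g : G) {M : Subgroup G} (hM : IsCoatom M) :
    IsCoatom (cj g M) :=
  ((MulAut.conj g).mapSubgroup.isCoatom_iff M).mpr hM

/-- `p`-minimality may be checked on a single Sylow subgroup. -/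
theorem isPMinimal_of_sylow {H : Type*} [Group H] [Finite H] (S₀ : Sylow p H)
    (h1 : ¬ (S₀ : Subgroup H).Normal)
    (h2 : ∃! M : Subgroup H, IsCoatom M ∧ (S₀ : Subgroup H) ≤ M) : Cfsg.IsPMinimal p H := by
  intro S₁
  obtain ⟨g, rfl⟩ := MulAction.exists_smul_eq H S₀ S₁
  constructor
  · intro hn
    apply h1
    have e : g⁻¹ • (g • S₀) = g • S₀ := @Sylow.smul_eq_of_normal _ _ _ g⁻¹ (g • S₀) hn
    rw [inv_smul_smul] at e
    rw [e]; exact hn
  · obtain ⟨M, ⟨hM, hSM⟩, huniq⟩ := h2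
    refine ⟨cj g M, ⟨isCoatom_cj g hM, ?_⟩, ?_⟩
    · rw [coe_smul_sylow_eq_cj]; exact cj_mono g hSM
    · rintro M' ⟨hM', hSM'⟩
      have h3 : cj g⁻¹ M' = M := by
        apply huniq
        refine ⟨isCoatom_cj g⁻¹ hM', ?_⟩
        rw [coe_smul_sylow_eq_cj] at hSM'
        have := cj_mono g⁻¹ hSM'
        rwa [cj_inv_cj] at this
      rw [← h3, cj_cj_inv]

theorem pmin_main (hP : Cfsg.IsPMinimal p P) (hOp : Cfsg.pCore p P = ⊥) (S : Sylow p P)
    (K : Subgroup P) (hK : Cfsg.IsComponent K) :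
    Cfsg.IsPMinimal p ↥(K ⊔ ((S : Subgroup P) ⊓ Subgroup.normalizer (K : Set P))) := by
  obtain ⟨M, ⟨hM, hSM⟩, -⟩ := (hP S).2
  obtain ⟨T, hT⟩ : ∃ T, T = (S : Subgroup P) ⊓ Subgroup.normalizer (K : Set P) := ⟨_, rfl⟩
  obtain ⟨Q, hQ⟩ : ∃ Q, Q = K ⊔ T := ⟨_, rfl⟩
  rw [← hT, ← hQ]
  have hTQ : T ≤ Q := hQ ▸ le_sup_right
  have hKQ : K ≤ Q := hQ ▸ le_sup_left
  have hTS : T ≤ S := hT ▸ inf_le_left
  have hTN : T ≤ Subgroup.normalizer (K : Set P) := hT ▸ inf_le_right
  have hTp : IsPGroup p T := S.2.to_le hTS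
  have hKnotp : ¬ IsPGroup p K := by
    intro h
    apply component_not_solvable hK
    have := h.isNilpotent
    infer_instance
  obtain ⟨T₁, hT₁'⟩ := (hTp.comap_subtype (K := Q)).exists_le_sylow
  have hT₁ : T.subgroupOf Q ≤ (T₁ : Subgroup Q) := hT₁'
  have hTR : T ≤ (T₁ : Subgroup Q).map Q.subtype := by
    intro t ht
    exact ⟨⟨t, hTQ ht⟩, hT₁ (Subgroup.mem_subgroupOf.mpr ht), rfl⟩
  have hT₁eq : (T₁ : Subgroup Q) = T.subgroupOf Q := by
    apply le_antisymm _ hT₁
    intro r hr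
    rw [Subgroup.mem_subgroupOf]
    have hRp : IsPGroup p ((T₁ : Subgroup Q).map Q.subtype) := T₁.2.map _
    have hrQ : (r : P) ∈ ((K ⊔ T : Subgroup P) : Set P) := hQ ▸ r.2
    rw [Subgroup.coe_mul_of_right_le_normalizer_left K T hTN] at hrQ
    obtain ⟨k, hk, t, ht, hkt⟩ := hrQ
    have htR : t ∈ (T₁ : Subgroup Q).map Q.subtype := hTR ht
    have hrR : (r : P) ∈ (T₁ : Subgroup Q).map Q.subtype := ⟨r, hr, rfl⟩
    have hkR : k ∈ (T₁ : Subgroup Q).map Q.subtype := by
      have := Subgroup.mul_mem _ hrR (Subgroup.inv_mem _ htR)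
      rw [← hkt] at this
      simpa using this
    have hidx : ¬ p ∣ ((S : Subgroup P) ⊓ K).relIndex K := by
      rw [Subgroup.inf_relIndex_right]
      exact Cfsg.Agent.Lib.H3.not_dvd_relIndex_of_isSubnormal (S : Subgroup P) hK.1 S.not_dvd_index
    have hSKT : (S : Subgroup P) ⊓ K ≤ T := by
      rw [hT]; exact inf_le_inf_left _ Subgroup.le_normalizer
    have hle : (T₁ : Subgroup Q).map Q.subtype ⊓ K ≤ (S : Subgroup P) ⊓ K := by
      apply le_of_isPGroup_of_not_dvd_relIndex (hRp.to_le inf_le_left) _ inf_le_right hidx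
      exact le_inf (hSKT.trans hTR) inf_le_right
    have hkT : k ∈ T := hSKT (hle (Subgroup.mem_inf.mpr ⟨hkR, hk⟩))
    rw [← hkt]; exact T.mul_mem hkT ht
  have key : ∀ X₁ : Subgroup Q, (T₁ : Subgroup Q) ≤ X₁ → X₁ ≠ ⊤ → X₁ ≤ M.subgroupOf Q := by
    intro X₁ hTX hXne x hx
    rw [Subgroup.mem_subgroupOf]
    have hXle : X₁.map Q.subtype ≤ K ⊔ ((S : Subgroup P) ⊓ Subgroup.normalizer (K : Set P)) := by
      rw [← hT, ← hQ]; exact Subgroup.map_subtype_le X₁
    have hTle : (S : Subgroup P) ⊓ Subgroup.normalizer (K : Set P) ≤ X₁.map Q.subtype := by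
      rw [← hT]; intro t ht
      exact ⟨⟨t, hTQ ht⟩, hTX (hT₁eq ▸ Subgroup.mem_subgroupOf.mpr ht), rfl⟩
    have hneq : X₁.map Q.subtype ≠ K ⊔ ((S : Subgroup P) ⊓ Subgroup.normalizer (K : Set P)) := by
      rw [← hT, ← hQ]
      intro h
      apply hXne
      rw [eq_top_iff]
      intro q _
      have hq : (q : P) ∈ X₁.map Q.subtype := by rw [h]; exact q.2
      obtain ⟨q', hq', e⟩ := hq
      have : q' = q := Subtype.ext e
      rwa [← this]
    exact le_M_of_T_le hP hOp S M hM hSM K hK _ hXle hTle hneq ⟨x, hx, rfl⟩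
  have hM₁ne : M.subgroupOf Q ≠ ⊤ := by
    intro h
    rw [Subgroup.subgroupOf_eq_top] at h
    exact component_not_le_M hP hOp S M hM hSM K hK (hKQ.trans h)
  have hT₁ne : (T₁ : Subgroup Q) ≠ ⊤ := by
    intro h
    rw [hT₁eq, Subgroup.subgroupOf_eq_top] at h
    exact hKnotp (hTp.to_le (hKQ.trans h))
  refine isPMinimal_of_sylow T₁ ?_ ?_
  · intro hn
    obtain ⟨x, hxK, hxM⟩ := SetLike.not_le_iff_exists.mp
      (component_not_le_M hP hOp S M hM hSM K hK)
    obtain ⟨x', hx'⟩ : ∃ x' : Q, x' = ⟨x, hKQ hxK⟩ := ⟨_, rfl⟩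
    have htop : Subgroup.zpowers x' ⊔ (T₁ : Subgroup Q) = ⊤ := by
      by_contra hne
      have h1 := key _ le_sup_right hne
      have hx'M : x' ∈ M.subgroupOf Q :=
        h1 ((le_sup_left : Subgroup.zpowers x' ≤ _) (Subgroup.mem_zpowers x'))
      rw [Subgroup.mem_subgroupOf, hx'] at hx'M
      exact hxM hx'M
    have hcomm : ∀ a b : Q, ⁅a, b⁆ ∈ (T₁ : Subgroup Q) := by
      intro a b
      have ha : a ∈ Subgroup.zpowers x' ⊔ (T₁ : Subgroup Q) := htop ▸ Subgroup.mem_top a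
      have hb : b ∈ Subgroup.zpowers x' ⊔ (T₁ : Subgroup Q) := htop ▸ Subgroup.mem_top b
      obtain ⟨y1, hy1, t1, ht1, rfl⟩ := Subgroup.mem_sup_of_normal_right.mp ha
      obtain ⟨y2, hy2, t2, ht2, rfl⟩ := Subgroup.mem_sup_of_normal_right.mp hb
      obtain ⟨m, rfl⟩ := Subgroup.mem_zpowers_iff.mp hy1
      obtain ⟨n, rfl⟩ := Subgroup.mem_zpowers_iff.mp hy2
      rw [← QuotientGroup.eq_one_iff]
      have e1 : ((x' ^ m * t1 : Q) : Q ⧸ (T₁ : Subgroup Q)) = (x' : Q ⧸ (T₁ : Subgroup Q)) ^ m := by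
        rw [QuotientGroup.mk_mul, (QuotientGroup.eq_one_iff t1).mpr ht1, mul_one,
          QuotientGroup.mk_zpow]
      have e2 : ((x' ^ n * t2 : Q) : Q ⧸ (T₁ : Subgroup Q)) = (x' : Q ⧸ (T₁ : Subgroup Q)) ^ n := by
        rw [QuotientGroup.mk_mul, (QuotientGroup.eq_one_iff t2).mpr ht2, mul_one,
          QuotientGroup.mk_zpow]
      rw [commutatorElement_def, QuotientGroup.mk_mul, QuotientGroup.mk_mul, QuotientGroup.mk_mul,
        QuotientGroup.mk_inv, QuotientGroup.mk_inv, e1, e2]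
      group
    apply hKnotp
    apply hTp.to_le
    rw [← component_commutator_self hK, Subgroup.commutator_le]
    intro a ha b hb
    have h1 := hcomm ⟨a, hKQ ha⟩ ⟨b, hKQ hb⟩
    rw [hT₁eq, Subgroup.mem_subgroupOf] at h1
    exact h1
  · obtain ⟨X₁, hX₁, hTX₁⟩ := (eq_top_or_exists_le_coatom (T₁ : Subgroup Q)).resolve_left hT₁ne
    have hXM : X₁ = M.subgroupOf Q := by
      by_contra hne
      have hle := key X₁ hTX₁ hX₁.1
      exact hM₁ne (hX₁.2 _ (lt_of_le_of_ne hle hne))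
    refine ⟨M.subgroupOf Q, ⟨hXM ▸ hX₁, hXM ▸ hTX₁⟩, ?_⟩
    rintro Y ⟨hY, hTY⟩
    by_contra hne
    have hle := key Y hTY hY.1
    exact hM₁ne (hY.2 _ (lt_of_le_of_ne hle hne))

/-- Let P be a finite p-minimal group with O_p(P) = 1, S a Sylow p-subgroup of P and K a component of P. Then O^p(P) = F*(P) = E(P) is generated by the S-conjugates of K, and the subgroup K·N_S(K) is again p-minimal. -/
theorem result {P : Type*} [Group P] [Finite P] {p : ℕ} [Fact p.Prime] (hP : Cfsg.IsPMinimal p P) (hOp : Cfsg.pCore p P = ⊥) (S : Sylow p P) (K : Subgroup P) (hK : Cfsg.IsComponent K) : Cfsg.pResidual p P = Cfsg.generalizedFittingSubgroup P ∧ Cfsg.generalizedFittingSubgroup P = Cfsg.layer P ∧ Cfsg.layer P = ⨆ s : ↥(S : Subgroup P), K.map (MulAut.conj (s : P)).toMonoidHom ∧ Cfsg.IsPMinimal p ↥(K ⊔ ((S : Subgroup P) ⊓ Subgroup.normalizer (K : Set P))) := by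
  obtain ⟨M, ⟨hM, hSM⟩, -⟩ := (hP S).2
  refine ⟨?_, ?_, ?_, ?_⟩
  · rw [pResidual_eq_layer hP hOp S M hM hSM K hK, gfs_eq_layer hP hOp S M hM hSM K hK]
  · exact gfs_eq_layer hP hOp S M hM hSM K hK
  · exact layer_eq_iSup hP hOp S M hM hSM K hK
  · exact pmin_main hP hOp S K hK


end Cfsg.Agent.S2906
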