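import Cfsg.Statements.S2907
import Mathlib

set_option autoImplicit false
open Cfsg

namespace Cfsg.Agent.S2907

theorem comm_mem_center {X : Type*} [Group X] (hc : commutator X = Subgroup.center X) (a b : X) :
    a * b * a⁻¹ * b⁻¹ ∈ Subgroup.center X := by
  rw [← hc, commutator_def]
  exact Subgroup.commutator_mem_commutator (Subgroup.mem_top a) (Subgroup.mem_top b)

/-- The commutator map `y ↦ [x, y]` as a homomorphism into the centre (class two). -/
noncomputable def commHom {X : Type*} [Group X] (hc : commutator X = Subgroup.center X) (x : X) :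
    X →* ↥(Subgroup.center X) :=
  MonoidHom.mk' (fun y => ⟨x * y * x⁻¹ * y⁻¹, comm_mem_center hc x y⟩) (by
    intro a b
    apply Subtype.ext
    have hb := comm_mem_center hc x b
    rw [Subgroup.mem_center_iff] at hb
    have h1 := hb a⁻¹
    show x * (a * b) * x⁻¹ * (a * b)⁻¹ = (x * a * x⁻¹ * a⁻¹) * (x * b * x⁻¹ * b⁻¹)
    calc x * (a * b) * x⁻¹ * (a * b)⁻¹ = x * a * x⁻¹ * ((x * b * x⁻¹ * b⁻¹) * a⁻¹) := by group
      _ = x * a * x⁻¹ * (a⁻¹ * (x * b * x⁻¹ * b⁻¹)) := by rw [h1]
      _ = (x * a * x⁻¹ * a⁻¹) * (x * b * x⁻¹ * b⁻¹) := by group)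

theorem commHom_apply {X : Type*} [Group X] (hc : commutator X = Subgroup.center X) (x y : X) :
    ((commHom hc x y : ↥(Subgroup.center X)) : X) = x * y * x⁻¹ * y⁻¹ := rfl

theorem ker_commHom {X : Type*} [Group X] (hc : commutator X = Subgroup.center X) (x : X) :
    (commHom hc x).ker = Subgroup.centralizer ({x} : Set X) := by
  ext y
  rw [MonoidHom.mem_ker, Subgroup.mem_centralizer_singleton_iff]
  constructor
  · intro h
    have h1 : x * y * x⁻¹ * y⁻¹ = 1 := by
      have := congrArg Subtype.val h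
      simpa [commHom_apply] using this
    have h2 : x * y = y * x := by
      calc x * y = (x * y * x⁻¹ * y⁻¹) * (y * x) := by group
        _ = y * x := by rw [h1, one_mul]
    exact h2.symm
  · intro h
    apply Subtype.ext
    rw [commHom_apply]
    show x * y * x⁻¹ * y⁻¹ = 1
    rw [← h]; group

theorem range_commHom {X : Type*} [Group X] [Finite X] {p : ℕ} [Fact p.Prime]
    (hX : Cfsg.IsSemiExtraspecial p X) (x : X) (hx : x ∉ Subgroup.center X) :
    (commHom hX.1.2.2 x).range = ⊤ := by
  have hp : p.Prime := Fact.out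
  set φ := commHom hX.1.2.2 x with hφ
  rcases eq_top_or_exists_le_coatom φ.range with h | ⟨Y', hY', hle⟩
  · exact h
  exfalso
  set Y : Subgroup X := Y'.map (Subgroup.center X).subtype with hY
  have hYle : Y ≤ Subgroup.center X := by
    rintro _ ⟨z, _, rfl⟩
    exact z.2
  have hYsub : Y.subgroupOf (Subgroup.center X) = Y' := by
    ext z
    rw [Subgroup.mem_subgroupOf, hY, Subgroup.mem_map]
    constructor
    · rintro ⟨w, hw, hwz⟩
      have : w = z := Subtype.ext hwz
      rw [← this]; exact hw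
    · intro hz
      exact ⟨z, hz, rfl⟩
  obtain ⟨hYn, hes⟩ := hX.2 Y hYle (hYsub ▸ hY')
  have hcard : Nat.card ↥(Subgroup.center (X ⧸ Y)) = p := hes.2
  -- the image of x is central in X ⧸ Y
  have hxbar : (QuotientGroup.mk x : X ⧸ Y) ∈ Subgroup.center (X ⧸ Y) := by
    rw [Subgroup.mem_center_iff]
    intro ybar
    obtain ⟨y, rfl⟩ := QuotientGroup.mk_surjective ybar
    have h1 : x * y * x⁻¹ * y⁻¹ ∈ Y := by
      refine ⟨φ y, hle ⟨y, rfl⟩, rfl⟩
    have h2 : (QuotientGroup.mk (x * y * x⁻¹ * y⁻¹) : X ⧸ Y) = 1 :=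
      (QuotientGroup.eq_one_iff _).mpr h1
    have h3 : (QuotientGroup.mk (x * y) : X ⧸ Y) = QuotientGroup.mk (y * x) := by
      have : x * y = (x * y * x⁻¹ * y⁻¹) * (y * x) := by group
      rw [this, QuotientGroup.mk_mul, h2, one_mul]
    rw [← QuotientGroup.mk_mul, ← QuotientGroup.mk_mul, h3]
  -- the image of the centre is the whole centre of the quotient
  set Zbar : Subgroup (X ⧸ Y) := (Subgroup.center X).map (QuotientGroup.mk' Y) with hZbar
  have hZle : Zbar ≤ Subgroup.center (X ⧸ Y) := by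
    rintro _ ⟨z, hz, rfl⟩
    rw [Subgroup.mem_center_iff]
    intro ybar
    obtain ⟨y, rfl⟩ := QuotientGroup.mk_surjective ybar
    have hz : z ∈ Subgroup.center X := hz
    rw [Subgroup.mem_center_iff] at hz
    show (QuotientGroup.mk y : X ⧸ Y) * QuotientGroup.mk z = QuotientGroup.mk z * QuotientGroup.mk y
    rw [← QuotientGroup.mk_mul, ← QuotientGroup.mk_mul, hz y]
  have hZne : Zbar ≠ ⊥ := by
    intro h
    have hne : Y' ≠ ⊤ := hY'.1
    apply hne
    rw [eq_top_iff]
    intro z _
    have h1 : QuotientGroup.mk' Y (z : X) ∈ Zbar := ⟨z, z.2, rfl⟩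
    rw [h, Subgroup.mem_bot] at h1
    have h2 : (z : X) ∈ Y := (QuotientGroup.eq_one_iff _).mp h1
    rw [← hYsub, Subgroup.mem_subgroupOf]
    exact h2
  have hZeq : Zbar = Subgroup.center (X ⧸ Y) := by
    have hdvd : Nat.card ↥Zbar ∣ p := by
      rw [← hcard]; exact Subgroup.card_dvd_of_le hZle
    rcases (Nat.dvd_prime hp).mp hdvd with h1 | h1
    · exact absurd (Subgroup.card_eq_one.mp h1) hZne
    · apply Subgroup.eq_of_le_of_card_ge hZle
      rw [h1, hcard]
  rw [← hZeq] at hxbar
  obtain ⟨z, hz, hzx⟩ := hxbar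
  have h1 : z⁻¹ * x ∈ Y := by
    rw [← QuotientGroup.eq]
    exact hzx
  apply hx
  have : x = z * (z⁻¹ * x) := by group
  rw [this]
  exact Subgroup.mul_mem _ hz (hYle h1)

/-- Let X be a finite semi-extraspecial p-group and x an element of X outside the centre. Then the index of C_X(x) in X equals the order of Z(X), and the commutators [x, y], y ∈ X, form exactly the centre Z(X). -/
theorem result {X : Type*} [Group X] [Finite X] {p : ℕ} [Fact p.Prime] (hX : Cfsg.IsSemiExtraspecial p X) (x : X) (hx : x ∉ Subgroup.center X) : (Subgroup.centralizer ({x} : Set X)).index = Nat.card ↥(Subgroup.center X) ∧ {z : X | ∃ y : X, z = x * y * x⁻¹ * y⁻¹} = (Subgroup.center X : Set X) := by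
  have hr := range_commHom hX x hx
  constructor
  · rw [← ker_commHom hX.1.2.2 x, Subgroup.index_ker, hr, Subgroup.card_top]
  · ext z
    constructor
    · rintro ⟨y, rfl⟩
      exact comm_mem_center hX.1.2.2 x y
    · intro hz
      have : (⟨z, hz⟩ : ↥(Subgroup.center X)) ∈ (commHom hX.1.2.2 x).range := by rw [hr]; trivial
      obtain ⟨y, hy⟩ := this
      exact ⟨y, (congrArg Subtype.val hy).symm⟩

end Cfsg.Agent.S2907
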