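import Cfsg.Statements.S2908
import Cfsg.Agent.Lib.H15.NormComm
import Cfsg.Agent.Lib.H1.CoprimeAction
import Cfsg.Agent.Lib.H1.Complement

set_option autoImplicit false
open Cfsg

namespace Cfsg.Agent.S2908

open Cfsg.Agent.Lib.H15 Cfsg.Agent.Lib.H1
open scoped commutatorElement

/-- Let P be a p-subgroup of a finite group, normalized by a p-subgroup A and by a subgroup B of order prime to p that commutes elementwise with A. If [P, B] ≤ [P, A], then B centralizes P. -/
theorem result {G : Type*} [Group G] [Finite G] {p : ℕ} [Fact p.Prime] (P A B : Subgroup G) (hP : IsPGroup p ↥P) (hA : IsPGroup p ↥A) (hB : ¬ p ∣ Nat.card ↥B) (hnA : A ≤ Subgroup.normalizer (P : Set G)) (hnB : B ≤ Subgroup.normalizer (P : Set G)) (hAB : ⁅A, B⁆ = ⊥) (hcomm : ⁅P, B⁆ ≤ ⁅P, A⁆) : ⁅P, B⁆ = ⊥ := by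
  classical
  have hpp : p.Prime := Fact.out
  set Q := ⁅P, B⁆ with hQdef
  set T := P ⊔ A with hTdef
  have hBcop : (Nat.card B).Coprime (Nat.card P) := by
    obtain ⟨n, hn⟩ := IsPGroup.iff_card.mp hP
    rw [hn]
    apply Nat.Coprime.pow_right
    rw [Nat.coprime_comm, Nat.Prime.coprime_iff_not_dvd hpp]; exact hB
  have hBP : CoprimeAction B P := by
    refine ⟨hnB, hBcop, Or.inr ?_⟩
    haveI := hP.isNilpotent
    infer_instance
  have hQP : Q ≤ P := hBP.commutator_le
  have hQB : ⁅Q, B⁆ = Q := coprime_commutator_commutator hBP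
  have hdec : Q ⊔ (P ⊓ Subgroup.centralizer (B : Set G)) = P := coprime_commutator_sup_centralizer hBP
  have hTp : IsPGroup p ↥T := by
    rw [hTdef, sup_comm]
    exact hA.to_sup_of_normal_right' hP hnA
  have hTnil : Group.IsNilpotent ↥T := hTp.isNilpotent
  have hAB' : A ≤ Subgroup.centralizer (B : Set G) := Subgroup.commutator_eq_bot_iff_le_centralizer.mp hAB
  have hBA' : B ≤ Subgroup.centralizer (A : Set G) := by
    rw [Subgroup.commutator_comm] at hAB
    exact Subgroup.commutator_eq_bot_iff_le_centralizer.mp hAB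
  -- normalizers
  have hPQ : P ≤ Subgroup.normalizer (Q : Set G) := Subgroup.normalizer_commutator_ge_left P B
  have hBQ : B ≤ Subgroup.normalizer (Q : Set G) := Subgroup.normalizer_commutator_ge_right P B
  have hAnB : A ≤ Subgroup.normalizer (B : Set G) := hAB'.trans (Subgroup.centralizer_le_normalizer _)
  have hBnA : B ≤ Subgroup.normalizer (A : Set G) := hBA'.trans (Subgroup.centralizer_le_normalizer _)
  have hAQ : A ≤ Subgroup.normalizer (Q : Set G) := le_normalizer_commutator hnA hAnB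
  have hTQ : T ≤ Subgroup.normalizer (Q : Set G) := sup_le hPQ hAQ
  have hBT : B ≤ Subgroup.normalizer (T : Set G) := le_normalizer_sup hnB hBnA
  set R := ⁅Q, T⁆ with hRdef
  have hRQ : R ≤ Q := Subgroup.le_normalizer_iff_commutator_le_left.mp hTQ
  have hTR : T ≤ Subgroup.normalizer (R : Set G) := le_normalizer_commutator hTQ Subgroup.le_normalizer
  have hBR : B ≤ Subgroup.normalizer (R : Set G) := le_normalizer_commutator hBQ hBT
  have hPT : P ≤ T := le_sup_left
  have hAT : A ≤ T := le_sup_right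
  -- the subgroup M
  let M : Subgroup G :=
    { carrier := {g | g ∈ P ∧ ∀ b ∈ B, ⁅g, b⁆ ∈ R}
      one_mem' := ⟨P.one_mem, fun b _ => by rw [commutatorElement_one_left]; exact R.one_mem⟩
      mul_mem' := by
        rintro g h ⟨hg, hg'⟩ ⟨hh, hh'⟩
        refine ⟨P.mul_mem hg hh, fun b hb => ?_⟩
        have e : ⁅g * h, b⁆ = g * ⁅h, b⁆ * g⁻¹ * ⁅g, b⁆ := by
          simp only [commutatorElement_def]; group
        rw [e]
        exact R.mul_mem ((Subgroup.mem_normalizer_iff.mp (hTR (hPT hg)) _).mp (hh' b hb)) (hg' b hb)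
      inv_mem' := by
        rintro g ⟨hg, hg'⟩
        refine ⟨P.inv_mem hg, fun b hb => ?_⟩
        have e : ⁅g⁻¹, b⁆ = g⁻¹ * (⁅g, b⁆)⁻¹ * g⁻¹⁻¹ := by
          simp only [commutatorElement_def]; group
        rw [e]
        exact (Subgroup.mem_normalizer_iff.mp (hTR (hPT (P.inv_mem hg))) _).mp (R.inv_mem (hg' b hb)) }
  have hM : ∀ g, g ∈ M ↔ g ∈ P ∧ ∀ b ∈ B, ⁅g, b⁆ ∈ R := fun g => Iff.rfl
  have hRM : R ≤ M := by
    intro r hr
    refine (hM r).mpr ⟨hQP (hRQ hr), fun b hb => ?_⟩
    have e : ⁅r, b⁆ = r * (b * r⁻¹ * b⁻¹) := by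
      simp only [commutatorElement_def]; group
    rw [e]
    exact R.mul_mem hr ((Subgroup.mem_normalizer_iff.mp (hBR hb) _).mp (R.inv_mem hr))
  have hCM : P ⊓ Subgroup.centralizer (B : Set G) ≤ M := by
    intro c hc
    refine (hM c).mpr ⟨hc.1, fun b hb => ?_⟩
    have h1 : b * c = c * b := (Subgroup.mem_centralizer_iff.mp hc.2) b hb
    have e : ⁅c, b⁆ = 1 := by
      rw [commutatorElement_def, ← h1]; group
    rw [e]; exact R.one_mem
  have hPAM : ⁅P, A⁆ ≤ M := by
    rw [Subgroup.commutator_le]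
    intro x hx a ha
    have hx' : x ∈ Q ⊔ (P ⊓ Subgroup.centralizer (B : Set G)) := by rw [hdec]; exact hx
    obtain ⟨q, hq, c, hc, rfl⟩ :=
      mem_sup_of_le_normalizer (inf_le_left.trans hPQ) hx'
    -- q * c = c * (c⁻¹ * q * c)
    set q' := c⁻¹ * q * c with hq'def
    have hq' : q' ∈ Q := by
      have := (Subgroup.mem_normalizer_iff.mp (hPQ (P.inv_mem hc.1)) q).mp hq
      rw [inv_inv] at this
      exact this
    have e1 : q * c = c * q' := by rw [hq'def]; group
    rw [e1]
    have e2 : ⁅c * q', a⁆ = c * ⁅q', a⁆ * c⁻¹ * ⁅c, a⁆ := by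
      simp only [commutatorElement_def]; group
    rw [e2]
    apply M.mul_mem
    · apply hRM
      refine (Subgroup.mem_normalizer_iff.mp (hTR (hPT hc.1)) _).mp ?_
      exact Subgroup.commutator_mem_commutator hq' (hAT ha)
    · apply hCM
      refine Subgroup.mem_inf.mpr ⟨?_, ?_⟩
      · have e : ⁅c, a⁆ = c * (a * c⁻¹ * a⁻¹) := by
          simp only [commutatorElement_def]; group
        rw [e]
        exact P.mul_mem hc.1 ((Subgroup.mem_normalizer_iff.mp (hnA ha) _).mp (P.inv_mem hc.1))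
      · rw [commutatorElement_def]
        exact Subgroup.mul_mem _ (Subgroup.mul_mem _ (Subgroup.mul_mem _ hc.2 (hAB' ha))
          (Subgroup.inv_mem _ hc.2)) (Subgroup.inv_mem _ (hAB' ha))
  have hQM : Q ≤ M := hcomm.trans hPAM
  have hQR : Q ≤ R := by
    rw [← hQB, Subgroup.commutator_le]
    intro q hq b hb
    exact ((hM q).mp (hQM hq)).2 b hb
  exact eq_bot_of_le_commutator hTnil (hQP.trans hPT) hQR


end Cfsg.Agent.S2908
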