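import Cfsg.Statements.S2909
import Cfsg.Agent.S2908
import Cfsg.Agent.Lib.H15.NormComm
import Cfsg.Agent.Lib.H7.Coprime
import Cfsg.Agent.Lib.H9.CoprimeGeneration

set_option autoImplicit false
open Cfsg

namespace Cfsg.Agent.S2909

open Cfsg.Agent.Lib.H15 Cfsg.Agent.Lib.H1
open scoped commutatorElement

theorem le_normalizer_inf' {G : Type*} [Group G] {X H K : Subgroup G}
    (h1 : X ≤ Subgroup.normalizer (H : Set G)) (h2 : X ≤ Subgroup.normalizer (K : Set G)) :
    X ≤ Subgroup.normalizer ((H ⊓ K : Subgroup G) : Set G) := by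
  intro g hg
  rw [Subgroup.mem_normalizer_iff]
  intro h
  rw [Subgroup.mem_inf, Subgroup.mem_inf, ← Subgroup.mem_normalizer_iff.mp (h1 hg) h,
    ← Subgroup.mem_normalizer_iff.mp (h2 hg) h]

theorem centralizer_zpowers {G : Type*} [Group G] (u : G) :
    Subgroup.centralizer ((Subgroup.zpowers u : Subgroup G) : Set G) = Subgroup.centralizer ({u} : Set G) := by
  rw [Subgroup.zpowers_eq_closure, Subgroup.centralizer_closure]

/-- if `U ≤ X`, and `r X r⁻¹ ≤ X` for `r ∈ Ru`, then `[Ru, U] ≤ X` -/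
theorem commutator_le_of_conj_mem {G : Type*} [Group G] {Ru U X : Subgroup G} (hUX : U ≤ X)
    (hconj : ∀ r ∈ Ru, ∀ x ∈ U, r * x * r⁻¹ ∈ X) : ⁅Ru, U⁆ ≤ X := by
  rw [Subgroup.commutator_le]
  intro r hr v hv
  rw [commutatorElement_def]
  exact X.mul_mem (hconj r hr v hv) (X.inv_mem (hUX hv))

/-- the key step: for nontrivial `u ∈ U`, `[C_R(u), U]` centralizes `E` -/
theorem key_step {G : Type*} [Group G] [Finite G] {p : ℕ} [Fact p.Prime] (E : Subgroup G) [hEn : E.Normal]
    (hE : IsPGroup p ↥E) (U : Subgroup G) (hU : Cfsg.IsElementaryAbelian p U)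
    (R : Subgroup G) (hR : ¬ p ∣ Nat.card ↥R) (hRU : U ≤ Subgroup.normalizer (R : Set G))
    (u : G) (huU : u ∈ U)
    (hcond : E ⊓ Subgroup.centralizer (U : Set G) = E ⊓ Subgroup.centralizer ({u} : Set G) ∨
      ⁅E, U⁆ = ⁅E, Subgroup.zpowers u⁆) :
    ⁅R ⊓ Subgroup.centralizer ({u} : Set G), U⁆ ≤ Subgroup.centralizer (E : Set G) := by
  have hpp : p.Prime := Fact.out
  have hUcomm : ∀ a ∈ U, ∀ b ∈ U, a * b = b * a := by
    intro a ha b hb
    exact congrArg Subtype.val (hU.1.is_comm.comm (⟨a, ha⟩ : ↥U) ⟨b, hb⟩)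
  set Cu := Subgroup.centralizer ({u} : Set G) with hCudef
  set Ru := R ⊓ Cu with hRudef
  set Bu := ⁅Ru, U⁆ with hBudef
  have hEnorm : ∀ X : Subgroup G, X ≤ Subgroup.normalizer (E : Set G) := by
    intro X
    rw [Subgroup.normalizer_eq_top]; exact le_top
  have hUCu : U ≤ Cu := by
    intro v hv
    rw [hCudef, Subgroup.mem_centralizer_iff]
    intro y hy
    rw [Set.mem_singleton_iff] at hy
    rw [hy]; exact hUcomm u huU v hv
  have hUnRu : U ≤ Subgroup.normalizer (Ru : Set G) :=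
    le_normalizer_inf' hRU (hUCu.trans Subgroup.le_normalizer)
  have hBuRu : Bu ≤ Ru := Subgroup.le_normalizer_iff_commutator_le_left.mp hUnRu
  have hBuR : Bu ≤ R := hBuRu.trans inf_le_left
  have hBuCu : Bu ≤ Cu := hBuRu.trans inf_le_right
  have hBucop : (Nat.card Bu).Coprime p := by
    have h1 : (Nat.card R).Coprime p := by
      rw [Nat.coprime_comm, Nat.Prime.coprime_iff_not_dvd hpp]; exact hR
    exact Nat.Coprime.coprime_dvd_left (Subgroup.card_dvd_of_le hBuR) h1
  have hUp : IsPGroup p ↥U := fun g => ⟨1, by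
    rw [pow_one]; exact Subtype.ext (by simpa using hU.2 g g.2)⟩
  have hZ : IsPGroup p ↥(Subgroup.zpowers u) := hUp.to_le (by rw [Subgroup.zpowers_le]; exact huU)
  have hBuZ : ⁅Bu, Subgroup.zpowers u⁆ = ⊥ := by
    rw [Subgroup.commutator_eq_bot_iff_le_centralizer, centralizer_zpowers]; exact hBuCu
  have hRuE : ∀ r ∈ Ru, ∀ e ∈ E, r⁻¹ * e * r ∈ E := by
    intro r _ e he
    have := hEn.conj_mem e he r⁻¹
    simpa using this
  rcases hcond with hc | hc
  · -- case (i)
    set F := E ⊓ Cu with hFdef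
    have hUF : U ≤ Subgroup.centralizer (F : Set G) := by
      intro v hv
      rw [Subgroup.mem_centralizer_iff]
      intro f hf
      have hf' : f ∈ E ⊓ Subgroup.centralizer (U : Set G) := by rw [hc]; exact hf
      exact ((Subgroup.mem_centralizer_iff.mp hf'.2) v hv).symm
    have hBuF : Bu ≤ Subgroup.centralizer (F : Set G) := by
      apply commutator_le_of_conj_mem hUF
      intro r hr v hv
      rw [Subgroup.mem_centralizer_iff]
      intro f hf
      have hrCu : r ∈ Cu := hr.2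
      have h1 : r⁻¹ * f * r ∈ F := by
        refine Subgroup.mem_inf.mpr ⟨hRuE r hr f hf.1, ?_⟩
        exact Cu.mul_mem (Cu.mul_mem (Cu.inv_mem hrCu) hf.2) hrCu
      have h2 : (r⁻¹ * f * r) * v = v * (r⁻¹ * f * r) := (Subgroup.mem_centralizer_iff.mp (hUF hv)) _ h1
      calc f * (r * v * r⁻¹) = r * ((r⁻¹ * f * r) * v) * r⁻¹ := by group
        _ = r * (v * (r⁻¹ * f * r)) * r⁻¹ := by rw [h2]
        _ = r * v * r⁻¹ * f := by group
    have h3 : ⁅Bu, E ⊓ Subgroup.centralizer ((Subgroup.zpowers u : Subgroup G) : Set G)⁆ = ⊥ := by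
      rw [centralizer_zpowers, Subgroup.commutator_eq_bot_iff_le_centralizer]
      exact hBuF
    have h4 := Cfsg.Agent.Lib.H7.thompson_AxB' p hE hZ hBucop hBuZ (hEnorm Bu) (hEnorm _) h3
    exact Subgroup.commutator_eq_bot_iff_le_centralizer.mp h4
  · -- case (ii)
    set E₁ := ⁅E, Subgroup.zpowers u⁆ with hE₁def
    have hZnE₁ : Cu ≤ Subgroup.normalizer (E₁ : Set G) := by
      apply le_normalizer_commutator (hEnorm Cu)
      have : Cu = Subgroup.centralizer ((Subgroup.zpowers u : Subgroup G) : Set G) := by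
        rw [hCudef, centralizer_zpowers]
      rw [this]
      exact Subgroup.centralizer_le_normalizer _
    let X : Subgroup G :=
      { carrier := {g | g ∈ Subgroup.normalizer (E₁ : Set G) ∧ ∀ e ∈ E, ⁅e, g⁆ ∈ E₁}
        one_mem' := ⟨Subgroup.one_mem _, fun e _ => by rw [commutatorElement_one_right]; exact E₁.one_mem⟩
        mul_mem' := by
          rintro g h ⟨hg, hg'⟩ ⟨hh, hh'⟩
          refine ⟨Subgroup.mul_mem _ hg hh, fun e he => ?_⟩
          have e1 : ⁅e, g * h⁆ = ⁅e, g⁆ * (g * ⁅e, h⁆ * g⁻¹) := by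
            simp only [commutatorElement_def]; group
          rw [e1]
          exact E₁.mul_mem (hg' e he) ((Subgroup.mem_normalizer_iff.mp hg _).mp (hh' e he))
        inv_mem' := by
          rintro g ⟨hg, hg'⟩
          refine ⟨Subgroup.inv_mem _ hg, fun e he => ?_⟩
          have e1 : ⁅e, g⁻¹⁆ = g⁻¹ * (⁅e, g⁆)⁻¹ * g⁻¹⁻¹ := by
            simp only [commutatorElement_def]; group
          rw [e1]
          exact (Subgroup.mem_normalizer_iff.mp (Subgroup.inv_mem _ hg) _).mp (E₁.inv_mem (hg' e he)) }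
    have hX : ∀ g, g ∈ X ↔ g ∈ Subgroup.normalizer (E₁ : Set G) ∧ ∀ e ∈ E, ⁅e, g⁆ ∈ E₁ := fun g => Iff.rfl
    have hUX : U ≤ X := by
      intro v hv
      refine (hX v).mpr ⟨hZnE₁ (hUCu hv), fun e he => ?_⟩
      have h5 : ⁅e, v⁆ ∈ ⁅E, U⁆ := Subgroup.commutator_mem_commutator he hv
      rw [hc] at h5
      exact h5
    have hBuX : Bu ≤ X := by
      apply commutator_le_of_conj_mem hUX
      intro r hr v hv
      have hrN : r ∈ Subgroup.normalizer (E₁ : Set G) := hZnE₁ hr.2
      have hvX := (hX v).mp (hUX hv)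
      refine (hX _).mpr ⟨Subgroup.mul_mem _ (Subgroup.mul_mem _ hrN hvX.1) (Subgroup.inv_mem _ hrN), fun e he => ?_⟩
      have e1 : ⁅e, r * v * r⁻¹⁆ = r * ⁅r⁻¹ * e * r, v⁆ * r⁻¹ := by
        simp only [commutatorElement_def]; group
      rw [e1]
      exact (Subgroup.mem_normalizer_iff.mp hrN _).mp (hvX.2 _ (hRuE r hr e he))
    have h3 : ⁅E, Bu⁆ ≤ ⁅E, Subgroup.zpowers u⁆ := by
      rw [Subgroup.commutator_le]
      intro e he b hb
      exact ((hX b).mp (hBuX hb)).2 e he
    have hBnd : ¬ p ∣ Nat.card ↥Bu := by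
      rw [← Nat.Prime.coprime_iff_not_dvd hpp, Nat.coprime_comm]; exact hBucop
    have hZB : ⁅Subgroup.zpowers u, Bu⁆ = ⊥ := by
      rw [Subgroup.commutator_comm]; exact hBuZ
    have h4 := Cfsg.Agent.S2908.result E (Subgroup.zpowers u) Bu hE hZ hBnd (hEnorm _) (hEnorm _) hZB h3
    rw [Subgroup.commutator_comm] at h4
    exact Subgroup.commutator_eq_bot_iff_le_centralizer.mp h4

/-- Let p be a prime, E a normal p-subgroup of the finite group G, and U a non-cyclic elementary abelian p-subgroup of G such that either C_E(U) = C_E(u) for every nontrivial u ∈ U, or [E, U] = [E, ⟨u⟩] for every nontrivial u ∈ U. If R is a subgroup of order prime to p normalized by U, then [R, U] centralizes E. -/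
theorem result {G : Type*} [Group G] [Finite G] {p : ℕ} [Fact p.Prime] (E : Subgroup G) [E.Normal] (hE : IsPGroup p ↥E) (U : Subgroup G) (hU : Cfsg.IsElementaryAbelian p U) (hnc : ¬ IsCyclic ↥U) (hcond : (∀ u ∈ U, u ≠ 1 → E ⊓ Subgroup.centralizer (U : Set G) = E ⊓ Subgroup.centralizer ({u} : Set G)) ∨ (∀ u ∈ U, u ≠ 1 → ⁅E, U⁆ = ⁅E, Subgroup.zpowers u⁆)) (R : Subgroup G) (hR : ¬ p ∣ Nat.card ↥R) (hRU : U ≤ Subgroup.normalizer (R : Set G)) : ⁅R, U⁆ ≤ Subgroup.centralizer (E : Set G) := by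
  classical
  have hpp : p.Prime := Fact.out
  have hUcomm : ∀ a ∈ U, ∀ b ∈ U, a * b = b * a := by
    intro a ha b hb
    exact congrArg Subtype.val (hU.1.is_comm.comm (⟨a, ha⟩ : ↥U) ⟨b, hb⟩)
  have hkey : ∀ u ∈ U, u ≠ 1 →
      ⁅R ⊓ Subgroup.centralizer ({u} : Set G), U⁆ ≤ Subgroup.centralizer (E : Set G) := by
    intro u hu hu1
    apply key_step E hE U hU R hR hRU u hu
    rcases hcond with h | h
    · exact Or.inl (h u hu hu1)
    · exact Or.inr (h u hu hu1)
  have hCEn : (Subgroup.centralizer (E : Set G)).Normal := inferInstance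
  -- the subgroup M' of elements of R whose commutators with U centralize E
  let M' : Subgroup G :=
    { carrier := {r | ∀ v ∈ U, ⁅r, v⁆ ∈ Subgroup.centralizer (E : Set G)}
      one_mem' := fun v _ => by rw [commutatorElement_one_left]; exact Subgroup.one_mem _
      mul_mem' := by
        intro g h hg hh v hv
        have e1 : ⁅g * h, v⁆ = g * ⁅h, v⁆ * g⁻¹ * ⁅g, v⁆ := by
          simp only [commutatorElement_def]; group
        rw [e1]
        exact Subgroup.mul_mem _ (hCEn.conj_mem _ (hh v hv) g) (hg v hv)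
      inv_mem' := by
        intro g hg v hv
        have e1 : ⁅g⁻¹, v⁆ = g⁻¹ * (⁅g, v⁆)⁻¹ * g⁻¹⁻¹ := by
          simp only [commutatorElement_def]; group
        rw [e1]
        exact hCEn.conj_mem _ (Subgroup.inv_mem _ (hg v hv)) g⁻¹ }
  have hM' : ∀ r, r ∈ M' ↔ ∀ v ∈ U, ⁅r, v⁆ ∈ Subgroup.centralizer (E : Set G) := fun r => Iff.rfl
  have hle : ∀ u ∈ U, u ≠ 1 → R ⊓ Subgroup.centralizer ({u} : Set G) ≤ M' := by
    intro u hu hu1 r hr
    rw [hM']
    intro v hv
    exact hkey u hu hu1 (Subgroup.commutator_mem_commutator hr hv)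
  -- two independent elements of U
  have hUne : U ≠ ⊥ := by
    intro h
    apply hnc
    rw [h]
    infer_instance
  obtain ⟨⟨x, hxU⟩, hx1'⟩ := (Subgroup.ne_bot_iff_exists_ne_one.mp hUne)
  have hx1 : x ≠ 1 := fun h => hx1' (Subtype.ext h)
  obtain ⟨y, hyU, hyx⟩ : ∃ y ∈ U, y ∉ Subgroup.zpowers x := by
    by_contra h
    push Not at h
    have h1 : U = Subgroup.zpowers x :=
      le_antisymm (fun y hy => h y hy) (by rw [Subgroup.zpowers_le]; exact hxU)
    apply hnc
    rw [h1]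
    infer_instance
  have hUp : IsPGroup p ↥U := fun g => ⟨1, by
    rw [pow_one]; exact Subtype.ext (by simpa using hU.2 g g.2)⟩
  have hRcop : (Nat.card R).Coprime p := by
    rw [Nat.coprime_comm, Nat.Prime.coprime_iff_not_dvd hpp]; exact hR
  have hUR : Cfsg.Agent.Lib.H1.CoprimeAction U R := by
    refine ⟨hRU, ?_, Or.inl ?_⟩
    · obtain ⟨n, hn⟩ := IsPGroup.iff_card.mp hUp
      rw [hn]
      exact Nat.Coprime.pow_left n hRcop.symm
    · exact isSolvable_of_comm (fun a b => hU.1.is_comm.comm a b)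
  have hRM : R ≤ M' := by
    apply Cfsg.Agent.Lib.H9.le_of_centralizers_le hUR hRcop hxU hyU (hUcomm x hxU y hyU)
      (hU.2 x hxU) (hU.2 y hyU)
    · exact hle x hxU hx1
    · intro i
      apply hle _ (U.mul_mem (U.pow_mem hxU i) hyU)
      intro h
      apply hyx
      have : y = (x ^ i)⁻¹ := eq_inv_of_mul_eq_one_right h
      rw [this]
      exact Subgroup.inv_mem _ (Subgroup.pow_mem _ (Subgroup.mem_zpowers x) i)
  rw [Subgroup.commutator_le]
  intro r hr v hv
  exact (hM' r).mp (hRM hr) v hv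


end Cfsg.Agent.S2909
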