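import Cfsg.Statements.S2910
import Cfsg.Agent.Lib.H15.OmegaOdd
import Cfsg.Agent.Lib.L0.FrobeniusPC
import Cfsg.Agent.Lib.H5.SylowIn

set_option autoImplicit false
open Cfsg

namespace Cfsg.Agent.S2910

open Cfsg.Agent.Lib.H15

/-- Let p be an odd prime dividing the order of the finite group G and P a Sylow p-subgroup of G. If Ω₁(P) (generated by the elements of order dividing p) is contained in the centre of G, then G has a normal p-complement. In particular, if G is quasisimple then Ω₁(P) is not central in G. -/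
theorem result {G : Type*} [Group G] [Finite G] {p : ℕ} [Fact p.Prime] (hp : p ≠ 2) (hdiv : p ∣ Nat.card G) (P : Sylow p G) (hZ : Cfsg.omegaOne p (P : Subgroup G) ≤ Subgroup.center G) : Cfsg.HasNormalPComplement p G ∧ ¬ Cfsg.IsQuasisimple G := by
  classical
  have hpp : p.Prime := Fact.out
  have hfrob : Cfsg.Agent.Lib.L0.FrobHyp p G := by
    intro Q hQ g hgN hgcop
    obtain ⟨P', hP'⟩ := hQ.exists_le_sylow
    obtain ⟨h, hh⟩ := MulAction.exists_smul_eq G P P'
    have hΩ : ∀ x ∈ Q, x ^ p = 1 → g * x = x * g := by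
      intro x hx hxp
      have hxP' : x ∈ (h • P : Sylow p G) := by rw [hh]; exact hP' hx
      rw [Cfsg.Agent.Lib.H5.sylow_mem_smul_iff] at hxP'
      have hxp' : (h⁻¹ * x * h) ^ p = 1 := by
        have := conj_pow (a := h⁻¹) (b := x) (i := p)
        rw [inv_inv] at this
        rw [this, hxp]; group
      have hc : h⁻¹ * x * h ∈ Subgroup.center G :=
        hZ (Subgroup.subset_closure ⟨hxP', hxp'⟩)
      have hxc : x ∈ Subgroup.center G := by
        have := (inferInstance : (Subgroup.center G).Normal).conj_mem _ hc h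
        have e : h * (h⁻¹ * x * h) * h⁻¹ = x := by group
        rwa [e] at this
      exact (Subgroup.mem_center_iff.mp hxc g)
    have := commute_of_commute_omega hp hgcop hQ hgN hΩ
    rw [Subgroup.mem_centralizer_iff]
    intro x hx
    exact (this x hx).symm
  have hnpc := Cfsg.Agent.Lib.L0.hasNormalPComplement_of_frobHyp hfrob
  refine ⟨hnpc, ?_⟩
  rintro ⟨hperf, -⟩
  obtain ⟨P', K, hKn, hKP⟩ := hnpc
  haveI := hKn
  haveI := hperf
  have hcard : Nat.card (G ⧸ K) = Nat.card (P' : Subgroup G) := by
    rw [← Subgroup.index_eq_card]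
    exact hKP.symm.index_eq_card
  have hPG : IsPGroup p (G ⧸ K) := by
    obtain ⟨k, hk⟩ := IsPGroup.iff_card.mp P'.2
    exact IsPGroup.of_card (hcard.trans hk)
  haveI : Nontrivial (G ⧸ K) := by
    rw [← Finite.one_lt_card_iff_nontrivial, hcard]
    have h1 := P'.card_eq_multiplicity
    rw [h1]
    have hpos : 0 < (Nat.card G).factorization p :=
      Nat.Prime.factorization_pos_of_dvd hpp Nat.card_pos.ne' hdiv
    exact Nat.one_lt_pow hpos.ne' hpp.one_lt
  exact Group.IsPerfect.not_isNilpotent (G := G ⧸ K) hPG.isNilpotent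


end Cfsg.Agent.S2910
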