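import Cfsg.Statements.S2911
import Mathlib
import Cfsg.Agent.Lib.H9.TransferInvolution
import Cfsg.Agent.Lib.H16.ThompsonTransfer

set_option autoImplicit false
open Cfsg

namespace Cfsg.Agent.S2911

open scoped commutatorElement

/-- the model Sylow subgroup -/
abbrev T := Multiplicative (ZMod 2) × DihedralGroup 4

/-- the central involution outside the dihedral factor -/
def z₀ : T := (Multiplicative.ofAdd 1, 1)

theorem z₀_sq : z₀ * z₀ = 1 := by decide

theorem z₀_central : ∀ t : T, t * z₀ = z₀ * t := by decide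

theorem z₀_fst : z₀.1 ≠ 1 := by decide

theorem central_cases : ∀ t : T, (∀ s : T, s * t = t * s) → t.1 = 1 →
    t = 1 ∨ t = ⁅(((1 : Multiplicative (ZMod 2)), DihedralGroup.r 1) : T),
      ((1 : Multiplicative (ZMod 2)), DihedralGroup.sr 0)⁆ := by decide

theorem fst_commutator (a b : T) : (⁅a, b⁆).1 = 1 := by
  rw [commutatorElement_def]
  simp only [Prod.fst_mul, Prod.fst_inv]
  rw [mul_comm a.1 b.1, mul_assoc, mul_assoc]
  simp

/-- A finite group whose Sylow 2-subgroups are isomorphic to the direct product of a group of order 2 and a dihedral group of order 8 has a subgroup of index two. -/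
theorem result {G : Type*} [Group G] [Finite G] (S : Sylow 2 G) (hS : Nonempty (↥(S : Subgroup G) ≃* Multiplicative (ZMod 2) × DihedralGroup 4)) : ∃ H : Subgroup G, H.index = 2 := by
  classical
  have : Fact (Nat.Prime 2) := ⟨Nat.prime_two⟩
  obtain ⟨e⟩ := hS
  set H : Subgroup G := (S : Subgroup G) with hH
  let ψ : H →* Multiplicative (ZMod 2) := (MonoidHom.fst _ _).comp e.toMonoidHom
  let M : Subgroup G := ψ.ker.map H.subtype
  have hMS : M ≤ H := Subgroup.map_subtype_le _
  have hmemM : ∀ s : H, (s : G) ∈ M ↔ (e s).1 = 1 := by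
    intro s
    constructor
    · rintro ⟨y, hy, hys⟩
      have : y = s := Subtype.ext hys
      rw [← this]
      exact hy
    · intro h
      exact ⟨s, h, rfl⟩
  have hM : M.relIndex H = 2 := by
    have h1 : M.subgroupOf H = ψ.ker :=
      Subgroup.comap_map_eq_self_of_injective H.subtype_injective ψ.ker
    rw [Subgroup.relIndex, h1, Subgroup.index_ker]
    have hsurj : Function.Surjective ψ := by
      intro a
      refine ⟨e.symm (a, 1), ?_⟩
      show (e (e.symm (a, 1))).1 = a
      rw [MulEquiv.apply_symm_apply]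
    rw [MonoidHom.range_eq_top.mpr hsurj, Subgroup.card_top, Nat.card_eq_fintype_card]
    rfl
  have hMnorm : ∀ h ∈ H, ∀ k ∈ M, h⁻¹ * k * h ∈ M := by
    intro h hh k hk
    have hkH : k ∈ H := hMS hk
    have h1 := (hmemM ⟨k, hkH⟩).mp hk
    have h2 : (⟨h⁻¹ * k * h, H.mul_mem (H.mul_mem (H.inv_mem hh) hkH) hh⟩ : H) =
        (⟨h, hh⟩ : H)⁻¹ * ⟨k, hkH⟩ * ⟨h, hh⟩ := rfl
    have h3 := (hmemM ⟨h⁻¹ * k * h, H.mul_mem (H.mul_mem (H.inv_mem hh) hkH) hh⟩).mpr (by
      rw [h2, map_mul, map_mul, map_inv, Prod.fst_mul, Prod.fst_mul, Prod.fst_inv, h1]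
      simp)
    exact h3
  -- the central involution
  set zS : H := e.symm z₀ with hzS
  set z : G := (zS : G) with hz
  have hzH : z ∈ H := zS.2
  have hez : e zS = z₀ := by rw [hzS, MulEquiv.apply_symm_apply]
  have hzz : z * z = 1 := by
    have h1 : zS * zS = 1 := by
      apply e.injective
      rw [map_mul, hez, z₀_sq, map_one]
    have := congrArg Subtype.val h1
    simpa using this
  have hzc : ∀ s ∈ H, s * z = z * s := by
    intro s hs
    have h1 : (⟨s, hs⟩ : H) * zS = zS * ⟨s, hs⟩ := by
      apply e.injective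
      rw [map_mul, map_mul, hez]
      exact z₀_central _
    have := congrArg Subtype.val h1
    simpa using this
  have hzM : z ∉ M := by
    intro h
    have := (hmemM zS).mp h
    rw [hez] at this
    exact z₀_fst this
  -- conjugates of `z` under the normalizer stay outside `M`
  have key : ∀ g : G, (∀ s ∈ H, g⁻¹ * s * g ∈ H) → g⁻¹ * z * g ∉ M := by
    intro g hg hmem
    -- the automorphism of `H`
    let α : H → H := fun s => ⟨g⁻¹ * s * g, hg s s.2⟩
    have hαmul : ∀ s t : H, α (s * t) = α s * α t := by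
      intro s t
      apply Subtype.ext
      show g⁻¹ * (s * t : G) * g = (g⁻¹ * s * g) * (g⁻¹ * t * g)
      group
    have hαinj : Function.Injective α := by
      intro s t hst
      have h1 : g⁻¹ * (s : G) * g = g⁻¹ * t * g := congrArg Subtype.val hst
      apply Subtype.ext
      have h2 : (s : G) = g * (g⁻¹ * s * g) * g⁻¹ := by group
      rw [h2, h1]
      group
    have hαsurj : Function.Surjective α := Finite.injective_iff_surjective.mp hαinj
    have hαcomm : ∀ s t : H, α ⁅s, t⁆ = ⁅α s, α t⁆ := by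
      intro s t
      apply Subtype.ext
      show g⁻¹ * (⁅s, t⁆ : H) * g = _
      simp only [commutatorElement_def, Subgroup.coe_mul, Subgroup.coe_inv]
      show _ = (g⁻¹ * s * g) * (g⁻¹ * t * g) * (g⁻¹ * s * g)⁻¹ * (g⁻¹ * t * g)⁻¹
      group
    -- `α zS` is central
    have hcen : ∀ s : T, s * e (α zS) = e (α zS) * s := by
      intro s
      obtain ⟨s', hs'⟩ := hαsurj (e.symm s)
      have h1 : e.symm s * α zS = α zS * e.symm s := by
        rw [← hs', ← hαmul, ← hαmul]
        congr 1
        apply Subtype.ext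
        exact hzc s' s'.2
      have := congrArg e h1
      rw [map_mul, map_mul, MulEquiv.apply_symm_apply] at this
      exact this
    have hfst : (e (α zS)).1 = 1 := (hmemM (α zS)).mp hmem
    rcases central_cases _ hcen hfst with h1 | h1
    · have h2 : α zS = 1 := by
        apply e.injective
        rw [h1, map_one]
      have h3 : α zS = α 1 := by
        rw [h2]
        apply Subtype.ext
        show (1 : G) = g⁻¹ * ((1 : H) : G) * g
        simp
      have h4 := hαinj h3
      have h5 : e zS = 1 := by rw [h4, map_one]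
      rw [hez] at h5
      have := congrArg Prod.fst h5
      exact z₀_fst this
    · -- `α zS` is a commutator
      obtain ⟨s₁, hs₁⟩ := hαsurj (e.symm ((1 : Multiplicative (ZMod 2)), DihedralGroup.r 1))
      obtain ⟨s₂, hs₂⟩ := hαsurj (e.symm ((1 : Multiplicative (ZMod 2)), DihedralGroup.sr 0))
      have h2 : α zS = α ⁅s₁, s₂⁆ := by
        rw [hαcomm, hs₁, hs₂]
        apply e.injective
        rw [h1, map_commutatorElement, MulEquiv.apply_symm_apply, MulEquiv.apply_symm_apply]
      have h3 := hαinj h2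
      have h4 : e zS = ⁅e s₁, e s₂⁆ := by rw [h3, map_commutatorElement]
      rw [hez] at h4
      have h5 := congrArg Prod.fst h4
      rw [fst_commutator] at h5
      exact z₀_fst h5
  -- the transfer
  set ϕ := Cfsg.Agent.Lib.H16.sgnHom H M hM with hϕ
  have : H.FiniteIndex := ⟨Subgroup.index_ne_zero_of_finite⟩
  have hV : ϕ.transfer z = (-1 : ℤˣ) ^ Nat.card {q : G ⧸ H // z • q = q ∧ q.out⁻¹ * z * q.out ∉ M} := by
    apply Cfsg.Agent.Lib.H9.transfer_involution_eq_pow ϕ z hzz M (-1)
    · intro x hxH hxM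
      rw [Cfsg.Agent.Lib.H9.extendHom_of_mem ϕ hxH]
      exact Cfsg.Agent.Lib.H16.sgnHom_of_not_mem H M hM _ hxM
    · intro x hxM
      rw [Cfsg.Agent.Lib.H9.extendHom_of_mem ϕ (hMS hxM)]
      exact Cfsg.Agent.Lib.H16.sgnHom_of_mem H M hM _ hxM
  -- parity of the count
  have hodd : Odd (Nat.card {q : G ⧸ H // z • q = q ∧ q.out⁻¹ * z * q.out ∉ M}) := by
    have hP : IsPGroup 2 H := S.isPGroup'
    have hmod := Cfsg.Agent.Lib.H9.card_invariant_modEq (P := H) (X := G ⧸ H) hP
      {q : G ⧸ H | z • q = q ∧ q.out⁻¹ * z * q.out ∉ M}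
      (by
        intro c q hq
        have := Cfsg.Agent.Lib.H9.fixedSet_invariant (H := H) (K := M) hMnorm z (c : G)
          (hzc c c.2) q hq
        exact this)
      (by
        intro q hq
        rw [MulAction.mem_fixedPoints] at hq
        refine ⟨hq ⟨z, hzH⟩, ?_⟩
        apply key
        intro s hs
        exact Cfsg.Agent.Lib.H9.out_conj_mem_of_smul_eq s q (hq ⟨s, hs⟩))
    have hidx : ¬ 2 ∣ Nat.card (G ⧸ H) := by
      rw [← Subgroup.index_eq_card]
      exact S.not_dvd_index
    rw [Nat.odd_iff]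
    have h1 : Nat.card (G ⧸ H) % 2 = 1 := by omega
    have h2 := hmod
    unfold Nat.ModEq at h2
    rw [h1] at h2
    exact h2
  have hVz : ϕ.transfer z = -1 := by
    rw [hV]
    exact Odd.neg_one_pow hodd
  exact ⟨(ϕ.transfer).ker, Cfsg.Agent.Lib.H16.index_ker_eq_two_of_apply_eq_neg_one _ z hVz⟩

end Cfsg.Agent.S2911
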