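import Cfsg.Statements.S2912
import Cfsg.Agent.Lib.H15.Conj
import Cfsg.Agent.Lib.H15.RankTwoFixed
import Cfsg.Agent.Lib.H15.GenExtra
import Cfsg.Agent.Lib.H1.PGroupBasic
import Cfsg.Agent.Lib.H1.CoprimeAbelian
import Cfsg.Agent.Lib.H7.CoprimeFactor

set_option autoImplicit false
open Cfsg

namespace Cfsg.Agent.S2912

open Cfsg.Agent.Lib.H15
open scoped commutatorElement

variable {G : Type*} [Group G] [Finite G]

omit [Finite G] in
theorem zpow_eq_pow_val {p : ℕ} [Fact p.Prime] {z : G} (hz : z ^ p = 1) (k : ℤ) :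
    z ^ k = z ^ ((k : ZMod p).val) := by
  have h1 : ((k : ZMod p).val : ℤ) = k % p := ZMod.val_intCast k
  rw [← zpow_natCast, h1]
  have h2 : k = k % p + p * (k / p) := (Int.emod_add_mul_ediv k p).symm
  conv_lhs => rw [h2]
  rw [zpow_add, zpow_mul, zpow_natCast, hz, one_zpow, mul_one]

theorem card_eq_pow_of_elemAb {r : ℕ} [Fact r.Prime] {A : Subgroup G}
    (hA : Cfsg.IsElementaryAbelian r A) (hA1 : A ≠ ⊥) : ∃ d : ℕ, 1 ≤ d ∧ Nat.card A = r ^ d := by
  have hAr : IsPGroup r ↥A := by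
    intro a
    refine ⟨1, ?_⟩
    apply Subtype.ext
    rw [pow_one, Subgroup.coe_pow, hA.2 a a.2]; rfl
  obtain ⟨d, hd⟩ := IsPGroup.iff_card.mp hAr
  refine ⟨d, ?_, hd⟩
  by_contra h0
  have : d = 0 := by omega
  rw [this, pow_zero] at hd
  exact hA1 (Subgroup.card_eq_one.mp hd)

/-- base case: an element of order `p` acting fixed-point-freely. -/
theorem base_bound {p r : ℕ} [hp : Fact p.Prime] [hr : Fact r.Prime] (n : ℕ)
    (hmin : ∀ k : ℕ, 1 ≤ k → p ∣ r ^ k - 1 → n ≤ k) {A : Subgroup G} {z : G}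
    (hz : orderOf z = p) (hzA : z ∈ Subgroup.normalizer (A : Set G))
    (hA : Cfsg.IsElementaryAbelian r A) (hfix : A ⊓ Subgroup.centralizer {z} = ⊥) (hA1 : A ≠ ⊥) :
    r ^ n ≤ Nat.card A := by
  obtain ⟨d, hd1, hd⟩ := card_eq_pow_of_elemAb hA hA1
  have hZN : Subgroup.zpowers z ≤ Subgroup.normalizer (A : Set G) := Subgroup.zpowers_le.mpr hzA
  have hZp : IsPGroup p ↥(Subgroup.zpowers z) :=
    IsPGroup.of_card (n := 1) (by rw [Nat.card_zpowers, hz, pow_one])
  letI act : MulAction ↥(Subgroup.zpowers z) ↥A := MulAction.compHom ↥A (Subgroup.inclusion hZN)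
  have hmod := hZp.card_modEq_card_fixedPoints ↥A
  have hfp : Nat.card (MulAction.fixedPoints ↥(Subgroup.zpowers z) ↥A) = 1 := by
    rw [Nat.card_eq_one_iff_unique]
    refine ⟨⟨?_⟩, ⟨⟨1, fun s => by
      show (Subgroup.inclusion hZN s) • (1 : ↥A) = 1
      exact smul_one _⟩⟩⟩
    rintro ⟨a, ha⟩ ⟨b, hb⟩
    have key : ∀ x : ↥A, x ∈ MulAction.fixedPoints ↥(Subgroup.zpowers z) ↥A → x = 1 := by
      intro x hx
      have h1 := hx ⟨z, Subgroup.mem_zpowers z⟩
      have h2 : z * (x : G) * z⁻¹ = x := congrArg Subtype.val h1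
      have h3 : (x : G) ∈ A ⊓ Subgroup.centralizer {z} := by
        refine Subgroup.mem_inf.mpr ⟨x.2, ?_⟩
        rw [Subgroup.mem_centralizer_singleton_iff]
        calc (x : G) * z = (z * (x : G) * z⁻¹) * z := by rw [h2]
          _ = z * x := by group
      rw [hfix, Subgroup.mem_bot] at h3
      exact Subtype.ext h3
    apply Subtype.ext
    show a = b
    rw [key a ha, key b hb]
  rw [hfp, hd] at hmod
  have hpos : 1 ≤ r ^ d := Nat.one_le_pow _ _ hr.out.pos
  have hdvd : p ∣ r ^ d - 1 := (Nat.modEq_iff_dvd' hpos).mp hmod.symm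
  have := hmin d hd1 hdvd
  rw [hd]
  exact Nat.pow_le_pow_right hr.out.pos this

/-- if `E` (of width `≥ 1`) acts with `z` fixed-point-freely then `|A| ≠ r`. -/
theorem card_ne_prime {p r : ℕ} [hp : Fact p.Prime] [hr : Fact r.Prime] {E A : Subgroup G} {z : G}
    {w : ℕ} (h : GE p E z (w + 1)) (hEA : E ≤ Subgroup.normalizer (A : Set G))
    (hfix : A ⊓ Subgroup.centralizer {z} = ⊥) (hA1 : A ≠ ⊥) : Nat.card A ≠ r := by
  intro hcard
  have hcyc : IsCyclic ↥A := isCyclic_of_prime_card hcard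
  -- a noncentral element
  have hEfin : Finite ↥E := inferInstance
  have hex : ∃ g ∈ E, g ∉ Subgroup.zpowers z := by
    by_contra hcon
    push Not at hcon
    have hle : E ≤ Subgroup.zpowers z := hcon
    have h1 := Subgroup.card_le_of_le hle
    rw [h.card, Nat.card_zpowers, h.zp] at h1
    have h2 : p ^ 1 < p ^ (2 * (w + 1) + 1) := Nat.pow_lt_pow_right hp.out.one_lt (by omega)
    rw [pow_one] at h2
    omega
  obtain ⟨g, hg, hgz⟩ := hex
  obtain ⟨y, hy, hgy⟩ := h.exists_not_commute hg hgz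
  have hc : ⁅g, y⁆ ≠ 1 := fun h1 => hgy (commutatorElement_eq_one_iff_commute.mp h1)
  have hcz : ⁅g, y⁆ ∈ Subgroup.zpowers z := h.comm g hg y hy
  have hzc : z ∈ Subgroup.zpowers ⁅g, y⁆ := mem_zpowers_of_prime hp.out h.zp hcz hc
  -- the commutator acts trivially
  have hcomm : ∀ φ ψ : MulAut ↥A, φ * ψ = ψ * φ := by
    intro φ ψ
    apply (IsCyclic.mulAutMulEquiv ↥A).injective
    rw [map_mul, map_mul, mul_comm]
  obtain ⟨gN, hgN⟩ : ∃ gN : ↥(Subgroup.normalizer (A : Set G)), (gN : G) = g := ⟨⟨g, hEA hg⟩, rfl⟩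
  obtain ⟨yN, hyN⟩ : ∃ yN : ↥(Subgroup.normalizer (A : Set G)), (yN : G) = y := ⟨⟨y, hEA hy⟩, rfl⟩
  have h1 : A.normalizerMonoidHom ⁅gN, yN⁆ = 1 := by
    rw [map_commutatorElement, commutatorElement_eq_one_iff_commute]
    exact hcomm _ _
  have h2 : ⁅gN, yN⁆ ∈ A.normalizerMonoidHom.ker := h1
  rw [Subgroup.normalizerMonoidHom_ker, Subgroup.mem_subgroupOf] at h2
  have h3 : ((⁅gN, yN⁆ : ↥(Subgroup.normalizer (A : Set G))) : G) = ⁅g, y⁆ := by
    rw [commutatorElement_def, commutatorElement_def]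
    simp only [Subgroup.coe_mul, Subgroup.coe_inv, hgN, hyN]
  rw [h3] at h2
  have h4 : z ∈ Subgroup.centralizer (A : Set G) := (Subgroup.zpowers_le.mpr h2) hzc
  apply hA1
  rw [eq_bot_iff, ← hfix]
  intro a ha
  refine Subgroup.mem_inf.mpr ⟨ha, ?_⟩
  rw [Subgroup.mem_centralizer_singleton_iff]
  exact (h4 a ha)

omit [Finite G] in
theorem isElementaryAbelian_of_le {r : ℕ} {A B : Subgroup G} (hA : Cfsg.IsElementaryAbelian r A)
    (hBA : B ≤ A) : Cfsg.IsElementaryAbelian r B := by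
  refine ⟨⟨⟨fun a b => ?_⟩⟩, fun b hb => hA.2 b (hBA hb)⟩
  have h1 := hA.1.is_comm.comm ⟨a, hBA a.2⟩ ⟨b, hBA b.2⟩
  apply Subtype.ext
  have h2 := congrArg Subtype.val h1
  exact h2

theorem main_bound {p r : ℕ} [hp : Fact p.Prime] [hr : Fact r.Prime] (hpr : p ≠ r) (n : ℕ)
    (hmin : ∀ k : ℕ, 1 ≤ k → p ∣ r ^ k - 1 → n ≤ k) :
    ∀ (w : ℕ) (E A : Subgroup G) (z : G), GE p E z w → Cfsg.IsElementaryAbelian r A →
      E ≤ Subgroup.normalizer (A : Set G) → A ⊓ Subgroup.centralizer {z} = ⊥ → A ≠ ⊥ →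
      r ^ (n * p ^ w) ≤ Nat.card A := by
  intro w
  induction w with
  | zero =>
    intro E A z h hA hEA hfix hA1
    rw [pow_zero, mul_one]
    exact base_bound n hmin h.zp (hEA h.zE) hA hfix hA1
  | succ w ih =>
    intro E A z h hA hEA hfix hA1
    obtain ⟨d, hd1, hd⟩ := card_eq_pow_of_elemAb hA hA1
    rcases h.exists_or with ⟨g, hg, hgz, hgp⟩ | ⟨hp2, hw0⟩
    · obtain ⟨y, hy, hgy⟩ := h.exists_not_commute hg hgz
      have hstep := h.step hp.out hg hy hgy
      have hcomm : IsMulCommutative ↥A := hA.1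
      have hcop : (Nat.card A).Coprime p := by
        rw [hd]
        exact Nat.Coprime.pow_left d ((Nat.coprime_primes hr.out hp.out).mpr (Ne.symm hpr))
      have hzp : z ^ p = 1 := by rw [← h.zp]; exact pow_orderOf_eq_one z
      have hc : ⁅y, g⁆ ≠ 1 := fun h1 => hgy (commutatorElement_eq_one_iff_commute.mp h1).symm
      obtain ⟨k, hk⟩ := Subgroup.mem_zpowers_iff.mp (h.comm y hy g hg)
      rw [zpow_eq_pow_val hzp k] at hk
      have hs : (k : ZMod p) ≠ 0 := by
        intro h0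
        rw [h0, ZMod.val_zero, pow_zero] at hk
        exact hc hk.symm
      have hya : y * g * y⁻¹ = g * z ^ ((k : ZMod p).val) := by
        rw [hk]
        have hcg : Commute g ⁅y, g⁆ := by
          obtain ⟨l, hl⟩ := Subgroup.mem_zpowers_iff.mp (h.comm y hy g hg)
          rw [← hl]; exact (h.zc g hg).zpow_right l
        rw [hcg.eq, commutatorElement_def]; group
      have hle := card_fixed_pow_le p hcop (hEA hg) (hEA h.zE) (h.zc g hg).eq hgp hzp hfix
        (hEA hy) (h.zc y hy).eq (k : ZMod p) hs hya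
      have hne := fixed_ne_bot p hcop (hEA hg) (hEA h.zE) (h.zc g hg).eq hgp hzp hfix
        (hEA hy) (h.zc y hy).eq (k : ZMod p) hs hya hA1
      have hA₁ : Cfsg.IsElementaryAbelian r (A ⊓ Subgroup.centralizer {g}) :=
        isElementaryAbelian_of_le hA inf_le_left
      have hEA₁ : E ⊓ Subgroup.centralizer {g} ⊓ Subgroup.centralizer {y}
          ≤ Subgroup.normalizer ((A ⊓ Subgroup.centralizer {g} : Subgroup G) : Set G) := by
        intro e he
        have heE : e ∈ E := (Subgroup.mem_inf.mp (Subgroup.mem_inf.mp he).1).1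
        have heg : Commute e g :=
          Subgroup.mem_centralizer_singleton_iff.mp (Subgroup.mem_inf.mp (Subgroup.mem_inf.mp he).1).2
        apply mem_normalizer_of_cj_le
        intro t ht
        rw [mem_cj_iff] at ht
        obtain ⟨ht1, ht2⟩ := Subgroup.mem_inf.mp ht
        refine Subgroup.mem_inf.mpr ⟨?_, ?_⟩
        · have := (Subgroup.mem_normalizer_iff.mp (hEA heE) (e⁻¹ * t * e)).mp ht1
          simpa [mul_assoc] using this
        · rw [Subgroup.mem_centralizer_singleton_iff] at ht2 ⊢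
          have c1 : Commute (e⁻¹ * t * e) g := ht2
          have c2 : Commute (e * (e⁻¹ * t * e) * e⁻¹) g :=
            (heg.mul_left c1).mul_left heg.inv_left
          have e1 : e * (e⁻¹ * t * e) * e⁻¹ = t := by group
          rw [e1] at c2
          exact c2.eq
      have hfix₁ : (A ⊓ Subgroup.centralizer {g}) ⊓ Subgroup.centralizer {z} = ⊥ := by
        rw [eq_bot_iff, ← hfix]
        exact inf_le_inf_right _ inf_le_left
      have hih := ih _ _ z hstep hA₁ hEA₁ hfix₁ hne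
      calc r ^ (n * p ^ (w + 1)) = (r ^ (n * p ^ w)) ^ p := by rw [← pow_mul, pow_succ, mul_assoc]
        _ ≤ Nat.card ↥(A ⊓ Subgroup.centralizer {g}) ^ p := Nat.pow_le_pow_left hih p
        _ ≤ Nat.card A := hle
    · subst hw0
      have hne := card_ne_prime (r := r) h hEA hfix hA1
      have hd2 : 2 ≤ d := by
        by_contra hlt
        have : d = 1 := by omega
        rw [this, pow_one] at hd
        exact hne hd
      have hr2 : r ≠ 2 := fun h2 => hpr (hp2.trans h2.symm)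
      have hn1 : n ≤ 1 := by
        apply hmin 1 le_rfl
        rw [hp2, pow_one]
        rcases hr.out.eq_two_or_odd with h2 | h2
        · exact absurd h2 hr2
        · omega
      rw [hd, hp2]
      calc r ^ (n * 2 ^ (0 + 1)) ≤ r ^ 2 := Nat.pow_le_pow_right hr.out.pos (by omega)
        _ ≤ r ^ d := Nat.pow_le_pow_right hr.out.pos hd2

theorem ge_of_extraspecial {p : ℕ} [hp : Fact p.Prime] (E : Subgroup G) (w : ℕ)
    (hE : Cfsg.IsExtraspecial p ↥E) (hEcard : Nat.card ↥E = p ^ (2 * w + 1)) :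
    ∃ z : G, GE p E z w := by
  obtain ⟨⟨hEp, hfr, hcm⟩, hZ⟩ := hE
  have hnt : Subgroup.center ↥E ≠ ⊥ := by
    intro h
    rw [h, Subgroup.card_bot] at hZ
    exact hp.out.one_lt.ne hZ
  obtain ⟨z'', hz''⟩ := (Subgroup.ne_bot_iff_exists_ne_one).mp hnt
  obtain ⟨z', hz'⟩ : ∃ z' : ↥E, z' = (z'' : ↥E) := ⟨_, rfl⟩
  have hz'c : z' ∈ Subgroup.center ↥E := hz' ▸ z''.2
  have hz'1 : z' ≠ 1 := by
    intro h
    apply hz''
    apply Subtype.ext
    rw [← hz', h]; rfl
  have hord : orderOf z' = p := by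
    have h1 : orderOf z'' ∣ p := hZ ▸ orderOf_dvd_natCard z''
    have h2 : orderOf z'' = orderOf z' := by rw [hz', Subgroup.orderOf_coe]
    rw [h2] at h1
    rcases (Nat.dvd_prime hp.out).mp h1 with h3 | h3
    · exact absurd (orderOf_eq_one_iff.mp h3) hz'1
    · exact h3
  have hcen : Subgroup.zpowers z' = Subgroup.center ↥E := by
    apply eq_of_le_of_card_le' (Subgroup.zpowers_le.mpr hz'c)
    rw [hZ, Nat.card_zpowers, hord]
  have hcoe : ∀ x : ↥E, x ∈ Subgroup.zpowers z' ↔ (x : G) ∈ Subgroup.zpowers (z' : G) := by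
    intro x
    constructor
    · intro h
      obtain ⟨k, rfl⟩ := Subgroup.mem_zpowers_iff.mp h
      rw [Subgroup.coe_zpow]
      exact Subgroup.zpow_mem_zpowers _ k
    · intro h
      obtain ⟨k, hk⟩ := Subgroup.mem_zpowers_iff.mp h
      have : x = z' ^ k := by
        apply Subtype.ext
        rw [Subgroup.coe_zpow, hk]
      rw [this]
      exact Subgroup.zpow_mem_zpowers _ k
  refine ⟨(z' : G), z'.2, ?_, ?_, ?_, ?_, ?_, hEcard⟩
  · rw [Subgroup.orderOf_coe, hord]
  · intro a ha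
    have := Subgroup.mem_center_iff.mp hz'c ⟨a, ha⟩
    exact congrArg Subtype.val this
  · intro a ha b hb
    have h1 : ⁅(⟨a, ha⟩ : ↥E), ⟨b, hb⟩⁆ ∈ commutator ↥E := by
      rw [commutator_def]
      exact Subgroup.commutator_mem_commutator (Subgroup.mem_top _) (Subgroup.mem_top _)
    rw [hcm, ← hcen, hcoe] at h1
    exact h1
  · intro a ha
    have h1 := Cfsg.Agent.Lib.H1.isPGroup_pow_mem_frattini hEp (⟨a, ha⟩ : ↥E)
    rw [hfr, ← hcen, hcoe] at h1
    exact h1
  · intro a ha hab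
    rw [← hcoe ⟨a, ha⟩, hcen, Subgroup.mem_center_iff]
    intro b
    apply Subtype.ext
    exact (hab b b.2).symm.eq

/-- Let p and r be distinct primes, let E be an extraspecial subgroup of order p^(2w+1) of a finite group, and let A be an elementary abelian r-subgroup normalized by E on which E acts faithfully (C_E(A) = 1). If n ≥ 1 is least with p dividing rⁿ − 1 (the smallest dimension of a faithful representation of a group of order p over the field with r elements), then the order of A is at least r^(n·p^w). -/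
theorem result {G : Type*} [Group G] [Finite G] {p r : ℕ} [Fact p.Prime] [hr : Fact r.Prime] (hpr : p ≠ r) (E A : Subgroup G) (w : ℕ) (hE : Cfsg.IsExtraspecial p ↥E) (hEcard : Nat.card ↥E = p ^ (2 * w + 1)) (hA : Cfsg.IsElementaryAbelian r A) (hnorm : E ≤ Subgroup.normalizer (A : Set G)) (hfaith : E ⊓ Subgroup.centralizer (A : Set G) = ⊥) (n : ℕ) (hn : 1 ≤ n) (hdiv : p ∣ r ^ n - 1) (hmin : ∀ k : ℕ, 1 ≤ k → p ∣ r ^ k - 1 → n ≤ k) : r ^ (n * p ^ w) ≤ Nat.card ↥A := by
  obtain ⟨z, hz⟩ := ge_of_extraspecial E w hE hEcard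
  have hp : p.Prime := Fact.out
  have hzN : Subgroup.zpowers z ≤ Subgroup.normalizer (A : Set G) :=
    Subgroup.zpowers_le.mpr (hnorm hz.zE)
  have hcommA : IsMulCommutative ↥A := hA.1
  have hA'A : ⁅A, Subgroup.zpowers z⁆ ≤ A :=
    (Subgroup.le_normalizer_iff_commutator_le_left).mp hzN
  have hz1 : z ≠ 1 := by
    intro h
    have := hz.zp
    rw [h, orderOf_one] at this
    exact hp.one_lt.ne this
  have hA1 : A ≠ ⊥ := by
    intro h
    have : z ∈ E ⊓ Subgroup.centralizer (A : Set G) := by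
      refine Subgroup.mem_inf.mpr ⟨hz.zE, ?_⟩
      rw [h]
      intro a ha
      rw [SetLike.mem_coe, Subgroup.mem_bot] at ha
      rw [ha, mul_one, one_mul]
    rw [hfaith, Subgroup.mem_bot] at this
    exact hz1 this
  obtain ⟨d, hd1, hd⟩ := card_eq_pow_of_elemAb hA hA1
  have hcop : (Nat.card ↥(Subgroup.zpowers z)).Coprime (Nat.card A) := by
    rw [Nat.card_zpowers, hz.zp, hd]
    exact Nat.Coprime.pow_right d ((Nat.coprime_primes hp hr.out).mpr hpr)
  have hne' : ⁅A, Subgroup.zpowers z⁆ ≠ ⊥ := by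
    intro h
    rw [Subgroup.commutator_comm, Subgroup.commutator_eq_bot_iff_le_centralizer] at h
    have : z ∈ E ⊓ Subgroup.centralizer (A : Set G) :=
      Subgroup.mem_inf.mpr ⟨hz.zE, h (Subgroup.mem_zpowers z)⟩
    rw [hfaith, Subgroup.mem_bot] at this
    exact hz1 this
  have hfix' : ⁅A, Subgroup.zpowers z⁆ ⊓ Subgroup.centralizer {z} = ⊥ := by
    have h1 := Cfsg.Agent.Lib.H1.coprime_abelian_centralizer_inf_commutator hzN hcop
    rw [← Cfsg.Agent.Lib.H7.centralizer_singleton_eq_centralizer_zpowers] at h1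
    rw [eq_bot_iff, ← h1]
    intro x hx
    obtain ⟨hx1, hx2⟩ := Subgroup.mem_inf.mp hx
    exact Subgroup.mem_inf.mpr ⟨Subgroup.mem_inf.mpr ⟨hA'A hx1, hx2⟩, hx1⟩
  have hEA' : E ≤ Subgroup.normalizer ((⁅A, Subgroup.zpowers z⁆ : Subgroup G) : Set G) := by
    intro e he
    rw [mem_normalizer_iff_cj_eq]
    show (⁅A, Subgroup.zpowers z⁆).map _ = _
    rw [Subgroup.map_commutator]
    have h1 : cj e A = A := mem_normalizer_iff_cj_eq.mp (hnorm he)
    have h2 : cj e (Subgroup.zpowers z) = Subgroup.zpowers z := by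
      show (Subgroup.zpowers z).map _ = _
      rw [MonoidHom.map_zpowers]
      congr 1
      show e * z * e⁻¹ = z
      rw [(hz.zc e he).eq, mul_inv_cancel_right]
    show ⁅cj e A, cj e (Subgroup.zpowers z)⁆ = _
    rw [h1, h2]
  have hmain := main_bound hpr n hmin w E _ z hz (isElementaryAbelian_of_le hA hA'A) hEA' hfix' hne'
  exact hmain.trans (Subgroup.card_le_of_le hA'A)


end Cfsg.Agent.S2912
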