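import Cfsg.Statements.S2922
import Cfsg.Agent.Lib.H7.PLocal2

set_option autoImplicit false
open Cfsg

namespace Cfsg.Agent.S2922

open Cfsg.Agent.Lib.H7

/-- the key step: a `p'`-element of `C_X(B)` centralizing `O_p(C_X(B))` is trivial. -/
theorem key {X : Type*} [Group X] [Finite X] {p : ℕ} [Fact p.Prime] (B C : Subgroup X)
    (hB : IsPGroup p ↥B) (hCB : C ≤ B) (hBC : B ≤ Subgroup.normalizer (C : Set X))
    (hC : Cfsg.generalizedFittingSubgroup ↥(Subgroup.normalizer (C : Set X)) =
      Cfsg.pCore p ↥(Subgroup.normalizer (C : Set X)))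
    {y : X} (hyD : y ∈ Subgroup.centralizer (B : Set X)) (hy : (orderOf y).Coprime p)
    (hyO : y ∈ Subgroup.centralizer (Cfsg.pCoreOf p (Subgroup.centralizer (B : Set X)) : Set X)) :
    y = 1 := by
  set L : Subgroup X := Subgroup.normalizer (C : Set X) with hL
  set D : Subgroup X := Subgroup.centralizer (B : Set X) with hD
  have hDL : D ≤ L :=
    (Subgroup.centralizer_le hCB).trans (Subgroup.centralizer_le_normalizer _)
  refine eq_one_of_centralizes_pCoreOf p (Q := Cfsg.pCoreOf p L) (P := B) (M := D)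
    (Cfsg.Agent.Lib.H14.pCoreOf_isPGroup p L) hB
    (hDL.trans (Cfsg.Agent.Lib.H14.pCoreOf_normalized p L)) (Subgroup.centralizer_le_normalizer _)
    (hBC.trans (Cfsg.Agent.Lib.H14.pCoreOf_normalized p L)) inf_le_right ?_ hyD hy hyD hyO
  intro y' hy' hc' hyQ'
  exact eq_one_of_generalizedFittingSubgroup_eq_pCore p L hC (hDL hy') hc' hyQ'

/-- Let p be a prime, X a finite group, B a p-subgroup of X and C a normal subgroup of B. If N_X(C) has characteristic p (its generalized Fitting subgroup is O_p(N_X(C))), then N_X(B) and C_X(B) have characteristic p. -/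
theorem result {X : Type*} [Group X] [Finite X] {p : ℕ} [Fact p.Prime] (B C : Subgroup X) (hB : IsPGroup p ↥B) (hCB : C ≤ B) (hCn : (C.subgroupOf B).Normal) (hC : Cfsg.generalizedFittingSubgroup ↥(Subgroup.normalizer (C : Set X)) = Cfsg.pCore p ↥(Subgroup.normalizer (C : Set X))) : Cfsg.generalizedFittingSubgroup ↥(Subgroup.normalizer (B : Set X)) = Cfsg.pCore p ↥(Subgroup.normalizer (B : Set X)) ∧ Cfsg.generalizedFittingSubgroup ↥(Subgroup.centralizer (B : Set X)) = Cfsg.pCore p ↥(Subgroup.centralizer (B : Set X)) := by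
  have hBC : B ≤ Subgroup.normalizer (C : Set X) :=
    (Subgroup.normal_subgroupOf_iff_le_normalizer hCB).mp hCn
  constructor
  · apply generalizedFittingSubgroup_eq_pCore_of_coprime
    intro y hyM hy hyO
    set M : Subgroup X := Subgroup.normalizer (B : Set X) with hM
    set D : Subgroup X := Subgroup.centralizer (B : Set X) with hD
    have hDM : D ≤ M := Subgroup.centralizer_le_normalizer _
    have hyD : y ∈ D :=
      Subgroup.centralizer_le (Cfsg.Agent.Lib.H14.le_pCoreOf p M B Subgroup.le_normalizer le_rfl hB) hyO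
    have hyOD : y ∈ Subgroup.centralizer (Cfsg.pCoreOf p D : Set X) :=
      Subgroup.centralizer_le (pCoreOf_le_pCoreOf_of_le_normalizer p hDM
        (normalizer_le_normalizer_centralizer B)) hyO
    exact key B C hB hCB hBC hC hyD hy hyOD
  · apply generalizedFittingSubgroup_eq_pCore_of_coprime
    intro y hyD hy hyO
    exact key B C hB hCB hBC hC hyD hy hyO


end Cfsg.Agent.S2922
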