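import Cfsg.Statements.S2924
import Cfsg.Agent.Lib.H24.SG.Defs
import Cfsg.Agent.Lib.H20.SGINV
import Cfsg.Agent.Lib.H29.SFGEN
import Cfsg.Agent.Lib.H2.SFNORM
import Cfsg.Agent.Lib.H10.SGBAL
import Cfsg.Agent.Lib.H18.SGTH
import Cfsg.Agent.Lib.H3.SGCHAR2
import Cfsg.Agent.Lib.H15.SGKEY

set_option autoImplicit false
open Cfsg Cfsg.Agent.Lib.H24.SG Cfsg.Agent.Lib.H18.SG

namespace Cfsg.Agent.S2924

/-- Let X be a finite group and Y an elementary abelian 2-subgroup of X of order at least 8 such that C_X(x) has no components (E(C_X(x)) = 1) for every nontrivial x ∈ Y, and F*(C_X(z)) = O₂(C_X(z)) for some nontrivial z ∈ Y. Then the subgroup generated by the cores O(C_X(y)), y ∈ Y nontrivial, has odd order and is normalized by N_X(Y). -/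
theorem result {X : Type*} [Group X] [Finite X] (Y : Subgroup X) (hY : Cfsg.IsElementaryAbelian 2 Y) (h8 : 8 ≤ Nat.card ↥Y) (hE : ∀ x ∈ Y, x ≠ 1 → Cfsg.layer ↥(Subgroup.centralizer ({x} : Set X)) = ⊥) (hz : ∃ z ∈ Y, z ≠ 1 ∧ Cfsg.generalizedFittingSubgroup ↥(Subgroup.centralizer ({z} : Set X)) = Cfsg.pCore 2 ↥(Subgroup.centralizer ({z} : Set X))) : Odd (Nat.card ↥(⨆ y : {y : X // y ∈ Y ∧ y ≠ 1}, (Cfsg.oddCore ↥(Subgroup.centralizer ({(y : X)} : Set X))).map (Subgroup.centralizer ({(y : X)} : Set X)).subtype)) ∧ Subgroup.normalizer (Y : Set X) ≤ Subgroup.normalizer ((⨆ y : {y : X // y ∈ Y ∧ y ≠ 1}, (Cfsg.oddCore ↥(Subgroup.centralizer ({(y : X)} : Set X))).map (Subgroup.centralizer ({(y : X)} : Set X)).subtype : Subgroup X) : Set X) := by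
  obtain ⟨z, hzY, hz1, hF⟩ := hz
  have hcommY : ∀ a ∈ Y, ∀ b ∈ Y, a * b = b * a := by
    intro a ha b hb
    have h := hY.1
    have := h.is_comm.comm ⟨a, ha⟩ ⟨b, hb⟩
    exact congrArg Subtype.val this
  have hord : ∀ y ∈ Y, y ≠ 1 → orderOf y = 2 := by
    intro y hy hy1
    exact orderOf_eq_prime (hY.2 y hy) hy1
  have hθz : theta X z = ⊥ := theta_eq_bot z hF
  -- layer of the quotient of every centralizer is trivial
  have hEq : ∀ u ∈ Y, u ≠ 1 → Cfsg.layer (↥(Subgroup.centralizer ({u} : Set X)) ⧸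
      Cfsg.pPrimeCore 2 ↥(Subgroup.centralizer ({u} : Set X))) = ⊥ := by
    intro u hu hu1
    have huz : u * z = z * u := hcommY u hu z hzY
    have hzmem : z ∈ Subgroup.centralizer ({u} : Set X) := by
      rw [Subgroup.mem_centralizer_singleton_iff]; exact huz.symm
    obtain ⟨h1, h2⟩ := Cfsg.Agent.Lib.H3.SG.char2 u z (hord u hu hu1) huz hF ⟨z, hzmem⟩ rfl
    refine Cfsg.Agent.Lib.H15.SG.key (⟨z, hzmem⟩ : ↥(Subgroup.centralizer ({u} : Set X))) ?_ (hE u hu hu1) h1 h2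
    rw [← hord z hzY hz1]
    exact (Subgroup.orderOf_mk z hzmem)
  have hbal : ∀ y ∈ Y, ∀ u ∈ Y, y ≠ 1 → u ≠ 1 →
      theta X y ⊓ Subgroup.centralizer ({u} : Set X) ≤ theta X u := by
    intro y hy u hu hy1 hu1
    exact Cfsg.Agent.Lib.H10.SG.bal u y (hord y hy hy1) (hcommY u hu y hy) (hEq u hu hu1)
  have hnorm : ∀ y ∈ Y, y ≠ 1 → Y ≤ Subgroup.normalizer ((theta X y : Subgroup X) : Set X) := by
    intro y hy _ a ha
    apply theta_normalized y
    rw [Subgroup.mem_centralizer_singleton_iff]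
    exact hcommY a ha y hy
  have hcomm : ∀ y ∈ Y, y ≠ 1 → ∀ a ∈ theta X y, ∀ b ∈ theta X y, a * b = b * a := by
    intro y hy hy1
    refine (Cfsg.Agent.Lib.H20.SG.comm_of_fpf_involution (theta X y) z ?_ (hnorm y hy hy1 hzY) ?_).2
    · have := hY.2 z hzY; exact this
    · rw [eq_bot_iff, ← hθz]
      exact hbal y hy z hzY hy1 hz1
  refine ⟨?_, ?_⟩
  · exact (Cfsg.Agent.Lib.H29.SFGEN.odd_card_iSup Y hY h8 (fun y => theta X (y : X))
      (fun y => theta_odd (y : X)) (fun y => hnorm y y.2.1 y.2.2)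
      (fun y u => hbal y y.2.1 u u.2.1 y.2.2 u.2.2)
      (fun y => hcomm y y.2.1 y.2.2)).1
  · exact Cfsg.Agent.Lib.H2.SF.normalizer_le_normalizer_iSup_oddCore Y

end Cfsg.Agent.S2924
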