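import Cfsg.Statements.S2925
import Cfsg.Agent.Lib.H15.Conj
import Cfsg.Agent.Lib.H7.Components
import Cfsg.Agent.Lib.H3.Sylow

set_option autoImplicit false
open Cfsg

namespace Cfsg.Agent.S2925

open Cfsg.Agent.Lib.H15

/-- a `p`-subgroup whose index is prime to `p` is (the carrier of) a Sylow `p`-subgroup -/
theorem exists_sylow_eq {G : Type*} [Group G] [Finite G] {p : ℕ} [hp : Fact p.Prime] {S₀ : Subgroup G}
    (hS₀ : IsPGroup p ↥S₀) (hidx : ¬ p ∣ S₀.index) : ∃ P : Sylow p G, (P : Subgroup G) = S₀ := by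
  obtain ⟨P, hP⟩ := hS₀.exists_le_sylow
  refine ⟨P, le_antisymm ?_ hP⟩
  rw [← Subgroup.relIndex_eq_one]
  have h1 := Subgroup.relIndex_mul_index hP
  have h2 : S₀.relIndex (P : Subgroup G) ∣ Nat.card (P : Subgroup G) := Subgroup.relIndex_dvd_card _ _
  obtain ⟨k, hk⟩ := IsPGroup.iff_card.mp P.2
  rw [hk] at h2
  obtain ⟨j, -, hj⟩ := (Nat.dvd_prime_pow hp.out).mp h2
  rcases Nat.eq_zero_or_pos j with h0 | hpos
  · rw [hj, h0, pow_zero]
  · exfalso
    apply hidx
    rw [← h1, hj]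
    exact Dvd.dvd.mul_right (dvd_pow_self p hpos.ne') _

/-- Let K be a component of the finite group X and T a Sylow 2-subgroup of X. If some abelian normal subgroup Y of T does not normalize K, then K ⧸ Z(K) has abelian Sylow 2-subgroups. -/
theorem result {X : Type*} [Group X] [Finite X] (K : Subgroup X) (hK : Cfsg.IsComponent K) (T : Sylow 2 X) (Y : Subgroup X) (hYT : Y ≤ (T : Subgroup X)) (hYn : (Y.subgroupOf (T : Subgroup X)).Normal) (hYab : IsMulCommutative ↥Y) (hnot : ¬ Y ≤ Subgroup.normalizer (K : Set X)) (P : Sylow 2 (↥K ⧸ Subgroup.center ↥K)) : IsMulCommutative ↥(P : Subgroup (↥K ⧸ Subgroup.center ↥K)) := by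
  classical
  haveI : Fact (Nat.Prime 2) := ⟨Nat.prime_two⟩
  -- an element of Y moving K
  obtain ⟨y, hyY, hyK⟩ : ∃ y ∈ Y, y ∉ Subgroup.normalizer (K : Set X) := by
    by_contra h
    push Not at h
    exact hnot (fun y hy => h y hy)
  set K' := cj y K with hK'def
  have hK' : Cfsg.IsComponent K' := Cfsg.Agent.Lib.H7.isComponent_map_conj y hK
  have hne : K ≠ K' := by
    intro h
    apply hyK
    rw [mem_normalizer_iff_cj_eq]
    exact h.symm
  have hcomm : ⁅K, K'⁆ = ⊥ := Cfsg.Agent.Lib.H7.components_commute hK hK' hne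
  have hcomm' : ∀ a ∈ K, ∀ c ∈ K', c * a = a * c := by
    intro a ha c hc
    have h1 : K ≤ Subgroup.centralizer (K' : Set X) := Subgroup.commutator_eq_bot_iff_le_centralizer.mp hcomm
    exact (Subgroup.mem_centralizer_iff.mp (h1 ha)) c hc
  have hYcomm : ∀ u ∈ Y, ∀ v ∈ Y, u * v = v * u := by
    intro u hu v hv
    exact congrArg Subtype.val (hYab.is_comm.comm (⟨u, hu⟩ : ↥Y) ⟨v, hv⟩)
  have hYT' : (T : Subgroup X) ≤ Subgroup.normalizer (Y : Set X) :=
    (Subgroup.normal_subgroupOf_iff_le_normalizer hYT).mp hYn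
  -- the elements c(s)
  have hcY : ∀ s ∈ (T : Subgroup X), s⁻¹ * (y * s * y⁻¹) ∈ Y := by
    intro s hs
    have h1 : s⁻¹ * y * s⁻¹⁻¹ ∈ Y :=
      (Subgroup.mem_normalizer_iff.mp (hYT' (Subgroup.inv_mem _ hs)) y).mp hyY
    have e : s⁻¹ * (y * s * y⁻¹) = (s⁻¹ * y * s⁻¹⁻¹) * y⁻¹ := by group
    rw [e]
    exact Y.mul_mem h1 (Y.inv_mem hyY)
  -- commutators of elements of T ⊓ K are central in K
  have hcent : ∀ s ∈ (T : Subgroup X) ⊓ K, ∀ s' ∈ (T : Subgroup X) ⊓ K, ∀ k ∈ K,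
      (s * s' * s⁻¹ * s'⁻¹) * k = k * (s * s' * s⁻¹ * s'⁻¹) := by
    intro s hs s' hs' k hk
    have ha : s⁻¹ ∈ K := K.inv_mem hs.2
    have hb : s'⁻¹ ∈ K := K.inv_mem hs'.2
    have hc : y * s * y⁻¹ ∈ K' := conj_mem_cj hs.2
    have hd : y * s' * y⁻¹ ∈ K' := conj_mem_cj hs'.2
    have h1 := hYcomm _ (hcY s hs.1) _ (hcY s' hs'.1)
    -- a c b d = b d a c
    set a := s⁻¹ with hadef
    set b := s'⁻¹ with hbdef
    set c := y * s * y⁻¹ with hcdef
    set d := y * s' * y⁻¹ with hddef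
    have hcb : c * b = b * c := hcomm' b hb c hc
    have hda : d * a = a * d := hcomm' a ha d hd
    have h2 : a * b * (c * d) = b * a * (d * c) := by
      calc a * b * (c * d) = a * (b * c) * d := by group
        _ = a * (c * b) * d := by rw [hcb]
        _ = (a * c) * (b * d) := by group
        _ = (b * d) * (a * c) := h1
        _ = b * (d * a) * c := by group
        _ = b * (a * d) * c := by rw [hda]
        _ = b * a * (d * c) := by group
    have h3 : (b * a)⁻¹ * (a * b) = (d * c) * (c * d)⁻¹ := by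
      have := congrArg (fun t => (b * a)⁻¹ * t * (c * d)⁻¹) h2
      simp only [mul_assoc, inv_mul_cancel_left, mul_inv_cancel, mul_one] at this
      simpa [mul_assoc] using this
    have h4 : s * s' * s⁻¹ * s'⁻¹ = (b * a)⁻¹ * (a * b) := by
      rw [hadef, hbdef]; group
    have h5 : s * s' * s⁻¹ * s'⁻¹ ∈ K' := by
      rw [h4, h3]
      exact K'.mul_mem (K'.mul_mem hd hc) (K'.inv_mem (K'.mul_mem hc hd))
    exact hcomm' k hk _ h5
  -- the Sylow subgroup of K / Z(K)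
  set π := QuotientGroup.mk' (Subgroup.center ↥K) with hπ
  have hπs : Function.Surjective π := QuotientGroup.mk'_surjective _
  set S₀ : Subgroup ↥K := ((T : Subgroup X) ⊓ K).subgroupOf K with hS₀
  have hS₀p : IsPGroup 2 ↥S₀ := by
    have : IsPGroup 2 ↥((T : Subgroup X) ⊓ K : Subgroup X) := T.2.to_le inf_le_left
    exact this.comap_subtype
  have hS₀idx : ¬ 2 ∣ S₀.index := by
    have h1 := Cfsg.Agent.Lib.H3.not_dvd_relIndex_of_isSubnormal (p := 2) (T : Subgroup X) hK.1 T.not_dvd_index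
    rw [hS₀, Subgroup.inf_subgroupOf_right]
    exact h1
  have hSbar_p : IsPGroup 2 ↥(S₀.map π) := hS₀p.map π
  have hSbar_idx : ¬ 2 ∣ (S₀.map π).index := fun h =>
    hS₀idx (h.trans (Subgroup.index_map_dvd S₀ hπs))
  obtain ⟨P₀, hP₀⟩ := exists_sylow_eq hSbar_p hSbar_idx
  have hP₀comm : ∀ u ∈ (P₀ : Subgroup (↥K ⧸ Subgroup.center ↥K)), ∀ v ∈ (P₀ : Subgroup (↥K ⧸ Subgroup.center ↥K)),
      u * v = v * u := by
    rw [hP₀]
    rintro _ ⟨s, hs, rfl⟩ _ ⟨s', hs', rfl⟩
    have hsm : (s : X) ∈ (T : Subgroup X) ⊓ K := Subgroup.mem_subgroupOf.mp hs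
    have hsm' : (s' : X) ∈ (T : Subgroup X) ⊓ K := Subgroup.mem_subgroupOf.mp hs'
    have h1 : s * s' * s⁻¹ * s'⁻¹ ∈ Subgroup.center ↥K := by
      rw [Subgroup.mem_center_iff]
      intro k
      apply Subtype.ext
      have := hcent _ hsm _ hsm' k k.2
      simpa using this.symm
    have h2 : π (s * s' * s⁻¹ * s'⁻¹) = 1 := (QuotientGroup.eq_one_iff _).mpr h1
    rw [map_mul, map_mul, map_mul, map_inv, map_inv] at h2
    have := congrArg (fun t => t * π s' * π s) h2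
    simpa [mul_assoc] using this
  obtain ⟨g, hg⟩ := MulAction.exists_smul_eq (↥K ⧸ Subgroup.center ↥K) P₀ P
  refine ⟨⟨?_⟩⟩
  rintro ⟨u, hu⟩ ⟨v, hv⟩
  apply Subtype.ext
  show u * v = v * u
  rw [← hg, Sylow.coe_subgroup_smul, Subgroup.mem_pointwise_smul_iff_inv_smul_mem] at hu hv
  simp only [MulAut.smul_def, MulAut.conj_inv_apply] at hu hv
  have := hP₀comm _ hu _ hv
  have h3 := congrArg (fun t => g * t * g⁻¹) this
  simpa [mul_assoc] using h3


end Cfsg.Agent.S2925
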