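import Cfsg.Statements.S2928
import Mathlib
import Cfsg.Agent.Lib.H7.FStar
import Cfsg.Agent.Lib.H9.S28Top

set_option autoImplicit false
open Cfsg

namespace Cfsg.Agent.S2928

/-- Let n ≥ 8 and let H be a subgroup of the symmetric group of degree n whose generalized Fitting subgroup F*(H) is quasisimple. If H contains a Sylow 2-subgroup of the alternating group of degree n, then F*(H) is isomorphic to an alternating group of degree m for some m ∈ {n − 3, n − 2, n − 1, n}. -/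
theorem result (n : ℕ) (hn : 8 ≤ n) (H : Subgroup (Equiv.Perm (Fin n))) (hF : Cfsg.IsQuasisimple ↥(Cfsg.generalizedFittingSubgroup ↥H)) (hS : ∃ P : Sylow 2 ↥(alternatingGroup (Fin n)), ((P : Subgroup ↥(alternatingGroup (Fin n))).map (alternatingGroup (Fin n)).subtype) ≤ H) : ∃ m : ℕ, (m = n - 3 ∨ m = n - 2 ∨ m = n - 1 ∨ m = n) ∧ Nonempty (↥(Cfsg.generalizedFittingSubgroup ↥H) ≃* ↥(alternatingGroup (Fin m))) := by
  classical
  obtain ⟨P, hPH⟩ := hS
  set F := Cfsg.generalizedFittingSubgroup ↥H with hFdef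
  set L : Subgroup (Equiv.Perm (Fin n)) := F.map H.subtype with hLdef
  have e₁ : ↥F ≃* ↥L := F.equivMapOfInjective H.subtype H.subtype_injective
  have hL : Cfsg.IsQuasisimple ↥L := Cfsg.Agent.Lib.H7.quasisimple_of_mulEquiv e₁ hF
  have hLH : L ≤ H := Subgroup.map_subtype_le F
  have hFn : F.Normal := Cfsg.Agent.Lib.H7.generalizedFittingSubgroup_normal
  have hHN : ∀ h ∈ H, ∀ x ∈ L, h * x * h⁻¹ ∈ L := by
    rintro h hh _ ⟨f, hf, rfl⟩
    exact ⟨⟨h, hh⟩ * f * ⟨h, hh⟩⁻¹, hFn.conj_mem f hf ⟨h, hh⟩, rfl⟩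
  have hbender : ∀ h ∈ H, (∀ x ∈ L, x * h = h * x) → h ∈ L := by
    intro h hh hcomm
    have : (⟨h, hh⟩ : ↥H) ∈ Subgroup.centralizer (F : Set ↥H) := by
      rw [Subgroup.mem_centralizer_iff]
      intro f hf
      apply Subtype.ext
      have := hcomm (f : Equiv.Perm (Fin n)) (Subgroup.mem_map_of_mem H.subtype hf)
      simpa using this
    have hF' := Cfsg.Agent.Lib.H7.centralizer_generalizedFittingSubgroup_le this
    exact ⟨⟨h, hh⟩, hF', rfl⟩
  obtain ⟨⟨e₂⟩, h3⟩ := Cfsg.Agent.Lib.H9.S28.sylow_two_structure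
    (by rw [Fintype.card_fin]; exact hn) H L hLH hHN hL hbender P hPH
  rw [Fintype.card_fin] at h3
  set s := Cfsg.Agent.Lib.H15.SymF.mvd L with hs
  have hle : s.card ≤ n := by
    have := Finset.card_le_univ s
    rwa [Fintype.card_fin] at this
  refine ⟨s.card, by omega, ?_⟩
  have e₄ : ↥(alternatingGroup {x // x ∈ s}) ≃* ↥(alternatingGroup (Fin s.card)) :=
    Equiv.altCongrHom s.equivFin
  exact ⟨(e₁.trans e₂).trans e₄⟩

end Cfsg.Agent.S2928
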