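import Cfsg.Statements.S2929
import Mathlib
import Cfsg.Agent.Lib.H7.FStar
import Cfsg.Agent.Lib.H15.SymF6

set_option autoImplicit false
open Cfsg

namespace Cfsg.Agent.S2929

/-- Let n ≥ 5 and let H be a subgroup of the symmetric group of degree n whose generalized Fitting subgroup F*(H) is quasisimple. If H contains a Sylow 3-subgroup of the symmetric group, then F*(H) is isomorphic to an alternating group of degree m for some m ∈ {n − 2, n − 1, n}. -/
theorem result (n : ℕ) (hn : 5 ≤ n) (H : Subgroup (Equiv.Perm (Fin n))) (hF : Cfsg.IsQuasisimple ↥(Cfsg.generalizedFittingSubgroup ↥H)) (hS : ∃ P : Sylow 3 (Equiv.Perm (Fin n)), (P : Subgroup (Equiv.Perm (Fin n))) ≤ H) : ∃ m : ℕ, (m = n - 2 ∨ m = n - 1 ∨ m = n) ∧ Nonempty (↥(Cfsg.generalizedFittingSubgroup ↥H) ≃* ↥(alternatingGroup (Fin m))) := by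
  classical
  obtain ⟨P, hPH⟩ := hS
  set F := Cfsg.generalizedFittingSubgroup ↥H with hFdef
  set L : Subgroup (Equiv.Perm (Fin n)) := F.map H.subtype with hLdef
  have e₁ : ↥F ≃* ↥L := F.equivMapOfInjective H.subtype H.subtype_injective
  have hL : Cfsg.IsQuasisimple ↥L := Cfsg.Agent.Lib.H7.quasisimple_of_mulEquiv e₁ hF
  have hLH : L ≤ H := Subgroup.map_subtype_le F
  haveI hFn : F.Normal := Cfsg.Agent.Lib.H7.generalizedFittingSubgroup_normal
  have hHN : H ≤ Subgroup.normalizer (L : Set (Equiv.Perm (Fin n))) := by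
    have h1 := Subgroup.le_normalizer_map (H := F) H.subtype
    rw [Subgroup.normalizer_eq_top] at h1
    have h2 : (⊤ : Subgroup ↥H).map H.subtype = H := by
      rw [← MonoidHom.range_eq_map, Subgroup.range_subtype]
    rw [h2] at h1
    exact h1
  have hbender : ∀ h ∈ H, (∀ x ∈ L, x * h = h * x) → h ∈ L := by
    intro h hh hcomm
    have : (⟨h, hh⟩ : ↥H) ∈ Subgroup.centralizer (F : Set ↥H) := by
      rw [Subgroup.mem_centralizer_iff]
      intro f hf
      apply Subtype.ext
      have := hcomm (f : Equiv.Perm (Fin n)) (Subgroup.mem_map_of_mem H.subtype hf)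
      simpa using this
    have hF' := Cfsg.Agent.Lib.H7.centralizer_generalizedFittingSubgroup_le this
    exact ⟨⟨h, hh⟩, hF', rfl⟩
  obtain ⟨h1, h2, h3⟩ := Cfsg.Agent.Lib.H15.SymF.sylow_three_structure
    (by rw [Fintype.card_fin]; omega) H L hLH hHN hL hbender P hPH
  rw [Fintype.card_fin] at h3
  set s := Cfsg.Agent.Lib.H15.SymF.mvd L with hs
  have hle : s.card ≤ n := by
    have := Finset.card_le_univ s
    rwa [Fintype.card_fin] at this
  refine ⟨s.card, by omega, ?_⟩
  have e₂ : ↥L ≃* ↥((alternatingGroup {x // x ∈ s}).map Equiv.Perm.ofSubtype) :=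
    MulEquiv.subgroupCongr h1
  have e₃ : ↥(alternatingGroup {x // x ∈ s}) ≃*
      ↥((alternatingGroup {x // x ∈ s}).map Equiv.Perm.ofSubtype) :=
    (alternatingGroup {x // x ∈ s}).equivMapOfInjective Equiv.Perm.ofSubtype
      Equiv.Perm.ofSubtype_injective
  have e₄ : ↥(alternatingGroup {x // x ∈ s}) ≃* ↥(alternatingGroup (Fin s.card)) :=
    Equiv.altCongrHom s.equivFin
  exact ⟨((e₁.trans e₂).trans e₃.symm).trans e₄⟩

end Cfsg.Agent.S2929
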