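import Mathlib
import Cfsg.Statements.S2933
import Cfsg.Agent.Lib.H2.RTJ
-- import your own Cfsg.Agent.* helpers here

set_option autoImplicit false
open Cfsg

namespace Cfsg.Agent.S2933

/-- Let T be a 2-subgroup of a finite group G, V ≤ Z(T) a four-group, and t, ρ ∈ N_G(V) ∩ N_G(T) elements of order 2 and 3 with t commuting with ρ and with V. If [V, ρ] = V and C_T(t) = V, then T is elementary abelian of order 16, or homocyclic of rank 2 (ℤ/2ⁿ × ℤ/2ⁿ for some n ≥ 1), or isomorphic to a Sylow 2-subgroup of PSL₃(4) or of PSU₃(4). -/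
theorem result {G : Type*} [Group G] [Finite G] (T V : Subgroup G) (hT : IsPGroup 2 ↥T) (hVT : V ≤ T ⊓ Subgroup.centralizer (T : Set G)) (hV : Nat.card ↥V = 4 ∧ ∀ v ∈ V, v ^ 2 = 1) (t ρ : G) (ht : orderOf t = 2) (hρ : orderOf ρ = 3) (htn : t ∈ Subgroup.normalizer (V : Set G) ⊓ Subgroup.normalizer (T : Set G)) (hρn : ρ ∈ Subgroup.normalizer (V : Set G) ⊓ Subgroup.normalizer (T : Set G)) (htρ : t * ρ = ρ * t) (htV : t ∈ Subgroup.centralizer (V : Set G)) (hVρ : ⁅V, Subgroup.zpowers ρ⁆ = V) (hCt : T ⊓ Subgroup.centralizer ({t} : Set G) = V) : (Nat.card ↥T = 16 ∧ ∀ x ∈ T, x ^ 2 = 1) ∨ (∃ n : ℕ, 1 ≤ n ∧ Nonempty (↥T ≃* Multiplicative (ZMod (2 ^ n)) × Multiplicative (ZMod (2 ^ n)))) ∨ (∃ (F : Type) (_ : Field F) (_ : Fintype F), Fintype.card F = 4 ∧ ∀ P : Sylow 2 (Matrix.ProjectiveSpecialLinearGroup (Fin 3) F), Nonempty (↥T ≃* ↥(P : Subgroup (Matrix.ProjectiveSpecialLinearGroup (Fin 3) F))))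 ∨ (∃ (F : Type) (_ : Field F) (_ : Fintype F), Fintype.card F = 16 ∧ ∀ P : Sylow 2 (Cfsg.PSU 3 F 4), Nonempty (↥T ≃* ↥(P : Subgroup (Cfsg.PSU 3 F 4)))) := by
  have hp : Fact (Nat.Prime 2) := ⟨Nat.prime_two⟩
  rcases Cfsg.Agent.Lib.H2.RT.main_subgroup T V hT hVT hV t ρ ht hρ htn hρn htρ hVρ hCt with
    h | h | h | h
  · exact Or.inl ⟨h.1, fun x hx => by
      have := h.2 ⟨x, hx⟩
      exact congrArg Subtype.val this⟩
  · exact Or.inr (Or.inl h)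
  · obtain ⟨e1⟩ := h
    refine Or.inr (Or.inr (Or.inl ⟨Cfsg.Agent.Lib.H3.F4.F4, inferInstance, inferInstance,
      Cfsg.Agent.Lib.H3.F4.F4.card_eq, fun P => ?_⟩))
    obtain ⟨e2⟩ := Cfsg.Agent.Lib.H2.L34.nonempty_heis_sylow
    obtain ⟨g, hg⟩ := MulAction.exists_smul_eq
      (Matrix.ProjectiveSpecialLinearGroup (Fin 3) Cfsg.Agent.Lib.H3.F4.F4)
      Cfsg.Agent.Lib.H2.L34.sylPSL P
    have e3 : ↥(Cfsg.Agent.Lib.H2.L34.sylPSL : Subgroup
        (Matrix.ProjectiveSpecialLinearGroup (Fin 3) Cfsg.Agent.Lib.H3.F4.F4)) ≃*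
        ↥(P : Subgroup (Matrix.ProjectiveSpecialLinearGroup (Fin 3) Cfsg.Agent.Lib.H3.F4.F4)) := by
      rw [← hg]
      exact Sylow.equivSMul Cfsg.Agent.Lib.H2.L34.sylPSL g
    exact ⟨(e1.symm.trans e2).trans e3⟩
  · obtain ⟨e1⟩ := h
    have hcard : Nat.card (GaloisField 2 4) = 2 ^ 4 := GaloisField.card 2 4 (by norm_num)
    let inst : Fintype (GaloisField 2 4) := Fintype.ofFinite _
    have hF : Fintype.card (GaloisField 2 4) = 16 := by
      rw [← Nat.card_eq_fintype_card, hcard]; norm_num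
    refine Or.inr (Or.inr (Or.inr ⟨GaloisField 2 4, inferInstance, inst, hF, fun P => ?_⟩))
    have hF' : Fintype.card (GaloisField 2 4) = 4 ^ 2 := by rw [hF]; norm_num
    have hF2 : Fintype.card (GaloisField 2 4) = 2 ^ 4 := by rw [hF]; norm_num
    have hch : CharP (GaloisField 2 4) 2 := charP_of_card_eq_prime_pow hF2
    let D : Cfsg.Agent.Lib.H13.AutPSU.UF (GaloisField 2 4) 4 :=
      Cfsg.Agent.Lib.H13.AutPSU.UF.ofCard (p := 2) (f := 2) (by norm_num) hF'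
    obtain ⟨e2⟩ := Cfsg.Agent.Lib.H2.RT.nonempty_ell_equiv_TU (D4 := D) hF
    obtain ⟨e3⟩ := Cfsg.Agent.Lib.H2.SU3.nonempty_equiv_TU_PSU D P
    exact ⟨(e1.symm.trans e2).trans e3.symm⟩

end Cfsg.Agent.S2933
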