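import Cfsg.Statements.S2939
import Cfsg.Agent.Lib.H15.SylowControl

set_option autoImplicit false
open Cfsg

namespace Cfsg.Agent.S2939

open Cfsg.Agent.Lib.H15 Cfsg.Agent.Lib.H5

variable {G : Type*} [Group G]

theorem conjRight_subset_iff (g : G) (A : Set G) (H : Subgroup G) :
    Cfsg.conjRight g A ⊆ (H : Set G) ↔ A ⊆ ((cj g H : Subgroup G) : Set G) := by
  unfold Cfsg.conjRight
  constructor
  · intro h a ha
    rw [SetLike.mem_coe, mem_cj_iff]
    exact h ⟨a, ha, rfl⟩
  · rintro h _ ⟨a, ha, rfl⟩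
    exact mem_cj_iff.mp (h ha)

/-- right-to-left partial products -/
def wR {n : ℕ} (x : Fin n → G) : ℕ → G
  | 0 => 1
  | k + 1 => (if h : k < n then x ⟨k, h⟩ else 1) * wR x k

/-- left-to-right partial products -/
def uL {n : ℕ} (y : Fin n → G) : ℕ → G
  | 0 => 1
  | k + 1 => uL y k * (if h : k < n then y ⟨k, h⟩ else 1)

theorem wR_succ {n : ℕ} (x : Fin n → G) (i : Fin n) : wR x (i.val + 1) = x i * wR x i.val := by
  show (if h : i.val < n then x ⟨i.val, h⟩ else 1) * wR x i.val = _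
  rw [dif_pos i.2]

theorem uL_succ {n : ℕ} (y : Fin n → G) (i : Fin n) : uL y (i.val + 1) = uL y i.val * y i := by
  show uL y i.val * (if h : i.val < n then y ⟨i.val, h⟩ else 1) = _
  rw [dif_pos i.2]

theorem take_prod_eq_uL {n : ℕ} (y : Fin n → G) (k : ℕ) (hk : k ≤ n) :
    ((List.ofFn y).take k).prod = uL y k := by
  induction k with
  | zero => simp [uL]
  | succ k ih =>
    have hlt : k < (List.ofFn y).length := by simp; omega
    rw [List.prod_take_succ _ k hlt, ih (by omega), List.getElem_ofFn]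
    have hk' : k < n := by omega
    exact (uL_succ y ⟨k, hk'⟩).symm

theorem prod_eq_uL {n : ℕ} (y : Fin n → G) : (List.ofFn y).prod = uL y n := by
  rw [← take_prod_eq_uL y n le_rfl]
  congr 1
  rw [List.take_of_length_le]
  simp

theorem uL_conj_eq_wR {n : ℕ} (x : Fin n → G) (k : ℕ) (hk : k ≤ n) :
    uL (fun i : Fin n => (wR x i.val)⁻¹ * x i * wR x i.val) k = wR x k := by
  induction k with
  | zero => rfl
  | succ k ih =>
    have hk' : k < n := by omega
    have h1 := uL_succ (fun i : Fin n => (wR x i.val)⁻¹ * x i * wR x i.val) ⟨k, hk'⟩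
    have h2 := wR_succ x ⟨k, hk'⟩
    simp only at h1 h2
    rw [h1, h2, ih (by omega)]
    group

theorem forward {p : ℕ} [Fact p.Prime] [Finite G] (𝓕 : Set (Subgroup G)) (h𝓕 : Cfsg.IsNormalSet 𝓕)
    (hC : Cfsg.ControlsSylowIntersections p 𝓕) : Cfsg.FamilyStronglyControlsFusion p 𝓕 := by
  intro S A g hAS hA hgA
  obtain ⟨a, haA, ha1⟩ := hA
  replace hgA : Cfsg.conjRight g A ⊆ ((S : Subgroup G) : Set G) := hgA
  replace hAS : A ⊆ ((S : Subgroup G) : Set G) := hAS
  rw [conjRight_subset_iff] at hgA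
  -- `T = g S g⁻¹`
  have hT : ((g • S : Sylow p G) : Subgroup G) = cj g (S : Subgroup G) := coe_smul_sylow_eq_cj S g
  by_cases hST : g • S = S
  · refine ⟨0, Fin.elim0, Fin.elim0, g, ?_, ?_, ?_, ?_⟩
    · exact Sylow.smul_eq_iff_mem_normalizer.mp hST
    · intro i; exact i.elim0
    · simp
    · intro i; exact i.elim0
  · have hne : (S : Subgroup G) ⊓ ((g • S : Sylow p G) : Subgroup G) ≠ ⊥ := by
      intro h
      have : a ∈ (S : Subgroup G) ⊓ ((g • S : Sylow p G) : Subgroup G) := by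
        rw [hT]
        exact Subgroup.mem_inf.mpr ⟨hAS haA, hgA haA⟩
      rw [h, Subgroup.mem_bot] at this
      exact ha1 this
    obtain ⟨n, c, X, x, hc0, hcl, H⟩ := hC S (g • S) (Ne.symm hST) hne
    have hAle : A ⊆ (((S : Subgroup G) ⊓ ((g • S : Sylow p G) : Subgroup G) : Subgroup G) : Set G) := by
      intro b hb
      rw [hT]
      exact Subgroup.mem_inf.mpr ⟨hAS hb, hgA hb⟩
    -- invariant
    have hw : ∀ k (hk : k < n + 1), ((c ⟨k, hk⟩ : Sylow p G) : Subgroup G) = cj (wR x k) (S : Subgroup G) := by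
      intro k
      induction k with
      | zero =>
        intro hk
        have : (⟨0, hk⟩ : Fin (n + 1)) = 0 := rfl
        rw [this, hc0]
        exact (cj_one _).symm
      | succ k ih =>
        intro hk
        have hk' : k < n := by omega
        obtain ⟨-, -, -, h4, -⟩ := H ⟨k, hk'⟩
        rw [subgroupConjRight_eq_cj] at h4
        have e1 : (⟨k, hk'⟩ : Fin n).succ = ⟨k + 1, hk⟩ := rfl
        have e2 : (⟨k, hk'⟩ : Fin n).castSucc = ⟨k, by omega⟩ := rfl
        rw [e1, e2, ih (by omega)] at h4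
        have h5 := congrArg (cj (x ⟨k, hk'⟩)) h4
        rw [cj_cj_inv, cj_cj] at h5
        rw [h5]
        congr 1
        exact (wR_succ x ⟨k, hk'⟩).symm
    have hwn : cj (wR x n) (S : Subgroup G) = cj g (S : Subgroup G) := by
      rw [← hw n (by omega), ← hT]
      have : (⟨n, by omega⟩ : Fin (n + 1)) = Fin.last n := rfl
      rw [this, hcl]
    refine ⟨n, fun i => cj (wR x i.val)⁻¹ (X i), fun i => (wR x i.val)⁻¹ * x i * wR x i.val,
      (wR x n)⁻¹ * g, ?_, ?_, ?_, ?_⟩
    · rw [mem_normalizer_iff_cj_eq, ← cj_cj, ← hwn, cj_inv_cj]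
    · intro i
      obtain ⟨h1, -, h3, -, -⟩ := H i
      constructor
      · apply sylowMembers_conj h𝓕
        have : i.castSucc = ⟨i.val, by omega⟩ := rfl
        rw [this, hw i.val (by omega)] at h1
        exact h1
      · rw [mem_cj_iff]
        have : (wR x i.val)⁻¹⁻¹ * ((wR x i.val)⁻¹ * x i * wR x i.val) * (wR x i.val)⁻¹ = x i := by group
        rw [this]; exact h3
    · rw [prod_eq_uL, uL_conj_eq_wR x n le_rfl]
      group
    · intro i
      rw [take_prod_eq_uL _ _ (by omega), uL_conj_eq_wR x _ (by omega)]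
      obtain ⟨-, -, h3, -, h5⟩ := H i
      have hAi : A ⊆ (((c i.succ : Sylow p G) : Subgroup G) ⊓ X i : Subgroup G) := fun b hb => h5 (hAle hb)
      apply Set.subset_inter
      · show Cfsg.conjRight _ A ⊆ ((S : Subgroup G) : Set G)
        rw [conjRight_subset_iff]
        have : i.succ = ⟨i.val + 1, by omega⟩ := rfl
        rw [this, hw (i.val + 1) (by omega)] at hAi
        exact fun b hb => (Subgroup.mem_inf.mp (hAi hb)).1
      · rw [conjRight_subset_iff, cj_cj, wR_succ]
        intro b hb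
        have hbX : b ∈ X i := (Subgroup.mem_inf.mp (hAi hb)).2
        rw [SetLike.mem_coe, mem_cj_iff]
        have : (x i * wR x i.val * (wR x i.val)⁻¹)⁻¹ * b * (x i * wR x i.val * (wR x i.val)⁻¹)
            = (x i)⁻¹ * b * x i := by group
        rw [this]
        exact (X i).mul_mem ((X i).mul_mem ((X i).inv_mem h3) hbX) h3

theorem backward {p : ℕ} [Fact p.Prime] [Finite G] (𝓕 : Set (Subgroup G)) (h𝓕 : Cfsg.IsNormalSet 𝓕)
    (hC : Cfsg.FamilyStronglyControlsFusion p 𝓕) : Cfsg.ControlsSylowIntersections p 𝓕 := by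
  intro S T hST hne
  obtain ⟨g, hg⟩ := MulAction.exists_smul_eq G S T
  have hT : (T : Subgroup G) = cj g (S : Subgroup G) := by
    rw [← hg]; exact coe_smul_sylow_eq_cj S g
  have hA1 : ∃ a ∈ (((S : Subgroup G) ⊓ (T : Subgroup G) : Subgroup G) : Set G), a ≠ 1 := by
    by_contra h
    push Not at h
    apply hne
    rw [eq_bot_iff]
    intro b hb
    exact Subgroup.mem_bot.mpr (h b hb)
  obtain ⟨n, Y, y, y₀, hy₀, hY, hgy, hpre⟩ := hC S (((S : Subgroup G) ⊓ (T : Subgroup G) : Subgroup G) : Set G) g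
    (fun b hb => (Subgroup.mem_inf.mp hb).1) hA1
    (by
      show Cfsg.conjRight g _ ⊆ ((S : Subgroup G) : Set G)
      rw [conjRight_subset_iff, ← hT]
      exact fun b hb => (Subgroup.mem_inf.mp hb).2)
  rw [prod_eq_uL] at hgy
  have hmem : ∀ (u : G) (Z : Subgroup G), Z ∈ Cfsg.sylowMembers p 𝓕 (S : Subgroup G) →
      cj u Z ∈ Cfsg.sylowMembers p 𝓕 (cj u (S : Subgroup G)) := by
    intro u Z hZ
    have := sylowMembers_conj (p := p) h𝓕 (S' := cj u (S : Subgroup G)) (X := Z) u⁻¹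
      (by rw [cj_inv_cj]; exact hZ)
    rwa [inv_inv] at this
  refine ⟨n, fun i => uL y i.val • S, fun i => cj (uL y i.val) (Y i),
    fun i => uL y i.val * y i * (uL y i.val)⁻¹, ?_, ?_, ?_⟩
  · show uL y 0 • S = S
    show (1 : G) • S = S
    exact one_smul _ _
  · show uL y n • S = T
    have : uL y n = g * y₀⁻¹ := by rw [hgy]; group
    rw [this, mul_smul, ← hg]
    congr 1
    exact Sylow.smul_eq_iff_mem_normalizer.mpr (Subgroup.inv_mem _ hy₀)
  · intro i
    obtain ⟨hYi, hyi⟩ := hY i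
    have hX2 : cj (uL y i.val) (Y i) = cj (uL y (i.val + 1)) (Y i) := by
      rw [uL_succ, ← cj_cj, cj_eq_self_of_mem hyi]
    refine ⟨?_, ?_, ?_, ?_, ?_⟩
    · show cj (uL y i.val) (Y i) ∈ Cfsg.sylowMembers p 𝓕 ((uL y i.val • S : Sylow p G) : Subgroup G)
      rw [coe_smul_sylow_eq_cj]
      exact hmem _ _ hYi
    · show cj (uL y i.val) (Y i) ∈ Cfsg.sylowMembers p 𝓕 ((uL y (i.val + 1) • S : Sylow p G) : Subgroup G)
      rw [coe_smul_sylow_eq_cj, hX2]
      exact hmem _ _ hYi
    · exact conj_mem_cj hyi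
    · show Cfsg.subgroupConjRight _ ((uL y (i.val + 1) • S : Sylow p G) : Subgroup G)
        = ((uL y i.val • S : Sylow p G) : Subgroup G)
      rw [subgroupConjRight_eq_cj, coe_smul_sylow_eq_cj, coe_smul_sylow_eq_cj, cj_cj, uL_succ]
      congr 1
      group
    · show _ ≤ ((uL y (i.val + 1) • S : Sylow p G) : Subgroup G) ⊓ cj (uL y i.val) (Y i)
      rw [coe_smul_sylow_eq_cj, hX2]
      have h := hpre i
      rw [take_prod_eq_uL _ _ (by omega)] at h
      intro b hb
      have h1 := h ⟨b, hb, rfl⟩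
      exact Subgroup.mem_inf.mpr ⟨mem_cj_iff.mpr h1.1, mem_cj_iff.mpr h1.2⟩

/-- Let p be a prime dividing the order of the finite group G and 𝓕 a family of subgroups of G closed under conjugation, with conjugates taken as X^g = g⁻¹Xg. Then 𝓕 controls Sylow p-intersections in G (any two distinct Sylow p-subgroups S and T with S ∩ T ≠ 1 are joined by a chain S = S₀, S₁, …, Sₙ = T of Sylow p-subgroups where, for each i, some member Xᵢ of 𝓕 meets both S_{i-1} and Sᵢ in Sylow p-subgroups of Xᵢ, satisfies S ∩ T ≤ Sᵢ ∩ Xᵢ, and contains an element xᵢ with Sᵢ^{xᵢ} = S_{i-1}) if and only if 𝓕 strongly controls p-fusion in G (whenever A is a subset of a Sylow p-subgroup S, A contains an element other than 1, and A^g ⊆ S, the element g factorises as g = y₁⋯yₙy with y ∈ N_G(S) and each yᵢ in a member Yᵢ of 𝓕 that meets S in a Sylow p-subgroup of Yᵢ, with A^{y₁⋯yᵢ} ⊆ S ∩ Yᵢ for each i). -/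
theorem result {G : Type*} [Group G] [Finite G] {p : ℕ} [Fact p.Prime] (hdiv : p ∣ Nat.card G) (𝓕 : Set (Subgroup G)) (h𝓕 : Cfsg.IsNormalSet 𝓕) : Cfsg.ControlsSylowIntersections p 𝓕 ↔ Cfsg.FamilyStronglyControlsFusion p 𝓕 := by
  exact ⟨forward 𝓕 h𝓕, backward 𝓕 h𝓕⟩

end Cfsg.Agent.S2939
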