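import Cfsg.Statements.S2940
import Cfsg.Agent.Lib.H15.Conj
import Cfsg.Agent.Lib.H5.SylowIn
import Cfsg.Agent.Lib.H26.Basic

set_option autoImplicit false
open Cfsg

namespace Cfsg.Agent.S2940

open Cfsg.Agent.Lib.H15 Cfsg.Agent.Lib.H5

theorem mem_conjRight_iff {G : Type*} [Group G] {g x : G} {X : Subgroup G} :
    x ∈ Cfsg.subgroupConjRight g X ↔ g * x * g⁻¹ ∈ X := by
  unfold Cfsg.subgroupConjRight
  have := mem_cj_iff (g := g⁻¹) (x := x) (H := X)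
  rw [inv_inv] at this
  exact this

theorem mem_inv_smul_sylow_iff {G : Type*} [Group G] {p : ℕ} (b : G) (S : Sylow p G) (y : G) :
    y ∈ (b⁻¹ • S : Sylow p G) ↔ b * y * b⁻¹ ∈ S := by
  rw [sylow_mem_smul_iff, inv_inv]

/-- Let S be a Sylow p-subgroup of the finite group G and G₁, G₂ subgroups containing S with G = G₁G₂. Then for every g ∈ G there is a Sylow p-subgroup U of G with S ∩ S^g ≤ U ≤ G₁ ∩ G₂^g (conjugates taken as X^g = g⁻¹Xg). -/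
theorem result {G : Type*} [Group G] [Finite G] {p : ℕ} [Fact p.Prime] (S : Sylow p G) (G₁ G₂ : Subgroup G) (h1 : (S : Subgroup G) ≤ G₁) (h2 : (S : Subgroup G) ≤ G₂) (hfact : ∀ g : G, ∃ g₁ ∈ G₁, ∃ g₂ ∈ G₂, g = g₁ * g₂) (g : G) : ∃ U : Sylow p G, (S : Subgroup G) ⊓ Cfsg.subgroupConjRight g (S : Subgroup G) ≤ (U : Subgroup G) ∧ (U : Subgroup G) ≤ G₁ ⊓ Cfsg.subgroupConjRight g G₂ := by
  obtain ⟨g₁, hg₁, g₂, hg₂, hg⟩ := hfact g⁻¹
  -- g = a * b with a ∈ G₂, b ∈ G₁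
  have hab : g = g₂⁻¹ * g₁⁻¹ := by
    have : g = (g⁻¹)⁻¹ := by simp
    rw [this, hg]; group
  set a := g₂⁻¹ with ha
  set b := g₁⁻¹ with hb
  have haG : a ∈ G₂ := G₂.inv_mem hg₂
  have hbG : b ∈ G₁ := G₁.inv_mem hg₁
  set H := G₁ ⊓ Cfsg.subgroupConjRight g G₂ with hH
  have hPH : ((b⁻¹ • S : Sylow p G) : Subgroup G) ≤ H := by
    intro y hy
    have hy' : b * y * b⁻¹ ∈ S := (mem_inv_smul_sylow_iff b S y).mp hy
    refine Subgroup.mem_inf.mpr ⟨?_, ?_⟩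
    · have : y = b⁻¹ * (b * y * b⁻¹) * b := by group
      rw [this]
      exact G₁.mul_mem (G₁.mul_mem (G₁.inv_mem hbG) (h1 hy')) hbG
    · rw [mem_conjRight_iff, hab]
      have : a * b * y * (a * b)⁻¹ = a * (b * y * b⁻¹) * a⁻¹ := by group
      rw [this]
      exact G₂.mul_mem (G₂.mul_mem haG (h2 hy')) (G₂.inv_mem haG)
  have hQH : (S : Subgroup G) ⊓ Cfsg.subgroupConjRight g (S : Subgroup G) ≤ H := by
    intro x hx
    refine Subgroup.mem_inf.mpr ⟨h1 hx.1, ?_⟩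
    rw [mem_conjRight_iff]
    exact h2 (mem_conjRight_iff.mp hx.2)
  have hQp : IsPGroup p ↥((S : Subgroup G) ⊓ Cfsg.subgroupConjRight g (S : Subgroup G)) :=
    S.isPGroup'.to_le inf_le_left
  obtain ⟨h, hhH, hh⟩ := Cfsg.Agent.Lib.H26.exists_conj_mem_sylow_of_le (b⁻¹ • S : Sylow p G) H _ hPH hQH hQp
  refine ⟨h⁻¹ • (b⁻¹ • S : Sylow p G), ?_, ?_⟩
  · intro x hx
    exact (mem_inv_smul_sylow_iff h _ x).mpr (hh x hx)
  · intro y hy
    have hy' := (mem_inv_smul_sylow_iff h _ y).mp hy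
    have : y = h⁻¹ * (h * y * h⁻¹) * h := by group
    rw [this]
    exact H.mul_mem (H.mul_mem (H.inv_mem hhH) (hPH hy')) hhH

end Cfsg.Agent.S2940
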