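import Cfsg.Statements.S2941
import Cfsg.Agent.Lib.H15.JComp

set_option autoImplicit false
open Cfsg

namespace Cfsg.Agent.S2941

/-- Let G be a finite group of characteristic 2 type in which every 2-local subgroup is solvable and the centralizer of Ω₁(Z(S)) lies in N_G(S) for every Sylow 2-subgroup S, and let T be a nontrivial 2-subgroup and K a J(T)-component (J the Thompson subgroup generated by the elementary abelian 2-subgroups of largest order). If a subgroup Q is normalized by ⟨K, J(T)⟩ and normalizes J(T), then Q normalizes K. -/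
theorem result {G : Type*} [Group G] [Finite G] (hL : Cfsg.IsCharacteristicTwoType G) (hN : ∀ N : Subgroup G, Cfsg.IsTwoLocal N → Group.IsSolvable ↥N)
    (hZ : ∀ S : Sylow 2 G, Subgroup.centralizer (Cfsg.omegaCenterOf (S : Subgroup G) : Set G) ≤ Subgroup.normalizer ((S : Subgroup G) : Set G)) (T : Subgroup G) (hT : IsPGroup 2 ↥T) (hT1 : T ≠ ⊥) (K : Subgroup G) (hK : Cfsg.IsJComponent T K)
    (Q : Subgroup G) (hQ1 : K ⊔ Cfsg.thompsonSubgroupOf 2 T ≤ Subgroup.normalizer (Q : Set G)) (hQ2 : Q ≤ Subgroup.normalizer (Cfsg.thompsonSubgroupOf 2 T : Set G)) :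
    Q ≤ Subgroup.normalizer (K : Set G) := by
  have hJT : Cfsg.thompsonSubgroupOf 2 T ≤ T := Subgroup.map_subtype_le _
  have hJ : IsPGroup 2 ↥(Cfsg.thompsonSubgroupOf 2 T) := by
    intro x
    obtain ⟨m, hm⟩ := hT ⟨x.1, hJT x.2⟩
    refine ⟨m, ?_⟩
    have := congrArg Subtype.val hm
    exact Subtype.ext (by simpa using this)
  exact Cfsg.Agent.Lib.H15.le_normalizer_of_commutator_eq_of_odd hJ hK.1 hK.2.1 hQ1 hQ2

end Cfsg.Agent.S2941
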