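import Cfsg.Statements.S2943
import Cfsg.Agent.Lib.H15.JCU2

set_option autoImplicit false
open Cfsg

namespace Cfsg.Agent.S2943

/-- Let G be a finite group of characteristic 2 type in which every 2-local subgroup is solvable and the centralizer of Ω₁(Z(S)) lies in N_G(S) for every Sylow 2-subgroup S, and let T be a nontrivial 2-subgroup (below, J is the Thompson subgroup generated by the elementary abelian 2-subgroups of largest order), L a subgroup in which T is a Sylow 2-subgroup with J(T) not contained in O₂(L) and C_G(O₂(L)) ≤ O₂(L), and K a J(T)-component contained in L. If Z(T) meets W_K = [Ω₁(Z(O₂(K))), K] nontrivially, then T normalizes K. -/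
theorem result {G : Type*} [Group G] [Finite G] (hL : Cfsg.IsCharacteristicTwoType G) (hN : ∀ N : Subgroup G, Cfsg.IsTwoLocal N → Group.IsSolvable ↥N)
    (hZ : ∀ S : Sylow 2 G, Subgroup.centralizer (Cfsg.omegaCenterOf (S : Subgroup G) : Set G) ≤ Subgroup.normalizer ((S : Subgroup G) : Set G)) (T : Subgroup G) (hT : IsPGroup 2 ↥T) (hT1 : T ≠ ⊥) (L : Subgroup G) (hLT : L ∈ Cfsg.jOvergroups T)
    (K : Subgroup G) (hK : Cfsg.IsJComponent T K) (hKL : K ≤ L)
    (hZW : T ⊓ Subgroup.centralizer (T : Set G) ⊓ Cfsg.wOf K ≠ ⊥) : T ≤ Subgroup.normalizer (K : Set G) := by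
  have hlt := Cfsg.Agent.Lib.H15.JC.lt_of_mem_jOvergroups hN hZ hT1 hLT
  have hTL : T ≤ L := hLT.1.1
  have hK' := Cfsg.Agent.Lib.H15.JC.isJComponent_subgroupOf hTL hKL hK
  have hZW' : T.subgroupOf L ⊓ Subgroup.centralizer ((T.subgroupOf L : Subgroup ↥L) : Set ↥L) ⊓
      Cfsg.wOf (K.subgroupOf L) ≠ ⊥ := by
    obtain ⟨⟨z, hz⟩, hz1'⟩ := (Subgroup.ne_bot_iff_exists_ne_one).1 hZW
    have hz1 : z ≠ 1 := fun h1 => hz1' (Subtype.ext h1)
    have hzW : z ∈ (Cfsg.wOf (K.subgroupOf L)).map L.subtype := by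
      rw [← Cfsg.Agent.Lib.H15.JC.wOf_map L.subtype L.subtype_injective,
        Cfsg.Agent.Lib.H15.JC.map_subgroupOf_subtype hKL]
      exact hz.2
    obtain ⟨z', hz', hzz⟩ := hzW
    intro hbot
    have hmem : z' ∈ T.subgroupOf L ⊓ Subgroup.centralizer ((T.subgroupOf L : Subgroup ↥L) : Set ↥L) ⊓
        Cfsg.wOf (K.subgroupOf L) := by
      refine Subgroup.mem_inf.mpr ⟨Subgroup.mem_inf.mpr ⟨?_, ?_⟩, hz'⟩
      · rw [Subgroup.mem_subgroupOf]
        have : (z' : G) = z := hzz
        rw [this]; exact hz.1.1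
      · rw [Subgroup.mem_centralizer_iff]
        intro s hs
        apply Subtype.ext
        have h1 := Subgroup.mem_centralizer_iff.mp hz.1.2 (s : G) (Subgroup.mem_subgroupOf.mp hs)
        have : (z' : G) = z := hzz
        simp only [Subgroup.coe_mul, this]
        exact h1
    rw [hbot, Subgroup.mem_bot] at hmem
    apply hz1
    rw [← hzz, hmem]; rfl
  have hmain := hlt.le_normalizer_of_center hK' hZW'
  intro t ht
  have h1 := hmain (show (⟨t, hTL ht⟩ : ↥L) ∈ T.subgroupOf L from Subgroup.mem_subgroupOf.mpr ht)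
  rw [Subgroup.mem_normalizer_iff] at h1 ⊢
  intro k
  constructor
  · intro hk
    have := (h1 ⟨k, hKL hk⟩).mp (Subgroup.mem_subgroupOf.mpr hk)
    exact Subgroup.mem_subgroupOf.mp this
  · intro hk
    have hkL : k ∈ L := by
      have h2 : t⁻¹ * (t * k * t⁻¹) * t ∈ L :=
        Subgroup.mul_mem _ (Subgroup.mul_mem _ (Subgroup.inv_mem _ (hTL ht)) (hKL hk)) (hTL ht)
      have e : t⁻¹ * (t * k * t⁻¹) * t = k := by group
      rwa [e] at h2
    have := (h1 ⟨k, hkL⟩).mpr (Subgroup.mem_subgroupOf.mpr hk)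
    exact Subgroup.mem_subgroupOf.mp this


end Cfsg.Agent.S2943
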