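import Cfsg.Statements.S2947
import Cfsg.Agent.Lib.H15.Conj
import Cfsg.Agent.Lib.H15.PGroup
import Cfsg.Agent.Lib.H5.SylowIn
import Cfsg.Agent.Lib.H1.PCore

set_option autoImplicit false
open Cfsg

namespace Cfsg.Agent.S2947

open Cfsg.Agent.Lib.H15 Cfsg.Agent.Lib.H5

theorem two_dvd_card_of_ne_bot {G : Type*} [Group G] [Finite G] {T : Subgroup G} (hT : IsPGroup 2 ↥T)
    (hne : T ≠ ⊥) : 2 ∣ Nat.card ↥T := by
  rcases hT.card_eq_or_dvd with h | h
  · exact absurd (Subgroup.card_eq_one.mp h) hne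
  · exact h

/-- Strongly embedded subgroups contain the normalizers of their nontrivial 2-subgroups. -/
theorem stepA {G : Type*} [Group G] [Finite G] {M : Subgroup G} (hM : Cfsg.IsStronglyEmbedded M)
    {P : Subgroup G} (hP : IsPGroup 2 ↥P) (hne : P ≠ ⊥) (hPM : P ≤ M) :
    Subgroup.normalizer (P : Set G) ≤ M := by
  intro g hg
  by_contra hgM
  have hodd := hM.2.2 g hgM
  have hgP : cj g P = P := mem_normalizer_iff_cj_eq.mp hg
  have hle : P ≤ M ⊓ M.map (MulAut.conj g).toMonoidHom := by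
    refine le_inf hPM ?_
    have : cj g P ≤ cj g M := cj_mono g hPM
    rwa [hgP] at this
  have h1 : Nat.card ↥P ∣ Nat.card ↥(M ⊓ M.map (MulAut.conj g).toMonoidHom) :=
    Subgroup.card_dvd_of_le hle
  have h2 := (two_dvd_card_of_ne_bot hP hne).trans h1
  rw [Nat.odd_iff] at hodd
  omega

theorem stepB {G : Type*} [Group G] [Finite G] {M : Subgroup G} (hM : Cfsg.IsStronglyEmbedded M)
    {R : Subgroup G} (hR : IsPGroup 2 ↥R) (hne : R ⊓ M ≠ ⊥) : R ≤ M := by
  by_contra hcon
  have hne' : R ⊓ M ≠ R := by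
    intro h; exact hcon (inf_eq_left.mp h)
  have hnil : Group.IsNilpotent ↥R := hR.isNilpotent
  obtain ⟨x, hxR, hxN, hx⟩ := exists_mem_normalizer_not_mem hnil inf_le_left hne'
  have h1 := stepA hM (hR.to_le inf_le_left) hne inf_le_right hxN
  exact hx ⟨hxR, h1⟩

theorem forward {G : Type*} [Group G] [Finite G] {M : Subgroup G} (hM : Cfsg.IsStronglyEmbedded M) :
    Cfsg.straddlingTwoSubgroups M = ∅ := by
  rw [Set.eq_empty_iff_forall_notMem]
  rintro T ⟨hT, hTne, hTM, L, ⟨T₁, hT₁, hT₁ne, rfl⟩, hTL, hLM⟩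
  apply hLM
  have hR : IsPGroup 2 ↥(T ⊔ T₁) := IsPGroup.to_sup_of_normal_right' hT hT₁ hTL
  have hne : (T ⊔ T₁) ⊓ M ≠ ⊥ := by
    intro h
    apply hTne
    rw [eq_bot_iff, ← h]
    exact le_inf le_sup_left hTM
  have h1 := stepB hM hR hne
  exact stepA hM hT₁ hT₁ne (le_sup_right.trans h1)

theorem backward {G : Type*} [Group G] [Finite G] (hO : Cfsg.pCore 2 G = ⊥) {M : Subgroup G}
    (hM : Cfsg.IsTwoLocal M) (hS : Cfsg.straddlingTwoSubgroups M = ∅) : Cfsg.IsStronglyEmbedded M := by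
  have hN : ∀ T : Subgroup G, IsPGroup 2 ↥T → T ≠ ⊥ → T ≤ M → Subgroup.normalizer (T : Set G) ≤ M := by
    intro T hT hTne hTM
    by_contra hcon
    have : T ∈ Cfsg.straddlingTwoSubgroups M :=
      ⟨hT, hTne, hTM, _, ⟨T, hT, hTne, rfl⟩, Subgroup.le_normalizer, hcon⟩
    rw [hS] at this
    exact this
  obtain ⟨T₀, hT₀, hT₀ne, hMT₀⟩ := hM
  have hT₀M : T₀ ≤ M := by rw [hMT₀]; exact Subgroup.le_normalizer
  refine ⟨?_, ?_, ?_⟩
  · intro htop
    apply hT₀ne
    have hn : T₀.Normal := by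
      rw [← Subgroup.normalizer_eq_top_iff, ← hMT₀]; exact htop
    rw [eq_bot_iff, ← hO]
    exact Cfsg.Agent.Lib.H1.le_pCore hn hT₀
  · have h1 : Nat.card ↥T₀ ∣ Nat.card ↥M := Subgroup.card_dvd_of_le hT₀M
    exact even_iff_two_dvd.mpr ((two_dvd_card_of_ne_bot hT₀ hT₀ne).trans h1)
  · intro g hgM
    by_contra hodd
    have h2 : 2 ∣ Nat.card ↥(M ⊓ cj g M) := by
      rw [Nat.not_odd_iff_even] at hodd
      exact even_iff_two_dvd.mp hodd
    set D := M ⊓ cj g M with hD
    -- a Sylow 2-subgroup of D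
    obtain ⟨P, hPD, _⟩ := exists_isSylowIn_ge (p := 2) (Q := (⊥ : Subgroup G)) (H := D)
      IsPGroup.of_bot bot_le
    have hPne : P ≠ ⊥ := by
      intro h
      have hc := hPD.card_eq
      rw [h, Subgroup.card_bot] at hc
      have hpos : 0 < (Nat.card ↥D).factorization 2 := by
        apply Nat.Prime.factorization_pos_of_dvd Nat.prime_two (Nat.card_pos).ne' h2
      have : 2 ^ (Nat.card ↥D).factorization 2 ≥ 2 := by
        calc 2 ^ (Nat.card ↥D).factorization 2 ≥ 2 ^ 1 := Nat.pow_le_pow_right (by norm_num) hpos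
          _ = 2 := by norm_num
      omega
    have hPp : IsPGroup 2 ↥P := hPD.2.1
    have hPM : P ≤ M := hPD.1.trans inf_le_left
    have hPgM : cj g⁻¹ P ≤ M := by
      have : P ≤ cj g M := hPD.1.trans inf_le_right
      exact (cj_le_iff g⁻¹).mpr (by rw [inv_inv]; exact this)
    have hNP : Subgroup.normalizer (P : Set G) ≤ D := by
      refine le_inf (hN P hPp hPne hPM) ?_
      have hne' : cj g⁻¹ P ≠ ⊥ := by
        intro h
        apply hPne
        have := congrArg (cj g) h
        rw [cj_cj_inv] at this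
        rw [this]
        exact Subgroup.map_bot _
      have h3 := hN (cj g⁻¹ P) (hPp.map _) hne' hPgM
      rw [normalizer_cj] at h3
      have := (cj_le_iff g⁻¹).mp h3
      rwa [inv_inv] at this
    -- P is a Sylow 2-subgroup of M
    obtain ⟨S₁, hS₁, hPS₁⟩ := exists_isSylowIn_ge hPp hPM
    have hPS : P = S₁ := by
      by_contra hne
      have hnil : Group.IsNilpotent ↥S₁ := hS₁.2.1.isNilpotent
      obtain ⟨x, hxS, hxN, hxP⟩ := exists_mem_normalizer_not_mem hnil hPS₁ hne
      have hQp : IsPGroup 2 ↥(P ⊔ Subgroup.zpowers x) :=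
        hS₁.2.1.to_le (sup_le hPS₁ ((Subgroup.zpowers_le).mpr hxS))
      have hQD : P ⊔ Subgroup.zpowers x ≤ D := sup_le hPD.1 ((Subgroup.zpowers_le).mpr (hNP hxN))
      have := hPD.2.2 _ hQp le_sup_left hQD
      apply hxP
      rw [← this]
      exact (le_sup_right : Subgroup.zpowers x ≤ _) (Subgroup.mem_zpowers x)
    have hPSyl : IsSylowIn 2 P M := hPS ▸ hS₁
    have hPgSyl : IsSylowIn 2 (cj g⁻¹ P) M := by
      apply isSylowIn_of_card hPgM
      rw [card_cj]
      exact hPSyl.card_eq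
    obtain ⟨m, hmM, hm⟩ := hPgSyl.exists_conj hPSyl
    have hm' : P = cj (m * g⁻¹) P := by
      have : P = cj m (cj g⁻¹ P) := hm
      rwa [cj_cj] at this
    have h4 : m * g⁻¹ ∈ M := hN P hPp hPne hPM (mem_normalizer_iff_cj_eq.mpr hm'.symm)
    apply hgM
    have h5 : g⁻¹ ∈ M := by
      have := M.mul_mem (M.inv_mem hmM) h4
      simpa using this
    exact (Subgroup.inv_mem_iff M).mp h5

/-- Let G be a finite group of characteristic 2 type in which every 2-local subgroup is solvable and the centralizer of Ω₁(Z(S)) lies in N_G(S) for every Sylow 2-subgroup S; suppose O₂(G) = 1, fix a Sylow 2-subgroup S and a 2-local subgroup M containing N_G(J(S)) (J the Thompson subgroup generated by the elementary abelian 2-subgroups of largest order). Then M is strongly embedded in G (a proper subgroup of even order whose intersection with each conjugate by an element outside M has odd order) if and only if no nontrivial 2-subgroup of M lies in a 2-local subgroup of G not contained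 in M. -/
theorem result {G : Type*} [Group G] [Finite G] (hL : Cfsg.IsCharacteristicTwoType G) (hN : ∀ N : Subgroup G, Cfsg.IsTwoLocal N → Group.IsSolvable ↥N)
    (hZ : ∀ S : Sylow 2 G, Subgroup.centralizer (Cfsg.omegaCenterOf (S : Subgroup G) : Set G) ≤ Subgroup.normalizer ((S : Subgroup G) : Set G)) (hO : Cfsg.pCore 2 G = ⊥) (S : Sylow 2 G) (M : Subgroup G) (hM : Cfsg.IsTwoLocal M)
    (hMJ : Subgroup.normalizer (Cfsg.thompsonSubgroupOf 2 (S : Subgroup G) : Set G) ≤ M) :
    Cfsg.IsStronglyEmbedded M ↔ Cfsg.straddlingTwoSubgroups M = ∅ := by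
  exact ⟨forward, backward hO hM⟩

end Cfsg.Agent.S2947
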