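import Cfsg.Statements.S2950
import Cfsg.Agent.Lib.H15.JCV5
import Cfsg.Agent.Lib.H15.JCO2

set_option autoImplicit false
open Cfsg

namespace Cfsg.Agent.S2950

/-- Uniqueness of the maximal 2-local overgroup. Let G be a finite group of characteristic 2 type in which every 2-local subgroup is solvable and the centralizer of Ω₁(Z(S)) lies in N_G(S) for every Sylow 2-subgroup S; suppose O₂(G) = 1, fix a Sylow 2-subgroup S and a 2-local subgroup M containing N_G(J(S)) (J the Thompson subgroup generated by the elementary abelian 2-subgroups of largest order). Let T be maximal (for the order of a largest elementary abelian subgroup, then the order of J(T), then the order of T) among the nontrivial 2-subgroups of M lying in a 2-local subgroup not inside M, and let K be a J(T)-component not contained in M with J(T) the Thompson subgroup of every Sylow 2-subgroup of N_G(W_K) containing J(T), and O₂(⟨K, T⟩) ≠ 1. Then there is exactly one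 maximal 2-local subgroup L of G containing ⟨K, J(T)⟩; moreover K is subnormal in L and T is a Sylow 2-subgroup of L. -/
theorem result {G : Type*} [Group G] [Finite G] (hL : Cfsg.IsCharacteristicTwoType G) (hN : ∀ N : Subgroup G, Cfsg.IsTwoLocal N → Group.IsSolvable ↥N)
    (hZ : ∀ S : Sylow 2 G, Subgroup.centralizer (Cfsg.omegaCenterOf (S : Subgroup G) : Set G) ≤ Subgroup.normalizer ((S : Subgroup G) : Set G)) (hO : Cfsg.pCore 2 G = ⊥) (S : Sylow 2 G) (M : Subgroup G) (hM : Cfsg.IsTwoLocal M)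
    (hMJ : Subgroup.normalizer (Cfsg.thompsonSubgroupOf 2 (S : Subgroup G) : Set G) ≤ M) (T : Subgroup G) (hT : T ∈ Cfsg.maxStraddlingTwoSubgroups M)
    (K : Subgroup G) (hK : K ∈ Cfsg.jComponentsOutside M T) :
    ∃ L : Subgroup G, Cfsg.IsMaximalTwoLocal L ∧ K ⊔ Cfsg.thompsonSubgroupOf 2 T ≤ L ∧
      (∀ L' : Subgroup G, Cfsg.IsMaximalTwoLocal L' → K ⊔ Cfsg.thompsonSubgroupOf 2 T ≤ L' → L' = L) ∧
      (K.subgroupOf L).IsSubnormal ∧ Cfsg.IsSylowTwoIn T L := by
  haveI : Fact (Nat.Prime 2) := ⟨Nat.prime_two⟩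
  have E := Cfsg.Agent.Lib.H15.JC.Env.mk' hL hN hZ S hMJ hT
  obtain ⟨hK0, hKM, hO2⟩ := hK
  obtain ⟨W, hW2, hW1, hWH⟩ := E.exists_W hK0 hKM
  have hL2 : Cfsg.IsTwoLocal (Subgroup.normalizer (W : Set G)) :=
    Cfsg.Agent.Lib.H15.JC.isTwoLocal_normalizer hW2 hW1
  have hKJL : K ⊔ Cfsg.thompsonSubgroupOf 2 T ≤ Subgroup.normalizer (W : Set G) := by
    have hN₀2 := Cfsg.Agent.Lib.H15.JC.isTwoLocal_normalizer
      (Cfsg.Agent.Lib.H15.JC.wOf_isPGroup hK0.1) (Cfsg.Agent.Lib.H15.JC.LT.wOf_ne_bot hK0.1)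
    have h1 : K ⊔ Cfsg.thompsonSubgroupOf 2 T ≤ Subgroup.normalizer (Cfsg.wOf K : Set G) :=
      sup_le (Cfsg.Agent.Lib.H15.JC.le_normalizer_wOf hK0.1)
        (Cfsg.Agent.Lib.H15.JC.thompson_le_normalizer_wOf hK0.1)
    exact h1.trans (hWH _ hN₀2 h1)
  have hLmax : Cfsg.IsMaximalTwoLocal (Subgroup.normalizer (W : Set G)) :=
    ⟨hL2, fun N hN2 hLN => le_antisymm (hWH N hN2 (hKJL.trans hLN)) hLN⟩
  have hTL : T ≤ Subgroup.normalizer (W : Set G) := by
    have hP2 : IsPGroup 2 ↥(Cfsg.pCoreOf 2 (K ⊔ T)) := Cfsg.Agent.Lib.H15.pcoreOf_isPGroup 2 _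
    have hH₀2 := Cfsg.Agent.Lib.H15.JC.isTwoLocal_normalizer hP2 hO2
    have h1 : K ⊔ T ≤ Subgroup.normalizer (Cfsg.pCoreOf 2 (K ⊔ T) : Set G) :=
      Cfsg.Agent.Lib.H15.pcoreOf_normalized 2 _
    have h2 : K ⊔ Cfsg.thompsonSubgroupOf 2 T ≤ K ⊔ T :=
      sup_le_sup_left (Cfsg.Agent.Lib.H15.JC.thompson_le T) K
    exact (le_sup_right.trans h1).trans (hWH _ hH₀2 (h2.trans h1))
  have hKL : K ≤ Subgroup.normalizer (W : Set G) := le_sup_left.trans hKJL
  have hLM : ¬ Subgroup.normalizer (W : Set G) ≤ M := fun h => hKM (hKL.trans h)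
  have hLT : Subgroup.normalizer (W : Set G) ∈ Cfsg.jOvergroups T :=
    Cfsg.Agent.Lib.H15.JC.mem_jOvergroups_of_maxStraddling hL S hMJ hT hL2 hLM hTL
  refine ⟨Subgroup.normalizer (W : Set G), hLmax, hKJL, ?_, ?_, hLT.1⟩
  · intro L' hL' hKJL'
    have h1 : L' ≤ Subgroup.normalizer (W : Set G) := hWH L' hL'.1 hKJL'
    exact (hL'.2 _ hL2 h1).symm
  · have hlt := Cfsg.Agent.Lib.H15.JC.lt_of_mem_jOvergroups hN hZ hT.1.2.1 hLT
    exact hlt.isSubnormal_of_isJComponent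
      (Cfsg.Agent.Lib.H15.JC.isJComponent_subgroupOf hTL hKL hK0.1)


end Cfsg.Agent.S2950
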