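import Cfsg.Statements.S2955
import Cfsg.Agent.Lib.H15.SylowControl

set_option autoImplicit false
open Cfsg

namespace Cfsg.Agent.S2955

open Cfsg.Agent.Lib.H15 Cfsg.Agent.Lib.H5

/-- Let p be a prime dividing the order of the finite group G and 𝓕 a conjugation-closed family of subgroups that controls Sylow p-intersections in G. Suppose the Sylow p-subgroups of G are chain-connected: any two of them are joined by a chain of Sylow p-subgroups, consecutive ones distinct with nontrivial intersection, all containing the intersection of the two ends (equivalently, the graph on the Sylow p-subgroups whose edges are the distinct pairs meeting nontrivially is connected). Then for every Sylow p-subgroup S, G is generated by N_G(S) together with the members of 𝓕 that meet S in a Sylow p-subgroup of themselves. -/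
theorem result {G : Type*} [Group G] [Finite G] (p : ℕ) [Fact p.Prime] (hdiv : p ∣ Nat.card G)
    (𝓕 : Set (Subgroup G)) (h𝓕 : Cfsg.IsNormalSet 𝓕) (hc : Cfsg.ControlsSylowIntersections p 𝓕)
    (hconn : Cfsg.IsSylowChainConnected p G) (S : Sylow p G) :
    (⨆ X ∈ Cfsg.sylowMembers p 𝓕 (S : Subgroup G), X) ⊔ Subgroup.normalizer ((S : Subgroup G) : Set G) = ⊤ := by
  classical
  set H : Subgroup G :=
    (⨆ X ∈ Cfsg.sylowMembers p 𝓕 (S : Subgroup G), X) ⊔ Subgroup.normalizer ((S : Subgroup G) : Set G) with hH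
  have hXH : ∀ X ∈ Cfsg.sylowMembers p 𝓕 (S : Subgroup G), X ≤ H := by
    intro X hX
    exact le_trans (le_iSup₂ (f := fun (X : Subgroup G) (_ : X ∈ Cfsg.sylowMembers p 𝓕 (S : Subgroup G)) => X) X hX) le_sup_left
  have hNH : Subgroup.normalizer ((S : Subgroup G) : Set G) ≤ H := le_sup_right
  -- adjacency step
  have hstep : ∀ T T' : Sylow p G, (∃ h ∈ H, T = h • S) → sylAdj T T' → ∃ h ∈ H, T' = h • S := by
    rintro T T' ⟨h, hhH, rfl⟩ hadj
    have hadj' : sylAdj S (h⁻¹ • T') := by
      have := sylAdj_smul h⁻¹ hadj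
      rwa [inv_smul_smul] at this
    obtain ⟨n, c, X, x, hc0, hcn, hchain⟩ := hc S (h⁻¹ • T') hadj'.1 hadj'.2
    have hall : ∀ i : Fin (n + 1), ∃ k ∈ H, c i = k • S := by
      intro i
      induction i using Fin.induction with
      | zero => exact ⟨1, H.one_mem, by rw [hc0, one_smul]⟩
      | succ i ih =>
        obtain ⟨k, hkH, hk⟩ := ih
        obtain ⟨hX1, -, hxX, hconj, -⟩ := hchain i
        have hX1' : X i ∈ Cfsg.sylowMembers p 𝓕 (cj k (S : Subgroup G)) := by
          rw [← coe_smul_sylow_eq_cj, ← hk]; exact hX1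
        have hX2 := sylowMembers_conj h𝓕 k hX1'
        have hxH : x i ∈ H := by
          have h1 : k⁻¹ * x i * k⁻¹⁻¹ ∈ cj k⁻¹ (X i) := conj_mem_cj hxX
          have h2 := hXH _ hX2 h1
          have e : x i = k * (k⁻¹ * x i * k⁻¹⁻¹) * k⁻¹ := by group
          rw [e]
          exact H.mul_mem (H.mul_mem hkH h2) (H.inv_mem hkH)
        refine ⟨x i * k, H.mul_mem hxH hkH, ?_⟩
        apply Sylow.ext
        rw [coe_smul_sylow_eq_cj, ← cj_cj, ← coe_smul_sylow_eq_cj, ← hk, ← hconj, subgroupConjRight_eq_cj,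
          cj_cj_inv]
    obtain ⟨k, hkH, hk⟩ := hall (Fin.last n)
    rw [hcn] at hk
    refine ⟨h * k, H.mul_mem hhH hkH, ?_⟩
    rw [mul_smul, ← hk, smul_inv_smul]
  -- all Sylow subgroups are H-conjugate to S
  have hconn := isSylowChainConnected_iff.mp hconn
  have hall : ∀ T : Sylow p G, sylConn S T → ∃ h ∈ H, T = h • S := by
    intro T hT
    induction hT with
    | refl => exact ⟨1, H.one_mem, by rw [one_smul]⟩
    | tail _ hab ih => exact hstep _ _ ih hab
  rw [eq_top_iff]
  intro g _
  obtain ⟨h, hhH, hh⟩ := hall (g • S) (hconn S (g • S))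
  have h1 : (h⁻¹ * g) • S = S := by
    rw [mul_smul, hh, inv_smul_smul]
  have h2 : h⁻¹ * g ∈ H := hNH (Sylow.smul_eq_iff_mem_normalizer.mp h1)
  have e : g = h * (h⁻¹ * g) := by group
  rw [e]
  exact H.mul_mem hhH h2


end Cfsg.Agent.S2955
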