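import Cfsg.Statements.S2957
import Cfsg.Agent.Lib.H22.FunctorRegular
-- import your own Cfsg.Agent.* helpers here

set_option autoImplicit false
open Cfsg

namespace Cfsg.Agent.S2957
open Cfsg.Agent.Lib.H22.FunctorRegular

/-- Let p be a prime dividing the order of the finite group G, f an equivariant assignment of a set of subgroups f(P) of P to every p-subgroup P, each normalized by N_G(P), and S a Sylow p-subgroup. If G = G₁G₂ for subgroups G₁, G₂ both containing S and both regular for f (in each Gᵢ, the family of normalizers in Gᵢ of the members of f(P), P a Sylow p-subgroup of Gᵢ, controls Sylow p-intersections), then G itself is regular for f. -/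
theorem result {G : Type*} [Group G] [Finite G] (p : ℕ) [Fact p.Prime] (hdiv : p ∣ Nat.card G)
    (f : Subgroup G → Set (Subgroup G)) (hf : Cfsg.IsNormalizerFunctor p f) (S : Sylow p G)
    (G₁ G₂ : Subgroup G) (h₁ : (S : Subgroup G) ≤ G₁) (h₂ : (S : Subgroup G) ≤ G₂)
    (hprod : ∀ g : G, ∃ g₁ ∈ G₁, ∃ g₂ ∈ G₂, g = g₁ * g₂)
    (hr₁ : Cfsg.IsFunctorRegular p f G₁) (hr₂ : Cfsg.IsFunctorRegular p f G₂) :
    Cfsg.IsFunctorRegular p f ⊤ := by
  intro S' T' hne hD
  have hS : IsSyl p (S : Subgroup G) := isSyl_coe p S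
  have hA : IsSyl p ((S' : Subgroup ↥(⊤ : Subgroup G)).map (⊤ : Subgroup G).subtype) :=
    isSyl_amb hS le_top S'
  have hB : IsSyl p ((T' : Subgroup ↥(⊤ : Subgroup G)).map (⊤ : Subgroup G).subtype) :=
    isSyl_amb hS le_top T'
  have hmap : ((S' : Subgroup ↥(⊤ : Subgroup G)) ⊓ (T' : Subgroup ↥(⊤ : Subgroup G))).map
      (⊤ : Subgroup G).subtype =
      (S' : Subgroup ↥(⊤ : Subgroup G)).map (⊤ : Subgroup G).subtype ⊓
        (T' : Subgroup ↥(⊤ : Subgroup G)).map (⊤ : Subgroup G).subtype :=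
    Subgroup.map_inf _ _ _ (⊤ : Subgroup G).subtype_injective
  have hDne : (S' : Subgroup ↥(⊤ : Subgroup G)).map (⊤ : Subgroup G).subtype ⊓
      (T' : Subgroup ↥(⊤ : Subgroup G)).map (⊤ : Subgroup G).subtype ≠ ⊥ := by
    intro h
    apply hD
    rw [← hmap] at h
    exact (Subgroup.map_eq_bot_iff_of_injective _ (⊤ : Subgroup G).subtype_injective).mp h
  have key := main_ac hf hS h₁ h₂ hprod hr₁ hr₂ hA hB hDne
  obtain ⟨n, c, X, x, hc0, hcl, hall⟩ := data_of_ac hf key S' T' rfl rfl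
  refine ⟨n, c, X, x, hc0, hcl, fun i => ?_⟩
  obtain ⟨a1, a2, a3, a4, a5⟩ := hall i
  refine ⟨a1, a2, a3, a4, ?_⟩
  intro y hy
  apply a5
  rw [Subgroup.mem_subgroupOf, ← hmap]
  exact ⟨y, hy, rfl⟩

end Cfsg.Agent.S2957
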