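import Cfsg.Statements.S2958

set_option autoImplicit false
open Cfsg

namespace Cfsg.Agent.S2958

theorem map_conj_map_conj {G : Type*} [Group G] (X : Subgroup G) (g h : G) :
    (X.map (MulAut.conj h).toMonoidHom).map (MulAut.conj g).toMonoidHom
      = X.map (MulAut.conj (g * h)).toMonoidHom := by
  rw [Subgroup.map_map]
  congr 1
  ext x
  simp [mul_assoc]

/-- Let X, A, B be subgroups of a group G such that G is generated by the conjugates of X and every conjugate of X is contained in A or in B. Then A = G or B = G. -/
theorem result {G : Type*} [Group G] (X A B : Subgroup G) (hgen : (⨆ g : G, X.map (MulAut.conj g).toMonoidHom) = ⊤) (hcover : ∀ g : G, X.map (MulAut.conj g).toMonoidHom ≤ A ∨ X.map (MulAut.conj g).toMonoidHom ≤ B) : A = ⊤ ∨ B = ⊤ := by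
  classical
  by_cases hall : ∀ g : G, X.map (MulAut.conj g).toMonoidHom ≤ A
  · left
    rw [eq_top_iff, ← hgen]
    exact iSup_le hall
  · right
    simp only [not_forall] at hall
    obtain ⟨g₀, hg₀⟩ := hall
    -- W is generated by the conjugates not contained in A
    set W : Subgroup G := ⨆ g : {g : G // ¬ X.map (MulAut.conj g).toMonoidHom ≤ A},
      X.map (MulAut.conj (g : G)).toMonoidHom with hW
    have hWB : W ≤ B := by
      refine iSup_le ?_
      rintro ⟨g, hg⟩
      exact (hcover g).resolve_left hg
    have hWle : ∀ g : G, ¬ X.map (MulAut.conj g).toMonoidHom ≤ A →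
        X.map (MulAut.conj g).toMonoidHom ≤ W := fun g hg =>
      le_iSup (fun g : {g : G // ¬ X.map (MulAut.conj g).toMonoidHom ≤ A} =>
        X.map (MulAut.conj (g : G)).toMonoidHom) ⟨g, hg⟩
    -- elements of A map W into W
    have hAW : ∀ a ∈ A, W.map (MulAut.conj a).toMonoidHom ≤ W := by
      intro a ha
      rw [hW, Subgroup.map_iSup]
      refine iSup_le ?_
      rintro ⟨g, hg⟩
      rw [map_conj_map_conj]
      apply hWle
      intro hle
      apply hg
      have : (X.map (MulAut.conj (a * g)).toMonoidHom).map (MulAut.conj a⁻¹).toMonoidHom ≤ A := by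
        rintro _ ⟨y, hy, rfl⟩
        have hyA := hle hy
        simp only [MulEquiv.coe_toMonoidHom, MulAut.conj_apply, inv_inv]
        exact A.mul_mem (A.mul_mem (A.inv_mem ha) hyA) ha
      rw [map_conj_map_conj] at this
      simpa using this
    have hWW : ∀ w ∈ W, W.map (MulAut.conj w).toMonoidHom ≤ W := by
      intro w hw
      rintro _ ⟨y, hy, rfl⟩
      simp only [MulEquiv.coe_toMonoidHom, MulAut.conj_apply]
      exact W.mul_mem (W.mul_mem hw hy) (W.inv_mem hw)
    -- every element of G maps W into W
    have hNW : ∀ x : G, W.map (MulAut.conj x).toMonoidHom ≤ W := by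
      intro x
      have hx : x ∈ ⨆ g : G, X.map (MulAut.conj g).toMonoidHom := by rw [hgen]; trivial
      refine Subgroup.iSup_induction (S := fun g : G => X.map (MulAut.conj g).toMonoidHom)
        (C := fun x => W.map (MulAut.conj x).toMonoidHom ≤ W) hx ?_ ?_ ?_
      · intro g y hy
        by_cases hgA : X.map (MulAut.conj g).toMonoidHom ≤ A
        · exact hAW y (hgA hy)
        · exact hWW y (hWle g hgA hy)
      · show W.map (MulAut.conj (1 : G)).toMonoidHom ≤ W
        rintro _ ⟨y, hy, rfl⟩
        simpa using hy
      · intro y z hy hz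
        rw [← map_conj_map_conj]
        exact (Subgroup.map_mono hz).trans hy
    have hall : ∀ g : G, X.map (MulAut.conj g).toMonoidHom ≤ W := by
      intro g
      have h1 : X.map (MulAut.conj g).toMonoidHom
          = (X.map (MulAut.conj g₀).toMonoidHom).map (MulAut.conj (g * g₀⁻¹)).toMonoidHom := by
        rw [map_conj_map_conj]; simp
      rw [h1]
      exact (Subgroup.map_mono (hWle g₀ hg₀)).trans (hNW _)
    rw [eq_top_iff, ← hgen]
    exact (iSup_le hall).trans hWB

end Cfsg.Agent.S2958
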