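import Cfsg.Statements.S2960
import Cfsg.Agent.Lib.H15.PPrime
import Cfsg.Agent.Lib.H15.Conj
import Cfsg.Agent.Lib.H1.PCore
import Cfsg.Agent.Lib.H7.Coprime

set_option autoImplicit false
open Cfsg

namespace Cfsg.Agent.S2960

open Cfsg.Agent.Lib.H15

theorem le_normalizer_of_normal' {G : Type*} [Group G] {P : Subgroup G} (hP : P.Normal) (H : Subgroup G) :
    H ≤ Subgroup.normalizer (P : Set G) := by
  intro g _
  rw [Subgroup.mem_normalizer_iff]
  intro x
  constructor
  · intro hx; exact hP.conj_mem x hx g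
  · intro hx
    have := hP.conj_mem _ hx g⁻¹
    simpa [mul_assoc] using this

theorem normalizer_le_normalizer_centralizer' {G : Type*} [Group G] (Q : Subgroup G) :
    Subgroup.normalizer (Q : Set G) ≤ Subgroup.normalizer ((Subgroup.centralizer (Q : Set G) : Subgroup G) : Set G) := by
  intro g hg
  rw [mem_normalizer_iff_cj_eq] at hg ⊢
  rw [← centralizer_cj, hg]

/-- The statement in a form that can be reused. -/
theorem centralizer_le {G : Type*} [Group G] [Finite G] {p : ℕ} [Fact p.Prime]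
    (hG : Subgroup.centralizer (Cfsg.pCore p G : Set G) ≤ Cfsg.pCore p G) (T : Sylow p G)
    (Q : Subgroup G) (hQT : Q ≤ (T : Subgroup G))
    (hQn : (T : Subgroup G) ≤ Subgroup.normalizer (Q : Set G))
    (hC : (T : Subgroup G) ⊓ Subgroup.centralizer (Q : Set G) ≤ Q) :
    Subgroup.centralizer (Q : Set G) ≤ Q := by
  have hPn : (Cfsg.pCore p G).Normal := Cfsg.Agent.Lib.H1.pCore_normal p G
  have hPp : IsPGroup p ↥(Cfsg.pCore p G) := Cfsg.Agent.Lib.H1.pCore_isPGroup p G
  have hPT : Cfsg.pCore p G ≤ (T : Subgroup G) := Cfsg.Agent.Lib.H1.pCore_le_sylow T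
  have hQp : IsPGroup p ↥Q := T.isPGroup'.to_le hQT
  have hCp : IsPGroup p ↥(Subgroup.centralizer (Q : Set G)) := by
    apply isPGroup_of_forall_coprime_eq_one
    intro c hc hcop
    have hA : (Nat.card ↥(Subgroup.zpowers c)).Coprime p := coprime_card_of_coprime_orderOf hcop
    have hAQ' : Subgroup.zpowers c ≤ Subgroup.centralizer (Q : Set G) := (Subgroup.zpowers_le).mpr hc
    have hAB : ⁅Subgroup.zpowers c, Q⁆ = ⊥ := Subgroup.commutator_eq_bot_iff_le_centralizer.mpr hAQ'
    have hCC : ⁅Subgroup.zpowers c, Cfsg.pCore p G ⊓ Subgroup.centralizer (Q : Set G)⁆ = ⊥ := by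
      rw [eq_bot_iff, ← hAB]
      exact Subgroup.commutator_mono le_rfl ((inf_le_inf_right _ hPT).trans hC)
    have h1 := Cfsg.Agent.Lib.H7.thompson_AxB' p hPp hQp hA hAB
      (le_normalizer_of_normal' hPn _) (le_normalizer_of_normal' hPn _) hCC
    have h2 : Subgroup.zpowers c ≤ Subgroup.centralizer (Cfsg.pCore p G : Set G) :=
      Subgroup.commutator_eq_bot_iff_le_centralizer.mp h1
    have h3 : c ∈ Cfsg.pCore p G := hG (h2 (Subgroup.mem_zpowers c))
    exact eq_one_of_mem_pgroup_of_coprime hPp h3 hcop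
  have h4 : Subgroup.centralizer (Q : Set G) ≤ (T : Subgroup G) :=
    le_sylow_of_normalized T hCp (hQn.trans (normalizer_le_normalizer_centralizer' Q))
  exact (le_inf h4 le_rfl).trans hC

/-- Let G be a finite group of characteristic p (C_G(O_p(G)) ≤ O_p(G)), p prime, T a Sylow p-subgroup of G and Q a normal subgroup of T with C_T(Q) ≤ Q. Then C_G(Q) ≤ Q. -/
theorem result {G : Type*} [Group G] [Finite G] {p : ℕ} [Fact p.Prime] (hG : Subgroup.centralizer (Cfsg.pCore p G : Set G) ≤ Cfsg.pCore p G) (T : Sylow p G) (Q : Subgroup G) (hQT : Q ≤ (T : Subgroup G)) (hQn : (T : Subgroup G) ≤ Subgroup.normalizer (Q : Set G)) (hC : (T : Subgroup G) ⊓ Subgroup.centralizer (Q : Set G) ≤ Q) : Subgroup.centralizer (Q : Set G) ≤ Q := by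
  exact centralizer_le hG T Q hQT hQn hC

end Cfsg.Agent.S2960
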