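import Cfsg.Statements.S2961
import Cfsg.Agent.S2960
import Cfsg.Agent.Lib.H15.PCoreOf

set_option autoImplicit false
open Cfsg

namespace Cfsg.Agent.S2961

open Cfsg.Agent.Lib.H15

/-- `L` normalizes `C_L(O_p(L))`. -/
theorem le_normalizer_K {G : Type*} [Group G] [Finite G] (p : ℕ) [Fact p.Prime] (L : Subgroup G) :
    L ≤ Subgroup.normalizer ((L ⊓ Subgroup.centralizer (Cfsg.pCoreOf p L : Set G) : Subgroup G) : Set G) := by
  intro l hl
  apply mem_normalizer_of_cj_le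
  intro y hy
  rw [mem_cj_iff] at hy
  refine Subgroup.mem_inf.mpr ⟨?_, ?_⟩
  · have := L.mul_mem (L.mul_mem hl hy.1) (L.inv_mem hl)
    have h2 : l * (l⁻¹ * y * l) * l⁻¹ = y := by group
    rwa [h2] at this
  · have h1 : cj l (Cfsg.pCoreOf p L) = Cfsg.pCoreOf p L :=
      mem_normalizer_iff_cj_eq.mp (pcoreOf_normalized p L hl)
    have h2 : y ∈ cj l (Subgroup.centralizer (Cfsg.pCoreOf p L : Set G)) := mem_cj_iff.mpr hy.2
    rw [← centralizer_cj, h1] at h2
    exact h2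

/-- The subgroup of `L` acting trivially on `P` modulo `R`. -/
def stab {G : Type*} [Group G] (L P R : Subgroup G)
    (hLR : L ≤ Subgroup.normalizer (R : Set G)) : Subgroup G where
  carrier := {u | u ∈ L ∧ ∀ y ∈ P, u * y * u⁻¹ * y⁻¹ ∈ R}
  mul_mem' := by
    rintro u v ⟨hu, hu'⟩ ⟨hv, hv'⟩
    refine ⟨L.mul_mem hu hv, ?_⟩
    intro y hy
    have h1 : u * (v * y * v⁻¹ * y⁻¹) * u⁻¹ ∈ R :=
      (Subgroup.mem_normalizer_iff.mp (hLR hu) _).mp (hv' y hy)
    have h2 : u * v * y * (u * v)⁻¹ * y⁻¹ = u * (v * y * v⁻¹ * y⁻¹) * u⁻¹ * (u * y * u⁻¹ * y⁻¹) := by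
      group
    rw [h2]
    exact R.mul_mem h1 (hu' y hy)
  one_mem' := by
    refine ⟨L.one_mem, ?_⟩
    intro y _
    have : (1 : G) * y * 1⁻¹ * y⁻¹ = 1 := by group
    rw [this]; exact R.one_mem
  inv_mem' := by
    rintro u ⟨hu, hu'⟩
    refine ⟨L.inv_mem hu, ?_⟩
    intro y hy
    have h1 : u⁻¹ * (u * y * u⁻¹ * y⁻¹)⁻¹ * u⁻¹⁻¹ ∈ R :=
      (Subgroup.mem_normalizer_iff.mp (hLR (L.inv_mem hu)) _).mp (R.inv_mem (hu' y hy))
    have h2 : u⁻¹ * y * u⁻¹⁻¹ * y⁻¹ = u⁻¹ * (u * y * u⁻¹ * y⁻¹)⁻¹ * u⁻¹⁻¹ := by group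
    rw [h2]; exact h1

theorem mem_stab {G : Type*} [Group G] {L P R : Subgroup G}
    {hLR : L ≤ Subgroup.normalizer (R : Set G)} {u : G} :
    u ∈ stab L P R hLR ↔ u ∈ L ∧ ∀ y ∈ P, u * y * u⁻¹ * y⁻¹ ∈ R := Iff.rfl

theorem stab_conj {G : Type*} [Group G] {L P R : Subgroup G}
    {hLR : L ≤ Subgroup.normalizer (R : Set G)} (hPn : P.Normal) {l u : G} (hl : l ∈ L)
    (hu : u ∈ stab L P R hLR) : l * u * l⁻¹ ∈ stab L P R hLR := by
  rw [mem_stab] at hu ⊢
  refine ⟨L.mul_mem (L.mul_mem hl hu.1) (L.inv_mem hl), ?_⟩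
  intro y hy
  have hy' : l⁻¹ * y * l ∈ P := by
    have := hPn.conj_mem y hy l⁻¹
    simpa using this
  have h1 : l * (u * (l⁻¹ * y * l) * u⁻¹ * (l⁻¹ * y * l)⁻¹) * l⁻¹ ∈ R :=
    (Subgroup.mem_normalizer_iff.mp (hLR hl) _).mp (hu.2 _ hy')
  have h2 : l * u * l⁻¹ * y * (l * u * l⁻¹)⁻¹ * y⁻¹
      = l * (u * (l⁻¹ * y * l) * u⁻¹ * (l⁻¹ * y * l)⁻¹) * l⁻¹ := by group
  rw [h2]; exact h1

theorem main {G : Type*} [Group G] [Finite G] {p : ℕ} [Fact p.Prime]
    (hG : Subgroup.centralizer (Cfsg.pCore p G : Set G) ≤ Cfsg.pCore p G) (T : Sylow p G)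
    (Q : Subgroup G) (hQT : Q ≤ (T : Subgroup G))
    (hQn : (T : Subgroup G) ≤ Subgroup.normalizer (Q : Set G))
    (hC : (T : Subgroup G) ⊓ Subgroup.centralizer (Q : Set G) ≤ Q) (L : Subgroup G) (hQL : Q ≤ L) :
    L ⊓ Subgroup.centralizer (Cfsg.pCoreOf p L : Set G) ≤ Cfsg.pCoreOf p L := by
  have hPn : (Cfsg.pCore p G).Normal := Cfsg.Agent.Lib.H1.pCore_normal p G
  have hPp : IsPGroup p ↥(Cfsg.pCore p G) := Cfsg.Agent.Lib.H1.pCore_isPGroup p G
  have hPT : Cfsg.pCore p G ≤ (T : Subgroup G) := Cfsg.Agent.Lib.H1.pCore_le_sylow T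
  have hQp : IsPGroup p ↥Q := T.isPGroup'.to_le hQT
  have hCQ := Cfsg.Agent.S2960.centralizer_le hG T Q hQT hQn hC
  set P := Cfsg.pCore p G with hP
  set R := Cfsg.pCoreOf p L with hR
  have hRp : IsPGroup p ↥R := pcoreOf_isPGroup p L
  have hLR : L ≤ Subgroup.normalizer (R : Set G) := pcoreOf_normalized p L
  have hLK := le_normalizer_K p L
  -- P ⊓ L ≤ R
  have hPLR : P ⊓ L ≤ R := by
    apply le_pcoreOf inf_le_right _ (hPp.to_le inf_le_left)
    intro l hl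
    rw [Subgroup.mem_normalizer_iff]
    intro x
    constructor
    · rintro ⟨hxP, hxL⟩
      exact ⟨hPn.conj_mem x hxP l, L.mul_mem (L.mul_mem hl hxL) (L.inv_mem hl)⟩
    · rintro ⟨hxP, hxL⟩
      refine ⟨?_, ?_⟩
      · have := hPn.conj_mem _ hxP l⁻¹
        simpa [mul_assoc] using this
      · have := L.mul_mem (L.mul_mem (L.inv_mem hl) hxL) hl
        simpa [mul_assoc] using this
  -- Q ≤ stab
  have hQS : Q ≤ stab L P R hLR := by
    intro q hq
    rw [mem_stab]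
    refine ⟨hQL hq, ?_⟩
    intro y hy
    apply hPLR
    refine Subgroup.mem_inf.mpr ⟨?_, ?_⟩
    · exact P.mul_mem (hPn.conj_mem y hy q) (P.inv_mem hy)
    · have h1 : y * q⁻¹ * y⁻¹ ∈ Q :=
        (Subgroup.mem_normalizer_iff.mp (hQn (hPT hy)) _).mp (Q.inv_mem hq)
      have h2 : q * y * q⁻¹ * y⁻¹ = q * (y * q⁻¹ * y⁻¹) := by group
      rw [h2]
      exact hQL (Q.mul_mem hq h1)
  -- stab ⊓ K is a p-group
  have hSKp : IsPGroup p ↥(stab L P R hLR ⊓ (L ⊓ Subgroup.centralizer (R : Set G))) := by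
    apply isPGroup_of_forall_coprime_eq_one
    intro c hc hcop
    obtain ⟨n, hn⟩ := IsPGroup.iff_card.mp hRp
    have hcop' : (orderOf c).Coprime (Nat.card ↥R) := by rw [hn]; exact Nat.Coprime.pow_right n hcop
    have h1 : ∀ q ∈ P, c * q = q * c := by
      apply Cfsg.Agent.Lib.H7.commute_of_stable_step (R := R) hcop'
      · intro q hq
        exact (mem_stab.mp hc.1).2 q hq
      · intro r hr
        exact ((Subgroup.mem_centralizer_iff.mp hc.2.2) r hr).symm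
    have h2 : c ∈ P := by
      apply hG
      rw [Subgroup.mem_centralizer_iff]
      intro q hq
      exact (h1 q hq).symm
    exact eq_one_of_mem_pgroup_of_coprime hPp h2 hcop
  have hSKR : stab L P R hLR ⊓ (L ⊓ Subgroup.centralizer (R : Set G)) ≤ R := by
    apply le_pcoreOf (inf_le_right.trans inf_le_left) _ hSKp
    intro l hl
    apply mem_normalizer_of_cj_le
    intro y hy
    rw [mem_cj_iff] at hy
    have h2 : l * (l⁻¹ * y * l) * l⁻¹ = y := by group
    refine Subgroup.mem_inf.mpr ⟨?_, ?_⟩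
    · have := stab_conj hPn hl hy.1
      rwa [h2] at this
    · have := (Subgroup.mem_normalizer_iff.mp (hLK hl) _).mp hy.2
      rwa [h2] at this
  -- K is a p-group
  have hKp : IsPGroup p ↥(L ⊓ Subgroup.centralizer (R : Set G)) := by
    apply isPGroup_of_forall_coprime_eq_one
    intro c hc hcop
    obtain ⟨n, hn⟩ := IsPGroup.iff_card.mp hRp
    have hcQ : c ∈ Subgroup.centralizer (Q : Set G) := by
      rw [Subgroup.mem_centralizer_iff]
      intro q hq
      set d := c * q * c⁻¹ * q⁻¹ with hd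
      have hdS : d ∈ stab L P R hLR :=
        Subgroup.mul_mem _ (stab_conj hPn hc.1 (hQS hq)) (Subgroup.inv_mem _ (hQS hq))
      have hdK : d ∈ L ⊓ Subgroup.centralizer (R : Set G) := by
        have h1 : q * c⁻¹ * q⁻¹ ∈ L ⊓ Subgroup.centralizer (R : Set G) :=
          (Subgroup.mem_normalizer_iff.mp (hLK (hQL hq)) _).mp (Subgroup.inv_mem _ hc)
        have h2 : d = c * (q * c⁻¹ * q⁻¹) := by rw [hd]; group
        rw [h2]
        exact Subgroup.mul_mem _ hc h1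
      have hdR : d ∈ R := hSKR ⟨hdS, hdK⟩
      have hdm : d ^ Nat.card ↥R = 1 := by
        have := pow_card_eq_one' (x := (⟨d, hdR⟩ : ↥R))
        exact congrArg Subtype.val this
      have hcop' : (orderOf c).Coprime (Nat.card ↥R) := by
        rw [hn]; exact Nat.Coprime.pow_right n hcop
      have hz : c * q * c⁻¹ = d * q := by rw [hd]; group
      have hcd : c * d = d * c := ((Subgroup.mem_centralizer_iff.mp hc.2) d hdR).symm
      have hd1 : d = 1 :=
        Cfsg.Agent.Lib.H7.eq_one_of_conj_eq_mul (pow_orderOf_eq_one c) hdm hcop' hz hcd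
      rw [hd1, one_mul] at hz
      calc q * c = (c * q * c⁻¹) * c := by rw [hz]
        _ = c * q := by group
    exact eq_one_of_mem_pgroup_of_coprime hQp (hCQ hcQ) hcop
  exact le_pcoreOf inf_le_left hLK hKp

/-- Let G be a finite group of characteristic p (C_G(O_p(G)) ≤ O_p(G)), p prime, T a Sylow p-subgroup of G and Q a normal subgroup of T with C_T(Q) ≤ Q. Then every subgroup L of G containing Q has characteristic p: C_L(O_p(L)) ≤ O_p(L). -/
theorem result {G : Type*} [Group G] [Finite G] {p : ℕ} [Fact p.Prime] (hG : Subgroup.centralizer (Cfsg.pCore p G : Set G) ≤ Cfsg.pCore p G) (T : Sylow p G) (Q : Subgroup G) (hQT : Q ≤ (T : Subgroup G)) (hQn : (T : Subgroup G) ≤ Subgroup.normalizer (Q : Set G)) (hC : (T : Subgroup G) ⊓ Subgroup.centralizer (Q : Set G) ≤ Q) (L : Subgroup G) (hQL : Q ≤ L) : Subgroup.centralizer (Cfsg.pCore p ↥L : Set ↥L) ≤ Cfsg.pCore p ↥L := by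
  rw [hasCharP_iff]
  exact main hG T Q hQT hQn hC L hQL

end Cfsg.Agent.S2961
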