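import Cfsg.Statements.S2963


set_option autoImplicit false
open Cfsg

namespace Cfsg.Agent.S2963


/-- Let n be odd. If the symmetric group of degree n is a minimal parabolic group for the prime 2, that is, a Sylow 2-subgroup is not normal and lies in exactly one maximal subgroup, then n = 2^m + 1 for some natural number m. -/
theorem result (n : ℕ) (hn : Odd n) (h : Cfsg.IsPMinimal 2 (Equiv.Perm (Fin n))) : ∃ m : ℕ, n = 2 ^ m + 1 := by
  classical
  haveI : Fact (Nat.Prime 2) := ⟨Nat.prime_two⟩
  obtain ⟨S⟩ : Nonempty (Sylow 2 (Equiv.Perm (Fin n))) := inferInstance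
  obtain ⟨hSn, M, ⟨hMco, hSM⟩, hMuniq⟩ := h S
  have hS2 : IsPGroup 2 ↥(S : Subgroup (Equiv.Perm (Fin n))) := S.2
  -- a fixed point
  have hnd : ¬ 2 ∣ Nat.card (Fin n) := by
    rw [Nat.card_eq_fintype_card, Fintype.card_fin]
    exact fun h2 => (Nat.not_even_iff_odd.mpr hn) (even_iff_two_dvd.mpr h2)
  obtain ⟨x, hx⟩ := hS2.nonempty_fixed_point_of_prime_not_dvd_card (Fin n) hnd
  have hxfix : ∀ s ∈ (S : Subgroup (Equiv.Perm (Fin n))), s x = x := by
    intro s hs
    exact hx ⟨s, hs⟩
  -- every proper subgroup containing S lies in M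
  have hleM : ∀ H : Subgroup (Equiv.Perm (Fin n)), (S : Subgroup (Equiv.Perm (Fin n))) ≤ H → H ≠ ⊤ → H ≤ M := by
    intro H hSH hH
    rcases eq_top_or_exists_le_coatom H with h1 | ⟨A, hA, hHA⟩
    · exact absurd h1 hH
    · have : A = M := hMuniq A ⟨hA, hSH.trans hHA⟩
      rw [← this]; exact hHA
  -- there is a point other than x
  obtain ⟨y, hyx⟩ : ∃ y : Fin n, y ≠ x := by
    by_contra hall
    push Not at hall
    apply hSn
    have hsub : Subsingleton (Equiv.Perm (Fin n)) := by
      constructor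
      intro a b
      ext i
      rw [hall (a i), hall (b i)]
    constructor
    intro s hs g
    have : g * s * g⁻¹ = s := Subsingleton.elim _ _
    rw [this]; exact hs
  -- the orbit of y under S
  let B : Set (Fin n) := {b | ∃ s ∈ (S : Subgroup (Equiv.Perm (Fin n))), s y = b}
  have hyB : y ∈ B := ⟨1, Subgroup.one_mem _, rfl⟩
  have hxB : x ∉ B := by
    rintro ⟨s, hs, hsy⟩
    apply hyx
    have h1 : s x = x := hxfix s hs
    exact s.injective (hsy.trans h1.symm)
  by_cases htrans : ∀ z : Fin n, z ≠ x → z ∈ B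
  · -- transitive: n - 1 is a power of 2
    have hBeq : B = (MulAction.orbit ↥(S : Subgroup (Equiv.Perm (Fin n))) y : Set (Fin n)) := by
      ext b
      constructor
      · rintro ⟨s, hs, rfl⟩
        exact ⟨⟨s, hs⟩, rfl⟩
      · rintro ⟨⟨s, hs⟩, rfl⟩
        exact ⟨s, hs, rfl⟩
    obtain ⟨m, hm⟩ := hS2.card_orbit y
    refine ⟨m, ?_⟩
    have hBcompl : B = {x}ᶜ := by
      ext z
      simp only [Set.mem_compl_iff, Set.mem_singleton_iff]
      constructor
      · intro hz hzx
        rw [hzx] at hz; exact hxB hz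
      · exact htrans z
    have hcard : Nat.card B = n - 1 := by
      rw [hBcompl, Nat.card_coe_set_eq, Set.ncard_compl, Set.ncard_singleton, Nat.card_eq_fintype_card, Fintype.card_fin]
    rw [hBeq] at hcard
    rw [hcard] at hm
    have hn1 : 1 ≤ n := by
      rcases hn with ⟨k, hk⟩
      omega
    omega
  · exfalso
    push Not at htrans
    obtain ⟨z, hzx, hzB⟩ := htrans
    -- H₁ = stabilizer of x, H₂ = setwise stabilizer of B
    let H₁ : Subgroup (Equiv.Perm (Fin n)) := MulAction.stabilizer (Equiv.Perm (Fin n)) x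
    let H₂ : Subgroup (Equiv.Perm (Fin n)) :=
      { carrier := {σ | ∀ b, b ∈ B ↔ σ b ∈ B}
        one_mem' := fun b => Iff.rfl
        mul_mem' := by
          intro σ τ hσ hτ b
          rw [Equiv.Perm.mul_apply, ← hσ, ← hτ]
        inv_mem' := by
          intro σ hσ b
          have e : σ (σ⁻¹ b) = b := (Equiv.eq_symm_apply σ).mp rfl
          rw [hσ (σ⁻¹ b), e] }
    have hSH₁ : (S : Subgroup (Equiv.Perm (Fin n))) ≤ H₁ := by
      intro s hs
      exact MulAction.mem_stabilizer_iff.mpr (hxfix s hs)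
    have hSH₂ : (S : Subgroup (Equiv.Perm (Fin n))) ≤ H₂ := by
      intro s hs b
      constructor
      · rintro ⟨t, ht, rfl⟩
        exact ⟨s * t, Subgroup.mul_mem _ hs ht, rfl⟩
      · rintro ⟨t, ht, htb⟩
        refine ⟨s⁻¹ * t, Subgroup.mul_mem _ (Subgroup.inv_mem _ hs) ht, ?_⟩
        rw [Equiv.Perm.mul_apply, htb]
        exact Equiv.Perm.inv_eq_iff_eq.mpr rfl
    have hH₁ : H₁ ≠ ⊤ := by
      intro htop
      have : Equiv.swap x y ∈ H₁ := by rw [htop]; exact Subgroup.mem_top _
      have h1 : Equiv.swap x y x = x := MulAction.mem_stabilizer_iff.mp this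
      rw [Equiv.swap_apply_left] at h1
      exact hyx h1
    have hH₂ : H₂ ≠ ⊤ := by
      intro htop
      have : Equiv.swap x y ∈ H₂ := by rw [htop]; exact Subgroup.mem_top _
      have h1 := (this y).mp hyB
      rw [Equiv.swap_apply_right] at h1
      exact hxB h1
    have h₁M := hleM H₁ hSH₁ hH₁
    have h₂M := hleM H₂ hSH₂ hH₂
    apply hMco.1
    rw [eq_top_iff, ← Equiv.Perm.closure_isSwap, Subgroup.closure_le]
    -- every swap lies in M
    have hswap₁ : ∀ a b : Fin n, a ≠ x → b ≠ x → Equiv.swap a b ∈ M := by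
      intro a b ha hb
      apply h₁M
      apply MulAction.mem_stabilizer_iff.mpr
      exact Equiv.swap_apply_of_ne_of_ne ha.symm hb.symm
    have hxz : Equiv.swap x z ∈ M := by
      apply h₂M
      intro b
      by_cases hbx : b = x
      · rw [hbx, Equiv.swap_apply_left]
        exact ⟨fun h => absurd h hxB, fun h => absurd h hzB⟩
      · by_cases hbz : b = z
        · rw [hbz, Equiv.swap_apply_right]
          exact ⟨fun h => absurd h hzB, fun h => absurd h hxB⟩
        · rw [Equiv.swap_apply_of_ne_of_ne hbx hbz]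
    have hswapx : ∀ b : Fin n, b ≠ x → Equiv.swap x b ∈ M := by
      intro b hb
      by_cases hbz : b = z
      · rw [hbz]; exact hxz
      · have e : Equiv.swap x b = Equiv.swap z b * Equiv.swap x z * Equiv.swap z b := by
          have := Equiv.swap_mul_swap_mul_swap (x := x) (y := z) (z := b) hzx.symm (Ne.symm hb)
          rw [this, Equiv.swap_comm]
        rw [e]
        exact M.mul_mem (M.mul_mem (hswap₁ z b hzx hb) hxz) (hswap₁ z b hzx hb)
    rintro σ ⟨a, b, hab, rfl⟩
    by_cases hax : a = x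
    · rw [hax]
      apply hswapx
      intro hbx
      exact hab (hax.trans hbx.symm)
    · by_cases hbx : b = x
      · rw [hbx, Equiv.swap_comm]
        exact hswapx a hax
      · exact hswap₁ a b hax hbx


end Cfsg.Agent.S2963
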