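import Cfsg.Statements.S2970
import Cfsg.Agent.Lib.H15.Isolated
import Cfsg.Agent.Lib.H15.CyclicAut
import Cfsg.Agent.Lib.H20.PowDecomp

set_option autoImplicit false
open Cfsg

namespace Cfsg.Agent.S2970

open Cfsg.Agent.Lib.H15

theorem quotient_isolated {G : Type*} [Group G] [Finite G] {p : ℕ} [Fact p.Prime] (x : G)
    (hx : ∃ k : ℕ, orderOf x = p ^ k) (hiso : Cfsg.IsIsolated x) (N : Subgroup G) [N.Normal] :
    Cfsg.IsIsolated (QuotientGroup.mk x : G ⧸ N) := by
  intro gbar hcomm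
  obtain ⟨g, rfl⟩ := QuotientGroup.mk_surjective gbar
  set L : Subgroup G :=
    (Subgroup.centralizer ({(QuotientGroup.mk x : G ⧸ N)} : Set (G ⧸ N))).comap (QuotientGroup.mk' N) with hL
  have hxL : x ∈ L := by
    rw [hL, Subgroup.mem_comap, Subgroup.mem_centralizer_singleton_iff]
    rfl
  have hgL : g * x * g⁻¹ ∈ L := by
    rw [hL, Subgroup.mem_comap, Subgroup.mem_centralizer_singleton_iff]
    exact hcomm.eq.symm
  obtain ⟨c, hcL, hc⟩ := isolated_conj_in hx hiso hxL hgL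
  have hc' : (QuotientGroup.mk c : G ⧸ N) * (QuotientGroup.mk x : G ⧸ N)
      = (QuotientGroup.mk x : G ⧸ N) * (QuotientGroup.mk c : G ⧸ N) := by
    rw [hL, Subgroup.mem_comap, Subgroup.mem_centralizer_singleton_iff] at hcL
    exact hcL
  have h1 : (QuotientGroup.mk c : G ⧸ N) * ((QuotientGroup.mk g : G ⧸ N) * (QuotientGroup.mk x : G ⧸ N) * (QuotientGroup.mk g : G ⧸ N)⁻¹)
      * (QuotientGroup.mk c : G ⧸ N)⁻¹ = (QuotientGroup.mk x : G ⧸ N) := by
    have := congrArg (QuotientGroup.mk : G → G ⧸ N) hc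
    simpa using this
  have h2 : (QuotientGroup.mk c : G ⧸ N)⁻¹ * (QuotientGroup.mk x : G ⧸ N) * (QuotientGroup.mk c : G ⧸ N)
      = (QuotientGroup.mk x : G ⧸ N) := by
    rw [mul_assoc, ← hc']; group
  calc (QuotientGroup.mk g : G ⧸ N) * (QuotientGroup.mk x : G ⧸ N) * (QuotientGroup.mk g : G ⧸ N)⁻¹
      = (QuotientGroup.mk c : G ⧸ N)⁻¹ * ((QuotientGroup.mk c : G ⧸ N) * ((QuotientGroup.mk g : G ⧸ N) * (QuotientGroup.mk x : G ⧸ N) * (QuotientGroup.mk g : G ⧸ N)⁻¹)
      * (QuotientGroup.mk c : G ⧸ N)⁻¹) * (QuotientGroup.mk c : G ⧸ N) := by group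
    _ = (QuotientGroup.mk x : G ⧸ N) := by rw [h1, h2]

theorem normalizer_le_centralizer {G : Type*} [Group G] [Finite G] {p : ℕ} [Fact p.Prime] (x : G)
    (hiso : Cfsg.IsIsolated x) (hx1 : x ≠ 1) (P : Sylow p G) (hxP : x ∈ (P : Subgroup G))
    (hcyc : IsCyclic ↥(P : Subgroup G)) :
    Subgroup.normalizer ((P : Subgroup G) : Set G) ≤ Subgroup.centralizer ((P : Subgroup G) : Set G) := by
  have hp : p.Prime := Fact.out
  have hcomm : ∀ a ∈ (P : Subgroup G), ∀ b ∈ (P : Subgroup G), a * b = b * a := by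
    intro a ha b hb
    haveI := IsCyclic.commutative (α := ↥(P : Subgroup G))
    exact congrArg Subtype.val (mul_comm' (⟨a, ha⟩ : ↥(P : Subgroup G)) ⟨b, hb⟩)
  intro g hg
  have hgx : g ∈ Subgroup.centralizer ({x} : Set G) := isolated_normalizer_le hiso P.isPGroup' hxP hg
  obtain ⟨k, l, hkl, ⟨e, he⟩, hcop⟩ :=
    Cfsg.Agent.Lib.H20.exists_pPart_pPrimePart g (isOfFinOrder_of_finite g) p hp
  -- the p-part lies in P
  have hgkN : g ^ k ∈ Subgroup.normalizer ((P : Subgroup G) : Set G) := Subgroup.pow_mem _ hg k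
  have hglN : g ^ l ∈ Subgroup.normalizer ((P : Subgroup G) : Set G) := Subgroup.pow_mem _ hg l
  have hzp : IsPGroup p ↥(Subgroup.zpowers (g ^ k)) := isPGroup_zpowers_of_orderOf ⟨e, he⟩
  have hgkP : g ^ k ∈ (P : Subgroup G) := by
    have h1 := hzp.inf_normalizer_sylow P
    have h2 := h1.le (show g ^ k ∈ _ from ⟨Subgroup.mem_zpowers _, hgkN⟩)
    exact h2.2
  -- the p'-part centralizes P
  have hglx : g ^ l * x * (g ^ l)⁻¹ = x := by
    have : g ^ l ∈ Subgroup.centralizer ({x} : Set G) := Subgroup.pow_mem _ hgx l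
    exact mem_centralizer_singleton_iff'.mp this
  have hglP := commute_of_cyclic_of_coprime P.isPGroup' hcyc hglN hcop hxP hx1 hglx
  rw [Subgroup.mem_centralizer_iff]
  intro y hy
  have h1 : g ^ k * y = y * g ^ k := hcomm _ hgkP _ hy
  have h2 : g ^ l * y = y * g ^ l := by
    have := hglP y hy
    calc g ^ l * y = g ^ l * y * (g ^ l)⁻¹ * g ^ l := by group
      _ = y * g ^ l := by rw [this]
  rw [← hkl]
  calc y * (g ^ k * g ^ l) = (y * g ^ k) * g ^ l := by rw [mul_assoc]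
    _ = g ^ k * (y * g ^ l) := by rw [← h1, mul_assoc]
    _ = g ^ k * g ^ l * y := by rw [← h2, mul_assoc]

/-- Let G be a finite group, p a prime and x ∈ G an element of p-power order which is isolated in G. Then the image of x in any quotient G ⧸ N is isolated in G ⧸ N; and if x ≠ 1 and the Sylow p-subgroups of G are cyclic, then G has a normal p-complement. -/
theorem result {G : Type*} [Group G] [Finite G] {p : ℕ} [Fact p.Prime] (x : G) (hx : ∃ k : ℕ, orderOf x = p ^ k) (hiso : Cfsg.IsIsolated x) : (∀ (N : Subgroup G) [N.Normal], Cfsg.IsIsolated (QuotientGroup.mk x : G ⧸ N)) ∧ (x ≠ 1 → (∀ P : Sylow p G, IsCyclic ↥(P : Subgroup G)) → Cfsg.HasNormalPComplement p G) := by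
  refine ⟨fun N _ => quotient_isolated x hx hiso N, ?_⟩
  intro hx1 hcyc
  obtain ⟨P, hP⟩ := (isPGroup_zpowers_of_orderOf hx).exists_le_sylow
  have hxP : x ∈ (P : Subgroup G) := hP (Subgroup.mem_zpowers x)
  have hNC := normalizer_le_centralizer x hiso hx1 P hxP (hcyc P)
  exact ⟨P, (MonoidHom.transferSylow P hNC).ker, inferInstance,
    MonoidHom.ker_transferSylow_isComplement' P hNC⟩

end Cfsg.Agent.S2970
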