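import Cfsg.Statements.S2971
import Cfsg.Agent.S2970
import Cfsg.Agent.Lib.H15.RankOne
import Cfsg.Agent.Lib.H22.PPrimeCore

set_option autoImplicit false
open Cfsg

namespace Cfsg.Agent.S2971

/-- Let G be a finite group and p an odd prime such that G has p-rank at most 1 (no elementary abelian subgroup of order p²). If x ∈ G is an isolated element of order p, then x is central modulo the largest normal subgroup of G of order prime to p. -/
theorem result {G : Type*} [Group G] [Finite G] {p : ℕ} [Fact p.Prime] (hp : p ≠ 2) (hrk : Cfsg.PRankLE p 1 G) (x : G) (hx : orderOf x = p) (hiso : Cfsg.IsIsolated x) : Cfsg.InZStar p x := by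
  classical
  have hpp : p.Prime := Fact.out
  have hx' : ∃ k : ℕ, orderOf x = p ^ k := ⟨1, by rw [hx, pow_one]⟩
  have hx1 : x ≠ 1 := by
    intro h
    rw [h, orderOf_one] at hx
    exact hpp.one_lt.ne hx
  obtain ⟨P, K, hKn, hKP⟩ := (Cfsg.Agent.S2970.result x hx' hiso).2 hx1
    (fun P => Cfsg.Agent.Lib.H15.isCyclic_of_pRankLE_one hp hrk P.isPGroup')
  have hKcop : (Nat.card K).Coprime p := by
    rw [← hKP.index_eq_card, Nat.coprime_comm, Nat.Prime.coprime_iff_not_dvd hpp]
    exact P.not_dvd_index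
  have hKO : K ≤ Cfsg.pPrimeCore p G := Cfsg.Agent.Lib.H22.le_pPrimeCore p K hKn hKcop
  have hPcyc : IsCyclic ↥(P : Subgroup G) := Cfsg.Agent.Lib.H15.isCyclic_of_pRankLE_one hp hrk P.isPGroup'
  have hPcomm : ∀ a ∈ (P : Subgroup G), ∀ b ∈ (P : Subgroup G), a * b = b * a := by
    intro a ha b hb
    have hc : IsMulCommutative ↥(P : Subgroup G) := IsCyclic.isMulCommutative
    exact congrArg Subtype.val (hc.is_comm.comm (⟨a, ha⟩ : ↥(P : Subgroup G)) ⟨b, hb⟩)
  have hdecomp : ∀ g : G, ∃ s ∈ (P : Subgroup G), (QuotientGroup.mk g : G ⧸ K) = QuotientGroup.mk s := by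
    intro g
    have h1 : g ∈ (K ⊔ (P : Subgroup G) : Subgroup G) := by rw [hKP.sup_eq_top]; exact Subgroup.mem_top g
    rw [Subgroup.mem_sup_of_normal_left] at h1
    obtain ⟨k, hk, s, hs, rfl⟩ := h1
    refine ⟨s, hs, ?_⟩
    rw [QuotientGroup.mk_mul, (QuotientGroup.eq_one_iff k).mpr hk, one_mul]
  intro g
  apply hKO
  rw [← QuotientGroup.eq_one_iff]
  obtain ⟨s, hs, hgs⟩ := hdecomp g
  obtain ⟨t, ht, hxt⟩ := hdecomp x
  simp only [QuotientGroup.mk_mul, QuotientGroup.mk_inv]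
  rw [hgs, hxt]
  have := hPcomm s hs t ht
  rw [← QuotientGroup.mk_mul, ← QuotientGroup.mk_inv, ← QuotientGroup.mk_inv, ← QuotientGroup.mk_mul,
    ← QuotientGroup.mk_mul, QuotientGroup.eq_one_iff]
  have e : s * t * s⁻¹ * t⁻¹ = 1 := by rw [this]; group
  rw [e]; exact K.one_mem


end Cfsg.Agent.S2971
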