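import Cfsg.Statements.S2972
import Mathlib
import Cfsg.Agent.Lib.H15.Isolated
import Cfsg.Agent.Lib.H15.CD
import Cfsg.Agent.Lib.H9.PPrimeCore
import Cfsg.Agent.Lib.H10.CentralSylow
import Cfsg.Agent.Lib.H10.PResidual

set_option autoImplicit false
open Cfsg

namespace Cfsg.Agent.S2972

open Cfsg.Agent.Lib.H15 Cfsg.Agent.Lib.H5
open scoped commutatorElement Pointwise

variable {G : Type*} [Group G]

theorem isolated_conj {x : G} (h : Cfsg.IsIsolated x) (g : G) : Cfsg.IsIsolated (g * x * g⁻¹) := by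
  intro k hk
  have h1 : Commute x ((g⁻¹ * k * g) * x * (g⁻¹ * k * g)⁻¹) := by
    have e : (g⁻¹ * k * g) * x * (g⁻¹ * k * g)⁻¹ = g⁻¹ * (k * (g * x * g⁻¹) * k⁻¹) * g := by group
    rw [e]
    have hk' : (g * x * g⁻¹) * (k * (g * x * g⁻¹) * k⁻¹) = (k * (g * x * g⁻¹) * k⁻¹) * (g * x * g⁻¹) := hk
    show x * (g⁻¹ * (k * (g * x * g⁻¹) * k⁻¹) * g) = (g⁻¹ * (k * (g * x * g⁻¹) * k⁻¹) * g) * x
    calc x * (g⁻¹ * (k * (g * x * g⁻¹) * k⁻¹) * g)
        = g⁻¹ * ((g * x * g⁻¹) * (k * (g * x * g⁻¹) * k⁻¹)) * g := by group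
      _ = g⁻¹ * ((k * (g * x * g⁻¹) * k⁻¹) * (g * x * g⁻¹)) * g := by rw [hk']
      _ = (g⁻¹ * (k * (g * x * g⁻¹) * k⁻¹) * g) * x := by group
  have h2 := h _ h1
  calc k * (g * x * g⁻¹) * k⁻¹ = g * ((g⁻¹ * k * g) * x * (g⁻¹ * k * g)⁻¹) * g⁻¹ := by group
    _ = g * x * g⁻¹ := by rw [h2]

/-- If every conjugate of `x` equals `x`, then `x` is central. -/
theorem mem_center_of_conj {x : G} (h : ∀ g : G, g * x * g⁻¹ = x) : x ∈ Subgroup.center G := by
  rw [Subgroup.mem_center_iff]
  intro g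
  have := h g
  calc g * x = (g * x * g⁻¹) * g := by group
    _ = x * g := by rw [this]

theorem core_bot [Finite G] {p : ℕ} (x : G) (hnz : ¬ Cfsg.InZStar p x)
    (hquot : ∀ (N : Subgroup G) [N.Normal], N ≠ ⊥ → Cfsg.InZStar p (QuotientGroup.mk x : G ⧸ N)) :
    Cfsg.pPrimeCore p G = ⊥ := by
  by_contra hK
  apply hnz
  have hq := hquot (Cfsg.pPrimeCore p G) hK
  intro g
  have h1 := hq (QuotientGroup.mk g)
  rw [Cfsg.Agent.Lib.H9.pPrimeCore_quotient_eq_bot, Subgroup.mem_bot] at h1
  have h2 : ((g * x * g⁻¹ * x⁻¹ : G) : G ⧸ Cfsg.pPrimeCore p G) = 1 := by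
    simpa using h1
  exact (QuotientGroup.eq_one_iff _).mp h2

theorem not_central {p : ℕ} (x : G) (hnz : ¬ Cfsg.InZStar p x) : x ∉ Subgroup.center G := by
  intro hx
  apply hnz
  intro g
  have := Subgroup.mem_center_iff.mp hx g
  have e : g * x * g⁻¹ * x⁻¹ = 1 := by rw [this]; group
  rw [e]; exact one_mem _

theorem normalClosure_top [Finite G] {p : ℕ} (x : G) (hiso : Cfsg.IsIsolated x)
    (hK : Cfsg.pPrimeCore p G = ⊥) (hxc : x ∉ Subgroup.center G)
    (hmin : ∀ (H : Subgroup G) (hxH : x ∈ H), H ≠ ⊤ → Cfsg.InZStar p (⟨x, hxH⟩ : ↥H)) :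
    Subgroup.normalClosure ({x} : Set G) = ⊤ := by
  by_contra hM
  obtain ⟨M, hMdef⟩ : ∃ M, M = Subgroup.normalClosure ({x} : Set G) := ⟨_, rfl⟩
  rw [← hMdef] at hM
  have hMn : M.Normal := hMdef ▸ Subgroup.normalClosure_normal
  have hxM : x ∈ M := hMdef ▸ Subgroup.subset_normalClosure rfl
  have h := hmin M hxM hM
  have hcore : Cfsg.pPrimeCore p ↥M = ⊥ := by
    have h1 := Cfsg.Agent.Lib.H9.pPrimeCore_subnormal_le p hMn.isSubnormal
    rw [hK, le_bot_iff] at h1
    exact (Subgroup.map_eq_bot_iff_of_injective _ M.subtype_injective).mp h1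
  apply hxc
  apply mem_center_of_conj
  intro g
  have hyM : g * x * g⁻¹ ∈ M := hMn.conj_mem x hxM g
  have h1 := h ⟨g * x * g⁻¹, hyM⟩
  rw [hcore, Subgroup.mem_bot] at h1
  have h2 := congrArg Subtype.val h1
  simp only [Subgroup.coe_mul, Subgroup.coe_inv, Subgroup.coe_one] at h2
  apply hiso g
  show x * (g * x * g⁻¹) = (g * x * g⁻¹) * x
  calc x * (g * x * g⁻¹) = ((g * x * g⁻¹) * x * (g * x * g⁻¹)⁻¹ * x⁻¹)⁻¹ * ((g * x * g⁻¹) * x) := by group
    _ = (g * x * g⁻¹) * x := by rw [h2]; group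

theorem sup_top (x : G) (h : Subgroup.normalClosure ({x} : Set G) = ⊤) :
    commutator G ⊔ Subgroup.zpowers x = ⊤ := by
  have hn : (commutator G ⊔ Subgroup.zpowers x).Normal := by
    constructor
    intro n hn g
    have e : g * n * g⁻¹ = ⁅g, n⁆ * n := by rw [commutatorElement_def]; group
    rw [e]
    apply mul_mem _ hn
    apply (le_sup_left : commutator G ≤ _)
    rw [commutator_def]
    exact Subgroup.commutator_mem_commutator (Subgroup.mem_top _) (Subgroup.mem_top _)
  rw [eq_top_iff, ← h]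
  apply Subgroup.normalClosure_le_normal
  intro y hy
  rw [Set.mem_singleton_iff] at hy
  rw [hy]
  exact (le_sup_right : Subgroup.zpowers x ≤ _) (Subgroup.mem_zpowers x)

theorem commutator_le_of_sup_zpowers (x : G) (N : Subgroup G) [hN : N.Normal]
    (h : N ⊔ Subgroup.zpowers x = ⊤) : commutator G ≤ N := by
  have key : ∀ g : G, ∃ k : ℤ, (QuotientGroup.mk g : G ⧸ N) = (QuotientGroup.mk x : G ⧸ N) ^ k := by
    intro g
    have hg : g ∈ ((N ⊔ Subgroup.zpowers x : Subgroup G) : Set G) := by rw [h]; trivial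
    rw [Subgroup.normal_mul] at hg
    obtain ⟨n, hn, y, hy, rfl⟩ := Set.mem_mul.mp hg
    obtain ⟨k, rfl⟩ := Subgroup.mem_zpowers_iff.mp hy
    refine ⟨k, ?_⟩
    rw [QuotientGroup.mk_mul, (QuotientGroup.eq_one_iff n).mpr hn, one_mul, QuotientGroup.mk_zpow]
  rw [commutator_def, Subgroup.commutator_le]
  intro g _ h' _
  obtain ⟨k, hk⟩ := key g
  obtain ⟨l, hl⟩ := key h'
  rw [← QuotientGroup.eq_one_iff (N := N)]
  have : ((⁅g, h'⁆ : G) : G ⧸ N) = ⁅(QuotientGroup.mk g : G ⧸ N), QuotientGroup.mk h'⁆ := by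
    simp [commutatorElement_def]
  rw [this, hk, hl, commutatorElement_eq_one_iff_mul_comm]
  exact ((Commute.refl _).zpow_zpow k l).eq

theorem zpowers_normal_of_central {z : G} (hz : z ∈ Subgroup.center G) :
    (Subgroup.zpowers z).Normal := by
  constructor
  intro n hn g
  have hnc : n ∈ Subgroup.center G := (Subgroup.zpowers_le.mpr hz) hn
  have := Subgroup.mem_center_iff.mp hnc g
  have e : g * n * g⁻¹ = n := by rw [this]; group
  rw [e]; exact hn

/-- The centre of a minimal counterexample is trivial. -/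
theorem center_bot [Finite G] {p : ℕ} [Fact p.Prime] (x : G) (hiso : Cfsg.IsIsolated x)
    (hK : Cfsg.pPrimeCore p G = ⊥) (hxc : x ∉ Subgroup.center G)
    (hquot : ∀ (N : Subgroup G) [N.Normal], N ≠ ⊥ → Cfsg.InZStar p (QuotientGroup.mk x : G ⧸ N)) :
    Subgroup.center G = ⊥ := by
  have hp : p.Prime := Fact.out
  by_contra hZ
  have hcard : 1 < Nat.card ↥(Subgroup.center G) := (Subgroup.one_lt_card_iff_ne_bot _).mpr hZ
  obtain ⟨q, hq, hqd⟩ := Nat.exists_prime_and_dvd (ne_of_gt hcard)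
  haveI : Fact q.Prime := ⟨hq⟩
  obtain ⟨z', hz'⟩ := exists_prime_orderOf_dvd_card' (G := ↥(Subgroup.center G)) q hqd
  obtain ⟨z, hzdef⟩ : ∃ z : G, z = (z' : G) := ⟨_, rfl⟩
  have hzc : z ∈ Subgroup.center G := hzdef ▸ z'.2
  have hzo : orderOf z = q := by rw [hzdef, Subgroup.orderOf_coe]; exact hz'
  obtain ⟨N, hNdef⟩ : ∃ N, N = Subgroup.zpowers z := ⟨_, rfl⟩
  haveI hNn : N.Normal := hNdef ▸ zpowers_normal_of_central hzc
  have hNcard : Nat.card ↥N = q := by rw [hNdef, Nat.card_zpowers, hzo]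
  have hzN : z ∈ N := hNdef ▸ Subgroup.mem_zpowers z
  have hNc : N ≤ Subgroup.center G := hNdef ▸ Subgroup.zpowers_le.mpr hzc
  have hz1 : z ≠ 1 := by
    intro h
    rw [h, orderOf_one] at hzo
    exact hq.one_lt.ne hzo
  have hN1 : N ≠ ⊥ := by
    intro h
    rw [h, Subgroup.mem_bot] at hzN
    exact hz1 hzN
  by_cases hqp : q = p
  · subst hqp
    have hinz := hquot N hN1
    obtain ⟨Lb, hLb⟩ : ∃ Lb, Lb = Cfsg.pPrimeCore q (G ⧸ N) := ⟨_, rfl⟩
    obtain ⟨L, hL⟩ : ∃ L, L = Lb.comap (QuotientGroup.mk' N) := ⟨_, rfl⟩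
    have hLbn : Lb.Normal := hLb ▸ Cfsg.Agent.Lib.H22.pPrimeCore_normal q
    have hLn : L.Normal := by rw [hL]; exact Subgroup.Normal.comap hLbn _
    have hLbcop : (Nat.card ↥Lb).Coprime q := hLb ▸ Cfsg.Agent.Lib.H22.card_pPrimeCore_coprime q
    have hNL : N ≤ L := by
      intro n hn
      rw [hL, Subgroup.mem_comap]
      have : (QuotientGroup.mk' N) n = 1 := (QuotientGroup.eq_one_iff n).mpr hn
      rw [this]; exact one_mem _
    have hmap : L.map (QuotientGroup.mk' N) = Lb := by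
      rw [hL]; exact Subgroup.map_comap_eq_self_of_surjective (QuotientGroup.mk'_surjective N) Lb
    -- the central Sylow subgroup of `L`
    have hZ₀c : N.subgroupOf L ≤ Subgroup.center ↥L := by
      intro n hn
      rw [Subgroup.mem_center_iff]
      intro l
      apply Subtype.ext
      exact Subgroup.mem_center_iff.mp (hNc (Subgroup.mem_subgroupOf.mp hn)) l
    have hNp : IsPGroup q ↥N := IsPGroup.of_card (n := 1) (by rw [hNcard, pow_one])
    have hZ₀p : IsPGroup q ↥(N.subgroupOf L) := hNp.comap_subtype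
    have hidx : (N.subgroupOf L).index = Nat.card ↥Lb := by
      have h1 : N = (⊥ : Subgroup (G ⧸ N)).comap (QuotientGroup.mk' N) := by
        rw [MonoidHom.comap_bot, QuotientGroup.ker_mk']
      have h2 : N.relIndex L = (⊥ : Subgroup (G ⧸ N)).relIndex (L.map (QuotientGroup.mk' N)) := by
        conv_lhs => rw [h1]
        exact Subgroup.relIndex_comap _ _ _
      show N.relIndex L = _
      rw [h2, hmap, Subgroup.relIndex_bot_left]
    have hZ₀i : ¬ q ∣ (N.subgroupOf L).index := by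
      rw [hidx]
      intro hd
      have := Nat.dvd_gcd hd dvd_rfl
      rw [hLbcop] at this
      exact hq.one_lt.ne' (Nat.dvd_one.mp this)
    have hres := Cfsg.Agent.Lib.H10.not_dvd_card_pResidual_of_central_sylow q (N.subgroupOf L)
      hZ₀c hZ₀p hZ₀i
    have hresn : (Cfsg.pResidual q ↥L).Normal := Cfsg.Agent.Lib.H10.pResidual_normal q ↥L
    have hUsn : ((Cfsg.pResidual q ↥L).map L.subtype).IsSubnormal :=
      hresn.isSubnormal.trans' hLn.isSubnormal
    have hUcard : Nat.card ↥((Cfsg.pResidual q ↥L).map L.subtype) =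
        Nat.card ↥(Cfsg.pResidual q ↥L) :=
      (Nat.card_congr ((Cfsg.pResidual q ↥L).equivMapOfInjective L.subtype
        L.subtype_injective).toEquiv).symm
    have hUcop : (Nat.card ↥((Cfsg.pResidual q ↥L).map L.subtype)).Coprime q := by
      rw [hUcard]
      exact ((Nat.Prime.coprime_iff_not_dvd hq).mpr hres).symm
    have hUbot := Cfsg.Agent.Lib.H9.subnormal_coprime_le_pPrimeCore q hUsn hUcop
    rw [hK, le_bot_iff] at hUbot
    have hresbot : Cfsg.pResidual q ↥L = ⊥ :=
      (Subgroup.map_eq_bot_iff_of_injective _ L.subtype_injective).mp hUbot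
    have hLp : IsPGroup q ↥L := by
      intro l
      obtain ⟨k, hk⟩ := Cfsg.Agent.Lib.H10.exists_pow_mem_pResidual q l
      rw [hresbot, Subgroup.mem_bot] at hk
      exact ⟨k, hk⟩
    have hLbp : IsPGroup q ↥Lb := hmap ▸ hLp.map _
    have hLbbot : Lb = ⊥ := by
      obtain ⟨n, hn⟩ := IsPGroup.iff_card.mp hLbp
      have h1 : n = 0 := by
        by_contra hn0
        have hd : q ∣ Nat.card ↥Lb := by rw [hn]; exact dvd_pow_self q hn0
        have := Nat.dvd_gcd hd dvd_rfl
        rw [hLbcop] at this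
        exact hq.one_lt.ne' (Nat.dvd_one.mp this)
      rw [h1, pow_zero] at hn
      exact Subgroup.card_eq_one.mp hn
    apply hxc
    apply mem_center_of_conj
    intro g
    have h1 := hinz (QuotientGroup.mk g)
    rw [← hLb, hLbbot, Subgroup.mem_bot] at h1
    have h2 : ((g * x * g⁻¹ * x⁻¹ : G) : G ⧸ N) = 1 := by simpa using h1
    have h3 : g * x * g⁻¹ * x⁻¹ ∈ Subgroup.center G := hNc ((QuotientGroup.eq_one_iff _).mp h2)
    have h4 := Subgroup.mem_center_iff.mp h3 x
    apply hiso g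
    show x * (g * x * g⁻¹) = (g * x * g⁻¹) * x
    calc x * (g * x * g⁻¹) = x * (g * x * g⁻¹ * x⁻¹) * x := by group
      _ = (g * x * g⁻¹ * x⁻¹) * x * x := by rw [h4]
      _ = (g * x * g⁻¹) * x := by group
  · have hcop : (Nat.card ↥N).Coprime p := by
      rw [hNcard]
      exact (Nat.coprime_primes hq hp).mpr hqp
    have := Cfsg.Agent.Lib.H22.le_pPrimeCore p N hNn hcop
    rw [hK, le_bot_iff] at this
    exact hN1 this


/-- Every nontrivial normal subgroup of a minimal counterexample contains the derived subgroup. -/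
theorem commutator_le_of_normal [Finite G] {p : ℕ} [Fact p.Prime] (x : G)
    (hK : Cfsg.pPrimeCore p G = ⊥) (hZ : Subgroup.center G = ⊥)
    (hncl : Subgroup.normalClosure ({x} : Set G) = ⊤)
    (hmin : ∀ (H : Subgroup G) (hxH : x ∈ H), H ≠ ⊤ → Cfsg.InZStar p (⟨x, hxH⟩ : ↥H))
    (N : Subgroup G) [hN : N.Normal] (hN1 : N ≠ ⊥) : commutator G ≤ N := by
  by_cases hH : N ⊔ Subgroup.zpowers x = ⊤
  · exact commutator_le_of_sup_zpowers x N hH
  · exfalso
    obtain ⟨H, hHdef⟩ : ∃ H, H = N ⊔ Subgroup.zpowers x := ⟨_, rfl⟩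
    rw [← hHdef] at hH
    have hNH : N ≤ H := hHdef ▸ le_sup_left
    have hxH : x ∈ H := hHdef ▸ (le_sup_right : Subgroup.zpowers x ≤ _) (Subgroup.mem_zpowers x)
    have hin := hmin H hxH hH
    obtain ⟨O, hO⟩ : ∃ O, O = (Cfsg.pPrimeCore p ↥H).map H.subtype := ⟨_, rfl⟩
    have hOn : (Cfsg.pPrimeCore p ↥H).Normal := Cfsg.Agent.Lib.H22.pPrimeCore_normal p
    have hOcard : (Nat.card ↥O).Coprime p := by
      rw [hO, ← Nat.card_congr ((Cfsg.pPrimeCore p ↥H).equivMapOfInjective H.subtype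
        H.subtype_injective).toEquiv]
      exact Cfsg.Agent.Lib.H22.card_pPrimeCore_coprime p
    -- `I = N ⊓ O` is subnormal of order prime to `p`
    have hInorm : H ≤ Subgroup.normalizer ((N ⊓ O : Subgroup G) : Set G) := by
      intro h hh
      apply mem_normalizer_of_cj_le
      rintro _ ⟨i, hi, rfl⟩
      refine Subgroup.mem_inf.mpr ⟨?_, ?_⟩
      · exact hN.conj_mem i hi.1 h
      · have hiO : i ∈ O := hi.2
        rw [hO] at hiO ⊢
        obtain ⟨i', hi', rfl⟩ := hiO
        exact ⟨⟨h, hh⟩ * i' * ⟨h, hh⟩⁻¹, hOn.conj_mem i' hi' ⟨h, hh⟩, by simp⟩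
    have hIsn : (N ⊓ O : Subgroup G).IsSubnormal := by
      refine Subgroup.IsSubnormal.step _ N inf_le_left hN.isSubnormal ?_
      exact (Subgroup.normal_subgroupOf_iff_le_normalizer inf_le_left).mpr (hNH.trans hInorm)
    have hIcop : (Nat.card ↥(N ⊓ O : Subgroup G)).Coprime p :=
      Nat.Coprime.coprime_dvd_left (Subgroup.card_dvd_of_le inf_le_right) hOcard
    have hIbot := Cfsg.Agent.Lib.H9.subnormal_coprime_le_pPrimeCore p hIsn hIcop
    rw [hK, le_bot_iff] at hIbot
    -- `N` centralizes `x`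
    have hNx : ∀ n ∈ N, n * x * n⁻¹ * x⁻¹ = 1 := by
      intro n hn
      have h1 : n * x * n⁻¹ * x⁻¹ ∈ N := by
        have : n * x * n⁻¹ * x⁻¹ = n * (x * n⁻¹ * x⁻¹) := by group
        rw [this]
        exact mul_mem hn (hN.conj_mem _ (inv_mem hn) x)
      have h2 : n * x * n⁻¹ * x⁻¹ ∈ O := by
        rw [hO]
        exact ⟨_, hin ⟨n, hNH hn⟩, by simp⟩
      have : n * x * n⁻¹ * x⁻¹ ∈ N ⊓ O := ⟨h1, h2⟩
      rw [hIbot, Subgroup.mem_bot] at this
      exact this
    -- hence `N` is central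
    have hNc : N ≤ Subgroup.center G := by
      intro n hn
      have hcent : n ∈ Subgroup.centralizer
          ((Subgroup.normalClosure ({x} : Set G) : Subgroup G) : Set G) := by
        unfold Subgroup.normalClosure
        rw [Subgroup.centralizer_closure, Subgroup.mem_centralizer_iff]
        intro u hu
        obtain ⟨a, ha, hconj⟩ := Group.mem_conjugatesOfSet_iff.mp hu
        rw [Set.mem_singleton_iff] at ha
        subst ha
        obtain ⟨g, rfl⟩ := isConj_iff.mp hconj
        have h1 := hNx (g⁻¹ * n * g) (by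
          have := hN.conj_mem n hn g⁻¹
          simpa using this)
        calc g * a * g⁻¹ * n = g * ((g⁻¹ * n * g * a * (g⁻¹ * n * g)⁻¹ * a⁻¹)⁻¹ * (g⁻¹ * n * g * a)) * g⁻¹ := by
              group
          _ = n * (g * a * g⁻¹) := by rw [h1]; group
      rw [hncl] at hcent
      rw [Subgroup.mem_center_iff]
      intro g
      exact (Subgroup.mem_centralizer_iff.mp hcent) g (Subgroup.mem_top g)
    rw [hZ, le_bot_iff] at hNc
    exact hN1 hNc

/-- A subgroup of order divisible by `p` contains a nontrivial element centralized by some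
element of the coset `G' x`. -/
theorem fixed_elt [Finite G] {p : ℕ} [Fact p.Prime] (x : G) (hx : orderOf x = p)
    (hiso : Cfsg.IsIsolated x) (T : Subgroup G) (hT : p ∣ Nat.card ↥T) :
    ∃ s ∈ T, s ≠ 1 ∧ ∃ c ∈ commutator G, (c * x) * s * (c * x)⁻¹ = s := by
  have hp : p.Prime := Fact.out
  obtain ⟨s', hs'⟩ := exists_prime_orderOf_dvd_card' (G := ↥T) p hT
  have hso : orderOf (s' : G) = p := by rw [Subgroup.orderOf_coe]; exact hs'
  have hs1 : (s' : G) ≠ 1 := by
    intro h
    rw [h, orderOf_one] at hso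
    exact hp.one_lt.ne hso
  have hsp : IsPGroup p ↥(Subgroup.zpowers (s' : G)) :=
    isPGroup_zpowers_of_orderOf ⟨1, by rw [hso, pow_one]⟩
  have hxp : IsPGroup p ↥(Subgroup.zpowers x) :=
    isPGroup_zpowers_of_orderOf ⟨1, by rw [hx, pow_one]⟩
  obtain ⟨P', hP'⟩ := hsp.exists_le_sylow
  obtain ⟨P, hP⟩ := hxp.exists_le_sylow
  obtain ⟨g, hg⟩ := MulAction.exists_smul_eq G P P'
  have hxP : x ∈ P := hP (Subgroup.mem_zpowers x)
  have hx'P' : g * x * g⁻¹ ∈ P' := by
    rw [← hg, sylow_mem_smul_iff]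
    have : g⁻¹ * (g * x * g⁻¹) * g = x := by group
    rw [this]; exact hxP
  have hcent := isolated_central (isolated_conj hiso g) P'.isPGroup' hx'P'
  have hsP' : (s' : G) ∈ (P' : Subgroup G) := hP' (Subgroup.mem_zpowers _)
  have h1 := mem_centralizer_singleton_iff'.mp (hcent hsP')
  refine ⟨s', s'.2, hs1, ⁅g, x⁆, ?_, ?_⟩
  · rw [commutator_def]
    exact Subgroup.commutator_mem_commutator (Subgroup.mem_top _) (Subgroup.mem_top _)
  · have e : ⁅g, x⁆ * x = g * x * g⁻¹ := by rw [commutatorElement_def]; group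
    rw [e]
    have hc : (s' : G) * (g * x * g⁻¹) = (g * x * g⁻¹) * (s' : G) := by
      calc (s' : G) * (g * x * g⁻¹) = ((s' : G) * (g * x * g⁻¹) * (s' : G)⁻¹) * (s' : G) := by group
        _ = (g * x * g⁻¹) * (s' : G) := by rw [h1]
    rw [← hc]; group


/-- In a minimal counterexample, every nontrivial subgroup of `G'` normalized by `G'` is `G'`. -/
theorem key_simple [Finite G] {p : ℕ} [Fact p.Prime] (x : G) (hx : orderOf x = p)
    (hiso : Cfsg.IsIsolated x) (hK : Cfsg.pPrimeCore p G = ⊥)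
    (hsup : commutator G ⊔ Subgroup.zpowers x = ⊤)
    (hmn : ∀ (N : Subgroup G) [N.Normal], N ≠ ⊥ → commutator G ≤ N)
    (hC1 : commutator G ≠ ⊥) :
    ∀ T : Subgroup G, T ≤ commutator G → commutator G ≤ Subgroup.normalizer (T : Set G) →
      T ≠ ⊥ → T = commutator G := by
  have hp : p.Prime := Fact.out
  obtain ⟨C, hC⟩ : ∃ C, C = commutator G := ⟨_, rfl⟩
  rw [← hC] at hsup hmn hC1 ⊢
  have hCn : C.Normal := by rw [hC]; infer_instance
  have hcjC : ∀ g : G, cj g C = C := fun g => mem_normalizer_iff_cj_eq.mp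
    ((Subgroup.normalizer_eq_top_iff.mpr hCn) ▸ Subgroup.mem_top g)
  have hne : Nonempty {T : Subgroup G // T ≤ C ∧ C ≤ Subgroup.normalizer (T : Set G) ∧ T ≠ ⊥} :=
    ⟨⟨C, le_rfl, Subgroup.le_normalizer, hC1⟩⟩
  obtain ⟨⟨T₀, hT₀C, hT₀N, hT₀1⟩, hmin⟩ := Finite.exists_min
    (fun X : {T : Subgroup G // T ≤ C ∧ C ≤ Subgroup.normalizer (T : Set G) ∧ T ≠ ⊥} =>
      Nat.card (X : Subgroup G))
  have hT₀ : T₀ = C := by
    by_contra hneq
    obtain ⟨T₁, hT₁⟩ : ∃ T₁, T₁ = cj x T₀ := ⟨_, rfl⟩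
    have hT₁C : T₁ ≤ C := by
      rw [hT₁]
      calc cj x T₀ ≤ cj x C := cj_mono x hT₀C
        _ = C := hcjC x
    have hT₁N : C ≤ Subgroup.normalizer (T₁ : Set G) := by
      rw [hT₁, normalizer_cj]
      calc C = cj x C := (hcjC x).symm
        _ ≤ _ := cj_mono x hT₀N
    have hInorm : C ≤ Subgroup.normalizer ((T₀ ⊓ T₁ : Subgroup G) : Set G) := by
      intro c hc
      apply mem_normalizer_of_cj_le
      have h0 : cj c T₀ = T₀ := mem_normalizer_iff_cj_eq.mp (hT₀N hc)
      have h1 : cj c T₁ = T₁ := mem_normalizer_iff_cj_eq.mp (hT₁N hc)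
      calc cj c (T₀ ⊓ T₁) ≤ cj c T₀ ⊓ cj c T₁ := le_inf (cj_mono c inf_le_left) (cj_mono c inf_le_right)
        _ = T₀ ⊓ T₁ := by rw [h0, h1]
    have hIbot : T₀ ⊓ T₁ = ⊥ := by
      by_contra hI
      have h1 := hmin ⟨T₀ ⊓ T₁, inf_le_left.trans hT₀C, hInorm, hI⟩
      simp only at h1
      have h2 : T₀ ⊓ T₁ = T₀ := eq_of_le_of_card_le' inf_le_left h1
      have h3 : T₀ ≤ T₁ := inf_eq_left.mp h2
      have h4 : T₀ = T₁ := eq_of_le_of_card_le' h3 (by rw [hT₁, card_cj])
      have hxN : x ∈ Subgroup.normalizer (T₀ : Set G) := by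
        rw [mem_normalizer_iff_cj_eq, ← hT₁, ← h4]
      have htop : Subgroup.normalizer (T₀ : Set G) = ⊤ := by
        rw [eq_top_iff, ← hsup]
        exact sup_le hT₀N (Subgroup.zpowers_le.mpr hxN)
      have hT₀n : T₀.Normal := Subgroup.normalizer_eq_top_iff.mp htop
      exact hneq (le_antisymm hT₀C (hmn T₀ hT₀1))
    have hpd : p ∣ Nat.card ↥T₀ := by
      by_contra hnd
      have hcop : (Nat.card ↥T₀).Coprime p := ((Nat.Prime.coprime_iff_not_dvd hp).mpr hnd).symm
      have hsn : T₀.IsSubnormal := by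
        refine Subgroup.IsSubnormal.step _ C hT₀C hCn.isSubnormal ?_
        exact (Subgroup.normal_subgroupOf_iff_le_normalizer hT₀C).mpr hT₀N
      have := Cfsg.Agent.Lib.H9.subnormal_coprime_le_pPrimeCore p hsn hcop
      rw [hK, le_bot_iff] at this
      exact hT₀1 this
    obtain ⟨s, hsT, hs1, c, hc, hcs⟩ := fixed_elt x hx hiso T₀ hpd
    have hcC : c ∈ C := hC ▸ hc
    have hsT₁ : s ∈ T₁ := by
      have h1 : x * s * x⁻¹ ∈ T₁ := by rw [hT₁]; exact conj_mem_cj hsT
      have h2 := (Subgroup.mem_normalizer_iff.mp (hT₁N hcC) (x * s * x⁻¹)).mp h1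
      have e : c * (x * s * x⁻¹) * c⁻¹ = (c * x) * s * (c * x)⁻¹ := by group
      rw [e, hcs] at h2
      exact h2
    have : s ∈ T₀ ⊓ T₁ := ⟨hsT, hsT₁⟩
    rw [hIbot, Subgroup.mem_bot] at this
    exact hs1 this
  intro T hTC hTN hT1
  have h1 := hmin ⟨T, hTC, hTN, hT1⟩
  simp only at h1
  rw [hT₀] at h1
  exact eq_of_le_of_card_le' hTC h1



/-- Let G be a finite group, p a prime and x ∈ G an isolated element of order p (the only conjugate of x commuting with x is x) which is not central modulo the largest normal subgroup of order prime to p, while x is central modulo the largest normal subgroup of order prime to p in every proper subgroup containing x, and the image of x is so in every quotient of G by a nontrivial normal subgroup (a minimal counterexample to the Z*_p statement). Then the derived subgroup G' is a non-abelian simple group and G = G'⟨x⟩. -/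
theorem result {G : Type*} [Group G] [Finite G] {p : ℕ} [Fact p.Prime] (x : G) (hx : orderOf x = p) (hiso : Cfsg.IsIsolated x) (hnz : ¬ Cfsg.InZStar p x) (hmin : ∀ (H : Subgroup G) (hxH : x ∈ H), H ≠ ⊤ → Cfsg.InZStar p (⟨x, hxH⟩ : ↥H)) (hquot : ∀ (N : Subgroup G) [N.Normal], N ≠ ⊥ → Cfsg.InZStar p (QuotientGroup.mk x : G ⧸ N)) : IsSimpleGroup ↥(commutator G) ∧ ¬ IsMulCommutative ↥(commutator G) ∧ commutator G ⊔ Subgroup.zpowers x = ⊤ := by
  have hpp : p.Prime := Fact.out
  have hK := core_bot x hnz hquot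
  have hxc := not_central x hnz
  have hncl := normalClosure_top x hiso hK hxc hmin
  have hsup := sup_top x hncl
  have hZ := center_bot x hiso hK hxc hquot
  have hmn : ∀ (N : Subgroup G) [N.Normal], N ≠ ⊥ → commutator G ≤ N :=
    fun N _ hN1 => commutator_le_of_normal x hK hZ hncl hmin N hN1
  have hC1 : commutator G ≠ ⊥ := by
    intro h
    apply hxc
    apply mem_center_of_conj
    intro g
    have h1 : ⁅g, x⁆ ∈ commutator G := by
      rw [commutator_def]
      exact Subgroup.commutator_mem_commutator (Subgroup.mem_top _) (Subgroup.mem_top _)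
    rw [h, Subgroup.mem_bot, commutatorElement_def] at h1
    calc g * x * g⁻¹ = (g * x * g⁻¹ * x⁻¹) * x := by group
      _ = x := by rw [h1, one_mul]
  have key := key_simple x hx hiso hK hsup hmn hC1
  refine ⟨?_, ?_, hsup⟩
  · haveI : Nontrivial ↥(commutator G) := (Subgroup.nontrivial_iff_ne_bot _).mpr hC1
    refine ⟨?_⟩
    intro H' hH'
    by_cases hb : H' = ⊥
    · exact Or.inl hb
    · right
      have hT1 : H'.map (commutator G).subtype ≠ ⊥ := by
        intro h
        exact hb ((Subgroup.map_eq_bot_iff_of_injective _ (commutator G).subtype_injective).mp h)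
      have hTN : commutator G ≤ Subgroup.normalizer ((H'.map (commutator G).subtype : Subgroup G) : Set G) := by
        have h1 := Subgroup.le_normalizer_map (commutator G).subtype (H := H')
        rw [Subgroup.normalizer_eq_top_iff.mpr hH', ← MonoidHom.range_eq_map,
          Subgroup.range_subtype] at h1
        exact h1
      have h2 := key _ (Subgroup.map_subtype_le H') hTN hT1
      apply Subgroup.map_injective (commutator G).subtype_injective
      rw [h2, ← MonoidHom.range_eq_map, Subgroup.range_subtype]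
  · intro hab
    have hCn : (commutator G).Normal := inferInstance
    have hpd : p ∣ Nat.card ↥(commutator G) := by
      by_contra hnd
      have hcop : (Nat.card ↥(commutator G)).Coprime p :=
        ((Nat.Prime.coprime_iff_not_dvd hpp).mpr hnd).symm
      have := Cfsg.Agent.Lib.H22.le_pPrimeCore p _ hCn hcop
      rw [hK, le_bot_iff] at this
      exact hC1 this
    obtain ⟨s, hsC, hs1, c, hc, hcs⟩ := fixed_elt x hx hiso (commutator G) hpd
    have hcomm : ∀ a ∈ commutator G, ∀ b ∈ commutator G, a * b = b * a := by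
      intro a ha b hb
      have := hab.is_comm.comm ⟨a, ha⟩ ⟨b, hb⟩
      exact congrArg Subtype.val this
    have hxs : x * s * x⁻¹ = s := by
      have h1 : c * (x * s * x⁻¹) * c⁻¹ = s := by
        have e : c * (x * s * x⁻¹) * c⁻¹ = (c * x) * s * (c * x)⁻¹ := by group
        rw [e, hcs]
      have h2 : x * s * x⁻¹ = c⁻¹ * s * c := by
        calc x * s * x⁻¹ = c⁻¹ * (c * (x * s * x⁻¹) * c⁻¹) * c := by group
          _ = c⁻¹ * s * c := by rw [h1]
      rw [h2, mul_assoc, hcomm s hsC c hc]; group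
    obtain ⟨D, hD⟩ : ∃ D, D = commutator G ⊓ Subgroup.centralizer ({x} : Set G) := ⟨_, rfl⟩
    have hsD : s ∈ D := by
      rw [hD]
      refine Subgroup.mem_inf.mpr ⟨hsC, ?_⟩
      rw [Subgroup.mem_centralizer_singleton_iff]
      calc s * x = (x * s * x⁻¹) * x := by rw [hxs]
        _ = x * s := by group
    have hD1 : D ≠ ⊥ := by
      intro h
      rw [h, Subgroup.mem_bot] at hsD
      exact hs1 hsD
    have hDC : D ≤ commutator G := hD ▸ inf_le_left
    have hDN : commutator G ≤ Subgroup.normalizer (D : Set G) := by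
      intro a ha
      rw [Subgroup.mem_normalizer_iff]
      intro d
      have e : ∀ d ∈ commutator G, a * d * a⁻¹ = d := by
        intro d hd
        rw [hcomm a ha d hd]; group
      constructor
      · intro hd
        rw [e d (hDC hd)]; exact hd
      · intro hd
        have hdC : d ∈ commutator G := by
          have := hDC hd
          have h3 := hCn.conj_mem _ this a⁻¹
          simpa [mul_assoc] using h3
        rw [e d hdC] at hd; exact hd
    have hDeq := key D hDC hDN hD1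
    apply hxc
    have hcent : x ∈ Subgroup.centralizer ((commutator G ⊔ Subgroup.zpowers x : Subgroup G) : Set G) := by
      rw [Cfsg.Agent.Lib.H15.centralizer_sup]
      refine Subgroup.mem_inf.mpr ⟨?_, ?_⟩
      · rw [Subgroup.mem_centralizer_iff]
        intro a ha
        have haD : a ∈ D := by rw [hDeq]; exact ha
        rw [hD] at haD
        exact (Subgroup.mem_centralizer_singleton_iff.mp haD.2)
      · rw [Subgroup.mem_centralizer_iff]
        intro y hy
        obtain ⟨n, rfl⟩ := Subgroup.mem_zpowers_iff.mp hy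
        exact ((Commute.refl x).zpow_left n).eq
    rw [hsup] at hcent
    rw [Subgroup.mem_center_iff]
    intro g
    exact (Subgroup.mem_centralizer_iff.mp hcent) g (Subgroup.mem_top g)

end Cfsg.Agent.S2972
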