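import Cfsg.Statements.S2975
import Cfsg.Agent.Lib.H15.Isolated
import Cfsg.Agent.Lib.H15.Conj
import Cfsg.Agent.Lib.H15.PGroup
import Cfsg.Agent.Lib.H15.SylowControl
import Cfsg.Agent.Lib.H22.PPrimeCore
import Cfsg.Agent.Lib.H19.HallPi
import Cfsg.Agent.Lib.H1.CoprimeSylow
import Cfsg.Agent.Lib.H1.QuotientBasic

set_option autoImplicit false
open Cfsg

namespace Cfsg.Agent.S2975

open Cfsg.Agent.Lib.H15

variable {G : Type*} [Group G] [Finite G] {p : ℕ} [Fact p.Prime]

/-- Two conjugate subgroups normalized by an isolated `p`-element `x` are conjugate under `C_G(x)`. -/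
theorem conj_in_centralizer {x : G} (hx : orderOf x = p) (hiso : Cfsg.IsIsolated x)
    (A B : Subgroup G) (g : G) (hAB : cj g A = B)
    (hA : x ∈ Subgroup.normalizer (A : Set G)) (hB : x ∈ Subgroup.normalizer (B : Set G)) :
    ∃ c ∈ Subgroup.centralizer ({x} : Set G), cj c A = B := by
  have h1 : g⁻¹ * x * g ∈ Subgroup.normalizer (A : Set G) := by
    rw [← hAB, normalizer_cj, mem_cj_iff] at hB
    exact hB
  have h2 : g⁻¹ * x * g⁻¹⁻¹ ∈ Subgroup.normalizer (A : Set G) := by rwa [inv_inv]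
  obtain ⟨c, hcN, hc⟩ := isolated_conj_in (p := p) ⟨1, by rw [hx, pow_one]⟩ hiso hA h2
  refine ⟨g * c⁻¹, ?_, ?_⟩
  · rw [mem_centralizer_singleton_iff']
    calc g * c⁻¹ * x * (g * c⁻¹)⁻¹
        = g * c⁻¹ * (c * (g⁻¹ * x * g⁻¹⁻¹) * c⁻¹) * (g * c⁻¹)⁻¹ := by rw [hc]
      _ = x := by group
  · rw [← cj_cj, cj_le_of_mem_normalizer (Subgroup.inv_mem _ hcN), hAB]

omit [Fact (Nat.Prime p)] in
theorem inZStar_of_quotient (Q : Subgroup G) [Q.Normal] (hQ : (Nat.card Q).Coprime p) (x : G)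
    (h : Cfsg.InZStar p (QuotientGroup.mk x : G ⧸ Q)) : Cfsg.InZStar p x := by
  intro g
  have hn : (Cfsg.pPrimeCore p (G ⧸ Q)).Normal := Cfsg.Agent.Lib.H22.pPrimeCore_normal p
  have hKn : ((Cfsg.pPrimeCore p (G ⧸ Q)).comap (QuotientGroup.mk' Q)).Normal := hn.comap _
  have hKc : (Nat.card ((Cfsg.pPrimeCore p (G ⧸ Q)).comap (QuotientGroup.mk' Q))).Coprime p := by
    rw [Cfsg.Agent.Lib.H1.card_comap_mk']
    exact Nat.Coprime.mul_left (Cfsg.Agent.Lib.H22.card_pPrimeCore_coprime p) hQ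
  apply Cfsg.Agent.Lib.H22.le_pPrimeCore p _ hKn hKc
  rw [Subgroup.mem_comap]
  have := h (QuotientGroup.mk g)
  simpa using this

theorem part1 (x : G) (hx : orderOf x = p) (hnz : ¬ Cfsg.InZStar p x)
    (hmin : ∀ (H : Subgroup G) (hxH : x ∈ H), H ≠ ⊤ → Cfsg.InZStar p (⟨x, hxH⟩ : ↥H))
    (hquot : ∀ (N : Subgroup G) [N.Normal], N ≠ ⊥ → Cfsg.InZStar p (QuotientGroup.mk x : G ⧸ N))
    (q : ℕ) [hq : Fact q.Prime] (Q : Subgroup G) (hQq : IsPGroup q ↥Q)
    (hxQ : x ∈ Subgroup.normalizer (Q : Set G))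
    (hmax : ∀ R : Subgroup G, IsPGroup q ↥R → x ∈ Subgroup.normalizer (R : Set G) → Q ≤ R → R = Q) :
    Q = ⊥ ∨ ∃ S : Sylow q G, (S : Subgroup G) = Q := by
  have hp : p.Prime := Fact.out
  by_cases hqp : q = p
  · right
    subst hqp
    have hRp : IsPGroup q ↥(Subgroup.zpowers x ⊔ Q) := by
      obtain ⟨a, ha⟩ := IsPGroup.iff_card.mp hQq
      have h1 := Cfsg.Agent.Lib.H19.card_sup_dvd_mul_of_le_normalizer
        (U := Subgroup.zpowers x) (N := Q) (Subgroup.zpowers_le.mpr hxQ)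
      rw [Nat.card_zpowers, hx, ha, ← pow_succ'] at h1
      obtain ⟨b, -, hb⟩ := (Nat.dvd_prime_pow hp).mp h1
      exact IsPGroup.of_card hb
    have hR := hmax _ hRp
      (Subgroup.le_normalizer ((le_sup_left : Subgroup.zpowers x ≤ _) (Subgroup.mem_zpowers x)))
      le_sup_right
    have hxQ' : x ∈ Q := by
      rw [← hR]; exact (le_sup_left : Subgroup.zpowers x ≤ _) (Subgroup.mem_zpowers x)
    obtain ⟨S, hS⟩ := hQq.exists_le_sylow
    exact ⟨S, hmax S S.2 (Subgroup.le_normalizer (hS hxQ')) hS⟩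
  · by_cases hQ : Q = ⊥
    · left; exact hQ
    right
    by_contra hnS
    have hqpr : q.Prime := hq.out
    have hcop : Nat.Coprime p q := (Nat.coprime_primes hp hqpr).mpr (Ne.symm hqp)
    obtain ⟨T, hQT⟩ := hQq.exists_le_sylow
    have hne : Q ≠ (T : Subgroup G) := fun h => hnS ⟨T, h.symm⟩
    have hnil : Group.IsNilpotent ↥(T : Subgroup G) := T.2.isNilpotent
    obtain ⟨r, hrT, hrN, hrQ⟩ := exists_mem_normalizer_not_mem hnil hQT hne
    obtain ⟨N, hN⟩ : ∃ N, N = Subgroup.normalizer (Q : Set G) := ⟨_, rfl⟩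
    rw [← hN] at hxQ hrN
    have hQN : Q ≤ N := hN ▸ Subgroup.le_normalizer
    -- N is proper
    have hNtop : N ≠ ⊤ := by
      intro htop
      have hQn : Q.Normal := by
        rw [← Subgroup.normalizer_eq_top_iff, ← hN]; exact htop
      apply hnz
      obtain ⟨a, ha⟩ := IsPGroup.iff_card.mp hQq
      apply inZStar_of_quotient Q _ x (hquot Q hQ)
      rw [ha]
      exact (Nat.Coprime.pow_right a hcop).symm
    have hZ := hmin N hxQ hNtop
    obtain ⟨W, hW⟩ : ∃ W, W = (Cfsg.pPrimeCore p ↥N).map N.subtype := ⟨_, rfl⟩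
    have hWN : W ≤ N := hW ▸ Subgroup.map_subtype_le _
    have hcomm : ∀ n ∈ N, n * x * n⁻¹ * x⁻¹ ∈ W := by
      intro n hn
      have := hZ ⟨n, hn⟩
      rw [hW]
      exact ⟨_, this, rfl⟩
    have hWc : (Nat.card W).Coprime p := by
      rw [hW, Subgroup.card_map_of_injective N.subtype_injective]
      exact Cfsg.Agent.Lib.H22.card_pPrimeCore_coprime p
    have hcn : (Cfsg.pPrimeCore p ↥N).Normal := Cfsg.Agent.Lib.H22.pPrimeCore_normal p
    have hNW : N ≤ Subgroup.normalizer (W : Set G) := by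
      intro n hn
      apply mem_normalizer_of_cj_le
      intro y hy
      rw [mem_cj_iff, hW] at hy
      obtain ⟨w, hw, hwe⟩ := hy
      have h1 := hcn.conj_mem w hw ⟨n, hn⟩
      rw [hW]
      refine ⟨_, h1, ?_⟩
      simp only [Subgroup.coe_subtype, Subgroup.coe_mul, Subgroup.coe_inv] at hwe ⊢
      rw [hwe]; group
    -- R = Q ⊔ ⟨r⟩
    obtain ⟨R, hR⟩ : ∃ R, R = Q ⊔ Subgroup.zpowers r := ⟨_, rfl⟩
    have hQR : Q ≤ R := hR ▸ le_sup_left
    have hrR : r ∈ R := by rw [hR]; exact (le_sup_right : Subgroup.zpowers r ≤ _) (Subgroup.mem_zpowers r)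
    have hRT : R ≤ T := by rw [hR]; exact sup_le hQT (Subgroup.zpowers_le.mpr hrT)
    have hRN : R ≤ N := by rw [hR]; exact sup_le hQN (Subgroup.zpowers_le.mpr hrN)
    have hRq : IsPGroup q ↥R := T.2.to_le hRT
    obtain ⟨H, hH⟩ : ∃ H, H = R ⊔ W := ⟨_, rfl⟩
    have hRH : R ≤ H := hH ▸ le_sup_left
    have hWH : W ≤ H := hH ▸ le_sup_right
    have hxH : x ∈ Subgroup.normalizer (H : Set G) := by
      apply mem_normalizer_of_cj_le
      show H.map _ ≤ H
      rw [hH, Subgroup.map_sup]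
      apply sup_le
      · intro y hy
        have hy' : y ∈ cj x R := hy
        rw [mem_cj_iff] at hy'
        -- y = x z x⁻¹ with z ∈ R
        have h1 := hcomm _ (hRN hy')
        -- z x z⁻¹ x⁻¹ ∈ W, with z = x⁻¹ y x
        have h2 : y = (x⁻¹ * y * x * x * (x⁻¹ * y * x)⁻¹ * x⁻¹)⁻¹ * (x⁻¹ * y * x) := by group
        rw [h2]
        exact Subgroup.mul_mem _ (hWH.trans_eq hH |> fun h => h (Subgroup.inv_mem _ h1))
          (hRH.trans_eq hH |> fun h => h hy')
      · have h1 : cj x W = W := cj_le_of_mem_normalizer (hNW hxQ)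
        show cj x W ≤ _
        rw [h1]; exact le_sup_right
    have hHc : (Nat.card H).Coprime p := by
      have h1 := Cfsg.Agent.Lib.H19.card_sup_dvd_mul_of_le_normalizer (U := R) (N := W) (hRN.trans hNW)
      rw [← hH] at h1
      obtain ⟨a, ha⟩ := IsPGroup.iff_card.mp hRq
      apply Nat.Coprime.coprime_dvd_left h1
      rw [ha]
      exact Nat.Coprime.mul_left (Nat.Coprime.pow_right a hcop).symm hWc
    have hA : Cfsg.Agent.Lib.H1.CoprimeAction (Subgroup.zpowers x) H :=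
      { normalizes := Subgroup.zpowers_le.mpr hxH
        coprime := by rw [Nat.card_zpowers, hx]; exact hHc.symm
        solvable := Or.inl (by
          have h1 : IsPGroup p ↥(Subgroup.zpowers x) :=
            IsPGroup.of_card (n := 1) (by rw [Nat.card_zpowers, hx, pow_one])
          have := h1.isNilpotent
          infer_instance) }
    obtain ⟨Q', hQ'syl, hQQ', hxQ'⟩ := Cfsg.Agent.Lib.H1.coprime_invariant_psubgroup_le_sylow hA
      (hQR.trans hRH) hQq (Subgroup.zpowers_le.mpr (hN ▸ hxQ))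
    have hQ'eq : Q' = Q := hmax Q' hQ'syl.isPGroup (hxQ' (Subgroup.mem_zpowers x)) hQQ'
    rw [hQ'eq] at hQ'syl
    obtain ⟨a, ha⟩ := IsPGroup.iff_card.mp hRq
    have h1 : q ^ a ∣ Nat.card H := ha ▸ Subgroup.card_dvd_of_le hRH
    have h2 : a ≤ (Nat.card H).factorization q :=
      (hqpr.pow_dvd_iff_le_factorization Nat.card_pos.ne').mp h1
    have h3 : Nat.card R ≤ Nat.card Q := by
      rw [ha, hQ'syl.card_eq]
      exact Nat.pow_le_pow_right hqpr.pos h2
    have h4 : Q = R := eq_of_le_of_card_le' hQR h3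
    exact hrQ (h4 ▸ hrR)

/-- Let G be a finite group, p a prime and x ∈ G an isolated element of order p (the only conjugate of x commuting with x is x) which is not central modulo the largest normal subgroup of order prime to p, while x is central modulo the largest normal subgroup of order prime to p in every proper subgroup containing x, and the image of x is so in every quotient of G by a nontrivial normal subgroup (a minimal counterexample to the Z*_p statement). Then for every prime q, every q-subgroup of G that is normalized by x and maximal among the q-subgroups normalized by x is either trivial or a Sylow q-subgroup of G; and C_G(x) permutes the x-invariant Sylow q-subgroups of G transitively by conjugation. -/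
theorem result {G : Type*} [Group G] [Finite G] {p : ℕ} [Fact p.Prime] (x : G) (hx : orderOf x = p) (hiso : Cfsg.IsIsolated x) (hnz : ¬ Cfsg.InZStar p x) (hmin : ∀ (H : Subgroup G) (hxH : x ∈ H), H ≠ ⊤ → Cfsg.InZStar p (⟨x, hxH⟩ : ↥H)) (hquot : ∀ (N : Subgroup G) [N.Normal], N ≠ ⊥ → Cfsg.InZStar p (QuotientGroup.mk x : G ⧸ N)) (q : ℕ) [Fact q.Prime] : (∀ Q : Subgroup G, IsPGroup q ↥Q → x ∈ Subgroup.normalizer (Q : Set G) → (∀ R : Subgroup G, IsPGroup q ↥R → x ∈ Subgroup.normalizer (R : Set G) → Q ≤ R → R = Q) → Q = ⊥ ∨ ∃ S : Sylow q G, (S : Subgroup G) = Q) ∧ (∀ S₁ S₂ : Sylow q G, x ∈ Subgroup.normalizer ((S₁ : Subgroup G) : Set G) → x ∈ Subgroup.normalizer ((S₂ : Subgroup G) : Set G) → ∃ c ∈ Subgroup.centralizer ({x} : Set G), (S₁ : Subgroup G).map (MulAut.conj c).toMonoidHom = (S₂ : Subgroup G)) := by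
  refine ⟨fun Q hQq hxQ hmax => part1 x hx hnz hmin hquot q Q hQq hxQ hmax, ?_⟩
  intro S₁ S₂ h1 h2
  obtain ⟨g, hg⟩ := MulAction.exists_smul_eq G S₁ S₂
  have hg' : cj g (S₁ : Subgroup G) = (S₂ : Subgroup G) := by
    rw [← coe_smul_sylow_eq_cj, hg]
  exact conj_in_centralizer hx hiso _ _ g hg' h1 h2


end Cfsg.Agent.S2975
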