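import Cfsg.Statements.S2998
import Cfsg.Agent.Lib.H15.Isolated
import Cfsg.Agent.Lib.H15.SylowNormal

set_option autoImplicit false
open Cfsg

namespace Cfsg.Agent.S2998

open Cfsg.Agent.Lib.H15 Cfsg.Agent.Lib.H5

theorem cj_top {G : Type*} [Group G] (g : G) : cj g (⊤ : Subgroup G) = ⊤ := by
  rw [eq_top_iff]
  intro y _
  rw [mem_cj_iff]; trivial

theorem sylow_le_centralizer {G : Type*} [Group G] [Finite G] {p : ℕ} [Fact p.Prime] (P : Sylow p G)
    (x : G)
    (hlc : ∀ R : Subgroup G, R ≤ (P : Subgroup G) → R ≠ ⊥ →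
      Subgroup.normalizer (R : Set G) ≤ Subgroup.centralizer ({x} : Set G)) :
    (P : Subgroup G) ≤ Subgroup.centralizer ({x} : Set G) := by
  by_cases hP : (P : Subgroup G) = ⊥
  · rw [hP]; exact bot_le
  · exact Subgroup.le_normalizer.trans (hlc P le_rfl hP)

theorem conj_eq {G : Type*} [Group G] [Finite G] {p : ℕ} [Fact p.Prime] (P : Sylow p G)
    (x : G) (hxP : x ∈ (P : Subgroup G))
    (hlc : ∀ R : Subgroup G, R ≤ (P : Subgroup G) → R ≠ ⊥ →
      Subgroup.normalizer (R : Set G) ≤ Subgroup.centralizer ({x} : Set G))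
    (g : G) (hg : g * x * g⁻¹ ∈ (P : Subgroup G)) : g * x * g⁻¹ = x := by
  have hPC := sylow_le_centralizer P x hlc
  by_cases hx1 : x = 1
  · rw [hx1]; group
  have hPne : (P : Subgroup G) ≠ ⊥ := by
    intro h
    rw [h, Subgroup.mem_bot] at hxP
    exact hx1 hxP
  obtain ⟨y, hy⟩ : ∃ y, y = g * x * g⁻¹ := ⟨_, rfl⟩
  rw [← hy] at hg ⊢
  have hy1 : y ≠ 1 := by
    intro h
    apply hx1
    have : x = g⁻¹ * y * g := by rw [hy]; group
    rw [this, h]; group
  have hzne : Subgroup.zpowers y ≠ ⊥ := by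
    intro h
    rw [Subgroup.zpowers_eq_bot] at h
    exact hy1 h
  have hCy : Subgroup.centralizer ({y} : Set G) ≤ Subgroup.centralizer ({x} : Set G) := by
    refine le_trans ?_ (hlc (Subgroup.zpowers y) ((Subgroup.zpowers_le).mpr hg) hzne)
    intro c hc
    rw [Subgroup.mem_normalizer_iff]
    have hcy : c * y * c⁻¹ = y := mem_centralizer_singleton_iff'.mp hc
    intro h
    constructor
    · intro hh
      obtain ⟨n, rfl⟩ := Subgroup.mem_zpowers_iff.mp hh
      have : c * y ^ n * c⁻¹ = (c * y * c⁻¹) ^ n := by rw [conj_zpow]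
      rw [this, hcy]
      exact Subgroup.zpow_mem_zpowers y n
    · intro hh
      obtain ⟨n, hn⟩ := Subgroup.mem_zpowers_iff.mp hh
      have : h = c⁻¹ * (c * h * c⁻¹) * c := by group
      rw [this, ← hn]
      have hcy' : c⁻¹ * y * c = y := by
        calc c⁻¹ * y * c = c⁻¹ * (c * y * c⁻¹) * c := by rw [hcy]
          _ = y := by group
      have : c⁻¹ * y ^ n * c = (c⁻¹ * y * c) ^ n := by
        have := conj_zpow (a := c⁻¹) (b := y) (i := n)
        simpa using this.symm
      rw [this, hcy']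
      exact Subgroup.zpow_mem_zpowers y n
  have hcjP : cj g (P : Subgroup G) ≤ Subgroup.centralizer ({x} : Set G) := by
    refine le_trans ?_ hCy
    rintro _ ⟨u, hu, rfl⟩
    rw [Subgroup.mem_centralizer_singleton_iff]
    have hux : u * x = x * u := by
      have := hPC hu
      rw [Subgroup.mem_centralizer_singleton_iff] at this
      exact this
    simp only [MulEquiv.coe_toMonoidHom, MulAut.conj_apply]
    rw [hy]
    calc g * u * g⁻¹ * (g * x * g⁻¹) = g * (u * x) * g⁻¹ := by group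
      _ = g * (x * u) * g⁻¹ := by rw [hux]
      _ = g * x * g⁻¹ * (g * u * g⁻¹) := by group
  have hS1 : IsSylowIn p (P : Subgroup G) (Subgroup.centralizer ({x} : Set G)) :=
    (isSylowIn_top_of_sylow P).mono hPC le_top
  have hS2 : IsSylowIn p (cj g (P : Subgroup G)) (Subgroup.centralizer ({x} : Set G)) := by
    have := isSylowIn_cj (isSylowIn_top_of_sylow P) g
    rw [cj_top] at this
    exact this.mono hcjP le_top
  obtain ⟨z, hzC, hz⟩ := IsSylowIn.exists_cj_eq hS2 hS1
  rw [cj_cj] at hz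
  have hzg : z * g ∈ Subgroup.centralizer ({x} : Set G) :=
    hlc P le_rfl hPne (mem_normalizer_iff_cj_eq.mpr hz.symm)
  have hgC : g ∈ Subgroup.centralizer ({x} : Set G) := by
    have := Subgroup.mul_mem _ (Subgroup.inv_mem _ hzC) hzg
    simpa using this
  rw [hy]
  exact mem_centralizer_singleton_iff'.mp hgC

theorem quotient_part {G : Type*} [Group G] [Finite G] {p : ℕ} [Fact p.Prime] (P : Sylow p G)
    (x : G)
    (hlc : ∀ R : Subgroup G, R ≤ (P : Subgroup G) → R ≠ ⊥ →
      Subgroup.normalizer (R : Set G) ≤ Subgroup.centralizer ({x} : Set G))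
    (N : Subgroup G) [N.Normal] (R : Subgroup (G ⧸ N))
    (hR : R ≤ (P : Subgroup G).map (QuotientGroup.mk' N)) (hRne : R ≠ ⊥) :
    Subgroup.normalizer (R : Set (G ⧸ N)) ≤
      Subgroup.centralizer ({(QuotientGroup.mk x : G ⧸ N)} : Set (G ⧸ N)) := by
  have hPC := sylow_le_centralizer P x hlc
  intro gbar hgbar
  obtain ⟨g, rfl⟩ := QuotientGroup.mk_surjective gbar
  set L := R.comap (QuotientGroup.mk' N) with hL
  set R1 := (P : Subgroup G) ⊓ L with hR1
  have hS1 : IsSylowIn p R1 L := isSylowIn_preimage P N R hR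
  have hR1ne : R1 ≠ ⊥ := by
    intro h
    apply hRne
    rw [eq_bot_iff]
    intro r hr
    obtain ⟨u, hu, rfl⟩ := hR hr
    have : u ∈ R1 := Subgroup.mem_inf.mpr ⟨hu, by rw [hL, Subgroup.mem_comap]; exact hr⟩
    rw [h, Subgroup.mem_bot] at this
    rw [this, map_one]; exact Subgroup.one_mem _
  have hcjL : cj g L = L := by
    ext y
    rw [mem_cj_iff, hL, Subgroup.mem_comap, Subgroup.mem_comap]
    have hinv : (QuotientGroup.mk g : G ⧸ N)⁻¹ ∈ Subgroup.normalizer (R : Set (G ⧸ N)) :=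
      Subgroup.inv_mem _ hgbar
    have := (Subgroup.mem_normalizer_iff.mp hinv) (QuotientGroup.mk' N y)
    rw [this]
    simp
  have hS2 : IsSylowIn p (cj g R1) L := by
    have := isSylowIn_cj hS1 g
    rwa [hcjL] at this
  obtain ⟨l, hlL, hl⟩ := IsSylowIn.exists_cj_eq hS2 hS1
  rw [cj_cj] at hl
  have hlg : l * g ∈ Subgroup.centralizer ({x} : Set G) :=
    hlc R1 inf_le_left hR1ne (mem_normalizer_iff_cj_eq.mpr hl.symm)
  -- image of l commutes with image of x
  have hlbar : (QuotientGroup.mk l : G ⧸ N) ∈ Subgroup.centralizer ({(QuotientGroup.mk x : G ⧸ N)} : Set (G ⧸ N)) := by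
    have h1 : QuotientGroup.mk' N l ∈ R := hlL
    obtain ⟨u, hu, hul⟩ := hR h1
    have h2 := hPC hu
    rw [Subgroup.mem_centralizer_singleton_iff] at h2 ⊢
    have h3 : (QuotientGroup.mk l : G ⧸ N) = QuotientGroup.mk u := hul.symm
    rw [h3, ← QuotientGroup.mk_mul, ← QuotientGroup.mk_mul, h2]
  have hlgbar : (QuotientGroup.mk (l * g) : G ⧸ N) ∈ Subgroup.centralizer ({(QuotientGroup.mk x : G ⧸ N)} : Set (G ⧸ N)) := by
    rw [Subgroup.mem_centralizer_singleton_iff] at hlg ⊢
    rw [← QuotientGroup.mk_mul, ← QuotientGroup.mk_mul, hlg]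
  have := Subgroup.mul_mem _ (Subgroup.inv_mem _ hlbar) hlgbar
  simpa using this

/-- Let G be a finite group, p a prime, P a Sylow p-subgroup of G and x ∈ P an element such that N_G(R) ≤ C_G(x) for every nontrivial subgroup R of P. Then P ≤ C_G(x); every G-conjugate of x lying in P equals x (so g ∈ C_G(x) whenever g x g⁻¹ ∈ P); and for every normal subgroup N of G, the image of x in G ⧸ N has the same property with respect to the image of P: the normalizer of every nontrivial subgroup of the image of P centralizes the image of x. -/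
theorem result {G : Type*} [Group G] [Finite G] {p : ℕ} [Fact p.Prime] (P : Sylow p G) (x : G) (hxP : x ∈ (P : Subgroup G)) (hlc : ∀ R : Subgroup G, R ≤ (P : Subgroup G) → R ≠ ⊥ → Subgroup.normalizer (R : Set G) ≤ Subgroup.centralizer ({x} : Set G)) : (P : Subgroup G) ≤ Subgroup.centralizer ({x} : Set G) ∧ (∀ g : G, g * x * g⁻¹ ∈ (P : Subgroup G) → g * x * g⁻¹ = x) ∧ ∀ (N : Subgroup G) [N.Normal], ∀ R : Subgroup (G ⧸ N), R ≤ (P : Subgroup G).map (QuotientGroup.mk' N) → R ≠ ⊥ → Subgroup.normalizer (R : Set (G ⧸ N)) ≤ Subgroup.centralizer ({(QuotientGroup.mk x : G ⧸ N)} : Set (G ⧸ N)) := by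
  exact ⟨sylow_le_centralizer P x hlc, fun g hg => conj_eq P x hxP hlc g hg,
    fun N _ R hR hRne => quotient_part P x hlc N R hR hRne⟩

end Cfsg.Agent.S2998
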