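import Cfsg.Statements.S3003
import Mathlib
import Cfsg.Agent.Lib.H7.CoprimeGen
import Cfsg.Agent.Lib.H7.Hyperplane

set_option autoImplicit false
open Cfsg

namespace Cfsg.Agent.S3003

theorem isCoatom_of_index_prime {H : Type*} [Group H] [Finite H] {p : ℕ} (hp : p.Prime)
    (K : Subgroup H) (hK : K.index = p) : IsCoatom K := by
  constructor
  · intro h
    rw [h, Subgroup.index_top] at hK
    exact hp.one_lt.ne hK
  · intro L hL
    have h1 : L.index ∣ p := hK ▸ Subgroup.index_dvd_of_le hL.le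
    rcases (Nat.dvd_prime hp).mp h1 with h2 | h2
    · exact Subgroup.index_eq_one.mp h2
    · exfalso
      have h3 : Nat.card K = Nat.card L := by
        have e1 := Subgroup.card_mul_index K
        have e2 := Subgroup.card_mul_index L
        rw [hK] at e1
        rw [h2] at e2
        have : Nat.card K * p = Nat.card L * p := e1.trans e2.symm
        exact Nat.eq_of_mul_eq_mul_right hp.pos this
      have h4 : K = L := Subgroup.eq_of_le_of_card_ge hL.le h3.ge
      exact hL.ne h4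

theorem key {G : Type*} [Group G] [Finite G] {p : ℕ} [Fact p.Prime] (Q : Subgroup G)
    (hQp : IsPGroup p ↥Q) (hlarge : Cfsg.IsLarge Q) (G₁ : Subgroup G) (hQG : Q ≤ G₁)
    (R : Subgroup G) (hR : (Nat.card ↥R).Coprime p) (hGR : G₁ ≤ Subgroup.normalizer (R : Set G))
    (U : Subgroup G)
    (h : ∃ x ∈ U, x ≠ 1 ∧ ∃ g ∈ G₁, g * x * g⁻¹ ∈ Q ⊓ Subgroup.centralizer (Q : Set G)) :
    R ⊓ Subgroup.centralizer (U : Set G) = ⊥ := by
  obtain ⟨x, hxU, hx1, g, hg, hz⟩ := h
  have hQR : ∀ y, y ∈ Q → y ∈ R → y = 1 := by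
    intro y hyQ hyR
    have h1 : orderOf y ∣ Nat.card R := Subgroup.orderOf_dvd_natCard R hyR
    obtain ⟨k, hk⟩ := hQp ⟨y, hyQ⟩
    have h2 : orderOf y ∣ p ^ k := by
      apply orderOf_dvd_of_pow_eq_one
      have := congrArg Subtype.val hk
      simpa using this
    have h3 : (Nat.card R).Coprime (p ^ k) := hR.pow_right k
    have h4 : orderOf y ∣ Nat.gcd (Nat.card R) (p ^ k) := Nat.dvd_gcd h1 h2
    rw [h3] at h4
    exact orderOf_eq_one_iff.mp (Nat.dvd_one.mp h4)
  rw [eq_bot_iff]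
  intro r hr
  obtain ⟨hrR, hrC⟩ := hr
  rw [Subgroup.mem_bot]
  have hcR : g * r * g⁻¹ ∈ R := (Subgroup.mem_normalizer_iff.mp (hGR hg) r).mp hrR
  have hrx : x * r = r * x := hrC x hxU
  have hcz : (g * x * g⁻¹) * (g * r * g⁻¹) = (g * r * g⁻¹) * (g * x * g⁻¹) := by
    have e1 : (g * r * g⁻¹) * (g * x * g⁻¹) = g * (r * x) * g⁻¹ := by group
    have e2 : (g * x * g⁻¹) * (g * r * g⁻¹) = g * (x * r) * g⁻¹ := by group
    rw [e1, e2, hrx]
  have hz1 : g * x * g⁻¹ ≠ 1 := by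
    intro h
    apply hx1
    have : x = g⁻¹ * (g * x * g⁻¹) * g := by group
    rw [this, h]; group
  set z := g * x * g⁻¹ with hzdef
  set c := g * r * g⁻¹ with hcdef
  have hzle : Subgroup.zpowers z ≤ Subgroup.centralizer (Q : Set G) := by
    rw [Subgroup.zpowers_le]; exact hz.2
  have hzne : Subgroup.zpowers z ≠ ⊥ := by
    intro h
    rw [Subgroup.zpowers_eq_bot] at h
    exact hz1 h
  have hN := hlarge.2 _ hzle hzne
  have hcN : c ∈ Subgroup.normalizer ((Subgroup.zpowers z : Subgroup G) : Set G) := by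
    apply Subgroup.centralizer_le_normalizer
    have : Subgroup.zpowers z ≤ Subgroup.centralizer {c} := by
      rw [Subgroup.zpowers_le, Subgroup.mem_centralizer_singleton_iff]
      exact hcz
    intro y hy
    have := this hy
    rw [Subgroup.mem_centralizer_singleton_iff] at this
    exact this
  have hcNQ : c ∈ Subgroup.normalizer (Q : Set G) := hN hcN
  have hcCQ : c ∈ Subgroup.centralizer (Q : Set G) := by
    intro q hq
    have h1 : c * q * c⁻¹ * q⁻¹ ∈ Q :=
      Q.mul_mem ((Subgroup.mem_normalizer_iff.mp hcNQ q).mp hq) (Q.inv_mem hq)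
    have h2 : c * q * c⁻¹ * q⁻¹ ∈ R := by
      have h3 : q * c⁻¹ * q⁻¹ ∈ R :=
        (Subgroup.mem_normalizer_iff.mp (hGR (hQG hq)) c⁻¹).mp (R.inv_mem hcR)
      have : c * q * c⁻¹ * q⁻¹ = c * (q * c⁻¹ * q⁻¹) := by group
      rw [this]
      exact R.mul_mem hcR h3
    have h4 := hQR _ h1 h2
    have : c * q = (c * q * c⁻¹ * q⁻¹) * (q * c) := by group
    rw [this, h4, one_mul]
  have hc1 : c = 1 := hQR c (hlarge.1 hcCQ) hcR
  have : r = g⁻¹ * c * g := by rw [hcdef]; group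
  rw [this, hc1]; group

/-- Let G be a finite group, p a prime and Q a large p-subgroup of G: C_G(Q) ≤ Q and N_G(U) ≤ N_G(Q) for every nontrivial subgroup U of C_G(Q). Let Q ≤ G₁ ≤ G, let R be a subgroup of order prime to p normalized by G₁, and let U ≤ G₁ be a p-subgroup. If U contains a nontrivial element which is G₁-conjugate to an element of Z(Q), then C_R(U) = 1. In particular, if U is elementary abelian of order at least p² and every maximal subgroup of U contains a nontrivial element G₁-conjugate into Z(Q), then R = 1. -/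
theorem result {G : Type*} [Group G] [Finite G] {p : ℕ} [Fact p.Prime] (Q : Subgroup G) (hQp : IsPGroup p ↥Q) (hlarge : Cfsg.IsLarge Q) (G₁ : Subgroup G) (hQG : Q ≤ G₁) (R : Subgroup G) (hR : (Nat.card ↥R).Coprime p) (hGR : G₁ ≤ Subgroup.normalizer (R : Set G)) (U : Subgroup G) (hUG : U ≤ G₁) (hUp : IsPGroup p ↥U) : ((∃ x ∈ U, x ≠ 1 ∧ ∃ g ∈ G₁, g * x * g⁻¹ ∈ Q ⊓ Subgroup.centralizer (Q : Set G)) → R ⊓ Subgroup.centralizer (U : Set G) = ⊥) ∧ (Cfsg.IsElementaryAbelian p U → p ^ 2 ≤ Nat.card ↥U → (∀ U₀ : Subgroup G, U₀ ≤ U → IsCoatom (U₀.subgroupOf U) → ∃ x ∈ U₀, x ≠ 1 ∧ ∃ g ∈ G₁, g * x * g⁻¹ ∈ Q ⊓ Subgroup.centralizer (Q : Set G)) → R = ⊥) := by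
  refine ⟨fun h => key Q hQp hlarge G₁ hQG R hR hGR U h, ?_⟩
  intro hU hcard hall
  have hgen := Cfsg.Agent.Lib.H7.le_hypGen p (A := U) (X := R)
    (fun a ha b hb => by
      have := hU.1.is_comm.comm ⟨a, ha⟩ ⟨b, hb⟩
      exact congrArg Subtype.val this)
    hU.2 hR (hUG.trans hGR)
  rw [eq_bot_iff]
  refine hgen.trans ?_
  unfold Cfsg.Agent.Lib.H7.hypGen
  apply iSup_le
  rintro ⟨B, hBU, hBp⟩
  have hU1 : U ≠ ⊥ := by
    intro h
    rw [h, Subgroup.card_bot] at hcard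
    have := (Fact.out : p.Prime).one_lt
    nlinarith
  obtain ⟨B₁, hB₁B, hB₁p⟩ := Cfsg.Agent.Lib.H7.exists_hyperplane_le p hUp hU1 hBU hBp
  have hco : IsCoatom (B₁.subgroupOf U) := isCoatom_of_index_prime Fact.out _ hB₁p
  have hk := key Q hQp hlarge G₁ hQG R hR hGR B₁ (hall B₁ (hB₁B.trans hBU) hco)
  rw [← hk]
  exact inf_le_inf_left _ (Subgroup.centralizer_le hB₁B)

end Cfsg.Agent.S3003
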