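import Cfsg.Statements.S3006
import Cfsg.Agent.Lib.H15.CLAb

set_option autoImplicit false
open scoped Pointwise
open Cfsg

namespace Cfsg.Agent.S3006

open Cfsg.Agent.Lib.H15

theorem key {G : Type*} [Group G] [Finite G] {Q A : Subgroup G} (hQ : Cfsg.IsCentrallyLarge Q)
    (hA : A ∈ Cfsg.maxAbelianSubgroups G) (x : G)
    (hx : x ∈ (Q ⊔ A) ⊓ Subgroup.centralizer ((Q ⊓ A : Subgroup G) : Set G)) :
    x ∈ ((Q ⊓ Subgroup.centralizer (Q : Set G) : Subgroup G) : Set G) * (A : Set G) := by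
  obtain ⟨e1, _, hY, e4, _⟩ := cl_maxAbelian hQ hA
  have hQA := coe_sup_eq_mul_of_card_eq Q A e1
  have hYset := coe_sup_eq_mul_of_card_eq _ _ e4
  have hCY := maxAbelian_centralizer hY
  have hAcent : A ≤ Subgroup.centralizer ((Q ⊓ A : Subgroup G) : Set G) :=
    (Subgroup.le_centralizer_iff_isMulCommutative.mpr hA.1).trans
      (Subgroup.centralizer_le (fun x hx => (inf_le_right : Q ⊓ A ≤ A) hx))
  have hx1 : x ∈ ((Q ⊔ A : Subgroup G) : Set G) := hx.1
  rw [hQA] at hx1
  obtain ⟨q, hq, a, ha, rfl⟩ := Set.mem_mul.mp hx1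
  have hq2 : q ∈ Subgroup.centralizer ((Q ⊓ A : Subgroup G) : Set G) := by
    have h1 := (Subgroup.centralizer _).mul_mem hx.2 ((Subgroup.centralizer _).inv_mem (hAcent ha))
    simpa using h1
  have hqY : q ∈ (Q ⊓ Subgroup.centralizer (Q : Set G)) ⊔ (A ⊓ Q) := by
    rw [← hCY, centralizer_sup]
    refine ⟨?_, ?_⟩
    · have : Q ≤ Subgroup.centralizer ((Q ⊓ Subgroup.centralizer (Q : Set G) : Subgroup G) : Set G) := by
        rw [Subgroup.le_centralizer_iff]; exact inf_le_right
      exact this hq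
    · rw [inf_comm]; exact hq2
  have hqY' : q ∈ (((Q ⊓ Subgroup.centralizer (Q : Set G)) ⊔ (A ⊓ Q) : Subgroup G) : Set G) := hqY
  rw [hYset] at hqY'
  obtain ⟨z, hz, b, hb, rfl⟩ := Set.mem_mul.mp hqY'
  refine Set.mem_mul.mpr ⟨z, hz, b * a, A.mul_mem hb.1 ha, by rw [mul_assoc]⟩

theorem maxAb_le_join {G : Type*} [Group G] [Finite G] {A : Subgroup G}
    (hA : A ∈ Cfsg.maxAbelianSubgroups G) : A ≤ Cfsg.centrallyLargeJoin G := by
  have hT : Cfsg.IsCentrallyLarge (Cfsg.centrallyLargeJoin G) := cl_join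
  have h2 := (cl_maxAbelian hT hA).2.1
  exact le_sup_right.trans (le_cl_join h2)

/-- Let P be a finite p-group, Q a centrally large subgroup of P (|Q|·|Z(Q)| maximal among subgroups of P) and A an abelian subgroup of P of largest order. Then QA = AQ is a centrally large subgroup of P, C_{QA}(Q ∩ A) = Z(Q)·A, and the subgroup generated by all centrally large subgroups of P contains C_P(Z(J(P))), where J(P) is generated by the abelian subgroups of largest order. -/
theorem result {p : ℕ} [Fact p.Prime] (P : Type*) [Group P] [Finite P] (hP : IsPGroup p P) (Q A : Subgroup P) (hQ : Cfsg.IsCentrallyLarge Q) (hA : A ∈ Cfsg.maxAbelianSubgroups P) : ((Q ⊔ A : Subgroup P) : Set P) = (Q : Set P) * (A : Set P) ∧ Cfsg.IsCentrallyLarge (Q ⊔ A) ∧ (Q ⊔ A) ⊓ Subgroup.centralizer ((Q ⊓ A : Subgroup P) : Set P) = (Q ⊓ Subgroup.centralizer (Q : Set P)) ⊔ A ∧ (((Q ⊓ Subgroup.centralizer (Q : Set P)) ⊔ A : Subgroup P) : Set P) = ((Q ⊓ Subgroup.centralizer (Q : Set P)) : Set P)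 * (A : Set P) ∧ Subgroup.centralizer ((Cfsg.thompsonSubgroupA P ⊓ Subgroup.centralizer (Cfsg.thompsonSubgroupA P : Set P) : Subgroup P) : Set P) ≤ Cfsg.centrallyLargeJoin P := by
  obtain ⟨e1, hcl, hY, e4, hCH⟩ := cl_maxAbelian hQ hA
  have hZA_le : (Q ⊓ Subgroup.centralizer (Q : Set P)) ⊔ A
      ≤ (Q ⊔ A) ⊓ Subgroup.centralizer ((Q ⊓ A : Subgroup P) : Set P) := by
    apply sup_le
    · refine le_inf (inf_le_left.trans le_sup_left) ?_
      exact inf_le_right.trans (Subgroup.centralizer_le (fun x hx => (inf_le_left : Q ⊓ A ≤ Q) hx))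
    · refine le_inf le_sup_right ?_
      exact (Subgroup.le_centralizer_iff_isMulCommutative.mpr hA.1).trans
        (Subgroup.centralizer_le (fun x hx => (inf_le_right : Q ⊓ A ≤ A) hx))
  have hmul_le : ∀ x : P, x ∈ ((Q ⊓ Subgroup.centralizer (Q : Set P) : Subgroup P) : Set P) * (A : Set P) →
      x ∈ (Q ⊓ Subgroup.centralizer (Q : Set P)) ⊔ A := by
    rintro _ ⟨z, hz, a, ha, rfl⟩
    exact Subgroup.mul_mem _ ((le_sup_left : _ ≤ (Q ⊓ Subgroup.centralizer (Q : Set P)) ⊔ A) hz)
      ((le_sup_right : A ≤ (Q ⊓ Subgroup.centralizer (Q : Set P)) ⊔ A) ha)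
  refine ⟨coe_sup_eq_mul_of_card_eq Q A e1, hcl, ?_, ?_, ?_⟩
  · apply le_antisymm
    · intro x hx
      exact hmul_le x (key hQ hA x hx)
    · exact hZA_le
  · apply Set.Subset.antisymm
    · intro x hx
      exact key hQ hA x (hZA_le hx)
    · intro x hx
      exact hmul_le x hx
  · set T := Cfsg.centrallyLargeJoin P with hTdef
    have hT : Cfsg.IsCentrallyLarge T := cl_join
    have hJT : Cfsg.thompsonSubgroupA P ≤ T := by
      unfold Cfsg.thompsonSubgroupA
      apply sSup_le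
      intro A' hA'
      exact maxAb_le_join hA'
    have hAJ : A ≤ Cfsg.thompsonSubgroupA P := le_sSup hA
    have hCT : Subgroup.centralizer (T : Set P)
        ≤ Cfsg.thompsonSubgroupA P ⊓ Subgroup.centralizer (Cfsg.thompsonSubgroupA P : Set P) := by
      refine le_inf ?_ (Subgroup.centralizer_le (fun x hx => hJT hx))
      have h1 : Subgroup.centralizer (T : Set P) ≤ Subgroup.centralizer (A : Set P) :=
        Subgroup.centralizer_le (fun x hx => hJT (hAJ hx))
      rw [maxAbelian_centralizer hA] at h1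
      exact h1.trans hAJ
    have hTT := (cd_centralizer (cl_large hT).1).2
    calc Subgroup.centralizer ((Cfsg.thompsonSubgroupA P ⊓ Subgroup.centralizer (Cfsg.thompsonSubgroupA P : Set P) : Subgroup P) : Set P)
        ≤ Subgroup.centralizer ((Subgroup.centralizer (T : Set P) : Subgroup P) : Set P) :=
          Subgroup.centralizer_le (fun x hx => hCT hx)
      _ = T := hTT.symm

end Cfsg.Agent.S3006
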