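import Cfsg.Statements.S3007
import Cfsg.Agent.Lib.H15.MCL

set_option autoImplicit false
open Cfsg

namespace Cfsg.Agent.S3007

open Cfsg.Agent.Lib.H15

theorem comm_of_commutator_eq_bot {G : Type*} [Group G] {X : Subgroup G} (h : ⁅X, X⁆ = ⊥) :
    IsMulCommutative ↥X := by
  rw [← Subgroup.le_centralizer_iff_isMulCommutative, ← Subgroup.commutator_eq_bot_iff_le_centralizer]
  exact h

theorem commutator_eq_bot_of_comm {G : Type*} [Group G] {X : Subgroup G} (h : IsMulCommutative ↥X) :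
    ⁅X, X⁆ = ⊥ := by
  rw [Subgroup.commutator_eq_bot_iff_le_centralizer, Subgroup.le_centralizer_iff_isMulCommutative]
  exact h

theorem abelian_case {G : Type*} [Group G] [Finite G] {Q : Subgroup G}
    (hQ : Cfsg.IsMinimalCentrallyLarge Q) (hab : IsMulCommutative ↥Q) (X : Subgroup G) :
    Cfsg.IsMinimalCentrallyLarge X ↔ X ∈ Cfsg.maxAbelianSubgroups G := by
  have hfQ : fz Q = Nat.card Q * Nat.card Q := fz_eq_of_comm Q hab
  have hQmax : ∀ B : Subgroup G, IsMulCommutative ↥B → Nat.card B ≤ Nat.card Q := by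
    intro B hB
    have h1 := (isCentrallyLarge_iff.mp hQ.1) B
    rw [hfQ, fz_eq_of_comm B hB] at h1
    exact Nat.mul_self_le_mul_self_iff.mp h1
  have hQA : Q ∈ Cfsg.maxAbelianSubgroups G := ⟨hab, hQmax⟩
  constructor
  · intro hX
    have h1 : ⁅X, X⁆ = ⊥ := by rw [mcl_commutator_eq hX hQ]; exact commutator_eq_bot_of_comm hab
    have h2 := (mcl_card hX hQ).1
    exact ⟨comm_of_commutator_eq_bot h1, fun B hB => h2 ▸ hQmax B hB⟩
  · intro hX
    have hc : Nat.card X = Nat.card Q := maxAbelian_card_eq hX hQA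
    have hfX : fz X = fz Q := by rw [hfQ, fz_eq_of_comm X hX.1, hc]
    have hXcl : Cfsg.IsCentrallyLarge X := by
      rw [isCentrallyLarge_iff]
      intro K
      rw [hfX]
      exact (isCentrallyLarge_iff.mp hQ.1) K
    refine ⟨hXcl, ?_⟩
    intro X' hle hX'
    have hX'ab : IsMulCommutative ↥X' := isMulCommutative_of_le hX.1 hle
    have h1 := (isCentrallyLarge_iff.mp hX') X
    rw [fz_eq_of_comm X hX.1, fz_eq_of_comm X' hX'ab] at h1
    exact eq_of_le_of_card_le hle (Nat.mul_self_le_mul_self_iff.mp h1)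

/-- Let P be a finite p-group and Q, R minimal centrally large subgroups of P (centrally large: |Q|·|Z(Q)| maximal among subgroups of P; minimal among such under inclusion). Then Q = (Q ∩ R)·Z(Q), the derived subgroups [Q, Q] and [R, R] coincide, |Q| = |R| and |Z(Q)| = |Z(R)|; and if Q is abelian then the minimal centrally large subgroups of P are exactly the abelian subgroups of P of largest order. -/
theorem result {p : ℕ} [Fact p.Prime] (P : Type*) [Group P] [Finite P] (hP : IsPGroup p P) (Q R : Subgroup P) (hQ : Cfsg.IsMinimalCentrallyLarge Q) (hR : Cfsg.IsMinimalCentrallyLarge R) : (Q ⊓ R) ⊔ (Q ⊓ Subgroup.centralizer (Q : Set P)) = Q ∧ ⁅Q, Q⁆ = ⁅R, R⁆ ∧ Nat.card ↥Q = Nat.card ↥R ∧ Nat.card ↥(Q ⊓ Subgroup.centralizer (Q : Set P)) = Nat.card ↥(R ⊓ Subgroup.centralizer (R : Set P)) ∧ (IsMulCommutative ↥Q → ∀ X : Subgroup P, Cfsg.IsMinimalCentrallyLarge X ↔ X ∈ Cfsg.maxAbelianSubgroups P) := by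
  have hCQ := (cl_large hQ.1).2
  have hCR := (cl_large hR.1).2
  refine ⟨?_, mcl_commutator_eq hQ hR, (mcl_card hQ hR).1, ?_, fun hab X => abelian_case hQ hab X⟩
  · rw [← hCQ]; exact mcl_decomp hQ hR
  · rw [← hCQ, ← hCR]; exact (mcl_card hQ hR).2

end Cfsg.Agent.S3007
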