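import Cfsg.Statements.S3008
import Cfsg.Agent.Lib.H15.CLAb
import Cfsg.Agent.Lib.H15.MCL
import Cfsg.Agent.S3006
import Cfsg.Agent.S3007
import Cfsg.Agent.Lib.H10.CLBMain

set_option autoImplicit false
open scoped Pointwise
open Cfsg

namespace Cfsg.Agent.S3008

open Cfsg.Agent.Lib.H15

/-- `N(H) ≤ N(C(H))`. -/
theorem normalizer_le_normalizer_centralizer {G : Type*} [Group G] (H : Subgroup G) :
    Subgroup.normalizer (H : Set G) ≤ Subgroup.normalizer ((Subgroup.centralizer (H : Set G) : Subgroup G) : Set G) := by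
  intro g hg
  rw [Subgroup.mem_normalizer_iff]
  have key : ∀ (k : G), k ∈ Subgroup.normalizer (H : Set G) → ∀ x, x ∈ Subgroup.centralizer (H : Set G) →
      k * x * k⁻¹ ∈ Subgroup.centralizer (H : Set G) := by
    intro k hk x hx
    rw [Subgroup.mem_centralizer_iff]
    intro h hh
    have h1 : k⁻¹ * h * k ∈ H := by
      have hk' : k⁻¹ ∈ Subgroup.normalizer (H : Set G) := (Subgroup.normalizer (H : Set G)).inv_mem hk
      have := (Subgroup.mem_normalizer_iff.mp hk' h).mp hh
      simpa using this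
    have h2 := (Subgroup.mem_centralizer_iff.mp hx) _ h1
    calc h * (k * x * k⁻¹) = k * ((k⁻¹ * h * k) * x) * k⁻¹ := by group
      _ = k * (x * (k⁻¹ * h * k)) * k⁻¹ := by rw [h2]
      _ = k * x * k⁻¹ * h := by group
  intro x
  constructor
  · intro hx
    exact key g hg x hx
  · intro hx
    have hg' : g⁻¹ ∈ Subgroup.normalizer (H : Set G) := (Subgroup.normalizer (H : Set G)).inv_mem hg
    have := key g⁻¹ hg' _ hx
    have e : g⁻¹ * (g * x * g⁻¹) * g⁻¹⁻¹ = x := by group
    rw [e] at this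
    exact this

/-- part (a) in any finite group -/
theorem part_a {G : Type*} [Group G] [Finite G] {Q : Subgroup G} (hQ : Cfsg.IsCentrallyLarge Q) :
    Subgroup.centralizer ((Cfsg.thompsonSubgroupA G ⊓ Subgroup.centralizer (Cfsg.thompsonSubgroupA G : Set G) : Subgroup G) : Set G)
      ≤ Q ⊔ Cfsg.thompsonSubgroupA G := by
  set J := Cfsg.thompsonSubgroupA G with hJ
  -- R = Q ⊔ J is CL
  have hR : Cfsg.IsCentrallyLarge (Q ⊔ J) := by
    have hS : Cfsg.IsCentrallyLarge (sSup {R : Subgroup G | ∃ A ∈ Cfsg.maxAbelianSubgroups G, R = Q ⊔ A}) := by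
      apply sSup_of_sup_closed (fun H => Cfsg.IsCentrallyLarge H) (fun H K hH hK => (cl_sup hH hK).2)
      · obtain ⟨A, hA⟩ := exists_maxAbelian (G := G)
        exact ⟨Q ⊔ A, A, hA, rfl⟩
      · rintro _ ⟨A, hA, rfl⟩
        exact (cl_maxAbelian hQ hA).2.1
    have heq : sSup {R : Subgroup G | ∃ A ∈ Cfsg.maxAbelianSubgroups G, R = Q ⊔ A} = Q ⊔ J := by
      apply le_antisymm
      · apply sSup_le
        rintro _ ⟨A, hA, rfl⟩
        exact sup_le_sup_left (le_sSup hA) Q
      · apply sup_le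
        · obtain ⟨A, hA⟩ := exists_maxAbelian (G := G)
          exact le_sup_left.trans (le_sSup ⟨A, hA, rfl⟩)
        · rw [hJ]
          unfold Cfsg.thompsonSubgroupA
          apply sSup_le
          intro A hA
          exact le_sup_right.trans (le_sSup ⟨A, hA, rfl⟩)
    rw [heq] at hS
    exact hS
  have hCR : Subgroup.centralizer ((Q ⊔ J : Subgroup G) : Set G) ≤ J ⊓ Subgroup.centralizer (J : Set G) := by
    refine le_inf ?_ (Subgroup.centralizer_le (fun x hx => (le_sup_right : J ≤ Q ⊔ J) hx))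
    obtain ⟨A, hA⟩ := exists_maxAbelian (G := G)
    have hAJ : A ≤ J := le_sSup hA
    have h1 : Subgroup.centralizer ((Q ⊔ J : Subgroup G) : Set G) ≤ Subgroup.centralizer (A : Set G) :=
      Subgroup.centralizer_le (fun x hx => (le_sup_right : J ≤ Q ⊔ J) (hAJ hx))
    rw [maxAbelian_centralizer hA] at h1
    exact h1.trans hAJ
  have hRR := (cd_centralizer (cl_large hR).1).2
  calc Subgroup.centralizer ((J ⊓ Subgroup.centralizer (J : Set G) : Subgroup G) : Set G)
      ≤ Subgroup.centralizer ((Subgroup.centralizer ((Q ⊔ J : Subgroup G) : Set G) : Subgroup G) : Set G) :=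
        Subgroup.centralizer_le (fun x hx => hCR hx)
    _ = Q ⊔ J := hRR.symm


theorem normalizer_centralizer_le {G : Type*} [Group G] [Finite G] {Q : Subgroup G}
    (hQ : Cfsg.IsCentrallyLarge Q) :
    Subgroup.normalizer ((Subgroup.centralizer (Q : Set G) : Subgroup G) : Set G) ≤ Subgroup.normalizer (Q : Set G) := by
  have h1 := normalizer_le_normalizer_centralizer (Subgroup.centralizer (Q : Set G))
  have h2 := (cd_centralizer (cl_large hQ).1).2
  rw [← h2] at h1
  exact h1

/-- part (c) -/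
theorem part_c {p : ℕ} [Fact p.Prime] (P : Type*) [Group P] [Finite P] (hP : IsPGroup p P)
    (hJ : Cfsg.thompsonSubgroupA P = ⊤)
    (hd : ∀ A ∈ Cfsg.maxAbelianSubgroups P, Nat.card ↥A ^ 2 = Nat.card P * Nat.card ↥(Subgroup.center P)) :
    ∀ Q : Subgroup P, Cfsg.IsMinimalCentrallyLarge Q → IsMulCommutative ↥Q := by
  -- ⊤ is CL
  have hT : Cfsg.IsCentrallyLarge (Cfsg.centrallyLargeJoin P) := cl_join
  have hTtop : Cfsg.centrallyLargeJoin P = ⊤ := by
    rw [eq_top_iff, ← hJ]
    unfold Cfsg.thompsonSubgroupA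
    apply sSup_le
    intro A hA
    exact Cfsg.Agent.S3006.maxAb_le_join hA
  rw [hTtop] at hT
  have hfztop : fz (⊤ : Subgroup P) = Nat.card P * Nat.card ↥(Subgroup.center P) := by
    rw [fz_eq, Subgroup.card_top]
    congr 2
    rw [Subgroup.coe_top, Subgroup.centralizer_univ, top_inf_eq]
  obtain ⟨A, hA⟩ := exists_maxAbelian (G := P)
  have hAcl : Cfsg.IsCentrallyLarge A := by
    show fz A = Cfsg.maxCentralProduct P
    have h1 : fz (⊤ : Subgroup P) = Cfsg.maxCentralProduct P := hT
    rw [← h1, hfztop, fz_eq_of_comm A hA.1, ← hd A hA, sq]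
  obtain ⟨R, hRA, hR⟩ := exists_min_cl_le hAcl
  have hRab : IsMulCommutative ↥R := isMulCommutative_of_le hA.1 hRA
  have h7 := (Cfsg.Agent.S3007.result P hP R R hR hR).2.2.2.2 hRab
  intro Q hQ
  exact ((h7 Q).mp hQ).1

/-- part (d) -/
theorem part_d {p : ℕ} [Fact p.Prime] (P : Type*) [Group P] [Finite P] (hP : IsPGroup p P)
    (hab : ∀ Q : Subgroup P, Cfsg.IsMinimalCentrallyLarge Q → IsMulCommutative ↥Q) :
    Subgroup.centralizer ((Cfsg.thompsonSubgroupA P ⊓ Subgroup.centralizer (Cfsg.thompsonSubgroupA P : Set P) : Subgroup P) : Set P)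
      = Cfsg.thompsonSubgroupA P := by
  obtain ⟨Q, hQ⟩ := exists_min_cl (G := P)
  have h7 := (Cfsg.Agent.S3007.result P hP Q Q hQ hQ).2.2.2.2 (hab Q hQ)
  have hJ : Cfsg.minimalCentrallyLargeJoin P = Cfsg.thompsonSubgroupA P := by
    unfold Cfsg.minimalCentrallyLargeJoin Cfsg.thompsonSubgroupA
    congr 1
    ext X
    exact h7 X
  have hJcl : Cfsg.IsCentrallyLarge (Cfsg.thompsonSubgroupA P) := by
    rw [← hJ]; exact mcl_join
  apply le_antisymm
  · have := part_a hJcl
    rwa [sup_idem] at this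
  · rw [Subgroup.le_centralizer_iff]
    exact inf_le_right

/-- part (b) -/
theorem part_b {p : ℕ} [Fact p.Prime] (P : Type*) [Group P] [Finite P] (hP : IsPGroup p P) :
    ∃ Q : Subgroup P, Cfsg.IsMinimalCentrallyLarge Q ∧
      Cfsg.thompsonSubgroupA P ≤ Subgroup.normalizer (Q : Set P) ∧
      Cfsg.minimalCentrallyLargeJoin P ≤ Subgroup.normalizer (Q : Set P) := by
  obtain ⟨Q, hQ, hB⟩ := Cfsg.Agent.Lib.H10.CLB.exists_mcl_normalized hP
  have hNN := normalizer_centralizer_le hQ.1
  have hCQ : Subgroup.centralizer (Q : Set P) = Q ⊓ Subgroup.centralizer (Q : Set P) := (cl_large hQ.1).2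
  refine ⟨Q, hQ, ?_, ?_⟩
  · unfold Cfsg.thompsonSubgroupA
    apply sSup_le
    intro A hA
    have h4 := (Cfsg.Agent.S3006.result P hP Q A hQ.1 hA).2.2.2.1
    rw [← hCQ] at h4
    have h5 : ((Q : Set P) ⊓ (Subgroup.centralizer (Q : Set P) : Set P))
        = (Subgroup.centralizer (Q : Set P) : Set P) := by
      change ((Q : Set P) ∩ (Subgroup.centralizer (Q : Set P) : Set P)) = _
      rw [← Subgroup.coe_inf, ← hCQ]
    rw [h5] at h4
    exact (hB A hA.1 h4).trans hNN
  · unfold Cfsg.minimalCentrallyLargeJoin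
    apply sSup_le
    intro R hR
    have hR' : Cfsg.IsMinimalCentrallyLarge R := hR
    have hCR : Subgroup.centralizer (R : Set P) = R ⊓ Subgroup.centralizer (R : Set P) := (cl_large hR'.1).2
    have hCRab : IsMulCommutative ↥(Subgroup.centralizer (R : Set P)) := by
      rw [hCR]; exact isMulCommutative_inf_centralizer R
    have hZl := (cd_centralizer (cl_large hQ.1).1).1
    have hZRl := (cd_centralizer (cl_large hR'.1).1).1
    have hprod := (cd_main hZl hZRl).2.2.1
    have h1 : Subgroup.centralizer (R : Set P) ≤ Subgroup.normalizer (Q : Set P) :=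
      (hB _ hCRab hprod).trans hNN
    have h2 : R ⊓ Q ≤ Subgroup.normalizer (Q : Set P) := inf_le_right.trans Subgroup.le_normalizer
    have h3 := mcl_decomp hR' hQ
    rw [← h3]
    exact sup_le h2 h1

/-- Let P be a finite p-group, with J(P) generated by its abelian subgroups of largest order and J̃(P) = C_P(Z(J(P))); call R ≤ P centrally large if |R|·|Z(R)| is as large as possible, and let P_MCL be generated by the minimal centrally large subgroups. Then: for every centrally large Q, Q·J(P) ⊇ J̃(P); some minimal centrally large subgroup of P is normalized by both J(P) and P_MCL; if P = J(P) and d(P)² = |P|·|Z(P)|, where d(P) is the largest order of an abelian subgroup, then every minimal centrally large subgroup of P is abelian; and if every minimal centrally large subgroup is abelian then J̃(P) = J(P). -/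
theorem result {p : ℕ} [Fact p.Prime] (P : Type*) [Group P] [Finite P] (hP : IsPGroup p P) : (∀ Q : Subgroup P, Cfsg.IsCentrallyLarge Q → Subgroup.centralizer ((Cfsg.thompsonSubgroupA P ⊓ Subgroup.centralizer (Cfsg.thompsonSubgroupA P : Set P) : Subgroup P) : Set P) ≤ Q ⊔ Cfsg.thompsonSubgroupA P) ∧ (∃ Q : Subgroup P, Cfsg.IsMinimalCentrallyLarge Q ∧ Cfsg.thompsonSubgroupA P ≤ Subgroup.normalizer (Q : Set P) ∧ Cfsg.minimalCentrallyLargeJoin P ≤ Subgroup.normalizer (Q : Set P)) ∧ (Cfsg.thompsonSubgroupA P = ⊤ → (∀ A ∈ Cfsg.maxAbelianSubgroups P, Nat.card ↥A ^ 2 = Nat.card P * Nat.card ↥(Subgroup.center P)) → ∀ Q : Subgroup P, Cfsg.IsMinimalCentrallyLarge Q → IsMulCommutative ↥Q) ∧ ((∀ Q : Subgroup P, Cfsg.IsMinimalCentrallyLarge Q → IsMulCommutative ↥Q) → Subgroup.centralizer ((Cfsg.thompsonSubgroupA P ⊓ Subgroup.centralizer (Cfsg.thompsonSubgroupA P : Set P) : Subgroup P) : Set P) = Cfsg.thompsonSubgroupA P) :=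
  ⟨fun _ hQ => part_a hQ, part_b P hP, part_c P hP, part_d P hP⟩

end Cfsg.Agent.S3008
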