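import Cfsg.Statements.S3009
import Cfsg.Agent.Lib.H15.Nat10

set_option autoImplicit false
open Cfsg

namespace Cfsg.Agent.S3009

/-- Let p be a prime and let G and V be subgroups of a finite group with V elementary abelian and normalized by G, and G isomorphic to SL₂(F) for a finite field F with pⁿ elements. Suppose G acts irreducibly and nontrivially on V by conjugation (no G-invariant subgroups of V other than 1 and V, and [V, G] ≠ 1), and let S be a Sylow p-subgroup of G and V₀ = C_V(S). If [V, S, S] = 1 or |V| ≤ |V₀|², then G acts on V as SL₂(F) on its natural two-dimensional module; in particular |V| = |F|². -/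
theorem result {X : Type*} [Group X] [Finite X] {p : ℕ} [Fact p.Prime] (G V : Subgroup X) (hV : Cfsg.IsElementaryAbelian p V) (hGV : G ≤ Subgroup.normalizer (V : Set X)) (F : Type) [Field F] [Fintype F] (n : ℕ) (hF : Fintype.card F = p ^ n) (hG : Nonempty (↥G ≃* Matrix.SpecialLinearGroup (Fin 2) F)) (hirr : ∀ U : Subgroup X, U ≤ V → G ≤ Subgroup.normalizer (U : Set X) → U = ⊥ ∨ U = V) (hnt : ⁅V, G⁆ ≠ ⊥) (S : Sylow p ↥G) (hyp : ⁅⁅V, (S : Subgroup ↥G).map G.subtype⁆, (S : Subgroup ↥G).map G.subtype⁆ = ⊥ ∨ Nat.card ↥V ≤ Nat.card ↥(V ⊓ Subgroup.centralizer (((S : Subgroup ↥G).map G.subtype : Subgroup X) : Set X)) ^ 2) : Cfsg.ActsAsSL2OnSection F ⊤ G V ⊥ := by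
  classical
  obtain ⟨ι₀⟩ := hG
  have hchar : CharP F p := charP_of_card_eq_prime_pow hF
  let P₀ : Sylow p ↥G :=
    (Cfsg.Agent.Lib.H2.SL2.USylow (F := F) p).comapOfInjective ι₀.toMonoidHom ι₀.injective
      (by rw [MonoidHom.range_eq_top.mpr ι₀.surjective]; exact le_top)
  have hP₀c : ((P₀ : Sylow p ↥G) : Subgroup ↥G) =
      (Cfsg.Agent.Lib.H2.SL2.U F).comap ι₀.toMonoidHom :=
    Sylow.coe_comapOfInjective _ _ _ _
  have hP₀ : ∀ x : ↥G, x ∈ ((P₀ : Sylow p ↥G) : Subgroup ↥G) ↔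
      ι₀ x ∈ Cfsg.Agent.Lib.H2.SL2.U F := by
    intro x
    rw [hP₀c, Subgroup.mem_comap]
    rfl
  obtain ⟨g, hg⟩ := MulAction.exists_smul_eq ↥G P₀ S
  let ι : ↥G ≃* Matrix.SpecialLinearGroup (Fin 2) F := (MulAut.conj g⁻¹).trans ι₀
  have hS : ∀ x : ↥G, x ∈ (S : Subgroup ↥G) ↔ ι x ∈ Cfsg.Agent.Lib.H2.SL2.U F := by
    intro x
    rw [← hg, Cfsg.Agent.Lib.H2.SL2.mem_sylow_smul_iff, hP₀]
    change _ ↔ ι₀ (g⁻¹ * x * g⁻¹⁻¹) ∈ _
    rw [inv_inv]
  exact Cfsg.Agent.Lib.H15.Nat.wrap G V hV hGV F n hF ι hirr hnt (S : Subgroup ↥G) hS hyp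

end Cfsg.Agent.S3009
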