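import Cfsg.Statements.S3011
import Mathlib
import Cfsg.Agent.S0200

set_option autoImplicit false
open Cfsg

namespace Cfsg.Agent.S3011

variable {G : Type*} [Group G]

/-- An element of odd order equal to its own inverse is trivial. -/
theorem eq_one_of_odd_of_mul_self (h : G) (hodd : Odd (orderOf h)) (h2 : h * h = 1) : h = 1 := by
  have hd : orderOf h ∣ 2 := orderOf_dvd_of_pow_eq_one (by rw [pow_two]; exact h2)
  have h1 : orderOf h = 1 := by
    rcases (Nat.dvd_prime Nat.prime_two).mp hd with h' | h'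
    · exact h'
    · rw [h'] at hodd; exact absurd hodd (by decide)
  exact orderOf_eq_one_iff.mp h1

theorem eq_one_of_odd_of_inv_eq (h : G) (hodd : Odd (orderOf h)) (h2 : h⁻¹ = h) : h = 1 := by
  apply eq_one_of_odd_of_mul_self h hodd
  calc h * h = h⁻¹ * h := by rw [h2]
    _ = 1 := inv_mul_cancel h

/-- If `q` has odd order and `q * q` commutes with `h`, then `q` commutes with `h`. -/
theorem commute_of_mul_self_commute (q h : G) (hodd : Odd (orderOf q)) (hc : Commute (q * q) h) :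
    Commute q h := by
  obtain ⟨m, hm⟩ := hodd
  have hq : q = (q * q) ^ (m + 1) := by
    rw [← pow_two, ← pow_mul]
    have : 2 * (m + 1) = orderOf q + 1 := by omega
    rw [this, pow_succ, pow_orderOf_eq_one, one_mul]
  rw [hq]
  exact hc.pow_left _

theorem odd_orderOf_mul_self (k : G) (hk : Odd (orderOf k)) : Odd (orderOf (k * k)) := by
  rw [← pow_two]
  exact Odd.of_dvd_nat hk (orderOf_pow_dvd 2)

theorem conj_inv_eq (q h : G) : q * h⁻¹ * q⁻¹ = (q * h * q⁻¹)⁻¹ := by group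

theorem conj_mul_self (q h : G) : (q * q) * h * (q * q)⁻¹ = q * (q * h * q⁻¹) * q⁻¹ := by group

/-- The key configuration is contradictory. -/
theorem sidki_four_contra (V : Subgroup G) (hS : Cfsg.IsSidkiPair V)
    (x y : G) (hx : x ∈ V) (hy : y ∈ V)
    (hVmem : ∀ w ∈ V, w = 1 ∨ w = x ∨ w = y ∨ w = x * y)
    (h k : G) (hh : Odd (orderOf h)) (hk : Odd (orderOf k)) (hh1 : h ≠ 1) (hk1 : k ≠ 1)
    (cx_h : x * h * x⁻¹ = h⁻¹) (cx_k : x * k * x⁻¹ = k) (cy_h : y * h * y⁻¹ = h)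
    (cy_k : y * k * y⁻¹ = k⁻¹) : False := by
  have cz_h : (x * y) * h * (x * y)⁻¹ = h⁻¹ := by
    have : (x * y) * h * (x * y)⁻¹ = x * (y * h * y⁻¹) * x⁻¹ := by group
    rw [this, cy_h, cx_h]
  have cz_k : (x * y) * k * (x * y)⁻¹ = k⁻¹ := by
    have : (x * y) * k * (x * y)⁻¹ = x * (y * k * y⁻¹) * x⁻¹ := by group
    rw [this, cy_k]
    have : x * k⁻¹ * x⁻¹ = (x * k * x⁻¹)⁻¹ := by group
    rw [this, cx_k]
  have conj_conj : ∀ w : G, w * (k * h * k⁻¹) * w⁻¹
      = (w * k * w⁻¹) * (w * h * w⁻¹) * (w * k * w⁻¹)⁻¹ := by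
    intro w; group
  -- Step 1: `k` commutes with `h`
  have hcomm : Commute k h := by
    have hodd' : Odd (orderOf (k * h * k⁻¹)) := by
      have := MulEquiv.orderOf_eq (MulAut.conj k) h
      rw [MulAut.conj_apply] at this
      rw [this]; exact hh
    have hinv' : x * (k * h * k⁻¹) * x⁻¹ = (k * h * k⁻¹)⁻¹ := by
      rw [conj_conj, cx_k, cx_h]; group
    obtain ⟨w, hwV, hw1, hwc⟩ := hS (k * h * k⁻¹) x hx hodd' hinv'
    have hwc' : w * (k * h * k⁻¹) * w⁻¹ = k * h * k⁻¹ := by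
      rw [hwc, mul_assoc, mul_inv_cancel, mul_one]
    rcases hVmem w hwV with rfl | rfl | rfl | rfl
    · exact absurd rfl hw1
    · exfalso
      rw [hinv'] at hwc'
      have h1 := eq_one_of_odd_of_inv_eq _ hodd' hwc'
      apply hh1
      have : h = k⁻¹ * (k * h * k⁻¹) * k := by group
      rw [this, h1]; group
    · rw [conj_conj, cy_k, cy_h] at hwc'
      -- k⁻¹ * h * k⁻¹⁻¹ = k * h * k⁻¹
      have h2 : (k * k) * h = h * (k * k) := by
        have e1 : (k * k) * h = k * (k * h * k⁻¹) * k := by group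
        rw [e1, ← hwc']; group
      exact commute_of_mul_self_commute k h hk h2
    · exfalso
      rw [conj_conj, cz_k, cz_h] at hwc'
      -- k⁻¹ * h⁻¹ * k⁻¹⁻¹ = k * h * k⁻¹
      have h2 : (k * k) * h * (k * k)⁻¹ = h⁻¹ := by
        have e1 : (k * k) * h * (k * k)⁻¹ = k * (k * h * k⁻¹) * k⁻¹ := by group
        rw [e1, ← hwc']; group
      have h3 : Commute ((k * k) * (k * k)) h := by
        have e2 : ((k * k) * (k * k)) * h * ((k * k) * (k * k))⁻¹ = h := by
          rw [conj_mul_self (k * k) h, h2, conj_inv_eq (k * k) h, h2, inv_inv]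
        exact mul_inv_eq_iff_eq_mul.mp e2
      have h4 : Commute (k * k) h :=
        commute_of_mul_self_commute (k * k) h (odd_orderOf_mul_self k hk) h3
      have h5 : (k * k) * h * (k * k)⁻¹ = h := by
        rw [h4.eq, mul_assoc, mul_inv_cancel, mul_one]
      rw [h5] at h2
      exact hh1 (eq_one_of_odd_of_inv_eq h hh h2.symm)
  -- Step 2: the element `h * k`
  have hkh : k * h = h * k := hcomm.eq
  have hodd2 : Odd (orderOf (h * k)) := by
    have hd : orderOf (h * k) ∣ Nat.lcm (orderOf h) (orderOf k) :=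
      hcomm.symm.orderOf_mul_dvd_lcm
    have hd2 : Nat.lcm (orderOf h) (orderOf k) ∣ orderOf h * orderOf k := Nat.lcm_dvd_mul _ _
    exact Odd.of_dvd_nat (hh.mul hk) (hd.trans hd2)
  have conj_mul : ∀ w : G, w * (h * k) * w⁻¹ = (w * h * w⁻¹) * (w * k * w⁻¹) := by
    intro w; group
  have hinv2 : (x * y) * (h * k) * (x * y)⁻¹ = (h * k)⁻¹ := by
    rw [conj_mul, cz_h, cz_k, mul_inv_rev, ← mul_inv_rev, ← mul_inv_rev, hkh]
  obtain ⟨w, hwV, hw1, hwc⟩ := hS (h * k) (x * y) (V.mul_mem hx hy) hodd2 hinv2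
  have hwc' : w * (h * k) * w⁻¹ = h * k := by
    rw [hwc, mul_assoc, mul_inv_cancel, mul_one]
  rcases hVmem w hwV with rfl | rfl | rfl | rfl
  · exact hw1 rfl
  · rw [conj_mul, cx_h, cx_k] at hwc'
    exact hh1 (eq_one_of_odd_of_inv_eq h hh (mul_right_cancel hwc'))
  · rw [conj_mul, cy_h, cy_k] at hwc'
    exact hk1 (eq_one_of_odd_of_inv_eq k hk (mul_left_cancel hwc'))
  · rw [hinv2] at hwc'
    have h1 : h * k = 1 := eq_one_of_odd_of_inv_eq _ hodd2 hwc'
    have h2 : k = h⁻¹ := eq_inv_of_mul_eq_one_right h1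
    rw [h2] at cx_k
    have h3 : x * h⁻¹ * x⁻¹ = (x * h * x⁻¹)⁻¹ := by group
    rw [h3, cx_h, inv_inv] at cx_k
    exact hh1 (eq_one_of_odd_of_inv_eq h hh cx_k.symm)


/-- A Sidki pair of order at most four meets `O₂(G)`; version with the hypotheses stated
elementwise. -/
theorem sidki_le_four [Finite G] (V : Subgroup G) (hVc : ∀ a ∈ V, ∀ b ∈ V, a * b = b * a)
    (hV2 : ∀ a ∈ V, a * a = 1) (hV1 : V ≠ ⊥) (hS : Cfsg.IsSidkiPair V) (h4 : Nat.card V ≤ 4) :
    V ⊓ Cfsg.pCore 2 G ≠ ⊥ := by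
  classical
  intro hbot
  have hnotcore : ∀ v ∈ V, v ≠ 1 → ∀ N : Subgroup G, N.Normal → IsPGroup 2 N → v ∉ N := by
    intro v hv hv1 N hN hNp hvN
    have hle : N ≤ Cfsg.pCore 2 G := le_sSup ⟨hN, hNp⟩
    have : v ∈ V ⊓ Cfsg.pCore 2 G := Subgroup.mem_inf.mpr ⟨hv, hle hvN⟩
    rw [hbot, Subgroup.mem_bot] at this
    exact hv1 this
  have hstep : ∀ v ∈ V, v ≠ 1 → ∃ h w : G, h ≠ 1 ∧ Odd (orderOf h) ∧ v * h * v⁻¹ = h⁻¹ ∧
      w ∈ V ∧ w ≠ 1 ∧ w ≠ v ∧ w * h * w⁻¹ = h := by
    intro v hv hv1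
    have hord : orderOf v = 2 := orderOf_eq_prime (by rw [pow_two]; exact hV2 v hv) hv1
    obtain ⟨h, hh1, hodd, hinv⟩ := Cfsg.Agent.S0200.result v hord (hnotcore v hv hv1)
    obtain ⟨w, hwV, hw1, hwc⟩ := hS h v hv hodd hinv
    have hwc' : w * h * w⁻¹ = h := by rw [hwc, mul_assoc, mul_inv_cancel, mul_one]
    refine ⟨h, w, hh1, hodd, hinv, hwV, hw1, ?_, hwc'⟩
    rintro rfl
    rw [hinv] at hwc'
    exact hh1 (eq_one_of_odd_of_inv_eq h hodd hwc')
  obtain ⟨a₀, haV', ha1'⟩ := (V.bot_or_exists_ne_one).resolve_left hV1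
  obtain ⟨a, rfl⟩ : ∃ a : V, (a : G) = a₀ := ⟨⟨a₀, haV'⟩, rfl⟩
  obtain ⟨h, b, hh1, hhodd, hah, hbV, hb1, hba, hbh⟩ := hstep a haV' ha1'
  obtain ⟨k, c, hk1, hkodd, hbk, hcV, hc1, hcb, hck⟩ := hstep b hbV hb1
  -- V = {1, a, b, a * b}
  have hab1 : (a : G) * b ≠ 1 := by
    intro h1
    have : b = (a : G)⁻¹ := (eq_inv_of_mul_eq_one_right h1)
    have hainv : (a : G)⁻¹ = a := inv_eq_of_mul_eq_one_left (hV2 a haV')
    exact hba (this.trans hainv)
  have hVmem : ∀ w ∈ V, w = 1 ∨ w = (a : G) ∨ w = b ∨ w = (a : G) * b := by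
    haveI : Fintype V := Fintype.ofFinite V
    have hcard : Fintype.card V ≤ 4 := by rw [← Nat.card_eq_fintype_card]; exact h4
    let s : Finset V := {1, a, ⟨b, hbV⟩, ⟨(a : G) * b, V.mul_mem haV' hbV⟩}
    have hs : s.card = 4 := by
      rw [Finset.card_insert_of_notMem, Finset.card_insert_of_notMem,
        Finset.card_insert_of_notMem, Finset.card_singleton]
      · simp only [Finset.mem_singleton, Subtype.ext_iff]
        intro h1
        exact ha1' (mul_right_cancel ((one_mul b).trans h1)).symm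
      · simp only [Finset.mem_insert, Finset.mem_singleton, Subtype.ext_iff, not_or]
        refine ⟨fun h1 => hba h1.symm, fun h1 => ?_⟩
        have : (a : G) * 1 = a * b := by rw [mul_one]; exact h1
        exact hb1 (mul_left_cancel this).symm
      · simp only [Finset.mem_insert, Finset.mem_singleton, Subtype.ext_iff, not_or]
        refine ⟨fun h1 => ha1' h1.symm, fun h1 => hb1 h1.symm, fun h1 => hab1 h1.symm⟩
    have huniv : s = Finset.univ :=
      Finset.eq_univ_of_card s (le_antisymm (Finset.card_le_univ s) (hs ▸ hcard))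
    intro w hw
    have hmem : (⟨w, hw⟩ : V) ∈ s := by rw [huniv]; exact Finset.mem_univ _
    simp only [s, Finset.mem_insert, Finset.mem_singleton, Subtype.ext_iff] at hmem
    exact hmem
  have hab : (a : G) * b = b * a := hVc a haV' b hbV
  have hainv : (a : G)⁻¹ = a := inv_eq_of_mul_eq_one_left (hV2 a haV')
  have hbinv : b⁻¹ = b := inv_eq_of_mul_eq_one_left (hV2 b hbV)
  rcases hVmem c hcV with rfl | rfl | rfl | rfl
  · exact hc1 rfl
  · -- c = a centralizes k: x = a, y = b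
    exact sidki_four_contra V hS a b haV' hbV hVmem h k hhodd hkodd hh1 hk1 hah hck hbh hbk
  · exact hcb rfl
  · -- c = a * b centralizes k: x = a * b, y = b
    have hx : (a : G) * b ∈ V := V.mul_mem haV' hbV
    have hVmem' : ∀ w ∈ V, w = 1 ∨ w = (a : G) * b ∨ w = b ∨ w = (a : G) * b * b := by
      intro w hw
      have e : (a : G) * b * b = a := by rw [mul_assoc, hV2 b hbV, mul_one]
      rw [e]
      rcases hVmem w hw with h1 | h1 | h1 | h1
      · exact Or.inl h1
      · exact Or.inr (Or.inr (Or.inr h1))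
      · exact Or.inr (Or.inr (Or.inl h1))
      · exact Or.inr (Or.inl h1)
    have hxh : ((a : G) * b) * h * ((a : G) * b)⁻¹ = h⁻¹ := by
      have : ((a : G) * b) * h * ((a : G) * b)⁻¹ = a * (b * h * b⁻¹) * (a : G)⁻¹ := by group
      rw [this, hbh, hah]
    exact sidki_four_contra V hS ((a : G) * b) b hx hbV hVmem' h k hhodd hkodd hh1 hk1 hxh hck hbh hbk

/-- Let G be a finite group and V a nontrivial elementary abelian 2-subgroup of G of order at most 4 such that, whenever an element of V inverts an element h of G of odd order, some nontrivial element of V commutes with h. Then V meets O₂(G) nontrivially. (The case of order at most 4 has a short argument from the Baer–Suzuki theorem.) -/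
theorem result {G : Type*} [Group G] [Finite G] (V : Subgroup G) (hV : Cfsg.IsElementaryAbelian 2 V) (hV1 : V ≠ ⊥) (hS : Cfsg.IsSidkiPair V) (h4 : Nat.card V ≤ 4) : V ⊓ Cfsg.pCore 2 G ≠ ⊥ := by
  have hVc : ∀ a ∈ V, ∀ b ∈ V, a * b = b * a := isMulCommutative_iff_of_setLike.mp hV.1
  have hV2 : ∀ a ∈ V, a * a = 1 := fun a ha => by rw [← pow_two]; exact hV.2 a ha
  exact sidki_le_four V hVc hV2 hV1 hS h4

end Cfsg.Agent.S3011
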