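import Cfsg.Statements.S3012

set_option autoImplicit false
open Cfsg

namespace Cfsg.Agent.S3012

/-- Let G be a finite group, V a nontrivial elementary abelian 2-subgroup of G satisfying the Sidki pair condition (every odd-order element inverted by an element of V commutes with a nontrivial element of V), and K a normal subgroup of G with V ∩ K = 1. Then the image of V in G/K satisfies the Sidki pair condition in G/K. -/
theorem result {G : Type*} [Group G] [Finite G] (V K : Subgroup G) [K.Normal] (hV : Cfsg.IsElementaryAbelian 2 V) (hV1 : V ≠ ⊥) (hS : Cfsg.IsSidkiPair V) (hVK : V ⊓ K = ⊥) : Cfsg.IsSidkiPair (V.map (QuotientGroup.mk' K)) := by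
  intro hb vb hvb hodd hinv
  obtain ⟨v, hv, rfl⟩ := hvb
  obtain ⟨h, rfl⟩ := QuotientGroup.mk'_surjective K hb
  have hv2 : v * v = 1 := by
    have := hV.2 v hv
    rwa [pow_two] at this
  have hvinv : v⁻¹ = v := inv_eq_of_mul_eq_one_left hv2
  -- d = v * (h⁻¹ v h), inverted by v
  set d : G := v * (h⁻¹ * v * h) with hd
  have hdinv : v * d * v⁻¹ = d⁻¹ := by
    rw [hd, hvinv]
    simp only [mul_inv_rev, inv_inv, hvinv]
    calc v * (v * (h⁻¹ * v * h)) * v = (v * v) * (h⁻¹ * v * h) * v := by group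
      _ = h⁻¹ * (v * h) * v := by rw [hv2, one_mul, mul_assoc h⁻¹ v h]
  have hdimg : (QuotientGroup.mk' K) d = (QuotientGroup.mk' K h) ^ 2 := by
    have h1 : (QuotientGroup.mk' K v) * (QuotientGroup.mk' K h)⁻¹ * (QuotientGroup.mk' K v)
        = QuotientGroup.mk' K h := by
      have h2 : ((QuotientGroup.mk' K) v)⁻¹ = (QuotientGroup.mk' K) v := by
        rw [← map_inv, hvinv]
      have h3 := congrArg (fun t => t⁻¹) hinv
      simp only [mul_inv_rev, inv_inv, h2] at h3
      rw [← mul_assoc] at h3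
      exact h3
    rw [hd, map_mul, map_mul, map_mul, map_inv, pow_two]
    rw [← mul_assoc, ← mul_assoc, h1]
  have hN : orderOf d ≠ 0 := (orderOf_pos d).ne'
  obtain ⟨a, b, hbodd, hNab⟩ := Nat.exists_eq_two_pow_mul_odd hN
  set d₁ : G := d ^ (2 ^ a) with hd₁
  have hd₁ord : orderOf d₁ = b := by
    rw [hd₁, orderOf_pow_of_dvd (by positivity) ⟨b, hNab⟩, hNab]
    exact Nat.mul_div_cancel_left b (by positivity)
  have hd₁inv : v * d₁ * v⁻¹ = d₁⁻¹ := by
    rw [hd₁, ← conj_pow, hdinv, inv_pow]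
  obtain ⟨w, hwV, hw1, hwc⟩ := hS d₁ v hv (by rw [hd₁ord]; exact hbodd) hd₁inv
  refine ⟨QuotientGroup.mk' K w, ⟨w, hwV, rfl⟩, ?_, ?_⟩
  · intro hw
    apply hw1
    have hwK : w ∈ K := by
      rw [← QuotientGroup.ker_mk' K]
      exact hw
    have : w ∈ V ⊓ K := ⟨hwV, hwK⟩
    rw [hVK] at this
    exact this
  · -- the image of w commutes with the image of d₁ = hb ^ (2^(a+1))
    have hc1 : Commute (QuotientGroup.mk' K w) ((QuotientGroup.mk' K h) ^ (2 ^ (a + 1))) := by
      have : (QuotientGroup.mk' K h) ^ (2 ^ (a + 1)) = QuotientGroup.mk' K d₁ := by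
        rw [hd₁, map_pow, hdimg, ← pow_mul, pow_succ, mul_comm]
      rw [this]
      show (QuotientGroup.mk' K w) * (QuotientGroup.mk' K d₁) = (QuotientGroup.mk' K d₁) * (QuotientGroup.mk' K w)
      rw [← map_mul, ← map_mul, hwc]
    have hcop : (2 ^ (a + 1)).Coprime (orderOf (QuotientGroup.mk' K h)) := by
      apply Nat.Coprime.pow_left
      exact Nat.coprime_two_left.mpr hodd
    obtain ⟨m, hm⟩ := exists_pow_eq_self_of_coprime hcop
    have := hc1.pow_right m
    rw [hm] at this
    exact this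

end Cfsg.Agent.S3012
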