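import Cfsg.Statements.S3013

set_option autoImplicit false
open Cfsg

namespace Cfsg.Agent.S3013

theorem mem_C_iff {G : Type*} [Group G] {v x g : G} :
    g ∈ Subgroup.centralizer ({v} : Set G) ⊓ Subgroup.centralizer ({x} : Set G)
      ↔ Commute v g ∧ Commute x g := by
  rw [Subgroup.mem_inf, Subgroup.mem_centralizer_singleton_iff, Subgroup.mem_centralizer_singleton_iff]
  exact ⟨fun h => ⟨h.1.symm, h.2.symm⟩, fun h => ⟨h.1.symm, h.2.symm⟩⟩

theorem commute_of_commute_sq {G : Type*} [Group G] {w h : G} (hodd : Odd (orderOf h))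
    (hc : Commute w (h * h)) : Commute w h := by
  have hcop : (2 : ℕ).Coprime (orderOf h) := Nat.coprime_two_left.mpr hodd
  obtain ⟨m, hm⟩ := exists_pow_eq_self_of_coprime hcop
  have h2 : Commute w (h ^ 2) := by rwa [pow_two]
  have := h2.pow_right m
  rwa [hm] at this

/-- Let G be a finite group and V a nontrivial elementary abelian 2-subgroup of G satisfying the Sidki pair condition. Let v ∈ V and let x be an element of odd order inverted by v, and put C = C_G(v) ∩ C_G(x), the centralizer of the dihedral subgroup generated by v and x. Then C ∩ V is nontrivial and satisfies the Sidki pair condition inside C: every odd-order element of C inverted by an element of C ∩ V commutes with a nontrivial element of C ∩ V. -/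
theorem result {G : Type*} [Group G] [Finite G] (V : Subgroup G) (hV : Cfsg.IsElementaryAbelian 2 V) (hV1 : V ≠ ⊥) (hS : Cfsg.IsSidkiPair V) (v x : G) (hv : v ∈ V) (hx : Odd (orderOf x)) (hinv : v * x * v⁻¹ = x⁻¹) (C : Subgroup G) (hC : C = Subgroup.centralizer ({v} : Set G) ⊓ Subgroup.centralizer ({x} : Set G)) : C ⊓ V ≠ ⊥ ∧ Cfsg.IsSidkiPair ((C ⊓ V).subgroupOf C) := by
  have hVc : IsMulCommutative V := hV.1
  have hVcomm : ∀ a ∈ V, ∀ b ∈ V, Commute a b := fun a ha b hb =>
    setLike_mul_comm ha hb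
  subst hC
  constructor
  · obtain ⟨w, hwV, hw1, hwc⟩ := hS x v hv hx hinv
    intro hbot
    apply hw1
    have : w ∈ (Subgroup.centralizer ({v} : Set G) ⊓ Subgroup.centralizer ({x} : Set G)) ⊓ V := by
      refine ⟨mem_C_iff.mpr ⟨hVcomm v hv w hwV, ?_⟩, hwV⟩
      exact (show Commute w x from hwc).symm
    rw [hbot] at this
    exact this
  · intro h u hu hodd hinvh
    rw [Subgroup.mem_subgroupOf] at hu
    have huC : (u : G) ∈ Subgroup.centralizer ({v} : Set G) ⊓ Subgroup.centralizer ({x} : Set G) := hu.1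
    have huV : (u : G) ∈ V := hu.2
    have hhC := h.2
    rw [mem_C_iff] at huC hhC
    obtain ⟨hvu, hxu⟩ := huC
    obtain ⟨hvh, hxh⟩ := hhC
    have hodd' : Odd (orderOf (h : G)) := by rwa [Subgroup.orderOf_coe]
    have hinv' : (u : G) * (h : G) * (u : G)⁻¹ = (h : G)⁻¹ := by
      have := congrArg (Subtype.val) hinvh
      simpa using this
    -- y = h * x is inverted by t = u * v
    set y : G := (h : G) * x with hy
    set t : G := (u : G) * v with ht
    have htV : t ∈ V := V.mul_mem huV hv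
    have hth : t * (h : G) * t⁻¹ = (h : G)⁻¹ := by
      rw [ht, mul_inv_rev]
      calc (u : G) * v * (h : G) * (v⁻¹ * (u : G)⁻¹)
          = (u : G) * (v * (h : G) * v⁻¹) * (u : G)⁻¹ := by group
        _ = (u : G) * (h : G) * (u : G)⁻¹ := by rw [hvh.eq, mul_inv_cancel_right]
        _ = (h : G)⁻¹ := hinv'
    have htx : t * x * t⁻¹ = x⁻¹ := by
      rw [ht, mul_inv_rev]
      calc (u : G) * v * x * (v⁻¹ * (u : G)⁻¹)
          = (u : G) * (v * x * v⁻¹) * (u : G)⁻¹ := by group
        _ = (u : G) * x⁻¹ * (u : G)⁻¹ := by rw [hinv]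
        _ = x⁻¹ := by rw [(hxu.symm.inv_right).eq, mul_inv_cancel_right]
    have hty : t * y * t⁻¹ = y⁻¹ := by
      calc t * y * t⁻¹ = (t * (h : G) * t⁻¹) * (t * x * t⁻¹) := by rw [hy]; group
        _ = (h : G)⁻¹ * x⁻¹ := by rw [hth, htx]
        _ = x⁻¹ * (h : G)⁻¹ := (hxh.symm.inv_left.inv_right).eq
        _ = y⁻¹ := by rw [hy, mul_inv_rev]
    have hyodd : Odd (orderOf y) := by
      have hdvd := (hxh.symm).orderOf_mul_dvd_lcm
      have hl : Odd (Nat.lcm (orderOf (h : G)) (orderOf x)) :=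
        Odd.of_dvd_nat (hodd'.mul hx) (Nat.lcm_dvd_mul _ _)
      exact Odd.of_dvd_nat hl hdvd
    obtain ⟨w, hwV, hw1, hwc⟩ := hS y t htV hyodd hty
    have hwy : Commute w y := hwc
    have hwu : Commute w (u : G) := hVcomm w hwV _ huV
    have hwv : Commute w v := hVcomm w hwV v hv
    -- w commutes with u y u⁻¹ = h⁻¹ x
    have huy : (u : G) * y * (u : G)⁻¹ = (h : G)⁻¹ * x := by
      rw [hy]
      calc (u : G) * ((h : G) * x) * (u : G)⁻¹
          = ((u : G) * (h : G) * (u : G)⁻¹) * ((u : G) * x * (u : G)⁻¹) := by group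
        _ = (h : G)⁻¹ * x := by rw [hinv', hxu.symm.eq, mul_inv_cancel_right]
    have hw2 : Commute w ((h : G)⁻¹ * x) := by
      rw [← huy]
      exact (hwu.mul_right hwy).mul_right hwu.inv_right
    have hwhh : Commute w ((h : G) * (h : G)) := by
      have : (h : G) * (h : G) = y * ((h : G)⁻¹ * x)⁻¹ := by
        rw [hy, mul_inv_rev, inv_inv]; group
      rw [this]
      exact hwy.mul_right hw2.inv_right
    have hwh : Commute w (h : G) := commute_of_commute_sq hodd' hwhh
    have hwx : Commute w x := by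
      have : x = (h : G)⁻¹ * y := by rw [hy]; group
      rw [this]
      exact hwh.inv_right.mul_right hwy
    have hwC : w ∈ Subgroup.centralizer ({v} : Set G) ⊓ Subgroup.centralizer ({x} : Set G) :=
      mem_C_iff.mpr ⟨hwv.symm, hwx.symm⟩
    refine ⟨⟨w, hwC⟩, ?_, ?_, ?_⟩
    · rw [Subgroup.mem_subgroupOf]
      exact ⟨hwC, hwV⟩
    · intro h1
      apply hw1
      exact congrArg Subtype.val h1
    · apply Subtype.ext
      simpa using hwh.eq

end Cfsg.Agent.S3013
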