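import Cfsg.Statements.S3014
import Cfsg.Agent.Lib.H15.Conj

set_option autoImplicit false
open Cfsg

namespace Cfsg.Agent.S3014

open Cfsg.Agent.Lib.H15

theorem comm_of_coatom {M : Type*} [Group M] (H' : Subgroup M) [H'.Normal] (hco : IsCoatom H')
    (a b : M ⧸ H') : a * b = b * a := by
  by_cases ha : a = 1
  · rw [ha, one_mul, mul_one]
  · obtain ⟨x, rfl⟩ := QuotientGroup.mk_surjective a
    obtain ⟨y, rfl⟩ := QuotientGroup.mk_surjective b
    have hx : x ∉ H' := fun h => ha ((QuotientGroup.eq_one_iff x).mpr h)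
    have hle : H' ≤ (Subgroup.zpowers (QuotientGroup.mk' H' x)).comap (QuotientGroup.mk' H') := by
      intro h hh
      rw [Subgroup.mem_comap]
      have : QuotientGroup.mk' H' h = 1 := (QuotientGroup.eq_one_iff h).mpr hh
      rw [this]; exact Subgroup.one_mem _
    have hxK : x ∈ (Subgroup.zpowers (QuotientGroup.mk' H' x)).comap (QuotientGroup.mk' H') :=
      Subgroup.mem_zpowers _
    have hlt : H' < (Subgroup.zpowers (QuotientGroup.mk' H' x)).comap (QuotientGroup.mk' H') :=
      lt_of_le_of_ne hle (fun h => hx (h ▸ hxK))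
    have htop := hco.2 _ hlt
    have hy : y ∈ (Subgroup.zpowers (QuotientGroup.mk' H' x)).comap (QuotientGroup.mk' H') := by
      rw [htop]; trivial
    obtain ⟨n, hn⟩ := Subgroup.mem_zpowers_iff.mp hy
    show QuotientGroup.mk' H' x * QuotientGroup.mk' H' y = QuotientGroup.mk' H' y * QuotientGroup.mk' H' x
    rw [← hn]
    exact (Commute.zpow_right (Commute.refl _) n)

/-- The transfer evaluation: if all two-point stabilizers lie in `H`. -/
theorem transfer_eval {G : Type*} [Group G] [Finite G] (H M : Subgroup G) (hHM : H ≤ M)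
    {A : Type*} [CommGroup A] (φ : ↥M →* A) (hφ : ∀ h : ↥M, (h : G) ∈ H → φ h = 1)
    (h2 : ∀ g : G, g ∉ M → M ⊓ cj g M ≤ H) (x : G) (hx : x ∈ M) :
    MonoidHom.transfer φ x = φ ⟨x, hx⟩ := by
  classical
  letI : Fintype (Quotient (MulAction.orbitRel (Subgroup.zpowers x) (G ⧸ M))) := Fintype.ofFinite _
  rw [MonoidHom.transfer_eq_prod_quotient_orbitRel_zpowers_quot]
  obtain ⟨q₀, hq₀⟩ : ∃ q₀ : Quotient (MulAction.orbitRel (Subgroup.zpowers x) (G ⧸ M)),
      q₀ = Quotient.mk'' ((1 : G) : G ⧸ M) := ⟨_, rfl⟩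
  have hfix : ∀ z : Subgroup.zpowers x, z • (((1 : G) : G ⧸ M)) = ((1 : G) : G ⧸ M) := by
    intro z
    have hz : (z : G) ∈ M := by
      obtain ⟨n, hn⟩ := Subgroup.mem_zpowers_iff.mp z.2
      rw [← hn]; exact M.zpow_mem hx n
    show ((z : G) • ((1 : G) : G ⧸ M)) = _
    rw [MulAction.Quotient.smul_mk, smul_eq_mul, mul_one, QuotientGroup.eq]
    simpa using hz
  have hq₀out : q₀.out = ((1 : G) : G ⧸ M) := by
    have h1 : Quotient.mk'' q₀.out = (Quotient.mk'' ((1 : G) : G ⧸ M) :
        Quotient (MulAction.orbitRel (Subgroup.zpowers x) (G ⧸ M))) := by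
      rw [← hq₀]; exact Quotient.out_eq q₀
    have h2' := Quotient.exact h1
    obtain ⟨z, hz⟩ := h2'
    rw [← hz]
    exact hfix z
  rw [Fintype.prod_eq_single q₀]
  · -- the factor at q₀
    have hy : q₀.out.out ∈ M := by
      have : ((q₀.out.out : G) : G ⧸ M) = ((1 : G) : G ⧸ M) := by
        rw [QuotientGroup.out_eq']; exact hq₀out
      rw [QuotientGroup.eq] at this
      simpa using this
    have hper : Function.minimalPeriod (x • ·) q₀.out = 1 := by
      rw [Function.minimalPeriod_eq_one_iff_isFixedPt, hq₀out]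
      exact hfix ⟨x, Subgroup.mem_zpowers x⟩
    have e : (⟨q₀.out.out⁻¹ * x ^ Function.minimalPeriod (x • ·) q₀.out * q₀.out.out,
        QuotientGroup.out_conj_pow_minimalPeriod_mem M x q₀.out⟩ : ↥M)
        = (⟨q₀.out.out, hy⟩ : ↥M)⁻¹ * ⟨x, hx⟩ * ⟨q₀.out.out, hy⟩ := by
      apply Subtype.ext
      simp [hper]
    rw [e, map_mul, map_mul, map_inv, mul_comm, ← mul_assoc, mul_inv_cancel, one_mul]
  · intro q hq
    apply hφ
    have hy : q.out.out ∉ M := by
      intro hy
      apply hq
      have h1 : q.out = ((1 : G) : G ⧸ M) := by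
        rw [← QuotientGroup.out_eq' q.out, QuotientGroup.eq]
        simpa using hy
      rw [hq₀, ← Quotient.out_eq q, h1]
    have hyinv : (q.out.out)⁻¹ ∉ M := fun h => hy (by simpa using M.inv_mem h)
    apply h2 _ hyinv
    refine Subgroup.mem_inf.mpr ⟨QuotientGroup.out_conj_pow_minimalPeriod_mem M x q.out, ?_⟩
    rw [mem_cj_iff]
    simp only [inv_inv]
    have : q.out.out * (q.out.out⁻¹ * x ^ Function.minimalPeriod (x • ·) q.out * q.out.out) * q.out.out⁻¹
        = x ^ Function.minimalPeriod (x • ·) q.out := by group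
    rw [this]
    exact M.pow_mem hx _

/-- Let G be a finite group and H ≤ M ≤ G subgroups such that for every g ∈ G the subgroup generated by H and g H g⁻¹ meets M exactly in H. If H is a maximal subgroup of M and M is a maximal subgroup of G, then the normal closure of H in G meets M exactly in H. -/
theorem result {G : Type*} [Group G] [Finite G] (H M : Subgroup G) (hHM : H ≤ M) (hcl : ∀ g : G, (H ⊔ H.map (MulAut.conj g).toMonoidHom) ⊓ M = H) (hmaxH : IsCoatom (H.subgroupOf M)) (hmaxM : IsCoatom M) : Subgroup.normalClosure (H : Set G) ⊓ M = H := by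
  classical
  -- (F1): a conjugate of `H` inside `M` equals `H`
  have F1 : ∀ g : G, cj g H ≤ M → cj g H ≤ H := by
    intro g hg
    have h1 := hcl g
    have h2 : H ⊔ cj g H ≤ M := sup_le hHM hg
    rw [inf_of_le_left h2] at h1
    exact le_sup_right.trans h1.le
  have hMN : M ≤ Subgroup.normalizer (H : Set G) := by
    intro m hm
    apply mem_normalizer_of_cj_le
    apply F1
    have := cj_mono m hHM
    rwa [cj_eq_self_of_mem hm] at this
  have hHN : H ≤ Subgroup.normalClosure (H : Set G) := Subgroup.le_normalClosure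
  apply le_antisymm _ (le_inf hHN hHM)
  by_cases hn : Subgroup.normalizer (H : Set G) = ⊤
  · have : H.Normal := Subgroup.normalizer_eq_top_iff.mp hn
    rw [Subgroup.normalClosure_eq_self]
    exact inf_le_left
  have hNM : Subgroup.normalizer (H : Set G) = M := by
    by_contra hne
    exact hn (hmaxM.2 _ (lt_of_le_of_ne hMN (Ne.symm hne)))
  have hnotM : ∀ g : G, g ∉ M → ¬ cj g H ≤ M := by
    intro g hg hle
    apply hg
    rw [← hNM]
    exact mem_normalizer_of_cj_le (F1 g hle)
  by_cases hcase : ∃ g : G, g ∉ M ∧ ¬ (M ⊓ cj g M ≤ H)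
  · obtain ⟨g, hg, hD⟩ := hcase
    obtain ⟨L, hL⟩ : ∃ L, L = H ⊔ cj g H := ⟨_, rfl⟩
    -- `M = H ⊔ (M ⊓ cj g M)`
    have hM2 : M ≤ H ⊔ (M ⊓ cj g M) := by
      have hle : H.subgroupOf M ≤ (H ⊔ (M ⊓ cj g M)).subgroupOf M := by
        intro x hx
        exact Subgroup.mem_subgroupOf.mpr (Subgroup.mem_sup_left (Subgroup.mem_subgroupOf.mp hx))
      have hne : H.subgroupOf M ≠ (H ⊔ (M ⊓ cj g M)).subgroupOf M := by
        intro heq
        apply hD
        intro d hd
        have hdM : d ∈ M := (Subgroup.mem_inf.mp hd).1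
        have : (⟨d, hdM⟩ : ↥M) ∈ (H ⊔ (M ⊓ cj g M)).subgroupOf M :=
          Subgroup.mem_subgroupOf.mpr (Subgroup.mem_sup_right hd)
        rw [← heq] at this
        exact Subgroup.mem_subgroupOf.mp this
      have htop := hmaxH.2 _ (lt_of_le_of_ne hle hne)
      intro m hm
      have : (⟨m, hm⟩ : ↥M) ∈ (H ⊔ (M ⊓ cj g M)).subgroupOf M := by rw [htop]; trivial
      exact Subgroup.mem_subgroupOf.mp this
    have hLn : M ≤ Subgroup.normalizer (L : Set G) := by
      refine hM2.trans (sup_le ?_ ?_)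
      · exact (hL ▸ le_sup_left : H ≤ L).trans Subgroup.le_normalizer
      · intro d hd
        obtain ⟨hd1, hd2⟩ := Subgroup.mem_inf.mp hd
        rw [mem_normalizer_iff_cj_eq, hL]
        show (H ⊔ cj g H).map _ = _
        rw [Subgroup.map_sup]
        have e1 : H.map (MulAut.conj d).toMonoidHom = H :=
          mem_normalizer_iff_cj_eq.mp (hMN hd1)
        have e2 : (cj g H).map (MulAut.conj d).toMonoidHom = cj g H := by
          have : d ∈ Subgroup.normalizer ((cj g H : Subgroup G) : Set G) := by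
            rw [normalizer_cj]
            exact cj_mono g hMN hd2
          exact mem_normalizer_iff_cj_eq.mp this
        rw [e1, e2]
    have hLtop : Subgroup.normalizer (L : Set G) = ⊤ := by
      apply hmaxM.2
      refine lt_of_le_of_ne hLn ?_
      intro heq
      apply hnotM g hg
      rw [heq]
      exact (hL ▸ le_sup_right : cj g H ≤ L).trans Subgroup.le_normalizer
    have hLnorm : L.Normal := Subgroup.normalizer_eq_top_iff.mp hLtop
    have hNL : Subgroup.normalClosure (H : Set G) ≤ L :=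
      Subgroup.normalClosure_le_normal (hL ▸ le_sup_left : H ≤ L)
    calc Subgroup.normalClosure (H : Set G) ⊓ M ≤ L ⊓ M := inf_le_inf_right M hNL
      _ = H := by rw [hL]; exact hcl g
  · push Not at hcase
    have hH'n : (H.subgroupOf M).Normal :=
      (Subgroup.normal_subgroupOf_iff_le_normalizer hHM).mpr hMN
    letI : CommGroup (↥M ⧸ H.subgroupOf M) :=
      { (inferInstance : Group (↥M ⧸ H.subgroupOf M)) with
        mul_comm := comm_of_coatom (H.subgroupOf M) hmaxH }
    have hev := transfer_eval H M hHM (QuotientGroup.mk' (H.subgroupOf M))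
      (fun h hh => (QuotientGroup.eq_one_iff h).mpr (Subgroup.mem_subgroupOf.mpr hh)) hcase
    have hker : Subgroup.normalClosure (H : Set G)
        ≤ (MonoidHom.transfer (QuotientGroup.mk' (H.subgroupOf M))).ker := by
      apply Subgroup.normalClosure_le_normal
      intro h hh
      rw [SetLike.mem_coe, MonoidHom.mem_ker, hev h (hHM hh)]
      exact (QuotientGroup.eq_one_iff _).mpr (Subgroup.mem_subgroupOf.mpr hh)
    intro x hx
    obtain ⟨hx1, hx2⟩ := Subgroup.mem_inf.mp hx
    have h1 := hker hx1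
    rw [MonoidHom.mem_ker, hev x hx2] at h1
    exact Subgroup.mem_subgroupOf.mp ((QuotientGroup.eq_one_iff _).mp h1)

end Cfsg.Agent.S3014
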