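import Cfsg.Statements.S3015
import Cfsg.Agent.Lib.H15.Conj
import Cfsg.Agent.S3014

set_option autoImplicit false
open Cfsg

namespace Cfsg.Agent.S3015

open Cfsg.Agent.Lib.H15

variable {G : Type*} [Group G] [Finite G]

/-- A subgroup of prime index is a coatom. -/
theorem isCoatom_of_index_prime {M : Type*} [Group M] [Finite M] (K : Subgroup M)
    (h : K.index.Prime) : IsCoatom K := by
  constructor
  · intro htop
    rw [htop, Subgroup.index_top] at h
    exact Nat.not_prime_one h
  · intro L hL
    have h1 : L.index ∣ K.index := Subgroup.index_dvd_of_le hL.le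
    rcases (Nat.dvd_prime h).mp h1 with h2 | h2
    · exact Subgroup.index_eq_one.mp h2
    · exfalso
      have h3 := Subgroup.relIndex_mul_index hL.le
      rw [h2] at h3
      have h4 : K.relIndex L = 1 := by
        have hpos : 0 < K.index := h.pos
        exact Nat.eq_of_mul_eq_mul_right hpos (by rw [h3, one_mul])
      exact absurd (Subgroup.relIndex_eq_one.mp h4) (not_le_of_gt hL)

/-- No nonabelian finite simple group has a maximal subgroup of prime order. -/
theorem no_prime_order_coatom [IsSimpleGroup G] (hG : ¬ IsMulCommutative G) (M : Subgroup G)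
    (hM : IsCoatom M) (r : ℕ) (hr : r.Prime) (hcard : Nat.card M = r) : False := by
  classical
  haveI : Fact r.Prime := ⟨hr⟩
  have hMp : IsPGroup r M := IsPGroup.of_card (n := 1) (by rw [hcard, pow_one])
  obtain ⟨P, hP⟩ := hMp.exists_le_sylow
  have hPM : (P : Subgroup G) = M := by
    by_contra hne
    have htop := hM.2 _ (lt_of_le_of_ne hP (Ne.symm hne))
    -- G is an r-group, hence solvable, hence abelian
    have hGp : IsPGroup r G := by
      have := P.2
      rw [htop] at this
      exact IsPGroup.of_equiv this Subgroup.topEquiv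
    have hnil := hGp.isNilpotent
    have hsol : Group.IsSolvable G := inferInstance
    exact hG ⟨⟨IsSimpleGroup.comm_iff_isSolvable.mpr hsol⟩⟩
  have hMcomm : M ≤ Subgroup.centralizer (M : Set G) := by
    have hcyc : IsCyclic ↥M := by
      haveI : Fact (r.Prime) := ⟨hr⟩
      exact isCyclic_of_prime_card hcard
    letI := IsCyclic.commGroup (α := ↥M)
    intro a ha
    rw [Subgroup.mem_centralizer_iff]
    intro b hb
    exact congrArg Subtype.val (mul_comm (⟨b, hb⟩ : ↥M) ⟨a, ha⟩)
  have hMnn : ¬ M.Normal := by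
    intro hn
    rcases hn.eq_bot_or_eq_top with h | h
    · rw [h, Subgroup.card_bot] at hcard
      exact hr.one_lt.ne hcard
    · exact hM.1 h
  have hNM : Subgroup.normalizer (M : Set G) = M := by
    by_contra hne
    have := hM.2 _ (lt_of_le_of_ne Subgroup.le_normalizer (Ne.symm hne))
    exact hMnn (Subgroup.normalizer_eq_top_iff.mp this)
  have hPc : Subgroup.normalizer ((P : Subgroup G) : Set G)
      ≤ Subgroup.centralizer ((P : Subgroup G) : Set G) := by
    rw [hPM, hNM]; exact hMcomm
  have hcomp := MonoidHom.ker_transferSylow_isComplement' P hPc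
  have hmul := hcomp.card_mul_card
  have hPcard : Nat.card (P : Subgroup G) = r := by rw [hPM, hcard]
  rw [hPcard] at hmul
  rcases (inferInstance : (MonoidHom.transferSylow P hPc).ker.Normal).eq_bot_or_eq_top with h | h
  · rw [h, Subgroup.card_bot, one_mul] at hmul
    apply hM.1
    rw [← Subgroup.card_eq_iff_eq_top, hcard, hmul]
  · rw [h, Subgroup.card_top] at hmul
    have hpos : 0 < Nat.card G := Nat.card_pos
    have : r = 1 := by
      have h2 : Nat.card G * r = Nat.card G * 1 := by rw [hmul, mul_one]
      exact Nat.eq_of_mul_eq_mul_left hpos h2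
    exact hr.one_lt.ne' this

/-- Let G be a finite non-abelian simple group, M a maximal subgroup of G and H a normal subgroup of M of prime index in M. Then G is generated by H together with one of its conjugates. -/
theorem result {G : Type*} [Group G] [Finite G] [IsSimpleGroup G] (hG : ¬ IsMulCommutative G) (M H : Subgroup G) (hmaxM : IsCoatom M) (hHM : H ≤ M) (hHn : (H.subgroupOf M).Normal) (hidx : (H.relIndex M).Prime) : ∃ g : G, H ⊔ H.map (MulAut.conj g).toMonoidHom = ⊤ := by
  classical
  by_contra hno
  push Not at hno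
  obtain ⟨r, hrdef⟩ : ∃ r, r = H.relIndex M := ⟨_, rfl⟩
  rw [← hrdef] at hidx
  haveI : Fact r.Prime := ⟨hidx⟩
  have hMtop : M ≠ ⊤ := hmaxM.1
  have hcoH : IsCoatom (H.subgroupOf M) := by
    apply isCoatom_of_index_prime
    show (H.relIndex M).Prime
    rw [← hrdef]; exact hidx
  have hMN : M ≤ Subgroup.normalizer (H : Set G) :=
    (Subgroup.normal_subgroupOf_iff_le_normalizer hHM).mp hHn
  have hcardM : Nat.card H * r = Nat.card M := by
    have := Subgroup.relIndex_mul_relIndex ⊥ H M bot_le hHM
    rwa [Subgroup.relIndex_bot_left, Subgroup.relIndex_bot_left, ← hrdef] at this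
  have hH1 : H ≠ ⊥ := by
    intro h
    apply no_prime_order_coatom hG M hmaxM r hidx
    rw [← hcardM, h, Subgroup.card_bot, one_mul]
  have hNtop : Subgroup.normalClosure (H : Set G) = ⊤ := by
    rcases (Subgroup.normalClosure_normal (s := (H : Set G))).eq_bot_or_eq_top with h | h
    · exfalso
      apply hH1
      rw [eq_bot_iff, ← h]
      exact Subgroup.le_normalClosure
    · exact h
  have hnn : ∀ K : Subgroup G, K ≤ M → K ≠ ⊥ → Subgroup.normalizer (K : Set G) ≠ ⊤ := by
    intro K hKM hK1 htop
    have hn : K.Normal := Subgroup.normalizer_eq_top_iff.mp htop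
    rcases hn.eq_bot_or_eq_top with h | h
    · exact hK1 h
    · exact hMtop (eq_top_iff.mpr (h ▸ hKM))
  have hNeq : ∀ K : Subgroup G, K ≤ M → K ≠ ⊥ → M ≤ Subgroup.normalizer (K : Set G) →
      Subgroup.normalizer (K : Set G) = M := by
    intro K hKM hK1 hle
    by_contra hne
    exact hnn K hKM hK1 (hmaxM.2 _ (lt_of_le_of_ne hle (Ne.symm hne)))
  have hNH : Subgroup.normalizer (H : Set G) = M := hNeq H hHM hH1 hMN
  have hM1 : M ≠ ⊥ := fun h => hH1 (eq_bot_iff.mpr (h ▸ hHM))
  have hNM : Subgroup.normalizer (M : Set G) = M := hNeq M le_rfl hM1 Subgroup.le_normalizer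
  -- the subgroup generated by the `r'`-elements of `M`
  obtain ⟨R, hR⟩ : ∃ R, R = Subgroup.closure {y : G | y ∈ M ∧ (orderOf y).Coprime r} := ⟨_, rfl⟩
  have hgenH : ∀ y ∈ M, (orderOf y).Coprime r → y ∈ H := by
    intro y hy hc
    have h1 : orderOf (QuotientGroup.mk' (H.subgroupOf M) ⟨y, hy⟩) ∣ r := by
      have := orderOf_dvd_natCard (QuotientGroup.mk' (H.subgroupOf M) ⟨y, hy⟩)
      rw [← Subgroup.index_eq_card] at this
      rw [hrdef]; exact this
    have h2 : orderOf (QuotientGroup.mk' (H.subgroupOf M) ⟨y, hy⟩) ∣ orderOf y := by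
      have := orderOf_map_dvd (QuotientGroup.mk' (H.subgroupOf M)) (⟨y, hy⟩ : ↥M)
      rwa [Subgroup.orderOf_mk] at this
    have h3 : orderOf (QuotientGroup.mk' (H.subgroupOf M) ⟨y, hy⟩) = 1 :=
      Nat.Coprime.eq_one_of_dvd (Nat.Coprime.coprime_dvd_left h2 hc) h1
    have h4 := (QuotientGroup.eq_one_iff _).mp (orderOf_eq_one_iff.mp h3)
    exact Subgroup.mem_subgroupOf.mp h4
  have hRH : R ≤ H := by
    rw [hR, Subgroup.closure_le]
    intro y hy
    exact hgenH y hy.1 hy.2
  have hconjR : ∀ g : G, (∀ y ∈ M, (orderOf y).Coprime r → g * y * g⁻¹ ∈ M) → cj g R ≤ R := by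
    intro g hg
    show R.map _ ≤ R
    rw [hR, MonoidHom.map_closure, Subgroup.closure_le]
    rintro _ ⟨y, ⟨hyM, hyc⟩, rfl⟩
    apply Subgroup.subset_closure
    refine ⟨hg y hyM hyc, ?_⟩
    have : orderOf ((MulAut.conj g) y) = orderOf y := MulEquiv.orderOf_eq (MulAut.conj g) y
    show (orderOf ((MulAut.conj g) y)).Coprime r
    rw [this]; exact hyc
  have hRM : M ≤ Subgroup.normalizer (R : Set G) := by
    intro m hm
    apply mem_normalizer_of_cj_le
    apply hconjR
    intro y hy _
    exact M.mul_mem (M.mul_mem hm hy) (M.inv_mem hm)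
  -- conjugates of `H` inside `M`
  have F1 : ∀ g : G, cj g H ≤ M → g ∈ M := by
    intro g hg
    have hgR : g ∈ Subgroup.normalizer (R : Set G) := by
      apply mem_normalizer_of_cj_le
      apply hconjR
      intro y hy hc
      exact hg (conj_mem_cj (hgenH y hy hc))
    by_cases hR1 : R = ⊥
    · -- `M` is an `r`-group
      have hMp : IsPGroup r ↥M := by
        intro y
        have ho : orderOf (y : G) ≠ 0 := (orderOf_pos (y : G)).ne'
        obtain ⟨a, b, hb, hab⟩ := Nat.exists_eq_pow_mul_and_not_dvd ho r hidx.ne_one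
        refine ⟨a, ?_⟩
        have hz : (y : G) ^ (r ^ a) ∈ R := by
          rw [hR]
          apply Subgroup.subset_closure
          refine ⟨M.pow_mem y.2 _, ?_⟩
          show Nat.Coprime (orderOf ((y : G) ^ (r ^ a))) r
          rw [orderOf_pow, hab]
          have : Nat.gcd (r ^ a * b) (r ^ a) = r ^ a := Nat.gcd_eq_right (dvd_mul_right _ _)
          rw [this, Nat.mul_div_cancel_left _ (pow_pos hidx.pos a)]
          exact ((Nat.Prime.coprime_iff_not_dvd hidx).mpr hb).symm
        rw [hR1, Subgroup.mem_bot] at hz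
        apply Subtype.ext
        simpa using hz
      obtain ⟨k, hk⟩ := IsPGroup.iff_card.mp hMp
      have hk0 : k ≠ 0 := by
        intro h0
        rw [h0, pow_zero] at hk
        have : r ∣ 1 := by rw [← hk, ← hcardM]; exact dvd_mul_left _ _
        exact hidx.one_lt.ne' (Nat.dvd_one.mp this)
      have hBidx : ((cj g H).subgroupOf M).index = (Nat.card ↥M).minFac := by
        rw [hk, Nat.Prime.pow_minFac hidx hk0]
        have h1 := Subgroup.relIndex_mul_relIndex ⊥ (cj g H) M bot_le hg
        rw [Subgroup.relIndex_bot_left, Subgroup.relIndex_bot_left, card_cj] at h1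
        have hpos : 0 < Nat.card H := Nat.card_pos
        show (cj g H).relIndex M = r
        apply Nat.eq_of_mul_eq_mul_left hpos
        rw [h1, hcardM]
      have hBn : ((cj g H).subgroupOf M).Normal := Subgroup.normal_of_index_eq_minFac_card hBidx
      have hMB : M ≤ Subgroup.normalizer ((cj g H : Subgroup G) : Set G) :=
        (Subgroup.normal_subgroupOf_iff_le_normalizer hg).mp hBn
      have hgMB : cj g M ≤ Subgroup.normalizer ((cj g H : Subgroup G) : Set G) := by
        rw [normalizer_cj]; exact cj_mono g hMN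
      by_cases hgM : cj g M = M
      · rw [← hNM]; exact mem_normalizer_iff_cj_eq.mpr hgM
      · exfalso
        have hlt : M < M ⊔ cj g M := by
          refine lt_of_le_of_ne le_sup_left ?_
          intro heq
          apply hgM
          apply cj_eq_of_cj_le
          exact le_sup_right.trans heq.ge
        have htop := hmaxM.2 _ hlt
        have hB1 : cj g H ≠ ⊥ := by
          intro h
          apply hH1
          rw [← Subgroup.card_eq_one] at h ⊢
          rwa [card_cj] at h
        apply hnn (cj g H) hg hB1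
        rw [eq_top_iff, ← htop]
        exact sup_le hMB hgMB
    · have := hNeq R (hRH.trans hHM) hR1 hRM
      rw [← this]; exact hgR
  -- hypothesis of the generation lemma
  have hstar : ∀ g : G, (H ⊔ cj g H) ⊓ M = H := by
    intro g
    apply le_antisymm _ (le_inf le_sup_left hHM)
    have hle : H.subgroupOf M ≤ ((H ⊔ cj g H) ⊓ M).subgroupOf M := by
      intro x hx
      exact Subgroup.mem_subgroupOf.mpr (Subgroup.mem_inf.mpr
        ⟨Subgroup.mem_sup_left (Subgroup.mem_subgroupOf.mp hx), x.2⟩)
    by_cases heq : H.subgroupOf M = ((H ⊔ cj g H) ⊓ M).subgroupOf M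
    · intro x hx
      have : (⟨x, (Subgroup.mem_inf.mp hx).2⟩ : ↥M) ∈ ((H ⊔ cj g H) ⊓ M).subgroupOf M :=
        Subgroup.mem_subgroupOf.mpr hx
      rw [← heq] at this
      exact Subgroup.mem_subgroupOf.mp this
    · have htop := hcoH.2 _ (lt_of_le_of_ne hle heq)
      have hML : M ≤ H ⊔ cj g H := by
        intro m hm
        have : (⟨m, hm⟩ : ↥M) ∈ ((H ⊔ cj g H) ⊓ M).subgroupOf M := by rw [htop]; trivial
        exact (Subgroup.mem_inf.mp (Subgroup.mem_subgroupOf.mp this)).1
      have hLM : H ⊔ cj g H = M := by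
        by_contra hne
        exact hno g (hmaxM.2 _ (lt_of_le_of_ne hML (Ne.symm hne)))
      have hgM : g ∈ M := F1 g (hLM ▸ le_sup_right)
      have hgH : cj g H = H := mem_normalizer_iff_cj_eq.mp (hMN hgM)
      rw [hgH, sup_idem]
      exact inf_le_left
  have hfin := Cfsg.Agent.S3014.result H M hHM hstar hcoH hmaxM
  rw [hNtop, top_inf_eq] at hfin
  apply hcoH.1
  rw [← hfin]
  exact Subgroup.subgroupOf_self M

end Cfsg.Agent.S3015
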