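import Cfsg.Statements.S3016
import Cfsg.Agent.Lib.H26.SH16Asm
import Cfsg.Agent.Lib.H24.ShIAll
import Cfsg.Agent.Lib.H11.SHQ3B
import Cfsg.Agent.Lib.H9.SHQ3PT
import Cfsg.Agent.Lib.H16.SHQ3REP

set_option autoImplicit false
open Cfsg

namespace Cfsg.Agent.S3016

universe u

/-- CASE B for `|H| = 3` in the shape consumed by `min_normal_p`: helper11's group side
`caseB_q3`, helper9's pointwise bound `q3_pointwise`, helper16's Lemma Q3 `q3_rep`. -/
theorem caseB3_stmt : Cfsg.Agent.Lib.H26.SH16.CaseB3Stmt.{u} :=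
  fun _ _ _ M hM H hH3 hHab hcl hloc hncl htr hq =>
    Cfsg.Agent.Lib.H11.SHQ3.caseB_q3 M hM H hloc hncl htr hq
      (fun χ hχ a b g ha ha1 hb hcop =>
        Cfsg.Agent.Lib.H9.SHp.q3_pointwise hH3 hHab hcl hq
          (fun χ hχ L a hn hc y hy => Cfsg.Agent.Lib.H16.SHQ3.q3_rep χ hχ L a hn hc y hy)
          χ hχ a b g ha ha1 hb hcop)

/-- Let G be a finite group, p an odd prime, and H an abelian p-subgroup of G that is extremely closed (for every g, the subgroup generated by H and g H g⁻¹ meets N_G(H) exactly in H). Then the normal closure of H meets N_G(H) exactly in H, and G = N_G(H) O_{p'}(G). -/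
theorem result {G : Type*} [Group G] [Finite G] {p : ℕ} [Fact p.Prime] (hp : p ≠ 2) (H : Subgroup G) (hHp : IsPGroup p H) (hHab : IsMulCommutative H) (hcl : Cfsg.IsExtremelyClosed H) : Subgroup.normalClosure (H : Set G) ⊓ Subgroup.normalizer (H : Set G) = H ∧ Subgroup.normalizer (H : Set G) ⊔ Cfsg.pPrimeCore p G = ⊤ := by
  have hII := Cfsg.Agent.Lib.H26.SH16.partII_of hp caseB3_stmt G H hHp hHab hcl
  exact ⟨Cfsg.Agent.Lib.H24.ShI.concl_I hp H hHp hHab hcl hII, hII⟩

end Cfsg.Agent.S3016
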