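import Cfsg.Statements.S3017
import Cfsg.Agent.Lib.H7.ShultMin
import Cfsg.Agent.Lib.H23.SHCASEA
import Cfsg.Agent.Lib.H11.SHCSG2

set_option autoImplicit false
open Cfsg

namespace Cfsg.Agent.S3017

universe u

/-- CASE A (helper23's twin of helper12's / helper6's `caseA`), in the shape consumed by
`min_normal`. -/
theorem caseA_stmt : Cfsg.Agent.Lib.H7.Shult.CaseAStmt.{u} :=
  fun _ _ _ M hM H hH2 hcomm hloc hfus hncl hnt =>
    Cfsg.Agent.Lib.H23.SH.caseA M hM H hH2 hcomm hloc hfus hncl hnt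

/-- CASE B (helper11's `caseB`), in the shape consumed by `min_normal`. -/
theorem caseB_stmt : Cfsg.Agent.Lib.H7.Shult.CaseBStmt.{u} := by
  intro G _ _ M hM H hH2 hcomm hloc hncl htr hnc
  classical
  push Not at hnc
  obtain ⟨n, hn, x, hx, hne⟩ := hnc
  have hy : n * x * n⁻¹ ∈ H := ((Subgroup.mem_normalizer_iff.1 hn) x).1 hx
  have hx1 : x ≠ 1 := by
    rintro rfl
    apply hne
    group
  have hy1 : n * x * n⁻¹ ≠ 1 := by
    intro h
    apply hx1
    have h2 : x = n⁻¹ * (n * x * n⁻¹) * n := by group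
    rw [h2, h]
    group
  have hHne : H ≠ ⊥ := by
    intro h
    rw [h, Subgroup.mem_bot] at hx
    exact hx1 hx
  have hq : 4 ≤ Nat.card ↥H := by
    obtain ⟨k, hk⟩ := (IsPGroup.iff_card).mp hH2
    have h3 : 2 < Nat.card ↥H := by
      letI : Fintype ↥H := Fintype.ofFinite _
      rw [Nat.card_eq_fintype_card, ← Finset.card_univ, Finset.two_lt_card]
      refine ⟨1, Finset.mem_univ _, ⟨x, hx⟩, Finset.mem_univ _, ⟨n * x * n⁻¹, hy⟩,
        Finset.mem_univ _, ?_, ?_, ?_⟩
      · intro h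
        exact hx1 (congrArg Subtype.val h).symm
      · intro h
        exact hy1 (congrArg Subtype.val h).symm
      · intro h
        exact hne (congrArg Subtype.val h).symm
    rw [hk] at h3 ⊢
    rcases k with _ | _ | k
    · norm_num at h3
    · norm_num at h3
    · calc 4 = 2 ^ 2 := by norm_num
        _ ≤ 2 ^ (k + 1 + 1) := Nat.pow_le_pow_right (by norm_num) (by omega)
  obtain ⟨a, ha, ha2⟩ := Cfsg.Agent.Lib.H12.SH.exists_involution hH2 hHne
  have ha1 : a ≠ 1 := by
    rintro rfl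
    rw [orderOf_one] at ha2
    norm_num at ha2
  have haa : a * a = 1 := by
    rw [← sq, ← ha2]
    exact pow_orderOf_eq_one a
  have htr' : ∀ b ∈ H, b ≠ 1 → ∃ m ∈ Subgroup.normalizer (H : Set G), m * a * m⁻¹ = b :=
    fun b hb hb1 => htr b hb a ha hb1 ha1
  refine Cfsg.Agent.Lib.H11.SH.caseB M hM hloc hq a ha ha1 haa htr' ?_
  intro χ hχ hχa
  apply Cfsg.Agent.Lib.H12.SH.ker χ.2 H hncl
  intro b hb
  by_cases hb1 : b = 1
  · rw [hb1]
  · obtain ⟨m, _, hm⟩ := htr' b hb hb1
    rw [← hm, Cfsg.Agent.Lib.H12.SH.invn (Cfsg.Agent.Lib.L0.isCharacter_of_irr χ.2) m a]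
    exact hχa

/-- Let G be a finite group and H an abelian 2-subgroup of G that is extremely closed (for every g, the subgroup generated by H and g H g⁻¹ meets N_G(H) exactly in H). Then G = N_G(H) O(G), where O(G) is the largest normal subgroup of odd order. For H of order 2 this is Glauberman's Z*-statement. -/
theorem result {G : Type*} [Group G] [Finite G] (H : Subgroup G) (hH2 : IsPGroup 2 H) (hHab : IsMulCommutative H) (hcl : Cfsg.IsExtremelyClosed H) : Subgroup.normalizer (H : Set G) ⊔ Cfsg.oddCore G = ⊤ := by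
  exact Cfsg.Agent.Lib.H2.SH.red'
    (Cfsg.Agent.Lib.H7.Shult.min_normal caseA_stmt caseB_stmt) G H hH2 hHab hcl

end Cfsg.Agent.S3017
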