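import Cfsg.Statements.S3023
import Mathlib
import Cfsg.Agent.Lib.H15.CharP
import Cfsg.Agent.Lib.H15.SubnormalSylow
import Cfsg.Agent.Lib.H14.CharP2
import Cfsg.Agent.Lib.H7.PLocal
import Cfsg.Agent.Lib.H1.NilpotentBasic
import Cfsg.Agent.Lib.H5.SylowIn
import Cfsg.Agent.Lib.H15.SylowControl

set_option autoImplicit false
open Cfsg

namespace Cfsg.Agent.S3023

open Cfsg.Agent.Lib.H15

section
variable {G : Type*} [Group G] [Finite G] {p : ℕ} [Fact p.Prime]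

/-- abbreviation: `F*(L) = O_p(L)`. -/
def FS (p : ℕ) (L : Subgroup G) : Prop :=
  Cfsg.generalizedFittingSubgroup ↥L = Cfsg.pCore p ↥L

/-- ambient form of characteristic `p` from `F* = O_p`. -/
theorem FS.ambient {L : Subgroup G} (h : FS p L) :
    L ⊓ Subgroup.centralizer (Cfsg.pCoreOf p L : Set G) ≤ Cfsg.pCoreOf p L :=
  hasCharP_iff.mp ((Cfsg.Agent.Lib.H7.generalizedFittingSubgroup_eq_pCore_iff p).mp h)

theorem FS.of_ambient {L : Subgroup G}
    (h : L ⊓ Subgroup.centralizer (Cfsg.pCoreOf p L : Set G) ≤ Cfsg.pCoreOf p L) : FS p L :=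
  (Cfsg.Agent.Lib.H7.generalizedFittingSubgroup_eq_pCore_iff p).mpr (hasCharP_iff.mpr h)

/-- `p`-local subgroups of groups of characteristic `p` have characteristic `p`. -/
theorem FS.local {K P : Subgroup G} (h : FS p K) (hP : IsPGroup p P) (hPK : P ≤ K) :
    FS p (K ⊓ Subgroup.normalizer (P : Set G)) := by
  apply Cfsg.Agent.Lib.H7.generalizedFittingSubgroup_eq_pCore_of_le_normalizer p
    (Q := Cfsg.pCoreOf p K) (P := P) (pcoreOf_isPGroup p K) hP
  · exact inf_le_left.trans (pcoreOf_normalized p K)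
  · exact le_inf hPK Subgroup.le_normalizer
  · exact inf_le_right
  · exact hPK.trans (pcoreOf_normalized p K)
  · exact inf_le_inf (pcoreOf_le p K) (Subgroup.centralizer_le_normalizer _)
  · intro y hy hc hyQ
    exact Cfsg.Agent.Lib.H7.eq_one_of_generalizedFittingSubgroup_eq_pCore p K h hy.1 hc hyQ

/-- subnormal (relative) subgroups of groups of characteristic `p`. -/
theorem FS.inf_of_isSubnormal {K A : Subgroup G} (h : FS p K) (hA : A.IsSubnormal) :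
    FS p (A ⊓ K) := by
  have h1 : (A.subgroupOf K).IsSubnormal := hA.subgroupOf
  have h2 := Cfsg.Agent.Lib.H14.fstar_eq_pCore_of_subnormal p (A.subgroupOf K) h1 h
  rw [← Subgroup.inf_subgroupOf_right] at h2
  exact Cfsg.Agent.Lib.H14.fstar_eq_pCore_of_equiv p
    (Subgroup.subgroupOfEquivOfLe (inf_le_right : A ⊓ K ≤ K)) h2

theorem normalizer_inf_le (A B : Subgroup G) :
    Subgroup.normalizer (A : Set G) ⊓ Subgroup.normalizer (B : Set G) ≤
      Subgroup.normalizer ((A ⊓ B : Subgroup G) : Set G) := by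
  intro g hg
  have hA : g ∈ Subgroup.normalizer (A : Set G) := hg.1
  have hB : g ∈ Subgroup.normalizer (B : Set G) := hg.2
  rw [mem_normalizer_iff_cj_eq] at hA hB ⊢
  rw [cj_inf, hA, hB]

theorem core (hG : Cfsg.IsOfParabolicCharacteristic p G) (S : Sylow p G) (G₁ : Subgroup G)
    (hsn : G₁.IsSubnormal)
    (hne : ((S : Subgroup G) ⊓ G₁) ⊓ Subgroup.centralizer (((S : Subgroup G) ⊓ G₁ : Subgroup G) : Set G) ≠ ⊥)
    (hle : ((S : Subgroup G) ⊓ G₁) ⊓ Subgroup.centralizer (((S : Subgroup G) ⊓ G₁ : Subgroup G) : Set G) ≤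
      (S : Subgroup G) ⊓ Subgroup.centralizer ((S : Subgroup G) : Set G))
    (R₁ : Subgroup G) (hR₁ : IsPGroup p R₁) (hR₁1 : R₁ ≠ ⊥) (hR₁G : R₁ ≤ G₁)
    (hT : (S : Subgroup G) ⊓ G₁ ≤ Subgroup.normalizer (R₁ : Set G)) :
    FS p (G₁ ⊓ Subgroup.normalizer (R₁ : Set G)) := by
  obtain ⟨T₁, hT₁def⟩ : ∃ T₁, T₁ = (S : Subgroup G) ⊓ G₁ := ⟨_, rfl⟩
  rw [← hT₁def] at hne hle hT
  have hT₁p : IsPGroup p T₁ := hT₁def ▸ S.2.to_le inf_le_left
  have hT₁G : T₁ ≤ G₁ := hT₁def ▸ inf_le_right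
  have hT₁S : T₁ ≤ S := hT₁def ▸ inf_le_left
  have hidx : ¬ p ∣ T₁.relIndex G₁ := by
    rw [hT₁def, Subgroup.inf_relIndex_right]
    exact Cfsg.Agent.Lib.H3.not_dvd_relIndex_of_isSubnormal _ hsn S.not_dvd_index
  have hR₁T : R₁ ≤ T₁ := by
    have h1 : IsPGroup p (T₁ ⊔ R₁ : Subgroup G) := IsPGroup.to_sup_of_normal_right' hT₁p hR₁ hT
    have h2 : T₁ ⊔ R₁ ≤ T₁ :=
      le_of_isPGroup_of_not_dvd_relIndex h1 le_sup_left (sup_le hT₁G hR₁G) hidx
    exact le_sup_right.trans h2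
  -- a nontrivial element of R₁ central in T₁
  obtain ⟨z₀, hz₀R, hz₀1, hz₀c⟩ : ∃ z₀ ∈ R₁, z₀ ≠ 1 ∧ ∀ t ∈ T₁, t * z₀ = z₀ * t := by
    haveI : Group.IsNilpotent ↥T₁ := hT₁p.isNilpotent
    haveI hN : (R₁.subgroupOf T₁).Normal :=
      (Subgroup.normal_subgroupOf_iff_le_normalizer hR₁T).mpr hT
    have hN1 : R₁.subgroupOf T₁ ≠ ⊥ := by
      obtain ⟨r, hr1⟩ := (Subgroup.ne_bot_iff_exists_ne_one).mp hR₁1
      intro h
      have : (⟨(r : G), hR₁T r.2⟩ : ↥T₁) ∈ R₁.subgroupOf T₁ := Subgroup.mem_subgroupOf.mpr r.2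
      rw [h, Subgroup.mem_bot] at this
      apply hr1
      apply Subtype.ext
      have h2 := congrArg Subtype.val this
      simpa using h2
    have h1 := Cfsg.Agent.Lib.H1.normal_inf_center_ne_bot (R₁.subgroupOf T₁) hN1
    obtain ⟨x, hx1⟩ := (Subgroup.ne_bot_iff_exists_ne_one).mp h1
    have hx2 : (x : ↥T₁) ∈ R₁.subgroupOf T₁ := x.2.1
    have hx3 : (x : ↥T₁) ∈ Subgroup.center ↥T₁ := x.2.2
    refine ⟨((x : ↥T₁) : G), Subgroup.mem_subgroupOf.mp hx2, ?_, ?_⟩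
    · intro h
      apply hx1
      apply Subtype.ext
      apply Subtype.ext
      exact h
    · intro t ht
      have := Subgroup.mem_center_iff.mp hx3 ⟨t, ht⟩
      exact congrArg Subtype.val this
  have hz₀T : z₀ ∈ T₁ := hR₁T hz₀R
  have hz₀Z : z₀ ∈ (S : Subgroup G) ⊓ Subgroup.centralizer ((S : Subgroup G) : Set G) := by
    apply hle
    refine Subgroup.mem_inf.mpr ⟨hz₀T, ?_⟩
    rw [Subgroup.mem_centralizer_iff]
    intro t ht
    exact hz₀c t ht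
  have hz₀S : ∀ s ∈ (S : Subgroup G), s * z₀ = z₀ * s := by
    intro s hs
    exact (Subgroup.mem_centralizer_iff.mp hz₀Z.2) s hs
  have hzP : IsPGroup p (Subgroup.zpowers z₀) := S.2.to_le ((Subgroup.zpowers_le).mpr hz₀Z.1)
  have hSC : (S : Subgroup G) ≤ Subgroup.centralizer ({z₀} : Set G) := by
    intro s hs
    rw [Subgroup.mem_centralizer_singleton_iff]
    exact hz₀S s hs
  have hFSN : FS p (Subgroup.normalizer ((Subgroup.zpowers z₀ : Subgroup G) : Set G)) := by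
    apply Cfsg.Agent.Lib.H7.generalizedFittingSubgroup_eq_pCore_of_centralizer_le p
    apply hG (Subgroup.zpowers z₀) hzP
    · intro h
      rw [Subgroup.zpowers_eq_bot] at h
      exact hz₀1 h
    · exact ⟨S, hSC.trans (Cfsg.Agent.Lib.H14.centralizer_singleton_le_nzr_zpowers z₀)⟩
  have hFSC : FS p (Subgroup.centralizer ({z₀} : Set G)) :=
    Cfsg.Agent.Lib.H14.fstar_centralizer_of_normalizer p z₀ hzP hFSN
  have hFSC₁ : FS p (G₁ ⊓ Subgroup.centralizer ({z₀} : Set G)) := hFSC.inf_of_isSubnormal hsn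
  have hR₁C : R₁ ≤ G₁ ⊓ Subgroup.centralizer ({z₀} : Set G) := by
    intro r hr
    refine Subgroup.mem_inf.mpr ⟨hR₁G hr, ?_⟩
    rw [Subgroup.mem_centralizer_singleton_iff]
    exact hz₀c r (hR₁T hr)
  have hFSH := hFSC₁.local hR₁ hR₁C
  obtain ⟨L₁, hL₁def⟩ : ∃ L₁, L₁ = G₁ ⊓ Subgroup.normalizer (R₁ : Set G) := ⟨_, rfl⟩
  obtain ⟨H, hHdef⟩ : ∃ H, H = (G₁ ⊓ Subgroup.centralizer ({z₀} : Set G)) ⊓
      Subgroup.normalizer (R₁ : Set G) := ⟨_, rfl⟩
  rw [← hHdef] at hFSH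
  rw [← hL₁def]
  obtain ⟨D, hDdef⟩ : ∃ D, D = L₁ ⊓ Subgroup.centralizer (Cfsg.pCoreOf p L₁ : Set G) := ⟨_, rfl⟩
  have hR₁Q : R₁ ≤ Cfsg.pCoreOf p L₁ := by
    apply le_pcoreOf _ _ hR₁
    · rw [hL₁def]; exact le_inf hR₁G Subgroup.le_normalizer
    · rw [hL₁def]; exact inf_le_right
  have hDL : D ≤ L₁ := hDdef ▸ inf_le_left
  have hDH : D ≤ H := by
    intro d hd
    have hd1 : d ∈ L₁ := hDL hd
    have hd2 : d ∈ Subgroup.centralizer (Cfsg.pCoreOf p L₁ : Set G) := by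
      rw [hDdef] at hd; exact hd.2
    rw [hL₁def] at hd1
    rw [hHdef]
    refine Subgroup.mem_inf.mpr ⟨Subgroup.mem_inf.mpr ⟨hd1.1, ?_⟩, hd1.2⟩
    rw [Subgroup.mem_centralizer_singleton_iff]
    exact ((Subgroup.mem_centralizer_iff.mp hd2) z₀ (hR₁Q hz₀R)).symm
  have hHL : H ≤ L₁ := by
    rw [hHdef, hL₁def]
    exact inf_le_inf_right _ inf_le_left
  have hLD : L₁ ≤ Subgroup.normalizer (D : Set G) := by
    rw [hDdef]
    refine le_trans ?_ (normalizer_inf_le _ _)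
    refine le_inf Subgroup.le_normalizer ?_
    exact (pcoreOf_normalized p L₁).trans
      (Cfsg.Agent.Lib.H7.normalizer_le_normalizer_centralizer _)
  have hFSD : FS p D :=
    Cfsg.Agent.Lib.H14.fstar_eq_pCore_of_normal_le p H D hDH (hHL.trans hLD) hFSH
  have hDQ : Cfsg.pCoreOf p D ≤ Cfsg.pCoreOf p L₁ := by
    apply le_pcoreOf ((pcoreOf_le p D).trans hDL) _ (pcoreOf_isPGroup p D)
    exact hLD.trans (normalizer_le_normalizer_pcoreOf p D)
  have hDp : IsPGroup p D := by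
    apply Cfsg.Agent.Lib.H7.isPGroup_of_coprime_eq_one p D
    intro y hy hc
    apply Cfsg.Agent.Lib.H7.eq_one_of_generalizedFittingSubgroup_eq_pCore p D hFSD hy hc
    apply Subgroup.centralizer_le hDQ
    rw [hDdef] at hy
    exact hy.2
  apply FS.of_ambient
  rw [← hDdef]
  exact le_pcoreOf hDL hLD hDp

theorem map_subtype_normalizer (G₁ : Subgroup G) (R : Subgroup ↥G₁) :
    (Subgroup.normalizer (R : Set ↥G₁)).map G₁.subtype =
      G₁ ⊓ Subgroup.normalizer ((R.map G₁.subtype : Subgroup G) : Set G) := by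
  ext x
  constructor
  · rintro ⟨y, hy, rfl⟩
    refine Subgroup.mem_inf.mpr ⟨y.2, ?_⟩
    apply mem_normalizer_of_cj_le
    intro h hh
    rw [mem_cj_iff] at hh
    obtain ⟨r, hr, hrh⟩ := hh
    have h1 : y * r * y⁻¹ ∈ R := (Subgroup.mem_normalizer_iff.mp hy r).mp hr
    refine ⟨y * r * y⁻¹, h1, ?_⟩
    simp only [Subgroup.coe_subtype, Subgroup.coe_mul, Subgroup.coe_inv] at hrh ⊢
    rw [hrh]; group
  · intro hx
    have hx1 : x ∈ G₁ := hx.1
    have hx2 : x ∈ Subgroup.normalizer ((R.map G₁.subtype : Subgroup G) : Set G) := hx.2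
    refine ⟨⟨x, hx1⟩, ?_, rfl⟩
    apply mem_normalizer_of_cj_le
    intro h hh
    rw [mem_cj_iff] at hh
    have h1 : x * ((⟨x, hx1⟩ : ↥G₁)⁻¹ * h * ⟨x, hx1⟩ : ↥G₁) * x⁻¹ ∈ R.map G₁.subtype :=
      (Subgroup.mem_normalizer_iff.mp hx2 _).mp ⟨_, hh, rfl⟩
    obtain ⟨r, hr, hrh⟩ := h1
    have : r = h := by
      apply Subtype.ext
      rw [Subgroup.coe_subtype] at hrh
      rw [hrh]
      simp only [Subgroup.coe_mul, Subgroup.coe_inv]
      group
    rw [← this]; exact hr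

end

/-- Let p be a prime, G a finite group of parabolic characteristic p (every p-local subgroup containing a Sylow p-subgroup of G has characteristic p), S a Sylow p-subgroup of G and G₁ a subnormal subgroup of G. If the centre of S ∩ G₁ is nontrivial and contained in the centre of S, then G₁ has parabolic characteristic p. -/
theorem result {G : Type*} [Group G] [Finite G] {p : ℕ} [Fact p.Prime] (hG : Cfsg.IsOfParabolicCharacteristic p G) (S : Sylow p G) (G₁ : Subgroup G) (hsn : G₁.IsSubnormal) (hne : ((S : Subgroup G) ⊓ G₁) ⊓ Subgroup.centralizer (((S : Subgroup G) ⊓ G₁ : Subgroup G) : Set G) ≠ ⊥) (hle : ((S : Subgroup G) ⊓ G₁) ⊓ Subgroup.centralizer (((S : Subgroup G) ⊓ G₁ : Subgroup G) : Set G) ≤ (S : Subgroup G) ⊓ Subgroup.centralizer ((S : Subgroup G) : Set G)) : Cfsg.IsOfParabolicCharacteristic p ↥G₁ := by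
  intro R hR hR1 hpar
  obtain ⟨T, hT⟩ := hpar
  obtain ⟨R₁, hR₁def⟩ : ∃ R₁, R₁ = R.map G₁.subtype := ⟨_, rfl⟩
  obtain ⟨T₁, hT₁def⟩ : ∃ T₁, T₁ = (T : Subgroup ↥G₁).map G₁.subtype := ⟨_, rfl⟩
  have hT₁ : Cfsg.Agent.Lib.H5.IsSylowIn p T₁ G₁ := hT₁def ▸ Cfsg.Agent.Lib.H5.isSylowIn_of_sylow T
  have hidx : ¬ p ∣ ((S : Subgroup G) ⊓ G₁).relIndex G₁ := by
    rw [Subgroup.inf_relIndex_right]
    exact Cfsg.Agent.Lib.H3.not_dvd_relIndex_of_isSubnormal _ hsn S.not_dvd_index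
  have hS₁ : Cfsg.Agent.Lib.H5.IsSylowIn p ((S : Subgroup G) ⊓ G₁) G₁ := by
    refine ⟨inf_le_right, S.2.to_le inf_le_left, ?_⟩
    intro Q hQ hle' hQG
    exact le_antisymm (le_of_isPGroup_of_not_dvd_relIndex hQ hle' hQG hidx) hle'
  obtain ⟨z, hzG, hz⟩ := hS₁.exists_conj hT₁
  obtain ⟨S', hS'def⟩ : ∃ S' : Sylow p G, S' = z • S := ⟨_, rfl⟩
  have hS' : (S' : Subgroup G) = cj z (S : Subgroup G) := by
    rw [hS'def]; exact coe_smul_sylow_eq_cj S z
  have hz' : T₁ = cj z ((S : Subgroup G) ⊓ G₁) := hz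
  have hS'G : (S' : Subgroup G) ⊓ G₁ = T₁ := by
    rw [hS', hz', cj_inf, cj_eq_self_of_mem hzG]
  have hZ : T₁ ⊓ Subgroup.centralizer (T₁ : Set G) =
      cj z (((S : Subgroup G) ⊓ G₁) ⊓ Subgroup.centralizer (((S : Subgroup G) ⊓ G₁ : Subgroup G) : Set G)) := by
    rw [cj_inf, ← centralizer_cj, ← hz']
  have hne' : ((S' : Subgroup G) ⊓ G₁) ⊓ Subgroup.centralizer (((S' : Subgroup G) ⊓ G₁ : Subgroup G) : Set G) ≠ ⊥ := by
    rw [hS'G, hZ]
    intro h
    apply hne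
    exact (Subgroup.map_eq_bot_iff_of_injective _ (MulAut.conj z).injective).mp h
  have hle' : ((S' : Subgroup G) ⊓ G₁) ⊓ Subgroup.centralizer (((S' : Subgroup G) ⊓ G₁ : Subgroup G) : Set G) ≤
      (S' : Subgroup G) ⊓ Subgroup.centralizer ((S' : Subgroup G) : Set G) := by
    rw [hS'G, hZ, hS', centralizer_cj, ← cj_inf]
    exact cj_mono z hle
  have hR₁p : IsPGroup p R₁ := hR₁def ▸ hR.map _
  have hR₁1 : R₁ ≠ ⊥ := by
    rw [hR₁def]
    intro h
    exact hR1 ((Subgroup.map_eq_bot_iff_of_injective _ G₁.subtype_injective).mp h)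
  have hR₁G : R₁ ≤ G₁ := hR₁def ▸ Subgroup.map_subtype_le _
  have hmap := map_subtype_normalizer G₁ R
  rw [← hR₁def] at hmap
  have hTN : (S' : Subgroup G) ⊓ G₁ ≤ Subgroup.normalizer (R₁ : Set G) := by
    rw [hS'G, hT₁def]
    refine le_trans (Subgroup.map_mono hT) ?_
    rw [hmap]
    exact inf_le_right
  have hcore := core hG S' G₁ hsn hne' hle' R₁ hR₁p hR₁1 hR₁G hTN
  rw [← hmap] at hcore
  have h1 := Cfsg.Agent.Lib.H14.fstar_eq_pCore_of_equiv p
    (Subgroup.equivMapOfInjective (Subgroup.normalizer (R : Set ↥G₁)) G₁.subtype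
      G₁.subtype_injective).symm hcore
  exact (Cfsg.Agent.Lib.H7.generalizedFittingSubgroup_eq_pCore_iff p).mp h1

end Cfsg.Agent.S3023
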