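import Cfsg.Statements.S3025
import Cfsg.Agent.Lib.H15.Conj
import Cfsg.Agent.Lib.H22.UniqueOrderP
import Cfsg.Agent.Lib.H22.UniqueInvolution

set_option autoImplicit false
open Cfsg

namespace Cfsg.Agent.S3025

open Cfsg.Agent.Lib.H15

/-- the conjugation action on a normal subgroup of prime order: the quotient by the centralizer
is cyclic of order dividing `p - 1`. -/
theorem aut_part {F : Type*} [Group F] [Finite F] (N : Subgroup F) [hN : N.Normal]
    (hp : (Nat.card N).Prime) :
    (∃ g : F, Subgroup.centralizer (N : Set F) ⊔ Subgroup.zpowers g = ⊤) ∧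
      (Subgroup.centralizer (N : Set F)).index ∣ Nat.card N - 1 := by
  classical
  haveI : Fact (Nat.card N).Prime := ⟨hp⟩
  haveI hNcyc : IsCyclic ↥N := isCyclic_of_prime_card rfl
  let φ : F →* MulAut ↥N := MulAut.conjNormal
  have hker : φ.ker = Subgroup.centralizer (N : Set F) := by
    ext f
    rw [MonoidHom.mem_ker, Subgroup.mem_centralizer_iff]
    constructor
    · intro h n hn
      have h1 := congrArg (fun ψ : MulAut ↥N => ((ψ ⟨n, hn⟩ : ↥N) : F)) h
      simp only [φ, MulAut.conjNormal_apply, MulAut.one_apply] at h1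
      have := congrArg (fun t => t * f) h1
      simpa using this.symm
    · intro h
      ext ⟨n, hn⟩
      simp only [φ, MulAut.conjNormal_apply, MulAut.one_apply]
      rw [← h n hn]; group
  have hAutCyc : IsCyclic (MulAut ↥N) := by
    have e := IsCyclic.mulAutMulEquiv ↥N
    haveI : IsCyclic (ZMod (Nat.card ↥N))ˣ := inferInstance
    exact e.isCyclic.mpr inferInstance
  have hAutCard : Nat.card (MulAut ↥N) = Nat.card N - 1 := by
    rw [IsCyclic.card_mulAut, Nat.totient_prime hp]
  constructor
  · haveI : IsCyclic ↥φ.range := inferInstance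
    obtain ⟨⟨a, ⟨g, rfl⟩⟩, hg⟩ := IsCyclic.exists_generator (α := ↥φ.range)
    refine ⟨g, ?_⟩
    rw [eq_top_iff]
    intro f _
    have h1 := hg ⟨φ f, ⟨f, rfl⟩⟩
    rw [Subgroup.mem_zpowers_iff] at h1
    obtain ⟨k, hk⟩ := h1
    have h2 : φ g ^ k = φ f := by
      have := congrArg Subtype.val hk
      simpa using this
    have h3 : f * (g ^ k)⁻¹ ∈ Subgroup.centralizer (N : Set F) := by
      rw [← hker, MonoidHom.mem_ker, map_mul, map_inv, map_zpow, h2, mul_inv_cancel]
    have : f = (f * (g ^ k)⁻¹) * g ^ k := by group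
    rw [this]
    exact Subgroup.mul_mem _ (Subgroup.mem_sup_left h3)
      (Subgroup.mem_sup_right (Subgroup.zpow_mem _ (Subgroup.mem_zpowers g) k))
  · rw [← hker, Subgroup.index_ker, ← hAutCard]
    exact Subgroup.card_subgroup_dvd_card _

/-- Let F be a finite group and H a nontrivial subgroup of F that is contained in every nontrivial subgroup of F which H normalizes. Then F has a nontrivial normal subgroup N contained in every nontrivial normal subgroup of F (a unique minimal normal subgroup), N is simple, and one of the following holds: C_F(N) = 1; or H = N has prime order p, C_F(N) is cyclic of order a power of p, and F/C_F(N) is cyclic of order dividing p − 1; or H = N has order 2, N is central in F, and F is a generalized quaternion group. -/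
theorem result {F : Type*} [Group F] [Finite F] (H : Subgroup F) (hH : H ≠ ⊥)
    (hmin : ∀ R : Subgroup F, R ≠ ⊥ → H ≤ Subgroup.normalizer (R : Set F) → H ≤ R) :
    ∃ N : Subgroup F, N.Normal ∧ N ≠ ⊥ ∧ (∀ M : Subgroup F, M.Normal → M ≠ ⊥ → N ≤ M) ∧ IsSimpleGroup ↥N ∧
      (Subgroup.centralizer (N : Set F) = ⊥ ∨
       (H = N ∧ (Nat.card N).Prime ∧ IsCyclic ↥(Subgroup.centralizer (N : Set F)) ∧
          (∃ k : ℕ, 1 ≤ k ∧ Nat.card ↥(Subgroup.centralizer (N : Set F)) = Nat.card N ^ k) ∧
          (∃ g : F, Subgroup.centralizer (N : Set F) ⊔ Subgroup.zpowers g = ⊤) ∧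
          (Subgroup.centralizer (N : Set F)).index ∣ Nat.card N - 1) ∨
       (H = N ∧ Nat.card N = 2 ∧ Subgroup.centralizer (N : Set F) = ⊤ ∧
          ∃ k : ℕ, 1 ≤ k ∧ Nonempty (F ≃* QuaternionGroup (2 ^ k)))) := by
  classical
  set N := Subgroup.normalClosure (H : Set F) with hNdef
  have hNn : N.Normal := Subgroup.normalClosure_normal
  have hHN : H ≤ N := Subgroup.le_normalClosure
  have hNne : N ≠ ⊥ := by
    intro h
    apply hH
    rw [eq_bot_iff, ← h]; exact hHN
  have hNmin : ∀ M : Subgroup F, M.Normal → M ≠ ⊥ → N ≤ M := by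
    intro M hM hMne
    have h1 : H ≤ M := by
      apply hmin M hMne
      rw [Subgroup.normalizer_eq_top]
      exact le_top
    exact Subgroup.normalClosure_le_normal h1
  -- N is simple
  have hNsimple : IsSimpleGroup ↥N := by
    haveI : Nontrivial ↥N := (Subgroup.nontrivial_iff_ne_bot N).mpr hNne
    refine ⟨fun T hT => ?_⟩
    by_cases hTb : T = ⊥
    · exact Or.inl hTb
    right
    set T' := T.map N.subtype with hT'def
    have hT'N : T' ≤ N := Subgroup.map_subtype_le T
    have hT'ne : T' ≠ ⊥ := by
      intro h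
      apply hTb
      rw [hT'def, Subgroup.map_eq_bot_iff_of_injective _ N.subtype_injective] at h
      exact h
    have hT'norm : ∀ n ∈ N, ∀ t ∈ T', n * t * n⁻¹ ∈ T' := by
      rintro n hn t ⟨t0, ht0, rfl⟩
      exact ⟨⟨n, hn⟩ * t0 * ⟨n, hn⟩⁻¹, hT.conj_mem t0 ht0 ⟨n, hn⟩, by simp⟩
    have hHle : ∀ f : F, H ≤ cj f T' := by
      intro f
      apply hmin
      · intro h
        apply hT'ne
        have := congrArg (cj f⁻¹) h
        rw [cj_inv_cj] at this
        rw [this]
        exact Subgroup.map_bot _
      · intro h hh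
        apply mem_normalizer_of_cj_le
        rw [cj_cj, cj_le_iff, cj_cj]
        intro t ht
        rw [mem_cj_iff]
        have h1 : f⁻¹ * h * f ∈ N := by
          have := hNn.conj_mem h (hHN hh) f⁻¹
          simpa using this
        have h2 := hT'norm _ h1 t ht
        have e : (f⁻¹ * h * f) * t * (f⁻¹ * h * f)⁻¹ = ((h * f)⁻¹ * f)⁻¹ * t * ((h * f)⁻¹ * f) := by group
        rw [← e]; exact h2
    have hHcore : H ≤ T'.normalCore := by
      intro h hh
      rw [Subgroup.normalCore]
      intro b
      have := hHle b⁻¹ hh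
      rw [mem_cj_iff] at this
      simpa using this
    have hcorene : T'.normalCore ≠ ⊥ := by
      intro h
      apply hH
      rw [eq_bot_iff, ← h]; exact hHcore
    have hNT' : N ≤ T' := (hNmin _ (Subgroup.normalCore_normal T') hcorene).trans (Subgroup.normalCore_le T')
    rw [eq_top_iff]
    rintro ⟨n, hn⟩ _
    obtain ⟨t0, ht0, ht0'⟩ := hNT' hn
    have : t0 = ⟨n, hn⟩ := Subtype.ext ht0'
    rw [← this]; exact ht0
  refine ⟨N, hNn, hNne, hNmin, hNsimple, ?_⟩
  set C := Subgroup.centralizer (N : Set F) with hCdef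
  by_cases hCb : C = ⊥
  · exact Or.inl hCb
  right
  have hCn : C.Normal := by rw [hCdef]; infer_instance
  have hNC : N ≤ C := hNmin C hCn hCb
  -- N is abelian and simple, so of prime order
  have hNcomm : IsMulCommutative ↥N := by
    rw [← Subgroup.le_centralizer_iff_isMulCommutative]; exact hNC
  have hNprime : (Nat.card N).Prime := by
    letI : CommGroup ↥N := { (inferInstance : Group ↥N) with mul_comm := hNcomm.is_comm.comm }
    haveI : IsSimpleGroup ↥N := hNsimple
    exact IsSimpleGroup.prime_card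
  set p := Nat.card N with hpdef
  haveI : Fact p.Prime := ⟨hNprime⟩
  have hHeq : H = N := by
    apply eq_of_le_of_card_le' hHN
    have hdvd : Nat.card H ∣ p := Subgroup.card_dvd_of_le hHN
    rcases (Nat.dvd_prime hNprime).mp hdvd with h1 | h1
    · exact absurd (Subgroup.card_eq_one.mp h1) hH
    · rw [h1]
  -- every nontrivial subgroup of C contains N
  have hsub : ∀ R : Subgroup F, R ≤ C → R ≠ ⊥ → N ≤ R := by
    intro R hRC hRne
    rw [← hHeq]
    apply hmin R hRne
    rw [hHeq]
    refine le_trans ?_ (Subgroup.centralizer_le_normalizer _)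
    intro n hn
    rw [Subgroup.mem_centralizer_iff]
    intro r hr
    exact ((Subgroup.mem_centralizer_iff.mp (hRC hr)) n hn).symm
  have hCp : IsPGroup p ↥C := by
    have hcard : Nat.card C = p ^ (Nat.card C).primeFactorsList.length := by
      apply Nat.eq_prime_pow_of_unique_prime_dvd Nat.card_pos.ne'
      intro q hq hqd
      haveI : Fact q.Prime := ⟨hq⟩
      obtain ⟨c, hc⟩ := exists_prime_orderOf_dvd_card' q hqd
      have hc' : orderOf (c : F) = q := by rw [Subgroup.orderOf_coe]; exact hc
      have h1 : N ≤ Subgroup.zpowers (c : F) := by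
        apply hsub
        · rw [Subgroup.zpowers_le]; exact c.2
        · rw [Ne, Subgroup.zpowers_eq_bot]
          intro h
          rw [h, orderOf_one] at hc'
          exact hq.one_lt.ne hc'
      have h2 : p ∣ q := by
        have := Subgroup.card_dvd_of_le h1
        rwa [Nat.card_zpowers, hc'] at this
      exact ((Nat.prime_dvd_prime_iff_eq hNprime hq).mp h2).symm
    exact IsPGroup.of_card hcard
  have huniq : Cfsg.Agent.Lib.H22.AtMostOneOrderP p ↥C := by
    have key : ∀ A : Subgroup ↥C, Nat.card A = p → A.map C.subtype = N := by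
      intro A hA
      symm
      apply eq_of_le_of_card_le'
      · apply hsub _ (Subgroup.map_subtype_le A)
        intro h
        rw [Subgroup.map_eq_bot_iff_of_injective _ C.subtype_injective] at h
        rw [h, Subgroup.card_bot] at hA
        exact hNprime.one_lt.ne hA
      · rw [Subgroup.card_map_of_injective C.subtype_injective, hA]
    intro A B hA hB
    apply Subgroup.map_injective C.subtype_injective
    rw [key A hA, key B hB]
  obtain ⟨⟨g, hg⟩, hidx⟩ := aut_part N hNprime
  have hCcard : ∃ k : ℕ, 1 ≤ k ∧ Nat.card ↥C = p ^ k := by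
    obtain ⟨k, hk⟩ := IsPGroup.iff_card.mp hCp
    refine ⟨k, ?_, hk⟩
    by_contra h0
    have : k = 0 := by omega
    rw [this, pow_zero] at hk
    exact hCb (Subgroup.card_eq_one.mp hk)
  by_cases hp2 : p = 2
  · -- p = 2 : C = ⊤
    have hCtop : C = ⊤ := by
      rw [← Subgroup.index_eq_one]
      have h1 : C.index ∣ 2 - 1 := by
        have := hidx
        rw [← hpdef, hp2] at this
        exact this
      exact Nat.dvd_one.mp h1
    have hCp2 : IsPGroup 2 ↥C := by rw [← hp2]; exact hCp
    have huniq2 : Cfsg.Agent.Lib.H22.AtMostOneOrderP 2 ↥C := by rw [← hp2]; exact huniq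
    rcases Cfsg.Agent.Lib.H22.cyclic_or_quaternion_of_atMostOne hCp2 huniq2 with hcyc | ⟨k, hk, ⟨e⟩⟩
    · left
      exact ⟨hHeq, hNprime, hcyc, hCcard, ⟨g, hg⟩, hidx⟩
    · right
      refine ⟨hHeq, hp2, hCtop, k, hk, ⟨?_⟩⟩
      exact (Subgroup.topEquiv.symm.trans (MulEquiv.subgroupCongr hCtop.symm)).trans e
  · left
    have hcyc : IsCyclic ↥C :=
      Cfsg.Agent.Lib.H22.isCyclic_of_atMostOne_of_odd hp2 _ ↥C rfl hCp huniq
    exact ⟨hHeq, hNprime, hcyc, hCcard, ⟨g, hg⟩, hidx⟩


end Cfsg.Agent.S3025
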