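import Cfsg.Statements.S3027
import Mathlib
import Cfsg.Agent.Lib.H15.Conj

set_option autoImplicit false
open Cfsg

namespace Cfsg.Agent.S3027

open Cfsg.Agent.Lib.H15
open scoped commutatorElement Pointwise

universe u

/-- Dedekind's modular law for a normal `D`. -/
theorem dedekind {G : Type*} [Group G] {X K D : Subgroup G} [D.Normal] (hXK : X ≤ K)
    (h : K ≤ X ⊔ D) : K ≤ X ⊔ (D ⊓ K) := by
  intro k hk
  have hk' : k ∈ ((X ⊔ D : Subgroup G) : Set G) := h hk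
  rw [Subgroup.mul_normal] at hk'
  obtain ⟨x, hx, d, hd, rfl⟩ := Set.mem_mul.mp hk'
  have hdK : d ∈ K := by
    have : d = x⁻¹ * (x * d) := by group
    rw [this]
    exact mul_mem (inv_mem (hXK hx)) hk
  exact mul_mem ((le_sup_left : X ≤ X ⊔ (D ⊓ K)) hx)
    ((le_sup_right : D ⊓ K ≤ X ⊔ (D ⊓ K)) ⟨hd, hdK⟩)

/-- If `B₁ D = B₂ D = G` then commutators lie in `(B₁ ∩ B₂') D` where ... (normal case). -/
theorem commutator_le_of_sup {G : Type*} [Group G] {B₁ B₂ D N : Subgroup G} [D.Normal] [N.Normal]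
    (h₁ : B₁ ⊔ D = ⊤) (h₂ : B₂ ⊔ D = ⊤) (hDN : D ≤ N)
    (hc : ∀ b₁ ∈ B₁, ∀ b₂ ∈ B₂, ⁅b₁, b₂⁆ ∈ N) :
    ⁅(⊤ : Subgroup G), (⊤ : Subgroup G)⁆ ≤ N := by
  rw [Subgroup.commutator_le]
  intro g _ h _
  have hg : g ∈ ((B₁ ⊔ D : Subgroup G) : Set G) := by rw [h₁]; trivial
  have hh : h ∈ ((B₂ ⊔ D : Subgroup G) : Set G) := by rw [h₂]; trivial
  rw [Subgroup.mul_normal] at hg hh
  obtain ⟨b₁, hb₁, d₁, hd₁, rfl⟩ := Set.mem_mul.mp hg
  obtain ⟨b₂, hb₂, d₂, hd₂, rfl⟩ := Set.mem_mul.mp hh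
  rw [← QuotientGroup.eq_one_iff (N := N)]
  have e1 : ((d₁ : G) : G ⧸ N) = 1 := (QuotientGroup.eq_one_iff d₁).mpr (hDN hd₁)
  have e2 : ((d₂ : G) : G ⧸ N) = 1 := (QuotientGroup.eq_one_iff d₂).mpr (hDN hd₂)
  have e3 : ((⁅b₁, b₂⁆ : G) : G ⧸ N) = 1 := (QuotientGroup.eq_one_iff _).mpr (hc b₁ hb₁ b₂ hb₂)
  have : ((⁅b₁ * d₁, b₂ * d₂⁆ : G) : G ⧸ N) = ((⁅b₁, b₂⁆ : G) : G ⧸ N) := by
    simp only [commutatorElement_def, QuotientGroup.mk_mul, QuotientGroup.mk_inv, e1, e2, mul_one]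
  rw [this, e3]

/-- The normal/normal case. -/
theorem inter_normal {G : Type*} [Group G] (D : Subgroup G) [D.Normal]
    (hperf : ⁅(⊤ : Subgroup G), (⊤ : Subgroup G)⁆ ⊔ D = ⊤) {B₁ B₂ : Subgroup G}
    (hn₁ : B₁.Normal) (hn₂ : B₂.Normal) (h₁ : B₁ ⊔ D = ⊤) (h₂ : B₂ ⊔ D = ⊤) :
    (B₁ ⊓ B₂) ⊔ D = ⊤ := by
  haveI : ((B₁ ⊓ B₂) ⊔ D).Normal := inferInstance
  have hc := commutator_le_of_sup (N := (B₁ ⊓ B₂) ⊔ D) h₁ h₂ le_sup_right (by
    intro b₁ hb₁ b₂ hb₂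
    apply (le_sup_left : B₁ ⊓ B₂ ≤ (B₁ ⊓ B₂) ⊔ D)
    refine Subgroup.mem_inf.mpr ⟨?_, ?_⟩
    · rw [commutatorElement_def]
      have : b₁ * b₂ * b₁⁻¹ * b₂⁻¹ = b₁ * (b₂ * b₁⁻¹ * b₂⁻¹) := by group
      rw [this]
      exact mul_mem hb₁ (hn₁.conj_mem _ (inv_mem hb₁) b₂)
    · rw [commutatorElement_def]
      exact mul_mem (hn₂.conj_mem _ hb₂ b₁) (inv_mem hb₂))
  rw [eq_top_iff, ← hperf]
  exact sup_le hc le_sup_right

/-- Perfectness passes to a normal supplement of `D`. -/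
theorem perfect_of_sup {G : Type*} [Group G] (D : Subgroup G) [D.Normal]
    (hperf : ⁅(⊤ : Subgroup G), (⊤ : Subgroup G)⁆ ⊔ D = ⊤) {K : Subgroup G} (hK : K.Normal)
    (hKD : K ⊔ D = ⊤) :
    ⁅(⊤ : Subgroup ↥K), (⊤ : Subgroup ↥K)⁆ ⊔ D.subgroupOf K = ⊤ := by
  haveI := hK
  haveI : (⁅K, K⁆ ⊔ D).Normal := inferInstance
  have hc := commutator_le_of_sup (N := ⁅K, K⁆ ⊔ D) hKD hKD le_sup_right (by
    intro b₁ hb₁ b₂ hb₂
    exact (le_sup_left : ⁅K, K⁆ ≤ ⁅K, K⁆ ⊔ D) (Subgroup.commutator_mem_commutator hb₁ hb₂))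
  have htop : ⁅K, K⁆ ⊔ D = ⊤ := by
    rw [eq_top_iff, ← hperf]
    exact sup_le hc le_sup_right
  have hKle : K ≤ ⁅K, K⁆ ⊔ (D ⊓ K) :=
    dedekind (Subgroup.commutator_le_left K K) (htop ▸ le_top)
  apply Subgroup.map_injective K.subtype_injective
  rw [Subgroup.map_sup, Subgroup.map_commutator, ← MonoidHom.range_eq_map, Subgroup.range_subtype,
    Subgroup.subgroupOf_map_subtype]
  apply le_antisymm
  · exact sup_le (Subgroup.commutator_le_left K K) inf_le_right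
  · exact hKle

/-- Reduction to a normal supplement `K`: the intersection property in `↥K` gives it for
subgroups of `K`. -/
theorem inter_of_sub {G : Type*} [Group G] (D : Subgroup G) [D.Normal]
    (hperf : ⁅(⊤ : Subgroup G), (⊤ : Subgroup G)⁆ ⊔ D = ⊤) {K : Subgroup G} (hK : K.Normal)
    (hKD : K ⊔ D = ⊤)
    (IH : ∀ (D' : Subgroup ↥K) [D'.Normal],
      ⁅(⊤ : Subgroup ↥K), (⊤ : Subgroup ↥K)⁆ ⊔ D' = ⊤ →
      ∀ B₁ B₂ : Subgroup ↥K, B₁.IsSubnormal → B₂.IsSubnormal → B₁ ⊔ D' = ⊤ → B₂ ⊔ D' = ⊤ →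
        (B₁ ⊓ B₂) ⊔ D' = ⊤)
    {X Y : Subgroup G} (hXK : X ≤ K) (hYK : Y ≤ K)
    (hX : (X.subgroupOf K).IsSubnormal) (hY : (Y.subgroupOf K).IsSubnormal)
    (hXD : X ⊔ D = ⊤) (hYD : Y ⊔ D = ⊤) : (X ⊓ Y) ⊔ D = ⊤ := by
  have hp := perfect_of_sup D hperf hK hKD
  have key : ∀ Z : Subgroup G, Z ≤ K → Z ⊔ D = ⊤ → Z.subgroupOf K ⊔ D.subgroupOf K = ⊤ := by
    intro Z hZK hZD
    have h1 : K ≤ Z ⊔ (D ⊓ K) := dedekind hZK (hZD ▸ le_top)
    rw [← Subgroup.inf_subgroupOf_right D K, ← Subgroup.subgroupOf_sup hZK inf_le_right,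
      Subgroup.subgroupOf_eq_top]
    exact h1
  have h := IH (D.subgroupOf K) hp _ _ hX hY (key X hXK hXD) (key Y hYK hYD)
  have hKle : K ≤ (X ⊓ Y) ⊔ D := by
    intro k hk
    have hk' : (⟨k, hk⟩ : ↥K) ∈ (X.subgroupOf K ⊓ Y.subgroupOf K) ⊔ D.subgroupOf K := by
      rw [h]; trivial
    have hmap : ((X.subgroupOf K ⊓ Y.subgroupOf K) ⊔ D.subgroupOf K).map K.subtype ≤
        (X ⊓ Y) ⊔ D := by
      rw [Subgroup.map_sup]
      apply sup_le_sup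
      · rintro _ ⟨z, hz, rfl⟩
        exact ⟨Subgroup.mem_subgroupOf.mp hz.1, Subgroup.mem_subgroupOf.mp hz.2⟩
      · rintro _ ⟨z, hz, rfl⟩
        exact Subgroup.mem_subgroupOf.mp hz
    exact hmap ⟨⟨k, hk⟩, hk', rfl⟩
  rw [eq_top_iff, ← hKD]
  exact sup_le hKle le_sup_right

/-- Closure under intersection of the subnormal supplements of `D`. -/
theorem inter_subnormal : ∀ (n : ℕ) (G : Type u) [Group G] [Finite G], Nat.card G = n →
    ∀ (D : Subgroup G) [D.Normal], ⁅(⊤ : Subgroup G), (⊤ : Subgroup G)⁆ ⊔ D = ⊤ →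
    ∀ B₁ B₂ : Subgroup G, B₁.IsSubnormal → B₂.IsSubnormal → B₁ ⊔ D = ⊤ → B₂ ⊔ D = ⊤ →
      (B₁ ⊓ B₂) ⊔ D = ⊤ := by
  intro n
  induction n using Nat.strong_induction_on with
  | _ n ih =>
  intro G _ _ hcard D _ hperf B₁ B₂ hB₁ hB₂ h₁ h₂
  -- induction hypothesis for proper subgroups
  have IHK : ∀ K : Subgroup G, K < ⊤ → ∀ (D' : Subgroup ↥K) [D'.Normal],
      ⁅(⊤ : Subgroup ↥K), (⊤ : Subgroup ↥K)⁆ ⊔ D' = ⊤ →
      ∀ B₁ B₂ : Subgroup ↥K, B₁.IsSubnormal → B₂.IsSubnormal → B₁ ⊔ D' = ⊤ → B₂ ⊔ D' = ⊤ →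
        (B₁ ⊓ B₂) ⊔ D' = ⊤ := by
    intro K hK D' _ hp' C₁ C₂ hC₁ hC₂ hc₁ hc₂
    have hlt : Nat.card ↥K < n := by
      rw [← hcard]
      have hne : K ≠ ⊤ := ne_of_lt hK
      by_contra hge
      apply hne
      rw [← Subgroup.card_eq_iff_eq_top]
      exact le_antisymm (Subgroup.card_le_card_group K) (Nat.le_of_not_lt hge)
    exact ih _ hlt ↥K rfl D' hp' C₁ C₂ hC₁ hC₂ hc₁ hc₂
  -- Claim A: normal ∩ subnormal
  have claimA : ∀ H : Subgroup G, H.Normal → H ⊔ D = ⊤ → ∀ B : Subgroup G, B.IsSubnormal →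
      B ⊔ D = ⊤ → (H ⊓ B) ⊔ D = ⊤ := by
    intro H hH hHD B hB hBD
    rcases hB.lt_normal with rfl | ⟨K, hKn, hBK, hKlt⟩
    · rwa [inf_top_eq]
    · have hKD : K ⊔ D = ⊤ := by
        rw [eq_top_iff, ← hBD]; exact sup_le_sup_right hBK D
      have hHK : (H ⊓ K) ⊔ D = ⊤ := inter_normal D hperf hH hKn hHD hKD
      haveI : (H ⊓ K).Normal := by haveI := hH; haveI := hKn; infer_instance
      have h := inter_of_sub D hperf hKn hKD (IHK K hKlt) (X := H ⊓ K) (Y := B) inf_le_right hBK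
        (Subgroup.Normal.isSubnormal inferInstance) hB.subgroupOf hHK hBD
      rw [eq_top_iff, ← h]
      exact sup_le_sup_right (le_inf (inf_le_left.trans inf_le_left) inf_le_right) D
  rcases hB₁.lt_normal with rfl | ⟨H, hHn, hBH, hHlt⟩
  · rwa [top_inf_eq]
  · have hHD : H ⊔ D = ⊤ := by
      rw [eq_top_iff, ← h₁]; exact sup_le_sup_right hBH D
    have hA := claimA H hHn hHD B₂ hB₂ h₂
    have h := inter_of_sub D hperf hHn hHD (IHK H hHlt) (X := B₁) (Y := H ⊓ B₂) hBH inf_le_left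
      hB₁.subgroupOf ((hHn.isSubnormal.inf hB₂).subgroupOf) h₁ hA
    rw [eq_top_iff, ← h]
    exact sup_le_sup_right (le_inf inf_le_left (inf_le_right.trans inf_le_right)) D


/-- Let G be a finite group and D a normal subgroup of G such that G/D is perfect (that is, G = G′D). Then among the subnormal subgroups B of G with BD = G there is a least one, and it is normal in G. -/
theorem result {G : Type*} [Group G] [Finite G] (D : Subgroup G) [D.Normal] (hperf : ⁅(⊤ : Subgroup G), (⊤ : Subgroup G)⁆ ⊔ D = ⊤) :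
    ∃ B : Subgroup G, B.Normal ∧ B ⊔ D = ⊤ ∧ ∀ B' : Subgroup G, B'.IsSubnormal → B' ⊔ D = ⊤ → B ≤ B' := by
  classical
  have hne : Nonempty {B : Subgroup G // B.IsSubnormal ∧ B ⊔ D = ⊤} :=
    ⟨⟨⊤, Subgroup.IsSubnormal.top, top_sup_eq D⟩⟩
  obtain ⟨⟨B, hBsn, hBD⟩, hmin⟩ := Finite.exists_min
    (fun X : {B : Subgroup G // B.IsSubnormal ∧ B ⊔ D = ⊤} => Nat.card (X : Subgroup G))
  have hleast : ∀ B' : Subgroup G, B'.IsSubnormal → B' ⊔ D = ⊤ → B ≤ B' := by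
    intro B' hB' hB'D
    have hint := inter_subnormal (Nat.card G) G rfl D hperf B B' hBsn hB' hBD hB'D
    have h1 := hmin ⟨B ⊓ B', hBsn.inf hB', hint⟩
    simp only at h1
    have h2 : B ⊓ B' = B := eq_of_le_of_card_le' inf_le_left h1
    exact inf_eq_left.mp h2
  refine ⟨B, ?_, hBD, hleast⟩
  -- normality
  have hcjle : ∀ g : G, B ≤ cj g B := by
    intro g
    apply hleast
    · exact hBsn.map (MulAut.conj g).surjective
    · have : cj g (B ⊔ D) = cj g B ⊔ cj g D := Subgroup.map_sup _ _ _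
      have hD : cj g D = D := mem_normalizer_iff_cj_eq.mp
        ((Subgroup.normalizer_eq_top_iff.mpr (inferInstance : D.Normal)) ▸ Subgroup.mem_top g)
      rw [← hD, ← this, hBD]
      exact Subgroup.map_top_of_surjective _ (MulAut.conj g).surjective
  constructor
  intro n hn g
  have := (cj_le_iff g).mpr (hcjle g⁻¹)
  exact this (conj_mem_cj hn)

end Cfsg.Agent.S3027
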