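import Cfsg.Statements.S3032
import Mathlib
import Cfsg.Agent.Lib.H21.SClI

set_option autoImplicit false
open Cfsg

namespace Cfsg.Agent.S3032

open Cfsg.Agent.Lib.H3 Cfsg.Agent.Lib.H15 Cfsg.Agent.Lib.H21.HSub Cfsg.Agent.Lib.H21.SCl

/-- Let G be a finite group and E a normal subgroup with G/E supersolvable. Suppose that for every prime p and every non-cyclic Sylow p-subgroup P of E there is a subgroup D of P with 1 < |D| < |P| such that every subgroup F of P of order |D|, and also every subgroup F of P of order 4 when |D| = 2, satisfies g F g⁻¹ ∩ N_G(F) ≤ F for all g ∈ G. Then G is supersolvable. -/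
theorem result {G : Type*} [Group G] [Finite G] (E : Subgroup G) [E.Normal] (hGE : Cfsg.IsSupersolvable (G ⧸ E))
    (h : ∀ (p : ℕ), p.Prime → ∀ P : Subgroup G, P ≤ E → IsPGroup p P → ¬ p ∣ P.relIndex E → ¬ IsCyclic ↥P →
      ∃ D : Subgroup G, D ≤ P ∧ 1 < Nat.card D ∧ Nat.card D < Nat.card P ∧
        ∀ F : Subgroup G, F ≤ P → (Nat.card F = Nat.card D ∨ (Nat.card D = 2 ∧ Nat.card F = 4)) →
          ∀ g : G, F.map (MulAut.conj g).toMonoidHom ⊓ Subgroup.normalizer (F : Set G) ≤ F) :
    Cfsg.IsSupersolvable G := by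
  have hEn : E.Normal := inferInstance
  rw [isSupersolvable_iff] at hGE ⊢
  apply ssReach_of_sHyp (Nat.card E) E hEn rfl hGE
  intro p hp
  haveI : Fact p.Prime := ⟨hp⟩
  obtain ⟨S⟩ : Nonempty (Sylow p E) := inferInstance
  obtain ⟨Q, hQ⟩ := S.exists_comap_subtype_eq
  obtain ⟨P₀, hP₀⟩ : ∃ P₀ : Subgroup G, P₀ = (Q : Subgroup G) ⊓ E := ⟨_, rfl⟩
  have hP₀E : P₀ ≤ E := hP₀ ▸ inf_le_right
  have hP₀p : IsPGroup p P₀ := Q.2.to_le (hP₀ ▸ inf_le_left)
  have hidx : ¬ p ∣ P₀.relIndex E := by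
    rw [hP₀, Subgroup.inf_relIndex_right]
    show ¬ p ∣ ((Q : Subgroup G).subgroupOf E).index
    have h1 : (Q : Subgroup G).subgroupOf E = (S : Subgroup E) := by
      rw [← hQ]; rfl
    rw [h1]; exact S.not_dvd_index
  have hconj : ∀ F : Subgroup G, F ≤ E → IsPGroup p F → ∃ a, cj a F ≤ P₀ := by
    intro F hFE hF
    obtain ⟨a, ha⟩ := exists_cj_le_sylow Q hF
    refine ⟨a, hP₀ ▸ le_inf ha ?_⟩
    rintro _ ⟨f, hf, rfl⟩
    exact hEn.conj_mem f (hFE hf) a
  by_cases hcyc : IsCyclic ↥P₀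
  · left
    intro F hFE hF
    obtain ⟨a, ha⟩ := hconj F hFE hF
    have h1 : IsCyclic (cj a F) := Subgroup.isCyclic_of_le ha
    exact ((Subgroup.equivMapOfInjective F (MulAut.conj a).toMonoidHom
      (MulAut.conj a).injective).isCyclic).mpr h1
  · right
    obtain ⟨D, hDP, hD1, hDlt, hDF⟩ := h p hp P₀ hP₀E hP₀p hidx hcyc
    obtain ⟨d, hd⟩ := (hP₀p.to_le hDP).exists_card_eq
    refine ⟨d, ?_, ?_, ?_⟩
    · by_contra h0
      have h00 : d = 0 := by omega
      rw [h00, pow_zero] at hd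
      omega
    · obtain ⟨j, hj⟩ := hP₀p.exists_card_eq
      have hdj : d < j := by
        rw [hd, hj] at hDlt
        exact (Nat.pow_lt_pow_iff_right hp.one_lt).mp hDlt
      exact (pow_dvd_pow p hdj).trans (hj ▸ Subgroup.card_dvd_of_le hP₀E)
    · intro F hFE hFc
      have hF : IsPGroup p F := by
        rcases hFc with h1 | ⟨h1, h2⟩
        · exact IsPGroup.of_card h1
        · have hp2 : p = 2 := by
            have hd0 : d ≠ 0 := by
              rintro rfl
              rw [pow_zero] at h1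
              omega
            have : p ∣ 2 := by rw [← h1]; exact dvd_pow_self p hd0
            exact (Nat.prime_dvd_prime_iff_eq hp Nat.prime_two).mp this
          exact IsPGroup.of_card (n := 2) (by rw [h2, hp2]; norm_num)
      obtain ⟨a, ha⟩ := hconj F hFE hF
      have h1 : HS (cj a F) := by
        apply hDF _ ha
        rw [card_cj, hd]
        exact hFc
      have := h1.cj a⁻¹
      rwa [cj_inv_cj] at this

end Cfsg.Agent.S3032
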