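import Cfsg.Statements.S3036
import Cfsg.Agent.Lib.H15.CD
import Cfsg.Agent.Lib.H15.Conj

set_option autoImplicit false
open Cfsg

namespace Cfsg.Agent.S3036

open Cfsg.Agent.Lib.H15
open scoped Pointwise

theorem meas_cj {G : Type*} [Group G] (g : G) (H : Subgroup G) : meas (cj g H) = meas H := by
  unfold meas
  rw [centralizer_cj, card_cj, card_cj]

theorem large_cj {G : Type*} [Group G] [Finite G] (g : G) {H : Subgroup G}
    (h : Cfsg.IsCentralizerLarge H) : Cfsg.IsCentralizerLarge (cj g H) := by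
  rw [isCentralizerLarge_iff] at h ⊢
  intro K
  rw [meas_cj]
  exact h K

theorem normal_of_cj_eq {G : Type*} [Group G] {H : Subgroup G} (h : ∀ g : G, cj g H = H) :
    H.Normal := by
  constructor
  intro n hn g
  have := conj_mem_cj (g := g) hn
  rwa [h g] at this

theorem meas_bot {G : Type*} [Group G] [Finite G] : meas (⊥ : Subgroup G) = Nat.card G := by
  unfold meas
  rw [Subgroup.coe_bot, Subgroup.centralizer_eq_top_iff_subset.mpr (by simp)]
  simp

theorem meas_top {G : Type*} [Group G] [Finite G] [IsSimpleGroup G] (hG : ¬ IsMulCommutative G) :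
    meas (⊤ : Subgroup G) = Nat.card G := by
  unfold meas
  have hc : Subgroup.centralizer ((⊤ : Subgroup G) : Set G) = Subgroup.center G := by
    rw [Subgroup.coe_top, Subgroup.centralizer_univ]
  rw [hc]
  have hz : Subgroup.center G = ⊥ := by
    rcases IsSimpleGroup.eq_bot_or_eq_top_of_normal (Subgroup.center G) inferInstance with h | h
    · exact h
    · exfalso
      apply hG
      constructor
      constructor
      intro a b
      have ha : a ∈ Subgroup.center G := h ▸ Subgroup.mem_top a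
      exact (Subgroup.mem_center_iff.mp ha b).symm
  rw [hz]
  simp

theorem max_eq_card {G : Type*} [Group G] [Finite G] [IsSimpleGroup G] (hG : ¬ IsMulCommutative G) :
    Cfsg.maxCentralizerProduct G = Nat.card G := by
  obtain ⟨H0, hH0⟩ := exists_meas_eq_max (G := G)
  have : Nonempty {H : Subgroup G // Cfsg.IsCentralizerLarge H} := ⟨⟨H0, hH0⟩⟩
  obtain ⟨⟨H, hH⟩, hmin⟩ := Finite.exists_min
    (fun H : {H : Subgroup G // Cfsg.IsCentralizerLarge H} => Nat.card (H : Subgroup G))
  have hnorm : ∀ g : G, cj g H = H := by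
    intro g
    have hl := (cd_main hH (large_cj g hH)).2.1
    have h1 := hmin ⟨H ⊓ cj g H, hl⟩
    simp only at h1
    have h2 : H ⊓ cj g H = H :=
      eq_of_le_of_card_le (H := H ⊓ cj g H) (K := H) inf_le_left h1
    have h3 : H ≤ cj g H := inf_eq_left.mp h2
    exact (eq_of_le_of_card_le h3 (card_cj g H).le).symm
  have hN := normal_of_cj_eq hnorm
  have hm : meas H = Cfsg.maxCentralizerProduct G := hH
  rcases IsSimpleGroup.eq_bot_or_eq_top_of_normal H hN with h | h
  · rw [← hm, h, meas_bot]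
  · rw [← hm, h, meas_top hG]

/-- Let G be a finite non-abelian simple group and A a proper nontrivial subgroup of G. Then |G| > |A| · |C_G(A)|. In particular |G| > |A|² for every nontrivial abelian subgroup A of G. -/
theorem result {G : Type*} [Group G] [Finite G] [IsSimpleGroup G] (hG : ¬ IsMulCommutative G) (A : Subgroup G) (hA1 : A ≠ ⊥) (hA2 : A ≠ ⊤) : Nat.card A * Nat.card ↥(Subgroup.centralizer (A : Set G)) < Nat.card G := by
  by_contra hcon
  have hge : Nat.card G ≤ meas A := not_lt.mp hcon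
  have hmax := max_eq_card (G := G) hG
  have hAl : Cfsg.IsCentralizerLarge A := by
    show meas A = Cfsg.maxCentralizerProduct G
    apply le_antisymm (meas_le_max A)
    rw [hmax]; exact hge
  have : Nonempty {H : Subgroup G // Cfsg.IsCentralizerLarge H ∧ H ≠ ⊤} := ⟨⟨A, hAl, hA2⟩⟩
  obtain ⟨⟨H, hH, hHtop⟩, hmaxH⟩ := Finite.exists_max
    (fun H : {H : Subgroup G // Cfsg.IsCentralizerLarge H ∧ H ≠ ⊤} => Nat.card (H : Subgroup G))
  have hHbot : H ≠ ⊥ := by
    intro hb
    have h1 := hmaxH ⟨A, hAl, hA2⟩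
    simp only at h1
    rw [hb, Subgroup.card_bot] at h1
    apply hA1
    exact (Subgroup.card_le_one_iff_eq_bot A).mp h1
  have hnn : ¬ ∀ g : G, cj g H = H := by
    intro hall
    rcases IsSimpleGroup.eq_bot_or_eq_top_of_normal H (normal_of_cj_eq hall) with h | h
    · exact hHbot h
    · exact hHtop h
  simp only [not_forall] at hnn
  obtain ⟨g, hg⟩ := hnn
  have hcd := cd_main hH (large_cj g hH)
  have hKl := hcd.1
  have hKtop : H ⊔ cj g H = ⊤ := by
    by_contra hne
    have h1 := hmaxH ⟨H ⊔ cj g H, hKl, hne⟩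
    simp only at h1
    have h2 : H = H ⊔ cj g H := eq_of_le_of_card_le le_sup_left h1
    have h3 : cj g H ≤ H := sup_eq_left.mp h2.symm
    exact hg (cj_eq_of_cj_le h3)
  have hset := hcd.2.2.1
  rw [hKtop] at hset
  have hmem : g⁻¹ ∈ ((⊤ : Subgroup G) : Set G) := Subgroup.mem_top _
  rw [hset] at hmem
  obtain ⟨h, hh, y, hy, hprod⟩ := Set.mem_mul.mp hmem
  have hy' : g⁻¹ * y * g ∈ H := mem_cj_iff.mp hy
  have hgH : g ∈ H := by
    have hy2 : y = h⁻¹ * g⁻¹ := by
      have hp : h * y = g⁻¹ := hprod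
      rw [← hp]; simp
    have e1 : g⁻¹ * y * g = g⁻¹ * h⁻¹ := by
      rw [hy2]; simp [mul_assoc]
    rw [e1] at hy'
    have h3 : g⁻¹ * h⁻¹ * h ∈ H := H.mul_mem hy' hh
    rw [inv_mul_cancel_right] at h3
    exact (Subgroup.inv_mem_iff H).mp h3
  exact hg (cj_eq_self_of_mem hgH)

end Cfsg.Agent.S3036
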