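import Cfsg.Statements.S3037
import Cfsg.Agent.Lib.H15.Conj
import Cfsg.Agent.Lib.H19.ProdCard

set_option autoImplicit false
open Cfsg

namespace Cfsg.Agent.S3037

open Cfsg.Agent.Lib.H15

variable {X : Type*} [Group X]

/-- The fixed points of `D` on `V`. -/
def cv (V D : Subgroup X) : Subgroup X := V ⊓ Subgroup.centralizer (D : Set X)

theorem cv_anti (V : Subgroup X) {D E : Subgroup X} (h : D ≤ E) : cv V E ≤ cv V D :=
  inf_le_inf_left V (Subgroup.centralizer_le h)

theorem cv_sup (V D E : Subgroup X) : cv V (D ⊔ E) = cv V D ⊓ cv V E := by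
  apply le_antisymm
  · exact le_inf (cv_anti V le_sup_left) (cv_anti V le_sup_right)
  · intro x hx
    obtain ⟨h1, h2⟩ := Subgroup.mem_inf.mp hx
    refine Subgroup.mem_inf.mpr ⟨(Subgroup.mem_inf.mp h1).1, ?_⟩
    have hD : D ≤ Subgroup.centralizer ((Subgroup.zpowers x : Subgroup X) : Set X) := by
      rw [Subgroup.le_centralizer_iff, Subgroup.zpowers_le]
      exact (Subgroup.mem_inf.mp h1).2
    have hE : E ≤ Subgroup.centralizer ((Subgroup.zpowers x : Subgroup X) : Set X) := by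
      rw [Subgroup.le_centralizer_iff, Subgroup.zpowers_le]
      exact (Subgroup.mem_inf.mp h2).2
    have := sup_le hD hE
    rw [Subgroup.le_centralizer_iff, Subgroup.zpowers_le] at this
    exact this

theorem cj_inf' (g : X) (H K : Subgroup X) : cj g (H ⊓ K) = cj g H ⊓ cj g K :=
  Subgroup.map_inf H K _ (MulAut.conj g).injective

/-- The hypothesis on a subgroup. -/
def Hyp (V : Subgroup X) (α : ℝ) (D : Subgroup X) : Prop :=
  (Nat.card V : ℝ) ≤ (Nat.card D : ℝ) ^ α * (Nat.card ↥(cv V D) : ℝ)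

theorem card_pos_real [Finite X] (H : Subgroup X) : (0 : ℝ) < (Nat.card H : ℝ) := by
  exact_mod_cast Nat.card_pos

theorem card_le_real [Finite X] {H K : Subgroup X} (h : H ≤ K) : (Nat.card H : ℝ) ≤ (Nat.card K : ℝ) := by
  exact_mod_cast Subgroup.card_le_of_le h

theorem step [Finite X] (V : Subgroup X) (α : ℝ) (hα : 0 < α) (D B : Subgroup X)
    (hD : Hyp V α D) (hB : Hyp V α B)
    (hmin : ∀ I : Subgroup X, I ≤ B → I ≠ ⊥ → Hyp V α I → Nat.card B ≤ Nat.card I)
    (hnot : ¬ cv V D ≤ cv V B) : Hyp V α (D ⊔ B) := by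
  unfold Hyp at *
  rw [cv_sup]
  obtain ⟨I, hI⟩ : ∃ I, I = D ⊓ B := ⟨_, rfl⟩
  have ha := Cfsg.Agent.Lib.H19.card_mul_card_le_sup_mul_inf (cv V D) (cv V B)
  have hb := Cfsg.Agent.Lib.H19.card_mul_card_le_sup_mul_inf D B
  rw [← hI] at hb
  have hUI : cv V D ⊔ cv V B ≤ cv V I :=
    sup_le (cv_anti V (hI ▸ inf_le_left)) (cv_anti V (hI ▸ inf_le_right))
  have hUV : cv V D ⊔ cv V B ≤ V := sup_le inf_le_left inf_le_left
  have hIB : I ≠ B := by
    intro h
    apply hnot
    apply cv_anti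
    rw [← h, hI]; exact inf_le_left
  have hIltB : Nat.card I < Nat.card B := by
    by_contra hlt
    push Not at hlt
    exact hIB (eq_of_le_of_card_le' (hI ▸ inf_le_right) hlt)
  -- real variables
  set v : ℝ := (Nat.card V : ℝ) with hv
  set w : ℝ := (Nat.card ↥(cv V D) : ℝ) with hw
  set f : ℝ := (Nat.card ↥(cv V B) : ℝ) with hf
  set u : ℝ := (Nat.card ↥(cv V D ⊔ cv V B) : ℝ) with hu
  set w' : ℝ := (Nat.card ↥(cv V D ⊓ cv V B) : ℝ) with hw'
  set d : ℝ := (Nat.card D : ℝ) with hd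
  set b : ℝ := (Nat.card B : ℝ) with hb'
  set i : ℝ := (Nat.card I : ℝ) with hi
  set s : ℝ := (Nat.card ↥(D ⊔ B) : ℝ) with hs
  have ha' : w * f ≤ u * w' := by
    rw [hw, hf, hu, hw']; exact_mod_cast ha
  have hb'' : d * b ≤ s * i := by
    rw [hd, hb', hs, hi]; exact_mod_cast hb
  have hvpos : 0 < v := card_pos_real V
  have hwpos : 0 < w := card_pos_real _
  have hfpos : 0 < f := card_pos_real _
  have hupos : 0 < u := card_pos_real _
  have hw'pos : 0 < w' := card_pos_real _
  have hdpos : 0 < d := card_pos_real _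
  have hbpos : 0 < b := card_pos_real _
  have hipos : 0 < i := card_pos_real _
  have hspos : 0 < s := card_pos_real _
  have huv : u ≤ v := card_le_real hUV
  have hiα : 0 < i ^ α := Real.rpow_pos_of_pos hipos α
  have hdα : 0 < d ^ α := Real.rpow_pos_of_pos hdpos α
  have hbα : 0 < b ^ α := Real.rpow_pos_of_pos hbpos α
  -- (c') : i^α * u ≤ v
  have hc : i ^ α * u ≤ v := by
    by_cases hI1 : I = ⊥
    · have : i = 1 := by rw [hi, hI1, Subgroup.card_bot]; norm_num
      rw [this, Real.one_rpow, one_mul]; exact huv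
    · have hnh : ¬ Hyp V α I := by
        intro h
        have := hmin I (hI ▸ inf_le_right) hI1 h
        omega
      unfold Hyp at hnh
      push Not at hnh
      have h1 : u ≤ (Nat.card ↥(cv V I) : ℝ) := card_le_real hUI
      have h2 : i ^ α * u ≤ i ^ α * (Nat.card ↥(cv V I) : ℝ) := by gcongr
      exact (h2.trans hnh.le)
  -- (K) : i^α * w ≤ b^α * w'
  have hK : i ^ α * w ≤ b ^ α * w' := by
    have h1 : i ^ α * w * f ≤ b ^ α * w' * f := by
      calc i ^ α * w * f = i ^ α * (w * f) := by ring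
        _ ≤ i ^ α * (u * w') := by gcongr
        _ = (i ^ α * u) * w' := by ring
        _ ≤ v * w' := by gcongr
        _ ≤ (b ^ α * f) * w' := by gcongr
        _ = b ^ α * w' * f := by ring
    exact le_of_mul_le_mul_right h1 hfpos
  have hfin : v * i ^ α ≤ s ^ α * w' * i ^ α := by
    calc v * i ^ α ≤ (d ^ α * w) * i ^ α := by gcongr
      _ = d ^ α * (i ^ α * w) := by ring
      _ ≤ d ^ α * (b ^ α * w') := by gcongr
      _ = (d * b) ^ α * w' := by rw [Real.mul_rpow hdpos.le hbpos.le]; ring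
      _ ≤ (s * i) ^ α * w' := by
          gcongr
      _ = s ^ α * w' * i ^ α := by rw [Real.mul_rpow hspos.le hipos.le]; ring
  exact le_of_mul_le_mul_right hfin hiα

/-- Let V and G be subgroups of a finite group with V an elementary abelian p-group (p prime) on which G acts faithfully and irreducibly by conjugation: G normalizes V, G ∩ C(V) = 1, and the only subgroups of V normalized by G are 1 and V. If for some nontrivial subgroup A of G and some real α > 0 one has |V| ≤ |A|^α · |C_V(A)|, then |V| ≤ |G|^α. -/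
theorem result {X : Type*} [Group X] [Finite X] {p : ℕ} [Fact p.Prime] (V G : Subgroup X) (hV : Cfsg.IsElementaryAbelian p V)
    (hGV : G ≤ Subgroup.normalizer (V : Set X)) (hfaith : G ⊓ Subgroup.centralizer (V : Set X) = ⊥)
    (hirr : ∀ W : Subgroup X, W ≤ V → G ≤ Subgroup.normalizer (W : Set X) → W = ⊥ ∨ W = V)
    (A : Subgroup X) (hA : A ≤ G) (hA1 : A ≠ ⊥) (α : ℝ) (hα : 0 < α)
    (hbig : (Nat.card V : ℝ) ≤ (Nat.card A : ℝ) ^ α * (Nat.card ↥(V ⊓ Subgroup.centralizer (A : Set X)) : ℝ)) :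
    (Nat.card V : ℝ) ≤ (Nat.card G : ℝ) ^ α := by
  classical
  obtain ⟨B, ⟨hBG, hB1, hBh⟩, hBmin⟩ := exists_minimalFor_of_wellFoundedLT
    (fun B : Subgroup X => B ≤ G ∧ B ≠ ⊥ ∧ Hyp V α B) (fun B => Nat.card B) ⟨A, hA, hA1, hbig⟩
  have hBmin' : ∀ I : Subgroup X, I ≤ G → I ≠ ⊥ → Hyp V α I → Nat.card B ≤ Nat.card I := by
    intro I h1 h2 h3
    rcases le_total (Nat.card I) (Nat.card B) with h | h
    · exact hBmin ⟨h1, h2, h3⟩ h
    · exact h
  obtain ⟨D, ⟨hDG, hDh⟩, hDmin⟩ := exists_minimalFor_of_wellFoundedLT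
    (fun D : Subgroup X => D ≤ G ∧ Hyp V α D) (fun D => Nat.card (cv V D)) ⟨B, hBG, hBh⟩
  have hcjV : ∀ g ∈ G, cj g V = V := fun g hg => cj_le_of_mem_normalizer (hGV hg)
  have hcv : cv V D = ⊥ := by
    by_contra hne
    obtain ⟨g, hg, hnot⟩ : ∃ g ∈ G, ¬ cv V D ≤ cv V (cj g B) := by
      by_contra hall
      push Not at hall
      obtain ⟨S, hS⟩ : ∃ S : Set X, S = {y | ∃ g ∈ G, ∃ b ∈ B, y = g * b * g⁻¹} := ⟨_, rfl⟩
      have hW0 : cv V D ≤ V ⊓ Subgroup.centralizer S := by
        intro x hx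
        refine Subgroup.mem_inf.mpr ⟨(Subgroup.mem_inf.mp hx).1, ?_⟩
        rw [Subgroup.mem_centralizer_iff]
        intro y hy
        rw [hS] at hy
        obtain ⟨g, hg, b, hb, rfl⟩ := hy
        have h1 := (Subgroup.mem_inf.mp (hall g hg hx)).2
        exact Subgroup.mem_centralizer_iff.mp h1 _ (conj_mem_cj hb)
      have hnorm : G ≤ Subgroup.normalizer ((V ⊓ Subgroup.centralizer S : Subgroup X) : Set X) := by
        intro h hh
        apply mem_normalizer_of_cj_le
        intro x hx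
        rw [mem_cj_iff] at hx
        obtain ⟨hx1, hx2⟩ := Subgroup.mem_inf.mp hx
        refine Subgroup.mem_inf.mpr ⟨?_, ?_⟩
        · have : x ∈ cj h V := mem_cj_iff.mpr hx1
          rwa [hcjV h hh] at this
        · rw [Subgroup.mem_centralizer_iff] at hx2 ⊢
          intro y hy
          rw [hS] at hy
          obtain ⟨g, hg, b, hb, rfl⟩ := hy
          have hy' : h⁻¹ * g * b * (h⁻¹ * g)⁻¹ ∈ S := by
            rw [hS]
            exact ⟨h⁻¹ * g, G.mul_mem (G.inv_mem hh) hg, b, hb, rfl⟩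
          have h3 := hx2 _ hy'
          have e1 : g * b * g⁻¹ * x = h * (h⁻¹ * g * b * (h⁻¹ * g)⁻¹ * (h⁻¹ * x * h)) * h⁻¹ := by group
          have e2 : x * (g * b * g⁻¹) = h * (h⁻¹ * x * h * (h⁻¹ * g * b * (h⁻¹ * g)⁻¹)) * h⁻¹ := by group
          rw [e1, e2, h3]
      rcases hirr _ inf_le_left hnorm with h0 | h0
      · apply hne
        rw [eq_bot_iff, ← h0]
        exact hW0
      · apply hB1
        rw [eq_bot_iff, ← hfaith]
        intro b hb
        refine Subgroup.mem_inf.mpr ⟨hBG hb, ?_⟩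
        rw [Subgroup.mem_centralizer_iff]
        intro x hx
        have hx' : x ∈ V ⊓ Subgroup.centralizer S := by rw [h0]; exact hx
        have hbS : b ∈ S := by
          rw [hS]
          exact ⟨1, G.one_mem, b, hb, by group⟩
        exact (Subgroup.mem_centralizer_iff.mp (Subgroup.mem_inf.mp hx').2 b hbS).symm
    have hcjB : cj g B ≤ G := by
      have := cj_mono g hBG
      rwa [cj_eq_self_of_mem hg] at this
    have hcvB : cv V (cj g B) = cj g (cv V B) := by
      unfold cv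
      rw [cj_inf', centralizer_cj, hcjV g hg]
    have hB' : Hyp V α (cj g B) := by
      unfold Hyp
      rw [hcvB, card_cj, card_cj]
      exact hBh
    have hstep := step V α hα D (cj g B) hDh hB'
      (fun I hI hI1 hIh => by rw [card_cj]; exact hBmin' I (hI.trans hcjB) hI1 hIh) hnot
    have hle := hDmin ⟨sup_le hDG hcjB, hstep⟩
      (Subgroup.card_le_of_le (cv_anti V le_sup_left))
    have heq : cv V (D ⊔ cj g B) = cv V D := eq_of_le_of_card_le' (cv_anti V le_sup_left) hle
    apply hnot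
    rw [← heq]
    exact cv_anti V le_sup_right
  unfold Hyp at hDh
  rw [hcv, Subgroup.card_bot] at hDh
  simp only [Nat.cast_one, mul_one] at hDh
  exact hDh.trans (Real.rpow_le_rpow (Nat.cast_nonneg _) (card_le_real hDG) hα.le)

end Cfsg.Agent.S3037
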