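import Cfsg.Statements.S3049
import Mathlib
import Cfsg.Agent.Lib.H21.IsoRkC

set_option autoImplicit false
open Cfsg

namespace Cfsg.Agent.S3049

open Cfsg.Agent.Lib.H21.IsoRk

/-- Let G be a finite group and p an odd prime with O_{p'}(G) = 1. Suppose that G has p-rank at most 2 (no elementary abelian subgroup of order p³) and that some element x of order p is isolated in G (no G-conjugate of x other than x commutes with x) and not central. Then the generalized Fitting subgroup F*(G) is a non-abelian simple group. Since O_{p'}(G) = 1, such an x is not central modulo O_{p'}(G): the hypotheses describe a counterexample to the Z*_p statement in p-rank at most 2. -/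
theorem result {G : Type*} [Group G] [Finite G] {p : ℕ} [Fact p.Prime] (hp : p ≠ 2) (hcore : Cfsg.pPrimeCore p G = ⊥)
    (hrank : Cfsg.PRankLE p 2 G) (x : G) (hx : orderOf x = p) (hiso : Cfsg.IsIsolated x) (hnc : x ∉ Subgroup.center G) :
    IsSimpleGroup ↥(Cfsg.generalizedFittingSubgroup G) ∧ ¬ IsMulCommutative ↥(Cfsg.generalizedFittingSubgroup G) := by
  have hpp : p.Prime := Fact.out
  obtain ⟨L, hL, hxC⟩ := exists_component_not_centralized hcore hx hiso hnc
  have hxL : x ∈ Subgroup.normalizer (L : Set G) := by
    rw [Subgroup.mem_normalizer_iff_map_conj_eq]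
    exact map_conj_eq_of_isolated hcore hx hiso hL
  have hbad : ∀ w : G, orderOf w = p → w ∈ Subgroup.centralizer (L : Set G) → False :=
    fun w hw hwL => no_order_p_in_centralizer hp hcore hrank hx hiso hL hxL hxC hw hwL
  -- `O_p(G) = 1`
  have hR : pCore p G = ⊥ := by
    by_contra hne
    have hRp := Cfsg.Agent.Lib.H1.pCore_isPGroup p G
    have hcard : p ∣ Nat.card (pCore p G) := by
      obtain ⟨k, hk⟩ := IsPGroup.iff_card.1 hRp
      have hk0 : k ≠ 0 := by
        rintro rfl
        rw [pow_zero] at hk
        exact hne (Subgroup.eq_bot_of_card_eq _ hk)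
      rw [hk]
      exact dvd_pow_self p hk0
    obtain ⟨w, hw⟩ := exists_prime_orderOf_dvd_card' p hcard
    apply hbad w.1 ((Subgroup.orderOf_coe w).trans hw)
    have hRn := Cfsg.Agent.Lib.H1.pCore_normal p G
    have hsol : Group.IsSolvable (pCore p G) := by
      haveI := hRp.isNilpotent
      infer_instance
    have h1 := Cfsg.Agent.Lib.H7.layer_commutator_solvable (N := pCore p G) hsol
    rw [Subgroup.commutator_eq_bot_iff_le_centralizer] at h1
    rw [Subgroup.mem_centralizer_iff]
    intro l hl
    have := Subgroup.mem_centralizer_iff.1 (h1 (Cfsg.Agent.Lib.H7.component_le_layer hL hl)) w.1 w.2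
    exact this.symm
  have hF : fittingSubgroup G = ⊥ := by
    have := Cfsg.Agent.Lib.H7.fittingSubgroup_le_pCore hcore (G := G) (p := p)
    rw [hR] at this
    exact le_bot_iff.1 this
  have huniq : ∀ K : Subgroup G, IsComponent K → K = L := by
    intro K hK
    by_contra hne
    have hdvd : p ∣ Nat.card K := by
      have h1 := Cfsg.Agent.Lib.H7.not_coprime_card_component p hcore hK
      by_contra h2
      exact h1 ((Nat.Prime.coprime_iff_not_dvd hpp).2 h2).symm
    obtain ⟨w, hw⟩ := exists_prime_orderOf_dvd_card' p hdvd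
    apply hbad w.1 ((Subgroup.orderOf_coe w).trans hw)
    rw [Subgroup.mem_centralizer_iff]
    intro l hl
    exact (Cfsg.Agent.Lib.H7.commute_of_mem_components hK hL hne w.2 hl).eq.symm
  have hlayer : layer G = L := by
    apply le_antisymm
    · unfold layer
      apply sSup_le
      intro K hK
      rw [huniq K hK]
    · exact Cfsg.Agent.Lib.H7.component_le_layer hL
  have hFs : generalizedFittingSubgroup G = L := by
    unfold generalizedFittingSubgroup
    rw [hlayer, hF, sup_bot_eq]
  rw [hFs]
  have hZ : Subgroup.center ↥L = ⊥ := by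
    rw [eq_bot_iff]
    intro z hz
    rw [Subgroup.mem_bot]
    apply Subtype.ext
    have h1 : z.1 ∈ L ⊓ Subgroup.centralizer (L : Set G) := by
      refine ⟨z.2, ?_⟩
      show z.1 ∈ Subgroup.centralizer (L : Set G)
      rw [Subgroup.mem_centralizer_iff]
      intro l hl
      have := Subgroup.mem_center_iff.1 hz ⟨l, hl⟩
      exact congrArg Subtype.val this
    have h2 := Cfsg.Agent.Lib.H7.component_inf_centralizer_le_pCore hcore hL h1
    rw [hR, Subgroup.mem_bot] at h2
    exact h2
  refine ⟨?_, ?_⟩
  · haveI hs : IsSimpleGroup (↥L ⧸ Subgroup.center ↥L) := hL.2.2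
    have e : ↥L ≃* ↥L ⧸ Subgroup.center ↥L :=
      (QuotientGroup.quotientBot.symm).trans (QuotientGroup.quotientMulEquivOfEq hZ.symm)
    exact e.isSimpleGroup
  · intro hc
    apply Cfsg.Agent.Lib.H7.component_ne_bot hL
    rw [← Cfsg.Agent.Lib.H7.component_commutator_self hL,
      Subgroup.commutator_eq_bot_iff_le_centralizer]
    intro a ha
    rw [Subgroup.mem_centralizer_iff]
    intro b hb
    have := hc.is_comm.comm (⟨b, hb⟩ : ↥L) ⟨a, ha⟩
    exact congrArg Subtype.val this

end Cfsg.Agent.S3049
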