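import Cfsg.Statements.S3050
import Cfsg.Agent.Lib.H29.HigFIELD
import Cfsg.Agent.Lib.H26.HigMAINCOMM
import Cfsg.Agent.Lib.H27.HigFIN1
import Cfsg.Agent.Lib.H29.HigFIN2

set_option autoImplicit false
open Cfsg

namespace Cfsg.Agent.S3050

/-- Let G be a finite group with a normal 2-subgroup Q such that G/Q is isomorphic to SL(2, 2ⁿ) with n ≥ 2, and suppose some element of G of order 3 fixes no nonidentity element of Q under conjugation. Then Q is elementary abelian and is the direct product of normal subgroups of G on each of which G acts as SL(2, 2ⁿ) acts on its natural two-dimensional module (a Galois twist of the natural action allowed). -/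
theorem result {G : Type*} [Group G] [Finite G]
    (Q : Subgroup G) [Q.Normal] (hQ : IsPGroup 2 ↥Q) (n : ℕ) (hn : 2 ≤ n)
    (K : Type*) [Field K] [Fintype K] (hK : Fintype.card K = 2 ^ n)
    (e : G ⧸ Q ≃* Matrix.SpecialLinearGroup (Fin 2) K)
    (x : G) (hx : orderOf x = 3) (hfpf : ∀ q ∈ Q, x * q * x⁻¹ = q → q = 1) :
    Cfsg.IsElementaryAbelian 2 Q ∧
      ∃ (k : ℕ) (V : Fin k → Subgroup G), (∀ i, V i ≤ Q ∧ (V i).Normal ∧
        Cfsg.ActsAsSL2OnSection K ⊤ ⊤ (V i) ⊥) ∧ iSupIndep V ∧ ⨆ i, V i = Q := by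
  obtain ⟨hchar, -, -⟩ := Cfsg.Agent.Lib.H29.Hig.field_facts hn hK
  have := hchar
  -- the projection
  let π : G →* Matrix.SpecialLinearGroup (Fin 2) K := e.toMonoidHom.comp (QuotientGroup.mk' Q)
  have hπ : Function.Surjective π := by
    intro s
    obtain ⟨g, hg⟩ := QuotientGroup.mk'_surjective Q (e.symm s)
    refine ⟨g, ?_⟩
    show e ((QuotientGroup.mk' Q) g) = s
    rw [hg, MulEquiv.apply_symm_apply]
  have hker : π.ker = Q := by
    ext g
    simp [π]
  have hx3 : x ^ 3 = 1 := by rw [← hx]; exact pow_orderOf_eq_one x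
  have hx1 : π x ≠ 1 := by
    intro h
    have hxQ : x ∈ Q := by rw [← hker]; exact h
    have : x = 1 := hfpf x hxQ (by group)
    rw [this, orderOf_one] at hx
    omega
  have hQ' : IsPGroup 2 ↥π.ker := by rw [hker]; exact hQ
  have hfpf' : ∀ q ∈ π.ker, x * q * x⁻¹ = q → q = 1 := by
    intro q hq; rw [hker] at hq; exact hfpf q hq
  have hcomm := Cfsg.Agent.Lib.H26.Hig.ker_comm hn hK π hπ hQ' x hx3 hx1 hfpf'
  obtain ⟨k, Φ, hΦ⟩ :=
    Cfsg.Agent.Lib.H27.Hig.exists_group_coords hn hK π hπ hQ' x hx3 hx1 hfpf' hcomm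
  obtain ⟨Vs, hVs, hind, hsup⟩ := Cfsg.Agent.Lib.H29.Hig.sections_of_coords π hπ π.ker Φ hΦ
  refine ⟨⟨⟨⟨?_⟩⟩, ?_⟩, k, Vs, ?_, hind, ?_⟩
  · rintro ⟨a, ha⟩ ⟨b, hb⟩
    rw [← hker] at ha hb
    exact Subtype.ext (hcomm a ha b hb)
  · intro a ha
    rw [← hker] at ha
    have h1 : Φ (⟨a, ha⟩ ^ 2) = 1 := by
      rw [map_pow]
      apply Multiplicative.toAdd.injective
      rw [toAdd_pow, toAdd_one]
      ext i j
      simp only [Pi.smul_apply, Pi.zero_apply, nsmul_eq_mul, Nat.cast_ofNat]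
      rw [CharTwo.two_eq_zero, zero_mul]
    have h2 : (⟨a, ha⟩ : ↥π.ker) ^ 2 = 1 := Φ.injective (by rw [h1, map_one])
    exact congrArg Subtype.val h2
  · intro i
    rw [← hker]
    exact hVs i
  · rw [hsup, hker]

end Cfsg.Agent.S3050
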