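import Cfsg.Statements.S3053
import Cfsg.Agent.Lib.H10.SylowIn
import Cfsg.Agent.Lib.H10.LocalGlobalGen
import Cfsg.Agent.Lib.H22.CyclicIndexP
import Cfsg.Agent.Lib.H27.Extraspecial
import Cfsg.Agent.Lib.H14.NzrCent
-- import your own Cfsg.Agent.* helpers here

set_option autoImplicit false
open Cfsg

namespace Cfsg.Agent.S3053

open Cfsg.Agent.Lib.H10 Cfsg.Agent.Lib.H22 Cfsg.Agent.Lib.H27

variable {G : Type*} [Group G] [Finite G] {p : ℕ} [Fact p.Prime]

/-- Omega_1 of a `p`-group of order `p^3` (p odd) that is non-cyclic of exponent `p^2`. -/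
theorem omega_data (hp : p ≠ 2) (Q : Subgroup G) (hQ : IsPGroup p Q)
    (hcard : Nat.card Q = p ^ 3) (hexp : Monoid.exponent ↥Q = p ^ 2) (hnc : ¬ IsCyclic ↥Q) :
    ∃ E : Subgroup G, E ≤ Q ∧ Nat.card E = p ^ 2 ∧ ∀ x ∈ Q, (x ∈ E ↔ x ^ p = 1) := by
  have hpp : p.Prime := Fact.out
  obtain ⟨a, ha⟩ := Nat.Prime.exists_orderOf_eq_pow_factorization_exponent (G := ↥Q) hpp
  rw [hexp, Nat.Prime.factorization_pow hpp] at ha
  simp only [Finsupp.single_eq_same] at ha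
  have hCcard : Nat.card (Subgroup.zpowers a) = p ^ 2 := by
    rw [Nat.card_zpowers, ha]
  have hCi : (Subgroup.zpowers a).index = p := by
    have h1 := Subgroup.card_mul_index (Subgroup.zpowers a)
    rw [hCcard, hcard] at h1
    have h2 : p ^ 2 * (Subgroup.zpowers a).index = p ^ 2 * p := by rw [h1]; ring
    exact Nat.eq_of_mul_eq_mul_left (pow_pos hpp.pos 2) h2
  have hC : IsCyclic (Subgroup.zpowers a) := inferInstance
  have hK := card_ker_powHomOfCyclicIndexP hp hQ hnc (Subgroup.zpowers a) hC hCi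
  refine ⟨(powHomOfCyclicIndexP hp hQ (Subgroup.zpowers a) hC hCi).ker.map Q.subtype,
    Subgroup.map_subtype_le _, ?_, ?_⟩
  · rw [Subgroup.card_map_of_injective Q.subtype_injective, hK]
  · intro x hx
    constructor
    · rintro ⟨y, hy, rfl⟩
      rw [SetLike.mem_coe, MonoidHom.mem_ker, powHomOfCyclicIndexP_apply] at hy
      have := congrArg Subtype.val hy
      simpa using this
    · intro hxp
      refine ⟨⟨x, hx⟩, ?_, rfl⟩
      rw [SetLike.mem_coe, MonoidHom.mem_ker, powHomOfCyclicIndexP_apply]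
      apply Subtype.ext
      simpa using hxp

/-- power map is multiplicative on `Q`. -/
theorem mul_pow_Q (hp : p ≠ 2) (Q : Subgroup G) (hQ : IsPGroup p Q)
    (hcard : Nat.card Q = p ^ 3) (hexp : Monoid.exponent ↥Q = p ^ 2) (x y : G) (hx : x ∈ Q) (hy : y ∈ Q) :
    (x * y) ^ p = x ^ p * y ^ p := by
  have hpp : p.Prime := Fact.out
  obtain ⟨a, ha⟩ := Nat.Prime.exists_orderOf_eq_pow_factorization_exponent (G := ↥Q) hpp
  rw [hexp, Nat.Prime.factorization_pow hpp] at ha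
  simp only [Finsupp.single_eq_same] at ha
  have hCcard : Nat.card (Subgroup.zpowers a) = p ^ 2 := by
    rw [Nat.card_zpowers, ha]
  have hCi : (Subgroup.zpowers a).index = p := by
    have h1 := Subgroup.card_mul_index (Subgroup.zpowers a)
    rw [hCcard, hcard] at h1
    have h2 : p ^ 2 * (Subgroup.zpowers a).index = p ^ 2 * p := by rw [h1]; ring
    exact Nat.eq_of_mul_eq_mul_left (pow_pos hpp.pos 2) h2
  have hC : IsCyclic (Subgroup.zpowers a) := inferInstance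
  have := mul_pow_prime_of_cyclic_index_p hp hQ (Subgroup.zpowers a) hC hCi ⟨x, hx⟩ ⟨y, hy⟩
  have := congrArg Subtype.val this
  simpa using this

/-- The configuration: `Q` extraspecial of order `p^3` with centre `Z` and `Ω₁(Q) = E` of order `p^2`. -/
structure Setup (p : ℕ) (Q Z E : Subgroup G) : Prop where
  hp2 : p ≠ 2
  hQ : IsPGroup p Q
  hQc : Nat.card Q = p ^ 3
  hZQ : Z ≤ Q
  hZc : Nat.card Z = p
  hcen : Q ⊓ Subgroup.centralizer (Q : Set G) = Z
  hcomm : ⁅Q, Q⁆ = Z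
  hEQ : E ≤ Q
  hEc : Nat.card E = p ^ 2
  hE : ∀ x ∈ Q, (x ∈ E ↔ x ^ p = 1)
  hmul : ∀ x ∈ Q, ∀ y ∈ Q, (x * y) ^ p = x ^ p * y ^ p
  hpow : ∀ x ∈ Q, x ^ p ∈ Z

namespace Setup

variable {Q Z E : Subgroup G}

theorem z_comm (S : Setup p Q Z E) {z x : G} (hz : z ∈ Z) (hx : x ∈ Q) : z * x = x * z := by
  have h1 : z ∈ Q ⊓ Subgroup.centralizer (Q : Set G) := by rw [S.hcen]; exact hz
  have h2 := (Subgroup.mem_inf.mp h1).2
  rw [Subgroup.mem_centralizer_iff] at h2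
  exact (h2 x hx).symm

theorem z_pow (S : Setup p Q Z E) {z : G} (hz : z ∈ Z) : z ^ p = 1 := by
  have h1 : (⟨z, hz⟩ : Z) ^ Nat.card Z = 1 := pow_card_eq_one'
  rw [S.hZc] at h1
  have := congrArg Subtype.val h1
  simpa using this

theorem ZE (S : Setup p Q Z E) : Z ≤ E := by
  intro z hz
  exact (S.hE z (S.hZQ hz)).mpr (S.z_pow hz)

theorem E_comm (S : Setup p Q Z E) {a b : G} (ha : a ∈ E) (hb : b ∈ E) : a * b = b * a := by
  have h1 := (IsPGroup.isMulCommutative_of_card_eq_prime_sq (G := ↥E) S.hEc).is_comm.comm ⟨a, ha⟩ ⟨b, hb⟩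
  exact congrArg Subtype.val h1

theorem eq_E_of_lt (S : Setup p Q Z E) (T : Subgroup G) (hZT : Z ≤ T) (hTE : T ≤ E)
    (hex : ∃ x ∈ T, x ∉ Z) : T = E := by
  have hpp : p.Prime := Fact.out
  obtain ⟨x, hxT, hxZ⟩ := hex
  have hlt : Z < T := lt_of_le_of_ne hZT (fun h => hxZ (h ▸ hxT))
  have h1 := card_lt_card_of_lt hlt
  rw [S.hZc] at h1
  have h2 : Nat.card T ∣ p ^ 2 := by
    rw [← S.hEc]; exact Subgroup.card_dvd_of_le hTE
  obtain ⟨k, hk, hk2⟩ := (Nat.dvd_prime_pow hpp).mp h2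
  have hk2' : k = 2 := by
    have := hpp.one_lt
    interval_cases k
    · rw [hk2, pow_zero] at h1; omega
    · rw [hk2, pow_one] at h1; omega
    · rfl
  apply Subgroup.eq_of_le_of_card_ge hTE
  rw [S.hEc, hk2, hk2']

theorem cent_E (S : Setup p Q Z E) {x : G} (hx : x ∈ Q) (hc : ∀ e ∈ E, x * e = e * x) : x ∈ E := by
  have hpp : p.Prime := Fact.out
  by_contra hxE
  -- C = Q ⊓ centralizer E has order > p^2, so equals Q
  have hEC : E ≤ Q ⊓ Subgroup.centralizer (E : Set G) := by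
    intro e he
    refine Subgroup.mem_inf.mpr ⟨S.hEQ he, ?_⟩
    rw [Subgroup.mem_centralizer_iff]
    intro f hf
    exact S.E_comm hf he
  have hxC : x ∈ Q ⊓ Subgroup.centralizer (E : Set G) := by
    refine Subgroup.mem_inf.mpr ⟨hx, ?_⟩
    rw [Subgroup.mem_centralizer_iff]
    intro f hf
    exact (hc f hf).symm
  have hlt : E < Q ⊓ Subgroup.centralizer (E : Set G) :=
    lt_of_le_of_ne hEC (fun h => hxE (h ▸ hxC))
  have h1 := card_lt_card_of_lt hlt
  rw [S.hEc] at h1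
  have h2 : Nat.card ↥(Q ⊓ Subgroup.centralizer (E : Set G)) ∣ p ^ 3 := by
    rw [← S.hQc]; exact Subgroup.card_dvd_of_le inf_le_left
  obtain ⟨k, hk, hk2⟩ := (Nat.dvd_prime_pow hpp).mp h2
  have hk3 : k = 3 := by
    rw [hk2] at h1
    have := (Nat.pow_lt_pow_iff_right hpp.one_lt).mp h1
    omega
  have hCQ : Q ⊓ Subgroup.centralizer (E : Set G) = Q := by
    apply Subgroup.eq_of_le_of_card_ge inf_le_left
    rw [S.hQc, hk2, hk3]
  -- so E ≤ Z
  have hEZ : E ≤ Z := by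
    intro e he
    rw [← S.hcen]
    refine Subgroup.mem_inf.mpr ⟨S.hEQ he, ?_⟩
    rw [Subgroup.mem_centralizer_iff]
    intro q hq
    have hq' : q ∈ Q ⊓ Subgroup.centralizer (E : Set G) := by rw [hCQ]; exact hq
    have := (Subgroup.mem_inf.mp hq').2
    rw [Subgroup.mem_centralizer_iff] at this
    exact (this e he).symm
  have h3 := Subgroup.card_le_of_le hEZ
  rw [S.hEc, S.hZc] at h3
  have : p < p ^ 2 := by
    calc p = p ^ 1 := (pow_one p).symm
      _ < p ^ 2 := Nat.pow_lt_pow_right hpp.one_lt (by norm_num)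
  omega

theorem conj_E (S : Setup p Q Z E) {x e : G} (hx : x ∈ Q) (he : e ∈ E) : x * e * x⁻¹ ∈ E := by
  have h1 : x * e * x⁻¹ ∈ Q := Q.mul_mem (Q.mul_mem hx (S.hEQ he)) (Q.inv_mem hx)
  rw [S.hE _ h1, conj_pow, (S.hE e (S.hEQ he)).mp he]
  group

theorem comm_mem_Z (S : Setup p Q Z E) {x y : G} (hx : x ∈ Q) (hy : y ∈ Q) :
    x * y * x⁻¹ * y⁻¹ ∈ Z := by
  rw [← S.hcomm, ← commutatorElement_def]
  exact Subgroup.commutator_mem_commutator hx hy

theorem comm_ne_one (S : Setup p Q Z E) {t e : G} (ht : t ∈ Q) (htE : t ∉ E) (he : e ∈ E)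
    (heZ : e ∉ Z) : t * e * t⁻¹ * e⁻¹ ≠ 1 := by
  intro h1
  have hte : t * e = e * t := by
    have : t * e * t⁻¹ = e := by
      rw [← mul_inv_eq_one]; exact h1
    calc t * e = (t * e * t⁻¹) * t := by group
      _ = e * t := by rw [this]
  apply htE
  apply S.cent_E ht
  -- T = E ⊓ centralizer {t}
  have hT : E ⊓ Subgroup.centralizer ({t} : Set G) = E := by
    apply S.eq_E_of_lt _ _ inf_le_left
    · refine ⟨e, Subgroup.mem_inf.mpr ⟨he, ?_⟩, heZ⟩
      rw [Subgroup.mem_centralizer_singleton_iff]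
      exact hte.symm
    · intro z hz
      refine Subgroup.mem_inf.mpr ⟨S.ZE hz, ?_⟩
      rw [Subgroup.mem_centralizer_singleton_iff]
      exact S.z_comm hz ht
  intro f hf
  have : f ∈ E ⊓ Subgroup.centralizer ({t} : Set G) := by rw [hT]; exact hf
  have := (Subgroup.mem_inf.mp this).2
  rw [Subgroup.mem_centralizer_singleton_iff] at this
  exact this.symm

theorem exists_not_mem_E (S : Setup p Q Z E) : ∃ t ∈ Q, t ∉ E := by
  have hpp : p.Prime := Fact.out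
  by_contra hcon
  push Not at hcon
  have h1 : Q ≤ E := hcon
  have h2 := Subgroup.card_le_of_le h1
  rw [S.hQc, S.hEc] at h2
  have : p ^ 2 < p ^ 3 := Nat.pow_lt_pow_right hpp.one_lt (by norm_num)
  omega

end Setup


omit [Finite G] in
/-- The `SL₂` computation: two opposite transvections give an inverting element. -/
theorem invert_calc {z e t s : G} (hze : z * e = e * z) (h1 : t * z * t⁻¹ = z)
    (h2 : t * e * t⁻¹ = z * e) (h3 : s * e * s⁻¹ = e) (h4 : s * z * s⁻¹ = e⁻¹ * z) :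
    (t * s * t) ^ 2 * z * ((t * s * t) ^ 2)⁻¹ = z⁻¹ ∧
      (t * s * t) ^ 2 * e * ((t * s * t) ^ 2)⁻¹ = e⁻¹ := by
  have c1 : MulAut.conj t z = z := by rw [MulAut.conj_apply]; exact h1
  have c2 : MulAut.conj t e = z * e := by rw [MulAut.conj_apply]; exact h2
  have c3 : MulAut.conj s e = e := by rw [MulAut.conj_apply]; exact h3
  have c4 : MulAut.conj s z = e⁻¹ * z := by rw [MulAut.conj_apply]; exact h4
  have hw : MulAut.conj (t * s * t) = MulAut.conj t * MulAut.conj s * MulAut.conj t := by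
    rw [map_mul, map_mul]
  have w1 : MulAut.conj (t * s * t) z = e⁻¹ := by
    rw [hw, MulAut.mul_apply, MulAut.mul_apply, c1, c4, map_mul, map_inv, c1, c2]
    group
  have w2 : MulAut.conj (t * s * t) e = z := by
    rw [hw, MulAut.mul_apply, MulAut.mul_apply, c2, map_mul, c3, c4]
    have : e⁻¹ * z * e = z := by
      rw [mul_assoc, hze]; group
    rw [this, c1]
  have hsq : MulAut.conj ((t * s * t) ^ 2) = MulAut.conj (t * s * t) * MulAut.conj (t * s * t) := by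
    rw [sq, map_mul]
  constructor
  · rw [← MulAut.conj_apply, hsq, MulAut.mul_apply, w1, map_inv, w2]
  · rw [← MulAut.conj_apply, hsq, MulAut.mul_apply, w2, w1]

namespace Setup

variable {Q Z E : Subgroup G}

theorem invert_all (S : Setup p Q Z E) {m z e : G} (hz : z ∈ Z) (hz1 : z ≠ 1) (he : e ∈ E)
    (heZ : e ∉ Z) (hmz : m * z * m⁻¹ = z⁻¹) (hme : m * e * m⁻¹ = e⁻¹) :
    ∀ x ∈ E, m * x * m⁻¹ = x⁻¹ := by
  have hpp : p.Prime := Fact.out
  let T : Subgroup G :=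
    { carrier := {x | x ∈ E ∧ m * x * m⁻¹ = x⁻¹}
      one_mem' := ⟨E.one_mem, by group⟩
      mul_mem' := by
        rintro a b ⟨ha, ha'⟩ ⟨hb, hb'⟩
        refine ⟨E.mul_mem ha hb, ?_⟩
        calc m * (a * b) * m⁻¹ = (m * a * m⁻¹) * (m * b * m⁻¹) := by group
          _ = a⁻¹ * b⁻¹ := by rw [ha', hb']
          _ = (b * a)⁻¹ := by group
          _ = (a * b)⁻¹ := by rw [S.E_comm ha hb]
      inv_mem' := by
        rintro a ⟨ha, ha'⟩
        refine ⟨E.inv_mem ha, ?_⟩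
        calc m * a⁻¹ * m⁻¹ = (m * a * m⁻¹)⁻¹ := by group
          _ = (a⁻¹)⁻¹ := by rw [ha'] }
  have hTE : T ≤ E := fun x hx => hx.1
  have hzT : z ∈ T := ⟨S.ZE hz, hmz⟩
  have heT : e ∈ T := ⟨he, hme⟩
  have hZT : Z ≤ T := by
    intro y hy
    have hfact : Fact (Nat.card Z).Prime := by rw [S.hZc]; exact ⟨hpp⟩
    have hne : (⟨z, hz⟩ : Z) ≠ 1 := by
      intro h; exact hz1 (congrArg Subtype.val h)
    have htop := zpowers_eq_top_of_prime_card (G := ↥Z) (p := p) S.hZc hne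
    have hy' : (⟨y, hy⟩ : Z) ∈ Subgroup.zpowers (⟨z, hz⟩ : Z) := by rw [htop]; exact Subgroup.mem_top _
    obtain ⟨k, hk⟩ := Subgroup.mem_zpowers_iff.mp hy'
    have hk' : z ^ k = y := by
      have := congrArg Subtype.val hk
      simpa using this
    rw [← hk']
    exact T.zpow_mem hzT k
  have hT := S.eq_E_of_lt T hZT hTE ⟨e, heT, heZ⟩
  intro x hx
  have : x ∈ T := by rw [hT]; exact hx
  exact this.2

theorem le_normalizer_E (S : Setup p Q Z E) : Q ≤ Subgroup.normalizer (E : Set G) := by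
  intro x hx
  rw [Subgroup.mem_normalizer_iff]
  intro h
  constructor
  · intro hh; exact S.conj_E hx hh
  · intro hh
    have := S.conj_E (Q.inv_mem hx) hh
    have h2 : x⁻¹ * (x * h * x⁻¹) * x⁻¹⁻¹ = h := by group
    rwa [h2] at this

theorem frattini_adjust (S : Setup p Q Z E)
    (hS : ∀ K : Subgroup G, Q ≤ K → ¬ p ∣ Q.relIndex K) {m : G}
    (hm : ∀ x ∈ E, m * x * m⁻¹ = x⁻¹) :
    ∃ n : G, (∀ x ∈ E, n * x * n⁻¹ = x⁻¹) ∧ ∀ x ∈ Q, n * x * n⁻¹ ∈ Q := by
  have hm' : ∀ x ∈ E, m⁻¹ * x * m = x⁻¹ := by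
    intro x hx
    have h1 := hm x⁻¹ (E.inv_mem hx)
    rw [inv_inv] at h1
    calc m⁻¹ * x * m = m⁻¹ * (m * x⁻¹ * m⁻¹) * m := by rw [h1]
      _ = x⁻¹ := by group
  set C := Subgroup.centralizer (E : Set G) with hC
  have hQ'K : Q.map (MulAut.conj m).toMonoidHom ≤ Q ⊔ C := by
    intro x' hx'
    rw [mem_map_conj] at hx'
    set x := m⁻¹ * x' * m with hxdef
    have hx'x : x' = x * (x⁻¹ * m * x * m⁻¹) := by rw [hxdef]; group
    rw [hx'x]
    apply Subgroup.mul_mem _ (Subgroup.mem_sup_left hx')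
    apply Subgroup.mem_sup_right
    rw [hC, Subgroup.mem_centralizer_iff]
    intro e he
    -- e * c₀ = c₀ * e
    have h1 : m⁻¹ * e * m = e⁻¹ := hm' e he
    have h2 : x * e⁻¹ * x⁻¹ ∈ E := S.conj_E hx' (E.inv_mem he)
    have h3 := hm _ h2
    have h4 : x⁻¹ * m * x * m⁻¹ * e * (x⁻¹ * m * x * m⁻¹)⁻¹ = e := by
      calc x⁻¹ * m * x * m⁻¹ * e * (x⁻¹ * m * x * m⁻¹)⁻¹
          = x⁻¹ * (m * (x * (m⁻¹ * e * m) * x⁻¹) * m⁻¹) * x := by group
        _ = x⁻¹ * (m * (x * e⁻¹ * x⁻¹) * m⁻¹) * x := by rw [h1]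
        _ = x⁻¹ * (x * e⁻¹ * x⁻¹)⁻¹ * x := by rw [h3]
        _ = e := by group
    calc e * (x⁻¹ * m * x * m⁻¹) = (x⁻¹ * m * x * m⁻¹ * e * (x⁻¹ * m * x * m⁻¹)⁻¹) * (x⁻¹ * m * x * m⁻¹) := by rw [h4]
      _ = x⁻¹ * m * x * m⁻¹ * e := by group
  have hQ'p : IsPGroup p (Q.map (MulAut.conj m).toMonoidHom) := S.hQ.map _
  obtain ⟨k, hkK, hk⟩ := exists_mem_map_conj_le_of_sylowIn S.hQ (le_sup_left : Q ≤ Q ⊔ C)
    (hS _ le_sup_left) hQ'p hQ'K
  have hQN : Q ≤ Subgroup.normalizer ((C : Subgroup G) : Set G) :=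
    le_trans S.le_normalizer_E (Cfsg.Agent.Lib.H14.nzr_le_nzr_centralizer E)
  have hset := Subgroup.coe_mul_of_left_le_normalizer_right Q C hQN
  have hk' : k ∈ ((Q ⊔ C : Subgroup G) : Set G) := hkK
  rw [hset] at hk'
  obtain ⟨x, hx, c, hc, hxc⟩ := Set.mem_mul.mp hk'
  have hcC : ∀ e ∈ E, c * e = e * c := by
    intro e he
    have : c ∈ Subgroup.centralizer (E : Set G) := hc
    rw [Subgroup.mem_centralizer_iff] at this
    exact (this e he).symm
  refine ⟨c * m, ?_, ?_⟩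
  · intro e he
    calc c * m * e * (c * m)⁻¹ = c * (m * e * m⁻¹) * c⁻¹ := by group
      _ = c * e⁻¹ * c⁻¹ := by rw [hm e he]
      _ = e⁻¹ * c * c⁻¹ := by rw [hcC _ (E.inv_mem he)]
      _ = e⁻¹ := by group
  · intro y hy
    have h1 : k * (m * y * m⁻¹) * k⁻¹ ∈ Q := by
      apply hk
      apply conj_mem_map_conj
      exact conj_mem_map_conj hy
    have h2 : c * m * y * (c * m)⁻¹ = x⁻¹ * (k * (m * y * m⁻¹) * k⁻¹) * x := by
      rw [← hxc]; group
    rw [h2]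
    exact Q.mul_mem (Q.mul_mem (Q.inv_mem hx) h1) hx

theorem no_inverting (S : Setup p Q Z E) {n : G} (hn : ∀ x ∈ E, n * x * n⁻¹ = x⁻¹)
    (hnQ : ∀ x ∈ Q, n * x * n⁻¹ ∈ Q) : False := by
  have hpp : p.Prime := Fact.out
  obtain ⟨x, hxQ, hxE⟩ := S.exists_not_mem_E
  -- e in E \ Z
  have hexE : ∃ e ∈ E, e ∉ Z := by
    by_contra hcon
    push Not at hcon
    have h1 : E ≤ Z := hcon
    have h2 := Subgroup.card_le_of_le h1
    rw [S.hEc, S.hZc] at h2
    have : p ^ 1 < p ^ 2 := Nat.pow_lt_pow_right hpp.one_lt (by norm_num)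
    rw [pow_one] at this
    omega
  obtain ⟨e, heE, heZ⟩ := hexE
  have hn' : ∀ x ∈ E, n⁻¹ * x * n = x⁻¹ := by
    intro x hx
    have h1 := hn x⁻¹ (E.inv_mem hx)
    rw [inv_inv] at h1
    calc n⁻¹ * x * n = n⁻¹ * (n * x⁻¹ * n⁻¹) * n := by rw [h1]
      _ = x⁻¹ := by group
  set y := n * x * n⁻¹ with hy
  have hyQ : y ∈ Q := hnQ x hxQ
  set c := x * e * x⁻¹ * e⁻¹ with hc
  have hcZ : c ∈ Z := S.comm_mem_Z hxQ (S.hEQ heE)
  have hc1 : c ≠ 1 := S.comm_ne_one hxQ hxE heE heZ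
  have hxpE : x ^ p ∈ E := S.ZE (S.hpow x hxQ)
  have hyp : y ^ p = (x ^ p)⁻¹ := by
    rw [hy, conj_pow]
    exact hn _ hxpE
  have hxyQ : x * y ∈ Q := Q.mul_mem hxQ hyQ
  have hxyE : x * y ∈ E := by
    rw [S.hE _ hxyQ, S.hmul x hxQ y hyQ, hyp, mul_inv_cancel]
  have hxe : x * e * x⁻¹ = c * e := by rw [hc]; group
  have hye : y * e * y⁻¹ = c * e := by
    have h1 : x * e⁻¹ * x⁻¹ ∈ E := S.conj_E hxQ (E.inv_mem heE)
    calc y * e * y⁻¹ = n * (x * (n⁻¹ * e * n) * x⁻¹) * n⁻¹ := by rw [hy]; group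
      _ = n * (x * e⁻¹ * x⁻¹) * n⁻¹ := by rw [hn' e heE]
      _ = (x * e⁻¹ * x⁻¹)⁻¹ := hn _ h1
      _ = x * e * x⁻¹ := by group
      _ = c * e := hxe
  have hxc : x * c * x⁻¹ = c := by
    have := S.z_comm hcZ hxQ
    calc x * c * x⁻¹ = c * x * x⁻¹ := by rw [this]
      _ = c := by group
  have h5 : (x * y) * e * (x * y)⁻¹ = c * c * e := by
    calc (x * y) * e * (x * y)⁻¹ = x * (y * e * y⁻¹) * x⁻¹ := by group
      _ = x * (c * e) * x⁻¹ := by rw [hye]
      _ = (x * c * x⁻¹) * (x * e * x⁻¹) := by group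
      _ = c * (c * e) := by rw [hxc, hxe]
      _ = c * c * e := by group
  have h6 : (x * y) * e * (x * y)⁻¹ = e := by
    rw [S.E_comm hxyE heE]; group
  have hcc : c ^ 2 = 1 := by
    rw [sq]
    have : c * c * e = e := by rw [← h5, h6]
    calc c * c = c * c * e * e⁻¹ := by group
      _ = e * e⁻¹ := by rw [this]
      _ = 1 := by group
  have hcp : c ^ p = 1 := S.z_pow hcZ
  have hd2 : orderOf c ∣ 2 := orderOf_dvd_of_pow_eq_one hcc
  have hdp : orderOf c ∣ p := orderOf_dvd_of_pow_eq_one hcp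
  have hcop : Nat.Coprime 2 p := by
    rw [Nat.coprime_primes Nat.prime_two hpp]
    exact fun h => S.hp2 h.symm
  have h1 : orderOf c ∣ 1 := by
    have := Nat.dvd_gcd hd2 hdp
    rwa [hcop] at this
  exact hc1 (orderOf_eq_one_iff.mp (Nat.dvd_one.mp h1))

end Setup


omit [Finite G] in
theorem pow_conj_of_comm {a b c : G} (h1 : a * b * a⁻¹ = c * b) (h2 : a * c = c * a) (j : ℕ) :
    a ^ j * b * (a ^ j)⁻¹ = c ^ j * b := by
  induction j with
  | zero => simp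
  | succ j ih =>
    have h3 : a * c ^ j * a⁻¹ = c ^ j := by
      have : Commute a (c ^ j) := (show Commute a c from h2).pow_right j
      calc a * c ^ j * a⁻¹ = c ^ j * a * a⁻¹ := by rw [this.eq]
        _ = c ^ j := by group
    calc a ^ (j + 1) * b * (a ^ (j + 1))⁻¹ = a * (a ^ j * b * (a ^ j)⁻¹) * a⁻¹ := by
          rw [pow_succ']; group
      _ = a * (c ^ j * b) * a⁻¹ := by rw [ih]
      _ = (a * c ^ j * a⁻¹) * (a * b * a⁻¹) := by group
      _ = c ^ j * (c * b) := by rw [h3, h1]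
      _ = c ^ (j + 1) * b := by rw [pow_succ]; group

namespace Setup

variable {Q Z E : Subgroup G}

/-- In a group of prime order `Z`, every element is a natural power of a nontrivial one. -/
theorem exists_pow_eq (S : Setup p Q Z E) {c y : G} (hc : c ∈ Z) (hc1 : c ≠ 1) (hy : y ∈ Z) :
    ∃ j : ℕ, c ^ j = y := by
  have hpp : p.Prime := Fact.out
  have hne : (⟨c, hc⟩ : Z) ≠ 1 := by
    intro h; exact hc1 (congrArg Subtype.val h)
  have htop := zpowers_eq_top_of_prime_card (G := ↥Z) (p := p) S.hZc hne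
  have hy' : (⟨y, hy⟩ : Z) ∈ Subgroup.zpowers (⟨c, hc⟩ : Z) := by rw [htop]; exact Subgroup.mem_top _
  rw [← mem_powers_iff_mem_zpowers] at hy'
  obtain ⟨k, hk⟩ := hy'
  refine ⟨k, ?_⟩
  have := congrArg Subtype.val hk
  simpa using this

theorem main (S : Setup p Q Z E) (hS : ∀ K : Subgroup G, Q ≤ K → ¬ p ∣ Q.relIndex K)
    {z g : G} (hz : z ∈ Z) (hgQ : g * z * g⁻¹ ∈ Q) : g * z * g⁻¹ ∈ Z := by
  have hpp : p.Prime := Fact.out
  by_contra heZ
  set e' := g * z * g⁻¹ with he'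
  have hz1 : z ≠ 1 := by
    intro h
    apply heZ
    rw [he', h]
    simp
  have he'E : e' ∈ E := by
    rw [S.hE _ hgQ, he', conj_pow, S.z_pow hz]; group
  -- adjust g
  obtain ⟨h, hhz, hhE⟩ : ∃ h : G, h * z * h⁻¹ = e' ∧ ∀ f ∈ E, h⁻¹ * f * h ∈ Q := by
    have hQK : Q ≤ Subgroup.centralizer ({z} : Set G) := by
      intro x hx
      rw [Subgroup.mem_centralizer_singleton_iff]
      exact (S.z_comm hz hx).symm
    have hE'K : E.map (MulAut.conj g⁻¹).toMonoidHom ≤ Subgroup.centralizer ({z} : Set G) := by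
      intro x hx
      rw [mem_map_conj, inv_inv] at hx
      rw [Subgroup.mem_centralizer_singleton_iff]
      have h1 := S.E_comm hx he'E
      -- g x g⁻¹ * (g z g⁻¹) = (g z g⁻¹) * g x g⁻¹
      have h2 : g * (x * z) * g⁻¹ = g * (z * x) * g⁻¹ := by
        calc g * (x * z) * g⁻¹ = (g * x * g⁻¹) * (g * z * g⁻¹) := by group
          _ = (g * z * g⁻¹) * (g * x * g⁻¹) := h1
          _ = g * (z * x) * g⁻¹ := by group
      have h3 := mul_left_cancel (mul_right_cancel h2)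
      exact h3
    have hE'p : IsPGroup p (E.map (MulAut.conj g⁻¹).toMonoidHom) :=
      (S.hQ.to_le S.hEQ).map _
    obtain ⟨c, hcK, hc⟩ := exists_mem_map_conj_le_of_sylowIn S.hQ hQK (hS _ hQK) hE'p hE'K
    rw [Subgroup.mem_centralizer_singleton_iff] at hcK
    refine ⟨g * c⁻¹, ?_, ?_⟩
    · have : c⁻¹ * z * c = z := by
        calc c⁻¹ * z * c = c⁻¹ * (c * z) := by rw [mul_assoc, hcK]
          _ = z := by group
      calc g * c⁻¹ * z * (g * c⁻¹)⁻¹ = g * (c⁻¹ * z * c) * g⁻¹ := by group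
        _ = e' := by rw [this]
    · intro f hf
      have h1 : c * (g⁻¹ * f * g⁻¹⁻¹) * c⁻¹ ∈ Q := by
        apply hc
        apply conj_mem_map_conj
        exact conj_mem_map_conj hf
      have h2 : (g * c⁻¹)⁻¹ * f * (g * c⁻¹) = c * (g⁻¹ * f * g⁻¹⁻¹) * c⁻¹ := by group
      rw [h2]; exact h1
  -- h normalizes E
  have hhE1 : ∀ f ∈ E, h⁻¹ * f * h ∈ E := by
    intro f hf
    rw [S.hE _ (hhE f hf)]
    have : (h⁻¹ * f * h) ^ p = h⁻¹ * f ^ p * h := by
      have := conj_pow (a := h⁻¹) (b := f) (i := p)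
      rw [inv_inv] at this
      exact this
    rw [this, (S.hE f (S.hEQ hf)).mp hf]; group
  have hhE2 : ∀ f ∈ E, h * f * h⁻¹ ∈ E := by
    have hle : E.map (MulAut.conj h⁻¹).toMonoidHom ≤ E := by
      intro x hx
      rw [mem_map_conj, inv_inv] at hx
      have := hhE1 _ hx
      have h2 : h⁻¹ * (h * x * h⁻¹) * h = x := by group
      rwa [h2] at this
    have heq : E.map (MulAut.conj h⁻¹).toMonoidHom = E := by
      apply Subgroup.eq_of_le_of_card_ge hle
      rw [card_map_conj]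
    intro f hf
    have : f ∈ E.map (MulAut.conj h⁻¹).toMonoidHom := by rw [heq]; exact hf
    rw [mem_map_conj, inv_inv] at this
    exact this
  obtain ⟨t, htQ, htE⟩ := S.exists_not_mem_E
  set y₀ := t * e' * t⁻¹ * e'⁻¹ with hy₀
  have hy₀Z : y₀ ∈ Z := S.comm_mem_Z htQ (S.hEQ he'E)
  have hy₀1 : y₀ ≠ 1 := S.comm_ne_one htQ htE he'E heZ
  set w := h⁻¹ * y₀ * h with hw
  have hwE : w ∈ E := hhE1 _ (S.ZE hy₀Z)
  have hw1 : w ≠ 1 := by
    intro h1
    apply hy₀1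
    have : y₀ = h * w * h⁻¹ := by rw [hw]; group
    rw [this, h1]; group
  have hwZ : w ∉ Z := by
    intro hwZ
    obtain ⟨k, hk⟩ := S.exists_pow_eq hwZ hw1 hz
    apply heZ
    have : e' = y₀ ^ k := by
      rw [← hhz, ← hk, ← conj_pow]
      have : h * w * h⁻¹ = y₀ := by rw [hw]; group
      rw [this]
    rw [this]
    exact Z.pow_mem hy₀Z k
  set c₁ := t * w * t⁻¹ * w⁻¹ with hc₁
  have hc₁Z : c₁ ∈ Z := S.comm_mem_Z htQ (S.hEQ hwE)
  have hc₁1 : c₁ ≠ 1 := S.comm_ne_one htQ htE hwE hwZ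
  obtain ⟨j, hj⟩ := S.exists_pow_eq hc₁Z hc₁1 (Z.inv_mem hz)
  set s₀ := h * t * h⁻¹ with hs₀
  set y₁ := h * c₁ * h⁻¹ with hy₁
  have hs₀y₀ : s₀ * y₀ * s₀⁻¹ = y₁ * y₀ := by
    have : y₀ = h * w * h⁻¹ := by rw [hw]; group
    calc s₀ * y₀ * s₀⁻¹ = h * (t * w * t⁻¹) * h⁻¹ := by rw [hs₀, hw]; group
      _ = h * (c₁ * w) * h⁻¹ := by rw [hc₁]; group
      _ = (h * c₁ * h⁻¹) * (h * w * h⁻¹) := by group
      _ = y₁ * y₀ := by rw [← this]
  have hs₀y₁ : s₀ * y₁ = y₁ * s₀ := by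
    have h1 := S.z_comm hc₁Z htQ
    calc s₀ * y₁ = h * (t * c₁) * h⁻¹ := by rw [hs₀, hy₁]; group
      _ = h * (c₁ * t) * h⁻¹ := by rw [h1]
      _ = y₁ * s₀ := by rw [hs₀, hy₁]; group
  have hs₀e' : s₀ * e' * s₀⁻¹ = e' := by
    have h1 := S.z_comm hz htQ
    calc s₀ * e' * s₀⁻¹ = h * (t * z) * t⁻¹ * h⁻¹ := by rw [hs₀, ← hhz]; group
      _ = h * (z * t) * t⁻¹ * h⁻¹ := by rw [h1]
      _ = e' := by rw [← hhz]; group
  have hy₁j : y₁ ^ j = e'⁻¹ := by
    rw [hy₁, conj_pow, hj, ← hhz]; group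
  have hsy₀ : s₀ ^ j * y₀ * (s₀ ^ j)⁻¹ = e'⁻¹ * y₀ := by
    rw [pow_conj_of_comm hs₀y₀ hs₀y₁ j, hy₁j]
  have hse' : s₀ ^ j * e' * (s₀ ^ j)⁻¹ = e' := by
    have hc : Commute s₀ e' := by
      show s₀ * e' = e' * s₀
      calc s₀ * e' = (s₀ * e' * s₀⁻¹) * s₀ := by group
        _ = e' * s₀ := by rw [hs₀e']
    have := (hc.pow_left j).eq
    calc s₀ ^ j * e' * (s₀ ^ j)⁻¹ = e' * s₀ ^ j * (s₀ ^ j)⁻¹ := by rw [this]
      _ = e' := by group
  have hty₀ : t * y₀ * t⁻¹ = y₀ := by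
    have := S.z_comm hy₀Z htQ
    calc t * y₀ * t⁻¹ = y₀ * t * t⁻¹ := by rw [this]
      _ = y₀ := by group
  have hte' : t * e' * t⁻¹ = y₀ * e' := by rw [hy₀]; group
  have hcomm : y₀ * e' = e' * y₀ := S.E_comm (S.ZE hy₀Z) he'E
  obtain ⟨hm1, hm2⟩ := invert_calc hcomm hty₀ hte' hse' hsy₀
  have hall := S.invert_all hy₀Z hy₀1 he'E heZ hm1 hm2
  obtain ⟨n, hn1, hn2⟩ := S.frattini_adjust hS hall
  exact S.no_inverting hn1 hn2

end Setup



/-- Let p be an odd prime and G a finite group with a Sylow p-subgroup P that is extraspecial of order p³ and exponent p². Then the centre of P is strongly closed in P with respect to G: a G-conjugate of an element of Z(P) that lies in P already lies in Z(P). In particular a nontrivial central element of P is conjugate in G to no noncentral element of P. -/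
theorem result {G : Type*} [Group G] [Finite G]
    {p : ℕ} [Fact p.Prime] (hp : p ≠ 2) (P : Sylow p G) (hE : Cfsg.IsExtraspecial p ↥P)
    (hcard : Nat.card P = p ^ 3) (hexp : Monoid.exponent ↥P = p ^ 2) :
    Cfsg.IsStronglyClosed ((Subgroup.center ↥P).map (P : Subgroup G).subtype) (P : Subgroup G) := by
  have hpp : p.Prime := Fact.out
  obtain ⟨hQ, hZQ, hZc, hcen, hcomm, hpow⟩ := extraspecial_data p (P : Subgroup G) hE
  have hnc : ¬ IsCyclic ↥(P : Subgroup G) := by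
    intro hcyc
    have hmc : IsMulCommutative ↥(P : Subgroup G) := inferInstance
    have hctop : Subgroup.center ↥(P : Subgroup G) = ⊤ := by
      rw [eq_top_iff]
      intro x _
      rw [Subgroup.mem_center_iff]
      intro y
      exact hmc.is_comm.comm y x
    have h1 : Nat.card (Subgroup.center ↥(P : Subgroup G)) = p := hE.2
    rw [hctop, Subgroup.card_top] at h1
    have h2 : Nat.card ↥(P : Subgroup G) = p ^ 3 := hcard
    rw [h2] at h1
    have : p ^ 1 < p ^ 3 := Nat.pow_lt_pow_right hpp.one_lt (by norm_num)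
    rw [pow_one] at this
    omega
  obtain ⟨E, hEQ, hEc, hEmem⟩ := omega_data hp (P : Subgroup G) hQ hcard hexp hnc
  have S : Setup p (P : Subgroup G) ((Subgroup.center ↥P).map (P : Subgroup G).subtype) E :=
    { hp2 := hp
      hQ := hQ
      hQc := hcard
      hZQ := hZQ
      hZc := hZc
      hcen := hcen
      hcomm := hcomm
      hEQ := hEQ
      hEc := hEc
      hE := hEmem
      hmul := fun x hx y hy => mul_pow_Q hp (P : Subgroup G) hQ hcard hexp x y hx hy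
      hpow := hpow }
  refine ⟨hZQ, ?_⟩
  intro x hx g hg
  exact S.main (fun K hK => not_dvd_relIndex_of_sylow_le P hK) hx hg


end Cfsg.Agent.S3053
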