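import Cfsg.Statements.S3054
import Cfsg.Agent.Lib.H15.Xsp10

set_option autoImplicit false
open Cfsg

namespace Cfsg.Agent.S3054
open Cfsg.Agent.Lib.H15.Xsp

/-- Let p be an odd prime and G a finite group with a Sylow p-subgroup P that is extraspecial of order p³ and exponent p. Suppose P contains three distinct subgroups A of order p² (each is elementary abelian of rank 2) such that every automorphism of A of order p is induced by conjugation by an element of G; equivalently the automorphism group induced on A by its normalizer contains the special linear group of A. Then p ≤ 13. -/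
theorem result {G : Type*} [Group G] [Finite G]
    {p : ℕ} [Fact p.Prime] (hp : p ≠ 2) (P : Sylow p G) (hE : Cfsg.IsExtraspecial p ↥P)
    (hcard : Nat.card P = p ^ 3) (hexp : Monoid.exponent ↥P = p)
    (A : Fin 3 → Subgroup G) (hA : Function.Injective A) (hAP : ∀ i, A i ≤ (P : Subgroup G))
    (hAcard : ∀ i, Nat.card ↥(A i) = p ^ 2)
    (hSL : ∀ i, ∀ φ : MulAut ↥(A i), orderOf φ = p → ∃ g : G, ∀ a : ↥(A i), (φ a : G) = g * (a : G) * g⁻¹) :
    p ≤ 13 := by
  have h := Hyp.of_extraspecial hE hcard hexp
  obtain ⟨F⟩ := exists_frame h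
  choose y hyA hzA hygood hyspan using fun i =>
    good_of_SL P F h hE.1.2.1 (A i) (hAP i) (hAcard i) (hSL i)
  have hind : ∀ i j, i ≠ j →
      (kv F.κ (y i)).1 * (kv F.κ (y j)).2 - (kv F.κ (y i)).2 * (kv F.κ (y j)).1 ≠ 0 := by
    intro i j hij hdet
    apply hij
    apply hA
    have hyjne : kv F.κ (y j) ≠ 0 := fun h0 => (hygood j).1 ((F.kv_eq_zero_iff _).mp h0)
    obtain ⟨t, ht⟩ := exists_proportional hyjne hdet
    -- y i = c * (y j)^t with c central
    have hcen : y i * ((y j) ^ t.val)⁻¹ ∈ Subgroup.center ↥P := by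
      rw [← F.kv_eq_zero_iff, kv_mul, kv_inv, kv_pow_val, ht]
      ext <;> simp
    obtain ⟨s, hs⟩ := F.exists_pow_of_mem_center h hcen
    have hyi : (y i : G) ∈ A j := by
      have h1 : y i = F.z ^ s.val * (y j) ^ t.val := by
        rw [← hs]; group
      rw [h1]
      exact mul_mem (pow_mem (hzA j) _) (pow_mem (hyA j) _)
    have hle : A i ≤ A j := by
      intro x hx
      obtain ⟨u, v, rfl⟩ := hyspan i x hx
      exact mul_mem (pow_mem (hzA j) _) (pow_mem hyi _)
    exact Subgroup.eq_of_le_of_card_ge hle (by rw [hAcard i, hAcard j])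
  obtain ⟨a, ha⟩ := exists_gen (p := p)
  have h5 := bound3 P F hp h y hygood hind a
  rw [orderOf_cube ha] at h5
  rcases prime_cases h5 with h2 | h3 | h5' | h7 | h13 <;> omega

end Cfsg.Agent.S3054
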