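import Cfsg.Statements.S3055
import Cfsg.Agent.Lib.H15.Xsp9

set_option autoImplicit false
open Cfsg

namespace Cfsg.Agent.S3055
open Cfsg.Agent.Lib.H15.Xsp

/-- seven pairwise independent vectors over `ZMod 13` -/
def w7 (i : Fin 7) : ZMod 13 × ZMod 13 :=
  if i = 6 then (0, 1) else (1, ((i.val : ℕ) : ZMod 13))

theorem w7_indep : ∀ i j : Fin 7, i ≠ j → (w7 i).1 * (w7 j).2 - (w7 i).2 * (w7 j).1 ≠ 0 := by
  decide

theorem w7_ne : ∀ i : Fin 7, w7 i ≠ 0 := by decide


/-- Let p be an odd prime and G a finite group with a Sylow p-subgroup P that is extraspecial of order p³ and exponent p. If all nonidentity elements of P are conjugate in G, then p ≤ 7. -/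
theorem result {G : Type*} [Group G] [Finite G]
    {p : ℕ} [Fact p.Prime] (hp : p ≠ 2) (P : Sylow p G) (hE : Cfsg.IsExtraspecial p ↥P)
    (hcard : Nat.card P = p ^ 3) (hexp : Monoid.exponent ↥P = p)
    (hconj : ∀ x y : ↥P, x ≠ 1 → y ≠ 1 → ∃ g : G, g * (x : G) * g⁻¹ = (y : G)) :
    p ≤ 7 := by
  have h := Hyp.of_extraspecial hE hcard hexp
  obtain ⟨F⟩ := exists_frame h
  have hz1 := F.z_ne_one h
  have hgood : ∀ v : ↥P, kv F.κ v ≠ 0 → Good P F v := by
    intro v hv
    apply good_of_conj P F h v (fun hc => hv ((F.kv_eq_zero_iff v).mpr hc))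
    apply hconj F.z v hz1
    rintro rfl
    exact hv (kv_one _)
  have vec : ∀ w : ZMod p × ZMod p, ∃ v : ↥P, kv F.κ v = w := by
    intro w
    obtain ⟨v, hv⟩ := F.surj (Multiplicative.ofAdd w)
    exact ⟨v, by unfold kv; rw [hv]; rfl⟩
  obtain ⟨a, ha⟩ := exists_gen (p := p)
  -- three points
  have h5 : orderOf (a ^ 3) ≤ 5 := by
    choose y hy using fun i : Fin 3 => vec ((![(1, 0), (0, 1), (1, 1)] : Fin 3 → ZMod p × ZMod p) i)
    have hind : ∀ i j, i ≠ j →
        (kv F.κ (y i)).1 * (kv F.κ (y j)).2 - (kv F.κ (y i)).2 * (kv F.κ (y j)).1 ≠ 0 := by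
      intro i j hij
      rw [hy i, hy j]
      fin_cases i <;> fin_cases j <;> simp at hij ⊢
    have hne : ∀ i, kv F.κ (y i) ≠ 0 := by
      intro i
      rw [hy i]
      fin_cases i <;> simp
    exact bound3 P F hp h y (fun i => hgood _ (hne i)) hind a
  rw [orderOf_cube ha] at h5
  rcases prime_cases h5 with h2 | h3 | h5' | h7 | h13
  · exact absurd h2 hp
  · omega
  · omega
  · omega
  · exfalso
    subst h13
    have h4 : 4 ∣ orderOf (a ^ 3) := by
      rw [orderOf_cube ha]
      decide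
    choose y hy using fun i : Fin 7 => vec (w7 i)
    have hind : ∀ i j, i ≠ j →
        (kv F.κ (y i)).1 * (kv F.κ (y j)).2 - (kv F.κ (y i)).2 * (kv F.κ (y j)).1 ≠ 0 := by
      intro i j hij
      rw [hy i, hy j]
      exact w7_indep i j hij
    have hne : ∀ i, kv F.κ (y i) ≠ 0 := by
      intro i
      rw [hy i]
      exact w7_ne i
    exact bound7 P F hp h y (fun i => hgood _ (hne i)) hind a h4

end Cfsg.Agent.S3055
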