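import Cfsg.Statements.S3057
import Cfsg.Agent.Lib.H15.SylowGraph
import Cfsg.Agent.Lib.H15.RankOne
import Cfsg.Agent.Lib.H14.UniqP
import Cfsg.Agent.Lib.H14.PIrr
import Cfsg.Agent.Lib.H7.CoprimeGen
import Cfsg.Agent.Lib.H10.PSolvable2
import Cfsg.Agent.Lib.H9.PPrimeCore
import Cfsg.Agent.Lib.H22.PPrimeCore
import Cfsg.Agent.Lib.H19.Cores
import Cfsg.Agent.Lib.H19.PLength
import Cfsg.Agent.Lib.H1.PCore
import Cfsg.Agent.Lib.H3.Sylow
import Cfsg.Agent.Lib.H5.SylowIn
import Cfsg.Agent.S0016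

set_option autoImplicit false
open Cfsg

namespace Cfsg.Agent.S3057

open Cfsg.Agent.Lib.H15

/-- cyclic or (generalized) quaternion -/
def CQ (p : ℕ) (T : Type*) [Group T] : Prop :=
  IsCyclic T ∨ (p = 2 ∧ ∃ n : ℕ, Nonempty (T ≃* QuaternionGroup (2 ^ n)))

theorem CQ.of_equiv {p : ℕ} {T T' : Type*} [Group T] [Group T'] (e : T ≃* T') (h : CQ p T) :
    CQ p T' := by
  rcases h with h | ⟨h2, n, ⟨f⟩⟩
  · left
    exact isCyclic_of_surjective e e.surjective
  · right
    exact ⟨h2, n, ⟨e.symm.trans f⟩⟩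

variable {G : Type*} [Group G] [Finite G] {p : ℕ} [Fact p.Prime]

theorem backward (hdiv : p ∣ Nat.card G) (P : Sylow p G) (hO : Cfsg.pCore p G = ⊥)
    (hP : CQ p ↥P) : ¬ Cfsg.IsSylowChainConnected p G := by
  have hpp : p.Prime := Fact.out
  rw [isSylowChainConnected_iff]
  intro hconn
  have hP1 : (P : Subgroup G) ≠ ⊥ := sylow_ne_bot_of_dvd hdiv P
  obtain ⟨x, hxP, hxo, -⟩ := exists_central_orderOf_eq_prime P.2 hP1
  have hx1 : x ≠ 1 := by
    intro h
    rw [h, orderOf_one] at hxo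
    exact hpp.one_lt.ne hxo
  have hxp : x ^ p = 1 := by
    have := pow_orderOf_eq_one x
    rwa [hxo] at this
  have hprop : ∀ S T : Sylow p G, sylAdj S T → x ∈ S → x ∈ T := by
    intro S T hadj hxS
    obtain ⟨y, hy1, hyS, hyT⟩ := inf_ne_bot_iff.mp hadj.2
    -- a power of `y` of order `p`
    obtain ⟨k, hk⟩ := (IsPGroup.iff_orderOf.mp S.2) (⟨y, hyS⟩ : ↥S)
    rw [Subgroup.orderOf_mk] at hk
    have hk0 : k ≠ 0 := by
      rintro rfl
      rw [pow_zero, orderOf_eq_one_iff] at hk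
      exact hy1 hk
    obtain ⟨j, rfl⟩ := Nat.exists_eq_succ_of_ne_zero hk0
    have hy'o : orderOf (y ^ (p ^ j)) = p := by
      rw [orderOf_pow' y (pow_ne_zero j hpp.ne_zero), hk, Nat.gcd_eq_right (pow_dvd_pow p (Nat.le_succ j)),
        pow_succ, Nat.mul_div_cancel_left _ (pow_pos hpp.pos j)]
    have hy'1 : y ^ (p ^ j) ≠ 1 := by
      intro h
      rw [h, orderOf_one] at hy'o
      exact hpp.one_lt.ne hy'o
    have hy'p : (y ^ (p ^ j)) ^ p = 1 := by
      have := pow_orderOf_eq_one (y ^ (p ^ j))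
      rwa [hy'o] at this
    have hS : CQ p ↥S := hP.of_equiv (Sylow.equiv P S)
    have hS' : IsCyclic ↥S ∨ ∃ n : ℕ, Nonempty (↥S ≃* QuaternionGroup n) := by
      rcases hS with h | ⟨-, n, h⟩
      · exact Or.inl h
      · exact Or.inr ⟨2 ^ n, h⟩
    have hmem := Cfsg.Agent.Lib.H14.mem_zpowers_of_cyclic_or_quaternion S.2 hS'
      (⟨y ^ (p ^ j), S.pow_mem hyS _⟩ : ↥S) ⟨x, hxS⟩ (Subtype.ext (by simpa using hy'p))
      (fun h => hy'1 (by simpa using congrArg Subtype.val h)) (Subtype.ext (by simpa using hxp))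
    obtain ⟨m, hm⟩ := Subgroup.mem_zpowers_iff.mp hmem
    have hm' : (y ^ (p ^ j)) ^ m = x := by simpa using congrArg Subtype.val hm
    rw [← hm']
    exact T.zpow_mem (T.pow_mem hyT _) m
  have hall : ∀ T : Sylow p G, x ∈ T := by
    intro T
    have h := hconn P T
    induction h with
    | refl => exact hxP
    | @tail A B _ hab ih => exact hprop A B hab ih
  have hN : Subgroup.normalClosure ({x} : Set G) ≤ (P : Subgroup G) := by
    unfold Subgroup.normalClosure
    rw [Subgroup.closure_le]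
    intro y hy
    rw [Group.mem_conjugatesOfSet_iff] at hy
    obtain ⟨a, ha, hay⟩ := hy
    rw [Set.mem_singleton_iff] at ha
    subst ha
    obtain ⟨g, rfl⟩ := isConj_iff.mp hay
    have := hall (g⁻¹ • P)
    rw [Cfsg.Agent.Lib.H5.sylow_mem_smul_iff] at this
    simpa using this
  have hle : Subgroup.normalClosure ({x} : Set G) ≤ Cfsg.pCore p G :=
    Cfsg.Agent.Lib.H19.le_pCore Subgroup.normalClosure_normal (P.2.to_le hN)
  rw [hO] at hle
  have : x ∈ Subgroup.normalClosure ({x} : Set G) := Subgroup.subset_normalClosure rfl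
  exact hx1 (Subgroup.mem_bot.mp (hle this))

/-- In a `p`-solvable group, a strongly `p`-embedded subgroup contains no abelian subgroup of exponent `p`
and order more than `p`. -/
theorem rank_one_of_SE (hdiv : p ∣ Nat.card G) (hsol : Cfsg.IsPSolvable p G) {H : Subgroup G}
    (hH : IsClassicalSE p H) (S : Sylow p G) (hSH : (S : Subgroup G) ≤ H) (E : Subgroup G)
    (hES : E ≤ (S : Subgroup G)) (hEc : ∀ a ∈ E, ∀ b ∈ E, a * b = b * a) (hEp : ∀ a ∈ E, a ^ p = 1) :
    Nat.card E ≤ p := by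
  have hpp : p.Prime := Fact.out
  by_contra hlt
  push Not at hlt
  obtain ⟨K, hK⟩ : ∃ K, K = Cfsg.pPrimeCore p G := ⟨_, rfl⟩
  have hKn : K.Normal := hK ▸ Cfsg.Agent.Lib.H22.pPrimeCore_normal p
  have hKc : (Nat.card K).Coprime p := hK ▸ Cfsg.Agent.Lib.H22.card_pPrimeCore_coprime p
  -- `K ≤ H`
  have hKH : K ≤ H := by
    have h1 := Cfsg.Agent.Lib.H7.le_hypGen p (A := E) (X := K) hEc hEp hKc
      (by rw [Subgroup.normalizer_eq_top_iff.mpr hKn]; exact le_top)
    refine h1.trans ?_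
    unfold Cfsg.Agent.Lib.H7.hypGen
    apply iSup_le
    rintro ⟨B, hBE, hBi⟩
    have hB1 : B ≠ ⊥ := by
      intro h
      rw [h, Subgroup.relIndex_bot_left] at hBi
      omega
    have hBH : B ≤ H := (hBE.trans hES).trans hSH
    have hBp : IsPGroup p B := S.2.to_le (hBE.trans hES)
    exact inf_le_right.trans ((Subgroup.centralizer_le_normalizer _).trans (hH.normalizer_le hBH hBp hB1))
  -- the quotient by `K`
  have hKtop : K ≠ ⊤ := by
    intro h
    rw [h, Subgroup.card_top] at hKc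
    exact (Nat.Prime.coprime_iff_not_dvd hpp).mp hKc.symm hdiv
  have hnt : Nontrivial (G ⧸ K) := by
    by_contra hnn
    rw [not_nontrivial_iff_subsingleton] at hnn
    apply hKtop
    rw [eq_top_iff]
    intro g _
    rw [← QuotientGroup.eq_one_iff]
    exact Subsingleton.elim _ _
  have hsolq : Cfsg.IsPSolvable p (G ⧸ K) := Cfsg.Agent.Lib.H10.isPSolvable_quotient hsol K
  obtain ⟨Mb, hMn, hM1, hMp⟩ := Cfsg.Agent.Lib.H10.exists_normal_of_isPSolvable hsolq
  have hMp' : IsPGroup p Mb := by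
    rcases hMp with h | h
    · exact h
    · exfalso
      apply hM1
      have h1 := Cfsg.Agent.Lib.H22.le_pPrimeCore p Mb hMn h
      have h2 : Cfsg.pPrimeCore p (G ⧸ K) = ⊥ := by
        have := Cfsg.Agent.Lib.H9.pPrimeCore_quotient_eq_bot (G := G) p
        convert this
      rw [h2] at h1
      exact le_bot_iff.mp h1
  obtain ⟨R, hR⟩ : ∃ R, R = Mb.comap (QuotientGroup.mk' K) := ⟨_, rfl⟩
  have hRn : R.Normal := by rw [hR]; infer_instance
  have hKR : K ≤ R := by
    intro k hk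
    rw [hR, Subgroup.mem_comap]
    have : QuotientGroup.mk' K k = 1 := (QuotientGroup.eq_one_iff k).mpr hk
    rw [this]; exact Mb.one_mem
  have hmapR : R.map (QuotientGroup.mk' K) = Mb := by
    rw [hR]; exact Subgroup.map_comap_eq_self_of_surjective (QuotientGroup.mk'_surjective K) Mb
  obtain ⟨S₀, hS₀⟩ : ∃ S₀, S₀ = (S : Subgroup G) ⊓ R := ⟨_, rfl⟩
  have hfr := Sylow.normalizer_sup_eq_top (Cfsg.Agent.Lib.H14.sylowInf S R)
  rw [Cfsg.Agent.Lib.H14.sylowInf_map, ← hS₀] at hfr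
  -- `R ≤ K ⊔ S₀`
  have hRKS : R ≤ K ⊔ S₀ := by
    rw [← Subgroup.relIndex_eq_one]
    have h1 : (K ⊔ S₀).relIndex R ∣ S₀.relIndex R := Subgroup.relIndex_dvd_of_le_left R le_sup_right
    have h2 : (K ⊔ S₀).relIndex R ∣ K.relIndex R := Subgroup.relIndex_dvd_of_le_left R le_sup_left
    have h3 : ¬ p ∣ S₀.relIndex R := by
      rw [hS₀, Subgroup.inf_relIndex_right]
      exact Cfsg.Agent.Lib.H3.not_dvd_relIndex_of_isSubnormal (S : Subgroup G) hRn.isSubnormal S.not_dvd_index
    have h4 : K.relIndex R = Nat.card Mb := by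
      rw [← hmapR]; exact (Cfsg.Agent.Lib.H19.card_map_mk' K R).symm
    obtain ⟨j, hj⟩ := IsPGroup.iff_card.mp hMp'
    rw [h4, hj] at h2
    obtain ⟨i, -, hi⟩ := (Nat.dvd_prime_pow hpp).mp h2
    rcases Nat.eq_zero_or_pos i with h0 | hpos
    · rw [hi, h0, pow_zero]
    · exfalso
      apply h3
      refine dvd_trans ?_ h1
      rw [hi]; exact dvd_pow_self p hpos.ne'
  have hS₀1 : S₀ ≠ ⊥ := by
    intro h
    apply hM1
    rw [h, sup_bot_eq] at hRKS
    rw [← hmapR, eq_bot_iff]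
    rintro _ ⟨r, hr, rfl⟩
    rw [Subgroup.mem_bot]
    exact (QuotientGroup.eq_one_iff r).mpr (hRKS hr)
  have hS₀S : S₀ ≤ (S : Subgroup G) := hS₀ ▸ inf_le_left
  have hNH : Subgroup.normalizer (S₀ : Set G) ≤ H :=
    hH.normalizer_le (hS₀S.trans hSH) (S.2.to_le hS₀S) hS₀1
  apply hH.1
  rw [eq_top_iff, ← hfr]
  exact sup_le hNH (hRKS.trans (sup_le hKH (hS₀S.trans hSH)))

theorem forward (hdiv : p ∣ Nat.card G) (hsol : Cfsg.IsPSolvable p G) (P : Sylow p G)
    (hnc : ¬ Cfsg.IsSylowChainConnected p G) : Cfsg.pCore p G = ⊥ ∧ CQ p ↥P := by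
  have hpp : p.Prime := Fact.out
  constructor
  · by_contra hne
    apply hnc
    rw [isSylowChainConnected_iff]
    intro S T
    obtain ⟨y, hy, hy1⟩ : ∃ y ∈ Cfsg.pCore p G, y ≠ 1 := by
      by_contra h
      push Not at h
      exact hne (eq_bot_iff.mpr fun y hy => Subgroup.mem_bot.mpr (h y hy))
    exact sylConn_of_mem hy1 (Cfsg.Agent.Lib.H1.pCore_le_sylow S hy)
      (Cfsg.Agent.Lib.H1.pCore_le_sylow T hy)
  · obtain ⟨H, hH⟩ := not_connected_iff_exists_classicalSE.mp hnc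
    obtain ⟨S, hSH⟩ := hH.exists_sylow_le
    have hrk : Cfsg.PRankLE p 1 ↥S := by
      intro A hAc hAp
      rw [pow_one]
      have h := rank_one_of_SE hdiv hsol hH S hSH (A.map (S : Subgroup G).subtype)
        (Subgroup.map_subtype_le A)
        (by
          rintro _ ⟨a, ha, rfl⟩ _ ⟨b, hb, rfl⟩
          have := hAc.is_comm.comm (⟨a, ha⟩ : ↥A) ⟨b, hb⟩
          have h2 : a * b = b * a := congrArg Subtype.val this
          exact congrArg Subtype.val h2)
        (by
          rintro _ ⟨a, ha, rfl⟩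
          have := hAp a ha
          simpa using congrArg Subtype.val this)
      rwa [Subgroup.card_map_of_injective (Subgroup.subtype_injective _)] at h
    have huniq : ∀ H₁ K₁ : Subgroup ↥S, Nat.card H₁ = p → Nat.card K₁ = p → H₁ = K₁ := by
      intro H₁ K₁ h1 h2
      exact eq_of_card_eq_prime_of_pRankLE_one hrk (P := ⊤)
        (IsPGroup.of_equiv S.2 Subgroup.topEquiv.symm) le_top le_top h1 h2
    have hS : CQ p ↥S := Cfsg.Agent.S0016.result p S.2 huniq
    exact hS.of_equiv (Sylow.equiv S P)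

/-- Let p be a prime and G a finite p-solvable group of order divisible by p, with Sylow p-subgroup P. Then the Sylow p-subgroups of G fail to be chain-connected through nontrivial intersections (equivalently, G has a strongly p-embedded subgroup) if and only if O_p(G) = 1 and P is cyclic or, for p = 2, generalized quaternion. -/
theorem result {G : Type*} [Group G] [Finite G]
    (p : ℕ) [Fact p.Prime] (hdiv : p ∣ Nat.card G) (hsol : Cfsg.IsPSolvable p G) (P : Sylow p G) :
    ¬ Cfsg.IsSylowChainConnected p G ↔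
      Cfsg.pCore p G = ⊥ ∧ (IsCyclic ↥P ∨ (p = 2 ∧ ∃ n : ℕ, Nonempty (↥P ≃* QuaternionGroup (2 ^ n)))) := by
  constructor
  · intro h
    exact forward hdiv hsol P h
  · rintro ⟨h1, h2⟩
    exact backward hdiv P h1 h2

end Cfsg.Agent.S3057
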