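import Cfsg.Statements.S3059
import Cfsg.Agent.S3058
import Cfsg.Agent.Lib.H15.SylowGraph
import Cfsg.Agent.Lib.H10.PResidual
import Cfsg.Agent.Lib.H1.FrattiniArg

set_option autoImplicit false
open Cfsg

namespace Cfsg.Agent.S3059

open Cfsg.Agent.Lib.H15 Cfsg.Agent.Lib.H5

/-- Let p be a prime and H a strongly p-embedded subgroup of the finite group G in the classical sense: H is proper, p divides the order of H, and H ∩ gHg⁻¹ has order prime to p for every g outside H. Then for every normal subgroup N of G of order divisible by p, G = H · O^p(N), where O^p(N) is the subgroup generated by the elements of N of order prime to p. -/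
theorem result {G : Type*} [Group G] [Finite G]
    (p : ℕ) [Fact p.Prime] (H : Subgroup G) (hH : H ≠ ⊤) (hpH : p ∣ Nat.card H)
    (hse : ∀ g : G, g ∉ H → ¬ p ∣ Nat.card ↥(H ⊓ H.map (MulAut.conj g).toMonoidHom))
    (N : Subgroup G) [N.Normal] (hN : p ∣ Nat.card N) :
    H ⊔ Subgroup.closure {g : G | g ∈ N ∧ (orderOf g).Coprime p} = ⊤ := by
  classical
  have hpp : p.Prime := Fact.out
  have hse' : IsClassicalSE p H := ⟨hH, hpH, hse⟩
  obtain ⟨S, hSH⟩ := hse'.exists_sylow_le
  obtain ⟨a, haS, haN, haord⟩ := Cfsg.Agent.S3058.exists_orderOf_in_sylow p N hN S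
  have ha1 : a ≠ 1 := by
    intro h; rw [h, orderOf_one] at haord; exact hpp.one_lt.ne haord
  have hQ : IsPGroup p ↥(Subgroup.zpowers a) := by
    apply IsPGroup.of_card (n := 1)
    rw [Nat.card_zpowers, haord, pow_one]
  have hQN : Subgroup.zpowers a ≤ N := by rw [Subgroup.zpowers_le]; exact haN
  have hQH : Subgroup.zpowers a ≤ H := by rw [Subgroup.zpowers_le]; exact hSH haS
  have hQne : Subgroup.zpowers a ≠ ⊥ := by rw [Ne, Subgroup.zpowers_eq_bot]; exact ha1
  obtain ⟨P₀, hP₀, haP₀⟩ := exists_isSylowIn_ge hQ hQN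
  have hP₀of : Cfsg.Agent.Lib.H1.IsSylowOf p N P₀ := ⟨hP₀.1, hP₀.card_eq⟩
  have hfr := hP₀of.normalizer_sup_eq_top
  obtain ⟨T, hT⟩ := hP₀.2.1.exists_le_sylow
  have hTH : (T : Subgroup G) ≤ H := hse'.sylow_le hQH hQne T (haP₀.trans hT)
  have hP₀H : P₀ ≤ H := hT.trans hTH
  have hP₀ne : P₀ ≠ ⊥ := by
    intro h
    apply hQne
    rw [eq_bot_iff, ← h]; exact haP₀
  have hNP₀ : Subgroup.normalizer (P₀ : Set G) ≤ H := hse'.normalizer_le hP₀H hP₀.2.1 hP₀ne
  set R := Subgroup.closure {g : G | g ∈ N ∧ (orderOf g).Coprime p} with hRdef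
  have hidx : ¬ p ∣ (P₀.subgroupOf N).index := hP₀of.not_dvd_relIndex
  have hRmap : ∀ u : ↥N, u ∈ Cfsg.pResidual p ↥N → (u : G) ∈ R := by
    intro u hu
    unfold Cfsg.pResidual at hu
    induction hu using Subgroup.closure_induction with
    | mem x hx =>
      apply Subgroup.subset_closure
      refine ⟨x.2, ?_⟩
      rw [Subgroup.orderOf_coe]; exact hx
    | one => exact R.one_mem
    | mul x y _ _ hx hy => exact R.mul_mem hx hy
    | inv x _ hx => exact R.inv_mem hx
  have hNle : N ≤ H ⊔ R := by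
    intro n hn
    obtain ⟨s, hs, u, hu, hm⟩ :=
      Cfsg.Agent.Lib.H10.exists_mul_of_sylow_pResidual p (P₀.subgroupOf N) hidx ⟨n, hn⟩
    have e : n = (s : G) * (u : G) := congrArg Subtype.val hm
    rw [e]
    exact Subgroup.mul_mem _ (Subgroup.mem_sup_left (hP₀H (Subgroup.mem_subgroupOf.mp hs)))
      (Subgroup.mem_sup_right (hRmap u hu))
  rw [eq_top_iff, ← hfr]
  exact sup_le (hNP₀.trans le_sup_left) hNle


end Cfsg.Agent.S3059
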