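import Cfsg.Statements.S3063
import Cfsg.Agent.Lib.H15.Replacement2

set_option autoImplicit false
open Cfsg

namespace Cfsg.Agent.S3063

open Cfsg.Agent.Lib.H15
open scoped commutatorElement


/-- A weak replacement Theorem for metabelian p-groups: let S be a finite p-group whose derived subgroup is abelian and A an abelian subgroup of S of largest possible order. Then the normal closure of A in S contains an abelian subgroup B of the same order as A that is normal in S. -/
theorem result {S : Type*} [Group S] [Finite S] {p : ℕ} [Fact p.Prime]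
    (hS : IsPGroup p S) (hmeta : IsMulCommutative ↥(commutator S))
    (A : Subgroup S) (hA : A ∈ Cfsg.maxAbelianSubgroups S) :
    ∃ B ∈ Cfsg.maxAbelianSubgroups S, B.Normal ∧ B ≤ Subgroup.normalClosure (A : Set S) := by
  haveI : Group.IsNilpotent S := hS.isNilpotent
  obtain ⟨W, hW⟩ : ∃ W, W = Subgroup.normalClosure (A : Set S) := ⟨_, rfl⟩
  haveI hWn : W.Normal := hW ▸ Subgroup.normalClosure_normal
  have hAW : A ≤ W := hW ▸ Subgroup.subset_normalClosure
  rw [← hW]
  have hne : Nonempty {X : Subgroup S // X ∈ Cfsg.maxAbelianSubgroups S ∧ X ≤ W} :=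
    ⟨⟨A, hA, hAW⟩⟩
  obtain ⟨⟨A₁, hA₁, hA₁W⟩, hmax⟩ := Finite.exists_max
    (fun X : {X : Subgroup S // X ∈ Cfsg.maxAbelianSubgroups S ∧ X ≤ W} =>
      Nat.card ((X : Subgroup S) ⊓ commutator S : Subgroup S))
  refine ⟨A₁, hA₁, ?_, hA₁W⟩
  rw [← Subgroup.normalizer_eq_top_iff]
  by_contra hne
  have hTnil : Group.IsNilpotent ↥(⊤ : Subgroup S) := inferInstance
  obtain ⟨g, _, hgN, hgA⟩ := exists_mem_normalizer_not_mem hTnil
    (le_top : Subgroup.normalizer (A₁ : Set S) ≤ ⊤) hne
  have hcjN : cj g (Subgroup.normalizer (A₁ : Set S)) = Subgroup.normalizer (A₁ : Set S) :=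
    mem_normalizer_iff_cj_eq.mp hgN
  have h1 : cj g A₁ ≤ Subgroup.normalizer (A₁ : Set S) := by
    calc cj g A₁ ≤ cj g (Subgroup.normalizer (A₁ : Set S)) := cj_mono g Subgroup.le_normalizer
      _ = _ := hcjN
  have hcomm : ∀ a ∈ A₁, a⁻¹ * (g * a * g⁻¹) ∈ commutator S := by
    intro a _
    have : a⁻¹ * (g * a * g⁻¹) = ⁅a⁻¹, g⁆ := by rw [commutatorElement_def]; group
    rw [this, commutator_def]
    exact Subgroup.commutator_mem_commutator (Subgroup.mem_top _) (Subgroup.mem_top _)
  obtain ⟨A', hA', hA'le, _, hle, hstrict⟩ := replacement_core hA₁ hmeta g h1 hcomm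
  have hA'W : A' ≤ W := by
    apply hA'le.trans
    apply sup_le hA₁W
    calc cj g A₁ ≤ cj g W := cj_mono g hA₁W
      _ = W := mem_normalizer_iff_cj_eq.mp
        ((Subgroup.normalizer_eq_top_iff.mpr hWn) ▸ Subgroup.mem_top g)
  have h2 := hmax ⟨A', hA', hA'W⟩
  simp only at h2
  have h3 : A₁ ⊓ commutator S = A' ⊓ commutator S := eq_of_le_of_card_le' hle h2
  exact hgA (hstrict h3.ge)

end Cfsg.Agent.S3063
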