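import Cfsg.Statements.S3064
import Mathlib
import Cfsg.Agent.Lib.H15.Conj
import Cfsg.Agent.Lib.H15.SylowControl
import Cfsg.Agent.Lib.H18.FrobeniusThm

set_option autoImplicit false
open Cfsg

namespace Cfsg.Agent.S3064

open Cfsg.Agent.Lib.H15
open scoped Pointwise

universe u

section
variable {p : ℕ} [Fact p.Prime]

/-- hypothesis (i) -/
def HypI {G : Type u} [Group G] (S : Sylow p G) (x : G) : Prop :=
  ∀ g : G, g⁻¹ * x * g ∈ S → g⁻¹ * x * g = x

/-- hypothesis (ii) -/
def HypII {G : Type u} [Group G] (p : ℕ) (x : G) : Prop :=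
  ∀ H : Subgroup G, (Nat.card H).Coprime p → (∀ h ∈ H, x * h * x⁻¹ ∈ H) → ∀ h ∈ H, x * h = h * x

theorem isPGroup_zpowers_of_mem {G : Type u} [Group G] (S : Sylow p G) {x : G} (hx : x ∈ S) :
    IsPGroup p (Subgroup.zpowers x) :=
  S.2.to_le ((Subgroup.zpowers_le).mpr hx)

theorem isPGroup_zpowers_conj {G : Type u} [Group G] {x : G} (hx : IsPGroup p (Subgroup.zpowers x)) (g : G) :
    IsPGroup p (Subgroup.zpowers (g⁻¹ * x * g)) := by
  have : Subgroup.zpowers (g⁻¹ * x * g) = cj g⁻¹ (Subgroup.zpowers x) := by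
    unfold cj
    rw [MonoidHom.map_zpowers]
    simp
  rw [this]
  exact hx.map _

/-- two conjugates of `x` lying in a common `p`-subgroup coincide -/
theorem eq_of_mem_pgroup {G : Type u} [Group G] [Finite G] (S : Sylow p G) {x : G} (hx : x ∈ S)
    (hI : HypI S x) {T : Subgroup G} (hT : IsPGroup p T) (hxT : x ∈ T) {g : G}
    (hg : g⁻¹ * x * g ∈ T) : g⁻¹ * x * g = x := by
  obtain ⟨Q, hQ⟩ := hT.exists_le_sylow
  obtain ⟨k, hk⟩ := MulAction.exists_smul_eq G S Q
  have hQ' : (Q : Subgroup G) = cj k (S : Subgroup G) := by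
    rw [← hk]; exact coe_smul_sylow_eq_cj S k
  have h1 : k⁻¹ * x * k ∈ S := by
    have := hQ hxT
    rw [hQ', mem_cj_iff] at this
    exact this
  have h2 : k⁻¹ * x * k = x := hI k h1
  have h3 : (g * k)⁻¹ * x * (g * k) ∈ S := by
    have := hQ hg
    rw [hQ', mem_cj_iff] at this
    have e : (g * k)⁻¹ * x * (g * k) = k⁻¹ * (g⁻¹ * x * g) * k := by group
    rw [e]; exact this
  have h4 := hI (g * k) h3
  have e : g⁻¹ * x * g = k * ((g * k)⁻¹ * x * (g * k)) * k⁻¹ := by group
  rw [e, h4]
  have : x = k * (k⁻¹ * x * k) * k⁻¹ := by group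
  conv_rhs => rw [this]
  rw [h2]

/-- a conjugate of `x` commuting with `x` equals `x` -/
theorem eq_of_commute {G : Type u} [Group G] [Finite G] (S : Sylow p G) {x : G} (hx : x ∈ S)
    (hI : HypI S x) {g : G} (hc : x * (g⁻¹ * x * g) = (g⁻¹ * x * g) * x) : g⁻¹ * x * g = x := by
  have hpx := isPGroup_zpowers_of_mem S hx
  have hpy := isPGroup_zpowers_conj hpx g
  have hT : IsPGroup p (Subgroup.zpowers (g⁻¹ * x * g) ⊔ Subgroup.zpowers x : Subgroup G) := by
    apply IsPGroup.to_sup_of_normal_right' hpy hpx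
    rw [Subgroup.zpowers_le]
    apply Subgroup.centralizer_le_normalizer
    intro z hz
    obtain ⟨n, rfl⟩ := Subgroup.mem_zpowers_iff.mp hz
    have : Commute x (g⁻¹ * x * g) := hc
    exact ((this.zpow_left n).eq)
  exact eq_of_mem_pgroup S hx hI hT (le_sup_right (a := Subgroup.zpowers (g⁻¹ * x * g)) (Subgroup.mem_zpowers x))
    (le_sup_left (b := Subgroup.zpowers x) (Subgroup.mem_zpowers _))

/-- Lemma L': if every `p`-element of `H` is central in `G` and `x` normalizes `H`, then `x`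
centralizes `H` (under hypothesis (ii)). -/
theorem commute_of_pElements_central {G : Type u} [Group G] [Finite G] {x : G} (hII : HypII p x)
    (H : Subgroup G) (hH : ∀ u ∈ H, (∃ k : ℕ, u ^ p ^ k = 1) → u ∈ Subgroup.center G)
    (hxH : ∀ h ∈ H, x * h * x⁻¹ ∈ H) : ∀ h ∈ H, x * h = h * x := by
  have hp : p.Prime := Fact.out
  obtain ⟨P₁⟩ : Nonempty (Sylow p ↥H) := inferInstance
  have hP₁c : ∀ u : ↥H, u ∈ P₁ → (u : G) ∈ Subgroup.center G := by
    intro u hu
    apply hH _ u.2
    obtain ⟨k, hk⟩ := P₁.2 ⟨u, hu⟩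
    refine ⟨k, ?_⟩
    have h1 := congrArg Subtype.val hk
    have h2 := congrArg Subtype.val h1
    simpa using h2
  have hP₁comm : ∀ u : ↥H, u ∈ P₁ → ∀ g : ↥H, g * u = u * g := by
    intro u hu g
    apply Subtype.ext
    have := Subgroup.mem_center_iff.mp (hP₁c u hu) (g : G)
    simpa using this
  have hP₁n : (P₁ : Subgroup ↥H).Normal := by
    constructor
    intro n hn g
    have : g * n * g⁻¹ = n := by
      rw [hP₁comm n hn g]; group
    rw [this]; exact hn
  have hcop : (Nat.card (P₁ : Subgroup ↥H)).Coprime (P₁ : Subgroup ↥H).index := by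
    obtain ⟨n, hn⟩ := IsPGroup.iff_card.mp P₁.2
    rw [hn]
    exact Nat.Coprime.pow_left n ((Nat.Prime.coprime_iff_not_dvd hp).mpr P₁.not_dvd_index)
  obtain ⟨K', hK'⟩ := Subgroup.exists_right_complement'_of_coprime hcop
  have hK'card : (Nat.card K').Coprime p := by
    have h1 : (P₁ : Subgroup ↥H).index = Nat.card K' := hK'.symm.index_eq_card
    rw [← h1]
    exact ((Nat.Prime.coprime_iff_not_dvd hp).mpr P₁.not_dvd_index).symm
  have hdecomp : ∀ h : ↥H, ∃ z ∈ (P₁ : Subgroup ↥H), ∃ k ∈ K', h = z * k := by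
    intro h
    obtain ⟨⟨⟨z, hz⟩, ⟨k, hk⟩⟩, hzk, -⟩ := (Subgroup.isComplement_iff_existsUnique.mp hK') h
    exact ⟨z, hz, k, hk, hzk.symm⟩
  -- p'-elements of H lie in K'
  have hpprime : ∀ h : ↥H, (orderOf h).Coprime p → h ∈ K' := by
    intro h hh
    obtain ⟨z, hz, k, hk, rfl⟩ := hdecomp h
    set m := Nat.card K' with hm
    have hkm : k ^ m = 1 := by
      have h2 : ((⟨k, hk⟩ : ↥K') ^ m : ↥K') = 1 := pow_card_eq_one'
      have h3 : k ^ m = (((⟨k, hk⟩ : ↥K') ^ m : ↥K') : ↥H) := rfl
      rw [h3, h2]; rfl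
    have hzk : Commute z k := (hP₁comm z hz k).symm
    have h1 : (z * k) ^ m = z ^ m := by
      rw [hzk.mul_pow, hkm, mul_one]
    have h2 : orderOf (z ^ m) ∣ orderOf (z * k) := by
      rw [← h1]; exact orderOf_pow_dvd m
    obtain ⟨b, hb⟩ := P₁.2 ⟨z ^ m, Subgroup.pow_mem _ hz m⟩
    have h3 : orderOf (z ^ m) ∣ p ^ b := by
      apply orderOf_dvd_of_pow_eq_one
      have := congrArg Subtype.val hb
      simpa using this
    have h4 : orderOf (z ^ m) = 1 := by
      have h5 : orderOf (z ^ m) ∣ Nat.gcd (orderOf (z * k)) (p ^ b) := Nat.dvd_gcd h2 h3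
      rw [Nat.Coprime.pow_right b hh] at h5
      exact Nat.dvd_one.mp h5
    have h5 : z ^ m = 1 := orderOf_eq_one_iff.mp h4
    obtain ⟨c, hc⟩ := P₁.2 ⟨z, hz⟩
    have h6 : orderOf z ∣ p ^ c := by
      apply orderOf_dvd_of_pow_eq_one
      have := congrArg Subtype.val hc
      simpa using this
    have h7 : orderOf z ∣ m := orderOf_dvd_of_pow_eq_one h5
    have h8 : orderOf z = 1 := by
      have h9 : orderOf z ∣ Nat.gcd m (p ^ c) := Nat.dvd_gcd h7 h6
      rw [Nat.Coprime.pow_right c hK'card] at h9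
      exact Nat.dvd_one.mp h9
    rw [orderOf_eq_one_iff.mp h8, one_mul]
    exact hk
  -- the image of K' in G
  set K : Subgroup G := K'.map H.subtype with hKdef
  have hKcard : (Nat.card K).Coprime p := by
    rw [hKdef, Subgroup.card_map_of_injective H.subtype_injective]
    exact hK'card
  have hxK : ∀ h ∈ K, x * h * x⁻¹ ∈ K := by
    rintro _ ⟨k, hk, rfl⟩
    have hmem : x * (k : G) * x⁻¹ ∈ H := hxH _ k.2
    refine ⟨⟨x * (k : G) * x⁻¹, hmem⟩, ?_, rfl⟩
    apply hpprime
    have h1 : orderOf (⟨x * (k : G) * x⁻¹, hmem⟩ : ↥H) = orderOf k := by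
      rw [← Subgroup.orderOf_coe, ← Subgroup.orderOf_coe]
      have : x * (k : G) * x⁻¹ = MulAut.conj x (k : G) := by simp
      show orderOf (x * (k : G) * x⁻¹) = _
      rw [this]
      exact MulEquiv.orderOf_eq (MulAut.conj x) (k : G)
    rw [h1]
    have h2 : orderOf k ∣ Nat.card K' := by
      have := orderOf_dvd_natCard (⟨k, hk⟩ : ↥K')
      rwa [Subgroup.orderOf_mk] at this
    exact Nat.Coprime.coprime_dvd_left h2 hK'card
  have hcK := hII K hKcard hxK
  intro h hh
  obtain ⟨z, hz, k, hk, hzk⟩ := hdecomp ⟨h, hh⟩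
  have e : h = (z : G) * (k : G) := by
    have := congrArg Subtype.val hzk
    simpa using this
  have hzc : x * (z : G) = (z : G) * x := (Subgroup.mem_center_iff.mp (hP₁c z hz) x)
  have hkc : x * (k : G) = (k : G) * x := hcK _ ⟨k, hk, rfl⟩
  rw [e, ← mul_assoc, hzc, mul_assoc, hkc, mul_assoc]

theorem card_lt_of_ne_top {G : Type u} [Group G] [Finite G] {H : Subgroup G} (h : H ≠ ⊤) :
    Nat.card H < Nat.card G := by
  by_contra hlt
  push Not at hlt
  apply h
  apply eq_of_le_of_card_le' le_top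
  rw [Subgroup.card_top]
  exact hlt

theorem main : ∀ (n : ℕ) {G : Type u} [Group G] [Finite G] (S : Sylow p G) (x : G),
    Nat.card G = n → x ∈ S → HypI S x → HypII p x → x ∈ Subgroup.center G := by
  intro n
  induction n using Nat.strong_induction_on with
  | _ n ih =>
  intro G _ _ S x hn hx hI hII
  by_contra hxZ
  set C := Subgroup.centralizer ({x} : Set G) with hC
  -- (a) proper subgroups containing x lie in C
  have ha : ∀ H : Subgroup G, H ≠ ⊤ → x ∈ H → H ≤ C := by
    intro H hHtop hxH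
    have hlt : Nat.card H < n := by
      rw [← hn]
      exact card_lt_of_ne_top hHtop
    have hpx : IsPGroup p (Subgroup.zpowers (⟨x, hxH⟩ : ↥H)) := by
      have h1 := isPGroup_zpowers_of_mem S hx
      have h2 : (Subgroup.zpowers (⟨x, hxH⟩ : ↥H)).map H.subtype = Subgroup.zpowers x := by
        rw [MonoidHom.map_zpowers]; rfl
      rw [← h2] at h1
      exact h1.of_equiv (Subgroup.equivMapOfInjective _ H.subtype H.subtype_injective).symm
    obtain ⟨SH, hSH⟩ := hpx.exists_le_sylow
    have hxSH : (⟨x, hxH⟩ : ↥H) ∈ SH := hSH (Subgroup.mem_zpowers _)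
    have hIH : HypI SH (⟨x, hxH⟩ : ↥H) := by
      intro g hg
      have hT : IsPGroup p ((SH : Subgroup ↥H).map H.subtype) := SH.2.map _
      have h1 : x ∈ (SH : Subgroup ↥H).map H.subtype := ⟨⟨x, hxH⟩, hxSH, rfl⟩
      have h2 : (g : G)⁻¹ * x * (g : G) ∈ (SH : Subgroup ↥H).map H.subtype := ⟨_, hg, by simp⟩
      have := eq_of_mem_pgroup S hx hI hT h1 h2
      exact Subtype.ext (by simpa using this)
    have hIIH : HypII p (⟨x, hxH⟩ : ↥H) := by
      intro K hK hxK k hk
      have h1 : (Nat.card (K.map H.subtype)).Coprime p := by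
        rw [Subgroup.card_map_of_injective H.subtype_injective]; exact hK
      have h2 : ∀ h ∈ K.map H.subtype, x * h * x⁻¹ ∈ K.map H.subtype := by
        rintro _ ⟨k', hk', rfl⟩
        exact ⟨_, hxK k' hk', by simp⟩
      have := hII (K.map H.subtype) h1 h2 (k : G) ⟨k, hk, rfl⟩
      exact Subtype.ext (by simpa using this)
    have hcen := ih (Nat.card H) hlt SH ⟨x, hxH⟩ rfl hxSH hIH hIIH
    intro h hh
    rw [hC, Subgroup.mem_centralizer_singleton_iff]
    have := Subgroup.mem_center_iff.mp hcen ⟨h, hh⟩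
    exact congrArg Subtype.val this
  -- (b) a conjugate different from x generates G together with x
  have hb : ∀ g : G, g⁻¹ * x * g ≠ x → Subgroup.closure ({x, g⁻¹ * x * g} : Set G) = ⊤ := by
    intro g hg
    by_contra hne
    have hle := ha _ hne (Subgroup.subset_closure (by simp))
    have hy : g⁻¹ * x * g ∈ C := hle (Subgroup.subset_closure (by simp))
    rw [hC, Subgroup.mem_centralizer_singleton_iff] at hy
    exact hg (eq_of_commute S hx hI hy.symm)
  -- (c) the centre is trivial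
  have hZbot : Subgroup.center G = ⊥ := by
    by_contra hZ
    obtain ⟨Z, hZdef⟩ : ∃ Z, Z = Subgroup.center G := ⟨_, rfl⟩
    haveI hZn : Z.Normal := hZdef ▸ inferInstance
    have hZ1 : 1 < Nat.card Z := by
      rw [hZdef]; exact (Subgroup.one_lt_card_iff_ne_bot _).mpr hZ
    have hlt : Nat.card (G ⧸ Z) < n := by
      rw [← hn, ← Subgroup.index_eq_card, ← Subgroup.card_mul_index Z]
      have hpos : 0 < Z.index := Nat.pos_of_ne_zero Subgroup.index_ne_zero_of_finite
      nlinarith
    have hπ : Function.Surjective (QuotientGroup.mk' Z) := QuotientGroup.mk'_surjective Z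
    obtain ⟨S', hS'⟩ : ∃ S' : Sylow p (G ⧸ Z), S' = S.mapSurjective hπ := ⟨_, rfl⟩
    have hS'coe : (S' : Subgroup (G ⧸ Z)) = (S : Subgroup G).map (QuotientGroup.mk' Z) := by
      rw [hS']; rfl
    have hx' : QuotientGroup.mk' Z x ∈ S' := by
      show QuotientGroup.mk' Z x ∈ (S' : Subgroup (G ⧸ Z))
      rw [hS'coe]; exact ⟨x, hx, rfl⟩
    have hI' : HypI S' (QuotientGroup.mk' Z x) := by
      intro g' hg'
      obtain ⟨g, rfl⟩ := hπ g'
      have hg'' : (QuotientGroup.mk' Z g)⁻¹ * QuotientGroup.mk' Z x * QuotientGroup.mk' Z g ∈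
          (S' : Subgroup (G ⧸ Z)) := hg'
      rw [hS'coe] at hg''
      obtain ⟨s, hs, hsg⟩ := hg''
      have h1 : QuotientGroup.mk' Z s = QuotientGroup.mk' Z (g⁻¹ * x * g) := by
        rw [hsg]; simp
      have h2 : s⁻¹ * (g⁻¹ * x * g) ∈ Z := QuotientGroup.eq.mp h1
      have hyN : g⁻¹ * x * g ∈ Subgroup.normalizer ((S : Subgroup G) : Set G) := by
        have e : g⁻¹ * x * g = s * (s⁻¹ * (g⁻¹ * x * g)) := by group
        rw [e]
        apply Subgroup.mul_mem _ (Subgroup.le_normalizer hs)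
        apply Subgroup.centralizer_le_normalizer
        rw [hZdef] at h2
        intro t _
        exact (Subgroup.mem_center_iff.mp h2 t)
      have hpy := isPGroup_zpowers_conj (isPGroup_zpowers_of_mem S hx) g
      have hT : IsPGroup p (Subgroup.zpowers (g⁻¹ * x * g) ⊔ (S : Subgroup G) : Subgroup G) :=
        IsPGroup.to_sup_of_normal_right' hpy S.2 (Subgroup.zpowers_le.mpr hyN)
      have hTS : Subgroup.zpowers (g⁻¹ * x * g) ⊔ (S : Subgroup G) = S :=
        S.is_maximal' hT le_sup_right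
      have hyS : g⁻¹ * x * g ∈ (S : Subgroup G) := by
        rw [← hTS]; exact le_sup_left (b := (S : Subgroup G)) (Subgroup.mem_zpowers _)
      have h3 := hI g hyS
      calc (QuotientGroup.mk' Z g)⁻¹ * QuotientGroup.mk' Z x * QuotientGroup.mk' Z g
          = QuotientGroup.mk' Z (g⁻¹ * x * g) := by simp
        _ = QuotientGroup.mk' Z x := by rw [h3]
    have hII' : HypII p (QuotientGroup.mk' Z x) := by
      intro H' hH' hxH' h' hh'
      have hL := commute_of_pElements_central hII (H'.comap (QuotientGroup.mk' Z)) ?_ ?_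
      · obtain ⟨h, rfl⟩ := hπ h'
        have := hL h hh'
        rw [← map_mul, ← map_mul, this]
      · rintro u hu ⟨k, hk⟩
        have h1 : (QuotientGroup.mk' Z u) ^ p ^ k = 1 := by rw [← map_pow, hk, map_one]
        have h2 : QuotientGroup.mk' Z u ∈ H' := hu
        have h3 : orderOf (QuotientGroup.mk' Z u) ∣ p ^ k := orderOf_dvd_of_pow_eq_one h1
        have h4 : orderOf (QuotientGroup.mk' Z u) ∣ Nat.card H' := Subgroup.orderOf_dvd_natCard H' h2
        have h5 : orderOf (QuotientGroup.mk' Z u) = 1 := by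
          have := Nat.dvd_gcd h4 h3
          rw [Nat.Coprime.pow_right k hH'] at this
          exact Nat.dvd_one.mp this
        have h6 : QuotientGroup.mk' Z u = 1 := orderOf_eq_one_iff.mp h5
        rw [← hZdef]
        exact (QuotientGroup.eq_one_iff u).mp h6
      · intro h hh
        show QuotientGroup.mk' Z (x * h * x⁻¹) ∈ H'
        have := hxH' _ hh
        simpa using this
    have hcen := ih _ hlt S' (QuotientGroup.mk' Z x) rfl hx' hI' hII'
    apply hxZ
    rw [Subgroup.mem_center_iff]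
    intro g
    have h1 : QuotientGroup.mk' Z x = QuotientGroup.mk' Z (g⁻¹ * x * g) := by
      have := Subgroup.mem_center_iff.mp hcen (QuotientGroup.mk' Z g)
      rw [map_mul, map_mul, map_inv, mul_assoc, ← this]
      group
    have h2 : x⁻¹ * (g⁻¹ * x * g) ∈ Z := QuotientGroup.eq.mp h1
    have h3 : x * (g⁻¹ * x * g) = (g⁻¹ * x * g) * x := by
      rw [hZdef] at h2
      have hz := Subgroup.mem_center_iff.mp h2 x
      calc x * (g⁻¹ * x * g) = x * (x * (x⁻¹ * (g⁻¹ * x * g))) := by group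
        _ = x * ((x⁻¹ * (g⁻¹ * x * g)) * x) := by rw [hz]
        _ = (g⁻¹ * x * g) * x := by group
    have h4 := eq_of_commute S hx hI h3
    calc g * x = g * (g⁻¹ * x * g) := by rw [h4]
      _ = x * g := by group
  -- (d) C is a Frobenius complement
  have hC1 : C ≠ ⊥ := by
    intro h
    have : x ∈ C := by rw [hC, Subgroup.mem_centralizer_singleton_iff]
    rw [h, Subgroup.mem_bot] at this
    apply hxZ; rw [this]; exact Subgroup.one_mem _
  have hC2 : C ≠ ⊤ := by
    intro h
    apply hxZ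
    rw [Subgroup.mem_center_iff]
    intro g
    have : g ∈ C := h ▸ Subgroup.mem_top g
    rw [hC, Subgroup.mem_centralizer_singleton_iff] at this
    exact this
  have hFrob : Cfsg.IsFrobeniusComplement C := by
    refine ⟨hC1, hC2, ?_⟩
    intro g hg
    rw [eq_bot_iff]
    intro a ha'
    have haC : a ∈ C := ha'.1
    have haCg : a ∈ MulAut.conj g • C := ha'.2
    rw [Cfsg.Agent.Lib.H1.mem_conj_smul_iff] at haCg
    rw [← hZbot, Subgroup.mem_center_iff]
    have hgx : (g⁻¹)⁻¹ * x * g⁻¹ ≠ x := by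
      intro h
      apply hg
      rw [hC, Subgroup.mem_centralizer_singleton_iff]
      rw [inv_inv] at h
      calc g * x = g * x * g⁻¹ * g := by group
        _ = x * g := by rw [h]
    have hcl := hb g⁻¹ hgx
    have hle : Subgroup.closure ({x, (g⁻¹)⁻¹ * x * g⁻¹} : Set G) ≤ Subgroup.centralizer ({a} : Set G) := by
      rw [Subgroup.closure_le]
      intro y hy
      rcases hy with rfl | hy
      · rw [SetLike.mem_coe, Subgroup.mem_centralizer_singleton_iff]
        rw [hC, Subgroup.mem_centralizer_singleton_iff] at haC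
        exact haC.symm
      · rw [Set.mem_singleton_iff] at hy
        rw [hy, SetLike.mem_coe, Subgroup.mem_centralizer_singleton_iff, inv_inv]
        rw [hC, Subgroup.mem_centralizer_singleton_iff] at haCg
        have e : a = g * (g⁻¹ * a * g) * g⁻¹ := by group
        rw [e]
        calc g * x * g⁻¹ * (g * (g⁻¹ * a * g) * g⁻¹) = g * (x * (g⁻¹ * a * g)) * g⁻¹ := by group
          _ = g * ((g⁻¹ * a * g) * x) * g⁻¹ := by rw [haCg]
          _ = g * (g⁻¹ * a * g) * g⁻¹ * (g * x * g⁻¹) := by group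
    intro t
    have ht : t ∈ Subgroup.centralizer ({a} : Set G) := hle (hcl ▸ Subgroup.mem_top t)
    rw [Subgroup.mem_centralizer_singleton_iff] at ht
    exact ht
  -- the Frobenius kernel
  have hSC : (S : Subgroup G) ≤ C := by
    intro s hs
    rw [hC, Subgroup.mem_centralizer_singleton_iff]
    have h1 : s⁻¹ * x * s ∈ S := S.1.mul_mem (S.1.mul_mem (S.1.inv_mem hs) hx) hs
    have h2 := hI s h1
    calc s * x = s * (s⁻¹ * x * s) := by rw [h2]
      _ = x * s := by group
  obtain ⟨N, hNdef⟩ : ∃ N, N = Cfsg.Agent.Lib.H18.frobKer C hFrob := ⟨_, rfl⟩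
  haveI hNn : N.Normal := hNdef ▸ inferInstance
  have hNcard : Nat.card N = C.index := hNdef ▸ Cfsg.Agent.Lib.H18.card_frobKer C hFrob
  have hNinf : N ⊓ C = ⊥ := hNdef ▸ Cfsg.Agent.Lib.H18.frobKer_inf C hFrob
  have hNcop : (Nat.card N).Coprime p := by
    rw [hNcard]
    have hp : p.Prime := Fact.out
    rw [Nat.coprime_comm, Nat.Prime.coprime_iff_not_dvd hp]
    intro hdvd
    exact S.not_dvd_index (hdvd.trans (Subgroup.index_dvd_of_le hSC))
  have hNC : N ≤ C := by
    intro a ha'
    rw [hC, Subgroup.mem_centralizer_singleton_iff]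
    exact (hII N hNcop (fun h hh => hNn.conj_mem h hh x) a ha').symm
  have hN1 : N = ⊥ := by
    rw [← hNinf]; exact (inf_eq_left.mpr hNC).symm
  rw [hN1, Subgroup.card_bot] at hNcard
  exact hC2 (Subgroup.index_eq_one.mp hNcard.symm)

end

/-- Let S be a Sylow p-subgroup of the finite group G and x an element of S such that (i) x is the only G-conjugate of x lying in S, and (ii) x centralizes every subgroup of order prime to p that it normalizes. Then x lies in the centre of G. -/
theorem result {G : Type*} [Group G] [Finite G] {p : ℕ} [Fact p.Prime]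
    (S : Sylow p G) (x : G) (hx : x ∈ S)
    (hU : ∀ g : G, g⁻¹ * x * g ∈ S → g⁻¹ * x * g = x)
    (hb : ∀ H : Subgroup G, (Nat.card H).Coprime p → (∀ h ∈ H, x * h * x⁻¹ ∈ H) → ∀ h ∈ H, x * h = h * x) :
    x ∈ Subgroup.center G := by
  exact main _ S x rfl hx hU hb

end Cfsg.Agent.S3064
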