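import Cfsg.Statements.S3073
import Cfsg.Agent.S1988
import Cfsg.Agent.Lib.H10.PGroup
import Cfsg.Agent.Lib.H10.KInfFunctor
import Cfsg.Agent.Lib.L0.NPCBasic
-- import your own Cfsg.Agent.* helpers here

set_option autoImplicit false
universe u
open Cfsg

namespace Cfsg.Agent.S3073

open Cfsg.Agent.Lib Cfsg.Agent.Lib.H10

/-- The lower K-infinity subgroup of a finite `p`-group contains its centralizer. -/
theorem centralizer_kInfLower_le (p : ℕ) [Fact p.Prime] (S : Type u) [Group S] [Finite S]
    (hS : IsPGroup p S) :
    Subgroup.centralizer ((Cfsg.kInfLower S : Subgroup S) : Set S) ≤ Cfsg.kInfLower S := by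
  obtain ⟨C, hCn, -, hC⟩ := exists_scn hS (⊤ : Subgroup S) (⊥ : Subgroup S) bot_le
    (by infer_instance)
  have hCC : Subgroup.centralizer ((C : Subgroup S) : Set S) = C := by
    have := hC.2.2
    rwa [top_inf_eq] at this
  have hCcomm : ⁅C, C⁆ = ⊥ := by
    rw [Subgroup.commutator_eq_bot_iff_le_centralizer, hCC]
  have hmem : C ∈ Cfsg.kLowerStarFamily (⊤ : Subgroup S) := by
    refine ⟨?_, ?_, ?_⟩
    · show ⁅C, C⁆ ≤ Subgroup.centralizer ((C : Subgroup S) : Set S)
      rw [hCcomm]; exact bot_le
    · rw [Subgroup.normalizer_eq_top]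
    · intro A _ _ _ _ _
      rw [hCC, inf_idem]
      exact Subgroup.commutator_le_left C A
  have h1 : C ≤ Cfsg.kInfLower S := by
    have h2 : C ≤ Cfsg.kSeqEven S 0 := by
      show C ≤ sSup (Cfsg.kLowerStarFamily (Cfsg.kSeqOdd S 0))
      exact le_sSup hmem
    exact h2.trans (le_iSup (fun n => Cfsg.kSeqEven S n) 0)
  calc Subgroup.centralizer ((Cfsg.kInfLower S : Subgroup S) : Set S)
      ≤ Subgroup.centralizer ((C : Subgroup S) : Set S) := Subgroup.centralizer_le h1
    _ = C := hCC
    _ ≤ _ := h1



/-- For an odd prime p, every finite p-group S has a characteristic subgroup K with C_S(K) ≤ K such that, whenever S is (isomorphic to) a Sylow p-subgroup of a finite group G, G has a normal p-complement if and only if N_G(K)/C_G(K) is a p-group, i.e. every element of N_G(K) of order prime to p centralizes K (K transported into G along the isomorphism). -/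
theorem result (p : ℕ) [Fact p.Prime] (hp : p ≠ 2)
    (S : Type u) [Group S] [Finite S] (hS : IsPGroup p S) :
    ∃ K : Subgroup S, K.Characteristic ∧ Subgroup.centralizer (K : Set S) ≤ K ∧
      ∀ (G : Type u) [Group G] [Finite G] (P : Sylow p G) (e : ↥(P : Subgroup G) ≃* S),
        Cfsg.HasNormalPComplement p G ↔
          ∀ g ∈ Subgroup.normalizer (((K.comap (e : ↥(P : Subgroup G) →* S)).map (P : Subgroup G).subtype : Subgroup G) : Set G),
            (orderOf g).Coprime p →
              g ∈ Subgroup.centralizer (((K.comap (e : ↥(P : Subgroup G) →* S)).map (P : Subgroup G).subtype : Subgroup G) : Set G) := by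
  have hW := isCharPFunctor_kInfLower.{u} p
  refine ⟨Cfsg.kInfLower S, ?_, centralizer_kInfLower_le p S hS, ?_⟩
  · rw [Subgroup.characteristic_iff_map_eq]
    intro φ
    exact hW.2 S S hS φ
  · intro G _ _ P e
    have hP : IsPGroup p (P : Subgroup G) := P.2
    have hmap : (Cfsg.kInfLower ↥(P : Subgroup G)).map e.toMonoidHom = Cfsg.kInfLower S :=
      hW.2 _ S hP e
    have hcomap : (Cfsg.kInfLower S).comap (e : ↥(P : Subgroup G) →* S) =
        Cfsg.kInfLower ↥(P : Subgroup G) := by
      rw [← hmap]
      exact Subgroup.comap_map_eq_self_of_injective e.injective _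
    have hK : ((Cfsg.kInfLower S).comap (e : ↥(P : Subgroup G) →* S)).map
        (P : Subgroup G).subtype = Cfsg.inducedFunctor Cfsg.kInfLower (P : Subgroup G) := by
      rw [hcomap]; rfl
    rw [hK]
    constructor
    · intro hnpc g hg hcop
      set K' := Cfsg.inducedFunctor Cfsg.kInfLower (P : Subgroup G) with hK'
      have hK'P : K' ≤ (P : Subgroup G) := by
        rw [hK']
        exact Subgroup.map_subtype_le _
      have hK'p : IsPGroup p K' := hP.to_le hK'P
      have hN : Cfsg.HasNormalPComplement p ↥(Subgroup.normalizer ((K' : Subgroup G) : Set G)) :=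
        L0.HasNormalPComplement.of_injective (Subgroup.subtype _) (Subgroup.subtype_injective _) hnpc
      have hnorm : (K'.subgroupOf (Subgroup.normalizer ((K' : Subgroup G) : Set G))).Normal :=
        Subgroup.normal_in_normalizer
      have hpg : IsPGroup p (K'.subgroupOf (Subgroup.normalizer ((K' : Subgroup G) : Set G))) :=
        hK'p.comap_of_injective _ (Subgroup.subtype_injective _)
      have hord : orderOf (⟨g, hg⟩ : Subgroup.normalizer ((K' : Subgroup G) : Set G)) = orderOf g :=
        Subgroup.orderOf_mk g hg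
      have := L0.HasNormalPComplement.mem_centralizer hN _ hpg ⟨g, hg⟩ (by rw [hord]; exact hcop)
      rw [Subgroup.mem_centralizer_iff] at this ⊢
      intro x hx
      have hxN : x ∈ Subgroup.normalizer ((K' : Subgroup G) : Set G) := Subgroup.le_normalizer hx
      have := this ⟨x, hxN⟩ (by
        show (⟨x, hxN⟩ : Subgroup.normalizer ((K' : Subgroup G) : Set G)) ∈ K'.subgroupOf _
        rw [Subgroup.mem_subgroupOf]; exact hx)
      exact congrArg Subtype.val this
    · intro h
      exact Cfsg.Agent.S1988.result hp P (Or.inr h)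


end Cfsg.Agent.S3073
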