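import Cfsg.Statements.S3075
import Mathlib

set_option autoImplicit false
open Cfsg

namespace Cfsg.Agent.S3075

section GroupPart

variable {N : Type*} [Group N]

theorem conj_pow_of_conj_eq_pow {n a : N} {k : ℕ} (h : n * a * n⁻¹ = a ^ k) (j : ℕ) :
    n ^ j * a * (n ^ j)⁻¹ = a ^ (k ^ j) := by
  induction j with
  | zero => simp
  | succ j ih =>
    have e : n ^ (j + 1) * a * (n ^ (j + 1))⁻¹ = n * (n ^ j * a * (n ^ j)⁻¹) * n⁻¹ := by
      rw [pow_succ']; group
    rw [e, ih]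
    have e2 : n * a ^ (k ^ j) * n⁻¹ = (n * a * n⁻¹) ^ (k ^ j) := by
      have := map_pow (MulAut.conj n) a (k ^ j)
      simpa using this
    rw [e2, h, ← pow_mul, pow_succ, mul_comm]

/-- An element normalizing a subgroup `Y` of prime order `p`, whose `p`-th power centralizes `Y`,
centralizes `Y`. -/
theorem commute_of_card_prime [Finite N] {p : ℕ} [Fact p.Prime] (Y : Subgroup N) (hY : Nat.card Y = p)
    (n : N) (hn : ∀ y ∈ Y, n * y * n⁻¹ ∈ Y) (hnp : ∀ y ∈ Y, n ^ p * y = y * n ^ p) :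
    ∀ y ∈ Y, n * y = y * n := by
  have hp : p.Prime := Fact.out
  haveI : Finite Y := Nat.finite_of_card_ne_zero (hY ▸ hp.ne_zero)
  have hnt : Nontrivial Y := Finite.one_lt_card_iff_nontrivial.mp (hY ▸ hp.one_lt)
  obtain ⟨a, ha1⟩ := exists_ne (1 : Y)
  have hgen : Subgroup.zpowers a = ⊤ := zpowers_eq_top_of_prime_card hY ha1
  have hord : orderOf (a : N) = p := by
    rw [Subgroup.orderOf_coe]
    have := orderOf_eq_card_of_zpowers_eq_top hgen
    rw [this, hY]
  have hmem : ∀ y ∈ Y, y ∈ Subgroup.zpowers (a : N) := by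
    intro y hy
    have h1 : (⟨y, hy⟩ : Y) ∈ Subgroup.zpowers a := hgen ▸ Subgroup.mem_top _
    obtain ⟨k, hk⟩ := Subgroup.mem_zpowers_iff.mp h1
    rw [Subgroup.mem_zpowers_iff]
    refine ⟨k, ?_⟩
    have := congrArg Subtype.val hk
    simpa using this
  have h1 : n * (a : N) * n⁻¹ ∈ Subgroup.zpowers (a : N) := hmem _ (hn _ a.2)
  have h2 : n * (a : N) * n⁻¹ ∈ Submonoid.powers (a : N) := by
    rw [mem_powers_iff_mem_zpowers]; exact h1
  obtain ⟨k, hk⟩ := (Submonoid.mem_powers_iff _ _).mp h2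
  have h3 := conj_pow_of_conj_eq_pow hk.symm p
  have h4 : n ^ p * (a : N) * (n ^ p)⁻¹ = (a : N) := by
    rw [hnp _ a.2]; group
  rw [h4] at h3
  have h5 : (a : N) ^ 1 = (a : N) ^ (k ^ p) := by rw [pow_one]; exact h3
  rw [pow_eq_pow_iff_modEq, hord] at h5
  have h6 : ((k ^ p : ℕ) : ZMod p) = 1 := by
    have := (ZMod.natCast_eq_natCast_iff _ _ p).mpr h5
    simpa using this.symm
  have h7 : (k : ZMod p) = 1 := by
    rw [Nat.cast_pow, ZMod.pow_card] at h6
    exact h6
  have h8 : k ≡ 1 [MOD p] := by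
    rw [← ZMod.natCast_eq_natCast_iff]
    simpa using h7
  have h9 : (a : N) ^ k = (a : N) ^ 1 := by
    rw [pow_eq_pow_iff_modEq, hord]; exact h8
  rw [pow_one] at h9
  have hna : n * (a : N) = (a : N) * n := by
    have : n * (a : N) * n⁻¹ = (a : N) := by rw [← hk, h9]
    calc n * (a : N) = n * (a : N) * n⁻¹ * n := by group
      _ = (a : N) * n := by rw [this]
  intro y hy
  obtain ⟨j, rfl⟩ := Subgroup.mem_zpowers_iff.mp (hmem y hy)
  have : Commute n (a : N) := hna
  exact (this.zpow_right j).eq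

theorem card_eq_prime_of_ne {H : Type*} [Group H] [Finite H] {p : ℕ} (hp : p.Prime) (A C : Subgroup H)
    (hAcard : Nat.card A = p ^ 2) (hCA : C ≤ A) (hC1 : C ≠ ⊥) (hC2 : C ≠ A) : Nat.card C = p := by
  have h1 : Nat.card C ∣ p ^ 2 := hAcard ▸ Subgroup.card_dvd_of_le hCA
  obtain ⟨j, hj, hjc⟩ := (Nat.dvd_prime_pow hp).mp h1
  interval_cases j
  · exfalso
    apply hC1
    rw [pow_zero] at hjc
    exact Subgroup.card_eq_one.mp hjc
  · rw [hjc, pow_one]
  · exfalso
    apply hC2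
    exact Subgroup.eq_of_le_of_card_ge hCA (by rw [hjc, hAcard])

theorem split_of_central_involution [Finite N] {p : ℕ} [Fact p.Prime] (hp : p ≠ 2)
    (A : Subgroup N) [hAn : A.Normal] (hAc : ∀ a ∈ A, ∀ b ∈ A, a * b = b * a)
    (hAcard : Nat.card A = p ^ 2) (hAself : Subgroup.centralizer (A : Set N) = A)
    (t : N) (ht2 : t * t = 1) (htA : t ∉ A) (htc : ∀ n : N, t⁻¹ * (n * t * n⁻¹) ∈ A)
    (n₀ : N) (hn₀ : n₀ ∉ A) (hn₀p : n₀ ^ p ∈ A) :
    ∃ U : Subgroup N, A ⊓ U = ⊥ ∧ A ⊔ U = ⊤ := by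
  have hpp : p.Prime := Fact.out
  have hodd : Odd p := hpp.odd_of_ne_two hp
  have htinv : t⁻¹ = t := inv_eq_of_mul_eq_one_right ht2
  -- elements of A with trivial square are trivial
  have hsq : ∀ a ∈ A, a * a = 1 → a = 1 := by
    intro a ha h
    have h1 : orderOf a ∣ 2 := orderOf_dvd_of_pow_eq_one (by rw [pow_two]; exact h)
    have h2 : orderOf a ∣ p ^ 2 := hAcard ▸ Subgroup.orderOf_dvd_natCard A ha
    have h3 : Nat.Coprime 2 (p ^ 2) :=
      Nat.Coprime.pow_right 2 ((Nat.coprime_primes Nat.prime_two hpp).mpr (Ne.symm hp))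
    have h4 := Nat.dvd_gcd h1 h2
    rw [h3] at h4
    exact orderOf_eq_one_iff.mp (Nat.dvd_one.mp h4)
  -- conjugates of t
  have hconj : ∀ n : N, ∃ a' ∈ A, n⁻¹ * t * n = t * a' := by
    intro n
    refine ⟨t⁻¹ * (n⁻¹ * t * n), ?_, by group⟩
    have := htc n⁻¹
    rwa [inv_inv] at this
  obtain ⟨C, hCdef⟩ : ∃ C, C = A ⊓ Subgroup.centralizer ({t} : Set N) := ⟨_, rfl⟩
  have hCA : C ≤ A := hCdef ▸ inf_le_left
  have hCt : ∀ c ∈ C, c * t = t * c := by
    intro c hc
    rw [hCdef] at hc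
    exact Subgroup.mem_centralizer_singleton_iff.mp hc.2
  have hCmem : ∀ c ∈ A, c * t = t * c → c ∈ C := by
    intro c hc h
    rw [hCdef]
    exact Subgroup.mem_inf.mpr ⟨hc, Subgroup.mem_centralizer_singleton_iff.mpr h⟩
  have hCN : ∀ n : N, ∀ c ∈ C, n * c * n⁻¹ ∈ C := by
    intro n c hc
    apply hCmem _ (hAn.conj_mem c (hCA hc) n)
    obtain ⟨a', ha', hna⟩ := hconj n
    have h1 : c * (t * a') = (t * a') * c := by
      rw [← mul_assoc, hCt c hc, mul_assoc, hAc c (hCA hc) a' ha', ← mul_assoc]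
    calc n * c * n⁻¹ * t = n * (c * (n⁻¹ * t * n)) * n⁻¹ := by group
      _ = n * ((n⁻¹ * t * n) * c) * n⁻¹ := by rw [hna, h1]
      _ = t * (n * c * n⁻¹) := by group
  -- the inverted elements
  let A₂ : Subgroup N :=
    { carrier := {a | a ∈ A ∧ t * a * t⁻¹ = a⁻¹}
      mul_mem' := by
        rintro a b ⟨ha, hat⟩ ⟨hb, hbt⟩
        refine ⟨A.mul_mem ha hb, ?_⟩
        have : t * (a * b) * t⁻¹ = (t * a * t⁻¹) * (t * b * t⁻¹) := by group
        rw [this, hat, hbt, mul_inv_rev]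
        exact hAc _ (A.inv_mem ha) _ (A.inv_mem hb)
      one_mem' := ⟨A.one_mem, by simp⟩
      inv_mem' := by
        rintro a ⟨ha, hat⟩
        refine ⟨A.inv_mem ha, ?_⟩
        have : t * a⁻¹ * t⁻¹ = (t * a * t⁻¹)⁻¹ := by group
        rw [this, hat] }
  have hA₂A : A₂ ≤ A := fun a ha => ha.1
  have hA₂t : ∀ a ∈ A₂, t * a * t⁻¹ = a⁻¹ := fun a ha => ha.2
  have hA₂N : ∀ n : N, ∀ a ∈ A₂, n * a * n⁻¹ ∈ A₂ := by
    intro n a ha
    refine ⟨hAn.conj_mem a (hA₂A ha) n, ?_⟩
    obtain ⟨a', ha', hna⟩ := hconj n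
    have h1 : (t * a') * a * (t * a')⁻¹ = t * a * t⁻¹ := by
      have : (t * a') * a * (t * a')⁻¹ = t * (a' * a * a'⁻¹) * t⁻¹ := by group
      rw [this, hAc a' ha' a (hA₂A ha)]
      group
    calc t * (n * a * n⁻¹) * t⁻¹ = n * ((n⁻¹ * t * n) * a * (n⁻¹ * t * n)⁻¹) * n⁻¹ := by group
      _ = n * (t * a * t⁻¹) * n⁻¹ := by rw [hna, h1]
      _ = (n * a * n⁻¹)⁻¹ := by rw [hA₂t a ha]; group
  -- decomposition of squares
  have hts : ∀ a : N, t * (t * a * t⁻¹) * t⁻¹ = a := by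
    intro a
    have : t * (t * a * t⁻¹) * t⁻¹ = (t * t) * a * (t * t)⁻¹ := by group
    rw [this, ht2]; simp
  have hdec1 : ∀ a ∈ A, a * (t * a * t⁻¹) ∈ C := by
    intro a ha
    have hta : t * a * t⁻¹ ∈ A := hAn.conj_mem a ha t
    apply hCmem _ (A.mul_mem ha hta)
    have h1 : t * (a * (t * a * t⁻¹)) * t⁻¹ = a * (t * a * t⁻¹) := by
      have : t * (a * (t * a * t⁻¹)) * t⁻¹ = (t * a * t⁻¹) * (t * (t * a * t⁻¹) * t⁻¹) := by group
      rw [this, hts a]
      exact hAc _ hta a ha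
    calc a * (t * a * t⁻¹) * t = (t * (a * (t * a * t⁻¹)) * t⁻¹) * t := by rw [h1]
      _ = t * (a * (t * a * t⁻¹)) := by group
  have hdec2 : ∀ a ∈ A, a * (t * a * t⁻¹)⁻¹ ∈ A₂ := by
    intro a ha
    have hta : t * a * t⁻¹ ∈ A := hAn.conj_mem a ha t
    refine ⟨A.mul_mem ha (A.inv_mem hta), ?_⟩
    have : t * (a * (t * a * t⁻¹)⁻¹) * t⁻¹ = (t * a * t⁻¹) * (t * (t * a * t⁻¹) * t⁻¹)⁻¹ := by group
    rw [this, hts a, mul_inv_rev, inv_inv]
  have hCbot : C = ⊥ := by
    by_contra hC1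
    have hC2 : C ≠ A := by
      intro h
      apply htA
      rw [← hAself, Subgroup.mem_centralizer_iff]
      intro a ha
      exact hCt a (h ▸ ha)
    have hCcard : Nat.card C = p := card_eq_prime_of_ne hpp A C hAcard hCA hC1 hC2
    have hA₂1 : A₂ ≠ ⊥ := by
      intro h
      apply hC2
      apply le_antisymm hCA
      intro a ha
      have h1 := hdec2 a ha
      rw [h, Subgroup.mem_bot] at h1
      have h2 : t * a * t⁻¹ = a := by
        have : a = (a * (t * a * t⁻¹)⁻¹) * (t * a * t⁻¹) := by group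
        rw [h1, one_mul] at this
        exact this.symm
      apply hCmem a ha
      calc a * t = (t * a * t⁻¹)⁻¹⁻¹ * t := by rw [inv_inv, h2]
        _ = t * a := by group
    have hA₂2 : A₂ ≠ A := by
      intro h
      apply hC1
      rw [eq_bot_iff]
      intro c hc
      have h1 : c ∈ A₂ := h ▸ hCA hc
      have h2 := hA₂t c h1
      have h3 : t * c * t⁻¹ = c := by rw [← hCt c hc]; group
      rw [h3] at h2
      rw [Subgroup.mem_bot]
      apply hsq c (hCA hc)
      calc c * c = c * c⁻¹ := by rw [← h2]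
        _ = 1 := mul_inv_cancel c
    have hA₂card : Nat.card A₂ = p := card_eq_prime_of_ne hpp A A₂ hAcard hA₂A hA₂1 hA₂2
    have hnpA : ∀ a ∈ A, n₀ ^ p * a = a * n₀ ^ p := fun a ha => hAc _ hn₀p a ha
    have hcC := commute_of_card_prime C hCcard n₀ (hCN n₀) (fun y hy => hnpA y (hCA hy))
    have hcA₂ := commute_of_card_prime A₂ hA₂card n₀ (hA₂N n₀) (fun y hy => hnpA y (hA₂A hy))
    apply hn₀
    rw [← hAself, Subgroup.mem_centralizer_iff]
    intro a ha
    -- n₀ commutes with a * a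
    have hsq2 : a * a = (a * (t * a * t⁻¹)) * (a * (t * a * t⁻¹)⁻¹) := by
      have hta : t * a * t⁻¹ ∈ A := hAn.conj_mem a ha t
      calc a * a = a * (a * ((t * a * t⁻¹) * (t * a * t⁻¹)⁻¹)) := by group
        _ = a * ((t * a * t⁻¹) * a * (t * a * t⁻¹)⁻¹) := by
            rw [← mul_assoc a (t * a * t⁻¹), hAc a ha _ hta]
        _ = _ := by group
    have hcomm2 : Commute n₀ (a * a) := by
      rw [hsq2]
      exact Commute.mul_right (hcC _ (hdec1 a ha)) (hcA₂ _ (hdec2 a ha))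
    have hapow : a ^ (p ^ 2) = 1 := by
      have h1 : orderOf a ∣ p ^ 2 := hAcard ▸ Subgroup.orderOf_dvd_natCard A ha
      exact orderOf_dvd_iff_pow_eq_one.mp h1
    obtain ⟨m, hm⟩ := hodd.pow (n := 2)
    have ha_eq : a = (a * a) ^ (m + 1) := by
      rw [← pow_two, ← pow_mul]
      have : 2 * (m + 1) = p ^ 2 + 1 := by omega
      rw [this, pow_succ, hapow, one_mul]
    have : Commute n₀ a := by
      rw [ha_eq]; exact hcomm2.pow_right _
    exact this.eq.symm
  refine ⟨Subgroup.centralizer ({t} : Set N), ?_, ?_⟩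
  · rw [← hCdef]; exact hCbot
  · rw [eq_top_iff]
    intro n _
    -- the map a ↦ t⁻¹ a⁻¹ t a on A
    have hfmem : ∀ a : A, t⁻¹ * (a : N)⁻¹ * t * (a : N) ∈ A := by
      intro a
      have h1 : t⁻¹ * (a : N)⁻¹ * t ∈ A := by
        have := hAn.conj_mem _ (A.inv_mem a.2) t⁻¹
        simpa using this
      exact A.mul_mem h1 a.2
    let f : A → A := fun a => ⟨t⁻¹ * (a : N)⁻¹ * t * (a : N), hfmem a⟩
    have hfinj : Function.Injective f := by
      intro a b hab
      have h1 : t⁻¹ * (a : N)⁻¹ * t * (a : N) = t⁻¹ * (b : N)⁻¹ * t * (b : N) :=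
        congrArg Subtype.val hab
      have h2 : ((b : N) * (a : N)⁻¹) * t = t * ((b : N) * (a : N)⁻¹) := by
        have h3 : (a : N)⁻¹ * t * (a : N) = (b : N)⁻¹ * t * (b : N) := by
          have := congrArg (fun x => t * x) h1
          simpa [mul_assoc] using this
        calc ((b : N) * (a : N)⁻¹) * t = (b : N) * ((a : N)⁻¹ * t * (a : N)) * (a : N)⁻¹ := by group
          _ = (b : N) * ((b : N)⁻¹ * t * (b : N)) * (a : N)⁻¹ := by rw [h3]
          _ = t * ((b : N) * (a : N)⁻¹) := by group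
      have h4 : (b : N) * (a : N)⁻¹ ∈ C := hCmem _ (A.mul_mem b.2 (A.inv_mem a.2)) h2
      rw [hCbot, Subgroup.mem_bot] at h4
      apply Subtype.ext
      have : (b : N) = (a : N) := by
        calc (b : N) = ((b : N) * (a : N)⁻¹) * (a : N) := by group
          _ = (a : N) := by rw [h4, one_mul]
      exact this.symm
    have hfsurj : Function.Surjective f := Finite.injective_iff_surjective.mp hfinj
    obtain ⟨a, ha⟩ := hfsurj ⟨t⁻¹ * (n * t * n⁻¹), htc n⟩
    have h1 : t⁻¹ * (a : N)⁻¹ * t * (a : N) = t⁻¹ * (n * t * n⁻¹) := congrArg Subtype.val ha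
    have h2 : (a : N)⁻¹ * t * (a : N) = n * t * n⁻¹ := by
      have := congrArg (fun x => t * x) h1
      simpa [mul_assoc] using this
    have h3 : (a : N) * n ∈ Subgroup.centralizer ({t} : Set N) := by
      rw [Subgroup.mem_centralizer_singleton_iff]
      calc (a : N) * n * t = (a : N) * (n * t * n⁻¹) * n := by group
        _ = (a : N) * ((a : N)⁻¹ * t * (a : N)) * n := by rw [h2]
        _ = t * ((a : N) * n) := by group
    have : n = (a : N)⁻¹ * ((a : N) * n) := by group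
    rw [this]
    exact Subgroup.mul_mem_sup (A.inv_mem a.2) h3

end GroupPart

section MatrixPart

open Matrix

variable {F : Type*} [Field F]

/-- the central element `-1` of `SL₂(F)`. -/
def mneg (F : Type*) [Field F] : Matrix.SpecialLinearGroup (Fin 2) F :=
  ⟨!![-1, 0; 0, -1], by simp [Matrix.det_fin_two_of]⟩

/-- the transvection. -/
def mu (F : Type*) [Field F] : Matrix.SpecialLinearGroup (Fin 2) F :=
  ⟨!![1, 1; 0, 1], by simp [Matrix.det_fin_two_of]⟩

theorem mneg_val : ((mneg F : Matrix.SpecialLinearGroup (Fin 2) F) : Matrix (Fin 2) (Fin 2) F) = -1 := by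
  ext i j
  fin_cases i <;> fin_cases j <;> simp [mneg]

theorem mneg_mul_self : mneg F * mneg F = 1 := by
  apply Matrix.SpecialLinearGroup.ext
  intro i j
  rw [Matrix.SpecialLinearGroup.coe_mul, mneg_val]
  simp

theorem mneg_comm (g : Matrix.SpecialLinearGroup (Fin 2) F) : g * mneg F = mneg F * g := by
  apply Matrix.SpecialLinearGroup.ext
  intro i j
  rw [Matrix.SpecialLinearGroup.coe_mul, Matrix.SpecialLinearGroup.coe_mul, mneg_val]
  simp

theorem mneg_ne_one (h2 : (2 : F) ≠ 0) : mneg F ≠ 1 := by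
  intro h
  have h1 := congrArg (fun m : Matrix.SpecialLinearGroup (Fin 2) F => (m : Matrix (Fin 2) (Fin 2) F) 0 0) h
  simp [mneg] at h1
  apply h2
  have : (2 : F) = 1 - (-1) := by ring
  rw [this, h1]; ring

theorem mu_pow (k : ℕ) :
    ((mu F ^ k : Matrix.SpecialLinearGroup (Fin 2) F) : Matrix (Fin 2) (Fin 2) F) = !![1, (k : F); 0, 1] := by
  induction k with
  | zero =>
    ext i j
    fin_cases i <;> fin_cases j <;> simp
  | succ k ih =>
    rw [pow_succ, Matrix.SpecialLinearGroup.coe_mul, ih]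
    ext i j
    fin_cases i <;> fin_cases j <;> simp [mu, Matrix.mul_apply, Fin.sum_univ_two, add_comm]

theorem mu_ne_one : mu F ≠ 1 := by
  intro h
  have h1 := congrArg (fun m : Matrix.SpecialLinearGroup (Fin 2) F => (m : Matrix (Fin 2) (Fin 2) F) 0 1) h
  simp [mu] at h1

theorem mu_pow_eq_one {p : ℕ} (hp : (p : F) = 0) : mu F ^ p = 1 := by
  apply Matrix.SpecialLinearGroup.ext
  intro i j
  rw [mu_pow, hp]
  fin_cases i <;> fin_cases j <;> simp

end MatrixPart

/-- Let p be an odd prime and N a finite group with a normal elementary abelian subgroup A of order p² that is its own centralizer in N, such that N/A is isomorphic to SL₂(p) (over any field F with p elements). Then N splits over A: some subgroup U of N satisfies A ∩ U = 1 and AU = N. -/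
theorem result {N : Type*} [Group N] [Finite N] {p : ℕ} [Fact p.Prime] (hp : p ≠ 2)
    (A : Subgroup N) [A.Normal] (hAcomm : IsMulCommutative A) (hAcard : Nat.card A = p ^ 2) (hAexp : Monoid.exponent ↥A = p)
    (hAself : Subgroup.centralizer (A : Set N) = A)
    {F : Type*} [Field F] [Fintype F] (hF : Fintype.card F = p) (e : N ⧸ A ≃* Matrix.SpecialLinearGroup (Fin 2) F) :
    ∃ U : Subgroup N, A ⊓ U = ⊥ ∧ A ⊔ U = ⊤ := by
  have hpp : p.Prime := Fact.out
  have hodd : Odd p := hpp.odd_of_ne_two hp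
  have hAc : ∀ a ∈ A, ∀ b ∈ A, a * b = b * a := fun a ha b hb =>
    congrArg Subtype.val (hAcomm.is_comm.comm ⟨a, ha⟩ ⟨b, hb⟩)
  have hAp : ∀ a ∈ A, a ^ p = 1 := by
    intro a ha
    have h1 := Monoid.pow_exponent_eq_one (⟨a, ha⟩ : A)
    rw [hAexp] at h1
    have h2 := congrArg Subtype.val h1
    simpa using h2
  have hpF : (p : F) = 0 := by
    rw [← hF]; exact Nat.cast_card_eq_zero F
  have h2F : (2 : F) ≠ 0 := by
    intro h
    have h1 : addOrderOf (1 : F) ∣ 2 := by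
      apply addOrderOf_dvd_of_nsmul_eq_zero
      rw [nsmul_eq_mul, mul_one]; exact_mod_cast h
    have h3 : addOrderOf (1 : F) ∣ p := by
      rw [← hF]; exact addOrderOf_dvd_card
    have h4 : Nat.Coprime 2 p := (Nat.coprime_primes Nat.prime_two hpp).mpr (Ne.symm hp)
    have h5 := Nat.dvd_gcd h1 h3
    rw [h4] at h5
    have h6 : addOrderOf (1 : F) = 1 := Nat.dvd_one.mp h5
    rw [AddMonoid.addOrderOf_eq_one_iff] at h6
    exact one_ne_zero h6
  obtain ⟨t₀, ht₀⟩ := QuotientGroup.mk'_surjective A (e.symm (mneg F))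
  obtain ⟨n₀, hn₀⟩ := QuotientGroup.mk'_surjective A (e.symm (mu F))
  have hmemA : ∀ x : N, x ∈ A ↔ QuotientGroup.mk' A x = 1 := fun x =>
    (QuotientGroup.eq_one_iff x).symm
  -- the involution
  have ht₀sq : t₀ * t₀ ∈ A := by
    rw [hmemA, map_mul, ht₀, ← map_mul, mneg_mul_self, map_one]
  have htt : t₀ ^ p * t₀ ^ p = 1 := by
    have : t₀ ^ p * t₀ ^ p = (t₀ * t₀) ^ p := by
      rw [← pow_add, ← two_mul, pow_mul, pow_two]
    rw [this]
    exact hAp _ ht₀sq
  have hnegpow : mneg F ^ p = mneg F := by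
    obtain ⟨k, hk⟩ := hodd
    rw [hk, pow_succ, pow_mul, pow_two, mneg_mul_self, one_pow, one_mul]
  have hmkt : QuotientGroup.mk' A (t₀ ^ p) = e.symm (mneg F) := by
    rw [map_pow, ht₀, ← map_pow, hnegpow]
  have htA : t₀ ^ p ∉ A := by
    rw [hmemA, hmkt]
    intro h
    apply mneg_ne_one h2F
    have := congrArg e h
    simpa using this
  have hcentral : ∀ x : N ⧸ A, x * e.symm (mneg F) = e.symm (mneg F) * x := by
    intro x
    have hx : x = e.symm (e x) := (e.symm_apply_apply x).symm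
    rw [hx, ← map_mul, ← map_mul, mneg_comm]
  have htc : ∀ n : N, (t₀ ^ p)⁻¹ * (n * t₀ ^ p * n⁻¹) ∈ A := by
    intro n
    rw [hmemA]
    simp only [map_mul, map_inv]
    rw [hmkt, hcentral (QuotientGroup.mk' A n)]
    group
  have hn₀A : n₀ ∉ A := by
    rw [hmemA, hn₀]
    intro h
    apply mu_ne_one (F := F)
    have := congrArg e h
    simpa using this
  have hn₀p : n₀ ^ p ∈ A := by
    rw [hmemA, map_pow, hn₀, ← map_pow, mu_pow_eq_one hpF, map_one]
  exact split_of_central_involution hp A hAc hAcard hAself (t₀ ^ p) htt htA htc n₀ hn₀A hn₀p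

end Cfsg.Agent.S3075
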