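import Cfsg.Statements.S3076
import Cfsg.Agent.Lib.H15.SubnormalSylow
import Cfsg.Agent.Lib.H1.PCore
import Cfsg.Agent.Lib.H19.Cores
import Cfsg.Agent.Lib.H22.PPrimeCore
import Cfsg.Agent.Lib.H9.PPrimeCore
import Cfsg.Agent.Lib.H3.Sylow

set_option autoImplicit false
open Cfsg

namespace Cfsg.Agent.S3076

open Cfsg

section internal

variable {M : Type*} [Group M]

/-- `Y` is of `p`-power type over `X`. -/
def PQ (p : ℕ) (X Y : Subgroup M) : Prop := ∀ y ∈ Y, ∃ k : ℕ, y ^ (p ^ k) ∈ X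

theorem PQ.trans {p : ℕ} {X Y Z : Subgroup M} (h1 : PQ p X Y) (h2 : PQ p Y Z) : PQ p X Z := by
  intro z hz
  obtain ⟨k, hk⟩ := h2 z hz
  obtain ⟨l, hl⟩ := h1 _ hk
  refine ⟨k + l, ?_⟩
  rwa [pow_add, pow_mul]

theorem PQ.mono_right {p : ℕ} {X Y Z : Subgroup M} (h1 : PQ p X Z) (h : Y ≤ Z) : PQ p X Y :=
  fun y hy => h1 y (h hy)

theorem PQ.mono_left {p : ℕ} {X X' Y : Subgroup M} (h1 : PQ p X Y) (h : X ≤ X') : PQ p X' Y := by
  intro y hy
  obtain ⟨k, hk⟩ := h1 y hy
  exact ⟨k, h hk⟩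

theorem PQ_sup {p : ℕ} (H X : Subgroup M) [X.Normal] (hH : IsPGroup p H) : PQ p X (H ⊔ X) := by
  intro y hy
  obtain ⟨h, hh, x, hx, rfl⟩ := Subgroup.mem_sup_of_normal_right.mp hy
  obtain ⟨k, hk⟩ := hH ⟨h, hh⟩
  have hk' : h ^ (p ^ k) = 1 := by simpa using congrArg Subtype.val hk
  refine ⟨k, ?_⟩
  rw [← QuotientGroup.eq_one_iff, QuotientGroup.mk_pow, QuotientGroup.mk_mul,
    (QuotientGroup.eq_one_iff x).mpr hx, mul_one, ← QuotientGroup.mk_pow, hk', QuotientGroup.mk_one]

/-- the preimage of `O_p(M/X)` -/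
def NX (p : ℕ) (X : Subgroup M) [X.Normal] : Subgroup M :=
  (pCore p (M ⧸ X)).comap (QuotientGroup.mk' X)

theorem NX_normal (p : ℕ) (X : Subgroup M) [X.Normal] : (NX p X).Normal := by
  have := Cfsg.Agent.Lib.H1.pCore_normal p (M ⧸ X)
  unfold NX
  infer_instance

theorem le_NX (p : ℕ) (X : Subgroup M) [X.Normal] : X ≤ NX p X := by
  intro x hx
  show QuotientGroup.mk' X x ∈ pCore p (M ⧸ X)
  have : QuotientGroup.mk' X x = 1 := (QuotientGroup.eq_one_iff x).mpr hx
  rw [this]; exact Subgroup.one_mem _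

theorem PQ_NX (p : ℕ) (X : Subgroup M) [X.Normal] : PQ p X (NX p X) := by
  intro y hy
  have hy' : QuotientGroup.mk' X y ∈ pCore p (M ⧸ X) := hy
  obtain ⟨k, hk⟩ := Cfsg.Agent.Lib.H19.pCore_isPGroup p (M ⧸ X) ⟨_, hy'⟩
  refine ⟨k, ?_⟩
  have h1 := congrArg Subtype.val hk
  simp only [Subgroup.coe_pow, Subgroup.coe_one] at h1
  rw [← map_pow] at h1
  exact (QuotientGroup.eq_one_iff _).mp h1

theorem le_NX_of_PQ (p : ℕ) (X : Subgroup M) [X.Normal] (Y : Subgroup M) [hY : Y.Normal]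
    (h : PQ p X Y) : Y ≤ NX p X := by
  intro y hy
  show QuotientGroup.mk' X y ∈ pCore p (M ⧸ X)
  have hn : (Y.map (QuotientGroup.mk' X)).Normal :=
    Subgroup.Normal.map hY _ (QuotientGroup.mk'_surjective X)
  have hp : IsPGroup p (Y.map (QuotientGroup.mk' X)) := by
    rintro ⟨_, z, hz, rfl⟩
    obtain ⟨k, hk⟩ := h z hz
    refine ⟨k, ?_⟩
    apply Subtype.ext
    simp only [Subgroup.coe_pow, Subgroup.coe_one]
    rw [← map_pow]
    exact (QuotientGroup.eq_one_iff _).mpr hk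
  exact Cfsg.Agent.Lib.H19.le_pCore hn hp ⟨y, hy, rfl⟩

theorem pPrimeCore_le_centralizer [Finite M] {p : ℕ} [Fact p.Prime] (H : Subgroup M) [H.Normal]
    (hH : IsPGroup p H) : pPrimeCore p M ≤ Subgroup.centralizer (H : Set M) := by
  have hKn := Cfsg.Agent.Lib.H22.pPrimeCore_normal (G := M) p
  rw [← Subgroup.commutator_eq_bot_iff_le_centralizer, eq_bot_iff]
  refine le_trans (Subgroup.commutator_le_inf _ _) ?_
  intro x hx
  obtain ⟨hxK, hxH⟩ := Subgroup.mem_inf.mp hx
  have h1 : orderOf x ∣ Nat.card (pPrimeCore p M) := by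
    have := orderOf_dvd_natCard (⟨x, hxK⟩ : pPrimeCore p M)
    rwa [Subgroup.orderOf_mk] at this
  obtain ⟨k, hk⟩ := hH ⟨x, hxH⟩
  have h2 : orderOf x ∣ p ^ k :=
    orderOf_dvd_of_pow_eq_one (by simpa using congrArg Subtype.val hk)
  have hc : (Nat.card (pPrimeCore p M)).Coprime (p ^ k) :=
    Nat.Coprime.pow_right k (Cfsg.Agent.Lib.H22.card_pPrimeCore_coprime p)
  have : orderOf x = 1 := Nat.Coprime.eq_one_of_dvd (Nat.Coprime.coprime_dvd_left h1 hc) h2
  exact Subgroup.mem_bot.mpr (orderOf_eq_one_iff.mp this)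

/-- The Schur--Zassenhaus / Burnside part. -/
theorem PQ_core [Finite M] {p : ℕ} [hp : Fact p.Prime] (H : Subgroup M) (hHp : IsPGroup p H)
    (C : Subgroup M) [hCn : C.Normal] (hC : C = Subgroup.centralizer (H : Set M))
    (hidx : ¬ p ∣ H.relIndex C) : PQ p (pPrimeCore p M) C := by
  have hD' : IsPGroup p (H.subgroupOf C) := hHp.comap_subtype
  let S : Sylow p ↥C := hD'.toSylow hidx
  have hS : (S : Subgroup ↥C) = H.subgroupOf C := IsPGroup.toSylow_coe hD' hidx
  have hcent : Subgroup.normalizer ((S : Subgroup ↥C) : Set ↥C)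
      ≤ Subgroup.centralizer ((S : Subgroup ↥C) : Set ↥C) := by
    intro c _
    rw [Subgroup.mem_centralizer_iff]
    intro d hd
    have hd' : (d : M) ∈ H := by
      have : d ∈ H.subgroupOf C := hS ▸ hd
      exact Subgroup.mem_subgroupOf.mp this
    have hc : (c : M) ∈ Subgroup.centralizer (H : Set M) := hC ▸ c.2
    apply Subtype.ext
    exact Subgroup.mem_centralizer_iff.mp hc _ hd'
  let φ := MonoidHom.transferSylow S hcent
  have hcomp : Subgroup.IsComplement' φ.ker (S : Subgroup ↥C) :=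
    MonoidHom.ker_transferSylow_isComplement' S hcent
  have hcard : Nat.card φ.ker = H.relIndex C := by
    rw [← hcomp.index_eq_card, hS]
    rfl
  have hcop : (Nat.card (φ.ker.map C.subtype)).Coprime p := by
    rw [Subgroup.card_map_of_injective C.subtype_injective, hcard]
    exact ((Nat.Prime.coprime_iff_not_dvd hp.out).mpr hidx).symm
  have hsub : (φ.ker.map C.subtype).IsSubnormal :=
    Subgroup.IsSubnormal.trans' (Subgroup.Normal.isSubnormal inferInstance) hCn.isSubnormal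
  have hle : φ.ker.map C.subtype ≤ pPrimeCore p M :=
    Cfsg.Agent.Lib.H9.subnormal_coprime_le_pPrimeCore p hsub hcop
  intro c hc
  obtain ⟨k, hk⟩ := S.2 (φ ⟨c, hc⟩)
  refine ⟨k, hle ⟨(⟨c, hc⟩ : ↥C) ^ (p ^ k), ?_, rfl⟩⟩
  rw [SetLike.mem_coe, MonoidHom.mem_ker, map_pow]
  exact hk

theorem internal [Finite M] {p : ℕ} [Fact p.Prime] (P : Subgroup M) (hP : IsPGroup p P)
    (hPi : ¬ p ∣ P.index) (H : Subgroup M) [hHn : H.Normal] (hHP : H ≤ P) (C : Subgroup M)
    [hCn : C.Normal] (hC : C = Subgroup.centralizer (H : Set M)) :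
    (H ≤ NX p C ∧ ¬ p ∣ H.relIndex (NX p C)) ↔ (P ⊓ C ≤ H ∧ pPrimePCore p M = H ⊔ C) := by
  have hHp : IsPGroup p H := hP.to_le hHP
  have hKn := Cfsg.Agent.Lib.H22.pPrimeCore_normal (G := M) p
  have hKC : pPrimeCore p M ≤ C := hC ▸ pPrimeCore_le_centralizer H hHp
  have hR : pPrimePCore p M = NX p (pPrimeCore p M) := rfl
  have : (H ⊔ C).Normal := inferInstance
  have hNn := NX_normal p C
  have hRn := NX_normal p (pPrimeCore p M)
  have hHCN : H ⊔ C ≤ NX p C := le_NX_of_PQ p C (H ⊔ C) (PQ_sup H C hHp)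
  have hPC : ¬ p ∣ P.relIndex C :=
    Cfsg.Agent.Lib.H3.not_dvd_relIndex_of_isSubnormal P hCn.isSubnormal hPi
  constructor
  · rintro ⟨h1, h2⟩
    have hN : NX p C = H ⊔ C := by
      apply le_antisymm _ hHCN
      have hd := Cfsg.Agent.Lib.H15.relIndex_map_mk_dvd C h1
      have h3 : ¬ p ∣ (H.map (QuotientGroup.mk' C)).relIndex ((NX p C).map (QuotientGroup.mk' C)) :=
        fun h => h2 (h.trans hd)
      have hpg : IsPGroup p ((NX p C).map (QuotientGroup.mk' C)) := by
        unfold NX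
        rw [Subgroup.map_comap_eq_self_of_surjective (QuotientGroup.mk'_surjective C)]
        exact Cfsg.Agent.Lib.H19.pCore_isPGroup p _
      have h4 := Cfsg.Agent.Lib.H15.le_of_isPGroup_of_not_dvd_relIndex hpg
        (Subgroup.map_mono h1) le_rfl h3
      have h5 := Subgroup.map_le_iff_le_comap.mp h4
      rw [Subgroup.comap_map_eq, QuotientGroup.ker_mk'] at h5
      exact h5
    have hPCH : P ⊓ C ≤ H := by
      have hQ : IsPGroup p (H ⊔ (P ⊓ C) : Subgroup M) := hP.to_le (sup_le hHP inf_le_left)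
      have := Cfsg.Agent.Lib.H15.le_of_isPGroup_of_not_dvd_relIndex hQ le_sup_left
        (sup_le h1 (inf_le_right.trans (le_NX p C))) h2
      exact le_sup_right.trans this
    have hidx : ¬ p ∣ H.relIndex C := by
      intro hdvd
      apply hPC
      rw [← Subgroup.inf_relIndex_right]
      exact hdvd.trans (Subgroup.relIndex_dvd_of_le_left C hPCH)
    have hD : PQ p (pPrimeCore p M) C := PQ_core H hHp C hC hidx
    refine ⟨hPCH, ?_⟩
    rw [hR]
    apply le_antisymm
    · rw [← hN]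
      exact le_NX_of_PQ p C (NX p (pPrimeCore p M)) ((PQ_NX p (pPrimeCore p M)).mono_left hKC)
    · exact le_NX_of_PQ p (pPrimeCore p M) (H ⊔ C) (hD.trans (PQ_sup H C hHp))
  · rintro ⟨h1, h2⟩
    have hD : PQ p (pPrimeCore p M) C :=
      (PQ_NX p (pPrimeCore p M)).mono_right (by rw [← hR, h2]; exact le_sup_right)
    have hN : NX p C = H ⊔ C := by
      apply le_antisymm _ hHCN
      rw [← h2, hR]
      exact le_NX_of_PQ p (pPrimeCore p M) (NX p C) (hD.trans (PQ_NX p C))
    refine ⟨le_sup_left.trans hN.ge, ?_⟩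
    rw [hN, Subgroup.relIndex_sup_left]
    intro hdvd
    apply hPC
    rw [← Subgroup.inf_relIndex_right]
    exact hdvd.trans (Subgroup.relIndex_dvd_of_le_left C h1)

end internal

theorem eq_map_subgroupOf {G : Type*} [Group G] {K Nm : Subgroup G} (h : K ≤ Nm) :
    (K.subgroupOf Nm).map Nm.subtype = K := by
  rw [Subgroup.subgroupOf_map_subtype, inf_of_le_left h]

/-- Let P be a Sylow p-subgroup of the finite group G and H ≤ P a subgroup with N_P(H) a Sylow p-subgroup of N_G(H). Let N be the preimage in N_G(H) of O_p(N_G(H)/C_G(H)). Then H is a Sylow p-subgroup of N if and only if C_P(H) ≤ H and O_{p',p}(N_G(H)) = H·C_G(H). -/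
theorem result {G : Type*} [Group G] [Finite G] {p : ℕ} [Fact p.Prime]
    (P : Sylow p G) (H : Subgroup G) (hHP : H ≤ (P : Subgroup G))
    (hSyl : ¬ p ∣ ((P : Subgroup G) ⊓ Subgroup.normalizer (H : Set G)).relIndex (Subgroup.normalizer (H : Set G)))
    [hC : ((Subgroup.centralizer (H : Set G)).subgroupOf (Subgroup.normalizer (H : Set G))).Normal] :
    (H ≤ ((Cfsg.pCore p (↥(Subgroup.normalizer (H : Set G)) ⧸
              (Subgroup.centralizer (H : Set G)).subgroupOf (Subgroup.normalizer (H : Set G)))).comap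
            (QuotientGroup.mk' _)).map (Subgroup.normalizer (H : Set G)).subtype ∧
      ¬ p ∣ H.relIndex (((Cfsg.pCore p (↥(Subgroup.normalizer (H : Set G)) ⧸
              (Subgroup.centralizer (H : Set G)).subgroupOf (Subgroup.normalizer (H : Set G)))).comap
            (QuotientGroup.mk' _)).map (Subgroup.normalizer (H : Set G)).subtype)) ↔
    ((P : Subgroup G) ⊓ Subgroup.centralizer (H : Set G) ≤ H ∧
      (Cfsg.pPrimePCore p ↥(Subgroup.normalizer (H : Set G))).map (Subgroup.normalizer (H : Set G)).subtype =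
        H ⊔ Subgroup.centralizer (H : Set G)) := by
  set Nm := Subgroup.normalizer (H : Set G) with hNm
  have hHN : H ≤ Nm := Subgroup.le_normalizer
  have hCN : Subgroup.centralizer (H : Set G) ≤ Nm := Subgroup.centralizer_le_normalizer _
  have : (H.subgroupOf Nm).Normal := Subgroup.normal_in_normalizer
  have hP' : IsPGroup p ((P : Subgroup G).subgroupOf Nm) := P.2.comap_subtype
  have hPi : ¬ p ∣ ((P : Subgroup G).subgroupOf Nm).index := by
    show ¬ p ∣ (P : Subgroup G).relIndex Nm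
    rw [← Subgroup.inf_relIndex_right]
    exact hSyl
  have hCeq : (Subgroup.centralizer (H : Set G)).subgroupOf Nm
      = Subgroup.centralizer ((H.subgroupOf Nm : Subgroup ↥Nm) : Set ↥Nm) := by
    ext x
    rw [Subgroup.mem_subgroupOf, Subgroup.mem_centralizer_iff, Subgroup.mem_centralizer_iff]
    constructor
    · intro h y hy
      apply Subtype.ext
      exact h y.1 (Subgroup.mem_subgroupOf.mp hy)
    · intro h y hy
      exact congrArg Subtype.val (h ⟨y, hHN hy⟩ (Subgroup.mem_subgroupOf.mpr hy))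
  have key := internal ((P : Subgroup G).subgroupOf Nm) hP' hPi (H.subgroupOf Nm)
    (fun x hx => hHP hx)
    ((Subgroup.centralizer (H : Set G)).subgroupOf Nm) hCeq
  have e1 : H ≤ (NX p ((Subgroup.centralizer (H : Set G)).subgroupOf Nm)).map Nm.subtype ↔
      H.subgroupOf Nm ≤ NX p ((Subgroup.centralizer (H : Set G)).subgroupOf Nm) := by
    conv_rhs => rw [← Subgroup.map_subtype_le_map_subtype, eq_map_subgroupOf hHN]
  have e2 : H.relIndex ((NX p ((Subgroup.centralizer (H : Set G)).subgroupOf Nm)).map Nm.subtype) =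
      (H.subgroupOf Nm).relIndex (NX p ((Subgroup.centralizer (H : Set G)).subgroupOf Nm)) := by
    conv_rhs => rw [← Subgroup.relIndex_map_map_of_injective _ _ Nm.subtype_injective,
      eq_map_subgroupOf hHN]
  have e3 : (P : Subgroup G) ⊓ Subgroup.centralizer (H : Set G) ≤ H ↔
      (P : Subgroup G).subgroupOf Nm ⊓ (Subgroup.centralizer (H : Set G)).subgroupOf Nm
        ≤ H.subgroupOf Nm := by
    constructor
    · intro h x hx
      obtain ⟨h1, h2⟩ := Subgroup.mem_inf.mp hx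
      exact Subgroup.mem_subgroupOf.mpr (h (Subgroup.mem_inf.mpr
        ⟨Subgroup.mem_subgroupOf.mp h1, Subgroup.mem_subgroupOf.mp h2⟩))
    · intro h x hx
      obtain ⟨h1, h2⟩ := Subgroup.mem_inf.mp hx
      have := h (x := ⟨x, hCN h2⟩) (Subgroup.mem_inf.mpr
        ⟨Subgroup.mem_subgroupOf.mpr h1, Subgroup.mem_subgroupOf.mpr h2⟩)
      exact Subgroup.mem_subgroupOf.mp this
  have e4 : (Cfsg.pPrimePCore p ↥Nm).map Nm.subtype = H ⊔ Subgroup.centralizer (H : Set G) ↔
      Cfsg.pPrimePCore p ↥Nm = H.subgroupOf Nm ⊔ (Subgroup.centralizer (H : Set G)).subgroupOf Nm := by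
    constructor
    · intro h
      apply Subgroup.map_injective Nm.subtype_injective
      rw [Subgroup.map_sup, eq_map_subgroupOf hHN, eq_map_subgroupOf hCN]
      exact h
    · intro h
      rw [h, Subgroup.map_sup, eq_map_subgroupOf hHN, eq_map_subgroupOf hCN]
  rw [e3, e4, ← key, ← e1, ← e2]
  rfl

end Cfsg.Agent.S3076
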