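import Cfsg.Statements.S3087
import Cfsg.Agent.Lib.H15.Card

set_option autoImplicit false
open Cfsg

namespace Cfsg.Agent.S3087

open Cfsg.Agent.Lib.H15

/-- The fixed points of a subgroup, as an additive subgroup. -/
def fixedPts {G V : Type*} [Group G] [AddCommGroup V] (p : ℕ) [Module (ZMod p) V]
    (ρ : Representation (ZMod p) G V) (B : Subgroup G) : AddSubgroup V where
  carrier := {v | ∀ b ∈ B, ρ b v = v}
  zero_mem' := by intro b _; simp
  add_mem' := by
    intro x y hx hy b hb
    rw [map_add, hx b hb, hy b hb]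
  neg_mem' := by
    intro x hx b hb
    rw [map_neg, hx b hb]

/-- Let p be a prime, G a finite group acting linearly on a finite vector space V over the field with p elements, W a G-invariant subspace, and A a subgroup of G with |A|·|C_V(A)| ≥ |B|·|C_V(B)| for every subgroup B of A. Then |A|·|C_W(A)| ≥ |B|·|C_W(B)| for every subgroup B of A that contains C_A(W); that is, the image of A in the group induced on W satisfies the same maximality condition. -/
theorem result {G V : Type*} [Group G] [Finite G] [AddCommGroup V] [Finite V] (p : ℕ) [Fact p.Prime] [Module (ZMod p) V]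
    (ρ : Representation (ZMod p) G V) (W : Submodule (ZMod p) V) (hW : ∀ g : G, ∀ w ∈ W, ρ g w ∈ W)
    (A : Subgroup G)
    (hP : ∀ B : Subgroup G, B ≤ A →
      Nat.card ↥B * Nat.card {v : V // ∀ b ∈ B, ρ b v = v} ≤ Nat.card ↥A * Nat.card {v : V // ∀ a ∈ A, ρ a v = v})
    (B : Subgroup G) (hBA : B ≤ A) (hCB : ∀ a ∈ A, (∀ w ∈ W, ρ a w = w) → a ∈ B) :
    Nat.card ↥B * Nat.card {w : W // ∀ b ∈ B, ρ b w = w} ≤ Nat.card ↥A * Nat.card {w : W // ∀ a ∈ A, ρ a w = w} := by
  -- notation
  set XB := fixedPts p ρ B with hXB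
  set XA := fixedPts p ρ A with hXA
  set W' : AddSubgroup V := W.toAddSubgroup with hW'
  have hXAB : XA ≤ XB := fun v hv b hb => hv b (hBA hb)
  -- cardinalities
  have c1 : ∀ C : Subgroup G, Nat.card {v : V // ∀ b ∈ C, ρ b v = v} = Nat.card (fixedPts p ρ C) :=
    fun C => rfl
  have c2 : ∀ C : Subgroup G, Nat.card {w : W // ∀ b ∈ C, ρ b w = w}
      = Nat.card (fixedPts p ρ C ⊓ W' : AddSubgroup V) := by
    intro C
    apply Nat.card_congr
    refine ⟨fun w => ⟨(w.1 : V), ⟨w.2, w.1.2⟩⟩, fun v => ⟨⟨v.1, v.2.2⟩, v.2.1⟩, ?_, ?_⟩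
    · intro w; rfl
    · intro v; rfl
  rw [c2, c2]
  have hmain := hP B hBA
  rw [c1, c1] at hmain
  -- key inequality: |XB ⊓ W| * |XA| ≤ |XA ⊓ W| * |XB|
  have hkey : Nat.card (XB ⊓ W' : AddSubgroup V) * Nat.card XA
      ≤ Nat.card (XA ⊓ W' : AddSubgroup V) * Nat.card XB := by
    have h1 := add_card_mul_card_le (XB ⊓ W') XA
    have h2 : (XB ⊓ W') ⊓ XA = XA ⊓ W' := by
      rw [inf_comm, ← inf_assoc, inf_eq_left.mpr hXAB]
    have h3 : (XB ⊓ W') ⊔ XA ≤ XB := sup_le inf_le_left hXAB
    rw [h2] at h1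
    refine h1.trans ?_
    apply Nat.mul_le_mul_left
    exact Nat.card_le_card_of_injective (AddSubgroup.inclusion h3) (AddSubgroup.inclusion_injective h3)
  have hposA : 0 < Nat.card XA := Nat.card_pos
  -- combine
  have : Nat.card B * Nat.card (XB ⊓ W' : AddSubgroup V) * Nat.card XA
      ≤ Nat.card A * Nat.card (XA ⊓ W' : AddSubgroup V) * Nat.card XA := by
    calc Nat.card B * Nat.card (XB ⊓ W' : AddSubgroup V) * Nat.card XA
        = Nat.card B * (Nat.card (XB ⊓ W' : AddSubgroup V) * Nat.card XA) := by ring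
      _ ≤ Nat.card B * (Nat.card (XA ⊓ W' : AddSubgroup V) * Nat.card XB) := by gcongr
      _ = (Nat.card B * Nat.card XB) * Nat.card (XA ⊓ W' : AddSubgroup V) := by ring
      _ ≤ (Nat.card A * Nat.card XA) * Nat.card (XA ⊓ W' : AddSubgroup V) := by gcongr
      _ = Nat.card A * Nat.card (XA ⊓ W' : AddSubgroup V) * Nat.card XA := by ring
  exact Nat.le_of_mul_le_mul_right this hposA

end Cfsg.Agent.S3087
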