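-- Statement S3155
import Cfsg.Statements.S3155
import Mathlib

set_option autoImplicit false
open Cfsg

namespace Cfsg.Agent.S3155

/-- Let B be the direct product of three cyclic groups of order 4. Then the automorphism of B inverting every element is not the square of any automorphism of B. -/
theorem result {B : Type*} [CommGroup B] [Finite B] (hB : Nonempty (B ≃* Multiplicative (ZMod 4 × ZMod 4 × ZMod 4)))
    (τ : B ≃* B) : τ.trans τ ≠ MulEquiv.inv B := by
  obtain ⟨e⟩ := hB
  intro hτ
  -- the additive endomorphism of M = (ZMod 4)^3 induced by τ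
  let M := ZMod 4 × ZMod 4 × ZMod 4
  let f0 : M →+ M :=
    { toFun := fun m => Multiplicative.toAdd (e (τ (e.symm (Multiplicative.ofAdd m))))
      map_zero' := by simp
      map_add' := by
        intro a b
        simp [ofAdd_add, map_mul] }
  have hff : ∀ m : M, f0 (f0 m) = -m := by
    intro m
    have h1 := DFunLike.congr_fun hτ (e.symm (Multiplicative.ofAdd m))
    simp only [MulEquiv.trans_apply, MulEquiv.inv_apply] at h1
    show Multiplicative.toAdd (e (τ (e.symm (Multiplicative.ofAdd (Multiplicative.toAdd (e (τ (e.symm (Multiplicative.ofAdd m))))))))) = -m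
    simp only [ofAdd_toAdd, MulEquiv.symm_apply_apply]
    rw [h1]
    simp
  let f : M →ₗ[ZMod 4] M := f0.toZModLinearMap 4
  have hcomp : f.comp f = (-1 : ZMod 4) • (LinearMap.id : M →ₗ[ZMod 4] M) := by
    apply LinearMap.ext
    intro m
    simp only [LinearMap.comp_apply, LinearMap.smul_apply, LinearMap.id_apply]
    have := hff m
    simpa [f] using this
  have hdet := congrArg LinearMap.det hcomp
  rw [LinearMap.det_comp, LinearMap.det_smul, LinearMap.det_id] at hdet
  haveI : Fact (1 < 4) := ⟨by norm_num⟩
  have hrank : Module.finrank (ZMod 4) M = 3 := by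
    show Module.finrank (ZMod 4) (ZMod 4 × ZMod 4 × ZMod 4) = 3
    rw [Module.finrank_prod, Module.finrank_prod, Module.finrank_self]
  rw [hrank] at hdet
  have key : ∀ d : ZMod 4, d * d ≠ (-1) ^ 3 * 1 := by decide
  exact key _ hdet

end Cfsg.Agent.S3155
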