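import Mathlib
import Cfsg.Statements.S3156
import Cfsg.Agent.Lib.H2.SU3J
-- import your own Cfsg.Agent.* helpers here

set_option autoImplicit false
open Cfsg

namespace Cfsg.Agent.S3156

/-- If a finite group T is isomorphic to a Sylow 2-subgroup of the projective special unitary group of dimension 3 with parameter 4 (realised over the field with 16 elements), then no subgroup of the automorphism group of T is isomorphic to the symmetric group of degree 3. -/
theorem result {T : Type*} [Group T] [Finite T] (hT : (∃ (F : Type) (_ : Field F) (_ : Fintype F), Fintype.card F = 16 ∧ ∃ S : Sylow 2 (Cfsg.PSU 3 F 4), Nonempty (T ≃* ↥(S : Subgroup (Cfsg.PSU 3 F 4))))) (H : Subgroup (MulAut T)) : ¬ Nonempty (↥H ≃* Equiv.Perm (Fin 3)) := by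
  obtain ⟨F, _, _, hF, S, ⟨e0⟩⟩ := hT
  have hp : Fact (Nat.Prime 2) := ⟨Nat.prime_two⟩
  have hF' : Fintype.card F = 4 ^ 2 := by rw [hF]; norm_num
  have hF2 : Fintype.card F = 2 ^ 4 := by rw [hF]; norm_num
  have hch : CharP F 2 := charP_of_card_eq_prime_pow hF2
  let D : Cfsg.Agent.Lib.H13.AutPSU.UF F 4 :=
    Cfsg.Agent.Lib.H13.AutPSU.UF.ofCard (p := 2) (f := 2) (by norm_num) hF'
  obtain ⟨e1⟩ := Cfsg.Agent.Lib.H2.SU3.nonempty_equiv_TU_PSU D S
  rintro ⟨eH⟩
  let φ : MulAut T ≃* MulAut (Cfsg.Agent.Lib.H2.SU3.TU D) := MulAut.congr (e0.trans e1)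
  exact Cfsg.Agent.Lib.H2.SU3.no_S3 (D := D) hF (H.map φ.toMonoidHom)
    ⟨(H.equivMapOfInjective φ.toMonoidHom φ.injective).symm.trans eH⟩

end Cfsg.Agent.S3156
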