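import Mathlib
import Cfsg.Statements.S3157
import Cfsg.Agent.Lib.H2.L34J
-- import your own Cfsg.Agent.* helpers here

set_option autoImplicit false
open Cfsg

namespace Cfsg.Agent.S3157

/-- Let T be a non-abelian group of order 64 admitting automorphisms ρ of order 3 and x of order 2 with x ρ x⁻¹ = ρ⁻¹ (so they generate a symmetric group of degree 3), where ρ fixes only the identity. Then T is isomorphic to a Sylow 2-subgroup of the projective special linear group of dimension 3 over the field with 4 elements, and the subgroup of fixed points of x is dihedral of order 8 or quaternion of order 8. -/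
theorem result {T : Type*} [Group T] [Finite T] (hT : Nat.card T = 64) (hna : ¬ IsMulCommutative T) (ρ x : MulAut T) (hρ : orderOf ρ = 3) (hx : orderOf x = 2)
    (hxr : x * ρ * x⁻¹ = ρ⁻¹) (hfp : ∀ y : T, ρ y = y → y = 1) (C : Subgroup T) (hC : ∀ y : T, y ∈ C ↔ x y = y) :
    (∃ (F : Type) (_ : Field F) (_ : Fintype F), Fintype.card F = 4 ∧
        ∃ S : Sylow 2 (Matrix.ProjectiveSpecialLinearGroup (Fin 3) F), Nonempty (T ≃* ↥(S : Subgroup (Matrix.ProjectiveSpecialLinearGroup (Fin 3) F)))) ∧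
      (Nonempty (↥C ≃* DihedralGroup 4) ∨ Nonempty (↥C ≃* QuaternionGroup 2)) := by
  obtain ⟨h1, h2⟩ := Cfsg.Agent.Lib.H2.L34.main hT hna ρ x hρ hx hxr hfp
  have hCe : C = Cfsg.Agent.Lib.H2.L34.fixSub x :=
    Subgroup.ext fun y => (hC y).trans (Cfsg.Agent.Lib.H2.L34.mem_fixSub x y).symm
  subst hCe
  exact ⟨⟨Cfsg.Agent.Lib.H3.F4.F4, inferInstance, inferInstance, Cfsg.Agent.Lib.H3.F4.F4.card_eq,
    Cfsg.Agent.Lib.H2.L34.sylPSL, h1⟩, h2⟩

end Cfsg.Agent.S3157
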