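import Cfsg.Statements.S3158
import Cfsg.Agent.Lib.H5.AutQ8
import Cfsg.Agent.Lib.H1.IndexBasic

set_option autoImplicit false
set_option linter.style.haveILetI false
open Cfsg

namespace Cfsg.Agent.S3158

theorem dvd_of_pow_sub_one_dvd (n : ℕ) (hn : 1 ≤ n) :
    ∀ k : ℕ, (2 ^ n - 1) ∣ (2 ^ k - 1) → n ∣ k := by
  intro k
  induction k using Nat.strong_induction_on with
  | _ k ih =>
    intro h
    rcases Nat.lt_or_ge k n with hkn | hkn
    · have h1 : 2 ^ k < 2 ^ n := Nat.pow_lt_pow_right (by norm_num) hkn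
      have h2 : 2 ^ k - 1 < 2 ^ n - 1 := by
        have : 0 < 2 ^ k := pow_pos (by norm_num) k
        omega
      have h3 : 2 ^ k - 1 = 0 := Nat.eq_zero_of_dvd_of_lt h h2
      have h4 : 2 ^ k = 1 := by
        have : 0 < 2 ^ k := pow_pos (by norm_num) k
        omega
      have h5 : k = 0 := by
        by_contra hk
        have : 2 ^ 1 ≤ 2 ^ k := Nat.pow_le_pow_right (by norm_num) (Nat.one_le_iff_ne_zero.2 hk)
        omega
      rw [h5]; exact dvd_zero n
    · obtain ⟨j, rfl⟩ : ∃ j, k = n + j := ⟨k - n, by omega⟩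
      have h1 : 2 ^ (n + j) - 1 = 2 ^ j * (2 ^ n - 1) + (2 ^ j - 1) := by
        have hn' : 0 < 2 ^ n := pow_pos (by norm_num) n
        have hj' : 0 < 2 ^ j := pow_pos (by norm_num) j
        rw [pow_add, Nat.mul_sub, mul_one, mul_comm (2 ^ j)]
        have : 2 ^ j ≤ 2 ^ n * 2 ^ j := Nat.le_mul_of_pos_left _ hn'
        omega
      rw [h1] at h
      have h2 : (2 ^ n - 1) ∣ (2 ^ j - 1) := (Nat.dvd_add_right (Dvd.intro_left _ rfl)).1 h
      have h3 := ih j (by omega) h2
      exact (Nat.dvd_add_right (dvd_refl n)).2 h3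

section Free

variable {U : Type*} [Group U] [Finite U]

/-- a fixed-point-free cyclic group of automorphisms: `|y|` divides `|W| - 1` for invariant `W` -/
theorem orderOf_dvd_card_sub_one (y : MulAut U)
    (hfp : ∀ k : ℕ, y ^ k ≠ 1 → ∀ u : U, (y ^ k) u = u → u = 1) (W : Subgroup U)
    (hW : ∀ w ∈ W, y w ∈ W) : orderOf y ∣ Nat.card W - 1 := by
  classical
  have hpow : ∀ k : ℕ, ∀ w ∈ W, (y ^ k) w ∈ W := by
    intro k
    induction k with
    | zero => intro w hw; simpa using hw
    | succ k ih =>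
      intro w hw
      rw [pow_succ, MulAut.mul_apply]
      exact ih _ (hW w hw)
  have hfin : IsOfFinOrder y := isOfFinOrder_of_finite y
  have hmem : ∀ c ∈ Subgroup.zpowers y, ∃ k : ℕ, c = y ^ k := by
    intro c hc
    rw [← mem_powers_iff_mem_zpowers] at hc
    obtain ⟨k, rfl⟩ := hc
    exact ⟨k, rfl⟩
  let X := {w : U // w ∈ W ∧ w ≠ 1}
  letI inst : MulAction (Subgroup.zpowers y) X :=
    { smul := fun c x => ⟨(c : MulAut U) x.1, by
        obtain ⟨k, hk⟩ := hmem c c.2
        refine ⟨?_, ?_⟩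
        · rw [hk]; exact hpow k _ x.2.1
        · intro h
          exact x.2.2 (by simpa using h)⟩
      one_smul := fun x => Subtype.ext rfl
      mul_smul := fun c d x => Subtype.ext rfl }
  have hsmul : ∀ (c : Subgroup.zpowers y) (x : X), ((c • x : X) : U) = (c : MulAut U) x.1 :=
    fun _ _ => rfl
  have hfree : ∀ x : X, MulAction.stabilizer (Subgroup.zpowers y) x = ⊥ := by
    intro x
    rw [eq_bot_iff]
    intro c hc
    rw [MulAction.mem_stabilizer_iff] at hc
    rw [Subgroup.mem_bot]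
    by_contra hne
    obtain ⟨k, hk⟩ := hmem c c.2
    have h1 : y ^ k ≠ 1 := by
      intro h
      apply hne
      apply Subtype.ext
      rw [hk, h]; rfl
    have h2 := congrArg Subtype.val hc
    rw [hsmul, hk] at h2
    exact x.2.2 (hfp k h1 _ h2)
  have h1 := Cfsg.Agent.Lib.H5.AutQ8.card_dvd_of_free hfree
  rw [Nat.card_zpowers] at h1
  have h2 : Nat.card X = Nat.card W - 1 := by
    have e : X ≃ {w : W // w ≠ 1} :=
      { toFun := fun x => ⟨⟨x.1, x.2.1⟩, fun h => x.2.2 (congrArg Subtype.val h)⟩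
        invFun := fun w => ⟨w.1.1, w.1.2, fun h => w.2 (Subtype.ext h)⟩
        left_inv := fun x => rfl
        right_inv := fun w => rfl }
    rw [Nat.card_congr e]
    have := Fintype.ofFinite W
    rw [Nat.card_eq_fintype_card, Nat.card_eq_fintype_card, Fintype.card_subtype_compl,
      Fintype.card_subtype_eq]
  rw [h2] at h1
  exact h1

end Free


/-- Let U be a group of order q² with q = 2^n ≥ 2, and y an automorphism of U of order q − 1 all of whose nontrivial powers fix only the identity. Let V be a proper normal y-invariant subgroup of U such that V and U/V are elementary abelian 2-groups and there is an isomorphism from V to U/V commuting with the actions of y. Then U is abelian. -/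
theorem result {U : Type*} [Group U] [Finite U] (n : ℕ) (hn : 1 ≤ n) (hU : Nat.card U = (2 ^ n) ^ 2)
    (y : MulAut U) (hy : orderOf y = 2 ^ n - 1) (hfp : ∀ k : ℕ, y ^ k ≠ 1 → ∀ u : U, (y ^ k) u = u → u = 1)
    (V : Subgroup U) [V.Normal] (hV : V ≠ ⊤) (hyV : ∀ v ∈ V, y v ∈ V)
    (hVe : ∀ v ∈ V, v ^ 2 = 1) (hQe : ∀ u : U, u ^ 2 ∈ V) (hQc : ∀ u w : U, u * w * u⁻¹ * w⁻¹ ∈ V)
    (φ : ↥V ≃* U ⧸ V) (hφ : ∀ (v : ↥V) (u : U), (QuotientGroup.mk u : U ⧸ V) = φ v → φ ⟨y v, hyV v v.2⟩ = QuotientGroup.mk (y u)) :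
    IsMulCommutative U := by
  classical
  haveI : Fact (Nat.Prime 2) := ⟨Nat.prime_two⟩
  rcases Nat.lt_or_ge n 2 with hn1 | hn2
  · have h1 : n = 1 := by omega
    subst h1
    exact IsPGroup.isMulCommutative_of_card_eq_prime_sq (p := 2) (by rw [hU]; norm_num)
  by_contra hnc
  have hq2 : 2 ≤ 2 ^ n := by
    calc 2 = 2 ^ 1 := by norm_num
      _ ≤ 2 ^ n := Nat.pow_le_pow_right (by norm_num) hn
  have hUp : IsPGroup 2 U := IsPGroup.of_card (n := 2 * n) (by rw [hU]; ring)
  have hVcard : Nat.card V = 2 ^ n := by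
    have h1 := V.card_mul_index
    rw [Subgroup.index_eq_card, ← Nat.card_congr φ.toEquiv, hU, sq] at h1
    exact Nat.mul_self_inj.1 h1
  -- invariant subgroups have order 1, q or q²
  have key : ∀ W : Subgroup U, (∀ w ∈ W, y w ∈ W) →
      Nat.card W = 1 ∨ Nat.card W = 2 ^ n ∨ Nat.card W = (2 ^ n) ^ 2 := by
    intro W hW
    obtain ⟨k, hk⟩ := IsPGroup.iff_card.1 (hUp.to_subgroup W)
    have h1 := orderOf_dvd_card_sub_one y hfp W hW
    rw [hy, hk] at h1
    obtain ⟨j, rfl⟩ := dvd_of_pow_sub_one_dvd n hn k h1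
    have h2 : 2 ^ (n * j) ≤ 2 ^ (2 * n) := by
      rw [← hk, show 2 ^ (2 * n) = (2 ^ n) ^ 2 by ring, ← hU]
      exact Subgroup.card_le_card_group W
    have h3 : n * j ≤ 2 * n := (Nat.pow_le_pow_iff_right (by norm_num)).1 h2
    have h4 : j ≤ 2 := by nlinarith
    interval_cases j
    · left; rw [hk]; simp
    · right; left; rw [hk]; simp
    · right; right; rw [hk]; ring
  -- the centre
  have hZinv : ∀ z ∈ Subgroup.center U, y z ∈ Subgroup.center U := by
    intro z hz
    rw [Subgroup.mem_center_iff] at hz ⊢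
    intro g
    have h1 := hz (y.symm g)
    have h2 := congrArg y h1
    rw [map_mul, map_mul, MulEquiv.apply_symm_apply] at h2
    exact h2
  have hZtop : Subgroup.center U ≠ ⊤ := by
    intro h
    apply hnc
    refine ⟨⟨fun a b => ?_⟩⟩
    have : b ∈ Subgroup.center U := by rw [h]; trivial
    exact ((Subgroup.mem_center_iff.1 this) a)
  have hZcard : Nat.card (Subgroup.center U) = 2 ^ n := by
    rcases key _ hZinv with h | h | h
    · exfalso
      haveI : Nontrivial U := by
        rw [← Finite.one_lt_card_iff_nontrivial, hU]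
        nlinarith
      haveI := hUp.center_nontrivial
      have : 1 < Nat.card (Subgroup.center U) := Finite.one_lt_card
      omega
    · exact h
    · exfalso
      apply hZtop
      apply Subgroup.eq_top_of_card_eq
      rw [h, hU]
  have hVZ : V ≤ Subgroup.center U := by
    have hinv : ∀ w ∈ V ⊓ Subgroup.center U, y w ∈ V ⊓ Subgroup.center U :=
      fun w hw => ⟨hyV w hw.1, hZinv w hw.2⟩
    have hle : Nat.card (V ⊓ Subgroup.center U : Subgroup U) ≤ 2 ^ n := by
      rw [← hVcard]; exact Subgroup.card_le_of_le inf_le_left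
    rcases key _ hinv with h | h | h
    · exfalso
      have hbot : V ⊓ Subgroup.center U = ⊥ := Subgroup.eq_bot_of_card_eq _ h
      have hsup : V ⊔ Subgroup.center U = ⊤ := by
        apply Subgroup.eq_top_of_card_eq
        have h1 := Cfsg.Agent.Lib.H1.card_sup_mul_card_inf V (Subgroup.center U)
        rw [inf_comm, hbot, Subgroup.card_bot, mul_one, hVcard, hZcard] at h1
        rw [h1, hU, sq]
      apply hnc
      have hVab : ∀ a ∈ V, ∀ b ∈ V, a * b = b * a := by
        intro a ha b hb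
        have h1 := hVe a ha
        have h2 := hVe b hb
        have h3 := hVe (a * b) (V.mul_mem ha hb)
        rw [pow_two] at h1 h2 h3
        calc a * b = a * (a * b * (a * b)) * b := by rw [h3, mul_one]
          _ = (a * a) * (b * a) * (b * b) := by group
          _ = b * a := by rw [h1, h2, one_mul, mul_one]
      refine ⟨⟨fun a b => ?_⟩⟩
      have ha : a ∈ (↑(V ⊔ Subgroup.center U) : Set U) := by rw [hsup]; trivial
      have hb : b ∈ (↑(V ⊔ Subgroup.center U) : Set U) := by rw [hsup]; trivial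
      rw [Subgroup.normal_mul] at ha hb
      obtain ⟨v, hv, z, hz, rfl⟩ := Set.mem_mul.1 ha
      obtain ⟨v', hv', z', hz', rfl⟩ := Set.mem_mul.1 hb
      have hzc := Subgroup.mem_center_iff.1 hz
      have hzc' := Subgroup.mem_center_iff.1 hz'
      calc v * z * (v' * z') = v * (z * v') * z' := by group
        _ = v * (v' * z) * z' := by rw [hzc v']
        _ = (v * v') * (z * z') := by group
        _ = (v' * v) * (z' * z) := by rw [hVab v hv v' hv', hzc' z]
        _ = v' * (v * z') * z := by group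
        _ = v' * (z' * v) * z := by rw [hzc' v]
        _ = v' * z' * (v * z) := by group
    · have : V ⊓ Subgroup.center U = V := by
        apply Subgroup.eq_of_le_of_card_ge inf_le_left
        rw [h, hVcard]
      rw [← this]; exact inf_le_right
    · exfalso
      have : 2 ^ n < (2 ^ n) ^ 2 := by nlinarith
      omega
  have hVc : ∀ v ∈ V, ∀ u : U, u * v = v * u := fun v hv u => Subgroup.mem_center_iff.1 (hVZ hv) u
  -- the map w
  set w : U →* V := φ.symm.toMonoidHom.comp (QuotientGroup.mk' V) with hw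
  have hwφ : ∀ u : U, φ (w u) = QuotientGroup.mk u := fun u => by
    simp [hw]
  have hwker : ∀ u : U, w u = 1 ↔ u ∈ V := by
    intro u
    rw [← φ.map_eq_one_iff, hwφ, QuotientGroup.eq_one_iff]
  have hwy : ∀ u : U, (w (y u) : U) = y (w u : U) := by
    intro u
    have h1 := hφ (w u) u (hwφ u).symm
    have h2 : w (y u) = ⟨y (w u : U), hyV _ (w u).2⟩ := by
      apply φ.injective
      rw [hwφ, h1]
    rw [h2]
  have hwpow : ∀ (k : ℕ) (u : U), (w ((y ^ k) u) : U) = (y ^ k) (w u : U) := by
    intro k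
    induction k with
    | zero => intro u; simp
    | succ k ih =>
      intro u
      rw [pow_succ', MulAut.mul_apply, hwy, ih, MulAut.mul_apply]
  have hsw : ∀ u u' : U, w u = w u' → u ^ 2 = u' ^ 2 := by
    intro u u' h
    have h1 : w (u⁻¹ * u') = 1 := by rw [map_mul, map_inv, h, inv_mul_cancel]
    have h2 : u⁻¹ * u' ∈ V := (hwker _).1 h1
    have h3 : u' = u * (u⁻¹ * u') := by group
    rw [h3, pow_two, pow_two]
    have h4 := hVc _ h2 u
    have h5 := hVe _ h2
    rw [pow_two] at h5
    calc u * u = u * u * ((u⁻¹ * u') * (u⁻¹ * u')) := by rw [h5, mul_one]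
      _ = u * (u * (u⁻¹ * u')) * (u⁻¹ * u') := by group
      _ = u * ((u⁻¹ * u') * u) * (u⁻¹ * u') := by rw [h4]
      _ = u * (u⁻¹ * u') * (u * (u⁻¹ * u')) := by group
  -- transitivity on V \ 1
  have htrans : ∀ v v' : U, v ∈ V → v ≠ 1 → v' ∈ V → v' ≠ 1 → ∃ k : ℕ, (y ^ k) v = v' := by
    intro v v' hv hv1 hv' hv'1
    have hpowV : ∀ k : ℕ, (y ^ k) v ∈ V := by
      intro k
      induction k with
      | zero => simpa using hv
      | succ k ih => rw [pow_succ', MulAut.mul_apply]; exact hyV _ ih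
    haveI : Fintype V := Fintype.ofFinite V
    let f : Fin (2 ^ n - 1) → {x : V // x ≠ 1} := fun i =>
      ⟨⟨(y ^ (i : ℕ)) v, hpowV i⟩, fun h => hv1 (by
        have := congrArg Subtype.val h
        simpa using this)⟩
    have hinj : Function.Injective f := by
      intro i j hij
      have h1 : (y ^ (i : ℕ)) v = (y ^ (j : ℕ)) v := congrArg (fun x => ((x.1 : V) : U)) hij
      by_contra hne
      wlog hlt : (i : ℕ) < (j : ℕ) generalizing i j
      · exact this hij.symm h1.symm (Ne.symm hne)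
          (lt_of_le_of_ne (not_lt.1 hlt) (fun h => hne (Fin.ext h.symm)))
      obtain ⟨d, hd⟩ : ∃ d, (j : ℕ) = i + d := ⟨j - i, by omega⟩
      have hd0 : 0 < d := by omega
      have hdlt : d < orderOf y := by rw [hy]; omega
      have h2 : y ^ d ≠ 1 := pow_ne_one_of_lt_orderOf hd0.ne' hdlt
      rw [hd, pow_add, MulAut.mul_apply] at h1
      have h3 : (y ^ d) v = v := ((y ^ (i : ℕ)).injective h1).symm
      exact hv1 (hfp d h2 v h3)
    have hcard : Fintype.card (Fin (2 ^ n - 1)) = Fintype.card {x : V // x ≠ 1} := by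
      rw [Fintype.card_fin, Fintype.card_subtype_compl, Fintype.card_subtype_eq,
        ← Nat.card_eq_fintype_card, hVcard]
    have hbij := (Fintype.bijective_iff_injective_and_card f).2 ⟨hinj, hcard⟩
    obtain ⟨i, hi⟩ := hbij.2 ⟨⟨v', hv'⟩, fun h => hv'1 (congrArg Subtype.val h)⟩
    exact ⟨i, congrArg (fun x => ((x.1 : V) : U)) hi⟩
  -- squaring is a homomorphism
  have hsq : ∀ a b : U, (a * b) ^ 2 = a ^ 2 * b ^ 2 := by
    obtain ⟨v₀, hv₀⟩ : ∃ v₀ : V, v₀ ≠ 1 := by
      haveI : Nontrivial V := by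
        rw [← Finite.one_lt_card_iff_nontrivial, hVcard]; omega
      exact exists_ne 1
    have hv₀' : (v₀ : U) ≠ 1 := fun h => hv₀ (Subtype.ext h)
    have hwsurj : Function.Surjective w := by
      intro v
      obtain ⟨u, hu⟩ := QuotientGroup.mk_surjective (φ v)
      refine ⟨u, ?_⟩
      apply φ.injective
      rw [hwφ, hu]
    obtain ⟨u₀, hu₀⟩ := hwsurj v₀
    -- every u outside V is "y^k u₀" up to V
    have hrep : ∀ u : U, u ∉ V → ∃ k : ℕ, (w u : U) = (y ^ k) (v₀ : U) ∧ u ^ 2 = (y ^ k) (u₀ ^ 2) := by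
      intro u hu
      have h1 : (w u : U) ≠ 1 := fun h => hu ((hwker u).1 (Subtype.ext h))
      obtain ⟨k, hk⟩ := htrans v₀ (w u) v₀.2 hv₀' (w u).2 h1
      refine ⟨k, hk.symm, ?_⟩
      have h2 : w u = w ((y ^ k) u₀) := by
        apply Subtype.ext
        rw [hwpow, hu₀, hk]
      rw [hsw _ _ h2, map_pow]
    by_cases ht : u₀ ^ 2 = 1
    · have hall : ∀ u : U, u ^ 2 = 1 := by
        intro u
        by_cases hu : u ∈ V
        · exact hVe u hu
        · obtain ⟨k, -, hk⟩ := hrep u hu
          rw [hk, ht, map_one]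
      intro a b
      rw [hall, hall, hall, one_mul]
    · obtain ⟨m, hm⟩ := htrans v₀ (u₀ ^ 2) v₀.2 hv₀' (hQe u₀) ht
      have hall : ∀ u : U, u ^ 2 = (y ^ m) (w u : U) := by
        intro u
        by_cases hu : u ∈ V
        · rw [hVe u hu, (hwker u).2 hu]; simp
        · obtain ⟨k, hk1, hk2⟩ := hrep u hu
          rw [hk2, hk1, ← hm, ← MulAut.mul_apply, ← MulAut.mul_apply, ← pow_add, ← pow_add,
            add_comm]
      intro a b
      rw [hall, hall, hall, map_mul, Subgroup.coe_mul, map_mul]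
  apply hnc
  refine ⟨⟨fun a b => ?_⟩⟩
  have h := hsq a b
  rw [pow_two, pow_two, pow_two] at h
  have h1 : a * (b * a) * b = a * (a * b) * b := by
    calc a * (b * a) * b = a * b * (a * b) := by group
      _ = a * a * (b * b) := h
      _ = a * (a * b) * b := by group
  exact (mul_left_cancel (mul_right_cancel h1)).symm

end Cfsg.Agent.S3158
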