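import Cfsg.Statements.S3163
import Mathlib

set_option autoImplicit false
open Cfsg

namespace Cfsg.Agent.S3163

variable {S : Type*} [Group S]

/-- Counting: if every `s` is a product `a * b`, then `|S| * |A ⊓ B| ≤ |A| * |B|`. -/
theorem card_mul_card_inf_le [Finite S] (A B : Subgroup S)
    (hAB : ∀ s : S, ∃ a ∈ A, ∃ b ∈ B, s = a * b) :
    Nat.card S * Nat.card (A ⊓ B : Subgroup S) ≤ Nat.card A * Nat.card B := by
  classical
  choose α hα β hβ hαβ using hAB
  let f : S × (A ⊓ B : Subgroup S) → A × B := fun p =>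
    (⟨α p.1 * p.2.1, A.mul_mem (hα p.1) (Subgroup.mem_inf.mp p.2.2).1⟩,
      ⟨(p.2.1)⁻¹ * β p.1, B.mul_mem (B.inv_mem (Subgroup.mem_inf.mp p.2.2).2) (hβ p.1)⟩)
  have hf : Function.Injective f := by
    rintro ⟨s, d⟩ ⟨s', d'⟩ h
    have h1 : α s * d.1 = α s' * d'.1 := congrArg (fun q : A × B => (q.1 : S)) h
    have h2 : (d.1)⁻¹ * β s = (d'.1)⁻¹ * β s' := congrArg (fun q : A × B => (q.2 : S)) h
    have hs : s = s' := by
      calc s = α s * β s := hαβ s
        _ = (α s * d.1) * ((d.1)⁻¹ * β s) := by group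
        _ = (α s' * d'.1) * ((d'.1)⁻¹ * β s') := by rw [h1, h2]
        _ = α s' * β s' := by group
        _ = s' := (hαβ s').symm
    subst hs
    have hd : d.1 = d'.1 := mul_left_cancel h1
    have : d = d' := Subtype.ext hd
    rw [this]
  have := Nat.card_le_card_of_injective f hf
  rwa [Nat.card_prod, Nat.card_prod] at this

/-- Centralizer bound. -/
theorem card_centralizer_le [Finite S] (A B : Subgroup S)
    (hAc : ∀ x ∈ A, ∀ y ∈ A, x * y = y * x)
    (hAB : ∀ s : S, ∃ a ∈ A, ∃ b ∈ B, s = a * b)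
    (hCA : ∀ a ∈ A, a ∉ B → ∀ s : S, s * a = a * s → s ∈ A)
    (x : S) (hxA : x ∉ A) (hxB : x ∉ B) :
    Nat.card (Subgroup.centralizer ({x} : Set S)) ≤ Nat.card B := by
  set C := Subgroup.centralizer ({x} : Set S) with hCdef
  obtain ⟨a, ha, b, hb, hxab⟩ := hAB x
  have haB : a ∉ B := fun h => hxB (by rw [hxab]; exact B.mul_mem h hb)
  have hbA : b ∉ A := fun h => hxA (by rw [hxab]; exact A.mul_mem ha h)
  have hinf : A ⊓ C ≤ A ⊓ B := by
    intro a' ha'
    obtain ⟨ha'A, ha'C⟩ := Subgroup.mem_inf.mp ha'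
    refine Subgroup.mem_inf.mpr ⟨ha'A, ?_⟩
    by_contra ha'B
    rw [hCdef, Subgroup.mem_centralizer_singleton_iff, hxab] at ha'C
    -- a' * (a * b) = a * b * a'
    have h1 : a' * b = b * a' := by
      have h2 : a * (a' * b) = a * (b * a') := by
        calc a * (a' * b) = (a * a') * b := (mul_assoc _ _ _).symm
          _ = (a' * a) * b := by rw [hAc a ha a' ha'A]
          _ = a' * (a * b) := mul_assoc _ _ _
          _ = a * b * a' := ha'C
          _ = a * (b * a') := mul_assoc _ _ _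
      exact mul_left_cancel h2
    exact hbA (hCA a' ha'A ha'B b h1.symm)
  have hcard1 : Nat.card C = Nat.card (A ⊓ C : Subgroup S) * A.relIndex C := by
    have h1 := Subgroup.relIndex_mul_relIndex (⊥ : Subgroup S) (A ⊓ C) C bot_le inf_le_right
    rw [Subgroup.relIndex_bot_left, Subgroup.relIndex_bot_left, Subgroup.inf_relIndex_right] at h1
    exact h1.symm
  have hrel : A.relIndex C ≤ A.index := by
    have := Subgroup.relIndex_le_of_le_right (H := A) (K := C) (L := ⊤) le_top
      (by rw [Subgroup.relIndex_top_right]; exact Subgroup.index_ne_zero_of_finite)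
    rwa [Subgroup.relIndex_top_right] at this
  have hle1 : Nat.card (A ⊓ C : Subgroup S) ≤ Nat.card (A ⊓ B : Subgroup S) :=
    Subgroup.card_le_of_le hinf
  have hcount := card_mul_card_inf_le A B hAB
  have hidx := Subgroup.card_mul_index A
  have hApos : 0 < Nat.card A := Nat.card_pos
  -- |A| * (A.index * |D|) ≤ |A| * |B|
  have h3 : A.index * Nat.card (A ⊓ B : Subgroup S) ≤ Nat.card B := by
    have : Nat.card A * (A.index * Nat.card (A ⊓ B : Subgroup S)) ≤ Nat.card A * Nat.card B := by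
      rw [← mul_assoc, hidx]; exact hcount
    exact Nat.le_of_mul_le_mul_left this hApos
  calc Nat.card C = Nat.card (A ⊓ C : Subgroup S) * A.relIndex C := hcard1
    _ ≤ Nat.card (A ⊓ B : Subgroup S) * A.index := Nat.mul_le_mul hle1 hrel
    _ = A.index * Nat.card (A ⊓ B : Subgroup S) := mul_comm _ _
    _ ≤ Nat.card B := h3


/-- Let S be a non-abelian finite 2-group which is the product S = AB of two elementary abelian subgroups A and B, and suppose that the centralizer in S of every element of A outside B is exactly A. Then the centralizer of every element of B outside A is exactly B; A and B are maximal elementary abelian subgroups of S and the only ones; the centre of S is A ∩ B; and every element of S outside A ∪ B has centralizer of order at most min(|A|, |B|). -/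
theorem result {S : Type*} [Group S] [Finite S] (hS : IsPGroup 2 S) (hna : ¬ IsMulCommutative S) (A B : Subgroup S)
    (hA : Cfsg.IsElementaryAbelian 2 A) (hB : Cfsg.IsElementaryAbelian 2 B) (hAB : ∀ s : S, ∃ a ∈ A, ∃ b ∈ B, s = a * b)
    (hC : ∀ a ∈ A, a ∉ B → Subgroup.centralizer ({a} : Set S) = A) :
    (∀ b ∈ B, b ∉ A → Subgroup.centralizer ({b} : Set S) = B) ∧
      (∀ E : Subgroup S, Cfsg.IsElementaryAbelian 2 E → (∀ E' : Subgroup S, Cfsg.IsElementaryAbelian 2 E' → E ≤ E' → E' = E) → E = A ∨ E = B) ∧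
      (∀ E' : Subgroup S, Cfsg.IsElementaryAbelian 2 E' → A ≤ E' → E' = A) ∧ (∀ E' : Subgroup S, Cfsg.IsElementaryAbelian 2 E' → B ≤ E' → E' = B) ∧
      Subgroup.center S = A ⊓ B ∧
      (∀ x : S, x ∉ A → x ∉ B → Nat.card ↥(Subgroup.centralizer ({x} : Set S)) ≤ min (Nat.card ↥A) (Nat.card ↥B)) := by
  have _ := hS
  have hAc : ∀ x ∈ A, ∀ y ∈ A, x * y = y * x := isMulCommutative_iff_of_setLike.mp hA.1
  have hBc : ∀ x ∈ B, ∀ y ∈ B, x * y = y * x := isMulCommutative_iff_of_setLike.mp hB.1
  have hA2 : ∀ x ∈ A, x * x = 1 := fun x hx => by rw [← pow_two]; exact hA.2 x hx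
  have hB2 : ∀ x ∈ B, x * x = 1 := fun x hx => by rw [← pow_two]; exact hB.2 x hx
  have hCA : ∀ a ∈ A, a ∉ B → ∀ s : S, s * a = a * s → s ∈ A := by
    intro a ha haB s hs
    rw [← hC a ha haB, Subgroup.mem_centralizer_singleton_iff]
    exact hs
  -- the reversed product decomposition
  have hBA : ∀ s : S, ∃ b ∈ B, ∃ a ∈ A, s = b * a := by
    intro s
    obtain ⟨a, ha, b, hb, hab⟩ := hAB s⁻¹
    refine ⟨b⁻¹, B.inv_mem hb, a⁻¹, A.inv_mem ha, ?_⟩
    rw [← mul_inv_rev, ← hab, inv_inv]
  -- A is not contained in B and conversely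
  have hAnB : ¬ A ≤ B := by
    intro hle
    apply hna
    rw [isMulCommutative_iff]
    have hall : ∀ s : S, s ∈ B := by
      intro s
      obtain ⟨a, ha, b, hb, rfl⟩ := hAB s
      exact B.mul_mem (hle ha) hb
    intro x y
    exact hBc x (hall x) y (hall y)
  have hBnA : ¬ B ≤ A := by
    intro hle
    apply hna
    rw [isMulCommutative_iff]
    have hall : ∀ s : S, s ∈ A := by
      intro s
      obtain ⟨a, ha, b, hb, rfl⟩ := hAB s
      exact A.mul_mem ha (hle hb)
    intro x y
    exact hAc x (hall x) y (hall y)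
  obtain ⟨a₀, ha₀, ha₀B⟩ := SetLike.not_le_iff_exists.mp hAnB
  obtain ⟨b₀, hb₀, hb₀A⟩ := SetLike.not_le_iff_exists.mp hBnA
  -- (1)
  have hCB : ∀ b ∈ B, b ∉ A → ∀ s : S, s * b = b * s → s ∈ B := by
    intro b hb hbA s hs
    obtain ⟨a, ha, b', hb', rfl⟩ := hAB s
    have hab : a * b = b * a := by
      have h1 : a * b * b' = b * a * b' := by
        calc a * b * b' = a * (b * b') := mul_assoc _ _ _
          _ = a * (b' * b) := by rw [hBc b hb b' hb']
          _ = a * b' * b := (mul_assoc _ _ _).symm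
          _ = b * (a * b') := hs
          _ = b * a * b' := (mul_assoc _ _ _).symm
      exact mul_right_cancel h1
    by_cases haB : a ∈ B
    · exact B.mul_mem haB hb'
    · exact absurd (hCA a ha haB b hab.symm) hbA
  have h1 : ∀ b ∈ B, b ∉ A → Subgroup.centralizer ({b} : Set S) = B := by
    intro b hb hbA
    ext s
    rw [Subgroup.mem_centralizer_singleton_iff]
    exact ⟨hCB b hb hbA s, fun hs => hBc s hs b hb⟩
  -- involutions lie in A or B
  have hinv : ∀ x : S, x * x = 1 → x ∈ A ∨ x ∈ B := by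
    intro x hx
    by_contra hcon
    push Not at hcon
    obtain ⟨hxA, hxB⟩ := hcon
    obtain ⟨a, ha, b, hb, rfl⟩ := hAB x
    have haB : a ∉ B := fun h => hxB (B.mul_mem h hb)
    have hbA : b ∉ A := fun h => hxA (A.mul_mem ha h)
    have hab : b * a = a * b := by
      have h2 : a * b * (b * a) = 1 := by
        calc a * b * (b * a) = a * (b * b) * a := by group
          _ = 1 := by rw [hB2 b hb, mul_one, hA2 a ha]
      have h3 : a * b * (b * a) = a * b * (a * b) := by rw [h2, hx]
      exact mul_left_cancel h3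
    exact hbA (hCA a ha haB b hab)
  -- subgroups of exponent two lie in A or B
  have hcover : ∀ E : Subgroup S, Cfsg.IsElementaryAbelian 2 E → E ≤ A ∨ E ≤ B := by
    intro E hE
    have hE2 : ∀ e ∈ E, e * e = 1 := fun e he => by rw [← pow_two]; exact hE.2 e he
    by_contra hcon
    push Not at hcon
    obtain ⟨hEA, hEB⟩ := hcon
    obtain ⟨e₁, he₁, he₁A⟩ := SetLike.not_le_iff_exists.mp hEA
    obtain ⟨e₂, he₂, he₂B⟩ := SetLike.not_le_iff_exists.mp hEB
    have he₁B : e₁ ∈ B := (hinv e₁ (hE2 e₁ he₁)).resolve_left he₁A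
    have he₂A : e₂ ∈ A := (hinv e₂ (hE2 e₂ he₂)).resolve_right he₂B
    rcases hinv (e₁ * e₂) (hE2 _ (E.mul_mem he₁ he₂)) with h | h
    · apply he₁A
      have : e₁ = (e₁ * e₂) * e₂⁻¹ := by group
      rw [this]
      exact A.mul_mem h (A.inv_mem he₂A)
    · apply he₂B
      have : e₂ = e₁⁻¹ * (e₁ * e₂) := by group
      rw [this]
      exact B.mul_mem (B.inv_mem he₁B) h
  refine ⟨h1, ?_, ?_, ?_, ?_, ?_⟩
  · intro E hE hmax
    rcases hcover E hE with h | h
    · exact Or.inl (hmax A hA h).symm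
    · exact Or.inr (hmax B hB h).symm
  · intro E' hE' hle
    apply le_antisymm _ hle
    intro e he
    have hEc : ∀ x ∈ E', ∀ y ∈ E', x * y = y * x := isMulCommutative_iff_of_setLike.mp hE'.1
    exact hCA a₀ ha₀ ha₀B e (hEc e he a₀ (hle ha₀))
  · intro E' hE' hle
    apply le_antisymm _ hle
    intro e he
    have hEc : ∀ x ∈ E', ∀ y ∈ E', x * y = y * x := isMulCommutative_iff_of_setLike.mp hE'.1
    exact hCB b₀ hb₀ hb₀A e (hEc e he b₀ (hle hb₀))
  · ext z
    rw [Subgroup.mem_center_iff, Subgroup.mem_inf]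
    constructor
    · intro hz
      exact ⟨hCA a₀ ha₀ ha₀B z (hz a₀).symm, hCB b₀ hb₀ hb₀A z (hz b₀).symm⟩
    · rintro ⟨hzA, hzB⟩ g
      obtain ⟨a, ha, b, hb, rfl⟩ := hAB g
      calc a * b * z = a * (b * z) := mul_assoc _ _ _
        _ = a * (z * b) := by rw [hBc b hb z hzB]
        _ = a * z * b := (mul_assoc _ _ _).symm
        _ = z * a * b := by rw [hAc a ha z hzA]
        _ = z * (a * b) := mul_assoc _ _ _
  · intro x hxA hxB
    apply le_min
    · have := card_centralizer_le B A hBc hBA hCB x hxB hxA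
      exact this
    · exact card_centralizer_le A B hAc hAB hCA x hxA hxB

end Cfsg.Agent.S3163
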