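-- Statement S3166
import Cfsg.Statements.S3166
import Mathlib

set_option autoImplicit false
open Cfsg

namespace Cfsg.Agent.S3166

lemma geom_odd (p : ℤ) (hp : Odd p) (k : ℕ) : Odd (∑ i ∈ Finset.range (2 * k + 1), p ^ i) := by
  induction k with
  | zero => simp
  | succ k ih =>
    have : 2 * (k + 1) + 1 = (2 * k + 1) + 1 + 1 := by ring
    rw [this, Finset.sum_range_succ, Finset.sum_range_succ]
    have h1 : Odd (p ^ (2 * k + 1)) := hp.pow
    have h2 : Odd (p ^ (2 * k + 1 + 1)) := hp.pow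
    have := (ih.add_odd h1).add_odd h2
    exact this

/-- Let q = 2^n with n ≥ 1. If q⁴ − q³ + q² − q + 1 is a power p^m of a prime p, then m = 1: the value is never a prime power with exponent greater than 1. -/
theorem result (n p m : ℕ) (hn : 1 ≤ n) (hp : p.Prime) (h : (2 ^ n) ^ 4 - (2 ^ n) ^ 3 + (2 ^ n) ^ 2 - 2 ^ n + 1 = p ^ m) : m = 1 := by
  obtain ⟨q, hq⟩ : ∃ q : ℕ, q = 2 ^ n := ⟨_, rfl⟩
  rw [← hq] at h
  have hq2 : 2 ≤ q := by
    rw [hq]
    calc 2 = 2 ^ 1 := rfl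
      _ ≤ 2 ^ n := Nat.pow_le_pow_right (by norm_num) hn
  have h34 : q ^ 3 ≤ q ^ 4 := Nat.pow_le_pow_right (by omega) (by norm_num)
  have h12 : q ≤ q ^ 2 := by nlinarith
  have hA : p ^ m + q ^ 3 + q = q ^ 4 + q ^ 2 + 1 := by omega
  -- move to ℤ
  have hAz : (p : ℤ) ^ m + (q : ℤ) ^ 3 + q = (q : ℤ) ^ 4 + (q : ℤ) ^ 2 + 1 := by exact_mod_cast hA
  have hqz : (2 : ℤ) ≤ q := by exact_mod_cast hq2
  have hpz : (2 : ℤ) ≤ p := by exact_mod_cast hp.two_le
  -- q is even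
  have hqeven : Even q := by
    rw [hq]; exact (Nat.even_pow.mpr ⟨even_two, by omega⟩)
  -- p^m is odd
  have hpm_odd : Odd (p ^ m) := by
    obtain ⟨r, hr⟩ := hqeven
    have : p ^ m = 2 * (r * (q ^ 3 - q ^ 2 + q - 1)) + 1 := by
      have e1 : q ^ 2 ≤ q ^ 3 := Nat.pow_le_pow_right (by omega) (by norm_num)
      have e2 : 1 ≤ q ^ 3 - q ^ 2 + q := by omega
      have : p ^ m = q * (q ^ 3 - q ^ 2 + q - 1) + 1 := by
        zify [e1, e2, h34, h12]
        zify [e1, e2, h34, h12] at hA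
        linarith
      rw [this, hr]; ring
    rw [this]; exact ⟨_, rfl⟩
  have hm0 : m ≠ 0 := by
    rintro rfl
    simp at hAz
    nlinarith [pow_pos (show (0:ℤ) < q by linarith) 3, pow_pos (show (0:ℤ) < q by linarith) 2]
  have hpodd : Odd p := by
    rcases Nat.even_or_odd p with he | ho
    · exact absurd (he.pow_of_ne_zero hm0) (Nat.not_even_iff_odd.mpr hpm_odd)
    · exact ho
  have hpoddz : Odd (p : ℤ) := by exact_mod_cast hpodd
  by_contra hm1
  rcases Nat.even_or_odd m with hme | hmo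
  · -- even case
    obtain ⟨k, hk⟩ := hme
    set y : ℤ := (p : ℤ) ^ k with hy
    have hy2 : (p : ℤ) ^ m = y ^ 2 := by rw [hy, hk, ← pow_mul]; ring_nf
    have hypos : 0 < y := by positivity
    rw [hy2] at hAz
    have hlow : 2 * (q : ℤ) ^ 2 - q < 2 * y := by
      by_contra hc
      push Not at hc
      have h0 : (0 : ℤ) ≤ 2 * y := by linarith
      have : (2 * y) ^ 2 ≤ (2 * (q : ℤ) ^ 2 - q) ^ 2 := by
        apply pow_le_pow_left₀ h0 hc
      nlinarith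
    have hhigh : 2 * y < 2 * (q : ℤ) ^ 2 - q + 1 := by
      by_contra hc
      push Not at hc
      have h0 : (0 : ℤ) ≤ 2 * (q : ℤ) ^ 2 - q + 1 := by nlinarith
      have : (2 * (q : ℤ) ^ 2 - q + 1) ^ 2 ≤ (2 * y) ^ 2 := by
        apply pow_le_pow_left₀ h0 hc
      nlinarith
    omega
  · -- odd case
    obtain ⟨k, hk⟩ := hmo
    have hgs : (∑ i ∈ Finset.range m, (p : ℤ) ^ i) * ((p : ℤ) - 1) = (p : ℤ) ^ m - 1 := geom_sum_mul _ _
    have hSodd : Odd (∑ i ∈ Finset.range m, (p : ℤ) ^ i) := by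
      rw [hk]; exact geom_odd _ hpoddz k
    have hdvd : (q : ℤ) ∣ (∑ i ∈ Finset.range m, (p : ℤ) ^ i) * ((p : ℤ) - 1) := by
      rw [hgs]
      refine ⟨(q : ℤ) ^ 3 - (q : ℤ) ^ 2 + q - 1, ?_⟩
      linarith
    have hcop : IsCoprime (q : ℤ) (∑ i ∈ Finset.range m, (p : ℤ) ^ i) := by
      have h2 : IsCoprime (2 : ℤ) (∑ i ∈ Finset.range m, (p : ℤ) ^ i) := by
        obtain ⟨r, hr⟩ := hSodd
        exact ⟨-r, 1, by rw [hr]; ring⟩
      have : (q : ℤ) = 2 ^ n := by exact_mod_cast hq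
      rw [this]
      exact h2.pow_left
    have hq_dvd : (q : ℤ) ∣ (p : ℤ) - 1 := hcop.dvd_of_dvd_mul_left hdvd
    have hp1 : (q : ℤ) ≤ (p : ℤ) - 1 := Int.le_of_dvd (by linarith) hq_dvd
    have hm3 : 3 ≤ m := by omega
    have hq0 : (0 : ℤ) ≤ q + 1 := by linarith
    have hpq : (q : ℤ) + 1 ≤ p := by linarith
    have hpow : ((q : ℤ) + 1) ^ m ≤ (p : ℤ) ^ m := pow_le_pow_left₀ hq0 hpq m
    have hq1 : (1 : ℤ) ≤ q + 1 := by linarith
    have hm_lt : m < 4 := by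
      by_contra hc
      push Not at hc
      have : ((q : ℤ) + 1) ^ 4 ≤ ((q : ℤ) + 1) ^ m := pow_le_pow_right₀ hq1 hc
      nlinarith [pow_pos (show (0:ℤ) < q by linarith) 3, pow_pos (show (0:ℤ) < q by linarith) 2]
    have hm_eq : m = 3 := by omega
    subst hm_eq
    obtain ⟨c, hc⟩ := hq_dvd
    have hpc : (p : ℤ) = 1 + q * c := by linarith
    have hcpos : 1 ≤ c := by
      by_contra hcc
      push Not at hcc
      have : (q : ℤ) * c ≤ 0 := by nlinarith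
      linarith
    rw [hpc] at hAz
    have hqpos : (0 : ℤ) < q := by linarith
    have hmain : 3 * c + 3 * q * c ^ 2 + (q : ℤ) ^ 2 * c ^ 3 + (q : ℤ) ^ 2 + 1 = (q : ℤ) ^ 3 + q := by
      have : (q : ℤ) * (3 * c + 3 * q * c ^ 2 + (q : ℤ) ^ 2 * c ^ 3 + (q : ℤ) ^ 2 + 1) = q * ((q : ℤ) ^ 3 + q) := by
        nlinarith
      exact mul_left_cancel₀ (ne_of_gt hqpos) this
    have hdv : (q : ℤ) ∣ 3 * c + 1 := by
      refine ⟨(q : ℤ) ^ 2 + 1 - 3 * c ^ 2 - q * c ^ 3 - q, ?_⟩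
      nlinarith
    have hle : (q : ℤ) ≤ 3 * c + 1 := Int.le_of_dvd (by linarith) hdv
    have hc3 : c ^ 3 < (q : ℤ) := by
      by_contra hcc
      push Not at hcc
      have : (q : ℤ) ^ 2 * q ≤ (q : ℤ) ^ 2 * c ^ 3 := by
        apply mul_le_mul_of_nonneg_left hcc (by positivity)
      nlinarith [mul_pos hqpos (show (0:ℤ) < c by linarith), pow_pos (show (0:ℤ) < c by linarith) 2]
    have hc1 : c = 1 := by
      by_contra hne
      have hc2 : 2 ≤ c := by omega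
      nlinarith [mul_self_nonneg (c - 2), mul_pos (show (0:ℤ) < c by linarith) (show (0:ℤ) < c by linarith)]
    subst hc1
    have hq4 : (q : ℤ) ≤ 4 := by linarith
    have : (q : ℤ) = 2 ∨ (q : ℤ) = 3 ∨ (q : ℤ) = 4 := by omega
    rcases this with h2 | h2 | h2 <;> rw [h2] at hmain <;> norm_num at hmain

end Cfsg.Agent.S3166
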