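import Cfsg.Statements.S3178
import Mathlib
import Cfsg.Agent.Lib.H16.ThompsonTransfer
import Cfsg.Agent.Lib.H16.AbelianSylowTwo
import Cfsg.Agent.Lib.H16.NormalComplementDescent
import Cfsg.Agent.Lib.H16.ClassTwo
import Cfsg.Agent.Lib.H16.PGroupBasic
import Cfsg.Agent.Lib.H9.Basic
import Cfsg.Agent.Lib.H1.IndexBasic

set_option autoImplicit false
open Cfsg

namespace Cfsg.Agent.S3178

open Cfsg.Agent.Lib.H16

variable {G : Type*} [Group G] [Finite G]

/-- The modular 2-group configuration inside `G`: `|S| = 2^(m+2)`, `a` of order `2^(m+1)`,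
`z = a^(2^m)`, `b a b⁻¹ = a z`, with `m ≥ 2`. -/
structure ModSetup (S : Subgroup G) (a b z : G) (m : ℕ) : Prop where
  hm : 2 ≤ m
  haS : a ∈ S
  hbS : b ∈ S
  hcard : Nat.card S = 2 ^ (m + 2)
  hord : orderOf a = 2 ^ (m + 1)
  hz : z = a ^ (2 ^ m)
  hrel : b * a * b⁻¹ = a * z

namespace ModSetup

variable {S : Subgroup G} {a b z : G} {m : ℕ}

theorem z_mul_self (h : ModSetup S a b z m) : z * z = 1 := by
  rw [h.hz, ← pow_add, ← two_mul, ← pow_succ', ← h.hord, pow_orderOf_eq_one]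

theorem z_ne_one (h : ModSetup S a b z m) : z ≠ 1 := by
  rw [h.hz]
  apply pow_ne_one_of_lt_orderOf (by positivity)
  rw [h.hord]
  exact Nat.pow_lt_pow_right (by norm_num) (Nat.lt_succ_self m)

theorem orderOf_z (h : ModSetup S a b z m) : orderOf z = 2 := by
  apply orderOf_eq_prime
  · rw [pow_two]; exact h.z_mul_self
  · exact h.z_ne_one

theorem z_mem (h : ModSetup S a b z m) : z ∈ Subgroup.zpowers a := by
  rw [h.hz]; exact Subgroup.pow_mem _ (Subgroup.mem_zpowers a) _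

theorem commute_of_mem {x y : G} (hx : x ∈ Subgroup.zpowers a) (hy : y ∈ Subgroup.zpowers a) :
    Commute x y := by
  obtain ⟨i, rfl⟩ := Subgroup.mem_zpowers_iff.mp hx
  obtain ⟨j, rfl⟩ := Subgroup.mem_zpowers_iff.mp hy
  exact ((Commute.refl a).zpow_right j).zpow_left i

theorem zpowers_le (h : ModSetup S a b z m) : Subgroup.zpowers a ≤ S := by
  rw [Subgroup.zpowers_le]; exact h.haS

theorem b_not_mem (h : ModSetup S a b z m) : b ∉ Subgroup.zpowers a := by
  intro hb
  have hc : Commute b a := commute_of_mem hb (Subgroup.mem_zpowers a)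
  have h1 : b * a * b⁻¹ = a := by rw [hc.eq]; group
  rw [h.hrel] at h1
  exact h.z_ne_one (mul_left_cancel (a := a) (by rw [h1, mul_one]))

theorem relIndex_A (h : ModSetup S a b z m) : (Subgroup.zpowers a).relIndex S = 2 := by
  have h1 := Cfsg.Agent.Lib.H1.card_mul_relIndex_of_le h.zpowers_le
  rw [Nat.card_zpowers, h.hord, h.hcard, pow_succ 2 (m + 1)] at h1
  exact Nat.eq_of_mul_eq_mul_left (by positivity) h1

theorem A_mul_mem_iff (h : ModSetup S a b z m) {s t : G} (hs : s ∈ S) (ht : t ∈ S) :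
    s * t ∈ Subgroup.zpowers a ↔ (s ∈ Subgroup.zpowers a ↔ t ∈ Subgroup.zpowers a) := by
  have h1 : ((Subgroup.zpowers a).subgroupOf S).index = 2 := h.relIndex_A
  have h2 := Subgroup.mul_mem_iff_of_index_two h1 (a := (⟨s, hs⟩ : S)) (b := ⟨t, ht⟩)
  simpa [Subgroup.mem_subgroupOf] using h2

theorem conj_a (h : ModSetup S a b z m) {s : G} (hs : s ∈ S) :
    s * a * s⁻¹ = a ∨ s * a * s⁻¹ = a * z := by
  by_cases hsA : s ∈ Subgroup.zpowers a
  · left
    have hc : Commute s a := commute_of_mem hsA (Subgroup.mem_zpowers a)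
    rw [hc.eq]; group
  · right
    have hb' : b⁻¹ ∉ Subgroup.zpowers a := fun hb => h.b_not_mem (by simpa using hb)
    have hc : s * b⁻¹ ∈ Subgroup.zpowers a := by
      rw [h.A_mul_mem_iff hs (S.inv_mem h.hbS)]
      exact ⟨fun h1 => absurd h1 hsA, fun h1 => absurd h1 hb'⟩
    have hca : Commute (s * b⁻¹) (a * z) :=
      commute_of_mem hc ((Subgroup.zpowers a).mul_mem (Subgroup.mem_zpowers a) h.z_mem)
    calc s * a * s⁻¹ = (s * b⁻¹) * (b * a * b⁻¹) * (s * b⁻¹)⁻¹ := by group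
      _ = (s * b⁻¹) * (a * z) * (s * b⁻¹)⁻¹ := by rw [h.hrel]
      _ = a * z := by rw [hca.eq]; group

theorem z_pow_even (h : ModSetup S a b z m) : z ^ (2 ^ m) = 1 := by
  obtain ⟨k, hk⟩ : ∃ k, m = k + 1 := ⟨m - 1, by have := h.hm; omega⟩
  rw [hk, pow_succ', pow_mul, pow_two, h.z_mul_self, one_pow]

theorem conj_z (h : ModSetup S a b z m) {s : G} (hs : s ∈ S) : s * z * s⁻¹ = z := by
  have h1 : s * z * s⁻¹ = (s * a * s⁻¹) ^ (2 ^ m) := by rw [h.hz, conj_pow]
  rw [h1]
  rcases h.conj_a hs with h2 | h2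
  · rw [h2, ← h.hz]
  · have hc : Commute a z := commute_of_mem (Subgroup.mem_zpowers a) h.z_mem
    rw [h2, hc.mul_pow, ← h.hz, h.z_pow_even, mul_one]

theorem commute_z (h : ModSetup S a b z m) {s : G} (hs : s ∈ S) : Commute s z := by
  have := h.conj_z hs
  have h2 : s * z = s * z * s⁻¹ * s := by group
  rw [this] at h2
  exact h2

theorem unique_inv (h : ModSetup S a b z m) {x : G} (hx : x ∈ Subgroup.zpowers a)
    (hx2 : x * x = 1) : x = 1 ∨ x = z := by
  by_cases hx1 : x = 1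
  · left; exact hx1
  · right
    have ho : orderOf x = 2 := orderOf_eq_prime (by rw [pow_two]; exact hx2) hx1
    have h1 : orderOf (⟨x, hx⟩ : Subgroup.zpowers a) = 2 := by rw [← Subgroup.orderOf_coe]; exact ho
    have h2 : orderOf (⟨z, h.z_mem⟩ : Subgroup.zpowers a) = 2 := by
      rw [← Subgroup.orderOf_coe]; exact h.orderOf_z
    have := Cfsg.Agent.Lib.H9.eq_of_orderOf_two_of_isCyclic h1 h2
    exact congrArg Subtype.val this

theorem comm_A (h : ModSetup S a b z m) {s x : G} (hs : s ∈ S) (hx : x ∈ Subgroup.zpowers a) :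
    s * x * s⁻¹ * x⁻¹ = 1 ∨ s * x * s⁻¹ * x⁻¹ = z := by
  obtain ⟨i, rfl⟩ := Subgroup.mem_zpowers_iff.mp hx
  have h1 : s * a ^ i * s⁻¹ = (s * a * s⁻¹) ^ i := by rw [conj_zpow]
  rw [h1]
  rcases h.conj_a hs with h2 | h2
  · left
    rw [h2, mul_inv_cancel]
  · have hc : Commute a z := commute_of_mem (Subgroup.mem_zpowers a) h.z_mem
    rw [h2, hc.mul_zpow]
    have h3 : a ^ i * z ^ i * (a ^ i)⁻¹ = z ^ i := by
      rw [(hc.zpow_zpow i i).eq]; group
    rw [h3]
    exact mem_zpowers_of_orderOf_two z _ h.orderOf_z (Subgroup.zpow_mem_zpowers z i)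

theorem comm_S (h : ModSetup S a b z m) {s t : G} (hs : s ∈ S) (ht : t ∈ S) :
    ∃ c, (c = 1 ∨ c = z) ∧ t * s = s * t * c := by
  refine ⟨t⁻¹ * s⁻¹ * t * s, ?_, by group⟩
  by_cases hsA : s ∈ Subgroup.zpowers a
  · have := h.comm_A (S.inv_mem ht) ((Subgroup.zpowers a).inv_mem hsA)
    simpa using this
  · by_cases htA : t ∈ Subgroup.zpowers a
    · have h1 := h.comm_A (S.inv_mem hs) htA
      rw [inv_inv] at h1
      have h2 : t⁻¹ * s⁻¹ * t * s = t⁻¹ * (s⁻¹ * t * s * t⁻¹) * t := by group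
      rw [h2]
      rcases h1 with h1 | h1
      · left; rw [h1]; group
      · right
        rw [h1]
        have := h.conj_z (S.inv_mem ht)
        rwa [inv_inv] at this
    · have hx : s⁻¹ * t ∈ Subgroup.zpowers a := by
        rw [h.A_mul_mem_iff (S.inv_mem hs) ht]
        exact ⟨fun h1 => absurd (by simpa using h1) hsA, fun h1 => absurd h1 htA⟩
      have h1 := h.comm_A (S.inv_mem hs) hx
      rw [inv_inv] at h1
      have h2 : t⁻¹ * s⁻¹ * t * s = (s⁻¹ * t)⁻¹ * (s⁻¹ * (s⁻¹ * t) * s * (s⁻¹ * t)⁻¹) * (s⁻¹ * t) := by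
        group
      rw [h2]
      rcases h1 with h1 | h1
      · left; rw [h1]; group
      · right
        rw [h1]
        have := h.conj_z (S.inv_mem (S.mul_mem (S.inv_mem hs) ht))
        rwa [inv_inv] at this

theorem not_comm (h : ModSetup S a b z m) : b * a ≠ a * b := by
  intro hc
  have h1 : b * a * b⁻¹ = a := by rw [hc]; group
  rw [h.hrel] at h1
  exact h.z_ne_one (mul_left_cancel (a := a) (by rw [h1, mul_one]))

theorem pow_exp (h : ModSetup S a b z m) {s : G} (hs : s ∈ S) : s ^ (2 ^ (m + 1)) = 1 := by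
  have h1 : orderOf (⟨s, hs⟩ : S) ∣ Nat.card S := orderOf_dvd_natCard _
  rw [← Subgroup.orderOf_coe, h.hcard] at h1
  change orderOf s ∣ 2 ^ (m + 2) at h1
  obtain ⟨j, hj, hj2⟩ := (Nat.dvd_prime_pow Nat.prime_two).mp h1
  rcases Nat.lt_or_ge j (m + 2) with hlt | hge
  · apply orderOf_dvd_iff_pow_eq_one.mp
    rw [hj2]
    exact pow_dvd_pow 2 (by omega)
  · exfalso
    have hj3 : j = m + 2 := le_antisymm hj hge
    have h3 : Subgroup.zpowers s = S := by
      apply Subgroup.eq_of_le_of_card_ge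
      · rw [Subgroup.zpowers_le]; exact hs
      · rw [Nat.card_zpowers, hj2, hj3, h.hcard]
    have ha : a ∈ Subgroup.zpowers s := by rw [h3]; exact h.haS
    have hb : b ∈ Subgroup.zpowers s := by rw [h3]; exact h.hbS
    obtain ⟨i, rfl⟩ := Subgroup.mem_zpowers_iff.mp ha
    obtain ⟨k, rfl⟩ := Subgroup.mem_zpowers_iff.mp hb
    apply h.not_comm
    rw [← zpow_add, ← zpow_add, add_comm]

theorem powM_mul (h : ModSetup S a b z m) {s t : G} (hs : s ∈ S) (ht : t ∈ S) :
    (s * t) ^ (2 ^ m) = s ^ (2 ^ m) * t ^ (2 ^ m) := by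
  obtain ⟨c, hc, hts⟩ := h.comm_S hs ht
  have hcc : c * c = 1 := by
    rcases hc with rfl | rfl
    · simp
    · exact h.z_mul_self
  have hcs : ∀ u ∈ S, Commute c u := by
    intro u hu
    rcases hc with rfl | rfl
    · exact Commute.one_left u
    · exact (h.commute_z hu).symm
  rw [mul_pow_of_central hts (hcs s hs) (hcs t ht) (2 ^ m)]
  obtain ⟨k, hk⟩ : ∃ k, m = k + 2 := ⟨m - 2, by have := h.hm; omega⟩
  have he : 2 ^ m * (2 ^ m - 1) / 2 = 2 * (2 ^ k * (2 ^ m - 1)) := by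
    have h2m : 2 ^ m = 4 * 2 ^ k := by rw [hk, pow_add]; ring
    have : 2 ^ m * (2 ^ m - 1) = 2 * (2 * (2 ^ k * (2 ^ m - 1))) := by
      generalize 2 ^ m - 1 = M
      rw [h2m]; ring
    rw [this, Nat.mul_div_cancel_left _ (by norm_num : 0 < 2)]
  rw [he, pow_mul, pow_two, hcc, one_pow, mul_one]

theorem mul_self_mem (h : ModSetup S a b z m) {s : G} (hs : s ∈ S) :
    s * s ∈ Subgroup.zpowers a := by
  rw [h.A_mul_mem_iff hs hs]

theorem powM_cases (h : ModSetup S a b z m) {s : G} (hs : s ∈ S) :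
    s ^ (2 ^ m) = 1 ∨ s ^ (2 ^ m) = z := by
  obtain ⟨k, hk⟩ : ∃ k, m = k + 1 := ⟨m - 1, by have := h.hm; omega⟩
  have h1 : s ^ (2 ^ m) = (s * s) ^ (2 ^ k) := by rw [hk, pow_succ', pow_mul, pow_two]
  apply h.unique_inv
  · rw [h1]; exact Subgroup.pow_mem _ (h.mul_self_mem hs) _
  · rw [← pow_add, ← two_mul, ← pow_succ']; exact h.pow_exp hs

theorem commute_aa (h : ModSetup S a b z m) {s x : G} (hs : s ∈ S)
    (hx : x ∈ Subgroup.zpowers (a * a)) : Commute s x := by
  obtain ⟨i, rfl⟩ := Subgroup.mem_zpowers_iff.mp hx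
  apply Commute.zpow_right
  have h1 : s * (a * a) * s⁻¹ = (s * a * s⁻¹) * (s * a * s⁻¹) := by group
  have h2 : s * (a * a) * s⁻¹ = a * a := by
    rw [h1]
    rcases h.conj_a hs with h3 | h3
    · rw [h3]
    · have hc : Commute a z := commute_of_mem (Subgroup.mem_zpowers a) h.z_mem
      rw [h3]
      calc a * z * (a * z) = a * (z * a) * z := by group
        _ = a * (a * z) * z := by rw [hc.eq]
        _ = a * a * (z * z) := by group
        _ = a * a := by rw [h.z_mul_self, mul_one]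
  have h4 : s * (a * a) = s * (a * a) * s⁻¹ * s := by group
  rw [h2] at h4
  exact h4

end ModSetup


/-- Groups with a modular Sylow 2-subgroup have a normal 2-complement. Let S, of order 2^(n+1) with n ≥ 3, be a Sylow 2-subgroup of a finite group G, and suppose S contains an element a of order 2^n and an involution b with b a b⁻¹ = a^(2^(n-1) + 1); so S is the non-abelian 2-group with a cyclic subgroup of index 2 that is neither dihedral, semidihedral nor generalized quaternion. Then G has a normal 2-complement. -/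
theorem result {G : Type*} [Group G] [Finite G]
    (S : Sylow 2 G) (n : ℕ) (hn : 3 ≤ n) (hS : Nat.card ↥(S : Subgroup G) = 2 ^ (n + 1))
    (a b : G) (ha : a ∈ (S : Subgroup G)) (hb : b ∈ (S : Subgroup G))
    (hao : orderOf a = 2 ^ n) (hbo : orderOf b = 2) (hrel : b * a * b⁻¹ = a ^ (2 ^ (n - 1) + 1)) :
    Cfsg.HasNormalPComplement 2 G := by
  haveI : Fact (Nat.Prime 2) := ⟨Nat.prime_two⟩
  obtain ⟨m, rfl⟩ : ∃ m, n = m + 1 := ⟨n - 1, by omega⟩
  have hm : 2 ≤ m := by omega
  set z := a ^ (2 ^ m) with hz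
  have hrel' : b * a * b⁻¹ = a * z := by
    rw [hrel, show m + 1 - 1 = m by omega, pow_succ', hz]
  have h : ModSetup (S : Subgroup G) a b z m := ⟨hm, ha, hb, hS, hao, hz, hrel'⟩
  -- the power homomorphism and its kernel
  let ψ : (S : Subgroup G) →* G :=
    MonoidHom.mk' (fun s => (s : G) ^ (2 ^ m)) (fun s t => h.powM_mul s.2 t.2)
  have hψ : ∀ s : (S : Subgroup G), ψ s = (s : G) ^ (2 ^ m) := fun _ => rfl
  set M : Subgroup G := ψ.ker.map (S : Subgroup G).subtype with hMdef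
  have hmemM : ∀ x : G, x ∈ M ↔ x ∈ (S : Subgroup G) ∧ x ^ (2 ^ m) = 1 := by
    intro x
    constructor
    · rintro ⟨s, hs, rfl⟩
      exact ⟨s.2, hs⟩
    · rintro ⟨hx, hx2⟩
      exact ⟨⟨x, hx⟩, hx2, rfl⟩
  have hrange : ψ.range = Subgroup.zpowers z := by
    apply le_antisymm
    · rintro _ ⟨s, rfl⟩
      rw [hψ]
      rcases h.powM_cases s.2 with h1 | h1
      · rw [h1]; exact Subgroup.one_mem _
      · rw [h1]; exact Subgroup.mem_zpowers z
    · rw [Subgroup.zpowers_le]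
      exact ⟨⟨a, ha⟩, rfl⟩
  have hM : M.relIndex (S : Subgroup G) = 2 := by
    have h1 : M.subgroupOf (S : Subgroup G) = ψ.ker :=
      Subgroup.comap_map_eq_self_of_injective (S : Subgroup G).subtype_injective _
    rw [Subgroup.relIndex, h1, Subgroup.index_ker, hrange, Nat.card_zpowers, h.orderOf_z]
  -- Thompson transfer
  have hord : ∀ y ∈ (S : Subgroup G), y ∉ M → 2 ^ (m + 1 - 1) < orderOf y := by
    intro y hy hyM
    have hy2 : y ^ (2 ^ m) ≠ 1 := fun h2 => hyM ((hmemM y).mpr ⟨hy, h2⟩)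
    have h1 : orderOf y ∣ 2 ^ (m + 1) := orderOf_dvd_of_pow_eq_one (h.pow_exp hy)
    obtain ⟨j, hj, hj2⟩ := (Nat.dvd_prime_pow Nat.prime_two).mp h1
    rw [show m + 1 - 1 = m by omega, hj2]
    apply Nat.pow_lt_pow_right (by norm_num)
    by_contra hle
    push Not at hle
    apply hy2
    apply orderOf_dvd_iff_pow_eq_one.mp
    rw [hj2]
    exact pow_dvd_pow 2 hle
  have hcon : ∀ g : G, g * a * g⁻¹ ∉ M := by
    intro g hg
    have h1 := ((hmemM _).mp hg).2
    rw [conj_pow, ← hz] at h1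
    apply h.z_ne_one
    have : z = g⁻¹ * (g * z * g⁻¹) * g := by group
    rw [this, h1]; group
  obtain ⟨K, hKn, hKidx, haK⟩ := exists_normal_index_two_not_mem S M hM (m + 1) hord a hao hcon
  haveI := hKn
  -- facts about K
  have haaK : a * a ∈ K := Subgroup.mul_self_mem_of_index_two hKidx a
  have haaA : Subgroup.zpowers (a * a) ≤ Subgroup.zpowers a := by
    rw [Subgroup.zpowers_le]
    exact Subgroup.mul_mem _ (Subgroup.mem_zpowers a) (Subgroup.mem_zpowers a)
  have haaK' : Subgroup.zpowers (a * a) ≤ K := by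
    rw [Subgroup.zpowers_le]; exact haaK
  have hAK : ∀ x ∈ Subgroup.zpowers a, x ∈ K → x ∈ Subgroup.zpowers (a * a) := by
    intro x hx hxK
    obtain ⟨i, rfl⟩ := Subgroup.mem_zpowers_iff.mp hx
    rcases Int.even_or_odd' i with ⟨j, rfl | rfl⟩
    · rw [zpow_mul, zpow_two]
      exact Subgroup.zpow_mem_zpowers _ j
    · exfalso
      apply haK
      have h1 : (a * a) ^ j ∈ K := haaK' (Subgroup.zpow_mem_zpowers _ j)
      have h2 : a = ((a * a) ^ j)⁻¹ * a ^ (2 * j + 1) := by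
        rw [zpow_add, zpow_mul, zpow_two, zpow_one]; group
      rw [h2]
      exact K.mul_mem (K.inv_mem h1) hxK
  -- the Sylow 2-subgroup of K
  have hPK2 : IsPGroup 2 ((S : Subgroup G).subgroupOf K) := S.2.comap_subtype
  have hPKidx : ¬ 2 ∣ ((S : Subgroup G).subgroupOf K).index := by
    intro hd
    have h1 : (S : Subgroup G).relIndex K ∣ (S : Subgroup G).index :=
      Cfsg.Agent.Lib.H1.relIndex_dvd_index_of_normal_right (S : Subgroup G) K
    exact S.not_dvd_index (hd.trans h1)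
  set PK : Sylow 2 K := hPK2.toSylow hPKidx with hPKdef
  have hmemPK : ∀ x : K, x ∈ PK ↔ (x : G) ∈ (S : Subgroup G) := by
    intro x
    rw [hPKdef, IsPGroup.mem_toSylow, Subgroup.mem_subgroupOf]
  -- z and w
  obtain ⟨k, hk⟩ : ∃ k, m = k + 2 := ⟨m - 2, by omega⟩
  set w := a ^ (2 ^ (k + 1)) with hw
  have hww : w * w = z := by
    rw [hw, hz, ← pow_add, ← two_mul, ← pow_succ', hk]
  have hwaa : w ∈ Subgroup.zpowers (a * a) := by
    have : w = (a * a) ^ (2 ^ k) := by rw [hw, pow_succ', pow_mul, pow_two]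
    rw [this]; exact Subgroup.pow_mem _ (Subgroup.mem_zpowers _) _
  have hzaa : z ∈ Subgroup.zpowers (a * a) := by
    rw [← hww]; exact Subgroup.mul_mem _ hwaa hwaa
  have hzK : z ∈ K := haaK' hzaa
  have hkey := hasNormalPComplement_two_of_abelian_sylow (H := K) PK ?_
    ((Subgroup.zpowers (a * a)).subgroupOf K) ⟨z, hzK⟩ ?_ ?_ ?_ ?_
  · exact hasNormalPComplement_of_normal_of_index_pow K ⟨1, by rw [hKidx, pow_one]⟩ hkey
  · -- abelian
    intro x hx y hy
    rw [hmemPK] at hx hy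
    apply Subtype.ext
    change (x : G) * (y : G) = (y : G) * (x : G)
    by_cases hxA : (x : G) ∈ Subgroup.zpowers a
    · exact (h.commute_aa hy (hAK _ hxA x.2)).eq.symm
    · by_cases hyA : (y : G) ∈ Subgroup.zpowers a
      · exact (h.commute_aa hx (hAK _ hyA y.2)).eq
      · have hc : (x : G)⁻¹ * (y : G) ∈ Subgroup.zpowers a := by
          rw [h.A_mul_mem_iff ((S : Subgroup G).inv_mem hx) hy]
          exact ⟨fun h1 => absurd (by simpa using h1) hxA, fun h1 => absurd h1 hyA⟩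
        have hcK : (x : G)⁻¹ * (y : G) ∈ K := K.mul_mem (K.inv_mem x.2) y.2
        have hcomm := h.commute_aa hx (hAK _ hc hcK)
        calc (x : G) * (y : G) = (x : G) * ((x : G) * ((x : G)⁻¹ * (y : G))) := by group
          _ = (x : G) * (((x : G)⁻¹ * (y : G)) * (x : G)) := by rw [hcomm.eq]
          _ = (y : G) * (x : G) := by group
  · -- z ≠ 1
    intro h1
    exact h.z_ne_one (congrArg Subtype.val h1)
  · -- unique involution
    intro v hv hv2
    rw [Subgroup.mem_subgroupOf] at hv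
    have hv2' : (v : G) * (v : G) = 1 := congrArg Subtype.val hv2
    rcases h.unique_inv (haaA hv) hv2' with h1 | h1
    · left; exact Subtype.ext h1
    · right; exact Subtype.ext h1
  · -- index two
    intro x hx y hy hxC hyC
    rw [hmemPK] at hx hy
    rw [Subgroup.mem_subgroupOf] at hxC hyC ⊢
    have hxA : (x : G) ∉ Subgroup.zpowers a := fun h1 => hxC (hAK _ h1 x.2)
    have hyA : (y : G) ∉ Subgroup.zpowers a := fun h1 => hyC (hAK _ h1 y.2)
    apply hAK
    · rw [Subgroup.coe_mul, h.A_mul_mem_iff hx hy]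
      exact ⟨fun h1 => absurd h1 hxA, fun h1 => absurd h1 hyA⟩
    · exact (x * y).2
  · -- the normalizer fixes z
    intro g hg
    apply Subtype.ext
    change (g : G) * z * (g : G)⁻¹ = z
    have hwPK : (⟨w, haaK' hwaa⟩ : K) ∈ (PK : Subgroup K) := by
      change (⟨w, haaK' hwaa⟩ : K) ∈ PK
      rw [hmemPK]
      exact h.zpowers_le (haaA hwaa)
    have h1 := (Subgroup.mem_normalizer_iff.mp hg _).mp hwPK
    change g * (⟨w, haaK' hwaa⟩ : K) * g⁻¹ ∈ PK at h1
    rw [hmemPK] at h1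
    have hu : (g : G) * w * (g : G)⁻¹ ∈ (S : Subgroup G) := h1
    have huu : ((g : G) * w * (g : G)⁻¹) * ((g : G) * w * (g : G)⁻¹) = (g : G) * z * (g : G)⁻¹ := by
      rw [← hww]; group
    have h2 := h.mul_self_mem hu
    rw [huu] at h2
    have h3 : ((g : G) * z * (g : G)⁻¹) * ((g : G) * z * (g : G)⁻¹) = 1 := by
      calc ((g : G) * z * (g : G)⁻¹) * ((g : G) * z * (g : G)⁻¹)
          = (g : G) * (z * z) * (g : G)⁻¹ := by group
        _ = 1 := by rw [h.z_mul_self]; group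
    rcases h.unique_inv h2 h3 with h4 | h4
    · exfalso
      apply h.z_ne_one
      have : z = (g : G)⁻¹ * ((g : G) * z * (g : G)⁻¹) * (g : G) := by group
      rw [this, h4]; group
    · exact h4

end Cfsg.Agent.S3178
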