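import Mathlib
import Cfsg.Statements.S3179
import Cfsg.Agent.Lib.H2.PSLCard
import Cfsg.Agent.Lib.H2.SzB3
import Cfsg.Agent.Lib.H2.Sz6
import Cfsg.Agent.S0280
import Cfsg.Agent.Lib.H5.SL2Char2

set_option autoImplicit false
open Cfsg

namespace Cfsg.Agent.S3179

open Matrix

theorem card_GL52 : Nat.card (GL (Fin 5) (ZMod 2)) = 9999360 := by
  rw [Matrix.card_GL_field]
  simp [Fin.prod_univ_succ, ZMod.card]

/-- a permutation of order dividing 9: the points not fixed by its cube come in orbits of size 9 -/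
theorem nine_dvd_card {X : Type*} (σ : Equiv.Perm X) (h9 : σ ^ 9 = 1) :
    9 ∣ Nat.card {x : X // (σ ^ 3) x ≠ x} := by
  by_cases h3 : σ ^ 3 = 1
  · have : IsEmpty {x : X // (σ ^ 3) x ≠ x} := ⟨fun ⟨x, hx⟩ => hx (by rw [h3]; rfl)⟩
    rw [Nat.card_of_isEmpty]
    exact dvd_zero _
  have hord : orderOf σ = 3 ^ (1 + 1) := orderOf_eq_prime_pow (p := 3) (n := 1) (by simpa using h3)
    (by simpa using h9)
  let H := Subgroup.zpowers σ
  have hcomm : ∀ k : ℤ, (σ ^ 3) * (σ ^ k) = (σ ^ k) * (σ ^ 3) := fun k =>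
    (((Commute.refl σ).pow_left 3).zpow_right k).eq
  let S : SubMulAction H X :=
    { carrier := {x | (σ ^ 3) x ≠ x}
      smul_mem' := by
        rintro ⟨h, hh⟩ x hx
        obtain ⟨k, rfl⟩ := Subgroup.mem_zpowers_iff.1 hh
        show (σ ^ 3) ((σ ^ k) x) ≠ (σ ^ k) x
        intro h1
        apply hx
        have h2 : (σ ^ k) ((σ ^ 3) x) = (σ ^ k) x := by
          rw [← Equiv.Perm.mul_apply, ← hcomm, Equiv.Perm.mul_apply, h1]
        exact (σ ^ k).injective h2 }
  have hfree : ∀ b : S, MulAction.stabilizer H b = ⊥ := by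
    rintro ⟨x, hx⟩
    rw [eq_bot_iff]
    rintro ⟨h, hh⟩ hmem
    rw [Subgroup.mem_bot]
    rw [MulAction.mem_stabilizer_iff] at hmem
    have hfix : h x = x := congrArg Subtype.val hmem
    obtain ⟨k, rfl⟩ := Subgroup.mem_zpowers_iff.1 hh
    apply Subtype.ext
    show σ ^ k = 1
    have hk : σ ^ k = σ ^ (k % 9) := zpow_eq_zpow_emod k (by exact_mod_cast h9)
    obtain ⟨r, hr⟩ : ∃ r : ℕ, k % 9 = (r : ℤ) := ⟨(k % 9).toNat, by omega⟩
    have hr9 : r < 9 := by omega
    rw [hk, hr, zpow_natCast] at hfix ⊢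
    by_contra hne
    apply hx
    have hall : ∀ a : ℕ, ((σ ^ r) ^ a) x = x := fun a =>
      Equiv.Perm.pow_apply_eq_self_of_apply_eq_self hfix a
    have key : ∀ a : ℕ, (r * a) % 9 = 3 → (σ ^ 3) x = x := by
      intro a ha
      have := hall a
      rwa [← pow_mul, pow_eq_pow_mod (r * a) h9, ha] at this
    interval_cases r
    · exact absurd (pow_zero σ) hne
    · exact key 3 (by norm_num)
    · exact key 6 (by norm_num)
    · exact key 1 (by norm_num)
    · exact key 3 (by norm_num)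
    · exact key 6 (by norm_num)
    · exact key 2 (by norm_num)
    · exact key 3 (by norm_num)
    · exact key 6 (by norm_num)
  have hdvd : Nat.card H ∣ Nat.card S := by
    rw [Nat.card_congr (MulAction.selfEquivOrbitsQuotientProd hfree), Nat.card_prod]
    exact Dvd.intro_left _ rfl
  have hH : Nat.card H = 9 := by
    rw [Nat.card_zpowers, hord]; norm_num
  rw [hH] at hdvd
  exact hdvd


/-- the permutation of the vectors given by an invertible matrix -/
def vperm : GL (Fin 5) (ZMod 2) →* Equiv.Perm (Fin 5 → ZMod 2) where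
  toFun g :=
    { toFun := fun v => (g : Matrix (Fin 5) (Fin 5) (ZMod 2)) *ᵥ v
      invFun := fun v => ((g⁻¹ : GL (Fin 5) (ZMod 2)) : Matrix (Fin 5) (Fin 5) (ZMod 2)) *ᵥ v
      left_inv := fun v => by
        simp only [Matrix.mulVec_mulVec]
        rw [← Matrix.GeneralLinearGroup.coe_mul, inv_mul_cancel]
        simp
      right_inv := fun v => by
        simp only [Matrix.mulVec_mulVec]
        rw [← Matrix.GeneralLinearGroup.coe_mul, mul_inv_cancel]
        simp }
  map_one' := by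
    ext v
    simp
  map_mul' := fun g h => by
    ext v
    simp [Matrix.mulVec_mulVec]

theorem vperm_apply (g : GL (Fin 5) (ZMod 2)) (v : Fin 5 → ZMod 2) :
    vperm g v = (g : Matrix (Fin 5) (Fin 5) (ZMod 2)) *ᵥ v := rfl

theorem vperm_injective : Function.Injective vperm := by
  intro g h hgh
  apply Units.ext
  apply Matrix.mulVec_injective
  funext v
  have := congrArg (fun σ : Equiv.Perm (Fin 5 → ZMod 2) => σ v) hgh
  simpa [vperm_apply] using this

/-- no element of order `9` in `GL₅(2)` -/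
theorem pow_three_of_pow_nine (g : GL (Fin 5) (ZMod 2)) (h9 : g ^ 9 = 1) : g ^ 3 = 1 := by
  classical
  have h9' : (vperm g) ^ 9 = 1 := by rw [← map_pow, h9, map_one]
  have hd := nine_dvd_card (vperm g) h9'
  -- the fixed space of `g ^ 3`
  let f : (Fin 5 → ZMod 2) →ₗ[ZMod 2] (Fin 5 → ZMod 2) :=
    Matrix.toLin' ((g ^ 3 : GL (Fin 5) (ZMod 2)) : Matrix (Fin 5) (Fin 5) (ZMod 2)) - LinearMap.id
  have hker : ∀ v, v ∈ LinearMap.ker f ↔ ((vperm g) ^ 3) v = v := by
    intro v
    rw [LinearMap.mem_ker, ← map_pow, vperm_apply]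
    simp only [f, LinearMap.sub_apply, Matrix.toLin'_apply, LinearMap.id_apply, sub_eq_zero]
  have hcardW : Nat.card (LinearMap.ker f) = 2 ^ Module.finrank (ZMod 2) (LinearMap.ker f) := by
    rw [Module.natCard_eq_pow_finrank (K := ZMod 2), Nat.card_zmod]
  have hle : Module.finrank (ZMod 2) (LinearMap.ker f) ≤ 5 := by
    have := Submodule.finrank_le (LinearMap.ker f)
    simpa using this
  have hsplit : Nat.card (LinearMap.ker f) + Nat.card {x : Fin 5 → ZMod 2 // ((vperm g) ^ 3) x ≠ x}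
      = 32 := by
    have h1 : Nat.card (LinearMap.ker f) =
        Nat.card {x : Fin 5 → ZMod 2 // ((vperm g) ^ 3) x = x} :=
      Nat.card_congr (Equiv.subtypeEquivRight hker)
    rw [h1]
    have h2 := Fintype.card_subtype_compl (fun x : Fin 5 → ZMod 2 => ((vperm g) ^ 3) x = x)
    simp only [Nat.card_eq_fintype_card]
    have h3 : Fintype.card (Fin 5 → ZMod 2) = 32 := by simp [ZMod.card]
    have h4 := Fintype.card_subtype_le (fun x : Fin 5 → ZMod 2 => ((vperm g) ^ 3) x = x)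
    have h5 : Fintype.card {x : Fin 5 → ZMod 2 // ((vperm g) ^ 3) x ≠ x} =
        Fintype.card {x : Fin 5 → ZMod 2 // ¬ ((vperm g) ^ 3) x = x} := rfl
    omega
  rw [hcardW] at hsplit
  obtain ⟨c, hc⟩ := hd
  have hd5 : Module.finrank (ZMod 2) (LinearMap.ker f) = 5 := by
    generalize Module.finrank (ZMod 2) (LinearMap.ker f) = d at *
    interval_cases d <;> omega
  -- so everything is fixed
  have htop : LinearMap.ker f = ⊤ := by
    apply Submodule.eq_top_of_finrank_eq
    rw [hd5]; simp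
  apply vperm_injective
  rw [map_pow, map_one]
  ext v
  have : v ∈ LinearMap.ker f := by rw [htop]; exact Submodule.mem_top
  rw [(hker v).1 this]
  rfl


/-- sections of `GL₅(2)` have no element of order `9` -/
theorem section_no_nine {H : Subgroup (GL (Fin 5) (ZMod 2))} {K : Subgroup ↥H} [K.Normal]
    (x : ↥H ⧸ K) (hx : orderOf x = 9) : False := by
  obtain ⟨h, rfl⟩ := QuotientGroup.mk_surjective x
  have hn : 0 < orderOf h := orderOf_pos h
  have h1 : ((h ^ orderOf h : ↥H) : ↥H ⧸ K) = 1 := by rw [pow_orderOf_eq_one]; rfl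
  have h2 : orderOf (h : ↥H ⧸ K) ∣ orderOf h := by
    apply orderOf_dvd_of_pow_eq_one
    rw [← QuotientGroup.mk_pow]; exact h1
  rw [hx] at h2
  obtain ⟨k, hk⟩ := h2
  have h3 : ((h : GL (Fin 5) (ZMod 2)) ^ k) ^ 9 = 1 := by
    rw [← pow_mul, mul_comm, ← hk, ← Subgroup.coe_pow, pow_orderOf_eq_one]; rfl
  have h4 := pow_three_of_pow_nine _ h3
  have h5 : h ^ (k * 3) = 1 := by
    apply Subtype.ext
    rw [Subgroup.coe_pow, pow_mul, h4]; rfl
  have h6 := orderOf_dvd_of_pow_eq_one h5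
  rw [hk] at h6
  have h7 := Nat.le_of_dvd (by omega) h6
  omega

section psl8

variable {F : Type*} [Field F] [Fintype F]

theorem exists_t (hF : Fintype.card F = 8) (h2 : (2 : F) = 0) : ∃ t : F, t ^ 3 = t + 1 := by
  obtain ⟨a, b, c, hab, hac, hbc⟩ := Fintype.two_lt_card_iff.1 (by rw [hF]; norm_num : 2 < Fintype.card F)
  obtain ⟨s, hs0, hs1⟩ : ∃ s : F, s ≠ 0 ∧ s ≠ 1 := by
    by_cases ha0 : a = 0
    · by_cases hb1 : b = 1
      · refine ⟨c, ?_, ?_⟩
        · rw [← ha0]; exact fun h => hac h.symm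
        · rw [← hb1]; exact fun h => hbc h.symm
      · refine ⟨b, ?_, hb1⟩
        rw [← ha0]; exact fun h => hab h.symm
    · by_cases ha1 : a = 1
      · by_cases hb0 : b = 0
        · refine ⟨c, ?_, ?_⟩
          · rw [← hb0]; exact fun h => hbc h.symm
          · rw [← ha1]; exact fun h => hac h.symm
        · refine ⟨b, hb0, ?_⟩
          rw [← ha1]; exact fun h => hab h.symm
      · exact ⟨a, ha0, ha1⟩
  have h8 : s ^ 8 = s := by
    have := FiniteField.pow_card s
    rwa [hF] at this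
  have hprod : (s ^ 3 + s + 1) * (s ^ 3 + s ^ 2 + 1) = 0 := by
    have h7 : s * (s - 1) * ((s ^ 3 + s + 1) * (s ^ 3 + s ^ 2 + 1)) = 0 := by
      linear_combination h8 + (s ^ 5 - s ^ 4) * h2
    rcases mul_eq_zero.1 h7 with h | h
    · rcases mul_eq_zero.1 h with h | h
      · exact absurd h hs0
      · exact absurd (sub_eq_zero.1 h) hs1
    · exact h
  rcases mul_eq_zero.1 hprod with h | h
  · exact ⟨s, by linear_combination h - (s + 1) * h2⟩
  · exact ⟨s + 1, by linear_combination h + (s ^ 2 + s - 1) * h2⟩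


/-- coefficients of the powers of a matrix with `A * A = t • A + 1` -/
def coef (t : F) : ℕ → F × F
  | 0 => (0, 1)
  | (n + 1) => ((coef t n).1 * t + (coef t n).2, (coef t n).1)

omit [Fintype F] in
theorem pow_eq_coef (t : F) (A : Matrix (Fin 2) (Fin 2) F) (hA2 : A * A = t • A + 1) (n : ℕ) :
    A ^ n = (coef t n).1 • A + (coef t n).2 • (1 : Matrix (Fin 2) (Fin 2) F) := by
  induction n with
  | zero => simp [coef]
  | succ n ih =>
    rw [pow_succ, ih]
    show _ = ((coef t n).1 * t + (coef t n).2) • A + (coef t n).1 • (1 : Matrix (Fin 2) (Fin 2) F)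
    rw [add_mul, smul_mul_assoc, smul_mul_assoc, one_mul, hA2, smul_add, smul_smul, add_smul]
    abel

theorem two_eq_zero_of_card (hF : Fintype.card F = 8) : (2 : F) = 0 := by
  have h1 : ringChar F = 2 := FiniteField.even_card_iff_char_two.mpr (by rw [hF])
  have : CharP F 2 := ringChar.of_eq h1
  exact CharTwo.two_eq_zero

theorem exists_order_nine (hF : Fintype.card F = 8) :
    ∃ x : Matrix.ProjectiveSpecialLinearGroup (Fin 2) F, orderOf x = 9 := by
  have h2 : (2 : F) = 0 := two_eq_zero_of_card hF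
  obtain ⟨t, ht⟩ := exists_t hF h2
  obtain ⟨A, hA⟩ : ∃ A : Matrix (Fin 2) (Fin 2) F, A = !![0, 1; 1, t] := ⟨_, rfl⟩
  have hdet : A.det = 1 := by
    rw [hA, Matrix.det_fin_two_of]
    linear_combination (-1 : F) * h2
  have hA2 : A * A = t • A + 1 := by
    rw [hA]
    ext i j
    fin_cases i <;> fin_cases j <;> simp [Matrix.mul_apply, Fin.sum_univ_two] <;> ring
  have h9 : A ^ 9 = 1 := by
    rw [pow_eq_coef t A hA2 9]
    have e1 : (coef t 9).1 = 0 := by
      simp only [coef]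
      linear_combination (9 + 23 * t + t ^ 2 + 8 * t ^ 3 + t ^ 5) * ht + (5 + 16 * t + 17 * t ^ 2) * h2
    have e2 : (coef t 9).2 = 1 := by
      simp only [coef]
      linear_combination (17 + t + 7 * t ^ 2 + t ^ 4) * ht + (8 + 11 * t + 4 * t ^ 2) * h2
    rw [e1, e2, zero_smul, one_smul, zero_add]
  have h3 : A ^ 3 ≠ 1 := by
    intro h
    rw [pow_eq_coef t A hA2 3] at h
    have h01 := congrArg (fun M : Matrix (Fin 2) (Fin 2) F => M 0 1) h
    simp only [coef, hA] at h01
    simp at h01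
    have h1 : (1 : F) = 0 := by
      linear_combination (-1 : F) * ht + t * h01 - t * h2
    exact one_ne_zero h1
  let C : Matrix.SpecialLinearGroup (Fin 2) F := ⟨A, hdet⟩
  have hC9 : C ^ 9 = 1 := by
    apply Subtype.ext
    rw [Matrix.SpecialLinearGroup.coe_pow]
    exact h9
  have hC3 : C ^ 3 ≠ 1 := by
    intro h
    apply h3
    have := congrArg Subtype.val h
    rwa [Matrix.SpecialLinearGroup.coe_pow] at this
  have hord : orderOf C = 3 ^ (1 + 1) := orderOf_eq_prime_pow (p := 3) (n := 1) (by simpa using hC3)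
    (by simpa using hC9)
  refine ⟨(C : Matrix.ProjectiveSpecialLinearGroup (Fin 2) F), ?_⟩
  have hinj := Cfsg.Agent.Lib.H5.SL2Char2.mk_injective h2
  have := orderOf_injective (QuotientGroup.mk' (Subgroup.center (Matrix.SpecialLinearGroup (Fin 2) F))) hinj C
  rw [hord] at this
  exact this

end psl8

/-- Let X be a section of the general linear group GL(5, 2), that is, a quotient of a subgroup of it. If X is isomorphic to PSL(2, 2^n) for some n ≥ 2, to a Suzuki group over the field with 2^(2m+1) elements for some m ≥ 1, or to PSU(3, 2^n) for some n ≥ 2, then X is isomorphic to PSL(2, 4). -/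
theorem result {H : Subgroup (GL (Fin 5) (ZMod 2))}
    {K : Subgroup ↥H} [K.Normal]
    (hX : (∃ (n : ℕ) (F : Type) (_ : Field F) (_ : Fintype F), 2 ≤ n ∧ Fintype.card F = 2 ^ n ∧
        Nonempty (↥H ⧸ K ≃* Matrix.ProjectiveSpecialLinearGroup (Fin 2) F)) ∨
      (∃ (m : ℕ) (F : Type) (_ : Field F) (_ : Fintype F), 1 ≤ m ∧ Fintype.card F = 2 ^ (2 * m + 1) ∧
        Nonempty (↥H ⧸ K ≃* ↥(Cfsg.Lie.Sz F (2 ^ (m + 1))))) ∨
      (∃ (n : ℕ) (F : Type) (_ : Field F) (_ : Fintype F), 2 ≤ n ∧ Fintype.card F = 4 ^ n ∧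
        Nonempty (↥H ⧸ K ≃* Cfsg.PSU 3 F (2 ^ n)))) :
    ∃ (F : Type) (_ : Field F) (_ : Fintype F), Fintype.card F = 4 ∧
      Nonempty (↥H ⧸ K ≃* Matrix.ProjectiveSpecialLinearGroup (Fin 2) F) := by
  have hdiv : Nat.card (↥H ⧸ K) ∣ 9999360 := by
    rw [← card_GL52]
    have h1 := Subgroup.card_eq_card_quotient_mul_card_subgroup K
    exact (Dvd.intro _ h1.symm).trans (Subgroup.card_subgroup_dvd_card H)
  rcases hX with ⟨n, F, _, _, hn, hF, ⟨e⟩⟩ | ⟨m, F, _, _, hm, hF, ⟨e⟩⟩ | ⟨n, F, _, _, hn, hF, ⟨e⟩⟩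
  · -- `PSL₂(2^n)`
    have hcard : Nat.card (↥H ⧸ K) = 2 ^ n * ((2 ^ n) ^ 2 - 1) := by
      rw [Nat.card_congr e.toEquiv]
      have := Cfsg.Agent.Lib.H2.card_PSL2_mul (F := F)
      rw [hF] at this
      have hg : Nat.gcd 2 (2 ^ n - 1) = 1 := by
        have hodd : ¬ 2 ∣ 2 ^ n - 1 := by
          have h1 : 2 ∣ 2 ^ n := dvd_pow_self 2 (by omega)
          have h2 : 0 < 2 ^ n := by positivity
          omega
        exact (Nat.Prime.coprime_iff_not_dvd Nat.prime_two).2 hodd
      rw [hg, one_mul] at this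
      exact this
    rw [hcard] at hdiv
    have hn8 : n < 8 := by
      by_contra hge
      push Not at hge
      have h256 : 2 ^ 8 ≤ 2 ^ n := Nat.pow_le_pow_right (by norm_num) hge
      have h1 : 2 ^ 8 * ((2 ^ 8) ^ 2 - 1) ≤ 2 ^ n * ((2 ^ n) ^ 2 - 1) :=
        Nat.mul_le_mul h256 (Nat.sub_le_sub_right (Nat.pow_le_pow_left h256 2) 1)
      have h2 := Nat.le_of_dvd (by norm_num) hdiv
      norm_num at h1
      omega
    interval_cases n
    · exact ⟨F, _, _, by simpa using hF, ⟨e⟩⟩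
    · exfalso
      obtain ⟨x, hx⟩ := exists_order_nine (F := F) (by simpa using hF)
      apply section_no_nine (e.symm x)
      rw [MulEquiv.orderOf_eq]
      exact hx
    all_goals (exfalso; norm_num at hdiv)
  · -- Suzuki groups
    exfalso
    have h := Cfsg.Agent.Lib.H2.Sz.fld_of_card hF
    have hc := Cfsg.Agent.Lib.H2.Sz.card_Sz h hm hF
    have hcard : Nat.card (↥H ⧸ K) =
        (2 ^ (2 * m + 1)) ^ 2 * ((2 ^ (2 * m + 1)) ^ 2 + 1) * (2 ^ (2 * m + 1) - 1) := by
      rw [Nat.card_congr e.toEquiv, ← Nat.card_congr (Cfsg.Agent.Lib.H2.SzB.bridge h hm hF).toEquiv, hc]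
    rw [hcard] at hdiv
    have hm2 : m < 2 := by
      by_contra hge
      push Not at hge
      have h32 : 2 ^ 5 ≤ 2 ^ (2 * m + 1) := Nat.pow_le_pow_right (by norm_num) (by omega)
      have h1 : (2 ^ 5) ^ 2 * ((2 ^ 5) ^ 2 + 1) * (2 ^ 5 - 1) ≤
          (2 ^ (2 * m + 1)) ^ 2 * ((2 ^ (2 * m + 1)) ^ 2 + 1) * (2 ^ (2 * m + 1) - 1) :=
        Nat.mul_le_mul (Nat.mul_le_mul (Nat.pow_le_pow_left h32 2)
          (Nat.add_le_add_right (Nat.pow_le_pow_left h32 2) 1)) (Nat.sub_le_sub_right h32 1)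
      have h2 := Nat.le_of_dvd (by norm_num) hdiv
      norm_num at h1
      omega
    interval_cases m
    norm_num at hdiv
  · -- `PSU₃(2^n)`
    exfalso
    have hF' : Fintype.card F = (2 ^ n) ^ 2 := by
      rw [hF, ← pow_mul, mul_comm, pow_mul]; norm_num
    have h := Cfsg.Agent.S0280.result (F := F) (q := 2 ^ n) hF' 3 (by norm_num)
    simp only [Finset.prod_range_succ, Finset.prod_range_zero, one_mul] at h
    norm_num at h
    have hq4 : 2 ^ 2 ≤ 2 ^ n := Nat.pow_le_pow_right (by norm_num) hn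
    obtain ⟨q, hq⟩ : ∃ q : ℕ, q = 2 ^ n := ⟨_, rfl⟩
    rw [← hq] at h hq4
    have hg3 : Nat.gcd 3 (q + 1) ∣ 3 := Nat.gcd_dvd_left _ _
    have hg : Nat.gcd 3 (q + 1) * Nat.card (Cfsg.PSU 3 F q) = q ^ 3 * (q ^ 2 - 1) * (q ^ 3 + 1) := by
      have hpos : 0 < q + 1 := by omega
      apply Nat.eq_of_mul_eq_mul_left hpos
      rw [show (q + 1) * (Nat.gcd 3 (q + 1) * Nat.card (Cfsg.PSU 3 F q)) =
        Nat.gcd 3 (q + 1) * ((q + 1) * Nat.card (Cfsg.PSU 3 F q)) by ring, h]
      ring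
    have hdiv2 : q ^ 3 * (q ^ 2 - 1) * (q ^ 3 + 1) ∣ 3 * 9999360 := by
      rw [← hg]
      apply Nat.mul_dvd_mul hg3
      rw [hq, ← Nat.card_congr e.toEquiv]
      exact hdiv
    have hn4 : n < 4 := by
      by_contra hge
      push Not at hge
      have h16 : 2 ^ 4 ≤ q := by rw [hq]; exact Nat.pow_le_pow_right (by norm_num) hge
      have h1 : (2 ^ 4) ^ 3 * ((2 ^ 4) ^ 2 - 1) * ((2 ^ 4) ^ 3 + 1) ≤
          q ^ 3 * (q ^ 2 - 1) * (q ^ 3 + 1) :=
        Nat.mul_le_mul (Nat.mul_le_mul (Nat.pow_le_pow_left h16 3)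
          (Nat.sub_le_sub_right (Nat.pow_le_pow_left h16 2) 1))
          (Nat.add_le_add_right (Nat.pow_le_pow_left h16 3) 1)
      have h2 := Nat.le_of_dvd (by norm_num) hdiv2
      norm_num at h1
      omega
    interval_cases n <;> (subst hq; norm_num at hdiv2)

end Cfsg.Agent.S3179
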