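-- Statement S3180
import Cfsg.Statements.S3180
import Cfsg.Agent.Lib.H16.SylowBasic
import Mathlib

set_option autoImplicit false
open Cfsg
open Cfsg.Agent.Lib.H16

namespace Cfsg.Agent.S3180

/-- Let P be a Sylow p-subgroup of a finite group J and P₁ a subgroup of P that is weakly closed in P with respect to J. If J acts on a set and two points, each fixed by every element of P₁, lie in one J-orbit, then they lie in one orbit of the normalizer of P₁ in J. -/
theorem result {J : Type*} [Group J] [Finite J]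
    {p : ℕ} [Fact p.Prime] (P : Sylow p J) (P₁ : Subgroup J) (hW : Cfsg.IsWeaklyClosed P₁ (P : Subgroup J))
    {Ω : Type*} [MulAction J Ω] (x y : Ω) (hx : ∀ g ∈ P₁, g • x = x) (hy : ∀ g ∈ P₁, g • y = y)
    (hc : ∃ g : J, g • x = y) :
    ∃ g ∈ Subgroup.normalizer (P₁ : Set J), g • x = y := by
  obtain ⟨g, hg⟩ := hc
  obtain ⟨hle, hwc⟩ := hW
  have hP₁p : IsPGroup p P₁ := P.2.to_le hle
  set H := MulAction.stabilizer J y with hH
  have hP₁H : P₁ ≤ H := fun a ha => by
    rw [hH, MulAction.mem_stabilizer_iff]; exact hy a ha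
  have hconjH : ∀ a ∈ P₁, g * a * g⁻¹ ∈ H := by
    intro a ha
    rw [hH, MulAction.mem_stabilizer_iff, ← hg, ← mul_smul]
    have : g * a * g⁻¹ * g = g * a := by group
    rw [this, mul_smul, hx a ha]
  -- Sylow subgroup of H containing P₁
  have hA : IsPGroup p (P₁.subgroupOf H) := hP₁p.comap_subtype
  obtain ⟨S, hS⟩ := hA.exists_le_sylow
  -- the conjugate of P₁ by g, inside H
  have hB : IsPGroup p ((P₁.map (MulAut.conj g).toMonoidHom).subgroupOf H) :=
    (hP₁p.map _).comap_subtype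
  obtain ⟨h, hh⟩ := exists_conj_mem_sylow _ hB S
  -- image of S in J
  have hT : IsPGroup p ((S : Subgroup H).map H.subtype) := S.2.map _
  obtain ⟨k, hk⟩ := exists_conj_mem_sylow _ hT P
  -- k normalizes P₁
  have hk1 : P₁.map (MulAut.conj k).toMonoidHom = P₁ := by
    apply hwc
    rintro z ⟨a, ha, rfl⟩
    simp only [MulEquiv.coe_toMonoidHom, MulAut.conj_apply]
    apply hk
    refine ⟨⟨a, hP₁H ha⟩, ?_, rfl⟩
    apply hS
    rw [Subgroup.mem_subgroupOf]
    exact ha
  -- k * h * g normalizes P₁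
  have hk2 : P₁.map (MulAut.conj (k * h * g)).toMonoidHom = P₁ := by
    apply hwc
    rintro z ⟨a, ha, rfl⟩
    simp only [MulEquiv.coe_toMonoidHom, MulAut.conj_apply]
    have h1 : (⟨g * a * g⁻¹, hconjH a ha⟩ : H) ∈ (P₁.map (MulAut.conj g).toMonoidHom).subgroupOf H := by
      rw [Subgroup.mem_subgroupOf]
      exact conj_mem_map_conj P₁ g a ha
    have h2 := hh _ h1
    have h3 : ((h : J) * (g * a * g⁻¹) * (h : J)⁻¹) ∈ (S : Subgroup H).map H.subtype :=
      ⟨_, h2, by simp⟩
    have h4 := hk _ h3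
    have e : k * ((h : J) * (g * a * g⁻¹) * (h : J)⁻¹) * k⁻¹ = k * h * g * a * (k * h * g)⁻¹ := by group
    rwa [e] at h4
  have hkN := mem_normalizer_of_map_conj_eq P₁ k hk1
  have hkhgN := mem_normalizer_of_map_conj_eq P₁ (k * h * g) hk2
  refine ⟨(h : J) * g, ?_, ?_⟩
  · have : (h : J) * g = k⁻¹ * (k * h * g) := by group
    rw [this]
    exact Subgroup.mul_mem _ (Subgroup.inv_mem _ hkN) hkhgN
  · rw [mul_smul, hg]
    exact MulAction.mem_stabilizer_iff.mp h.2

end Cfsg.Agent.S3180
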