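-- Statement S3183
import Cfsg.Statements.S3183
import Cfsg.Agent.Lib.H16.SylowBasic
import Cfsg.Agent.Lib.H16.PGroupBasic
import Cfsg.Agent.Lib.H16.SylowMore
import Mathlib

set_option autoImplicit false
open Cfsg
open Cfsg.Agent.Lib.H16

namespace Cfsg.Agent.S3183

/-- Key lemma: an element in the intersection of two distinct Sylow 2-subgroups is central in each. -/
lemma key {G : Type*} [Group G] [Finite G]
    (hCI : ∀ S T : Sylow 2 G, S ≠ T → ∃ U : Sylow 2 G,
      (S : Subgroup G) ⊓ (T : Subgroup G) ≤ (Subgroup.center ↥(U : Subgroup G)).map (U : Subgroup G).subtype)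
    (S T : Sylow 2 G) (hST : S ≠ T) (x : G) (hxS : x ∈ (S : Subgroup G)) (hxT : x ∈ (T : Subgroup G)) :
    ∀ s ∈ (S : Subgroup G), s * x = x * s := by
  haveI : Fact (Nat.Prime 2) := ⟨Nat.prime_two⟩
  by_contra hcon
  push Not at hcon
  obtain ⟨s, hsS, hsx⟩ := hcon
  obtain ⟨U, hU⟩ := hCI S T hST
  -- x is central in U
  have hcenter : ∀ (V : Sylow 2 G) (d : G), d ∈ (Subgroup.center ↥(V : Subgroup G)).map (V : Subgroup G).subtype →
      d ∈ (V : Subgroup G) ∧ ∀ u ∈ (V : Subgroup G), u * d = d * u := by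
    rintro V d ⟨z, hz, rfl⟩
    refine ⟨z.2, fun u hu => ?_⟩
    have := Subgroup.mem_center_iff.mp hz ⟨u, hu⟩
    exact congrArg Subtype.val this
  obtain ⟨hxU, hxUc⟩ := hcenter U x (hU ⟨hxS, hxT⟩)
  set C := Subgroup.centralizer ({x} : Set G) with hC
  have hUC : (U : Subgroup G) ≤ C := by
    intro u hu
    rw [hC, Subgroup.mem_centralizer_singleton_iff]
    exact hxUc u hu
  set D := (S : Subgroup G) ⊓ C with hD
  have hDS : D ≤ (S : Subgroup G) := inf_le_left
  have hDC : D ≤ C := inf_le_right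
  have hxD : x ∈ D := Subgroup.mem_inf.mpr ⟨hxS, by rw [hC, Subgroup.mem_centralizer_singleton_iff]⟩
  have hsD : s ∉ D := by
    intro h
    have := (Subgroup.mem_inf.mp h).2
    rw [hC, Subgroup.mem_centralizer_singleton_iff] at this
    exact hsx this
  have hDlt : D < (S : Subgroup G) := lt_of_le_of_ne hDS (fun h => hsD (h ▸ hsS))
  -- a Sylow subgroup R of G with D ≤ R ≤ C
  have hDp : IsPGroup 2 (D.subgroupOf C) := (S.2.to_le hDS).comap_subtype
  obtain ⟨c, hc⟩ := exists_conj_mem_sylow (D.subgroupOf C) hDp (U.subtype hUC)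
  set R : Sylow 2 G := (c : G)⁻¹ • U with hR
  have hDR : D ≤ (R : Subgroup G) := by
    intro a ha
    rw [hR, mem_sylow_smul_iff, inv_inv]
    have h1 : (⟨a, hDC ha⟩ : C) ∈ D.subgroupOf C := by rw [Subgroup.mem_subgroupOf]; exact ha
    have h2 := hc _ h1
    have h3 : ((c * ⟨a, hDC ha⟩ * c⁻¹ : C) : G) ∈ (U : Subgroup G) := by
      rw [Sylow.coe_subtype, Subgroup.mem_subgroupOf] at h2
      exact h2
    simpa using h3
  have hRC : (R : Subgroup G) ≤ C := by
    intro r hr
    rw [hR, mem_sylow_smul_iff, inv_inv] at hr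
    have h1 := hUC hr
    have h2 : r = (c : G)⁻¹ * ((c : G) * r * (c : G)⁻¹) * (c : G) := by group
    rw [h2]
    exact C.mul_mem (C.mul_mem (C.inv_mem c.2) h1) c.2
  have hSR : S ≠ R := by
    intro h
    have : s ∈ C := hRC (h ▸ hsS)
    rw [hC, Subgroup.mem_centralizer_singleton_iff] at this
    exact hsx this
  have hSRD : (S : Subgroup G) ⊓ (R : Subgroup G) = D := by
    apply le_antisymm
    · exact le_inf inf_le_left (inf_le_right.trans hRC)
    · exact le_inf hDS hDR
  obtain ⟨U', hU'⟩ := hCI S R hSR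
  rw [hSRD] at hU'
  have hU'C : (U' : Subgroup G) ≤ Subgroup.centralizer (D : Set G) := by
    intro u hu
    rw [Subgroup.mem_centralizer_iff]
    intro d hd
    exact ((hcenter U' d (hU' hd)).2 u hu).symm
  obtain ⟨n, hnS, hnD, hnN⟩ := exists_mem_normalizer_not_mem (S : Subgroup G) D S.2 hDlt
  obtain ⟨k, hk⟩ := (IsPGroup.iff_orderOf.mp S.2) ⟨n, hnS⟩
  have hnk : n ^ (2 ^ k) = 1 := by
    have h1 : (⟨n, hnS⟩ : (S : Subgroup G)) ^ (2 ^ k) = 1 := by
      rw [← hk]; exact pow_orderOf_eq_one _
    exact congrArg Subtype.val h1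
  have hnCD := mem_centralizer_of_mem_normalizer_of_sylow_le D U' hU'C n hnN k hnk
  apply hnD
  refine Subgroup.mem_inf.mpr ⟨hnS, ?_⟩
  rw [hC, Subgroup.mem_centralizer_singleton_iff]
  exact ((Subgroup.mem_centralizer_iff.mp hnCD) x hxD).symm

/-- Let G be a finite group in which the intersection of any two distinct Sylow 2-subgroups is contained in the centre of some Sylow 2-subgroup, and let S be a Sylow 2-subgroup. Then for every x in S the centralizer of x in S is a Sylow 2-subgroup of the centralizer of x in G (no 2-subgroup centralizing x is larger), and for every other Sylow 2-subgroup T the intersection S ∩ T lies in both the centre of S and the centre of T. -/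
theorem result {G : Type*} [Group G] [Finite G]
    (hCI : ∀ S T : Sylow 2 G, S ≠ T → ∃ U : Sylow 2 G,
      (S : Subgroup G) ⊓ (T : Subgroup G) ≤ (Subgroup.center ↥(U : Subgroup G)).map (U : Subgroup G).subtype)
    (S : Sylow 2 G) :
    (∀ x ∈ (S : Subgroup G), ∀ P : Subgroup G, IsPGroup 2 ↥P → P ≤ Subgroup.centralizer ({x} : Set G) →
        Nat.card ↥P ≤ Nat.card ↥((S : Subgroup G) ⊓ Subgroup.centralizer ({x} : Set G))) ∧
    (∀ T : Sylow 2 G, T ≠ S →
        (S : Subgroup G) ⊓ (T : Subgroup G) ≤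
          (Subgroup.center ↥(S : Subgroup G)).map (S : Subgroup G).subtype ⊓
            (Subgroup.center ↥(T : Subgroup G)).map (T : Subgroup G).subtype) := by
  haveI : Fact (Nat.Prime 2) := ⟨Nat.prime_two⟩
  constructor
  · intro x hxS P hP hPC
    by_cases hcen : ∀ s ∈ (S : Subgroup G), s * x = x * s
    · -- S ≤ C(x)
      have hSC : (S : Subgroup G) ≤ Subgroup.centralizer ({x} : Set G) := by
        intro s hs
        rw [Subgroup.mem_centralizer_singleton_iff]; exact hcen s hs
      rw [inf_eq_left.mpr hSC]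
      obtain ⟨Q, hQ⟩ := hP.exists_le_sylow
      calc Nat.card P ≤ Nat.card (Q : Subgroup G) := Subgroup.card_le_of_le hQ
        _ = Nat.card (S : Subgroup G) := by
          rw [Sylow.card_eq_multiplicity, Sylow.card_eq_multiplicity]
    · -- x is in no other Sylow 2-subgroup
      have hxp : IsPGroup 2 (Subgroup.zpowers x) :=
        S.2.to_le (Subgroup.zpowers_le.mpr hxS)
      have hPN : P ≤ Subgroup.normalizer ((Subgroup.zpowers x : Subgroup G) : Set G) := by
        rw [Subgroup.le_normalizer_iff]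
        intro g hg z hz
        have hgx : g * x = x * g := Subgroup.mem_centralizer_singleton_iff.mp (hPC hg)
        obtain ⟨i, rfl⟩ := Subgroup.mem_zpowers_iff.mp hz
        have : g * x ^ i * g⁻¹ = x ^ i := by
          have hc : Commute g x := hgx
          have := hc.zpow_right i
          calc g * x ^ i * g⁻¹ = x ^ i * g * g⁻¹ := by rw [this.eq]
            _ = x ^ i := by group
        rw [this]; exact hz
      have hsup : IsPGroup 2 (P ⊔ Subgroup.zpowers x : Subgroup G) :=
        hP.to_sup_of_normal_right' hxp hPN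
      obtain ⟨Q, hQ⟩ := hsup.exists_le_sylow
      have hxQ : x ∈ (Q : Subgroup G) := hQ (Subgroup.mem_sup_right (Subgroup.mem_zpowers x))
      have hQS : S = Q := by
        by_contra hne
        exact hcen (key hCI S Q hne x hxS hxQ)
      have hPS : P ≤ (S : Subgroup G) ⊓ Subgroup.centralizer ({x} : Set G) := by
        refine le_inf ?_ hPC
        rw [hQS]; exact le_sup_left.trans hQ
      exact Subgroup.card_le_of_le hPS
  · intro T hTS x hx
    obtain ⟨hxS, hxT⟩ := Subgroup.mem_inf.mp hx
    refine Subgroup.mem_inf.mpr ⟨?_, ?_⟩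
    · refine Subgroup.mem_map.mpr ⟨⟨x, hxS⟩, ?_, rfl⟩
      rw [Subgroup.mem_center_iff]
      intro s
      apply Subtype.ext
      exact key hCI S T hTS.symm x hxS hxT s.1 s.2
    · refine Subgroup.mem_map.mpr ⟨⟨x, hxT⟩, ?_, rfl⟩
      rw [Subgroup.mem_center_iff]
      intro t
      apply Subtype.ext
      exact key hCI T S hTS x hxT hxS t.1 t.2

end Cfsg.Agent.S3183
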