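import Cfsg.Statements.S3184
import Mathlib
import Cfsg.Agent.Lib.H1.ZStar

set_option autoImplicit false
open Cfsg

namespace Cfsg.Agent.S3184

open Subgroup MulAction in
/-- Sylow subgroups inside a subgroup `H` are conjugate under `H`. -/
theorem exists_smul_eq_of_le {G : Type*} [Group G] [Finite G] (H : Subgroup G) (T U : Sylow 2 G)
    (hT : (T : Subgroup G) ≤ H) (hU : (U : Subgroup G) ≤ H) : ∃ h ∈ H, h • T = U := by
  have hp2 : Fact (Nat.Prime 2) := ⟨Nat.prime_two⟩
  obtain ⟨h, hh⟩ := exists_smul_eq H (T.subtype hT) (U.subtype hU)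
  rw [Sylow.smul_subtype] at hh
  exact ⟨h, h.2, Sylow.subtype_injective hh⟩

open Subgroup MulAction in
/-- A 2-subgroup of `H` lies in an `H`-conjugate of a given Sylow subgroup inside `H`. -/
theorem exists_le_smul_of_le {G : Type*} [Group G] [Finite G] (H : Subgroup G) (T : Sylow 2 G)
    (hT : (T : Subgroup G) ≤ H) (R : Subgroup G) (hR : IsPGroup 2 R) (hRH : R ≤ H) :
    ∃ h ∈ H, R ≤ ((h • T : Sylow 2 G) : Subgroup G) := by
  have hp2 : Fact (Nat.Prime 2) := ⟨Nat.prime_two⟩
  obtain ⟨Q, hQ⟩ := (hR.comap_subtype (K := H)).exists_le_sylow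
  obtain ⟨h, hh⟩ := exists_smul_eq H (T.subtype hT) Q
  rw [Sylow.smul_subtype] at hh
  refine ⟨h, h.2, fun r hr => ?_⟩
  have h1 : (⟨r, hRH hr⟩ : H) ∈ (Q : Subgroup H) := hQ (show r ∈ R from hr)
  rw [← hh, Sylow.coe_subtype, Subgroup.mem_subgroupOf] at h1
  exact h1

/-- two elements of order two of a cyclic group coincide -/
theorem cyclic_order_two_unique {C : Type*} [Group C] [Finite C] [IsCyclic C] {x y : C}
    (hx : orderOf x = 2) (hy : orderOf y = 2) : x = y := by
  classical
  have := Fintype.ofFinite C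
  have h2 : 2 ∣ Fintype.card C := by rw [← hx]; exact orderOf_dvd_card
  have h := IsCyclic.card_orderOf_eq_totient h2
  rw [Nat.totient_two, Finset.card_eq_one] at h
  obtain ⟨a, ha⟩ := h
  have hx' : x ∈ Finset.univ.filter (fun a : C => orderOf a = 2) := by simp [hx]
  have hy' : y ∈ Finset.univ.filter (fun a : C => orderOf a = 2) := by simp [hy]
  rw [ha, Finset.mem_singleton] at hx' hy'
  rw [hx', hy']


section main

open Pointwise

variable {G : Type*} [Group G] [Finite G]

omit [Finite G] in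
theorem mem_smul_iff (g x : G) (P : Sylow 2 G) :
    x ∈ ((g • P : Sylow 2 G) : Subgroup G) ↔ g⁻¹ * x * g ∈ (P : Subgroup G) := by
  rw [Sylow.coe_subgroup_smul, Subgroup.mem_pointwise_smul_iff_inv_smul_mem]
  simp [MulAut.smul_def, mul_assoc]

variable (S : Sylow 2 G) (C : Subgroup ↥(S : Subgroup G)) (hCc : IsCyclic ↥C)
  (hCh : C.Characteristic) (c : ↥(S : Subgroup G)) (hc : c ∈ C) (hc2 : orderOf c = 2)

include hCc hCh hc hc2

theorem normalizer_fixes (n : G) (hn : n ∈ Subgroup.normalizer ((S : Subgroup G) : Set G)) :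
    n * (c : G) * n⁻¹ = c := by
  let φ : MulAut ↥(S : Subgroup G) := (S : Subgroup G).normalizerMonoidHom ⟨n, hn⟩
  have hφ : ∀ x : ↥(S : Subgroup G), ((φ x : ↥(S : Subgroup G)) : G) = n * x * n⁻¹ := fun x => rfl
  have h1 : φ c ∈ C := by
    have := hCh.fixed φ
    have h2 : c ∈ C.comap φ.toMonoidHom := by rw [this]; exact hc
    exact h2
  have h3 : orderOf (φ c) = 2 := by rw [MulEquiv.orderOf_eq]; exact hc2
  have h4 : (⟨φ c, h1⟩ : C) = ⟨c, hc⟩ :=
    cyclic_order_two_unique (by rw [← Subgroup.orderOf_coe]; exact h3)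
      (by rw [← Subgroup.orderOf_coe]; exact hc2)
  have h5 : φ c = c := congrArg Subtype.val h4
  rw [← hφ, h5]

theorem marked_unique (g g' : G) (h : g • S = g' • S) :
    g * (c : G) * g⁻¹ = g' * c * g'⁻¹ := by
  have h1 : (g'⁻¹ * g) • S = S := by rw [mul_smul, h, inv_smul_smul]
  have h2 := normalizer_fixes S C hCc hCh c hc hc2 (g'⁻¹ * g)
    (Sylow.smul_eq_iff_mem_normalizer.mp h1)
  calc g * c * g⁻¹ = g' * ((g'⁻¹ * g) * c * (g'⁻¹ * g)⁻¹) * g'⁻¹ := by group
    _ = _ := by rw [h2]

theorem c_central (s : G) (hs : s ∈ (S : Subgroup G)) : s * (c : G) = c * s := by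
  have := normalizer_fixes S C hCc hCh c hc hc2 s (Subgroup.le_normalizer hs)
  calc s * (c : G) = (s * c * s⁻¹) * s := by group
    _ = c * s := by rw [this]

theorem main_claim
    (hCI : ∀ S T : Sylow 2 G, S ≠ T → ∃ U : Sylow 2 G,
      (S : Subgroup G) ⊓ (T : Subgroup G) ≤
        (Subgroup.center ↥(U : Subgroup G)).map (U : Subgroup G).subtype) :
    ∀ (n : ℕ) (g : G), Nat.card (S : Subgroup G) -
      Nat.card ↥((S : Subgroup G) ⊓ ((g • S : Sylow 2 G) : Subgroup G)) = n →
      g * (c : G) * g⁻¹ ∈ (S : Subgroup G) → g * (c : G) * g⁻¹ = c := by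
  intro n
  induction n using Nat.strong_induction_on with
  | _ n ih =>
  intro g hn htS
  by_contra hne
  set T : Sylow 2 G := g • S with hT
  set t : G := g * (c : G) * g⁻¹ with ht
  have hTS : S ≠ T := by
    intro h
    apply hne
    have := marked_unique S C hCc hCh c hc hc2 g 1 (by rw [one_smul, ← hT, ← h])
    rw [ht, this]; group
  obtain ⟨U, hU⟩ := hCI S T hTS
  set D : Subgroup G := (S : Subgroup G) ⊓ (T : Subgroup G) with hD
  have htT : t ∈ (T : Subgroup G) := by
    rw [hT, mem_smul_iff, ht]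
    have : g⁻¹ * (g * (c : G) * g⁻¹) * g = c := by group
    rw [this]; exact c.2
  have htD : t ∈ D := ⟨htS, htT⟩
  -- `t` centralizes `T`
  have htc : ∀ y ∈ (T : Subgroup G), y * t = t * y := by
    intro y hy
    rw [hT, mem_smul_iff] at hy
    have h1 := c_central S C hCc hCh c hc hc2 _ hy
    calc y * t = g * ((g⁻¹ * y * g) * c) * g⁻¹ := by rw [ht]; group
      _ = g * (c * (g⁻¹ * y * g)) * g⁻¹ := by rw [h1]
      _ = t * y := by rw [ht]; group
  have hTH : (T : Subgroup G) ≤ Subgroup.centralizer ({t} : Set G) := by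
    intro y hy
    rw [Subgroup.mem_centralizer_iff]
    intro x hx
    rw [Set.mem_singleton_iff] at hx
    rw [hx]
    exact (htc y hy).symm
  -- elements of `D` are central in `U`
  have hDU : ∀ d ∈ D, d ∈ (U : Subgroup G) ∧ ∀ y ∈ (U : Subgroup G), y * d = d * y := by
    intro d hd
    obtain ⟨z, hz, rfl⟩ := hU hd
    refine ⟨z.2, fun y hy => ?_⟩
    have := Subgroup.mem_center_iff.mp hz ⟨y, hy⟩
    exact congrArg Subtype.val this
  by_cases hcase : ∃ r ∈ (S : Subgroup G), (∀ d ∈ D, r * d = d * r) ∧ r ∉ D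
  · obtain ⟨r, hrS, hrD, hrn⟩ := hcase
    set R : Subgroup G := D ⊔ ((S : Subgroup G) ⊓ Subgroup.centralizer (D : Set G)) with hR
    have hRS : R ≤ (S : Subgroup G) := sup_le inf_le_left inf_le_left
    have hR2 : IsPGroup 2 R := S.2.to_le hRS
    have hRH : R ≤ Subgroup.centralizer ({t} : Set G) := by
      apply sup_le (inf_le_right.trans hTH)
      intro x hx
      rw [Subgroup.mem_centralizer_iff]
      intro y hy
      rw [Set.mem_singleton_iff] at hy
      rw [hy]
      exact (Subgroup.mem_centralizer_iff.mp hx.2 t htD)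
    obtain ⟨h, hhH, hRle⟩ := exists_le_smul_of_le _ T hTH R hR2 hRH
    have hht : h * t * h⁻¹ = t := by
      have := Subgroup.mem_centralizer_iff.mp hhH t (Set.mem_singleton t)
      calc h * t * h⁻¹ = (t * h) * h⁻¹ := by rw [this]
        _ = t := by group
    have hconj : (h * g) * (c : G) * (h * g)⁻¹ = t := by
      calc (h * g) * (c : G) * (h * g)⁻¹ = h * (g * c * g⁻¹) * h⁻¹ := by group
        _ = t := hht
    have hsm : ((h * g) • S : Sylow 2 G) = h • T := by rw [mul_smul]
    have hrR : r ∈ R := by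
      apply Subgroup.mem_sup_right
      refine ⟨hrS, ?_⟩
      show r ∈ Subgroup.centralizer (D : Set G)
      rw [Subgroup.mem_centralizer_iff]
      intro d hd
      exact (hrD d hd).symm
    have hDR : D < R := by
      refine lt_of_le_of_ne le_sup_left ?_
      intro h
      apply hrn
      rw [h]; exact hrR
    have hcard1 : Nat.card D < Nat.card R := by
      by_contra hcon
      push Not at hcon
      exact hDR.ne (Subgroup.eq_of_le_of_card_ge hDR.le hcon)
    have hRle' : R ≤ (S : Subgroup G) ⊓ (((h * g) • S : Sylow 2 G) : Subgroup G) := by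
      rw [hsm]; exact le_inf hRS hRle
    have hcard2 : Nat.card R ≤
        Nat.card ↥((S : Subgroup G) ⊓ (((h * g) • S : Sylow 2 G) : Subgroup G)) :=
      Subgroup.card_le_of_le hRle'
    have hcard3 : Nat.card ↥((S : Subgroup G) ⊓ (((h * g) • S : Sylow 2 G) : Subgroup G))
        ≤ Nat.card (S : Subgroup G) := Subgroup.card_le_of_le inf_le_left
    have key := ih _ (by omega) (h * g) rfl (by rw [hconj]; exact htS)
    apply hne
    rw [← hconj]; exact key
  · push Not at hcase
    have hcD : (c : G) ∈ D := by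
      apply hcase c c.2
      intro d hd
      exact (c_central S C hCc hCh c hc hc2 d hd.1).symm
    have hUc : (U : Subgroup G) ≤ Subgroup.centralizer ({(c : G)} : Set G) := by
      intro y hy
      rw [Subgroup.mem_centralizer_iff]
      intro x hx
      rw [Set.mem_singleton_iff] at hx
      rw [hx]
      exact ((hDU c hcD).2 y hy).symm
    have hUt : (U : Subgroup G) ≤ Subgroup.centralizer ({t} : Set G) := by
      intro y hy
      rw [Subgroup.mem_centralizer_iff]
      intro x hx
      rw [Set.mem_singleton_iff] at hx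
      rw [hx]
      exact ((hDU t htD).2 y hy).symm
    have hSc : (S : Subgroup G) ≤ Subgroup.centralizer ({(c : G)} : Set G) := by
      intro y hy
      rw [Subgroup.mem_centralizer_iff]
      intro x hx
      rw [Set.mem_singleton_iff] at hx
      rw [hx]
      exact (c_central S C hCc hCh c hc hc2 y hy).symm
    obtain ⟨k, hk, hkU⟩ := exists_smul_eq_of_le _ S U hSc hUc
    obtain ⟨m, hm, hmU⟩ := exists_smul_eq_of_le _ T U hTH hUt
    have h1 := marked_unique S C hCc hCh c hc hc2 k (m * g) (by rw [hkU, mul_smul, ← hT, hmU])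
    have h2 : k * (c : G) * k⁻¹ = c := by
      have := Subgroup.mem_centralizer_iff.mp hk c (Set.mem_singleton _)
      calc k * (c : G) * k⁻¹ = (c * k) * k⁻¹ := by rw [this]
        _ = c := by group
    have h3 : (m * g) * (c : G) * (m * g)⁻¹ = t := by
      have := Subgroup.mem_centralizer_iff.mp hm t (Set.mem_singleton _)
      calc (m * g) * (c : G) * (m * g)⁻¹ = m * t * m⁻¹ := by rw [ht]; group
        _ = (t * m) * m⁻¹ := by rw [this]
        _ = t := by group
    apply hne
    rw [← h3, ← h1, h2]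

end main

/-- Let G be a finite group in which the intersection of any two distinct Sylow 2-subgroups is contained in the centre of some Sylow 2-subgroup, and let S be a Sylow 2-subgroup. If C is a nontrivial cyclic characteristic subgroup of S, then the involution of C is central modulo the largest normal subgroup of odd order of G: each of its conjugates has the same image in G/O(G). -/
theorem result {G : Type*} [Group G] [Finite G]
    (hCI : ∀ S T : Sylow 2 G, S ≠ T → ∃ U : Sylow 2 G,
      (S : Subgroup G) ⊓ (T : Subgroup G) ≤ (Subgroup.center ↥(U : Subgroup G)).map (U : Subgroup G).subtype)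
    (S : Sylow 2 G) (C : Subgroup ↥(S : Subgroup G)) (hC : C ≠ ⊥) (hCc : IsCyclic ↥C) (hCh : C.Characteristic)
    (c : ↥(S : Subgroup G)) (hc : c ∈ C) (hc2 : orderOf c = 2) :
    ∀ g : G, (QuotientGroup.mk (s := Cfsg.oddCore G) (g * (c : G) * g⁻¹)) =
      QuotientGroup.mk (s := Cfsg.oddCore G) (c : G) := by
  have hiso : ∀ g : G, g * (c : G) * g⁻¹ ∈ (S : Subgroup G) → g * (c : G) * g⁻¹ = c :=
    fun g hg => main_claim S C hCc hCh c hc hc2 hCI _ g rfl hg
  have hu : orderOf (c : G) = 2 := by rw [Subgroup.orderOf_coe]; exact hc2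
  have hz := Cfsg.Agent.Lib.H1.ZStar.zstar (c : G)
    ⟨hu, (Cfsg.Agent.S0216.result S (c : G) hu c.2).mp hiso⟩
  intro g
  rw [QuotientGroup.eq]
  have hcc : (c : G) * c = 1 := by
    have := pow_orderOf_eq_one (c : G)
    rwa [hu, sq] at this
  have hci : (c : G)⁻¹ = c := inv_eq_of_mul_eq_one_right hcc
  have h1 := (Cfsg.oddCore G).inv_mem (hz g)
  have : (g * (c : G) * g⁻¹)⁻¹ * c = ((c : G) * g * (c : G)⁻¹ * g⁻¹)⁻¹ := by
    rw [hci]
    have h2 : (g * (c : G) * g⁻¹)⁻¹ = g * (c : G)⁻¹ * g⁻¹ := by group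
    have h3 : ((c : G) * g * (c : G) * g⁻¹)⁻¹ = g * (c : G)⁻¹ * g⁻¹ * (c : G)⁻¹ := by group
    rw [h2, h3, hci]
  rw [this]
  exact h1

end Cfsg.Agent.S3184
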