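import Cfsg.Statements.S3190
import Mathlib
import Cfsg.Agent.Lib.H16.PGroupCenter

set_option autoImplicit false
open Cfsg

namespace Cfsg.Agent.S3190

open Cfsg.Agent.Lib.H16

/-- Conjugation by an element normalizing `R` (together with its inverse) preserves `Z(R)`. -/
theorem conj_mem_centerR {X : Type*} [Group X] (R : Subgroup X) (c : X)
    (hc : ∀ r ∈ R, c * r * c⁻¹ ∈ R) (hc' : ∀ r ∈ R, c⁻¹ * r * c ∈ R) (z : X) (hz : z ∈ R)
    (hzc : ∀ r ∈ R, r * z = z * r) :
    c * z * c⁻¹ ∈ R ∧ ∀ r ∈ R, r * (c * z * c⁻¹) = (c * z * c⁻¹) * r := by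
  refine ⟨hc z hz, fun r hr => ?_⟩
  have h1 := hzc _ (hc' r hr)
  calc r * (c * z * c⁻¹) = c * ((c⁻¹ * r * c) * z) * c⁻¹ := by group
    _ = c * (z * (c⁻¹ * r * c)) * c⁻¹ := by rw [h1]
    _ = (c * z * c⁻¹) * r := by group

theorem core {X : Type*} [Group X] [Finite X] {p : ℕ} (hp : p.Prime) (hodd : Odd p)
    (P R C : Subgroup X) (hP : IsPGroup p P) (t : X) (ht2 : t * t = 1)
    (hRP : R ≤ P) (hRn : ∀ c ∈ P, ∀ r ∈ R, c * r * c⁻¹ ∈ R)
    (htR : ∀ r ∈ R, t * r * t⁻¹ ∈ R)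
    (hCt : ∀ c ∈ C, c * t = t * c) (hfac : R ⊔ (P ⊓ C) = P)
    (hZ : ∀ z ∈ P, (∀ g ∈ P, g * z = z * g) → z * t = t * z) :
    ∀ z ∈ R, (∀ r ∈ R, r * z = z * r) → z * t = t * z := by
  have : Fact p.Prime := ⟨hp⟩
  have htinv : t⁻¹ = t := inv_eq_of_mul_eq_one_left ht2
  have htR' : ∀ r ∈ R, t⁻¹ * r * t ∈ R := by
    intro r hr
    have := htR r hr
    rw [htinv] at this ⊢
    exact this
  -- the subgroup B of elements of Z(R) inverted by t
  let B : Subgroup X :=
    { carrier := {a | a ∈ R ∧ (∀ r ∈ R, r * a = a * r) ∧ t * a * t⁻¹ = a⁻¹}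
      one_mem' := ⟨R.one_mem, fun r _ => by simp, by simp⟩
      mul_mem' := by
        rintro a b ⟨haR, hac, hat⟩ ⟨hbR, hbc, hbt⟩
        refine ⟨R.mul_mem haR hbR, fun r hr => ?_, ?_⟩
        · rw [← mul_assoc, hac r hr, mul_assoc, hbc r hr, mul_assoc]
        · have e1 : t * (a * b) * t⁻¹ = (t * a * t⁻¹) * (t * b * t⁻¹) := by group
          rw [e1, hat, hbt, ← hac b hbR, mul_inv_rev]
      inv_mem' := by
        rintro a ⟨haR, hac, hat⟩
        refine ⟨R.inv_mem haR, fun r hr => ?_, ?_⟩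
        · have := hac r hr
          calc r * a⁻¹ = a⁻¹ * (a * r) * a⁻¹ := by group
            _ = a⁻¹ * (r * a) * a⁻¹ := by rw [this]
            _ = a⁻¹ * r := by group
        · have e1 : t * a⁻¹ * t⁻¹ = (t * a * t⁻¹)⁻¹ := by group
          rw [e1, hat] }
  have hBmem : ∀ a, a ∈ B ↔ a ∈ R ∧ (∀ r ∈ R, r * a = a * r) ∧ t * a * t⁻¹ = a⁻¹ := fun a => Iff.rfl
  have hBP : B ≤ P := fun a ha => hRP ((hBmem a).mp ha).1
  -- P normalizes B
  have hRB : R ≤ Subgroup.normalizer (B : Set X) := by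
    apply le_normalizer_of_conj_mem
    intro r hr b hb
    have hb' := (hBmem b).mp hb
    have : r * b * r⁻¹ = b := by rw [hb'.2.1 r hr, mul_assoc, mul_inv_cancel, mul_one]
    rw [this]
    exact hb
  have hCB : P ⊓ C ≤ Subgroup.normalizer (B : Set X) := by
    apply le_normalizer_of_conj_mem
    intro c hc b hb
    obtain ⟨hcP, hcC⟩ := Subgroup.mem_inf.mp hc
    obtain ⟨hbR, hbc, hbt⟩ := (hBmem b).mp hb
    have hc1 : ∀ r ∈ R, c * r * c⁻¹ ∈ R := hRn c hcP
    have hc2 : ∀ r ∈ R, c⁻¹ * r * c ∈ R := by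
      intro r hr
      have := hRn c⁻¹ (P.inv_mem hcP) r hr
      simpa using this
    obtain ⟨h1, h2⟩ := conj_mem_centerR R c hc1 hc2 b hbR hbc
    refine (hBmem _).mpr ⟨h1, h2, ?_⟩
    have hct := hCt c hcC
    have hct' : t * c = c * t := hct.symm
    have hctinv : t⁻¹ * c⁻¹ = c⁻¹ * t⁻¹ := by
      rw [← mul_inv_rev, ← mul_inv_rev, hct]
    calc t * (c * b * c⁻¹) * t⁻¹ = (t * c) * b * (c⁻¹ * t⁻¹) := by group
      _ = (c * t) * b * (t⁻¹ * c⁻¹) := by rw [hct', ← hctinv]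
      _ = c * (t * b * t⁻¹) * c⁻¹ := by group
      _ = c * b⁻¹ * c⁻¹ := by rw [hbt]
      _ = (c * b * c⁻¹)⁻¹ := by group
  have hPB : P ≤ Subgroup.normalizer (B : Set X) := by
    rw [← hfac]
    exact sup_le hRB hCB
  -- B is trivial
  have hBbot : B = ⊥ := by
    by_contra hne
    obtain ⟨b, hbB, hb1, hbc⟩ := exists_ne_one_central_of_le_normalizer hp P B hP hBP hPB hne
    obtain ⟨hbR, _, hbt⟩ := (hBmem b).mp hbB
    have hcomm := hZ b (hBP hbB) hbc
    have hbb : b * b = 1 := by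
      have : t * b * t⁻¹ = b := by rw [← hcomm, mul_assoc, mul_inv_cancel, mul_one]
      rw [this] at hbt
      calc b * b = b * b⁻¹ := by rw [← hbt]
        _ = 1 := mul_inv_cancel b
    have hb2 : b ^ 2 = 1 := by rw [pow_two, hbb]
    have hord2 : orderOf b ∣ 2 := orderOf_dvd_of_pow_eq_one hb2
    obtain ⟨k, hk⟩ := (IsPGroup.iff_orderOf.mp hP) ⟨b, hBP hbB⟩
    rw [Subgroup.orderOf_mk] at hk
    apply hb1
    rw [← orderOf_eq_one_iff]
    rcases Nat.eq_zero_or_pos k with h0 | h0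
    · rw [hk, h0, pow_zero]
    · exfalso
      have hpd : p ∣ 2 := by
        have : p ∣ orderOf b := by rw [hk]; exact dvd_pow_self p (by omega)
        exact this.trans hord2
      have hp2 : p = 2 := (Nat.prime_dvd_prime_iff_eq hp Nat.prime_two).mp hpd
      rw [hp2] at hodd
      exact (by decide : ¬ Odd 2) hodd
  -- conclusion
  intro z hzR hzc
  obtain ⟨h1, h2⟩ := conj_mem_centerR R t htR htR' z hzR hzc
  have hzinv : ∀ r ∈ R, r * z⁻¹ = z⁻¹ * r := by
    intro r hr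
    have := hzc r hr
    calc r * z⁻¹ = z⁻¹ * (z * r) * z⁻¹ := by group
      _ = z⁻¹ * (r * z) * z⁻¹ := by rw [this]
      _ = z⁻¹ * r := by group
  have hcB : z⁻¹ * (t * z * t⁻¹) ∈ B := by
    refine (hBmem _).mpr ⟨R.mul_mem (R.inv_mem hzR) h1, fun r hr => ?_, ?_⟩
    · calc r * (z⁻¹ * (t * z * t⁻¹)) = (r * z⁻¹) * (t * z * t⁻¹) := (mul_assoc _ _ _).symm
        _ = (z⁻¹ * r) * (t * z * t⁻¹) := by rw [hzinv r hr]
        _ = z⁻¹ * (r * (t * z * t⁻¹)) := mul_assoc _ _ _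
        _ = z⁻¹ * ((t * z * t⁻¹) * r) := by rw [h2 r hr]
        _ = z⁻¹ * (t * z * t⁻¹) * r := (mul_assoc _ _ _).symm
    · have e1 : t * (z⁻¹ * (t * z * t⁻¹)) * t⁻¹
          = (t * z⁻¹ * t⁻¹) * ((t * t) * z * (t * t)⁻¹) := by group
      rw [e1, ht2]
      group
  rw [hBbot, Subgroup.mem_bot] at hcB
  have : t * z * t⁻¹ = z := by
    have := congrArg (fun w => z * w) hcB
    simpa [mul_assoc] using this
  calc z * t = (t * z * t⁻¹) * t := by rw [this]
    _ = t * z := by group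

/-- Let p be an odd prime and, inside a finite group, let P be a p-subgroup normalized by a Klein four-group T. Let R be a subgroup of P, normal in P and normalized by T, such that P is the product of R with the centralizer of T in P. If T centralizes the centre of P, then T centralizes the centre of R. -/
theorem result {X : Type*} [Group X] [Finite X]
    {p : ℕ} (hp : p.Prime) (hodd : Odd p) (P T R : Subgroup X) (hP : IsPGroup p ↥P) (hT : IsKleinFour ↥T)
    (hTP : T ≤ Subgroup.normalizer (P : Set X)) (hRP : R ≤ P) (hRn : (R.subgroupOf P).Normal)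
    (hTR : T ≤ Subgroup.normalizer (R : Set X)) (hfac : R ⊔ (P ⊓ Subgroup.centralizer (T : Set X)) = P)
    (hZ : T ≤ Subgroup.centralizer (((Subgroup.center ↥P).map P.subtype : Subgroup X) : Set X)) :
    T ≤ Subgroup.centralizer (((Subgroup.center ↥R).map R.subtype : Subgroup X) : Set X) := by
  have _ := hTP
  intro t ht
  rw [Subgroup.mem_centralizer_iff]
  intro z hz
  rw [SetLike.mem_coe, mem_map_center_iff] at hz
  have ht2 : t * t = 1 := by
    have h1 : (⟨t, ht⟩ : T) ^ Monoid.exponent T = 1 := Monoid.pow_exponent_eq_one _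
    rw [IsKleinFour.exponent_two, pow_two] at h1
    exact congrArg Subtype.val h1
  have hRn' := (Subgroup.normal_subgroupOf_iff hRP).mp hRn
  refine core hp hodd P R (Subgroup.centralizer (T : Set X)) hP t ht2 hRP
    (fun c hc r hr => hRn' r c hr hc) ?_ ?_ hfac ?_ z hz.1 hz.2
  · intro r hr
    exact (Subgroup.mem_normalizer_iff.mp (hTR ht) r).mp hr
  · intro c hc
    exact (Subgroup.mem_centralizer_iff.mp hc t ht).symm
  · intro w hwP hwc
    have hw : w ∈ (Subgroup.center P).map P.subtype := (mem_map_center_iff P w).mpr ⟨hwP, hwc⟩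
    exact Subgroup.mem_centralizer_iff.mp (hZ ht) w hw

end Cfsg.Agent.S3190
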