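import Cfsg.Statements.S3195
import Mathlib
import Cfsg.Agent.S3011

set_option autoImplicit false
open Cfsg

namespace Cfsg.Agent.S3195

/-- Let A be a Klein four-subgroup of a finite group G. If every G-conjugate of every involution of A commutes with some involution of A (its centralizer meets A nontrivially), then A meets the largest normal 2-subgroup O₂(G) nontrivially. -/
theorem result {G : Type*} [Group G] [Finite G]
    (A : Subgroup G) (hA : IsKleinFour ↥A)
    (h : ∀ a ∈ A, a ≠ 1 → ∀ g : G, A ⊓ Subgroup.centralizer ({g * a * g⁻¹} : Set G) ≠ ⊥) :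
    A ⊓ Cfsg.pCore 2 G ≠ ⊥ := by
  have hA2 : ∀ a ∈ A, a * a = 1 := by
    intro a ha
    have h1 : (⟨a, ha⟩ : A) ^ Monoid.exponent A = 1 := Monoid.pow_exponent_eq_one _
    rw [IsKleinFour.exponent_two, pow_two] at h1
    exact congrArg Subtype.val h1
  have hAc : ∀ a ∈ A, ∀ b ∈ A, a * b = b * a := by
    intro a ha b hb
    have hinv : ∀ x ∈ A, x⁻¹ = x := fun x hx => inv_eq_of_mul_eq_one_left (hA2 x hx)
    have h1 := hA2 (a * b) (A.mul_mem ha hb)
    -- (ab)(ab) = 1 → ab = (ab)⁻¹ = b⁻¹a⁻¹ = ba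
    calc a * b = (a * b)⁻¹ := (hinv _ (A.mul_mem ha hb)).symm
      _ = b⁻¹ * a⁻¹ := mul_inv_rev a b
      _ = b * a := by rw [hinv a ha, hinv b hb]
  have hcard : Nat.card A = 4 := IsKleinFour.card_four
  have hne : A ≠ ⊥ := by
    intro hbot
    rw [hbot] at hcard
    simp at hcard
  have hS : Cfsg.IsSidkiPair A := by
    intro x v hv hodd hinv
    by_cases hv1 : v = 1
    · -- then x = x⁻¹, so x = 1
      rw [hv1, one_mul, inv_one, mul_one] at hinv
      have hx1 : x = 1 := Cfsg.Agent.S3011.eq_one_of_odd_of_inv_eq x hodd hinv.symm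
      obtain ⟨w, hwA, hw1⟩ := (A.bot_or_exists_ne_one).resolve_left hne
      exact ⟨w, hwA, hw1, by rw [hx1, mul_one, one_mul]⟩
    · -- v * x is a conjugate of v
      obtain ⟨m, hm⟩ := hodd
      have hvinv : v⁻¹ = v := inv_eq_of_mul_eq_one_left (hA2 v hv)
      have hconjpow : ∀ j : ℕ, v * x ^ j * v⁻¹ = (x⁻¹) ^ j := by
        intro j; rw [← hinv, conj_pow]
      -- g = x^m⁻¹... we show x^(m+1) v x^(-(m+1)) = v * x⁻¹ ... choose g with g v g⁻¹ = v * x
      have hx2 : x ^ (2 * m + 1) = 1 := by rw [← hm]; exact pow_orderOf_eq_one x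
      have hconj : (x⁻¹) ^ (m + 1) * v * ((x⁻¹) ^ (m + 1))⁻¹ = v * x := by
        have h1 : (x⁻¹) ^ (m + 1) * v = v * x ^ (m + 1) := by
          have := hconjpow (m + 1)
          -- v * x^(m+1) * v⁻¹ = x⁻¹^(m+1)
          rw [← this, hvinv]
          rw [mul_assoc, mul_assoc, hA2 v hv, mul_one]
        rw [h1, inv_pow, inv_inv, mul_assoc, ← pow_add]
        have : m + 1 + (m + 1) = (2 * m + 1) + 1 := by ring
        rw [this, pow_succ, hx2, one_mul]
      have hmeet := h v hv hv1 ((x⁻¹) ^ (m + 1))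
      obtain ⟨w, hw, hw1⟩ := (Subgroup.bot_or_exists_ne_one _).resolve_left hmeet
      obtain ⟨hwA, hwC⟩ := Subgroup.mem_inf.mp hw
      rw [hconj, Subgroup.mem_centralizer_singleton_iff] at hwC
      -- w * (v * x) = v * x * w
      refine ⟨w, hwA, hw1, ?_⟩
      have h2 : v * (w * x) = v * (x * w) := by
        calc v * (w * x) = (v * w) * x := (mul_assoc _ _ _).symm
          _ = (w * v) * x := by rw [hAc v hv w hwA]
          _ = w * (v * x) := mul_assoc _ _ _
          _ = v * x * w := hwC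
          _ = v * (x * w) := mul_assoc _ _ _
      exact mul_left_cancel h2
  exact Cfsg.Agent.S3011.sidki_le_four A hAc hA2 hne hS hcard.le

end Cfsg.Agent.S3195
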