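import Cfsg.Statements.S3196
import Mathlib

set_option autoImplicit false
open Cfsg

namespace Cfsg.Agent.S3196

variable {G : Type*} [Group G]

/-- elements of a join of two commuting subgroups are products -/
theorem mem_sup_comm (X Y : Subgroup G) (h : ∀ x ∈ X, ∀ y ∈ Y, Commute x y) {g : G}
    (hg : g ∈ X ⊔ Y) : ∃ x ∈ X, ∃ y ∈ Y, g = x * y := by
  let P : Subgroup G :=
    { carrier := {g | ∃ x ∈ X, ∃ y ∈ Y, g = x * y}
      mul_mem' := by
        rintro _ _ ⟨x, hx, y, hy, rfl⟩ ⟨x', hx', y', hy', rfl⟩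
        refine ⟨x * x', X.mul_mem hx hx', y * y', Y.mul_mem hy hy', ?_⟩
        have := h x' hx' y hy
        calc x * y * (x' * y') = x * (y * x') * y' := by group
          _ = x * (x' * y) * y' := by rw [this.eq]
          _ = x * x' * (y * y') := by group
      one_mem' := ⟨1, X.one_mem, 1, Y.one_mem, by simp⟩
      inv_mem' := by
        rintro _ ⟨x, hx, y, hy, rfl⟩
        refine ⟨x⁻¹, X.inv_mem hx, y⁻¹, Y.inv_mem hy, ?_⟩
        have := (h x hx y hy).inv_inv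
        rw [mul_inv_rev, this.eq] }
  have : X ⊔ Y ≤ P := sup_le (fun x hx => ⟨x, hx, 1, Y.one_mem, by simp⟩)
    (fun y hy => ⟨1, X.one_mem, y, hy, by simp⟩)
  exact this hg

/-- commuting with a generator of a cyclic group -/
theorem mem_centralizer_zpowers {g w : G} (h : Commute g w) :
    g ∈ Subgroup.centralizer ((Subgroup.zpowers w : Subgroup G) : Set G) := by
  rw [Subgroup.mem_centralizer_iff]
  intro y hy
  obtain ⟨k, rfl⟩ := Subgroup.mem_zpowers_iff.mp hy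
  exact ((h.zpow_right k).eq).symm

theorem commute_of_mem_centralizer {g w : G} {W : Subgroup G}
    (h : g ∈ Subgroup.centralizer (W : Set G)) (hw : w ∈ W) : Commute g w :=
  ((Subgroup.mem_centralizer_iff.mp h) w hw).symm

/-- the transvection computation -/
theorem conj_pow_eq {w a u c : G} (hu : w⁻¹ * a * w = u * a) (huw : Commute u w) (hua : Commute u a)
    (hcw : Commute c w) (t k : ℕ) :
    (w ^ t)⁻¹ * (a ^ k * c) * (w ^ t) * (a ^ k * c)⁻¹ = u ^ (t * k) := by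
  have h1 : ∀ t : ℕ, (w ^ t)⁻¹ * a * (w ^ t) = u ^ t * a := by
    intro t
    induction t with
    | zero => simp
    | succ t ih =>
      have h2 : (w ^ (t + 1))⁻¹ * a * w ^ (t + 1) = w⁻¹ * ((w ^ t)⁻¹ * a * w ^ t) * w := by
        rw [pow_succ]; group
      rw [h2, ih]
      have h3 : Commute (u ^ t) w := huw.pow_left t
      calc w⁻¹ * (u ^ t * a) * w = w⁻¹ * (u ^ t * w) * (w⁻¹ * a * w) := by group
        _ = w⁻¹ * (w * u ^ t) * (u * a) := by rw [h3.eq, hu]
        _ = u ^ t * u * a := by group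
        _ = u ^ (t + 1) * a := by rw [pow_succ]
  have h4 : (w ^ t)⁻¹ * a ^ k * (w ^ t) = (u ^ t * a) ^ k := by
    rw [← h1 t]
    induction k with
    | zero => simp
    | succ k ih =>
      rw [pow_succ, pow_succ, ← ih]; group
  have h5 : (u ^ t * a) ^ k = u ^ (t * k) * a ^ k := by
    rw [(hua.pow_left t).mul_pow, ← pow_mul]
  have h6 : Commute c (w ^ t) := hcw.pow_right t
  calc (w ^ t)⁻¹ * (a ^ k * c) * (w ^ t) * (a ^ k * c)⁻¹
      = (w ^ t)⁻¹ * a ^ k * (c * w ^ t) * (a ^ k * c)⁻¹ := by group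
    _ = (w ^ t)⁻¹ * a ^ k * (w ^ t * c) * (a ^ k * c)⁻¹ := by rw [h6.eq]
    _ = ((w ^ t)⁻¹ * a ^ k * w ^ t) * c * (a ^ k * c)⁻¹ := by group
    _ = u ^ (t * k) * a ^ k * c * (a ^ k * c)⁻¹ := by rw [h4, h5]
    _ = u ^ (t * k) := by group

section family

variable {p : ℕ} (hp : p.Prime) (K : Set (Subgroup G)) (hK : ∀ X ∈ K, Nat.card ↥X = p)

include hp hK

theorem orderOf_eq {X : Subgroup G} (hX : X ∈ K) {x : G} (hx : x ∈ X) (hx1 : x ≠ 1) :
    orderOf x = p := by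
  have h1 : orderOf x ∣ p := by
    rw [← hK X hX]
    exact Subgroup.orderOf_dvd_natCard X hx
  rcases (Nat.dvd_prime hp).mp h1 with h | h
  · exact absurd (orderOf_eq_one_iff.mp h) hx1
  · exact h

theorem pow_eq_one {X : Subgroup G} (hX : X ∈ K) {x : G} (hx : x ∈ X) : x ^ p = 1 := by
  by_cases hx1 : x = 1
  · rw [hx1, one_pow]
  · rw [← orderOf_eq hp K hK hX hx hx1]
    exact pow_orderOf_eq_one x

theorem eq_zpowers [Finite G] {X : Subgroup G} (hX : X ∈ K) {x : G} (hx : x ∈ X) (hx1 : x ≠ 1) :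
    X = Subgroup.zpowers x := by
  symm
  apply Subgroup.eq_of_le_of_card_ge (Subgroup.zpowers_le.mpr hx)
  rw [hK X hX, Nat.card_zpowers, orderOf_eq hp K hK hX hx hx1]

theorem zpowers_eq_of_mem [Finite G] {x y : G} (hx : Subgroup.zpowers x ∈ K)
    (hy : y ∈ Subgroup.zpowers x) (hy1 : y ≠ 1) : Subgroup.zpowers y = Subgroup.zpowers x :=
  (eq_zpowers hp K hK hx hy hy1).symm

/-- commuting with one nontrivial element of a member means commuting with the member -/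
theorem mem_centralizer_of_gen [Finite G] {W : Subgroup G} (hW : W ∈ K) {w : G} (hw : w ∈ W)
    (hw1 : w ≠ 1) {g : G} (h : Commute g w) : g ∈ Subgroup.centralizer (W : Set G) := by
  rw [eq_zpowers hp K hK hW hw hw1]
  exact mem_centralizer_zpowers h

/-- a member lies in a centralizer as soon as one nontrivial element does -/
theorem le_centralizer_of_gen [Finite G] {X : Subgroup G} (hX : X ∈ K) {x : G} (hx : x ∈ X)
    (hx1 : x ≠ 1) {W : Subgroup G} (h : x ∈ Subgroup.centralizer (W : Set G)) :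
    X ≤ Subgroup.centralizer (W : Set G) := by
  rw [eq_zpowers hp K hK hX hx hx1]
  exact Subgroup.zpowers_le.mpr h

end family

section axioms

variable [Finite G] {p : ℕ} (hp : p.Prime) (K : Set (Subgroup G)) (hK : ∀ X ∈ K, Nat.card ↥X = p)
  (ha : ∀ X ∈ K, ∀ Y ∈ K, X ≠ Y → (∀ x ∈ X, ∀ y ∈ Y, x * y = y * x) →
      ∀ Z : Subgroup G, Z ≤ X ⊔ Y → Nat.card ↥Z = p → Z ∈ K)
  (hb : ∀ X ∈ K, ∀ Y ∈ K, X ≠ Y → (∀ x ∈ X, ∀ y ∈ Y, x * y = y * x) →
      ∀ W ∈ K, (X ⊔ Y) ⊓ Subgroup.centralizer (W : Set G) ≠ ⊥)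

/-- an elementary abelian subgroup all of whose points lie in `K` -/
def KPure (K : Set (Subgroup G)) (A : Subgroup G) : Prop :=
  (∀ a ∈ A, ∀ b ∈ A, Commute a b) ∧ ∀ a ∈ A, a ≠ 1 → Subgroup.zpowers a ∈ K

omit [Finite G] in
theorem commute_zpowers {x y : G} (h : Commute x y) :
    ∀ x' ∈ Subgroup.zpowers x, ∀ y' ∈ Subgroup.zpowers y, Commute x' y' := by
  intro x' hx' y' hy'
  obtain ⟨i, rfl⟩ := Subgroup.mem_zpowers_iff.mp hx'
  obtain ⟨j, rfl⟩ := Subgroup.mem_zpowers_iff.mp hy'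
  exact (h.zpow_left i).zpow_right j

include hp hK ha in
/-- the points of a line lie in `K` -/
theorem lineK {x y : G} (hx : Subgroup.zpowers x ∈ K) (hy : Subgroup.zpowers y ∈ K)
    (hne : Subgroup.zpowers x ≠ Subgroup.zpowers y) (hc : Commute x y) {g : G}
    (hg : g ∈ Subgroup.zpowers x ⊔ Subgroup.zpowers y) (hg1 : g ≠ 1) :
    Subgroup.zpowers g ∈ K := by
  have hcc := commute_zpowers hc
  refine ha _ hx _ hy hne (fun x' hx' y' hy' => (hcc x' hx' y' hy').eq) _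
    (Subgroup.zpowers_le.mpr hg) ?_
  obtain ⟨x', hx', y', hy', rfl⟩ := mem_sup_comm _ _ hcc hg
  have h1 : (x' * y') ^ p = 1 := by
    rw [(hcc x' hx' y' hy').mul_pow, pow_eq_one hp K hK hx hx', pow_eq_one hp K hK hy hy', one_mul]
  have h2 : orderOf (x' * y') ∣ p := orderOf_dvd_of_pow_eq_one h1
  rw [Nat.card_zpowers]
  rcases (Nat.dvd_prime hp).mp h2 with h | h
  · exact absurd (orderOf_eq_one_iff.mp h) hg1
  · exact h

include hb in
/-- every member commutes with a point of every line -/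
theorem lineB {x y : G} (hx : Subgroup.zpowers x ∈ K) (hy : Subgroup.zpowers y ∈ K)
    (hne : Subgroup.zpowers x ≠ Subgroup.zpowers y) (hc : Commute x y) {W : Subgroup G}
    (hW : W ∈ K) :
    ∃ x' ∈ Subgroup.zpowers x, ∃ y' ∈ Subgroup.zpowers y, x' * y' ≠ 1 ∧
      x' * y' ∈ Subgroup.centralizer (W : Set G) := by
  have hcc := commute_zpowers hc
  have h1 := hb _ hx _ hy hne (fun x' hx' y' hy' => (hcc x' hx' y' hy').eq) W hW
  obtain ⟨g, hg1⟩ := (Subgroup.ne_bot_iff_exists_ne_one).mp h1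
  obtain ⟨hg2, hg3⟩ := Subgroup.mem_inf.mp g.2
  obtain ⟨x', hx', y', hy', hxy⟩ := mem_sup_comm _ _ hcc hg2
  refine ⟨x', hx', y', hy', ?_, ?_⟩
  · rw [← hxy]
    intro h
    apply hg1
    exact Subtype.ext h
  · rw [← hxy]; exact hg3

include hp hK ha in
/-- a line is `K`-pure -/
theorem kpure_sup {x y : G} (hx : Subgroup.zpowers x ∈ K) (hy : Subgroup.zpowers y ∈ K)
    (hne : Subgroup.zpowers x ≠ Subgroup.zpowers y) (hc : Commute x y) :
    KPure K (Subgroup.zpowers x ⊔ Subgroup.zpowers y) := by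
  have hcc := commute_zpowers hc
  constructor
  · intro a ha' b hb'
    obtain ⟨x1, hx1, y1, hy1, rfl⟩ := mem_sup_comm _ _ hcc ha'
    obtain ⟨x2, hx2, y2, hy2, rfl⟩ := mem_sup_comm _ _ hcc hb'
    have e1 : Commute x1 x2 := commute_zpowers (Commute.refl x) x1 hx1 x2 hx2
    have e2 : Commute y1 y2 := commute_zpowers (Commute.refl y) y1 hy1 y2 hy2
    exact ((e1.mul_right (hcc x1 hx1 y2 hy2)).mul_left
      (((hcc x2 hx2 y1 hy1).symm).mul_right e2))
  · intro g hg hg1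
    exact lineK hp K hK ha hx hy hne hc hg hg1

include hp hK ha in
/-- extending a `K`-pure subgroup by a commuting member -/
theorem kpure_extend {A : Subgroup G} (hA : KPure K A) {u : G} (hu : Subgroup.zpowers u ∈ K)
    (hcu : ∀ a ∈ A, Commute u a) : KPure K (A ⊔ Subgroup.zpowers u) := by
  have hcc : ∀ a ∈ A, ∀ u' ∈ Subgroup.zpowers u, Commute a u' := by
    intro a haA u' hu'
    obtain ⟨k, rfl⟩ := Subgroup.mem_zpowers_iff.mp hu'
    exact ((hcu a haA).zpow_left k).symm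
  constructor
  · intro g hg g' hg'
    obtain ⟨a1, ha1, u1, hu1, rfl⟩ := mem_sup_comm _ _ hcc hg
    obtain ⟨a2, ha2, u2, hu2, rfl⟩ := mem_sup_comm _ _ hcc hg'
    have e1 : Commute a1 a2 := hA.1 a1 ha1 a2 ha2
    have e2 : Commute u1 u2 := commute_zpowers (Commute.refl u) u1 hu1 u2 hu2
    exact ((e1.mul_right (hcc a1 ha1 u2 hu2)).mul_left
      (((hcc a2 ha2 u1 hu1).symm).mul_right e2))
  · intro g hg hg1
    obtain ⟨a, haA, u', hu', rfl⟩ := mem_sup_comm _ _ hcc hg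
    by_cases ha1 : a = 1
    · rw [ha1, one_mul] at hg1 ⊢
      rw [zpowers_eq_of_mem hp K hK hu hu' hg1]
      exact hu
    by_cases hu1 : u' = 1
    · rw [hu1, mul_one]
      exact hA.2 a haA ha1
    have hzu : Subgroup.zpowers u' = Subgroup.zpowers u := zpowers_eq_of_mem hp K hK hu hu' hu1
    by_cases heq : Subgroup.zpowers a = Subgroup.zpowers u'
    · apply hA.2 _ _ hg1
      have h1 : u' ∈ Subgroup.zpowers a := by rw [heq]; exact Subgroup.mem_zpowers u'
      exact A.mul_mem haA ((Subgroup.zpowers_le.mpr haA) h1)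
    · refine lineK hp K hK ha (hA.2 a haA ha1) (by rw [hzu]; exact hu) heq (hcc a haA u' hu') ?_ hg1
      exact Subgroup.mul_mem _ (Subgroup.mem_sup_left (Subgroup.mem_zpowers a))
        (Subgroup.mem_sup_right (Subgroup.mem_zpowers u'))

include hp hK hb in
/-- the centralizer of a member in a `K`-pure subgroup has index at most `p` -/
theorem hyperplane {A : Subgroup G} (hA : KPure K A) {W : Subgroup G} (hW : W ∈ K) {a : G}
    (haA : a ∈ A) (haW : a ∉ Subgroup.centralizer (W : Set G)) (x : G) (hx : x ∈ A) :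
    ∃ a' ∈ Subgroup.zpowers a, ∃ c ∈ A, c ∈ Subgroup.centralizer (W : Set G) ∧ x = a' * c := by
  have ha1 : a ≠ 1 := fun h => haW (h ▸ Subgroup.one_mem _)
  have hZa : Subgroup.zpowers a ∈ K := hA.2 a haA ha1
  by_cases hxa : x ∈ Subgroup.zpowers a
  · exact ⟨x, hxa, 1, A.one_mem, Subgroup.one_mem _, (mul_one x).symm⟩
  have hx1 : x ≠ 1 := fun h => hxa (h ▸ Subgroup.one_mem _)
  have hZx : Subgroup.zpowers x ∈ K := hA.2 x hx hx1
  have hne : Subgroup.zpowers a ≠ Subgroup.zpowers x := fun h => hxa (h ▸ Subgroup.mem_zpowers x)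
  obtain ⟨a₁, ha₁, x₁, hx₁, h1, hcW⟩ := lineB K hb hZa hZx hne (hA.1 a haA x hx) hW
  have ha₁A : a₁ ∈ A := (Subgroup.zpowers_le.mpr haA) ha₁
  have hx₁A : x₁ ∈ A := (Subgroup.zpowers_le.mpr hx) hx₁
  have hx₁1 : x₁ ≠ 1 := by
    intro h
    rw [h, mul_one] at h1 hcW
    apply haW
    exact le_centralizer_of_gen hp K hK hZa ha₁ h1 hcW (Subgroup.mem_zpowers a)
  have hxx : x ∈ Subgroup.zpowers x₁ := by
    rw [zpowers_eq_of_mem hp K hK hZx hx₁ hx₁1]; exact Subgroup.mem_zpowers x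
  obtain ⟨k, hk⟩ := Subgroup.mem_zpowers_iff.mp hxx
  refine ⟨(a₁⁻¹) ^ k, Subgroup.zpow_mem _ (Subgroup.inv_mem _ ha₁) k, (a₁ * x₁) ^ k,
    Subgroup.zpow_mem _ (A.mul_mem ha₁A hx₁A) k, Subgroup.zpow_mem _ hcW k, ?_⟩
  have hc : Commute a₁⁻¹ (a₁ * x₁) := hA.1 _ (A.inv_mem ha₁A) _ (A.mul_mem ha₁A hx₁A)
  rw [← hc.mul_zpow, inv_mul_cancel_left, hk]

variable (hKc : ∀ X ∈ K, ∀ g : G, X.map (MulAut.conj g).toMonoidHom ∈ K)

include hp hK ha hb hKc in
/-- the quadrangle argument -/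
theorem quadrangle {A : Subgroup G} (hA : KPure K A)
    (hmax : ∀ A' : Subgroup G, KPure K A' → A ≤ A' → A' ≤ A)
    {W₁ W₂ : Subgroup G} (hW₁ : W₁ ∈ K) (hW₂ : W₂ ∈ K) {a b : G} (haA : a ∈ A) (hbA : b ∈ A)
    (ha2 : a ∈ Subgroup.centralizer (W₂ : Set G)) (ha1 : a ∉ Subgroup.centralizer (W₁ : Set G))
    (hb1 : b ∈ Subgroup.centralizer (W₁ : Set G)) (hb2 : b ∉ Subgroup.centralizer (W₂ : Set G)) :
    ∃ w ∈ W₁, ∃ a' ∈ Subgroup.zpowers a, w ≠ 1 ∧ a' ≠ 1 ∧ w⁻¹ * a' * w * a'⁻¹ ≠ 1 ∧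
      w⁻¹ * a' * w * a'⁻¹ ∈ A ∧ Commute (w⁻¹ * a' * w * a'⁻¹) w ∧
      Commute (w⁻¹ * a' * w * a'⁻¹) a' ∧
      w⁻¹ * a' * w * a'⁻¹ ∈ Subgroup.centralizer (W₂ : Set G) := by
  have hane : a ≠ 1 := fun h => ha1 (h ▸ Subgroup.one_mem _)
  have hbne : b ≠ 1 := fun h => hb2 (h ▸ Subgroup.one_mem _)
  have hZa : Subgroup.zpowers a ∈ K := hA.2 a haA hane
  have hZb : Subgroup.zpowers b ∈ K := hA.2 b hbA hbne
  -- generators
  obtain ⟨w₀, hw₀, hw₀a⟩ : ∃ w₀ ∈ W₁, ¬ Commute a w₀ := by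
    by_contra hcon
    push Not at hcon
    apply ha1
    rw [Subgroup.mem_centralizer_iff]
    intro h hh
    exact ((hcon h hh).eq).symm
  have hw₀1 : w₀ ≠ 1 := fun h => hw₀a (h ▸ Commute.one_right a)
  have hW₁z : W₁ = Subgroup.zpowers w₀ := eq_zpowers hp K hK hW₁ hw₀ hw₀1
  obtain ⟨w₂, hw₂, hw₂b⟩ : ∃ w₂ ∈ W₂, ¬ Commute b w₂ := by
    by_contra hcon
    push Not at hcon
    apply hb2
    rw [Subgroup.mem_centralizer_iff]
    intro h hh
    exact ((hcon h hh).eq).symm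
  have hw₂1 : w₂ ≠ 1 := fun h => hw₂b (h ▸ Commute.one_right b)
  have hW₂z : W₂ = Subgroup.zpowers w₂ := eq_zpowers hp K hK hW₂ hw₂ hw₂1
  have hZw₀ : Subgroup.zpowers w₀ ∈ K := hW₁z ▸ hW₁
  have hZw₂ : Subgroup.zpowers w₂ ∈ K := hW₂z ▸ hW₂
  -- step 1
  have hne1 : Subgroup.zpowers b ≠ Subgroup.zpowers w₀ := by
    intro h
    apply hw₀a
    have : w₀ ∈ A := (Subgroup.zpowers_le.mpr hbA) (h ▸ Subgroup.mem_zpowers w₀)
    exact hA.1 a haA w₀ this
  have hbw₀ : Commute b w₀ := commute_of_mem_centralizer hb1 hw₀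
  obtain ⟨b', hb', w', hw', hq1, hqc⟩ := lineB K hb hZb hZw₀ hne1 hbw₀ hW₂
  have hb'A : b' ∈ A := (Subgroup.zpowers_le.mpr hbA) hb'
  have hw'W : w' ∈ W₁ := hW₁z ▸ hw'
  have hw'1 : w' ≠ 1 := by
    intro h
    rw [h, mul_one] at hq1 hqc
    apply hb2
    exact le_centralizer_of_gen hp K hK hZb hb' hq1 hqc (Subgroup.mem_zpowers b)
  set wq := b' * w' with hwq
  have hZwq : Subgroup.zpowers wq ∈ K :=
    lineK hp K hK ha hZb hZw₀ hne1 hbw₀
      (Subgroup.mul_mem _ (Subgroup.mem_sup_left hb') (Subgroup.mem_sup_right hw')) hq1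
  have hbw' : Commute b w' := commute_of_mem_centralizer hb1 hw'W
  have hb'w' : Commute b' w' := by
    obtain ⟨k, rfl⟩ := Subgroup.mem_zpowers_iff.mp hb'
    exact hbw'.zpow_left k
  have hawq : ¬ Commute a wq := by
    intro h
    apply ha1
    have h1 : Commute a b' := hA.1 a haA b' hb'A
    have h2 : Commute a (b'⁻¹ * wq) := h1.inv_right.mul_right h
    rw [hwq, inv_mul_cancel_left] at h2
    exact mem_centralizer_of_gen hp K hK hW₁ hw'W hw'1 h2
  -- step 2
  have hne2 : Subgroup.zpowers wq ≠ Subgroup.zpowers w₂ := by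
    intro h
    apply hawq
    have : wq ∈ W₂ := by rw [hW₂z, ← h]; exact Subgroup.mem_zpowers wq
    exact commute_of_mem_centralizer ha2 this
  have hwqw₂ : Commute wq w₂ := commute_of_mem_centralizer hqc hw₂
  have hD1 : wq * w₂ ≠ 1 := by
    intro h
    apply hawq
    have h1 : wq = w₂⁻¹ := eq_inv_of_mul_eq_one_left h
    rw [h1]
    exact (commute_of_mem_centralizer ha2 hw₂).inv_right
  have hZD : Subgroup.zpowers (wq * w₂) ∈ K :=
    lineK hp K hK ha hZwq hZw₂ hne2 hwqw₂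
      (Subgroup.mul_mem _ (Subgroup.mem_sup_left (Subgroup.mem_zpowers wq))
        (Subgroup.mem_sup_right (Subgroup.mem_zpowers w₂))) hD1
  have hne3 : Subgroup.zpowers a ≠ Subgroup.zpowers b := by
    intro h
    apply ha1
    have h1 : Subgroup.zpowers b ≤ Subgroup.centralizer (W₁ : Set G) := Subgroup.zpowers_le.mpr hb1
    exact h1 (h ▸ Subgroup.mem_zpowers a)
  obtain ⟨a', ha', b'', hb'', hg1, hgc⟩ := lineB K hb hZa hZb hne3 (hA.1 a haA b hbA) hZD
  have ha'A : a' ∈ A := (Subgroup.zpowers_le.mpr haA) ha'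
  have hb''A : b'' ∈ A := (Subgroup.zpowers_le.mpr hbA) hb''
  have hgD : Commute (a' * b'') (wq * w₂) := commute_of_mem_centralizer hgc (Subgroup.mem_zpowers _)
  -- commutation facts
  have c1 : Commute a' b'' := hA.1 a' ha'A b'' hb''A
  have c2 : Commute a' w₂ := by
    have h1 : Subgroup.zpowers a ≤ Subgroup.centralizer (W₂ : Set G) := Subgroup.zpowers_le.mpr ha2
    exact commute_of_mem_centralizer (h1 ha') hw₂
  have hbwq : Commute b wq := (hA.1 b hbA b' hb'A).mul_right hbw'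
  have c3 : Commute b'' wq := by
    obtain ⟨k, rfl⟩ := Subgroup.mem_zpowers_iff.mp hb''
    exact hbwq.zpow_left k
  have c4 : Commute wq w₂ := hwqw₂
  set u := wq⁻¹ * a' * wq * a'⁻¹ with hu
  set v := b'' * w₂ * b''⁻¹ * w₂⁻¹ with hv
  have hstar : a' * wq * (b'' * w₂) = wq * a' * (w₂ * b'') := by
    have h1 : a' * b'' * (wq * w₂) = wq * w₂ * (a' * b'') := hgD.eq
    calc a' * wq * (b'' * w₂) = a' * (wq * b'') * w₂ := by group
      _ = a' * (b'' * wq) * w₂ := by rw [c3.eq]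
      _ = a' * b'' * (wq * w₂) := by group
      _ = wq * w₂ * (a' * b'') := h1
      _ = wq * (w₂ * a') * b'' := by group
      _ = wq * (a' * w₂) * b'' := by rw [c2.eq]
      _ = wq * a' * (w₂ * b'') := by group
  have huv : u * v = 1 := by
    have e1 : a'⁻¹ * (b'' * w₂) = (b'' * w₂) * a'⁻¹ := ((c1.mul_right c2).inv_left).eq
    have e2 : a' * (w₂ * b'') = (w₂ * b'') * a' := (c2.mul_right c1).eq
    calc u * v = wq⁻¹ * a' * wq * (a'⁻¹ * (b'' * w₂)) * (b''⁻¹ * w₂⁻¹) := by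
          rw [hu, hv]; group
      _ = wq⁻¹ * a' * wq * ((b'' * w₂) * a'⁻¹) * (b''⁻¹ * w₂⁻¹) := by rw [e1]
      _ = wq⁻¹ * (a' * wq * (b'' * w₂)) * a'⁻¹ * (b''⁻¹ * w₂⁻¹) := by group
      _ = wq⁻¹ * (wq * a' * (w₂ * b'')) * a'⁻¹ * (b''⁻¹ * w₂⁻¹) := by rw [hstar]
      _ = (a' * (w₂ * b'')) * a'⁻¹ * (b''⁻¹ * w₂⁻¹) := by group
      _ = ((w₂ * b'') * a') * a'⁻¹ * (b''⁻¹ * w₂⁻¹) := by rw [e2]
      _ = 1 := by group
  have hu_eq : u = v⁻¹ := eq_inv_of_mul_eq_one_left huv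
  have hub'' : Commute u b'' :=
    (((c3.symm.inv_left).mul_left c1).mul_left c3.symm).mul_left c1.inv_left
  have huw₂ : Commute u w₂ :=
    (((c4.inv_left).mul_left c2).mul_left c4).mul_left c2.inv_left
  have hva' : Commute v a' :=
    (((c1.symm).mul_left c2.symm).mul_left c1.symm.inv_left).mul_left c2.symm.inv_left
  have hvwq : Commute v wq :=
    ((c3.mul_left c4.symm).mul_left c3.inv_left).mul_left c4.symm.inv_left
  have hua' : Commute u a' := by rw [hu_eq]; exact hva'.inv_left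
  have huwq : Commute u wq := by rw [hu_eq]; exact hvwq.inv_left
  -- non-triviality
  have hb''1 : b'' ≠ 1 → b ∈ Subgroup.zpowers b'' := fun h => by
    rw [zpowers_eq_of_mem hp K hK hZb hb'' h]; exact Subgroup.mem_zpowers b
  have hv1 : v = 1 → b'' = 1 := by
    intro h
    by_contra hne
    apply hb2
    have h1 : Commute b'' w₂ := by
      have : b'' * w₂ * b''⁻¹ * w₂⁻¹ = 1 := h
      have h2 : b'' * w₂ = w₂ * b'' := by
        calc b'' * w₂ = (b'' * w₂ * b''⁻¹ * w₂⁻¹) * (w₂ * b'') := by group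
          _ = w₂ * b'' := by rw [this, one_mul]
      exact h2
    have h3 : b'' ∈ Subgroup.centralizer (W₂ : Set G) := mem_centralizer_of_gen hp K hK hW₂ hw₂ hw₂1 h1
    exact le_centralizer_of_gen hp K hK hZb hb'' hne h3 (Subgroup.mem_zpowers b)
  have ha'1 : a' ≠ 1 := by
    intro h
    have h1 : u = 1 := by rw [hu, h]; group
    have h2 : v = 1 := by rw [h1, one_mul] at huv; exact huv
    have h3 := hv1 h2
    rw [h, h3, mul_one] at hg1
    exact hg1 rfl
  have haa' : a ∈ Subgroup.zpowers a' := by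
    rw [zpowers_eq_of_mem hp K hK hZa ha' ha'1]; exact Subgroup.mem_zpowers a
  have hu1 : u ≠ 1 := by
    intro h
    apply hawq
    have h1 : Commute a' wq := by
      have : wq⁻¹ * a' * wq * a'⁻¹ = 1 := h
      have h2 : a' * wq = wq * a' := by
        calc a' * wq = wq * (wq⁻¹ * a' * wq * a'⁻¹) * a' := by group
          _ = wq * a' := by rw [this, mul_one]
      exact h2
    obtain ⟨k, hk⟩ := Subgroup.mem_zpowers_iff.mp haa'
    rw [← hk]
    exact h1.zpow_left k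
  have hb''ne : b'' ≠ 1 := by
    intro h
    apply hu1
    have h1 : v = 1 := by rw [hv, h]; group
    rw [h1, mul_one] at huv
    exact huv
  -- rewrite with the generator `w'`
  have hu' : u = w'⁻¹ * a' * w' * a'⁻¹ := by
    have h1 : Commute b' a' := hA.1 b' hb'A a' ha'A
    have h2 : b'⁻¹ * a' * b' = a' := by
      rw [mul_assoc, ← h1.eq, inv_mul_cancel_left]
    calc u = w'⁻¹ * (b'⁻¹ * a' * b') * w' * a'⁻¹ := by rw [hu, hwq]; group
      _ = w'⁻¹ * a' * w' * a'⁻¹ := by rw [h2]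
  have hub' : Commute u b' := by
    have h1 : u ∈ Subgroup.centralizer ((Subgroup.zpowers b'' : Subgroup G) : Set G) :=
      mem_centralizer_zpowers hub''
    rw [zpowers_eq_of_mem hp K hK hZb hb'' hb''ne] at h1
    exact commute_of_mem_centralizer h1 hb'
  have huw' : Commute u w' := by
    have h2 : Commute u (b'⁻¹ * wq) := hub'.inv_right.mul_right huwq
    rw [hwq, inv_mul_cancel_left] at h2
    exact h2
  have huW₂ : u ∈ Subgroup.centralizer (W₂ : Set G) :=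
    mem_centralizer_of_gen hp K hK hW₂ hw₂ hw₂1 huw₂
  -- `u` lies in `A`
  have hZa' : Subgroup.zpowers a' ∈ K := hA.2 a' ha'A ha'1
  set y := w'⁻¹ * a' * w' with hy
  have hyu : y = u * a' := by rw [hu', hy]; group
  have hZy : Subgroup.zpowers y ∈ K := by
    have h1 := hKc _ hZa' w'⁻¹
    rw [MonoidHom.map_zpowers] at h1
    have h2 : (MulAut.conj w'⁻¹).toMonoidHom a' = y := by
      simp [hy]
    rw [h2] at h1
    exact h1
  have ha'y : Commute a' y := by
    rw [hyu]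
    exact hua'.symm.mul_right (Commute.refl a')
  have hne4 : Subgroup.zpowers a' ≠ Subgroup.zpowers y := by
    intro h
    apply ha1
    have h1 : y ∈ Subgroup.zpowers a' := h ▸ Subgroup.mem_zpowers y
    have h2 : u ∈ Subgroup.zpowers a' := by
      have : u = y * a'⁻¹ := by rw [hyu]; group
      rw [this]
      exact Subgroup.mul_mem _ h1 (Subgroup.inv_mem _ (Subgroup.mem_zpowers a'))
    have h3 : Subgroup.zpowers u = Subgroup.zpowers a' := zpowers_eq_of_mem hp K hK hZa' h2 hu1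
    have h4 : a' ∈ Subgroup.zpowers u := h3 ▸ Subgroup.mem_zpowers a'
    obtain ⟨k, hk⟩ := Subgroup.mem_zpowers_iff.mp h4
    have h5 : Commute a' w' := by rw [← hk]; exact huw'.zpow_left k
    have h6 : a' ∈ Subgroup.centralizer (W₁ : Set G) :=
      mem_centralizer_of_gen hp K hK hW₁ hw'W hw'1 h5
    exact le_centralizer_of_gen hp K hK hZa ha' ha'1 h6 (Subgroup.mem_zpowers a)
  have hZu : Subgroup.zpowers u ∈ K := by
    refine lineK hp K hK ha hZa' hZy hne4 ha'y ?_ hu1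
    have : u = a'⁻¹ * y := by
      rw [hyu]
      have := hua'.inv_right
      rw [← mul_assoc, ← this.eq, inv_mul_cancel_right]
    rw [this]
    exact Subgroup.mul_mem _ (Subgroup.mem_sup_left (Subgroup.inv_mem _ (Subgroup.mem_zpowers a')))
      (Subgroup.mem_sup_right (Subgroup.mem_zpowers y))
  have huA : ∀ x ∈ A, Commute u x := by
    intro x hx
    obtain ⟨a'', ha'', c, hcA, hcW, rfl⟩ := hyperplane hp K hK hb hA hW₁ haA ha1 x hx
    have h1 : Commute u a'' := by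
      have h2 : a'' ∈ Subgroup.zpowers a' := by
        rw [zpowers_eq_of_mem hp K hK hZa ha' ha'1]; exact ha''
      obtain ⟨k, rfl⟩ := Subgroup.mem_zpowers_iff.mp h2
      exact hua'.zpow_right k
    have h3 : Commute c w' := commute_of_mem_centralizer hcW hw'W
    have h4 : Commute c a' := hA.1 c hcA a' ha'A
    have h5 : Commute u c := by
      rw [hu']
      exact ((((h3.inv_right).mul_right h4).mul_right h3).mul_right h4.inv_right).symm
    exact h1.mul_right h5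
  have hext := kpure_extend hp K hK ha hA hZu huA
  have hle := hmax _ hext le_sup_left
  have huA' : u ∈ A := hle (Subgroup.mem_sup_right (Subgroup.mem_zpowers u))
  refine ⟨w', hw'W, a', ha', hw'1, ha'1, ?_, ?_, ?_, ?_, ?_⟩
  · rw [← hu']; exact hu1
  · rw [← hu']; exact huA'
  · rw [← hu']; exact huw'
  · rw [← hu']; exact hua'
  · rw [← hu']; exact huW₂

include hp hK hb in
/-- moving an element into a prescribed centralizer -/
theorem exists_a {A : Subgroup G} (hA : KPure K A) {W₁ W₂ : Subgroup G} (hW₂ : W₂ ∈ K)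
    {a₀ b : G} (ha₀A : a₀ ∈ A) (hbA : b ∈ A)
    (ha₀ : a₀ ∉ Subgroup.centralizer (W₁ : Set G)) (hb1 : b ∈ Subgroup.centralizer (W₁ : Set G))
    (hb2 : b ∉ Subgroup.centralizer (W₂ : Set G)) :
    ∃ a ∈ A, a ∈ Subgroup.centralizer (W₂ : Set G) ∧ a ∉ Subgroup.centralizer (W₁ : Set G) := by
  have ha₀1 : a₀ ≠ 1 := fun h => ha₀ (h ▸ Subgroup.one_mem _)
  have hb1' : b ≠ 1 := fun h => hb2 (h ▸ Subgroup.one_mem _)
  have hZa : Subgroup.zpowers a₀ ∈ K := hA.2 a₀ ha₀A ha₀1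
  have hZb : Subgroup.zpowers b ∈ K := hA.2 b hbA hb1'
  have hbW₁ : Subgroup.zpowers b ≤ Subgroup.centralizer (W₁ : Set G) := Subgroup.zpowers_le.mpr hb1
  have hne : Subgroup.zpowers a₀ ≠ Subgroup.zpowers b := by
    intro h
    exact ha₀ (hbW₁ (h ▸ Subgroup.mem_zpowers a₀))
  obtain ⟨a₁, ha₁, b₁, hb₁, h1, hc⟩ := lineB K hb hZa hZb hne (hA.1 a₀ ha₀A b hbA) hW₂
  have ha₁A : a₁ ∈ A := (Subgroup.zpowers_le.mpr ha₀A) ha₁
  have hb₁A : b₁ ∈ A := (Subgroup.zpowers_le.mpr hbA) hb₁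
  have ha₁1 : a₁ ≠ 1 := by
    intro h
    rw [h, one_mul] at h1 hc
    exact hb2 (le_centralizer_of_gen hp K hK hZb hb₁ h1 hc (Subgroup.mem_zpowers b))
  refine ⟨a₁ * b₁, A.mul_mem ha₁A hb₁A, hc, ?_⟩
  intro h
  apply ha₀
  have h2 : a₁ ∈ Subgroup.centralizer (W₁ : Set G) := by
    have := Subgroup.mul_mem _ h (Subgroup.inv_mem _ (hbW₁ hb₁))
    rwa [mul_inv_cancel_right] at this
  exact le_centralizer_of_gen hp K hK hZa ha₁ ha₁1 h2 (Subgroup.mem_zpowers a₀)

include hp hK ha hb hKc in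
/-- the key claim: some member of `K` commutes with every member -/
theorem exists_central (hex : ∃ X ∈ K, ∃ Y ∈ K, X ≠ Y ∧ ∀ x ∈ X, ∀ y ∈ Y, x * y = y * x) :
    ∃ u : G, u ≠ 1 ∧ Subgroup.zpowers u ∈ K ∧
      ∀ W ∈ K, u ∈ Subgroup.centralizer (W : Set G) := by
  obtain ⟨X, hX, Y, hY, hXY, hcXY⟩ := hex
  have hp2 : 2 ≤ p := hp.two_le
  obtain ⟨x, hx, hx1⟩ : ∃ x ∈ X, x ≠ 1 := by
    by_contra hcon
    push Not at hcon
    have : X = ⊥ := (Subgroup.eq_bot_iff_forall X).mpr hcon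
    have h1 := hK X hX
    rw [this, Subgroup.card_bot] at h1
    omega
  obtain ⟨y, hy, hy1⟩ : ∃ y ∈ Y, y ≠ 1 := by
    by_contra hcon
    push Not at hcon
    have : Y = ⊥ := (Subgroup.eq_bot_iff_forall Y).mpr hcon
    have h1 := hK Y hY
    rw [this, Subgroup.card_bot] at h1
    omega
  have hXz : X = Subgroup.zpowers x := eq_zpowers hp K hK hX hx hx1
  have hYz : Y = Subgroup.zpowers y := eq_zpowers hp K hK hY hy hy1
  have hZx : Subgroup.zpowers x ∈ K := hXz ▸ hX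
  have hZy : Subgroup.zpowers y ∈ K := hYz ▸ hY
  have hne : Subgroup.zpowers x ≠ Subgroup.zpowers y := by rw [← hXz, ← hYz]; exact hXY
  have hcxy : Commute x y := hcXY x hx y hy
  have hL := kpure_sup hp K hK ha hZx hZy hne hcxy
  -- a maximal `K`-pure subgroup
  obtain ⟨A, hAm⟩ := (Set.toFinite {A : Subgroup G | Subgroup.zpowers x ⊔ Subgroup.zpowers y ≤ A ∧
    KPure K A}).exists_maximal ⟨_, le_rfl, hL⟩
  have hLA : Subgroup.zpowers x ⊔ Subgroup.zpowers y ≤ A := hAm.1.1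
  have hA : KPure K A := hAm.1.2
  have hmax : ∀ A' : Subgroup G, KPure K A' → A ≤ A' → A' ≤ A := fun A' hA' hle =>
    hAm.2 ⟨hLA.trans hle, hA'⟩ hle
  have hxA : x ∈ A := hLA (Subgroup.mem_sup_left (Subgroup.mem_zpowers x))
  have hyA : y ∈ A := hLA (Subgroup.mem_sup_right (Subgroup.mem_zpowers y))
  by_cases hc1 : ∀ W ∈ K, ∀ a ∈ A, a ∈ Subgroup.centralizer (W : Set G)
  · exact ⟨x, hx1, hZx, fun W hW => hc1 W hW x hxA⟩
  push Not at hc1
  obtain ⟨W₁, hW₁, a₀, ha₀A, ha₀⟩ := hc1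
  obtain ⟨x', hx', y', hy', hb₀1, hb₀c⟩ := lineB K hb hZx hZy hne hcxy hW₁
  have hb₀A : x' * y' ∈ A :=
    hLA (Subgroup.mul_mem _ (Subgroup.mem_sup_left hx') (Subgroup.mem_sup_right hy'))
  by_cases hc2 : ∀ W ∈ K, ∀ b ∈ A, b ∈ Subgroup.centralizer (W₁ : Set G) →
      b ∈ Subgroup.centralizer (W : Set G)
  · exact ⟨x' * y', hb₀1, hA.2 _ hb₀A hb₀1, fun W hW => hc2 W hW _ hb₀A hb₀c⟩
  push Not at hc2
  obtain ⟨W₂, hW₂, b, hbA, hb1, hb2⟩ := hc2
  obtain ⟨a, haA, ha2, ha1⟩ := exists_a hp K hK hb hA hW₂ ha₀A hbA ha₀ hb1 hb2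
  obtain ⟨w, hwW, a', ha', hw1, ha'1, hu1, huA, huw, hua', huW₂⟩ :=
    quadrangle hp K hK ha hb hKc hA hmax hW₁ hW₂ haA hbA ha2 ha1 hb1 hb2
  set u := w⁻¹ * a' * w * a'⁻¹ with hu
  have hane : a ≠ 1 := fun h => ha1 (h ▸ Subgroup.one_mem _)
  have hZa : Subgroup.zpowers a ∈ K := hA.2 a haA hane
  have ha'A : a' ∈ A := (Subgroup.zpowers_le.mpr haA) ha'
  have hZu : Subgroup.zpowers u ∈ K := hA.2 u huA hu1
  have huW₁ : u ∈ Subgroup.centralizer (W₁ : Set G) := mem_centralizer_of_gen hp K hK hW₁ hwW hw1 huw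
  have ha'W₁ : a' ∉ Subgroup.centralizer (W₁ : Set G) := by
    intro h
    exact ha1 (le_centralizer_of_gen hp K hK hZa ha' ha'1 h (Subgroup.mem_zpowers a))
  have hW₁z : W₁ = Subgroup.zpowers w := eq_zpowers hp K hK hW₁ hwW hw1
  refine ⟨u, hu1, hZu, ?_⟩
  intro W₃ hW₃
  by_cases hc3 : ∀ b ∈ A, b ∈ Subgroup.centralizer (W₁ : Set G) →
      b ∈ Subgroup.centralizer (W₃ : Set G)
  · exact hc3 u huA huW₁
  push Not at hc3
  obtain ⟨b₃, hb₃A, hb₃1, hb₃3⟩ := hc3
  obtain ⟨a₃, ha₃A, ha₃3, ha₃1⟩ := exists_a hp K hK hb hA hW₃ haA hb₃A ha1 hb₃1 hb₃3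
  obtain ⟨w₃, hw₃W, a₃', ha₃', hw₃1, ha₃'1, hu₃1, hu₃A, hu₃w, hu₃a, hu₃W₃⟩ :=
    quadrangle hp K hK ha hb hKc hA hmax hW₁ hW₃ ha₃A hb₃A ha₃3 ha₃1 hb₃1 hb₃3
  set u₃ := w₃⁻¹ * a₃' * w₃ * a₃'⁻¹ with hu₃
  have ha₃'A : a₃' ∈ A := (Subgroup.zpowers_le.mpr ha₃A) ha₃'
  -- `u₃` is a power of `u`
  have hw₃z : w₃ ∈ Subgroup.zpowers w := hW₁z ▸ hw₃W
  obtain ⟨t, ht⟩ := (mem_powers_iff_mem_zpowers).mpr hw₃z
  obtain ⟨a'', ha'', c, hcA, hcW, hac⟩ := hyperplane hp K hK hb hA hW₁ ha'A ha'W₁ a₃' ha₃'A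
  obtain ⟨k, hk⟩ := (mem_powers_iff_mem_zpowers).mpr ha''
  have hcw : Commute c w := commute_of_mem_centralizer hcW hwW
  have hconj : w⁻¹ * a' * w = u * a' := by rw [hu]; group
  have hpow := conj_pow_eq hconj huw hua' hcw t k
  have hu₃u : u₃ ∈ Subgroup.zpowers u := by
    have : u₃ = u ^ (t * k) := by
      rw [← hpow, hu₃, hac, ← ht, ← hk]
    rw [this]
    exact Subgroup.pow_mem _ (Subgroup.mem_zpowers u) _
  have hzz : Subgroup.zpowers u₃ = Subgroup.zpowers u := zpowers_eq_of_mem hp K hK hZu hu₃u hu₃1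
  have h1 : Subgroup.zpowers u₃ ≤ Subgroup.centralizer (W₃ : Set G) := Subgroup.zpowers_le.mpr hu₃W₃
  exact h1 (hzz ▸ Subgroup.mem_zpowers u)

end axioms

/-- Let p be a prime and K a set of subgroups of order p of a finite group G, closed under conjugation, such that at least two distinct members of K commute elementwise, and whenever two distinct members X, Y of K commute: every subgroup of order p of the group XY they generate belongs to K, and every member W of K has centralizer meeting XY nontrivially. Then some member V of K commutes elementwise with every member of K and lies in O_p(G); in particular G is not simple. -/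
theorem result {G : Type*} [Group G] [Finite G]
    {p : ℕ} (hp : p.Prime) (K : Set (Subgroup G)) (hK : ∀ X ∈ K, Nat.card ↥X = p)
    (hKc : ∀ X ∈ K, ∀ g : G, X.map (MulAut.conj g).toMonoidHom ∈ K)
    (hex : ∃ X ∈ K, ∃ Y ∈ K, X ≠ Y ∧ ∀ x ∈ X, ∀ y ∈ Y, x * y = y * x)
    (ha : ∀ X ∈ K, ∀ Y ∈ K, X ≠ Y → (∀ x ∈ X, ∀ y ∈ Y, x * y = y * x) →
      ∀ Z : Subgroup G, Z ≤ X ⊔ Y → Nat.card ↥Z = p → Z ∈ K)
    (hb : ∀ X ∈ K, ∀ Y ∈ K, X ≠ Y → (∀ x ∈ X, ∀ y ∈ Y, x * y = y * x) →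
      ∀ W ∈ K, (X ⊔ Y) ⊓ Subgroup.centralizer (W : Set G) ≠ ⊥) :
    (∃ V ∈ K, (∀ W ∈ K, ∀ v ∈ V, ∀ w ∈ W, v * w = w * v) ∧ V ≤ Cfsg.pCore p G) ∧ ¬ IsSimpleGroup G := by
  obtain ⟨u, hu1, hZu, hucent⟩ := exists_central hp K hK ha hb hKc hex
  -- conjugates of `u` commute with every member
  have hconj : ∀ g : G, ∀ W ∈ K, g * u * g⁻¹ ∈ Subgroup.centralizer (W : Set G) := by
    intro g W hW
    rw [Subgroup.mem_centralizer_iff]
    intro w hw
    have h1 : g⁻¹ * w * g ∈ W.map (MulAut.conj g⁻¹).toMonoidHom := by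
      refine Subgroup.mem_map.mpr ⟨w, hw, ?_⟩
      simp
    have h2 := commute_of_mem_centralizer (hucent _ (hKc W hW g⁻¹)) h1
    have h3 : u * (g⁻¹ * w * g) = (g⁻¹ * w * g) * u := h2.eq
    calc w * (g * u * g⁻¹) = g * ((g⁻¹ * w * g) * u) * g⁻¹ := by group
      _ = g * (u * (g⁻¹ * w * g)) * g⁻¹ := by rw [h3]
      _ = g * u * g⁻¹ * w := by group
  set N := Subgroup.normalClosure ({u} : Set G) with hN
  have hNn : N.Normal := Subgroup.normalClosure_normal
  have hgen : ∀ c ∈ Group.conjugatesOfSet ({u} : Set G), ∃ g : G, c = g * u * g⁻¹ := by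
    intro c hc
    obtain ⟨b, hb', hbc⟩ := Group.mem_conjugatesOfSet_iff.mp hc
    rw [Set.mem_singleton_iff] at hb'
    subst hb'
    obtain ⟨g, hg⟩ := isConj_iff.mp hbc
    exact ⟨g, hg.symm⟩
  have hNcent : ∀ W ∈ K, N ≤ Subgroup.centralizer (W : Set G) := by
    intro W hW
    rw [hN, Subgroup.normalClosure]
    rw [Subgroup.closure_le]
    intro c hc
    obtain ⟨g, rfl⟩ := hgen c hc
    exact hconj g W hW
  have hNcomm : ∀ x ∈ N, ∀ y ∈ N, Commute x y := by
    intro x hx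
    have h1 : N ≤ Subgroup.centralizer ({x} : Set G) := by
      rw [hN, Subgroup.normalClosure, Subgroup.closure_le]
      intro c hc
      obtain ⟨g, rfl⟩ := hgen c hc
      rw [SetLike.mem_coe, Subgroup.mem_centralizer_singleton_iff]
      -- `g u g⁻¹` lies in a member of `K`
      have hW := hKc _ hZu g
      have h2 : g * u * g⁻¹ ∈ (Subgroup.zpowers u).map (MulAut.conj g).toMonoidHom :=
        Subgroup.mem_map.mpr ⟨u, Subgroup.mem_zpowers u, by simp⟩
      exact (commute_of_mem_centralizer (hNcent _ hW hx) h2).eq.symm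
    intro y hy
    have := h1 hy
    rw [Subgroup.mem_centralizer_singleton_iff] at this
    exact this.symm
  have hupow : u ^ p = 1 := pow_eq_one hp K hK hZu (Subgroup.mem_zpowers u)
  have hNpow : ∀ x ∈ N, x ^ p = 1 := by
    intro x hx
    rw [hN, Subgroup.normalClosure] at hx
    induction hx using Subgroup.closure_induction with
    | mem c hc =>
      obtain ⟨g, rfl⟩ := hgen c hc
      have : (g * u * g⁻¹) ^ p = g * u ^ p * g⁻¹ := conj_pow
      rw [this, hupow]; group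
    | one => exact one_pow p
    | mul x y hx hy hxp hyp =>
      have hc : Commute x y := hNcomm x (by rw [hN, Subgroup.normalClosure]; exact hx) y
        (by rw [hN, Subgroup.normalClosure]; exact hy)
      rw [hc.mul_pow, hxp, hyp, one_mul]
    | inv x hx hxp => rw [inv_pow, hxp, inv_one]
  have hNp : IsPGroup p N := by
    intro g
    refine ⟨1, ?_⟩
    apply Subtype.ext
    rw [pow_one]
    exact hNpow g.1 g.2
  have huN : u ∈ N := Subgroup.subset_normalClosure (Set.mem_singleton u)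
  refine ⟨⟨Subgroup.zpowers u, hZu, ?_, ?_⟩, ?_⟩
  · intro W hW v hv w hw
    have h1 : Subgroup.zpowers u ≤ Subgroup.centralizer (W : Set G) :=
      Subgroup.zpowers_le.mpr (hucent W hW)
    exact (commute_of_mem_centralizer (h1 hv) hw).eq
  · refine le_trans (Subgroup.zpowers_le.mpr huN) ?_
    exact le_sSup ⟨hNn, hNp⟩
  · intro hs
    rcases hs.eq_bot_or_eq_top_of_normal N hNn with h | h
    · rw [h, Subgroup.mem_bot] at huN
      exact hu1 huN
    · obtain ⟨X, hX, Y, hY, hXY, -⟩ := hex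
      have hcomm : ∀ x y : G, Commute x y := fun x y =>
        hNcomm x (h ▸ Subgroup.mem_top x) y (h ▸ Subgroup.mem_top y)
      have hnorm : ∀ Z : Subgroup G, Z.Normal := fun Z =>
        ⟨fun n hn g => by rw [(hcomm g n).eq, mul_inv_cancel_right]; exact hn⟩
      have hp2 : 2 ≤ p := hp.two_le
      have hXtop : X = ⊤ := by
        rcases hs.eq_bot_or_eq_top_of_normal X (hnorm X) with h' | h'
        · have := hK X hX
          rw [h', Subgroup.card_bot] at this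
          omega
        · exact h'
      have hYtop : Y = ⊤ := by
        rcases hs.eq_bot_or_eq_top_of_normal Y (hnorm Y) with h' | h'
        · have := hK Y hY
          rw [h', Subgroup.card_bot] at this
          omega
        · exact h'
      exact hXY (hXtop.trans hYtop.symm)

end Cfsg.Agent.S3196
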