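import Cfsg.Statements.S3200
-- import your own Cfsg.Agent.* helpers here
import Mathlib
import Cfsg.Agent.Lib.H23.BurnsidePQ
import Cfsg.Agent.Lib.H1.Hall
import Cfsg.Agent.Lib.H1.IndexBasic

set_option autoImplicit false
open Cfsg

namespace Cfsg.Agent.S3200

universe u

/-- An abelian Hall `2'`-subgroup: abelian, of odd order, of index a power of two. -/
def HasAbHall (H : Type*) [Group H] : Prop :=
  ∃ C : Subgroup H, IsMulCommutative ↥C ∧ (Nat.card C).Coprime 2 ∧ ∃ k : ℕ, C.index = 2 ^ k

theorem hasAbHall_of_complement {H : Type*} [Group H] [Finite H]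
    (S : Sylow 2 H) (C : Subgroup H) (hC : IsMulCommutative ↥C)
    (hSC : Subgroup.IsComplement' (S : Subgroup H) C) : HasAbHall H := by
  have hmul := hSC.card_mul
  have hSi := Subgroup.card_mul_index (S : Subgroup H)
  have hCi := Subgroup.card_mul_index C
  have hSpos : 0 < Nat.card (S : Subgroup H) := Nat.card_pos
  have hCpos : 0 < Nat.card C := Nat.card_pos
  have h1 : Nat.card C = (S : Subgroup H).index := by
    have : Nat.card (S : Subgroup H) * Nat.card C =
        Nat.card (S : Subgroup H) * (S : Subgroup H).index := by rw [hmul, hSi]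
    exact Nat.eq_of_mul_eq_mul_left hSpos this
  have h2 : C.index = Nat.card (S : Subgroup H) := by
    have : Nat.card C * C.index = Nat.card C * Nat.card (S : Subgroup H) := by
      rw [hCi, mul_comm, hmul]
    exact Nat.eq_of_mul_eq_mul_left hCpos this
  obtain ⟨k, hk⟩ := IsPGroup.iff_card.mp S.isPGroup'
  refine ⟨C, hC, ?_, k, h2.trans hk⟩
  rw [h1]
  have := S.not_dvd_index
  exact (Nat.coprime_comm.mp ((Nat.Prime.coprime_iff_not_dvd Nat.prime_two).mpr this))

theorem complement_of_hasAbHall {H : Type*} [Group H] [Finite H] (h : HasAbHall H) :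
    ∃ (P : Sylow 2 H) (D : Subgroup H), IsMulCommutative ↥D ∧
      Subgroup.IsComplement' (P : Subgroup H) D := by
  obtain ⟨C, hC, hodd, k, hk⟩ := h
  obtain ⟨P⟩ : Nonempty (Sylow 2 H) := inferInstance
  refine ⟨P, C, hC, ?_⟩
  obtain ⟨j, hj⟩ := IsPGroup.iff_card.mp P.isPGroup'
  have hSi := Subgroup.card_mul_index (P : Subgroup H)
  have hCi := Subgroup.card_mul_index C
  have hPodd : (2 : ℕ).Coprime (P : Subgroup H).index :=
    (Nat.Prime.coprime_iff_not_dvd Nat.prime_two).mpr P.not_dvd_index
  have hjk : 2 ^ j = 2 ^ k := by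
    apply Nat.dvd_antisymm
    · have h1 : 2 ^ j ∣ Nat.card C * 2 ^ k := by
        rw [← hk, hCi, ← hSi, hj]; exact Dvd.intro _ rfl
      exact (Nat.Coprime.pow_left j (Nat.coprime_comm.mp hodd)).dvd_of_dvd_mul_left h1
    · have h1 : 2 ^ k ∣ (P : Subgroup H).index * 2 ^ j := by
        rw [← hj, mul_comm, hSi, ← hCi, hk]; exact Dvd.intro_left _ rfl
      exact (Nat.Coprime.pow_left k hPodd).dvd_of_dvd_mul_left h1
  apply Subgroup.isComplement'_of_coprime
  · rw [hj, hjk, ← hk, mul_comm, hCi]
  · rw [hj]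
    exact Nat.Coprime.pow_left j (Nat.coprime_comm.mp hodd)

theorem HasAbHall.quotient {H : Type*} [Group H] [Finite H] (h : HasAbHall H)
    (N : Subgroup H) [N.Normal] : HasAbHall (H ⧸ N) := by
  obtain ⟨C, hC, hodd, k, hk⟩ := h
  refine ⟨C.map (QuotientGroup.mk' N), inferInstance, ?_, ?_⟩
  · exact Nat.Coprime.coprime_dvd_left (Subgroup.card_map_dvd _ _) hodd
  · have hd : (C.map (QuotientGroup.mk' N)).index ∣ C.index :=
      Subgroup.index_map_dvd C (QuotientGroup.mk'_surjective N)
    rw [hk] at hd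
    obtain ⟨j, -, hj⟩ := (Nat.dvd_prime_pow Nat.prime_two).mp hd
    exact ⟨j, hj⟩

theorem HasAbHall.normal {H : Type*} [Group H] [Finite H] (h : HasAbHall H)
    (N : Subgroup H) [N.Normal] : HasAbHall N := by
  obtain ⟨C, hC, hodd, k, hk⟩ := h
  refine ⟨C.subgroupOf N, inferInstance, ?_, ?_⟩
  · have h1 : Nat.card (C.subgroupOf N) ∣ Nat.card C := by
      have e : (C.subgroupOf N) ≃* (C ⊓ N : Subgroup H) := by
        have := Subgroup.subgroupOfEquivOfLe (inf_le_right : C ⊓ N ≤ N)
        rw [Subgroup.inf_subgroupOf_right] at this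
        exact this
      rw [Nat.card_congr e.toEquiv]
      exact Subgroup.card_dvd_of_le inf_le_left
    exact Nat.Coprime.coprime_dvd_left h1 hodd
  · have hd : C.relIndex N ∣ C.index := Cfsg.Agent.Lib.H1.relIndex_dvd_index_of_normal_right C N
    rw [hk] at hd
    obtain ⟨j, -, hj⟩ := (Nat.dvd_prime_pow Nat.prime_two).mp hd
    exact ⟨j, hj⟩

theorem isSolvable_aux : ∀ (n : ℕ) (H : Type u) [Group H] [Finite H], Nat.card H = n →
    HasAbHall H → Group.IsSolvable H := by
  intro n
  induction n using Nat.strong_induction_on with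
  | _ n ih =>
    intro H _ _ hn hH
    by_cases hsimple : ∀ N : Subgroup H, N.Normal → N = ⊥ ∨ N = ⊤
    · rcases subsingleton_or_nontrivial H with hs | hnt
      · exact Group.isSolvable_of_comm (fun a b => Subsingleton.elim _ _)
      · have : IsSimpleGroup H := ⟨hsimple⟩
        obtain ⟨C, hC, hodd, k, hk⟩ := hH
        by_cases hCbot : C = ⊥
        · have hcard : Nat.card H = 2 ^ k := by
            rw [← hk, hCbot, Subgroup.index_bot]
          have hp : IsPGroup 2 H := IsPGroup.of_card hcard
          have := hp.isNilpotent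
          infer_instance
        · obtain ⟨c, hc, hc1⟩ := (Subgroup.ne_bot_iff_exists_ne_one (H := C)).mp hCbot |>.imp
            (fun c hc => hc) |> fun ⟨c, hc⟩ => (⟨(c : H), c.2, fun h => hc (Subtype.ext h)⟩ :
              ∃ c : H, c ∈ C ∧ c ≠ 1)
          have hle : C ≤ Subgroup.centralizer ({c} : Set H) := by
            intro x hx
            rw [Subgroup.mem_centralizer_singleton_iff]
            have := hC.is_comm.comm (⟨x, hx⟩ : C) ⟨c, hc⟩
            exact (congrArg Subtype.val this)
          have hd : (Subgroup.centralizer ({c} : Set H)).index ∣ 2 ^ k := by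
            rw [← hk]; exact Subgroup.index_dvd_of_le hle
          obtain ⟨j, -, hj⟩ := (Nat.dvd_prime_pow Nat.prime_two).mp hd
          have hcomm := Cfsg.Agent.Lib.H23.commutative_of_simple_of_prime_power_class 2 j
            Nat.prime_two c hc1 hj
          exact Group.isSolvable_of_comm hcomm
    · push Not at hsimple
      obtain ⟨N, hN, hNbot, hNtop⟩ := hsimple
      have := hN
      have hmul := Subgroup.card_mul_index N
      have h1 : 1 < Nat.card N := (Subgroup.one_lt_card_iff_ne_bot N).mpr hNbot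
      have h2 : N.index ≠ 1 := fun h => hNtop (Subgroup.index_eq_one.mp h)
      have h3 : N.index ≠ 0 := Subgroup.index_ne_zero_of_finite
      have hlt1 : Nat.card N < n := by
        rw [← hn, ← hmul]
        have : 2 ≤ N.index := by omega
        nlinarith
      have hlt2 : Nat.card (H ⧸ N) < n := by
        rw [← Subgroup.index_eq_card, ← hn, ← hmul]
        nlinarith [Nat.pos_of_ne_zero h3]
      have : Group.IsSolvable N := ih _ hlt1 N rfl (hH.normal N)
      have : Group.IsSolvable (H ⧸ N) := ih _ hlt2 (H ⧸ N) rfl (hH.quotient N)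
      refine Group.isSolvable_of_ker_le_range N.subtype (QuotientGroup.mk' N) ?_
      rw [QuotientGroup.ker_mk', Subgroup.range_subtype]

theorem isSolvable_of_hasAbHall {H : Type u} [Group H] [Finite H] (h : HasAbHall H) :
    Group.IsSolvable H := isSolvable_aux _ H rfl h

theorem HasAbHall.subgroup {H : Type u} [Group H] [Finite H] (h : HasAbHall H)
    (L : Subgroup H) : HasAbHall L := by
  have hsol : Group.IsSolvable H := isSolvable_of_hasAbHall h
  obtain ⟨C, hC, hodd, k, hk⟩ := h
  have hLsol : Group.IsSolvable L := inferInstance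
  -- order of L
  obtain ⟨j, m, hmodd, hLcard⟩ := Nat.exists_eq_two_pow_mul_odd (n := Nat.card L) Nat.card_pos.ne'
  have hm2 : m.Coprime 2 := Nat.coprime_comm.mp (Nat.coprime_two_left.mpr hmodd)
  have hLcard' : Nat.card L = m * 2 ^ j := by rw [hLcard, mul_comm]
  have hmj : m.Coprime (2 ^ j) := Nat.Coprime.pow_right j hm2
  obtain ⟨D, hD⟩ := Cfsg.Agent.Lib.H1.hall_exists (G := L) hLcard' hmj
  -- D maps into H
  have hHcard : Nat.card H = Nat.card C * 2 ^ k := by
    rw [← hk, Subgroup.card_mul_index]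
  have hCk : (Nat.card C).Coprime (2 ^ k) := Nat.Coprime.pow_right k hodd
  have hDmap : Nat.card (D.map L.subtype) = m := by
    rw [Subgroup.card_map_of_injective L.subtype_injective, hD]
  obtain ⟨C', hC', hDC'⟩ := Cfsg.Agent.Lib.H1.hall_contain (G := H) hHcard hCk (D.map L.subtype)
    (by rw [hDmap]; exact Nat.Coprime.pow_right k hm2)
  obtain ⟨g, hg⟩ := Cfsg.Agent.Lib.H1.hall_conj (G := H) hHcard hCk C C' rfl hC'
  have hC'comm : ∀ x ∈ C', ∀ y ∈ C', x * y = y * x := by
    intro x hx y hy
    rw [← hg] at hx hy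
    obtain ⟨x', hx', rfl⟩ := (Subgroup.mem_smul_pointwise_iff_exists _ _ _).mp hx
    obtain ⟨y', hy', rfl⟩ := (Subgroup.mem_smul_pointwise_iff_exists _ _ _).mp hy
    have hcomm : x' * y' = y' * x' :=
      congrArg Subtype.val (hC.is_comm.comm (⟨x', hx'⟩ : C) ⟨y', hy'⟩)
    rw [← smul_mul', ← smul_mul', hcomm]
  refine ⟨D, ⟨⟨fun a b => ?_⟩⟩, ?_, j, ?_⟩
  · apply Subtype.ext
    apply Subtype.ext
    have ha : ((a : L) : H) ∈ C' := hDC' (Subgroup.mem_map_of_mem _ a.2)
    have hb : ((b : L) : H) ∈ C' := hDC' (Subgroup.mem_map_of_mem _ b.2)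
    exact hC'comm _ ha _ hb
  · rw [hD]; exact hm2
  · have := Subgroup.card_mul_index D
    rw [hD, hLcard'] at this
    exact Nat.eq_of_mul_eq_mul_left (Nat.pos_of_ne_zero (by
      rintro rfl
      simp at hLcard'
      exact Nat.card_pos.ne' hLcard')) this

/-- Let H be a finite group in which a Sylow 2-subgroup has an abelian complement (an abelian subgroup meeting it trivially whose product with it is all of H). Then H is solvable, and every subgroup and every quotient group of H again has a Sylow 2-subgroup with an abelian complement. -/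
theorem result {H : Type*} [Group H] [Finite H]
    (S : Sylow 2 H) (C : Subgroup H) (hC : IsMulCommutative ↥C) (hSC : Subgroup.IsComplement' (S : Subgroup H) C) :
    Group.IsSolvable H ∧
    (∀ L : Subgroup H, ∃ (P : Sylow 2 ↥L) (D : Subgroup ↥L), IsMulCommutative ↥D ∧ Subgroup.IsComplement' (P : Subgroup ↥L) D) ∧
    (∀ (N : Subgroup H) [N.Normal], ∃ (P : Sylow 2 (H ⧸ N)) (D : Subgroup (H ⧸ N)),
      IsMulCommutative ↥D ∧ Subgroup.IsComplement' (P : Subgroup (H ⧸ N)) D) := by
  have h := hasAbHall_of_complement S C hC hSC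
  refine ⟨isSolvable_of_hasAbHall h, fun L => complement_of_hasAbHall (h.subgroup L), ?_⟩
  intro N _
  exact complement_of_hasAbHall (h.quotient N)

end Cfsg.Agent.S3200
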