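import Cfsg.Statements.S3201
import Cfsg.Agent.Lib.H9.QuatQuot
import Cfsg.Agent.Lib.H1.PGroupBasic
-- import your own Cfsg.Agent.* helpers here

set_option autoImplicit false
open Cfsg

namespace Cfsg.Agent.S3201

open Cfsg.Agent.Lib.H9.QuatQuot
open scoped commutatorElement
open Pointwise


/-- Let S be a finite 2-group whose centre Z(S) has n ≥ 2 distinct maximal subgroups C₁, …, Cₙ with trivial intersection such that each quotient S/Cᵢ is a non-abelian group with exactly one involution (a generalized quaternion group). Then S is the internal direct product of an elementary abelian subgroup and a non-abelian subgroup with exactly one involution. -/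
theorem result {S : Type*} [Group S] [Finite S]
    (hS : IsPGroup 2 S) (n : ℕ) (hn : 2 ≤ n) (C : Fin n → Subgroup ↥(Subgroup.center S))
    (hCmax : ∀ i, IsCoatom (C i)) (hCinj : Function.Injective C) (hCint : ⨅ i, C i = ⊥)
    (hCq : ∀ i, ∃ (_ : ((C i).map (Subgroup.center S).subtype).Normal),
      ¬ IsMulCommutative (S ⧸ (C i).map (Subgroup.center S).subtype) ∧
      ∃! x : S ⧸ (C i).map (Subgroup.center S).subtype, orderOf x = 2) :
    ∃ E Q : Subgroup S, Cfsg.IsInternalDirectProduct E Q ⊤ ∧ Cfsg.IsElementaryAbelian 2 E ∧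
      ¬ IsMulCommutative ↥Q ∧ ∃! x : ↥Q, orderOf x = 2 := by
  have : Fact (Nat.Prime 2) := ⟨Nat.prime_two⟩
  let E : Fin n → Subgroup S := fun i => (C i).map (Subgroup.center S).subtype
  have hCq' : ∀ i, ∃ (_ : (E i).Normal), ¬ IsMulCommutative (S ⧸ E i) ∧
      ∃! x : S ⧸ E i, orderOf x = 2 := hCq
  have hEZ : ∀ i, E i ≤ (Subgroup.center S) := fun i => Subgroup.map_subtype_le (C i)
  have hcenZ : ∀ z ∈ (Subgroup.center S), ∀ g : S, z * g = g * z := by
    intro z hz g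
    exact ((Subgroup.mem_center_iff.mp hz) g).symm
  have hEN : ∀ i, (E i).Normal := fun i => (hCq' i).choose
  let i0 : Fin n := ⟨0, by omega⟩
  -- membership in E i
  have hmemE : ∀ i (z : S) (hz : z ∈ (Subgroup.center S)), z ∈ E i ↔ (⟨z, hz⟩ : (Subgroup.center S)) ∈ C i := by
    intro i z hz
    constructor
    · intro h
      obtain ⟨c, hc, hcz⟩ := Subgroup.mem_map.mp h
      have : c = ⟨z, hz⟩ := Subtype.ext hcz
      rwa [← this]
    · intro h
      exact Subgroup.mem_map.mpr ⟨⟨z, hz⟩, h, rfl⟩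
  -- F1
  have hint : ∀ s : S, (∀ i, s ∈ E i) → s = 1 := by
    intro s hs
    have hsZ : s ∈ (Subgroup.center S) := hEZ i0 (hs i0)
    have h1 : (⟨s, hsZ⟩ : (Subgroup.center S)) ∈ ⨅ i, C i := by
      rw [Subgroup.mem_iInf]
      intro i
      exact (hmemE i s hsZ).mp (hs i)
    rw [hCint, Subgroup.mem_bot] at h1
    exact congrArg Subtype.val h1
  -- F2
  have hidxC : ∀ i, (C i).index = 2 := fun i =>
    Cfsg.Agent.Lib.H1.isPGroup_coatom_index (hS.to_subgroup (Subgroup.center S)) (hCmax i)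
  -- F3
  have hmulE : ∀ i, ∀ z ∈ (Subgroup.center S), ∀ w ∈ (Subgroup.center S), (z * w ∈ E i ↔ (z ∈ E i ↔ w ∈ E i)) := by
    intro i z hz w hw
    rw [hmemE i z hz, hmemE i w hw, hmemE i (z * w) ((Subgroup.center S).mul_mem hz hw)]
    exact Subgroup.mul_mem_iff_of_index_two (hidxC i) (a := ⟨z, hz⟩) (b := ⟨w, hw⟩)
  -- F4
  have hZexp : ∀ z ∈ (Subgroup.center S), z * z = 1 := by
    intro z hz
    apply hint
    intro i
    rw [hmulE i z hz z hz]
  -- F5
  have hcardE : ∀ i, Nat.card (E i) * 2 = Nat.card (Subgroup.center S) := by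
    intro i
    have h1 : Nat.card (E i) = Nat.card (C i) :=
      Subgroup.card_map_of_injective (Subgroup.center S).subtype_injective
    rw [h1, ← hidxC i]
    exact Subgroup.card_mul_index (C i)
  -- F6
  have hcardQ : ∀ i, Nat.card (S ⧸ E i) = Nat.card (S ⧸ E i0) := by
    intro i
    have h1 := Subgroup.card_eq_card_quotient_mul_card_subgroup (E i)
    have h2 := Subgroup.card_eq_card_quotient_mul_card_subgroup (E i0)
    have h3 : Nat.card (E i) = Nat.card (E i0) := by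
      have := hcardE i; have := hcardE i0; omega
    have hpos : 0 < Nat.card (E i0) := Nat.card_pos
    rw [h3] at h1
    have : Nat.card (S ⧸ E i) * Nat.card (E i0) = Nat.card (S ⧸ E i0) * Nat.card (E i0) := by
      rw [← h1, ← h2]
    exact Nat.eq_of_mul_eq_mul_right hpos this
  -- quaternion data for i0
  obtain ⟨hN0, hnc0, hu0⟩ := hCq' i0
  have hQ0 : IsPGroup 2 (S ⧸ E i0) := hS.to_quotient _
  obtain ⟨M, a, hMev, hM2, hoa, hcard, -, hsq, hamo⟩ := exists_data_even hQ0 hnc0 hu0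
  obtain ⟨x, rfl⟩ := QuotientGroup.mk_surjective a
  have hM0 : 0 < M := by omega
  have hidx : (Subgroup.zpowers (x : S ⧸ E i0)).index = 2 := by
    have h1 := Subgroup.index_mul_card (Subgroup.zpowers (x : S ⧸ E i0))
    rw [Nat.card_zpowers, hoa, hcard] at h1
    nlinarith
  obtain ⟨A, hAi, hE0A, hxA, memA, hAc, hAmem⟩ :=
    exists_abelian_index_two (E i0) (hEZ i0) x hidx
  have hAn : A.Normal := Subgroup.normal_of_index_eq_two hAi
  -- G1
  have hxM2 : ((x : S ⧸ E i0) ^ M) ^ 2 = 1 := by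
    rw [← pow_mul, mul_comm, ← hoa]; exact pow_orderOf_eq_one _
  have hxM1 : (x : S ⧸ E i0) ^ M ≠ 1 :=
    pow_ne_one_of_lt_orderOf (by omega) (by omega)
  have hZA : (Subgroup.center S) ≤ A := by
    intro z hz
    rw [hAmem]
    have h1 : (z : S ⧸ E i0) ^ 2 = 1 := by
      rw [← QuotientGroup.mk_pow, pow_two, hZexp z hz]; rfl
    have h2 := hamo.mem_zpowers hxM2 hxM1 h1
    exact (Subgroup.zpowers_le.mpr (Subgroup.pow_mem _ (Subgroup.mem_zpowers _) M)) h2
  have hEA : ∀ i, E i ≤ A := fun i => (hEZ i).trans hZA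
  -- G3
  have key : ∀ i, (∀ y : S, y ∉ A → ∀ a ∈ A, y * a * y⁻¹ * a ∈ E i) ∧
      (∀ y : S, y ∉ A → y * y ∉ E i ∧ (y * y) * (y * y) ∈ E i) ∧
      (∃ a ∈ A, ∀ M : ℕ, 0 < M → Nat.card (S ⧸ E i) = 4 * M → a ^ M ∉ E i) := by
    intro i
    obtain ⟨hN, hnc, hu⟩ := hCq' i
    exact invert_of_quotient hS (E i) hnc hu A hAi (hEA i) hAc
  -- G4
  have hinvA : ∀ y : S, y ∉ A → ∀ a ∈ A, y * a * y⁻¹ = a⁻¹ := by
    intro y hy a ha
    have : y * a * y⁻¹ * a = 1 := hint _ (fun i => (key i).1 y hy a ha)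
    exact eq_inv_of_mul_eq_one_left this
  -- G5
  have hsq4 : ∀ y : S, y ∉ A → (y * y) * (y * y) = 1 :=
    fun y hy => hint _ (fun i => ((key i).2.1 y hy).2)
  have hsqE : ∀ y : S, y ∉ A → ∀ i, y * y ∉ E i := fun y hy i => ((key i).2.1 y hy).1
  -- G6
  obtain ⟨y, hy⟩ : ∃ y : S, y ∉ A := by
    by_contra hcon
    push Not at hcon
    have : A = ⊤ := (Subgroup.eq_top_iff' A).mpr hcon
    rw [this, Subgroup.index_top] at hAi
    omega
  have hyi : y⁻¹ ∉ A := fun h => hy (by simpa using A.inv_mem h)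
  have hcases : ∀ s : S, s ∈ A ∨ s * y⁻¹ ∈ A := by
    intro s
    by_cases hs : s ∈ A
    · exact Or.inl hs
    · right
      rw [Subgroup.mul_mem_iff_of_index_two hAi]
      exact ⟨fun h => absurd h hs, fun h => absurd h hyi⟩
  set z0 : S := y * y with hz0
  have hz0A : z0 ∈ A := by rw [hz0, Subgroup.mul_mem_iff_of_index_two hAi]
  have hz0sq : z0 * z0 = 1 := hsq4 y hy
  have hz0Z : z0 ∈ (Subgroup.center S) := by
    rw [Subgroup.mem_center_iff]
    intro g
    rcases hcases g with hg | hg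
    · exact hAc g hg z0 hz0A
    · have h1 : g = (g * y⁻¹) * y := by group
      have h2 : (g * y⁻¹) * z0 = z0 * (g * y⁻¹) := hAc _ hg z0 hz0A
      have h3 : y * z0 = z0 * y := by rw [hz0]; group
      calc g * z0 = (g * y⁻¹) * (y * z0) := by group
        _ = (g * y⁻¹) * (z0 * y) := by rw [h3]
        _ = ((g * y⁻¹) * z0) * y := by group
        _ = (z0 * (g * y⁻¹)) * y := by rw [h2]
        _ = z0 * g := by group
  -- G7
  have hpy : (y : S ⧸ E i0) ∉ Subgroup.zpowers (x : S ⧸ E i0) := fun h => hy ((hAmem y).mpr h)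
  have hxMz0 : z0⁻¹ * x ^ M ∈ E i0 := by
    apply QuotientGroup.eq.mp
    rw [hz0, QuotientGroup.mk_mul, QuotientGroup.mk_pow]
    exact hsq _ hpy
  have hxMZ : x ^ M ∈ (Subgroup.center S) := by
    have : x ^ M = z0 * (z0⁻¹ * x ^ M) := by group
    rw [this]; exact (Subgroup.center S).mul_mem hz0Z (hEZ i0 hxMz0)
  -- G8
  have hxME : ∀ i, x ^ M ∉ E i := by
    intro i hmem
    obtain ⟨a, ha, haM⟩ := (key i).2.2
    apply haM M hM0 (by rw [hcardQ i, hcard])
    obtain ⟨k, e, he, rfl⟩ := memA a ha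
    have heZ : e ∈ (Subgroup.center S) := hEZ i0 he
    have hcomm : Commute (x ^ k) e := (hcenZ e heZ (x ^ k)).symm
    obtain ⟨m, hm⟩ := hMev
    have heM : e ^ M = 1 := by
      rw [hm, ← two_mul, pow_mul, pow_two, hZexp e heZ, one_pow]
    rw [hcomm.mul_pow, heM, mul_one]
    have : (x ^ k) ^ M = (x ^ M) ^ k := by
      rw [← zpow_natCast, ← zpow_mul, mul_comm, zpow_mul, zpow_natCast]
    rw [this]
    exact Subgroup.zpow_mem _ hmem k
  -- G9
  have hxMeq : x ^ M = z0 := by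
    have h1 : x ^ M * z0 = 1 := by
      apply hint
      intro i
      rw [hmulE i _ hxMZ _ hz0Z]
      exact ⟨fun h => absurd h (hxME i), fun h => absurd h (hsqE y hy i)⟩
    have h2 : x ^ M = z0⁻¹ := eq_inv_of_mul_eq_one_left h1
    rw [h2]
    exact inv_eq_of_mul_eq_one_left hz0sq
  have hz01 : z0 ≠ 1 := by
    intro h
    apply hsqE y hy i0
    rw [← hz0, h]; exact Subgroup.one_mem _
  -- G10
  have hx2M : x ^ (2 * M) = 1 := by
    rw [two_mul, pow_add, hxMeq, hz0sq]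
  have hox : orderOf x = 2 * M := by
    apply Nat.dvd_antisymm (orderOf_dvd_of_pow_eq_one hx2M)
    rw [← hoa]
    exact orderOf_map_dvd (QuotientGroup.mk' (E i0)) x
  -- G11
  set B : Subgroup S := Subgroup.zpowers x with hB
  have hBA : B ≤ A := Subgroup.zpowers_le.mpr hxA
  have hBn : B.Normal := by
    constructor
    intro b hb g
    obtain ⟨k, rfl⟩ := Subgroup.mem_zpowers_iff.mp hb
    rw [← conj_zpow]
    apply Subgroup.zpow_mem
    rcases hcases g with hg | hg
    · have : g * x * g⁻¹ = x := by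
        rw [hAc g hg x hxA]; group
      rw [this]; exact Subgroup.mem_zpowers x
    · have h1 : g * x * g⁻¹ = (g * y⁻¹) * (y * x * y⁻¹) * (g * y⁻¹)⁻¹ := by group
      rw [h1, hinvA y hy x hxA]
      have h2 : (g * y⁻¹) * x⁻¹ * (g * y⁻¹)⁻¹ = x⁻¹ := by
        rw [hAc _ hg x⁻¹ (A.inv_mem hxA)]; group
      rw [h2]; exact Subgroup.inv_mem _ (Subgroup.mem_zpowers x)
  set Qs : Subgroup S := B ⊔ Subgroup.zpowers y with hQs
  have hz0B : z0 ∈ B := by rw [← hxMeq]; exact Subgroup.pow_mem _ (Subgroup.mem_zpowers x) M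
  have hypow : ∀ k : ℤ, y ^ k ∈ A → y ^ k ∈ B := by
    intro k hk
    rcases Int.even_or_odd' k with ⟨m, rfl | rfl⟩
    · rw [zpow_mul, zpow_two]; exact Subgroup.zpow_mem _ hz0B m
    · exfalso
      apply hy
      have h1 : y ^ (2 * m) ∈ A := by
        rw [zpow_mul, zpow_two]; exact hBA (Subgroup.zpow_mem _ hz0B m)
      have h2 : y = (y ^ (2 * m))⁻¹ * y ^ (2 * m + 1) := by
        rw [zpow_add, zpow_one]; group
      rw [h2]; exact A.mul_mem (A.inv_mem h1) hk
  have hQsA : ∀ s ∈ Qs, s ∈ A → s ∈ B := by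
    intro s hs hsA
    have h1 : s ∈ (B : Set S) * (Subgroup.zpowers y : Set S) := by
      rw [← Subgroup.normal_mul]; exact hs
    obtain ⟨b, hb, h, hh, rfl⟩ := Set.mem_mul.mp h1
    obtain ⟨k, rfl⟩ := Subgroup.mem_zpowers_iff.mp hh
    have h2 : y ^ k ∈ A := by
      have : y ^ k = b⁻¹ * (b * y ^ k) := by group
      rw [this]; exact A.mul_mem (A.inv_mem (hBA hb)) hsA
    exact B.mul_mem hb (hypow k h2)
  have hBE : ∀ s ∈ B, s ∈ E i0 → s = 1 := by
    intro s hs hsE
    obtain ⟨l, rfl⟩ := Subgroup.mem_zpowers_iff.mp hs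
    have h1 : (x : S ⧸ E i0) ^ l = 1 := by
      rw [← QuotientGroup.mk_zpow]; exact (QuotientGroup.eq_one_iff _).mpr hsE
    have h2 : ((orderOf (x : S ⧸ E i0) : ℕ) : ℤ) ∣ l := orderOf_dvd_iff_zpow_eq_one.mpr h1
    rw [hoa, ← hox] at h2
    exact orderOf_dvd_iff_zpow_eq_one.mp h2
  have hxQ : x ∈ Qs := (le_sup_left : B ≤ Qs) (Subgroup.mem_zpowers x)
  have hyQ : y ∈ Qs := (le_sup_right : Subgroup.zpowers y ≤ Qs) (Subgroup.mem_zpowers y)
  refine ⟨E i0, Qs, ⟨le_top, le_top, ?_, ?_, ?_⟩, ⟨?_, ?_⟩, ?_, ?_⟩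
  · intro a ha b _
    exact hcenZ a (hEZ i0 ha) b
  · rw [eq_bot_iff]
    intro s hs
    obtain ⟨hsE, hsQ⟩ := Subgroup.mem_inf.mp hs
    rw [Subgroup.mem_bot]
    exact hBE s (hQsA s hsQ (hE0A hsE)) hsE
  · rw [eq_top_iff]
    intro s _
    rcases hcases s with hs | hs
    · obtain ⟨k, e, he, rfl⟩ := memA s hs
      exact Subgroup.mul_mem _ ((le_sup_right : Qs ≤ E i0 ⊔ Qs)
        (Subgroup.zpow_mem _ hxQ k)) ((le_sup_left : E i0 ≤ E i0 ⊔ Qs) he)
    · obtain ⟨k, e, he, hk⟩ := memA _ hs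
      have : s = x ^ k * e * y := by rw [← hk]; group
      rw [this]
      exact Subgroup.mul_mem _ (Subgroup.mul_mem _ ((le_sup_right : Qs ≤ E i0 ⊔ Qs)
        (Subgroup.zpow_mem _ hxQ k)) ((le_sup_left : E i0 ≤ E i0 ⊔ Qs) he))
        ((le_sup_right : Qs ≤ E i0 ⊔ Qs) hyQ)
  · refine ⟨⟨fun a b => ?_⟩⟩
    apply Subtype.ext
    exact hcenZ a.1 (hEZ i0 a.2) b.1
  · intro a ha
    rw [pow_two]; exact hZexp a (hEZ i0 ha)
  · intro hcomm
    have h1 : (⟨y, hyQ⟩ : Qs) * ⟨x, hxQ⟩ = ⟨x, hxQ⟩ * ⟨y, hyQ⟩ := hcomm.is_comm.comm _ _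
    have h2 : y * x = x * y := congrArg Subtype.val h1
    have h3 : y * x * y⁻¹ = x := by rw [h2]; group
    rw [hinvA y hy x hxA] at h3
    have h4 : x ^ 2 = 1 := by
      rw [pow_two]
      nth_rewrite 1 [← h3]
      exact inv_mul_cancel x
    have h5 : orderOf x ∣ 2 := orderOf_dvd_of_pow_eq_one h4
    rw [hox] at h5
    have := Nat.le_of_dvd (by norm_num) h5
    omega
  · have hz0Q : z0 ∈ Qs := (le_sup_left : B ≤ Qs) hz0B
    have hoz0 : orderOf z0 = 2 := orderOf_eq_prime (by rw [pow_two]; exact hz0sq) hz01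
    refine ⟨⟨z0, hz0Q⟩, ?_, ?_⟩
    · show orderOf (⟨z0, hz0Q⟩ : Qs) = 2
      rw [← Subgroup.orderOf_coe]; exact hoz0
    · intro t ht
      have hot : orderOf (t : S) = 2 := by rw [Subgroup.orderOf_coe]; exact ht
      have ht2 : (t : S) * (t : S) = 1 := by
        rw [← pow_two, ← hot]; exact pow_orderOf_eq_one _
      have ht1 : (t : S) ≠ 1 := by
        intro h
        rw [h, orderOf_one] at hot
        omega
      have htA : (t : S) ∈ A := by
        by_contra hnA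
        apply hsqE _ hnA i0
        rw [ht2]; exact Subgroup.one_mem _
      have htB : (t : S) ∈ B := hQsA _ t.2 htA
      obtain ⟨l, hl⟩ := Subgroup.mem_zpowers_iff.mp htB
      have h1 : x ^ (2 * l) = 1 := by
        rw [two_mul, zpow_add, hl]; exact ht2
      have h2 : ((orderOf x : ℕ) : ℤ) ∣ 2 * l := orderOf_dvd_iff_zpow_eq_one.mpr h1
      rw [hox] at h2
      push_cast at h2
      have h3 : (M : ℤ) ∣ l := by
        exact (mul_dvd_mul_iff_left (by norm_num : (2 : ℤ) ≠ 0)).mp h2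
      obtain ⟨m, rfl⟩ := h3
      have h4 : (t : S) = z0 ^ m := by
        rw [← hl, zpow_mul, zpow_natCast, hxMeq]
      apply Subtype.ext
      show (t : S) = z0
      rcases Int.even_or_odd' m with ⟨r, rfl | rfl⟩
      · exfalso
        apply ht1
        rw [h4, zpow_mul, zpow_two, hz0sq, one_zpow]
      · rw [h4, zpow_add, zpow_mul, zpow_two, hz0sq, one_zpow, one_mul, zpow_one]

end Cfsg.Agent.S3201
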