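import Cfsg.Statements.S3202
import Cfsg.Agent.Lib.H9.QuatQuot
-- import your own Cfsg.Agent.* helpers here

set_option autoImplicit false
open Cfsg

namespace Cfsg.Agent.S3202

open Cfsg.Agent.Lib.H9.QuatQuot
open scoped commutatorElement


/-- Let S be a finite 2-group of 2-rank exactly 2 and D a maximal subgroup of the centre of S such that S/D is a non-abelian group with exactly one involution (a generalized quaternion group). Then S has a nontrivial cyclic characteristic subgroup. -/
theorem result {S : Type*} [Group S]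
    [Finite S] (hS : IsPGroup 2 S) (hr2 : Cfsg.PRankLE 2 2 S) (hr1 : ¬ Cfsg.PRankLE 2 1 S)
    (D : Subgroup ↥(Subgroup.center S)) (hD : IsCoatom D)
    (hq : ∃ (_ : (D.map (Subgroup.center S).subtype).Normal),
      ¬ IsMulCommutative (S ⧸ D.map (Subgroup.center S).subtype) ∧
      ∃! x : S ⧸ D.map (Subgroup.center S).subtype, orderOf x = 2) :
    ∃ C : Subgroup S, C ≠ ⊥ ∧ IsCyclic ↥C ∧ C.Characteristic := by
  obtain ⟨hN, hnc, hu⟩ := hq
  have hQ : IsPGroup 2 (S ⧸ D.map (Subgroup.center S).subtype) := hS.to_quotient _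
  obtain ⟨M, a, hM, hoa, hcard, -, -, -⟩ := exists_data hQ hnc hu
  obtain ⟨x, rfl⟩ := QuotientGroup.mk_surjective a
  have hidx : (Subgroup.zpowers (x : S ⧸ D.map (Subgroup.center S).subtype)).index = 2 := by
    have h1 := Subgroup.index_mul_card (Subgroup.zpowers (x : S ⧸ D.map (Subgroup.center S).subtype))
    rw [Nat.card_zpowers, hoa, hcard] at h1
    have hM0 : 0 < M := by omega
    nlinarith
  have hle : D.map (Subgroup.center S).subtype ≤ Subgroup.center S := Subgroup.map_subtype_le D
  have hcyc := isCyclic_commutator (D.map (Subgroup.center S).subtype) hle x hidx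
  refine ⟨commutator S, ?_, hcyc, ?_⟩
  · intro hbot
    apply hnc
    refine ⟨⟨fun p q => ?_⟩⟩
    obtain ⟨p, rfl⟩ := QuotientGroup.mk_surjective p
    obtain ⟨q, rfl⟩ := QuotientGroup.mk_surjective q
    have h1 : ⁅p, q⁆ ∈ commutator S := by
      rw [commutator_def]
      exact Subgroup.commutator_mem_commutator (Subgroup.mem_top p) (Subgroup.mem_top q)
    rw [hbot, Subgroup.mem_bot, commutatorElement_eq_one_iff_mul_comm] at h1
    rw [← QuotientGroup.mk_mul, ← QuotientGroup.mk_mul, h1]
  · rw [commutator_def]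
    infer_instance

end Cfsg.Agent.S3202
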