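import Cfsg.Statements.S3203
import Mathlib
import Cfsg.Agent.Lib.H16.ConjSub
import Cfsg.Agent.Lib.H16.SylowMore
import Cfsg.Agent.Lib.H16.PGroupCenter

set_option autoImplicit false
open Cfsg

namespace Cfsg.Agent.S3203

open Cfsg.Agent.Lib.H16

variable {G : Type*} [Group G]

/-- Elementary abelian 2-subgroup, stated elementwise in `G`. -/
def EA (E : Subgroup G) : Prop :=
  (∀ x ∈ E, ∀ y ∈ E, x * y = y * x) ∧ ∀ x ∈ E, x * x = 1

theorem EA_cj (g : G) (E : Subgroup G) (h : EA E) : EA (cj g E) := by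
  constructor
  · intro x hx y hy
    rw [mem_cj_iff] at hx hy
    have := h.1 _ hx _ hy
    calc x * y = g * ((g⁻¹ * x * g) * (g⁻¹ * y * g)) * g⁻¹ := by group
      _ = g * ((g⁻¹ * y * g) * (g⁻¹ * x * g)) * g⁻¹ := by rw [this]
      _ = y * x := by group
  · intro x hx
    rw [mem_cj_iff] at hx
    have := h.2 _ hx
    calc x * x = g * ((g⁻¹ * x * g) * (g⁻¹ * x * g)) * g⁻¹ := by group
      _ = 1 := by rw [this]; group

theorem EA_zpowers (x : G) (hx : x * x = 1) : EA (Subgroup.zpowers x) := by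
  constructor
  · intro a ha b hb
    obtain ⟨k, rfl⟩ := Subgroup.mem_zpowers_iff.mp ha
    obtain ⟨l, rfl⟩ := Subgroup.mem_zpowers_iff.mp hb
    rw [← zpow_add, ← zpow_add, add_comm]
  · intro a ha
    obtain ⟨k, rfl⟩ := Subgroup.mem_zpowers_iff.mp ha
    rw [← (Commute.refl x).mul_zpow, hx, one_zpow]

/-- The configuration, stated in `G`. -/
structure Setup (SG A B : Subgroup G) : Prop where
  hA : A ≤ SG
  hB : B ≤ SG
  hne : A ≠ B
  eaA : EA A
  eaB : EA B
  cover : ∀ E : Subgroup G, E ≤ SG → EA E → E ≤ A ∨ E ≤ B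
  maxA : ∀ E : Subgroup G, E ≤ SG → EA E → A ≤ E → E = A
  maxB : ∀ E : Subgroup G, E ≤ SG → EA E → B ≤ E → E = B
  prod : ∀ s ∈ SG, ∃ a ∈ A, ∃ b ∈ B, a * b = s


theorem Setup.symm {SG A B : Subgroup G} (h : Setup SG A B) : Setup SG B A where
  hA := h.hB
  hB := h.hA
  hne := h.hne.symm
  eaA := h.eaB
  eaB := h.eaA
  cover := fun E hE hEA => (h.cover E hE hEA).symm
  maxA := h.maxB
  maxB := h.maxA
  prod := by
    intro s hs
    obtain ⟨a, ha, b, hb, hab⟩ := h.prod s⁻¹ (SG.inv_mem hs)
    refine ⟨b⁻¹, B.inv_mem hb, a⁻¹, A.inv_mem ha, ?_⟩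
    rw [← mul_inv_rev, hab, inv_inv]

/-- Every involution (or identity) of `S` lies in `A` or `B`. -/
theorem Setup.invol_mem {SG A B : Subgroup G} (h : Setup SG A B) (x : G) (hxS : x ∈ SG)
    (hx : x * x = 1) : x ∈ A ∨ x ∈ B := by
  have hle : Subgroup.zpowers x ≤ SG := by
    rw [Subgroup.zpowers_le]; exact hxS
  rcases h.cover _ hle (EA_zpowers x hx) with h1 | h1
  · exact Or.inl (h1 (Subgroup.mem_zpowers x))
  · exact Or.inr (h1 (Subgroup.mem_zpowers x))

/-- `S` normalizes `A`. -/
theorem Setup.le_normalizer {SG A B : Subgroup G} (h : Setup SG A B) :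
    SG ≤ Subgroup.normalizer (A : Set G) := by
  apply le_normalizer_of_conj_mem
  intro s hs x hx
  obtain ⟨a, ha, b, hb, rfl⟩ := h.prod s hs
  have hy : b * x * b⁻¹ ∈ A := by
    have hyS : b * x * b⁻¹ ∈ SG :=
      SG.mul_mem (SG.mul_mem (h.hB hb) (h.hA hx)) (SG.inv_mem (h.hB hb))
    have hyy : (b * x * b⁻¹) * (b * x * b⁻¹) = 1 := by
      have : (b * x * b⁻¹) * (b * x * b⁻¹) = b * (x * x) * b⁻¹ := by group
      rw [this, h.eaA.2 x hx]; group
    rcases h.invol_mem _ hyS hyy with h1 | h1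
    · exact h1
    · have hxB : x ∈ B := by
        have : x = b⁻¹ * (b * x * b⁻¹) * b := by group
        rw [this]
        exact B.mul_mem (B.mul_mem (B.inv_mem hb) h1) hb
      have : b * x * b⁻¹ = x := by
        rw [h.eaB.1 b hb x hxB, mul_assoc, mul_inv_cancel, mul_one]
      rw [this]; exact hx
  have : a * b * x * (a * b)⁻¹ = a * (b * x * b⁻¹) * a⁻¹ := by group
  rw [this]
  exact A.mul_mem (A.mul_mem ha hy) (A.inv_mem ha)

/-- For `g` normalizing `S`, conjugation by `g` sends `A` to `A` or `B`. -/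
theorem Setup.cj_eq_or [Finite G] {SG A B : Subgroup G} (h : Setup SG A B) (g : G)
    (hg : g ∈ Subgroup.normalizer (SG : Set G)) : cj g A = A ∨ cj g A = B := by
  have hgS : cj g SG = SG := (mem_normalizer_iff_cj_eq g SG).mp hg
  have hgS' : cj g⁻¹ SG = SG := by
    have := congrArg (cj g⁻¹) hgS
    rw [cj_inv_cj] at this
    exact this.symm
  have hle : cj g A ≤ SG := by
    rw [← hgS]; exact cj_mono g h.hA
  rcases h.cover _ hle (EA_cj g A h.eaA) with h1 | h1
  · exact Or.inl (cj_eq_of_le g A h1)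
  · right
    have h2 : A ≤ cj g⁻¹ B := by
      have := cj_mono g⁻¹ h1
      rwa [cj_inv_cj] at this
    have h3 : cj g⁻¹ B ≤ SG := by
      rw [← hgS']; exact cj_mono g⁻¹ h.hB
    have h4 := h.maxA _ h3 (EA_cj g⁻¹ B h.eaB) h2
    rw [← h4, cj_cj_inv]


/-- An element normalizing a Sylow 2-subgroup has an odd power inside it. -/
theorem exists_odd_pow_mem [Finite G] (S : Sylow 2 G) (g : G)
    (hg : g ∈ Subgroup.normalizer ((S : Subgroup G) : Set G)) :
    ∃ j : ℕ, g ^ (2 * j + 1) ∈ (S : Subgroup G) := by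
  set N := Subgroup.normalizer ((S : Subgroup G) : Set G) with hN
  have hle : (S : Subgroup G) ≤ N := Subgroup.le_normalizer
  have hnorm : ((S : Subgroup G).subgroupOf N).Normal := Subgroup.normal_in_normalizer
  have h1 : (⟨g, hg⟩ : N) ^ ((S : Subgroup G).subgroupOf N).index ∈ (S : Subgroup G).subgroupOf N :=
    Subgroup.pow_index_mem _ _
  rw [Subgroup.mem_subgroupOf] at h1
  have h2 : ¬ 2 ∣ ((S : Subgroup G).subgroupOf N).index := by
    intro hd
    have h3 : (S : Subgroup G).relIndex N ∣ (S : Subgroup G).index :=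
      Subgroup.relIndex_dvd_index_of_le hle
    exact S.not_dvd_index (hd.trans h3)
  obtain ⟨j, hj⟩ : ∃ j, ((S : Subgroup G).subgroupOf N).index = 2 * j + 1 :=
    ⟨((S : Subgroup G).subgroupOf N).index / 2, by omega⟩
  refine ⟨j, ?_⟩
  rw [hj] at h1
  simpa using h1

/-- The normalizer of `S` normalizes `A`. -/
theorem Setup.normalizer_le [Finite G] (S : Sylow 2 G) {A B : Subgroup G}
    (h : Setup (S : Subgroup G) A B) :
    Subgroup.normalizer ((S : Subgroup G) : Set G) ≤ Subgroup.normalizer (A : Set G) := by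
  intro g hg
  have hgg : g * g ∈ Subgroup.normalizer (A : Set G) := by
    rw [mem_normalizer_iff_cj_eq, cj_mul]
    rcases h.cj_eq_or g hg with h1 | h1
    · rw [h1, h1]
    · rw [h1]
      rcases h.symm.cj_eq_or g hg with h2 | h2
      · exfalso; exact h.hne (cj_injective g (h1.trans h2.symm))
      · exact h2
  obtain ⟨j, hj⟩ := exists_odd_pow_mem S g hg
  have hj' : g ^ (2 * j + 1) ∈ Subgroup.normalizer (A : Set G) := h.le_normalizer hj
  have e : g = (g * g) ^ (j + 1) * (g ^ (2 * j + 1))⁻¹ := by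
    rw [eq_mul_inv_iff_mul_eq, ← pow_two, ← pow_mul, ← pow_succ']
    congr 1
  rw [e]
  exact Subgroup.mul_mem _ (Subgroup.pow_mem _ hgg _) (Subgroup.inv_mem _ hj')


/-- `A` is weakly closed in `S` with respect to `G`. -/
theorem Setup.weaklyClosed [Finite G] (S : Sylow 2 G) {A B : Subgroup G}
    (h : Setup (S : Subgroup G) A B) : Cfsg.IsWeaklyClosed A (S : Subgroup G) := by
  refine ⟨h.hA, fun g hgle => ?_⟩
  change cj g A ≤ _ at hgle
  change cj g A = A
  rcases h.cover _ hgle (EA_cj g A h.eaA) with h1 | h1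
  · exact cj_eq_of_le g A h1
  · exfalso
    have hBN : B ≤ Subgroup.normalizer (cj g A : Set G) := by
      apply le_normalizer_of_conj_mem
      intro b hb x hx
      have : b * x * b⁻¹ = x := by
        rw [h.eaB.1 b hb x (h1 hx), mul_assoc, mul_inv_cancel, mul_one]
      rw [this]; exact hx
    have hgSN : ((g • S : Sylow 2 G) : Subgroup G) ≤ Subgroup.normalizer (cj g A : Set G) := by
      intro y hy
      rw [mem_sylow_smul_iff] at hy
      have h2 := h.le_normalizer hy
      rw [mem_normalizer_iff_cj_eq] at h2 ⊢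
      rw [← cj_mul]
      have : y * g = g * (g⁻¹ * y * g) := by group
      rw [this, cj_mul, h2]
    have hB2 : IsPGroup 2 B := S.2.to_le h.hB
    obtain ⟨n, hnN, hn⟩ := exists_mem_conj_mem_sylow_of_le _ (g • S) hgSN B hB2 hBN
    have hB1S : cj (g⁻¹ * n) B ≤ (S : Subgroup G) := by
      rw [cj_le_iff]
      intro b hb
      have := hn b hb
      rw [mem_sylow_smul_iff] at this
      have e : g⁻¹ * n * b * (g⁻¹ * n)⁻¹ = g⁻¹ * (n * b * n⁻¹) * g := by group
      rw [e]; exact this
    have hAB1 : A ≤ cj (g⁻¹ * n) B := by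
      intro a ha
      rw [mem_cj_iff]
      have e : (g⁻¹ * n)⁻¹ * a * (g⁻¹ * n) = n⁻¹ * (g * a * g⁻¹) * n := by group
      rw [e]
      apply h1
      have hn' := Subgroup.inv_mem _ hnN
      rw [Subgroup.mem_normalizer_iff] at hn'
      have := (hn' (g * a * g⁻¹)).mp (conj_mem_cj g A a ha)
      simpa using this
    have hB1 := h.maxA _ hB1S (EA_cj _ B h.eaB) hAB1
    have hcard : Nat.card B = Nat.card A := by rw [← hB1, card_cj]
    have hgAB : cj g A = B := cj_eq_of_le_of_card g A B h1 hcard.le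
    have hSNB : (S : Subgroup G) ≤ Subgroup.normalizer (B : Set G) := h.symm.le_normalizer
    have hgSNB : ((g • S : Sylow 2 G) : Subgroup G) ≤ Subgroup.normalizer (B : Set G) := by
      rw [← hgAB]; exact hgSN
    obtain ⟨n', hn'N, hn'⟩ :=
      exists_mem_conj_mem_sylow_of_le _ (g • S) hgSNB (S : Subgroup G) S.2 hSNB
    have hk : g⁻¹ * n' ∈ Subgroup.normalizer ((S : Subgroup G) : Set G) := by
      apply mem_normalizer_of_conj_mem
      intro s hs
      have := hn' s hs
      rw [mem_sylow_smul_iff] at this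
      have e : g⁻¹ * n' * s * (g⁻¹ * n')⁻¹ = g⁻¹ * (n' * s * n'⁻¹) * g := by group
      rw [e]; exact this
    have hkB : cj (g⁻¹ * n') B = A := by
      rw [cj_mul, (mem_normalizer_iff_cj_eq n' B).mp hn'N, ← hgAB, cj_inv_cj]
    have hkB' : cj (g⁻¹ * n') B = B :=
      (mem_normalizer_iff_cj_eq _ B).mp (h.symm.normalizer_le S hk)
    exact h.hne (hkB.symm.trans hkB')

theorem isEA_iff (H : Subgroup G) (C : Subgroup H) :
    Cfsg.IsElementaryAbelian 2 C ↔ EA (C.map H.subtype) := by
  unfold Cfsg.IsElementaryAbelian EA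
  rw [isMulCommutative_iff_of_setLike]
  constructor
  · rintro ⟨h1, h2⟩
    constructor
    · rintro x ⟨c, hc, rfl⟩ y ⟨d, hd, rfl⟩
      have := h1 c hc d hd
      exact congrArg Subtype.val this
    · rintro x ⟨c, hc, rfl⟩
      have := h2 c hc
      rw [pow_two] at this
      exact congrArg Subtype.val this
  · rintro ⟨h1, h2⟩
    constructor
    · intro c hc d hd
      exact Subtype.ext (h1 _ (Subgroup.mem_map_of_mem _ hc) _ (Subgroup.mem_map_of_mem _ hd))
    · intro c hc
      rw [pow_two]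
      exact Subtype.ext (h2 _ (Subgroup.mem_map_of_mem _ hc))

/-- Let S be a Sylow 2-subgroup of a finite group G having exactly two subgroups A ≠ B that are maximal among its elementary abelian subgroups, with S = AB. Then A and B are each weakly closed in S with respect to G, and the normalizer of S normalizes both A and B. -/
theorem result {G : Type*} [Group G] [Finite G] (S : Sylow 2 G)
    (A B : Subgroup ↥(S : Subgroup G)) (hAB : A ≠ B)
    (hA : Cfsg.IsElementaryAbelian 2 A ∧ ∀ C : Subgroup ↥(S : Subgroup G), Cfsg.IsElementaryAbelian 2 C → A ≤ C → C = A)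
    (hB : Cfsg.IsElementaryAbelian 2 B ∧ ∀ C : Subgroup ↥(S : Subgroup G), Cfsg.IsElementaryAbelian 2 C → B ≤ C → C = B)
    (honly : ∀ C : Subgroup ↥(S : Subgroup G), Cfsg.IsElementaryAbelian 2 C →
      (∀ D : Subgroup ↥(S : Subgroup G), Cfsg.IsElementaryAbelian 2 D → C ≤ D → D = C) → C = A ∨ C = B)
    (hprod : ∀ s : ↥(S : Subgroup G), ∃ a ∈ A, ∃ b ∈ B, a * b = s)
    (A' B' : Subgroup G) (hA' : A' = A.map (S : Subgroup G).subtype) (hB' : B' = B.map (S : Subgroup G).subtype) :
    Cfsg.IsWeaklyClosed A' (S : Subgroup G) ∧ Cfsg.IsWeaklyClosed B' (S : Subgroup G) ∧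
      Subgroup.normalizer ((S : Subgroup G) : Set G) ≤ Subgroup.normalizer (A' : Set G) ⊓ Subgroup.normalizer (B' : Set G) := by
  subst hA' hB'
  have hsub : ∀ E : Subgroup G, E ≤ (S : Subgroup G) →
      (E.subgroupOf (S : Subgroup G)).map (S : Subgroup G).subtype = E :=
    fun E hE => Subgroup.map_subgroupOf_eq_of_le hE
  have hEAsub : ∀ E : Subgroup G, E ≤ (S : Subgroup G) → EA E →
      Cfsg.IsElementaryAbelian 2 (E.subgroupOf (S : Subgroup G)) := by
    intro E hE hEA
    rw [isEA_iff, hsub E hE]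
    exact hEA
  have hsetup : Setup (S : Subgroup G) (A.map (S : Subgroup G).subtype)
      (B.map (S : Subgroup G).subtype) := by
    refine
      { hA := Subgroup.map_subtype_le A
        hB := Subgroup.map_subtype_le B
        hne := fun h => hAB (Subgroup.map_injective (Subgroup.subtype_injective _) h)
        eaA := (isEA_iff _ A).mp hA.1
        eaB := (isEA_iff _ B).mp hB.1
        cover := ?_
        maxA := ?_
        maxB := ?_
        prod := ?_ }
    · intro E hE hEA
      obtain ⟨M, hEM, hM⟩ := Finite.exists_le_maximal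
        (p := fun C : Subgroup ↥(S : Subgroup G) => Cfsg.IsElementaryAbelian 2 C)
        (hEAsub E hE hEA)
      have hMAB := honly M hM.prop (fun D hD hMD => le_antisymm (hM.le_of_ge hD hMD) hMD)
      have hEM' : E ≤ M.map (S : Subgroup G).subtype := by
        rw [← hsub E hE]
        exact Subgroup.map_mono hEM
      rcases hMAB with rfl | rfl
      · exact Or.inl hEM'
      · exact Or.inr hEM'
    · intro E hE hEA hAE
      have h1 : A ≤ E.subgroupOf (S : Subgroup G) := by
        rw [← Subgroup.comap_subtype]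
        exact Subgroup.map_le_iff_le_comap.mp hAE
      have h2 := hA.2 _ (hEAsub E hE hEA) h1
      rw [← hsub E hE, h2]
    · intro E hE hEA hBE
      have h1 : B ≤ E.subgroupOf (S : Subgroup G) := by
        rw [← Subgroup.comap_subtype]
        exact Subgroup.map_le_iff_le_comap.mp hBE
      have h2 := hB.2 _ (hEAsub E hE hEA) h1
      rw [← hsub E hE, h2]
    · intro s hs
      obtain ⟨a, ha, b, hb, hab⟩ := hprod ⟨s, hs⟩
      refine ⟨a, Subgroup.mem_map_of_mem _ ha, b, Subgroup.mem_map_of_mem _ hb, ?_⟩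
      exact congrArg Subtype.val hab
  exact ⟨hsetup.weaklyClosed S, hsetup.symm.weaklyClosed S,
    le_inf (hsetup.normalizer_le S) (hsetup.symm.normalizer_le S)⟩

end Cfsg.Agent.S3203
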