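import Cfsg.Statements.S3206
import Cfsg.Agent.S4593
import Cfsg.Agent.Lib.H16.JRSYL
import Cfsg.Agent.Lib.H24.JRCOUNT
import Cfsg.Agent.Lib.H11.JRFIX
import Cfsg.Agent.Lib.H2.JRREDUCE
import Cfsg.Agent.Lib.H5.JRCOVER2

set_option autoImplicit false
open Cfsg

namespace Cfsg.Agent.S3206

theorem center_bot_of_simple {G : Type*} [Group G] [IsSimpleGroup G] (hG : ¬ IsMulCommutative G) :
    Subgroup.center G = ⊥ := by
  rcases (Subgroup.Normal.eq_bot_or_eq_top (inferInstance : (Subgroup.center G).Normal)) with h | h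
  · exact h
  · exfalso
    apply hG
    refine ⟨⟨fun a b => ?_⟩⟩
    have : a ∈ Subgroup.center G := h ▸ Subgroup.mem_top a
    exact ((Subgroup.mem_center_iff.mp this) b).symm

theorem core_bot_of_simple {G : Type*} [Group G] [Finite G] [IsSimpleGroup G] (S : Sylow 2 G)
    (hS : 1 < Nat.card ↥(S : Subgroup G)) : Cfsg.pPrimeCore 2 G = ⊥ := by
  rcases (Subgroup.Normal.eq_bot_or_eq_top (Cfsg.pPrimeCore_normal 2 G)) with h | h
  · exact h
  · exfalso
    -- every normal subgroup of odd order is ⊥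
    have hall : ∀ K ∈ {K : Subgroup G | K.Normal ∧ (Nat.card K).Coprime 2}, K ≤ (⊥ : Subgroup G) := by
      intro K hK
      rcases hK.1.eq_bot_or_eq_top with hb | ht
      · exact hb.le
      · exfalso
        have h1 : (Nat.card (⊤ : Subgroup G)).Coprime 2 := ht ▸ hK.2
        rw [Subgroup.card_top] at h1
        have h2 : Nat.card ↥(S : Subgroup G) ∣ Nat.card G := Subgroup.card_subgroup_dvd_card _
        obtain ⟨n, hn⟩ := (S.2 : IsPGroup 2 ↥(S : Subgroup G)).exists_card_eq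
        rw [hn] at hS h2
        have hn0 : n ≠ 0 := by
          rintro rfl
          simp at hS
        have h3 : 2 ∣ Nat.card G := dvd_trans (dvd_pow_self 2 hn0) h2
        have := Nat.Coprime.eq_one_of_dvd h1.symm h3
        omega
    have : Cfsg.pPrimeCore 2 G ≤ ⊥ := sSup_le hall
    rw [h] at this
    have hbt : (⊤ : Subgroup G) = ⊥ := le_antisymm this bot_le
    have hcard : Nat.card ↥(S : Subgroup G) = 1 := by
      have : (S : Subgroup G) = ⊥ := le_antisymm (hbt ▸ le_top) bot_le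
      rw [this]; exact Subgroup.card_bot
    omega

theorem result {G : Type*} [Group G] [Finite G] [IsSimpleGroup G]
    (hG : ¬ IsMulCommutative G) (hab : ∀ S : Sylow 2 G, IsMulCommutative ↥(S : Subgroup G))
    (t : G) (ht : orderOf t = 2) (hmax : IsCoatom (Subgroup.centralizer ({t} : Set G)))
    (E : Subgroup G) (hE : Cfsg.IsInternalDirectProduct (Subgroup.zpowers t) E (Subgroup.centralizer ({t} : Set G)))
    {F : Type*} [Field F] [Fintype F] (hFo : Odd (Fintype.card F)) (hF3 : 3 < Fintype.card F)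
    (N : Subgroup ↥E) [N.Normal] (hN : Nonempty (↥N ≃* Matrix.ProjectiveSpecialLinearGroup (Fin 2) F))
    (hNc : Subgroup.centralizer (N : Set ↥E) = ⊥) :
    (∀ (L : Type) (_ : Group L) (_ : Finite L) (Z : Subgroup L) (_ : Z.Normal), commutator L = ⊤ → Z ≤ Subgroup.center L →
        IsPGroup 2 ↥Z → Nonempty (L ⧸ Z ≃* G) → Z = ⊥) ∧
    (∀ (φ : G ≃* G) (k : ℕ), φ ^ (2 ^ k) = 1 → (∃ S : Sylow 2 G, ∀ s ∈ (S : Subgroup G), φ s = s) →
        ∃ g : G, ∀ x : G, φ x = g * x * g⁻¹) := by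
  obtain ⟨S, hS8, hSexp⟩ := Cfsg.Agent.Lib.H16.JRSYL.SYL hab t ht E hE hFo hF3 N hN hNc
  have hcommS : ∀ (P : Sylow 2 G), ∀ a ∈ (P : Subgroup G), ∀ b ∈ (P : Subgroup G), a * b = b * a := by
    intro P a ha b hb
    have := (hab P).is_comm.comm (⟨a, ha⟩ : (P : Subgroup G)) ⟨b, hb⟩
    exact congrArg Subtype.val this
  have hZ : Subgroup.center G = ⊥ := center_bot_of_simple hG
  have hcore : Cfsg.pPrimeCore 2 G = ⊥ := core_bot_of_simple S (by omega)
  constructor
  · intro L _ _ Z _ hperf hZc hp2 ⟨e⟩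
    have htr := Cfsg.Agent.Lib.H24.JRCOUNT.COUNT S (hcommS S) hS8
      (fun u hu hu1 => Cfsg.Agent.Lib.H11.JRFIX.FIX hG S (hcommS S) hSexp u hu hu1)
    exact Cfsg.Agent.Lib.H2.JRREDUCE.REDUCE (G := G)
      (fun L' _ _ f hf hperf' hkc hk2 => Cfsg.Agent.Lib.H5.JRCOVER2.COVER2 S hS8 hSexp htr hperf' f hf hkc hk2)
      L Z hperf hZc hp2 e
  · intro φ k hφ ⟨P, hP⟩
    have h2 : ∃ j : ℕ, orderOf (φ : MulAut G) = 2 ^ j := by
      have : orderOf (φ : MulAut G) ∣ 2 ^ k := orderOf_dvd_of_pow_eq_one hφ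
      exact (Nat.dvd_prime_pow Nat.prime_two).mp this |>.imp (fun j hj => hj.2)
    exact Cfsg.Agent.S4593.result hZ hcore P (hab P) φ h2 hP

end Cfsg.Agent.S3206
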