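-- Statement S3208
import Cfsg.Statements.S3208
import Cfsg.Agent.Lib.H16.SylowBasic
import Cfsg.Agent.Lib.H16.PGroupBasic
import Mathlib

set_option autoImplicit false
open Cfsg
open Cfsg.Agent.Lib.H16

namespace Cfsg.Agent.S3208

/-- Let j be an involution of a finite group G, H a subgroup of G, and T a Sylow 2-subgroup of H ∩ C_G(j) containing j such that ⟨j⟩ is a characteristic subgroup of T. Then T is a Sylow 2-subgroup of H. -/
theorem result {G : Type*} [Group G] [Finite G]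
    (j : G) (hj : orderOf j = 2) (H T : Subgroup G) (hT : T ≤ H ⊓ Subgroup.centralizer ({j} : Set G)) (h2 : IsPGroup 2 ↥T)
    (hSyl : ¬ 2 ∣ T.relIndex (H ⊓ Subgroup.centralizer ({j} : Set G))) (hjT : j ∈ T)
    (hchar : ((Subgroup.zpowers j).subgroupOf T).Characteristic) :
    ¬ 2 ∣ T.relIndex H := by
  haveI : Fact (Nat.Prime 2) := ⟨Nat.prime_two⟩
  have hTH : T ≤ H := hT.trans inf_le_left
  have hj1 : j ≠ 1 := by intro h; rw [h, orderOf_one] at hj; omega
  -- Sylow 2-subgroup of H containing T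
  have hA : IsPGroup 2 (T.subgroupOf H) := h2.comap_subtype
  obtain ⟨Q₀, hQ₀⟩ := hA.exists_le_sylow
  set T₁ : Subgroup G := (Q₀ : Subgroup H).map H.subtype with hT₁
  have hT₁p : IsPGroup 2 T₁ := Q₀.2.map _
  have hT₁H : T₁ ≤ H := by
    rintro x ⟨y, _, rfl⟩; exact y.2
  have hTT₁ : T ≤ T₁ := by
    intro x hx
    refine ⟨⟨x, hTH hx⟩, hQ₀ (by rw [Subgroup.mem_subgroupOf]; exact hx), rfl⟩
  have hsub : T₁.subgroupOf H = (Q₀ : Subgroup H) := by
    rw [hT₁]
    ext ⟨x, hx⟩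
    rw [Subgroup.mem_subgroupOf]
    constructor
    · rintro ⟨y, hy, hyx⟩
      have : y = ⟨x, hx⟩ := Subtype.ext hyx
      rwa [← this]
    · intro h; exact ⟨⟨x, hx⟩, h, rfl⟩
  have hidx : ¬ 2 ∣ T₁.relIndex H := by
    rw [Subgroup.relIndex, hsub]
    exact Q₀.not_dvd_index
  suffices hEq : T = T₁ by rw [hEq]; exact hidx
  by_contra hne
  have hlt : T < T₁ := lt_of_le_of_ne hTT₁ hne
  obtain ⟨n, hnT₁, hnT, hnN⟩ := exists_mem_normalizer_not_mem T₁ T hT₁p hlt
  -- conjugation by n as an automorphism of T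
  have hmap : T.map (MulAut.conj n).toMonoidHom = T := map_conj_eq_of_mem_normalizer T n hnN
  let φ : T ≃* T := (MulEquiv.subgroupMap (MulAut.conj n) T).trans (MulEquiv.subgroupCongr hmap)
  have hφ : ∀ t : T, ((φ t : T) : G) = n * t * n⁻¹ := by
    intro t; rfl
  have hfix := hchar.fixed φ
  have hjZ : (⟨j, hjT⟩ : T) ∈ (Subgroup.zpowers j).subgroupOf T := by
    rw [Subgroup.mem_subgroupOf]; exact Subgroup.mem_zpowers j
  have hnj : n * j * n⁻¹ ∈ Subgroup.zpowers j := by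
    have : φ ⟨j, hjT⟩ ∈ (Subgroup.zpowers j).subgroupOf T := by
      rw [← hfix] at hjZ
      -- hjZ : ⟨j,_⟩ ∈ comap φ Z ; wait, we need φ⁻¹; use symmetric form
      exact Subgroup.mem_comap.mp hjZ
    rw [Subgroup.mem_subgroupOf, hφ] at this
    exact this
  have hnj' : n * j * n⁻¹ = j := by
    rcases mem_zpowers_of_orderOf_two j _ hj hnj with h | h
    · exfalso; apply hj1
      calc j = n⁻¹ * (n * j * n⁻¹) * n := by group
        _ = 1 := by rw [h]; group
    · exact h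
  have hnC : n ∈ Subgroup.centralizer ({j} : Set G) := by
    rw [Subgroup.mem_centralizer_singleton_iff]
    calc n * j = (n * j * n⁻¹) * n := by group
      _ = j * n := by rw [hnj']
  set K := H ⊓ Subgroup.centralizer ({j} : Set G) with hK
  have hnK : n ∈ K := ⟨hT₁H hnT₁, hnC⟩
  set T' := T₁ ⊓ K with hT'
  have hTT' : T ≤ T' := le_inf hTT₁ hT
  have hT'K : T' ≤ K := inf_le_right
  have hT'p : IsPGroup 2 T' := hT₁p.to_le inf_le_left
  have hmul := Subgroup.relIndex_mul_relIndex T T' K hTT' hT'K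
  obtain ⟨m, hm⟩ := hT'p.index (T.subgroupOf T')
  have hm0 : m ≠ 0 := by
    rintro rfl
    rw [pow_zero] at hm
    have := Subgroup.relIndex_eq_one.mp hm
    exact hnT (this ⟨hnT₁, hnK⟩)
  apply hSyl
  rw [← hmul]
  apply Dvd.dvd.mul_right
  rw [Subgroup.relIndex, hm]
  exact dvd_pow_self 2 hm0

end Cfsg.Agent.S3208
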