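import Cfsg.Statements.S3209
import Mathlib
import Cfsg.Agent.Lib.H2.SL2Quat
import Cfsg.Agent.Lib.H12.SL2Odd

set_option autoImplicit false
open Cfsg

namespace Cfsg.Agent.S3209

section
open Matrix

/-- trace zero and non-scalar for elements of `SL₂` squaring to `-1` -/
theorem trace_zero_of_sq {F : Type*} [Field F] (h2 : (2 : F) ≠ 0)
    (g : SpecialLinearGroup (Fin 2) F) (hg : g.1 * g.1 = -1) :
    (g.1).trace = 0 ∧ Cfsg.Agent.Lib.H12.NonScalar g.1 := by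
  have h1 := Cfsg.Agent.Lib.H18.sl2_mul_self g
  rw [hg] at h1
  have h3 : (g.1 0 0 + g.1 1 1) • g.1 = 0 := by
    have : (g.1 0 0 + g.1 1 1) • g.1 = ((g.1 0 0 + g.1 1 1) • g.1 - 1) + 1 := by abel
    rw [this, ← h1]; simp
  have hdet : g.1 0 0 * g.1 1 1 - g.1 0 1 * g.1 1 0 = 1 := by
    have := g.2
    rwa [Matrix.det_fin_two] at this
  have ht : g.1 0 0 + g.1 1 1 = 0 := by
    by_contra hne
    have hz : g.1 = 0 := by
      rcases smul_eq_zero.mp h3 with h | h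
      · exact absurd h hne
      · exact h
    rw [hz] at hdet
    simp at hdet
  refine ⟨by rw [Matrix.trace_fin_two]; exact ht, ?_⟩
  rintro ⟨h01, h10, h00⟩
  rw [h01, zero_mul, sub_zero, h00] at hdet
  rw [h00] at ht
  have : g.1 1 1 = 0 := by
    have h4 : (2 : F) * g.1 1 1 = 0 := by linear_combination ht
    rcases mul_eq_zero.mp h4 with h | h
    · exact absurd h h2
    · exact h
  rw [this, mul_zero] at hdet
  exact zero_ne_one hdet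

/-- the standard element of order four -/
def wSL (F : Type*) [Field F] : SpecialLinearGroup (Fin 2) F :=
  ⟨!![0, 1; -1, 0], by simp [Matrix.det_fin_two]⟩

theorem wSL_sq (F : Type*) [Field F] : (wSL F).1 * (wSL F).1 = -1 := by
  ext i j
  fin_cases i <;> fin_cases j <;> simp [wSL, Matrix.mul_apply, Fin.sum_univ_two]

theorem sl2_facts {G : Type*} [Group G] {F : Type*} [Field F] [Fintype F]
    (hF : Odd (Fintype.card F)) (L : Subgroup G) (e : ↥L ≃* SpecialLinearGroup (Fin 2) F)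
    (j : G) (hjL : j ∈ L) (hj1 : j ≠ 1) (hjj : j * j = 1) :
    (∀ y ∈ L, y * y = 1 → y = 1 ∨ y = j) ∧ (∃ u ∈ L, u * u = j) ∧
      (∀ u ∈ L, ∀ y ∈ L, u * u = j → y * y = j → ∃ g ∈ L, g * u * g⁻¹ = y) := by
  have h2 : (2 : F) ≠ 0 := Cfsg.Agent.Lib.H12.two_ne_zero_of_odd hF
  have hsq : ∀ y : ↥L, y * y = 1 → (e y).1 = 1 ∨ (e y).1 = -1 := by
    intro y hy
    apply Cfsg.Agent.Lib.H2.SL2Quat.eq_one_or_neg_one_of_sq h2
    rw [← map_mul, hy, map_one]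
  have hone : ∀ y : ↥L, (e y).1 = 1 → y = 1 := by
    intro y hy
    have : e y = 1 := Subtype.ext hy
    exact (MulEquiv.map_eq_one_iff e).mp this
  have hej : (e ⟨j, hjL⟩).1 = -1 := by
    rcases hsq ⟨j, hjL⟩ (Subtype.ext hjj) with h | h
    · exfalso
      apply hj1
      have := hone _ h
      exact congrArg Subtype.val this
    · exact h
  have hneg : ∀ y : ↥L, (e y).1 = -1 → y = ⟨j, hjL⟩ := by
    intro y hy
    apply e.injective
    apply Subtype.ext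
    rw [hy, hej]
  refine ⟨?_, ?_, ?_⟩
  · intro y hy hyy
    rcases hsq ⟨y, hy⟩ (Subtype.ext hyy) with h | h
    · left
      exact congrArg Subtype.val (hone _ h)
    · right
      exact congrArg Subtype.val (hneg _ h)
  · refine ⟨(e.symm (wSL F) : ↥L), (e.symm (wSL F)).2, ?_⟩
    have : e.symm (wSL F) * e.symm (wSL F) = ⟨j, hjL⟩ := by
      apply hneg
      rw [map_mul, MulEquiv.apply_symm_apply]
      exact wSL_sq F
    exact congrArg Subtype.val this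
  · intro u hu y hy huu hyy
    have hu' : (e ⟨u, hu⟩).1 * (e ⟨u, hu⟩).1 = -1 := by
      have : (⟨u, hu⟩ : ↥L) * ⟨u, hu⟩ = ⟨j, hjL⟩ := Subtype.ext huu
      rw [← hej, ← this, map_mul]
      rfl
    have hy' : (e ⟨y, hy⟩).1 * (e ⟨y, hy⟩).1 = -1 := by
      have : (⟨y, hy⟩ : ↥L) * ⟨y, hy⟩ = ⟨j, hjL⟩ := Subtype.ext hyy
      rw [← hej, ← this, map_mul]
      rfl
    obtain ⟨htu, _⟩ := trace_zero_of_sq h2 _ hu'
    obtain ⟨hty, hnsy⟩ := trace_zero_of_sq h2 _ hy'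
    have hconj := Cfsg.Agent.Lib.H12.sl2_isConj_of_trace_regular hF (e ⟨u, hu⟩) (e ⟨y, hy⟩) hnsy
      (by rw [htu, hty]) (by
        rw [htu]
        intro h
        have h4 : (4 : F) = 2 * 2 := by norm_num
        rw [h4] at h
        have : (2 : F) * 2 = 0 := by rw [← h]; ring
        rcases mul_eq_zero.mp this with h' | h' <;> exact h2 h')
    obtain ⟨c, hc⟩ := isConj_iff.mp hconj
    refine ⟨(e.symm c : ↥L), (e.symm c).2, ?_⟩
    have : e.symm c * ⟨u, hu⟩ * (e.symm c)⁻¹ = ⟨y, hy⟩ := by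
      apply e.injective
      rw [map_mul, map_mul, map_inv, MulEquiv.apply_symm_apply]
      exact hc
    exact congrArg Subtype.val this

end

/-- Let L₁ ≅ SL₂(q₁) and L₂ ≅ SL₂(q₂), q₁ and q₂ odd, be elementwise-commuting subgroups of a finite group meeting in ⟨j⟩ for an involution j. Then L₁L₂ has exactly two conjugacy classes of involutions: the central involution j, and one further class (there is an involution x ≠ j in L₁L₂, and every involution of L₁L₂ other than j is conjugate to x by an element of L₁L₂). -/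
theorem result {G : Type*} [Group G] [Finite G]
    {F₁ : Type*} [Field F₁] [Fintype F₁] {F₂ : Type*} [Field F₂] [Fintype F₂]
    (hF₁ : Odd (Fintype.card F₁)) (hF₂ : Odd (Fintype.card F₂)) (L₁ L₂ : Subgroup G)
    (e₁ : ↥L₁ ≃* Matrix.SpecialLinearGroup (Fin 2) F₁) (e₂ : ↥L₂ ≃* Matrix.SpecialLinearGroup (Fin 2) F₂)
    (hc : ∀ x ∈ L₁, ∀ y ∈ L₂, x * y = y * x) (j : G) (hj : orderOf j = 2) (hm : L₁ ⊓ L₂ = Subgroup.zpowers j) :
    ∃ x ∈ L₁ ⊔ L₂, orderOf x = 2 ∧ x ≠ j ∧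
      ∀ y ∈ L₁ ⊔ L₂, orderOf y = 2 → y = j ∨ ∃ g ∈ L₁ ⊔ L₂, g * x * g⁻¹ = y := by
  classical
  have hjmem : j ∈ L₁ ⊓ L₂ := by rw [hm]; exact Subgroup.mem_zpowers j
  have hj1 : j ≠ 1 := by
    intro h
    rw [h, orderOf_one] at hj
    norm_num at hj
  have hjj : j * j = 1 := by rw [← pow_two, ← hj, pow_orderOf_eq_one]
  have hinf : ∀ g ∈ L₁ ⊓ L₂, g = 1 ∨ g = j := by
    intro g hg
    rw [hm] at hg
    obtain ⟨k, rfl⟩ := Subgroup.mem_zpowers_iff.1 hg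
    have hj2 : j ^ (2 : ℤ) = 1 := by
      rw [show (2 : ℤ) = ((2 : ℕ) : ℤ) by norm_num, zpow_natCast, pow_two]; exact hjj
    obtain ⟨m, rfl | rfl⟩ := Int.even_or_odd' k
    · left
      rw [zpow_mul, hj2, one_zpow]
    · right
      rw [zpow_add, zpow_mul, hj2, one_zpow, one_mul, zpow_one]
  obtain ⟨hA₁, ⟨u₁, hu₁, huu₁⟩, hC₁⟩ := sl2_facts hF₁ L₁ e₁ j hjmem.1 hj1 hjj
  obtain ⟨hA₂, ⟨u₂, hu₂, huu₂⟩, hC₂⟩ := sl2_facts hF₂ L₂ e₂ j hjmem.2 hj1 hjj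
  have hcomm : ∀ a ∈ L₁, ∀ b ∈ L₂, Commute a b := fun a ha b hb => hc a ha b hb
  -- u₁ ∉ L₂
  have hu₁L₂ : u₁ ∉ L₂ := by
    intro h
    rcases hinf u₁ ⟨hu₁, h⟩ with h' | h'
    · rw [h', one_mul] at huu₁; exact hj1 huu₁.symm
    · rw [h', hjj] at huu₁; exact hj1 huu₁.symm
  have hxsq : (u₁ * u₂) * (u₁ * u₂) = 1 := by
    rw [(hcomm u₁ hu₁ u₂ hu₂).symm.mul_mul_mul_comm, huu₁, huu₂, hjj]
  have hx1 : u₁ * u₂ ≠ 1 := by
    intro h
    apply hu₁L₂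
    have : u₁ = u₂⁻¹ := eq_inv_of_mul_eq_one_left h
    rw [this]
    exact L₂.inv_mem hu₂
  have hxj : u₁ * u₂ ≠ j := by
    intro h
    apply hu₁L₂
    have : u₁ = j * u₂⁻¹ := by rw [← h]; group
    rw [this]
    exact L₂.mul_mem hjmem.2 (L₂.inv_mem hu₂)
  refine ⟨u₁ * u₂, Subgroup.mul_mem _ (Subgroup.mem_sup_left hu₁) (Subgroup.mem_sup_right hu₂),
    orderOf_eq_prime (by rw [pow_two]; exact hxsq) hx1, hxj, ?_⟩
  intro y hy hyo
  have hyy : y * y = 1 := by rw [← pow_two, ← hyo, pow_orderOf_eq_one]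
  have hy1 : y ≠ 1 := by
    intro h
    rw [h, orderOf_one] at hyo
    norm_num at hyo
  -- decompose y
  have hLN : L₁ ≤ Subgroup.normalizer (L₂ : Set G) := by
    intro a ha
    have : a ∈ Subgroup.centralizer (L₂ : Set G) := by
      rw [Subgroup.mem_centralizer_iff]
      intro b hb
      exact (hc a ha b hb).symm
    exact Subgroup.centralizer_le_normalizer _ this
  have hy' : y ∈ ((L₁ ⊔ L₂ : Subgroup G) : Set G) := hy
  rw [Subgroup.coe_mul_of_left_le_normalizer_right L₁ L₂ hLN] at hy'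
  obtain ⟨y₁, hy₁, y₂, hy₂, rfl⟩ := Set.mem_mul.mp hy'
  have hsq : (y₁ * y₁) * (y₂ * y₂) = 1 := by
    rw [← (hcomm y₁ hy₁ y₂ hy₂).symm.mul_mul_mul_comm]; exact hyy
  have h11 : y₁ * y₁ ∈ L₁ ⊓ L₂ := by
    refine ⟨L₁.mul_mem hy₁ hy₁, ?_⟩
    have : y₁ * y₁ = (y₂ * y₂)⁻¹ := eq_inv_of_mul_eq_one_left hsq
    rw [this]
    exact L₂.inv_mem (L₂.mul_mem hy₂ hy₂)
  rcases hinf _ h11 with h1 | h1
  · -- both squares trivial
    left
    have h22 : y₂ * y₂ = 1 := by rw [h1, one_mul] at hsq; exact hsq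
    rcases hA₁ y₁ hy₁ h1 with ha | ha <;> rcases hA₂ y₂ hy₂ h22 with hb | hb
    · exfalso; apply hy1; rw [ha, hb, one_mul]
    · rw [ha, hb, one_mul]
    · rw [ha, hb, mul_one]
    · exfalso; apply hy1; rw [ha, hb, hjj]
  · right
    have h22 : y₂ * y₂ = j := by
      rw [h1] at hsq
      have : y₂ * y₂ = j⁻¹ := eq_inv_of_mul_eq_one_right hsq
      rw [this]
      exact inv_eq_of_mul_eq_one_left hjj
    obtain ⟨g₁, hg₁, hgu₁⟩ := hC₁ u₁ hu₁ y₁ hy₁ huu₁ h1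
    obtain ⟨g₂, hg₂, hgu₂⟩ := hC₂ u₂ hu₂ y₂ hy₂ huu₂ h22
    refine ⟨g₁ * g₂, Subgroup.mul_mem _ (Subgroup.mem_sup_left hg₁) (Subgroup.mem_sup_right hg₂), ?_⟩
    rw [← hgu₁, ← hgu₂]
    have c1 : Commute g₂ u₁ := (hcomm u₁ hu₁ g₂ hg₂).symm
    have c2 : Commute g₂⁻¹ g₁⁻¹ := ((hcomm g₁ hg₁ g₂ hg₂).inv_inv).symm
    have c3 : Commute g₂ g₁⁻¹ := ((hcomm g₁ hg₁ g₂ hg₂).inv_left).symm
    have c4 : Commute u₂ g₁⁻¹ := ((hcomm g₁ hg₁ u₂ hu₂).inv_left).symm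
    calc g₁ * g₂ * (u₁ * u₂) * (g₁ * g₂)⁻¹ = g₁ * (g₂ * u₁) * u₂ * (g₂⁻¹ * g₁⁻¹) := by
          group
      _ = g₁ * (u₁ * g₂) * u₂ * (g₁⁻¹ * g₂⁻¹) := by rw [c1.eq, c2.eq]
      _ = g₁ * u₁ * (g₂ * (u₂ * g₁⁻¹)) * g₂⁻¹ := by group
      _ = g₁ * u₁ * (g₂ * (g₁⁻¹ * u₂)) * g₂⁻¹ := by rw [c4.eq]
      _ = g₁ * u₁ * ((g₂ * g₁⁻¹) * u₂) * g₂⁻¹ := by group
      _ = g₁ * u₁ * ((g₁⁻¹ * g₂) * u₂) * g₂⁻¹ := by rw [c3.eq]
      _ = g₁ * u₁ * g₁⁻¹ * (g₂ * u₂ * g₂⁻¹) := by group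

end Cfsg.Agent.S3209
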