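import Cfsg.Statements.S3210
import Mathlib
import Cfsg.Agent.Lib.H6.SL2Central

set_option autoImplicit false
open Cfsg

namespace Cfsg.Agent.S3210

open Cfsg.Agent.Lib.H6.SL2Central

theorem map_le_of_conj_mem {G : Type*} [Group G] {L L' : Subgroup G} {c : G}
    (h : ∀ l ∈ L, c * l * c⁻¹ ∈ L') : L.map (MulAut.conj c).toMonoidHom ≤ L' := by
  rintro _ ⟨l, hl, rfl⟩
  exact h l hl

theorem card_map_conj {G : Type*} [Group G] (L : Subgroup G) (c : G) :
    Nat.card (L.map (MulAut.conj c).toMonoidHom) = Nat.card L := by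
  rw [Subgroup.card_map_of_injective (MulAut.conj c).injective]

theorem map_eq_of_conj_mem {G : Type*} [Group G] [Finite G] {L L' : Subgroup G} {c : G}
    (h : ∀ l ∈ L, c * l * c⁻¹ ∈ L') (hcard : Nat.card L' ≤ Nat.card L) :
    L.map (MulAut.conj c).toMonoidHom = L' := by
  apply Subgroup.eq_of_le_of_card_ge (map_le_of_conj_mem h)
  rw [Subgroup.card_map_of_injective (MulAut.conj c).injective]
  exact hcard

theorem q_inj {a b : ℕ} (ha : 1 ≤ a) (hb : 1 ≤ b) (h : a * (a ^ 2 - 1) = b * (b ^ 2 - 1)) : a = b := by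
  have ha2 : 1 ≤ a ^ 2 := Nat.one_le_pow _ _ ha
  have hb2 : 1 ≤ b ^ 2 := Nat.one_le_pow _ _ hb
  zify [ha2, hb2] at h
  have ha' : (1 : ℤ) ≤ a := by exact_mod_cast ha
  have hb' : (1 : ℤ) ≤ b := by exact_mod_cast hb
  have hfac : ((a : ℤ) - b) * ((a : ℤ) ^ 2 + a * b + (b : ℤ) ^ 2 - 1) = 0 := by
    linear_combination h
  rcases mul_eq_zero.mp hfac with h1 | h1
  · have : (a : ℤ) = b := by linarith
    exact_mod_cast this
  · exfalso
    nlinarith

/-- Let G be a finite group with subgroups L₁ ≅ SL₂(q₁) and L₂ ≅ SL₂(q₂), q₁ and q₂ odd prime powers, which commute elementwise and meet in ⟨j⟩ for an involution j, and suppose L₁L₂ has index 2 in C_G(j). Then every element n of C_G(j) outside L₁L₂ either normalizes both L₁ and L₂, or conjugates L₁ onto L₂; in the second case q₁ = q₂ and there is an element n′ of C_G(j) outside L₁L₂ conjugating L₁ onto L₂ with n′² ∈ ⟨j⟩. -/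
theorem result {G : Type*} [Group G] [Finite G]
    {F₁ : Type*} [Field F₁] [Fintype F₁] {F₂ : Type*} [Field F₂] [Fintype F₂]
    (hF₁ : Odd (Fintype.card F₁)) (hF₂ : Odd (Fintype.card F₂)) (L₁ L₂ : Subgroup G)
    (e₁ : ↥L₁ ≃* Matrix.SpecialLinearGroup (Fin 2) F₁) (e₂ : ↥L₂ ≃* Matrix.SpecialLinearGroup (Fin 2) F₂)
    (hc : ∀ x ∈ L₁, ∀ y ∈ L₂, x * y = y * x) (j : G) (hj : orderOf j = 2) (hm : L₁ ⊓ L₂ = Subgroup.zpowers j)
    (hle : L₁ ⊔ L₂ ≤ Subgroup.centralizer ({j} : Set G)) (hi : (L₁ ⊔ L₂).relIndex (Subgroup.centralizer ({j} : Set G)) = 2) (n : G) (hn : n ∈ Subgroup.centralizer ({j} : Set G)) (hn' : n ∉ L₁ ⊔ L₂) :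
    (L₁.map (MulAut.conj n).toMonoidHom = L₁ ∧ L₂.map (MulAut.conj n).toMonoidHom = L₂) ∨
      (L₁.map (MulAut.conj n).toMonoidHom = L₂ ∧ Fintype.card F₁ = Fintype.card F₂ ∧
        ∃ n' ∈ Subgroup.centralizer ({j} : Set G), n' ∉ L₁ ⊔ L₂ ∧ L₁.map (MulAut.conj n').toMonoidHom = L₂ ∧ n' ^ 2 ∈ Subgroup.zpowers j) := by
  classical
  have hjmem : j ∈ L₁ ⊓ L₂ := by rw [hm]; exact Subgroup.mem_zpowers j
  have hj1 : j ≠ 1 := by
    intro h
    rw [h, orderOf_one] at hj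
    norm_num at hj
  have hjj : j * j = 1 := by rw [← pow_two, ← hj, pow_orderOf_eq_one]
  have hinf : ∀ g ∈ L₁ ⊓ L₂, g = 1 ∨ g = j := by
    intro g hg
    rw [hm] at hg
    obtain ⟨k, rfl⟩ := Subgroup.mem_zpowers_iff.1 hg
    have hj2 : j ^ (2 : ℤ) = 1 := by
      rw [show (2 : ℤ) = ((2 : ℕ) : ℤ) by norm_num, zpow_natCast, pow_two]; exact hjj
    obtain ⟨m, rfl | rfl⟩ := Int.even_or_odd' k
    · left
      rw [zpow_mul, hj2, one_zpow]
    · right
      rw [zpow_add, zpow_mul, hj2, one_zpow, one_mul, zpow_one]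
  obtain ⟨hA₁, hB₁, _, hZ₁⟩ := sl2_facts hF₁ L₁ e₁ j hjmem.1 hj1 hjj
  obtain ⟨hA₂, hB₂, _, hZ₂⟩ := sl2_facts hF₂ L₂ e₂ j hjmem.2 hj1 hjj
  have cfg : Cfg L₁ L₂ j :=
    { comm := hc, inf := fun g h1 h2 => hinf g ⟨h1, h2⟩, jj := hjj, j1 := hj1, jL₁ := hjmem.1,
      jL₂ := hjmem.2, inv₁ := hA₁, inv₂ := hA₂, ex₁ := hB₁, ex₂ := hB₂, cen₁ := hZ₁, cen₂ := hZ₂ }
  set M := L₁ ⊔ L₂ with hM
  set C := Subgroup.centralizer ({j} : Set G) with hC
  have hidx : (M.subgroupOf C).index = 2 := hi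
  have hmul : ∀ a b : G, a ∈ C → b ∈ C → (a * b ∈ M ↔ (a ∈ M ↔ b ∈ M)) := by
    intro a b ha hb
    have := Subgroup.mul_mem_iff_of_index_two hidx (a := ⟨a, ha⟩) (b := ⟨b, hb⟩)
    simpa [Subgroup.mem_subgroupOf] using this
  have hconjM : ∀ c ∈ C, c ∉ M → ∀ m ∈ M, c * m * c⁻¹ ∈ M := by
    intro c hcC hcM m hmM
    have hmC : m ∈ C := hle hmM
    have h1 : c * m ∉ M := by
      rw [hmul c m hcC hmC]
      tauto
    have hcinv : c⁻¹ ∉ M := fun h => hcM (by simpa using M.inv_mem h)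
    rw [hmul (c * m) c⁻¹ (C.mul_mem hcC hmC) (C.inv_mem hcC)]
    tauto
  have hninvC : n⁻¹ ∈ C := C.inv_mem hn
  have hninvM : n⁻¹ ∉ M := fun h => hn' (by simpa using M.inv_mem h)
  have hnj : n * j = j * n := by
    have := Subgroup.mem_centralizer_iff.mp hn j (Set.mem_singleton j)
    exact this.symm
  have hcMn := hconjM n hn hn'
  have hcMn' : ∀ m ∈ M, n⁻¹ * m * n ∈ M := by
    intro m hmM
    simpa using hconjM n⁻¹ hninvC hninvM m hmM
  have hcMs : ∀ m ∈ L₂ ⊔ L₁, n * m * n⁻¹ ∈ L₂ ⊔ L₁ := by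
    intro m hmM
    rw [sup_comm] at hmM ⊢
    exact hcMn m hmM
  have hcMs' : ∀ m ∈ L₂ ⊔ L₁, n⁻¹ * m * n ∈ L₂ ⊔ L₁ := by
    intro m hmM
    rw [sup_comm] at hmM ⊢
    exact hcMn' m hmM
  rcases fix_or_swap cfg n hcMn hcMn' hnj with hfix | hswap
  · left
    have h1 := conj_mem_of_fix cfg n hcMn hcMn' hnj hfix
    have h2 := conj_mem_of_fix cfg.symm n hcMs hcMs' hnj (fix_symm hfix)
    exact ⟨map_eq_of_conj_mem h1 le_rfl, map_eq_of_conj_mem h2 le_rfl⟩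
  · right
    have h1 := conj_mem_of_swap cfg n hcMn hcMn' hnj hswap
    have h2 := conj_mem_of_swap cfg.symm n hcMs hcMs' hnj (swap_symm hswap)
    have hc1 : Nat.card L₁ ≤ Nat.card L₂ := by
      rw [← card_map_conj L₁ n]
      exact Subgroup.card_le_of_le (map_le_of_conj_mem h1)
    have hc2 : Nat.card L₂ ≤ Nat.card L₁ := by
      rw [← card_map_conj L₂ n]
      exact Subgroup.card_le_of_le (map_le_of_conj_mem h2)
    have hmap1 : L₁.map (MulAut.conj n).toMonoidHom = L₂ := map_eq_of_conj_mem h1 hc2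
    have hmap2 : L₂.map (MulAut.conj n).toMonoidHom = L₁ := map_eq_of_conj_mem h2 hc1
    refine ⟨hmap1, ?_, ?_⟩
    · -- q₁ = q₂
      have hcard : Nat.card L₁ = Nat.card L₂ := le_antisymm hc1 hc2
      rw [Nat.card_congr e₁.toEquiv, Nat.card_congr e₂.toEquiv, Cfsg.Agent.Lib.H12.card_SL2,
        Cfsg.Agent.Lib.H12.card_SL2] at hcard
      exact q_inj Fintype.card_pos Fintype.card_pos hcard
    · -- n'
      have hnn : n * n ∈ M := by rw [hmul n n hn hn]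
      obtain ⟨a, ha, b, hb, hab⟩ := cfg.exists_mul hnn
      have haM : a ∈ M := Subgroup.mem_sup_left ha
      have haC : a ∈ C := hle haM
      -- t = n⁻¹ a⁻¹ n ∈ L₂
      have hainv : a⁻¹ ∈ L₂.map (MulAut.conj n).toMonoidHom := by rw [hmap2]; exact L₁.inv_mem ha
      obtain ⟨t, ht, hta⟩ := hainv
      have hta' : n * t * n⁻¹ = a⁻¹ := hta
      have hd : b * t ∈ L₂ := L₂.mul_mem hb ht
      have hcomm_a : ∀ y ∈ L₂, a * y = y * a := fun y hy => hc a ha y hy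
      have hsq : (n * a⁻¹) * (n * a⁻¹) = b * t := by
        have e1 : t = n⁻¹ * a⁻¹ * n := by rw [← hta']; group
        calc (n * a⁻¹) * (n * a⁻¹) = (n * n) * (n⁻¹ * a⁻¹ * n) * a⁻¹ := by group
          _ = (a * b) * t * a⁻¹ := by rw [hab, ← e1]
          _ = a * (b * t) * a⁻¹ := by group
          _ = (b * t) * a * a⁻¹ := by rw [hcomm_a _ hd]
          _ = b * t := by group
      refine ⟨n * a⁻¹, C.mul_mem hn (C.inv_mem haC), ?_, ?_, ?_⟩
      · intro h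
        apply hn'
        have : n = (n * a⁻¹) * a := by group
        rw [this]
        exact M.mul_mem h haM
      · apply map_eq_of_conj_mem _ hc2
        intro l hl
        have : n * a⁻¹ * l * (n * a⁻¹)⁻¹ = n * (a⁻¹ * l * a) * n⁻¹ := by group
        rw [this]
        exact h1 _ (L₁.mul_mem (L₁.mul_mem (L₁.inv_mem ha) hl) ha)
      · rw [pow_two, hsq, ← hm]
        refine ⟨?_, hd⟩
        -- b t = n' (b t) n'⁻¹ = n (b t) n⁻¹ ∈ L₁
        have e2 : b * t = (n * a⁻¹) * (b * t) * (n * a⁻¹)⁻¹ := by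
          rw [← hsq]; group
        have e3 : (n * a⁻¹) * (b * t) * (n * a⁻¹)⁻¹ = n * (b * t) * n⁻¹ := by
          calc (n * a⁻¹) * (b * t) * (n * a⁻¹)⁻¹ = n * (a⁻¹ * ((b * t) * a)) * n⁻¹ := by group
            _ = n * (a⁻¹ * (a * (b * t))) * n⁻¹ := by rw [hcomm_a _ hd]
            _ = n * (b * t) * n⁻¹ := by group
        rw [e2, e3]
        exact h2 _ hd

end Cfsg.Agent.S3210
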