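import Cfsg.Statements.S3213
import Cfsg.Agent.Lib.H9.Sp43A
import Cfsg.Agent.Lib.H9.Sp43B
-- import your own Cfsg.Agent.* helpers here

set_option autoImplicit false
open Cfsg

namespace Cfsg.Agent.S3213

open Matrix Cfsg.Agent.Lib.H9.Sp43

theorem unip_pow {K : Type*} [Field K] (n : ℕ) :
    (!![1, 1; 0, 1] : Matrix (Fin 2) (Fin 2) K) ^ n = !![1, (n : K); 0, 1] := by
  induction n with
  | zero => simp [Matrix.one_fin_two]
  | succ n ih =>
    rw [pow_succ, ih]
    ext i j
    fin_cases i <;> fin_cases j <;> simp [Matrix.mul_apply, Fin.sum_univ_two, add_comm]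

theorem exists_order_five {K : Type*} [Field K] [Fintype K] (hK : Fintype.card K = 5) :
    ∃ y : SpecialLinearGroup (Fin 2) K, y ^ 5 = 1 ∧ y ≠ 1 := by
  have h5 : (5 : K) = 0 := by
    have := Nat.cast_card_eq_zero K
    rw [hK] at this
    exact_mod_cast this
  have hdet : (!![1, 1; 0, 1] : Matrix (Fin 2) (Fin 2) K).det = 1 := by
    simp [Matrix.det_fin_two_of]
  refine ⟨⟨!![1, 1; 0, 1], hdet⟩, ?_, ?_⟩
  · apply Subtype.ext
    show (!![1, 1; 0, 1] : Matrix (Fin 2) (Fin 2) K) ^ 5 = 1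
    rw [unip_pow]
    push_cast
    rw [h5, Matrix.one_fin_two]
  · intro h
    have h1 := congrArg (fun s : SpecialLinearGroup (Fin 2) K => s.val 0 1) h
    simp at h1

theorem neg_one_ne_one_of_card5 {K : Type*} [Field K] [Fintype K] (hK : Fintype.card K = 5) :
    (-1 : K) ≠ 1 := by
  have h5 : (5 : K) = 0 := by
    have := Nat.cast_card_eq_zero K
    rw [hK] at this
    exact_mod_cast this
  intro h
  have : (1 : K) = 0 := by linear_combination h5 + 2 * h
  exact one_ne_zero this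

theorem J_alt {F : Type*} [Field F] (h2 : (2 : F) ≠ 0) (v : Fin 2 ⊕ Fin 2 → F) :
    v ⬝ᵥ (Matrix.J (Fin 2) F) *ᵥ v = 0 := by
  have h : v ⬝ᵥ (Matrix.J (Fin 2) F) *ᵥ v = - (v ⬝ᵥ (Matrix.J (Fin 2) F) *ᵥ v) := by
    conv_lhs => rw [Matrix.dotProduct_mulVec, ← Matrix.mulVec_transpose, Matrix.J_transpose,
      Matrix.neg_mulVec, neg_dotProduct, dotProduct_comm]
  have : (2 : F) * (v ⬝ᵥ (Matrix.J (Fin 2) F) *ᵥ v) = 0 := by linear_combination h
  rcases mul_eq_zero.mp this with h' | h'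
  · exact absurd h' h2
  · exact h'

theorem J_invariant {F : Type*} [Field F] (M : Matrix (Fin 2 ⊕ Fin 2) (Fin 2 ⊕ Fin 2) F)
    (hM : M ∈ Matrix.symplecticGroup (Fin 2) F) (v w : Fin 2 ⊕ Fin 2 → F) :
    (M *ᵥ v) ⬝ᵥ (Matrix.J (Fin 2) F) *ᵥ (M *ᵥ w) = v ⬝ᵥ (Matrix.J (Fin 2) F) *ᵥ w := by
  have h := (SymplecticGroup.mem_iff').mp hM
  rw [← Matrix.vecMul_transpose, ← Matrix.dotProduct_mulVec, Matrix.mulVec_mulVec,
    Matrix.mulVec_mulVec, h]


/-- Let F be the field with 3 elements and K the field with 5 elements. For every injective homomorphism φ from SL₂(K) into the symplectic group Sp₄(F) (4 × 4 matrices g with g J gᵀ = J for the standard alternating matrix J) and every element x of order 3 of SL₂(K), the vectors of F⁴ fixed by φ(x) form a 2-dimensional subspace that is totally isotropic for the alternating form defined by J. -/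
theorem result {F : Type*} [Field F] [Fintype F] (hF : Fintype.card F = 3)
    {K : Type*} [Field K] [Fintype K] (hK : Fintype.card K = 5)
    (φ : Matrix.SpecialLinearGroup (Fin 2) K →* ↥(Matrix.symplecticGroup (Fin 2) F)) (hφ : Function.Injective φ)
    (x : Matrix.SpecialLinearGroup (Fin 2) K) (hx : orderOf x = 3) :
    Module.finrank F ↥(LinearMap.ker (Matrix.toLin' ((φ x : Matrix (Fin 2 ⊕ Fin 2) (Fin 2 ⊕ Fin 2) F)) - LinearMap.id)) = 2 ∧
      ∀ v w : Fin 2 ⊕ Fin 2 → F, (φ x : Matrix (Fin 2 ⊕ Fin 2) (Fin 2 ⊕ Fin 2) F).mulVec v = v →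
        (φ x : Matrix (Fin 2 ⊕ Fin 2) (Fin 2 ⊕ Fin 2) F).mulVec w = w →
          dotProduct v ((Matrix.J (Fin 2) F).mulVec w) = 0 := by
  classical
  have hE : Module.finrank F (Fin 2 ⊕ Fin 2 → F) = 4 := by
    rw [Module.finrank_fintype_fun_eq_card]
    simp
  let L : Matrix.SpecialLinearGroup (Fin 2) K →* Module.End F (Fin 2 ⊕ Fin 2 → F) :=
    { toFun := fun s => Matrix.toLin' ((φ s : Matrix (Fin 2 ⊕ Fin 2) (Fin 2 ⊕ Fin 2) F))
      map_one' := by
        rw [map_one, Submonoid.coe_one, Matrix.toLin'_one]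
        rfl
      map_mul' := by
        intro s s'
        rw [map_mul, Submonoid.coe_mul, Matrix.toLin'_mul]
        rfl }
  have hLinj : Function.Injective L := by
    intro s s' h
    apply hφ
    apply Subtype.ext
    exact (Matrix.toLin' (R := F) (m := Fin 2 ⊕ Fin 2) (n := Fin 2 ⊕ Fin 2)).injective h
  obtain ⟨t, ht2, hxt⟩ := exists_inverting hK x hx
  obtain ⟨y, hy5, hy1⟩ := exists_order_five hK
  have hx3 : x ^ 3 = 1 := by rw [← hx]; exact pow_orderOf_eq_one x
  have hx1 : x ≠ 1 := by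
    intro h
    rw [h, orderOf_one] at hx
    omega
  have hz_central : ∀ s : Matrix.SpecialLinearGroup (Fin 2) K, (t * t) * s = s * (t * t) := by
    intro s
    apply Subtype.ext
    show (t * t).val * s.val = s.val * (t * t).val
    rw [ht2]
    simp
  have hzz : (t * t) * (t * t) = 1 := by
    apply Subtype.ext
    show (t * t).val * (t * t).val = 1
    rw [ht2]
    simp
  have hz1 : t * t ≠ 1 := by
    intro h
    have h1 : (t * t).val = (1 : Matrix (Fin 2) (Fin 2) K) := by rw [h]; rfl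
    rw [ht2] at h1
    have h2 := congrFun (congrFun h1 0) 0
    simp at h2
    exact neg_one_ne_one_of_card5 hK h2
  have hA : L (t * t) * L (t * t) = 1 := by rw [← map_mul, hzz, map_one]
  have hA1 : L (t * t) ≠ 1 := by
    intro h
    rw [← map_one L] at h
    exact hz1 (hLinj h)
  have hAB : L (t * t) * L y = L y * L (t * t) := by rw [← map_mul, ← map_mul, hz_central]
  have hB : L y ^ 5 = 1 := by rw [← map_pow, hy5, map_one]
  have hB1 : L y ≠ 1 := by
    intro h
    rw [← map_one L] at h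
    exact hy1 (hLinj h)
  have hAneg : L (t * t) = -1 := eq_neg_one_of_commute hF hE _ _ hA hA1 hAB hB hB1
  have hT : L t * L t = -1 := by rw [← map_mul, hAneg]
  have hg3 : L x ^ 3 = 1 := by rw [← map_pow, hx3, map_one]
  have hg1 : L x ≠ 1 := by
    intro h
    rw [← map_one L] at h
    exact hx1 (hLinj h)
  have hgT : L x * L t * L x = L t := by rw [← map_mul, ← map_mul, hxt]
  have h2 := finrank_ker_eq_two hF hE (L x) (L t) hg3 hg1 hT hgT
  refine ⟨h2, ?_⟩
  intro v w hv hw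
  let ω : (Fin 2 ⊕ Fin 2 → F) →ₗ[F] (Fin 2 ⊕ Fin 2 → F) →ₗ[F] F :=
    Matrix.toLinearMap₂' F (Matrix.J (Fin 2) F)
  have hωapp : ∀ a b, ω a b = a ⬝ᵥ (Matrix.J (Fin 2) F) *ᵥ b := by
    intro a b
    exact Matrix.toLinearMap₂'_apply' _ a b
  have halt : ∀ a, ω a a = 0 := by
    intro a
    rw [hωapp]
    exact J_alt (two_ne_zero' hF) a
  have hLapp : ∀ a, L x a = (φ x : Matrix (Fin 2 ⊕ Fin 2) (Fin 2 ⊕ Fin 2) F) *ᵥ a := by
    intro a
    exact Matrix.toLin'_apply _ a
  have hω : ∀ a b, ω (L x a) (L x b) = ω a b := by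
    intro a b
    rw [hωapp, hωapp, hLapp, hLapp]
    exact J_invariant _ (φ x).2 a b
  have := isotropic_ker (three_eq_zero hF) ω halt (L x) hω hg3 hg1 h2 v w
    (by rw [hLapp]; exact hv) (by rw [hLapp]; exact hw)
  rw [hωapp] at this
  exact this

end Cfsg.Agent.S3213
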