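import Cfsg.Statements.S3215
import Cfsg.Agent.Lib.H7.InvCent6

set_option autoImplicit false
open Cfsg
set_option autoImplicit false

namespace Cfsg.Agent.S3215

/-- Let H be a finite solvable group with no nontrivial normal subgroup of odd order in which the centralizer of every involution has a normal 2-complement. Let X be a Hall 2'-subgroup of H (odd order, index a power of 2) and Y = O₂(H). Then no non-identity element of X commutes with a non-identity element of Y (so for X ≠ 1 the group XY is a Frobenius group with kernel Y), every Sylow subgroup of X is cyclic, XY is normal in H, and H/XY is a cyclic 2-group. -/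
theorem result {H : Type*} [Group H] [Finite H] (hsol : Group.IsSolvable H)
    (hO : Cfsg.oddCore H = ⊥)
    (hI : ∀ t : H, orderOf t = 2 → Cfsg.HasNormalPComplement 2 ↥(Subgroup.centralizer ({t} : Set H)))
    (X : Subgroup H) (hXodd : Odd (Nat.card X)) (hXidx : ∃ k : ℕ, X.index = 2 ^ k) :
    (∀ x ∈ X, x ≠ 1 → ∀ y ∈ Cfsg.pCore 2 H, y ≠ 1 → x * y ≠ y * x) ∧
      (∀ (p : ℕ) [Fact p.Prime] (P : Sylow p ↥X), IsCyclic ↥(P : Subgroup ↥X)) ∧
      (X ⊔ Cfsg.pCore 2 H).Normal ∧
      ∀ hN : (X ⊔ Cfsg.pCore 2 H).Normal, IsCyclic (H ⧸ (X ⊔ Cfsg.pCore 2 H)) ∧ IsPGroup 2 (H ⧸ (X ⊔ Cfsg.pCore 2 H)) := by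
  have h2 : Fact (Nat.Prime 2) := ⟨Nat.prime_two⟩
  have hyp : Cfsg.Agent.Lib.H7.InvCent.Hyp H := ⟨hsol, hO, hI⟩
  by_cases hY1 : Cfsg.pCore 2 H = ⊥
  · have hs : Subsingleton H := by
      have h1 := Cfsg.Agent.Lib.H7.InvCent.centralizer_pCore_two_le hsol hO
      rw [hY1] at h1
      refine ⟨fun a b => ?_⟩
      have ha : a ∈ Subgroup.centralizer ((⊥ : Subgroup H) : Set H) := by
        rw [Subgroup.mem_centralizer_iff]
        intro z hz
        rw [SetLike.mem_coe, Subgroup.mem_bot] at hz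
        rw [hz, one_mul, mul_one]
      have hb : b ∈ Subgroup.centralizer ((⊥ : Subgroup H) : Set H) := by
        rw [Subgroup.mem_centralizer_iff]
        intro z hz
        rw [SetLike.mem_coe, Subgroup.mem_bot] at hz
        rw [hz, one_mul, mul_one]
      rw [Subgroup.mem_bot.1 (h1 ha), Subgroup.mem_bot.1 (h1 hb)]
    exact Cfsg.Agent.Lib.H7.InvCent.main_of_subsingleton X (Cfsg.pCore 2 H)
  · have hYn : (Cfsg.pCore 2 H).Normal := Cfsg.Agent.Lib.H1.pCore_normal 2 H
    refine ⟨?_, ?_, ?_, ?_⟩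
    · intro x hx hx1 y hy hy1 hxy
      apply hx1
      have hxo : Odd (orderOf x) :=
        Odd.of_dvd_nat hXodd (Subgroup.orderOf_dvd_natCard _ hx)
      exact hyp.eq_one_of_commute_pCore hxo hy hy1 hxy
    · intro p _ P
      exact hyp.isCyclic_sylow X hXodd hY1 p P
    · exact hyp.sup_normal rfl hY1 X hXodd hXidx
    · intro hN
      exact hyp.quotient_sup rfl hY1 X hXodd hXidx

end Cfsg.Agent.S3215
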