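import Cfsg.Statements.S3225
import Mathlib

set_option autoImplicit false
open Cfsg

namespace Cfsg.Agent.S3225

/-- The sign character of a subgroup `H` with respect to a subgroup `M` of relative index two. -/
noncomputable def signHom {G : Type*} [Group G] (H M : Subgroup G) (hM : M.relIndex H = 2) :
    H →* ℤˣ := by
  classical
  exact MonoidHom.mk' (fun s => if (s : G) ∈ M then 1 else -1) (by
    intro s t
    have key : (s * t : H) ∈ M.subgroupOf H ↔ (s ∈ M.subgroupOf H ↔ t ∈ M.subgroupOf H) :=
      Subgroup.mul_mem_iff_of_index_two hM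
    simp only [Subgroup.mem_subgroupOf, Subgroup.coe_mul] at key
    by_cases hs : (s : G) ∈ M <;> by_cases ht : (t : G) ∈ M
    · have : (s : G) * t ∈ M := key.mpr (iff_of_true hs ht)
      simp [hs, ht, this]
    · have : ¬ (s : G) * t ∈ M := fun h => ht ((key.mp h).mp hs)
      simp [hs, ht, this]
    · have : ¬ (s : G) * t ∈ M := fun h => hs ((key.mp h).mpr ht)
      simp [hs, ht, this]
    · have : (s : G) * t ∈ M := key.mpr (iff_of_false hs ht)
      simp [hs, ht, this])

theorem signHom_of_mem {G : Type*} [Group G] (H M : Subgroup G) (hM : M.relIndex H = 2) (s : H)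
    (hs : (s : G) ∈ M) : signHom H M hM s = 1 := by
  classical
  simp [signHom, hs]

theorem signHom_of_not_mem {G : Type*} [Group G] (H M : Subgroup G) (hM : M.relIndex H = 2) (s : H)
    (hs : (s : G) ∉ M) : signHom H M hM s = -1 := by
  classical
  simp [signHom, hs]

/-- Let G be a finite group of even order with no subgroup of index 2, S a Sylow 2-subgroup of G and M a subgroup of index 2 in S such that, for some n ≥ 1, every element of S outside M has order greater than 2^(n−1). Then every element of S of order 2ⁿ is conjugate in G to an element of M. -/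
theorem result {G : Type*} [Group G] [Finite G] (hev : Even (Nat.card G))
    (hG : ∀ H : Subgroup G, H.index ≠ 2) (S : Sylow 2 G) (M : Subgroup G) (hMS : M ≤ (S : Subgroup G)) (hM : M.relIndex (S : Subgroup G) = 2)
    (n : ℕ) (hn : 1 ≤ n) (hord : ∀ y ∈ (S : Subgroup G), y ∉ M → 2 ^ (n - 1) < orderOf y)
    (x : G) (hx : x ∈ (S : Subgroup G)) (hxn : orderOf x = 2 ^ n) :
    ∃ g : G, g * x * g⁻¹ ∈ M := by
  classical
  have _ := hev
  have _ := hMS
  have _ := hn
  have _ := hx
  by_contra hcon
  push Not at hcon
  set H : Subgroup G := (S : Subgroup G) with hH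
  set ϕ := signHom H M hM with hϕ
  haveI : Fintype (Quotient (MulAction.orbitRel (Subgroup.zpowers x) (G ⧸ H))) :=
    Fintype.ofFinite _
  have hterm : ∀ q : Quotient (MulAction.orbitRel (Subgroup.zpowers x) (G ⧸ H)),
      ϕ ⟨q.out.out⁻¹ * x ^ Function.minimalPeriod (x • ·) q.out * q.out.out,
        QuotientGroup.out_conj_pow_minimalPeriod_mem H x q.out⟩
        = (-1) ^ Function.minimalPeriod (x • ·) q.out := by
    intro q
    have hkdvd : Function.minimalPeriod (x • ·) q.out ∣ 2 ^ n := by
      apply Function.IsPeriodicPt.minimalPeriod_dvd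
      rw [Function.IsPeriodicPt, Function.IsFixedPt, smul_iterate, ← hxn, pow_orderOf_eq_one]
      exact one_smul _ _
    obtain ⟨j, hjn, hkj⟩ := (Nat.dvd_prime_pow Nat.prime_two).mp hkdvd
    have hmemH := QuotientGroup.out_conj_pow_minimalPeriod_mem H x q.out
    rcases Nat.eq_zero_or_pos j with hj0 | hjpos
    · -- minimal period one
      have hk1 : Function.minimalPeriod (x • ·) q.out = 1 := by rw [hkj, hj0, pow_zero]
      have hnot : q.out.out⁻¹ * x ^ Function.minimalPeriod (x • ·) q.out * q.out.out ∉ M := by
        rw [hk1, pow_one]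
        have := hcon (q.out.out⁻¹)
        rwa [inv_inv] at this
      rw [hϕ, signHom_of_not_mem H M hM _ hnot, hk1, pow_one]
    · have hmem : q.out.out⁻¹ * x ^ Function.minimalPeriod (x • ·) q.out * q.out.out ∈ M := by
        by_contra hnot
        have h1 := hord _ hmemH hnot
        have h2 : orderOf (q.out.out⁻¹ * x ^ Function.minimalPeriod (x • ·) q.out * q.out.out)
            = orderOf (x ^ Function.minimalPeriod (x • ·) q.out) := by
          have := MulEquiv.orderOf_eq (MulAut.conj (q.out.out⁻¹))
            (x ^ Function.minimalPeriod (x • ·) q.out)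
          rw [MulAut.conj_apply, inv_inv] at this
          exact this
        rw [h2, hkj, orderOf_pow' x (by positivity), hxn] at h1
        have h3 : Nat.gcd (2 ^ n) (2 ^ j) = 2 ^ j :=
          Nat.gcd_eq_right (Nat.pow_dvd_pow 2 hjn)
        rw [h3, Nat.pow_div hjn (by norm_num)] at h1
        have h4 : 2 ^ (n - j) ≤ 2 ^ (n - 1) := Nat.pow_le_pow_right (by norm_num) (by omega)
        omega
      have heven : Even (Function.minimalPeriod (x • ·) q.out) := by
        rw [hkj]
        exact (Nat.even_pow.mpr ⟨even_two, by omega⟩)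
      rw [hϕ, signHom_of_mem H M hM _ hmem, heven.neg_one_pow]
  have hV : MonoidHom.transfer ϕ x = -1 := by
    rw [MonoidHom.transfer_eq_prod_quotient_orbitRel_zpowers_quot,
      Finset.prod_congr rfl (fun q _ => hterm q), Finset.prod_pow_eq_pow_sum,
      ← Subgroup.index_eq_sum_minimalPeriod H x]
    have hodd : Odd H.index := by
      have := S.not_dvd_index
      rw [← Nat.not_even_iff_odd, even_iff_two_dvd]
      exact this
    exact hodd.neg_one_pow
  -- the kernel has index two
  apply hG (MonoidHom.transfer ϕ).ker
  rw [Subgroup.index_ker]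
  have hrange : (MonoidHom.transfer ϕ).range = ⊤ := by
    rw [eq_top_iff]
    intro u _
    rcases Int.units_eq_one_or u with rfl | rfl
    · exact Subgroup.one_mem _
    · exact ⟨x, hV⟩
  rw [hrange, Subgroup.card_top, Nat.card_eq_fintype_card, Fintype.card_units_int]

end Cfsg.Agent.S3225
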