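import Cfsg.Statements.S3247
import Cfsg.Agent.Lib.H7.PConstrained4

set_option autoImplicit false
open Cfsg
open Cfsg.Agent.Lib.H7
set_option autoImplicit false

namespace Cfsg.Agent.S3247

theorem isPConstrained_normalizer_subgroupOf {G : Type*} [Group G] [Finite G] (p : ℕ) [Fact p.Prime]
    {M T : Subgroup G} (hT : IsPGroup p T) (hTM : T ≤ M) (hM : IsPConstrained p ↥M) :
    IsPConstrained p ↥((Subgroup.normalizer (T : Set G)).subgroupOf M) := by
  have h1 := (pLocal_of_pLayer_eq_bot p ((isPConstrained_iff_pLayer_eq_bot p).1 hM)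
    (T.subgroupOf M) (hT.comap_subtype)).1
  rw [← isPConstrained_iff_pLayer_eq_bot] at h1
  rw [Subgroup.subgroupOf_normalizer_eq hTM]
  exact h1

/-- `A ∩ B` viewed inside `B` and inside `A`. -/
def subgroupOfSwap {G : Type*} [Group G] (A B : Subgroup G) :
    ↥(A.subgroupOf B) ≃* ↥(B.subgroupOf A) where
  toFun y := ⟨⟨y.1.1, y.2⟩, y.1.2⟩
  invFun y := ⟨⟨y.1.1, y.2⟩, y.1.2⟩
  left_inv _ := rfl
  right_inv _ := rfl
  map_mul' _ _ := rfl


/-- Let G be a finite group and p a prime; here a p-local subgroup means the normalizer of a nontrivial p-subgroup, other than G itself. If every p-local subgroup of G that is maximal among p-local subgroups is p-constrained, or if the centralizer of every element of order p of G is p-constrained, then every p-local subgroup of G is p-constrained. -/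
theorem result {G : Type*} [Group G] [Finite G] (p : ℕ) [hp : Fact p.Prime]
    (h : (∀ M : Subgroup G, (∃ T : Subgroup G, IsPGroup p ↥T ∧ T ≠ ⊥ ∧ M = Subgroup.normalizer (T : Set G)) → M ≠ ⊤ →
        (∀ M' : Subgroup G, (∃ T' : Subgroup G, IsPGroup p ↥T' ∧ T' ≠ ⊥ ∧ M' = Subgroup.normalizer (T' : Set G)) → M' ≠ ⊤ → M ≤ M' → M = M') →
        Cfsg.IsPConstrained p ↥M) ∨
      (∀ x : G, orderOf x = p → Cfsg.IsPConstrained p ↥(Subgroup.centralizer ({x} : Set G))))
    (T : Subgroup G) (hT : IsPGroup p ↥T) (hT1 : T ≠ ⊥) (hTG : Subgroup.normalizer (T : Set G) ≠ ⊤) :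
    Cfsg.IsPConstrained p ↥(Subgroup.normalizer (T : Set G)) := by
  rcases h with hA | hB
  · -- maximal proper p-local containing N
    let S : Set (Subgroup G) := {M | (∃ T' : Subgroup G, IsPGroup p ↥T' ∧ T' ≠ ⊥ ∧
      M = Subgroup.normalizer (T' : Set G)) ∧ M ≠ ⊤ ∧ Subgroup.normalizer (T : Set G) ≤ M}
    have hSne : S.Nonempty := ⟨_, ⟨T, hT, hT1, rfl⟩, hTG, le_rfl⟩
    obtain ⟨M, hMmax⟩ := (Set.toFinite S).exists_maximal hSne
    have hMS : M ∈ S := hMmax.prop
    have hMc : IsPConstrained p ↥M := by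
      apply hA M hMS.1 hMS.2.1
      intro M' hM' hM'top hMM'
      have hM'S : M' ∈ S := ⟨hM', hM'top, hMS.2.2.trans hMM'⟩
      exact le_antisymm hMM' (hMmax.le_of_ge hM'S hMM')
    have hNM : Subgroup.normalizer (T : Set G) ≤ M := hMS.2.2
    have hTM : T ≤ M := Subgroup.le_normalizer.trans hNM
    exact isPConstrained_of_mulEquiv p (Subgroup.subgroupOfEquivOfLe hNM)
      (isPConstrained_normalizer_subgroupOf p hT hTM hMc)
  · -- an element of order p in Z(T)
    have hnt : Nontrivial ↥T := (Subgroup.nontrivial_iff_ne_bot T).2 hT1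
    have hZ : Nontrivial (Subgroup.center ↥T) := hT.center_nontrivial
    have hdvd : p ∣ Nat.card (Subgroup.center ↥T) := by
      obtain ⟨k, hk⟩ := IsPGroup.iff_card.1 (hT.to_subgroup (Subgroup.center ↥T))
      have hk0 : k ≠ 0 := by
        rintro rfl
        rw [pow_zero] at hk
        have := (Nat.card_eq_one_iff_unique.1 hk).1
        exact not_subsingleton _ this
      rw [hk]
      exact dvd_pow_self p hk0
    obtain ⟨z, hz⟩ := exists_prime_orderOf_dvd_card' p hdvd
    have hxo : orderOf ((z : ↥T) : G) = p := by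
      rw [Subgroup.orderOf_coe, Subgroup.orderOf_coe]; exact hz
    have hxT : ((z : ↥T) : G) ∈ T := (z : ↥T).2
    have hxc : ∀ t ∈ T, t * ((z : ↥T) : G) = ((z : ↥T) : G) * t := by
      intro t ht
      have := Subgroup.mem_center_iff.1 z.2 ⟨t, ht⟩
      exact congrArg Subtype.val this
    generalize ((z : ↥T) : G) = x at hxo hxT hxc
    have hTX : T ≤ Subgroup.centralizer ({x} : Set G) := by
      intro t ht
      rw [Subgroup.mem_centralizer_singleton_iff]
      exact hxc t ht
    have h1 := isPConstrained_normalizer_subgroupOf p hT hTX (hB x hxo)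
    have hxN : x ∈ Subgroup.normalizer (T : Set G) := Subgroup.le_normalizer hxT
    have hC' : Subgroup.centralizer ({(⟨x, hxN⟩ : ↥(Subgroup.normalizer (T : Set G)))} :
        Set ↥(Subgroup.normalizer (T : Set G))) =
        (Subgroup.centralizer ({x} : Set G)).subgroupOf (Subgroup.normalizer (T : Set G)) := by
      ext y
      rw [Subgroup.mem_centralizer_singleton_iff, Subgroup.mem_subgroupOf,
        Subgroup.mem_centralizer_singleton_iff]
      constructor
      · intro h; exact congrArg Subtype.val h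
      · intro h; exact Subtype.ext h
    have h2 : IsPConstrained p ↥(Subgroup.centralizer
        ({(⟨x, hxN⟩ : ↥(Subgroup.normalizer (T : Set G)))} :
          Set ↥(Subgroup.normalizer (T : Set G)))) := by
      rw [hC']
      exact isPConstrained_of_mulEquiv p (subgroupOfSwap _ _) h1
    apply isPConstrained_of_centralizer_mem_pCore p (x := ⟨x, hxN⟩) _ _ h2
    · apply Subtype.ext
      rw [Subgroup.coe_pow, Subgroup.coe_one, ← hxo]
      exact pow_orderOf_eq_one x
    · have hn : (T.subgroupOf (Subgroup.normalizer (T : Set G))).Normal :=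
        Subgroup.normal_in_normalizer
      exact Cfsg.Agent.Lib.H1.le_pCore hn (hT.comap_subtype) (Subgroup.mem_subgroupOf.2 hxT)

end Cfsg.Agent.S3247
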