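import Cfsg.Statements.S3261
import Mathlib
import Cfsg.Agent.Lib.H21.D8D
import Cfsg.Agent.S0848
import Cfsg.Agent.S0495
import Cfsg.Agent.S0497

set_option autoImplicit false
open Cfsg

namespace Cfsg.Agent.S3261

open Cfsg.Agent.Lib.H21.D8C
open scoped commutatorElement

theorem result {G : Type*} [Group G] [Finite G]
    (hG : ∀ H : Subgroup G, H.index ≠ 2)
    (αt : ↥(alternatingGroup (Fin 6))) (hαt : orderOf αt = 2) (hsupp : (αt : Equiv.Perm (Fin 6)).support.card = 4)
    (α : G) (hα : orderOf α = 2) (S : Sylow 2 G) (hαS : α ∈ (S : Subgroup G)) (hαc : ∀ s ∈ (S : Subgroup G), s * α = α * s)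
    (e : ↥(Subgroup.centralizer ({α} : Set G)) ≃* ↥(Subgroup.centralizer ({αt} : Set ↥(alternatingGroup (Fin 6))))) :
    Nonempty (G ≃* ↥(alternatingGroup (Fin 6))) ∨
      (∃ (F : Type) (_ : Field F) (_ : Fintype F), Fintype.card F = 7 ∧ Nonempty (G ≃* Matrix.ProjectiveSpecialLinearGroup (Fin 2) F)) := by
  classical
  have _ := hαS
  obtain ⟨σ, h⟩ := exists_d8Data α hα αt hαt hsupp e
  have hT := sylow_eq_centralizer h S hαc
  haveI := isSimpleGroup h S hT hG
  obtain ⟨u, hu, huQ⟩ := h.exists_not_mem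
  have hperf : commutator G = ⊤ := by
    have hn : (commutator G).Normal := by rw [commutator_def]; infer_instance
    rcases hn.eq_bot_or_eq_top with hb | ht
    · exfalso
      apply h.not_comm hu huQ
      have hmem : ⁅u, σ⁆ ∈ commutator G := by
        rw [commutator_def]
        exact Subgroup.commutator_mem_commutator (Subgroup.mem_top u) (Subgroup.mem_top σ)
      rw [hb, Subgroup.mem_bot, commutatorElement_def] at hmem
      calc u * σ = (u * σ * u⁻¹ * σ⁻¹) * σ * u := by group
        _ = σ * u := by rw [hmem, one_mul]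
    · exact ht
  obtain ⟨e'⟩ := h.nonempty_mulEquiv
  rcases Cfsg.Agent.S0848.result hperf α hα e' with h168 | h360
  · right
    haveI : Fact (Nat.Prime 7) := ⟨by norm_num⟩
    exact ⟨ZMod 7, inferInstance, inferInstance, ZMod.card 7,
      Cfsg.Agent.S0495.result h168 (ZMod.card 7)⟩
  · left
    exact Cfsg.Agent.S0497.result h360

end Cfsg.Agent.S3261
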