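import Cfsg.Statements.S3266
import Mathlib
import Cfsg.Agent.Lib.H5.OddGraph.OddMain
import Cfsg.Agent.Lib.H5.OddGraph.EvenChar
import Cfsg.Agent.Lib.H5.OddGraph.Graph
import Cfsg.Agent.Lib.H5.ConjCount

set_option autoImplicit false
open Cfsg

namespace Cfsg.Agent.S3266

open Cfsg.Agent.Lib.H5.OddGraph

/-- Let F be a finite field with at least 4 elements and let X be a conjugacy class of involutions of PSL(2, F). The graph on X joining two distinct involutions whose product has odd order is connected and has diameter exactly 2. -/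
theorem result {F : Type*} [Field F] [Fintype F] (hF : 4 ≤ Fintype.card F)
    (t : Matrix.ProjectiveSpecialLinearGroup (Fin 2) F) (ht : orderOf t = 2) :
    (SimpleGraph.fromRel fun x y : {x : Matrix.ProjectiveSpecialLinearGroup (Fin 2) F // IsConj t x} =>
        Odd (orderOf (x.1 * y.1))).Connected ∧
      (SimpleGraph.fromRel fun x y : {x : Matrix.ProjectiveSpecialLinearGroup (Fin 2) F // IsConj t x} =>
        Odd (orderOf (x.1 * y.1))).diam = 2 := by
  -- the facts about `PSL₂(F)`
  have hmid : ∀ x y : Matrix.ProjectiveSpecialLinearGroup (Fin 2) F, orderOf x = 2 → orderOf y = 2 →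
      x ≠ y → ∃ z : Matrix.ProjectiveSpecialLinearGroup (Fin 2) F, orderOf z = 2 ∧ z ≠ x ∧
        Odd (orderOf (x * z)) ∧ Odd (orderOf (z * y)) := by
    intro x y hx hy hxy
    by_cases hodd : Odd (Fintype.card F)
    · exact exists_mid_odd hodd hF x y hx hy hxy
    · have h2 : (2 : F) = 0 := by
        have hc : ringChar F = 2 :=
          FiniteField.even_card_iff_char_two.mpr (Nat.not_odd_iff.mp hodd)
        haveI : CharP F 2 := ringChar.of_eq hc
        exact CharTwo.two_eq_zero
      exact exists_mid_even h2 x y hx hy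
  have hconj : ∀ x y : Matrix.ProjectiveSpecialLinearGroup (Fin 2) F, orderOf x = 2 → orderOf y = 2 →
      IsConj x y := by
    intro x y hx hy
    by_cases hodd : Odd (Fintype.card F)
    · exact Cfsg.Agent.Lib.H5.SL2Four.psl2_involutions_isConj hodd x y hx hy
    · have h2 : (2 : F) = 0 := by
        have hc : ringChar F = 2 :=
          FiniteField.even_card_iff_char_two.mpr (Nat.not_odd_iff.mp hodd)
        haveI : CharP F 2 := ringChar.of_eq hc
        exact CharTwo.two_eq_zero
      exact involutions_isConj_even h2 x y hx hy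
  have hnon : ∃ x y : Matrix.ProjectiveSpecialLinearGroup (Fin 2) F, orderOf x = 2 ∧ orderOf y = 2 ∧
      x ≠ y ∧ orderOf (x * y) = 2 ∧ orderOf (y * x) = 2 := by
    by_cases hodd : Odd (Fintype.card F)
    · exact exists_nonadj_odd hodd
    · have h2 : (2 : F) = 0 := by
        have hc : ringChar F = 2 :=
          FiniteField.even_card_iff_char_two.mpr (Nat.not_odd_iff.mp hodd)
        haveI : CharP F 2 := ringChar.of_eq hc
        exact CharTwo.two_eq_zero
      exact exists_nonadj_even h2 hF
  have hord : ∀ x : {x : Matrix.ProjectiveSpecialLinearGroup (Fin 2) F // IsConj t x},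
      orderOf x.1 = 2 := by
    intro x
    rw [← Cfsg.Agent.Lib.H5.orderOf_eq_of_isConj x.2, ht]
  have : Nonempty {x : Matrix.ProjectiveSpecialLinearGroup (Fin 2) F // IsConj t x} :=
    ⟨⟨t, IsConj.refl t⟩⟩
  apply connected_diam_two
  · intro u v huv hadj
    have huv' : u.1 ≠ v.1 := fun h => huv (Subtype.ext h)
    obtain ⟨z, hz, hzu, h1, h2⟩ := hmid u.1 v.1 (hord u) (hord v) huv'
    refine ⟨⟨z, hconj t z ht hz⟩, ?_, ?_⟩
    · rw [SimpleGraph.fromRel_adj]
      refine ⟨?_, Or.inl h1⟩
      intro h
      exact hzu (congrArg Subtype.val h).symm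
    · rw [SimpleGraph.fromRel_adj]
      refine ⟨?_, Or.inl h2⟩
      intro h
      apply hadj
      rw [SimpleGraph.fromRel_adj]
      refine ⟨huv, Or.inl ?_⟩
      have : z = v.1 := congrArg Subtype.val h
      rw [← this]
      exact h1
  · obtain ⟨x, y, hx, hy, hxy, h1, h2⟩ := hnon
    refine ⟨⟨x, hconj t x ht hx⟩, ⟨y, hconj t y ht hy⟩, ?_, ?_⟩
    · intro h
      exact hxy (congrArg Subtype.val h)
    · rw [SimpleGraph.fromRel_adj]
      rintro ⟨-, h | h⟩
      · simp only [h1] at h
        exact absurd h (by decide)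
      · simp only [h2] at h
        exact absurd h (by decide)

end Cfsg.Agent.S3266
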