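-- Statement S3276
import Cfsg.Statements.S3276
import Mathlib

set_option autoImplicit false
open Cfsg

namespace Cfsg.Agent.S3276

/-- Two involutions of a finite group are conjugate or commute with a common involution. -/
lemma invol_dichotomy {G : Type*} [Group G] [Finite G] (a b : G) (ha : a * a = 1) (hb : b * b = 1) :
    IsConj a b ∨ ∃ u : G, orderOf u = 2 ∧ Commute u a ∧ Commute u b := by
  have hainv : a⁻¹ = a := inv_eq_of_mul_eq_one_right ha
  have hbinv : b⁻¹ = b := inv_eq_of_mul_eq_one_right hb
  set d := a * b with hd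
  have hdinv : d⁻¹ = b * a := by rw [hd, mul_inv_rev, hainv, hbinv]
  have hN : 0 < orderOf d := orderOf_pos d
  have hada : a * d * a⁻¹ = d⁻¹ := by
    rw [hdinv, hd, hainv]
    calc a * (a * b) * a = (a * a) * b * a := by group
      _ = b * a := by rw [ha, one_mul]
  have hbdb : b * d * b⁻¹ = d⁻¹ := by
    rw [hdinv, hd, hbinv]
    calc b * (a * b) * b = b * a * (b * b) := by group
      _ = b * a := by rw [hb, mul_one]
  have hadk : ∀ k : ℕ, a * d ^ k * a⁻¹ = (d ^ k)⁻¹ := by
    intro k; rw [← conj_pow, hada, inv_pow]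
  have hbdk : ∀ k : ℕ, b * d ^ k * b⁻¹ = (d ^ k)⁻¹ := by
    intro k; rw [← conj_pow, hbdb, inv_pow]
  rcases Nat.even_or_odd' (orderOf d) with ⟨k, hk | hk⟩
  · -- even order 2k
    right
    have hk0 : k ≠ 0 := by rintro rfl; omega
    have hsq : (d ^ k) ^ 2 = 1 := by
      rw [← pow_mul, mul_comm, ← hk, pow_orderOf_eq_one]
    have hne : d ^ k ≠ 1 := by
      intro h1
      have := orderOf_dvd_of_pow_eq_one h1
      rw [hk] at this
      have := Nat.le_of_dvd (Nat.pos_of_ne_zero hk0) this
      omega
    have hself : (d ^ k)⁻¹ = d ^ k := by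
      apply inv_eq_of_mul_eq_one_right
      rw [← pow_two]; exact hsq
    refine ⟨d ^ k, orderOf_eq_prime hsq hne, ?_, ?_⟩
    · -- Commute (d^k) a
      have := hadk k
      rw [hself] at this
      -- a * d^k * a⁻¹ = d^k
      unfold Commute SemiconjBy
      calc d ^ k * a = (a * d ^ k * a⁻¹) * a := by rw [this]
        _ = a * d ^ k := by group
    · have := hbdk k
      rw [hself] at this
      unfold Commute SemiconjBy
      calc d ^ k * b = (b * d ^ k * b⁻¹) * b := by rw [this]
        _ = b * d ^ k := by group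
  · -- odd order 2k+1
    left
    rw [isConj_iff]
    -- (d^k)⁻¹ * a * d^k = d * a = a b a
    have h1 : d ^ (2 * k + 1) = 1 := by rw [← hk]; exact pow_orderOf_eq_one d
    have h2 : (d ^ k)⁻¹ * (d ^ k)⁻¹ = d := by
      have : d ^ k * d ^ k * d = 1 := by
        rw [← pow_add, ← pow_succ]; rw [← h1]; congr 1; ring
      calc (d ^ k)⁻¹ * (d ^ k)⁻¹ = (d ^ k)⁻¹ * (d ^ k)⁻¹ * (d ^ k * d ^ k * d) := by rw [this, mul_one]
        _ = d := by group
    have h3 : (d ^ k)⁻¹ * a * d ^ k = a * b * a := by
      have := hadk k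
      -- a * d^k = (d^k)⁻¹ * a
      have h4 : a * d ^ k = (d ^ k)⁻¹ * a := by
        calc a * d ^ k = (a * d ^ k * a⁻¹) * a := by group
          _ = (d ^ k)⁻¹ * a := by rw [this]
      calc (d ^ k)⁻¹ * a * d ^ k = (d ^ k)⁻¹ * (a * d ^ k) := by group
        _ = (d ^ k)⁻¹ * ((d ^ k)⁻¹ * a) := by rw [h4]
        _ = ((d ^ k)⁻¹ * (d ^ k)⁻¹) * a := by group
        _ = d * a := by rw [h2]
    -- a b a = a b a⁻¹ ; so a ~ a b a ~ b ; we need c with c a c⁻¹ = b
    refine ⟨a * (d ^ k)⁻¹, ?_⟩
    calc a * (d ^ k)⁻¹ * a * (a * (d ^ k)⁻¹)⁻¹ = a * ((d ^ k)⁻¹ * a * d ^ k) * a⁻¹ := by group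
      _ = a * (a * b * a) * a⁻¹ := by rw [h3]
      _ = (a * a) * b * (a * a⁻¹) := by group
      _ = b := by rw [ha, one_mul, mul_inv_cancel, mul_one]

/-- Let x and y be commuting, non-conjugate involutions of a finite group G, and suppose that for every involution u commuting with x, each conjugate of y that commutes with u also commutes with y. Then the normal closure of y is a proper, normal, elementary abelian 2-subgroup of G; and if y is the only involution of that normal closure commuting with x, it has order at most 4. -/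
theorem result {G : Type*} [Group G] [Finite G] (x y : G) (hx : orderOf x = 2) (hy : orderOf y = 2)
    (hxy : Commute x y) (hnc : ¬ IsConj x y)
    (hstar : ∀ u : G, orderOf u = 2 → Commute u x → ∀ g : G, Commute (g * y * g⁻¹) u → Commute (g * y * g⁻¹) y) :
    Subgroup.normalClosure ({y} : Set G) ≠ ⊤ ∧ Cfsg.IsElementaryAbelian 2 (Subgroup.normalClosure ({y} : Set G)) ∧
      ((∀ u ∈ Subgroup.normalClosure ({y} : Set G), orderOf u = 2 → Commute u x → u = y) →
        Nat.card ↥(Subgroup.normalClosure ({y} : Set G)) ≤ 4) := by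
  have hx2 : x * x = 1 := by rw [← pow_two, ← hx]; exact pow_orderOf_eq_one x
  have hy2 : y * y = 1 := by rw [← pow_two, ← hy]; exact pow_orderOf_eq_one y
  have hx1 : x ≠ 1 := by intro h; rw [h, orderOf_one] at hx; omega
  have hy1 : y ≠ 1 := by intro h; rw [h, orderOf_one] at hy; omega
  have hxinv : x⁻¹ = x := inv_eq_of_mul_eq_one_right hx2
  have hyinv : y⁻¹ = y := inv_eq_of_mul_eq_one_right hy2
  -- conjugates of y are involutions
  have hconj2 : ∀ g : G, (g * y * g⁻¹) * (g * y * g⁻¹) = 1 := by
    intro g
    calc (g * y * g⁻¹) * (g * y * g⁻¹) = g * (y * y) * g⁻¹ := by group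
      _ = 1 := by rw [hy2]; group
  -- step 1: every conjugate of y commutes with y
  have step1 : ∀ g : G, Commute (g * y * g⁻¹) y := by
    intro g
    rcases invol_dichotomy x (g * y * g⁻¹) hx2 (hconj2 g) with hc | ⟨u, hu2, hux, huy⟩
    · exfalso
      apply hnc
      exact hc.trans (isConj_iff.mpr ⟨g⁻¹, by group⟩)
    · exact hstar u hu2 hux g huy.symm
  -- step 2: any two conjugates commute
  have step2 : ∀ g h : G, Commute (g * y * g⁻¹) (h * y * h⁻¹) := by
    intro g h
    have := step1 (h⁻¹ * g)
    have h2 : Commute (h * ((h⁻¹ * g) * y * (h⁻¹ * g)⁻¹) * h⁻¹) (h * y * h⁻¹) := by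
      unfold Commute SemiconjBy at this ⊢
      calc h * ((h⁻¹ * g) * y * (h⁻¹ * g)⁻¹) * h⁻¹ * (h * y * h⁻¹)
          = h * (((h⁻¹ * g) * y * (h⁻¹ * g)⁻¹) * y) * h⁻¹ := by group
        _ = h * (y * ((h⁻¹ * g) * y * (h⁻¹ * g)⁻¹)) * h⁻¹ := by rw [this]
        _ = h * y * h⁻¹ * (h * ((h⁻¹ * g) * y * (h⁻¹ * g)⁻¹) * h⁻¹) := by group
    have h3 : h * ((h⁻¹ * g) * y * (h⁻¹ * g)⁻¹) * h⁻¹ = g * y * g⁻¹ := by group
    rwa [h3] at h2
  have hgen : ∀ c ∈ Group.conjugatesOfSet ({y} : Set G), ∃ g : G, c = g * y * g⁻¹ := by
    intro c hc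
    rw [Group.mem_conjugatesOfSet_iff] at hc
    obtain ⟨a, ha, hac⟩ := hc
    rw [Set.mem_singleton_iff] at ha
    subst ha
    obtain ⟨g, hg⟩ := isConj_iff.mp hac
    exact ⟨g, hg.symm⟩
  -- commutativity on the closure
  have hcomm : ∀ a ∈ Subgroup.normalClosure ({y} : Set G), ∀ b ∈ Subgroup.normalClosure ({y} : Set G), a * b = b * a := by
    intro a ha b hb
    unfold Subgroup.normalClosure at ha hb
    induction ha, hb using Subgroup.closure_induction₂ with
    | mem p q hp hq =>
      obtain ⟨g, rfl⟩ := hgen p hp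
      obtain ⟨h, rfl⟩ := hgen q hq
      exact step2 g h
    | one_left p hp => simp
    | one_right p hp => simp
    | mul_left p q r hp hq hr h1 h2 =>
      calc p * q * r = p * (q * r) := by group
        _ = p * (r * q) := by rw [h2]
        _ = (p * r) * q := by group
        _ = (r * p) * q := by rw [h1]
        _ = r * (p * q) := by group
    | mul_right q r p hq hr hp h1 h2 =>
      calc p * (q * r) = (p * q) * r := by group
        _ = (q * p) * r := by rw [h1]
        _ = q * (p * r) := by group
        _ = q * (r * p) := by rw [h2]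
        _ = q * r * p := by group
    | inv_left p q hp hq h =>
      calc p⁻¹ * q = p⁻¹ * (q * p) * p⁻¹ := by group
        _ = p⁻¹ * (p * q) * p⁻¹ := by rw [h]
        _ = q * p⁻¹ := by group
    | inv_right p q hp hq h =>
      calc p * q⁻¹ = q⁻¹ * (q * p) * q⁻¹ := by group
        _ = q⁻¹ * (p * q) * q⁻¹ := by rw [h]
        _ = q⁻¹ * p := by group
  -- exponent 2 on the closure
  have hexp : ∀ a ∈ Subgroup.normalClosure ({y} : Set G), a * a = 1 := by
    intro a ha
    have ha' := ha
    unfold Subgroup.normalClosure at ha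
    induction ha using Subgroup.closure_induction with
    | mem p hp =>
      obtain ⟨g, rfl⟩ := hgen p hp
      exact hconj2 g
    | one => simp
    | mul p q hp hq h1 h2 =>
      have hpq := hcomm p hp q hq
      calc p * q * (p * q) = p * (q * p) * q := by group
        _ = p * (p * q) * q := by rw [hpq]
        _ = (p * p) * (q * q) := by group
        _ = 1 := by rw [h1 hp, h2 hq, mul_one]
    | inv p hp h =>
      have := h hp
      calc p⁻¹ * p⁻¹ = (p * p)⁻¹ := by group
        _ = 1 := by rw [this, inv_one]
  have hyN : y ∈ Subgroup.normalClosure ({y} : Set G) := Subgroup.subset_normalClosure (Set.mem_singleton y)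
  refine ⟨?_, ⟨?_, ?_⟩, ?_⟩
  · -- proper
    intro htop
    have hcommG : ∀ a b : G, a * b = b * a := by
      intro a b
      exact hcomm a (by rw [htop]; trivial) b (by rw [htop]; trivial)
    have hall : ∀ a ∈ Subgroup.normalClosure ({y} : Set G), a = 1 ∨ a = y := by
      intro a ha
      unfold Subgroup.normalClosure at ha
      induction ha using Subgroup.closure_induction with
      | mem p hp =>
        obtain ⟨g, rfl⟩ := hgen p hp
        right
        rw [hcommG g y, mul_assoc, mul_inv_cancel, mul_one]
      | one => left; rfl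
      | mul p q hp hq h1 h2 =>
        rcases h1 with rfl | rfl <;> rcases h2 with rfl | rfl
        · left; simp
        · right; simp
        · right; simp
        · left; exact hy2
      | inv p hp h =>
        rcases h with rfl | rfl
        · left; simp
        · right; exact hyinv
    rcases hall x (by rw [htop]; trivial) with h | h
    · exact hx1 h
    · exact hnc (h ▸ IsConj.refl x)
  · -- commutative
    exact IsMulCommutative.of_comm (fun a b => Subtype.ext (hcomm a.1 a.2 b.1 b.2))
  · -- exponent
    intro a ha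
    rw [pow_two]; exact hexp a ha
  · -- order at most 4
    intro huniq
    set N := Subgroup.normalClosure ({y} : Set G) with hN
    have hNn : N.Normal := Subgroup.normalClosure_normal
    let φ : G → G := fun a => a * (x * a * x⁻¹)
    have hφN : ∀ a ∈ N, φ a ∈ N := fun a ha => N.mul_mem ha (hNn.conj_mem a ha x)
    -- φ a commutes with x
    have hφx : ∀ a ∈ N, Commute (φ a) x := by
      intro a ha
      have hc := hcomm a ha (x * a * x⁻¹) (hNn.conj_mem a ha x)
      unfold Commute SemiconjBy
      show a * (x * a * x⁻¹) * x = x * (a * (x * a * x⁻¹))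
      calc a * (x * a * x⁻¹) * x = (x * a * x⁻¹) * a * x := by rw [hc]
        _ = x * a * (x⁻¹ * a * x) := by group
        _ = x * a * (x * a * x⁻¹) := by rw [hxinv]
        _ = x * (a * (x * a * x⁻¹)) := by group
    -- φ a is 1 or y
    have hφ1y : ∀ a ∈ N, φ a = 1 ∨ φ a = y := by
      intro a ha
      by_cases h1 : φ a = 1
      · left; exact h1
      · right
        apply huniq (φ a) (hφN a ha) _ (hφx a ha)
        apply orderOf_eq_prime _ h1
        rw [pow_two]; exact hexp _ (hφN a ha)
    -- kernel
    have hker : ∀ a ∈ N, φ a = 1 → a = 1 ∨ a = y := by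
      intro a ha h
      by_cases h1 : a = 1
      · left; exact h1
      · right
        have ha2 := hexp a ha
        have hainv : a⁻¹ = a := inv_eq_of_mul_eq_one_right ha2
        -- x a x⁻¹ = a⁻¹ = a
        have hxa : x * a * x⁻¹ = a := by
          have : x * a * x⁻¹ = a⁻¹ := by
            calc x * a * x⁻¹ = a⁻¹ * (a * (x * a * x⁻¹)) := by group
              _ = a⁻¹ := by
                have : a * (x * a * x⁻¹) = 1 := h
                rw [this, mul_one]
          rw [this, hainv]
        apply huniq a ha
        · apply orderOf_eq_prime _ h1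
          rw [pow_two]; exact ha2
        · unfold Commute SemiconjBy
          calc a * x = (x * a * x⁻¹) * x := by rw [hxa]
            _ = x * a := by group
    -- multiplicativity
    have hφmul : ∀ a ∈ N, ∀ b ∈ N, φ (a * b) = φ a * φ b := by
      intro a ha b hb
      have hc := hcomm b hb (x * a * x⁻¹) (hNn.conj_mem a ha x)
      show a * b * (x * (a * b) * x⁻¹) = a * (x * a * x⁻¹) * (b * (x * b * x⁻¹))
      calc a * b * (x * (a * b) * x⁻¹) = a * (b * (x * a * x⁻¹)) * (x * b * x⁻¹) := by group
        _ = a * ((x * a * x⁻¹) * b) * (x * b * x⁻¹) := by rw [hc]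
        _ = a * (x * a * x⁻¹) * (b * (x * b * x⁻¹)) := by group
    -- now the counting
    rw [← SetLike.coe_sort_coe, Nat.card_coe_set_eq]
    by_cases hall : ∀ a ∈ N, φ a = 1
    · have hsub : (N : Set G) ⊆ {1, y} := by
        intro a ha
        rcases hker a ha (hall a ha) with h | h
        · left; exact h
        · right; exact h
      calc Set.ncard (N : Set G) ≤ Set.ncard ({1, y} : Set G) := Set.ncard_le_ncard hsub (Set.toFinite _)
        _ ≤ 2 := Set.ncard_insert_le _ _ |>.trans (by simp)
        _ ≤ 4 := by norm_num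
    · push Not at hall
      obtain ⟨a₀, ha₀, h0⟩ := hall
      have hφa₀ : φ a₀ = y := by
        rcases hφ1y a₀ ha₀ with h | h
        · exact absurd h h0
        · exact h
      have ha₀inv : a₀⁻¹ = a₀ := inv_eq_of_mul_eq_one_right (hexp a₀ ha₀)
      have hsub : (N : Set G) ⊆ {1, y, a₀, y * a₀} := by
        intro a ha
        rcases hφ1y a ha with h | h
        · rcases hker a ha h with h' | h'
          · left; exact h'
          · right; left; exact h'
        · have hm : φ (a * a₀) = 1 := by
            rw [hφmul a ha a₀ ha₀, h, hφa₀, hy2]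
          rcases hker (a * a₀) (N.mul_mem ha ha₀) hm with h' | h'
          · right; right; left
            calc a = (a * a₀) * a₀⁻¹ := by group
              _ = a₀ := by rw [h', one_mul, ha₀inv]
          · right; right; right
            show a = y * a₀
            calc a = (a * a₀) * a₀⁻¹ := by group
              _ = y * a₀ := by rw [h', ha₀inv]
      calc Set.ncard (N : Set G) ≤ Set.ncard ({1, y, a₀, y * a₀} : Set G) := Set.ncard_le_ncard hsub (Set.toFinite _)
        _ ≤ 4 := by
          refine (Set.ncard_insert_le _ _).trans ?_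
          refine Nat.succ_le_succ ((Set.ncard_insert_le _ _).trans ?_)
          refine Nat.succ_le_succ ((Set.ncard_insert_le _ _).trans ?_)
          simp

end Cfsg.Agent.S3276
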