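import Cfsg.Statements.S4479
import Mathlib
import Cfsg.Agent.Lib.H22.KleinOrder

set_option autoImplicit false
open Cfsg

namespace Cfsg.Agent.S4479

open Cfsg.Agent.Lib.H22.KleinGroup Cfsg.Agent.Lib.H22.KleinOrder Cfsg.Agent.Lib.H23
  Cfsg.Agent.Lib.H24
open scoped ComplexConjugate

/-- An order formula from the principal 2-block. Let G be a finite group of order 4·g₀ with g₀ odd having no normal 2-complement (no normal subgroup of order g₀); let P be a Sylow 2-subgroup, J an involution of P, and fix a maximal ideal M of the algebraic integers containing 2. Suppose the principal 2-block consists of the principal character and three further distinct characters χ₁, χ₂, χ₃ of degrees x₁, x₂, x₃, with χ_i(J) = ε_i = ±1. Then, writing c(J) and c(P) for the orders of the centralizers of J and of P, the order of G equals 8·α·c(J)³/c(P)² with α = x₁x₂x₃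 / ((x₁ + ε₁)(x₂ + ε₂)(x₃ + ε₃)). -/
theorem result {G : Type*} [Group G] [Finite G] (M : Ideal Cfsg.AlgInt) (hM : Cfsg.IsPModular 2 M) (g₀ : ℕ) (hg₀ : Odd g₀) (hG : Nat.card G = 4 * g₀) (hnc : ¬ ∃ N : Subgroup G, N.Normal ∧ Nat.card N = g₀) (P : Sylow 2 G) (J : G) (hJ : J ∈ (P : Subgroup G)) (hJ2 : orderOf J = 2) (χ₁ χ₂ χ₃ : Cfsg.IrrCharacter G) (ε₁ ε₂ ε₃ : ℤ) (hB : Cfsg.principalBlock M G = {χ : Cfsg.IrrCharacter G | (χ : G → ℂ) = (fun _ => 1) ∨ χ = χ₁ ∨ χ = χ₂ ∨ χ = χ₃}) (hdist : (χ₁ : G → ℂ) ≠ (fun _ => 1) ∧ (χ₂ : G → ℂ) ≠ (fun _ => 1) ∧ (χ₃ : G → ℂ) ≠ (fun _ => 1) ∧ χ₁ ≠ χ₂ ∧ χ₁ ≠ χ₃ ∧ χ₂ ≠ χ₃) (hε : (ε₁ = 1 ∨ ε₁ = -1) ∧ (ε₂ = 1 ∨ ε₂ = -1) ∧ (ε₃ = 1 ∨ ε₃ = -1)) (hval : (χ₁ : G → ℂ) J = ε₁ ∧ (χ₂ : G → ℂ) J = ε₂ ∧ (χ₃ : G → ℂ) J = ε₃) : (Nat.card G : ℚ) = 8 * (((Cfsg.charDegree (χ₁ : G → ℂ) : ℚ) * Cfsg.charDegree (χ₂ : G → ℂ) * Cfsg.charDegree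 (χ₃ : G → ℂ)) / ((Cfsg.charDegree (χ₁ : G → ℂ) + ε₁) * (Cfsg.charDegree (χ₂ : G → ℂ) + ε₂) * (Cfsg.charDegree (χ₃ : G → ℂ) + ε₃))) * (Nat.card (Subgroup.centralizer ({J} : Set G)) : ℚ) ^ 3 / (Nat.card (Subgroup.centralizer ((P : Subgroup G) : Set G)) : ℚ) ^ 2 := by
  classical
  haveI := Fintype.ofFinite G
  haveI : Fintype (IrrCharacter G) := Fintype.ofFinite _
  haveI : Fintype ↥(Subgroup.centralizer ({J} : Set G)) := Fintype.ofFinite _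
  obtain ⟨K, hdata, hKcard⟩ := exists_kdata hg₀ hG hnc P hJ hJ2
  haveI := hdata.normal
  have hcount := hdata.pairCount_eq
  have hmaster := master hM hJ2 K hdata.odd hKcard
  rw [sum_block_four hB hdist] at hmaster
  obtain ⟨hv1, hv2, hv3⟩ := hval
  have hx1 := Cfsg.Agent.Lib.H23.apply_one_eq_charDegree (χ₁ : G → ℂ) χ₁.2
  have hx2 := Cfsg.Agent.Lib.H23.apply_one_eq_charDegree (χ₂ : G → ℂ) χ₂.2
  have hx3 := Cfsg.Agent.Lib.H23.apply_one_eq_charDegree (χ₃ : G → ℂ) χ₃.2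
  have hx1' : Cfsg.charDegree (χ₁ : G → ℂ) ≠ 0 := by
    intro h
    apply irr_one_ne_zero χ₁
    rw [hx1, h, Nat.cast_zero]
  have hx2' : Cfsg.charDegree (χ₂ : G → ℂ) ≠ 0 := by
    intro h
    apply irr_one_ne_zero χ₂
    rw [hx2, h, Nat.cast_zero]
  have hx3' : Cfsg.charDegree (χ₃ : G → ℂ) ≠ 0 := by
    intro h
    apply irr_one_ne_zero χ₃
    rw [hx3, h, Nat.cast_zero]
  simp only [trivialIrr_apply, hv1, hv2, hv3, hx1, hx2, hx3] at hmaster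
  have horth := weak_block_orthogonality hM (trivialIrr G) (1 : G) J (by simp)
    (by rw [hJ2])
  change ∑ χ : IrrCharacter G, (if χ ∈ principalBlock M G then
    (χ : G → ℂ) 1 * conj ((χ : G → ℂ) J) else 0) = 0 at horth
  rw [sum_block_four hB hdist] at horth
  simp only [trivialIrr_apply, hv1, hv2, hv3, hx1, hx2, hx3, map_intCast, map_one] at horth
  obtain ⟨W, hW⟩ : ∃ W : ℕ, W = KData.pairCount J K := ⟨_, rfl⟩
  rw [← hW] at hcount hmaster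
  have hmasterQ : (W : ℚ) = (Nat.card G : ℚ) * (Nat.card K : ℚ) *
      (1 + (ε₁ : ℚ) ^ 3 / (Cfsg.charDegree (χ₁ : G → ℂ) : ℚ) +
        (ε₂ : ℚ) ^ 3 / (Cfsg.charDegree (χ₂ : G → ℂ) : ℚ) +
        (ε₃ : ℚ) ^ 3 / (Cfsg.charDegree (χ₃ : G → ℂ) : ℚ)) := by
    have h1 : ((1 : ℂ) ^ 3 / 1) = 1 := by norm_num
    rw [h1] at hmaster
    exact_mod_cast hmaster
  have horthQ : (1 : ℚ) + (Cfsg.charDegree (χ₁ : G → ℂ) : ℚ) * ε₁ +
      (Cfsg.charDegree (χ₂ : G → ℂ) : ℚ) * ε₂ + (Cfsg.charDegree (χ₃ : G → ℂ) : ℚ) * ε₃ = 0 := by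
    have h1 : ((1 : ℂ) * 1) = 1 := by norm_num
    rw [h1] at horth
    exact_mod_cast horth
  have hcJ : Nat.card ↥(Subgroup.centralizer ({J} : Set G)) ≠ 0 := Nat.card_pos.ne'
  have hcP : Nat.card ↥(Subgroup.centralizer (((P : Subgroup G)) : Set G)) ≠ 0 := Nat.card_pos.ne'
  obtain ⟨key, hD⟩ := arith (Nat.card G) _ _ (Nat.card K) W _ _ _ ε₁ ε₂ ε₃ hε.1 hε.2.1 hε.2.2
    hx1' hx2' hx3' hcJ hcP hKcard hcount hmasterQ horthQ
  have hcP' : (Nat.card ↥(Subgroup.centralizer (((P : Subgroup G)) : Set G)) : ℚ) ≠ 0 :=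
    Nat.cast_ne_zero.2 hcP
  obtain ⟨D, hDdef⟩ : ∃ D : ℚ, D = ((Cfsg.charDegree (χ₁ : G → ℂ) : ℚ) + ε₁) *
      ((Cfsg.charDegree (χ₂ : G → ℂ) : ℚ) + ε₂) * ((Cfsg.charDegree (χ₃ : G → ℂ) : ℚ) + ε₃) :=
    ⟨_, rfl⟩
  rw [← hDdef] at key hD ⊢
  field_simp
  linear_combination key

end Cfsg.Agent.S4479
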