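import Cfsg.Statements.S3278
import Mathlib
import Cfsg.Agent.Lib.H21.C4E
import Cfsg.Agent.Lib.H21.C4F
import Cfsg.Agent.Lib.H21.C4G
import Cfsg.Agent.Lib.H21.C4H
import Cfsg.Agent.Lib.L0.PRegCongP
import Cfsg.Agent.Lib.H23.DegreeDvd
import Cfsg.Agent.S0948
import Cfsg.Agent.S4479
import Cfsg.Agent.S3277

set_option autoImplicit false
open Cfsg

namespace Cfsg.Agent.S3278

open Cfsg.Agent.Lib.H21.C4
open Cfsg.Agent.Lib.H6.CIT (mem_centralizer_singleton)

/-- a simple group of order four does not exist (given an involution). -/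
theorem card_ne_four {G : Type*} [Group G] [Finite G] [IsSimpleGroup G] (V : Subgroup G)
    (hcard : Nat.card V = 4) (hexp : ∀ c ∈ V, c ^ 2 = 1) {x : G} (hx : orderOf x = 2) :
    Nat.card G ≠ 4 := by
  intro h4
  have hV : V = ⊤ := by
    apply Subgroup.eq_top_of_card_eq
    rw [hcard, h4]
  have hcomm : ∀ a b : G, a * b = b * a := fun a b =>
    comm_of_exp hexp (hV ▸ Subgroup.mem_top a) (hV ▸ Subgroup.mem_top b)
  have hn : (Subgroup.zpowers x).Normal := by
    constructor
    intro n hn g
    have : g * n * g⁻¹ = n := by rw [hcomm g n]; group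
    rw [this]; exact hn
  rcases hn.eq_bot_or_eq_top with e | e
  · have := Subgroup.mem_zpowers x
    rw [e, Subgroup.mem_bot] at this
    rw [this, orderOf_one] at hx
    omega
  · have h1 : Nat.card (Subgroup.zpowers x) = 2 := by rw [Nat.card_zpowers, hx]
    rw [e, Subgroup.card_top, h4] at h1
    omega

theorem result {G : Type*} [Group G] [Finite G] [IsSimpleGroup G] (x : G) (hx : orderOf x = 2)
    (S₀ : Subgroup G) (hle : S₀ ≤ Subgroup.centralizer ({x} : Set G)) (hK : IsKleinFour ↥S₀)
    (hodd : ¬ 2 ∣ S₀.relIndex (Subgroup.centralizer ({x} : Set G))) (hn : (S₀.subgroupOf (Subgroup.centralizer ({x} : Set G))).Normal) :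
    Nonempty (G ≃* ↥(alternatingGroup (Fin 5))) := by
  classical
  have : Fact (Nat.Prime 2) := ⟨Nat.prime_two⟩
  have hcard : Nat.card S₀ = 4 := hK.card_four
  have hexp : ∀ c ∈ S₀, c ^ 2 = 1 := by
    intro c hc
    have := Monoid.pow_exponent_eq_one (⟨c, hc⟩ : S₀)
    rw [hK.exponent_two] at this
    have := congrArg Subtype.val this
    simpa using this
  have hoddI : Odd (S₀.relIndex (Subgroup.centralizer ({x} : Set G))) :=
    Nat.not_even_iff_odd.mp (fun h => hodd (even_iff_two_dvd.mp h))
  have hxC : x ∈ Subgroup.centralizer ({x} : Set G) := mem_centralizer_singleton.mpr rfl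
  have hxx : x * x = 1 := by rw [← pow_two, ← hx, pow_orderOf_eq_one]
  have hxV : x ∈ S₀ := mem_of_pow_four hoddI hn hxC (pow_four_of_sq hxx)
  have h2mem : ∀ c : G, x * c = c * x → c ^ 4 = 1 → c ∈ S₀ := fun c hc h4 =>
    mem_of_pow_four hoddI hn (mem_centralizer_singleton.mpr hc) h4
  have hG4 : Nat.card G ≠ 4 := card_ne_four S₀ hcard hexp hx
  -- Part A: `S₀` is a Sylow 2-subgroup of `G`
  have h8 : ¬ 8 ∣ Nat.card G := by
    intro h8
    have hd : 2 ∣ Nat.card (Subgroup.normalizer ((S₀ : Subgroup G) : Set G) ⧸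
        S₀.subgroupOf (Subgroup.normalizer ((S₀ : Subgroup G) : Set G))) :=
      Sylow.prime_dvd_card_quotient_normalizer (p := 2) (n := 2) (by norm_num; exact h8)
        (H := S₀) (by rw [hcard]; norm_num)
    obtain ⟨q, hq⟩ := exists_prime_orderOf_dvd_card' 2 hd
    obtain ⟨n, rfl⟩ := QuotientGroup.mk_surjective q
    have hnot : (n : G) ∉ S₀ := by
      intro hmem
      have h1 : (QuotientGroup.mk n : Subgroup.normalizer ((S₀ : Subgroup G) : Set G) ⧸
          S₀.subgroupOf (Subgroup.normalizer ((S₀ : Subgroup G) : Set G))) = 1 := by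
        rw [QuotientGroup.eq_one_iff]
        exact Subgroup.mem_subgroupOf.mpr hmem
      rw [h1, orderOf_one] at hq
      omega
    have hsq : (n : G) * (n : G) ∈ S₀ := by
      have h1 := pow_orderOf_eq_one (QuotientGroup.mk n :
        Subgroup.normalizer ((S₀ : Subgroup G) : Set G) ⧸
          S₀.subgroupOf (Subgroup.normalizer ((S₀ : Subgroup G) : Set G)))
      rw [hq, ← QuotientGroup.mk_pow, QuotientGroup.eq_one_iff, Subgroup.mem_subgroupOf] at h1
      rw [← pow_two]
      simpa using h1
    have hB : HypB' S₀ x (n : G) :=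
      { ord := hx, card := hcard, exp := hexp, x_mem := hxV, two_mem := h2mem, s_not := hnot,
        s_norm := n.2, s_sq := hsq }
    exact hB.false_of_simple
  -- Part B: Sylow
  have h4 : 4 ∣ Nat.card G := hcard ▸ Subgroup.card_subgroup_dvd_card S₀
  have hG0 : Nat.card G ≠ 0 := Nat.card_pos.ne'
  have hf : (Nat.card G).factorization 2 = 2 := by
    have h1 : 2 ≤ (Nat.card G).factorization 2 :=
      (Nat.prime_two.pow_dvd_iff_le_factorization hG0).mp (by norm_num; exact h4)
    have h2 : ¬ 3 ≤ (Nat.card G).factorization 2 := fun h => h8 (by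
      have := (Nat.prime_two.pow_dvd_iff_le_factorization hG0).mpr h
      norm_num at this
      exact this)
    omega
  let T : Sylow 2 G := Sylow.ofCard S₀ (by rw [hcard, hf]; norm_num)
  have hT : (T : Subgroup G) = S₀ := Sylow.coe_ofCard _ _
  have hcardT : Nat.card (T : Subgroup G) = 4 := by rw [hT, hcard]
  have hexpT : ∀ c ∈ (T : Subgroup G), c ^ 2 = 1 := by rw [hT]; exact hexp
  have hxT : x ∈ (T : Subgroup G) := by rw [hT]; exact hxV
  have hKT : IsKleinFour (T : Subgroup G) := hK
  -- no normal 2-complement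
  have hnc : ¬ Cfsg.HasNormalPComplement 2 G := by
    rintro ⟨P, N, hN, hc⟩
    have hPc : Nat.card (P : Subgroup G) = 4 := by
      rw [P.card_eq_multiplicity, hf]; norm_num
    rcases hN.eq_bot_or_eq_top with e | e
    · rw [e] at hc
      have hP : (P : Subgroup G) = ⊤ := Subgroup.isComplement'_bot_left.mp hc
      rw [hP, Subgroup.card_top] at hPc
      exact hG4 hPc
    · rw [e] at hc
      have hP : (P : Subgroup G) = ⊥ := Subgroup.isComplement'_top_left.mp hc
      rw [hP, Subgroup.card_bot] at hPc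
      omega
  -- one class of involutions
  have hone : ∀ s t : G, orderOf s = 2 → orderOf t = 2 → IsConj s t := by
    intro s t hs ht
    obtain ⟨g, hg⟩ := klein_sylow_conj T hcardT hexpT hnc s t hs ht
    exact isConj_iff.mpr ⟨g, hg⟩
  -- `C(x) = C(T)`
  have hCV : Subgroup.centralizer ((T : Subgroup G) : Set G) =
      Subgroup.centralizer ({x} : Set G) := by
    apply le_antisymm
    · intro h hh
      rw [mem_centralizer_singleton]
      exact (Subgroup.mem_centralizer_iff.mp hh) x hxT
    · intro h hh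
      rw [Subgroup.mem_centralizer_iff]
      intro a ha
      rw [SetLike.mem_coe, hT] at ha
      exact (centralizer_comm hle hoddI hn hcard hexp hx hxV hh ha).symm
  -- the order of `G`
  obtain ⟨g₀, hg₀⟩ := h4
  have hg₀odd : Odd g₀ := by
    rw [← Nat.not_even_iff_odd]
    rintro ⟨r, hr⟩
    apply h8
    rw [hg₀, hr]
    exact ⟨r, by ring⟩
  have hnc' : ¬ ∃ N : Subgroup G, N.Normal ∧ Nat.card N = g₀ := by
    rintro ⟨N, hN, hNc⟩
    rcases hN.eq_bot_or_eq_top with e | e
    · rw [e, Subgroup.card_bot] at hNc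
      apply hG4
      rw [hg₀, ← hNc]
    · rw [e, Subgroup.card_top, hg₀] at hNc
      omega
  -- character theory
  obtain ⟨M, hM⟩ := Cfsg.Agent.Lib.L0.PRegP.exists_isPModular Nat.prime_two
  obtain ⟨ζ₂, ζ₃, ζ₄, ε, hε, h2ne, h3ne, h23, h24, h34, hB, hval, hd2, hd3, hd4, -⟩ :=
    Cfsg.Agent.S0948.result M hM T hKT hone
  obtain ⟨hv2, hv3, hv4⟩ := hval x hx
  have h4ne : (ζ₄ : G → ℂ) ≠ (fun _ => 1) := by
    intro e
    rw [e] at hv4
    norm_num at hv4
  have hform := Cfsg.Agent.S4479.result M hM g₀ hg₀odd hg₀ hnc' T x hxT hx ζ₂ ζ₃ ζ₄ 1 ε (-1) hB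
    ⟨h2ne, h3ne, h4ne, h23, h24, h34⟩ ⟨Or.inl rfl, hε, Or.inr rfl⟩
    ⟨by rw [hv2]; norm_num, hv3, by rw [hv4]; norm_num⟩
  rw [hCV] at hform
  have hcpos : 0 < Nat.card (Subgroup.centralizer ({x} : Set G)) := Nat.card_pos
  have hlt : Nat.card G < 18 * Nat.card (Subgroup.centralizer ({x} : Set G)) :=
    brauer_bound _ _ _ 1 ε (-1) rfl rfl hε
      (Cfsg.Agent.Lib.H23.charDegree_pos _ ζ₂.2) (Cfsg.Agent.Lib.H23.charDegree_pos _ ζ₃.2)
      (Cfsg.Agent.Lib.H23.charDegree_pos _ ζ₄.2) hd3 hd4 _ _ hcpos hform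
  -- the normalizer of `T`
  have hCN : Subgroup.centralizer ((T : Subgroup G) : Set G) ≤
      Subgroup.normalizer ((T : Subgroup G) : Set G) := Subgroup.centralizer_le_normalizer _
  obtain ⟨j, hj⟩ := Subgroup.card_dvd_of_le hCN
  rw [hCV] at hj
  have h4c : 4 ∣ Nat.card (Subgroup.centralizer ({x} : Set G)) := by
    rw [← hcard]; exact Subgroup.card_dvd_of_le hle
  have hNG : Nat.card (Subgroup.normalizer ((T : Subgroup G) : Set G)) ∣ Nat.card G :=
    Subgroup.card_subgroup_dvd_card _
  have hj1 : j ≠ 1 := by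
    intro e
    rw [e, mul_one] at hj
    have heq : Subgroup.centralizer ((T : Subgroup G) : Set G) =
        Subgroup.normalizer ((T : Subgroup G) : Set G) :=
      Subgroup.eq_of_le_of_card_ge hCN (by rw [hCV, hj])
    have hNC : Subgroup.normalizer ((T : Subgroup G) : Set G) ≤
        Subgroup.centralizer ((T : Subgroup G) : Set G) := heq.ge
    exact hnc ⟨T, (MonoidHom.transferSylow T hNC).ker, inferInstance,
      MonoidHom.ker_transferSylow_isComplement' T hNC⟩
  have hj0 : j ≠ 0 := by
    intro e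
    rw [e, mul_zero] at hj
    have : 0 < Nat.card (Subgroup.normalizer ((T : Subgroup G) : Set G)) := Nat.card_pos
    omega
  have hj2 : j ≠ 2 := by
    intro e
    apply h8
    obtain ⟨r, hr⟩ := h4c
    obtain ⟨u, hu⟩ := hNG
    rw [hu, hj, hr, e]
    exact ⟨r * u, by ring⟩
  have hj3 : 3 ≤ j := by omega
  -- the number of Sylow 2-subgroups
  have hnidx : Nat.card (Sylow 2 G) * Nat.card (Subgroup.normalizer ((T : Subgroup G) : Set G)) =
      Nat.card G := by
    rw [T.card_eq_index_normalizer, mul_comm]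
    exact Subgroup.card_mul_index _
  have hn5 : Nat.card (Sylow 2 G) ≤ 5 := by
    by_contra hcon
    push Not at hcon
    have h1 : 6 * (3 * Nat.card (Subgroup.centralizer ({x} : Set G))) ≤
        Nat.card (Sylow 2 G) * Nat.card (Subgroup.normalizer ((T : Subgroup G) : Set G)) := by
      apply Nat.mul_le_mul hcon
      rw [hj, mul_comm]
      exact Nat.mul_le_mul_left _ hj3
    rw [hnidx] at h1
    omega
  have hnodd : Nat.card (Sylow 2 G) % 2 = 1 := card_sylow_modEq_one 2 G
  have hn1 : Nat.card (Sylow 2 G) ≠ 1 := by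
    intro e
    haveI : Subsingleton (Sylow 2 G) := (Nat.card_eq_one_iff_unique.mp e).1
    have hTn : (T : Subgroup G).Normal := T.normal_of_subsingleton
    rcases hTn.eq_bot_or_eq_top with e1 | e1
    · rw [e1, Subgroup.card_bot] at hcardT
      omega
    · rw [e1, Subgroup.card_top] at hcardT
      exact hG4 hcardT
  -- `G` embeds in the symmetric group on the Sylow 2-subgroups
  have hinj : Function.Injective (MulAction.toPermHom G (Sylow 2 G)) := by
    rw [← MonoidHom.ker_eq_bot_iff]
    rcases (MonoidHom.normal_ker (MulAction.toPermHom G (Sylow 2 G))).eq_bot_or_eq_top with e | e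
    · exact e
    · exfalso
      have hTn : (T : Subgroup G).Normal := by
        rw [← Subgroup.normalizer_eq_top_iff, eq_top_iff]
        intro g _
        apply Sylow.smul_eq_iff_mem_normalizer.mp
        have hg : g ∈ (MulAction.toPermHom G (Sylow 2 G)).ker := by rw [e]; trivial
        rw [MonoidHom.mem_ker] at hg
        have := congrArg (fun σ : Equiv.Perm (Sylow 2 G) => σ T) hg
        simpa using this
      rcases hTn.eq_bot_or_eq_top with e1 | e1
      · rw [e1, Subgroup.card_bot] at hcardT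
        omega
      · rw [e1, Subgroup.card_top] at hcardT
        exact hG4 hcardT
  have hdvd : Nat.card G ∣ (Nat.card (Sylow 2 G)).factorial := by
    rw [← Nat.card_perm]
    exact Subgroup.card_dvd_of_injective _ hinj
  -- conclusion: `|C(x)| = 4`
  have hc4 : Nat.card (Subgroup.centralizer ({x} : Set G)) = 4 := by
    obtain ⟨r, hr⟩ := h4c
    have hn35 : Nat.card (Sylow 2 G) = 3 ∨ Nat.card (Sylow 2 G) = 5 := by
      have : 0 < Nat.card (Sylow 2 G) := Nat.card_pos
      omega
    rcases hn35 with e | e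
    · rw [e] at hdvd
      have h6 : (3 : ℕ).factorial = 6 := by decide
      rw [h6, hg₀] at hdvd
      have := Nat.le_of_dvd (by norm_num) hdvd
      obtain ⟨u, hu⟩ := hdvd
      omega
    · rw [e] at hdvd hnidx
      have h120 : (5 : ℕ).factorial = 120 := by decide
      rw [h120] at hdvd
      rw [hj, hr] at hnidx
      -- `|G| = 5 * (4 r * j)` divides 120, `|G| = 4 g₀` with `g₀` odd, `j ≥ 3`
      have hle120 := Nat.le_of_dvd (by norm_num) hdvd
      have hrj : r * j ≤ 6 := by nlinarith
      have hr1 : 1 ≤ r := by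
        rcases Nat.eq_zero_or_pos r with e0 | e0
        · rw [e0] at hr; omega
        · exact e0
      have hr' : r = 1 ∨ r = 2 := by
        rcases Nat.lt_or_ge r 3 with h | h
        · omega
        · exfalso; nlinarith
      rcases hr' with e1 | e1
      · rw [hr, e1]
      · exfalso
        rw [e1] at hnidx hrj
        have hj' : j = 3 := by omega
        rw [hj'] at hnidx
        -- `|G| = 120`, divisible by 8
        apply h8
        rw [← hnidx]
        exact ⟨15, by norm_num⟩
  have hCeq : S₀ = Subgroup.centralizer ({x} : Set G) :=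
    Subgroup.eq_of_le_of_card_ge hle (by rw [hc4, hcard])
  have hCe : ∀ c ∈ Subgroup.centralizer ({x} : Set G), c ^ 2 = 1 := by
    rw [← hCeq]; exact hexp
  have hG12 : 12 ≤ Nat.card G := by
    rw [← hnidx, hj, hc4]
    have : 1 ≤ Nat.card (Sylow 2 G) := Nat.card_pos
    nlinarith
  have hne : ∀ E : Subgroup G, E.Normal → Cfsg.IsElementaryAbelian 2 E →
      Nat.card ↥E ≠ 2 ∧ Nat.card ↥E ≠ 4 := by
    intro E hE _
    rcases hE.eq_bot_or_eq_top with e | e
    · rw [e, Subgroup.card_bot]; omega
    · rw [e, Subgroup.card_top]; omega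
  exact Cfsg.Agent.S3277.result x hx hc4 hCe hnc hne

end Cfsg.Agent.S3278
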