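import Cfsg.Statements.S3279
import Cfsg.Agent.Lib.H1.ZStar
import Cfsg.Agent.Lib.H6.Dihedral
import Cfsg.Agent.Lib.H22.PPrimeCore
import Cfsg.Agent.S0208
import Cfsg.Agent.S0209
-- import your own Cfsg.Agent.* helpers here

set_option autoImplicit false
open Cfsg

namespace Cfsg.Agent.S3279

open Subgroup

variable {G : Type*} [Group G]

theorem inv_sq {x : G} (hx : orderOf x = 2) : x * x = 1 := by
  rw [← sq, ← hx]; exact pow_orderOf_eq_one x

theorem inv_ne_one {x : G} (hx : orderOf x = 2) : x ≠ 1 := by
  intro h; rw [h, orderOf_one] at hx; omega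

theorem orderOf_two_of {y : G} (h2 : y * y = 1) (h1 : y ≠ 1) : orderOf y = 2 := by
  have hp2 : Fact (Nat.Prime 2) := ⟨Nat.prime_two⟩
  exact orderOf_eq_prime (by rw [sq]; exact h2) h1

theorem orderOf_conj_two {x : G} (hx : orderOf x = 2) (g : G) : orderOf (g * x * g⁻¹) = 2 := by
  apply orderOf_two_of
  · calc g * x * g⁻¹ * (g * x * g⁻¹) = g * (x * x) * g⁻¹ := by group
      _ = 1 := by rw [inv_sq hx]; group
  · intro h
    apply inv_ne_one hx
    calc x = g⁻¹ * (g * x * g⁻¹) * g := by group
      _ = 1 := by rw [h]; group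

/-- product of two distinct commuting involutions is an involution -/
theorem orderOf_mul_two {x u : G} (hx : orderOf x = 2) (hu : orderOf u = 2) (hc : Commute u x)
    (hne : u ≠ x) : orderOf (x * u) = 2 := by
  apply orderOf_two_of
  · calc x * u * (x * u) = x * (u * x) * u := by group
      _ = x * (x * u) * u := by rw [hc.eq]
      _ = (x * x) * (u * u) := by group
      _ = 1 := by rw [inv_sq hx, inv_sq hu, one_mul]
  · intro h
    apply hne
    have : u = x⁻¹ := eq_inv_of_mul_eq_one_right h
    rw [this]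
    exact inv_eq_of_mul_eq_one_left (inv_sq hx)

/-- the centralizer of `x` has few involutions -/
def Few (x : G) : Prop :=
  ∀ u v : G, orderOf u = 2 → orderOf v = 2 → Commute u x → Commute v x → u ≠ x → v ≠ x →
    v = u ∨ v = x * u

theorem few_of_card [Finite G] {x : G} (hx : orderOf x = 2)
    (h3 : Nat.card {u : ↥(Subgroup.centralizer ({x} : Set G)) // orderOf u = 2} ≤ 3) : Few x := by
  classical
  intro u v hu hv hcu hcv hux hvx
  by_contra hcon
  push Not at hcon
  obtain ⟨hvu, hvxu⟩ := hcon
  have hxu2 : orderOf (x * u) = 2 := orderOf_mul_two hx hu hcu hux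
  have memC : ∀ y : G, Commute y x → y ∈ Subgroup.centralizer ({x} : Set G) := by
    intro y hy
    rw [Subgroup.mem_centralizer_singleton_iff]
    exact hy.eq
  have hcxu : Commute (x * u) x := by
    show x * u * x = x * (x * u)
    rw [mul_assoc, hcu.eq]
  have hxu_x : x * u ≠ x := by
    intro h
    apply inv_ne_one hu
    calc u = x⁻¹ * (x * u) := by group
      _ = 1 := by rw [h]; group
  have hxu_u : x * u ≠ u := by
    intro h
    apply inv_ne_one hx
    calc x = (x * u) * u⁻¹ := by group
      _ = 1 := by rw [h]; group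
  let T : Finset G := insert x (insert u (insert (x * u) {v}))
  have hT : T.card = 4 := by
    rw [Finset.card_insert_of_notMem, Finset.card_insert_of_notMem,
      Finset.card_insert_of_notMem, Finset.card_singleton]
    · rw [Finset.mem_singleton]; exact Ne.symm hvxu
    · rw [Finset.mem_insert, Finset.mem_singleton]
      rintro (h | h)
      · exact hxu_u h.symm
      · exact hvu h.symm
    · rw [Finset.mem_insert, Finset.mem_insert, Finset.mem_singleton]
      rintro (h | h | h)
      · exact hux h.symm
      · exact hxu_x h.symm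
      · exact hvx h.symm
  have hprop : ∀ y ∈ T, orderOf y = 2 ∧ Commute y x := by
    intro y hy
    rw [Finset.mem_insert, Finset.mem_insert, Finset.mem_insert, Finset.mem_singleton] at hy
    rcases hy with h | h | h | h
    · rw [h]; exact ⟨hx, Commute.refl x⟩
    · rw [h]; exact ⟨hu, hcu⟩
    · rw [h]; exact ⟨hxu2, hcxu⟩
    · rw [h]; exact ⟨hv, hcv⟩
  let f : T → {w : ↥(Subgroup.centralizer ({x} : Set G)) // orderOf w = 2} :=
    fun y => ⟨⟨y.1, memC y.1 (hprop y.1 y.2).2⟩, by
      rw [Subgroup.orderOf_mk]; exact (hprop y.1 y.2).1⟩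
  have hinj : Function.Injective f := by
    intro a b hab
    apply Subtype.ext
    have := congrArg (fun w : {w : ↥(Subgroup.centralizer ({x} : Set G)) // orderOf w = 2} =>
      ((w : ↥(Subgroup.centralizer ({x} : Set G))) : G)) hab
    exact this
  have := Nat.card_le_card_of_injective f hinj
  rw [Nat.card_eq_finsetCard, hT] at this
  omega

theorem few_conj {x : G} (h : Few x) (g : G) : Few (g * x * g⁻¹) := by
  intro u v hu hv hcu hcv hux hvx
  have key : ∀ y : G, Commute y (g * x * g⁻¹) → Commute (g⁻¹ * y * g) x := by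
    intro y hy
    show g⁻¹ * y * g * x = x * (g⁻¹ * y * g)
    have := hy.eq
    calc g⁻¹ * y * g * x = g⁻¹ * (y * (g * x * g⁻¹)) * g := by group
      _ = g⁻¹ * ((g * x * g⁻¹) * y) * g := by rw [this]
      _ = x * (g⁻¹ * y * g) := by group
  have ho : ∀ y : G, orderOf y = 2 → orderOf (g⁻¹ * y * g) = 2 := by
    intro y hy
    have := orderOf_conj_two hy g⁻¹
    rwa [inv_inv] at this
  have hne : ∀ y : G, y ≠ g * x * g⁻¹ → g⁻¹ * y * g ≠ x := by
    intro y hy h'
    apply hy
    calc y = g * (g⁻¹ * y * g) * g⁻¹ := by group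
      _ = g * x * g⁻¹ := by rw [h']
  rcases h (g⁻¹ * u * g) (g⁻¹ * v * g) (ho u hu) (ho v hv) (key u hcu) (key v hcv) (hne u hux)
    (hne v hvx) with h' | h'
  · left
    calc v = g * (g⁻¹ * v * g) * g⁻¹ := by group
      _ = g * (g⁻¹ * u * g) * g⁻¹ := by rw [h']
      _ = u := by group
  · right
    calc v = g * (g⁻¹ * v * g) * g⁻¹ := by group
      _ = g * (x * (g⁻¹ * u * g)) * g⁻¹ := by rw [h']
      _ = g * x * g⁻¹ * u := by group

variable [Finite G]

/-- `G` simple with an involution has trivial odd core -/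
theorem oddCore_eq_bot [IsSimpleGroup G] {x : G} (hx : orderOf x = 2) : Cfsg.oddCore G = ⊥ := by
  have hn : (Cfsg.pPrimeCore 2 G).Normal := Cfsg.Agent.Lib.H22.pPrimeCore_normal 2
  rcases hn.eq_bot_or_eq_top with h | h
  · exact h
  · exfalso
    have hc := Cfsg.Agent.Lib.H22.card_pPrimeCore_coprime (G := G) 2
    rw [h, Subgroup.card_top] at hc
    have h2 : 2 ∣ Nat.card G := hx ▸ orderOf_dvd_natCard x
    have := Nat.Coprime.eq_one_of_dvd hc.symm h2
    omega

theorem comm_of_central [IsSimpleGroup G] {x : G} (hx1 : x ≠ 1) (hc : x ∈ Subgroup.center G) :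
    ∀ g h : G, g * h = h * g := by
  have hn : (Subgroup.center G).Normal := inferInstance
  rcases hn.eq_bot_or_eq_top with h | h
  · rw [h, Subgroup.mem_bot] at hc; exact absurd hc hx1
  · intro g k
    have : g ∈ Subgroup.center G := h ▸ Subgroup.mem_top g
    exact (Subgroup.mem_center_iff.1 this k).symm

theorem eq_of_comm [IsSimpleGroup G] (hcomm : ∀ g h : G, g * h = h * g) {x z : G}
    (hx : orderOf x = 2) (hz : orderOf z = 2) : z = x := by
  have hn : (Subgroup.zpowers x).Normal :=
    ⟨fun n hn g => by rw [hcomm g n, mul_inv_cancel_right]; exact hn⟩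
  rcases hn.eq_bot_or_eq_top with h | h
  · rw [Subgroup.zpowers_eq_bot] at h; exact absurd h (inv_ne_one hx)
  · have hzm : z ∈ Subgroup.zpowers x := h ▸ Subgroup.mem_top z
    obtain ⟨k, hk⟩ := Subgroup.mem_zpowers_iff.1 hzm
    have h2 : x ^ (k % 2) = x ^ k := by
      have := zpow_mod_orderOf x k
      rwa [hx] at this
    rcases Int.emod_two_eq_zero_or_one k with h0 | h0
    · rw [h0, zpow_zero] at h2
      rw [← hk, ← h2] at hz
      rw [orderOf_one] at hz; omega
    · rw [h0, zpow_one] at h2
      rw [← hk, ← h2]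

/-- if involutions `x`, `v` are not conjugate, there is an involution `w ≠ x` commuting with both -/
theorem exists_mid {x v : G} (hx : orderOf x = 2) (hv : orderOf v = 2)
    (hnc : ¬ ∃ d, d * x * d⁻¹ = v) :
    ∃ w, orderOf w = 2 ∧ Commute w x ∧ Commute w v ∧ w ≠ x := by
  have heven : Even (orderOf (x * v)) := by
    by_contra h; rw [Nat.not_even_iff_odd] at h
    obtain ⟨d, -, hd⟩ := Cfsg.Agent.S0208.result x v hx hv h
    exact hnc ⟨d, hd⟩
  obtain ⟨h1, h2, h3⟩ := Cfsg.Agent.S0209.result x v hx hv heven
  refine ⟨_, h1, h2, h3, ?_⟩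
  intro hw
  rw [hw] at h3
  have hsq : (x * v) ^ 2 = 1 := by
    rw [sq]
    calc x * v * (x * v) = x * (v * x) * v := by group
      _ = x * (x * v) * v := by rw [h3.eq]
      _ = (x * x) * (v * v) := by group
      _ = 1 := by rw [inv_sq hx, inv_sq hv, one_mul]
  have hd : orderOf (x * v) ∣ 2 := orderOf_dvd_of_pow_eq_one hsq
  have ho : orderOf (x * v) = 2 := by
    rcases (Nat.dvd_prime Nat.prime_two).1 hd with h | h
    · rw [h] at heven; exact absurd heven (by decide)
    · exact h
  rw [ho] at hw
  norm_num at hw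
  exact inv_ne_one hv hw

theorem all_conj [IsSimpleGroup G] {x : G} (hx : orderOf x = 2) (hfew : Few x) {z : G}
    (hz : orderOf z = 2) (hcz : Commute z x) : ∃ g, g * x * g⁻¹ = z := by
  by_contra hnc
  have hzx : z ≠ x := fun h => hnc ⟨1, by simp [h]⟩
  have ha : orderOf (x * z) = 2 := orderOf_mul_two hx hz hcz hzx
  have hca : Commute (x * z) x := by
    show x * z * x = x * (x * z)
    rw [mul_assoc, hcz.eq]
  have hax : x * z ≠ x := by
    intro h
    apply inv_ne_one hz
    calc z = x⁻¹ * (x * z) := by group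
      _ = 1 := by rw [h]; group
  have hI : ∀ u, orderOf u = 2 → Commute u x → u = x ∨ u = z ∨ u = x * z := by
    intro u hu hcu
    by_cases hux : u = x
    · left; exact hux
    · right; exact hfew z u hz hu hcz hcu hzx hux
  have hcomm : ∀ g h : G, g * h = h * g := by
    by_cases hac : ∃ g, g * x * g⁻¹ = x * z
    · obtain ⟨g, hg⟩ := hac
      have hfa : Few (x * z) := hg ▸ few_conj hfew g
      have hIa : ∀ u, orderOf u = 2 → Commute u (x * z) → u = x ∨ u = z ∨ u = x * z := by
        intro u hu hcu
        by_cases hua : u = x * z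
        · right; right; exact hua
        · rcases hfa x u hx hu hca.symm hcu (Ne.symm hax) hua with h | h
          · left; exact h
          · right; left
            rw [h]
            calc x * z * x = x * (z * x) := by group
              _ = x * (x * z) := by rw [hcz.eq]
              _ = (x * x) * z := by group
              _ = z := by rw [inv_sq hx, one_mul]
      have hall : ∀ k : G, Commute (k * z * k⁻¹) z := by
        intro k
        have hv : orderOf (k * z * k⁻¹) = 2 := orderOf_conj_two hz k
        have hnc' : ¬ ∃ d, d * x * d⁻¹ = k * z * k⁻¹ := by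
          rintro ⟨d, hd⟩
          apply hnc
          refine ⟨k⁻¹ * d, ?_⟩
          calc k⁻¹ * d * x * (k⁻¹ * d)⁻¹ = k⁻¹ * (d * x * d⁻¹) * k := by group
            _ = k⁻¹ * (k * z * k⁻¹) * k := by rw [hd]
            _ = z := by group
        obtain ⟨w, hw, hwx, hwv, hwne⟩ := exists_mid hx hv hnc'
        rcases hI w hw hwx with h | h | h
        · exact absurd h hwne
        · rw [h] at hwv; exact hwv.symm
        · rw [h] at hwv
          rcases hIa _ hv hwv.symm with h' | h' | h'
          · exact absurd ⟨1, by simp [h']⟩ hnc'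
          · rw [h']
          · exact absurd ⟨g, by rw [hg, h']⟩ hnc'
      have hzc : z ∈ Subgroup.center G := by
        have hle : Subgroup.normalClosure ({z} : Set G) ≤ Subgroup.centralizer ({z} : Set G) := by
          rw [Subgroup.normalClosure, Subgroup.closure_le]
          intro y hy
          rw [Group.mem_conjugatesOfSet_iff] at hy
          obtain ⟨a', ha', hconj⟩ := hy
          rw [Set.mem_singleton_iff] at ha'
          subst ha'
          obtain ⟨k, hk⟩ := isConj_iff.1 hconj
          rw [← hk]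
          exact Subgroup.mem_centralizer_singleton_iff.2 (hall k).eq
        have htop : Subgroup.normalClosure ({z} : Set G) = ⊤ := by
          rcases (Subgroup.normalClosure_normal (s := ({z} : Set G))).eq_bot_or_eq_top with h | h
          · have : z ∈ Subgroup.normalClosure ({z} : Set G) :=
              Subgroup.subset_normalClosure (Set.mem_singleton z)
            rw [h, Subgroup.mem_bot] at this
            exact absurd this (inv_ne_one hz)
          · exact h
        rw [Subgroup.mem_center_iff]
        intro k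
        have : k ∈ Subgroup.centralizer ({z} : Set G) := hle (htop ▸ Subgroup.mem_top k)
        exact Subgroup.mem_centralizer_singleton_iff.1 this
      exact comm_of_central (inv_ne_one hz) hzc
    · have hiso : Cfsg.IsIsolatedInvolution x := ⟨hx, fun g hc => by
        rcases hI (g * x * g⁻¹) (orderOf_conj_two hx g) hc.symm with h | h | h
        · exact h
        · exact absurd ⟨g, h⟩ hnc
        · exact absurd ⟨g, h⟩ hac⟩
      have hxinv : x⁻¹ = x := inv_eq_of_mul_eq_one_left (inv_sq hx)
      have hIso : Cfsg.Agent.Lib.H1.ZStar.Iso x := ⟨hx, fun g => by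
        have := Cfsg.Agent.Lib.H6.isolated_odd_orderOf hiso g
        have e : x * g * x⁻¹ * g⁻¹ = x * (g * x * g⁻¹) := by rw [hxinv]; group
        rw [e]; exact this⟩
      have hzs := Cfsg.Agent.Lib.H1.ZStar.zstar x hIso
      have hxc : x ∈ Subgroup.center G := by
        rw [Subgroup.mem_center_iff]
        intro g
        have := hzs g
        rw [oddCore_eq_bot hx, Subgroup.mem_bot] at this
        calc g * x = (x * g * x⁻¹ * g⁻¹)⁻¹ * (x * g) := by group
          _ = x * g := by rw [this]; group
      exact comm_of_central (inv_ne_one hx) hxc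
  exact hzx (eq_of_comm hcomm hx hz)


/-- Let G be a finite simple group and x an involution of G whose centralizer contains at most three involutions. Then C_G(x) contains a Sylow 2-subgroup of G, and all involutions of G are conjugate. -/
theorem result {G : Type*} [Group G] [Finite G] [IsSimpleGroup G] (x : G) (hx : orderOf x = 2)
    (h3 : Nat.card {u : ↥(Subgroup.centralizer ({x} : Set G)) // orderOf u = 2} ≤ 3) :
    (∃ S : Sylow 2 G, (S : Subgroup G) ≤ Subgroup.centralizer ({x} : Set G)) ∧
      ∀ u v : G, orderOf u = 2 → orderOf v = 2 → IsConj u v := by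
  have hp2 : Fact (Nat.Prime 2) := ⟨Nat.prime_two⟩
  have hfew : Few x := few_of_card hx h3
  have hall : ∀ z : G, orderOf z = 2 → Commute z x → ∃ g, g * x * g⁻¹ = z :=
    fun z hz hcz => all_conj hx hfew hz hcz
  have h1 : ∃ S : Sylow 2 G, (S : Subgroup G) ≤ Subgroup.centralizer ({x} : Set G) := by
    have hpg : IsPGroup 2 (Subgroup.zpowers x) := by
      apply IsPGroup.of_card (n := 1)
      rw [Nat.card_zpowers, hx, pow_one]
    obtain ⟨P, hP⟩ := hpg.exists_le_sylow
    have hxP : x ∈ (P : Subgroup G) := hP (Subgroup.mem_zpowers x)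
    obtain ⟨c, hcP, hc2, hc1, hcc⟩ :=
      Cfsg.Agent.Lib.H1.ZStar.exists_central_involution P ⟨x, hxP, inv_ne_one hx⟩
    have hco : orderOf c = 2 := orderOf_two_of hc2 hc1
    obtain ⟨g, hg⟩ := hall c hco (hcc x hxP).symm
    refine ⟨g⁻¹ • P, ?_⟩
    intro s hs
    rw [Sylow.coe_subgroup_smul, Subgroup.mem_pointwise_smul_iff_inv_smul_mem] at hs
    simp only [MulAut.smul_def, map_inv, inv_inv, MulAut.conj_apply] at hs
    -- hs : g * s * g⁻¹ ∈ P
    rw [Subgroup.mem_centralizer_singleton_iff]
    have h' := hcc _ hs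
    rw [← hg] at h'
    calc s * x = g⁻¹ * ((g * s * g⁻¹) * (g * x * g⁻¹)) * g := by group
      _ = g⁻¹ * ((g * x * g⁻¹) * (g * s * g⁻¹)) * g := by rw [h']
      _ = x * s := by group
  refine ⟨h1, ?_⟩
  obtain ⟨S, hS⟩ := h1
  have hconjx : ∀ u : G, orderOf u = 2 → ∃ g, g * x * g⁻¹ = u := by
    intro u hu
    have hpg : IsPGroup 2 (Subgroup.zpowers u) := by
      apply IsPGroup.of_card (n := 1)
      rw [Nat.card_zpowers, hu, pow_one]
    obtain ⟨Q, hQ⟩ := hpg.exists_le_sylow
    obtain ⟨h, hh⟩ := MulAction.exists_smul_eq G Q S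
    have huQ : u ∈ (Q : Subgroup G) := hQ (Subgroup.mem_zpowers u)
    have : h * u * h⁻¹ ∈ (S : Subgroup G) := by
      rw [← hh, Sylow.coe_subgroup_smul]
      exact ⟨u, huQ, rfl⟩
    have hc : Commute (h * u * h⁻¹) x := by
      have := hS this
      rw [Subgroup.mem_centralizer_singleton_iff] at this
      exact this
    obtain ⟨g, hg⟩ := hall _ (orderOf_conj_two hu h) hc
    refine ⟨h⁻¹ * g, ?_⟩
    calc h⁻¹ * g * x * (h⁻¹ * g)⁻¹ = h⁻¹ * (g * x * g⁻¹) * h := by group
      _ = h⁻¹ * (h * u * h⁻¹) * h := by rw [hg]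
      _ = u := by group
  intro u v hu hv
  obtain ⟨g, hg⟩ := hconjx u hu
  obtain ⟨k, hk⟩ := hconjx v hv
  rw [isConj_iff]
  refine ⟨k * g⁻¹, ?_⟩
  rw [← hg, ← hk]
  group


end Cfsg.Agent.S3279
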