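import Cfsg.Statements.S3294
import Mathlib
import Cfsg.Agent.Lib.H16.NormalComplementAut
import Cfsg.Agent.Lib.H16.QuaternionAut

set_option autoImplicit false
open Cfsg

namespace Cfsg.Agent.S3294

open Cfsg.Agent.Lib.H16

/-- In a generalized quaternion group, an element outside `⟨a 1⟩` is some `xa i`. -/
theorem exists_xa_of_not_mem {m : ℕ} [NeZero m] (q : QuaternionGroup m)
    (hq : q ∉ Subgroup.zpowers (QuaternionGroup.a 1 : QuaternionGroup m)) :
    ∃ i, q = QuaternionGroup.xa i := by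
  cases q with
  | a i =>
    exfalso
    apply hq
    rw [Subgroup.mem_zpowers_iff]
    refine ⟨(i.val : ℤ), ?_⟩
    rw [zpow_natCast, QuaternionGroup.a_one_pow, ZMod.natCast_zmod_val]
  | xa i => exact ⟨i, rfl⟩

theorem xa_conj_a_one {m : ℕ} (i : ZMod (2 * m)) :
    (QuaternionGroup.xa i : QuaternionGroup m) * QuaternionGroup.a 1 * (QuaternionGroup.xa i)⁻¹
      = (QuaternionGroup.a 1)⁻¹ := by
  rw [mul_inv_eq_iff_eq_mul]
  have h1 : (QuaternionGroup.a 1 : QuaternionGroup m)⁻¹ = QuaternionGroup.a (-1) := rfl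
  rw [h1, QuaternionGroup.xa_mul_a, QuaternionGroup.a_mul_xa]
  congr 1
  ring

/-- A finite solvable group whose Sylow 2-subgroups are generalized quaternion of order at least 32 has a normal 2-complement. -/
theorem result {G : Type*} [Group G] [Finite G] (hsol : Group.IsSolvable G) (T : Sylow 2 G) (n : ℕ) (hn : 3 ≤ n) (hT : Nonempty ((T : Subgroup G) ≃* QuaternionGroup (2 ^ n))) : Cfsg.HasNormalPComplement 2 G := by
  obtain ⟨e⟩ := hT
  haveI : Fact (Nat.Prime 2) := ⟨Nat.prime_two⟩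
  haveI : NeZero (2 ^ n) := ⟨by positivity⟩
  apply hasNormalPComplement_of_aut 2 hsol T
  intro Q hQn
  have h8 : 8 ≤ 2 ^ n := by
    calc 8 = 2 ^ 3 := by norm_num
      _ ≤ 2 ^ n := Nat.pow_le_pow_right (by norm_num) hn
  set x₀ : (T : Subgroup G) := e.symm (QuaternionGroup.a 1) with hx₀
  have hord : orderOf x₀ = 2 * 2 ^ n := by
    rw [hx₀, MulEquiv.orderOf_eq, QuaternionGroup.orderOf_a_one]
  have hcard : Nat.card (T : Subgroup G) = 2 * orderOf x₀ := by
    rw [hord, Nat.card_congr e.toEquiv, Nat.card_eq_fintype_card, QuaternionGroup.card]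
    ring
  refine isPGroup_mulAut_of_normal_of_quaternionLike T.2 x₀ hcard (by rw [hord]; omega) ?_ Q
  intro y hy
  have hey : e y ∉ Subgroup.zpowers (QuaternionGroup.a 1 : QuaternionGroup (2 ^ n)) := by
    intro h
    apply hy
    obtain ⟨k, hk⟩ := Subgroup.mem_zpowers_iff.mp h
    rw [Subgroup.mem_zpowers_iff]
    refine ⟨k, ?_⟩
    apply e.injective
    rw [map_zpow, hx₀, MulEquiv.apply_symm_apply, hk]
  obtain ⟨i, hi⟩ := exists_xa_of_not_mem (e y) hey
  constructor
  · rw [← MulEquiv.orderOf_eq e, hi, QuaternionGroup.orderOf_xa]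
  · apply e.injective
    rw [map_mul, map_mul, map_inv, map_inv, hx₀, MulEquiv.apply_symm_apply, hi]
    exact xa_conj_a_one i

end Cfsg.Agent.S3294
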