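import Cfsg.Statements.S3305
import Mathlib
import Cfsg.Agent.Lib.H16.ConjSub
import Cfsg.Agent.Lib.H16.SylowMore

set_option autoImplicit false
open Cfsg

namespace Cfsg.Agent.S3305

open Cfsg.Agent.Lib.H16

/-- If any two distinct Sylow 2-subgroups of the finite group G intersect in a cyclic group, then the same holds in every quotient group G/H, H a normal subgroup of G. -/
theorem result {G : Type*} [Group G] [Finite G]
    (hC : ∀ S T : Sylow 2 G, S ≠ T → IsCyclic ↥((S : Subgroup G) ⊓ (T : Subgroup G))) (H : Subgroup G) [H.Normal] :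
    ∀ S T : Sylow 2 (G ⧸ H), S ≠ T → IsCyclic ↥((S : Subgroup (G ⧸ H)) ⊓ (T : Subgroup (G ⧸ H))) := by
  intro Sb Tb hne
  have hsurj : Function.Surjective (QuotientGroup.mk' H) := QuotientGroup.mk'_surjective H
  obtain ⟨S, rfl⟩ := Sylow.mapSurjective_surjective hsurj 2 Sb
  obtain ⟨T, rfl⟩ := Sylow.mapSurjective_surjective hsurj 2 Tb
  rw [Sylow.coe_mapSurjective, Sylow.coe_mapSurjective]
  set π := QuotientGroup.mk' H with hπ
  set Db : Subgroup (G ⧸ H) := (S : Subgroup G).map π ⊓ (T : Subgroup G).map π with hDb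
  set D₁ : Subgroup G := (S : Subgroup G) ⊓ Db.comap π with hD₁
  set N : Subgroup G := ((T : Subgroup G).map π).comap π with hN
  have hTN : (T : Subgroup G) ≤ N := Subgroup.le_comap_map _ _
  have hD1N : D₁ ≤ N := by
    intro x hx
    have h1 : π x ∈ Db := (Subgroup.mem_inf.mp hx).2
    exact (Subgroup.mem_inf.mp h1).2
  have hD1p : IsPGroup 2 D₁ := S.2.to_le inf_le_left
  obtain ⟨n, hnN, hn⟩ := exists_mem_conj_mem_sylow_of_le N T hTN D₁ hD1p hD1N
  have hD1T' : D₁ ≤ ((n⁻¹ • T : Sylow 2 G) : Subgroup G) := by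
    intro x hx
    rw [mem_sylow_smul_iff]
    simpa using hn x hx
  by_cases hST : S = n⁻¹ • T
  · exfalso
    apply hne
    have hle : (S : Subgroup G).map π ≤ (T : Subgroup G).map π := by
      rintro z ⟨x, hx, rfl⟩
      rw [SetLike.mem_coe, hST, mem_sylow_smul_iff] at hx
      have hx' : n * x * n⁻¹ ∈ (T : Subgroup G) := by simpa using hx
      have h1 : π (n * x * n⁻¹) ∈ (T : Subgroup G).map π := Subgroup.mem_map_of_mem π hx'
      have h2 : π n ∈ (T : Subgroup G).map π := hnN
      have e : π x = (π n)⁻¹ * π (n * x * n⁻¹) * π n := by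
        simp only [map_mul, map_inv]; group
      change π x ∈ _
      rw [e]
      exact Subgroup.mul_mem _ (Subgroup.mul_mem _ (Subgroup.inv_mem _ h2) h1) h2
    have h3 := (S.mapSurjective hsurj).3 (T.mapSurjective hsurj).2
      (by rw [Sylow.coe_mapSurjective, Sylow.coe_mapSurjective]; exact hle)
    exact Sylow.ext h3.symm
  · have hcyc := hC S (n⁻¹ • T) hST
    obtain ⟨y, hy⟩ := (Subgroup.isCyclic_iff_exists_zpowers_eq_top _).mp hcyc
    have hle : Db ≤ Subgroup.zpowers (π y) := by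
      intro z hz
      obtain ⟨s, hs, rfl⟩ := (Subgroup.mem_inf.mp hz).1
      have hsD1 : s ∈ D₁ := Subgroup.mem_inf.mpr ⟨hs, hz⟩
      have h1 : s ∈ Subgroup.zpowers y := by
        rw [hy]; exact Subgroup.mem_inf.mpr ⟨hs, hD1T' hsD1⟩
      obtain ⟨k, rfl⟩ := Subgroup.mem_zpowers_iff.mp h1
      rw [map_zpow]
      exact Subgroup.zpow_mem_zpowers _ _
    exact isCyclic_of_injective (Subgroup.inclusion hle) (Subgroup.inclusion_injective hle)

end Cfsg.Agent.S3305
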