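import Cfsg.Statements.S3303
import Mathlib
import Cfsg.Agent.S3305
import Cfsg.Agent.Lib.H16.SolvableCore
import Cfsg.Agent.Lib.H16.AutIndexTwo
import Cfsg.Agent.Lib.H9.PPrimeCore

set_option autoImplicit false
open Cfsg

namespace Cfsg.Agent.S3303

open Cfsg.Agent.Lib.H16

/-- In a finite solvable group with trivial odd core in which distinct Sylow 2-subgroups meet in
cyclic groups, the Sylow 2-subgroup is normal. -/
theorem core {X : Type*} [Group X] [Finite X] (hs : Group.IsSolvable X)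
    (hO : pPrimeCore 2 X = ⊥)
    (hC : ∀ S T : Sylow 2 X, S ≠ T → IsCyclic ↥((S : Subgroup X) ⊓ (T : Subgroup X))) :
    ∃ P : Sylow 2 X, (P : Subgroup X).Normal := by
  have hHH := centralizer_pCore_le_of_isSolvable (G := X) 2 hs hO
  obtain ⟨P⟩ : Nonempty (Sylow 2 X) := Sylow.nonempty
  by_cases hall : ∀ g : X, g • P = P
  · refine ⟨P, ?_⟩
    rw [← Subgroup.normalizer_eq_top_iff, eq_top_iff]
    intro g _
    exact Sylow.smul_eq_iff_mem_normalizer.mp (hall g)
  · push Not at hall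
    obtain ⟨g, hg⟩ := hall
    have hcyc := hC (g • P) P hg
    have hQle : pCore 2 X ≤ ((g • P : Sylow 2 X) : Subgroup X) ⊓ (P : Subgroup X) :=
      le_inf (Cfsg.Agent.Lib.H1.pCore_le_sylow _) (Cfsg.Agent.Lib.H1.pCore_le_sylow _)
    haveI hQcyc : IsCyclic (pCore 2 X) :=
      isCyclic_of_injective (Subgroup.inclusion hQle) (Subgroup.inclusion_injective hQle)
    have hQ2 : IsPGroup 2 (pCore 2 X) := Cfsg.Agent.Lib.H1.pCore_isPGroup 2 X
    have hAut : IsPGroup 2 (MulAut (pCore 2 X)) := isPGroup_mulAut_of_isCyclic hQ2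
    have hX2 : IsPGroup 2 X := by
      intro x
      obtain ⟨a, ha⟩ := hAut (MulAut.conjNormal x)
      have hxc : x ^ (2 ^ a) ∈ Subgroup.centralizer (pCore 2 X : Set X) := by
        rw [Subgroup.mem_centralizer_iff]
        intro q hq
        have h1 : MulAut.conjNormal (x ^ (2 ^ a)) (⟨q, hq⟩ : pCore 2 X) = ⟨q, hq⟩ := by
          rw [map_pow, ha]; rfl
        have h2 := congrArg Subtype.val h1
        rw [MulAut.conjNormal_apply] at h2
        -- x^k * q * (x^k)⁻¹ = q
        have h3 : x ^ (2 ^ a) * q = q * x ^ (2 ^ a) := by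
          calc x ^ (2 ^ a) * q = (x ^ (2 ^ a) * q * (x ^ (2 ^ a))⁻¹) * x ^ (2 ^ a) := by group
            _ = q * x ^ (2 ^ a) := by rw [h2]
        exact h3.symm
      have hxQ := hHH hxc
      obtain ⟨b, hb⟩ := hQ2 ⟨x ^ (2 ^ a), hxQ⟩
      refine ⟨a + b, ?_⟩
      rw [pow_add, pow_mul]
      have := congrArg Subtype.val hb
      simpa using this
    have htop : (⊤ : Subgroup X) = (P : Subgroup X) :=
      P.3 (hX2.to_subgroup ⊤) le_top
    refine ⟨P, ?_⟩
    rw [← htop]
    infer_instance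

/-- Let G be a finite solvable group in which the intersection of any two distinct Sylow 2-subgroups is cyclic. Then G/O(G) has a normal Sylow 2-subgroup, where O(G) is the largest normal subgroup of odd order. -/
theorem result {G : Type*} [Group G] [Finite G] (hs : Group.IsSolvable G)
    (hC : ∀ S T : Sylow 2 G, S ≠ T → IsCyclic ↥((S : Subgroup G) ⊓ (T : Subgroup G))) :
    ∃ P : Sylow 2 (G ⧸ Cfsg.oddCore G), (P : Subgroup (G ⧸ Cfsg.oddCore G)).Normal := by
  have hCb := Cfsg.Agent.S3305.result hC (Cfsg.oddCore G)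
  have hsb : Group.IsSolvable (G ⧸ Cfsg.oddCore G) := inferInstance
  have hOb : pPrimeCore 2 (G ⧸ Cfsg.oddCore G) = ⊥ :=
    Cfsg.Agent.Lib.H9.pPrimeCore_quotient_eq_bot 2
  exact core hsb hOb hCb

end Cfsg.Agent.S3303
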