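import Mathlib
import Cfsg.Statements.S3341
import Cfsg.Agent.Lib.H21.A6.AsmD
import Cfsg.Agent.Lib.H2.Ord360c
import Cfsg.Agent.Lib.H9.A6G3
import Cfsg.Agent.Lib.H9.A6G2

set_option autoImplicit false
open Cfsg

namespace Cfsg.Agent.S3341

open Cfsg.Agent.Lib.H21.A6 Cfsg.Agent.Lib.L0 Cfsg.Agent.Lib.L0.FrobTI Cfsg.Agent.Lib.H8
  Cfsg.Agent.Lib.H4.Feit

/-- Let G be a finite simple group whose Sylow 3-subgroup S is elementary abelian of order 9, such that G has more than one conjugacy class of elements of order 3 and C_G(s) = S for every non-identity s in S. Then G is isomorphic to the alternating group of degree 6. -/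
theorem result {G : Type*} [Group G] [Finite G] [IsSimpleGroup G]
    (P : Sylow 3 G) (S : Subgroup G) (hSP : S = P) (hcomm : IsMulCommutative S) (hexp : ∀ a ∈ S, a ^ 3 = 1)
    (hcard : Nat.card S = 9)
    (hclasses : ∃ a b : G, orderOf a = 3 ∧ orderOf b = 3 ∧ ∀ g : G, g * a * g⁻¹ ≠ b)
    (hcent : ∀ s ∈ S, s ≠ 1 → Subgroup.centralizer ({s} : Set G) = S) :
    Nonempty (G ≃* alternatingGroup (Fin 6)) := by
  classical
  have hH : Hyp S := hyp_of P S hSP hcomm hexp hcard hcent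
  have hF := frobTI hH
  haveI : Fintype G := Fintype.ofFinite G
  haveI : Fintype (nz S) := Fintype.ofFinite _
  have hK := card_K_eq hF hH.comm
  rw [hH.card] at hK
  have hne1 : (S.subgroupOf (Subgroup.normalizer (S : Set G))).index ≠ 1 := by
    subst hSP
    exact index_ne_one P hH.comm hcard
  have hne8 : (S.subgroupOf (Subgroup.normalizer (S : Set G))).index ≠ 8 := by
    intro h8
    obtain ⟨a, b, ha, hb, hnc⟩ := hclasses
    have ha3 : a ^ 3 = 1 := by rw [← ha]; exact pow_orderOf_eq_one a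
    have hb3 : b ^ 3 = 1 := by rw [← hb]; exact pow_orderOf_eq_one b
    have ha1 : a ≠ 1 := by
      rintro rfl
      rw [orderOf_one] at ha
      omega
    have hb1 : b ≠ 1 := by
      rintro rfl
      rw [orderOf_one] at hb
      omega
    obtain ⟨c₁, hc₁⟩ := hH.syl a ha3
    obtain ⟨c₂, hc₂⟩ := hH.syl b hb3
    have h1 : c₁ * a * c₁⁻¹ ≠ 1 := fun h => ha1 (conj_eq_one_iff.1 h)
    have h2 : c₂ * b * c₂⁻¹ ≠ 1 := fun h => hb1 (conj_eq_one_iff.1 h)
    have hidx : (S.subgroupOf (nz S)).index + 1 = Nat.card S := by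
      rw [hH.card]
      have : (S.subgroupOf (nz S)).index = 8 := h8
      rw [this]
    have := all_conj hF hH.comm hidx _ _ hc₁ h1 hc₂ h2
    obtain ⟨g, hg⟩ := isConj_iff.1 this
    apply hnc (c₂⁻¹ * g * c₁)
    calc c₂⁻¹ * g * c₁ * a * (c₂⁻¹ * g * c₁)⁻¹ = c₂⁻¹ * (g * (c₁ * a * c₁⁻¹) * g⁻¹) * c₂ := by group
      _ = c₂⁻¹ * (c₂ * b * c₂⁻¹) * c₂ := by rw [hg]
      _ = b := by group
  have he : (S.subgroupOf (Subgroup.normalizer (S : Set G))).index = 2 ∨
      (S.subgroupOf (Subgroup.normalizer (S : Set G))).index = 4 := by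
    have h1 : Nat.card (RelT S) * (S.subgroupOf (Subgroup.normalizer (S : Set G))).index + 1 = 9 := hK
    have h2 : (S.subgroupOf (Subgroup.normalizer (S : Set G))).index ∣ 8 :=
      ⟨Nat.card (RelT S), by rw [mul_comm]; omega⟩
    have h3 : (S.subgroupOf (Subgroup.normalizer (S : Set G))).index ≤ 8 :=
      Nat.le_of_dvd (by norm_num) h2
    generalize (S.subgroupOf (Subgroup.normalizer (S : Set G))).index = e at *
    interval_cases e <;> omega
  rcases he with he | he
  · exfalso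
    obtain ⟨a, ha, b, hb, ha1, hb1, hno⟩ := Cfsg.Agent.Lib.H9.A6.e2 hH he
    exact no_e2 hH he a b ha hb ha1 hb1 hno
  · obtain ⟨x, hx, n, hn, hx1, hz1, hyx, hiff⟩ := Cfsg.Agent.Lib.H9.A6.e4 hH he
    exact Cfsg.Agent.Lib.H2.Ord360.main (card_e4 hH he x n hx hn hx1 hz1 hyx hiff)

end Cfsg.Agent.S3341
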