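import Cfsg.Statements.S3349
import Mathlib

set_option autoImplicit false
open Cfsg

namespace Cfsg.Agent.S3349

open scoped commutatorElement

variable {Q : Type*} [Group Q]

/-- A maximal abelian subgroup is self-centralizing. -/
theorem centralizer_le (A : Subgroup Q) (hA : IsMulCommutative A)
    (hmax : ∀ B : Subgroup Q, A ≤ B → IsMulCommutative B → B = A) :
    Subgroup.centralizer (A : Set Q) ≤ A := by
  intro x hx
  have hcomm : ∀ y ∈ ((A : Set Q) ∪ {x}), ∀ z ∈ ((A : Set Q) ∪ {x}), y * z = z * y := by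
    intro y hy z hz
    rcases hy with hy | hy <;> rcases hz with hz | hz
    · exact setLike_mul_comm hy hz
    · rw [Set.mem_singleton_iff] at hz; subst hz
      exact (Subgroup.mem_centralizer_iff.1 hx y hy)
    · rw [Set.mem_singleton_iff] at hy; subst hy
      exact (Subgroup.mem_centralizer_iff.1 hx z hz).symm
    · rw [Set.mem_singleton_iff] at hy hz; subst hy; subst hz; rfl
  have hB := Subgroup.isMulCommutative_closure hcomm
  have hAB : A ≤ Subgroup.closure ((A : Set Q) ∪ {x}) := by
    intro a ha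
    exact Subgroup.subset_closure (Or.inl ha)
  have := hmax _ hAB hB
  rw [← this]
  exact Subgroup.subset_closure (Or.inr rfl)

theorem result {Q : Type*} [Group Q] [Finite Q]
    (p : ℕ) [Fact p.Prime] (hQ : Cfsg.IsExtraspecial p Q) (α : MulAut Q)
    (A : Subgroup Q) (hA : IsMulCommutative A) (hmax : ∀ B : Subgroup Q, A ≤ B → IsMulCommutative B → B = A)
    (hfix : ∀ a ∈ A, α a = a) :
    ∃ k : ℕ, orderOf α = p ^ k := by
  have hCA := centralizer_le A hA hmax
  have hcomm_eq : commutator Q = Subgroup.center Q := hQ.1.2.2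
  have hZA : Subgroup.center Q ≤ A := by
    intro z hz
    apply hCA
    rw [Subgroup.mem_centralizer_iff]
    intro a _
    exact (Subgroup.mem_center_iff.1 hz a)
  -- A is normal
  have hnorm : ∀ x : Q, ∀ a ∈ A, x * a * x⁻¹ ∈ A := by
    intro x a ha
    have h1 : ⁅x, a⁆ ∈ commutator Q := by
      rw [commutator_def]
      exact Subgroup.commutator_mem_commutator (Subgroup.mem_top x) (Subgroup.mem_top a)
    rw [hcomm_eq] at h1
    have h2 : ⁅x, a⁆ ∈ A := hZA h1
    have h3 : x * a * x⁻¹ = ⁅x, a⁆ * a := by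
      rw [commutatorElement_def]; group
    rw [h3]
    exact A.mul_mem h2 ha
  -- x⁻¹ * α x ∈ A
  have hc : ∀ x : Q, x⁻¹ * α x ∈ A := by
    intro x
    apply hCA
    rw [Subgroup.mem_centralizer_iff]
    intro a ha
    have h1 := hfix (x * a * x⁻¹) (hnorm x a ha)
    rw [map_mul, map_mul, map_inv, hfix a ha] at h1
    -- h1 : α x * a * (α x)⁻¹ = x * a * x⁻¹
    have h2 : α x * a = x * a * x⁻¹ * α x := by
      rw [← h1]; group
    calc a * (x⁻¹ * α x) = x⁻¹ * (x * a * x⁻¹ * α x) := by group
      _ = x⁻¹ * (α x * a) := by rw [h2]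
      _ = x⁻¹ * α x * a := by group
  -- iterate
  have hiter : ∀ (k : ℕ) (x : Q), (α ^ k) x = x * (x⁻¹ * α x) ^ k := by
    intro k
    induction k with
    | zero => intro x; simp
    | succ k ih =>
      intro x
      have hxc : x * (x⁻¹ * α x) = α x := by group
      rw [pow_succ', MulAut.mul_apply, ih x, map_mul, map_pow, hfix _ (hc x), pow_succ',
        ← mul_assoc, hxc]
  have hpow : α ^ Nat.card Q = 1 := by
    ext x
    rw [hiter, pow_card_eq_one', mul_one, MulAut.one_apply]
  obtain ⟨n, hn⟩ := IsPGroup.iff_card.1 hQ.1.1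
  have hdvd : orderOf α ∣ p ^ n := by
    rw [← hn]
    exact orderOf_dvd_of_pow_eq_one hpow
  obtain ⟨k, _, hk⟩ := (Nat.dvd_prime_pow (Fact.out)).1 hdvd
  exact ⟨k, hk⟩

end Cfsg.Agent.S3349
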