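import Cfsg.Statements.S3356
import Mathlib
import Cfsg.Agent.Lib.H17.HalfTransitive

set_option autoImplicit false
open Cfsg

namespace Cfsg.Agent.S3356

open MulAction Cfsg.Agent.Lib.H17.HalfTransitive

section
variable {G : Type*} [Group G]

/-- conjugation action of a subgroup `H` on a normal subgroup `N` -/
@[reducible] def conjMDMA (H N : Subgroup G) [N.Normal] : MulDistribMulAction ↥H ↥N :=
  MulDistribMulAction.compHom ↥N ((MulAut.conjNormal (H := N)).comp H.subtype)

theorem conjMDMA_coe (H N : Subgroup G) [N.Normal] (g : ↥H) (u : ↥N) :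
    (((conjMDMA H N).smul g u : ↥N) : G) = (g : G) * (u : G) * (g : G)⁻¹ := by
  change ((MulAut.conjNormal (H := N) (g : G) u : ↥N) : G) = _
  rw [MulAut.conjNormal_apply]

end

/-- Let G be a finite 3/2-transitive permutation group: G acts faithfully and transitively on a finite set, the point stabilizers are non-trivial, and for each point a all orbits of G_a on the remaining points have the same size. Suppose G has a regular normal subgroup N and G is not a Frobenius group (some two-point stabilizer is non-trivial). Then N is an elementary abelian p-group for some prime p, and every non-trivial normal subgroup of G contains N (so N is the unique minimal normal subgroup). -/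
theorem result {G Ω : Type*} [Group G] [Finite G]
    [MulAction G Ω] [FaithfulSMul G Ω] [Finite Ω] (htrans : MulAction.IsPretransitive G Ω)
    (hne : ∀ a : Ω, MulAction.stabilizer G a ≠ ⊥)
    (hhalf : ∀ a b c : Ω, b ≠ a → c ≠ a →
      Nat.card (MulAction.orbit (MulAction.stabilizer G a) b) = Nat.card (MulAction.orbit (MulAction.stabilizer G a) c))
    (N : Subgroup G) [hN : N.Normal] (hNt : MulAction.IsPretransitive N Ω) (hNr : ∀ a : Ω, MulAction.stabilizer N a = ⊥)
    (hnotF : ∃ a b : Ω, a ≠ b ∧ MulAction.stabilizer G a ⊓ MulAction.stabilizer G b ≠ ⊥) :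
    (∃ p : ℕ, p.Prime ∧ IsMulCommutative N ∧ ∀ x ∈ N, x ^ p = 1) ∧
    (∀ M : Subgroup G, M.Normal → M ≠ ⊥ → N ≤ M) := by
  obtain ⟨a, b₀, hab, hst⟩ := hnotF
  set H : Subgroup G := stabilizer G a with hH
  letI inst : MulDistribMulAction ↥H ↥N := conjMDMA H N
  have hsmul : ∀ (g : ↥H) (u : ↥N), ((g • u : ↥N) : G) = (g : G) * (u : G) * (g : G)⁻¹ :=
    fun g u => conjMDMA_coe H N g u
  -- freeness of N
  have hfree : ∀ (u v : ↥N) (c : Ω), u • c = v • c → u = v := by
    intro u v c huv
    have : v⁻¹ * u ∈ stabilizer ↥N c := by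
      rw [mem_stabilizer_iff, mul_smul, huv, inv_smul_smul]
    rw [hNr c, Subgroup.mem_bot] at this
    exact (inv_mul_eq_one.mp this).symm
  -- compatibility of the two actions
  have hcompat : ∀ (g : ↥H) (u : ↥N), g • (u • a) = (g • u) • a := by
    intro g u
    have hga : (g : G) • a = a := g.2
    change (g : G) • ((u : G) • a) = ((g • u : ↥N) : G) • a
    rw [hsmul, mul_smul, mul_smul, inv_smul_eq_iff.mpr hga.symm]
  -- stabilizers coincide
  have hstab : ∀ u : ↥N, stabilizer ↥H u = stabilizer ↥H (u • a) := by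
    intro u
    ext g
    rw [mem_stabilizer_iff, mem_stabilizer_iff, hcompat]
    constructor
    · intro h; rw [h]
    · intro h; exact hfree _ _ a h
  -- all stabilizers of points ≠ a have the same order
  have hcard : ∀ c : Ω, c ≠ a → Nat.card (stabilizer ↥H c) = Nat.card (stabilizer ↥H b₀) := by
    intro c hc
    have h1 := (stabilizer ↥H c).index_mul_card
    have h2 := (stabilizer ↥H b₀).index_mul_card
    rw [index_stabilizer, ← _root_.Nat.card_coe_set_eq] at h1 h2
    rw [hhalf a c b₀ hc hab.symm] at h1
    have hpos : 0 < Nat.card (orbit ↥H b₀) := by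
      haveI : Nonempty (orbit ↥H b₀) := ⟨⟨b₀, mem_orbit_self b₀⟩⟩
      exact Nat.card_pos
    exact Nat.eq_of_mul_eq_mul_left hpos (h1.trans h2.symm)
  have hua : ∀ u : ↥N, u ≠ 1 → u • a ≠ a := by
    intro u hu h1
    apply hu
    apply hfree u 1 a
    rw [h1, one_smul]
  have hHT : HT ↥H ↥N (Nat.card (stabilizer ↥H b₀)) := by
    refine ⟨?_, ?_, ?_⟩
    · intro u hu
      rw [hstab u, hcard _ (hua u hu)]
    · obtain ⟨g, hg, hg1⟩ : ∃ g ∈ stabilizer G a ⊓ stabilizer G b₀, g ≠ 1 := by
        rcases (stabilizer G a ⊓ stabilizer G b₀).bot_or_exists_ne_one with hb | hb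
        · exact absurd hb hst
        · exact hb
      have hgH : g ∈ H := hg.1
      haveI : Nontrivial (stabilizer ↥H b₀) := by
        refine ⟨⟨⟨⟨g, hgH⟩, ?_⟩, 1, ?_⟩⟩
        · rw [mem_stabilizer_iff]; exact hg.2
        · intro he
          apply hg1
          have := congrArg (fun x : stabilizer ↥H b₀ => ((x : ↥H) : G)) he
          exact this
      exact Finite.one_lt_card
    · intro g hg
      have : ∀ c : Ω, (g : G) • c = (1 : G) • c := by
        intro c
        obtain ⟨u, rfl⟩ := MulAction.exists_smul_eq ↥N a c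
        rw [one_smul]
        have := hcompat g u
        rw [hg u] at this
        exact this
      apply Subtype.ext
      exact FaithfulSMul.eq_of_smul_eq_smul this
  haveI : Nontrivial ↥N := by
    obtain ⟨u, hu⟩ := MulAction.exists_smul_eq ↥N a b₀
    refine ⟨⟨u, 1, ?_⟩⟩
    rintro rfl
    rw [one_smul] at hu
    exact hab hu
  have hcomm := hHT.comm
  constructor
  · obtain ⟨p, hp, hpow⟩ := hHT.exists_prime
    refine ⟨p, hp, ⟨⟨hcomm⟩⟩, ?_⟩
    intro x hx
    have := hpow ⟨x, hx⟩
    exact congrArg Subtype.val this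
  · intro M hMn hM1
    have hK : ∀ g : ↥H, ∀ k ∈ M.subgroupOf N, g • k ∈ M.subgroupOf N := by
      intro g k hk
      rw [Subgroup.mem_subgroupOf] at hk ⊢
      rw [hsmul]
      exact hMn.conj_mem _ hk _
    rcases hHT.irreducible (M.subgroupOf N) hK with hbot | htop
    · exfalso
      apply hM1
      rw [Subgroup.subgroupOf_eq_bot] at hbot
      rw [eq_bot_iff]
      intro g hg
      rw [Subgroup.mem_bot]
      -- g centralizes N
      have hgN : ∀ v ∈ N, g * v = v * g := fun v hv =>
        (Subgroup.commute_of_normal_of_disjoint M N hMn hN hbot g v hg hv).eq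
      obtain ⟨u, hu⟩ := MulAction.exists_smul_eq ↥N a (g • a)
      have hfix : ∀ c : Ω, ((u : G)⁻¹ * g) • c = (1 : G) • c := by
        intro c
        obtain ⟨v, rfl⟩ := MulAction.exists_smul_eq ↥N a c
        have hvu : (v : G) * (u : G)⁻¹ = (u : G)⁻¹ * (v : G) := by
          have := hcomm v u⁻¹
          exact congrArg Subtype.val this
        change ((u : G)⁻¹ * g) • ((v : G) • a) = (1 : G) • ((v : G) • a)
        rw [one_smul, ← mul_smul, mul_assoc, hgN v v.2, ← mul_assoc, ← hvu, mul_assoc, mul_smul,
          mul_smul]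
        have : (u : G) • a = g • a := hu
        rw [← this, inv_smul_smul]
      have h1 : (u : G)⁻¹ * g = 1 := FaithfulSMul.eq_of_smul_eq_smul hfix
      have hgu : g = u := by
        have := congrArg (fun x => (u : G) * x) h1
        simpa using this
      have : g ∈ M ⊓ N := ⟨hg, hgu ▸ u.2⟩
      rw [hbot.eq_bot] at this
      exact this
    · rwa [Subgroup.subgroupOf_eq_top] at htop

end Cfsg.Agent.S3356
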