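import Cfsg.Statements.S3358
import Cfsg.Agent.Lib.H4.FC.Basic
import Cfsg.Agent.Lib.H4.FC.G0
import Cfsg.Agent.Lib.H4.ZGroup.Present
import Cfsg.Agent.Lib.H4.ZGroup.Meta
import Cfsg.Agent.Lib.H4.ZGroup.Rad

set_option autoImplicit false
open Cfsg

namespace Cfsg.Agent.S3358

open Cfsg.Agent.Lib.H4 in
/-- Structure of solvable Frobenius complements. Let G be a finite solvable group that occurs as a Frobenius complement. Then G has a normal subgroup G₀ such that G/G₀ is isomorphic to a subgroup of Sym(4) (G₀ is the kernel of a homomorphism to Sym(4)), all Sylow subgroups of G₀ are cyclic, and G₀ has a presentation ⟨x, y | x^n = 1, y^m = 1, x⁻¹ y x = y^r⟩ with n, m ≥ 1, gcd(r − 1, m) = gcd(n, m) = 1 and r^(n/n′) ≡ 1 (mod m), where n′ is the product of the distinct primes dividing n. -/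
theorem result {G : Type*} [Group G] [Finite G] (hsol : Group.IsSolvable G)
    (hFC : ∃ (L : Type) (_ : Group L) (_ : Finite L) (H : Subgroup L), Cfsg.IsFrobeniusComplement H ∧ Nonempty (G ≃* H)) :
    ∃ G₀ : Subgroup G, G₀.Normal ∧
      (∃ f : G →* Equiv.Perm (Fin 4), f.ker = G₀) ∧
      (∀ (p : ℕ) [Fact p.Prime] (P : Sylow p G₀), IsCyclic P) ∧
      ∃ n m r : ℕ, 0 < n ∧ 0 < m ∧ Nat.Coprime (r - 1) m ∧ Nat.Coprime n m ∧ 1 ≤ r ∧
        r ^ (n / ∏ p ∈ n.primeFactors, p) % m = 1 % m ∧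
        Nonempty (G₀ ≃* PresentedGroup
          ({FreeGroup.of (0 : Fin 2) ^ n, FreeGroup.of (1 : Fin 2) ^ m,
            (FreeGroup.of (0 : Fin 2))⁻¹ * FreeGroup.of 1 * FreeGroup.of 0 * (FreeGroup.of (1 : Fin 2) ^ r)⁻¹} :
            Set (FreeGroup (Fin 2)))) := by
  obtain ⟨L, _, _, H, hH, ⟨e⟩⟩ := hFC
  have hab : NF.AbCyc G := FC.abCyc_of_iso hH e
  haveI := hsol
  obtain ⟨G₀, hn, hf, hsyl⟩ := FC.exists_G0 hab
  refine ⟨G₀, hn, hf, hsyl, ?_⟩
  haveI : IsZGroup G₀ := ⟨fun p hp P => by haveI : Fact p.Prime := ⟨hp⟩; exact hsyl p P⟩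
  obtain ⟨x, y, n, m, r, hn0, hm0, hxo, hyo, hcop, hr1, hxy, hgen, hcard, -, hr1m⟩ :=
    ZGroup.exists_metacyclic G₀
  refine ⟨n, m, r, hn0, hm0, hr1m, hcop, hr1, ?_, ?_⟩
  · apply ZGroup.pow_div_rad hxo hyo hcop hxy
    intro p q hp hq hpn hqm
    have hpq : p ≠ q := by
      rintro rfl
      have := Nat.dvd_gcd hpn hqm
      rw [hcop] at this
      exact hp.one_lt.ne' (Nat.dvd_one.mp this)
    have hao : orderOf (x ^ (n / p)) = p := by
      rw [orderOf_pow_of_dvd, hxo, Nat.div_div_self hpn hn0.ne']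
      · exact (Nat.div_pos (Nat.le_of_dvd hn0 hpn) hp.pos).ne'
      · rw [hxo]; exact Nat.div_dvd_of_dvd hpn
    have hbo : orderOf (y ^ (m / q)) = q := by
      rw [orderOf_pow_of_dvd, hyo, Nat.div_div_self hqm hm0.ne']
      · exact (Nat.div_pos (Nat.le_of_dvd hm0 hqm) hq.pos).ne'
      · rw [hyo]; exact Nat.div_dvd_of_dvd hqm
    have hnorm : (x ^ (n / p))⁻¹ * y ^ (m / q) * x ^ (n / p) ∈
        Subgroup.zpowers (y ^ (m / q)) := by
      rw [ZGroup.conj_pow_pow_eq hxy, pow_mul]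
      exact Subgroup.pow_mem _ (Subgroup.mem_zpowers _) _
    have hG : ((x ^ (n / p) : G₀) : G) * ((y ^ (m / q) : G₀) : G) =
        ((y ^ (m / q) : G₀) : G) * ((x ^ (n / p) : G₀) : G) := by
      apply FC.commute_of_pq_of_iso hH e hp hq hpq
      · rw [Subgroup.orderOf_coe, hao]
      · rw [Subgroup.orderOf_coe, hbo]
      · obtain ⟨k, hk⟩ := Subgroup.mem_zpowers_iff.mp hnorm
        rw [Subgroup.mem_zpowers_iff]
        refine ⟨k, ?_⟩
        have := congrArg Subtype.val hk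
        simpa using this
    exact Subtype.ext hG
  · have hxn : x ^ n = 1 := by rw [← hxo]; exact pow_orderOf_eq_one x
    have hym : y ^ m = 1 := by rw [← hyo]; exact pow_orderOf_eq_one y
    exact ZGroup.nonempty_mulEquiv hn0 hm0 hxn hym hxy hgen hcard

end Cfsg.Agent.S3358
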