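import Cfsg.Statements.S3361
import Cfsg.Agent.Lib.H4.Reg.FieldModel
import Cfsg.Agent.Lib.H4.Reg.Excep
import Cfsg.Agent.Lib.H4.Reg.Excep120
import Cfsg.Agent.Lib.H4.NF.Main
import Cfsg.Agent.Lib.H4.Idx2.Lin
import Cfsg.Agent.S0684

set_option autoImplicit false
open Cfsg

namespace Cfsg.Agent.S3361

open Cfsg.Agent.Lib.H4 Cfsg.Agent.Lib.H4.NF Cfsg.Agent.Lib.H4.Idx2 Cfsg.Agent.Lib.L0 in
/-- Let q be a prime and V a non-trivial finite vector space over the field with q elements, and let G be a finite solvable group acting faithfully and linearly on V and regularly on the non-zero vectors (transitively, with only the identity fixing a non-zero vector). Then either V can be identified with the additive group of a finite field F so that every element of G acts as x ↦ a·σ(x) (a ∈ F, σ a field automorphism), or V has 5^2, 7^2, 11^2 or 23^2 elements. Moreover, if q ≠ 2 then G has a normal subgroup of index 2, except that when V has 25 elements G may be isomorphic to SL(2,3) and when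 V has 121 elements G may be isomorphic to SL(2,3) × C₅. -/
theorem result
    (q : ℕ) [Fact q.Prime] {V : Type*} [AddCommGroup V] [Module (ZMod q) V] [Finite V] [Nontrivial V]
    {G : Type*} [Group G] [Finite G] (hsol : Group.IsSolvable G)
    (ρ : G →* (V ≃ₗ[ZMod q] V)) (hρ : Function.Injective ρ)
    (htrans : ∀ v w : V, v ≠ 0 → w ≠ 0 → ∃ g : G, ρ g v = w)
    (hreg : ∀ v : V, v ≠ 0 → ∀ g : G, ρ g v = v → g = 1) :
    ((∃ (F : Type) (_ : Field F) (_ : Fintype F) (e : V ≃+ F),
        ∀ g : G, ∃ (a : F) (σ : F ≃+* F), ∀ v : V, e (ρ g v) = a * σ (e v)) ∨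
      Nat.card V ∈ ({25, 49, 121, 529} : Set ℕ)) ∧
    (q ≠ 2 → (∃ N : Subgroup G, N.Normal ∧ N.index = 2) ∨
      (Nat.card V = 25 ∧ Nonempty (G ≃* Matrix.SpecialLinearGroup (Fin 2) (ZMod 3))) ∨
      (Nat.card V = 121 ∧ Nonempty (G ≃* Matrix.SpecialLinearGroup (Fin 2) (ZMod 3) × Multiplicative (ZMod 5)))) := by
  classical
  -- the image group
  set H : Subgroup (V ≃ₗ[ZMod q] V) := ρ.range with hH
  obtain ⟨ε, hε⟩ : ∃ ε : G ≃* H, ∀ g : G, ((ε g : H) : V ≃ₗ[ZMod q] V) = ρ g :=
    ⟨MonoidHom.ofInjective hρ, fun g => rfl⟩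
  have hregH : ∀ v w : V, v ≠ 0 → w ≠ 0 → ∃! h : H, (h : V ≃ₗ[ZMod q] V) v = w := by
    intro v w hv hw
    obtain ⟨g, hg⟩ := htrans v w hv hw
    refine ⟨ε g, by show ((ε g : H) : V ≃ₗ[ZMod q] V) v = w; rw [hε]; exact hg, ?_⟩
    intro h' hh'
    obtain ⟨g', rfl⟩ := ε.surjective h'
    rw [hε] at hh'
    congr 1
    have h1 : ρ (g⁻¹ * g') v = v := by
      rw [map_mul, LinearEquiv.mul_apply, hh', ← hg, ← LinearEquiv.mul_apply, ← map_mul,
        inv_mul_cancel, map_one]
      rfl
    have h2 := hreg v hv _ h1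
    calc g' = g * (g⁻¹ * g') := by group
      _ = g := by rw [h2, mul_one]
  haveI hsolH : Group.IsSolvable H :=
    Group.isSolvable_of_surjective (f := ε.toMonoidHom) ε.surjective
  obtain ⟨v₀, hv₀⟩ := exists_ne (0 : V)
  have hcardH := Cfsg.Agent.S0684.card_H H hregH v₀ hv₀
  haveI : Finite H := Finite.of_equiv G ε.toEquiv
  have hAb : AbCyc H := fun K hK => Cfsg.Agent.S0684.isCyclic_of_comm H hregH v₀ hv₀ K hK
  -- irreducibility in the failing case
  have hirrA : (¬ ∀ A : Subgroup H, A.Normal → IsCyclic A → ∃ W : Submodule (ZMod q) V,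
      W ≠ ⊥ ∧ W ≠ ⊤ ∧ ∀ a ∈ A, ∀ v ∈ W, ((a : H) : V ≃ₗ[ZMod q] V) v ∈ W) →
      ∃ A : Subgroup H, A.Normal ∧ IsCyclic A ∧ ∀ W : Submodule (ZMod q) V,
        (∀ a ∈ A, ∀ v ∈ W, ((a : H) : V ≃ₗ[ZMod q] V) v ∈ W) → W = ⊥ ∨ W = ⊤ := by
    intro hI
    push Not at hI
    obtain ⟨A, hAn, hAc, hA⟩ := hI
    refine ⟨A, hAn, hAc, ?_⟩
    intro W hW
    by_contra hcon
    push Not at hcon
    obtain ⟨a, ha, v, hv, hav⟩ := hA W hcon.1 hcon.2
    exact hav (hW a ha v hv)
  refine ⟨?_, ?_⟩
  · by_cases hI : ∀ A : Subgroup H, A.Normal → IsCyclic A → ∃ W : Submodule (ZMod q) V,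
        W ≠ ⊥ ∧ W ≠ ⊤ ∧ ∀ a ∈ A, ∀ v ∈ W, ((a : H) : V ≃ₗ[ZMod q] V) v ∈ W
    · right
      have := degrees hregH hI hsolH
      simp only [Set.mem_insert_iff, Set.mem_singleton_iff]
      exact this
    · left
      obtain ⟨A, hAn, hAc, hirr⟩ := hirrA hI
      obtain ⟨a₀, ha₀⟩ := IsCyclic.exists_generator (α := A)
      set a : V ≃ₗ[ZMod q] V := ((a₀ : H) : V ≃ₗ[ZMod q] V) with ha
      have hmodel := Reg.exists_semilinear_model a (by
        intro W hW1 hW2
        apply hirr W
        intro a' ha' v hv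
        obtain ⟨k, hk⟩ := Subgroup.mem_zpowers_iff.mp (ha₀ ⟨a', ha'⟩)
        have hk' : ((a' : H) : V ≃ₗ[ZMod q] V) = a ^ k := by
          have := congrArg (fun x : A => ((x : H) : V ≃ₗ[ZMod q] V)) hk
          simpa using this.symm
        rw [hk']
        have key : ∀ k : ℤ, ∀ v ∈ W, (a ^ k) v ∈ W := by
          intro k
          induction k using Int.induction_on with
          | zero => intro v hv; simpa using hv
          | succ n ih =>
            intro v hv
            rw [zpow_add_one, LinearEquiv.mul_apply]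
            exact ih _ (hW1 v hv)
          | pred n ih =>
            intro v hv
            rw [zpow_sub_one, LinearEquiv.mul_apply]
            apply ih
            have : (a⁻¹ : V ≃ₗ[ZMod q] V) v = a.symm v := rfl
            rw [this]
            exact hW2 v hv
        exact key k v hv)
      obtain ⟨F, fF, ftF, e, he⟩ := hmodel
      refine ⟨F, fF, ftF, e, ?_⟩
      intro g
      apply he (ρ g)
      have hconj : ε g * (a₀ : H) * (ε g)⁻¹ ∈ A := hAn.conj_mem _ a₀.2 _
      obtain ⟨j, hj⟩ := Subgroup.mem_zpowers_iff.mp (ha₀ ⟨_, hconj⟩)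
      refine ⟨j, ?_⟩
      have h3 : ((ε g : H) : V ≃ₗ[ZMod q] V) * a * ((ε g : H) : V ≃ₗ[ZMod q] V)⁻¹ = a ^ j := by
        have := congrArg (fun x : A => ((x : H) : V ≃ₗ[ZMod q] V)) hj
        simpa using this.symm
      rwa [hε] at h3
  · intro hq2
    have hqodd : Odd q := (Fact.out : q.Prime).odd_of_ne_two hq2
    have hVcard := Cfsg.Agent.S0684.card_V_pow (p := q) (V := V)
    have heven : Even (Nat.card H) := by
      rw [hcardH, hVcard]
      have h1 : Odd (q ^ Module.finrank (ZMod q) V) := hqodd.pow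
      obtain ⟨m, hm⟩ := h1
      exact ⟨m, by omega⟩
    -- transport of an index-two subgroup
    have htr : (∃ N : Subgroup H, N.Normal ∧ N.index = 2) →
        ∃ N : Subgroup G, N.Normal ∧ N.index = 2 := by
      rintro ⟨N, hNn, hN2⟩
      refine ⟨N.comap ε.toMonoidHom, hNn.comap _, ?_⟩
      rw [Subgroup.index_comap_of_surjective N ε.surjective]
      exact hN2
    by_cases hF : FrobHyp 2 H
    · left
      apply htr
      obtain ⟨N, hN⟩ := exists_index_two_of_frobHyp hF heven
      exact ⟨N, Subgroup.normal_of_index_eq_two hN, hN⟩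
    · obtain ⟨Q, g, d⟩ := exists_qdata_of_not_frobHyp hAb hF
      by_cases hI : ∀ A : Subgroup H, A.Normal → IsCyclic A → ∃ W : Submodule (ZMod q) V,
          W ≠ ⊥ ∧ W ≠ ⊤ ∧ ∀ a ∈ A, ∀ v ∈ W, ((a : H) : V ≃ₗ[ZMod q] V) v ∈ W
      · rcases degrees hregH hI hsolH with h | h | h | h
        · right; left
          refine ⟨h, ?_⟩
          obtain ⟨e'⟩ := Reg.iso_sl23_of_card d (by rw [hcardH, h])
          exact ⟨ε.trans e'⟩
        · left
          apply htr
          exact Reg.exists_index_two_of_sixteen_dvd hAb hF (by rw [hcardH, h]; norm_num)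
        · right; right
          refine ⟨h, ?_⟩
          obtain ⟨e'⟩ := Reg.iso_sl23_prod_of_card hAb d hF (by rw [hcardH, h])
          exact ⟨ε.trans e'⟩
        · left
          apply htr
          exact Reg.exists_index_two_of_sixteen_dvd hAb hF (by rw [hcardH, h]; norm_num)
      · exfalso
        obtain ⟨A, hAn, hAc, hirr⟩ := hirrA hI
        haveI := hAn
        haveI := hAc
        have hcomm := comm_centralizer_of_irreducible hregH v₀ hv₀ A hirr
        exact d.false_of_abelian_normal hAb (Subgroup.centralizer (A : Set H)) hcomm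
          (fun x => commutator_mem_centralizer_of_isCyclic A x g)

end Cfsg.Agent.S3361
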