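import Cfsg.Statements.S3370
import Mathlib
import Cfsg.Agent.S1160
import Cfsg.Agent.Lib.H22.UniqueInvolution

set_option autoImplicit false
open Cfsg

namespace Cfsg.Agent.S3370

section numbertheory

/-- `2 ^ n = p ^ b + 1` with `b ≥ 1` forces `b = 1` -/
theorem exp_eq_one_of_two_pow (n b p : ℕ) (hp : p.Prime) (hb : 1 ≤ b) (h : 2 ^ n = p ^ b + 1) :
    b = 1 := by
  have hp2 : 2 ≤ p := hp.two_le
  have hpb : 2 ≤ p ^ b := le_trans hp2 (Nat.le_self_pow (by omega) p)
  -- p is odd
  have hn2 : 2 ≤ n := by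
    by_contra hcon
    interval_cases n <;> omega
  have hpodd : Odd p := by
    rcases Nat.even_or_odd p with he | ho
    · exfalso
      have h1 : Even (p ^ b) := (Nat.even_pow' (by omega)).2 he
      have h2 : Even (2 ^ n) := (Nat.even_pow' (by omega)).2 even_two
      rw [h] at h2
      have := (Nat.even_add_one).1 h2
      exact this h1
    · exact ho
  rcases Nat.even_or_odd b with hbe | hbo
  · -- b even: p^b ≡ 1 mod 4
    exfalso
    obtain ⟨c, hc⟩ := hbe
    have h1 : p ^ b = (p ^ c) * (p ^ c) := by rw [hc, pow_add]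
    have hpc : Odd (p ^ c) := hpodd.pow
    obtain ⟨k, hk⟩ := hpc
    have h4 : (4 : ℕ) ∣ 2 ^ n := by
      have : (2 : ℕ) ^ 2 ∣ 2 ^ n := pow_dvd_pow 2 hn2
      simpa using this
    rw [h, h1, hk] at h4
    have : (2 * k + 1) * (2 * k + 1) + 1 = 4 * (k * k + k) + 2 := by ring
    rw [this] at h4
    omega
  · -- b odd
    by_contra hb1
    -- work in ℤ
    have hgeom := geom_sum_mul (-(p : ℤ)) b
    have hneg : (-(p : ℤ)) ^ b = -((p : ℤ) ^ b) := hbo.neg_pow _
    rw [hneg] at hgeom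
    -- S * (p + 1) = p^b + 1
    have hS : (∑ i ∈ Finset.range b, (-(p : ℤ)) ^ i) * ((p : ℤ) + 1) = (p : ℤ) ^ b + 1 := by
      linear_combination -hgeom
    -- S is odd
    have hSodd : Odd (∑ i ∈ Finset.range b, (-(p : ℤ)) ^ i) := by
      have hterm : ∀ i ∈ Finset.range b, Odd ((-(p : ℤ)) ^ i) := by
        intro i _
        apply Odd.pow
        exact ((Int.odd_coe_nat p).2 hpodd).neg
      rw [Int.odd_iff]
      have : ∀ m : ℕ, (∀ i ∈ Finset.range m, Odd ((-(p : ℤ)) ^ i)) →
          (∑ i ∈ Finset.range m, (-(p : ℤ)) ^ i) % 2 = (m : ℤ) % 2 := by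
        intro m
        induction m with
        | zero => intro _; simp
        | succ m ih =>
          intro hm
          rw [Finset.sum_range_succ]
          have h1 := ih (fun i hi => hm i (Finset.mem_range.2 (by
            have := Finset.mem_range.1 hi; omega)))
          have h2 := Int.odd_iff.1 (hm m (Finset.mem_range.2 (by omega)))
          push_cast
          omega
      rw [this b hterm]
      obtain ⟨k, hk⟩ := hbo
      rw [hk]; push_cast; omega
    -- S divides 2^n
    have hSdvd : (∑ i ∈ Finset.range b, (-(p : ℤ)) ^ i) ∣ (2 : ℤ) ^ n := by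
      refine ⟨(p : ℤ) + 1, ?_⟩
      rw [hS]
      exact_mod_cast h
    -- odd divisor of power of two is ±1
    have hSabs : (∑ i ∈ Finset.range b, (-(p : ℤ)) ^ i).natAbs = 1 := by
      have h1 : (∑ i ∈ Finset.range b, (-(p : ℤ)) ^ i).natAbs ∣ 2 ^ n := by
        have := Int.natAbs_dvd_natAbs.2 hSdvd
        simpa [Int.natAbs_pow] using this
      obtain ⟨j, _, hj⟩ := (Nat.dvd_prime_pow Nat.prime_two).1 h1
      have hodd : Odd (∑ i ∈ Finset.range b, (-(p : ℤ)) ^ i).natAbs :=
        Int.natAbs_odd.2 hSodd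
      rw [hj] at hodd ⊢
      rcases Nat.eq_zero_or_pos j with h0 | hpos
      · rw [h0, pow_zero]
      · exfalso
        have : Even (2 ^ j) := (Nat.even_pow' (by omega)).2 even_two
        exact (Nat.not_even_iff_odd.2 hodd) this
    -- hence p^b + 1 = p + 1
    have h3 : ((p : ℤ) ^ b + 1).natAbs = ((p : ℤ) + 1).natAbs := by
      rw [← hS, Int.natAbs_mul, hSabs, one_mul]
    have h4 : p ^ b + 1 = p + 1 := by
      have e1 : ((p : ℤ) ^ b + 1).natAbs = p ^ b + 1 := by
        have : ((p : ℤ) ^ b + 1) = ((p ^ b + 1 : ℕ) : ℤ) := by push_cast; rfl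
        rw [this, Int.natAbs_natCast]
      have e2 : ((p : ℤ) + 1).natAbs = p + 1 := by
        have : ((p : ℤ) + 1) = ((p + 1 : ℕ) : ℤ) := by push_cast; rfl
        rw [this, Int.natAbs_natCast]
      rw [e1, e2] at h3
      exact h3
    have h5 : p ^ b = p ^ 1 := by rw [pow_one]; omega
    exact hb1 (Nat.pow_right_injective hp2 h5)

/-- `q ^ n = 2 ^ b + 1` with `q` odd and `n ≥ 2` forces `q = 3`, `n = 2` -/
theorem three_of_pow_eq_two_pow (q n b : ℕ) (hq : q.Prime) (hq2 : q ≠ 2) (hn : 2 ≤ n)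
    (h : q ^ n = 2 ^ b + 1) : q = 3 ∧ n = 2 := by
  have hqodd : Odd q := hq.odd_of_ne_two hq2
  have hq3 : 3 ≤ q := by
    have := hq.two_le
    rcases Nat.lt_or_ge q 3 with h' | h'
    · exfalso; apply hq2; omega
    · exact h'
  rcases Nat.even_or_odd n with hne | hno
  · obtain ⟨m, hm⟩ := hne
    have hm1 : 1 ≤ m := by omega
    have hqm : 3 ≤ q ^ m := le_trans hq3 (Nat.le_self_pow (by omega) q)
    have hfac : (q ^ m - 1) * (q ^ m + 1) = 2 ^ b := by
      have h1 : q ^ n = q ^ m * q ^ m := by rw [hm, pow_add]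
      have h2 : (q ^ m - 1) * (q ^ m + 1) = q ^ m * q ^ m - 1 := by
        obtain ⟨k, hk⟩ : ∃ k, q ^ m = k + 1 := ⟨q ^ m - 1, by omega⟩
        rw [hk]
        have e1 : (k + 1) * (k + 1) = k * (k + 1 + 1) + 1 := by ring
        rw [e1]
        simp
      rw [h2, ← h1, h, Nat.add_sub_cancel]
    have hd1 : q ^ m - 1 ∣ 2 ^ b := Dvd.intro _ hfac
    have hd2 : q ^ m + 1 ∣ 2 ^ b := Dvd.intro_left _ hfac
    obtain ⟨i, _, hi⟩ := (Nat.dvd_prime_pow Nat.prime_two).1 hd1
    obtain ⟨j, _, hj⟩ := (Nat.dvd_prime_pow Nat.prime_two).1 hd2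
    have hij : 2 ^ j = 2 ^ i + 2 := by omega
    -- i = 1
    have hi1 : i = 1 := by
      rcases Nat.lt_or_ge i 2 with h' | h'
      · interval_cases i
        · exfalso
          -- 2^j = 3
          have : 2 ^ j = 3 := by simpa using hij
          rcases Nat.lt_or_ge j 2 with h'' | h''
          · interval_cases j <;> omega
          · have : (4 : ℕ) ∣ 2 ^ j := by
              have : (2 : ℕ) ^ 2 ∣ 2 ^ j := pow_dvd_pow 2 h''
              simpa using this
            omega
        · rfl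
      · exfalso
        have h4i : (4 : ℕ) ∣ 2 ^ i := by
          have : (2 : ℕ) ^ 2 ∣ 2 ^ i := pow_dvd_pow 2 h'
          simpa using this
        have hj2 : 2 ≤ j := by
          by_contra hcon
          have hj' : j = 0 ∨ j = 1 := by omega
          rcases hj' with rfl | rfl <;> omega
        have h4j : (4 : ℕ) ∣ 2 ^ j := by
          have : (2 : ℕ) ^ 2 ∣ 2 ^ j := pow_dvd_pow 2 hj2
          simpa using this
        omega
    rw [hi1] at hi
    have hqm3 : q ^ m = 3 := by omega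
    -- q ^ m = 3 ⇒ q = 3 and m = 1
    have hq_dvd : q ∣ 3 := by
      rw [← hqm3]; exact dvd_pow_self q (by omega)
    have hq_eq : q = 3 := (Nat.prime_dvd_prime_iff_eq hq Nat.prime_three).1 hq_dvd
    refine ⟨hq_eq, ?_⟩
    rw [hq_eq] at hqm3
    have : m = 1 := Nat.pow_right_injective (le_refl 2 |>.trans (by norm_num : 2 ≤ 3))
      (by simpa using hqm3)
    omega
  · -- n odd: contradiction
    exfalso
    have hgeom := Nat.geomSum_eq (m := q) (by omega) n
    have hS : (∑ i ∈ Finset.range n, q ^ i) * (q - 1) = q ^ n - 1 := by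
      rw [hgeom]
      exact Nat.div_mul_cancel (Nat.sub_one_dvd_pow_sub_one q n)
    have hSodd : Odd (∑ i ∈ Finset.range n, q ^ i) := by
      have : ∀ m : ℕ, (∑ i ∈ Finset.range m, q ^ i) % 2 = m % 2 := by
        intro m
        induction m with
        | zero => simp
        | succ m ih =>
          rw [Finset.sum_range_succ]
          have h2 := Nat.odd_iff.1 (hqodd.pow (n := m))
          omega
      rw [Nat.odd_iff, this n]
      exact Nat.odd_iff.1 hno
    have hSdvd : (∑ i ∈ Finset.range n, q ^ i) ∣ 2 ^ b := by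
      refine ⟨q - 1, ?_⟩
      rw [hS, h, Nat.add_sub_cancel]
    obtain ⟨j, _, hj⟩ := (Nat.dvd_prime_pow Nat.prime_two).1 hSdvd
    have hj0 : j = 0 := by
      rcases Nat.eq_zero_or_pos j with h0 | hpos
      · exact h0
      · exfalso
        have : Even (2 ^ j) := (Nat.even_pow' (by omega)).2 even_two
        rw [← hj] at this
        exact (Nat.not_even_iff_odd.2 hSodd) this
    rw [hj0, pow_zero] at hj
    -- sum ≥ 1 + q > 1
    have : 1 + q ≤ ∑ i ∈ Finset.range n, q ^ i := by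
      have h2 : Finset.range 2 ⊆ Finset.range n := Finset.range_subset_range.2 hn
      calc 1 + q = ∑ i ∈ Finset.range 2, q ^ i := by simp [Finset.sum_range_succ]
        _ ≤ _ := Finset.sum_le_sum_of_subset h2
    omega

end numbertheory

section setup

variable {q : ℕ} [hqf : Fact q.Prime] {V : Type*} [AddCommGroup V] [Module (ZMod q) V]
  {G : Type*} [Group G]

/-- the action of `G` on `V` through `ρ` -/
@[reducible] noncomputable def actG (ρ : G →* (V ≃ₗ[ZMod q] V)) : DistribMulAction G V :=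
  DistribMulAction.compHom V ρ

theorem actG_smul (ρ : G →* (V ≃ₗ[ZMod q] V)) (g : G) (v : V) :
    (letI := actG ρ; g • v) = ρ g v := rfl

theorem actG_faithful (ρ : G →* (V ≃ₗ[ZMod q] V)) (hρ : Function.Injective ρ) :
    letI := actG ρ; FaithfulSMul G V := by
  letI := actG ρ
  refine ⟨?_⟩
  intro g h hgh
  apply hρ
  ext v
  exact hgh v

theorem orbit_eq (ρ : G →* (V ≃ₗ[ZMod q] V))
    (htrans : ∀ v w : V, v ≠ 0 → w ≠ 0 → ∃ g : G, ρ g v = w) (v : V) (hv : v ≠ 0) :
    letI := actG ρ; MulAction.orbit G v = ({0} : Set V)ᶜ := by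
  letI := actG ρ
  ext w
  rw [MulAction.mem_orbit_iff, Set.mem_compl_iff, Set.mem_singleton_iff]
  constructor
  · rintro ⟨g, rfl⟩
    intro h0
    rw [smul_eq_zero_iff_eq] at h0
    exact hv h0
  · intro hw
    obtain ⟨g, hg⟩ := htrans v w hv hw
    exact ⟨g, hg⟩

/-- orbit–stabilizer -/
theorem card_eq_stab_mul [Finite V] [Finite G] (ρ : G →* (V ≃ₗ[ZMod q] V))
    (htrans : ∀ v w : V, v ≠ 0 → w ≠ 0 → ∃ g : G, ρ g v = w) (v : V) (hv : v ≠ 0) :
    letI := actG ρ;
    Nat.card G = Nat.card (MulAction.stabilizer G v) * (Nat.card V - 1) := by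
  letI := actG ρ
  have h1 := Subgroup.card_mul_index (MulAction.stabilizer G v)
  rw [MulAction.index_stabilizer, orbit_eq ρ htrans v hv, Set.ncard_compl, Set.ncard_singleton] at h1
  exact h1.symm

theorem stab_eq_bot_of_card [Finite V] [Finite G] (ρ : G →* (V ≃ₗ[ZMod q] V))
    (htrans : ∀ v w : V, v ≠ 0 → w ≠ 0 → ∃ g : G, ρ g v = w)
    (hcard : Nat.card G = Nat.card V - 1) (g : G) (v : V) (hv : v ≠ 0) (hg : ρ g v = v) : g = 1 := by
  letI := actG ρ
  have h1 := card_eq_stab_mul ρ htrans v hv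
  have hpos : 0 < Nat.card G := Nat.card_pos
  have h2 : Nat.card (MulAction.stabilizer G v) = 1 := by
    rw [← hcard] at h1
    have : Nat.card (MulAction.stabilizer G v) * Nat.card G = 1 * Nat.card G := by
      rw [one_mul]; exact h1.symm
    exact Nat.eq_of_mul_eq_mul_right hpos this
  have h3 : MulAction.stabilizer G v = ⊥ := Subgroup.card_eq_one.1 h2
  have h4 : g ∈ MulAction.stabilizer G v := by
    rw [MulAction.mem_stabilizer_iff]
    exact hg
  rw [h3, Subgroup.mem_bot] at h4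
  exact h4

/-- with trivial stabilizers an involution acts as `-1` -/
theorem invol_neg (ρ : G →* (V ≃ₗ[ZMod q] V))
    (hfree : ∀ (g : G) (v : V), v ≠ 0 → ρ g v = v → g = 1)
    (t : G) (ht : t * t = 1) (ht1 : t ≠ 1) (v : V) : ρ t v = -v := by
  by_contra hne
  have hw : v + ρ t v ≠ 0 := by
    intro h0
    apply hne
    exact (neg_eq_of_add_eq_zero_right h0).symm
  have hfix : ρ t (v + ρ t v) = v + ρ t v := by
    rw [map_add]
    have : ρ t (ρ t v) = v := by
      have h2 : (ρ t * ρ t) v = v := by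
        rw [← map_mul, ht, map_one]; rfl
      exact h2
    rw [this, add_comm]
  exact ht1 (hfree t _ hw hfix)

theorem invol_unique (ρ : G →* (V ≃ₗ[ZMod q] V)) (hρ : Function.Injective ρ)
    (hfree : ∀ (g : G) (v : V), v ≠ 0 → ρ g v = v → g = 1)
    (t s : G) (ht : t * t = 1) (ht1 : t ≠ 1) (hs : s * s = 1) (hs1 : s ≠ 1) : t = s := by
  apply hρ
  ext v
  rw [invol_neg ρ hfree t ht ht1 v, invol_neg ρ hfree s hs hs1 v]

end setup

section cases

theorem card_V_pow (q : ℕ) [Fact q.Prime] {V : Type*} [AddCommGroup V] [Module (ZMod q) V]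
    [Finite V] : Nat.card V = q ^ Module.finrank (ZMod q) V := by
  haveI : Module.Finite (ZMod q) V := Module.Finite.of_finite
  rw [Module.natCard_eq_pow_finrank (K := ZMod q) (V := V), Nat.card_zmod]

theorem case_odd (q : ℕ) [Fact q.Prime] {V : Type*} [AddCommGroup V] [Module (ZMod q) V] [Finite V]
    [Nontrivial V] {G : Type*} [Group G] [Finite G] (p : ℕ) [Fact p.Prime] (hG : IsPGroup p G)
    (ρ : G →* (V ≃ₗ[ZMod q] V)) (hρ : Function.Injective ρ)
    (htrans : ∀ v w : V, v ≠ 0 → w ≠ 0 → ∃ g : G, ρ g v = w) (hp2 : p ≠ 2) :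
    Nat.card G = Nat.card V - 1 := by
  letI := actG ρ
  haveI := actG_faithful ρ hρ
  have hE : ∀ e : V, q • e = 0 := by
    intro e
    rw [← Nat.cast_smul_eq_nsmul (ZMod q) q e, ZMod.natCast_self, zero_smul]
  have hconst : ∀ a b : V, a ≠ 0 → b ≠ 0 →
      Nat.card (MulAction.stabilizer G a) = Nat.card (MulAction.stabilizer G b) := by
    intro a b ha hb
    have h1 := card_eq_stab_mul ρ htrans a ha
    have h2 := card_eq_stab_mul ρ htrans b hb
    have hpos : 0 < Nat.card V - 1 := by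
      have := Finite.one_lt_card (α := V); omega
    rw [h1] at h2
    exact Nat.eq_of_mul_eq_mul_right hpos h2
  obtain ⟨_, hfree⟩ := Cfsg.Agent.S1160.result (P := G) (E := V) hp2 hG (Fact.out : q.Prime) hE hconst
  obtain ⟨v, hv⟩ := exists_ne (0 : V)
  have h1 := card_eq_stab_mul ρ htrans v hv
  have h2 : MulAction.stabilizer G v = ⊥ := by
    rw [Subgroup.eq_bot_iff_forall]
    intro g hg
    by_contra hg1
    exact hv (hfree g hg1 v hg)
  rw [h2, Subgroup.card_bot, one_mul] at h1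
  exact h1

theorem case_one (q : ℕ) [Fact q.Prime] {V : Type*} [AddCommGroup V] [Module (ZMod q) V] [Finite V]
    [Nontrivial V] {G : Type*} [Group G] [Finite G]
    (ρ : G →* (V ≃ₗ[ZMod q] V)) (hρ : Function.Injective ρ)
    (htrans : ∀ v w : V, v ≠ 0 → w ≠ 0 → ∃ g : G, ρ g v = w)
    (h1 : Module.finrank (ZMod q) V = 1) :
    IsCyclic G ∧ Nat.card G = Nat.card V - 1 := by
  obtain ⟨v₀, hv₀⟩ := exists_ne (0 : V)
  have hspan := (finrank_eq_one_iff_of_nonzero' v₀ hv₀).1 h1
  have hinj : Function.Injective (fun c : ZMod q => c • v₀) := smul_left_injective (ZMod q) hv₀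
  choose f hf using fun g : G => hspan (ρ g v₀)
  have hact : ∀ g : G, ∀ w : V, ρ g w = f g • w := by
    intro g w
    obtain ⟨c, rfl⟩ := hspan w
    rw [map_smul, ← hf g, smul_comm]
  have hmul : ∀ g h, f (g * h) = f g * f h := by
    intro g h
    apply hinj
    show f (g * h) • v₀ = (f g * f h) • v₀
    rw [hf, map_mul, LinearEquiv.mul_apply, hact h v₀, map_smul, ← hf g, smul_smul, mul_comm]
  have hone : f 1 = 1 := by
    apply hinj
    show f 1 • v₀ = (1 : ZMod q) • v₀
    rw [hf, map_one, one_smul]; rfl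
  let F : G →* ZMod q := ⟨⟨f, hone⟩, hmul⟩
  have hFinj : Function.Injective F := by
    intro g h hgh
    apply hρ
    ext w
    rw [hact, hact]
    have : f g = f h := hgh
    rw [this]
  refine ⟨isCyclic_of_injective_ringHom F hFinj, ?_⟩
  have hA := card_eq_stab_mul ρ htrans v₀ hv₀
  letI := actG ρ
  have hst : MulAction.stabilizer G v₀ = ⊥ := by
    rw [Subgroup.eq_bot_iff_forall]
    intro g hg
    have hg' : ρ g v₀ = v₀ := hg
    apply hρ
    rw [map_one]
    ext w
    rw [hact]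
    have : f g = 1 := by
      apply hinj
      show f g • v₀ = (1 : ZMod q) • v₀
      rw [hf, one_smul, hg']
    rw [this, one_smul]; rfl
  rw [hst, Subgroup.card_bot, one_mul] at hA
  exact hA

end cases

section sd16

open Matrix Pointwise

theorem card_gl23 : Nat.card (GL (Fin 2) (ZMod 3)) = 48 := by
  rw [Matrix.card_GL_field]
  simp [Fin.prod_univ_two, ZMod.card]

/-- multiplication by a generator of `F₉ˣ` -/
def gX : GL (Fin 2) (ZMod 3) := ⟨!![0, 1; 1, 1], !![-1, 1; 1, 0], by decide, by decide⟩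

/-- the Frobenius of `F₉` -/
def gY : GL (Fin 2) (ZMod 3) := ⟨!![1, 1; 0, -1], !![1, 1; 0, -1], by decide, by decide⟩

theorem gX_pow4 : gX ^ 4 ≠ 1 := by decide

theorem gX_pow8 : gX ^ 8 = 1 := by decide

theorem gY_ne : gY ≠ 1 := by decide

theorem gY_sq : gY ^ 2 = 1 := by decide

theorem gY_conj : gY * gX * gY⁻¹ = gX ^ 3 := by decide

theorem gX_pow9 : gX ^ (3 * 3) = gX := by
  rw [show 3 * 3 = 8 + 1 from rfl, pow_succ, gX_pow8, one_mul]

/-- the normalizer of `⟨gX⟩`, given explicitly -/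
def nS : Subgroup (GL (Fin 2) (ZMod 3)) where
  carrier := {M | M * gX * M⁻¹ = gX ∨ M * gX * M⁻¹ = gX ^ 3}
  one_mem' := by left; simp
  mul_mem' := by
    intro M N hM hN
    simp only [Set.mem_ofPred_eq] at *
    have e : (M * N) * gX * (M * N)⁻¹ = M * (N * gX * N⁻¹) * M⁻¹ := by group
    rw [e]
    rcases hN with hN | hN <;> rcases hM with hM | hM
    · left; rw [hN, hM]
    · right; rw [hN, hM]
    · right; rw [hN, ← conj_pow, hM]
    · left; rw [hN, ← conj_pow, hM, ← pow_mul, gX_pow9]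
  inv_mem' := by
    intro M hM
    simp only [Set.mem_ofPred_eq] at *
    rw [inv_inv]
    rcases hM with hM | hM
    · left
      have : M⁻¹ * (M * gX * M⁻¹) * M = gX := by group
      rw [hM] at this
      exact this
    · right
      have h3 : M * gX ^ 3 * M⁻¹ = gX := by
        rw [← conj_pow, hM, ← pow_mul, gX_pow9]
      have : M⁻¹ * (M * gX ^ 3 * M⁻¹) * M = gX ^ 3 := by group
      rw [h3] at this
      exact this

theorem mem_nS (M : GL (Fin 2) (ZMod 3)) :
    M ∈ nS ↔ (M * gX * M⁻¹ = gX ∨ M * gX * M⁻¹ = gX ^ 3) := Iff.rfl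

theorem gX_mem : gX ∈ nS := by
  rw [mem_nS]; left; group

theorem gY_mem : gY ∈ nS := by
  rw [mem_nS]; right; exact gY_conj

set_option maxRecDepth 100000 in
theorem mat_fact_S : ∀ a b c d : ZMod 3, a * d - b * c ≠ 0 →
    ((!![a, b; c, d] : Matrix (Fin 2) (Fin 2) (ZMod 3)) * !![0, 1; 1, 1] = !![0, 1; 1, 1] * !![a, b; c, d] ∨
     (!![a, b; c, d] : Matrix (Fin 2) (Fin 2) (ZMod 3)) * !![0, 1; 1, 1] =
        !![0, 1; 1, 1] * !![0, 1; 1, 1] * !![0, 1; 1, 1] * !![a, b; c, d]) →
    ((!![a, b; c, d] : Matrix (Fin 2) (Fin 2) (ZMod 3)) * !![a, b; c, d] *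
      (!![a, b; c, d] * !![a, b; c, d])) *
      ((!![a, b; c, d] : Matrix (Fin 2) (Fin 2) (ZMod 3)) * !![a, b; c, d] *
      (!![a, b; c, d] * !![a, b; c, d])) = 1 := by
  decide

theorem pow8_of_mem_nS (M : GL (Fin 2) (ZMod 3)) (hM : M ∈ nS) : M ^ 8 = 1 := by
  rw [mem_nS] at hM
  have hdet : (M : Matrix (Fin 2) (Fin 2) (ZMod 3)).det ≠ 0 :=
    ((Matrix.isUnit_iff_isUnit_det _).1 (Units.isUnit M)).ne_zero
  have hX : (gX : Matrix (Fin 2) (Fin 2) (ZMod 3)) = !![0, 1; 1, 1] := rfl
  have hcond : (M : Matrix (Fin 2) (Fin 2) (ZMod 3)) * !![0, 1; 1, 1] =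
      !![0, 1; 1, 1] * (M : Matrix (Fin 2) (Fin 2) (ZMod 3)) ∨
      (M : Matrix (Fin 2) (Fin 2) (ZMod 3)) * !![0, 1; 1, 1] =
      !![0, 1; 1, 1] * !![0, 1; 1, 1] * !![0, 1; 1, 1] * (M : Matrix (Fin 2) (Fin 2) (ZMod 3)) := by
    rcases hM with hM | hM
    · left
      have h1 : M * gX = gX * M := mul_inv_eq_iff_eq_mul.1 hM
      have h2 := congrArg (fun u : GL (Fin 2) (ZMod 3) => (u : Matrix (Fin 2) (Fin 2) (ZMod 3))) h1
      simp only [Units.val_mul, hX] at h2
      exact h2
    · right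
      have h1 : M * gX = gX ^ 3 * M := mul_inv_eq_iff_eq_mul.1 hM
      have h2 := congrArg (fun u : GL (Fin 2) (ZMod 3) => (u : Matrix (Fin 2) (Fin 2) (ZMod 3))) h1
      simp only [Units.val_mul, hX, pow_succ, pow_zero, one_mul] at h2
      exact h2
  have e8 : M ^ 8 = (M * M * (M * M)) * (M * M * (M * M)) := by
    rw [show (8 : ℕ) = 2 * 2 * 2 from rfl, pow_mul, pow_mul, pow_two, pow_two, pow_two]
  rw [e8]
  apply Units.ext
  simp only [Units.val_mul, Units.val_one]
  rw [Matrix.eta_fin_two (M : Matrix (Fin 2) (Fin 2) (ZMod 3))] at hdet hcond ⊢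
  rw [Matrix.det_fin_two_of] at hdet
  exact mat_fact_S _ _ _ _ hdet hcond

theorem isPGroup_nS : IsPGroup 2 nS := by
  intro g
  refine ⟨3, ?_⟩
  apply Subtype.ext
  rw [Subgroup.coe_pow, Subgroup.coe_one]
  exact pow8_of_mem_nS g.1 g.2

theorem factorization_48 : (48 : ℕ).factorization 2 = 4 := by
  rw [Nat.factorization_def _ Nat.prime_two]
  have : (48:ℕ) = 2^4*3 := by norm_num
  rw [this, padicValNat.mul (by norm_num) (by norm_num), padicValNat.prime_pow]
  norm_num

theorem sd16_of_card {G : Type*} [Group G] [Finite G] (γ : G →* GL (Fin 2) (ZMod 3))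
    (hγ : Function.Injective γ) (hcard : Nat.card G = 16) :
    ∃ x y : G, orderOf x = 8 ∧ orderOf y = 2 ∧ y * x * y⁻¹ = x ^ 3 := by
  have : Fact (Nat.Prime 2) := ⟨Nat.prime_two⟩
  have hPcard : Nat.card γ.range = 16 := by
    rw [← hcard]; exact (Nat.card_congr (MonoidHom.ofInjective hγ).toEquiv).symm
  have hfac : (Nat.card (GL (Fin 2) (ZMod 3))).factorization 2 = 4 := by
    rw [card_gl23]; exact factorization_48
  let P : Sylow 2 (GL (Fin 2) (ZMod 3)) := Sylow.ofCard γ.range (by rw [hPcard, hfac]; norm_num)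
  obtain ⟨Q, hQ⟩ := IsPGroup.exists_le_sylow isPGroup_nS
  obtain ⟨c, hc⟩ := MulAction.exists_smul_eq (GL (Fin 2) (ZMod 3)) Q P
  have hmem : ∀ M ∈ nS, c * M * c⁻¹ ∈ γ.range := by
    intro M hM
    have h1 : M ∈ (Q : Subgroup _) := hQ hM
    have h2 : MulAut.conj c • M ∈ MulAut.conj c • (Q : Subgroup _) :=
      Subgroup.smul_mem_pointwise_smul _ _ _ h1
    rw [← Sylow.coe_subgroup_smul, hc] at h2
    exact h2
  obtain ⟨x, hx⟩ := hmem gX gX_mem
  obtain ⟨y, hy⟩ := hmem gY gY_mem
  have hoX : orderOf gX = 8 := by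
    have := orderOf_eq_prime_pow (x := gX) (n := 2) (p := 2) gX_pow4 gX_pow8
    simpa using this
  have hoY : orderOf gY = 2 := orderOf_eq_prime gY_sq gY_ne
  have hconj : ∀ M : GL (Fin 2) (ZMod 3), orderOf (c * M * c⁻¹) = orderOf M := by
    intro M
    exact orderOf_injective (MulAut.conj c).toMonoidHom (MulAut.conj c).injective M
  refine ⟨x, y, ?_, ?_, ?_⟩
  · rw [← orderOf_injective γ hγ, hx, hconj, hoX]
  · rw [← orderOf_injective γ hγ, hy, hconj, hoY]
  · apply hγ
    rw [map_mul, map_mul, map_inv, map_pow, hx, hy, conj_pow, ← gY_conj]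
    group

end sd16

section nine

open Cfsg.Agent.Lib.H22 in
theorem case_nine {V : Type*} [AddCommGroup V] [Module (ZMod 3) V] [Finite V] [Nontrivial V]
    {G : Type*} [Group G] [Finite G] (hG : IsPGroup 2 G)
    (ρ : G →* (V ≃ₗ[ZMod 3] V)) (hρ : Function.Injective ρ)
    (htrans : ∀ v w : V, v ≠ 0 → w ≠ 0 → ∃ g : G, ρ g v = w)
    (h2 : Module.finrank (ZMod 3) V = 2) :
    (IsCyclic G ∧ Nat.card G = 8) ∨ Nonempty (G ≃* QuaternionGroup 2) ∨
      (Cfsg.IsQuasiDihedral G ∧ Nat.card G = 16) := by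
  haveI : Fact (Nat.Prime 2) := ⟨Nat.prime_two⟩
  haveI : Module.Finite (ZMod 3) V := Module.Finite.of_finite
  have hV : Nat.card V = 9 := by rw [card_V_pow 3, h2]; norm_num
  -- the embedding into GL(2,3)
  let b := Module.finBasisOfFinrankEq (ZMod 3) V h2
  let Φ : (V ≃ₗ[ZMod 3] V) ≃* GL (Fin 2) (ZMod 3) :=
    (LinearMap.GeneralLinearGroup.generalLinearEquiv (ZMod 3) V).symm.trans
      (Units.mapEquiv (LinearMap.toMatrixAlgEquiv b).toMulEquiv)
  let γ : G →* GL (Fin 2) (ZMod 3) := Φ.toMonoidHom.comp ρ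
  have hγ : Function.Injective γ := Φ.injective.comp hρ
  have hdvd48 : Nat.card G ∣ 48 := by
    rw [← card_gl23]; exact Subgroup.card_dvd_of_injective γ hγ
  obtain ⟨v₀, hv₀⟩ := exists_ne (0 : V)
  have hA := card_eq_stab_mul ρ htrans v₀ hv₀
  rw [hV] at hA
  obtain ⟨a, ha⟩ := (IsPGroup.iff_card).1 hG
  have h8 : 8 ∣ Nat.card G := by rw [hA]; exact dvd_mul_left _ _
  have ha3 : 3 ≤ a := by
    rw [ha, show (8:ℕ) = 2^3 from rfl, Nat.pow_dvd_pow_iff_le_right (by norm_num)] at h8
    exact h8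
  have ha4 : a ≤ 4 := by
    by_contra hcon
    have h32 : (2:ℕ)^5 ∣ 2^a := pow_dvd_pow 2 (by omega)
    rw [← ha] at h32
    have := dvd_trans h32 hdvd48
    norm_num at this
  have hcases : a = 3 ∨ a = 4 := by omega
  rcases hcases with rfl | rfl
  · -- order 8
    have hc8 : Nat.card G = 8 := by rw [ha]; norm_num
    have hfree : ∀ (g : G) (v : V), v ≠ 0 → ρ g v = v → g = 1 := by
      intro g v hv hg
      exact stab_eq_bot_of_card ρ htrans (by rw [hc8, hV]) g v hv hg
    have key : ∀ H : Subgroup G, Nat.card H = 2 →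
        ∃ t : G, t * t = 1 ∧ t ≠ 1 ∧ H = Subgroup.zpowers t := by
      intro H hH
      have hne : H ≠ ⊥ := by
        intro hbot; rw [hbot, Subgroup.card_bot] at hH; omega
      obtain ⟨⟨t, htH⟩, ht1⟩ := (Subgroup.ne_bot_iff_exists_ne_one).1 hne
      have ht1' : t ≠ 1 := by
        intro h; apply ht1; exact Subtype.ext h
      have ht2 : t ^ 2 = 1 := by
        have := pow_card_eq_one' (G := H) (x := ⟨t, htH⟩)
        rw [hH] at this
        have := congrArg (fun u : H => (u : G)) this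
        simpa using this
      refine ⟨t, by rw [← pow_two]; exact ht2, ht1', ?_⟩
      symm
      apply Subgroup.eq_of_le_of_card_ge (Subgroup.zpowers_le.2 htH)
      rw [Nat.card_zpowers, orderOf_eq_prime ht2 ht1', hH]
    have huniq : AtMostOneOrderP 2 G := by
      intro H K hH hK
      obtain ⟨t, ht, ht1, rfl⟩ := key H hH
      obtain ⟨s, hs, hs1, rfl⟩ := key K hK
      rw [invol_unique ρ hρ hfree t s ht ht1 hs hs1]
    rcases cyclic_or_quaternion_of_atMostOne hG huniq with hc | ⟨n, hn, ⟨e⟩⟩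
    · left; exact ⟨hc, hc8⟩
    · right; left
      have hcq : Nat.card (QuaternionGroup (2 ^ n)) = 8 := by
        rw [← hc8]; exact (Nat.card_congr e.toEquiv).symm
      rw [Nat.card_eq_fintype_card, QuaternionGroup.card] at hcq
      have hn1 : n = 1 := by
        have h2n : 2 ^ n = 2 ^ 1 := by omega
        exact Nat.pow_right_injective (le_refl 2) h2n
      subst hn1
      exact ⟨e⟩
  · -- order 16
    have hc16 : Nat.card G = 16 := by rw [ha]; norm_num
    obtain ⟨x, y, hx, hy, hxy⟩ := sd16_of_card γ hγ hc16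
    right; right
    refine ⟨⟨3, le_refl _, by rw [hc16]; norm_num, x, y, by rw [hx]; norm_num, hy, ?_⟩, hc16⟩
    rw [hxy]; norm_num

end nine

/-- Let q be a prime, V a non-trivial finite vector space over the field with q elements, and G a non-trivial finite p-group (p prime) acting faithfully and linearly on V and transitively on the non-zero vectors. Then either q = 2 and G has prime order p = |V| − 1; or p = 2, V has q elements with q = 2^m + 1 and G is cyclic of order 2^m; or p = 2, q = 3, V has 9 elements and G is cyclic of order 8, quaternion of order 8, or semidihedral of order 16. -/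
theorem result (q : ℕ) [Fact q.Prime] {V : Type*} [AddCommGroup V] [Module (ZMod q) V] [Finite V] [Nontrivial V]
    {G : Type*} [Group G] [Finite G] [Nontrivial G] (p : ℕ) [Fact p.Prime] (hG : IsPGroup p G)
    (ρ : G →* (V ≃ₗ[ZMod q] V)) (hρ : Function.Injective ρ)
    (htrans : ∀ v w : V, v ≠ 0 → w ≠ 0 → ∃ g : G, ρ g v = w) :
    (q = 2 ∧ p = Nat.card V - 1 ∧ Nat.card G = p) ∨
    (p = 2 ∧ Nat.card V = q ∧ (∃ m : ℕ, q = 2 ^ m + 1 ∧ Nat.card G = 2 ^ m) ∧ IsCyclic G) ∨
    (p = 2 ∧ q = 3 ∧ Nat.card V = 9 ∧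
      ((IsCyclic G ∧ Nat.card G = 8) ∨ Nonempty (G ≃* QuaternionGroup 2) ∨ (Cfsg.IsQuasiDihedral G ∧ Nat.card G = 16))) := by
  have hq := (Fact.out : q.Prime)
  have hp := (Fact.out : p.Prime)
  haveI : Module.Finite (ZMod q) V := Module.Finite.of_finite
  obtain ⟨a, ha⟩ := (IsPGroup.iff_card).1 hG
  have hV : Nat.card V = q ^ Module.finrank (ZMod q) V := card_V_pow q
  have hn1 : 1 ≤ Module.finrank (ZMod q) V := Module.finrank_pos
  generalize hn : Module.finrank (ZMod q) V = n at hV hn1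
  obtain ⟨v₀, hv₀⟩ := exists_ne (0 : V)
  have hA := card_eq_stab_mul ρ htrans v₀ hv₀
  have hVgt : 1 < Nat.card V := Finite.one_lt_card
  have hdvd : (Nat.card V - 1) ∣ p ^ a := by rw [← ha, hA]; exact dvd_mul_left _ _
  obtain ⟨b, hba, hb⟩ := (Nat.dvd_prime_pow hp).1 hdvd
  have hb1 : 1 ≤ b := by
    by_contra hcon
    have hb0 : b = 0 := by omega
    rw [hb0, pow_zero] at hb
    obtain ⟨g, hg⟩ := exists_ne (1 : G)
    apply hg
    apply hρ
    rw [map_one]
    ext v
    by_cases hv : v = 0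
    · rw [hv]; simp
    · have h1 := card_eq_stab_mul ρ htrans v hv
      rw [hb, mul_one] at h1
      letI := actG ρ
      have h2 : MulAction.stabilizer G v = ⊤ := (Subgroup.card_eq_iff_eq_top _).1 h1.symm
      have h3 : g ∈ MulAction.stabilizer G v := by rw [h2]; trivial
      exact h3
  have hVeq : q ^ n = p ^ b + 1 := by rw [← hV, ← hb]; omega
  by_cases hp2 : p = 2
  · right
    subst hp2
    have hq2 : q ≠ 2 := by
      intro hq2
      rw [hq2] at hVeq
      have h1 : Even (2 ^ n) := (Nat.even_pow' (by omega)).2 even_two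
      have h2 : Even (2 ^ b) := (Nat.even_pow' (by omega)).2 even_two
      rw [hVeq] at h1
      exact (Nat.even_add_one.1 h1) h2
    by_cases hn' : n = 1
    · left
      obtain ⟨hcyc, hcard⟩ := case_one q ρ hρ htrans (hn.trans hn')
      rw [hn', pow_one] at hVeq hV
      refine ⟨rfl, hV, ⟨b, hVeq, ?_⟩, hcyc⟩
      rw [hcard, hb]
    · right
      have hn2 : 2 ≤ n := by omega
      obtain ⟨hq3, hn2'⟩ := three_of_pow_eq_two_pow q n b hq hq2 hn2 hVeq
      subst hq3
      refine ⟨rfl, rfl, ?_, case_nine hG ρ hρ htrans (hn.trans hn2')⟩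
      rw [hV, hn2']; norm_num
  · left
    have hodd : Odd p := hp.odd_of_ne_two hp2
    have heven : Even (q ^ n) := by
      rw [hVeq]; exact (hodd.pow).add_one
    have hq2 : q = 2 := by
      have h2 : 2 ∣ q := Nat.Prime.dvd_of_dvd_pow Nat.prime_two (even_iff_two_dvd.1 heven)
      exact ((Nat.prime_dvd_prime_iff_eq Nat.prime_two hq).1 h2).symm
    have hcard := case_odd q p hG ρ hρ htrans hp2
    rw [hq2] at hVeq
    have hb1' : b = 1 := exp_eq_one_of_two_pow _ b p hp hb1 hVeq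
    rw [hb1', pow_one] at hb
    exact ⟨hq2, hb.symm, by rw [hcard, hb]⟩

end Cfsg.Agent.S3370
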