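import Cfsg.Statements.S3371
import Cfsg.Agent.S0519
import Cfsg.Agent.Lib.H4.HTEQ
import Cfsg.Agent.Lib.H24.HTPQ
import Cfsg.Agent.Lib.H1.HTSR
import Cfsg.Agent.Lib.H13.HTCF
import Cfsg.Agent.Lib.H6.HTNEG
import Cfsg.Agent.Lib.H20.HTNP
import Cfsg.Agent.Lib.H2.HTODD
import Cfsg.Agent.Lib.H1.HTN2
import Cfsg.Agent.Lib.H4.HTSTAR
import Cfsg.Agent.Lib.H25.HTCARD
import Cfsg.Agent.Lib.H11.HTEND
import Cfsg.Agent.Lib.H15.HTNT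
import Cfsg.Agent.Lib.H10.HTNS
import Cfsg.Agent.Lib.H10.HTNC
import Cfsg.Agent.Lib.H22.HTNQ
import Cfsg.Agent.Lib.H15.HTDQS
import Cfsg.Agent.Lib.H11.HTDQH
import Cfsg.Agent.Lib.H15.HTDQC
import Cfsg.Agent.Lib.H22.HTDD
import Cfsg.Agent.Lib.H22.HTQD

set_option autoImplicit false
open Cfsg

namespace Cfsg.Agent.S3371

open Cfsg.Agent.Lib.H4.HT

section Pieces

variable {q : ℕ} {V : Type*} [AddCommGroup V] [Module (ZMod q) V] {G : Type*} [Group G]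

/-! ### Assembly (helper4) -/

theorem four_dvd_pow {n : ℕ} (hn : 2 ≤ n) : (2 ^ n - 1) % 4 = 3 := by
  obtain ⟨m, rfl⟩ : ∃ m, n = m + 2 := ⟨n - 2, by omega⟩
  have : 2 ^ (m + 2) = 4 * 2 ^ m := by rw [pow_add]; ring
  have h2 : 1 ≤ 2 ^ m := Nat.one_le_two_pow
  omega

/-- Case B, `p = 2`. -/
theorem case_two [Fact q.Prime] [Finite V] [Nontrivial V] [Finite G] (hG : IsPGroup 2 G) (hq2 : 2 ≠ q)
    (ρ : G →* (V ≃ₗ[ZMod q] V)) (hρ : Function.Injective ρ) (hE : EqStab ρ) (hc : CentFpf ρ)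
    (a z : G) (hz : z ∈ Subgroup.center G) (hz1 : z ≠ 1) (hz2 : z ^ 2 = 1) (ha2 : a ^ 2 = 1)
    (haz : a ∉ Subgroup.zpowers z) (hconj : ∀ g : G, ∃ k : ℕ, g * a * g⁻¹ = a * z ^ k) :
    (Nat.card V = q ^ 2 ∧ (∃ m : ℕ, q = 2 ^ m + 1) ∧
      ∃ e : V ≃ₗ[ZMod q] (Fin 2 → ZMod q), ∀ f : (Fin 2 → ZMod q) ≃ₗ[ZMod q] (Fin 2 → ZMod q),
        (∃ g : G, f = e.symm.trans ((ρ g).trans e)) ↔
        ∃ a s : ZMod q, a ≠ 0 ∧ (s = 1 ∨ s = -1) ∧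
          ((∀ v, f v = ![a * v 0, s * a⁻¹ * v 1]) ∨ (∀ v, f v = ![s * a⁻¹ * v 1, a * v 0]))) ∨
    (Nat.card V = 81 ∧ q = 3) := by
  obtain ⟨b, hb2, hb1, hbconj, hw, ht⟩ := Cfsg.Agent.Lib.H1.HT.two_normalize hq2 ρ hc a z hz hz1 hz2 ha2 haz hconj
  have hzneg : ∀ v : V, ρ z v = -v :=
    Cfsg.Agent.Lib.H6.HT.central_invol_neg ρ hc z hz hz1 (by rw [← pow_two]; exact hz2)
  have hstar := fun (w₁ w₂ : V) (h₁ : w₁ ≠ 0) (h₂ : w₂ ≠ 0) (hw₁ : ρ b w₁ = w₁) (hw₂ : ρ b w₂ = -w₂) =>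
    Cfsg.Agent.Lib.H4.HT.two_star hq2 ρ hE z b hz hzneg hb2 hbconj w₁ w₂ h₁ h₂ hw₁ hw₂
  obtain ⟨k, hk, hV⟩ := Cfsg.Agent.Lib.H25.HT.two_card hG hq2 ρ z b hz hzneg hb2 hbconj hw ht
    (fun w₁ w₂ h₁ h₂ hw₁ hw₂ => (hstar w₁ w₂ h₁ h₂ hw₁ hw₂).1)
  obtain ⟨d, hd, hQd⟩ := Cfsg.Agent.Lib.H15.HT.exists_pow_of_sq (q := q) (V := V) hV.symm
  rw [hQd] at hk
  rcases Cfsg.Agent.Lib.H15.HT.nt_one (Fact.out : q.Prime) (Ne.symm hq2) hd hk with h1 | ⟨h3, h2⟩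
  · left
    subst h1
    rw [pow_one] at hQd hk
    exact ⟨by rw [hV, hQd], ⟨k, hk⟩,
      Cfsg.Agent.Lib.H11.HT.two_endgame hq2 ρ hρ z b hz hzneg hb2 hb1 hbconj hw ht hstar hQd (by rw [hV, hQd])⟩
  · right
    refine ⟨?_, h3⟩
    rw [hV, hQd, h3, h2]
    norm_num

/-- Case A, common core for the dihedral and quasi-dihedral groups. -/
theorem case_A_core [Fact q.Prime] [Finite V] [Nontrivial V] [Finite G] (hq2 : 2 ≠ q)
    (ρ : G →* (V ≃ₗ[ZMod q] V)) (hE : EqStab ρ) (hns : ¬ Semireg ρ) (hc : CentFpf ρ) (n : ℕ)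
    (hn : 3 ≤ n) (x : G) (hx : orderOf x = 2 ^ n) (hG : Nat.card G = 2 ^ (n + 1)) (e : ℕ)
    (he : e % 4 = 3) (hconj : ∀ τ : G, τ ∉ Subgroup.zpowers x → τ * x * τ⁻¹ = x ^ e) (j : ℕ)
    (hj : 2 ≤ j) (hN : Nat.card {τ : G | τ ∉ Subgroup.zpowers x ∧ τ * τ = 1} = 2 ^ j) :
    Nat.card V = q ^ 2 ∧ q = 2 ^ j - 1 := by
  obtain ⟨T, hT⟩ : ∃ T : Set G, T = {τ : G | τ ∉ Subgroup.zpowers x ∧ τ * τ = 1} := ⟨_, rfl⟩
  have hmemT : ∀ τ : G, τ ∈ T ↔ (τ ∉ Subgroup.zpowers x ∧ τ * τ = 1) := by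
    intro τ
    rw [hT]
    rfl
  have hstab : ∀ v : V, v ≠ 0 → ∃ τ ∈ T, ρ τ v = v ∧ ∀ g : G, ρ g v = v → g = 1 ∨ g = τ := by
    intro v hv
    obtain ⟨τ, h1, h2, h3, h4⟩ :=
      Cfsg.Agent.Lib.H15.HT.dq_stab ρ hE hns hc n (by omega) x hx hG e (by omega) hconj v hv
    exact ⟨τ, (hmemT τ).mpr ⟨h1, h2⟩, h3, h4⟩
  have hT1 : (1 : G) ∉ T := fun h => ((hmemT 1).mp h).1 (one_mem _)
  have hhalf : ∀ τ ∈ T, Nat.card {v : V // ρ τ v = v} ^ 2 = Nat.card V := fun τ hτ =>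
    Cfsg.Agent.Lib.H11.HT.dq_half hq2 ρ hc n (by omega) x hx hG e he hconj τ ((hmemT τ).mp hτ).1 ((hmemT τ).mp hτ).2
  obtain ⟨Q, hQ2, hQN⟩ := Cfsg.Agent.Lib.H15.HT.dq_count ρ T hstab hT1 hhalf
  obtain ⟨d, hd, hQd⟩ := Cfsg.Agent.Lib.H15.HT.exists_pow_of_sq (q := q) (V := V) hQ2
  rw [hT, hN] at hQN
  have hd1 := Cfsg.Agent.Lib.H15.HT.nt_two (Fact.out : q.Prime) hd hj (by rw [← hQd]; exact hQN)
  subst hd1
  rw [pow_one] at hQd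
  refine ⟨by rw [← hQ2, hQd], ?_⟩
  rw [hQd] at hQN
  omega


end Pieces


/-- Let q be a prime, V a non-trivial finite vector space over the field with q elements, and G a finite p-group (p prime) acting faithfully and linearly on V such that all G-orbits on the non-zero vectors have the same size. Then one of the following holds: G is cyclic or generalized quaternion and acts semiregularly on the non-zero vectors; or V has q² elements with q = 2^m − 1 and G is dihedral of order 2^(m+1) or semidihedral of order 2^(m+2); or V has q² elements with q = 2^m + 1 and, in suitable coordinates V = F_q², G is exactly the group of maps (x, y) ↦ (a x, ± a⁻¹ y) and (x, y) ↦ (± a⁻¹ y, a x) with a ≠ 0; or V has 81 elements (q = 3) and G is a 2-group. -/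
theorem result (q : ℕ) [Fact q.Prime] {V : Type*} [AddCommGroup V] [Module (ZMod q) V] [Finite V] [Nontrivial V]
    {G : Type*} [Group G] [Finite G] (p : ℕ) [Fact p.Prime] (hG : IsPGroup p G)
    (ρ : G →* (V ≃ₗ[ZMod q] V)) (hρ : Function.Injective ρ)
    (hhalf : ∀ v w : V, v ≠ 0 → w ≠ 0 → Nat.card {u : V | ∃ g : G, ρ g v = u} = Nat.card {u : V | ∃ g : G, ρ g w = u}) :
    ((IsCyclic G ∨ ∃ n : ℕ, Nonempty (G ≃* QuaternionGroup n)) ∧ ∀ v : V, v ≠ 0 → ∀ g : G, ρ g v = v → g = 1) ∨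
    (Nat.card V = q ^ 2 ∧ ∃ m : ℕ, q = 2 ^ m - 1 ∧
      (Nonempty (G ≃* DihedralGroup (2 ^ m)) ∨ (Cfsg.IsQuasiDihedral G ∧ Nat.card G = 2 ^ (m + 2)))) ∨
    (Nat.card V = q ^ 2 ∧ (∃ m : ℕ, q = 2 ^ m + 1) ∧
      ∃ e : V ≃ₗ[ZMod q] (Fin 2 → ZMod q), ∀ f : (Fin 2 → ZMod q) ≃ₗ[ZMod q] (Fin 2 → ZMod q),
        (∃ g : G, f = e.symm.trans ((ρ g).trans e)) ↔
        ∃ a s : ZMod q, a ≠ 0 ∧ (s = 1 ∨ s = -1) ∧
          ((∀ v, f v = ![a * v 0, s * a⁻¹ * v 1]) ∨ (∀ v, f v = ![s * a⁻¹ * v 1, a * v 0]))) ∨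
    (Nat.card V = 81 ∧ q = 3 ∧ p = 2) := by
  by_cases hpq : p = q
  · subst hpq
    have ht := Cfsg.Agent.Lib.H24.HT.trivial_of_eq hG ρ hρ hhalf
    have : Subsingleton G := ⟨fun a b => (ht a).trans (ht b).symm⟩
    exact Or.inl ⟨Or.inl inferInstance, fun v _ g _ => ht g⟩
  have hE := Cfsg.Agent.Lib.H4.HT.eqStab_of_half ρ hhalf
  by_cases hsr : Semireg ρ
  · exact Or.inl ⟨Cfsg.Agent.Lib.H1.HT.cyclic_or_quat_of_semireg hG hpq ρ hsr, hsr⟩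
  have hc := Cfsg.Agent.Lib.H13.HT.centFpf hG hpq ρ hρ hE hsr
  by_cases hB : ∃ N : Subgroup G, N.Normal ∧ IsMulCommutative N ∧ ¬ IsCyclic N
  · obtain ⟨N, hN, hNc, hNnc⟩ := hB
    obtain ⟨a, z, hz, hz1, hzp, hap, haz, hconj⟩ := Cfsg.Agent.Lib.H20.HT.exists_normal_pair hG N hN hNc hNnc
    by_cases hp2 : p = 2
    · subst hp2
      rcases case_two hG hpq ρ hρ hE hc a z hz hz1 hzp hap haz hconj with h3 | ⟨h4, h4'⟩
      · exact Or.inr (Or.inr (Or.inl h3))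
      · exact Or.inr (Or.inr (Or.inr ⟨h4, h4', rfl⟩))
    · exact (Cfsg.Agent.Lib.H2.HT.false_of_odd hG hp2 hpq ρ hρ hE hc a z hz hz1 hzp hap haz hconj).elim
  · have hn : ∀ A : Subgroup G, A.Normal → IsMulCommutative A → IsCyclic A := by
      intro A hA hAc
      by_contra hcyc
      exact hB ⟨A, hA, hAc, hcyc⟩
    obtain ⟨g, z, hg, hg1, hz, hz1, hzp, hgz⟩ := Cfsg.Agent.Lib.H10.HT.exists_pair_of_not_semireg hG ρ hc hsr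
    have hm := Cfsg.Agent.Lib.H10.HT.noncyclic_of_pair (p := p) g z hg hg1 hz hz1 hzp hgz
    obtain ⟨hp2, hQ | hD | hQD⟩ := Cfsg.Agent.S0519.result p hG hn hm
    · obtain ⟨n, ⟨e⟩⟩ := hQ
      subst hp2
      exact (Cfsg.Agent.Lib.H22.HT.not_quaternion_of_pair n e g z hg hg1 hz1 hzp hgz).elim
    · subst hp2
      obtain ⟨n', hn', ⟨e⟩⟩ := hD
      obtain ⟨n, hn3, hnn, hcard, x, hx, hconj, hN⟩ := Cfsg.Agent.Lib.H22.HT.dihedral_data hG n' hn' e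
      obtain ⟨hV, hq⟩ := case_A_core hpq ρ hE hsr hc n hn3 x hx hcard (2 ^ n - 1)
        (four_dvd_pow (by omega)) hconj n (by omega) hN
      refine Or.inr (Or.inl ⟨hV, n, hq, Or.inl ?_⟩)
      rw [← hnn]
      exact ⟨e⟩
    · subst hp2
      obtain ⟨n, hn3, hcard, x, hx, hconj, hN⟩ := Cfsg.Agent.Lib.H22.HT.qd_data hQD
      obtain ⟨hV, hq⟩ := case_A_core hpq ρ hE hsr hc n hn3 x hx hcard (2 ^ (n - 1) - 1)
        (four_dvd_pow (by omega)) hconj (n - 1) (by omega) hN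
      refine Or.inr (Or.inl ⟨hV, n - 1, hq, Or.inr ⟨hQD, ?_⟩⟩)
      rw [hcard]
      congr 1
      omega


end Cfsg.Agent.S3371
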