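import Cfsg.Statements.S3374
import Mathlib
import Cfsg.Agent.Lib.H17.SL25
import Cfsg.Agent.Lib.H21.FrobSemidirect

set_option autoImplicit false
open Cfsg

namespace Cfsg.Agent.S3374

/-- SL(2,5) occurs as a Frobenius complement: there is a finite group L with a subgroup H isomorphic to SL(2,5) which is a non-trivial proper subgroup meeting each conjugate gHg⁻¹ with g outside H trivially. -/
theorem result :
    ∃ (L : Type) (_ : Group L) (_ : Finite L) (H : Subgroup L),
      Cfsg.IsFrobeniusComplement H ∧ Nonempty (H ≃* Matrix.SpecialLinearGroup (Fin 2) (ZMod 5)) := by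
  letI := Cfsg.Agent.Lib.H17.SL25.act
  haveI : Nontrivial (Matrix.SpecialLinearGroup (Fin 2) (ZMod 5)) := by
    refine ⟨⟨⟨!![1, 1; 0, 1], by decide⟩, 1, ?_⟩⟩
    intro h
    have h1 := congrArg (fun g : Matrix.SpecialLinearGroup (Fin 2) (ZMod 5) => g.1 0 1) h
    simp at h1
    exact absurd h1 (by decide)
  haveI : Fact (1 < 11) := ⟨by norm_num⟩
  haveI : Nontrivial (Fin 2 → ZMod 11) := Function.nontrivial
  exact Cfsg.Agent.Lib.H21.exists_frobenius_of_fpf_distribMulAction
    (V := Fin 2 → ZMod 11) (G := Matrix.SpecialLinearGroup (Fin 2) (ZMod 5))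
    Cfsg.Agent.Lib.H17.SL25.act_fpf

end Cfsg.Agent.S3374
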