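import Cfsg.Statements.S3375
import Mathlib

set_option autoImplicit false
open Cfsg

namespace Cfsg.Agent.S3375

theorem inv_of_twist {H : Type*} [Group H] (γ : MulAut H) (hγ2 : ∀ x, γ (γ x) = x) (x : H) :
    γ (x⁻¹ * γ x) = (x⁻¹ * γ x)⁻¹ := by
  rw [map_mul, map_inv, hγ2, mul_inv_rev, inv_inv]

theorem fiber_fix {H : Type*} [Group H] (γ : MulAut H) (x y : H)
    (h : x⁻¹ * γ x = y⁻¹ * γ y) : γ (y * x⁻¹) = y * x⁻¹ := by
  rw [map_mul, map_inv]
  have h1 : γ y = y * (x⁻¹ * γ x) := by rw [h]; group
  rw [h1]; group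

theorem comm_of_inv {H : Type*} [Group H] (γ : MulAut H) (a b : H)
    (ha : γ a = a⁻¹) (hb : γ b = b⁻¹) (hab : γ (a * b) = (a * b)⁻¹) : a * b = b * a := by
  rw [map_mul, ha, hb, mul_inv_rev] at hab
  have : (a⁻¹ * b⁻¹)⁻¹ = (b⁻¹ * a⁻¹)⁻¹ := by rw [hab]
  simpa using this.symm

theorem key {H : Type*} [Group H] [Finite H] (γ : MulAut H) (hγ2 : ∀ x, γ (γ x) = x)
    (A : Subgroup H) (hA : A.index = 2) (hAγ : ∀ x, x ∈ A ↔ γ x ∈ A)
    (hfix : Nat.card {h : H // γ h = h} = 2) :
    ∀ a ∈ A, γ a = a⁻¹ := by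
  classical
  have : Fintype H := Fintype.ofFinite H
  set f : H → H := fun x => x⁻¹ * γ x with hf
  set S : Finset H := Finset.univ.image f with hS
  set T : Finset H := Finset.univ.filter (· ∈ A) with hT
  have hST : S ⊆ T := by
    intro b hb
    rw [hS, Finset.mem_image] at hb
    obtain ⟨x, -, rfl⟩ := hb
    rw [hT, Finset.mem_filter]
    refine ⟨Finset.mem_univ _, ?_⟩
    rw [hf]
    simp only
    rw [Subgroup.mul_mem_iff_of_index_two hA, Subgroup.inv_mem_iff]
    exact hAγ x
  have hTcard : T.card = Nat.card A := by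
    rw [hT, Nat.card_eq_fintype_card, Fintype.card_subtype]
  have hfixcard : (Finset.univ.filter (fun h : H => γ h = h)).card = 2 := by
    rw [← hfix, Nat.card_eq_fintype_card, Fintype.card_subtype]
  have hfib : ∀ b ∈ S, (Finset.univ.filter (fun a => f a = b)).card ≤ 2 := by
    intro b hb
    rw [hS, Finset.mem_image] at hb
    obtain ⟨x0, -, rfl⟩ := hb
    rw [← hfixcard]
    apply Finset.card_le_card_of_injOn (fun a => a * x0⁻¹)
    · intro a ha
      simp only [Finset.coe_filter, Finset.mem_univ, true_and, Set.mem_setOf_eq] at ha ⊢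
      exact fiber_fix γ x0 a ha.symm
    · intro a _ a' _ haa'
      simpa using haa'
  have h1 : (Finset.univ : Finset H).card ≤ 2 * S.card :=
    Finset.card_le_mul_card_image Finset.univ 2 hfib
  have h2 : Nat.card H = 2 * Nat.card A := by
    rw [← hA, Subgroup.index_mul_card]
  have h3 : T.card ≤ S.card := by
    rw [hTcard]
    rw [Finset.card_univ, ← Nat.card_eq_fintype_card, h2] at h1
    omega
  have hSeqT : S = T := Finset.eq_of_subset_of_card_le hST h3
  intro a ha
  have : a ∈ S := by
    rw [hSeqT, hT, Finset.mem_filter]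
    exact ⟨Finset.mem_univ _, ha⟩
  rw [hS, Finset.mem_image] at this
  obtain ⟨x, -, rfl⟩ := this
  exact inv_of_twist γ hγ2 x

/-- Let γ be an automorphism of order 2 of a finite group H. (i) If γ fixes only the identity, then H is abelian and γ inverts every element. (ii) If γ has exactly two fixed points and H has a subgroup of index 2, then H has a γ-invariant abelian subgroup of index 2 on which γ acts by inversion. -/
theorem result {H : Type*} [Group H] [Finite H] (γ : MulAut H) (hγ : orderOf γ = 2) :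
    ((∀ h : H, γ h = h → h = 1) → (∀ a b : H, a * b = b * a) ∧ ∀ h : H, γ h = h⁻¹) ∧
    ((Nat.card {h : H // γ h = h} = 2 ∧ ∃ M : Subgroup H, M.index = 2) →
      ∃ A : Subgroup H, A.index = 2 ∧ IsMulCommutative A ∧ (∀ a ∈ A, γ a ∈ A) ∧ ∀ a ∈ A, γ a = a⁻¹) := by
  have hγsq : γ ^ 2 = 1 := by rw [← hγ]; exact pow_orderOf_eq_one γ
  have hγ2 : ∀ x, γ (γ x) = x := by
    intro x
    have := congrArg (fun φ : MulAut H => φ x) hγsq
    simpa [pow_two] using this
  constructor
  · intro hfix
    have hinj : Function.Injective (fun x : H => x⁻¹ * γ x) := by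
      intro x y hxy
      have := hfix _ (fiber_fix γ x y hxy)
      have h2 : y = (y * x⁻¹) * x := by group
      rw [h2, this, one_mul]
    have hsurj := Finite.injective_iff_surjective.mp hinj
    have hinv : ∀ h : H, γ h = h⁻¹ := by
      intro h
      obtain ⟨x, rfl⟩ := hsurj h
      exact inv_of_twist γ hγ2 x
    exact ⟨fun a b => comm_of_inv γ a b (hinv a) (hinv b) (hinv _), hinv⟩
  · rintro ⟨hfix, M, hM⟩
    -- find a γ-invariant subgroup of index two
    have hex : ∃ A : Subgroup H, A.index = 2 ∧ ∀ x, x ∈ A ↔ γ x ∈ A := by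
      by_cases hinv : ∀ x, x ∈ M → γ x ∈ M
      · refine ⟨M, hM, fun x => ⟨hinv x, fun h => ?_⟩⟩
        have := hinv _ h
        rwa [hγ2] at this
      · push Not at hinv
        obtain ⟨x0, hx0, hx0'⟩ := hinv
        let A : Subgroup H :=
          { carrier := {x | x ∈ M ↔ γ x ∈ M}
            one_mem' := by simp [M.one_mem]
            mul_mem' := by
              intro a b ha hb
              simp only [Set.mem_setOf_eq] at ha hb ⊢
              rw [map_mul, Subgroup.mul_mem_iff_of_index_two hM,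
                Subgroup.mul_mem_iff_of_index_two hM, ha, hb]
            inv_mem' := by
              intro a ha
              simp only [Set.mem_setOf_eq] at ha ⊢
              rw [map_inv, Subgroup.inv_mem_iff, Subgroup.inv_mem_iff, ha] }
        have hmemA : ∀ x, x ∈ A ↔ (x ∈ M ↔ γ x ∈ M) := fun x => Iff.rfl
        refine ⟨A, ?_, ?_⟩
        · rw [Subgroup.index_eq_two_iff]
          refine ⟨x0, fun b => ?_⟩
          rw [hmemA, hmemA, map_mul, Subgroup.mul_mem_iff_of_index_two hM,
            Subgroup.mul_mem_iff_of_index_two hM]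
          simp only [hx0, hx0', iff_true, iff_false]
          by_cases h1 : b ∈ M <;> by_cases h2 : γ b ∈ M <;> simp [h1, h2, Xor]
        · intro x
          rw [hmemA, hmemA, hγ2]
          tauto
    obtain ⟨A, hA, hAγ⟩ := hex
    have hinv := key γ hγ2 A hA hAγ hfix
    refine ⟨A, hA, ?_, fun a ha => (hAγ a).mp ha, hinv⟩
    constructor
    constructor
    rintro ⟨a, ha⟩ ⟨b, hb⟩
    apply Subtype.ext
    exact comm_of_inv γ a b (hinv a ha) (hinv b hb) (hinv _ (A.mul_mem ha hb))

end Cfsg.Agent.S3375
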