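import Cfsg.Statements.S3379
import Mathlib

set_option autoImplicit false
open Cfsg

namespace Cfsg.Agent.S3379

/-- Let G be a finite group all of whose Sylow subgroups are cyclic. Then G is generated by two elements x and y of coprime orders n and m with x⁻¹yx = y^r, where gcd(r − 1, m) = 1 and r^n ≡ 1 (mod m). -/
theorem result {G : Type*} [Group G] [Finite G]
    (hZ : ∀ (p : ℕ) [Fact p.Prime] (P : Sylow p G), IsCyclic (P : Subgroup G)) :
    ∃ (x y : G) (n m r : ℕ), Subgroup.closure {x, y} = ⊤ ∧ orderOf x = n ∧ orderOf y = m ∧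
      x⁻¹ * y * x = y ^ r ∧ Nat.Coprime (r - 1) m ∧ Nat.Coprime n m ∧ 1 ≤ r ∧ r ^ n % m = 1 % m := by
  haveI : IsZGroup G := ⟨fun p hp P => by haveI := Fact.mk hp; exact hZ p P⟩
  have hcyc : IsCyclic (commutator G) := IsZGroup.isCyclic_commutator (G := G)
  have hcop := IsZGroup.coprime_commutator_index G
  obtain ⟨K, hK⟩ := Subgroup.exists_right_complement'_of_coprime hcop
  have h1 : Abelianization G ≃* K := hK.symm.QuotientMulEquiv
  have hKc : IsCyclic K := isCyclic_of_surjective _ h1.surjective
  obtain ⟨y', hy'⟩ := hcyc.exists_generator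
  obtain ⟨x', hx'⟩ := hKc.exists_generator
  set x : G := (x' : G) with hx
  set y : G := (y' : G) with hy
  have hzy : Subgroup.zpowers y = commutator G := by
    apply le_antisymm
    · exact Subgroup.zpowers_le.mpr y'.2
    · intro g hg
      obtain ⟨k, hk⟩ := hy' ⟨g, hg⟩
      refine ⟨k, ?_⟩
      have := congrArg Subtype.val hk
      simpa using this
  have hzx : Subgroup.zpowers x = K := by
    apply le_antisymm
    · exact Subgroup.zpowers_le.mpr x'.2
    · intro g hg
      obtain ⟨k, hk⟩ := hx' ⟨g, hg⟩
      refine ⟨k, ?_⟩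
      have := congrArg Subtype.val hk
      simpa using this
  have hoy : orderOf y = Nat.card (commutator G) := by rw [← Nat.card_zpowers, hzy]
  have hox : orderOf x = Nat.card K := by rw [← Nat.card_zpowers, hzx]
  have hKidx : Nat.card K = (commutator G).index := by
    have e1 := hK.card_mul_card
    have e2 := (commutator G).card_mul_index
    have hpos : 0 < Nat.card (commutator G) := Nat.card_pos
    exact Nat.eq_of_mul_eq_mul_left hpos (e1.trans e2.symm)
  have hmpos : 0 < orderOf y := orderOf_pos y
  -- the exponent r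
  have hconj : x⁻¹ * y * x ∈ Subgroup.zpowers y := by
    rw [hzy]
    have := (inferInstance : (commutator G).Normal).conj_mem y y'.2 x⁻¹
    simpa using this
  obtain ⟨k, hk⟩ := hconj
  set r : ℕ := (k % (orderOf y : ℤ)).toNat + orderOf y with hr
  have hyr : x⁻¹ * y * x = y ^ r := by
    have hnn : 0 ≤ k % (orderOf y : ℤ) := Int.emod_nonneg _ (by exact_mod_cast hmpos.ne')
    have : y ^ r = y ^ k := by
      rw [hr, pow_add, pow_orderOf_eq_one, mul_one, ← zpow_natCast, Int.toNat_of_nonneg hnn,
        zpow_mod_orderOf]
    rw [this]; exact hk.symm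
  have hr1 : 1 ≤ r := by omega
  -- iterate
  have hiter : ∀ j : ℕ, (x ^ j)⁻¹ * y * x ^ j = y ^ (r ^ j) := by
    intro j
    induction j with
    | zero => simp
    | succ j ih =>
      have e : (x ^ (j + 1))⁻¹ * y * x ^ (j + 1) = x⁻¹ * ((x ^ j)⁻¹ * y * x ^ j) * x⁻¹⁻¹ := by
        rw [pow_succ]; group
      rw [e, ih, ← conj_pow, inv_inv, hyr, ← pow_mul, pow_succ, mul_comm]
  refine ⟨x, y, orderOf x, orderOf y, r, ?_, rfl, rfl, hyr, ?_, ?_, hr1, ?_⟩
  · -- generation
    rw [eq_top_iff, ← hK.sup_eq_top]
    apply sup_le
    · rw [← hzy]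
      exact Subgroup.zpowers_le.mpr (Subgroup.subset_closure (by simp))
    · rw [← hzx]
      exact Subgroup.zpowers_le.mpr (Subgroup.subset_closure (by simp))
  · -- gcd(r - 1, m) = 1
    set M : Subgroup G := Subgroup.zpowers (y ^ (r - 1)) with hM
    have hMle : M ≤ commutator G := by
      rw [← hzy]
      exact Subgroup.zpowers_le.mpr (Subgroup.pow_mem _ (Subgroup.mem_zpowers y) _)
    have hMn : M.Normal := by
      constructor
      rintro _ ⟨s, rfl⟩ g
      have hgy : g * y * g⁻¹ ∈ Subgroup.zpowers y := by
        rw [hzy]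
        exact (inferInstance : (commutator G).Normal).conj_mem y y'.2 g
      obtain ⟨j, hj⟩ := hgy
      refine ⟨j * s, ?_⟩
      have hj' : g * y * g⁻¹ = y ^ j := hj.symm
      change (y ^ (r - 1)) ^ (j * s) = g * (y ^ (r - 1)) ^ s * g⁻¹
      rw [← conj_zpow, ← conj_pow, hj', ← zpow_natCast, ← zpow_natCast, ← zpow_mul, ← zpow_mul,
        ← zpow_mul]
      congr 1
      ring
    -- quotient is commutative
    have hcomm : ∀ a b : G ⧸ M, a * b = b * a := by
      set xb : G ⧸ M := QuotientGroup.mk' M x with hxb
      set yb : G ⧸ M := QuotientGroup.mk' M y with hyb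
      have hxy : xb * yb = yb * xb := by
        have h2 : xb⁻¹ * yb * xb = yb := by
          rw [hxb, hyb, ← map_inv, ← map_mul, ← map_mul, hyr]
          have : y ^ r = y * y ^ (r - 1) := by
            rw [← pow_succ']; congr 1; omega
          rw [this, map_mul]
          have : QuotientGroup.mk' M (y ^ (r - 1)) = 1 := by
            rw [QuotientGroup.mk'_apply, QuotientGroup.eq_one_iff]
            exact Subgroup.mem_zpowers _
          rw [this, mul_one]
        calc xb * yb = xb * (xb⁻¹ * yb * xb) := by rw [h2]
          _ = yb * xb := by group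
      have hgen : Subgroup.closure ({xb, yb} : Set (G ⧸ M)) = ⊤ := by
        have hGtop : Subgroup.closure ({x, y} : Set G) = ⊤ := by
          rw [eq_top_iff, ← hK.sup_eq_top]
          apply sup_le
          · rw [← hzy]
            exact Subgroup.zpowers_le.mpr (Subgroup.subset_closure (by simp))
          · rw [← hzx]
            exact Subgroup.zpowers_le.mpr (Subgroup.subset_closure (by simp))
        have := congrArg (Subgroup.map (QuotientGroup.mk' M)) hGtop
        rw [MonoidHom.map_closure, Subgroup.map_top_of_surjective _ (QuotientGroup.mk'_surjective M)]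
          at this
        rw [← this]
        congr 1
        ext z; simp [Set.image_pair, hxb, hyb]
      have hcen : ({xb, yb} : Set (G ⧸ M)) ⊆ Subgroup.center (G ⧸ M) := by
        rw [← Subgroup.centralizer_eq_top_iff_subset, eq_top_iff, ← hgen, Subgroup.closure_le]
        intro z hz
        rw [SetLike.mem_coe, Subgroup.mem_centralizer_iff]
        intro w hw
        rcases hz with rfl | rfl <;> rcases hw with rfl | rfl
        · rfl
        · exact hxy.symm
        · exact hxy
        · rfl
      have htop : Subgroup.center (G ⧸ M) = ⊤ := by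
        rw [eq_top_iff, ← hgen, Subgroup.closure_le]
        exact hcen
      intro a b
      have : b ∈ Subgroup.center (G ⧸ M) := htop ▸ Subgroup.mem_top b
      exact (Subgroup.mem_center_iff.mp this a)
    have hle : commutator G ≤ M := by
      rw [commutator_def, Subgroup.commutator_le]
      intro a _ b _
      rw [← QuotientGroup.eq_one_iff, ← QuotientGroup.mk'_apply, map_commutatorElement,
        commutatorElement_eq_one_iff_commute]
      exact hcomm _ _
    have hMeq : M = Subgroup.zpowers y := by rw [hzy]; exact le_antisymm hMle hle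
    have hord : orderOf (y ^ (r - 1)) = orderOf y := by
      rw [← Nat.card_zpowers, ← hM, hMeq, Nat.card_zpowers]
    rw [orderOf_pow] at hord
    have hg : Nat.gcd (orderOf y) (r - 1) = 1 := by
      rcases Nat.div_eq_self.mp hord with h0 | h1
      · omega
      · exact h1
    rw [Nat.coprime_comm]
    exact hg
  · rw [hox, hoy, hKidx, Nat.coprime_comm]
    exact hcop
  · have h2 := hiter (orderOf x)
    rw [pow_orderOf_eq_one, inv_one, one_mul, mul_one] at h2
    have h3 : y ^ (r ^ orderOf x) = y ^ 1 := by rw [pow_one]; exact h2.symm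
    rw [pow_eq_pow_iff_modEq] at h3
    exact h3

end Cfsg.Agent.S3379
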