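import Cfsg.Statements.S3381
import Mathlib

set_option autoImplicit false
open Cfsg

namespace Cfsg.Agent.S3381

section prelim
variable {q : ℕ} [Fact q.Prime] {V : Type*} [AddCommGroup V] [Module (ZMod q) V]
  {G : Type*} [Group G] (ρ : G →* (V ≃ₗ[ZMod q] V))

/-- the hypothesis: every non-zero vector has a stabilizer of order 2 -/
def Hyp : Prop := ∀ v : V, v ≠ 0 → Nat.card {g : G // ρ g v = v} = 2

variable {ρ}

theorem stab_cases (h : Hyp ρ) {v : V} (hv : v ≠ 0) :
    ∃ t : G, t ≠ 1 ∧ ρ t v = v ∧ ∀ g, ρ g v = v → g = 1 ∨ g = t := by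
  have h2 := h v hv
  rw [Nat.card_eq_two_iff' (⟨1, by simp⟩ : {g : G // ρ g v = v})] at h2
  obtain ⟨⟨t, ht⟩, ht1, huniq⟩ := h2
  refine ⟨t, fun h1 => ht1 (Subtype.ext h1), ht, ?_⟩
  intro g hg
  by_cases hg1 : g = 1
  · exact Or.inl hg1
  · right
    have := huniq ⟨g, hg⟩ (fun he => hg1 (congrArg Subtype.val he))
    exact congrArg Subtype.val this

theorem two_fixers (h : Hyp ρ) {v : V} (hv : v ≠ 0) {a b : G} (ha : ρ a v = v) (hb : ρ b v = v)
    (ha1 : a ≠ 1) (hb1 : b ≠ 1) : a = b := by
  obtain ⟨t, _, _, hall⟩ := stab_cases h hv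
  rcases hall a ha with h1 | h1
  · exact absurd h1 ha1
  rcases hall b hb with h2 | h2
  · exact absurd h2 hb1
  rw [h1, h2]

theorem invol (h : Hyp ρ) {v : V} (hv : v ≠ 0) {t : G} (ht1 : t ≠ 1) (ht : ρ t v = v) :
    t * t = 1 := by
  by_contra hne
  have htt : ρ (t * t) v = v := by rw [map_mul, LinearEquiv.mul_apply, ht, ht]
  have := two_fixers h hv htt ht hne ht1
  apply ht1
  calc t = t⁻¹ * (t * t) := by group
    _ = t⁻¹ * t := by rw [this]
    _ = 1 := by group

theorem fix_add (t : G) (htt : t * t = 1) (u : V) : ρ t (u + ρ t u) = u + ρ t u := by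
  rw [map_add, ← LinearEquiv.mul_apply, ← map_mul, htt, map_one, add_comm]
  rfl

end prelim

section central
variable {q : ℕ} [Fact q.Prime] {V : Type*} [AddCommGroup V] [Module (ZMod q) V]
  {G : Type*} [Group G] {ρ : G →* (V ≃ₗ[ZMod q] V)}

/-- a central involution fixes no non-zero vector -/
theorem central_no_fix (hρ : Function.Injective ρ) (h : Hyp ρ) {z : G} (hz1 : z ≠ 1)
    (hzc : ∀ g : G, g * z = z * g) : ∀ u : V, u ≠ 0 → ρ z u ≠ u := by
  intro u hu hzu
  have hzz : z * z = 1 := invol h hu hz1 hzu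
  have hcomm : ∀ (g : G) (v : V), ρ z (ρ g v) = ρ g (ρ z v) := by
    intro g v
    rw [← LinearEquiv.mul_apply, ← LinearEquiv.mul_apply, ← map_mul, ← map_mul, hzc g]
  -- z fixes everything
  have hall : ∀ w : V, ρ z w = w := by
    intro w
    by_cases h2 : (2 : ZMod q) = 0
    · -- characteristic 2
      have hneg : ∀ v : V, -v = v := by
        intro v
        have : v + v = 0 := by
          rw [← two_smul (ZMod q) v, h2, zero_smul]
        exact (eq_neg_of_add_eq_zero_left this).symm
      by_cases hw : w = 0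
      · rw [hw, map_zero]
      obtain ⟨t, ht1, htw, _⟩ := stab_cases h hw
      have htt : t * t = 1 := invol h hw ht1 htw
      have hfix1 := fix_add (ρ := ρ) t htt u
      have hfix2 : ρ z (u + ρ t u) = u + ρ t u := by
        rw [map_add, hcomm, hzu]
      by_cases hu' : u + ρ t u = 0
      · have : ρ t u = u := by
          have := eq_neg_of_add_eq_zero_right hu'
          rw [this, hneg]
        have htz : t = z := two_fixers h hu this hzu ht1 hz1
        rw [← htz]; exact htw
      · have htz : t = z := two_fixers h hu' hfix1 hfix2 ht1 hz1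
        rw [← htz]; exact htw
    · -- odd characteristic
      have hcancel : ∀ x : V, x + x = 0 → x = 0 := by
        intro x hx
        rw [← two_smul (ZMod q) x] at hx
        rcases smul_eq_zero.mp hx with h0 | h0
        · exact absurd h0 h2
        · exact h0
      set wm : V := w - ρ z w with hwm
      have hzwm : ρ z wm = -wm := by
        rw [hwm, map_sub, ← LinearEquiv.mul_apply, ← map_mul, hzz, map_one]
        change ρ z w - w = -(w - ρ z w)
        abel
      by_contra hne
      have hwm0 : wm ≠ 0 := fun h0 => hne (by rw [hwm, sub_eq_zero] at h0; exact h0.symm)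
      set x : V := u + wm with hx
      have hx0 : x ≠ 0 := by
        intro hx0
        have hu1 : u = -wm := eq_neg_of_add_eq_zero_left hx0
        have : ρ z u = -u := by
          rw [hu1, map_neg, hzwm]
        rw [hzu] at this
        exact hu (hcancel u (by nth_rewrite 1 [this]; simp))
      obtain ⟨s, hs1, hsx, _⟩ := stab_cases h hx0
      have hzx : ρ z x = u - wm := by rw [hx, map_add, hzu, hzwm]; abel
      have hs2 : ρ s (u - wm) = u - wm := by
        rw [← hzx, ← hcomm, hsx]
      have hsu : ρ s (u + u) = u + u := by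
        have : u + u = x + (u - wm) := by rw [hx]; abel
        rw [this, map_add, hsx, hs2]
      have hsu' : ρ s u = u := by
        rw [map_add] at hsu
        have : (ρ s u - u) + (ρ s u - u) = 0 := by
          have e : (ρ s u - u) + (ρ s u - u) = (ρ s u + ρ s u) - (u + u) := by abel
          rw [e, hsu, sub_self]
        exact sub_eq_zero.mp (hcancel _ this)
      have hsz : s = z := two_fixers h hu hsu' hzu hs1 hz1
      rw [hsz, hzx] at hsx
      apply hwm0
      apply hcancel
      have : wm + wm = (u + wm) - (u - wm) := by abel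
      rw [this, ← hx, hsx, sub_self]
  apply hz1
  apply hρ
  rw [map_one]
  ext w
  exact hall w

/-- a central involution acts as `-1` -/
theorem central_neg (hρ : Function.Injective ρ) (h : Hyp ρ) {z : G} (hz1 : z ≠ 1) (hzz : z * z = 1)
    (hzc : ∀ g : G, g * z = z * g) : ∀ v : V, ρ z v = -v := by
  intro v
  have := fix_add (ρ := ρ) z hzz v
  by_cases hv : v + ρ z v = 0
  · exact (eq_neg_of_add_eq_zero_right hv)
  · exact absurd this (central_no_fix hρ h hz1 hzc _ hv)

theorem cancel_two (hρ : Function.Injective ρ) (h : Hyp ρ) {z : G} (hz1 : z ≠ 1) (hzz : z * z = 1)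
    (hzc : ∀ g : G, g * z = z * g) : ∀ x : V, x + x = 0 → x = 0 := by
  intro x hx
  by_contra hx0
  apply central_no_fix hρ h hz1 hzc x hx0
  rw [central_neg hρ h hz1 hzz hzc]
  exact (eq_neg_of_add_eq_zero_left hx).symm

end central

section counting
variable {q : ℕ} [Fact q.Prime] {V : Type*} [AddCommGroup V] [Module (ZMod q) V] [Finite V]
  {G : Type*} [Group G] {ρ : G →* (V ≃ₗ[ZMod q] V)}

/-- the fixed space of `t` -/
def fixS (ρ : G →* (V ≃ₗ[ZMod q] V)) (t : G) : Submodule (ZMod q) V where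
  carrier := {v | ρ t v = v}
  add_mem' := by
    intro a b ha hb
    simp only [Set.mem_ofPred_eq] at *
    rw [map_add, ha, hb]
  zero_mem' := map_zero _
  smul_mem' := by
    intro c a ha
    simp only [Set.mem_ofPred_eq] at *
    rw [map_smul, ha]

omit [Finite V] in
theorem mem_fixS {t : G} {v : V} : v ∈ fixS ρ t ↔ ρ t v = v := Iff.rfl

/-- the standing assumptions -/
structure Setup (ρ : G →* (V ≃ₗ[ZMod q] V)) (z : G) : Prop where
  inj : Function.Injective ρ
  hyp : Hyp ρ
  z1 : z ≠ 1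
  zz : z * z = 1
  zc : ∀ g : G, g * z = z * g

variable {z : G}

omit [Finite V] in
theorem Setup.neg (S : Setup ρ z) (v : V) : ρ z v = -v := central_neg S.inj S.hyp S.z1 S.zz S.zc v

omit [Finite V] in
theorem Setup.cancel (S : Setup ρ z) (x : V) (hx : x + x = 0) : x = 0 :=
  cancel_two S.inj S.hyp S.z1 S.zz S.zc x hx

/-- the relevant involutions -/
def IsInv (z t : G) : Prop := t ≠ 1 ∧ t * t = 1 ∧ t ≠ z

omit [Finite V] in
theorem Setup.isInv_mul (S : Setup ρ z) {t : G} (ht : IsInv z t) : IsInv z (t * z) := by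
  obtain ⟨h1, h2, h3⟩ := ht
  refine ⟨?_, ?_, ?_⟩
  · intro h
    apply h3
    calc t = t * z * z := by rw [mul_assoc, S.zz, mul_one]
      _ = z := by rw [h, one_mul]
  · calc t * z * (t * z) = t * (z * t) * z := by group
      _ = t * (t * z) * z := by rw [S.zc t]
      _ = (t * t) * (z * z) := by group
      _ = 1 := by rw [h2, S.zz, mul_one]
  · intro h
    apply h1
    calc t = t * z * z⁻¹ := by group
      _ = 1 := by rw [h]; group

omit [Finite V] in
theorem Setup.fix_mul (S : Setup ρ z) (t : G) (v : V) : v ∈ fixS ρ (t * z) ↔ ρ t v = -v := by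
  rw [mem_fixS, map_mul, LinearEquiv.mul_apply, S.neg, map_neg, neg_eq_iff_eq_neg]

omit [Finite V] in
theorem Setup.fixS_ne_bot (S : Setup ρ z) {t : G} (ht : IsInv z t) : fixS ρ t ≠ ⊥ := by
  obtain ⟨h1, h2, h3⟩ := ht
  have hex : ∃ v : V, ρ t v ≠ -v := by
    by_contra hcon
    push Not at hcon
    apply h3
    apply S.inj
    ext v
    rw [hcon, S.neg]
  obtain ⟨v, hv⟩ := hex
  intro hbot
  have hmem : v + ρ t v ∈ fixS ρ t := fix_add t h2 v
  rw [hbot, Submodule.mem_bot] at hmem
  exact hv (eq_neg_of_add_eq_zero_right hmem)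

omit [Finite V] in
theorem Setup.fixS_ne_top (S : Setup ρ z) {t : G} (ht : t ≠ 1) : fixS ρ t ≠ ⊤ := by
  intro htop
  apply ht
  apply S.inj
  rw [map_one]
  ext v
  have : v ∈ fixS ρ t := htop ▸ Submodule.mem_top
  exact this

omit [Finite V] in
theorem Setup.inf_eq_bot (S : Setup ρ z) {t t' : G} (ht : t ≠ 1) (ht' : t' ≠ 1) (hne : t ≠ t') :
    fixS ρ t ⊓ fixS ρ t' = ⊥ := by
  rw [eq_bot_iff]
  intro d hd
  rw [Submodule.mem_bot]
  by_contra hd0
  exact hne (two_fixers S.hyp hd0 hd.1 hd.2 ht ht')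

theorem card_mul_le_of_inf_eq_bot (A B : Submodule (ZMod q) V) (h : A ⊓ B = ⊥) :
    Nat.card A * Nat.card B ≤ Nat.card V := by
  rw [← Nat.card_prod]
  apply Nat.card_le_card_of_injective (fun p : A × B => (p.1 : V) + (p.2 : V))
  rintro ⟨a, b⟩ ⟨a', b'⟩ hab
  simp only at hab
  have hd : (a : V) - a' = (b' : V) - b := by
    have : (a : V) - a' - ((b' : V) - b) = ((a : V) + b) - ((a' : V) + b') := by abel
    rw [← sub_eq_zero, this, hab, sub_self]
  have hmem : (a : V) - a' ∈ A ⊓ B := ⟨A.sub_mem a.2 a'.2, hd ▸ B.sub_mem b'.2 b.2⟩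
  rw [h, Submodule.mem_bot] at hmem
  have hmem2 : (b' : V) - b = 0 := hd ▸ hmem
  rw [sub_eq_zero] at hmem hmem2
  exact Prod.ext (Subtype.ext hmem) (Subtype.ext hmem2.symm)

theorem Setup.card_mul (S : Setup ρ z) {t : G} (htt : t * t = 1) :
    Nat.card (fixS ρ t) * Nat.card (fixS ρ (t * z)) = Nat.card V := by
  apply le_antisymm
  · apply card_mul_le_of_inf_eq_bot
    rw [eq_bot_iff]
    intro d hd
    rw [Submodule.mem_bot]
    apply S.cancel
    have h1 : ρ t d = d := hd.1
    have h2 : ρ t d = -d := (S.fix_mul t d).mp hd.2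
    rw [h1] at h2
    nth_rewrite 1 [h2]
    simp
  · rw [← Nat.card_prod]
    have hm1 : ∀ v : V, v + ρ t v ∈ fixS ρ t := fun v => fix_add t htt v
    have hm2 : ∀ v : V, v - ρ t v ∈ fixS ρ (t * z) := by
      intro v
      rw [S.fix_mul, map_sub, ← LinearEquiv.mul_apply, ← map_mul, htt, map_one]
      change ρ t v - v = -(v - ρ t v)
      abel
    apply Nat.card_le_card_of_injective
      (fun v : V => ((⟨v + ρ t v, hm1 v⟩, ⟨v - ρ t v, hm2 v⟩) : fixS ρ t × fixS ρ (t * z)))
    intro v v' hvv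
    simp only [Prod.mk.injEq, Subtype.mk.injEq] at hvv
    obtain ⟨e1, e2⟩ := hvv
    have : (v - v') + (v - v') = 0 := by
      have e : (v - v') + (v - v') = (v + ρ t v) + (v - ρ t v) - ((v' + ρ t v') + (v' - ρ t v')) := by
        abel
      rw [e, e1, e2, sub_self]
    exact sub_eq_zero.mp (S.cancel _ this)

end counting

section final
variable {q : ℕ} [Fact q.Prime] {V : Type*} [AddCommGroup V] [Module (ZMod q) V] [Finite V]
  {G : Type*} [Group G] {ρ : G →* (V ≃ₗ[ZMod q] V)} {z : G}

/-- the stabilizing involution of a non-zero vector -/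
theorem Setup.exists_inv (S : Setup ρ z) {v : V} (hv : v ≠ 0) :
    ∃ t : G, IsInv z t ∧ v ∈ fixS ρ t := by
  obtain ⟨t, ht1, htv, _⟩ := stab_cases S.hyp hv
  refine ⟨t, ⟨ht1, invol S.hyp hv ht1 htv, ?_⟩, htv⟩
  rintro rfl
  exact central_no_fix S.inj S.hyp S.z1 S.zc v hv htv

theorem Setup.two_le_card (S : Setup ρ z) {t : G} (ht : IsInv z t) : 2 ≤ Nat.card (fixS ρ t) := by
  have hne := S.fixS_ne_bot ht
  obtain ⟨v, hv, hv0⟩ := (Submodule.ne_bot_iff _).mp hne
  haveI : Nontrivial (fixS ρ t) := ⟨⟨⟨v, hv⟩, 0, fun h => hv0 (congrArg Subtype.val h)⟩⟩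
  exact Finite.one_lt_card

/-- not both: `c t ^ 2 > Q` is impossible -/
theorem Setup.sq_le (S : Setup ρ z) {t : G} (ht : IsInv z t) :
    Nat.card (fixS ρ t) * Nat.card (fixS ρ t) ≤ Nat.card V := by
  by_contra hgt
  push Not at hgt
  have htz := S.isInv_mul ht
  have hQ := S.card_mul ht.2.1
  -- every involution is t or t z
  have honly : ∀ t' : G, IsInv z t' → t' = t ∨ t' = t * z := by
    intro t' ht'
    by_contra hcon
    push Not at hcon
    obtain ⟨hne1, hne2⟩ := hcon
    have h1 := card_mul_le_of_inf_eq_bot _ _ (S.inf_eq_bot ht'.1 ht.1 hne1)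
    have hne3 : t' * z ≠ t := by
      intro h
      apply hne2
      calc t' = t' * z * z := by rw [mul_assoc, S.zz, mul_one]
        _ = t * z := by rw [h]
    have h2 := card_mul_le_of_inf_eq_bot _ _ (S.inf_eq_bot (S.isInv_mul ht').1 ht.1 hne3)
    have hQ' := S.card_mul ht'.2.1
    have hVpos : 0 < Nat.card V := Nat.card_pos
    have h3 : Nat.card V * (Nat.card (fixS ρ t) * Nat.card (fixS ρ t)) ≤ Nat.card V * Nat.card V := by
      calc Nat.card V * (Nat.card (fixS ρ t) * Nat.card (fixS ρ t))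
          = (Nat.card (fixS ρ t') * Nat.card (fixS ρ t)) *
            (Nat.card (fixS ρ (t' * z)) * Nat.card (fixS ρ t)) := by rw [← hQ']; ring
        _ ≤ Nat.card V * Nat.card V := Nat.mul_le_mul h1 h2
    have := Nat.le_of_mul_le_mul_left h3 hVpos
    omega
  -- V is the union of two proper subspaces
  have hcover : ∀ v : V, v ∈ fixS ρ t ∨ v ∈ fixS ρ (t * z) := by
    intro v
    by_cases hv : v = 0
    · left; rw [hv]; exact Submodule.zero_mem _
    obtain ⟨t', ht', hvt'⟩ := S.exists_inv hv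
    rcases honly t' ht' with rfl | rfl
    · exact Or.inl hvt'
    · exact Or.inr hvt'
  obtain ⟨a, ha⟩ : ∃ a : V, a ∉ fixS ρ t := by
    by_contra hcon
    push Not at hcon
    exact S.fixS_ne_top ht.1 (eq_top_iff.mpr fun v _ => hcon v)
  obtain ⟨b, hb⟩ : ∃ b : V, b ∉ fixS ρ (t * z) := by
    by_contra hcon
    push Not at hcon
    exact S.fixS_ne_top htz.1 (eq_top_iff.mpr fun v _ => hcon v)
  have ha' : a ∈ fixS ρ (t * z) := (hcover a).resolve_left ha
  have hb' : b ∈ fixS ρ t := (hcover b).resolve_right hb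
  rcases hcover (a + b) with h | h
  · apply ha
    have := (fixS ρ t).sub_mem h hb'
    simpa using this
  · apply hb
    have := (fixS ρ (t * z)).sub_mem h ha'
    simpa using this

theorem Setup.sq_eq (S : Setup ρ z) {t : G} (ht : IsInv z t) :
    Nat.card (fixS ρ t) * Nat.card (fixS ρ t) = Nat.card V := by
  apply le_antisymm (S.sq_le ht)
  have h1 := S.sq_le (S.isInv_mul ht)
  have hQ := S.card_mul ht.2.1
  set a := Nat.card (fixS ρ t)
  set b := Nat.card (fixS ρ (t * z))
  have hapos : 0 < a := Nat.card_pos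
  -- b * b ≤ a * b  ⇒ b ≤ a ⇒ a * b ≤ a * a
  rw [← hQ] at h1 ⊢
  have hbpos : 0 < b := Nat.card_pos
  have hba : b ≤ a := Nat.le_of_mul_le_mul_left (by rw [mul_comm a b] at h1; exact h1) hbpos
  exact Nat.mul_le_mul_left a hba

end final

/-- Let G be a finite group acting faithfully and linearly on a non-trivial finite vector space V over the field with q elements (q prime) so that every non-zero vector has a stabilizer of order 2, and suppose G has a central involution. Then V has q^(2r) elements for some r and G contains exactly q^r + 1 non-central involutions. -/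
theorem result
    (q : ℕ) [Fact q.Prime] {V : Type*} [AddCommGroup V] [Module (ZMod q) V] [Finite V] [Nontrivial V]
    {G : Type*} [Group G] [Finite G] (ρ : G →* (V ≃ₗ[ZMod q] V)) (hρ : Function.Injective ρ)
    (hstab : ∀ v : V, v ≠ 0 → Nat.card {g : G // ρ g v = v} = 2)
    (z : G) (hz : orderOf z = 2) (hzc : z ∈ Subgroup.center G) :
    ∃ r : ℕ, Nat.card V = q ^ (2 * r) ∧
      Nat.card {g : G // orderOf g = 2 ∧ g ∉ Subgroup.center G} = q ^ r + 1 := by
  have hz1 : z ≠ 1 := by
    rintro rfl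
    rw [orderOf_one] at hz
    norm_num at hz
  have hzz : z * z = 1 := by rw [← pow_two, ← hz, pow_orderOf_eq_one]
  have hzc' : ∀ g : G, g * z = z * g := fun g => Subgroup.mem_center_iff.mp hzc g
  have S : Setup ρ z := ⟨hρ, hstab, hz1, hzz, hzc'⟩
  have hInv : ∀ t : G, (orderOf t = 2 ∧ t ∉ Subgroup.center G) ↔ IsInv z t := by
    intro t
    constructor
    · rintro ⟨ho, hc⟩
      refine ⟨?_, ?_, ?_⟩
      · rintro rfl
        rw [orderOf_one] at ho
        norm_num at ho
      · rw [← pow_two, ← ho, pow_orderOf_eq_one]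
      · rintro rfl
        exact hc hzc
    · rintro ⟨h1, h2, h3⟩
      refine ⟨orderOf_eq_prime (by rw [pow_two]; exact h2) h1, ?_⟩
      intro hc
      apply h3
      apply hρ
      ext v
      rw [central_neg hρ hstab h1 h2 (fun g => Subgroup.mem_center_iff.mp hc g), S.neg]
  obtain ⟨v₀, hv₀⟩ := exists_ne (0 : V)
  obtain ⟨t₀, ht₀, -⟩ := S.exists_inv hv₀
  set c := Nat.card (fixS ρ t₀) with hc
  have hcc : c * c = Nat.card V := S.sq_eq ht₀
  have hc2 : 2 ≤ c := S.two_le_card ht₀
  have hall : ∀ t : G, IsInv z t → Nat.card (fixS ρ t) = c := by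
    intro t ht
    have := S.sq_eq ht
    rw [← hcc] at this
    exact Nat.mul_self_inj.mp this
  have hcq : c = q ^ Module.finrank (ZMod q) (fixS ρ t₀) := by
    rw [hc, Module.natCard_eq_pow_finrank (K := ZMod q) (V := fixS ρ t₀), Nat.card_zmod]
  refine ⟨Module.finrank (ZMod q) (fixS ρ t₀), ?_, ?_⟩
  · rw [← hcc, hcq, two_mul, pow_add]
  -- the count
  rw [← hcq]
  set InvT := {g : G // orderOf g = 2 ∧ g ∉ Subgroup.center G} with hInvT
  haveI : Fintype InvT := Fintype.ofFinite _
  let f : (Σ t : InvT, ↥(((fixS ρ t.1 : Submodule (ZMod q) V) : Set V) \ {0})) →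
      ↥((Set.univ : Set V) \ {0}) := fun p => ⟨p.2.1, ⟨Set.mem_univ _, p.2.2.2⟩⟩
  have hfbij : Function.Bijective f := by
    constructor
    · rintro ⟨⟨t, ht⟩, ⟨v, hv⟩⟩ ⟨⟨t', ht'⟩, ⟨v', hv'⟩⟩ hff
      have hvv : v = v' := congrArg Subtype.val hff
      subst hvv
      have htt : t = t' :=
        two_fixers hstab hv.2 hv.1 hv'.1 ((hInv t).mp ht).1 ((hInv t').mp ht').1
      subst htt
      rfl
    · rintro ⟨v, -, hv⟩
      have hv0 : v ≠ 0 := hv
      obtain ⟨t, ht, hvt⟩ := S.exists_inv hv0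
      exact ⟨⟨⟨t, (hInv t).mpr ht⟩, ⟨v, ⟨hvt, hv⟩⟩⟩, rfl⟩
  have hcard := Nat.card_congr (Equiv.ofBijective f hfbij)
  rw [Nat.card_sigma] at hcard
  have hfib : ∀ t : InvT, Nat.card ↥(((fixS ρ t.1 : Submodule (ZMod q) V) : Set V) \ {0}) = c - 1 := by
    intro t
    rw [_root_.Nat.card_coe_set_eq, Set.ncard_sdiff_singleton_of_mem (Submodule.zero_mem _),
      ← _root_.Nat.card_coe_set_eq]
    have : Nat.card ↥((fixS ρ t.1 : Submodule (ZMod q) V) : Set V) = Nat.card (fixS ρ t.1) := rfl
    rw [this, hall t.1 ((hInv t.1).mp t.2)]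
  have huniv : Nat.card ↥((Set.univ : Set V) \ {0}) = c * c - 1 := by
    rw [_root_.Nat.card_coe_set_eq, Set.ncard_sdiff_singleton_of_mem (Set.mem_univ _), Set.ncard_univ,
      hcc]
  rw [huniv] at hcard
  simp_rw [hfib] at hcard
  rw [Finset.sum_const, Finset.card_univ, smul_eq_mul, ← Nat.card_eq_fintype_card] at hcard
  -- Nat.card InvT * (c - 1) = c * c - 1
  have hc1 : 0 < c - 1 := by omega
  have : Nat.card InvT * (c - 1) = (c + 1) * (c - 1) := by
    rw [hcard]
    have key : ∀ n : ℕ, 1 ≤ n → n * n - 1 = (n + 1) * (n - 1) := by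
      intro n hn
      cases n with
      | zero => omega
      | succ d =>
        simp only [Nat.add_sub_cancel]
        have : (d + 1) * (d + 1) = (d + 1 + 1) * d + 1 := by ring
        rw [this, Nat.add_sub_cancel]
    have : c * c - 1 = (c + 1) * (c - 1) := key c (by omega)
    exact this
  exact Nat.eq_of_mul_eq_mul_right hc1 this

end Cfsg.Agent.S3381
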