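import Cfsg.Statements.S3382
import Mathlib

set_option autoImplicit false
open Cfsg

namespace Cfsg.Agent.S3382

/-! ### Abstract part: odd-order automorphisms and chains -/

theorem step {T : Type*} [Group T] (φ : MulAut T) (n : ℕ) (hn : Odd n) (hφ : φ ^ n = 1)
    (h2 : ∀ t : T, ∃ k : ℕ, t ^ (2 ^ k) = 1)
    (A B : T → Prop)
    (hB : ∀ x, B x → B (φ x)) (hA : ∀ x, A x → φ x = x)
    (hidx : ∀ x y, B x → ¬ A x → B y → ¬ A y → A (x⁻¹ * y)) :
    ∀ x, B x → φ x = x := by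
  intro x hx
  by_cases hAx : A x
  · exact hA x hAx
  have hy : B (φ x) := hB x hx
  have hAy : ¬ A (φ x) := by
    intro h
    have h1 := hA _ h
    have h2 : φ x = x := φ.injective h1
    rw [h2] at h; exact hAx h
  have ht := hidx x (φ x) hx hAx hy hAy
  have hφt : φ (x⁻¹ * φ x) = x⁻¹ * φ x := hA _ ht
  have hφx : φ x = x * (x⁻¹ * φ x) := by group
  have hpow : ∀ j : ℕ, (φ ^ j) x = x * (x⁻¹ * φ x) ^ j := by
    intro j
    induction j with
    | zero => simp
    | succ j ih =>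
      rw [pow_succ', MulAut.mul_apply, ih, map_mul, map_pow, hφt, pow_succ', ← mul_assoc x,
        mul_inv_cancel_left]
  have h3 := hpow n
  rw [hφ, MulAut.one_apply] at h3
  have h4 : (x⁻¹ * φ x) ^ n = 1 := by
    have := h3.symm
    rwa [mul_eq_left] at this
  obtain ⟨k, hk⟩ := h2 (x⁻¹ * φ x)
  have h5 : x⁻¹ * φ x = 1 := by
    have hcop : Nat.Coprime n (2 ^ k) := (Nat.Coprime.pow_right k hn.coprime_two_right)
    have h6 : orderOf (x⁻¹ * φ x) ∣ Nat.gcd n (2 ^ k) :=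
      Nat.dvd_gcd (orderOf_dvd_of_pow_eq_one h4) (orderOf_dvd_of_pow_eq_one hk)
    rw [hcop.gcd_eq_one, Nat.dvd_one, orderOf_eq_one_iff] at h6
    exact h6
  rw [hφx, h5, mul_one]

theorem isPGroup_two_of_odd {T : Type*} [Group T] [Finite T]
    (hodd : ∀ (φ : MulAut T) (n : ℕ), Odd n → φ ^ n = 1 → φ = 1) : IsPGroup 2 (MulAut T) := by
  intro φ
  haveI : Finite (MulAut T) := Finite.of_injective (fun f : MulAut T => (f : T → T))
    (fun f g h => MulEquiv.ext (fun x => congrFun h x))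
  have hpos : orderOf φ ≠ 0 := (orderOf_pos φ).ne'
  obtain ⟨k, n, hn, hkn⟩ := Nat.exists_eq_two_pow_mul_odd hpos
  refine ⟨k, ?_⟩
  apply hodd (φ ^ (2 ^ k)) n hn
  rw [← pow_mul, ← hkn, pow_orderOf_eq_one]
/-! ### Diagonal / antidiagonal calculus -/

section dcalc
variable {q : ℕ} [Fact q.Prime]

/-- `f` is `(x, y) ↦ (a x, b y)`. -/
def IsD (f : (Fin 2 → ZMod q) ≃ₗ[ZMod q] (Fin 2 → ZMod q)) (a b : ZMod q) : Prop :=
  ∀ v, f v = ![a * v 0, b * v 1]

/-- `f` is `(x, y) ↦ (b y, a x)`. -/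
def IsA (f : (Fin 2 → ZMod q) ≃ₗ[ZMod q] (Fin 2 → ZMod q)) (a b : ZMod q) : Prop :=
  ∀ v, f v = ![b * v 1, a * v 0]

variable {f g : (Fin 2 → ZMod q) ≃ₗ[ZMod q] (Fin 2 → ZMod q)} {a b c d : ZMod q}

theorem IsD.mul (hf : IsD f a b) (hg : IsD g c d) : IsD (f * g) (a * c) (b * d) := by
  intro v
  rw [LinearEquiv.mul_apply, hg v, hf]
  simp [mul_assoc]

theorem IsD.mulA (hf : IsD f a b) (hg : IsA g c d) : IsA (f * g) (b * c) (a * d) := by
  intro v
  rw [LinearEquiv.mul_apply, hg v, hf]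
  simp [mul_assoc]

theorem IsA.mulD (hf : IsA f a b) (hg : IsD g c d) : IsA (f * g) (a * c) (b * d) := by
  intro v
  rw [LinearEquiv.mul_apply, hg v, hf]
  simp [mul_assoc]

theorem IsA.mul (hf : IsA f a b) (hg : IsA g c d) : IsD (f * g) (b * c) (a * d) := by
  intro v
  rw [LinearEquiv.mul_apply, hg v, hf]
  simp [mul_assoc]

theorem IsD.one : IsD (1 : (Fin 2 → ZMod q) ≃ₗ[ZMod q] (Fin 2 → ZMod q)) 1 1 := by
  intro v
  ext i
  fin_cases i <;> simp

theorem IsD.pow (hf : IsD f a b) (n : ℕ) : IsD (f ^ n) (a ^ n) (b ^ n) := by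
  induction n with
  | zero => simpa using IsD.one
  | succ n ih => rw [pow_succ, pow_succ, pow_succ]; exact ih.mul hf

theorem IsD.ext (hf : IsD f a b) (hg : IsD g a b) : f = g := by
  ext v i
  rw [hf v, hg v]

theorem IsA.ext (hf : IsA f a b) (hg : IsA g a b) : f = g := by
  ext v i
  rw [hf v, hg v]

theorem IsD.congr (hf : IsD f a b) (h1 : a = c) (h2 : b = d) : IsD f c d := by
  subst h1; subst h2; exact hf

theorem IsA.congr (hf : IsA f a b) (h1 : a = c) (h2 : b = d) : IsA f c d := by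
  subst h1; subst h2; exact hf

theorem IsD.unique (hf : IsD f a b) (hg : IsD f c d) : a = c ∧ b = d := by
  have h := (hf (fun _ => 1)).symm.trans (hg (fun _ => 1))
  have h0 := congrFun h 0
  have h1 := congrFun h 1
  simp at h0 h1
  exact ⟨h0, h1⟩

theorem IsD.not_isA (hf : IsD f a b) (hg : IsA f c d) : a = 0 := by
  have h := (hf ![1, 0]).symm.trans (hg ![1, 0])
  have h0 := congrFun h 0
  simpa using h0

theorem IsD.inv (hf : IsD f a b) (ha : a ≠ 0) (hb : b ≠ 0) : IsD f⁻¹ a⁻¹ b⁻¹ := by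
  intro v
  apply f.injective
  have : f (f⁻¹ v) = v := by
    rw [← LinearEquiv.mul_apply, mul_inv_cancel]; rfl
  rw [this, hf]
  ext i
  fin_cases i <;> simp [ha, hb]

theorem IsA.inv (hf : IsA f a b) (ha : a ≠ 0) (hb : b ≠ 0) : IsA f⁻¹ b⁻¹ a⁻¹ := by
  intro v
  apply f.injective
  have : f (f⁻¹ v) = v := by
    rw [← LinearEquiv.mul_apply, mul_inv_cancel]; rfl
  rw [this, hf]
  ext i
  fin_cases i <;> simp [ha, hb]

theorem IsD.eq_one_iff (hf : IsD f a b) : f = 1 ↔ a = 1 ∧ b = 1 := by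
  constructor
  · intro h
    subst h
    exact hf.unique IsD.one
  · rintro ⟨rfl, rfl⟩
    exact hf.ext IsD.one

/-- The diagonal map `(x, y) ↦ (a x, b y)` as a linear equivalence. -/
def mkD (a b : ZMod q) (ha : a ≠ 0) (hb : b ≠ 0) :
    (Fin 2 → ZMod q) ≃ₗ[ZMod q] (Fin 2 → ZMod q) where
  toFun v := ![a * v 0, b * v 1]
  invFun v := ![a⁻¹ * v 0, b⁻¹ * v 1]
  map_add' v w := by
    ext i; fin_cases i <;> simp [mul_add]
  map_smul' r v := by
    ext i; fin_cases i <;> simp [mul_left_comm]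
  left_inv v := by
    ext i; fin_cases i <;> simp [ha, hb]
  right_inv v := by
    ext i; fin_cases i <;> simp [ha, hb]

theorem isD_mkD (ha : a ≠ 0) (hb : b ≠ 0) : IsD (mkD a b ha hb) a b := fun _ => rfl

end dcalc
/-! ### The group `T` -/

section tgroup
variable {q : ℕ} [Fact q.Prime]

/-- `a b = ± 1`. -/
def Par (a b : ZMod q) : Prop := a * b = 1 ∨ a * b = -1

theorem Par.ne_left {a b : ZMod q} (h : Par a b) : a ≠ 0 := by
  rintro rfl
  rcases h with h | h <;> simp at h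

theorem Par.ne_right {a b : ZMod q} (h : Par a b) : b ≠ 0 := by
  rintro rfl
  rcases h with h | h <;> simp at h

theorem Par.symm {a b : ZMod q} (h : Par a b) : Par b a := by
  unfold Par at *; rwa [mul_comm]

theorem Par.mul {a b c d : ZMod q} (h : Par a b) (h' : Par c d) : Par (a * c) (b * d) := by
  unfold Par at *
  have e : a * c * (b * d) = (a * b) * (c * d) := by ring
  rw [e]
  rcases h with h | h <;> rcases h' with h' | h' <;> rw [h, h'] <;> simp

theorem Par.inv {a b : ZMod q} (h : Par a b) : Par a⁻¹ b⁻¹ := by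
  unfold Par at *
  rw [← mul_inv]
  rcases h with h | h <;> rw [h] <;> simp [inv_neg]

/-- The antidiagonal map `(x, y) ↦ (b y, a x)` as a linear equivalence. -/
def mkA (a b : ZMod q) (ha : a ≠ 0) (hb : b ≠ 0) :
    (Fin 2 → ZMod q) ≃ₗ[ZMod q] (Fin 2 → ZMod q) where
  toFun v := ![b * v 1, a * v 0]
  invFun v := ![a⁻¹ * v 1, b⁻¹ * v 0]
  map_add' v w := by
    ext i; fin_cases i <;> simp [mul_add]
  map_smul' r v := by
    ext i; fin_cases i <;> simp [mul_left_comm]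
  left_inv v := by
    ext i; fin_cases i <;> simp [ha, hb]
  right_inv v := by
    ext i; fin_cases i <;> simp [ha, hb]

theorem isA_mkA {a b : ZMod q} (ha : a ≠ 0) (hb : b ≠ 0) : IsA (mkA a b ha hb) a b := fun _ => rfl

theorem IsA.unique {f : (Fin 2 → ZMod q) ≃ₗ[ZMod q] (Fin 2 → ZMod q)} {a b c d : ZMod q}
    (hf : IsA f a b) (hg : IsA f c d) : a = c ∧ b = d := by
  have h := (hf (fun _ => 1)).symm.trans (hg (fun _ => 1))
  have h0 := congrFun h 0
  have h1 := congrFun h 1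
  simp at h0 h1
  exact ⟨h1, h0⟩

/-- Membership in `T`, restated. -/
def HT (T : Subgroup ((Fin 2 → ZMod q) ≃ₗ[ZMod q] (Fin 2 → ZMod q))) : Prop :=
  ∀ f, f ∈ T ↔ ∃ a b : ZMod q, Par a b ∧ (IsD f a b ∨ IsA f a b)

theorem hT_of {T : Subgroup ((Fin 2 → ZMod q) ≃ₗ[ZMod q] (Fin 2 → ZMod q))}
    (hT : ∀ f, f ∈ T ↔ ∃ a s : ZMod q, a ≠ 0 ∧ (s = 1 ∨ s = -1) ∧
      ((∀ v, f v = ![a * v 0, s * a⁻¹ * v 1]) ∨ (∀ v, f v = ![s * a⁻¹ * v 1, a * v 0]))) :
    HT T := by
  intro f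
  rw [hT]
  constructor
  · rintro ⟨a, s, ha, hs, h⟩
    refine ⟨a, s * a⁻¹, ?_, h⟩
    have : a * (s * a⁻¹) = s := by field_simp
    unfold Par; rw [this]; exact hs
  · rintro ⟨a, b, hp, h⟩
    have ha := hp.ne_left
    refine ⟨a, a * b, ha, hp, ?_⟩
    have : a * b * a⁻¹ = b := by field_simp
    rw [this]; exact h

variable {T : Subgroup ((Fin 2 → ZMod q) ≃ₗ[ZMod q] (Fin 2 → ZMod q))}

theorem HT.cases (hT : HT T) (x : T) : ∃ a b : ZMod q, Par a b ∧ (IsD x.1 a b ∨ IsA x.1 a b) :=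
  (hT x.1).1 x.2

theorem HT.mkD_mem (hT : HT T) {a b : ZMod q} (hp : Par a b) :
    mkD a b hp.ne_left hp.ne_right ∈ T :=
  (hT _).2 ⟨a, b, hp, Or.inl (isD_mkD _ _)⟩

theorem HT.mkA_mem (hT : HT T) {a b : ZMod q} (hp : Par a b) :
    mkA a b hp.ne_left hp.ne_right ∈ T :=
  (hT _).2 ⟨a, b, hp, Or.inr (isA_mkA _ _)⟩

/-- The diagonal element of `T` with entries `a, b`. -/
def HT.elD (hT : HT T) {a b : ZMod q} (hp : Par a b) : T :=
  ⟨mkD a b hp.ne_left hp.ne_right, hT.mkD_mem hp⟩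

theorem HT.isD_elD (hT : HT T) {a b : ZMod q} (hp : Par a b) : IsD (hT.elD hp).1 a b :=
  isD_mkD hp.ne_left hp.ne_right

/-- The antidiagonal element of `T` with entries `a, b`. -/
def HT.elA (hT : HT T) {a b : ZMod q} (hp : Par a b) : T :=
  ⟨mkA a b hp.ne_left hp.ne_right, hT.mkA_mem hp⟩

theorem HT.isA_elA (hT : HT T) {a b : ZMod q} (hp : Par a b) : IsA (hT.elA hp).1 a b :=
  isA_mkA hp.ne_left hp.ne_right

theorem fermat {m : ℕ} (hq : q = 2 ^ m + 1) {a : ZMod q} (ha : a ≠ 0) : a ^ (2 ^ m) = 1 := by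
  have h := ZMod.pow_card_sub_one_eq_one ha
  have e : q - 1 = 2 ^ m := by rw [hq, Nat.add_sub_cancel]
  rwa [e] at h

theorem pow_two_pow (hT : HT T) {m : ℕ} (hq : q = 2 ^ m + 1) (x : T) : x ^ (2 ^ (m + 1)) = 1 := by
  obtain ⟨a, b, hp, h | h⟩ := hT.cases x
  · have h1 := h.pow (2 ^ (m + 1))
    apply Subtype.ext
    rw [Subgroup.coe_pow, Subgroup.coe_one, h1.eq_one_iff]
    constructor
    · rw [pow_succ, pow_mul, fermat hq hp.ne_left, one_pow]
    · rw [pow_succ, pow_mul, fermat hq hp.ne_right, one_pow]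
  · have h1 : IsD (x.1 ^ 2) (b * a) (a * b) := by rw [pow_two]; exact h.mul h
    have h2 := h1.pow (2 ^ m)
    rw [← pow_mul, ← pow_succ'] at h2
    apply Subtype.ext
    rw [Subgroup.coe_pow, Subgroup.coe_one, h2.eq_one_iff]
    constructor
    · exact fermat hq (mul_ne_zero hp.ne_right hp.ne_left)
    · exact fermat hq (mul_ne_zero hp.ne_left hp.ne_right)

end tgroup
/-! ### The case `q > 5` -/

section big
variable {q : ℕ} [Fact q.Prime]
variable {T : Subgroup ((Fin 2 → ZMod q) ≃ₗ[ZMod q] (Fin 2 → ZMod q))}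

theorem natCast_ne_zero_of_lt {k : ℕ} (h0 : 0 < k) (h : k < q) : ((k : ℕ) : ZMod q) ≠ 0 := by
  intro h1
  rw [ZMod.natCast_eq_zero_iff] at h1
  exact absurd (Nat.le_of_dvd h0 h1) (by omega)

theorem two_ne_zero_of_lt (h : 2 < q) : (2 : ZMod q) ≠ 0 := by
  have := natCast_ne_zero_of_lt (q := q) (k := 2) (by norm_num) h
  exact_mod_cast this

theorem three_ne_zero_of_lt (h : 3 < q) : (3 : ZMod q) ≠ 0 := by
  have := natCast_ne_zero_of_lt (q := q) (k := 3) (by norm_num) h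
  exact_mod_cast this

theorem fifteen_ne_zero (h : 5 < q) : (15 : ZMod q) ≠ 0 := by
  intro h0
  have h1 : ((15 : ℕ) : ZMod q) = 0 := by exact_mod_cast h0
  rw [ZMod.natCast_eq_zero_iff] at h1
  have hp : q.Prime := Fact.out
  have h2 : q ∣ 3 * 5 := h1
  rcases (Nat.Prime.dvd_mul hp).1 h2 with h3 | h3
  · have := Nat.le_of_dvd (by norm_num) h3; omega
  · have := Nat.le_of_dvd (by norm_num) h3; omega

theorem IsD.commute {f g : (Fin 2 → ZMod q) ≃ₗ[ZMod q] (Fin 2 → ZMod q)} {a b c d : ZMod q}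
    (hf : IsD f a b) (hg : IsD g c d) : f * g = g * f :=
  (hf.mul hg).ext ((hg.mul hf).congr (mul_comm _ _) (mul_comm _ _))

theorem IsA.pow_four_eq_one {f : (Fin 2 → ZMod q) ≃ₗ[ZMod q] (Fin 2 → ZMod q)} {c d : ZMod q}
    (h : IsA f c d) (hp : Par c d) : f ^ 4 = 1 := by
  have h1 : IsD (f ^ 2) (d * c) (c * d) := by rw [pow_two]; exact h.mul h
  have h2 := h1.pow 2
  rw [← pow_mul] at h2
  rw [show (4 : ℕ) = 2 * 2 from rfl, h2.eq_one_iff]
  have e : ∀ z : ZMod q, z = 1 ∨ z = -1 → z ^ 2 = 1 := by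
    rintro z (rfl | rfl) <;> simp
  exact ⟨e _ hp.symm, e _ hp⟩

/-- `x` centralizes all elements whose 4th power is nontrivial. -/
def PD (x : T) : Prop := ∀ y : T, y ^ 4 ≠ 1 → x * y = y * x

theorem PD.map (φ : MulAut T) {x : T} (h : PD x) : PD (φ x) := by
  intro y hy
  have h1 : (φ.symm y) ^ 4 ≠ 1 := by
    intro h2
    apply hy
    have := congrArg φ h2
    rwa [map_pow, MulEquiv.apply_symm_apply, map_one] at this
  have h3 := congrArg φ (h _ h1)
  rwa [map_mul, map_mul, MulEquiv.apply_symm_apply] at h3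

theorem PD.inv_mul {x y : T} (hx : PD x) (hy : PD y) : PD (x⁻¹ * y) := by
  intro z hz
  have h1 := hx z hz
  have h2 := hy z hz
  calc x⁻¹ * y * z = x⁻¹ * (y * z) := mul_assoc _ _ _
    _ = x⁻¹ * (z * y) := by rw [h2]
    _ = x⁻¹ * (z * x) * x⁻¹ * y := by group
    _ = x⁻¹ * (x * z) * x⁻¹ * y := by rw [h1]
    _ = z * (x⁻¹ * y) := by group

theorem PD_of_isD (hT : HT T) {x : T} {a b : ZMod q} (h : IsD x.1 a b) : PD x := by
  intro y hy
  obtain ⟨c, d, hp, h' | h'⟩ := hT.cases y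
  · exact Subtype.ext (h.commute h')
  · exfalso
    apply hy
    apply Subtype.ext
    rw [Subgroup.coe_pow, Subgroup.coe_one]
    exact h'.pow_four_eq_one hp

theorem isD_of_PD (hT : HT T) (h5 : 5 < q) {x : T} (h : PD x) :
    ∃ a b : ZMod q, Par a b ∧ IsD x.1 a b := by
  obtain ⟨c, d, hp, h' | h'⟩ := hT.cases x
  · exact ⟨c, d, hp, h'⟩
  · exfalso
    have h2 : (2 : ZMod q) ≠ 0 := two_ne_zero_of_lt (by omega)
    have hp2 : Par (2 : ZMod q) 2⁻¹ := Or.inl (mul_inv_cancel₀ h2)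
    have hy : IsD (hT.elD hp2).1 2 2⁻¹ := hT.isD_elD hp2
    have hy4 : (hT.elD hp2) ^ 4 ≠ 1 := by
      intro h4
      have h5' := congrArg Subtype.val h4
      rw [Subgroup.coe_pow, Subgroup.coe_one, (hy.pow 4).eq_one_iff] at h5'
      apply fifteen_ne_zero h5
      have := h5'.1
      linear_combination this
    have h3 := congrArg Subtype.val (h _ hy4)
    rw [Subgroup.coe_mul, Subgroup.coe_mul] at h3
    have h4 := (h'.mulD hy)
    rw [h3] at h4
    have h6 := (h4.unique (hy.mulA h')).1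
    have hc := hp.ne_left
    have h7 : (2 : ZMod q) * 2 = 1 := by
      have : c * ((2 : ZMod q) * 2) = c * 1 := by
        rw [mul_one, ← mul_assoc, h6, mul_comm 2⁻¹ c, mul_assoc, inv_mul_cancel₀ h2, mul_one]
      exact mul_left_cancel₀ hc this
    apply three_ne_zero_of_lt (q := q) (by omega)
    linear_combination h7

end big
section big2
variable {q : ℕ} [Fact q.Prime]
variable {T : Subgroup ((Fin 2 → ZMod q) ≃ₗ[ZMod q] (Fin 2 → ZMod q))}

theorem IsD.pow_eq_neg {f : (Fin 2 → ZMod q) ≃ₗ[ZMod q] (Fin 2 → ZMod q)} {a b : ZMod q}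
    (hf : IsD f a b) {M : ℕ} (hab : (a * b) ^ M = 1) (h2 : f ^ (2 * M) = 1) (h1 : f ^ M ≠ 1) :
    IsD (f ^ M) (-1) (-1) := by
  have h3 := ((hf.pow (2 * M)).eq_one_iff).1 h2
  have ha : a ^ M * a ^ M = 1 := by rw [← pow_add, ← two_mul]; exact h3.1
  rw [mul_pow] at hab
  rcases mul_self_eq_one_iff.1 ha with h4 | h4
  · exfalso
    apply h1
    rw [(hf.pow M).eq_one_iff]
    refine ⟨h4, ?_⟩
    rw [h4, one_mul] at hab
    exact hab
  · rw [h4] at hab
    have hb : b ^ M = -1 := by linear_combination -hab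
    exact (hf.pow M).congr h4 hb

theorem inv_mul_pow_eq_one {x y : T} {a b c d : ZMod q} (hx : IsD x.1 a b) (hy : IsD y.1 c d)
    {M : ℕ} (hab : (a * b) ^ M = 1) (hcd : (c * d) ^ M = 1)
    (hx2 : x ^ (2 * M) = 1) (hy2 : y ^ (2 * M) = 1) (hx1 : x ^ M ≠ 1) (hy1 : y ^ M ≠ 1) :
    (x⁻¹ * y) ^ M = 1 := by
  have hc : Commute x y := Subtype.ext (hx.commute hy)
  have hx2' : x.1 ^ (2 * M) = 1 := by
    have := congrArg Subtype.val hx2
    rwa [Subgroup.coe_pow, Subgroup.coe_one] at this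
  have hy2' : y.1 ^ (2 * M) = 1 := by
    have := congrArg Subtype.val hy2
    rwa [Subgroup.coe_pow, Subgroup.coe_one] at this
  have hx1' : x.1 ^ M ≠ 1 := by
    intro h; apply hx1; apply Subtype.ext; rw [Subgroup.coe_pow, Subgroup.coe_one]; exact h
  have hy1' : y.1 ^ M ≠ 1 := by
    intro h; apply hy1; apply Subtype.ext; rw [Subgroup.coe_pow, Subgroup.coe_one]; exact h
  have e : x ^ M = y ^ M := by
    apply Subtype.ext
    rw [Subgroup.coe_pow, Subgroup.coe_pow]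
    exact (hx.pow_eq_neg hab hx2' hx1').ext (hy.pow_eq_neg hcd hy2' hy1')
  rw [(hc.inv_left).mul_pow, inv_pow, e, inv_mul_cancel]

/-- Second level of the chain. -/
def POm (N : ℕ) (x : T) : Prop := PD x ∧ x ^ N = 1

/-- Third level: squares of diagonal elements. -/
def PD' (x : T) : Prop := ∃ y : T, PD y ∧ x = y ^ 2

/-- The cyclic levels. -/
def PC (j : ℕ) (x : T) : Prop := PD' x ∧ x ^ (2 ^ j) = 1

theorem POm.map (φ : MulAut T) {N : ℕ} {x : T} (h : POm N x) : POm N (φ x) :=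
  ⟨h.1.map φ, by rw [← map_pow, h.2, map_one]⟩

theorem PD'.map (φ : MulAut T) {x : T} (h : PD' x) : PD' (φ x) := by
  obtain ⟨y, hy, rfl⟩ := h
  exact ⟨φ y, hy.map φ, map_pow _ _ _⟩

theorem PC.map (φ : MulAut T) {j : ℕ} {x : T} (h : PC j x) : PC j (φ x) :=
  ⟨h.1.map φ, by rw [← map_pow, h.2, map_one]⟩

theorem PD'.isD (hT : HT T) (h5 : 5 < q) {x : T} (h : PD' x) :
    ∃ a b : ZMod q, a * b = 1 ∧ IsD x.1 a b := by
  obtain ⟨y, hy, rfl⟩ := h
  obtain ⟨a, b, hp, h⟩ := isD_of_PD hT h5 hy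
  refine ⟨a ^ 2, b ^ 2, ?_, ?_⟩
  · rw [← mul_pow]
    rcases hp with hp | hp <;> rw [hp] <;> simp
  · rw [Subgroup.coe_pow]; exact h.pow 2

theorem PD'.inv_mul (hT : HT T) (h5 : 5 < q) {x y : T} (hx : PD' x) (hy : PD' y) :
    PD' (x⁻¹ * y) := by
  obtain ⟨u, hu, rfl⟩ := hx
  obtain ⟨v, hv, rfl⟩ := hy
  refine ⟨u⁻¹ * v, hu.inv_mul hv, ?_⟩
  obtain ⟨a, b, -, ha⟩ := isD_of_PD hT h5 hu
  obtain ⟨c, d, -, hc⟩ := isD_of_PD hT h5 hv
  have hcomm : Commute u v := Subtype.ext (ha.commute hc)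
  rw [(hcomm.inv_left).mul_pow, inv_pow]

theorem PD'_of_sq (hT : HT T) {x : T} {a b w : ZMod q} (h : IsD x.1 a b) (hab : a * b = 1)
    (hw : a = w * w) : PD' x := by
  have ha : a ≠ 0 := left_ne_zero_of_mul_eq_one hab
  have hw0 : w ≠ 0 := by
    rintro rfl
    apply ha; rw [hw, mul_zero]
  have hp : Par w w⁻¹ := Or.inl (mul_inv_cancel₀ hw0)
  refine ⟨hT.elD hp, PD_of_isD hT (hT.isD_elD hp), ?_⟩
  apply Subtype.ext
  rw [Subgroup.coe_pow]
  refine h.ext (((hT.isD_elD hp).pow 2).congr ?_ ?_)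
  · rw [hw, pow_two]
  · have : b = a⁻¹ := eq_inv_of_mul_eq_one_right hab
    rw [this, hw, inv_pow, pow_two]

end big2
section big3
variable {q : ℕ} [Fact q.Prime]
variable {T : Subgroup ((Fin 2 → ZMod q) ≃ₗ[ZMod q] (Fin 2 → ZMod q))}

theorem coe_pow_eq_one {x : T} {k : ℕ} : x ^ k = 1 ↔ x.1 ^ k = 1 := by
  rw [Subtype.ext_iff, Subgroup.coe_pow, Subgroup.coe_one]

theorem big_case (hT : HT T) {m : ℕ} (hq : q = 2 ^ m + 1) (h5 : 5 < q) (φ : MulAut T) (n : ℕ)
    (hn : Odd n) (hφ : φ ^ n = 1) : φ = 1 := by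
  have hm : 3 ≤ m := by
    by_contra hm
    have : m = 0 ∨ m = 1 ∨ m = 2 := by omega
    rcases this with rfl | rfl | rfl <;> norm_num at hq <;> omega
  obtain ⟨k, rfl⟩ : ∃ k, m = k + 2 := ⟨m - 2, by omega⟩
  have h2 : ∀ t : T, ∃ k : ℕ, t ^ (2 ^ k) = 1 := fun t => ⟨_, pow_two_pow hT hq t⟩
  -- the cyclic levels
  have S0 : ∀ j : ℕ, ∀ x : T, PC j x → φ x = x := by
    intro j
    induction j with
    | zero =>
      intro x hx
      have := hx.2
      rw [pow_zero, pow_one] at this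
      rw [this, map_one]
    | succ j ih =>
      refine step φ n hn hφ h2 (PC j) (PC (j + 1)) (fun x hx => hx.map φ) ih ?_
      intro x y hx hx' hy hy'
      refine ⟨PD'.inv_mul hT h5 hx.1 hy.1, ?_⟩
      obtain ⟨a, b, hab, ha⟩ := hx.1.isD hT h5
      obtain ⟨c, d, hcd, hc⟩ := hy.1.isD hT h5
      have e : 2 ^ (j + 1) = 2 * 2 ^ j := pow_succ' 2 j
      refine inv_mul_pow_eq_one ha hc (by rw [hab, one_pow]) (by rw [hcd, one_pow]) ?_ ?_ ?_ ?_
      · rw [← e]; exact hx.2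
      · rw [← e]; exact hy.2
      · exact fun h => hx' ⟨hx.1, h⟩
      · exact fun h => hy' ⟨hy.1, h⟩
  have S1 : ∀ x : T, PD' x → φ x = x := by
    intro x hx
    apply S0 (k + 2) x
    refine ⟨hx, ?_⟩
    obtain ⟨y, -, rfl⟩ := hx
    rw [← pow_mul, ← pow_succ']
    exact pow_two_pow hT hq y
  -- Euler
  have hN : q / 2 = 2 ^ (k + 1) := by
    rw [hq, pow_succ]
    generalize 2 ^ (k + 1) = K
    omega
  have hNeven : ∀ s : ZMod q, s = 1 ∨ s = -1 → s ^ (2 ^ (k + 1)) = 1 := by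
    rintro s (rfl | rfl)
    · simp
    · exact Even.neg_one_pow (Nat.even_pow.2 ⟨even_two, by omega⟩)
  have S2 : ∀ x : T, POm (2 ^ (k + 1)) x → φ x = x := by
    refine step φ n hn hφ h2 PD' (POm (2 ^ (k + 1))) (fun x hx => hx.map φ) S1 ?_
    intro x y hx hx' hy hy'
    obtain ⟨a, b, hab, ha⟩ := isD_of_PD hT h5 hx.1
    obtain ⟨c, d, hcd, hc⟩ := isD_of_PD hT h5 hy.1
    have key : ∀ z : T, ∀ a b : ZMod q, Par a b → IsD z.1 a b → z ^ (2 ^ (k + 1)) = 1 → ¬ PD' z →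
        (∃ w : ZMod q, a = w * w) ∧ a * b = -1 := by
      intro z a b hab ha hz hz'
      rw [coe_pow_eq_one, (ha.pow _).eq_one_iff] at hz
      have hsq : IsSquare a := by
        rw [ZMod.euler_criterion q hab.ne_left, hN]
        exact hz.1
      obtain ⟨w, hw⟩ := hsq
      refine ⟨⟨w, hw⟩, ?_⟩
      rcases hab with hab | hab
      · exact absurd (PD'_of_sq hT ha hab hw) hz'
      · exact hab
    obtain ⟨⟨u, hu⟩, hab'⟩ := key x a b hab ha hx.2 hx'
    obtain ⟨⟨v, hv⟩, hcd'⟩ := key y c d hcd hc hy.2 hy'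
    have h3 : IsD (x⁻¹ * y).1 (a⁻¹ * c) (b⁻¹ * d) := by
      rw [Subgroup.coe_mul, Subgroup.coe_inv]
      exact (ha.inv hab.ne_left hab.ne_right).mul hc
    refine PD'_of_sq hT (w := u⁻¹ * v) h3 ?_ ?_
    · have : a⁻¹ * c * (b⁻¹ * d) = (a * b)⁻¹ * (c * d) := by rw [mul_inv]; ring
      rw [this, hab', hcd']; simp
    · rw [hu, hv, mul_inv]; ring
  have S3 : ∀ x : T, PD x → φ x = x := by
    refine step φ n hn hφ h2 (POm (2 ^ (k + 1))) PD (fun x hx => hx.map φ) S2 ?_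
    intro x y hx hx' hy hy'
    refine ⟨hx.inv_mul hy, ?_⟩
    obtain ⟨a, b, hab, ha⟩ := isD_of_PD hT h5 hx
    obtain ⟨c, d, hcd, hc⟩ := isD_of_PD hT h5 hy
    have e : 2 * 2 ^ (k + 1) = 2 ^ (k + 2) := (pow_succ' 2 (k + 1)).symm
    have hz : ∀ z : T, ∀ a b : ZMod q, Par a b → IsD z.1 a b → z ^ (2 * 2 ^ (k + 1)) = 1 := by
      intro z a b hab ha
      rw [e, coe_pow_eq_one, (ha.pow _).eq_one_iff]
      exact ⟨fermat hq hab.ne_left, fermat hq hab.ne_right⟩
    exact inv_mul_pow_eq_one ha hc (hNeven _ hab) (hNeven _ hcd) (hz x a b hab ha)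
      (hz y c d hcd hc) (fun h => hx' ⟨hx, h⟩) (fun h => hy' ⟨hy, h⟩)
  have S4 : ∀ x : T, True → φ x = x := by
    refine step φ n hn hφ h2 PD (fun _ => True) (fun _ _ => trivial) S3 ?_
    intro x y _ hx' _ hy'
    obtain ⟨a, b, hab, ha | ha⟩ := hT.cases x
    · exact absurd (PD_of_isD hT ha) hx'
    obtain ⟨c, d, hcd, hc | hc⟩ := hT.cases y
    · exact absurd (PD_of_isD hT hc) hy'
    have h3 : IsD (x⁻¹ * y).1 (a⁻¹ * c) (b⁻¹ * d) := by
      rw [Subgroup.coe_mul, Subgroup.coe_inv]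
      exact (ha.inv hab.ne_left hab.ne_right).mul hc
    exact PD_of_isD hT h3
  exact MulEquiv.ext fun x => S4 x trivial

end big3
/-! ### The small cases `q = 2` and `q = 3` -/

theorem zmod2_eq_one : ∀ a : ZMod 2, a ≠ 0 → a = 1 := by decide

theorem zmod3_cases : ∀ a : ZMod 3, a ≠ 0 → a = 1 ∨ a = -1 := by decide

section small
variable {q : ℕ} [Fact q.Prime]
variable {T : Subgroup ((Fin 2 → ZMod q) ≃ₗ[ZMod q] (Fin 2 → ZMod q))}

theorem case_two (hT : HT T) {m : ℕ} (hq : q = 2 ^ m + 1) (hq2 : q = 2) (φ : MulAut T) (n : ℕ)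
    (hn : Odd n) (hφ : φ ^ n = 1) : φ = 1 := by
  have h2 : ∀ t : T, ∃ k : ℕ, t ^ (2 ^ k) = 1 := fun t => ⟨_, pow_two_pow hT hq t⟩
  have e1 : ∀ a : ZMod q, a ≠ 0 → a = 1 := by
    subst hq2; exact zmod2_eq_one
  have S : ∀ x : T, True → φ x = x := by
    refine step φ n hn hφ h2 (fun x => x = 1) (fun _ => True) (fun _ _ => trivial)
      (fun x hx => by rw [hx, map_one]) ?_
    intro x y _ hx' _ hy'
    have key : ∀ z : T, z ≠ 1 → IsA z.1 1 1 := by
      intro z hz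
      obtain ⟨a, b, hab, ha | ha⟩ := hT.cases z
      · exfalso
        apply hz
        apply Subtype.ext
        rw [Subgroup.coe_one, ha.eq_one_iff]
        exact ⟨e1 a hab.ne_left, e1 b hab.ne_right⟩
      · exact ha.congr (e1 a hab.ne_left) (e1 b hab.ne_right)
    have : x = y := Subtype.ext ((key x hx').ext (key y hy'))
    rw [this, inv_mul_cancel]
  exact MulEquiv.ext fun x => S x trivial

/-- central elements -/
def PZ (x : T) : Prop := ∀ y : T, x * y = y * x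

/-- central or of order four -/
def PR (x : T) : Prop := PZ x ∨ x ^ 2 ≠ 1

theorem PZ.map (φ : MulAut T) {x : T} (h : PZ x) : PZ (φ x) := by
  intro y
  have h3 := congrArg φ (h (φ.symm y))
  rwa [map_mul, map_mul, MulEquiv.apply_symm_apply] at h3

theorem PR.map (φ : MulAut T) {x : T} (h : PR x) : PR (φ x) := by
  rcases h with h | h
  · exact Or.inl (h.map φ)
  · right
    intro h1
    apply h
    rw [← map_pow] at h1
    exact (map_eq_one_iff φ φ.injective).1 h1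

theorem PZ.isD (hT : HT T) (h2 : (2 : ZMod q) ≠ 0) {x : T} (h : PZ x) :
    ∃ a : ZMod q, a ≠ 0 ∧ IsD x.1 a a := by
  have hp1 : Par (1 : ZMod q) 1 := Or.inl (one_mul 1)
  have hp2 : Par (1 : ZMod q) (-1) := Or.inr (one_mul _)
  obtain ⟨a, b, hab, ha | ha⟩ := hT.cases x
  · have h1 := congrArg Subtype.val (h (hT.elA hp1))
    rw [Subgroup.coe_mul, Subgroup.coe_mul] at h1
    have h3 := ha.mulA (hT.isA_elA hp1)
    rw [h1] at h3
    have h4 := (h3.unique ((hT.isA_elA hp1).mulD ha)).1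
    rw [mul_one, one_mul] at h4
    subst h4
    exact ⟨b, hab.ne_left, ha⟩
  · exfalso
    have h1 := congrArg Subtype.val (h (hT.elD hp2))
    rw [Subgroup.coe_mul, Subgroup.coe_mul] at h1
    have h3 := ha.mulD (hT.isD_elD hp2)
    rw [h1] at h3
    have h4 := (h3.unique ((hT.isD_elD hp2).mulA ha)).1
    have h5 : 2 * a = 0 := by linear_combination h4
    rcases mul_eq_zero.1 h5 with h6 | h6
    · exact h2 h6
    · exact hab.ne_left h6

theorem PZ_of_isD (hT : HT T) {x : T} {a : ZMod q} (h : IsD x.1 a a) : PZ x := by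
  intro y
  obtain ⟨c, d, hcd, hc | hc⟩ := hT.cases y
  · exact Subtype.ext (h.commute hc)
  · apply Subtype.ext
    rw [Subgroup.coe_mul, Subgroup.coe_mul]
    exact (h.mulA hc).ext ((hc.mulD h).congr (mul_comm _ _) (mul_comm _ _))

theorem case_three (hT : HT T) {m : ℕ} (hq : q = 2 ^ m + 1) (hq3 : q = 3) (φ : MulAut T) (n : ℕ)
    (hn : Odd n) (hφ : φ ^ n = 1) : φ = 1 := by
  have h2 : ∀ t : T, ∃ k : ℕ, t ^ (2 ^ k) = 1 := fun t => ⟨_, pow_two_pow hT hq t⟩
  have e1 : ∀ a : ZMod q, a ≠ 0 → a = 1 ∨ a = -1 := by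
    subst hq3; exact zmod3_cases
  have e2 : (2 : ZMod q) ≠ 0 := two_ne_zero_of_lt (by omega)
  have e3 : (1 : ZMod q) ≠ -1 := by
    intro h
    apply e2
    linear_combination h
  have e4 : ∀ a : ZMod q, a ≠ 0 → a * a = 1 := by
    intro a ha
    rcases e1 a ha with rfl | rfl <;> simp
  have e5 : ∀ a b : ZMod q, a * b = 1 → a = b := by
    intro a b hab
    have ha : a ≠ 0 := left_ne_zero_of_mul_eq_one hab
    have := e4 a ha
    exact (mul_left_cancel₀ ha (this.trans hab.symm))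
  have e6 : ∀ a : ZMod q, a * a ≠ -1 := by
    intro a h
    by_cases ha : a = 0
    · rw [ha, mul_zero] at h
      exact one_ne_zero (by linear_combination h : (1 : ZMod q) = 0)
    · rw [e4 a ha] at h; exact e3 h
  -- squares
  have sqD : ∀ x : T, ∀ a b : ZMod q, Par a b → IsD x.1 a b → x ^ 2 = 1 := by
    intro x a b hab ha
    rw [coe_pow_eq_one, (ha.pow 2).eq_one_iff, pow_two, pow_two]
    exact ⟨e4 a hab.ne_left, e4 b hab.ne_right⟩
  have sqA : ∀ x : T, ∀ a b : ZMod q, IsA x.1 a b → (x ^ 2 = 1 ↔ a * b = 1) := by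
    intro x a b ha
    have h1 : IsD (x.1 ^ 2) (b * a) (a * b) := by rw [pow_two]; exact ha.mul ha
    rw [coe_pow_eq_one, h1.eq_one_iff, mul_comm b a, and_self]
  -- description of PR
  have prD : ∀ x : T, ∀ a b : ZMod q, Par a b → IsD x.1 a b → (PR x ↔ a * b = 1) := by
    intro x a b hab ha
    constructor
    · rintro (h | h)
      · obtain ⟨c, hc0, hc⟩ := h.isD hT e2
        obtain ⟨rfl, rfl⟩ := ha.unique hc
        exact e4 _ hc0
      · exact absurd (sqD x a b hab ha) h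
    · intro h
      have := e5 a b h
      subst this
      exact Or.inl (PZ_of_isD hT ha)
  have prA : ∀ x : T, ∀ a b : ZMod q, Par a b → IsA x.1 a b → (PR x ↔ a * b = -1) := by
    intro x a b hab ha
    constructor
    · rintro (h | h)
      · obtain ⟨c, hc0, hc⟩ := h.isD hT e2
        exact absurd (hc.not_isA ha) hc0
      · rw [Ne, sqA x a b ha] at h
        rcases hab with hab | hab
        · exact absurd hab h
        · exact hab
    · intro h
      right
      rw [Ne, sqA x a b ha, h]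
      exact fun h' => e3 h'.symm
  have S1 : ∀ x : T, PZ x → φ x = x := by
    refine step φ n hn hφ h2 (fun x => x = 1) PZ (fun x hx => hx.map φ)
      (fun x hx => by rw [hx, map_one]) ?_
    intro x y hx hx' hy hy'
    have key : ∀ z : T, PZ z → z ≠ 1 → IsD z.1 (-1) (-1) := by
      intro z hz hz'
      obtain ⟨a, ha0, ha⟩ := hz.isD hT e2
      rcases e1 a ha0 with rfl | rfl
      · exfalso
        apply hz'
        apply Subtype.ext
        rw [Subgroup.coe_one, ha.eq_one_iff]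
        exact ⟨rfl, rfl⟩
      · exact ha
    have : x = y := Subtype.ext ((key x hx hx').ext (key y hy hy'))
    rw [this, inv_mul_cancel]
  have S2 : ∀ x : T, PR x → φ x = x := by
    refine step φ n hn hφ h2 PZ PR (fun x hx => hx.map φ) S1 ?_
    intro x y hx hx' hy hy'
    have key : ∀ z : T, PR z → ¬ PZ z → ∃ c d : ZMod q, c * d = -1 ∧ IsA z.1 c d := by
      intro z hz hz'
      obtain ⟨a, b, hab, ha | ha⟩ := hT.cases z
      · exfalso
        apply hz'
        have h1 := (prD z a b hab ha).1 hz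
        have := e5 a b h1
        subst this
        exact PZ_of_isD hT ha
      · exact ⟨a, b, (prA z a b hab ha).1 hz, ha⟩
    obtain ⟨a, b, hab, ha⟩ := key x hx hx'
    obtain ⟨c, d, hcd, hc⟩ := key y hy hy'
    have ha0 : a ≠ 0 := by
      rintro rfl
      rw [zero_mul] at hab
      exact one_ne_zero (by linear_combination hab : (1 : ZMod q) = 0)
    have hb0 : b ≠ 0 := by
      rintro rfl
      rw [mul_zero] at hab
      exact one_ne_zero (by linear_combination hab : (1 : ZMod q) = 0)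
    have h3 : IsD (x⁻¹ * y).1 (a⁻¹ * c) (b⁻¹ * d) := by
      rw [Subgroup.coe_mul, Subgroup.coe_inv]
      exact (ha.inv ha0 hb0).mul hc
    have h4 : a⁻¹ * c * (b⁻¹ * d) = 1 := by
      have : a⁻¹ * c * (b⁻¹ * d) = (a * b)⁻¹ * (c * d) := by rw [mul_inv]; ring
      rw [this, hab, hcd]; simp
    have h5 := e5 _ _ h4
    rw [← h5] at h3
    exact PZ_of_isD hT h3
  have S3 : ∀ x : T, True → φ x = x := by
    refine step φ n hn hφ h2 PR (fun _ => True) (fun _ _ => trivial) S2 ?_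
    intro x y _ hx' _ hy'
    obtain ⟨a, b, hab, ha | ha⟩ := hT.cases x <;> obtain ⟨c, d, hcd, hc | hc⟩ := hT.cases y
    · have h1 : a * b = -1 := by
        rcases hab with h | h
        · exact absurd ((prD x a b (Or.inl h) ha).2 h) hx'
        · exact h
      have h2 : c * d = -1 := by
        rcases hcd with h | h
        · exact absurd ((prD y c d (Or.inl h) hc).2 h) hy'
        · exact h
      have h3 : IsD (x⁻¹ * y).1 (a⁻¹ * c) (b⁻¹ * d) := by
        rw [Subgroup.coe_mul, Subgroup.coe_inv]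
        exact (ha.inv hab.ne_left hab.ne_right).mul hc
      have h4 : a⁻¹ * c * (b⁻¹ * d) = 1 := by
        have : a⁻¹ * c * (b⁻¹ * d) = (a * b)⁻¹ * (c * d) := by rw [mul_inv]; ring
        rw [this, h1, h2]; simp
      exact (prD _ _ _ (Or.inl h4) h3).2 h4
    · have h1 : a * b = -1 := by
        rcases hab with h | h
        · exact absurd ((prD x a b (Or.inl h) ha).2 h) hx'
        · exact h
      have h2 : c * d = 1 := by
        rcases hcd with h | h
        · exact h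
        · exact absurd ((prA y c d (Or.inr h) hc).2 h) hy'
      have h3 : IsA (x⁻¹ * y).1 (b⁻¹ * c) (a⁻¹ * d) := by
        rw [Subgroup.coe_mul, Subgroup.coe_inv]
        exact (ha.inv hab.ne_left hab.ne_right).mulA hc
      have h4 : b⁻¹ * c * (a⁻¹ * d) = -1 := by
        have : b⁻¹ * c * (a⁻¹ * d) = (a * b)⁻¹ * (c * d) := by rw [mul_inv]; ring
        rw [this, h1, h2]; simp [inv_neg]
      exact (prA _ _ _ (Or.inr h4) h3).2 h4
    · have h1 : a * b = 1 := by
        rcases hab with h | h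
        · exact h
        · exact absurd ((prA x a b (Or.inr h) ha).2 h) hx'
      have h2 : c * d = -1 := by
        rcases hcd with h | h
        · exact absurd ((prD y c d (Or.inl h) hc).2 h) hy'
        · exact h
      have h3 : IsA (x⁻¹ * y).1 (b⁻¹ * c) (a⁻¹ * d) := by
        rw [Subgroup.coe_mul, Subgroup.coe_inv]
        exact (ha.inv hab.ne_left hab.ne_right).mulD hc
      have h4 : b⁻¹ * c * (a⁻¹ * d) = -1 := by
        have : b⁻¹ * c * (a⁻¹ * d) = (a * b)⁻¹ * (c * d) := by rw [mul_inv]; ring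
        rw [this, h1, h2]; simp
      exact (prA _ _ _ (Or.inr h4) h3).2 h4
    · have h1 : a * b = 1 := by
        rcases hab with h | h
        · exact h
        · exact absurd ((prA x a b (Or.inr h) ha).2 h) hx'
      have h2 : c * d = 1 := by
        rcases hcd with h | h
        · exact h
        · exact absurd ((prA y c d (Or.inr h) hc).2 h) hy'
      have h3 : IsD (x⁻¹ * y).1 (a⁻¹ * c) (b⁻¹ * d) := by
        rw [Subgroup.coe_mul, Subgroup.coe_inv]
        exact (ha.inv hab.ne_left hab.ne_right).mul hc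
      have h4 : a⁻¹ * c * (b⁻¹ * d) = 1 := by
        have : a⁻¹ * c * (b⁻¹ * d) = (a * b)⁻¹ * (c * d) := by rw [mul_inv]; ring
        rw [this, h1, h2]; simp
      exact (prD _ _ _ (Or.inl h4) h3).2 h4
  exact MulEquiv.ext fun x => S3 x trivial

end small
/-- Let q = 2^m + 1 be a prime other than 5. Then the automorphism group of the group of linear maps of F_q² of the forms (x, y) ↦ (a x, ± a⁻¹ y) and (x, y) ↦ (± a⁻¹ y, a x) with a ≠ 0 is itself a 2-group. -/
theorem result (q m : ℕ) [Fact q.Prime] (hq : q = 2 ^ m + 1) (hq5 : q ≠ 5)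
    (T : Subgroup ((Fin 2 → ZMod q) ≃ₗ[ZMod q] (Fin 2 → ZMod q)))
    (hT : ∀ f, f ∈ T ↔ ∃ a s : ZMod q, a ≠ 0 ∧ (s = 1 ∨ s = -1) ∧
      ((∀ v, f v = ![a * v 0, s * a⁻¹ * v 1]) ∨ (∀ v, f v = ![s * a⁻¹ * v 1, a * v 0]))) :
    IsPGroup 2 (MulAut T) := by
  have hT' : HT T := hT_of hT
  haveI : Finite ((Fin 2 → ZMod q) ≃ₗ[ZMod q] (Fin 2 → ZMod q)) :=
    Finite.of_injective (fun f : (Fin 2 → ZMod q) ≃ₗ[ZMod q] (Fin 2 → ZMod q) =>
      (f : (Fin 2 → ZMod q) → (Fin 2 → ZMod q))) DFunLike.coe_injective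
  apply isPGroup_two_of_odd
  intro φ n hn hφ
  have hp : q.Prime := Fact.out
  by_cases h5 : 5 < q
  · exact big_case hT' hq h5 φ n hn hφ
  · have h2 := hp.two_le
    have h3 : q = 2 ∨ q = 3 ∨ q = 4 := by omega
    rcases h3 with h | h | h
    · exact case_two hT' hq h φ n hn hφ
    · exact case_three hT' hq h φ n hn hφ
    · exfalso
      rw [h] at hp
      norm_num at hp

end Cfsg.Agent.S3382
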