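import Cfsg.Statements.S3383
import Mathlib

set_option autoImplicit false
open Cfsg

namespace Cfsg.Agent.S3383

open scoped Pointwise

theorem mem_conj_smul {L : Type*} [Group L] (H : Subgroup L) (g x : L) :
    x ∈ MulAut.conj g • H ↔ g⁻¹ * x * g ∈ H := by
  rw [Subgroup.mem_pointwise_smul_iff_inv_smul_mem]
  simp [MulAut.smul_def]

theorem kernel_conj {L : Type*} [Group L]
    (H : Subgroup L)
    (K : Subgroup L) (hK : (K : Set L) = Cfsg.frobeniusKernel H) :
    ∀ x ∈ K, ∀ a : L, a * x * a⁻¹ ∈ K := by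
  have hmemK : ∀ x : L, x ∈ K ↔ (x = 1 ∨ ∀ g : L, x ∉ MulAut.conj g • H) := by
    intro x
    rw [← SetLike.mem_coe, hK]
    rfl
  intro x hx a
  rcases (hmemK x).mp hx with rfl | hx'
  · simp
  · rw [hmemK]
    right
    intro g hg
    apply hx' (a⁻¹ * g)
    rw [mem_conj_smul] at hg ⊢
    have : (a⁻¹ * g)⁻¹ * x * (a⁻¹ * g) = g⁻¹ * (a * x * a⁻¹) * g := by group
    rw [this]; exact hg

/-- Core: a normal subgroup not inside `K` contains `K`. -/
theorem core {L : Type*} [Group L] [Finite L]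
    (H : Subgroup L) (hH : Cfsg.IsFrobeniusComplement H)
    (K : Subgroup L) (hK : (K : Set L) = Cfsg.frobeniusKernel H)
    (N : Subgroup L) (hN : N.Normal) : K ≤ N ∨ N ≤ K := by
  obtain ⟨hH1, hH2, hfrob⟩ := hH
  have hmemK : ∀ x : L, x ∈ K ↔ (x = 1 ∨ ∀ g : L, x ∉ MulAut.conj g • H) := by
    intro x
    rw [← SetLike.mem_coe, hK]
    rfl
  -- K is normal
  have hKn : ∀ x ∈ K, ∀ a : L, a * x * a⁻¹ ∈ K := kernel_conj H K hK
  -- K ∩ H = 1
  have hKH : ∀ x ∈ K, x ∈ H → x = 1 := by
    intro x hx hxH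
    rcases (hmemK x).mp hx with h | h
    · exact h
    · exfalso
      apply h 1
      rw [mem_conj_smul]
      simpa using hxH
  -- centralizer
  have hcent : ∀ h ∈ H, h ≠ 1 → ∀ c ∈ K, c * h = h * c → c = 1 := by
    intro h hh hh1 c hc hcomm
    by_cases hcH : c ∈ H
    · exact hKH c hc hcH
    · exfalso
      have hbot := hfrob c hcH
      have : h ∈ H ⊓ (MulAut.conj c • H) := by
        refine Subgroup.mem_inf.mpr ⟨hh, ?_⟩
        rw [mem_conj_smul]
        have : c⁻¹ * h * c = h := by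
          rw [mul_assoc, ← hcomm]; group
        rw [this]; exact hh
      rw [hbot] at this
      exact hh1 (Subgroup.mem_bot.mp this)
  by_cases hNK : N ≤ K
  · right; exact hNK
  left
  rw [SetLike.not_le_iff_exists] at hNK
  obtain ⟨n, hnN, hnK⟩ := hNK
  rw [hmemK] at hnK
  push Not at hnK
  obtain ⟨hn1, g, hg⟩ := hnK
  rw [mem_conj_smul] at hg
  set n' := g⁻¹ * n * g with hn'
  have hn'N : n' ∈ N := by
    have := hN.conj_mem n hnN g⁻¹
    simpa [hn'] using this
  have hn'1 : n' ≠ 1 := by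
    intro h
    apply hn1
    have : n = g * n' * g⁻¹ := by rw [hn']; group
    rw [this, h]; group
  -- the map
  let f : K → K := fun k => ⟨(k : L) * (n' * (k : L)⁻¹ * n'⁻¹), by
    apply K.mul_mem k.2
    have := hKn _ (K.inv_mem k.2) n'
    exact this⟩
  have hf : Function.Injective f := by
    intro k1 k2 h12
    have h12' : (k1 : L) * (n' * (k1 : L)⁻¹ * n'⁻¹) = (k2 : L) * (n' * (k2 : L)⁻¹ * n'⁻¹) :=
      congrArg Subtype.val h12
    have hcomm : ((k2 : L)⁻¹ * k1) * n' = n' * ((k2 : L)⁻¹ * k1) := by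
      have h3 : (k1 : L) * n' * (k1 : L)⁻¹ = (k2 : L) * n' * (k2 : L)⁻¹ := by
        have := congrArg (· * n') h12'
        simpa [mul_assoc] using this
      calc ((k2 : L)⁻¹ * k1) * n' = (k2 : L)⁻¹ * ((k1 : L) * n' * (k1 : L)⁻¹) * k1 := by group
        _ = (k2 : L)⁻¹ * ((k2 : L) * n' * (k2 : L)⁻¹) * k1 := by rw [h3]
        _ = n' * ((k2 : L)⁻¹ * k1) := by group
    have := hcent n' hg hn'1 ((k2 : L)⁻¹ * k1) (K.mul_mem (K.inv_mem k2.2) k1.2) hcomm
    apply Subtype.ext
    have h4 : (k1 : L) = k2 * ((k2 : L)⁻¹ * k1) := by group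
    rw [h4, this, mul_one]
  have hsurj : Function.Surjective f := Finite.injective_iff_surjective.mp hf
  intro k hk
  obtain ⟨k0, hk0⟩ := hsurj ⟨k, hk⟩
  have : k = (k0 : L) * (n' * (k0 : L)⁻¹ * n'⁻¹) := by
    have := congrArg Subtype.val hk0
    exact this.symm
  rw [this]
  have h5 : (k0 : L) * (n' * (k0 : L)⁻¹ * n'⁻¹) = ((k0 : L) * n' * (k0 : L)⁻¹) * n'⁻¹ := by group
  rw [h5]
  exact N.mul_mem (hN.conj_mem n' hn'N k0) (N.inv_mem hn'N)

/-- Let H be a Frobenius complement in a finite group L and K the Frobenius kernel (as a subgroup). Then K is characteristic in L, and every normal subgroup of L either contains K or is contained in K. -/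
theorem result {L : Type*} [Group L] [Finite L]
    (H : Subgroup L) (hH : Cfsg.IsFrobeniusComplement H)
    (K : Subgroup L) (hK : (K : Set L) = Cfsg.frobeniusKernel H) :
    K.Characteristic ∧ ∀ N : Subgroup L, N.Normal → K ≤ N ∨ N ≤ K := by
  have hcore := core H hH K hK
  refine ⟨?_, fun N hN => hcore N hN⟩
  -- K is normal
  have hKnormal : K.Normal := ⟨fun x hx a => kernel_conj H K hK x hx a⟩
  rw [Subgroup.characteristic_iff_map_le]
  intro φ
  have hmapn : (K.map φ.toMonoidHom).Normal := hKnormal.map _ φ.surjective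
  have hcard : Nat.card (K.map φ.toMonoidHom) = Nat.card K :=
    Subgroup.card_map_of_injective φ.injective
  rcases hcore _ hmapn with h | h
  · exact (Subgroup.eq_of_le_of_card_ge h hcard.le).symm.le
  · exact h

end Cfsg.Agent.S3383
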