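-- Statement S3385 (row 3385): Sims' theorem, |G_a| = 2^k * 3 with k ≤ 4 (from the structure theorem S3685).
-- Proof: tools/blueprints/S3685.md (helper5); assembly Cfsg/Agent/Lib/H13/SimsMain.lean + SimsPieces.lean (helper13).
import Cfsg.Statements.S3385
import Cfsg.Agent.Lib.H13.SimsPieces

set_option autoImplicit false
open Cfsg

namespace Cfsg.Agent.S3385

/-- Sims' Theorem on primitive groups with a suborbit of length 3. Let G be a finite group acting faithfully and primitively on a set Ω, and suppose the stabilizer of a point a has an orbit of length 3 on Ω. Then the stabilizer of a has order 2^k · 3 for some k ≤ 4. -/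
theorem result {G : Type*} [Group G] [Finite G] {Ω : Type*} [MulAction G Ω] [FaithfulSMul G Ω]
    (hprim : MulAction.IsPreprimitive G Ω) (a b : Ω)
    (h3 : Nat.card (MulAction.orbit (MulAction.stabilizer G a) b) = 3) :
    ∃ k : ℕ, k ≤ 4 ∧ Nat.card ↥(MulAction.stabilizer G a) = 2 ^ k * 3 :=
  Cfsg.Agent.Lib.H13.Sims.s3385_of_piecesL (Cfsg.Agent.Lib.H13.Sims.pieces G) hprim a b h3

end Cfsg.Agent.S3385
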