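import Cfsg.Statements.S3389
import Mathlib

set_option autoImplicit false
open Cfsg

namespace Cfsg.Agent.S3389

open MulAction
open scoped Pointwise

/-- A `p`-subgroup commuting with `x ≠ 1` fixes every fixed point of `x`, when the number of
fixed points of nonidentity elements is less than `p`. -/
theorem pgroup_fixes {G : Type*} [Group G] {Ω : Type*} [Finite Ω] [MulAction G Ω]
    (p k : ℕ) [Fact p.Prime] (hkp : k < p)
    (hfix : ∀ g : G, g ≠ 1 → Nat.card (fixedBy Ω g) ≤ k)
    (P : Subgroup G) (hP : IsPGroup p P) (x : G) (hx : x ≠ 1) (hcomm : ∀ u ∈ P, u * x = x * u)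
    (ω : Ω) (hω : x • ω = ω) : ∀ u ∈ P, u • ω = ω := by
  have hsub : orbit P ω ⊆ fixedBy Ω x := by
    rintro _ ⟨u, rfl⟩
    rw [mem_fixedBy]
    change x • ((u : G) • ω) = (u : G) • ω
    rw [smul_smul, ← hcomm u u.2, ← smul_smul, hω]
  have hle : Nat.card (orbit P ω) ≤ k :=
    (Nat.card_mono (Set.toFinite _) hsub).trans (hfix x hx)
  obtain ⟨n, hn⟩ := hP.card_orbit ω
  have hn0 : n = 0 := by
    by_contra h
    have : p ≤ p ^ n := Nat.le_self_pow h p
    omega
  rw [hn0, pow_zero] at hn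
  have hsub1 := (Nat.card_eq_one_iff_unique.mp hn).1
  intro u hu
  have h1 : (⟨(⟨u, hu⟩ : P) • ω, mem_orbit _ _⟩ : orbit P ω) = ⟨ω, mem_orbit_self ω⟩ :=
    Subsingleton.elim _ _
  exact congrArg Subtype.val h1

theorem mem_conj_smul {L : Type*} [Group L] (H : Subgroup L) (g x : L) :
    x ∈ MulAut.conj g • H ↔ g⁻¹ * x * g ∈ H := by
  rw [Subgroup.mem_pointwise_smul_iff_inv_smul_mem]
  simp [MulAut.smul_def]

/-- The normalizer of a Sylow subgroup is transitive on its fixed points. -/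
theorem sylow_normalizer_transitive {G : Type*} [Group G] [Finite G] {Ω : Type*} [MulAction G Ω]
    (p : ℕ) [Fact p.Prime] (Q : Sylow p G) (α β : Ω)
    (hα : ∀ u ∈ Q, u • α = α) (hβ : ∀ u ∈ Q, u • β = β) (h : G) (hh : h • α = β) :
    ∃ n ∈ Subgroup.normalizer ((Q : Subgroup G) : Set G), n • α = β := by
  have h1 : (Q : Subgroup G) ≤ stabilizer G β := fun u hu => hβ u hu
  have h2 : ((h • Q : Sylow p G) : Subgroup G) ≤ stabilizer G β := by
    intro x hx
    have hx' : x ∈ MulAut.conj h • (Q : Subgroup G) := hx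
    rw [mem_conj_smul] at hx'
    rw [mem_stabilizer_iff]
    have := hα _ hx'
    rw [mul_smul, mul_smul, hh] at this
    rw [← hh]
    have h3 : x • h • α = h • (h⁻¹ • x • β) := by rw [smul_inv_smul, hh]
    rw [h3, this]
  obtain ⟨c, hc⟩ := exists_smul_eq (stabilizer G β) ((h • Q).subtype h2) (Q.subtype h1)
  simp_rw [Sylow.smul_subtype, Subgroup.smul_def, smul_smul] at hc
  refine ⟨c * h, Sylow.smul_eq_iff_mem_normalizer.mp (Sylow.subtype_injective hc), ?_⟩
  rw [mul_smul, hh]
  exact c.2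

theorem exists_sylow_fixing {G : Type*} [Group G] [Finite G] {Ω : Type*} [Finite Ω]
    [MulAction G Ω] (p k : ℕ) [Fact p.Prime] (hkp : k < p)
    (hfix : ∀ g : G, g ≠ 1 → Nat.card (fixedBy Ω g) ≤ k)
    (y : G) (hy : orderOf y = p) :
    ∃ (Q : Sylow p G) (z : G), z ≠ 1 ∧ z ∈ Q ∧ y ∈ Q ∧ (∀ ω : Ω, y • ω = ω → z • ω = ω) ∧
      (∀ ω : Ω, z • ω = ω → ∀ u ∈ Q, u • ω = ω) := by
  have hp : p.Prime := Fact.out
  have hy1 : y ≠ 1 := by
    rintro rfl
    rw [orderOf_one] at hy
    exact hp.one_lt.ne hy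
  have hzp : IsPGroup p (Subgroup.zpowers y) :=
    IsPGroup.of_card (n := 1) (by rw [Nat.card_zpowers, hy, pow_one])
  obtain ⟨Q, hQ⟩ := hzp.exists_le_sylow
  have hyQ : y ∈ Q := hQ (Subgroup.mem_zpowers y)
  have hnt : Nontrivial Q :=
    ⟨⟨⟨y, hyQ⟩, 1, by intro h; exact hy1 (congrArg Subtype.val h)⟩⟩
  have hcn := Q.isPGroup'.center_nontrivial
  obtain ⟨z', hz'⟩ := exists_ne (1 : Subgroup.center Q)
  have hz1 : ((z' : Q) : G) ≠ 1 := by
    intro h
    apply hz'
    apply Subtype.ext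
    apply Subtype.ext
    exact h
  have hzQ : ((z' : Q) : G) ∈ Q := (z' : Q).2
  have hzc : ∀ u ∈ Q, u * ((z' : Q) : G) = ((z' : Q) : G) * u := by
    intro u hu
    have := Subgroup.mem_center_iff.mp z'.2 ⟨u, hu⟩
    exact congrArg Subtype.val this
  refine ⟨Q, ((z' : Q) : G), hz1, hzQ, hyQ, ?_, ?_⟩
  · intro ω hω
    have hPz : IsPGroup p (Subgroup.zpowers ((z' : Q) : G)) :=
      Q.isPGroup'.to_le (Subgroup.zpowers_le.mpr hzQ)
    have hcomm : ∀ u ∈ Subgroup.zpowers ((z' : Q) : G), u * y = y * u := by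
      intro u hu
      obtain ⟨i, rfl⟩ := Subgroup.mem_zpowers_iff.mp hu
      have hc : Commute ((z' : Q) : G) y := (hzc y hyQ).symm
      exact (Commute.zpow_left hc i).eq
    exact pgroup_fixes p k hkp hfix _ hPz y hy1 hcomm ω hω _ (Subgroup.mem_zpowers _)
  · intro ω hω
    exact pgroup_fixes p k hkp hfix Q Q.isPGroup' _ hz1 hzc ω hω

theorem eq_or_eq_of_card_le_two {Ω : Type*} [Finite Ω] (S : Set Ω) (hS : Nat.card S ≤ 2)
    (α β : Ω) (hα : α ∈ S) (hβ : β ∈ S) (hαβ : α ≠ β) (ω : Ω) (hω : ω ∈ S) : ω = α ∨ ω = β := by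
  by_contra h
  push Not at h
  have hsub : ({ω, α, β} : Set Ω) ⊆ S := by
    intro x hx
    rcases hx with rfl | rfl | rfl
    · exact hω
    · exact hα
    · exact hβ
  have h3 : ({ω, α, β} : Set Ω).ncard = 3 := by
    rw [Set.ncard_eq_three]
    exact ⟨ω, α, β, h.1, h.2, hαβ, rfl⟩
  have := Set.ncard_le_ncard hsub (Set.toFinite S)
  rw [h3, ← _root_.Nat.card_coe_set_eq] at this
  omega

/-- part (a) -/
theorem center_card_dvd {G : Type*} [Group G] [Finite G] {Ω : Type*} [Fintype Ω] [MulAction G Ω]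
    [FaithfulSMul G Ω] (htr : MulAction.IsPretransitive G Ω) (g : G) :
    Nat.card (Subgroup.center G) ∣ Nat.card (MulAction.fixedBy Ω g) := by
  let S : SubMulAction (Subgroup.center G) Ω :=
    { carrier := fixedBy Ω g
      smul_mem' := by
        intro z ω hω
        rw [mem_fixedBy] at hω ⊢
        change g • ((z : G) • ω) = (z : G) • ω
        rw [smul_smul, Subgroup.mem_center_iff.mp z.2 g, ← smul_smul, hω] }
  have hfree : ∀ b : S, stabilizer (Subgroup.center G) b = ⊥ := by
    intro b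
    rw [Subgroup.eq_bot_iff_forall]
    intro z hz
    rw [mem_stabilizer_iff] at hz
    have hz' : (z : G) • (b : Ω) = b := congrArg Subtype.val hz
    apply Subtype.ext
    apply FaithfulSMul.eq_of_smul_eq_smul (α := Ω)
    intro ω
    obtain ⟨h, rfl⟩ := MulAction.exists_smul_eq G (b : Ω) ω
    rw [Subgroup.coe_one, one_smul, smul_smul, ← Subgroup.mem_center_iff.mp z.2 h, ← smul_smul, hz']
  have e := selfEquivOrbitsQuotientProd hfree
  have h1 : Nat.card S = Nat.card (Quotient (orbitRel (Subgroup.center G) S)) *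
      Nat.card (Subgroup.center G) := by
    rw [Nat.card_congr e, Nat.card_prod]
  have h2 : Nat.card S = Nat.card (fixedBy Ω g) := rfl
  rw [← h2, h1]
  exact dvd_mul_left _ _

/-- part (c) in a convenient form -/
theorem sylow_le_stabilizer {G : Type*} [Group G] [Finite G] {Ω : Type*} [Finite Ω]
    [MulAction G Ω] (p k : ℕ) [Fact p.Prime] (hkp : k < p)
    (hfix : ∀ g : G, g ≠ 1 → Nat.card (fixedBy Ω g) ≤ k) (α : Ω)
    (hpa : p ∣ Nat.card (stabilizer G α)) : ¬ p ∣ (stabilizer G α).index := by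
  obtain ⟨x, hx⟩ := exists_prime_orderOf_dvd_card' p hpa
  have hy : orderOf (x : G) = p := by rw [Subgroup.orderOf_coe, hx]
  obtain ⟨Q, z, hz1, hzQ, hyQ, h1, h2⟩ := exists_sylow_fixing (Ω := Ω) p k hkp hfix (x : G) hy
  have hzα : z • α = α := h1 α x.2
  have hQle : (Q : Subgroup G) ≤ stabilizer G α := fun u hu => h2 α hzα u hu
  intro hdvd
  exact Q.not_dvd_index (hdvd.trans (Subgroup.index_dvd_of_le hQle))

/-- Let G be a finite group acting faithfully and transitively on a finite set Ω with fixity k ≥ 1: every non-identity element fixes at most k points and some non-identity element fixes exactly k points. Then |Z(G)| divides k; if k = 2 then |G| is even; and for every prime p > k dividing |G| and every point α, either p does not divide |G_α| or G_α contains a Sylow p-subgroup of G. -/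
theorem result {G : Type*} [Group G] [Finite G] {Ω : Type*} [Fintype Ω] [MulAction G Ω] [FaithfulSMul G Ω]
    (htr : MulAction.IsPretransitive G Ω) (k : ℕ) (hk : 1 ≤ k)
    (hfix : ∀ g : G, g ≠ 1 → Nat.card (MulAction.fixedBy Ω g) ≤ k) (hex : ∃ g : G, g ≠ 1 ∧ Nat.card (MulAction.fixedBy Ω g) = k) :
    Nat.card (Subgroup.center G) ∣ k ∧ (k = 2 → 2 ∣ Nat.card G) ∧
      ∀ (p : ℕ), p.Prime → k < p → p ∣ Nat.card G → ∀ α : Ω,
        ¬ p ∣ Nat.card (MulAction.stabilizer G α) ∨ ¬ p ∣ (MulAction.stabilizer G α).index := by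
  classical
  obtain ⟨g, hg1, hgk⟩ := hex
  refine ⟨?_, ?_, ?_⟩
  · rw [← hgk]
    exact center_card_dvd htr g
  · intro hk2
    subst hk2
    have hord1 : orderOf g ≠ 1 := fun h => hg1 (orderOf_eq_one_iff.mp h)
    obtain ⟨q, hq, hqdvd⟩ := Nat.exists_prime_and_dvd hord1
    by_cases hq2 : q = 2
    · subst hq2
      exact hqdvd.trans (orderOf_dvd_natCard g)
    · have hq2' : 2 < q := lt_of_le_of_ne hq.two_le (Ne.symm hq2)
      haveI : Fact q.Prime := ⟨hq⟩
      have hy : orderOf (g ^ (orderOf g / q)) = q :=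
        orderOf_pow_orderOf_div (orderOf_pos g).ne' hqdvd
      obtain ⟨a, b, hab, -⟩ := Nat.card_eq_two_iff.mp hgk
      have hαβ : (a : Ω) ≠ b := fun h => hab (Subtype.ext h)
      have hgα : g • (a : Ω) = a := a.2
      have hgβ : g • (b : Ω) = b := b.2
      have hyα : (g ^ (orderOf g / q)) • (a : Ω) = a :=
        (stabilizer G (a : Ω)).pow_mem (mem_stabilizer_iff.mpr hgα) _
      have hyβ : (g ^ (orderOf g / q)) • (b : Ω) = b :=
        (stabilizer G (b : Ω)).pow_mem (mem_stabilizer_iff.mpr hgβ) _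
      obtain ⟨Q, z, hz1, hzQ, hyQ, h1, h2⟩ :=
        exists_sylow_fixing (Ω := Ω) q 2 hq2' hfix _ hy
      have hzα : z • (a : Ω) = a := h1 _ hyα
      have hzβ : z • (b : Ω) = b := h1 _ hyβ
      have hQα := h2 _ hzα
      have hQβ := h2 _ hzβ
      obtain ⟨h, hh⟩ := MulAction.exists_smul_eq G (a : Ω) (b : Ω)
      obtain ⟨n, hn, hnα⟩ := sylow_normalizer_transitive q Q (a : Ω) (b : Ω) hQα hQβ h hh
      have hzn : z • (n • (b : Ω)) = n • (b : Ω) := by
        have hmem : n⁻¹ * z * n ∈ (Q : Subgroup G) := by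
          have := (Subgroup.mem_normalizer_iff.mp hn) (n⁻¹ * z * n)
          have e : n * (n⁻¹ * z * n) * n⁻¹ = z := by group
          rw [e] at this
          exact this.mpr hzQ
        have h5 := hQβ _ hmem
        rw [mul_smul, mul_smul, inv_smul_eq_iff] at h5
        exact h5
      have hnβ : n • (b : Ω) = a := by
        rcases eq_or_eq_of_card_le_two (fixedBy Ω z) (hfix z hz1) a b hzα hzβ hαβ _ hzn with h | h
        · exact h
        · exfalso
          apply hαβ
          have : n • (a : Ω) = n • (b : Ω) := by rw [hnα, h]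
          exact (MulAction.injective n) this
      have hn2 : (n ^ 2) • (a : Ω) = a := by
        rw [pow_two, mul_smul, hnα, hnβ]
      have heven : Even (orderOf n) := by
        by_contra hodd
        rw [Nat.not_even_iff_odd] at hodd
        obtain ⟨j, hj⟩ := hodd
        have h4 : (n ^ (2 * j)) • (a : Ω) = a := by
          rw [pow_mul]
          exact (stabilizer G (a : Ω)).pow_mem (mem_stabilizer_iff.mpr hn2) _
        have h5 : (n ^ (2 * j + 1)) • (a : Ω) = b := by
          rw [pow_succ', mul_smul, h4, hnα]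
        rw [← hj, pow_orderOf_eq_one, one_smul] at h5
        exact hαβ h5
      exact (even_iff_two_dvd.mp heven).trans (orderOf_dvd_natCard n)
  · intro p hp hkp _ α
    haveI : Fact p.Prime := ⟨hp⟩
    by_cases hpa : p ∣ Nat.card (stabilizer G α)
    · right
      exact sylow_le_stabilizer p k hkp hfix α hpa
    · left
      exact hpa

end Cfsg.Agent.S3389
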