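import Cfsg.Statements.S3390
import Mathlib
import Cfsg.Agent.Lib.H22.S3390C

set_option autoImplicit false
open Cfsg

namespace Cfsg.Agent.S3390

/-- Let G be a finite group acting faithfully and transitively on a finite set Ω with fixity 2 (every non-identity element fixes at most two points, and some fixes exactly two). Let α ∈ Ω and S a Sylow 2-subgroup of G. Then one of the following holds: the stabilizer S_α of α in S is trivial; S is dihedral or semidihedral and either |S_α| = 2 or |S : S_α| = 2; |S| ≥ 4, S has exactly one orbit of size 2 on Ω, every other S-orbit is regular, and G has a normal subgroup of index 2 or of index |S| which is a Frobenius group; or S ≤ G_α. -/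
theorem result {G : Type*} [Group G] [Finite G] {Ω : Type*} [Fintype Ω] [MulAction G Ω] [FaithfulSMul G Ω] (htr : MulAction.IsPretransitive G Ω)
    (hfix : ∀ g : G, g ≠ 1 → Nat.card (MulAction.fixedBy Ω g) ≤ 2) (hex : ∃ g : G, g ≠ 1 ∧ Nat.card (MulAction.fixedBy Ω g) = 2) (α : Ω) (S : Sylow 2 G) :
    (S : Subgroup G) ⊓ MulAction.stabilizer G α = ⊥ ∨
    (((∃ n : ℕ, Nonempty (↥(S : Subgroup G) ≃* DihedralGroup n)) ∨ Cfsg.IsQuasiDihedral ↥(S : Subgroup G)) ∧
       (Nat.card ↥((S : Subgroup G) ⊓ MulAction.stabilizer G α) = 2 ∨ ((S : Subgroup G) ⊓ MulAction.stabilizer G α).relIndex (S : Subgroup G) = 2)) ∨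
    (4 ≤ Nat.card (S : Subgroup G) ∧
       (∃ ω : Ω, Nat.card (MulAction.orbit ↥(S : Subgroup G) ω) = 2 ∧
          ∀ ω' : Ω, ω' ∉ MulAction.orbit ↥(S : Subgroup G) ω → Nat.card (MulAction.orbit ↥(S : Subgroup G) ω') = Nat.card (S : Subgroup G)) ∧
       ∃ N : Subgroup G, N.Normal ∧ (N.index = 2 ∨ N.index = Nat.card (S : Subgroup G)) ∧ (∃ H : Subgroup ↥N, Cfsg.IsFrobeniusComplement H)) ∨
    (S : Subgroup G) ≤ MulAction.stabilizer G α := by
  classical
  have h3 : Cfsg.Agent.Lib.H22.S3390.ThreePt G Ω := Cfsg.Agent.Lib.H22.S3390.threePt_of_hfix hfix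
  have h3S : Cfsg.Agent.Lib.H22.S3390.ThreePt ↥(S : Subgroup G) Ω :=
    Cfsg.Agent.Lib.H22.S3390.threePt_subgroup h3 _
  have hP : IsPGroup 2 ↥(S : Subgroup G) := S.isPGroup'
  have hsub : ((S : Subgroup G) ⊓ MulAction.stabilizer G α).subgroupOf (S : Subgroup G)
      = MulAction.stabilizer (↥(S : Subgroup G)) α := by
    ext s
    simp only [Subgroup.mem_subgroupOf, Subgroup.mem_inf, MulAction.mem_stabilizer_iff]
    constructor
    · intro h; exact h.2
    · intro h; exact ⟨s.2, h⟩
  rcases Cfsg.Agent.Lib.H22.S3390.pmain hP h3S α with h | h | h | h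
  · left
    rw [eq_bot_iff]
    rintro g ⟨hgS, hgα⟩
    have h1 : (⟨g, hgS⟩ : ↥(S : Subgroup G)) ∈ MulAction.stabilizer (↥(S : Subgroup G)) α := hgα
    rw [h, Subgroup.mem_bot] at h1
    rw [Subgroup.mem_bot]
    exact congrArg Subtype.val h1
  · right; right; right
    intro g hg
    have h1 : (⟨g, hg⟩ : ↥(S : Subgroup G)) ∈ MulAction.stabilizer (↥(S : Subgroup G)) α := by
      rw [h]; exact Subgroup.mem_top _
    exact h1
  · right; left
    obtain ⟨hD, hc⟩ := h
    refine ⟨hD, ?_⟩
    rcases hc with hc | hc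
    · left
      have e := Nat.card_congr (Subgroup.subgroupOfEquivOfLe
        (inf_le_left : (S : Subgroup G) ⊓ MulAction.stabilizer G α ≤ (S : Subgroup G))).toEquiv
      rw [hsub] at e
      rw [← e]; exact hc
    · right
      rw [Subgroup.relIndex, hsub]
      exact hc
  · right; right; left
    obtain ⟨hidx, h4, hreg⟩ := h
    refine ⟨h4, ⟨α, ?_, ?_⟩, ?_⟩
    · rw [Nat.card_coe_set_eq, ← MulAction.index_stabilizer]; exact hidx
    · intro ω' hω'
      rw [Nat.card_coe_set_eq, ← MulAction.index_stabilizer, hreg ω' hω', Subgroup.index_bot]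
    · obtain ⟨N, hN, hNi, H, hH⟩ :=
        Cfsg.Agent.Lib.H22.S3390.frobenius htr h3 α S hidx h4 hreg
      exact ⟨N, hN, Or.inl hNi, H, hH⟩

end Cfsg.Agent.S3390
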