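import Mathlib
import Cfsg.Statements.S3391
import Cfsg.Agent.Lib.H2.SzFix3
import Cfsg.Agent.Lib.H2.SzB3
-- import your own Cfsg.Agent.* helpers here

set_option autoImplicit false
open Cfsg

namespace Cfsg.Agent.S3391

/-- Let q = 2^{2m+1} ≥ 8 and let G be isomorphic to the Suzuki group Sz(q). If G acts faithfully and transitively on a finite set Ω with fixity 2 (every non-identity element fixes at most two points, and some fixes exactly two), then either |Ω| = q² + 1 and the action is 2-transitive, or |Ω| = q²(q² + 1) and the point stabilizers have order q − 1. -/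
theorem result {G : Type*} [Group G] [Finite G] (F : Type) [Field F] [Fintype F] (m : ℕ) (hm : 1 ≤ m) (hF : Fintype.card F = 2 ^ (2 * m + 1))
    (e : G ≃* ↥(Cfsg.Lie.Sz F (2 ^ (m + 1)))) {Ω : Type*} [Fintype Ω] [MulAction G Ω] [FaithfulSMul G Ω] (htr : MulAction.IsPretransitive G Ω)
    (hfix : ∀ g : G, g ≠ 1 → Nat.card (MulAction.fixedBy Ω g) ≤ 2) (hex : ∃ g : G, g ≠ 1 ∧ Nat.card (MulAction.fixedBy Ω g) = 2) :
    (Fintype.card Ω = Fintype.card F ^ 2 + 1 ∧ MulAction.IsMultiplyPretransitive G Ω 2) ∨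
    (Fintype.card Ω = Fintype.card F ^ 2 * (Fintype.card F ^ 2 + 1) ∧ ∀ α : Ω, Nat.card (MulAction.stabilizer G α) = Fintype.card F - 1) := by
  classical
  have h := Cfsg.Agent.Lib.H2.Sz.fld_of_card hF
  have ε : G ≃* Cfsg.Sz F m := e.trans (Cfsg.Agent.Lib.H2.SzB.bridge h hm hF).symm
  let _ : MulAction (Cfsg.Sz F m) Ω := MulAction.compHom Ω ε.symm.toMonoidHom
  have hsm : ∀ (g₀ : Cfsg.Sz F m) (ω : Ω), g₀ • ω = ε.symm g₀ • ω := fun _ _ => rfl
  have hsm' : ∀ (g : G) (ω : Ω), ε g • ω = g • ω := by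
    intro g ω
    rw [hsm, MulEquiv.symm_apply_apply]
  have htr' : ∀ a b : Ω, ∃ g₀ : Cfsg.Sz F m, g₀ • a = b := by
    intro a b
    obtain ⟨g, hg⟩ := htr.exists_smul_eq a b
    exact ⟨ε g, by rw [hsm', hg]⟩
  have h3 : Cfsg.Agent.Lib.H2.Sz.Fix3 (Cfsg.Sz F m) Ω := by
    intro g₀ hg₀ a b c ha hb hc
    by_contra hcon
    push Not at hcon
    obtain ⟨hab, hac, hbc⟩ := hcon
    have hg : ε.symm g₀ ≠ 1 := by
      intro h0
      apply hg₀
      have := congrArg ε h0
      rwa [MulEquiv.apply_symm_apply, map_one] at this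
    have h1 := hfix _ hg
    have hsub : ({a, b, c} : Set Ω) ⊆ MulAction.fixedBy Ω (ε.symm g₀) := by
      rintro x (rfl | rfl | rfl)
      · exact ha
      · exact hb
      · exact hc
    have h2 := Set.ncard_le_ncard hsub (Set.toFinite _)
    rw [Set.ncard_eq_three.2 ⟨a, b, c, hab, hac, hbc, rfl⟩, ← Nat.card_coe_set_eq] at h2
    omega
  have hex' : ∃ g₀ : Cfsg.Sz F m, g₀ ≠ 1 ∧ ∃ a b : Ω, a ≠ b ∧ g₀ • a = a ∧ g₀ • b = b := by
    obtain ⟨g, hg1, hg2⟩ := hex
    rw [Nat.card_coe_set_eq, Set.ncard_eq_two] at hg2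
    obtain ⟨a, b, hab, hS⟩ := hg2
    refine ⟨ε g, ?_, a, b, hab, ?_, ?_⟩
    · intro h0
      apply hg1
      exact ε.injective (h0.trans (map_one ε).symm)
    · rw [hsm']
      have : a ∈ MulAction.fixedBy Ω g := by rw [hS]; exact Set.mem_insert _ _
      exact this
    · rw [hsm']
      have : b ∈ MulAction.fixedBy Ω g := by rw [hS]; exact Set.mem_insert_of_mem _ rfl
      exact this
  rcases Cfsg.Agent.Lib.H2.Sz.fixity_two h hm hF htr' h3 hex' with ⟨h1, h2⟩ | ⟨h1, h2⟩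
  · left
    refine ⟨?_, ?_⟩
    · rw [← Nat.card_eq_fintype_card, h1, hF]
    · rw [MulAction.is_two_pretransitive_iff]
      intro a b c d hab hcd
      obtain ⟨g₀, e1, e2⟩ := h2 a b c d hab hcd
      exact ⟨ε.symm g₀, e1, e2⟩
  · right
    refine ⟨?_, ?_⟩
    · rw [← Nat.card_eq_fintype_card, h1, hF]
    · intro α
      rw [hF, ← h2 α]
      apply Nat.card_congr
      exact ε.toEquiv.subtypeEquiv (fun g => by
        rw [MulAction.mem_stabilizer_iff, MulAction.mem_stabilizer_iff]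
        show g • α = α ↔ ε g • α = α
        rw [hsm'])

end Cfsg.Agent.S3391
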