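import Cfsg.Statements.S3401
import Mathlib
import Cfsg.Agent.Lib.H17.TwoTransMod4
import Cfsg.Agent.S0700

set_option autoImplicit false
open Cfsg

namespace Cfsg.Agent.S3401


/-- Let G be a doubly transitive permutation group on a finite set Ω with |Ω| ≡ 2 mod 4 and |Ω| > 2. Then G has a unique minimal normal subgroup M (a nontrivial normal subgroup contained in every nontrivial normal subgroup); M is simple and doubly transitive on Ω, and its centralizer in G is trivial (so G embeds in Aut(M)). -/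
theorem result {G : Type*} [Group G] [Finite G] {Ω : Type*} [Fintype Ω] [MulAction G Ω] [FaithfulSMul G Ω]
    (h2 : MulAction.IsMultiplyPretransitive G Ω 2) (hn : Fintype.card Ω % 4 = 2) (hn2 : 2 < Fintype.card Ω) :
    ∃ M : Subgroup G, M.Normal ∧ M ≠ ⊥ ∧ (∀ N : Subgroup G, N.Normal → N ≠ ⊥ → M ≤ N) ∧
      IsSimpleGroup ↥M ∧ MulAction.IsMultiplyPretransitive ↥M Ω 2 ∧ Subgroup.centralizer (M : Set G) = ⊥ := by
  classical
  -- a minimal normal subgroup
  have hGne : (⊤ : Subgroup G) ≠ ⊥ := by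
    intro h
    obtain ⟨a, b, c, hab, hac, hbc⟩ := Fintype.two_lt_card_iff.1 hn2
    obtain ⟨g, hg1, hg2⟩ := (MulAction.is_two_pretransitive_iff.1 h2) hab hac
    have hg : g = 1 := by
      have : g ∈ (⊥ : Subgroup G) := h ▸ Subgroup.mem_top g
      exact Subgroup.mem_bot.1 this
    rw [hg, one_smul] at hg2
    exact hbc hg2
  obtain ⟨M, ⟨hMn, hMne⟩, hMmin⟩ := wellFounded_lt.has_min
    {M : Subgroup G | M.Normal ∧ M ≠ ⊥} ⟨⊤, inferInstance, hGne⟩
  haveI := hMn
  have hmin : ∀ M' : Subgroup G, M'.Normal → M' ≤ M → M' = ⊥ ∨ M' = M := by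
    intro M' hM'n hM'le
    by_cases h : M' = ⊥
    · exact Or.inl h
    · right
      rcases eq_or_lt_of_le hM'le with h1 | h1
      · exact h1
      · exact absurd h1 (hMmin M' ⟨hM'n, h⟩)
  -- M is transitive, hence 2-transitive
  haveI hMtr : MulAction.IsPretransitive M Ω := Cfsg.Agent.S0700.normal_transitive h2 M hMne
  have htr : ∀ x y : Ω, ∃ m ∈ M, m • x = y := by
    intro x y
    obtain ⟨m, hm⟩ := MulAction.exists_smul_eq M x y
    exact ⟨m, m.2, hm⟩
  have hM2 : MulAction.IsMultiplyPretransitive M Ω 2 :=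
    Cfsg.Agent.Lib.H17.TT4.two_transitive_of_normal h2 M htr
      (by rw [Nat.card_eq_fintype_card]; exact hn)
  have hM2' : ∀ (a b c d : Ω), a ≠ b → c ≠ d → ∃ g : M, g • a = c ∧ g • b = d :=
    fun a b c d hab hcd => (MulAction.is_two_pretransitive_iff.1 hM2) hab hcd
  -- three points
  have hthird : ∀ x y : Ω, ∃ z, z ≠ x ∧ z ≠ y := by
    intro x y
    by_contra hcon
    push Not at hcon
    have : (Finset.univ : Finset Ω) ⊆ {x, y} := by
      intro z _
      by_cases hzx : z = x
      · simp [hzx]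
      · simp [hcon z hzx]
    have h1 : Fintype.card Ω ≤ 2 :=
      calc Fintype.card Ω = (Finset.univ : Finset Ω).card := rfl
        _ ≤ ({x, y} : Finset Ω).card := Finset.card_le_card this
        _ ≤ 2 := Finset.card_le_two
    omega
  -- M is simple
  have hsimple : IsSimpleGroup M := by
    rcases Cfsg.Agent.S0700.burnside_abstract h2 M hMne hmin with ⟨-, -, hreg⟩ | ⟨hs, -⟩
    · exfalso
      obtain ⟨a, b, c, hab, hac, hbc⟩ := Fintype.two_lt_card_iff.1 hn2
      obtain ⟨m, hm1, hm2⟩ := hM2' _ _ _ _ hab hac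
      have hm : m ∈ MulAction.stabilizer M a := MulAction.mem_stabilizer_iff.2 hm1
      rw [hreg a, Subgroup.mem_bot] at hm
      rw [hm, one_smul] at hm2
      exact hbc hm2
    · exact hs
  -- the centralizer of M is trivial
  have hcent : Subgroup.centralizer (M : Set G) = ⊥ := by
    rw [eq_bot_iff]
    intro c hc
    rw [Subgroup.mem_bot]
    apply FaithfulSMul.eq_of_smul_eq_smul (α := Ω)
    intro x
    rw [one_smul]
    by_contra hcx
    obtain ⟨z, hzx, hzy⟩ := hthird x (c • x)
    obtain ⟨m, hm1, hm2⟩ := hM2' _ _ _ _ (Ne.symm hcx) (Ne.symm hzx)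
    have hcomm : (m : G) * c = c * m := (Subgroup.mem_centralizer_iff.1 hc) m m.2
    have h1 : (m : G) • c • x = c • (m : G) • x := by
      rw [← mul_smul, ← mul_smul, hcomm]
    have hm1' : (m : G) • x = x := hm1
    have hm2' : (m : G) • c • x = z := hm2
    rw [hm1', hm2'] at h1
    exact hzy h1
  refine ⟨M, hMn, hMne, ?_, hsimple, hM2, hcent⟩
  intro N hNn hNne
  haveI := hNn
  rcases hmin (M ⊓ N) inferInstance inf_le_left with h | h
  · exfalso
    apply hNne
    rw [eq_bot_iff, ← hcent]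
    intro y hy
    rw [Subgroup.mem_centralizer_iff]
    intro x hx
    exact (Subgroup.commute_of_normal_of_disjoint M N hMn hNn (disjoint_iff.2 h) x y hx hy).eq
  · rw [← h]
    exact inf_le_right

end Cfsg.Agent.S3401
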