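import Cfsg.Statements.S3413
import Cfsg.Agent.S0420
import Cfsg.Agent.Lib.H25.CG11
import Cfsg.Agent.Lib.H25.CG11M

set_option autoImplicit false
open Cfsg

namespace Cfsg.Agent.S3413

/-- Let H be a finite group whose commuting graph (vertices the non-identity elements, two joined when they commute) is isomorphic to that of the Mathieu group M_11: there is a bijection between the non-identity elements of H and of M_11 under which two elements commute exactly when their images do. Then H ≅ M_11. -/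
theorem result {H : Type*} [Group H] [Finite H]
    (f : {h : H // h ≠ 1} ≃ {g : ↥Cfsg.Spor.M11 // g ≠ 1})
    (hf : ∀ x y : {h : H // h ≠ 1}, (x : H) * y = y * x ↔ ((f x) : ↥Cfsg.Spor.M11) * (f y) = (f y) * (f x)) :
    Nonempty (H ≃* ↥Cfsg.Spor.M11) := by
  -- `|H| = |M₁₁| = 7920`
  have hcard : Nat.card H = 7920 :=
    (Cfsg.Agent.Lib.H25.CG11.card_eq_of_equiv_ne_one f).trans Cfsg.Agent.Lib.H25.CG11.card_M11
  -- an element of `M₁₁` with a centralizer of order 11, and its preimage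
  obtain ⟨x, hx1, hx⟩ := Cfsg.Agent.Lib.H25.CG11.exists_card_centralizer_eq_eleven_M11
  have hy : Nat.card (Subgroup.centralizer ({((f.symm ⟨x, hx1⟩ : {h : H // h ≠ 1}) : H)} : Set H)) = 11 := by
    rw [Cfsg.Agent.Lib.H25.CG11.card_centralizer_eq f hf (f.symm ⟨x, hx1⟩), Equiv.apply_symm_apply]
    exact hx
  -- `H` is simple of order 7920
  have hsimple : IsSimpleGroup H :=
    Cfsg.Agent.Lib.H25.CG11.isSimpleGroup_of_card_centralizer_eq_eleven hcard _
      (f.symm ⟨x, hx1⟩).2 hy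
  have hH : Cfsg.IsM11 H := ⟨hsimple, hcard⟩
  -- uniqueness of the simple group of order 7920, twice
  obtain ⟨e₁⟩ := Cfsg.Agent.S0420.result hH _ Cfsg.Agent.Lib.H28.ptsMask_dod0_mem _
    Cfsg.Agent.Lib.H28.gPt0_mem_dod0
  obtain ⟨e₂⟩ := Cfsg.Agent.S0420.result Cfsg.Agent.Lib.H25.CG11.isM11_M11 _
    Cfsg.Agent.Lib.H28.ptsMask_dod0_mem _ Cfsg.Agent.Lib.H28.gPt0_mem_dod0
  exact ⟨e₁.trans e₂.symm⟩

end Cfsg.Agent.S3413
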