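import Cfsg.Statements.S3419
import Cfsg.Agent.Lib.H23.SpecSecE
import Cfsg.Agent.Lib.H1.Hall

set_option autoImplicit false
open Cfsg

namespace Cfsg.Agent.S3419

/-- Let n ≥ 5 and let G be a finite group with the same order and the same set of element orders as the alternating group of degree n. Then G is not solvable. -/
theorem result {G : Type*} [Group G] [Finite G] (n : ℕ) (hn : 5 ≤ n)
    (hcard : Nat.card G = Nat.card ↥(alternatingGroup (Fin n)))
    (hspec : Set.range (orderOf : G → ℕ) = Set.range (orderOf : ↥(alternatingGroup (Fin n)) → ℕ)) :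
    ¬ Group.IsSolvable G := by
  intro hsolv
  haveI := hsolv
  by_cases h6 : n = 6
  · subst h6
    haveI : Nontrivial (Fin 6) := Fin.nontrivial_iff_two_le.2 (by norm_num)
    have hcardG : Nat.card G = 45 * 8 := by
      rw [hcard, nat_card_alternatingGroup, Nat.card_fin]
      rfl
    obtain ⟨H₀, hH₀⟩ := Cfsg.Agent.Lib.H1.hall_exists hcardG (by norm_num)
    have hsyl : ∀ d, d ∣ Nat.card H₀ → d % 5 = 1 → d = 1 := by
      rw [hH₀]
      intro d hd hmod
      have hle : d ≤ 45 := Nat.le_of_dvd (by norm_num) hd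
      interval_cases d <;> omega
    obtain ⟨g, hg⟩ := Cfsg.Agent.Lib.H23.SpecSec.exists_orderOf_of_card (X := H₀) 5 3
      (by norm_num) (by norm_num) (by norm_num) (by rw [hH₀]; norm_num) (by rw [hH₀]; norm_num)
      (by rw [hH₀]; norm_num) hsyl (by norm_num)
    have hmem : 5 * 3 ∈ Set.range (orderOf : G → ℕ) :=
      ⟨(g : G), by rw [Subgroup.orderOf_coe]; exact hg⟩
    rw [hspec] at hmem
    obtain ⟨σ, hσ⟩ := hmem
    rw [← Subgroup.orderOf_coe] at hσ
    exact Cfsg.Agent.Lib.H23.SpecSec.orderOf_perm_ne_mul (by norm_num) (by norm_num)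
      (by norm_num) (by norm_num) _ hσ
  by_cases h10 : n = 10
  · subst h10
    haveI : Nontrivial (Fin 10) := Fin.nontrivial_iff_two_le.2 (by norm_num)
    have hcardG : Nat.card G = 175 * 10368 := by
      rw [hcard, nat_card_alternatingGroup, Nat.card_fin]
      rfl
    obtain ⟨H₀, hH₀⟩ := Cfsg.Agent.Lib.H1.hall_exists hcardG (by norm_num)
    have hsyl : ∀ d, d ∣ Nat.card H₀ → d % 7 = 1 → d = 1 := by
      rw [hH₀]
      intro d hd hmod
      have hle : d ≤ 175 := Nat.le_of_dvd (by norm_num) hd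
      interval_cases d <;> omega
    obtain ⟨g, hg⟩ := Cfsg.Agent.Lib.H23.SpecSec.exists_orderOf_of_card (X := H₀) 7 5
      (by norm_num) (by norm_num) (by norm_num) (by rw [hH₀]; norm_num) (by rw [hH₀]; norm_num)
      (by rw [hH₀]; norm_num) hsyl (by norm_num)
    have hmem : 7 * 5 ∈ Set.range (orderOf : G → ℕ) :=
      ⟨(g : G), by rw [Subgroup.orderOf_coe]; exact hg⟩
    rw [hspec] at hmem
    obtain ⟨σ, hσ⟩ := hmem
    rw [← Subgroup.orderOf_coe] at hσ
    exact Cfsg.Agent.Lib.H23.SpecSec.orderOf_perm_ne_mul (by norm_num) (by norm_num)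
      (by norm_num) (by norm_num) _ hσ
  have htwo : ∃ p q : ℕ, p.Prime ∧ q.Prime ∧ p ≠ q ∧ n < 2 * p ∧ p ≤ n ∧ n < 2 * q ∧ q ≤ n := by
    rcases (by omega : n = 5 ∨ n = 7 ∨ n = 8 ∨ n = 9 ∨ 11 ≤ n) with rfl | rfl | rfl | rfl | h
    · exact ⟨3, 5, by norm_num, by norm_num, by norm_num, by norm_num, by norm_num, by norm_num,
        by norm_num⟩
    · exact ⟨5, 7, by norm_num, by norm_num, by norm_num, by norm_num, by norm_num, by norm_num,
        by norm_num⟩
    · exact ⟨5, 7, by norm_num, by norm_num, by norm_num, by norm_num, by norm_num, by norm_num,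
        by norm_num⟩
    · exact ⟨5, 7, by norm_num, by norm_num, by norm_num, by norm_num, by norm_num, by norm_num,
        by norm_num⟩
    · exact Cfsg.Agent.Lib.H23.TwoPrimes.exists_two_primes_half n h
  obtain ⟨N, H, hN, hH, hsec, -⟩ :=
    Cfsg.Agent.Lib.H23.SpecSec.alt_simpSec n hn hcard hspec htwo
  exact Cfsg.Agent.Lib.H23.SpecSec.not_isSolvable_of_simpSec hN hsec hsolv

end Cfsg.Agent.S3419
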