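import Cfsg.Statements.S4423
import Cfsg.Agent.Lib.H22.PrimPartTab
import Cfsg.Agent.Lib.H22.PrimPartThy

set_option autoImplicit false
open Cfsg

namespace Cfsg.Agent.S4423

open Cfsg.Agent.Lib.H22.PrimPart Cfsg.Agent.Lib.H29.Zsig

theorem step_dvd {m N a b : ℕ} (h : m ∣ N) (hN : N = a * b) (hc : Nat.Coprime m a) : m ∣ b :=
  hc.dvd_of_dvd_mul_left (hN ▸ h)

/-- the general argument: when `q ^ φ(e)` is large, there is a large primitive divisor. -/
theorem exists_of_large {q e : ℕ} (hq : 2 ≤ q) (he : 3 ≤ e)
    (hT : (e * (3 * e + 1)) ^ 2 ≤ q ^ e.totient) :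
    ∃ m : ℕ, m ∣ q ^ e - 1 ∧ (∀ i : ℕ, 1 ≤ i → i < e → Nat.Coprime m (q ^ i - 1)) ∧
      3 * e + 1 ≤ m := by
  obtain ⟨m, h1, h2, h3⟩ := exists_prim_div hq he
  refine ⟨m, h1, h2, ?_⟩
  have hpos := cyc_pos' (n := e) hq
  set F : ℕ := (cyc e q).toNat with hFdef
  have hF : (F : ℤ) = cyc e q := Int.toNat_of_nonneg hpos.le
  have hsq := cyc_sq_ge hq he
  rw [← hF] at hsq
  have hsq' : q ^ e.totient ≤ F ^ 2 := by exact_mod_cast hsq
  have h4 : (e * (3 * e + 1)) ^ 2 ≤ F ^ 2 := le_trans hT hsq'
  have h5 : e * (3 * e + 1) ≤ F := by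
    by_contra hlt
    push Not at hlt
    have := Nat.pow_lt_pow_left hlt (by norm_num : 2 ≠ 0)
    omega
  have h6 : e * (3 * e + 1) ≤ e * m := by
    calc e * (3 * e + 1) ≤ F := h5
      _ ≤ m * e := h3
      _ = e * m := mul_comm _ _
  exact Nat.le_of_mul_le_mul_left h6 (by omega)

theorem large_T {q e : ℕ} (hq : 2 ≤ q) (he : 3 ≤ e) (hne : ¬ (e ≤ 90 ∧ q ≤ 156)) :
    (e * (3 * e + 1)) ^ 2 ≤ q ^ e.totient := by
  by_cases he90 : e ≤ 90
  · have hq157 : 157 ≤ q := by
      by_contra h; exact hne ⟨he90, by omega⟩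
    have hbase : e * (3 * e + 1) ≤ 157 ^ 2 := by
      have : e * (3 * e + 1) ≤ 90 * (3 * 90 + 1) := Nat.mul_le_mul he90 (by omega)
      omega
    rcases tot_spec he he90 with rfl | rfl | rfl | h4
    · have : Nat.totient 3 = 2 := by decide
      rw [this]
      exact Nat.pow_le_pow_left (by omega) 2
    · have : Nat.totient 4 = 2 := by decide
      rw [this]
      exact Nat.pow_le_pow_left (by omega) 2
    · have : Nat.totient 6 = 2 := by decide
      rw [this]
      exact Nat.pow_le_pow_left (by omega) 2
    · calc (e * (3 * e + 1)) ^ 2 ≤ (157 ^ 2) ^ 2 := Nat.pow_le_pow_left hbase 2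
        _ = 157 ^ 4 := by norm_num
        _ ≤ q ^ 4 := Nat.pow_le_pow_left hq157 4
        _ ≤ q ^ e.totient := Nat.pow_le_pow_right (by omega) h4
  · have h2 : (e * (3 * e + 1)) ^ 2 ≤ 2 ^ e.totient := by
      by_cases hbig : 5832 ≤ e
      · exact large_bound hbig
      · exact mid_totient (by omega) (by omega)
    exact le_trans h2 (Nat.pow_le_pow_left hq _)


/-- Size of the primitive part of `q^e - 1`. For a prime power `q` and `e ≥ 3`, call a divisor of `q^e - 1` primitive when it is coprime to `q^i - 1` for every `1 ≤ i < e`; the primitive part is the largest primitive divisor. Apart from thirteen exceptional pairs, the primitive part is at least `3e + 1`: there is a primitive divisor `m ≥ 3e + 1` unless `(q, e)` is `(2, 6)` (where every primitive divisor is 1), one of `(2,4), (2,10), (2,12), (2,18), (3,4), (3,6), (5,6)` (where the primitive part is exactly `e + 1`), or one of `(2,3), (2,8), (2,20), (4,3), (4,6)` (where it is exactly `2e + 1`). The statement asserts the existence of a primitive divisor `m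 ≥ 3e + 1` outside the thirteen pairs, and that every primitive divisor is at most `2e + 1` for the thirteen pairs. -/
theorem result (q e : ℕ) (hq : IsPrimePow q) (he : 3 ≤ e) :
    ((q, e) ∉ [(2, 6), (2, 4), (2, 10), (2, 12), (2, 18), (3, 4), (3, 6), (5, 6), (2, 3), (2, 8), (2, 20), (4, 3), (4, 6)] →
      ∃ m : ℕ, m ∣ q ^ e - 1 ∧ (∀ i : ℕ, 1 ≤ i → i < e → Nat.Coprime m (q ^ i - 1)) ∧ 3 * e + 1 ≤ m) ∧
    ((q, e) ∈ [(2, 6), (2, 4), (2, 10), (2, 12), (2, 18), (3, 4), (3, 6), (5, 6), (2, 3), (2, 8), (2, 20), (4, 3), (4, 6)] →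
      ∀ m : ℕ, m ∣ q ^ e - 1 → (∀ i : ℕ, 1 ≤ i → i < e → Nat.Coprime m (q ^ i - 1)) → m ≤ 2 * e + 1) := by
  have hq2 : 2 ≤ q := hq.two_le
  constructor
  · intro hnot
    by_cases hsmall : e ≤ 90 ∧ q ≤ 156
    · have hg := small_spec hsmall.1 hsmall.2
      simp only [good, Bool.or_eq_true, decide_eq_true_eq] at hg
      rcases hg with (((h | h) | h) | h) | h
      · omega
      · omega
      · exact absurd h hnot
      · exact exists_of_large hq2 he h
      · exact ⟨_, chk_spec h⟩
    · exact exists_of_large hq2 he (large_T hq2 he hsmall)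
  · intro hmem m hdvd hcop
    simp only [List.mem_cons, Prod.mk.injEq, List.mem_nil_iff, or_false] at hmem
    rcases hmem with ⟨rfl, rfl⟩ | ⟨rfl, rfl⟩ | ⟨rfl, rfl⟩ | ⟨rfl, rfl⟩ | ⟨rfl, rfl⟩ | ⟨rfl, rfl⟩ |
      ⟨rfl, rfl⟩ | ⟨rfl, rfl⟩ | ⟨rfl, rfl⟩ | ⟨rfl, rfl⟩ | ⟨rfl, rfl⟩ | ⟨rfl, rfl⟩ | ⟨rfl, rfl⟩
    · -- (2,6)
      have h3 : Nat.Coprime m 7 := by simpa using hcop 3 (by norm_num) (by norm_num)
      have h := step_dvd hdvd (by norm_num : 2 ^ 6 - 1 = 7 * 9) h3
      have := Nat.le_of_dvd (by norm_num) h
      omega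
    · -- (2,4)
      have h2 : Nat.Coprime m 3 := by simpa using hcop 2 (by norm_num) (by norm_num)
      have h := step_dvd hdvd (by norm_num : 2 ^ 4 - 1 = 3 * 5) h2
      have := Nat.le_of_dvd (by norm_num) h
      omega
    · -- (2,10)
      have h5 : Nat.Coprime m 31 := by simpa using hcop 5 (by norm_num) (by norm_num)
      have h2 : Nat.Coprime m 3 := by simpa using hcop 2 (by norm_num) (by norm_num)
      have h := step_dvd hdvd (by norm_num : 2 ^ 10 - 1 = 31 * 33) h5
      have h' := step_dvd h (by norm_num : 33 = 3 * 11) h2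
      have := Nat.le_of_dvd (by norm_num) h'
      omega
    · -- (2,12)
      have h6 : Nat.Coprime m 63 := by simpa using hcop 6 (by norm_num) (by norm_num)
      have h4 : Nat.Coprime m 15 := by simpa using hcop 4 (by norm_num) (by norm_num)
      have h := step_dvd hdvd (by norm_num : 2 ^ 12 - 1 = 63 * 65) h6
      have h' := step_dvd h (by norm_num : 65 = 5 * 13)
        (h4.coprime_dvd_right (by norm_num : 5 ∣ 15))
      have := Nat.le_of_dvd (by norm_num) h'
      omega
    · -- (2,18)
      have h9 : Nat.Coprime m 511 := by simpa using hcop 9 (by norm_num) (by norm_num)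
      have h2 : Nat.Coprime m 3 := by simpa using hcop 2 (by norm_num) (by norm_num)
      have h := step_dvd hdvd (by norm_num : 2 ^ 18 - 1 = 511 * 513) h9
      have h27 : Nat.Coprime m 27 := by
        have := h2.pow_right 3
        norm_num at this
        exact this
      have h' := step_dvd h (by norm_num : 513 = 27 * 19) h27
      have := Nat.le_of_dvd (by norm_num) h'
      omega
    · -- (3,4)
      have h2 : Nat.Coprime m 8 := by simpa using hcop 2 (by norm_num) (by norm_num)
      have h1 : Nat.Coprime m 2 := by simpa using hcop 1 (by norm_num) (by norm_num)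
      have h := step_dvd hdvd (by norm_num : 3 ^ 4 - 1 = 8 * 10) h2
      have h' := step_dvd h (by norm_num : 10 = 2 * 5) h1
      have := Nat.le_of_dvd (by norm_num) h'
      omega
    · -- (3,6)
      have h3 : Nat.Coprime m 26 := by simpa using hcop 3 (by norm_num) (by norm_num)
      have h1 : Nat.Coprime m 2 := by simpa using hcop 1 (by norm_num) (by norm_num)
      have h := step_dvd hdvd (by norm_num : 3 ^ 6 - 1 = 26 * 28) h3
      have h4 : Nat.Coprime m 4 := by
        have := h1.pow_right 2
        norm_num at this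
        exact this
      have h' := step_dvd h (by norm_num : 28 = 4 * 7) h4
      have := Nat.le_of_dvd (by norm_num) h'
      omega
    · -- (5,6)
      have h3 : Nat.Coprime m 124 := by simpa using hcop 3 (by norm_num) (by norm_num)
      have h2 : Nat.Coprime m 24 := by simpa using hcop 2 (by norm_num) (by norm_num)
      have h := step_dvd hdvd (by norm_num : 5 ^ 6 - 1 = 124 * 126) h3
      have h18 : Nat.Coprime m 18 := by
        have ha : Nat.Coprime m 2 := h2.coprime_dvd_right (by norm_num : 2 ∣ 24)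
        have hb : Nat.Coprime m 3 := h2.coprime_dvd_right (by norm_num : 3 ∣ 24)
        have hc := hb.pow_right 2
        have := ha.mul_right hc
        norm_num at this
        exact this
      have h' := step_dvd h (by norm_num : 126 = 18 * 7) h18
      have := Nat.le_of_dvd (by norm_num) h'
      omega
    · -- (2,3)
      have := Nat.le_of_dvd (by norm_num) hdvd
      norm_num at this
      omega
    · -- (2,8)
      have h4 : Nat.Coprime m 15 := by simpa using hcop 4 (by norm_num) (by norm_num)
      have h := step_dvd hdvd (by norm_num : 2 ^ 8 - 1 = 15 * 17) h4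
      have := Nat.le_of_dvd (by norm_num) h
      omega
    · -- (2,20)
      have h10 : Nat.Coprime m 1023 := by simpa using hcop 10 (by norm_num) (by norm_num)
      have h4 : Nat.Coprime m 15 := by simpa using hcop 4 (by norm_num) (by norm_num)
      have h := step_dvd hdvd (by norm_num : 2 ^ 20 - 1 = 1023 * 1025) h10
      have h25 : Nat.Coprime m 25 := by
        have := (h4.coprime_dvd_right (by norm_num : 5 ∣ 15)).pow_right 2
        norm_num at this
        exact this
      have h' := step_dvd h (by norm_num : 1025 = 25 * 41) h25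
      have := Nat.le_of_dvd (by norm_num) h'
      omega
    · -- (4,3)
      have h1 : Nat.Coprime m 3 := by simpa using hcop 1 (by norm_num) (by norm_num)
      have h := step_dvd hdvd (by norm_num : 4 ^ 3 - 1 = 3 * 21) h1
      have h' := step_dvd h (by norm_num : 21 = 3 * 7) h1
      have := Nat.le_of_dvd (by norm_num) h'
      omega
    · -- (4,6)
      have h3 : Nat.Coprime m 63 := by simpa using hcop 3 (by norm_num) (by norm_num)
      have h2 : Nat.Coprime m 15 := by simpa using hcop 2 (by norm_num) (by norm_num)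
      have h := step_dvd hdvd (by norm_num : 4 ^ 6 - 1 = 63 * 65) h3
      have h' := step_dvd h (by norm_num : 65 = 5 * 13)
        (h2.coprime_dvd_right (by norm_num : 5 ∣ 15))
      have := Nat.le_of_dvd (by norm_num) h'
      omega

end Cfsg.Agent.S4423
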