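import Cfsg.Statements.S3430
import Cfsg.Agent.S4423

set_option autoImplicit false
open Cfsg

namespace Cfsg.Agent.S3430

open Cfsg.Agent.Lib.H22.PrimPart

/-- A primitive prime divisor `p` of `q ^ n - 1` satisfies `n ∣ p - 1`. -/
theorem dvd_pred_of_primitive {p q n : ℕ} (hp : p.Prime) (hn : 1 ≤ n) (hq : 1 ≤ q)
    (hdvd : p ∣ q ^ n - 1) (hprim : ∀ i : ℕ, 1 ≤ i → i < n → ¬ p ∣ q ^ i - 1) : n ∣ p - 1 := by
  haveI := Fact.mk hp
  have hcast : ∀ k : ℕ, p ∣ q ^ k - 1 ↔ ((q : ZMod p)) ^ k = 1 := by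
    intro k
    rw [← ZMod.natCast_eq_zero_iff, Nat.cast_sub (Nat.one_le_pow _ _ hq)]
    push_cast
    exact sub_eq_zero
  have h1 : (q : ZMod p) ^ n = 1 := (hcast n).1 hdvd
  have hq0 : (q : ZMod p) ≠ 0 := by
    intro h0
    rw [h0, zero_pow (by omega)] at h1
    exact zero_ne_one h1
  have h2 : (q : ZMod p) ^ (p - 1) = 1 := ZMod.pow_card_sub_one_eq_one hq0
  have h3 : (q : ZMod p) ^ Nat.gcd n (p - 1) = 1 := pow_gcd_eq_one.2 ⟨h1, h2⟩
  have hd : Nat.gcd n (p - 1) ∣ n := Nat.gcd_dvd_left _ _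
  have hdpos : 0 < Nat.gcd n (p - 1) := Nat.gcd_pos_of_pos_left _ (by omega)
  have hdle : Nat.gcd n (p - 1) ≤ n := Nat.le_of_dvd (by omega) hd
  have hdeq : Nat.gcd n (p - 1) = n := by
    by_contra hne
    exact hprim _ hdpos (lt_of_le_of_ne hdle hne) ((hcast _).2 h3)
  rw [← hdeq]
  exact Nat.gcd_dvd_right _ _

/-- A large primitive divisor exists outside the exceptional list (all `q ≥ 2`). -/
theorem exists_prim_large {q n : ℕ} (hq : 2 ≤ q) (hn : 3 ≤ n) (hnot : (q, n) ∉ excList) :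
    ∃ m : ℕ, m ∣ q ^ n - 1 ∧ (∀ i : ℕ, 1 ≤ i → i < n → Nat.Coprime m (q ^ i - 1)) ∧
      3 * n + 1 ≤ m := by
  by_cases hsmall : n ≤ 90 ∧ q ≤ 156
  · have hg := small_spec hsmall.1 hsmall.2
    simp only [good, Bool.or_eq_true, decide_eq_true_eq] at hg
    rcases hg with (((h | h) | h) | h) | h
    · omega
    · omega
    · exact absurd h hnot
    · exact Cfsg.Agent.S4423.exists_of_large hq hn h
    · exact ⟨_, chk_spec h⟩
  · exact Cfsg.Agent.S4423.exists_of_large hq hn (Cfsg.Agent.S4423.large_T hq hn hsmall)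

theorem of_prim_large {q n m : ℕ} (hq : 2 ≤ q) (hn : 3 ≤ n) (h1 : m ∣ q ^ n - 1)
    (h2 : ∀ i : ℕ, 1 ≤ i → i < n → Nat.Coprime m (q ^ i - 1)) (h3 : 3 * n + 1 ≤ m) :
    ∃ p : ℕ, p.Prime ∧ p ∣ q ^ n - 1 ∧ (∀ i : ℕ, 1 ≤ i → i < n → ¬ p ∣ q ^ i - 1) ∧
      (n + 1 < p ∨ p ^ 2 ∣ q ^ n - 1) := by
  have hprimP : ∀ p : ℕ, p.Prime → p ∣ m →
      (p ∣ q ^ n - 1 ∧ ∀ i : ℕ, 1 ≤ i → i < n → ¬ p ∣ q ^ i - 1) := by
    intro p hp hpm
    refine ⟨hpm.trans h1, fun i hi hin hpi => ?_⟩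
    have := Nat.eq_one_of_dvd_coprimes (h2 i hi hin) hpm hpi
    exact hp.one_lt.ne' this
  by_cases hex : ∃ p : ℕ, p.Prime ∧ p ∣ m ∧ n + 1 < p
  · obtain ⟨p, hp, hpm, hlt⟩ := hex
    exact ⟨p, hp, (hprimP p hp hpm).1, (hprimP p hp hpm).2, Or.inl hlt⟩
  · push Not at hex
    have hall : ∀ {d : ℕ}, d.Prime → d ∣ m → d = n + 1 := by
      intro d hd hdm
      have hle := hex d hd hdm
      have hdiv := dvd_pred_of_primitive hd (by omega) (by omega) (hprimP d hd hdm).1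
        (hprimP d hd hdm).2
      have h2le := hd.two_le
      have : n ≤ d - 1 := Nat.le_of_dvd (by omega) hdiv
      omega
    have hm0 : m ≠ 0 := by omega
    have hmpow := Nat.eq_prime_pow_of_unique_prime_dvd hm0 hall
    obtain ⟨p, hp, hpm⟩ := Nat.exists_prime_and_dvd (by omega : m ≠ 1)
    have hpe := hall hp hpm
    have hk2 : 2 ≤ m.primeFactorsList.length := by
      by_contra hk
      have hcases : m.primeFactorsList.length = 0 ∨ m.primeFactorsList.length = 1 := by omega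
      rcases hcases with h | h
      · rw [h, pow_zero] at hmpow; omega
      · rw [h, pow_one] at hmpow; omega
    have hsq : (n + 1) ^ 2 ∣ m := by
      rw [hmpow]
      exact pow_dvd_pow _ hk2
    refine ⟨n + 1, hpe ▸ hp, ?_, ?_, Or.inr (hsq.trans h1)⟩
    · rw [← hpe]; exact (hprimP p hp hpm).1
    · rw [← hpe]; exact (hprimP p hp hpm).2

theorem sq_sub_one (q : ℕ) (hq : 1 ≤ q) : q ^ 2 - 1 = (q + 1) * (q - 1) := by
  obtain ⟨k, rfl⟩ : ∃ k, q = k + 1 := ⟨q - 1, by omega⟩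
  have : (k + 1) ^ 2 = (k + 1 + 1) * k + 1 := by ring
  rw [this]
  simp

theorem case_two {q : ℕ} (hq : 2 ≤ q)
    (h1 : ¬ ∃ s t : ℕ, t ≤ 1 ∧ q + 1 = 2 ^ s * 3 ^ t) :
    ∃ p : ℕ, p.Prime ∧ p ∣ q ^ 2 - 1 ∧ (∀ i : ℕ, 1 ≤ i → i < 2 → ¬ p ∣ q ^ i - 1) ∧
      (2 + 1 < p ∨ p ^ 2 ∣ q ^ 2 - 1) := by
  have hfac := sq_sub_one q (by omega)
  have hr0 : q + 1 ≠ 0 := by omega
  set u := (q + 1) / 2 ^ (q + 1).factorization 2 with hu
  have hru : 2 ^ (q + 1).factorization 2 * u = q + 1 := Nat.ordProj_mul_ordCompl_eq_self (q + 1) 2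
  have hodd : ¬ 2 ∣ u := Nat.not_dvd_ordCompl Nat.prime_two hr0
  have hu_dvd : u ∣ q + 1 := Dvd.intro_left _ hru
  have hu0 : u ≠ 0 := by
    intro h0
    rw [h0, mul_zero] at hru
    omega
  -- a prime dividing both `q + 1` and `q - 1` is `2`
  have hnot1 : ∀ p : ℕ, p.Prime → p ∣ q + 1 → p ≠ 2 → ∀ i : ℕ, 1 ≤ i → i < 2 → ¬ p ∣ q ^ i - 1 := by
    intro p hp hpq hp2 i hi hi2 hdiv
    have hi1 : i = 1 := by omega
    rw [hi1, pow_one] at hdiv
    have h2 : p ∣ (q + 1) - (q - 1) := Nat.dvd_sub hpq hdiv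
    have h3 : (q + 1) - (q - 1) = 2 := by omega
    rw [h3] at h2
    exact hp2 ((Nat.prime_dvd_prime_iff_eq hp Nat.prime_two).1 h2)
  by_cases hex : ∃ p : ℕ, p.Prime ∧ p ∣ u ∧ 3 < p
  · obtain ⟨p, hp, hpu, hlt⟩ := hex
    have hpq : p ∣ q + 1 := hpu.trans hu_dvd
    refine ⟨p, hp, ?_, hnot1 p hp hpq (by omega), Or.inl (by omega)⟩
    rw [hfac]
    exact hpq.mul_right _
  · push Not at hex
    have hall : ∀ {d : ℕ}, d.Prime → d ∣ u → d = 3 := by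
      intro d hd hdu
      have hle := hex d hd hdu
      have h2le := hd.two_le
      have hne2 : d ≠ 2 := by
        rintro rfl
        exact hodd hdu
      omega
    have hupow := Nat.eq_prime_pow_of_unique_prime_dvd hu0 hall
    have ht : 2 ≤ u.primeFactorsList.length := by
      by_contra hk
      apply h1
      refine ⟨(q + 1).factorization 2, u.primeFactorsList.length, by omega, ?_⟩
      rw [← hupow, hru]
    have h9 : 3 ^ 2 ∣ q + 1 := by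
      refine Dvd.dvd.trans ?_ hu_dvd
      rw [hupow]
      exact pow_dvd_pow _ ht
    have h3 : 3 ∣ q + 1 := Dvd.dvd.trans (by norm_num) h9
    refine ⟨3, Nat.prime_three, ?_, hnot1 3 Nat.prime_three h3 (by norm_num), Or.inr ?_⟩
    · rw [hfac]; exact h3.mul_right _
    · rw [hfac]; exact h9.mul_right _

/-- Let q, n ≥ 2 be integers. Unless (n = 2 and q + 1 = 2^s·3^t for some s ≥ 0 and t ≤ 1), or (q = 2 and n ∈ {4, 6, 10, 12, 18}), or (q = 3 and n ∈ {4, 6}), or (q, n) = (5, 6), there is a prime p dividing q^n − 1 but no q^i − 1 with 1 ≤ i < n (a primitive prime divisor), such that p > n + 1 or p² divides q^n − 1. -/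
theorem result (q n : ℕ) (hq : 2 ≤ q) (hn : 2 ≤ n)
    (h1 : ¬ (n = 2 ∧ ∃ s t : ℕ, t ≤ 1 ∧ q + 1 = 2 ^ s * 3 ^ t))
    (h2 : ¬ (q = 2 ∧ (n = 4 ∨ n = 6 ∨ n = 10 ∨ n = 12 ∨ n = 18)))
    (h3 : ¬ (q = 3 ∧ (n = 4 ∨ n = 6))) (h4 : ¬ (q = 5 ∧ n = 6)) :
    ∃ p : ℕ, p.Prime ∧ p ∣ q ^ n - 1 ∧ (∀ i : ℕ, 1 ≤ i → i < n → ¬ p ∣ q ^ i - 1) ∧ (n + 1 < p ∨ p ^ 2 ∣ q ^ n - 1) := by
  by_cases hn2 : n = 2
  · subst hn2
    exact case_two hq (fun h => h1 ⟨rfl, h⟩)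
  have hn3 : 3 ≤ n := by omega
  by_cases e1 : q = 2 ∧ n = 3
  · obtain ⟨rfl, rfl⟩ := e1
    refine ⟨7, by norm_num, by norm_num, ?_, Or.inl (by norm_num)⟩
    intro i hi hin
    interval_cases i <;> norm_num
  by_cases e2 : q = 2 ∧ n = 8
  · obtain ⟨rfl, rfl⟩ := e2
    refine ⟨17, by norm_num, by norm_num, ?_, Or.inl (by norm_num)⟩
    intro i hi hin
    interval_cases i <;> norm_num
  by_cases e3 : q = 2 ∧ n = 20
  · obtain ⟨rfl, rfl⟩ := e3
    refine ⟨41, by norm_num, by norm_num, ?_, Or.inl (by norm_num)⟩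
    intro i hi hin
    interval_cases i <;> norm_num
  by_cases e4 : q = 4 ∧ n = 3
  · obtain ⟨rfl, rfl⟩ := e4
    refine ⟨7, by norm_num, by norm_num, ?_, Or.inl (by norm_num)⟩
    intro i hi hin
    interval_cases i <;> norm_num
  by_cases e5 : q = 4 ∧ n = 6
  · obtain ⟨rfl, rfl⟩ := e5
    refine ⟨13, by norm_num, by norm_num, ?_, Or.inl (by norm_num)⟩
    intro i hi hin
    interval_cases i <;> norm_num
  have hnot : (q, n) ∉ excList := by
    simp only [excList, List.mem_cons, Prod.mk.injEq, List.mem_nil_iff, or_false]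
    omega
  obtain ⟨m, hm1, hm2, hm3⟩ := exists_prim_large hq hn3 hnot
  exact of_prim_large hq hn3 hm1 hm2 hm3

end Cfsg.Agent.S3430
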