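import Cfsg.Statements.S3449
import Cfsg.Agent.Lib.H17.SpecA5

set_option autoImplicit false
open Cfsg

namespace Cfsg.Agent.S3449

open Cfsg.Agent.Lib.H17

theorem spec_a5_cube :
    Set.range (orderOf : alternatingGroup (Fin 5) × alternatingGroup (Fin 5) × alternatingGroup (Fin 5) → ℕ) =
      {1, 2, 3, 5, 6, 10, 15, 30} := by
  ext n
  constructor
  · rintro ⟨⟨a, b, c⟩, rfl⟩
    rw [Prod.orderOf_mk, Prod.orderOf_mk]
    rcases a5_orderOf a with ha | ha | ha | ha <;> rcases a5_orderOf b with hb | hb | hb | hb <;>
      rcases a5_orderOf c with hc | hc | hc | hc <;>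
      rw [ha, hb, hc] <;> decide
  · intro hn
    simp only [Set.mem_insert_iff, Set.mem_singleton_iff] at hn
    have key : ∀ x y z : ℕ, (x = 1 ∨ x = 2 ∨ x = 3 ∨ x = 5) → (y = 1 ∨ y = 2 ∨ y = 3 ∨ y = 5) →
        (z = 1 ∨ z = 2 ∨ z = 3 ∨ z = 5) →
        Nat.lcm x (Nat.lcm y z) ∈ Set.range (orderOf : alternatingGroup (Fin 5) × alternatingGroup (Fin 5) × alternatingGroup (Fin 5) → ℕ) := by
      intro x y z hx hy hz
      obtain ⟨a, ha⟩ := a5_exists_orderOf x hx
      obtain ⟨b, hb⟩ := a5_exists_orderOf y hy
      obtain ⟨c, hc⟩ := a5_exists_orderOf z hz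
      exact ⟨(a, b, c), by rw [Prod.orderOf_mk, Prod.orderOf_mk, ha, hb, hc]⟩
    rcases hn with rfl | rfl | rfl | rfl | rfl | rfl | rfl | rfl
    · exact key 1 1 1 (by decide) (by decide) (by decide)
    · exact key 2 1 1 (by decide) (by decide) (by decide)
    · exact key 3 1 1 (by decide) (by decide) (by decide)
    · exact key 5 1 1 (by decide) (by decide) (by decide)
    · exact key 2 3 1 (by decide) (by decide) (by decide)
    · exact key 2 5 1 (by decide) (by decide) (by decide)
    · exact key 3 5 1 (by decide) (by decide) (by decide)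
    · exact key 2 3 5 (by decide) (by decide) (by decide)

theorem spec_zmod30 :
    Set.range (orderOf : Multiplicative (ZMod 30) → ℕ) = {1, 2, 3, 5, 6, 10, 15, 30} := by
  ext n
  constructor
  · rintro ⟨x, rfl⟩
    have h : orderOf x ∣ 30 := by
      have := orderOf_dvd_natCard x
      simpa using this
    have hmem : orderOf x ∈ Nat.divisors 30 := Nat.mem_divisors.2 ⟨h, by norm_num⟩
    have hd : Nat.divisors 30 = {1, 2, 3, 5, 6, 10, 15, 30} := by decide
    rw [hd] at hmem
    simpa using hmem
  · intro hn
    simp only [Set.mem_insert_iff, Set.mem_singleton_iff] at hn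
    have key : ∀ k : ℕ, (30 / Nat.gcd 30 k) ∈ Set.range (orderOf : Multiplicative (ZMod 30) → ℕ) := by
      intro k
      refine ⟨Multiplicative.ofAdd ((k : ℕ) : ZMod 30), ?_⟩
      rw [orderOf_ofAdd_eq_addOrderOf, ZMod.addOrderOf_coe k (by norm_num)]
    rcases hn with rfl | rfl | rfl | rfl | rfl | rfl | rfl | rfl
    · exact key 30
    · exact key 15
    · exact key 10
    · exact key 6
    · exact key 5
    · exact key 3
    · exact key 2
    · exact key 1

/-- The direct product of three copies of the alternating group of degree 5 has exactly the same set of element orders as the cyclic group of order 30, namely the divisors of 30; in particular a direct power of a non-abelian simple group need not be determined by its element orders. -/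
theorem result : Set.range (orderOf : alternatingGroup (Fin 5) × alternatingGroup (Fin 5) × alternatingGroup (Fin 5) → ℕ) =
      Set.range (orderOf : Multiplicative (ZMod 30) → ℕ) := by
  rw [spec_a5_cube, spec_zmod30]

end Cfsg.Agent.S3449
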