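import Cfsg.Statements.S3452
import Cfsg.Agent.Lib.H8.PGLj
import Cfsg.Agent.Lib.H1.PGL2SpecC
import Cfsg.Agent.Lib.H25.SolvSpec

set_option autoImplicit false
open Cfsg

namespace Cfsg.Agent.S3452


theorem exists_large_of_solvable {G : Type} [Group G] [Finite G] (hs : Group.IsSolvable G)
    (hn : Nontrivial G) (N : ℕ) :
    ∃ (H : Type) (_ : Group H) (_ : Fintype H), N < Fintype.card H ∧
      Set.range (orderOf : H → ℕ) = Set.range (orderOf : G → ℕ) := by
  have hs' : Group.IsSolvable (⊤ : Subgroup G) := inferInstance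
  exact Cfsg.Agent.Lib.H17.exists_large_isospectral_of_solvable (⊤ : Subgroup G)
    top_ne_bot hs' N

theorem set_a : {d : ℕ | d ∣ 2 ∨ d ∣ 2 - 1 ∨ d ∣ 2 + 1} = {1, 2, 3} := by
  ext d
  simp only [Set.mem_ofPred_eq, Set.mem_insert_iff, Set.mem_singleton_iff]
  constructor
  · rintro (h | h | h) <;>
      (have := Nat.le_of_dvd (by norm_num) h; interval_cases d <;> omega)
  · rintro (rfl | rfl | rfl) <;> omega

theorem set_b : {d : ℕ | d ∣ 3 ∨ d ∣ 3 - 1 ∨ d ∣ 3 + 1} = {1, 2, 3, 4} := by
  ext d
  simp only [Set.mem_ofPred_eq, Set.mem_insert_iff, Set.mem_singleton_iff]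
  constructor
  · rintro (h | h | h) <;>
      (have := Nat.le_of_dvd (by norm_num) h; interval_cases d <;> omega)
  · rintro (rfl | rfl | rfl | rfl) <;> omega

theorem set_c : {d : ℕ | d ∣ 3 ∨ d ∣ 9 - 1 ∨ d ∣ 9 + 1} = {1, 2, 3, 4, 5, 8, 10} := by
  ext d
  simp only [Set.mem_ofPred_eq, Set.mem_insert_iff, Set.mem_singleton_iff]
  constructor
  · rintro (h | h | h) <;>
      (have := Nat.le_of_dvd (by norm_num) h; interval_cases d <;> omega)
  · rintro (rfl | rfl | rfl | rfl | rfl | rfl | rfl) <;> omega

/-- For F a finite field whose number of elements is a prime or equals 9, the group PGL(2,F) = GL(2,F)/Z(GL(2,F)) is not determined by its set of element orders: for every bound N there is a finite group of order greater than N with exactly the same set of element orders as PGL(2,F). -/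
theorem result {F : Type*} [Field F] [Fintype F] (hF : (Fintype.card F).Prime ∨ Fintype.card F = 9) (N : ℕ) :
    ∃ (H : Type) (_ : Group H) (_ : Fintype H), N < Fintype.card H ∧
      Set.range (orderOf : H → ℕ) = Set.range (orderOf : Matrix.GeneralLinearGroup (Fin 2) F ⧸ Subgroup.center (Matrix.GeneralLinearGroup (Fin 2) F) → ℕ) := by
  rcases hF with hq | h9
  · haveI : Fact (Fintype.card F).Prime := ⟨hq⟩
    haveI : CharP F (Fintype.card F) := charP_of_card_eq_prime rfl
    rw [Cfsg.Agent.Lib.H1.PGL2Spec.pgl2_spectrum (Fintype.card F)]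
    by_cases h5 : 5 ≤ Fintype.card F
    · exact Cfsg.Agent.Lib.H8.PGL.exists_large_prime hq h5 N
    · have h23 : Fintype.card F = 2 ∨ Fintype.card F = 3 := by
        have h2 := hq.two_le
        have h4 : Fintype.card F ≠ 4 := by
          intro h; rw [h] at hq; exact absurd hq (by decide)
        omega
      rcases h23 with h | h
      · rw [h, set_a]
        obtain ⟨G, iG, iF, hs, hn, hspec⟩ := Cfsg.Agent.Lib.H25.SolvSpec.exists_solvable_spec_a
        rw [← hspec]
        exact exists_large_of_solvable hs hn N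
      · rw [h, set_b]
        obtain ⟨G, iG, iF, hs, hn, hspec⟩ := Cfsg.Agent.Lib.H25.SolvSpec.exists_solvable_spec_b
        rw [← hspec]
        exact exists_large_of_solvable hs hn N
  · have h3 : CharP F 3 := by
      obtain ⟨n, hp, hc⟩ := FiniteField.card F (ringChar F)
      rw [h9] at hc
      have hdvd : ringChar F ∣ 9 := by
        rw [hc]; exact dvd_pow_self _ n.ne_zero
      have h3' : ringChar F ∣ 3 := by
        have : ringChar F ∣ 3 ^ 2 := by norm_num; exact hdvd
        exact hp.dvd_of_dvd_pow this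
      have : ringChar F = 3 := (Nat.prime_dvd_prime_iff_eq hp Nat.prime_three).mp h3'
      rw [← this]
      exact ringChar.charP F
    rw [Cfsg.Agent.Lib.H1.PGL2Spec.pgl2_spectrum 3, h9, set_c]
    obtain ⟨G, iG, iF, hs, hn, hspec⟩ := Cfsg.Agent.Lib.H25.SolvSpec.exists_solvable_spec_c
    rw [← hspec]
    exact exists_large_of_solvable hs hn N

end Cfsg.Agent.S3452
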