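import Cfsg.Statements.S3489
import Cfsg.Agent.Lib.H22.A10K2
import Cfsg.Agent.Lib.H22.A10W
import Cfsg.Agent.Lib.H22.A10Sd
import Cfsg.Agent.Lib.H22.A10Spec

set_option autoImplicit false
open Cfsg

namespace Cfsg.Agent.S3489

open Cfsg.Agent.Lib.H22 Cfsg.Agent.Lib.H22.A10K

/-- the central involution as an element of the centre -/
def zc : Subgroup.center K := ⟨kz, kz_center⟩

theorem zc_sq : ((zc : Subgroup.center K) : K) ^ 2 = 1 := kz_sq

theorem zc_ne : ((zc : Subgroup.center K) : K) ≠ 1 := kz_ne_one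

/-- element of order 5 -/
def x5 : K := k2 ^ 2
/-- element of order 3 -/
def x3 : K := k12 ^ 4

theorem orderOf_x5 : orderOf x5 = 5 := by
  unfold x5
  rw [orderOf_pow_of_dvd (by norm_num) (by rw [orderOf_k2]; norm_num), orderOf_k2]

theorem orderOf_x3 : orderOf x3 = 3 := by
  unfold x3
  rw [orderOf_pow_of_dvd (by norm_num) (by rw [orderOf_k12]; norm_num), orderOf_k12]

theorem x5_pow : x5 ^ 5 = 1 := by rw [← orderOf_x5]; exact pow_orderOf_eq_one _
theorem x3_pow : x3 ^ 3 = 1 := by rw [← orderOf_x3]; exact pow_orderOf_eq_one _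
theorem x3_ne : x3 ≠ 1 := by
  intro h
  have := orderOf_x3
  rw [h, orderOf_one] at this
  omega

/-- The groups. -/
abbrev Hk (k : ℕ) : Type := A10Sd.SD K ((Fin k → V7) × A10W.W zc)

instance (k : ℕ) : Finite (Fin k → V7) :=
  inferInstanceAs (Finite (Fin k → Fin 4 → ZMod 7))

instance : Finite (A10W.W zc) := Subtype.finite

instance (k : ℕ) : Finite (Hk k) := inferInstance

theorem range_Hk (k : ℕ) :
    Set.range (orderOf : Hk (k + 1) → ℕ) = A10Sd.T := by
  have h7 : ∀ a : Fin (k + 1) → V7, (7 : ℕ) • a = 0 := by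
    intro a
    funext i
    rw [Pi.smul_apply, seven_nsmul]
    rfl
  have hnt7 : ∃ a : Fin (k + 1) → V7, a ≠ 0 := by
    refine ⟨fun _ => e0, ?_⟩
    intro h
    exact e0_ne (congrFun h 0)
  have hfpf : ∀ g : K, g ≠ 1 → ∀ a : Fin (k + 1) → V7, g • a = a → a = 0 := by
    intro g hg a ha
    funext i
    have := congrFun ha i
    rw [Pi.smul_apply] at this
    exact fpf g hg (a i) this
  have hz7 : ∀ a : Fin (k + 1) → V7, kz • a = -a := by
    intro a
    funext i
    rw [Pi.smul_apply, kz_smul]
    rfl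
  have hz3 : ∀ w : A10W.W zc, kz • w = -w := fun w => A10W.z_smul zc zc_sq w
  have h3 : ∀ w : A10W.W zc, (3 : ℕ) • w = 0 := fun w => A10W.three_nsmul zc w
  ext n
  constructor
  · rintro ⟨h, rfl⟩
    exact A10Sd.orderOf_mem_T h7 hnt7 hfpf kz hz7 hz3 h3 orders h
  · intro hn
    obtain ⟨a7, ha7⟩ := hnt7
    exact A10Sd.exists_orderOf_of_mem_T h7 h3 k1 k2 k12 orderOf_k1 orderOf_k2 orderOf_k12
      a7 ha7 (A10W.f0 zc zc_sq x5) x3 orderOf_x3
      (A10W.sum_three_f0_ne zc zc_sq zc_ne x5_pow x3_pow x3_ne)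
      (A10W.f0 zc zc_sq x5) x5 orderOf_x5 (A10W.x5_smul_f0 zc zc_sq x5)
      (A10W.f0_ne_zero zc zc_sq zc_ne x5_pow) hn

theorem card_Hk (k : ℕ) : k < Nat.card (Hk (k + 1)) := by
  have hinj : Function.Injective
      (fun i : Fin (k + 1) =>
        (A10Sd.mk ((Pi.single i e0, 0) : (Fin (k + 1) → V7) × A10W.W zc) (1 : K) : Hk (k + 1))) := by
    intro i j hij
    have h1 := congrArg SemidirectProduct.left hij
    simp only [A10Sd.mk_left] at h1
    have h2 := Multiplicative.ofAdd.injective h1
    have h3 := congrArg Prod.fst h2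
    simp only at h3
    have h4 := congrFun h3 i
    rw [Pi.single_eq_same] at h4
    by_contra hne
    rw [Pi.single_eq_of_ne hne] at h4
    exact e0_ne h4
  have := Nat.card_le_card_of_injective _ hinj
  rw [Nat.card_eq_fintype_card, Fintype.card_fin] at this
  exact this

/-- The alternating group of degree 10 is not determined by its set of element orders, not even up to finitely many groups: for every bound N there is a finite group of order greater than N with exactly the same set of element orders as the alternating group of degree 10. -/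
theorem result (N : ℕ) : ∃ (H : Type) (_ : Group H) (_ : Fintype H), N < Fintype.card H ∧ Set.range (orderOf : H → ℕ) = Set.range (orderOf : alternatingGroup (Fin 10) → ℕ) := by
  classical
  let inst : Fintype (Hk (N + 1)) := Fintype.ofFinite _
  refine ⟨Hk (N + 1), inferInstance, inst, ?_, ?_⟩
  · have := card_Hk N
    rwa [Nat.card_eq_fintype_card] at this
  · rw [range_Hk, A10Spec.spectrum]
    rfl

end Cfsg.Agent.S3489
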