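import Cfsg.Statements.S3491
import Cfsg.Agent.Lib.H17.AffSLTrans
import Cfsg.Agent.Lib.H17.SpecA6
import Cfsg.Agent.Lib.H17.LargeIsospectral

set_option autoImplicit false
open Cfsg

namespace Cfsg.Agent.S3491

/-- The alternating group of degree 6 is not determined by its set of element orders, not even up to finitely many groups: for every bound N there is a finite group of order greater than N with exactly the same set of element orders as the alternating group of degree 6. -/
theorem result (N : ℕ) : ∃ (H : Type) (_ : Group H) (_ : Fintype H), N < Fintype.card H ∧ Set.range (orderOf : H → ℕ) = Set.range (orderOf : alternatingGroup (Fin 6) → ℕ) := by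
  classical
  haveI : Fact (Nat.Prime 2) := ⟨Nat.prime_two⟩
  letI : Fintype (GaloisField 2 2) := Fintype.ofFinite _
  have hF : Fintype.card (GaloisField 2 2) = 4 := by
    rw [← Nat.card_eq_fintype_card, GaloisField.card 2 2 (by norm_num)]
    norm_num
  have h2 : (2 : GaloisField 2 2) = 0 := Cfsg.Agent.Lib.H17.two_eq_zero_of_card hF
  haveI : Finite (Matrix.SpecialLinearGroup (Fin 3) (GaloisField 2 2)) :=
    Finite.of_injective (fun M => (M : Matrix (Fin 3) (Fin 3) (GaloisField 2 2)))
      Subtype.val_injective
  obtain ⟨H, instG, instF, hcard, hspec⟩ :=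
    Cfsg.Agent.Lib.H17.exists_large_isospectral_of_elemAb
      (G := Cfsg.Agent.Lib.H17.affSL (GaloisField 2 2))
      (Cfsg.Agent.Lib.H17.transSub (F := GaloisField 2 2))
      Cfsg.Agent.Lib.H17.transSub_ne_bot 2 Nat.prime_two
      (Cfsg.Agent.Lib.H17.transSub_comm h2) (Cfsg.Agent.Lib.H17.transSub_sq h2) N
  refine ⟨H, instG, instF, hcard, ?_⟩
  rw [hspec, Cfsg.Agent.Lib.H17.affSL_spectrum hF, Cfsg.Agent.Lib.H17.a6_spectrum]

end Cfsg.Agent.S3491
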