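import Cfsg.Statements.S3494
import Mathlib

set_option autoImplicit false
open Cfsg

namespace Cfsg.Agent.S3494

open Pointwise MulAction

section general
variable {G : Type*} [Group G] {Ω : Type*} [MulAction G Ω]

theorem ncard_smul_set' (g : G) (S : Set Ω) : (g • S).ncard = S.ncard := by
  rw [← Set.image_smul]
  exact Set.ncard_image_of_injective _ (MulAction.injective g)

/-- **Closure lemma**: in a primitive action, a non-empty set closed under a non-diagonal
orbital is everything. -/
theorem closed_eq_univ [Finite Ω] (hprim : IsPreprimitive G Ω) {u v : Ω} (huv : u ≠ v) :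
    ∀ (n : ℕ) (S : Set Ω), S.ncard = n → S.Nonempty →
      (∀ x ∈ S, ∀ g : G, g • u = x → g • v ∈ S) → S = Set.univ := by
  intro n
  induction n using Nat.strong_induction_on with
  | _ n ih =>
  intro S hn hne hcl
  by_contra hSu
  have hblock : IsBlock G S := by
    rw [isBlock_iff_smul_eq_of_mem]
    intro g a ha hga
    set T := S ∩ g • S with hT
    have hTne : T.Nonempty := ⟨g • a, hga, Set.smul_mem_smul_set ha⟩
    have hTcl : ∀ x ∈ T, ∀ k : G, k • u = x → k • v ∈ T := by
      intro x hx k hk
      refine ⟨hcl x hx.1 k hk, ?_⟩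
      have h2 := hx.2
      rw [Set.mem_smul_set_iff_inv_smul_mem] at h2 ⊢
      have := hcl _ h2 (g⁻¹ * k) (by rw [mul_smul, hk])
      rwa [mul_smul] at this
    by_cases hTS : T = S
    · have hsub : S ⊆ g • S := by
        intro x hx
        have : x ∈ T := hTS ▸ hx
        exact this.2
      exact (Set.eq_of_subset_of_ncard_le hsub (by rw [ncard_smul_set']) (Set.toFinite _)).symm
    · have hlt : T.ncard < n := by
        rw [← hn]
        exact Set.ncard_lt_ncard (lt_of_le_of_ne Set.inter_subset_left hTS)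
          (Set.toFinite S)
      have hTu := ih _ hlt T rfl hTne hTcl
      exfalso
      apply hSu
      rw [Set.eq_univ_iff_forall] at hTu ⊢
      exact fun x => (hTu x).1
  haveI := hprim.toIsPretransitive
  rcases hprim.isTrivialBlock_of_isBlock hblock with hsub | huniv
  · obtain ⟨x, hx⟩ := hne
    obtain ⟨k, hk⟩ := exists_smul_eq G u x
    have h1 := hcl x hx k hk
    have h2 := hsub h1 hx
    apply huv
    rw [← hk] at h2
    exact (MulAction.injective k h2).symm
  · exact hSu huniv

/-- **Block lemma**: a "conjugation-equivariant" invariant that agrees at two distinct points is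
constant. -/
theorem const_of_agree [Finite Ω] (hprim : IsPreprimitive G Ω) {X : Type*} (f : Ω → X)
    (hf : ∀ (g : G) (x y : Ω), f x = f y → f (g • x) = f (g • y)) {a b : Ω} (hab : a ≠ b)
    (hfab : f a = f b) : ∀ x : Ω, f x = f a := by
  set B : Set Ω := {x | f x = f a} with hB
  have hblock : IsBlock G B := by
    rw [isBlock_iff_smul_eq_of_mem]
    intro g c hc hgc
    -- f c = f a, f (g c) = f a
    ext x
    rw [Set.mem_smul_set_iff_inv_smul_mem]
    change f (g⁻¹ • x) = f a ↔ f x = f a
    have hc' : f c = f a := hc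
    have hgc' : f (g • c) = f a := hgc
    constructor
    · intro h
      have h1 := hf g _ _ (h.trans hc'.symm)
      rw [smul_inv_smul] at h1
      exact h1.trans hgc'
    · intro h
      have h1 := hf g⁻¹ _ _ (h.trans hgc'.symm)
      rw [inv_smul_smul] at h1
      exact h1.trans hc'
  rcases hprim.isTrivialBlock_of_isBlock hblock with hsub | huniv
  · exact absurd (hsub (show a ∈ B from rfl) (show b ∈ B from hfab.symm)) hab
  · intro x
    have : x ∈ B := huniv ▸ Set.mem_univ x
    exact this

end general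

section orbital
variable {G : Type*} [Group G] {Ω : Type*} [MulAction G Ω]

/-- the orbital of the pair `(p, q)` -/
def Rel (G : Type*) [Group G] [MulAction G Ω] (p q x y : Ω) : Prop := ∃ g : G, g • p = x ∧ g • q = y

theorem Rel.smul {p q x y : Ω} (h : Rel G p q x y) (g : G) : Rel G p q (g • x) (g • y) := by
  obtain ⟨k, rfl, rfl⟩ := h
  exact ⟨g * k, mul_smul _ _ _, mul_smul _ _ _⟩

theorem Rel.swap {p q x y : Ω} (h : Rel G p q x y) : Rel G q p y x := by
  obtain ⟨k, rfl, rfl⟩ := h
  exact ⟨k, rfl, rfl⟩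

/-- two out-neighbours of `x` are conjugate under `G_x` -/
theorem Rel.exists_stab {p q x y y' : Ω} (h : Rel G p q x y) (h' : Rel G p q x y') :
    ∃ k : G, k • x = x ∧ k • y' = y := by
  obtain ⟨g₁, hg₁x, hg₁y⟩ := h
  obtain ⟨g₂, hg₂x, hg₂y⟩ := h'
  refine ⟨g₁ * g₂⁻¹, ?_, ?_⟩
  · rw [mul_smul]
    nth_rewrite 1 [← hg₂x]
    rw [inv_smul_smul, hg₁x]
  · rw [mul_smul, ← hg₂y, inv_smul_smul, hg₁y]

/-- the kernel of `G_x` on the suborbit `Rel p q x` -/
def Ker (G : Type*) [Group G] [MulAction G Ω] (p q x : Ω) : Subgroup G where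
  carrier := {h | h • x = x ∧ ∀ y, Rel G p q x y → h • y = y}
  one_mem' := ⟨one_smul _ _, fun _ _ => one_smul _ _⟩
  mul_mem' := by
    rintro a b ⟨ha, ha'⟩ ⟨hb, hb'⟩
    exact ⟨by rw [mul_smul, hb, ha], fun y hy => by rw [mul_smul, hb' y hy, ha' y hy]⟩
  inv_mem' := by
    rintro a ⟨ha, ha'⟩
    refine ⟨by rw [inv_smul_eq_iff, ha], fun y hy => by rw [inv_smul_eq_iff, ha' y hy]⟩

theorem mem_Ker {p q x : Ω} {h : G} :
    h ∈ Ker G p q x ↔ h • x = x ∧ ∀ y, Rel G p q x y → h • y = y := Iff.rfl

theorem Ker_le_stab (p q x : Ω) : Ker G p q x ≤ stabilizer G x := fun _ h => h.1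

theorem Ker_conj {p q x : Ω} {n : G} (hn : n ∈ Ker G p q x) (g : G) :
    g * n * g⁻¹ ∈ Ker G p q (g • x) := by
  refine ⟨?_, ?_⟩
  · rw [mul_smul, mul_smul, inv_smul_smul, hn.1]
  · intro y hy
    have h1 : Rel G p q x (g⁻¹ • y) := by
      have := hy.smul g⁻¹
      rwa [inv_smul_smul] at this
    rw [mul_smul, mul_smul, hn.2 _ h1, smul_inv_smul]

theorem Ker_smul_eq {p q x y : Ω} (g : G) (h : Ker G p q x = Ker G p q y) :
    Ker G p q (g • x) = Ker G p q (g • y) := by
  ext n
  have key : ∀ z : Ω, n ∈ Ker G p q (g • z) ↔ g⁻¹ * n * g ∈ Ker G p q z := by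
    intro z
    constructor
    · intro hn
      have := Ker_conj hn g⁻¹
      rwa [inv_smul_smul, inv_inv] at this
    · intro hn
      have := Ker_conj hn g
      have e : g * (g⁻¹ * n * g) * g⁻¹ = n := by group
      rwa [e] at this
  rw [key, key, h]

/-- **trivial or transitive**: a normal subgroup of `G_x` is trivial or transitive on each orbit of
`G_x`, when `G_x` is primitive on it -/
theorem trivial_or_transitive (x z : Ω)
    (hep : IsPreprimitive (stabilizer G x) (orbit (stabilizer G x) z))
    (N : Subgroup G) (hNx : N ≤ stabilizer G x)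
    (hnorm : ∀ g ∈ stabilizer G x, ∀ n ∈ N, g * n * g⁻¹ ∈ N) :
    (∀ n ∈ N, n • z = z) ∨ (∀ y ∈ orbit (stabilizer G x) z, ∃ n ∈ N, n • z = y) := by
  set H := stabilizer G x with hH
  set N' : Subgroup H := N.subgroupOf H with hN'
  haveI : N'.Normal := by
    constructor
    intro n hn g
    rw [hN', Subgroup.mem_subgroupOf] at hn ⊢
    exact hnorm g.1 g.2 _ hn
  haveI := hep
  have hq := (IsQuasiPreprimitive.isPretransitive_of_normal (G := H)
    (X := orbit H z) (N := N'))
  set z₀ : orbit H z := ⟨z, mem_orbit_self z⟩ with hz₀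
  by_cases hfix : fixedPoints N' (orbit H z) = Set.univ
  · left
    intro n hn
    have hz : z₀ ∈ fixedPoints N' (orbit H z) := hfix ▸ Set.mem_univ _
    have := hz ⟨⟨n, hNx hn⟩, by rw [hN', Subgroup.mem_subgroupOf]; exact hn⟩
    exact congrArg Subtype.val this
  · right
    have htr := hq hfix
    intro y hy
    obtain ⟨n, hn⟩ := htr.exists_smul_eq z₀ ⟨y, hy⟩
    refine ⟨((n : H) : G), ?_, ?_⟩
    · exact Subgroup.mem_subgroupOf.mp n.2
    · exact congrArg Subtype.val hn

end orbital

section main
variable {G : Type*} [Group G] {Ω : Type*} [MulAction G Ω]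

theorem step1 [Finite Ω] (hprim : IsPreprimitive G Ω)
    (hep : ∀ (x z : Ω), IsPreprimitive (stabilizer G x) (orbit (stabilizer G x) z))
    {p q : Ω} (hpq : p ≠ q) {a b : Ω} (hab : Rel G p q a b) : Ker G p q a ≤ Ker G q p b := by
  intro h hh
  refine ⟨hh.2 b hab, ?_⟩
  intro a' ha'
  have ha'b : Rel G p q a' b := ha'.swap
  by_contra hmove
  have hnorm : ∀ g ∈ stabilizer G a, ∀ n ∈ Ker G p q a, g * n * g⁻¹ ∈ Ker G p q a := by
    intro g hg n hn
    have := Ker_conj hn g
    rwa [mem_stabilizer_iff.mp hg] at this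
  rcases trivial_or_transitive a a' (hep a a') (Ker G p q a) (Ker_le_stab p q a) hnorm with
    htriv | htrans
  · exact hmove (htriv h hh)
  have hstar : ∀ y ∈ orbit (stabilizer G a) a', Rel G p q y b := by
    intro y hy
    obtain ⟨n, hn, rfl⟩ := htrans y hy
    have := ha'b.smul n
    rwa [hn.2 b hab] at this
  have haa' : a ≠ a' := by
    rintro rfl
    exact hmove hh.1
  set S : Set Ω := {x | Rel G p q x b} with hS
  have hScl : ∀ x ∈ S, ∀ g : G, g • a = x → g • a' ∈ S := by
    intro x hx g hg
    have hx' : Rel G p q x b := hx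
    have h2 : Rel G p q x (g • b) := by rw [← hg]; exact hab.smul g
    obtain ⟨k, hkx, hkb⟩ := hx'.exists_stab h2
    have hg'a : (k * g) • a = x := by rw [mul_smul, hg, hkx]
    have hg'b : (k * g) • b = b := by rw [mul_smul, hkb]
    have hkx' : k⁻¹ • x = x := by rw [inv_smul_eq_iff, hkx]
    have hm : (k * g)⁻¹ * k⁻¹ * (k * g) ∈ stabilizer G a := by
      rw [mem_stabilizer_iff, mul_smul, mul_smul, hg'a, hkx', inv_smul_eq_iff, hg'a]
    have hy : ((k * g)⁻¹ * k⁻¹ * (k * g)) • a' ∈ orbit (stabilizer G a) a' := ⟨⟨_, hm⟩, rfl⟩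
    have h3 := (hstar _ hy).smul (k * g)
    rw [hg'b] at h3
    have e : (k * g) • ((k * g)⁻¹ * k⁻¹ * (k * g)) • a' = g • a' := by
      rw [← mul_smul]
      congr 1
      group
    rw [e] at h3
    exact h3
  have hSu := closed_eq_univ hprim haa' _ S rfl ⟨a, hab⟩ hScl
  have hbS : b ∈ S := hSu ▸ Set.mem_univ b
  obtain ⟨g, hg1, hg2⟩ := hbS
  exact hpq (MulAction.injective g (hg1.trans hg2.symm))

end main

/-- Manning's Theorem on extremely primitive groups. Let a finite group G act faithfully and primitively on a finite set Ω with non-trivial point stabilizers, and suppose every point stabilizer G_α acts primitively on each of its orbits. Then G_α acts faithfully on each of its orbits other than {α}: an element of G_α fixing every point of one such orbit is the identity. -/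
theorem result {G : Type*} [Group G] [Finite G] {Ω : Type*} [Fintype Ω] [MulAction G Ω] [FaithfulSMul G Ω] (hprim : MulAction.IsPreprimitive G Ω) (hH : ∀ α : Ω, MulAction.stabilizer G α ≠ ⊥) (hep : ∀ (α : Ω) (ω : Ω), MulAction.IsPreprimitive (MulAction.stabilizer G α) (MulAction.orbit (MulAction.stabilizer G α) ω))
    (α ω : Ω) (hω : ω ≠ α) (h : MulAction.stabilizer G α) (hfix : ∀ x ∈ MulAction.orbit (MulAction.stabilizer G α) ω, h • x = x) : h = 1 := by
  haveI := hprim.toIsPretransitive
  have hRel : ∀ y, Rel G α ω α y → y ∈ orbit (stabilizer G α) ω := by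
    rintro y ⟨g, hgα, rfl⟩
    exact ⟨⟨g, hgα⟩, rfl⟩
  have hhK : (h : G) ∈ Ker G α ω α := ⟨h.2, fun y hy => hfix y (hRel y hy)⟩
  have hedge : ∀ a b, Rel G α ω a b → Ker G α ω a = Ker G ω α b := fun a b hab =>
    le_antisymm (step1 hprim hep hω.symm hab) (step1 hprim hep hω hab.swap)
  -- another in-neighbour of ω
  have hex : ∃ g ∈ stabilizer G ω, g • α ≠ α := by
    by_contra hcon
    push Not at hcon
    have hle : stabilizer G ω ≤ stabilizer G α := fun g hg => hcon g hg
    have heq : stabilizer G ω = stabilizer G α := by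
      apply le_antisymm hle
      rw [← Subgroup.relIndex_eq_one]
      have h1 := Subgroup.relIndex_mul_index hle
      rw [index_stabilizer_of_transitive, index_stabilizer_of_transitive] at h1
      have hpos : 0 < Nat.card Ω := Nat.card_pos_iff.mpr ⟨⟨α⟩, inferInstance⟩
      exact Nat.eq_of_mul_eq_mul_right hpos (by rw [h1, one_mul])
    have hconst := const_of_agree hprim (fun x => stabilizer G x) (by
      intro g x y hxy
      change stabilizer G x = stabilizer G y at hxy
      change stabilizer G (g • x) = stabilizer G (g • y)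
      rw [stabilizer_smul_eq_stabilizer_map_conj, stabilizer_smul_eq_stabilizer_map_conj, hxy])
      hω.symm heq.symm
    apply hH α
    rw [eq_bot_iff]
    intro k hk
    rw [Subgroup.mem_bot]
    apply FaithfulSMul.eq_of_smul_eq_smul (α := Ω)
    intro x
    rw [one_smul]
    have : k ∈ stabilizer G x := by
      have : stabilizer G x = stabilizer G α := hconst x
      rw [this]; exact hk
    exact this
  obtain ⟨g, hgω, hgα⟩ := hex
  have hrel1 : Rel G α ω (g • α) ω := ⟨g, rfl, hgω⟩
  have hrel0 : Rel G α ω α ω := ⟨1, one_smul _ _, one_smul _ _⟩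
  have hK : Ker G α ω α = Ker G α ω (g • α) := (hedge _ _ hrel0).trans (hedge _ _ hrel1).symm
  have hconst := const_of_agree hprim (fun x => Ker G α ω x)
    (fun k x y hxy => Ker_smul_eq k hxy) (Ne.symm hgα) hK
  apply Subtype.ext
  apply FaithfulSMul.eq_of_smul_eq_smul (α := Ω)
  intro x
  have : (h : G) ∈ Ker G α ω x := by
    have : Ker G α ω x = Ker G α ω α := hconst x
    rw [this]; exact hhK
  rw [Subgroup.coe_one, one_smul]
  exact this.1

end Cfsg.Agent.S3494
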