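import Cfsg.Statements.S3495
import Mathlib

set_option autoImplicit false
open Cfsg

namespace Cfsg.Agent.S3495

theorem le_normalizer_of_conj_mem {G : Type*} [Group G] (H C : Subgroup G)
    (h : ∀ a ∈ H, ∀ x ∈ C, a * x * a⁻¹ ∈ C) : H ≤ Subgroup.normalizer (C : Set G) := by
  intro a ha
  rw [Subgroup.mem_normalizer_iff]
  intro x
  constructor
  · exact h a ha x
  · intro hx
    have := h a⁻¹ (H.inv_mem ha) _ hx
    simpa [mul_assoc] using this

/-- Let a finite group G act faithfully and primitively on a finite set Ω with non-trivial point stabilizers, each acting primitively on every one of its orbits (an extremely primitive group), and suppose G has an elementary abelian normal p-subgroup N acting regularly on Ω (affine type). Then every non-trivial subgroup M of a point stabilizer G_α that is normal in G_α has the same orbits on Ω as G_α, and normalizes no subgroup of N other than 1 and N. -/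
theorem result {G : Type*} [Group G] [Finite G] {Ω : Type*} [Fintype Ω] [MulAction G Ω] [FaithfulSMul G Ω] (hprim : MulAction.IsPreprimitive G Ω) (hH : ∀ α : Ω, MulAction.stabilizer G α ≠ ⊥) (hep : ∀ (α : Ω) (ω : Ω), MulAction.IsPreprimitive (MulAction.stabilizer G α) (MulAction.orbit (MulAction.stabilizer G α) ω))
    (N : Subgroup G) [N.Normal] (hNc : IsMulCommutative N) (p : ℕ) (hp : p.Prime) (hNp : ∀ n ∈ N, n ^ p = 1)
    (hNtr : MulAction.IsPretransitive N Ω) (hNreg : ∀ ω : Ω, MulAction.stabilizer N ω = ⊥) (α : Ω) (M : Subgroup G) (hM : M ≠ ⊥) (hMle : M ≤ MulAction.stabilizer G α)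
    (hMn : MulAction.stabilizer G α ≤ Subgroup.normalizer (M : Set G)) :
    (∀ ω : Ω, MulAction.orbit M ω = MulAction.orbit (MulAction.stabilizer G α) ω) ∧
    (∀ L : Subgroup G, L ≤ N → M ≤ Subgroup.normalizer (L : Set G) → L = ⊥ ∨ L = N) := by
  classical
  set H := MulAction.stabilizer G α with hHdef
  have hnt : Nontrivial Ω := by
    by_contra hnt
    rw [not_nontrivial_iff_subsingleton] at hnt
    apply hH α
    rw [Subgroup.eq_bot_iff_forall]
    intro g _
    apply FaithfulSMul.eq_of_smul_eq_smul (α := Ω)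
    intro ω
    exact Subsingleton.elim _ _
  have hco : IsCoatom H := MulAction.IsPreprimitive.isCoatom_stabilizer_of_isPreprimitive (G := G) α
  have hreg : ∀ n ∈ N, ∀ ω : Ω, n • ω = ω → n = 1 := by
    intro n hn ω h
    have h1 : (⟨n, hn⟩ : N) ∈ MulAction.stabilizer N ω := by
      rw [MulAction.mem_stabilizer_iff]; exact h
    rw [hNreg ω, Subgroup.mem_bot] at h1
    exact congrArg Subtype.val h1
  have hHmem : ∀ g : G, g ∈ H ↔ g • α = α := fun g => MulAction.mem_stabilizer_iff
  -- Lemma X
  have hX : ∀ L : Subgroup G, L ≤ N → H ≤ Subgroup.normalizer (L : Set G) → L = ⊥ ∨ L = N := by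
    intro L hLN hLn
    by_cases hLH : L ≤ H
    · left
      rw [Subgroup.eq_bot_iff_forall]
      intro l hl
      exact hreg l (hLN hl) α ((hHmem l).mp (hLH hl))
    · right
      have hlt : H < L ⊔ H :=
        lt_of_le_of_ne le_sup_right (fun h => hLH (h ▸ le_sup_left))
      have htop : L ⊔ H = ⊤ := hco.2 _ hlt
      apply le_antisymm hLN
      intro n hn
      have h1 : n ∈ ((L ⊔ H : Subgroup G) : Set G) := by rw [htop]; trivial
      rw [Subgroup.coe_mul_of_right_le_normalizer_left L H hLn] at h1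
      obtain ⟨l, hl, h, hh, hlh⟩ := h1
      have hlh' : l * h = n := hlh
      have hhN : h ∈ N := by
        have := N.mul_mem (N.inv_mem (hLN hl)) hn
        rw [← hlh'] at this
        simpa using this
      have h1 : h = 1 := hreg h hhN α ((hHmem h).mp hh)
      rw [← hlh', h1, mul_one]; exact hl
  -- every point is n • α
  have hpt : ∀ ω : Ω, ∃ n ∈ N, n • α = ω := by
    intro ω
    obtain ⟨n, hn⟩ := MulAction.exists_smul_eq N α ω
    exact ⟨n, n.2, hn⟩
  -- M normalized by H, in conj form
  have hMconj : ∀ a ∈ H, ∀ m ∈ M, a * m * a⁻¹ ∈ M := by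
    intro a ha m hm
    exact ((Subgroup.mem_normalizer_iff.mp (hMn ha)) m).mp hm
  -- the centralizer of M in N
  set C : Subgroup G := N ⊓ Subgroup.centralizer (M : Set G) with hCdef
  have hCn : H ≤ Subgroup.normalizer (C : Set G) := by
    apply le_normalizer_of_conj_mem
    intro a ha x hx
    rw [hCdef, Subgroup.mem_inf] at hx ⊢
    refine ⟨‹N.Normal›.conj_mem x hx.1 a, ?_⟩
    rw [Subgroup.mem_centralizer_iff]
    intro m hm
    have hm' : a⁻¹ * m * a⁻¹⁻¹ ∈ M := hMconj a⁻¹ (H.inv_mem ha) m hm
    rw [inv_inv] at hm'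
    have hc := (Subgroup.mem_centralizer_iff.mp hx.2) _ hm'
    calc m * (a * x * a⁻¹) = a * ((a⁻¹ * m * a) * x) * a⁻¹ := by group
      _ = a * (x * (a⁻¹ * m * a)) * a⁻¹ := by rw [hc]
      _ = a * x * a⁻¹ * m := by group
  have hCbot : C = ⊥ := by
    rcases hX C inf_le_left hCn with h | h
    · exact h
    · exfalso
      apply hM
      rw [Subgroup.eq_bot_iff_forall]
      intro m hm
      apply FaithfulSMul.eq_of_smul_eq_smul (α := Ω)
      intro ω
      obtain ⟨n, hn, rfl⟩ := hpt ω
      have hnC : n ∈ C := by rw [h]; exact hn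
      have hc := (Subgroup.mem_centralizer_iff.mp (Subgroup.mem_inf.mp hnC).2) m hm
      rw [one_smul, smul_smul, hc, ← smul_smul, (hHmem m).mp (hMle hm)]
  -- fixed points of M
  have hfixM : ∀ ω : Ω, (∀ m ∈ M, m • ω = ω) → ω = α := by
    intro ω hω
    obtain ⟨n, hn, rfl⟩ := hpt ω
    have hnC : n ∈ C := by
      rw [hCdef, Subgroup.mem_inf]
      refine ⟨hn, ?_⟩
      rw [Subgroup.mem_centralizer_iff]
      intro m hm
      have hxN : n⁻¹ * (m * n * m⁻¹) ∈ N :=
        N.mul_mem (N.inv_mem hn) (‹N.Normal›.conj_mem n hn m)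
      have hmα : m⁻¹ • α = α := by
        rw [inv_smul_eq_iff, (hHmem m).mp (hMle hm)]
      have hxα : (n⁻¹ * (m * n * m⁻¹)) • α = α := by
        rw [mul_smul, mul_smul, mul_smul, hmα, hω m hm, inv_smul_smul]
      have := hreg _ hxN α hxα
      have h2 : m * n * m⁻¹ = n := by
        have h3 : m * n * m⁻¹ = n * (n⁻¹ * (m * n * m⁻¹)) := by group
        rw [h3, this, mul_one]
      calc m * n = (m * n * m⁻¹) * m := by group
        _ = n * m := by rw [h2]
    rw [hCbot, Subgroup.mem_bot] at hnC
    rw [hnC, one_smul]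
  -- part (1)
  have part1 : ∀ ω : Ω, MulAction.orbit M ω = MulAction.orbit H ω := by
    intro ω
    apply Set.Subset.antisymm
    · rintro _ ⟨m, rfl⟩
      exact ⟨⟨m, hMle m.2⟩, rfl⟩
    · by_cases hωα : ω = α
      · rintro _ ⟨h, rfl⟩
        have : (h : G) • ω = ω := by rw [hωα]; exact (hHmem h).mp h.2
        change (h : G) • ω ∈ _
        rw [this]
        exact MulAction.mem_orbit_self ω
      · have hprimO := hep α ω
        have hMnormal : (M.subgroupOf H).Normal :=
          Subgroup.normal_subgroupOf_of_le_normalizer hMn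
        have hne : MulAction.fixedPoints (M.subgroupOf H) (MulAction.orbit H ω) ≠ Set.univ := by
          intro hall
          apply hωα
          apply hfixM
          intro m hm
          have hmem : (⟨ω, MulAction.mem_orbit_self ω⟩ : MulAction.orbit H ω) ∈
              MulAction.fixedPoints (M.subgroupOf H) (MulAction.orbit H ω) := by
            rw [hall]; trivial
          rw [MulAction.mem_fixedPoints] at hmem
          have := hmem ⟨⟨m, hMle hm⟩, hm⟩
          exact congrArg Subtype.val this
        have htr : MulAction.IsPretransitive (M.subgroupOf H) (MulAction.orbit H ω) :=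
          MulAction.IsQuasiPreprimitive.isPretransitive_of_normal hne
        rintro _ ⟨h, rfl⟩
        obtain ⟨m', hm'⟩ := htr.exists_smul_eq
          (⟨ω, MulAction.mem_orbit_self ω⟩ : MulAction.orbit H ω)
          ⟨h • ω, MulAction.mem_orbit ω h⟩
        have := congrArg Subtype.val hm'
        refine ⟨⟨(m' : H), m'.2⟩, ?_⟩
        exact this
  refine ⟨part1, ?_⟩
  intro L hLN hLM
  apply hX L hLN
  apply le_normalizer_of_conj_mem
  intro a ha l hl
  have hLconj : ∀ m ∈ M, ∀ x ∈ L, m * x * m⁻¹ ∈ L := by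
    intro m hm x hx
    exact ((Subgroup.mem_normalizer_iff.mp (hLM hm)) x).mp hx
  have h1 : a • (l • α) ∈ MulAction.orbit M (l • α) := by
    rw [part1]
    exact ⟨⟨a, ha⟩, rfl⟩
  obtain ⟨m, hm⟩ := h1
  have hm' : (m : G) • (l • α) = a • (l • α) := hm
  set l' := (m : G) * l * (m : G)⁻¹ with hl'
  have hl'L : l' ∈ L := hLconj m m.2 l hl
  have hmα : (m : G)⁻¹ • α = α := by
    rw [inv_smul_eq_iff, (hHmem m).mp (hMle m.2)]
  have haα : a⁻¹ • α = α := by
    rw [inv_smul_eq_iff, (hHmem a).mp ha]
  have e1 : l' • α = (m : G) • (l • α) := by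
    rw [hl', mul_smul, mul_smul, hmα]
  have e2 : (a * l * a⁻¹) • α = a • (l • α) := by
    rw [mul_smul, mul_smul, haα]
  have hxN : l'⁻¹ * (a * l * a⁻¹) ∈ N :=
    N.mul_mem (N.inv_mem (hLN hl'L)) (‹N.Normal›.conj_mem l (hLN hl) a)
  have hxα : (l'⁻¹ * (a * l * a⁻¹)) • α = α := by
    rw [mul_smul, e2, ← hm', ← e1, inv_smul_smul]
  have := hreg _ hxN α hxα
  have h3 : a * l * a⁻¹ = l' * (l'⁻¹ * (a * l * a⁻¹)) := by group
  rw [h3, this, mul_one]
  exact hl'L

end Cfsg.Agent.S3495
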