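import Cfsg.Statements.S3497
import Mathlib
import Cfsg.Agent.S3494
import Cfsg.Agent.Lib.H1.Fitting
import Cfsg.Agent.Lib.H17.ElemAbGL
import Cfsg.Agent.Lib.H21.OrbitCount

set_option autoImplicit false
open Cfsg

namespace Cfsg.Agent.S3497

open MulAction

section prim
variable {H : Type*} [Group H] {Δ : Type*} [MulAction H Δ]

/-- in a faithful primitive action, a nontrivial normal subgroup is transitive -/
theorem transitive_of_normal [FaithfulSMul H Δ] (hprim : IsPreprimitive H Δ) (N : Subgroup H)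
    [N.Normal] (hN : N ≠ ⊥) : IsPretransitive N Δ := by
  haveI := hprim
  apply IsQuasiPreprimitive.isPretransitive_of_normal (G := H) (X := Δ) (N := N)
  intro hfix
  apply hN
  rw [eq_bot_iff]
  intro n hn
  rw [Subgroup.mem_bot]
  apply FaithfulSMul.eq_of_smul_eq_smul (α := Δ)
  intro x
  rw [one_smul]
  have : x ∈ fixedPoints N Δ := hfix ▸ Set.mem_univ x
  exact this ⟨n, hn⟩

/-- the centralizer of a transitive subgroup is semiregular (faithful action) -/
theorem centralizer_semiregular [FaithfulSMul H Δ] (N : Subgroup H) (htr : IsPretransitive N Δ)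
    (c : H) (hc : ∀ n ∈ N, c * n = n * c) (x : Δ) (hx : c • x = x) : c = 1 := by
  apply FaithfulSMul.eq_of_smul_eq_smul (α := Δ)
  intro y
  obtain ⟨n, rfl⟩ := htr.exists_smul_eq x y
  rw [one_smul]
  change c • ((n : H) • x) = (n : H) • x
  rw [← mul_smul, hc n n.2, mul_smul, hx]

/-- a nontrivial abelian normal subgroup of a faithful primitive group is regular and
self-centralizing -/
theorem regular_of_normal_abelian [FaithfulSMul H Δ] (hprim : IsPreprimitive H Δ)
    (N : Subgroup H) [N.Normal] (hN : N ≠ ⊥) (hab : ∀ a ∈ N, ∀ b ∈ N, a * b = b * a) :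
    (∀ n ∈ N, ∀ x : Δ, n • x = x → n = 1) ∧ (∀ c : H, (∀ n ∈ N, c * n = n * c) → c ∈ N) ∧
      Nat.card N = Nat.card Δ := by
  have htr := transitive_of_normal hprim N hN
  have hsr : ∀ n ∈ N, ∀ x : Δ, n • x = x → n = 1 := fun n hn x hx =>
    centralizer_semiregular N htr n (fun m hm => hab n hn m hm) x hx
  -- nonempty
  obtain ⟨x⟩ : Nonempty Δ := by
    by_contra hemp
    rw [not_nonempty_iff] at hemp
    apply hN
    rw [eq_bot_iff]
    intro n _
    rw [Subgroup.mem_bot]
    apply FaithfulSMul.eq_of_smul_eq_smul (α := Δ)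
    intro y
    exact (hemp.false y).elim
  refine ⟨hsr, ?_, ?_⟩
  · intro c hc
    obtain ⟨n, hn⟩ := htr.exists_smul_eq x (c • x)
    have hn' : (n : H) • x = c • x := hn
    have h1 : ((n : H)⁻¹ * c) = 1 := by
      apply centralizer_semiregular N htr _ _ x
      · rw [mul_smul, ← hn', inv_smul_smul]
      · intro m hm
        have e1 := hc m hm
        have e2 := hab n n.2 m hm
        calc (n : H)⁻¹ * c * m = (n : H)⁻¹ * (c * m) := by group
          _ = (n : H)⁻¹ * (m * c) := by rw [e1]
          _ = (n : H)⁻¹ * (m * (n : H)) * ((n : H)⁻¹ * c) := by group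
          _ = (n : H)⁻¹ * ((n : H) * m) * ((n : H)⁻¹ * c) := by rw [e2]
          _ = m * ((n : H)⁻¹ * c) := by group
    have : c = n := by
      have := congrArg (fun t => (n : H) * t) h1
      simpa using this
    rw [this]
    exact n.2
  · apply Nat.card_eq_of_bijective (fun n : N => n • x)
    constructor
    · intro n m hnm
      have hnm' : (n : H) • x = (m : H) • x := hnm
      have h1 : ((m : H)⁻¹ * (n : H)) = 1 := by
        apply hsr _ (N.mul_mem (N.inv_mem m.2) n.2) x
        rw [mul_smul, hnm', inv_smul_smul]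
      apply Subtype.ext
      have := congrArg (fun t => (m : H) * t) h1
      simpa using this
    · intro y
      exact htr.exists_smul_eq x y

end prim

section nilp

/-- a nontrivial nilpotent group has nontrivial center -/
theorem center_ne_bot_of_nilpotent {G : Type*} [Group G] [hG : Group.IsNilpotent G] [Nontrivial G] :
    Subgroup.center G ≠ ⊥ := by
  intro h
  obtain ⟨n, hn⟩ := hG.nilpotent
  have key : ∀ k, Subgroup.upperCentralSeries G k = ⊥ := by
    intro k
    induction k with
    | zero => exact Subgroup.upperCentralSeries_zero G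
    | succ k ih =>
      rw [eq_bot_iff]
      intro x hx
      rw [Subgroup.mem_upperCentralSeries_succ_iff] at hx
      rw [← h, Subgroup.mem_center_iff]
      intro y
      have := hx y
      rw [ih, Subgroup.mem_bot, commutatorElement_def] at this
      calc y * x = (x * y * x⁻¹ * y⁻¹)⁻¹ * (x * y) := by group
        _ = x * y := by rw [this, inv_one, one_mul]
  rw [key n] at hn
  exact bot_ne_top hn

end nilp

section main
variable {H : Type*} [Group H] [Finite H] {Ω : Type*} [Fintype Ω] [MulAction H Ω]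

open Cfsg.Agent.Lib.H1 Cfsg.Agent.Lib.H17 Cfsg.Agent.Lib.H21 in
theorem abstract_main (α : Ω) (hα : ∀ h : H, h • α = α)
    (hep : ∀ ω : Ω, IsPreprimitive H (orbit H ω))
    (hfaith : ∀ ω : Ω, ω ≠ α → ∀ h : H, (∀ x ∈ orbit H ω, h • x = x) → h = 1)
    (hex : ∃ ω : Ω, ω ≠ α) (hHp : ¬ (Nat.card H).Prime) :
    Subgroup.center H = ⊥ ∧ IsMulCommutative (Cfsg.fittingSubgroup H) ∧
    ∃ p e : ℕ, p.Prime ∧ Nat.card (Cfsg.fittingSubgroup H) = p ^ e ∧
      (∀ x ∈ Cfsg.fittingSubgroup H, x ^ p = 1) ∧
      (Cfsg.fittingSubgroup H ≠ ⊥ → p ^ e ∣ Fintype.card Ω - 1 ∧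
        ∃ φ : H →* GL (Fin e) (ZMod p), φ.ker = Cfsg.fittingSubgroup H) := by
  obtain ⟨ω₀, hω₀⟩ := hex
  have hfa : ∀ ω, ω ≠ α → FaithfulSMul H (orbit H ω) := by
    intro ω hω
    constructor
    intro h h' hh
    have h1 : h'⁻¹ * h = 1 := by
      apply hfaith ω hω
      intro x hx
      have h2 := congrArg Subtype.val (hh ⟨x, hx⟩)
      have h3 : h • x = h' • x := h2
      rw [mul_smul, h3, inv_smul_smul]
    have := congrArg (fun t => h' * t) h1
    simpa using this
  have K : ∀ (N : Subgroup H) [N.Normal], N ≠ ⊥ → (∀ a ∈ N, ∀ b ∈ N, a * b = b * a) →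
      (∀ c : H, (∀ n ∈ N, c * n = n * c) → c ∈ N) ∧
      (∀ ω, ω ≠ α → Nat.card (orbit H ω) = Nat.card N) ∧
      (∀ ω, ω ≠ α → ∀ n ∈ N, n • ω = ω → n = 1) := by
    intro N _ hN hab
    refine ⟨?_, ?_, ?_⟩
    · haveI := hfa ω₀ hω₀
      exact (regular_of_normal_abelian (hep ω₀) N hN hab).2.1
    · intro ω hω
      haveI := hfa ω hω
      exact (regular_of_normal_abelian (hep ω) N hN hab).2.2.symm
    · intro ω hω n hn hfix
      haveI := hfa ω hω
      exact (regular_of_normal_abelian (hep ω) N hN hab).1 n hn ⟨ω, mem_orbit_self ω⟩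
        (Subtype.ext hfix)
  -- Part 1
  have hZ : Subgroup.center H = ⊥ := by
    by_contra hZ
    have hZab : ∀ a ∈ Subgroup.center H, ∀ b ∈ Subgroup.center H, a * b = b * a :=
      fun a _ b hb => Subgroup.mem_center_iff.mp hb a
    obtain ⟨hK1, hK2, _⟩ := K (Subgroup.center H) hZ hZab
    have hall : ∀ c : H, c ∈ Subgroup.center H :=
      fun c => hK1 c (fun n hn => Subgroup.mem_center_iff.mp hn c)
    have hcomm : ∀ a b : H, a * b = b * a := fun a b => Subgroup.mem_center_iff.mp (hall b) a
    have hne := hZ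
    rw [Subgroup.eq_bot_iff_forall] at hne
    push Not at hne
    obtain ⟨z, _, hz1⟩ := hne
    haveI : Nontrivial H := ⟨⟨z, 1, hz1⟩⟩
    have hcard : Nat.card H ≠ 1 := (Finite.one_lt_card (α := H)).ne'
    obtain ⟨p, hp, hpd⟩ := Nat.exists_prime_and_dvd hcard
    haveI : Fact p.Prime := ⟨hp⟩
    obtain ⟨y, hy⟩ := exists_prime_orderOf_dvd_card' (G := H) p hpd
    haveI : (Subgroup.zpowers y).Normal :=
      ⟨fun n hn g => by rw [hcomm g n, mul_inv_cancel_right]; exact hn⟩
    have hy1 : y ≠ 1 := by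
      rintro rfl
      rw [orderOf_one] at hy
      exact hp.one_lt.ne hy
    obtain ⟨_, hC2, _⟩ := K (Subgroup.zpowers y) (Subgroup.zpowers_ne_bot.mpr hy1)
      (fun a _ b _ => hcomm a b)
    have e1 := hC2 ω₀ hω₀
    have e2 := hK2 ω₀ hω₀
    have htop : Subgroup.center H = ⊤ := (Subgroup.eq_top_iff' _).mpr hall
    rw [htop, Subgroup.card_top] at e2
    rw [Nat.card_zpowers, hy] at e1
    apply hHp
    rw [← e2, e1]
    exact hp
  -- Part 2
  have hFn : (Cfsg.fittingSubgroup H).Normal := fittingSubgroup_normal H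
  have hFnil : Group.IsNilpotent (Cfsg.fittingSubgroup H) := fittingSubgroup_isNilpotent
  by_cases hF1 : Cfsg.fittingSubgroup H = ⊥
  · have hx1 : ∀ x ∈ Cfsg.fittingSubgroup H, x = 1 := by
      intro x hx
      rw [hF1] at hx
      exact Subgroup.mem_bot.mp hx
    refine ⟨hZ, ?_, 2, 0, Nat.prime_two, ?_, ?_, fun h => (h hF1).elim⟩
    · rw [isMulCommutative_iff]
      intro a b
      apply Subtype.ext
      rw [Subgroup.coe_mul, Subgroup.coe_mul, hx1 a a.2, hx1 b b.2]
    · rw [pow_zero, Subgroup.card_eq_one]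
      exact hF1
    · intro x hx
      rw [hx1 x hx, one_pow]
  · set F := Cfsg.fittingSubgroup H with hF
    let ZF : Subgroup H := F ⊓ Subgroup.centralizer (F : Set H)
    haveI : ZF.Normal := Subgroup.normal_inf_normal F (Subgroup.centralizer (F : Set H))
    have hZFab : ∀ a ∈ ZF, ∀ b ∈ ZF, a * b = b * a := fun a ha b hb =>
      (Subgroup.mem_centralizer_iff.mp (Subgroup.mem_inf.mp hb).2 a (Subgroup.mem_inf.mp ha).1)
    have hZF1 : ZF ≠ ⊥ := by
      haveI : Nontrivial F := (Subgroup.nontrivial_iff_ne_bot F).mpr hF1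
      have hc := center_ne_bot_of_nilpotent (G := F)
      rw [Ne, Subgroup.eq_bot_iff_forall] at hc
      push Not at hc
      obtain ⟨z, hz, hz1⟩ := hc
      intro hbot
      apply hz1
      have hzZ : (z : H) ∈ ZF := by
        refine Subgroup.mem_inf.mpr ⟨z.2, ?_⟩
        rw [Subgroup.mem_centralizer_iff]
        intro h hh
        have := Subgroup.mem_center_iff.mp hz ⟨h, hh⟩
        exact congrArg Subtype.val this
      rw [hbot, Subgroup.mem_bot] at hzZ
      exact Subtype.ext hzZ
    obtain ⟨hZK1, _, _⟩ := K ZF hZF1 hZFab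
    have hFZ : F ≤ ZF := by
      intro c hc
      apply hZK1
      intro n hn
      exact Subgroup.mem_centralizer_iff.mp (Subgroup.mem_inf.mp hn).2 c hc
    have hFab : ∀ a ∈ F, ∀ b ∈ F, a * b = b * a :=
      fun a ha b hb => hZFab a (hFZ ha) b (hFZ hb)
    obtain ⟨hC, hcardF, hfree⟩ := K F hF1 hFab
    have hcF1 : Nat.card F ≠ 1 := by
      rw [Ne, Subgroup.card_eq_one]
      exact hF1
    obtain ⟨p, hp, hpd⟩ := Nat.exists_prime_and_dvd hcF1
    haveI : Fact p.Prime := ⟨hp⟩
    let Fp : Subgroup H :=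
      { carrier := {x | x ∈ F ∧ x ^ p = 1}
        mul_mem' := fun {a b} ha hb => ⟨F.mul_mem ha.1 hb.1, by
          rw [(show Commute a b from hFab a ha.1 b hb.1).mul_pow, ha.2, hb.2, one_mul]⟩
        one_mem' := ⟨F.one_mem, one_pow p⟩
        inv_mem' := fun {a} ha => ⟨F.inv_mem ha.1, by rw [inv_pow, ha.2, inv_one]⟩ }
    haveI : Fp.Normal :=
      ⟨fun n hn g => ⟨hFn.conj_mem n hn.1 g, by rw [conj_pow, hn.2, mul_one, mul_inv_cancel]⟩⟩
    have hFpF : Fp ≤ F := fun x hx => hx.1
    have hFp1 : Fp ≠ ⊥ := by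
      obtain ⟨y, hy⟩ := exists_prime_orderOf_dvd_card' (G := F) p hpd
      intro hbot
      have hyF : (y : H) ∈ Fp := ⟨y.2, by
        rw [← Subgroup.coe_pow, ← hy, pow_orderOf_eq_one]; rfl⟩
      rw [hbot, Subgroup.mem_bot] at hyF
      have : y = 1 := Subtype.ext hyF
      rw [this, orderOf_one] at hy
      exact hp.one_lt.ne hy
    obtain ⟨_, hcardFp, _⟩ := K Fp hFp1 (fun a ha b hb => hFab a (hFpF ha) b (hFpF hb))
    have hFpeq : Fp = F := by
      apply Subgroup.eq_of_le_of_card_ge hFpF
      rw [← hcardF ω₀ hω₀, ← hcardFp ω₀ hω₀]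
    have hexp : ∀ x ∈ F, x ^ p = 1 := by
      intro x hx
      rw [← hFpeq] at hx
      exact hx.2
    have hPG : IsPGroup p F := fun x => ⟨1, by
      rw [pow_one]; exact Subtype.ext (by rw [Subgroup.coe_pow]; exact hexp x x.2)⟩
    obtain ⟨e, he⟩ := IsPGroup.iff_card.mp hPG
    refine ⟨hZ, ?_, p, e, hp, he, hexp, fun _ => ⟨?_, ?_⟩⟩
    · rw [isMulCommutative_iff]
      intro a b
      exact Subtype.ext (hFab a a.2 b b.2)
    · have hd := card_dvd_ncard_of_free (G := F) ({α}ᶜ : Set Ω) (Set.toFinite _) (by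
        intro g x hx hgx
        apply hx
        have h1 : (g : H) • x = α := hgx
        have h2 : x = (g : H)⁻¹ • α := by rw [← h1, inv_smul_smul]
        rw [h2]
        exact hα _) (by
        intro x hx
        rw [eq_bot_iff]
        intro g hg
        rw [Subgroup.mem_bot]
        have h1 : (g : H) • x = x := hg
        exact Subtype.ext (hfree x hx (g : H) g.2 h1))
      rw [he, Set.ncard_compl, Set.ncard_singleton, Nat.card_eq_fintype_card] at hd
      exact hd
    · obtain ⟨φ, hφ⟩ := exists_hom_GL_ker_eq_centralizer F p e hFab hexp he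
      refine ⟨φ, ?_⟩
      rw [hφ]
      apply le_antisymm
      · intro c hc
        apply hC c
        intro n hn
        exact (Subgroup.mem_centralizer_iff.mp hc n hn).symm
      · intro c hc
        rw [Subgroup.mem_centralizer_iff]
        intro h hh
        exact hFab h hh c hc

end main

/-- Restrictions on the point stabilizer of an extremely primitive group. Let a finite group G act faithfully and primitively on a finite set Ω with point stabilizers H = G_α whose order is neither 1 nor a prime, each acting primitively on every one of its orbits. Then H has trivial center, the Fitting subgroup F(H) is an elementary abelian p-group for some prime p, and if F(H) ≠ 1 has order p ^ e then p ^ e divides the number of points minus one and H / F(H) embeds in GL_e(p) (there is a homomorphism from H to GL_e(p) with kernel exactly F(H)). -/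
theorem result {G : Type*} [Group G] [Finite G] {Ω : Type*} [Fintype Ω] [MulAction G Ω] [FaithfulSMul G Ω] (hprim : MulAction.IsPreprimitive G Ω) (hep : ∀ (α : Ω) (ω : Ω), MulAction.IsPreprimitive (MulAction.stabilizer G α) (MulAction.orbit (MulAction.stabilizer G α) ω)) (α : Ω)
    (hH1 : MulAction.stabilizer G α ≠ ⊥) (hHp : ¬ (Nat.card (MulAction.stabilizer G α)).Prime) :
    Subgroup.center (MulAction.stabilizer G α) = ⊥ ∧
    IsMulCommutative (Cfsg.fittingSubgroup (MulAction.stabilizer G α)) ∧
    ∃ p e : ℕ, p.Prime ∧ Nat.card (Cfsg.fittingSubgroup (MulAction.stabilizer G α)) = p ^ e ∧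
      (∀ x ∈ Cfsg.fittingSubgroup (MulAction.stabilizer G α), x ^ p = 1) ∧
      (Cfsg.fittingSubgroup (MulAction.stabilizer G α) ≠ ⊥ →
        p ^ e ∣ Fintype.card Ω - 1 ∧
        ∃ φ : MulAction.stabilizer G α →* GL (Fin e) (ZMod p), φ.ker = Cfsg.fittingSubgroup (MulAction.stabilizer G α)) := by
  haveI := hprim.toIsPretransitive
  have hH' : ∀ β : Ω, MulAction.stabilizer G β ≠ ⊥ := by
    intro β
    obtain ⟨g, rfl⟩ := MulAction.exists_smul_eq G α β
    rw [MulAction.stabilizer_smul_eq_stabilizer_map_conj]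
    intro hb
    apply hH1
    exact (Subgroup.map_eq_bot_iff_of_injective _ (MulAut.conj g).injective).mp hb
  have hex : ∃ ω : Ω, ω ≠ α := by
    have hne := hH1
    rw [Ne, Subgroup.eq_bot_iff_forall] at hne
    push Not at hne
    obtain ⟨h, hh, h1⟩ := hne
    by_contra hcon
    push Not at hcon
    apply h1
    apply FaithfulSMul.eq_of_smul_eq_smul (α := Ω)
    intro x
    rw [one_smul, hcon x]
    exact hh
  exact abstract_main (H := MulAction.stabilizer G α) α (fun h => h.2) (hep α)
    (fun ω hω h hfix => Cfsg.Agent.S3494.result hprim hH' hep α ω hω h hfix) hex hHp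

end Cfsg.Agent.S3497
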