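import Cfsg.Statements.S3496
import Mathlib
import Cfsg.Agent.S3494
import Cfsg.Agent.S3497
import Cfsg.Agent.Lib.H1.FpfAction
import Cfsg.Agent.Lib.H17.ElemAbGL
import Cfsg.Agent.Lib.H17.ElemAbNormal
import Cfsg.Agent.Lib.H17.FrobConj
import Cfsg.Agent.Lib.H19.IrredCyclic
import Cfsg.Agent.Lib.H21.OrbitCount

set_option autoImplicit false
open Cfsg

namespace Cfsg.Agent.S3496

open MulAction

set_option linter.style.haveILetI false

section conj
open Cfsg.Agent.Lib.H17

/-- type-level form: an abelian group `A` of exponent `p`, `ρ : G →* MulAut A`, `t` of order `q`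
acting irreducibly; if `h t = t ^ a h` then `a` is a power of `p` mod `q`. -/
theorem conj_pow_aux {p q : ℕ} [Fact p.Prime] [Fact q.Prime] {A : Type*} [CommGroup A] [Finite A]
    [Nontrivial A] [Module (ZMod p) (Additive A)] {G : Type*} [Group G] (ρ : G →* MulAut A)
    (t h : G) (htq : t ^ q = 1) (ht1 : ρ t ≠ 1)
    (hmin : ∀ B : Subgroup A, (∀ b ∈ B, ρ t b ∈ B) → B = ⊥ ∨ B = ⊤)
    (a : ℕ) (hha : h * t = t ^ a * h) : ∃ i : ℕ, a ≡ p ^ i [MOD q] := by
  haveI : Finite (Additive A) := inferInstanceAs (Finite A)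
  haveI : Nontrivial (Additive A) := inferInstanceAs (Nontrivial A)
  let L : G →* Module.End (ZMod p) (Additive A) := autToEnd (p := p) ρ
  apply exists_pow_modEq_of_conj (p := p) (q := q) (L t) (L h) (L h⁻¹)
  · rw [← map_pow, htq, map_one]
  · intro h1
    apply ht1
    ext x
    have h2 := LinearMap.congr_fun h1 (Additive.ofMul x)
    rw [Module.End.one_apply] at h2
    have h3 : L t (Additive.ofMul x) = Additive.ofMul (ρ t x) := rfl
    rw [h3] at h2
    exact Additive.ofMul.injective h2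
  · intro W hW
    rcases hmin (AddSubgroup.toSubgroup' W.toAddSubgroup) (by
      intro b hb
      have hb' : Additive.ofMul b ∈ W := hb
      exact hW _ hb') with h1 | h1
    · left
      rw [eq_bot_iff]
      intro x hx
      have h2 : Additive.toMul x ∈ AddSubgroup.toSubgroup' W.toAddSubgroup := hx
      rw [h1, Subgroup.mem_bot] at h2
      rw [Submodule.mem_bot]
      exact h2
    · right
      rw [eq_top_iff]
      intro x _
      have h2 : Additive.toMul x ∈ AddSubgroup.toSubgroup' W.toAddSubgroup := by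
        rw [h1]; trivial
      exact h2
  · rw [← map_mul, hha, map_mul, map_pow]
  · rw [← map_mul, mul_inv_cancel, map_one]

/-- subgroup form -/
theorem conj_pow_of_irreducible {G : Type*} [Group G] [Finite G] {p q : ℕ} [hp : Fact p.Prime]
    [hq : Fact q.Prime] (V : Subgroup G) [hVn : V.Normal]
    (hVab : ∀ a ∈ V, ∀ b ∈ V, a * b = b * a) (hVp : ∀ a ∈ V, a ^ p = 1) (hV1 : V ≠ ⊥)
    (t : G) (htq : t ^ q = 1) (htV : ∃ v ∈ V, t * v * t⁻¹ ≠ v)
    (hmin : ∀ B : Subgroup G, B ≤ V → (∀ b ∈ B, t * b * t⁻¹ ∈ B) → B = ⊥ ∨ B = V)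
    (h : G) (a : ℕ) (hha : h * t * h⁻¹ = t ^ a) : ∃ i : ℕ, a ≡ p ^ i [MOD q] := by
  letI iC : CommGroup V :=
    { (inferInstance : Group V) with mul_comm := fun a b => Subtype.ext (hVab a a.2 b b.2) }
  letI iM : Module (ZMod p) (Additive V) := AddCommGroup.zmodModule (n := p) (by
    intro x
    show Additive.ofMul ((Additive.toMul x) ^ p) = 0
    have : (Additive.toMul x) ^ p = 1 := Subtype.ext (by
      rw [Subgroup.coe_pow, Subgroup.coe_one]; exact hVp _ (Additive.toMul x).2)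
    rw [this]; rfl)
  haveI hnt : Nontrivial V := (Subgroup.nontrivial_iff_ne_bot V).mpr hV1
  let ρ : G →* MulAut V := MulAut.conjNormal
  refine @conj_pow_aux p q hp hq V iC _ hnt iM G _ ρ t h htq ?_ ?_ a ?_
  · intro h1
    obtain ⟨v, hv, hne⟩ := htV
    apply hne
    have h2 : (ρ t ⟨v, hv⟩ : V) = ⟨v, hv⟩ := by rw [h1]; rfl
    have h3 := congrArg Subtype.val h2
    rw [MulAut.conjNormal_apply] at h3
    exact h3
  · intro B hB
    have h1 : B.map V.subtype ≤ V := Subgroup.map_subtype_le B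
    have h2 : ∀ b ∈ B.map V.subtype, t * b * t⁻¹ ∈ B.map V.subtype := by
      rintro _ ⟨b, hb, rfl⟩
      refine ⟨ρ t b, hB b hb, ?_⟩
      rw [Subgroup.coe_subtype, MulAut.conjNormal_apply]
    rcases hmin _ h1 h2 with h3 | h3
    · left
      rwa [Subgroup.map_eq_bot_iff_of_injective _ (Subgroup.subtype_injective V)] at h3
    · right
      rw [eq_top_iff]
      intro x _
      have : (x : G) ∈ B.map V.subtype := by rw [h3]; exact x.2
      obtain ⟨b, hb, hba⟩ := this
      have : b = x := Subtype.ext hba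
      rw [← this]; exact hb
  · calc h * t = (h * t * h⁻¹) * h := by group
      _ = t ^ a * h := by rw [hha]

end conj

section absK
variable {H : Type*} [Group H] {Ω : Type*} [MulAction H Ω]

open Cfsg.Agent.S3497 in
/-- abstract regularity lemma: `H` acts on `Ω`, primitively and faithfully on every orbit other
than `{α}`.  A nontrivial abelian normal subgroup `N` is self-centralizing, and regular on
every such orbit. -/
theorem K_lemma (α : Ω)
    (hep : ∀ ω : Ω, IsPreprimitive H (orbit H ω))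
    (hfaith : ∀ ω : Ω, ω ≠ α → ∀ h : H, (∀ x ∈ orbit H ω, h • x = x) → h = 1)
    (ω₀ : Ω) (hω₀ : ω₀ ≠ α)
    (N : Subgroup H) [N.Normal] (hN : N ≠ ⊥) (hab : ∀ a ∈ N, ∀ b ∈ N, a * b = b * a) :
    (∀ c : H, (∀ n ∈ N, c * n = n * c) → c ∈ N) ∧
    (∀ ω, ω ≠ α → Nat.card (orbit H ω) = Nat.card N) ∧
    (∀ ω, ω ≠ α → ∀ n ∈ N, n • ω = ω → n = 1) ∧
    (∀ ω, ω ≠ α → ∀ h : H, ∃ n ∈ N, n • ω = h • ω) := by
  have hfa : ∀ ω, ω ≠ α → FaithfulSMul H (orbit H ω) := by
    intro ω hω
    constructor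
    intro h h' hh
    have h1 : h'⁻¹ * h = 1 := by
      apply hfaith ω hω
      intro x hx
      have h2 := congrArg Subtype.val (hh ⟨x, hx⟩)
      have h3 : h • x = h' • x := h2
      rw [mul_smul, h3, inv_smul_smul]
    have := congrArg (fun t => h' * t) h1
    simpa using this
  refine ⟨?_, ?_, ?_, ?_⟩
  · haveI := hfa ω₀ hω₀
    exact (regular_of_normal_abelian (hep ω₀) N hN hab).2.1
  · intro ω hω
    haveI := hfa ω hω
    exact (regular_of_normal_abelian (hep ω) N hN hab).2.2.symm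
  · intro ω hω n hn hfix
    haveI := hfa ω hω
    exact (regular_of_normal_abelian (hep ω) N hN hab).1 n hn ⟨ω, mem_orbit_self ω⟩
      (Subtype.ext hfix)
  · intro ω hω h
    haveI := hfa ω hω
    have htr := transitive_of_normal (hep ω) N hN
    obtain ⟨n, hn⟩ := htr.exists_smul_eq (⟨ω, mem_orbit_self ω⟩ : orbit H ω)
      ⟨h • ω, mem_orbit _ h⟩
    exact ⟨n.1, n.2, congrArg Subtype.val hn⟩

end absK

section KG
variable {G : Type*} [Group G] {Ω : Type*} [MulAction G Ω]

/-- `G`-level form of `K_lemma` for the stabilizer `H = G_α` and a subgroup `T ≤ H` of `G`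
normalized by `H`. -/
theorem K_G (α : Ω)
    (hep : ∀ ω : Ω, IsPreprimitive (stabilizer G α) (orbit (stabilizer G α) ω))
    (hfaith : ∀ ω : Ω, ω ≠ α → ∀ h : stabilizer G α,
      (∀ x ∈ orbit (stabilizer G α) ω, h • x = x) → h = 1)
    (ω₀ : Ω) (hω₀ : ω₀ ≠ α)
    (T : Subgroup G) (hTH : T ≤ stabilizer G α)
    (hnorm : ∀ h ∈ stabilizer G α, ∀ n ∈ T, h * n * h⁻¹ ∈ T) (hT : T ≠ ⊥)
    (hab : ∀ a ∈ T, ∀ b ∈ T, a * b = b * a) :
    (∀ c ∈ stabilizer G α, (∀ n ∈ T, c * n = n * c) → c ∈ T) ∧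
    (∀ ω, ω ≠ α → Nat.card (orbit (stabilizer G α) ω) = Nat.card T) ∧
    (∀ ω, ω ≠ α → ∀ n ∈ T, n • ω = ω → n = 1) ∧
    (∀ ω, ω ≠ α → ∀ h ∈ stabilizer G α, ∃ n ∈ T, n • ω = h • ω) := by
  set H := stabilizer G α with hH
  set N : Subgroup H := T.subgroupOf H with hN
  haveI : N.Normal := by
    constructor
    intro n hn g
    rw [hN, Subgroup.mem_subgroupOf] at hn ⊢
    exact hnorm g.1 g.2 _ hn
  have hN1 : N ≠ ⊥ := by
    intro hbot
    apply hT
    rw [eq_bot_iff]
    intro x hx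
    have : (⟨x, hTH hx⟩ : H) ∈ N := by rw [hN, Subgroup.mem_subgroupOf]; exact hx
    rw [hbot, Subgroup.mem_bot] at this
    exact congrArg Subtype.val this
  have hNab : ∀ a ∈ N, ∀ b ∈ N, a * b = b * a := by
    intro a ha b hb
    rw [hN, Subgroup.mem_subgroupOf] at ha hb
    exact Subtype.ext (hab _ ha _ hb)
  obtain ⟨h1, h2, h3, h4⟩ := K_lemma (H := H) α hep hfaith ω₀ hω₀ N hN1 hNab
  refine ⟨?_, ?_, ?_, ?_⟩
  · intro c hc hcomm
    have := h1 ⟨c, hc⟩ (by
      intro n hn
      rw [hN, Subgroup.mem_subgroupOf] at hn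
      exact Subtype.ext (hcomm _ hn))
    rw [hN, Subgroup.mem_subgroupOf] at this
    exact this
  · intro ω hω
    rw [h2 ω hω]
    exact Nat.card_congr (Subgroup.subgroupOfEquivOfLe hTH).toEquiv
  · intro ω hω n hn hfix
    have := h3 ω hω ⟨n, hTH hn⟩ (by rw [hN, Subgroup.mem_subgroupOf]; exact hn) hfix
    exact congrArg Subtype.val this
  · intro ω hω h hh
    obtain ⟨n, hn, hnω⟩ := h4 ω hω ⟨h, hh⟩
    rw [hN, Subgroup.mem_subgroupOf] at hn
    exact ⟨n.1, hn, hnω⟩

end KG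

section final
open Cfsg.Agent.Lib.H1 Cfsg.Agent.Lib.H17 Cfsg.Agent.Lib.H21

/-- The soluble extremely primitive groups. Let a finite solvable group G act faithfully and primitively on a finite set Ω with p ^ d points (p prime), with non-trivial point stabilizers each acting primitively on every one of its orbits. Then there is a prime q such that every orbit of a point stabilizer G_α other than {α} has exactly q points, q divides p ^ d − 1 but no p ^ i − 1 with 0 < i < d, and G_α has a normal subgroup T of order q with G_α generated by T and one further element and the order of G_α dividing q·d (so G_α is cyclic of order q, or an extension of T by a cyclic group of order dividing d). -/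
theorem result {G : Type*} [Group G] [Finite G] {Ω : Type*} [Fintype Ω] [MulAction G Ω] [FaithfulSMul G Ω] [Group.IsSolvable G] (p d : ℕ) (hp : p.Prime) (hcard : Fintype.card Ω = p ^ d)
    (hprim : MulAction.IsPreprimitive G Ω) (hH : ∀ α : Ω, MulAction.stabilizer G α ≠ ⊥) (hep : ∀ (α : Ω) (ω : Ω), MulAction.IsPreprimitive (MulAction.stabilizer G α) (MulAction.orbit (MulAction.stabilizer G α) ω)) (α : Ω) :
    ∃ q : ℕ, q.Prime ∧ (∀ ω : Ω, ω ≠ α → Nat.card (MulAction.orbit (MulAction.stabilizer G α) ω) = q) ∧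
      q ∣ p ^ d - 1 ∧ (∀ i : ℕ, 0 < i → i < d → ¬ q ∣ p ^ i - 1) ∧
      ∃ T : Subgroup G, T ≤ MulAction.stabilizer G α ∧ MulAction.stabilizer G α ≤ Subgroup.normalizer (T : Set G) ∧ Nat.card T = q ∧
        (∃ h : G, MulAction.stabilizer G α = T ⊔ Subgroup.zpowers h) ∧ Nat.card (MulAction.stabilizer G α) ∣ q * d := by
  classical
  haveI := hprim.toIsPretransitive
  haveI hpF : Fact p.Prime := ⟨hp⟩
  set H := stabilizer G α with hHdef
  have hfaith : ∀ ω : Ω, ω ≠ α → ∀ h : H, (∀ x ∈ orbit H ω, h • x = x) → h = 1 :=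
    fun ω hω h hfix => Cfsg.Agent.S3494.result hprim hH hep α ω hω h hfix
  have hHne : H ≠ ⊥ := hH α
  -- a point other than α
  obtain ⟨ω₀, hω₀⟩ : ∃ ω : Ω, ω ≠ α := by
    have hne := hHne
    rw [Ne, Subgroup.eq_bot_iff_forall] at hne
    push Not at hne
    obtain ⟨h, hh, h1⟩ := hne
    by_contra hcon
    push Not at hcon
    apply h1
    apply FaithfulSMul.eq_of_smul_eq_smul (α := Ω)
    intro x
    rw [one_smul, hcon x]
    exact hh
  -- the regular normal subgroup V
  have hG1 : (⊤ : Subgroup G) ≠ ⊥ := by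
    intro h
    apply hHne
    rw [eq_bot_iff, ← h]
    exact le_top
  obtain ⟨V, r, hVn, hV1, hr, hVab', hVr'⟩ :=
    exists_normal_elemAb (⊤ : Subgroup G) hG1 inferInstance
  haveI := hVn
  haveI hrF : Fact r.Prime := ⟨hr⟩
  have hVab : ∀ a ∈ V, ∀ b ∈ V, a * b = b * a :=
    fun a ha b hb => congrArg Subtype.val (hVab' ⟨a, ha⟩ ⟨b, hb⟩)
  have hVr : ∀ a ∈ V, a ^ r = 1 := fun a ha => congrArg Subtype.val (hVr' ⟨a, ha⟩)
  obtain ⟨hVreg, hVC, hVcard⟩ := Cfsg.Agent.S3497.regular_of_normal_abelian hprim V hV1 hVab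
  have hVtr := Cfsg.Agent.S3497.transitive_of_normal hprim V hV1
  have hVcard' : Nat.card V = p ^ d := by rw [hVcard, Nat.card_eq_fintype_card, hcard]
  have hrp : r = p := by
    have hne := hV1
    rw [Ne, Subgroup.eq_bot_iff_forall] at hne
    push Not at hne
    obtain ⟨v, hv, hv1⟩ := hne
    have h1 : orderOf v = r := orderOf_eq_prime (hVr v hv) hv1
    have h2 : orderOf (⟨v, hv⟩ : V) ∣ Nat.card V := orderOf_dvd_natCard _
    rw [Subgroup.orderOf_mk, h1, hVcard'] at h2
    exact (Nat.prime_dvd_prime_iff_eq hr hp).mp (hr.dvd_of_dvd_pow h2)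
  have hVp : ∀ a ∈ V, a ^ p = 1 := by rw [← hrp]; exact hVr
  have hd0 : d ≠ 0 := by
    rintro rfl
    rw [pow_zero] at hVcard'
    exact hV1 (Subgroup.card_eq_one.mp hVcard')
  have hVα : ∀ n ∈ V, n • α = α → n = 1 := fun n hn h => hVreg n hn α h
  -- a normal elementary abelian subgroup of H
  haveI : Nontrivial H := (Subgroup.nontrivial_iff_ne_bot H).mpr hHne
  obtain ⟨A, q, hAn, hA1, hq, hAab', hAq'⟩ :=
    exists_normal_elemAb (G := H) (⊤ : Subgroup H) top_ne_bot inferInstance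
  haveI hqF : Fact q.Prime := ⟨hq⟩
  set T : Subgroup G := A.map H.subtype with hTdef
  have hTH : T ≤ H := Subgroup.map_subtype_le A
  have hnorm : ∀ h ∈ H, ∀ n ∈ T, h * n * h⁻¹ ∈ T := by
    rintro h hh _ ⟨a, ha, rfl⟩
    exact ⟨⟨h, hh⟩ * a * ⟨h, hh⟩⁻¹, hAn.conj_mem a ha ⟨h, hh⟩, rfl⟩
  have hT1 : T ≠ ⊥ := by
    intro h
    exact hA1 ((Subgroup.map_eq_bot_iff_of_injective A (Subgroup.subtype_injective H)).mp h)
  have hTab : ∀ a ∈ T, ∀ b ∈ T, a * b = b * a := by
    rintro _ ⟨a, ha, rfl⟩ _ ⟨b, hb, rfl⟩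
    have := congrArg (fun z : A => ((z : H) : G)) (hAab' ⟨a, ha⟩ ⟨b, hb⟩)
    exact this
  have hTq : ∀ a ∈ T, a ^ q = 1 := by
    rintro _ ⟨a, ha, rfl⟩
    have := congrArg (fun z : A => ((z : H) : G)) (hAq' ⟨a, ha⟩)
    exact this
  obtain ⟨hK1, hK2, hK3, hK4⟩ := K_G α (hep α) hfaith ω₀ hω₀ T hTH hnorm hT1 hTab
  -- T acts fixed point freely on V
  have hfpf : ∀ a ∈ T, a ≠ 1 → V ⊓ Subgroup.centralizer {a} = ⊥ := by
    intro a ha ha1
    rw [eq_bot_iff]
    intro n hn
    rw [Subgroup.mem_bot]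
    obtain ⟨hnV, hnc⟩ := Subgroup.mem_inf.mp hn
    rw [Subgroup.mem_centralizer_singleton_iff] at hnc
    by_contra hn1
    apply ha1
    have hω : n • α ≠ α := fun h => hn1 (hVα n hnV h)
    apply hK3 (n • α) hω a ha
    have haα : a • α = α := hTH ha
    rw [← mul_smul, ← hnc, mul_smul, haα]
  haveI : IsMulCommutative V := isMulCommutative_iff.mpr (fun a b => Subtype.ext (hVab a a.2 b b.2))
  haveI : IsMulCommutative T := isMulCommutative_iff.mpr (fun a b => Subtype.ext (hTab a a.2 b b.2))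
  have hTcyc : IsCyclic T :=
    isCyclic_of_fpf_of_comm hV1 (by rw [Subgroup.normalizer_eq_top_iff.mpr hVn]; exact le_top) hfpf
  obtain ⟨g, hg⟩ := IsCyclic.exists_generator (α := T)
  have hgord : orderOf g = Nat.card T := orderOf_eq_card_of_forall_mem_zpowers hg
  have hgq : g ^ q = 1 := Subtype.ext (by rw [Subgroup.coe_pow]; exact hTq g g.2)
  have hcardT : Nat.card T = q := by
    have h1 : orderOf g ∣ q := orderOf_dvd_of_pow_eq_one hgq
    rcases (Nat.dvd_prime hq).mp h1 with h2 | h2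
    · exfalso
      apply hT1
      rw [← Subgroup.card_eq_one, ← hgord, h2]
    · rw [← hgord, h2]
  obtain ⟨t, htg⟩ : ∃ t : G, t = (g : G) := ⟨_, rfl⟩
  have htT : t ∈ T := htg ▸ g.2
  have hTt : ∀ x ∈ T, ∃ k : ℕ, x = t ^ k := by
    intro x hx
    have h1 := hg ⟨x, hx⟩
    obtain ⟨k, hk⟩ := (IsOfFinOrder.mem_powers_iff_mem_zpowers (isOfFinOrder_of_finite g)).mpr h1
    refine ⟨k, ?_⟩
    have := congrArg Subtype.val hk
    simp only [Subgroup.coe_pow] at this
    rw [htg, this]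
  have htord : orderOf t = q := by rw [htg, Subgroup.orderOf_coe, hgord, hcardT]
  have htq : t ^ q = 1 := by rw [← htord]; exact pow_orderOf_eq_one t
  have ht1 : t ≠ 1 := by
    intro h
    rw [h, orderOf_one] at htord
    exact hq.one_lt.ne htord
  -- orbit sizes and q ∣ p ^ d - 1
  have horb : ∀ ω, ω ≠ α → Nat.card (orbit H ω) = q := fun ω hω => by rw [hK2 ω hω, hcardT]
  have hqdvd : q ∣ p ^ d - 1 := by
    have hd := card_dvd_ncard_of_free (G := T) ({α}ᶜ : Set Ω) (Set.toFinite _) (by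
      intro g x hx hgx
      apply hx
      have h1 : (g : G) • x = α := hgx
      have h2 : x = (g : G)⁻¹ • α := by rw [← h1, inv_smul_smul]
      rw [h2]
      exact (H.inv_mem (hTH g.2) : (g : G)⁻¹ ∈ H)) (by
      intro x hx
      rw [eq_bot_iff]
      intro g hg
      rw [Subgroup.mem_bot]
      have h1 : (g : G) • x = x := hg
      exact Subtype.ext (hK3 x hx (g : G) g.2 h1))
    rw [hcardT, Set.ncard_compl, Set.ncard_singleton, Nat.card_eq_fintype_card, hcard] at hd
    exact hd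
  have hpq : p ≠ q := by
    rintro rfl
    have h1 : p ∣ p ^ d := dvd_pow_self p hd0
    have h2 : p ∣ p ^ d - (p ^ d - 1) := Nat.dvd_sub h1 hqdvd
    rw [Nat.sub_sub_self (Nat.one_le_pow _ _ hp.pos)] at h2
    exact hp.one_lt.ne' (Nat.dvd_one.mp h2)
  -- irreducibility
  have hmin : ∀ B : Subgroup G, B ≤ V → (∀ b ∈ B, t * b * t⁻¹ ∈ B) → B = ⊥ ∨ B = V := by
    intro B hBV hB
    by_cases hB1 : B = ⊥
    · left; exact hB1
    right
    rw [Subgroup.eq_bot_iff_forall] at hB1
    push Not at hB1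
    obtain ⟨u, huB, hu1⟩ := hB1
    have huV : u ∈ V := hBV huB
    have hωu : u • α ≠ α := fun h => hu1 (hVα u huV h)
    have hpowinv : ∀ k : ℕ, ∀ b ∈ B, t ^ k * b * (t ^ k)⁻¹ ∈ B := by
      intro k
      induction k with
      | zero => intro b hb; simpa using hb
      | succ k ih =>
        intro b hb
        have h1 := hB _ (ih b hb)
        have e : t ^ (k + 1) * b * (t ^ (k + 1))⁻¹ = t * (t ^ k * b * (t ^ k)⁻¹) * t⁻¹ := by
          rw [pow_succ']; group
        rw [e]; exact h1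
    have hconj : ∀ c : G, c * u * c⁻¹ ∈ B := by
      intro c
      obtain ⟨v, hv⟩ := hVtr.exists_smul_eq α (c • α)
      have hvα : (v : G) • α = c • α := hv
      obtain ⟨h, hh⟩ : ∃ h : G, h = (v : G)⁻¹ * c := ⟨_, rfl⟩
      have hhH : h ∈ H := by
        rw [hHdef, mem_stabilizer_iff, hh, mul_smul, ← hvα, inv_smul_smul]
      obtain ⟨s, hsT, hs⟩ := hK4 (u • α) hωu h hhH
      have hsH : s ∈ H := hTH hsT
      have hsα : s⁻¹ • α = α := (H.inv_mem hsH : s⁻¹ ∈ H)
      have hhα : h⁻¹ • α = α := (H.inv_mem hhH : h⁻¹ ∈ H)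
      have e1 : (s * u * s⁻¹) • α = (h * u * h⁻¹) • α := by
        rw [mul_smul, mul_smul, mul_smul, mul_smul, hsα, hhα]
        exact hs
      have hsV : s * u * s⁻¹ ∈ V := hVn.conj_mem u huV s
      have hhV : h * u * h⁻¹ ∈ V := hVn.conj_mem u huV h
      have e2 : s * u * s⁻¹ = h * u * h⁻¹ := by
        have h3 : ((h * u * h⁻¹)⁻¹ * (s * u * s⁻¹)) = 1 := by
          apply hVα _ (V.mul_mem (V.inv_mem hhV) hsV)
          rw [mul_smul, e1, inv_smul_smul]
        exact (inv_mul_eq_one.mp h3).symm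
      have e3 : c * u * c⁻¹ = h * u * h⁻¹ := by
        have hc : c = (v : G) * h := by rw [hh]; group
        have hcomm := hVab (v : G) v.2 _ hhV
        calc c * u * c⁻¹ = (v : G) * (h * u * h⁻¹) * (v : G)⁻¹ := by rw [hc]; group
          _ = (h * u * h⁻¹) * (v : G) * (v : G)⁻¹ := by rw [hcomm]
          _ = h * u * h⁻¹ := by group
      rw [e3, ← e2]
      obtain ⟨k, rfl⟩ := hTt s hsT
      exact hpowinv k u huB
    have hWB : Subgroup.normalClosure ({u} : Set G) ≤ B := by
      rw [Subgroup.normalClosure, Subgroup.closure_le]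
      intro x hx
      rw [Group.mem_conjugatesOfSet_iff] at hx
      obtain ⟨y, hy, hyx⟩ := hx
      rw [Set.mem_singleton_iff] at hy
      subst hy
      obtain ⟨c, rfl⟩ := isConj_iff.mp hyx
      exact hconj c
    have hWV : Subgroup.normalClosure ({u} : Set G) ≤ V := hWB.trans hBV
    have hW1 : Subgroup.normalClosure ({u} : Set G) ≠ ⊥ := by
      intro h
      apply hu1
      have : u ∈ Subgroup.normalClosure ({u} : Set G) :=
        Subgroup.subset_normalClosure (Set.mem_singleton u)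
      rw [h, Subgroup.mem_bot] at this
      exact this
    obtain ⟨_, _, hWcard⟩ := Cfsg.Agent.S3497.regular_of_normal_abelian hprim
      (Subgroup.normalClosure ({u} : Set G)) hW1 (fun a ha b hb => hVab a (hWV ha) b (hWV hb))
    have hWeqV : Subgroup.normalClosure ({u} : Set G) = V :=
      Subgroup.eq_of_le_of_card_ge hWV (by rw [hWcard, hVcard])
    exact le_antisymm hBV (hWeqV ▸ hWB)
  -- t does not centralize V
  have htV : ∃ v ∈ V, t * v * t⁻¹ ≠ v := by
    by_contra hcon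
    push Not at hcon
    have : t ∈ V := hVC t (fun n hn => by
      have h1 := hcon n hn
      calc t * n = (t * n * t⁻¹) * t := by group
        _ = n * t := by rw [h1])
    exact ht1 (hVα t this (hTH htT))
  -- d is the order of p mod q
  have hdord : d = orderOf (p : ZMod q) := by
    have h1 := Cfsg.Agent.Lib.H19.card_eq_pow_orderOf_of_minimal (q := p) (p := q) hpq V
      inferInstance hVp hV1 t
      (by rw [Subgroup.normalizer_eq_top_iff.mpr hVn]; trivial)
      (by rw [htq]; exact Subgroup.one_mem _)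
      (by
        intro hc
        obtain ⟨v, hv, hne⟩ := htV
        apply hne
        have := Subgroup.mem_centralizer_iff.mp hc v hv
        rw [← this]; group) hmin
    rw [hVcard'] at h1
    exact Nat.pow_right_injective hp.two_le h1
  have hprimdiv : ∀ i : ℕ, 0 < i → i < d → ¬ q ∣ p ^ i - 1 := by
    intro i hi0 hid hdvd
    have h2 : (p : ZMod q) ^ i = 1 := by
      have h1 : ((p ^ i - 1 : ℕ) : ZMod q) = 0 := (ZMod.natCast_eq_zero_iff _ _).mpr hdvd
      rw [Nat.cast_sub (Nat.one_le_pow _ _ hp.pos), Nat.cast_pow, Nat.cast_one, sub_eq_zero] at h1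
      exact h1
    have h3 := orderOf_dvd_of_pow_eq_one h2
    rw [← hdord] at h3
    exact absurd (Nat.le_of_dvd hi0 h3) (not_le.mpr hid)
  -- conjugation by H on t is through powers of p
  have hconjp : ∀ h ∈ H, ∃ i : ℕ, h * t * h⁻¹ = t ^ (p ^ i) := by
    intro h hh
    obtain ⟨a, ha⟩ := hTt _ (hnorm h hh t htT)
    obtain ⟨i, hi⟩ := conj_pow_of_irreducible (p := p) (q := q) V hVab hVp hV1 t htq htV hmin h a ha
    refine ⟨i, ?_⟩
    rw [ha]
    rw [← htord] at hi
    exact pow_eq_pow_iff_modEq.mpr hi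
  have hpd : p ^ d ≡ 1 [MOD q] :=
    ((Nat.modEq_iff_dvd' (Nat.one_le_pow _ _ hp.pos)).mpr hqdvd).symm
  -- the action of H on T
  have hHT : H ≤ Subgroup.normalizer (T : Set G) := by
    intro h hh
    rw [Subgroup.mem_normalizer_iff]
    intro n
    constructor
    · intro hn; exact hnorm h hh n hn
    · intro hn
      have := hnorm h⁻¹ (H.inv_mem hh) _ hn
      have e : h⁻¹ * (h * n * h⁻¹) * h⁻¹⁻¹ = n := by group
      rwa [e] at this
  refine ⟨q, hq, horb, hqdvd, hprimdiv, T, hTH, hHT, hcardT, ?_⟩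
  let ρ : H →* MulAut T := conjAutHom hHT
  have hker : ∀ h : H, ρ h = 1 ↔ (h : G) ∈ T := by
    intro h
    constructor
    · intro h1
      apply hK1 h.1 h.2
      intro n hn
      have h2 : ρ h ⟨n, hn⟩ = ⟨n, hn⟩ := by rw [h1]; rfl
      have h3 := congrArg Subtype.val h2
      rw [conjAutHom_apply] at h3
      calc (h : G) * n = ((h : G) * n * (h : G)⁻¹) * h := by group
        _ = n * h := by rw [h3]
    · intro hT'
      ext v
      rw [conjAutHom_apply]
      have := hTab h.1 hT' v.1 v.2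
      rw [this]
      simp
  haveI : Fact (Nat.card T).Prime := ⟨by rw [hcardT]; exact hq⟩
  haveI : IsCyclic (MulAut T) :=
    isCyclic_of_surjective (IsCyclic.mulAutMulEquiv T).symm (IsCyclic.mulAutMulEquiv T).symm.surjective
  obtain ⟨γ, hγ⟩ := IsCyclic.exists_generator (α := ρ.range)
  obtain ⟨h₀, hh₀⟩ := γ.2
  have hcardH : Nat.card H = Nat.card ρ.ker * Nat.card ρ.range := by
    rw [← Subgroup.index_ker, Subgroup.card_mul_index]
  have hkerT : ρ.ker = T.subgroupOf H := by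
    ext h
    rw [MonoidHom.mem_ker, hker, Subgroup.mem_subgroupOf]
  have hcardker : Nat.card ρ.ker = q := by
    rw [hkerT, ← hcardT]
    exact Nat.card_congr (Subgroup.subgroupOfEquivOfLe hTH).toEquiv
  have hcardrange : Nat.card ρ.range = orderOf γ := (orderOf_eq_card_of_forall_mem_zpowers hγ).symm
  -- order of γ divides d
  obtain ⟨i₀, hi₀⟩ := hconjp h₀.1 h₀.2
  have hpowconj : ∀ k : ℕ, (h₀ : G) ^ k * t * ((h₀ : G) ^ k)⁻¹ = t ^ (p ^ (i₀ * k)) := by
    intro k
    induction k with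
    | zero => simp
    | succ k ih =>
      have e : (h₀ : G) ^ (k + 1) * t * ((h₀ : G) ^ (k + 1))⁻¹
          = (h₀ : G) * ((h₀ : G) ^ k * t * ((h₀ : G) ^ k)⁻¹) * (h₀ : G)⁻¹ := by
        rw [pow_succ']; group
      rw [e, ih, ← conj_pow, hi₀, ← pow_mul, ← pow_add, Nat.mul_succ, add_comm]
  have hγd : γ ^ d = 1 := by
    apply Subtype.ext
    rw [Subgroup.coe_pow, Subgroup.coe_one, ← hh₀, ← map_pow, hker]
    apply hK1 _ (h₀ ^ d).2
    intro n hn
    obtain ⟨k, rfl⟩ := hTt n hn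
    have h1 := hpowconj d
    have h2 : t ^ (p ^ (i₀ * d)) = t := by
      have h3 : p ^ (i₀ * d) ≡ 1 [MOD orderOf t] := by
        rw [htord, mul_comm, pow_mul]
        have := hpd.pow i₀
        rwa [one_pow] at this
      have := pow_eq_pow_iff_modEq.mpr h3
      rwa [pow_one] at this
    rw [h2] at h1
    have h4 : ((h₀ ^ d : H) : G) = (h₀ : G) ^ d := rfl
    rw [h4]
    have h5 : (h₀ : G) ^ d * t = t * (h₀ : G) ^ d := by
      calc (h₀ : G) ^ d * t = ((h₀ : G) ^ d * t * ((h₀ : G) ^ d)⁻¹) * (h₀ : G) ^ d := by group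
        _ = t * (h₀ : G) ^ d := by rw [h1]
    exact (Commute.pow_right (show Commute ((h₀ : G) ^ d) t from h5) k)
  have hdvdd : orderOf γ ∣ d := orderOf_dvd_of_pow_eq_one hγd
  refine ⟨⟨(h₀ : G), ?_⟩, ?_⟩
  · apply le_antisymm
    · intro h hh
      have hmem : ρ ⟨h, hh⟩ ∈ ρ.range := ⟨_, rfl⟩
      have h1 := hγ ⟨ρ ⟨h, hh⟩, hmem⟩
      obtain ⟨k, hk⟩ := Subgroup.mem_zpowers_iff.mp h1
      have hk' : ρ (h₀ ^ k) = ρ ⟨h, hh⟩ := by
        rw [map_zpow, hh₀]
        have := congrArg Subtype.val hk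
        rwa [Subgroup.coe_zpow] at this
      have h2 : ρ (⟨h, hh⟩ * (h₀ ^ k)⁻¹) = 1 := by
        rw [map_mul, map_inv, hk', mul_inv_cancel]
      have hT' := (hker _).mp h2
      have h3 : ((⟨h, hh⟩ * (h₀ ^ k)⁻¹ : H) : G) = h * ((h₀ : G) ^ k)⁻¹ := rfl
      rw [h3] at hT'
      have e : h = (h * ((h₀ : G) ^ k)⁻¹) * (h₀ : G) ^ k := by group
      rw [e]
      exact Subgroup.mul_mem_sup hT' (Subgroup.zpow_mem_zpowers _ k)
    · exact sup_le hTH (Subgroup.zpowers_le.mpr h₀.2)
  · rw [hcardH, hcardker, hcardrange]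
    exact Nat.mul_dvd_mul_left q hdvdd

end final

end Cfsg.Agent.S3496
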