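import Cfsg.Statements.S3498
import Mathlib

set_option autoImplicit false
open Cfsg

namespace Cfsg.Agent.S3498

/-- A non-abelian finite simple group is not a `p`-group. -/
theorem not_isPGroup_of_simple {T : Type*} [Group T] [Finite T] (hT : IsSimpleGroup T)
    (hTc : ¬ IsMulCommutative T) (r : ℕ) (hr : r.Prime) : ¬ IsPGroup r T := by
  intro h
  have := Fact.mk hr
  have hnil : Group.IsNilpotent T := h.isNilpotent
  have hsol : Group.IsSolvable T := inferInstance
  have hcomm := IsSimpleGroup.comm_iff_isSolvable.2 hsol
  exact hTc ⟨⟨hcomm⟩⟩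

/-- A simple non-abelian finite group has no maximal subgroup of prime order. -/
theorem simple_case {G : Type*} [Group G] [Finite G] (hG : IsSimpleGroup G) (hGc : ¬ IsMulCommutative G)
    (H : Subgroup G) (hmax : IsCoatom H) (p : ℕ) (hp : p.Prime) (hH : Nat.card H = p) : False := by
  have := Fact.mk hp
  have hHp : IsPGroup p H := IsPGroup.of_card (n := 1) (by rw [hH, pow_one])
  obtain ⟨P, hHP⟩ := hHp.exists_le_sylow
  have hPtop : (P : Subgroup G) ≠ ⊤ := by
    intro h
    apply not_isPGroup_of_simple hG hGc p hp
    have h1 : IsPGroup p (P : Subgroup G) := P.isPGroup'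
    rw [h] at h1
    exact (IsPGroup.of_equiv h1 Subgroup.topEquiv)
  have hPH : (P : Subgroup G) = H := by
    rcases eq_or_lt_of_le hHP with h | h
    · exact h.symm
    · exact absurd (hmax.2 _ h) hPtop
  -- H is commutative
  have hHcyc : IsCyclic H := isCyclic_of_prime_card hH
  have hHcomm : ∀ a ∈ H, ∀ b ∈ H, a * b = b * a := by
    intro a ha b hb
    have hc : IsMulCommutative H := IsCyclic.isMulCommutative
    exact setLike_mul_comm ha hb
  have hHne : H ≠ ⊥ := by
    intro h
    rw [h, Subgroup.card_bot] at hH
    exact hp.one_lt.ne hH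
  -- normalizer of H
  have hN : Subgroup.normalizer (H : Set G) = H := by
    rcases eq_or_lt_of_le (Subgroup.le_normalizer (H := H)) with h | h
    · exact h.symm
    · exfalso
      have htop := hmax.2 _ h
      have hnorm : H.Normal := Subgroup.normalizer_eq_top_iff.1 htop
      rcases hnorm.eq_bot_or_eq_top with h1 | h1
      · exact hHne h1
      · exact hmax.1 h1
  have hNC : Subgroup.normalizer ((P : Subgroup G) : Set G) ≤ Subgroup.centralizer ((P : Subgroup G) : Set G) := by
    rw [hPH, hN]
    intro x hx
    rw [Subgroup.mem_centralizer_iff]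
    intro y hy
    exact hHcomm y hy x hx
  have hcompl := MonoidHom.ker_transferSylow_isComplement' P hNC
  rcases (MonoidHom.normal_ker (MonoidHom.transferSylow P hNC)).eq_bot_or_eq_top with h | h
  · rw [h] at hcompl
    have := Subgroup.isComplement'_bot_left.1 hcompl
    exact hPtop this
  · rw [h] at hcompl
    have := Subgroup.isComplement'_top_left.1 hcompl
    rw [hPH] at this
    exact hHne this


open scoped Pointwise

theorem result {G : Type*} [Group G] [Finite G] (T : Subgroup G) [T.Normal] (hT : IsSimpleGroup T) (hTc : ¬ IsMulCommutative T)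
    (hC : Subgroup.centralizer (T : Set G) = ⊥) (H : Subgroup G) (hmax : IsCoatom H) : ¬ (Nat.card H).Prime := by
  intro hp
  have hfact := Fact.mk hp
  have hHp : IsPGroup (Nat.card H) H := IsPGroup.of_card (n := 1) (by rw [pow_one])
  have hTnt : T ≠ ⊥ := by
    have : Nontrivial T := hT.toNontrivial
    exact (Subgroup.nontrivial_iff_ne_bot T).1 this
  have hcases : H ⊓ T = ⊥ ∨ H ≤ T := by
    rcases ((H ⊓ T).subgroupOf H).eq_bot_or_eq_top_of_prime_card with h | h
    · left
      rw [Subgroup.subgroupOf_eq_bot] at h
      have := h.eq_bot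
      rwa [inf_comm, ← inf_assoc, inf_idem] at this
    · right
      rw [Subgroup.subgroupOf_eq_top] at h
      exact h.trans inf_le_right
  rcases hcases with hdisj | hle
  · -- H ⊓ T = ⊥
    have hTH : ¬ T ≤ H := by
      intro h
      apply hTnt
      have h1 : T ≤ H ⊓ T := le_inf h le_rfl
      rw [hdisj] at h1
      exact le_bot_iff.1 h1
    by_cases hpT : Nat.card H ∣ Nat.card T
    · -- p ∣ |T|
      obtain ⟨t, ht⟩ := exists_prime_orderOf_dvd_card' (Nat.card H) hpT
      obtain ⟨P, hHP⟩ := hHp.exists_le_sylow
      have hPtop : (P : Subgroup G) ≠ ⊤ := by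
        intro h
        apply not_isPGroup_of_simple hT hTc (Nat.card H) hp
        have h1 : IsPGroup (Nat.card H) (P : Subgroup G) := P.isPGroup'
        exact h1.to_le (by rw [h]; exact le_top)
      have hPH : (P : Subgroup G) = H := by
        rcases eq_or_lt_of_le hHP with h | h
        · exact h.symm
        · exact absurd (hmax.2 _ h) hPtop
      have hZ : IsPGroup (Nat.card H) (Subgroup.zpowers (t : G)) := by
        apply IsPGroup.of_card (n := 1)
        rw [Nat.card_zpowers, pow_one, Subgroup.orderOf_coe, ht]
      obtain ⟨Q, hZQ⟩ := hZ.exists_le_sylow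
      obtain ⟨g, hg⟩ := MulAction.exists_smul_eq G P Q
      have htQ : (t : G) ∈ (Q : Subgroup G) := hZQ (Subgroup.mem_zpowers _)
      rw [← hg, Sylow.smul_def, Sylow.pointwise_smul_def, Subgroup.mem_pointwise_smul_iff_inv_smul_mem, hPH] at htQ
      have h1 : g⁻¹ * (t : G) * g ∈ H := by simpa [MulAut.smul_def] using htQ
      have h2 : g⁻¹ * (t : G) * g ∈ T := by
        have := (inferInstance : T.Normal).conj_mem (t : G) t.2 g⁻¹
        simpa using this
      have h3 : g⁻¹ * (t : G) * g ∈ H ⊓ T := ⟨h1, h2⟩
      rw [hdisj, Subgroup.mem_bot] at h3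
      have h4 : (t : G) = 1 := by
        have := congrArg (fun x => g * x * g⁻¹) h3
        simpa [mul_assoc] using this
      have h5 : t = 1 := Subtype.ext h4
      rw [h5, orderOf_one] at ht
      exact hp.one_lt.ne ht
    · -- p ∤ |T|
      have hcard : Nat.card T ≠ 1 := by
        intro h
        exact hTnt (Subgroup.card_eq_one.1 h)
      obtain ⟨r, hr, hrd⟩ := Nat.exists_prime_and_dvd hcard
      have hrfact := Fact.mk hr
      let φ : H →* MulAut T := (MulAut.conjNormal (H := T)).comp H.subtype
      let _ : MulAction H (Sylow r T) := MulAction.compHom (Sylow r T) φ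
      have hnd : ¬ Nat.card H ∣ Nat.card (Sylow r T) := by
        intro h
        obtain ⟨R0⟩ : Nonempty (Sylow r T) := inferInstance
        have h1 := R0.card_dvd_index
        have h2 : (R0 : Subgroup T).index ∣ Nat.card T := Subgroup.index_dvd_card _
        exact hpT (h.trans (h1.trans h2))
      obtain ⟨R, hR⟩ := hHp.nonempty_fixed_point_of_prime_not_dvd_card (Sylow r T) hnd
      have hRfix : ∀ h : H, φ h • R = R := fun h => hR h
      have hRne : (R : Subgroup T) ≠ ⊥ := R.ne_bot_of_dvd_card hrd
      set R' : Subgroup G := (R : Subgroup T).map T.subtype with hR'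
      have hHN : H ≤ Subgroup.normalizer (R' : Set G) := by
        intro h hh
        have key : ∀ k : H, ∀ x ∈ R', (k : G) * x * (k : G)⁻¹ ∈ R' := by
          rintro k x ⟨y, hy, rfl⟩
          have h1 : φ k y ∈ ((φ k • R : Sylow r T) : Subgroup T) := by
            rw [Sylow.pointwise_smul_def]
            exact Subgroup.smul_mem_pointwise_smul _ _ _ hy
          rw [hRfix k] at h1
          refine ⟨φ k y, h1, ?_⟩
          simp [φ, MulAut.conjNormal_apply]
        rw [Subgroup.mem_normalizer_iff]
        intro x
        constructor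
        · intro hx
          exact key ⟨h, hh⟩ x hx
        · intro hx
          have := key ⟨h⁻¹, H.inv_mem hh⟩ _ hx
          simpa [mul_assoc] using this
      have hsup : H ⊔ R' ≤ Subgroup.normalizer (R' : Set G) := sup_le hHN Subgroup.le_normalizer
      have hR'T : R' ≤ T := by
        rintro x ⟨y, _, rfl⟩
        exact y.2
      rcases eq_or_lt_of_le (le_sup_left : H ≤ H ⊔ R') with h | h
      · -- R' ≤ H
        have h1 : R' ≤ H := by rw [h]; exact le_sup_right
        have h2 : R' ≤ H ⊓ T := le_inf h1 hR'T
        rw [hdisj, le_bot_iff] at h2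
        apply hRne
        rw [hR'] at h2
        exact (Subgroup.map_eq_bot_iff_of_injective _ T.subtype_injective).1 h2
      · have htop := hmax.2 _ h
        rw [htop, top_le_iff] at hsup
        have hR'n : R'.Normal := Subgroup.normalizer_eq_top_iff.1 hsup
        have hRn : (R : Subgroup T).Normal := by
          constructor
          intro y hy t
          have h1 : (t : G) * (y : G) * (t : G)⁻¹ ∈ R' := hR'n.conj_mem _ ⟨y, hy, rfl⟩ _
          obtain ⟨z, hz, hzeq⟩ := h1
          have : z = t * y * t⁻¹ := Subtype.ext (by simpa using hzeq)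
          rw [← this]; exact hz
        rcases hRn.eq_bot_or_eq_top with h1 | h1
        · exact hRne h1
        · apply not_isPGroup_of_simple hT hTc r hr
          have h2 : IsPGroup r (R : Subgroup T) := R.isPGroup'
          rw [h1] at h2
          exact IsPGroup.of_equiv h2 Subgroup.topEquiv
  · -- H ≤ T
    rcases eq_or_lt_of_le hle with h | h
    · -- T = H
      apply hTc
      have : IsCyclic T := by
        apply isCyclic_of_prime_card (p := Nat.card H)
        rw [← h]
      exact IsCyclic.isMulCommutative
    · have htop := hmax.2 _ h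
      have hsurj : Function.Surjective T.subtype := by
        intro x
        exact ⟨⟨x, by rw [htop]; exact Subgroup.mem_top x⟩, rfl⟩
      have hnt : Nontrivial G := by
        have : Nontrivial T := hT.toNontrivial
        exact T.subtype_injective.nontrivial
      have hG : IsSimpleGroup G := IsSimpleGroup.isSimpleGroup_of_surjective T.subtype hsurj
      have hGc : ¬ IsMulCommutative G := by
        intro hc
        apply hTc
        exact ⟨⟨fun a b => Subtype.ext (hc.is_comm.comm (a : G) (b : G))⟩⟩
      exact simple_case hG hGc H hmax (Nat.card H) hp rfl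

end Cfsg.Agent.S3498
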