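import Cfsg.Statements.S3501
import Cfsg.Agent.Lib.H4.Der.Sharp

set_option autoImplicit false
open Cfsg

namespace Cfsg.Agent.S3501

open Cfsg.Agent.Lib.H4.Der in
/-- Let a finite group G act faithfully and primitively on a finite set Ω with at least two points, and suppose G is not almost simple (it has no non-abelian simple normal subgroup with trivial centralizer). Then the derangements of G form a single conjugacy class if and only if G is sharply 2-transitive (2-transitive, and no non-identity element fixes two points). -/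
theorem result {G : Type*} [Group G] [Finite G] {Ω : Type*} [Fintype Ω] [MulAction G Ω] [FaithfulSMul G Ω] (hΩ : 2 ≤ Fintype.card Ω) (hprim : MulAction.IsPreprimitive G Ω) (hnas : ¬ ∃ T : Subgroup G, T.Normal ∧ IsSimpleGroup T ∧ ¬ IsMulCommutative T ∧ Subgroup.centralizer (T : Set G) = ⊥) :
    Nat.card {c : ConjClasses G // ∃ g : G, ConjClasses.mk g = c ∧ ∀ ω : Ω, g • ω ≠ ω} = 1 ↔ (MulAction.IsMultiplyPretransitive G Ω 2 ∧ ∀ g : G, g ≠ 1 → ∀ a b : Ω, a ≠ b → g • a = a → g • b ≠ b) := by
  classical
  have := hprim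
  have : Finite Ω := Finite.of_fintype Ω
  have h2 : 2 ≤ Nat.card Ω := by rw [Nat.card_eq_fintype_card]; exact hΩ
  have : Nonempty Ω := by
    rw [← Finite.card_pos_iff]; omega
  obtain ⟨α⟩ := ‹Nonempty Ω›
  have : Nonempty Ω := ⟨α⟩
  have hnt : Nontrivial G := by
    obtain ⟨d, hd⟩ := exists_der_of_pretransitive (H := G) (X := Ω) h2
    have hd' : IsDer Ω d := hd
    exact ⟨⟨d, 1, hd'.ne_one⟩⟩
  constructor
  · intro hκ
    rcases aff_or_three (G := G) (Ω := Ω) hnas with ⟨M, hb, hM⟩ | h3
    · exact hM.sharp_of_card_eq_one hb α hκ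
    · have h3' : 3 ≤ Nat.card {c : ConjClasses G // ∃ g : G, ConjClasses.mk g = c ∧
          ∀ ω : Ω, g • ω ≠ ω} := h3
      omega
  · rintro ⟨h2t, hsharp⟩
    exact card_derClass_of_sharp h2 h2t hsharp

end Cfsg.Agent.S3501
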