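import Cfsg.Statements.S3504
import Mathlib

set_option autoImplicit false
open Cfsg

namespace Cfsg.Agent.S3504

/-- a fixed-point-free permutation of prime order `p` has cycle type `replicate (n/p) p`. -/
theorem fpf_cycleType (n : ℕ) (g : Equiv.Perm (Fin n)) (hg : (orderOf g).Prime)
    (hfpf : ∀ i : Fin n, g i ≠ i) :
    orderOf g ∣ n ∧ g.cycleType = Multiset.replicate (n / orderOf g) (orderOf g) := by
  obtain ⟨m, hm⟩ := Equiv.Perm.cycleType_prime_order hg
  have hsupp : g.support = Finset.univ := by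
    ext i
    simp [Equiv.Perm.mem_support, hfpf i]
  have hsum : g.cycleType.sum = n := by
    rw [Equiv.Perm.sum_cycleType, hsupp]; simp
  rw [hm] at hsum
  simp only [Multiset.sum_replicate, smul_eq_mul] at hsum
  have hpos : 0 < orderOf g := hg.pos
  refine ⟨⟨m + 1, by linarith⟩, ?_⟩
  have : n / orderOf g = m + 1 := by
    apply Nat.div_eq_of_eq_mul_left hpos hsum.symm
  rw [this, hm]

/-- existence of a fixed-point-free permutation of prime order `p` for `p ∣ n`. -/
theorem exists_fpf (n p : ℕ) (hp : p.Prime) (hpn : p ∣ n) (hn : 0 < n) :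
    ∃ g : Equiv.Perm (Fin n), orderOf g = p ∧ ∀ i : Fin n, g i ≠ i := by
  have hex : ∃ g : Equiv.Perm (Fin n), g.cycleType = Multiset.replicate (n / p) p := by
    rw [Equiv.Perm.exists_with_cycleType_iff]
    refine ⟨?_, ?_⟩
    · simp only [Multiset.sum_replicate, smul_eq_mul, Fintype.card_fin]
      rw [Nat.div_mul_cancel hpn]
    · intro a ha
      rw [Multiset.eq_of_mem_replicate ha]
      exact hp.two_le
  obtain ⟨g, hg⟩ := hex
  have hkpos : 0 < n / p := Nat.div_pos (Nat.le_of_dvd hn hpn) hp.pos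
  have hmem : p ∈ g.cycleType := by
    rw [hg, Multiset.mem_replicate]
    exact ⟨hkpos.ne', rfl⟩
  have h1 : p ∣ orderOf g := Equiv.Perm.dvd_of_mem_cycleType hmem
  have h2 : orderOf g ∣ p := by
    rw [← Equiv.Perm.lcm_cycleType, hg]
    apply Multiset.lcm_dvd.mpr
    intro a ha
    rw [Multiset.eq_of_mem_replicate ha]
  have hord : orderOf g = p := Nat.dvd_antisymm h2 h1
  refine ⟨g, hord, ?_⟩
  have hsum : g.support.card = n := by
    rw [← Equiv.Perm.sum_cycleType, hg]
    simp only [Multiset.sum_replicate, smul_eq_mul]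
    exact Nat.div_mul_cancel hpn
  have hsupp : g.support = Finset.univ := by
    apply Finset.eq_univ_of_card
    rw [hsum, Fintype.card_fin]
  intro i
  have : i ∈ g.support := by rw [hsupp]; exact Finset.mem_univ i
  exact Equiv.Perm.mem_support.mp this

/-- For n ≥ 5, the fixed-point-free permutations of prime order in the symmetric group of degree n form a single conjugacy class if and only if n is a prime power. -/
theorem result (n : ℕ) (hn : 5 ≤ n) :
    Nat.card {c : ConjClasses (Equiv.Perm (Fin n)) // ∃ g : Equiv.Perm (Fin n), ConjClasses.mk g = c ∧ (orderOf g).Prime ∧ ∀ i : Fin n, g i ≠ i} = 1 ↔ IsPrimePow n := by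
  have hn0 : 0 < n := by omega
  constructor
  · intro hcard
    by_contra hnpp
    rw [Nat.not_isPrimePow_iff_nontrivial_of_two_le (by omega)] at hnpp
    obtain ⟨p, hp, q, hq, hpq⟩ := hnpp
    have hp' := Nat.prime_of_mem_primeFactors hp
    have hq' := Nat.prime_of_mem_primeFactors hq
    obtain ⟨g, hg, hgf⟩ := exists_fpf n p hp' (Nat.dvd_of_mem_primeFactors hp) hn0
    obtain ⟨g', hg', hgf'⟩ := exists_fpf n q hq' (Nat.dvd_of_mem_primeFactors hq) hn0
    have hsub := (Nat.card_eq_one_iff_unique.mp hcard).1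
    have heq := @Subsingleton.elim _ hsub
      (⟨ConjClasses.mk g, g, rfl, by rw [hg]; exact hp', hgf⟩ :
        {c : ConjClasses (Equiv.Perm (Fin n)) // ∃ g : Equiv.Perm (Fin n),
          ConjClasses.mk g = c ∧ (orderOf g).Prime ∧ ∀ i : Fin n, g i ≠ i})
      ⟨ConjClasses.mk g', g', rfl, by rw [hg']; exact hq', hgf'⟩
    have heq' : ConjClasses.mk g = ConjClasses.mk g' := congrArg Subtype.val heq
    rw [ConjClasses.mk_eq_mk_iff_isConj] at heq'
    obtain ⟨c, hc⟩ := isConj_iff.mp heq'
    have : orderOf g' = orderOf g := by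
      rw [← hc]
      exact (orderOf_injective (MulAut.conj c).toMonoidHom (MulAut.conj c).injective g)
    rw [hg, hg'] at this
    exact hpq this.symm
  · intro hpp
    obtain ⟨p, k, hp, hk, rfl⟩ := hpp
    have hp' : p.Prime := hp.nat_prime
    rw [Nat.card_eq_one_iff_unique]
    constructor
    · constructor
      rintro ⟨c, g, rfl, hg, hgf⟩ ⟨c', g', rfl, hg', hgf'⟩
      rw [Subtype.mk.injEq, ConjClasses.mk_eq_mk_iff_isConj, Equiv.Perm.isConj_iff_cycleType_eq]
      obtain ⟨hd, hc⟩ := fpf_cycleType _ g hg hgf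
      obtain ⟨hd', hc'⟩ := fpf_cycleType _ g' hg' hgf'
      have h1 : orderOf g = p := (Nat.prime_dvd_prime_iff_eq hg hp').mp (hg.dvd_of_dvd_pow hd)
      have h2 : orderOf g' = p := (Nat.prime_dvd_prime_iff_eq hg' hp').mp (hg'.dvd_of_dvd_pow hd')
      rw [hc, hc', h1, h2]
    · obtain ⟨g, hg, hgf⟩ := exists_fpf (p ^ k) p hp' (dvd_pow_self p hk.ne') hn0
      exact ⟨⟨ConjClasses.mk g, g, rfl, by rw [hg]; exact hp', hgf⟩⟩

end Cfsg.Agent.S3504
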