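import Cfsg.Statements.S3508
import Cfsg.Agent.Lib.H17.UnipotentPow

set_option autoImplicit false
open Cfsg

namespace Cfsg.Agent.S3508

open Cfsg.Agent.Lib.H17
open scoped IsMulCommutative

theorem two_pow_gt : ∀ k : ℕ, 2 ≤ k → k + 1 < 2 ^ k := by
  intro k hk
  induction k, hk using Nat.le_induction with
  | base => norm_num
  | succ k hk ih => rw [pow_succ]; omega

theorem three_pow_gt : ∀ k : ℕ, 1 ≤ k → k + 1 < 3 ^ k := by
  intro k hk
  induction k, hk using Nat.le_induction with
  | base => norm_num
  | succ k hk ih => rw [pow_succ]; omega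

theorem main_bound {G : Type*} [Group G] [Finite G] {Ω : Type*} [Fintype Ω] [MulAction G Ω]
    [FaithfulSMul G Ω] (p m : ℕ) (hp : p.Prime) (hcard : Fintype.card Ω = p ^ m)
    (N : Subgroup G) [N.Normal] (hNc : IsMulCommutative N) (hNp : ∀ n ∈ N, n ^ p = 1)
    (hNtr : MulAction.IsPretransitive N Ω) (hNreg : ∀ ω : Ω, MulAction.stabilizer N ω = ⊥)
    (g : G) (r : ℕ) (hr : 1 ≤ r) (hg : orderOf g = p ^ r) : p ^ (r - 1) ≤ m := by
  classical
  haveI : Fact p.Prime := ⟨hp⟩
  by_contra hlt
  push Not at hlt
  have hne : Nonempty Ω := by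
    rw [← Fintype.card_pos_iff, hcard]; exact pow_pos hp.pos m
  obtain ⟨α⟩ := hne
  have hreg : ∀ n : N, ∀ ω : Ω, n • ω = ω → n = 1 := by
    intro n ω h
    have h1 : n ∈ MulAction.stabilizer N ω := by
      rw [MulAction.mem_stabilizer_iff]; exact h
    rw [hNreg ω, Subgroup.mem_bot] at h1
    exact h1
  have hbij : Function.Bijective (fun n : N => n • α) := by
    constructor
    · intro a b hab
      have hab' : a • α = b • α := hab
      have h1 : (b⁻¹ * a) • α = α := by rw [mul_smul, hab', inv_smul_smul]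
      have h2 := hreg (b⁻¹ * a) α h1
      calc a = b * (b⁻¹ * a) := by group
        _ = b := by rw [h2, mul_one]
    · intro ω; exact MulAction.exists_smul_eq N α ω
  have hcardN : Nat.card N = p ^ m := by
    rw [Nat.card_congr (Equiv.ofBijective _ hbij), Nat.card_eq_fintype_card, hcard]
  let c : N →* N := (MulAut.conjNormal g : MulAut N).toMonoidHom
  have hcapp : ∀ x : N, ((c x : N) : G) = g * x * g⁻¹ := fun x => MulAut.conjNormal_apply g x
  have hcpow : ∀ (k : ℕ) (x : N), ((c^[k] x : N) : G) = g ^ k * (x : G) * (g ^ k)⁻¹ := by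
    intro k
    induction k with
    | zero => intro x; simp
    | succ k ih =>
      intro x
      rw [Function.iterate_succ_apply', hcapp, ih, pow_succ']
      group
  have hc : ∀ x : N, c^[p ^ r] x = x := by
    intro x
    apply Subtype.ext
    rw [hcpow, ← hg, pow_orderOf_eq_one]
    simp
  obtain ⟨n0, hn0⟩ := MulAction.exists_smul_eq N α (g • α)
  have hn0' : (n0 : G) • α = g • α := hn0
  have hT : ∀ (k : ℕ) (x : N), g ^ k • ((x : G) • α) =
      (((fun y => c y * n0)^[k] x : N) : G) • α := by
    intro k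
    induction k with
    | zero => intro x; simp
    | succ k ih =>
      intro x
      rw [Function.iterate_succ_apply', pow_succ', mul_smul, ih]
      simp only [Subgroup.coe_mul, hcapp]
      rw [mul_smul, hn0', mul_smul, mul_smul, inv_smul_smul]
  have hA : ∀ x : N, x ^ p = 1 := by
    intro x
    apply Subtype.ext
    simpa using hNp x x.2
  have hid : ∀ x : N, (fun y => c y * n0)^[p ^ (r - 1)] x = x := fun x =>
    affine_iterate_eq_id_mul (A := N) p hA m hcardN c r hc (r - 1) hlt n0 x
  have hgq : g ^ (p ^ (r - 1)) = 1 := by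
    apply FaithfulSMul.eq_of_smul_eq_smul (α := Ω)
    intro ω
    obtain ⟨x, rfl⟩ := MulAction.exists_smul_eq N α ω
    rw [one_smul]
    have := hT (p ^ (r - 1)) x
    rw [hid] at this
    exact this
  have h1 := orderOf_dvd_of_pow_eq_one hgq
  rw [hg] at h1
  have h2 := (Nat.pow_dvd_pow_iff_le_right hp.one_lt).mp h1
  omega

/-- Let a finite group G act faithfully on a set Ω with p ^ m points (p prime) and have an elementary abelian normal p-subgroup N acting regularly on Ω (so G is a group of affine transformations of an m-dimensional space over the field with p elements). If G contains an element of order p ^ r with r ≥ 1, then p ^ (r − 1) ≤ m. In particular an element of order p ^ m forces m ≤ 2, and m ≤ 1 when p is odd. -/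
theorem result {G : Type*} [Group G] [Finite G] {Ω : Type*} [Fintype Ω] [MulAction G Ω] [FaithfulSMul G Ω] (p m : ℕ) (hp : p.Prime) (hcard : Fintype.card Ω = p ^ m)
    (N : Subgroup G) [N.Normal] (hNc : IsMulCommutative N) (hNp : ∀ n ∈ N, n ^ p = 1)
    (hNtr : MulAction.IsPretransitive N Ω) (hNreg : ∀ ω : Ω, MulAction.stabilizer N ω = ⊥)
    (g : G) (r : ℕ) (hr : 1 ≤ r) (hg : orderOf g = p ^ r) :
    p ^ (r - 1) ≤ m ∧ (r = m → m ≤ 2 ∧ (2 < p → m ≤ 1)) := by
  have hmain := main_bound p m hp hcard N hNc hNp hNtr hNreg g r hr hg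
  refine ⟨hmain, ?_⟩
  intro hrm
  subst hrm
  constructor
  · by_contra h
    push Not at h
    have h1 : 2 ^ (r - 1) ≤ p ^ (r - 1) := Nat.pow_le_pow_left hp.two_le _
    have h2 := two_pow_gt (r - 1) (by omega)
    omega
  · intro hp2
    by_contra h
    push Not at h
    have h1 : 3 ^ (r - 1) ≤ p ^ (r - 1) := Nat.pow_le_pow_left (by omega) _
    have h2 := three_pow_gt (r - 1) (by omega)
    omega

end Cfsg.Agent.S3508
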