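import Cfsg.Statements.S3511
import Mathlib

set_option autoImplicit false
open Cfsg

namespace Cfsg.Agent.S3511

open UniqueFactorizationMonoid

/-- Let a finite group G act faithfully on a set Ω. If every element of G of square-free order has a regular cycle (an orbit of the cyclic group it generates with trivial stabilizer), then every element of G has a regular cycle. -/
theorem result {G : Type*} [Group G] [Finite G] {Ω : Type*} [MulAction G Ω] [FaithfulSMul G Ω]
    (h : ∀ g : G, Squarefree (orderOf g) → ∃ ω : Ω, MulAction.stabilizer (Subgroup.zpowers g) ω = ⊥) (g : G) :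
    ∃ ω : Ω, MulAction.stabilizer (Subgroup.zpowers g) ω = ⊥ := by
  classical
  have hn0 : orderOf g ≠ 0 := (orderOf_pos g).ne'
  have hrn : radical (orderOf g) ∣ orderOf g := radical_dvd_self
  obtain ⟨j, hj⟩ := hrn
  have hj0 : j ≠ 0 := by
    rintro rfl
    rw [mul_zero] at hj
    exact hn0 hj
  have hr0 : radical (orderOf g) ≠ 0 := by
    intro h0
    rw [h0, zero_mul] at hj
    exact hn0 hj
  have hord : orderOf (g ^ j) = radical (orderOf g) := by
    rw [orderOf_pow' _ hj0, Nat.gcd_eq_right (Dvd.intro_left _ hj.symm)]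
    conv_lhs => rw [hj]
    exact Nat.mul_div_cancel _ (Nat.pos_of_ne_zero hj0)
  obtain ⟨ω, hω⟩ := h (g ^ j) (by rw [hord]; exact squarefree_radical)
  refine ⟨ω, ?_⟩
  rw [Subgroup.eq_bot_iff_forall]
  rintro ⟨x, hx⟩ hxω
  have hfix : x • ω = ω := by
    have := MulAction.mem_stabilizer_iff.1 hxω
    simpa [Subgroup.smul_def] using this
  by_contra hne
  have hx1 : x ≠ 1 := by
    intro h1
    apply hne
    exact Subtype.ext h1
  have hox : orderOf x ≠ 1 := by
    intro h1
    exact hx1 (orderOf_eq_one_iff.1 h1)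
  obtain ⟨q, hq, hqd⟩ := Nat.exists_prime_and_dvd hox
  obtain ⟨e, he⟩ := hqd
  have hd0 : 0 < orderOf x := orderOf_pos x
  have he0 : 0 < e := by
    rcases Nat.eq_zero_or_pos e with h0 | h0
    · rw [h0, mul_zero] at he; omega
    · exact h0
  -- y = x ^ e
  have hyq : (x ^ e) ^ q = 1 := by
    rw [← pow_mul, mul_comm, ← he, pow_orderOf_eq_one]
  have hy1 : x ^ e ≠ 1 := by
    intro h1
    have hdvd : orderOf x ∣ e := orderOf_dvd_of_pow_eq_one h1
    have hle : orderOf x ≤ e := Nat.le_of_dvd he0 hdvd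
    have : e < orderOf x := by
      rw [he]
      have := hq.two_le
      nlinarith
    omega
  have hyfix : (x ^ e) • ω = ω := by
    have hmem : x ∈ MulAction.stabilizer G ω := MulAction.mem_stabilizer_iff.2 hfix
    exact MulAction.mem_stabilizer_iff.1 (Subgroup.pow_mem _ hmem e)
  -- x = g ^ k
  have hxd : orderOf x ∣ orderOf g := orderOf_dvd_of_mem_zpowers hx
  have hqn : q ∣ orderOf g := Dvd.dvd.trans (Dvd.intro _ he.symm) hxd
  have hqr : q ∣ radical (orderOf g) :=
    (dvd_radical_iff_of_irreducible hq.prime.irreducible hn0).2 hqn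
  obtain ⟨r', hr'⟩ := hqr
  obtain ⟨k, hk⟩ := (mem_powers_iff_mem_zpowers).2 hx
  -- hk : g ^ k = x
  have hk' : g ^ (k * e * q) = 1 := by
    have : (fun x1 x2 => x1 ^ x2) g k = x := hk
    simp only at this
    rw [pow_mul, pow_mul, this]
    exact hyq
  have hdvd : orderOf g ∣ k * e * q := orderOf_dvd_of_pow_eq_one hk'
  have hjk : j ∣ k * e := by
    have h1 : q * (r' * j) ∣ q * (k * e) := by
      have e1 : q * (r' * j) = orderOf g := by rw [hj, hr']; ring
      have e2 : q * (k * e) = k * e * q := by ring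
      rw [e1, e2]; exact hdvd
    have h2 : r' * j ∣ k * e := (Nat.mul_dvd_mul_iff_left hq.pos).1 h1
    exact Dvd.dvd.trans (Dvd.intro_left _ rfl) h2
  obtain ⟨t, ht⟩ := hjk
  have hy_mem : x ^ e ∈ Subgroup.zpowers (g ^ j) := by
    have : (fun x1 x2 => x1 ^ x2) g k = x := hk
    simp only at this
    rw [← this, ← pow_mul, ht, pow_mul]
    exact Subgroup.pow_mem _ (Subgroup.mem_zpowers _) t
  have hstab : (⟨x ^ e, hy_mem⟩ : Subgroup.zpowers (g ^ j)) ∈ MulAction.stabilizer (Subgroup.zpowers (g ^ j)) ω := by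
    rw [MulAction.mem_stabilizer_iff, Subgroup.smul_def]
    exact hyfix
  rw [hω, Subgroup.mem_bot] at hstab
  exact hy1 (congrArg Subtype.val hstab)

end Cfsg.Agent.S3511
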