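import Cfsg.Statements.S3515
import Cfsg.Agent.Lib.H17.LocAffine

set_option autoImplicit false
open Cfsg

namespace Cfsg.Agent.S3515

open Cfsg.Agent.Lib.H17

theorem two_ne_zero_of_ne (p : ℕ) [Fact p.Prime] (hp : p ≠ 2) : (2 : ZMod p) ≠ 0 := by
  intro h
  have h' : ((2 : ℕ) : ZMod p) = 0 := by exact_mod_cast h
  rw [ZMod.natCast_eq_zero_iff] at h'
  have hpp : p.Prime := Fact.out
  have := Nat.le_of_dvd (by norm_num) h'
  have := hpp.two_le
  omega

theorem four_points : ∀ x : Fin 2 → ZMod 2,
    x = 0 ∨ x = Pi.single 0 1 ∨ x = Pi.single 1 1 ∨ x = Pi.single 0 1 + Pi.single 1 1 := by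
  decide

theorem w_ne : (Pi.single 0 1 + Pi.single 1 1 : Fin 2 → ZMod 2) ≠ 0 ∧
    (Pi.single 0 1 + Pi.single 1 1 : Fin 2 → ZMod 2) ≠ Pi.single 0 1 ∧
    (Pi.single 0 1 + Pi.single 1 1 : Fin 2 → ZMod 2) ≠ Pi.single 1 1 := by
  decide

theorem decomp {K : Type*} [Field K] (v : Fin 2 → K) :
    v = v 0 • (Pi.single 0 1 : Fin 2 → K) + v 1 • (Pi.single 1 1 : Fin 2 → K) := by
  ext i
  fin_cases i <;> simp

/-- Every primitive affine permutation group of degree p² is 3-closed. Let p be a prime and G a group of permutations of the plane V = F_p² consisting of affine maps x ↦ Ax + b, containing all translations, and acting primitively on V. Then any permutation σ of V that agrees on every triple of points with some element of G (σ preserves every G-orbit on ordered triples) already lies in G. -/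
theorem result (p : ℕ) [Fact p.Prime] (G : Subgroup (Equiv.Perm (Fin 2 → ZMod p)))
    (haff : (G : Set (Equiv.Perm (Fin 2 → ZMod p))) ⊆ {τ : Equiv.Perm (Fin 2 → ZMod p) | ∃ (A : (Fin 2 → ZMod p) ≃ₗ[ZMod p] (Fin 2 → ZMod p)) (b : Fin 2 → ZMod p), ∀ x, τ x = A x + b})
    (htrans : ∀ b : Fin 2 → ZMod p, ∃ g ∈ G, ∀ x, g x = x + b) (hprim : MulAction.IsPreprimitive G (Fin 2 → ZMod p))
    (σ : Equiv.Perm (Fin 2 → ZMod p)) (hσ : (∀ t : Fin 3 → (Fin 2 → ZMod p), ∃ g ∈ G, ∀ i, σ (t i) = g (t i))) : σ ∈ G := by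
  obtain ⟨g0, hg0G, hg0⟩ := hσ ![0, Pi.single 0 1, Pi.single 1 1]
  have h0 : σ 0 = g0 0 := by simpa using hg0 0
  have h1 : σ (Pi.single 0 1) = g0 (Pi.single 0 1) := by simpa using hg0 1
  have h2 : σ (Pi.single 1 1) = g0 (Pi.single 1 1) := by simpa using hg0 2
  suffices hσg : σ = g0 by rw [hσg]; exact hg0G
  by_cases hp2 : p = 2
  · subst hp2
    have hρ : ∀ x, g0.symm (σ x) = x → σ x = g0 x := by
      intro x hx
      rw [← hx, Equiv.apply_symm_apply, hx]
    have hfix : ∀ x, σ x = g0 x → g0.symm (σ x) = x := by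
      intro x hx
      rw [hx, Equiv.symm_apply_apply]
    have hinj : Function.Injective (fun x => g0.symm (σ x)) :=
      g0.symm.injective.comp σ.injective
    ext1 x
    rcases four_points x with rfl | rfl | rfl | rfl
    · exact h0
    · exact h1
    · exact h2
    · apply hρ
      set w : Fin 2 → ZMod 2 := Pi.single 0 1 + Pi.single 1 1 with hw
      rcases four_points (g0.symm (σ w)) with h | h | h | h
      · exfalso
        have := hinj (a₁ := w) (a₂ := 0) (by simp only; rw [h, hfix 0 h0])
        exact w_ne.1 this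
      · exfalso
        have := hinj (a₁ := w) (a₂ := Pi.single 0 1) (by simp only; rw [h, hfix _ h1])
        exact w_ne.2.1 this
      · exfalso
        have := hinj (a₁ := w) (a₂ := Pi.single 1 1) (by simp only; rw [h, hfix _ h2])
        exact w_ne.2.2 this
      · exact h
  · have h2ne := two_ne_zero_of_ne p hp2
    have hloc : ∀ x y z : Fin 2 → ZMod p,
        ∃ (A : (Fin 2 → ZMod p) →ₗ[ZMod p] (Fin 2 → ZMod p)) (b : Fin 2 → ZMod p),
          σ x = A x + b ∧ σ y = A y + b ∧ σ z = A z + b := by
      intro x y z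
      obtain ⟨g, hgG, hg⟩ := hσ ![x, y, z]
      obtain ⟨A, b, hAb⟩ := haff hgG
      refine ⟨A, b, ?_, ?_, ?_⟩
      · have := hg 0
        simp only [Matrix.cons_val_zero] at this
        rw [this, hAb]; rfl
      · have := hg 1
        simp only [Matrix.cons_val_one, Matrix.cons_val_zero] at this
        rw [this, hAb]; rfl
      · have := hg 2
        simp only [Matrix.cons_val_two, Matrix.tail_cons, Matrix.head_cons] at this
        rw [this, hAb]; rfl
    obtain ⟨A, hA⟩ := linearEquiv_of_locally_affine h2ne σ hloc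
    obtain ⟨A', b', hA'⟩ := haff hg0G
    have hb : σ 0 = b' := by rw [h0, hA', map_zero, zero_add]
    have e1 : A (Pi.single 0 1) = A' (Pi.single 0 1) := by
      have := h1
      rw [hA, hA', hb] at this
      exact add_right_cancel this
    have e2 : A (Pi.single 1 1) = A' (Pi.single 1 1) := by
      have := h2
      rw [hA, hA', hb] at this
      exact add_right_cancel this
    ext1 x
    rw [hA, hA', hb, decomp x, map_add, map_add, map_smul, map_smul, map_smul, map_smul, e1, e2]

end Cfsg.Agent.S3515
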