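import Cfsg.Statements.S3516
import Cfsg.Agent.Lib.H17.LocAffine

set_option autoImplicit false
open Cfsg

namespace Cfsg.Agent.S3516

open Cfsg.Agent.Lib.H17

theorem two_ne_zero_of_ne (p : ℕ) [Fact p.Prime] (hp : p ≠ 2) : (2 : ZMod p) ≠ 0 := by
  intro h
  have h' : ((2 : ℕ) : ZMod p) = 0 := by exact_mod_cast h
  rw [ZMod.natCast_eq_zero_iff] at h'
  have hpp : p.Prime := Fact.out
  have := Nat.le_of_dvd (by norm_num) h'
  have := hpp.two_le
  omega

theorem exists_det_fix {K V : Type*} [Field K] [AddCommGroup V] [Module K V]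
    [FiniteDimensional K V]
    (W : Submodule K V) (hW : W < ⊤) (c : K) (hc : c ≠ 0) :
    ∃ D : V ≃ₗ[K] V, LinearMap.det (D : V →ₗ[K] V) = c ∧ ∀ x ∈ W, D x = x := by
  obtain ⟨f, hf0, hWf⟩ := Submodule.exists_le_ker_of_lt_top W hW
  obtain ⟨e, he⟩ : ∃ e, f e ≠ 0 := by
    by_contra h
    push Not at h
    exact hf0 (LinearMap.ext h)
  set v := ((c - 1) / f e) • e with hv
  have hfv : f v = c - 1 := by
    rw [hv, map_smul, smul_eq_mul, div_mul_cancel₀ _ he]
  have hunit : IsUnit (1 + f v) := by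
    rw [hfv]
    have : (1 : K) + (c - 1) = c := by ring
    rw [this]
    exact isUnit_iff_ne_zero.mpr hc
  refine ⟨LinearEquiv.dilatransvection hunit, ?_, ?_⟩
  · rw [LinearEquiv.dilatransvection.coe_toLinearMap, LinearMap.transvection.det, hfv]
    ring
  · intro x hx
    rw [LinearEquiv.dilatransvection.apply]
    have : f x = 0 := hWf hx
    rw [this, zero_smul, add_zero]

/-- Let p be an odd prime, d ≥ 3, and G a group of affine permutations x ↦ Ax + b of V = F_p^d containing all translations and all maps x ↦ Ax with A of determinant 1. Then the 3-closure of G is the full affine group: a permutation σ of V agrees on every triple of points with some element of G if and only if σ is an affine map. -/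
theorem result (p : ℕ) [Fact p.Prime] (hp : p ≠ 2) (d : ℕ) (hd : 3 ≤ d) (G : Subgroup (Equiv.Perm (Fin d → ZMod p)))
    (haff : (G : Set (Equiv.Perm (Fin d → ZMod p))) ⊆ {τ : Equiv.Perm (Fin d → ZMod p) | ∃ (A : (Fin d → ZMod p) ≃ₗ[ZMod p] (Fin d → ZMod p)) (b : Fin d → ZMod p), ∀ x, τ x = A x + b})
    (htrans : ∀ b : Fin d → ZMod p, ∃ g ∈ G, ∀ x, g x = x + b)
    (hsl : ∀ A : (Fin d → ZMod p) ≃ₗ[ZMod p] (Fin d → ZMod p), LinearMap.det (A : (Fin d → ZMod p) →ₗ[ZMod p] (Fin d → ZMod p)) = 1 → ∃ g ∈ G, ∀ x, g x = A x)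
    (σ : Equiv.Perm (Fin d → ZMod p)) :
    (∀ t : Fin 3 → (Fin d → ZMod p), ∃ g ∈ G, ∀ i, σ (t i) = g (t i)) ↔ σ ∈ {τ : Equiv.Perm (Fin d → ZMod p) | ∃ (A : (Fin d → ZMod p) ≃ₗ[ZMod p] (Fin d → ZMod p)) (b : Fin d → ZMod p), ∀ x, τ x = A x + b} := by
  constructor
  · intro hσ
    have h2ne := two_ne_zero_of_ne p hp
    have hloc : ∀ x y z : Fin d → ZMod p,
        ∃ (A : (Fin d → ZMod p) →ₗ[ZMod p] (Fin d → ZMod p)) (b : Fin d → ZMod p),
          σ x = A x + b ∧ σ y = A y + b ∧ σ z = A z + b := by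
      intro x y z
      obtain ⟨g, hgG, hg⟩ := hσ ![x, y, z]
      obtain ⟨A, b, hAb⟩ := haff hgG
      refine ⟨A, b, ?_, ?_, ?_⟩
      · have := hg 0
        simp only [Matrix.cons_val_zero] at this
        rw [this, hAb]; rfl
      · have := hg 1
        simp only [Matrix.cons_val_one, Matrix.cons_val_zero] at this
        rw [this, hAb]; rfl
      · have := hg 2
        simp only [Matrix.cons_val_two, Matrix.tail_cons, Matrix.head_cons] at this
        rw [this, hAb]; rfl
    obtain ⟨A, hA⟩ := linearEquiv_of_locally_affine h2ne σ hloc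
    exact ⟨A, σ 0, hA⟩
  · rintro ⟨A, b, hAb⟩ t
    set W : Submodule (ZMod p) (Fin d → ZMod p) :=
      Submodule.span (ZMod p) (Set.range ![t 1 - t 0, t 2 - t 0]) with hWdef
    have hWlt : W < ⊤ := by
      rw [lt_top_iff_ne_top]
      intro htop
      have h1 : Module.finrank (ZMod p) W ≤ 2 := by
        have := finrank_range_le_card (R := ZMod p) ![t 1 - t 0, t 2 - t 0]
        simpa [Set.finrank] using this
      rw [htop, finrank_top, Module.finrank_fin_fun] at h1
      omega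
    have hdetA : LinearMap.det (A : (Fin d → ZMod p) →ₗ[ZMod p] (Fin d → ZMod p)) ≠ 0 :=
      (LinearEquiv.isUnit_det' A).ne_zero
    obtain ⟨D, hDdet, hDfix⟩ := exists_det_fix W hWlt _ (inv_ne_zero hdetA)
    have hBdet : LinearMap.det ((D.trans A : (Fin d → ZMod p) ≃ₗ[ZMod p] (Fin d → ZMod p)) :
        (Fin d → ZMod p) →ₗ[ZMod p] (Fin d → ZMod p)) = 1 := by
      rw [LinearEquiv.coe_trans, LinearMap.det_comp, hDdet, mul_inv_cancel₀ hdetA]
    obtain ⟨gB, hgBG, hgB⟩ := hsl (D.trans A) hBdet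
    obtain ⟨g1, hg1G, hg1⟩ := htrans (-(t 0))
    obtain ⟨g2, hg2G, hg2⟩ := htrans (A (t 0) + b)
    refine ⟨g2 * gB * g1, G.mul_mem (G.mul_mem hg2G hgBG) hg1G, fun i => ?_⟩
    rw [Equiv.Perm.mul_apply, Equiv.Perm.mul_apply, hg1, hgB, hg2, hAb, LinearEquiv.trans_apply]
    have hmem : t i + -(t 0) ∈ W := by
      fin_cases i
      · simp
      · apply Submodule.subset_span
        exact ⟨0, by simp [sub_eq_add_neg]⟩
      · apply Submodule.subset_span
        exact ⟨1, by simp [sub_eq_add_neg]⟩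
    rw [hDfix _ hmem, map_add, map_neg]
    abel

end Cfsg.Agent.S3516
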