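import Cfsg.Statements.S3517
import Cfsg.Agent.Lib.H17.LinExtend

set_option autoImplicit false
open Cfsg

namespace Cfsg.Agent.S3517

open Cfsg.Agent.Lib.H17

theorem add_self_f2 {d : ℕ} (u : Fin d → ZMod 2) : u + u = 0 := by
  funext i
  have : ∀ a : ZMod 2, a + a = 0 := by decide
  exact this (u i)

theorem li_pair_f2 {d : ℕ} (u₁ u₂ : Fin d → ZMod 2) (h1 : u₁ ≠ 0) (h2 : u₂ ≠ 0) (h12 : u₁ ≠ u₂) :
    LinearIndependent (ZMod 2) ![u₁, u₂] := by
  rw [LinearIndependent.pair_iff]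
  intro s t hst
  have h01 : ∀ a : ZMod 2, a = 0 ∨ a = 1 := by decide
  have hs : s = 0 ∨ s = 1 := h01 s
  have ht : t = 0 ∨ t = 1 := h01 t
  rcases hs with rfl | rfl <;> rcases ht with rfl | rfl
  · exact ⟨rfl, rfl⟩
  · exfalso; apply h2; simpa using hst
  · exfalso; apply h1; simpa using hst
  · exfalso; apply h12
    simp only [one_smul] at hst
    have : u₁ = u₁ + (u₂ + u₂) := by rw [add_self_f2, add_zero]
    rw [this, ← add_assoc, hst, zero_add]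

theorem move_pair {d : ℕ} (u₁ u₂ w₁ w₂ : Fin d → ZMod 2)
    (h1 : u₁ = 0 ↔ w₁ = 0) (h2 : u₂ = 0 ↔ w₂ = 0) (h12 : u₁ = u₂ ↔ w₁ = w₂) :
    ∃ A : (Fin d → ZMod 2) ≃ₗ[ZMod 2] (Fin d → ZMod 2), A u₁ = w₁ ∧ A u₂ = w₂ := by
  by_cases hu1 : u₁ = 0
  · have hw1 := h1.mp hu1
    by_cases hu2 : u₂ = 0
    · have hw2 := h2.mp hu2
      exact ⟨LinearEquiv.refl _ _, by simp [hu1, hw1], by simp [hu2, hw2]⟩
    · have hw2 : w₂ ≠ 0 := fun h => hu2 (h2.mpr h)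
      obtain ⟨A, hA⟩ := exists_linearEquiv_apply_eq (K := ZMod 2) u₂ w₂ hu2 hw2
      exact ⟨A, by simp [hu1, hw1], hA⟩
  · have hw1 : w₁ ≠ 0 := fun h => hu1 (h1.mpr h)
    by_cases hu2 : u₂ = 0
    · have hw2 := h2.mp hu2
      obtain ⟨A, hA⟩ := exists_linearEquiv_apply_eq (K := ZMod 2) u₁ w₁ hu1 hw1
      exact ⟨A, hA, by simp [hu2, hw2]⟩
    · have hw2 : w₂ ≠ 0 := fun h => hu2 (h2.mpr h)
      by_cases hu12 : u₁ = u₂
      · have hw12 := h12.mp hu12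
        obtain ⟨A, hA⟩ := exists_linearEquiv_apply_eq (K := ZMod 2) u₁ w₁ hu1 hw1
        exact ⟨A, hA, by rw [← hu12, ← hw12]; exact hA⟩
      · have hw12 : w₁ ≠ w₂ := fun h => hu12 (h12.mpr h)
        exact exists_linearEquiv_pair (K := ZMod 2) u₁ u₂ w₁ w₂
          (li_pair_f2 u₁ u₂ hu1 hu2 hu12) (li_pair_f2 w₁ w₂ hw1 hw2 hw12)

/-- For d ≥ 3, the 3-closure of the affine group AGL_d(2) acting on F_2^d is the full symmetric group: every permutation of F_2^d agrees on every ordered triple of points with some affine map (AGL_d(2) is 3-transitive). -/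
theorem result (d : ℕ) (hd : 3 ≤ d) (σ : Equiv.Perm (Fin d → ZMod 2)) (t : Fin 3 → (Fin d → ZMod 2)) :
    ∃ (A : (Fin d → ZMod 2) ≃ₗ[ZMod 2] (Fin d → ZMod 2)) (b : Fin d → ZMod 2), ∀ i, σ (t i) = A (t i) + b := by
  obtain ⟨A, hA1, hA2⟩ := move_pair (t 1 - t 0) (t 2 - t 0) (σ (t 1) - σ (t 0)) (σ (t 2) - σ (t 0))
    (by rw [sub_eq_zero, sub_eq_zero, σ.injective.eq_iff])
    (by rw [sub_eq_zero, sub_eq_zero, σ.injective.eq_iff])
    (by rw [sub_left_inj, sub_left_inj, σ.injective.eq_iff])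
  refine ⟨A, σ (t 0) - A (t 0), ?_⟩
  rw [map_sub] at hA1 hA2
  intro i
  fin_cases i
  · simp
  · simp only [Fin.mk_one]
    have : A (t 1) = σ (t 1) - σ (t 0) + A (t 0) := by rw [← hA1]; abel
    rw [this]; abel
  · have : A (t 2) = σ (t 2) - σ (t 0) + A (t 0) := by rw [← hA2]; abel
    show σ (t 2) = A (t 2) + _
    rw [this]; abel

end Cfsg.Agent.S3517
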