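import Cfsg.Statements.S3518
import Mathlib
import Cfsg.Agent.Lib.H17.PrimeDegree

set_option autoImplicit false
open Cfsg

namespace Cfsg.Agent.S3518

open Cfsg.Agent.Lib.H17.PrimeDegree

section aff
variable {p : ℕ} [hp : Fact p.Prime]

/-- the affine permutation `x ↦ a x + b` -/
def mkAff (a : (ZMod p)ˣ) (b : ZMod p) : Equiv.Perm (ZMod p) where
  toFun x := (a : ZMod p) * x + b
  invFun y := ((a⁻¹ : (ZMod p)ˣ) : ZMod p) * (y - b)
  left_inv x := by
    show ((a⁻¹ : (ZMod p)ˣ) : ZMod p) * ((a : ZMod p) * x + b - b) = x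
    rw [add_sub_cancel_right, ← mul_assoc, Units.inv_mul, one_mul]
  right_inv y := by
    show (a : ZMod p) * (((a⁻¹ : (ZMod p)ˣ) : ZMod p) * (y - b)) + b = y
    rw [← mul_assoc, Units.mul_inv, one_mul, sub_add_cancel]

@[simp] theorem mkAff_apply (a : (ZMod p)ˣ) (b x : ZMod p) : mkAff a b x = (a : ZMod p) * x + b := rfl

theorem mkAff_mem (a : (ZMod p)ˣ) (b : ZMod p) : mkAff a b ∈ Cfsg.affineGroup (ZMod p) :=
  ⟨a, b, fun _ => rfl⟩

/-- the group of multipliers of a subgroup of the affine group -/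
def multGroup (G : Subgroup (Equiv.Perm (ZMod p))) : Subgroup (ZMod p)ˣ where
  carrier := {u | ∃ g ∈ G, ∃ c : ZMod p, ∀ x, g x = (u : ZMod p) * x + c}
  one_mem' := ⟨1, G.one_mem, 0, fun x => by simp⟩
  mul_mem' := by
    rintro u v ⟨g, hg, c, hgc⟩ ⟨h, hh, d, hhd⟩
    refine ⟨g * h, G.mul_mem hg hh, (u : ZMod p) * d + c, fun x => ?_⟩
    rw [Equiv.Perm.mul_apply, hhd, hgc, Units.val_mul]
    ring
  inv_mem' := by
    rintro u ⟨g, hg, c, hgc⟩
    refine ⟨g⁻¹, G.inv_mem hg, -((u⁻¹ : (ZMod p)ˣ) : ZMod p) * c, fun x => ?_⟩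
    apply g.injective
    rw [Equiv.Perm.inv_def, Equiv.apply_symm_apply, hgc, mul_add, ← mul_assoc, Units.mul_inv, one_mul, neg_mul,
      mul_neg, ← mul_assoc, Units.mul_inv, one_mul]
    ring

end aff

/-- Closures of subgroups of the one-dimensional affine group. Let p be a prime and G a group of permutations of F_p lying in the affine group AGL₁(p) = {x ↦ ax + b, a ≠ 0} and containing all translations. (1) If G is a proper subgroup of AGL₁(p), then G is 2-closed: a permutation of F_p agreeing on every ordered pair of points with some element of G lies in G. (2) Every permutation of F_p agrees on every ordered pair with some element of AGL₁(p) (the 2-closure of AGL₁(p) is the symmetric group). (3) AGL₁(p) is 3-closed: a permutation agreeing on every ordered triple with some affine map is affine. -/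
theorem result (p : ℕ) [Fact p.Prime] (G : Subgroup (Equiv.Perm (ZMod p))) (hG : G ≤ Cfsg.affineGroup (ZMod p))
    (htrans : ∀ b : ZMod p, ∃ g ∈ G, ∀ x, g x = x + b) :
    (G ≠ Cfsg.affineGroup (ZMod p) → ∀ σ : Equiv.Perm (ZMod p), (∀ t : Fin 2 → ZMod p, ∃ g ∈ G, ∀ i, σ (t i) = g (t i)) → σ ∈ G) ∧
    (∀ σ : Equiv.Perm (ZMod p), (∀ t : Fin 2 → ZMod p, ∃ g ∈ Cfsg.affineGroup (ZMod p), ∀ i, σ (t i) = g (t i))) ∧
    (∀ σ : Equiv.Perm (ZMod p), (∀ t : Fin 3 → ZMod p, ∃ g ∈ Cfsg.affineGroup (ZMod p), ∀ i, σ (t i) = g (t i)) → σ ∈ Cfsg.affineGroup (ZMod p)) := by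
  classical
  have hpp := (Fact.out : p.Prime)
  haveI : NeZero p := ⟨hpp.ne_zero⟩
  have h01 : (0 : ZMod p) ≠ 1 := zero_ne_one
  refine ⟨?_, ?_, ?_⟩
  · -- (1)
    intro hne σ hσ
    -- translations composed with elements of G
    have hmem : ∀ (u : (ZMod p)ˣ), u ∈ multGroup G → ∀ b : ZMod p, mkAff u b ∈ G := by
      rintro u ⟨g, hg, c, hgc⟩ b
      obtain ⟨τ, hτ, hτx⟩ := htrans (b - c)
      have : mkAff u b = τ * g := by
        ext x
        rw [Equiv.Perm.mul_apply, hτx, hgc, mkAff_apply]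
        ring
      rw [this]
      exact G.mul_mem hτ hg
    have hAne : multGroup G ≠ ⊤ := by
      intro htop
      apply hne
      apply le_antisymm hG
      rintro σ ⟨a, b, hab⟩
      have : σ = mkAff a b := by
        ext x
        rw [hab, mkAff_apply]
      rw [this]
      exact hmem a (by rw [htop]; trivial) b
    -- the set B
    set B : Finset (ZMod p) := Finset.image (fun u : (ZMod p)ˣ => (u : ZMod p))
      (Finset.univ.filter (fun u : (ZMod p)ˣ => u ∈ multGroup G)) with hB
    have hBmem : ∀ a : ZMod p, a ∈ B ↔ ∃ u ∈ multGroup G, (u : ZMod p) = a := by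
      intro a
      rw [hB, Finset.mem_image]
      constructor
      · rintro ⟨u, hu, rfl⟩
        exact ⟨u, (Finset.mem_filter.mp hu).2, rfl⟩
      · rintro ⟨u, hu, rfl⟩
        exact ⟨u, Finset.mem_filter.mpr ⟨Finset.mem_univ _, hu⟩, rfl⟩
    have hB0 : (0 : ZMod p) ∉ B := by
      rw [hBmem]
      rintro ⟨u, _, hu⟩
      exact u.ne_zero hu
    have hBne : B.Nonempty := ⟨1, (hBmem 1).mpr ⟨1, (multGroup G).one_mem, rfl⟩⟩
    have hBcard : 2 * B.card ≤ p - 1 := by
      have h1 : B.card = Nat.card (multGroup G) := by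
        rw [hB, Finset.card_image_of_injective _ Units.val_injective, Nat.card_eq_fintype_card,
          Fintype.card_subtype]
      have h2 : Nat.card (multGroup G) * (multGroup G).index = p - 1 := by
        rw [Subgroup.card_mul_index, Nat.card_eq_fintype_card, ZMod.card_units]
      have h3 : (multGroup G).index ≠ 1 := fun h => hAne (Subgroup.index_eq_one.mp h)
      have h4 : (multGroup G).index ≠ 0 := Subgroup.index_ne_zero_of_finite
      have h5 : 2 ≤ (multGroup G).index := by omega
      rw [h1, ← h2, mul_comm]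
      exact Nat.mul_le_mul_left _ h5
    have hpres : ∀ x, ∀ b ∈ B, σ (x + b) - σ x ∈ B := by
      intro x b hb
      obtain ⟨u, hu, rfl⟩ := (hBmem b).mp hb
      obtain ⟨g, hg, hgt⟩ := hσ ![x, x + (u : ZMod p)]
      have h0 := hgt 0
      have h1 := hgt 1
      simp only [Matrix.cons_val_zero, Matrix.cons_val_one] at h0 h1
      obtain ⟨a, c, hac⟩ := hG hg
      rw [hBmem]
      refine ⟨a * u, (multGroup G).mul_mem ⟨g, hg, c, hac⟩ hu, ?_⟩
      rw [h0, h1, hac, hac, Units.val_mul]
      ring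
    obtain ⟨a, c, hac⟩ := affine_of_preserves B hB0 hBne hBcard σ σ.injective hpres
    have haB : a ∈ B := by
      have := hpres 0 1 ((hBmem 1).mpr ⟨1, (multGroup G).one_mem, rfl⟩)
      rw [hac, hac] at this
      have e : a * (0 + 1) + c - (a * 0 + c) = a := by ring
      rwa [e] at this
    obtain ⟨u, hu, rfl⟩ := (hBmem a).mp haB
    have : σ = mkAff u c := by
      ext x
      rw [hac, mkAff_apply]
    rw [this]
    exact hmem u hu c
  · -- (2)
    intro σ t
    by_cases h : t 0 = t 1
    · refine ⟨mkAff 1 (σ (t 0) - t 0), mkAff_mem _ _, ?_⟩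
      rw [Fin.forall_fin_two]
      constructor
      · rw [mkAff_apply]; simp
      · rw [mkAff_apply, ← h]; simp
    · have hne : σ (t 1) - σ (t 0) ≠ 0 := by
        rw [sub_ne_zero]
        intro h'
        exact h (σ.injective h').symm
      have hne2 : t 1 - t 0 ≠ 0 := by
        rw [sub_ne_zero]
        exact fun h' => h h'.symm
      set a : ZMod p := (σ (t 1) - σ (t 0)) / (t 1 - t 0) with ha
      have ha0 : a ≠ 0 := div_ne_zero hne hne2
      refine ⟨mkAff (Units.mk0 a ha0) (σ (t 0) - a * t 0), mkAff_mem _ _, ?_⟩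
      rw [Fin.forall_fin_two]
      constructor
      · rw [mkAff_apply, Units.val_mk0]; ring
      · rw [mkAff_apply, Units.val_mk0]
        have : a * (t 1 - t 0) = σ (t 1) - σ (t 0) := by
          rw [ha, div_mul_cancel₀ _ hne2]
        have e : a * t 1 + (σ (t 0) - a * t 0) = a * (t 1 - t 0) + σ (t 0) := by ring
        rw [e, this]
        ring
  · -- (3)
    intro σ hσ
    have hform : ∀ x, σ x = (σ 1 - σ 0) * x + σ 0 := by
      intro x
      obtain ⟨g, ⟨a, b, hab⟩, hg⟩ := hσ ![0, 1, x]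
      have h0 := hg 0
      have h1 := hg 1
      have h2 := hg 2
      simp only [Matrix.cons_val_zero, Matrix.cons_val_one] at h0 h1
      have h2' : σ x = g x := h2
      rw [hab] at h0 h1 h2'
      rw [h2', h0, h1]
      ring
    have hne : σ 1 - σ 0 ≠ 0 := by
      rw [sub_ne_zero]
      intro h
      exact h01 (σ.injective h).symm
    exact ⟨Units.mk0 _ hne, σ 0, fun x => by rw [Units.val_mk0]; exact hform x⟩

end Cfsg.Agent.S3518
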