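import Cfsg.Statements.S3520
import Cfsg.Agent.Lib.H4.Der.Sharp

set_option autoImplicit false
open Cfsg

namespace Cfsg.Agent.S3520

open Cfsg.Agent.Lib.H4.Der in
/-- Let a finite group G act faithfully and primitively on a finite set Ω with at least two points, suppose G is not almost simple (no non-abelian simple normal subgroup with trivial centralizer), and suppose the derangements of G form exactly two conjugacy classes. Then either Ω has 3 points and G has order 3; or G has a non-trivial abelian normal subgroup N acting regularly, every non-identity element of G fixes at most one point (so, when n > 3, G is a Frobenius group with kernel N), the number n of points is odd and a point stabilizer has order (n − 1)/2; or G is 2-transitive with a non-trivial abelian regular normal subgroup and some non-identity element fixes at least two points (a non-Frobenius 2-transitive affine group). -/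
theorem result {G : Type*} [Group G] [Finite G] {Ω : Type*} [Fintype Ω] [MulAction G Ω] [FaithfulSMul G Ω] (hΩ : 2 ≤ Fintype.card Ω) (hprim : MulAction.IsPreprimitive G Ω) (hnas : ¬ ∃ T : Subgroup G, T.Normal ∧ IsSimpleGroup T ∧ ¬ IsMulCommutative T ∧ Subgroup.centralizer (T : Set G) = ⊥)
    (hκ : Nat.card {c : ConjClasses G // ∃ g : G, ConjClasses.mk g = c ∧ ∀ ω : Ω, g • ω ≠ ω} = 2) (α : Ω) :
    (Fintype.card Ω = 3 ∧ Nat.card G = 3) ∨
    ((∃ N : Subgroup G, N.Normal ∧ N ≠ ⊥ ∧ IsMulCommutative N ∧ ∀ ω : Ω, MulAction.stabilizer N ω = ⊥) ∧ (∀ g : G, g ≠ 1 → Nat.card (MulAction.fixedBy Ω g) ≤ 1) ∧ ¬ 2 ∣ Fintype.card Ω ∧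
        2 * Nat.card (MulAction.stabilizer G α) = Fintype.card Ω - 1) ∨
    ((∃ N : Subgroup G, N.Normal ∧ N ≠ ⊥ ∧ IsMulCommutative N ∧ ∀ ω : Ω, MulAction.stabilizer N ω = ⊥) ∧ MulAction.IsMultiplyPretransitive G Ω 2 ∧ ∃ g : G, g ≠ 1 ∧ 2 ≤ Nat.card (MulAction.fixedBy Ω g)) := by
  classical
  have := hprim
  have : Finite Ω := Finite.of_fintype Ω
  have h2 : 2 ≤ Nat.card Ω := by rw [Nat.card_eq_fintype_card]; exact hΩ
  have : Nonempty Ω := ⟨α⟩
  have hcardΩ : Nat.card Ω = Fintype.card Ω := Nat.card_eq_fintype_card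
  have hnt : Nontrivial G := by
    obtain ⟨d, hd⟩ := exists_der_of_pretransitive (H := G) (X := Ω) h2
    have hd' : IsDer Ω d := hd
    exact ⟨⟨d, 1, hd'.ne_one⟩⟩
  rcases aff_or_three (G := G) (Ω := Ω) hnas with ⟨M, hb, hM⟩ | h3
  · by_cases hD : ∀ d : G, IsDer Ω d → d ∈ M
    · right; left
      obtain ⟨h1, h2', h3⟩ := hM.caseI α hκ hD
      rw [hcardΩ] at h2' h3
      exact ⟨hM.exists_N hb, h1, h2', h3⟩
    · right; right
      push Not at hD
      obtain ⟨x, hx, hxM⟩ := hD
      obtain ⟨h1, h2'⟩ := hM.caseII α hκ.le hx hxM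
      exact ⟨hM.exists_N hb, h1, h2'⟩
  · have h3' : 3 ≤ Nat.card {c : ConjClasses G // ∃ g : G, ConjClasses.mk g = c ∧
        ∀ ω : Ω, g • ω ≠ ω} := h3
    omega

end Cfsg.Agent.S3520
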