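import Cfsg.Statements.S3547
import Cfsg.Agent.Lib.H18.Derangements

set_option autoImplicit false
open Cfsg

namespace Cfsg.Agent.S3547

open MulAction Cfsg.Agent.Lib.H18

theorem card_fixedBy_prod {G Ω : Type*} [Group G] [MulAction G Ω] (g : G) :
    Nat.card (fixedBy (Ω × Ω) g) = Nat.card (fixedBy Ω g) ^ 2 := by
  rw [sq, ← Nat.card_prod]
  apply Nat.card_congr
  refine
    { toFun := fun x => (⟨x.1.1, by
          have := x.2
          rw [mem_fixedBy] at this ⊢
          exact congrArg Prod.fst this⟩, ⟨x.1.2, by
          have := x.2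
          rw [mem_fixedBy] at this ⊢
          exact congrArg Prod.snd this⟩)
      invFun := fun y => ⟨(y.1.1, y.2.1), by
          rw [mem_fixedBy]
          have h1 := y.1.2
          have h2 := y.2.2
          rw [mem_fixedBy] at h1 h2
          ext <;> simp [h1, h2]⟩
      left_inv := fun x => by ext <;> rfl
      right_inv := fun y => by ext <;> rfl }

theorem rank_count {G Ω : Type*} [Group G] [Finite G] [MulAction G Ω] [Finite Ω]
    (htrans : IsPretransitive G Ω) :
    Nat.card (orbitRel.Quotient (derSub G Ω) (Ω × Ω)) * Nat.card (derSub G Ω)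
      + Nat.card G =
    Nat.card (orbitRel.Quotient G (Ω × Ω)) * Nat.card G + Nat.card (derSub G Ω) := by
  classical
  have := Fintype.ofFinite G
  set D := derSub G Ω with hD
  let f : G → ℕ := fun g => Nat.card (fixedBy Ω g) ^ 2
  have hG : ∑ g : G, f g = Nat.card (orbitRel.Quotient G (Ω × Ω)) * Nat.card G := by
    rw [← burnside_natcard G (Ω × Ω)]
    apply Finset.sum_congr rfl
    intro g _
    exact (card_fixedBy_prod g).symm
  have hDsum : ∑ d : D, f (d : G) = Nat.card (orbitRel.Quotient D (Ω × Ω)) * Nat.card D := by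
    rw [← burnside_natcard D (Ω × Ω)]
    apply Finset.sum_congr rfl
    intro g _
    exact (card_fixedBy_prod (Ω := Ω) g).symm
  have hsplit : ∑ g ∈ Finset.univ.filter (fun g : G => g ∈ D), f g
      + ∑ g ∈ Finset.univ.filter (fun g : G => ¬ g ∈ D), f g = ∑ g : G, f g :=
    Finset.sum_filter_add_sum_filter_not Finset.univ (fun g : G => g ∈ D) f
  have hin : ∑ g ∈ Finset.univ.filter (fun g : G => g ∈ D), f g = ∑ d : D, f (d : G) := by
    apply Finset.sum_subtype
    intro x; simp
  have hcardsplit : (Finset.univ.filter (fun g : G => g ∈ D)).card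
      + (Finset.univ.filter (fun g : G => ¬ g ∈ D)).card = Nat.card G := by
    rw [Finset.card_filter_add_card_filter_not, Finset.card_univ, Nat.card_eq_fintype_card]
  have hcardD : (Finset.univ.filter (fun g : G => g ∈ D)).card = Nat.card D := by
    rw [Nat.card_eq_fintype_card, Fintype.card_subtype]
  have hout : ∑ g ∈ Finset.univ.filter (fun g : G => ¬ g ∈ D), f g
      = (Finset.univ.filter (fun g : G => ¬ g ∈ D)).card := by
    rw [Finset.card_eq_sum_ones]
    apply Finset.sum_congr rfl
    intro g hg
    rw [Finset.mem_filter] at hg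
    simp only [f]
    rw [card_fixedBy_eq_one_of_not_mem htrans g hg.2]
    norm_num
  rw [← hG, ← hsplit, hin, hDsum, hout]
  omega

/-- Let G act faithfully and transitively on a finite set Ω, let D be the subgroup generated by the derangements, and let r_G and r_D be the numbers of orbits of G and of D on ordered pairs of points (the permutation ranks). Then r_D − 1 = (r_G − 1)·[G : D]. -/
theorem result {G Ω : Type*} [Group G] [Finite G] [MulAction G Ω] [FaithfulSMul G Ω] [Finite Ω]
    (htrans : MulAction.IsPretransitive G Ω) :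
    Nat.card (MulAction.orbitRel.Quotient ↥(Subgroup.closure {g : G | ∀ ω : Ω, g • ω ≠ ω}) (Ω × Ω)) - 1 =
      (Nat.card (MulAction.orbitRel.Quotient G (Ω × Ω)) - 1) * (Subgroup.closure {g : G | ∀ ω : Ω, g • ω ≠ ω}).index := by
  change Nat.card (orbitRel.Quotient (derSub G Ω) (Ω × Ω)) - 1 =
    (Nat.card (orbitRel.Quotient G (Ω × Ω)) - 1) * (derSub G Ω).index
  rcases isEmpty_or_nonempty Ω with h | h
  · have h1 : IsEmpty (orbitRel.Quotient (derSub G Ω) (Ω × Ω)) := by
      constructor
      intro q
      induction q using Quotient.inductionOn' with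
      | h x => exact IsEmpty.false x.1
    have h2 : IsEmpty (orbitRel.Quotient G (Ω × Ω)) := by
      constructor
      intro q
      induction q using Quotient.inductionOn' with
      | h x => exact IsEmpty.false x.1
    simp [Nat.card_of_isEmpty]
  · have hc := rank_count (G := G) (Ω := Ω) htrans
    set D := derSub G Ω with hD
    set rD := Nat.card (orbitRel.Quotient D (Ω × Ω)) with hrD
    set rG := Nat.card (orbitRel.Quotient G (Ω × Ω)) with hrG
    have hidx : Nat.card D * D.index = Nat.card G := Subgroup.card_mul_index D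
    have hDpos : 0 < Nat.card D := Nat.card_pos
    have hrG1 : 1 ≤ rG := by
      have : Nonempty (orbitRel.Quotient G (Ω × Ω)) :=
        ⟨Quotient.mk'' (Classical.arbitrary Ω, Classical.arbitrary Ω)⟩
      exact Nat.one_le_iff_ne_zero.mpr (Nat.card_ne_zero.mpr ⟨inferInstance, inferInstance⟩)
    have hrD1 : 1 ≤ rD := by
      have : Nonempty (orbitRel.Quotient D (Ω × Ω)) :=
        ⟨Quotient.mk'' (Classical.arbitrary Ω, Classical.arbitrary Ω)⟩
      exact Nat.one_le_iff_ne_zero.mpr (Nat.card_ne_zero.mpr ⟨inferInstance, inferInstance⟩)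
    obtain ⟨a, ha⟩ : ∃ a, rD = a + 1 := ⟨rD - 1, by omega⟩
    obtain ⟨b, hb⟩ : ∃ b, rG = b + 1 := ⟨rG - 1, by omega⟩
    rw [ha, hb]
    simp only [Nat.add_sub_cancel]
    rw [ha, hb, ← hidx] at hc
    -- (a+1) * d + d * i = (b+1) * (d * i) + d
    have : Nat.card D * a = Nat.card D * (b * D.index) := by
      nlinarith [hc]
    exact Nat.eq_of_mul_eq_mul_left hDpos this

end Cfsg.Agent.S3547
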