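import Cfsg.Statements.S3548
import Cfsg.Agent.Lib.H18.Derangements

set_option autoImplicit false
open Cfsg

namespace Cfsg.Agent.S3548

open MulAction Cfsg.Agent.Lib.H18

/-- If `d` divides the index of every point stabilizer then `d` divides the cardinality. -/
theorem dvd_card_of_dvd_index_stabilizer {H Y : Type*} [Group H] [Finite H] [MulAction H Y]
    [Finite Y] (d : ℕ) (h : ∀ y : Y, d ∣ (stabilizer H y).index) : d ∣ Nat.card Y := by
  classical
  have := Fintype.ofFinite (orbitRel.Quotient H Y)
  rw [Nat.card_congr (selfEquivSigmaOrbitsQuotientStabilizer H Y), Nat.card_sigma]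
  apply Finset.dvd_sum
  intro ω _
  rw [← Subgroup.index_eq_card]
  exact h _

section
variable {G Ω : Type*} [Group G] [Finite G] [MulAction G Ω] [Finite Ω]

theorem sup_eq_top (htrans : IsPretransitive G Ω) (a : Ω) :
    stabilizer G a ⊔ derSub G Ω = ⊤ := by
  rw [eq_top_iff]
  intro g _
  have hD := derSub_pretransitive htrans
  obtain ⟨d, hd⟩ := hD.exists_smul_eq a (g • a)
  have h1 : (d : G)⁻¹ * g ∈ stabilizer G a := by
    rw [mem_stabilizer_iff, mul_smul, ← hd]
    exact inv_smul_smul (d : G) a
  have : g = (d : G) * ((d : G)⁻¹ * g) := by group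
  rw [this]
  exact Subgroup.mul_mem _ (Subgroup.mem_sup_right d.2) (Subgroup.mem_sup_left h1)

theorem relIndex_eq_index (htrans : IsPretransitive G Ω) (a : Ω) :
    (derSub G Ω).relIndex (stabilizer G a) = (derSub G Ω).index := by
  have := derSub_normal G Ω
  rw [← Subgroup.relIndex_sup_right, sup_eq_top htrans a, Subgroup.relIndex_top_right]

theorem stabilizer_le (htrans : IsPretransitive G Ω) (a : Ω)
    (y : SubMulAction.ofStabilizer G a) :
    stabilizer (stabilizer G a) y ≤ (derSub G Ω).subgroupOf (stabilizer G a) := by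
  intro h hh
  rw [Subgroup.mem_subgroupOf]
  by_contra hnot
  have h1 := card_fixedBy_eq_one_of_not_mem htrans (h : G) hnot
  have hs : Subsingleton (fixedBy Ω (h : G)) := (Nat.card_eq_one_iff_unique.mp h1).1
  have ha : a ∈ fixedBy Ω (h : G) := h.2
  have hy : (y : Ω) ∈ fixedBy Ω (h : G) := by
    rw [mem_stabilizer_iff] at hh
    have := congrArg (fun z : SubMulAction.ofStabilizer G a => (z : Ω)) hh
    exact this
  have : (⟨a, ha⟩ : fixedBy Ω (h : G)) = ⟨(y : Ω), hy⟩ := Subsingleton.elim _ _
  have hya : (y : Ω) = a := (congrArg Subtype.val this).symm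
  exact (SubMulAction.neq_of_mem_ofStabilizer G a) hya

theorem index_dvd_index_stabilizer (htrans : IsPretransitive G Ω) (a : Ω)
    (y : SubMulAction.ofStabilizer G a) :
    (derSub G Ω).index ∣ (stabilizer (stabilizer G a) y).index := by
  rw [← relIndex_eq_index htrans a]
  exact Subgroup.index_dvd_of_le (stabilizer_le htrans a y)

theorem index_dvd (htrans : IsPretransitive G Ω) (a : Ω) :
    (derSub G Ω).index ∣ Nat.card Ω - 1 := by
  rw [← SubMulAction.nat_card_ofStabilizer_eq G a]
  exact dvd_card_of_dvd_index_stabilizer _ (index_dvd_index_stabilizer htrans a)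

end


section
variable {G Ω : Type*} [Group G] [Finite G] [MulAction G Ω] [Finite Ω]

theorem stabilizer_eq (htrans : IsPretransitive G Ω) (a : Ω)
    (hidx : (derSub G Ω).index = Nat.card Ω - 1) (y : SubMulAction.ofStabilizer G a) :
    stabilizer (stabilizer G a) y = (derSub G Ω).subgroupOf (stabilizer G a) ∧
      orbit (stabilizer G a) y = Set.univ := by
  have hle := stabilizer_le htrans a y
  have hdvd := index_dvd_index_stabilizer htrans a y
  have hne : (stabilizer (stabilizer G a) y).index ≠ 0 := Subgroup.index_ne_zero_of_finite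
  have hcard : (stabilizer (stabilizer G a) y).index = Nat.card (orbit (stabilizer G a) y) := by
    rw [index_stabilizer, Nat.card_coe_set_eq]
  have hleY : Nat.card (orbit (stabilizer G a) y) ≤ Nat.card (SubMulAction.ofStabilizer G a) :=
    Finite.card_subtype_le _
  have hY : Nat.card (SubMulAction.ofStabilizer G a) = (derSub G Ω).index := by
    rw [SubMulAction.nat_card_ofStabilizer_eq G a, hidx]
  have h1 : (derSub G Ω).index ≤ (stabilizer (stabilizer G a) y).index :=
    Nat.le_of_dvd (Nat.pos_of_ne_zero hne) hdvd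
  have heq : (stabilizer (stabilizer G a) y).index = (derSub G Ω).index := by omega
  constructor
  · apply le_antisymm hle
    have h2 := Subgroup.relIndex_mul_index hle
    have h3 : ((derSub G Ω).subgroupOf (stabilizer G a)).index = (derSub G Ω).index :=
      relIndex_eq_index htrans a
    rw [h3, heq] at h2
    have h4 : (stabilizer (stabilizer G a) y).relIndex
        ((derSub G Ω).subgroupOf (stabilizer G a)) = 1 := by
      have hpos : 0 < (derSub G Ω).index := by
        rw [← heq]; exact Nat.pos_of_ne_zero hne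
      have : (stabilizer (stabilizer G a) y).relIndex
        ((derSub G Ω).subgroupOf (stabilizer G a)) * (derSub G Ω).index = 1 * (derSub G Ω).index := by
        rw [h2, one_mul]
      exact Nat.eq_of_mul_eq_mul_right hpos this
    exact Subgroup.relIndex_eq_one.mp h4
  · rw [Set.eq_univ_iff_ncard, ← Nat.card_coe_set_eq]
    omega

theorem inf_eq_bot [FaithfulSMul G Ω] (htrans : IsPretransitive G Ω) (a : Ω)
    (hidx : (derSub G Ω).index = Nat.card Ω - 1) :
    derSub G Ω ⊓ stabilizer G a = ⊥ := by
  rw [Subgroup.eq_bot_iff_forall]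
  intro g hg
  obtain ⟨hgD, hga⟩ := Subgroup.mem_inf.mp hg
  apply FaithfulSMul.eq_of_smul_eq_smul (α := Ω)
  intro ω
  rw [one_smul]
  by_cases hω : ω = a
  · rw [hω]; exact hga
  · let y : SubMulAction.ofStabilizer G a := ⟨ω, by
      rw [SubMulAction.mem_ofStabilizer_iff]; exact hω⟩
    have h1 : (⟨g, hga⟩ : stabilizer G a) ∈ (derSub G Ω).subgroupOf (stabilizer G a) := by
      rw [Subgroup.mem_subgroupOf]; exact hgD
    rw [← (stabilizer_eq htrans a hidx y).1, mem_stabilizer_iff] at h1
    have := congrArg (fun z : SubMulAction.ofStabilizer G a => (z : Ω)) h1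
    exact this

theorem conj_trans [FaithfulSMul G Ω] (htrans : IsPretransitive G Ω) (a : Ω)
    (hidx : (derSub G Ω).index = Nat.card Ω - 1) (d d' : G) (hd : d ∈ derSub G Ω)
    (hd' : d' ∈ derSub G Ω) (hd1 : d ≠ 1) (hd'1 : d' ≠ 1) :
    ∃ h : G, h * d * h⁻¹ = d' := by
  have hbot := inf_eq_bot htrans a hidx
  have hmove : ∀ x : G, x ∈ derSub G Ω → x ≠ 1 → x • a ≠ a := by
    intro x hx hx1 hxa
    apply hx1
    have : x ∈ derSub G Ω ⊓ stabilizer G a := Subgroup.mem_inf.mpr ⟨hx, hxa⟩
    rw [hbot] at this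
    exact Subgroup.mem_bot.mp this
  let y : SubMulAction.ofStabilizer G a := ⟨d • a, by
    rw [SubMulAction.mem_ofStabilizer_iff]; exact hmove d hd hd1⟩
  let y' : SubMulAction.ofStabilizer G a := ⟨d' • a, by
    rw [SubMulAction.mem_ofStabilizer_iff]; exact hmove d' hd' hd'1⟩
  have hy' : y' ∈ orbit (stabilizer G a) y := by
    rw [(stabilizer_eq htrans a hidx y).2]; exact Set.mem_univ _
  obtain ⟨h, hh⟩ := hy'
  have hh' : (h : G) • d • a = d' • a := by
    have := congrArg (fun z : SubMulAction.ofStabilizer G a => (z : Ω)) hh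
    exact this
  refine ⟨(h : G), ?_⟩
  have hnorm := derSub_normal G Ω
  have hmem : d'⁻¹ * ((h : G) * d * (h : G)⁻¹) ∈ derSub G Ω ⊓ stabilizer G a := by
    apply Subgroup.mem_inf.mpr
    constructor
    · exact Subgroup.mul_mem _ (Subgroup.inv_mem _ hd') (hnorm.conj_mem d hd (h : G))
    · rw [mem_stabilizer_iff]
      have hha : (h : G)⁻¹ • a = a := by
        have : (h : G) • a = a := h.2
        rw [inv_smul_eq_iff, this]
      rw [mul_smul, mul_smul, mul_smul, hha, hh', inv_smul_smul]
  rw [hbot] at hmem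
  have := Subgroup.mem_bot.mp hmem
  calc (h : G) * d * (h : G)⁻¹ = d' * (d'⁻¹ * ((h : G) * d * (h : G)⁻¹)) := by group
    _ = d' := by rw [this, mul_one]

theorem card_derSub [FaithfulSMul G Ω] (htrans : IsPretransitive G Ω) (a : Ω)
    (hidx : (derSub G Ω).index = Nat.card Ω - 1) :
    Nat.card (derSub G Ω) = Nat.card Ω := by
  have hD := derSub_pretransitive htrans
  have h1 : (stabilizer (derSub G Ω) a).index = Nat.card Ω :=
    index_stabilizer_of_transitive (derSub G Ω) a
  have h2 : stabilizer (derSub G Ω) a = ⊥ := by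
    rw [Subgroup.eq_bot_iff_forall]
    intro x hx
    have : (x : G) ∈ derSub G Ω ⊓ stabilizer G a := Subgroup.mem_inf.mpr ⟨x.2, hx⟩
    rw [inf_eq_bot htrans a hidx] at this
    exact Subtype.ext (Subgroup.mem_bot.mp this)
  rw [h2, Subgroup.index_bot] at h1
  exact h1

end

/-- Let G act faithfully and transitively on a finite set with n ≥ 2 points and let D be the subgroup generated by the derangements. Then the index of D in G divides n − 1, and if it equals n − 1 then n is a prime power. -/
theorem result {G Ω : Type*} [Group G] [Finite G] [MulAction G Ω] [FaithfulSMul G Ω] [Finite Ω]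
    (htrans : MulAction.IsPretransitive G Ω) (hΩ : 2 ≤ Nat.card Ω) :
    (Subgroup.closure {g : G | ∀ ω : Ω, g • ω ≠ ω}).index ∣ Nat.card Ω - 1 ∧
    ((Subgroup.closure {g : G | ∀ ω : Ω, g • ω ≠ ω}).index = Nat.card Ω - 1 → IsPrimePow (Nat.card Ω)) := by
  change (derSub G Ω).index ∣ Nat.card Ω - 1 ∧
    ((derSub G Ω).index = Nat.card Ω - 1 → IsPrimePow (Nat.card Ω))
  have hne : Nonempty Ω := by
    have : Nat.card Ω ≠ 0 := by omega
    exact (Nat.card_ne_zero.mp this).1
  obtain ⟨a⟩ := hne
  refine ⟨index_dvd htrans a, ?_⟩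
  intro hidx
  have hcardD := card_derSub htrans a hidx
  have hcard1 : Nat.card (derSub G Ω) ≠ 1 := by omega
  obtain ⟨p, hp, hpdvd⟩ := Nat.exists_prime_and_dvd hcard1
  have : Fact p.Prime := ⟨hp⟩
  obtain ⟨x, hx⟩ := exists_prime_orderOf_dvd_card' p hpdvd
  have hx1 : (x : G) ≠ 1 := by
    intro h
    have : orderOf (x : G) = p := by rw [Subgroup.orderOf_coe, hx]
    rw [h, orderOf_one] at this
    exact hp.one_lt.ne this
  have hpg : IsPGroup p (derSub G Ω) := by
    intro d
    by_cases hd1 : (d : G) = 1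
    · refine ⟨0, ?_⟩
      apply Subtype.ext
      simpa using hd1
    · obtain ⟨h, hh⟩ := conj_trans htrans a hidx (x : G) (d : G) x.2 d.2 hx1 hd1
      refine ⟨1, ?_⟩
      apply Subtype.ext
      have hxp : (x : G) ^ p = 1 := by
        have : orderOf (x : G) = p := by rw [Subgroup.orderOf_coe, hx]
        rw [← this]; exact pow_orderOf_eq_one _
      simp only [pow_one, Subgroup.coe_pow, Subgroup.coe_one]
      rw [← hh, conj_pow, hxp]
      group
  obtain ⟨k, hk⟩ := (IsPGroup.iff_card).mp hpg
  rw [hcardD] at hk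
  rw [isPrimePow_nat_iff]
  refine ⟨p, k, hp, ?_, hk.symm⟩
  rcases Nat.eq_zero_or_pos k with h0 | h0
  · rw [h0, pow_zero] at hk; omega
  · exact h0

end Cfsg.Agent.S3548
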