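import Cfsg.Statements.S3549
import Cfsg.Agent.S3548

set_option autoImplicit false
open Cfsg

namespace Cfsg.Agent.S3549

open MulAction Cfsg.Agent.Lib.H18
open scoped Pointwise

section
variable {G Ω : Type*} [Group G] [Finite G] [MulAction G Ω] [Finite Ω]

/-- The index of the derangement subgroup divides the size of any subset not containing `a`
which is invariant under the stabilizer of `a`. -/
theorem index_dvd_ncard_of_invariant (htrans : IsPretransitive G Ω) (a : Ω) (S : Set Ω)
    (haS : a ∉ S) (hinv : ∀ g ∈ stabilizer G a, ∀ x ∈ S, g • x ∈ S) :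
    (derSub G Ω).index ∣ S.ncard := by
  let Y : SubMulAction (stabilizer G a) Ω :=
    { carrier := S
      smul_mem' := fun g x hx => hinv (g : G) g.2 x hx }
  have hcard : Nat.card Y = S.ncard := Nat.card_coe_set_eq S
  rw [← hcard]
  refine Cfsg.Agent.S3548.dvd_card_of_dvd_index_stabilizer (H := stabilizer G a) (Y := Y) _
    (fun y => ?_)
  rw [← Cfsg.Agent.S3548.relIndex_eq_index htrans a]
  apply Subgroup.index_dvd_of_le
  intro h hh
  rw [Subgroup.mem_subgroupOf]
  by_contra hnot
  have h1 := card_fixedBy_eq_one_of_not_mem htrans (h : G) hnot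
  have hs : Subsingleton (fixedBy Ω (h : G)) := (Nat.card_eq_one_iff_unique.mp h1).1
  have ha : a ∈ fixedBy Ω (h : G) := h.2
  have hy : (y : Ω) ∈ fixedBy Ω (h : G) := by
    rw [mem_stabilizer_iff] at hh
    have := congrArg (fun z : Y => (z : Ω)) hh
    exact this
  have : (⟨a, ha⟩ : fixedBy Ω (h : G)) = ⟨(y : Ω), hy⟩ := Subsingleton.elim _ _
  have hya : (y : Ω) = a := (congrArg Subtype.val this).symm
  have hyS : (y : Ω) ∈ S := y.2
  rw [hya] at hyS
  exact haS hyS

theorem key (htrans : IsPretransitive G Ω) (B : Set Ω) (hB : IsBlock G B) (a : Ω) (ha : a ∈ B) :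
    (derSub G Ω).index ∣ B.ncard - 1 ∧ (derSub G Ω).index ∣ Nat.card Ω - B.ncard := by
  have hstab : ∀ g ∈ stabilizer G a, g • B = B := by
    intro g hg
    apply (isBlock_iff_smul_eq_of_mem.mp hB) ha
    rw [mem_stabilizer_iff] at hg
    rw [hg]; exact ha
  constructor
  · have h1 : (B \ {a}).ncard = B.ncard - 1 := Set.ncard_sdiff_singleton_of_mem ha
    rw [← h1]
    apply index_dvd_ncard_of_invariant htrans a
    · simp
    · intro g hg x hx
      refine ⟨?_, ?_⟩
      · rw [← hstab g hg]; exact Set.smul_mem_smul_set hx.1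
      · intro h
        rw [Set.mem_singleton_iff] at h
        apply hx.2
        rw [Set.mem_singleton_iff]
        have hga : g • a = a := hg
        rw [← hga] at h
        exact (MulAction.injective g) h
  · have h1 : (Bᶜ).ncard = Nat.card Ω - B.ncard := Set.ncard_compl B
    rw [← h1]
    apply index_dvd_ncard_of_invariant htrans a
    · simpa using ha
    · intro g hg x hx hgx
      apply hx
      have : g⁻¹ • B = B := by
        calc g⁻¹ • B = g⁻¹ • (g • B) := by rw [hstab g hg]
          _ = B := inv_smul_smul g B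
      rw [← this]
      have h2 : x = g⁻¹ • (g • x) := by simp
      rw [h2]
      exact Set.smul_mem_smul_set hgx

end

theorem arith (i k n : ℕ) (hk2 : 2 ≤ k) (hkn : k < n) (hdvd : k ∣ n) (h1 : i ∣ k - 1)
    (h2 : i ∣ n - k) : (i + 1) ^ 2 ≤ n := by
  obtain ⟨m, rfl⟩ := hdvd
  have hm2 : 2 ≤ m := by
    by_contra h
    have : m = 0 ∨ m = 1 := by omega
    rcases this with rfl | rfl <;> omega
  have hcop : Nat.Coprime i k := by
    have h3 : Nat.Coprime (k - 1) k := by
      have : k = (k - 1) + 1 := by omega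
      rw [this]; simp
    exact Nat.Coprime.coprime_dvd_left h1 h3
  have h4 : k * m - k = k * (m - 1) := by
    rw [Nat.mul_sub, mul_one]
  rw [h4] at h2
  have h5 : i ∣ m - 1 := hcop.dvd_of_dvd_mul_left h2
  have hi1 : i ≤ k - 1 := Nat.le_of_dvd (by omega) h1
  have hi2 : i ≤ m - 1 := Nat.le_of_dvd (by omega) h5
  have : (i + 1) * (i + 1) ≤ k * m := Nat.mul_le_mul (by omega) (by omega)
  rw [sq]; exact this

/-- Let G act faithfully, transitively but imprimitively on a finite set with n points, and let D be the subgroup generated by the derangements. Then the index of D in G is at most √n − 1. -/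
theorem result {G Ω : Type*} [Group G] [Finite G] [MulAction G Ω] [FaithfulSMul G Ω] [Finite Ω]
    (htrans : MulAction.IsPretransitive G Ω) (himp : ¬ MulAction.IsPreprimitive G Ω) :
    ((Subgroup.closure {g : G | ∀ ω : Ω, g • ω ≠ ω}).index : ℝ) ≤ Real.sqrt (Nat.card Ω) - 1 := by
  change ((derSub G Ω).index : ℝ) ≤ Real.sqrt (Nat.card Ω) - 1
  -- a nontrivial block
  have hex : ∃ B : Set Ω, IsBlock G B ∧ ¬ IsTrivialBlock B := by
    by_contra h
    push Not at h
    exact himp { toIsPretransitive := htrans, isTrivialBlock_of_isBlock := fun {B} hB => h B hB }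
  obtain ⟨B, hB, hnt⟩ := hex
  unfold IsTrivialBlock at hnt
  push Not at hnt
  obtain ⟨hns, hnu⟩ := hnt
  have hBnt : B.Nontrivial := hns
  obtain ⟨a, ha⟩ := hBnt.nonempty
  obtain ⟨h1, h2⟩ := key htrans B hB a ha
  have hk2 : 2 ≤ B.ncard := by
    have := (Set.one_lt_ncard_iff_nontrivial (s := B)).mpr hBnt
    omega
  have hdvd : B.ncard ∣ Nat.card Ω := hB.ncard_dvd_card hBnt.nonempty
  have hkn : B.ncard < Nat.card Ω := by
    have hle : B.ncard ≤ Nat.card Ω := by
      rw [← Set.ncard_univ]; exact Set.ncard_le_ncard (Set.subset_univ B)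
    rcases Nat.lt_or_ge B.ncard (Nat.card Ω) with h | h
    · exact h
    · exfalso
      apply hnu
      rw [Set.eq_univ_iff_ncard]; omega
  have hmain := arith _ _ _ hk2 hkn hdvd h1 h2
  have hreal : (((derSub G Ω).index : ℝ) + 1) ^ 2 ≤ (Nat.card Ω : ℝ) := by
    exact_mod_cast hmain
  have := Real.le_sqrt_of_sq_le hreal
  linarith

end Cfsg.Agent.S3549
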