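import Cfsg.Statements.S3554
import Mathlib

set_option autoImplicit false
open Cfsg

namespace Cfsg.Agent.S3554

/-- Let G act faithfully and transitively on a finite set and suppose G has a non-trivial cyclic normal subgroup. Then some element of G of prime order fixes no point. -/
theorem result {G Ω : Type*} [Group G] [Finite G] [MulAction G Ω] [FaithfulSMul G Ω] [Finite Ω]
    (htrans : MulAction.IsPretransitive G Ω) (C : Subgroup G) (hC : C.Normal) (hC1 : C ≠ ⊥) (hcyc : IsCyclic ↥C) :
    ∃ g : G, (orderOf g).Prime ∧ ∀ ω : Ω, g • ω ≠ ω := by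
  classical
  -- a prime dividing |C|
  have hcard : Nat.card C ≠ 1 := by
    intro h
    exact hC1 (Subgroup.card_eq_one.mp h)
  obtain ⟨p, hp, hpdvd⟩ := Nat.exists_prime_and_dvd hcard
  haveI : Fact p.Prime := ⟨hp⟩
  obtain ⟨g, hg⟩ := exists_prime_orderOf_dvd_card' p hpdvd
  refine ⟨(g : G), ?_, ?_⟩
  · rw [Subgroup.orderOf_coe, hg]; exact hp
  · intro ω₀ hfix
    -- g fixes everything
    have hall : ∀ ω : Ω, (g : G) • ω = ω := by
      intro ω
      obtain ⟨x, rfl⟩ := MulAction.exists_smul_eq G ω₀ ω
      obtain ⟨m, hm⟩ := MonoidHom.map_cyclic ((MulAut.conjNormal (H := C) x⁻¹).toMonoidHom)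
      have h1 := hm g
      have h2 : x⁻¹ * (g : G) * x = ((g ^ m : C) : G) := by
        have := congrArg (fun c : C => (c : G)) h1
        simpa [MulAut.conjNormal_apply] using this
      have h3 : ((g ^ m : C) : G) • ω₀ = ω₀ := by
        have : ((g : G)) ∈ MulAction.stabilizer G ω₀ := hfix
        have h4 : ((g : G)) ^ m ∈ MulAction.stabilizer G ω₀ := Subgroup.zpow_mem _ this m
        simpa using h4
      calc (g : G) • x • ω₀ = x • ((x⁻¹ * (g : G) * x) • ω₀) := by
            simp [mul_smul]
        _ = x • ω₀ := by rw [h2, h3]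
    have h1 : (g : G) = 1 := by
      apply FaithfulSMul.eq_of_smul_eq_smul (α := Ω)
      intro ω; rw [hall ω, one_smul]
    have h2 : orderOf (g : G) = p := by rw [Subgroup.orderOf_coe, hg]
    rw [h1, orderOf_one] at h2
    exact hp.one_lt.ne h2

end Cfsg.Agent.S3554
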