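import Cfsg.Statements.S3555
import Cfsg.Agent.Lib.H18.DerInvolution

set_option autoImplicit false
open Cfsg
open scoped Pointwise

namespace Cfsg.Agent.S3555

/-- Let G act faithfully and transitively on a finite set and suppose every element of G fixing no point is an involution. Then either G is an elementary abelian 2-group, or G is a Frobenius group whose Frobenius kernel is an elementary abelian 2-group: G has a Frobenius complement H, and the elements lying in no conjugate of H, together with the identity, pairwise commute and square to the identity. -/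
theorem result {G Ω : Type*} [Group G] [Finite G] [MulAction G Ω] [FaithfulSMul G Ω] [Finite Ω]
    (htrans : MulAction.IsPretransitive G Ω) (hinv : ∀ g : G, (∀ ω : Ω, g • ω ≠ ω) → orderOf g = 2) :
    (IsMulCommutative G ∧ ∀ g : G, g ^ 2 = 1) ∨
    (∃ H : Subgroup G, Cfsg.IsFrobeniusComplement H ∧
      (∀ x ∈ Cfsg.frobeniusKernel H, x ^ 2 = 1) ∧
      ∀ x ∈ Cfsg.frobeniusKernel H, ∀ y ∈ Cfsg.frobeniusKernel H, x * y = y * x) := by
  classical
  -- squares of elements: if all squares are trivial, the group is commutative
  have hcomm_of_sq : (∀ g : G, g ^ 2 = 1) → IsMulCommutative G := by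
    intro hsq
    rw [isMulCommutative_iff]
    intro x y
    have hx : x⁻¹ = x := by
      rw [inv_eq_iff_mul_eq_one, ← pow_two]; exact hsq x
    have hy : y⁻¹ = y := by
      rw [inv_eq_iff_mul_eq_one, ← pow_two]; exact hsq y
    have hxy : (x * y)⁻¹ = x * y := by
      rw [inv_eq_iff_mul_eq_one, ← pow_two]; exact hsq (x * y)
    rw [← hxy, mul_inv_rev, hx, hy]
  rcases isEmpty_or_nonempty Ω with hΩ | hΩ
  · left
    have h1 : ∀ g : G, g = 1 := by
      intro g
      apply FaithfulSMul.eq_of_smul_eq_smul (α := Ω)
      intro ω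
      exact (IsEmpty.false ω).elim
    have hsq : ∀ g : G, g ^ 2 = 1 := fun g => by rw [h1 g, one_pow]
    exact ⟨hcomm_of_sq hsq, hsq⟩
  obtain ⟨a⟩ := hΩ
  have hΩ : Nonempty Ω := ⟨a⟩
  have hinv' : ∀ g : G, (∀ ω : Ω, g • ω ≠ ω) → g * g = 1 := by
    intro g hg
    have := hinv g hg
    rw [← pow_two, ← this, pow_orderOf_eq_one]
  have key : ∀ g : G, g ≠ 1 → ∀ ω ω' : Ω, g • ω = ω → g • ω' = ω' → ω = ω' := by
    intro g hg1 ω ω' hω hω'
    rcases Cfsg.Agent.Lib.H18.fixed_unique_or_all_of_der_involutions htrans hinv' g ⟨ω, hω⟩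
      with h | h
    · exact h ω ω' hω hω'
    · exfalso
      apply hg1
      apply FaithfulSMul.eq_of_smul_eq_smul (α := Ω)
      intro x
      rw [h x, one_smul]
  set H := MulAction.stabilizer G a with hH
  -- membership in conjugates of the stabilizer
  have hconj : ∀ (g x : G), x ∈ MulAut.conj g • H ↔ x • (g • a) = g • a := by
    intro g x
    rw [Subgroup.mem_pointwise_smul_iff_inv_smul_mem, hH, MulAction.mem_stabilizer_iff]
    simp only [MulAut.smul_def, MulAut.conj_inv_apply]
    rw [mul_smul, mul_smul, inv_smul_eq_iff]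
  by_cases hcase : H = ⊥ ∨ H = ⊤
  · left
    have hsq : ∀ g : G, g ^ 2 = 1 := by
      intro g
      rcases hcase with hbot | htop
      · by_cases hg1 : g = 1
        · rw [hg1, one_pow]
        · have hder : ∀ ω : Ω, g • ω ≠ ω := by
            intro ω hω
            obtain ⟨x, rfl⟩ := MulAction.exists_smul_eq G a ω
            have : g ∈ MulAut.conj x • H := (hconj x g).mpr hω
            rw [hbot, Subgroup.smul_bot, Subgroup.mem_bot] at this
            exact hg1 this
          rw [pow_two]
          exact hinv' g hder
      · have : g = 1 := by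
          apply FaithfulSMul.eq_of_smul_eq_smul (α := Ω)
          intro ω
          obtain ⟨x, rfl⟩ := MulAction.exists_smul_eq G a ω
          rw [one_smul]
          apply (hconj x g).mp
          rw [Subgroup.mem_pointwise_smul_iff_inv_smul_mem, htop]
          exact Subgroup.mem_top _
        rw [this, one_pow]
    exact ⟨hcomm_of_sq hsq, hsq⟩
  · right
    push Not at hcase
    have hker : ∀ x ∈ Cfsg.frobeniusKernel H, x ≠ 1 → ∀ ω : Ω, x • ω ≠ ω := by
      intro x hx hx1 ω hω
      rcases hx with h | h
      · exact hx1 h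
      · obtain ⟨g, rfl⟩ := MulAction.exists_smul_eq G a ω
        exact h g ((hconj g x).mpr hω)
    refine ⟨H, ⟨hcase.1, hcase.2, ?_⟩, ?_, ?_⟩
    · intro g hg
      rw [Subgroup.eq_bot_iff_forall]
      intro x hx
      rw [Subgroup.mem_inf] at hx
      by_contra hx1
      have h1 : x • a = a := MulAction.mem_stabilizer_iff.mp hx.1
      have h2 : x • (g • a) = g • a := (hconj g x).mp hx.2
      have := key x hx1 a (g • a) h1 h2
      exact hg (MulAction.mem_stabilizer_iff.mpr this.symm)
    · intro x hx
      by_cases hx1 : x = 1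
      · rw [hx1, one_pow]
      · rw [pow_two]
        exact hinv' x (hker x hx hx1)
    · intro x hx y hy
      by_cases hx1 : x = 1
      · rw [hx1, one_mul, mul_one]
      by_cases hy1 : y = 1
      · rw [hy1, one_mul, mul_one]
      have hxD := hker x hx hx1
      have hyD := hker y hy hy1
      have hx2 : x * x = 1 := hinv' x hxD
      have hy2 : y * y = 1 := hinv' y hyD
      have hxi : x⁻¹ = x := inv_eq_iff_mul_eq_one.mpr hx2
      have hyi : y⁻¹ = y := inv_eq_iff_mul_eq_one.mpr hy2
      by_cases hxy1 : x * y = 1
      · have : y = x := by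
          rw [← hxi]; exact (inv_eq_of_mul_eq_one_right hxy1).symm
        rw [this]
      by_cases hxyD : ∀ ω : Ω, (x * y) • ω ≠ ω
      · have h2 : (x * y) * (x * y) = 1 := hinv' _ hxyD
        have : (x * y)⁻¹ = x * y := inv_eq_iff_mul_eq_one.mpr h2
        rw [← this, mul_inv_rev, hxi, hyi]
      · exfalso
        push Not at hxyD
        obtain ⟨ω, hω⟩ := hxyD
        -- x * y fixes ω and x • ω
        have h1 : y • ω = x • ω := by
          have : x • ((x * y) • ω) = x • ω := by rw [hω]
          rw [mul_smul, ← mul_smul, hx2, one_smul] at this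
          exact this
        have h2 : (x * y) • (x • ω) = x • ω := by
          rw [mul_smul, ← h1, ← mul_smul y y, hy2, one_smul, h1]
        have := key (x * y) hxy1 ω (x • ω) hω h2
        exact hxD ω this.symm

end Cfsg.Agent.S3555
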