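import Cfsg.Statements.S3556
import Cfsg.Agent.Lib.H4.Der.PElem

set_option autoImplicit false
open Cfsg

namespace Cfsg.Agent.S3556

open Cfsg.Agent.Lib.H4.Der in
/-- Let G act faithfully and primitively on a finite set with at least two points, and suppose that for some fixed prime p every element of G fixing no point has order a power of p. Then G is of affine type (it has a regular normal subgroup that is an elementary abelian r-group for some prime r) or almost simple (it has a non-abelian simple normal subgroup with trivial centralizer). -/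
theorem result {G Ω : Type*} [Group G] [Finite G] [MulAction G Ω] [FaithfulSMul G Ω] [Finite Ω]
    (hprim : MulAction.IsPreprimitive G Ω) (hΩ : 2 ≤ Nat.card Ω) (p : ℕ) (hp : p.Prime)
    (hder : ∀ g : G, (∀ ω : Ω, g • ω ≠ ω) → ∃ k : ℕ, orderOf g = p ^ k) :
    (∃ (N : Subgroup G) (r : ℕ), r.Prime ∧ N.Normal ∧ Cfsg.IsElementaryAbelian r N ∧
      MulAction.IsPretransitive N Ω ∧ ∀ a : Ω, MulAction.stabilizer N a = ⊥) ∨
    (∃ T : Subgroup G, T.Normal ∧ IsSimpleGroup ↥T ∧ ¬ IsMulCommutative ↥T ∧
      Subgroup.centralizer (T : Set G) = ⊥) := by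
  classical
  have := hprim
  have : Nonempty Ω := by
    rw [← Finite.card_pos_iff]; omega
  have hnt : Nontrivial G := by
    obtain ⟨d, hd⟩ := exists_der_of_pretransitive (H := G) (X := Ω) hΩ
    have hd' : IsDer Ω d := hd
    exact ⟨⟨d, 1, hd'.ne_one⟩⟩
  by_cases hnas : ∃ T : Subgroup G, T.Normal ∧ IsSimpleGroup ↥T ∧ ¬ IsMulCommutative ↥T ∧
      Subgroup.centralizer (T : Set G) = ⊥
  · exact Or.inr hnas
  · left
    obtain ⟨M, hM⟩ := exists_minNormal (G := G)
    by_cases hc : ∀ a ∈ M, ∀ b ∈ M, a * b = b * a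
    · have hA : Aff Ω M := aff_of_minNormal hM hc
      obtain ⟨r, hr, hexp⟩ := hM.exists_prime_exponent hc
      refine ⟨M, r, hr, hM.normal,
        ⟨⟨⟨fun a b => Subtype.ext (hc a.1 a.2 b.1 b.2)⟩⟩, hexp⟩, ?_, ?_⟩
      · constructor
        intro a b
        obtain ⟨m, hm, hmab⟩ := hA.trans a b
        exact ⟨⟨m, hm⟩, hmab⟩
      · intro a
        rw [eq_bot_iff]
        intro n hn
        rw [Subgroup.mem_bot]
        rw [MulAction.mem_stabilizer_iff] at hn
        apply Subtype.ext
        exact hA.semireg n.1 n.2 a hn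
    · exfalso
      obtain ⟨T, hT⟩ := exists_relMin hM.ne_bot
      have hctx : Ctx M T := ⟨hM, hT, hc⟩
      obtain ⟨d, hd, hno⟩ := hctx.exists_der_not_ppow (Ω := Ω)
        (fun N hN hb => trans_of_normal hN hb) hnas p hp
      exact hno (hder d hd)

end Cfsg.Agent.S3556
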