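import Cfsg.Statements.S3557
import Cfsg.Agent.Lib.H18.TwoClosedF

set_option autoImplicit false
open Cfsg

namespace Cfsg.Agent.S3557

open Cfsg.Agent.Lib.H18.TwoClosed

/-- Let G act faithfully and transitively on a finite set with 2p² points, p a prime, and suppose G is 2-closed: every permutation of the set which, on each ordered pair of points, agrees with some element of G, is itself induced by an element of G. Then some element of G of prime order fixes no point. -/
theorem result {G Ω : Type*} [Group G] [Finite G] [MulAction G Ω] [FaithfulSMul G Ω] [Finite Ω]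
    (htrans : MulAction.IsPretransitive G Ω) (p : ℕ) (hp : p.Prime) (hcard : Nat.card Ω = 2 * p ^ 2)
    (hcl : ∀ σ : Equiv.Perm Ω, (∀ a b : Ω, ∃ g : G, σ a = g • a ∧ σ b = g • b) → ∃ g : G, ∀ a : Ω, σ a = g • a) :
    ∃ g : G, (orderOf g).Prime ∧ ∀ ω : Ω, g • ω ≠ ω := by
  haveI : Fact p.Prime := ⟨hp⟩
  have hΩpos : 0 < Nat.card Ω := by rw [hcard]; have := pow_pos hp.pos 2; omega
  haveI hΩne : Nonempty Ω := (Nat.card_pos_iff.mp hΩpos).1
  obtain ⟨ω0⟩ := hΩne
  obtain ⟨P⟩ : Nonempty (Sylow p G) := inferInstance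
  have hPp : IsPGroup p (↥(P : Subgroup G)) := P.2
  have hdvd := fun ω : Ω => sylow_orbit_dvd p P ω
  by_cases hp2 : p = 2
  · -- degree 8
    subst hp2
    have hc8 : Nat.card Ω = 2 ^ 3 := by rw [hcard]; norm_num
    have hfac : (Nat.card Ω).factorization 2 = 3 := by
      rw [hc8, Nat.Prime.factorization_pow Nat.prime_two]
      simp
    have horb : ∀ ω : Ω, MulAction.orbit (↥(P : Subgroup G)) ω = Set.univ := by
      intro ω
      have h1 := hdvd ω
      rw [hfac] at h1
      have h2 : (MulAction.orbit (↥(P : Subgroup G)) ω).ncard ≤ Nat.card Ω := Set.ncard_le_card _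
      apply Set.eq_of_subset_of_ncard_le (Set.subset_univ _) _ (Set.toFinite _)
      rw [Set.ncard_univ, hc8]
      have hpos : 0 < (MulAction.orbit (↥(P : Subgroup G)) ω).ncard := by
        rw [Set.ncard_pos (Set.toFinite _)]
        exact MulAction.nonempty_orbit ω
      exact Nat.le_of_dvd hpos h1
    have htr : ∀ a b : Ω, ∃ x : ↥(P : Subgroup G), x • a = b := by
      intro a b
      have : b ∈ MulAction.orbit (↥(P : Subgroup G)) a := by rw [horb a]; trivial
      exact this
    haveI : Nontrivial (↥(P : Subgroup G)) := by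
      obtain ⟨x, hx⟩ := htr ω0 ω0
      -- need two distinct points
      have h2 : 1 < Nat.card Ω := by rw [hc8]; norm_num
      haveI : Nontrivial Ω := (Finite.one_lt_card_iff_nontrivial.mp h2)
      obtain ⟨ω1, hω1⟩ := exists_ne ω0
      obtain ⟨y, hy⟩ := htr ω0 ω1
      refine ⟨⟨y, 1, ?_⟩⟩
      intro h
      apply hω1
      rw [← hy, h, one_smul]
    obtain ⟨z, hzord, hzf⟩ := exists_derangement_of_transitive (Ω := Ω) 2 hPp htr
    refine ⟨(z : G), ?_, ?_⟩
    · rw [Subgroup.orderOf_coe, hzord]
      exact Nat.prime_two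
    · intro ω
      have := hzf ω
      rwa [Subgroup.smul_def] at this
  · -- p odd
    have hfac : (Nat.card Ω).factorization p = 2 := by
      rw [hcard, Nat.factorization_mul (by norm_num) (pow_pos hp.pos 2).ne',
        Nat.Prime.factorization_pow hp]
      have h2 : (2 : ℕ).factorization p = 0 := by
        apply Nat.factorization_eq_zero_of_not_dvd
        intro h
        exact hp2 ((Nat.prime_dvd_prime_iff_eq hp Nat.prime_two).mp h)
      simp [h2]
    have hp3 : 3 ≤ p := by
      have := hp.two_le
      omega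
    have hO : ∀ ω : Ω, (MulAction.orbit (↥(P : Subgroup G)) ω).ncard = p ^ 2 := by
      intro ω
      have h1 := hdvd ω
      rw [hfac] at h1
      obtain ⟨k, hk⟩ := hPp.card_orbit ω
      rw [Nat.card_coe_set_eq] at hk
      rw [hk] at h1 ⊢
      have hk2 : 2 ≤ k := (Nat.pow_dvd_pow_iff_le_right hp.one_lt).mp h1
      have hle : p ^ k ≤ 2 * p ^ 2 := by
        rw [← hk, ← hcard]
        exact Set.ncard_le_card _
      have hk3 : k < 3 := by
        by_contra hcon
        push Not at hcon
        have h3 : p ^ 3 ≤ p ^ k := Nat.pow_le_pow_right hp.pos hcon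
        have h4 : 3 * p ^ 2 ≤ p ^ 3 := by
          rw [pow_succ p 2, mul_comm]
          exact Nat.mul_le_mul_left _ hp3
        have := pow_pos hp.pos 2
        omega
      have : k = 2 := by omega
      rw [this]
    obtain ⟨σ, hσp, hσf, hσpair⟩ := core (P := ↥(P : Subgroup G)) (Ω := Ω) p hPp hO hcard
    obtain ⟨g, hg⟩ := hcl σ (by
      intro a b
      obtain ⟨x, hxa, hxb⟩ := hσpair a b
      exact ⟨(x : G), by rw [hxa, Subgroup.smul_def], by rw [hxb, Subgroup.smul_def]⟩)
    have hpow : ∀ (n : ℕ) (a : Ω), (σ ^ n) a = g ^ n • a := by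
      intro n
      induction n with
      | zero => intro a; simp
      | succ k ih =>
        intro a
        rw [pow_succ', Equiv.Perm.mul_apply, ih, hg, ← mul_smul, ← pow_succ']
    have hgp : g ^ p = 1 := by
      apply FaithfulSMul.eq_of_smul_eq_smul (α := Ω)
      intro a
      rw [← hpow, hσp, Equiv.Perm.one_apply, one_smul]
    have hg1 : g ≠ 1 := by
      intro h
      apply hσf ω0
      rw [hg, h, one_smul]
    refine ⟨g, ?_, ?_⟩
    · rw [orderOf_eq_prime hgp hg1]
      exact hp
    · intro ω
      rw [← hg]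
      exact hσf ω

end Cfsg.Agent.S3557
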