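import Cfsg.Statements.S3560
import Cfsg.Agent.Lib.H18.PermTransport
import Cfsg.Agent.Lib.H18.HammingPrim
-- import your own Cfsg.Agent.* helpers here

set_option autoImplicit false
open Cfsg

namespace Cfsg.Agent.S3560

open Cfsg.Agent.Lib.H18 Cfsg.Agent.Lib.H18.Ham

/-- Let K be a finite group isomorphic to a direct product of r ≥ 2 groups all of the same order m ≥ 3. Then K is not a B-group: there is a primitive but not doubly transitive permutation group (on some finite set) containing a regular subgroup isomorphic to K. -/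
theorem result {K : Type*} [Group K] [Finite K] {ι : Type*} [Fintype ι] (F : ι → Type*) [∀ i, Group (F i)]
    (hr : 2 ≤ Fintype.card ι) (m : ℕ) (hm : 3 ≤ m) (hcard : ∀ i, Nat.card (F i) = m) (e : K ≃* (∀ i, F i)) :
    ∃ (n : ℕ) (G R : Subgroup (Equiv.Perm (Fin n))), R ≤ G ∧ Nonempty (↥R ≃* K) ∧
      MulAction.IsPretransitive ↥R (Fin n) ∧ (∀ a : Fin n, MulAction.stabilizer ↥R a = ⊥) ∧
      MulAction.IsPreprimitive ↥G (Fin n) ∧ ¬ MulAction.IsMultiplyPretransitive ↥G (Fin n) 2 := by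
  classical
  have hfin : ∀ i, Finite (F i) := fun i =>
    Nat.finite_of_card_ne_zero (by rw [hcard i]; omega)
  have hφ : ∀ i, Nonempty (F i ≃ Fin m) := fun i => by
    have := hfin i
    exact ⟨Finite.equivFinOfCardEq (hcard i)⟩
  let φ : ∀ i, F i ≃ Fin m := fun i => (hφ i).some
  let Φ : (∀ i, F i) ≃ (ι → Fin m) := Equiv.piCongrRight φ
  have h3 : ∃ a b c : Fin m, a ≠ b ∧ a ≠ c ∧ b ≠ c :=
    ⟨⟨0, by omega⟩, ⟨1, by omega⟩, ⟨2, by omega⟩,
      fun h => by simp [Fin.ext_iff] at h, fun h => by simp [Fin.ext_iff] at h,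
      fun h => by simp [Fin.ext_iff] at h⟩
  have hnt : Nontrivial ι := Fintype.one_lt_card_iff_nontrivial.1 (by omega)
  obtain ⟨i, j, hij⟩ := exists_pair_ne ι
  have hab : (⟨0, by omega⟩ : Fin m) ≠ ⟨1, by omega⟩ := fun h => by simp [Fin.ext_iff] at h
  obtain ⟨n, G, R, hRG, ⟨f⟩, h1, h2, h4, h5⟩ :=
    exists_fin_perm_groups (autAdj ι (Fin m)) (regHom Φ).range (regHom_range_le φ)
      (regHom_range_isPretransitive Φ) (regHom_range_stabilizer Φ)
      (autAdj_isPreprimitive h3) (autAdj_not_two_pretransitive hij hab)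
  exact ⟨n, G, R, hRG, ⟨(f.trans (regEquiv Φ)).trans e.symm⟩, h1, h2, h4, h5⟩

end Cfsg.Agent.S3560
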