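import Cfsg.Statements.S3571
import Cfsg.Agent.Lib.H9.S3571Asm
import Cfsg.Agent.Lib.H9.S3571C1b
import Cfsg.Agent.Lib.H25.S3571C1a
import Cfsg.Agent.Lib.H27.S3571C1a3
import Cfsg.Agent.Lib.H4.S3571C2
import Cfsg.Agent.Lib.H12.S3571C3
import Cfsg.Agent.Lib.H16.S3571PRIM
import Cfsg.Agent.Lib.H24.S3571Emb
import Cfsg.Agent.Lib.H21.S3571TR1
import Cfsg.Agent.Lib.H15.S3571TR2
import Cfsg.Agent.Lib.H15.S3571P0
import Cfsg.Agent.Lib.H20.S3571M6
import Cfsg.Agent.Lib.H5.S3571M6C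
import Cfsg.Agent.Lib.H1.S3571SS

set_option autoImplicit false
open Cfsg

namespace Cfsg.Agent.S3571

open Cfsg.Agent.Lib.H9.S3571

/-- Let G be an almost simple group whose socle is an alternating group of degree m ≥ 5 (G has a normal subgroup T isomorphic to that alternating group with trivial centralizer), acting faithfully and primitively on a finite set Ω with at least two points, and let r be the largest prime divisor of the number of points. Then G contains an element of order r fixing no point. -/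
theorem result {G Ω : Type*} [Group G] [Finite G] [MulAction G Ω] [FaithfulSMul G Ω] [Finite Ω]
    (T : Subgroup G) (hT : T.Normal) (hTc : Subgroup.centralizer (T : Set G) = ⊥) (m : ℕ) (hm : 5 ≤ m)
    (eT : ↥T ≃* ↥(alternatingGroup (Fin m))) (hprim : MulAction.IsPreprimitive G Ω) (hΩ : 2 ≤ Nat.card Ω)
    (r : ℕ) (hr : r.Prime) (hrd : r ∣ Nat.card Ω) (hmax : ∀ s : ℕ, s.Prime → s ∣ Nat.card Ω → s ≤ r) :
    ∃ g : G, orderOf g = r ∧ ∀ ω : Ω, g • ω ≠ ω :=
  main_of Cfsg.Agent.Lib.H24.S3571Emb.emb Cfsg.Agent.Lib.H21.S3571TR1.tr1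
    Cfsg.Agent.Lib.H15.S3571TR2.tr2
    (pcore_of
      (c1_of Cfsg.Agent.Lib.H25.S3571C1a.c1a1 Cfsg.Agent.Lib.H25.S3571C1a.c1a2
        Cfsg.Agent.Lib.H27.S3571.c1a3 c1b)
      Cfsg.Agent.Lib.H4.S3571C2.c2 Cfsg.Agent.Lib.H12.S3571C3.c3
      (fun m H hm h6 hprim hA =>
        Cfsg.Agent.Lib.H16.S3571PRIM.exists_prime_not_dvd_of_primitive m hm h6 H hprim hA))
    (Cfsg.Agent.Lib.H20.S3571M6.m6_of Cfsg.Agent.Lib.H15.S3571P0.p0
      Cfsg.Agent.Lib.H5.S3571M6.m6core)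
    Cfsg.Agent.Lib.H1.S3571SS.ss
    T hT hTc m hm eT hprim hΩ r hr hrd hmax

end Cfsg.Agent.S3571
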