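import Cfsg.Statements.S3575
import Cfsg.Agent.Lib.H9.UnifPartA
-- import your own Cfsg.Agent.* helpers here

set_option autoImplicit false
open Cfsg

namespace Cfsg.Agent.S3575

open Cfsg.Agent.Lib.H9.UnifPart

theorem fixes_iff {a b : ℕ} (σ : Equiv.Perm (Fin (a * b))) :
    (∃ f : Fin (a * b) → Fin b, (∀ j : Fin b, Nat.card {x : Fin (a * b) // f x = j} = a) ∧
          ∃ π : Equiv.Perm (Fin b), ∀ x : Fin (a * b), f (σ x) = π (f x)) ↔ Fixes a b σ := Iff.rfl

theorem main_iff (a b : ℕ) (ha : 2 ≤ a) (r : ℕ) (hr : r.Prime) (hrab : r ≤ a * b) :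
    (∀ σ : Equiv.Perm (Fin (a * b)), orderOf σ = r → Fixes a b σ) ↔
    (∀ j, 1 ≤ j → r * j ≤ a * b →
      ∃ t s, r * t + s = b ∧ t * a ≤ j ∧ j ≤ t * a + s * (a / r)) := by
  classical
  constructor
  · intro H j hj1 hj2
    obtain ⟨σ, hσr, hσs⟩ := exists_perm_card_support (α := Fin (a * b)) hr j
      (by rw [Fintype.card_fin]; exact hj2)
    have hσ1 : σ ≠ 1 := by
      rintro rfl
      simp at hσs
      rcases hσs with h | h
      · exact hr.ne_zero h
      · omega
    have hord : orderOf σ = r := by
      have : Fact r.Prime := ⟨hr⟩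
      exact orderOf_eq_prime hσr hσ1
    obtain ⟨t, s, hts, h1, h2⟩ := support_card_bounds hr (by omega) σ hσr (H σ hord)
    rw [hσs] at h1 h2
    refine ⟨t, s, hts, ?_, ?_⟩
    · have : r * (t * a) ≤ r * j := by rw [← mul_assoc]; exact h1
      exact Nat.le_of_mul_le_mul_left this hr.pos
    · have : r * j ≤ r * (t * a + s * (a / r)) := by
        calc r * j ≤ r * t * a + s * (r * (a / r)) := h2
          _ = r * (t * a + s * (a / r)) := by ring
      exact Nat.le_of_mul_le_mul_left this hr.pos
  · intro H σ hord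
    have hσr : σ ^ r = 1 := by rw [← hord]; exact pow_orderOf_eq_one σ
    obtain ⟨j, hj⟩ := dvd_card_support hr hσr
    have hσ1 : σ ≠ 1 := by
      rintro rfl
      rw [orderOf_one] at hord
      exact hr.ne_one hord.symm
    have hj1 : 1 ≤ j := by
      rcases Nat.eq_zero_or_pos j with h | h
      · subst h
        rw [Nat.mul_zero, Finset.card_eq_zero, Equiv.Perm.support_eq_empty_iff] at hj
        exact absurd hj hσ1
      · exact h
    have hj2 : r * j ≤ a * b := by
      rw [← hj]
      calc σ.support.card ≤ Fintype.card (Fin (a * b)) := Finset.card_le_univ _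
        _ = a * b := Fintype.card_fin _
    obtain ⟨t, s, hts, h1, h2⟩ := H j hj1 hj2
    obtain ⟨j', hj'⟩ : ∃ j', j = t * a + j' := ⟨j - t * a, by omega⟩
    obtain ⟨σ₀, hσ₀r, hσ₀s, hσ₀f⟩ := exists_fixes_model (a := a) (b := b) hr t s j' hts (by omega)
    have hcard : Fintype.card (Fin b × Fin a) = Fintype.card (Fin (a * b)) := by
      simp [mul_comm]
    let e : Fin b × Fin a ≃ Fin (a * b) := Fintype.equivOfCardEq hcard
    have h1r : (e.permCongr σ₀) ^ r = 1 := by
      have : (e.permCongrHom σ₀) ^ r = 1 := by rw [← map_pow, hσ₀r, map_one]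
      simpa using this
    have h1s : (e.permCongr σ₀).support.card = σ₀.support.card := by
      have : (e.permCongr σ₀).support = σ₀.support.map e.toEmbedding := by
        ext x
        simp only [Equiv.Perm.mem_support, Equiv.permCongr_apply, Finset.mem_map,
          Equiv.coe_toEmbedding]
        constructor
        · intro h
          refine ⟨e.symm x, ?_, by simp⟩
          intro h'
          apply h
          rw [h']
          simp
        · rintro ⟨y, hy, rfl⟩
          simpa using hy
      rw [this, Finset.card_map]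
    have hconj : IsConj (e.permCongr σ₀) σ :=
      isConj_of_card_support hr h1r hσr (by rw [h1s, hσ₀s, hj, hj'])
    exact (hσ₀f.permCongr e).conj hconj


/-- Let a, b ≥ 2 and consider the symmetric group of degree a·b acting on the partitions of an (a·b)-set into b parts of size a (encoded as maps onto a b-element set all of whose fibres have a elements; a permutation fixes such a partition when it permutes the fibres). Let r be a prime dividing the number (ab)!/((a!)^b·b!) of such partitions, and let ℓ and k be the remainders of a and b modulo r. Then every permutation of order r fixes some such partition if and only if r ≤ a and one of the following holds: ℓ = 0; or k = 0 and ℓ = 1; or ℓ and k are non-zero, k·ℓ < r, and either b < r or (k + r)·ℓ ≤ k·a + r. -/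
theorem result (a b : ℕ) (ha : 2 ≤ a) (hb : 2 ≤ b) (r : ℕ) (hr : r.Prime)
    (hrd : r ∣ (a * b).factorial / (a.factorial ^ b * b.factorial)) :
    (∀ σ : Equiv.Perm (Fin (a * b)), orderOf σ = r →
        ∃ f : Fin (a * b) → Fin b, (∀ j : Fin b, Nat.card {x : Fin (a * b) // f x = j} = a) ∧
          ∃ π : Equiv.Perm (Fin b), ∀ x : Fin (a * b), f (σ x) = π (f x)) ↔
      (r ≤ a ∧ (a % r = 0 ∨ (b % r = 0 ∧ a % r = 1) ∨
        (a % r ≠ 0 ∧ b % r ≠ 0 ∧ (b % r) * (a % r) < r ∧ (b < r ∨ (b % r + r) * (a % r) ≤ (b % r) * a + r)))) := by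
  have hrab : r ≤ a * b := le_of_dvd_count (by omega) hr hrd
  have hmain := main_iff a b ha r hr hrab
  have hfix : (∀ σ : Equiv.Perm (Fin (a * b)), orderOf σ = r →
        ∃ f : Fin (a * b) → Fin b, (∀ j : Fin b, Nat.card {x : Fin (a * b) // f x = j} = a) ∧
          ∃ π : Equiv.Perm (Fin b), ∀ x : Fin (a * b), f (σ x) = π (f x)) ↔
      (∀ σ : Equiv.Perm (Fin (a * b)), orderOf σ = r → Fixes a b σ) := Iff.rfl
  rw [hfix, hmain]
  -- now pure arithmetic
  obtain ⟨A, hA⟩ : ∃ A, A = a / r := ⟨_, rfl⟩
  obtain ⟨ℓ, hℓ⟩ : ∃ ℓ, ℓ = a % r := ⟨_, rfl⟩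
  obtain ⟨B, hB⟩ : ∃ B, B = b / r := ⟨_, rfl⟩
  obtain ⟨k, hk⟩ : ∃ k, k = b % r := ⟨_, rfl⟩
  have ea : a = r * A + ℓ := by rw [hA, hℓ]; exact (Nat.div_add_mod a r).symm
  have eb : b = r * B + k := by rw [hB, hk]; exact (Nat.div_add_mod b r).symm
  have hℓr : ℓ < r := by rw [hℓ]; exact Nat.mod_lt _ hr.pos
  have hkr : k < r := by rw [hk]; exact Nat.mod_lt _ hr.pos
  rw [← hA, ← hℓ, ← hk]
  constructor
  · intro H
    have H' : ∀ j, 1 ≤ j → r * j ≤ (r * A + ℓ) * (r * B + k) →
        ∃ t s, r * t + s = r * B + k ∧ t * (r * A + ℓ) ≤ j ∧ j ≤ t * (r * A + ℓ) + s * A := by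
      rw [← ea, ← eb]; exact H
    obtain ⟨c1, c2, c3⟩ := cond_of_cover hr.pos hkr (by rw [← ea]; exact ha)
      (by rw [← ea, ← eb]; exact hrab) H'
    refine ⟨?_, ?_⟩
    · rw [ea]
      have : r * 1 ≤ r * A := Nat.mul_le_mul_left _ c1
      omega
    · by_cases h0 : ℓ = 0
      · exact Or.inl h0
      · right
        by_cases hk0 : k = 0
        · left
          refine ⟨hk0, ?_⟩
          have hB1 : 1 ≤ B := by
            rcases Nat.eq_zero_or_pos B with h | h
            · subst h; subst hk0; omega
            · exact h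
          have := c3 hB1
          subst hk0
          omega
        · right
          refine ⟨h0, hk0, by rw [mul_comm]; exact c2, ?_⟩
          by_cases hbr : b < r
          · exact Or.inl hbr
          · right
            have hB1 : 1 ≤ B := by
              rcases Nat.eq_zero_or_pos B with h | h
              · subst h; omega
              · exact h
            have h3 := c3 hB1
            have e1 : (k + r) * ℓ = k * ℓ + r * ℓ := by ring
            have e2 : k * a + r = k * ℓ + r * (k * A + 1) := by rw [ea]; ring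
            rw [e1, e2]
            have : r * ℓ ≤ r * (k * A + 1) := Nat.mul_le_mul_left _ h3
            omega
  · rintro ⟨hra, hcond⟩
    have hA1 : 1 ≤ A := by
      rw [hA]; exact Nat.div_pos hra hr.pos
    have c2 : ℓ * k < r := by
      rcases hcond with h | ⟨h, _⟩ | ⟨_, _, h, _⟩
      · rw [h]; simpa using hr.pos
      · rw [h]; simpa using hr.pos
      · rw [mul_comm]; exact h
    have c3 : 1 ≤ B → ℓ ≤ k * A + 1 := by
      intro hB1
      rcases hcond with h | ⟨_, h⟩ | ⟨_, _, _, h⟩
      · omega
      · omega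
      · rcases h with h | h
        · exfalso
          have : r * 1 ≤ r * B := Nat.mul_le_mul_left _ hB1
          omega
        · have e1 : (k + r) * ℓ = k * ℓ + r * ℓ := by ring
          have e2 : k * a + r = k * ℓ + r * (k * A + 1) := by rw [ea]; ring
          rw [e1, e2] at h
          have : r * ℓ ≤ r * (k * A + 1) := by omega
          exact Nat.le_of_mul_le_mul_left this hr.pos
    intro j hj1 hj2
    have := cover_of_cond hr.pos hA1 c2 c3 j (by rw [← ea, ← eb]; exact hj2)
    rw [← ea, ← eb] at this
    exact this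

end Cfsg.Agent.S3575
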