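import Cfsg.Statements.S3589
import Cfsg.Agent.Lib.H11.S8O1
import Cfsg.Agent.Lib.H11.S8O3
import Cfsg.Agent.Lib.H11.S8O5

set_option autoImplicit false
open Cfsg

namespace Cfsg.Agent.S3589

/-- Let F be a finite field of characteristic 2 and let a, b ∈ F make the binary form z₁² + a z₁z₂ + b z₂² anisotropic. Then the symplectic group PSp(8,F) (= Sp(8,F)) and the full isometry group of the non-singular quadratic form x₁y₁ + x₂y₂ + x₃y₃ + (z₁² + a z₁z₂ + b z₂²) of minus type in dimension 8 have the same set of element orders. -/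
theorem result {F : Type*} [Field F] [Fintype F]
    [CharP F 2] (a b : F) (han : ∀ z₁ z₂ : F, z₁ ^ 2 + a * z₁ * z₂ + b * z₂ ^ 2 = 0 → z₁ = 0 ∧ z₂ = 0) :
    Set.range (orderOf : Cfsg.PSp 4 F → ℕ) = Set.range (orderOf : ↥(Cfsg.isometryGroup F (Cfsg.quadFormMinus 3 F a b)) → ℕ) := by
  classical
  have ha : a ≠ 0 := Cfsg.Agent.Lib.H11.S8O.a_ne_zero a b han
  apply Set.eq_of_subset_of_subset
  · rintro n ⟨g, rfl⟩
    obtain ⟨g', rfl⟩ := QuotientGroup.mk_surjective g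
    obtain ⟨N, hN, hdvd⟩ := Cfsg.Agent.Lib.H11.S8O.sp8_orderOf_dvd g'
    obtain ⟨h, hh, hord⟩ := Cfsg.Agent.Lib.H11.S8O.realize a b han N hN
    have hd : orderOf (QuotientGroup.mk g' :
        Cfsg.PSp 4 F) ∣ N :=
      (orderOf_map_dvd (QuotientGroup.mk' (Subgroup.center (Matrix.symplecticGroup (Fin 4) F))) g').trans hdvd
    obtain ⟨d, hd'⟩ : ∃ d, d = orderOf (QuotientGroup.mk g' : Cfsg.PSp 4 F) := ⟨_, rfl⟩
    rw [← hd'] at hd ⊢
    have hNpos : 0 < N := by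
      rw [← hord]
      exact orderOf_pos h
    have hdpos : 0 < d := Nat.pos_of_dvd_of_pos hd hNpos
    have hx : orderOf (⟨h, hh⟩ : ↥(Cfsg.isometryGroup F (Cfsg.quadFormMinus 3 F a b))) = N := by
      rw [Subgroup.orderOf_mk, hord]
    refine ⟨(⟨h, hh⟩ : ↥(Cfsg.isometryGroup F (Cfsg.quadFormMinus 3 F a b))) ^ (N / d), ?_⟩
    show orderOf ((⟨h, hh⟩ : ↥(Cfsg.isometryGroup F (Cfsg.quadFormMinus 3 F a b))) ^ (N / d)) = d
    rw [orderOf_pow_of_dvd (Nat.div_pos (Nat.le_of_dvd hNpos hd) hdpos).ne'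
      (by rw [hx]; exact Nat.div_dvd_of_dvd hd), hx, Nat.div_div_self hd hNpos.ne']
  · rintro n ⟨h, rfl⟩
    obtain ⟨g, hg⟩ := Cfsg.Agent.Lib.H11.S8O.exists_psp_orderOf 3 a b ha h
    exact ⟨g, hg⟩

end Cfsg.Agent.S3589
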