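import Cfsg.Statements.S3592
import Cfsg.Agent.S0420
import Cfsg.Agent.Lib.H18.M11Mult
import Cfsg.Agent.Lib.H13.NSE11S

set_option autoImplicit false
open Cfsg

namespace Cfsg.Agent.S3592

/-- Let M be the Mathieu group M₁₁ (order 7920). If a finite group G has the same order as M and the same set of values of the function 'number of elements of order n' (taken over the element orders n that occur), then G is isomorphic to M. -/
theorem result {G : Type*} [Group G] [Finite G]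
    (hcard : Nat.card G = Nat.card ↥Cfsg.Spor.M11)
    (hnse : {c : ℕ | 0 < c ∧ ∃ n : ℕ, c = Nat.card {g : G // orderOf g = n}} =
      {c : ℕ | 0 < c ∧ ∃ n : ℕ, c = Nat.card {g : ↥Cfsg.Spor.M11 // orderOf g = n}}) :
    Nonempty (G ≃* ↥Cfsg.Spor.M11) := by
  -- `M₁₁` is simple of order 7920
  have hM : Cfsg.IsM11 ↥Cfsg.Spor.M11 := by
    rw [Cfsg.Agent.Lib.H18.M11Mult.M11_eq]
    exact ⟨Cfsg.Agent.Lib.H28.isSimpleGroup_G11, Cfsg.Agent.Lib.H18.M11Mult.card_G11⟩
  have hGc : Nat.card G = 7920 := hcard.trans hM.2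
  -- every positive order-count of `G` is `Good`
  have hgoodG : ∀ n, 0 < Nat.card {g : G // orderOf g = n} →
      Cfsg.Agent.Lib.H13.NSE11.Good (Nat.card {g : G // orderOf g = n}) := by
    intro n hpos
    have hmem : Nat.card {g : G // orderOf g = n} ∈
        {c : ℕ | 0 < c ∧ ∃ n : ℕ, c = Nat.card {g : G // orderOf g = n}} := ⟨hpos, n, rfl⟩
    rw [hnse] at hmem
    obtain ⟨hpos', n', hn'⟩ := hmem
    rw [hn'] at hpos' ⊢
    exact Cfsg.Agent.Lib.H13.NSE11.good_of_isM11 hM n' hpos'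
  have hGs : IsSimpleGroup G := Cfsg.Agent.Lib.H13.NSE11.isSimpleGroup_of_good hGc hgoodG
  have hG : Cfsg.IsM11 G := ⟨hGs, hGc⟩
  -- a dodecad and a point on it
  have hd : Cfsg.Agent.Lib.H28.ptsMask Cfsg.Agent.Lib.H28.dod0 ∈ Cfsg.dodecads :=
    Cfsg.Agent.Lib.H28.ptsMask_dod0_mem
  obtain ⟨p, hp⟩ : ∃ p, p ∈ Cfsg.Agent.Lib.H28.ptsMask Cfsg.Agent.Lib.H28.dod0 := by
    apply Finset.card_pos.1
    rw [hd.2]
    norm_num
  obtain ⟨e1⟩ := Cfsg.Agent.S0420.result hG _ hd p hp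
  obtain ⟨e2⟩ := Cfsg.Agent.S0420.result hM _ hd p hp
  exact ⟨e1.trans e2.symm⟩

end Cfsg.Agent.S3592
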