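import Cfsg.Statements.S3599
import Cfsg.Agent.Lib.H22.CritB

set_option autoImplicit false
open Cfsg

namespace Cfsg.Agent.S3599

open Cfsg.Agent.Lib.H22

theorem fin2_cases (i : Fin 2) : i = 0 ∨ i = 1 := by
  fin_cases i <;> simp

theorem rev0 : Fin.rev (0 : Fin 2) = 1 := rfl
theorem rev1 : Fin.rev (1 : Fin 2) = 0 := rfl

theorem rev_ne (i : Fin 2) : Fin.rev i ≠ i := by
  fin_cases i <;> decide

theorem eq_rev_of_ne {i i' : Fin 2} (h : i ≠ i') : i' = Fin.rev i := by
  revert h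
  fin_cases i <;> fin_cases i' <;> decide

theorem Om_eq {s : ℕ} (p : Fin s → Fin 2 → ℕ) (b : Fin s → Fin 2) :
    Crit.Om (fun j => p j (b j)) (fun j => p j (Fin.rev (b j))) =
      {m : ℕ | ∃ c : Fin s → ℕ, (∀ j, c j = 1 ∨ c j = p j 0 ∨ c j = p j 1) ∧ m = ∏ j, c j} := by
  ext m
  constructor
  · rintro ⟨c, hc, rfl⟩
    refine ⟨c, fun j => ?_, rfl⟩
    have : c j = 1 ∨ c j = p j (b j) ∨ c j = p j (Fin.rev (b j)) := hc j
    rcases fin2_cases (b j) with h | h
    · rw [h, rev0] at this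
      exact this
    · rw [h, rev1] at this
      rcases this with h1 | h1 | h1
      · exact Or.inl h1
      · exact Or.inr (Or.inr h1)
      · exact Or.inr (Or.inl h1)
  · rintro ⟨c, hc, rfl⟩
    refine ⟨c, fun j => ?_, rfl⟩
    have := hc j
    show c j = 1 ∨ c j = p j (b j) ∨ c j = p j (Fin.rev (b j))
    rcases fin2_cases (b j) with h | h
    · rw [h, rev0]
      exact this
    · rw [h, rev1]
      rcases this with h1 | h1 | h1
      · exact Or.inl h1
      · exact Or.inr (Or.inr h1)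
      · exact Or.inr (Or.inl h1)

theorem assemble (s : ℕ) (p : Fin s → Fin 2 → ℕ)
    (hp : ∀ j i, (p j i).Prime) (hinj : ∀ j i j' i', p j i = p j' i' → j = j' ∧ i = i')
    (Fb : Fin s → Fin 2 → Type) [instG : ∀ j i, Group (Fb j i)] [instF : ∀ j i, Finite (Fb j i)]
    (Vb : ∀ j i, Subgroup (Fb j i))
    (hB : ∀ j i, Crit.IsBlock (p j i) (p j (Fin.rev i)) (Fb j i) (Vb j i)) :
    ∃ (G : Fin (2 ^ s) → Type) (_ : ∀ a, Group (G a)) (_ : ∀ a, Fintype (G a)),
      (∀ a b, a ≠ b → ¬ Nonempty (G a ≃* G b)) ∧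
      ∀ a, Set.range (orderOf : (G a) → ℕ) = {m : ℕ | ∃ c : Fin s → ℕ, (∀ j, c j = 1 ∨ c j = p j 0 ∨ c j = p j 1) ∧ m = ∏ j, c j} ∧
      ∀ (H : Subgroup (G a)) (N : Subgroup ↥H) [N.Normal], (H ≠ ⊤ ∨ N ≠ ⊥) → Set.range (orderOf : (↥H ⧸ N) → ℕ) ≠ {m : ℕ | ∃ c : Fin s → ℕ, (∀ j, c j = 1 ∨ c j = p j 0 ∨ c j = p j 1) ∧ m = ∏ j, c j} := by
  classical
  let bits : Fin (2 ^ s) → Fin s → Fin 2 := fun a => finFunctionFinEquiv.symm a
  have hP : ∀ (b : Fin s → Fin 2) (j : Fin s), (p j (b j)).Prime := fun b j => hp j _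
  have hQ : ∀ (b : Fin s → Fin 2) (j : Fin s), (p j (Fin.rev (b j))).Prime := fun b j => hp j _
  have hPQ : ∀ (b : Fin s → Fin 2) (j : Fin s), p j (b j) ≠ p j (Fin.rev (b j)) := by
    intro b j h
    exact rev_ne (b j) (hinj _ _ _ _ h).2.symm
  have hd : ∀ (b : Fin s → Fin 2) (j j' : Fin s), j ≠ j' →
      p j (b j) ≠ p j' (b j') ∧ p j (b j) ≠ p j' (Fin.rev (b j')) ∧
      p j (Fin.rev (b j)) ≠ p j' (b j') ∧ p j (Fin.rev (b j)) ≠ p j' (Fin.rev (b j')) := by
    intro b j j' hjj'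
    refine ⟨?_, ?_, ?_, ?_⟩ <;> intro h <;> exact hjj' (hinj _ _ _ _ h).1
  refine ⟨fun a => ∀ j, Fb j (bits a j), fun a => inferInstance, fun a => Fintype.ofFinite _,
    ?_, ?_⟩
  · intro a b hab
    have hbits : bits a ≠ bits b := by
      intro h
      exact hab (finFunctionFinEquiv.symm.injective h)
    obtain ⟨j0, hj0⟩ : ∃ j0, bits a j0 ≠ bits b j0 := by
      by_contra h
      push Not at h
      exact hbits (funext h)
    have hrev := eq_rev_of_ne hj0
    apply Crit.not_iso (F := fun j => Fb j (bits a j)) (F' := fun j => Fb j (bits b j))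
      (V := fun j => Vb j (bits a j)) (V' := fun j => Vb j (bits b j))
      (P := fun j => p j (bits a j)) (Q := fun j => p j (Fin.rev (bits a j)))
      (P' := fun j => p j (bits b j)) (Q' := fun j => p j (Fin.rev (bits b j)))
      (hP (bits b)) (hQ (bits b)) (hPQ (bits b)) (hd (bits b))
      (fun j => hB j (bits a j)) (fun j => hB j (bits b j)) j0
    show p j0 (bits a j0) = p j0 (Fin.rev (bits b j0))
    rw [hrev, Fin.rev_rev]
  · intro a
    constructor
    · rw [← Om_eq p (bits a)]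
      exact Crit.range_orderOf (F := fun j => Fb j (bits a j)) (V := fun j => Vb j (bits a j))
        (hP (bits a)) (hQ (bits a)) (hd (bits a)) (fun j => hB j (bits a j))
    · intro H N _ hHN
      rw [← Om_eq p (bits a)]
      exact Crit.critical (F := fun j => Fb j (bits a j)) (V := fun j => Vb j (bits a j))
        (hP (bits a)) (hQ (bits a)) (hPQ (bits a)) (hd (bits a)) (fun j => hB j (bits a j))
        H N hHN

/-- A finite group is critical with respect to a set Ω of natural numbers when its set of element orders is Ω while no proper section H/N (H a subgroup, N normal in H, (H, N) ≠ (whole group, 1)) has Ω as its set of element orders. Let s ≥ 1 and let p(j,0), p(j,1) (j < s) be 2s pairwise distinct primes, and let Ω be the set of all products c(0)·…·c(s−1) with each c(j) ∈ {1, p(j,0), p(j,1)}. Then there are 2^s pairwise non-isomorphic finite groups critical with respect to Ω. -/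
theorem result (s : ℕ) (hs : 1 ≤ s) (p : Fin s → Fin 2 → ℕ)
    (hp : ∀ j i, (p j i).Prime) (hinj : ∀ j i j' i', p j i = p j' i' → j = j' ∧ i = i') :
    ∃ (G : Fin (2 ^ s) → Type) (_ : ∀ a, Group (G a)) (_ : ∀ a, Fintype (G a)),
      (∀ a b, a ≠ b → ¬ Nonempty (G a ≃* G b)) ∧
      ∀ a, Set.range (orderOf : (G a) → ℕ) = {m : ℕ | ∃ c : Fin s → ℕ, (∀ j, c j = 1 ∨ c j = p j 0 ∨ c j = p j 1) ∧ m = ∏ j, c j} ∧
      ∀ (H : Subgroup (G a)) (N : Subgroup ↥H) [N.Normal], (H ≠ ⊤ ∨ N ≠ ⊥) → Set.range (orderOf : (↥H ⧸ N) → ℕ) ≠ {m : ℕ | ∃ c : Fin s → ℕ, (∀ j, c j = 1 ∨ c j = p j 0 ∨ c j = p j 1) ∧ m = ∏ j, c j} := by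
  have hne : ∀ j i, p j i ≠ p j (Fin.rev i) := by
    intro j i h
    exact rev_ne i (hinj _ _ _ _ h).2.symm
  choose Fb instG instF Vb hVb using fun (j : Fin s) (i : Fin 2) =>
    Crit.exists_block (p j i) (p j (Fin.rev i)) (hp j i) (hp j _) (hne j i)
  exact @assemble s p hp hinj Fb instG instF Vb hVb

end Cfsg.Agent.S3599
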