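import Cfsg.Statements.S3619
import Mathlib

set_option autoImplicit false
open Cfsg

namespace Cfsg.Agent.S3619

open MulAction
open scoped Pointwise

section
variable {G Ω : Type*} [Group G] [MulAction G Ω]

/-- The normal core of the setwise stabilizers of the translates of `B`. -/
def blockKernel (G : Type*) {Ω : Type*} [Group G] [MulAction G Ω] (B : Set Ω) : Subgroup G :=
  ⨅ g : G, stabilizer G (g • B)

theorem mem_blockKernel {B : Set Ω} {n : G} :
    n ∈ blockKernel G B ↔ ∀ g : G, n • (g • B) = g • B := by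
  simp [blockKernel, Subgroup.mem_iInf, mem_stabilizer_iff]

theorem blockKernel_normal (B : Set Ω) : (blockKernel G B).Normal := by
  constructor
  intro n hn x
  rw [mem_blockKernel] at hn ⊢
  intro g
  have := hn (x⁻¹ * g)
  calc (x * n * x⁻¹) • g • B = x • (n • ((x⁻¹ * g) • B)) := by
        simp only [smul_smul]; congr 1; group
    _ = x • ((x⁻¹ * g) • B) := by rw [this]
    _ = g • B := by simp only [smul_smul]; congr 1; group

/-- Quasiprimitive group with a Jordan set on which the fixing subgroup is primitive is primitive. -/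
theorem preprimitive_of_quasi [Finite Ω]
    (hqp : ∀ N : Subgroup G, N.Normal → N ≠ ⊥ → IsPretransitive ↥N Ω)
    (Γ : Set Ω) (hΓ1 : 1 < Γ.ncard)
    (hJp : IsPreprimitive ↥(fixingSubgroup G Γᶜ) ↥(SubMulAction.ofFixingSubgroup G Γᶜ)) :
    IsPreprimitive G Ω := by
  classical
  obtain ⟨x₁, hx₁, x₂, hx₂, hne⟩ := (Set.one_lt_ncard (Set.toFinite Γ)).mp hΓ1
  -- an element of J moving x₁ to x₂
  have hmemY : ∀ x, x ∈ Γ → x ∈ SubMulAction.ofFixingSubgroup G Γᶜ := by
    intro x hx
    rw [SubMulAction.mem_ofFixingSubgroup_iff]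
    simpa using hx
  obtain ⟨j₀, hj₀⟩ := hJp.toIsPretransitive.exists_smul_eq
    (⟨x₁, hmemY x₁ hx₁⟩ : SubMulAction.ofFixingSubgroup G Γᶜ) ⟨x₂, hmemY x₂ hx₂⟩
  have hj₀' : (j₀ : G) • x₁ = x₂ := by
    have := congrArg (fun z : SubMulAction.ofFixingSubgroup G Γᶜ => (z : Ω)) hj₀
    exact this
  have hj₀1 : (j₀ : G) ≠ 1 := by
    intro h
    rw [h, one_smul] at hj₀'
    exact hne hj₀'
  -- G is pretransitive
  have htop : (⊤ : Subgroup G) ≠ ⊥ := by
    intro h
    apply hj₀1
    have : (j₀ : G) ∈ (⊤ : Subgroup G) := Subgroup.mem_top _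
    rw [h] at this
    exact Subgroup.mem_bot.mp this
  have htrans : IsPretransitive G Ω := by
    have := hqp ⊤ inferInstance htop
    constructor
    intro x y
    obtain ⟨g, hg⟩ := this.exists_smul_eq x y
    exact ⟨(g : G), hg⟩
  -- key: elements of J stabilize every nontrivial block
  have hJfix : ∀ (B' : Set Ω), IsBlock G B' → B'.Nontrivial →
      ∀ j : G, j ∈ fixingSubgroup G Γᶜ → j • B' = B' := by
    intro B' hB' hnt j hj
    rw [mem_fixingSubgroup_iff] at hj
    by_cases hcase : ∃ x ∈ B', x ∈ Γᶜ
    · obtain ⟨x, hxB, hxs⟩ := hcase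
      have hjx : j • x = x := hj x hxs
      exact (isBlock_iff_smul_eq_of_mem.mp hB') hxB (by rw [hjx]; exact hxB)
    · push Not at hcase
      have hsub : B' ⊆ Γ := by
        intro x hx
        have := hcase x hx
        simpa using this
      have hBJ : IsBlock (fixingSubgroup G Γᶜ) B' := hB'.subgroup
      have hC : IsBlock (fixingSubgroup G Γᶜ)
          (Subtype.val ⁻¹' B' : Set (SubMulAction.ofFixingSubgroup G Γᶜ)) :=
        hBJ.subtype_val_preimage
      rcases hJp.isTrivialBlock_of_isBlock hC with hsubs | huniv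
      · exfalso
        obtain ⟨u, hu, v, hv, huv⟩ := hnt
        have h1 : (⟨u, hmemY u (hsub hu)⟩ : SubMulAction.ofFixingSubgroup G Γᶜ) ∈
            (Subtype.val ⁻¹' B' : Set (SubMulAction.ofFixingSubgroup G Γᶜ)) := hu
        have h2 : (⟨v, hmemY v (hsub hv)⟩ : SubMulAction.ofFixingSubgroup G Γᶜ) ∈
            (Subtype.val ⁻¹' B' : Set (SubMulAction.ofFixingSubgroup G Γᶜ)) := hv
        have := hsubs h1 h2
        exact huv (congrArg Subtype.val this)
      · obtain ⟨u, hu⟩ := hnt.nonempty
        have huΓ : u ∈ Γ := hsub hu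
        have hjuΓ : j • u ∈ Γ := by
          by_contra hnot
          have h1 : j • (j • u) = j • u := hj (j • u) hnot
          have h2 : j • u = u := (MulAction.injective j) h1
          rw [h2] at hnot
          exact hnot huΓ
        have hjuB : j • u ∈ B' := by
          have : (⟨j • u, hmemY _ hjuΓ⟩ : SubMulAction.ofFixingSubgroup G Γᶜ) ∈
              (Subtype.val ⁻¹' B' : Set (SubMulAction.ofFixingSubgroup G Γᶜ)) := by
            rw [huniv]; exact Set.mem_univ _
          exact this
        exact (isBlock_iff_smul_eq_of_mem.mp hB') hu hjuB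
  refine { toIsPretransitive := htrans, isTrivialBlock_of_isBlock := ?_ }
  intro B hB
  by_cases hsubs : B.Subsingleton
  · exact Or.inl hsubs
  · right
    have hnt : B.Nontrivial := Set.not_subsingleton_iff.mp hsubs
    by_contra hBuniv
    -- the block kernel is trivial
    have hNbot : blockKernel G B = ⊥ := by
      by_contra hN
      have hNt := hqp (blockKernel G B) (blockKernel_normal B) hN
      apply hBuniv
      obtain ⟨b, hb⟩ := hnt.nonempty
      rw [Set.eq_univ_iff_forall]
      intro ω
      obtain ⟨n, hn⟩ := hNt.exists_smul_eq b ω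
      have hnB : (n : G) • B = B := by
        have := (mem_blockKernel.mp n.2) 1
        simpa using this
      rw [← hnB]
      exact ⟨b, hb, hn⟩
    have hj₀N : (j₀ : G) ∈ blockKernel G B := by
      rw [mem_blockKernel]
      intro g
      apply hJfix (g • B) (hB.translate g) _ (j₀ : G) j₀.2
      obtain ⟨u, hu, v, hv, huv⟩ := hnt
      exact ⟨g • u, Set.smul_mem_smul_set hu, g • v, Set.smul_mem_smul_set hv,
        fun h => huv ((MulAction.injective g) h)⟩
    rw [hNbot] at hj₀N
    exact hj₀1 (Subgroup.mem_bot.mp hj₀N)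

end

/-- Let G act faithfully on a finite set in such a way that every non-trivial normal subgroup of G is transitive (G is quasiprimitive). Let Γ be a subset with more than one point and not the whole set, such that the pointwise stabilizer of the complement of Γ acts transitively on Γ (a Jordan set). If that pointwise stabilizer acts primitively on Γ, then G is k-fold transitive where k is one more than the number of points outside Γ (the Jordan set is a trivial one). -/
theorem result {G Ω : Type*} [Group G] [Finite G] [MulAction G Ω] [FaithfulSMul G Ω] [Finite Ω]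
    (hqp : ∀ N : Subgroup G, N.Normal → N ≠ ⊥ → MulAction.IsPretransitive ↥N Ω)
    (Γ : Set Ω) (hΓ1 : 1 < Γ.ncard) (hΓ2 : Γ.ncard < Nat.card Ω)
    (hJ : MulAction.IsPretransitive ↥(fixingSubgroup G Γᶜ) ↥(SubMulAction.ofFixingSubgroup G Γᶜ))
    (hJp : MulAction.IsPreprimitive ↥(fixingSubgroup G Γᶜ) ↥(SubMulAction.ofFixingSubgroup G Γᶜ)) :
    MulAction.IsMultiplyPretransitive G Ω (Nat.card Ω - Γ.ncard + 1) := by
  have hprim := preprimitive_of_quasi hqp Γ hΓ1 hJp
  have hcompl : (Γᶜ).ncard = Nat.card Ω - Γ.ncard := Set.ncard_compl Γ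
  obtain ⟨n, hn⟩ : ∃ n, Nat.card Ω - Γ.ncard = n + 1 := ⟨Nat.card Ω - Γ.ncard - 1, by omega⟩
  have hsn : (Γᶜ).ncard = n + 1 := by rw [hcompl, hn]
  have hsn' : n + 2 < Nat.card Ω := by omega
  have h := hprim.isMultiplyPreprimitive hsn hsn' hJp
  have e : Nat.card Ω - Γ.ncard + 1 = n + 2 := by omega
  rw [e]
  exact IsMultiplyPreprimitive.isMultiplyPretransitive G Ω (n + 2)

end Cfsg.Agent.S3619
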