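import Cfsg.Statements.S3626
import Cfsg.Agent.S1159
import Cfsg.Agent.Lib.H17.LargeIsospectral
import Cfsg.Agent.Lib.H4.ReeSpecDefs
import Cfsg.Agent.Lib.H3.RSCOMB
import Cfsg.Agent.Lib.H8.RSY1
import Cfsg.Agent.Lib.H22.RSW96
import Cfsg.Agent.Lib.H1.RSWA
import Cfsg.Agent.Lib.H18.RSWB
import Cfsg.Agent.Lib.H18.RSV

set_option autoImplicit false
open Cfsg

namespace Cfsg.Agent.S3626

open Cfsg.Agent.Lib.H4.ReeSpec

/-- `1 × 1 × V` is a nontrivial normal elementary abelian `3`-subgroup of `R × R × Y`. -/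
theorem prod_bot_props {R Y : Type*} [Group R] [Group Y] (V : Subgroup Y) (hVn : V.Normal) (hV : V ≠ ⊥)
    (hcomm : ∀ x y : V, x * y = y * x) (hexp : ∀ x : V, x ^ 3 = 1) :
    (((⊥ : Subgroup R).prod ((⊥ : Subgroup R).prod V)).Normal) ∧
      ((⊥ : Subgroup R).prod ((⊥ : Subgroup R).prod V)) ≠ ⊥ ∧
      (∀ x y : ((⊥ : Subgroup R).prod ((⊥ : Subgroup R).prod V)), x * y = y * x) ∧
      (∀ x : ((⊥ : Subgroup R).prod ((⊥ : Subgroup R).prod V)), x ^ 3 = 1) := by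
  refine ⟨inferInstance, ?_, ?_, ?_⟩
  · intro h
    apply hV
    rw [Subgroup.eq_bot_iff_forall]
    intro v hv
    have hmem : ((1 : R), ((1 : R), v)) ∈ ((⊥ : Subgroup R).prod ((⊥ : Subgroup R).prod V)) := by
      simp [Subgroup.mem_prod, hv]
    rw [h, Subgroup.mem_bot] at hmem
    simpa using hmem
  · rintro ⟨⟨x1, x2, x3⟩, hx⟩ ⟨⟨y1, y2, y3⟩, hy⟩
    simp only [Subgroup.mem_prod, Subgroup.mem_bot] at hx hy
    obtain ⟨rfl, rfl, hx3⟩ := hx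
    obtain ⟨rfl, rfl, hy3⟩ := hy
    have := hcomm ⟨x3, hx3⟩ ⟨y3, hy3⟩
    have h3 : x3 * y3 = y3 * x3 := congrArg Subtype.val this
    apply Subtype.ext
    simp [h3]
  · rintro ⟨⟨x1, x2, x3⟩, hx⟩
    simp only [Subgroup.mem_prod, Subgroup.mem_bot] at hx
    obtain ⟨rfl, rfl, hx3⟩ := hx
    have := hexp ⟨x3, hx3⟩
    have h3 : x3 ^ 3 = 1 := congrArg Subtype.val this
    apply Subtype.ext
    simp [h3]

/-- Let R be the small Ree group over the field with q = 3^(2m+1) ≥ 27 elements. Then there are finite groups of arbitrarily large order with exactly the same set of element orders as R × R × R. -/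
theorem result {K : Type*} [Field K] [Fintype K] {m : ℕ} (hm : 1 ≤ m) (hK : Fintype.card K = 3 ^ (2 * m + 1)) (N : ℕ) :
    ∃ (H : Type) (_ : Group H) (_ : Fintype H), N < Fintype.card H ∧
      Set.range (orderOf : H → ℕ) = Set.range (orderOf : ↥(Cfsg.Lie.twistedG2 K (3 ^ m)) × ↥(Cfsg.Lie.twistedG2 K (3 ^ m)) × ↥(Cfsg.Lie.twistedG2 K (3 ^ m)) → ℕ) := by
  classical
  have : CharP K 3 := Cfsg.Agent.Lib.H29.Chev.charP_of_card_pow 3 (2 * m + 1) (by norm_num) hK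
  have hq1 : (3 : ℕ) ^ (2 * m + 1) - 1 ≠ 0 := by
    have : 3 ^ 1 ≤ 3 ^ (2 * m + 1) := Nat.pow_le_pow_right (by norm_num) (by omega)
    omega
  have hq2 : ((3 : ℕ) ^ (2 * m + 1) + 1) / 2 ≠ 0 := by
    have : 3 ^ 1 ≤ 3 ^ (2 * m + 1) := Nat.pow_le_pow_right (by norm_num) (by omega)
    omega
  have hspec := Cfsg.Agent.Lib.H3.RS.range_orderOf_eq (R := ↥(Cfsg.Lie.twistedG2 K (3 ^ m))) (Y := Y K)
    (3 ^ (2 * m + 1) - 1) ((3 ^ (2 * m + 1) + 1) / 2) (3 ^ (2 * m + 1) - 3 ^ (m + 1) + 1)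
    (3 ^ (2 * m + 1) + 3 ^ (m + 1) + 1) (fun n => Cfsg.Agent.S1159.result hm hK n)
    (Cfsg.Agent.Lib.H8.RS.Y_orders hK) Cfsg.Agent.Lib.H22.RS.exists_orderOf_six
    Cfsg.Agent.Lib.H22.RS.exists_orderOf_nine
    (Cfsg.Agent.Lib.H1.RS.exists_orderOf_pred hK) (Cfsg.Agent.Lib.H18.RS.exists_orderOf_half_succ hK) hq1 hq2
  obtain ⟨hVn, hVne, hVc, hVe⟩ := Cfsg.Agent.Lib.H18.RS.inl_range_props (K := K)
  obtain ⟨hn, hne, hc, he⟩ :=
    prod_bot_props (R := ↥(Cfsg.Lie.twistedG2 K (3 ^ m))) _ hVn hVne hVc hVe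
  have hfY : Finite (Y K) := Cfsg.Agent.Lib.H18.RS.finite_Y
  obtain ⟨H, iG, iF, hN, hH⟩ := Cfsg.Agent.Lib.H17.exists_large_isospectral_of_elemAb
    (G := ↥(Cfsg.Lie.twistedG2 K (3 ^ m)) × ↥(Cfsg.Lie.twistedG2 K (3 ^ m)) × Y K) _ hne 3
    Nat.prime_three hc he N
  exact ⟨H, iG, iF, hN, hH.trans hspec⟩

end Cfsg.Agent.S3626
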