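import Cfsg.Statements.S3634
import Cfsg.Agent.Lib.H18.FrobAction

set_option autoImplicit false
open Cfsg

namespace Cfsg.Agent.S3634

open Cfsg.Agent.Lib.H18

/-- From commuting nonidentity elements of `p`-power and `s`-power order, get an element of
order `p * s`. -/
theorem exists_orderOf_eq_mul {G : Type*} [Group G] {p s : ℕ} (hp : p.Prime) (hs : s.Prime)
    (hps : p ≠ s) (g h : G) (hg1 : g ≠ 1) (hh1 : h ≠ 1) (hg : ∃ k, g ^ (p ^ k) = 1)
    (hh : ∃ l, h ^ (s ^ l) = 1) (hc : Commute g h) : ∃ y : G, orderOf y = p * s := by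
  have key : ∀ {t : ℕ} (ht : t.Prime) (z : G) (hz1 : z ≠ 1) (hz : ∃ k, z ^ (t ^ k) = 1),
      ∃ m : ℕ, orderOf (z ^ m) = t := by
    intro t ht z hz1 hz
    obtain ⟨k, hk⟩ := hz
    obtain ⟨a, _, ha⟩ := (Nat.dvd_prime_pow ht).mp (orderOf_dvd_of_pow_eq_one hk)
    have ha1 : a ≠ 0 := by
      intro h0
      rw [h0, pow_zero, orderOf_eq_one_iff] at ha
      exact hz1 ha
    obtain ⟨b, rfl⟩ : ∃ b, a = b + 1 := ⟨a - 1, by omega⟩
    refine ⟨t ^ b, ?_⟩
    rw [orderOf_pow_of_dvd (pow_ne_zero _ ht.ne_zero) (by rw [ha]; exact pow_dvd_pow t (by omega)),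
      ha, pow_succ, Nat.mul_div_cancel_left _ (pow_pos ht.pos b)]
  obtain ⟨m, hm⟩ := key hp g hg1 hg
  obtain ⟨n, hn⟩ := key hs h hh1 hh
  refine ⟨g ^ m * h ^ n, ?_⟩
  have hc' : Commute (g ^ m) (h ^ n) := (hc.pow_left m).pow_right n
  rw [hc'.orderOf_mul_eq_mul_orderOf_of_coprime (by rw [hm, hn]; exact (Nat.coprime_primes hp hs).mpr hps),
    hm, hn]

/-- Core: a finite group with a nontrivial normal `p`-subgroup, a nontrivial `q`-subgroup `Q`
and an element `x` of order `r` normalizing `Q` has an element of order `pq`, `pr` or `qr`. -/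
theorem core {H : Type*} [Group H] [Finite H] {p q r : ℕ} (hp : p.Prime) (hq : q.Prime)
    (hr : r.Prime) (hpq : p ≠ q) (hpr : p ≠ r) (hqr : q ≠ r)
    (P : Subgroup H) [P.Normal] (hP : IsPGroup p P) (hP1 : P ≠ ⊥)
    (Q : Subgroup H) (hQ : IsPGroup q Q) (hQ1 : Q ≠ ⊥)
    (x : H) (hx : orderOf x = r) (hxQ : ∀ b ∈ Q, x * b * x⁻¹ ∈ Q) :
    (∃ y : H, orderOf y = p * q) ∨ (∃ y : H, orderOf y = p * r) ∨ (∃ y : H, orderOf y = q * r) := by
  by_contra hcon
  push Not at hcon
  obtain ⟨h1, h2, h3⟩ := hcon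
  have : Fact p.Prime := ⟨hp⟩
  have : Fact q.Prime := ⟨hq⟩
  -- the centre of P as a normal subgroup of H
  let W : Subgroup H := (Subgroup.center P).map P.subtype
  have hWn : W.Normal := inferInstance
  have hWP : W ≤ P := by
    intro w hw
    obtain ⟨z, _, rfl⟩ := hw
    exact z.2
  have hWcomm : ∀ a ∈ W, ∀ b ∈ W, a * b = b * a := by
    intro a ha b hb
    obtain ⟨z, hz, rfl⟩ := ha
    obtain ⟨z', hz', rfl⟩ := hb
    have := Subgroup.mem_center_iff.mp hz z'
    have h := congrArg (fun t : P => (t : H)) this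
    simpa using h.symm
  let _ : CommGroup W := { (inferInstance : Group W) with
    mul_comm := fun a b => Subtype.ext (hWcomm a a.2 b b.2) }
  have hW1 : ∃ w : W, w ≠ 1 := by
    have hPnt : Nontrivial P := (Subgroup.nontrivial_iff_ne_bot P).mpr hP1
    have := hP.center_nontrivial
    obtain ⟨z, hz⟩ := exists_ne (1 : Subgroup.center P)
    refine ⟨⟨(z : P), ⟨(z : P), z.2, rfl⟩⟩, ?_⟩
    intro h
    apply hz
    have h' := congrArg (fun t : W => (t : H)) h
    apply Subtype.ext
    apply Subtype.ext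
    simpa using h'
  have hWp : ∀ w : W, ∃ k, (w : H) ^ (p ^ k) = 1 := by
    intro w
    obtain ⟨k, hk⟩ := hP ⟨(w : H), hWP w.2⟩
    refine ⟨k, ?_⟩
    have := congrArg (fun t : P => (t : H)) hk
    simpa using this
  have hQq : ∀ b ∈ Q, ∃ k, b ^ (q ^ k) = 1 := by
    intro b hb
    obtain ⟨k, hk⟩ := hQ ⟨b, hb⟩
    refine ⟨k, ?_⟩
    have := congrArg (fun t : Q => (t : H)) hk
    simpa using this
  have hx1 : x ≠ 1 := by
    intro h; rw [h, orderOf_one] at hx; exact hr.one_lt.ne hx
  have hxr : ∃ l, x ^ (r ^ l) = 1 := ⟨1, by rw [pow_one, ← hx]; exact pow_orderOf_eq_one x⟩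
  -- apply the Frobenius action lemma
  obtain ⟨w, hw⟩ := hW1
  have hw1 : (w : H) ≠ 1 := fun h => hw (Subtype.ext h)
  have hexp := frob_action_lemma (MulAut.conjNormal (H := W)) Q x r hr.pos
    (by rw [← hx]; exact pow_orderOf_eq_one x) hxQ
    (by
      intro i hi0 hir b hb hcomm
      by_contra hb1
      -- x^i has order r
      have hxi : orderOf (x ^ i) = r := by
        rw [orderOf_pow, hx]
        have : Nat.gcd r i = 1 := by
          rw [Nat.gcd_comm]
          exact Nat.Coprime.symm ((Nat.Prime.coprime_iff_not_dvd hr).mpr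
            (Nat.not_dvd_of_pos_of_lt hi0 hir))
        rw [this, Nat.div_one]
      have hxi1 : x ^ i ≠ 1 := by
        intro h; rw [h, orderOf_one] at hxi; exact hr.one_lt.ne hxi
      obtain ⟨y, hy⟩ := exists_orderOf_eq_mul hq hr hqr b (x ^ i) hb1 hxi1 (hQq b hb)
        ⟨1, by rw [pow_one, ← hxi]; exact pow_orderOf_eq_one _⟩ (by
          exact hcomm.symm)
      exact h3 y hy)
    (by
      intro v hv
      by_contra hv1
      have hv1' : (v : H) ≠ 1 := fun h => hv1 (Subtype.ext h)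
      -- an element of Q different from 1
      obtain ⟨b', hb'⟩ := (Subgroup.ne_bot_iff_exists_ne_one).mp hQ1
      obtain ⟨b, hb, hb1⟩ : ∃ b : H, b ∈ Q ∧ b ≠ 1 :=
        ⟨(b' : H), b'.2, fun h => hb' (Subtype.ext h)⟩
      have hcomm : Commute (v : H) b := by
        have := hv b hb
        have h := congrArg (fun t : W => (t : H)) this
        simp only [MulAut.conjNormal_apply] at h
        -- b * v * b⁻¹ = v
        have h' : b * (v : H) = (v : H) * b := by
          calc b * (v : H) = (b * (v : H) * b⁻¹) * b := by group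
            _ = (v : H) * b := by rw [h]
        exact h'.symm
      obtain ⟨y, hy⟩ := exists_orderOf_eq_mul hp hq hpq (v : H) b hv1' hb1 (hWp v) (hQq b hb) hcomm
      exact h1 y hy)
    (by
      intro v hv
      by_contra hv1
      have hv1' : (v : H) ≠ 1 := fun h => hv1 (Subtype.ext h)
      have hcomm : Commute (v : H) x := by
        have h := congrArg (fun t : W => (t : H)) hv
        simp only [MulAut.conjNormal_apply] at h
        have h' : x * (v : H) = (v : H) * x := by
          calc x * (v : H) = (x * (v : H) * x⁻¹) * x := by group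
            _ = (v : H) * x := by rw [h]
        exact h'.symm
      obtain ⟨y, hy⟩ := exists_orderOf_eq_mul hp hr hpr (v : H) x hv1' hx1 (hWp v) hxr hcomm
      exact h2 y hy)
    w
  -- w has p-power order and q-power order, hence trivial
  obtain ⟨k, hk⟩ := hWp w
  obtain ⟨l, hl⟩ := (IsPGroup.iff_card).mp hQ
  rw [hl] at hexp
  have hexp' : (w : H) ^ (q ^ l) = 1 := by
    have := congrArg (fun t : W => (t : H)) hexp
    simpa using this
  have hd1 : orderOf (w : H) ∣ p ^ k := orderOf_dvd_of_pow_eq_one hk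
  have hd2 : orderOf (w : H) ∣ q ^ l := orderOf_dvd_of_pow_eq_one hexp'
  have hcop : Nat.Coprime (p ^ k) (q ^ l) :=
    Nat.Coprime.pow _ _ ((Nat.coprime_primes hp hq).mpr hpq)
  have : orderOf (w : H) = 1 := Nat.eq_one_of_dvd_coprimes hcop hd1 hd2
  exact hw1 (orderOf_eq_one_iff.mp this)

/-- Frattini's argument followed by Cauchy's theorem. -/
theorem frattini_cauchy {G : Type*} [Group G] [Finite G] (N : Subgroup G) [N.Normal] {s t : ℕ}
    [Fact s.Prime] (ht : t.Prime) (Q : Sylow s N) (hdvd : t ∣ N.index) :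
    ∃ x : G, x ∈ Subgroup.normalizer ((Subgroup.map N.subtype (Q : Subgroup N) : Subgroup G) : Set G)
      ∧ orderOf x = t := by
  have hF := Sylow.normalizer_sup_eq_top Q
  set L := Subgroup.normalizer ((Subgroup.map N.subtype (Q : Subgroup N) : Subgroup G) : Set G)
  have h1 : N.relIndex L = N.index := by
    rw [← Subgroup.relIndex_sup_right, hF, Subgroup.relIndex_top_right]
  have h2 : t ∣ Nat.card L := by
    rw [← h1] at hdvd
    exact hdvd.trans (Subgroup.relIndex_dvd_card N L)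
  have : Fact t.Prime := ⟨ht⟩
  obtain ⟨x, hx⟩ := exists_prime_orderOf_dvd_card' t h2
  exact ⟨(x : G), x.2, by rw [Subgroup.orderOf_coe]; exact hx⟩

theorem relIndex_eq_div {G : Type*} [Group G] [Finite G] (K M : Subgroup G) (hKM : K ≤ M) :
    Nat.card M / Nat.card K = K.relIndex M := by
  have h1 : (K.subgroupOf M).index * Nat.card (K.subgroupOf M) = Nat.card M :=
    Subgroup.index_mul_card _
  have h2 : Nat.card (K.subgroupOf M) = Nat.card K :=
    Nat.card_congr (Subgroup.subgroupOfEquivOfLe hKM).toEquiv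
  rw [h2] at h1
  have hpos : 0 < Nat.card K := Nat.card_pos
  rw [← h1, Nat.mul_div_cancel _ hpos]
  rfl

theorem index_eq_div {G : Type*} [Group G] [Finite G] (M : Subgroup G) :
    Nat.card G / Nat.card M = M.index := by
  have h1 : Nat.card M * M.index = Nat.card G := Subgroup.card_mul_index M
  have hpos : 0 < Nat.card M := Nat.card_pos
  rw [← h1, Nat.mul_div_cancel_left _ hpos]

/-- Let G be a finite group with normal subgroups K ≤ M, and let p, q, r be distinct primes with p dividing the order of K, q dividing the order of M/K and r dividing the order of G/M. Then p, q, r are not pairwise non-adjacent in the prime graph of G: G has an element of order pq, pr or qr. -/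
theorem result {G : Type*} [Group G] [Finite G] (K M : Subgroup G) [K.Normal] [M.Normal] (hKM : K ≤ M)
    (p q r : ℕ) (hp : p.Prime) (hq : q.Prime) (hr : r.Prime) (hpq : p ≠ q) (hpr : p ≠ r) (hqr : q ≠ r)
    (hpK : p ∣ Nat.card ↥K) (hqM : q ∣ Nat.card ↥M / Nat.card ↥K) (hrG : r ∣ Nat.card G / Nat.card ↥M) :
    (∃ x : G, orderOf x = p * q) ∨ (∃ x : G, orderOf x = p * r) ∨ (∃ x : G, orderOf x = q * r) := by
  classical
  have : Fact p.Prime := ⟨hp⟩
  have : Fact q.Prime := ⟨hq⟩
  rw [relIndex_eq_div K M hKM] at hqM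
  rw [index_eq_div M] at hrG
  -- a Sylow p-subgroup of K
  let P : Sylow p K := default
  have hPne : (P : Subgroup K) ≠ ⊥ := P.ne_bot_of_dvd_card hpK
  set P₀ : Subgroup G := Subgroup.map K.subtype (P : Subgroup K) with hP₀
  set N₁ : Subgroup G := Subgroup.normalizer (P₀ : Set G) with hN₁
  have hF : N₁ ⊔ K = ⊤ := Sylow.normalizer_sup_eq_top P
  have hP₀N : P₀ ≤ N₁ := Subgroup.le_normalizer
  have hP₀p : IsPGroup p P₀ := P.isPGroup'.map K.subtype
  have hP₀1 : P₀ ≠ ⊥ := by
    intro h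
    exact hPne ((Subgroup.map_eq_bot_iff_of_injective _ K.subtype_injective).mp h)
  -- inside N₁
  let P₁ : Subgroup N₁ := P₀.subgroupOf N₁
  have hP₁n : P₁.Normal := Subgroup.normal_in_normalizer
  have hP₁p : IsPGroup p P₁ := hP₀p.comap_subtype
  have hP₁1 : P₁ ≠ ⊥ := by
    intro h
    rw [Subgroup.subgroupOf_eq_bot] at h
    apply hP₀1
    have := h.eq_bot
    rwa [inf_of_le_left hP₀N] at this
  let M₁ : Subgroup N₁ := M.subgroupOf N₁
  have hM₁n : M₁.Normal := inferInstance
  -- q divides |M₁|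
  have hsup : (M ⊓ N₁) ⊔ K = M := by
    apply le_antisymm (sup_le inf_le_left hKM)
    intro m hm
    have hm' : m ∈ ((N₁ ⊔ K : Subgroup G) : Set G) := by rw [hF]; trivial
    rw [Subgroup.mul_normal] at hm'
    obtain ⟨n, hn, k, hk, rfl⟩ := Set.mem_mul.mp hm'
    have hnM : n ∈ M := by
      have : n = (n * k) * k⁻¹ := by group
      rw [this]
      exact M.mul_mem hm (M.inv_mem (hKM hk))
    exact Subgroup.mul_mem_sup (Subgroup.mem_inf.mpr ⟨hnM, hn⟩) hk
  have hqM₁ : q ∣ Nat.card M₁ := by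
    have h1 : K.relIndex M = K.relIndex (M ⊓ N₁) := by
      rw [← hsup, Subgroup.relIndex_sup_right, hsup]
    rw [h1] at hqM
    have h2 := hqM.trans (Subgroup.relIndex_dvd_card K (M ⊓ N₁))
    have h3 : Nat.card M₁ = Nat.card (M ⊓ N₁ : Subgroup G) := by
      have : M₁ = (M ⊓ N₁).subgroupOf N₁ := (Subgroup.inf_subgroupOf_right M N₁).symm
      rw [this]
      exact Nat.card_congr (Subgroup.subgroupOfEquivOfLe inf_le_right).toEquiv
    rw [h3]; exact h2
  let Q : Sylow q M₁ := default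
  have hQne : (Q : Subgroup M₁) ≠ ⊥ := Q.ne_bot_of_dvd_card hqM₁
  set Q₁ : Subgroup N₁ := Subgroup.map M₁.subtype (Q : Subgroup M₁) with hQ₁
  have hQ₁q : IsPGroup q Q₁ := Q.isPGroup'.map M₁.subtype
  have hQ₁1 : Q₁ ≠ ⊥ := by
    intro h
    exact hQne ((Subgroup.map_eq_bot_iff_of_injective _ M₁.subtype_injective).mp h)
  -- r divides the index of M₁
  have hrM₁ : r ∣ M₁.index := by
    have h1 : M₁.index = M.relIndex N₁ := rfl
    have h2 : N₁ ⊔ M = ⊤ := by
      rw [eq_top_iff, ← hF]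
      exact sup_le_sup_left hKM N₁
    rw [h1, ← Subgroup.relIndex_sup_right, h2, Subgroup.relIndex_top_right]
    exact hrG
  obtain ⟨x, hxn, hxr⟩ := frattini_cauchy M₁ hr Q hrM₁
  have hxQ : ∀ b ∈ Q₁, x * b * x⁻¹ ∈ Q₁ := by
    intro b hb
    exact (Subgroup.mem_normalizer_iff.mp hxn b).mp hb
  have hcore := core hp hq hr hpq hpr hqr P₁ hP₁p hP₁1 Q₁ hQ₁q hQ₁1 x hxr hxQ
  rcases hcore with ⟨y, hy⟩ | ⟨y, hy⟩ | ⟨y, hy⟩
  · left; exact ⟨(y : G), by rw [Subgroup.orderOf_coe]; exact hy⟩
  · right; left; exact ⟨(y : G), by rw [Subgroup.orderOf_coe]; exact hy⟩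
  · right; right; exact ⟨(y : G), by rw [Subgroup.orderOf_coe]; exact hy⟩

end Cfsg.Agent.S3634
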