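import Cfsg.Statements.S3633
import Cfsg.Agent.S3634

set_option autoImplicit false
open Cfsg

namespace Cfsg.Agent.S3633

section
variable {G : Type*} [Group G] [Finite G]

/-- cardinality of the abelianization of `K` times the cardinality of `⁅K,K⁆` is `|K|`. -/
theorem card_abel_mul (K : Subgroup G) :
    Nat.card (Abelianization K) * Nat.card (⁅K, K⁆ : Subgroup G) = Nat.card K := by
  have h1 : (commutator K).index * Nat.card (commutator K) = Nat.card K :=
    Subgroup.index_mul_card _
  have h2 : Nat.card (commutator K) = Nat.card (⁅K, K⁆ : Subgroup G) := by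
    rw [← Subgroup.map_subtype_commutator]
    exact Nat.card_congr (Subgroup.equivMapOfInjective _ _ K.subtype_injective).toEquiv
  rw [h2] at h1
  rw [← h1]
  congr 1

/-- two distinct primes dividing the order of the abelianization give an element of order `a*b`. -/
theorem abPair (K : Subgroup G) {a b : ℕ} (ha : a.Prime) (hb : b.Prime) (hab : a ≠ b)
    (hda : a ∣ Nat.card (Abelianization K)) (hdb : b ∣ Nat.card (Abelianization K)) :
    ∃ x : G, orderOf x = a * b := by
  have : Fact a.Prime := ⟨ha⟩
  have : Fact b.Prime := ⟨hb⟩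
  have : Finite (Abelianization K) := by
    unfold Abelianization; infer_instance
  obtain ⟨u, hu⟩ := exists_prime_orderOf_dvd_card' a hda
  obtain ⟨v, hv⟩ := exists_prime_orderOf_dvd_card' b hdb
  have hcomm : Commute u v := Commute.all u v
  have huv : orderOf (u * v) = a * b := by
    rw [hcomm.orderOf_mul_eq_mul_orderOf_of_coprime (by
      rw [hu, hv]; exact (Nat.coprime_primes ha hb).mpr hab), hu, hv]
  obtain ⟨y, hy⟩ := QuotientGroup.mk'_surjective (commutator K) (u * v)
  have hdvd : a * b ∣ orderOf y := by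
    rw [← huv, ← hy]
    exact orderOf_map_dvd (QuotientGroup.mk' (commutator K)) y
  have hypos : 0 < orderOf y := orderOf_pos y
  have habpos : 0 < a * b := Nat.mul_pos ha.pos hb.pos
  obtain ⟨m, hm⟩ := hdvd
  have hmpos : 0 < m := by
    rcases Nat.eq_zero_or_pos m with h | h
    · rw [h, mul_zero] at hm; omega
    · exact h
  refine ⟨((y ^ m : K) : G), ?_⟩
  rw [Subgroup.orderOf_coe, orderOf_pow_of_dvd hmpos.ne' (by rw [hm]; exact dvd_mul_left m _), hm,
    Nat.mul_div_cancel _ hmpos]

/-- The key claim, by strong induction on the order of the solvable normal subgroup. -/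
theorem claimC : ∀ (n : ℕ) (K : Subgroup G) [K.Normal], Nat.card K = n → Group.IsSolvable K →
    ∀ a b c : ℕ, a.Prime → b.Prime → c.Prime → a ≠ b → a ≠ c → b ≠ c →
    a ∣ Nat.card K → b ∣ Nat.card K → c ∣ Nat.card G →
    (∃ x : G, orderOf x = a * b) ∨ (∃ x : G, orderOf x = a * c) ∨ (∃ x : G, orderOf x = b * c) := by
  intro n
  induction n using Nat.strong_induction_on with
  | _ n ih =>
  intro K hKn hn hsol a b c ha hb hc hab hac hbc hda hdb hdc
  -- K is nontrivial
  have hK1 : 1 < Nat.card K := by
    have := Nat.le_of_dvd Nat.card_pos hda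
    have := ha.two_le
    omega
  have hKnt : Nontrivial K := (Finite.one_lt_card_iff_nontrivial).mp hK1
  set K' : Subgroup G := ⁅K, K⁆ with hK'
  have hK'n : K'.Normal := Subgroup.commutator_normal K K
  have hK'le : K' ≤ K := Subgroup.commutator_le_left K K
  have hK'ne : K' ≠ K := by
    intro h
    have h1 := Group.IsSolvable.commutator_lt_top_of_nontrivial K
    have h2 : Subgroup.map K.subtype (commutator K) = Subgroup.map K.subtype ⊤ := by
      rw [Subgroup.map_subtype_commutator, ← hK', h, ← MonoidHom.range_eq_map, Subgroup.range_subtype]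
    have h3 := Subgroup.map_injective K.subtype_injective h2
    exact h1.ne h3
  have hK'card : Nat.card K' < n := by
    rw [← hn]
    by_contra hle
    push Not at hle
    exact hK'ne (Subgroup.eq_of_le_of_card_ge hK'le hle)
  have hK'sol : Group.IsSolvable K' :=
    Group.isSolvable_of_isSolvable_injective (Subgroup.inclusion_injective hK'le)
  have hmul := card_abel_mul K
  rw [← hK'] at hmul
  have hsplit : ∀ {t : ℕ}, t.Prime → t ∣ Nat.card K →
      t ∣ Nat.card (Abelianization K) ∨ t ∣ Nat.card K' := by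
    intro t ht hdt
    rw [← hmul] at hdt
    exact (Nat.Prime.dvd_mul ht).mp hdt
  have hdiv : Nat.card K / Nat.card K' = Nat.card (Abelianization K) := by
    rw [← hmul, Nat.mul_div_cancel _ Nat.card_pos]
  have hGsplit : c ∣ K.index ∨ c ∣ Nat.card K := by
    have : Nat.card K * K.index = Nat.card G := Subgroup.card_mul_index K
    rw [← this] at hdc
    exact ((Nat.Prime.dvd_mul hc).mp hdc).symm
  -- the asymmetric case
  have hasym : ∀ a' b' : ℕ, a'.Prime → b'.Prime → a' ≠ b' → a' ≠ c → b' ≠ c →
      a' ∣ Nat.card (Abelianization K) → b' ∣ Nat.card K' →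
      (∃ x : G, orderOf x = a' * b') ∨ (∃ x : G, orderOf x = a' * c) ∨
        (∃ x : G, orderOf x = b' * c) := by
    intro a' b' ha' hb' hab' hac' hbc' hda' hdb'
    rcases hGsplit with hcI | hcK
    · -- three layers K' ≤ K ≤ G
      have h := Cfsg.Agent.S3634.result K' K hK'le b' a' c hb' ha' hc hab'.symm hbc' hac' hdb'
        (by rw [hdiv]; exact hda') (by rw [Cfsg.Agent.S3634.index_eq_div]; exact hcI)
      rcases h with ⟨x, hx⟩ | ⟨x, hx⟩ | ⟨x, hx⟩
      · left; exact ⟨x, by rw [hx, mul_comm]⟩
      · right; right; exact ⟨x, hx⟩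
      · right; left; exact ⟨x, hx⟩
    · rcases hsplit hc hcK with hcA | hcK'
      · right; left; exact abPair K ha' hc hac' hda' hcA
      · have h := ih (Nat.card K') hK'card K' rfl hK'sol b' c a' hb' hc ha' hbc' hab'.symm
          hac'.symm hdb' hcK' (by
            have h1 : a' ∣ Nat.card K := by rw [← hmul]; exact Dvd.dvd.mul_right hda' _
            exact h1.trans (Subgroup.card_subgroup_dvd_card K))
        rcases h with ⟨x, hx⟩ | ⟨x, hx⟩ | ⟨x, hx⟩
        · right; right; exact ⟨x, hx⟩
        · left; exact ⟨x, by rw [hx, mul_comm]⟩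
        · right; left; exact ⟨x, by rw [hx, mul_comm]⟩
  rcases hsplit ha hda with haA | haK'
  · rcases hsplit hb hdb with hbA | hbK'
    · left; exact abPair K ha hb hab haA hbA
    · exact hasym a b ha hb hab hac hbc haA hbK'
  · rcases hsplit hb hdb with hbA | hbK'
    · have h := hasym b a hb ha hab.symm hbc hac hbA haK'
      rcases h with ⟨x, hx⟩ | ⟨x, hx⟩ | ⟨x, hx⟩
      · left; exact ⟨x, by rw [hx, mul_comm]⟩
      · right; right; exact ⟨x, hx⟩
      · right; left; exact ⟨x, hx⟩
    · exact ih (Nat.card K') hK'card K' rfl hK'sol a b c ha hb hc hab hac hbc haK' hbK' hdc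

end

/-- Let G be a finite group and ρ a set of at least three prime divisors of the order of G that are pairwise non-adjacent in the prime graph (no element of order rs for distinct r, s ∈ ρ). Then at most one prime of ρ divides the order of any given solvable normal subgroup of G; in particular G is not solvable. -/
theorem result {G : Type*} [Group G] [Finite G] (ρ : Finset ℕ) (hρ : 3 ≤ ρ.card) (hc : ((∀ r ∈ ρ, r.Prime ∧ r ∣ Nat.card G) ∧ (∀ r ∈ ρ, ∀ s ∈ ρ, r ≠ s → ¬ ∃ x : G, orderOf x = r * s)))
    (K : Subgroup G) [K.Normal] (hK : Group.IsSolvable ↥K) :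
    (∀ r ∈ ρ, ∀ s ∈ ρ, r ∣ Nat.card ↥K → s ∣ Nat.card ↥K → r = s) ∧ ¬ Group.IsSolvable G := by
  obtain ⟨hc1, hc2⟩ := hc
  have main : ∀ (L : Subgroup G) [L.Normal], Group.IsSolvable L →
      ∀ r ∈ ρ, ∀ s ∈ ρ, r ∣ Nat.card L → s ∣ Nat.card L → r = s := by
    intro L _ hL r hr s hs hrL hsL
    by_contra hrs
    -- a third prime
    have hex : ∃ t ∈ ρ, t ≠ r ∧ t ≠ s := by
      by_contra hno
      push Not at hno
      have hsub : ρ ⊆ {r, s} := by
        intro t ht
        by_cases htr : t = r
        · simp [htr]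
        · simp [hno t ht htr]
      have := Finset.card_le_card hsub
      have h2 : ({r, s} : Finset ℕ).card ≤ 2 := Finset.card_le_two
      omega
    obtain ⟨t, ht, htr, hts⟩ := hex
    have h := claimC (Nat.card L) L rfl hL r s t (hc1 r hr).1 (hc1 s hs).1 (hc1 t ht).1 hrs
      (Ne.symm htr) (Ne.symm hts) hrL hsL (hc1 t ht).2
    rcases h with h | h | h
    · exact hc2 r hr s hs hrs h
    · exact hc2 r hr t ht (Ne.symm htr) h
    · exact hc2 s hs t ht (Ne.symm hts) h
  refine ⟨main K hK, ?_⟩
  intro hsol
  -- ⊤ is a solvable normal subgroup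
  have htop : Group.IsSolvable (⊤ : Subgroup G) :=
    Group.isSolvable_of_isSolvable_injective (f := (⊤ : Subgroup G).subtype)
      (Subgroup.subtype_injective _)
  have hall := main ⊤ htop
  obtain ⟨r, hr, s, hs, hrs⟩ := Finset.one_lt_card.mp (by omega : 1 < ρ.card)
  apply hrs
  apply hall r hr s hs
  · rw [Subgroup.card_top]; exact (hc1 r hr).2
  · rw [Subgroup.card_top]; exact (hc1 s hs).2

end Cfsg.Agent.S3633
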