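import Cfsg.Statements.S3682
import Cfsg.Agent.Lib.H23.WB2
open Cfsg.Agent.Lib.H23.WB

set_option autoImplicit false
open Cfsg

namespace Cfsg.Agent.S3682

/-- Wielandt's bound toward the Sims conjecture. Let a finite group G act faithfully and primitively on a set Ω, let a and b be points, and suppose the orbit of b under the stabilizer of a has length d ≥ 2. Then there are a prime p and a normal p-subgroup P of the stabilizer of a, all of whose elements fix b, such that the index of P in the stabilizer of a divides d! · ((d - 1)!)^d. -/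
theorem result {G Ω : Type*} [Group G] [Finite G] [MulAction G Ω] [FaithfulSMul G Ω] [Finite Ω]
    (hprim : MulAction.IsPreprimitive G Ω) (a b : Ω) (d : ℕ) (hd : Nat.card (MulAction.orbit (MulAction.stabilizer G a) b) = d) (h2 : 2 ≤ d) :
    ∃ p : ℕ, p.Prime ∧ ∃ P : Subgroup (MulAction.stabilizer G a), P.Normal ∧ IsPGroup p P ∧ (∀ g : P, ((g : MulAction.stabilizer G a) : G) • b = b) ∧
      P.index ∣ Nat.factorial d * (Nat.factorial (d - 1)) ^ d := by
  classical
  have hpt : MulAction.IsPretransitive G Ω := hprim.toIsPretransitive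
  have hne : MulAction.stabilizer G a ≠ MulAction.stabilizer G b :=
    ne_of_two_le_card_orbit a b (by rw [hd]; exact h2)
  have hab : a ≠ b := fun h => hne (by rw [h])
  haveI : Nontrivial Ω := ⟨⟨a, b, hab⟩⟩
  have hmax : IsCoatom (MulAction.stabilizer G a) :=
    MulAction.IsPreprimitive.isCoatom_stabilizer_of_isPreprimitive G a
  obtain ⟨g, hg⟩ := MulAction.exists_smul_eq G a b
  have hconj : MulAction.stabilizer G b =
      (MulAction.stabilizer G a).map (MulAut.conj g).toMonoidHom := by
    rw [← hg]; exact MulAction.stabilizer_smul_eq_stabilizer_map_conj g a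
  have hcore : (MulAction.stabilizer G a).normalCore = ⊥ := normalCore_stabilizer_eq_bot a
  have hd₁ : (MulAction.stabilizer G a ⊓ MulAction.stabilizer G b).relIndex
      (MulAction.stabilizer G a) = d := (relIndex_stabilizer_eq a b).trans hd
  rcases card_dvd_or (MulAction.stabilizer G a) (MulAction.stabilizer G b) g hconj d hd₁ with
    h | ⟨hA, hB⟩
  · refine ⟨2, Nat.prime_two, ⊥, inferInstance, IsPGroup.of_bot, ?_, ?_⟩
    · rintro ⟨x, hx⟩
      rw [Subgroup.mem_bot] at hx
      subst hx
      simp
    · rw [Subgroup.index_bot]; exact h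
  · obtain ⟨p, hp, hpg, -⟩ := tw _ _ hmax g hconj hne hcore hA hB
    have hd₂ : (MulAction.stabilizer G a ⊓ MulAction.stabilizer G b).relIndex
        (MulAction.stabilizer G b) = d := (relIndex_eq_of_conj hconj).trans hd₁
    refine ⟨p, hp, ((seqAB (MulAction.stabilizer G a) (MulAction.stabilizer G b) 2).1).subgroupOf
      (MulAction.stabilizer G a), ?_, ?_, ?_, ?_⟩
    · rw [seqAB_two]
      show ((relCore _ _).subgroupOf _).Normal
      rw [relCore_subgroupOf]
      infer_instance
    · exact (hpg.to_le le_sup_left).comap_subtype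
    · rintro ⟨x, hx⟩
      rw [Subgroup.mem_subgroupOf, seqAB_two] at hx
      have h1 := relCore_le_left _ _ hx
      have h2 := relCore_le_left _ _ h1.1
      exact h2.2
    · exact relIndex_A2_dvd _ _ d hd₁ hd₂

end Cfsg.Agent.S3682
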