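import Cfsg.Statements.S3688
import Cfsg.Agent.Lib.H23.WB2
open Cfsg.Agent.Lib.H23.WB

set_option autoImplicit false
open Cfsg

namespace Cfsg.Agent.S3688

/-- Let a finite group G act faithfully and primitively on a set Ω, let a and b be points such that the orbit of b under the stabilizer H of a has length d ≥ 2, and suppose that H is not strongly constrained: for no prime p does the generalized Fitting subgroup of H coincide with the largest normal p-subgroup of H. Then the order of H divides d! · ((d - 1)!)^d. -/
theorem result {G Ω : Type*} [Group G] [Finite G] [MulAction G Ω] [FaithfulSMul G Ω] [Finite Ω]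
    (hprim : MulAction.IsPreprimitive G Ω) (a b : Ω) (d : ℕ) (hd : Nat.card (MulAction.orbit (MulAction.stabilizer G a) b) = d) (h2 : 2 ≤ d)
    (hnc : ∀ p : ℕ, p.Prime → Cfsg.generalizedFittingSubgroup (MulAction.stabilizer G a) ≠ Cfsg.pCore p (MulAction.stabilizer G a)) :
    Nat.card (MulAction.stabilizer G a) ∣ Nat.factorial d * (Nat.factorial (d - 1)) ^ d := by
  classical
  have hpt : MulAction.IsPretransitive G Ω := hprim.toIsPretransitive
  have hne : MulAction.stabilizer G a ≠ MulAction.stabilizer G b :=
    ne_of_two_le_card_orbit a b (by rw [hd]; exact h2)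
  have hab : a ≠ b := fun h => hne (by rw [h])
  haveI : Nontrivial Ω := ⟨⟨a, b, hab⟩⟩
  have hmax : IsCoatom (MulAction.stabilizer G a) :=
    MulAction.IsPreprimitive.isCoatom_stabilizer_of_isPreprimitive G a
  obtain ⟨g, hg⟩ := MulAction.exists_smul_eq G a b
  have hconj : MulAction.stabilizer G b =
      (MulAction.stabilizer G a).map (MulAut.conj g).toMonoidHom := by
    rw [← hg]; exact MulAction.stabilizer_smul_eq_stabilizer_map_conj g a
  have hcore : (MulAction.stabilizer G a).normalCore = ⊥ := normalCore_stabilizer_eq_bot a
  have hd₁ : (MulAction.stabilizer G a ⊓ MulAction.stabilizer G b).relIndex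
      (MulAction.stabilizer G a) = d := (relIndex_stabilizer_eq a b).trans hd
  rcases card_dvd_or (MulAction.stabilizer G a) (MulAction.stabilizer G b) g hconj d hd₁ with
    h | ⟨hA, hB⟩
  · exact h
  · obtain ⟨p, hp, -, hF, -⟩ := tw _ _ hmax g hconj hne hcore hA hB
    exact absurd hF (hnc p hp)

end Cfsg.Agent.S3688
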