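import Cfsg.Statements.S3696
import Mathlib
import Cfsg.Agent.Lib.H21.AbelPerm2

set_option autoImplicit false
open Cfsg

namespace Cfsg.Agent.S3696

open Cfsg.Agent.Lib.H21.AbelPerm

/-- Let p be a prime, Ω a finite set with n ≥ p elements, and A an abelian p-subgroup of the symmetric group on Ω whose elements of order dividing p number p^k (so k is the rank of A). Then |A| · k^k ≤ n^k, that is, |A| ≤ (n/k)^k. -/
theorem result {Ω : Type*} [Fintype Ω] [DecidableEq Ω]
    (p : ℕ) (hp : p.Prime) (hn : p ≤ Fintype.card Ω) (A : Subgroup (Equiv.Perm Ω)) (hA : IsPGroup p A) (hab : IsMulCommutative A)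
    (k : ℕ) (hk : Nat.card {x : A // x ^ p = 1} = p ^ k) :
    Nat.card A * k ^ k ≤ Fintype.card Ω ^ k := by
  have hc : ∀ x ∈ A, ∀ y ∈ A, x * y = y * x := by
    intro x hx y hy
    have := hab.is_comm.comm ⟨x, hx⟩ ⟨y, hy⟩
    exact congrArg Subtype.val this
  let W : Subgroup (Equiv.Perm Ω) :=
    { carrier := {x | x ∈ A ∧ x ^ p = 1}
      mul_mem' := by
        rintro a b ⟨ha, ha'⟩ ⟨hb, hb'⟩
        refine ⟨A.mul_mem ha hb, ?_⟩
        rw [Commute.mul_pow (show Commute a b from hc a ha b hb), ha', hb', one_mul]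
      one_mem' := ⟨A.one_mem, one_pow _⟩
      inv_mem' := by
        rintro a ⟨ha, ha'⟩
        exact ⟨A.inv_mem ha, by rw [inv_pow, ha', inv_one]⟩ }
  have hW : ∀ x, x ∈ W ↔ x ∈ A ∧ x ^ p = 1 := fun x => Iff.rfl
  have hcardW : Nat.card (A ⊓ W : Subgroup (Equiv.Perm Ω)) = p ^ k := by
    rw [← hk]
    refine Nat.card_congr ⟨fun x => ⟨⟨x.1, x.2.1⟩, ?_⟩, fun x => ⟨x.1.1, x.1.2, (hW _).2 ⟨x.1.2, ?_⟩⟩,
      fun x => rfl, fun x => rfl⟩
    · have := ((hW _).1 x.2.2).2
      exact Subtype.ext (by simpa using this)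
    · have := congrArg Subtype.val x.2
      simpa using this
  obtain ⟨l, hlen, hsum, hprod⟩ := main_ind p hp A W hA hc hW k A Finset.univ le_rfl
    (fun _ _ _ _ => Finset.mem_univ _)
    (fun x _ hfix => Equiv.ext (fun ω => hfix ω (Finset.mem_univ _))) hcardW
  have hamgm := list_amgm l
  rw [hlen] at hamgm
  rw [Finset.card_univ] at hsum
  calc Nat.card A * k ^ k ≤ l.prod * k ^ k := Nat.mul_le_mul_right _ hprod
    _ = k ^ k * l.prod := mul_comm _ _
    _ ≤ l.sum ^ k := hamgm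
    _ ≤ Fintype.card Ω ^ k := Nat.pow_le_pow_left hsum k

end Cfsg.Agent.S3696
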