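import Cfsg.Statements.S3703
import Mathlib
import Cfsg.Agent.Lib.H21.FrobTraceD

set_option autoImplicit false
open Cfsg
open Pointwise

namespace Cfsg.Agent.S3703

open Cfsg.Agent.Lib.H1 Cfsg.Agent.Lib.H21.FrobTrace

/-- Let N be a normal subgroup of the finite group G such that G/N is a Frobenius group with kernel F and cyclic complement H, where the order of F is coprime to that of N and F is not contained in the image of C_G(N) in G/N. Then G has an element of order p·#H for some prime p dividing the order of N. (A standard tool in recognising groups by their element orders.) -/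
theorem result {G : Type*} [Group G] [Finite G] (N : Subgroup G) [N.Normal]
    (Fb Hb : Subgroup (G ⧸ N)) [Fb.Normal] (hHb : Cfsg.IsFrobeniusComplement Hb) (hker : Cfsg.frobeniusKernel Hb = (Fb : Set (G ⧸ N)))
    (hcyc : IsCyclic Hb) (hcop : (Nat.card Fb).Coprime (Nat.card N))
    (hnot : ¬ Fb ≤ (Subgroup.centralizer (N : Set G)).map (QuotientGroup.mk' N)) :
    ∃ p : ℕ, p.Prime ∧ p ∣ Nat.card N ∧ ∃ g : G, orderOf g = p * Nat.card Hb := by
  classical
  set π := QuotientGroup.mk' N with hπ
  have hπs : Function.Surjective π := QuotientGroup.mk'_surjective N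
  have hπ1 : ∀ g ∈ N, π g = 1 := fun g hg => (QuotientGroup.eq_one_iff g).mpr hg
  have hπ1' : ∀ g, π g = 1 → g ∈ N := fun g hg => (QuotientGroup.eq_one_iff g).mp hg
  set m := Nat.card Hb with hm
  have hm0 : 0 < m := Nat.card_pos
  by_contra hcon
  push Not at hcon
  -- (A) every lift of an element of order `m` has `m`-th power one
  have CA : ∀ y : G, orderOf (π y) = m → y ^ m = 1 := by
    intro y hy
    by_contra hym
    have hymN : y ^ m ∈ N := by
      apply hπ1'
      rw [map_pow, ← hy, pow_orderOf_eq_one]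
    set k := orderOf (y ^ m) with hk
    have hk1 : k ≠ 1 := fun h => hym (orderOf_eq_one_iff.mp h)
    have hkN : k ∣ Nat.card N := by
      have := orderOf_dvd_natCard (⟨y ^ m, hymN⟩ : N)
      rwa [Subgroup.orderOf_mk] at this
    have hmy : m ∣ orderOf y := by rw [← hy]; exact orderOf_map_dvd π y
    have hy0 : 0 < orderOf y := orderOf_pos y
    have hk' : k = orderOf y / m := orderOf_pow_of_dvd hm0.ne' hmy
    have hoy : orderOf y = m * k := by rw [hk', Nat.mul_div_cancel' hmy]
    have hk0 : 0 < k := orderOf_pos _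
    obtain ⟨p, hp, hpk⟩ := Nat.exists_prime_and_dvd hk1
    obtain ⟨k', hk''⟩ := hpk
    have hk'0 : k' ≠ 0 := by
      rintro rfl
      rw [mul_zero] at hk''
      omega
    have hdv : k' ∣ orderOf y := by rw [hoy, hk'']; exact ⟨m * p, by ring⟩
    have hord : orderOf (y ^ k') = p * m := by
      rw [orderOf_pow_of_dvd hk'0 hdv, hoy, hk'']
      have : m * (p * k') = (p * m) * k' := by ring
      rw [this, Nat.mul_div_cancel _ (Nat.pos_of_ne_zero hk'0)]
    exact hcon p hp (dvd_trans ⟨k', hk''⟩ hkN) (y ^ k') hord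
  -- (B) Frobenius facts
  obtain ⟨⟨h, hhH⟩, hgen⟩ := hcyc.exists_generator
  have hordh : orderOf h = m := by
    have := orderOf_eq_card_of_forall_mem_zpowers hgen
    rw [Subgroup.orderOf_mk] at this
    exact this
  have hFnil : Group.IsNilpotent Fb := ker_isNilpotent hHb hker
  -- (C) complement
  set Ft := Fb.comap π with hFt
  haveI hFtn : Ft.Normal := Subgroup.Normal.comap inferInstance π
  have hNFt : N ≤ Ft := by
    intro g hg
    rw [hFt, Subgroup.mem_comap, hπ1 g hg]; exact Fb.one_mem
  have hFtmap : Ft.map π = Fb := Subgroup.map_comap_eq_self_of_surjective hπs Fb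
  have hrel : N.relIndex Ft = Nat.card Fb := by
    have h1 : (⊥ : Subgroup (G ⧸ N)).comap π = N := by
      rw [MonoidHom.comap_bot, QuotientGroup.ker_mk']
    have h2 : ((⊥ : Subgroup (G ⧸ N)).comap π).relIndex Ft = Nat.card Fb := by
      rw [Subgroup.relIndex_comap, hFtmap, Subgroup.relIndex_bot_left]
    rw [h1] at h2
    exact h2
  obtain ⟨F₀, hF₀Ft, hdisj, hsup, hcard⟩ := exists_internal_complement N Ft hNFt
    (by rw [hrel]; exact hcop.symm)
  rw [hrel] at hcard
  have hcop₀ : (Nat.card N).Coprime (Nat.card F₀) := by rw [hcard]; exact hcop.symm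
  have hF₀π : ∀ f ∈ F₀, π f ∈ Fb := fun f hf => hF₀Ft hf
  have hF₀inj : ∀ f ∈ F₀, π f = 1 → f = 1 := by
    intro f hf hf1
    exact Subgroup.disjoint_def.mp hdisj (hπ1' f hf1) hf
  -- `F₀` is solvable
  have hsol : Group.IsSolvable F₀ := by
    haveI : Group.IsSolvable Fb := inferInstance
    let ψ : F₀ →* Fb := (π.comp F₀.subtype).codRestrict Fb (fun f => hF₀π f f.2)
    have hψ : Function.Injective ψ := by
      rw [injective_iff_map_eq_one]
      intro f hf
      have h1 : π (f : G) = 1 := congrArg Subtype.val hf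
      exact Subtype.ext (hF₀inj f f.2 h1)
    exact Group.isSolvable_of_isSolvable_injective hψ
  -- Frattini: a lift of `h` normalizing `F₀`
  obtain ⟨x₀, hx₀⟩ := hπs h
  obtain ⟨n, hn, hx⟩ := exists_mul_mem_normalizer N F₀ hcop₀ hsol (by rw [hsup]; exact hFtn) x₀
  set x := n * x₀ with hxdef
  have hπx : π x = h := by rw [hxdef, map_mul, hπ1 n hn, one_mul, hx₀]
  -- (D) apply the core theorem
  have hcore := core N F₀ hsol hcop₀.symm x hx m hm0
    (by
      intro f hf i hi0 him hcomm
      rw [hπx] at hcomm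
      have hi1 : h ^ i ≠ 1 := by
        apply pow_ne_one_of_lt_orderOf hi0.ne'
        rw [hordh]; exact him
      have := ker_commute_eq_one hHb hker (hF₀π f hf) (Hb.pow_mem hhH i) hi1 hcomm
      exact hF₀inj f hf this)
    (by
      rintro y ⟨f, hf, hy⟩
      apply CA
      rw [hy, map_mul, map_mul, hπx, map_inv]
      rw [← hordh]
      exact (MulAut.conj (π f)).orderOf_eq h)
  apply hnot
  intro q hq
  obtain ⟨g, rfl⟩ := hπs q
  have hgFt : g ∈ N ⊔ F₀ := by rw [hsup]; exact hq
  rw [Subgroup.mem_sup_of_normal_left] at hgFt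
  obtain ⟨a, ha, f, hf, rfl⟩ := hgFt
  refine ⟨f, hcore hf, ?_⟩
  rw [map_mul, hπ1 a ha, one_mul]

end Cfsg.Agent.S3703
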