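import Cfsg.Statements.S3704
import Cfsg.Agent.S0157
import Cfsg.Agent.Lib.L0.CharDegree

set_option autoImplicit false
open Cfsg

namespace Cfsg.Agent.S3704

open Cfsg.Agent.Lib.L0

/-- Let G be a finite group acting faithfully and 2-transitively on a finite set Ω of size n, and let H be a subgroup of index n in G which is not transitive on Ω and fixes no point of Ω. Then H has exactly two orbits on Ω. -/
theorem result {G Ω : Type*} [Group G] [Finite G] [MulAction G Ω] [FaithfulSMul G Ω] [Finite Ω] (h2 : MulAction.IsMultiplyPretransitive G Ω 2) (H : Subgroup G) (hidx : H.index = Nat.card Ω) (hnt : ¬ MulAction.IsPretransitive H Ω) (hfix : ∀ a : Ω, ∃ h : H, h • a ≠ a) : Nat.card (MulAction.orbitRel.Quotient H Ω) = 2 := by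
  classical
  have := Fintype.ofFinite G
  -- Ω has at least two points
  have hX : 2 ≤ Nat.card Ω := by
    by_contra hlt
    apply hnt
    have hle : Nat.card Ω ≤ 1 := by omega
    have hsub : Subsingleton Ω := Finite.card_le_one_iff_subsingleton.mp hle
    exact ⟨fun x y => ⟨1, Subsingleton.elim _ _⟩⟩
  have htr : MulAction.IsPretransitive G Ω := MulAction.isPretransitive_of_is_two_pretransitive
  obtain ⟨a⟩ : Nonempty Ω := by
    by_contra h
    rw [not_nonempty_iff] at h
    have := Nat.card_of_isEmpty (α := Ω)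
    omega
  have := Fintype.ofFinite H
  set π : G → ℂ := fun g => (Nat.card (MulAction.fixedBy Ω g) : ℂ) with hπ
  set S := MulAction.stabilizer G a with hS
  have := Fintype.ofFinite S
  have hπind : π = Cfsg.indFun S (fun _ => 1) := fixedPoints_eq_indFun Ω a
  have h1S : Cfsg.IsCharacter S (fun _ => (1 : ℂ)) := by
    have := isCharacter_of_irr (isIrrCharacter_one (G := S))
    simpa [Pi.one_def] using this
  have h1H : Cfsg.IsCharacter H (fun _ => (1 : ℂ)) := by
    have := isCharacter_of_irr (isIrrCharacter_one (G := H))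
    simpa [Pi.one_def] using this
  have h1Hirr : Cfsg.IsIrrCharacter H (fun _ => (1 : ℂ)) := by
    have := isIrrCharacter_one (G := H)
    simpa [Pi.one_def] using this
  have h1G : Cfsg.IsIrrCharacter G (fun _ => (1 : ℂ)) := by
    have := isIrrCharacter_one (G := G)
    simpa [Pi.one_def] using this
  have hπchar : Cfsg.IsCharacter G π := hπind ▸ isCharacter_indFun S h1S
  have hπcf : Cfsg.IsClassFunction G π := isClassFunction_of_isCharacter hπchar
  -- χ = π - 1 is irreducible
  have hχ : Cfsg.IsIrrCharacter G (π - fun _ => (1 : ℂ)) :=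
    (Cfsg.Agent.S0157.result Ω hX).mpr h2
  set χ : G → ℂ := π - fun _ => (1 : ℂ) with hχdef
  -- ψ = Ind_H^G 1
  set ψ : G → ℂ := Cfsg.indFun H (fun _ => 1) with hψ
  have hψchar : Cfsg.IsCharacter G ψ := isCharacter_indFun H h1H
  have hcardH : (Nat.card H : ℂ) ≠ 0 := by exact_mod_cast (Nat.card_pos (α := H)).ne'
  -- ⟨ψ, 1⟩ = 1
  have hψ1 : Cfsg.classInner ψ (fun _ => (1 : ℂ)) = 1 := by
    rw [hψ, frobenius_reciprocity H _ _ (fun _ _ => rfl)]
    exact irr_classInner_self h1Hirr
  -- ⟨ψ, π⟩ = number of orbits of H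
  have hψπ : Cfsg.classInner ψ π = (Nat.card (MulAction.orbitRel.Quotient H Ω) : ℂ) := by
    rw [hψ, frobenius_reciprocity H _ _ hπcf]
    unfold Cfsg.classInner
    have hb := Cfsg.Agent.Lib.H18.burnside_natcard H Ω
    have : ∑ g : H, (fun _ => (1 : ℂ)) g * (starRingEnd ℂ) ((fun h : H => π h) g)
        = ((∑ h : H, Nat.card (MulAction.fixedBy Ω h) : ℕ) : ℂ) := by
      push_cast
      refine Finset.sum_congr rfl fun h _ => ?_
      simp only [hπ, one_mul, Complex.conj_natCast]
      rfl
    rw [this, hb]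
    push_cast
    field_simp
  set k := Nat.card (MulAction.orbitRel.Quotient H Ω) with hk
  -- ⟨ψ, χ⟩ = k - 1
  have hψχ : Cfsg.classInner ψ χ = (k : ℂ) - 1 := by
    rw [hχdef, classInner_sub_right, hψπ, hψ1]
  -- ψ - 1 is a character
  have hψ1char : Cfsg.IsCharacter G (ψ - fun _ => (1 : ℂ)) :=
    Cfsg.Agent.S0157.isCharacter_sub_irr hψchar h1G (by rw [hψ1]; exact one_ne_zero)
  -- ⟨1, χ⟩ = 0
  have h1χ : Cfsg.classInner (fun _ : G => (1 : ℂ)) χ = 0 := by
    have hπ1 : Cfsg.classInner π (fun _ => (1 : ℂ)) = 1 := by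
      rw [hπind, frobenius_reciprocity S _ _ (fun _ _ => rfl)]
      have h1Sirr : Cfsg.IsIrrCharacter S (fun _ => (1 : ℂ)) := by
        have := isIrrCharacter_one (G := S)
        simpa [Pi.one_def] using this
      exact irr_classInner_self h1Sirr
    have h1π : Cfsg.classInner (fun _ => (1 : ℂ)) π = 1 := by
      rw [← classInner_conj_symm, hπ1, map_one]
    rw [hχdef, classInner_sub_right, h1π, irr_classInner_self h1G, sub_self]
  have hψ1χ : Cfsg.classInner (ψ - fun _ => (1 : ℂ)) χ = (k : ℂ) - 1 := by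
    rw [classInner_sub_left, hψχ, h1χ, sub_zero]
  -- k ≠ 1 since H is not transitive
  have hk1 : k ≠ 1 := by
    intro h1
    apply hnt
    rw [MulAction.pretransitive_iff_subsingleton_quotient]
    exact (Nat.card_eq_one_iff_unique.mp h1).1
  have hne : Cfsg.classInner (ψ - fun _ => (1 : ℂ)) χ ≠ 0 := by
    rw [hψ1χ]
    intro h0
    apply hk1
    have : (k : ℂ) = 1 := by linear_combination h0
    exact_mod_cast this
  -- ψ - 1 - χ is a character of degree 0
  have hψ2char : Cfsg.IsCharacter G ((ψ - fun _ => (1 : ℂ)) - χ) :=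
    Cfsg.Agent.S0157.isCharacter_sub_irr hψ1char hχ hne
  have hdeg : ((ψ - fun _ => (1 : ℂ)) - χ : G → ℂ) 1 = 0 := by
    have e1 : ψ 1 = (Nat.card Ω : ℂ) := by
      rw [hψ, indFun_apply_one, hidx, mul_one]
    have e2 : π 1 = (Nat.card Ω : ℂ) := by
      simp only [hπ]
      congr 1
      apply Nat.card_congr
      exact (Equiv.subtypeUnivEquiv (fun x => by simp))
    simp only [Pi.sub_apply, hχdef, e1, e2]
    ring
  have hzero : ∀ g : G, ((ψ - fun _ => (1 : ℂ)) - χ : G → ℂ) g = 0 := by
    intro g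
    have := isCharacter_norm_le hψ2char g
    rw [hdeg, norm_zero] at this
    exact norm_le_zero_iff.mp this
  -- hence ψ - 1 = χ and ⟨χ,χ⟩ = 1 gives k - 1 = 1
  have heq : (ψ - fun _ => (1 : ℂ)) = χ := by
    funext g
    have := hzero g
    rw [Pi.sub_apply, sub_eq_zero] at this
    exact this
  have hfinal : (k : ℂ) - 1 = 1 := by
    rw [← hψ1χ, heq]
    exact irr_classInner_self hχ
  have : (k : ℂ) = 2 := by linear_combination hfinal
  exact_mod_cast this

end Cfsg.Agent.S3704
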