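import Cfsg.Statements.S3733
import Mathlib.Tactic.Group

set_option autoImplicit false
open Cfsg

namespace Cfsg.Agent.S3733

theorem result {G : Type*} [Group G] [Finite G] (A V : Subgroup G) (hVab : IsMulCommutative V) (hV : V ≠ ⊥) (hAV : A ≤ Subgroup.normalizer (V : Set G)) (𝒜 : Finset (Subgroup G)) (hne : 𝒜.Nonempty) (hprop : ∀ B ∈ 𝒜, B < A) (hpart : ∀ a ∈ A, a ≠ 1 → ∃! B, B ∈ 𝒜 ∧ a ∈ B) (hk : (𝒜.card - 1).Coprime (Nat.card V)) : ∃ B ∈ 𝒜, V ⊓ Subgroup.centralizer (B : Set G) ≠ ⊥ := by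
  classical
  by_contra hcon
  have hcon' : ∀ B ∈ 𝒜, V ⊓ Subgroup.centralizer (B : Set G) = ⊥ := by
    intro B hB
    by_contra h
    exact hcon ⟨B, hB, h⟩
  have : Fintype G := Fintype.ofFinite G
  let _ : CommGroup V := { (inferInstance : Group V) with mul_comm := hVab.is_comm.comm }
  -- the action
  let ψ : G → V → V := fun g v =>
    if h : g ∈ Subgroup.normalizer (V : Set G) then Subgroup.normalizerMonoidHom V ⟨g, h⟩ v else 1
  have hψ : ∀ g (h : g ∈ Subgroup.normalizer (V : Set G)) (v : V), ((ψ g v : V) : G) = g * v * g⁻¹ := by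
    intro g h v
    simp only [ψ, dif_pos h]
    rfl
  have hψ1 : ∀ v : V, ψ 1 v = v := by
    intro v
    apply Subtype.ext
    rw [hψ 1 (Subgroup.one_mem _)]
    simp
  have hψmul : ∀ g h : G, g ∈ Subgroup.normalizer (V : Set G) → h ∈ Subgroup.normalizer (V : Set G) →
      ∀ v, ψ g (ψ h v) = ψ (g * h) v := by
    intro g h hg hh v
    apply Subtype.ext
    rw [hψ g hg, hψ h hh, hψ (g * h) (Subgroup.mul_mem _ hg hh)]
    group
  have hψprod : ∀ g, g ∈ Subgroup.normalizer (V : Set G) → ∀ (s : Finset G) (f : G → V),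
      ψ g (∏ x ∈ s, f x) = ∏ x ∈ s, ψ g (f x) := by
    intro g hg s f
    have : ψ g = fun v => Subgroup.normalizerMonoidHom V ⟨g, hg⟩ v := by
      funext v; simp only [ψ, dif_pos hg]
    rw [this]
    exact map_prod (Subgroup.normalizerMonoidHom V ⟨g, hg⟩) f s
  -- the finset of a subgroup
  let S : Subgroup G → Finset G := fun B => Finset.univ.filter (· ∈ B)
  have hS : ∀ B g, g ∈ S B ↔ g ∈ B := by intro B g; simp [S]
  let F : Subgroup G → V → V := fun B v => ∏ s ∈ S B, ψ s v
  -- F B v is centralized by B when B ≤ A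
  have hFfix : ∀ B, B ≤ A → ∀ v : V, ((F B v : V) : G) ∈ V ⊓ Subgroup.centralizer (B : Set G) := by
    intro B hBA v
    refine ⟨(F B v).2, ?_⟩
    show ((F B v : V) : G) ∈ Subgroup.centralizer (B : Set G)
    rw [Subgroup.mem_centralizer_iff]
    intro c hc
    have hcN : c ∈ Subgroup.normalizer (V : Set G) := hAV (hBA hc)
    have h1 : ψ c (F B v) = F B v := by
      simp only [F]
      rw [hψprod c hcN]
      have : ∀ x ∈ S B, ψ c (ψ x v) = ψ (c * x) v := by
        intro x hx
        exact hψmul c x hcN (hAV (hBA ((hS B x).mp hx))) v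
      rw [Finset.prod_congr rfl this]
      apply Finset.prod_bij (fun x _ => c * x)
      · intro x hx
        rw [hS] at hx ⊢
        exact B.mul_mem hc hx
      · intro x _ y _ hxy
        exact mul_left_cancel hxy
      · intro y hy
        rw [hS] at hy
        exact ⟨c⁻¹ * y, (hS B _).mpr (B.mul_mem (B.inv_mem hc) hy), by group⟩
      · intro x _; rfl
    have h2 := congrArg (Subtype.val) h1
    rw [hψ c hcN] at h2
    calc c * ((F B v : V) : G) = (c * (F B v : V) * c⁻¹) * c := by group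
      _ = (F B v : V) * c := by rw [h2]
  -- so all of them are trivial
  obtain ⟨B₀, hB₀⟩ := hne
  have hFB : ∀ B ∈ 𝒜, ∀ v : V, F B v = 1 := by
    intro B hB v
    have := hFfix B (hprop B hB).le v
    rw [hcon' B hB, Subgroup.mem_bot] at this
    exact Subtype.ext this
  have hFA : ∀ v : V, F A v = 1 := by
    intro v
    have := hFfix A le_rfl v
    have hle : V ⊓ Subgroup.centralizer (A : Set G) ≤ V ⊓ Subgroup.centralizer (B₀ : Set G) :=
      inf_le_inf_left V (Subgroup.centralizer_le (hprop B₀ hB₀).le)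
    have := hle this
    rw [hcon' B₀ hB₀, Subgroup.mem_bot] at this
    exact Subtype.ext this
  -- decomposition of S A
  have hdecomp : (S A).erase 1 = 𝒜.biUnion (fun B => (S B).erase 1) := by
    ext g
    simp only [Finset.mem_erase, Finset.mem_biUnion, hS]
    constructor
    · rintro ⟨hg1, hgA⟩
      obtain ⟨B, ⟨hB, hgB⟩, _⟩ := hpart g hgA hg1
      exact ⟨B, hB, hg1, hgB⟩
    · rintro ⟨B, hB, hg1, hgB⟩
      exact ⟨hg1, (hprop B hB).le hgB⟩
  have hdisj : (𝒜 : Set (Subgroup G)).PairwiseDisjoint (fun B => (S B).erase 1) := by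
    intro B hB C hC hBC
    rw [Function.onFun, Finset.disjoint_left]
    intro g hgB hgC
    simp only [Finset.mem_erase, hS] at hgB hgC
    obtain ⟨D, _, hD⟩ := hpart g ((hprop B hB).le hgB.2) hgB.1
    have h1 := hD B ⟨hB, hgB.2⟩
    have h2 := hD C ⟨hC, hgC.2⟩
    exact hBC (h1.trans h2.symm)
  have hone : ∀ B : Subgroup G, (1 : G) ∈ S B := fun B => (hS B 1).mpr B.one_mem
  have herase : ∀ B : Subgroup G, ∀ v : V, F B v = 1 → ∏ s ∈ (S B).erase 1, ψ s v = v⁻¹ := by
    intro B v h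
    have := Finset.mul_prod_erase (S B) (fun s => ψ s v) (hone B)
    simp only [hψ1] at this
    rw [eq_inv_iff_mul_eq_one, mul_comm, this]
    exact h
  have hpow : ∀ v : V, v ^ (𝒜.card - 1) = 1 := by
    intro v
    have h1 := herase A v (hFA v)
    rw [hdecomp, Finset.prod_biUnion hdisj] at h1
    rw [Finset.prod_congr rfl (fun B hB => herase B v (hFB B hB v))] at h1
    rw [Finset.prod_const] at h1
    have hcard : 1 ≤ 𝒜.card := Finset.card_pos.mpr ⟨B₀, hB₀⟩
    have h2 : v ^ 𝒜.card = v := by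
      have := congrArg (fun x => x⁻¹) h1
      simpa using this
    have h3 : v ^ (𝒜.card - 1) * v = v := by
      rw [← pow_succ, Nat.sub_add_cancel hcard]; exact h2
    exact mul_eq_right.mp h3
  apply hV
  rw [Subgroup.eq_bot_iff_forall]
  intro x hx
  have h1 : orderOf (⟨x, hx⟩ : V) ∣ 𝒜.card - 1 := orderOf_dvd_of_pow_eq_one (hpow ⟨x, hx⟩)
  have h2 : orderOf (⟨x, hx⟩ : V) ∣ Nat.card V := orderOf_dvd_natCard _
  have h3 : orderOf (⟨x, hx⟩ : V) = 1 := Nat.eq_one_of_dvd_coprimes hk h1 h2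
  have := orderOf_eq_one_iff.mp h3
  exact congrArg Subtype.val this

end Cfsg.Agent.S3733
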