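import Cfsg.Statements.S3734
import Mathlib
import Cfsg.Agent.Lib.H19.NormQuot
import Cfsg.Agent.Lib.H19.AbelianRank
import Cfsg.Agent.Lib.H1.CoprimeAction
import Cfsg.Agent.Lib.H9.CoprimeGeneration
import Cfsg.Agent.S3736

set_option autoImplicit false
open Cfsg

namespace Cfsg.Agent.S3734

open Cfsg.Agent.Lib.H19 Cfsg.Agent.Lib.H1
open scoped commutatorElement

universe u

variable {X : Type u} [Group X]

/-- subgroups of `A` with cyclic quotient -/
def cycQuot (A : Subgroup X) : Set (Subgroup X) :=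
  {B | B ≤ A ∧ ∃ a ∈ A, B ⊔ Subgroup.zpowers a = A}

/-- the subgroup generated by the `C_K(B)`, `A/B` cyclic -/
def gen (A K : Subgroup X) : Subgroup X :=
  ⨆ B ∈ cycQuot A, K ⊓ Subgroup.centralizer (B : Set X)

theorem le_gen {A K B : Subgroup X} (hB : B ∈ cycQuot A) :
    K ⊓ Subgroup.centralizer (B : Set X) ≤ gen A K :=
  le_iSup₂_of_le B hB le_rfl

theorem gen_mono {A K K' : Subgroup X} (h : K ≤ K') : gen A K ≤ gen A K' :=
  iSup₂_le fun _ hB => (inf_le_inf_right _ h).trans (le_gen hB)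

theorem gen_le (A K : Subgroup X) : gen A K ≤ K :=
  iSup₂_le fun _ _ => inf_le_left

theorem exists_rank_two (A : Subgroup X) [Finite A] (hAc : ∀ a ∈ A, ∀ b ∈ A, a * b = b * a)
    (hcyc : ¬ IsCyclic A) :
    ∃ p : ℕ, p.Prime ∧ ∃ x ∈ A, ∃ y ∈ A, x ≠ 1 ∧ x ^ p = 1 ∧ y ^ p = 1 ∧
      y ∉ Subgroup.zpowers x := by
  have hmc : IsMulCommutative ↥A := ⟨⟨fun a b => Subtype.ext (hAc a a.2 b b.2)⟩⟩
  open scoped IsMulCommutative in
  obtain ⟨p, hp, x, y, hx1, hxp, hyp, hyx⟩ := exists_rank_two_of_not_isCyclic (G := ↥A) hcyc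
  refine ⟨p, hp, x, x.2, y, y.2, fun h => hx1 (Subtype.ext h), ?_, ?_, ?_⟩
  · have := congrArg Subtype.val hxp
    rwa [Subgroup.coe_pow] at this
  · have := congrArg Subtype.val hyp
    rwa [Subgroup.coe_pow] at this
  · intro h
    apply hyx
    obtain ⟨k, hk⟩ := Subgroup.mem_zpowers_iff.1 h
    refine Subgroup.mem_zpowers_iff.2 ⟨k, Subtype.ext ?_⟩
    rw [Subgroup.coe_zpow]; exact hk

theorem normalizer_inf_le (H K : Subgroup X) :
    Subgroup.normalizer (H : Set X) ⊓ Subgroup.normalizer (K : Set X) ≤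
      Subgroup.normalizer ((H ⊓ K : Subgroup X) : Set X) := by
  intro g hg
  have hgH : g ∈ Subgroup.normalizer (H : Set X) := (Subgroup.mem_inf.1 hg).1
  have hgK : g ∈ Subgroup.normalizer (K : Set X) := (Subgroup.mem_inf.1 hg).2
  rw [Subgroup.mem_normalizer_iff] at hgH hgK ⊢
  intro x
  rw [Subgroup.mem_inf, Subgroup.mem_inf, hgH x, hgK x]

theorem stepA [Finite X] {A K : Subgroup X} (hAc : ∀ a ∈ A, ∀ b ∈ A, a * b = b * a)
    (hAK : A ≤ Subgroup.normalizer (K : Set X)) (hcop : (Nat.card A).Coprime (Nat.card K))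
    (hZ : A ⊓ Subgroup.centralizer (K : Set X) ≠ ⊥)
    (IH : ∀ (X' : Type u) [Group X'] [Finite X'] (A' K' : Subgroup X'),
      Nat.card A' < Nat.card A → (∀ a ∈ A', ∀ b ∈ A', a * b = b * a) →
      A' ≤ Subgroup.normalizer (K' : Set X') → (Nat.card A').Coprime (Nat.card K') →
      K' ≤ gen A' K') : K ≤ gen A K := by
  set Z := A ⊓ Subgroup.centralizer (K : Set X) with hZdef
  have hZA : Z ≤ A := inf_le_left
  have hZK : ∀ z ∈ Z, ∀ k ∈ K, k * z = z * k := by
    intro z hz k hk
    exact (Subgroup.mem_centralizer_iff.1 (Subgroup.mem_inf.1 hz).2) k hk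
  have hAN : A ≤ Subgroup.normalizer (Z : Set X) := by
    intro a ha
    apply Subgroup.mem_normalizer_fintype
    intro z hz
    rw [SetLike.mem_coe] at hz ⊢
    have : a * z * a⁻¹ = z := by rw [hAc a ha z (hZA hz)]; group
    rw [this]; exact hz
  have hKN : K ≤ Subgroup.normalizer (Z : Set X) := by
    intro k hk
    apply Subgroup.mem_normalizer_fintype
    intro z hz
    rw [SetLike.mem_coe] at hz ⊢
    have : k * z * k⁻¹ = z := by rw [hZK z hz k hk]; group
    rw [this]; exact hz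
  have hsolvA : Group.IsSolvable A := Group.isSolvable_of_comm fun a b => Subtype.ext (hAc a a.2 b b.2)
  have hcA : CoprimeAction A K := ⟨hAK, hcop, Or.inl hsolvA⟩
  have hdisj : K ⊓ A = ⊥ := disjoint_iff.1 hcA.disjoint
  have hcardlt : Nat.card (bar Z A) < Nat.card A := by
    have h1 := card_bar_mul hZA hAN
    have h2 : 1 < Nat.card Z := (Subgroup.one_lt_card_iff_ne_bot Z).2 hZ
    have h3 : 0 < Nat.card (bar Z A) := Nat.card_pos
    rw [← h1]; nlinarith
  have hK' := IH (NQ Z) (bar Z A) (bar Z K) hcardlt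
    (by
      intro a' ha' b' hb'
      obtain ⟨a, han, haA, rfl⟩ := mem_bar.1 ha'
      obtain ⟨b, hbn, hbA, rfl⟩ := mem_bar.1 hb'
      rw [← map_mul, ← map_mul]
      congr 1
      exact Subtype.ext (hAc a haA b hbA))
    (bar_le_normalizer_bar hAK)
    (Nat.Coprime.coprime_dvd_left (card_bar_dvd Z A)
      (Nat.Coprime.coprime_dvd_right (card_bar_dvd Z K) hcop))
  have hgen : gen (bar Z A) (bar Z K) ≤ bar Z (gen A K) := by
    apply iSup₂_le
    rintro B' ⟨hB'A, a', ha', hsup⟩
    obtain ⟨a, han, haA, rfl⟩ := mem_bar.1 ha'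
    set B := lift Z B' with hBdef
    have hBA : B ≤ A := by
      have h1 := lift_mono (N := Z) hB'A
      rwa [lift_bar hAN, sup_of_le_left hZA] at h1
    have hBcyc : B ∈ cycQuot A := by
      refine ⟨hBA, a, haA, ?_⟩
      set D := B ⊔ Subgroup.zpowers a with hD
      have hDA : D ≤ A := sup_le hBA (Subgroup.zpowers_le.2 haA)
      apply le_antisymm hDA
      have h1 : bar Z A ≤ bar Z D := by
        rw [← hsup]
        apply sup_le
        · have : B' = bar Z B := (bar_lift Z B').symm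
          rw [this]; exact bar_mono le_sup_left
        · rw [Subgroup.zpowers_le]
          exact nqMk_mem_bar han ((le_sup_right : Subgroup.zpowers a ≤ D) (Subgroup.mem_zpowers a))
      have h2 := lift_mono (N := Z) h1
      have hZD : Z ≤ D := (le_lift Z B').trans le_sup_left
      rwa [lift_bar hAN, sup_of_le_left hZA, lift_bar (hDA.trans hAN), sup_of_le_left hZD] at h2
    refine le_trans ?_ (bar_mono (le_gen hBcyc))
    intro y hy
    obtain ⟨hyK, hyC⟩ := Subgroup.mem_inf.1 hy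
    obtain ⟨k, hkn, hkK, rfl⟩ := mem_bar.1 hyK
    refine nqMk_mem_bar hkn (Subgroup.mem_inf.2 ⟨hkK, ?_⟩)
    rw [Subgroup.mem_centralizer_iff]
    intro b hb
    have hbA := hBA hb
    have hbn := hAN hbA
    have hb' : nqMk Z ⟨b, hbn⟩ ∈ B' := by
      obtain ⟨_, h⟩ := mem_lift.1 hb
      exact h
    have hc := (Subgroup.mem_centralizer_iff.1 hyC) _ hb'
    have hm : b * k * b⁻¹ * k⁻¹ ∈ Subgroup.normalizer (Z : Set X) :=
      (Subgroup.normalizer (Z : Set X)).mul_mem ((Subgroup.normalizer (Z : Set X)).mul_mem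
        ((Subgroup.normalizer (Z : Set X)).mul_mem hbn hkn)
        ((Subgroup.normalizer (Z : Set X)).inv_mem hbn))
        ((Subgroup.normalizer (Z : Set X)).inv_mem hkn)
    have h1 : nqMk Z ⟨b * k * b⁻¹ * k⁻¹, hm⟩ = 1 := by
      have e : (⟨b * k * b⁻¹ * k⁻¹, hm⟩ : ↥(Subgroup.normalizer (Z : Set X))) =
          (⟨b, hbn⟩ : ↥(Subgroup.normalizer (Z : Set X))) * ⟨k, hkn⟩ *
            (⟨b, hbn⟩ : ↥(Subgroup.normalizer (Z : Set X)))⁻¹ *
            (⟨k, hkn⟩ : ↥(Subgroup.normalizer (Z : Set X)))⁻¹ := rfl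
      rw [e, map_mul, map_mul, map_mul, map_inv, map_inv, hc]
      group
    have h2 : b * k * b⁻¹ * k⁻¹ ∈ Z := (nqMk_eq_one_iff hm).1 h1
    have h3 : b * k * b⁻¹ * k⁻¹ ∈ K :=
      K.mul_mem ((Subgroup.mem_normalizer_iff.1 (hAK hbA) k).1 hkK) (K.inv_mem hkK)
    have h4 : b * k * b⁻¹ * k⁻¹ = 1 := by
      have : b * k * b⁻¹ * k⁻¹ ∈ K ⊓ A := Subgroup.mem_inf.2 ⟨h3, hZA h2⟩
      rw [hdisj] at this
      exact Subgroup.mem_bot.1 this
    calc b * k = (b * k * b⁻¹ * k⁻¹) * k * b := by group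
      _ = k * b := by rw [h4, one_mul]
  intro k hk
  have hkn := hKN hk
  have h1 : nqMk Z ⟨k, hkn⟩ ∈ bar Z (gen A K) := hgen (hK' (nqMk_mem_bar hkn hk))
  obtain ⟨w, hwn, hwW, hwk⟩ := mem_bar.1 h1
  have h2 : w⁻¹ * k ∈ Z := by
    have hm : w⁻¹ * k ∈ Subgroup.normalizer (Z : Set X) :=
      (Subgroup.normalizer (Z : Set X)).mul_mem ((Subgroup.normalizer (Z : Set X)).inv_mem hwn) hkn
    apply (nqMk_eq_one_iff hm).1
    have e : (⟨w⁻¹ * k, hm⟩ : ↥(Subgroup.normalizer (Z : Set X))) =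
        (⟨w, hwn⟩ : ↥(Subgroup.normalizer (Z : Set X)))⁻¹ * ⟨k, hkn⟩ := rfl
    rw [e, map_mul, map_inv, hwk, inv_mul_cancel]
  have h3 : w⁻¹ * k ∈ K := K.mul_mem (K.inv_mem (gen_le A K hwW)) hk
  have h4 : w⁻¹ * k = 1 := by
    have : w⁻¹ * k ∈ K ⊓ A := Subgroup.mem_inf.2 ⟨h3, hZA h2⟩
    rw [hdisj] at this
    exact Subgroup.mem_bot.1 this
  have : k = w := by
    calc k = w * (w⁻¹ * k) := by group
      _ = w := by rw [h4, mul_one]
  rw [this]; exact hwW

theorem main_aux : ∀ n : ℕ, ∀ (X : Type u) [Group X] [Finite X] (A K : Subgroup X),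
    Nat.card A = n → (∀ a ∈ A, ∀ b ∈ A, a * b = b * a) →
    A ≤ Subgroup.normalizer (K : Set X) → (Nat.card A).Coprime (Nat.card K) → K ≤ gen A K := by
  intro n
  induction n using Nat.strong_induction_on with
  | _ n ih =>
    intro X _ _ A K hn hAc hAK hcop
    have IH : ∀ (X' : Type u) [Group X'] [Finite X'] (A' K' : Subgroup X'),
        Nat.card A' < Nat.card A → (∀ a ∈ A', ∀ b ∈ A', a * b = b * a) →
        A' ≤ Subgroup.normalizer (K' : Set X') → (Nat.card A').Coprime (Nat.card K') →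
        K' ≤ gen A' K' :=
      fun X' _ _ A' K' hlt h1 h2 h3 => ih (Nat.card A') (hn ▸ hlt) X' A' K' rfl h1 h2 h3
    by_cases hcyc : IsCyclic A
    · obtain ⟨g, hg⟩ := (Subgroup.isCyclic_iff_exists_zpowers_eq_top A).1 hcyc
      have hB : (⊥ : Subgroup X) ∈ cycQuot A :=
        ⟨bot_le, g, by rw [← hg]; exact Subgroup.mem_zpowers g, by rw [bot_sup_eq, hg]⟩
      refine le_trans ?_ (le_gen hB)
      intro k hk
      refine Subgroup.mem_inf.2 ⟨hk, ?_⟩
      rw [Subgroup.mem_centralizer_iff]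
      intro b hb
      rw [SetLike.mem_coe, Subgroup.mem_bot] at hb
      rw [hb, one_mul, mul_one]
    · obtain ⟨p, hp, x, hxA, y, hyA, hx1', hxp', hyp', hyx⟩ := exists_rank_two A hAc hcyc
      have hpf : Fact p.Prime := ⟨hp⟩
      have hsolvA : Group.IsSolvable A :=
        Group.isSolvable_of_comm fun a b => Subtype.ext (hAc a a.2 b b.2)
      have hcA : CoprimeAction A K := ⟨hAK, hcop, Or.inl hsolvA⟩
      have hxo : orderOf x = p := by
        rcases (Nat.dvd_prime hp).1 (orderOf_dvd_of_pow_eq_one hxp') with h | h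
        · exact absurd (orderOf_eq_one_iff.1 h) hx1'
        · exact h
      have hKp : (Nat.card K).Coprime p := by
        have h1 : p ∣ Nat.card A := by
          rw [← hxo]
          exact Subgroup.orderOf_dvd_natCard A hxA
        exact (Nat.Coprime.coprime_dvd_left h1 hcop).symm
      have hstep : ∀ e ∈ A, e ≠ 1 → K ⊓ Subgroup.centralizer {e} ≤ gen A K := by
        intro e heA he1
        set Ke := K ⊓ Subgroup.centralizer ({e} : Set X) with hKe
        have hAKe : A ≤ Subgroup.normalizer (Ke : Set X) := by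
          intro a ha
          apply Subgroup.mem_normalizer_fintype
          intro k hk
          rw [SetLike.mem_coe] at hk ⊢
          obtain ⟨hkK, hke⟩ := Subgroup.mem_inf.1 hk
          refine Subgroup.mem_inf.2 ⟨(Subgroup.mem_normalizer_iff.1 (hAK ha) k).1 hkK, ?_⟩
          rw [Subgroup.mem_centralizer_iff] at hke ⊢
          intro e' he'
          rw [Set.mem_singleton_iff] at he'
          subst he'
          have h1 := hke e' rfl
          have h2 := hAc a ha e' heA
          calc e' * (a * k * a⁻¹) = a * (e' * k) * a⁻¹ := by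
                rw [← mul_assoc, ← mul_assoc, ← h2]; group
            _ = a * (k * e') * a⁻¹ := by rw [h1]
            _ = a * k * a⁻¹ * e' := by
                have h3 : e' * a⁻¹ = a⁻¹ * e' := by
                  calc e' * a⁻¹ = a⁻¹ * (a * e') * a⁻¹ := by group
                    _ = a⁻¹ * (e' * a) * a⁻¹ := by rw [h2]
                    _ = a⁻¹ * e' := by group
                calc a * (k * e') * a⁻¹ = a * k * (e' * a⁻¹) := by group
                  _ = a * k * (a⁻¹ * e') := by rw [h3]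
                  _ = a * k * a⁻¹ * e' := by group
        have hcop' : (Nat.card A).Coprime (Nat.card Ke) :=
          Nat.Coprime.coprime_dvd_right (Subgroup.card_dvd_of_le inf_le_left) hcop
        have hZe : A ⊓ Subgroup.centralizer (Ke : Set X) ≠ ⊥ := by
          intro h
          have : e ∈ A ⊓ Subgroup.centralizer (Ke : Set X) := by
            refine Subgroup.mem_inf.2 ⟨heA, ?_⟩
            rw [Subgroup.mem_centralizer_iff]
            intro k hk
            have hke := (Subgroup.mem_inf.1 hk).2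
            rw [Subgroup.mem_centralizer_iff] at hke
            exact (hke e rfl).symm
          rw [h, Subgroup.mem_bot] at this
          exact he1 this
        exact (stepA hAc hAKe hcop' hZe IH).trans (gen_mono inf_le_left)
      have hxy : x * y = y * x := hAc x hxA y hyA
      apply Cfsg.Agent.Lib.H9.le_of_centralizers_le (p := p) hcA hKp hxA hyA hxy hxp' hyp'
        (hstep x hxA hx1')
      intro i
      apply hstep _ (A.mul_mem (A.pow_mem hxA i) hyA)
      intro h
      apply hyx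
      have hy : y = (x ^ i)⁻¹ := by
        calc y = (x ^ i)⁻¹ * (x ^ i * y) := by group
          _ = (x ^ i)⁻¹ := by rw [h, mul_one]
      rw [hy]
      exact Subgroup.inv_mem _ (Subgroup.pow_mem _ (Subgroup.mem_zpowers x) i)

theorem gen_eq [Finite X] {A K : Subgroup X} (hAc : ∀ a ∈ A, ∀ b ∈ A, a * b = b * a)
    (hAK : A ≤ Subgroup.normalizer (K : Set X)) (hcop : (Nat.card A).Coprime (Nat.card K)) :
    gen A K = K :=
  le_antisymm (gen_le A K) (main_aux _ X A K rfl hAc hAK hcop)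

/-- elements of the normalizer of `W` centralizing `A` modulo `W` -/
def centMod (W A : Subgroup X) : Subgroup X where
  carrier := {x | x ∈ Subgroup.normalizer (W : Set X) ∧ ∀ a ∈ A, ⁅x, a⁆ ∈ W}
  one_mem' := ⟨Subgroup.one_mem _, fun a _ => by
    rw [commutatorElement_one_left]; exact W.one_mem⟩
  mul_mem' := by
    rintro x y ⟨hxn, hx⟩ ⟨hyn, hy⟩
    refine ⟨Subgroup.mul_mem _ hxn hyn, fun a ha => ?_⟩
    have e : ⁅x * y, a⁆ = x * ⁅y, a⁆ * x⁻¹ * ⁅x, a⁆ := by
      simp only [commutatorElement_def]; group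
    rw [e]
    exact W.mul_mem ((Subgroup.mem_normalizer_iff.1 hxn _).1 (hy a ha)) (hx a ha)
  inv_mem' := by
    rintro x ⟨hxn, hx⟩
    refine ⟨Subgroup.inv_mem _ hxn, fun a ha => ?_⟩
    have e : ⁅x⁻¹, a⁆ = x⁻¹ * (⁅x, a⁆)⁻¹ * x⁻¹⁻¹ := by
      simp only [commutatorElement_def]; group
    rw [e]
    exact (Subgroup.mem_normalizer_iff.1 (Subgroup.inv_mem _ hxn) _).1 (W.inv_mem (hx a ha))

theorem normalizer_iSup₂_of_forall {ι : Type*} {s : Set ι} {f : ι → Subgroup X} {g : X}
    (h : ∀ i ∈ s, g ∈ Subgroup.normalizer ((f i : Subgroup X) : Set X)) :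
    g ∈ Subgroup.normalizer ((⨆ i ∈ s, f i : Subgroup X) : Set X) := by
  rw [mem_normalizer_iff_map_conj, Subgroup.map_iSup]
  congr 1
  funext i
  rw [Subgroup.map_iSup]
  congr 1
  funext hi
  exact (mem_normalizer_iff_map_conj).1 (h i hi)

theorem main2 [Finite X] (A G : Subgroup X) (hAc : ∀ a ∈ A, ∀ b ∈ A, a * b = b * a)
    (hAG : A ≤ Subgroup.normalizer (G : Set X)) (hcop : (Nat.card A).Coprime (Nat.card G)) :
    (⨆ B ∈ cycQuot A, ⁅G ⊓ Subgroup.centralizer (B : Set X), A⁆) = ⁅G, A⁆ := by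
  apply le_antisymm
  · exact iSup₂_le fun B _ => Subgroup.commutator_mono inf_le_left le_rfl
  set W := ⨆ B ∈ cycQuot A, ⁅G ⊓ Subgroup.centralizer (B : Set X), A⁆ with hW
  have hsolvA : Group.IsSolvable A := Group.isSolvable_of_comm fun a b => Subtype.ext (hAc a a.2 b b.2)
  have hcA : CoprimeAction A G := ⟨hAG, hcop, Or.inl hsolvA⟩
  set K₁ := ⁅G, A⁆ with hK₁
  have hK₁G : K₁ ≤ G := hcA.commutator_le
  have hAK₁ : A ≤ Subgroup.normalizer (K₁ : Set X) :=
    (le_inf hAG Subgroup.le_normalizer).trans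
      (Cfsg.Agent.S3736.normalizer_inf_le_normalizer_commutator G A)
  have hcA₁ : CoprimeAction A K₁ := hcA.mono hK₁G hAK₁
  have hAcentB : ∀ B ∈ cycQuot A, A ≤ Subgroup.centralizer (B : Set X) := by
    intro B hB a ha
    rw [Subgroup.mem_centralizer_iff]
    intro b hb
    exact hAc b (hB.1 hb) a ha
  have hAnormCB : ∀ B ∈ cycQuot A,
      A ≤ Subgroup.normalizer ((Subgroup.centralizer (B : Set X) : Subgroup X) : Set X) :=
    fun B hB => (hAcentB B hB).trans Subgroup.le_normalizer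
  -- `A` normalizes `W`
  have hAW : A ≤ Subgroup.normalizer (W : Set X) := by
    intro a ha
    apply normalizer_iSup₂_of_forall
    intro B hB
    apply Cfsg.Agent.S3736.normalizer_inf_le_normalizer_commutator
    refine Subgroup.mem_inf.2 ⟨?_, Subgroup.le_normalizer ha⟩
    apply normalizer_inf_le
    exact Subgroup.mem_inf.2 ⟨hAG ha, hAnormCB B hB ha⟩
  set Cent := K₁ ⊓ Subgroup.centralizer (A : Set X) with hCent
  have hCentW : Cent ≤ Subgroup.normalizer (W : Set X) := by
    intro c hc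
    obtain ⟨hcK, hcA'⟩ := Subgroup.mem_inf.1 hc
    apply normalizer_iSup₂_of_forall
    intro B hB
    apply Cfsg.Agent.S3736.normalizer_inf_le_normalizer_commutator
    refine Subgroup.mem_inf.2 ⟨?_, ?_⟩
    · apply normalizer_inf_le
      refine Subgroup.mem_inf.2 ⟨Subgroup.le_normalizer (hK₁G hcK), Subgroup.le_normalizer ?_⟩
      rw [Subgroup.mem_centralizer_iff]
      intro b hb
      rw [Subgroup.mem_centralizer_iff] at hcA'
      exact hcA' b (hB.1 hb)
    · apply Subgroup.mem_normalizer_fintype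
      intro a ha
      rw [SetLike.mem_coe] at ha ⊢
      have h1 := (Subgroup.mem_centralizer_iff.1 hcA') a ha
      have h2 : c * a * c⁻¹ = a := by rw [← h1]; group
      rw [h2]; exact ha
  have hK₁le : K₁ ≤ W ⊔ Cent := by
    have h := main_aux _ X A K₁ rfl hAc hAK₁ hcA₁.coprime
    refine h.trans (iSup₂_le fun B hB => ?_)
    set L := K₁ ⊓ Subgroup.centralizer (B : Set X) with hL
    have hAL : A ≤ Subgroup.normalizer (L : Set X) := by
      intro a ha
      apply normalizer_inf_le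
      exact Subgroup.mem_inf.2 ⟨hAK₁ ha, hAnormCB B hB ha⟩
    have hcL : CoprimeAction A L := hcA₁.mono inf_le_left hAL
    have h2 := coprime_commutator_sup_centralizer hcL
    rw [← h2]
    apply sup_le_sup
    · exact (Subgroup.commutator_mono (inf_le_inf_right _ hK₁G) le_rfl).trans
        (le_iSup₂_of_le B hB le_rfl)
    · exact inf_le_inf_right _ inf_le_left
  have hM : W ⊔ Cent ≤ centMod W A := by
    apply sup_le
    · intro w hw
      refine ⟨Subgroup.le_normalizer hw, fun a ha => ?_⟩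
      have h1 := (Subgroup.mem_normalizer_iff.1 (hAW ha) w⁻¹).1 (W.inv_mem hw)
      have e : ⁅w, a⁆ = w * (a * w⁻¹ * a⁻¹) := by rw [commutatorElement_def]; group
      rw [e]; exact W.mul_mem hw h1
    · intro c hc
      refine ⟨hCentW hc, fun a ha => ?_⟩
      have h1 := (Subgroup.mem_centralizer_iff.1 (Subgroup.mem_inf.1 hc).2) a ha
      rw [commutatorElement_eq_one_iff_mul_comm.2 h1.symm]; exact W.one_mem
  have h1 : ⁅K₁, A⁆ = K₁ := coprime_commutator_commutator hcA
  calc K₁ = ⁅K₁, A⁆ := h1.symm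
    _ ≤ W := by
      rw [Subgroup.commutator_le]
      intro k hk a ha
      exact (hM (hK₁le hk)).2 a ha

/-- Let A and G be subgroups of a finite group with A abelian, A normalizing G and the orders of A and G coprime. Then G is generated by the fixed-point subgroups C_G(B) of those subgroups B of A for which A/B is cyclic (that is, A = ⟨B, a⟩ for some a), and [G, A] is generated by the commutator subgroups [C_G(B), A] over the same subgroups B. -/
theorem result {X : Type*} [Group X] [Finite X] (A G : Subgroup X) (hAab : IsMulCommutative A) (hAG : A ≤ Subgroup.normalizer (G : Set X)) (hcop : (Nat.card A).Coprime (Nat.card G)) : (⨆ B ∈ {B : Subgroup X | B ≤ A ∧ ∃ a ∈ A, B ⊔ Subgroup.zpowers a = A}, G ⊓ Subgroup.centralizer (B : Set X)) = G ∧ (⨆ B ∈ {B : Subgroup X | B ≤ A ∧ ∃ a ∈ A, B ⊔ Subgroup.zpowers a = A}, ⁅G ⊓ Subgroup.centralizer (B : Set X), A⁆) = ⁅G, A⁆ := by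
  have hAc : ∀ a ∈ A, ∀ b ∈ A, a * b = b * a := fun a ha b hb =>
    congrArg Subtype.val (mul_comm' (⟨a, ha⟩ : A) ⟨b, hb⟩)
  exact ⟨gen_eq hAc hAG hcop, main2 A G hAc hAG hcop⟩

end Cfsg.Agent.S3734
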