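import Cfsg.Statements.S3735
import Mathlib
import Cfsg.Agent.Lib.H19.SylowAux

set_option autoImplicit false
open Cfsg

namespace Cfsg.Agent.S3735

open Cfsg.Agent.Lib.H19

variable {G : Type*} [Group G]

/-- `S` is a minimal nontrivial `A`-invariant subgroup of `V`. -/
def IsMinInv (A V S : Subgroup G) : Prop :=
  S ≤ V ∧ S ≠ ⊥ ∧ A ≤ Subgroup.normalizer (S : Set G) ∧
    ∀ T : Subgroup G, T ≤ S → A ≤ Subgroup.normalizer (T : Set G) → T = ⊥ ∨ T = S

/-- conjugating an `A`-invariant subgroup by an element normalizing `A` gives an `A`-invariant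
subgroup -/
theorem inv_conj {A T : Subgroup G} {h : G} (hh : h⁻¹ ∈ Subgroup.normalizer (A : Set G))
    (hT : A ≤ Subgroup.normalizer (T : Set G)) :
    A ≤ Subgroup.normalizer ((T.map (MulAut.conj h).toMonoidHom : Subgroup G) : Set G) := by
  intro a ha
  rw [mem_normalizer_iff_map_conj, ← map_conj_mul]
  have ha' : h⁻¹ * a * h ∈ A := by
    rw [mem_normalizer_iff_map_conj] at hh
    rw [← hh, mem_map_conj]
    have h2 : h⁻¹⁻¹ * (h⁻¹ * a * h) * h⁻¹ = a := by group
    rw [h2]; exact ha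
  have h3 : a * h = h * (h⁻¹ * a * h) := by group
  rw [h3, map_conj_mul, mem_normalizer_iff_map_conj.1 (hT ha')]

theorem exists_minInv [Finite G] {A V W : Subgroup G} (hWV : W ≤ V) (hW : W ≠ ⊥)
    (hAW : A ≤ Subgroup.normalizer (W : Set G)) : ∃ S, S ≤ W ∧ IsMinInv A V S := by
  classical
  have hex : ∃ n, ∃ T : Subgroup G, T ≤ W ∧ T ≠ ⊥ ∧ A ≤ Subgroup.normalizer (T : Set G) ∧
      Nat.card T = n := ⟨_, W, le_rfl, hW, hAW, rfl⟩
  obtain ⟨S, hSW, hSne, hSA, hSn⟩ := Nat.find_spec hex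
  refine ⟨S, hSW, hSW.trans hWV, hSne, hSA, ?_⟩
  intro T hTS hTA
  by_cases hT : T = ⊥
  · left; exact hT
  · right
    have := Nat.find_min' hex ⟨T, hTS.trans hSW, hT, hTA, rfl⟩
    rw [← hSn] at this
    exact Subgroup.eq_of_le_of_card_ge hTS this

theorem isMinInv_conj [Finite G] {A V S : Subgroup G} {h : G}
    (hhA : h ∈ Subgroup.normalizer (A : Set G)) (hhV : h ∈ Subgroup.normalizer (V : Set G))
    (hS : IsMinInv A V S) : IsMinInv A V (S.map (MulAut.conj h).toMonoidHom) := by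
  obtain ⟨hSV, hSne, hSA, hmin⟩ := hS
  have hhA' : h⁻¹ ∈ Subgroup.normalizer (A : Set G) := Subgroup.inv_mem _ hhA
  refine ⟨?_, ?_, inv_conj hhA' hSA, ?_⟩
  · have := map_conj_le_map_conj hSV h
    rwa [mem_normalizer_iff_map_conj.1 hhV] at this
  · intro hb
    apply hSne
    have := card_map_conj S h
    rw [hb, Subgroup.card_bot] at this
    exact (Subgroup.card_eq_one).1 this.symm
  · intro T hTS hTA
    have h1 : T.map (MulAut.conj h⁻¹).toMonoidHom ≤ S := by
      have := map_conj_le_map_conj hTS h⁻¹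
      rwa [← map_conj_mul, inv_mul_cancel, map_conj_one] at this
    have h2 : A ≤ Subgroup.normalizer ((T.map (MulAut.conj h⁻¹).toMonoidHom : Subgroup G) : Set G) :=
      inv_conj (by rw [inv_inv]; exact hhA) hTA
    have hback : (T.map (MulAut.conj h⁻¹).toMonoidHom).map (MulAut.conj h).toMonoidHom = T := by
      rw [← map_conj_mul, mul_inv_cancel, map_conj_one]
    rcases hmin _ h1 h2 with h3 | h3
    · left
      rw [← hback, h3, Subgroup.map_bot]
    · right
      rw [← hback, h3]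

/-- product decomposition in `S ⊔ T` when `T` centralizes `S` -/
theorem mem_sup_of_comm {V S T : Subgroup G} (hV : IsMulCommutative V) (hS : S ≤ V) (hT : T ≤ V)
    {x : G} (hx : x ∈ S ⊔ T) : ∃ s ∈ S, ∃ t ∈ T, x = s * t := by
  have hnorm : S ≤ Subgroup.normalizer (T : Set G) := by
    intro s hs
    rw [Subgroup.mem_normalizer_iff]
    intro t
    have key : ∀ y ∈ V, s * y * s⁻¹ = y := by
      intro y hy
      have := hV.is_comm.comm (⟨s, hS hs⟩ : V) ⟨y, hy⟩
      have h2 : s * y = y * s := congrArg Subtype.val this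
      rw [h2]; group
    constructor
    · intro ht
      rw [key t (hT ht)]; exact ht
    · intro ht
      by_cases htV : t ∈ V
      · rw [key t htV] at ht; exact ht
      · exfalso
        apply htV
        have h3 := hT ht
        have h4 : t = s⁻¹ * (s * t * s⁻¹) * s := by group
        rw [h4]
        exact V.mul_mem (V.mul_mem (V.inv_mem (hS hs)) h3) (hS hs)
  have h := Subgroup.coe_mul_of_left_le_normalizer_right S T hnorm
  have hx' : x ∈ ((S ⊔ T : Subgroup G) : Set G) := hx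
  rw [h] at hx'
  obtain ⟨s, hs, t, ht, rfl⟩ := hx'
  exact ⟨s, hs, t, ht, rfl⟩

theorem main [Finite G] (H A V : Subgroup G) (hVab : IsMulCommutative V)
    (hHV : H ≤ Subgroup.normalizer (V : Set G)) (hAH : A ≤ H)
    (hAn : H ≤ Subgroup.normalizer (A : Set G))
    (hss : ∀ U : Subgroup G, U ≤ V → H ≤ Subgroup.normalizer (U : Set G) →
      ∃ W : Subgroup G, W ≤ V ∧ H ≤ Subgroup.normalizer (W : Set G) ∧ U ⊓ W = ⊥ ∧ U ⊔ W = V)
    (U : Subgroup G) (hUV : U ≤ V) (hAU : A ≤ Subgroup.normalizer (U : Set G)) :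
    ∃ W : Subgroup G, W ≤ V ∧ A ≤ Subgroup.normalizer (W : Set G) ∧ U ⊓ W = ⊥ ∧ U ⊔ W = V := by
  classical
  -- the socle
  set Soc : Subgroup G := sSup {S | IsMinInv A V S} with hSoc
  have hSocV : Soc ≤ V := sSup_le (fun S hS => hS.1)
  have hSocH : H ≤ Subgroup.normalizer (Soc : Set G) := by
    intro h hh
    rw [mem_normalizer_iff_map_conj]
    apply Subgroup.eq_of_le_of_card_ge
    · rw [Subgroup.map_le_iff_le_comap]
      apply sSup_le
      intro S hS
      rw [← Subgroup.map_le_iff_le_comap]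
      exact le_sSup (isMinInv_conj (hAn hh) (hHV hh) hS)
    · exact (card_map_conj _ h).ge
  have hSoc_top : Soc = V := by
    obtain ⟨W, hWV, hWH, hinf, hsup⟩ := hss Soc hSocV hSocH
    by_cases hW : W = ⊥
    · rw [hW, sup_bot_eq] at hsup; exact hsup
    · exfalso
      obtain ⟨S, hSW, hS⟩ := exists_minInv (A := A) hWV hW (hAH.trans hWH)
      have h1 : S ≤ Soc ⊓ W := le_inf (le_sSup hS) hSW
      rw [hinf, le_bot_iff] at h1
      exact hS.2.1 h1
  -- a maximal `A`-invariant subgroup meeting `U` trivially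
  have hex : ∃ n, ∃ W : Subgroup G, W ≤ V ∧ A ≤ Subgroup.normalizer (W : Set G) ∧ U ⊓ W = ⊥ ∧
      Nat.card G - Nat.card W = n :=
    ⟨_, ⊥, bot_le, by intro a _; rw [mem_normalizer_iff_map_conj, Subgroup.map_bot], inf_bot_eq _, rfl⟩
  obtain ⟨W, hWV, hWA, hUW, hWn⟩ := Nat.find_spec hex
  refine ⟨W, hWV, hWA, hUW, ?_⟩
  by_contra hne
  have hlt : U ⊔ W < V := lt_of_le_of_ne (sup_le hUV hWV) hne
  -- some minimal invariant subgroup is not inside `U ⊔ W`
  have hexS : ∃ S, IsMinInv A V S ∧ ¬ S ≤ U ⊔ W := by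
    by_contra hno
    apply hne
    apply le_antisymm (sup_le hUV hWV)
    rw [← hSoc_top]
    apply sSup_le
    intro S hS
    by_contra h2
    exact hno ⟨S, hS, h2⟩
  obtain ⟨S, hS, hSnot⟩ := hexS
  have hUWA : A ≤ Subgroup.normalizer ((U ⊔ W : Subgroup G) : Set G) := by
    intro a ha
    rw [mem_normalizer_iff_map_conj, Subgroup.map_sup, mem_normalizer_iff_map_conj.1 (hAU ha),
      mem_normalizer_iff_map_conj.1 (hWA ha)]
  have hSinf : S ⊓ (U ⊔ W) = ⊥ := by
    have hA : A ≤ Subgroup.normalizer ((S ⊓ (U ⊔ W) : Subgroup G) : Set G) := by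
      intro a ha
      rw [mem_normalizer_iff_map_conj]
      apply Subgroup.eq_of_le_of_card_ge
      · apply le_inf
        · have := map_conj_le_map_conj (inf_le_left : S ⊓ (U ⊔ W) ≤ S) a
          rwa [mem_normalizer_iff_map_conj.1 (hS.2.2.1 ha)] at this
        · have := map_conj_le_map_conj (inf_le_right : S ⊓ (U ⊔ W) ≤ U ⊔ W) a
          rwa [mem_normalizer_iff_map_conj.1 (hUWA ha)] at this
      · exact (card_map_conj _ a).ge
    rcases hS.2.2.2 _ inf_le_left hA with h | h
    · exact h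
    · exfalso; exact hSnot (h ▸ inf_le_right)
  -- `W ⊔ S` contradicts maximality
  have hW'V : W ⊔ S ≤ V := sup_le hWV hS.1
  have hW'A : A ≤ Subgroup.normalizer ((W ⊔ S : Subgroup G) : Set G) := by
    intro a ha
    rw [mem_normalizer_iff_map_conj, Subgroup.map_sup, mem_normalizer_iff_map_conj.1 (hWA ha),
      mem_normalizer_iff_map_conj.1 (hS.2.2.1 ha)]
  have hUW' : U ⊓ (W ⊔ S) = ⊥ := by
    rw [eq_bot_iff]
    rintro u ⟨huU, huWS⟩
    obtain ⟨w, hw, s, hs, rfl⟩ := mem_sup_of_comm hVab hWV hS.1 huWS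
    have hsmem : s ∈ S ⊓ (U ⊔ W) := by
      refine ⟨hs, ?_⟩
      have : s = w⁻¹ * (w * s) := by group
      rw [this]
      exact Subgroup.mul_mem _ (Subgroup.inv_mem _ (Subgroup.mem_sup_right hw))
        (Subgroup.mem_sup_left huU)
    rw [hSinf, Subgroup.mem_bot] at hsmem
    rw [hsmem, mul_one] at huU ⊢
    have : w ∈ U ⊓ W := ⟨huU, hw⟩
    rwa [hUW] at this
  have hWlt : W < W ⊔ S := by
    apply lt_of_le_of_ne le_sup_left
    intro heq
    have hSW : S ≤ W := heq ▸ le_sup_right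
    have : S ≤ S ⊓ (U ⊔ W) := le_inf le_rfl (hSW.trans le_sup_right)
    rw [hSinf, le_bot_iff] at this
    exact hS.2.1 this
  have hcard := card_lt_of_lt hWlt
  have hmin := Nat.find_min' hex ⟨W ⊔ S, hW'V, hW'A, hUW', rfl⟩
  rw [← hWn] at hmin
  have hle : Nat.card (W ⊔ S : Subgroup G) ≤ Nat.card G := Subgroup.card_le_card_group _
  omega

/-- Clifford's Theorem for actions on finite abelian groups, first part. Let H and V be subgroups of a finite group with V abelian and H normalizing V, and let A be a normal subgroup of H. If every H-invariant subgroup of V has an H-invariant complement in V, then every A-invariant subgroup of V has an A-invariant complement in V. -/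
theorem result {G : Type*} [Group G] [Finite G] (H A V : Subgroup G) (hVab : IsMulCommutative V) (hHV : H ≤ Subgroup.normalizer (V : Set G)) (hAH : A ≤ H) (hAn : H ≤ Subgroup.normalizer (A : Set G)) (hss : ∀ U : Subgroup G, U ≤ V → H ≤ Subgroup.normalizer (U : Set G) → ∃ W : Subgroup G, W ≤ V ∧ H ≤ Subgroup.normalizer (W : Set G) ∧ U ⊓ W = ⊥ ∧ U ⊔ W = V) (U : Subgroup G) (hUV : U ≤ V) (hAU : A ≤ Subgroup.normalizer (U : Set G)) : ∃ W : Subgroup G, W ≤ V ∧ A ≤ Subgroup.normalizer (W : Set G) ∧ U ⊓ W = ⊥ ∧ U ⊔ W = V :=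
  main H A V hVab hHV hAH hAn hss U hUV hAU

end Cfsg.Agent.S3735
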