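import Cfsg.Statements.S3740
import Mathlib
import Cfsg.Agent.Lib.H1.SL2Q8

set_option autoImplicit false
open Cfsg

namespace Cfsg.Agent.S3740

/-- Let F be a finite field of odd characteristic p and let a be a p-element of SL₂(F) normalizing a subgroup R of order prime to p with [R, a] ≠ 1. Then p = 3, R is a quaternion group of order 8, and R⟨a⟩ is isomorphic to SL₂(3). -/
theorem result (F : Type) [Field F] [Fintype F] {p : ℕ} [Fact p.Prime] [CharP F p] (hp : p ≠ 2) (a : Matrix.SpecialLinearGroup (Fin 2) F) (ha : IsPGroup p ↥(Subgroup.zpowers a)) (R : Subgroup (Matrix.SpecialLinearGroup (Fin 2) F)) (hR : (Nat.card R).Coprime p) (haR : a ∈ Subgroup.normalizer (R : Set (Matrix.SpecialLinearGroup (Fin 2) F))) (hnt : ⁅R, Subgroup.zpowers a⁆ ≠ ⊥) : p = 3 ∧ Nonempty (↥R ≃* QuaternionGroup 2) ∧ Nonempty (↥(R ⊔ Subgroup.zpowers a) ≃* Matrix.SpecialLinearGroup (Fin 2) (ZMod 3)) := by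
  have hap : a ^ p = 1 := by
    obtain ⟨k, hk⟩ := ha ⟨a, Subgroup.mem_zpowers a⟩
    have hk' : a ^ p ^ k = 1 := by
      have := congrArg Subtype.val hk
      simpa only [Subgroup.coe_pow, Subgroup.coe_one] using this
    exact Cfsg.Agent.Lib.H1.SL2.pow_p_eq_one_of_tr a
      (Cfsg.Agent.Lib.H1.SL2.tr_eq_two_of_pow (p := p) a k hk')
  have hnt' : ¬ ∀ x ∈ R, a * x = x * a := by
    intro hc
    apply hnt
    rw [Subgroup.commutator_eq_bot_iff_le_centralizer]
    intro x hx
    rw [Subgroup.mem_centralizer_iff]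
    intro z hz
    obtain ⟨n, rfl⟩ := Subgroup.mem_zpowers_iff.mp hz
    have : Commute a x := hc x hx
    exact (this.zpow_left n).eq
  exact Cfsg.Agent.Lib.H1.SL2.sl23_of_action hp hap hR haR hnt'

end Cfsg.Agent.S3740
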