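import Cfsg.Statements.S3741
import Cfsg.Agent.Lib.H16.PGroupCenter

set_option autoImplicit false
open Cfsg

namespace Cfsg.Agent.S3741

open scoped commutatorElement

/-- Pure double counting. -/
theorem dc {α β : Type*} [Fintype α] [Fintype β] (R : α → β → Prop) [DecidableRel R]
    [DecidablePred fun a => ∀ b, R a b] [DecidablePred fun b => ∀ a, R a b]
    (p : ℕ) (hp : 2 ≤ p)
    (h1 : ∀ a, (¬ ∀ b, R a b) →
      p * (Finset.univ.filter (fun b => R a b)).card = Fintype.card β)
    (h2 : ∀ b, (¬ ∀ a, R a b) →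
      p * (Finset.univ.filter (fun a => R a b)).card = Fintype.card α) :
    (Finset.univ.filter (fun a => ∀ b, R a b)).card * Fintype.card β =
      (Finset.univ.filter (fun b => ∀ a, R a b)).card * Fintype.card α := by
  have e1 : ∀ a, p * (Finset.univ.filter (fun b => R a b)).card =
      Fintype.card β + (if (∀ b, R a b) then (p - 1) * Fintype.card β else 0) := by
    intro a
    by_cases h : ∀ b, R a b
    · rw [if_pos h]
      have : Finset.univ.filter (fun b => R a b) = Finset.univ := by
        ext b; simp [h b]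
      rw [this, Finset.card_univ]
      obtain ⟨q, rfl⟩ : ∃ q, p = q + 1 := ⟨p - 1, by omega⟩
      simp; ring
    · rw [if_neg h, add_zero]; exact h1 a h
  have e2 : ∀ b, p * (Finset.univ.filter (fun a => R a b)).card =
      Fintype.card α + (if (∀ a, R a b) then (p - 1) * Fintype.card α else 0) := by
    intro b
    by_cases h : ∀ a, R a b
    · rw [if_pos h]
      have : Finset.univ.filter (fun a => R a b) = Finset.univ := by
        ext a; simp [h a]
      rw [this, Finset.card_univ]
      obtain ⟨q, rfl⟩ : ∃ q, p = q + 1 := ⟨p - 1, by omega⟩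
      simp; ring
    · rw [if_neg h, add_zero]; exact h2 b h
  have s1 : ∑ a : α, p * (Finset.univ.filter (fun b => R a b)).card =
      Fintype.card α * Fintype.card β +
        (Finset.univ.filter (fun a => ∀ b, R a b)).card * ((p - 1) * Fintype.card β) := by
    rw [Finset.sum_congr rfl (fun a _ => e1 a), Finset.sum_add_distrib, Finset.sum_const,
      Finset.card_univ, smul_eq_mul, ← Finset.sum_filter, Finset.sum_const, smul_eq_mul]
  have s2 : ∑ b : β, p * (Finset.univ.filter (fun a => R a b)).card =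
      Fintype.card β * Fintype.card α +
        (Finset.univ.filter (fun b => ∀ a, R a b)).card * ((p - 1) * Fintype.card α) := by
    rw [Finset.sum_congr rfl (fun b _ => e2 b), Finset.sum_add_distrib, Finset.sum_const,
      Finset.card_univ, smul_eq_mul, ← Finset.sum_filter, Finset.sum_const, smul_eq_mul]
  have s3 : ∑ a : α, p * (Finset.univ.filter (fun b => R a b)).card =
      ∑ b : β, p * (Finset.univ.filter (fun a => R a b)).card := by
    simp_rw [Finset.card_filter, Finset.mul_sum]
    exact Finset.sum_comm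
  rw [s1, s2, mul_comm (Fintype.card β) (Fintype.card α)] at s3
  have s4 := Nat.add_left_cancel s3
  obtain ⟨q, rfl⟩ : ∃ q, p = q + 2 := ⟨p - 2, by omega⟩
  have : (q + 1) * ((Finset.univ.filter (fun a => ∀ b, R a b)).card * Fintype.card β) =
      (q + 1) * ((Finset.univ.filter (fun b => ∀ a, R a b)).card * Fintype.card α) := by
    have : q + 2 - 1 = q + 1 := by omega
    rw [this] at s4
    linarith
  exact Nat.eq_of_mul_eq_mul_left (Nat.succ_pos q) this

variable {G : Type*} [Group G]

theorem conj_mem_commutator_left (A B : Subgroup G) :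
    ∀ g ∈ A, ∀ z ∈ ⁅A, B⁆, g * z * g⁻¹ ∈ ⁅A, B⁆ := by
  intro g hg z hz
  rw [Subgroup.commutator_def] at hz
  induction hz using Subgroup.closure_induction with
  | mem x hx =>
    obtain ⟨a, ha, b, hb, rfl⟩ := hx
    have : g * ⁅a, b⁆ * g⁻¹ = ⁅g * a, b⁆ * ⁅g, b⁆⁻¹ := by
      simp only [commutatorElement_def]; group
    rw [this]
    exact mul_mem (Subgroup.commutator_mem_commutator (mul_mem hg ha) hb)
      (inv_mem (Subgroup.commutator_mem_commutator hg hb))
  | one => simp
  | mul x y _ _ hx hy =>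
    have : g * (x * y) * g⁻¹ = (g * x * g⁻¹) * (g * y * g⁻¹) := by group
    rw [this]; exact mul_mem hx hy
  | inv x _ hx =>
    have : g * x⁻¹ * g⁻¹ = (g * x * g⁻¹)⁻¹ := by group
    rw [this]; exact inv_mem hx

theorem conj_mem_commutator_right (A B : Subgroup G) :
    ∀ g ∈ B, ∀ z ∈ ⁅A, B⁆, g * z * g⁻¹ ∈ ⁅A, B⁆ := by
  intro g hg z hz
  rw [Subgroup.commutator_comm] at hz ⊢
  exact conj_mem_commutator_left B A g hg z hz

/-- `⁅A, B⁆` of order at most `p` in a `p`-group is centralized by `A ⊔ B`. -/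
theorem central_of_card_le [Finite G] {p : ℕ} [Fact p.Prime] (hG : IsPGroup p G)
    (A B : Subgroup G) (hcard : Nat.card ↥⁅A, B⁆ ≤ p) :
    ∀ z ∈ ⁅A, B⁆, ∀ g ∈ A ⊔ B, g * z = z * g := by
  have hp := (Fact.out : p.Prime)
  by_cases hbot : ⁅A, B⁆ = ⊥
  · intro z hz g _
    rw [hbot, Subgroup.mem_bot] at hz
    rw [hz]; simp
  have hZK : ⁅A, B⁆ ≤ A ⊔ B := by
    rw [Subgroup.commutator_le]
    intro a ha b hb
    rw [commutatorElement_def]
    exact mul_mem (mul_mem (mul_mem (Subgroup.mem_sup_left ha) (Subgroup.mem_sup_right hb))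
      (inv_mem (Subgroup.mem_sup_left ha))) (inv_mem (Subgroup.mem_sup_right hb))
  have hnorm : A ⊔ B ≤ Subgroup.normalizer ((⁅A, B⁆ : Subgroup G) : Set G) := by
    apply sup_le
    · apply Cfsg.Agent.Lib.H16.le_normalizer_of_conj_mem
      exact conj_mem_commutator_left A B
    · apply Cfsg.Agent.Lib.H16.le_normalizer_of_conj_mem
      exact conj_mem_commutator_right A B
  obtain ⟨x, hxZ, hx1, hxc⟩ := Cfsg.Agent.Lib.H16.exists_ne_one_central_of_le_normalizer hp
    (A ⊔ B) ⁅A, B⁆ (hG.to_subgroup _) hZK hnorm hbot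
  have hZp : Nat.card ↥⁅A, B⁆ = p := by
    obtain ⟨k, hk⟩ := (hG.to_subgroup ⁅A, B⁆).exists_card_eq
    rcases Nat.eq_zero_or_pos k with rfl | hk0
    · exfalso; apply hbot
      rw [pow_zero] at hk
      exact Subgroup.card_eq_one.mp hk
    · have : p ^ 1 ≤ p ^ k := Nat.pow_le_pow_right hp.pos hk0
      rw [pow_one] at this
      omega
  intro z hz g hg
  have hmem : (⟨z, hz⟩ : ↥⁅A, B⁆) ∈ Subgroup.zpowers (⟨x, hxZ⟩ : ↥⁅A, B⁆) := by
    apply mem_zpowers_of_prime_card hZp
    intro h
    exact hx1 (congrArg Subtype.val h)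
  obtain ⟨k, hk⟩ := Subgroup.mem_zpowers_iff.mp hmem
  have hzx : z = x ^ k := by
    have := congrArg Subtype.val hk
    simpa using this.symm
  rw [hzx]
  have hc : Commute g x := hxc g hg
  exact (hc.zpow_right k).eq

/-- The counting step: for `a ∈ A` not centralizing `B`, `C_B(a)` has index `p` in `B`. -/
theorem count_step [Finite G] {p : ℕ} [Fact p.Prime] (A B : Subgroup G)
    (hcent : ∀ z ∈ ⁅A, B⁆, ∀ g ∈ B, g * z = z * g) (hcard : Nat.card ↥⁅A, B⁆ = p)
    (a : G) (ha : a ∈ A) (hna : ∃ b ∈ B, a * b ≠ b * a) :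
    p * Nat.card {b : B // a * (b : G) = b * a} = Nat.card B := by
  have hp := (Fact.out : p.Prime)
  -- the homomorphism `b ↦ [a, b]`
  let φ : B →* ↥⁅A, B⁆ :=
    { toFun := fun b => ⟨⁅a, (b : G)⁆, Subgroup.commutator_mem_commutator ha b.2⟩
      map_one' := by ext; simp
      map_mul' := by
        intro b1 b2
        ext
        simp only [Subgroup.coe_mul]
        have h := hcent ⁅a, (b2 : G)⁆ (Subgroup.commutator_mem_commutator ha b2.2) b1 b1.2
        have : ⁅a, (b1 : G) * b2⁆ = ⁅a, (b1 : G)⁆ * ((b1 : G) * ⁅a, (b2 : G)⁆) * (b1 : G)⁻¹ := by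
          simp only [commutatorElement_def]; group
        rw [this, h]; group }
  have hker : ∀ b : B, b ∈ φ.ker ↔ a * (b : G) = b * a := by
    intro b
    rw [MonoidHom.mem_ker]
    constructor
    · intro h
      have := congrArg Subtype.val h
      simp only [φ, MonoidHom.coe_mk, OneHom.coe_mk, Subgroup.coe_one] at this
      rw [commutatorElement_eq_one_iff_mul_comm] at this
      exact this
    · intro h
      ext
      simp only [φ, MonoidHom.coe_mk, OneHom.coe_mk, Subgroup.coe_one]
      rw [commutatorElement_eq_one_iff_mul_comm]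
      exact h
  have hrange : Nat.card φ.range = p := by
    obtain ⟨b, hb, hab⟩ := hna
    have hne : φ.range ≠ ⊥ := by
      intro h
      have : φ ⟨b, hb⟩ ∈ φ.range := ⟨_, rfl⟩
      rw [h, Subgroup.mem_bot] at this
      have h2 : (⟨b, hb⟩ : B) ∈ φ.ker := this
      rw [hker] at h2
      exact hab h2
    have hdvd : Nat.card φ.range ∣ Nat.card ↥⁅A, B⁆ := Subgroup.card_subgroup_dvd_card _
    have h1 : Nat.card φ.range ≠ 1 := fun h => hne (Subgroup.card_eq_one.mp h)
    rw [hcard] at hdvd
    rcases (Nat.dvd_prime hp).mp hdvd with h | h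
    · exact absurd h h1
    · exact h
  have hidx : φ.ker.index = p := by
    rw [Subgroup.index_ker, hrange]
  have hcardker : Nat.card {b : B // a * (b : G) = b * a} = Nat.card φ.ker := by
    apply Nat.card_congr
    exact Equiv.subtypeEquivRight (fun b => (hker b).symm)
  rw [hcardker, ← hidx, mul_comm]
  exact Subgroup.card_mul_index _

theorem card_eq_p [Finite G] {p : ℕ} [Fact p.Prime] (hG : IsPGroup p G) (Z : Subgroup G)
    (hcard : Nat.card Z ≤ p) (hbot : Z ≠ ⊥) : Nat.card Z = p := by
  have hp := (Fact.out : p.Prime)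
  obtain ⟨k, hk⟩ := (hG.to_subgroup Z).exists_card_eq
  rcases Nat.eq_zero_or_pos k with rfl | hk0
  · exfalso; apply hbot
    rw [pow_zero] at hk
    exact Subgroup.card_eq_one.mp hk
  · have : p ^ 1 ≤ p ^ k := Nat.pow_le_pow_right hp.pos hk0
    rw [pow_one] at this
    omega

/-- One half: `|C_A(B)| * |B| = |C_B(A)| * |A|`. -/
theorem card_mul_eq [Finite G] {p : ℕ} [Fact p.Prime] (hG : IsPGroup p G) (A B : Subgroup G)
    (hcard : Nat.card ↥⁅A, B⁆ ≤ p) :
    Nat.card ↥(A ⊓ Subgroup.centralizer (B : Set G)) * Nat.card B =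
      Nat.card ↥(B ⊓ Subgroup.centralizer (A : Set G)) * Nat.card A := by
  classical
  have hp := (Fact.out : p.Prime)
  have : Fintype A := Fintype.ofFinite A
  have : Fintype B := Fintype.ofFinite B
  have hcent := central_of_card_le hG A B hcard
  have hne : ∀ a ∈ A, ∀ b ∈ B, a * b ≠ b * a → Nat.card ↥⁅A, B⁆ = p := by
    intro a ha b hb hab
    apply card_eq_p hG _ hcard
    intro h
    have : ⁅a, b⁆ ∈ ⁅A, B⁆ := Subgroup.commutator_mem_commutator ha hb
    rw [h, Subgroup.mem_bot, commutatorElement_eq_one_iff_mul_comm] at this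
    exact hab this
  have key := dc (fun (a : A) (b : B) => (a : G) * (b : G) = b * a) p hp.two_le ?_ ?_
  · have e1 : (Finset.univ.filter (fun a : A => ∀ b : B, (a : G) * (b : G) = b * a)).card =
        Nat.card ↥(A ⊓ Subgroup.centralizer (B : Set G)) := by
      rw [← Fintype.card_subtype, ← Nat.card_eq_fintype_card]
      apply Nat.card_congr
      refine ⟨fun x => ⟨x.1.1, Subgroup.mem_inf.2 ⟨x.1.2, ?_⟩⟩,
        fun y => ⟨⟨y.1, (Subgroup.mem_inf.1 y.2).1⟩, ?_⟩, ?_, ?_⟩
      · rw [Subgroup.mem_centralizer_iff]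
        intro b hb
        exact (x.2 ⟨b, hb⟩).symm
      · intro b
        have := (Subgroup.mem_inf.1 y.2).2
        rw [Subgroup.mem_centralizer_iff] at this
        exact (this b b.2).symm
      · intro x; rfl
      · intro y; rfl
    have e2 : (Finset.univ.filter (fun b : B => ∀ a : A, (a : G) * (b : G) = b * a)).card =
        Nat.card ↥(B ⊓ Subgroup.centralizer (A : Set G)) := by
      rw [← Fintype.card_subtype, ← Nat.card_eq_fintype_card]
      apply Nat.card_congr
      refine ⟨fun x => ⟨x.1.1, Subgroup.mem_inf.2 ⟨x.1.2, ?_⟩⟩,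
        fun y => ⟨⟨y.1, (Subgroup.mem_inf.1 y.2).1⟩, ?_⟩, ?_, ?_⟩
      · rw [Subgroup.mem_centralizer_iff]
        intro a ha
        exact (x.2 ⟨a, ha⟩)
      · intro a
        have := (Subgroup.mem_inf.1 y.2).2
        rw [Subgroup.mem_centralizer_iff] at this
        exact (this a a.2)
      · intro x; rfl
      · intro y; rfl
    rw [e1, e2, ← Nat.card_eq_fintype_card, ← Nat.card_eq_fintype_card] at key
    exact key
  · intro a hna
    push Not at hna
    obtain ⟨b, hb⟩ := hna
    have hZ := hne a a.2 b b.2 hb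
    have := count_step A B (fun z hz g hg => hcent z hz g (Subgroup.mem_sup_right hg)) hZ
      a a.2 ⟨b, b.2, hb⟩
    rw [← Fintype.card_subtype, ← Nat.card_eq_fintype_card, ← Nat.card_eq_fintype_card]
    exact this
  · intro b hnb
    push Not at hnb
    obtain ⟨a, ha⟩ := hnb
    have hZ := hne a a.2 b b.2 ha
    have hcent' : ∀ z ∈ ⁅B, A⁆, ∀ g ∈ A, g * z = z * g := by
      intro z hz g hg
      rw [Subgroup.commutator_comm] at hz
      exact hcent z hz g (Subgroup.mem_sup_left hg)
    have hZ' : Nat.card ↥⁅B, A⁆ = p := by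
      rw [Subgroup.commutator_comm]; exact hZ
    have := count_step B A hcent' hZ' b b.2 ⟨a, a.2, fun h => ha h.symm⟩
    rw [← Fintype.card_subtype, ← Nat.card_eq_fintype_card, ← Nat.card_eq_fintype_card]
    rw [← this]
    congr 1
    apply Nat.card_congr
    exact Equiv.subtypeEquivRight (fun a => eq_comm)

theorem relIndex_inf_mul_card [Finite G] (A C : Subgroup G) :
    (A ⊓ C).relIndex A * Nat.card ↥(A ⊓ C) = Nat.card A := by
  rw [Subgroup.relIndex, mul_comm]
  have : Nat.card ↥(A ⊓ C) = Nat.card ↥((A ⊓ C).subgroupOf A) :=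
    Nat.card_congr (Subgroup.subgroupOfEquivOfLe inf_le_left).symm.toEquiv
  rw [this]
  exact Subgroup.card_mul_index _

/-- Let A and B be subgroups of a finite p-group with [A, B] ≤ A ∩ B and [A, B] of order at most p. Then |A : C_A(B)| = |B : C_B(A)|. -/
theorem result {G : Type*} [Group G] [Finite G] {p : ℕ} [Fact p.Prime] (hG : IsPGroup p G) (A B : Subgroup G) (hAB : ⁅A, B⁆ ≤ A ⊓ B) (hcard : Nat.card ↥⁅A, B⁆ ≤ p) : (A ⊓ Subgroup.centralizer (B : Set G)).relIndex A = (B ⊓ Subgroup.centralizer (A : Set G)).relIndex B := by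
  have h := card_mul_eq hG A B hcard
  have h1 := relIndex_inf_mul_card A (Subgroup.centralizer (B : Set G))
  have h2 := relIndex_inf_mul_card B (Subgroup.centralizer (A : Set G))
  set x := Nat.card ↥(A ⊓ Subgroup.centralizer (B : Set G))
  set y := Nat.card ↥(B ⊓ Subgroup.centralizer (A : Set G))
  set i := (A ⊓ Subgroup.centralizer (B : Set G)).relIndex A
  set j := (B ⊓ Subgroup.centralizer (A : Set G)).relIndex B
  have hx : 0 < x := Nat.card_pos
  have hy : 0 < y := Nat.card_pos
  rw [← h1, ← h2] at h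
  -- x * (j * y) = y * (i * x)
  have : (x * y) * j = (x * y) * i := by nlinarith
  exact (Nat.eq_of_mul_eq_mul_left (Nat.mul_pos hx hy) this).symm

end Cfsg.Agent.S3741
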