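import Cfsg.Statements.S3746
import Cfsg.Agent.Lib.H7.Quasisimple
import Cfsg.Agent.Lib.H19.Basic
import Mathlib.Tactic.Group

set_option autoImplicit false
open Cfsg

namespace Cfsg.Agent.S3746

open Cfsg.Agent.Lib.H19
open scoped commutatorElement

variable {G : Type*} [Group G]

/-- commutators ignore central factors -/
theorem commutator_mul_central {Z : Subgroup G} (hZ : Z ≤ Subgroup.center G) (d d' z z' : G)
    (hz : z ∈ Z) (hz' : z' ∈ Z) : ⁅d * z, d' * z'⁆ = ⁅d, d'⁆ := by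
  have h1 : ∀ g : G, g * z = z * g := fun g => Subgroup.mem_center_iff.1 (hZ hz) g
  have h2 : ∀ g : G, g * z' = z' * g := fun g => Subgroup.mem_center_iff.1 (hZ hz') g
  rw [commutatorElement_def, commutatorElement_def]
  calc d * z * (d' * z') * (d * z)⁻¹ * (d' * z')⁻¹
      = d * (z * d') * z' * z⁻¹ * d⁻¹ * (z'⁻¹ * d'⁻¹) := by group
    _ = d * (d' * z) * z' * z⁻¹ * d⁻¹ * (z'⁻¹ * d'⁻¹) := by rw [h1 d']
    _ = d * d' * (z * z') * z⁻¹ * d⁻¹ * (z'⁻¹ * d'⁻¹) := by group
    _ = d * d' * (z' * z) * z⁻¹ * d⁻¹ * (z'⁻¹ * d'⁻¹) := by rw [h2 z]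
    _ = d * d' * (z' * d⁻¹) * (z'⁻¹ * d'⁻¹) := by group
    _ = d * d' * (d⁻¹ * z') * (z'⁻¹ * d'⁻¹) := by rw [h2 d⁻¹]
    _ = d * d' * d⁻¹ * d'⁻¹ := by group

theorem result_aux [Finite G] (Z : Subgroup G) (hZ : Z ≤ Subgroup.center G) [hZn : Z.Normal]
    (E : Subgroup G) (hZE : Z ≤ E) (hE : Cfsg.IsComponent (E.map (QuotientGroup.mk' Z))) :
    Cfsg.IsComponent ⁅E, E⁆ := by
  obtain ⟨hEsn, hperf, hsimple⟩ := hE
  have hker : (QuotientGroup.mk' Z).ker = Z := QuotientGroup.ker_mk' Z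
  have hDE : ⁅E, E⁆ ≤ E := Subgroup.commutator_le_self E
  -- `E` is subnormal
  have hEsub : E.IsSubnormal := by
    have h1 := hEsn.comap (QuotientGroup.mk' Z)
    rwa [Subgroup.comap_map_eq, hker, sup_eq_left.2 hZE] at h1
  -- `⁅E,E⁆` is subnormal
  have hDn : (⁅E, E⁆.subgroupOf E).Normal := by
    rw [Subgroup.normal_subgroupOf_iff_le_normalizer hDE]
    intro e he
    rw [mem_normalizer_iff_map_conj, Subgroup.map_commutator, map_conj_eq_of_mem he]
  have hDsub : (⁅E, E⁆ : Subgroup G).IsSubnormal := Subgroup.IsSubnormal.step _ E hDE hEsub hDn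
  -- `E ≤ ⁅E,E⁆ ⊔ Z`
  have hEDZ : E ≤ ⁅E, E⁆ ⊔ Z := by
    have h1 : ⁅E.map (QuotientGroup.mk' Z), E.map (QuotientGroup.mk' Z)⁆
        = E.map (QuotientGroup.mk' Z) := Subgroup.isPerfect_iff.1 hperf
    rw [← Subgroup.map_commutator] at h1
    have h2 := (Subgroup.map_le_map_iff (f := QuotientGroup.mk' Z) (H := E) (K := ⁅E, E⁆)).1 h1.ge
    rwa [hker] at h2
  have hdecomp : ∀ e ∈ E, ∃ d ∈ ⁅E, E⁆, ∃ z ∈ Z, d * z = e := fun e he =>
    Subgroup.mem_sup_of_normal_right.1 (hEDZ he)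
  refine ⟨hDsub, ?_, ?_⟩
  · -- perfect
    rw [Subgroup.isPerfect_iff]
    apply le_antisymm (Subgroup.commutator_le_self _)
    rw [Subgroup.commutator_le]
    intro a ha b hb
    obtain ⟨d, hd, z, hz, rfl⟩ := hdecomp a ha
    obtain ⟨d', hd', z', hz', rfl⟩ := hdecomp b hb
    rw [commutator_mul_central hZ d d' z z' hz hz']
    exact Subgroup.commutator_mem_commutator hd hd'
  · -- central quotient simple
    let π := QuotientGroup.mk' Z
    let g : ↥(⁅E, E⁆ : Subgroup G) →* ↥(E.map π) :=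
      (π.subgroupMap E).comp (Subgroup.inclusion hDE)
    have hg : ∀ c : ↥(⁅E, E⁆ : Subgroup G), ((g c : ↥(E.map π)) : G ⧸ Z) = π c.1 := fun c => rfl
    let f : ↥(⁅E, E⁆ : Subgroup G) →* ↥(E.map π) ⧸ Subgroup.center ↥(E.map π) :=
      (QuotientGroup.mk' _).comp g
    have hπz : ∀ z ∈ Z, π z = 1 := fun z hz => (QuotientGroup.eq_one_iff z).2 hz
    have hf : Function.Surjective f := by
      intro q
      obtain ⟨y, rfl⟩ := QuotientGroup.mk'_surjective _ q
      obtain ⟨⟨e, he⟩, rfl⟩ := MonoidHom.subgroupMap_surjective π E y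
      obtain ⟨d, hd, z, hz, rfl⟩ := hdecomp e he
      refine ⟨⟨d, hd⟩, ?_⟩
      show (QuotientGroup.mk' _) (g ⟨d, hd⟩) = _
      congr 1
      apply Subtype.ext
      rw [hg]
      show π d = π (d * z)
      rw [map_mul, hπz z hz, mul_one]
    have hkerf : f.ker = Subgroup.center ↥(⁅E, E⁆ : Subgroup G) := by
      ext c
      rw [MonoidHom.mem_ker]
      show (QuotientGroup.mk' _) (g c) = 1 ↔ _
      rw [QuotientGroup.mk'_apply, QuotientGroup.eq_one_iff, Subgroup.mem_center_iff,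
        Subgroup.mem_center_iff]
      constructor
      · intro hc
        -- `π c` commutes with `π e` for all `e ∈ E`
        have hcomm : ∀ e ∈ E, Commute (π c.1) (π e) := by
          intro e he
          have := hc ((π.subgroupMap E) ⟨e, he⟩)
          have h2 := congrArg Subtype.val this
          exact h2.symm
        have h0 : ⁅Subgroup.zpowers c.1, E⁆ ≤ Z := by
          rw [Subgroup.commutator_le]
          intro a ha e he
          obtain ⟨k, rfl⟩ := Subgroup.mem_zpowers_iff.1 ha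
          rw [← hker, MonoidHom.mem_ker, map_commutatorElement, map_zpow,
            commutatorElement_eq_one_iff_commute]
          exact (hcomm e he).zpow_left k
        have hZc : ∀ Y : Subgroup G, Y ≤ Z → ⁅Y, E⁆ = ⊥ := by
          intro Y hY
          rw [Subgroup.commutator_eq_bot_iff_le_centralizer]
          exact (hY.trans hZ).trans (Subgroup.center_le_centralizer _)
        have h1 : ⁅⁅E, Subgroup.zpowers c.1⁆, E⁆ = ⊥ := by
          apply hZc
          rw [Subgroup.commutator_comm]; exact h0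
        have h2 : ⁅⁅Subgroup.zpowers c.1, E⁆, E⁆ = ⊥ := hZc _ h0
        have h3 := Subgroup.commutator_commutator_eq_bot_of_rotate h1 h2
        rw [Subgroup.commutator_eq_bot_iff_le_centralizer] at h3
        intro d
        have := h3 d.2 c.1 (Subgroup.mem_zpowers c.1)
        exact Subtype.ext this.symm
      · intro hc y
        obtain ⟨⟨e, he⟩, rfl⟩ := MonoidHom.subgroupMap_surjective π E y
        obtain ⟨d, hd, z, hz, rfl⟩ := hdecomp e he
        apply Subtype.ext
        show π (d * z) * π c.1 = π c.1 * π (d * z)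
        have h1 : d * c.1 = c.1 * d := congrArg Subtype.val (hc ⟨d, hd⟩)
        rw [map_mul, hπz z hz, mul_one, ← map_mul, ← map_mul, h1]
    let e : ↥(⁅E, E⁆ : Subgroup G) ⧸ Subgroup.center ↥(⁅E, E⁆ : Subgroup G) ≃*
        ↥(E.map π) ⧸ Subgroup.center ↥(E.map π) :=
      (QuotientGroup.quotientMulEquivOfEq hkerf.symm).trans
        (QuotientGroup.quotientKerEquivOfSurjective f hf)
    have hs' : IsSimpleGroup (↥(E.map π) ⧸ Subgroup.center ↥(E.map π)) := hsimple
    have : Nontrivial (↥(⁅E, E⁆ : Subgroup G) ⧸ Subgroup.center ↥(⁅E, E⁆ : Subgroup G)) :=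
      e.toEquiv.nontrivial
    exact IsSimpleGroup.isSimpleGroup_of_surjective e.symm.toMonoidHom e.symm.surjective

/-- If Z is a central subgroup of G with Z ≤ E and E/Z is a component of G/Z, then [E,E] is a component of G. -/
theorem result {G : Type*} [Group G] [Finite G] (Z : Subgroup G) (hZ : Z ≤ Subgroup.center G) [Z.Normal] (E : Subgroup G) (hZE : Z ≤ E) (hE : Cfsg.IsComponent (E.map (QuotientGroup.mk' Z))) : Cfsg.IsComponent ⁅E, E⁆ :=
  result_aux Z hZ E hZE hE

end Cfsg.Agent.S3746
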