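import Cfsg.Statements.S3747
import Cfsg.Agent.Lib.H7.FStar2
import Cfsg.Agent.S1263
import Cfsg.Agent.Lib.H19.Basic

set_option autoImplicit false
open Cfsg

namespace Cfsg.Agent.S3747

open Cfsg.Agent.Lib.H7 Cfsg.Agent.Lib.H19
open scoped commutatorElement

variable {G : Type*} [Group G] [Finite G]

theorem part_a (K : Subgroup G) (hK : IsComponent K) (hZ : Subgroup.center ↥K = ⊥) :
    Subgroup.normalClosure (K : Set G) ≠ ⊥ ∧ ∀ N : Subgroup G, N.Normal →
      N ≤ Subgroup.normalClosure (K : Set G) → N = ⊥ ∨ N = Subgroup.normalClosure (K : Set G) := by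
  have hKle : K ≤ Subgroup.normalClosure (K : Set G) := Subgroup.le_normalClosure
  refine ⟨fun h => component_ne_bot hK (le_bot_iff.1 (h ▸ hKle)), ?_⟩
  intro N hN hNle
  rcases component_le_or_commutator_eq_bot hK hN.isSubnormal with h | h
  · right
    exact le_antisymm hNle (Subgroup.normalClosure_le_normal h)
  · left
    set T : Set (Subgroup G) := Set.range (fun g : G => K.map (MulAut.conj g).toMonoidHom) with hT
    have hTc : ∀ K' ∈ T, IsComponent K' := by
      rintro K' ⟨g, rfl⟩
      exact isComponent_map_conj g hK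
    have hconj : ∀ g : G, (sSup T).map (MulAut.conj g).toMonoidHom ≤ sSup T := by
      intro g
      rw [Subgroup.map_le_iff_le_comap]
      apply sSup_le
      rintro K' ⟨h', rfl⟩
      rw [← Subgroup.map_le_iff_le_comap, ← map_conj_mul]
      exact le_sSup ⟨g * h', rfl⟩
    have hTn : (sSup T).Normal := by
      refine ⟨fun n hn g => ?_⟩
      exact hconj g (conj_mem_map_conj hn)
    have hKT : K ≤ sSup T := by
      have : K.map (MulAut.conj (1 : G)).toMonoidHom ≤ sSup T := le_sSup ⟨1, rfl⟩
      rwa [map_conj_one] at this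
    have hncl : Subgroup.normalClosure (K : Set G) ≤ sSup T := Subgroup.normalClosure_le_normal hKT
    -- centres of the conjugates are trivial
    have hcen : (⨆ K' ∈ T, (Subgroup.center K').map K'.subtype) = (⊥ : Subgroup G) := by
      rw [eq_bot_iff]
      apply iSup₂_le
      rintro K' ⟨g, rfl⟩
      intro z hz
      rw [Cfsg.Agent.S1263.mem_center_map_iff] at hz
      obtain ⟨hz1, hz2⟩ := hz
      rw [mem_map_conj] at hz1
      have hzc : (⟨g⁻¹ * z * g, hz1⟩ : K) ∈ Subgroup.center K := by
        rw [Subgroup.mem_center_iff]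
        intro x
        apply Subtype.ext
        have := hz2 (g * x.1 * g⁻¹) (conj_mem_map_conj x.2)
        show x.1 * (g⁻¹ * z * g) = g⁻¹ * z * g * x.1
        calc x.1 * (g⁻¹ * z * g) = g⁻¹ * (g * x.1 * g⁻¹ * z) * g := by group
          _ = g⁻¹ * (z * (g * x.1 * g⁻¹)) * g := by rw [this]
          _ = g⁻¹ * z * g * x.1 := by group
      rw [hZ, Subgroup.mem_bot] at hzc
      have h1 : g⁻¹ * z * g = 1 := congrArg Subtype.val hzc
      rw [Subgroup.mem_bot]
      calc z = g * (g⁻¹ * z * g) * g⁻¹ := by group
        _ = 1 := by rw [h1]; group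
    -- `N` centralizes every conjugate of `K`
    have hKN : K ≤ Subgroup.centralizer (N : Set G) :=
      Subgroup.commutator_eq_bot_iff_le_centralizer.1 h
    have hTN : sSup T ≤ Subgroup.centralizer (N : Set G) := by
      apply sSup_le
      rintro K' ⟨g, rfl⟩
      intro x hx
      rw [mem_map_conj] at hx
      rw [Subgroup.mem_centralizer_iff]
      intro n hn
      have hn' : g⁻¹ * n * g ∈ N := by
        have := hN.conj_mem n hn g⁻¹
        rwa [inv_inv] at this
      have := (Subgroup.mem_centralizer_iff.1 (hKN hx)) _ hn'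
      calc n * x = g * (g⁻¹ * n * g * (g⁻¹ * x * g)) * g⁻¹ := by group
        _ = g * (g⁻¹ * x * g * (g⁻¹ * n * g)) * g⁻¹ := by rw [this]
        _ = x * n := by group
    rw [eq_bot_iff]
    intro z hz
    have hzT : z ∈ sSup T := hncl (hNle hz)
    have hzc : ∀ x ∈ sSup T, x * z = z * x := by
      intro x hx
      exact ((Subgroup.mem_centralizer_iff.1 (hTN hx)) z hz).symm
    have := Cfsg.Agent.S1263.center_sSup_components_le T (Set.toFinite _) hTc z hzT hzc
    rwa [hcen] at this

theorem center_eq_bot_of_fitting (hF : fittingSubgroup G = ⊥) (K : Subgroup G)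
    (hK : IsComponent K) : Subgroup.center ↥K = ⊥ := by
  have hle : (Subgroup.center K).map K.subtype ≤ K := Subgroup.map_subtype_le _
  have hso : ((Subgroup.center K).map K.subtype).subgroupOf K = Subgroup.center K :=
    Subgroup.comap_map_eq_self_of_injective (Subgroup.subtype_injective K) _
  have hsn : ((Subgroup.center K).map K.subtype).IsSubnormal :=
    Subgroup.IsSubnormal.step _ K hle hK.1 (by rw [hso]; infer_instance)
  have hnil : Group.IsNilpotent ((Subgroup.center K).map K.subtype : Subgroup G) :=
    (Group.isNilpotent_congr ((Subgroup.center K).equivMapOfInjective K.subtype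
      (Subgroup.subtype_injective K))).1
      ⟨⟨1, Subgroup.upperCentralSeries_one_eq_top_iff.2 inferInstance⟩⟩
  have h := subnormal_nilpotent_le_fittingSubgroup hsn hnil
  rw [hF, le_bot_iff] at h
  rwa [Subgroup.map_eq_bot_iff_of_injective _ (Subgroup.subtype_injective K)] at h

theorem part_b (hF : fittingSubgroup G = ⊥) :
    sSup {N : Subgroup G | N ≠ ⊥ ∧ N.Normal ∧
      ∀ N' : Subgroup G, N'.Normal → N' ≤ N → N' = ⊥ ∨ N' = N} = layer G := by
  apply le_antisymm
  · apply sSup_le
    rintro N ⟨hNne, hNn, hmin⟩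
    have hLn : (layer G).Normal := layer_normal
    have hIn : (N ⊓ layer G).Normal := inferInstance
    rcases hmin _ hIn inf_le_left with h | h
    · exfalso
      have h1 : ⁅N, layer G⁆ = ⊥ := by
        rw [eq_bot_iff, ← h]
        exact Subgroup.commutator_le_inf N (layer G)
      have h2 : N ≤ Subgroup.centralizer (layer G : Set G) :=
        Subgroup.commutator_eq_bot_iff_le_centralizer.1 h1
      have h3 : generalizedFittingSubgroup G = layer G := by
        unfold generalizedFittingSubgroup
        rw [hF, sup_bot_eq]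
      have h4 := centralizer_generalizedFittingSubgroup_le (G := G)
      rw [h3] at h4
      have h5 : N ≤ N ⊓ layer G := le_inf le_rfl (h2.trans h4)
      rw [h] at h5
      exact hNne (le_bot_iff.1 h5)
    · rw [← h]; exact inf_le_right
  · apply sSup_le
    intro K hK
    have hZ := center_eq_bot_of_fitting hF K hK
    obtain ⟨h1, h2⟩ := part_a K hK hZ
    exact (Subgroup.le_normalClosure).trans (le_sSup ⟨h1, Subgroup.normalClosure_normal, h2⟩)

/-- Let G be a finite group. (a) If K is a component of G with trivial centre, then the normal closure of K in G is a minimal normal subgroup of G. (b) If the Fitting subgroup of G is trivial, then the layer E(G) is generated by the minimal normal subgroups of G. -/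
theorem result {G : Type*} [Group G] [Finite G] : (∀ K : Subgroup G, Cfsg.IsComponent K → Subgroup.center ↥K = ⊥ → (Subgroup.normalClosure (K : Set G) ≠ ⊥ ∧ ∀ N : Subgroup G, N.Normal → N ≤ Subgroup.normalClosure (K : Set G) → N = ⊥ ∨ N = Subgroup.normalClosure (K : Set G))) ∧ (Cfsg.fittingSubgroup G = ⊥ → sSup {N : Subgroup G | N ≠ ⊥ ∧ N.Normal ∧ ∀ N' : Subgroup G, N'.Normal → N' ≤ N → N' = ⊥ ∨ N' = N} = Cfsg.layer G) :=
  ⟨fun K hK hZ => part_a K hK hZ, part_b⟩

end Cfsg.Agent.S3747
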