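import Cfsg.Statements.S3748
import Cfsg.Agent.Lib.H7.FStar
import Cfsg.Agent.Lib.H6.NormGrowth
import Cfsg.Agent.Lib.H19.Basic

set_option autoImplicit false
open Cfsg

namespace Cfsg.Agent.S3748

open Cfsg.Agent.Lib.H7 Cfsg.Agent.Lib.H19
open scoped commutatorElement

variable {G : Type*} [Group G]

/-- Normalizers grow in nilpotent subgroups. -/
theorem exists_mem_normalizer_not_mem_of_nilpotent {P D : Subgroup G} (hP : Group.IsNilpotent P)
    (hDP : D < P) : ∃ x ∈ P, x ∉ D ∧ x ∈ Subgroup.normalizer (D : Set G) := by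
  have hnc : NormalizerCondition P := Group.normalizerCondition_of_isNilpotent
  have hlt : D.subgroupOf P < ⊤ := by
    rw [lt_top_iff_ne_top]
    intro h
    rw [Subgroup.subgroupOf_eq_top] at h
    exact absurd (le_antisymm hDP.le h) hDP.ne
  obtain ⟨x, hx1, hx2⟩ := SetLike.exists_of_lt (hnc _ hlt)
  refine ⟨x.1, x.2, ?_, ?_⟩
  · intro h
    exact hx2 (Subgroup.mem_subgroupOf.2 h)
  · exact (Cfsg.Agent.Lib.H6.mem_normalizer_subgroupOf_iff hDP.le x).1 hx1

variable [Finite G]

theorem fit_inf (M : Subgroup G) (hM : M ≠ ⊤)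
    (hprim : ∀ N : Subgroup G, N ≤ M → M ≤ Subgroup.normalizer (N : Set G) → N ≠ ⊥ →
      Subgroup.normalizer (N : Set G) = M) : M ⊓ Cfsg.fittingSubgroup G = ⊥ := by
  by_contra hD
  have hFn : (fittingSubgroup G).Normal := fittingSubgroup_normal
  have hMD : M ≤ Subgroup.normalizer ((M ⊓ fittingSubgroup G : Subgroup G) : Set G) := by
    intro m hm
    rw [Subgroup.mem_normalizer_iff]
    intro x
    constructor
    · rintro ⟨h1, h2⟩
      exact ⟨M.mul_mem (M.mul_mem hm h1) (M.inv_mem hm), hFn.conj_mem x h2 m⟩
    · rintro ⟨h1, h2⟩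
      have hx : x = m⁻¹ * (m * x * m⁻¹) * m := by group
      refine ⟨?_, ?_⟩
      · rw [hx]; exact M.mul_mem (M.mul_mem (M.inv_mem hm) h1) hm
      · have := hFn.conj_mem (m * x * m⁻¹) h2 m⁻¹
        rw [inv_inv] at this
        rw [hx]; exact this
  have hN := hprim _ inf_le_left hMD hD
  by_cases hDF : M ⊓ fittingSubgroup G = fittingSubgroup G
  · have : Subgroup.normalizer ((M ⊓ fittingSubgroup G : Subgroup G) : Set G) = ⊤ := by
      rw [hDF]; exact Subgroup.normalizer_eq_top_iff.2 hFn
    rw [hN] at this
    exact hM this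
  · have hlt : M ⊓ fittingSubgroup G < fittingSubgroup G := lt_of_le_of_ne inf_le_right hDF
    obtain ⟨x, hxF, hxD, hxN⟩ :=
      exists_mem_normalizer_not_mem_of_nilpotent fittingSubgroup_isNilpotent hlt
    rw [hN] at hxN
    exact hxD ⟨hxN, hxF⟩

theorem no_subnormal (M : Subgroup G) (hM : M ≠ ⊤)
    (hprim : ∀ N : Subgroup G, N ≤ M → M ≤ Subgroup.normalizer (N : Set G) → N ≠ ⊥ →
      Subgroup.normalizer (N : Set G) = M) :
    ∀ L : Subgroup G, L.IsSubnormal → L ≤ M → L = ⊥ := by
  classical
  by_contra hcon
  have hex : ∃ n, ∃ L : Subgroup G, L.IsSubnormal ∧ L ≤ M ∧ L ≠ ⊥ ∧ Nat.card L = n := by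
    by_contra h
    apply hcon
    intro L h1 h2
    by_contra h3
    exact h ⟨_, L, h1, h2, h3, rfl⟩
  obtain ⟨L, hLsn, hLM, hLne, hLn⟩ := Nat.find_spec hex
  have hmin : ∀ K : Subgroup G, K.IsSubnormal → K ≤ M → K ≠ ⊥ → Nat.card L ≤ Nat.card K := by
    intro K h1 h2 h3
    rw [hLn]
    exact Nat.find_min' hex ⟨K, h1, h2, h3, rfl⟩
  -- `L` is a simple group
  have hLnt : Nontrivial L := (Subgroup.nontrivial_iff_ne_bot L).2 hLne
  have hsimple : IsSimpleGroup L := by
    refine ⟨fun N hN => ?_⟩
    by_cases hNb : N = ⊥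
    · left; exact hNb
    · right
      have hNL : N.map L.subtype ≤ L := Subgroup.map_subtype_le N
      have hso : (N.map L.subtype).subgroupOf L = N :=
        Subgroup.comap_map_eq_self_of_injective (Subgroup.subtype_injective L) N
      have hNsn : (N.map L.subtype).IsSubnormal :=
        Subgroup.IsSubnormal.step _ L hNL hLsn (by rw [hso]; exact hN)
      have hne : N.map L.subtype ≠ ⊥ := by
        intro h
        apply hNb
        rwa [Subgroup.map_eq_bot_iff_of_injective N (Subgroup.subtype_injective L)] at h
      have h1 := hmin _ hNsn (hNL.trans hLM) hne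
      have h2 : N.map L.subtype = L := Subgroup.eq_of_le_of_card_ge hNL h1
      rw [← hso, h2]
      exact Subgroup.subgroupOf_self L
  by_cases hsol : Group.IsSolvable L
  · -- then `L` is abelian, hence nilpotent, hence in `F(G)`
    have hc := (IsSimpleGroup.comm_iff_isSolvable (G := L)).2 hsol
    have hnil : Group.IsNilpotent L :=
      @CommGroup.isNilpotent L { (inferInstance : Group L) with mul_comm := hc }
    have h1 := subnormal_nilpotent_le_fittingSubgroup hLsn hnil
    have h2 : L ≤ M ⊓ fittingSubgroup G := le_inf hLM h1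
    rw [fit_inf M hM hprim] at h2
    exact hLne (le_bot_iff.1 h2)
  · -- `L` is a component
    have hcomm : ¬ ∀ a b : L, a * b = b * a := fun h =>
      hsol ((IsSimpleGroup.comm_iff_isSolvable (G := L)).1 h)
    have hperf : Group.IsPerfect L := by
      rw [Group.isPerfect_def]
      rcases hsimple.eq_bot_or_eq_top_of_normal (commutator L) inferInstance with h | h
      · exfalso
        apply hcomm
        intro a b
        have : ⁅a, b⁆ ∈ commutator L := Subgroup.commutator_mem_commutator (Subgroup.mem_top a)
          (Subgroup.mem_top b)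
        rw [h, Subgroup.mem_bot, commutatorElement_eq_one_iff_mul_comm] at this
        exact this
      · exact h
    have hcen : Subgroup.center L = ⊥ := by
      rcases hsimple.eq_bot_or_eq_top_of_normal (Subgroup.center L) inferInstance with h | h
      · exact h
      · exfalso
        apply hcomm
        intro a b
        have : b ∈ Subgroup.center L := by rw [h]; trivial
        exact (Subgroup.mem_center_iff.1 this a)
    have hq : IsQuasisimple L := by
      refine ⟨hperf, ?_⟩
      have e : L ≃* L ⧸ Subgroup.center L :=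
        (QuotientGroup.quotientBot (G := L)).symm.trans
          (QuotientGroup.quotientMulEquivOfEq hcen.symm)
      have hnt : Nontrivial (L ⧸ Subgroup.center L) := e.symm.toEquiv.nontrivial
      exact IsSimpleGroup.isSimpleGroup_of_surjective e.toMonoidHom e.surjective
    have hLc : IsComponent L := ⟨hLsn, hq⟩
    -- the join of the components inside `M`
    set S : Set (Subgroup G) := {K | IsComponent K ∧ K ≤ M} with hS
    have hNM : sSup S ≤ M := sSup_le (fun K hK => hK.2)
    have hLN : L ≤ sSup S := le_sSup ⟨hLc, hLM⟩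
    have hNne : sSup S ≠ ⊥ := fun h => hLne (le_bot_iff.1 (h ▸ hLN))
    have hconj : ∀ m ∈ M, (sSup S).map (MulAut.conj m).toMonoidHom ≤ sSup S := by
      intro m hm
      rw [Subgroup.map_le_iff_le_comap]
      apply sSup_le
      intro K hK
      rw [← Subgroup.map_le_iff_le_comap]
      exact le_sSup ⟨isComponent_map_conj m hK.1, map_conj_le_of_mem hm hK.2⟩
    have hMN : M ≤ Subgroup.normalizer ((sSup S : Subgroup G) : Set G) := by
      intro m hm
      rw [mem_normalizer_iff_map_conj]
      exact Subgroup.eq_of_le_of_card_ge (hconj m hm) (card_map_conj _ m).ge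
    have hnorm := hprim _ hNM hMN hNne
    have hall : ∀ K : Subgroup G, IsComponent K → K ≤ M := by
      intro K hK
      by_contra hKM
      apply hKM
      have h1 : sSup S ≤ Subgroup.centralizer (K : Set G) := by
        apply sSup_le
        intro K' hK'
        have hne : K' ≠ K := by
          intro h
          rw [h] at hK'
          exact hKM hK'.2
        exact Subgroup.commutator_eq_bot_iff_le_centralizer.1 (components_commute hK'.1 hK hne)
      have h2 : K ≤ Subgroup.centralizer ((sSup S : Subgroup G) : Set G) :=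
        Subgroup.le_centralizer_iff.1 h1
      rw [← hnorm]
      exact h2.trans (Subgroup.centralizer_le_normalizer _)
    have hlay : layer G ≤ M := sSup_le (fun K hK => hall K hK)
    have hlayne : layer G ≠ ⊥ := by
      intro h
      have : L ≤ layer G := component_le_layer hLc
      rw [h] at this
      exact hLne (le_bot_iff.1 this)
    have hlayn : (layer G).Normal := layer_normal
    have htop : Subgroup.normalizer ((layer G : Subgroup G) : Set G) = ⊤ :=
      Subgroup.normalizer_eq_top_iff.2 hlayn
    have h3 := hprim (layer G) hlay (by rw [htop]; exact le_top) hlayne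
    rw [htop] at h3
    exact hM h3.symm

/-- A primitive maximal-type subgroup contains no nontrivial subnormal subgroup of G and meets F(G) trivially. -/
theorem result {G : Type*} [Group G] [Finite G] (M : Subgroup G) (hM : M ≠ ⊤) (hprim : ∀ N : Subgroup G, N ≤ M → M ≤ Subgroup.normalizer (N : Set G) → N ≠ ⊥ → Subgroup.normalizer (N : Set G) = M) : (∀ L : Subgroup G, L.IsSubnormal → L ≤ M → L = ⊥) ∧ M ⊓ Cfsg.fittingSubgroup G = ⊥ :=
  ⟨no_subnormal M hM hprim, fit_inf M hM hprim⟩

end Cfsg.Agent.S3748
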