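import Cfsg.Statements.S3750
import Cfsg.Agent.S3748
import Cfsg.Agent.S3747

set_option autoImplicit false
open Cfsg

namespace Cfsg.Agent.S3750

open Cfsg.Agent.Lib.H7 Cfsg.Agent.Lib.H19
open scoped commutatorElement

/-- Call a proper subgroup M of G primitive when M = N_G(N) for every non-trivial normal subgroup N of M. Let M be a primitive subgroup of the finite group G and N a normal subgroup of G with M ∩ F*(N) ≠ 1. Then F(G) = 1 and F*(N) = F*(G) = E(G); in particular every minimal normal subgroup of G is contained in N. -/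
theorem result {G : Type*} [Group G] [Finite G] (M : Subgroup G) (hM : M ≠ ⊤) (hprim : ∀ N : Subgroup G, N ≤ M → M ≤ Subgroup.normalizer (N : Set G) → N ≠ ⊥ → Subgroup.normalizer (N : Set G) = M) (N : Subgroup G) [N.Normal] (hMF : M ⊓ (Cfsg.generalizedFittingSubgroup ↥N).map N.subtype ≠ ⊥) : Cfsg.fittingSubgroup G = ⊥ ∧ (Cfsg.generalizedFittingSubgroup ↥N).map N.subtype = Cfsg.generalizedFittingSubgroup G ∧ Cfsg.generalizedFittingSubgroup G = Cfsg.layer G ∧ ∀ K : Subgroup G, K.Normal → K ≠ ⊥ → (∀ K' : Subgroup G, K'.Normal → K' ≤ K → K' = ⊥ ∨ K' = K) → K ≤ N := by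
  have hNn : N.Normal := inferInstance
  have hFN : (generalizedFittingSubgroup ↥N).map N.subtype = N ⊓ generalizedFittingSubgroup G :=
    generalizedFittingSubgroup_of_subnormal hNn.isSubnormal
  rw [hFN] at hMF ⊢
  have hFsn : (generalizedFittingSubgroup G).Normal := generalizedFittingSubgroup_normal
  have hIn : (N ⊓ generalizedFittingSubgroup G).Normal := inferInstance
  -- `D = M ⊓ (N ⊓ F*(G))` is normalized by `M`
  have hDM : M ⊓ (N ⊓ generalizedFittingSubgroup G) ≤ M := inf_le_left
  have hMD : M ≤ Subgroup.normalizer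
      ((M ⊓ (N ⊓ generalizedFittingSubgroup G) : Subgroup G) : Set G) := by
    intro m hm
    rw [Subgroup.mem_normalizer_iff]
    intro x
    constructor
    · rintro ⟨h1, h2⟩
      exact ⟨M.mul_mem (M.mul_mem hm h1) (M.inv_mem hm), hIn.conj_mem x h2 m⟩
    · rintro ⟨h1, h2⟩
      have hx : x = m⁻¹ * (m * x * m⁻¹) * m := by group
      refine ⟨?_, ?_⟩
      · rw [hx]; exact M.mul_mem (M.mul_mem (M.inv_mem hm) h1) hm
      · have := hIn.conj_mem (m * x * m⁻¹) h2 m⁻¹
        rw [inv_inv] at this
        rw [hx]; exact this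
  have hnorm := hprim _ hDM hMD hMF
  have hcent : Subgroup.centralizer
      ((M ⊓ (N ⊓ generalizedFittingSubgroup G) : Subgroup G) : Set G) ≤ M := by
    have := Subgroup.centralizer_le_normalizer
      ((M ⊓ (N ⊓ generalizedFittingSubgroup G) : Subgroup G) : Set G)
    rwa [hnorm] at this
  -- Step 1: `F(G) = ⊥`
  have hF : fittingSubgroup G = ⊥ := by
    by_contra hFne
    have hnt : Nontrivial (fittingSubgroup G) := (Subgroup.nontrivial_iff_ne_bot _).2 hFne
    have hnil : Group.IsNilpotent (fittingSubgroup G) := fittingSubgroup_isNilpotent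
    have hZ := Group.IsNilpotent.center_ne_bot (fittingSubgroup G)
    obtain ⟨⟨z, hz⟩, hz0⟩ := (Subgroup.ne_bot_iff_exists_ne_one).1 hZ
    have hz1 : (z : G) ≠ 1 := fun h => hz0 (Subtype.ext (Subtype.ext h))
    -- `z.1` centralizes `F*(G)`
    have h1 : generalizedFittingSubgroup G ≤ Subgroup.centralizer ({(z : G)} : Set G) := by
      unfold generalizedFittingSubgroup
      apply sup_le
      · have h2 : layer G ≤ Subgroup.centralizer (fittingSubgroup G : Set G) :=
          Subgroup.commutator_eq_bot_iff_le_centralizer.1 layer_commutator_fitting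
        intro l hl
        rw [Subgroup.mem_centralizer_iff]
        intro y hy
        rw [Set.mem_singleton_iff] at hy
        subst hy
        exact (Subgroup.mem_centralizer_iff.1 (h2 hl)) _ z.2
      · intro f hf
        rw [Subgroup.mem_centralizer_iff]
        intro y hy
        rw [Set.mem_singleton_iff] at hy
        subst hy
        have := Subgroup.mem_center_iff.1 hz ⟨f, hf⟩
        exact (congrArg Subtype.val this).symm
    have h3 : (z : G) ∈ Subgroup.centralizer
        ((M ⊓ (N ⊓ generalizedFittingSubgroup G) : Subgroup G) : Set G) := by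
      rw [Subgroup.mem_centralizer_iff]
      intro d hd
      have hd' : d ∈ generalizedFittingSubgroup G := hd.2.2
      have := (Subgroup.mem_centralizer_iff.1 (h1 hd')) (z : G) rfl
      exact this.symm
    have h4 : (z : G) ∈ M ⊓ fittingSubgroup G := ⟨hcent h3, z.2⟩
    rw [Cfsg.Agent.S3748.fit_inf M hM hprim, Subgroup.mem_bot] at h4
    exact hz1 h4
  have hFstar : generalizedFittingSubgroup G = layer G := by
    unfold generalizedFittingSubgroup
    rw [hF, sup_bot_eq]
  -- Step 3: all components lie in `N`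
  have hcomp : ∀ K : Subgroup G, IsComponent K → K ≤ N := by
    intro K hK
    rcases component_le_or_commutator_eq_bot hK hNn.isSubnormal with h | h
    · exact h
    · exfalso
      have h1 : K ≤ Subgroup.centralizer (N : Set G) :=
        Subgroup.commutator_eq_bot_iff_le_centralizer.1 h
      have h2 : Subgroup.centralizer (N : Set G) ≤ Subgroup.centralizer
          ((M ⊓ (N ⊓ generalizedFittingSubgroup G) : Subgroup G) : Set G) :=
        Subgroup.centralizer_le (fun x hx => hx.2.1)
      have h3 : K ≤ M := (h1.trans h2).trans hcent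
      exact component_ne_bot hK (Cfsg.Agent.S3748.no_subnormal M hM hprim K hK.1 h3)
  have hlayN : layer G ≤ N := sSup_le (fun K hK => hcomp K hK)
  refine ⟨hF, ?_, hFstar, ?_⟩
  · rw [hFstar]
    exact inf_eq_right.2 hlayN
  · intro K hKn hKne hKmin
    have h1 := Cfsg.Agent.S3747.part_b hF
    have h2 : K ≤ sSup {N : Subgroup G | N ≠ ⊥ ∧ N.Normal ∧
        ∀ N' : Subgroup G, N'.Normal → N' ≤ N → N' = ⊥ ∨ N' = N} :=
      le_sSup ⟨hKne, hKn, hKmin⟩
    rw [h1] at h2
    exact h2.trans hlayN

end Cfsg.Agent.S3750
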