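import Cfsg.Statements.S3751
import Cfsg.Agent.Lib.H7.MaxPLocal

set_option autoImplicit false
open Cfsg
open Cfsg.Agent.Lib.H7 Cfsg.Agent.Lib.H7.MaxPLocal Cfsg.Agent.Lib.H14
set_option autoImplicit false

namespace Cfsg.Agent.S3751

theorem main3751 {G : Type*} [Group G] [Finite G] {p : ℕ} [Fact p.Prime]
    (hloc : Cfsg.IsOfLocalCharacteristic p G) (hOp : Cfsg.pCore p G = ⊥) :
    (∃ M₁ M₂ : Subgroup G, M₁ ≠ M₂ ∧ (∀ A : Subgroup G, A ≠ ⊥ → A ≤ M₁ ⊓ M₂ →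
      (M₁ ≤ Subgroup.normalizer (A : Set G) → M₂ ⊓ Subgroup.normalizer (A : Set G) = M₁ ⊓ M₂) ∧
      (M₂ ≤ Subgroup.normalizer (A : Set G) → M₁ ⊓ Subgroup.normalizer (A : Set G) = M₁ ⊓ M₂)) ∧
      Subgroup.centralizer (Cfsg.pCore p ↥M₁ : Set ↥M₁) ≤ Cfsg.pCore p ↥M₁ ∧
      Subgroup.centralizer (Cfsg.pCore p ↥M₂ : Set ↥M₂) ≤ Cfsg.pCore p ↥M₂ ∧
      (Cfsg.pCore p ↥M₁).map M₁.subtype ⊔ (Cfsg.pCore p ↥M₂).map M₂.subtype ≤ M₁ ⊓ M₂) ∨
    (∀ M : Subgroup G, IsMaxPLoc p M → M ≠ ⊤ ∧ p ∣ Nat.card M ∧ ∀ g : G, g ∉ M →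
      ¬ p ∣ Nat.card ↥(M ⊓ M.map (MulAut.conj g).toMonoidHom)) := by
  by_cases h : ∀ M : Subgroup G, IsMaxPLoc p M → ∀ g : G, g ∉ M →
      ¬ p ∣ Nat.card ↥(M ⊓ M.map (MulAut.conj g).toMonoidHom)
  · right
    intro M hM
    exact ⟨hM.1.ne_top hOp, hM.1.dvd_card, h M hM⟩
  · left
    push Not at h
    obtain ⟨M, hM, g, hg, hdvd⟩ := h
    obtain ⟨x, hx⟩ := exists_prime_orderOf_dvd_card' p hdvd
    have hxo : orderOf (x : G) = p := by rw [Subgroup.orderOf_coe]; exact hx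
    have hR₀ : IsPGroup p (Subgroup.zpowers (x : G)) := by
      rw [IsPGroup.iff_card]
      exact ⟨1, by rw [Nat.card_zpowers, hxo, pow_one]⟩
    have hR₀ne : Subgroup.zpowers (x : G) ≠ ⊥ := by
      intro h
      rw [Subgroup.zpowers_eq_bot] at h
      rw [h, orderOf_one] at hxo
      exact (Fact.out : p.Prime).one_lt.ne hxo
    have hxM := Subgroup.mem_inf.1 x.2
    obtain ⟨M₁, M₂, R, hM₁, hM₂, hne, hR₁, hR₂⟩ :=
      exists_pair_common_maxPSub hloc hM (hM.map_equiv (MulAut.conj g))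
        (hM.map_conj_ne hloc hg).symm hR₀ hR₀ne
        (by rw [Subgroup.zpowers_le]; exact hxM.1) (by rw [Subgroup.zpowers_le]; exact hxM.2)
    refine ⟨M₁, M₂, hne, fun A hA hAM => ⟨fun hMA => ?_, fun hMA => ?_⟩, hM₁.1.charP hloc,
      hM₂.1.charP hloc, ?_⟩
    · have := hM₁.normalizer_le hloc hA (hAM.trans inf_le_left) hMA
      rw [le_antisymm this hMA, inf_comm]
    · have := hM₂.normalizer_le hloc hA (hAM.trans inf_le_right) hMA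
      rw [le_antisymm this hMA]
    · exact sup_le (hR₁.pCoreOf_le.trans (le_inf hR₁.2.1 hR₂.2.1))
        (hR₂.pCoreOf_le.trans (le_inf hR₁.2.1 hR₂.2.1))


/-- Two distinct subgroups M₁, M₂ of G form a primitive pair when, for {i, j} = {1, 2}, every non-trivial normal subgroup A of M_i contained in M₁ ∩ M₂ satisfies N_{M_j}(A) = M₁ ∩ M₂; the pair has characteristic p when moreover C_{M_i}(O_p(M_i)) ≤ O_p(M_i) for both i and O_p(M₁)O_p(M₂) ≤ M₁ ∩ M₂. Let G be a finite group, p a prime dividing its order, with O_p(G) = 1 and every p-local subgroup of characteristic p. Then either G has a primitive pair of characteristic p, or every maximal p-local subgroup M of G is strongly p-embedded in G: M is a proper subgroup, p divides its order, and for every g ∉ M the order of M ∩ gMg⁻¹ is prime to p. -/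
theorem result {G : Type*} [Group G] [Finite G] {p : ℕ} [Fact p.Prime] (hloc : Cfsg.IsOfLocalCharacteristic p G) (hOp : Cfsg.pCore p G = ⊥) : (∃ M₁ M₂ : Subgroup G, M₁ ≠ M₂ ∧ (∀ A : Subgroup G, A ≠ ⊥ → A ≤ M₁ ⊓ M₂ → (M₁ ≤ Subgroup.normalizer (A : Set G) → M₂ ⊓ Subgroup.normalizer (A : Set G) = M₁ ⊓ M₂) ∧ (M₂ ≤ Subgroup.normalizer (A : Set G) → M₁ ⊓ Subgroup.normalizer (A : Set G) = M₁ ⊓ M₂)) ∧ Subgroup.centralizer (Cfsg.pCore p ↥M₁ : Set ↥M₁) ≤ Cfsg.pCore p ↥M₁ ∧ Subgroup.centralizer (Cfsg.pCore p ↥M₂ : Set ↥M₂) ≤ Cfsg.pCore p ↥M₂ ∧ (Cfsg.pCore p ↥M₁).map M₁.subtype ⊔ (Cfsg.pCore p ↥M₂).map M₂.subtype ≤ M₁ ⊓ M₂) ∨ (∀ M : Subgroup G, (∃ T : Subgroup G, IsPGroup p T ∧ T ≠ ⊥ ∧ M = Subgroup.normalizer (T : Set G)) → (∀ L : Subgroup G, (∃ T : Subgroup G, IsPGroup p T ∧ T ≠ ⊥ ∧ L = Subgroup.normalizer (T : Set G)) → M ≤ L → L = M) → M ≠ ⊤ ∧ p ∣ Nat.card M ∧ ∀ g : G, g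 ∉ M → ¬ p ∣ Nat.card ↥(M ⊓ M.map (MulAut.conj g).toMonoidHom)) := by
  rcases main3751 hloc hOp with h | h
  · exact Or.inl h
  · exact Or.inr (fun M h1 h2 => h M ⟨h1, h2⟩)

end Cfsg.Agent.S3751
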