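import Cfsg.Statements.S3753
import Cfsg.Agent.Lib.H19.PrimPairAux
import Cfsg.Agent.Lib.H4.ZJInst

set_option autoImplicit false
open Cfsg

namespace Cfsg.Agent.S3753

/-- Two distinct subgroups M₁, M₂ of G form a primitive pair when, for {i, j} = {1, 2}, every non-trivial normal subgroup A of M_i contained in M₁ ∩ M₂ satisfies N_{M_j}(A) = M₁ ∩ M₂; the pair has characteristic p when moreover C_{M_i}(O_p(M_i)) ≤ O_p(M_i) for both i and O_p(M₁)O_p(M₂) ≤ M₁ ∩ M₂. If the finite group G has a primitive pair (M₁, M₂) of characteristic p for some prime p, then M₁ or M₂ has non-abelian Sylow 2-subgroups. In particular no group of odd order has a primitive pair of characteristic p. -/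
theorem result {G : Type*} [Group G] [Finite G] {p : ℕ} [Fact p.Prime] (M₁ M₂ : Subgroup G) (hne : M₁ ≠ M₂) (hP : ∀ A : Subgroup G, A ≠ ⊥ → A ≤ M₁ ⊓ M₂ → (M₁ ≤ Subgroup.normalizer (A : Set G) → M₂ ⊓ Subgroup.normalizer (A : Set G) = M₁ ⊓ M₂) ∧ (M₂ ≤ Subgroup.normalizer (A : Set G) → M₁ ⊓ Subgroup.normalizer (A : Set G) = M₁ ⊓ M₂)) (hc₁ : Subgroup.centralizer (Cfsg.pCore p ↥M₁ : Set ↥M₁) ≤ Cfsg.pCore p ↥M₁) (hc₂ : Subgroup.centralizer (Cfsg.pCore p ↥M₂ : Set ↥M₂) ≤ Cfsg.pCore p ↥M₂) (hO : (Cfsg.pCore p ↥M₁).map M₁.subtype ⊔ (Cfsg.pCore p ↥M₂).map M₂.subtype ≤ M₁ ⊓ M₂) : (∃ S : Sylow 2 ↥M₁, ¬ IsMulCommutative (S : Subgroup ↥M₁)) ∨ (∃ S : Sylow 2 ↥M₂, ¬ IsMulCommutative (S : Subgroup ↥M₂)) := by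
  classical
  by_contra hcon
  rw [not_or] at hcon
  obtain ⟨hn1, hn2⟩ := hcon
  have hab₁ : ∀ S : Sylow 2 ↥M₁, IsMulCommutative (S : Subgroup ↥M₁) := by
    intro S
    by_contra h
    exact hn1 ⟨S, h⟩
  have hab₂ : ∀ S : Sylow 2 ↥M₂, IsMulCommutative (S : Subgroup ↥M₂) := by
    intro S
    by_contra h
    exact hn2 ⟨S, h⟩
  -- a non-trivial subgroup of `M₁ ∩ M₂` normalised by both `M₁` and `M₂` is impossible
  have hcommon : ∀ A : Subgroup G, A ≠ ⊥ → A ≤ M₁ ⊓ M₂ → M₁ ≤ Subgroup.normalizer (A : Set G) →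
      M₂ ≤ Subgroup.normalizer (A : Set G) → False := by
    intro A hA hAD hN1 hN2
    have e1 := (hP A hA hAD).1 hN1
    have e2 := (hP A hA hAD).2 hN2
    have h21 : M₂ ≤ M₁ := by
      have h : M₂ ≤ M₂ ⊓ Subgroup.normalizer (A : Set G) := le_inf le_rfl hN2
      rw [e1] at h
      exact h.trans inf_le_left
    have h12 : M₁ ≤ M₂ := by
      have h : M₁ ≤ M₁ ⊓ Subgroup.normalizer (A : Set G) := le_inf le_rfl hN1
      rw [e2] at h
      exact h.trans inf_le_right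
    exact hne (le_antisymm h12 h21)
  -- `O_p(M_i) ≠ 1`
  have hne_aux : ∀ (N N' : Subgroup G),
      Subgroup.centralizer (Cfsg.pCore p ↥N : Set ↥N) ≤ Cfsg.pCore p ↥N →
      Subgroup.centralizer (Cfsg.pCore p ↥N' : Set ↥N') ≤ Cfsg.pCore p ↥N' →
      (Cfsg.pCore p ↥N').map N'.subtype ≤ N →
      (Cfsg.pCore p ↥N).map N.subtype = ⊥ → N = N' := by
    intro N N' hcN hcN' hle h
    have h1 : Cfsg.pCore p ↥N = ⊥ :=
      (Subgroup.map_eq_bot_iff_of_injective _ N.subtype_injective).mp h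
    have hN : N = ⊥ := Cfsg.Agent.Lib.H19.PP.eq_bot_of_pCore_eq_bot N hcN h1
    have h2 : (Cfsg.pCore p ↥N').map N'.subtype = ⊥ := by
      rw [hN] at hle
      exact le_bot_iff.mp hle
    have h3 : Cfsg.pCore p ↥N' = ⊥ :=
      (Subgroup.map_eq_bot_iff_of_injective _ N'.subtype_injective).mp h2
    have hN' : N' = ⊥ := Cfsg.Agent.Lib.H19.PP.eq_bot_of_pCore_eq_bot N' hcN' h3
    rw [hN, hN']
  have hQ₁ne : (Cfsg.pCore p ↥M₁).map M₁.subtype ≠ ⊥ := fun h =>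
    hne (hne_aux M₁ M₂ hc₁ hc₂ ((le_sup_right.trans hO).trans inf_le_left) h)
  have hQ₂ne : (Cfsg.pCore p ↥M₂).map M₂.subtype ≠ ⊥ := fun h =>
    hne (hne_aux M₂ M₁ hc₂ hc₁ ((le_sup_left.trans hO).trans inf_le_right) h).symm
  have hQn₁ : (Cfsg.pCore p ↥M₁).Normal := Cfsg.Agent.Lib.H1.pCore_normal p ↥M₁
  have hQn₂ : (Cfsg.pCore p ↥M₂).Normal := Cfsg.Agent.Lib.H1.pCore_normal p ↥M₂
  by_cases hp : p = 2
  · subst hp
    obtain ⟨S₁⟩ : Nonempty (Sylow 2 ↥M₁) := inferInstance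
    obtain ⟨S₂⟩ : Nonempty (Sylow 2 ↥M₂) := inferInstance
    have hS₁ := (Cfsg.Agent.Lib.H4.ZJ.isMulCommutative_iff _).1 (hab₁ S₁)
    have hS₂ := (Cfsg.Agent.Lib.H4.ZJ.isMulCommutative_iff _).1 (hab₂ S₂)
    have hQ₁p : IsPGroup 2 ↥((Cfsg.pCore 2 ↥M₁).map M₁.subtype) :=
      (Cfsg.Agent.Lib.H1.pCore_isPGroup 2 ↥M₁).map _
    have hQ₂p : IsPGroup 2 ↥((Cfsg.pCore 2 ↥M₂).map M₂.subtype) :=
      (Cfsg.Agent.Lib.H1.pCore_isPGroup 2 ↥M₂).map _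
    have h21 : (Cfsg.pCore 2 ↥M₂).map M₂.subtype ≤ (Cfsg.pCore 2 ↥M₁).map M₁.subtype := by
      have hle : (Cfsg.pCore 2 ↥M₂).map M₂.subtype ≤ M₁ := (le_sup_right.trans hO).trans inf_le_left
      have h := Cfsg.Agent.Lib.H19.PP.le_pCore_of_abelian_sylow hc₁ S₁ hS₁
        (((Cfsg.pCore 2 ↥M₂).map M₂.subtype).subgroupOf M₁) hQ₂p.comap_subtype
      intro x hx
      exact ⟨⟨x, hle hx⟩, h (Subgroup.mem_subgroupOf.mpr hx), rfl⟩
    have h12 : (Cfsg.pCore 2 ↥M₁).map M₁.subtype ≤ (Cfsg.pCore 2 ↥M₂).map M₂.subtype := by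
      have hle : (Cfsg.pCore 2 ↥M₁).map M₁.subtype ≤ M₂ := (le_sup_left.trans hO).trans inf_le_right
      have h := Cfsg.Agent.Lib.H19.PP.le_pCore_of_abelian_sylow hc₂ S₂ hS₂
        (((Cfsg.pCore 2 ↥M₁).map M₁.subtype).subgroupOf M₂) hQ₁p.comap_subtype
      intro x hx
      exact ⟨⟨x, hle hx⟩, h (Subgroup.mem_subgroupOf.mpr hx), rfl⟩
    have heq : (Cfsg.pCore 2 ↥M₁).map M₁.subtype = (Cfsg.pCore 2 ↥M₂).map M₂.subtype :=
      le_antisymm h12 h21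
    refine hcommon _ hQ₁ne (le_sup_left.trans hO)
      (Cfsg.Agent.Lib.H19.PP.le_normalizer_map_subtype _) ?_
    rw [heq]
    exact Cfsg.Agent.Lib.H19.PP.le_normalizer_map_subtype _
  · have s1 := Cfsg.Agent.Lib.H19.PP.side hp M₁ M₂ (fun A hA hAD hn => (hP A hA hAD).2 hn)
      hc₁ hc₂ hab₁ hab₂ hO hQ₂ne
    have s2 := Cfsg.Agent.Lib.H19.PP.side hp M₂ M₁
      (fun A hA hAD hn => by
        have h := (hP A hA (by rwa [inf_comm])).1 hn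
        rwa [inf_comm M₁ M₂] at h)
      hc₂ hc₁ hab₂ hab₁ (by rw [sup_comm, inf_comm]; exact hO) hQ₁ne
    rw [sup_comm] at s2
    have hBp := Cfsg.Agent.Lib.H19.PP.isPGroup_sup_pCore M₁ M₂ hO
    have hBne : (Cfsg.pCore p ↥M₁).map M₁.subtype ⊔ (Cfsg.pCore p ↥M₂).map M₂.subtype ≠ ⊥ := by
      intro h
      apply hQ₁ne
      rw [eq_bot_iff, ← h]
      exact le_sup_left
    exact hcommon _ (Cfsg.Agent.Lib.H19.DSt.dStarOf_ne_bot hBp hBne)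
      ((Cfsg.Agent.Lib.H15.dStarOf_le _).trans hO) s1 s2

end Cfsg.Agent.S3753
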