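import Cfsg.Statements.S3755
import Cfsg.Agent.Lib.H7.ConjOrbit
import Cfsg.Agent.Lib.H7.Coprime
import Cfsg.Agent.Lib.H7.Signalizer2
import Cfsg.Agent.Lib.H7.PrimPair
import Cfsg.Agent.Lib.H14.DihInv
import Cfsg.Agent.Lib.H14.Norm
import Cfsg.Agent.Lib.H22.PPrimeCore
import Cfsg.Agent.S4062

set_option autoImplicit false
open Cfsg
open Cfsg.Agent.Lib.H7
set_option autoImplicit false

namespace Cfsg.Agent.S3755

theorem dih3_not_comm : ¬ ∀ a b : DihedralGroup 3, a * b = b * a := by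
  intro h
  have := h (DihedralGroup.r 1) (DihedralGroup.sr 0)
  revert this
  decide

theorem pow_two_of_le_of_dvd {m k : ℕ} (hm : m ∣ 2 ^ k) (h1 : m ≠ 1) (h4 : m ≤ 4) : m = 2 ∨ m = 4 := by
  obtain ⟨j, -, rfl⟩ := (Nat.dvd_prime_pow Nat.prime_two).1 hm
  rcases j with _ | _ | _ | j
  · exact absurd rfl h1
  · left; rfl
  · right; rfl
  · exfalso
    have : 2 ^ (j + 3) ≥ 8 := by
      have : 2 ^ (j + 3) = 2 ^ j * 8 := by ring
      rw [this]
      have : 2 ^ j ≥ 1 := Nat.one_le_two_pow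
      omega
    omega

theorem exists_S3_gens {X : Type*} [Group X] [Finite X] (M V K : Subgroup X)
    (hV2 : IsPGroup 2 V) (hMV : M ≤ Subgroup.normalizer (V : Set X))
    (hfaith : M ⊓ Subgroup.centralizer (V : Set X) = ⊥)
    (hKM : K ≤ M) (hMK : M ≤ Subgroup.normalizer (K : Set X)) (hKodd : (Nat.card K).Coprime 2)
    (hcon : M ⊓ Subgroup.centralizer (K : Set X) ≤ K) :
    ∀ (n : ℕ) (A : Subgroup X), Nat.card A = n → A ≤ M → (∀ a ∈ A, ∀ b ∈ A, a * b = b * a) →
      (∀ a ∈ A, a ^ 2 = 1) →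
      (V ⊓ Subgroup.centralizer (A : Set X)).relIndex V < Nat.card A ^ 2 →
      ∃ x a : X, x ∈ M ∧ a ∈ M ∧ orderOf x = 3 ∧ orderOf a = 2 ∧ a * x * a⁻¹ = x⁻¹ := by
  intro n
  induction n using Nat.strong_induction_on with
  | _ n ih =>
  intro A hn hAM hAc hA2 hsmall
  by_cases hex : ∃ B : Subgroup X, B ≤ A ∧ B ≠ A ∧
      (V ⊓ Subgroup.centralizer (B : Set X)).relIndex V < Nat.card B ^ 2
  · obtain ⟨B, hBA, hBne, hB⟩ := hex
    have hlt : Nat.card B < n := by
      rw [← hn]
      by_contra h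
      exact hBne (Subgroup.eq_of_le_of_card_ge hBA (not_lt.1 h))
    exact ih _ hlt B rfl (hBA.trans hAM) (fun a ha b hb => hAc a (hBA ha) b (hBA hb))
      (fun a ha => hA2 a (hBA ha)) hB
  push Not at hex
  have : Fact (Nat.Prime 2) := ⟨Nat.prime_two⟩
  -- relIndex facts
  have hrel0 : ∀ H L : Subgroup X, H.relIndex L ≠ 0 := by
    intro H L
    exact Subgroup.index_ne_zero_of_finite
  -- `K ≰ C(A)`
  have hKA : ¬ K ≤ Subgroup.centralizer (A : Set X) := by
    intro h
    have h1 : A ≤ Subgroup.centralizer (K : Set X) := Subgroup.le_centralizer_iff.1 h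
    have h2 : A ≤ K := (le_inf hAM h1).trans hcon
    have h3 : A = ⊥ := by
      rw [eq_bot_iff]
      intro a ha
      rw [Subgroup.mem_bot]
      have h4 : orderOf a ∣ Nat.card K := by
        have := orderOf_dvd_natCard (⟨a, h2 ha⟩ : K)
        rwa [Subgroup.orderOf_mk] at this
      have h5 : orderOf a ∣ 2 := orderOf_dvd_of_pow_eq_one (hA2 a ha)
      have h6 : orderOf a ∣ 1 := by
        have := Nat.dvd_gcd h4 h5
        rwa [hKodd] at this
      exact orderOf_eq_one_iff.1 (Nat.dvd_one.1 h6)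
    rw [h3] at hsmall
    have h7 : Nat.card (⊥ : Subgroup X) = 1 := Subgroup.card_bot
    rw [h7] at hsmall
    have := hrel0 (V ⊓ Subgroup.centralizer ((⊥ : Subgroup X) : Set X)) V
    omega
  obtain ⟨B, hBA, hBidx, hBK⟩ := exists_hyp_centralizer_not_le 2 hAc hA2 hKodd (hAM.trans hMK) hKA
  have hBne : B ≠ A := by
    intro h
    rw [h] at hBK
    exact hBK inf_le_right
  have hBmin := hex B hBA hBne
  -- `|A| ≤ 2 |B|`
  have hcardA : Nat.card A ≤ 2 * Nat.card B := by
    have h1 := Subgroup.relIndex_mul_relIndex ⊥ B A bot_le hBA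
    rw [Subgroup.relIndex_bot_left, Subgroup.relIndex_bot_left] at h1
    rw [← h1, mul_comm]
    exact Nat.mul_le_mul_right _ hBidx
  set W : Subgroup X := V ⊓ Subgroup.centralizer (B : Set X) with hW
  set U : Subgroup X := V ⊓ Subgroup.centralizer (A : Set X) with hU
  have hUW : U ≤ W := inf_le_inf_left _ (Subgroup.centralizer_le hBA)
  have hWV : W ≤ V := inf_le_left
  have hUWidx : U.relIndex W < 4 := by
    have h1 := Subgroup.relIndex_mul_relIndex U W V hUW hWV
    have h2 : U.relIndex W * W.relIndex V < 4 * W.relIndex V := by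
      rw [h1]
      calc U.relIndex V < Nat.card A ^ 2 := hsmall
        _ ≤ (2 * Nat.card B) ^ 2 := Nat.pow_le_pow_left hcardA 2
        _ = 4 * Nat.card B ^ 2 := by ring
        _ ≤ 4 * W.relIndex V := Nat.mul_le_mul_left _ hBmin
    exact lt_of_mul_lt_mul_right h2 (Nat.zero_le _)
  -- the elements `y`, `a`
  obtain ⟨y, hy, hyA⟩ := SetLike.not_le_iff_exists.1 hBK
  have hyK : y ∈ K := (Subgroup.mem_inf.1 hy).1
  have hyB : y ∈ Subgroup.centralizer (B : Set X) := (Subgroup.mem_inf.1 hy).2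
  rw [Subgroup.mem_centralizer_iff] at hyA
  push Not at hyA
  obtain ⟨a, haA, hay⟩ := hyA
  have haA' : a ∈ A := haA
  have ha2 : a ^ 2 = 1 := hA2 a haA'
  have hainv : a⁻¹ = a := by
    rw [inv_eq_iff_mul_eq_one, ← pow_two, ha2]
  have haM : a ∈ M := hAM haA'
  have haB : a ∈ Subgroup.centralizer (B : Set X) := by
    rw [Subgroup.mem_centralizer_iff]
    intro b hb
    exact hAc b (hBA hb) a haA'
  have ha1 : a ≠ 1 := by
    rintro rfl
    exact hay (by simp)
  have haord : orderOf a = 2 := orderOf_eq_prime ha2 ha1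
  set x : X := y⁻¹ * (a * y * a⁻¹) with hx
  have hxK : x ∈ K :=
    K.mul_mem (K.inv_mem hyK) ((Subgroup.mem_normalizer_iff.1 (hMK haM) y).1 hyK)
  have hxB : x ∈ Subgroup.centralizer (B : Set X) :=
    Subgroup.mul_mem _ (Subgroup.inv_mem _ hyB)
      (Subgroup.mul_mem _ (Subgroup.mul_mem _ haB hyB) (Subgroup.inv_mem _ haB))
  have hx1 : x ≠ 1 := by
    intro h
    apply hay
    have h1 : a * y * a⁻¹ = y := by
      have : y * x = y := by rw [h, mul_one]
      rw [hx, mul_inv_cancel_left] at this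
      exact this
    calc a * y = (a * y * a⁻¹) * a := by group
      _ = y * a := by rw [h1]
  have hxinv : a * x * a⁻¹ = x⁻¹ := by
    rw [hx, hainv]
    have h3 : a * a = 1 := by rw [← pow_two, ha2]
    calc a * (y⁻¹ * (a * y * a)) * a = a * y⁻¹ * a * y * (a * a) := by group
      _ = a * y⁻¹ * a * y := by rw [h3, mul_one]
      _ = (a * a) * (a * y⁻¹ * a * y) := by rw [h3, one_mul]
      _ = (y⁻¹ * (a * y * a))⁻¹ * (a * a) * (a * a) := by
          rw [h3]; simp only [mul_one, one_mul, mul_inv_rev, inv_inv, hainv, mul_assoc]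
      _ = (y⁻¹ * (a * y * a))⁻¹ := by rw [h3, mul_one, mul_one]
  -- a prime `r` dividing the order of `x`
  have hxord1 : orderOf x ≠ 1 := fun h => hx1 (orderOf_eq_one_iff.1 h)
  obtain ⟨r, hr, hrx⟩ := Nat.exists_prime_and_dvd hxord1
  have : Fact r.Prime := ⟨hr⟩
  have hxordK : orderOf x ∣ Nat.card K := by
    have := orderOf_dvd_natCard (⟨x, hxK⟩ : K)
    rwa [Subgroup.orderOf_mk] at this
  have hr2 : r ≠ 2 := by
    rintro rfl
    have : 2 ∣ Nat.gcd (Nat.card K) 2 := Nat.dvd_gcd (hrx.trans hxordK) dvd_rfl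
    rw [hKodd] at this
    omega
  have hxpos : orderOf x ≠ 0 := (orderOf_pos x).ne'
  set x' : X := x ^ (orderOf x / r) with hx'
  have hx'ord : orderOf x' = r := orderOf_pow_orderOf_div hxpos hrx
  have hx'K : x' ∈ K := K.pow_mem hxK _
  have hx'M : x' ∈ M := hKM hx'K
  have hx'B : x' ∈ Subgroup.centralizer (B : Set X) := Subgroup.pow_mem _ hxB _
  have hx'inv : a * x' * a⁻¹ = x'⁻¹ := by
    rw [hx', ← conj_pow, hxinv, inv_pow]
  have hx'1 : x' ≠ 1 := by
    intro h
    rw [h, orderOf_one] at hx'ord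
    exact hr.one_lt.ne hx'ord
  -- normalizing `W`
  have hNW : ∀ g : X, g ∈ M → g ∈ Subgroup.centralizer (B : Set X) →
      g ∈ Subgroup.normalizer (W : Set X) := by
    intro g hgM hgB
    have h1 : Subgroup.zpowers g ≤ Subgroup.normalizer (V : Set X) := by
      rw [Subgroup.zpowers_le]; exact hMV hgM
    have h2 : Subgroup.zpowers g ≤
        Subgroup.normalizer ((Subgroup.centralizer (B : Set X) : Subgroup X) : Set X) := by
      rw [Subgroup.zpowers_le]; exact Subgroup.le_normalizer hgB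
    exact Cfsg.Agent.Lib.H14.le_nzr_inf _ _ _ h1 h2 (Subgroup.mem_zpowers g)
  have hx'W := hNW x' hx'M hx'B
  have hxM : x ∈ M := hKM hxK
  have hW2 : IsPGroup 2 W := hV2.to_le hWV
  -- `x'` does not centralize `W`
  have hnotc : ¬ W ≤ Subgroup.centralizer ({x'} : Set X) := by
    intro h
    have hz : (Nat.card (Subgroup.zpowers x')).Coprime 2 := by
      rw [Nat.card_zpowers, hx'ord]
      exact (Nat.coprime_primes hr Nat.prime_two).2 hr2
    have hB2 : IsPGroup 2 B := by
      intro b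
      exact ⟨1, by rw [pow_one]; exact Subtype.ext (hA2 b (hBA b.2))⟩
    have h1 : ⁅Subgroup.zpowers x', B⁆ = ⊥ := by
      rw [Subgroup.commutator_eq_bot_iff_le_centralizer, Subgroup.zpowers_le]
      exact hx'B
    have h2 : ⁅Subgroup.zpowers x', V ⊓ Subgroup.centralizer (B : Set X)⁆ = ⊥ := by
      rw [Subgroup.commutator_eq_bot_iff_le_centralizer, Subgroup.zpowers_le,
        Subgroup.mem_centralizer_iff]
      intro w hw
      have := h hw
      rw [Subgroup.mem_centralizer_singleton_iff] at this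
      exact this
    have h3 := thompson_AxB' 2 hV2 hB2 hz h1
      (by rw [Subgroup.zpowers_le]; exact hMV hx'M) ((hBA.trans hAM).trans hMV) h2
    rw [Subgroup.commutator_eq_bot_iff_le_centralizer, Subgroup.zpowers_le] at h3
    have h4 : x' ∈ M ⊓ Subgroup.centralizer (V : Set X) := Subgroup.mem_inf.2 ⟨hx'M, h3⟩
    rw [hfaith, Subgroup.mem_bot] at h4
    exact hx'1 h4
  -- index bound
  set S₁ : Subgroup X := W ⊓ Subgroup.centralizer ({a} : Set X) with hS₁
  set a' : X := y⁻¹ * a * y with ha'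
  set S₂ : Subgroup X := W ⊓ Subgroup.centralizer ({a'} : Set X) with hS₂
  have hUS₁ : U ≤ S₁ := by
    apply le_inf hUW
    intro u hu
    have := (Subgroup.mem_inf.1 hu).2
    rw [Subgroup.mem_centralizer_singleton_iff]
    exact (Subgroup.mem_centralizer_iff.1 this a haA').symm
  have hS₁idx : S₁.relIndex W ≤ 2 := by
    have h1 : S₁.relIndex W ≤ U.relIndex W := Subgroup.relIndex_le_of_le_left hUS₁ (hrel0 _ _)
    have h2 : S₁.relIndex W ∣ Nat.card W := Subgroup.relIndex_dvd_card _ _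
    obtain ⟨k, hk⟩ := IsPGroup.iff_card.1 hW2
    rw [hk] at h2
    obtain ⟨j, -, hj⟩ := (Nat.dvd_prime_pow Nat.prime_two).1 h2
    rw [hj] at h1 ⊢
    rcases j with _ | _ | j
    · norm_num
    · norm_num
    · exfalso
      have h5 : (2:ℕ) ^ 2 ≤ 2 ^ (j + 1 + 1) :=
        Nat.pow_le_pow_right (by norm_num) (by omega)
      have h6 : (4:ℕ) ≤ 2 ^ (j + 1 + 1) := by simpa using h5
      exact absurd (lt_of_le_of_lt (h6.trans h1) hUWidx) (lt_irrefl _)
  -- `S₂` is the conjugate of `S₁` by `y⁻¹`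
  have hyW : y⁻¹ ∈ Subgroup.normalizer (W : Set X) :=
    Subgroup.inv_mem _ (hNW y (hKM hyK) hyB)
  have hS₂map : S₂ = S₁.map (MulAut.conj y⁻¹).toMonoidHom := by
    have hWmap : W.map (MulAut.conj y⁻¹).toMonoidHom = W :=
      Subgroup.mem_normalizer_iff_map_conj_eq.1 hyW
    rw [hS₁, Subgroup.map_inf _ _ _ (MulAut.conj y⁻¹).injective, hWmap, hS₂]
    congr 1
    ext g
    rw [Subgroup.mem_centralizer_singleton_iff, Subgroup.mem_map]
    constructor
    · intro hg
      refine ⟨y * g * y⁻¹, ?_, by simp [mul_assoc]⟩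
      rw [Subgroup.mem_centralizer_singleton_iff]
      have : a = y * a' * y⁻¹ := by rw [ha']; group
      rw [this]
      calc y * g * y⁻¹ * (y * a' * y⁻¹) = y * (g * a') * y⁻¹ := by group
        _ = y * (a' * g) * y⁻¹ := by rw [hg]
        _ = y * a' * y⁻¹ * (y * g * y⁻¹) := by group
    · rintro ⟨h, hh, rfl⟩
      rw [Subgroup.mem_centralizer_singleton_iff] at hh
      simp only [MulEquiv.coe_toMonoidHom, MulAut.conj_apply, inv_inv]
      rw [ha']
      calc y⁻¹ * h * y * (y⁻¹ * a * y) = y⁻¹ * (h * a) * y := by group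
        _ = y⁻¹ * (a * h) * y := by rw [hh]
        _ = y⁻¹ * a * y * (y⁻¹ * h * y) := by group
  have hS₁W : S₁ ≤ W := inf_le_left
  have hS₂W : S₂ ≤ W := inf_le_left
  have hcardS : Nat.card S₂ = Nat.card S₁ := by
    rw [hS₂map]
    exact Subgroup.card_map_of_injective (MulAut.conj y⁻¹).injective
  have hS₂idx : S₂.relIndex W = S₁.relIndex W := by
    have h1 := Subgroup.relIndex_mul_relIndex ⊥ S₁ W bot_le hS₁W
    have h2 := Subgroup.relIndex_mul_relIndex ⊥ S₂ W bot_le hS₂W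
    rw [Subgroup.relIndex_bot_left, Subgroup.relIndex_bot_left] at h1 h2
    rw [hcardS, ← h1] at h2
    have hpos : 0 < Nat.card S₁ := Nat.card_pos
    exact Nat.eq_of_mul_eq_mul_left hpos h2
  set C : Subgroup X := W ⊓ Subgroup.centralizer ({x'} : Set X) with hC
  have hSC : S₁ ⊓ S₂ ≤ C := by
    apply le_inf (inf_le_left.trans hS₁W)
    intro g hg
    have hg1 := Subgroup.mem_centralizer_singleton_iff.1 (Subgroup.mem_inf.1 (Subgroup.mem_inf.1 hg).1).2
    have hg2 := Subgroup.mem_centralizer_singleton_iff.1 (Subgroup.mem_inf.1 (Subgroup.mem_inf.1 hg).2).2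
    have hgx : g * x = x * g := by
      have hxe : x = a' * a := by rw [hx, ha', hainv]; group
      rw [hxe]
      calc g * (a' * a) = (g * a') * a := by group
        _ = (a' * g) * a := by rw [hg2]
        _ = a' * (g * a) := by group
        _ = a' * (a * g) := by rw [hg1]
        _ = a' * a * g := by group
    rw [Subgroup.mem_centralizer_singleton_iff, hx']
    exact (Commute.pow_right (show Commute g x from hgx) _).eq
  have hCW : C ≤ W := inf_le_left
  have hCidx : C.relIndex W ≤ 4 := by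
    calc C.relIndex W ≤ (S₁ ⊓ S₂).relIndex W := Subgroup.relIndex_le_of_le_left hSC (hrel0 _ _)
      _ ≤ S₁.relIndex W * S₂.relIndex W := Subgroup.relIndex_inf_le
      _ ≤ 2 * 2 := by rw [hS₂idx]; exact Nat.mul_le_mul hS₁idx hS₁idx
  have hCne1 : C.relIndex W ≠ 1 := by
    intro h
    rw [Subgroup.relIndex_eq_one] at h
    exact hnotc (h.trans inf_le_right)
  obtain ⟨k, hk⟩ := IsPGroup.iff_card.1 hW2
  have hCdvd : C.relIndex W ∣ 2 ^ k := hk ▸ Subgroup.relIndex_dvd_card _ _
  have hm := pow_two_of_le_of_dvd hCdvd hCne1 hCidx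
  -- congruence
  have hcong := card_modEq_card_inf_centralizer (W := W) hx'ord hx'W
  have hmul := Subgroup.relIndex_mul_relIndex ⊥ C W bot_le hCW
  rw [Subgroup.relIndex_bot_left, Subgroup.relIndex_bot_left] at hmul
  have hCcard : Nat.card C ∣ 2 ^ k := hk ▸ Subgroup.card_dvd_of_le hCW
  have hcop : Nat.Coprime r (Nat.card C) := by
    obtain ⟨j, -, hj⟩ := (Nat.dvd_prime_pow Nat.prime_two).1 hCcard
    rw [hj]
    exact Nat.Coprime.pow_right _ ((Nat.coprime_primes hr Nat.prime_two).2 hr2)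
  have hr3 : r = 3 := by
    have h1 : r ∣ Nat.card W - Nat.card C := (Nat.modEq_iff_dvd' (by
      rw [← hmul]; exact Nat.le_mul_of_pos_right _ (Nat.pos_of_ne_zero (hrel0 _ _)))).1 hcong.symm
    rcases hm with hm | hm
    · rw [← hmul, hm] at h1
      have h2 : Nat.card C * 2 - Nat.card C = Nat.card C := by omega
      rw [h2] at h1
      have := (Nat.Coprime.dvd_of_dvd_mul_right hcop (by rw [one_mul]; exact h1) : r ∣ 1)
      exact absurd (Nat.dvd_one.1 this) hr.one_lt.ne'
    · rw [← hmul, hm] at h1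
      have h2 : Nat.card C * 4 - Nat.card C = Nat.card C * 3 := by omega
      rw [h2] at h1
      have h3 : r ∣ 3 := Nat.Coprime.dvd_of_dvd_mul_left hcop h1
      exact (Nat.prime_dvd_prime_iff_eq hr Nat.prime_three).1 h3
  exact ⟨x', a, hx'M, haM, by rw [hx'ord, hr3], haord, hx'inv⟩


/-- Let M and V be subgroups of a finite group with V an elementary abelian 2-group, M normalizing V and acting faithfully on it (M ∩ C(V) = 1), and C_M(O_{2'}(M)) ≤ O_{2'}(M). If some elementary abelian 2-subgroup A of M satisfies |V : C_V(A)| < |A|², then M has a section isomorphic to the symmetric group of degree 3. -/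
theorem result {X : Type*} [Group X] [Finite X] (M V : Subgroup X) (hV : Cfsg.IsElementaryAbelian 2 V) (hMV : M ≤ Subgroup.normalizer (V : Set X)) (hfaith : M ⊓ Subgroup.centralizer (V : Set X) = ⊥) (hcon : Subgroup.centralizer (Cfsg.pPrimeCore 2 ↥M : Set ↥M) ≤ Cfsg.pPrimeCore 2 ↥M) (A : Subgroup X) (hAM : A ≤ M) (hA : Cfsg.IsElementaryAbelian 2 A) (hsmall : (V ⊓ Subgroup.centralizer (A : Set X)).relIndex V < Nat.card A ^ 2) : Cfsg.Involves (Equiv.Perm (Fin 3)) ↥M := by
  have : Fact (Nat.Prime 2) := ⟨Nat.prime_two⟩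
  set K : Subgroup X := (Cfsg.pPrimeCore 2 ↥M).map M.subtype with hK
  have hKM : K ≤ M := Subgroup.map_subtype_le _
  have hn : (Cfsg.pPrimeCore 2 ↥M).Normal := Cfsg.Agent.Lib.H22.pPrimeCore_normal 2
  have hMK : M ≤ Subgroup.normalizer (K : Set X) :=
    Cfsg.Agent.Lib.H7.PrimPair.le_normalizer_map_subtype _
  have hKodd : (Nat.card K).Coprime 2 := by
    rw [hK, Subgroup.card_map_of_injective M.subtype_injective]
    exact Cfsg.Agent.Lib.H22.card_pPrimeCore_coprime 2
  have hcon' : M ⊓ Subgroup.centralizer (K : Set X) ≤ K := by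
    rintro g ⟨hgM, hgC⟩
    have : (⟨g, hgM⟩ : M) ∈ Subgroup.centralizer (Cfsg.pPrimeCore 2 ↥M : Set ↥M) := by
      rw [Subgroup.mem_centralizer_iff]
      intro y hy
      have hy' : (y : X) ∈ K := ⟨y, hy, rfl⟩
      exact Subtype.ext ((Subgroup.mem_centralizer_iff.1 hgC) (y : X) hy')
    exact ⟨⟨g, hgM⟩, hcon this, rfl⟩
  have hV2 : IsPGroup 2 V := fun v => ⟨1, by rw [pow_one]; exact Subtype.ext (hV.2 v v.2)⟩
  have hAc : ∀ a ∈ A, ∀ b ∈ A, a * b = b * a := fun a ha b hb =>
    congrArg Subtype.val (hA.1.is_comm.comm ⟨a, ha⟩ ⟨b, hb⟩)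
  obtain ⟨x, a, hxM, haM, hx3, ha2, hinv⟩ := exists_S3_gens M V K hV2 hMV hfaith hKM hMK hKodd
    hcon' _ A rfl hAM hAc hA.2 hsmall
  have : Fact (Nat.Prime 3) := ⟨Nat.prime_three⟩
  have hD : Cfsg.Involves (DihedralGroup 3) ↥M :=
    Cfsg.Agent.Lib.H14.involves_dihedral_of_inverting (p := 3) (by norm_num) (⟨a, haM⟩ : M)
      ⟨x, hxM⟩ ⟨1, by rw [Subgroup.orderOf_mk, ha2, pow_one]⟩
      ⟨1, by rw [Subgroup.orderOf_mk, hx3, pow_one]⟩
      (by
        intro h
        have h1 : x = 1 := congrArg Subtype.val h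
        rw [h1, orderOf_one] at hx3
        omega)
      (Subtype.ext (by simpa using hinv))
  obtain ⟨e⟩ := Cfsg.Agent.S4062.s3_iso (G := DihedralGroup 3)
    (by rw [DihedralGroup.nat_card]) dih3_not_comm
  rw [Cfsg.Agent.Lib.H26.involves_iff] at hD ⊢
  obtain ⟨L, f, hf⟩ := hD
  exact ⟨L, e.toMonoidHom.comp f, e.surjective.comp hf⟩

end Cfsg.Agent.S3755
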