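import Cfsg.Statements.S3760
import Cfsg.Agent.Lib.H19.Basic

set_option autoImplicit false
open Cfsg
open Cfsg.Agent.Lib.H19

namespace Cfsg.Agent.S3760

theorem result {G : Type*} [Group G] {X : Type*} [MulAction G X] (htrans : ∀ a b : X, ∃ g : G, g • a = b) (x : X) (K : Subgroup G) (hK : K ≤ MulAction.stabilizer G x) : (∀ a b : X, (∀ k ∈ K, k • a = a) → (∀ k ∈ K, k • b = b) → ∃ g ∈ Subgroup.normalizer (K : Set G), g • a = b) ↔ ∀ g : G, K.map (MulAut.conj g).toMonoidHom ≤ MulAction.stabilizer G x → ∃ h ∈ MulAction.stabilizer G x, K.map (MulAut.conj g).toMonoidHom = K.map (MulAut.conj h).toMonoidHom := by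
  constructor
  · intro H g hg
    -- K fixes g⁻¹ • x and x
    have h1 : ∀ k ∈ K, k • (g⁻¹ • x) = g⁻¹ • x := by
      intro k hk
      have : g * k * g⁻¹ ∈ MulAction.stabilizer G x := hg (conj_mem_map_conj hk)
      rw [MulAction.mem_stabilizer_iff] at this
      calc k • g⁻¹ • x = g⁻¹ • ((g * k * g⁻¹) • x) := by
            simp only [smul_smul]; congr 1; group
        _ = g⁻¹ • x := by rw [this]
    have h2 : ∀ k ∈ K, k • x = x := fun k hk => hK hk
    obtain ⟨n, hn, hnx⟩ := H (g⁻¹ • x) x h1 h2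
    refine ⟨g * n⁻¹, ?_, ?_⟩
    · rw [MulAction.mem_stabilizer_iff, mul_smul]
      have : n⁻¹ • x = g⁻¹ • x := inv_smul_eq_iff.mpr hnx.symm
      rw [this, smul_inv_smul]
    · rw [map_conj_mul]
      have : n⁻¹ ∈ Subgroup.normalizer (K : Set G) := inv_mem hn
      rw [mem_normalizer_iff_map_conj.mp this]
  · intro H a b ha hb
    -- key: any K-fixed point is n • x for some n in the normalizer
    have key : ∀ a : X, (∀ k ∈ K, k • a = a) → ∃ n ∈ Subgroup.normalizer (K : Set G), n • x = a := by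
      intro a ha
      obtain ⟨u, hu⟩ := htrans x a
      have h1 : K.map (MulAut.conj u⁻¹).toMonoidHom ≤ MulAction.stabilizer G x := by
        intro y hy
        rw [mem_map_conj, inv_inv] at hy
        rw [MulAction.mem_stabilizer_iff]
        have h3 := ha _ hy
        rw [← hu] at h3
        calc y • x = u⁻¹ • ((u * y * u⁻¹) • (u • x)) := by
              simp only [smul_smul]; congr 1; group
          _ = u⁻¹ • (u • x) := by rw [h3]
          _ = x := inv_smul_smul u x
      obtain ⟨h, hh, hhe⟩ := H u⁻¹ h1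
      refine ⟨u * h, ?_, ?_⟩
      · rw [mem_normalizer_iff_map_conj, map_conj_mul, ← hhe, ← map_conj_mul, mul_inv_cancel,
          map_conj_one]
      · rw [mul_smul, MulAction.mem_stabilizer_iff.mp hh, hu]
    obtain ⟨n₁, hn₁, h₁⟩ := key a ha
    obtain ⟨n₂, hn₂, h₂⟩ := key b hb
    refine ⟨n₂ * n₁⁻¹, mul_mem hn₂ (inv_mem hn₁), ?_⟩
    rw [← h₁, ← h₂, mul_smul, inv_smul_smul]

end Cfsg.Agent.S3760
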