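import Cfsg.Statements.S3764
import Cfsg.Agent.Lib.H19.ModRepExtraBridge

set_option autoImplicit false
open Cfsg

namespace Cfsg.Agent.S3764

open Cfsg.Agent.Lib.H19.ModRep Cfsg.Agent.Lib.H1.QuadMul
open scoped TensorProduct

/-- the final arithmetic -/
theorem arith {q r e : ℕ} (hq : q.Prime) (hr : r.Prime) (hcard : q ^ e = (r - 1) ^ 2 * q)
    (hne : q ^ e ≠ q) : q = 2 ∧ ∃ n : ℕ, r = 2 ^ n + 1 ∧ q ^ e = 2 ^ (2 * n + 1) := by
  have h1 : (r - 1) ∣ q ^ e := by
    rw [hcard, sq, mul_assoc]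
    exact Dvd.intro _ rfl
  obtain ⟨n, -, hn⟩ := (Nat.dvd_prime_pow hq).mp h1
  have hr2 := hr.two_le
  have hrn : r = q ^ n + 1 := by omega
  have hcard' : q ^ e = q ^ (2 * n + 1) := by
    rw [hcard, hn]
    ring
  have hn0 : n ≠ 0 := by
    intro h
    apply hne
    rw [hcard', h]
    simp
  have hq2 : q = 2 := by
    rcases hq.eq_two_or_odd with h | h
    · exact h
    · exfalso
      have hodd : Odd q := Nat.odd_iff.mpr h
      have hodd' : Odd (q ^ n) := hodd.pow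
      have heven : Even r := by
        rw [hrn]
        exact hodd'.add_one
      have hr2' : r = 2 := (Nat.Prime.even_iff hr).mp heven
      have : q ^ n = 1 := by omega
      have h2 : 1 < q ^ n := Nat.one_lt_pow hn0 hq.one_lt
      omega
  refine ⟨hq2, n, ?_, ?_⟩
  · rw [hrn, hq2]
  · rw [hcard', hq2]

/-- the main computation, over an arbitrary algebraically closed field of characteristic `p` -/
theorem core_k {G : Type*} [Group G] [Finite G] {p q r : ℕ} [Fact p.Prime] (k : Type*) [Field k]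
    [Algebra (ZMod p) k] [IsAlgClosed k] [CharP k p]
    (hp : p.Prime) (hq : q.Prime) (hr : r.Prime) (hpq : p ≠ q) (hpr : p ≠ r) (hqr : q ≠ r) (X Q V : Subgroup G) (hX : Nat.card X = r) (hQ : Cfsg.IsExtraspecial q ↥Q) (hXQ : X ≤ Subgroup.normalizer (Q : Set G)) (hCQ : Q ⊓ Subgroup.centralizer (X : Set G) = (Subgroup.center ↥Q).map Q.subtype) (hV : Cfsg.IsElementaryAbelian p V) (hXV : X ≤ Subgroup.normalizer (V : Set G)) (hQV : Q ≤ Subgroup.normalizer (V : Set G)) (hfaith : (X ⊔ Q) ⊓ Subgroup.centralizer (V : Set G) = ⊥) (hCV : V ⊓ Subgroup.centralizer (X : Set G) = ⊥) : q = 2 ∧ ∃ n : ℕ, r = 2 ^ n + 1 ∧ Nat.card Q = 2 ^ (2 * n + 1) := by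
  classical
  haveI : Fact q.Prime := ⟨hq⟩
  haveI : Fact r.Prime := ⟨hr⟩
  haveI : IsEA p ↥V := isEA_of hV
  set K : Subgroup G := X ⊔ Q with hK
  have hXK : X ≤ K := le_sup_left
  have hQK : Q ≤ K := le_sup_right
  have hKV : K ≤ Subgroup.normalizer (V : Set G) := sup_le hXV hQV
  -- a generator of `X`
  obtain ⟨x, hxX, hx1⟩ : ∃ x ∈ X, x ≠ 1 := by
    have hnt : Nontrivial X := by
      rw [← Finite.one_lt_card_iff_nontrivial, hX]
      exact hr.one_lt
    obtain ⟨y, hy⟩ := exists_ne (1 : X)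
    exact ⟨y.1, y.2, fun h => hy (Subtype.ext h)⟩
  have hXx : ∀ y ∈ X, ∃ i : ℕ, y = x ^ i := by
    intro y hy
    have h1 : Subgroup.zpowers (⟨x, hxX⟩ : X) = ⊤ :=
      zpowers_eq_top_of_prime_card hX (fun h => hx1 (congrArg Subtype.val h))
    have h2 : (⟨y, hy⟩ : X) ∈ Subgroup.zpowers (⟨x, hxX⟩ : X) := by rw [h1]; trivial
    obtain ⟨i, hi⟩ := (mem_powers_iff_mem_zpowers.mpr h2)
    refine ⟨i, ?_⟩
    have := congrArg (Subtype.val : X → G) hi
    simpa using this.symm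
  have hxr : x ^ r = 1 := by
    have h1 : (⟨x, hxX⟩ : X) ^ r = 1 := by rw [← hX]; exact pow_card_eq_one'
    have := congrArg (Subtype.val : X → G) h1
    simpa using this
  -- the centre
  set Z₀ : Subgroup G := (Subgroup.center ↥Q).map Q.subtype with hZ₀
  have hZ₀Q : Z₀ ≤ Q := by
    rintro _ ⟨c, -, rfl⟩
    exact c.2
  have hZ₀mem : ∀ z : G, z ∈ Z₀ ↔ ∃ hz : z ∈ Q, (⟨z, hz⟩ : Q) ∈ Subgroup.center ↥Q := by
    intro z
    constructor
    · rintro ⟨c, hc, rfl⟩
      exact ⟨c.2, hc⟩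
    · rintro ⟨hz, hc⟩
      exact ⟨⟨z, hz⟩, hc, rfl⟩
  have hZ₀card : Nat.card Z₀ = q := by
    rw [hZ₀, Subgroup.card_map_of_injective Q.subtype_injective]
    exact hQ.2
  have hZ₀Qc : ∀ z ∈ Z₀, ∀ u ∈ Q, z * u = u * z := by
    intro z hz u hu
    obtain ⟨hzQ, hc⟩ := (hZ₀mem z).mp hz
    have h1 := Subgroup.mem_center_iff.mp hc ⟨u, hu⟩
    have h2 := congrArg (Subtype.val : Q → G) h1
    simpa using h2.symm
  have hZ₀x : ∀ z ∈ Z₀, z * x = x * z := by
    intro z hz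
    rw [← hCQ] at hz
    have h1 := (Subgroup.mem_inf.mp hz).2
    rw [Subgroup.mem_centralizer_iff] at h1
    exact (h1 x hxX).symm
  have hcomm : commutator ↥Q = Subgroup.center ↥Q := hQ.1.2.2
  have hQZ₀ : ∀ u ∈ Q, ∀ v ∈ Q, u * v * u⁻¹ * v⁻¹ ∈ Z₀ := by
    intro u hu v hv
    rw [hZ₀mem]
    refine ⟨Q.mul_mem (Q.mul_mem (Q.mul_mem hu hv) (Q.inv_mem hu)) (Q.inv_mem hv), ?_⟩
    rw [← hcomm]
    exact Subgroup.commutator_mem_commutator (Subgroup.mem_top (⟨u, hu⟩ : Q))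
      (Subgroup.mem_top (⟨v, hv⟩ : Q))
  -- `Q` is not abelian
  have hQne : ∃ u ∈ Q, u ∉ Z₀ := by
    by_contra hcon
    push Not at hcon
    have h1 : Subgroup.center ↥Q = ⊤ := by
      rw [eq_top_iff]
      intro u _
      obtain ⟨_, hc⟩ := (hZ₀mem _).mp (hcon u.1 u.2)
      exact hc
    have h2 : commutator ↥Q = ⊥ := by
      rw [commutator_def, Subgroup.commutator_eq_bot_iff_le_centralizer, Subgroup.coe_top,
        Subgroup.centralizer_univ, h1]
    rw [hcomm, h1] at h2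
    have h3 : Nat.card (Subgroup.center ↥Q) = 1 := by
      rw [h1, h2, Subgroup.card_bot]
    rw [hQ.2] at h3
    exact hq.one_lt.ne' h3
  -- a generator of the centre
  obtain ⟨z₀, hz₀Z, hz₀1⟩ : ∃ z ∈ Z₀, z ≠ 1 := by
    have hnt : Nontrivial Z₀ := by
      rw [← Finite.one_lt_card_iff_nontrivial, hZ₀card]
      exact hq.one_lt
    obtain ⟨y, hy⟩ := exists_ne (1 : Z₀)
    exact ⟨y.1, y.2, fun h => hy (Subtype.ext h)⟩
  have hZ₀z : ∀ y ∈ Z₀, y ≠ 1 → ∃ i : ℕ, z₀ = y ^ i := by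
    intro y hy hy1
    have h1 : Subgroup.zpowers (⟨y, hy⟩ : Z₀) = ⊤ :=
      zpowers_eq_top_of_prime_card hZ₀card (fun h => hy1 (congrArg Subtype.val h))
    have h2 : (⟨z₀, hz₀Z⟩ : Z₀) ∈ Subgroup.zpowers (⟨y, hy⟩ : Z₀) := by rw [h1]; trivial
    obtain ⟨i, hi⟩ := (mem_powers_iff_mem_zpowers.mpr h2)
    refine ⟨i, ?_⟩
    have := congrArg (Subtype.val : Z₀ → G) hi
    simpa using this.symm
  have hZ₀q : ∀ z ∈ Z₀, z ^ q = 1 := by
    intro z hz
    have h1 : (⟨z, hz⟩ : Z₀) ^ q = 1 := by rw [← hZ₀card]; exact pow_card_eq_one'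
    have := congrArg (Subtype.val : Z₀ → G) h1
    simpa using this
  -- the groups inside `K`
  set Qk : Subgroup K := Q.subgroupOf K with hQk
  haveI hQkn : Qk.Normal := Subgroup.normal_subgroupOf_sup_of_le_normalizer hXQ
  set Zk : Subgroup K := Z₀.subgroupOf K with hZk
  let xk : K := ⟨x, hXK hxX⟩
  have hxkr : xk ^ r = 1 := Subtype.ext (by simpa using hxr)
  have hgen : ∀ g : K, ∃ j : ℕ, ∃ n ∈ Qk, g = xk ^ j * n := by
    intro g
    have hg : (g : G) ∈ X ⊔ Q := g.2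
    haveI : (Q.subgroupOf (Subgroup.normalizer (Q : Set G))).Normal :=
      Subgroup.normal_in_normalizer
    -- use the product decomposition inside `K`
    have htop : (X.subgroupOf K) ⊔ Qk = ⊤ := by
      rw [hQk, ← Subgroup.subgroupOf_sup hXK hQK]
      exact Subgroup.subgroupOf_self K
    have hg' : g ∈ (X.subgroupOf K) ⊔ Qk := by rw [htop]; trivial
    obtain ⟨y, hy, n, hn, hyn⟩ := Subgroup.mem_sup_of_normal_right.mp hg'
    obtain ⟨i, hi⟩ := hXx (y : G) (Subgroup.mem_subgroupOf.mp hy)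
    refine ⟨i, n, hn, ?_⟩
    rw [← hyn]
    congr 1
    apply Subtype.ext
    simpa using hi
  have hZkc : ∀ z ∈ Zk, ∀ g : K, z * g = g * z := by
    intro z hz g
    have hzZ : (z : G) ∈ Z₀ := Subgroup.mem_subgroupOf.mp hz
    obtain ⟨j, n, hn, rfl⟩ := hgen g
    have hnQ : (n : G) ∈ Q := Subgroup.mem_subgroupOf.mp hn
    apply Subtype.ext
    have h1 : (z : G) * x ^ j = x ^ j * z := by
      have h2 : Commute (z : G) x := hZ₀x z hzZ
      exact (h2.pow_right j).eq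
    have h2 := hZ₀Qc z hzZ n hnQ
    simp only [Subgroup.coe_mul, SubmonoidClass.coe_pow, xk]
    rw [← mul_assoc, h1, mul_assoc, h2, mul_assoc]
  -- the representation
  set ρ₀ := conjRep (ℓ := p) K V hKV with hρ₀
  have hQpow : ∃ e : ℕ, Nat.card Q = q ^ e := (IsPGroup.iff_card.mp hQ.1.1)
  obtain ⟨e, he⟩ := hQpow
  have hk : (Nat.card ↥K : k) ≠ 0 := by
    intro h
    have h1 : p ∣ Nat.card ↥K := (CharP.cast_eq_zero_iff k p _).mp h
    have h2 := h1.trans (card_sup_dvd X Q hXQ)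
    rw [hX, he] at h2
    rcases (Nat.Prime.dvd_mul hp).mp h2 with h3 | h3
    · exact hpr ((Nat.prime_dvd_prime_iff_eq hp hr).mp h3)
    · exact hpq ((Nat.prime_dvd_prime_iff_eq hp hq).mp (hp.dvd_of_dvd_pow h3))
  haveI : Module.Finite (ZMod p) (EA p ↥V) := Module.Finite.of_finite
  set ρ := bc k ρ₀ with hρ
  -- `x` has no fixed vectors
  have hfpf₀ : ∀ v : EA p ↥V, ρ₀ xk v = v → v = 0 := by
    intro v hv
    have h1 := (conjRep_eq_self_iff K V hKV xk v).mp hv
    have h2 : ((v.val : ↥V) : G) ∈ V ⊓ Subgroup.centralizer (X : Set G) := by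
      refine Subgroup.mem_inf.mpr ⟨v.val.2, ?_⟩
      rw [Subgroup.mem_centralizer_iff]
      intro y hy
      obtain ⟨i, rfl⟩ := hXx y hy
      have h3 : Commute x ((v.val : ↥V) : G) := h1
      exact (h3.pow_left i).eq
    rw [hCV, Subgroup.mem_bot] at h2
    apply EA.ext
    rw [EA.val_zero]
    exact Subtype.ext h2
  have hfpf : ∀ w, ρ xk w = w → w = 0 := fpf_bc k hk ρ₀ xk hfpf₀
  -- the central generator acts nontrivially
  let zk : K := ⟨z₀, hQK (hZ₀Q hz₀Z)⟩
  have hzkZ : zk ∈ Zk := Subgroup.mem_subgroupOf.mpr hz₀Z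
  have hρz : ρ zk ≠ 1 := by
    intro h
    have h1 : ρ₀ zk = 1 := by
      apply bc_injective k
      rw [LinearMap.baseChange_one]
      exact h
    have h2 := (conjRep_eq_one_iff K V hKV zk).mp h1
    have h3 : z₀ ∈ K ⊓ Subgroup.centralizer (V : Set G) :=
      Subgroup.mem_inf.mpr ⟨hQK (hZ₀Q hz₀Z), h2⟩
    rw [hfaith, Subgroup.mem_bot] at h3
    exact hz₀1 h3
  obtain ⟨μ, hμ1, hμ0⟩ := exists_eigen_ne_one (ρ zk) (isSemisimple_apply hk ρ zk) hρz
  have hUinv := inv_eigenspace_of_central ρ zk (hZkc zk hzkZ) μ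
  obtain ⟨W₁, hW₁inv, hW₁le, hirr⟩ := exists_irr_le ρ _ hUinv hμ0
  set ρ₁ := sub ρ W₁ hW₁inv with hρ₁
  have hnt₁ := hirr.1
  -- `zk` acts on `W₁` as the scalar `μ ≠ 1`
  have hρ₁z : ∀ w : W₁, ρ₁ zk w = μ • w := by
    intro w
    apply Subtype.ext
    rw [hρ₁, Cfsg.Agent.Lib.H19.ModRep.sub_apply]
    exact Module.End.mem_eigenspace_iff.mp (hW₁le w.2)
  have hρ₁z1 : ∀ i : ℕ, ρ₁ (zk ^ i) = 1 → μ ^ i = 1 := by
    intro i h
    obtain ⟨w, hw⟩ := exists_ne (0 : W₁)
    have h1 : ∀ j : ℕ, ρ₁ (zk ^ j) w = μ ^ j • w := by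
      intro j
      induction j with
      | zero => simp
      | succ j ih =>
        rw [pow_succ', map_mul, Module.End.mul_apply, ih, map_smul, hρ₁z, smul_smul, pow_succ]
    have h2 := h1 i
    rw [h, Module.End.one_apply] at h2
    have h3 : (1 - μ ^ i) • w = 0 := by
      have := _root_.sub_smul (1 : k) (μ ^ i) w
      rw [this, one_smul, ← h2, sub_self]
    rcases smul_eq_zero.mp h3 with h4 | h4
    · exact (sub_eq_zero.mp h4).symm
    · exact absurd h4 hw
  -- apply the core theorem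
  have hcore := extra_core (k := k) (Γ := ↥K) (W := ↥W₁) hk ρ₁ Qk Zk
    (fun z hz => Subgroup.mem_subgroupOf.mpr (hZ₀Q (Subgroup.mem_subgroupOf.mp hz)))
    xk hr hxkr hgen hZkc ?_ ?_ ?_ ?_ hirr ?_
  · -- arithmetic
    have hcQ : Nat.card Qk = Nat.card Q :=
      Nat.card_congr (Subgroup.subgroupOfEquivOfLe hQK).toEquiv
    have hcZ : Nat.card Zk = q := by
      rw [← hZ₀card]
      exact Nat.card_congr (Subgroup.subgroupOfEquivOfLe (hZ₀Q.trans hQK)).toEquiv
    rw [hcQ, hcZ, he] at hcore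
    have hne : q ^ e ≠ q := by
      intro h
      obtain ⟨u, hu, huZ⟩ := hQne
      apply huZ
      have h1 : Z₀ = Q := by
        apply Subgroup.eq_of_le_of_card_ge hZ₀Q
        rw [hZ₀card, he, h]
      rw [h1]
      exact hu
    rw [he]
    exact arith hq hr hcore hne
  · -- commutators
    intro u hu v hv
    exact Subgroup.mem_subgroupOf.mpr
      (by simpa using hQZ₀ u (Subgroup.mem_subgroupOf.mp hu) v (Subgroup.mem_subgroupOf.mp hv))
  · -- freeness
    intro u hu hz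
    have huQ : (u : G) ∈ Q := Subgroup.mem_subgroupOf.mp hu
    have hzZ : x * (u : G) * x⁻¹ * (u : G)⁻¹ ∈ Z₀ := by
      have := Subgroup.mem_subgroupOf.mp hz
      simpa [xk] using this
    set z := x * (u : G) * x⁻¹ * (u : G)⁻¹ with hzdef
    have h1 : x * (u : G) * x⁻¹ = z * u := by rw [hzdef]; group
    have h2 : ∀ j : ℕ, x ^ j * (u : G) * (x ^ j)⁻¹ = z ^ j * u := by
      intro j
      induction j with
      | zero => simp
      | succ j ih =>
        have hzx : Commute z x := hZ₀x z hzZ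
        calc x ^ (j + 1) * (u : G) * (x ^ (j + 1))⁻¹
            = x * (x ^ j * (u : G) * (x ^ j)⁻¹) * x⁻¹ := by rw [pow_succ']; group
          _ = x * (z ^ j * u) * x⁻¹ := by rw [ih]
          _ = z ^ j * (x * (u : G) * x⁻¹) := by
            have h3 : x * z ^ j = z ^ j * x := ((hzx.pow_left j).eq).symm
            calc x * (z ^ j * u) * x⁻¹ = (x * z ^ j) * u * x⁻¹ := by group
              _ = (z ^ j * x) * u * x⁻¹ := by rw [h3]
              _ = z ^ j * (x * (u : G) * x⁻¹) := by group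
          _ = z ^ (j + 1) * u := by rw [h1, ← mul_assoc, ← pow_succ]
    have h3 := h2 r
    rw [hxr, inv_one, mul_one, one_mul] at h3
    have h4 : z ^ r = 1 := by
      have : z ^ r * (u : G) = 1 * u := by rw [← h3, one_mul]
      exact mul_right_cancel this
    have h5 : z = 1 := by
      have h6 := hZ₀q z hzZ
      have hcop : Nat.Coprime q r := (Nat.coprime_primes hq hr).mpr hqr
      have h7 : orderOf z ∣ Nat.gcd q r :=
        Nat.dvd_gcd (orderOf_dvd_of_pow_eq_one h6) (orderOf_dvd_of_pow_eq_one h4)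
      rw [hcop] at h7
      exact orderOf_eq_one_iff.mp (Nat.dvd_one.mp h7)
    have h6 : x * (u : G) = u * x := by
      have : x * (u : G) * x⁻¹ = u := by rw [h1, h5, one_mul]
      calc x * (u : G) = (x * (u : G) * x⁻¹) * x := by group
        _ = u * x := by rw [this]
    have h7 : (u : G) ∈ Q ⊓ Subgroup.centralizer (X : Set G) := by
      refine Subgroup.mem_inf.mpr ⟨huQ, ?_⟩
      rw [Subgroup.mem_centralizer_iff]
      intro y hy
      obtain ⟨i, rfl⟩ := hXx y hy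
      have h8 : Commute x (u : G) := h6
      exact (h8.pow_left i).eq
    rw [hCQ] at h7
    exact Subgroup.mem_subgroupOf.mpr h7
  · -- nondegeneracy
    intro u hu hcomm'
    by_contra huZ
    have huQ : (u : G) ∈ Q := Subgroup.mem_subgroupOf.mp hu
    have huZ' : (u : G) ∉ Z₀ := fun h => huZ (Subgroup.mem_subgroupOf.mpr h)
    -- `u` is not central in `Q`
    have hnc : ∃ v ∈ Q, v * (u : G) * v⁻¹ * (u : G)⁻¹ ≠ 1 := by
      by_contra hcon
      push Not at hcon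
      apply huZ'
      rw [hZ₀mem]
      refine ⟨huQ, ?_⟩
      rw [Subgroup.mem_center_iff]
      intro v
      apply Subtype.ext
      have h1 := hcon v.1 v.2
      have h2 : (v : G) * u = u * v := by
        calc (v : G) * u = ((v : G) * u * (v : G)⁻¹ * (u : G)⁻¹) * (u * v) := by group
          _ = u * v := by rw [h1, one_mul]
      simpa using h2
    obtain ⟨v, hvQ, hvu⟩ := hnc
    set c := v * (u : G) * v⁻¹ * (u : G)⁻¹ with hc
    have hcZ : c ∈ Z₀ := hQZ₀ v hvQ u huQ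
    obtain ⟨i, hi⟩ := hZ₀z c hcZ hvu
    let vk : K := ⟨v, hQK hvQ⟩
    have hvk : vk ∈ Qk := Subgroup.mem_subgroupOf.mpr hvQ
    let ck : K := vk * u * vk⁻¹ * u⁻¹
    have hck1 : ρ₁ ck = 1 := by
      have h1 := hcomm' vk hvk
      show ρ₁ (vk * u * vk⁻¹ * u⁻¹) = 1
      rw [map_mul, map_mul, map_mul, h1, mul_assoc (ρ₁ u), ← map_mul, mul_inv_cancel, map_one,
        mul_one, ← map_mul, mul_inv_cancel, map_one]
    have hzk : zk = ck ^ i := by
      apply Subtype.ext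
      simp only [zk, ck, vk, SubmonoidClass.coe_pow, Subgroup.coe_mul, InvMemClass.coe_inv]
      exact hi
    have h2 : ρ₁ (zk ^ 1) = 1 := by
      rw [pow_one, hzk, map_pow, hck1, one_pow]
    have h3 := hρ₁z1 1 h2
    rw [pow_one] at h3
    exact hμ1 h3
  · -- `Q ≠ Z`
    obtain ⟨u, hu, huZ⟩ := hQne
    exact ⟨⟨u, hQK hu⟩, Subgroup.mem_subgroupOf.mpr hu,
      fun h => huZ (Subgroup.mem_subgroupOf.mp h)⟩
  · -- fixed-point-freeness on `W₁`
    intro w hw
    have h1 : ρ xk (w : k ⊗[ZMod p] EA p ↥V) = w :=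
      congrArg (Subtype.val : W₁ → k ⊗[ZMod p] EA p ↥V) hw
    exact Subtype.ext (hfpf _ h1)

/-- Let p, q, r be distinct primes and let X, Q, V be subgroups of a finite group with X of order r, Q an extraspecial q-group normalized by X with C_Q(X) = Z(Q), and V an elementary abelian p-group normalized by X and Q on which XQ acts faithfully ((X ⊔ Q) ∩ C(V) = 1). If C_V(X) = 1, then q = 2, r = 2^n + 1 for some n, and Q has order 2^(2n+1). -/
theorem result {G : Type*} [Group G] [Finite G] {p q r : ℕ} (hp : p.Prime) (hq : q.Prime) (hr : r.Prime) (hpq : p ≠ q) (hpr : p ≠ r) (hqr : q ≠ r) (X Q V : Subgroup G) (hX : Nat.card X = r) (hQ : Cfsg.IsExtraspecial q ↥Q) (hXQ : X ≤ Subgroup.normalizer (Q : Set G)) (hCQ : Q ⊓ Subgroup.centralizer (X : Set G) = (Subgroup.center ↥Q).map Q.subtype) (hV : Cfsg.IsElementaryAbelian p V) (hXV : X ≤ Subgroup.normalizer (V : Set G)) (hQV : Q ≤ Subgroup.normalizer (V : Set G)) (hfaith : (X ⊔ Q) ⊓ Subgroup.centralizer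 (V : Set G) = ⊥) (hCV : V ⊓ Subgroup.centralizer (X : Set G) = ⊥) : q = 2 ∧ ∃ n : ℕ, r = 2 ^ n + 1 ∧ Nat.card Q = 2 ^ (2 * n + 1) := by
  haveI : Fact p.Prime := ⟨hp⟩
  exact core_k (AlgebraicClosure (ZMod p)) hp hq hr hpq hpr hqr X Q V hX hQ hXQ hCQ hV hXV hQV hfaith hCV

end Cfsg.Agent.S3764
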