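import Cfsg.Statements.S3765
import Cfsg.Agent.Lib.H19.ModRepPrime

set_option autoImplicit false
open Cfsg

namespace Cfsg.Agent.S3765

open Cfsg.Agent.Lib.H19.ModRep Cfsg.Agent.Lib.H1.QuadMul
open scoped TensorProduct

/-- the main computation, over an arbitrary algebraically closed field of characteristic `p` -/
theorem core_k {G : Type*} [Group G] [Finite G] {p q r : ℕ} [Fact p.Prime] (k : Type*) [Field k]
    [Algebra (ZMod p) k] [IsAlgClosed k] [CharP k p]
    (hp : p.Prime) (hq : q.Prime) (hr : r.Prime) (hpq : p ≠ q) (hpr : p ≠ r) (hqr : q ≠ r) (X Q V : Subgroup G) (hX : Nat.card X = r) (hQ : IsPGroup q Q) (hXQ : X ≤ Subgroup.normalizer (Q : Set G)) (hXfaith : X ⊓ Subgroup.centralizer (Q : Set G) = ⊥) (hV : Cfsg.IsElementaryAbelian p V) (hXV : X ≤ Subgroup.normalizer (V : Set G)) (hQV : Q ≤ Subgroup.normalizer (V : Set G)) (hfaith : (X ⊔ Q) ⊓ Subgroup.centralizer (V : Set G) = ⊥) (hexc : q = 2 → (∃ n : ℕ, r = 2 ^ n + 1) → IsMulCommutative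 Q) : V ⊓ Subgroup.centralizer (X : Set G) ≠ ⊥ := by
  classical
  intro hCV
  haveI : Fact q.Prime := ⟨hq⟩
  haveI : Fact r.Prime := ⟨hr⟩
  haveI : IsEA p ↥V := isEA_of hV
  set K : Subgroup G := X ⊔ Q with hK
  have hXK : X ≤ K := le_sup_left
  have hQK : Q ≤ K := le_sup_right
  have hKV : K ≤ Subgroup.normalizer (V : Set G) := sup_le hXV hQV
  -- a generator of `X`
  obtain ⟨x, hxX, hx1⟩ : ∃ x ∈ X, x ≠ 1 := by
    have hnt : Nontrivial X := by
      rw [← Finite.one_lt_card_iff_nontrivial, hX]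
      exact hr.one_lt
    obtain ⟨y, hy⟩ := exists_ne (1 : X)
    exact ⟨y.1, y.2, fun h => hy (Subtype.ext h)⟩
  have hXx : ∀ y ∈ X, ∃ i : ℕ, y = x ^ i := by
    intro y hy
    have h1 : Subgroup.zpowers (⟨x, hxX⟩ : X) = ⊤ :=
      zpowers_eq_top_of_prime_card hX (fun h => hx1 (congrArg Subtype.val h))
    have h2 : (⟨y, hy⟩ : X) ∈ Subgroup.zpowers (⟨x, hxX⟩ : X) := by rw [h1]; trivial
    obtain ⟨i, hi⟩ := (mem_powers_iff_mem_zpowers.mpr h2)
    refine ⟨i, ?_⟩
    have := congrArg (Subtype.val : X → G) hi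
    simpa using this.symm
  have hxr : x ^ r = 1 := by
    have h1 : (⟨x, hxX⟩ : X) ^ r = 1 := by rw [← hX]; exact pow_card_eq_one'
    have := congrArg (Subtype.val : X → G) h1
    simpa using this
  -- the groups inside `K`
  set Qk : Subgroup K := Q.subgroupOf K with hQk
  let xk : K := ⟨x, hXK hxX⟩
  have hxkr : xk ^ r = 1 := Subtype.ext (by simpa using hxr)
  -- the representation
  set ρ₀ := conjRep (ℓ := p) K V hKV with hρ₀
  obtain ⟨e, he⟩ := IsPGroup.iff_card.mp hQ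
  have hk : (Nat.card ↥K : k) ≠ 0 := by
    intro h
    have h1 : p ∣ Nat.card ↥K := (CharP.cast_eq_zero_iff k p _).mp h
    have h2 := h1.trans (card_sup_dvd X Q hXQ)
    rw [hX, he] at h2
    rcases (Nat.Prime.dvd_mul hp).mp h2 with h3 | h3
    · exact hpr ((Nat.prime_dvd_prime_iff_eq hp hr).mp h3)
    · exact hpq ((Nat.prime_dvd_prime_iff_eq hp hq).mp (hp.dvd_of_dvd_pow h3))
  haveI : Module.Finite (ZMod p) (EA p ↥V) := Module.Finite.of_finite
  set ρ := bc k ρ₀ with hρ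
  -- `x` has no fixed vectors
  have hfpf₀ : ∀ v : EA p ↥V, ρ₀ xk v = v → v = 0 := by
    intro v hv
    have h1 := (conjRep_eq_self_iff K V hKV xk v).mp hv
    have h2 : ((v.val : ↥V) : G) ∈ V ⊓ Subgroup.centralizer (X : Set G) := by
      refine Subgroup.mem_inf.mpr ⟨v.val.2, ?_⟩
      rw [Subgroup.mem_centralizer_iff]
      intro y hy
      obtain ⟨i, rfl⟩ := hXx y hy
      have h3 : Commute x ((v.val : ↥V) : G) := h1
      exact (h3.pow_left i).eq
    rw [hCV, Subgroup.mem_bot] at h2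
    apply EA.ext
    rw [EA.val_zero]
    exact Subtype.ext h2
  have hfpf : ∀ w, ρ xk w = w → w = 0 := fpf_bc k hk ρ₀ xk hfpf₀
  -- faithfulness
  have hρfaith : ∀ g : K, ρ g = 1 → g = 1 := by
    intro g h
    have h1 : ρ₀ g = 1 := by
      apply bc_injective k
      rw [LinearMap.baseChange_one]
      exact h
    have h2 := (conjRep_eq_one_iff K V hKV g).mp h1
    have h3 : (g : G) ∈ K ⊓ Subgroup.centralizer (V : Set G) := Subgroup.mem_inf.mpr ⟨g.2, h2⟩
    rw [hfaith, Subgroup.mem_bot] at h3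
    exact Subtype.ext h3
  -- `x` does not centralize `Q`
  have hnc : ∃ u ∈ Qk, xk * u ≠ u * xk := by
    by_contra hcon
    push Not at hcon
    apply hx1
    have h1 : x ∈ X ⊓ Subgroup.centralizer (Q : Set G) := by
      refine Subgroup.mem_inf.mpr ⟨hxX, ?_⟩
      rw [Subgroup.mem_centralizer_iff]
      intro u hu
      have h2 := hcon ⟨u, hQK hu⟩ (Subgroup.mem_subgroupOf.mpr hu)
      have h3 := congrArg (Subtype.val : K → G) h2
      simpa [xk] using h3.symm
    rw [hXfaith, Subgroup.mem_bot] at h1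
    exact h1
  have hxQk : ∀ u ∈ Qk, xk * u * xk⁻¹ ∈ Qk := by
    intro u hu
    have huQ : (u : G) ∈ Q := Subgroup.mem_subgroupOf.mp hu
    apply Subgroup.mem_subgroupOf.mpr
    have := (Subgroup.mem_normalizer_iff.mp (hXQ hxX) (u : G)).mp huQ
    simpa [xk] using this
  have hQkq : IsPGroup q Qk := hQ.comap_subtype
  obtain ⟨h2, hF, u, hu, v, hv, huv⟩ :=
    prime_action_core (k := k) (Γ := ↥K) (W := k ⊗[ZMod p] EA p ↥V) hk ρ hρfaith hq hr hqr xk hxkr
      hfpf _ Qk rfl hQkq hxQk hnc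
  have hcomm := hexc h2 hF
  apply huv
  have h1 := hcomm.is_comm.comm (⟨u, Subgroup.mem_subgroupOf.mp hu⟩ : Q)
    ⟨v, Subgroup.mem_subgroupOf.mp hv⟩
  have h3 := congrArg (Subtype.val : Q → G) h1
  apply Subtype.ext
  simpa using h3

/-- Let p, q, r be distinct primes and let X, Q, V be subgroups of a finite group with X of order r normalizing the q-group Q and acting faithfully on it (X ∩ C(Q) = 1), and V a nontrivial elementary abelian p-group normalized by X and Q on which XQ acts faithfully. If q = 2 and r has the form 2^n + 1, assume in addition that Q is abelian. Then C_V(X) ≠ 1. -/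
theorem result {G : Type*} [Group G] [Finite G] {p q r : ℕ} (hp : p.Prime) (hq : q.Prime) (hr : r.Prime) (hpq : p ≠ q) (hpr : p ≠ r) (hqr : q ≠ r) (X Q V : Subgroup G) (hX : Nat.card X = r) (hQ : IsPGroup q Q) (hXQ : X ≤ Subgroup.normalizer (Q : Set G)) (hXfaith : X ⊓ Subgroup.centralizer (Q : Set G) = ⊥) (hV : Cfsg.IsElementaryAbelian p V) (hV1 : V ≠ ⊥) (hXV : X ≤ Subgroup.normalizer (V : Set G)) (hQV : Q ≤ Subgroup.normalizer (V : Set G)) (hfaith : (X ⊔ Q) ⊓ Subgroup.centralizer (V : Set G) = ⊥) (hexc : q = 2 → (∃ n : ℕ, r = 2 ^ n + 1) → IsMulCommutative Q) : V ⊓ Subgroup.centralizer (X : Set G) ≠ ⊥ := by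
  haveI : Fact p.Prime := ⟨hp⟩
  exact core_k (AlgebraicClosure (ZMod p)) hp hq hr hpq hpr hqr X Q V hX hQ hXQ hXfaith hV hXV hQV
    hfaith hexc

end Cfsg.Agent.S3765
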