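import Cfsg.Statements.S3766
import Mathlib
import Cfsg.Agent.Lib.H19.FittingCrit
import Cfsg.Agent.Lib.H1.CoprimeAction
import Cfsg.Agent.Lib.H1.Fitting
import Cfsg.Agent.Lib.H1.PCore

set_option autoImplicit false
open Cfsg

namespace Cfsg.Agent.S3766

open Cfsg.Agent.Lib.H1 Cfsg.Agent.Lib.H19
open scoped commutatorElement

variable {G : Type*} [Group G]

/-- a nilpotent normal subgroup centralizes every chief factor -/
theorem commutator_le_of_nilpotent_normal {F U V : Subgroup G} (hFn : F.Normal)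
    (hFnil : Group.IsNilpotent F) (hUn : U.Normal) (hVn : V.Normal) (hVU : V < U)
    (hmin : ∀ W : Subgroup G, W.Normal → V ≤ W → W ≤ U → W = V ∨ W = U) : ⁅U, F⁆ ≤ V := by
  by_contra hne
  have hUeq : U = V ⊔ ⁅U, F⁆ := by
    have hW : (V ⊔ ⁅U, F⁆).Normal := inferInstance
    rcases hmin _ hW le_sup_left (sup_le hVU.le (Subgroup.commutator_le_left U F)) with h | h
    · exfalso; apply hne; rw [← h]; exact le_sup_right
    · exact h.symm
  have key : ∀ k : ℕ, ∃ T : Subgroup G, T.Normal ∧ T ≤ F.lowerCentralSeries k ∧ U ≤ V ⊔ T := by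
    intro k
    induction k with
    | zero =>
      exact ⟨⁅U, F⁆, inferInstance, by
        rw [Subgroup.lowerCentralSeries_zero]; exact Subgroup.commutator_le_right U F, hUeq.le⟩
    | succ k ih =>
      obtain ⟨T, hTn, hTL, hUT⟩ := ih
      refine ⟨⁅T, F⁆, inferInstance, ?_, ?_⟩
      · rw [Subgroup.lowerCentralSeries_succ]; exact Subgroup.commutator_mono hTL le_rfl
      · have h1 : ⁅U, F⁆ ≤ V ⊔ ⁅T, F⁆ := by
          refine (Subgroup.commutator_mono hUT le_rfl).trans ?_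
          rw [Subgroup.commutator_le]
          intro x hx f hf
          obtain ⟨v, hv, t, ht, rfl⟩ := Subgroup.mem_sup_of_normal_right.1 hx
          have e : ⁅v * t, f⁆ = (v * ⁅t, f⁆ * v⁻¹) * (v * (f * v⁻¹ * f⁻¹)) := by
            simp only [commutatorElement_def]; group
          rw [e]
          have hTFn : (⁅T, F⁆ : Subgroup G).Normal := inferInstance
          have h2 : v * (f * v⁻¹ * f⁻¹) ∈ V := V.mul_mem hv (hVn.conj_mem _ (V.inv_mem hv) f)
          have h3 : v * ⁅t, f⁆ * v⁻¹ ∈ ⁅T, F⁆ :=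
            hTFn.conj_mem _ (Subgroup.commutator_mem_commutator ht hf) v
          exact (V ⊔ ⁅T, F⁆).mul_mem ((le_sup_right : ⁅T, F⁆ ≤ V ⊔ ⁅T, F⁆) h3)
            ((le_sup_left : V ≤ V ⊔ ⁅T, F⁆) h2)
        calc U = V ⊔ ⁅U, F⁆ := hUeq
          _ ≤ V ⊔ ⁅T, F⁆ := sup_le le_sup_left h1
  obtain ⟨c, hc⟩ := (Subgroup.isNilpotent_iff_lowerCentralSeries F).1 hFnil
  obtain ⟨T, -, hTL, hUT⟩ := key c
  rw [hc, le_bot_iff] at hTL
  rw [hTL, sup_bot_eq] at hUT
  exact (not_le_of_gt hVU) hUT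

/-- the subgroup of elements of `N` centralizing all chief factors below `F` -/
def centFactors (N F : Subgroup G) : Subgroup G where
  carrier := {g | g ∈ N ∧ ∀ U V : Subgroup G, U.Normal → V.Normal → V < U →
    (∀ W : Subgroup G, W.Normal → V ≤ W → W ≤ U → W = V ∨ W = U) → U ≤ F →
    ∀ u ∈ U, u * g * u⁻¹ * g⁻¹ ∈ V}
  one_mem' := ⟨N.one_mem, fun U V _ _ _ _ _ u _ => by
    have : u * 1 * u⁻¹ * 1⁻¹ = 1 := by group
    rw [this]; exact V.one_mem⟩
  mul_mem' := by
    rintro a b ⟨haN, ha⟩ ⟨hbN, hb⟩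
    refine ⟨N.mul_mem haN hbN, fun U V hU hV hVU hmin hUF u hu => ?_⟩
    have e : u * (a * b) * u⁻¹ * (a * b)⁻¹ =
        (u * a * u⁻¹ * a⁻¹) * (a * (u * b * u⁻¹ * b⁻¹) * a⁻¹) := by group
    rw [e]
    exact V.mul_mem (ha U V hU hV hVU hmin hUF u hu)
      (hV.conj_mem _ (hb U V hU hV hVU hmin hUF u hu) a)
  inv_mem' := by
    rintro a ⟨haN, ha⟩
    refine ⟨N.inv_mem haN, fun U V hU hV hVU hmin hUF u hu => ?_⟩
    have e : u * a⁻¹ * u⁻¹ * a⁻¹⁻¹ = a⁻¹ * (u * a * u⁻¹ * a⁻¹)⁻¹ * a⁻¹⁻¹ := by group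
    rw [e]
    exact hV.conj_mem _ (V.inv_mem (ha U V hU hV hVU hmin hUF u hu)) a⁻¹

theorem centFactors_normal (N F : Subgroup G) [hN : N.Normal] : (centFactors N F).Normal := by
  refine ⟨?_⟩
  rintro g ⟨hgN, hg⟩ x
  refine ⟨hN.conj_mem g hgN x, fun U V hU hV hVU hmin hUF u hu => ?_⟩
  have e : u * (x * g * x⁻¹) * u⁻¹ * (x * g * x⁻¹)⁻¹ =
      x * ((x⁻¹ * u * x⁻¹⁻¹) * g * (x⁻¹ * u * x⁻¹⁻¹)⁻¹ * g⁻¹) * x⁻¹ := by group
  rw [e]
  exact hV.conj_mem _ (hg U V hU hV hVU hmin hUF _ (hU.conj_mem u hu x⁻¹)) x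

/-- a `p'`-element centralizing all chief factors below the normal `p`-subgroup `P`
centralizes `P` -/
theorem centralizes_of_centralizes_factors [Finite G] {p : ℕ} [hp : Fact p.Prime]
    {P : Subgroup G} (hPn : P.Normal) (hP : IsPGroup p P) {C₀ : Subgroup G}
    (hC₀ : ∀ c ∈ C₀, ∀ U V : Subgroup G, U.Normal → V.Normal → V < U →
      (∀ W : Subgroup G, W.Normal → V ≤ W → W ≤ U → W = V ∨ W = U) → U ≤ P →
      ∀ u ∈ U, u * c * u⁻¹ * c⁻¹ ∈ V)
    {x : G} (hx : x ∈ C₀) (hxp : (orderOf x).Coprime p) : ∀ z ∈ P, x * z = z * x := by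
  let S : Set (Subgroup G) := {U | U.Normal ∧ U ≤ P ∧ ∀ u ∈ U, x * u = u * x}
  have hSne : S.Nonempty := ⟨⊥, inferInstance, bot_le, fun u hu => by
    rw [Subgroup.mem_bot] at hu; rw [hu, mul_one, one_mul]⟩
  obtain ⟨U, ⟨hUn, hUP, hUx⟩, hUmax⟩ := wellFounded_gt.has_min S hSne
  by_cases hUeq : U = P
  · rw [← hUeq]; exact hUx
  exfalso
  have hUlt : U < P := lt_of_le_of_ne hUP hUeq
  let S' : Set (Subgroup G) := {W | W.Normal ∧ U < W ∧ W ≤ P}
  have hS'ne : S'.Nonempty := ⟨P, hPn, hUlt, le_rfl⟩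
  obtain ⟨W, ⟨hWn, hUW, hWP⟩, hWmin⟩ := wellFounded_lt.has_min S' hS'ne
  have hCFmin : ∀ W' : Subgroup G, W'.Normal → U ≤ W' → W' ≤ W → W' = U ∨ W' = W := by
    intro W' hW'n hUW' hW'W
    by_cases h : W' = U
    · exact Or.inl h
    · right
      have hlt : U < W' := lt_of_le_of_ne hUW' (Ne.symm h)
      by_contra hne
      exact hWmin W' ⟨hW'n, hlt, hW'W.trans hWP⟩ (lt_of_le_of_ne hW'W hne)
  set A := Subgroup.zpowers x with hA
  have hWp : IsPGroup p W := hP.to_le hWP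
  obtain ⟨j, hj⟩ := hWp.exists_card_eq
  have hWsolv : Group.IsSolvable W := by
    have : Group.IsNilpotent W := hWp.isNilpotent
    infer_instance
  have hcA : CoprimeAction A W := by
    refine ⟨?_, ?_, Or.inr hWsolv⟩
    · rw [Subgroup.normalizer_eq_top_iff.2 hWn]; exact le_top
    · rw [hA, Nat.card_zpowers, hj]; exact Nat.Coprime.pow_right j hxp
  have h1 : ⁅W, A⁆ ≤ U := by
    rw [Subgroup.commutator_le]
    intro w hw a ha
    have haC : a ∈ C₀ := (Subgroup.zpowers_le.2 hx) ha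
    rw [commutatorElement_def]
    exact hC₀ a haC W U hWn hUn hUW hCFmin hWP w hw
  have h2 : ⁅U, A⁆ = ⊥ := by
    rw [eq_bot_iff, Subgroup.commutator_le]
    intro u hu a ha
    obtain ⟨k, rfl⟩ := Subgroup.mem_zpowers_iff.1 ha
    rw [Subgroup.mem_bot, commutatorElement_eq_one_iff_mul_comm]
    exact ((Commute.zpow_left (show Commute x u from hUx u hu) k).eq).symm
  have h3 : ⁅W, A⁆ = ⊥ := by
    rw [← coprime_commutator_commutator hcA, eq_bot_iff, ← h2]
    exact Subgroup.commutator_mono h1 le_rfl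
  have hWx : ∀ w ∈ W, x * w = w * x := by
    intro w hw
    have : ⁅w, x⁆ ∈ ⁅W, A⁆ := Subgroup.commutator_mem_commutator hw (Subgroup.mem_zpowers x)
    rw [h3, Subgroup.mem_bot, commutatorElement_eq_one_iff_mul_comm] at this
    exact this.symm
  exact hUmax W ⟨hWn, hWP, hWx⟩ hUW

theorem mem_fitting_of_centralizes [Finite G] (hG : Group.IsSolvable G) (N : Subgroup G)
    [hN : N.Normal] (g : G) (hgN : g ∈ N)
    (h : ∀ U V : Subgroup G, U.Normal → V.Normal → V < U →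
      (∀ W : Subgroup G, W.Normal → V ≤ W → W ≤ U → W = V ∨ W = U) →
      U ≤ (fittingSubgroup ↥N).map N.subtype → ∀ u ∈ U, u * g * u⁻¹ * g⁻¹ ∈ V) :
    g ∈ (fittingSubgroup ↥N).map N.subtype := by
  set F := (fittingSubgroup ↥N).map N.subtype with hF
  have hNsolv : Group.IsSolvable ↥N := inferInstance
  have hC₀n : (centFactors N F).Normal := centFactors_normal N F
  let C : Subgroup ↥N := (centFactors N F).subgroupOf N
  have hCn : C.Normal := inferInstance
  have hle := le_fittingSubgroup_of_coprime_centralizes hNsolv C hCn (by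
    intro p hp y hy hyp z hz
    set P := (pCore p ↥N).map N.subtype with hPdef
    have hPn : P.Normal := by
      have := pCore_characteristic p ↥N
      exact ConjAct.normal_of_characteristic_of_normal
    have hPp : IsPGroup p P := (pCore_isPGroup p ↥N).map _
    have hPF : P ≤ F :=
      Subgroup.map_mono (le_fittingSubgroup (pCore_normal p ↥N) (pCore_isPGroup p ↥N).isNilpotent)
    have := centralizes_of_centralizes_factors hPn hPp (C₀ := centFactors N F)
      (fun c hc U V hU hV hVU hmin hUP u hu => hc.2 U V hU hV hVU hmin (hUP.trans hPF) u hu)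
      (Subgroup.mem_subgroupOf.1 hy) (by rwa [Subgroup.orderOf_coe]) (z : G) ⟨z, hz, rfl⟩
    exact Subtype.ext this)
  have hmem : (⟨g, hgN⟩ : ↥N) ∈ C := Subgroup.mem_subgroupOf.2 ⟨hgN, h⟩
  exact ⟨⟨g, hgN⟩, hle hmem, rfl⟩

theorem centralizes_of_mem_fitting [Finite G] (N : Subgroup G) [hN : N.Normal] (g : G)
    (hg : g ∈ (fittingSubgroup ↥N).map N.subtype) (U V : Subgroup G) (hUn : U.Normal)
    (hVn : V.Normal) (hVU : V < U)
    (hmin : ∀ W : Subgroup G, W.Normal → V ≤ W → W ≤ U → W = V ∨ W = U) :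
    ∀ u ∈ U, u * g * u⁻¹ * g⁻¹ ∈ V := by
  set F := (fittingSubgroup ↥N).map N.subtype with hF
  have hFn : F.Normal := by
    have := Cfsg.Agent.Lib.H7.fittingSubgroup_characteristic (G := ↥N)
    exact ConjAct.normal_of_characteristic_of_normal
  have hFnil : Group.IsNilpotent F := by
    have h1 : Group.IsNilpotent (fittingSubgroup ↥N) := fittingSubgroup_isNilpotent
    exact Group.nilpotent_of_surjective
      ((N.subtype.subgroupMap (fittingSubgroup ↥N)))
      (MonoidHom.subgroupMap_surjective _ _)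
  have hle := commutator_le_of_nilpotent_normal hFn hFnil hUn hVn hVU hmin
  intro u hu
  have := hle (Subgroup.commutator_mem_commutator hu hg)
  rwa [commutatorElement_def] at this

/-- Let G be a finite solvable group and N a normal subgroup of G. Call a pair V < U of normal subgroups of G a chief factor of G when no normal subgroup of G lies strictly between them; an element g centralizes the chief factor U/V when u g u⁻¹ g⁻¹ ∈ V for all u ∈ U. Then an element of G lies in the Fitting subgroup F(N) if and only if it lies in N and centralizes every chief factor of G; and also if and only if it lies in N and centralizes every chief factor U/V of G with U ≤ F(N). -/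
theorem result {G : Type*} [Group G] [Finite G] (hG : Group.IsSolvable G) (N : Subgroup G) [N.Normal] (g : G) : (g ∈ (Cfsg.fittingSubgroup ↥N).map N.subtype ↔ g ∈ N ∧ ∀ U V : Subgroup G, (U.Normal ∧ V.Normal ∧ V < U ∧ ∀ W : Subgroup G, W.Normal → V ≤ W → W ≤ U → W = V ∨ W = U) → ∀ u ∈ U, u * g * u⁻¹ * g⁻¹ ∈ V) ∧ (g ∈ (Cfsg.fittingSubgroup ↥N).map N.subtype ↔ g ∈ N ∧ ∀ U V : Subgroup G, (U.Normal ∧ V.Normal ∧ V < U ∧ ∀ W : Subgroup G, W.Normal → V ≤ W → W ≤ U → W = V ∨ W = U) → U ≤ (Cfsg.fittingSubgroup ↥N).map N.subtype → ∀ u ∈ U, u * g * u⁻¹ * g⁻¹ ∈ V) := by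
  refine ⟨⟨fun h => ⟨Subgroup.map_subtype_le _ h, ?_⟩, ?_⟩, ⟨fun h => ⟨Subgroup.map_subtype_le _ h, ?_⟩, ?_⟩⟩
  · rintro U V ⟨hU, hV, hVU, hmin⟩
    exact centralizes_of_mem_fitting N g h U V hU hV hVU hmin
  · rintro ⟨hgN, h⟩
    exact mem_fitting_of_centralizes hG N g hgN
      (fun U V hU hV hVU hmin _ => h U V ⟨hU, hV, hVU, hmin⟩)
  · rintro U V ⟨hU, hV, hVU, hmin⟩ _
    exact centralizes_of_mem_fitting N g h U V hU hV hVU hmin
  · rintro ⟨hgN, h⟩
    exact mem_fitting_of_centralizes hG N g hgN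
      (fun U V hU hV hVU hmin hUF => h U V ⟨hU, hV, hVU, hmin⟩ hUF)

end Cfsg.Agent.S3766
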