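import Cfsg.Statements.S3767
import Cfsg.Agent.Lib.H19.ExtraFpf

set_option autoImplicit false
open Cfsg

namespace Cfsg.Agent.S3767

/-- Let P be an extraspecial p-group of order p^(2n+1) and H a cyclic group of order h prime to p acting on P (inside a common finite group: H normalizes P) so that C_P(x) = Z(P) for every non-identity x ∈ H. Then h divides p^n + 1 or h divides p^n − 1. -/
theorem result {G : Type*} [Group G] [Finite G] {p : ℕ} [Fact p.Prime] (P H : Subgroup G) (hP : Cfsg.IsExtraspecial p ↥P) (n : ℕ) (hn : Nat.card P = p ^ (2 * n + 1)) (hH : IsCyclic H) (hcop : (Nat.card H).Coprime p) (hHP : H ≤ Subgroup.normalizer (P : Set G)) (hfix : ∀ x ∈ H, x ≠ 1 → P ⊓ Subgroup.centralizer {x} = (Subgroup.center ↥P).map P.subtype) : Nat.card H ∣ p ^ n + 1 ∨ Nat.card H ∣ p ^ n - 1 := by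
  classical
  by_cases hH1 : H = ⊥
  · left
    rw [hH1, Subgroup.card_bot]
    exact one_dvd _
  have hp : p.Prime := Fact.out
  set K : Subgroup G := P ⊔ H with hK
  have hPK : P ≤ K := le_sup_left
  have hHK : H ≤ K := le_sup_right
  haveI : Fintype K := Fintype.ofFinite _
  set Z₀ : Subgroup G := (Subgroup.center ↥P).map P.subtype with hZ₀
  have hZ₀P : Z₀ ≤ P := by
    rintro _ ⟨c, -, rfl⟩
    exact c.2
  have hZ₀mem : ∀ z : G, z ∈ Z₀ ↔ ∃ hz : z ∈ P, (⟨z, hz⟩ : P) ∈ Subgroup.center ↥P := by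
    intro z
    constructor
    · rintro ⟨c, hc, rfl⟩
      exact ⟨c.2, hc⟩
    · rintro ⟨hz, hc⟩
      exact ⟨⟨z, hz⟩, hc, rfl⟩
  have hcomm : commutator ↥P = Subgroup.center ↥P := hP.1.2.2
  have hcardH : Nat.card (H.subgroupOf K) = Nat.card H :=
    Nat.card_congr (Subgroup.subgroupOfEquivOfLe hHK).toEquiv
  rw [← hcardH]
  apply Cfsg.Agent.Lib.H19.ExtraFpf.core hp (P.subgroupOf K) (H.subgroupOf K) (Z₀.subgroupOf K) n
  · rw [← hn]
    exact Nat.card_congr (Subgroup.subgroupOfEquivOfLe hPK).toEquiv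
  · rw [Nat.card_congr (Subgroup.subgroupOfEquivOfLe (hZ₀P.trans hPK)).toEquiv, hZ₀,
      Subgroup.card_map_of_injective P.subtype_injective]
    exact hP.2
  · intro z hz
    exact Subgroup.mem_subgroupOf.mpr (hZ₀P (Subgroup.mem_subgroupOf.mp hz))
  · intro z hz g hg
    obtain ⟨hzP, hc⟩ := (hZ₀mem _).mp (Subgroup.mem_subgroupOf.mp hz)
    have hgP : (g : G) ∈ P := Subgroup.mem_subgroupOf.mp hg
    have h1 := Subgroup.mem_center_iff.mp hc ⟨g, hgP⟩
    apply Subtype.ext
    have h2 := congrArg (Subtype.val : P → G) h1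
    simpa using h2.symm
  · intro g hg hgZ
    have hgP : (g : G) ∈ P := Subgroup.mem_subgroupOf.mp hg
    have hnc : (⟨g, hgP⟩ : P) ∉ Subgroup.center ↥P := by
      intro hc
      exact hgZ (Subgroup.mem_subgroupOf.mpr ((hZ₀mem _).mpr ⟨hgP, hc⟩))
    rw [Subgroup.mem_center_iff] at hnc
    push Not at hnc
    obtain ⟨h, hh⟩ := hnc
    have hmem : h * ⟨g, hgP⟩ * h⁻¹ * (⟨g, hgP⟩ : P)⁻¹ ∈ Subgroup.center ↥P := by
      rw [← hcomm]
      exact Subgroup.commutator_mem_commutator (Subgroup.mem_top h) (Subgroup.mem_top _)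
    refine ⟨⟨h, hPK h.2⟩, Subgroup.mem_subgroupOf.mpr h.2, ?_, ?_⟩
    · apply Subgroup.mem_subgroupOf.mpr
      apply (hZ₀mem _).mpr
      refine ⟨?_, ?_⟩
      · exact P.mul_mem (P.mul_mem (P.mul_mem h.2 hgP) (P.inv_mem h.2)) (P.inv_mem hgP)
      · exact hmem
    · intro h1
      apply hh
      have h2 : (h : G) * g * (h : G)⁻¹ * (g : G)⁻¹ = 1 := by
        have := congrArg (Subtype.val : K → G) h1
        simpa using this
      apply Subtype.ext
      have h3 : (h : G) * g = g * h := by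
        have : (h : G) * g = ((h : G) * g * (h : G)⁻¹ * (g : G)⁻¹) * (g * h) := by group
        rw [this, h2, one_mul]
      simpa using h3
  · intro s hs g hg
    have hsH : (s : G) ∈ H := Subgroup.mem_subgroupOf.mp hs
    have hgP : (g : G) ∈ P := Subgroup.mem_subgroupOf.mp hg
    apply Subgroup.mem_subgroupOf.mpr
    have := (Subgroup.mem_normalizer_iff.mp (hHP hsH) (g : G)).mp hgP
    simpa using this
  · rw [Nat.card_congr (Subgroup.subgroupOfEquivOfLe hPK).toEquiv, hcardH, hn]
    exact (Nat.Coprime.pow_right _ hcop).symm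
  · rw [← Subgroup.subgroupOf_sup hPK hHK]
    exact Subgroup.subgroupOf_self K
  · exact (Subgroup.subgroupOfEquivOfLe hHK).symm.isCyclic.mp hH
  · intro hb
    apply hH1
    rw [eq_bot_iff]
    intro x hx
    have h1 : (⟨x, hHK hx⟩ : K) ∈ H.subgroupOf K := Subgroup.mem_subgroupOf.mpr hx
    rw [hb, Subgroup.mem_bot] at h1
    rw [Subgroup.mem_bot]
    exact congrArg Subtype.val h1
  · intro x hx hx1
    have hxH : (x : G) ∈ H := Subgroup.mem_subgroupOf.mp hx
    have hx1' : (x : G) ≠ 1 := fun h => hx1 (Subtype.ext h)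
    have h0 := hfix x hxH hx1'
    ext g
    rw [Subgroup.mem_inf, Subgroup.mem_subgroupOf, Subgroup.mem_subgroupOf, ← h0,
      Subgroup.mem_inf, Subgroup.mem_centralizer_singleton_iff,
      Subgroup.mem_centralizer_singleton_iff]
    refine and_congr Iff.rfl ?_
    constructor
    · intro h
      have := congrArg (Subtype.val : K → G) h
      simpa using this
    · intro h
      apply Subtype.ext
      simpa using h

end Cfsg.Agent.S3767
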