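import Cfsg.Statements.S3768
import Cfsg.Agent.Lib.H18.FrobStructure

set_option autoImplicit false
open Cfsg

namespace Cfsg.Agent.S3768

open scoped Pointwise
open Cfsg.Agent.Lib.H18 Cfsg.Agent.Lib.H1

theorem result {G : Type*} [Group G] [Finite G] (R : Subgroup G) (hR : Cfsg.IsFrobeniusComplement R) (N : Subgroup G) [N.Normal] (hKN : ¬ Cfsg.frobeniusKernel R ⊆ N) : Cfsg.IsFrobeniusComplement (R.map (QuotientGroup.mk' N)) ∧ Cfsg.frobeniusKernel (R.map (QuotientGroup.mk' N)) = QuotientGroup.mk' N '' Cfsg.frobeniusKernel R := by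
  set K : Subgroup G := frobKer R hR with hK
  have hKn : K.Normal := frobKer_normal R hR
  have hN : N.Normal := inferInstance
  have hNK : N ≤ K := by
    rcases frob_normal_le_or_le hR N with h | h
    · exfalso
      apply hKN
      intro x hx
      exact h ((mem_frobKer hR).mpr hx)
    · exact h
  have hmk : ∀ x y : G, QuotientGroup.mk' N x = QuotientGroup.mk' N y ↔ x⁻¹ * y ∈ N := by
    intro x y
    exact QuotientGroup.eq
  have hmk1 : ∀ x : G, QuotientGroup.mk' N x = 1 ↔ x ∈ N := fun x => QuotientGroup.eq_one_iff x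
  -- membership in conjugates of the image
  have hconj : ∀ (g x : G), QuotientGroup.mk' N x ∈
      MulAut.conj (QuotientGroup.mk' N g) • R.map (QuotientGroup.mk' N) →
      ∃ r ∈ R, (g * r * g⁻¹)⁻¹ * x ∈ N := by
    intro g x hx
    rw [mem_conj_smul_iff] at hx
    obtain ⟨r, hr, hrx⟩ := hx
    refine ⟨r, hr, ?_⟩
    have h1 : QuotientGroup.mk' N (g * r * g⁻¹) = QuotientGroup.mk' N x := by
      rw [map_mul, map_mul, hrx, map_inv]
      group
    exact (hmk _ _).mp h1
  -- the key step: Frobenius condition in the quotient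
  have hkey : ∀ g : G, ∀ r ∈ R, ∀ r' ∈ R, r ∉ N → (g * r' * g⁻¹)⁻¹ * r ∈ N →
      QuotientGroup.mk' N g ∈ R.map (QuotientGroup.mk' N) := by
    intro g r hr r' hr' hrN hmem
    have hr1 : r ≠ 1 := fun h => hrN (h ▸ N.one_mem)
    obtain ⟨k, hk, s, hs, rfl⟩ := frob_exists_mul hR g
    set r'' : G := s * r' * s⁻¹ with hr''
    have hr''R : r'' ∈ R := R.mul_mem (R.mul_mem hs hr') (R.inv_mem hs)
    have e1 : (k * s) * r' * (k * s)⁻¹ = k * r'' * k⁻¹ := by rw [hr'']; group
    rw [e1] at hmem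
    -- hmem : (k r'' k⁻¹)⁻¹ * r ∈ N ≤ K
    have hmemK : (k * r'' * k⁻¹)⁻¹ * r ∈ K := hNK hmem
    have hc : k * r'' * k⁻¹ * r''⁻¹ ∈ K := frob_comm_mem_ker hR r'' hk
    -- r''⁻¹ r ∈ K ∩ R
    have h2 : r''⁻¹ * r ∈ K := by
      have : r''⁻¹ * r = r''⁻¹ * (k * r'' * k⁻¹ * r''⁻¹) * r'' * ((k * r'' * k⁻¹)⁻¹ * r) := by
        group
      rw [this]
      refine K.mul_mem ?_ hmemK
      have := hKn.conj_mem _ hc r''⁻¹
      simpa using this
    have h3 : r''⁻¹ * r ∈ R := R.mul_mem (R.inv_mem hr''R) hr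
    have h4 : r''⁻¹ * r = 1 := frob_inf_eq_one hR h2 h3
    have h5 : r'' = r := inv_mul_eq_one.mp h4
    rw [h5] at hmem
    -- k r k⁻¹ r⁻¹ ∈ N
    have h6 : k * r * k⁻¹ * r⁻¹ ∈ N := by
      have h7 : ((k * r * k⁻¹)⁻¹ * r)⁻¹ ∈ N := N.inv_mem hmem
      have := hN.conj_mem _ h7 r
      have e : r * ((k * r * k⁻¹)⁻¹ * r)⁻¹ * r⁻¹ = r * (r⁻¹ * (k * r * k⁻¹ * r⁻¹)) * r * r⁻¹ := by
        group
      rw [e] at this
      have e2 : r * (r⁻¹ * (k * r * k⁻¹ * r⁻¹)) * r * r⁻¹ = k * r * k⁻¹ * r⁻¹ := by group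
      rwa [e2] at this
    have hkN : k ∈ N := frob_mem_of_comm_mem hR N hNK hr hr1 hk h6
    refine ⟨s, hs, ?_⟩
    rw [map_mul, (hmk1 k).mpr hkN, one_mul]
  have hRR : R ⊓ K = ⊥ := by rw [inf_comm]; exact frobKer_inf R hR
  constructor
  · refine ⟨?_, ?_, ?_⟩
    · -- image ≠ ⊥
      intro hbot
      obtain ⟨r, hr1⟩ := (Subgroup.ne_bot_iff_exists_ne_one).mp hR.1
      have hrR : (r : G) ∈ R := r.2
      have h1 : QuotientGroup.mk' N (r : G) ∈ R.map (QuotientGroup.mk' N) := ⟨r, hrR, rfl⟩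
      rw [hbot, Subgroup.mem_bot, hmk1] at h1
      have := frob_inf_eq_one hR (hNK h1) hrR
      exact hr1 (Subtype.ext this)
    · -- image ≠ ⊤
      intro htop
      apply hKN
      intro k hk
      have hkK : k ∈ K := (mem_frobKer hR).mpr hk
      have h1 : QuotientGroup.mk' N k ∈ R.map (QuotientGroup.mk' N) := by
        rw [htop]; exact Subgroup.mem_top _
      obtain ⟨r, hr, hrk⟩ := h1
      have h2 : r⁻¹ * k ∈ N := (hmk _ _).mp hrk
      have h3 : r ∈ K := by
        have : r = k * (r⁻¹ * k)⁻¹ := by group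
        rw [this]
        exact K.mul_mem hkK (K.inv_mem (hNK h2))
      have h4 : r = 1 := frob_inf_eq_one hR h3 hr
      rw [h4] at h2
      simpa using h2
    · -- Frobenius condition
      intro gb hgb
      obtain ⟨g, rfl⟩ := QuotientGroup.mk'_surjective N gb
      rw [eq_bot_iff]
      intro xb hxb
      rw [Subgroup.mem_bot]
      by_contra hx1
      obtain ⟨⟨r, hr, rfl⟩, hx2⟩ := hxb
      have hrN : r ∉ N := fun h => hx1 ((hmk1 r).mpr h)
      obtain ⟨r', hr', hmem⟩ := hconj g r hx2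
      exact hgb (hkey g r hr r' hr' hrN hmem)
  · -- the kernel
    apply Set.Subset.antisymm
    · intro xb hxb
      obtain ⟨x, rfl⟩ := QuotientGroup.mk'_surjective N xb
      by_cases hxK : x ∈ frobeniusKernel R
      · exact ⟨x, hxK, rfl⟩
      · rw [not_mem_frobeniusKernel_iff] at hxK
        obtain ⟨_, g, hg⟩ := hxK
        rcases hxb with h1 | h2
        · exact ⟨1, one_mem_frobeniusKernel R, by rw [map_one, h1]⟩
        · exfalso
          apply h2 (QuotientGroup.mk' N g)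
          rw [mem_conj_smul_iff] at hg ⊢
          refine ⟨g⁻¹ * x * g, hg, ?_⟩
          rw [map_mul, map_mul, map_inv]
    · rintro xb ⟨k, hk, rfl⟩
      have hkK : k ∈ K := (mem_frobKer hR).mpr hk
      by_cases h1 : QuotientGroup.mk' N k = 1
      · exact Or.inl h1
      · right
        intro gb hgb
        obtain ⟨g, rfl⟩ := QuotientGroup.mk'_surjective N gb
        obtain ⟨r, hr, hmem⟩ := hconj g k hgb
        -- g r g⁻¹ ∈ K
        have h2 : g * r * g⁻¹ ∈ K := by
          have : g * r * g⁻¹ = k * ((g * r * g⁻¹)⁻¹ * k)⁻¹ := by group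
          rw [this]
          exact K.mul_mem hkK (K.inv_mem (hNK hmem))
        have h3 : r ∈ K := by
          have := hKn.conj_mem _ h2 g⁻¹
          have e : g⁻¹ * (g * r * g⁻¹) * g⁻¹⁻¹ = r := by group
          rwa [e] at this
        have h4 : r = 1 := frob_inf_eq_one hR h3 hr
        rw [h4] at hmem
        apply h1
        rw [hmk1]
        simpa using hmem

end Cfsg.Agent.S3768
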