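import Cfsg.Statements.S3769
import Cfsg.Agent.Lib.H19.ModRepPrimeQuot
import Cfsg.Agent.Lib.H1.CoprimeSylow

set_option autoImplicit false
open Cfsg

namespace Cfsg.Agent.S3769

open Cfsg.Agent.Lib.H19.ModRep Cfsg.Agent.Lib.H1.QuadMul Cfsg.Agent.Lib.H1
open scoped TensorProduct commutatorElement

/-- the main computation, over an arbitrary algebraically closed field of characteristic `ℓ` -/
theorem core_k {X : Type*} [Group X] [Finite X] {ℓ : ℕ} [Fact ℓ.Prime] (k : Type*) [Field k]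
    [Algebra (ZMod ℓ) k] [IsAlgClosed k] [CharP k ℓ]
    (G : Subgroup X) (hsolv : Group.IsSolvable G) (hodd : Odd (Nat.card G)) (V : Subgroup X) (hV : Cfsg.IsElementaryAbelian ℓ V) (hℓG : ¬ ℓ ∣ Nat.card G) (hGV : G ≤ Subgroup.normalizer (V : Set X)) (K R : Subgroup X) (hKG : K ≤ G) (hKn : G ≤ Subgroup.normalizer (K : Set X)) (hHall : (Nat.card K).Coprime (K.relIndex G)) (hRG : R ≤ G) (hR : (Nat.card R).Prime) (hKR : K ⊓ R = ⊥) (hKRG : K ⊔ R = G) (hCV : V ⊓ Subgroup.centralizer (R : Set X) = ⊥) : ⁅R, K⁆ ≤ Subgroup.centralizer (V : Set X) := by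
  classical
  haveI : IsEA ℓ ↥V := isEA_of hV
  set r := Nat.card R with hr
  haveI : Fact r.Prime := ⟨hR⟩
  -- a generator of `R`
  obtain ⟨x, hxR, hx1⟩ : ∃ x ∈ R, x ≠ 1 := by
    have hnt : Nontrivial R := by
      rw [← Finite.one_lt_card_iff_nontrivial]
      exact hR.one_lt
    obtain ⟨y, hy⟩ := exists_ne (1 : R)
    exact ⟨y.1, y.2, fun h => hy (Subtype.ext h)⟩
  have hRx : ∀ y ∈ R, ∃ i : ℕ, y = x ^ i := by
    intro y hy
    have h1 : Subgroup.zpowers (⟨x, hxR⟩ : R) = ⊤ :=
      zpowers_eq_top_of_prime_card hr.symm (fun h => hx1 (congrArg Subtype.val h))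
    have h2 : (⟨y, hy⟩ : R) ∈ Subgroup.zpowers (⟨x, hxR⟩ : R) := by rw [h1]; trivial
    obtain ⟨i, hi⟩ := (mem_powers_iff_mem_zpowers.mpr h2)
    refine ⟨i, ?_⟩
    have := congrArg (Subtype.val : R → X) hi
    simpa using this.symm
  have hxr : x ^ r = 1 := by
    have h1 : (⟨x, hxR⟩ : R) ^ r = 1 := pow_card_eq_one'
    have := congrArg (Subtype.val : R → X) h1
    simpa using this
  let xg : G := ⟨x, hRG hxR⟩
  have hxgr : xg ^ r = 1 := Subtype.ext (by simpa using hxr)
  -- the representation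
  set ρ₀ := conjRep (ℓ := ℓ) G V hGV with hρ₀
  have hk : (Nat.card ↥G : k) ≠ 0 := by
    intro h
    exact hℓG ((CharP.cast_eq_zero_iff k ℓ _).mp h)
  haveI : Module.Finite (ZMod ℓ) (EA ℓ ↥V) := Module.Finite.of_finite
  set ρ := bc k ρ₀ with hρ
  have hfpf₀ : ∀ v : EA ℓ ↥V, ρ₀ xg v = v → v = 0 := by
    intro v hv
    have h1 := (conjRep_eq_self_iff G V hGV xg v).mp hv
    have h2 : ((v.val : ↥V) : X) ∈ V ⊓ Subgroup.centralizer (R : Set X) := by
      refine Subgroup.mem_inf.mpr ⟨v.val.2, ?_⟩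
      rw [Subgroup.mem_centralizer_iff]
      intro y hy
      obtain ⟨i, rfl⟩ := hRx y hy
      have h3 : Commute x ((v.val : ↥V) : X) := h1
      exact (h3.pow_left i).eq
    rw [hCV, Subgroup.mem_bot] at h2
    apply EA.ext
    rw [EA.val_zero]
    exact Subtype.ext h2
  have hfpf : ∀ w, ρ xg w = w → w = 0 := fpf_bc k hk ρ₀ xg hfpf₀
  -- the subgroup of elements of `K` commuting with `x` in the representation
  let Hg : Subgroup G :=
    { carrier := {u | (u : X) ∈ K ∧ ρ xg * ρ u = ρ u * ρ xg}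
      one_mem' := ⟨K.one_mem, by rw [map_one, mul_one, one_mul]⟩
      mul_mem' := by
        rintro a b ⟨ha, ha'⟩ ⟨hb, hb'⟩
        refine ⟨K.mul_mem ha hb, ?_⟩
        rw [map_mul, ← mul_assoc, ha', mul_assoc, hb', mul_assoc]
      inv_mem' := by
        rintro a ⟨ha, ha'⟩
        refine ⟨K.inv_mem ha, ?_⟩
        have h1 : ρ a⁻¹ * ρ a = 1 := by rw [← map_mul, inv_mul_cancel, map_one]
        have h2 : ρ a * ρ a⁻¹ = 1 := by rw [← map_mul, mul_inv_cancel, map_one]
        calc ρ xg * ρ a⁻¹ = (ρ a⁻¹ * ρ a) * (ρ xg * ρ a⁻¹) := by rw [h1, one_mul]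
          _ = ρ a⁻¹ * (ρ a * ρ xg) * ρ a⁻¹ := by simp only [mul_assoc]
          _ = ρ a⁻¹ * (ρ xg * ρ a) * ρ a⁻¹ := by rw [ha']
          _ = ρ a⁻¹ * ρ xg * (ρ a * ρ a⁻¹) := by simp only [mul_assoc]
          _ = ρ a⁻¹ * ρ xg := by rw [h2, mul_one] }
  have hHg : ∀ u : G, u ∈ Hg ↔ (u : X) ∈ K ∧ ρ xg * ρ u = ρ u * ρ xg := fun u => Iff.rfl
  set H : Subgroup X := Hg.map G.subtype with hH
  have hHK : H ≤ K := by
    rintro _ ⟨u, hu, rfl⟩
    exact hu.1
  -- it suffices to show `H = K`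
  suffices hsuff : H = K by
    rw [Subgroup.commutator_le]
    intro a ha b hb
    obtain ⟨i, rfl⟩ := hRx a ha
    have hbH : b ∈ H := by rw [hsuff]; exact hb
    obtain ⟨bg, hbg, rfl⟩ := hbH
    have h1 : ρ xg * ρ bg = ρ bg * ρ xg := hbg.2
    have h2' : ∀ j : ℕ, ρ (xg ^ j) * ρ bg = ρ bg * ρ (xg ^ j) := by
      intro j
      induction j with
      | zero => simp
      | succ j ih => rw [pow_succ, map_mul, mul_assoc, h1, ← mul_assoc, ih, mul_assoc]
    have h2 := h2' i
    have h3 : ρ (xg ^ i * bg * (xg ^ i)⁻¹ * bg⁻¹) = 1 := by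
      rw [map_mul, map_mul, map_mul, h2, mul_assoc (ρ bg), ← map_mul, mul_inv_cancel, map_one,
        mul_one, ← map_mul, mul_inv_cancel, map_one]
    have h4 : ρ₀ (xg ^ i * bg * (xg ^ i)⁻¹ * bg⁻¹) = 1 := by
      apply bc_injective k
      rw [LinearMap.baseChange_one]
      exact h3
    have h5 := (conjRep_eq_one_iff G V hGV _).mp h4
    rw [commutatorElement_def]
    simpa [xg] using h5
  -- coprime action
  have hRK : R ≤ Subgroup.normalizer (K : Set X) := hRG.trans hKn
  have hrelIndex : K.relIndex G = r := by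
    have hn1 := Subgroup.normal_subgroupOf_of_le_normalizer hRK
    have hn2 := Subgroup.normal_subgroupOf_sup_of_le_normalizer hRK
    have h0 : K.relIndex (R ⊔ K) = K.relIndex R :=
      Nat.card_congr (QuotientGroup.quotientInfEquivProdNormalizerQuotient R K hRK).toEquiv.symm
    rw [← hKRG, sup_comm, h0]
    have h1 : K.subgroupOf R = ⊥ := by
      rw [Subgroup.subgroupOf_eq_bot, disjoint_iff]
      exact hKR
    rw [Subgroup.relIndex, h1, Subgroup.index_bot]
  have hcop : (Nat.card R).Coprime (Nat.card K) := by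
    rw [hrelIndex] at hHall
    exact hHall.symm
  have hKsolv : Group.IsSolvable K :=
    Group.isSolvable_of_isSolvable_injective (Subgroup.inclusion_injective hKG)
  have hact : CoprimeAction R K := ⟨hRK, hcop, Or.inr hKsolv⟩
  -- every invariant Sylow subgroup lies in `H`
  have hSyl : ∀ q : ℕ, q.Prime → q ^ (Nat.card K).factorization q ∣ Nat.card H := by
    intro q hq
    haveI : Fact q.Prime := ⟨hq⟩
    obtain ⟨S, hS, hRS⟩ := coprime_exists_invariant_sylow hact q
    have hSK : S ≤ K := hS.le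
    have hSq : IsPGroup q S := hS.isPGroup
    have hSH : S ≤ H := by
      intro u hu
      by_contra huH
      have huG : u ∈ G := hKG (hSK hu)
      have hnc : ρ xg * ρ ⟨u, huG⟩ ≠ ρ ⟨u, huG⟩ * ρ xg := by
        intro h
        exact huH ⟨⟨u, huG⟩, ⟨hSK hu, h⟩, rfl⟩
      have hu1 : u ≠ 1 := by
        intro h
        apply huH
        rw [h]
        exact H.one_mem
      -- `q` divides `|K|`
      have hqS : q ∣ Nat.card S := by
        obtain ⟨m, hm⟩ := IsPGroup.iff_card.mp hSq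
        have hm0 : m ≠ 0 := by
          intro h0
          rw [h0, pow_zero] at hm
          have : S = ⊥ := Subgroup.card_eq_one.mp hm
          rw [this, Subgroup.mem_bot] at hu
          exact hu1 hu
        rw [hm]
        exact dvd_pow_self q hm0
      have hqK : q ∣ Nat.card K := hqS.trans (Subgroup.card_dvd_of_le hSK)
      have hqr : q ≠ r := by
        intro h
        rw [h] at hqK
        have := Nat.Coprime.eq_one_of_dvd hcop hqK
        exact hR.one_lt.ne' this
      have hres := prime_action_core' (k := k) (Γ := ↥G) (W := k ⊗[ZMod ℓ] EA ℓ ↥V) hk ρ hq hR hqr xg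
        hxgr hfpf (S.subgroupOf G) hSq.comap_subtype
        (by
          intro v hv
          have hvS : (v : X) ∈ S := Subgroup.mem_subgroupOf.mp hv
          apply Subgroup.mem_subgroupOf.mpr
          have := (Subgroup.mem_normalizer_iff.mp (hRS hxR) (v : X)).mp hvS
          simpa [xg] using this)
        ⟨⟨u, huG⟩, Subgroup.mem_subgroupOf.mpr hu, hnc⟩
      -- but `|G|` is odd
      have h2G : 2 ∣ Nat.card G := by
        rw [← hres.1]
        exact hqK.trans (Subgroup.card_dvd_of_le hKG)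
      exact (Nat.not_even_iff_odd.mpr hodd) (even_iff_two_dvd.mpr h2G)
    rw [← hS.card_eq]
    exact Subgroup.card_dvd_of_le hSH
  have hdvd : Nat.card K ∣ Nat.card H := by
    rw [← Nat.factorization_prime_le_iff_dvd Nat.card_pos.ne' Nat.card_pos.ne']
    intro q hq
    exact (hq.pow_dvd_iff_le_factorization Nat.card_pos.ne').mp (hSyl q hq)
  exact Subgroup.eq_of_le_of_card_ge hHK (Nat.le_of_dvd Nat.card_pos hdvd)

/-- Let G and V be subgroups of a finite group with G solvable of odd order normalizing V, V an elementary abelian ℓ-group for a prime ℓ not dividing the order of G, and suppose G has a normal Hall subgroup K with a complement R of prime order. If C_V(R) = 1, then [R, K] centralizes V. -/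
theorem result {X : Type*} [Group X] [Finite X] (G : Subgroup X) (hsolv : Group.IsSolvable G) (hodd : Odd (Nat.card G)) (V : Subgroup X) {ℓ : ℕ} (hℓ : ℓ.Prime) (hV : Cfsg.IsElementaryAbelian ℓ V) (hℓG : ¬ ℓ ∣ Nat.card G) (hGV : G ≤ Subgroup.normalizer (V : Set X)) (K R : Subgroup X) (hKG : K ≤ G) (hKn : G ≤ Subgroup.normalizer (K : Set X)) (hHall : (Nat.card K).Coprime (K.relIndex G)) (hRG : R ≤ G) (hR : (Nat.card R).Prime) (hKR : K ⊓ R = ⊥) (hKRG : K ⊔ R = G) (hCV : V ⊓ Subgroup.centralizer (R : Set X) = ⊥) : ⁅R, K⁆ ≤ Subgroup.centralizer (V : Set X) := by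
  haveI : Fact ℓ.Prime := ⟨hℓ⟩
  exact core_k (AlgebraicClosure (ZMod ℓ)) G hsolv hodd V hV hℓG hGV K R hKG hKn hHall hRG hR hKR
    hKRG hCV

end Cfsg.Agent.S3769
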