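import Cfsg.Statements.S3771
import Cfsg.Agent.Lib.H22.OrderPCube

set_option autoImplicit false
open Cfsg

namespace Cfsg.Agent.S3771

open Cfsg.Agent.Lib.H22

/-- Let p be a prime and R a finite p-group of p-rank at most 2 (no elementary abelian subgroup of order p³) in which every element has order dividing p. Then R has order at most p³. -/
theorem result {R : Type*} [Group R] [Finite R] {p : ℕ} [Fact p.Prime] (hR : IsPGroup p R) (hrank : Cfsg.PRankLE p 2 R) (hexp : ∀ x : R, x ^ p = 1) : Nat.card R ≤ p ^ 3 := by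
  have hp' : Fact p.Prime := inferInstance
  by_contra hlt
  push Not at hlt
  obtain ⟨m, hm⟩ := (IsPGroup.iff_card).mp hR
  have hm4 : 4 ≤ m := by
    rw [hm] at hlt
    have := (Nat.pow_lt_pow_iff_right hp'.out.one_lt).mp hlt
    omega
  have hle : p ^ 4 ≤ Nat.card R := by
    rw [hm]; exact Nat.pow_le_pow_right hp'.out.pos hm4
  obtain ⟨A, hAab, hAcard⟩ := exists_abelian_card_cube hR hle
  have := hrank A ⟨⟨fun a b => Subtype.ext (hAab a a.2 b b.2)⟩⟩ (fun a _ => hexp a)
  rw [hAcard] at this
  have h23 : p ^ 2 < p ^ 3 := Nat.pow_lt_pow_right hp'.out.one_lt (by norm_num)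
  omega

end Cfsg.Agent.S3771
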