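import Mathlib
import Cfsg.Statements.S3772
import Cfsg.Agent.Lib.H1.PGroupBasic

set_option autoImplicit false
open scoped commutatorElement

namespace Cfsg.Agent.S3772

section Sums

variable {G : Type*} [Group G] [Fintype G]

/-- the sum of a `±1`-valued multiplicative function taking the value `-1` is zero -/
theorem sum_eq_zero_of_mul (f : G → ℤ) (hmul : ∀ x y, f (x * y) = f x * f y) (g₀ : G)
    (h₀ : f g₀ = -1) : ∑ x, f x = 0 := by
  have h1 : ∑ x, f x = ∑ x, f (g₀ * x) :=
    (Fintype.sum_equiv (Equiv.mulLeft g₀) _ _ (fun x => rfl)).symm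
  have h2 : ∑ x, f (g₀ * x) = - ∑ x, f x := by
    rw [← Finset.sum_neg_distrib]
    apply Finset.sum_congr rfl
    intro x _
    rw [hmul, h₀]; ring
  linarith

end Sums

/-- the sign function: `1` at the identity, `-1` elsewhere -/
noncomputable def sgn {G : Type*} [Group G] (g : G) : ℤ := by
  classical exact if g = 1 then 1 else -1

theorem sgn_one {G : Type*} [Group G] : sgn (1 : G) = 1 := by
  classical
  simp [sgn]

theorem sgn_of_ne {G : Type*} [Group G] {g : G} (h : g ≠ 1) : sgn g = -1 := by
  classical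
  simp [sgn, h]

theorem sgn_mul_self {G : Type*} [Group G] (g : G) : sgn g * sgn g = 1 := by
  classical
  by_cases h : g = 1
  · rw [h, sgn_one]; rfl
  · rw [sgn_of_ne h]; rfl

/-- the structure of a group with Frattini subgroup of order two -/
structure Setup (G : Type*) [Group G] where
  z : G
  hz1 : z ≠ 1
  hzz : z * z = 1
  hmem : z ∈ frattini G
  hcases : ∀ a ∈ frattini G, a = 1 ∨ a = z
  hcentral : ∀ g : G, g * z = z * g

theorem exists_setup {G : Type*} [Group G] [Finite G] (hΦ : Nat.card (frattini G) = 2) :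
    Nonempty (Setup G) := by
  classical
  rw [Nat.card_eq_two_iff] at hΦ
  obtain ⟨x, y, hxy, huniv⟩ := hΦ
  have hall : ∀ a : frattini G, a = x ∨ a = y := by
    intro a
    have : a ∈ ({x, y} : Set (frattini G)) := by rw [huniv]; trivial
    simpa using this
  -- pick the non-identity element
  obtain ⟨z, hz1, hzall⟩ : ∃ z : frattini G, z ≠ 1 ∧ ∀ a : frattini G, a = 1 ∨ a = z := by
    rcases hall 1 with h | h
    · refine ⟨y, fun hy => hxy (h.symm.trans hy.symm), fun a => ?_⟩
      rcases hall a with ha | ha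
      · left; rw [ha, h]
      · right; exact ha
    · refine ⟨x, fun hx => hxy (hx.trans h), fun a => ?_⟩
      rcases hall a with ha | ha
      · right; exact ha
      · left; rw [ha, h]
  have hz1' : (z : G) ≠ 1 := fun h => hz1 (Subtype.ext h)
  have hcases : ∀ a ∈ frattini G, a = 1 ∨ a = (z : G) := by
    intro a ha
    rcases hzall ⟨a, ha⟩ with h | h
    · left; exact congrArg Subtype.val h
    · right; exact congrArg Subtype.val h
  have hzz : (z : G) * z = 1 := by
    rcases hcases _ ((frattini G).mul_mem z.2 z.2) with h | h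
    · exact h
    · exfalso; apply hz1'
      have : (z : G) * z = z * 1 := by rw [mul_one]; exact h
      exact mul_left_cancel this
  have hnormal : (frattini G).Normal := inferInstance
  have hcentral : ∀ g : G, g * z = z * g := by
    intro g
    have h1 : g * z * g⁻¹ ∈ frattini G := hnormal.conj_mem _ z.2 g
    rcases hcases _ h1 with h | h
    · exfalso; apply hz1'
      have : (z : G) = g⁻¹ * (g * z * g⁻¹) * g := by group
      rw [this, h]; group
    · calc g * z = (g * z * g⁻¹) * g := by group
        _ = z * g := by rw [h]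
  exact ⟨⟨z, hz1', hzz, z.2, hcases, hcentral⟩⟩


section Main

variable {G : Type*} [Group G] (S : Setup G)

include S in
theorem Setup.central_of_mem {a : G} (ha : a ∈ frattini G) (g : G) : g * a = a * g := by
  rcases S.hcases a ha with h | h
  · rw [h]; simp
  · rw [h]; exact S.hcentral g

include S in
theorem Setup.sgn_mul {a b : G} (ha : a ∈ frattini G) (hb : b ∈ frattini G) :
    sgn (a * b) = sgn a * sgn b := by
  rcases S.hcases a ha with rfl | rfl <;> rcases S.hcases b hb with rfl | rfl
  · simp [sgn_one]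
  · simp [sgn_one]
  · simp [sgn_one]
  · rw [S.hzz, sgn_one, sgn_of_ne S.hz1]; rfl

variable (hsq : ∀ x : G, x ^ 2 ∈ frattini G) (hcomm : ∀ w x : G, ⁅w, x⁆ ∈ frattini G)

include S hcomm in
theorem sq_mul (x w : G) : (x * w) ^ 2 = ⁅w, x⁆ * x ^ 2 * w ^ 2 := by
  have hc := S.central_of_mem (hcomm w x) x
  calc (x * w) ^ 2 = x * (w * x) * w := by rw [pow_two]; group
    _ = x * (⁅w, x⁆ * x * w) * w := by rw [commutatorElement_def]; group
    _ = (x * ⁅w, x⁆) * x * w * w := by group
    _ = (⁅w, x⁆ * x) * x * w * w := by rw [hc]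
    _ = ⁅w, x⁆ * x ^ 2 * w ^ 2 := by rw [pow_two, pow_two]; group

include S hcomm in
theorem comm_mul (w x y : G) : ⁅w, x * y⁆ = ⁅w, x⁆ * ⁅w, y⁆ := by
  have hc := S.central_of_mem (hcomm w y) x
  calc ⁅w, x * y⁆ = ⁅w, x⁆ * (x * ⁅w, y⁆) * x⁻¹ := by
        rw [commutatorElement_def, commutatorElement_def, commutatorElement_def]; group
    _ = ⁅w, x⁆ * (⁅w, y⁆ * x) * x⁻¹ := by rw [hc]
    _ = ⁅w, x⁆ * ⁅w, y⁆ := by group

/-- `χ x = 1` iff `x² = 1` -/
noncomputable def chi (x : G) : ℤ := sgn (x ^ 2)

/-- `β w x = 1` iff `w`, `x` commute -/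
noncomputable def beta (w x : G) : ℤ := sgn ⁅w, x⁆

include S hsq hcomm in
theorem chi_mul (x w : G) : chi (x * w) = beta w x * chi x * chi w := by
  unfold chi beta
  rw [sq_mul S hcomm, S.sgn_mul ((frattini G).mul_mem (hcomm w x) (hsq x)) (hsq w),
    S.sgn_mul (hcomm w x) (hsq x)]

include S hcomm in
theorem beta_mul (w x y : G) : beta w (x * y) = beta w x * beta w y := by
  unfold beta
  rw [comm_mul S hcomm, S.sgn_mul (hcomm w x) (hcomm w y)]

theorem chi_mul_self (x : G) : chi x * chi x = 1 := sgn_mul_self _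

theorem beta_eq_one_iff (w x : G) : beta w x = 1 ↔ w * x = x * w := by
  classical
  unfold beta sgn
  rw [commutatorElement_eq_one_iff_mul_comm.symm]
  by_cases h : ⁅w, x⁆ = 1
  · simp [h]
  · simp [h]

theorem beta_eq_neg_one_of (w x : G) (h : w * x ≠ x * w) : beta w x = -1 := by
  unfold beta
  apply sgn_of_ne
  rwa [Ne, commutatorElement_eq_one_iff_mul_comm]

theorem chi_eq_one_iff (x : G) : chi x = 1 ↔ x ^ 2 = 1 := by
  classical
  unfold chi sgn
  by_cases h : x ^ 2 = 1
  · simp [h]
  · simp [h]

variable [Fintype G]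

include S hcomm in
theorem sum_beta (w : G) [Decidable (w ∈ Subgroup.center G)] :
    ∑ x, beta w x = if w ∈ Subgroup.center G then (Fintype.card G : ℤ) else 0 := by
  split_ifs with hw
  · rw [Subgroup.mem_center_iff] at hw
    have : ∀ x, beta w x = 1 := fun x => (beta_eq_one_iff w x).2 (hw x).symm
    simp [this]
  · rw [Subgroup.mem_center_iff] at hw
    push Not at hw
    obtain ⟨g, hg⟩ := hw
    exact sum_eq_zero_of_mul (beta w) (beta_mul S hcomm w) g (beta_eq_neg_one_of w g (fun h => hg h.symm))

include S hsq hcomm in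
/-- the square of the character sum -/
theorem sum_chi_sq [DecidablePred (· ∈ Subgroup.center G)] :
    (∑ x : G, chi x) * (∑ x : G, chi x) =
      (Fintype.card G : ℤ) * ∑ w : G, (if w ∈ Subgroup.center G then chi w else 0) := by
  rw [Finset.sum_mul_sum]
  have h1 : ∀ x : G, ∑ y : G, chi x * chi y = ∑ w : G, beta w x * chi w := by
    intro x
    rw [← Fintype.sum_equiv (Equiv.mulLeft x) (fun w => chi x * chi (x * w)) (fun y => chi x * chi y)
      (fun w => rfl)]
    apply Finset.sum_congr rfl
    intro w _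
    rw [chi_mul S hsq hcomm]
    calc chi x * (beta w x * chi x * chi w) = (chi x * chi x) * (beta w x * chi w) := by ring
      _ = beta w x * chi w := by rw [chi_mul_self, one_mul]
  rw [Finset.sum_congr rfl (fun x _ => h1 x), Finset.sum_comm, Finset.mul_sum]
  apply Finset.sum_congr rfl
  intro w _
  rw [← Finset.sum_mul, sum_beta S hcomm]
  split_ifs <;> ring


include S hsq hcomm in
/-- the sum of `χ` over the centre -/
theorem sum_center [DecidablePred (· ∈ Subgroup.center G)] :
    (∑ w : G, (if w ∈ Subgroup.center G then chi w else 0) = 0 ∧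
        ∃ w ∈ Subgroup.center G, w ^ 2 ≠ 1) ∨
      (∑ w : G, (if w ∈ Subgroup.center G then chi w else 0) = (Nat.card (Subgroup.center G) : ℤ) ∧
        ∀ w ∈ Subgroup.center G, w ^ 2 = 1) := by
  classical
  by_cases hall : ∀ w ∈ Subgroup.center G, w ^ 2 = 1
  · right
    refine ⟨?_, hall⟩
    have : ∀ w : G, (if w ∈ Subgroup.center G then chi w else 0)
        = if w ∈ Subgroup.center G then (1 : ℤ) else 0 := by
      intro w
      split_ifs with hw
      · exact (chi_eq_one_iff w).2 (hall w hw)
      · rfl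
    rw [Finset.sum_congr rfl (fun w _ => this w), Finset.sum_boole, Nat.card_eq_fintype_card,
      Fintype.card_subtype]
  · left
    push Not at hall
    obtain ⟨w₀, hw₀, hw₀2⟩ := hall
    refine ⟨?_, w₀, hw₀, hw₀2⟩
    rw [← Finset.sum_filter]
    rw [Finset.sum_subtype (Finset.univ.filter (· ∈ Subgroup.center G)) (p := (· ∈ Subgroup.center G))
      (by simp) (fun w => chi w)]
    apply sum_eq_zero_of_mul (G := Subgroup.center G) (fun w => chi (w : G)) ?_ ⟨w₀, hw₀⟩ ?_
    · rintro ⟨a, ha⟩ ⟨b, hb⟩
      show chi (a * b) = chi a * chi b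
      rw [chi_mul S hsq hcomm]
      have : beta b a = 1 := by
        rw [beta_eq_one_iff]
        rw [Subgroup.mem_center_iff] at hb
        exact (hb a).symm
      rw [this, one_mul]
    · show chi w₀ = -1
      unfold chi
      exact sgn_of_ne hw₀2

/-- the character sum in terms of the number of solutions of `x² = 1` -/
theorem sum_chi_eq : (∑ x : G, chi x) + (Fintype.card G : ℤ) = 2 * (Nat.card {x : G // x ^ 2 = 1} : ℤ) := by
  classical
  have h1 : ∀ x : G, chi x + 1 = if x ^ 2 = 1 then (2 : ℤ) else 0 := by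
    intro x
    split_ifs with h
    · rw [(chi_eq_one_iff x).2 h]; rfl
    · unfold chi; rw [sgn_of_ne h]; rfl
  have h2 : (∑ x : G, chi x) + (Fintype.card G : ℤ) = ∑ x : G, (chi x + 1) := by
    rw [Finset.sum_add_distrib]
    simp
  rw [h2, Finset.sum_congr rfl (fun x _ => h1 x), Nat.card_eq_fintype_card, Fintype.card_subtype]
  rw [← Finset.sum_filter, Finset.sum_const]
  simp
  ring

end Main

/-- an integer whose square is a power of two -/
theorem natAbs_eq_two_pow {T : ℤ} {k : ℕ} (h : T * T = 2 ^ k) : ∃ a : ℕ, 2 * a = k ∧ T.natAbs = 2 ^ a := by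
  have h1 : T.natAbs * T.natAbs = 2 ^ k := by
    have := congrArg Int.natAbs h
    rw [Int.natAbs_mul, Int.natAbs_pow] at this
    simpa using this
  have h2 : T.natAbs ∣ 2 ^ k := ⟨T.natAbs, h1.symm⟩
  obtain ⟨a, _, ha⟩ := (Nat.dvd_prime_pow Nat.prime_two).1 h2
  refine ⟨a, ?_, ha⟩
  rw [ha, ← pow_add] at h1
  have := Nat.pow_right_injective (le_refl 2) h1
  omega

theorem result {G : Type*} [Group G] [Finite G] (hG : IsPGroup 2 G) (hΦ : Nat.card (frattini G) = 2) (d : ℕ) (hd : (frattini G).index = 2 ^ d) : (Nat.card {x : G // x ^ 2 = 1} = 2 ^ d ∨ ∃ r : ℕ, 1 ≤ r ∧ 2 * r ≤ d ∧ (Nat.card {x : G // x ^ 2 = 1} = 2 ^ d + 2 ^ (d - r) ∨ Nat.card {x : G // x ^ 2 = 1} + 2 ^ (d - r) = 2 ^ d)) ∧ (∀ r : ℕ, d = 2 * r → (Nat.card {x : G // x ^ 2 = 1} = 2 ^ d + 2 ^ r ∨ Nat.card {x : G // x ^ 2 = 1} + 2 ^ r = 2 ^ d) → Cfsg.IsExtraspecial 2 G) := by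
  classical
  have : Fact (Nat.Prime 2) := ⟨Nat.prime_two⟩
  have := Fintype.ofFinite G
  obtain ⟨S⟩ := exists_setup hΦ
  have hsq : ∀ x : G, x ^ 2 ∈ frattini G := Cfsg.Agent.Lib.H1.isPGroup_pow_mem_frattini hG
  have hcomm : ∀ w x : G, ⁅w, x⁆ ∈ frattini G := fun w x =>
    Cfsg.Agent.Lib.H1.isPGroup_commutator_le_frattini hG
      (Subgroup.commutator_mem_commutator (Subgroup.mem_top w) (Subgroup.mem_top x))
  set j := Nat.card {x : G // x ^ 2 = 1} with hj
  have hcardG : Fintype.card G = 2 ^ (d + 1) := by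
    have := (frattini G).index_mul_card
    rw [hd, hΦ, Nat.card_eq_fintype_card] at this
    rw [← this, pow_succ]
  have hT := sum_chi_eq (G := G)
  have hT2 := sum_chi_sq S hsq hcomm
  set T : ℤ := ∑ x : G, chi x with hTdef
  rw [hcardG] at hT hT2
  push_cast at hT hT2
  -- the centre
  have hzc : S.z ∈ Subgroup.center G := by
    rw [Subgroup.mem_center_iff]; exact S.hcentral
  obtain ⟨c, hc⟩ := IsPGroup.iff_card.1 (hG.to_subgroup (Subgroup.center G))
  have hc1 : 1 ≤ c := by
    by_contra h
    have h0 : c = 0 := by omega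
    rw [h0, pow_zero] at hc
    have : Subgroup.center G = ⊥ := Subgroup.eq_bot_of_card_eq _ hc
    rw [this, Subgroup.mem_bot] at hzc
    exact S.hz1 hzc
  have hcle : Nat.card (Subgroup.center G) ≤ 2 ^ (d + 1) := by
    rw [← hcardG, ← Nat.card_eq_fintype_card]
    exact Subgroup.card_le_card_group _
  -- the abelian exponent two case is impossible
  have hnotall : ¬ ((∀ w ∈ Subgroup.center G, w ^ 2 = 1) ∧ Subgroup.center G = ⊤) := by
    rintro ⟨h1, h2⟩
    have hall : ∀ x : G, x ^ 2 = 1 := fun x => h1 x (by rw [h2]; trivial)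
    have hcomm' : commutator G ≤ ⊥ := by
      rw [commutator_eq_closure, Subgroup.closure_le]
      rintro x ⟨a, b, rfl⟩
      have hb : b ∈ Subgroup.center G := by rw [h2]; trivial
      rw [Subgroup.mem_center_iff] at hb
      rw [SetLike.mem_coe, Subgroup.mem_bot, commutatorElement_eq_one_iff_mul_comm]
      exact hb a
    have := Cfsg.Agent.Lib.H1.frattini_le_of_commutator_le_of_pow_mem (p := 2) (⊥ : Subgroup G) hcomm'
      (fun x => by rw [Subgroup.mem_bot]; exact hall x)
    have hbot : frattini G = ⊥ := le_bot_iff.1 this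
    rw [hbot, Subgroup.card_bot] at hΦ
    omega
  rcases sum_center S hsq hcomm with ⟨h0, -⟩ | ⟨hZ, hall⟩
  · -- T = 0
    rw [h0, mul_zero] at hT2
    have hT0 : T = 0 := by
      rcases mul_self_eq_zero.1 hT2 with h
      exact h
    rw [hT0, zero_add] at hT
    have hj' : (j : ℤ) = 2 ^ d := by
      rw [pow_succ] at hT; linarith
    have hjd : j = 2 ^ d := by exact_mod_cast hj'
    refine ⟨Or.inl hjd, ?_⟩
    intro r hr hcase
    exfalso
    have hpos : 0 < 2 ^ r := Nat.pos_of_ne_zero (by positivity)
    rcases hcase with h | h <;> omega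
  · -- T² = |G| |Z|
    rw [hZ, hc] at hT2
    push_cast at hT2
    rw [← pow_add] at hT2
    obtain ⟨a, ha2, haT⟩ := natAbs_eq_two_pow hT2
    have hcd : c ≤ d + 1 := by
      rw [hc] at hcle
      exact (Nat.pow_le_pow_iff_right (by norm_num)).1 hcle
    have had : a ≤ d := by
      by_contra hnot
      have hcd1 : c = d + 1 := by omega
      apply hnotall
      refine ⟨hall, ?_⟩
      apply Subgroup.eq_top_of_card_eq
      rw [hc, hcd1, ← hcardG, Nat.card_eq_fintype_card]
    have ha1 : 1 ≤ a := by omega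
    have hTcases : T = 2 ^ a ∨ T = -(2 ^ a) := by
      rcases Int.natAbs_eq T with h | h
      · left; rw [h, haT]; push_cast; rfl
      · right; rw [h, haT]; push_cast; rfl
    have hpow : (2 : ℤ) ^ a = 2 * 2 ^ (a - 1) := by
      rw [← pow_succ']; congr 1; omega
    have hpowd : (2 : ℤ) ^ (d + 1) = 2 * 2 ^ d := by rw [pow_succ']
    constructor
    · right
      refine ⟨d + 1 - a, by omega, by omega, ?_⟩
      have hda : d - (d + 1 - a) = a - 1 := by omega
      rw [hda]
      rcases hTcases with h | h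
      · left
        have : (j : ℤ) = 2 ^ d + 2 ^ (a - 1) := by
          rw [h, hpow, hpowd] at hT; linarith
        exact_mod_cast this
      · right
        have : (j : ℤ) + 2 ^ (a - 1) = 2 ^ d := by
          rw [h, hpow, hpowd] at hT; linarith
        exact_mod_cast this
    · intro r hr hcase
      -- |T| = 2^(r+1)
      have hTr : T * T = 2 ^ (2 * r + 2) := by
        have h2r : (2 : ℤ) ^ (2 * r + 2) = (2 * 2 ^ r) * (2 * 2 ^ r) := by ring
        rw [h2r]
        rcases hcase with h | h
        · have : (j : ℤ) = 2 ^ d + 2 ^ r := by exact_mod_cast h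
          have hT' : T = 2 * 2 ^ r := by rw [hpowd] at hT; linarith
          rw [hT']
        · have : (j : ℤ) + 2 ^ r = 2 ^ d := by exact_mod_cast h
          have hT' : T = -(2 * 2 ^ r) := by rw [hpowd] at hT; linarith
          rw [hT']; ring
      rw [hTr] at hT2
      have hexp : 2 * r + 2 = d + 1 + c := by
        have := Int.pow_right_injective (by norm_num : 1 < (2 : ℤ).natAbs) hT2
        exact this
      have hc1' : c = 1 := by omega
      have hcenter2 : Nat.card (Subgroup.center G) = 2 := by rw [hc, hc1', pow_one]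
      have hΦZ : frattini G = Subgroup.center G := by
        apply Subgroup.eq_of_le_of_card_ge
        · intro a ha
          rw [Subgroup.mem_center_iff]
          exact S.central_of_mem ha
        · rw [hcenter2, hΦ]
      have hcomm_le : commutator G ≤ Subgroup.center G := by
        rw [← hΦZ]
        exact Cfsg.Agent.Lib.H1.isPGroup_commutator_le_frattini hG
      have hcomm_ne : commutator G ≠ ⊥ := by
        intro hbot
        apply hnotall
        have htop : Subgroup.center G = ⊤ := by
          rw [eq_top_iff]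
          intro g _
          rw [Subgroup.mem_center_iff]
          intro h
          have : ⁅h, g⁆ ∈ commutator G :=
            Subgroup.commutator_mem_commutator (Subgroup.mem_top h) (Subgroup.mem_top g)
          rw [hbot, Subgroup.mem_bot, commutatorElement_eq_one_iff_mul_comm] at this
          exact this
        exact ⟨hall, htop⟩
      refine ⟨⟨hG, hΦZ, ?_⟩, hcenter2⟩
      apply Subgroup.eq_of_le_of_card_ge hcomm_le
      rw [hcenter2]
      have hdvd : Nat.card (commutator G) ∣ 2 := by
        rw [← hcenter2]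
        exact Subgroup.card_dvd_of_le hcomm_le
      have hne1 : Nat.card (commutator G) ≠ 1 := fun h => hcomm_ne (Subgroup.eq_bot_of_card_eq _ h)
      rcases (Nat.dvd_prime Nat.prime_two).1 hdvd with h | h
      · exact absurd h hne1
      · rw [h]

end Cfsg.Agent.S3772
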