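import Cfsg.Statements.S3773
import Mathlib
import Cfsg.Agent.Lib.H1.PGroupBasic
import Cfsg.Agent.Lib.H22.QuadCW
import Cfsg.Agent.Lib.H22.Class2Exp4

set_option autoImplicit false
open Cfsg

namespace Cfsg.Agent.S3773

open scoped commutatorElement
open Cfsg.Agent.Lib.H22

/-- Let G be a finite 2-group of nilpotency class at most 2 and exponent dividing 4 in which the elements x with x² = 1 form a subgroup N. Then |G| ≤ |N|³, and |G| < |N|³ unless G is special. -/
theorem result {G : Type*} [Group G] [Finite G] (hG : IsPGroup 2 G) (hcl : (⊤ : Subgroup G).lowerCentralSeries 2 = ⊥) (hexp : ∀ x : G, x ^ 4 = 1) (hN : ∀ x y : G, x ^ 2 = 1 → y ^ 2 = 1 → (x * y) ^ 2 = 1) : Nat.card G ≤ Nat.card {x : G // x ^ 2 = 1} ^ 3 ∧ (¬ Cfsg.IsSpecial 2 G → Nat.card G < Nat.card {x : G // x ^ 2 = 1} ^ 3) := by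
  have : Fact (Nat.Prime 2) := ⟨Nat.prime_two⟩
  -- class two
  have hcc : ∀ a b : G, ⁅a, b⁆ ∈ Subgroup.center G := by
    intro a b
    rw [Subgroup.mem_center_iff]
    intro c
    have h1 : ⁅⁅a, b⁆, c⁆ ∈ (⊤ : Subgroup G).lowerCentralSeries 2 := by
      show ⁅⁅a, b⁆, c⁆ ∈ ⁅⁅(⊤ : Subgroup G), ⊤⁆, ⊤⁆
      exact Subgroup.commutator_mem_commutator
        (Subgroup.commutator_mem_commutator (Subgroup.mem_top a) (Subgroup.mem_top b))
        (Subgroup.mem_top c)
    rw [hcl, Subgroup.mem_bot] at h1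
    exact (commutatorElement_eq_one_iff_mul_comm.mp h1).symm
  -- the Frattini subgroup
  set Φ := frattini G with hΦ
  have hΦo : Φ ≤ Class2Exp4.omegaCenter G := Class2Exp4.frattini_le_omegaCenter hcc hexp
  have hΦc : ∀ t ∈ Φ, ∀ x : G, t * x = x * t := fun t ht x =>
    (Subgroup.mem_center_iff.mp (hΦo ht).1 x).symm
  have hΦ2 : ∀ t ∈ Φ, t ^ 2 = 1 := fun t ht => (hΦo ht).2
  have hsqΦ : ∀ x : G, x ^ 2 ∈ Φ := fun x => Cfsg.Agent.Lib.H1.isPGroup_pow_mem_frattini hG x
  have hcomΦ : commutator G ≤ Φ := Cfsg.Agent.Lib.H1.isPGroup_commutator_le_frattini hG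
  have hcoG : ∀ x y : G, ⁅x, y⁆ ∈ commutator G := fun x y => by
    rw [commutator_def]
    exact Subgroup.commutator_mem_commutator (Subgroup.mem_top x) (Subgroup.mem_top y)
  have hcoΦ : ∀ x y : G, ⁅x, y⁆ ∈ Φ := fun x y => hcomΦ (hcoG x y)
  -- the subgroup of involutions
  let N : Subgroup G :=
    { carrier := {x | x ^ 2 = 1}
      mul_mem' := fun {a b} ha hb => hN a b ha hb
      one_mem' := one_pow 2
      inv_mem' := fun {a} ha => by
        show (a⁻¹) ^ 2 = 1
        rw [inv_pow, ha, inv_one] }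
  have hNmem : ∀ x : G, x ∈ N ↔ x ^ 2 = 1 := fun x => Iff.rfl
  have hcardN : Nat.card {x : G // x ^ 2 = 1} = Nat.card N := rfl
  have hΦN : Φ ≤ N := fun t ht => hΦ2 t ht
  obtain ⟨l, hl⟩ := IsPGroup.iff_card.mp (hG.to_subgroup Φ)
  have hΦNcard : 2 ^ l ≤ Nat.card N := by rw [← hl]; exact Subgroup.card_le_of_le hΦN
  -- the main bound
  have hmain : Nat.card G ≤ 2 ^ (2 * l) * Nat.card N := by
    by_contra hcon
    push Not at hcon
    obtain ⟨x, -, hxN, hx2⟩ := QuadCW.exists_sq_mem Φ ⊥ ⊤ N l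
      (fun t ht x _ => hΦc t ht x) (fun x _ => hsqΦ x) (fun x _ y _ => hcoΦ x y) hΦ2 bot_le
      (by rw [Subgroup.card_bot, mul_one, hl]) hΦN le_top (by rw [Subgroup.card_top]; exact hcon)
    exact hxN (Subgroup.mem_bot.mp hx2)
  rw [hcardN]
  have hle : Nat.card G ≤ Nat.card N ^ 3 := by
    calc Nat.card G ≤ 2 ^ (2 * l) * Nat.card N := hmain
      _ = (2 ^ l) ^ 2 * Nat.card N := by rw [← pow_mul, mul_comm l 2]
      _ ≤ (Nat.card N) ^ 2 * Nat.card N := Nat.mul_le_mul_right _ (Nat.pow_le_pow_left hΦNcard 2)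
      _ = Nat.card N ^ 3 := by ring
  refine ⟨hle, ?_⟩
  intro hns
  by_contra hcon
  push Not at hcon
  apply hns
  have hGN : Nat.card G = Nat.card N ^ 3 := le_antisymm hle hcon
  -- `N = Φ`
  have hNl : Nat.card N ≤ 2 ^ l := by
    have h1 : Nat.card N ^ 3 ≤ 2 ^ (2 * l) * Nat.card N := by rw [← hGN]; exact hmain
    have hpos : 0 < Nat.card N := Nat.card_pos
    have h2 : Nat.card N ^ 2 * Nat.card N ≤ (2 ^ l) ^ 2 * Nat.card N := by
      calc Nat.card N ^ 2 * Nat.card N = Nat.card N ^ 3 := by ring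
        _ ≤ 2 ^ (2 * l) * Nat.card N := h1
        _ = (2 ^ l) ^ 2 * Nat.card N := by rw [← pow_mul, mul_comm l 2]
    have h3 : Nat.card N ^ 2 ≤ (2 ^ l) ^ 2 := Nat.le_of_mul_le_mul_right h2 hpos
    exact (Nat.pow_le_pow_iff_left (by norm_num)).mp h3
  have hNΦ : N = Φ := by
    symm
    apply Subgroup.eq_of_le_of_card_ge hΦN
    rw [hl]; exact hNl
  have hNc : Nat.card N = 2 ^ l := by rw [hNΦ, hl]
  have hGc : Nat.card G = 2 ^ (3 * l) := by rw [hGN, hNc, ← pow_mul, mul_comm]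
  have hinv : ∀ x : G, x ^ 2 = 1 → x ∈ Φ := fun x hx => by rw [← hNΦ]; exact hx
  -- the centre
  have hcenter : Φ = Subgroup.center G := by
    apply le_antisymm (fun t ht => (hΦo ht).1)
    intro z hz
    by_contra hzΦ
    have hzc : ∀ x : G, x * z = z * x := fun x => Subgroup.mem_center_iff.mp hz x
    obtain ⟨H, hH, hzH⟩ : ∃ H : Subgroup G, IsCoatom H ∧ z ∉ H := by
      by_contra hcon2
      push Not at hcon2
      apply hzΦ
      rw [hΦ, Cfsg.Agent.Lib.H1.frattini_eq_iInf]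
      simp only [Subgroup.mem_iInf]
      intro H hH
      exact hcon2 H hH
    have hHidx : H.index = 2 := Cfsg.Agent.Lib.H1.isPGroup_coatom_index hG hH
    have hΦH : Φ ≤ H := Cfsg.Agent.Lib.H1.le_frattini_iff.mp le_rfl H hH
    have hz2 : z ^ 2 ≠ 1 := fun h => hzΦ (hinv z h)
    have hz4 : z ^ 2 * z ^ 2 = 1 := by rw [← pow_add]; exact hexp z
    -- the subgroup `{1, z^2}`
    let M : Subgroup G :=
      { carrier := {y | y = 1 ∨ y = z ^ 2}
        mul_mem' := by
          rintro a b (rfl | rfl) (rfl | rfl)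
          · left; rw [mul_one]
          · right; rw [one_mul]
          · right; rw [mul_one]
          · left; exact hz4
        one_mem' := Or.inl rfl
        inv_mem' := by
          rintro a (rfl | rfl)
          · left; rw [inv_one]
          · right; exact inv_eq_of_mul_eq_one_left hz4 }
    have hMΦ : M ≤ Φ := by
      rintro y (rfl | rfl)
      · exact Φ.one_mem
      · exact hsqΦ z
    have hMcard : 2 ≤ Nat.card M := by
      have hnt : Nontrivial M := ⟨⟨⟨z ^ 2, Or.inr rfl⟩, ⟨1, Or.inl rfl⟩, fun h => hz2 (congrArg Subtype.val h)⟩⟩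
      exact Finite.one_lt_card_iff_nontrivial.mpr hnt
    have hl1 : 1 ≤ l := by
      by_contra hl0
      have hl0' : l = 0 := by omega
      rw [hl0', pow_zero] at hl
      have := Subgroup.card_le_of_le hMΦ
      omega
    obtain ⟨k, rfl⟩ : ∃ k, l = k + 1 := ⟨l - 1, by omega⟩
    have hHcard : Nat.card H = 2 ^ (3 * k + 2) := by
      have h1 := Subgroup.card_mul_index H
      rw [hHidx, hGc] at h1
      have h2 : 2 ^ (3 * (k + 1)) = 2 ^ (3 * k + 2) * 2 := by rw [← pow_succ]; congr 1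
      rw [h2] at h1
      exact Nat.eq_of_mul_eq_mul_right (by norm_num) h1
    obtain ⟨x, hxH, hxΦ, hxM⟩ := QuadCW.exists_sq_mem Φ M H Φ k
      (fun t ht x _ => hΦc t ht x) (fun x _ => hsqΦ x) (fun x _ y _ => hcoΦ x y) hΦ2 hMΦ
      (by
        rw [hl, pow_succ]
        exact Nat.mul_le_mul_left _ hMcard) le_rfl hΦH (by
        rw [hl, hHcard, ← pow_add]
        apply Nat.pow_lt_pow_right (by norm_num)
        omega)
    rcases hxM with h1 | h1
    · exact hxΦ (hinv x h1)
    · apply hzH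
      have h2 : (x * z⁻¹) ^ 2 = 1 := by
        have hc : Commute x z⁻¹ := by
          have : Commute x z := hzc x
          exact this.inv_right
        rw [hc.mul_pow, h1, inv_pow, mul_inv_cancel]
      have h3 : x * z⁻¹ ∈ H := hΦH (hinv _ h2)
      have h4 : z⁻¹ ∈ H := by
        have := H.mul_mem (H.inv_mem hxH) h3
        rwa [inv_mul_cancel_left] at this
      exact (H.inv_mem_iff).mp h4
  -- the derived subgroup
  have hderived : commutator G = Φ := by
    by_contra hne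
    have hlt : Nat.card (commutator G) < Nat.card Φ := by
      by_contra hcon2
      push Not at hcon2
      exact hne (Subgroup.eq_of_le_of_card_ge hcomΦ hcon2)
    obtain ⟨l', hl'⟩ := IsPGroup.iff_card.mp (hG.to_subgroup (commutator G))
    have hl'l : l' < l := by
      rw [hl, hl'] at hlt
      exact (Nat.pow_lt_pow_iff_right (by norm_num)).mp hlt
    -- the squaring homomorphism modulo the derived subgroup
    have hmul : ∀ a b : G,
        (QuotientGroup.mk (⟨(a * b) ^ 2, hsqΦ (a * b)⟩ : Φ) : Φ ⧸ (commutator G).subgroupOf Φ)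
          = QuotientGroup.mk (⟨a ^ 2, hsqΦ a⟩ : Φ) * QuotientGroup.mk (⟨b ^ 2, hsqΦ b⟩ : Φ) := by
      intro a b
      rw [← QuotientGroup.mk_mul, QuotientGroup.eq]
      rw [Subgroup.mem_subgroupOf]
      have h1 : (a * b) ^ 2 = a ^ 2 * b ^ 2 * ⁅b, a⁆ := Class2Exp4.mul_sq hcc a b
      have h2 : (((⟨(a * b) ^ 2, hsqΦ (a * b)⟩ : Φ)⁻¹ * ((⟨a ^ 2, hsqΦ a⟩ : Φ) * ⟨b ^ 2, hsqΦ b⟩) : Φ) : G)
          = (⁅b, a⁆)⁻¹ := by
        show ((a * b) ^ 2)⁻¹ * (a ^ 2 * b ^ 2) = (⁅b, a⁆)⁻¹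
        rw [h1]; group
      rw [h2]
      exact (commutator G).inv_mem (hcoG b a)
    let φ : G →* Φ ⧸ (commutator G).subgroupOf Φ :=
      MonoidHom.mk' (fun a => QuotientGroup.mk (⟨a ^ 2, hsqΦ a⟩ : Φ)) hmul
    have hφ : ∀ a : G, φ a = QuotientGroup.mk (⟨a ^ 2, hsqΦ a⟩ : Φ) := fun a => rfl
    have hker : ∀ a : G, a ∈ φ.ker ↔ a ^ 2 ∈ commutator G := by
      intro a
      rw [MonoidHom.mem_ker, hφ, QuotientGroup.eq_one_iff, Subgroup.mem_subgroupOf]
    have hquot : Nat.card (Φ ⧸ (commutator G).subgroupOf Φ) * 2 ^ l' = 2 ^ l := by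
      have h1 := Subgroup.card_eq_card_quotient_mul_card_subgroup ((commutator G).subgroupOf Φ)
      have h2 : Nat.card ((commutator G).subgroupOf Φ) = Nat.card (commutator G) :=
        Nat.card_congr (Subgroup.subgroupOfEquivOfLe hcomΦ).toEquiv
      rw [h2, hl, hl'] at h1
      exact h1.symm
    have hquot' : Nat.card (Φ ⧸ (commutator G).subgroupOf Φ) = 2 ^ (l - l') := by
      have h1 : 2 ^ l = 2 ^ (l - l') * 2 ^ l' := by rw [← pow_add]; congr 1; omega
      rw [h1] at hquot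
      exact Nat.eq_of_mul_eq_mul_right (by positivity) hquot
    have hkercard : 2 ^ (2 * l + l') ≤ Nat.card φ.ker := by
      have h1 := Subgroup.card_mul_index φ.ker
      rw [Subgroup.index_ker, hGc] at h1
      have h2 : Nat.card φ.range ≤ 2 ^ (l - l') := by
        rw [← hquot']
        exact Subgroup.card_le_card_group _
      have h3 : 2 ^ (3 * l) = 2 ^ (2 * l + l') * 2 ^ (l - l') := by
        rw [← pow_add]; congr 1; omega
      by_contra hcon2
      push Not at hcon2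
      have h4 : Nat.card φ.ker * Nat.card φ.range < 2 ^ (2 * l + l') * 2 ^ (l - l') :=
        Nat.mul_lt_mul_of_lt_of_le hcon2 h2 (by positivity)
      omega
    obtain ⟨x, hxk, hxΦ, hx1⟩ := QuadCW.exists_sq_mem (commutator G) ⊥ φ.ker Φ l'
      (fun t ht x _ => hΦc t (hcomΦ ht) x) (fun x hx => (hker x).mp hx) (fun x _ y _ => hcoG x y)
      (fun t ht => hΦ2 t (hcomΦ ht)) bot_le (by rw [Subgroup.card_bot, mul_one, hl']) hcomΦ
      (by
        intro t ht
        rw [hker, hΦ2 t ht]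
        exact Subgroup.one_mem _)
      (by
        rw [hl]
        refine lt_of_lt_of_le ?_ hkercard
        rw [← pow_add]
        apply Nat.pow_lt_pow_right (by norm_num)
        omega)
    exact hxΦ (hinv x (Subgroup.mem_bot.mp hx1))
  exact ⟨hG, hcenter, hderived.trans hcenter⟩

end Cfsg.Agent.S3773
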