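import Cfsg.Statements.S3774
import Mathlib

set_option autoImplicit false
open Cfsg

namespace Cfsg.Agent.S3774

variable {G : Type*} [Group G]

/-- the "involution part" of a nonidentity element of a 2-group -/
noncomputable def invPart (x : G) : G := x ^ (orderOf x / 2)

theorem invPart_map (a : MulAut G) (x : G) : invPart (a x) = a (invPart x) := by
  unfold invPart
  rw [MulEquiv.orderOf_eq, map_pow]

theorem invPart_spec (hG : IsPGroup 2 G) {x : G} (hx : x ≠ 1) :
    invPart x ≠ 1 ∧ invPart x ^ 2 = 1 := by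
  obtain ⟨k, hk⟩ := (IsPGroup.iff_orderOf.1 hG) x
  have hk0 : k ≠ 0 := by
    intro h
    rw [h, pow_zero, orderOf_eq_one_iff] at hk
    exact hx hk
  obtain ⟨j, rfl⟩ := Nat.exists_eq_succ_of_ne_zero hk0
  have hdiv : orderOf x / 2 = 2 ^ j := by
    rw [hk, pow_succ]; simp
  unfold invPart
  rw [hdiv]
  constructor
  · apply pow_ne_one_of_lt_orderOf (by positivity)
    rw [hk, pow_succ]
    have : 0 < 2 ^ j := by positivity
    omega
  · rw [← pow_mul, ← pow_succ, ← hk, pow_orderOf_eq_one]

theorem center_of_sq [Finite G] (hG : IsPGroup 2 G) [Nontrivial G]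
    (htrans : ∀ x y : G, x ≠ 1 → x ^ 2 = 1 → y ≠ 1 → y ^ 2 = 1 → ∃ a : MulAut G, a x = y) :
    ∀ x : G, x ^ 2 = 1 → x ∈ Subgroup.center G := by
  have : Fact (Nat.Prime 2) := ⟨Nat.prime_two⟩
  have hnt : Nontrivial (Subgroup.center G) := hG.center_nontrivial
  obtain ⟨w, hw⟩ := exists_ne (1 : Subgroup.center G)
  have hw1 : (w : G) ≠ 1 := fun h => hw (Subtype.ext h)
  obtain ⟨h1, h2⟩ := invPart_spec hG hw1
  have hzc : invPart (w : G) ∈ Subgroup.center G := by
    unfold invPart
    exact Subgroup.pow_mem _ w.2 _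
  intro x hx
  by_cases hx1 : x = 1
  · rw [hx1]; exact Subgroup.one_mem _
  obtain ⟨a, ha⟩ := htrans _ x h1 h2 hx1 hx
  rw [← ha]
  rw [Subgroup.mem_center_iff] at hzc ⊢
  intro g
  have := hzc (a.symm g)
  have h3 := congrArg a this
  rw [map_mul, map_mul, MulEquiv.apply_symm_apply] at h3
  exact h3

theorem result_aux [Finite G] [Nontrivial G] (hG : IsPGroup 2 G)
    (htrans : ∀ x y : G, x ≠ 1 → x ^ 2 = 1 → y ≠ 1 → y ^ 2 = 1 → ∃ a : MulAut G, a x = y) :
    ∃ m : ℕ, Nat.card G = Nat.card {z : G // z ^ 2 = 1} ^ m := by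
  classical
  have : Fact (Nat.Prime 2) := ⟨Nat.prime_two⟩
  have := Fintype.ofFinite G
  have hcen := center_of_sq hG htrans
  -- the subgroup of elements of square one
  let T : Subgroup G :=
    { carrier := {z | z ^ 2 = 1}
      one_mem' := by simp
      mul_mem' := by
        intro a b ha hb
        change a ^ 2 = 1 at ha
        change b ^ 2 = 1 at hb
        change (a * b) ^ 2 = 1
        have hc : Commute a b := Subgroup.mem_center_iff.1 (hcen b hb) a
        rw [hc.mul_pow, ha, hb, one_mul]
      inv_mem' := by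
        intro a ha
        change a ^ 2 = 1 at ha
        change a⁻¹ ^ 2 = 1
        rw [inv_pow, ha, inv_one] }
  have hTcard : Nat.card {z : G // z ^ 2 = 1} = Nat.card T := rfl
  obtain ⟨m, hm⟩ := (hG.to_subgroup T).exists_card_eq
  obtain ⟨n, hn⟩ := hG.exists_card_eq
  -- an involution
  obtain ⟨w, hw⟩ := exists_ne (1 : G)
  obtain ⟨hz1, hz2⟩ := invPart_spec hG hw
  set z := invPart w with hz
  -- the finsets
  let X : Finset G := Finset.univ.filter (fun x => x ≠ 1)
  let I : Finset G := Finset.univ.filter (fun t => t ≠ 1 ∧ t ^ 2 = 1)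
  have hXcard : X.card + 1 = 2 ^ n := by
    rw [← hn, Nat.card_eq_fintype_card]
    have : X = Finset.univ.erase (1 : G) := by
      ext x; simp [X]
    rw [this, Finset.card_erase_of_mem (Finset.mem_univ _), Finset.card_univ]
    have : 0 < Fintype.card G := Fintype.card_pos
    omega
  have hIcard : I.card + 1 = 2 ^ m := by
    rw [← hm, Nat.card_eq_fintype_card]
    have h1 : I = (Finset.univ.filter (fun t : G => t ^ 2 = 1)).erase 1 := by
      ext x; simp [I]
    have h2 : (1 : G) ∈ Finset.univ.filter (fun t : G => t ^ 2 = 1) := by simp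
    rw [h1, Finset.card_erase_of_mem h2]
    have h3 : (Finset.univ.filter (fun t : G => t ^ 2 = 1)).card = Fintype.card T := by
      rw [Fintype.card_subtype]
      rfl
    rw [h3]
    have : 0 < Fintype.card T := Fintype.card_pos
    omega
  -- fibres
  have hmaps : ∀ x ∈ X, invPart x ∈ I := by
    intro x hx
    have hx1 : x ≠ 1 := by simpa [X] using hx
    have := invPart_spec hG hx1
    simp only [I, Finset.mem_filter, Finset.mem_univ, true_and]
    exact this
  have hfib : ∀ t ∈ I, (X.filter (fun x => invPart x = t)).card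
      = (X.filter (fun x => invPart x = z)).card := by
    intro t ht
    have ht' : t ≠ 1 ∧ t ^ 2 = 1 := by simpa [I] using ht
    obtain ⟨a, ha⟩ := htrans z t hz1 hz2 ht'.1 ht'.2
    symm
    apply Finset.card_bij (fun x _ => a x)
    · intro x hx
      simp only [X, Finset.mem_filter, Finset.mem_univ, true_and] at hx ⊢
      refine ⟨?_, ?_⟩
      · intro h
        apply hx.1
        have := congrArg a.symm h
        simpa using this
      · rw [invPart_map, hx.2, ha]
    · intro x _ y _ hxy
      exact a.injective hxy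
    · intro y hy
      simp only [X, Finset.mem_filter, Finset.mem_univ, true_and] at hy
      refine ⟨a.symm y, ?_, by simp⟩
      simp only [X, Finset.mem_filter, Finset.mem_univ, true_and]
      refine ⟨?_, ?_⟩
      · intro h
        apply hy.1
        have := congrArg a h
        simpa using this
      · apply a.injective
        rw [← invPart_map, MulEquiv.apply_symm_apply, hy.2, ha]
  have hsum := Finset.card_eq_sum_card_fiberwise hmaps
  rw [Finset.sum_congr rfl hfib, Finset.sum_const, smul_eq_mul] at hsum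
  -- arithmetic
  have hdvd : (2 ^ m - 1) ∣ (2 ^ n - 1) := by
    have h1 : I.card = 2 ^ m - 1 := by omega
    have h2 : X.card = 2 ^ n - 1 := by omega
    rw [← h1, ← h2, hsum]
    exact dvd_mul_right _ _
  have hgcd := Nat.pow_sub_one_gcd_pow_sub_one 2 m n
  rw [Nat.gcd_eq_left hdvd] at hgcd
  have hpow : 2 ^ m = 2 ^ Nat.gcd m n := by
    have h1 : 0 < 2 ^ m := by positivity
    have h2 : 0 < 2 ^ Nat.gcd m n := by positivity
    omega
  have hmg : m = Nat.gcd m n := Nat.pow_right_injective (le_refl 2) hpow
  have hmn : m ∣ n := by rw [hmg]; exact Nat.gcd_dvd_right m n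
  obtain ⟨k, rfl⟩ := hmn
  refine ⟨k, ?_⟩
  rw [hTcard, hm, hn, pow_mul]

/-- Let G be a nontrivial finite 2-group whose automorphism group permutes the involutions of G transitively. Then every involution of G is central, so that the involutions together with 1 form the subgroup Ω₁(Z(G)), and if this subgroup has order q then |G| is a power of q. -/
theorem result {G : Type*} [Group G] [Finite G] [Nontrivial G] (hG : IsPGroup 2 G) (htrans : ∀ x y : G, x ≠ 1 → x ^ 2 = 1 → y ≠ 1 → y ^ 2 = 1 → ∃ a : MulAut G, a x = y) : (∀ x : G, x ^ 2 = 1 → x ∈ Subgroup.center G) ∧ ∃ m : ℕ, Nat.card G = Nat.card {z : G // z ^ 2 = 1} ^ m :=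
  ⟨center_of_sq hG htrans, result_aux hG htrans⟩

end Cfsg.Agent.S3774
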