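import Cfsg.Statements.S3775
import Mathlib
import Cfsg.Agent.S0660
import Cfsg.Agent.Lib.H18.AbstractCoprime

set_option autoImplicit false
set_option linter.unusedSectionVars false
open Cfsg

namespace Cfsg.Agent.S3775

variable {A : Type*} [CommGroup A]

/-- invariance of a subgroup under a group of automorphisms -/
def Inv (X : Subgroup (MulAut A)) (B : Subgroup A) : Prop := ∀ x ∈ X, ∀ b ∈ B, x b ∈ B

theorem inv_iff (X : Subgroup (MulAut A)) (B : Subgroup A) :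
    (∀ x ∈ X, B.map x.toMonoidHom = B) ↔ Inv X B := by
  constructor
  · intro h x hx b hb
    have : x b ∈ B.map x.toMonoidHom := ⟨b, hb, rfl⟩
    rwa [h x hx] at this
  · intro h x hx
    apply le_antisymm
    · rintro _ ⟨b, hb, rfl⟩
      exact h x hx b hb
    · intro b hb
      refine ⟨x⁻¹ b, h x⁻¹ (inv_mem hx) b hb, ?_⟩
      show x (x⁻¹ b) = b
      simp

/-- restriction of the action to an invariant subgroup -/
def restrictAct (X : Subgroup (MulAut A)) (B : Subgroup A) (hB : Inv X B) : ↥X →* MulAut ↥B where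
  toFun x :=
    { toFun := fun b => ⟨x.1 b.1, hB x.1 x.2 b.1 b.2⟩
      invFun := fun b => ⟨x.1⁻¹ b.1, hB x.1⁻¹ (inv_mem x.2) b.1 b.2⟩
      left_inv := by intro b; apply Subtype.ext; simp
      right_inv := by intro b; apply Subtype.ext; simp
      map_mul' := by intro b c; apply Subtype.ext; simp }
  map_one' := by
    apply MulEquiv.ext; intro b; apply Subtype.ext; simp
  map_mul' := by
    intro x y; apply MulEquiv.ext; intro b; apply Subtype.ext; simp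

theorem restrictAct_apply (X : Subgroup (MulAut A)) (B : Subgroup A) (hB : Inv X B)
    (x : ↥X) (b : ↥B) : ((restrictAct X B hB x b : ↥B) : A) = x.1 b.1 := rfl

section abstract

variable {Y B' : Type*} [Group Y] [CommGroup B']

theorem exists_quotAct (ρ : Y →* MulAut B') (Φ : Subgroup B')
    (hΦ : ∀ y : Y, ∀ b ∈ Φ, ρ y b ∈ Φ) :
    ∃ σ : Y →* MulAut (B' ⧸ Φ), ∀ (y : Y) (b : B'),
      σ y (QuotientGroup.mk b) = QuotientGroup.mk (ρ y b) := by
  have hmap : ∀ y : Y, Φ.map (ρ y : B' →* B') = Φ := by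
    intro y
    apply le_antisymm
    · rintro _ ⟨b, hb, rfl⟩
      exact hΦ y b hb
    · intro b hb
      refine ⟨ρ y⁻¹ b, hΦ y⁻¹ b hb, ?_⟩
      show ρ y (ρ y⁻¹ b) = b
      rw [← MulAut.mul_apply, ← map_mul, mul_inv_cancel, map_one]; rfl
  refine ⟨{ toFun := fun y => QuotientGroup.congr Φ Φ (ρ y) (hmap y)
            map_one' := ?_
            map_mul' := ?_ }, ?_⟩
  · apply MulEquiv.ext
    intro v
    induction v using QuotientGroup.induction_on with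
    | H x => rw [QuotientGroup.congr_mk, map_one]; rfl
  · intro a b
    apply MulEquiv.ext
    intro v
    induction v using QuotientGroup.induction_on with
    | H x =>
      rw [QuotientGroup.congr_mk, MulAut.mul_apply, QuotientGroup.congr_mk,
        QuotientGroup.congr_mk, map_mul]; rfl
  · intro y b
    show QuotientGroup.congr Φ Φ (ρ y) (hmap y) (QuotientGroup.mk b) = _
    rw [QuotientGroup.congr_mk]

theorem section_maschke [Finite Y] [Finite B'] (ρ : Y →* MulAut B')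
    (hcop : (Nat.card Y).Coprime (Nat.card B')) {p : ℕ} [Fact p.Prime] (Φ K : Subgroup B')
    (hΦK : Φ ≤ K) (hΦ : ∀ y : Y, ∀ b ∈ Φ, ρ y b ∈ Φ) (hK : ∀ y : Y, ∀ b ∈ K, ρ y b ∈ K)
    (hexp : ∀ b : B', b ^ p ∈ Φ) :
    ∃ B₁ : Subgroup B', (∀ y : Y, ∀ b ∈ B₁, ρ y b ∈ B₁) ∧ Φ ≤ B₁ ∧ B₁ ⊓ K = Φ ∧ B₁ ⊔ K = ⊤ := by
  obtain ⟨σ, hσ⟩ := exists_quotAct ρ Φ hΦ
  set π := QuotientGroup.mk' Φ with hπ
  have hπs : Function.Surjective π := QuotientGroup.mk'_surjective Φ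
  have hV : ∀ v : B' ⧸ Φ, v ^ p = 1 := by
    intro v
    obtain ⟨b, rfl⟩ := hπs v
    rw [← map_pow]
    exact (QuotientGroup.eq_one_iff _).mpr (hexp b)
  set U : Subgroup (B' ⧸ Φ) := K.map π with hU
  have hUinv : ∀ a u, u ∈ U → σ a u ∈ U := by
    rintro a _ ⟨k, hk, rfl⟩
    exact ⟨ρ a k, hK a k hk, (hσ a k).symm⟩
  obtain ⟨W, hUW, hUW'⟩ := Cfsg.Agent.Lib.H18.exists_complement_of_exponent hV U
  have hcop' : (Nat.card Y).Coprime (Nat.card (B' ⧸ Φ)) := by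
    apply Nat.Coprime.coprime_dvd_right _ hcop
    rw [← Subgroup.index_eq_card]
    exact Subgroup.index_dvd_card _
  obtain ⟨W', hW'inv, hUW₁, hUW₂⟩ :=
    Cfsg.Agent.S0660.abstract_complement σ hcop' U W hUinv hUW hUW'
  refine ⟨W'.comap π, ?_, ?_, ?_, ?_⟩
  · intro y b hb
    rw [Subgroup.mem_comap] at hb ⊢
    have := hW'inv y _ hb
    rwa [show σ y (π b) = π (ρ y b) from hσ y b] at this
  · intro b hb
    rw [Subgroup.mem_comap]
    have : π b = 1 := (QuotientGroup.eq_one_iff b).mpr hb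
    rw [this]; exact one_mem _
  · apply le_antisymm
    · intro b hb
      obtain ⟨hb1, hb2⟩ := Subgroup.mem_inf.mp hb
      rw [Subgroup.mem_comap] at hb1
      have : π b ∈ U ⊓ W' := Subgroup.mem_inf.mpr ⟨⟨b, hb2, rfl⟩, hb1⟩
      rw [hUW₁, Subgroup.mem_bot] at this
      exact (QuotientGroup.eq_one_iff b).mp this
    · intro b hb
      refine Subgroup.mem_inf.mpr ⟨?_, hΦK hb⟩
      rw [Subgroup.mem_comap]
      have : π b = 1 := (QuotientGroup.eq_one_iff b).mpr hb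
      rw [this]; exact one_mem _
  · rw [eq_top_iff]
    intro b _
    have hb : π b ∈ U ⊔ W' := by rw [hUW₂]; trivial
    obtain ⟨u, hu, w, hw, huw⟩ := Subgroup.mem_sup.mp hb
    obtain ⟨k, hk, rfl⟩ := hu
    obtain ⟨b₁, rfl⟩ := hπs w
    have h1 : (k * b₁)⁻¹ * b ∈ Φ := by
      rw [← QuotientGroup.eq_one_iff]
      show π ((k * b₁)⁻¹ * b) = 1
      rw [map_mul, map_inv, map_mul, huw, inv_mul_cancel]
    have h2 : b = (b₁ * ((k * b₁)⁻¹ * b)) * k := by
      rw [mul_comm _ k, ← mul_assoc k b₁, mul_inv_cancel_left]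
    rw [h2]
    refine mul_mem (Subgroup.mem_sup_left ?_) (Subgroup.mem_sup_right hk)
    rw [Subgroup.mem_comap, map_mul]
    refine mul_mem hw ?_
    have : π ((k * b₁)⁻¹ * b) = 1 := (QuotientGroup.eq_one_iff _).mpr h1
    rw [this]; exact one_mem _

end abstract

section concrete

variable [Finite A] {p : ℕ} [Fact p.Prime] (X : Subgroup (MulAut A))

theorem section_maschke' (hA : IsPGroup p A) (hcop : (Nat.card X).Coprime p) {Φ K B : Subgroup A}
    (hΦK : Φ ≤ K) (hKB : K ≤ B) (hΦ : Inv X Φ) (hK : Inv X K) (hB : Inv X B)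
    (hexp : ∀ b ∈ B, b ^ p ∈ Φ) :
    ∃ B₁ : Subgroup A, Inv X B₁ ∧ Φ ≤ B₁ ∧ B₁ ≤ B ∧ B₁ ⊓ K = Φ ∧ B₁ ⊔ K = B := by
  have hcop' : (Nat.card ↥X).Coprime (Nat.card ↥B) := by
    obtain ⟨k, hk⟩ := IsPGroup.iff_card.mp (hA.to_subgroup B)
    rw [hk]; exact Nat.Coprime.pow_right k hcop
  obtain ⟨B₁, h1, h2, h3, h4⟩ := section_maschke (restrictAct X B hB) hcop' (p := p)
    (Φ.subgroupOf B) (K.subgroupOf B)
    (fun b hb => by rw [Subgroup.mem_subgroupOf] at hb ⊢; exact hΦK hb)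
    (fun y b hb => by
      rw [Subgroup.mem_subgroupOf] at hb ⊢
      rw [restrictAct_apply]; exact hΦ y.1 y.2 _ hb)
    (fun y b hb => by
      rw [Subgroup.mem_subgroupOf] at hb ⊢
      rw [restrictAct_apply]; exact hK y.1 y.2 _ hb)
    (fun b => by
      rw [Subgroup.mem_subgroupOf, Subgroup.coe_pow]; exact hexp b.1 b.2)
  refine ⟨B₁.map B.subtype, ?_, ?_, ?_, ?_, ?_⟩
  · rintro x hx _ ⟨b, hb, rfl⟩
    exact ⟨restrictAct X B hB ⟨x, hx⟩ b, h1 ⟨x, hx⟩ b hb, rfl⟩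
  · intro a ha
    exact ⟨⟨a, hKB (hΦK ha)⟩, h2 (Subgroup.mem_subgroupOf.mpr ha), rfl⟩
  · rintro _ ⟨b, _, rfl⟩
    exact b.2
  · apply le_antisymm
    · intro a ha
      obtain ⟨⟨b, hb, rfl⟩, haK⟩ := Subgroup.mem_inf.mp ha
      have : b ∈ B₁ ⊓ K.subgroupOf B := Subgroup.mem_inf.mpr ⟨hb, Subgroup.mem_subgroupOf.mpr haK⟩
      rw [h3, Subgroup.mem_subgroupOf] at this
      exact this
    · intro a ha
      refine Subgroup.mem_inf.mpr ⟨⟨⟨a, hKB (hΦK ha)⟩, h2 (Subgroup.mem_subgroupOf.mpr ha), rfl⟩,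
        hΦK ha⟩
  · apply le_antisymm
    · apply sup_le
      · rintro _ ⟨b, _, rfl⟩
        exact b.2
      · exact hKB
    · intro a ha
      have : (⟨a, ha⟩ : ↥B) ∈ B₁ ⊔ K.subgroupOf B := by rw [h4]; trivial
      obtain ⟨y, hy, z, hz, hyz⟩ := Subgroup.mem_sup.mp this
      have h5 : a = (y : A) * (z : A) := by
        have := congrArg Subtype.val hyz
        simpa using this.symm
      rw [h5]
      exact mul_mem (Subgroup.mem_sup_left ⟨y, hy, rfl⟩)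
        (Subgroup.mem_sup_right (Subgroup.mem_subgroupOf.mp hz))

/-- a complement exists for a subgroup `B` in which elements killed by `p^(e-1)` are `p`-th powers -/
theorem exists_complement_of_pure (e : ℕ) (he : 1 ≤ e) (hexpA : ∀ a : A, a ^ p ^ e = 1)
    (B : Subgroup A) (hstar : ∀ b ∈ B, b ^ p ^ (e - 1) = 1 → ∃ d ∈ B, d ^ p = b) :
    ∃ C : Subgroup A, B ⊓ C = ⊥ ∧ B ⊔ C = ⊤ := by
  have hp := (Fact.out : p.Prime)
  obtain ⟨C, -, hC⟩ := Finite.exists_le_maximal (p := fun C : Subgroup A => B ⊓ C = ⊥)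
    (a := ⊥) (inf_bot_eq _)
  refine ⟨C, hC.1, ?_⟩
  by_contra hne
  obtain ⟨a₀, ha₀⟩ : ∃ a : A, a ∉ B ⊔ C := by
    by_contra h
    push Not at h
    exact hne (eq_top_iff.mpr (fun a _ => h a))
  -- an element outside `B ⊔ C` whose `p`-th power is inside
  obtain ⟨a, ha, hap⟩ : ∃ a : A, a ∉ B ⊔ C ∧ a ^ p ∈ B ⊔ C := by
    have hex : ∃ j : ℕ, a₀ ^ p ^ j ∈ B ⊔ C := ⟨e, by rw [hexpA]; exact one_mem _⟩
    classical
    have hj := Nat.find_spec hex
    have hmin := fun m => Nat.find_min hex (m := m)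
    set j := Nat.find hex with hjdef
    have hj0 : j ≠ 0 := by
      intro h0
      rw [h0, pow_zero, pow_one] at hj
      exact ha₀ hj
    obtain ⟨i, hi⟩ := Nat.exists_eq_succ_of_ne_zero hj0
    refine ⟨a₀ ^ p ^ i, hmin i (by omega), ?_⟩
    rw [← pow_mul, ← pow_succ]
    rw [hi] at hj
    exact hj
  obtain ⟨b, hb, c, hc, hbc⟩ := Subgroup.mem_sup.mp hap
  have hb1 : b ^ p ^ (e - 1) = 1 := by
    have h1 : b ^ p ^ (e - 1) ∈ B ⊓ C := by
      refine Subgroup.mem_inf.mpr ⟨pow_mem hb _, ?_⟩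
      have h2 : b = a ^ p * c⁻¹ := by rw [← hbc]; group
      have h3 : b ^ p ^ (e - 1) = (c ^ p ^ (e - 1))⁻¹ := by
        rw [h2, mul_pow, ← pow_mul, ← pow_succ', Nat.sub_add_cancel he, hexpA, one_mul, inv_pow]
      rw [h3]
      exact inv_mem (pow_mem hc _)
    rw [hC.1, Subgroup.mem_bot] at h1
    exact h1
  obtain ⟨b₁, hb₁, hb₁p⟩ := hstar b hb hb1
  set a' := a * b₁⁻¹ with ha'
  have ha'n : a' ∉ B ⊔ C := by
    intro h
    apply ha
    have : a = a' * b₁ := by rw [ha']; group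
    rw [this]
    exact mul_mem h (Subgroup.mem_sup_left hb₁)
  have ha'p : a' ^ p = c := by
    rw [ha', mul_pow, inv_pow, hb₁p, ← hbc, mul_comm b c, mul_assoc, mul_inv_cancel, mul_one]
  -- enlarge `C`
  have hC' : B ⊓ (C ⊔ Subgroup.zpowers a') ≠ ⊥ := by
    intro h
    have := hC.2 h le_sup_left
    exact ha'n (Subgroup.mem_sup_right (this (Subgroup.mem_sup_right (Subgroup.mem_zpowers a'))))
  obtain ⟨b', hb'1⟩ := (Subgroup.ne_bot_iff_exists_ne_one).mp hC'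
  obtain ⟨hb'B, hb'C⟩ := Subgroup.mem_inf.mp b'.2
  obtain ⟨c', hc', z, hz, hcz⟩ := Subgroup.mem_sup.mp hb'C
  obtain ⟨k, rfl⟩ := Subgroup.mem_zpowers_iff.mp hz
  by_cases hk : (p : ℤ) ∣ k
  · obtain ⟨m, rfl⟩ := hk
    have h1 : a' ^ ((p : ℤ) * m) ∈ C := by
      rw [zpow_mul, zpow_natCast, ha'p]
      exact zpow_mem hc m
    have h2 : (b' : A) ∈ B ⊓ C := by
      refine Subgroup.mem_inf.mpr ⟨hb'B, ?_⟩
      rw [← hcz]; exact mul_mem hc' h1
    rw [hC.1, Subgroup.mem_bot] at h2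
    apply hb'1
    exact Subtype.ext h2
  · have hcop : IsCoprime k (p : ℤ) := by
      have := (Nat.prime_iff_prime_int.mp hp)
      exact ((Prime.coprime_iff_not_dvd this).mpr hk).symm
    obtain ⟨u, v, huv⟩ := hcop
    apply ha'n
    have h1 : a' ^ k ∈ B ⊔ C := by
      have : a' ^ k = c'⁻¹ * (b' : A) := by rw [← hcz]; group
      rw [this]
      exact mul_mem (Subgroup.mem_sup_right (inv_mem hc')) (Subgroup.mem_sup_left hb'B)
    have h2 : a' ^ (p : ℤ) ∈ B ⊔ C := by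
      rw [zpow_natCast, ha'p]; exact Subgroup.mem_sup_right hc
    have h3 : a' = (a' ^ k) ^ u * (a' ^ (p : ℤ)) ^ v := by
      rw [← zpow_mul, ← zpow_mul, ← zpow_add, mul_comm k u, mul_comm (p : ℤ) v, huv, zpow_one]
    rw [h3]
    exact mul_mem (zpow_mem h1 u) (zpow_mem h2 v)

theorem map_pow' (x : MulAut A) (a : A) (n : ℕ) : x (a ^ n) = (x a) ^ n := map_pow x a n

theorem exists_factor (hA : IsPGroup p A) (hcop : (Nat.card X).Coprime p)
    (e : ℕ) (he : 1 ≤ e) (hexpA : ∀ a : A, a ^ p ^ e = 1)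
    (T : Subgroup A) (hT : Inv X T) (hTθ : ∀ t ∈ T, ∃ a : A, a ^ p ^ (e - 1) = t) :
    ∃ B C : Subgroup A, Inv X B ∧ B ⊓ C = ⊥ ∧ B ⊔ C = ⊤ ∧
      (∀ t ∈ T, ∃ b ∈ B, b ^ p ^ (e - 1) = t) ∧ (∀ b ∈ B, b ^ p = 1 → b ∈ T) := by
  have hp := (Fact.out : p.Prime)
  set P : Subgroup A → Prop := fun B => Inv X B ∧ ∀ t ∈ T, ∃ b ∈ B, b ^ p ^ (e - 1) = t with hP
  have hPtop : P ⊤ := by
    refine ⟨fun x _ b _ => Subgroup.mem_top _, ?_⟩
    intro t ht
    obtain ⟨a, ha⟩ := hTθ t ht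
    exact ⟨a, Subgroup.mem_top a, ha⟩
  obtain ⟨B, -, hBmin⟩ := Finite.exists_le_minimal (p := P) (a := ⊤) hPtop
  obtain ⟨hBinv, hBT⟩ := hBmin.1
  -- Step 1: `θ(B) ≤ T`
  have hstep1 : ∀ b ∈ B, b ^ p ^ (e - 1) ∈ T := by
    set B₀ : Subgroup A := B ⊓ T.comap (powMonoidHom (p ^ (e - 1))) with hB₀
    have hPB₀ : P B₀ := by
      constructor
      · intro x hx b hb
        obtain ⟨hb1, hb2⟩ := Subgroup.mem_inf.mp hb
        refine Subgroup.mem_inf.mpr ⟨hBinv x hx b hb1, ?_⟩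
        rw [Subgroup.mem_comap, powMonoidHom_apply] at hb2 ⊢
        rw [← map_pow' x]
        exact hT x hx _ hb2
      · intro t ht
        obtain ⟨b, hb, hbt⟩ := hBT t ht
        refine ⟨b, Subgroup.mem_inf.mpr ⟨hb, ?_⟩, hbt⟩
        rw [Subgroup.mem_comap, powMonoidHom_apply, hbt]
        exact ht
    have hle : B ≤ B₀ := hBmin.2 hPB₀ inf_le_left
    intro b hb
    have := (Subgroup.mem_inf.mp (hle hb)).2
    rwa [Subgroup.mem_comap, powMonoidHom_apply] at this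
  -- Step 2: (*)
  have hstar : ∀ b ∈ B, b ^ p ^ (e - 1) = 1 → ∃ d ∈ B, d ^ p = b := by
    set K : Subgroup A := B ⊓ (powMonoidHom (p ^ (e - 1)) : A →* A).ker with hK
    set Φ : Subgroup A := B.map (powMonoidHom p) with hΦ
    have hΦK : Φ ≤ K := by
      rintro _ ⟨d, hd, rfl⟩
      refine Subgroup.mem_inf.mpr ⟨?_, ?_⟩
      · rw [powMonoidHom_apply]; exact pow_mem hd p
      · rw [MonoidHom.mem_ker, powMonoidHom_apply, powMonoidHom_apply, ← pow_mul, ← pow_succ',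
          Nat.sub_add_cancel he]
        exact hexpA d
    have hΦinv : Inv X Φ := by
      rintro x hx _ ⟨d, hd, rfl⟩
      refine ⟨x d, hBinv x hx d hd, ?_⟩
      rw [powMonoidHom_apply, powMonoidHom_apply, map_pow' x]
    have hKinv : Inv X K := by
      intro x hx b hb
      obtain ⟨hb1, hb2⟩ := Subgroup.mem_inf.mp hb
      refine Subgroup.mem_inf.mpr ⟨hBinv x hx b hb1, ?_⟩
      rw [MonoidHom.mem_ker, powMonoidHom_apply] at hb2 ⊢
      rw [← map_pow' x, hb2, map_one]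
    obtain ⟨B₁, h1, h2, h3, h4, h5⟩ := section_maschke' X hA hcop hΦK inf_le_left hΦinv hKinv hBinv
      (fun b hb => ⟨b, hb, rfl⟩)
    have hPB₁ : P B₁ := by
      refine ⟨h1, ?_⟩
      intro t ht
      obtain ⟨b, hb, hbt⟩ := hBT t ht
      rw [← h5] at hb
      obtain ⟨y, hy, z, hz, rfl⟩ := Subgroup.mem_sup.mp hb
      refine ⟨y, hy, ?_⟩
      have hz2 := (Subgroup.mem_inf.mp hz).2
      rw [MonoidHom.mem_ker, powMonoidHom_apply] at hz2
      rw [← hbt, mul_pow, hz2, mul_one]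
    have hle : B ≤ B₁ := hBmin.2 hPB₁ h3
    have hKΦ : K = Φ := by
      rw [← h4]
      apply le_antisymm
      · exact le_inf (inf_le_left.trans hle) le_rfl
      · exact inf_le_right
    intro b hb hb1
    have : b ∈ K := Subgroup.mem_inf.mpr ⟨hb, by rw [MonoidHom.mem_ker, powMonoidHom_apply]; exact hb1⟩
    rw [hKΦ] at this
    obtain ⟨d, hd, hdb⟩ := this
    exact ⟨d, hd, hdb⟩
  -- Step 3: (**)
  have hss : ∀ j : ℕ, j ≤ e → ∀ b ∈ B, b ^ p ^ (e - j) = 1 → ∃ c ∈ B, c ^ p ^ j = b := by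
    intro j
    induction j with
    | zero => intro _ b hb _; exact ⟨b, hb, by rw [pow_zero, pow_one]⟩
    | succ j ih =>
      intro hj b hb hb1
      have h1 : b ^ p ^ (e - j) = 1 := by
        have : e - j = (e - (j + 1)) + 1 := by omega
        rw [this, pow_succ, pow_mul, hb1, one_pow]
      obtain ⟨c, hc, hcb⟩ := ih (by omega) b hb h1
      have h2 : c ^ p ^ (e - 1) = 1 := by
        have : e - 1 = j + (e - (j + 1)) := by omega
        rw [this, pow_add, pow_mul, hcb, hb1]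
      obtain ⟨d, hd, hdc⟩ := hstar c hc h2
      refine ⟨d, hd, ?_⟩
      rw [pow_succ', pow_mul, hdc, hcb]
  -- Step 4
  have hΩ : ∀ b ∈ B, b ^ p = 1 → b ∈ T := by
    intro b hb hb1
    have h1 : b ^ p ^ (e - (e - 1)) = 1 := by
      have : e - (e - 1) = 1 := by omega
      rw [this, pow_one]; exact hb1
    obtain ⟨c, hc, hcb⟩ := hss (e - 1) (by omega) b hb h1
    rw [← hcb]
    exact hstep1 c hc
  obtain ⟨C, hC1, hC2⟩ := exists_complement_of_pure e he hexpA B hstar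
  exact ⟨B, C, hBinv, hC1, hC2, hBT, hΩ⟩

end concrete

section main

variable [Finite A] {p : ℕ} [Fact p.Prime] (X : Subgroup (MulAut A))

/-- (III) ⇒ (II) -/
theorem three_imp_two (hA : IsPGroup p A)
    (h3 : ∀ B : Subgroup A, Inv X B → (∀ b ∈ B, b ^ p = 1) → B = ⊥ ∨ ∀ a : A, a ∈ B ↔ a ^ p = 1)
    (B : Subgroup A) (hB : Inv X B) : ∃ i : ℕ, ∀ a : A, a ∈ B ↔ a ^ p ^ i = 1 := by
  have hp := (Fact.out : p.Prime)
  by_cases hbot : B = ⊥
  · refine ⟨0, fun a => ?_⟩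
    rw [hbot, Subgroup.mem_bot, pow_zero, pow_one]
  classical
  have hex : ∃ i : ℕ, ∀ b ∈ B, b ^ p ^ i = 1 := by
    obtain ⟨n, hn⟩ := IsPGroup.iff_card.mp hA
    exact ⟨n, fun b _ => by rw [← hn]; exact pow_card_eq_one'⟩
  set i := Nat.find hex with hi
  have hspec := Nat.find_spec hex
  have hmin := fun m => Nat.find_min hex (m := m)
  have hi0 : i ≠ 0 := by
    intro h0
    apply hbot
    rw [eq_bot_iff]
    intro b hb
    have := hspec b hb
    rw [← hi, h0, pow_zero, pow_one] at this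
    rw [Subgroup.mem_bot]; exact this
  obtain ⟨j, hj⟩ := Nat.exists_eq_succ_of_ne_zero hi0
  -- `B^(p^j) = Ω₁(A)`
  set B' : Subgroup A := B.map (powMonoidHom (p ^ j)) with hB'
  have hB'inv : Inv X B' := by
    rintro x hx _ ⟨d, hd, rfl⟩
    refine ⟨x d, hB x hx d hd, ?_⟩
    rw [powMonoidHom_apply, powMonoidHom_apply, map_pow' x]
  have hB'p : ∀ b ∈ B', b ^ p = 1 := by
    rintro _ ⟨d, hd, rfl⟩
    rw [powMonoidHom_apply, ← pow_mul, ← pow_succ, ← Nat.succ_eq_add_one, ← hj]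
    exact hspec d hd
  have hB'ne : B' ≠ ⊥ := by
    intro h
    apply hmin j (by omega)
    intro b hb
    have : b ^ p ^ j ∈ B' := ⟨b, hb, rfl⟩
    rw [h, Subgroup.mem_bot] at this
    exact this
  have hΩ : ∀ a : A, a ^ p = 1 → a ∈ B' := by
    rcases h3 B' hB'inv hB'p with h | h
    · exact absurd h hB'ne
    · intro a ha; exact (h a).mpr ha
  -- `Ω_m(A) ≤ B` for `m ≤ i`
  have key : ∀ m : ℕ, m ≤ i → ∀ a : A, a ^ p ^ m = 1 → a ∈ B := by
    intro m
    induction m with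
    | zero =>
      intro _ a ha
      rw [pow_zero, pow_one] at ha
      rw [ha]; exact one_mem _
    | succ m ih =>
      intro hm a ha
      have h1 : (a ^ p ^ m) ^ p = 1 := by rw [← pow_mul, ← pow_succ]; exact ha
      obtain ⟨b, hb, hba⟩ := hΩ _ h1
      rw [powMonoidHom_apply] at hba
      -- c = b^(p^(j-m))
      have hmj : m ≤ j := by omega
      set c := b ^ p ^ (j - m) with hc
      have hcB : c ∈ B := pow_mem hb _
      have hcm : c ^ p ^ m = a ^ p ^ m := by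
        rw [hc, ← pow_mul, ← pow_add, Nat.sub_add_cancel hmj]; exact hba
      have h2 : (a * c⁻¹) ^ p ^ m = 1 := by
        rw [mul_pow, inv_pow, hcm, mul_inv_cancel]
      have h3' := ih (by omega) _ h2
      have : a = (a * c⁻¹) * c := by group
      rw [this]
      exact mul_mem h3' hcB
  refine ⟨i, fun a => ⟨fun ha => hspec a ha, fun ha => key i le_rfl a ha⟩⟩

/-- (I) ⇒ (III) -/
theorem one_imp_three (hA : IsPGroup p A) (hcop : (Nat.card X).Coprime p)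
    (h1 : ¬ ∃ B C : Subgroup A, B ≠ ⊥ ∧ C ≠ ⊥ ∧ Inv X B ∧ Inv X C ∧ B ⊓ C = ⊥ ∧ B ⊔ C = ⊤)
    (T₀ : Subgroup A) (hT₀ : Inv X T₀) (hT₀p : ∀ b ∈ T₀, b ^ p = 1) :
    T₀ = ⊥ ∨ ∀ a : A, a ∈ T₀ ↔ a ^ p = 1 := by
  have hp := (Fact.out : p.Prime)
  by_contra hcon
  rw [not_or] at hcon
  obtain ⟨hT₀ne, hnall⟩ := hcon
  obtain ⟨a₀, ha₀p, ha₀T⟩ : ∃ a : A, a ^ p = 1 ∧ a ∉ T₀ := by
    by_contra h
    push Not at h
    exact hnall (fun a => ⟨hT₀p a, h a⟩)
  classical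
  have hex : ∃ e : ℕ, ∀ a : A, a ^ p ^ e = 1 := by
    obtain ⟨n, hn⟩ := IsPGroup.iff_card.mp hA
    exact ⟨n, fun b => by rw [← hn]; exact pow_card_eq_one'⟩
  set e := Nat.find hex with he
  have hspec := Nat.find_spec hex
  have hmin := fun m => Nat.find_min hex (m := m)
  have he0 : e ≠ 0 := by
    intro h0
    apply hT₀ne
    rw [eq_bot_iff]
    intro b _
    have := hspec b
    rw [← he, h0, pow_zero, pow_one] at this
    rw [Subgroup.mem_bot]; exact this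
  have he1 : 1 ≤ e := Nat.one_le_iff_ne_zero.mpr he0
  set S : Subgroup A := (powMonoidHom (p ^ (e - 1)) : A →* A).range with hS
  have hSinv : Inv X S := by
    rintro x hx _ ⟨d, rfl⟩
    refine ⟨x d, ?_⟩
    rw [powMonoidHom_apply, powMonoidHom_apply, map_pow' x]
  have hSp : ∀ b ∈ S, b ^ p = 1 := by
    rintro _ ⟨d, rfl⟩
    rw [powMonoidHom_apply, ← pow_mul, ← pow_succ, Nat.sub_add_cancel he1]
    exact hspec d
  have hSne : S ≠ ⊥ := by
    intro h
    apply hmin (e - 1) (by omega)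
    intro b
    have : b ^ p ^ (e - 1) ∈ S := ⟨b, rfl⟩
    rw [h, Subgroup.mem_bot] at this
    exact this
  -- choose `T`
  obtain ⟨T, hTinv, hTne, hTS, a₁, ha₁p, ha₁T⟩ : ∃ T : Subgroup A, Inv X T ∧ T ≠ ⊥ ∧ T ≤ S ∧
      ∃ a : A, a ^ p = 1 ∧ a ∉ T := by
    by_cases hall : ∀ a : A, a ^ p = 1 → a ∈ S
    · exact ⟨T₀, hT₀, hT₀ne, fun b hb => hall b (hT₀p b hb), a₀, ha₀p, ha₀T⟩
    · push Not at hall
      obtain ⟨a, hap, haS⟩ := hall
      exact ⟨S, hSinv, hSne, le_rfl, a, hap, haS⟩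
  obtain ⟨B, C₀, hBinv, hBC1, hBC2, hBT, hBΩ⟩ := exists_factor X hA hcop e he1 hspec T hTinv
    (fun t ht => by
      obtain ⟨a, ha⟩ := hTS ht
      exact ⟨a, by rw [← ha, powMonoidHom_apply]⟩)
  have hcop' : (Nat.card ↥X).Coprime (Nat.card A) := by
    obtain ⟨n, hn⟩ := IsPGroup.iff_card.mp hA
    rw [hn]; exact Nat.Coprime.pow_right n hcop
  obtain ⟨C, hCinv, hC1, hC2⟩ := Cfsg.Agent.S0660.abstract_complement (X.subtype) hcop' B C₀
    (fun a u hu => hBinv a.1 a.2 u hu) hBC1 hBC2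
  apply h1
  refine ⟨B, C, ?_, ?_, hBinv, fun x hx c hc => hCinv ⟨x, hx⟩ c hc, hC1, hC2⟩
  · intro hB
    obtain ⟨t, ht1⟩ := (Subgroup.ne_bot_iff_exists_ne_one).mp hTne
    obtain ⟨b, hb, hbt⟩ := hBT t.1 t.2
    rw [hB, Subgroup.mem_bot] at hb
    rw [hb, one_pow] at hbt
    exact ht1 (Subtype.ext hbt.symm)
  · intro hC
    rw [hC, sup_bot_eq] at hC2
    apply ha₁T
    apply hBΩ a₁ _ ha₁p
    rw [hC2]; trivial

end main

/-- Let A be a finite abelian p-group and X a group of automorphisms of A of order prime to p. Call a subgroup of A invariant when every element of X maps it onto itself. Then the following are equivalent: (i) A is not the direct product of two nontrivial invariant subgroups; (ii) every invariant subgroup of A is one of the subgroups Ω_i(A) = {a : a^(p^i) = 1}; (iii) the subgroup Ω₁(A) of elements of order dividing p has no invariant subgroups other than 1 and itself. -/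
theorem result {A : Type*} [CommGroup A] [Finite A] {p : ℕ} [Fact p.Prime] (hA : IsPGroup p A) (X : Subgroup (MulAut A)) (hX : (Nat.card X).Coprime p) : ((¬ ∃ B C : Subgroup A, B ≠ ⊥ ∧ C ≠ ⊥ ∧ (∀ x ∈ X, B.map x.toMonoidHom = B) ∧ (∀ x ∈ X, C.map x.toMonoidHom = C) ∧ B ⊓ C = ⊥ ∧ B ⊔ C = ⊤) ↔ (∀ B : Subgroup A, (∀ x ∈ X, B.map x.toMonoidHom = B) → ∃ i : ℕ, ∀ a : A, a ∈ B ↔ a ^ p ^ i = 1)) ∧ ((∀ B : Subgroup A, (∀ x ∈ X, B.map x.toMonoidHom = B) → ∃ i : ℕ, ∀ a : A, a ∈ B ↔ a ^ p ^ i = 1) ↔ (∀ B : Subgroup A, (∀ x ∈ X, B.map x.toMonoidHom = B) → (∀ b ∈ B, b ^ p = 1) → B = ⊥ ∨ ∀ a : A, a ∈ B ↔ a ^ p = 1)) := by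
  have hp := (Fact.out : p.Prime)
  simp only [inv_iff]
  -- (II) ⇒ (III)
  have h23 : (∀ B : Subgroup A, Inv X B → ∃ i : ℕ, ∀ a : A, a ∈ B ↔ a ^ p ^ i = 1) →
      (∀ B : Subgroup A, Inv X B → (∀ b ∈ B, b ^ p = 1) → B = ⊥ ∨ ∀ a : A, a ∈ B ↔ a ^ p = 1) := by
    intro h2 B hB hBp
    obtain ⟨i, hi⟩ := h2 B hB
    rcases Nat.eq_zero_or_pos i with rfl | hipos
    · left
      rw [eq_bot_iff]
      intro b hb
      have := (hi b).mp hb
      rw [pow_zero, pow_one] at this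
      rw [Subgroup.mem_bot]; exact this
    · right
      intro a
      refine ⟨hBp a, fun ha => (hi a).mpr ?_⟩
      obtain ⟨k, rfl⟩ := Nat.exists_eq_succ_of_ne_zero hipos.ne'
      rw [pow_succ', pow_mul, ha, one_pow]
  have h32 := three_imp_two X hA
  -- (II) ⇒ (I)
  have h21 : (∀ B : Subgroup A, Inv X B → ∃ i : ℕ, ∀ a : A, a ∈ B ↔ a ^ p ^ i = 1) →
      ¬ ∃ B C : Subgroup A, B ≠ ⊥ ∧ C ≠ ⊥ ∧ Inv X B ∧ Inv X C ∧ B ⊓ C = ⊥ ∧ B ⊔ C = ⊤ := by
    rintro h2 ⟨B, C, hB, hC, hBi, hCi, hBC, -⟩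
    obtain ⟨i, hi⟩ := h2 B hBi
    obtain ⟨j, hj⟩ := h2 C hCi
    have hpow : ∀ (m n : ℕ) (a : A), m ≤ n → a ^ p ^ m = 1 → a ^ p ^ n = 1 := by
      intro m n a hmn ha
      obtain ⟨k, rfl⟩ := Nat.exists_eq_add_of_le hmn
      rw [pow_add, pow_mul, ha, one_pow]
    rcases le_total i j with hij | hij
    · apply hB
      rw [eq_bot_iff, ← hBC]
      intro b hb
      exact Subgroup.mem_inf.mpr ⟨hb, (hj b).mpr (hpow i j b hij ((hi b).mp hb))⟩
    · apply hC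
      rw [eq_bot_iff, ← hBC]
      intro c hc
      exact Subgroup.mem_inf.mpr ⟨(hi c).mpr (hpow j i c hij ((hj c).mp hc)), hc⟩
  refine ⟨⟨fun h1 => h32 (fun B hB hBp => one_imp_three X hA hX h1 B hB hBp), h21⟩, ⟨h23, h32⟩⟩

end Cfsg.Agent.S3775
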