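import Cfsg.Statements.S3776
import Cfsg.Agent.Lib.H9.S3776Asm3
import Cfsg.Agent.Lib.H4.S3776Frame
import Cfsg.Agent.Lib.H2.S3776SubIH
import Cfsg.Agent.Lib.H12.S3776LemE
import Cfsg.Agent.Lib.H7.S3776LemEM
import Cfsg.Agent.Lib.H13.S3776S1
import Cfsg.Agent.Lib.H26.S3776S1Q
import Cfsg.Agent.Lib.H24.S3776S1C
import Cfsg.Agent.Lib.H14.S3776K1Ex
import Cfsg.Agent.Lib.H3.S3776S2AW
import Cfsg.Agent.Lib.H6.S3776S2B
import Cfsg.Agent.Lib.H21.S3776R0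
import Cfsg.Agent.Lib.H19.S3776R1
import Cfsg.Agent.Lib.H5.S3776R23W
import Cfsg.Agent.Lib.H29.S3776Fin

set_option autoImplicit false
open Cfsg

namespace Cfsg.Agent.S3776

/-- Let G be a finite non-abelian 2-group with more than one involution admitting a solvable group of automorphisms that permutes its involutions transitively. Then the derived subgroup, the Frattini subgroup and the centre of G coincide and consist exactly of the elements x with x² = 1. -/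
theorem result {G : Type*} [Group G] [Finite G] (hG : IsPGroup 2 G) (hna : ¬ IsMulCommutative G) (htwo : ∃ x y : G, x ≠ y ∧ x ≠ 1 ∧ x ^ 2 = 1 ∧ y ≠ 1 ∧ y ^ 2 = 1) (hY : ∃ Y : Subgroup (MulAut G), Group.IsSolvable Y ∧ ∀ x y : G, x ≠ 1 → x ^ 2 = 1 → y ≠ 1 → y ^ 2 = 1 → ∃ a ∈ Y, a x = y) : commutator G = frattini G ∧ frattini G = Subgroup.center G ∧ ∀ x : G, x ∈ Subgroup.center G ↔ x ^ 2 = 1 := by
  exact Cfsg.Agent.Lib.H29.S3776Fin.fin
    (Cfsg.Agent.Lib.H9.S3776.star_of3 Cfsg.Agent.Lib.H4.S3776Frame.frame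
      Cfsg.Agent.Lib.H2.S3776SubIH.subih
      (Cfsg.Agent.H7.S3776LemEM.lemem Cfsg.Agent.Lib.H12.S3776LemE.leme)
      Cfsg.Agent.Lib.H13.S3776S1.s1a Cfsg.Agent.Lib.H26.S3776S1Q.s1q
      Cfsg.Agent.Lib.H13.S3776S1.s1b Cfsg.Agent.Lib.H24.S3776S1C.s1c
      Cfsg.Agent.Lib.H14.S3776K1Ex.k1ex Cfsg.Agent.Lib.H3.S3776S2AW.s2a
      Cfsg.Agent.Lib.H6.S3776S2B.s2b Cfsg.Agent.Lib.H21.S3776R0.r0
      Cfsg.Agent.Lib.H19.S3776R1.r1 Cfsg.Agent.Lib.H5.S3776R23W.r23')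
    G hG hna htwo hY

end Cfsg.Agent.S3776
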