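import Mathlib
import Cfsg.Statements.S3778

set_option autoImplicit false
open Cfsg
open scoped commutatorElement

namespace Cfsg.Agent.S3778

variable {G : Type*} [Group G]

/-- Lower central series of `G`, indexed from `0`. -/
abbrev lcs (G : Type*) [Group G] (i : ℕ) : Subgroup G := (⊤ : Subgroup G).lowerCentralSeries i

theorem lcs_succ (i : ℕ) : lcs G (i + 1) = ⁅lcs G i, (⊤ : Subgroup G)⁆ := rfl

/-- The centralizer in `G` of `γ_{i+1}/γ_{i+3}`. -/
def Cmod (G : Type*) [Group G] (i : ℕ) : Subgroup G where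
  carrier := {x | ∀ y ∈ lcs G i, ⁅y, x⁆ ∈ lcs G (i + 2)}
  one_mem' := by
    intro y _
    have : ⁅y, (1 : G)⁆ = 1 := by simp [commutatorElement_def]
    rw [this]; exact one_mem _
  mul_mem' := by
    intro a b ha hb y hy
    have h : ⁅y, a * b⁆ = ⁅y, a⁆ * (a * ⁅y, b⁆ * a⁻¹) := by
      simp only [commutatorElement_def]; group
    rw [h]
    exact mul_mem (ha y hy) ((inferInstance : (lcs G (i + 2)).Normal).conj_mem _ (hb y hy) a)
  inv_mem' := by
    intro a ha y hy
    have h : ⁅y, a⁻¹⁆ = a⁻¹ * (⁅y, a⁆)⁻¹ * a⁻¹⁻¹ := by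
      simp only [commutatorElement_def]; group
    rw [h]
    exact (inferInstance : (lcs G (i + 2)).Normal).conj_mem _ (inv_mem (ha y hy)) a⁻¹

theorem mem_Cmod {i : ℕ} {x : G} : x ∈ Cmod G i ↔ ∀ y ∈ lcs G i, ⁅y, x⁆ ∈ lcs G (i + 2) := Iff.rfl

/-- In a nilpotent group, `H ≤ [H, G]` forces `H = 1`. -/
theorem eq_bot_of_le_commutator_top [Group.IsNilpotent G] (H : Subgroup G)
    (h : H ≤ ⁅H, (⊤ : Subgroup G)⁆) : H = ⊥ := by
  have key : ∀ n, H ≤ lcs G n := by
    intro n
    induction n with
    | zero => exact le_top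
    | succ n ih =>
      exact h.trans (Subgroup.commutator_mono ih le_rfl)
  have := key (Group.nilpotencyClass G)
  rwa [lcs, Subgroup.lowerCentralSeries_nilpotencyClass, le_bot_iff] at this

theorem Cmod_ne_top [Group.IsNilpotent G] {i : ℕ} (hi : i + 1 < Group.nilpotencyClass G) :
    Cmod G i ≠ ⊤ := by
  intro htop
  have h1 : lcs G (i + 1) ≤ lcs G (i + 2) := by
    rw [lcs_succ i, Subgroup.commutator_le]
    intro y hy x _
    have hx : x ∈ Cmod G i := by rw [htop]; trivial
    exact hx y hy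
  have h2 : lcs G (i + 1) = ⊥ := eq_bot_of_le_commutator_top _ h1
  have h3 := Subgroup.lowerCentralSeries_eq_bot_iff_nilpotencyClass_le.mp h2
  omega

/-- If `x ∉ Cmod i`, then `C_G(x)γ_{i+1} ≠ C_G(x)γ_{i+2}`. -/
theorem sup_ne_of_not_mem {i : ℕ} {x : G} (hx : x ∉ Cmod G i) :
    Subgroup.centralizer ({x} : Set G) ⊔ lcs G (i + 1) ≠
      Subgroup.centralizer ({x} : Set G) ⊔ lcs G i := by
  intro heq
  apply hx
  intro y hy
  have hy' : y ∈ Subgroup.centralizer ({x} : Set G) ⊔ lcs G (i + 1) := by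
    rw [heq]; exact Subgroup.mem_sup_right hy
  rw [← SetLike.mem_coe, Subgroup.mul_normal, Set.mem_mul] at hy'
  obtain ⟨c, hc, l, hl, rfl⟩ := hy'
  have hcx : c * x = x * c := by
    have := Subgroup.mem_centralizer_iff.mp hc x (Set.mem_singleton x)
    exact this.symm
  have hcx' : c⁻¹ * x⁻¹ = x⁻¹ * c⁻¹ := by
    rw [← mul_inv_rev, ← mul_inv_rev, hcx]
  have h : ⁅c * l, x⁆ = c * ⁅l, x⁆ * c⁻¹ := by
    simp only [commutatorElement_def, mul_inv_rev, mul_assoc]
    rw [hcx']
  rw [h]
  have hlx : ⁅l, x⁆ ∈ lcs G (i + 2) :=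
    Subgroup.commutator_mem_commutator hl (Subgroup.mem_top x)
  exact (inferInstance : (lcs G (i + 2)).Normal).conj_mem _ hlx c

/-- Proper containment in a finite `p`-group costs a factor `p`. -/
theorem card_mul_p_le [Finite G] {p : ℕ} [Fact p.Prime] (hG : IsPGroup p G) {A B : Subgroup G}
    (hAB : A ≤ B) (hne : A ≠ B) : Nat.card A * p ≤ Nat.card B := by
  obtain ⟨a, ha⟩ := IsPGroup.iff_card.mp (hG.to_subgroup A)
  obtain ⟨b, hb⟩ := IsPGroup.iff_card.mp (hG.to_subgroup B)
  have hp : p.Prime := Fact.out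
  have hdvd : Nat.card A ∣ Nat.card B := Subgroup.card_dvd_of_le hAB
  rw [ha, hb] at hdvd ⊢
  have hab : a ≤ b := (Nat.pow_dvd_pow_iff_le_right hp.one_lt).mp hdvd
  have hab' : a ≠ b := by
    rintro rfl
    exact hne (Subgroup.eq_of_le_of_card_ge hAB (by rw [ha, hb]))
  have : a + 1 ≤ b := by omega
  calc p ^ a * p = p ^ (a + 1) := (pow_succ p a).symm
    _ ≤ p ^ b := Nat.pow_le_pow_right hp.pos this

open Classical in
/-- The chain estimate. -/
theorem chain_le [Finite G] {p : ℕ} [Fact p.Prime] (hG : IsPGroup p G) (x : G) (k : ℕ) :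
    Nat.card ↥(Subgroup.centralizer ({x} : Set G) ⊔ lcs G k) *
      p ^ ((Finset.range k).filter (fun i => x ∉ Cmod G i)).card ≤ Nat.card G := by
  induction k with
  | zero =>
    simp only [Finset.range_zero, Finset.filter_empty, Finset.card_empty, pow_zero, mul_one]
    exact Nat.card_le_card_of_injective _ Subtype.val_injective
  | succ k ih =>
    have hle : Subgroup.centralizer ({x} : Set G) ⊔ lcs G (k + 1) ≤
        Subgroup.centralizer ({x} : Set G) ⊔ lcs G k :=
      sup_le_sup_left (Subgroup.lowerCentralSeries_antitone _ (Nat.le_succ k)) _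
    rw [Finset.range_add_one, Finset.filter_insert]
    by_cases hx : x ∉ Cmod G k
    · rw [if_pos hx, Finset.card_insert_of_notMem (by simp)]
      have h1 := card_mul_p_le hG hle (sup_ne_of_not_mem hx)
      calc _ = (Nat.card ↥(Subgroup.centralizer ({x} : Set G) ⊔ lcs G (k + 1)) * p) *
            p ^ ((Finset.range k).filter (fun i => x ∉ Cmod G i)).card := by
              rw [pow_succ]; ring
        _ ≤ Nat.card ↥(Subgroup.centralizer ({x} : Set G) ⊔ lcs G k) *
            p ^ ((Finset.range k).filter (fun i => x ∉ Cmod G i)).card :=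
              Nat.mul_le_mul_right _ h1
        _ ≤ _ := ih
    · rw [if_neg hx]
      exact (Nat.mul_le_mul_right _ (Subgroup.card_le_of_le hle)).trans ih

open Classical in
theorem count_le_b [Finite G] {p : ℕ} [Fact p.Prime] (hG : IsPGroup p G) (b : ℕ)
    (hb : ∀ x : G, (Subgroup.centralizer ({x} : Set G)).index ≤ p ^ b) (x : G) (k : ℕ) :
    ((Finset.range k).filter (fun i => x ∉ Cmod G i)).card ≤ b := by
  have hp : p.Prime := Fact.out
  have h1 := chain_le hG x k
  have h2 : Nat.card ↥(Subgroup.centralizer ({x} : Set G)) ≤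
      Nat.card ↥(Subgroup.centralizer ({x} : Set G) ⊔ lcs G k) :=
    Subgroup.card_le_of_le le_sup_left
  have h3 := Subgroup.card_mul_index (Subgroup.centralizer ({x} : Set G))
  have hpos : 0 < Nat.card ↥(Subgroup.centralizer ({x} : Set G)) := Nat.card_pos
  set n := ((Finset.range k).filter (fun i => x ∉ Cmod G i)).card
  have h4 : Nat.card ↥(Subgroup.centralizer ({x} : Set G)) * p ^ n ≤
      Nat.card ↥(Subgroup.centralizer ({x} : Set G)) * p ^ b := by
    calc _ ≤ Nat.card ↥(Subgroup.centralizer ({x} : Set G) ⊔ lcs G k) * p ^ n :=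
          Nat.mul_le_mul_right _ h2
      _ ≤ Nat.card G := h1
      _ = _ := h3.symm
      _ ≤ _ := Nat.mul_le_mul_left _ (hb x)
  have h5 : p ^ n ≤ p ^ b := Nat.le_of_mul_le_mul_left h4 hpos
  exact (Nat.pow_le_pow_iff_right hp.one_lt).mp h5

open Classical in
theorem main_ineq [Finite G] [Group.IsNilpotent G] {p : ℕ} [Fact p.Prime] (hG : IsPGroup p G)
    (b : ℕ) (hb0 : b ≠ 0)
    (hb : ∀ x : G, (Subgroup.centralizer ({x} : Set G)).index ≤ p ^ b) :
    (Group.nilpotencyClass G - 1) * (p - 1) < b * p := by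
  by_contra hcon
  push Not at hcon
  have hp : p.Prime := Fact.out
  obtain ⟨q, rfl⟩ : ∃ q, p = q + 1 := ⟨p - 1, by have := hp.two_le; omega⟩
  have hq : 1 ≤ q := by have := hp.two_le; omega
  simp only [Nat.add_sub_cancel] at hcon
  set m := Group.nilpotencyClass G - 1 with hm
  have hm1 : 1 ≤ m := by
    by_contra h
    have h0 : m = 0 := by omega
    rw [h0, zero_mul] at hcon
    have : 0 < b * (q + 1) := Nat.mul_pos (Nat.pos_of_ne_zero hb0) (Nat.succ_pos q)
    omega
  have : Fintype G := Fintype.ofFinite G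
  let a : G → ℕ := fun x => ((Finset.range m).filter (fun i => x ∈ Cmod G i)).card
  let n : G → ℕ := fun x => ((Finset.range m).filter (fun i => x ∉ Cmod G i)).card
  have han : ∀ x, a x + n x = m := by
    intro x
    have := Finset.card_filter_add_card_filter_not (s := Finset.range m)
      (fun i => x ∈ Cmod G i)
    simpa using this
  have hn : ∀ x, n x ≤ b := fun x => count_le_b hG b hb x m
  have hsum : ∑ x : G, a x = ∑ i ∈ Finset.range m, Nat.card (Cmod G i) := by
    simp only [a, Finset.card_filter]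
    rw [Finset.sum_comm]
    apply Finset.sum_congr rfl
    intro i _
    rw [← Finset.card_filter, Nat.card_eq_fintype_card, Fintype.card_subtype]
  have hC : ∀ i ∈ Finset.range m, Nat.card (Cmod G i) * (q + 1) ≤ Nat.card G := by
    intro i hi
    have hi' : i + 1 < Group.nilpotencyClass G := by
      have := Finset.mem_range.mp hi; omega
    have := card_mul_p_le hG (le_top : Cmod G i ≤ ⊤) (Cmod_ne_top hi')
    rwa [Subgroup.card_top] at this
  have hupper : (∑ x : G, a x) * (q + 1) ≤ m * Nat.card G := by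
    rw [hsum, Finset.sum_mul]
    calc _ ≤ ∑ _i ∈ Finset.range m, Nat.card G := Finset.sum_le_sum hC
      _ = m * Nat.card G := by simp
  have hlower : ∀ x : G, m + (if x = 1 then q * m else 0) ≤ a x * (q + 1) := by
    intro x
    by_cases hx : x = 1
    · subst hx
      have ha1 : a 1 = m := by
        simp only [a]
        rw [Finset.filter_true_of_mem (fun i _ => one_mem _), Finset.card_range]
      rw [if_pos rfl, ha1]
      nlinarith
    · rw [if_neg hx, add_zero]
      have h1 := han x
      have h2 := hn x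
      have e1 : a x * (q + 1) + n x * (q + 1) = m * (q + 1) := by rw [← add_mul, h1]
      have e2 : n x * (q + 1) ≤ b * (q + 1) := Nat.mul_le_mul_right _ h2
      nlinarith
  have htot : ∑ x : G, (m + (if x = 1 then q * m else 0)) = Nat.card G * m + q * m := by
    rw [Finset.sum_add_distrib, Finset.sum_const, Finset.sum_ite_eq' Finset.univ (1 : G)]
    simp [Nat.card_eq_fintype_card]
  have hfin : Nat.card G * m + q * m ≤ m * Nat.card G := by
    rw [← htot]
    calc _ ≤ ∑ x : G, a x * (q + 1) := Finset.sum_le_sum (fun x _ => hlower x)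
      _ = (∑ x : G, a x) * (q + 1) := (Finset.sum_mul _ _ _).symm
      _ ≤ _ := hupper
  have : 0 < q * m := Nat.mul_pos hq hm1
  nlinarith

/-- If G is a finite p-group in which every conjugacy class has at most p^b elements (every element has centralizer of index at most p^b), then G is abelian when b = 0, and when b ≥ 1 its nilpotency class c satisfies (c − 1)(p − 1) < bp, that is c < bp/(p − 1) + 1, and hence c ≤ 2b. -/
theorem result {G : Type*} [Group G] [Finite G] {p : ℕ} [Fact p.Prime] (hG : IsPGroup p G) (b : ℕ) (hb : ∀ x : G, (Subgroup.centralizer ({x} : Set G)).index ≤ p ^ b) : ∃ c : ℕ, (⊤ : Subgroup G).lowerCentralSeries c = ⊥ ∧ (b ≠ 0 → (c - 1) * (p - 1) < b * p ∧ c ≤ 2 * b) ∧ (b = 0 → c ≤ 1) := by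
  classical
  have : Group.IsNilpotent G := hG.isNilpotent
  have hp : p.Prime := Fact.out
  refine ⟨Group.nilpotencyClass G, Subgroup.lowerCentralSeries_nilpotencyClass, ?_, ?_⟩
  · intro hb0
    have h1 := main_ineq hG b hb0 hb
    refine ⟨h1, ?_⟩
    obtain ⟨q, rfl⟩ : ∃ q, p = q + 1 := ⟨p - 1, by have := hp.two_le; omega⟩
    have hq : 1 ≤ q := by have := hp.two_le; omega
    simp only [Nat.add_sub_cancel] at h1
    by_contra hc
    push Not at hc
    have h2 : 2 * b ≤ Group.nilpotencyClass G - 1 := by omega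
    have h3 : 2 * b * q ≤ (Group.nilpotencyClass G - 1) * q := Nat.mul_le_mul_right _ h2
    nlinarith
  · intro hb0
    by_contra hc
    push Not at hc
    have hne : Cmod G 0 ≠ ⊤ := Cmod_ne_top (by omega)
    obtain ⟨x, hx⟩ : ∃ x, x ∉ Cmod G 0 := by
      by_contra h
      push Not at h
      exact hne ((Subgroup.eq_top_iff' _).mpr h)
    have := count_le_b hG b hb x 1
    rw [hb0] at this
    simp [hx] at this

end Cfsg.Agent.S3778
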