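import Cfsg.Statements.S3783
import Cfsg.Agent.Lib.H7.HHAb6

set_option autoImplicit false
open Cfsg
set_option autoImplicit false

namespace Cfsg.Agent.S3783

/-- Let G be a finite p-soluble group in which, for every prime q ≠ p, the Sylow q-subgroups are abelian. If the Sylow p-subgroups of G have exponent dividing p^n, then G has p-length at most n. -/
theorem result {G : Type*} [Group G] [Finite G] {p : ℕ} [Fact p.Prime] (hG : Cfsg.IsPSolvable p G) (hab : ∀ (q : ℕ) [Fact q.Prime], q ≠ p → ∀ Q : Sylow q G, IsMulCommutative (Q : Subgroup G)) (n : ℕ) (hexp : ∀ (P : Sylow p G), ∀ x ∈ (P : Subgroup G), x ^ p ^ n = 1) : Cfsg.PLengthLE p n G := by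
  apply Cfsg.Agent.Lib.H7.HHAb.plengthLE_of_abelian n G hG
  · intro q hq hqp S hS a ha b hb
    have : Fact q.Prime := ⟨hq⟩
    obtain ⟨Q, hSQ⟩ := hS.exists_le_sylow
    have hc := hab q hqp Q
    have h1 := hc.is_comm.comm (⟨a, hSQ ha⟩ : ↥(Q : Subgroup G)) ⟨b, hSQ hb⟩
    exact congrArg Subtype.val h1
  · intro z ⟨k, hk⟩
    have hz : IsPGroup p ↥(Subgroup.zpowers z) := by
      rintro ⟨w, hw⟩
      obtain ⟨i, rfl⟩ := Subgroup.mem_zpowers_iff.1 hw
      refine ⟨k, ?_⟩
      apply Subtype.ext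
      rw [Subgroup.coe_pow]
      show (z ^ i) ^ p ^ k = 1
      rw [← zpow_natCast, ← zpow_mul, mul_comm, zpow_mul, zpow_natCast, hk, one_zpow]
    obtain ⟨P, hP⟩ := hz.exists_le_sylow
    exact hexp P z (hP (Subgroup.mem_zpowers z))

end Cfsg.Agent.S3783
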