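import Cfsg.Statements.S3784
import Mathlib.NumberTheory.Fermat
import Mathlib.NumberTheory.LucasLehmer

set_option autoImplicit false
open Cfsg

namespace Cfsg.Agent.S3784

/-- for odd `q`, `q^(2k+1)+1 = (q+1) * S` with `S` odd (integers) -/
lemma odd_cofactor_add (q : ℤ) (hq : Odd q) (k : ℕ) :
    ∃ S : ℤ, Odd S ∧ q ^ (2 * k + 1) + 1 = (q + 1) * S := by
  induction k with
  | zero => exact ⟨1, odd_one, by ring⟩
  | succ k ih =>
    obtain ⟨S, hS, hSe⟩ := ih
    refine ⟨q ^ 2 * S - (q - 1), ?_, ?_⟩
    · have h1 : Odd (q ^ 2 * S) := (hq.pow).mul hS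
      have h2 : Even (q - 1) := by
        obtain ⟨m, hm⟩ := hq
        exact ⟨m, by omega⟩
      exact h1.sub_even h2
    · have : q ^ (2 * (k + 1) + 1) = q ^ 2 * q ^ (2 * k + 1) := by ring
      rw [this]
      have h3 : q ^ (2 * k + 1) = (q + 1) * S - 1 := by linarith
      rw [h3]; ring

/-- for odd `p`, `p^(2k+1) = (p-1) * T + 1` with `T` odd, and `T > 1` when `k ≥ 1` -/
lemma odd_cofactor_sub (p : ℕ) (hp : Odd p) (k : ℕ) :
    ∃ T : ℕ, Odd T ∧ p ^ (2 * k + 1) = (p - 1) * T + 1 ∧ (1 ≤ k → 1 < T) := by
  have hp1 : 1 ≤ p := hp.pos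
  induction k with
  | zero => exact ⟨1, odd_one, by simp; omega, by omega⟩
  | succ k ih =>
    obtain ⟨T, hT, hTe, _⟩ := ih
    refine ⟨p ^ 2 * T + p + 1, ?_, ?_, ?_⟩
    · have h1 : Odd (p ^ 2 * T) := (hp.pow).mul hT
      have h2 : Even (p + 1) := hp.add_odd odd_one
      rw [add_assoc]
      exact h1.add_even h2
    · have : p ^ (2 * (k + 1) + 1) = p ^ 2 * p ^ (2 * k + 1) := by ring
      rw [this, hTe]
      obtain ⟨m, rfl⟩ : ∃ m, p = m + 1 := ⟨p - 1, by omega⟩
      simp only [Nat.add_sub_cancel]
      ring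
    · intro _
      have : 0 < p ^ 2 * T := Nat.mul_pos (by positivity) hT.pos
      omega

lemma odd_dvd_two_pow {T b : ℕ} (hT : Odd T) (h : T ∣ 2 ^ b) : T = 1 := by
  have hc : Nat.Coprime T (2 ^ b) := by
    apply Nat.Coprime.pow_right
    exact (Nat.coprime_comm.mp (Nat.coprime_two_left.mpr hT))
  exact Nat.Coprime.eq_one_of_dvd hc h

theorem result (p q a b : ℕ) (hp : p.Prime) (hq : q.Prime) (ha : 1 ≤ a) (hb : 1 ≤ b) (h : p ^ a = q ^ b + 1) : (p = 2 ∧ b = 1 ∧ a.Prime ∧ q + 1 = 2 ^ a) ∨ (q = 2 ∧ a = 1 ∧ (∃ m : ℕ, b = 2 ^ m) ∧ p = 2 ^ b + 1) ∨ (p ^ a = 9 ∧ q ^ b = 8) := by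
  rcases hp.eq_two_or_odd' with rfl | hpo
  · -- p = 2
    left
    rcases hq.eq_two_or_odd' with rfl | hqo
    · exfalso
      have h1 : Even (2 ^ a) := (Nat.even_pow.mpr ⟨even_two, by omega⟩)
      have h2 : Even (2 ^ b) := (Nat.even_pow.mpr ⟨even_two, by omega⟩)
      rw [h] at h1
      have := (Nat.even_add_one.mp h1)
      exact this h2
    · -- q odd
      have hq3 : 3 ≤ q := by
        have := hq.two_le
        obtain ⟨m, hm⟩ := hqo
        omega
      have hb1 : b = 1 := by
        rcases Nat.even_or_odd b with hbe | hbo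
        · exfalso
          obtain ⟨c, rfl⟩ := hbe
          have hqc : Odd (q ^ c) := hqo.pow
          have h4 : (q ^ c) ^ 2 % 4 = 1 := by
            obtain ⟨m, hm⟩ := hqc
            rw [hm]
            ring_nf
            omega
          have h5 : q ^ (c + c) = (q ^ c) ^ 2 := by ring
          have h6 : 2 ^ a % 4 = 2 := by rw [h, h5]; omega
          have ha2 : 2 ≤ a := by
            by_contra hlt
            have : a = 1 := by omega
            subst this
            have : 0 < q ^ (c + c) := by positivity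
            have : 1 < q ^ (c + c) := Nat.one_lt_pow (by omega) (by omega)
            omega
          obtain ⟨a', rfl⟩ : ∃ a', a = a' + 2 := ⟨a - 2, by omega⟩
          have : 2 ^ (a' + 2) = 4 * 2 ^ a' := by ring
          omega
        · obtain ⟨k, rfl⟩ := hbo
          obtain ⟨S, hS, hSe⟩ := odd_cofactor_add (q : ℤ) (by exact_mod_cast hqo) k
          have hz : ((2 : ℤ) ^ a) = (q + 1) * S := by
            rw [← hSe]; exact_mod_cast h
          have hdiv : S.natAbs ∣ 2 ^ a := by
            have : S ∣ (2 : ℤ) ^ a := ⟨q + 1, by rw [hz]; ring⟩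
            have := Int.natAbs_dvd_natAbs.mpr this
            simpa [Int.natAbs_pow] using this
          have hS1 : S.natAbs = 1 := odd_dvd_two_pow (Int.natAbs_odd.mpr hS) hdiv
          have hSpos : 0 < S := by
            by_contra hneg
            have hneg := not_lt.mp hneg
            have : (q + 1 : ℤ) * S ≤ 0 := mul_nonpos_of_nonneg_of_nonpos (by positivity) hneg
            have : (0 : ℤ) < 2 ^ a := by positivity
            linarith
          have hS1' : S = 1 := by
            have := Int.natAbs_of_nonneg hSpos.le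
            omega
          rw [hS1', mul_one] at hSe
          have hqe : q ^ (2 * k + 1) = q ^ 1 := by
            have : (q : ℤ) ^ (2 * k + 1) = q := by linarith
            rw [pow_one]
            exact_mod_cast this
          have := Nat.pow_right_injective hq.two_le hqe
          omega
      subst hb1
      rw [pow_one] at h
      refine ⟨rfl, rfl, ?_, h.symm⟩
      have hqe : q = 2 ^ a - 1 := by omega
      have hane : a ≠ 1 := by
        rintro rfl
        omega
      exact (Nat.prime_of_pow_sub_one_prime hane (hqe ▸ hq)).2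
  · -- p odd
    right
    rcases hq.eq_two_or_odd' with rfl | hqo
    · -- q = 2
      rcases Nat.even_or_odd a with hae | hao
      · right
        obtain ⟨c, rfl⟩ := hae
        have hc1 : 1 ≤ c := by omega
        obtain ⟨x, hx⟩ : ∃ x, x = p ^ c := ⟨_, rfl⟩
        have hxx : p ^ (c + c) = x * x := by rw [hx]; ring
        have hx2 : 2 ≤ x := by
          have : 1 < p ^ c := Nat.one_lt_pow (by omega) hp.one_lt
          omega
        have hfac : (x - 1) * (x + 1) = 2 ^ b := by
          obtain ⟨y, rfl⟩ : ∃ y, x = y + 1 := ⟨x - 1, by omega⟩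
          simp only [Nat.add_sub_cancel]
          rw [hxx] at h
          have : (y + 1) * (y + 1) = 2 ^ b + 1 := h
          nlinarith
        obtain ⟨i, hi, hxi⟩ := (Nat.dvd_prime_pow Nat.prime_two).1 (Dvd.intro _ hfac)
        obtain ⟨j, hj, hxj⟩ := (Nat.dvd_prime_pow Nat.prime_two).1 (Dvd.intro_left _ hfac)
        have hij : 2 ^ j = 2 ^ i + 2 := by omega
        have hilt : i < j := by
          by_contra hge
          have hge := not_lt.mp hge
          have : 2 ^ j ≤ 2 ^ i := Nat.pow_le_pow_right (by omega) hge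
          omega
        have hi1 : i = 1 := by
          rcases Nat.lt_or_ge i 1 with h0 | h1
          · have : i = 0 := by omega
            subst this
            have hj1 : 1 ≤ j := by omega
            obtain ⟨j', rfl⟩ : ∃ j', j = j' + 1 := ⟨j - 1, by omega⟩
            rw [pow_succ] at hij
            omega
          · rcases Nat.lt_or_ge i 2 with h2 | h2
            · omega
            · exfalso
              obtain ⟨i', rfl⟩ : ∃ i', i = i' + 2 := ⟨i - 2, by omega⟩
              obtain ⟨j', rfl⟩ : ∃ j', j = j' + 2 := ⟨j - 2, by omega⟩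
              have e1 : 2 ^ (i' + 2) = 4 * 2 ^ i' := by ring
              have e2 : 2 ^ (j' + 2) = 4 * 2 ^ j' := by ring
              omega
        subst hi1
        have hx3 : x = 3 := by omega
        have hxx9 : p ^ (c + c) = 9 := by rw [hxx, hx3]
        refine ⟨hxx9, ?_⟩
        omega
      · obtain ⟨k, rfl⟩ := hao
        rcases Nat.eq_zero_or_pos k with rfl | hk
        · left
          simp only [mul_zero, zero_add, pow_one] at h
          refine ⟨rfl, by simp, ?_, h⟩
          exact Nat.pow_of_pow_add_prime (by norm_num) (by omega) (h ▸ hp)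
        · exfalso
          obtain ⟨T, hT, hTe, hT1⟩ := odd_cofactor_sub p hpo k
          have hdiv : T ∣ 2 ^ b := ⟨p - 1, by rw [mul_comm]; omega⟩
          have := odd_dvd_two_pow hT hdiv
          have := hT1 hk
          omega
    · exfalso
      have h1 : Odd (p ^ a) := hpo.pow
      have h2 : Odd (q ^ b) := hqo.pow
      rw [h] at h1
      have : Even (q ^ b + 1) := h2.add_odd odd_one
      exact (Nat.not_even_iff_odd.mpr h1) this

end Cfsg.Agent.S3784
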