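import Cfsg.Statements.S3787
import Cfsg.Agent.Lib.H19.HHWrMain

set_option autoImplicit false
open Cfsg

namespace Cfsg.Agent.S3787

open Cfsg.Agent.Lib.H19.HH

universe u

/-- a carrier in `Type` without any algebraic instances -/
def LowT (n : ℕ) : Type := Fin n

theorem exists_small_copy (G : Type u) [Group G] [Finite G] :
    ∃ (G₀ : Type) (_ : Group G₀) (_ : Finite G₀), Nonempty (G ≃* G₀) := by
  let e₀ : LowT (Nat.card G) ≃ G := (Finite.equivFin G).symm
  exact ⟨LowT (Nat.card G), e₀.group, Finite.of_equiv G e₀.symm, ⟨by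
    letI := e₀.group
    exact e₀.mulEquiv.symm⟩⟩

/-- Let G be a finite p-soluble group, p an odd prime not of the form 2^k + 1, and suppose the wreath product C_p ≀ C_p (of order p^(p+1)) is not involved in a Sylow p-subgroup of G: no section of a Sylow p-subgroup is isomorphic to it. Then G has p-length at most 1. -/
theorem result {G : Type*} [Group G] [Finite G] {p : ℕ} [Fact p.Prime] (hp2 : p ≠ 2) (hnf : (¬ ∃ k : ℕ, p = 2 ^ k + 1)) (hG : Cfsg.IsPSolvable p G) (P : Sylow p G) (hwr : ∀ (W : Type) [Group W] [Finite W], (∃ (B : Subgroup W) (t : W), B.Normal ∧ IsMulCommutative B ∧ (∀ b ∈ B, b ^ p = 1) ∧ Nat.card B = p ^ p ∧ orderOf t = p ∧ t ∉ B ∧ Nat.card W = p ^ (p + 1) ∧ Nat.card ↥(B ⊓ Subgroup.centralizer ({t} : Set W)) = p) → ¬ Cfsg.Involves W ↥(P : Subgroup G)) : Cfsg.PLengthLE p 1 G := by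
  by_contra hlen
  obtain ⟨G₀, hG₀g, hG₀f, ⟨e⟩⟩ := exists_small_copy G
  have hG₀ : IsPSolvable p G₀ := Cfsg.Agent.Lib.H26.isPSolvable_of_mulEquiv e hG
  have hlen₀ : ¬ PLengthLE p 1 G₀ :=
    fun h => hlen (Cfsg.Agent.Lib.H19.plengthLE_of_mulEquiv h e.symm)
  obtain ⟨W, hWg, hWf, hW, hinv⟩ := exists_wprop_of_not_plengthLE hp2 hnf hG₀ hlen₀
  have hinvG : Involves W G :=
    Cfsg.Agent.Lib.H26.involves_of_injective e.symm.toMonoidHom e.symm.injective hinv
  have hWp : IsPGroup p W := by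
    obtain ⟨B, t, -, -, -, -, -, -, hcard, -⟩ := hW
    exact IsPGroup.of_card hcard
  have hinvP : Involves W ↥(P : Subgroup G) :=
    Cfsg.Agent.Lib.H26.involves_of_sylow_range hWp (P : Subgroup G).subtype P (by simp) hinvG
  exact hwr W hW hinvP

end Cfsg.Agent.S3787
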