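import Cfsg.Statements.S3788
import Cfsg.Agent.Lib.H7.CycNorm9

set_option autoImplicit false
open Cfsg
set_option autoImplicit false

namespace Cfsg.Agent.S3788

/-- Let G be a finite p-soluble group, P a Sylow p-subgroup of G and A a cyclic normal subgroup of P. If p is odd, or if no section of G is isomorphic to the symmetric group of degree 4, then A ≤ O_{p',p}(G). -/
theorem result {G : Type*} [Group G] [Finite G] {p : ℕ} [Fact p.Prime] (hG : Cfsg.IsPSolvable p G) (P : Sylow p G) (A : Subgroup G) (hAP : A ≤ (P : Subgroup G)) (hAn : (P : Subgroup G) ≤ Subgroup.normalizer (A : Set G)) (hA : IsCyclic A) (h : p ≠ 2 ∨ ¬ Cfsg.Involves (Equiv.Perm (Fin 4)) G) : A ≤ Cfsg.pPrimePCore p G := by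
  have hKn : (pPrimeCore p G).Normal := Cfsg.Agent.Lib.H22.pPrimeCore_normal p
  have hsurj : Function.Surjective (QuotientGroup.mk' (pPrimeCore p G)) :=
    QuotientGroup.mk'_surjective _
  have hO : pPrimeCore p (G ⧸ pPrimeCore p G) = ⊥ :=
    Cfsg.Agent.Lib.H9.pPrimeCore_quotient_eq_bot p
  have hG' : IsPSolvable p (G ⧸ pPrimeCore p G) :=
    Cfsg.Agent.Lib.H10.isPSolvable_quotient hG _
  obtain ⟨⟨a₀, ha₀A⟩, hgen⟩ := hA.exists_generator
  have hAz : ∀ x ∈ A, x ∈ Subgroup.zpowers a₀ := by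
    intro x hx
    have h1 := hgen ⟨x, hx⟩
    obtain ⟨j, hj⟩ := Subgroup.mem_zpowers_iff.1 h1
    refine Subgroup.mem_zpowers_iff.2 ⟨j, ?_⟩
    have := congrArg Subtype.val hj
    simpa using this
  have h' : p ≠ 2 ∨ ¬ Cfsg.Involves (Equiv.Perm (Fin 4)) (G ⧸ pPrimeCore p G) := by
    rcases h with h | h
    · exact Or.inl h
    · refine Or.inr (fun hc => h ?_)
      exact Cfsg.Agent.Lib.H14.SFour.involves_of_surj _ hsurj hc
  have hmem : QuotientGroup.mk' (pPrimeCore p G) a₀ ∈ P.mapSurjective hsurj := by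
    show _ ∈ ((P.mapSurjective hsurj : Sylow p (G ⧸ pPrimeCore p G)) : Subgroup (G ⧸ pPrimeCore p G))
    rw [Sylow.coe_mapSurjective]
    exact ⟨a₀, hAP ha₀A, rfl⟩
  have hnorm : ∀ y ∈ P.mapSurjective hsurj,
      y * QuotientGroup.mk' (pPrimeCore p G) a₀ * y⁻¹ ∈
        Subgroup.zpowers (QuotientGroup.mk' (pPrimeCore p G) a₀) := by
    intro y hy
    have hy : y ∈ ((P.mapSurjective hsurj : Sylow p (G ⧸ pPrimeCore p G)) : Subgroup (G ⧸ pPrimeCore p G)) := hy
    rw [Sylow.coe_mapSurjective] at hy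
    obtain ⟨x, hx, rfl⟩ := hy
    have h1 := (Subgroup.mem_normalizer_iff.1 (hAn hx) a₀).1 ha₀A
    obtain ⟨j, hj⟩ := Subgroup.mem_zpowers_iff.1 (hAz _ h1)
    refine Subgroup.mem_zpowers_iff.2 ⟨j, ?_⟩
    rw [← map_zpow, hj, map_mul, map_mul, map_inv]
  have key := Cfsg.Agent.Lib.H7.CycNorm.mem_pCore_of_cyclic_normal hG' hO
    (P.mapSurjective hsurj) hmem hnorm h'
  intro x hx
  obtain ⟨j, hj⟩ := Subgroup.mem_zpowers_iff.1 (hAz x hx)
  unfold Cfsg.pPrimePCore
  rw [Subgroup.mem_comap, ← hj, map_zpow]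
  exact Subgroup.zpow_mem _ key j

end Cfsg.Agent.S3788
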