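import Cfsg.Statements.S3790
import Mathlib
import Cfsg.Agent.Lib.H19.PLength

set_option autoImplicit false
open Cfsg

namespace Cfsg.Agent.S3790

open Cfsg.Agent.Lib.H19

universe u

theorem card_quotient_subgroupOf {G : Type u} [Group G] (N M : Subgroup G)
    [(N.subgroupOf M).Normal] : Nat.card (↥M ⧸ N.subgroupOf M) = N.relIndex M :=
  (Subgroup.index_eq_card _).symm

theorem relIndex_dvd_card_top {G : Type u} [Group G] [Finite G] (N M : Subgroup G) :
    N.relIndex M ∣ Nat.card G :=
  (Subgroup.relIndex_dvd_card N M).trans (Subgroup.card_subgroup_dvd_card M)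

/-- the `p`-length of an extension, in terms of a normal section -/
theorem plengthLE_section {G : Type u} [Group G] [Finite G] {p : ℕ} [Fact p.Prime]
    {N M : Subgroup G} (hN : N.Normal) (hle : N ≤ M) {c c' : ℕ} (h1 : PLengthLE p c ↥N)
    (h2 : haveI := hN.subgroupOf M; PLengthLE p c' (↥M ⧸ N.subgroupOf M)) :
    PLengthLE p (c + c') ↥M := by
  have hn : (N.subgroupOf M).Normal := hN.subgroupOf M
  have h3 : PLengthLE p c ↥(N.subgroupOf M) :=
    plengthLE_of_mulEquiv h1 (Subgroup.subgroupOfEquivOfLe hle).symm
  exact plengthLE_of_extension (N.subgroupOf M) h3 h2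

theorem main (p : ℕ) [hp : Fact p.Prime] : ∀ (r : ℕ) (G : Type u) [Group G] [Finite G],
    Group.IsSolvable G → ∀ (q : Fin r → ℕ) (l : Fin r → ℕ), (∀ i, (q i).Prime ∧ q i ≠ p) →
    (∀ s : ℕ, s.Prime → s ∣ Nat.card G → s ≠ p → ∃ i, q i = s) →
    (∀ i, PLengthLE (q i) (l i) G) → PLengthLE p (Finset.univ.prod fun i => 1 + l i) G := by
  intro r
  induction r with
  | zero =>
    intro G _ _ _ q l _ hcover _
    rw [Finset.univ_eq_empty, Finset.prod_empty]
    have : Nat.card G = p ^ (Nat.card G).primeFactorsList.length := by
      apply Nat.eq_prime_pow_of_unique_prime_dvd Nat.card_pos.ne'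
      intro d hd hdvd
      by_contra hne
      obtain ⟨i, _⟩ := hcover d hd hdvd hne
      exact i.elim0
    exact plengthLE_one_of_isPGroup this
  | succ r ih =>
    intro G _ _ hsolv q l hq hcover hl
    set Q := q (Fin.last r) with hQ
    set L := l (Fin.last r) with hL
    have hQp : Q.Prime := (hq _).1
    have hQne : Q ≠ p := (hq _).2
    have hQf : Fact Q.Prime := ⟨hQp⟩
    rw [Fin.prod_univ_castSucc]
    set Pr := Finset.univ.prod fun i : Fin r => 1 + l i.castSucc with hPr
    have claim : ∀ (j : ℕ) (N : Subgroup G), Reach Q j N →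
        PLengthLE p (((j + 1) / 2) * Pr) ↥N := by
      intro j N h
      induction h with
      | zero =>
        apply plengthLE_mono (plengthLE_zero_of_coprime _) (Nat.zero_le _)
        rw [Subgroup.card_bot]; exact Nat.coprime_one_left p
      | @even j N M h' hj hle hn hc ih' =>
        have hNn : N.Normal := h'.normal
        have hn' : (N.subgroupOf M).Normal := hNn.subgroupOf M
        have hS : PLengthLE p Pr (↥M ⧸ N.subgroupOf M) := by
          apply ih (↥M ⧸ N.subgroupOf M) inferInstance (fun i => q i.castSucc)
            (fun i => l i.castSucc) (fun i => hq _)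
          · intro s hs hdvd hsp
            rw [card_quotient_subgroupOf] at hdvd
            obtain ⟨i, hi⟩ := hcover s hs (hdvd.trans (relIndex_dvd_card_top N M)) hsp
            induction i using Fin.lastCases with
            | last =>
              exfalso
              have h1 : Q ∣ N.relIndex M := by rw [hQ, hi]; exact hdvd
              have h2 : Q ∣ Nat.gcd (N.relIndex M) Q := Nat.dvd_gcd h1 dvd_rfl
              rw [hc] at h2
              exact hQp.one_lt.ne' (Nat.dvd_one.1 h2)
            | cast i => exact ⟨i, hi⟩
          · intro i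
            have : Fact (q i.castSucc).Prime := ⟨(hq _).1⟩
            exact plengthLE_quotient (plengthLE_subgroup (hl _) M) _
        have := plengthLE_section hNn hle ih' hS
        have e : (j + 1) / 2 * Pr + Pr = (j + 1 + 1) / 2 * Pr := by
          obtain ⟨t, rfl⟩ := hj
          have h1 : (t + t + 1) / 2 = t := by omega
          have h2 : (t + t + 1 + 1) / 2 = t + 1 := by omega
          rw [h1, h2]; ring
        rwa [e] at this
      | @odd j N M h' hj hle hn hc ih' =>
        have hNn : N.Normal := h'.normal
        have hn' : (N.subgroupOf M).Normal := hNn.subgroupOf M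
        have hS : PLengthLE p 0 (↥M ⧸ N.subgroupOf M) := by
          apply plengthLE_zero_of_coprime
          rw [card_quotient_subgroupOf]
          obtain ⟨m, hm⟩ := hc
          rw [hm]
          exact Nat.Coprime.pow_left m ((Nat.coprime_primes hQp hp.out).2 hQne)
        have := plengthLE_section hNn hle ih' hS
        have e : (j + 1) / 2 * Pr + 0 = (j + 1 + 1) / 2 * Pr := by
          rw [Nat.not_even_iff_odd] at hj
          obtain ⟨t, rfl⟩ := hj
          have h1 : (2 * t + 1 + 1) / 2 = t + 1 := by omega
          have h2 : (2 * t + 1 + 1 + 1) / 2 = t + 1 := by omega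
          rw [h1, h2]; ring
        rwa [e] at this
    have htop := claim (2 * L + 1) ⊤ (plengthLE_iff.1 (hl (Fin.last r)))
    have h2 := plengthLE_of_mulEquiv htop Subgroup.topEquiv
    have e : (2 * L + 1 + 1) / 2 * Pr = Pr * (1 + L) := by
      have : (2 * L + 1 + 1) / 2 = L + 1 := by omega
      rw [this]; ring
    rwa [e] at h2

/-- Let G be a finite solvable group and p a prime. Suppose p₁, …, p_r are distinct primes, all different from p, that include every prime dividing the order of G other than p, and that G has p_i-length at most l_i for each i. Then G has p-length at most the product of the numbers 1 + l_i. -/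
theorem result {G : Type*} [Group G] [Finite G] (hG : Group.IsSolvable G) (p : ℕ) [Fact p.Prime] (r : ℕ) (q : Fin r → ℕ) (hq : ∀ i, (q i).Prime ∧ q i ≠ p) (hinj : Function.Injective q) (hcover : ∀ s : ℕ, s.Prime → s ∣ Nat.card G → s ≠ p → ∃ i, q i = s) (l : Fin r → ℕ) (hl : ∀ i, Cfsg.PLengthLE (q i) (l i) G) : Cfsg.PLengthLE p (Finset.univ.prod fun i => 1 + l i) G :=
  main p r G hG q l hq hcover hl

end Cfsg.Agent.S3790
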