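import Cfsg.Statements.S3791
import Mathlib
import Cfsg.Agent.Lib.H19.PLength

set_option autoImplicit false
open Cfsg

namespace Cfsg.Agent.S3791

open Cfsg.Agent.Lib.H19

universe u

section DL

variable {H : Type*} [Group H]

theorem dl_of_injective {K : Type*} [Group K] (f : H →* K) (hf : Function.Injective f) {n : ℕ}
    (h : derivedSeries K n = ⊥) : derivedSeries H n = ⊥ := by
  have h1 := map_derivedSeries_le_derivedSeries f n
  rw [h, le_bot_iff] at h1
  exact (Subgroup.map_eq_bot_iff_of_injective _ hf).1 h1

theorem dl_of_surjective {K : Type*} [Group K] (f : H →* K) (hf : Function.Surjective f) {n : ℕ}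
    (h : derivedSeries H n = ⊥) : derivedSeries K n = ⊥ := by
  rw [← map_derivedSeries_eq hf n, h, Subgroup.map_bot]

theorem dl_extension (N : Subgroup H) [N.Normal] {a b : ℕ} (hN : derivedSeries ↥N a = ⊥)
    (hQ : derivedSeries (H ⧸ N) b = ⊥) : derivedSeries H (b + a) = ⊥ := by
  have key : ∀ a : ℕ, derivedSeries H (b + a) ≤ (derivedSeries ↥N a).map N.subtype := by
    intro a
    induction a with
    | zero =>
      rw [add_zero, derivedSeries_zero, ← MonoidHom.range_eq_map, Subgroup.range_subtype]
      have h1 := map_derivedSeries_le_derivedSeries (QuotientGroup.mk' N) b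
      rw [hQ, le_bot_iff] at h1
      have h2 := (Subgroup.map_eq_bot_iff _).1 h1
      rwa [QuotientGroup.ker_mk'] at h2
    | succ a ih =>
      rw [← add_assoc, derivedSeries_succ, derivedSeries_succ, Subgroup.map_commutator]
      exact Subgroup.commutator_mono ih ih
  have := key a
  rwa [hN, Subgroup.map_bot, le_bot_iff] at this

/-- the Sylow `q`-subgroups have derived length at most `d` -/
def SylDL (q d : ℕ) (H : Type*) [Group H] : Prop :=
  ∀ S : Sylow q H, derivedSeries ↥(S : Subgroup H) d = ⊥

theorem SylDL.of_surjective [Finite H] {K : Type*} [Group K] {q d : ℕ} [Fact q.Prime]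
    (h : SylDL q d H) (f : H →* K) (hf : Function.Surjective f) : SylDL q d K := by
  intro S
  obtain ⟨T, rfl⟩ := Sylow.mapSurjective_surjective hf q S
  exact dl_of_surjective (f.subgroupMap (T : Subgroup H)) (f.subgroupMap_surjective _) (h T)

theorem SylDL.isPGroup {q d : ℕ} (h : SylDL q d H) (N : Subgroup H) (hN : IsPGroup q N) :
    derivedSeries ↥N d = ⊥ := by
  obtain ⟨S, hS⟩ := hN.exists_le_sylow
  exact dl_of_injective (Subgroup.inclusion hS) (Subgroup.inclusion_injective hS) (h S)

end DL

theorem sum_eq_add_of_update {r : ℕ} (f g : Fin r → ℕ) (i : Fin r) (c : ℕ)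
    (h : ∀ j, f j = g j + if j = i then c else 0) :
    Finset.univ.sum f = Finset.univ.sum g + c := by
  rw [Finset.sum_congr rfl (fun j _ => h j), Finset.sum_add_distrib, Finset.sum_ite_eq']
  simp

theorem main (r : ℕ) (q d : Fin r → ℕ) (hq : ∀ i, (q i).Prime) :
    ∀ t : ℕ, ∀ (G : Type u) [Group G] [Finite G], Group.IsSolvable G → ∀ l : Fin r → ℕ,
    Finset.univ.sum l = t → (∀ s : ℕ, s.Prime → s ∣ Nat.card G → ∃ i, q i = s) →
    (∀ i, SylDL (q i) (d i) G) → (∀ i, PLengthLE (q i) (l i) G) →
    derivedSeries G (Finset.univ.sum fun i => d i * l i) = ⊥ := by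
  intro t
  induction t using Nat.strong_induction_on with
  | _ t ih =>
    intro G _ _ hsolv l hsum hcover hSyl hl
    set n := Finset.univ.sum fun i => d i * l i with hn
    have stepA : ∀ i, derivedSeries (G ⧸ (upperPSeries (q i) G 1).1) n = ⊥ := by
      intro i
      have hqi : Fact (q i).Prime := ⟨hq i⟩
      rcases Nat.eq_zero_or_pos (l i) with h0 | hpos
      · have htop : (upperPSeries (q i) G 1).1 = ⊤ := by
          have := hl i
          rw [h0] at this
          exact this
        have hss : Subsingleton (G ⧸ (upperPSeries (q i) G 1).1) := by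
          rw [htop]; exact QuotientGroup.subsingleton_quotient_top
        exact Subsingleton.elim _ _
      · obtain ⟨k, hk⟩ : ∃ k, l i = k + 1 := ⟨l i - 1, by omega⟩
        set U1 := (upperPSeries (q i) G 1).1 with hU1
        set U2 := (upperPSeries (q i) G 2).1 with hU2
        let l' : Fin r → ℕ := Function.update l i k
        have hl'eq : ∀ j, l j = l' j + if j = i then 1 else 0 := by
          intro j
          by_cases hji : j = i
          · rw [hji]; simp [l', hk]
          · simp [l', hji]
        have hsum' : Finset.univ.sum l' = t - 1 := by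
          have := sum_eq_add_of_update l l' i 1 hl'eq
          omega
        have ht : t - 1 < t := by
          have := sum_eq_add_of_update l l' i 1 hl'eq
          omega
        have hH : derivedSeries (G ⧸ U2) (Finset.univ.sum fun j => d j * l' j) = ⊥ := by
          apply ih (t - 1) ht (G ⧸ U2) inferInstance l' hsum'
          · intro s hs hdvd
            exact hcover s hs (hdvd.trans (Subgroup.card_quotient_dvd_card U2))
          · intro j
            have : Fact (q j).Prime := ⟨hq j⟩
            exact (hSyl j).of_surjective (QuotientGroup.mk' U2) (QuotientGroup.mk'_surjective U2)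
          · intro j
            have : Fact (q j).Prime := ⟨hq j⟩
            by_cases hji : j = i
            · rw [hji]
              have h1 : l' i = k := by simp [l']
              rw [h1]
              exact plengthLE_quotient_upper_two (hk ▸ hl i)
            · have h1 : l' j = l j := by simp [l', hji]
              rw [h1]
              exact plengthLE_quotient (hl j) U2
        have hU12 : U1 ≤ U2 := upper_le_succ (q i) 1
        set Nb := U2.map (QuotientGroup.mk' U1) with hNb
        have hNbn : Nb.Normal :=
          Subgroup.Normal.map inferInstance _ (QuotientGroup.mk'_surjective U1)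
        have hNbp : IsPGroup (q i) Nb := by
          obtain ⟨m, hm⟩ := upper_relIndex_odd (G := G) (q i) (j := 1) (by decide)
          apply IsPGroup.of_card (n := m)
          rw [hNb, card_map_mk']
          exact hm
        have hNbdl : derivedSeries ↥Nb (d i) = ⊥ :=
          ((hSyl i).of_surjective (QuotientGroup.mk' U1)
            (QuotientGroup.mk'_surjective U1)).isPGroup Nb hNbp
        have hQdl : derivedSeries ((G ⧸ U1) ⧸ Nb) (Finset.univ.sum fun j => d j * l' j) = ⊥ :=
          dl_of_surjective (QuotientGroup.quotientQuotientEquivQuotient U1 U2 hU12).symm.toMonoidHom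
            (QuotientGroup.quotientQuotientEquivQuotient U1 U2 hU12).symm.surjective hH
        have h3 := dl_extension Nb hNbdl hQdl
        have e : (Finset.univ.sum fun j => d j * l' j) + d i = n := by
          rw [hn]
          symm
          refine sum_eq_add_of_update (fun j => d j * l j) (fun j => d j * l' j) i (d i) ?_
          intro j
          by_cases hji : j = i
          · rw [hji]
            have h1 : l' i = k := by simp [l']
            simp only [h1, hk, if_true]
            ring
          · have h1 : l' j = l j := by simp [l', hji]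
            simp only [h1, hji, if_false, add_zero]
        rwa [e] at h3
    -- step B
    set D := derivedSeries G n with hD
    have hDle : ∀ i, D ≤ (upperPSeries (q i) G 1).1 := by
      intro i
      have h1 := map_derivedSeries_le_derivedSeries (QuotientGroup.mk' (upperPSeries (q i) G 1).1) n
      rw [stepA i, le_bot_iff] at h1
      have h2 := (Subgroup.map_eq_bot_iff _).1 h1
      rwa [QuotientGroup.ker_mk'] at h2
    have hcard : Nat.card D = 1 := by
      by_contra hne
      obtain ⟨s, hs, hsd⟩ := Nat.exists_prime_and_dvd hne
      obtain ⟨i, hi⟩ := hcover s hs (hsd.trans (Subgroup.card_subgroup_dvd_card D))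
      have hqi : Fact (q i).Prime := ⟨hq i⟩
      have hsd' : q i ∣ Nat.card D := hi.symm ▸ hsd
      have h1 : q i ∣ Nat.card (upperPSeries (q i) G 1).1 :=
        hsd'.trans (Subgroup.card_dvd_of_le (hDle i))
      have h2 := upper_relIndex_even (G := G) (q i) (j := 0) (by decide)
      rw [upper_zero, Subgroup.relIndex_bot_left] at h2
      have h3 : q i ∣ Nat.gcd (Nat.card (upperPSeries (q i) G (0 + 1)).1) (q i) :=
        Nat.dvd_gcd h1 dvd_rfl
      rw [h2] at h3
      exact (hq i).one_lt.ne' (Nat.dvd_one.1 h3)
    exact Subgroup.card_eq_one.1 hcard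

/-- The Hall–Higman bound on derived length: let G be a finite solvable group, let p₁, …, p_r be distinct primes that include every prime dividing the order of G, and suppose that for each i the Sylow p_i-subgroups of G have derived length at most d_i and G has p_i-length at most l_i. Then G has derived length at most Σ d_i l_i. -/
theorem result {G : Type*} [Group G] [Finite G] (hG : Group.IsSolvable G) (r : ℕ) (q : Fin r → ℕ) (hq : ∀ i, (q i).Prime) (hinj : Function.Injective q) (hcover : ∀ s : ℕ, s.Prime → s ∣ Nat.card G → ∃ i, q i = s) (d l : Fin r → ℕ) (hd : ∀ i, ∀ P : Subgroup G, (haveI := Fact.mk (hq i); ∃ S : Sylow (q i) G, (S : Subgroup G) = P) → derivedSeries ↥P (d i) = ⊥) (hl : ∀ i, Cfsg.PLengthLE (q i) (l i) G) : derivedSeries G (Finset.univ.sum fun i => d i * l i) = ⊥ :=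
  main r q d hq _ G hG l rfl hcover (fun i S => hd i (S : Subgroup G) ⟨S, rfl⟩) hl

end Cfsg.Agent.S3791
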