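-- Statement S3794: a solvable group with a fixed-point-free automorphism σ, σ⁴ = 1, has nilpotent derived group.
import Cfsg.Statements.S3794
import Cfsg.Agent.Lib.H19.Fpf4Main

set_option autoImplicit false
open Cfsg

namespace Cfsg.Agent.S3794

open Cfsg.Agent.Lib.H19.Fpf4

/-- Let G be a finite solvable group with an automorphism σ satisfying σ⁴ = 1 and fixing only the identity. Then the derived subgroup G' is nilpotent. -/
theorem result {G : Type*} [Group G] [Finite G] (hG : Group.IsSolvable G) (σ : MulAut G) (hσ : σ ^ 4 = 1) (hfpf : ∀ g : G, σ g = g → g = 1) : Group.IsNilpotent (commutator G) := by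
  have hK := Kt_nilpotent hG σ hfpf hσ
  have hle : commutator G ≤ Kt σ := commutator_le_Kt hfpf
  obtain ⟨n, hn⟩ := (Subgroup.isNilpotent_iff_lowerCentralSeries _).mp hK
  apply Subgroup.isNilpotent_of_lowerCentralSeries_eq_bot (n := n)
  rw [eq_bot_iff, ← hn]
  exact Subgroup.lowerCentralSeries_mono n hle

end Cfsg.Agent.S3794
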