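import Cfsg.Statements.S3796
import Cfsg.Agent.Lib.H19.WardH

set_option autoImplicit false
set_option linter.style.haveILetI false
open Cfsg

namespace Cfsg.Agent.S3796

/-- generators of an elementary abelian group of order `p ^ 2` -/
theorem exists_gens {P : Type*} [Group P] {p : ℕ} (hp : p.Prime) (A : Subgroup P)
    (hA : Cfsg.IsElementaryAbelian p A) (hcard : Nat.card A = p ^ 2) :
    ∃ x₀ ∈ A, ∃ y₀ ∈ A, x₀ * y₀ = y₀ * x₀ ∧ x₀ ^ p = 1 ∧ y₀ ^ p = 1 ∧
      A ≤ Subgroup.zpowers x₀ ⊔ Subgroup.zpowers y₀ := by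
  haveI : Fact p.Prime := ⟨hp⟩
  haveI : Finite ↥A := Nat.finite_of_card_ne_zero (by rw [hcard]; exact pow_ne_zero 2 hp.ne_zero)
  have hAbot : A ≠ ⊥ := by
    intro h
    rw [h, Subgroup.card_bot] at hcard
    have : 1 < p ^ 2 := Nat.one_lt_pow (by norm_num) hp.one_lt
    omega
  obtain ⟨x₀, hx₀A, hx₀1⟩ := (Subgroup.ne_bot_iff_exists_ne_one (H := A)).mp hAbot |>
    fun ⟨v, hv1⟩ => (⟨(v : P), v.2, fun h => hv1 (Subtype.ext h)⟩ : ∃ v : P, v ∈ A ∧ v ≠ 1)
  have hx₀p : x₀ ^ p = 1 := hA.2 x₀ hx₀A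
  have hZA : Subgroup.zpowers x₀ ≤ A := Subgroup.zpowers_le.mpr hx₀A
  have hZcard : Nat.card (Subgroup.zpowers x₀) = p := by
    rw [Nat.card_zpowers, orderOf_eq_prime hx₀p hx₀1]
  have hZne : Subgroup.zpowers x₀ ≠ A := by
    intro h
    rw [h, hcard] at hZcard
    have h1 : p * p = p * 1 := by rw [mul_one, ← sq]; exact hZcard
    have h2 := Nat.eq_of_mul_eq_mul_left hp.pos h1
    exact hp.one_lt.ne' h2
  obtain ⟨y₀, hy₀A, hy₀Z⟩ := SetLike.exists_of_lt (lt_of_le_of_ne hZA hZne)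
  have hy₀p : y₀ ^ p = 1 := hA.2 y₀ hy₀A
  have hcomm : x₀ * y₀ = y₀ * x₀ := by
    haveI := hA.1
    exact setLike_mul_comm hx₀A hy₀A
  refine ⟨x₀, hx₀A, y₀, hy₀A, hcomm, hx₀p, hy₀p, ?_⟩
  have hBA : Subgroup.zpowers x₀ ⊔ Subgroup.zpowers y₀ ≤ A :=
    sup_le hZA (Subgroup.zpowers_le.mpr hy₀A)
  have hZB : Subgroup.zpowers x₀ ≤ Subgroup.zpowers x₀ ⊔ Subgroup.zpowers y₀ := le_sup_left
  have hZBne : Subgroup.zpowers x₀ ≠ Subgroup.zpowers x₀ ⊔ Subgroup.zpowers y₀ := by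
    intro h
    apply hy₀Z
    rw [h]
    exact Subgroup.mem_sup_right (Subgroup.mem_zpowers y₀)
  haveI : Finite ↥(Subgroup.zpowers x₀ ⊔ Subgroup.zpowers y₀ : Subgroup P) :=
    Finite.of_injective _ (Subgroup.inclusion_injective hBA)
  have hdvd : Nat.card (Subgroup.zpowers x₀ ⊔ Subgroup.zpowers y₀ : Subgroup P) ∣ p ^ 2 := by
    rw [← hcard]
    exact Subgroup.card_dvd_of_le hBA
  obtain ⟨k, hk2, hk⟩ := (Nat.dvd_prime_pow hp).mp hdvd
  have hlt : p < Nat.card (Subgroup.zpowers x₀ ⊔ Subgroup.zpowers y₀ : Subgroup P) := by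
    rw [← hZcard]
    by_contra hcon
    push Not at hcon
    exact hZBne (Subgroup.eq_of_le_of_card_ge hZB hcon)
  have hk2' : k = 2 := by
    rw [hk] at hlt
    interval_cases k
    · rw [pow_zero] at hlt
      have := hp.one_lt
      omega
    · rw [pow_one] at hlt
      exact absurd hlt (lt_irrefl p)
    · rfl
  rw [hk2'] at hk
  have heq := Subgroup.eq_of_le_of_card_ge hBA (by rw [hk, hcard])
  rw [heq]

/-- Ward's Theorem: let G be a finite solvable group and A an elementary abelian group of automorphisms of G of order p² (p a prime) with no non-identity common fixed point. Then G has Fitting height at most 2: G has Fitting height at most m when there is a chain of normal subgroups 1 = F₀ ≤ F₁ ≤ ⋯ ≤ F_m = G with each F_{i+1}/F_i nilpotent. -/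
theorem result {G : Type*} [Group G] [Finite G] (hG : Group.IsSolvable G) {p : ℕ} (hp : p.Prime) (A : Subgroup (MulAut G)) (hA : Cfsg.IsElementaryAbelian p A) (hcard : Nat.card A = p ^ 2) (hfpf : ∀ g : G, (∀ a ∈ A, a g = g) → g = 1) : ∃ F : Fin (2 + 1) → Subgroup G, F 0 = ⊥ ∧ F (Fin.last 2) = ⊤ ∧ Monotone F ∧ (∀ i, (F i).Normal) ∧ ∀ i : Fin 2, ∃ k : ℕ, (F i.succ).lowerCentralSeries k ≤ F i.castSucc := by
  haveI : Fact p.Prime := ⟨hp⟩
  obtain ⟨x₀, hx₀A, y₀, hy₀A, hcomm, hx₀p, hy₀p, hgen⟩ := exists_gens hp A hA hcard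
  have hfix : ∀ g : G, x₀ g = g → y₀ g = g → g = 1 := by
    intro g h1 h2
    apply hfpf g
    intro a ha
    -- the stabilizer of `g` contains `x₀, y₀`
    let St : Subgroup (MulAut G) :=
      { carrier := {a | a g = g}
        one_mem' := rfl
        mul_mem' := by
          intro a b ha hb
          show (a * b) g = g
          rw [MulAut.mul_apply, show b g = g from hb, show a g = g from ha]
        inv_mem' := by
          intro a ha
          show a⁻¹ g = g
          have h3 : a g = g := ha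
          calc a⁻¹ g = a⁻¹ (a g) := by rw [h3]
            _ = g := MulAut.inv_apply_self G a g }
    have hle : Subgroup.zpowers x₀ ⊔ Subgroup.zpowers y₀ ≤ St :=
      sup_le (Subgroup.zpowers_le.mpr h1) (Subgroup.zpowers_le.mpr h2)
    exact hle (hgen ha)
  obtain ⟨N₀, hN₀n, hN₀nil, m, hm⟩ :=
    Cfsg.Agent.Lib.H19.Ward.ward_abstract hG x₀ y₀ hcomm hx₀p hy₀p hfix
  obtain ⟨k₀, hk₀⟩ := (Subgroup.isNilpotent_iff_lowerCentralSeries N₀).mp hN₀nil
  refine ⟨![⊥, N₀, ⊤], rfl, rfl, ?_, ?_, ?_⟩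
  · rw [Fin.monotone_iff_le_succ]
    intro i
    fin_cases i
    · exact bot_le
    · exact le_top
  · intro i
    fin_cases i
    · exact (inferInstance : (⊥ : Subgroup G).Normal)
    · exact hN₀n
    · exact (inferInstance : (⊤ : Subgroup G).Normal)
  · intro i
    fin_cases i
    · exact ⟨k₀, hk₀.le⟩
    · exact ⟨m, hm⟩

end Cfsg.Agent.S3796
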