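import Cfsg.Statements.S3797
import Cfsg.Agent.Lib.H19.S3797Asm
import Cfsg.Agent.Lib.H22.S3797Frame
import Cfsg.Agent.Lib.H8.S3797Idx2
import Cfsg.Agent.Lib.H12.S3797Desc
import Cfsg.Agent.Lib.H2.S3797E0
import Cfsg.Agent.Lib.H12.S3797Crit
import Cfsg.Agent.Lib.H19.S3797Ser
import Cfsg.Agent.Lib.H15.S3797Fin
import Cfsg.Agent.Lib.H5.S3797AML
import Cfsg.Agent.Lib.H25.S3797M0A
import Cfsg.Agent.Lib.H1.S3797M0B
import Cfsg.Agent.Lib.H17.S3797RedA
import Cfsg.Agent.Lib.H4.S3797RedB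
import Cfsg.Agent.Lib.H29.S3797RedC
import Cfsg.Agent.Lib.H11.S3797HomoW

/-!
# S3797: solvable groups with one class of involutions (Thompson / Shult)

Paper proof: helper19 (team board #9612).  Theorem T (`O(G) = 1` ⇒ the Sylow 2-subgroup is normal) by strong
induction: frame `Q = O_2(G)`, `V = Ω_1(Z(Q))`; Huppert (S3360) and a descent to a normal subgroup of index 2
make `G / C_G(V)` odd; an odd-order `E ≤ N_G(S)` is transitive on `V ∖ 1` without fixed points on `S`; the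
main lemma on the anisotropic quadratic map `k ↦ k²` of `K / V` shows that `S` stabilises the series
`{k ∈ K | k^(2^j) = 1}` of the critical subgroup `K` of `Q` (S0093, S0121), hence `S ≤ Q`.
Pieces by the team (see `Lib/H19/S3797Defs`).
-/

set_option autoImplicit false
open Cfsg

namespace Cfsg.Agent.S3797

/-- Let G be a finite solvable group of even order whose Sylow 2-subgroups contain more than one involution, and suppose all involutions of G are conjugate. Then G has 2-length at most 1, and a Sylow 2-subgroup S of G is either homocyclic (a direct product of cyclic groups of one common order) or a non-abelian 2-group with more than one involution admitting a solvable group of automorphisms transitive on its involutions. -/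
theorem result {G : Type*} [Group G] [Finite G] (hG : Group.IsSolvable G) (heven : Even (Nat.card G)) (S : Sylow 2 G) (htwo : ∃ x y : G, x ∈ (S : Subgroup G) ∧ y ∈ (S : Subgroup G) ∧ x ≠ y ∧ x ≠ 1 ∧ x ^ 2 = 1 ∧ y ≠ 1 ∧ y ^ 2 = 1) (hconj : ∀ x y : G, x ≠ 1 → x ^ 2 = 1 → y ≠ 1 → y ^ 2 = 1 → IsConj x y) : Cfsg.PLengthLE 2 1 G ∧ ((∃ m r : ℕ, Nonempty (↥(S : Subgroup G) ≃* (Fin r → Multiplicative (ZMod (2 ^ m))))) ∨ (¬ IsMulCommutative (S : Subgroup G) ∧ ∃ Y : Subgroup (MulAut ↥(S : Subgroup G)), Group.IsSolvable Y ∧ ∀ x y : ↥(S : Subgroup G), x ≠ 1 → x ^ 2 = 1 → y ≠ 1 → y ^ 2 = 1 → ∃ a ∈ Y, a x = y)) :=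
  Cfsg.Agent.Lib.H19.S3797.main_of
    (Cfsg.Agent.Lib.H19.S3797.t_of Cfsg.Agent.Lib.H22.S3797Frame.frame
      Cfsg.Agent.Lib.H8.S3797Idx2.idx2 Cfsg.Agent.Lib.H12.S3797Desc.desc
      Cfsg.Agent.Lib.H2.S3797E0.e0 Cfsg.Agent.Lib.H12.S3797Crit.crit Cfsg.Agent.Lib.H19.S3797.ser
      Cfsg.Agent.H15.S3797Fin.fin
      (Cfsg.Agent.Lib.H1.S3797M0B.m0b
        (Cfsg.Agent.Lib.H25.S3797M0A.m0a Cfsg.Agent.Lib.H5.S3797ML.aml)))
    Cfsg.Agent.Lib.H17.S3797RedA.reda Cfsg.Agent.Lib.H4.S3797RedB.redb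
    Cfsg.Agent.Lib.H29.S3797RedC.redc Cfsg.Agent.H11.S3797HomoW.homo hG heven S htwo hconj

end Cfsg.Agent.S3797
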