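import Cfsg.Statements.S3799
import Cfsg.Agent.Lib.H19.Heisenberg
import Cfsg.Agent.Lib.H27.Extraspecial

set_option autoImplicit false
open Cfsg

namespace Cfsg.Agent.S3799

open Cfsg.Agent.Lib.H19 Cfsg.Agent.Lib.H19.Heis

/-- For every odd prime p and every n ≥ 1 there is an extraspecial p-group of order p^(1+2n) and exponent p; concretely, the general linear group of degree n + 2 over the field with p elements contains such a subgroup. -/
theorem result (p : ℕ) [Fact p.Prime] (hp : p ≠ 2) (n : ℕ) (hn : 1 ≤ n) : ∃ E : Subgroup (Matrix.GeneralLinearGroup (Fin (n + 2)) (ZMod p)), Cfsg.IsExtraspecial p ↥E ∧ Nat.card E = p ^ (1 + 2 * n) ∧ ∀ x ∈ E, x ^ p = 1 := by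
  have hpp := (Fact.out : p.Prime)
  set f := toGL n (ZMod p) with hf
  have hinj : Function.Injective f := toGL_injective
  have h2 : IsUnit (2 : ZMod p) := by
    have : ((2 : ℕ) : ZMod p) = 2 := by norm_cast
    rw [← this, ZMod.isUnit_iff_coprime]
    exact (Nat.coprime_primes Nat.prime_two hpp).2 (Ne.symm hp)
  have hpow : ∀ x : Heis n (ZMod p), x ^ p = 1 := fun x => pow_char_eq_one p h2 x
  have hcardE : Nat.card f.range = p ^ (1 + 2 * n) := by
    rw [← Nat.card_congr (MonoidHom.ofInjective hinj).toEquiv, card_eq, Nat.card_zmod]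
  refine ⟨f.range, ?_, hcardE, ?_⟩
  · apply Cfsg.Agent.Lib.H27.isExtraspecial_subgroup p f.range
      ((Subgroup.center (Heis n (ZMod p))).map f)
    · exact IsPGroup.of_card hcardE
    · rintro _ ⟨x, _, rfl⟩
      exact ⟨x, rfl⟩
    · rw [Subgroup.card_map_of_injective hinj, card_center, Nat.card_zmod]
    · ext g
      constructor
      · intro hg
        obtain ⟨⟨x, rfl⟩, hC⟩ := Subgroup.mem_inf.1 hg
        refine ⟨x, ?_, rfl⟩
        rw [SetLike.mem_coe, Subgroup.mem_center_iff]
        intro y
        apply hinj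
        rw [map_mul, map_mul]
        rw [Subgroup.mem_centralizer_iff] at hC
        exact hC (f y) ⟨y, rfl⟩
      · rintro ⟨x, hx, rfl⟩
        refine Subgroup.mem_inf.2 ⟨⟨x, rfl⟩, ?_⟩
        rw [Subgroup.mem_centralizer_iff]
        rintro _ ⟨y, rfl⟩
        rw [← map_mul, ← map_mul]
        rw [SetLike.mem_coe, Subgroup.mem_center_iff] at hx
        rw [hx y]
    · rw [MonoidHom.range_eq_map, ← Subgroup.map_commutator, ← commutator_def,
        commutator_eq_center hn]
    · rintro _ ⟨x, rfl⟩
      rw [← map_pow, hpow, map_one]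
      exact one_mem _
  · rintro _ ⟨x, rfl⟩
    rw [← map_pow, hpow, map_one]

end Cfsg.Agent.S3799
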