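import Cfsg.Statements.S3800
import Cfsg.Agent.Lib.H19.SylowAux
import Mathlib.Tactic.Group

set_option autoImplicit false
open Cfsg
open Cfsg.Agent.Lib.H19

namespace Cfsg.Agent.S3800

theorem result {G : Type*} [Group G] [Finite G] {p : ℕ} [Fact p.Prime] (N : Subgroup G) [N.Normal] (hN : (Nat.card N).Coprime p) (P : Subgroup G) (hP : IsPGroup p P) : Subgroup.normalizer ((P.map (QuotientGroup.mk' N)) : Set (G ⧸ N)) = (Subgroup.normalizer (P : Set G)).map (QuotientGroup.mk' N) ∧ Subgroup.centralizer ((P.map (QuotientGroup.mk' N)) : Set (G ⧸ N)) = (Subgroup.centralizer (P : Set G)).map (QuotientGroup.mk' N) := by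
  set π := QuotientGroup.mk' N with hπ
  have hp : p.Prime := Fact.out
  -- P ⊓ N = ⊥
  have hPN : P ⊓ N = ⊥ := by
    apply disjoint_iff.mp
    apply Subgroup.disjoint_of_coprime_natCard
    obtain ⟨k, hk⟩ := IsPGroup.iff_card.mp hP
    rw [hk]
    exact (Nat.Coprime.pow_left k (Nat.coprime_comm.mp hN))
  have hrel : ¬ p ∣ P.relIndex (P ⊔ N) := by
    rw [relIndex_sup_of_inf_eq_bot hPN]
    exact (Nat.Prime.coprime_iff_not_dvd hp).mp (Nat.coprime_comm.mp hN)
  -- key: if π x normalizes π P then some n ∈ N has n⁻¹ x ∈ N_G(P)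
  have key : ∀ x : G, π x ∈ Subgroup.normalizer ((P.map π : Subgroup (G ⧸ N)) : Set (G ⧸ N)) →
      ∃ n ∈ N, n⁻¹ * x ∈ Subgroup.normalizer (P : Set G) := by
    intro x hx
    have hxP : P.map (MulAut.conj x).toMonoidHom ≤ P ⊔ N := by
      rintro _ ⟨y, hy, rfl⟩
      have h1 : π x * π y * (π x)⁻¹ ∈ P.map π :=
        (Subgroup.mem_normalizer_iff.mp hx (π y)).mp ⟨y, hy, rfl⟩
      obtain ⟨u, hu, hue⟩ := h1
      have h2 : u⁻¹ * (x * y * x⁻¹) ∈ N := by
        rw [← QuotientGroup.eq_one_iff, ← QuotientGroup.mk'_apply, ← hπ]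
        rw [map_mul, map_inv, map_mul, map_mul, map_inv, hue]
        group
      have : x * y * x⁻¹ = u * (u⁻¹ * (x * y * x⁻¹)) := by group
      simp only [MulEquiv.coe_toMonoidHom, MulAut.conj_apply]
      rw [this]
      exact Subgroup.mul_mem _ (Subgroup.mem_sup_left hu) (Subgroup.mem_sup_right h2)
    have hQ : IsPGroup p (P.map (MulAut.conj x).toMonoidHom) := hP.map _
    have hQrel : ¬ p ∣ (P.map (MulAut.conj x).toMonoidHom).relIndex (P ⊔ N) := by
      have h1 := card_mul_relIndex hxP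
      have h2 := card_mul_relIndex (le_sup_left : P ≤ P ⊔ N)
      rw [card_map_conj] at h1
      have hpos : 0 < Nat.card P := Nat.card_pos
      have : (P.map (MulAut.conj x).toMonoidHom).relIndex (P ⊔ N) = P.relIndex (P ⊔ N) :=
        Nat.eq_of_mul_eq_mul_left hpos (h1.trans h2.symm)
      rw [this]; exact hrel
    obtain ⟨k, hk, hke⟩ := exists_conj_of_relIndex (le_sup_left : P ≤ P ⊔ N) hxP hP hQ hrel hQrel
    have hk' : k ∈ ((N ⊔ P : Subgroup G) : Set G) := by rw [sup_comm]; exact hk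
    rw [Subgroup.normal_mul] at hk'
    obtain ⟨n, hn, u, hu, rfl⟩ := hk'
    refine ⟨n, hn, ?_⟩
    rw [mem_normalizer_iff_map_conj, map_conj_mul, hke, ← map_conj_mul, inv_mul_cancel_left,
      map_conj_eq_of_mem hu]
  constructor
  · apply le_antisymm
    · intro y hy
      obtain ⟨x, rfl⟩ := QuotientGroup.mk'_surjective N y
      obtain ⟨n, hn, hnx⟩ := key x hy
      refine ⟨n⁻¹ * x, hnx, ?_⟩
      rw [map_mul, map_inv]
      have : π n = 1 := (QuotientGroup.eq_one_iff n).mpr hn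
      rw [this]; simp [hπ]
    · exact Subgroup.le_normalizer_map π
  · apply le_antisymm
    · intro y hy
      obtain ⟨x, rfl⟩ := QuotientGroup.mk'_surjective N y
      have hxn : π x ∈ Subgroup.normalizer ((P.map π : Subgroup (G ⧸ N)) : Set (G ⧸ N)) :=
        Subgroup.centralizer_le_normalizer _ hy
      obtain ⟨n, hn, hnx⟩ := key x hxn
      have hπn : π n = 1 := (QuotientGroup.eq_one_iff n).mpr hn
      have hπy : π (n⁻¹ * x) = π x := by rw [map_mul, map_inv, hπn]; simp
      refine ⟨n⁻¹ * x, ?_, hπy⟩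
      rw [SetLike.mem_coe, Subgroup.mem_centralizer_iff]
      intro u hu
      set z := n⁻¹ * x with hz
      have h1 : z * u * z⁻¹ ∈ P := (Subgroup.mem_normalizer_iff.mp hnx u).mp hu
      have h2 : z * u * z⁻¹ * u⁻¹ ∈ P := P.mul_mem h1 (P.inv_mem hu)
      have h3 : z * u * z⁻¹ * u⁻¹ ∈ N := by
        rw [← QuotientGroup.eq_one_iff, ← QuotientGroup.mk'_apply, ← hπ]
        rw [map_mul, map_mul, map_mul, map_inv, map_inv, hπy]
        have hc : π u * π x = π x * π u :=
          (Subgroup.mem_centralizer_iff.mp hy (π u) ⟨u, hu, rfl⟩)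
        calc π x * π u * (π x)⁻¹ * (π u)⁻¹ = (π x * π u) * (π u * π x)⁻¹ := by group
          _ = 1 := by rw [hc]; group
      have h4 : z * u * z⁻¹ * u⁻¹ ∈ P ⊓ N := ⟨h2, h3⟩
      rw [hPN, Subgroup.mem_bot] at h4
      calc u * z = (z * u * z⁻¹ * u⁻¹)⁻¹ * (z * u) := by group
        _ = z * u := by rw [h4]; group
    · rintro _ ⟨x, hx, rfl⟩
      rw [Subgroup.mem_centralizer_iff]
      rintro _ ⟨u, hu, rfl⟩
      rw [← map_mul, ← map_mul, Subgroup.mem_centralizer_iff.mp hx u hu]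

end Cfsg.Agent.S3800
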