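import Cfsg.Statements.S3802
import Cfsg.Agent.S3748

set_option autoImplicit false
open Cfsg

namespace Cfsg.Agent.S3802

/-- Let G be a finite group, M a maximal subgroup of G and N a subnormal subgroup of G contained in M. Then N is contained in every conjugate of M, that is, N lies in the core of M in G. -/
theorem result {G : Type*} [Group G] [Finite G] (M N : Subgroup G) (hM : IsCoatom M) (hN : N.IsSubnormal) (hNM : N ≤ M) :
    N ≤ Subgroup.normalCore M := by
  have hKn : (M.normalCore).Normal := M.normalCore_normal
  have hKM : M.normalCore ≤ M := M.normalCore_le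
  have hπ : Function.Surjective (QuotientGroup.mk' M.normalCore) :=
    QuotientGroup.mk'_surjective _
  have hker : (QuotientGroup.mk' M.normalCore).ker = M.normalCore := QuotientGroup.ker_mk' _
  have hcm : (M.map (QuotientGroup.mk' M.normalCore)).comap (QuotientGroup.mk' M.normalCore) = M := by
    rw [Subgroup.comap_map_eq, hker, sup_eq_left.2 hKM]
  have hMbar : M.map (QuotientGroup.mk' M.normalCore) ≠ ⊤ := by
    intro h
    have := congrArg (Subgroup.comap (QuotientGroup.mk' M.normalCore)) h
    rw [hcm, Subgroup.comap_top] at this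
    exact hM.1 this
  have hprim : ∀ N' : Subgroup (G ⧸ M.normalCore), N' ≤ M.map (QuotientGroup.mk' M.normalCore) →
      M.map (QuotientGroup.mk' M.normalCore) ≤ Subgroup.normalizer (N' : Set (G ⧸ M.normalCore)) →
      N' ≠ ⊥ → Subgroup.normalizer (N' : Set (G ⧸ M.normalCore))
        = M.map (QuotientGroup.mk' M.normalCore) := by
    intro N' h1 h2 h3
    have hLM : N'.comap (QuotientGroup.mk' M.normalCore) ≤ M := by
      exact (Subgroup.comap_mono h1).trans hcm.le
    have hnL := Subgroup.comap_normalizer_eq_of_surjective N' hπ
    have hML : M ≤ Subgroup.normalizer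
        ((N'.comap (QuotientGroup.mk' M.normalCore) : Subgroup G) : Set G) := by
      rw [← hnL]; exact hcm.ge.trans (Subgroup.comap_mono h2)
    rcases hM.le_iff.1 hML with h | h
    · exfalso
      have hLn : (N'.comap (QuotientGroup.mk' M.normalCore)).Normal :=
        Subgroup.normalizer_eq_top_iff.1 h
      have h4 : N'.comap (QuotientGroup.mk' M.normalCore) ≤ M.normalCore :=
        Subgroup.normal_le_normalCore.2 hLM
      have h5 := Subgroup.map_mono (f := QuotientGroup.mk' M.normalCore) h4
      rw [Subgroup.map_comap_eq_self_of_surjective hπ] at h5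
      have h6 : M.normalCore.map (QuotientGroup.mk' M.normalCore) = ⊥ := by
        rw [Subgroup.map_eq_bot_iff, hker]
      rw [h6] at h5
      exact h3 (le_bot_iff.1 h5)
    · rw [← Subgroup.map_comap_eq_self_of_surjective hπ
        (Subgroup.normalizer (N' : Set (G ⧸ M.normalCore))), hnL, h]
  have h := Cfsg.Agent.S3748.no_subnormal (M.map (QuotientGroup.mk' M.normalCore)) hMbar hprim
    (N.map (QuotientGroup.mk' M.normalCore)) (hN.map hπ) (Subgroup.map_mono hNM)
  rw [Subgroup.map_eq_bot_iff, hker] at h
  exact h

end Cfsg.Agent.S3802
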