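import Cfsg.Statements.S3803
import Cfsg.Agent.Lib.H26.SmallExponent
import Cfsg.Agent.Lib.H9.FrattiniAction
import Cfsg.Agent.Lib.H5.AutOdd
import Cfsg.Agent.Lib.H1.PGroupBasic

set_option autoImplicit false
open Cfsg

namespace Cfsg.Agent.S3803

variable {X : Type*} [Group X]

/-- An odd order automorphism mapping an element `x` with `x ^ 4 = 1` into `⟨x⟩` fixes `x`. -/
theorem fix_of_mem_zpowers [Finite X] (α : MulAut X) (hodd : Odd (orderOf α)) (x : X)
    (hx : x ^ 4 = 1) (h : α x ∈ Subgroup.zpowers x) : α x = x := by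
  have key : α x = x ∨ α x = x⁻¹ := by
    obtain ⟨k, hk⟩ := Subgroup.mem_zpowers_iff.mp h
    have hk' : x ^ k = x ^ (k % ((4 : ℕ) : ℤ)) := zpow_eq_zpow_emod' k hx
    have h0 : 0 ≤ k % ((4 : ℕ) : ℤ) := Int.emod_nonneg _ (by norm_num)
    have h4 : k % ((4 : ℕ) : ℤ) < 4 := Int.emod_lt_of_pos _ (by norm_num)
    have hone : α x = 1 → α x = x := by
      intro h1
      have : x = 1 := by
        apply α.injective
        rw [h1, map_one]
      rw [this, map_one]
    rw [hk'] at hk
    generalize k % ((4 : ℕ) : ℤ) = r at hk h0 h4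
    have hr : r = 0 ∨ r = 1 ∨ r = 2 ∨ r = 3 := by omega
    rcases hr with rfl | rfl | rfl | rfl
    · left
      apply hone
      rw [← hk, zpow_zero]
    · left
      rw [← hk, zpow_one]
    · left
      apply hone
      have h2 : α (x ^ 2) = 1 := by
        rw [map_pow, ← hk]
        have : (x ^ (2 : ℤ)) ^ 2 = x ^ 4 := by
          rw [show (2 : ℤ) = ((2 : ℕ) : ℤ) from rfl, zpow_natCast, ← pow_mul]
        rw [this, hx]
      have h3 : x ^ 2 = 1 := by
        apply α.injective
        rw [h2, map_one]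
      rw [← hk, show (2 : ℤ) = ((2 : ℕ) : ℤ) from rfl, zpow_natCast, h3]
    · right
      rw [← hk]
      have : x ^ (3 : ℤ) * x = 1 := by
        rw [show (3 : ℤ) = ((3 : ℕ) : ℤ) from rfl, zpow_natCast, ← pow_succ]
        exact hx
      exact eq_inv_of_mul_eq_one_left this
  apply Cfsg.Agent.Lib.H5.AutOdd.fix_of_pair α hodd x x⁻¹ key
  rcases key with h1 | h1
  · right
    rw [map_inv, h1]
  · left
    rw [map_inv, h1, inv_inv]

/-- An odd order automorphism leaving invariant a cyclic subgroup fixes its elements of order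
dividing four. -/
theorem fix_of_cyclic [Finite X] (α : MulAut X) (hodd : Odd (orderOf α)) (E : Subgroup X)
    (hc : IsCyclic E) (hinv : ∀ g ∈ E, α g ∈ E) (x : X) (hxE : x ∈ E) (hx : x ^ 4 = 1) :
    α x = x := by
  obtain ⟨c, hcgen⟩ := hc.exists_generator
  have hgen : ∀ y ∈ E, y ∈ Subgroup.zpowers (c : X) := by
    intro y hy
    obtain ⟨k, hk⟩ := Subgroup.mem_zpowers_iff.mp (hcgen ⟨y, hy⟩)
    refine Subgroup.mem_zpowers_iff.mpr ⟨k, ?_⟩
    have := congrArg Subtype.val hk
    simpa using this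
  apply fix_of_mem_zpowers α hodd x hx
  obtain ⟨j, hj⟩ := Subgroup.mem_zpowers_iff.mp (hgen _ (hinv _ c.2))
  obtain ⟨m, hm⟩ := Subgroup.mem_zpowers_iff.mp (hgen _ hxE)
  refine Subgroup.mem_zpowers_iff.mpr ⟨j, ?_⟩
  rw [← hm, map_zpow, ← hj, ← zpow_mul, ← zpow_mul, mul_comm]

theorem odd_orderOf_conj [Finite X] (a : X) (ha : Odd (orderOf a)) :
    Odd (orderOf (MulAut.conj a)) := by
  apply Odd.of_dvd_nat ha
  apply orderOf_dvd_of_pow_eq_one
  rw [← map_pow, pow_orderOf_eq_one, map_one]

/-- Subgroups of given order between a subgroup and the ambient `2`-subgroup. -/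
theorem exists_between [Finite X] (P : Subgroup X) (H : Subgroup X) (hHP : H ≤ P) {k m : ℕ}
    (hH : Nat.card H = 2 ^ k) (hkm : k ≤ m) (hm : 2 ^ m ∣ Nat.card P) :
    ∃ K : Subgroup X, H ≤ K ∧ K ≤ P ∧ Nat.card K = 2 ^ m := by
  have : Fact (Nat.Prime 2) := ⟨Nat.prime_two⟩
  have hH' : Nat.card (H.subgroupOf P) = 2 ^ k := by
    rw [← hH]
    exact Nat.card_congr (Subgroup.subgroupOfEquivOfLe hHP).toEquiv
  obtain ⟨K', hK', hHK'⟩ := Sylow.exists_subgroup_card_pow_prime_le 2 hm (H.subgroupOf P) hH' hkm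
  refine ⟨K'.map P.subtype, ?_, Subgroup.map_subtype_le _, ?_⟩
  · intro h hh
    refine ⟨⟨h, hHP hh⟩, hHK' ?_, rfl⟩
    exact Subgroup.mem_subgroupOf.mpr hh
  · rw [← hK']
    exact Nat.card_congr (K'.equivMapOfInjective _ P.subtype_injective).symm.toEquiv

/-- An odd order subgroup normalizing all maximal subgroups of a noncyclic `2`-group centralizes
it. -/
theorem centralizes_of_noncyclic [Finite X] (F A : Subgroup X) (d : ℕ)
    (hF : Nat.card F = 2 ^ (d + 1)) (hnc : ¬ IsCyclic F) (hA : Odd (Nat.card A))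
    (hinv : ∀ E : Subgroup X, E ≤ F → Nat.card E = 2 ^ d →
      A ≤ Subgroup.normalizer (E : Set X)) :
    A ≤ Subgroup.centralizer (F : Set X) := by
  have : Fact (Nat.Prime 2) := ⟨Nat.prime_two⟩
  have hF2 : IsPGroup 2 F := IsPGroup.of_card hF
  -- maximal subgroups
  have hcoatom : ∀ M : Subgroup F, IsCoatom M →
      Nat.card (M.map F.subtype) = 2 ^ d ∧ M.index = 2 := by
    intro M hM
    have hidx : M.index = 2 := Cfsg.Agent.Lib.H1.isPGroup_coatom_index hF2 hM
    refine ⟨?_, hidx⟩
    have h1 := M.card_mul_index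
    rw [hidx, hF, pow_succ] at h1
    have h2 : Nat.card M = 2 ^ d := Nat.eq_of_mul_eq_mul_right (by norm_num) h1
    rw [← h2]
    exact Nat.card_congr (M.equivMapOfInjective _ F.subtype_injective).symm.toEquiv
  have hmemmap : ∀ (M : Subgroup F) (q : X) (hq : q ∈ F),
      q ∈ M.map F.subtype ↔ (⟨q, hq⟩ : F) ∈ M := by
    intro M q hq
    constructor
    · rintro ⟨y, hy, hyq⟩
      have : y = ⟨q, hq⟩ := Subtype.ext hyq
      rwa [← this]
    · intro h
      exact ⟨⟨q, hq⟩, h, rfl⟩
  -- `A` normalizes `F`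
  have hnormF : ∀ b ∈ A, ∀ q ∈ F, b * q * b⁻¹ ∈ F := by
    intro b hb q hq
    have hne : Subgroup.zpowers (⟨q, hq⟩ : F) ≠ ⊤ := by
      intro htop
      apply hnc
      refine ⟨⟨⟨q, hq⟩, fun y => ?_⟩⟩
      have : y ∈ Subgroup.zpowers (⟨q, hq⟩ : F) := by rw [htop]; trivial
      exact this
    obtain ⟨M, hM, hle⟩ := (eq_top_or_exists_le_coatom _).resolve_left hne
    have hb' := hinv (M.map F.subtype) (Subgroup.map_subtype_le _) (hcoatom M hM).1 hb
    have hqM : q ∈ M.map F.subtype :=
      (hmemmap M q hq).mpr (hle (Subgroup.mem_zpowers _))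
    exact Subgroup.map_subtype_le _ ((Subgroup.mem_normalizer_iff.mp hb' q).mp hqM)
  have hnormF' : ∀ b ∈ A, b ∈ Subgroup.normalizer (F : Set X) := by
    intro b hb
    rw [Subgroup.mem_normalizer_iff]
    intro q
    constructor
    · exact hnormF b hb q
    · intro h
      have := hnormF b⁻¹ (A.inv_mem hb) _ h
      have h2 : b⁻¹ * (b * q * b⁻¹) * b⁻¹⁻¹ = q := by group
      rwa [h2] at this
  -- commutators lie in the Frattini subgroup
  have hfrat : ∀ b ∈ A, ∀ q ∈ F,
      b * q * b⁻¹ * q⁻¹ ∈ (frattini ↥F).map F.subtype := by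
    intro b hb q hq
    have hbq : b * q * b⁻¹ ∈ F := hnormF b hb q hq
    have hmem : b * q * b⁻¹ * q⁻¹ ∈ F := F.mul_mem hbq (F.inv_mem hq)
    refine ⟨⟨_, hmem⟩, ?_, rfl⟩
    have : Subgroup.zpowers (⟨_, hmem⟩ : F) ≤ frattini ↥F := by
      rw [Cfsg.Agent.Lib.H1.le_frattini_iff]
      intro M hM
      rw [Subgroup.zpowers_le]
      have hb' := hinv (M.map F.subtype) (Subgroup.map_subtype_le _) (hcoatom M hM).1 hb
      have h1 : q ∈ M.map F.subtype ↔ b * q * b⁻¹ ∈ M.map F.subtype :=
        Subgroup.mem_normalizer_iff.mp hb' q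
      rw [hmemmap M q hq, hmemmap M _ hbq] at h1
      have h2 : (⟨_, hmem⟩ : F) = ⟨_, hbq⟩ * (⟨q, hq⟩ : F)⁻¹ := rfl
      rw [h2, Subgroup.mul_mem_iff_of_index_two (hcoatom M hM).2, inv_mem_iff]
      exact h1.symm
    exact this (Subgroup.mem_zpowers _)
  intro a ha
  rw [Subgroup.mem_centralizer_iff]
  intro q hq
  have hoa : Odd (orderOf a) := by
    apply Odd.of_dvd_nat hA
    have := orderOf_dvd_natCard (⟨a, ha⟩ : A)
    rwa [Subgroup.orderOf_mk] at this
  have hcop : (orderOf a).Coprime 2 := Nat.Coprime.symm (Nat.coprime_two_left.mpr hoa)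
  have := Cfsg.Agent.Lib.H9.commute_of_commutator_mem_frattini hF2 (hnormF' a ha) hcop
    (fun b hb q hq => hfrat b (Subgroup.zpowers_le.mpr ha hb) q hq) q hq
  exact this.symm

/-- Let P be a 2-subgroup and A a subgroup of odd order of a finite group, with A normalizing P. Let D ≤ P with 1 < |D| < |P|. If every subgroup of P of order |D|, and also every subgroup of P of order 4 in case |D| = 2, is normalized by A, then A centralizes P. -/
theorem result {X : Type*} [Group X] [Finite X] (P A D : Subgroup X) (hP : IsPGroup 2 P) (hA : Odd (Nat.card A))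
    (hAP : A ≤ Subgroup.normalizer (P : Set X)) (hDP : D ≤ P) (hD1 : 1 < Nat.card D) (hD2 : Nat.card D < Nat.card P)
    (hinv : ∀ E : Subgroup X, E ≤ P → (Nat.card E = Nat.card D ∨ (Nat.card D = 2 ∧ Nat.card E = 4)) → A ≤ Subgroup.normalizer (E : Set X)) :
    A ≤ Subgroup.centralizer (P : Set X) := by
  have : Fact (Nat.Prime 2) := ⟨Nat.prime_two⟩
  obtain ⟨n, hn⟩ := IsPGroup.iff_card.mp hP
  obtain ⟨d, hd⟩ := IsPGroup.iff_card.mp (hP.to_le hDP)
  have hd1 : 1 ≤ d := by
    rcases Nat.eq_zero_or_pos d with h | h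
    · rw [hd, h, pow_zero] at hD1
      omega
    · exact h
  have hdn : d < n := by
    rw [hd, hn] at hD2
    exact (Nat.pow_lt_pow_iff_right (by norm_num)).mp hD2
  have hoA : ∀ a ∈ A, Odd (orderOf a) := by
    intro a ha
    apply Odd.of_dvd_nat hA
    have := orderOf_dvd_natCard (⟨a, ha⟩ : A)
    rwa [Subgroup.orderOf_mk] at this
  -- Step 1: elements of order dividing four are centralized
  have step1 : ∀ a ∈ A, ∀ x ∈ P, x ^ 4 = 1 → a * x * a⁻¹ = x := by
    intro a ha x hxP hx
    have hα : Odd (orderOf (MulAut.conj a)) := odd_orderOf_conj a (hoA a ha)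
    have hzP : Subgroup.zpowers x ≤ P := Subgroup.zpowers_le.mpr hxP
    obtain ⟨k, hk2, hk⟩ : ∃ k ≤ 2, Nat.card (Subgroup.zpowers x) = 2 ^ k := by
      have h1 : orderOf x ∣ 2 ^ 2 := orderOf_dvd_of_pow_eq_one hx
      rw [Nat.card_zpowers]
      exact (Nat.dvd_prime_pow Nat.prime_two).mp h1
    rcases Nat.lt_or_ge d 2 with hd2 | hd2
    · -- `|D| = 2`
      have hd' : d = 1 := by omega
      have hD : Nat.card D = 2 := by rw [hd, hd', pow_one]
      have hnorm : a ∈ Subgroup.normalizer (Subgroup.zpowers x : Set X) := by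
        have hk' : k = 0 ∨ k = 1 ∨ k = 2 := by omega
        rcases hk' with rfl | rfl | rfl
        · have : Subgroup.zpowers x = ⊥ := Subgroup.eq_bot_of_card_eq _ (by rw [hk, pow_zero])
          rw [this]
          rw [Subgroup.mem_normalizer_iff]
          intro h
          rw [Subgroup.mem_bot, Subgroup.mem_bot]
          constructor
          · rintro rfl
            group
          · intro h1
            have : h = a⁻¹ * (a * h * a⁻¹) * a := by group
            rw [this, h1]
            group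
        · exact hinv _ hzP (Or.inl (by rw [hk, hD, pow_one])) ha
        · exact hinv _ hzP (Or.inr ⟨hD, by rw [hk]; norm_num⟩) ha
      apply fix_of_mem_zpowers (MulAut.conj a) hα x hx
      rw [MulAut.conj_apply]
      exact (Subgroup.mem_normalizer_iff.mp hnorm x).mp (Subgroup.mem_zpowers x)
    · -- `|D| ≥ 4`
      obtain ⟨E, hzE, hEP, hE⟩ := exists_between P (Subgroup.zpowers x) hzP hk (hk2.trans hd2)
        (by rw [hn]; exact pow_dvd_pow 2 hdn.le)
      obtain ⟨F, hEF, hFP, hF⟩ := exists_between P E hEP hE (Nat.le_succ d)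
        (by rw [hn]; exact pow_dvd_pow 2 hdn)
      have hxE : x ∈ E := hzE (Subgroup.mem_zpowers x)
      by_cases hc : IsCyclic F
      · have hcE : IsCyclic E := by
          have h1 : IsCyclic (E.subgroupOf F) := inferInstance
          exact (Subgroup.subgroupOfEquivOfLe hEF).isCyclic.mp h1
        have hnorm : a ∈ Subgroup.normalizer (E : Set X) :=
          hinv E hEP (Or.inl (by rw [hE, hd])) ha
        have := fix_of_cyclic (MulAut.conj a) hα E hcE
          (fun g hg => by
            rw [MulAut.conj_apply]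
            exact (Subgroup.mem_normalizer_iff.mp hnorm g).mp hg) x hxE hx
        rwa [MulAut.conj_apply] at this
      · have hcent := centralizes_of_noncyclic F A d hF hc hA
          (fun E' hE'F hE' => hinv E' (hE'F.trans hFP) (Or.inl (by rw [hE', hd]))) ha
        rw [Subgroup.mem_centralizer_iff] at hcent
        have := hcent x (hEF hxE)
        rw [← this]
        group
  -- Step 2
  intro a ha
  rw [Subgroup.mem_centralizer_iff]
  intro q hq
  have hnorm : a ∈ Subgroup.normalizer (P : Set X) := hAP ha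
  have hinvP : ∀ x ∈ P, MulAut.conj a x ∈ P := by
    intro x hx
    rw [MulAut.conj_apply]
    exact (Subgroup.mem_normalizer_iff.mp hnorm x).mp hx
  have hα : Odd (orderOf (MulAut.conj a)) := odd_orderOf_conj a (hoA a ha)
  have hcop : Nat.Coprime (orderOf (Cfsg.Agent.Lib.H26.restrictAut (MulAut.conj a) P hinvP)) 2 := by
    apply Nat.Coprime.symm
    rw [Nat.coprime_two_left]
    exact Odd.of_dvd_nat hα (Cfsg.Agent.Lib.H26.orderOf_restrictAut_dvd _ P hinvP)
  have h1 := Cfsg.Agent.Lib.H26.aut_eq_one_of_fix_small hP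
    (Cfsg.Agent.Lib.H26.restrictAut (MulAut.conj a) P hinvP) hcop (by
      intro x hx
      apply Subtype.ext
      rw [Cfsg.Agent.Lib.H26.restrictAut_apply, MulAut.conj_apply]
      apply step1 a ha x x.2
      rcases hx with hx | ⟨_, hx⟩
      · have := congrArg Subtype.val hx
        have h2 : (x : X) ^ 2 = 1 := by simpa using this
        rw [show 4 = 2 * 2 from rfl, pow_mul, h2, one_pow]
      · have := congrArg Subtype.val hx
        simpa using this)
  have h2 : ((Cfsg.Agent.Lib.H26.restrictAut (MulAut.conj a) P hinvP ⟨q, hq⟩ : P) : X)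
      = a * q * a⁻¹ := by
    rw [Cfsg.Agent.Lib.H26.restrictAut_apply, MulAut.conj_apply]
  rw [h1] at h2
  have h3 : q = a * q * a⁻¹ := h2
  calc q * a = a * q * a⁻¹ * a := by rw [← h3]
    _ = a * q := by group

end Cfsg.Agent.S3803
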