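import Cfsg.Statements.S3804
import Cfsg.Agent.Lib.H19.ProdCard

set_option autoImplicit false
open Cfsg

namespace Cfsg.Agent.S3804

open Cfsg.Agent.Lib.H19

variable {X : Type*} [Group X] [Finite X]

/-- the measure `m(A) = |A|^α |C_H(A)|` -/
noncomputable def m (H : Subgroup X) (α : ℝ) (A : Subgroup X) : ℝ :=
  ((Nat.card A : ℝ) ^ α) * (Nat.card ↥(H ⊓ Subgroup.centralizer (A : Set X)) : ℝ)

theorem m_pos (H : Subgroup X) (α : ℝ) (A : Subgroup X) : 0 < m H α A := by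
  unfold m
  have h1 : (0 : ℝ) < (Nat.card A : ℝ) := by exact_mod_cast Nat.card_pos
  have h2 : (0 : ℝ) < (Nat.card ↥(H ⊓ Subgroup.centralizer (A : Set X)) : ℝ) := by
    exact_mod_cast Nat.card_pos
  exact mul_pos (Real.rpow_pos_of_pos h1 α) h2

theorem core (H : Subgroup X) (α : ℝ) (hα : 0 < α) (A B : Subgroup X) (μ : ℝ)
    (hA : m H α A = μ) (hB : m H α B = μ) (hS : m H α (A ⊔ B) ≤ μ) (hI : m H α (A ⊓ B) ≤ μ) :
    m H α (A ⊔ B) = μ ∧ m H α (A ⊓ B) = μ ∧ (∀ g ∈ A ⊔ B, ∃ a ∈ A, ∃ b ∈ B, g = a * b) ∧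
      (∀ h ∈ H ⊓ Subgroup.centralizer ((A ⊓ B : Subgroup X) : Set X),
        ∃ u ∈ H ⊓ Subgroup.centralizer (A : Set X), ∃ v ∈ H ⊓ Subgroup.centralizer (B : Set X),
          h = u * v) := by
  set CA := H ⊓ Subgroup.centralizer (A : Set X) with hCA
  set CB := H ⊓ Subgroup.centralizer (B : Set X) with hCB
  set CS := H ⊓ Subgroup.centralizer ((A ⊔ B : Subgroup X) : Set X) with hCS
  set CI := H ⊓ Subgroup.centralizer ((A ⊓ B : Subgroup X) : Set X) with hCI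
  have hle1 : CA ⊔ CB ≤ CI := by
    apply sup_le
    · exact inf_le_inf_left _ (Subgroup.centralizer_le (by exact_mod_cast (inf_le_left : A ⊓ B ≤ A)))
    · exact inf_le_inf_left _ (Subgroup.centralizer_le (by exact_mod_cast (inf_le_right : A ⊓ B ≤ B)))
  have hle2 : CA ⊓ CB ≤ CS := by
    apply le_inf
    · exact inf_le_left.trans inf_le_left
    · rw [Subgroup.le_centralizer_iff]
      apply sup_le
      · rw [← Subgroup.le_centralizer_iff]
        exact inf_le_left.trans inf_le_right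
      · rw [← Subgroup.le_centralizer_iff]
        exact inf_le_right.trans inf_le_right
  have n1 := card_mul_card_le_sup_mul_inf A B
  have n2 := card_mul_card_le_sup_mul_inf CA CB
  have n3 : Nat.card ↥(CA ⊔ CB) ≤ Nat.card CI := Subgroup.card_le_of_le hle1
  have n4 : Nat.card ↥(CA ⊓ CB) ≤ Nat.card CS := Subgroup.card_le_of_le hle2
  set a := Nat.card A with ha
  set b := Nat.card B with hb
  set s := Nat.card ↥(A ⊔ B) with hs
  set i := Nat.card ↥(A ⊓ B) with hi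
  set ca := Nat.card CA with hca
  set cb := Nat.card CB with hcb
  set cs := Nat.card CS with hcs
  set ci := Nat.card CI with hci
  set j := Nat.card ↥(CA ⊔ CB) with hj
  set k := Nat.card ↥(CA ⊓ CB) with hk
  have pa : 0 < a := Nat.card_pos
  have pb : 0 < b := Nat.card_pos
  have ps : 0 < s := Nat.card_pos
  have pi : 0 < i := Nat.card_pos
  have pca : 0 < ca := Nat.card_pos
  have pcb : 0 < cb := Nat.card_pos
  have pcs : 0 < cs := Nat.card_pos
  have pci : 0 < ci := Nat.card_pos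
  have pj : 0 < j := Nat.card_pos
  have pk : 0 < k := Nat.card_pos
  have mA : m H α A = (a : ℝ) ^ α * (ca : ℝ) := rfl
  have mB : m H α B = (b : ℝ) ^ α * (cb : ℝ) := rfl
  have mS : m H α (A ⊔ B) = (s : ℝ) ^ α * (cs : ℝ) := rfl
  have mI : m H α (A ⊓ B) = (i : ℝ) ^ α * (ci : ℝ) := rfl
  have pS := m_pos H α (A ⊔ B)
  have pI := m_pos H α (A ⊓ B)
  have pμ : 0 < μ := hA ▸ m_pos H α A
  set u : ℝ := ((a * b : ℕ) : ℝ) ^ α with hu
  set u' : ℝ := ((s * i : ℕ) : ℝ) ^ α with hu'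
  set v : ℝ := ((ca * cb : ℕ) : ℝ) with hv
  set v' : ℝ := ((ci * cs : ℕ) : ℝ) with hv'
  have e1 : u * v = μ * μ := by
    rw [hu, hv, Nat.cast_mul, Nat.cast_mul, Real.mul_rpow (Nat.cast_nonneg _) (Nat.cast_nonneg _)]
    have h1 : μ * μ = ((a : ℝ) ^ α * (ca : ℝ)) * ((b : ℝ) ^ α * (cb : ℝ)) := by
      rw [← mA, ← mB, hA, hB]
    rw [h1]; ring
  have e2 : u' * v' = m H α (A ⊔ B) * m H α (A ⊓ B) := by
    rw [hu', hv', Nat.cast_mul, Nat.cast_mul, Real.mul_rpow (Nat.cast_nonneg _) (Nat.cast_nonneg _),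
      mS, mI]; ring
  have pu : 0 < u := Real.rpow_pos_of_pos (by exact_mod_cast Nat.mul_pos pa pb) α
  have pv : 0 < v := by rw [hv]; exact_mod_cast Nat.mul_pos pca pcb
  have uu : u ≤ u' := by
    apply Real.rpow_le_rpow (Nat.cast_nonneg _) _ hα.le
    exact_mod_cast n1
  have n5 : ca * cb ≤ ci * cs := n2.trans (Nat.mul_le_mul n3 n4)
  have vv : v ≤ v' := by rw [hv, hv']; exact_mod_cast n5
  have pu' : 0 < u' := lt_of_lt_of_le pu uu
  have pv' : 0 < v' := lt_of_lt_of_le pv vv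
  have e3 : μ * μ ≤ u' * v' := by
    rw [← e1]; exact mul_le_mul uu vv pv.le pu'.le
  have e4 : m H α (A ⊔ B) * m H α (A ⊓ B) ≤ μ * μ := mul_le_mul hS hI pI.le pμ.le
  have rS : m H α (A ⊔ B) = μ := by
    by_contra hne
    have hlt : m H α (A ⊔ B) < μ := lt_of_le_of_ne hS hne
    have : m H α (A ⊔ B) * m H α (A ⊓ B) < μ * μ :=
      lt_of_lt_of_le (mul_lt_mul_of_pos_right hlt pI) (mul_le_mul_of_nonneg_left hI pμ.le)
    rw [← e2] at this
    linarith
  have rI : m H α (A ⊓ B) = μ := by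
    by_contra hne
    have hlt : m H α (A ⊓ B) < μ := lt_of_le_of_ne hI hne
    have : m H α (A ⊔ B) * m H α (A ⊓ B) < μ * μ :=
      lt_of_le_of_lt (mul_le_mul_of_nonneg_right hS pI.le) (mul_lt_mul_of_pos_left hlt pμ)
    rw [← e2] at this
    linarith
  have e5 : u' * v' = u * v := by rw [e2, rS, rI, e1]
  have ru : u = u' := by
    by_contra hne
    have hlt : u < u' := lt_of_le_of_ne uu hne
    have : u * v < u' * v' :=
      lt_of_lt_of_le (mul_lt_mul_of_pos_right hlt pv) (mul_le_mul_of_nonneg_left vv pu'.le)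
    linarith
  have rv : v = v' := by
    by_contra hne
    have hlt : v < v' := lt_of_le_of_ne vv hne
    have : u * v < u' * v' :=
      lt_of_le_of_lt (mul_le_mul_of_nonneg_right uu pv.le) (mul_lt_mul_of_pos_left hlt pu')
    linarith
  have r1 : a * b = s * i := by
    by_contra hne
    have hlt : a * b < s * i := lt_of_le_of_ne n1 hne
    have : u < u' := by
      apply Real.rpow_lt_rpow (Nat.cast_nonneg _) _ hα
      exact_mod_cast hlt
    linarith
  have r2 : ca * cb = ci * cs := by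
    rw [hv, hv'] at rv; exact_mod_cast rv
  have r3 : ca * cb = j * k := by
    apply le_antisymm n2
    rw [r2]; exact Nat.mul_le_mul n3 n4
  have r4 : j = ci := by
    by_contra hne
    have hlt : j < ci := lt_of_le_of_ne n3 hne
    have : j * k < ci * cs :=
      lt_of_lt_of_le (Nat.mul_lt_mul_of_pos_right hlt pk) (Nat.mul_le_mul_left _ n4)
    omega
  have hsupeq : CA ⊔ CB = CI := Subgroup.eq_of_le_of_card_ge hle1 (le_of_eq r4.symm)
  refine ⟨rS, rI, exists_mul_of_card_mul_card_eq A B r1, ?_⟩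
  intro h hh
  rw [← hsupeq] at hh
  exact exists_mul_of_card_mul_card_eq CA CB r3 h hh

theorem result {X : Type*} [Group X] [Finite X] (G H : Subgroup X) (hGH : G ≤ Subgroup.normalizer (H : Set X)) (α : ℝ) (hα : 0 < α)
    (A B : Subgroup X) (hA : A ≤ G) (hB : B ≤ G) (hA1 : A ≠ ⊥) (hB1 : B ≠ ⊥)
    (hAmax : ∀ A' : Subgroup X, A' ≤ G → A' ≠ ⊥ → (fun A : Subgroup X => ((Nat.card A : ℝ) ^ α) * (Nat.card ↥(H ⊓ Subgroup.centralizer (A : Set X)) : ℝ)) A' ≤ (fun A : Subgroup X => ((Nat.card A : ℝ) ^ α) * (Nat.card ↥(H ⊓ Subgroup.centralizer (A : Set X)) : ℝ)) A)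
    (hBmax : ∀ A' : Subgroup X, A' ≤ G → A' ≠ ⊥ → (fun A : Subgroup X => ((Nat.card A : ℝ) ^ α) * (Nat.card ↥(H ⊓ Subgroup.centralizer (A : Set X)) : ℝ)) A' ≤ (fun A : Subgroup X => ((Nat.card A : ℝ) ^ α) * (Nat.card ↥(H ⊓ Subgroup.centralizer (A : Set X)) : ℝ)) B)
    (hcase : A ⊓ B ≠ ⊥ ∨ (Nat.card H : ℝ) ≤ (fun A : Subgroup X => ((Nat.card A : ℝ) ^ α) * (Nat.card ↥(H ⊓ Subgroup.centralizer (A : Set X)) : ℝ)) A) :
    (∀ a ∈ A, ∀ b ∈ B, ∃ b' ∈ B, ∃ a' ∈ A, a * b = b' * a') ∧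
    (∀ A' : Subgroup X, A' ≤ G → A' ≠ ⊥ → (fun A : Subgroup X => ((Nat.card A : ℝ) ^ α) * (Nat.card ↥(H ⊓ Subgroup.centralizer (A : Set X)) : ℝ)) A' ≤ (fun A : Subgroup X => ((Nat.card A : ℝ) ^ α) * (Nat.card ↥(H ⊓ Subgroup.centralizer (A : Set X)) : ℝ)) (A ⊔ B)) ∧
    (∀ h ∈ H ⊓ Subgroup.centralizer ((A ⊓ B : Subgroup X) : Set X), ∃ u ∈ H ⊓ Subgroup.centralizer (A : Set X), ∃ v ∈ H ⊓ Subgroup.centralizer (B : Set X), h = u * v) ∧
    (A ⊓ B ≠ ⊥ → ∀ A' : Subgroup X, A' ≤ G → A' ≠ ⊥ → (fun A : Subgroup X => ((Nat.card A : ℝ) ^ α) * (Nat.card ↥(H ⊓ Subgroup.centralizer (A : Set X)) : ℝ)) A' ≤ (fun A : Subgroup X => ((Nat.card A : ℝ) ^ α) * (Nat.card ↥(H ⊓ Subgroup.centralizer (A : Set X)) : ℝ)) (A ⊓ B)) := by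
  have hAmax' : ∀ A' : Subgroup X, A' ≤ G → A' ≠ ⊥ → m H α A' ≤ m H α A := hAmax
  have hBmax' : ∀ A' : Subgroup X, A' ≤ G → A' ≠ ⊥ → m H α A' ≤ m H α B := hBmax
  have hcase' : A ⊓ B ≠ ⊥ ∨ (Nat.card H : ℝ) ≤ m H α A := hcase
  have hAB : m H α A = m H α B := le_antisymm (hBmax' A hA hA1) (hAmax' B hB hB1)
  have hS : m H α (A ⊔ B) ≤ m H α A := by
    apply hAmax' _ (sup_le hA hB)
    intro h
    apply hA1
    rw [eq_bot_iff, ← h]; exact le_sup_left
  have hI : m H α (A ⊓ B) ≤ m H α A := by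
    by_cases hbot : A ⊓ B = ⊥
    · rcases hcase' with h | h
      · exact absurd hbot h
      · have : m H α (A ⊓ B) = (Nat.card H : ℝ) := by
          unfold m
          rw [hbot]
          have h1 : Subgroup.centralizer (((⊥ : Subgroup X)) : Set X) = ⊤ := by
            rw [Subgroup.coe_bot]
            ext x
            simp [Subgroup.mem_centralizer_iff]
          rw [h1, inf_top_eq, Subgroup.card_bot]
          simp
        rw [this]; exact h
    · exact hAmax' _ (inf_le_left.trans hA) hbot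
  obtain ⟨c1, c2, c3, c4⟩ := core H α hα A B (m H α A) rfl hAB.symm hS hI
  refine ⟨?_, ?_, c4, ?_⟩
  · intro a ha b hb
    have hmem : (a * b)⁻¹ ∈ A ⊔ B :=
      inv_mem (mul_mem (Subgroup.mem_sup_left ha) (Subgroup.mem_sup_right hb))
    obtain ⟨a1, ha1, b1, hb1, h⟩ := c3 _ hmem
    refine ⟨b1⁻¹, inv_mem hb1, a1⁻¹, inv_mem ha1, ?_⟩
    have : a * b = (a1 * b1)⁻¹ := by rw [← h, inv_inv]
    rw [this, mul_inv_rev]
  · intro A' hA' hA'1
    show m H α A' ≤ m H α (A ⊔ B)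
    rw [c1]; exact hAmax' A' hA' hA'1
  · intro _ A' hA' hA'1
    show m H α A' ≤ m H α (A ⊓ B)
    rw [c2]; exact hAmax' A' hA' hA'1

end Cfsg.Agent.S3804
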