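import Cfsg.Statements.S3805
import Cfsg.Agent.Lib.H7.K4Main
import Cfsg.Agent.Lib.H7.K4GRP0
import Cfsg.Agent.Lib.H14.K4GRPC
import Cfsg.Agent.Lib.H22.K4GRPA
import Cfsg.Agent.Lib.H6.K4GRPB

set_option autoImplicit false
open Cfsg

namespace Cfsg.Agent.S3805

open Cfsg.Agent.Lib.H7.K4

/-- Let G be a finite group whose Sylow 3-subgroup T is elementary abelian of order 9 and self-centralizing, with N_G(T)/T a Klein four-group, and suppose that the centralizer of every nonidentity element of T lies in N_G(T). Then T is normal in G. -/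
theorem result {G : Type*} [Group G] [Finite G]
    (T : Sylow 3 G) (hT : Cfsg.IsElementaryAbelian 3 (T : Subgroup G)) (hcard : Nat.card T = 9)
    (hC : Subgroup.centralizer ((T : Subgroup G) : Set G) = T)
    [hn : ((T : Subgroup G).subgroupOf (Subgroup.normalizer ((T : Subgroup G) : Set G))).Normal]
    (hK : IsKleinFour (↥(Subgroup.normalizer ((T : Subgroup G) : Set G)) ⧸
      (T : Subgroup G).subgroupOf (Subgroup.normalizer ((T : Subgroup G) : Set G))))
    (hloc : ∀ t ∈ (T : Subgroup G), t ≠ 1 →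
      Subgroup.centralizer ({t} : Set G) ≤ Subgroup.normalizer ((T : Subgroup G) : Set G)) :
    Subgroup.normalizer ((T : Subgroup G) : Set G) = ⊤ := by
  have h36 := card_normalizer T hcard hK
  obtain ⟨x, y, u, v, hxT, hyT, huN, hvN, hx1, hy1, hu2, hv2, huv, hux, huy, hvx, hvy⟩ :=
    Cfsg.Agent.Lib.H22.K4.exists_gens T hT hcard hC hK
  have hTN : (T : Subgroup G) ≤ Subgroup.normalizer ((T : Subgroup G) : Set G) :=
    Subgroup.le_normalizer
  have hcomm : x * y = y * x := by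
    haveI := hT.1
    have h1 := mul_comm' (⟨x, hxT⟩ : (T : Subgroup G)) ⟨y, hyT⟩
    exact congrArg Subtype.val h1
  obtain ⟨e⟩ := Cfsg.Agent.Lib.H6.K4.iso_of_gens
    (N := ↥(Subgroup.normalizer ((T : Subgroup G) : Set G))) h36
    ⟨x, hTN hxT⟩ ⟨y, hTN hyT⟩ ⟨u, huN⟩ ⟨v, hvN⟩
    (Subtype.ext (hT.2 x hxT)) (Subtype.ext (hT.2 y hyT)) (Subtype.ext hcomm)
    (fun hh => hx1 (congrArg Subtype.val hh)) (fun hh => hy1 (congrArg Subtype.val hh))
    (Subtype.ext hu2) (Subtype.ext hv2) (Subtype.ext huv) (Subtype.ext hux) (Subtype.ext huy)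
    (Subtype.ext hvx) (Subtype.ext hvy)
  exact main_abstract ⟨Subgroup.normalizer ((T : Subgroup G) : Set G), e,
    Cfsg.Agent.Lib.H14.K4.ti_of_hyp T hT h36 hloc⟩

end Cfsg.Agent.S3805
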