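-- Statement S3806: p-group of maximal class with sectional rank k, p ≥ k + 2, has order ≤ p^(2k).
import Cfsg.Statements.S3806
import Cfsg.Agent.Lib.H25.MCSEXP
import Cfsg.Agent.Lib.H22.MCSSEC

set_option autoImplicit false
open Cfsg

namespace Cfsg.Agent.S3806

open scoped commutatorElement
open Cfsg.Agent.Lib.H25.R2 Cfsg.Agent.Lib.H25.MCS Cfsg.Agent.Lib.H22.MCS

/-- the index of `γ_{i+1}` in a group of maximal class -/
theorem s3806_index_lcs {S : Type*} [Group S] [Finite S] (p : ℕ) [Fact p.Prime] {n : ℕ} (hn : 3 ≤ n)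
    (hcard : Nat.card S = p ^ n) (hmc : (⊤ : Subgroup S).lowerCentralSeries (n - 2) ≠ ⊥) (i : ℕ)
    (hi1 : 1 ≤ i) (hin : i ≤ n - 1) : ((⊤ : Subgroup S).lowerCentralSeries i).index = p ^ (i + 1) := by
  have hpp : p.Prime := Fact.out
  have h1 := Subgroup.card_mul_index ((⊤ : Subgroup S).lowerCentralSeries i)
  rw [hcard, card_lcs_of_maxclass p hn hcard hmc i hi1 hin] at h1
  have h2 : p ^ (n - 1 - i) * p ^ (i + 1) = p ^ n := by
    rw [← pow_add]; congr 1; omega
  rw [← h2] at h1
  exact Nat.eq_of_mul_eq_mul_left (pow_pos hpp.pos _) h1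

/-- Let p be a prime and S a finite p-group of order pⁿ (n ≥ 2) of maximal nilpotency class n − 1 whose sectional p-rank is exactly k (every section has p-rank at most k, and some section has p-rank k). If p ≥ k + 2 then the order of S is at most p^(2k). -/
theorem result {S : Type*} [Group S] [Finite S] (p : ℕ) [Fact p.Prime] (hS : IsPGroup p S) [Group.IsNilpotent S]
    (n : ℕ) (hn : 2 ≤ n) (hcard : Nat.card S = p ^ n) (hmax : Group.nilpotencyClass S = n - 1)
    (k : ℕ) (hk : 1 ≤ k) (hsr : Cfsg.SectionalPRankLE p k S ∧ ¬ Cfsg.SectionalPRankLE p (k - 1) S)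
    (hpk : k + 2 ≤ p) : Nat.card S ≤ p ^ (2 * k) := by
  have hpp : p.Prime := Fact.out
  rw [hcard]
  apply Nat.pow_le_pow_right hpp.pos
  by_contra hlt
  have hn' : 2 * k + 1 ≤ n := by omega
  have hn3 : 3 ≤ n := by omega
  have hmc : (⊤ : Subgroup S).lowerCentralSeries (n - 2) ≠ ⊥ := by
    intro hb
    have := Subgroup.lowerCentralSeries_eq_bot_iff_nilpotencyClass_le.mp hb
    omega
  have hne : ∀ j, j ≤ n - 2 → (⊤ : Subgroup S).lowerCentralSeries j ≠ ⊥ := by
    intro j hj hb
    apply hmc
    rw [eq_bot_iff, ← hb]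
    exact Subgroup.lowerCentralSeries_antitone _ hj
  have hidx := s3806_index_lcs p hn3 hcard hmc
  rcases Nat.lt_or_ge k 2 with hk1 | hk2
  · -- k = 1
    have hk1' : k = 1 := by omega
    subst hk1'
    have h1 := relIndex_le_of_sectionalPRankLE hsr.1 ⊤ ((⊤ : Subgroup S).lowerCentralSeries 1) le_top
      (by
        intro x _ y _
        rw [Subgroup.top_lowerCentralSeries_one, commutator_def]
        exact Subgroup.commutator_mem_commutator (Subgroup.mem_top x) (Subgroup.mem_top y))
      (fun x _ => pow_mem_commutator_of_maxclass p hn3 hcard hmc x)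
    rw [Subgroup.relIndex_top_right, hidx 1 le_rfl (by omega)] at h1
    have : p ^ 1 < p ^ (1 + 1) := Nat.pow_lt_pow_right hpp.one_lt (by norm_num)
    omega
  · -- k ≥ 2
    have hKH : (⊤ : Subgroup S).lowerCentralSeries (2 * k) ≤ (⊤ : Subgroup S).lowerCentralSeries (k - 1) :=
      Subgroup.lowerCentralSeries_antitone _ (by omega)
    -- commutativity of the section
    have hcomm : ∀ x ∈ (⊤ : Subgroup S).lowerCentralSeries (k - 1),
        ∀ y ∈ (⊤ : Subgroup S).lowerCentralSeries (k - 1),
        ⁅x, y⁆ ∈ (⊤ : Subgroup S).lowerCentralSeries (2 * k) := by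
      have hc1 := card_lcs_of_maxclass p hn3 hcard hmc (k - 1) (by omega) (by omega)
      have hc2 := card_lcs_of_maxclass p hn3 hcard hmc (k - 1 + 1) (by omega) (by omega)
      have hc : Nat.card ↥((⊤ : Subgroup S).lowerCentralSeries (k - 1))
          = p * Nat.card ↥((⊤ : Subgroup S).lowerCentralSeries (k - 1 + 1)) := by
        rw [hc1, hc2, ← pow_succ']; congr 1; omega
      have hlt' : (⊤ : Subgroup S).lowerCentralSeries (k - 1 + 1)
          < (⊤ : Subgroup S).lowerCentralSeries (k - 1) :=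
        Cfsg.Agent.Lib.H22.lcs_succ_lt_of_ne_bot (k - 1) (hne _ (by omega))
      obtain ⟨g, hg, hgn⟩ := SetLike.exists_of_lt hlt'
      have hsup := mcs_sup_eq hS _ _ hlt'.le hc g hg hgn
      refine mcs_comm_mem_of_gen _ _ ((⊤ : Subgroup S).lowerCentralSeries (k - 1 + 1)) g hg hsup.ge ?_
      intro c hc' x hx
      have h1 := Cfsg.Agent.Lib.H9.PolySeq.commutator_lcs_le (G := S) (k - 1) (k - 1 + 1)
      rw [show k - 1 + 1 + (k - 1) + 1 = 2 * k by omega] at h1
      exact h1 (Subgroup.commutator_mem_commutator hc' hx)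
    -- exponent of the section, in the quotient by `γ_{2k+1}`
    have hpow : ∀ x ∈ (⊤ : Subgroup S).lowerCentralSeries (k - 1),
        x ^ p ∈ (⊤ : Subgroup S).lowerCentralSeries (2 * k) := by
      have hcardT : Nat.card (S ⧸ (⊤ : Subgroup S).lowerCentralSeries (2 * k)) = p ^ (2 * k + 1) := by
        rw [← Subgroup.index_eq_card, hidx (2 * k) (by omega) (by omega)]
      have hmap : ∀ j, ((⊤ : Subgroup S).lowerCentralSeries j).map
          (QuotientGroup.mk' ((⊤ : Subgroup S).lowerCentralSeries (2 * k)))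
          = (⊤ : Subgroup (S ⧸ (⊤ : Subgroup S).lowerCentralSeries (2 * k))).lowerCentralSeries j := by
        intro j
        rw [Subgroup.map_lowerCentralSeries,
          Subgroup.map_top_of_surjective _ (QuotientGroup.mk'_surjective _)]
      have hmcT : (⊤ : Subgroup (S ⧸ (⊤ : Subgroup S).lowerCentralSeries (2 * k))).lowerCentralSeries
          (2 * k - 1) ≠ ⊥ := by
        intro hb
        rw [← hmap, Subgroup.map_eq_bot_iff, QuotientGroup.ker_mk'] at hb
        have heq : (⊤ : Subgroup S).lowerCentralSeries (2 * k - 1 + 1)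
            = (⊤ : Subgroup S).lowerCentralSeries (2 * k - 1) := by
          rw [show 2 * k - 1 + 1 = 2 * k by omega]
          exact le_antisymm (Subgroup.lowerCentralSeries_antitone _ (by omega)) hb
        exact hne (2 * k - 1) (by omega) (Cfsg.Agent.Lib.H18.lcs_eq_bot_of_succ_eq _ heq)
      have hexp := pow_eq_one_of_maxclass p hk2 hpk hcardT hmcT
      intro x hx
      have hx' : (QuotientGroup.mk' ((⊤ : Subgroup S).lowerCentralSeries (2 * k)) x)
          ∈ (⊤ : Subgroup (S ⧸ (⊤ : Subgroup S).lowerCentralSeries (2 * k))).lowerCentralSeries (k - 1) := by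
        rw [← hmap]
        exact Subgroup.mem_map_of_mem _ hx
      have h1 := hexp _ hx'
      rw [← map_pow, QuotientGroup.mk'_apply, QuotientGroup.eq_one_iff] at h1
      exact h1
    have h1 := relIndex_le_of_sectionalPRankLE hsr.1 _ _ hKH hcomm hpow
    have h2 := Subgroup.relIndex_mul_index hKH
    rw [hidx (2 * k) (by omega) (by omega), hidx (k - 1) (by omega) (by omega)] at h2
    have h3 : p ^ (k + 1) * p ^ (k - 1 + 1) = p ^ (2 * k + 1) := by
      rw [← pow_add]; congr 1; omega
    rw [← h3] at h2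
    have h4 := Nat.eq_of_mul_eq_mul_right (pow_pos hpp.pos _) h2
    rw [h4] at h1
    have : p ^ k < p ^ (k + 1) := Nat.pow_lt_pow_right hpp.one_lt (by omega)
    omega

end Cfsg.Agent.S3806
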