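import Cfsg.Statements.S3808
import Cfsg.Agent.Lib.H19.SylowAux

set_option autoImplicit false
open Cfsg
open Cfsg.Agent.Lib.H19

namespace Cfsg.Agent.S3808

theorem result {S : Type*} [Group S] [Finite S] (p : ℕ) [Fact p.Prime] (hS : IsPGroup p S) (Q : Subgroup S) (hQ : Cfsg.IsExtraspecial p ↥Q) (hQi : Q.index = p) :
    Subgroup.center S = (Subgroup.center ↥Q).map Q.subtype ∨
      (Q ⊔ Subgroup.center S = ⊤ ∧ Nat.card (Subgroup.center S) = p ^ 2) := by
  have hpp : p.Prime := Fact.out
  set Z := Subgroup.center S with hZ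
  set ZQ : Subgroup S := (Subgroup.center ↥Q).map Q.subtype with hZQ
  have hZQcard : Nat.card ZQ = p := by
    rw [← hQ.2]
    exact Nat.card_congr ((Subgroup.center ↥Q).equivMapOfInjective _ Q.subtype_injective).symm.toEquiv
  have hZQmem : ∀ z : S, z ∈ ZQ ↔ z ∈ Q ∧ ∀ q ∈ Q, q * z = z * q := by
    intro z
    constructor
    · rintro ⟨c, hc, rfl⟩
      refine ⟨c.2, ?_⟩
      intro q hq
      have := (Subgroup.mem_center_iff.mp hc) ⟨q, hq⟩
      exact congrArg Subtype.val this
    · rintro ⟨hzQ, hz⟩
      refine ⟨⟨z, hzQ⟩, ?_, rfl⟩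
      rw [SetLike.mem_coe, Subgroup.mem_center_iff]
      intro q
      apply Subtype.ext
      exact hz q q.2
  have hZinfQ : Z ⊓ Q ≤ ZQ := by
    rintro z ⟨hzZ, hzQ⟩
    rw [hZQmem]
    exact ⟨hzQ, fun q _ => (Subgroup.mem_center_iff.mp hzZ) q⟩
  have hnt : Nontrivial S := by
    by_contra h
    rw [not_nontrivial_iff_subsingleton] at h
    have : Q.index = 1 := by
      rw [Subgroup.index_eq_one]
      exact Subsingleton.elim _ _
    rw [hQi] at this
    exact hpp.one_lt.ne' this
  have hZne : Z ≠ ⊥ := (hS.bot_lt_center).ne'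
  by_cases hZQle : Z ≤ Q
  · left
    have hle : Z ≤ ZQ := le_trans (le_inf le_rfl hZQle) hZinfQ
    apply Subgroup.eq_of_le_of_card_ge hle
    rw [hZQcard]
    have h1 : Nat.card Z ∣ p := hZQcard ▸ Subgroup.card_dvd_of_le hle
    rcases (Nat.dvd_prime hpp).mp h1 with h | h
    · exact absurd (Subgroup.card_eq_one.mp h) hZne
    · exact h.ge
  · right
    have htop : Q ⊔ Z = ⊤ := by
      rw [← Subgroup.index_eq_one]
      have hd : (Q ⊔ Z).index ∣ p := hQi ▸ Subgroup.index_dvd_of_le le_sup_left
      rcases (Nat.dvd_prime hpp).mp hd with h | h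
      · exact h
      · exfalso
        apply hZQle
        have h1 := Subgroup.relIndex_mul_index (le_sup_left : Q ≤ Q ⊔ Z)
        rw [hQi, h] at h1
        have h2 : Q.relIndex (Q ⊔ Z) = 1 := by
          have hpos : 0 < p := hpp.pos
          have : Q.relIndex (Q ⊔ Z) * p = 1 * p := by rw [h1, one_mul]
          exact Nat.eq_of_mul_eq_mul_right hpos this
        rw [Subgroup.relIndex_eq_one] at h2
        exact le_trans le_sup_right h2
    refine ⟨htop, ?_⟩
    -- ZQ ≤ Z
    have hZQZ : ZQ ≤ Z := by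
      intro z hz
      rw [hZQmem] at hz
      rw [Subgroup.mem_center_iff]
      intro g
      have hg : g ∈ Subgroup.centralizer ({z} : Set S) := by
        have hle : Q ⊔ Z ≤ Subgroup.centralizer ({z} : Set S) := by
          apply sup_le
          · intro q hq
            rw [Subgroup.mem_centralizer_singleton_iff]
            exact (hz.2 q hq)
          · intro c hc
            rw [Subgroup.mem_centralizer_singleton_iff]
            exact ((Subgroup.mem_center_iff.mp hc) z).symm
        exact hle (htop ▸ Subgroup.mem_top g)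
      rw [Subgroup.mem_centralizer_singleton_iff] at hg
      exact hg
    have hinf : Q ⊓ Z = ZQ := by
      apply le_antisymm
      · rw [inf_comm]; exact hZinfQ
      · exact le_inf (fun z hz => ((hZQmem z).mp hz).1) hZQZ
    have h1 : (Q ⊓ Z).relIndex Z = p := by
      rw [relIndex_inf_normal_eq, htop, Subgroup.relIndex_top_right, hQi]
    have h2 := card_mul_relIndex (inf_le_right : Q ⊓ Z ≤ Z)
    rw [h1, hinf, hZQcard] at h2
    rw [← h2, pow_two]

end Cfsg.Agent.S3808
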