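import Cfsg.Statements.S3809
import Cfsg.Agent.S0095
import Cfsg.Agent.Lib.H27.Extraspecial
import Cfsg.Agent.Lib.H22.UniqueOrderP

set_option autoImplicit false
open Cfsg

namespace Cfsg.Agent.S3809

open Cfsg.Agent.Lib.H22

/-- Let S be a finite p-group with an extraspecial subgroup of index p. Then S has order p^(2+2n) for some n ≥ 1, derived length at most 3, and exponent dividing p³. -/
theorem result {S : Type*} [Group S] [Finite S] (p : ℕ) [Fact p.Prime] (hS : IsPGroup p S) (Q : Subgroup S) (hQ : Cfsg.IsExtraspecial p ↥Q) (hQi : Q.index = p) :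
    (∃ n : ℕ, 1 ≤ n ∧ Nat.card S = p ^ (2 + 2 * n)) ∧ derivedSeries S 3 = ⊥ ∧ ∀ x : S, x ^ (p ^ 3) = 1 := by
  obtain ⟨-, -, hZcard, -, hcomm, hpow⟩ := Cfsg.Agent.Lib.H27.extraspecial_data p Q hQ
  set Z := (Subgroup.center Q).map Q.subtype with hZ
  have hZab : ∀ a ∈ Z, ∀ b ∈ Z, a * b = b * a := by
    rintro _ ⟨a, ha, rfl⟩ _ ⟨b, hb, rfl⟩
    rw [SetLike.mem_coe, Subgroup.mem_center_iff] at ha
    have := ha b
    exact (congrArg Subtype.val this).symm
  refine ⟨?_, ?_, ?_⟩
  · obtain ⟨n, hn, hcard⟩ := Cfsg.Agent.S0095.result hQ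
    refine ⟨n, hn, ?_⟩
    rw [← Subgroup.card_mul_index Q, hcard, hQi]
    ring
  · have h1 : derivedSeries S 1 ≤ Q := by
      rw [derivedSeries_one]
      exact commutator_le_of_index_eq_prime hS Q hQi
    have h2 : derivedSeries S 2 ≤ Z := by
      rw [derivedSeries_succ, ← hcomm]
      exact Subgroup.commutator_mono h1 h1
    have h3 : derivedSeries S 3 ≤ ⁅Z, Z⁆ := by
      rw [derivedSeries_succ]
      exact Subgroup.commutator_mono h2 h2
    rw [eq_bot_iff]
    refine le_trans h3 ?_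
    rw [Subgroup.commutator_le]
    intro a ha b hb
    rw [Subgroup.mem_bot, commutatorElement_eq_one_iff_mul_comm]
    exact hZab a ha b hb
  · intro x
    have h1 : x ^ p ∈ Q := pow_mem_of_index_eq_prime hS Q hQi x
    have h2 : (x ^ p) ^ p ∈ Z := hpow _ h1
    have h3 : ((x ^ p) ^ p) ^ p = 1 := by
      have := pow_card_eq_one' (G := Z) (x := ⟨_, h2⟩)
      rw [hZcard] at this
      simpa using congrArg Subtype.val this
    rw [← h3, ← pow_mul, ← pow_mul]
    congr 1
    ring

end Cfsg.Agent.S3809
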