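import Cfsg.Statements.S3810
import Cfsg.Agent.S0095
import Cfsg.Agent.Lib.H22.AbelianSup
import Cfsg.Agent.Lib.H22.AbelianCyclicExt
import Cfsg.Agent.Lib.H22.CyclicIndexP

set_option autoImplicit false
open Cfsg

namespace Cfsg.Agent.S3810

open Cfsg.Agent.Lib.H22

/-- An extraspecial group with an abelian subgroup of index `p` has order at most `p³`. -/
theorem card_le_of_abelian_index_p {Q : Type*} [Group Q] [Finite Q] (p : ℕ) [hp : Fact p.Prime]
    (hQ : Cfsg.IsExtraspecial p Q) (B : Subgroup Q) (hB : ∀ a ∈ B, ∀ b ∈ B, a * b = b * a)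
    (hBi : B.index = p) : Nat.card Q ≤ p ^ 3 := by
  obtain ⟨⟨hQp, -, hcomm⟩, hZcard⟩ := hQ
  have hBn : B.Normal := normal_of_index_eq_prime hQp B hBi
  have hBtop : B ≠ ⊤ := by
    intro h
    rw [h, Subgroup.index_top] at hBi
    exact hp.out.one_lt.ne hBi
  obtain ⟨x, -, hxB⟩ := SetLike.exists_of_lt (lt_top_iff_ne_top.mpr hBtop)
  have hgen : B ⊔ Subgroup.zpowers x = ⊤ := by
    apply eq_top_of_index_prime_of_lt hBi
    refine lt_of_le_of_ne le_sup_left ?_
    intro h
    apply hxB
    rw [h]
    exact (le_sup_right : Subgroup.zpowers x ≤ _) (Subgroup.mem_zpowers x)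
  have h1 := card_commutator_mul_card_centralizer B hB x hgen
  rw [hcomm, hZcard] at h1
  have h2 : B ⊓ Subgroup.centralizer {x} ≤ Subgroup.center Q := by
    intro c hc
    obtain ⟨hcB, hcx⟩ := Subgroup.mem_inf.mp hc
    rw [Subgroup.mem_center_iff]
    have hle : (⊤ : Subgroup Q) ≤ Subgroup.centralizer {c} := by
      rw [← hgen, sup_le_iff, Subgroup.zpowers_le]
      constructor
      · intro b hb
        rw [Subgroup.mem_centralizer_iff]
        intro y hy
        rw [Set.mem_singleton_iff] at hy
        rw [hy]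
        exact hB c hcB b hb
      · rw [Subgroup.mem_centralizer_iff]
        intro y hy
        rw [Set.mem_singleton_iff] at hy
        rw [hy]
        rw [Subgroup.mem_centralizer_iff] at hcx
        exact (hcx x rfl).symm
    intro g
    have := hle (Subgroup.mem_top g)
    rw [Subgroup.mem_centralizer_iff] at this
    exact (this c rfl).symm
  have h3 : Nat.card ↥(B ⊓ Subgroup.centralizer {x}) ≤ p := by
    rw [← hZcard]; exact Subgroup.card_le_of_le h2
  have h4 : Nat.card B ≤ p ^ 2 := by
    rw [← h1, sq]; exact Nat.mul_le_mul_left _ h3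
  rw [← Subgroup.card_mul_index B, hBi]
  calc Nat.card B * p ≤ p ^ 2 * p := Nat.mul_le_mul_right _ h4
    _ = p ^ 3 := by ring

/-- Let S be a finite p-group with an extraspecial subgroup of index p. Then S has an abelian subgroup of index p if and only if S has order p⁴. -/
theorem result {S : Type*} [Group S] [Finite S] (p : ℕ) [Fact p.Prime] (hS : IsPGroup p S) (Q : Subgroup S) (hQ : Cfsg.IsExtraspecial p ↥Q) (hQi : Q.index = p) :
    (∃ A : Subgroup S, IsMulCommutative ↥A ∧ A.index = p) ↔ Nat.card S = p ^ 4 := by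
  have hp' : Fact p.Prime := inferInstance
  constructor
  · rintro ⟨A, hAc, hAi⟩
    have hAab : ∀ a ∈ A, ∀ b ∈ A, a * b = b * a := by
      intro a ha b hb
      have := hAc.is_comm.comm (⟨a, ha⟩ : A) ⟨b, hb⟩
      exact congrArg Subtype.val this
    obtain ⟨n, hn, hcard⟩ := Cfsg.Agent.S0095.result hQ
    have hAn : A.Normal := normal_of_index_eq_prime hS A hAi
    -- B' = A ∩ Q inside Q
    set B := A.subgroupOf Q with hB
    have hBab : ∀ a ∈ B, ∀ b ∈ B, a * b = b * a := by
      intro a ha b hb
      apply Subtype.ext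
      exact hAab a ha b hb
    have hdvd : B.index ∣ p := by
      have := Subgroup.relIndex_dvd_index_of_normal A Q
      rwa [hAi] at this
    have hnab : ¬ (∀ a b : Q, a * b = b * a) := by
      intro hab
      have : commutator Q = ⊥ := by
        rw [commutator_def, eq_bot_iff, Subgroup.commutator_le]
        intro a _ b _
        rw [Subgroup.mem_bot, commutatorElement_eq_one_iff_mul_comm]
        exact hab a b
      have h1 := hQ.2
      rw [← hQ.1.2.2, this, Subgroup.card_bot] at h1
      exact hp'.out.one_lt.ne h1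
    have hBi : B.index = p := by
      rcases (Nat.dvd_prime hp'.out).mp hdvd with h | h
      · exfalso
        apply hnab
        have htop : B = ⊤ := Subgroup.index_eq_one.mp h
        intro a b
        exact hBab a (htop ▸ Subgroup.mem_top a) b (htop ▸ Subgroup.mem_top b)
      · exact h
    have hle := card_le_of_abelian_index_p p hQ B hBab hBi
    rw [hcard] at hle
    have hn1 : 2 * n + 1 ≤ 3 := (Nat.pow_le_pow_iff_right hp'.out.one_lt).mp hle
    have : n = 1 := by omega
    rw [← Subgroup.card_mul_index Q, hcard, hQi, this]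
    ring
  · intro hcard
    obtain ⟨A, hAab, hAi⟩ := exists_abelian_index_p_of_card_pow_four hcard
    exact ⟨A, ⟨⟨fun a b => Subtype.ext (hAab a a.2 b b.2)⟩⟩, hAi⟩

end Cfsg.Agent.S3810
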