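-- Statement S3811: soft subgroups (Héthelyi): chain of overgroups, normalizer tower, class.
import Cfsg.Statements.S3811
import Cfsg.Agent.Lib.H19.SoftClass

set_option autoImplicit false
open Cfsg

namespace Cfsg.Agent.S3811

open Cfsg.Agent.Lib.H19.Soft

/-- transport of softness to a subgroup containing the normalizer -/
theorem isSoft_subgroupOf {P : Type*} [Group P] {p : ℕ} {E T : Subgroup P} (hE : IsSoft p E)
    (hNT : Subgroup.normalizer (E : Set P) ≤ T) : IsSoft p (E.subgroupOf T) := by
  have hET : E ≤ T := Subgroup.le_normalizer.trans hNT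
  refine ⟨?_, ?_, ?_⟩
  · intro a ha b hb
    apply Subtype.ext
    exact hE.comm a.1 ha b.1 hb
  · intro x hx
    rw [Subgroup.mem_subgroupOf]
    apply hE.cent
    rw [Subgroup.mem_centralizer_iff]
    intro e he
    have h1 := Subgroup.mem_centralizer_iff.mp hx ⟨e, hET he⟩
      (by
        show (⟨e, hET he⟩ : ↥T) ∈ E.subgroupOf T
        rw [Subgroup.mem_subgroupOf]
        exact he)
    exact congrArg Subtype.val h1
  · rw [← Subgroup.subgroupOf_normalizer_eq hET, Subgroup.relIndex_subgroupOf hNT]
    exact hE.idx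

/-- the lower central series of `K` vanishes at `i + 1` when `|K : E| = p^i`, `K` proper -/
theorem lcs_eq_bot {P : Type*} [Group P] [Finite P] (p : ℕ) [Fact p.Prime] (hP : IsPGroup p P)
    {E : Subgroup P} (hE : IsSoft p E) {K : Subgroup P} (hEK : E ≤ K) (hK : K ≠ ⊤) {i : ℕ}
    (hi : E.relIndex K = p ^ i) : K.lowerCentralSeries (i + 1) = ⊥ := by
  have hp : p.Prime := Fact.out
  set T : Subgroup P := Subgroup.normalizer (K : Set P) with hT
  have hKT : K ≤ T := Subgroup.le_normalizer
  have hET : E ≤ T := hEK.trans hKT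
  have hKTp : K.relIndex T = p := hE.relIndex_normalizer hP hEK hK
  have hKneT : K ≠ T := by
    intro h
    rw [← h, Subgroup.relIndex_self] at hKTp
    exact hp.one_lt.ne hKTp
  -- normalizer of E is inside T
  have hNET : Subgroup.normalizer (E : Set P) ≤ T := by
    rcases hE.eq_or_normalizer_le hP hEK with h | h
    · rw [← h]
    · exact h.trans hKT
  have hsoft : IsSoft p (E.subgroupOf T) := isSoft_subgroupOf hE hNET
  have hPT : IsPGroup p ↥T := hP.to_subgroup T
  have hM1 : E.subgroupOf T ≤ K.subgroupOf T := fun x hx => hEK hx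
  have hM2 : K.subgroupOf T ≠ ⊤ := by
    intro h
    rw [Subgroup.subgroupOf_eq_top] at h
    exact hKneT (le_antisymm hKT h)
  have hM3 : Subgroup.normalizer ((K.subgroupOf T : Subgroup ↥T) : Set ↥T) = ⊤ := by
    rw [← Subgroup.subgroupOf_normalizer_eq hKT, Subgroup.subgroupOf_eq_top]
  have hM4 : (E.subgroupOf T).relIndex (K.subgroupOf T) = p ^ i := by
    rw [Subgroup.relIndex_subgroupOf hKT]
    exact hi
  have h1 := hsoft.lowerCentralSeries_eq_bot hPT hM1 hM2 hM3 hM4
  have h2 := Subgroup.map_lowerCentralSeries (S := K.subgroupOf T) T.subtype (i + 1)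
  rw [h1, Subgroup.map_bot, Subgroup.map_subgroupOf_eq_of_le hKT] at h2
  exact h2.symm

/-- Let P be a finite p-group and E an abelian subgroup of P that contains its centralizer, has index p in its normalizer, and has index at least p² in P. Then the subgroups of P containing E are totally ordered by inclusion, each proper one has index p in its normalizer (so they form the normalizer tower of E, with all steps of index p), and the i-th member of the tower above E has nilpotency class i + 1 whenever it is a proper subgroup of P. -/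
theorem result {P : Type*} [Group P] [Finite P] (p : ℕ) [Fact p.Prime] (hP : IsPGroup p P)
    (E : Subgroup P) (hEab : IsMulCommutative ↥E) (hC : Subgroup.centralizer (E : Set P) ≤ E)
    (hN : (E.subgroupOf (Subgroup.normalizer (E : Set P))).index = p) (hidx : p ^ 2 ≤ E.index) :
    (∀ K L : Subgroup P, E ≤ K → E ≤ L → K ≤ L ∨ L ≤ K) ∧
      (∀ K : Subgroup P, E ≤ K → K ≠ ⊤ → (K.subgroupOf (Subgroup.normalizer (K : Set P))).index = p) ∧
      ∀ (i : ℕ) (K : Subgroup P) [Group.IsNilpotent ↥K], E ≤ K → K ≠ ⊤ → K.index * p ^ i = E.index →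
        Group.nilpotencyClass ↥K = i + 1 := by
  have hp : p.Prime := Fact.out
  have hE : IsSoft p E := by
    refine ⟨?_, hC, hN⟩
    intro a ha b hb
    have h1 := hEab.is_comm.comm (⟨a, ha⟩ : ↥E) ⟨b, hb⟩
    exact congrArg Subtype.val h1
  refine ⟨fun K L hK hL => hE.le_or_le hP hK hL, fun K hEK hK => hE.relIndex_normalizer hP hEK hK,
    ?_⟩
  intro i K _ hEK hK hidxK
  -- `|K : E| = p^i`
  have hrel : E.relIndex K = p ^ i := by
    have h1 := Subgroup.relIndex_mul_index hEK
    rw [← hidxK, mul_comm] at h1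
    have hK0 : K.index ≠ 0 := Subgroup.index_ne_zero_of_finite
    exact Nat.eq_of_mul_eq_mul_left (Nat.pos_of_ne_zero hK0) h1
  have hupper : K.lowerCentralSeries (i + 1) = ⊥ := lcs_eq_bot p hP hE hEK hK hrel
  have hle : Group.nilpotencyClass ↥K ≤ i + 1 := by
    rw [← Subgroup.lowerCentralSeries_eq_bot_iff_nilpotencyClass_le]
    have h1 := Subgroup.top_subtype_lowerCentralSeries K (i + 1)
    rw [hupper] at h1
    exact (Subgroup.map_eq_bot_iff_of_injective _ K.subtype_injective).mp h1
  apply le_antisymm hle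
  by_contra hlt
  have hlt' : Group.nilpotencyClass ↥K ≤ i := by omega
  have h2 : K.lowerCentralSeries i = ⊥ :=
    Subgroup.lowerCentralSeries_eq_bot_of_nilpotencyClass_le hlt'
  rcases Nat.eq_zero_or_pos i with h0 | hpos
  · -- `i = 0`: then `K = ⊥`, impossible as `E ≠ ⊥`... in fact `K = E`
    subst h0
    have hK' : K = ⊥ := h2
    have hEbot : E = ⊥ := le_bot_iff.mp (hK' ▸ hEK)
    -- then centralizer is everything
    have h3 : Subgroup.centralizer (E : Set P) = ⊤ := by
      rw [hEbot]
      simp
    have h4 : E = ⊤ := top_le_iff.mp (h3 ▸ hC)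
    exact hE.ne_top hp h4
  · obtain ⟨m, rfl⟩ : ∃ m, i = m + 1 := ⟨i - 1, by omega⟩
    have h3 := hE.relIndex_le_of_lowerCentralSeries_eq_bot hP hEK h2
    rw [hrel] at h3
    have h4 : p ^ m < p ^ (m + 1) := Nat.pow_lt_pow_right hp.one_lt (by omega)
    omega

end Cfsg.Agent.S3811
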