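import Cfsg.Statements.S3814
import Cfsg.Agent.Lib.H7.S3814Defs2
import Cfsg.Agent.Lib.H2.S3814Min
import Cfsg.Agent.Lib.H7.S3814F2
import Cfsg.Agent.Lib.H24.S3814R2Idx
import Cfsg.Agent.Lib.H25.S3814NSyl
import Cfsg.Agent.Lib.H3.S3814NStruct
import Cfsg.Agent.Lib.H20.S3814KFacts
import Cfsg.Agent.Lib.H6.S3814CaseSplit
import Cfsg.Agent.Lib.H12.S3814Dich
import Cfsg.Agent.Lib.H8.S3814MP
import Cfsg.Agent.Lib.H27.S3814C1Asm
import Cfsg.Agent.Lib.H15.S3814C2Final
import Cfsg.Agent.Lib.H18.S3814C2BadSocle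

set_option autoImplicit false
open Cfsg

namespace Cfsg.Agent.S3814

open Cfsg.Agent.H7.S3814Defs in
/-- The core statement (no solvable `σ`-group with `|σ| = 4`, (J), (N)) from the pieces of the cut:
MIN (helper2), F2 (helper4/helper7), R2IDX (helper24), NSYL (helper25), NSTRUCT (helper3),
DICH-ASM (helper12), KFACTS (helper20), SPLIT (helper6), block (MP) = shape (II) (helper8 + 12 seats),
block Case 1 (helper27 + 15 seats), block Case 2' (helper15 + 10 seats). -/
theorem core_all.{u} : CoreStmt.{u} :=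
  core Cfsg.Agent.Lib.H2.S3814Min.existsMin
    (dichotomy
      (Cfsg.Agent.Lib.H25.S3814NSyl.normalSylow Cfsg.Agent.H7.S3814F2.f2
        Cfsg.Agent.Lib.H24.S3814R2Idx.rank2Index)
      Cfsg.Agent.Lib.H3.S3814NStruct.normalStruct
      Cfsg.Agent.Lib.H12.S3814Dich.dichAsm)
    (shapeI Cfsg.Agent.H7.S3814F2.f2 Cfsg.Agent.Lib.H24.S3814R2Idx.rank2Index
      Cfsg.Agent.Lib.H20.S3814KFacts.kfacts Cfsg.Agent.Lib.H6.S3814CaseSplit.caseSplit
      Cfsg.Agent.H27.S3814C1Asm.case1_all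
      (Cfsg.Agent.H15.S3814C2.case2_partial Cfsg.Agent.Lib.H18.S3814C2BadSocle.badSocle))
    Cfsg.Agent.Lib.H8.S3814MPAsm.shapeII

/-- A criterion for nonsolvability from element orders: let G be a finite group and σ a set of at least four primes such that for all distinct p, q ∈ σ the product pq is the order of some element of G, while for all pairwise distinct p, q, r ∈ σ no element of G has order pqr. Then G is not solvable. -/
theorem result {G : Type*} [Group G] [Finite G]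
    (σ : Finset ℕ) (hσ : 4 ≤ σ.card) (hprime : ∀ p ∈ σ, p.Prime)
    (h2 : ∀ p ∈ σ, ∀ q ∈ σ, p ≠ q → ∃ g : G, orderOf g = p * q)
    (h3 : ∀ p ∈ σ, ∀ q ∈ σ, ∀ r ∈ σ, p ≠ q → q ≠ r → p ≠ r → ∀ g : G, orderOf g ≠ p * q * r) :
    ¬ Group.IsSolvable G :=
  Cfsg.Agent.Lib.H2.S3814Min.final_of_core core_all σ hσ hprime h2 h3

end Cfsg.Agent.S3814
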