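import Cfsg.Statements.S3815
import Mathlib.Tactic.Group
import Cfsg.Agent.Lib.H19.Basic
import Mathlib.GroupTheory.Perm.Cycle.Type

set_option autoImplicit false
open Cfsg
open Cfsg.Agent.Lib.H19

namespace Cfsg.Agent.S3815

theorem result {G : Type*} [Group G] [Finite G] {p : ℕ} [Fact p.Prime]
    (d : G) (hd : (orderOf d).Coprime p)
    (h : ∀ g : G, (orderOf g).Coprime p → (orderOf (d * g)).Coprime p) :
    d ∈ Cfsg.pPrimeCore p G := by
  classical
  -- the set of all elements with the property
  let P : G → Prop := fun x => (orderOf x).Coprime p ∧ ∀ g : G, (orderOf g).Coprime p → (orderOf (x * g)).Coprime p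
  have hmulP : ∀ a b, P a → P b → P (a * b) := by
    intro a b ha hb
    refine ⟨?_, ?_⟩
    · exact ha.2 b hb.1
    · intro g hg
      rw [mul_assoc]
      exact ha.2 _ (hb.2 g hg)
  have honeP : P 1 := ⟨by simp, fun g hg => by simpa using hg⟩
  have hpowP : ∀ a, P a → ∀ n : ℕ, P (a ^ n) := by
    intro a ha n
    induction n with
    | zero => simpa using honeP
    | succ n ih => rw [pow_succ]; exact hmulP _ _ ih ha
  have hinvP : ∀ a, P a → P a⁻¹ := by
    intro a ha
    have hpos : 0 < orderOf a := orderOf_pos a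
    have : a⁻¹ = a ^ (orderOf a - 1) := by
      rw [eq_comm, ← mul_eq_one_iff_eq_inv', ← pow_succ', Nat.sub_add_cancel hpos, pow_orderOf_eq_one]
    rw [this]
    exact hpowP a ha _
  let D : Subgroup G :=
    { carrier := {x | P x}
      mul_mem' := fun ha hb => hmulP _ _ ha hb
      one_mem' := honeP
      inv_mem' := fun ha => hinvP _ ha }
  have hDn : D.Normal := by
    constructor
    intro a ha x
    refine ⟨?_, ?_⟩
    · rw [orderOf_conj_eq]; exact ha.1
    · intro g hg
      have h1 : x * a * x⁻¹ * g = x * (a * (x⁻¹ * g * x)) * x⁻¹ := by group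
      rw [h1, orderOf_conj_eq]
      apply ha.2
      rw [orderOf_conj_eq']
      exact hg
  have hDcard : (Nat.card D).Coprime p := by
    rw [Nat.coprime_comm, Nat.Prime.coprime_iff_not_dvd (Fact.out : p.Prime)]
    intro hdvd
    obtain ⟨x, hx⟩ := exists_prime_orderOf_dvd_card' p hdvd
    have hx' : orderOf (x : G) = p := by rw [← hx]; exact (Subgroup.orderOf_coe x)
    have hxP : P (x : G) := x.2
    have := hxP.1
    rw [hx'] at this
    exact (Fact.out : p.Prime).one_lt.ne' ((Nat.coprime_self p).mp this)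
  have hdD : d ∈ D := ⟨hd, h⟩
  have hmem : D ∈ {N : Subgroup G | N.Normal ∧ (Nat.card N).Coprime p} := ⟨hDn, hDcard⟩
  exact (le_sSup hmem) hdD

end Cfsg.Agent.S3815
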