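import Cfsg.Statements.S3820
import Cfsg.Agent.Lib.H19.Basic

set_option autoImplicit false
open Cfsg
open Cfsg.Agent.Lib.H19

namespace Cfsg.Agent.S3820

theorem result {G : Type*} [Group G] [Finite G] (S H : Subgroup G) (hSH : S ≤ H)
    (hS : Cfsg.IsPronormal S) :
    Cfsg.IsPronormal H ↔
      ∀ g ∈ Subgroup.normalizer (S : Set G), ∃ w ∈ H ⊔ H.map (MulAut.conj g).toMonoidHom,
        H.map (MulAut.conj g).toMonoidHom = H.map (MulAut.conj w).toMonoidHom := by
  constructor
  · intro h g _
    exact h g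
  · intro h g
    obtain ⟨x, hx, hxe⟩ := hS g
    -- n = x⁻¹ g normalizes S
    have hn : x⁻¹ * g ∈ Subgroup.normalizer (S : Set G) := by
      rw [mem_normalizer_iff_map_conj, map_conj_mul, hxe, ← map_conj_mul, inv_mul_cancel,
        map_conj_one]
    obtain ⟨w, hw, hwe⟩ := h _ hn
    set M := H ⊔ H.map (MulAut.conj g).toMonoidHom with hM
    have hxM : x ∈ M := by
      have : S ⊔ S.map (MulAut.conj g).toMonoidHom ≤ M :=
        sup_le_sup hSH (map_conj_le_map_conj hSH g)
      exact this hx
    have hwM : w ∈ M := by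
      have : H ⊔ H.map (MulAut.conj (x⁻¹ * g)).toMonoidHom ≤ M := by
        apply sup_le le_sup_left
        rw [map_conj_mul]
        exact map_conj_le_of_mem (M.inv_mem hxM) le_sup_right
      exact this hw
    refine ⟨x * w, M.mul_mem hxM hwM, ?_⟩
    rw [map_conj_mul H x w, ← hwe, ← map_conj_mul, mul_inv_cancel_left]

end Cfsg.Agent.S3820
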