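import Cfsg.Statements.S3821
import Cfsg.Agent.Lib.H19.Basic

set_option autoImplicit false
open Cfsg
open Cfsg.Agent.Lib.H19

namespace Cfsg.Agent.S3821

theorem result {G : Type*} [Group G] [Finite G] (A H : Subgroup G) [A.Normal] (hHA : H ≤ A) :
    Cfsg.IsPronormal H ↔ (Cfsg.IsPronormal (H.subgroupOf A) ∧ A ⊔ Subgroup.normalizer (H : Set G) = ⊤) := by
  have hmapH : (H.subgroupOf A).map A.subtype = H := Subgroup.map_subgroupOf_eq_of_le hHA
  have hconjA : ∀ g : G, H.map (MulAut.conj g).toMonoidHom ≤ A := by
    intro g y hy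
    rw [mem_map_conj] at hy
    have h1 : g⁻¹ * y * g ∈ A := hHA hy
    have h2 := (inferInstance : A.Normal).conj_mem _ h1 g
    simpa [mul_assoc] using h2
  have hinj : Function.Injective (Subgroup.map A.subtype) :=
    Subgroup.map_injective A.subtype_injective
  constructor
  · intro hp
    constructor
    · intro a
      obtain ⟨x, hx, hxe⟩ := hp (a : G)
      have hxA : x ∈ A := (sup_le hHA (hconjA _)) hx
      refine ⟨⟨x, hxA⟩, ?_, ?_⟩
      · -- membership: transport along the subtype map
        have : (⟨x, hxA⟩ : A) ∈ (H ⊔ H.map (MulAut.conj (a : G)).toMonoidHom).subgroupOf A := by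
          rw [Subgroup.mem_subgroupOf]; exact hx
        have hle : (H ⊔ H.map (MulAut.conj (a : G)).toMonoidHom).subgroupOf A ≤
            H.subgroupOf A ⊔ (H.subgroupOf A).map (MulAut.conj a).toMonoidHom := by
          rw [← Subgroup.map_le_map_iff_of_injective A.subtype_injective,
            Subgroup.map_subgroupOf_eq_of_le (sup_le hHA (hconjA _)), Subgroup.map_sup,
            map_subtype_map_conj, hmapH]
        exact hle this
      · apply hinj
        rw [map_subtype_map_conj, map_subtype_map_conj, hmapH]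
        exact hxe
    · rw [eq_top_iff]
      intro g _
      obtain ⟨x, hx, hxe⟩ := hp g
      have hxA : x ∈ A := (sup_le hHA (hconjA _)) hx
      have hn : x⁻¹ * g ∈ Subgroup.normalizer (H : Set G) := by
        rw [mem_normalizer_iff_map_conj, map_conj_mul, hxe, ← map_conj_mul, inv_mul_cancel,
          map_conj_one]
      have : g = x * (x⁻¹ * g) := by group
      rw [this]
      exact Subgroup.mul_mem _ (Subgroup.mem_sup_left hxA) (Subgroup.mem_sup_right hn)
  · rintro ⟨hp, htop⟩ g
    have hg : g ∈ A ⊔ Subgroup.normalizer (H : Set G) := by rw [htop]; trivial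
    have hg' : g ∈ ((A ⊔ Subgroup.normalizer (H : Set G) : Subgroup G) : Set G) := hg
    rw [Subgroup.normal_mul] at hg'
    obtain ⟨a, ha, n, hn, rfl⟩ := hg'
    have hn' : H.map (MulAut.conj n).toMonoidHom = H := mem_normalizer_iff_map_conj.mp hn
    obtain ⟨x, hx, hxe⟩ := hp ⟨a, ha⟩
    have hxe' := congrArg (Subgroup.map A.subtype) hxe
    rw [map_subtype_map_conj, map_subtype_map_conj, hmapH] at hxe'
    refine ⟨(x : G), ?_, ?_⟩
    · rw [map_conj_mul, hn']
      have : (x : G) ∈ (H.subgroupOf A ⊔ (H.subgroupOf A).map (MulAut.conj (⟨a, ha⟩ : A)).toMonoidHom).map A.subtype :=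
        ⟨x, hx, rfl⟩
      rw [Subgroup.map_sup, map_subtype_map_conj, hmapH] at this
      exact this
    · rw [map_conj_mul, hn']
      exact hxe'

end Cfsg.Agent.S3821
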