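import Cfsg.Statements.S3824
import Cfsg.Agent.Lib.H23.BurnsidePQ
import Cfsg.Agent.Lib.H19.SylowAux

set_option autoImplicit false
open Cfsg

namespace Cfsg.Agent.S3824

universe u

theorem aux : ∀ (n : ℕ) (G : Type u) [Group G] [Finite G], Nat.card G = n →
    ∀ A : Subgroup G, IsMulCommutative A → (∃ k : ℕ, A.index = 2 ^ k) → Group.IsSolvable G := by
  intro n
  induction n using Nat.strong_induction_on with
  | _ n ih =>
  intro G _ _ hn A hA ⟨k, hk⟩
  by_cases hAbot : A = ⊥
  · -- `G` is a 2-group
    have hcard : Nat.card G = 2 ^ k := by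
      rw [← hk, hAbot, Subgroup.index_bot]
    have : Fact (Nat.Prime 2) := ⟨Nat.prime_two⟩
    have hp : IsPGroup 2 G := IsPGroup.of_card hcard
    have : Group.IsNilpotent G := hp.isNilpotent
    infer_instance
  by_cases hsimple : ∀ H : Subgroup G, H.Normal → H = ⊥ ∨ H = ⊤
  · -- simple case
    have hnt : Nontrivial G := by
      by_contra h
      rw [not_nontrivial_iff_subsingleton] at h
      exact hAbot (Subsingleton.elim _ _)
    have hs : IsSimpleGroup G := ⟨hsimple⟩
    obtain ⟨⟨a, ha⟩, ha0⟩ := (Subgroup.ne_bot_iff_exists_ne_one (H := A)).1 hAbot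
    have ha1 : a ≠ 1 := fun h => ha0 (Subtype.ext h)
    have hle : A ≤ Subgroup.centralizer ({a} : Set G) := by
      intro x hx
      rw [Subgroup.mem_centralizer_iff]
      intro y hy
      rw [Set.mem_singleton_iff] at hy
      subst hy
      have := hA.is_comm.comm (⟨y, ha⟩ : A) ⟨x, hx⟩
      exact congrArg Subtype.val this
    have hdvd : (Subgroup.centralizer ({a} : Set G)).index ∣ 2 ^ k := by
      rw [← hk]; exact Subgroup.index_dvd_of_le hle
    obtain ⟨j, _, hj⟩ := (Nat.dvd_prime_pow Nat.prime_two).1 hdvd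
    have hc := Cfsg.Agent.Lib.H23.commutative_of_simple_of_prime_power_class 2 j Nat.prime_two
      a ha1 hj
    exact (IsSimpleGroup.comm_iff_isSolvable).1 hc
  · -- a proper nontrivial normal subgroup
    have hex : ∃ N : Subgroup G, N.Normal ∧ N ≠ ⊥ ∧ N ≠ ⊤ := by
      by_contra h
      apply hsimple
      intro H hH
      by_contra h2
      rw [not_or] at h2
      exact h ⟨H, hH, h2.1, h2.2⟩
    obtain ⟨N, hNn, hNb, hNt⟩ := hex
    have hNlt : Nat.card N < n := by
      rw [← hn]
      have h1 : Nat.card N ≤ Nat.card G := Subgroup.card_le_card_group N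
      rcases h1.lt_or_eq with h | h
      · exact h
      · exact absurd ((Subgroup.card_eq_iff_eq_top N).1 h) hNt
    have hQlt : Nat.card (G ⧸ N) < n := by
      rw [← hn, ← Subgroup.index_eq_card, ← Subgroup.card_mul_index N]
      have h1 : 1 < Nat.card N := by
        rw [Subgroup.one_lt_card_iff_ne_bot]; exact hNb
      have h2 : 0 < N.index := Nat.pos_of_ne_zero Subgroup.index_ne_zero_of_finite
      nlinarith
    -- `N` is solvable
    have hN : Group.IsSolvable N := by
      apply ih (Nat.card N) hNlt N rfl (A.subgroupOf N) inferInstance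
      have hdvd : (A.subgroupOf N).index ∣ 2 ^ k := by
        rw [← hk]
        show A.relIndex N ∣ A.index
        rw [← Subgroup.inf_relIndex_right, Cfsg.Agent.Lib.H19.relIndex_inf_normal_eq]
        exact Subgroup.relIndex_dvd_index_of_le le_sup_left
      obtain ⟨j, _, hj⟩ := (Nat.dvd_prime_pow Nat.prime_two).1 hdvd
      exact ⟨j, hj⟩
    have hQ : Group.IsSolvable (G ⧸ N) := by
      apply ih (Nat.card (G ⧸ N)) hQlt (G ⧸ N) rfl (A.map (QuotientGroup.mk' N)) inferInstance
      have hdvd : (A.map (QuotientGroup.mk' N)).index ∣ 2 ^ k := by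
        rw [← hk]
        exact Subgroup.index_map_dvd A (QuotientGroup.mk'_surjective N)
      obtain ⟨j, _, hj⟩ := (Nat.dvd_prime_pow Nat.prime_two).1 hdvd
      exact ⟨j, hj⟩
    exact Group.isSolvable_of_ker_le_range N.subtype (QuotientGroup.mk' N)
      (by rw [QuotientGroup.ker_mk', Subgroup.range_subtype])

/-- Every finite group having an abelian subgroup whose index is a power of 2 is solvable. -/
theorem result {G : Type*} [Group G] [Finite G]
    (A : Subgroup G) (hA : IsMulCommutative A) (hidx : ∃ k : ℕ, A.index = 2 ^ k) : Group.IsSolvable G :=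
  aux (Nat.card G) G rfl A hA hidx

end Cfsg.Agent.S3824
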