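import Cfsg.Statements.S3825
import Mathlib

set_option autoImplicit false
open Cfsg

namespace Cfsg.Agent.S3825

open scoped commutatorElement

theorem result {H : Type*} [Group H] [Finite H] (U : Subgroup H) (w : H) (hw : orderOf w = 2)
    (hwU : w ∈ Subgroup.normalizer (U : Set H)) (y : H) (hy : y ≠ 1) (hyU : y ∈ U)
    (hfix : ∀ u ∈ U, w * u * w⁻¹ = u ↔ (u = 1 ∨ u = y))
    (V : Subgroup H) (hVU : V ≤ U) (hVn : (V.subgroupOf U).Normal) (hVw : ∀ v ∈ V, w * v * w⁻¹ ∈ V)
    (hVe : Cfsg.IsElementaryAbelian 2 V) (hVc : ¬ IsCyclic ↥V) (hyV : y ∈ V) :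
    ¬ 2 ∣ V.relIndex U ∧ Nat.card ↥V = 4 ∧ ⁅U, U⁆ ≤ V := by
  classical
  have hw2 : w * w = 1 := by rw [← sq, ← hw]; exact pow_orderOf_eq_one w
  -- conjugation by w
  have cc : ∀ x : H, w * (w * x * w⁻¹) * w⁻¹ = x := by
    intro x
    have : w * (w * x * w⁻¹) * w⁻¹ = (w * w) * x * (w * w)⁻¹ := by group
    rw [this, hw2]; simp
  have cmul : ∀ a b : H, w * (a * b) * w⁻¹ = (w * a * w⁻¹) * (w * b * w⁻¹) := by
    intro a b; group
  have cinv : ∀ a : H, w * a⁻¹ * w⁻¹ = (w * a * w⁻¹)⁻¹ := by
    intro a; group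
  have cU : ∀ u ∈ U, w * u * w⁻¹ ∈ U := fun u hu => (Subgroup.mem_normalizer_iff.mp hwU u).mp hu
  have fix : ∀ u ∈ U, w * u * w⁻¹ = u → u = 1 ∨ u = y := fun u hu => (hfix u hu).mp
  have cy : w * y * w⁻¹ = y := (hfix y hyU).mpr (Or.inr rfl)
  have hcomm : ∀ a ∈ V, ∀ b ∈ V, a * b = b * a := fun a ha b hb =>
    congrArg Subtype.val (hVe.1.is_comm.comm ⟨a, ha⟩ ⟨b, hb⟩)
  have hsq : ∀ a ∈ V, a * a = 1 := fun a ha => by rw [← sq]; exact hVe.2 a ha
  have hinvV : ∀ a ∈ V, a⁻¹ = a := fun a ha => inv_eq_of_mul_eq_one_left (hsq a ha)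
  -- the map v ↦ v * c v
  let ψ : ↥V →* ↥V :=
    { toFun := fun v => ⟨(v : H) * (w * v * w⁻¹), mul_mem v.2 (hVw v v.2)⟩
      map_one' := by ext; simp
      map_mul' := by
        intro a b
        ext
        simp only [Subgroup.coe_mul]
        rw [cmul]
        have h1 := hcomm b b.2 (w * a * w⁻¹) (hVw a a.2)
        calc (a : H) * b * (w * a * w⁻¹ * (w * b * w⁻¹))
            = a * (b * (w * a * w⁻¹)) * (w * b * w⁻¹) := by group
          _ = a * ((w * a * w⁻¹) * b) * (w * b * w⁻¹) := by rw [h1]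
          _ = a * (w * a * w⁻¹) * (b * (w * b * w⁻¹)) := by group }
  let Y : Subgroup ↥V := Subgroup.zpowers (⟨y, hyV⟩ : ↥V)
  have hYcard : Nat.card Y = 2 := by
    rw [Nat.card_zpowers]
    apply orderOf_eq_prime
    · ext; simp only [Subgroup.coe_pow, Subgroup.coe_one]; exact hVe.2 y hyV
    · intro h; exact hy (congrArg Subtype.val h)
  have hmemY : ∀ v : ↥V, ((v : H) = 1 ∨ (v : H) = y) → v ∈ Y := by
    intro v hv
    rcases hv with h | h
    · have : v = 1 := Subtype.ext h
      rw [this]; exact one_mem _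
    · have : v = ⟨y, hyV⟩ := Subtype.ext h
      rw [this]; exact Subgroup.mem_zpowers _
  have hker : ψ.ker ≤ Y := by
    intro v hv
    rw [MonoidHom.mem_ker] at hv
    have h1 : (v : H) * (w * v * w⁻¹) = 1 := congrArg Subtype.val hv
    have h2 : w * v * w⁻¹ = (v : H) := by
      have := eq_inv_of_mul_eq_one_right h1
      rw [this, hinvV v v.2]
    exact hmemY v (fix v (hVU v.2) h2)
  have hrange : ψ.range ≤ Y := by
    rintro _ ⟨v, rfl⟩
    apply hmemY
    apply fix _ (hVU (ψ v).2)
    show w * ((v : H) * (w * v * w⁻¹)) * w⁻¹ = (v : H) * (w * v * w⁻¹)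
    rw [cmul, cc]
    exact hcomm _ (hVw v v.2) _ v.2
  have hVle : Nat.card ↥V ≤ 4 := by
    have h1 := Subgroup.card_mul_index ψ.ker
    rw [Subgroup.index_ker] at h1
    have h2 := Subgroup.card_le_of_le hker
    have h3 := Subgroup.card_le_of_le hrange
    rw [hYcard] at h2 h3
    rw [← h1]
    calc Nat.card ψ.ker * Nat.card ψ.range ≤ 2 * 2 := Nat.mul_le_mul h2 h3
      _ = 4 := by norm_num
  have hV4 : Nat.card ↥V = 4 := by
    have hpos : 0 < Nat.card ↥V := Nat.card_pos
    have h1 : Nat.card ↥V ≠ 1 := by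
      intro h
      have : Subsingleton ↥V := (Nat.card_eq_one_iff_unique.mp h).1
      exact hVc isCyclic_of_subsingleton
    have h2 : Nat.card ↥V ≠ 2 := by
      intro h
      have : Fact (Nat.Prime 2) := ⟨Nat.prime_two⟩
      exact hVc (isCyclic_of_prime_card h)
    have h3 : Nat.card ↥V ≠ 3 := by
      intro h
      have : Fact (Nat.Prime 3) := ⟨Nat.prime_three⟩
      exact hVc (isCyclic_of_prime_card h)
    omega
  -- a non-fixed element
  obtain ⟨t, htV, htc⟩ : ∃ t ∈ V, (t : H) * (w * t * w⁻¹) = y := by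
    by_contra hne
    push Not at hne
    -- then every element of V is fixed, so V ≤ Y
    have : (⊤ : Subgroup ↥V) ≤ Y := by
      intro v _
      apply hmemY
      apply fix _ (hVU v.2)
      have h1 : (ψ v : H) = 1 ∨ (ψ v : H) = y := by
        have := hrange ⟨v, rfl⟩
        have hz : (ψ v) ∈ Y := this
        obtain ⟨k, hk⟩ := Subgroup.mem_zpowers_iff.mp hz
        rcases Int.even_or_odd k with ⟨m, hm⟩ | ⟨m, hm⟩
        · left
          rw [← hk, hm]
          simp only [Subgroup.coe_zpow]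
          rw [← two_mul, zpow_mul, zpow_two, hsq y hyV, one_zpow]
        · right
          rw [← hk, hm]
          simp only [Subgroup.coe_zpow]
          rw [zpow_add, zpow_one, zpow_mul, zpow_two, hsq y hyV, one_zpow, one_mul]
      rcases h1 with h1 | h1
      · have h1' : (v : H) * (w * v * w⁻¹) = 1 := h1
        have := eq_inv_of_mul_eq_one_right h1'
        rw [this, hinvV v v.2]
      · exact absurd h1 (hne v v.2)
    have h2 := Subgroup.card_le_of_le this
    rw [hYcard, Subgroup.card_top, hV4] at h2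
    omega
  -- fixed-point-freeness modulo V
  have key : ∀ u ∈ U, u⁻¹ * (w * u * w⁻¹) ∈ V → u ∈ V := by
    intro u hu hv
    set v := u⁻¹ * (w * u * w⁻¹) with hvdef
    have hcv : w * v * w⁻¹ = v := by
      rw [hvdef, cmul, cinv, cc]
      have : (w * u * w⁻¹)⁻¹ * u = v⁻¹ := by rw [hvdef]; group
      rw [this, hinvV v hv]
    have hcu : w * u * w⁻¹ = u * v := by rw [hvdef]; group
    rcases fix v (hVU hv) hcv with h1 | h1
    · rw [h1, mul_one] at hcu
      rcases fix u hu hcu with h | h
      · rw [h]; exact one_mem _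
      · rw [h]; exact hyV
    · -- c u = u y, c (u t) = u t
      rw [h1] at hcu
      have hct : w * t * w⁻¹ = t * y := by
        have : w * t * w⁻¹ = t⁻¹ * y := by rw [← htc]; group
        rw [this, hinvV t htV]
      have hfixed : w * (u * t) * w⁻¹ = u * t := by
        rw [cmul, hcu, hct]
        have h2 := hcomm y hyV t htV
        calc u * y * (t * y) = u * (y * t) * y := by group
          _ = u * (t * y) * y := by rw [h2]
          _ = u * t * (y * y) := by group
          _ = u * t := by rw [hsq y hyV, mul_one]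
      rcases fix (u * t) (mul_mem hu (hVU htV)) hfixed with h | h
      · have : u = t⁻¹ := eq_inv_of_mul_eq_one_left h
        rw [this]; exact inv_mem htV
      · have : u = y * t⁻¹ := by rw [← h]; group
        rw [this]; exact mul_mem hyV (inv_mem htV)
  -- the quotient
  have hnorm : (V.subgroupOf U).Normal := hVn
  let cUhom : ↥U →* ↥U :=
    { toFun := fun u => ⟨w * u * w⁻¹, cU u u.2⟩
      map_one' := by ext; simp
      map_mul' := by intro a b; ext; simp only [Subgroup.coe_mul]; rw [cmul] }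
  have hle : V.subgroupOf U ≤ (V.subgroupOf U).comap cUhom := by
    intro u hu
    rw [Subgroup.mem_comap, Subgroup.mem_subgroupOf]
    exact hVw u (Subgroup.mem_subgroupOf.mp hu)
  let φ : (↥U ⧸ V.subgroupOf U) →* (↥U ⧸ V.subgroupOf U) :=
    QuotientGroup.map (V.subgroupOf U) (V.subgroupOf U) cUhom hle
  have hinv : Function.Involutive φ := by
    intro q
    induction q using QuotientGroup.induction_on with
    | H u =>
      show φ (φ (QuotientGroup.mk u)) = QuotientGroup.mk u
      simp only [φ, QuotientGroup.map_mk]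
      congr 1
      ext
      exact cc u
  have hfpf : MonoidHom.FixedPointFree φ := by
    intro q hq
    induction q using QuotientGroup.induction_on with
    | H u =>
      simp only [φ, QuotientGroup.map_mk] at hq
      rw [eq_comm, QuotientGroup.eq] at hq
      rw [QuotientGroup.eq_one_iff, Subgroup.mem_subgroupOf]
      apply key u u.2
      have := Subgroup.mem_subgroupOf.mp hq
      simpa [cUhom] using this
  refine ⟨?_, hV4, ?_⟩
  · have hodd := hfpf.odd_card_of_involutive hinv
    have : V.relIndex U = Nat.card (↥U ⧸ V.subgroupOf U) := rfl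
    rw [this]
    intro h2
    rcases hodd with ⟨k, hk⟩
    omega
  · rw [Subgroup.commutator_le]
    intro a ha b hb
    have hc := hfpf.commute_all_of_involutive hinv (QuotientGroup.mk (⟨a, ha⟩ : ↥U))
      (QuotientGroup.mk (⟨b, hb⟩ : ↥U))
    have h1 : ((⁅(⟨a, ha⟩ : ↥U), ⟨b, hb⟩⁆ : ↥U) : ↥U ⧸ V.subgroupOf U) = 1 := by
      rw [commutatorElement_def]
      simp only [QuotientGroup.mk_mul, QuotientGroup.mk_inv]
      rw [hc.eq]; group
    rw [QuotientGroup.eq_one_iff, Subgroup.mem_subgroupOf] at h1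
    simpa [commutatorElement_def] using h1

end Cfsg.Agent.S3825
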