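import Cfsg.Statements.S3835
import Cfsg.Agent.S2231
import Cfsg.Agent.Lib.H14.Qd

set_option autoImplicit false
open Cfsg

namespace Cfsg.Agent.S3835

open Cfsg.Agent.S2231 Cfsg.Agent.Lib.H14 Matrix

/-- If all `p`-subgroups of a finite group `A` are commutative then `Qd(p)` is not involved in `A`. -/
theorem not_involves_of_allPSubComm {p : ℕ} [Fact p.Prime] (hp : p ≠ 2) {A : Type*} [Group A]
    [Finite A] (h2 : AllPSubComm p A) : ¬ Cfsg.Involves ↥(Cfsg.qd p) A := by
  classical
  rintro ⟨K', R', hnorm, ⟨e⟩⟩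
  have hpp : p.Prime := Fact.out
  have hp3 : 3 ≤ p := by
    have := hpp.two_le
    omega
  have h3 : AllPSubComm p K' := h2.subgroup K'
  have h4 : AllPSubComm p (K' ⧸ R'.subgroupOf K') :=
    h3.of_surjective (QuotientGroup.mk' _) (QuotientGroup.mk'_surjective _)
  have h5 : AllPSubComm p ↥(Cfsg.qd p) := h4.of_surjective e.toMonoidHom e.surjective
  let x0 : Matrix.SpecialLinearGroup (Fin 3) (ZMod p) :=
    ⟨!![1, 1, 0; 0, 1, 0; 0, 0, 1], by rw [Matrix.det_fin_three]; simp⟩
  let y0 : Matrix.SpecialLinearGroup (Fin 3) (ZMod p) :=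
    ⟨!![1, 0, 0; 0, 1, 1; 0, 0, 1], by rw [Matrix.det_fin_three]; simp⟩
  have hx0 : x0 ∈ Cfsg.qd p := Subgroup.subset_closure (by
    refine ⟨?_, ?_, ?_⟩ <;> simp [x0])
  have hy0 : y0 ∈ Cfsg.qd p := Subgroup.subset_closure (by
    refine ⟨?_, ?_, ?_⟩ <;> simp [y0])
  have hxU : x0 ∈ UT3Subgroup p hp3 := by
    change UT3 x0.1
    unfold UT3
    simp [x0]
  have hyU : y0 ∈ UT3Subgroup p hp3 := by
    change UT3 y0.1
    unfold UT3
    simp [y0]
  let U : Subgroup ↥(Cfsg.qd p) := (UT3Subgroup p hp3).subgroupOf (Cfsg.qd p)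
  have hU : IsPGroup p U := by
    intro g
    obtain ⟨k, hk⟩ := UT3Subgroup_isPGroup p hp3 ⟨g.1.1, g.2⟩
    refine ⟨k, ?_⟩
    apply Subtype.ext
    apply Subtype.ext
    have := congrArg Subtype.val hk
    simpa using this
  have hcomm := h5 U hU ⟨x0, hx0⟩ hxU ⟨y0, hy0⟩ hyU
  have hcomm' : x0 * y0 = y0 * x0 := congrArg Subtype.val hcomm
  have hm : (x0.1 * y0.1) 0 2 = (y0.1 * x0.1) 0 2 := by
    rw [← Matrix.SpecialLinearGroup.coe_mul, ← Matrix.SpecialLinearGroup.coe_mul, hcomm']
  have hx01 : x0.1 = !![1, 1, 0; 0, 1, 0; 0, 0, 1] := rfl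
  have hy01 : y0.1 = !![1, 0, 0; 0, 1, 1; 0, 0, 1] := rfl
  rw [hx01, hy01] at hm
  simp [Matrix.mul_apply, Fin.sum_univ_three] at hm

theorem not_sq_dvd_factorial {p : ℕ} (hp : p.Prime) : ¬ p ^ 2 ∣ p.factorial := by
  intro h
  obtain ⟨m, hm⟩ := Nat.exists_eq_succ_of_ne_zero hp.ne_zero
  have h0 : p.factorial = p * m.factorial := by rw [hm, Nat.factorial_succ]
  rw [h0, sq] at h
  have h1 : p ∣ m.factorial := (Nat.mul_dvd_mul_iff_left hp.pos).1 h
  have h2 := (hp.dvd_factorial).1 h1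
  omega

/-- `p`-subgroups of `Perm (Fin n)` are commutative when `n < p ^ 2`. -/
theorem allPSubComm_perm {p : ℕ} [Fact p.Prime] {n : ℕ} (hn : n < p ^ 2) :
    AllPSubComm p (Equiv.Perm (Fin n)) := by
  classical
  have hp : p.Prime := Fact.out
  intro T hT a ha b hb
  ext x
  congr 1
  -- the orbit of x under T
  let O := MulAction.orbit T x
  let φ : T →* Equiv.Perm O := MulAction.toPermHom T O
  have hOcard : Nat.card O ≤ p := by
    have h1 : Nat.card O ∣ Nat.card T := by
      have h0 : Nat.card O = (MulAction.stabilizer T x).index := by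
        rw [MulAction.index_stabilizer]; exact Nat.card_coe_set_eq _
      rw [h0]; exact Subgroup.index_dvd_card _
    obtain ⟨k, hk⟩ := IsPGroup.iff_card.mp hT
    rw [hk] at h1
    obtain ⟨j, -, hj⟩ := (Nat.dvd_prime_pow hp).1 h1
    have h2 : Nat.card O ≤ n := by
      have := Nat.card_le_card_of_injective (fun o : O => (o : Fin n)) Subtype.val_injective
      simpa using this
    have hj1 : j < 2 := by
      by_contra hj2
      have : p ^ 2 ≤ p ^ j := Nat.pow_le_pow_right hp.pos (by omega)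
      omega
    rw [hj]
    interval_cases j
    · simp; exact hp.one_lt.le
    · simp
  -- the image of T in Perm O has order 1 or p
  have hrange : IsPGroup p φ.range := hT.of_surjective φ.rangeRestrict φ.rangeRestrict_surjective
  obtain ⟨i, hi⟩ := IsPGroup.iff_card.mp hrange
  have hdvd : Nat.card φ.range ∣ p.factorial := by
    have h1 : Nat.card φ.range ∣ Nat.card (Equiv.Perm O) := Subgroup.card_subgroup_dvd_card _
    rw [Nat.card_perm] at h1
    exact h1.trans (Nat.factorial_dvd_factorial hOcard)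
  have hi1 : i < 2 := by
    by_contra hi2
    apply not_sq_dvd_factorial hp
    rw [hi] at hdvd
    exact (pow_dvd_pow p (by omega : 2 ≤ i)).trans hdvd
  have hcommR : ∀ u v : φ.range, u * v = v * u := by
    interval_cases i
    · rw [pow_zero] at hi
      have : Subsingleton φ.range := (Nat.card_eq_one_iff_unique.1 hi).1
      intro u v
      exact Subsingleton.elim _ _
    · rw [pow_one] at hi
      have hc : IsCyclic φ.range := isCyclic_of_prime_card hi
      intro u v
      exact IsCyclic.isMulCommutative.is_comm.comm u v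
  have h1 := hcommR ⟨φ ⟨a, ha⟩, ⟨_, rfl⟩⟩ ⟨φ ⟨b, hb⟩, ⟨_, rfl⟩⟩
  have h2 : φ ⟨a, ha⟩ * φ ⟨b, hb⟩ = φ ⟨b, hb⟩ * φ ⟨a, ha⟩ := congrArg Subtype.val h1
  have h3 := congrArg (fun f => ((f ⟨x, MulAction.mem_orbit_self x⟩ : O) : Fin n)) h2
  exact h3


variable {p : ℕ}

/-- the affine plane `{w | w 2 = 1}` -/
def Pt (p : ℕ) : Type := {w : Fin 3 → ZMod p // w 2 = 1}

/-- matrix of an element of the affine group -/
def mat (g : affSub (ZMod p)) : Matrix (Fin 3) (Fin 3) (ZMod p) := g.1.1

theorem mat_mul (g h : affSub (ZMod p)) : mat (g * h) = mat g * mat h := rfl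

theorem mat_one : mat (1 : affSub (ZMod p)) = 1 := rfl

theorem mat_20 (g : affSub (ZMod p)) : mat g 2 0 = 0 := g.2.1
theorem mat_21 (g : affSub (ZMod p)) : mat g 2 1 = 0 := g.2.2.1
theorem mat_22 (g : affSub (ZMod p)) : mat g 2 2 = 1 := g.2.2.2

theorem mat_injective : Function.Injective (mat (p := p)) := by
  intro g h hgh
  exact Subtype.ext (Subtype.ext hgh)

instance : MulAction (affSub (ZMod p)) (Pt p) where
  smul g w := ⟨mat g *ᵥ w.1, by
    have := w.2
    simp [Matrix.mulVec, dotProduct, Fin.sum_univ_three, mat_20, mat_21, mat_22, this]⟩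
  one_smul w := by
    apply Subtype.ext
    show mat 1 *ᵥ w.1 = w.1
    rw [mat_one, Matrix.one_mulVec]
  mul_smul g h w := by
    apply Subtype.ext
    show mat (g * h) *ᵥ w.1 = mat g *ᵥ (mat h *ᵥ w.1)
    rw [mat_mul, Matrix.mulVec_mulVec]

theorem smul_val (g : affSub (ZMod p)) (w : Pt p) : (g • w).1 = mat g *ᵥ w.1 := rfl

/-- the three base points -/
def pt (a b : ZMod p) : Pt p := ⟨![a, b, 1], rfl⟩

theorem toPermHom_injective :
    Function.Injective (MulAction.toPermHom (affSub (ZMod p)) (Pt p)) := by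
  rw [injective_iff_map_eq_one]
  intro g hg
  have h : ∀ w : Pt p, mat g *ᵥ w.1 = w.1 := by
    intro w
    rw [← smul_val]
    have : g • w = (MulAction.toPermHom (affSub (ZMod p)) (Pt p) g) w := rfl
    rw [this, hg]; rfl
  apply mat_injective
  rw [mat_one]
  have h0 := h (pt 0 0)
  have h1 := h (pt 1 0)
  have h2 := h (pt 0 1)
  ext j k
  have e0 := congrFun h0 j
  have e1 := congrFun h1 j
  have e2 := congrFun h2 j
  simp [Matrix.mulVec, dotProduct, Fin.sum_univ_three, pt] at e0 e1 e2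
  fin_cases j <;> fin_cases k <;> simp_all

instance [NeZero p] : Fintype (Pt p) := by
  unfold Pt; infer_instance

def ptEquiv : Pt p ≃ ZMod p × ZMod p where
  toFun w := (w.1 0, w.1 1)
  invFun ab := pt ab.1 ab.2
  left_inv w := by
    apply Subtype.ext
    ext i
    fin_cases i
    · rfl
    · rfl
    · exact w.2.symm
  right_inv ab := rfl

theorem card_pt [NeZero p] : Fintype.card (Pt p) = p ^ 2 := by
  rw [Fintype.card_congr ptEquiv, Fintype.card_prod, ZMod.card, sq]

/-! ### homomorphisms to `ℤˣ` are trivial -/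

def e01 (t : ZMod p) : affSub (ZMod p) :=
  ⟨⟨!![1, t, 0; 0, 1, 0; 0, 0, 1], by rw [Matrix.det_fin_three]; simp⟩, by
    refine ⟨?_, ?_, ?_⟩ <;> simp⟩

def e10 (t : ZMod p) : affSub (ZMod p) :=
  ⟨⟨!![1, 0, 0; t, 1, 0; 0, 0, 1], by rw [Matrix.det_fin_three]; simp⟩, by
    refine ⟨?_, ?_, ?_⟩ <;> simp⟩

theorem mat_e01 (t : ZMod p) : mat (e01 t) = !![1, t, 0; 0, 1, 0; 0, 0, 1] := rfl
theorem mat_e10 (t : ZMod p) : mat (e10 t) = !![1, 0, 0; t, 1, 0; 0, 0, 1] := rfl

theorem mat_pow (g : affSub (ZMod p)) (k : ℕ) : mat (g ^ k) = mat g ^ k := by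
  induction k with
  | zero => simp [mat_one]
  | succ k ih => rw [pow_succ, pow_succ, mat_mul, ih]

theorem det_mat (g : affSub (ZMod p)) :
    mat g 0 0 * mat g 1 1 - mat g 0 1 * mat g 1 0 = 1 := by
  have h := g.1.2
  change (mat g).det = 1 at h
  rw [Matrix.det_fin_three, mat_20, mat_21, mat_22] at h
  linear_combination h

section hom

variable [Fact p.Prime] (hp3 : 3 ≤ p) (χ : affSub (ZMod p) →* ℤˣ)

include hp3

theorem chi_of_pow (h : affSub (ZMod p)) (hh : mat h ^ p = 1) : χ h = 1 := by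
  have hpp : p.Prime := Fact.out
  have h1 : h ^ p = 1 := by
    apply mat_injective
    rw [mat_pow, hh, mat_one]
  have h2 : χ h ^ p = 1 := by rw [← map_pow, h1, map_one]
  rcases Int.units_eq_one_or (χ h) with h3 | h3
  · exact h3
  · exfalso
    rw [h3] at h2
    have hodd : Odd p := hpp.odd_of_ne_two (by omega)
    rw [hodd.neg_one_pow] at h2
    exact absurd h2 (by decide)

theorem chi_e01 (t : ZMod p) : χ (e01 t) = 1 := by
  apply chi_of_pow hp3
  apply UT3_pow_p hp3
  rw [mat_e01]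
  unfold UT3
  simp

theorem chi_e10 (t : ZMod p) : χ (e10 t) = 1 := by
  apply chi_of_pow hp3
  have h1 : (mat (e10 t))ᵀ ^ p = 1 := by
    apply UT3_pow_p hp3
    rw [mat_e10]
    unfold UT3
    simp
  rw [← Matrix.transpose_pow] at h1
  have h2 := congrArg Matrix.transpose h1
  rwa [Matrix.transpose_transpose, Matrix.transpose_one] at h2

theorem chi_key1 (g : affSub (ZMod p)) (h10 : mat g 1 0 = 0) (h00 : mat g 0 0 = 1) : χ g = 1 := by
  apply chi_of_pow hp3
  apply UT3_pow_p hp3
  have hd := det_mat g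
  rw [h10, h00] at hd
  refine ⟨h10, mat_20 g, mat_21 g, h00, ?_, mat_22 g⟩
  linear_combination hd

theorem chi_key2 (g : affSub (ZMod p)) (h00 : mat g 0 0 = 1) : χ g = 1 := by
  have h1 : χ (e10 (-(mat g 1 0)) * g) = 1 := by
    apply chi_key1 hp3
    · rw [mat_mul, mat_e10]
      simp [Matrix.mul_apply, Fin.sum_univ_three, h00]
    · rw [mat_mul, mat_e10]
      simp [Matrix.mul_apply, Fin.sum_univ_three, h00]
  rwa [map_mul, chi_e10 hp3, one_mul] at h1

theorem chi_key3 (g : affSub (ZMod p)) (h10 : mat g 1 0 ≠ 0) : χ g = 1 := by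
  have h1 : χ (e01 ((1 - mat g 0 0) / mat g 1 0) * g) = 1 := by
    apply chi_key2 hp3
    rw [mat_mul, mat_e01]
    simp [Matrix.mul_apply, Fin.sum_univ_three]
    field_simp
    ring
  rwa [map_mul, chi_e01 hp3, one_mul] at h1

theorem chi_eq_one (g : affSub (ZMod p)) : χ g = 1 := by
  by_cases h10 : mat g 1 0 = 0
  · have hd := det_mat g
    rw [h10, mul_zero, sub_zero] at hd
    have h00 : mat g 0 0 ≠ 0 := by
      intro h0
      rw [h0, zero_mul] at hd
      exact zero_ne_one hd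
    have h1 : χ (e10 1 * g) = 1 := by
      apply chi_key3 hp3
      rw [mat_mul, mat_e10]
      simp [Matrix.mul_apply, Fin.sum_univ_three, h10, h00]
    rwa [map_mul, chi_e10 hp3, one_mul] at h1
  · exact chi_key3 hp3 χ g h10

end hom


/-- Let p be an odd prime and n a natural number. The alternating group of degree n has a subgroup isomorphic to Qd(p) (the natural semidirect product of an elementary abelian group of order p² by SL₂(p)) if and only if n ≥ p²; and if n < p² then Qd(p) is not even involved in it. -/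
theorem result {p : ℕ} [Fact p.Prime] (hp : p ≠ 2) (n : ℕ) : ((∃ H : Subgroup (alternatingGroup (Fin n)), Nonempty (↥H ≃* ↥(Cfsg.qd p))) ↔ p ^ 2 ≤ n) ∧ (n < p ^ 2 → ¬ Cfsg.Involves ↥(Cfsg.qd p) ↥(alternatingGroup (Fin n))) := by
  classical
  have hpp : p.Prime := Fact.out
  have hp3 : 3 ≤ p := by
    have := hpp.two_le
    omega
  have hC : n < p ^ 2 → ¬ Cfsg.Involves ↥(Cfsg.qd p) ↥(alternatingGroup (Fin n)) := fun hn =>
    not_involves_of_allPSubComm hp ((allPSubComm_perm hn).subgroup (alternatingGroup (Fin n)))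
  refine ⟨⟨?_, ?_⟩, hC⟩
  · rintro ⟨H, ⟨e⟩⟩
    by_contra hn
    apply hC (not_le.1 hn)
    have hb : (⊥ : Subgroup (alternatingGroup (Fin n))).subgroupOf H = ⊥ :=
      Subgroup.bot_subgroupOf H
    have hnorm : ((⊥ : Subgroup (alternatingGroup (Fin n))).subgroupOf H).Normal := by
      rw [hb]; infer_instance
    exact ⟨H, ⊥, hnorm,
      ⟨((QuotientGroup.quotientMulEquivOfEq hb).trans QuotientGroup.quotientBot).trans e⟩⟩
  · intro hn
    have : NeZero p := ⟨hpp.ne_zero⟩
    have hcard : Fintype.card (Pt p) ≤ Fintype.card (Fin n) := by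
      rw [card_pt, Fintype.card_fin]; exact hn
    obtain ⟨ι⟩ := Function.Embedding.nonempty_of_card_le hcard
    let ψ := MulAction.toPermHom (affSub (ZMod p)) (Pt p)
    let Ψ : affSub (ZMod p) →* Equiv.Perm (Fin n) := (Equiv.Perm.viaEmbeddingHom ι).comp ψ
    have hΨ : Function.Injective Ψ :=
      (Equiv.Perm.viaEmbeddingHom_injective ι).comp toPermHom_injective
    have hmem : ∀ g, Ψ g ∈ alternatingGroup (Fin n) := by
      intro g
      rw [Equiv.Perm.mem_alternatingGroup]
      exact chi_eq_one hp3 (Equiv.Perm.sign.comp Ψ) g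
    let Ψ' : affSub (ZMod p) →* alternatingGroup (Fin n) := Ψ.codRestrict _ hmem
    have hΨ' : Function.Injective Ψ' := by
      intro g h hgh
      apply hΨ
      exact congrArg Subtype.val hgh
    let e₀ : ↥(Cfsg.qd p) ≃* affSub (ZMod p) := MulEquiv.subgroupCongr (qd_eq_affSub p)
    exact ⟨Ψ'.range, ⟨(MonoidHom.ofInjective hΨ').symm.trans e₀.symm⟩⟩

end Cfsg.Agent.S3835
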