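import Cfsg.Statements.S3839
import Cfsg.Agent.Lib.H22.AlperinRadical
import Cfsg.Agent.Lib.H16.PGroupBasic
import Cfsg.Agent.Lib.L0.FrobeniusPC
import Cfsg.Agent.Lib.L0.NPCBasic

set_option autoImplicit false
open Cfsg

namespace Cfsg.Agent.S3839

open Cfsg.Agent.Lib.H10 Cfsg.Agent.Lib.H5 Cfsg.Agent.Lib.L0 Cfsg.Agent.Lib.H22.AlperinRadical

variable {G : Type*} [Group G]

/-- A strongly closed subgroup is normalized by the Sylow subgroup. -/
theorem sc_conj_mem {D S : Subgroup G} (hD : Cfsg.IsStronglyClosed D S) {s d : G}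
    (hs : s ∈ S) (hd : d ∈ D) : s * d * s⁻¹ ∈ D :=
  hD.2 d hd s (S.mul_mem (S.mul_mem hs (hD.1 hd)) (S.inv_mem hs))

theorem sc_le_normalizer {D S : Subgroup G} (hD : Cfsg.IsStronglyClosed D S) :
    S ≤ Subgroup.normalizer (D : Set G) := by
  intro s hs
  rw [Subgroup.mem_normalizer_iff]
  intro d
  constructor
  · intro hd
    exact sc_conj_mem hD hs hd
  · intro hd
    have := sc_conj_mem hD (S.inv_mem hs) hd
    have e : s⁻¹ * (s * d * s⁻¹) * s⁻¹⁻¹ = d := by group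
    rwa [e] at this

/-- `N_G(T) ≤ N_G(T ∩ D)` for `T ≤ S` and `D` strongly closed. -/
theorem normalizer_le_normalizer_inf {D S T : Subgroup G} (hD : Cfsg.IsStronglyClosed D S)
    (hT : T ≤ S) :
    Subgroup.normalizer (T : Set G) ≤ Subgroup.normalizer ((T ⊓ D : Subgroup G) : Set G) := by
  intro g hg
  rw [Subgroup.mem_normalizer_iff] at hg ⊢
  intro h
  rw [Subgroup.mem_inf, Subgroup.mem_inf]
  constructor
  · rintro ⟨h1, h2⟩
    have h3 : g * h * g⁻¹ ∈ T := (hg h).mp h1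
    exact ⟨h3, hD.2 h h2 g (hT h3)⟩
  · rintro ⟨h1, h2⟩
    have h3 : h ∈ T := (hg h).mpr h1
    refine ⟨h3, ?_⟩
    have e : g⁻¹ * (g * h * g⁻¹) * g⁻¹⁻¹ = h := by group
    have := hD.2 (g * h * g⁻¹) h2 g⁻¹ (by rw [e]; exact hT h3)
    rwa [e] at this

/-- The stability group of the chain `1 ≤ Q ≤ T` inside `N_G(T)`. -/
def stab (T Q : Subgroup G) : Subgroup G where
  carrier := {x | x ∈ Subgroup.normalizer (T : Set G) ∧ x ∈ Subgroup.centralizer (Q : Set G) ∧
    ∀ t ∈ T, x * t * x⁻¹ * t⁻¹ ∈ Q}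
  one_mem' := ⟨Subgroup.one_mem _, Subgroup.one_mem _, fun t _ => by
    have e : (1 : G) * t * 1⁻¹ * t⁻¹ = 1 := by group
    rw [e]; exact Q.one_mem⟩
  mul_mem' := by
    rintro x y ⟨hx1, hx2, hx3⟩ ⟨hy1, hy2, hy3⟩
    refine ⟨Subgroup.mul_mem _ hx1 hy1, Subgroup.mul_mem _ hx2 hy2, fun t ht => ?_⟩
    have hq := hy3 t ht
    have hc : (y * t * y⁻¹ * t⁻¹) * x = x * (y * t * y⁻¹ * t⁻¹) :=
      (Subgroup.mem_centralizer_iff.mp hx2) _ hq
    have e : x * y * t * (x * y)⁻¹ * t⁻¹ =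
        (x * (y * t * y⁻¹ * t⁻¹) * x⁻¹) * (x * t * x⁻¹ * t⁻¹) := by group
    have e2 : x * (y * t * y⁻¹ * t⁻¹) * x⁻¹ = y * t * y⁻¹ * t⁻¹ := by
      rw [← hc]; group
    rw [e, e2]
    exact Q.mul_mem hq (hx3 t ht)
  inv_mem' := by
    rintro x ⟨hx1, hx2, hx3⟩
    refine ⟨Subgroup.inv_mem _ hx1, Subgroup.inv_mem _ hx2, fun t ht => ?_⟩
    have ht' : x⁻¹ * t * x ∈ T := by
      have := (Subgroup.mem_normalizer_iff.mp (Subgroup.inv_mem _ hx1) t).mp ht
      rwa [inv_inv] at this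
    have hq := hx3 _ ht'
    have e : x⁻¹ * t * x⁻¹⁻¹ * t⁻¹ = (x * (x⁻¹ * t * x) * x⁻¹ * (x⁻¹ * t * x)⁻¹)⁻¹ := by group
    rw [e]
    exact Q.inv_mem hq

theorem mem_stab {T Q : Subgroup G} {x : G} : x ∈ stab T Q ↔
    x ∈ Subgroup.normalizer (T : Set G) ∧ x ∈ Subgroup.centralizer (Q : Set G) ∧
    ∀ t ∈ T, x * t * x⁻¹ * t⁻¹ ∈ Q := Iff.rfl

theorem stab_le_normalizer (T Q : Subgroup G) : stab T Q ≤ Subgroup.normalizer (T : Set G) :=
  fun _ hx => hx.1

/-- Elements of the stability group act on `T` with order dividing the exponent of `Q`. -/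
theorem pow_mem_centralizer_of_mem_stab {T Q : Subgroup G} {x : G} (hx : x ∈ stab T Q) (n : ℕ)
    (hn : ∀ q ∈ Q, q ^ n = 1) : x ^ n ∈ Subgroup.centralizer (T : Set G) := by
  obtain ⟨hx1, hx2, hx3⟩ := hx
  rw [Subgroup.mem_centralizer_iff]
  intro t ht
  have hq := hx3 t ht
  set q := x * t * x⁻¹ * t⁻¹ with hqdef
  have hxt : x * t * x⁻¹ = q * t := by rw [hqdef]; group
  have key : ∀ m : ℕ, x ^ m * t * (x ^ m)⁻¹ = q ^ m * t := by
    intro m
    induction m with
    | zero => simp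
    | succ m ih =>
      have hqm : q ^ m * x = x * q ^ m :=
        (Subgroup.mem_centralizer_iff.mp hx2) _ (Q.pow_mem hq m)
      calc x ^ (m + 1) * t * (x ^ (m + 1))⁻¹ = x * (x ^ m * t * (x ^ m)⁻¹) * x⁻¹ := by
            rw [pow_succ']; group
        _ = x * (q ^ m * t) * x⁻¹ := by rw [ih]
        _ = (x * q ^ m) * x⁻¹ * (x * t * x⁻¹) := by group
        _ = (q ^ m * x) * x⁻¹ * (q * t) := by rw [hqm, hxt]
        _ = q ^ (m + 1) * t := by rw [pow_succ]; group
  have h1 := key n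
  rw [hn q hq, one_mul] at h1
  calc t * x ^ n = (x ^ n * t * (x ^ n)⁻¹) * x ^ n := by rw [h1]
    _ = x ^ n * t := by group

theorem conj_mem_stab {T Q : Subgroup G}
    (h : Subgroup.normalizer (T : Set G) ≤ Subgroup.normalizer (Q : Set G)) {g x : G}
    (hg : g ∈ Subgroup.normalizer (T : Set G)) (hx : x ∈ stab T Q) : g * x * g⁻¹ ∈ stab T Q := by
  obtain ⟨hx1, hx2, hx3⟩ := hx
  have hgQ := h hg
  refine ⟨Subgroup.mul_mem _ (Subgroup.mul_mem _ hg hx1) (Subgroup.inv_mem _ hg), ?_, ?_⟩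
  · have := NC.normalizer_le_normalizer_centralizer Q hgQ
    exact (Subgroup.mem_normalizer_iff.mp this x).mp hx2
  · intro t ht
    have ht' : g⁻¹ * t * g ∈ T := by
      have := (Subgroup.mem_normalizer_iff.mp (Subgroup.inv_mem _ hg) t).mp ht
      rwa [inv_inv] at this
    have hq := hx3 _ ht'
    have e : g * x * g⁻¹ * t * (g * x * g⁻¹)⁻¹ * t⁻¹ =
        g * (x * (g⁻¹ * t * g) * x⁻¹ * (g⁻¹ * t * g)⁻¹) * g⁻¹ := by group
    rw [e]
    exact (Subgroup.mem_normalizer_iff.mp hgQ _).mp hq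

theorem normalizer_le_normalizer_stab {T Q : Subgroup G}
    (h : Subgroup.normalizer (T : Set G) ≤ Subgroup.normalizer (Q : Set G)) :
    Subgroup.normalizer (T : Set G) ≤ Subgroup.normalizer ((stab T Q : Subgroup G) : Set G) := by
  intro g hg
  rw [Subgroup.mem_normalizer_iff]
  intro x
  constructor
  · intro hx
    exact conj_mem_stab h hg hx
  · intro hx
    have := conj_mem_stab h (Subgroup.inv_mem _ hg) hx
    have e : g⁻¹ * (g * x * g⁻¹) * g⁻¹⁻¹ = x := by group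
    rwa [e] at this

/-- If `Q = T ∩ D` does not contain its centralizer in `D`, then `T` is not radical: the stability
group of `1 ≤ Q ≤ T` meets `S` outside `T`. -/
theorem exists_not_radical [Finite G] {p : ℕ} [Fact p.Prime] {S D T : Subgroup G}
    (hS : IsPGroup p S) (hD : Cfsg.IsStronglyClosed D S) (hT : T ≤ S)
    (hnot : ¬ D ⊓ Subgroup.centralizer ((T ⊓ D : Subgroup G) : Set G) ≤ T ⊓ D) :
    ∃ d ∈ stab T (T ⊓ D), d ∈ S ∧ d ∉ T := by
  set Q := T ⊓ D with hQ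
  set B := D ⊓ Subgroup.centralizer (Q : Set G) with hB
  have hTD : T ≤ Subgroup.normalizer (D : Set G) := hT.trans (sc_le_normalizer hD)
  have hTQ : T ≤ Subgroup.normalizer (Q : Set G) :=
    le_normalizer_inf Subgroup.le_normalizer hTD
  have hTB : T ≤ Subgroup.normalizer (B : Set G) :=
    le_normalizer_inf hTD (hTQ.trans (NC.normalizer_le_normalizer_centralizer Q))
  have hBT : ¬ B ≤ T := by
    intro hle
    apply hnot
    intro b hb
    exact ⟨hle hb, hb.1⟩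
  have hlt : T < T ⊔ B := by
    refine lt_of_le_of_ne le_sup_left ?_
    intro heq
    apply hBT
    rw [heq]
    exact le_sup_right
  have hBS : B ≤ S := inf_le_left.trans hD.1
  have hP : IsPGroup p (T ⊔ B : Subgroup G) := hS.to_le (sup_le hT hBS)
  obtain ⟨n, hn, hnT, hnN⟩ := Cfsg.Agent.Lib.H16.exists_mem_normalizer_not_mem _ _ hP hlt
  rw [← SetLike.mem_coe, Subgroup.coe_mul_of_left_le_normalizer_right T B hTB, Set.mem_mul] at hn
  obtain ⟨t, ht, b, hb, rfl⟩ := hn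
  have ht' : t ∈ T := ht
  have hb' : b ∈ B := hb
  have hbN : b ∈ Subgroup.normalizer (T : Set G) := by
    have : b = t⁻¹ * (t * b) := by group
    rw [this]
    exact Subgroup.mul_mem _ (Subgroup.inv_mem _ (Subgroup.le_normalizer ht')) hnN
  have hbT : b ∉ T := fun h => hnT (T.mul_mem ht' h)
  have hbD : b ∈ D := hb'.1
  refine ⟨b, ⟨hbN, hb'.2, ?_⟩, hBS hb', hbT⟩
  intro s hs
  refine ⟨?_, ?_⟩
  · exact T.mul_mem ((Subgroup.mem_normalizer_iff.mp hbN s).mp hs) (T.inv_mem hs)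
  · have h1 : s * b⁻¹ * s⁻¹ ∈ D := sc_conj_mem hD (hT hs) (D.inv_mem hbD)
    have e : b * s * b⁻¹ * s⁻¹ = b * (s * b⁻¹ * s⁻¹) := by group
    rw [e]
    exact D.mul_mem hbD h1

/-- Local step: if `N_G(T) ≤ N_G(Q)` with `N_G(Q)` having a normal `p`-complement and `N_S(T)`
is Sylow in `N_G(T)`, then `N_G(T) = N_S(T) C_G(T)`. -/
theorem good_of_npc [Finite G] {p : ℕ} [Fact p.Prime] (S : Sylow p G) {T Q : Subgroup G}
    (hT : T ∈ sylNormFamily p (S : Subgroup G))
    (hNQ : Subgroup.normalizer (T : Set G) ≤ Subgroup.normalizer (Q : Set G))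
    (hnpc : Cfsg.HasNormalPComplement p ↥(Subgroup.normalizer (Q : Set G)))
    (x : G) (hx : x ∈ Subgroup.normalizer (T : Set G)) :
    ∃ u ∈ (S : Subgroup G), ∀ a ∈ T, x⁻¹ * a * x = u⁻¹ * a * u := by
  set X := Subgroup.normalizer (T : Set G) with hXdef
  set C := Subgroup.centralizer (T : Set G) with hCdef
  have hX : Cfsg.HasNormalPComplement p ↥X := Cfsg.Agent.Lib.L0.HasNormalPComplement.of_le hNQ hnpc
  have hTp : IsPGroup p T := S.2.to_le hT.1
  have hcent : ∀ y ∈ X, (orderOf y).Coprime p → y ∈ C := by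
    intro y hy hyp
    have hT'n : (T.subgroupOf X).Normal := Subgroup.normal_subgroupOf_of_le_normalizer le_rfl
    have hT'p : IsPGroup p (T.subgroupOf X) := hTp.comap_subtype
    have h1 := Cfsg.Agent.Lib.L0.HasNormalPComplement.mem_centralizer hX (T.subgroupOf X) hT'p ⟨y, hy⟩
      (by rw [Subgroup.orderOf_mk]; exact hyp)
    rw [Subgroup.mem_centralizer_iff] at h1 ⊢
    intro t ht
    have h2 := h1 ⟨t, Subgroup.le_normalizer ht⟩ (by rw [SetLike.mem_coe, Subgroup.mem_subgroupOf]; exact ht)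
    exact congrArg Subtype.val h2
  have hpow : ∀ y ∈ X, ∃ j : ℕ, y ^ (p ^ j) ∈ C := by
    intro y hy
    obtain ⟨k, m, hm, hkm⟩ := Nat.exists_eq_pow_mul_and_not_dvd (orderOf_pos y).ne' p
      (Fact.out : p.Prime).ne_one
    refine ⟨k, ?_⟩
    apply hcent _ (Subgroup.pow_mem _ hy _)
    have hord : orderOf (y ^ p ^ k) = m := by
      rw [orderOf_pow, hkm, Nat.gcd_eq_right (Dvd.intro _ rfl)]
      exact Nat.mul_div_cancel_left m (pow_pos (Fact.out : p.Prime).pos k)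
    rw [hord]
    exact ((Nat.Prime.coprime_iff_not_dvd Fact.out).mpr hm).symm
  set R := (S : Subgroup G) ⊓ X with hRdef
  have hXC : X ≤ Subgroup.normalizer (C : Set G) := NC.normalizer_le_normalizer_centralizer T
  have hle : X ≤ R ⊔ C := le_sup_of_pgroup_quotient hT.2 hXC hpow
  have hRC : R ≤ Subgroup.normalizer (C : Set G) := inf_le_right.trans hXC
  have hx' := hle hx
  rw [← SetLike.mem_coe, Subgroup.coe_mul_of_left_le_normalizer_right R C hRC, Set.mem_mul] at hx'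
  obtain ⟨r, hr, c, hc, rfl⟩ := hx'
  have hr' : r ∈ R := hr
  have hc' : c ∈ C := hc
  refine ⟨r, hr'.1, ?_⟩
  intro a ha
  have hra : r⁻¹ * a * r ∈ T := by
    have := (Subgroup.mem_normalizer_iff.mp (Subgroup.inv_mem _ hr'.2) a).mp ha
    rwa [inv_inv] at this
  have h1 : (r⁻¹ * a * r) * c = c * (r⁻¹ * a * r) := (Subgroup.mem_centralizer_iff.mp hc') _ hra
  calc (r * c)⁻¹ * a * (r * c) = c⁻¹ * ((r⁻¹ * a * r) * c) := by group
    _ = c⁻¹ * (c * (r⁻¹ * a * r)) := by rw [h1]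
    _ = r⁻¹ * a * r := by group

/-- The hypothesis of the theorem implies the Frobenius hypothesis. -/
theorem frobHyp_of_hyp [Finite G] {p : ℕ} [Fact p.Prime] (S : Sylow p G) (D : Subgroup G)
    (hD : Cfsg.IsStronglyClosed D (S : Subgroup G))
    (h : ∀ U : Subgroup G, U ≤ D → D ⊓ Subgroup.centralizer (U : Set G) ≤ U →
      Cfsg.HasNormalPComplement p ↥(Subgroup.normalizer (U : Set G))) :
    FrobHyp p G := by
  have key := good_of_radical S
    (fun A g => ∃ u ∈ (S : Subgroup G), ∀ a ∈ A, g⁻¹ * a * g = u⁻¹ * a * u)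
    (by
      rintro A B g ⟨u, hu, h1⟩ hBA
      exact ⟨u, hu, fun a ha => h1 a (hBA ha)⟩)
    (by
      rintro A g k ⟨u, hu, h1⟩ ⟨v, hv, h2⟩
      refine ⟨u * v, Subgroup.mul_mem _ hu hv, fun a ha => ?_⟩
      have hmem : g⁻¹ * a * g ∈ rconj g A := ⟨a, ha, rfl⟩
      have hva := h2 _ hmem
      calc (g * k)⁻¹ * a * (g * k) = k⁻¹ * (g⁻¹ * a * g) * k := by group
        _ = v⁻¹ * (g⁻¹ * a * g) * v := hva
        _ = v⁻¹ * (u⁻¹ * a * u) * v := by rw [h1 a ha]
        _ = (u * v)⁻¹ * a * (u * v) := by group)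
    (by
      rintro A g ⟨u, hu, h1⟩
      refine ⟨u⁻¹, Subgroup.inv_mem _ hu, ?_⟩
      rintro _ ⟨a, ha, rfl⟩
      show g⁻¹⁻¹ * (g⁻¹ * a * g) * g⁻¹ = u⁻¹⁻¹ * (g⁻¹ * a * g) * u⁻¹
      have e1 : g⁻¹⁻¹ * (g⁻¹ * a * g) * g⁻¹ = a := by group
      have e2 : u⁻¹⁻¹ * (g⁻¹ * a * g) * u⁻¹ = a := by rw [h1 a ha]; group
      rw [e1, e2])
    (by
      intro T c _ hc
      refine ⟨1, Subgroup.one_mem _, fun a ha => ?_⟩
      have h1 : a * c = c * a := (Subgroup.mem_centralizer_iff.mp hc) a ha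
      calc c⁻¹ * a * c = c⁻¹ * (a * c) := by group
        _ = c⁻¹ * (c * a) := by rw [h1]
        _ = (1 : G)⁻¹ * a * 1 := by group)
    (by
      intro T hT hrad x hx
      by_cases hc : D ⊓ Subgroup.centralizer ((T ⊓ D : Subgroup G) : Set G) ≤ T ⊓ D
      · exact good_of_npc S hT (normalizer_le_normalizer_inf hD hT.1)
          (h (T ⊓ D) inf_le_right hc) x hx
      · exfalso
        obtain ⟨d, hdM, hdS, hdT⟩ := exists_not_radical S.2 hD hT.1 hc
        have hQp : IsPGroup p (T ⊓ D : Subgroup G) := S.2.to_le (inf_le_left.trans hT.1)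
        obtain ⟨j, hj⟩ := IsPGroup.iff_card.mp hQp
        have := hrad (stab T (T ⊓ D)) (stab_le_normalizer _ _)
          (normalizer_le_normalizer_stab (normalizer_le_normalizer_inf hD hT.1))
          (fun y hy => ⟨j, pow_mem_centralizer_of_mem_stab hy _ (fun q hq => by
            have h1 : (⟨q, hq⟩ : (T ⊓ D : Subgroup G)) ^ Nat.card (T ⊓ D : Subgroup G) = 1 :=
              pow_card_eq_one'
            rw [hj] at h1
            exact congrArg Subtype.val h1)⟩)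
        exact hdT (this ⟨hdM, hdS⟩))
  intro Q₀ hQ₀ y hy hyp
  obtain ⟨k, hk⟩ := exists_map_conj_le_sylow S hQ₀
  set Q := Q₀.map (MulAut.conj k).toMonoidHom with hQdef
  set y' := k * y * k⁻¹ with hy'def
  have hy'N : y' ∈ Subgroup.normalizer (Q : Set G) := conj_mem_normalizer_map_conj k hy
  have hg : Q.map (MulAut.conj y'⁻¹).toMonoidHom ≤ (S : Subgroup G) := by
    rw [mem_normalizer_iff_map_conj.mp (Subgroup.inv_mem _ hy'N)]
    exact hk
  obtain ⟨u, hu, hua⟩ := key Q hk y' hg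
  have hy'ord : orderOf y' = orderOf y := by
    have hsc : SemiconjBy k y y' := by
      rw [hy'def]; unfold SemiconjBy; group
    exact (hsc.orderOf_eq).symm
  have hpowers : ∀ n : ℕ, ∀ a ∈ Q, (y' ^ n)⁻¹ * a * y' ^ n = (u ^ n)⁻¹ * a * u ^ n := by
    intro n
    induction n with
    | zero => intro a _; simp
    | succ n ih =>
      intro a ha
      have ha' : y'⁻¹ * a * y' ∈ Q := by
        have := (Subgroup.mem_normalizer_iff.mp (Subgroup.inv_mem _ hy'N) a).mp ha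
        rwa [inv_inv] at this
      calc (y' ^ (n + 1))⁻¹ * a * y' ^ (n + 1) = (y' ^ n)⁻¹ * (y'⁻¹ * a * y') * y' ^ n := by
            rw [pow_succ']; group
        _ = (u ^ n)⁻¹ * (y'⁻¹ * a * y') * u ^ n := ih _ ha'
        _ = (u ^ n)⁻¹ * (u⁻¹ * a * u) * u ^ n := by rw [hua a ha]
        _ = (u ^ (n + 1))⁻¹ * a * u ^ (n + 1) := by rw [pow_succ']; group
  obtain ⟨e, he⟩ := IsPGroup.iff_card.mp S.2
  have hue : u ^ (p ^ e) = 1 := by
    have h1 : (⟨u, hu⟩ : (S : Subgroup G)) ^ Nat.card (S : Subgroup G) = 1 := pow_card_eq_one'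
    rw [he] at h1
    exact congrArg Subtype.val h1
  have hcentpow : y' ^ (p ^ e) ∈ Subgroup.centralizer (Q : Set G) := by
    rw [Subgroup.mem_centralizer_iff]
    intro a ha
    have h1 := hpowers (p ^ e) a ha
    rw [hue] at h1
    have h2 : (y' ^ p ^ e)⁻¹ * a * y' ^ p ^ e = a := by rw [h1]; group
    calc a * y' ^ p ^ e = y' ^ p ^ e * ((y' ^ p ^ e)⁻¹ * a * y' ^ p ^ e) := by group
      _ = y' ^ p ^ e * a := by rw [h2]
  have hcop : (p ^ e).Coprime (orderOf y') := by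
    rw [hy'ord]
    exact (Nat.Coprime.pow_right e hyp).symm
  obtain ⟨m, hm⟩ := exists_pow_eq_self_of_coprime hcop
  have hy'C : y' ∈ Subgroup.centralizer (Q : Set G) := by
    rw [← hm]
    exact Subgroup.pow_mem _ hcentpow m
  rw [Subgroup.mem_centralizer_iff] at hy'C ⊢
  intro q hq
  have hq' : k * q * k⁻¹ ∈ Q := conj_mem_map_conj hq
  have h1 := hy'C _ hq'
  rw [hy'def] at h1
  have h2 : k * (q * y) * k⁻¹ = k * (y * q) * k⁻¹ := by
    calc k * (q * y) * k⁻¹ = k * q * k⁻¹ * (k * y * k⁻¹) := by group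
      _ = k * y * k⁻¹ * (k * q * k⁻¹) := h1
      _ = k * (y * q) * k⁻¹ := by group
  exact mul_left_cancel (mul_right_cancel h2)

/-- A Frobenius normal p-complement criterion relative to a strongly closed subgroup. Let G be a finite group, S a Sylow p-subgroup and D a subgroup of S strongly closed in S with respect to G. Then G has a normal p-complement if and only if N_G(U) has a normal p-complement for every subgroup U of D with C_D(U) ≤ U. -/
theorem result {G : Type*} [Group G] [Finite G] {p : ℕ} [Fact p.Prime] (S : Sylow p G) (D : Subgroup G) (hD : Cfsg.IsStronglyClosed D (S : Subgroup G)) : Cfsg.HasNormalPComplement p G ↔ ∀ U : Subgroup G, U ≤ D → D ⊓ Subgroup.centralizer (U : Set G) ≤ U → Cfsg.HasNormalPComplement p ↥(Subgroup.normalizer (U : Set G)) := by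
  constructor
  · intro hG U _ _
    exact Cfsg.Agent.Lib.L0.HasNormalPComplement.subgroup hG _
  · intro h
    exact hasNormalPComplement_of_frobHyp (frobHyp_of_hyp S D hD h)

end Cfsg.Agent.S3839
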