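import Mathlib
import Cfsg.Prelude.Def_Solvable
import Cfsg.Agent.S4155
import Cfsg.Agent.S3995
import Cfsg.Agent.Lib.H20.FrobGiven
import Cfsg.Agent.Lib.H8.FrobFpf
import Cfsg.Agent.Lib.H8.Nilpotent

set_option autoImplicit false
open Cfsg

namespace Cfsg.Agent.S4001

open Cfsg.Agent.Lib.H20 Cfsg.Agent.S4155

variable {G : Type*} [Group G] [Finite G] (H K : Subgroup G) [hHn : H.Normal] [hKn : K.Normal]

/-- the natural map `K → G/H` -/
def f : ↥K →* G ⧸ H := (QuotientGroup.mk' H).comp K.subtype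

theorem f_apply (k : K) : f H K k = ((k : G) : G ⧸ H) := rfl

theorem f_eq_one_iff (k : K) : f H K k = 1 ↔ k ∈ H.subgroupOf K := by
  rw [f_apply, QuotientGroup.eq_one_iff, Subgroup.mem_subgroupOf]

theorem mem_Kb_iff (x : G ⧸ H) : x ∈ K.map (QuotientGroup.mk' H) ↔ ∃ k : K, f H K k = x := by
  constructor
  · rintro ⟨k, hk, rfl⟩; exact ⟨⟨k, hk⟩, rfl⟩
  · rintro ⟨k, rfl⟩; exact ⟨k, k.2, rfl⟩

theorem card_Kb :
    Nat.card (K.map (QuotientGroup.mk' H)) = Nat.card (↥K ⧸ H.subgroupOf K) := by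
  have hker : (f H K).ker = H.subgroupOf K := by
    ext k; rw [MonoidHom.mem_ker, f_eq_one_iff]
  have hrange : (f H K).range = K.map (QuotientGroup.mk' H) := by
    ext x; rw [MonoidHom.mem_range, mem_Kb_iff]
  rw [← hrange]
  have e1 := QuotientGroup.quotientKerEquivRange (f H K)
  have e2 := QuotientGroup.quotientMulEquivOfEq hker
  exact (Nat.card_congr (e2.symm.trans e1).toEquiv).symm

/-- the natural map `G/H → G/K` -/
def ψ (hle : H ≤ K) : G ⧸ H →* G ⧸ K :=
  QuotientGroup.lift H (QuotientGroup.mk' K) (fun h hh => by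
    rw [MonoidHom.mem_ker]; exact (QuotientGroup.eq_one_iff h).2 (hle hh))

theorem ψ_mk (hle : H ≤ K) (g : G) : ψ H K hle (g : G ⧸ H) = (g : G ⧸ K) := rfl

theorem ψ_eq_one_iff (hle : H ≤ K) (x : G ⧸ H) :
    ψ H K hle x = 1 ↔ x ∈ K.map (QuotientGroup.mk' H) := by
  obtain ⟨g, rfl⟩ := QuotientGroup.mk_surjective x
  rw [ψ_mk, QuotientGroup.eq_one_iff]
  constructor
  · intro hg; exact ⟨g, hg, rfl⟩
  · rintro ⟨k, hk, hkg⟩
    have h1 : k⁻¹ * g ∈ H := QuotientGroup.eq.mp hkg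
    have : g = k * (k⁻¹ * g) := by group
    rw [this]
    exact K.mul_mem hk (hle h1)

theorem ψ_surjective (hle : H ≤ K) : Function.Surjective (ψ H K hle) := by
  intro x
  obtain ⟨g, rfl⟩ := QuotientGroup.mk_surjective x
  exact ⟨(g : G ⧸ H), rfl⟩


section Frob

variable {H K}
variable {C : Subgroup K} (hC : IsFrobeniusComplement C)
  (hCN : frobeniusKernel C = (H.subgroupOf K : Set K))
  {D : Subgroup (G ⧸ H)} (hD : IsFrobeniusComplement D)
  (hDN : frobeniusKernel D = (K.map (QuotientGroup.mk' H) : Set (G ⧸ H)))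

include hC hCN in
theorem f_injOn : ∀ c ∈ C, ∀ c' ∈ C, f H K c = f H K c' → c = c' := by
  intro c hc c' hc' h
  have h1 : c⁻¹ * c' ∈ H.subgroupOf K := by
    rw [← f_eq_one_iff, map_mul, map_inv, h, inv_mul_cancel]
  have h2 : c⁻¹ * c' ∈ H.subgroupOf K ⊓ C := ⟨h1, C.mul_mem (C.inv_mem hc) hc'⟩
  rw [FG.inf hC hCN, Subgroup.mem_bot] at h2
  exact (inv_mul_eq_one.mp h2)

include hC hCN in
theorem f_surjOn : ∀ x ∈ K.map (QuotientGroup.mk' H), ∃ c ∈ C, f H K c = x := by
  intro x hx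
  obtain ⟨k, rfl⟩ := (mem_Kb_iff H K x).mp hx
  obtain ⟨n, hn, s, hs, rfl⟩ := FG.exists_mul hC hCN k
  refine ⟨s, hs, ?_⟩
  rw [map_mul, (f_eq_one_iff H K n).mpr hn, one_mul]

include hC hCN in
/-- abelian subgroups of `K/H` are cyclic -/
theorem cyclic_of_comm_le_Kb (A' : Subgroup (G ⧸ H)) (hA'K : A' ≤ K.map (QuotientGroup.mk' H))
    (hA' : ∀ a ∈ A', ∀ b ∈ A', a * b = b * a) : IsCyclic A' := by
  let A : Subgroup K := A'.comap (f H K) ⊓ C
  have hAC : A ≤ C := inf_le_right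
  have hAcomm : ∀ a ∈ A, ∀ b ∈ A, a * b = b * a := by
    intro a ha b hb
    apply f_injOn hC hCN _ (C.mul_mem ha.2 hb.2) _ (C.mul_mem hb.2 ha.2)
    rw [map_mul, map_mul]
    exact hA' _ ha.1 _ hb.1
  haveI := FG.isCyclic_of_comm hC hCN A hAC hAcomm
  let φ : A →* A' := ((f H K).comp A.subtype).codRestrict A' (fun a => a.2.1)
  apply isCyclic_of_surjective φ
  rintro ⟨x, hx⟩
  obtain ⟨c, hc, rfl⟩ := f_surjOn hC hCN x (hA'K hx)
  exact ⟨⟨c, ⟨hx, hc⟩⟩, rfl⟩

include hC hCN in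
theorem card_C : Nat.card C = Nat.card (↥K ⧸ H.subgroupOf K) := by
  have h1 := FG.card_mul hC hCN
  have h2 := Subgroup.card_eq_card_quotient_mul_card_subgroup (H.subgroupOf K)
  rw [h2, mul_comm] at h1
  exact Nat.eq_of_mul_eq_mul_right Nat.card_pos h1

include hC hCN hD hDN in
/-- a generator of `Ω₁(O_r(Z(K/H)))`, on which `G/H` acts by powers -/
theorem exists_gen (r : ℕ) [hr : Fact r.Prime] (hrd : r ∣ Nat.card (K.map (QuotientGroup.mk' H))) :
    ∃ g : G ⧸ H, g ∈ K.map (QuotientGroup.mk' H) ∧ g ≠ 1 ∧ g ^ r = 1 ∧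
      ∀ d : G ⧸ H, ∃ i : ℤ, d * g * d⁻¹ = g ^ i := by
  haveI : (K.map (QuotientGroup.mk' H)).Normal := FG.normal hD hDN
  have hnil := FG.nilpotent hD hDN
  set Z := omegaZ (K.map (QuotientGroup.mk' H)) r with hZ
  have hZ1 : Z ≠ ⊥ := omegaZ_ne_bot _ hnil r hrd
  haveI hZc : IsCyclic Z := by
    apply cyclic_of_comm_le_Kb hC hCN Z
    · intro z hz; exact (mem_omegaZ.mp hz).1
    · intro a ha b hb
      exact congrArg Subtype.val (omegaZ_comm _ r ⟨a, ha⟩ ⟨b, hb⟩)
  obtain ⟨g, hg⟩ := IsCyclic.exists_generator (α := Z)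
  refine ⟨(g : G ⧸ H), (mem_omegaZ.mp g.2).1, ?_, (mem_omegaZ.mp g.2).2.2, ?_⟩
  · intro h1
    apply hZ1
    rw [Subgroup.eq_bot_iff_forall]
    intro z hz
    have := hg ⟨z, hz⟩
    obtain ⟨i, hi⟩ := Subgroup.mem_zpowers_iff.mp this
    have h2 := congrArg Subtype.val hi
    rw [Subgroup.coe_zpow, h1, one_zpow] at h2
    exact h2.symm
  · intro d
    have hmem : d * (g : G ⧸ H) * d⁻¹ ∈ Z := (omegaZ_normal _ r).conj_mem _ g.2 d
    obtain ⟨i, hi⟩ := Subgroup.mem_zpowers_iff.mp (hg ⟨_, hmem⟩)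
    refine ⟨i, ?_⟩
    have h2 := congrArg Subtype.val hi
    rw [Subgroup.coe_zpow] at h2
    exact h2.symm


include hD hDN in
theorem Kb_inf_D {x : G ⧸ H} (hx : x ∈ K.map (QuotientGroup.mk' H)) (hxD : x ∈ D) : x = 1 := by
  have : x ∈ K.map (QuotientGroup.mk' H) ⊓ D := ⟨hx, hxD⟩
  rw [FG.inf hD hDN, Subgroup.mem_bot] at this
  exact this

include hC hCN hD hDN in
theorem odd_card : ¬ 2 ∣ Nat.card (K.map (QuotientGroup.mk' H)) := by
  intro h2
  haveI : Fact (Nat.Prime 2) := ⟨Nat.prime_two⟩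
  obtain ⟨g, hgK, hg1, hg2, hgact⟩ := exists_gen hC hCN hD hDN 2 h2
  obtain ⟨d, hd, hd1⟩ : ∃ d ∈ D, d ≠ 1 := by
    have := hD.1
    rw [Ne, Subgroup.eq_bot_iff_forall] at this
    push Not at this
    exact this
  obtain ⟨i, hi⟩ := hgact d
  have ho : orderOf g = 2 := orderOf_eq_prime hg2 hg1
  have hgi : g ^ i = 1 ∨ g ^ i = g := by
    rw [← zpow_mod_orderOf, ho]
    rcases Int.emod_two_eq_zero_or_one i with h | h
    · left; rw [show ((2 : ℕ) : ℤ) = 2 from rfl, h, zpow_zero]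
    · right; rw [show ((2 : ℕ) : ℤ) = 2 from rfl, h, zpow_one]
  rcases hgi with h | h
  · rw [h] at hi
    apply hg1
    have : g = d⁻¹ * (d * g * d⁻¹) * d := by group
    rw [this, hi]; group
  · rw [h] at hi
    have hcomm : d * g = g * d := by
      calc d * g = (d * g * d⁻¹) * d := by group
        _ = g * d := by rw [hi]
    exact hg1 (FG.fpf hD hDN d hd hd1 g hgK hcomm)

include hC hCN hD hDN in
theorem D_comm (hlt : H < K) : ∀ a ∈ D, ∀ b ∈ D, a * b = b * a := by
  have hKb1 : Nat.card (K.map (QuotientGroup.mk' H)) ≠ 1 := by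
    intro h1
    exact FG.ne_bot hD hDN (Subgroup.card_eq_one.mp h1)
  obtain ⟨r, hr, hrd⟩ := Nat.exists_prime_and_dvd hKb1
  haveI : Fact r.Prime := ⟨hr⟩
  obtain ⟨g, hgK, hg1, -, hgact⟩ := exists_gen hC hCN hD hDN r hrd
  intro a ha b hb
  obtain ⟨i, hi⟩ := hgact a
  obtain ⟨j, hj⟩ := hgact b
  have h1 : (a * b) * g * (a * b)⁻¹ = g ^ (i * j) := by
    calc (a * b) * g * (a * b)⁻¹ = a * (b * g * b⁻¹) * a⁻¹ := by group
      _ = a * g ^ j * a⁻¹ := by rw [hj]
      _ = (a * g * a⁻¹) ^ j := by rw [conj_zpow]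
      _ = g ^ (i * j) := by rw [hi, zpow_mul]
  have h2 : (b * a) * g * (b * a)⁻¹ = g ^ (i * j) := by
    calc (b * a) * g * (b * a)⁻¹ = b * (a * g * a⁻¹) * b⁻¹ := by group
      _ = b * g ^ i * b⁻¹ := by rw [hi]
      _ = (b * g * b⁻¹) ^ i := by rw [conj_zpow]
      _ = g ^ (i * j) := by rw [hj, mul_comm i j, zpow_mul]
  set w := (b * a)⁻¹ * (a * b) with hw
  have hwD : w ∈ D := D.mul_mem (D.inv_mem (D.mul_mem hb ha)) (D.mul_mem ha hb)
  have hcomm : w * g = g * w := by
    have h3 : (a * b) * g * (a * b)⁻¹ = (b * a) * g * (b * a)⁻¹ := h1.trans h2.symm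
    calc w * g = (b * a)⁻¹ * ((a * b) * g * (a * b)⁻¹) * (a * b) := by rw [hw]; group
      _ = (b * a)⁻¹ * ((b * a) * g * (b * a)⁻¹) * (a * b) := by rw [h3]
      _ = g * w := by rw [hw]; group
  have hw1 : w = 1 := by
    by_contra hne
    exact hg1 (FG.fpf hD hDN w hwD hne g hgK hcomm)
  rw [hw] at hw1
  have := inv_mul_eq_one.mp hw1
  exact this.symm

include hC hCN hD hDN in
theorem D_cyclic (hlt : H < K) : IsCyclic D :=
  FG.isCyclic_of_comm hD hDN D le_rfl (D_comm hC hCN hD hDN hlt)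

include hD hDN in
theorem ψ_D_bijective (hle : H ≤ K) :
    Function.Bijective ((ψ H K hle).comp D.subtype) := by
  constructor
  · intro a b hab
    have h1 : ψ H K hle ((a : G ⧸ H)⁻¹ * (b : G ⧸ H)) = 1 := by
      rw [map_mul, map_inv]
      have : ψ H K hle (a : G ⧸ H) = ψ H K hle (b : G ⧸ H) := hab
      rw [this, inv_mul_cancel]
    rw [ψ_eq_one_iff] at h1
    have h2 := Kb_inf_D hD hDN h1 (D.mul_mem (D.inv_mem a.2) b.2)
    exact Subtype.ext (inv_mul_eq_one.mp h2)
  · intro x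
    obtain ⟨y, rfl⟩ := ψ_surjective H K hle x
    obtain ⟨k, hk, s, hs, rfl⟩ := FG.exists_mul hD hDN y
    refine ⟨⟨s, hs⟩, ?_⟩
    show ψ H K hle s = _
    rw [map_mul, (ψ_eq_one_iff H K hle k).mpr hk, one_mul]

include hD hDN in
theorem card_D (hle : H ≤ K) : Nat.card D = Nat.card (G ⧸ K) :=
  Nat.card_eq_of_bijective _ (ψ_D_bijective hD hDN hle)

include hC hCN hD hDN in
theorem quot_cyclic (hlt : H < K) : IsCyclic (G ⧸ K) := by
  haveI := D_cyclic hC hCN hD hDN hlt
  exact isCyclic_of_surjective _ (ψ_D_bijective hD hDN hlt.le).2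


include hC hCN in
theorem H_nilpotent (hle : H ≤ K) : Group.IsNilpotent H := by
  haveI := FG.nilpotent hC hCN
  exact Group.nilpotent_of_mulEquiv (Subgroup.subgroupOfEquivOfLe hle)

include hC hCN hD hDN in
theorem solvable (hlt : H < K) : Group.IsSolvable G := by
  haveI := H_nilpotent hC hCN hlt.le
  haveI := FG.nilpotent hD hDN
  haveI := quot_cyclic hC hCN hD hDN hlt
  haveI : Group.IsSolvable (G ⧸ K) := by
    obtain ⟨g, hg⟩ := IsCyclic.exists_generator (α := G ⧸ K)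
    apply isSolvable_of_comm
    intro a b
    obtain ⟨i, rfl⟩ := Subgroup.mem_zpowers_iff.mp (hg a)
    obtain ⟨j, rfl⟩ := Subgroup.mem_zpowers_iff.mp (hg b)
    rw [← zpow_add, ← zpow_add, add_comm]
  haveI : Group.IsSolvable (G ⧸ H) := by
    apply solvable_of_ker_le_range (K.map (QuotientGroup.mk' H)).subtype (ψ H K hlt.le)
    intro x hx
    rw [MonoidHom.mem_ker, ψ_eq_one_iff] at hx
    rw [Subgroup.range_subtype]
    exact hx
  apply solvable_of_ker_le_range H.subtype (QuotientGroup.mk' H)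
  rw [QuotientGroup.ker_mk', Subgroup.range_subtype]

include hC hCN hD hDN in
theorem coprime_card (hle : H ≤ K) :
    Nat.Coprime (Nat.card (↥K ⧸ H.subgroupOf K)) (Nat.card ↥H * Nat.card (G ⧸ K)) := by
  apply Nat.Coprime.mul_right
  · have h1 := FG.coprime hC hCN
    rw [card_C hC hCN, Nat.card_congr (Subgroup.subgroupOfEquivOfLe hle).toEquiv] at h1
    exact h1.symm
  · have h1 := FG.coprime hD hDN
    rw [card_D hD hDN hle, card_Kb] at h1
    exact h1

theorem card_G (hle : H ≤ K) :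
    Nat.card G = Nat.card H * Nat.card (↥K ⧸ H.subgroupOf K) * Nat.card (G ⧸ K) := by
  rw [Subgroup.card_eq_card_quotient_mul_card_subgroup K,
    Subgroup.card_eq_card_quotient_mul_card_subgroup (H.subgroupOf K),
    Nat.card_congr (Subgroup.subgroupOfEquivOfLe hle).toEquiv]
  ring


omit [Finite G] hKn in
theorem exists_orderOf_of_quotient [Finite G] (N : Subgroup G) [N.Normal] {n : ℕ} (hn : n ≠ 0)
    (x : G ⧸ N) (hx : orderOf x = n) : ∃ g : G, orderOf g = n := by
  obtain ⟨g, rfl⟩ := QuotientGroup.mk_surjective x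
  apply Cfsg.Agent.S3995.exists_orderOf_eq_of_dvd hn g
  rw [← hx]
  exact orderOf_map_dvd (QuotientGroup.mk' N) g

theorem exists_pq_of_nilpotent (N : Type*) [Group N] [Finite N] [Group.IsNilpotent N] {p q : ℕ}
    (hp : p.Prime) (hq : q.Prime) (hpq : p ≠ q) (hpd : p ∣ Nat.card N) (hqd : q ∣ Nat.card N) :
    ∃ x : N, orderOf x = p * q := by
  haveI := Fact.mk hp
  haveI := Fact.mk hq
  obtain ⟨x, hx⟩ := exists_prime_orderOf_dvd_card' p hpd
  obtain ⟨y, hy⟩ := exists_prime_orderOf_dvd_card' q hqd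
  have hcop : (orderOf x).Coprime (orderOf y) := by
    rw [hx, hy]; exact (Nat.coprime_primes hp hq).mpr hpq
  have hcomm := Cfsg.Agent.Lib.H8.commute_of_coprime_orderOf N x y hcop
  exact ⟨x * y, by rw [hcomm.orderOf_mul_eq_mul_orderOf_of_coprime hcop, hx, hy]⟩

include hC hCN hD hDN in
theorem exists_pq_mixed (hlt : H < K) {p q : ℕ} (hp : p.Prime) (hq : q.Prime) (hpq : p ≠ q)
    (hpd : p ∣ Nat.card H) (hqd : q ∣ Nat.card (G ⧸ K)) : ∃ g : G, orderOf g = p * q := by
  haveI := Fact.mk hp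
  haveI := Fact.mk hq
  have hnil := H_nilpotent hC hCN hlt.le
  have hV1 : omegaZ H p ≠ ⊥ := omegaZ_ne_bot H hnil p hpd
  rw [← card_D hD hDN hlt.le] at hqd
  obtain ⟨y, hy⟩ := exists_prime_orderOf_dvd_card' q hqd
  have hyo : orderOf (y : G ⧸ H) = q := by rw [Subgroup.orderOf_coe]; exact hy
  -- key: y has a nontrivial fixed point
  have hfix : ∃ a : omegaZ H p, act H p (y : G ⧸ H) a = a ∧ a ≠ 1 := by
    by_contra hcon
    push Not at hcon
    letI : CommGroup (omegaZ H p) :=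
      { (inferInstance : Group (omegaZ H p)) with mul_comm := omegaZ_comm H p }
    have key := Cfsg.Agent.Lib.H8.pow_card_eq_one_of_fpf_aux (A := omegaZ H p) (act H p)
      (K.map (QuotientGroup.mk' H))
      (FG.ne_bot hD hDN) (y : G ⧸ H) q hq.pos (by rw [← hyo]; exact pow_orderOf_eq_one _)
      (fun m hm => (FG.normal hD hDN).conj_mem m hm _) ?_ hcon ?_
    · obtain ⟨a, ha⟩ : ∃ a : omegaZ H p, a ≠ 1 := by
        by_contra hall
        push Not at hall
        apply hV1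
        rw [Subgroup.eq_bot_iff_forall]
        intro v hv
        exact congrArg Subtype.val (hall ⟨v, hv⟩)
      apply ha
      have h1 := key a
      have h2 : a ^ p = 1 :=
        Subtype.ext (by rw [Subgroup.coe_pow]; exact (mem_omegaZ.mp a.2).2.2)
      have hcop : Nat.Coprime (Nat.card (K.map (QuotientGroup.mk' H))) p := by
        rw [card_Kb]
        exact Nat.Coprime.coprime_dvd_right (Dvd.dvd.mul_right hpd _)
          (coprime_card hC hCN hD hDN hlt.le)
      have h3 : orderOf a = 1 :=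
        Nat.eq_one_of_dvd_coprimes hcop (orderOf_dvd_of_pow_eq_one h1)
          (orderOf_dvd_of_pow_eq_one h2)
      exact orderOf_eq_one_iff.mp h3
    · intro m hm hm1 a hfixa
      obtain ⟨k, rfl⟩ := (mem_Kb_iff H K m).mp hm
      have h1 : (k : G) * (a : G) * (k : G)⁻¹ = a := by
        have := act_mk H p (k : G) a
        rw [← this]
        exact congrArg Subtype.val hfixa
      by_contra ha1
      have haH : (a : G) ∈ H := (mem_omegaZ.mp a.2).1
      have haK : (a : G) ∈ K := hlt.le haH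
      have hmem : k ∈ H.subgroupOf K := by
        apply FG.mem_of_commute hC hCN (n := ⟨a, haK⟩) (g := k)
        · rw [Subgroup.mem_subgroupOf]; exact haH
        · intro h
          apply ha1
          have h' : ((⟨(a : G), haK⟩ : K) : G) = ((1 : K) : G) := congrArg Subtype.val h
          exact Subtype.ext h'
        · apply Subtype.ext
          show (k : G) * (a : G) = (a : G) * (k : G)
          calc (k : G) * (a : G) = ((k : G) * (a : G) * (k : G)⁻¹) * (k : G) := by group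
            _ = (a : G) * (k : G) := by rw [h1]
      exact hm1 ((f_eq_one_iff H K k).mpr hmem)
    · intro i hi0 hiq m hm hcomm
      have hyi1 : (y : G ⧸ H) ^ i ≠ 1 := by
        intro h
        have := orderOf_dvd_of_pow_eq_one h
        rw [hyo] at this
        exact absurd (Nat.le_of_dvd hi0 this) (not_le.mpr hiq)
      exact FG.fpf hD hDN _ (D.pow_mem y.2 i) hyi1 m hm hcomm
  obtain ⟨a, hfa, ha1⟩ := hfix
  obtain ⟨g, hg⟩ := QuotientGroup.mk_surjective (y : G ⧸ H)
  have hga : g * (a : G) * g⁻¹ = a := by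
    have := act_mk H p g a
    rw [← this, hg]
    exact congrArg Subtype.val hfa
  have hao : orderOf (a : G) = p :=
    orderOf_eq_prime (mem_omegaZ.mp a.2).2.2 (fun h => ha1 (Subtype.ext h))
  have hqg : q ∣ orderOf g := by
    rw [← hyo, ← hg]; exact orderOf_map_dvd (QuotientGroup.mk' H) g
  have hgpos := orderOf_pos g
  have hdd : orderOf g / q ∣ orderOf g := Nat.div_dvd_of_dvd hqg
  have hne : orderOf g / q ≠ 0 := by
    intro h0
    have := Nat.div_mul_cancel hqg
    rw [h0, zero_mul] at this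
    omega
  have hg'o : orderOf (g ^ (orderOf g / q)) = q := by
    rw [orderOf_pow_of_dvd hne hdd, Nat.div_div_self hqg hgpos.ne']
  have hcomm0 : Commute g (a : G) := by
    show g * (a : G) = (a : G) * g
    calc g * (a : G) = (g * (a : G) * g⁻¹) * g := by group
      _ = (a : G) * g := by rw [hga]
  have hcomm : Commute (a : G) (g ^ (orderOf g / q)) := (hcomm0.pow_left _).symm
  have hcop : (orderOf (a : G)).Coprime (orderOf (g ^ (orderOf g / q))) := by
    rw [hao, hg'o]; exact (Nat.coprime_primes hp hq).mpr hpq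
  exact ⟨(a : G) * g ^ (orderOf g / q), by
    rw [hcomm.orderOf_mul_eq_mul_orderOf_of_coprime hcop, hao, hg'o]⟩


include hC hCN hD hDN in
theorem no_mixed (hlt : H < K) {p q : ℕ} (hp : p.Prime) (hq : q.Prime)
    (hpm : p ∣ Nat.card (↥K ⧸ H.subgroupOf K)) (hqm : ¬ q ∣ Nat.card (↥K ⧸ H.subgroupOf K))
    (g : G) (hg : orderOf g = p * q) : False := by
  have hcop := coprime_card hC hCN hD hDN hlt.le
  have hpH : ¬ p ∣ Nat.card H := by
    intro h
    have := Nat.eq_one_of_dvd_coprimes hcop hpm (Dvd.dvd.mul_right h _)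
    exact hp.one_lt.ne' this
  have hpQ : ¬ p ∣ Nat.card (G ⧸ K) := by
    intro h
    have := Nat.eq_one_of_dvd_coprimes hcop hpm (Dvd.dvd.mul_left h _)
    exact hp.one_lt.ne' this
  have hxo : orderOf (g ^ q) = p := by
    rw [orderOf_pow_of_dvd hq.ne_zero (by rw [hg]; exact dvd_mul_left q p), hg,
      Nat.mul_div_cancel _ hq.pos]
  have hyo : orderOf (g ^ p) = q := by
    rw [orderOf_pow_of_dvd hp.ne_zero (by rw [hg]; exact dvd_mul_right p q), hg,
      Nat.mul_div_cancel_left _ hp.pos]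
  set x := g ^ q with hx
  set y := g ^ p with hy
  have hxy : y * x = x * y := by
    rw [hx, hy, ← pow_add, ← pow_add, add_comm]
  -- `x ∈ K`
  have hxK : x ∈ K := by
    rw [← QuotientGroup.eq_one_iff (N := K), ← orderOf_eq_one_iff]
    have h1 : orderOf (x : G ⧸ K) ∣ p := by
      rw [← hxo]; exact orderOf_map_dvd (QuotientGroup.mk' K) x
    rcases (Nat.dvd_prime hp).mp h1 with h | h
    · exact h
    · exfalso
      apply hpQ
      rw [← h]
      exact orderOf_dvd_natCard _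
  have hxH : x ∉ H := by
    intro h
    apply hpH
    have : orderOf (⟨x, h⟩ : H) = p := by
      rw [← hxo]; exact (Subgroup.orderOf_mk x h)
    rw [← this]
    exact orderOf_dvd_natCard _
  have hxb : (x : G ⧸ H) ∈ K.map (QuotientGroup.mk' H) := ⟨x, hxK, rfl⟩
  have hxb1 : (x : G ⧸ H) ≠ 1 := by
    intro h; exact hxH ((QuotientGroup.eq_one_iff x).mp h)
  have hcommb : (y : G ⧸ H) * (x : G ⧸ H) = (x : G ⧸ H) * (y : G ⧸ H) := by
    rw [← QuotientGroup.mk_mul, ← QuotientGroup.mk_mul, hxy]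
  have hyb : (y : G ⧸ H) ∈ K.map (QuotientGroup.mk' H) :=
    FG.mem_of_commute hD hDN hxb hxb1 hcommb
  have hyH : y ∈ H := by
    rw [← QuotientGroup.eq_one_iff (N := H), ← orderOf_eq_one_iff]
    have h1 : orderOf (y : G ⧸ H) ∣ q := by
      rw [← hyo]; exact orderOf_map_dvd (QuotientGroup.mk' H) y
    rcases (Nat.dvd_prime hq).mp h1 with h | h
    · exact h
    · exfalso
      apply hqm
      rw [← card_Kb, ← h]
      have : orderOf (⟨(y : G ⧸ H), hyb⟩ : K.map (QuotientGroup.mk' H)) = orderOf (y : G ⧸ H) :=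
        Subgroup.orderOf_mk _ hyb
      rw [← this]
      exact orderOf_dvd_natCard _
  have hy1 : y ≠ 1 := by
    intro h
    rw [h, orderOf_one] at hyo
    exact hq.one_lt.ne hyo
  have hmem : (⟨x, hxK⟩ : K) ∈ H.subgroupOf K := by
    apply FG.mem_of_commute hC hCN (n := ⟨y, hlt.le hyH⟩) (g := ⟨x, hxK⟩)
    · rw [Subgroup.mem_subgroupOf]; exact hyH
    · intro h
      apply hy1
      have h' : ((⟨y, hlt.le hyH⟩ : K) : G) = ((1 : K) : G) := congrArg Subtype.val h
      exact h'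
    · apply Subtype.ext
      show x * y = y * x
      exact hxy.symm
  rw [Subgroup.mem_subgroupOf] at hmem
  exact hxH hmem

end Frob

/-- Let G be a 2-Frobenius group: it has normal subgroups H < K with K a Frobenius group with kernel H and G/H a Frobenius group with kernel K/H. Then G is solvable; K/H has odd order coprime to the order of H and to the order of G/K (it is the image of an odd-order Hall subgroup); G/K is cyclic; and the prime graph of G has exactly two connected components, both complete: for distinct primes p, q dividing the order of G, G has an element of order pq exactly when p and q either both divide the order of K/H or both do not. -/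
theorem result {G : Type*} [Group G] [Finite G] (H K : Subgroup G) [H.Normal] [K.Normal] (hlt : H < K)
    (hK : ∃ C : Subgroup ↥K, Cfsg.IsFrobeniusComplement C ∧ Cfsg.frobeniusKernel C = (H.subgroupOf K : Set ↥K))
    (hGH : ∃ C : Subgroup (G ⧸ H), Cfsg.IsFrobeniusComplement C ∧ Cfsg.frobeniusKernel C = (K.map (QuotientGroup.mk' H) : Set (G ⧸ H))) :
    Group.IsSolvable G ∧ Odd (Nat.card (↥K ⧸ H.subgroupOf K)) ∧
      Nat.Coprime (Nat.card (↥K ⧸ H.subgroupOf K)) (Nat.card ↥H * Nat.card (G ⧸ K)) ∧ IsCyclic (G ⧸ K) ∧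
      ∀ p q : ℕ, p.Prime → q.Prime → p ≠ q → p ∣ Nat.card G → q ∣ Nat.card G →
        ((∃ g : G, orderOf g = p * q) ↔ (p ∣ Nat.card (↥K ⧸ H.subgroupOf K) ↔ q ∣ Nat.card (↥K ⧸ H.subgroupOf K))) := by
  obtain ⟨C, hC, hCN⟩ := hK
  obtain ⟨D, hD, hDN⟩ := hGH
  refine ⟨solvable hC hCN hD hDN hlt, ?_, coprime_card hC hCN hD hDN hlt.le,
    quot_cyclic hC hCN hD hDN hlt, ?_⟩
  · rw [← card_Kb, ← Nat.not_even_iff_odd, even_iff_two_dvd]
    exact odd_card hC hCN hD hDN
  intro p q hp hq hpq hpG hqG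
  have hcard := card_G (H := H) (K := K) hlt.le
  -- the "both in the same side" direction
  have key : ∀ p q : ℕ, p.Prime → q.Prime → p ≠ q →
      (p ∣ Nat.card H ∨ p ∣ Nat.card (G ⧸ K)) → (q ∣ Nat.card H ∨ q ∣ Nat.card (G ⧸ K)) →
      ∃ g : G, orderOf g = p * q := by
    intro p q hp hq hpq hp' hq'
    rcases hp' with hp' | hp' <;> rcases hq' with hq' | hq'
    · haveI := H_nilpotent hC hCN hlt.le
      obtain ⟨x, hx⟩ := exists_pq_of_nilpotent H hp hq hpq hp' hq'
      exact ⟨(x : G), by rw [Subgroup.orderOf_coe]; exact hx⟩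
    · exact exists_pq_mixed hC hCN hD hDN hlt hp hq hpq hp' hq'
    · obtain ⟨g, hg⟩ := exists_pq_mixed hC hCN hD hDN hlt hq hp hpq.symm hq' hp'
      exact ⟨g, by rw [hg, mul_comm]⟩
    · haveI := quot_cyclic hC hCN hD hDN hlt
      obtain ⟨z, hz⟩ := IsCyclic.exists_generator (α := G ⧸ K)
      have hzo : orderOf z = Nat.card (G ⧸ K) := orderOf_eq_card_of_forall_mem_zpowers hz
      have hdvd : p * q ∣ orderOf z := by
        rw [hzo]
        exact Nat.Coprime.mul_dvd_of_dvd_of_dvd ((Nat.coprime_primes hp hq).mpr hpq) hp' hq'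
      obtain ⟨w, hw⟩ := Cfsg.Agent.S3995.exists_orderOf_eq_of_dvd
        (Nat.mul_ne_zero hp.ne_zero hq.ne_zero) z hdvd
      exact exists_orderOf_of_quotient K (Nat.mul_ne_zero hp.ne_zero hq.ne_zero) w hw
  have hsplit : ∀ p : ℕ, p.Prime → p ∣ Nat.card G → ¬ p ∣ Nat.card (↥K ⧸ H.subgroupOf K) →
      (p ∣ Nat.card H ∨ p ∣ Nat.card (G ⧸ K)) := by
    intro p hp hpG hpm
    rw [hcard] at hpG
    rcases (Nat.Prime.dvd_mul hp).mp hpG with h | h
    · rcases (Nat.Prime.dvd_mul hp).mp h with h | h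
      · exact Or.inl h
      · exact absurd h hpm
    · exact Or.inr h
  constructor
  · rintro ⟨g, hg⟩
    by_cases hpm : p ∣ Nat.card (↥K ⧸ H.subgroupOf K) <;>
      by_cases hqm : q ∣ Nat.card (↥K ⧸ H.subgroupOf K)
    · exact ⟨fun _ => hqm, fun _ => hpm⟩
    · exact (no_mixed hC hCN hD hDN hlt hp hq hpm hqm g hg).elim
    · exact (no_mixed hC hCN hD hDN hlt hq hp hqm hpm g (by rw [hg, mul_comm])).elim
    · exact ⟨fun h => absurd h hpm, fun h => absurd h hqm⟩
  · intro hiff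
    by_cases hpm : p ∣ Nat.card (↥K ⧸ H.subgroupOf K)
    · have hqm := hiff.mp hpm
      haveI := FG.nilpotent hD hDN
      rw [← card_Kb] at hpm hqm
      obtain ⟨x, hx⟩ := exists_pq_of_nilpotent (K.map (QuotientGroup.mk' H)) hp hq hpq hpm hqm
      have hx' : orderOf ((x : G ⧸ H)) = p * q := by rw [Subgroup.orderOf_coe]; exact hx
      exact exists_orderOf_of_quotient H (Nat.mul_ne_zero hp.ne_zero hq.ne_zero) _ hx'
    · have hqm : ¬ q ∣ Nat.card (↥K ⧸ H.subgroupOf K) := fun h => hpm (hiff.mpr h)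
      exact key p q hp hq hpq (hsplit p hp hpG hpm) (hsplit q hq hqG hqm)

end Cfsg.Agent.S4001

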