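import Mathlib
import Cfsg.Prelude.Def_Solvable
import Cfsg.Prelude.Def_OddOrderLocal
import Cfsg.Agent.S4001
import Cfsg.Agent.Lib.H20.Frobenius
import Cfsg.Agent.Lib.H20.ThreePrimes
import Cfsg.Agent.Lib.H19.PiCore
import Cfsg.Agent.Lib.H1.Hall

set_option autoImplicit false
open Cfsg

namespace Cfsg.Agent.S3857

open Cfsg.Agent.Lib.H19 Cfsg.Agent.Lib.H20

variable {G : Type*} [Group G]

/-- no element of order `a * b` with `a ∈ B`, `b ∉ B` primes -/
def NoEdge (G : Type*) [Group G] (B : Set ℕ) : Prop :=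
  ∀ a ∈ B, ∀ b ∉ B, a.Prime → b.Prime → ¬ ∃ g : G, orderOf g = a * b

theorem NoEdge.compl {B : Set ℕ} (h : NoEdge G B) : NoEdge G Bᶜ := by
  intro a ha b hb hap hbp ⟨g, hg⟩
  have hb' : b ∈ B := by
    by_contra hb'
    exact hb hb'
  exact h b hb' a ha hbp hap ⟨g, by rw [hg, mul_comm]⟩

theorem NoEdge.quotient [Finite G] {B : Set ℕ} (h : NoEdge G B) (N : Subgroup G) [N.Normal] :
    NoEdge (G ⧸ N) B := by
  intro a ha b hb hap hbp ⟨g, hg⟩
  exact h a ha b hb hap hbp
    (Cfsg.Agent.S4001.exists_orderOf_of_quotient N (Nat.mul_ne_zero hap.ne_zero hbp.ne_zero) g hg)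

/-- an element of prime order `p ∣ orderOf x` as a power of `x` -/
theorem exists_pow_prime [Finite G] {x : G} (hx : x ≠ 1) :
    ∃ p : ℕ, p.Prime ∧ p ∣ orderOf x ∧ ∃ k : ℕ, orderOf (x ^ k) = p := by
  have ho1 : orderOf x ≠ 1 := fun h1 => hx (orderOf_eq_one_iff.mp h1)
  obtain ⟨s, hs, hsd⟩ := Nat.exists_prime_and_dvd ho1
  have hpos := orderOf_pos x
  have hdd : orderOf x / s ∣ orderOf x := Nat.div_dvd_of_dvd hsd
  have hne : orderOf x / s ≠ 0 := by
    intro h0
    have := Nat.div_mul_cancel hsd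
    rw [h0, zero_mul] at this
    omega
  refine ⟨s, hs, hsd, orderOf x / s, ?_⟩
  rw [orderOf_pow_of_dvd hne hdd, Nat.div_div_self hsd hpos.ne']

/-- commuting nonidentity elements of `B`-order and `Bᶜ`-order give an edge -/
theorem NoEdge.false_of_commute [Finite G] {B : Set ℕ} (h : NoEdge G B) {x y : G} (hx : x ≠ 1)
    (hy : y ≠ 1) (hxB : IsPiCard B (orderOf x)) (hyB : IsPiCard Bᶜ (orderOf y))
    (hc : Commute x y) : False := by
  obtain ⟨p, hp, hpd, k, hk⟩ := exists_pow_prime hx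
  obtain ⟨q, hq, hqd, l, hl⟩ := exists_pow_prime hy
  have hpB : p ∈ B := hxB p hp hpd
  have hqB : q ∉ B := hyB q hq hqd
  have hpq : p ≠ q := by
    rintro rfl
    exact hqB hpB
  have hcop : (orderOf (x ^ k)).Coprime (orderOf (y ^ l)) := by
    rw [hk, hl]; exact (Nat.coprime_primes hp hq).mpr hpq
  have hc' : Commute (x ^ k) (y ^ l) := (hc.pow_left k).pow_right l
  exact h p hpB q hqB hp hq ⟨x ^ k * y ^ l, by
    rw [hc'.orderOf_mul_eq_mul_orderOf_of_coprime hcop, hk, hl]⟩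

/-- a normal Hall subgroup on which all elements of coprime order act fixed-point-freely is a
Frobenius kernel (in a solvable group) -/
theorem frob_of_hall [Finite G] [Group.IsSolvable G] (B : Set ℕ) (N : Subgroup G) [N.Normal]
    (hN1 : N ≠ ⊥) (hN2 : N ≠ ⊤) (hNB : IsPiCard B (Nat.card N)) (hIB : IsPiCard Bᶜ N.index)
    (hfpf : ∀ y : G, y ≠ 1 → IsPiCard Bᶜ (orderOf y) → ∀ n ∈ N, y * n = n * y → n = 1) :
    ∃ C : Subgroup G, Cfsg.IsFrobeniusComplement C ∧ Cfsg.frobeniusKernel C = (N : Set G) := by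
  have hcop : (Nat.card N).Coprime N.index :=
    Nat.coprime_of_dvd fun k hk hkm hkn => hIB k hk hkn (hNB k hk hkm)
  have hG : Nat.card G = N.index * Nat.card N := (Subgroup.index_mul_card N).symm
  obtain ⟨C, hC⟩ := Cfsg.Agent.Lib.H1.hall_exists hG hcop.symm
  have hcompl : Subgroup.IsComplement' N C :=
    Subgroup.isComplement'_of_coprime (by rw [hC, mul_comm]; exact hG.symm) (by rw [hC]; exact hcop)
  have hC1 : C ≠ ⊥ := by
    intro hb
    rw [hb, Subgroup.card_bot] at hC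
    exact hN2 (Subgroup.index_eq_one.mp hC.symm)
  refine ⟨C, frobenius_of_fpf N C hcompl.sup_eq_top hcompl.disjoint.eq_bot hN1 hC1 ?_⟩
  intro c hc hc1 n hn hcomm
  refine hfpf c hc1 ?_ n hn hcomm.symm
  have h1 : orderOf c ∣ N.index := by
    rw [← hC]
    have : orderOf (⟨c, hc⟩ : C) = orderOf c := Subgroup.orderOf_mk c hc
    rw [← this]
    exact orderOf_dvd_natCard _
  exact isPiCard_of_dvd h1 hIB


/-- an extension of a `B`-group by a `B`-group is a `B`-group -/
theorem isPiCard_comap [Finite G] {B : Set ℕ} (N : Subgroup G) [N.Normal] (M : Subgroup (G ⧸ N))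
    (hN : IsPiCard B (Nat.card N)) (hM : IsPiCard B (Nat.card M)) :
    IsPiCard B (Nat.card (M.comap (QuotientGroup.mk' N))) := by
  intro p hp hpd
  haveI : Fact p.Prime := ⟨hp⟩
  obtain ⟨x, hx⟩ := exists_prime_orderOf_dvd_card' p hpd
  have hxo : orderOf (x : G) = p := by rw [Subgroup.orderOf_coe]; exact hx
  by_cases hxN : (x : G) ∈ N
  · apply hN p hp
    have : orderOf (⟨(x : G), hxN⟩ : N) = p := by rw [← hxo]; exact Subgroup.orderOf_mk _ hxN
    rw [← this]
    exact orderOf_dvd_natCard _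
  · apply hM p hp
    have hmem : ((x : G) : G ⧸ N) ∈ M := x.2
    have h1 : ((x : G) : G ⧸ N) ≠ 1 := fun h1 => hxN ((QuotientGroup.eq_one_iff _).mp h1)
    have h2 : ((x : G) : G ⧸ N) ^ p = 1 := by
      rw [← QuotientGroup.mk_pow, ← hxo, pow_orderOf_eq_one, QuotientGroup.mk_one]
    have h3 : orderOf (⟨_, hmem⟩ : M) = p := by
      rw [Subgroup.orderOf_mk]; exact orderOf_eq_prime h2 h1
    rw [← h3]
    exact orderOf_dvd_natCard _

/-- a group of prime exponent `r` is an `{r}`-group -/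
theorem isPiCard_of_exponent [Finite G] {B : Set ℕ} {r : ℕ} (hr : r.Prime) (hrB : r ∈ B)
    (V : Subgroup G) (hV : ∀ a ∈ V, a ^ r = 1) : IsPiCard B (Nat.card V) := by
  intro p hp hpd
  haveI : Fact p.Prime := ⟨hp⟩
  obtain ⟨x, hx⟩ := exists_prime_orderOf_dvd_card' p hpd
  have hxo : orderOf (x : G) = p := by rw [Subgroup.orderOf_coe]; exact hx
  have h1 : p ∣ r := by rw [← hxo]; exact orderOf_dvd_of_pow_eq_one (hV _ x.2)
  rw [(Nat.prime_dvd_prime_iff_eq hp hr).mp h1]
  exact hrB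


/-- the quotient by a normal subgroup `K` is a `B`-group, under the hypotheses of step 6 -/
theorem quotient_isPiCard [Finite G] {B : Set ℕ} (h : NoEdge G B) {r : ℕ} (hr : r.Prime)
    (hrB : r ∉ B) (hcoreK : ∀ M : Subgroup G, M.Normal → IsPiCard Bᶜ (Nat.card M) → M ≤ piCore Bᶜ G)
    (V : Subgroup G) [hVn : V.Normal] (hV1 : V ≠ ⊥) (hVr : ∀ a ∈ V, a ^ r = 1) (hVc : IsCyclic V) :
    IsPiCard B (piCore Bᶜ G).index := by
  classical
  set K := piCore Bᶜ G with hK
  have hKB : IsPiCard Bᶜ (Nat.card K) := piCore_isPiCard Bᶜ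
  obtain ⟨v, hv⟩ := IsCyclic.exists_generator (α := V)
  have hv1 : (v : G) ≠ 1 := by
    intro h1
    apply hV1
    rw [Subgroup.eq_bot_iff_forall]
    intro z hz
    obtain ⟨i, hi⟩ := Subgroup.mem_zpowers_iff.mp (hv ⟨z, hz⟩)
    have h2 := congrArg Subtype.val hi
    rw [Subgroup.coe_zpow, h1, one_zpow] at h2
    exact h2.symm
  have hvr : (v : G) ^ r = 1 := hVr _ v.2
  haveI : Fact r.Prime := ⟨hr⟩
  have hvo : orderOf (v : G) = r := orderOf_eq_prime hvr hv1
  have hact : ∀ d : G, ∃ i : ℤ, d * (v : G) * d⁻¹ = (v : G) ^ i := by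
    intro d
    have hmem : d * (v : G) * d⁻¹ ∈ V := hVn.conj_mem _ v.2 d
    obtain ⟨i, hi⟩ := Subgroup.mem_zpowers_iff.mp (hv ⟨_, hmem⟩)
    refine ⟨i, ?_⟩
    have h2 := congrArg Subtype.val hi
    rw [Subgroup.coe_zpow] at h2
    exact h2.symm
  -- the centralizer of `v` is a normal `Bᶜ`-subgroup
  set Z := Subgroup.centralizer (V : Set G) with hZ
  have hZmem : ∀ x : G, x ∈ Z ↔ x * (v : G) = (v : G) * x := by
    intro x
    constructor
    · intro hx
      exact (Subgroup.mem_centralizer_iff.mp hx (v : G) v.2).symm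
    · intro hx
      rw [hZ, Subgroup.mem_centralizer_iff]
      intro z hz
      obtain ⟨i, hi⟩ := Subgroup.mem_zpowers_iff.mp (hv ⟨z, hz⟩)
      have h2 : (v : G) ^ i = z := by
        have := congrArg Subtype.val hi
        rwa [Subgroup.coe_zpow] at this
      rw [← h2]
      have hc : Commute x ((v : G)) := hx
      exact (hc.zpow_right i).symm
  have hZB : IsPiCard Bᶜ (Nat.card Z) := by
    intro p hp hpd
    haveI : Fact p.Prime := ⟨hp⟩
    obtain ⟨x, hx⟩ := exists_prime_orderOf_dvd_card' p hpd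
    have hxo : orderOf (x : G) = p := by rw [Subgroup.orderOf_coe]; exact hx
    intro hpB
    have hx1 : (x : G) ≠ 1 := by
      intro h1
      rw [h1, orderOf_one] at hxo
      exact hp.one_lt.ne hxo
    refine h.false_of_commute hx1 hv1 ?_ ?_ ((hZmem _).mp x.2)
    · rw [hxo]
      intro p' hp' hd
      rw [(Nat.prime_dvd_prime_iff_eq hp' hp).mp hd]; exact hpB
    · rw [hvo]
      intro p' hp' hd
      rw [(Nat.prime_dvd_prime_iff_eq hp' hr).mp hd]; exact hrB
  have hZK : Z ≤ K := hcoreK Z (by rw [hZ]; infer_instance) hZB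
  -- commutators lie in `K`
  have hcomm : ∀ a b : G, (b * a)⁻¹ * (a * b) ∈ K := by
    intro a b
    apply hZK
    rw [hZmem]
    obtain ⟨i, hi⟩ := hact a
    obtain ⟨j, hj⟩ := hact b
    have h1 : (a * b) * (v : G) * (a * b)⁻¹ = (v : G) ^ (i * j) := by
      calc (a * b) * (v : G) * (a * b)⁻¹ = a * (b * (v : G) * b⁻¹) * a⁻¹ := by group
        _ = a * (v : G) ^ j * a⁻¹ := by rw [hj]
        _ = (a * (v : G) * a⁻¹) ^ j := by rw [conj_zpow]
        _ = (v : G) ^ (i * j) := by rw [hi, zpow_mul]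
    have h2 : (b * a) * (v : G) * (b * a)⁻¹ = (v : G) ^ (i * j) := by
      calc (b * a) * (v : G) * (b * a)⁻¹ = b * (a * (v : G) * a⁻¹) * b⁻¹ := by group
        _ = b * (v : G) ^ i * b⁻¹ := by rw [hi]
        _ = (b * (v : G) * b⁻¹) ^ i := by rw [conj_zpow]
        _ = (v : G) ^ (i * j) := by rw [hj, mul_comm i j, zpow_mul]
    have h3 : (a * b) * (v : G) * (a * b)⁻¹ = (b * a) * (v : G) * (b * a)⁻¹ := h1.trans h2.symm
    calc (b * a)⁻¹ * (a * b) * (v : G)
        = (b * a)⁻¹ * ((a * b) * (v : G) * (a * b)⁻¹) * (a * b) := by group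
      _ = (b * a)⁻¹ * ((b * a) * (v : G) * (b * a)⁻¹) * (a * b) := by rw [h3]
      _ = (v : G) * ((b * a)⁻¹ * (a * b)) := by group
  have hQcomm : ∀ a b : G ⧸ K, a * b = b * a := by
    intro a b
    obtain ⟨a, rfl⟩ := QuotientGroup.mk_surjective a
    obtain ⟨b, rfl⟩ := QuotientGroup.mk_surjective b
    rw [← QuotientGroup.mk_mul, ← QuotientGroup.mk_mul]
    exact (QuotientGroup.eq.mpr (hcomm a b)).symm
  -- the quotient is a `B`-group
  intro q hq hqd
  by_contra hqB
  haveI : Fact q.Prime := ⟨hq⟩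
  rw [Subgroup.index_eq_card] at hqd
  obtain ⟨s, hs⟩ := exists_prime_orderOf_dvd_card' q hqd
  set S : Subgroup (G ⧸ K) := Subgroup.zpowers s with hS
  haveI hSn : S.Normal := by
    constructor
    intro n hn g
    have : g * n * g⁻¹ = n := by rw [hQcomm g n, mul_inv_cancel_right]
    rw [this]; exact hn
  have hSB : IsPiCard Bᶜ (Nat.card S) := by
    rw [hS, Nat.card_zpowers, hs]
    intro p' hp' hd
    rw [(Nat.prime_dvd_prime_iff_eq hp' hq).mp hd]; exact hqB
  have hE := isPiCard_comap K S hKB hSB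
  have hEK : S.comap (QuotientGroup.mk' K) ≤ K :=
    hcoreK _ (Subgroup.Normal.comap hSn _) hE
  obtain ⟨g, rfl⟩ := QuotientGroup.mk_surjective s
  have hgK : g ∈ K := hEK (by
    show (QuotientGroup.mk' K g) ∈ S
    exact Subgroup.mem_zpowers _)
  rw [(QuotientGroup.eq_one_iff g).mpr hgK, orderOf_one] at hs
  exact hq.one_lt.ne hs


theorem main [Finite G] (hsol : Group.IsSolvable G) (B : Set ℕ) (h : NoEdge G B)
    (hcore : piCore B G ≠ ⊥) (hb : ∃ b ∉ B, b.Prime ∧ b ∣ Nat.card G) :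
    (∃ C : Subgroup G, Cfsg.IsFrobeniusComplement C) ∨
    (∃ (H K : Subgroup G) (_ : H.Normal), K.Normal ∧ H < K ∧
      (∃ C : Subgroup ↥K, Cfsg.IsFrobeniusComplement C ∧
        Cfsg.frobeniusKernel C = (H.subgroupOf K : Set ↥K)) ∧
      (∃ C : Subgroup (G ⧸ H), Cfsg.IsFrobeniusComplement C ∧
        Cfsg.frobeniusKernel C = (K.map (QuotientGroup.mk' H) : Set (G ⧸ H)))) := by
  classical
  haveI := hsol
  obtain ⟨N, hNdef⟩ : ∃ N : Subgroup G, N = piCore B G := ⟨_, rfl⟩
  haveI hNn : N.Normal := by rw [hNdef]; infer_instance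
  have hN1 : N ≠ ⊥ := by rw [hNdef]; exact hcore
  have hNB : IsPiCard B (Nat.card N) := by rw [hNdef]; exact piCore_isPiCard B
  have hNmax : ∀ M : Subgroup G, M.Normal → IsPiCard B (Nat.card M) → M ≤ N := by
    intro M hM hMB
    rw [hNdef]; exact le_piCore hM hMB
  -- fixed-point-freeness on `N`
  have hfpfN : ∀ y : G, y ≠ 1 → IsPiCard Bᶜ (orderOf y) → ∀ n ∈ N, y * n = n * y → n = 1 := by
    intro y hy hyB n hn hcomm
    by_contra hn1
    have hnB : IsPiCard B (orderOf n) := by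
      have : orderOf (⟨n, hn⟩ : N) = orderOf n := Subgroup.orderOf_mk n hn
      exact isPiCard_of_dvd (this ▸ orderOf_dvd_natCard _) hNB
    exact h.false_of_commute hn1 hy hnB hyB hcomm.symm
  have hN2 : N ≠ ⊤ := by
    intro htop
    obtain ⟨b, hbB, hbp, hbd⟩ := hb
    apply hbB
    apply hNB b hbp
    rw [htop, Subgroup.card_top]; exact hbd
  -- the quotient
  have hQ := h.quotient N
  have hcoreQ : piCore B (G ⧸ N) = ⊥ := by
    rw [Subgroup.eq_bot_iff_forall]
    intro x hx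
    obtain ⟨g, rfl⟩ := QuotientGroup.mk_surjective x
    have hle := hNmax ((piCore B (G ⧸ N)).comap (QuotientGroup.mk' N))
      (Subgroup.Normal.comap inferInstance _)
      (isPiCard_comap N _ hNB (piCore_isPiCard B))
    exact (QuotientGroup.eq_one_iff g).mpr (hle hx)
  haveI : Nontrivial (G ⧸ N) := by
    rw [← Finite.one_lt_card_iff_nontrivial, ← Subgroup.index_eq_card]
    have h0 : N.index ≠ 0 := Subgroup.index_ne_zero_of_finite
    have h1 : N.index ≠ 1 := fun h1 => hN2 (Subgroup.index_eq_one.mp h1)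
    omega
  obtain ⟨r, V, hr, hVn, hV1, hVr, hVc⟩ := exists_normal_abelian_exponent_prime (G := G ⧸ N)
  have hrB : r ∉ B := by
    intro hrB
    apply hV1
    have := le_piCore hVn (isPiCard_of_exponent hr hrB V hVr)
    rw [hcoreQ] at this
    exact le_bot_iff.mp this
  obtain ⟨Kb, hKbdef⟩ : ∃ Kb : Subgroup (G ⧸ N), Kb = piCore Bᶜ (G ⧸ N) := ⟨_, rfl⟩
  haveI hKbn : Kb.Normal := by rw [hKbdef]; infer_instance
  have hKbB : IsPiCard Bᶜ (Nat.card Kb) := by rw [hKbdef]; exact piCore_isPiCard Bᶜ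
  have hVK : V ≤ Kb := by
    rw [hKbdef]; exact le_piCore hVn (isPiCard_of_exponent hr hrB V hVr)
  have hKb1 : Kb ≠ ⊥ := fun hb' => hV1 (le_bot_iff.mp (hb' ▸ hVK))
  set K : Subgroup G := Kb.comap (QuotientGroup.mk' N) with hK
  haveI hKn : K.Normal := Subgroup.Normal.comap hKbn _
  have hNK : N ≤ K := by
    intro n hn
    show (QuotientGroup.mk' N n) ∈ Kb
    have : QuotientGroup.mk' N n = 1 := (QuotientGroup.eq_one_iff n).mpr hn
    rw [this]; exact Kb.one_mem
  have hmap : K.map (QuotientGroup.mk' N) = Kb :=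
    Subgroup.map_comap_eq_self_of_surjective (QuotientGroup.mk'_surjective N) Kb
  have hlt : N < K := by
    refine lt_of_le_of_ne hNK ?_
    intro heq
    apply hKb1
    rw [← hmap, ← heq, Subgroup.eq_bot_iff_forall]
    rintro _ ⟨n, hn, rfl⟩
    exact (QuotientGroup.eq_one_iff n).mpr hn
  -- `K` is a Frobenius group with kernel `N`
  have hKfrob : ∃ C : Subgroup ↥K, Cfsg.IsFrobeniusComplement C ∧
      Cfsg.frobeniusKernel C = (N.subgroupOf K : Set ↥K) := by
    apply frob_of_hall B (N.subgroupOf K)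
    · intro hbot
      obtain ⟨n, hn, hn1⟩ := (Subgroup.ne_bot_iff_exists_ne_one.mp hN1 : ∃ x : N, x ≠ 1)
        |> fun ⟨x, hx⟩ => (⟨(x : G), x.2, fun h' => hx (Subtype.ext h')⟩ : ∃ x : G, x ∈ N ∧ x ≠ 1)
      have hmem : (⟨n, hNK hn⟩ : K) ∈ N.subgroupOf K := by
        rw [Subgroup.mem_subgroupOf]; exact hn
      rw [hbot, Subgroup.mem_bot] at hmem
      exact hn1 (congrArg Subtype.val hmem)
    · intro htop
      rw [Subgroup.subgroupOf_eq_top] at htop
      exact absurd (le_antisymm hNK htop) hlt.ne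
    · rw [Nat.card_congr (Subgroup.subgroupOfEquivOfLe hNK).toEquiv]; exact hNB
    · rw [Subgroup.index_eq_card, ← Cfsg.Agent.S4001.card_Kb, hmap]; exact hKbB
    · intro y hy hyB n hn hcomm
      have h1 := hfpfN (y : G) (fun h' => hy (Subtype.ext h'))
        (by rw [Subgroup.orderOf_coe]; exact hyB) (n : G) (Subgroup.mem_subgroupOf.mp hn)
        (congrArg Subtype.val hcomm)
      exact Subtype.ext h1
  by_cases hKbtop : Kb = ⊤
  · -- `G` is a Frobenius group
    left
    have hIB : IsPiCard Bᶜ N.index := by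
      rw [Subgroup.index_eq_card, ← Subgroup.card_top (G := G ⧸ N), ← hKbtop]; exact hKbB
    obtain ⟨C, hC, -⟩ := frob_of_hall B N hN1 hN2 hNB hIB hfpfN
    exact ⟨C, hC⟩
  · right
    refine ⟨N, K, hNn, hKn, hlt, hKfrob, ?_⟩
    rw [hmap]
    obtain ⟨C, hC, hCN⟩ := hKfrob
    have hVcyc : IsCyclic V := by
      apply Cfsg.Agent.S4001.cyclic_of_comm_le_Kb hC hCN V
      · rw [hmap]; exact hVK
      · exact hVc
    have hidx : IsPiCard B Kb.index := by
      rw [hKbdef]
      exact quotient_isPiCard hQ hr hrB (fun M hM hMB => le_piCore hM hMB) V hV1 hVr hVcyc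
    apply frob_of_hall Bᶜ Kb hKb1 hKbtop hKbB (by rw [compl_compl]; exact hidx)
    intro y hy hyB n hn hcomm
    rw [compl_compl] at hyB
    by_contra hn1
    have hnB : IsPiCard Bᶜ (orderOf n) := by
      have : orderOf (⟨n, hn⟩ : Kb) = orderOf n := Subgroup.orderOf_mk n hn
      exact isPiCard_of_dvd (this ▸ orderOf_dvd_natCard _) hKbB
    exact hQ.false_of_commute hy hn1 hyB hnB hcomm


/-- A finite solvable group whose prime graph (prime divisors of the order, two distinct primes joined when there is an element of order their product) is disconnected is a Frobenius group or a 2-Frobenius group (it has normal subgroups H < K with K a Frobenius group with kernel H and G/H a Frobenius group with kernel K/H). -/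
theorem result {G : Type*} [Group G] [Finite G] (hsol : Group.IsSolvable G)
    (hdisc : (∃ A : Set ℕ, (∃ a ∈ A, a.Prime ∧ a ∣ Nat.card G) ∧ (∃ b ∉ A, b.Prime ∧ b ∣ Nat.card G) ∧
      ∀ a ∈ A, ∀ b ∉ A, a.Prime → b.Prime → a ∣ Nat.card G → b ∣ Nat.card G → ¬ ∃ g : G, orderOf g = a * b)) :
    (∃ C : Subgroup G, Cfsg.IsFrobeniusComplement C) ∨
    (∃ (H K : Subgroup G) (_ : H.Normal), K.Normal ∧ H < K ∧
      (∃ C : Subgroup ↥K, Cfsg.IsFrobeniusComplement C ∧ Cfsg.frobeniusKernel C = (H.subgroupOf K : Set ↥K)) ∧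
      (∃ C : Subgroup (G ⧸ H), Cfsg.IsFrobeniusComplement C ∧ Cfsg.frobeniusKernel C = (K.map (QuotientGroup.mk' H) : Set (G ⧸ H)))) := by
  obtain ⟨A, ⟨a, haA, hap, had⟩, ⟨b, hbA, hbp, hbd⟩, hno⟩ := hdisc
  haveI := hsol
  have hedge : NoEdge G A := by
    intro a' ha' b' hb' hap' hbp' ⟨g, hg⟩
    have h1 : a' ∣ Nat.card G := (Dvd.intro _ hg.symm).trans (orderOf_dvd_natCard g)
    have h2 : b' ∣ Nat.card G := (Dvd.intro_left _ hg.symm).trans (orderOf_dvd_natCard g)
    exact hno a' ha' b' hb' hap' hbp' h1 h2 ⟨g, hg⟩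
  haveI : Nontrivial G := by
    rw [← Finite.one_lt_card_iff_nontrivial]
    have := Nat.le_of_dvd Nat.card_pos had
    have := hap.one_lt
    omega
  obtain ⟨s, M, hs, hMn, hM1, hMs, -⟩ := exists_normal_abelian_exponent_prime (G := G)
  by_cases hsA : s ∈ A
  · apply main hsol A hedge ?_ ⟨b, hbA, hbp, hbd⟩
    intro hbot
    apply hM1
    have := le_piCore hMn (isPiCard_of_exponent hs hsA M hMs)
    rw [hbot] at this
    exact le_bot_iff.mp this
  · apply main hsol Aᶜ hedge.compl ?_ ⟨a, fun h' => h' haA, hap, had⟩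
    intro hbot
    apply hM1
    have := le_piCore hMn (isPiCard_of_exponent (B := Aᶜ) hs hsA M hMs)
    rw [hbot] at this
    exact le_bot_iff.mp this

end Cfsg.Agent.S3857
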