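import Cfsg.Statements.S3858
import Cfsg.Agent.Lib.H19.AlmostSimple

set_option autoImplicit false
open Cfsg
open Cfsg.Agent.Lib.H19

namespace Cfsg.Agent.S3858

/-- conjugates of coatoms are coatoms -/
theorem isCoatom_map_conj {G : Type*} [Group G] {M : Subgroup G} (hM : IsCoatom M) (g : G) :
    IsCoatom (M.map (MulAut.conj g).toMonoidHom) := by
  constructor
  · intro h
    apply hM.1
    have := map_conj_inv_eq (H := M) (K := ⊤) (x := g) h.symm
    rw [← this, eq_top_iff]
    intro y _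
    rw [mem_map_conj]; trivial
  · intro K hK
    have h1 : M < K.map (MulAut.conj g⁻¹).toMonoidHom := by
      constructor
      · intro y hy
        rw [mem_map_conj, inv_inv]
        exact hK.le (conj_mem_map_conj hy)
      · intro hle
        apply hK.not_ge
        intro y hy
        have : g⁻¹ * y * g ∈ K.map (MulAut.conj g⁻¹).toMonoidHom := by
          have := conj_mem_map_conj (g := g⁻¹) hy
          simpa using this
        have := hle this
        rw [mem_map_conj]; exact this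
    have h2 := hM.2 _ h1
    rw [eq_top_iff]
    intro y _
    have : g⁻¹ * y * g ∈ K.map (MulAut.conj g⁻¹).toMonoidHom := by rw [h2]; trivial
    rw [mem_map_conj] at this
    simpa [mul_assoc] using this

theorem result {G : Type*} [Group G] [Finite G] (T : Subgroup G) [T.Normal] (hT : IsSimpleGroup T) (hna : ¬ IsMulCommutative T)
    (hC : Subgroup.centralizer (T : Set G) = ⊥) {r : ℕ} [Fact r.Prime] (R : Sylow r G) (hR0 : (R : Subgroup G) ⊓ T ≠ ⊥) :
    (∃! M : Subgroup G, IsCoatom M ∧ (R : Subgroup G) ≤ M) ↔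
      ((∃ M : Subgroup G, IsCoatom M ∧ ¬ r ∣ M.index) ∧
        ∀ M₁ M₂ : Subgroup G, IsCoatom M₁ → ¬ r ∣ M₁.index → IsCoatom M₂ → ¬ r ∣ M₂.index → ∃ g : G, M₂ = M₁.map (MulAut.conj g).toMonoidHom) := by
  have hidx : ∀ M : Subgroup G, (R : Subgroup G) ≤ M → ¬ r ∣ M.index := fun M hRM h =>
    R.not_dvd_index (dvd_trans h (Subgroup.index_dvd_of_le hRM))
  constructor
  · rintro ⟨M, ⟨hM, hRM⟩, hMuniq⟩
    refine ⟨⟨M, hM, hidx M hRM⟩, ?_⟩
    -- every coatom of r'-index is a conjugate of M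
    have hconj : ∀ M₁ : Subgroup G, IsCoatom M₁ → ¬ r ∣ M₁.index →
        ∃ g : G, M = M₁.map (MulAut.conj g).toMonoidHom := by
      intro M₁ hM₁ hi
      obtain ⟨g, hg⟩ := exists_conj_le_of_not_dvd_index R M₁ hi
      refine ⟨g⁻¹, ?_⟩
      symm
      apply hMuniq
      refine ⟨isCoatom_map_conj hM₁ _, ?_⟩
      intro y hy
      rw [mem_map_conj, inv_inv]
      exact hg (conj_mem_map_conj hy)
    intro M₁ M₂ hM₁ hi₁ hM₂ hi₂
    obtain ⟨g₁, hg₁⟩ := hconj M₁ hM₁ hi₁
    obtain ⟨g₂, hg₂⟩ := hconj M₂ hM₂ hi₂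
    refine ⟨g₂⁻¹ * g₁, ?_⟩
    rw [map_conj_mul, ← hg₁, hg₂, ← map_conj_mul, inv_mul_cancel, map_conj_one]
  · rintro ⟨_, hall⟩
    obtain ⟨_, hNR, hne⟩ := frattini_data T hT hna R hR0
    set ND := Subgroup.normalizer (((R : Subgroup G) ⊓ T : Subgroup G) : Set G) with hND
    obtain ⟨M₀, hM₀, hNM₀⟩ : ∃ M : Subgroup G, IsCoatom M ∧ ND ≤ M := by
      rcases eq_top_or_exists_le_coatom ND with h | h
      · exact absurd h hne
      · exact h
    have hNRM₀ : Subgroup.normalizer ((R : Subgroup G) : Set G) ≤ M₀ := le_trans hNR hNM₀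
    have hRM₀ : (R : Subgroup G) ≤ M₀ := le_trans Subgroup.le_normalizer hNRM₀
    refine ⟨M₀, ⟨hM₀, hRM₀⟩, ?_⟩
    rintro M ⟨hM, hRM⟩
    obtain ⟨g, hg⟩ := hall M₀ M hM₀ (hidx M₀ hRM₀) hM (hidx M hRM)
    -- g⁻¹ R g ≤ M₀
    have h1 : (R : Subgroup G).map (MulAut.conj g⁻¹).toMonoidHom ≤ M₀ := by
      intro y hy
      rw [mem_map_conj, inv_inv] at hy
      have := hRM hy
      rw [hg, mem_map_conj] at this
      simpa [mul_assoc] using this
    have hrel : ∀ Q : Subgroup G, Q ≤ M₀ → Nat.card Q = Nat.card (R : Subgroup G) → ¬ r ∣ Q.relIndex M₀ := by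
      intro Q hQ hcard hd
      have e1 := card_mul_relIndex hQ
      have e2 := card_mul_relIndex hRM₀
      rw [hcard] at e1
      have hpos : 0 < Nat.card (R : Subgroup G) := Nat.card_pos
      have : Q.relIndex M₀ = (R : Subgroup G).relIndex M₀ :=
        Nat.eq_of_mul_eq_mul_left hpos (e1.trans e2.symm)
      rw [this] at hd
      exact R.not_dvd_index (dvd_trans hd (Subgroup.relIndex_dvd_index_of_le hRM₀))
    obtain ⟨m, hm, hme⟩ := exists_conj_of_relIndex hRM₀ h1 R.isPGroup' (R.isPGroup'.map _)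
      (hrel _ hRM₀ rfl) (hrel _ h1 (card_map_conj _ _))
    -- g * m normalizes R
    have hgm : g * m ∈ Subgroup.normalizer ((R : Subgroup G) : Set G) := by
      rw [mem_normalizer_iff_map_conj, map_conj_mul, ← hme, ← map_conj_mul, mul_inv_cancel,
        map_conj_one]
    have hgM₀ : g ∈ M₀ := by
      have := M₀.mul_mem (hNRM₀ hgm) (M₀.inv_mem hm)
      simpa [mul_assoc] using this
    rw [hg, map_conj_eq_of_mem hgM₀]

end Cfsg.Agent.S3858
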