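import Cfsg.Statements.S3859
import Cfsg.Agent.Lib.H19.AlmostSimple

set_option autoImplicit false
open Cfsg
open Cfsg.Agent.Lib.H19

namespace Cfsg.Agent.S3859

theorem result {G : Type*} [Group G] [Finite G] (T : Subgroup G) [T.Normal] (hT : IsSimpleGroup T) (hna : ¬ IsMulCommutative T)
    (hC : Subgroup.centralizer (T : Set G) = ⊥) {r : ℕ} [Fact r.Prime] (R : Sylow r G) (hR0 : (R : Subgroup G) ⊓ T ≠ ⊥)
    (huniq : ∃! M : Subgroup G, IsCoatom M ∧ (R : Subgroup G) ≤ M) : IsPGroup r (G ⧸ T) := by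
  obtain ⟨hfr, hNR, hne⟩ := frattini_data T hT hna R hR0
  set ND := Subgroup.normalizer (((R : Subgroup G) ⊓ T : Subgroup G) : Set G) with hND
  have hRN : (R : Subgroup G) ≤ ND := le_trans Subgroup.le_normalizer hNR
  obtain ⟨M, ⟨hM, hRM⟩, hMuniq⟩ := huniq
  -- a coatom above ND
  obtain ⟨M₀, hM₀, hNM₀⟩ : ∃ M : Subgroup G, IsCoatom M ∧ ND ≤ M := by
    rcases eq_top_or_exists_le_coatom ND with h | h
    · exact absurd h hne
    · exact h
  have hM₀M : M₀ = M := hMuniq M₀ ⟨hM₀, le_trans hRN hNM₀⟩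
  -- R ⊔ T = ⊤
  have hRT : (R : Subgroup G) ⊔ T = ⊤ := by
    by_contra hne'
    obtain ⟨M', hM', hRTM'⟩ : ∃ M : Subgroup G, IsCoatom M ∧ (R : Subgroup G) ⊔ T ≤ M := by
      rcases eq_top_or_exists_le_coatom ((R : Subgroup G) ⊔ T) with h | h
      · exact absurd h hne'
      · exact h
    have hM'M : M' = M := hMuniq M' ⟨hM', le_trans le_sup_left hRTM'⟩
    have : ND ⊔ T ≤ M := by
      apply sup_le
      · rw [← hM₀M]; exact hNM₀
      · rw [← hM'M]; exact le_trans le_sup_right hRTM'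
    rw [hfr, top_le_iff] at this
    exact hM.1 this
  -- the quotient is the image of R
  have h1 : IsPGroup r ((R : Subgroup G).map (QuotientGroup.mk' T)) := R.isPGroup'.map _
  have h2 : (R : Subgroup G).map (QuotientGroup.mk' T) = ⊤ := by
    have h3 : ((R : Subgroup G) ⊔ T).map (QuotientGroup.mk' T) = ⊤ := by
      rw [hRT, ← MonoidHom.range_eq_map, MonoidHom.range_eq_top]
      exact QuotientGroup.mk'_surjective T
    rw [Subgroup.map_sup] at h3
    have h4 : T.map (QuotientGroup.mk' T) = ⊥ := by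
      rw [eq_bot_iff]
      rintro _ ⟨t, ht, rfl⟩
      rw [Subgroup.mem_bot]
      exact (QuotientGroup.eq_one_iff t).mpr ht
    rwa [h4, sup_bot_eq] at h3
  rw [h2] at h1
  exact h1.of_equiv Subgroup.topEquiv

end Cfsg.Agent.S3859
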