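import Cfsg.Statements.S3861
import Mathlib
import Cfsg.Agent.Lib.H16.BaerSuzuki
import Cfsg.Agent.Lib.H20.CoprimeConj
import Cfsg.Agent.Lib.H1.SchurZassenhaus
import Cfsg.Agent.Lib.H1.PCore
import Cfsg.Agent.Lib.H19.Basic

set_option autoImplicit false
open Cfsg

namespace Cfsg.Agent.S3861

open scoped Pointwise

universe u

/-- no non-identity element of odd order is conjugate to its inverse -/
def NoInv (G : Type*) [Group G] : Prop :=
  ∀ x : G, x ≠ 1 → Odd (orderOf x) → ¬ IsConj x x⁻¹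

theorem isPGroup_zpowers_of_pow {G : Type*} [Group G] {p k : ℕ} {g : G} (h : g ^ p ^ k = 1) :
    IsPGroup p (Subgroup.zpowers g) := by
  rintro ⟨y, hy⟩
  obtain ⟨j, rfl⟩ := Subgroup.mem_zpowers_iff.1 hy
  refine ⟨k, Subtype.ext ?_⟩
  show (g ^ j) ^ p ^ k = 1
  rw [← zpow_natCast, ← zpow_mul, mul_comm, zpow_mul, zpow_natCast, h, one_zpow]

theorem mem_of_normal_sylow {G : Type*} [Group G] {p : ℕ} [Fact p.Prime] (P : Sylow p G)
    (hP : (P : Subgroup G).Normal) {g : G} {k : ℕ} (h : g ^ p ^ k = 1) : g ∈ (P : Subgroup G) := by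
  have h5 : IsPGroup p (Subgroup.zpowers g ⊔ (P : Subgroup G) : Subgroup G) :=
    IsPGroup.to_sup_of_normal_right (isPGroup_zpowers_of_pow h) P.isPGroup'
  have h6 : Subgroup.zpowers g ⊔ (P : Subgroup G) = P := P.is_maximal' h5 le_sup_right
  rw [← h6]
  exact Subgroup.mem_sup_left (Subgroup.mem_zpowers g)

theorem conj_odd_pow {G : Type*} [Group G] {g x : G} (h : g * x * g⁻¹ = x⁻¹) {m : ℕ} (hm : Odd m) :
    g ^ m * x * (g ^ m)⁻¹ = x⁻¹ := by
  obtain ⟨j, rfl⟩ := hm
  have h1 : g * x = x⁻¹ * g := by rw [← h]; group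
  have h2 : g * x⁻¹ = x * g := by
    calc g * x⁻¹ = (g * x * g⁻¹)⁻¹ * g := by group
      _ = x * g := by rw [h, inv_inv]
  have hc : Commute (g ^ 2) x := by
    show g ^ 2 * x = x * g ^ 2
    calc g ^ 2 * x = g * (g * x) := by rw [pow_two, mul_assoc]
      _ = (g * x⁻¹) * g := by rw [h1, mul_assoc]
      _ = x * g ^ 2 := by rw [h2, pow_two, mul_assoc]
  have hc2 : Commute (g ^ (2 * j)) x⁻¹ := by
    rw [pow_mul]; exact (hc.pow_left j).inv_right
  calc g ^ (2 * j + 1) * x * (g ^ (2 * j + 1))⁻¹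
      = g ^ (2 * j) * (g * x * g⁻¹) * (g ^ (2 * j))⁻¹ := by rw [pow_succ]; group
    _ = g ^ (2 * j) * x⁻¹ * (g ^ (2 * j))⁻¹ := by rw [h]
    _ = x⁻¹ := by rw [hc2.eq]; group

/-- the easy direction -/
theorem noInv_of_normal {G : Type*} [Group G] [Finite G] (P : Sylow 2 G)
    (hP : (P : Subgroup G).Normal) : NoInv G := by
  intro x hx1 hodd hconj
  obtain ⟨g, hg⟩ := isConj_iff.1 hconj
  have hg0 : orderOf g ≠ 0 := (orderOf_pos g).ne'
  obtain ⟨k, m, hm, hkm⟩ := Nat.exists_eq_two_pow_mul_odd hg0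
  have hg' := conj_odd_pow hg hm
  have hpow : (g ^ m) ^ 2 ^ k = 1 := by
    rw [← pow_mul, mul_comm, ← hkm, pow_orderOf_eq_one]
  have hgP : g ^ m ∈ (P : Subgroup G) := mem_of_normal_sylow P hP hpow
  have hc : g ^ m * x * (g ^ m)⁻¹ * x⁻¹ ∈ (P : Subgroup G) := by
    have h1 : x * (g ^ m)⁻¹ * x⁻¹ ∈ (P : Subgroup G) :=
      hP.conj_mem _ ((P : Subgroup G).inv_mem hgP) x
    have h2 : g ^ m * x * (g ^ m)⁻¹ * x⁻¹ = g ^ m * (x * (g ^ m)⁻¹ * x⁻¹) := by group
    rw [h2]; exact (P : Subgroup G).mul_mem hgP h1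
  rw [hg'] at hc
  have hx2 : x ^ 2 ∈ (P : Subgroup G) := by
    have := (P : Subgroup G).inv_mem hc
    have h3 : (x⁻¹ * x⁻¹)⁻¹ = x ^ 2 := by group
    rwa [h3] at this
  obtain ⟨j, hj⟩ := (IsPGroup.iff_orderOf.1 P.isPGroup') ⟨x ^ 2, hx2⟩
  rw [Subgroup.orderOf_mk] at hj
  have hdvd : orderOf (x ^ 2) ∣ orderOf x := orderOf_pow_dvd 2
  have hodd2 : Odd (orderOf (x ^ 2)) := Odd.of_dvd_nat hodd hdvd
  have hj0 : j = 0 := by
    by_contra hne
    rw [hj] at hodd2
    have : Even (2 ^ j) := (Nat.even_pow' hne).2 even_two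
    exact (Nat.not_odd_iff_even.2 this) hodd2
  rw [hj0, pow_zero, orderOf_eq_one_iff] at hj
  have h4 : orderOf x ∣ 2 := orderOf_dvd_of_pow_eq_one hj
  rcases (Nat.dvd_prime Nat.prime_two).1 h4 with h5 | h5
  · exact hx1 (orderOf_eq_one_iff.1 h5)
  · rw [h5] at hodd
    exact (Nat.not_odd_iff_even.2 even_two) hodd

/-- two involutions generate a `2`-group -/
theorem dihedral_aux {G : Type*} [Group G] [Finite G] (h : NoInv G) {s t : G} (hs : s ^ 2 = 1)
    (ht : t ^ 2 = 1) : IsPGroup 2 (Subgroup.closure ({s, t} : Set G)) := by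
  have hsi : s⁻¹ = s := by
    have : s * s = 1 := by rw [← pow_two]; exact hs
    exact inv_eq_of_mul_eq_one_left this
  have hti : t⁻¹ = t := by
    have : t * t = 1 := by rw [← pow_two]; exact ht
    exact inv_eq_of_mul_eq_one_left this
  set u := s * t with hu
  have hsu : s * u * s⁻¹ = u⁻¹ := by
    rw [hu, mul_inv_rev, hsi, hti]
    calc s * (s * t) * s = (s * s) * t * s := by group
      _ = t * s := by rw [← pow_two, hs, one_mul]
  have hu0 : orderOf u ≠ 0 := (orderOf_pos u).ne'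
  obtain ⟨a, m, hm, ham⟩ := Nat.exists_eq_two_pow_mul_odd hu0
  have hx : s * u ^ 2 ^ a * s⁻¹ = (u ^ 2 ^ a)⁻¹ := by
    rw [← conj_pow, hsu, inv_pow]
  have hord : orderOf (u ^ 2 ^ a) = m := by
    rw [orderOf_pow_of_dvd (pow_ne_zero a two_ne_zero) (Dvd.intro _ ham.symm), ham,
      Nat.mul_div_cancel_left _ (pow_pos two_pos a)]
  have hu2 : u ^ 2 ^ a = 1 := by
    by_contra hne
    exact h _ hne (hord ▸ hm) (isConj_iff.2 ⟨s, hx⟩)
  have hpu : IsPGroup 2 (Subgroup.zpowers u) := isPGroup_zpowers_of_pow hu2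
  have hps : IsPGroup 2 (Subgroup.zpowers s) := isPGroup_zpowers_of_pow (k := 1) (by rw [pow_one]; exact hs)
  have hnorm : Subgroup.zpowers s ≤ Subgroup.normalizer ((Subgroup.zpowers u : Subgroup G) : Set G) := by
    rw [Subgroup.zpowers_le]
    apply Cfsg.Agent.Lib.H20.mem_normalizer_zpowers_of_conj_mem
    rw [hsu]; exact Subgroup.inv_mem _ (Subgroup.mem_zpowers u)
  have hsup := IsPGroup.to_sup_of_normal_right' hps hpu hnorm
  apply hsup.to_le
  rw [Subgroup.closure_le]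
  rintro y (rfl | rfl)
  · exact Subgroup.mem_sup_left (Subgroup.mem_zpowers _)
  · have : y = s⁻¹ * u := by rw [hu]; group
    rw [this]
    exact Subgroup.mul_mem _ (Subgroup.inv_mem _ (Subgroup.mem_sup_left (Subgroup.mem_zpowers _)))
      (Subgroup.mem_sup_right (Subgroup.mem_zpowers _))

/-- the hypothesis passes to quotients by normal `2`-subgroups -/
theorem noInv_quotient {G : Type u} [Group G] [Finite G] (h : NoInv G) (N : Subgroup G)
    [hN : N.Normal] (hN2 : IsPGroup 2 N) : NoInv (G ⧸ N) := by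
  intro xb hxb hodd hconj
  obtain ⟨gb, hgb⟩ := isConj_iff.1 hconj
  obtain ⟨x0, rfl⟩ := QuotientGroup.mk_surjective xb
  obtain ⟨g, rfl⟩ := QuotientGroup.mk_surjective gb
  set m := orderOf (x0 : G ⧸ N) with hm
  have hm1 : 1 < m := by
    have h0 : m ≠ 0 := fun h0 => by rw [h0] at hodd; simp at hodd
    have h1 : m ≠ 1 := fun h1 => hxb (orderOf_eq_one_iff.1 h1)
    omega
  have h1 : x0 ^ m ∈ N := by
    rw [← QuotientGroup.eq_one_iff, QuotientGroup.mk_pow, hm]; exact pow_orderOf_eq_one _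
  obtain ⟨b, hb⟩ := hN2 ⟨x0 ^ m, h1⟩
  have hb' : (x0 ^ m) ^ 2 ^ b = 1 := congrArg Subtype.val hb
  have hcop : Nat.Coprime (2 ^ b) m := Nat.Coprime.pow_left b (Nat.coprime_two_left.2 hodd)
  obtain ⟨c, -, hc⟩ := Nat.exists_mul_mod_eq_one_of_coprime hcop hm1
  set x := x0 ^ (2 ^ b * c) with hxdef
  have hxq : (x : G ⧸ N) = (x0 : G ⧸ N) := by
    rw [hxdef, QuotientGroup.mk_pow, ← pow_mod_orderOf, ← hm, hc, pow_one]
  have hxm : x ^ m = 1 := by
    rw [hxdef, ← pow_mul]
    have : 2 ^ b * c * m = m * 2 ^ b * c := by ring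
    rw [this, pow_mul, pow_mul, hb', one_pow]
  have hxodd : Odd (orderOf x) := Odd.of_dvd_nat hodd (orderOf_dvd_of_pow_eq_one hxm)
  have hx1 : x ≠ 1 := by
    intro hx1
    apply hxb
    rw [← hxq, hx1]; rfl
  -- `g x g⁻¹ x ∈ N`
  have hn0 : g * x * g⁻¹ * x ∈ N := by
    rw [← QuotientGroup.eq_one_iff]
    have : ((g * x * g⁻¹ * x : G) : G ⧸ N) = (g : G ⧸ N) * (x : G ⧸ N) * (g : G ⧸ N)⁻¹ * (x : G ⧸ N) := rfl
    rw [this, hxq, hgb, inv_mul_cancel]
  -- Schur–Zassenhaus
  have hHN : Subgroup.zpowers x ≤ Subgroup.normalizer (N : Set G) := by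
    rw [Subgroup.normalizer_eq_top_iff.2 hN]; exact le_top
  have hKN : Subgroup.zpowers (g * x * g⁻¹) ≤ Subgroup.normalizer (N : Set G) := by
    rw [Subgroup.normalizer_eq_top_iff.2 hN]; exact le_top
  obtain ⟨a, ha⟩ := hN2.exists_card_eq
  have hcopH : (Nat.card N).Coprime (Nat.card (Subgroup.zpowers x)) := by
    rw [ha, Nat.card_zpowers]
    exact Nat.Coprime.pow_left a (Nat.coprime_two_left.2 hxodd)
  have hcopK : (Nat.card N).Coprime (Nat.card (Subgroup.zpowers (g * x * g⁻¹))) := by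
    rw [Nat.card_zpowers, Cfsg.Agent.Lib.H19.orderOf_conj_eq, ← Nat.card_zpowers]; exact hcopH
  have hdH : Disjoint N (Subgroup.zpowers x) := Subgroup.disjoint_of_coprime_natCard hcopH
  have hdK : Disjoint N (Subgroup.zpowers (g * x * g⁻¹)) :=
    Subgroup.disjoint_of_coprime_natCard hcopK
  have hsup : N ⊔ Subgroup.zpowers x = N ⊔ Subgroup.zpowers (g * x * g⁻¹) := by
    apply le_antisymm
    · apply sup_le le_sup_left
      rw [Subgroup.zpowers_le]
      have e : (g * x * g⁻¹)⁻¹ * (g * x * g⁻¹ * x) = x := by group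
      have hmem : (g * x * g⁻¹)⁻¹ * (g * x * g⁻¹ * x) ∈ N ⊔ Subgroup.zpowers (g * x * g⁻¹) :=
        Subgroup.mul_mem _ (Subgroup.inv_mem _ (Subgroup.mem_sup_right (Subgroup.mem_zpowers _)))
          (Subgroup.mem_sup_left hn0)
      rwa [e] at hmem
    · apply sup_le le_sup_left
      rw [Subgroup.zpowers_le]
      have e : (g * x * g⁻¹ * x) * x⁻¹ = g * x * g⁻¹ := by group
      have hmem : (g * x * g⁻¹ * x) * x⁻¹ ∈ N ⊔ Subgroup.zpowers x :=
        Subgroup.mul_mem _ (Subgroup.mem_sup_left hn0)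
          (Subgroup.inv_mem _ (Subgroup.mem_sup_right (Subgroup.mem_zpowers _)))
      rwa [e] at hmem
  have hsolv : Group.IsSolvable N := by
    have : Group.IsNilpotent N := hN2.isNilpotent
    infer_instance
  obtain ⟨n, hn, hconjn⟩ := Cfsg.Agent.Lib.H1.sz_conj_internal hHN hKN hcopH hdH hdK hsup (Or.inl hsolv)
  have hy : n⁻¹ * (g * x * g⁻¹) * n ∈ Subgroup.zpowers x := by
    rw [← Cfsg.Agent.Lib.H1.mem_conj_smul_iff, hconjn]
    exact Subgroup.mem_zpowers _
  have hyx : n⁻¹ * (g * x * g⁻¹) * n * x ∈ N := by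
    have h2 : x⁻¹ * n * x ∈ N := by
      have := hN.conj_mem n hn x⁻¹
      rwa [inv_inv] at this
    have h3 : n⁻¹ * (g * x * g⁻¹) * n * x = n⁻¹ * (g * x * g⁻¹ * x) * (x⁻¹ * n * x) := by group
    rw [h3]
    exact N.mul_mem (N.mul_mem (N.inv_mem hn) hn0) h2
  have hyx1 : n⁻¹ * (g * x * g⁻¹) * n * x = 1 := by
    have h4 : n⁻¹ * (g * x * g⁻¹) * n * x ∈ Subgroup.zpowers x :=
      Subgroup.mul_mem _ hy (Subgroup.mem_zpowers x)
    exact (Subgroup.disjoint_def.1 hdH) hyx h4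
  have hfin : (n⁻¹ * g) * x * (n⁻¹ * g)⁻¹ = x⁻¹ := by
    have : (n⁻¹ * g) * x * (n⁻¹ * g)⁻¹ = n⁻¹ * (g * x * g⁻¹) * n := by group
    rw [this]
    exact eq_inv_of_mul_eq_one_left hyx1
  exact h x hx1 hxodd (isConj_iff.2 ⟨_, hfin⟩)

theorem sylow_normal_of_noInv : ∀ (n : ℕ) (G : Type u) [Group G] [Finite G], Nat.card G = n →
    NoInv G → ∀ P : Sylow 2 G, (P : Subgroup G).Normal := by
  intro n
  induction n using Nat.strong_induction_on with
  | _ n ih =>
    intro G _ _ hcard hno P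
    set K : Set G := {t | t ^ 2 = 1} with hK
    have hKconj : ∀ g x : G, x ∈ K → g * x * g⁻¹ ∈ K := by
      intro g x hx
      show (g * x * g⁻¹) ^ 2 = 1
      have hx' : x ^ 2 = 1 := hx
      rw [conj_pow, hx', mul_one, mul_inv_cancel]
    have hN2 : IsPGroup 2 (Subgroup.closure K) :=
      Cfsg.Agent.Lib.H16.isPGroup_closure_of_pairwise K hKconj
        (fun s hs t ht => dihedral_aux hno hs ht)
    have hNn : (Subgroup.closure K).Normal :=
      Cfsg.Agent.Lib.H16.closure_normal_of_conj_mem K hKconj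
    by_cases hbot : Subgroup.closure K = ⊥
    · have h2 : ¬ 2 ∣ Nat.card G := by
        intro hd
        obtain ⟨t, ht⟩ := exists_prime_orderOf_dvd_card' (G := G) 2 hd
        have hmem : t ∈ Subgroup.closure K := Subgroup.subset_closure (by
          show t ^ 2 = 1
          rw [← ht]; exact pow_orderOf_eq_one t)
        rw [hbot, Subgroup.mem_bot] at hmem
        rw [hmem, orderOf_one] at ht
        norm_num at ht
      have hPbot : (P : Subgroup G) = ⊥ := by
        rcases P.isPGroup'.card_eq_or_dvd with h1 | h1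
        · exact Subgroup.card_eq_one.1 h1
        · exact absurd (h1.trans (Subgroup.card_subgroup_dvd_card _)) h2
      rw [hPbot]; infer_instance
    · have hlt : Nat.card (G ⧸ Subgroup.closure K) < n := by
        have h1 := Subgroup.card_eq_card_quotient_mul_card_subgroup (Subgroup.closure K)
        have h2 : 1 < Nat.card (Subgroup.closure K) := by
          rw [Subgroup.one_lt_card_iff_ne_bot]; exact hbot
        have h3 : 0 < Nat.card (G ⧸ Subgroup.closure K) := Nat.card_pos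
        rw [← hcard, h1]
        nlinarith
      have hq := ih _ hlt (G ⧸ Subgroup.closure K) rfl (noInv_quotient hno _ hN2)
        (P.mapSurjective (QuotientGroup.mk'_surjective _))
      rw [Sylow.coe_mapSurjective] at hq
      have h2 : (((P : Subgroup G).map (QuotientGroup.mk' (Subgroup.closure K))).comap
          (QuotientGroup.mk' (Subgroup.closure K))).Normal := hq.comap _
      rw [Subgroup.comap_map_eq, QuotientGroup.ker_mk'] at h2
      have h5 : IsPGroup 2 ((P : Subgroup G) ⊔ Subgroup.closure K : Subgroup G) :=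
        IsPGroup.to_sup_of_normal_right P.isPGroup' hN2
      have h6 : (P : Subgroup G) ⊔ Subgroup.closure K = P := P.is_maximal' h5 le_sup_left
      rwa [h6] at h2

/-- A finite group G has no non-identity element of odd order that is conjugate to its inverse if and only if the Sylow 2-subgroups of G are normal. -/
theorem result {G : Type*} [Group G] [Finite G] (P : Sylow 2 G) : (∀ x : G, x ≠ 1 → Odd (orderOf x) → ¬ IsConj x x⁻¹) ↔ (P : Subgroup G).Normal := by
  constructor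
  · intro h
    exact sylow_normal_of_noInv _ G rfl h P
  · intro h
    exact noInv_of_normal P h

end Cfsg.Agent.S3861
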