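import Cfsg.Statements.S3862
import Mathlib
import Cfsg.Agent.Lib.L0.FrobeniusPC

set_option autoImplicit false
open Cfsg

namespace Cfsg.Agent.S3862

variable {G : Type*} [Group G]

/-- If `g` commutes with `x * x`, then `x⁻¹ * (g * x * g⁻¹)` is inverted by `x⁻¹`. -/
theorem inverted (x g : G) (hs : (x * x) * g = g * (x * x)) :
    x⁻¹ * (x⁻¹ * (g * x * g⁻¹)) * x⁻¹⁻¹ = (x⁻¹ * (g * x * g⁻¹))⁻¹ := by
  have hx' : (g * x * g⁻¹) * (g * x * g⁻¹) = x * x := by
    have : (g * x * g⁻¹) * (g * x * g⁻¹) = g * (x * x) * g⁻¹ := by group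
    rw [this, ← hs, mul_inv_cancel_right]
  calc x⁻¹ * (x⁻¹ * (g * x * g⁻¹)) * x⁻¹⁻¹ = (x * x)⁻¹ * (g * x * g⁻¹) * x := by group
    _ = ((g * x * g⁻¹) * (g * x * g⁻¹))⁻¹ * (g * x * g⁻¹) * x := by rw [hx']
    _ = (x⁻¹ * (g * x * g⁻¹))⁻¹ := by group

/-- If `g x g⁻¹ = x u` with `u` central then `gⁿ x g⁻ⁿ = x uⁿ`. -/
theorem conj_pow (x g u : G) (hu : u ∈ Subgroup.center G) (h : g * x * g⁻¹ = x * u) (n : ℕ) :
    g ^ n * x * (g ^ n)⁻¹ = x * u ^ n := by
  induction n with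
  | zero => simp
  | succ k ih =>
    have hun : u ^ k ∈ Subgroup.center G := Subgroup.pow_mem _ hu k
    have e : g ^ (k + 1) * x * (g ^ (k + 1))⁻¹ = g * (g ^ k * x * (g ^ k)⁻¹) * g⁻¹ := by
      rw [pow_succ']
      group
    rw [e, ih]
    have e2 : g * (x * u ^ k) * g⁻¹ = (g * x * g⁻¹) * (g * u ^ k * g⁻¹) := by group
    rw [e2, h]
    have e3 : g * u ^ k * g⁻¹ = u ^ k := by
      rw [(Subgroup.mem_center_iff.mp hun g), mul_inv_cancel_right]
    rw [e3, pow_succ', mul_assoc]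

theorem result {G : Type*} [Group G] [Finite G] (h : ∀ x : G, (∃ j : ℕ, orderOf x = 2 ^ j) → IsConj x x⁻¹ → x ∈ Subgroup.center G) : Cfsg.HasNormalPComplement 2 G := by
  haveI : Fact (Nat.Prime 2) := ⟨Nat.prime_two⟩
  apply Cfsg.Agent.Lib.L0.hasNormalPComplement_of_frobHyp
  intro Q hQ g hg hcop
  have hord : ∀ x ∈ Q, ∃ k : ℕ, orderOf x = 2 ^ k := by
    intro x hx
    obtain ⟨k, hk⟩ := (IsPGroup.iff_orderOf.mp hQ) ⟨x, hx⟩
    exact ⟨k, by rw [← hk, Subgroup.orderOf_mk]⟩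
  have key : ∀ j : ℕ, ∀ x ∈ Q, x ^ (2 ^ j) = 1 → x * g = g * x := by
    intro j
    induction j with
    | zero =>
      intro x _ hx1
      rw [pow_zero, pow_one] at hx1
      rw [hx1, one_mul, mul_one]
    | succ j ih =>
      intro x hx hx1
      have hs : (x * x) * g = g * (x * x) := by
        apply ih (x * x) (Q.mul_mem hx hx)
        rw [← pow_two, ← pow_mul, ← pow_succ']
        exact hx1
      set x' : G := g * x * g⁻¹ with hx'
      have hx'Q : x' ∈ Q := (Subgroup.mem_normalizer_iff.mp hg x).mp hx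
      set u : G := x⁻¹ * x' with hu
      have huQ : u ∈ Q := Q.mul_mem (Q.inv_mem hx) hx'Q
      have hconj : IsConj u u⁻¹ := isConj_iff.mpr ⟨x⁻¹, inverted x g hs⟩
      have hucen : u ∈ Subgroup.center G := h u (hord u huQ) hconj
      have hxu : g * x * g⁻¹ = x * u := by rw [hu, mul_inv_cancel_left]
      have hpow := conj_pow x g u hucen hxu (orderOf g)
      rw [pow_orderOf_eq_one, one_mul, inv_one, mul_one] at hpow
      have hun : u ^ orderOf g = 1 := by
        have : x * u ^ orderOf g = x * 1 := by rw [mul_one]; exact hpow.symm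
        exact mul_left_cancel this
      have h1 : orderOf u ∣ orderOf g := orderOf_dvd_of_pow_eq_one hun
      obtain ⟨k, hk⟩ := hord u huQ
      have h2 : orderOf u ∣ 2 ^ k := by rw [hk]
      have h3 : orderOf u = 1 := by
        have hc : Nat.Coprime (orderOf g) (2 ^ k) := Nat.Coprime.pow_right k hcop
        exact Nat.eq_one_of_dvd_coprimes hc h1 h2
      have hu1 : u = 1 := orderOf_eq_one_iff.mp h3
      rw [hu1, mul_one] at hxu
      calc x * g = (g * x * g⁻¹) * g := by rw [hxu]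
        _ = g * x := by group
  rw [Subgroup.mem_centralizer_iff]
  intro x hx
  obtain ⟨k, hk⟩ := hord x hx
  exact key k x hx (by rw [← hk]; exact pow_orderOf_eq_one x)

end Cfsg.Agent.S3862
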