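import Cfsg.Statements.S3863
import Mathlib.Tactic.Group
import Mathlib.GroupTheory.Index
import Mathlib.Data.Nat.Factorization.Basic
import Mathlib.GroupTheory.OrderOfElement

set_option autoImplicit false
open Cfsg

namespace Cfsg.Agent.S3863

/-- if `g` inverts `x` then odd powers of `g` invert `x` and even powers centralize `x` -/
theorem pow_conj_of_inverts {G : Type*} [Group G] (g x : G) (h : g * x * g⁻¹ = x⁻¹) (k : ℕ) :
    g ^ (2 * k) * x * (g ^ (2 * k))⁻¹ = x ∧ g ^ (2 * k + 1) * x * (g ^ (2 * k + 1))⁻¹ = x⁻¹ := by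
  have h' : g * x⁻¹ * g⁻¹ = x := by
    have := congrArg (fun y => y⁻¹) h
    simp only [mul_inv_rev, inv_inv] at this
    rw [← mul_assoc] at this
    exact this
  induction k with
  | zero => simp [h]
  | succ k ih =>
    obtain ⟨ih1, ih2⟩ := ih
    have e1 : g ^ (2 * (k + 1)) * x * (g ^ (2 * (k + 1)))⁻¹ = x := by
      have : g ^ (2 * (k + 1)) = g * g ^ (2 * k + 1) := by rw [← pow_succ']; congr 1
      rw [this]
      calc g * g ^ (2 * k + 1) * x * (g * g ^ (2 * k + 1))⁻¹
          = g * (g ^ (2 * k + 1) * x * (g ^ (2 * k + 1))⁻¹) * g⁻¹ := by group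
        _ = x := by rw [ih2, h']
    refine ⟨e1, ?_⟩
    have : g ^ (2 * (k + 1) + 1) = g * g ^ (2 * (k + 1)) := by rw [← pow_succ']
    rw [this]
    calc g * g ^ (2 * (k + 1)) * x * (g * g ^ (2 * (k + 1)))⁻¹
        = g * (g ^ (2 * (k + 1)) * x * (g ^ (2 * (k + 1)))⁻¹) * g⁻¹ := by group
      _ = x⁻¹ := by rw [e1, h]

theorem exists_two_elt {G : Type*} [Group G] [Finite G] (x : G) (hx : IsConj x x⁻¹) :
    ∃ t : G, (∃ j : ℕ, orderOf t = 2 ^ j) ∧ t * x * t⁻¹ = x⁻¹ := by
  obtain ⟨g, hg⟩ := isConj_iff.mp hx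
  obtain ⟨a, m, hm, hn⟩ := Nat.exists_eq_two_pow_mul_odd (orderOf_pos g).ne'
  obtain ⟨k, rfl⟩ := hm
  refine ⟨g ^ (2 * k + 1), ⟨a, ?_⟩, (pow_conj_of_inverts g x hg k).2⟩
  have hdvd : (2 * k + 1) ∣ orderOf g := by rw [hn]; exact Dvd.intro_left _ rfl
  rw [orderOf_pow_of_dvd (by omega) hdvd, hn, Nat.mul_div_cancel _ (by omega)]

theorem result {G : Type*} [Group G] [Finite G] (x : G) (hx : IsConj x x⁻¹) : (∃ t : G, (∃ j : ℕ, orderOf t = 2 ^ j) ∧ t * x * t⁻¹ = x⁻¹) ∧ (Odd (Subgroup.centralizer ({x} : Set G)).index → x ^ 2 = 1) ∧ ∀ (N : Subgroup G) [N.Normal], Odd N.index → ∃ hxN : x ∈ N, IsConj (⟨x, hxN⟩ : N) (⟨x, hxN⟩ : N)⁻¹ := by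
  obtain ⟨t, ⟨j, htj⟩, htx⟩ := exists_two_elt x hx
  refine ⟨⟨t, ⟨j, htj⟩, htx⟩, ?_, ?_⟩
  · intro hodd
    by_contra hx2
    have hxne : x ≠ x⁻¹ := by
      intro h
      apply hx2
      rw [pow_two]
      nth_rewrite 2 [h]
      exact mul_inv_cancel x
    have htx' : t * x⁻¹ * t⁻¹ = x := by
      have := congrArg (fun y => y⁻¹) htx
      simp only [mul_inv_rev, inv_inv] at this
      rw [← mul_assoc] at this
      exact this
    -- the subgroup of elements sending x to x or x⁻¹
    let K : Subgroup G :=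
      { carrier := {h | h * x * h⁻¹ = x ∨ h * x * h⁻¹ = x⁻¹}
        one_mem' := by left; simp
        mul_mem' := by
          intro a b ha hb
          have hinv : ∀ c : G, c * x * c⁻¹ = x⁻¹ → c * x⁻¹ * c⁻¹ = x := by
            intro c hc
            have := congrArg (fun y => y⁻¹) hc
            simp only [mul_inv_rev, inv_inv] at this
            rw [← mul_assoc] at this
            exact this
          have hinv' : ∀ c : G, c * x * c⁻¹ = x → c * x⁻¹ * c⁻¹ = x⁻¹ := by
            intro c hc
            have := congrArg (fun y => y⁻¹) hc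
            simp only [mul_inv_rev, inv_inv] at this
            rw [← mul_assoc] at this
            exact this
          have e : a * b * x * (a * b)⁻¹ = a * (b * x * b⁻¹) * a⁻¹ := by group
          rcases ha with ha | ha <;> rcases hb with hb | hb
          · left; rw [e, hb, ha]
          · right; rw [e, hb, hinv' a ha]
          · right; rw [e, hb, ha]
          · left; rw [e, hb, hinv a ha]
        inv_mem' := by
          intro a ha
          rcases ha with ha | ha
          · left
            calc a⁻¹ * x * a⁻¹⁻¹ = a⁻¹ * (a * x * a⁻¹) * a := by rw [ha, inv_inv]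
              _ = x := by group
          · right
            have : a * x⁻¹ * a⁻¹ = x := by
              have := congrArg (fun y => y⁻¹) ha
              simp only [mul_inv_rev, inv_inv] at this
              rw [← mul_assoc] at this
              exact this
            calc a⁻¹ * x * a⁻¹⁻¹ = a⁻¹ * (a * x⁻¹ * a⁻¹) * a := by rw [this, inv_inv]
              _ = x⁻¹ := by group }
    have hmemK : ∀ h, h ∈ K ↔ (h * x * h⁻¹ = x ∨ h * x * h⁻¹ = x⁻¹) := fun h => Iff.rfl
    have hmemC : ∀ h, h ∈ Subgroup.centralizer ({x} : Set G) ↔ h * x * h⁻¹ = x := by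
      intro h
      rw [Subgroup.mem_centralizer_singleton_iff]
      constructor
      · intro e; rw [e]; group
      · intro e
        calc h * x = (h * x * h⁻¹) * h := by group
          _ = x * h := by rw [e]
    have hCK : Subgroup.centralizer ({x} : Set G) ≤ K := fun h hh => Or.inl ((hmemC h).mp hh)
    have hrel : (Subgroup.centralizer ({x} : Set G)).relIndex K = 2 := by
      rw [Subgroup.relIndex_eq_two_iff]
      refine ⟨t, Or.inr htx, ?_⟩
      intro b hb
      rcases hb with hb | hb
      · right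
        refine ⟨(hmemC b).mpr hb, ?_⟩
        rw [hmemC]
        have e : b * t * x * (b * t)⁻¹ = b * (t * x * t⁻¹) * b⁻¹ := by group
        rw [e, htx]
        intro h2
        have : b * x⁻¹ * b⁻¹ = x⁻¹ := by
          have := congrArg (fun y => y⁻¹) hb
          simp only [mul_inv_rev, inv_inv] at this
          rw [← mul_assoc] at this
          exact this
        rw [this] at h2
        exact hxne h2.symm
      · left
        refine ⟨?_, ?_⟩
        · rw [hmemC]
          have e : b * t * x * (b * t)⁻¹ = b * (t * x * t⁻¹) * b⁻¹ := by group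
          rw [e, htx]
          have := congrArg (fun y => y⁻¹) hb
          simp only [mul_inv_rev, inv_inv] at this
          rw [← mul_assoc] at this
          exact this
        · rw [hmemC, hb]
          exact fun h => hxne h.symm
    have h2 : 2 ∣ (Subgroup.centralizer ({x} : Set G)).index := by
      rw [← hrel]; exact Subgroup.relIndex_dvd_index_of_le hCK
    exact (Nat.not_even_iff_odd.mpr hodd) (even_iff_two_dvd.mpr h2)
  · intro N hN hodd
    have hcard : Odd (Nat.card (G ⧸ N)) := hodd
    -- elements of 2-power order in G/N are trivial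
    have h2triv : ∀ y : G ⧸ N, (∃ i : ℕ, y ^ 2 ^ i = 1) → y = 1 := by
      rintro y ⟨i, hi⟩
      have h1 : orderOf y ∣ 2 ^ i := orderOf_dvd_of_pow_eq_one hi
      have h2 : orderOf y ∣ Nat.card (G ⧸ N) := orderOf_dvd_natCard y
      have hc : Nat.Coprime (2 ^ i) (Nat.card (G ⧸ N)) :=
        Nat.Coprime.pow_left i (Nat.coprime_two_left.mpr hcard)
      exact orderOf_eq_one_iff.mp (Nat.eq_one_of_dvd_coprimes hc h1 h2)
    have htN : t ∈ N := by
      rw [← QuotientGroup.eq_one_iff]
      apply h2triv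
      refine ⟨j, ?_⟩
      rw [← QuotientGroup.mk_pow, ← htj, pow_orderOf_eq_one]
      rfl
    have hxN : x ∈ N := by
      rw [← QuotientGroup.eq_one_iff]
      apply h2triv
      refine ⟨1, ?_⟩
      have h1 : (QuotientGroup.mk (t * x * t⁻¹) : G ⧸ N) = QuotientGroup.mk x⁻¹ := by rw [htx]
      have ht1 : (QuotientGroup.mk t : G ⧸ N) = 1 := (QuotientGroup.eq_one_iff t).mpr htN
      rw [QuotientGroup.mk_mul, QuotientGroup.mk_mul, QuotientGroup.mk_inv, QuotientGroup.mk_inv, ht1] at h1
      simp only [one_mul, inv_one, mul_one] at h1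
      rw [pow_one, pow_two]
      nth_rewrite 2 [h1]
      exact mul_inv_cancel _
    refine ⟨hxN, ?_⟩
    rw [isConj_iff]
    refine ⟨⟨t, htN⟩, ?_⟩
    apply Subtype.ext
    simpa using htx

end Cfsg.Agent.S3863
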