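import Cfsg.Statements.S3864
import Cfsg.Agent.Lib.L0.DihedralClasses
import Cfsg.Agent.S1255
-- import your own Cfsg.Agent.* helpers here

set_option autoImplicit false
open Cfsg

namespace Cfsg.Agent.S3864

open Cfsg.Agent.Lib.L0 Cfsg.Agent.Lib.H10 DihedralGroup

/-- Conjugates of reflections are reflections of the same parity. -/
theorem conj_inv_sr {m : ℕ} (hm : 2 ∣ m) (d : DihedralGroup m) (k : ZMod m) :
    ∃ k', d⁻¹ * sr k * d = sr k' ∧ Dih.par hm k' = Dih.par hm k := by
  cases d with
  | r q =>
    refine ⟨k + q + q, ?_, ?_⟩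
    · rw [inv_r, r_mul_sr, sr_mul_r]; congr 1; ring
    · rw [add_assoc, map_add, Dih.par_add_self, add_zero]
  | sr q =>
    refine ⟨q + q - k, ?_, ?_⟩
    · rw [inv_sr, sr_mul_sr, r_mul_sr]; congr 1; ring
    · have h2 : ∀ x : ZMod 2, 0 - x = x := by decide
      rw [map_sub, Dih.par_add_self, h2]

/-- The fusion trichotomy for a group with dihedral Sylow `2`-subgroup of order at least eight. -/
theorem trichotomy {G : Type*} [Group G] [Finite G] (P : Sylow 2 G) (n : ℕ) (hn : 3 ≤ n)
    (e : (P : Subgroup G) ≃* DihedralGroup (2 ^ (n - 1))) :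
    ∃ z a b : G, orderOf z = 2 ∧ orderOf a = 2 ∧ orderOf b = 2 ∧
      (∀ g : G, orderOf g = 2 → IsConj g z ∨ IsConj g a ∨ IsConj g b) ∧
      ((IsConj a z ∧ IsConj b z ∧ ∀ N : Subgroup G, N.index ≠ 2) ∨
       (IsConj a z ∧ ¬ IsConj b z ∧ (∃ N : Subgroup G, N.Normal ∧ N.index = 2) ∧
          ∀ N : Subgroup G, N.Normal → N.index ≠ 4) ∨
       (¬ IsConj a z ∧ ¬ IsConj b z ∧ ¬ IsConj a b ∧ Cfsg.HasNormalPComplement 2 G)) := by
  have hp2 : Fact (Nat.Prime 2) := ⟨Nat.prime_two⟩
  set m := 2 ^ (n - 1) with hmdef
  have hm4 : 4 ∣ m := by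
    obtain ⟨k, rfl⟩ : ∃ k, n = k + 3 := ⟨n - 3, by omega⟩
    refine ⟨2 ^ k, ?_⟩
    rw [hmdef, show k + 3 - 1 = 2 + k by omega, pow_add]; norm_num
  have hm2 : 2 ∣ m := Dvd.dvd.trans (by norm_num : 2 ∣ 4) hm4
  have hmpos : 0 < m := by rw [hmdef]; positivity
  have hmge : 2 ≤ m := Nat.le_of_dvd hmpos hm2
  have hmne : NeZero m := ⟨hmpos.ne'⟩
  have hcard : Nat.card (P : Subgroup G) = 2 * m := by
    rw [Nat.card_congr e.toEquiv, DihedralGroup.nat_card]
  set f : DihedralGroup m →* G := (P : Subgroup G).subtype.comp e.symm.toMonoidHom with hf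
  have hfapp : ∀ d, f d = ((e.symm d : (P : Subgroup G)) : G) := fun d => rfl
  have hfinj : Function.Injective f := by
    rw [hf]
    exact (Subgroup.subtype_injective _).comp e.symm.injective
  have hfP : ∀ d, f d ∈ (P : Subgroup G) := fun d => (e.symm d).2
  have hPf : ∀ s ∈ (P : Subgroup G), ∃ d, f d = s := by
    intro s hs
    refine ⟨e ⟨s, hs⟩, ?_⟩
    rw [hfapp, MulEquiv.symm_apply_apply]
  have hfrange : f.range = (P : Subgroup G) := by
    ext s
    constructor
    · rintro ⟨d, rfl⟩; exact hfP d
    · intro hs; exact hPf s hs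
  have hford : ∀ d, orderOf (f d) = orderOf d := fun d => orderOf_injective f hfinj d
  obtain ⟨R₀, hR₀P, hcyc, h2, h3, hmem⟩ :=
    exists_dihedral_rotation_subgroup (P : Subgroup G) m e
  set z := f (r (Dih.hf m)) with hz
  have hzord : orderOf z = 2 := by rw [hz, hford, Dih.orderOf_r_hf hm2]
  have hsrord : ∀ k, orderOf (f (sr k)) = 2 := fun k => by rw [hford, orderOf_sr]
  have hKf : ∀ i, IsKleinFour ((Dih.kleinD hm2 i).map f) := fun i =>
    Dih.isKleinFour_of_mulEquiv (Subgroup.equivMapOfInjective _ f hfinj)
      (Dih.isKleinFour_kleinD hm2 i)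
  -- every involution is conjugate to an involution `f d`
  have hinv : ∀ g : G, orderOf g = 2 → ∃ d, orderOf d = 2 ∧ IsConj g (f d) := by
    intro g hg
    obtain ⟨x, hx⟩ := Cfsg.Agent.S1255.exists_conj_mem_sylow P g hg
    obtain ⟨d, hd⟩ := hPf _ hx
    refine ⟨d, ?_, isConj_iff.mpr ⟨x, hd.symm⟩⟩
    rw [← hford, hd]
    have := (MulAut.conj x).orderOf_eq g
    rw [MulAut.conj_apply] at this
    rw [this, hg]
  -- conjugating reflections by rotations
  have hrot : ∀ (q k : ZMod m), IsConj (f (sr k)) (f (sr (k - q - q))) := by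
    intro q k
    rw [isConj_iff]
    refine ⟨f (r q), ?_⟩
    rw [← map_inv, ← map_mul, ← map_mul, Dih.conj_r_sr]
  -- general covering lemma relative to a base index `i`
  have hcover : ∀ i : ZMod m, ∀ g : G, orderOf g = 2 →
      IsConj g z ∨ IsConj g (f (sr i)) ∨ IsConj g (f (sr (i + 1))) := by
    intro i g hg
    obtain ⟨d, hd, hgd⟩ := hinv g hg
    rcases Dih.involution_cases hm2 d hd with h | ⟨k, rfl⟩
    · left; rw [h] at hgd; exact hgd
    · obtain ⟨q, hq | hq⟩ := Dih.exists_half (k - i)
      · right; left
        have : k - q - q = i := by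
          have : k = i + (q + q) := by rw [← hq]; ring
          rw [this]; ring
        have h1 := hrot q k
        rw [this] at h1
        exact hgd.trans h1
      · right; right
        have : k - q - q = i + 1 := by
          have : k = i + (q + q + 1) := by rw [← hq]; ring
          rw [this]; ring
        have h1 := hrot q k
        rw [this] at h1
        exact hgd.trans h1
  by_cases hall : ∀ U : Subgroup G, U ≤ (P : Subgroup G) → IsKleinFour U →
      ¬ 3 ∣ (Subgroup.centralizer (U : Set G)).relIndex (Subgroup.normalizer (U : Set G))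
  · -- Case C : Frobenius hypothesis
    have hfrob : FrobHyp 2 G := by
      apply FrobHyp.of_sylow P
      intro Q hQP g hg hodd
      apply mem_centralizer_of_dihedralLike (P : Subgroup G) R₀ P.2 hcyc h2 h3 Q hQP g hg hodd
      intro hK
      exact mem_centralizer_of_not_three_dvd Q hK (hall Q hQP hK) g hg hodd
    have hctrl : ∀ d₁ d₂ : DihedralGroup m, IsConj (f d₁) (f d₂) → ∃ d, d₂ = d⁻¹ * d₁ * d := by
      intro d₁ d₂ hc
      obtain ⟨c, hc⟩ := isConj_iff.mp hc
      have h1 : (c⁻¹)⁻¹ * f d₁ * c⁻¹ ∈ (P : Subgroup G) := by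
        rw [inv_inv, hc]; exact hfP d₂
      obtain ⟨u, hu, hu'⟩ := hfrob.control_fusion P (f d₁) (hfP d₁) c⁻¹ h1
      rw [inv_inv, hc] at hu'
      obtain ⟨d, rfl⟩ := hPf u hu
      refine ⟨d, ?_⟩
      apply hfinj
      rw [hu', map_mul, map_mul, map_inv]
    refine ⟨z, f (sr 0), f (sr 1), hzord, hsrord 0, hsrord 1, ?_, Or.inr (Or.inr ⟨?_, ?_, ?_, ?_⟩)⟩
    · intro g hg
      have := hcover 0 g hg
      rwa [zero_add] at this
    · intro hc
      obtain ⟨d, hd⟩ := hctrl _ _ hc
      obtain ⟨k', hk', -⟩ := conj_inv_sr hm2 d 0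
      rw [hk'] at hd
      cases hd
    · intro hc
      obtain ⟨d, hd⟩ := hctrl _ _ hc
      obtain ⟨k', hk', -⟩ := conj_inv_sr hm2 d 1
      rw [hk'] at hd
      cases hd
    · intro hc
      obtain ⟨d, hd⟩ := hctrl _ _ hc
      obtain ⟨k', hk', hpar⟩ := conj_inv_sr hm2 d 0
      rw [hk'] at hd
      have h5 : (1 : ZMod m) = k' := sr.inj hd
      rw [← h5, map_one, map_zero] at hpar
      exact absurd hpar (by decide +revert)
    · exact hasNormalPComplement_of_frobHyp hfrob
  · -- some Klein four subgroup has an automizer of order divisible by three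
    push Not at hall
    obtain ⟨U, hUP, hUK, hU3⟩ := hall
    -- classify `U`
    set W := U.comap f with hW
    have hWf : W.map f = U := by
      rw [hW, Subgroup.map_comap_eq, hfrange]
      exact inf_eq_right.mpr hUP
    have hWK : IsKleinFour W := by
      have h1 : IsKleinFour (W.map f) := by rw [hWf]; exact hUK
      exact Dih.isKleinFour_of_mulEquiv (Subgroup.equivMapOfInjective _ f hfinj).symm h1
    obtain ⟨i, hi⟩ := Dih.eq_kleinD_of_isKleinFour hm2 W hWK
    have hUi : U = (Dih.kleinD hm2 i).map f := by rw [← hWf, hi]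
    set a := f (sr i) with ha
    set b := f (sr (i + 1)) with hb
    have hz1 : z ≠ 1 := by
      intro h; rw [h, orderOf_one] at hzord; omega
    have ha1 : a ≠ 1 := by
      intro h
      have := hsrord i
      rw [← ha, h, orderOf_one] at this; omega
    have haz : IsConj a z := by
      have hamem : a ∈ U := by rw [hUi]; exact ⟨_, Or.inr (Or.inr (Or.inl rfl)), rfl⟩
      have hzmem : z ∈ U := by rw [hUi]; exact ⟨_, Or.inr (Or.inl rfl), rfl⟩
      obtain ⟨g, -, hg⟩ := klein_three U hUK hU3 a hamem z hzmem ha1 hz1
      exact isConj_iff.mpr ⟨g, hg⟩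
    refine ⟨z, a, b, hzord, hsrord i, hsrord (i + 1), hcover i, ?_⟩
    by_cases hbz : IsConj b z
    · -- Case A
      left
      refine ⟨haz, hbz, ?_⟩
      have hallz : ∀ g : G, orderOf g = 2 → IsConj g z := by
        intro g hg
        rcases hcover i g hg with h | h | h
        · exact h
        · exact h.trans haz
        · exact h.trans hbz
      obtain ⟨z', hz', -, hB, -⟩ := Cfsg.Agent.S1255.main P m hmge e
      exact (hB (fun g hg => (hallz g hg).trans (hallz z' hz').symm)).1
    · -- Case B
      right; left
      refine ⟨haz, hbz, ?_, ?_⟩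
      · -- Thompson transfer
        set M := (Dih.parSub hm2 i).map f with hM
        have hMmem : ∀ d, f d ∈ M ↔ d ∈ Dih.parSub hm2 i := by
          intro d
          constructor
          · rintro ⟨d', hd', hdd⟩
            rw [← hfinj hdd]; exact hd'
          · intro hd; exact ⟨d, hd, rfl⟩
        have hrel : M.relIndex (P : Subgroup G) = 2 := by
          show (M.subgroupOf (P : Subgroup G)).index = 2
          rw [Subgroup.index_eq_two_iff]
          obtain ⟨c, hc⟩ := Subgroup.index_eq_two_iff.mp (Dih.index_parSub hm2 i)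
          refine ⟨e.symm c, fun y => ?_⟩
          have h1 : ∀ y : (P : Subgroup G), y ∈ M.subgroupOf (P : Subgroup G) ↔
              e y ∈ Dih.parSub hm2 i := by
            intro y
            rw [Subgroup.mem_subgroupOf, ← hMmem, hfapp, MulEquiv.symm_apply_apply]
          rw [h1, h1, map_mul, MulEquiv.apply_symm_apply]
          exact hc (e y)
        have hord : ∀ y ∈ (P : Subgroup G), y ∉ M → 2 ^ (1 - 1) < orderOf y := by
          intro y _ hyM
          have hy1 : y ≠ 1 := fun h => hyM (h ▸ M.one_mem)
          have h1 : orderOf y ≠ 1 := fun h => hy1 (orderOf_eq_one_iff.mp h)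
          have h0 : 0 < orderOf y := orderOf_pos y
          simp only [Nat.sub_self, pow_zero]
          omega
        have hcon : ∀ g : G, g * b * g⁻¹ ∉ M := by
          intro g hgM
          obtain ⟨d, hdM, hdg⟩ := hgM
          have hdord : orderOf d = 2 := by
            rw [← hford, hdg]
            have := (MulAut.conj g).orderOf_eq b
            rw [MulAut.conj_apply] at this
            rw [this, hsrord]
          have hbd : IsConj b (f d) := isConj_iff.mpr ⟨g, hdg.symm⟩
          rcases Dih.involution_cases hm2 d hdord with h | ⟨k, rfl⟩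
          · rw [h] at hbd; exact hbz hbd
          · rw [SetLike.mem_coe, Dih.sr_mem_parSub] at hdM
            obtain ⟨q, hq | hq⟩ := Dih.exists_half (k - i)
            · have : k - q - q = i := by
                have : k = i + (q + q) := by rw [← hq]; ring
                rw [this]; ring
              have h1 := hrot q k
              rw [this] at h1
              exact hbz ((hbd.trans h1).trans haz)
            · have h5 : Dih.par hm2 (k - i) = 0 := by rw [map_sub, hdM, sub_self]
              rw [hq, map_add, Dih.par_add_self, map_one, zero_add] at h5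
              exact absurd h5 (by decide +revert)
        obtain ⟨K, hKn, hK2, -⟩ :=
          Cfsg.Agent.Lib.H16.exists_normal_index_two_not_mem P M hrel 1 hord b
            (by rw [hsrord, pow_one]) hcon
        exact ⟨K, hKn, hK2⟩
      · -- no normal subgroup of index four
        intro N hN hN4
        have hq4 : Nat.card (G ⧸ N) = 2 ^ 2 := by
          rw [← Subgroup.index_eq_card, hN4]; norm_num
        have hcomm : ∀ x y : G, x * y * x⁻¹ * y⁻¹ ∈ N := by
          intro x y
          rw [← QuotientGroup.eq_one_iff]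
          have hc := IsPGroup.commutative_of_card_eq_prime_sq hq4
          simp only [QuotientGroup.mk_mul, QuotientGroup.mk_inv]
          rw [hc (x : G ⧸ N) (y : G ⧸ N)]
          group
        have hrotN : ∀ q : ZMod m, f (r (q + q)) ∈ N := by
          intro q
          have h1 := hcomm (f (r q)) (f (sr 0))
          rw [← map_inv, ← map_inv, ← map_mul, ← map_mul, ← map_mul, Dih.conj_r_sr, inv_sr,
            sr_mul_sr] at h1
          have : (0 : ZMod m) - (0 - q - q) = q + q := by ring
          rwa [this] at h1
        have hzN : z ∈ N := by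
          have h1 := hrotN ((m / 4 : ℕ) : ZMod m)
          have : ((m / 4 : ℕ) : ZMod m) + ((m / 4 : ℕ) : ZMod m) = Dih.hf m := by
            unfold Dih.hf
            rw [← Nat.cast_add]
            congr 1
            obtain ⟨c, hc⟩ := hm4
            omega
          rwa [this] at h1
        have haN : a ∈ N := by
          obtain ⟨c, hc⟩ := isConj_iff.mp haz.symm
          rw [← hc]
          exact hN.conj_mem z hzN c
        have hMN : (Dih.parSub hm2 i).map f ≤ N := by
          rintro _ ⟨d, hd, rfl⟩
          cases d with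
          | r k =>
            rw [SetLike.mem_coe, Dih.r_mem_parSub] at hd
            obtain ⟨q, hq | hq⟩ := Dih.exists_half k
            · rw [hq]; exact hrotN q
            · rw [hq, map_add, Dih.par_add_self, map_one, zero_add] at hd
              exact absurd hd (by decide +revert)
          | sr k =>
            rw [SetLike.mem_coe, Dih.sr_mem_parSub] at hd
            obtain ⟨q, hq | hq⟩ := Dih.exists_half (k - i)
            · have : sr k = sr i * r (q + q) := by
                rw [sr_mul_r, ← hq]; congr 1; ring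
              rw [this, map_mul]
              exact N.mul_mem haN (hrotN q)
            · have h5 : Dih.par hm2 (k - i) = 0 := by rw [map_sub, hd, sub_self]
              rw [hq, map_add, Dih.par_add_self, map_one, zero_add] at h5
              exact absurd h5 (by decide +revert)
        -- count
        have hMcard : Nat.card ((Dih.parSub hm2 i).map f) = m := by
          rw [Subgroup.card_map_of_injective hfinj]
          have h1 := Subgroup.card_mul_index (Dih.parSub hm2 i)
          rw [Dih.index_parSub, DihedralGroup.nat_card] at h1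
          omega
        have hdvd : m ∣ Nat.card N := by
          rw [← hMcard]
          exact Subgroup.card_dvd_of_le hMN
        have hGN : Nat.card N * 4 = Nat.card G := by
          rw [← hN4]; exact Subgroup.card_mul_index N
        have hPc := P.card_eq_multiplicity
        rw [hcard] at hPc
        have hfac : (Nat.card G).factorization 2 = n := by
          have h1 : (2 : ℕ) * m = 2 ^ n := by
            rw [hmdef, ← pow_succ']
            congr 1; omega
          rw [h1] at hPc
          exact (Nat.pow_right_injective (le_refl 2) hPc).symm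
        have h8 : 2 ^ (n + 1) ∣ Nat.card G := by
          rw [← hGN]
          have h1 : (2 : ℕ) ^ (n + 1) = m * 4 := by
            rw [hmdef, show n + 1 = (n - 1) + 2 by omega, pow_add]; norm_num
          rw [h1]
          exact Nat.mul_dvd_mul_right hdvd 4
        have h9 := (Nat.Prime.pow_dvd_iff_le_factorization Nat.prime_two
          (Nat.card_pos (α := G)).ne').mp h8
        omega

/-- Let G be a finite group whose Sylow 2-subgroups are dihedral of order 2 ^ n with n ≥ 3, and count the conjugacy classes of involutions of G. Then exactly one of the following holds: there is one class of involutions and no normal subgroup of index 2; there are two classes of involutions, a normal subgroup of index 2 and none of index 4; there are three classes of involutions and G has a normal 2-complement. -/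
theorem result {G : Type*} [Group G] [Finite G] (P : Sylow 2 G) (n : ℕ) (hn : 3 ≤ n) (hdih : Nonempty (↥(P : Subgroup G) ≃* DihedralGroup (2 ^ (n - 1)))) : (Nat.card {C : ConjClasses G // ∃ g : G, ConjClasses.mk g = C ∧ orderOf g = 2} = 1 ∧ ∀ N : Subgroup G, N.Normal → N.index ≠ 2) ∨ (Nat.card {C : ConjClasses G // ∃ g : G, ConjClasses.mk g = C ∧ orderOf g = 2} = 2 ∧ (∃ N : Subgroup G, N.Normal ∧ N.index = 2) ∧ ∀ N : Subgroup G, N.Normal → N.index ≠ 4) ∨ (Nat.card {C : ConjClasses G // ∃ g : G, ConjClasses.mk g = C ∧ orderOf g = 2} = 3 ∧ Cfsg.HasNormalPComplement 2 G) := by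
  obtain ⟨e⟩ := hdih
  obtain ⟨z, a, b, hz, ha, hb, hcover, hcases⟩ := trichotomy P n hn e
  set T : Set (ConjClasses G) := {C | ∃ g : G, ConjClasses.mk g = C ∧ orderOf g = 2} with hT
  have hcardT : Nat.card {C : ConjClasses G // ∃ g : G, ConjClasses.mk g = C ∧ orderOf g = 2} =
      T.ncard := Nat.card_coe_set_eq T
  have hTeq : T = {ConjClasses.mk z, ConjClasses.mk a, ConjClasses.mk b} := by
    ext C
    constructor
    · rintro ⟨g, rfl, hg⟩
      rcases hcover g hg with h | h | h
      · left; exact ConjClasses.mk_eq_mk_iff_isConj.mpr h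
      · right; left; exact ConjClasses.mk_eq_mk_iff_isConj.mpr h
      · right; right; exact ConjClasses.mk_eq_mk_iff_isConj.mpr h
    · rintro (rfl | rfl | rfl)
      · exact ⟨z, rfl, hz⟩
      · exact ⟨a, rfl, ha⟩
      · exact ⟨b, rfl, hb⟩
  rw [hcardT, hTeq]
  rcases hcases with ⟨haz, hbz, hno⟩ | ⟨haz, hbz, hex, hno⟩ | ⟨haz, hbz, hab, hnpc⟩
  · left
    refine ⟨?_, fun N _ => hno N⟩
    rw [ConjClasses.mk_eq_mk_iff_isConj.mpr haz, ConjClasses.mk_eq_mk_iff_isConj.mpr hbz]
    simp
  · right; left
    refine ⟨?_, hex, hno⟩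
    rw [ConjClasses.mk_eq_mk_iff_isConj.mpr haz]
    have hne : ConjClasses.mk z ≠ ConjClasses.mk b := by
      intro h
      exact hbz (ConjClasses.mk_eq_mk_iff_isConj.mp h).symm
    rw [Set.insert_eq_of_mem (Set.mem_insert _ _)]
    exact Set.ncard_pair hne
  · right; right
    refine ⟨?_, hnpc⟩
    rw [Set.ncard_eq_three]
    refine ⟨_, _, _, ?_, ?_, ?_, rfl⟩
    · intro h; exact haz (ConjClasses.mk_eq_mk_iff_isConj.mp h).symm
    · intro h; exact hbz (ConjClasses.mk_eq_mk_iff_isConj.mp h).symm
    · intro h; exact hab (ConjClasses.mk_eq_mk_iff_isConj.mp h)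

end Cfsg.Agent.S3864
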