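import Cfsg.Statements.S3866
import Mathlib.Tactic.Group
import Mathlib.GroupTheory.Index
import Mathlib.GroupTheory.Commutator.Basic

set_option autoImplicit false
open Cfsg
open scoped commutatorElement

namespace Cfsg.Agent.S3866

theorem result {G : Type*} [Group G] [Finite G] (A : Subgroup G) [A.Normal] (hA : IsMulCommutative A) (x : G) (hgen : A ⊔ Subgroup.zpowers x = ⊤) : (∀ a ∈ A, x * a * x⁻¹ * a⁻¹ ∈ commutator G) ∧ (∀ c ∈ commutator G, ∃ a ∈ A, x * a * x⁻¹ * a⁻¹ = c) ∧ (∀ a ∈ A, ∀ b ∈ A, x * (a * b) * x⁻¹ * (a * b)⁻¹ = (x * a * x⁻¹ * a⁻¹) * (x * b * x⁻¹ * b⁻¹)) ∧ Nat.card (commutator G) * Nat.card ↥(A ⊓ Subgroup.centralizer ({x} : Set G)) = Nat.card A := by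
  have hAn : A.Normal := inferInstance
  have hcomm : ∀ a ∈ A, ∀ b ∈ A, a * b = b * a := fun a ha b hb =>
    congrArg Subtype.val (hA.is_comm.comm ⟨a, ha⟩ ⟨b, hb⟩)
  have hcA : ∀ a ∈ A, x * a * x⁻¹ * a⁻¹ ∈ A := fun a ha =>
    A.mul_mem (hAn.conj_mem a ha x) (A.inv_mem ha)
  have hmul : ∀ a ∈ A, ∀ b ∈ A, x * (a * b) * x⁻¹ * (a * b)⁻¹ = (x * a * x⁻¹ * a⁻¹) * (x * b * x⁻¹ * b⁻¹) := by
    intro a ha b hb
    have h1 := hcomm a⁻¹ (A.inv_mem ha) _ (hcA b hb)
    calc x * (a * b) * x⁻¹ * (a * b)⁻¹ = x * a * x⁻¹ * ((x * b * x⁻¹ * b⁻¹) * a⁻¹) := by group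
      _ = x * a * x⁻¹ * (a⁻¹ * (x * b * x⁻¹ * b⁻¹)) := by rw [h1]
      _ = _ := by group
  -- the homomorphism
  let φ : A →* A :=
    { toFun := fun a => ⟨x * a * x⁻¹ * (a : G)⁻¹, hcA a a.2⟩
      map_one' := by ext; simp
      map_mul' := by
        intro a b
        ext
        simpa using hmul a a.2 b b.2 }
  have hφ : ∀ a : A, (φ a : G) = x * a * x⁻¹ * (a : G)⁻¹ := fun a => rfl
  let K : Subgroup G := φ.range.map A.subtype
  have hKmem : ∀ c : G, c ∈ K ↔ ∃ a ∈ A, x * a * x⁻¹ * a⁻¹ = c := by
    intro c
    constructor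
    · rintro ⟨_, ⟨a, rfl⟩, rfl⟩
      exact ⟨a, a.2, rfl⟩
    · rintro ⟨a, ha, rfl⟩
      exact ⟨φ ⟨a, ha⟩, ⟨⟨a, ha⟩, rfl⟩, rfl⟩
  have hKA : K ≤ A := by
    rintro _ ⟨y, _, rfl⟩
    exact y.2
  have h1 : ∀ a ∈ A, x * a * x⁻¹ * a⁻¹ ∈ commutator G := by
    intro a _
    have : ⁅x, a⁆ ∈ ⁅(⊤ : Subgroup G), (⊤ : Subgroup G)⁆ :=
      Subgroup.commutator_mem_commutator (Subgroup.mem_top x) (Subgroup.mem_top a)
    simpa [commutatorElement_def, commutator_def] using this
  have hKle : K ≤ commutator G := by
    intro c hc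
    obtain ⟨a, ha, rfl⟩ := (hKmem c).mp hc
    exact h1 a ha
  -- K is normal
  have hKnormal : K.Normal := by
    have hN : Subgroup.normalizer (K : Set G) = ⊤ := by
      rw [eq_top_iff, ← hgen, sup_le_iff]
      constructor
      · intro a ha
        rw [Subgroup.mem_normalizer_iff]
        intro k
        constructor
        · intro hk
          have : a * k * a⁻¹ = k := by
            rw [hcomm a ha k (hKA hk)]; group
          rw [this]; exact hk
        · intro hk
          have : a * k * a⁻¹ = k := by
            have hkA : k ∈ A := by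
              have := hAn.conj_mem _ (hKA hk) a⁻¹
              simpa [mul_assoc] using this
            rw [hcomm a ha k hkA]; group
          rw [this] at hk; exact hk
      · rw [Subgroup.zpowers_le]
        have hx1 : ∀ k ∈ K, x * k * x⁻¹ ∈ K := by
          intro k hk
          obtain ⟨a, ha, rfl⟩ := (hKmem k).mp hk
          rw [hKmem]
          exact ⟨x * a * x⁻¹, hAn.conj_mem a ha x, by group⟩
        have hx2 : ∀ k ∈ K, x⁻¹ * k * x ∈ K := by
          intro k hk
          obtain ⟨a, ha, rfl⟩ := (hKmem k).mp hk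
          rw [hKmem]
          refine ⟨x⁻¹ * a * x, ?_, by group⟩
          have := hAn.conj_mem a ha x⁻¹
          simpa using this
        rw [Subgroup.mem_normalizer_iff]
        intro k
        constructor
        · exact hx1 k
        · intro hk
          have := hx2 _ hk
          simpa [mul_assoc] using this
    exact Subgroup.normalizer_eq_top_iff.mp hN
  -- the quotient is commutative
  have hle : commutator G ≤ K := by
    have := hKnormal
    rw [← Subgroup.Normal.quotient_commutative_iff_commutator_le]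
    let π := QuotientGroup.mk' K
    have hxa : ∀ a ∈ A, π x * π a = π a * π x := by
      intro a ha
      have : x * a * x⁻¹ * a⁻¹ ∈ K := (hKmem _).mpr ⟨a, ha, rfl⟩
      have h2 : π (x * a * x⁻¹ * a⁻¹) = 1 := (QuotientGroup.eq_one_iff _).mpr this
      rw [map_mul, map_mul, map_mul, map_inv, map_inv] at h2
      calc π x * π a = (π x * π a * (π x)⁻¹ * (π a)⁻¹) * (π a * π x) := by group
        _ = π a * π x := by rw [h2, one_mul]
    have hall : ∀ (u : G ⧸ K), (∀ a ∈ A, u * π a = π a * u) → (u * π x = π x * u) → ∀ g : G, u * π g = π g * u := by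
      intro u hua hux g
      have : g ∈ (Subgroup.centralizer {u}).comap π := by
        have hle : A ⊔ Subgroup.zpowers x ≤ (Subgroup.centralizer {u}).comap π := by
          rw [sup_le_iff]
          constructor
          · intro a ha
            rw [Subgroup.mem_comap, Subgroup.mem_centralizer_singleton_iff]
            exact (hua a ha).symm
          · rw [Subgroup.zpowers_le, Subgroup.mem_comap, Subgroup.mem_centralizer_singleton_iff]
            exact hux.symm
        exact hle (hgen ▸ Subgroup.mem_top g)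
      rw [Subgroup.mem_comap, Subgroup.mem_centralizer_singleton_iff] at this
      exact this.symm
    have hxall : ∀ g : G, π x * π g = π g * π x := hall (π x) hxa rfl
    have haall : ∀ a ∈ A, ∀ g : G, π a * π g = π g * π a := by
      intro a ha
      apply hall (π a)
      · intro b hb
        rw [← map_mul, ← map_mul, hcomm a ha b hb]
      · exact (hxa a ha).symm
    rw [isMulCommutative_iff]
    intro u v
    obtain ⟨g, rfl⟩ := QuotientGroup.mk'_surjective K u
    obtain ⟨h, rfl⟩ := QuotientGroup.mk'_surjective K v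
    have : ∀ g : G, ∀ h : G, π g * π h = π h * π g := by
      intro g
      have hg : g ∈ (Subgroup.center (G ⧸ K)).comap π := by
        have hle : A ⊔ Subgroup.zpowers x ≤ (Subgroup.center (G ⧸ K)).comap π := by
          rw [sup_le_iff]
          constructor
          · intro a ha
            rw [Subgroup.mem_comap, Subgroup.mem_center_iff]
            intro v
            obtain ⟨h, rfl⟩ := QuotientGroup.mk'_surjective K v
            exact (haall a ha h).symm
          · rw [Subgroup.zpowers_le, Subgroup.mem_comap, Subgroup.mem_center_iff]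
            intro v
            obtain ⟨h, rfl⟩ := QuotientGroup.mk'_surjective K v
            exact (hxall h).symm
        exact hle (hgen ▸ Subgroup.mem_top g)
      rw [Subgroup.mem_comap, Subgroup.mem_center_iff] at hg
      intro h
      exact (hg (π h)).symm
    exact this g h
  have hKeq : K = commutator G := le_antisymm hKle hle
  refine ⟨h1, ?_, hmul, ?_⟩
  · intro c hc
    rw [← hKeq] at hc
    exact (hKmem c).mp hc
  · -- cardinalities
    have hcardK : Nat.card (commutator G) = Nat.card φ.range := by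
      rw [← hKeq]
      exact Nat.card_congr (φ.range.equivMapOfInjective _ A.subtype_injective).symm.toEquiv
    have hker : φ.ker = (A ⊓ Subgroup.centralizer ({x} : Set G)).subgroupOf A := by
      ext a
      rw [MonoidHom.mem_ker, Subgroup.mem_subgroupOf, Subgroup.mem_inf,
        Subgroup.mem_centralizer_singleton_iff]
      constructor
      · intro h
        refine ⟨a.2, ?_⟩
        have h2 : (φ a : G) = 1 := by rw [h]; rfl
        rw [hφ] at h2
        calc (a : G) * x = (x * a * x⁻¹ * (a : G)⁻¹)⁻¹ * (x * a) := by group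
          _ = x * a := by rw [h2, inv_one, one_mul]
      · rintro ⟨_, h⟩
        ext
        rw [hφ, ← h]
        simp
    have hcardker : Nat.card ↥(A ⊓ Subgroup.centralizer ({x} : Set G)) = Nat.card φ.ker := by
      rw [hker]
      exact Nat.card_congr (Subgroup.subgroupOfEquivOfLe inf_le_left).symm.toEquiv
    rw [hcardK, hcardker, ← Subgroup.index_ker, mul_comm]
    exact Subgroup.card_mul_index φ.ker

end Cfsg.Agent.S3866
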