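import Cfsg.Statements.S3867
import Cfsg.Agent.Lib.H21.SylowFrattini
import Cfsg.Agent.Lib.H1.IndexBasic
import Cfsg.Agent.Lib.H19.SylowAux

set_option autoImplicit false
open Cfsg

namespace Cfsg.Agent.S3867

open Cfsg.Agent.Lib.H19

variable {G : Type*} [Group G]

/-- Frattini: `N_G(P K) = N_G(P) K` for a Sylow subgroup `P` and a normal subgroup `K`. -/
theorem normalizer_sup_eq [Finite G] {p : ℕ} [Fact p.Prime] (P : Sylow p G) (K : Subgroup G)
    [K.Normal] :
    Subgroup.normalizer (((P : Subgroup G) ⊔ K : Subgroup G) : Set G) =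
      Subgroup.normalizer ((P : Subgroup G) : Set G) ⊔ K := by
  apply le_antisymm
  · intro g hg
    have hg' := mem_normalizer_iff_map_conj.mp hg
    set Q : Subgroup G := (P : Subgroup G).map (MulAut.conj g).toMonoidHom with hQ
    have hQle : Q ≤ (P : Subgroup G) ⊔ K := by
      rw [← hg']; exact map_conj_le_map_conj le_sup_left g
    have hQp : IsPGroup p Q := P.isPGroup'.map _
    have hPi : ¬ p ∣ (P : Subgroup G).relIndex ((P : Subgroup G) ⊔ K) := fun h =>
      P.not_dvd_index (dvd_trans h (Subgroup.relIndex_dvd_index_of_le le_sup_left))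
    have hQi : ¬ p ∣ Q.relIndex ((P : Subgroup G) ⊔ K) := by
      intro h
      have h1 : Q.index = (P : Subgroup G).index := by
        have e1 := Subgroup.card_mul_index Q
        have e2 := Subgroup.card_mul_index (P : Subgroup G)
        rw [hQ, card_map_conj] at e1
        have hpos : 0 < Nat.card (P : Subgroup G) := Nat.card_pos
        exact Nat.eq_of_mul_eq_mul_left hpos (e1.trans e2.symm)
      apply P.not_dvd_index
      rw [← h1]
      exact dvd_trans h (Subgroup.relIndex_dvd_index_of_le hQle)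
    obtain ⟨k, hk, hkQ⟩ := exists_conj_of_relIndex (le_sup_left : (P : Subgroup G) ≤ _) hQle
      P.isPGroup' hQp hPi hQi
    -- k⁻¹ g normalizes P
    have hn : k⁻¹ * g ∈ Subgroup.normalizer ((P : Subgroup G) : Set G) := by
      rw [mem_normalizer_iff_map_conj, map_conj_mul, ← hQ, hkQ, ← map_conj_mul, inv_mul_cancel,
        map_conj_one]
    obtain ⟨u, hu, v, hv, rfl⟩ := Subgroup.mem_sup_of_normal_right.mp hk
    have : g = u * v * ((u * v)⁻¹ * g) := by group
    rw [this]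
    exact mul_mem (mul_mem (Subgroup.mem_sup_left (Subgroup.le_normalizer hu))
      (Subgroup.mem_sup_right hv)) (Subgroup.mem_sup_left hn)
  · apply sup_le
    · intro g hg
      rw [mem_normalizer_iff_map_conj, Subgroup.map_sup]
      rw [mem_normalizer_iff_map_conj] at hg
      rw [hg]
      congr 1
      have hK : g ∈ Subgroup.normalizer (K : Set G) := by
        rw [Subgroup.normalizer_eq_top]; trivial
      exact mem_normalizer_iff_map_conj.mp hK
    · exact le_trans le_sup_right Subgroup.le_normalizer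

/-- `(P N) ∩ M` is a `p`-group when `M ∩ N = 1`, `M, N` normal. -/
theorem isPGroup_sup_inf {p : ℕ} [Fact p.Prime] (P : Subgroup G) (hP : IsPGroup p P)
    (M N : Subgroup G) [M.Normal] [N.Normal] (hMN : M ⊓ N = ⊥) :
    IsPGroup p ↥((P ⊔ N) ⊓ M) := by
  have hcomm : ∀ m ∈ M, ∀ n ∈ N, Commute m n := by
    intro m hm n hn
    exact Subgroup.commute_of_normal_of_disjoint M N inferInstance inferInstance
      (disjoint_iff.mpr hMN) m n hm hn
  intro y
  have hy1 : (y : G) ∈ P ⊔ N := (Subgroup.mem_inf.1 y.2).1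
  have hy2 : (y : G) ∈ M := (Subgroup.mem_inf.1 y.2).2
  obtain ⟨g, hg, n, hn, hgn⟩ := Subgroup.mem_sup_of_normal_right.mp hy1
  obtain ⟨k, hk⟩ := hP ⟨g, hg⟩
  have hk' : g ^ p ^ k = 1 := by
    have := congrArg Subtype.val hk
    simpa using this
  refine ⟨k, ?_⟩
  apply Subtype.ext
  simp only [Subgroup.coe_pow, Subgroup.coe_one]
  -- y = g n, g = y n⁻¹, commute
  have hc : Commute (y : G) n⁻¹ := (hcomm _ hy2 _ hn).inv_right
  have hg' : g = (y : G) * n⁻¹ := by rw [← hgn]; group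
  rw [hg', hc.mul_pow] at hk'
  -- y^(p^k) = (n⁻¹ ^ p^k)⁻¹ ∈ M ⊓ N
  have h1 : (y : G) ^ p ^ k = ((n⁻¹) ^ p ^ k)⁻¹ := eq_inv_of_mul_eq_one_left hk'
  have h2 : (y : G) ^ p ^ k ∈ M ⊓ N := by
    refine Subgroup.mem_inf.2 ⟨pow_mem hy2 _, ?_⟩
    rw [h1]
    exact inv_mem (pow_mem (inv_mem hn) _)
  rw [hMN, Subgroup.mem_bot] at h2
  exact h2

/-- Key: if `m n` normalizes the Sylow subgroup `P` with `m ∈ M`, `n ∈ N`, then so does `m`. -/
theorem left_mem_normalizer [Finite G] {p : ℕ} [Fact p.Prime] (P : Sylow p G)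
    (M N : Subgroup G) [M.Normal] [N.Normal] (hMN : M ⊓ N = ⊥) (m n : G) (hm : m ∈ M)
    (hn : n ∈ N) (hx : m * n ∈ Subgroup.normalizer ((P : Subgroup G) : Set G)) :
    m ∈ Subgroup.normalizer ((P : Subgroup G) : Set G) := by
  set K : Subgroup G := ((P : Subgroup G) ⊔ N) ⊓ M with hK
  have hKp : IsPGroup p K := isPGroup_sup_inf (P : Subgroup G) P.isPGroup' M N hMN
  -- P normalizes K
  have hPK : (P : Subgroup G) ≤ Subgroup.normalizer (K : Set G) := by
    intro g hg
    rw [mem_normalizer_iff_map_conj, hK, Subgroup.map_inf _ _ _ (MulAut.conj g).injective]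
    have h1 : g ∈ Subgroup.normalizer ((((P : Subgroup G) ⊔ N : Subgroup G)) : Set G) :=
      Subgroup.le_normalizer (Subgroup.mem_sup_left hg)
    have h2 : g ∈ Subgroup.normalizer (M : Set G) := by
      rw [Subgroup.normalizer_eq_top]; trivial
    rw [mem_normalizer_iff_map_conj.mp h1, mem_normalizer_iff_map_conj.mp h2]
  have hsup : IsPGroup p ↥((P : Subgroup G) ⊔ K) :=
    IsPGroup.to_sup_of_normal_right' P.isPGroup' hKp hPK
  have hKP : K ≤ (P : Subgroup G) := by
    have := P.is_maximal' hsup le_sup_left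
    rw [← this]; exact le_sup_right
  apply Subgroup.mem_normalizer_fintype
  intro g hg
  have hg' : g ∈ (P : Subgroup G) := hg
  show m * g * m⁻¹ ∈ (P : Subgroup G)
  -- [m, g] ∈ K
  have h1 : m * g * m⁻¹ * g⁻¹ ∈ M := by
    have : m * g * m⁻¹ * g⁻¹ = m * (g * m⁻¹ * g⁻¹) := by group
    rw [this]
    exact mul_mem hm (Subgroup.Normal.conj_mem inferInstance _ (inv_mem hm) g)
  have h2 : m * g * m⁻¹ ∈ (P : Subgroup G) ⊔ N := by
    -- m = x n⁻¹
    have hx' : m * n ∈ Subgroup.normalizer ((((P : Subgroup G) ⊔ N : Subgroup G)) : Set G) := by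
      rw [normalizer_sup_eq]; exact Subgroup.mem_sup_left hx
    have e : m * g * m⁻¹ = (m * n) * (n⁻¹ * g * n) * (m * n)⁻¹ := by group
    rw [e]
    rw [Subgroup.mem_normalizer_iff] at hx'
    apply (hx' _).mp
    have : n⁻¹ * g * n = g * (g⁻¹ * n⁻¹ * g * n) := by group
    rw [this]
    apply mul_mem (Subgroup.mem_sup_left hg')
    apply Subgroup.mem_sup_right
    have : g⁻¹ * n⁻¹ * g * n = (g⁻¹ * n⁻¹ * g⁻¹⁻¹) * n := by group
    rw [this]
    exact mul_mem (Subgroup.Normal.conj_mem inferInstance _ (inv_mem hn) _) hn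
  have h3 : m * g * m⁻¹ * g⁻¹ ∈ K :=
    Subgroup.mem_inf.2 ⟨mul_mem h2 (inv_mem (Subgroup.mem_sup_left hg')), h1⟩
  have h4 := mul_mem (hKP h3) hg'
  simpa using h4

/-- `|N_{MN}(P)| = |N_M(P)| |N_N(P)|`. -/
theorem card_sup_inf_normalizer [Finite G] {p : ℕ} [Fact p.Prime] (P : Sylow p G)
    (M N : Subgroup G) [M.Normal] [N.Normal] (hMN : M ⊓ N = ⊥) :
    Nat.card ↥((M ⊔ N) ⊓ Subgroup.normalizer ((P : Subgroup G) : Set G)) =
      Nat.card ↥(M ⊓ Subgroup.normalizer ((P : Subgroup G) : Set G)) *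
        Nat.card ↥(N ⊓ Subgroup.normalizer ((P : Subgroup G) : Set G)) := by
  set H := Subgroup.normalizer ((P : Subgroup G) : Set G) with hH
  rw [← Nat.card_prod]
  symm
  have hmem : ∀ x : ↥(M ⊓ H) × ↥(N ⊓ H), (x.1 : G) * (x.2 : G) ∈ (M ⊔ N) ⊓ H := by
    intro x
    have h1 := Subgroup.mem_inf.1 x.1.2
    have h2 := Subgroup.mem_inf.1 x.2.2
    exact Subgroup.mem_inf.2 ⟨mul_mem (Subgroup.mem_sup_left h1.1) (Subgroup.mem_sup_right h2.1),
      mul_mem h1.2 h2.2⟩
  apply Nat.card_congr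
  refine Equiv.ofBijective (fun x => ⟨(x.1 : G) * (x.2 : G), hmem x⟩) ⟨?_, ?_⟩
  · intro x y hxy
    have h := congrArg Subtype.val hxy
    simp only at h
    have hx1 := Subgroup.mem_inf.1 x.1.2
    have hx2 := Subgroup.mem_inf.1 x.2.2
    have hy1 := Subgroup.mem_inf.1 y.1.2
    have hy2 := Subgroup.mem_inf.1 y.2.2
    -- y1⁻¹ x1 = y2 x2⁻¹ ∈ M ⊓ N
    have e : (y.1 : G)⁻¹ * x.1 = (y.2 : G) * (x.2 : G)⁻¹ := by
      have : (x.1 : G) = (y.1 : G) * y.2 * (x.2 : G)⁻¹ := by rw [← h]; group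
      rw [this]; group
    have hm : (y.1 : G)⁻¹ * x.1 ∈ M ⊓ N := by
      refine Subgroup.mem_inf.2 ⟨mul_mem (inv_mem hy1.1) hx1.1, ?_⟩
      rw [e]; exact mul_mem hy2.1 (inv_mem hx2.1)
    rw [hMN, Subgroup.mem_bot] at hm
    have e1 : (x.1 : G) = y.1 := by
      have := inv_mul_eq_one.mp hm; exact this.symm
    have e2 : (x.2 : G) = y.2 := by
      rw [e1] at h; exact mul_left_cancel h
    exact Prod.ext (Subtype.ext e1) (Subtype.ext e2)
  · intro z
    have hz1 : (z : G) ∈ M ⊔ N := (Subgroup.mem_inf.1 z.2).1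
    have hz2 : (z : G) ∈ H := (Subgroup.mem_inf.1 z.2).2
    obtain ⟨m, hm, n, hn, hmn⟩ := Subgroup.mem_sup_of_normal_right.mp hz1
    have hmH : m ∈ H := left_mem_normalizer P M N hMN m n hm hn (hmn ▸ hz2)
    have hnH : n ∈ H := by
      have : n = m⁻¹ * (z : G) := by rw [← hmn]; group
      rw [this]; exact mul_mem (inv_mem hmH) hz2
    exact ⟨(⟨m, Subgroup.mem_inf.2 ⟨hm, hmH⟩⟩, ⟨n, Subgroup.mem_inf.2 ⟨hn, hnH⟩⟩),
      Subtype.ext hmn⟩

/-- `n(G/K) * |H| * |K| = |G| * |K ∩ H|` for `H = N_G(P)`. -/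
theorem card_sylow_quotient_mul [Finite G] {p : ℕ} [Fact p.Prime] (P : Sylow p G)
    (K : Subgroup G) [K.Normal] :
    Nat.card (Sylow p (G ⧸ K)) *
      (Nat.card ↥(Subgroup.normalizer ((P : Subgroup G) : Set G)) * Nat.card K) =
      Nat.card G * Nat.card ↥(K ⊓ Subgroup.normalizer ((P : Subgroup G) : Set G)) := by
  rw [Cfsg.Agent.Lib.H21.card_sylow_quotient K P, normalizer_sup_eq]
  set H := Subgroup.normalizer ((P : Subgroup G) : Set G)
  have h1 := Cfsg.Agent.Lib.H1.card_sup_mul_card_inf H K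
  have h2 := Subgroup.card_mul_index (H ⊔ K)
  rw [← h1, ← h2]
  ring

theorem result {G : Type*} [Group G] [Finite G] (p : ℕ) [Fact p.Prime] (M N : Subgroup G) [M.Normal] [N.Normal] (hM : M ≠ ⊥) (hN : N ≠ ⊥) (hMN : M ⊓ N = ⊥) : Nat.card (Sylow p G) * Nat.card (Sylow p (G ⧸ (M ⊔ N))) = Nat.card (Sylow p (G ⧸ M)) * Nat.card (Sylow p (G ⧸ N)) := by
  obtain ⟨P⟩ : Nonempty (Sylow p G) := inferInstance
  set H := Subgroup.normalizer ((P : Subgroup G) : Set G) with hH
  have e0 : Nat.card (Sylow p G) * Nat.card H = Nat.card G := by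
    rw [P.card_eq_index_normalizer, mul_comm]
    exact Subgroup.card_mul_index _
  have eM := card_sylow_quotient_mul P M
  have eN := card_sylow_quotient_mul P N
  have eMN := card_sylow_quotient_mul P (M ⊔ N)
  rw [card_sup_inf_normalizer P M N hMN] at eMN
  have hcard : Nat.card ↥(M ⊔ N) = Nat.card M * Nat.card N := by
    have := Cfsg.Agent.Lib.H1.card_sup_mul_card_inf M N
    rw [inf_comm, hMN, Subgroup.card_bot, mul_one] at this
    exact this
  rw [hcard] at eMN
  rw [← hH] at eM eN eMN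
  set n0 := Nat.card (Sylow p G)
  set nM := Nat.card (Sylow p (G ⧸ M))
  set nN := Nat.card (Sylow p (G ⧸ N))
  set nMN := Nat.card (Sylow p (G ⧸ (M ⊔ N)))
  set h := Nat.card H
  set a := Nat.card M
  set b := Nat.card N
  set a' := Nat.card ↥(M ⊓ H)
  set b' := Nat.card ↥(N ⊓ H)
  set g := Nat.card G
  have hpos : 0 < h * h * a * b := by
    have h1 : 0 < h := Nat.card_pos
    have h2 : 0 < a := Nat.card_pos
    have h3 : 0 < b := Nat.card_pos
    positivity
  apply Nat.eq_of_mul_eq_mul_right hpos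
  calc n0 * nMN * (h * h * a * b) = (n0 * h) * (nMN * (h * (a * b))) := by ring
    _ = g * (g * (a' * b')) := by rw [e0, eMN]
    _ = (g * a') * (g * b') := by ring
    _ = (nM * (h * a)) * (nN * (h * b)) := by rw [eM, eN]
    _ = nM * nN * (h * h * a * b) := by ring

end Cfsg.Agent.S3867
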