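import Cfsg.Statements.S3868
import Mathlib
import Cfsg.Agent.Lib.H19.MinNonPClosed

set_option autoImplicit false
open Cfsg

namespace Cfsg.Agent.S3868

open Cfsg.Agent.Lib.H19

theorem main {G : Type*} [Group G] [Finite G] {p : ℕ} [hp : Fact p.Prime]
    (hnc : ¬ Cfsg.IsPClosed p G) (hsub : ∀ H : Subgroup G, H ≠ ⊤ → Cfsg.IsPClosed p ↥H)
    (hquo : ∀ (N : Subgroup G) [N.Normal], N ≠ ⊥ → Cfsg.IsPClosed p (G ⧸ N))
    (hns : ¬ IsSimpleGroup G) :
    ∃ q : ℕ, q.Prime ∧ q ≠ p ∧ Nat.card G = p * q ^ orderOf (q : ZMod p) ∧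
      ∃ A : Subgroup G, A.Normal ∧ Nat.card ↥A = q ^ orderOf (q : ZMod p) ∧
        Cfsg.IsElementaryAbelian q A ∧
        ∀ B : Subgroup G, B.Normal → B ≤ A → B = ⊥ ∨ B = A := by
  have hnt : Nontrivial G := by
    by_contra h
    rw [not_nontrivial_iff_subsingleton] at h
    apply hnc
    intro P
    refine ⟨fun n hn g => ?_⟩
    rw [Subsingleton.elim (g * n * g⁻¹) n]; exact hn
  obtain ⟨N, hNn, hNbot, hNtop, hNmin⟩ := exists_minimal_normal_of_not_simple hns
  obtain ⟨P, hPn⟩ := not_forall.1 hnc
  -- `P ⊔ M` is normal for `M` normal, nontrivial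
  have hsupn : ∀ (M : Subgroup G) [M.Normal], M ≠ ⊥ → ((P : Subgroup G) ⊔ M).Normal := by
    intro M _ hM
    have h1 := hquo M hM (P.mapSurjective (QuotientGroup.mk'_surjective M))
    rw [Sylow.coe_mapSurjective] at h1
    have h2 : (((P : Subgroup G).map (QuotientGroup.mk' M)).comap (QuotientGroup.mk' M)).Normal :=
      h1.comap _
    rwa [Subgroup.comap_map_eq, QuotientGroup.ker_mk'] at h2
  -- `P ⊔ N = ⊤`
  have hPN : (P : Subgroup G) ⊔ N = ⊤ := by
    by_contra hne
    have hnorm : ((P : Subgroup G) ⊔ N).Normal := hsupn N hNbot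
    have h1 := hsub _ hne (P.subtype le_sup_left)
    have h2 := Sylow.characteristic_of_normal _ h1
    have h3 : (((P.subtype (le_sup_left : (P : Subgroup G) ≤ (P : Subgroup G) ⊔ N) : Sylow p _) :
        Subgroup ↥((P : Subgroup G) ⊔ N)).map ((P : Subgroup G) ⊔ N).subtype).Normal :=
      ConjAct.normal_of_characteristic_of_normal
    rw [Sylow.coe_subtype, Subgroup.map_subgroupOf_eq_of_le le_sup_left] at h3
    exact hPn h3
  -- `N` is a `p'`-group
  have hNp : ¬ p ∣ Nat.card N := by
    obtain ⟨R⟩ : Nonempty (Sylow p N) := inferInstance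
    have h1 := hsub N hNtop R
    have h2 := Sylow.characteristic_of_normal _ h1
    have h3 : ((R : Subgroup N).map N.subtype).Normal :=
      ConjAct.normal_of_characteristic_of_normal
    rcases hNmin _ h3 (Subgroup.map_subtype_le _) with h | h
    · rw [Subgroup.map_eq_bot_iff_of_injective _ N.subtype_injective] at h
      have h4 := R.not_dvd_index
      rwa [h, Subgroup.index_bot] at h4
    · exfalso
      have hNpg : IsPGroup p N := h ▸ (R.isPGroup'.map N.subtype)
      have h5 : IsPGroup p ((P : Subgroup G) ⊔ N : Subgroup G) :=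
        IsPGroup.to_sup_of_normal_right P.isPGroup' hNpg
      have h6 : (P : Subgroup G) ⊔ N = P := P.is_maximal' h5 le_sup_left
      apply hPn
      rw [← h6, hPN]; infer_instance
  -- the hypothesis on proper subgroups
  have hH : ∀ H P0 : Subgroup G, H ≠ ⊤ → P0 ≤ (P : Subgroup G) → P0 ≤ H → ¬ p ∣ P0.relIndex H →
      H ≤ Subgroup.normalizer (P0 : Set G) := by
    intro H P0 hH hP0 hP0H hidx
    have hpg : IsPGroup p (P0.subgroupOf H) := (P.isPGroup'.to_le hP0).comap_subtype
    have h1 := hsub H hH (hpg.toSylow hidx)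
    exact (Subgroup.normal_subgroupOf_iff_le_normalizer hP0H).1 h1
  obtain ⟨q, hq, hqp, hel, x, hxP, hzx, hxc, hprop⟩ :=
    minNonPClosed_structure (P : Subgroup G) N P.isPGroup' P.not_dvd_index hNp hPN hNbot hNmin hPn hH
  have hdisj : (P : Subgroup G) ⊓ N = ⊥ := by
    apply disjoint_iff.1
    apply Subgroup.disjoint_of_coprime_natCard
    obtain ⟨k, hk⟩ := P.isPGroup'.exists_card_eq
    rw [hk]
    exact Nat.Coprime.pow_left k ((Nat.Prime.coprime_iff_not_dvd hp.out).2 hNp)
  -- `C_P(N) = 1`
  have hC : (P : Subgroup G) ⊓ Subgroup.centralizer (N : Set G) = ⊥ := by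
    by_contra hCne
    have hCn : ((P : Subgroup G) ⊓ Subgroup.centralizer (N : Set G)).Normal := by
      rw [← Subgroup.normalizer_eq_top_iff, eq_top_iff, ← hPN]
      apply sup_le
      · intro a ha
        rw [Subgroup.mem_normalizer_iff]
        intro y
        have hcn : (Subgroup.centralizer (N : Set G)).Normal := Subgroup.normal_centralizer
        constructor
        · rintro ⟨h1, h2⟩
          exact ⟨(P : Subgroup G).mul_mem ((P : Subgroup G).mul_mem ha h1)
            ((P : Subgroup G).inv_mem ha), hcn.conj_mem y h2 a⟩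
        · rintro ⟨h1, h2⟩
          have hy : y = a⁻¹ * (a * y * a⁻¹) * a := by group
          refine ⟨?_, ?_⟩
          · rw [hy]
            exact (P : Subgroup G).mul_mem ((P : Subgroup G).mul_mem
              ((P : Subgroup G).inv_mem ha) h1) ha
          · have := hcn.conj_mem _ h2 a⁻¹
            rw [inv_inv] at this
            rw [hy]; exact this
      · intro n hn
        rw [Subgroup.mem_normalizer_iff]
        intro y
        constructor
        · rintro ⟨h1, h2⟩
          have : n * y * n⁻¹ = y := by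
            rw [(Subgroup.mem_centralizer_iff.1 h2) n hn]; group
          rw [this]; exact ⟨h1, h2⟩
        · rintro ⟨h1, h2⟩
          have h3 : y = n⁻¹ * (n * y * n⁻¹) * n := by group
          have h4 : n⁻¹ * (n * y * n⁻¹) * n = n * y * n⁻¹ := by
            rw [mul_assoc, ← (Subgroup.mem_centralizer_iff.1 h2) n hn]; group
          rw [h3, h4]; exact ⟨h1, h2⟩
    have h1 := hsupn _ hCne
    rw [sup_of_le_left inf_le_left] at h1
    exact hPn h1
  -- `|P| = p`
  have hPbot : (P : Subgroup G) ≠ ⊥ := by
    intro h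
    apply hPn
    rw [h]; infer_instance
  have hPcard : Nat.card (P : Subgroup G) = p := by
    have hdvd : p ∣ Nat.card (P : Subgroup G) := by
      rcases P.isPGroup'.card_eq_or_dvd with h | h
      · exact absurd (Subgroup.card_eq_one.1 h) hPbot
      · exact h
    obtain ⟨y, hy⟩ := exists_prime_orderOf_dvd_card' (G := (P : Subgroup G)) p hdvd
    have hy' : orderOf (y : G) = p := by rw [Subgroup.orderOf_coe]; exact hy
    have hzy : Subgroup.zpowers (y : G) = P := by
      by_contra hne
      have hle : Subgroup.zpowers (y : G) ≤ P := (Subgroup.zpowers_le).2 y.2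
      have h1 := hprop _ (lt_of_le_of_ne hle hne)
      have h2 : (y : G) ∈ (P : Subgroup G) ⊓ Subgroup.centralizer (N : Set G) :=
        ⟨y.2, h1 (Subgroup.mem_zpowers _)⟩
      rw [hC, Subgroup.mem_bot] at h2
      rw [h2, orderOf_one] at hy'
      exact hp.out.one_lt.ne hy'
    rw [← hzy, Nat.card_zpowers, hy']
  obtain ⟨h1, h2⟩ := minNonPClosed_final hq hqp (P : Subgroup G) N hPcard hdisj hPN hPn hel hNmin
  exact ⟨q, hq, hqp, h1, N, hNn, h2, hel, hNmin⟩

/-- Structure of the non-simple minimal non-p-closed groups. Call a finite group p-closed when its Sylow p-subgroups are normal, and minimal non-p-closed when it is not p-closed but every proper subgroup and every proper quotient is. If such a group G is not simple, then there is a prime q ≠ p such that G has order p · q^e, where e is the multiplicative order of q modulo p, and G has a normal subgroup A of order q^e that is elementary abelian and is a minimal normal subgroup of G (so G is the semidirect product of A by a group of order p acting irreducibly).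 -/
theorem result {G : Type*} [Group G] [Finite G] {p : ℕ} [Fact p.Prime]
    (hnc : ¬ Cfsg.IsPClosed p G) (hsub : ∀ H : Subgroup G, H ≠ ⊤ → Cfsg.IsPClosed p ↥H)
    (hquo : ∀ (N : Subgroup G) [N.Normal], N ≠ ⊥ → Cfsg.IsPClosed p (G ⧸ N)) (hns : ¬ IsSimpleGroup G) :
    ∃ q : ℕ, q.Prime ∧ q ≠ p ∧ Nat.card G = p * q ^ orderOf (q : ZMod p) ∧
      ∃ A : Subgroup G, A.Normal ∧ Nat.card ↥A = q ^ orderOf (q : ZMod p) ∧ Cfsg.IsElementaryAbelian q A ∧
        ∀ B : Subgroup G, B.Normal → B ≤ A → B = ⊥ ∨ B = A :=
  main hnc hsub hquo hns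

end Cfsg.Agent.S3868
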