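import Cfsg.Statements.S3870
import Cfsg.Agent.Lib.H19.SylowAux

set_option autoImplicit false
open Cfsg
open Cfsg.Agent.Lib.H19

namespace Cfsg.Agent.S3870

/-- in a `p`-closed subgroup `N` of `G`, every `p`-subgroup of `G` inside `N` lies in the image of
a fixed Sylow `p`-subgroup of `N`. -/
theorem le_of_pclosed {G : Type*} [Group G] [Finite G] {p : ℕ} [Fact p.Prime] (N : Subgroup G)
    (hcl : Cfsg.IsPClosed p ↥N) (S₀ : Sylow p N) (X : Subgroup G) (hX : IsPGroup p X) (hXN : X ≤ N) :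
    X ≤ (S₀ : Subgroup N).map N.subtype := by
  have hX' : IsPGroup p (X.subgroupOf N) := hX.comap_subtype
  obtain ⟨S', hS'⟩ := hX'.exists_le_sylow
  have hn : (S₀ : Subgroup N).Normal := hcl S₀
  obtain ⟨g, hg⟩ := MulAction.exists_smul_eq N S₀ S'
  rw [Sylow.smul_eq_of_normal] at hg
  rw [← hg] at hS'
  intro x hx
  exact ⟨⟨x, hXN hx⟩, hS' (Subgroup.mem_subgroupOf.mpr hx), rfl⟩

theorem result {G : Type*} [Group G] [Finite G] [IsSimpleGroup G] {p : ℕ} [Fact p.Prime]
    (hnc : ¬ Cfsg.IsPClosed p G) (hsub : ∀ H : Subgroup G, H ≠ ⊤ → Cfsg.IsPClosed p ↥H) :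
    (∀ P Q : Sylow p G, P ≠ Q → (P : Subgroup G) ⊓ (Q : Subgroup G) = ⊥) ∧
      ∀ (P : Sylow p G) (R : Subgroup G), R ≤ P → R ≠ ⊥ →
        Subgroup.normalizer (R : Set G) ≤ Subgroup.normalizer ((P : Subgroup G) : Set G) := by
  have hle_eq : ∀ P Q : Sylow p G, (P : Subgroup G) ≤ Q → P = Q := by
    intro P Q h
    exact Sylow.ext (P.is_maximal' Q.isPGroup' h).symm
  -- key step
  have key : ∀ P Q : Sylow p G, P ≠ Q → (P : Subgroup G) ⊓ (Q : Subgroup G) ≠ ⊥ →
      (∀ P' Q' : Sylow p G, P' ≠ Q' → (P' : Subgroup G) ⊓ (Q' : Subgroup G) ≠ ⊥ →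
        Nat.card ((P' : Subgroup G) ⊓ (Q' : Subgroup G) : Subgroup G) ≤
          Nat.card ((P : Subgroup G) ⊓ (Q : Subgroup G) : Subgroup G)) → False := by
    intro P Q hPQ hD hmax
    set D : Subgroup G := (P : Subgroup G) ⊓ (Q : Subgroup G) with hDdef
    have hDP : D < P := by
      refine lt_of_le_of_ne inf_le_left ?_
      intro h
      apply hPQ
      apply hle_eq
      rw [← h]; exact inf_le_right
    have hDQ : D < Q := by
      refine lt_of_le_of_ne inf_le_right ?_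
      intro h
      apply hPQ
      symm
      apply hle_eq
      rw [← h]; exact inf_le_left
    have hN : Subgroup.normalizer (D : Set G) ≠ ⊤ := by
      intro htop
      have hDn : D.Normal := Subgroup.normalizer_eq_top_iff.mp htop
      rcases hDn.eq_bot_or_eq_top with h | h
      · exact hD h
      · exact hDP.ne (le_antisymm hDP.le (h ▸ le_top))
    set N := Subgroup.normalizer (D : Set G) with hNdef
    have hcl := hsub N hN
    obtain ⟨S₀⟩ : Nonempty (Sylow p N) := inferInstance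
    have hS₀p : IsPGroup p ((S₀ : Subgroup N).map N.subtype) := S₀.isPGroup'.map _
    obtain ⟨P', hP'⟩ := hS₀p.exists_le_sylow
    have hmain : ∀ P₁ : Sylow p G, D < P₁ → P' = P₁ := by
      intro P₁ hDP₁
      by_contra hne
      obtain ⟨x, hxP, hxN, hxD⟩ := exists_mem_normalizer_not_mem P₁.isPGroup' hDP₁
      have h1 : (P₁ : Subgroup G) ⊓ N ≤ (S₀ : Subgroup N).map N.subtype :=
        le_of_pclosed N hcl S₀ _ P₁.isPGroup'.to_inf_left inf_le_right
      have h2 : (P₁ : Subgroup G) ⊓ N ≤ (P' : Subgroup G) ⊓ (P₁ : Subgroup G) :=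
        le_inf (le_trans h1 hP') inf_le_left
      have h3 : D < (P' : Subgroup G) ⊓ (P₁ : Subgroup G) := by
        refine lt_of_lt_of_le ?_ h2
        refine lt_of_le_of_ne (le_inf hDP₁.le Subgroup.le_normalizer) ?_
        intro h
        apply hxD
        rw [h]
        exact ⟨hxP, hxN⟩
      have h4 : (P' : Subgroup G) ⊓ (P₁ : Subgroup G) ≠ ⊥ := by
        intro h
        rw [h] at h3
        exact not_lt_bot h3
      have h5 := hmax P' P₁ hne h4
      have h6 := card_lt_of_lt h3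
      omega
    exact hPQ ((hmain P hDP).symm.trans (hmain Q hDQ))
  have hTI : ∀ P Q : Sylow p G, P ≠ Q → (P : Subgroup G) ⊓ (Q : Subgroup G) = ⊥ := by
    by_contra hcon
    let S : Set (Sylow p G × Sylow p G) := {x | x.1 ≠ x.2 ∧ (x.1 : Subgroup G) ⊓ (x.2 : Subgroup G) ≠ ⊥}
    have hSne : S.Nonempty := by
      by_contra hempty
      apply hcon
      intro P Q hPQ
      by_contra h
      exact hempty ⟨(P, Q), hPQ, h⟩
    obtain ⟨⟨P, Q⟩, ⟨hPQ, hD⟩, hmax⟩ := Set.exists_max_image S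
      (fun x => Nat.card ((x.1 : Subgroup G) ⊓ (x.2 : Subgroup G) : Subgroup G)) (Set.toFinite S) hSne
    exact key P Q hPQ hD (fun P' Q' h1 h2 => hmax (P', Q') ⟨h1, h2⟩)
  refine ⟨hTI, ?_⟩
  intro P R hRP hR g hg
  by_contra hgP
  have hne : g • P ≠ P := fun h => hgP (Sylow.smul_eq_iff_mem_normalizer.mp h)
  have h1 := hTI (g • P) P hne
  apply hR
  rw [eq_bot_iff, ← h1]
  refine le_inf ?_ hRP
  intro y hy
  rw [Sylow.coe_subgroup_smul, Subgroup.mem_pointwise_smul_iff_inv_smul_mem]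
  apply hRP
  have hg' : g⁻¹ ∈ Subgroup.normalizer (R : Set G) := inv_mem hg
  have := (Subgroup.mem_normalizer_iff.mp hg' y).mp hy
  simpa [MulAut.smul_def, MulAut.conj_apply] using this

end Cfsg.Agent.S3870
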