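import Cfsg.Statements.S3872
import Cfsg.Agent.Lib.H9.PolySeq
import Cfsg.Agent.Lib.H22.UniqueOrderP
import Cfsg.Agent.Lib.H1.PGroupBasic
-- import your own Cfsg.Agent.* helpers here

set_option autoImplicit false
open Cfsg

namespace Cfsg.Agent.S3872

theorem card_mul_le_of_lt {G : Type*} [Group G] [Finite G] {p : ℕ} [hp : Fact p.Prime]
    (hG : IsPGroup p G) {H K : Subgroup G} (h : H < K) : Nat.card H * p ≤ Nat.card K := by
  obtain ⟨a, ha⟩ := IsPGroup.iff_card.1 (hG.to_subgroup H)
  obtain ⟨b, hb⟩ := IsPGroup.iff_card.1 (hG.to_subgroup K)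
  have hdvd : Nat.card H ∣ Nat.card K := Subgroup.card_dvd_of_le h.le
  rw [ha, hb] at hdvd ⊢
  have hab : a ≤ b := (Nat.pow_dvd_pow_iff_le_right hp.out.one_lt).mp hdvd
  have hne : a ≠ b := by
    intro hab'
    have : H = K := Subgroup.eq_of_le_of_card_ge h.le (by rw [ha, hb, hab'])
    exact h.ne this
  rw [← pow_succ]
  exact Nat.pow_le_pow_right hp.out.pos (by omega)

theorem lcs_eq_bot_of_eq_succ {G : Type*} [Group G] [hn : Group.IsNilpotent G] {i : ℕ}
    (h : (⊤ : Subgroup G).lowerCentralSeries (i + 1) = (⊤ : Subgroup G).lowerCentralSeries i) :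
    (⊤ : Subgroup G).lowerCentralSeries i = ⊥ := by
  have key : ∀ j, (⊤ : Subgroup G).lowerCentralSeries (i + j) =
      (⊤ : Subgroup G).lowerCentralSeries i := by
    intro j
    induction j with
    | zero => rfl
    | succ j ih =>
      rw [← add_assoc, Subgroup.lowerCentralSeries_succ, ih, ← Subgroup.lowerCentralSeries_succ, h]
  obtain ⟨n, hn'⟩ := Subgroup.nilpotent_iff_lowerCentralSeries.1 hn
  have h1 : (⊤ : Subgroup G).lowerCentralSeries (i + n) ≤ (⊤ : Subgroup G).lowerCentralSeries n :=
    Subgroup.lowerCentralSeries_antitone _ (by omega)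
  rw [key n, hn'] at h1
  exact le_bot_iff.1 h1

theorem normal_of_le_center' {G : Type*} [Group G] {K : Subgroup G}
    (hK : K ≤ Subgroup.center G) : K.Normal := by
  refine ⟨fun n hn g => ?_⟩
  have := Subgroup.mem_center_iff.1 (hK hn) g
  rw [this, mul_inv_cancel_right]
  exact hn


/-- Say that a finite group is p-exponent closed when its elements of order dividing p form a subgroup. Let G be a finite p-group that is not p-exponent closed, but all of whose proper subgroups and proper quotients are. Then G is generated by two elements, has nilpotency class at least p, has exponent p², has cyclic center, and has order at least p^(p+1). -/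
theorem result {G : Type*} [Group G] [Finite G] {p : ℕ} [Fact p.Prime] (hG : IsPGroup p G)
    (hnc : ¬ (∃ H : Subgroup G, (H : Set G) = {g : G | g ^ p = 1})) (hsub : ∀ K : Subgroup G, K ≠ ⊤ → (∃ H : Subgroup ↥K, (H : Set ↥K) = {g : ↥K | g ^ p = 1}))
    (hquo : ∀ (N : Subgroup G) [N.Normal], N ≠ ⊥ → (∃ H : Subgroup (G ⧸ N), (H : Set (G ⧸ N)) = {g : (G ⧸ N) | g ^ p = 1})) :
    (∃ x y : G, Subgroup.closure ({x, y} : Set G) = ⊤) ∧ (⊤ : Subgroup G).lowerCentralSeries (p - 1) ≠ ⊥ ∧
      Monoid.exponent G = p ^ 2 ∧ IsCyclic ↥(Subgroup.center G) ∧ p ^ (p + 1) ≤ Nat.card G := by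
  have hp : p.Prime := Fact.out
  -- Step 0
  obtain ⟨a, b, ha, hb, hab⟩ : ∃ a b : G, a ^ p = 1 ∧ b ^ p = 1 ∧ (a * b) ^ p ≠ 1 := by
    by_contra hcon
    push Not at hcon
    apply hnc
    refine ⟨{ carrier := {g : G | g ^ p = 1}, mul_mem' := ?_, one_mem' := ?_, inv_mem' := ?_ }, rfl⟩
    · intro x y hx hy; exact hcon x y hx hy
    · exact one_pow p
    · intro x hx
      show (x⁻¹) ^ p = 1
      rw [inv_pow, hx, inv_one]
  -- Step 1
  have hgen : Subgroup.closure ({a, b} : Set G) = ⊤ := by
    by_contra hK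
    obtain ⟨H, hH⟩ := hsub _ hK
    have haK : a ∈ Subgroup.closure ({a, b} : Set G) := Subgroup.subset_closure (by simp)
    have hbK : b ∈ Subgroup.closure ({a, b} : Set G) := Subgroup.subset_closure (by simp)
    have h1 : (⟨a, haK⟩ : Subgroup.closure ({a, b} : Set G)) ∈ H := by
      rw [← SetLike.mem_coe, hH]
      show _ ^ p = 1
      ext; simpa using ha
    have h2 : (⟨b, hbK⟩ : Subgroup.closure ({a, b} : Set G)) ∈ H := by
      rw [← SetLike.mem_coe, hH]
      show _ ^ p = 1
      ext; simpa using hb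
    have h3 := H.mul_mem h1 h2
    rw [← SetLike.mem_coe, hH] at h3
    have h4 : ((⟨a, haK⟩ : Subgroup.closure ({a, b} : Set G)) * ⟨b, hbK⟩) ^ p = 1 := h3
    apply hab
    have := congrArg Subtype.val h4
    simpa using this
  have hmem : ∀ g : G, g ∈ Subgroup.closure ({a, b} : Set G) := fun g => by
    rw [hgen]; exact Subgroup.mem_top g
  -- Step 2
  have hpow : ∀ (N : Subgroup G), N.Normal → N ≠ ⊥ → ∀ g : G, g ^ p ∈ N := by
    intro N hN hNbot g
    obtain ⟨H, hH⟩ := hquo N hNbot
    have h1 : (QuotientGroup.mk' N a) ∈ H := by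
      rw [← SetLike.mem_coe, hH]
      show _ ^ p = 1
      rw [← map_pow, ha, map_one]
    have h2 : (QuotientGroup.mk' N b) ∈ H := by
      rw [← SetLike.mem_coe, hH]
      show _ ^ p = 1
      rw [← map_pow, hb, map_one]
    have h3 : (Subgroup.closure ({a, b} : Set G)).map (QuotientGroup.mk' N) ≤ H := by
      rw [MonoidHom.map_closure, Subgroup.closure_le]
      rintro _ ⟨x, hx, rfl⟩
      rcases hx with rfl | rfl
      · exact h1
      · exact h2
    have h4 : QuotientGroup.mk' N g ∈ H := h3 (Subgroup.mem_map_of_mem _ (hmem g))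
    rw [← SetLike.mem_coe, hH] at h4
    have h5 : (QuotientGroup.mk' N g) ^ p = 1 := h4
    rw [← map_pow] at h5
    exact (QuotientGroup.eq_one_iff _).1 h5
  have hnontriv : Nontrivial G := by
    refine ⟨⟨a * b, 1, ?_⟩⟩
    intro h
    apply hab
    rw [h, one_pow]
  -- not cyclic
  have hncyc : ¬ IsCyclic G := by
    intro hc
    apply hab
    have hcomm : Commute a b := by
      let _ := IsCyclic.commGroup (α := G)
      exact mul_comm a b
    rw [hcomm.mul_pow, ha, hb, one_mul]
  -- Step 3: exponent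
  have hexp : Monoid.exponent G = p ^ 2 := by
    have hcn : Nontrivial (Subgroup.center G) := hG.center_nontrivial
    have hdvd : p ∣ Nat.card (Subgroup.center G) := by
      obtain ⟨n, hn⟩ := IsPGroup.iff_card.1 (hG.to_subgroup (Subgroup.center G))
      rw [hn]
      have : n ≠ 0 := by
        intro h0
        rw [h0, pow_zero] at hn
        have := Finite.one_lt_card (α := Subgroup.center G)
        omega
      exact dvd_pow_self p this
    obtain ⟨z, hz⟩ := exists_prime_orderOf_dvd_card' p hdvd
    have hzo : orderOf (z : G) = p := by rw [Subgroup.orderOf_coe, hz]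
    have hN : (Subgroup.zpowers (z : G)).Normal :=
      normal_of_le_center' (by rw [Subgroup.zpowers_le]; exact z.2)
    have hNbot : Subgroup.zpowers (z : G) ≠ ⊥ := by
      intro h
      rw [Subgroup.zpowers_eq_bot] at h
      rw [h, orderOf_one] at hzo
      exact hp.one_lt.ne hzo
    have hcardN : Nat.card (Subgroup.zpowers (z : G)) = p := by rw [Nat.card_zpowers, hzo]
    have h1 : ∀ g : G, g ^ (p ^ 2) = 1 := by
      intro g
      have := hpow _ hN hNbot g
      have h2 : (⟨g ^ p, this⟩ : Subgroup.zpowers (z : G)) ^ p = 1 := by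
        have h3 := pow_card_eq_one' (G := Subgroup.zpowers (z : G)) (x := ⟨g ^ p, this⟩)
        rwa [hcardN] at h3
      have := congrArg Subtype.val h2
      rw [pow_two, pow_mul]
      simpa using this
    have h2 : Monoid.exponent G ∣ p ^ 2 := Monoid.exponent_dvd_of_forall_pow_eq_one h1
    obtain ⟨i, hi, hie⟩ := (Nat.dvd_prime_pow hp).1 h2
    have h3 : ¬ Monoid.exponent G ∣ p := by
      intro h
      apply hab
      obtain ⟨t, ht⟩ := h
      rw [ht, pow_mul, Monoid.pow_exponent_eq_one, one_pow]
    interval_cases i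
    · exfalso; apply h3; rw [hie]; simp
    · exfalso; apply h3; rw [hie]; simp
    · exact hie
  -- Step 4: cyclic centre
  have hcyc : IsCyclic ↥(Subgroup.center G) := by
    apply Cfsg.Agent.Lib.H22.isCyclic_of_comm_of_atMostOne (p := p)
      (hG.to_subgroup (Subgroup.center G))
    · intro H K hH hK
      by_contra hne
      set H' := H.map (Subgroup.center G).subtype with hH'
      set K' := K.map (Subgroup.center G).subtype with hK'
      have hcH : Nat.card H' = p := by
        rw [hH', Subgroup.card_map_of_injective (Subgroup.subtype_injective _), hH]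
      have hcK : Nat.card K' = p := by
        rw [hK', Subgroup.card_map_of_injective (Subgroup.subtype_injective _), hK]
      have hHn : H'.Normal := normal_of_le_center' (by
        rw [hH']; rintro _ ⟨x, _, rfl⟩; exact x.2)
      have hKn : K'.Normal := normal_of_le_center' (by
        rw [hK']; rintro _ ⟨x, _, rfl⟩; exact x.2)
      have hHb : H' ≠ ⊥ := by
        intro h; rw [h, Subgroup.card_bot] at hcH; exact hp.one_lt.ne hcH
      have hKb : K' ≠ ⊥ := by
        intro h; rw [h, Subgroup.card_bot] at hcK; exact hp.one_lt.ne hcK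
      have hne' : H' ≠ K' := by
        intro h
        exact hne (Subgroup.map_injective (Subgroup.subtype_injective _) h)
      have hinf : H' ⊓ K' = ⊥ := by
        by_contra hb
        have h1 : Nat.card ↥(H' ⊓ K') ∣ p := by
          rw [← hcH]; exact Subgroup.card_dvd_of_le inf_le_left
        rcases (Nat.dvd_prime hp).1 h1 with h2 | h2
        · exact hb (Subgroup.card_eq_one.1 h2)
        · have e1 : H' ⊓ K' = H' := Subgroup.eq_of_le_of_card_ge inf_le_left (by rw [h2, hcH])
          have e2 : H' ⊓ K' = K' := Subgroup.eq_of_le_of_card_ge inf_le_right (by rw [h2, hcK])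
          exact hne' (e1.symm.trans e2)
      apply hab
      have h1 : (a * b) ^ p ∈ H' ⊓ K' := ⟨hpow _ hHn hHb _, hpow _ hKn hKb _⟩
      rw [hinf] at h1
      exact Subgroup.mem_bot.1 h1
    · intro x y
      ext
      simp only [Subgroup.coe_mul]
      exact (Subgroup.mem_center_iff.1 y.2 x)
  -- Step 5: class ≥ p
  have hcl : (⊤ : Subgroup G).lowerCentralSeries (p - 1) ≠ ⊥ := by
    intro hcl
    obtain ⟨c, hc, heq⟩ := Cfsg.Agent.Lib.H9.PolySeq.regular_formula hp hcl a b 1
    have hza : Subgroup.zpowers a ≠ ⊤ := by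
      intro h
      apply hncyc
      exact ⟨⟨a, fun x => by
        have : x ∈ Subgroup.zpowers a := by rw [h]; exact Subgroup.mem_top x
        exact this⟩⟩
    rcases eq_top_or_exists_le_coatom (Subgroup.zpowers a) with h | ⟨M, hM, haM⟩
    · exact hza h
    have hMn : M.Normal := Cfsg.Agent.Lib.H1.isPGroup_coatom_normal hG hM
    obtain ⟨H₀, hH₀⟩ := hsub M hM.1
    have hmemH₀ : ∀ x : G, ∀ hx : x ∈ M, x ^ p = 1 → (⟨x, hx⟩ : M) ∈ H₀ := by
      intro x hx hxp
      rw [← SetLike.mem_coe, hH₀]
      show _ ^ p = 1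
      ext; simpa using hxp
    have hpowH₀ : ∀ x ∈ H₀.map M.subtype, x ^ p = 1 := by
      rintro _ ⟨x, hx, rfl⟩
      rw [hH₀] at hx
      have h1 : x ^ p = 1 := hx
      have := congrArg Subtype.val h1
      simpa using this
    have haM' : a ∈ M := haM (Subgroup.mem_zpowers a)
    have hncl : Subgroup.normalClosure ({a} : Set G) ≤ H₀.map M.subtype := by
      unfold Subgroup.normalClosure
      rw [Subgroup.closure_le]
      intro x hx
      rw [Group.mem_conjugatesOfSet_iff] at hx
      obtain ⟨y, hy, hconj⟩ := hx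
      rw [Set.mem_singleton_iff] at hy
      subst hy
      rw [isConj_iff] at hconj
      obtain ⟨g, rfl⟩ := hconj
      have h1 : g * y * g⁻¹ ∈ M := hMn.conj_mem y haM' g
      refine ⟨⟨_, h1⟩, hmemH₀ _ h1 ?_, rfl⟩
      rw [conj_pow, ha, mul_one, mul_inv_cancel]
    have hcomm : commutator G ≤ Subgroup.normalClosure ({a} : Set G) := by
      apply Subgroup.Normal.commutator_le_of_self_sup_commutative_eq_top (H := Subgroup.zpowers b)
      · rw [eq_top_iff, ← hgen, Subgroup.closure_le]
        rintro x hx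
        rcases hx with rfl | rfl
        · exact (le_sup_left : _ ≤ Subgroup.normalClosure ({x} : Set G) ⊔ Subgroup.zpowers b)
            (Subgroup.subset_normalClosure (Set.mem_singleton x))
        · exact (le_sup_right : _ ≤ Subgroup.normalClosure ({a} : Set G) ⊔ Subgroup.zpowers x)
            (Subgroup.mem_zpowers x)
      · infer_instance
    have hc1 : c = 1 := by
      have : Subgroup.closure {z : G | ∃ u ∈ commutator G, z = u ^ (p ^ 1)} ≤ ⊥ := by
        rw [Subgroup.closure_le]
        rintro z ⟨u, hu, rfl⟩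
        rw [pow_one, hpowH₀ u (hncl (hcomm hu))]
        exact Subgroup.mem_bot.2 rfl
      exact Subgroup.mem_bot.1 (this hc)
    apply hab
    rw [pow_one, ha, hb, hc1] at heq
    simpa using heq
  refine ⟨⟨a, b, hgen⟩, hcl, hexp, hcyc, ?_⟩
  -- Step 6: order
  have hnil : Group.IsNilpotent G := hG.isNilpotent
  have hchain : ∀ k i : ℕ, i + k = p - 1 →
      p ^ (k + 1) ≤ Nat.card ((⊤ : Subgroup G).lowerCentralSeries i) := by
    intro k
    induction k with
    | zero =>
      intro i hi
      rw [add_zero] at hi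
      rw [hi, zero_add, pow_one]
      have h1 : Nat.card ((⊤ : Subgroup G).lowerCentralSeries (p - 1)) ≠ 1 := by
        intro h; exact hcl (Subgroup.card_eq_one.1 h)
      obtain ⟨n, hn⟩ := IsPGroup.iff_card.1
        (hG.to_subgroup ((⊤ : Subgroup G).lowerCentralSeries (p - 1)))
      rw [hn] at h1 ⊢
      have : n ≠ 0 := by intro h0; rw [h0, pow_zero] at h1; exact h1 rfl
      calc p = p ^ 1 := (pow_one p).symm
        _ ≤ p ^ n := Nat.pow_le_pow_right hp.pos (by omega)
    | succ k ih =>
      intro i hi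
      have h1 := ih (i + 1) (by omega)
      have hlt : (⊤ : Subgroup G).lowerCentralSeries (i + 1) <
          (⊤ : Subgroup G).lowerCentralSeries i := by
        refine lt_of_le_of_ne (Subgroup.lowerCentralSeries_antitone _ (by omega)) ?_
        intro h
        have h2 := lcs_eq_bot_of_eq_succ h
        have h3 : (⊤ : Subgroup G).lowerCentralSeries (p - 1) ≤
            (⊤ : Subgroup G).lowerCentralSeries i :=
          Subgroup.lowerCentralSeries_antitone _ (by omega)
        rw [h2] at h3
        exact hcl (le_bot_iff.1 h3)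
      have h2 := card_mul_le_of_lt hG hlt
      calc p ^ (k + 1 + 1) = p ^ (k + 1) * p := pow_succ _ _
        _ ≤ Nat.card ((⊤ : Subgroup G).lowerCentralSeries (i + 1)) * p :=
          Nat.mul_le_mul_right _ h1
        _ ≤ _ := h2
  have hp2 : 2 ≤ p := hp.two_le
  have h1 := hchain (p - 2) 1 (by omega)
  rw [show p - 2 + 1 = p - 1 by omega] at h1
  obtain ⟨M₁, M₂, hne, hM₁, hM₂⟩ := Cfsg.Agent.Lib.H22.exists_two_index_p hG hncyc
  have hc1 : commutator G ≤ M₁ := Cfsg.Agent.Lib.H22.commutator_le_of_index_eq_prime hG M₁ hM₁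
  have hc2 : commutator G ≤ M₂ := Cfsg.Agent.Lib.H22.commutator_le_of_index_eq_prime hG M₂ hM₂
  have hlt : M₁ ⊓ M₂ < M₁ := by
    refine lt_of_le_of_ne inf_le_left ?_
    intro h
    have h12 : M₁ ≤ M₂ := by rw [← h]; exact inf_le_right
    apply hne
    apply Subgroup.eq_of_le_of_card_ge h12
    have e1 := M₁.card_mul_index
    have e2 := M₂.card_mul_index
    rw [hM₁] at e1
    rw [hM₂, ← e1] at e2
    exact (Nat.eq_of_mul_eq_mul_right hp.pos e2).le
  have h2 := card_mul_le_of_lt hG hlt
  have h3 : Nat.card (commutator G) ≤ Nat.card ↥(M₁ ⊓ M₂) :=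
    Nat.le_of_dvd Nat.card_pos (Subgroup.card_dvd_of_le (le_inf hc1 hc2))
  have h4 := M₁.card_mul_index
  rw [hM₁] at h4
  have h5 : (⊤ : Subgroup G).lowerCentralSeries 1 = commutator G :=
    Subgroup.top_lowerCentralSeries_one
  rw [h5] at h1
  calc p ^ (p + 1) = p ^ (p - 1) * p * p := by
        rw [show p + 1 = (p - 1) + 1 + 1 by omega, pow_succ, pow_succ]
    _ ≤ Nat.card (commutator G) * p * p := by
        exact Nat.mul_le_mul_right _ (Nat.mul_le_mul_right _ h1)
    _ ≤ Nat.card ↥(M₁ ⊓ M₂) * p * p := by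
        exact Nat.mul_le_mul_right _ (Nat.mul_le_mul_right _ h3)
    _ ≤ Nat.card M₁ * p := Nat.mul_le_mul_right _ h2
    _ = Nat.card G := h4

end Cfsg.Agent.S3872
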