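import Cfsg.Statements.S3873
import Mathlib
import Cfsg.Agent.Lib.H19.MinNonPClosed

set_option autoImplicit false
open Cfsg

namespace Cfsg.Agent.S3873

open Cfsg.Agent.Lib.H19

theorem main {G : Type*} [Group G] [Finite G] {p : ℕ} [hp : Fact p.Prime]
    (hnc : ¬ (∃ H : Subgroup G, (H : Set G) = {g : G | g ^ p = 1}))
    (hsub : ∀ K : Subgroup G, K ≠ ⊤ → (∃ H : Subgroup ↥K, (H : Set ↥K) = {g : ↥K | g ^ p = 1}))
    (hquo : ∀ (N : Subgroup G) [N.Normal], N ≠ ⊥ →
      (∃ H : Subgroup (G ⧸ N), (H : Set (G ⧸ N)) = {g : (G ⧸ N) | g ^ p = 1}))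
    (hns : ¬ IsSimpleGroup G) (hnp : ¬ IsPGroup p G) :
    ∃ q : ℕ, q.Prime ∧ q ≠ p ∧ Nat.card G = p * q ^ orderOf (q : ZMod p) ∧
      ∃ A : Subgroup G, A.Normal ∧ Nat.card ↥A = q ^ orderOf (q : ZMod p) ∧
        Cfsg.IsElementaryAbelian q A ∧
        ∀ B : Subgroup G, B.Normal → B ≤ A → B = ⊥ ∨ B = A := by
  have hnt : Nontrivial G := by
    by_contra h
    rw [not_nontrivial_iff_subsingleton] at h
    apply hnp
    intro g
    exact ⟨0, Subsingleton.elim _ _⟩
  obtain ⟨N, hNn, hNbot, hNtop, hNmin⟩ := exists_minimal_normal_of_not_simple hns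
  -- every `p`-th power lies in `N`
  have hpow : ∀ g : G, g ^ p ∈ N := by
    obtain ⟨T', hT'⟩ := hquo N hNbot
    have hmemT' : ∀ y : G ⧸ N, y ∈ T' ↔ y ^ p = 1 := by
      intro y
      have : y ∈ (T' : Set (G ⧸ N)) ↔ y ∈ {g : (G ⧸ N) | g ^ p = 1} := by rw [hT']
      exact this
    have hTtop : T'.comap (QuotientGroup.mk' N) = ⊤ := by
      by_contra hne
      obtain ⟨H, hH⟩ := hsub _ hne
      have hmemH : ∀ y : ↥(T'.comap (QuotientGroup.mk' N)), y ∈ H ↔ y ^ p = 1 := by
        intro y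
        have : y ∈ (H : Set _) ↔ y ∈ {g : ↥(T'.comap (QuotientGroup.mk' N)) | g ^ p = 1} := by
          rw [hH]
        exact this
      apply hnc
      refine ⟨H.map (Subgroup.subtype _), ?_⟩
      ext g
      simp only [SetLike.mem_coe, Subgroup.mem_map, Set.mem_ofPred_eq]
      constructor
      · rintro ⟨y, hy, rfl⟩
        have := (hmemH y).1 hy
        exact congrArg Subtype.val this
      · intro hg
        have hgT : g ∈ T'.comap (QuotientGroup.mk' N) := by
          rw [Subgroup.mem_comap, hmemT', ← map_pow, hg, map_one]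
        refine ⟨⟨g, hgT⟩, (hmemH _).2 ?_, rfl⟩
        exact Subtype.ext hg
    intro g
    have hg : g ∈ T'.comap (QuotientGroup.mk' N) := by rw [hTtop]; trivial
    rw [Subgroup.mem_comap, hmemT', ← map_pow] at hg
    exact (QuotientGroup.eq_one_iff _).1 hg
  -- `N` is a `p'`-group
  have hNp : ¬ p ∣ Nat.card N := by
    obtain ⟨H, hH⟩ := hsub N hNtop
    have hmemH : ∀ y : ↥N, y ∈ H ↔ y ^ p = 1 := by
      intro y
      have : y ∈ (H : Set _) ↔ y ∈ {g : ↥N | g ^ p = 1} := by rw [hH]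
      exact this
    have hBn : (H.map N.subtype).Normal := by
      refine ⟨fun b hb g => ?_⟩
      obtain ⟨y, hy, rfl⟩ := hb
      have hmem : g * (y : G) * g⁻¹ ∈ N := hNn.conj_mem _ y.2 g
      refine ⟨⟨_, hmem⟩, (hmemH _).2 ?_, rfl⟩
      apply Subtype.ext
      have h1 := (hmemH y).1 hy
      have h2 : (y : G) ^ p = 1 := congrArg Subtype.val h1
      show (g * (y : G) * g⁻¹) ^ p = 1
      rw [conj_pow, h2, mul_one, mul_inv_cancel]
    rcases hNmin _ hBn (Subgroup.map_subtype_le _) with h | h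
    · rw [Subgroup.map_eq_bot_iff_of_injective _ N.subtype_injective] at h
      intro hdvd
      obtain ⟨y, hy⟩ := exists_prime_orderOf_dvd_card' (G := N) p hdvd
      have hyH : y ∈ H := by
        rw [hmemH, ← hy]; exact pow_orderOf_eq_one y
      rw [h, Subgroup.mem_bot] at hyH
      rw [hyH, orderOf_one] at hy
      exact hp.out.one_lt.ne hy
    · exfalso
      apply hnp
      intro g
      refine ⟨2, ?_⟩
      have hg : g ^ p ∈ H.map N.subtype := by rw [h]; exact hpow g
      obtain ⟨y, hy, hyg⟩ := hg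
      have h1 := (hmemH y).1 hy
      have h2 : (y : G) ^ p = 1 := congrArg Subtype.val h1
      have h3 : (N.subtype y : G) = (y : G) := rfl
      rw [pow_two, pow_mul, ← hyg, h3, h2]
  obtain ⟨P⟩ : Nonempty (Sylow p G) := inferInstance
  have hdisj : (P : Subgroup G) ⊓ N = ⊥ := by
    apply disjoint_iff.1
    apply Subgroup.disjoint_of_coprime_natCard
    obtain ⟨k, hk⟩ := P.isPGroup'.exists_card_eq
    rw [hk]
    exact Nat.Coprime.pow_left k ((Nat.Prime.coprime_iff_not_dvd hp.out).2 hNp)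
  -- `P` has exponent `p`
  have hexp : ∀ x ∈ (P : Subgroup G), x ^ p = 1 := by
    intro x hx
    have : x ^ p ∈ (P : Subgroup G) ⊓ N := ⟨(P : Subgroup G).pow_mem hx p, hpow x⟩
    rwa [hdisj, Subgroup.mem_bot] at this
  -- `P ⊔ N = ⊤`
  have hPN : (P : Subgroup G) ⊔ N = ⊤ := by
    have hq : IsPGroup p (G ⧸ N) := by
      intro y
      obtain ⟨g, rfl⟩ := QuotientGroup.mk_surjective y
      refine ⟨1, ?_⟩
      rw [pow_one, ← QuotientGroup.mk_pow]
      exact (QuotientGroup.eq_one_iff _).2 (hpow g)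
    obtain ⟨n, hn⟩ := hq.exists_card_eq
    have h1 : ((P : Subgroup G) ⊔ N).index ∣ p ^ n := by
      rw [← hn, ← Subgroup.index_eq_card]
      exact Subgroup.index_dvd_of_le le_sup_right
    have h2 : ((P : Subgroup G) ⊔ N).index ∣ (P : Subgroup G).index :=
      Subgroup.index_dvd_of_le le_sup_left
    obtain ⟨j, _, hj⟩ := (Nat.dvd_prime_pow hp.out).1 h1
    rcases Nat.eq_zero_or_pos j with hj0 | hj0
    · rw [hj0, pow_zero] at hj
      exact Subgroup.index_eq_one.1 hj
    · exfalso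
      apply P.not_dvd_index
      refine dvd_trans ?_ h2
      rw [hj]; exact dvd_pow_self p hj0.ne'
  -- `P` is not normal
  have hPn : ¬ (P : Subgroup G).Normal := by
    intro hn
    apply hnc
    refine ⟨P, ?_⟩
    ext g
    simp only [SetLike.mem_coe, Set.mem_ofPred_eq]
    constructor
    · exact hexp g
    · intro hg
      have hz : IsPGroup p (Subgroup.zpowers g) := by
        rintro ⟨y, hy⟩
        obtain ⟨k, rfl⟩ := Subgroup.mem_zpowers_iff.1 hy
        refine ⟨1, Subtype.ext ?_⟩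
        show (g ^ k) ^ p ^ 1 = 1
        rw [pow_one, ← zpow_natCast, ← zpow_mul, mul_comm, zpow_mul, zpow_natCast, hg, one_zpow]
      have h5 : IsPGroup p (Subgroup.zpowers g ⊔ (P : Subgroup G) : Subgroup G) :=
        IsPGroup.to_sup_of_normal_right hz P.isPGroup'
      have h6 : Subgroup.zpowers g ⊔ (P : Subgroup G) = P := P.is_maximal' h5 le_sup_right
      rw [← h6]
      exact Subgroup.mem_sup_left (Subgroup.mem_zpowers g)
  -- the hypothesis on proper subgroups
  have hH : ∀ H P0 : Subgroup G, H ≠ ⊤ → P0 ≤ (P : Subgroup G) → P0 ≤ H → ¬ p ∣ P0.relIndex H →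
      H ≤ Subgroup.normalizer (P0 : Set G) := by
    intro H P0 hH hP0 hP0H hidx
    have hpg : IsPGroup p (P0.subgroupOf H) := (P.isPGroup'.to_le hP0).comap_subtype
    obtain ⟨Ω, hΩ⟩ := hsub H hH
    have hmemΩ : ∀ y : ↥H, y ∈ Ω ↔ y ^ p = 1 := by
      intro y
      have : y ∈ (Ω : Set _) ↔ y ∈ {g : ↥H | g ^ p = 1} := by rw [hΩ]
      exact this
    have hΩp : IsPGroup p Ω := by
      intro y
      refine ⟨1, ?_⟩
      rw [pow_one]
      exact Subtype.ext ((hmemΩ y.1).1 y.2)
    have hle : ((hpg.toSylow hidx : Sylow p H) : Subgroup H) ≤ Ω := by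
      intro y hy
      have hy' : (y : G) ∈ P0 := hy
      rw [hmemΩ]
      exact Subtype.ext (hexp _ (hP0 hy'))
    have heq : Ω = ((hpg.toSylow hidx : Sylow p H) : Subgroup H) :=
      (hpg.toSylow hidx).is_maximal' hΩp hle
    have hΩn : Ω.Normal := by
      refine ⟨fun b hb g => ?_⟩
      rw [hmemΩ] at hb ⊢
      rw [conj_pow, hb, mul_one, mul_inv_cancel]
    rw [heq] at hΩn
    exact (Subgroup.normal_subgroupOf_iff_le_normalizer hP0H).1 hΩn
  obtain ⟨q, hq, hqp, hel, x, hxP, hzx, hxc, hprop⟩ :=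
    minNonPClosed_structure (P : Subgroup G) N P.isPGroup' P.not_dvd_index hNp hPN hNbot hNmin hPn hH
  have hPcard : Nat.card (P : Subgroup G) = p := by
    have hx1 : x ≠ 1 := by
      rintro rfl
      exact hxc (Subgroup.one_mem _)
    rw [← hzx, Nat.card_zpowers]
    exact orderOf_eq_prime (hexp x hxP) hx1
  obtain ⟨h1, h2⟩ := minNonPClosed_final hq hqp (P : Subgroup G) N hPcard hdisj hPN hPn hel hNmin
  exact ⟨q, hq, hqp, h1, N, hNn, h2, hel, hNmin⟩

/-- Say that a finite group is p-exponent closed when its elements of order dividing p form a subgroup. Let G be a finite group that is not p-exponent closed, but all of whose proper subgroups and proper quotients are, and suppose G is neither simple nor a p-group. Then there is a prime q ≠ p such that G has order p · q^e, where e is the multiplicative order of q modulo p, and G has a normal elementary abelian subgroup of order q^e that is a minimal normal subgroup of G. -/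
theorem result {G : Type*} [Group G] [Finite G] {p : ℕ} [Fact p.Prime]
    (hnc : ¬ (∃ H : Subgroup G, (H : Set G) = {g : G | g ^ p = 1})) (hsub : ∀ K : Subgroup G, K ≠ ⊤ → (∃ H : Subgroup ↥K, (H : Set ↥K) = {g : ↥K | g ^ p = 1}))
    (hquo : ∀ (N : Subgroup G) [N.Normal], N ≠ ⊥ → (∃ H : Subgroup (G ⧸ N), (H : Set (G ⧸ N)) = {g : (G ⧸ N) | g ^ p = 1}))
    (hns : ¬ IsSimpleGroup G) (hnp : ¬ IsPGroup p G) :
    ∃ q : ℕ, q.Prime ∧ q ≠ p ∧ Nat.card G = p * q ^ orderOf (q : ZMod p) ∧
      ∃ A : Subgroup G, A.Normal ∧ Nat.card ↥A = q ^ orderOf (q : ZMod p) ∧ Cfsg.IsElementaryAbelian q A ∧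
        ∀ B : Subgroup G, B.Normal → B ≤ A → B = ⊥ ∨ B = A :=
  main hnc hsub hquo hns hnp

end Cfsg.Agent.S3873
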