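import Mathlib
import Cfsg.Statements.S3878
import Cfsg.Agent.Lib.H19.SylowAux
import Cfsg.Agent.Lib.H19.SymCover

set_option autoImplicit false
open Cfsg
open scoped Pointwise

namespace Cfsg.Agent.S3878

open Cfsg.Agent.Lib.H19 Cfsg.Agent.Lib.H19.SymCover Equiv Equiv.Perm MulAction



section general
variable {G : Type*} [Group G] [Finite G] {π : Set ℕ}

/-- π-subgroups of a finite group: there is a maximal one above any given one -/
theorem exists_maximal_ge (K : Subgroup G) (hK : IsPiSubgroup π K) :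
    ∃ M : Subgroup G, K ≤ M ∧ Maximal (IsPiSubgroup π) M := by
  have : Finite (Subgroup G) := inferInstance
  obtain ⟨M, hKM, hM⟩ := (Set.toFinite {L : Subgroup G | IsPiSubgroup π L}).exists_le_maximal
    (show K ∈ {L : Subgroup G | IsPiSubgroup π L} from hK)
  exact ⟨M, hKM, hM⟩

theorem isPiSubgroup_of_isPGroup {p : ℕ} [Fact p.Prime] (hp : p ∈ π) {K : Subgroup G}
    (hK : IsPGroup p K) : IsPiSubgroup π K := by
  intro q hq hqK
  obtain ⟨n, hn⟩ := hK.exists_card_eq
  rw [hn] at hqK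
  have := (Nat.prime_dvd_prime_iff_eq hq Fact.out).mp (hq.dvd_of_dvd_pow hqK)
  exact this ▸ hp

/-- `D_π` implies `E_π` -/
theorem ePi_of_dPi (h : IsDPiGroup π G) : IsEPiGroup π G := by
  obtain ⟨M, -, hM⟩ := exists_maximal_ge (π := π) (⊥ : Subgroup G) (by
    intro q hq hqK
    rw [Subgroup.card_bot] at hqK
    exact absurd (Nat.dvd_one.mp hqK) hq.ne_one)
  refine ⟨M, hM.prop, ?_⟩
  intro p hp hpπ hdvd
  have : Fact p.Prime := ⟨hp⟩
  obtain ⟨R⟩ : Nonempty (Sylow p G) := inferInstance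
  obtain ⟨M', hRM', hM'⟩ := exists_maximal_ge (π := π) (R : Subgroup G)
    (isPiSubgroup_of_isPGroup hpπ R.isPGroup')
  obtain ⟨g, hg⟩ := h M' M hM' hM
  have hcard : Nat.card M = Nat.card M' := by
    rw [hg]
    exact Nat.card_congr ((MulAut.conj g).toEquiv.image (M' : Set G)).symm
  have hidx : M.index = M'.index := by
    have h1 := M.card_mul_index
    have h2 := M'.card_mul_index
    rw [hcard] at h1
    have hpos : 0 < Nat.card M' := Nat.card_pos
    exact Nat.eq_of_mul_eq_mul_left hpos (h1.trans h2.symm)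
  rw [hidx] at hdvd
  exact R.not_dvd_index (dvd_trans hdvd (Subgroup.index_dvd_of_le hRM'))

end general


section general
variable {G : Type*} [Group G] [Finite G] {π : Set ℕ}

theorem isPGroup_of_isPiSubgroup {p : ℕ} [Fact p.Prime]
    (hone : ∀ q : ℕ, q.Prime → q ∈ π → q = p) {K : Subgroup G}
    (hK : IsPiSubgroup π K) : IsPGroup p K := by
  rw [IsPGroup.iff_card]
  have hne : Nat.card K ≠ 0 := Nat.card_pos.ne'
  refine ⟨(Nat.card K).factorization p, ?_⟩
  refine Nat.eq_pow_of_factorization_eq_single hne ?_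
  ext q
  by_cases hq : q = p
  · subst hq; simp
  · rw [Finsupp.single_apply, if_neg (Ne.symm hq)]
    by_contra h0
    have hqp : q.Prime := Nat.prime_of_mem_primeFactors (Nat.support_factorization _ ▸
      Finsupp.mem_support_iff.mpr h0)
    have hqd : q ∣ Nat.card K := Nat.dvd_of_factorization_pos h0
    exact hq (hone q hqp (hK q hqp hqd))

theorem dPi_of_cond (h : (∀ p q : ℕ, p.Prime → q.Prime → p ∈ π → q ∈ π → p = q) ∨
    ∀ p : ℕ, p.Prime → p ∈ π) : IsDPiGroup π G := by
  intro H K hH hK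
  rcases h with h | h
  · by_cases hex : ∃ p : ℕ, p.Prime ∧ p ∈ π
    · obtain ⟨p, hp, hpπ⟩ := hex
      have : Fact p.Prime := ⟨hp⟩
      have hone : ∀ q : ℕ, q.Prime → q ∈ π → q = p := fun q hq hqπ => h q p hq hp hqπ hpπ
      have mk : ∀ L : Subgroup G, Maximal (IsPiSubgroup π) L → ∃ S : Sylow p G, (S : Subgroup G) = L := by
        intro L hL
        refine ⟨⟨L, isPGroup_of_isPiSubgroup hone hL.prop, ?_⟩, rfl⟩
        intro Q hQ hLQ
        exact le_antisymm (hL.le_of_ge (isPiSubgroup_of_isPGroup hpπ hQ) hLQ) hLQ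
      obtain ⟨P, rfl⟩ := mk H hH
      obtain ⟨Q, rfl⟩ := mk K hK
      obtain ⟨g, hg⟩ := MulAction.exists_smul_eq G P Q
      refine ⟨g, ?_⟩
      rw [← hg, Sylow.coe_subgroup_smul, Subgroup.pointwise_smul_def]
      rfl
    · push Not at hex
      have triv : ∀ L : Subgroup G, IsPiSubgroup π L → L = ⊥ := by
        intro L hL
        rw [← Subgroup.card_eq_one]
        by_contra hne
        obtain ⟨q, hq, hqd⟩ := Nat.exists_prime_and_dvd hne
        exact hex q hq (hL q hq hqd)
      refine ⟨1, ?_⟩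
      rw [triv H hH.prop, triv K hK.prop]
      simp
  · have top : ∀ L : Subgroup G, Maximal (IsPiSubgroup π) L → L = ⊤ := by
      intro L hL
      exact top_le_iff.mp (hL.le_of_ge (fun q hq _ => h q hq) le_top)
    refine ⟨1, ?_⟩
    rw [top H hH, top K hK]
    simp

end general



section general
variable {G : Type*} [Group G] [Finite G] {π : Set ℕ}

/-- a Hall π-subgroup contains a conjugate of every `p`-element, `p ∈ π` -/
theorem hall_conj_mem {H : Subgroup G} (hH : IsPiHall π H) {p : ℕ} [Fact p.Prime] (hp : p ∈ π)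
    (g : G) (hg : IsPGroup p (Subgroup.zpowers g)) : ∃ x : G, x * g * x⁻¹ ∈ H := by
  obtain ⟨R, hR⟩ := hg.exists_le_sylow
  obtain ⟨x, hx⟩ := exists_conj_le_of_not_dvd_index R H (hH.2 p Fact.out hp)
  refine ⟨x, hx ?_⟩
  exact ⟨g, hR (Subgroup.mem_zpowers g), rfl⟩

theorem hall_conj_mem' {H : Subgroup G} (hH : IsPiHall π H) {p : ℕ} (hpp : p.Prime) (hp : p ∈ π)
    (g : G) (hg : orderOf g = p) : ∃ x : G, x * g * x⁻¹ ∈ H := by
  have : Fact p.Prime := ⟨hpp⟩
  apply hall_conj_mem hH hp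
  rw [IsPGroup.iff_card]
  exact ⟨1, by rw [Nat.card_zpowers, hg, pow_one]⟩

end general

variable {q : ℕ}

/-- a subgroup of `Perm (Fin q)`, `q` prime, containing a full cycle is primitive -/
theorem preprim_of_full_cycle (hq : q.Prime) (H : Subgroup (Perm (Fin q))) (c : Perm (Fin q))
    (hc : c.IsCycle) (hsupp : ∀ x, c x ≠ x) (hcH : c ∈ H) : IsPreprimitive H (Fin q) := by
  have : IsPretransitive H (Fin q) := by
    constructor
    intro x y
    obtain ⟨i, hi⟩ := hc.exists_pow_eq (hsupp x) (hsupp y)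
    exact ⟨⟨c ^ i, H.pow_mem hcH i⟩, hi⟩
  apply IsPreprimitive.of_prime_card
  rwa [Nat.card_eq_fintype_card, Fintype.card_fin]

theorem sg_isCycle {n p : ℕ} (hp : 2 ≤ p ∧ p ≤ n) : (sg n p ⟨by omega, hp.2⟩).IsCycle := by
  have : NeZero n := ⟨by omega⟩
  rw [sg]
  apply Fin.isCycle_cycleRange
  intro h0
  have := congrArg Fin.val h0
  simp at this
  omega

/-- a Hall π-subgroup of `Perm (Fin q)` with `q ∈ π` prime is primitive -/
theorem hall_preprim {π : Set ℕ} (hq : q.Prime) (hqπ : q ∈ π) {H : Subgroup (Perm (Fin q))}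
    (hH : IsPiHall π H) : IsPreprimitive H (Fin q) := by
  have h2 := hq.two_le
  obtain ⟨x, hx⟩ := hall_conj_mem' hH hq hqπ (sg q q ⟨by omega, le_rfl⟩) (orderOf_sg ⟨h2, le_rfl⟩)
  refine preprim_of_full_cycle hq H _ ((sg_isCycle ⟨h2, le_rfl⟩).conj) ?_ hx
  intro y hy
  have : sg q q ⟨by omega, le_rfl⟩ (x⁻¹ y) = x⁻¹ y := by
    have := congrArg (x⁻¹ : Perm (Fin q)) hy
    simpa using this
  rw [sg_fixed_iff ⟨h2, le_rfl⟩] at this
  have := (x⁻¹ y).2
  omega

theorem caseII {π : Set ℕ} (h2 : 2 ∈ π) (h3 : 3 ∉ π) (hq : q.Prime) (hq5 : 5 ≤ q) (hqπ : q ∈ π) :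
    ¬ IsEPiGroup π (Perm (Fin q)) := by
  rintro ⟨H, hH⟩
  have hprim := hall_preprim hq hqπ hH
  obtain ⟨x, hx⟩ := hall_conj_mem' hH Nat.prime_two h2 (swap (⟨0, by omega⟩ : Fin q) ⟨1, by omega⟩)
    (IsSwap.orderOf ⟨_, _, by intro h; simpa using congrArg Fin.val h, rfl⟩)
  have hsw : IsSwap (x * swap (⟨0, by omega⟩ : Fin q) ⟨1, by omega⟩ * x⁻¹) := by
    rw [← card_support_eq_two, card_support_conj, card_support_eq_two]
    exact ⟨_, _, by intro h; simpa using congrArg Fin.val h, rfl⟩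
  have htop := subgroup_eq_top_of_isPreprimitive_of_isSwap_mem hprim _ hsw hx
  apply h3
  apply hH.1 3 Nat.prime_three
  rw [htop, Subgroup.card_top, Nat.card_perm, Nat.card_eq_fintype_card, Fintype.card_fin]
  exact Nat.dvd_factorial (by norm_num) (by omega)

theorem caseIII {π : Set ℕ} {p : ℕ} (h2 : 2 ∉ π) (hp : p.Prime) (hq : q.Prime) (hp2 : p ≠ 2)
    (hpq : p < q) (hpπ : p ∈ π) (hqπ : q ∈ π) :
    ¬ IsEPiGroup π (Perm (Fin q)) := by
  rintro ⟨H, hH⟩
  have hprim := hall_preprim hq hqπ hH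
  have hp2' := hp.two_le
  have hq2 : q ≠ 2 := by omega
  have hqodd := hq.odd_of_ne_two hq2
  have hpodd := hp.odd_of_ne_two hp2
  have hqp : p + 2 ≤ q := by
    rcases hqodd with ⟨a, ha⟩
    rcases hpodd with ⟨b, hb⟩
    omega
  obtain ⟨x, hx⟩ := hall_conj_mem' hH hp hpπ (sg q p ⟨by omega, by omega⟩)
    (orderOf_sg ⟨hp2', by omega⟩)
  set g := x * sg q p ⟨by omega, by omega⟩ * x⁻¹ with hg
  have hgc : g.IsCycle := (sg_isCycle ⟨hp2', by omega⟩).conj
  have hgs : g.support.card = p := by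
    rw [← hgc.orderOf, hg]
    have := orderOf_conj_eq x (sg q p ⟨by omega, by omega⟩)
    rw [this, orderOf_sg ⟨hp2', by omega⟩]
  have htr := isPretransitive_of_isCycle_mem hgc hx
  have hsn : ((g.support : Set (Fin q))ᶜ).ncard = (q - p - 1) + 1 := by
    have h1 := Set.ncard_add_ncard_compl (g.support : Set (Fin q))
    rw [Set.ncard_coe_finset, hgs, Nat.card_eq_fintype_card, Fintype.card_fin] at h1
    omega
  have h2t : IsMultiplyPretransitive H (Fin q) 2 :=
    hprim.is_two_pretransitive hsn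
      (by rw [Nat.card_eq_fintype_card, Fintype.card_fin]; omega) htr
  rw [is_two_pretransitive_iff] at h2t
  have h01 : (⟨0, by omega⟩ : Fin q) ≠ ⟨1, by omega⟩ := by
    intro h; simpa using congrArg Fin.val h
  obtain ⟨⟨h, hhH⟩, e1, e2⟩ := h2t h01 h01.symm
  apply h2
  apply hH.1 2 Nat.prime_two
  have hord : 2 ∣ orderOf h := by
    by_contra hodd
    have hodd' : Odd (orderOf h) := Nat.odd_iff.mpr (Nat.two_dvd_ne_zero.mp hodd)
    obtain ⟨k, hk⟩ := hodd'
    -- h swaps 0 and 1, so odd powers send 0 to 1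
    have hpow : ∀ j : ℕ, (h ^ (2 * j + 1)) (⟨0, by omega⟩ : Fin q) = ⟨1, by omega⟩ := by
      intro j
      induction j with
      | zero => simpa using e1
      | succ j ih =>
        have : h ^ (2 * (j + 1) + 1) = h * h * h ^ (2 * j + 1) := by
          rw [show 2 * (j + 1) + 1 = 1 + 1 + (2 * j + 1) by ring, pow_add, pow_add, pow_one]
        rw [this, Perm.mul_apply, Perm.mul_apply, ih]
        have e1' : h ⟨0, by omega⟩ = (⟨1, by omega⟩ : Fin q) := e1
        have e2' : h ⟨1, by omega⟩ = (⟨0, by omega⟩ : Fin q) := e2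
        rw [e2', e1']
    have := hpow k
    rw [← hk, pow_orderOf_eq_one] at this
    exact h01 (by simp at this)
  have : orderOf h ∣ Nat.card H := by
    have := orderOf_dvd_natCard (⟨h, hhH⟩ : H)
    rwa [Subgroup.orderOf_mk] at this
  exact dvd_trans hord this



theorem simple_card_le {G : Type*} [Group G] [Finite G] [IsSimpleGroup G] (H : Subgroup G)
    (hHtop : H ≠ ⊤) : Nat.card G ≤ (H.index).factorial := by
  have hcore : H.normalCore = ⊥ := by
    rcases (H.normalCore_normal).eq_bot_or_eq_top with h | h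
    · exact h
    · exact absurd (top_le_iff.mp (h ▸ H.normalCore_le)) hHtop
  have hinj : Function.Injective (MulAction.toPermHom G (G ⧸ H)) := by
    rw [← MonoidHom.ker_eq_bot_iff, ← Subgroup.normalCore_eq_ker, hcore]
  have h1 := Nat.card_le_card_of_injective _ hinj
  rwa [Nat.card_perm] at h1

theorem hall_simple {G : Type*} [Group G] [Finite G] [IsSimpleGroup G] {π : Set ℕ} {r : ℕ}
    (hr : r.Prime) (hr5 : 5 ≤ r) (hrπ : r ∉ π)
    (hlt : ∀ ℓ : ℕ, ℓ.Prime → ℓ < r → ℓ ∈ π) (hcardG : 2 * Nat.card G = (r + 1).factorial) :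
    ¬ IsEPiGroup π G := by
  rintro ⟨H, hH⟩
  have hr2 : r ≠ 2 := by omega
  have hrodd := hr.odd_of_ne_two hr2
  -- r divides |G|
  have hrG : r ∣ Nat.card G := by
    have h1 : r ∣ 2 * Nat.card G := by
      rw [hcardG]; exact Nat.dvd_factorial hr.pos (by omega)
    exact (Nat.Coprime.dvd_mul_left ((Nat.coprime_primes hr Nat.prime_two).mpr hr2)).mp h1
  have hrH : ¬ r ∣ Nat.card H := fun h => hrπ (hH.1 r hr h)
  have hmul := H.card_mul_index
  have hrI : r ∣ H.index := by
    rw [← hmul] at hrG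
    exact (hr.dvd_mul.mp hrG).resolve_left hrH
  -- the index is a power of r
  have hIpos : H.index ≠ 0 := Subgroup.index_ne_zero_of_finite
  have hfac : ∀ ℓ : ℕ, ℓ.Prime → ℓ ∣ H.index → ℓ = r := by
    intro ℓ hℓ hd
    have h1 : ℓ ∣ (r + 1).factorial := by
      rw [← hcardG, ← hmul]
      exact dvd_mul_of_dvd_right (dvd_mul_of_dvd_right hd _) _
    have h2 : ℓ ≤ r + 1 := (hℓ.dvd_factorial).mp h1
    have h3 : ℓ ≠ r + 1 := by
      intro h
      rcases hrodd with ⟨a, ha⟩
      have : ℓ = 2 * (a + 1) := by omega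
      have := (Nat.prime_dvd_prime_iff_eq Nat.prime_two hℓ).mp ⟨a + 1, this⟩
      omega
    by_contra hne
    have : ℓ < r := by omega
    exact hH.2 ℓ hℓ (hlt ℓ hℓ this) hd
  have hIle : H.index ∣ r := by
    have h1 : H.index = r ^ (H.index.factorization r) := by
      apply Nat.eq_pow_of_factorization_eq_single hIpos
      ext ℓ
      by_cases hℓ : ℓ = r
      · subst hℓ; simp
      · rw [Finsupp.single_apply, if_neg (Ne.symm hℓ)]
        by_contra h0
        have hℓp : ℓ.Prime := Nat.prime_of_mem_primeFactors (Nat.support_factorization _ ▸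
          Finsupp.mem_support_iff.mpr h0)
        exact hℓ (hfac ℓ hℓp (Nat.dvd_of_factorization_pos h0))
    have h2 : H.index.factorization r ≤ 1 := by
      have hd : H.index ∣ (r + 1).factorial := by
        rw [← hcardG, ← hmul]
        exact dvd_mul_of_dvd_right (dvd_mul_left _ _) _
      have := (Nat.factorization_le_iff_dvd hIpos (Nat.factorial_ne_zero _)).mpr hd r
      rwa [factorization_factorial_prime hr (by omega) (by omega)] at this
    rw [h1]
    exact (pow_dvd_pow r h2).trans (by rw [pow_one])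
  have hIeq : H.index = r := by
    rcases (Nat.dvd_prime hr).mp hIle with h | h
    · rw [h] at hrI
      exact absurd (Nat.dvd_one.mp hrI) hr.ne_one
    · exact h
  have hHtop : H ≠ ⊤ := by
    intro h
    rw [h, Subgroup.index_top] at hIeq
    omega
  have hle := simple_card_le H hHtop
  rw [hIeq] at hle
  have : (r + 1).factorial = (r + 1) * r.factorial := Nat.factorial_succ r
  have hpos := Nat.factorial_pos r
  nlinarith

theorem caseI {π : Set ℕ} {r : ℕ} (hr : r.Prime) (hr5 : 5 ≤ r) (hrπ : r ∉ π)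
    (hlt : ∀ ℓ : ℕ, ℓ.Prime → ℓ < r → ℓ ∈ π) :
    ¬ IsEPiGroup π (alternatingGroup (Fin (r + 1))) := by
  have : Nontrivial (Fin (r + 1)) := Fin.nontrivial_iff_two_le.mpr (by omega)
  have hcardG : 2 * Nat.card (alternatingGroup (Fin (r + 1))) = (r + 1).factorial := by
    have := two_mul_nat_card_alternatingGroup (α := Fin (r + 1))
    rw [this, Nat.card_perm, Nat.card_eq_fintype_card, Fintype.card_fin]
  have hsimple : IsSimpleGroup (alternatingGroup (Fin (r + 1))) :=
    alternatingGroup.isSimpleGroup (by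
      rw [Nat.card_eq_fintype_card, Fintype.card_fin]; omega)
  exact hall_simple hr hr5 hrπ hlt hcardG


theorem cond_of_ePi (π : Set ℕ) (h : ∀ (G : Type) [Group G] [Finite G], Cfsg.IsEPiGroup π G) :
    (∀ p q : ℕ, p.Prime → q.Prime → p ∈ π → q ∈ π → p = q) ∨ ∀ p : ℕ, p.Prime → p ∈ π := by
  classical
  by_contra hnot
  push Not at hnot
  obtain ⟨⟨p, q, hp, hq, hpπ, hqπ, hpq⟩, hex⟩ := hnot
  have hex' : ∃ r : ℕ, r.Prime ∧ r ∉ π := hex
  set r := Nat.find hex' with hr
  obtain ⟨hrp, hrπ⟩ : r.Prime ∧ r ∉ π := Nat.find_spec hex'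
  have hmin : ∀ ℓ : ℕ, ℓ.Prime → ℓ < r → ℓ ∈ π := by
    intro ℓ hℓ hlt
    by_contra hn
    exact Nat.find_min hex' hlt ⟨hℓ, hn⟩
  by_cases h5 : 5 ≤ r
  · exact caseI hrp h5 hrπ hmin (h _)
  · have hr23 : r = 2 ∨ r = 3 := by
      have := hrp.two_le
      have h4 : r ≠ 4 := by
        intro h4
        rw [h4] at hrp
        exact absurd hrp (by decide)
      omega
    rcases hr23 with h2 | h3
    · -- 2 ∉ π
      have h2π : 2 ∉ π := h2 ▸ hrπ
      have hp2 : p ≠ 2 := fun e => h2π (e ▸ hpπ)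
      have hq2 : q ≠ 2 := fun e => h2π (e ▸ hqπ)
      rcases lt_or_gt_of_ne hpq with hlt | hlt
      · exact caseIII h2π hp hq hp2 hlt hpπ hqπ (h _)
      · exact caseIII h2π hq hp hq2 hlt hqπ hpπ (h _)
    · have h3π : 3 ∉ π := h3 ▸ hrπ
      have h2π : 2 ∈ π := hmin 2 Nat.prime_two (by omega)
      -- one of p, q is at least 5
      have key : ∀ s : ℕ, s.Prime → s ∈ π → s ≠ 2 → 5 ≤ s := by
        intro s hs hsπ hs2
        have := hs.two_le
        have h3' : s ≠ 3 := fun e => h3π (e ▸ hsπ)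
        have h4 : s ≠ 4 := by
          intro h4
          rw [h4] at hs
          exact absurd hs (by decide)
        omega
      by_cases hp2 : p = 2
      · have hq2 : q ≠ 2 := fun e => hpq (hp2.trans e.symm)
        exact caseII h2π h3π hq (key q hq hqπ hq2) hqπ (h _)
      · exact caseII h2π h3π hp (key p hp hpπ hp2) hpπ (h _)

/-- For a set of primes π the following are equivalent: every finite group has a Hall π-subgroup; in every finite group the maximal π-subgroups are pairwise conjugate; π contains at most one prime or contains every prime. -/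
theorem result (π : Set ℕ) :
    ((∀ (G : Type) [Group G] [Finite G], Cfsg.IsEPiGroup π G) ↔
      ((∀ p q : ℕ, p.Prime → q.Prime → p ∈ π → q ∈ π → p = q) ∨ ∀ p : ℕ, p.Prime → p ∈ π)) ∧
    ((∀ (G : Type) [Group G] [Finite G], Cfsg.IsDPiGroup π G) ↔
      ((∀ p q : ℕ, p.Prime → q.Prime → p ∈ π → q ∈ π → p = q) ∨ ∀ p : ℕ, p.Prime → p ∈ π)) := by
  refine ⟨⟨cond_of_ePi π, ?_⟩, ⟨?_, ?_⟩⟩
  · intro hc G _ _
    exact ePi_of_dPi (dPi_of_cond hc)
  · intro hD
    apply cond_of_ePi π
    intro G _ _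
    exact ePi_of_dPi (hD G)
  · intro hc G _ _
    exact dPi_of_cond hc

end Cfsg.Agent.S3878
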