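import Cfsg.Statements.S3880
import Cfsg.Agent.Lib.H19.MetaSub

set_option autoImplicit false
open Cfsg

namespace Cfsg.Agent.S3880

theorem result {G : Type*} [Group G] [Finite G] {p : ℕ} [Fact p.Prime] (hp : p ≠ 2) (hG : IsPGroup p G) (hmc : Cfsg.IsMetacyclic G) (L : Subgroup G) :
    (IsMulCommutative ↥L ↔ Nat.card ↥L ≤ (commutator G).index) ∧
      (Maximal (fun K : Subgroup G => IsMulCommutative ↥K) L ↔ Nat.card ↥L = (commutator G).index) :=
  ⟨Cfsg.Agent.Lib.H19.MC.comm_iff_card_le hp hG hmc L,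
    Cfsg.Agent.Lib.H19.MC.maximal_comm_iff_card_eq hp hG hmc L⟩

end Cfsg.Agent.S3880
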