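import Cfsg.Statements.S3881
import Cfsg.Agent.Lib.H19.MetaCount

set_option autoImplicit false
open Cfsg

namespace Cfsg.Agent.S3881

open Cfsg.Agent.Lib.H19.MC

/-- Let p be an odd prime and G a finite metacyclic p-group (G has a cyclic normal subgroup with cyclic quotient). Suppose G is non-abelian with |G'| = p^n. Then for 1 ≤ i ≤ n the number of elements of G whose conjugacy class has exactly p^i elements is |Z(G)| · (p^(2i) − p^(2i−2)). -/
theorem result {G : Type*} [Group G] [Finite G] {p : ℕ} [Fact p.Prime] (hp : p ≠ 2) (hG : IsPGroup p G) (hmc : Cfsg.IsMetacyclic G) (n : ℕ) (hn : n ≠ 0) (hGn : Nat.card ↥(commutator G) = p ^ n) (i : ℕ) (hi : 1 ≤ i) (hin : i ≤ n) :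
    Nat.card {g : G // (Subgroup.centralizer ({g} : Set G)).index = p ^ i} =
      Nat.card ↥(Subgroup.center G) * (p ^ (2 * i) - p ^ (2 * i - 2)) := by
  have hpp := (Fact.out : p.Prime)
  obtain ⟨N, hNn, hNc, hQ⟩ := hmc
  obtain ⟨a, b, r, c⟩ := exists_coordsR hG N hNc hQ
  have hGN := commutator_le_of_isCyclic_quotient' N hQ
  have hs1 : n - i ≤ n := by omega
  have hs2 : n - i + 1 ≤ n := by omega
  have hset : {g : G | (Subgroup.centralizer ({g} : Set G)).index = p ^ i} =
      (Pw G (p ^ (n - i)) : Set G) \ (Pw G (p ^ (n - i + 1)) : Set G) := by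
    ext g
    rw [Set.mem_sdiff, SetLike.mem_coe, SetLike.mem_coe, Set.mem_ofPred_eq,
      mem_Pw_iff_index_le hp hG N hNc hQ c hGn hs1, mem_Pw_iff_index_le hp hG N hNc hQ c hGn hs2]
    obtain ⟨l, hl⟩ := index_centralizer_eq_pow hp hG N hNc hGN g
    rw [hl, Nat.pow_le_pow_iff_right hpp.one_lt, Nat.pow_le_pow_iff_right hpp.one_lt,
      Nat.pow_right_inj hpp.one_lt]
    omega
  have hle : (Pw G (p ^ (n - i + 1)) : Set G) ⊆ (Pw G (p ^ (n - i)) : Set G) := by
    intro g hg
    rw [SetLike.mem_coe, mem_Pw_iff_index_le hp hG N hNc hQ c hGn hs2] at hg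
    rw [SetLike.mem_coe, mem_Pw_iff_index_le hp hG N hNc hQ c hGn hs1]
    exact hg.trans (Nat.pow_le_pow_right hpp.pos (by omega))
  have h1 : Nat.card {g : G // (Subgroup.centralizer ({g} : Set G)).index = p ^ i} =
      Set.ncard {g : G | (Subgroup.centralizer ({g} : Set G)).index = p ^ i} :=
    (_root_.Nat.card_coe_set_eq _)
  rw [h1, hset, Set.ncard_sdiff hle (Set.toFinite _), ← _root_.Nat.card_coe_set_eq,
    ← _root_.Nat.card_coe_set_eq]
  have e1 : Nat.card ((Pw G (p ^ (n - i)) : Subgroup G) : Set G) = Nat.card (Pw G (p ^ (n - i))) := rfl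
  have e2 : Nat.card ((Pw G (p ^ (n - i + 1)) : Subgroup G) : Set G) =
      Nat.card (Pw G (p ^ (n - i + 1))) := rfl
  have e3 : 2 * (n - (n - i)) = 2 * i := by omega
  have e4 : 2 * (n - (n - i + 1)) = 2 * i - 2 := by omega
  rw [e1, e2, card_Pw hp hG N hNc hQ c hGn hs1, card_Pw hp hG N hNc hQ c hGn hs2, e3, e4,
    Nat.mul_sub]

end Cfsg.Agent.S3881
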