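import Cfsg.Statements.S3883
import Cfsg.Agent.Lib.H19.MetaAgemo
import Cfsg.Agent.Lib.H1.PGroupBasic

set_option autoImplicit false
open Cfsg

namespace Cfsg.Agent.S3883

open Cfsg.Agent.Lib.H19.MC
open scoped commutatorElement

variable {G : Type*} [Group G] [Finite G] {p : ℕ} [Fact p.Prime]

/-- in a non-abelian `p`-group `|G'| = p^n` with `n ≠ 0` -/
theorem exists_card_commutator (hG : IsPGroup p G) (hna : ¬ IsMulCommutative G) :
    ∃ n : ℕ, n ≠ 0 ∧ Nat.card ↥(commutator G) = p ^ n := by
  obtain ⟨n, hn⟩ := IsPGroup.iff_card.mp (hG.to_subgroup (commutator G))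
  refine ⟨n, ?_, hn⟩
  rintro rfl
  rw [pow_zero, Subgroup.card_eq_one] at hn
  apply hna
  refine ⟨⟨fun x y => ?_⟩⟩
  have : ⁅x, y⁆ ∈ commutator G := by
    rw [commutator_def]
    exact Subgroup.commutator_mem_commutator (Subgroup.mem_top x) (Subgroup.mem_top y)
  rw [hn, Subgroup.mem_bot, commutatorElement_eq_one_iff_mul_comm] at this
  exact this

/-- `Φ(G) = ℧_1(G)` -/
theorem frattini_eq_Pw (hp : p ≠ 2) (hG : IsPGroup p G)
    (N : Subgroup G) [N.Normal] (hNc : IsCyclic N) (hQ : IsCyclic (G ⧸ N))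
    {a b : G} {r : ℕ} (c : Coords p N a b r) {n : ℕ} (hn0 : n ≠ 0)
    (hn : Nat.card (commutator G) = p ^ n) : frattini G = Pw G (p ^ 1) := by
  have hGN := commutator_le_of_isCyclic_quotient' N hQ
  apply le_antisymm
  · apply Cfsg.Agent.Lib.H1.frattini_le_of_commutator_le_of_pow_mem (p := p)
    · intro x hx
      rw [mem_Pw_iff hp hG N hNc hQ c hn (by omega : 1 ≤ n)]
      have hxN : x ^ p ^ (n - 1) ∈ N := pow_mem (hGN hx) _
      have hxp : (x ^ p ^ (n - 1)) ^ p = 1 := by
        rw [← pow_mul, ← pow_succ, Nat.sub_add_cancel (by omega : 1 ≤ n), ← hn]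
        have h1 := pow_card_eq_one' (G := ↥(commutator G)) (x := ⟨x, hx⟩)
        have h2 := congrArg Subtype.val h1
        rw [Subgroup.coe_pow, Subgroup.coe_one] at h2
        exact h2
      rw [Subgroup.mem_center_iff]
      intro g
      exact central_of_pow_p hG N hNc hxN hxp g
    · intro x
      rw [pow_one]; exact pow_mem_Pw p x
  · unfold Pw
    rw [Subgroup.closure_le]
    rintro x ⟨y, rfl⟩
    rw [pow_one]
    exact Cfsg.Agent.Lib.H1.isPGroup_pow_mem_frattini hG y

/-- Let p be an odd prime and G a finite metacyclic p-group (G has a cyclic normal subgroup with cyclic quotient). Suppose G is non-abelian. Then an element g of G lies outside the Frattini subgroup if and only if its centralizer C_G(g) is abelian. -/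
theorem result {G : Type*} [Group G] [Finite G] {p : ℕ} [Fact p.Prime] (hp : p ≠ 2) (hG : IsPGroup p G) (hmc : Cfsg.IsMetacyclic G) (hna : ¬ IsMulCommutative G) (g : G) :
    g ∉ frattini G ↔ IsMulCommutative ↥(Subgroup.centralizer ({g} : Set G)) := by
  have hpp := (Fact.out : p.Prime)
  obtain ⟨n, hn0, hn⟩ := exists_card_commutator hG hna
  rw [comm_iff_card_le hp hG hmc]
  obtain ⟨N, hNn, hNc, hQ⟩ := hmc
  obtain ⟨a, b, r, c⟩ := exists_coordsR hG N hNc hQ
  have hGN := commutator_le_of_isCyclic_quotient' N hQ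
  rw [frattini_eq_Pw hp hG N hNc hQ c hn0 hn,
    mem_Pw_iff_index_le hp hG N hNc hQ c hn (by omega : 1 ≤ n)]
  obtain ⟨l, hl⟩ := index_centralizer_eq_pow hp hG N hNc hGN g
  have h1 := Subgroup.card_mul_index (Subgroup.centralizer ({g} : Set G))
  have h2 := Subgroup.card_mul_index (commutator G)
  rw [hl] at h1 ⊢
  rw [hn] at h2
  have hc : 0 < Nat.card (Subgroup.centralizer ({g} : Set G)) := Nat.card_pos
  rw [not_le, Nat.pow_lt_pow_iff_right hpp.one_lt]
  constructor
  · intro h
    have hle : n ≤ l := by omega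
    have : p ^ n * Nat.card (Subgroup.centralizer ({g} : Set G)) ≤ p ^ n * (commutator G).index := by
      rw [h2, ← h1, mul_comm]
      exact Nat.mul_le_mul_left _ (Nat.pow_le_pow_right hpp.pos hle)
    exact Nat.le_of_mul_le_mul_left this (pow_pos hpp.pos n)
  · intro h
    by_contra hlt
    have hlt' : l < n := by omega
    have : p ^ l < p ^ n := Nat.pow_lt_pow_right hpp.one_lt hlt'
    have h3 : Nat.card (Subgroup.centralizer ({g} : Set G)) * p ^ l <
        Nat.card (Subgroup.centralizer ({g} : Set G)) * p ^ n := Nat.mul_lt_mul_of_pos_left this hc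
    have h4 : Nat.card (Subgroup.centralizer ({g} : Set G)) * p ^ n ≤
        (commutator G).index * p ^ n := Nat.mul_le_mul_right _ h
    rw [h1, mul_comm (commutator G).index, h2] at *
    omega

end Cfsg.Agent.S3883
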