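import Cfsg.Statements.S3884
import Cfsg.Agent.Lib.H19.MetaPow

set_option autoImplicit false
set_option linter.unusedSectionVars false
open Cfsg

namespace Cfsg.Agent.S3884

open Cfsg.Agent.Lib.H19.MC

theorem exists_mul_modEq {M σ : ℕ} (hM : M ≠ 0) (h : Nat.Coprime σ M) (w : ℕ) :
    ∃ j : ℕ, j * σ ≡ w [MOD M] := by
  have : NeZero M := ⟨hM⟩
  let u := ZMod.unitOfCoprime σ h
  refine ⟨((w : ZMod M) * ((u⁻¹ : (ZMod M)ˣ) : ZMod M)).val, ?_⟩
  rw [← ZMod.natCast_eq_natCast_iff]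
  push_cast
  rw [ZMod.natCast_val, ZMod.cast_id', id_eq]
  have hu : ((u : (ZMod M)ˣ) : ZMod M) = (σ : ZMod M) := ZMod.coe_unitOfCoprime σ h
  rw [← hu, mul_assoc, Units.inv_mul, mul_one]

variable {G : Type*} [Group G] [Finite G] {p : ℕ} [Fact p.Prime]

theorem card_N_eq {N : Subgroup G} {a : G} (haN : a ∈ N) (hN : ∀ y ∈ N, ∃ t : ℕ, y = a ^ t) :
    Nat.card N = orderOf a := by
  have h := orderOf_eq_card_of_forall_mem_zpowers (g := (⟨a, haN⟩ : ↥N)) (by
    intro y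
    obtain ⟨t, ht⟩ := hN y y.2
    rw [Subgroup.mem_zpowers_iff]
    exact ⟨t, by apply Subtype.ext; rw [zpow_natCast, Subgroup.coe_pow]; exact ht.symm⟩)
  rw [← h, Subgroup.orderOf_mk]

theorem exists_nat_pow_of_mem_zpowers {x y : G} (h : y ∈ Subgroup.zpowers x) : ∃ e : ℕ, y = x ^ e := by
  have h' := (mem_powers_iff_mem_zpowers).mpr h
  obtain ⟨k, hk⟩ := (Submonoid.mem_powers_iff _ _).mp h'
  exact ⟨k, hk.symm⟩

theorem orderOf_eq_prime_pow (hG : IsPGroup p G) (x : G) : ∃ m : ℕ, orderOf x = p ^ m := by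
  obtain ⟨e, he⟩ := hG x
  have h1 : orderOf x ∣ p ^ e := orderOf_dvd_of_pow_eq_one he
  obtain ⟨l, _, hl⟩ := (Nat.dvd_prime_pow (Fact.out : p.Prime)).mp h1
  exact ⟨l, hl⟩

section

variable (hp2 : p ≠ 2) (hG : IsPGroup p G)
  (N : Subgroup G) [N.Normal] (hNc : IsCyclic N) {a b : G} {r : ℕ} (c : Coords p N a b r)

include c in
theorem N_sup_zpowers : N ⊔ Subgroup.zpowers b = ⊤ := by
  rw [eq_top_iff]
  intro g _
  obtain ⟨j, i, rfl⟩ := c.hgen g
  exact mul_mem (Subgroup.mem_sup_left (c.pow_mem j))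
    (Subgroup.mem_sup_right (pow_mem (Subgroup.mem_zpowers b) i))

include c in
theorem b_pow_mem_iff (e : ℕ) : b ^ e ∈ N ↔ N.index ∣ e :=
  pow_mem_iff_index_dvd (N_sup_zpowers N c) e

include c in
theorem card_eq : Nat.card G = orderOf a * N.index := by
  rw [← card_N_eq c.haN c.hN, Subgroup.card_mul_index]

include hp2 hG hNc c in
/-- the split case -/
theorem case_one {t' : ℕ} (ht : b ^ N.index = a ^ (N.index * t')) :
    ∃ A B : Subgroup G, IsCyclic ↥A ∧ IsCyclic ↥B ∧ A ⊓ B = ⊥ ∧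
      Nat.card ↥A * Nat.card ↥B = Nat.card G := by
  have hp := (Fact.out : p.Prime)
  obtain ⟨m, hm⟩ := orderOf_eq_prime_pow hG a
  obtain ⟨v, hv⟩ := hG.index N
  obtain ⟨σ, hσ, hnd⟩ := geomSum_prime_pow hp2 (pow_mod_prime_eq_one hp.one_lt c.hr 1) v
  have hcop : Nat.Coprime σ (orderOf a) := by
    rw [hm]
    exact Nat.Coprime.pow_right m ((Nat.Prime.coprime_iff_not_dvd hp).mpr hnd).symm
  -- `j σ + t' ≡ 0`
  obtain ⟨j, hj⟩ := exists_mul_modEq (orderOf_pos a).ne' hcop ((orderOf a - 1) * t')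
  have hj' : orderOf a ∣ j * σ + t' := by
    have h1 : j * σ + t' ≡ (orderOf a - 1) * t' + t' [MOD orderOf a] := hj.add_right t'
    have h2 : (orderOf a - 1) * t' + t' = orderOf a * t' := by
      have := orderOf_pos a
      obtain ⟨k, hk⟩ : ∃ k, orderOf a = k + 1 := ⟨orderOf a - 1, by omega⟩
      rw [hk, Nat.add_sub_cancel]; ring
    rw [h2] at h1
    exact (Nat.modEq_zero_iff_dvd).mp (h1.trans ((Nat.modEq_zero_iff_dvd).mpr (dvd_mul_right _ _)))
  set b' := a ^ j * b with hb'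
  have hpow : ∀ e : ℕ, b' ^ e = a ^ (j * geomSum (r ^ 1) e) * b ^ e := by
    intro e
    have := c.pow_formula j 1 e
    rw [pow_one, one_mul] at this
    exact this
  have hb'q : b' ^ N.index = 1 := by
    rw [hpow, ht, ← pow_add, hv, hσ, ← hv]
    have : j * (N.index * σ) + N.index * t' = (j * σ + t') * N.index := by ring
    rw [this, pow_mul]
    obtain ⟨z, hz⟩ := hj'
    rw [hz, pow_mul, pow_orderOf_eq_one, one_pow, one_pow]
  have hb'N : ∀ e : ℕ, b' ^ e ∈ N ↔ N.index ∣ e := by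
    intro e
    rw [← b_pow_mem_iff N c e, hpow]
    constructor
    · intro h
      have : b ^ e = (a ^ (j * geomSum (r ^ 1) e))⁻¹ * (a ^ (j * geomSum (r ^ 1) e) * b ^ e) := by
        group
      rw [this]
      exact mul_mem (inv_mem (c.pow_mem _)) h
    · intro h
      exact mul_mem (c.pow_mem _) h
  have hord : orderOf b' = N.index := by
    apply Nat.dvd_antisymm (orderOf_dvd_of_pow_eq_one hb'q)
    rw [← hb'N, pow_orderOf_eq_one]
    exact one_mem _
  refine ⟨N, Subgroup.zpowers b', ?_, inferInstance, ?_, ?_⟩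
  · exact hNc
  · rw [eq_bot_iff]
    intro y hy
    obtain ⟨hyN, hyb⟩ := Subgroup.mem_inf.mp hy
    obtain ⟨e, rfl⟩ := exists_nat_pow_of_mem_zpowers hyb
    rw [hb'N] at hyN
    obtain ⟨z, rfl⟩ := hyN
    rw [Subgroup.mem_bot, pow_mul, hb'q, one_pow]
  · rw [Nat.card_zpowers, hord, card_N_eq c.haN c.hN, card_eq N c]

include hp2 hG c in
/-- the non-split case -/
theorem case_two {t : ℕ} (ht : b ^ N.index = a ^ t) (htlt : t < orderOf a) (hnd : ¬ N.index ∣ t) :
    ∃ A B : Subgroup G, IsCyclic ↥A ∧ IsCyclic ↥B ∧ A ⊓ B = ⊥ ∧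
      Nat.card ↥A * Nat.card ↥B = Nat.card G := by
  have hp := (Fact.out : p.Prime)
  obtain ⟨m, hm⟩ := orderOf_eq_prime_pow hG a
  obtain ⟨v, hv⟩ := hG.index N
  have ht0 : t ≠ 0 := by rintro rfl; exact hnd (dvd_zero _)
  obtain ⟨u, w, hw, rfl⟩ := Nat.exists_eq_pow_mul_and_not_dvd ht0 p hp.ne_one
  have huv : u < v := by
    by_contra h
    push Not at h
    apply hnd
    rw [hv]
    exact (pow_dvd_pow p h).trans (dvd_mul_right _ _)
  have hw0 : 0 < w := Nat.pos_of_ne_zero (by rintro rfl; exact hw (dvd_zero p))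
  have hum : u < m := by
    have h1 : p ^ u ≤ p ^ u * w := Nat.le_mul_of_pos_right _ hw0
    have h2 : p ^ u < p ^ m := by rw [← hm]; exact lt_of_le_of_lt h1 htlt
    exact (Nat.pow_lt_pow_iff_right hp.one_lt).mp h2
  have hqb : N.index ∣ orderOf b := by
    rw [← b_pow_mem_iff N c, pow_orderOf_eq_one]; exact one_mem _
  have hqpos : 0 < N.index := by rw [hv]; exact pow_pos hp.pos v
  have hqle : N.index ≤ orderOf b := Nat.le_of_dvd (orderOf_pos b) hqb
  have hpu_q : p ^ u ∣ N.index := by rw [hv]; exact pow_dvd_pow p huv.le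
  have hpu_ob : p ^ u ∣ orderOf b := hpu_q.trans hqb
  have hpua : p ^ u ∣ orderOf a := by rw [hm]; exact pow_dvd_pow p hum.le
  obtain ⟨i, hi⟩ : ∃ i, i * p ^ u = orderOf b - N.index := by
    obtain ⟨z, hz⟩ := Nat.dvd_sub hpu_ob hpu_q
    exact ⟨z, by rw [hz, mul_comm]⟩
  have hbi : b ^ (i * p ^ u) = (a ^ (p ^ u * w))⁻¹ := by
    rw [← ht, hi]
    apply eq_inv_of_mul_eq_one_left
    rw [← pow_add, Nat.sub_add_cancel hqle, pow_orderOf_eq_one]
  obtain ⟨σ, hσ, hσnd⟩ := geomSum_prime_pow hp2 (pow_mod_prime_eq_one hp.one_lt c.hr i) u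
  have hcop : Nat.Coprime σ (orderOf a) := by
    rw [hm]
    exact Nat.Coprime.pow_right m ((Nat.Prime.coprime_iff_not_dvd hp).mpr hσnd).symm
  obtain ⟨j, hj⟩ := exists_mul_modEq (orderOf_pos a).ne' hcop w
  have hpa : p ∣ orderOf a := by rw [hm]; exact dvd_pow_self p (by omega)
  have hjp : ¬ p ∣ j := by
    intro hd
    have h1 : p ∣ j * σ := hd.mul_right σ
    exact hw ((hj.dvd_iff hpa).mp h1)
  set a' := a ^ j * b ^ i with ha'
  have hpow : ∀ e, a' ^ e = a ^ (j * geomSum (r ^ i) e) * b ^ (i * e) :=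
    fun e => c.pow_formula j i e
  have h_i : a' ^ p ^ u = 1 := by
    rw [hpow, hbi, hσ]
    have : a ^ (j * (p ^ u * σ)) = a ^ (p ^ u * w) := by
      rw [pow_eq_pow_iff_modEq]
      have h1 := hj.mul_left (p ^ u)
      have h2 : j * (p ^ u * σ) = p ^ u * (j * σ) := by ring
      rw [h2]; exact h1
    rw [this, mul_inv_cancel]
  have h_ii : ∀ e, a' ^ e ∈ Subgroup.zpowers b → p ^ u ∣ e := by
    intro e he
    rcases Nat.eq_zero_or_pos e with rfl | hepos
    · exact dvd_zero _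
    have h1 : a ^ (j * geomSum (r ^ i) e) ∈ Subgroup.zpowers b := by
      have : a ^ (j * geomSum (r ^ i) e) = a' ^ e * (b ^ (i * e))⁻¹ := by rw [hpow]; group
      rw [this]; exact mul_mem he (inv_mem (pow_mem (Subgroup.mem_zpowers b) _))
    obtain ⟨f, hf⟩ := exists_nat_pow_of_mem_zpowers h1
    have h2 : b ^ f ∈ N := by rw [← hf]; exact c.pow_mem _
    rw [b_pow_mem_iff N c] at h2
    obtain ⟨f', rfl⟩ := h2
    have hf2 : b ^ (N.index * f') = a ^ (p ^ u * w * f') := by rw [pow_mul, ht, ← pow_mul]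
    rw [hf2, pow_eq_pow_iff_modEq] at hf
    have h3 : p ^ u ∣ j * geomSum (r ^ i) e :=
      (hf.dvd_iff hpua).mpr ⟨w * f', by ring⟩
    have h4 : p ^ u ∣ geomSum (r ^ i) e :=
      (Nat.Coprime.pow_left u ((Nat.Prime.coprime_iff_not_dvd hp).mpr hjp)).dvd_of_dvd_mul_left h3
    have h5 := (padicValNat_dvd_iff_le (geomSum_pos _ hepos.ne').ne').mp h4
    rw [padicValNat_geomSum hp2 (pow_mod_prime_eq_one hp.one_lt c.hr i) hepos.ne'] at h5
    exact (padicValNat_dvd_iff_le hepos.ne').mpr h5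
  have hord : orderOf a' = p ^ u := by
    apply Nat.dvd_antisymm (orderOf_dvd_of_pow_eq_one h_i)
    apply h_ii
    rw [pow_orderOf_eq_one]; exact one_mem _
  refine ⟨Subgroup.zpowers a', Subgroup.zpowers b, inferInstance, inferInstance, ?_, ?_⟩
  · rw [eq_bot_iff]
    intro y hy
    obtain ⟨hya, hyb⟩ := Subgroup.mem_inf.mp hy
    obtain ⟨e, rfl⟩ := exists_nat_pow_of_mem_zpowers hya
    obtain ⟨z, rfl⟩ := h_ii e hyb
    rw [Subgroup.mem_bot, pow_mul, h_i, one_pow]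
  · rw [Nat.card_zpowers, Nat.card_zpowers, hord, card_eq N c]
    have h1 : orderOf (b ^ N.index) = orderOf b / N.index := orderOf_pow_of_dvd hqpos.ne' hqb
    have h2 : orderOf (a ^ (p ^ u * w)) = p ^ (m - u) := by
      rw [pow_mul]
      have h3 : orderOf (a ^ p ^ u) = p ^ (m - u) := by
        rw [orderOf_pow_of_dvd (pow_pos hp.pos u).ne' hpua, hm, Nat.pow_div hum.le hp.pos]
      rw [Nat.Coprime.orderOf_pow, h3]
      rw [h3]; exact Nat.Coprime.pow_left _ ((Nat.Prime.coprime_iff_not_dvd hp).mpr hw)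
    rw [ht, h2] at h1
    have h4 : orderOf b = N.index * p ^ (m - u) := by
      rw [h1]; exact (Nat.mul_div_cancel' hqb).symm
    rw [h4, hm]
    have : p ^ m = p ^ u * p ^ (m - u) := by rw [← pow_add]; congr 1; omega
    rw [this]; ring

end

/-- Let p be an odd prime and G a finite metacyclic p-group (G has a cyclic normal subgroup with cyclic quotient). Then G is the product of two cyclic subgroups with trivial intersection: there are cyclic subgroups A and B with A ∩ B = 1 and |A| · |B| = |G|. -/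
theorem result {G : Type*} [Group G] [Finite G] {p : ℕ} [Fact p.Prime] (hp : p ≠ 2) (hG : IsPGroup p G) (hmc : Cfsg.IsMetacyclic G) : ∃ A B : Subgroup G, IsCyclic ↥A ∧ IsCyclic ↥B ∧ A ⊓ B = ⊥ ∧ Nat.card ↥A * Nat.card ↥B = Nat.card G := by
  obtain ⟨N, hNn, hNc, hQ⟩ := hmc
  obtain ⟨a, b, r, c⟩ := exists_coordsR hG N hNc hQ
  have hbq : b ^ N.index ∈ N := (b_pow_mem_iff N c _).mpr dvd_rfl
  obtain ⟨t0, ht0⟩ := c.hN _ hbq
  have ht : b ^ N.index = a ^ (t0 % orderOf a) := by rw [ht0, pow_mod_orderOf]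
  by_cases hd : N.index ∣ t0 % orderOf a
  · obtain ⟨t', ht'⟩ := hd
    rw [ht'] at ht
    exact case_one hp hG N hNc c ht
  · exact case_two hp hG N c ht (Nat.mod_lt _ (orderOf_pos a)) hd

end Cfsg.Agent.S3884
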