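import Cfsg.Statements.S3885
import Cfsg.Agent.Lib.H19.MetaKey

set_option autoImplicit false
open Cfsg

namespace Cfsg.Agent.S3885

theorem result {G : Type*} [Group G] [Finite G] {p : ℕ} [Fact p.Prime] (hp : p ≠ 2) (hG : IsPGroup p G) (hmc : Cfsg.IsMetacyclic G) (K : Subgroup G) (hK : IsMulCommutative ↥K) (hZ : Subgroup.center G ≤ K) :
    K = Subgroup.centralizer (K : Set G) ⊓ Subgroup.centralizer (Subgroup.centralizer (K : Set G) : Set G) := by
  obtain ⟨N, hNn, hNc, hQ⟩ := hmc
  have hGN : commutator G ≤ N := by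
    have : IsMulCommutative (G ⧸ N) := hQ.isMulCommutative
    exact (Subgroup.Normal.quotient_commutative_iff_commutator_le).mp this
  rw [Cfsg.Agent.Lib.H19.MC.centralizer_centralizer_eq hp hG N hNc hGN hZ]
  have hle : K ≤ Subgroup.centralizer (K : Set G) := by
    intro x hx
    rw [Subgroup.mem_centralizer_iff]
    intro y hy
    exact congrArg Subtype.val (hK.is_comm.comm ⟨y, hy⟩ ⟨x, hx⟩)
  exact (inf_eq_right.mpr hle).symm

end Cfsg.Agent.S3885
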