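import Cfsg.Statements.S3886
import Cfsg.Agent.Lib.H19.MetaSub

set_option autoImplicit false
open Cfsg

namespace Cfsg.Agent.S3886

open Cfsg.Agent.Lib.H15 Cfsg.Agent.Lib.H19.MC

variable {G : Type*} [Group G] [Finite G] {p : ℕ} [Fact p.Prime]

theorem fz_eq_of_not_comm (hp : p ≠ 2) (hG : IsPGroup p G) (hmc : Cfsg.IsMetacyclic G)
    (R : Subgroup G) (hR : ¬ IsMulCommutative ↥R) : fz R = (commutator G).index ^ 2 := by
  have h1 := card_eq_of_not_comm hp hG hmc R hR
  obtain ⟨NR, hNRn, hNRc, hQR⟩ := isMetacyclic_subgroup hmc R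
  have h2 := index_center_eq NR hNRc hQR hp (hG.to_subgroup R)
  have h3 := Subgroup.card_mul_index (Subgroup.center ↥R)
  rw [h2] at h3
  unfold fz
  set r := Nat.card ↥R
  set z := Nat.card (Subgroup.center ↥R)
  set c := Nat.card (commutator ↥R)
  set i := (commutator G).index
  have hc : 0 < c := Nat.card_pos
  -- h1 : r = i * c ; h3 : z * c^2 = r
  have h4 : z * c = i := by
    have : c * (z * c) = c * i := by
      calc c * (z * c) = z * c ^ 2 := by ring
        _ = r := h3
        _ = i * c := h1
        _ = c * i := by ring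
    exact Nat.eq_of_mul_eq_mul_left hc this
  calc r * z = i * c * z := by rw [h1]
    _ = i * (z * c) := by ring
    _ = i ^ 2 := by rw [h4, sq]

theorem fz_le (hp : p ≠ 2) (hG : IsPGroup p G) (hmc : Cfsg.IsMetacyclic G)
    (R : Subgroup G) : fz R ≤ (commutator G).index ^ 2 := by
  by_cases hR : IsMulCommutative ↥R
  · rw [fz_eq_of_comm R hR, ← sq]
    exact Nat.pow_le_pow_left (card_le_of_comm hp hG hmc R hR) 2
  · exact le_of_eq (fz_eq_of_not_comm hp hG hmc R hR)

theorem fz_eq_iff (hp : p ≠ 2) (hG : IsPGroup p G) (hmc : Cfsg.IsMetacyclic G)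
    (R : Subgroup G) : fz R = (commutator G).index ^ 2 ↔
      (¬ IsMulCommutative ↥R ∨ Maximal (fun K : Subgroup G => IsMulCommutative ↥K) R) := by
  by_cases hR : IsMulCommutative ↥R
  · rw [fz_eq_of_comm R hR, ← sq, maximal_comm_iff_card_eq hp hG hmc R]
    constructor
    · intro h
      exact Or.inr (Nat.pow_left_injective (by norm_num : 2 ≠ 0) h)
    · rintro (h | h)
      · exact absurd hR h
      · rw [h]
  · constructor
    · intro _; exact Or.inl hR
    · intro _; exact fz_eq_of_not_comm hp hG hmc R hR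

theorem result {G : Type*} [Group G] [Finite G] {p : ℕ} [Fact p.Prime] (hp : p ≠ 2) (hG : IsPGroup p G) (hmc : Cfsg.IsMetacyclic G) : Cfsg.maxCentralProduct G = (commutator G).index ^ 2 ∧
    ∀ R : Subgroup G, Cfsg.IsCentrallyLarge R ↔ (¬ IsMulCommutative ↥R ∨ Maximal (fun K : Subgroup G => IsMulCommutative ↥K) R) := by
  have hmax : Cfsg.maxCentralProduct G = (commutator G).index ^ 2 := by
    apply le_antisymm
    · obtain ⟨R, hR⟩ := exists_fz_eq_max (G := G)
      rw [← hR]; exact fz_le hp hG hmc R
    · -- attained by `⊤`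
      have h1 : fz (⊤ : Subgroup G) = (commutator G).index ^ 2 := by
        by_cases hc : IsMulCommutative ↥(⊤ : Subgroup G)
        · rw [fz_eq_of_comm _ hc, Subgroup.card_top, ← sq]
          have hGc : IsMulCommutative G :=
            isMulCommutative_congr (Subgroup.topEquiv : ↥(⊤ : Subgroup G) ≃* G) hc
          have : commutator G = ⊥ := by
            rw [commutator_def, Subgroup.commutator_eq_bot_iff_le_centralizer]
            intro x _
            rw [Subgroup.mem_centralizer_iff]
            intro y _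
            exact hGc.is_comm.comm y x
          rw [this, Subgroup.index_bot]
        · exact fz_eq_of_not_comm hp hG hmc ⊤ hc
      rw [← h1]; exact fz_le_max ⊤
  refine ⟨hmax, fun R => ?_⟩
  have h1 : Cfsg.IsCentrallyLarge R ↔ fz R = Cfsg.maxCentralProduct G := Iff.rfl
  rw [h1, hmax]
  exact fz_eq_iff hp hG hmc R

end Cfsg.Agent.S3886
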