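import Cfsg.Statements.S3887
import Cfsg.Agent.Lib.H19.MetaKey

set_option autoImplicit false
open Cfsg

namespace Cfsg.Agent.S3887

/-- in a metacyclic group the derived subgroup lies in the cyclic normal subgroup -/
theorem commutator_le_of_isCyclic_quotient {G : Type*} [Group G] (N : Subgroup G) [N.Normal]
    (h : IsCyclic (G ⧸ N)) : commutator G ≤ N := by
  have : IsMulCommutative (G ⧸ N) := h.isMulCommutative
  exact (Subgroup.Normal.quotient_commutative_iff_commutator_le).mp this

theorem result {G : Type*} [Group G] [Finite G] {p : ℕ} [Fact p.Prime] (hp : p ≠ 2) (hG : IsPGroup p G) (hmc : Cfsg.IsMetacyclic G) (R : Subgroup G) : Cfsg.IsCentralizerLarge R ↔ Subgroup.center G ≤ R := by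
  obtain ⟨N, hNn, hNc, hQ⟩ := hmc
  exact Cfsg.Agent.Lib.H19.MC.isCentralizerLarge_iff_center_le hp hG N hNc
    (commutator_le_of_isCyclic_quotient N hQ) R

end Cfsg.Agent.S3887
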