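import Cfsg.Statements.S3889

set_option autoImplicit false
open Cfsg

namespace Cfsg.Agent.S3889

theorem result {G : Type*} [CommGroup G] [Finite G] (𝓑 : Set (Subgroup G)) (hprop : ∀ B ∈ 𝓑, B ≠ ⊤)
    (hcov : ∀ g : G, ∃ B ∈ 𝓑, g ∈ B) (hdisj : ∀ B ∈ 𝓑, ∀ C ∈ 𝓑, B ≠ C → B ⊓ C = ⊥) :
    (Monoid.exponent G).Prime := by
  -- key: elements of different members have orders dividing each other
  have key : ∀ B ∈ 𝓑, ∀ C ∈ 𝓑, B ≠ C → ∀ x ∈ B, ∀ y ∈ C, x ≠ 1 → orderOf y ∣ orderOf x := by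
    intro B hB C hC hBC x hx y hy hx1
    obtain ⟨D, hD, hxyD⟩ := hcov (x * y)
    have hpow : (x * y) ^ orderOf x = y ^ orderOf x := by
      rw [mul_pow, pow_orderOf_eq_one, one_mul]
    by_cases hDC : D = C
    · exfalso
      subst hDC
      have hxD : x ∈ D := by
        have := D.mul_mem hxyD (D.inv_mem hy)
        simpa using this
      have : x ∈ B ⊓ D := ⟨hx, hxD⟩
      rw [hdisj B hB D hD hBC] at this
      exact hx1 (Subgroup.mem_bot.mp this)
    · have h1 : y ^ orderOf x ∈ D := by rw [← hpow]; exact D.pow_mem hxyD _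
      have h2 : y ^ orderOf x ∈ C := C.pow_mem hy _
      have : y ^ orderOf x ∈ D ⊓ C := ⟨h1, h2⟩
      rw [hdisj D hD C hC hDC] at this
      exact orderOf_dvd_of_pow_eq_one (Subgroup.mem_bot.mp this)
  have key2 : ∀ B ∈ 𝓑, ∀ C ∈ 𝓑, B ≠ C → ∀ x ∈ B, ∀ y ∈ C, x ≠ 1 → y ≠ 1 → orderOf x = orderOf y := by
    intro B hB C hC hBC x hx y hy hx1 hy1
    exact Nat.dvd_antisymm (key C hC B hB (Ne.symm hBC) y hy x hx hy1) (key B hB C hC hBC x hx y hy hx1)
  -- pick B containing 1, and y outside B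
  obtain ⟨B, hB, _⟩ := hcov 1
  obtain ⟨y, hyB⟩ : ∃ y, y ∉ B := by
    by_contra h
    have h' : ∀ y, y ∈ B := fun y => by by_contra hy; exact h ⟨y, hy⟩
    exact hprop B hB (Subgroup.eq_top_iff' B |>.mpr h')
  have hy1 : y ≠ 1 := fun h => hyB (h ▸ B.one_mem)
  obtain ⟨C, hC, hyC⟩ := hcov y
  have hCB : C ≠ B := fun h => hyB (h ▸ hyC)
  obtain ⟨x, hxC⟩ : ∃ x, x ∉ C := by
    by_contra h
    have h' : ∀ y, y ∈ C := fun y => by by_contra hy; exact h ⟨y, hy⟩
    exact hprop C hC (Subgroup.eq_top_iff' C |>.mpr h')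
  have hx1 : x ≠ 1 := fun h => hxC (h ▸ C.one_mem)
  obtain ⟨B', hB', hxB'⟩ := hcov x
  have hB'C : B' ≠ C := fun h => hxC (h ▸ hxB')
  set n := orderOf y with hn
  have hxy : orderOf x = n := key2 B' hB' C hC hB'C x hxB' y hyC hx1 hy1
  -- all non-identity elements have order n
  have hall : ∀ z : G, z ≠ 1 → orderOf z = n := by
    intro z hz1
    obtain ⟨D, hD, hzD⟩ := hcov z
    by_cases hDC : D = C
    · subst hDC
      rw [← hxy]
      exact (key2 B' hB' D hD hB'C x hxB' z hzD hx1 hz1).symm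
    · exact key2 D hD C hC hDC z hzD y hyC hz1 hy1
  have hnpos : 0 < n := orderOf_pos y
  have hn1 : n ≠ 1 := fun h => hy1 (orderOf_eq_one_iff.mp (hn ▸ h))
  -- n is prime
  have hnprime : n.Prime := by
    obtain ⟨p, hp, hpn⟩ := Nat.exists_prime_and_dvd hn1
    obtain ⟨m, hm⟩ := hpn
    have hmpos : 0 < m := by
      rcases Nat.eq_zero_or_pos m with h | h
      · rw [h, mul_zero] at hm; omega
      · exact h
    have hord : orderOf (y ^ m) = p := by
      rw [orderOf_pow' y hmpos.ne', ← hn, hm, Nat.gcd_eq_right (Dvd.intro_left p rfl),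
        Nat.mul_div_cancel _ hmpos]
    have hne : y ^ m ≠ 1 := by
      intro h
      rw [h, orderOf_one] at hord
      exact hp.one_lt.ne hord
    have := hall _ hne
    rw [hord] at this
    rw [← this]; exact hp
  have hexp : Monoid.exponent G = n := by
    apply Nat.dvd_antisymm
    · apply Monoid.exponent_dvd_of_forall_pow_eq_one
      intro g
      by_cases hg : g = 1
      · rw [hg, one_pow]
      · rw [← hall g hg, pow_orderOf_eq_one]
    · rw [hn]; exact Monoid.order_dvd_exponent y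
  rw [hexp]; exact hnprime

end Cfsg.Agent.S3889
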