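import Cfsg.Statements.S3894
import Cfsg.Agent.Lib.H19.PGLUnip
import Cfsg.Agent.Lib.H19.PGL2
import Cfsg.Agent.Lib.H19.PGL2B

set_option autoImplicit false
open Cfsg

namespace Cfsg.Agent.S3894

/-- for `q ≥ 4`, one of `q - 1`, `q + 1` has an odd prime divisor -/
theorem exists_odd_prime (q : ℕ) (hq : 4 ≤ q) :
    (∃ r : ℕ, r.Prime ∧ r ≠ 2 ∧ r ∣ q - 1) ∨ (∃ r : ℕ, r.Prime ∧ r ≠ 2 ∧ r ∣ q + 1) := by
  rcases Nat.eq_two_pow_or_exists_odd_prime_and_dvd (q - 1) with ⟨a, ha⟩ | ⟨r, hr, hd, ho⟩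
  · rcases Nat.eq_two_pow_or_exists_odd_prime_and_dvd (q + 1) with ⟨b, hb⟩ | ⟨r, hr, hd, ho⟩
    · exfalso
      have ha2 : 2 ≤ a := by
        by_contra hlt
        have : a = 0 ∨ a = 1 := by omega
        rcases this with rfl | rfl <;> omega
      have hb2 : 2 ≤ b := by
        by_contra hlt
        have : b = 0 ∨ b = 1 := by omega
        rcases this with rfl | rfl <;> omega
      obtain ⟨a', rfl⟩ : ∃ a', a = a' + 2 := ⟨a - 2, by omega⟩
      obtain ⟨b', rfl⟩ : ∃ b', b = b' + 2 := ⟨b - 2, by omega⟩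
      rw [pow_add] at ha hb
      omega
    · right
      refine ⟨r, hr, ?_, hd⟩
      rintro rfl
      exact absurd ho (by decide)
  · left
    refine ⟨r, hr, ?_, hd⟩
    rintro rfl
    exact absurd ho (by decide)

/-- A cover of a group is a finite set of proper subgroups whose union is the whole group; it is minimal when no cover has fewer members, and nilpotent when all its members are nilpotent. Let F be a finite field with q elements and n ≥ 3, or n = 2 and q ≥ 4. Then no subgroup of PGL_n(F) = GL_n(F)/Z(GL_n(F)) containing the image of SL_n(F) has a nilpotent minimal cover. -/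
theorem result {F : Type*} [Field F] [Fintype F] (n : ℕ) (hn : 3 ≤ n ∨ (n = 2 ∧ 4 ≤ Fintype.card F))
    (G : Subgroup (GL (Fin n) F ⧸ Subgroup.center (GL (Fin n) F)))
    (hG : ((Matrix.SpecialLinearGroup.toGL : Matrix.SpecialLinearGroup (Fin n) F →* GL (Fin n) F).range).map
      (QuotientGroup.mk' (Subgroup.center (GL (Fin n) F))) ≤ G) :
    ¬ ∃ 𝓐 : Finset (Subgroup ↥G), ((∀ A ∈ 𝓐, A ≠ ⊤) ∧ (∀ g : ↥G, ∃ A ∈ 𝓐, g ∈ A)) ∧ (∀ 𝓑 : Finset (Subgroup ↥G), (∀ A ∈ 𝓑, A ≠ ⊤) ∧ (∀ g : ↥G, ∃ A ∈ 𝓑, g ∈ A) → 𝓐.card ≤ 𝓑.card) ∧ (∀ A ∈ 𝓐, Group.IsNilpotent ↥A) := by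
  rintro ⟨𝓐, h𝓐⟩
  have hN : Cfsg.Agent.Lib.H19.NilCoverSylow.IsNMC 𝓐 := h𝓐
  rcases hn with hn | ⟨rfl, hq⟩
  · exact Cfsg.Agent.Lib.H19.PGLUnip.no_nmc_three hn G hG 𝓐 hN
  · classical
    rcases exists_odd_prime _ hq with ⟨r, hr, hr2, hd⟩ | ⟨r, hr, hr2, hd⟩
    · have : Fact r.Prime := ⟨hr⟩
      obtain ⟨a, ha⟩ := exists_prime_orderOf_dvd_card (G := Fˣ) r
        (by rw [Fintype.card_units]; exact hd)
      exact Cfsg.Agent.Lib.H19.PGL2.no_nmc_two_A a r hr hr2 ha G hG 𝓐 hN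
    · obtain ⟨g, hg⟩ := IsCyclic.exists_generator (α := Fˣ)
      have hgo : orderOf g = Fintype.card F - 1 := by
        rw [← Fintype.card_units, ← Nat.card_eq_fintype_card]
        exact orderOf_eq_card_of_forall_mem_zpowers hg
      have hg2 : g ^ 2 ≠ 1 := by
        intro h2
        have h3 := Nat.le_of_dvd (by norm_num) (orderOf_dvd_of_pow_eq_one h2)
        omega
      exact Cfsg.Agent.Lib.H19.PGL2B.no_nmc_two_B r hr hr2 hd g hg2 G hG 𝓐 hN

end Cfsg.Agent.S3894
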