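-- Statement S3895 (row 3895).
import Cfsg.Statements.S3895
import Cfsg.Agent.Lib.H19.K2Main

set_option autoImplicit false
open Cfsg

namespace Cfsg.Agent.S3895

open Cfsg.Agent.Lib.H19.K2Main Cfsg.Agent.Lib.H19.KpClasses

/-- with a normal `2`-complement, `G`-conjugate elements of `P` are `P`-conjugate. -/
theorem clP_injective {G : Type*} [Group G] [Finite G] (P : Sylow 2 G)
    (hnpc : Cfsg.HasNormalPComplement 2 G) : Function.Injective (clP P) := by
  obtain ⟨K, hKn, hKc⟩ := Cfsg.Agent.Lib.L0.HasNormalPComplement.forall_sylow hnpc P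
  intro a b hab
  obtain ⟨x, rfl⟩ := ConjClasses.mk_surjective a
  obtain ⟨y, rfl⟩ := ConjClasses.mk_surjective b
  rw [clP_mk, clP_mk] at hab
  have h1 : ConjClasses.mk (x : G) = ConjClasses.mk (y : G) := congrArg Subtype.val hab
  rw [ConjClasses.mk_eq_mk_iff_isConj, isConj_iff] at h1
  obtain ⟨g, hg⟩ := h1
  obtain ⟨⟨k, u⟩, hku⟩ := hKc.2 g
  simp only at hku
  -- `x' = u x u⁻¹`
  set x' : G := (u : G) * (x : G) * (u : G)⁻¹ with hx'
  have hx'P : x' ∈ (P : Subgroup G) := mul_mem (mul_mem u.2 x.2) (inv_mem u.2)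
  have hy : (y : G) = (k : G) * x' * (k : G)⁻¹ := by
    rw [← hg, ← hku, hx']; group
  have hmemK : (y : G) * x'⁻¹ ∈ K := by
    rw [hy]
    have : (k : G) * x' * (k : G)⁻¹ * x'⁻¹ = (k : G) * (x' * (k : G)⁻¹ * x'⁻¹) := by group
    rw [this]
    exact K.mul_mem k.2 (hKn.conj_mem _ (K.inv_mem k.2) x')
  have hmemP : (y : G) * x'⁻¹ ∈ (P : Subgroup G) := mul_mem y.2 (inv_mem hx'P)
  have hbot : (y : G) * x'⁻¹ = 1 := by
    have := hKc.disjoint.le_bot ⟨hmemK, hmemP⟩
    exact (Subgroup.mem_bot).mp this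
  have hyx : (y : G) = x' := mul_inv_eq_one.mp hbot
  rw [ConjClasses.mk_eq_mk_iff_isConj, isConj_iff]
  exact ⟨u, Subtype.ext (by rw [hyx, hx']; rfl)⟩

/-- Let G be a finite group with Sylow 2-subgroup P, and write k₂(G) for the number of conjugacy classes of G consisting of 2-elements (elements of 2-power order, the identity included). Then k₂(G) > |P|/2 if and only if G has a normal 2-complement and P has more than |P|/2 conjugacy classes. -/
theorem result {G : Type*} [Group G] [Finite G] (P : Sylow 2 G) :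
    Nat.card ↥(P : Subgroup G) < 2 * Nat.card {c : ConjClasses G // ∀ x ∈ c.carrier, ∃ k : ℕ, orderOf x = 2 ^ k} ↔
      Cfsg.HasNormalPComplement 2 G ∧ Nat.card ↥(P : Subgroup G) < 2 * Nat.card (ConjClasses ↥(P : Subgroup G)) := by
  constructor
  · intro h
    refine ⟨hasNormalPComplement_of_lt P h, ?_⟩
    have hkP : Nat.card (K2 G) ≤ Nat.card (ConjClasses (P : Subgroup G)) :=
      Nat.card_le_card_of_surjective _ (clP_surjective P)
    exact lt_of_lt_of_le h (Nat.mul_le_mul_left _ hkP)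
  · rintro ⟨hnpc, h⟩
    have hkP : Nat.card (ConjClasses (P : Subgroup G)) ≤ Nat.card (K2 G) :=
      Nat.card_le_card_of_injective _ (clP_injective P hnpc)
    exact lt_of_lt_of_le h (Nat.mul_le_mul_left _ hkP)

end Cfsg.Agent.S3895
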