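import Cfsg.Statements.S3897
import Cfsg.Agent.Lib.H19.KpClasses

set_option autoImplicit false
open Cfsg

namespace Cfsg.Agent.S3897

open Cfsg.Agent.Lib.H19.KpClasses

/-- Let p be an odd prime and G a finite group with Sylow p-subgroup P, and write k_p(G) for the number of conjugacy classes of G consisting of p-elements (elements of p-power order, the identity included). Then k_p(G) > (p + 1)|P|/(2p) if and only if G has a normal p-complement and P is abelian. -/
theorem result {G : Type*} [Group G] [Finite G] {p : ℕ} [Fact p.Prime] (hp : p ≠ 2) (P : Sylow p G) :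
    (p + 1) * Nat.card ↥(P : Subgroup G) < 2 * p * Nat.card {c : ConjClasses G // ∀ x ∈ c.carrier, ∃ k : ℕ, orderOf x = p ^ k} ↔
      Cfsg.HasNormalPComplement p G ∧ IsMulCommutative ↥(P : Subgroup G) := by
  have hpp : p.Prime := Fact.out
  constructor
  · intro h
    have hNC : Subgroup.normalizer ((P : Subgroup G) : Set G) ≤ Subgroup.centralizer (P : Set G) := by
      by_contra hNC
      have h1 := two_p_orbits_le P hNC
      have h2 := card_pClasses_le_orbits P
      have h3 : 2 * p * Nat.card {c : ConjClasses G // ∀ x ∈ c.carrier, ∃ k : ℕ, orderOf x = p ^ k} ≤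
          2 * p * Nat.card (MulAction.orbitRel.Quotient
            (Subgroup.normalizer ((P : Subgroup G) : Set G)) (P : Subgroup G)) :=
        Nat.mul_le_mul_left _ h2
      omega
    refine ⟨Cfsg.Agent.Lib.L0.hasNormalPComplement_of_normalizer_le_centralizer P hNC, ?_⟩
    refine ⟨⟨fun a b => ?_⟩⟩
    have ha : (a : G) ∈ Subgroup.centralizer ((P : Subgroup G) : Set G) :=
      hNC (Subgroup.le_normalizer a.2)
    apply Subtype.ext
    simp only [Subgroup.coe_mul]
    exact (ha b b.2).symm
  · rintro ⟨hnpc, hab⟩
    have h1 := card_le_card_pClasses P hnpc hab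
    have hpos : 0 < Nat.card (P : Subgroup G) := Nat.card_pos
    have h2 : 2 ≤ p := hpp.two_le
    calc (p + 1) * Nat.card (P : Subgroup G) < (2 * p) * Nat.card (P : Subgroup G) := by
          apply Nat.mul_lt_mul_of_pos_right _ hpos
          omega
      _ ≤ 2 * p * Nat.card {c : ConjClasses G // ∀ x ∈ c.carrier, ∃ k : ℕ, orderOf x = p ^ k} :=
          Nat.mul_le_mul_left _ h1

end Cfsg.Agent.S3897
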