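-- Statement S3898 (row 3898).
import Cfsg.Statements.S3898
import Cfsg.Agent.Lib.H19.K2Main
import Cfsg.Agent.Lib.H19.OddR
import Cfsg.Agent.Lib.H19.PiCompl

set_option autoImplicit false
open Cfsg

namespace Cfsg.Agent.S3898

open Cfsg.Agent.Lib.H19.KpiClasses Cfsg.Agent.Lib.H9.PiElements Cfsg.Agent.Lib.H19.K2Main

/-- the class count of `r`-elements in the two formulations. -/
theorem card_KCl_singleton_eq {H : Type*} [Group H] [Finite H] {r : ℕ} (hr : r.Prime) :
    Nat.card (KCl ({r} : Set ℕ) H) =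
      Nat.card {c : ConjClasses H // ∀ x ∈ c.carrier, ∃ k : ℕ, orderOf x = r ^ k} := by
  apply Nat.card_congr
  exact Equiv.subtypeEquivRight (fun c => by
    constructor
    · intro h x hx
      exact (isPi_singleton_iff hr x).1 (h x hx)
    · intro h x hx
      exact (isPi_singleton_iff hr x).2 (h x hx))

/-- the two formulations of the class count of `π`-elements. -/
theorem card_KCl_eq_h9 (π : Set ℕ) (H : Type*) [Group H] :
    Nat.card (KCl π H) = Nat.card {C : ConjClasses H // ∀ q : ℕ, q.Prime →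
        (∃ g : H, ConjClasses.mk g = C ∧ q ∣ orderOf g) → q ∈ π} := by
  apply Nat.card_congr
  exact Equiv.subtypeEquivRight (fun c => by
    constructor
    · rintro h q hq ⟨g, hg, hqg⟩
      exact h g (by rw [ConjClasses.mem_carrier_iff_mk_eq]; exact hg) q hq hqg
    · intro h x hx q hq hqx
      rw [ConjClasses.mem_carrier_iff_mk_eq] at hx
      exact h q hq ⟨x, hx, hqx⟩)

theorem card_KCl_le_card (π : Set ℕ) (H : Type*) [Group H] [Finite H] :
    Nat.card (KCl π H) ≤ Nat.card H :=
  (Nat.card_le_card_of_injective _ Subtype.val_injective).trans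
    (Nat.card_le_card_of_surjective _ ConjClasses.mk_surjective)

/-- from the `π`-bound to the `r`-bound. -/
theorem r_bound {H : Type*} [Group H] [Finite H] (π : Finset ℕ) (hπ : ∀ r ∈ π, r.Prime)
    (hk : π.prod (fun r => r ^ (Nat.card H).factorization r) <
      2 * Nat.card (KCl (↑π : Set ℕ) H)) {r : ℕ} (hr : r ∈ π) [Fact r.Prime] (R : Sylow r H) :
    Nat.card (R : Subgroup H) <
      2 * Nat.card {c : ConjClasses H // ∀ x ∈ c.carrier, ∃ k : ℕ, orderOf x = r ^ k} := by
  rw [← card_KCl_singleton_eq (hπ r hr)]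
  have hB := card_KCl_le_mul π hπ hr (G := H)
  have hprod : π.prod (fun q => q ^ (Nat.card H).factorization q) =
      r ^ (Nat.card H).factorization r *
        (π.erase r).prod (fun q => q ^ (Nat.card H).factorization q) :=
    (Finset.mul_prod_erase π _ hr).symm
  rw [hprod, ← R.card_eq_multiplicity] at hk
  set E := (π.erase r).prod (fun q => q ^ (Nat.card H).factorization q) with hE
  have h3 : Nat.card (R : Subgroup H) * E < (2 * Nat.card (KCl ({r} : Set ℕ) H)) * E := by
    calc Nat.card (R : Subgroup H) * E < 2 * Nat.card (KCl (↑π : Set ℕ) H) := hk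
      _ ≤ 2 * (Nat.card (KCl ({r} : Set ℕ) H) * E) := Nat.mul_le_mul_left _ hB
      _ = (2 * Nat.card (KCl ({r} : Set ℕ) H)) * E := by ring
  exact Nat.lt_of_mul_lt_mul_right h3

/-- Let π be a finite set of primes containing 2 and G a finite group. Write k_π(G) for the number of conjugacy classes of G consisting of π-elements (elements all of whose order's prime divisors lie in π) and |G|_π for the π-part of the order of G. If k_π(G) > |G|_π/2, then G has a normal π-complement (a normal subgroup of order prime to π whose index is a π-number) and an abelian Hall subgroup for the set of odd primes in π. -/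
theorem result {G : Type*} [Group G] [Finite G] (π : Finset ℕ) (hπ : ∀ r ∈ π, r.Prime) (h2 : 2 ∈ π)
    (hk : π.prod (fun r => r ^ (Nat.card G).factorization r) < 2 * Nat.card {c : ConjClasses G // ∀ x ∈ c.carrier, ∀ r : ℕ, r.Prime → r ∣ orderOf x → r ∈ π}) :
    (∃ N : Subgroup G, N.Normal ∧ (∀ r : ℕ, r.Prime → r ∣ Nat.card ↥N → r ∉ π) ∧ ∀ r : ℕ, r.Prime → r ∣ N.index → r ∈ π) ∧ ∃ H : Subgroup G, Cfsg.IsPiHall ((↑π : Set ℕ) \ {2}) H ∧ IsMulCommutative ↥H := by
  have hk' : π.prod (fun r => r ^ (Nat.card G).factorization r) <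
      2 * Nat.card (KCl (↑π : Set ℕ) G) := hk
  obtain ⟨P⟩ : Nonempty (Sylow 2 G) := inferInstance
  -- Step A: a normal `2`-complement
  have hP2 : Nat.card (P : Subgroup G) < 2 * Nat.card (K2 G) := r_bound π hπ hk' h2 P
  have hnpc := hasNormalPComplement_of_lt P hP2
  obtain ⟨K, hKn, hKodd2, a, hKidx⟩ := Cfsg.Agent.Lib.L0.HasNormalPComplement.exists_normal hnpc
  have hKodd : Odd (Nat.card K) := by
    rw [← Nat.not_even_iff_odd, even_iff_two_dvd]; exact hKodd2
  have hGK : Nat.card K * 2 ^ a = Nat.card G := by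
    rw [← hKidx]; exact Subgroup.card_mul_index K
  have hfac : ∀ r, r ≠ 2 → (Nat.card G).factorization r = (Nat.card K).factorization r := by
    intro r hr
    rw [← hGK, Nat.factorization_mul (Nat.card_pos.ne') (pow_ne_zero _ two_ne_zero),
      Finsupp.add_apply, Nat.Prime.factorization_pow Nat.prime_two,
      Finsupp.single_eq_of_ne hr, add_zero]
  have hfac2K : (Nat.card K).factorization 2 = 0 := Nat.factorization_eq_zero_of_not_dvd hKodd2
  have hfac2G : (Nat.card G).factorization 2 = a := by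
    rw [← hGK, Nat.factorization_mul (Nat.card_pos.ne') (pow_ne_zero _ two_ne_zero),
      Finsupp.add_apply, hfac2K, Nat.Prime.factorization_pow Nat.prime_two,
      Finsupp.single_eq_same, zero_add]
  have hpiG : π.prod (fun r => r ^ (Nat.card G).factorization r) =
      π.prod (fun r => r ^ (Nat.card K).factorization r) * 2 ^ a := by
    rw [← Finset.mul_prod_erase π _ h2,
      ← Finset.mul_prod_erase π (fun r => r ^ (Nat.card K).factorization r) h2, hfac2G, hfac2K,
      pow_zero, one_mul, mul_comm]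
    congr 1
    apply Finset.prod_congr rfl
    intro r hr
    rw [hfac r (Finset.ne_of_mem_erase hr)]
  -- Step B: the bound in `K`
  have hkK : π.prod (fun r => r ^ (Nat.card K).factorization r) <
      2 * Nat.card (KCl (↑π : Set ℕ) K) := by
    have h1 := card_piClasses_le K (↑π : Set ℕ)
    rw [← card_KCl_eq_h9, ← card_KCl_eq_h9, ← card_KCl_eq_h9] at h1
    have h2' : Nat.card (KCl (↑π : Set ℕ) (G ⧸ K)) ≤ 2 ^ a := by
      rw [← hKidx, Subgroup.index_eq_card]; exact card_KCl_le_card _ _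
    have h3 : π.prod (fun r => r ^ (Nat.card K).factorization r) * 2 ^ a <
        (2 * Nat.card (KCl (↑π : Set ℕ) K)) * 2 ^ a := by
      calc π.prod (fun r => r ^ (Nat.card K).factorization r) * 2 ^ a
          = π.prod (fun r => r ^ (Nat.card G).factorization r) := hpiG.symm
        _ < 2 * Nat.card (KCl (↑π : Set ℕ) G) := hk'
        _ ≤ 2 * (Nat.card (KCl (↑π : Set ℕ) K) * Nat.card (KCl (↑π : Set ℕ) (G ⧸ K))) :=
          Nat.mul_le_mul_left _ h1
        _ ≤ 2 * (Nat.card (KCl (↑π : Set ℕ) K) * 2 ^ a) :=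
          Nat.mul_le_mul_left _ (Nat.mul_le_mul_left _ h2')
        _ = (2 * Nat.card (KCl (↑π : Set ℕ) K)) * 2 ^ a := by ring
    exact Nat.lt_of_mul_lt_mul_right h3
  -- Step C: normal `r`-complements of `K`
  have hex : ∀ r ∈ π, ∃ M : Subgroup K, M.Normal ∧ ¬ r ∣ Nat.card M ∧
      (∃ k, M.index = r ^ k) ∧ _root_.commutator K ≤ M := by
    intro r hr
    by_cases hr2 : r = 2
    · subst hr2
      refine ⟨⊤, inferInstance, ?_, ⟨0, by simp⟩, le_top⟩
      rw [Subgroup.card_top]; exact hKodd2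
    · have : Fact r.Prime := ⟨hπ r hr⟩
      obtain ⟨R⟩ : Nonempty (Sylow r K) := inferInstance
      exact Cfsg.Agent.Lib.H19.OddR.exists_normal_complement_of_lt hKodd hr2 R
        (r_bound π hπ hkK hr R)
  -- Step D
  obtain ⟨⟨N₀, hN₀n, hN₀card, hN₀idx⟩, H₀, ⟨hH₀1, hH₀2⟩, hH₀c⟩ :=
    Cfsg.Agent.Lib.H19.PiCompl.exists_piComplement_and_hall π hπ hex
  -- Step E
  have hcop : Nat.Coprime (Nat.card N₀) N₀.index := by
    by_contra hnc
    obtain ⟨q, hq, hq1, hq2⟩ := Nat.Prime.not_coprime_iff_dvd.1 hnc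
    exact hN₀card q hq hq1 (hN₀idx q hq hq2)
  have hNn : (N₀.map K.subtype).Normal :=
    Cfsg.Agent.Lib.L0.normal_map_subtype_of_coprime K N₀ hcop
  refine ⟨⟨N₀.map K.subtype, hNn, ?_, ?_⟩, H₀.map K.subtype, ⟨?_, ?_⟩, ?_⟩
  · intro r hr hrd
    rw [Subgroup.card_map_of_injective K.subtype_injective] at hrd
    exact hN₀card r hr hrd
  · intro r hr hrd
    rw [Subgroup.index_map_subtype, hKidx] at hrd
    rcases (Nat.Prime.dvd_mul hr).mp hrd with h | h
    · exact hN₀idx r hr h
    · have := (Nat.prime_dvd_prime_iff_eq hr Nat.prime_two).mp (hr.dvd_of_dvd_pow h)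
      rw [this]; exact h2
  · intro p hp hpd
    rw [Subgroup.card_map_of_injective K.subtype_injective] at hpd
    refine ⟨hH₀1 p hp hpd, ?_⟩
    rintro (rfl : p = 2)
    exact hKodd2 (hpd.trans (Subgroup.card_subgroup_dvd_card H₀))
  · rintro p hp ⟨hpπ, hp2⟩ hpd
    rw [Subgroup.index_map_subtype, hKidx] at hpd
    rcases (Nat.Prime.dvd_mul hp).mp hpd with h | h
    · exact hH₀2 p hp hpπ h
    · exact hp2 ((Nat.prime_dvd_prime_iff_eq hp Nat.prime_two).mp (hp.dvd_of_dvd_pow h))
  · refine ⟨⟨fun x y => ?_⟩⟩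
    obtain ⟨u, hu, hux⟩ := x.2
    obtain ⟨v, hv, hvy⟩ := y.2
    have huv : (⟨u, hu⟩ : H₀) * ⟨v, hv⟩ = ⟨v, hv⟩ * ⟨u, hu⟩ :=
      isMulCommutative_iff.mp hH₀c _ _
    have huv' : u * v = v * u := congrArg Subtype.val huv
    apply Subtype.ext
    show (x : G) * (y : G) = (y : G) * (x : G)
    rw [← hux, ← hvy]
    show ((u * v : K) : G) = ((v * u : K) : G)
    rw [huv']

end Cfsg.Agent.S3898
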