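import Cfsg.Statements.S3899
import Cfsg.Agent.Lib.H19.KpiClasses
import Cfsg.Agent.S3897

set_option autoImplicit false
open Cfsg

namespace Cfsg.Agent.S3899

open Cfsg.Agent.Lib.H19.KpiClasses Cfsg.Agent.Lib.H9.PiElements

open scoped commutatorElement

/-- the class count of `r`-elements in the two formulations. -/
theorem card_KCl_singleton_eq {H : Type*} [Group H] [Finite H] {r : ℕ} (hr : r.Prime) :
    Nat.card (KCl ({r} : Set ℕ) H) =
      Nat.card {c : ConjClasses H // ∀ x ∈ c.carrier, ∃ k : ℕ, orderOf x = r ^ k} := by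
  apply Nat.card_congr
  exact Equiv.subtypeEquivRight (fun c => by
    constructor
    · intro h x hx
      exact (isPi_singleton_iff hr x).1 (h x hx)
    · intro h x hx
      exact (isPi_singleton_iff hr x).2 (h x hx))

/-- Step 1: each `r ∈ π` satisfies the hypothesis of S3897. -/
theorem step1 {G : Type*} [Group G] [Finite G] (π : Finset ℕ) (hπ : ∀ r ∈ π, r.Prime) (h2 : 2 ∉ π)
    (p : ℕ) (hp : p ∈ π) (hmin : ∀ r ∈ π, p ≤ r)
    (hk : (p + 1) * π.prod (fun r => r ^ (Nat.card G).factorization r) <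
      2 * p * Nat.card (KCl (↑π : Set ℕ) G))
    (r : ℕ) (hr : r ∈ π) [Fact r.Prime] (P : Sylow r G) :
    Cfsg.HasNormalPComplement r G ∧ IsMulCommutative ↥(P : Subgroup G) := by
  have hrp : r.Prime := hπ r hr
  have hr2 : r ≠ 2 := fun h => h2 (h ▸ hr)
  apply (Cfsg.Agent.S3897.result hr2 P).1
  rw [← card_KCl_singleton_eq hrp]
  have hB := card_KCl_le_mul π hπ hr (G := G)
  have hprod : π.prod (fun q => q ^ (Nat.card G).factorization q) =
      r ^ (Nat.card G).factorization r *
        (π.erase r).prod (fun q => q ^ (Nat.card G).factorization q) :=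
    (Finset.mul_prod_erase π _ hr).symm
  rw [hprod, ← P.card_eq_multiplicity] at hk
  set E := (π.erase r).prod (fun q => q ^ (Nat.card G).factorization q) with hE
  have hEpos : 0 < E := by
    apply Finset.prod_pos
    intro q hq
    exact pow_pos (hπ q (Finset.mem_of_mem_erase hq)).pos _
  set q := Nat.card (P : Subgroup G) with hq
  set Kπ := Nat.card (KCl (↑π : Set ℕ) G) with hKπ
  set Kr := Nat.card (KCl ({r} : Set ℕ) G) with hKr
  have hpr : p ≤ r := hmin r hr
  have hppos : 0 < p := (hπ p hp).pos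
  -- (p+1) q E < 2 p Kπ ≤ 2 p Kr E
  have h3 : ((p + 1) * q) * E < (2 * p * Kr) * E := by
    calc ((p + 1) * q) * E = (p + 1) * (q * E) := by ring
      _ < 2 * p * Kπ := hk
      _ ≤ 2 * p * (Kr * E) := Nat.mul_le_mul_left _ hB
      _ = (2 * p * Kr) * E := by ring
  have h4 : (p + 1) * q < 2 * p * Kr := Nat.lt_of_mul_lt_mul_right h3
  have h5 : ((r + 1) * q) * p < (2 * r * Kr) * p := by
    calc ((r + 1) * q) * p = (r * p + p) * q := by ring
      _ ≤ (r * p + r) * q := Nat.mul_le_mul_right _ (Nat.add_le_add_left hpr _)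
      _ = ((p + 1) * q) * r := by ring
      _ < (2 * p * Kr) * r := Nat.mul_lt_mul_of_pos_right h4 hrp.pos
      _ = (2 * r * Kr) * p := by ring
  exact Nat.lt_of_mul_lt_mul_right h5

/-- Let π be a finite non-empty set of odd primes with smallest member p and G a finite group. Write k_π(G) for the number of conjugacy classes of G consisting of π-elements (elements all of whose order's prime divisors lie in π) and |G|_π for the π-part of the order of G. If k_π(G) > (p + 1)|G|_π/(2p), then G has a normal π-complement (a normal subgroup of order prime to π whose index is a π-number) and an abelian Hall π-subgroup. -/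
theorem result {G : Type*} [Group G] [Finite G] (π : Finset ℕ) (hπ : ∀ r ∈ π, r.Prime) (h2 : 2 ∉ π) (p : ℕ) (hp : p ∈ π)
    (hmin : ∀ r ∈ π, p ≤ r) (hk : (p + 1) * π.prod (fun r => r ^ (Nat.card G).factorization r) < 2 * p * Nat.card {c : ConjClasses G // ∀ x ∈ c.carrier, ∀ r : ℕ, r.Prime → r ∣ orderOf x → r ∈ π}) :
    (∃ N : Subgroup G, N.Normal ∧ (∀ r : ℕ, r.Prime → r ∣ Nat.card ↥N → r ∉ π) ∧ ∀ r : ℕ, r.Prime → r ∣ N.index → r ∈ π) ∧ ∃ H : Subgroup G, Cfsg.IsPiHall (↑π : Set ℕ) H ∧ IsMulCommutative ↥H := by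
  have hk' : (p + 1) * π.prod (fun r => r ^ (Nat.card G).factorization r) <
      2 * p * Nat.card (KCl (↑π : Set ℕ) G) := hk
  -- normal complements for each `r ∈ π`
  have hex : ∀ r : π, ∃ K : Subgroup G, K.Normal ∧ ¬ (r : ℕ) ∣ Nat.card K ∧
      (∃ k, K.index = (r : ℕ) ^ k) ∧ _root_.commutator G ≤ K := by
    rintro ⟨r, hr⟩
    have : Fact r.Prime := ⟨hπ r hr⟩
    obtain ⟨P⟩ : Nonempty (Sylow r G) := inferInstance
    obtain ⟨hnpc, hab⟩ := step1 π hπ h2 p hp hmin hk' r hr P
    obtain ⟨K, hKn, hKc, hKi⟩ := Cfsg.Agent.Lib.L0.HasNormalPComplement.exists_normal hnpc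
    refine ⟨K, hKn, hKc, hKi, ?_⟩
    have hcomp := Cfsg.Agent.Lib.L0.isComplement'_sylow_of_normal K hKc hKi P
    exact Subgroup.Normal.commutator_le_of_self_sup_commutative_eq_top hcomp.sup_eq_top hab
  choose K hKn hKc hKi hKcomm using hex
  let N : Subgroup G := ⨅ r : π, K r
  have hNn : N.Normal := Subgroup.normal_iInf_normal hKn
  have hNcard : ∀ r : ℕ, r.Prime → r ∣ Nat.card ↥N → r ∉ π := by
    intro r hr hrd hrπ
    apply hKc ⟨r, hrπ⟩
    exact hrd.trans (Subgroup.card_dvd_of_le (iInf_le _ _))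
  have hNidx : ∀ r : ℕ, r.Prime → r ∣ N.index → r ∈ π := by
    intro q hq hqd
    by_contra hqπ
    have : Fact q.Prime := ⟨hq⟩
    obtain ⟨Q⟩ : Nonempty (Sylow q G) := inferInstance
    have hQN : (Q : Subgroup G) ≤ N := by
      intro g hg
      rw [Subgroup.mem_iInf]
      intro r
      obtain ⟨k, hk⟩ := hKi r
      have := hKn r
      apply Cfsg.Agent.Lib.L0.mem_of_coprime_orderOf_of_index_pow (K r) k hk g
      obtain ⟨j, hj⟩ := (IsPGroup.iff_orderOf.1 Q.2) ⟨g, hg⟩
      rw [Subgroup.orderOf_mk] at hj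
      rw [hj]
      apply Nat.Coprime.pow_left
      rw [Nat.coprime_primes hq (hπ r r.2)]
      rintro rfl
      exact hqπ r.2
    exact Q.not_dvd_index (hqd.trans (Subgroup.index_dvd_of_le hQN))
  refine ⟨⟨N, hNn, hNcard, hNidx⟩, ?_⟩
  have hcop : Nat.Coprime (Nat.card N) N.index := by
    by_contra hnc
    obtain ⟨q, hq, hq1, hq2⟩ := Nat.Prime.not_coprime_iff_dvd.1 hnc
    exact hNcard q hq hq1 (hNidx q hq hq2)
  obtain ⟨H, hH⟩ := Subgroup.exists_right_complement'_of_coprime hcop
  refine ⟨H, ⟨?_, ?_⟩, ?_⟩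
  · intro q hq hqd
    apply hNidx q hq
    rw [hH.symm.index_eq_card]; exact hqd
  · intro q hq hqπ hqd
    apply hNcard q hq _ hqπ
    rw [← hH.index_eq_card]; exact hqd
  · refine ⟨⟨fun a b => ?_⟩⟩
    have h1 : ⁅(a : G), (b : G)⁆ ∈ N := by
      rw [Subgroup.mem_iInf]
      intro r
      apply hKcomm r
      rw [commutator_def]
      exact Subgroup.commutator_mem_commutator (Subgroup.mem_top _) (Subgroup.mem_top _)
    have h3 : ⁅(a : G), (b : G)⁆ ∈ H := by
      rw [commutatorElement_def]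
      exact H.mul_mem (H.mul_mem (H.mul_mem a.2 b.2) (H.inv_mem a.2)) (H.inv_mem b.2)
    have h4 := Subgroup.disjoint_def.1 hH.disjoint h1 h3
    rw [commutatorElement_eq_one_iff_mul_comm] at h4
    exact Subtype.ext h4

end Cfsg.Agent.S3899
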