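-- Statement S3901 (row 3901): the theorem Cfsg.fg3_prime_power_orders_outside_nonsolvable_normal_subgroup.
-- FINAL by helper22 (architect).  Proof: board #10173.  Pieces: LL (helper26), PROP A (helper9), STEP B (helper18),
-- the assembly `main` (helper22) with the landed Burnside two-prime theorem.
import Cfsg.Statements.S3901
import Cfsg.Agent.Lib.H22.S3901Main
import Cfsg.Agent.Lib.H26.S3901LL
import Cfsg.Agent.Lib.H9.S3901PropA
import Cfsg.Agent.Lib.H18.S3901StepB

set_option autoImplicit false
open Cfsg

namespace Cfsg.Agent.S3901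

/-- Let N be a non-trivial normal subgroup of the finite group G such that every element of G outside N has prime power order. If N is not solvable, then G/N is solvable. -/
theorem result {G : Type*} [Group G] [Finite G] (N : Subgroup G) [N.Normal] (hN : N ≠ ⊥) (hns : ¬ Group.IsSolvable ↥N)
    (h : ∀ x : G, x ∉ N → IsPrimePow (orderOf x)) : Group.IsSolvable (G ⧸ N) := by
  exact Cfsg.Agent.Lib.H22.S3901Main.main
    (Cfsg.Agent.Lib.H9.S3901PropA.propA Cfsg.Agent.Lib.H26.S3901LL.ll)
    Cfsg.Agent.Lib.H18.S3901StepB.stepB N hns h

end Cfsg.Agent.S3901
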