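import Cfsg.Statements.S4262
import Mathlib
import Cfsg.Agent.Lib.H21.CMGroup3

set_option autoImplicit false
open Cfsg

namespace Cfsg.Agent.S4262

open Cfsg.Agent.Lib.H21.CM

universe u

/-- The property passes to the quotient by the centre. -/
theorem CM_quotient_center {G : Type u} [Group G] (hCM : CM G) :
    CM (G ⧸ Subgroup.center G) := by
  intro g' hg'
  obtain ⟨Z, hZ⟩ : ∃ Z : Subgroup G, Z = Subgroup.center G := ⟨_, rfl⟩
  haveI : Z.Normal := hZ ▸ inferInstance
  suffices hsuff : ∀ g' : G ⧸ Z, g' ∉ Subgroup.center (G ⧸ Z) →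
      IsCoatom (Subgroup.centralizer ({g'} : Set (G ⧸ Z))) by
    subst hZ
    exact hsuff g' hg'
  clear hg' g'
  intro g' hg'
  have hsurj : Function.Surjective (QuotientGroup.mk' Z) := QuotientGroup.mk'_surjective Z
  obtain ⟨g, rfl⟩ := hsurj g'
  have hg : g ∉ Subgroup.center G := by
    intro h
    apply hg'
    have : QuotientGroup.mk' Z g = 1 := (QuotientGroup.eq_one_iff g).mpr (hZ ▸ h)
    rw [this]
    exact Subgroup.one_mem _
  have hC := hCM g hg
  set C := Subgroup.centralizer ({g} : Set G) with hCdef
  have hZC : Z ≤ C := hZ ▸ Subgroup.center_le_centralizer _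
  have hker : (QuotientGroup.mk' Z).ker ≤ C := by rw [QuotientGroup.ker_mk']; exact hZC
  have hcomap : (C.map (QuotientGroup.mk' Z)).comap (QuotientGroup.mk' Z) = C :=
    Subgroup.comap_map_eq_self hker
  -- the image of `C` is a coatom
  have hcoat : IsCoatom (C.map (QuotientGroup.mk' Z)) := by
    constructor
    · intro h
      apply hC.1
      rw [← hcomap, h, Subgroup.comap_top]
    · intro L hL
      have h1 : C ≤ L.comap (QuotientGroup.mk' Z) := by
        rw [← hcomap]
        exact Subgroup.comap_mono hL.le
      have h2 : C ≠ L.comap (QuotientGroup.mk' Z) := by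
        intro h
        apply hL.ne
        rw [h, Subgroup.map_comap_eq_self_of_surjective hsurj]
      have h3 := hC.2 _ (lt_of_le_of_ne h1 h2)
      rw [← Subgroup.map_comap_eq_self_of_surjective hsurj L, h3, ← MonoidHom.range_eq_map,
        MonoidHom.range_eq_top.mpr hsurj]
  -- the centralizer of the image contains the image of `C`
  have hle : C.map (QuotientGroup.mk' Z)
      ≤ Subgroup.centralizer ({QuotientGroup.mk' Z g} : Set (G ⧸ Z)) := by
    rintro _ ⟨c, hc, rfl⟩
    rw [Subgroup.mem_centralizer_iff]
    intro y hy
    rw [Set.mem_singleton_iff] at hy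
    rw [hy, ← map_mul, ← map_mul]
    have := (Subgroup.mem_centralizer_iff.mp hc) g rfl
    rw [this]
  rcases eq_or_lt_of_le hle with h | h
  · rw [← h]; exact hcoat
  · exfalso
    apply hg'
    have htop := hcoat.2 _ h
    rw [Subgroup.mem_center_iff]
    intro y
    have hy : y ∈ Subgroup.centralizer ({QuotientGroup.mk' Z g} : Set (G ⧸ Z)) := by
      rw [htop]; exact Subgroup.mem_top y
    exact ((Subgroup.mem_centralizer_iff.mp hy) _ rfl).symm

theorem main : ∀ (n : ℕ) (G : Type u) [Group G] [Finite G], Nat.card G = n → CM G →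
    Group.IsSolvable G := by
  intro n
  induction n using Nat.strong_induction_on with
  | _ n ih =>
    intro G _ _ hn hCM
    by_cases hZ : Subgroup.center G = ⊥
    · by_cases hnt : Nontrivial G
      · by_cases hI : ∃ x : G, x ≠ 1 ∧ M x ≤ A x
        · obtain ⟨x, hx, hI⟩ := hI
          exact solvable_of_typeI hCM hZ hx hI
        · have hII : ∀ x : G, x ≠ 1 → ¬ M x ≤ A x := fun x hx h => hI ⟨x, hx, h⟩
          exact solvable_of_allII hCM hZ hII
      · rw [not_nontrivial_iff_subsingleton] at hnt
        exact isSolvable_of_comm (fun a b => Subsingleton.elim _ _)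
    · -- pass to the quotient by the centre
      have hlt : Nat.card (G ⧸ Subgroup.center G) < n := by
        have h1 := Subgroup.card_eq_card_quotient_mul_card_subgroup (Subgroup.center G)
        have h2 : 1 < Nat.card (Subgroup.center G) := by
          rw [Subgroup.one_lt_card_iff_ne_bot]
          exact hZ
        have h3 : 0 < Nat.card (G ⧸ Subgroup.center G) := Nat.card_pos
        rw [← hn, h1]
        nlinarith
      have hq : Group.IsSolvable (G ⧸ Subgroup.center G) :=
        ih _ hlt (G ⧸ Subgroup.center G) rfl (CM_quotient_center hCM)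
      have hc : Group.IsSolvable (Subgroup.center G) :=
        isSolvable_of_comm (fun a b => Subtype.ext
          ((Subgroup.mem_center_iff.mp a.2 (b : G)).symm))
      exact solvable_of_ker_le_range (Subgroup.center G).subtype
        (QuotientGroup.mk' (Subgroup.center G))
        (by rw [QuotientGroup.ker_mk', Subgroup.range_subtype])

theorem result {G : Type*} [Group G] [Finite G]
    (h : ∀ g : G, g ∉ Subgroup.center G → IsCoatom (Subgroup.centralizer ({g} : Set G))) :
    Group.IsSolvable G :=
  main (Nat.card G) G rfl h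

end Cfsg.Agent.S4262
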