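import Cfsg.Statements.S3904
import Mathlib
import Cfsg.Agent.S4262
import Cfsg.Agent.Lib.H21.CMGroup4
import Cfsg.Agent.Lib.H21.Ito3

set_option autoImplicit false
open Cfsg

namespace Cfsg.Agent.S3904

open scoped commutatorElement
open Subgroup Cfsg.Agent.Lib.H21.CM Cfsg.Agent.Lib.H21.Ito

universe u

/-- Case (a): some non-central element has all its commutators central. -/
theorem case_a {G : Type u} [Group G] [Finite G] (h : CM G) (x : G) (hxZ : x ∉ center G)
    (hxc : ∀ g : G, ⁅x, g⁆ ∈ center G) :
    ∃ p : ℕ, p.Prime ∧ (∀ a b : G, ⁅a, b⁆ ∈ center G) ∧ ∀ g : G, g ^ p ∈ center G := by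
  have hMx : IsCoatom (Cx x) := h x hxZ
  haveI hMxn : (Cx x).Normal := ⟨fun w hw g => conj_mem_Cx_of_comm_central (hxc g) hw⟩
  have hp : (Cx x).index.Prime := index_prime_of_coatom _ hMx
  set p := (Cx x).index with hpdef
  have hpowN : ∀ (N : Subgroup G) [N.Normal] (g : G), g ^ N.index ∈ N := by
    intro N _ g
    have h1 : (QuotientGroup.mk g : G ⧸ N) ^ N.index = 1 := by
      have : Nat.card (G ⧸ N) = N.index := rfl
      rw [← this]; exact pow_card_eq_one'
    rw [← QuotientGroup.mk_pow, QuotientGroup.eq_one_iff] at h1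
    exact h1
  have hpow : ∀ g : G, g ^ p ∈ Cx x := fun g => hpowN (Cx x) g
  -- x⁻¹ also has central commutators
  have hxc' : ∀ g : G, ⁅g, x⁆ ∈ center G := by
    intro g
    rw [← commutatorElement_inv]; exact (center G).inv_mem (hxc g)
  have hxinv : ∀ g : G, ⁅g, x⁻¹⁆ ∈ center G := by
    intro g
    have h1 : ⁅g, x⁻¹⁆ = x⁻¹ * ⁅x, g⁆ * x⁻¹⁻¹ := by
      rw [commutatorElement_def, commutatorElement_def]; group
    rw [h1]
    exact (inferInstance : (center G).Normal).conj_mem _ (hxc g) _
  -- for u ∉ C(x), C(u) is a normal coatom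
  have hnormal : ∀ u : G, u ∉ Cx x → (Cx u).Normal := by
    intro u hu
    have huZ : u ∉ center G := fun hz => hu (center_le_Cx x hz)
    have hMu : IsCoatom (Cx u) := h u huZ
    have hxN : x ∈ normalizer (Cx u : Set G) := by
      rw [mem_normalizer_iff]
      intro w
      constructor
      · intro hw
        exact conj_mem_Cx_of_comm_central (hxc' u) hw
      · intro hw
        have := conj_mem_Cx_of_comm_central (hxinv u) hw
        rw [show x⁻¹ * (x * w * x⁻¹) * x⁻¹⁻¹ = w by group] at this
        exact this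
    have hxu : x ∉ Cx u := by
      intro hx
      apply hu
      rw [mem_Cx] at hx ⊢
      exact hx.symm
    have hlt : Cx u < normalizer (Cx u : Set G) :=
      lt_of_le_of_ne le_normalizer (fun heq => hxu (heq ▸ hxN))
    exact normalizer_eq_top_iff.1 (hMu.2 _ hlt)
  have hcommu : ∀ u : G, u ∉ Cx x → ∀ a b : G, ⁅a, b⁆ ∈ Cx u := by
    intro u hu a b
    have huZ : u ∉ center G := fun hz => hu (center_le_Cx x hz)
    have hMu : IsCoatom (Cx u) := h u huZ
    haveI := hnormal u hu
    have := comm_quotient_of_coatom (Cx u) hMu (QuotientGroup.mk a) (QuotientGroup.mk b)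
    rw [← QuotientGroup.eq_one_iff, commutatorElement_def]
    simp only [QuotientGroup.mk_mul, QuotientGroup.mk_inv]
    rw [this]; group
  obtain ⟨u₀, hu₀⟩ : ∃ u₀ : G, u₀ ∉ Cx x := by
    by_contra hcon
    push Not at hcon
    exact hMx.1 (eq_top_iff.2 (fun g _ => hcon g))
  have hmulu₀ : ∀ v : G, v ∈ Cx x → v * u₀ ∉ Cx x := by
    intro v hv hvu
    apply hu₀
    have : u₀ = v⁻¹ * (v * u₀) := by group
    rw [this]
    exact (Cx x).mul_mem ((Cx x).inv_mem hv) hvu
  -- all commutators are central
  have hcomm : ∀ a b : G, ⁅a, b⁆ ∈ center G := by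
    intro a b
    rw [mem_center_iff]
    intro g
    by_cases hg : g ∈ Cx x
    · have h1 := hcommu _ (hmulu₀ g hg) a b
      have h2 := hcommu _ hu₀ a b
      rw [mem_Cx] at h1 h2
      calc g * ⁅a, b⁆ = g * (⁅a, b⁆ * u₀) * u₀⁻¹ := by group
        _ = g * (u₀ * ⁅a, b⁆) * u₀⁻¹ := by rw [h2]
        _ = (g * u₀ * ⁅a, b⁆) * u₀⁻¹ := by group
        _ = (⁅a, b⁆ * (g * u₀)) * u₀⁻¹ := by rw [h1]
        _ = ⁅a, b⁆ * g := by group
    · have h1 := hcommu _ hg a b
      rw [mem_Cx] at h1
      exact h1.symm
  -- p-th powers of elements outside C(x) are central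
  have hpowu : ∀ u : G, u ∉ Cx x → u ^ p ∈ center G := by
    intro u hu
    have huZ : u ∉ center G := fun hz => hu (center_le_Cx x hz)
    have hMu : IsCoatom (Cx u) := h u huZ
    haveI := hnormal u hu
    have hr : (Cx u).index.Prime := index_prime_of_coatom _ hMu
    set r := (Cx u).index with hrdef
    have hc1 : ⁅x, u⁆ ≠ 1 := by
      intro hc
      rw [commutatorElement_eq_one_iff_mul_comm] at hc
      apply hu
      rw [mem_Cx]; exact hc.symm
    have hcp : ⁅x, u⁆ ^ p = 1 := by
      rw [← comm_pow_right' (hcomm x u), commutatorElement_eq_one_iff_mul_comm]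
      have := hpow u
      rw [mem_Cx] at this
      exact this.symm
    have hcr : ⁅x, u⁆ ^ r = 1 := by
      rw [← comm_pow_left' (hcomm x u), commutatorElement_eq_one_iff_mul_comm]
      have := hpowN (Cx u) x
      rw [mem_Cx] at this
      exact this
    have ho1 : orderOf ⁅x, u⁆ ≠ 1 := by
      rw [Ne, orderOf_eq_one_iff]; exact hc1
    have hop : orderOf ⁅x, u⁆ = p :=
      (Nat.dvd_prime hp).1 (orderOf_dvd_of_pow_eq_one hcp) |>.resolve_left ho1
    have hor : orderOf ⁅x, u⁆ = r :=
      (Nat.dvd_prime hr).1 (orderOf_dvd_of_pow_eq_one hcr) |>.resolve_left ho1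
    have hpr : p = r := hop.symm.trans hor
    rw [mem_center_iff]
    intro g
    have h1 : ⁅u ^ p, g⁆ = 1 := by
      rw [comm_pow_left' (hcomm u g), ← comm_pow_right' (hcomm u g),
        commutatorElement_eq_one_iff_mul_comm]
      have := hpowN (Cx u) g
      rw [← hrdef, ← hpr, mem_Cx] at this
      exact this.symm
    rw [commutatorElement_eq_one_iff_mul_comm] at h1
    exact h1.symm
  refine ⟨p, hp, hcomm, ?_⟩
  intro g
  by_cases hg : g ∈ Cx x
  · have h1 := hpowu _ (hmulu₀ g hg)
    have h2 := hpowu _ hu₀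
    -- (g u₀)^p = g^p u₀^p modulo centre
    have hqc : ∀ a b : G ⧸ center G, a * b = b * a := by
      intro a b
      obtain ⟨a, rfl⟩ := QuotientGroup.mk_surjective a
      obtain ⟨b, rfl⟩ := QuotientGroup.mk_surjective b
      have := hcomm a b
      rw [← QuotientGroup.eq_one_iff, commutatorElement_def] at this
      simp only [QuotientGroup.mk_mul, QuotientGroup.mk_inv] at this
      rw [mul_inv_eq_one, mul_inv_eq_iff_eq_mul] at this
      exact this
    rw [← QuotientGroup.eq_one_iff] at h1 h2 ⊢
    rw [QuotientGroup.mk_pow] at h1 h2 ⊢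
    rw [QuotientGroup.mk_mul, (show Commute (QuotientGroup.mk g : G ⧸ center G)
      (QuotientGroup.mk u₀) from hqc _ _).mul_pow, h2, mul_one] at h1
    exact h1
  · exact hpowu g hg

/-- Let G be a non-abelian finite group in which the centralizer of every non-central element is a maximal subgroup. Then G/Z(G) is either an elementary abelian p-group for some prime p, or a minimal non-abelian group (non-abelian with all proper subgroups abelian) of order p^a · q for distinct primes p, q with a normal Sylow p-subgroup. -/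
theorem result {G : Type*} [Group G] [Finite G] (hna : ¬ IsMulCommutative G)
    (h : ∀ x : G, x ∉ Subgroup.center G → IsCoatom (Subgroup.centralizer ({x} : Set G))) :
    (∃ p : ℕ, p.Prime ∧ Cfsg.IsElementaryAbelian p (⊤ : Subgroup (G ⧸ Subgroup.center G))) ∨
    (¬ IsMulCommutative (G ⧸ Subgroup.center G) ∧ (∀ H : Subgroup (G ⧸ Subgroup.center G), H ≠ ⊤ → IsMulCommutative ↥H) ∧
      ∃ p q a : ℕ, p.Prime ∧ q.Prime ∧ p ≠ q ∧ Nat.card (G ⧸ Subgroup.center G) = p ^ a * q ∧
        ∀ P : Subgroup (G ⧸ Subgroup.center G), Nat.card ↥P = p ^ a → P.Normal) := by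
  have hCM : CM G := h
  by_cases hx : ∃ x : G, x ∉ center G ∧ ∀ g : G, ⁅x, g⁆ ∈ center G
  · left
    obtain ⟨x, hxZ, hxc⟩ := hx
    obtain ⟨p, hp, hcomm, hpow⟩ := case_a hCM x hxZ hxc
    refine ⟨p, hp, ⟨⟨?_⟩⟩, ?_⟩
    · rintro ⟨a, -⟩ ⟨b, -⟩
      apply Subtype.ext
      show a * b = b * a
      obtain ⟨a, rfl⟩ := QuotientGroup.mk_surjective a
      obtain ⟨b, rfl⟩ := QuotientGroup.mk_surjective b
      have := hcomm a b
      rw [← QuotientGroup.eq_one_iff, commutatorElement_def] at this
      simp only [QuotientGroup.mk_mul, QuotientGroup.mk_inv] at this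
      rw [mul_inv_eq_one, mul_inv_eq_iff_eq_mul] at this
      exact this
    · intro a _
      obtain ⟨a, rfl⟩ := QuotientGroup.mk_surjective a
      rw [← QuotientGroup.mk_pow, QuotientGroup.eq_one_iff]
      exact hpow a
  · right
    push Not at hx
    have hZq : center (G ⧸ center G) = ⊥ := by
      rw [eq_bot_iff]
      intro a ha
      obtain ⟨a, rfl⟩ := QuotientGroup.mk_surjective a
      rw [mem_bot, QuotientGroup.eq_one_iff]
      by_contra haZ
      obtain ⟨g, hg⟩ := hx a haZ
      apply hg
      rw [← QuotientGroup.eq_one_iff, commutatorElement_def]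
      simp only [QuotientGroup.mk_mul, QuotientGroup.mk_inv]
      rw [mem_center_iff] at ha
      rw [← ha (QuotientGroup.mk g)]
      group
    haveI : Nontrivial (G ⧸ center G) := by
      by_contra hnt
      rw [not_nontrivial_iff_subsingleton] at hnt
      apply hna
      refine ⟨⟨fun a b => ?_⟩⟩
      have ha : a ∈ center G := by
        rw [← QuotientGroup.eq_one_iff]; exact Subsingleton.elim _ _
      exact (mem_center_iff.1 ha b).symm
    obtain ⟨K, p, q, a, hKn, hp, hq, hpq, hKq, hKcard, -, -, hLab, htq⟩ :=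
      centerless_structure (Cfsg.Agent.S4262.CM_quotient_center hCM) hZq
    refine ⟨?_, ?_, p, q, a, hp, hq, hpq, ?_, ?_⟩
    · intro hc
      have : center (G ⧸ center G) = ⊤ := by
        rw [eq_top_iff]
        intro a _
        rw [mem_center_iff]
        intro b
        exact hc.is_comm.comm b a
      rw [hZq] at this
      exact bot_ne_top this
    · intro L hL
      refine ⟨⟨?_⟩⟩
      rintro ⟨a, ha⟩ ⟨b, hb⟩
      exact Subtype.ext (hLab L hL a ha b hb)
    · rw [← hKcard, ← hKq, mul_comm]
      exact (K.index_mul_card).symm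
    · intro P hP
      have hPK : P ≤ K := by
        intro t ht
        by_contra htK
        have h1 := htq t htK
        have h2 : t ^ (p ^ a) = 1 := by
          have : (⟨t, ht⟩ : P) ^ Nat.card P = 1 := pow_card_eq_one'
          rw [hP] at this
          exact Subtype.ext_iff.1 this
        have hcop : Nat.Coprime q (p ^ a) :=
          Nat.Coprime.pow_right _ ((Nat.coprime_primes hq hp).2 hpq.symm)
        have h3 : orderOf t ∣ 1 := by
          rw [← hcop]
          exact Nat.dvd_gcd (orderOf_dvd_of_pow_eq_one h1) (orderOf_dvd_of_pow_eq_one h2)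
        rw [Nat.dvd_one, orderOf_eq_one_iff] at h3
        exact htK (h3 ▸ K.one_mem)
      have : P = K := by
        apply Subgroup.eq_of_le_of_card_ge hPK
        rw [hP, hKcard]
      rw [this]; exact hKn

end Cfsg.Agent.S3904
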