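import Cfsg.Statements.S3908
import Cfsg.Agent.Lib.H22.OrderPSq
import Cfsg.Agent.Lib.H22.UniqueInvolution

set_option autoImplicit false
open Cfsg

namespace Cfsg.Agent.S3908

open Cfsg.Agent.Lib.H22

theorem key {G : Type*} [Group G] [Finite G]
    (hB : ∀ A B : Subgroup G, IsMulCommutative ↥A → IsMulCommutative ↥B → Nat.card ↥A = Nat.card ↥B →
      ∃ g : G, B = A.map (MulAut.conj g).toMonoidHom)
    (p : ℕ) [hp : Fact p.Prime] (Q : Subgroup G) (hQ : IsPGroup p Q) :
    (∀ x ∈ Q, x ^ p = 1) ∨ AtMostOneOrderP p ↥Q := by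
  by_contra h
  push Not at h
  obtain ⟨⟨x, hxQ, hxp⟩, hnot⟩ := h
  obtain ⟨E, hEcard, hEnc⟩ := exists_noncyclic_sq_of_not_atMostOne hQ hnot
  have hx' : (⟨x, hxQ⟩ : Q) ^ p ≠ 1 := by
    intro h1
    apply hxp
    simpa using congrArg Subtype.val h1
  obtain ⟨y, -, hyo⟩ := exists_orderOf_eq_sq_of_pow_ne_one hQ ⟨x, hxQ⟩ hx'
  have hyo' : orderOf (y : G) = p ^ 2 := by rw [Subgroup.orderOf_coe, hyo]
  have hcardB : Nat.card (E.map Q.subtype) = p ^ 2 := by
    rw [Subgroup.card_map_of_injective Q.subtype_injective, hEcard]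
  have hBc : IsMulCommutative ↥(E.map Q.subtype) :=
    IsPGroup.isMulCommutative_of_card_eq_prime_sq hcardB
  obtain ⟨g, hg⟩ := hB (Subgroup.zpowers (y : G)) (E.map Q.subtype) inferInstance hBc
    (by rw [Nat.card_zpowers, hyo', hcardB])
  rw [MonoidHom.map_zpowers] at hg
  have hcyc : IsCyclic ↥(E.map Q.subtype) := by
    rw [hg]; infer_instance
  apply hEnc
  have e := Subgroup.equivMapOfInjective E Q.subtype Q.subtype_injective
  exact isCyclic_of_surjective e.symm e.symm.surjective

/-- Let G be a finite group in which any two abelian subgroups of the same order are conjugate. Then a Sylow 2-subgroup of G is cyclic, elementary abelian or generalized quaternion, and for an odd prime p a Sylow p-subgroup of G is cyclic or has exponent dividing p. -/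
theorem result {G : Type*} [Group G] [Finite G] (hB : ∀ A B : Subgroup G, IsMulCommutative ↥A → IsMulCommutative ↥B → Nat.card ↥A = Nat.card ↥B → ∃ g : G, B = A.map (MulAut.conj g).toMonoidHom) :
    (∀ P : Sylow 2 G, IsCyclic ↥(P : Subgroup G) ∨ Cfsg.IsElementaryAbelian 2 (P : Subgroup G) ∨ ∃ k : ℕ, Nonempty (↥(P : Subgroup G) ≃* QuaternionGroup (2 ^ k))) ∧
    ∀ (p : ℕ) [Fact p.Prime], p ≠ 2 → ∀ P : Sylow p G, IsCyclic ↥(P : Subgroup G) ∨ ∀ x ∈ (P : Subgroup G), x ^ p = 1 := by
  constructor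
  · intro P
    have : Fact (Nat.Prime 2) := ⟨Nat.prime_two⟩
    rcases key hB 2 (P : Subgroup G) P.isPGroup' with h | h
    · right; left
      refine ⟨?_, h⟩
      refine ⟨⟨fun a b => ?_⟩⟩
      apply mul_comm_of_sq_eq_one
      intro x
      apply Subtype.ext
      simpa using h x x.2
    · rcases cyclic_or_quaternion_of_atMostOne P.isPGroup' h with h1 | ⟨n, -, hn⟩
      · left; exact h1
      · right; right; exact ⟨n, hn⟩
  · intro p _ hp2 P
    rcases key hB p (P : Subgroup G) P.isPGroup' with h | h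
    · right; exact h
    · left
      exact isCyclic_of_atMostOne_of_odd hp2 _ _ rfl P.isPGroup' h

end Cfsg.Agent.S3908
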