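import Cfsg.Statements.S3909
import Cfsg.Agent.Lib.H19.Basic
import Mathlib.Tactic.Group

set_option autoImplicit false
open Cfsg
open Cfsg.Agent.Lib.H19

namespace Cfsg.Agent.S3909

/-- Under property B, a normal subgroup containing an element of the same order as `a` contains `a`. -/
theorem mem_of_orderOf_eq {G : Type*} [Group G] [Finite G] (hB : ∀ A B : Subgroup G, IsMulCommutative ↥A → IsMulCommutative ↥B → Nat.card ↥A = Nat.card ↥B → ∃ g : G, B = A.map (MulAut.conj g).toMonoidHom) (M : Subgroup G) [hM : M.Normal] (a m : G) (hm : m ∈ M) (ho : orderOf m = orderOf a) : a ∈ M := by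
  have h1 : IsMulCommutative (Subgroup.zpowers m) := inferInstance
  have h2 : IsMulCommutative (Subgroup.zpowers a) := inferInstance
  have h3 : Nat.card (Subgroup.zpowers m) = Nat.card (Subgroup.zpowers a) := by
    rw [Nat.card_zpowers, Nat.card_zpowers, ho]
  obtain ⟨g, hg⟩ := hB _ _ h1 h2 h3
  have ha : a ∈ Subgroup.zpowers a := Subgroup.mem_zpowers a
  rw [hg, mem_map_conj] at ha
  have h4 : g⁻¹ * a * g ∈ M := (Subgroup.zpowers_le.mpr hm) ha
  have := hM.conj_mem _ h4 g
  simpa [mul_assoc] using this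

theorem result {G : Type*} [Group G] [Finite G] (hB : ∀ A B : Subgroup G, IsMulCommutative ↥A → IsMulCommutative ↥B → Nat.card ↥A = Nat.card ↥B → ∃ g : G, B = A.map (MulAut.conj g).toMonoidHom) (M : Subgroup G) [M.Normal] :
    (∀ a : G, (∃ m ∈ M, orderOf m = orderOf a) → a ∈ M) ∧
    ∀ (p t : ℕ) [Fact p.Prime], 2 ≤ t → Nat.card ↥M = p ^ t → Cfsg.IsElementaryAbelian p M → ∀ P : Sylow p G, (P : Subgroup G) = M := by
  have part1 : ∀ a : G, (∃ m ∈ M, orderOf m = orderOf a) → a ∈ M := by
    rintro a ⟨m, hm, ho⟩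
    exact mem_of_orderOf_eq hB M a m hm ho
  refine ⟨part1, ?_⟩
  intro p t hp ht hcard hel P
  have hpp : p.Prime := hp.out
  have hMp : IsPGroup p M := IsPGroup.of_card hcard
  have hMP : M ≤ P := hMp.le_sylow_of_normal P
  -- a subgroup of order p^2 inside M
  have hdvd : p ^ 2 ∣ Nat.card M := by rw [hcard]; exact pow_dvd_pow p ht
  obtain ⟨K, hK⟩ := Sylow.exists_subgroup_card_pow_prime p hdvd
  let M₂ : Subgroup G := K.map M.subtype
  have hM₂card : Nat.card M₂ = p ^ 2 := by
    rw [← hK]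
    exact Nat.card_congr (K.equivMapOfInjective _ M.subtype_injective).symm.toEquiv
  have hM₂M : M₂ ≤ M := by
    rintro _ ⟨k, _, rfl⟩
    exact k.2
  have hM₂comm : IsMulCommutative M₂ := by
    constructor; constructor
    intro x y
    have := hel.1.is_comm.comm ⟨x, hM₂M x.2⟩ ⟨y, hM₂M y.2⟩
    apply Subtype.ext
    have h' := congrArg Subtype.val this
    exact h'
  -- no element of order p^2
  have hno : ∀ y : G, orderOf y ≠ p ^ 2 := by
    intro y hy
    have h2 : IsMulCommutative (Subgroup.zpowers y) := inferInstance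
    have h3 : Nat.card (Subgroup.zpowers y) = Nat.card M₂ := by
      rw [Nat.card_zpowers, hy, hM₂card]
    obtain ⟨g, hg⟩ := hB _ _ h2 hM₂comm h3
    have hy' : g * y * g⁻¹ ∈ M₂ := by
      rw [hg]; exact conj_mem_map_conj (Subgroup.mem_zpowers y)
    have h4 : (g * y * g⁻¹) ^ p = 1 := hel.2 _ (hM₂M hy')
    have h5 : orderOf (g * y * g⁻¹) ∣ p := orderOf_dvd_of_pow_eq_one h4
    rw [orderOf_conj_eq, hy] at h5
    have : p ^ 2 ≤ p := Nat.le_of_dvd hpp.pos h5
    have : p * p ≤ p * 1 := by rw [← pow_two]; omega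
    have := Nat.le_of_mul_le_mul_left this hpp.pos
    have := hpp.one_lt
    omega
  -- an element of order p in M
  have hpM : p ∣ Nat.card M := by rw [hcard]; exact dvd_pow_self p (by omega)
  obtain ⟨m, hm⟩ := exists_prime_orderOf_dvd_card' p hpM
  have hm' : orderOf (m : G) = p := by rw [← hm]; exact Subgroup.orderOf_coe m
  apply le_antisymm _ hMP
  intro x hx
  obtain ⟨k, hk⟩ := (IsPGroup.iff_orderOf.mp P.isPGroup') ⟨x, hx⟩
  rw [Subgroup.orderOf_mk] at hk
  rcases Nat.lt_or_ge k 2 with hk2 | hk2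
  · rcases Nat.lt_or_ge k 1 with hk1 | hk1
    · have : k = 0 := by omega
      rw [this, pow_zero, orderOf_eq_one_iff] at hk
      rw [hk]; exact M.one_mem
    · have : k = 1 := by omega
      rw [this, pow_one] at hk
      exact part1 x ⟨m, m.2, by rw [hm', hk]⟩
  · exfalso
    apply hno (x ^ p ^ (k - 2))
    have hdvd : p ^ (k - 2) ∣ orderOf x := by rw [hk]; exact pow_dvd_pow p (by omega)
    rw [orderOf_pow_of_dvd (pow_ne_zero _ hpp.ne_zero) hdvd, hk]
    have : p ^ k = p ^ (k - 2) * p ^ 2 := by rw [← pow_add]; congr 1; omega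
    rw [this, Nat.mul_div_cancel_left _ (pow_pos hpp.pos _)]

end Cfsg.Agent.S3909
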