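import Cfsg.Statements.S3910
import Cfsg.Agent.S3909
import Mathlib.GroupTheory.SpecificGroups.ZGroup
import Mathlib.GroupTheory.Nilpotent

set_option autoImplicit false
open Cfsg
open Cfsg.Agent.Lib.H19

namespace Cfsg.Agent.S3910

/-- any two abelian subgroups of the same order are conjugate -/
def PropB (G : Type*) [Group G] : Prop :=
  ∀ A B : Subgroup G, IsMulCommutative ↥A → IsMulCommutative ↥B → Nat.card ↥A = Nat.card ↥B →
    ∃ g : G, B = A.map (MulAut.conj g).toMonoidHom

theorem key {P : Type*} [Group P] [Finite P] {p : ℕ} [Fact p.Prime] (hP : IsPGroup p P)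
    (hB : PropB P) (M N : Subgroup P) [M.Normal] (hMN : ¬ M ≤ N) (c : P) (hc : c ∉ M)
    (hmin : ∀ b, b ∉ M ⊓ N → orderOf c ≤ orderOf b) : False := by
  have hpp : p.Prime := Fact.out
  obtain ⟨b, hbM, hbN⟩ := SetLike.not_le_iff_exists.mp hMN
  have hb : b ∉ M ⊓ N := fun h => hbN h.2
  have hle := hmin b hb
  obtain ⟨i, hi⟩ := (IsPGroup.iff_orderOf.mp hP) c
  obtain ⟨j, hj⟩ := (IsPGroup.iff_orderOf.mp hP) b
  rw [hi, hj] at hle
  have hij : i ≤ j := (Nat.pow_le_pow_iff_right hpp.one_lt).mp hle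
  have hb' : b ^ p ^ (j - i) ∈ M := M.pow_mem hbM _
  have hord : orderOf (b ^ p ^ (j - i)) = orderOf c := by
    have hdvd : p ^ (j - i) ∣ orderOf b := by rw [hj]; exact pow_dvd_pow p (by omega)
    rw [orderOf_pow_of_dvd (pow_ne_zero _ hpp.ne_zero) hdvd, hj, hi]
    have : p ^ j = p ^ (j - i) * p ^ i := by rw [← pow_add]; congr 1; omega
    rw [this, Nat.mul_div_cancel_left _ (pow_pos hpp.pos _)]
  exact hc (Cfsg.Agent.S3909.mem_of_orderOf_eq hB M c _ hb' hord)

theorem pgroup_cyclic {P : Type*} [Group P] [Finite P] {p : ℕ} [Fact p.Prime] (hP : IsPGroup p P)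
    (hB : PropB P) : IsCyclic P := by
  by_contra hnc
  have hnt : Nontrivial P := Nontrivial.of_not_isCyclic hnc
  have hnil : Group.IsNilpotent P := hP.isNilpotent
  have hnorm : ∀ H : Subgroup P, IsCoatom H → H.Normal := fun H hH =>
    Subgroup.NormalizerCondition.normal_of_coatom H Group.normalizerCondition_of_isNilpotent hH
  obtain ⟨M₁, hM₁, _⟩ : ∃ M : Subgroup P, IsCoatom M ∧ ⊥ ≤ M := by
    rcases eq_top_or_exists_le_coatom (⊥ : Subgroup P) with h | h
    · exact absurd h bot_ne_top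
    · exact h
  obtain ⟨a, ha⟩ : ∃ a, a ∉ M₁ := by
    by_contra h
    have h' : ∀ y, y ∈ M₁ := fun y => by by_contra hy; exact h ⟨y, hy⟩
    exact hM₁.1 ((Subgroup.eq_top_iff' M₁).mpr h')
  have hza : Subgroup.zpowers a ≠ ⊤ := fun h => hnc (isCyclic_iff_exists_zpowers_eq_top.mpr ⟨a, h⟩)
  obtain ⟨M₂, hM₂, haM₂⟩ : ∃ M : Subgroup P, IsCoatom M ∧ Subgroup.zpowers a ≤ M := by
    rcases eq_top_or_exists_le_coatom (Subgroup.zpowers a) with h | h
    · exact absurd h hza
    · exact h
  have haM₂' : a ∈ M₂ := haM₂ (Subgroup.mem_zpowers a)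
  have h12 : ¬ M₁ ≤ M₂ := by
    intro hle
    rcases eq_or_lt_of_le hle with h | h
    · exact ha (h ▸ haM₂')
    · exact hM₂.1 (hM₁.2 _ h)
  have h21 : ¬ M₂ ≤ M₁ := fun hle => ha (hle haM₂')
  have := hnorm M₁ hM₁
  have := hnorm M₂ hM₂
  let S : Set P := {x | x ∉ M₁ ⊓ M₂}
  have hSne : S.Nonempty := ⟨a, fun h => ha h.1⟩
  obtain ⟨c, hcS, hcmin⟩ := Set.exists_min_image S orderOf (Set.toFinite S) hSne
  have hc : c ∉ M₁ ∨ c ∉ M₂ := by
    by_contra h
    rw [not_or, not_not, not_not] at h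
    exact hcS ⟨h.1, h.2⟩
  rcases hc with hc | hc
  · exact key hP hB M₁ M₂ h12 c hc (fun b hb => hcmin b hb)
  · exact key hP hB M₂ M₁ h21 c hc (fun b hb => hcmin b (by rwa [inf_comm] at hb))

theorem propB_sylow {G : Type*} [Group G] [Finite G] (hB : PropB G) (hnil : Group.IsNilpotent G)
    {p : ℕ} [Fact p.Prime] (P : Sylow p G) : PropB ↥(P : Subgroup G) := by
  have hPn : (P : Subgroup G).Normal := inferInstance
  -- P ⊔ C_G(P) = ⊤
  have htop : (P : Subgroup G) ⊔ Subgroup.centralizer ((P : Subgroup G) : Set G) = ⊤ := by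
    rw [← Subgroup.index_eq_one, Nat.eq_one_iff_not_exists_prime_dvd]
    intro q hq hdvd
    have := Fact.mk hq
    by_cases hqp : q = p
    · subst hqp
      exact P.not_dvd_index (dvd_trans hdvd (Subgroup.index_dvd_of_le le_sup_left))
    · obtain ⟨Q⟩ : Nonempty (Sylow q G) := inferInstance
      have hQn : (Q : Subgroup G).Normal := inferInstance
      have hQC : (Q : Subgroup G) ≤ Subgroup.centralizer ((P : Subgroup G) : Set G) := by
        rw [← Subgroup.commutator_eq_bot_iff_le_centralizer, eq_bot_iff]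
        refine le_trans (Subgroup.commutator_le_inf _ _) ?_
        rw [le_bot_iff, ← disjoint_iff]
        exact IsPGroup.disjoint_of_ne q p hqp _ _ Q.isPGroup' P.isPGroup'
      exact Q.not_dvd_index (dvd_trans hdvd (Subgroup.index_dvd_of_le (le_trans hQC le_sup_right)))
  intro A₁ A₂ h1 h2 hcard
  let A₁' : Subgroup G := A₁.map (P : Subgroup G).subtype
  let A₂' : Subgroup G := A₂.map (P : Subgroup G).subtype
  have e1 : A₁ ≃* A₁' := A₁.equivMapOfInjective _ (P : Subgroup G).subtype_injective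
  have e2 : A₂ ≃* A₂' := A₂.equivMapOfInjective _ (P : Subgroup G).subtype_injective
  have h1' : IsMulCommutative A₁' := by
    constructor; constructor
    intro x y
    have := h1.is_comm.comm (e1.symm x) (e1.symm y)
    have h' := congrArg e1 this
    simpa using h'
  have h2' : IsMulCommutative A₂' := by
    constructor; constructor
    intro x y
    have := h2.is_comm.comm (e2.symm x) (e2.symm y)
    have h' := congrArg e2 this
    simpa using h'
  have hcard' : Nat.card A₁' = Nat.card A₂' := by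
    rw [← Nat.card_congr e1.toEquiv, ← Nat.card_congr e2.toEquiv, hcard]
  obtain ⟨g, hg⟩ := hB A₁' A₂' h1' h2' hcard'
  have hgmem : g ∈ (((P : Subgroup G) ⊔ Subgroup.centralizer ((P : Subgroup G) : Set G) : Subgroup G) : Set G) := by
    rw [htop]; trivial
  rw [Subgroup.normal_mul] at hgmem
  obtain ⟨u, hu, c, hc, rfl⟩ := hgmem
  have hA₁P : A₁' ≤ P := by
    rintro _ ⟨x, _, rfl⟩
    exact x.2
  have hcA : A₁'.map (MulAut.conj c).toMonoidHom = A₁' := by
    ext y
    rw [mem_map_conj]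
    have hcy : ∀ z ∈ A₁', c⁻¹ * z * c = z := by
      intro z hz
      have := (Subgroup.mem_centralizer_iff.mp hc) z (hA₁P hz)
      calc c⁻¹ * z * c = c⁻¹ * (z * c) := by rw [mul_assoc]
        _ = c⁻¹ * (c * z) := by rw [this]
        _ = z := by rw [inv_mul_cancel_left]
    constructor
    · intro h
      have h3 := hcy _ h
      have h4 : y = c * (c⁻¹ * y * c) * c⁻¹ := by simp [mul_assoc]
      rw [h4]
      have hcomm : c * (c⁻¹ * y * c) = (c⁻¹ * y * c) * c :=
        ((Subgroup.mem_centralizer_iff.mp hc) _ (hA₁P h)).symm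
      rw [hcomm, mul_assoc, mul_inv_cancel, mul_one]
      exact h
    · intro h
      rw [hcy y h]; exact h
  rw [map_conj_mul, hcA] at hg
  refine ⟨⟨u, hu⟩, ?_⟩
  apply Subgroup.map_injective (P : Subgroup G).subtype_injective
  rw [map_subtype_map_conj]
  exact hg

theorem result {G : Type*} [Group G] [Finite G] (hB : ∀ A B : Subgroup G, IsMulCommutative ↥A → IsMulCommutative ↥B → Nat.card ↥A = Nat.card ↥B → ∃ g : G, B = A.map (MulAut.conj g).toMonoidHom) (hnil : Group.IsNilpotent G) : IsCyclic G := by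
  have hZ : IsZGroup G := by
    constructor
    intro p hp P
    have := Fact.mk hp
    exact pgroup_cyclic P.isPGroup' (propB_sylow hB hnil P)
  exact inferInstance

end Cfsg.Agent.S3910
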