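import Cfsg.Statements.S3918
import Cfsg.Agent.S0126
import Cfsg.Agent.Lib.H22.OrderPCube

set_option autoImplicit false
open Cfsg

namespace Cfsg.Agent.S3918

open Cfsg.Agent.Lib.H22

/-- Say that a group has self-centralizing non-cyclic subgroups when every non-cyclic subgroup H satisfies C_G(H) ≤ H. For an odd prime p, a finite non-abelian p-group has self-centralizing non-cyclic subgroups if and only if it has order p³. -/
theorem result {G : Type*} [Group G] [Finite G] {p : ℕ} [Fact p.Prime] (hp : p ≠ 2) (hG : IsPGroup p G) (hna : ¬ IsMulCommutative G) :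
    (∀ H : Subgroup G, ¬ IsCyclic ↥H → Subgroup.centralizer (H : Set G) ≤ H) ↔ Nat.card G = p ^ 3 := by
  have hp' : Fact p.Prime := inferInstance
  have hna' : ∃ u v : G, u * v ≠ v * u := by
    by_contra h
    push Not at h
    exact hna ⟨⟨h⟩⟩
  obtain ⟨m, hm⟩ := (IsPGroup.iff_card).mp hG
  have hm3 : 3 ≤ m := by
    by_contra hlt
    push Not at hlt
    obtain ⟨u, v, huv⟩ := hna'
    apply huv
    have h1 := comm_of_card_le_sq (⊤ : Subgroup G) m (by omega) (by rw [Subgroup.card_top, hm])
    exact h1 u (Subgroup.mem_top u) v (Subgroup.mem_top v)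
  constructor
  · intro hprop
    have hnc : ¬ IsCyclic G := by
      intro hc
      obtain ⟨u, v, huv⟩ := hna'
      exact huv ((IsCyclic.commGroup (α := G)).mul_comm u v)
    obtain ⟨E, hEn, ⟨hEc, hEe⟩, hEcard⟩ := Cfsg.Agent.S0126.result hp hG hnc
    have hEab : ∀ a ∈ E, ∀ b ∈ E, a * b = b * a := by
      intro a ha b hb
      have := hEc.is_comm.comm (⟨a, ha⟩ : E) ⟨b, hb⟩
      exact congrArg Subtype.val this
    have hEnc : ¬ IsCyclic E := by
      intro hc
      obtain ⟨g, hg⟩ := hc.exists_generator
      have h1 : orderOf g = Nat.card E := orderOf_eq_card_of_forall_mem_zpowers hg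
      have h2 : orderOf g ∣ p := by
        apply orderOf_dvd_of_pow_eq_one
        apply Subtype.ext
        simpa using hEe g g.2
      rw [h1, hEcard] at h2
      have := Nat.le_of_dvd hp'.out.pos h2
      have h3 : p < p ^ 2 := by
        calc p = p ^ 1 := (pow_one p).symm
          _ < p ^ 2 := Nat.pow_lt_pow_right hp'.out.one_lt (by norm_num)
      omega
    have hCE : Subgroup.centralizer (E : Set G) ≤ E := hprop E hEnc
    obtain ⟨M, -, hME, hMcard, hMidx⟩ :=
      exists_normal_index_centralizer_le hG E hEab 2 (le_of_eq hEcard.symm)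
    have hME' : M = E := Subgroup.eq_of_le_of_card_ge hME (by rw [hMcard, hEcard])
    rw [hME'] at hMidx
    norm_num at hMidx
    have h1 := Subgroup.card_mul_index (Subgroup.centralizer (E : Set G))
    have h2 : Nat.card (Subgroup.centralizer (E : Set G)) ≤ p ^ 2 := by
      rw [← hEcard]; exact Subgroup.card_le_of_le hCE
    have h3 : Nat.card G ≤ p ^ 2 * p := by
      rw [← h1]; exact Nat.mul_le_mul h2 hMidx
    have h4 : p ^ 2 * p = p ^ 3 := by ring
    rw [h4, hm] at h3
    have hm' : m ≤ 3 := (Nat.pow_le_pow_iff_right hp'.out.one_lt).mp h3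
    have : m = 3 := by omega
    rw [hm, this]
  · intro hcard H hH
    have hm' : m = 3 := by
      rw [hm] at hcard
      exact Nat.pow_right_injective hp'.out.two_le hcard
    obtain ⟨j, hj⟩ := (IsPGroup.iff_card).mp (hG.to_subgroup H)
    have hj3 : j ≤ 3 := by
      have := Subgroup.card_le_card_group H
      rw [hj, hm, hm'] at this
      exact (Nat.pow_le_pow_iff_right hp'.out.one_lt).mp this
    have hj0 : j ≠ 0 := by
      intro h0
      rw [h0, pow_zero] at hj
      apply hH
      have : Subsingleton H := (Nat.card_eq_one_iff_unique.mp hj).1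
      infer_instance
    have hj1 : j ≠ 1 := by
      intro h1
      rw [h1, pow_one] at hj
      exact hH (isCyclic_of_prime_card hj)
    rcases Nat.lt_or_ge j 3 with hlt | hge
    · have hj2 : j = 2 := by omega
      rw [hj2] at hj
      have hHab := comm_of_card_le_sq H 2 le_rfl hj
      have hHi : H.index = p := by
        have h1 := Subgroup.card_mul_index H
        rw [hj, hm, hm'] at h1
        have h3 : p ^ 2 * p = p ^ 3 := by ring
        rw [← h3] at h1
        exact Nat.eq_of_mul_eq_mul_left (pow_pos hp'.out.pos 2) h1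
      have hHn : H.Normal := normal_of_index_eq_prime hG H hHi
      intro x hx
      by_contra hxH
      have hsup : H ⊔ Subgroup.zpowers x = ⊤ := by
        apply eq_top_of_index_prime_of_lt hHi
        refine lt_of_le_of_ne le_sup_left ?_
        intro h
        apply hxH
        rw [h]
        exact (le_sup_right : Subgroup.zpowers x ≤ _) (Subgroup.mem_zpowers x)
      have hab := comm_of_mem_sup_zpowers H hHab x hx
      rw [hsup] at hab
      obtain ⟨u, v, huv⟩ := hna'
      exact huv (hab u (Subgroup.mem_top u) v (Subgroup.mem_top v))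
    · have : j = 3 := by omega
      have hHtop : H = ⊤ := by
        apply Subgroup.eq_top_of_card_eq
        rw [hj, this, hcard]
      rw [hHtop]
      exact le_top

end Cfsg.Agent.S3918
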