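import Cfsg.Statements.S3919
import Mathlib
import Cfsg.Agent.Lib.H22.UniqueInvolution
import Cfsg.Agent.Lib.H22.SuzukiMaxClass
import Cfsg.Agent.Lib.H22.LowerCentralP
import Cfsg.Agent.Lib.H22.OrderPSq
import Cfsg.Agent.S3763

set_option autoImplicit false
open Cfsg

namespace Cfsg.Agent.S3919

open Cfsg.Agent.Lib.H22

section quaternion

theorem zmod_add_self {m : ℕ} [NeZero m] (i : ZMod (2 * m)) (h : i + i = 0) :
    i = 0 ∨ i = (m : ZMod (2 * m)) := by
  have hv := ZMod.val_lt i
  have h1 : ((i.val + i.val : ℕ) : ZMod (2 * m)) = 0 := by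
    push_cast
    rw [ZMod.natCast_zmod_val]
    exact h
  rw [ZMod.natCast_eq_zero_iff] at h1
  obtain ⟨c, hc⟩ := h1
  have hm : 0 < m := Nat.pos_of_ne_zero (NeZero.ne m)
  have hc2 : c = 0 ∨ c = 1 := by
    by_contra hcon
    push Not at hcon
    have : 2 ≤ c := by omega
    have : 2 * m * 2 ≤ 2 * m * c := Nat.mul_le_mul_left _ this
    omega
  rcases hc2 with rfl | rfl
  · left
    have : i.val = 0 := by omega
    exact (ZMod.val_eq_zero i).mp this
  · right
    have h3 : i.val = m := by omega
    have h4 : ((i.val : ℕ) : ZMod (2 * m)) = (m : ZMod (2 * m)) := congrArg _ h3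
    rw [ZMod.natCast_zmod_val] at h4
    exact h4

theorem quaternion_centralizer_xa (m : ℕ) [NeZero m] (g : QuaternionGroup m)
    (hg : g * QuaternionGroup.xa 0 = QuaternionGroup.xa 0 * g) :
    g ∈ Subgroup.zpowers (QuaternionGroup.xa (0 : ZMod (2 * m))) := by
  have hmm : (m : ZMod (2 * m)) + m = 0 := by
    have : ((m + m : ℕ) : ZMod (2 * m)) = 0 := by
      rw [ZMod.natCast_eq_zero_iff]
      exact ⟨1, by ring⟩
    exact_mod_cast this
  rcases g with i | i
  · rw [QuaternionGroup.a_mul_xa, QuaternionGroup.xa_mul_a] at hg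
    have h1 : (0 : ZMod (2 * m)) - i = 0 + i := by
      injection hg
    have h2 : i + i = 0 := by
      have : i + i = i + (0 + i) := by ring
      rw [this, ← h1]; ring
    rcases zmod_add_self i h2 with rfl | rfl
    · rw [← QuaternionGroup.one_def]; exact Subgroup.one_mem _
    · rw [← QuaternionGroup.xa_sq (0 : ZMod (2 * m))]
      exact Subgroup.pow_mem _ (Subgroup.mem_zpowers _) 2
  · rw [QuaternionGroup.xa_mul_xa, QuaternionGroup.xa_mul_xa] at hg
    have h1 : (m : ZMod (2 * m)) + 0 - i = (m : ZMod (2 * m)) + i - 0 := by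
      injection hg
    have h2 : i + i = 0 := by
      have e1 : i + i = ((m : ZMod (2 * m)) + i - 0) - ((m : ZMod (2 * m)) + 0 - i) := by ring
      rw [e1, h1]; ring
    rcases zmod_add_self i h2 with rfl | rfl
    · exact Subgroup.mem_zpowers _
    · have h3 : QuaternionGroup.xa (m : ZMod (2 * m)) =
          QuaternionGroup.xa (0 : ZMod (2 * m)) ^ 3 := by
        rw [pow_succ, QuaternionGroup.xa_sq, QuaternionGroup.a_mul_xa]
        congr 1
        have : (0 : ZMod (2 * m)) - m = m := by
          rw [zero_sub, neg_eq_iff_add_eq_zero]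
          exact hmm
        exact this.symm
      rw [h3]
      exact Subgroup.pow_mem _ (Subgroup.mem_zpowers _) 3

end quaternion

section main

variable {G : Type*} [Group G] [Finite G]

omit [Finite G] in
/-- subgroups of a cyclic subgroup are cyclic -/
theorem isCyclic_of_le_zpowers {H : Subgroup G} {a : G} (h : H ≤ Subgroup.zpowers a) :
    IsCyclic H := by
  have : IsCyclic (H.subgroupOf (Subgroup.zpowers a)) := inferInstance
  exact isCyclic_of_surjective (Subgroup.subgroupOfEquivOfLe h).toMonoidHom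
    (Subgroup.subgroupOfEquivOfLe h).surjective

theorem forward (hna : ¬ IsMulCommutative G) (n : ℕ) (hG : Nat.card G = 2 ^ n)
    (hH : ∀ H : Subgroup G, ¬ IsCyclic ↥H → Subgroup.centralizer (H : Set G) ≤ H) :
    (⊤ : Subgroup G).lowerCentralSeries (n - 2) ≠ ⊥ := by
  have : Fact (Nat.Prime 2) := ⟨Nat.prime_two⟩
  have hP : IsPGroup 2 G := IsPGroup.of_card hG
  have hnil : Group.IsNilpotent G := hP.isNilpotent
  have hA : ∃ A : Subgroup G, Nat.card A = 2 ^ 2 ∧ Subgroup.centralizer (A : Set G) = A := by
    by_cases huniq : AtMostOneOrderP 2 G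
    · rcases cyclic_or_quaternion_of_atMostOne hP huniq with hc | ⟨k, hk, ⟨e⟩⟩
      · exfalso; exact hna hc.isMulCommutative
      · have : NeZero (2 ^ k) := ⟨pow_ne_zero _ two_ne_zero⟩
        obtain ⟨x₀, hx₀⟩ : ∃ x₀, x₀ = e.symm (QuaternionGroup.xa 0) := ⟨_, rfl⟩
        refine ⟨Subgroup.zpowers x₀, ?_, ?_⟩
        · rw [Nat.card_zpowers, hx₀, MulEquiv.orderOf_eq, QuaternionGroup.orderOf_xa]; norm_num
        · apply le_antisymm
          · intro g hg
            have h1 : g * x₀ = x₀ * g :=
              (Subgroup.mem_centralizer_iff.mp hg x₀ (Subgroup.mem_zpowers x₀)).symm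
            have h2 : e g * QuaternionGroup.xa 0 = QuaternionGroup.xa 0 * e g := by
              have := congrArg e h1
              rw [map_mul, map_mul, hx₀, MulEquiv.apply_symm_apply] at this
              exact this
            obtain ⟨j, hj⟩ := Subgroup.mem_zpowers_iff.mp (quaternion_centralizer_xa _ (e g) h2)
            rw [Subgroup.mem_zpowers_iff]
            refine ⟨j, ?_⟩
            apply e.injective
            rw [map_zpow, hx₀, MulEquiv.apply_symm_apply, hj]
          · exact Subgroup.le_centralizer _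
    · obtain ⟨A, hA, hnc⟩ := exists_noncyclic_sq_of_not_atMostOne hP huniq
      refine ⟨A, hA, le_antisymm (hH A hnc) ?_⟩
      have : IsMulCommutative A := IsPGroup.isMulCommutative_of_card_eq_prime_sq hA
      exact Subgroup.le_centralizer A
  have hclass := nilpotencyClass_of_selfCentralizing_sq n G hG hA
  intro hbot
  rw [Subgroup.lowerCentralSeries_eq_bot_iff_nilpotencyClass_le, hclass] at hbot
  obtain ⟨A, hA4, _⟩ := hA
  have h1 := Subgroup.card_subgroup_dvd_card A
  rw [hA4, hG] at h1
  have h2 := (Nat.pow_dvd_pow_iff_le_right (by norm_num : 1 < 2)).mp h1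
  omega

theorem backward (hna : ¬ IsMulCommutative G) (n : ℕ) (hG : Nat.card G = 2 ^ n)
    (hcl : (⊤ : Subgroup G).lowerCentralSeries (n - 2) ≠ ⊥) :
    ∀ H : Subgroup G, ¬ IsCyclic ↥H → Subgroup.centralizer (H : Set G) ≤ H := by
  have : Fact (Nat.Prime 2) := ⟨Nat.prime_two⟩
  have hP : IsPGroup 2 G := IsPGroup.of_card hG
  have hnil : Group.IsNilpotent G := hP.isNilpotent
  have hn3 : 3 ≤ n := by
    by_contra hlt
    push Not at hlt
    apply hna
    interval_cases n
    · have : Subsingleton G := (Nat.card_eq_one_iff_unique.mp (by simpa using hG)).1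
      exact ⟨⟨fun a b => Subsingleton.elim _ _⟩⟩
    · have hc : IsCyclic G := isCyclic_of_prime_card (p := 2) (by simpa using hG)
      exact hc.isMulCommutative
    · exact IsPGroup.isMulCommutative_of_card_eq_prime_sq (p := 2) hG
  obtain ⟨k, rfl⟩ : ∃ k, n = k + 3 := ⟨n - 3, by omega⟩
  have hclass : Group.nilpotencyClass G = k + 2 := by
    apply le_antisymm
    · rw [← Subgroup.lowerCentralSeries_eq_bot_iff_nilpotencyClass_le]
      exact lcs_eq_bot_of_card (p := 2) (by omega) hG
    · by_contra hlt
      push Not at hlt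
      apply hcl
      rw [Subgroup.lowerCentralSeries_eq_bot_iff_nilpotencyClass_le]
      omega
  have hidx := index_commutator_eq_four_of_nilpotencyClass k G hG hclass
  obtain ⟨a, y, hd, hcen⟩ := exists_maxClassData k G hG hidx
  obtain ⟨z, hz⟩ : ∃ z, z = a ^ (2 ^ (k + 1)) := ⟨_, rfl⟩
  rw [← hz] at hcen
  have hCidx := hd.index_zpowers
  have hCab : ∀ b ∈ Subgroup.zpowers a, ∀ c ∈ Subgroup.zpowers a, b * c = c * b := by
    intro b hb c hc
    obtain ⟨i, rfl⟩ := Subgroup.mem_zpowers_iff.mp hb
    obtain ⟨j, rfl⟩ := Subgroup.mem_zpowers_iff.mp hc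
    exact (Commute.zpow_zpow_self a i j).eq
  have hzord : orderOf z = 2 := by
    have hdvd : 2 ^ (k + 1) ∣ orderOf a := by rw [hd.orderOf_a]; exact pow_dvd_pow 2 (by omega)
    rw [hz, orderOf_pow_of_dvd (pow_ne_zero _ two_ne_zero) hdvd, hd.orderOf_a, pow_succ]
    exact Nat.mul_div_cancel_left 2 (pow_pos two_pos _)
  have hZcard : Nat.card (Subgroup.center G) = 2 := by rw [hcen, Nat.card_zpowers, hzord]
  have hZC : Subgroup.center G ≤ Subgroup.zpowers a := by
    rw [hcen, Subgroup.zpowers_le, hz]
    exact Subgroup.pow_mem _ (Subgroup.mem_zpowers a) _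
  have hcentral : ∀ u c : G, u ∉ Subgroup.zpowers a → c ∈ Subgroup.zpowers a → c * u = u * c →
      c ∈ Subgroup.center G := by
    intro u c hu hc hcu
    have hgen := sup_zpowers_eq_top_of_index_two _ hCidx u hu
    have hle : Subgroup.zpowers a ⊔ Subgroup.zpowers u ≤ Subgroup.centralizer {c} := by
      rw [sup_le_iff, Subgroup.zpowers_le, Subgroup.zpowers_le]
      exact ⟨Subgroup.mem_centralizer_singleton_iff.mpr (hCab a (Subgroup.mem_zpowers a) c hc),
        Subgroup.mem_centralizer_singleton_iff.mpr hcu.symm⟩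
    rw [hgen] at hle
    rw [Subgroup.mem_center_iff]
    intro w
    exact Subgroup.mem_centralizer_singleton_iff.mp (hle (Subgroup.mem_top w))
  intro H hnc g hg
  obtain ⟨u, huH, huC⟩ : ∃ u ∈ H, u ∉ Subgroup.zpowers a := by
    by_contra hcon
    push Not at hcon
    exact hnc (isCyclic_of_le_zpowers hcon)
  have hZH : Subgroup.center G ≤ H := by
    obtain ⟨K, hK⟩ : ∃ K, K = H ⊓ Subgroup.zpowers a := ⟨_, rfl⟩
    have h1 : Nat.card H ≤ 2 * Nat.card K := by
      apply Cfsg.Agent.S3763.card_le_two_mul H K u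
      intro h hh
      by_cases hhC : h ∈ Subgroup.zpowers a
      · left; rw [hK]; exact ⟨hh, hhC⟩
      · right
        rw [hK]
        exact ⟨H.mul_mem hh huH,
          (Subgroup.mul_mem_iff_of_index_two hCidx).mpr (iff_of_false hhC huC)⟩
    have h4 : 4 ≤ Nat.card H := by
      obtain ⟨j, hj⟩ := (IsPGroup.iff_card).mp (hP.to_subgroup H)
      rcases j with _ | _ | j
      · exfalso
        apply hnc
        have : Subsingleton H := (Nat.card_eq_one_iff_unique.mp (by simpa using hj)).1
        exact isCyclic_of_subsingleton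
      · exfalso
        apply hnc
        exact isCyclic_of_prime_card (p := 2) (by simpa using hj)
      · rw [hj]
        calc 4 = 2 ^ 2 := by norm_num
          _ ≤ 2 ^ (j + 1 + 1) := Nat.pow_le_pow_right (by norm_num) (by omega)
    have hK2 : 2 ≤ Nat.card K := by omega
    rcases le_total_of_le_zpowers hP a hZC
      (show K ≤ Subgroup.zpowers a by rw [hK]; exact inf_le_right) with h5 | h5
    · exact h5.trans (by rw [hK]; exact inf_le_left)
    · have h6 : K = Subgroup.center G :=
        Subgroup.eq_of_le_of_card_ge h5 (by rw [hZcard]; exact hK2)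
      rw [← h6, hK]; exact inf_le_left
  have hgu : g * u = u * g := (Subgroup.mem_centralizer_iff.mp hg u huH).symm
  by_cases hgC : g ∈ Subgroup.zpowers a
  · exact hZH (hcentral u g huC hgC hgu)
  · have hcC : g * u ∈ Subgroup.zpowers a :=
      (Subgroup.mul_mem_iff_of_index_two hCidx).mpr (iff_of_false hgC huC)
    have hc_comm : (g * u) * u = u * (g * u) := by rw [← mul_assoc u g u, ← hgu]
    have h7 := hZH (hcentral u (g * u) huC hcC hc_comm)
    have h6 : g = (g * u) * u⁻¹ := by group
    rw [h6]
    exact H.mul_mem h7 (H.inv_mem huH)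

end main

/-- Say that a group has self-centralizing non-cyclic subgroups when every non-cyclic subgroup H satisfies C_G(H) ≤ H. A finite non-abelian 2-group G of order 2^n has self-centralizing non-cyclic subgroups if and only if G has nilpotency class n − 1 (that is, G is dihedral, semidihedral or generalized quaternion). -/
theorem result {G : Type*} [Group G] [Finite G] (hna : ¬ IsMulCommutative G) (n : ℕ) (hG : Nat.card G = 2 ^ n) :
    (∀ H : Subgroup G, ¬ IsCyclic ↥H → Subgroup.centralizer (H : Set G) ≤ H) ↔ (⊤ : Subgroup G).lowerCentralSeries (n - 2) ≠ ⊥ :=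
  ⟨forward hna n hG, backward hna n hG⟩

end Cfsg.Agent.S3919
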