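import Cfsg.Statements.S3920
import Mathlib

set_option autoImplicit false
open Cfsg

namespace Cfsg.Agent.S3920

open DihedralGroup

theorem two_mul_eq_zero {n : ℕ} [NeZero n] (j : ZMod n) (h : 2 * j = 0) :
    j = 0 ∨ 2 * j.val = n := by
  have h1 : ((2 * j.val : ℕ) : ZMod n) = 0 := by
    rw [Nat.cast_mul, ZMod.natCast_zmod_val]; exact_mod_cast h
  rw [ZMod.natCast_eq_zero_iff] at h1
  have h2 : j.val < n := ZMod.val_lt j
  obtain ⟨c, hc⟩ := h1
  have hc1 : c = 0 ∨ c = 1 := by
    rcases Nat.lt_or_ge c 2 with h | h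
    · omega
    · exfalso
      have : n * 2 ≤ n * c := Nat.mul_le_mul_left n h
      omega
  rcases hc1 with rfl | rfl
  · left
    have : j.val = 0 := by omega
    exact (ZMod.val_eq_zero j).mp this
  · right; omega

theorem exists_mul_eq {n k : ℕ} [NeZero n] (hn : n = 2 ^ k) (m j : ZMod n) (hm : m ≠ 0)
    (hj : 2 * j.val = n) : ∃ c : ℕ, m * (c : ZMod n) = j := by
  have hv0 : m.val ≠ 0 := fun h => hm ((ZMod.val_eq_zero m).mp h)
  have hvlt : m.val < n := ZMod.val_lt m
  obtain ⟨a, u, hu, hv⟩ := Nat.exists_eq_two_pow_mul_odd hv0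
  obtain ⟨t, ht⟩ := hu
  have hk : 1 ≤ k := by
    rcases Nat.eq_zero_or_pos k with rfl | h
    · exfalso
      rw [pow_zero] at hn
      omega
    · exact h
  have hak : a < k := by
    have h1 : 2 ^ a ≤ m.val := by
      rw [hv]; exact Nat.le_mul_of_pos_right _ (by omega)
    have h2 : 2 ^ a < 2 ^ k := by rw [← hn]; omega
    exact (Nat.pow_lt_pow_iff_right (by norm_num)).mp h2
  have hjv : j.val = 2 ^ (k - 1) := by
    have : 2 ^ k = 2 * 2 ^ (k - 1) := by
      rw [← pow_succ']; congr 1; omega
    have hj' : 2 * j.val = 2 * 2 ^ (k - 1) := by rw [hj, ← this]; exact hn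
    omega
  refine ⟨2 ^ (k - 1 - a), ?_⟩
  have e1 : m.val * 2 ^ (k - 1 - a) = n * t + j.val := by
    rw [hv, ht, hjv, hn]
    have h3 : 2 ^ a * 2 ^ (k - 1 - a) = 2 ^ (k - 1) := by
      rw [← pow_add]; congr 1; omega
    have h4 : 2 ^ k = 2 * 2 ^ (k - 1) := by
      rw [← pow_succ']; congr 1; omega
    calc 2 ^ a * (2 * t + 1) * 2 ^ (k - 1 - a) = (2 ^ a * 2 ^ (k - 1 - a)) * (2 * t + 1) := by ring
      _ = 2 ^ (k - 1) * (2 * t + 1) := by rw [h3]
      _ = 2 ^ k * t + 2 ^ (k - 1) := by rw [h4]; ring
  have e2 : ((m.val * 2 ^ (k - 1 - a) : ℕ) : ZMod n) = ((n * t + j.val : ℕ) : ZMod n) := by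
    rw [e1]
  rw [Nat.cast_mul, Nat.cast_add, Nat.cast_mul, ZMod.natCast_self, zero_mul, zero_add,
    ZMod.natCast_zmod_val, ZMod.natCast_zmod_val] at e2
  exact e2

/-- A subgroup without reflections is cyclic. -/
theorem isCyclic_of_no_sr {n : ℕ} (H : Subgroup (DihedralGroup n))
    (h : ∀ i : ZMod n, sr i ∉ H) : IsCyclic ↥H := by
  have hle : H ≤ Subgroup.zpowers (r 1 : DihedralGroup n) := by
    intro x hx
    cases x with
    | r j =>
      rw [Subgroup.mem_zpowers_iff]
      refine ⟨(j.cast : ℤ), ?_⟩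
      rw [r_one_zpow, ZMod.intCast_zmod_cast]
    | sr j => exact absurd hx (h j)
  exact Subgroup.isCyclic_of_le hle

theorem forward (n : ℕ) (hn : 3 ≤ n)
    (hcase : Odd n ∨ ∃ k : ℕ, n = 2 ^ k) (H : Subgroup (DihedralGroup n))
    (hH : ¬ IsCyclic ↥H) : Subgroup.centralizer (H : Set (DihedralGroup n)) ≤ H := by
  have : NeZero n := ⟨by omega⟩
  -- a reflection in H
  obtain ⟨i, hi⟩ : ∃ i : ZMod n, sr i ∈ H := by
    by_contra hne
    push Not at hne
    exact hH (isCyclic_of_no_sr H hne)
  -- a nontrivial rotation in H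
  obtain ⟨m, hm0, hm⟩ : ∃ m : ZMod n, m ≠ 0 ∧ r m ∈ H := by
    by_contra hne
    push Not at hne
    apply hH
    refine ⟨⟨⟨sr i, hi⟩, ?_⟩⟩
    rintro ⟨x, hx⟩
    cases x with
    | r j =>
      have hj : j = 0 := by
        by_contra hj
        exact hne j hj hx
      refine ⟨0, ?_⟩
      apply Subtype.ext
      show (sr i : DihedralGroup n) ^ (0 : ℤ) = r j
      rw [hj, zpow_zero, one_def]
    | sr j =>
      have hj : j = i := by
        by_contra hj
        have h1 : sr i * sr j ∈ H := mul_mem hi hx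
        rw [sr_mul_sr] at h1
        exact hne (j - i) (sub_ne_zero.mpr hj) h1
      refine ⟨1, ?_⟩
      apply Subtype.ext
      show (sr i : DihedralGroup n) ^ (1 : ℤ) = sr j
      rw [hj, zpow_one]
  intro x hx
  rw [Subgroup.mem_centralizer_iff] at hx
  cases x with
  | r j =>
    have h1 := hx (sr i) hi
    rw [sr_mul_r, r_mul_sr] at h1
    have h2 : i + j = i - j := by
      injection h1
    have h3 : 2 * j = 0 := by
      have : j = -j := by
        have := congrArg (fun z => z - i) h2
        simpa using this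
      calc 2 * j = j + j := two_mul j
        _ = j + -j := by rw [← this]
        _ = 0 := add_neg_cancel j
    rcases two_mul_eq_zero j h3 with h4 | h4
    · rw [h4, r_zero]; exact one_mem _
    · rcases hcase with hodd | ⟨k, hk⟩
      · exfalso
        rcases hodd with ⟨t, ht⟩
        omega
      · obtain ⟨c, hc⟩ := exists_mul_eq hk m j hm0 h4
        have : (r m) ^ c ∈ H := pow_mem hm c
        rw [r_pow, hc] at this
        exact this
  | sr j =>
    have h1 := hx (r m) hm
    rw [r_mul_sr, sr_mul_r] at h1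
    have h2 : j - m = j + m := by injection h1
    have h3 : 2 * m = 0 := by
      have : -m = m := by
        have := congrArg (fun z => z - j) h2
        simpa using this
      calc 2 * m = m + m := two_mul m
        _ = -m + m := by rw [this]
        _ = 0 := neg_add_cancel m
    rcases two_mul_eq_zero m h3 with h4 | h4
    · exact absurd h4 hm0
    · have h5 := hx (sr i) hi
      rw [sr_mul_sr, sr_mul_sr] at h5
      have h6 : j - i = i - j := by injection h5
      have h7 : 2 * (j - i) = 0 := by
        have : j - i = -(j - i) := by rw [neg_sub]; exact h6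
        calc 2 * (j - i) = (j - i) + (j - i) := two_mul _
          _ = (j - i) + -(j - i) := by rw [← this]
          _ = 0 := add_neg_cancel _
      rcases two_mul_eq_zero (j - i) h7 with h8 | h8
      · have : j = i := sub_eq_zero.mp h8
        rw [this]; exact hi
      · have h9 : (j - i).val = m.val := by omega
        have h10 : j - i = m := ZMod.val_injective n h9
        have h11 : j = i + m := by rw [← h10]; ring
        have : sr i * r m ∈ H := mul_mem hi hm
        rw [sr_mul_r, ← h11] at this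
        exact this

/-- The dihedral subgroup attached to the `q`-torsion of `ZMod n`. -/
def torsSub (n q : ℕ) : Subgroup (DihedralGroup n) where
  carrier := {x | match x with
    | r j => (q : ZMod n) * j = 0
    | sr j => (q : ZMod n) * j = 0}
  one_mem' := by
    show (match (1 : DihedralGroup n) with
      | r j => (q : ZMod n) * j = 0
      | sr j => (q : ZMod n) * j = 0)
    rw [one_def]; simp
  mul_mem' := by
    intro a b ha hb
    cases a with
    | r i =>
      cases b with
      | r j =>
        have ha' : (q : ZMod n) * i = 0 := ha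
        have hb' : (q : ZMod n) * j = 0 := hb
        show (q : ZMod n) * (i + j) = 0
        rw [mul_add, ha', hb', add_zero]
      | sr j =>
        have ha' : (q : ZMod n) * i = 0 := ha
        have hb' : (q : ZMod n) * j = 0 := hb
        show (q : ZMod n) * (j - i) = 0
        rw [mul_sub, ha', hb', sub_zero]
    | sr i =>
      cases b with
      | r j =>
        have ha' : (q : ZMod n) * i = 0 := ha
        have hb' : (q : ZMod n) * j = 0 := hb
        show (q : ZMod n) * (i + j) = 0
        rw [mul_add, ha', hb', add_zero]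
      | sr j =>
        have ha' : (q : ZMod n) * i = 0 := ha
        have hb' : (q : ZMod n) * j = 0 := hb
        show (q : ZMod n) * (j - i) = 0
        rw [mul_sub, ha', hb', sub_zero]
  inv_mem' := by
    intro a ha
    cases a with
    | r i =>
      have ha' : (q : ZMod n) * i = 0 := ha
      show (q : ZMod n) * (-i) = 0
      rw [mul_neg, ha', neg_zero]
    | sr i => exact ha

theorem r_mem_torsSub (n q : ℕ) (j : ZMod n) : r j ∈ torsSub n q ↔ (q : ZMod n) * j = 0 :=
  Iff.rfl

theorem sr_mem_torsSub (n q : ℕ) (j : ZMod n) : sr j ∈ torsSub n q ↔ (q : ZMod n) * j = 0 :=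
  Iff.rfl

theorem backward (n : ℕ) (hn : 3 ≤ n)
    (h : ∀ H : Subgroup (DihedralGroup n), ¬ IsCyclic ↥H →
      Subgroup.centralizer (H : Set (DihedralGroup n)) ≤ H) :
    Odd n ∨ ∃ k : ℕ, n = 2 ^ k := by
  have : NeZero n := ⟨by omega⟩
  by_contra hne
  push Not at hne
  obtain ⟨hodd, hpow⟩ := hne
  have heven : Even n := Nat.not_odd_iff_even.mp hodd
  obtain ⟨m, hm⟩ := heven
  rcases Nat.eq_two_pow_or_exists_odd_prime_and_dvd n with ⟨k, hk⟩ | ⟨q, hq, hqn, hqodd⟩
  · exact hpow k hk
  obtain ⟨d, hd⟩ := hqn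
  have hq3 : 3 ≤ q := by
    have := hq.two_le
    rcases hqodd with ⟨t, ht⟩
    omega
  have hdpos : 0 < d := by
    rcases Nat.eq_zero_or_pos d with rfl | h
    · omega
    · exact h
  -- the subgroup
  set H := torsSub n q with hH
  have hsr : sr 0 ∈ H := by rw [hH, sr_mem_torsSub]; simp
  have hrd : r (d : ZMod n) ∈ H := by
    rw [hH, r_mem_torsSub, ← Nat.cast_mul, ← hd, ZMod.natCast_self]
  have hd0 : (2 * d : ℕ) < n := by rw [hd]; nlinarith
  have hnc : ¬ IsCyclic ↥H := by
    intro hc
    have hcomm := hc.isMulCommutative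
    have h1 := hcomm.is_comm.comm (⟨sr 0, hsr⟩ : ↥H) ⟨r (d : ZMod n), hrd⟩
    have h2 : sr (0 : ZMod n) * r (d : ZMod n) = r (d : ZMod n) * sr 0 := congrArg Subtype.val h1
    rw [sr_mul_r, r_mul_sr] at h2
    have h3 : (0 : ZMod n) + d = 0 - d := by injection h2
    have h4 : ((2 * d : ℕ) : ZMod n) = 0 := by
      have : (d : ZMod n) = -d := by simpa using h3
      rw [Nat.cast_mul, Nat.cast_two, two_mul]
      nth_rewrite 2 [this]
      exact add_neg_cancel _
    rw [ZMod.natCast_eq_zero_iff] at h4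
    have := Nat.le_of_dvd (by omega) h4
    omega
  have hcent : r (m : ZMod n) ∈ Subgroup.centralizer (H : Set (DihedralGroup n)) := by
    rw [Subgroup.mem_centralizer_iff]
    have hmm : (m : ZMod n) + m = 0 := by
      rw [← Nat.cast_add, ← hm, ZMod.natCast_self]
    intro x _
    cases x with
    | r j => rw [r_mul_r, r_mul_r, add_comm]
    | sr j =>
      rw [sr_mul_r, r_mul_sr]
      congr 1
      have : (m : ZMod n) = -m := eq_neg_of_add_eq_zero_left hmm
      rw [sub_eq_add_neg, ← this]
  have hmem := h H hnc hcent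
  rw [hH, r_mem_torsSub, ← Nat.cast_mul, ZMod.natCast_eq_zero_iff] at hmem
  -- n ∣ q * m, n = 2m: 2 ∣ q
  obtain ⟨c, hc⟩ := hmem
  have hmpos : 0 < m := by omega
  have : q = 2 * c := by
    have h1 : q * m = (2 * c) * m := by rw [hc, hm]; ring
    exact Nat.eq_of_mul_eq_mul_right hmpos h1
  rcases hqodd with ⟨t, ht⟩
  omega

theorem result (n : ℕ) (hn : 3 ≤ n) : (∀ H : Subgroup (DihedralGroup n), ¬ IsCyclic ↥H → Subgroup.centralizer (H : Set (DihedralGroup n)) ≤ H) ↔ (Odd n ∨ ∃ k : ℕ, n = 2 ^ k) :=
  ⟨backward n hn, fun hcase H hH => forward n hn hcase H hH⟩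

end Cfsg.Agent.S3920
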