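import Mathlib
import Cfsg.Prelude.Def_Solvable
import Cfsg.Agent.Lib.H20.Zipper
import Cfsg.Agent.Lib.H7.Fitting
import Cfsg.Agent.Lib.H1.NilpotentBasic

set_option autoImplicit false
open Cfsg

namespace Cfsg.Agent.S3937

open scoped Pointwise commutatorElement

universe u

/-- The iterated commutator `[x, g, …, g]` with `n` entries `g`. -/
def eng {G : Type*} [Group G] (g x : G) (n : ℕ) : G :=
  (List.replicate n g).foldl (fun a b => a * b * a⁻¹ * b⁻¹) x

theorem eng_zero {G : Type*} [Group G] (g x : G) : eng g x 0 = x := rfl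

theorem eng_succ {G : Type*} [Group G] (g x : G) (n : ℕ) :
    eng g x (n + 1) = eng g x n * g * (eng g x n)⁻¹ * g⁻¹ := by
  unfold eng
  rw [List.replicate_succ', List.foldl_append]
  rfl

theorem map_eng {G H : Type*} [Group G] [Group H] (f : G →* H) (g x : G) (n : ℕ) :
    f (eng g x n) = eng (f g) (f x) n := by
  induction n with
  | zero => rfl
  | succ n ih => rw [eng_succ, eng_succ, map_mul, map_mul, map_mul, map_inv, map_inv, ih]

/-- Left Engel elements. -/
def IsLeftEngel {G : Type*} [Group G] (g : G) : Prop := ∀ x : G, ∃ n : ℕ, eng g x n = 1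

theorem IsLeftEngel.conj {G : Type*} [Group G] {g : G} (hg : IsLeftEngel g) (a : G) :
    IsLeftEngel (a * g * a⁻¹) := by
  intro x
  obtain ⟨n, hn⟩ := hg (a⁻¹ * x * a)
  refine ⟨n, ?_⟩
  have h1 := map_eng (MulAut.conj a).toMonoidHom g (a⁻¹ * x * a) n
  rw [hn, map_one] at h1
  have h2 : (MulAut.conj a).toMonoidHom (a⁻¹ * x * a) = x := by
    show a * (a⁻¹ * x * a) * a⁻¹ = x
    group
  rw [h2] at h1
  exact h1.symm

theorem isLeftEngel_subtype {G : Type*} [Group G] {H : Subgroup G} {h : H}
    (hh : IsLeftEngel (h : G)) : IsLeftEngel h := by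
  intro y
  obtain ⟨n, hn⟩ := hh (y : G)
  refine ⟨n, ?_⟩
  apply Subtype.ext
  have := map_eng H.subtype h y n
  simpa [hn] using this

theorem baer_aux : ∀ (n : ℕ) (G : Type u) [Group G] [Finite G], Nat.card G = n →
    ∀ g : G, IsLeftEngel g → g ∈ fittingSubgroup G := by
  intro n
  induction n using Nat.strong_induction_on with
  | _ n ih =>
  intro G _ _ hcard g hg
  have key : ∀ (H : Subgroup G), H ≠ ⊤ → ∀ g' : G, IsLeftEngel g' → ∀ (hg' : g' ∈ H),
      (⟨g', hg'⟩ : H) ∈ fittingSubgroup H := by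
    intro H hH g' hg'E hg'H
    have hlt : Nat.card H < n := by
      rw [← hcard]
      exact lt_of_le_of_ne (Subgroup.card_le_card_group H)
        (fun h => hH (Subgroup.eq_top_of_card_eq H h))
    exact ih _ hlt H rfl ⟨g', hg'H⟩ (isLeftEngel_subtype hg'E)
  set S := Subgroup.zpowers g with hS
  have hSnil : Group.IsNilpotent S := by
    haveI : IsCyclic S := by rw [hS]; infer_instance
    letI : CommGroup S := IsCyclic.commGroup
    exact CommGroup.isNilpotent
  suffices hSF : S ≤ fittingSubgroup G from hSF (Subgroup.mem_zpowers g)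
  by_cases hsn : S.IsSubnormal
  · exact Cfsg.Agent.Lib.H7.subnormal_nilpotent_le_fittingSubgroup hsn hSnil
  have hz : ∀ (a : G) (H : Subgroup G), MulAut.conj a • S ≤ H → H ≠ ⊤ →
      ((MulAut.conj a • S).subgroupOf H).IsSubnormal := by
    intro a H haH hH
    have e1 : MulAut.conj a • S = Subgroup.zpowers (a * g * a⁻¹) := by
      show (Subgroup.zpowers g).map (MulAut.conj a).toMonoidHom = _
      rw [MonoidHom.map_zpowers]; rfl
    have hgH : a * g * a⁻¹ ∈ H := haH (e1 ▸ Subgroup.mem_zpowers _)
    have hF := key H hH (a * g * a⁻¹) (hg.conj a) hgH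
    set g'' : H := ⟨a * g * a⁻¹, hgH⟩ with hg''
    have e2 : (MulAut.conj a • S).subgroupOf H = Subgroup.zpowers g'' := by
      rw [e1]
      have : Subgroup.zpowers (a * g * a⁻¹) = (Subgroup.zpowers g'').map H.subtype := by
        rw [MonoidHom.map_zpowers]; rfl
      rw [this]
      exact Subgroup.comap_map_eq_self_of_injective H.subtype_injective _
    rw [e2]
    have hle : Subgroup.zpowers g'' ≤ fittingSubgroup H := by
      rw [Subgroup.zpowers_le]; exact hF
    have hFn : Group.IsNilpotent (fittingSubgroup H) :=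
      Cfsg.Agent.Lib.H7.fittingSubgroup_isNilpotent
    have h1 : ((Subgroup.zpowers g'').subgroupOf (fittingSubgroup H)).IsSubnormal :=
      (Cfsg.Agent.Lib.H1.isNilpotent_iff_forall_isSubnormal.mp hFn) _
    exact Subgroup.IsSubnormal.trans hle h1
      (Cfsg.Agent.Lib.H7.fittingSubgroup_normal (G := H)).isSubnormal
  obtain ⟨M, ⟨hM, hSM⟩, huniq⟩ := Cfsg.Agent.Lib.H20.zipper_lemma S hz hsn
  have hgM : g ∈ M := hSM (Subgroup.mem_zpowers g)
  by_cases hMn : M.Normal
  · have hF := key M hM.1 g hg hgM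
    have h2 := Cfsg.Agent.Lib.H7.fittingSubgroup_subnormal_le hMn.isSubnormal
    rw [hS, Subgroup.zpowers_le]
    exact h2 ⟨⟨g, hgM⟩, hF, rfl⟩
  exfalso
  have hNM : Subgroup.normalizer (M : Set G) = M := by
    rcases hM.le_iff.mp (Subgroup.le_normalizer (H := M)) with h | h
    · exact absurd (Subgroup.normalizer_eq_top_iff.mp h) hMn
    · exact h
  apply hM.1
  rw [eq_top_iff]
  intro x _
  by_contra hx
  obtain ⟨n0, hn0⟩ := hg x
  have hex : ∃ k, eng g x k ∈ M := ⟨n0, by rw [hn0]; exact M.one_mem⟩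
  classical
  set k := Nat.find hex with hk
  have hkP : eng g x k ∈ M := Nat.find_spec hex
  have hk0 : k ≠ 0 := by
    intro h0
    rw [h0, eng_zero] at hkP
    exact hx hkP
  obtain ⟨j, hj⟩ := Nat.exists_eq_succ_of_ne_zero hk0
  have hjP : eng g x j ∉ M := Nat.find_min hex (by rw [← hk, hj]; exact Nat.lt_succ_self j)
  rw [hj, Nat.succ_eq_add_one, eng_succ] at hkP
  set c := eng g x j with hc
  have h3 : c * g * c⁻¹ ∈ M := by
    have := M.mul_mem hkP hgM
    simpa using this
  have hM' : IsCoatom (MulAut.conj c⁻¹ • M) := by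
    have := (OrderIso.isCoatom_iff (MulEquiv.mapSubgroup (MulAut.conj c⁻¹)) M).mpr hM
    exact this
  have hSM' : S ≤ MulAut.conj c⁻¹ • M := by
    rw [hS, Subgroup.zpowers_le, Subgroup.mem_pointwise_smul_iff_inv_smul_mem]
    simpa using h3
  have e3 := huniq _ ⟨hM', hSM'⟩
  have h4 : c⁻¹ ∈ Subgroup.normalizer (M : Set G) := by
    rw [Subgroup.mem_normalizer_iff_map_conj_eq]
    exact e3
  rw [hNM] at h4
  exact hjP (by simpa using M.inv_mem h4)

/-- Baer's characterization of the Fitting subgroup: in a finite group G, an element g lies in the Fitting subgroup if and only if g is a left Engel element, that is, for every x there is n with [x, g, g, …, g] = 1 (n entries g, [a, b] = aba⁻¹b⁻¹). -/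
theorem result {G : Type*} [Group G] [Finite G] (g : G) :
    g ∈ Cfsg.fittingSubgroup G ↔ ∀ x : G, ∃ n : ℕ, (List.replicate n g).foldl (fun a b => a * b * a⁻¹ * b⁻¹) x = 1 := by
  constructor
  · intro hgF x
    have hFn : Group.IsNilpotent (fittingSubgroup G) :=
      Cfsg.Agent.Lib.H7.fittingSubgroup_isNilpotent
    obtain ⟨n, hn⟩ := (Subgroup.isNilpotent_iff_lowerCentralSeries _).mp hFn
    refine ⟨n + 1, ?_⟩
    have hmem : ∀ k, eng g x (k + 1) ∈ (fittingSubgroup G).lowerCentralSeries k := by
      intro k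
      induction k with
      | zero =>
        rw [eng_succ, eng_zero, Subgroup.lowerCentralSeries_zero]
        exact Subgroup.mul_mem _
          ((Cfsg.Agent.Lib.H7.fittingSubgroup_normal (G := G)).conj_mem g hgF x)
          (Subgroup.inv_mem _ hgF)
      | succ k ih =>
        rw [eng_succ, Subgroup.lowerCentralSeries_succ]
        exact Subgroup.commutator_mem_commutator ih hgF
    have := hmem n
    rw [hn] at this
    exact Subgroup.mem_bot.mp this
  · intro h
    exact baer_aux _ G rfl g h

end Cfsg.Agent.S3937
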