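import Mathlib
import Cfsg.Agent.Lib.H16.BaerSuzuki
import Cfsg.Agent.Lib.H22.NilpotentCoprime
import Cfsg.Agent.Lib.H1.Fitting
import Cfsg.Agent.Lib.H1.NilpotentBasic
import Cfsg.Agent.Lib.H20.Basic
import Cfsg.Agent.Lib.H20.SylowExtra

set_option autoImplicit false
open Cfsg

namespace Cfsg.Agent.S3939

universe u

theorem isNilpotent_of_le {G : Type*} [Group G] {K L : Subgroup G} (h : K ≤ L)
    (hL : Group.IsNilpotent L) : Group.IsNilpotent K := by
  haveI := hL
  apply Subgroup.isNilpotent_of_ker_le_center (Subgroup.inclusion h)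
  rw [(MonoidHom.ker_eq_bot_iff _).mpr (Subgroup.inclusion_injective h)]
  exact bot_le

theorem isNilpotent_closure_map {G H : Type*} [Group G] [Group H] (f : G →* H) (x g : G)
    (h : Group.IsNilpotent (Subgroup.closure ({x, g} : Set G))) :
    Group.IsNilpotent (Subgroup.closure ({f x, f g} : Set H)) := by
  have e : Subgroup.closure ({f x, f g} : Set H) =
      (Subgroup.closure ({x, g} : Set G)).map f := by
    rw [MonoidHom.map_closure, Set.image_pair]
  rw [e]
  haveI := h
  exact Group.nilpotent_of_surjective (f.subgroupMap _) (f.subgroupMap_surjective _)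

theorem easy : ∀ (n : ℕ) (G : Type u) [Group G] (g : G), g ∈ Subgroup.upperCentralSeries G n →
    ∀ x : G, Group.IsNilpotent (Subgroup.closure ({x, g} : Set G)) := by
  intro n
  induction n with
  | zero =>
    intro G _ g hg x
    rw [Subgroup.upperCentralSeries_zero, Subgroup.mem_bot] at hg
    subst hg
    letI := Subgroup.closureCommGroupOfComm (k := ({x, 1} : Set G)) (by
      intro a ha b hb
      simp only [Set.mem_insert_iff, Set.mem_singleton_iff] at ha hb
      rcases ha with rfl | rfl <;> rcases hb with rfl | rfl <;> simp)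
    exact CommGroup.isNilpotent
  | succ n ih =>
    intro G _ g hg x
    rw [← Subgroup.comap_upperCentralSeries_quotient_center, Subgroup.mem_comap] at hg
    have hK := ih (G ⧸ Subgroup.center G) _ hg (QuotientGroup.mk' _ x)
    set H := Subgroup.closure ({x, g} : Set G) with hH
    let f : H →* G ⧸ Subgroup.center G := (QuotientGroup.mk' (Subgroup.center G)).comp H.subtype
    have hrange : f.range = Subgroup.closure
        {QuotientGroup.mk' (Subgroup.center G) x, QuotientGroup.mk' (Subgroup.center G) g} := by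
      rw [MonoidHom.range_comp, Subgroup.range_subtype, MonoidHom.map_closure, Set.image_pair]
    haveI : Group.IsNilpotent f.range := by rw [hrange]; exact hK
    apply Subgroup.isNilpotent_of_ker_le_center f.rangeRestrict
    rw [MonoidHom.ker_rangeRestrict]
    intro h hh
    rw [MonoidHom.mem_ker] at hh
    have h1 : (h : G) ∈ Subgroup.center G := (QuotientGroup.eq_one_iff (h : G)).mp hh
    rw [Subgroup.mem_center_iff]
    intro k
    apply Subtype.ext
    exact Subgroup.mem_center_iff.mp h1 k

theorem isPGroup_closure_pair_of_isNilpotent {G : Type*} [Group G] [Finite G] {p : ℕ}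
    [Fact p.Prime] (a b : G) {i j : ℕ} (ha : orderOf a = p ^ i) (hb : orderOf b = p ^ j)
    (hnil : Group.IsNilpotent (Subgroup.closure ({a, b} : Set G))) :
    IsPGroup p (Subgroup.closure ({a, b} : Set G)) := by
  haveI := hnil
  obtain ⟨P⟩ : Nonempty (Sylow p (Subgroup.closure ({a, b} : Set G))) := Sylow.nonempty
  have hPn : (P : Subgroup (Subgroup.closure ({a, b} : Set G))).Normal := inferInstance
  have hP : (P : Subgroup (Subgroup.closure ({a, b} : Set G))) = ⊤ := by
    rw [eq_top_iff, ← Subgroup.closure_closure_coe_preimage, Subgroup.closure_le]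
    intro c hc
    have hc' : (c : G) = a ∨ (c : G) = b := by simpa using hc
    rcases hc' with h | h
    · exact Cfsg.Agent.Lib.H20.mem_sylow_of_normal_of_orderOf P hPn (k := i)
        (by rw [← Subgroup.orderOf_coe, h, ha])
    · exact Cfsg.Agent.Lib.H20.mem_sylow_of_normal_of_orderOf P hPn (k := j)
        (by rw [← Subgroup.orderOf_coe, h, hb])
  intro c
  have hcP : c ∈ (P : Subgroup (Subgroup.closure ({a, b} : Set G))) := hP ▸ Subgroup.mem_top c
  obtain ⟨k, hk⟩ := P.isPGroup' ⟨c, hcP⟩
  exact ⟨k, congrArg Subtype.val hk⟩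

theorem false_of_center_eq_bot {G : Type*} [Group G] [Finite G] (hZ : Subgroup.center G = ⊥)
    {p : ℕ} [hpf : Fact p.Prime] (h : G) (hho : orderOf h = p)
    (hnil : ∀ x : G, Group.IsNilpotent (Subgroup.closure ({x, h} : Set G))) : False := by
  have hp : p.Prime := hpf.out
  -- (1) h commutes with p'-elements
  have hcomm : ∀ y : G, (orderOf y).Coprime p → y * h = h * y := by
    intro y hy
    haveI := hnil y
    have hyL : y ∈ Subgroup.closure ({y, h} : Set G) :=
      Subgroup.subset_closure (Set.mem_insert _ _)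
    have hhL : h ∈ Subgroup.closure ({y, h} : Set G) :=
      Subgroup.subset_closure (Set.mem_insert_of_mem _ rfl)
    have := Cfsg.Agent.Lib.H22.commute_of_coprime_orderOf _
      (Subgroup.closure ({y, h} : Set G)) rfl ⟨y, hyL⟩ ⟨h, hhL⟩
      (by rw [Subgroup.orderOf_mk, Subgroup.orderOf_mk, hho]; exact hy)
    exact congrArg Subtype.val this
  -- (2) Baer–Suzuki
  have hBS : ∀ y : G,
      IsPGroup p ↥(Subgroup.zpowers h ⊔ Cfsg.Agent.Lib.H16.cj y (Subgroup.zpowers h)) := by
    intro y
    have e1 : Cfsg.Agent.Lib.H16.cj y (Subgroup.zpowers h) = Subgroup.zpowers (y * h * y⁻¹) := by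
      show (Subgroup.zpowers h).map (MulAut.conj y).toMonoidHom = _
      rw [MonoidHom.map_zpowers]; rfl
    have e2 : Subgroup.zpowers h ⊔ Subgroup.zpowers (y * h * y⁻¹) =
        Subgroup.closure ({y * h * y⁻¹, h} : Set G) := by
      rw [Subgroup.zpowers_eq_closure, Subgroup.zpowers_eq_closure, ← Subgroup.closure_union,
        Set.union_comm, Set.singleton_union]
    rw [e1, e2]
    have ho : orderOf (y * h * y⁻¹) = p ^ 1 := by
      rw [pow_one, ← hho]
      exact (MulAut.conj y).orderOf_eq h
    exact isPGroup_closure_pair_of_isNilpotent _ _ ho (by rw [hho, pow_one]) (hnil _)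
  obtain ⟨N, hNn, hNp, hXN⟩ := Cfsg.Agent.Lib.H16.baer_suzuki_subgroup (Subgroup.zpowers h) hBS
  -- (3) D
  obtain ⟨Y, hY⟩ : ∃ Y : Set G, Y = {y : G | (orderOf y).Coprime p} := ⟨_, rfl⟩
  have hYmem : ∀ y : G, y ∈ Y ↔ (orderOf y).Coprime p := by intro y; rw [hY]; rfl
  obtain ⟨D, hD⟩ : ∃ D : Subgroup G, D = N ⊓ Subgroup.centralizer Y := ⟨_, rfl⟩
  have hDn : D.Normal := by
    refine ⟨fun d hd a => ?_⟩
    rw [hD] at hd ⊢
    refine Subgroup.mem_inf.mpr ⟨hNn.conj_mem d hd.1 a, ?_⟩
    rw [Subgroup.mem_centralizer_iff]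
    intro y hy
    have hy' : a⁻¹ * y * a ∈ Y := by
      rw [hYmem] at hy ⊢
      have : orderOf (a⁻¹ * y * a) = orderOf y := by
        have := (MulAut.conj a⁻¹).orderOf_eq y
        simpa using this
      rw [this]; exact hy
    have hc := (Subgroup.mem_centralizer_iff.mp hd.2) _ hy'
    have e1 : y * (a * d * a⁻¹) = a * ((a⁻¹ * y * a) * d) * a⁻¹ := by group
    rw [e1, hc]; group
  have hhD : h ∈ D := by
    rw [hD]
    refine Subgroup.mem_inf.mpr ⟨hXN (Subgroup.mem_zpowers h), ?_⟩
    rw [Subgroup.mem_centralizer_iff]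
    intro y hy
    exact hcomm y ((hYmem y).mp hy)
  have hDp : IsPGroup p D := by rw [hD]; exact hNp.to_le inf_le_left
  -- (4) Sylow
  obtain ⟨P⟩ : Nonempty (Sylow p G) := Sylow.nonempty
  have hDP : D ≤ (P : Subgroup G) := by
    apply Cfsg.Agent.Lib.H20.le_sylow_of_le_normalizer P D hDp
    rw [Subgroup.normalizer_eq_top_iff.mpr hDn]; exact le_top
  -- (5)
  haveI : Group.IsNilpotent (P : Subgroup G) := P.isPGroup'.isNilpotent
  haveI : (D.subgroupOf (P : Subgroup G)).Normal := hDn.subgroupOf _
  have hD'ne : D.subgroupOf (P : Subgroup G) ≠ ⊥ := by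
    intro hbot
    have hmem : (⟨h, hDP hhD⟩ : (P : Subgroup G)) ∈ D.subgroupOf (P : Subgroup G) :=
      Subgroup.mem_subgroupOf.mpr hhD
    rw [hbot, Subgroup.mem_bot] at hmem
    have h1 : h = 1 := congrArg Subtype.val hmem
    rw [h1, orderOf_one] at hho
    exact hp.one_lt.ne hho
  have hmeet := Cfsg.Agent.Lib.H1.normal_inf_center_ne_bot (D.subgroupOf (P : Subgroup G)) hD'ne
  obtain ⟨⟨z, hz⟩, hz1⟩ := (Subgroup.ne_bot_iff_exists_ne_one).mp hmeet
  obtain ⟨hzD, hzZ⟩ := Subgroup.mem_inf.mp hz
  have hzD' : (z : G) ∈ D := Subgroup.mem_subgroupOf.mp hzD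
  have hzY : ∀ y : G, (orderOf y).Coprime p → y * (z : G) = (z : G) * y := by
    intro y hy
    rw [hD] at hzD'
    exact (Subgroup.mem_centralizer_iff.mp hzD'.2) y ((hYmem y).mpr hy)
  have hC : Subgroup.centralizer ({(z : G)} : Set G) = ⊤ := by
    apply Cfsg.Agent.Lib.H1.eq_top_of_forall_sylow_le
    intro q hq
    by_cases hqp : q = p
    · subst hqp
      refine ⟨P, ?_⟩
      intro a ha
      rw [Subgroup.mem_centralizer_singleton_iff]
      have := Subgroup.mem_center_iff.mp hzZ ⟨a, ha⟩
      exact congrArg Subtype.val this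
    · obtain ⟨Q⟩ : Nonempty (Sylow q G) := Sylow.nonempty
      refine ⟨Q, ?_⟩
      intro a ha
      rw [Subgroup.mem_centralizer_singleton_iff]
      obtain ⟨k, hk⟩ := Cfsg.Agent.Lib.H20.exists_orderOf_eq_of_mem_sylow Q ha
      apply hzY
      rw [hk]
      exact Nat.Coprime.pow_left k ((Nat.coprime_primes hq.out hp).mpr hqp)
  have hzc : (z : G) ∈ Subgroup.center G := by
    rw [Subgroup.mem_center_iff]
    intro a
    have ha : a ∈ Subgroup.centralizer ({(z : G)} : Set G) := by rw [hC]; exact Subgroup.mem_top a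
    exact Subgroup.mem_centralizer_singleton_iff.mp ha
  rw [hZ, Subgroup.mem_bot] at hzc
  apply hz1
  exact Subtype.ext (Subtype.ext hzc)

theorem hard : ∀ (n : ℕ) (G : Type u) [Group G] [Finite G], Nat.card G = n → ∀ g : G,
    (∀ x : G, Group.IsNilpotent (Subgroup.closure ({x, g} : Set G))) →
    g ∈ ⨆ n : ℕ, Subgroup.upperCentralSeries G n := by
  intro n
  induction n using Nat.strong_induction_on with
  | _ n ih =>
  intro G _ _ hcard g hg
  by_cases hZ : Subgroup.center G = ⊥
  · by_contra hg1
    have hgne : g ≠ 1 := fun h => hg1 (h ▸ Subgroup.one_mem _)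
    have hord : orderOf g ≠ 1 := by rwa [Ne, orderOf_eq_one_iff]
    obtain ⟨p, hp, hpd⟩ := Nat.exists_prime_and_dvd hord
    haveI : Fact p.Prime := ⟨hp⟩
    obtain ⟨h, hh⟩ : ∃ h : G, h = g ^ (orderOf g / p) := ⟨_, rfl⟩
    have hho : orderOf h = p := by
      rw [hh]; exact orderOf_pow_orderOf_div (orderOf_pos g).ne' hpd
    have hnil : ∀ x, Group.IsNilpotent (Subgroup.closure ({x, h} : Set G)) := by
      intro x
      refine isNilpotent_of_le ?_ (hg x)
      rw [Subgroup.closure_le]
      have hxmem : x ∈ Subgroup.closure ({x, g} : Set G) :=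
        Subgroup.subset_closure (Set.mem_insert _ _)
      have hgmem : g ∈ Subgroup.closure ({x, g} : Set G) :=
        Subgroup.subset_closure (Set.mem_insert_of_mem _ (Set.mem_singleton g))
      intro y hy
      rw [Set.mem_insert_iff, Set.mem_singleton_iff] at hy
      rcases hy with hy | hy
      · rw [hy]; exact hxmem
      · rw [hy, hh]
        exact Subgroup.pow_mem _ hgmem _
    exact false_of_center_eq_bot hZ h hho hnil
  · have hlt : Nat.card (G ⧸ Subgroup.center G) < n := by
      rw [← hcard, Subgroup.card_eq_card_quotient_mul_card_subgroup (Subgroup.center G)]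
      have hnt : Nontrivial (Subgroup.center G) := (Subgroup.nontrivial_iff_ne_bot _).mpr hZ
      exact lt_mul_of_one_lt_right Nat.card_pos (Finite.one_lt_card_iff_nontrivial.mpr hnt)
    have h1 := ih _ hlt (G ⧸ Subgroup.center G) rfl (QuotientGroup.mk' (Subgroup.center G) g)
      (fun xbar => by
        obtain ⟨x, rfl⟩ := QuotientGroup.mk'_surjective (Subgroup.center G) xbar
        exact isNilpotent_closure_map (QuotientGroup.mk' (Subgroup.center G)) x g (hg x))
    obtain ⟨m, hm⟩ := (Subgroup.mem_iSup_of_directed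
      (Subgroup.upperCentralSeries_mono (G := G ⧸ Subgroup.center G)).directed_le).mp h1
    have h2 : g ∈ Subgroup.upperCentralSeries G (m + 1) := by
      rw [← Subgroup.comap_upperCentralSeries_quotient_center]
      exact hm
    exact Subgroup.mem_iSup_of_mem (m + 1) h2

/-- In a finite group G the set of elements g such that the subgroup generated by g and x is nilpotent for every x ∈ G is exactly the hypercenter of G (the last term of the upper central series). -/
theorem result {G : Type*} [Group G] [Finite G] (g : G) :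
    (∀ x : G, Group.IsNilpotent ↥(Subgroup.closure ({x, g} : Set G))) ↔ g ∈ ⨆ n : ℕ, Subgroup.upperCentralSeries G n := by
  constructor
  · intro h
    exact hard _ G rfl g h
  · intro h
    obtain ⟨n, hn⟩ := (Subgroup.mem_iSup_of_directed
      (Subgroup.upperCentralSeries_mono (G := G)).directed_le).mp h
    exact easy n G g hn

end Cfsg.Agent.S3939
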