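import Mathlib
import Cfsg.Prelude.Def_LocalStructure

set_option autoImplicit false
open Cfsg

namespace Cfsg.Agent.S3941

open Equiv.Perm

/-- The embedding `A_m → A_n` for `m ≤ n`. -/
noncomputable def altEmb {m n : ℕ} (hmn : m ≤ n) :
    alternatingGroup (Fin m) →* alternatingGroup (Fin n) :=
  ((Equiv.Perm.viaEmbeddingHom (Fin.castLEEmb hmn)).comp
    (alternatingGroup (Fin m)).subtype).codRestrict _ (by
    intro g
    rw [Equiv.Perm.mem_alternatingGroup]
    have hg := Equiv.Perm.mem_alternatingGroup.mp g.2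
    simp only [MonoidHom.coe_comp, Subgroup.coe_subtype, Function.comp_apply,
      viaEmbeddingHom_apply, viaEmbedding]
    rw [sign_extendDomain]
    exact hg)

theorem altEmb_injective {m n : ℕ} (hmn : m ≤ n) : Function.Injective (altEmb hmn) := by
  intro a b hab
  have h1 := congrArg Subtype.val hab
  simp only [altEmb, MonoidHom.codRestrict_apply, MonoidHom.coe_comp, Subgroup.coe_subtype,
    Function.comp_apply] at h1
  exact Subtype.ext (viaEmbeddingHom_injective _ h1)

theorem two_mul_card_alt (m : ℕ) (hm : 2 ≤ m) :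
    2 * Nat.card (alternatingGroup (Fin m)) = m.factorial := by
  haveI : Nontrivial (Fin m) := Fin.nontrivial_iff_two_le.mpr hm
  rw [two_mul_nat_card_alternatingGroup, Nat.card_perm, Nat.card_eq_fintype_card, Fintype.card_fin]

theorem two_mul_card_range {m n : ℕ} (hm : 2 ≤ m) (hmn : m ≤ n) :
    2 * Nat.card (altEmb hmn).range = m.factorial := by
  rw [← two_mul_card_alt m hm]
  congr 1
  exact Nat.card_congr (MonoidHom.ofInjective (altEmb_injective hmn)).toEquiv.symm

theorem range_ne_top {m n : ℕ} (hm : 2 ≤ m) (hmn : m < n) : (altEmb hmn.le).range ≠ ⊤ := by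
  intro h
  have h1 := two_mul_card_range hm hmn.le
  rw [h, Subgroup.card_top, two_mul_card_alt n (by omega)] at h1
  have := (Nat.factorial_lt (by omega : 0 < m)).mpr hmn
  omega

theorem dvd_card_range {m n p : ℕ} (hp : p.Prime) (hp2 : p ≠ 2) (hpm : p ≤ m) (hm : 2 ≤ m)
    (hmn : m ≤ n) : p ∣ Nat.card (altEmb hmn).range := by
  have h1 := two_mul_card_range hm hmn
  have h2 : p ∣ 2 * Nat.card (altEmb hmn).range := by
    rw [h1]; exact (Nat.Prime.dvd_factorial hp).mpr hpm
  rcases (Nat.Prime.dvd_mul hp).mp h2 with h | h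
  · exact absurd ((Nat.prime_dvd_prime_iff_eq hp Nat.prime_two).mp h) hp2
  · exact h


/-- A finite group of order divisible by `p`, simple and with even order, is not `p`-closed
for odd `p`. -/
theorem not_isPClosed_of_simple {K : Type*} [Group K] [Finite K] [IsSimpleGroup K] {p : ℕ}
    [Fact p.Prime] (hp2 : p ≠ 2) (hdvd : p ∣ Nat.card K) (h2 : 2 ∣ Nat.card K) :
    ¬ IsPClosed p K := by
  intro hcl
  have hp : p.Prime := Fact.out
  obtain ⟨P⟩ : Nonempty (Sylow p K) := inferInstance
  have hPn : (P : Subgroup K).Normal := hcl P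
  rcases hPn.eq_bot_or_eq_top with hb | ht
  · exact P.ne_bot_of_dvd_card hdvd hb
  · have hpg : IsPGroup p K := by
      have := P.isPGroup'
      rw [ht] at this
      exact IsPGroup.of_equiv this Subgroup.topEquiv
    obtain ⟨k, hk⟩ := hpg.exists_card_eq
    rw [hk] at h2
    have := Nat.Prime.dvd_of_dvd_pow Nat.prime_two h2
    exact hp2 ((Nat.prime_dvd_prime_iff_eq Nat.prime_two hp).mp this).symm

/-- A group containing elements `x, y` of order dividing `3` whose product is an involution is
not `3`-closed. -/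
theorem not_isPClosed_three {K : Type*} [Group K] [Finite K] (x y : K) (hx : x ^ 3 = 1)
    (hy : y ^ 3 = 1) (hxy : (x * y) ^ 2 = 1) (hxy1 : x * y ≠ 1) : ¬ IsPClosed 3 K := by
  intro hcl
  haveI : Fact (Nat.Prime 3) := ⟨Nat.prime_three⟩
  obtain ⟨P⟩ : Nonempty (Sylow 3 K) := inferInstance
  have hPn : (P : Subgroup K).Normal := hcl P
  haveI := Sylow.unique_of_normal P hPn
  have hmem : ∀ g : K, g ^ 3 = 1 → g ∈ (P : Subgroup K) := by
    intro g hg
    have hpg : IsPGroup 3 (Subgroup.zpowers g) := by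
      rintro ⟨h, hh⟩
      obtain ⟨j, rfl⟩ := Subgroup.mem_zpowers_iff.mp hh
      refine ⟨1, ?_⟩
      apply Subtype.ext
      simp only [pow_one, SubmonoidClass.coe_pow, OneMemClass.coe_one]
      rw [← zpow_natCast, ← zpow_mul, mul_comm, zpow_mul, zpow_natCast, hg, one_zpow]
    obtain ⟨Q, hQ⟩ := hpg.exists_le_sylow
    have : Q = P := Subsingleton.elim _ _
    rw [this] at hQ
    exact hQ (Subgroup.mem_zpowers g)
  have h1 : x * y ∈ (P : Subgroup K) := Subgroup.mul_mem _ (hmem x hx) (hmem y hy)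
  obtain ⟨k, hk⟩ := P.isPGroup' ⟨x * y, h1⟩
  have hk' : (x * y) ^ (3 ^ k) = 1 := by
    have := congrArg Subtype.val hk
    simpa using this
  have ho : orderOf (x * y) = 2 := orderOf_eq_prime hxy hxy1
  have h2 : 2 ∣ 3 ^ k := by rw [← ho]; exact orderOf_dvd_of_pow_eq_one hk'
  have := Nat.Prime.dvd_of_dvd_pow Nat.prime_two h2
  omega

/-- Let n ≥ 5 and p an odd prime with p ≤ n, and suppose that every proper subgroup of the alternating group of degree n whose order is divisible by p has a normal Sylow p-subgroup. Then n = p. -/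
theorem result (n p : ℕ) (hn : 5 ≤ n) [Fact p.Prime] (hp : p ≠ 2) (hpn : p ≤ n)
    (h : ∀ H : Subgroup ↥(alternatingGroup (Fin n)), H ≠ ⊤ → p ∣ Nat.card ↥H → Cfsg.IsPClosed p ↥H) : n = p := by
  have hpp : p.Prime := Fact.out
  by_contra hne
  have hlt : p < n := lt_of_le_of_ne hpn (Ne.symm hne)
  have hp3 : 3 ≤ p := by
    have := hpp.two_le
    omega
  rcases Nat.lt_or_ge p 5 with h5 | h5
  · -- p = 3
    have hp3' : p = 3 := by
      rcases (by omega : p = 3 ∨ p = 4) with h3 | h4
      · exact h3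
      · exfalso; rw [h4] at hpp; exact absurd hpp (by decide)
    subst hp3'
    have hmn : 4 < n := by omega
    have hK := h (altEmb hmn.le).range (range_ne_top (by norm_num) hmn)
      (dvd_card_range Nat.prime_three (by norm_num) (by norm_num) (by norm_num) hmn.le)
    obtain ⟨e, he⟩ : ∃ e : alternatingGroup (Fin 4) ≃* (altEmb hmn.le).range,
        e = MonoidHom.ofInjective (altEmb_injective hmn.le) := ⟨_, rfl⟩
    obtain ⟨x, hx⟩ : ∃ x : alternatingGroup (Fin 4), x = ⟨Equiv.swap 0 1 * Equiv.swap 1 2, mem_alternatingGroup.2 (by decide)⟩ := ⟨_, rfl⟩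
    obtain ⟨y, hy⟩ : ∃ y : alternatingGroup (Fin 4), y = ⟨Equiv.swap 0 1 * Equiv.swap 1 3, mem_alternatingGroup.2 (by decide)⟩ := ⟨_, rfl⟩
    have hx3 : x ^ 3 = 1 := by rw [hx]; decide
    have hy3 : y ^ 3 = 1 := by rw [hy]; decide
    have hxy2 : (x * y) ^ 2 = 1 := by rw [hx, hy]; decide
    have hxy1 : x * y ≠ 1 := by rw [hx, hy]; decide
    refine not_isPClosed_three (e x) (e y) ?_ ?_ ?_ ?_ hK
    · rw [← map_pow, hx3, map_one]
    · rw [← map_pow, hy3, map_one]
    · rw [← map_mul, ← map_pow, hxy2, map_one]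
    · rw [← map_mul]
      intro h1
      exact hxy1 (e.injective (h1.trans (map_one e).symm))
  · -- p ≥ 5
    have hK := h (altEmb hlt.le).range (range_ne_top (by omega) hlt)
      (dvd_card_range hpp hp le_rfl (by omega) hlt.le)
    obtain ⟨e, he⟩ : ∃ e : alternatingGroup (Fin p) ≃* (altEmb hlt.le).range,
        e = MonoidHom.ofInjective (altEmb_injective hlt.le) := ⟨_, rfl⟩
    haveI : IsSimpleGroup (alternatingGroup (Fin p)) :=
      alternatingGroup.isSimpleGroup (by simpa using h5)
    haveI : IsSimpleGroup (altEmb hlt.le).range := e.isSimpleGroup_congr.mp inferInstance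
    refine not_isPClosed_of_simple hp (dvd_card_range hpp hp le_rfl (by omega) hlt.le) ?_ hK
    have h1 := two_mul_card_range (by omega : 2 ≤ p) hlt.le
    have h4 : (4 : ℕ).factorial ∣ p.factorial := Nat.factorial_dvd_factorial (by omega)
    rw [← h1] at h4
    have h24 : (4 : ℕ).factorial = 24 := by decide
    rw [h24] at h4
    omega

end Cfsg.Agent.S3941
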