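import Cfsg.Statements.S3946
import Mathlib
import Cfsg.Agent.Lib.H1.SplitTrace
import Cfsg.Agent.Lib.H1.FpfNilpotent

set_option autoImplicit false
open Cfsg

namespace Cfsg.Agent.S3946

open Cfsg.Agent.Lib.H1 Cfsg.Agent.Lib.L0 Cfsg.Agent.Lib.H26
open scoped Pointwise commutatorElement

universe u

section basics

variable {G : Type*} [Group G]

/-- a group embedding into the product of two nilpotent quotients is nilpotent. -/
theorem isNilpotent_of_two_quotients (N₁ N₂ : Subgroup G) [N₁.Normal] [N₂.Normal]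
    (h : N₁ ⊓ N₂ = ⊥) [Group.IsNilpotent (G ⧸ N₁)] [Group.IsNilpotent (G ⧸ N₂)] :
    Group.IsNilpotent G := by
  let f : G →* (G ⧸ N₁) × (G ⧸ N₂) := (QuotientGroup.mk' N₁).prod (QuotientGroup.mk' N₂)
  have hf : Function.Injective f := by
    rw [injective_iff_map_eq_one]
    intro x hx
    have h1 : (QuotientGroup.mk' N₁ x) = 1 := congrArg Prod.fst hx
    have h2 : (QuotientGroup.mk' N₂ x) = 1 := congrArg Prod.snd hx
    rw [QuotientGroup.mk'_apply, QuotientGroup.eq_one_iff] at h1 h2
    have : x ∈ N₁ ⊓ N₂ := ⟨h1, h2⟩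
    rwa [h, Subgroup.mem_bot] at this
  apply Subgroup.isNilpotent_of_ker_le_center f
  rw [(MonoidHom.ker_eq_bot_iff f).mpr hf]
  exact bot_le

/-- an automorphism of `p`-power order leaves some Sylow `p`-subgroup invariant. -/
theorem exists_invariant_sylow_of_pow [Finite G] {p : ℕ} [hp : Fact p.Prime] {φ : G ≃* G}
    (hφp : φ ^ p = 1) : ∃ P : Sylow p G, InvSub φ (P : Subgroup G) := by
  have hA : IsPGroup p (Subgroup.zpowers φ) := by
    intro g
    refine ⟨1, ?_⟩
    obtain ⟨g, hg⟩ := g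
    obtain ⟨k, rfl⟩ := Subgroup.mem_zpowers_iff.mp hg
    apply Subtype.ext
    rw [pow_one, Subgroup.coe_pow, Subgroup.coe_one, ← zpow_natCast, ← zpow_mul, mul_comm, zpow_mul,
      zpow_natCast, hφp, one_zpow]
  have hnd : ¬ p ∣ Nat.card (Sylow p G) := by
    intro hdvd
    have h1 := card_sylow_modEq_one p G
    have h2 : Nat.card (Sylow p G) ≡ 0 [MOD p] := Nat.modEq_zero_iff_dvd.mpr hdvd
    have h3 := h2.symm.trans h1
    have : p ∣ 1 := by
      have := (Nat.modEq_iff_dvd' (Nat.zero_le 1)).mp h3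
      simpa using this
    exact hp.out.one_lt.ne' (Nat.dvd_one.mp this)
  obtain ⟨P, hP⟩ := hA.nonempty_fixed_point_of_prime_not_dvd_card (Sylow p G) hnd
  refine ⟨P, invSub_of_forall_mem ?_⟩
  intro x hx
  have h1 := hP ⟨φ, Subgroup.mem_zpowers φ⟩
  have h2 : φ • (P : Subgroup G) = (P : Subgroup G) := congrArg (fun Q : Sylow p G => (Q : Subgroup G)) h1
  have h3 : φ • x ∈ φ • (P : Subgroup G) := Subgroup.smul_mem_pointwise_smul x φ _ hx
  rw [h2] at h3
  exact h3

/-- an automorphism of `p`-power order of a nontrivial invariant `p`-subgroup has a nontrivial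
fixed point there. -/
theorem exists_fixed_ne_one [Finite G] {p : ℕ} [hp : Fact p.Prime] {φ : G ≃* G}
    (hφp : φ ^ p = 1) {P : Subgroup G} (hP : IsPGroup p P) (hinv : InvSub φ P) (hne : P ≠ ⊥) :
    ∃ y ∈ P, y ≠ 1 ∧ φ y = y := by
  obtain ⟨ψ, hψ⟩ : ∃ ψ : P ≃* P, ψ = restrictAut φ P hinv := ⟨_, rfl⟩
  have hψp : ψ ^ p = 1 := hψ ▸ restrictAut_pow_eq_one hφp P hinv
  have hA : IsPGroup p (Subgroup.zpowers ψ) := by
    intro g
    refine ⟨1, ?_⟩
    obtain ⟨g, hg⟩ := g
    obtain ⟨k, rfl⟩ := Subgroup.mem_zpowers_iff.mp hg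
    apply Subtype.ext
    rw [pow_one, Subgroup.coe_pow, Subgroup.coe_one, ← zpow_natCast, ← zpow_mul, mul_comm, zpow_mul,
      zpow_natCast, hψp, one_zpow]
  have hdvd : p ∣ Nat.card P := by
    obtain ⟨k, hk⟩ := IsPGroup.iff_card.mp hP
    rcases Nat.eq_zero_or_pos k with rfl | hk0
    · rw [pow_zero] at hk
      exact absurd ((Subgroup.eq_bot_iff_card P).mpr hk) hne
    · rw [hk]; exact dvd_pow_self p hk0.ne'
  have h1 : (1 : P) ∈ MulAction.fixedPoints (Subgroup.zpowers ψ) P := by
    intro g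
    rw [Subgroup.smul_def, MulAut.smul_def, map_one]
  obtain ⟨b, hb, hb1⟩ := hA.exists_fixed_point_of_prime_dvd_card_of_fixed_point P hdvd h1
  refine ⟨b, b.2, ?_, ?_⟩
  · intro h
    apply hb1
    exact (Subtype.ext h).symm
  · have h2 := hb ⟨ψ, Subgroup.mem_zpowers ψ⟩
    rw [Subgroup.smul_def, MulAut.smul_def] at h2
    have h3 := congrArg Subtype.val h2
    rw [hψ] at h3
    exact h3

end basics

/-- induction hypothesis -/
def SplitIH (p n : ℕ) : Prop :=
  ∀ (G : Type u) [Group G] [Finite G], Nat.card G < n → ∀ φ : G ≃* G, φ ^ p = 1 → Split p φ →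
    Group.IsNilpotent G

section main

variable {G : Type u} [Group G] [Finite G] {p : ℕ}

theorem nilp_sub (IH : SplitIH.{u} p (Nat.card G)) {φ : G ≃* G} (hφp : φ ^ p = 1)
    (hs : Split p φ) {M : Subgroup G} (hM : InvSub φ M) (hne : M ≠ ⊤) : Group.IsNilpotent M :=
  IH M (card_lt_of_ne_top hne) (restrictAut φ M hM) (restrictAut_pow_eq_one hφp M hM)
    (hs.restrict M hM)

theorem nilp_quot (IH : SplitIH.{u} p (Nat.card G)) {φ : G ≃* G} (hφp : φ ^ p = 1)
    (hs : Split p φ) {N : Subgroup G} [N.Normal] (hN : InvSub φ N) (hne : N ≠ ⊥) :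
    Group.IsNilpotent (G ⧸ N) :=
  IH (G ⧸ N) (card_quotient_lt hne) (quotAut φ N hN) (quotAut_pow_eq_one hφp N hN) (hs.quot N hN)

/-- Case II: the Thompson subgroups are not normal; Thompson's theorem gives a normal
`p`-complement. -/
theorem caseII [hp : Fact p.Prime] (hp2 : p ≠ 2) (IH : SplitIH.{u} p (Nat.card G)) {φ : G ≃* G}
    (hφp : φ ^ p = 1) (hs : Split p φ) (P : Sylow p G) (hP : InvSub φ (P : Subgroup G))
    (hPne : (P : Subgroup G) ≠ ⊥)
    (hNJ : Subgroup.normalizer (JJ p (P : Subgroup G) : Set G) ≠ ⊤)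
    (hCZ : Subgroup.centralizer
        (((P : Subgroup G) ⊓ Subgroup.centralizer ((P : Subgroup G) : Set G) : Subgroup G) : Set G)
        ≠ ⊤) : Group.IsNilpotent G := by
  have hJ : InvSub φ (JJ p (P : Subgroup G)) := by
    unfold InvSub
    rw [← JJ_map (injOnSub_of_injective φ.injective _), hP]
  have hZ : InvSub φ ((P : Subgroup G) ⊓ Subgroup.centralizer ((P : Subgroup G) : Set G)) :=
    hP.inf hP.centralizer
  haveI := nilp_sub IH hφp hs hJ.normalizer hNJ
  haveI := nilp_sub IH hφp hs hZ.centralizer hCZ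
  have hT : ThHyp p G P := (thHyp_iff P).mpr ⟨hnpc_of_isNilpotent p, hnpc_of_isNilpotent p⟩
  have hG : HasNormalPComplement p G := (Cfsg.Agent.S0108.result hp2 P).mpr hT
  obtain ⟨K, hKn, hpK, k, hk⟩ := HasNormalPComplement.exists_normal hG
  haveI := hKn
  have hKcop : (Nat.card K).Coprime p :=
    ((Nat.Prime.coprime_iff_not_dvd hp.out).mpr hpK).symm
  have hKinv : InvSub φ K := by
    apply invSub_of_forall_mem
    intro x hx
    apply mem_of_coprime_orderOf_of_index_pow K k hk
    rw [φ.orderOf_eq]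
    have h1 : orderOf x ∣ Nat.card K := by
      have := orderOf_dvd_natCard (⟨x, hx⟩ : K)
      rwa [Subgroup.orderOf_mk] at this
    exact Nat.Coprime.coprime_dvd_left h1 hKcop
  by_cases hKbot : K = ⊥
  · rw [hKbot, Subgroup.index_bot] at hk
    exact (IsPGroup.of_card hk).isNilpotent
  have hpP : p ∣ Nat.card (P : Subgroup G) := by
    obtain ⟨j, hj⟩ := IsPGroup.iff_card.mp P.2
    rcases Nat.eq_zero_or_pos j with rfl | hj0
    · rw [pow_zero] at hj
      exact absurd ((Subgroup.eq_bot_iff_card _).mpr hj) hPne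
    · rw [hj]; exact dvd_pow_self p hj0.ne'
  have hKtop : K ≠ ⊤ := by
    intro h
    rw [h, Subgroup.card_top] at hpK
    exact hpK (hpP.trans (Subgroup.card_subgroup_dvd_card _))
  haveI hKnil : Group.IsNilpotent K := nilp_sub IH hφp hs hKinv hKtop
  -- the centre of `K`
  obtain ⟨Zk, hZk⟩ : ∃ Zk, Zk = K ⊓ Subgroup.centralizer (K : Set G) := ⟨_, rfl⟩
  haveI hZkn : Zk.Normal := by rw [hZk]; infer_instance
  have hZkinv : InvSub φ Zk := hZk ▸ hKinv.inf hKinv.centralizer
  have hZkK : Zk ≤ K := hZk ▸ inf_le_left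
  have hZkC : Zk ≤ Subgroup.centralizer (K : Set G) := hZk ▸ inf_le_right
  have hZkc : ∀ a ∈ Zk, ∀ b ∈ Zk, a * b = b * a := by
    intro a ha b hb
    exact (Subgroup.mem_centralizer_iff.mp (hZkC hb) a (hZkK ha))
  have hZkne : Zk ≠ ⊥ := by
    have hKne : (⊤ : Subgroup K) ≠ ⊥ := by
      intro h
      apply hKbot
      rw [eq_bot_iff]
      intro x hx
      have : (⟨x, hx⟩ : K) ∈ (⊤ : Subgroup K) := Subgroup.mem_top _
      rw [h, Subgroup.mem_bot] at this
      rw [Subgroup.mem_bot]
      exact congrArg Subtype.val this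
    have h1 := normal_inf_center_ne_bot (G := K) ⊤ hKne
    rw [top_inf_eq] at h1
    obtain ⟨z, hz1⟩ := (Subgroup.ne_bot_iff_exists_ne_one.mp h1)
    intro hbot
    apply hz1
    have hzmem : (z : K) ∈ Subgroup.center K := z.2
    have : ((z : K) : G) ∈ Zk := by
      rw [hZk]
      refine Subgroup.mem_inf.mpr ⟨(z : K).2, ?_⟩
      rw [Subgroup.mem_centralizer_iff]
      intro x hx
      have := Subgroup.mem_center_iff.mp hzmem ⟨x, hx⟩
      exact congrArg Subtype.val this
    rw [hbot, Subgroup.mem_bot] at this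
    apply Subtype.ext
    apply Subtype.ext
    exact this
  haveI hQnil : Group.IsNilpotent (G ⧸ Zk) := nilp_quot IH hφp hs hZkinv hZkne
  -- a nontrivial fixed point in `P`
  obtain ⟨y, hyP, hy1, hyfix⟩ := exists_fixed_ne_one hφp P.2 hP hPne
  have hyp : y ^ p = 1 := hs.pow_eq_one_of_fixed hyfix
  have hZkcop : (Nat.card Zk).Coprime p :=
    Nat.Coprime.coprime_dvd_left (Subgroup.card_dvd_of_le hZkK) hKcop
  have hyZ : ∀ w ∈ Zk, y * w * y⁻¹ = w :=
    split_fixed_centralizes hp.out hφp hs hZkc hZkinv hZkcop hyfix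
  -- `y` centralizes `K`
  have hyK : ∀ x ∈ K, y * x * y⁻¹ = x := by
    intro x hx
    have hox : (orderOf x).Coprime p := by
      have h1 : orderOf x ∣ Nat.card K := by
        have := orderOf_dvd_natCard (⟨x, hx⟩ : K)
        rwa [Subgroup.orderOf_mk] at this
      exact Nat.Coprime.coprime_dvd_left h1 hKcop
    have hoy : orderOf y ∣ p := orderOf_dvd_of_pow_eq_one hyp
    have hcomm : Commute (QuotientGroup.mk' Zk y) (QuotientGroup.mk' Zk x) := by
      apply Cfsg.Agent.Lib.H8.commute_of_coprime_orderOf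
      have h1 : orderOf (QuotientGroup.mk' Zk y) ∣ p :=
        (orderOf_map_dvd _ y).trans hoy
      have h2 : orderOf (QuotientGroup.mk' Zk x) ∣ orderOf x := orderOf_map_dvd _ x
      exact Nat.Coprime.coprime_dvd_left h1 (Nat.Coprime.coprime_dvd_right h2 hox.symm)
    obtain ⟨z, hz⟩ : ∃ z, z = y * x * y⁻¹ * x⁻¹ := ⟨_, rfl⟩
    have hzZ : z ∈ Zk := by
      rw [← QuotientGroup.eq_one_iff (N := Zk), hz]
      have : ((y * x * y⁻¹ * x⁻¹ : G) : G ⧸ Zk) =
          (QuotientGroup.mk' Zk y) * (QuotientGroup.mk' Zk x) * (QuotientGroup.mk' Zk y)⁻¹ *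
            (QuotientGroup.mk' Zk x)⁻¹ := by
        simp
      rw [this, hcomm.eq]
      group
    have hzx : z * x = x * z := by
      exact (Subgroup.mem_centralizer_iff.mp (hZkC hzZ) x hx).symm
    have hyz : y * z * y⁻¹ = z := hyZ z hzZ
    have hconj : y * x * y⁻¹ = z * x := by rw [hz]; group
    have hpow : ∀ n : ℕ, y ^ n * x * (y ^ n)⁻¹ = z ^ n * x := by
      intro n
      induction n with
      | zero => simp
      | succ n ih =>
        calc y ^ (n + 1) * x * (y ^ (n + 1))⁻¹ = y * (y ^ n * x * (y ^ n)⁻¹) * y⁻¹ := by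
              rw [pow_succ']; group
          _ = y * (z ^ n * x) * y⁻¹ := by rw [ih]
          _ = (y * z * y⁻¹) ^ n * (y * x * y⁻¹) := by rw [conj_pow]; group
          _ = z ^ n * (z * x) := by rw [hyz, hconj]
          _ = z ^ (n + 1) * x := by rw [pow_succ]; group
    have h1 := hpow p
    rw [hyp] at h1
    have hzp : z ^ p = 1 := by
      have : x = z ^ p * x := by simpa using h1
      have h2 : 1 * x = z ^ p * x := by rw [one_mul]; exact this
      exact (mul_right_cancel h2).symm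
    have hzK : z ^ Nat.card K = 1 := by
      have : (⟨z, hZkK hzZ⟩ : K) ^ Nat.card K = 1 := pow_card_eq_one'
      have h3 : (((⟨z, hZkK hzZ⟩ : K) ^ Nat.card K : K) : G) = ((1 : K) : G) :=
        congrArg Subtype.val this
      rwa [Subgroup.coe_pow, Subgroup.coe_one] at h3
    have h3 := pow_gcd_eq_one.mpr ⟨hzK, hzp⟩
    rw [Nat.Coprime.gcd_eq_one hKcop, pow_one] at h3
    rw [hconj, h3, one_mul]
  -- `K P = G`
  have hcardP : Nat.card K * Nat.card (P : Subgroup G) = Nat.card G := by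
    have h1 := K.card_mul_index
    rw [hk] at h1
    have h2 := P.card_eq_multiplicity
    have hK0 : Nat.card K ≠ 0 := Nat.card_pos.ne'
    have h3 : (Nat.card G).factorization p = k := by
      rw [← h1, Nat.factorization_mul hK0 (pow_pos hp.out.pos k).ne',
        Nat.Prime.factorization_pow hp.out, Finsupp.add_apply,
        Nat.factorization_eq_zero_of_not_dvd hpK, zero_add]
      simp
    rw [h2, h3, h1]
  have hcompl : Subgroup.IsComplement' K (P : Subgroup G) := by
    apply Subgroup.isComplement'_of_coprime hcardP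
    obtain ⟨j, hj⟩ := IsPGroup.iff_card.mp P.2
    rw [hj]
    exact Nat.Coprime.pow_right j hKcop
  -- `P₁ = C_P(K)` is a nontrivial normal invariant subgroup
  obtain ⟨P₁, hP₁⟩ : ∃ P₁, P₁ = (P : Subgroup G) ⊓ Subgroup.centralizer (K : Set G) := ⟨_, rfl⟩
  have hyP₁ : y ∈ P₁ := by
    rw [hP₁]
    refine Subgroup.mem_inf.mpr ⟨hyP, ?_⟩
    rw [Subgroup.mem_centralizer_iff]
    intro x hx
    have := hyK x hx
    calc x * y = (y * x * y⁻¹) * y := by rw [this]
      _ = y * x := by group
  have hP₁ne : P₁ ≠ ⊥ := by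
    intro h
    rw [h, Subgroup.mem_bot] at hyP₁
    exact hy1 hyP₁
  have hP₁inv : InvSub φ P₁ := hP₁ ▸ hP.inf hKinv.centralizer
  have hCKn : (Subgroup.centralizer (K : Set G)).Normal := inferInstance
  haveI hP₁n : P₁.Normal := by
    constructor
    intro n hn g
    obtain ⟨a, ha, x, hx, rfl⟩ := isComplement'_exists_mul hcompl g
    rw [hP₁] at hn ⊢
    obtain ⟨hnP, hnC⟩ := Subgroup.mem_inf.mp hn
    have hm : x * n * x⁻¹ ∈ (P : Subgroup G) ⊓ Subgroup.centralizer (K : Set G) :=
      Subgroup.mem_inf.mpr ⟨Subgroup.mul_mem _ (Subgroup.mul_mem _ hx hnP) (Subgroup.inv_mem _ hx),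
        hCKn.conj_mem n hnC x⟩
    have hma : a * (x * n * x⁻¹) * a⁻¹ = x * n * x⁻¹ := by
      have := Subgroup.mem_centralizer_iff.mp (Subgroup.mem_inf.mp hm).2 a ha
      calc a * (x * n * x⁻¹) * a⁻¹ = (x * n * x⁻¹) * a * a⁻¹ := by rw [this]
        _ = x * n * x⁻¹ := by group
    have : a * x * n * (a * x)⁻¹ = a * (x * n * x⁻¹) * a⁻¹ := by group
    rw [this, hma]
    exact hm
  have hKP₁ : K ⊓ P₁ = ⊥ := by
    rw [eq_bot_iff]
    intro x hx
    obtain ⟨hxK, hxP₁⟩ := Subgroup.mem_inf.mp hx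
    rw [hP₁] at hxP₁
    have hxP := (Subgroup.mem_inf.mp hxP₁).1
    have := hcompl.disjoint
    rw [Subgroup.mem_bot]
    exact Subgroup.disjoint_def.mp this hxK hxP
  haveI := nilp_quot IH hφp hs hKinv hKbot
  haveI := nilp_quot IH hφp hs hP₁inv hP₁ne
  exact isNilpotent_of_two_quotients K P₁ hKP₁

/-- Case I: there is a nontrivial invariant normal `p`-subgroup. -/
theorem caseI [hp : Fact p.Prime] (IH : SplitIH.{u} p (Nat.card G)) {φ : G ≃* G}
    (hφp : φ ^ p = 1) (hs : Split p φ) (P : Sylow p G) (hP : InvSub φ (P : Subgroup G))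
    (N₁ : Subgroup G) [hN₁n : N₁.Normal] (hN₁ : InvSub φ N₁) (hN₁P : N₁ ≤ (P : Subgroup G))
    (hN₁ne : N₁ ≠ ⊥) : Group.IsNilpotent G := by
  haveI hQ₁ : Group.IsNilpotent (G ⧸ N₁) := nilp_quot IH hφp hs hN₁ hN₁ne
  have hPne : (P : Subgroup G) ≠ ⊥ := by
    intro h
    apply hN₁ne
    rw [eq_bot_iff, ← h]
    exact hN₁P
  -- `P` is normal
  haveI hPn : (P : Subgroup G).Normal := by
    have hsurj : Function.Surjective (QuotientGroup.mk' N₁) := QuotientGroup.mk'_surjective N₁
    have hn : ((P.mapSurjective hsurj : Sylow p (G ⧸ N₁)) : Subgroup (G ⧸ N₁)).Normal :=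
      inferInstance
    rw [Sylow.coe_mapSurjective] at hn
    have := hn.comap (QuotientGroup.mk' N₁)
    rwa [comap_map_mk'_of_le hN₁P] at this
  -- the centre of `P`
  obtain ⟨V, hV⟩ : ∃ V, V = (P : Subgroup G) ⊓ Subgroup.centralizer ((P : Subgroup G) : Set G) :=
    ⟨_, rfl⟩
  haveI hVn : V.Normal := by rw [hV]; infer_instance
  have hVinv : InvSub φ V := hV ▸ hP.inf hP.centralizer
  have hVP : V ≤ (P : Subgroup G) := hV ▸ inf_le_left
  have hVC : V ≤ Subgroup.centralizer ((P : Subgroup G) : Set G) := hV ▸ inf_le_right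
  have hVc : ∀ a ∈ V, ∀ b ∈ V, a * b = b * a := by
    intro a ha b hb
    exact (Subgroup.mem_centralizer_iff.mp (hVC hb) a (hVP ha))
  have hVne : V ≠ ⊥ := hV ▸ ZZ_ne_bot P.2 hPne
  haveI hQV : Group.IsNilpotent (G ⧸ V) := nilp_quot IH hφp hs hVinv hVne
  -- a complement `K` of `P`
  obtain ⟨K, hK⟩ := Subgroup.exists_right_complement'_of_coprime
    (N := (P : Subgroup G)) P.card_coprime_index
  have hKcard : Nat.card (P : Subgroup G) * Nat.card K = Nat.card G := hK.card_mul
  obtain ⟨j, hj⟩ := IsPGroup.iff_card.mp P.2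
  have hKcop : (Nat.card K).Coprime p := by
    have h1 : (Nat.card (P : Subgroup G)).Coprime (Nat.card K) := by
      have := P.card_coprime_index
      rwa [hK.symm.index_eq_card] at this
    rw [hj] at h1
    rcases Nat.eq_zero_or_pos j with rfl | hj0
    · rw [pow_zero] at hj
      exact absurd ((Subgroup.eq_bot_iff_card _).mpr hj) hPne
    · exact (Nat.Coprime.coprime_dvd_left (dvd_pow_self p hj0.ne') h1).symm
  have hPKcop : (Nat.card (P : Subgroup G)).Coprime (Nat.card K) := by
    rw [hj]; exact (Nat.Coprime.pow_right j hKcop).symm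
  -- conjugate `φ` so that it stabilizes `K`
  obtain ⟨K', hK'⟩ : ∃ K', K' = K.map φ.toMonoidHom := ⟨_, rfl⟩
  have hK'card : Nat.card K' = Nat.card K := by
    rw [hK', Subgroup.card_map_of_injective φ.injective]
  have hK'c : Subgroup.IsComplement' (P : Subgroup G) K' :=
    Subgroup.isComplement'_of_coprime (by rw [hK'card]; exact hKcard) (by rw [hK'card]; exact hPKcop)
  have hPsolv : Group.IsSolvable (P : Subgroup G) := by
    haveI := P.2.isNilpotent
    infer_instance
  obtain ⟨g, hg⟩ := sz_conj (by rw [hK'card]; exact hPKcop) hK'c hK (Or.inl hPsolv)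
  obtain ⟨ψ, hψ⟩ : ∃ ψ : G ≃* G, ψ = conjAut g φ := ⟨_, rfl⟩
  have hψp : ψ ^ p = 1 := hψ ▸ hs.conj_pow_eq_one hφp g
  have hψs : Split p ψ := hψ ▸ hs.conj g
  have hψK : InvSub ψ K := by
    apply invSub_of_forall_mem
    intro x hx
    rw [hψ, conjAut_apply, ← hg]
    have : φ x ∈ K' := by rw [hK']; exact Subgroup.mem_map_of_mem _ hx
    exact conj_mem_conj_smul this
  have hψV : InvSub ψ V := by
    apply invSub_of_forall_mem
    intro x hx
    rw [hψ, conjAut_apply]
    exact hVn.conj_mem _ (hVinv.apply_mem hx) g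
  -- `W = [V, K]`
  have hKV : K ≤ Subgroup.normalizer (V : Set G) := by
    rw [Subgroup.normalizer_eq_top_iff.mpr hVn]; exact le_top
  obtain ⟨W, hW⟩ : ∃ W, W = ⁅V, K⁆ := ⟨_, rfl⟩
  have hWV : W ≤ V := by
    rw [hW]
    exact Subgroup.commutator_le_left V K
  have hWinv : InvSub ψ W := by
    unfold InvSub
    rw [hW, Subgroup.map_commutator, hψV, hψK]
  have hKW : K ≤ Subgroup.normalizer (W : Set G) := by
    intro k hk
    rw [Subgroup.mem_normalizer_iff_map_conj_eq, hW, Subgroup.map_commutator]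
    have h1 := Subgroup.mem_normalizer_iff_map_conj_eq.mp (hKV hk)
    have h2 := Subgroup.mem_normalizer_iff_map_conj_eq.mp
      (Subgroup.le_normalizer (H := K) hk)
    rw [h1, h2]
  haveI : IsMulCommutative V := ⟨⟨fun a b => Subtype.ext (hVc a a.2 b b.2)⟩⟩
  have hVKcop : (Nat.card K).Coprime (Nat.card V) := by
    have h1 : Nat.card V ∣ Nat.card (P : Subgroup G) := Subgroup.card_dvd_of_le hVP
    exact (Nat.Coprime.coprime_dvd_left h1 hPKcop).symm
  have hD : W ⊓ Subgroup.centralizer (K : Set G) = ⊥ := by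
    have h0 := coprime_abelian_centralizer_inf_commutator hKV hVKcop
    rw [eq_bot_iff, ← h0, hW]
    intro x hx
    obtain ⟨hxW, hxC⟩ := Subgroup.mem_inf.mp hx
    exact Subgroup.mem_inf.mpr ⟨Subgroup.mem_inf.mpr ⟨(hW ▸ hWV) hxW, hxC⟩, hxW⟩
  have htr := split_trace hp.out hψp hψs hKW
    (fun a ha b hb => hVc a (hWV ha) b (hWV hb)) hWinv hψK hKcop hD
  have hWbot : W = ⊥ := by
    rw [eq_bot_iff]
    intro w hw
    rw [Subgroup.mem_bot]
    have h1 := htr w hw
    have h2 : w ^ Nat.card (P : Subgroup G) = 1 := by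
      have : (⟨w, hVP (hWV hw)⟩ : (P : Subgroup G)) ^ Nat.card (P : Subgroup G) = 1 :=
        pow_card_eq_one'
      have h3 : (((⟨w, hVP (hWV hw)⟩ : (P : Subgroup G)) ^ Nat.card (P : Subgroup G) :
          (P : Subgroup G)) : G) = ((1 : (P : Subgroup G)) : G) := congrArg Subtype.val this
      rwa [Subgroup.coe_pow, Subgroup.coe_one] at h3
    have h3 := pow_gcd_eq_one.mpr ⟨h2, h1⟩
    rwa [Nat.Coprime.gcd_eq_one hPKcop, pow_one] at h3
  -- `V` is central
  have hVcen : V ≤ Subgroup.center G := by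
    intro v hv
    rw [Subgroup.mem_center_iff]
    intro g'
    obtain ⟨x, hx, k, hk, rfl⟩ := isComplement'_exists_mul hK g'
    have h1 : x * v = v * x := Subgroup.mem_centralizer_iff.mp (hVC hv) x hx
    have h2 : k * v = v * k := by
      have hc : ⁅v, k⁆ ∈ W := hW ▸ Subgroup.commutator_mem_commutator hv hk
      rw [hWbot, Subgroup.mem_bot, commutatorElement_eq_one_iff_mul_comm] at hc
      exact hc.symm
    calc x * k * v = x * (k * v) := by group
      _ = x * (v * k) := by rw [h2]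
      _ = (x * v) * k := by group
      _ = v * x * k := by rw [h1]
      _ = v * (x * k) := by group
  apply Subgroup.isNilpotent_of_ker_le_center (QuotientGroup.mk' V)
  rw [QuotientGroup.ker_mk']
  exact hVcen

end main

/-- **Kegel**: a finite group with a splitting automorphism `φ`, `φ ^ p = 1`, `p` prime, is
nilpotent. -/
theorem kegel {p : ℕ} (hp : p.Prime) :
    ∀ (n : ℕ) (G : Type u) [Group G] [Finite G], Nat.card G = n → ∀ φ : G ≃* G, φ ^ p = 1 →
      Split p φ → Group.IsNilpotent G := by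
  intro n
  induction n using Nat.strong_induction_on with
  | _ n ih =>
    intro G _ _ hn φ hφp hs
    have IH : SplitIH.{u} p (Nat.card G) := fun G' _ _ hlt φ' h1 h2 =>
      ih (Nat.card G') (hn ▸ hlt) G' rfl φ' h1 h2
    haveI : Fact p.Prime := ⟨hp⟩
    by_cases hp2 : p = 2
    · subst hp2
      apply Subgroup.isNilpotent_of_ker_le_center (1 : G →* Unit)
      intro x _
      rw [Subgroup.mem_center_iff]
      intro g
      exact hs.commute_of_two g x
    by_cases hcop : (Nat.card G).Coprime p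
    · exact fpf_prime_nilpotent hp _ G rfl φ (hs.fpf_of_coprime hcop) hφp
    obtain ⟨P, hP⟩ := exists_invariant_sylow_of_pow (p := p) hφp
    by_cases hPtop : (P : Subgroup G) = ⊤
    · exact isNilpotent_of_sylow_eq_top P hPtop
    have hPne : (P : Subgroup G) ≠ ⊥ := by
      intro h
      apply hcop
      have h1 := P.card_eq_multiplicity
      rw [h, Subgroup.card_bot] at h1
      have h2 : (Nat.card G).factorization p = 0 := by
        by_contra hne
        have : 1 < p ^ (Nat.card G).factorization p := Nat.one_lt_pow hne hp.one_lt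
        omega
      rcases (Nat.factorization_eq_zero_iff _ _).mp h2 with h3 | h3 | h3
      · exact absurd hp h3
      · exact ((Nat.Prime.coprime_iff_not_dvd hp).mpr h3).symm
      · exact absurd h3 Nat.card_pos.ne'
    have hJ : InvSub φ (JJ p (P : Subgroup G)) := by
      unfold InvSub
      rw [← JJ_map (injOnSub_of_injective φ.injective _), hP]
    have hZ : InvSub φ ((P : Subgroup G) ⊓ Subgroup.centralizer ((P : Subgroup G) : Set G)) :=
      hP.inf hP.centralizer
    by_cases hNJ : Subgroup.normalizer (JJ p (P : Subgroup G) : Set G) = ⊤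
    · haveI : (JJ p (P : Subgroup G)).Normal := Subgroup.normalizer_eq_top_iff.mp hNJ
      exact caseI IH hφp hs P hP (JJ p (P : Subgroup G)) hJ (JJ_le p _) (JJ_ne_bot P.2 hPne)
    by_cases hCZ : Subgroup.centralizer
        (((P : Subgroup G) ⊓ Subgroup.centralizer ((P : Subgroup G) : Set G) : Subgroup G) : Set G)
        = ⊤
    · haveI : ((P : Subgroup G) ⊓ Subgroup.centralizer ((P : Subgroup G) : Set G)).Normal := by
        rw [← Subgroup.normalizer_eq_top_iff, eq_top_iff, ← hCZ]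
        exact Subgroup.centralizer_le_normalizer _
      exact caseI IH hφp hs P hP _ hZ inf_le_left (ZZ_ne_bot P.2 hPne)
    exact caseII hp2 IH hφp hs P hP hPne hNJ hCZ

/-- Call an automorphism α of order n of a group G splitting when x · α(x) · α²(x) ⋯ α^(n−1)(x) = 1 for every x ∈ G. A finite group admitting a splitting automorphism of prime order is nilpotent (this contains the case of a fixed-point-free automorphism of prime order). -/
theorem result {G : Type*} [Group G] [Finite G] (α : MulAut G) (hp : (orderOf α).Prime)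
    (hsplit : ∀ x : G, (((List.range (orderOf α)).map (fun i : ℕ => (α ^ i) x)).prod = 1)) : Group.IsNilpotent G := by
  have hφp : α ^ orderOf α = 1 := pow_orderOf_eq_one α
  exact kegel hp (Nat.card G) G rfl α hφp hsplit

end Cfsg.Agent.S3946
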