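import Mathlib

namespace Cfsg.Agent.S3949

theorem result {G : Type*} [Group G] [Finite G] (α : MulAut G) (hα : orderOf α = 2) (hG : Subgroup.closure (Set.range (fun c : G => c * (α c)⁻¹)) = ⊤)
    (j : ℕ) (hj : ∀ g : G, α g = g⁻¹ → ¬ 2 ^ j ∣ orderOf g) :
    Set.range ((fun c : G => c * (α c)⁻¹)^[j]) = {g : G | Odd (orderOf g) ∧ α g = g⁻¹} := by
  have hαα : ∀ g : G, α (α g) = g := by
    intro g
    have h1 : α ^ 2 = 1 := by rw [← hα]; exact pow_orderOf_eq_one α
    have h2 : (α ^ 2) g = g := by rw [h1]; rfl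
    rw [pow_two] at h2
    exact h2
  set f : G → G := fun c => c * (α c)⁻¹ with hf
  have hfinv : ∀ c : G, α (f c) = (f c)⁻¹ := by
    intro c
    simp only [hf, map_mul, map_inv, hαα, mul_inv_rev, inv_inv]
  have hfsq : ∀ g : G, α g = g⁻¹ → f g = g ^ 2 := by
    intro g hg
    simp only [hf, hg, inv_inv, pow_two]
  have hpowinv : ∀ (g : G) (n : ℕ), α g = g⁻¹ → α (g ^ n) = (g ^ n)⁻¹ := by
    intro g n hg
    rw [map_pow, hg, inv_pow]
  have hiter : ∀ (i : ℕ) (g : G), α g = g⁻¹ → f^[i] g = g ^ (2 ^ i) := by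
    intro i
    induction i with
    | zero => intro g _; simp
    | succ i ih =>
      intro g hg
      rw [Function.iterate_succ_apply, hfsq g hg, ih (g ^ 2) (hpowinv g 2 hg), ← pow_mul, pow_succ']
  have hj1 : j ≠ 0 := by
    intro h0
    apply hj 1 (by simp)
    rw [h0]; simp
  obtain ⟨i, rfl⟩ := Nat.exists_eq_succ_of_ne_zero hj1
  ext g
  simp only [Set.mem_range, Set.mem_ofPred_eq]
  constructor
  · rintro ⟨c, rfl⟩
    rw [Function.iterate_succ_apply, hiter i (f c) (hfinv c)]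
    refine ⟨?_, hpowinv _ _ (hfinv c)⟩
    set h := f c with hh
    have hnd := hj h (hfinv c)
    obtain ⟨k, m, hm, hkm⟩ := Nat.exists_eq_two_pow_mul_odd (orderOf_pos h).ne'
    have hki : k ≤ i := by
      by_contra hlt
      push Not at hlt
      apply hnd
      rw [hkm]
      exact Dvd.dvd.mul_right (pow_dvd_pow 2 hlt) m
    have h1 : (h ^ (2 ^ i)) ^ m = 1 := by
      rw [← pow_mul]
      have : 2 ^ i * m = orderOf h * 2 ^ (i - k) := by
        rw [hkm]
        have : 2 ^ i = 2 ^ k * 2 ^ (i - k) := by rw [← pow_add]; congr 1; omega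
        rw [this]; ring
      rw [this, pow_mul, pow_orderOf_eq_one, one_pow]
    exact Odd.of_dvd_nat hm (orderOf_dvd_of_pow_eq_one h1)
  · rintro ⟨hodd, hginv⟩
    have hcop : (2 ^ (i + 1)).Coprime (orderOf g) :=
      Nat.Coprime.pow_left _ (Nat.coprime_two_left.mpr hodd)
    obtain ⟨m, hm⟩ := exists_pow_eq_self_of_coprime hcop
    refine ⟨g ^ m, ?_⟩
    rw [hiter (i + 1) (g ^ m) (hpowinv g m hginv), ← pow_mul, mul_comm, pow_mul]
    exact hm

end Cfsg.Agent.S3949
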