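import Cfsg.Statements.S3950
import Cfsg.Agent.Lib.H20.Schur
-- import your own Cfsg.Agent.* helpers here

set_option autoImplicit false
open Cfsg

namespace Cfsg.Agent.S3950

universe u
open scoped commutatorElement

theorem exists_addHom_ne {V : Type u} [AddCommGroup V] (p : ℕ) [Fact p.Prime] [Module (ZMod p) V]
    (v : V) (hv : v ≠ 0) : ∃ f : V →+ ZMod p, f v ≠ 0 := by
  obtain ⟨f, hf⟩ := Module.Projective.exists_dual_ne_zero (ZMod p) hv
  exact ⟨f.toAddMonoidHom, hf⟩

/-- Characters to `ZMod p` separate elements that are not `p`-th powers. -/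
theorem exists_char_ne {G : Type u} [CommGroup G] [Finite G] (p : ℕ) [hp : Fact p.Prime] (x : G)
    (hx : ∀ z : G, z ^ p ≠ x) : ∃ c : G →* Multiplicative (ZMod p), c x ≠ 1 := by
  classical
  obtain ⟨N, hN⟩ : ∃ N : Subgroup G, N = (powMonoidHom p : G →* G).range := ⟨_, rfl⟩
  have hV : ∀ v : Additive (G ⧸ N), p • v = 0 := by
    intro v
    obtain ⟨g, rfl⟩ := QuotientGroup.mk_surjective (Additive.toMul v)
    change Additive.ofMul (((g : G ⧸ N)) ^ p) = 0
    rw [← QuotientGroup.mk_pow]
    have : g ^ p ∈ N := by rw [hN]; exact ⟨g, rfl⟩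
    rw [(QuotientGroup.eq_one_iff _).mpr this]
    rfl
  have hxN : x ∉ N := by
    rw [hN]
    rintro ⟨z, hz⟩
    exact hx z hz
  have hne : (Additive.ofMul ((x : G ⧸ N))) ≠ 0 := by
    intro h0
    apply hxN
    rw [← QuotientGroup.eq_one_iff]
    exact h0
  obtain ⟨f, hf⟩ := @exists_addHom_ne (Additive (G ⧸ N)) _ p _ (AddCommGroup.zmodModule hV) _ hne
  refine ⟨{ toFun := fun g => Multiplicative.ofAdd (f (Additive.ofMul ((g : G ⧸ N))))
            map_one' := ?_
            map_mul' := ?_ }, ?_⟩
  · change Multiplicative.ofAdd (f 0) = 1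
    rw [map_zero]; rfl
  · intro a b
    change Multiplicative.ofAdd (f (Additive.ofMul ((a : G ⧸ N)) + Additive.ofMul ((b : G ⧸ N)))) = _
    rw [map_add]; rfl
  · intro h1
    apply hf
    exact h1

/-- The twisted product `G × ZMod p` with cocycle `c1 ⊗ c2`. -/
@[ext] structure Ext {G : Type u} [CommGroup G] (p : ℕ) (c1 c2 : G →* Multiplicative (ZMod p)) : Type u where
  fst : G
  snd : ZMod p

variable {G : Type u} [CommGroup G] {p : ℕ} {c1 c2 : G →* Multiplicative (ZMod p)}

instance extMul : Mul (Ext p c1 c2) :=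
  ⟨fun a b => ⟨a.fst * b.fst, a.snd + b.snd + (c1 a.fst).toAdd * (c2 b.fst).toAdd⟩⟩
instance extOne : One (Ext p c1 c2) := ⟨⟨1, 0⟩⟩
instance extInv : Inv (Ext p c1 c2) :=
  ⟨fun a => ⟨a.fst⁻¹, -a.snd + (c1 a.fst).toAdd * (c2 a.fst).toAdd⟩⟩

theorem ext_mul_fst (a b : Ext p c1 c2) : (a * b).fst = a.fst * b.fst := rfl
theorem ext_mul_snd (a b : Ext p c1 c2) :
    (a * b).snd = a.snd + b.snd + (c1 a.fst).toAdd * (c2 b.fst).toAdd := rfl
theorem ext_one_fst : (1 : Ext p c1 c2).fst = 1 := rfl
theorem ext_one_snd : (1 : Ext p c1 c2).snd = 0 := rfl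
theorem ext_inv_fst (a : Ext p c1 c2) : (a⁻¹).fst = a.fst⁻¹ := rfl
theorem ext_inv_snd (a : Ext p c1 c2) :
    (a⁻¹).snd = -a.snd + (c1 a.fst).toAdd * (c2 a.fst).toAdd := rfl

instance extGroup : Group (Ext p c1 c2) :=
  Group.ofLeftAxioms
    (by
      intro a b c
      ext
      · simp only [ext_mul_fst, mul_assoc]
      · simp only [ext_mul_snd, ext_mul_fst, map_mul, toAdd_mul]
        ring)
    (by
      intro a
      ext
      · simp only [ext_mul_fst, ext_one_fst, one_mul]
      · simp only [ext_mul_snd, ext_one_fst, ext_one_snd, map_one, toAdd_one]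
        ring)
    (by
      intro a
      ext
      · simp only [ext_mul_fst, ext_inv_fst, ext_one_fst, inv_mul_cancel]
      · simp only [ext_mul_snd, ext_inv_fst, ext_inv_snd, ext_one_snd, map_inv, toAdd_inv]
        ring)


instance extFinite [Finite G] [NeZero p] : Finite (Ext p c1 c2) := by
  have hinj : Function.Injective (fun a : Ext p c1 c2 => (a.fst, a.snd)) := by
    intro a b hab
    simp only [Prod.mk.injEq] at hab
    exact Ext.ext hab.1 hab.2
  exact Finite.of_injective _ hinj

/-- The projection onto `G`. -/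
def extProj (p : ℕ) (c1 c2 : G →* Multiplicative (ZMod p)) : Ext p c1 c2 →* G where
  toFun a := a.fst
  map_one' := rfl
  map_mul' _ _ := rfl

theorem extProj_apply (a : Ext p c1 c2) : extProj p c1 c2 a = a.fst := rfl

theorem mem_ker_extProj (a : Ext p c1 c2) : a ∈ (extProj p c1 c2).ker ↔ a.fst = 1 := by
  rw [MonoidHom.mem_ker, extProj_apply]

/-- The central embedding of `ZMod p`. -/
def extIncl (p : ℕ) (c1 c2 : G →* Multiplicative (ZMod p)) : Multiplicative (ZMod p) →* Ext p c1 c2 where
  toFun s := ⟨1, s.toAdd⟩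
  map_one' := rfl
  map_mul' s t := by
    ext
    · simp only [ext_mul_fst, mul_one]
    · simp only [ext_mul_snd, map_one, toAdd_one, toAdd_mul]
      ring

theorem extIncl_fst (s : Multiplicative (ZMod p)) : (extIncl p c1 c2 s).fst = 1 := rfl
theorem extIncl_snd (s : Multiplicative (ZMod p)) : (extIncl p c1 c2 s).snd = s.toAdd := rfl

theorem ext_isStem [hp : Fact p.Prime] (g h : G)
    (hD : (c1 g).toAdd * (c2 h).toAdd - (c1 h).toAdd * (c2 g).toAdd ≠ 0) :
    Cfsg.IsStemExtension (extProj p c1 c2) := by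
  refine ⟨fun x => ⟨⟨x, 0⟩, rfl⟩, ?_, ?_⟩
  · intro a ha
    rw [mem_ker_extProj] at ha
    rw [Subgroup.mem_center_iff]
    intro b
    ext
    · simp only [ext_mul_fst, mul_comm]
    · simp only [ext_mul_snd, ha, map_one, toAdd_one]
      ring
  · -- kernel inside commutator
    let A : Ext p c1 c2 := ⟨g, 0⟩
    let B : Ext p c1 c2 := ⟨h, 0⟩
    set D : ZMod p := (c1 g).toAdd * (c2 h).toAdd - (c1 h).toAdd * (c2 g).toAdd with hDdef
    have h1 : extIncl p c1 c2 (Multiplicative.ofAdd D) * (B * A) = A * B := by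
      ext
      · simp only [ext_mul_fst, extIncl_fst, one_mul]
        exact mul_comm _ _
      · simp only [ext_mul_snd, ext_mul_fst, extIncl_fst, extIncl_snd, map_one, toAdd_one, toAdd_ofAdd, A, B, hDdef]
        ring
    have h2 : extIncl p c1 c2 (Multiplicative.ofAdd D) = ⁅A, B⁆ := by
      rw [commutatorElement_def, eq_mul_inv_iff_mul_eq.mpr h1]
      group
    have h3 : extIncl p c1 c2 (Multiplicative.ofAdd D) ∈ commutator (Ext p c1 c2) := by
      rw [h2]
      exact Subgroup.commutator_mem_commutator (Subgroup.mem_top A) (Subgroup.mem_top B)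
    have hcard : Nat.card (Multiplicative (ZMod p)) = p := by
      rw [Nat.card_eq_fintype_card, Fintype.card_multiplicative, ZMod.card]
    have h4 : (commutator (Ext p c1 c2)).comap (extIncl p c1 c2) = ⊤ := by
      have hpc : Fact (Nat.card (Multiplicative (ZMod p))).Prime := by rw [hcard]; exact hp
      rcases Subgroup.eq_bot_or_eq_top_of_prime_card ((commutator (Ext p c1 c2)).comap (extIncl p c1 c2))
        with hb | ht
      · exfalso
        have : Multiplicative.ofAdd D ∈ (commutator (Ext p c1 c2)).comap (extIncl p c1 c2) := h3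
        rw [hb, Subgroup.mem_bot] at this
        exact hD this
      · exact ht
    intro a ha
    rw [mem_ker_extProj] at ha
    have h5 : a = extIncl p c1 c2 (Multiplicative.ofAdd a.snd) := by
      ext
      · rw [ha, extIncl_fst]
      · rw [extIncl_snd, toAdd_ofAdd]
    rw [h5]
    have : Multiplicative.ofAdd a.snd ∈ (commutator (Ext p c1 c2)).comap (extIncl p c1 c2) := by
      rw [h4]; exact Subgroup.mem_top _
    exact this

theorem ext_ker_ne_bot [hp : Fact p.Prime] : (extProj p c1 c2).ker ≠ ⊥ := by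
  intro hb
  have h1 : (⟨1, 1⟩ : Ext p c1 c2) ∈ (extProj p c1 c2).ker := by
    rw [mem_ker_extProj]
  rw [hb, Subgroup.mem_bot] at h1
  have h2 := congrArg Ext.snd h1
  rw [ext_one_snd] at h2
  exact one_ne_zero h2


/-- A finite abelian group has trivial Schur multiplier if and only if it is cyclic. -/
theorem result {G : Type*} [CommGroup G] [Finite G] : Cfsg.HasCyclicSchurMultiplier G 1 ↔ IsCyclic G := by
  classical
  constructor
  · intro hS
    by_contra hnc
    -- element of order = exponent
    obtain ⟨x, hx⟩ := Monoid.exists_orderOf_eq_exponent (G := G) Monoid.ExponentExists.of_finite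
    have hxtop : Subgroup.zpowers x ≠ ⊤ := by
      intro ht
      exact hnc ⟨⟨x, fun y => by have : y ∈ (⊤ : Subgroup G) := Subgroup.mem_top y; rwa [← ht] at this⟩⟩
    have hQ1 : Nat.card (G ⧸ Subgroup.zpowers x) ≠ 1 := by
      intro h1
      apply hxtop
      rw [← Subgroup.index_eq_one]
      exact h1
    obtain ⟨p, hp, hpQ⟩ := Nat.exists_prime_and_dvd hQ1
    have hpf : Fact p.Prime := ⟨hp⟩
    -- element of order p in Q
    obtain ⟨y, hy⟩ := exists_prime_orderOf_dvd_card' p hpQ
    have hninj : ¬ Function.Injective (fun z : G ⧸ Subgroup.zpowers x => z ^ p) := by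
      intro hinj
      have h1 : y ^ p = (1 : G ⧸ Subgroup.zpowers x) ^ p := by
        rw [one_pow, ← hy, pow_orderOf_eq_one]
      have h2 : y = 1 := hinj h1
      rw [h2, orderOf_one] at hy
      exact hp.one_lt.ne hy
    have hnsurj : ¬ Function.Surjective (fun z : G ⧸ Subgroup.zpowers x => z ^ p) := by
      intro hs
      exact hninj (Finite.injective_iff_surjective.mpr hs)
    obtain ⟨w, hw⟩ : ∃ w : G ⧸ Subgroup.zpowers x, ∀ z, z ^ p ≠ w := by
      by_contra hcon
      push Not at hcon
      exact hnsurj hcon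
    obtain ⟨c2', hc2'⟩ := exists_char_ne p w hw
    obtain ⟨h, rfl⟩ := QuotientGroup.mk_surjective w
    -- p divides exponent
    have hpG : p ∣ Nat.card G := dvd_trans hpQ (Subgroup.card_quotient_dvd_card _)
    obtain ⟨u, hu⟩ := exists_prime_orderOf_dvd_card' p hpG
    have hpe : p ∣ Monoid.exponent G := by
      rw [← hu]; exact Monoid.order_dvd_exponent u
    have hxp : ∀ z : G, z ^ p ≠ x := by
      intro z hz
      obtain ⟨k, hk⟩ := hpe
      have hkpos : 0 < k := by
        rcases Nat.eq_zero_or_pos k with h0 | h0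
        · exfalso
          rw [h0, mul_zero] at hk
          exact Monoid.exponent_ne_zero_of_finite hk
        · exact h0
      have h1 : x ^ k = 1 := by
        rw [← hz, ← pow_mul, ← hk, Monoid.pow_exponent_eq_one]
      have h2 : k < orderOf x := by
        rw [hx, hk]
        calc k = 1 * k := (one_mul k).symm
          _ < p * k := Nat.mul_lt_mul_of_pos_right hp.one_lt hkpos
      exact pow_ne_one_of_lt_orderOf hkpos.ne' h2 h1
    obtain ⟨c1, hc1⟩ := exists_char_ne p x hxp
    let c2 : G →* Multiplicative (ZMod p) := c2'.comp (QuotientGroup.mk' (Subgroup.zpowers x))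
    have hc2x : c2 x = 1 := by
      change c2' ((x : G ⧸ Subgroup.zpowers x)) = 1
      rw [(QuotientGroup.eq_one_iff x).mpr (Subgroup.mem_zpowers x), map_one]
    have hc2h : c2 h ≠ 1 := hc2'
    have hD : (c1 x).toAdd * (c2 h).toAdd - (c1 h).toAdd * (c2 x).toAdd ≠ 0 := by
      rw [hc2x, toAdd_one, mul_zero, sub_zero]
      apply mul_ne_zero
      · intro h0; exact hc1 h0
      · intro h0; exact hc2h h0
    have hstem := ext_isStem (c1 := c1) (c2 := c2) x h hD
    have hk := Cfsg.Agent.Lib.H20.ker_eq_bot_of_hasCyclicSchurMultiplier_one hS (Ext p c1 c2)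
      (extProj p c1 c2) hstem
    exact ext_ker_ne_bot hk
  · intro hc
    apply Cfsg.Agent.Lib.H20.hasCyclicSchurMultiplier_one_of_ker
    intro Γ _ _ σ hσ
    obtain ⟨hsurj, hcen, hcomm⟩ := hσ
    have hmc : IsMulCommutative Γ := MonoidHom.isMulCommutative_of_isCyclic_of_ker_le_center σ hcen
    have hab : ∀ a b : Γ, a * b = b * a := fun a b => hmc.is_comm.comm a b
    have hc1 : commutator Γ = ⊥ := by
      rw [commutator_def, Subgroup.commutator_eq_bot_iff_le_centralizer]
      intro a _
      rw [Subgroup.mem_centralizer_iff]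
      intro b _
      exact hab b a
    rw [eq_bot_iff, ← hc1]
    exact hcomm


end Cfsg.Agent.S3950
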