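import Mathlib
import Cfsg.Prelude.Def_KGroupFacts
import Cfsg.Agent.Lib.H20.StemDihedral
import Cfsg.Agent.Lib.H20.ZModHom

set_option autoImplicit false
open Cfsg

namespace Cfsg.Agent.S3951

open Cfsg.Agent.Lib.H20
open scoped commutatorElement

/-- Heisenberg-type group on `ZMod m × ZMod n × ZMod n`. -/
@[ext] structure Heis (m n : ℕ) where
  a : ZMod m
  b : ZMod n
  c : ZMod n

namespace Heis

variable {m n : ℕ} [NeZero m] [NeZero n] [hnm : Fact (n ∣ m)]

/-- the reduction map -/
def φ (m n : ℕ) [hnm : Fact (n ∣ m)] : ZMod m →+* ZMod n := ZMod.castHom hnm.out (ZMod n)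

instance : Mul (Heis m n) := ⟨fun x y => ⟨x.a + y.a, x.b + y.b, x.c + y.c + φ m n x.a * y.b⟩⟩
instance : One (Heis m n) := ⟨⟨0, 0, 0⟩⟩
instance : Inv (Heis m n) := ⟨fun x => ⟨-x.a, -x.b, -x.c + φ m n x.a * x.b⟩⟩

@[simp] theorem mul_a (x y : Heis m n) : (x * y).a = x.a + y.a := rfl
@[simp] theorem mul_b (x y : Heis m n) : (x * y).b = x.b + y.b := rfl
@[simp] theorem mul_c (x y : Heis m n) : (x * y).c = x.c + y.c + φ m n x.a * y.b := rfl
@[simp] theorem one_a : (1 : Heis m n).a = 0 := rfl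
@[simp] theorem one_b : (1 : Heis m n).b = 0 := rfl
@[simp] theorem one_c : (1 : Heis m n).c = 0 := rfl
@[simp] theorem inv_a (x : Heis m n) : (x⁻¹).a = -x.a := rfl
@[simp] theorem inv_b (x : Heis m n) : (x⁻¹).b = -x.b := rfl
@[simp] theorem inv_c (x : Heis m n) : (x⁻¹).c = -x.c + φ m n x.a * x.b := rfl

instance : Group (Heis m n) where
  mul_assoc x y z := by
    ext
    · simp [add_assoc]
    · simp [add_assoc]
    · simp only [mul_c, mul_a, mul_b, map_add]; ring
  one_mul x := by
    ext <;> simp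
  mul_one x := by
    ext <;> simp
  inv_mul_cancel x := by
    ext
    · simp
    · simp
    · simp only [mul_c, inv_c, inv_a, map_neg, one_c]; ring

instance : Finite (Heis m n) := by
  have : Function.Injective (fun x : Heis m n => (x.a, x.b, x.c)) := by
    intro x y h
    simp only [Prod.mk.injEq] at h
    exact Heis.ext h.1 h.2.1 h.2.2
  exact Finite.of_injective _ this

/-- the projection -/
def σ (m n : ℕ) [NeZero m] [NeZero n] [Fact (n ∣ m)] :
    Heis m n →* Multiplicative (ZMod m × ZMod n) where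
  toFun x := Multiplicative.ofAdd (x.a, x.b)
  map_one' := rfl
  map_mul' _ _ := rfl

theorem mem_ker (x : Heis m n) : x ∈ (σ m n).ker ↔ x.a = 0 ∧ x.b = 0 := by
  rw [MonoidHom.mem_ker]
  change Multiplicative.ofAdd (x.a, x.b) = Multiplicative.ofAdd (0, 0) ↔ _
  rw [Multiplicative.ofAdd.injective.eq_iff, Prod.mk.injEq]

theorem pow_central (k : ℕ) : (⟨0, 0, 1⟩ : Heis m n) ^ k = ⟨0, 0, (k : ZMod n)⟩ := by
  induction k with
  | zero => ext <;> simp
  | succ k ih =>
    rw [pow_succ, ih]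
    ext <;> simp

theorem isStem : Cfsg.IsStemExtension (σ m n) := by
  refine ⟨?_, ?_, ?_⟩
  · intro q
    refine ⟨⟨(Multiplicative.toAdd q).1, (Multiplicative.toAdd q).2, 0⟩, ?_⟩
    rfl
  · intro x hx
    rw [mem_ker] at hx
    rw [Subgroup.mem_center_iff]
    intro y
    ext
    · simp [hx.1]
    · simp [hx.2]
    · simp only [mul_c, hx.1, hx.2, map_zero]; ring
  · intro x hx
    rw [mem_ker] at hx
    have hcomm : (⟨0, 0, 1⟩ : Heis m n) ∈ commutator (Heis m n) := by
      have h1 : ⁅(⟨1, 0, 0⟩ : Heis m n), (⟨0, 1, 0⟩ : Heis m n)⁆ ∈ commutator (Heis m n) := by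
        rw [commutator_def]
        exact Subgroup.commutator_mem_commutator (Subgroup.mem_top _) (Subgroup.mem_top _)
      have h2 : ⁅(⟨1, 0, 0⟩ : Heis m n), (⟨0, 1, 0⟩ : Heis m n)⁆ = ⟨0, 0, 1⟩ := by
        rw [commutatorElement_def]
        ext
        · simp
        · simp
        · simp only [mul_c, mul_a, mul_b, inv_c, inv_a, inv_b, map_add, map_neg, map_one, map_zero]
          ring
      rwa [h2] at h1
    have hx' : x = (⟨0, 0, 1⟩ : Heis m n) ^ (x.c.val) := by
      rw [pow_central, ZMod.natCast_zmod_val]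
      ext
      · exact hx.1
      · exact hx.2
      · rfl
    rw [hx']
    exact Subgroup.pow_mem _ hcomm _

/-- the kernel is cyclic of order `n` -/
def kerEquiv : (σ m n).ker ≃* Multiplicative (ZMod n) where
  toFun z := Multiplicative.ofAdd z.1.c
  invFun t := ⟨⟨0, 0, Multiplicative.toAdd t⟩, (mem_ker _).mpr ⟨rfl, rfl⟩⟩
  left_inv z := by
    have hz := (mem_ker z.1).mp z.2
    apply Subtype.ext
    ext
    · exact hz.1.symm
    · exact hz.2.symm
    · rfl
  right_inv t := rfl
  map_mul' z w := by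
    have hw := (mem_ker w.1).mp w.2
    change Multiplicative.ofAdd (z.1 * w.1).c = Multiplicative.ofAdd z.1.c * Multiplicative.ofAdd w.1.c
    rw [mul_c, hw.2, mul_zero, add_zero]
    rfl

end Heis


theorem map_pow_x {m n : ℕ} {Γ : Type*} [Group Γ] (σ : Γ →* Multiplicative (ZMod m × ZMod n))
    (x : Γ) (hx : σ x = Multiplicative.ofAdd (1, 0)) (k : ℕ) :
    σ (x ^ k) = Multiplicative.ofAdd ((k : ZMod m), 0) := by
  rw [map_pow, hx, ← ofAdd_nsmul]
  congr 1
  rw [Prod.smul_mk, nsmul_one, smul_zero]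

theorem map_pow_y {m n : ℕ} {Γ : Type*} [Group Γ] (σ : Γ →* Multiplicative (ZMod m × ZMod n))
    (y : Γ) (hy : σ y = Multiplicative.ofAdd (0, 1)) (k : ℕ) :
    σ (y ^ k) = Multiplicative.ofAdd (0, (k : ZMod n)) := by
  rw [map_pow, hy, ← ofAdd_nsmul]
  congr 1
  rw [Prod.smul_mk, nsmul_one, smul_zero]

theorem upper {m n : ℕ} [NeZero m] [NeZero n] (Γ : Type) [Group Γ] [Finite Γ]
    (σ : Γ →* Multiplicative (ZMod m × ZMod n)) (hσ : Cfsg.IsStemExtension σ) :
    ∃ π : Multiplicative (ZMod n) →* σ.ker, Function.Surjective π := by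
  obtain ⟨hsurj, hcen, hcomm⟩ := hσ
  obtain ⟨x, hx⟩ := hsurj (Multiplicative.ofAdd (1, 0))
  obtain ⟨y, hy⟩ := hsurj (Multiplicative.ofAdd (0, 1))
  set c := x * y * x⁻¹ * y⁻¹ with hc
  have hcker : c ∈ σ.ker := by
    rw [MonoidHom.mem_ker, hc]
    simp only [map_mul, map_inv]
    rw [mul_comm (σ x) (σ y)]
    simp
  have hccen : c ∈ Subgroup.center Γ := hcen hcker
  have hccomm : ∀ g : Γ, g * c = c * g := fun g => Subgroup.mem_center_iff.mp hccen g
  -- generation
  have hS : Subgroup.closure (({x, y} : Set Γ) ∪ (σ.ker : Set Γ)) = ⊤ := by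
    rw [eq_top_iff]
    intro g _
    set q := Multiplicative.toAdd (σ g) with hq
    have h1 : σ (x ^ q.1.val * y ^ q.2.val) = σ g := by
      rw [map_mul, map_pow_x σ x hx, map_pow_y σ y hy, ZMod.natCast_zmod_val, ZMod.natCast_zmod_val,
        ← ofAdd_add]
      simp [hq]
    have h2 : (x ^ q.1.val * y ^ q.2.val)⁻¹ * g ∈ σ.ker := by
      rw [MonoidHom.mem_ker, map_mul, map_inv, h1, inv_mul_cancel]
    have h3 : g = (x ^ q.1.val * y ^ q.2.val) * ((x ^ q.1.val * y ^ q.2.val)⁻¹ * g) := by group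
    have hxS : x ∈ Subgroup.closure (({x, y} : Set Γ) ∪ (σ.ker : Set Γ)) :=
      Subgroup.subset_closure (Or.inl (Or.inl rfl))
    have hyS : y ∈ Subgroup.closure (({x, y} : Set Γ) ∪ (σ.ker : Set Γ)) :=
      Subgroup.subset_closure (Or.inl (Or.inr rfl))
    have hkS : (x ^ q.1.val * y ^ q.2.val)⁻¹ * g ∈
        Subgroup.closure (({x, y} : Set Γ) ∪ (σ.ker : Set Γ)) :=
      Subgroup.subset_closure (Or.inr h2)
    rw [h3]
    exact Subgroup.mul_mem _ (Subgroup.mul_mem _ (Subgroup.pow_mem _ hxS _)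
      (Subgroup.pow_mem _ hyS _)) hkS
  haveI hNn : (Subgroup.zpowers c).Normal := by
    constructor
    intro z hz g
    obtain ⟨k, rfl⟩ := Subgroup.mem_zpowers_iff.mp hz
    have : g * c ^ k * g⁻¹ = c ^ k := by
      have hk : c ^ k ∈ Subgroup.center Γ := Subgroup.zpow_mem _ hccen k
      rw [Subgroup.mem_center_iff.mp hk g]; group
    rw [this]
    exact Subgroup.zpow_mem _ (Subgroup.mem_zpowers c) k
  have hker_central : ∀ s ∈ σ.ker, ∀ t : Γ, s * t * s⁻¹ * t⁻¹ = 1 := by
    intro s hs t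
    have := Subgroup.mem_center_iff.mp (hcen hs) t
    rw [← this]; group
  have hker_central' : ∀ s ∈ σ.ker, ∀ t : Γ, t * s * t⁻¹ * s⁻¹ = 1 := by
    intro s hs t
    have := Subgroup.mem_center_iff.mp (hcen hs) t
    rw [this]; group
  have hle : commutator Γ ≤ Subgroup.zpowers c := by
    apply commutator_le_of_gens (Subgroup.zpowers c) _ hS
    intro s hs t ht
    rcases hs with hs | hs
    · rcases ht with ht | ht
      · rw [Set.mem_insert_iff, Set.mem_singleton_iff] at hs ht
        rcases hs with hs | hs <;> rcases ht with ht | ht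
        · rw [hs, ht]
          have : x * x * x⁻¹ * x⁻¹ = 1 := by group
          rw [this]; exact Subgroup.one_mem _
        · rw [hs, ht]
          exact Subgroup.mem_zpowers c
        · rw [hs, ht]
          have : y * x * y⁻¹ * x⁻¹ = c⁻¹ := by rw [hc]; group
          rw [this]; exact Subgroup.inv_mem _ (Subgroup.mem_zpowers c)
        · rw [hs, ht]
          have : y * y * y⁻¹ * y⁻¹ = 1 := by group
          rw [this]; exact Subgroup.one_mem _
      · rw [hker_central' t ht s]; exact Subgroup.one_mem _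
    · rw [hker_central s hs t]; exact Subgroup.one_mem _
  -- c ^ n = 1
  have hcn : c ^ n = 1 := by
    have h1 : x * y * x⁻¹ = c * y := by rw [hc]; group
    have h2 : ∀ k : ℕ, x * y ^ k * x⁻¹ = c ^ k * y ^ k := by
      intro k
      have hcy : Commute c y := (hccomm y).symm
      rw [← hcy.mul_pow, ← h1]
      induction k with
      | zero => simp
      | succ k ih =>
        rw [pow_succ, pow_succ, ← ih]; group
    have h3 : y ^ n ∈ σ.ker := by
      rw [MonoidHom.mem_ker, map_pow_y σ y hy, ZMod.natCast_self]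
      rfl
    have h4 : x * y ^ n * x⁻¹ = y ^ n := by
      have := Subgroup.mem_center_iff.mp (hcen h3) x
      rw [this]; group
    have h5 := h2 n
    rw [h4] at h5
    exact (mul_eq_right.mp h5.symm)
  have ht : (⟨c, hcker⟩ : σ.ker) ^ n = 1 := by
    apply Subtype.ext
    simp only [Subgroup.coe_pow, Subgroup.coe_one]
    exact hcn
  apply exists_surjective_zmod_hom n ⟨c, hcker⟩ ht
  rintro ⟨z, hz⟩
  obtain ⟨k, hk⟩ := Subgroup.mem_zpowers_iff.mp (hle (hcomm hz))
  rw [Subgroup.mem_zpowers_iff]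
  refine ⟨k, ?_⟩
  apply Subtype.ext
  simp only [Subgroup.coe_zpow]
  exact hk

/-- For positive integers `m` and `n` with `n` dividing `m`, the Schur multiplier of the abelian group `ZMod m × ZMod n` (written multiplicatively) is cyclic of order `n`. In particular the elementary abelian group of order `p ^ 2` has multiplier of order `p`. -/
theorem result (m n : ℕ) [NeZero m] [NeZero n] (hnm : n ∣ m) : Cfsg.HasCyclicSchurMultiplier (Multiplicative (ZMod m × ZMod n)) n := by
  haveI : Fact (n ∣ m) := ⟨hnm⟩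
  refine ⟨⟨Heis m n, inferInstance, inferInstance, Heis.σ m n, Heis.isStem, ⟨Heis.kerEquiv⟩⟩, ?_⟩
  intro Γ _ _ σ hσ
  exact upper Γ σ hσ

end Cfsg.Agent.S3951
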