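import Cfsg.Statements.S3958
import Cfsg.Agent.Lib.H18.SchurCover2
import Cfsg.Agent.Lib.H20.Schur

set_option autoImplicit false
universe u v
open Cfsg

namespace Cfsg.Agent.S3958

open Cfsg.Agent.Lib.H18

/-- Let `σ : Γ →* Q` be a finite stem extension of the finite group `Q` with `Γ` of trivial Schur multiplier. Then `σ` is a Schur covering group of `Q`: for every finite stem extension `τ : Δ →* Q` with `Δ` in the same universe as `Q`, the kernel of `τ` is a homomorphic image of the kernel of `σ`. -/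
theorem result {Q : Type u} [Group Q] [Finite Q] {Γ : Type v} [Group Γ] [Finite Γ] (σ : Γ →* Q) (hσ : Cfsg.IsStemExtension σ) (hΓ : Cfsg.HasCyclicSchurMultiplier Γ 1) (Δ : Type u) [Group Δ] [Finite Δ] (τ : Δ →* Q) (hτ : Cfsg.IsStemExtension τ) : ∃ π : σ.ker →* τ.ker, Function.Surjective π := by
  obtain ⟨S, hS, hSn, β, hβ, hcomp⟩ := sc_cover_over Q σ hσ
  haveI := scσ_finite hS
  -- `β` is a stem extension of `Γ`
  have hβker : β.ker ≤ (scσ S hS.le).ker := by
    intro x hx
    rw [MonoidHom.mem_ker, ← hcomp, MonoidHom.comp_apply, MonoidHom.mem_ker.mp hx, map_one]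
  have hstem := scσ_isStem hS
  have hβstem : Cfsg.IsStemExtension β := ⟨hβ, hβker.trans hstem.2.1, hβker.trans hstem.2.2⟩
  -- transport to the universe of `Γ`
  obtain ⟨Y, _, _, ⟨e⟩⟩ := exists_mulEquiv_universe.{u, v} (scE Q ⧸ S)
  have hβ' := isStemExtension_comp_mulEquiv β hβstem e.symm
  have hk := Cfsg.Agent.Lib.H20.ker_eq_bot_of_hasCyclicSchurMultiplier_one hΓ Y _ hβ'
  have hβinj : Function.Injective β := by
    rw [injective_iff_map_eq_one]
    intro x hx
    have h1 : e x ∈ (β.comp e.symm.toMonoidHom).ker := by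
      rw [MonoidHom.mem_ker]
      simp [hx]
    rw [hk, Subgroup.mem_bot] at h1
    simpa using h1
  -- `ker σ → ker (scσ) ≃ T → ker τ`
  obtain ⟨p, hp⟩ := exists_surjective_schurT_ker Q τ hτ
  have hmem : ∀ k : σ.ker, ∃ x : scE Q ⧸ S, β x = (k : Γ) := fun k => hβ k
  choose r hr using hmem
  have hrker : ∀ k : σ.ker, r k ∈ (scσ S hS.le).ker := by
    intro k
    rw [MonoidHom.mem_ker, ← hcomp, MonoidHom.comp_apply, hr]
    exact k.2
  let q : σ.ker →* (scσ S hS.le).ker :=
    { toFun := fun k => ⟨r k, hrker k⟩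
      map_one' := by
        apply Subtype.ext
        apply hβinj
        simp [hr]
      map_mul' := by
        intro a b
        apply Subtype.ext
        apply hβinj
        simp [hr] }
  have hq : Function.Surjective q := by
    rintro ⟨x, hx⟩
    have hxk : β x ∈ σ.ker := by
      rw [MonoidHom.mem_ker]
      have : σ (β x) = scσ S hS.le x := DFunLike.congr_fun hcomp x
      rw [this]
      exact hx
    refine ⟨⟨β x, hxk⟩, ?_⟩
    apply Subtype.ext
    apply hβinj
    simp [q, hr]
  refine ⟨p.comp ((schurTEquiv Q).toMonoidHom.comp ((scσ_kerEquiv hS).symm.toMonoidHom.comp q)), ?_⟩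
  simp only [MonoidHom.coe_comp, MulEquiv.coe_toMonoidHom]
  exact hp.comp ((schurTEquiv Q).surjective.comp ((scσ_kerEquiv hS).symm.surjective.comp hq))

end Cfsg.Agent.S3958
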