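import Cfsg.Statements.S3960
import Cfsg.Agent.Lib.H18.SchurCover2

set_option autoImplicit false
universe u
open Cfsg

namespace Cfsg.Agent.S3960

open Cfsg.Agent.Lib.H18

/-- A finite perfect group `Q` has a universal central extension: a finite perfect group `G` in the universe of `Q` and a surjective homomorphism `π : G →* Q` with central kernel such that for every group `X` in that universe and every surjective homomorphism `ξ : X →* Q` with central kernel there is exactly one homomorphism `η : G →* X` with `ξ ∘ η = π`. -/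
theorem result {Q : Type u} [Group Q] [Finite Q] (hQ : Group.IsPerfect Q) : ∃ (G : Type u) (_ : Group G) (_ : Finite G) (π : G →* Q), Group.IsPerfect G ∧ Function.Surjective π ∧ π.ker ≤ Subgroup.center G ∧ ∀ (X : Type u) [Group X] (ξ : X →* Q), Function.Surjective ξ → ξ.ker ≤ Subgroup.center X → ∃! η : G →* X, ξ.comp η = π := by
  classical
  have hQ' : commutator Q = ⊤ := hQ.commutator_eq_top
  -- `π(E') = Q`
  have hmapc : ∀ q : Q, ∃ c ∈ commutator (scE Q), scπ Q c = q := by
    intro q
    have hq : q ∈ commutator Q := by rw [hQ']; trivial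
    have hmap : (commutator (scE Q)).map (scπ Q) = commutator Q := by
      rw [commutator_def, Subgroup.map_commutator, commutator_def]
      have : (⊤ : Subgroup (scE Q)).map (scπ Q) = ⊤ := by
        rw [← MonoidHom.range_eq_map, MonoidHom.range_eq_top]
        exact scπ_surjective Q
      rw [this]
    rw [← hmap] at hq
    obtain ⟨c, hc, hcq⟩ := hq
    exact ⟨c, hc, hcq⟩
  haveI hfin : Finite (commutator (scE Q)) :=
    finite_commutator_of_central_ker (scπ Q) (scZ_le_center Q)
  have hperf : ⁅commutator (scE Q), commutator (scE Q)⁆ = commutator (scE Q) :=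
    commutator_isPerfect_of_central (scπ Q) (scZ_le_center Q) (fun x => hmapc (scπ Q x))
  have hperf' : Group.IsPerfect (commutator (scE Q)) := Subgroup.isPerfect_iff.mpr hperf
  let π' : commutator (scE Q) →* Q := (scπ Q).comp (commutator (scE Q)).subtype
  refine ⟨commutator (scE Q), inferInstance, hfin, π', hperf', ?_, ?_, ?_⟩
  · intro q
    obtain ⟨c, hc, hcq⟩ := hmapc q
    exact ⟨⟨c, hc⟩, hcq⟩
  · intro c hc
    have hcZ : (c : scE Q) ∈ scZ Q := (mem_scZ Q).mpr hc
    have hcc := Subgroup.mem_center_iff.mp (scZ_le_center Q hcZ)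
    rw [Subgroup.mem_center_iff]
    intro g
    exact Subtype.ext (hcc (g : scE Q))
  · intro X _ ξ hξ hker
    obtain ⟨φ, hφ⟩ := sc_lift Q ξ hξ hker
    refine ⟨φ.comp (commutator (scE Q)).subtype, ?_, ?_⟩
    · change ξ.comp (φ.comp (commutator (scE Q)).subtype) = π'
      rw [← MonoidHom.comp_assoc, hφ]
    · intro η' hη'
      apply hom_ext_of_perfect_of_central hperf'.commutator_eq_top ξ hker
      rw [hη']
      change π' = ξ.comp (φ.comp (commutator (scE Q)).subtype)
      rw [← MonoidHom.comp_assoc, hφ]

end Cfsg.Agent.S3960
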