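import Cfsg.Statements.S3961
import Cfsg.Agent.Lib.H18.SchurCover2
import Cfsg.Agent.Lib.H20.Schur

set_option autoImplicit false
universe u v
open Cfsg

namespace Cfsg.Agent.S3961

open Cfsg.Agent.Lib.H18

/-- Let `π : G →* Q` be a surjective homomorphism with central kernel from a finite perfect group `G` (a perfect cover of `Q`). Then `π` is universal, in the sense that every surjective homomorphism `ξ : X →* Q` with central kernel from a group `X` in the universe of `G` admits a homomorphism `η : G →* X` with `ξ ∘ η = π`, if and only if `G` has trivial Schur multiplier. -/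
theorem result {G : Type u} {Q : Type v} [Group G] [Group Q] [Finite G] (hG : Group.IsPerfect G) (π : G →* Q) (hπ : Function.Surjective π) (hker : π.ker ≤ Subgroup.center G) : (∀ (X : Type u) [Group X] (ξ : X →* Q), Function.Surjective ξ → ξ.ker ≤ Subgroup.center X → ∃ η : G →* X, ξ.comp η = π) ↔ Cfsg.HasCyclicSchurMultiplier G 1 := by
  classical
  have hGc : commutator G = ⊤ := hG.commutator_eq_top
  constructor
  · intro huniv
    apply Cfsg.Agent.Lib.H20.hasCyclicSchurMultiplier_one_of_ker
    intro Δ _ _ τ hτ
    obtain ⟨hτs, hτc, hτd⟩ := hτ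
    -- `Δ` is perfect
    have hmap : (commutator Δ).map τ = commutator G := by
      rw [commutator_def, Subgroup.map_commutator, commutator_def]
      have : (⊤ : Subgroup Δ).map τ = ⊤ := by
        rw [← MonoidHom.range_eq_map, MonoidHom.range_eq_top]
        exact hτs
      rw [this]
    have hΔ : commutator Δ = ⊤ := by
      rw [eq_top_iff]
      intro δ _
      have h1 : τ δ ∈ (commutator Δ).map τ := by rw [hmap, hGc]; trivial
      obtain ⟨c, hc, hcδ⟩ := h1
      have h2 : c⁻¹ * δ ∈ τ.ker := by
        rw [MonoidHom.mem_ker, map_mul, map_inv, hcδ]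
        simp
      have : δ = c * (c⁻¹ * δ) := by group
      rw [this]
      exact (commutator Δ).mul_mem hc (hτd h2)
    -- the composite has central kernel
    have hcentral : (π.comp τ).ker ≤ Subgroup.center Δ := by
      intro y hy
      have hy' : τ y ∈ Subgroup.center G := hker hy
      have hyc := Subgroup.mem_center_iff.mp hy'
      have h1 : MonoidHom.id Δ = (MulAut.conj y).toMonoidHom := by
        apply hom_ext_of_perfect_of_central hΔ τ hτc
        ext δ
        simp only [MonoidHom.coe_comp, Function.comp_apply, MonoidHom.id_apply,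
          MulEquiv.coe_toMonoidHom, MulAut.conj_apply, map_mul, map_inv]
        rw [← hyc (τ δ)]
        group
      rw [Subgroup.mem_center_iff]
      intro δ
      have h2 : δ = y * δ * y⁻¹ := by
        have := DFunLike.congr_fun h1 δ
        simpa [MulAut.conj_apply] using this
      calc δ * y = (y * δ * y⁻¹) * y := by rw [← h2]
        _ = y * δ := by group
    have hsurj : Function.Surjective (π.comp τ) := by
      simp only [MonoidHom.coe_comp]
      exact hπ.comp hτs
    obtain ⟨η, hη⟩ := huniv Δ (π.comp τ) hsurj hcentral
    have h1 : τ.comp η = MonoidHom.id G := by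
      apply hom_ext_of_perfect_of_central hGc π hker
      rw [← MonoidHom.comp_assoc, hη]
      rfl
    have h2 : η.comp τ = MonoidHom.id Δ := by
      apply hom_ext_of_perfect_of_central hΔ τ hτc
      rw [← MonoidHom.comp_assoc, h1]
      rfl
    rw [Subgroup.eq_bot_iff_forall]
    intro x hx
    have := DFunLike.congr_fun h2 x
    simp only [MonoidHom.coe_comp, Function.comp_apply, MonoidHom.id_apply] at this
    rw [← this, MonoidHom.mem_ker.mp hx, map_one]
  · intro hM X _ ξ hξ hξker
    -- the pullback
    let P : Subgroup (G × X) :=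
      (π.comp (MonoidHom.fst G X)).eqLocus (ξ.comp (MonoidHom.snd G X))
    have hP : ∀ p : P, π (p : G × X).1 = ξ (p : G × X).2 := fun p => p.2
    let pr₁ : P →* G := (MonoidHom.fst G X).comp P.subtype
    have hpr₁ : ∀ p : P, pr₁ p = (p : G × X).1 := fun _ => rfl
    have hpr₁s : Function.Surjective pr₁ := by
      intro g
      obtain ⟨x, hx⟩ := hξ (π g)
      exact ⟨⟨(g, x), hx.symm⟩, rfl⟩
    have hpr₁c : pr₁.ker ≤ Subgroup.center P := by
      intro p hp
      rw [MonoidHom.mem_ker, hpr₁] at hp
      have h2 : (p : G × X).2 ∈ ξ.ker := by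
        rw [MonoidHom.mem_ker, ← hP p, hp, map_one]
      have h3 := Subgroup.mem_center_iff.mp (hξker h2)
      rw [Subgroup.mem_center_iff]
      intro g
      apply Subtype.ext
      apply Prod.ext
      · change (g : G × X).1 * (p : G × X).1 = (p : G × X).1 * (g : G × X).1
        rw [hp, mul_one, one_mul]
      · exact h3 (g : G × X).2
    haveI hfin : Finite (commutator P) := finite_commutator_of_central_ker pr₁ hpr₁c
    have hmap : (commutator P).map pr₁ = commutator G := by
      rw [commutator_def, Subgroup.map_commutator, commutator_def]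
      have : (⊤ : Subgroup P).map pr₁ = ⊤ := by
        rw [← MonoidHom.range_eq_map, MonoidHom.range_eq_top]
        exact hpr₁s
      rw [this]
    have hcov : ∀ g : G, ∃ c ∈ commutator P, pr₁ c = g := by
      intro g
      have h1 : g ∈ (commutator P).map pr₁ := by rw [hmap, hGc]; trivial
      obtain ⟨c, hc, hcg⟩ := h1
      exact ⟨c, hc, hcg⟩
    have hperf : ⁅commutator P, commutator P⁆ = commutator P :=
      commutator_isPerfect_of_central pr₁ hpr₁c (fun p => hcov (pr₁ p))
    have hperf' : Group.IsPerfect (commutator P) := Subgroup.isPerfect_iff.mpr hperf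
    let τ : commutator P →* G := pr₁.comp (commutator P).subtype
    have hτ : Cfsg.IsStemExtension τ := by
      refine ⟨?_, ?_, ?_⟩
      · intro g
        obtain ⟨c, hc, hcg⟩ := hcov g
        exact ⟨⟨c, hc⟩, hcg⟩
      · intro c hc
        have h1 : (c : P) ∈ pr₁.ker := hc
        have h2 := Subgroup.mem_center_iff.mp (hpr₁c h1)
        rw [Subgroup.mem_center_iff]
        intro g
        exact Subtype.ext (h2 (g : P))
      · rw [hperf'.commutator_eq_top]
        exact le_top
    have hk := Cfsg.Agent.Lib.H20.ker_eq_bot_of_hasCyclicSchurMultiplier_one hM (commutator P) τ hτ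
    have hτinj : Function.Injective τ := (MonoidHom.ker_eq_bot_iff τ).mp hk
    let θ : commutator P ≃* G := MulEquiv.ofBijective τ ⟨hτinj, hτ.1⟩
    refine ⟨(MonoidHom.snd G X).comp (P.subtype.comp ((commutator P).subtype.comp θ.symm.toMonoidHom)), ?_⟩
    ext g
    simp only [MonoidHom.coe_comp, Function.comp_apply, MulEquiv.coe_toMonoidHom,
      MonoidHom.coe_snd]
    have h1 := hP ((θ.symm g : commutator P) : P)
    have h2 : τ (θ.symm g) = g := θ.apply_symm_apply g
    have h3 : (((θ.symm g : commutator P) : P) : G × X).1 = g := h2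
    rw [h3] at h1
    exact h1.symm

end Cfsg.Agent.S3961
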