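import Cfsg.Statements.S3962
import Mathlib

set_option autoImplicit false
open Cfsg

namespace Cfsg.Agent.S3962

/-- Let `G` be a perfect group and `π : G →* Q` a surjective homomorphism whose kernel is central. Then `π` maps the centre of `G` onto the centre of `Q`. Taking `π` to be the map to `G ⧸ Z(G)` shows that the central quotient of a perfect group has trivial centre. -/
theorem result {G Q : Type*} [Group G] [Group Q] (hG : Group.IsPerfect G) (π : G →* Q) (hπ : Function.Surjective π) (hker : π.ker ≤ Subgroup.center G) : (Subgroup.center G).map π = Subgroup.center Q := by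
  apply le_antisymm
  · rintro _ ⟨g, hg, rfl⟩
    rw [Subgroup.mem_center_iff]
    intro q
    obtain ⟨h, rfl⟩ := hπ q
    rw [← map_mul, ← map_mul]
    congr 1
    exact (Subgroup.mem_center_iff.mp hg) h
  · intro q hq
    obtain ⟨g, rfl⟩ := hπ q
    refine ⟨g, ?_, rfl⟩
    -- for every a, g a g⁻¹ a⁻¹ ∈ ker π ≤ Z(G)
    have hz : ∀ a : G, g * a * g⁻¹ * a⁻¹ ∈ Subgroup.center G := by
      intro a
      apply hker
      rw [MonoidHom.mem_ker]
      have := (Subgroup.mem_center_iff.mp hq) (π a)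
      simp only [map_mul, map_inv]
      rw [← this]
      group
    -- g centralizes every commutator
    have hcomm : commutator G ≤ Subgroup.centralizer {g} := by
      rw [commutator_def, Subgroup.commutator_le]
      intro a _ b _
      rw [Subgroup.mem_centralizer_iff]
      intro x hx
      rw [Set.mem_singleton_iff] at hx
      subst hx
      -- x a x⁻¹ = z₁ a, x b x⁻¹ = z₂ b
      have h1 := hz a
      have h2 := hz b
      rw [Subgroup.mem_center_iff] at h1 h2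
      rw [commutatorElement_def]
      -- goal: x * (a b a⁻¹ b⁻¹) = (a b a⁻¹ b⁻¹) * x
      have e1 : x * a = (x * a * x⁻¹ * a⁻¹) * a * x := by group
      have e2 : x * b = (x * b * x⁻¹ * b⁻¹) * b * x := by group
      have e3 : x * a⁻¹ = a⁻¹ * (x * a * x⁻¹ * a⁻¹)⁻¹ * x := by group
      have e4 : x * b⁻¹ = b⁻¹ * (x * b * x⁻¹ * b⁻¹)⁻¹ * x := by group
      set z₁ := x * a * x⁻¹ * a⁻¹ with hz1
      set z₂ := x * b * x⁻¹ * b⁻¹ with hz2
      have h1' : ∀ y, y * z₁⁻¹ = z₁⁻¹ * y := by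
        intro y
        have := h1 y
        calc y * z₁⁻¹ = z₁⁻¹ * (z₁ * y) * z₁⁻¹ := by group
          _ = z₁⁻¹ * (y * z₁) * z₁⁻¹ := by rw [this]
          _ = z₁⁻¹ * y := by group
      have h2' : ∀ y, y * z₂⁻¹ = z₂⁻¹ * y := by
        intro y
        have := h2 y
        calc y * z₂⁻¹ = z₂⁻¹ * (z₂ * y) * z₂⁻¹ := by group
          _ = z₂⁻¹ * (y * z₂) * z₂⁻¹ := by rw [this]
          _ = z₂⁻¹ * y := by group
      calc x * (a * b * a⁻¹ * b⁻¹) = (x * a) * b * a⁻¹ * b⁻¹ := by group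
        _ = z₁ * a * x * b * a⁻¹ * b⁻¹ := by rw [e1]
        _ = z₁ * a * (x * b) * a⁻¹ * b⁻¹ := by group
        _ = z₁ * a * (z₂ * b * x) * a⁻¹ * b⁻¹ := by rw [e2]
        _ = z₁ * a * z₂ * b * (x * a⁻¹) * b⁻¹ := by group
        _ = z₁ * a * z₂ * b * (a⁻¹ * z₁⁻¹ * x) * b⁻¹ := by rw [e3]
        _ = z₁ * a * z₂ * b * a⁻¹ * z₁⁻¹ * (x * b⁻¹) := by group
        _ = z₁ * a * z₂ * b * a⁻¹ * z₁⁻¹ * (b⁻¹ * z₂⁻¹ * x) := by rw [e4]
        _ = z₁ * (a * z₂) * b * a⁻¹ * z₁⁻¹ * b⁻¹ * z₂⁻¹ * x := by group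
        _ = z₁ * (z₂ * a) * b * a⁻¹ * z₁⁻¹ * b⁻¹ * z₂⁻¹ * x := by rw [h2 a]
        _ = z₁ * z₂ * (a * b * a⁻¹ * z₁⁻¹) * b⁻¹ * z₂⁻¹ * x := by group
        _ = z₁ * z₂ * (z₁⁻¹ * (a * b * a⁻¹)) * b⁻¹ * z₂⁻¹ * x := by rw [h1' (a * b * a⁻¹)]
        _ = z₁ * (z₂ * z₁⁻¹) * (a * b * a⁻¹ * b⁻¹ * z₂⁻¹) * x := by group
        _ = z₁ * (z₁⁻¹ * z₂) * (z₂⁻¹ * (a * b * a⁻¹ * b⁻¹)) * x := by rw [h1' z₂, h2' (a * b * a⁻¹ * b⁻¹)]
        _ = a * b * a⁻¹ * b⁻¹ * x := by group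
    rw [hG.commutator_eq_top] at hcomm
    show g ∈ Subgroup.center G
    rw [Subgroup.mem_center_iff]
    intro h
    have := hcomm (Subgroup.mem_top h)
    rw [Subgroup.mem_centralizer_iff] at this
    exact (this g rfl).symm

end Cfsg.Agent.S3962
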