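import Cfsg.Statements.S3963
import Cfsg.Agent.Lib.H20.QuaternionStem

set_option autoImplicit false
open Cfsg

namespace Cfsg.Agent.S3963

open Cfsg.Agent.Lib.H20

theorem a_pow' (n : ℕ) (j : ZMod (2 * n)) (k : ℕ) :
    (QuaternionGroup.a j : QuaternionGroup n) ^ k = QuaternionGroup.a (j * (k : ZMod (2 * n))) := by
  induction k with
  | zero => simp [QuaternionGroup.a_zero]
  | succ k ih =>
    rw [pow_succ, ih, QuaternionGroup.a_mul_a]
    congr 1
    push_cast; ring

/-- For every `n ≥ 1` the dicyclic (generalized quaternion) group of order `4 n` has trivial Schur multiplier. -/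
theorem result (n : ℕ) [NeZero n] : Cfsg.HasCyclicSchurMultiplier (QuaternionGroup n) 1 := by
  apply hasCyclicSchurMultiplier_one_of_ker
  intro Γ _ _ σ hσ
  obtain ⟨w, hker, hwn, hσw⟩ := quaternion_stem n σ hσ
  rw [Subgroup.eq_bot_iff_forall]
  intro c hc
  have hc' := hker hc
  rw [← mem_powers_iff_mem_zpowers] at hc'
  obtain ⟨k, hk⟩ := hc'
  have hk' : w ^ k = c := hk
  subst hk'
  have h1 : σ (w ^ k) = 1 := hc
  rw [map_pow, hσw, a_pow', QuaternionGroup.one_def] at h1
  have h2 : ((-2 : ZMod (2 * n)) * (k : ZMod (2 * n))) = 0 := by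
    injection h1
  have h3 : ((2 * k : ℕ) : ZMod (2 * n)) = 0 := by
    push_cast
    linear_combination (-1 : ZMod (2 * n)) * h2
  rw [ZMod.natCast_eq_zero_iff] at h3
  have h4 : n ∣ k := Nat.dvd_of_mul_dvd_mul_left (by norm_num) h3
  obtain ⟨j, rfl⟩ := h4
  rw [pow_mul, hwn, one_pow]

end Cfsg.Agent.S3963
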