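import Cfsg.Statements.S3964
import Cfsg.Agent.Lib.H20.DihedralStem

set_option autoImplicit false
open Cfsg

namespace Cfsg.Agent.S3964

open Cfsg.Agent.Lib.H20

/-- For odd `n` the dihedral group of order `2 n` has trivial Schur multiplier. -/
theorem result (n : ℕ) (hn : Odd n) : Cfsg.HasCyclicSchurMultiplier (DihedralGroup n) 1 := by
  haveI : NeZero n := ⟨by rintro rfl; exact (by decide : ¬ Odd 0) hn⟩
  apply hasCyclicSchurMultiplier_one_of_ker
  intro Γ _ _ σ hσ
  obtain ⟨w, hker, hwn, hσw⟩ := dihedral_stem n σ hσ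
  rw [Subgroup.eq_bot_iff_forall]
  intro c hc
  obtain ⟨i, rfl⟩ := Subgroup.mem_zpowers_iff.mp (hker hc)
  have h1 : σ (w ^ i) = 1 := hc
  rw [map_zpow, hσw, DihedralGroup.r_zpow, DihedralGroup.one_def] at h1
  have h2 : ((-2 : ZMod n) * (i : ZMod n)) = 0 := by
    injection h1
  have h3 : (n : ℤ) ∣ (-2) * i := by
    rw [← ZMod.intCast_zmod_eq_zero_iff_dvd]
    push_cast
    exact h2
  have hcop : IsCoprime (n : ℤ) (-2) := by
    have : IsCoprime (n : ℤ) 2 := by
      rw [Int.isCoprime_iff_gcd_eq_one]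
      have := Nat.Coprime.symm (Nat.coprime_two_left.mpr hn)
      simpa [Int.gcd] using this
    exact this.neg_right
  have h4 : (n : ℤ) ∣ i := hcop.dvd_of_dvd_mul_left h3
  obtain ⟨j, rfl⟩ := h4
  rw [zpow_mul, zpow_natCast, hwn, one_zpow]

end Cfsg.Agent.S3964
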