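import Mathlib
import Cfsg.Prelude.Def_Transfer
import Cfsg.Agent.Lib.H20.AbelianSylowAutomizer
import Cfsg.Agent.Lib.L0.TransferPC

set_option autoImplicit false
open Cfsg

namespace Cfsg.Agent.S3970

universe u

open Cfsg.Agent.Lib.H20 Cfsg.Agent.Lib.L0

theorem aux (n : ℕ) : ∀ (G : Type u) [Group G] [Finite G], Nat.card G = n →
    (∀ p : ℕ, p.Prime → p ∣ Nat.card G → (∃ q : ℕ, q.Prime ∧ q ∣ Nat.card G ∧ p < q) →
      ∀ P : Sylow p G, IsMulCommutative (P : Subgroup G) ∧ Group.rank (P : Subgroup G) ≤ 2) →
    ¬ 12 ∣ Nat.card G → Group.IsSolvable G := by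
  induction n using Nat.strong_induction_on with
  | _ n ih =>
  intro G _ _ hn h h12
  classical
  by_cases h1 : Nat.card G = 1
  · haveI : Subsingleton G := (Nat.card_eq_one_iff_unique.mp h1).1
    exact isSolvable_of_comm (fun a b => Subsingleton.elim _ _)
  set p := (Nat.card G).minFac with hpdef
  have hp : p.Prime := Nat.minFac_prime h1
  have hpG : p ∣ Nat.card G := Nat.minFac_dvd _
  haveI : Fact p.Prime := ⟨hp⟩
  by_cases hlarge : ∃ q : ℕ, q.Prime ∧ q ∣ Nat.card G ∧ p < q
  swap
  · -- `G` is a `p`-group
    have hall : ∀ {d : ℕ}, d.Prime → d ∣ Nat.card G → d = p := by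
      intro d hd hdG
      have h1 : p ≤ d := Nat.minFac_le_of_dvd hd.two_le hdG
      by_contra hne
      exact hlarge ⟨d, hd, hdG, lt_of_le_of_ne h1 (Ne.symm hne)⟩
    have hcard := Nat.eq_prime_pow_of_unique_prime_dvd (Nat.card_pos (α := G)).ne' hall
    have hpg : IsPGroup p G := IsPGroup.of_card hcard
    haveI := hpg.isNilpotent
    infer_instance
  · obtain ⟨P⟩ : Nonempty (Sylow p G) := inferInstance
    obtain ⟨hab, hrank⟩ := h p hp hpG hlarge P
    have hab' : ∀ a ∈ P, ∀ b ∈ P, a * b = b * a := by
      intro a ha b hb
      have := hab.is_comm.comm (⟨a, ha⟩ : (P : Subgroup G)) ⟨b, hb⟩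
      exact congrArg Subtype.val this
    have hNC : Subgroup.normalizer ((P : Subgroup G) : Set G) ≤
        Subgroup.centralizer ((P : Subgroup G) : Set G) := by
      by_cases h23 : p = 2 ∧ 3 ∣ Nat.card G
      · obtain ⟨hp2, h3⟩ := h23
        have h4 : ¬ 4 ∣ Nat.card G := by
          intro h4
          apply h12
          exact Nat.Coprime.mul_dvd_of_dvd_of_dvd (by norm_num : Nat.Coprime 4 3) h4 h3
        obtain ⟨e, he⟩ := P.isPGroup'.exists_card_eq
        have hPdvd : Nat.card (P : Subgroup G) ∣ Nat.card G := Subgroup.card_subgroup_dvd_card _
        have he1 : e ≤ 1 := by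
          by_contra hcon
          push Not at hcon
          apply h4
          refine dvd_trans ?_ hPdvd
          rw [he, hp2]
          exact pow_dvd_pow 2 hcon
        have hcyc : IsCyclic ↥(P : Subgroup G) := by
          apply isCyclic_of_card_dvd_prime (p := p)
          rw [he]
          calc p ^ e ∣ p ^ 1 := pow_dvd_pow p he1
            _ = p := pow_one p
        obtain ⟨g, hg⟩ := hcyc.exists_generator
        have hcl : Subgroup.closure (({g} : Finset ↥(P : Subgroup G)) : Set ↥(P : Subgroup G)) = ⊤ := by
          rw [eq_top_iff]
          intro x _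
          rw [Finset.coe_singleton, ← Subgroup.zpowers_eq_closure]
          exact hg x
        apply normalizer_le_centralizer_of_abelian_sylow p P hab' 1 {g} (by simp) hcl
        intro r hr hrG i hi1 hi2 hri
        have hi : i = 1 := le_antisymm hi2 hi1
        rw [hi, hp2] at hri
        norm_num at hri
        exact hr.one_lt.ne' hri
      · obtain ⟨S, hScard, hS⟩ := Group.rank_spec (↥(P : Subgroup G))
        apply normalizer_le_centralizer_of_abelian_sylow p P hab' 2 S (hScard ▸ hrank) hS
        intro r hr hrG i hi1 hi2 hri
        have hpr : p ≤ r := Nat.minFac_le_of_dvd hr.two_le hrG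
        have hp2 := hp.two_le
        have hcase : r ∣ p - 1 ∨ r ∣ p + 1 := by
          interval_cases i
          · left; simpa using hri
          · have e : p ^ 2 - 1 = (p - 1) * (p + 1) := by
              have h := Nat.sq_sub_sq p 1
              rw [one_pow] at h
              rw [h, mul_comm]
            rw [e] at hri
            exact (Nat.Prime.dvd_mul hr).mp hri
        rcases hcase with hc | hc
        · have := Nat.le_of_dvd (by omega) hc
          omega
        · have hle := Nat.le_of_dvd (by omega) hc
          have hrcase : r = p ∨ r = p + 1 := by omega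
          rcases hrcase with hrp | hrp
          · rw [hrp] at hc
            have : p ∣ 1 := (Nat.dvd_add_right (dvd_refl p)).mp hc
            have := Nat.le_of_dvd one_pos this
            omega
          · -- p and p+1 both prime
            apply h23
            have hp2' : p = 2 := by
              rcases hp.eq_two_or_odd' with h2 | hodd
              · exact h2
              · exfalso
                have heven : Even (p + 1) := hodd.add_one
                rw [← hrp] at heven
                have := (Nat.Prime.even_iff hr).mp heven
                omega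
            refine ⟨hp2', ?_⟩
            have : r = 3 := by omega
            rw [← this]; exact hrG
    have hNPC := hasNormalPComplement_of_normalizer_le_centralizer P hNC
    obtain ⟨N, hNnorm, hpN, k, hk⟩ := HasNormalPComplement.exists_normal hNPC
    haveI := hNnorm
    have hNG : Nat.card G = Nat.card N * p ^ k := by
      rw [← hk]; exact (Subgroup.card_mul_index N).symm
    have hNlt : Nat.card N < Nat.card G := by
      rcases lt_or_eq_of_le (Subgroup.card_le_card_group N) with hlt | heq
      · exact hlt
      · exfalso; apply hpN; rw [heq]; exact hpG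
    have hNdvd : Nat.card N ∣ Nat.card G := Subgroup.card_subgroup_dvd_card N
    have hNsolv : Group.IsSolvable N := by
      apply ih (Nat.card N) (hn ▸ hNlt) N rfl
      · intro p' hp' hp'N hq Q
        haveI : Fact p'.Prime := ⟨hp'⟩
        obtain ⟨q, hq, hqN, hlt⟩ := hq
        have hp'p : p' ≠ p := by
          rintro rfl
          exact hpN hp'N
        have hfac : (Nat.card G).factorization p' = (Nat.card N).factorization p' := by
          rw [hNG, Nat.factorization_mul (Nat.card_pos (α := N)).ne' (pow_pos hp.pos k).ne']
          simp only [Finsupp.coe_add, Pi.add_apply]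
          rw [Nat.Prime.factorization_pow hp]
          simp [Finsupp.single_apply, hp'p.symm]
        have hinj : Function.Injective N.subtype := N.subtype_injective
        let e := Subgroup.equivMapOfInjective (Q : Subgroup N) N.subtype hinj
        have hcard : Nat.card ((Q : Subgroup N).map N.subtype) = p' ^ (Nat.card G).factorization p' := by
          rw [← Nat.card_congr e.toEquiv, hfac]
          exact Q.card_eq_multiplicity
        obtain ⟨hcomm, hrk⟩ := h p' hp' (hp'N.trans hNdvd) ⟨q, hq, hqN.trans hNdvd, hlt⟩
          (Sylow.ofCard _ hcard)
        rw [Sylow.coe_ofCard] at hcomm hrk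
        constructor
        · refine ⟨⟨fun a b => ?_⟩⟩
          apply e.injective
          rw [map_mul, map_mul]
          exact hcomm.is_comm.comm _ _
        · rw [Group.rank_congr e]
          exact hrk
      · intro hcon
        exact h12 (hcon.trans hNdvd)
    have hQsolv : Group.IsSolvable (G ⧸ N) := by
      have hpg : IsPGroup p (G ⧸ N) := by
        apply IsPGroup.of_card (n := k)
        rw [← Subgroup.index_eq_card, hk]
      haveI := hpg.isNilpotent
      infer_instance
    exact solvable_of_ker_le_range N.subtype (QuotientGroup.mk' N) (by simp)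

/-- Let `G` be a finite group such that for every prime `p` dividing its order, other than the largest such prime, the Sylow `p`-subgroups are abelian and generated by at most two elements, and suppose `12` does not divide the order of `G`. Then `G` is solvable. In particular a group of cube-free order not divisible by `12` is solvable. -/
theorem result {G : Type*} [Group G] [Finite G] (h : ∀ p : ℕ, p.Prime → p ∣ Nat.card G → (∃ q : ℕ, q.Prime ∧ q ∣ Nat.card G ∧ p < q) → ∀ P : Sylow p G, IsMulCommutative (P : Subgroup G) ∧ Group.rank (P : Subgroup G) ≤ 2) (h12 : ¬ 12 ∣ Nat.card G) : Group.IsSolvable G :=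
  aux (Nat.card G) G rfl h h12

end Cfsg.Agent.S3970
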