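import Mathlib
import Cfsg.Prelude.Def_Transfer
import Cfsg.Agent.Lib.H20.PGroupAutomizer
import Cfsg.Agent.Lib.H26.Basic
import Cfsg.Agent.Lib.H1.FrattiniArg
import Cfsg.Agent.Lib.L0.FrobeniusPC

set_option autoImplicit false
open Cfsg

namespace Cfsg.Agent.S3971

open Cfsg.Agent.Lib.H20 Cfsg.Agent.Lib.L0

theorem frobHyp {G : Type*} [Group G] [Finite G] (a n : ℕ) (hG : Nat.card G = 2 ^ a * n)
    (hn : Odd n) (h3 : ¬ 3 ∣ n) (hx : ∃ x : G, orderOf x = 2 ^ (a - 1)) : FrobHyp 2 G := by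
  classical
  intro Q hQ g hgN hgcop
  haveI : Fact (Nat.Prime 2) := ⟨Nat.prime_two⟩
  obtain ⟨x, hxo⟩ := hx
  obtain ⟨S₁, hQS⟩ := hQ.exists_le_sylow
  have hzx : IsPGroup 2 (Subgroup.zpowers x) :=
    IsPGroup.of_card (n := a - 1) (by rw [Nat.card_zpowers, hxo])
  obtain ⟨g₀, hg₀⟩ := Cfsg.Agent.Lib.H26.exists_conj_mem_sylow S₁ (Subgroup.zpowers x) hzx
  set x₁ := g₀ * x * g₀⁻¹ with hx₁
  have hx₁S : x₁ ∈ (S₁ : Subgroup G) := hg₀ x (Subgroup.mem_zpowers x)
  have hx₁o : orderOf x₁ = 2 ^ (a - 1) := by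
    have := (MulAut.conj g₀).orderOf_eq x
    rw [MulAut.conj_apply] at this
    rw [hx₁, this, hxo]
  have h2n : ¬ 2 ∣ n := hn.not_two_dvd_nat
  have hn0 : n ≠ 0 := by
    rintro rfl
    exact h2n (dvd_zero 2)
  have hfac : (Nat.card G).factorization 2 = a := by
    rw [hG, Nat.factorization_mul (pow_ne_zero a two_ne_zero) hn0]
    simp only [Finsupp.coe_add, Pi.add_apply]
    rw [Nat.Prime.factorization_pow Nat.prime_two, Nat.factorization_eq_zero_of_not_dvd h2n]
    simp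
  have hS₁card : Nat.card (S₁ : Subgroup G) = 2 ^ a := by
    rw [S₁.card_eq_multiplicity, hfac]
  have hC₁S : Subgroup.zpowers x₁ ≤ (S₁ : Subgroup G) := Subgroup.zpowers_le_of_mem hx₁S
  have h1 := Cfsg.Agent.Lib.H1.card_mul_relIndex_of_le hC₁S
  rw [Nat.card_zpowers, hx₁o, hS₁card] at h1
  have hrel0 : (Subgroup.zpowers x₁).relIndex (S₁ : Subgroup G) ≠ 0 := by
    intro h0
    rw [h0, mul_zero] at h1
    exact (pow_pos two_pos a).ne' h1.symm
  have hrel : (Subgroup.zpowers x₁).relIndex (S₁ : Subgroup G) ≤ 2 := by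
    rcases Nat.eq_zero_or_pos a with ha | ha
    · rw [ha, Nat.zero_sub, pow_zero, one_mul] at h1
      omega
    · have e : 2 ^ a = 2 ^ (a - 1) * 2 := by
        rw [← pow_succ]; congr 1; omega
      rw [e] at h1
      have := Nat.eq_of_mul_eq_mul_left (pow_pos two_pos (a - 1)) h1
      omega
  have hrelQ : (Subgroup.zpowers x₁).relIndex Q ≤ 2 :=
    (Subgroup.relIndex_le_of_le_right hQS hrel0).trans hrel
  -- the cyclic subgroup of `Q`
  haveI hcyc : IsCyclic ((Subgroup.zpowers x₁).subgroupOf Q) := by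
    let f : (Subgroup.zpowers x₁).subgroupOf Q →* Subgroup.zpowers x₁ :=
      { toFun := fun z => ⟨(z.1 : G), Subgroup.mem_subgroupOf.mp z.2⟩
        map_one' := rfl
        map_mul' := fun _ _ => rfl }
    have hf : Function.Injective f := by
      intro z w hzw
      have := congrArg Subtype.val hzw
      exact Subtype.ext (Subtype.ext this)
    exact isCyclic_of_injective f hf
  obtain ⟨S, hScard, hS⟩ := exists_two_generators_of_cyclic_index
    ((Subgroup.zpowers x₁).subgroupOf Q) hrelQ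
  apply mem_centralizer_of_generators 2 Q hQ 2 S hScard hS g hgN hgcop
  intro r hr hrg i hi1 hi2 hri
  have hrG : r ∣ Nat.card G := hrg.trans (orderOf_dvd_natCard g)
  have hr2 : r ≠ 2 := by
    rintro rfl
    have := Nat.Coprime.eq_one_of_dvd hgcop.symm hrg
    omega
  have hr3 : r = 3 := by
    interval_cases i
    · norm_num at hri
      exact absurd hri hr.one_lt.ne'
    · norm_num at hri
      exact (Nat.prime_dvd_prime_iff_eq hr Nat.prime_three).mp hri
  subst hr3
  rw [hG] at hrG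
  rcases (Nat.Prime.dvd_mul Nat.prime_three).mp hrG with h | h
  · have := Nat.Prime.dvd_of_dvd_pow Nat.prime_three h
    omega
  · exact h3 h

/-- Let `G` be a finite group of order `2 ^ a * n` with `n` odd and not divisible by `3`, and suppose `G` has an element of order `2 ^ (a - 1)` (so a Sylow `2`-subgroup has a cyclic subgroup of index at most `2`). Then `G` has a normal subgroup of order `n`. -/
theorem result {G : Type*} [Group G] [Finite G] (a n : ℕ) (hG : Nat.card G = 2 ^ a * n) (hn : Odd n) (h3 : ¬ 3 ∣ n) (hx : ∃ x : G, orderOf x = 2 ^ (a - 1)) : ∃ N : Subgroup G, N.Normal ∧ Nat.card N = n := by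
  haveI : Fact (Nat.Prime 2) := ⟨Nat.prime_two⟩
  have hF := frobHyp a n hG hn h3 hx
  have hNPC := hasNormalPComplement_of_frobHyp hF
  obtain ⟨N, hNnorm, hpN, k, hk⟩ := HasNormalPComplement.exists_normal hNPC
  refine ⟨N, hNnorm, ?_⟩
  have h1 : Nat.card N * 2 ^ k = 2 ^ a * n := by
    rw [← hk, Subgroup.card_mul_index, hG]
  have h2n : ¬ 2 ∣ n := hn.not_two_dvd_nat
  have hcopN : Nat.Coprime (2 ^ k) n :=
    Nat.Coprime.pow_left k ((Nat.Prime.coprime_iff_not_dvd Nat.prime_two).mpr h2n)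
  have hcopN' : Nat.Coprime (2 ^ a) (Nat.card N) :=
    Nat.Coprime.pow_left a ((Nat.Prime.coprime_iff_not_dvd Nat.prime_two).mpr hpN)
  have hka : 2 ^ k ∣ 2 ^ a := by
    have : 2 ^ k ∣ 2 ^ a * n := Dvd.intro_left _ h1
    exact hcopN.dvd_of_dvd_mul_right this
  have hak : 2 ^ a ∣ 2 ^ k := by
    have : 2 ^ a ∣ Nat.card N * 2 ^ k := Dvd.intro _ h1.symm
    exact hcopN'.dvd_of_dvd_mul_left this
  have heq : 2 ^ k = 2 ^ a := Nat.dvd_antisymm hka hak
  rw [heq, mul_comm] at h1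
  exact Nat.eq_of_mul_eq_mul_left (pow_pos two_pos a) h1

end Cfsg.Agent.S3971
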