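import Mathlib
import Cfsg.Agent.Lib.H20.Wielandt
import Cfsg.Agent.Lib.H20.TI

set_option autoImplicit false
open Cfsg

namespace Cfsg.Agent.S3976

open scoped Pointwise
open Cfsg.Agent.Lib.H20

/-- Let `p` be a prime and `G` a group of order `p ^ m`. For every `s ≤ m` the number of normal subgroups of `G` of order `p ^ s` is congruent to `1` modulo `p`. -/
theorem result {G : Type*} [Group G] [Finite G] (p m s : ℕ) (hp : p.Prime) (hG : Nat.card G = p ^ m) (hs : s ≤ m) : Nat.card {H : Subgroup G // H.Normal ∧ Nat.card H = p ^ s} ≡ 1 [MOD p] := by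
  classical
  haveI : Fact p.Prime := ⟨hp⟩
  have hpG : IsPGroup p G := IsPGroup.of_card hG
  have hdiv : p ^ s ∣ Nat.card G := by rw [hG]; exact pow_dvd_pow p hs
  have hall := card_subgroups_modEq_one (G := G) p s hdiv
  -- the conjugation action of `G` on subgroups
  letI act : MulAction G (Subgroup G) := MulAction.compHom (Subgroup G) (MulAut.conj : G →* MulAut G)
  have hsmul : ∀ (g : G) (H : Subgroup G), g • H = MulAut.conj g • H := fun g H => rfl
  let X : SubMulAction G (Subgroup G) :=
    { carrier := {H | Nat.card H = p ^ s}
      smul_mem' := by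
        intro g H hH
        simp only [Set.mem_setOf_eq] at hH ⊢
        rw [hsmul, ← hH]
        exact (Nat.card_congr (Subgroup.equivSMul (MulAut.conj g) H).toEquiv).symm }
  have hfix := hpG.card_modEq_card_fixedPoints X
  have e1 : Nat.card X = Nat.card {H : Subgroup G // Nat.card H = p ^ s} := rfl
  have e2 : Nat.card (MulAction.fixedPoints G X) =
      Nat.card {H : Subgroup G // H.Normal ∧ Nat.card H = p ^ s} := by
    apply Nat.card_congr
    refine
      { toFun := fun z => ⟨z.1.1, ?_, z.1.2⟩
        invFun := fun H => ⟨⟨H.1, H.2.2⟩, ?_⟩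
        left_inv := fun z => rfl
        right_inv := fun H => rfl }
    · -- fixed implies normal
      have hz := z.2
      constructor
      intro n hn g
      have h1 : g • z.1 = z.1 := hz g
      have h2 : (g • z.1 : X).1 = z.1.1 := congrArg Subtype.val h1
      rw [SubMulAction.val_smul, hsmul] at h2
      rw [← h2, mem_conj_smul_iff]
      have e : g⁻¹ * (g * n * g⁻¹) * g = n := by group
      rw [e]
      exact hn
    · -- normal implies fixed
      intro g
      apply Subtype.ext
      rw [SubMulAction.val_smul, hsmul]
      ext y
      rw [mem_conj_smul_iff]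
      haveI := H.2.1
      constructor
      · intro hy
        have := H.2.1.conj_mem _ hy g
        have e : g * (g⁻¹ * y * g) * g⁻¹ = y := by group
        rwa [e] at this
      · intro hy
        have := H.2.1.conj_mem _ hy g⁻¹
        simpa using this
  rw [← e2]
  exact (hfix.symm.trans (e1 ▸ hall))

end Cfsg.Agent.S3976
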