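import Mathlib
import Cfsg.Statements.S3977
import Cfsg.Agent.S0016

set_option autoImplicit false
open Cfsg

namespace Cfsg.Agent.S3977

open Subgroup

/-- In a finite group, a subgroup of prime order `p` contained in a cyclic subgroup `⟨h⟩` of order
`p ^ s` (`s ≥ 1`) equals `⟨h ^ p ^ (s - 1)⟩`. -/
theorem eq_zpowers_of_card_prime {G : Type*} [Group G] [Finite G] {p s : ℕ} (hp : p.Prime)
    (hs : 1 ≤ s) (h : G) (hord : orderOf h = p ^ s) (A : Subgroup G) (hA : Nat.card A = p)
    (hAh : A ≤ zpowers h) : A = zpowers (h ^ p ^ (s - 1)) := by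
  have hs' : s = (s - 1) + 1 := by omega
  have hle : A ≤ zpowers (h ^ p ^ (s - 1)) := by
    intro a ha
    obtain ⟨k, rfl⟩ := (mem_powers_iff_mem_zpowers.mpr (hAh ha))
    have hap : (h ^ k) ^ p = 1 := by
      have := pow_card_eq_one' (G := A) (x := ⟨h ^ k, ha⟩)
      rw [hA] at this
      exact congrArg Subtype.val this
    rw [← pow_mul] at hap
    have hdvd : p ^ s ∣ k * p := by
      rw [← hord]; exact orderOf_dvd_of_pow_eq_one hap
    rw [hs', pow_succ] at hdvd
    have hdvd' : p ^ (s - 1) ∣ k := Nat.dvd_of_mul_dvd_mul_right hp.pos hdvd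
    obtain ⟨c, rfl⟩ := hdvd'
    show h ^ (p ^ (s - 1) * c) ∈ zpowers (h ^ p ^ (s - 1))
    rw [pow_mul]
    exact pow_mem (mem_zpowers _) c
  apply Subgroup.eq_of_le_of_card_ge hle
  rw [hA, Nat.card_zpowers, orderOf_pow, hord]
  have hg : Nat.gcd (p ^ s) (p ^ (s - 1)) = p ^ (s - 1) :=
    Nat.gcd_eq_right (pow_dvd_pow p (by omega))
  rw [hg]
  have hps : p ^ s = p ^ (s - 1) * p := by rw [← pow_succ]; congr 1
  rw [hps, Nat.mul_div_cancel_left _ (pow_pos hp.pos _)]

/-- Let `p` be a prime and `G` a group of order `p ^ m` which has exactly one subgroup of order `p ^ s`, where `1 ≤ s < m`, and where `s ≥ 2` if `p = 2`. Then `G` is cyclic. (For `p = 2` and `s = 1` the generalized quaternion groups also occur; that case is the classical criterion for a unique involution.) -/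
theorem result {G : Type*} [Group G] [Finite G] (p m s : ℕ) (hp : p.Prime) (hG : Nat.card G = p ^ m) (hs : 1 ≤ s) (hsm : s < m) (h2 : p ≠ 2 ∨ 2 ≤ s) (huniq : ∀ H K : Subgroup G, Nat.card H = p ^ s → Nat.card K = p ^ s → H = K) : IsCyclic G := by
  have : Fact p.Prime := ⟨hp⟩
  have hpG : IsPGroup p G := IsPGroup.of_card hG
  have hdvd : p ^ s ∣ Nat.card G := by rw [hG]; exact pow_dvd_pow p hsm.le
  obtain ⟨H, hH⟩ := Sylow.exists_subgroup_card_pow_prime p hdvd
  have hsub : ∀ (j : ℕ) (L : Subgroup G), Nat.card L = p ^ j → j ≤ s → L ≤ H := by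
    intro j L hL hj
    obtain ⟨K, hK, hLK⟩ := Sylow.exists_subgroup_card_pow_prime_le p hdvd L hL hj
    rw [huniq H K hH hK]; exact hLK
  have hlt : H ≠ ⊤ := by
    intro h
    rw [h, Subgroup.card_top, hG] at hH
    have := Nat.pow_right_injective hp.two_le hH
    omega
  obtain ⟨g, hg⟩ : ∃ g, g ∉ H := by
    by_contra hcon
    push Not at hcon
    exact hlt (eq_top_iff.mpr fun x _ => hcon x)
  obtain ⟨j, hj⟩ := IsPGroup.iff_orderOf.mp hpG g
  have hjs : s < j := by
    by_contra hle
    push Not at hle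
    exact hg (hsub j (zpowers g) (by rw [Nat.card_zpowers, hj]) hle (mem_zpowers g))
  have hord : orderOf (g ^ p ^ (j - s)) = p ^ s := by
    rw [orderOf_pow, hj]
    have hg' : Nat.gcd (p ^ j) (p ^ (j - s)) = p ^ (j - s) :=
      Nat.gcd_eq_right (pow_dvd_pow p (by omega))
    rw [hg']
    have : p ^ j = p ^ (j - s) * p ^ s := by rw [← pow_add]; congr 1; omega
    rw [this, Nat.mul_div_cancel_left _ (pow_pos hp.pos _)]
  have hHz : zpowers (g ^ p ^ (j - s)) = H :=
    huniq _ _ (by rw [Nat.card_zpowers, hord]) hH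
  have hZ : ∀ A : Subgroup G, Nat.card A = p →
      A = zpowers ((g ^ p ^ (j - s)) ^ p ^ (s - 1)) := by
    intro A hA
    apply eq_zpowers_of_card_prime hp hs _ hord A hA
    rw [hHz]
    exact hsub 1 A (by rw [hA, pow_one]) hs
  rcases Cfsg.Agent.S0016.result p hpG (fun A B hA hB => by rw [hZ A hA, hZ B hB]) with
    hc | ⟨rfl, n, ⟨e⟩⟩
  · exact hc
  · exfalso
    have hs2 : 2 ≤ s := by
      rcases h2 with h | h
      · exact absurd rfl h
      · exact h
    have hne : NeZero (2 ^ n) := ⟨by positivity⟩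
    have hQcard : Nat.card (QuaternionGroup (2 ^ n)) = 2 ^ m := by
      rw [← Nat.card_congr e.toEquiv, hG]
    have hmn : m = n + 2 := by
      rw [Nat.card_eq_fintype_card, QuaternionGroup.card] at hQcard
      have : 2 ^ (n + 2) = 2 ^ m := by rw [← hQcard]; ring
      exact (Nat.pow_right_injective (le_refl 2) this).symm
    -- uniqueness in the quaternion group
    have huniq' : ∀ A B : Subgroup (QuaternionGroup (2 ^ n)), Nat.card A = 2 ^ s →
        Nat.card B = 2 ^ s → A = B := by
      intro A B hA hB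
      have h1 := huniq (A.map e.symm.toMonoidHom) (B.map e.symm.toMonoidHom)
        (by rw [Subgroup.card_map_of_injective e.symm.injective, hA])
        (by rw [Subgroup.card_map_of_injective e.symm.injective, hB])
      exact Subgroup.map_injective e.symm.injective h1
    -- a subgroup of order `2 ^ s` inside `⟨a 1⟩`
    have hA₀ : Nat.card (zpowers (QuaternionGroup.a 1 : QuaternionGroup (2 ^ n))) = 2 ^ (n + 1) := by
      rw [Nat.card_zpowers, QuaternionGroup.orderOf_a_one]; ring
    obtain ⟨A', hA'⟩ := Sylow.exists_subgroup_card_pow_prime 2 (n := s)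
      (G := zpowers (QuaternionGroup.a 1 : QuaternionGroup (2 ^ n)))
      (by rw [hA₀]; exact pow_dvd_pow 2 (by omega))
    have hAcard : Nat.card (A'.map (zpowers (QuaternionGroup.a 1 :
        QuaternionGroup (2 ^ n))).subtype) = 2 ^ s := by
      rw [Subgroup.card_map_of_injective (subtype_injective _), hA']
    -- a subgroup of order `2 ^ s` containing `xa 0`
    have hB₀ : Nat.card (zpowers (QuaternionGroup.xa 0 : QuaternionGroup (2 ^ n))) = 2 ^ 2 := by
      rw [Nat.card_zpowers, QuaternionGroup.orderOf_xa]; norm_num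
    obtain ⟨B, hB, hBle⟩ := Sylow.exists_subgroup_card_pow_prime_le 2
      (by rw [hQcard]; exact pow_dvd_pow 2 hsm.le) _ hB₀ hs2
    have heq := huniq' _ _ hAcard hB
    have hxa : (QuaternionGroup.xa 0 : QuaternionGroup (2 ^ n)) ∈
        A'.map (zpowers (QuaternionGroup.a 1 : QuaternionGroup (2 ^ n))).subtype := by
      rw [heq]; exact hBle (mem_zpowers _)
    obtain ⟨⟨y, hy⟩, -, hyx⟩ := hxa
    simp only [Subgroup.coe_subtype] at hyx
    obtain ⟨k, hk⟩ := mem_powers_iff_mem_zpowers.mpr hy
    simp only at hk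
    rw [← hk, QuaternionGroup.a_one_pow] at hyx
    exact absurd hyx (by simp)

end Cfsg.Agent.S3977
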