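import Cfsg.Statements.S3978
import Cfsg.Agent.Lib.H18.ProjConverse
import Cfsg.Agent.Lib.H20.Schur

set_option autoImplicit false
open Cfsg

namespace Cfsg.Agent.S3978

open Cfsg.Agent.Lib.H18

/-- A finite group `Q` has trivial Schur multiplier if and only if, for every `n`, every homomorphism from `Q` to the projective general linear group (the quotient of `GL n ℂ` by its centre) lifts to a homomorphism into `GL n ℂ`. -/
theorem result {Q : Type*} [Group Q] [Finite Q] : Cfsg.HasCyclicSchurMultiplier Q 1 ↔ ∀ (n : ℕ) (γ : Q →* (GL (Fin n) ℂ ⧸ Subgroup.center (GL (Fin n) ℂ))), ∃ ρ : Q →* GL (Fin n) ℂ, (QuotientGroup.mk' (Subgroup.center (GL (Fin n) ℂ))).comp ρ = γ := by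
  constructor
  · intro hQ n γ
    have hkid : (MonoidHom.id Q).ker = ⊥ := by
      ext x; simp [MonoidHom.mem_ker]
    haveI h2 : Subsingleton (Multiplicative (ZMod 1)) := by
      change Subsingleton (ZMod 1)
      infer_instance
    haveI : Unique (Multiplicative (ZMod 1)) := Unique.mk' _
    have hk : Nonempty ((MonoidHom.id Q).ker ≃* Multiplicative (ZMod 1)) := by
      rw [hkid]
      exact ⟨MulEquiv.ofUnique⟩
    obtain ⟨ρ, hρ⟩ := exists_lift_projective hQ (MonoidHom.id Q)
      (Cfsg.Agent.Lib.H20.isStemExtension_id Q) hk n γ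
    exact ⟨ρ, by rw [hρ, MonoidHom.comp_id]⟩
  · intro h
    apply Cfsg.Agent.Lib.H20.hasCyclicSchurMultiplier_one_of_ker
    intro Γ _ _ σ hσ
    obtain ⟨π, hπ⟩ := exists_surjective_ker_of_lifting (MonoidHom.id Q)
      (Cfsg.Agent.Lib.H20.isStemExtension_id Q)
      (fun n γ => by
        obtain ⟨ρ, hρ⟩ := h n γ
        exact ⟨ρ, by rw [hρ, MonoidHom.comp_id]⟩) σ hσ
    rw [Subgroup.eq_bot_iff_forall]
    intro x hx
    obtain ⟨z, hz⟩ := hπ ⟨x, hx⟩
    have hz1 : z = 1 := by
      apply Subtype.ext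
      have := z.2
      rw [MonoidHom.mem_ker, MonoidHom.id_apply] at this
      exact this
    rw [hz1, map_one] at hz
    exact (congrArg Subtype.val hz).symm

end Cfsg.Agent.S3978
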