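import Cfsg.Statements.S3979
import Cfsg.Agent.Lib.H20.Schur

set_option autoImplicit false
open Cfsg

namespace Cfsg.Agent.S3979

/-- A finite cyclic group has trivial Schur multiplier: every finite stem extension of it is an isomorphism, said through `HasCyclicSchurMultiplier G 1`. -/
theorem result {G : Type*} [Group G] [Finite G] [IsCyclic G] : Cfsg.HasCyclicSchurMultiplier G 1 := by
  apply Cfsg.Agent.Lib.H20.hasCyclicSchurMultiplier_one_of_ker
  intro Γ _ _ σ hσ
  obtain ⟨hsurj, hcen, hcomm⟩ := hσ
  have hab : IsMulCommutative Γ := MonoidHom.isMulCommutative_of_isCyclic_of_ker_le_center σ hcen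
  rw [Subgroup.eq_bot_iff_forall]
  intro x hx
  have hx' := hcomm hx
  rw [commutator_def] at hx'
  have : ⁅(⊤ : Subgroup Γ), (⊤ : Subgroup Γ)⁆ = ⊥ := by
    rw [Subgroup.commutator_eq_bot_iff_le_centralizer]
    intro y _
    rw [Subgroup.mem_centralizer_iff]
    intro z _
    exact hab.is_comm.comm z y
  rw [this] at hx'
  simpa using hx'

end Cfsg.Agent.S3979
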