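import Mathlib
import Cfsg.Agent.Lib.H20.InvolutionAction

set_option autoImplicit false

namespace Cfsg.Agent.S3981

open Cfsg.Agent.Lib.H20

theorem result {G : Type*} [Group G] [Finite G] (p : ℕ) [Fact p.Prime] (hp2 : p ≠ 2) (Q : Subgroup G) (hQ : IsPGroup p ↥Q) (y : G) (hy : orderOf y = 2) (hyQ : y ∈ Subgroup.normalizer (Q : Set G)) : (∀ R : Subgroup G, IsPGroup p ↥R → Q ≤ R → y ∈ Subgroup.normalizer (R : Set G) → R = Q) ↔ ∀ x : G, x ∈ Subgroup.normalizer (Q : Set G) → x ∉ Q → x ^ p ∈ Q → (y * x * y⁻¹ * x ∉ Q ∧ y * x * y⁻¹ * x⁻¹ ∉ Q) := by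
  classical
  have hp : p.Prime := Fact.out
  have hyy : y * y = 1 := by rw [← pow_two, ← hy]; exact pow_orderOf_eq_one y
  have hyQconj : ∀ q ∈ Q, y * q * y⁻¹ ∈ Q := fun q hq => (Subgroup.mem_normalizer_iff.mp hyQ q).mp hq
  constructor
  · intro hmax x hxN hxQ hxp
    by_contra hcon
    have hor : y * x * y⁻¹ * x ∈ Q ∨ y * x * y⁻¹ * x⁻¹ ∈ Q := by
      by_contra hno
      push Not at hno
      exact hcon hno
    -- x is a p-element
    obtain ⟨j, hj⟩ := (IsPGroup.iff_orderOf.mp hQ) ⟨x ^ p, hxp⟩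
    rw [Subgroup.orderOf_mk] at hj
    have hxpow : x ^ (p ^ (j + 1)) = 1 := by
      rw [pow_succ', pow_mul, ← hj]; exact pow_orderOf_eq_one _
    obtain ⟨i, -, hi⟩ := (Nat.dvd_prime_pow hp).mp (orderOf_dvd_of_pow_eq_one hxpow)
    have hzx : IsPGroup p (Subgroup.zpowers x) := by
      apply IsPGroup.of_card (n := i)
      rw [Nat.card_zpowers, hi]
    have hle : Subgroup.zpowers x ≤ Subgroup.normalizer (Q : Set G) := Subgroup.zpowers_le_of_mem hxN
    have hRp : IsPGroup p (Q ⊔ Subgroup.zpowers x : Subgroup G) := hQ.to_sup_of_normal_left' hzx hle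
    have hyR : y ∈ Subgroup.normalizer ((Q ⊔ Subgroup.zpowers x : Subgroup G) : Set G) := by
      apply Subgroup.mem_normalizer_fintype
      have hsub : Q ⊔ Subgroup.zpowers x ≤
          (Q ⊔ Subgroup.zpowers x).comap (MulAut.conj y).toMonoidHom := by
        apply sup_le
        · intro q hq
          rw [Subgroup.mem_comap]
          simp only [MulEquiv.coe_toMonoidHom, MulAut.conj_apply]
          exact Subgroup.mem_sup_left (hyQconj q hq)
        · rw [Subgroup.zpowers_le, Subgroup.mem_comap]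
          simp only [MulEquiv.coe_toMonoidHom, MulAut.conj_apply]
          have hxR : x ∈ Q ⊔ Subgroup.zpowers x := Subgroup.mem_sup_right (Subgroup.mem_zpowers x)
          rcases hor with h | h
          · have : y * x * y⁻¹ = (y * x * y⁻¹ * x) * x⁻¹ := by group
            rw [this]
            exact Subgroup.mul_mem _ (Subgroup.mem_sup_left h) (Subgroup.inv_mem _ hxR)
          · have : y * x * y⁻¹ = (y * x * y⁻¹ * x⁻¹) * x := by group
            rw [this]
            exact Subgroup.mul_mem _ (Subgroup.mem_sup_left h) hxR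
      intro r hr
      have := hsub hr
      rw [Subgroup.mem_comap] at this
      simpa [MulAut.conj_apply] using this
    have hRQ := hmax _ hRp le_sup_left hyR
    apply hxQ
    rw [← hRQ]
    exact Subgroup.mem_sup_right (Subgroup.mem_zpowers x)
  · intro hx R hRp hQR hyR
    by_contra hne
    have hlt : Q < R := lt_of_le_of_ne hQR (Ne.symm hne)
    -- normalizer grows
    haveI : Group.IsNilpotent R := hRp.isNilpotent
    have hnc : NormalizerCondition R := normalizerCondition_of_isNilpotent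
    have hlt' : Q.subgroupOf R < ⊤ := by
      rw [lt_top_iff_ne_top]
      intro h
      rw [Subgroup.subgroupOf_eq_top] at h
      exact hne (le_antisymm h hQR)
    obtain ⟨r, hrN, hrQ⟩ := SetLike.exists_of_lt (hnc _ hlt')
    have hrQ' : (r : G) ∉ Q := fun h => hrQ (Subgroup.mem_subgroupOf.mpr h)
    have hrNG : (r : G) ∈ Subgroup.normalizer (Q : Set G) := by
      apply Subgroup.mem_normalizer_fintype
      intro q hq
      have h1 := (Subgroup.mem_normalizer_iff.mp hrN ⟨q, hQR hq⟩).mp (Subgroup.mem_subgroupOf.mpr hq)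
      exact Subgroup.mem_subgroupOf.mp h1
    -- the quotient N(Q)/Q
    let Γ := Subgroup.normalizer (Q : Set G)
    let Q' : Subgroup Γ := Q.subgroupOf Γ
    haveI : Q'.Normal := Subgroup.normal_in_normalizer
    let π : Γ →* Γ ⧸ Q' := QuotientGroup.mk' Q'
    let R₁ : Subgroup Γ := R.subgroupOf Γ
    let B : Subgroup (Γ ⧸ Q') := R₁.map π
    have hR₁p : IsPGroup p R₁ := hRp.comap_subtype
    have hBp : IsPGroup p B := hR₁p.map π
    have hB1 : B ≠ ⊥ := by
      intro hbot
      have h1 : π ⟨r, hrNG⟩ ∈ B := Subgroup.mem_map_of_mem π (Subgroup.mem_subgroupOf.mpr r.2)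
      rw [hbot, Subgroup.mem_bot] at h1
      have h2 : (⟨r, hrNG⟩ : Γ) ∈ Q' := (QuotientGroup.eq_one_iff _).mp h1
      exact hrQ' (Subgroup.mem_subgroupOf.mp h2)
    let s : Γ ⧸ Q' := π ⟨y, hyQ⟩
    have hss : s * s = 1 := by
      have : (⟨y, hyQ⟩ : Γ) * ⟨y, hyQ⟩ = 1 := Subtype.ext hyy
      rw [← map_mul, this, map_one]
    have hsB : ∀ b ∈ B, s * b * s⁻¹ ∈ B := by
      rintro _ ⟨r', hr', rfl⟩
      have h1 : (⟨y, hyQ⟩ : Γ) * r' * (⟨y, hyQ⟩ : Γ)⁻¹ ∈ R₁ := by
        rw [Subgroup.mem_subgroupOf]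
        exact (Subgroup.mem_normalizer_iff.mp hyR r').mp (Subgroup.mem_subgroupOf.mp hr')
      have := Subgroup.mem_map_of_mem π h1
      rw [map_mul, map_mul, map_inv] at this
      exact this
    obtain ⟨a, -, hao, hor⟩ := exists_fixed_or_inverted p B hBp hB1 s hss hsB
    obtain ⟨x, rfl⟩ := QuotientGroup.mk'_surjective Q' a
    have hxQ : (x : G) ∉ Q := by
      intro h
      have h1 : π x = 1 := (QuotientGroup.eq_one_iff x).mpr (Subgroup.mem_subgroupOf.mpr h)
      rw [h1, orderOf_one] at hao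
      exact hp.one_lt.ne hao
    have hxp : (x : G) ^ p ∈ Q := by
      have h1 : π (x ^ p) = 1 := by rw [map_pow, ← hao]; exact pow_orderOf_eq_one _
      have h2 : x ^ p ∈ Q' := (QuotientGroup.eq_one_iff _).mp h1
      have h3 := Subgroup.mem_subgroupOf.mp h2
      simpa using h3
    obtain ⟨hx1, hx2⟩ := hx x x.2 hxQ hxp
    rcases hor with h | h
    · apply hx2
      have h1 : π (⟨y, hyQ⟩ * x * ⟨y, hyQ⟩⁻¹ * x⁻¹) = 1 := by
        rw [map_mul, map_mul, map_mul, map_inv, map_inv]
        rw [show π ⟨y, hyQ⟩ = s from rfl, h]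
        exact mul_inv_cancel _
      have h2 := (QuotientGroup.eq_one_iff _).mp h1
      have h3 := Subgroup.mem_subgroupOf.mp h2
      simpa using h3
    · apply hx1
      have h1 : π (⟨y, hyQ⟩ * x * ⟨y, hyQ⟩⁻¹ * x) = 1 := by
        rw [map_mul, map_mul, map_mul, map_inv]
        rw [show π ⟨y, hyQ⟩ = s from rfl, h]
        exact inv_mul_cancel _
      have h2 := (QuotientGroup.eq_one_iff _).mp h1
      have h3 := Subgroup.mem_subgroupOf.mp h2
      simpa using h3

end Cfsg.Agent.S3981
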