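import Mathlib
import Cfsg.Agent.Lib.H20.InvolutionSylow
import Cfsg.Agent.Lib.H20.SylowExtra

set_option autoImplicit false

namespace Cfsg.Agent.S3982

open Cfsg.Agent.Lib.H20

theorem result {G : Type*} [Group G] [Finite G] (p : ℕ) [Fact p.Prime] (hp2 : p ≠ 2) (hpG : p ∣ Nat.card G) (h2G : 2 ∣ Nat.card G) (hC : ∀ g : G, g ≠ 1 → (∃ k : ℕ, orderOf g = p ^ k) → Odd (Nat.card ↥(Subgroup.centralizer ({g} : Set G)))) (Q : Subgroup G) (hQ : IsPGroup p ↥Q) (hQ1 : Q ≠ ⊥) (hev : Even (Nat.card ↥(Subgroup.normalizer (Q : Set G)))) (P : Sylow p G) : Even (Nat.card ↥(Subgroup.normalizer ((P : Subgroup G) : Set G))) := by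
  classical
  have hp : p.Prime := Fact.out
  haveI : Fact (Nat.Prime 2) := ⟨Nat.prime_two⟩
  -- involutions act fixed-point-freely on p-subgroups
  have hfpf : ∀ (T : Subgroup G), IsPGroup p T → ∀ y : G, orderOf y = 2 →
      ∀ t ∈ T, y * t * y⁻¹ = t → t = 1 := by
    intro T hT y hy t ht hyt
    by_contra ht1
    obtain ⟨k, hk⟩ := (IsPGroup.iff_orderOf.mp hT) ⟨t, ht⟩
    rw [Subgroup.orderOf_mk] at hk
    have hodd := hC t ht1 ⟨k, hk⟩
    have hyC : y ∈ Subgroup.centralizer ({t} : Set G) := by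
      rw [Subgroup.mem_centralizer_singleton_iff]
      calc y * t = (y * t * y⁻¹) * y := by group
        _ = t * y := by rw [hyt]
    have h2 : orderOf (⟨y, hyC⟩ : Subgroup.centralizer ({t} : Set G)) ∣ _ := orderOf_dvd_natCard _
    rw [Subgroup.orderOf_mk, hy] at h2
    exact (Nat.not_even_iff_odd.mpr hodd) (even_iff_two_dvd.mpr h2)
  have hsq : ∀ y : G, orderOf y = 2 → y * y = 1 := by
    intro y hy
    rw [← pow_two, ← hy]; exact pow_orderOf_eq_one y
  have hinverts : ∀ (T : Subgroup G), IsPGroup p T → ∀ y : G, orderOf y = 2 →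
      y ∈ Subgroup.normalizer (T : Set G) → ∀ t ∈ T, y * t * y⁻¹ = t⁻¹ := by
    intro T hT y hy hyT
    exact inverts_of_fpf T y (hsq y hy)
      (fun b hb => (Subgroup.mem_normalizer_iff.mp hyT b).mp hb) (hfpf T hT y hy)
  -- Step 1: an involution normalizing Q
  obtain ⟨y', hy'⟩ := exists_prime_orderOf_dvd_card' (G := Subgroup.normalizer (Q : Set G)) 2
    (even_iff_two_dvd.mp hev)
  set y : G := (y' : G) with hy_def
  have hy : orderOf y = 2 := by rw [hy_def, Subgroup.orderOf_coe]; exact hy'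
  have hyQ : y ∈ Subgroup.normalizer (Q : Set G) := y'.2
  have hyy := hsq y hy
  have hyinv : y⁻¹ = y := inv_eq_of_mul_eq_one_left hyy
  have hinvQ := hinverts Q hQ y hy hyQ
  obtain ⟨⟨q, hqQ⟩, hq1'⟩ := (Subgroup.ne_bot_iff_exists_ne_one).mp hQ1
  have hq1 : q ≠ 1 := fun h => hq1' (Subtype.ext h)
  obtain ⟨kq, hkq⟩ := (IsPGroup.iff_orderOf.mp hQ) ⟨q, hqQ⟩
  rw [Subgroup.orderOf_mk] at hkq
  set D := Subgroup.centralizer ({q} : Set G) with hD_def
  have hDmem : ∀ d : G, d ∈ D ↔ d * q = q * d := fun d => Subgroup.mem_centralizer_singleton_iff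
  have hDodd : ¬ 2 ∣ Nat.card D := by
    intro h
    exact (Nat.not_even_iff_odd.mpr (hC q hq1 ⟨kq, hkq⟩)) (even_iff_two_dvd.mpr h)
  have hyq : y * q * y⁻¹ = q⁻¹ := hinvQ q hqQ
  have hyD : y ∈ Subgroup.normalizer ((D : Subgroup G) : Set G) := by
    apply Subgroup.mem_normalizer_fintype
    intro d hd
    have hd' : d * q = q * d := (hDmem d).mp hd
    have hd'' : d * q⁻¹ = q⁻¹ * d := by
      calc d * q⁻¹ = q⁻¹ * (q * d) * q⁻¹ := by group
        _ = q⁻¹ * (d * q) * q⁻¹ := by rw [hd']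
        _ = q⁻¹ * d := by group
    rw [SetLike.mem_coe, hDmem]
    have hyq' : y⁻¹ * q * y = q⁻¹ := by
      have : y⁻¹ * q * y = y * q * y⁻¹ := by rw [hyinv]
      rw [this, hyq]
    calc y * d * y⁻¹ * q = y * (d * (y⁻¹ * q * y)) * y⁻¹ := by group
      _ = y * (d * q⁻¹) * y⁻¹ := by rw [hyq']
      _ = y * (q⁻¹ * d) * y⁻¹ := by rw [hd'']
      _ = (y * q * y⁻¹)⁻¹ * (y * d * y⁻¹) := by group
      _ = q * (y * d * y⁻¹) := by rw [hyq, inv_inv]
  obtain ⟨T, hyT⟩ := exists_invariant_sylow_of_odd p D hDodd y hyy hyD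
  set TG : Subgroup G := (T : Subgroup D).map D.subtype with hTG
  have hTGp : IsPGroup p TG := T.isPGroup'.map _
  have hqD : q ∈ D := (hDmem q).mpr rfl
  -- q ∈ TG
  have hqT : q ∈ TG := by
    have h1 : orderOf (⟨q, hqD⟩ : D) = p ^ kq := by rw [Subgroup.orderOf_mk]; exact hkq
    have h2 : (⟨q, hqD⟩ : D) ∈ Subgroup.normalizer ((T : Subgroup D) : Set D) := by
      apply Subgroup.centralizer_le_normalizer
      rw [Subgroup.mem_centralizer_iff]
      intro t _
      apply Subtype.ext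
      exact (hDmem t.1).mp t.2
    exact ⟨⟨q, hqD⟩, mem_sylow_of_mem_normalizer T h1 h2, rfl⟩
  -- Step 2
  obtain ⟨P', hP'⟩ := hTGp.exists_le_sylow
  have hqP' : q ∈ (P' : Subgroup G) := hP' hqT
  set ZP : Subgroup G := (P' : Subgroup G) ⊓ Subgroup.centralizer ((P' : Subgroup G) : Set G) with hZP
  have hZPmem : ∀ z : G, z ∈ ZP ↔ z ∈ (P' : Subgroup G) ∧ ∀ a ∈ (P' : Subgroup G), a * z = z * a := by
    intro z
    rw [hZP, Subgroup.mem_inf, Subgroup.mem_centralizer_iff]
    rfl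
  haveI : Nontrivial (P' : Subgroup G) := ⟨⟨⟨q, hqP'⟩, 1, fun h => hq1 (congrArg Subtype.val h)⟩⟩
  haveI := P'.isPGroup'.center_nontrivial
  obtain ⟨⟨z₀, hz₀c⟩, hz₀ne⟩ := exists_ne (1 : Subgroup.center (P' : Subgroup G))
  have hz₀1 : (z₀ : G) ≠ 1 := by
    intro h
    apply hz₀ne
    apply Subtype.ext
    exact Subtype.ext h
  have hz₀ : (z₀ : G) ∈ ZP := by
    rw [hZPmem]
    refine ⟨z₀.2, fun a ha => ?_⟩
    have := Subgroup.mem_center_iff.mp hz₀c ⟨a, ha⟩
    exact congrArg Subtype.val this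
  have hZT : ZP ≤ TG := by
    intro z hz
    obtain ⟨hzP, hzc⟩ := (hZPmem z).mp hz
    have hzD : z ∈ D := (hDmem z).mpr (hzc q hqP').symm
    obtain ⟨k, hk⟩ := (IsPGroup.iff_orderOf.mp P'.isPGroup') ⟨z, hzP⟩
    rw [Subgroup.orderOf_mk] at hk
    have h1 : orderOf (⟨z, hzD⟩ : D) = p ^ k := by rw [Subgroup.orderOf_mk]; exact hk
    have h2 : (⟨z, hzD⟩ : D) ∈ Subgroup.normalizer ((T : Subgroup D) : Set D) := by
      apply Subgroup.centralizer_le_normalizer
      rw [Subgroup.mem_centralizer_iff]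
      intro t ht
      apply Subtype.ext
      have htG : (t : G) ∈ TG := ⟨t, ht, rfl⟩
      exact hzc _ (hP' htG)
    exact ⟨⟨z, hzD⟩, mem_sylow_of_mem_normalizer T h1 h2, rfl⟩
  -- Step 3
  have hinvT := hinverts TG hTGp y hy hyT
  have hyZ : ∀ z ∈ ZP, y * z * y⁻¹ = z⁻¹ := fun z hz => hinvT z (hZT hz)
  set D' := Subgroup.centralizer (ZP : Set G) with hD'_def
  have hD'le : D' ≤ Subgroup.centralizer ({(z₀ : G)} : Set G) := by
    intro d hd
    rw [hD'_def, Subgroup.mem_centralizer_iff] at hd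
    rw [Subgroup.mem_centralizer_singleton_iff]
    exact (hd _ hz₀).symm
  obtain ⟨kz, hkz⟩ := (IsPGroup.iff_orderOf.mp P'.isPGroup') z₀
  rw [← Subgroup.orderOf_coe] at hkz
  have hD'odd : ¬ 2 ∣ Nat.card D' := by
    intro h
    have h1 := h.trans (Subgroup.card_dvd_of_le hD'le)
    exact (Nat.not_even_iff_odd.mpr (hC _ hz₀1 ⟨kz, hkz⟩)) (even_iff_two_dvd.mpr h1)
  have hyD' : y ∈ Subgroup.normalizer ((D' : Subgroup G) : Set G) := by
    apply Subgroup.mem_normalizer_fintype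
    intro d hd
    have hd' : ∀ z ∈ ZP, z * d = d * z := by
      intro z hz
      have := hd
      rw [SetLike.mem_coe, hD'_def, Subgroup.mem_centralizer_iff] at this
      exact this z hz
    rw [SetLike.mem_coe, hD'_def, Subgroup.mem_centralizer_iff]
    intro z hz
    have hz' : y⁻¹ * z * y ∈ ZP := by
      have : y⁻¹ * z * y = y * z * y⁻¹ := by rw [hyinv]
      rw [this, hyZ z hz]
      exact ZP.inv_mem hz
    have h1 := hd' _ hz'
    calc z * (y * d * y⁻¹) = y * ((y⁻¹ * z * y) * d) * y⁻¹ := by group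
      _ = y * (d * (y⁻¹ * z * y)) * y⁻¹ := by rw [h1]
      _ = y * d * y⁻¹ * z := by group
  have hP'D' : (P' : Subgroup G) ≤ D' := by
    intro a ha
    rw [hD'_def, Subgroup.mem_centralizer_iff]
    intro z hz
    exact (((hZPmem z).mp hz).2 a ha).symm
  obtain ⟨T', hyT'⟩ := exists_invariant_sylow_of_odd p _ hD'odd y hyy hyD'
  -- T' is a Sylow p-subgroup of G
  have hcardT' : Nat.card ((T' : Subgroup D').map D'.subtype) =
      p ^ (Nat.card G).factorization p := by
    have h1 : Nat.card ((T' : Subgroup D').map D'.subtype) = Nat.card (T' : Subgroup D') :=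
      (Nat.card_congr (Subgroup.equivMapOfInjective _ D'.subtype D'.subtype_injective).toEquiv).symm
    rw [h1, T'.card_eq_multiplicity]
    congr 1
    apply le_antisymm
    · exact (Nat.factorization_le_iff_dvd Nat.card_pos.ne' Nat.card_pos.ne').mpr
        (Subgroup.card_subgroup_dvd_card D') p
    · rw [← hp.pow_dvd_iff_le_factorization Nat.card_pos.ne', ← P'.card_eq_multiplicity]
      exact Subgroup.card_dvd_of_le hP'D'
  let P₁ : Sylow p G := Sylow.ofCard _ hcardT'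
  have hyP₁ : y ∈ Subgroup.normalizer ((P₁ : Subgroup G) : Set G) := hyT'
  have h2P₁ : 2 ∣ Nat.card (Subgroup.normalizer ((P₁ : Subgroup G) : Set G)) := by
    have h2 : orderOf (⟨y, hyP₁⟩ : Subgroup.normalizer ((P₁ : Subgroup G) : Set G)) ∣ _ :=
      orderOf_dvd_natCard _
    rwa [Subgroup.orderOf_mk, hy] at h2
  -- transport to P
  have hidx : (Subgroup.normalizer ((P : Subgroup G) : Set G)).index =
      (Subgroup.normalizer ((P₁ : Subgroup G) : Set G)).index := by
    have e1 : Nat.card (Sylow p G) = (Subgroup.normalizer ((P : Subgroup G) : Set G)).index :=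
      P.card_eq_index_normalizer
    have e2 : Nat.card (Sylow p G) = (Subgroup.normalizer ((P₁ : Subgroup G) : Set G)).index :=
      P₁.card_eq_index_normalizer
    rw [← e1, ← e2]
  have hcard : Nat.card (Subgroup.normalizer ((P : Subgroup G) : Set G)) =
      Nat.card (Subgroup.normalizer ((P₁ : Subgroup G) : Set G)) := by
    have h1 := Subgroup.card_mul_index (Subgroup.normalizer ((P : Subgroup G) : Set G))
    have h2 := Subgroup.card_mul_index (Subgroup.normalizer ((P₁ : Subgroup G) : Set G))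
    rw [hidx, ← h2] at h1
    exact Nat.eq_of_mul_eq_mul_right
      (Nat.pos_of_ne_zero Subgroup.index_ne_zero_of_finite) h1
  rw [hcard]
  exact even_iff_two_dvd.mpr h2P₁

end Cfsg.Agent.S3982
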