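import Cfsg.Statements.S3983
import Cfsg.Agent.Lib.H20.TI

set_option autoImplicit false
open Cfsg

namespace Cfsg.Agent.S3983

open Cfsg.Agent.Lib.H20
open scoped Pointwise

/-- Let P be a Sylow p-subgroup of the finite group G that meets each conjugate g P g⁻¹ with g outside N_G(P) trivially, and let U be a subgroup of G of order divisible by p. Then a Sylow p-subgroup Q of U has the same property inside U: Q meets each conjugate u Q u⁻¹ with u ∈ U outside N_U(Q) trivially. -/
theorem result {G : Type*} [Group G] [Finite G] (p : ℕ) [Fact p.Prime] (P : Sylow p G) (hTI : ∀ g : G, g ∉ Subgroup.normalizer ((P : Subgroup G) : Set G) → (P : Subgroup G) ⊓ (MulAut.conj g • (P : Subgroup G)) = ⊥) (U : Subgroup G) (hU : p ∣ Nat.card ↥U) (Q : Sylow p ↥U) : ∀ u : ↥U, u ∉ Subgroup.normalizer ((Q : Subgroup ↥U) : Set ↥U) → (Q : Subgroup ↥U) ⊓ (MulAut.conj u • (Q : Subgroup ↥U)) = ⊥ := by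
  rw [ti_lattice_iff_TIel] at hTI ⊢
  obtain ⟨P₁, hP₁⟩ := Q.exists_comap_subtype_eq
  obtain ⟨k, hk⟩ := MulAction.exists_smul_eq G P P₁
  have hTI₁ : TIel (P₁ : Subgroup G) := by
    rw [← hk, Sylow.coe_subgroup_smul]
    exact hTI.conj k
  have hmem : ∀ n : ↥U, n ∈ (Q : Subgroup ↥U) ↔ (n : G) ∈ (P₁ : Subgroup G) := by
    intro n
    rw [← hP₁]
    rfl
  intro g x hx hx1 hgx
  have hx' := (hmem x).mp hx
  have hgx' := (hmem _).mp hgx
  have hx1' : (x : G) ≠ 1 := by
    intro h
    apply hx1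
    exact Subtype.ext h
  have hg := hTI₁ (g : G) (x : G) hx' hx1' (by simpa using hgx')
  rw [Subgroup.mem_normalizer_iff] at hg ⊢
  intro n
  rw [hmem, hmem]
  simpa using hg (n : G)

end Cfsg.Agent.S3983
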