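import Cfsg.Statements.S3984
import Cfsg.Agent.Lib.H20.TI
import Cfsg.Agent.Lib.H26.Basic

set_option autoImplicit false
open Cfsg

namespace Cfsg.Agent.S3984

open Cfsg.Agent.Lib.H20
open scoped Pointwise

/-- Let P be a Sylow p-subgroup of the finite group G that meets each conjugate g P g⁻¹ with g outside N_G(P) trivially, and let N be a normal subgroup of G of order prime to p. Then every Sylow p-subgroup Q of G ⧸ N meets each conjugate x Q x⁻¹ with x outside its normalizer trivially. -/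
theorem result {G : Type*} [Group G] [Finite G] (p : ℕ) [Fact p.Prime] (P : Sylow p G) (hTI : ∀ g : G, g ∉ Subgroup.normalizer ((P : Subgroup G) : Set G) → (P : Subgroup G) ⊓ (MulAut.conj g • (P : Subgroup G)) = ⊥) (N : Subgroup G) [N.Normal] (hN : (Nat.card ↥N).Coprime p) (Q : Sylow p (G ⧸ N)) : ∀ x : G ⧸ N, x ∉ Subgroup.normalizer ((Q : Subgroup (G ⧸ N)) : Set (G ⧸ N)) → (Q : Subgroup (G ⧸ N)) ⊓ (MulAut.conj x • (Q : Subgroup (G ⧸ N))) = ⊥ := by
  rw [ti_lattice_iff_TIel] at hTI ⊢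
  have hsurj : Function.Surjective (QuotientGroup.mk' N) := QuotientGroup.mk'_surjective N
  obtain ⟨P', hP'⟩ := Sylow.mapSurjective_surjective hsurj p Q
  obtain ⟨k, hk⟩ := MulAction.exists_smul_eq G P P'
  have hTI' : TIel (P' : Subgroup G) := by
    rw [← hk, Sylow.coe_subgroup_smul]
    exact hTI.conj k
  have hQ : (Q : Subgroup (G ⧸ N)) = (P' : Subgroup G).map (QuotientGroup.mk' N) := by
    rw [← hP']; exact Sylow.coe_mapSurjective hsurj P'
  intro xb yb hyb hyb1 hxyb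
  obtain ⟨x, rfl⟩ := hsurj xb
  rw [hQ] at hyb hxyb
  obtain ⟨y, hy, rfl⟩ := hyb
  obtain ⟨z, hz, hzeq⟩ := hxyb
  have hy1 : y ≠ 1 := by
    rintro rfl
    exact hyb1 (map_one _)
  -- x y x⁻¹ ∈ P' ⊔ N
  have hmem : x * y * x⁻¹ ∈ (P' : Subgroup G) ⊔ N := by
    have h1 : z⁻¹ * (x * y * x⁻¹) ∈ N := by
      rw [← QuotientGroup.eq]
      simpa using hzeq
    have : x * y * x⁻¹ = z * (z⁻¹ * (x * y * x⁻¹)) := by group
    rw [this]
    exact Subgroup.mul_mem_sup hz h1
  have hle : Subgroup.zpowers (x * y * x⁻¹) ≤ (P' : Subgroup G) ⊔ N :=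
    Subgroup.zpowers_le_of_mem hmem
  have hpg : IsPGroup p (Subgroup.zpowers (x * y * x⁻¹)) := by
    obtain ⟨e, he⟩ := (IsPGroup.iff_orderOf.mp P'.isPGroup') ⟨y, hy⟩
    rw [Subgroup.orderOf_mk] at he
    apply IsPGroup.of_card (n := e)
    rw [Nat.card_zpowers]
    have : x * y * x⁻¹ = MulAut.conj x y := by simp [MulAut.conj_apply]
    rw [this, MulEquiv.orderOf_eq, he]
  obtain ⟨h, hh, hconj⟩ := Cfsg.Agent.Lib.H26.exists_conj_mem_sylow_of_le P' _ _ le_sup_left hle hpg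
  have h2 := hconj _ (Subgroup.mem_zpowers _)
  have h3 : (h * x) * y * (h * x)⁻¹ ∈ (P' : Subgroup G) := by
    have : (h * x) * y * (h * x)⁻¹ = h * (x * y * x⁻¹) * h⁻¹ := by group
    rwa [this]
  have h4 := hTI' _ _ hy hy1 h3
  -- image of h lies in Q
  have h5 : QuotientGroup.mk' N h ∈ (P' : Subgroup G).map (QuotientGroup.mk' N) := by
    have : QuotientGroup.mk' N h ∈ ((P' : Subgroup G) ⊔ N).map (QuotientGroup.mk' N) :=
      Subgroup.mem_map_of_mem _ hh
    rwa [Subgroup.map_sup, QuotientGroup.map_mk'_self, sup_bot_eq] at this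
  have h6 : QuotientGroup.mk' N (h * x) ∈ Subgroup.normalizer
      (((P' : Subgroup G).map (QuotientGroup.mk' N) : Subgroup (G ⧸ N)) : Set (G ⧸ N)) :=
    Subgroup.le_normalizer_map (QuotientGroup.mk' N) (Subgroup.mem_map_of_mem _ h4)
  rw [hQ]
  have h7 : QuotientGroup.mk' N x = (QuotientGroup.mk' N h)⁻¹ * QuotientGroup.mk' N (h * x) := by
    rw [map_mul]; group
  rw [h7]
  exact Subgroup.mul_mem _ (Subgroup.inv_mem _ (Subgroup.le_normalizer h5)) h6

end Cfsg.Agent.S3984
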