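import Cfsg.Statements.S3985
import Cfsg.Agent.Lib.H20.TI
import Cfsg.Agent.Lib.H20.CyclicAut
import Cfsg.Agent.Lib.H20.PowDecomp

set_option autoImplicit false
open Cfsg

namespace Cfsg.Agent.S3985

open Cfsg.Agent.Lib.H20
open scoped Pointwise

/-- a `p`-element normalizing a Sylow `p`-subgroup lies in it -/
theorem mem_sylow_of_mem_normalizer {G : Type*} [Group G] [Finite G] {p : ℕ} [Fact p.Prime]
    (P : Sylow p G) {u : G} {e : ℕ} (hu : orderOf u = p ^ e)
    (hn : u ∈ Subgroup.normalizer ((P : Subgroup G) : Set G)) : u ∈ (P : Subgroup G) := by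
  have hz : IsPGroup p (Subgroup.zpowers u) := by
    apply IsPGroup.of_card (n := e)
    rw [Nat.card_zpowers, hu]
  have hle : Subgroup.zpowers u ≤ Subgroup.normalizer ((P : Subgroup G) : Set G) :=
    Subgroup.zpowers_le_of_mem hn
  have hpg : IsPGroup p (Subgroup.zpowers u ⊔ (P : Subgroup G) : Subgroup G) :=
    hz.to_sup_of_normal_right' P.isPGroup' hle
  have := P.is_maximal' hpg le_sup_right
  have h2 : Subgroup.zpowers u ≤ (P : Subgroup G) := by
    rw [← this]; exact le_sup_left
  exact h2 (Subgroup.mem_zpowers u)

/-- Let P be a cyclic Sylow p-subgroup of the finite group G. Then P meets each conjugate g P g⁻¹ with g outside N_G(P) trivially if and only if P is weakly self-centralizing: C_G(x) = C_G(P) for every non-identity x ∈ P. -/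
theorem result {G : Type*} [Group G] [Finite G] (p : ℕ) [Fact p.Prime] (P : Sylow p G) (hcyc : IsCyclic ↥(P : Subgroup G)) : (∀ g : G, g ∉ Subgroup.normalizer ((P : Subgroup G) : Set G) → (P : Subgroup G) ⊓ (MulAut.conj g • (P : Subgroup G)) = ⊥) ↔ ∀ x : G, x ∈ (P : Subgroup G) → x ≠ 1 → Subgroup.centralizer ({x} : Set G) = Subgroup.centralizer ((P : Subgroup G) : Set G) := by
  have hp : p.Prime := Fact.out
  rw [ti_lattice_iff_TIel]
  -- P is commutative
  have hPcomm : ∀ a ∈ (P : Subgroup G), ∀ b ∈ (P : Subgroup G), a * b = b * a := by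
    intro a ha b hb
    have hc : IsMulCommutative ↥(P : Subgroup G) := IsCyclic.isMulCommutative
    have := hc.is_comm.comm (⟨a, ha⟩ : ↥(P : Subgroup G)) ⟨b, hb⟩
    exact congrArg Subtype.val this
  have hPleC : (P : Subgroup G) ≤ Subgroup.centralizer ((P : Subgroup G) : Set G) := by
    intro a ha
    rw [Subgroup.mem_centralizer_iff]
    intro b hb
    exact hPcomm b hb a ha
  constructor
  · intro hTI x hx hx1
    apply le_antisymm
    · intro c hc
      have hcx : c * x = x * c := by
        rw [Subgroup.mem_centralizer_iff] at hc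
        exact (hc x rfl).symm
      have hcN : c ∈ Subgroup.normalizer ((P : Subgroup G) : Set G) := by
        apply hTI c x hx hx1
        have : c * x * c⁻¹ = x := by rw [hcx]; group
        rw [this]; exact hx
      obtain ⟨k, l, hkl, ⟨e, he⟩, hl⟩ := exists_pPart_pPrimePart c (isOfFinOrder_of_finite c) p hp
      have hu : c ^ k ∈ Subgroup.centralizer ((P : Subgroup G) : Set G) :=
        hPleC (mem_sylow_of_mem_normalizer P he (Subgroup.pow_mem _ hcN k))
      have hd : c ^ l ∈ Subgroup.centralizer ((P : Subgroup G) : Set G) := by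
        set d := c ^ l with hddef
        have hdN : d ∈ Subgroup.normalizer ((P : Subgroup G) : Set G) := Subgroup.pow_mem _ hcN l
        have hdx : d * x * d⁻¹ = x := by
          have : Commute c x := hcx
          have h2 : Commute d x := this.pow_left l
          rw [h2.eq]; group
        let ψ : MulAut ↥(P : Subgroup G) := (P : Subgroup G).normalizerMonoidHom ⟨d, hdN⟩
        have hψm : ψ ^ (orderOf d) = 1 := by
          rw [← map_pow]
          have : (⟨d, hdN⟩ : Subgroup.normalizer ((P : Subgroup G) : Set G)) ^ orderOf d = 1 := by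
            apply Subtype.ext
            simp [pow_orderOf_eq_one]
          rw [this, map_one]
        have hψx : ψ ⟨x, hx⟩ = ⟨x, hx⟩ := by
          apply Subtype.ext
          simp only [ψ, Subgroup.normalizerMonoidHom_apply_apply_coe]
          exact hdx
        have hx1' : (⟨x, hx⟩ : ↥(P : Subgroup G)) ≠ 1 := by
          intro h
          exact hx1 (congrArg Subtype.val h)
        letI : CommGroup ↥(P : Subgroup G) := IsCyclic.commGroup
        have hψ1 : ψ = 1 :=
          mulAut_eq_one_of_fixes_of_cyclic_pGroup P.isPGroup' ψ (orderOf d) hψm hl ⟨x, hx⟩ hx1' hψx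
        rw [Subgroup.mem_centralizer_iff]
        intro b hb
        have := congrArg (fun f : MulAut ↥(P : Subgroup G) => ((f ⟨b, hb⟩ : ↥(P : Subgroup G)) : G)) hψ1
        simp only [ψ, Subgroup.normalizerMonoidHom_apply_apply_coe, MulAut.one_apply] at this
        -- this : d * b * d⁻¹ = b
        calc b * d = (d * b * d⁻¹) * d := by rw [this]
          _ = d * b := by group
      rw [← hkl]
      exact Subgroup.mul_mem _ hu hd
    · intro c hc
      rw [Subgroup.mem_centralizer_iff] at hc ⊢
      intro y hy
      rw [Set.mem_singleton_iff] at hy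
      subst hy
      exact hc y hx
  · intro h g x hx hx1 hgx
    set y := g * x * g⁻¹ with hy
    have hy1 : y ≠ 1 := by
      intro h1
      apply hx1
      have : x = g⁻¹ * y * g := by rw [hy]; group
      rw [this, h1]; group
    have hCy := h y hgx hy1
    have hCx := h x hx hx1
    -- g⁻¹ P g ≤ C(P)
    have hconj : ∀ u ∈ (P : Subgroup G), g⁻¹ * u * g ∈ Subgroup.centralizer ((P : Subgroup G) : Set G) := by
      intro u hu
      rw [← hCx, Subgroup.mem_centralizer_iff]
      intro z hz
      rw [Set.mem_singleton_iff] at hz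
      subst hz
      have huy : u * y = y * u := hPcomm u hu y hgx
      have e1 : z = g⁻¹ * y * g := by rw [hy]; group
      rw [e1]
      calc g⁻¹ * y * g * (g⁻¹ * u * g) = g⁻¹ * (y * u) * g := by group
        _ = g⁻¹ * (u * y) * g := by rw [huy]
        _ = g⁻¹ * u * g * (g⁻¹ * y * g) := by group
    -- the conjugate subgroup
    set R : Subgroup G := MulAut.conj g⁻¹ • (P : Subgroup G) with hR
    have hRmem : ∀ v, v ∈ R ↔ g * v * g⁻¹ ∈ (P : Subgroup G) := by
      intro v
      rw [hR, mem_conj_smul_iff]
      simp
    have hRle : R ≤ Subgroup.normalizer ((P : Subgroup G) : Set G) := by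
      intro v hv
      rw [hRmem] at hv
      have := hconj _ hv
      have e : g⁻¹ * (g * v * g⁻¹) * g = v := by group
      rw [e] at this
      exact Subgroup.centralizer_le_normalizer _ this
    have hRp : IsPGroup p R := by
      rw [hR]
      have : (MulAut.conj g⁻¹ • (P : Subgroup G)) = (P : Subgroup G).map (MulAut.conj g⁻¹).toMonoidHom := 
        (map_conj_eq_smul _ _).symm
      rw [this]
      exact P.isPGroup'.map _
    have hpg : IsPGroup p (R ⊔ (P : Subgroup G) : Subgroup G) :=
      hRp.to_sup_of_normal_right' P.isPGroup' hRle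
    have hmax := P.is_maximal' hpg le_sup_right
    have hRP : R ≤ (P : Subgroup G) := by
      rw [← hmax]; exact le_sup_left
    have hginv : g⁻¹ ∈ Subgroup.normalizer ((P : Subgroup G) : Set G) := by
      apply Subgroup.mem_normalizer_fintype
      intro n hn
      apply hRP
      rw [hRmem]
      have : g * (g⁻¹ * n * g⁻¹⁻¹) * g⁻¹ = n := by group
      rw [this]; exact hn
    simpa using Subgroup.inv_mem _ hginv

end Cfsg.Agent.S3985
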