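import Cfsg.Statements.S3986
import Cfsg.Agent.Lib.H20.DirectFactor

set_option autoImplicit false
open Cfsg

namespace Cfsg.Agent.S3986

open Cfsg.Agent.Lib.H20

/-- In `G = P × K` (internal, `P` a normal Sylow), a `p`-element and an element of `q`-power order commute. -/
theorem commute_of_direct {G : Type*} [Group G] [Finite G] (p : ℕ) [Fact p.Prime]
    (P : Sylow p G) (K : Subgroup G) (hP : (P : Subgroup G).Normal) (hK : K.Normal)
    (hinf : (P : Subgroup G) ⊓ K = ⊥) (hsup : (P : Subgroup G) ⊔ K = ⊤)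
    (x y : G) (hx : ∃ a : ℕ, orderOf x = p ^ a)
    (hy : ∃ q b : ℕ, q.Prime ∧ q ≠ p ∧ orderOf y = q ^ b) : x * y = y * x := by
  have hp : p.Prime := Fact.out
  obtain ⟨a, ha⟩ := hx
  obtain ⟨q, b, hq, hqp, hb⟩ := hy
  have hdis : Disjoint (P : Subgroup G) K := disjoint_iff.mpr hinf
  have hxP : x ∈ (P : Subgroup G) := mem_sylow_of_normal_of_orderOf P hP ha
  have hyK : y ∈ K := by
    have hy' : y ∈ (P : Subgroup G) ⊔ K := by rw [hsup]; exact Subgroup.mem_top y
    haveI := hK
    obtain ⟨u, hu, k, hk, huk⟩ := Subgroup.mem_sup_of_normal_right.mp hy'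
    have hcomm : Commute u k := Subgroup.commute_of_normal_of_disjoint _ _ hP hK hdis u k hu hk
    have h1 : u ^ (q ^ b) * k ^ (q ^ b) = 1 := by
      rw [← hcomm.mul_pow, huk, ← hb, pow_orderOf_eq_one]
    have h2 : u ^ (q ^ b) ∈ (P : Subgroup G) ⊓ K := by
      refine ⟨Subgroup.pow_mem _ hu _, ?_⟩
      have : u ^ (q ^ b) = (k ^ (q ^ b))⁻¹ := eq_inv_of_mul_eq_one_left h1
      rw [this]
      exact Subgroup.inv_mem _ (Subgroup.pow_mem _ hk _)
    rw [hinf, Subgroup.mem_bot] at h2
    obtain ⟨c, hc⟩ := exists_orderOf_eq_of_mem_sylow P hu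
    have h3 : orderOf u ∣ q ^ b := orderOf_dvd_of_pow_eq_one h2
    have h4 : orderOf u = 1 := by
      have hcop : Nat.Coprime (p ^ c) (q ^ b) :=
        Nat.Coprime.pow _ _ ((Nat.coprime_primes hp hq).mpr (Ne.symm hqp))
      exact Nat.eq_one_of_dvd_coprimes hcop (by rw [hc]) h3
    rw [orderOf_eq_one_iff] at h4
    rw [← huk, h4, one_mul]; exact hk
  exact Subgroup.commute_of_normal_of_disjoint _ _ hP hK hdis x y hxP hyK

/-- Let p be a prime and G a finite group. Then some Sylow p-subgroup of G is a direct factor of G (it is normal and has a normal complement) if and only if every element of p-power order commutes with every element whose order is a power of a prime other than p. -/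
theorem result {G : Type*} [Group G] [Finite G] (p : ℕ) [Fact p.Prime] : (∃ (P : Sylow p G) (K : Subgroup G), (P : Subgroup G).Normal ∧ K.Normal ∧ (P : Subgroup G) ⊓ K = ⊥ ∧ (P : Subgroup G) ⊔ K = ⊤) ↔ ∀ x y : G, (∃ a : ℕ, orderOf x = p ^ a) → (∃ q b : ℕ, q.Prime ∧ q ≠ p ∧ orderOf y = q ^ b) → x * y = y * x := by
  constructor
  · rintro ⟨P, K, hP, hK, hinf, hsup⟩ x y hx hy
    exact commute_of_direct p P K hP hK hinf hsup x y hx hy
  · intro h
    let P : Sylow p G := default
    obtain ⟨hPn, K, hKn, h1, h2, _⟩ := sylow_direct_factor_of_commute p h P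
    exact ⟨P, K, hPn, hKn, h1, h2⟩

end Cfsg.Agent.S3986
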