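import Mathlib
import Cfsg.Agent.Lib.H20.Basic
import Cfsg.Agent.Lib.H20.DirectFactor
import Cfsg.Agent.Lib.H20.IndexCoprime

namespace Cfsg.Agent.S3987

open Cfsg.Agent.Lib.H20 in
open scoped Pointwise in
theorem result {G : Type*} [Group G] [Finite G] (p : ℕ) [Fact p.Prime] : (∃ (P : Sylow p G) (K : Subgroup G), (P : Subgroup G).Normal ∧ K.Normal ∧ (P : Subgroup G) ⊓ K = ⊥ ∧ (P : Subgroup G) ⊔ K = ⊤) ↔ ∀ x y : G, (∃ a : ℕ, orderOf x = p ^ a) → (∃ q b : ℕ, q.Prime ∧ q ≠ p ∧ orderOf y = q ^ b) → (Subgroup.centralizer ({x * y} : Set G)).index = (Subgroup.centralizer ({x} : Set G)).index * (Subgroup.centralizer ({y} : Set G)).index := by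
  classical
  have hp : p.Prime := Fact.out
  constructor
  · rintro ⟨P, K, hPn, hKn, hinf, hsup⟩ x y ⟨a, ha⟩ ⟨q, b, hq, hqp, hb⟩
    have hdisj : Disjoint (P : Subgroup G) K := disjoint_iff.mpr hinf
    have hcommPK : ∀ u v : G, u ∈ (P : Subgroup G) → v ∈ K → Commute u v :=
      fun u v hu hv => Subgroup.commute_of_normal_of_disjoint _ _ hPn hKn hdisj u v hu hv
    have hxP : x ∈ (P : Subgroup G) := mem_sylow_of_normal_of_orderOf P hPn ha
    have hmul : ((P : Subgroup G) : Set G) * (K : Set G) = Set.univ := by
      haveI := hPn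
      rw [← Subgroup.normal_mul, hsup, Subgroup.coe_top]
    have hcompl : Subgroup.IsComplement' (P : Subgroup G) K :=
      Subgroup.isComplement'_of_disjoint_and_mul_eq_univ hdisj hmul
    have hKidx : K.index = Nat.card (P : Subgroup G) := hcompl.index_eq_card
    obtain ⟨n, hn⟩ := P.isPGroup'.exists_card_eq
    have hcoppq : (p ^ n).Coprime (q ^ b) :=
      Nat.Coprime.pow _ _ ((Nat.coprime_primes hp hq).mpr hqp.symm)
    have hyK : y ∈ K := by
      have hy : y ∈ ((P : Subgroup G) : Set G) * (K : Set G) := by rw [hmul]; trivial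
      obtain ⟨u, hu, v, hv, rfl⟩ := Set.mem_mul.mp hy
      have huv := hcommPK u v hu hv
      have h1 : (u * v) ^ (p ^ n) = v ^ (p ^ n) := by
        rw [huv.mul_pow]
        have : u ^ (p ^ n) = 1 := by
          have h2 : (⟨u, hu⟩ : (P : Subgroup G)) ^ (Nat.card (P : Subgroup G)) = 1 :=
            pow_card_eq_one'
          rw [hn] at h2
          have := congrArg Subtype.val h2
          simpa using this
        rw [this, one_mul]
      have hcop : (p ^ n).Coprime (orderOf (u * v)) := by rw [hb]; exact hcoppq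
      obtain ⟨m, hm⟩ := exists_pow_eq_self_of_coprime hcop
      rw [← hm, h1]
      exact K.pow_mem (K.pow_mem hv _) _
    have hxy : Commute x y := hcommPK x y hxP hyK
    have hcop : (orderOf x).Coprime (orderOf y) := by
      rw [ha, hb]
      exact Nat.Coprime.pow _ _ ((Nat.coprime_primes hp hq).mpr hqp.symm)
    rw [centralizer_mul_of_coprime hxy hcop]
    apply index_inf_of_coprime
    have h1 : (Subgroup.centralizer ({x} : Set G)).index ∣ p ^ n := by
      rw [← hn, ← hKidx]
      apply Subgroup.index_dvd_of_le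
      intro k hk
      rw [Subgroup.mem_centralizer_singleton_iff]
      exact (hcommPK x k hxP hk).symm
    have h2 : (Subgroup.centralizer ({y} : Set G)).index ∣ (P : Subgroup G).index := by
      apply Subgroup.index_dvd_of_le
      intro u hu
      rw [Subgroup.mem_centralizer_singleton_iff]
      exact hcommPK u y hu hyK
    have h3 : (p ^ n).Coprime (P : Subgroup G).index :=
      Nat.Coprime.pow_left n ((Nat.Prime.coprime_iff_not_dvd hp).mpr P.not_dvd_index)
    exact Nat.Coprime.coprime_dvd_left h1 (Nat.Coprime.coprime_dvd_right h2 h3)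
  · intro h
    obtain ⟨P⟩ : Nonempty (Sylow p G) := inferInstance
    have hcomm : ∀ x y : G, (∃ a : ℕ, orderOf x = p ^ a) →
        (∃ q b : ℕ, q.Prime ∧ q ≠ p ∧ orderOf y = q ^ b) → x * y = y * x := by
      intro x y hx hy
      have hidx := h x y hx hy
      have hle : Subgroup.centralizer ({x} : Set G) ⊓ Subgroup.centralizer ({y} : Set G) ≤
          Subgroup.centralizer ({x * y} : Set G) := by
        intro g hg
        obtain ⟨h1, h2⟩ := Subgroup.mem_inf.mp hg
        rw [Subgroup.mem_centralizer_singleton_iff] at h1 h2 ⊢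
        have h1' : Commute g x := h1
        have h2' : Commute g y := h2
        exact h1'.mul_right h2'
      have h1 : (Subgroup.centralizer ({x} : Set G) ⊓ Subgroup.centralizer ({y} : Set G)).index ≤
          (Subgroup.centralizer ({x * y} : Set G)).index := by
        rw [hidx]; exact Subgroup.index_inf_le
      have h2 : (Subgroup.centralizer ({x * y} : Set G)).index ≤
          (Subgroup.centralizer ({x} : Set G) ⊓ Subgroup.centralizer ({y} : Set G)).index :=
        Nat.le_of_dvd (Nat.pos_of_ne_zero Subgroup.index_ne_zero_of_finite)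
          (Subgroup.index_dvd_of_le hle)
      have h3 := eq_of_le_of_index_eq hle (le_antisymm h1 h2)
      have h4 : x * y ∈ Subgroup.centralizer ({x * y} : Set G) := by
        rw [Subgroup.mem_centralizer_singleton_iff]
      rw [← h3] at h4
      have h5 := (Subgroup.mem_inf.mp h4).1
      rw [Subgroup.mem_centralizer_singleton_iff] at h5
      -- h5 : x * y * x = x * (x * y)
      have h6 : x * (y * x) = x * (x * y) := by rw [← mul_assoc]; exact h5
      exact (mul_left_cancel h6).symm
    obtain ⟨hPn, K, hKn, hinf, hsup, -⟩ := sylow_direct_factor_of_commute p hcomm P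
    exact ⟨P, K, hPn, hKn, hinf, hsup⟩

end Cfsg.Agent.S3987
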