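import Mathlib
import Cfsg.Agent.Lib.H20.ThreePrimes
import Cfsg.Agent.Lib.H23.BurnsidePQ
import Cfsg.Agent.Lib.H1.FrobeniusConj2
import Cfsg.Agent.Lib.H1.PCore
import Cfsg.Agent.Lib.H1.OmegaZ

set_option autoImplicit false
open Cfsg

namespace Cfsg.Agent.S3992

open Cfsg.Agent.Lib.H1 Cfsg.Agent.Lib.H20

theorem not_isPrimePow_mul {a b : ℕ} (ha : a.Prime) (hb : b.Prime) (hab : a ≠ b) :
    ¬ IsPrimePow (a * b) := by
  intro h
  obtain ⟨p, k, hp, hk, hpk⟩ := (isPrimePow_nat_iff _).mp h
  have h1 : a ∣ p ^ k := by rw [hpk]; exact dvd_mul_right a b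
  have h2 : b ∣ p ^ k := by rw [hpk]; exact dvd_mul_left b a
  have h3 := (Nat.prime_dvd_prime_iff_eq ha hp).mp (ha.dvd_of_dvd_pow h1)
  have h4 := (Nat.prime_dvd_prime_iff_eq hb hp).mp (hb.dvd_of_dvd_pow h2)
  exact hab (h3.trans h4.symm)

/-- the hypothesis in the form: no element of order `a * b` -/
theorem no_mixed {G : Type*} [Group G] (hpp : ∀ g : G, g ≠ 1 → IsPrimePow (orderOf g))
    (g : G) {a b : ℕ} (ha : a.Prime) (hb : b.Prime) (hab : a ≠ b) : orderOf g ≠ a * b := by
  intro h
  have hg1 : g ≠ 1 := by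
    intro h1
    rw [h1, orderOf_one] at h
    have := ha.one_lt
    have := hb.one_lt
    nlinarith
  have := hpp g hg1
  rw [h] at this
  exact not_isPrimePow_mul ha hb hab this

/-- part (c) -/
theorem part_c {G : Type*} [Group G] [Finite G]
    (hno : ∀ (g : G) (a b : ℕ), a.Prime → b.Prime → a ≠ b → orderOf g ≠ a * b)
    (H : Subgroup G) (hH : Group.IsSolvable ↥H) : (Nat.card ↥H).primeFactors.card ≤ 2 := by
  by_contra hcon
  push_neg at hcon
  haveI := hH
  obtain ⟨x, a, ha, b, hb, hab, hx⟩ := three_primes (G := H) (Nat.card ↥H).primeFactors (by omega)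
    (fun a ha => ⟨Nat.prime_of_mem_primeFactors ha, Nat.dvd_of_mem_primeFactors ha⟩)
  apply hno (x : G) a b (Nat.prime_of_mem_primeFactors ha) (Nat.prime_of_mem_primeFactors hb) hab
  rw [Subgroup.orderOf_coe]; exact hx

/-- Burnside: a group whose order has at most two prime divisors is solvable -/
theorem isSolvable_of_primeFactors_card_le_two {G : Type*} [Group G] [Finite G]
    (h : (Nat.card G).primeFactors.card ≤ 2) : Group.IsSolvable G := by
  have hn0 : Nat.card G ≠ 0 := Nat.card_pos.ne'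
  have hprod := Nat.factorization_prod_pow_eq_self hn0
  rw [Nat.prod_factorization_eq_prod_primeFactors] at hprod
  rcases Nat.lt_or_ge (Nat.card G).primeFactors.card 2 with h2 | h2
  · rcases Nat.lt_or_ge (Nat.card G).primeFactors.card 1 with h1 | h1
    · have h0 : (Nat.card G).primeFactors = ∅ := Finset.card_eq_zero.mp (by omega)
      rw [h0, Finset.prod_empty] at hprod
      exact Cfsg.Agent.Lib.H23.isSolvable_of_card_eq_prime_pow_mul_prime_pow 2 3 0 0
        Nat.prime_two Nat.prime_three (by rw [← hprod]; norm_num)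
    · obtain ⟨p, hp⟩ := Finset.card_eq_one.mp (by omega : (Nat.card G).primeFactors.card = 1)
      have hpp : p.Prime := Nat.prime_of_mem_primeFactors (by rw [hp]; exact Finset.mem_singleton_self p)
      rw [hp, Finset.prod_singleton] at hprod
      obtain ⟨q, hq, hqp⟩ : ∃ q : ℕ, q.Prime ∧ q ≠ p := by
        by_cases h2 : p = 2
        · exact ⟨3, Nat.prime_three, by omega⟩
        · exact ⟨2, Nat.prime_two, fun h => h2 h.symm⟩
      exact Cfsg.Agent.Lib.H23.isSolvable_of_card_eq_prime_pow_mul_prime_pow p q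
        ((Nat.card G).factorization p) 0 hpp hq (by rw [pow_zero, mul_one]; exact hprod.symm)
  · obtain ⟨p, q, hpq, hpq'⟩ := Finset.card_eq_two.mp (by omega : (Nat.card G).primeFactors.card = 2)
    have hpp : p.Prime := Nat.prime_of_mem_primeFactors (by rw [hpq']; simp)
    have hqp : q.Prime := Nat.prime_of_mem_primeFactors (by rw [hpq']; simp)
    rw [hpq', Finset.prod_pair hpq] at hprod
    exact Cfsg.Agent.Lib.H23.isSolvable_of_card_eq_prime_pow_mul_prime_pow p q _ _ hpp hqp hprod.symm

/-- part (a) -/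
theorem part_a {G : Type*} [Group G] [Finite G] (hns : ¬ Group.IsSolvable G)
    (hno : ∀ (g : G) (a b : ℕ), a.Prime → b.Prime → a ≠ b → orderOf g ≠ a * b)
    (R : Subgroup G) [hRn : R.Normal] (hRs : Group.IsSolvable ↥R) :
    ∃ p : ℕ, p.Prime ∧ IsPGroup p ↥R := by
  have h3 : 3 ≤ (Nat.card G).primeFactors.card := by
    by_contra hcon
    exact hns (isSolvable_of_primeFactors_card_le_two (by omega))
  have hR2 := part_c hno R hRs
  -- a prime `r` dividing `|G|` but not `|R|`
  obtain ⟨r, hrG, hrR⟩ : ∃ r ∈ (Nat.card G).primeFactors, r ∉ (Nat.card ↥R).primeFactors := by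
    by_contra hcon
    push_neg at hcon
    have := Finset.card_le_card (show (Nat.card G).primeFactors ⊆ (Nat.card ↥R).primeFactors from hcon)
    omega
  have hrp : r.Prime := Nat.prime_of_mem_primeFactors hrG
  haveI : Fact r.Prime := ⟨hrp⟩
  obtain ⟨x, hx⟩ := exists_prime_orderOf_dvd_card' (G := G) r (Nat.dvd_of_mem_primeFactors hrG)
  have hxn : x ∈ Subgroup.normalizer (R : Set G) := by
    rw [Subgroup.normalizer_eq_top_iff.2 hRn]; exact Subgroup.mem_top x
  have hsol := isSolvable_sup_zpowers hRs hxn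
  have hH2 := part_c hno _ hsol
  have hsub : insert r (Nat.card ↥R).primeFactors ⊆
      (Nat.card ↥(R ⊔ Subgroup.zpowers x)).primeFactors := by
    intro l hl
    rw [Finset.mem_insert] at hl
    rcases hl with rfl | hl
    · apply Nat.mem_primeFactors.mpr
      refine ⟨hrp, ?_, Nat.card_pos.ne'⟩
      have h1 : Nat.card (Subgroup.zpowers x) ∣ Nat.card ↥(R ⊔ Subgroup.zpowers x) :=
        Subgroup.card_dvd_of_le le_sup_right
      rwa [Nat.card_zpowers, hx] at h1
    · apply Nat.mem_primeFactors.mpr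
      refine ⟨Nat.prime_of_mem_primeFactors hl, ?_, Nat.card_pos.ne'⟩
      exact (Nat.dvd_of_mem_primeFactors hl).trans (Subgroup.card_dvd_of_le le_sup_left)
  have hcard := Finset.card_le_card hsub
  rw [Finset.card_insert_of_notMem hrR] at hcard
  have hR1 : (Nat.card ↥R).primeFactors.card ≤ 1 := by omega
  rcases Nat.lt_or_ge (Nat.card ↥R).primeFactors.card 1 with h1 | h1
  · have h0 : (Nat.card ↥R).primeFactors = ∅ := Finset.card_eq_zero.mp (by omega)
    rcases Nat.primeFactors_eq_empty.mp h0 with h | h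
    · exact absurd h Nat.card_pos.ne'
    · have : R = ⊥ := Subgroup.card_eq_one.mp h
      refine ⟨2, Nat.prime_two, ?_⟩
      rw [this]
      exact IsPGroup.of_bot
  · obtain ⟨p, hp⟩ := Finset.card_eq_one.mp (by omega : (Nat.card ↥R).primeFactors.card = 1)
    have hpp : p.Prime := Nat.prime_of_mem_primeFactors (by rw [hp]; exact Finset.mem_singleton_self p)
    haveI : Fact p.Prime := ⟨hpp⟩
    have hprod := Nat.factorization_prod_pow_eq_self (Nat.card_pos (α := ↥R)).ne'
    rw [Nat.prod_factorization_eq_prod_primeFactors, hp, Finset.prod_singleton] at hprod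
    exact ⟨p, hpp, IsPGroup.of_card hprod.symm⟩

theorem isSolvable_of_isPGroup {Q : Type*} [Group Q] [Finite Q] {p : ℕ} [Fact p.Prime]
    (S : Subgroup Q) (h : IsPGroup p S) : Group.IsSolvable ↥S := by
  haveI := h.isNilpotent
  infer_instance

theorem exists_prime_ne_dvd {Q : Type*} [Group Q] [Finite Q] (S : Subgroup Q) (p : ℕ)
    [hp : Fact p.Prime] (h : ¬ IsPGroup p S) : ∃ q : ℕ, q.Prime ∧ q ≠ p ∧ q ∣ Nat.card S := by
  by_contra hcon
  push_neg at hcon
  have h1 : Nat.card S = p ^ (Nat.card S).primeFactorsList.length :=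
    Nat.eq_prime_pow_of_unique_prime_dvd Nat.card_pos.ne' (fun {d} hd hdvd => by
      by_contra hdp
      exact hcon d hd hdp hdvd)
  exact h (IsPGroup.of_card h1)

theorem commute_mixed {Q : Type*} [Group Q]
    (hno : ∀ (g : Q) (a b : ℕ), a.Prime → b.Prime → a ≠ b → orderOf g ≠ a * b)
    {a b : Q} {p q : ℕ} (hp : p.Prime) (hq : q.Prime) (hpq : p ≠ q) (ha : orderOf a = p)
    (hb : orderOf b = q) (hc : Commute a b) : False := by
  apply hno (a * b) p q hp hq hpq
  rw [hc.orderOf_mul_eq_mul_orderOf_of_coprime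
    (by rw [ha, hb]; exact (Nat.coprime_primes hp hq).mpr hpq), ha, hb]

/-- part (b), abstractly -/
theorem part_b {Q : Type*} [Group Q] [Finite Q] [Nontrivial Q]
    (hno : ∀ (g : Q) (a b : ℕ), a.Prime → b.Prime → a ≠ b → orderOf g ≠ a * b)
    (hrad : ∀ N : Subgroup Q, N.Normal → Group.IsSolvable ↥N → N = ⊥) :
    ∃ M : Subgroup Q, M.Normal ∧ IsSimpleGroup ↥M ∧ ¬ IsMulCommutative ↥M ∧
        ∀ N : Subgroup Q, N.Normal → N ≠ ⊥ → M ≤ N := by
  -- a minimal normal subgroup
  obtain ⟨M, ⟨hMn, hM1⟩, hMmin⟩ := WellFounded.has_min (wellFounded_lt (α := Subgroup Q))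
    {N : Subgroup Q | N.Normal ∧ N ≠ ⊥} ⟨⊤, inferInstance, top_ne_bot⟩
  have hMmin' : ∀ N : Subgroup Q, N.Normal → N ≠ ⊥ → N ≤ M → N = M := by
    intro N hN hN1 hle
    by_contra hne
    exact hMmin N ⟨hN, hN1⟩ (lt_of_le_of_ne hle hne)
  have hMnotp : ∀ (p : ℕ) [Fact p.Prime], ¬ IsPGroup p M := by
    intro p _ hp
    exact hM1 (hrad M hMn (isSolvable_of_isPGroup M hp))
  -- containment in every nontrivial normal subgroup
  have hcont : ∀ N : Subgroup Q, N.Normal → N ≠ ⊥ → M ≤ N := by
    intro N hN hN1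
    by_cases hinf : M ⊓ N = ⊥
    · exfalso
      -- an element of prime order in `N`
      have hcardN : Nat.card N ≠ 1 := fun h => hN1 (Subgroup.card_eq_one.mp h)
      obtain ⟨q, hq, hqd⟩ := Nat.exists_prime_and_dvd hcardN
      haveI : Fact q.Prime := ⟨hq⟩
      obtain ⟨b, hb⟩ := exists_prime_orderOf_dvd_card' (G := N) q hqd
      obtain ⟨p, hp, hpq, hpd⟩ := exists_prime_ne_dvd M q (hMnotp q)
      haveI : Fact p.Prime := ⟨hp⟩
      obtain ⟨a, ha⟩ := exists_prime_orderOf_dvd_card' (G := M) p hpd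
      have hc : Commute (a : Q) (b : Q) :=
        Subgroup.commute_of_normal_of_disjoint M N hMn hN (disjoint_iff.mpr hinf) a b a.2 b.2
      exact commute_mixed hno hp hq hpq (by rw [Subgroup.orderOf_coe]; exact ha)
        (by rw [Subgroup.orderOf_coe]; exact hb) hc
    · have hnorm : (M ⊓ N).Normal := Subgroup.normal_inf_normal M N
      have := hMmin' (M ⊓ N) hnorm hinf inf_le_left
      rw [← this]
      exact inf_le_right
  refine ⟨M, hMn, ?_, ?_, hcont⟩
  · -- simplicity: a minimal `M`-invariant nontrivial subgroup of `M`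
    obtain ⟨S, ⟨hSM, hS1, hSnorm⟩, hSmin⟩ := WellFounded.has_min (wellFounded_lt (α := Subgroup Q))
      {S : Subgroup Q | S ≤ M ∧ S ≠ ⊥ ∧ M ≤ Subgroup.normalizer (S : Set Q)}
      ⟨M, le_refl M, hM1, Subgroup.le_normalizer⟩
    have hSmin' : ∀ T : Subgroup Q, T ≤ M → T ≠ ⊥ → M ≤ Subgroup.normalizer (T : Set Q) →
        T ≤ S → T = S := by
      intro T hT hT1 hTn hle
      by_contra hne
      exact hSmin T ⟨hT, hT1, hTn⟩ (lt_of_le_of_ne hle hne)
    -- `S` is not a `p`-group
    have hSnotp : ∀ (p : ℕ) [Fact p.Prime], ¬ IsPGroup p S := by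
      intro p _ hp
      haveI hnS : (S.subgroupOf M).Normal := Subgroup.normal_subgroupOf_of_le_normalizer hSnorm
      have hp' : IsPGroup p (S.subgroupOf M) := hp.comap_subtype
      have hle : S.subgroupOf M ≤ Cfsg.pCore p M := le_pCore hnS hp'
      haveI := pCore_characteristic p M
      haveI := hMn
      have hPn : ((Cfsg.pCore p M).map M.subtype).Normal := inferInstance
      have hPM : (Cfsg.pCore p M).map M.subtype ≤ M := by
        rintro _ ⟨x, -, rfl⟩; exact x.2
      have hSP : S ≤ (Cfsg.pCore p M).map M.subtype := by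
        intro x hx
        exact ⟨⟨x, hSM hx⟩, hle (Subgroup.mem_subgroupOf.mpr hx), rfl⟩
      have hP1 : (Cfsg.pCore p M).map M.subtype ≠ ⊥ := by
        intro h
        rw [h] at hSP
        exact hS1 (eq_bot_iff.mpr hSP)
      have hPeq := hMmin' _ hPn hP1 hPM
      have hPp : IsPGroup p ((Cfsg.pCore p M).map M.subtype) := (pCore_isPGroup p M).map M.subtype
      rw [hPeq] at hPp
      exact hMnotp p hPp
    by_cases hSeq : S = M
    · haveI : Nontrivial ↥M := (Subgroup.nontrivial_iff_ne_bot M).mpr hM1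
      refine ⟨fun H hH => ?_⟩
      by_cases hT : H.map M.subtype = ⊥
      · left
        exact (Subgroup.map_eq_bot_iff_of_injective H M.subtype_injective).mp hT
      · right
        have hTM : H.map M.subtype ≤ M := by
          rintro _ ⟨x, -, rfl⟩; exact x.2
        have hTn : M ≤ Subgroup.normalizer ((H.map M.subtype : Subgroup Q) : Set Q) := by
          apply le_normalizer_of_conj_mem
          rintro m hm _ ⟨h, hh, rfl⟩
          exact ⟨⟨m, hm⟩ * h * ⟨m, hm⟩⁻¹, hH.conj_mem h hh ⟨m, hm⟩, rfl⟩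
        have hTS := hSmin' _ hTM hT hTn (by rw [hSeq]; exact hTM)
        rw [Subgroup.eq_top_iff']
        intro x
        have hx : (x : Q) ∈ H.map M.subtype := by rw [hTS, hSeq]; exact x.2
        obtain ⟨h, hh, hhx⟩ := hx
        have : h = x := Subtype.ext hhx
        rw [← this]; exact hh
    · exfalso
      -- a conjugate not inside `S`
      obtain ⟨g, hg⟩ : ∃ g : Q, ¬ S.map (MulAut.conj g).toMonoidHom ≤ S := by
        by_contra hcon
        push_neg at hcon
        have hSn : S.Normal := by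
          constructor
          intro s hs g
          exact hcon g ⟨s, hs, rfl⟩
        exact hSeq (hMmin' S hSn hS1 hSM)
      obtain ⟨S', hS'⟩ : ∃ S' : Subgroup Q, S' = S.map (MulAut.conj g).toMonoidHom := ⟨_, rfl⟩
      rw [← hS'] at hg
      have hS'mem : ∀ x : Q, x ∈ S' ↔ ∃ s ∈ S, g * s * g⁻¹ = x := by
        intro x; rw [hS']; rfl
      have hS'M : S' ≤ M := by
        intro x hx
        obtain ⟨s, hs, rfl⟩ := (hS'mem x).mp hx
        exact hMn.conj_mem s (hSM hs) g
      have hS'card : Nat.card S' = Nat.card S := by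
        rw [hS']
        exact Subgroup.card_map_of_injective (MulAut.conj g).injective
      have hS'norm : M ≤ Subgroup.normalizer (S' : Set Q) := by
        apply le_normalizer_of_conj_mem
        intro m hm x hx
        obtain ⟨s, hs, rfl⟩ := (hS'mem x).mp hx
        have hm' : g⁻¹ * m * g ∈ M := by
          have := hMn.conj_mem m hm g⁻¹
          rwa [inv_inv] at this
        have hs' : (g⁻¹ * m * g) * s * (g⁻¹ * m * g)⁻¹ ∈ S :=
          (Subgroup.mem_normalizer_iff.mp (hSnorm hm') s).mp hs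
        rw [hS'mem]
        refine ⟨_, hs', ?_⟩
        group
      -- the intersection is trivial
      have hinf : S ⊓ S' = ⊥ := by
        by_contra hne
        have hnorm : M ≤ Subgroup.normalizer ((S ⊓ S' : Subgroup Q) : Set Q) := by
          apply le_normalizer_of_conj_mem
          intro m hm t ht
          obtain ⟨ht1, ht2⟩ := Subgroup.mem_inf.mp ht
          exact Subgroup.mem_inf.mpr ⟨(Subgroup.mem_normalizer_iff.mp (hSnorm hm) t).mp ht1,
            (Subgroup.mem_normalizer_iff.mp (hS'norm hm) t).mp ht2⟩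
        have heq := hSmin' (S ⊓ S') (inf_le_left.trans hSM) hne hnorm inf_le_left
        have hle : S ≤ S' := by rw [← heq]; exact inf_le_right
        have : S = S' := Subgroup.eq_of_le_of_card_ge hle (by rw [hS'card])
        exact hg (by rw [← this])
      -- elements of `S` and `S'` commute
      have hcomm : ∀ a ∈ S, ∀ b ∈ S', Commute a b := by
        intro a ha b hb
        have h1 : a * b * a⁻¹ * b⁻¹ ∈ S ⊓ S' := by
          apply Subgroup.mem_inf.mpr
          constructor
          · have h2 : b * a⁻¹ * b⁻¹ ∈ S :=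
              (Subgroup.mem_normalizer_iff.mp (hSnorm (hS'M hb)) a⁻¹).mp (S.inv_mem ha)
            have h3 := S.mul_mem ha h2
            have h4 : a * (b * a⁻¹ * b⁻¹) = a * b * a⁻¹ * b⁻¹ := by group
            rwa [h4] at h3
          · have h2 : a * b * a⁻¹ ∈ S' :=
              (Subgroup.mem_normalizer_iff.mp (hS'norm (hSM ha)) b).mp hb
            exact S'.mul_mem h2 (S'.inv_mem hb)
        rw [hinf, Subgroup.mem_bot] at h1
        show a * b = b * a
        calc a * b = (a * b * a⁻¹ * b⁻¹) * (b * a) := by group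
          _ = b * a := by rw [h1, one_mul]
      have hcardS : Nat.card S ≠ 1 := fun h => hS1 (Subgroup.card_eq_one.mp h)
      obtain ⟨p, hp, hpd⟩ := Nat.exists_prime_and_dvd hcardS
      haveI : Fact p.Prime := ⟨hp⟩
      obtain ⟨a, ha⟩ := exists_prime_orderOf_dvd_card' (G := S) p hpd
      obtain ⟨q, hq, hqp, hqd⟩ := exists_prime_ne_dvd S p (hSnotp p)
      haveI : Fact q.Prime := ⟨hq⟩
      obtain ⟨b, hb⟩ := exists_prime_orderOf_dvd_card' (G := S') q (by rw [hS'card]; exact hqd)
      exact commute_mixed hno hp hq hqp.symm (by rw [Subgroup.orderOf_coe]; exact ha)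
        (by rw [Subgroup.orderOf_coe]; exact hb) (hcomm a a.2 b b.2)
  · intro hcomm
    haveI := hcomm
    exact hM1 (hrad M hMn (isSolvable_of_isMulCommutative M))

theorem result {G : Type*} [Group G] [Finite G] (hns : ¬ Group.IsSolvable G) (hpp : ∀ g : G, g ≠ 1 → IsPrimePow (orderOf g))
    (R : Subgroup G) [R.Normal] (hRs : Group.IsSolvable ↥R) (hRmax : ∀ N : Subgroup G, N.Normal → Group.IsSolvable ↥N → N ≤ R) :
    (∃ p : ℕ, p.Prime ∧ IsPGroup p ↥R) ∧
      (∃ M : Subgroup (G ⧸ R), M.Normal ∧ IsSimpleGroup ↥M ∧ ¬ IsMulCommutative ↥M ∧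
        ∀ N : Subgroup (G ⧸ R), N.Normal → N ≠ ⊥ → M ≤ N) ∧
      ∀ H : Subgroup G, Group.IsSolvable ↥H → (Nat.card ↥H).primeFactors.card ≤ 2 := by
  have hno : ∀ (g : G) (a b : ℕ), a.Prime → b.Prime → a ≠ b → orderOf g ≠ a * b :=
    fun g a b ha hb hab => no_mixed hpp g ha hb hab
  refine ⟨part_a hns hno R hRs, ?_, part_c hno⟩
  have hnoQ : ∀ (x : G ⧸ R) (a b : ℕ), a.Prime → b.Prime → a ≠ b → orderOf x ≠ a * b := by
    intro x a b ha hb hab hx
    obtain ⟨g, rfl⟩ := QuotientGroup.mk_surjective x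
    have hdvd : a * b ∣ orderOf g := by
      rw [← hx]; exact orderOf_map_dvd (QuotientGroup.mk' R) g
    have hpos : 0 < orderOf g := orderOf_pos g
    have hne : orderOf g / (a * b) ≠ 0 := by
      intro h0
      have := Nat.div_mul_cancel hdvd
      rw [h0, zero_mul] at this
      omega
    apply hno (g ^ (orderOf g / (a * b))) a b ha hb hab
    rw [orderOf_pow_of_dvd hne (Nat.div_dvd_of_dvd hdvd), Nat.div_div_self hdvd hpos.ne']
  have hnsQ : ¬ Group.IsSolvable (G ⧸ R) := by
    intro h
    apply hns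
    haveI := hRs
    exact solvable_of_ker_le_range R.subtype (QuotientGroup.mk' R)
      (by rw [QuotientGroup.ker_mk', Subgroup.range_subtype])
  haveI : Nontrivial (G ⧸ R) := by
    by_contra h
    rw [not_nontrivial_iff_subsingleton] at h
    exact hnsQ inferInstance
  have hrad : ∀ N : Subgroup (G ⧸ R), N.Normal → Group.IsSolvable ↥N → N = ⊥ := by
    intro N hN hNs
    have hN'n : (N.comap (QuotientGroup.mk' R)).Normal := hN.comap _
    have hRN' : R ≤ N.comap (QuotientGroup.mk' R) := by
      intro r hr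
      show ((r : G) : G ⧸ R) ∈ N
      rw [(QuotientGroup.eq_one_iff r).mpr hr]; exact N.one_mem
    have hN's : Group.IsSolvable ↥(N.comap (QuotientGroup.mk' R)) := by
      haveI := hRs
      haveI := hNs
      refine solvable_of_ker_le_range (Subgroup.inclusion hRN')
        ((QuotientGroup.mk' R).subgroupComap N) ?_
      intro x hx
      rw [MonoidHom.mem_ker] at hx
      have h1 : (((x : G) : G ⧸ R)) = 1 := congrArg Subtype.val hx
      exact ⟨⟨x, (QuotientGroup.eq_one_iff _).mp h1⟩, Subtype.ext rfl⟩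
    have hle := hRmax _ hN'n hN's
    rw [Subgroup.eq_bot_iff_forall]
    intro x hx
    obtain ⟨g, rfl⟩ := QuotientGroup.mk_surjective x
    exact (QuotientGroup.eq_one_iff g).mpr (hle hx)
  exact part_b hnoQ hrad

end Cfsg.Agent.S3992
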