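import Mathlib
import Cfsg.Agent.Lib.H20.FrobeniusDiv

set_option autoImplicit false
open Cfsg

namespace Cfsg.Agent.S3994

open Finset Cfsg.Agent.Lib.H20

/-- `N / gcd(N, n^N)` is coprime to `n`. -/
theorem coprime_div_gcd_pow (N n : ℕ) (hN : 0 < N) :
    (N / Nat.gcd N (n ^ N)).Coprime n := by
  apply Nat.coprime_of_dvd
  intro q hq hqs hqn
  set r := Nat.gcd N (n ^ N) with hr
  have hrN : r ∣ N := Nat.gcd_dvd_left _ _
  have hrs : r * (N / r) = N := Nat.mul_div_cancel' hrN
  set e := N.factorization q with he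
  have h1 : q ^ e ∣ N := Nat.ordProj_dvd N q
  have h2 : ¬ q ^ (e + 1) ∣ N := Nat.pow_succ_factorization_not_dvd hN.ne' hq
  have heN : e ≤ N := by
    have h3 : q ^ e ≤ N := Nat.le_of_dvd hN h1
    have h4 : e < q ^ e := Nat.lt_pow_self hq.one_lt
    omega
  have h5 : q ^ e ∣ n ^ N := (pow_dvd_pow q heN).trans (pow_dvd_pow_of_dvd hqn N)
  have h6 : q ^ e ∣ r := Nat.dvd_gcd h1 h5
  apply h2
  rw [pow_succ, ← hrs]
  exact mul_dvd_mul h6 hqs

/-- Let G be a finite group and n a positive integer. The number of elements of G whose order is divisible by n is either 0 or divisible by the largest divisor of the order of G that is coprime to n. -/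
theorem result {G : Type*} [Group G] [Finite G] (n : ℕ) (hn : 0 < n) :
    Nat.card {g : G // n ∣ orderOf g} = 0 ∨
      (Nat.card G / Nat.gcd (Nat.card G) (n ^ Nat.card G)) ∣ Nat.card {g : G // n ∣ orderOf g} := by
  right
  classical
  haveI : Fintype G := Fintype.ofFinite G
  have hNpos : 0 < Nat.card G := Nat.card_pos
  obtain ⟨r, hr⟩ : ∃ r, r = Nat.gcd (Nat.card G) (n ^ Nat.card G) := ⟨_, rfl⟩
  obtain ⟨s, hs⟩ : ∃ s, s = Nat.card G / r := ⟨_, rfl⟩
  rw [← hr, ← hs]
  have hrN : r ∣ Nat.card G := hr ▸ Nat.gcd_dvd_left _ _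
  have hrs : r * s = Nat.card G := by rw [hs]; exact Nat.mul_div_cancel' hrN
  have hsn : s.Coprime n := by
    rw [hs, hr]; exact coprime_div_gcd_pow _ n hNpos
  have hcop : r.Coprime s := by
    apply Nat.coprime_of_dvd
    intro q hq hqr hqs
    have h1 : q ∣ n ^ Nat.card G := hqr.trans (hr ▸ Nat.gcd_dvd_right _ _)
    have h2 : q ∣ n := hq.dvd_of_dvd_pow h1
    have h3 : q ∣ Nat.gcd s n := Nat.dvd_gcd hqs h2
    rw [hsn.gcd_eq_one] at h3
    exact hq.one_lt.ne' (Nat.dvd_one.mp h3)
  have hsN : s ∣ Nat.card G := ⟨r, by rw [← hrs, mul_comm]⟩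
  rw [card_subtype_eq_card_filter]
  have hset : univ.filter (fun g : G => n ∣ orderOf g) =
      univ.filter (fun g : G => g ^ (r * s) = 1 ∧ n ∣ orderOf g) := by
    ext g
    simp only [mem_filter, mem_univ, true_and]
    constructor
    · intro h; exact ⟨by rw [hrs]; exact pow_card_eq_one', h⟩
    · intro h; exact h.2
  rw [hset, card_decomp hcop (fun g => n ∣ orderOf g)]
  have hinner : ∀ u ∈ univ.filter (fun u : G => u ^ r = 1),
      (univ.filter (fun v : G => v ^ s = 1 ∧ u * v = v * u ∧ n ∣ orderOf (u * v))).card =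
      if n ∣ orderOf u then (univ.filter (fun v : G => v ^ s = 1 ∧ u * v = v * u)).card
      else 0 := by
    intro u hu
    simp only [mem_filter, mem_univ, true_and] at hu
    have key : ∀ v : G, v ^ s = 1 → u * v = v * u → (n ∣ orderOf (u * v) ↔ n ∣ orderOf u) := by
      intro v hv hc
      have hc' : Commute u v := hc
      have hou : orderOf u ∣ r := orderOf_dvd_of_pow_eq_one hu
      have hov : orderOf v ∣ s := orderOf_dvd_of_pow_eq_one hv
      have hco : (orderOf u).Coprime (orderOf v) :=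
        Nat.Coprime.coprime_dvd_left hou (Nat.Coprime.coprime_dvd_right hov hcop)
      rw [hc'.orderOf_mul_eq_mul_orderOf_of_coprime hco]
      have hnv : n.Coprime (orderOf v) := (Nat.Coprime.coprime_dvd_left hov hsn).symm
      exact hnv.dvd_mul_right
    split_ifs with hu'
    · congr 1; ext v; simp only [mem_filter, mem_univ, true_and]
      constructor
      · rintro ⟨h1, h2, _⟩; exact ⟨h1, h2⟩
      · rintro ⟨h1, h2⟩; exact ⟨h1, h2, (key v h1 h2).mpr hu'⟩
    · rw [Finset.card_eq_zero, Finset.filter_eq_empty_iff]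
      rintro v _ ⟨h1, h2, h3⟩
      exact hu' ((key v h1 h2).mp h3)
  rw [Finset.sum_congr rfl hinner, ← Finset.sum_filter, Finset.filter_filter]
  apply dvd_sum_card_centralizer s hsN (fun u => u ^ r = 1 ∧ n ∣ orderOf u)
  · intro g y hy
    refine ⟨by rw [conj_pow, hy.1]; group, ?_⟩
    have : orderOf (g * y * g⁻¹) = orderOf y := (MulAut.conj g).orderOf_eq y
    rw [this]; exact hy.2
  · intro y _
    exact frobenius_gcd _ _ rfl s

end Cfsg.Agent.S3994
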