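import Cfsg.Statements.S3997
import Cfsg.Agent.Lib.H20.Basic

set_option autoImplicit false
open Cfsg

namespace Cfsg.Agent.S3997

open Cfsg.Agent.Lib.H20

/-- Let G and H be finite groups with the same order type: for every m they have the same number of elements of order m. If G is nilpotent then so is H. -/
theorem result {G H : Type*} [Group G] [Finite G] [Group H] [Finite H] (hT : (∀ m : ℕ, Nat.card {g : G // orderOf g = m} = Nat.card {h : H // orderOf h = m})) (hG : Group.IsNilpotent G) :
    Group.IsNilpotent H := by
  obtain ⟨e, he⟩ := exists_equiv_orderOf hT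
  have hcard : Nat.card G = Nat.card H := Nat.card_congr e
  apply (Group.isNilpotent_of_finite_tfae.out 3 0 rfl rfl).mp
  intro p hp P
  -- the set of p-elements of H
  set S : Set H := {h : H | ∃ k : ℕ, orderOf h = p ^ k} with hS
  have key : ∀ P' : Sylow p H, ((P' : Subgroup H) : Set H) = S := by
    intro P'
    have hsub : ((P' : Subgroup H) : Set H) ⊆ S := by
      intro h hh
      exact exists_orderOf_eq_of_mem_sylow P' hh
    apply Set.eq_of_subset_of_ncard_le hsub _ (Set.toFinite _)
    -- card S ≤ card P'
    let Q : Sylow p G := default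
    have hQn : (Q : Subgroup G).Normal := inferInstance
    have hSQ : S ⊆ e '' ((Q : Subgroup G) : Set G) := by
      rintro h ⟨k, hk⟩
      refine ⟨e.symm h, ?_, by simp⟩
      apply mem_sylow_of_normal_of_orderOf Q hQn (k := k)
      rw [← he, Equiv.apply_symm_apply, hk]
    calc S.ncard ≤ (e '' ((Q : Subgroup G) : Set G)).ncard := Set.ncard_le_ncard hSQ (Set.toFinite _)
      _ = (((Q : Subgroup G) : Set G)).ncard := Set.ncard_image_of_injective _ e.injective
      _ = Nat.card (Q : Subgroup G) := by rw [← Nat.card_coe_set_eq]; rfl
      _ = p ^ (Nat.card G).factorization p := Q.card_eq_multiplicity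
      _ = p ^ (Nat.card H).factorization p := by rw [hcard]
      _ = Nat.card (P' : Subgroup H) := P'.card_eq_multiplicity.symm
      _ = (((P' : Subgroup H) : Set H)).ncard := by rw [← Nat.card_coe_set_eq]; rfl
  have hsub : Subsingleton (Sylow p H) := by
    constructor
    intro P₁ P₂
    apply Sylow.ext
    apply SetLike.coe_injective
    rw [key P₁, key P₂]
  exact Sylow.normal_of_subsingleton P

end Cfsg.Agent.S3997
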