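import Cfsg.Statements.S3999
import Cfsg.Agent.Lib.H13.OTDefs
import Cfsg.Agent.Lib.H13.OTEQUIV
import Cfsg.Agent.Lib.H13.OTDATA
import Cfsg.Agent.Lib.H13.OTSOLV
import Cfsg.Agent.Lib.H25.OTQCOUNT
import Cfsg.Agent.Lib.H11.OTHALL
import Cfsg.Agent.Lib.H1.OTFROB
import Cfsg.Agent.Lib.H1.OTKCOUNT
import Cfsg.Agent.Lib.H14.OTSIX
import Cfsg.Agent.Lib.H5.OTSL25

set_option autoImplicit false
open Cfsg

namespace Cfsg.Agent.S3999

/-- Let F be a finite Frobenius group (it has a Frobenius complement) and G a finite group with the same order type as F (for every m the same number of elements of order m). Then G is a Frobenius group; moreover G is solvable if and only if F is. -/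
theorem result {F G : Type*} [Group F] [Finite F] [Group G] [Finite G] (hF : (∃ C : Subgroup F, Cfsg.IsFrobeniusComplement C)) (hT : (∀ m : ℕ, Nat.card {g : F // orderOf g = m} = Nat.card {h : G // orderOf h = m})) :
    (∃ C : Subgroup G, Cfsg.IsFrobeniusComplement C) ∧ (Group.IsSolvable G ↔ Group.IsSolvable F) := by
  obtain ⟨C, hC⟩ := hF
  obtain ⟨K, hK⟩ := Cfsg.Agent.Lib.H13.OT.exists_frobData C hC
  obtain ⟨φ, hφ⟩ := Cfsg.Agent.Lib.H13.OT.exists_equiv_orderOf hT
  set n := Nat.card K with hn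
  set m := Nat.card C with hm
  have hn1 : 1 < n := hK.one_lt_M
  have hm1 : 1 < m := hK.one_lt_Y
  have hcardFG : Nat.card G = Nat.card F := (Nat.card_congr φ).symm
  have hcardG : Nat.card G = n * m := by rw [hcardFG, hK.card_eq]
  -- element orders of G
  have hordG : ∀ y : G, orderOf y ∣ n ∨ orderOf y ∣ m := by
    intro y
    have := hK.order_dvd (φ.symm y)
    rwa [← hφ (φ.symm y), Equiv.apply_symm_apply] at this
  -- normal Sylows
  have hsyl : ∀ (q : ℕ) [Fact q.Prime], q ∣ n → ∀ Q : Sylow q G, (Q : Subgroup G).Normal := by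
    intro q _ hq Q
    apply Cfsg.Agent.Lib.H13.OT.sylow_normal_of_card_q_elements q _ Q
    have h1 := Cfsg.Agent.Lib.H25.OT.card_q_elements hK q hq
    rw [hcardFG, ← h1]
    refine (Nat.card_congr ?_).symm
    exact φ.subtypeEquiv (fun x => by rw [hφ x])
  obtain ⟨N, hNn, hNc⟩ := Cfsg.Agent.Lib.H11.OT.exists_normal_hall n m hK.coprime hcardG hsyl
  obtain ⟨D, hD, hDm⟩ := Cfsg.Agent.Lib.H1.OT.exists_frobenius_complement_of_hall n m hK.one_lt_M hK.one_lt_Y
    hK.coprime hcardG N hNc hordG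
  refine ⟨⟨D, hD⟩, ?_⟩
  obtain ⟨L, hL⟩ := Cfsg.Agent.Lib.H13.OT.exists_frobData D hD
  have hLn : Nat.card L = n := by
    have h1 := hL.card_eq
    rw [hcardG, hDm] at h1
    exact (Nat.eq_of_mul_eq_mul_right (by omega : 0 < m) h1).symm
  rw [Cfsg.Agent.Lib.H13.OT.solvable_iff hL, Cfsg.Agent.Lib.H13.OT.solvable_iff hK]
  -- key: transfer of the 24-criterion
  have key : ∀ (k : ℕ), k ∣ m → 1 < k →
      Nat.card {y : D // orderOf y = k} = Nat.card {y : C // orderOf y = k} := by
    intro k hk hk1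
    have h1 := Cfsg.Agent.Lib.H1.OT.card_orderOf_eq hK k hk hk1
    have h2 := Cfsg.Agent.Lib.H1.OT.card_orderOf_eq hL k (by rw [hDm]; exact hk) hk1
    rw [hLn] at h2
    rw [hT k, h2] at h1
    exact Nat.eq_of_mul_eq_mul_left (by omega : 0 < n) h1
  constructor
  · intro hDs
    by_contra hCs
    obtain ⟨h5, h25, h24⟩ := Cfsg.Agent.Lib.H5.OT.nonsolvable_complement_24 C hC hCs
    have := Cfsg.Agent.Lib.H14.OT.not_solvable_of_24 (X := D) (by rw [hDm]; exact h5) (by rw [hDm]; exact h25)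
      (by rw [key 5 h5 (by norm_num)]; exact h24)
    exact this hDs
  · intro hCs
    by_contra hDs
    obtain ⟨h5, h25, h24⟩ := Cfsg.Agent.Lib.H5.OT.nonsolvable_complement_24 D hD hDs
    rw [hDm] at h5 h25
    have := Cfsg.Agent.Lib.H14.OT.not_solvable_of_24 (X := C) h5 h25
      (by rw [← key 5 h5 (by norm_num)]; exact h24)
    exact this hCs


end Cfsg.Agent.S3999
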