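import Mathlib
import Cfsg.Agent.Lib.H20.ThreePrimes

set_option autoImplicit false
open Cfsg

namespace Cfsg.Agent.S4002

/-- three primes `≤ n` whose pairwise products exceed `n` -/
theorem exists_three_primes (n : ℕ) (hn : 7 ≤ n) :
    ∃ S : Finset ℕ, 3 ≤ S.card ∧ (∀ a ∈ S, a.Prime ∧ a ≤ n) ∧
      ∀ a ∈ S, ∀ b ∈ S, a ≠ b → n < a * b := by
  by_cases h14 : n ≤ 14
  · refine ⟨{3, 5, 7}, by decide, ?_, ?_⟩
    · intro a ha
      simp only [Finset.mem_insert, Finset.mem_singleton] at ha
      rcases ha with rfl | rfl | rfl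
      · exact ⟨by norm_num, by omega⟩
      · exact ⟨by norm_num, by omega⟩
      · exact ⟨by norm_num, by omega⟩
    · intro a ha b hb hab
      simp only [Finset.mem_insert, Finset.mem_singleton] at ha hb
      rcases ha with rfl | rfl | rfl <;> rcases hb with rfl | rfl | rfl <;> first | omega | (exfalso; exact hab rfl)
  by_cases h34 : n ≤ 34
  · refine ⟨{5, 7, 11}, by decide, ?_, ?_⟩
    · intro a ha
      simp only [Finset.mem_insert, Finset.mem_singleton] at ha
      rcases ha with rfl | rfl | rfl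
      · exact ⟨by norm_num, by omega⟩
      · exact ⟨by norm_num, by omega⟩
      · exact ⟨by norm_num, by omega⟩
    · intro a ha b hb hab
      simp only [Finset.mem_insert, Finset.mem_singleton] at ha hb
      rcases ha with rfl | rfl | rfl <;> rcases hb with rfl | rfl | rfl <;> first | omega | (exfalso; exact hab rfl)
  -- `n ≥ 35`: Bertrand
  obtain ⟨p₁, hp₁, h1a, h1b⟩ := Nat.exists_prime_lt_and_le_two_mul (n / 2) (by omega)
  obtain ⟨p₂, hp₂, h2a, h2b⟩ := Nat.exists_prime_lt_and_le_two_mul (n / 4) (by omega)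
  obtain ⟨p₃, hp₃, h3a, h3b⟩ := Nat.exists_prime_lt_and_le_two_mul (n / 8) (by omega)
  have h21 : p₂ < p₁ := by omega
  have h32 : p₃ < p₂ := by omega
  have hu : 4 ≤ n / 8 := by omega
  have hn8 : n < 8 * (n / 8) + 8 := by omega
  have hp2 : 2 * (n / 8) + 1 ≤ p₂ := by omega
  have hp3 : n / 8 + 1 ≤ p₃ := by omega
  have h23 : n < p₃ * p₂ := by nlinarith
  have h13 : n < p₃ * p₁ := by nlinarith
  have h12 : n < p₂ * p₁ := by nlinarith
  refine ⟨{p₁, p₂, p₃}, ?_, ?_, ?_⟩
  · rw [Finset.card_insert_of_notMem, Finset.card_insert_of_notMem, Finset.card_singleton]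
    · simp only [Finset.mem_singleton]; omega
    · simp only [Finset.mem_insert, Finset.mem_singleton]; omega
  · intro a ha
    simp only [Finset.mem_insert, Finset.mem_singleton] at ha
    rcases ha with rfl | rfl | rfl
    · exact ⟨hp₁, by omega⟩
    · exact ⟨hp₂, by omega⟩
    · exact ⟨hp₃, by omega⟩
  · intro a ha b hb hab
    simp only [Finset.mem_insert, Finset.mem_singleton] at ha hb
    rcases ha with rfl | rfl | rfl <;> rcases hb with rfl | rfl | rfl <;>
      first | (exfalso; exact hab rfl) | (rw [mul_comm]; assumption) | assumption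

/-- If the set of element orders of a finite group G is {1, 2, …, n} with n ≥ 7, then G is not solvable. -/
theorem result {G : Type*} [Group G] [Finite G] (n : ℕ) (hn : 7 ≤ n) (h : Set.range (orderOf : G → ℕ) = {k : ℕ | 1 ≤ k ∧ k ≤ n}) : ¬ Group.IsSolvable G := by
  intro hsol
  obtain ⟨S, hS3, hSp, hSprod⟩ := exists_three_primes n hn
  have hdvd : ∀ a ∈ S, a.Prime ∧ a ∣ Nat.card G := by
    intro a ha
    refine ⟨(hSp a ha).1, ?_⟩
    have hmem : a ∈ Set.range (orderOf : G → ℕ) := by
      rw [h]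
      exact ⟨(hSp a ha).1.one_lt.le, (hSp a ha).2⟩
    obtain ⟨x, hx⟩ := hmem
    rw [← hx]
    exact orderOf_dvd_natCard x
  obtain ⟨x, a, ha, b, hb, hab, hx⟩ := Cfsg.Agent.Lib.H20.three_primes S hS3 hdvd
  have hmem : orderOf x ∈ Set.range (orderOf : G → ℕ) := ⟨x, rfl⟩
  rw [h] at hmem
  have := hSprod a ha b hb hab
  rw [hx] at hmem
  exact absurd hmem.2 (not_le.mpr this)

end Cfsg.Agent.S4002
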