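import Mathlib
import Cfsg.Prelude.Def_Transfer
import Cfsg.Agent.Lib.H23.BurnsidePQ
import Cfsg.Agent.Lib.H1.SolvableBasic
import Cfsg.Agent.Lib.H20.InvolutionSylow
import Cfsg.Agent.Lib.H20.SylowExtra
import Cfsg.Agent.Lib.L0.TransferPC
import Cfsg.Agent.Lib.H9.CoprimeGeneration

set_option autoImplicit false
open Cfsg

namespace Cfsg.Agent.S4005

open Cfsg.Agent.Lib.H20

variable {G : Type*} [Group G]

/-- a group in which `t` inverts every element of `K` is abelian on `K` -/
theorem comm_of_inverted (K : Subgroup G) (t : G) (hinv : ∀ a ∈ K, t * a * t⁻¹ = a⁻¹)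
    (a b : G) (ha : a ∈ K) (hb : b ∈ K) : a * b = b * a := by
  have h1 := hinv (a * b) (K.mul_mem ha hb)
  have h2 : t * (a * b) * t⁻¹ = (t * a * t⁻¹) * (t * b * t⁻¹) := by group
  rw [h2, hinv a ha, hinv b hb] at h1
  -- a⁻¹ b⁻¹ = (ab)⁻¹ = b⁻¹ a⁻¹
  have h3 : a⁻¹ * b⁻¹ = b⁻¹ * a⁻¹ := by rw [h1]; group
  have h4 : (a⁻¹ * b⁻¹)⁻¹ = (b⁻¹ * a⁻¹)⁻¹ := by rw [h3]
  simpa using h4.symm


structure Hyp (G : Type*) [Group G] : Prop where
  ord : ∀ x : G, orderOf x = 1 ∨ orderOf x = 2 ∨ orderOf x = 3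
  ex2 : ∃ t : G, orderOf t = 2
  ex3 : ∃ w : G, orderOf w = 3

namespace Hyp

theorem no6 (H : Hyp G) {x t : G} (hx : orderOf x = 3) (ht : orderOf t = 2) : x * t ≠ t * x := by
  intro hcomm
  have hc : Commute x t := hcomm
  have h6 : orderOf (x * t) = 3 * 2 := by
    rw [← hx, ← ht]
    exact hc.orderOf_mul_eq_mul_orderOf_of_coprime (by rw [hx, ht]; norm_num)
  rcases H.ord (x * t) with h | h | h <;> omega

theorem prime_dvd [Finite G] (H : Hyp G) {q : ℕ} (hq : q.Prime) (hqG : q ∣ Nat.card G) :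
    q = 2 ∨ q = 3 := by
  haveI : Fact q.Prime := ⟨hq⟩
  obtain ⟨x, hx⟩ := exists_prime_orderOf_dvd_card' q hqG
  rcases H.ord x with h | h | h
  · rw [hx] at h; exact absurd h hq.one_lt.ne'
  · left; rw [← hx, h]
  · right; rw [← hx, h]

theorem card_eq [Finite G] (H : Hyp G) : ∃ a b : ℕ, Nat.card G = 2 ^ a * 3 ^ b := by
  have hn0 : Nat.card G ≠ 0 := Nat.card_pos.ne'
  refine ⟨(Nat.card G).factorization 2, ?_⟩
  have h1 := Nat.ordProj_mul_ordCompl_eq_self (Nat.card G) 2
  have hall : ∀ {d : ℕ}, d.Prime → d ∣ Nat.card G / 2 ^ (Nat.card G).factorization 2 → d = 3 := by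
    intro d hd hdd
    rcases H.prime_dvd hd (hdd.trans (Nat.ordCompl_dvd _ _)) with h | h
    · exfalso
      rw [h] at hdd
      exact Nat.not_dvd_ordCompl Nat.prime_two hn0 hdd
    · exact h
  have h2 := Nat.eq_prime_pow_of_unique_prime_dvd
    (Nat.div_pos (Nat.ordProj_le 2 hn0) (Nat.ordProj_pos _ _)).ne' hall
  refine ⟨(Nat.card G / 2 ^ (Nat.card G).factorization 2).primeFactorsList.length, ?_⟩
  rw [← h2]
  exact h1.symm

theorem solvable [Finite G] (H : Hyp G) : Group.IsSolvable G := by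
  obtain ⟨a, b, hab⟩ := H.card_eq
  exact Cfsg.Agent.Lib.H23.isSolvable_of_card_eq_prime_pow_mul_prime_pow 2 3 a b Nat.prime_two
    Nat.prime_three hab

/-- elements of a `2`-subgroup have order at most 2 -/
theorem sq_eq_one_of_isPGroup (H : Hyp G) (S : Subgroup G) (hS : IsPGroup 2 S) {x : G}
    (hx : x ∈ S) : x * x = 1 := by
  obtain ⟨k, hk⟩ := (IsPGroup.iff_orderOf.mp hS) ⟨x, hx⟩
  rw [Subgroup.orderOf_mk] at hk
  rcases H.ord x with h | h | h
  · rw [orderOf_eq_one_iff] at h; rw [h, one_mul]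
  · rw [← pow_two, ← h]; exact pow_orderOf_eq_one x
  · exfalso
    rw [h] at hk
    have : 3 ∣ 2 ^ k := by rw [← hk]
    have := Nat.Prime.dvd_of_dvd_pow Nat.prime_three this
    omega

/-- elements of a `3`-subgroup have order dividing 3 -/
theorem cube_eq_one_of_isPGroup (H : Hyp G) (S : Subgroup G) (hS : IsPGroup 3 S) {x : G}
    (hx : x ∈ S) : x ^ 3 = 1 := by
  obtain ⟨k, hk⟩ := (IsPGroup.iff_orderOf.mp hS) ⟨x, hx⟩
  rw [Subgroup.orderOf_mk] at hk
  rcases H.ord x with h | h | h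
  · rw [orderOf_eq_one_iff] at h; rw [h, one_pow]
  · exfalso
    rw [h] at hk
    have : 2 ∣ 3 ^ k := by rw [← hk]
    have := Nat.Prime.dvd_of_dvd_pow Nat.prime_two this
    omega
  · rw [← h]; exact pow_orderOf_eq_one x

/-- in a subgroup of exponent 2 elements commute -/
theorem comm_of_sq (x y : G) (hx : x * x = 1) (hy : y * y = 1) (hxy : (x * y) * (x * y) = 1) :
    x * y = y * x := by
  have hxi : x⁻¹ = x := inv_eq_of_mul_eq_one_left hx
  have hyi : y⁻¹ = y := inv_eq_of_mul_eq_one_left hy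
  have h1 : (x * y)⁻¹ = x * y := inv_eq_of_mul_eq_one_left hxy
  rw [mul_inv_rev, hxi, hyi] at h1
  exact h1.symm

end Hyp


open Cfsg.Agent.Lib.L0

instance : Fact (Nat.Prime 2) := ⟨Nat.prime_two⟩
instance : Fact (Nat.Prime 3) := ⟨Nat.prime_three⟩

theorem sq_of_order2 {t : G} (ht : orderOf t = 2) : t * t = 1 := by
  rw [← pow_two, ← ht]; exact pow_orderOf_eq_one t

theorem order2_of_sq {t : G} (h : t * t = 1) (ht : t ≠ 1) : orderOf t = 2 :=
  orderOf_eq_prime (by rw [pow_two]; exact h) ht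

theorem order3_of_cube {x : G} (h : x ^ 3 = 1) (hx : x ≠ 1) : orderOf x = 3 :=
  orderOf_eq_prime h hx

theorem comm_of_conj_eq {t r : G} (h : t * r * t⁻¹ = r) : r * t = t * r := by
  calc r * t = (t * r * t⁻¹) * t := by rw [h]
    _ = t * r := by group

theorem case3 [Finite G] (H : Hyp G) (R : Subgroup G) [hRn : R.Normal] (hR : IsPGroup 3 R)
    (hRne : R ≠ ⊥) :
    ∃ N : Subgroup G, N.Normal ∧ Cfsg.IsElementaryAbelian 3 N ∧ N.index = 2 := by
  classical
  obtain ⟨t₀, ht₀⟩ := H.ex2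
  -- each involution inverts R
  have hinvR : ∀ t : G, orderOf t = 2 → ∀ a ∈ R, t * a * t⁻¹ = a⁻¹ := by
    intro t ht
    apply inverts_of_fpf R t (sq_of_order2 ht) (fun b hb => hRn.conj_mem b hb t)
    intro r hr hfix
    by_contra hr1
    exact H.no6 (order3_of_cube (H.cube_eq_one_of_isPGroup R hR hr) hr1) ht (comm_of_conj_eq hfix)
  obtain ⟨m, hmR, hm1⟩ : ∃ m ∈ R, m ≠ 1 := by
    obtain ⟨m, hm⟩ := Subgroup.ne_bot_iff_exists_ne_one.mp hRne
    exact ⟨m, m.2, fun h => hm (Subtype.ext h)⟩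
  have hm3 : orderOf m = 3 := order3_of_cube (H.cube_eq_one_of_isPGroup R hR hmR) hm1
  -- commuting involutions are equal
  have hcomm_eq : ∀ s t : G, orderOf s = 2 → orderOf t = 2 → s * t = t * s → s = t := by
    intro s t hs ht hst
    by_contra hne
    have hst2 : orderOf (s * t) = 2 := by
      apply order2_of_sq
      · calc s * t * (s * t) = s * (t * s) * t := by group
          _ = s * (s * t) * t := by rw [hst]
          _ = (s * s) * (t * t) := by group
          _ = 1 := by rw [sq_of_order2 hs, sq_of_order2 ht, one_mul]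
      · intro h
        apply hne
        have h1 : s = t⁻¹ := eq_inv_of_mul_eq_one_left h
        rw [h1]
        exact inv_eq_of_mul_eq_one_left (sq_of_order2 ht)
    apply H.no6 hm3 hst2
    have h1 := hinvR s hs m hmR
    have h2 := hinvR t ht m hmR
    have h3 : (s * t) * m * (s * t)⁻¹ = m := by
      calc (s * t) * m * (s * t)⁻¹ = s * (t * m * t⁻¹) * s⁻¹ := by group
        _ = s * m⁻¹ * s⁻¹ := by rw [h2]
        _ = (s * m * s⁻¹)⁻¹ := by group
        _ = m := by rw [h1, inv_inv]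
    exact comm_of_conj_eq h3
  -- Sylow 2-subgroup has order 2
  obtain ⟨S⟩ : Nonempty (Sylow 2 G) := inferInstance
  have h2G : 2 ∣ Nat.card G := by rw [← ht₀]; exact orderOf_dvd_natCard t₀
  obtain ⟨t, htS, ht1⟩ : ∃ t ∈ S, t ≠ 1 := by
    have hne : (S : Subgroup G) ≠ ⊥ := S.ne_bot_of_dvd_card h2G
    obtain ⟨m, hm⟩ := Subgroup.ne_bot_iff_exists_ne_one.mp hne
    exact ⟨m, m.2, fun h => hm (Subtype.ext h)⟩
  have hsqS : ∀ x ∈ S, x * x = 1 := fun x hx => H.sq_eq_one_of_isPGroup S S.isPGroup' hx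
  have ht2 : orderOf t = 2 := order2_of_sq (hsqS t htS) ht1
  have hSmem : ∀ x ∈ S, x = 1 ∨ x = t := by
    intro x hx
    by_cases hx1 : x = 1
    · left; exact hx1
    · right
      apply hcomm_eq x t (order2_of_sq (hsqS x hx) hx1) ht2
      exact Hyp.comm_of_sq x t (hsqS x hx) (hsqS t htS) (hsqS _ (Subgroup.mul_mem _ hx htS))
  have hNC : Subgroup.normalizer ((S : Subgroup G) : Set G) ≤
      Subgroup.centralizer ((S : Subgroup G) : Set G) := by
    intro g hg
    rw [Subgroup.mem_centralizer_iff]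
    intro x hx
    rcases hSmem x hx with rfl | rfl
    · simp
    · have h1 : g * x * g⁻¹ ∈ (S : Subgroup G) := (Subgroup.mem_normalizer_iff.mp hg x).mp htS
      rcases hSmem _ h1 with h | h
      · exfalso
        apply ht1
        have e : x = g⁻¹ * (g * x * g⁻¹) * g := by group
        rw [e, h]; group
      · exact comm_of_conj_eq h
  obtain ⟨K, hKn, hKc⟩ := HasNormalPComplement.forall_sylow
    (hasNormalPComplement_of_normalizer_le_centralizer S hNC) S
  have hKodd : ∀ a ∈ K, a ^ 3 = 1 := by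
    intro a ha
    rcases H.ord a with h | h | h
    · rw [orderOf_eq_one_iff.mp h, one_pow]
    · exfalso
      have h2K : 2 ∣ Nat.card K := by
        have := orderOf_dvd_natCard (⟨a, ha⟩ : K)
        rwa [Subgroup.orderOf_mk, h] at this
      have hidx : (S : Subgroup G).index = Nat.card K := hKc.index_eq_card
      exact S.not_dvd_index (hidx ▸ h2K)
    · rw [← h]; exact pow_orderOf_eq_one a
  have hinvK : ∀ a ∈ K, t * a * t⁻¹ = a⁻¹ := by
    apply inverts_of_fpf K t (sq_of_order2 ht2) (fun b hb => hKn.conj_mem b hb t)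
    intro r hr hfix
    by_contra hr1
    exact H.no6 (order3_of_cube (hKodd r hr) hr1) ht2 (comm_of_conj_eq hfix)
  refine ⟨K, hKn, ⟨⟨⟨fun a b => Subtype.ext (comm_of_inverted K t hinvK a b a.2 b.2)⟩⟩, hKodd⟩, ?_⟩
  rw [hKc.symm.index_eq_card, Nat.card_eq_two_iff' (1 : (S : Subgroup G))]
  refine ⟨⟨t, htS⟩, fun h => ht1 (congrArg Subtype.val h), ?_⟩
  intro y hy
  rcases hSmem y y.2 with h | h
  · exact absurd (Subtype.ext h) hy
  · exact Subtype.ext h


theorem case2 [Finite G] (H : Hyp G) (R : Subgroup G) [hRn : R.Normal] (hR : IsPGroup 2 R)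
    (hRne : R ≠ ⊥) :
    ∃ N : Subgroup G, N.Normal ∧ Cfsg.IsElementaryAbelian 2 N ∧ N.index = 3 := by
  classical
  obtain ⟨S⟩ : Nonempty (Sylow 2 G) := inferInstance
  have hsqS : ∀ x ∈ S, x * x = 1 := fun x hx => H.sq_eq_one_of_isPGroup S S.isPGroup' hx
  have hScomm : ∀ x ∈ S, ∀ y ∈ S, x * y = y * x := fun x hx y hy =>
    Hyp.comm_of_sq x y (hsqS x hx) (hsqS y hy) (hsqS _ (Subgroup.mul_mem _ hx hy))
  have hRS : R ≤ (S : Subgroup G) := by
    apply le_sylow_of_le_normalizer S R hR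
    rw [Subgroup.normalizer_eq_top]; exact le_top
  set C := Subgroup.centralizer (R : Set G) with hC
  have hSC : (S : Subgroup G) ≤ C := by
    intro x hx
    rw [hC, Subgroup.mem_centralizer_iff]
    intro r hr
    exact hScomm r (hRS hr) x hx
  obtain ⟨m, hmR, hm1⟩ : ∃ m ∈ R, m ≠ 1 := by
    obtain ⟨m, hm⟩ := Subgroup.ne_bot_iff_exists_ne_one.mp hRne
    exact ⟨m, m.2, fun h => hm (Subtype.ext h)⟩
  have hm2 : orderOf m = 2 := order2_of_sq (hsqS m (hRS hmR)) hm1
  have hCp : IsPGroup 2 C := by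
    intro c
    rcases H.ord (c : G) with h | h | h
    · refine ⟨0, ?_⟩
      rw [orderOf_eq_one_iff] at h
      apply Subtype.ext
      simpa using h
    · refine ⟨1, ?_⟩
      apply Subtype.ext
      have := sq_of_order2 h
      simp only [pow_one, Subgroup.coe_pow, Subgroup.coe_one]
      rw [pow_two]; exact this
    · exfalso
      apply H.no6 h hm2
      have hc2 : (c : G) ∈ Subgroup.centralizer (R : Set G) := c.2
      rw [Subgroup.mem_centralizer_iff] at hc2
      exact (hc2 m hmR).symm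
  have hCS : C = (S : Subgroup G) := S.is_maximal' hCp hSC
  have hCn : C.Normal := by rw [hC]; infer_instance
  have hSn : (S : Subgroup G).Normal := hCS ▸ hCn
  refine ⟨S, hSn, ⟨⟨⟨fun a b => Subtype.ext (hScomm a a.2 b b.2)⟩⟩,
    fun a ha => by rw [pow_two]; exact hsqS a ha⟩, ?_⟩
  -- the index
  have hn9 : ¬ 9 ∣ Nat.card G := by
    intro h9
    obtain ⟨A, hA⟩ := Sylow.exists_subgroup_card_pow_prime 3 (n := 2) (by simpa using h9)
    have hAp : IsPGroup 3 A := IsPGroup.of_card hA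
    have hAcomm : ∀ a b : A, a * b = b * a := IsPGroup.commutative_of_card_eq_prime_sq hA
    have hAcube : ∀ a ∈ A, a ^ 3 = 1 := fun a ha => H.cube_eq_one_of_isPGroup A hAp ha
    obtain ⟨x, hxA, hx1⟩ : ∃ x ∈ A, x ≠ 1 := by
      have hne : A ≠ ⊥ := by
        intro h
        rw [h, Subgroup.card_bot] at hA
        norm_num at hA
      obtain ⟨m, hm⟩ := Subgroup.ne_bot_iff_exists_ne_one.mp hne
      exact ⟨m, m.2, fun h => hm (Subtype.ext h)⟩
    have hx3 : orderOf x = 3 := order3_of_cube (hAcube x hxA) hx1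
    obtain ⟨y, hyA, hyx⟩ : ∃ y ∈ A, y ∉ Subgroup.zpowers x := by
      by_contra hcon
      push Not at hcon
      have hle : A ≤ Subgroup.zpowers x := fun y hy => hcon y hy
      have := Subgroup.card_le_of_le hle
      rw [hA, Nat.card_zpowers, hx3] at this
      norm_num at this
    have hact : Cfsg.Agent.Lib.H1.CoprimeAction A (S : Subgroup G) := by
      refine ⟨?_, ?_, Or.inl ?_⟩
      · rw [Subgroup.normalizer_eq_top]; exact le_top
      · rw [hA]
        obtain ⟨k, hk⟩ := S.isPGroup'.exists_card_eq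
        rw [hk]
        exact Nat.Coprime.pow 2 k (by norm_num)
      · exact isSolvable_of_comm hAcomm
    have hScop : (Nat.card (S : Subgroup G)).Coprime 3 := by
      obtain ⟨k, hk⟩ := S.isPGroup'.exists_card_eq
      rw [hk]
      exact Nat.Coprime.pow_left k (by norm_num)
    have hfree : ∀ z : G, orderOf z = 3 →
        (S : Subgroup G) ⊓ Subgroup.centralizer ({z} : Set G) ≤ ⊥ := by
      intro z hz s hs
      rw [Subgroup.mem_inf, Subgroup.mem_centralizer_singleton_iff] at hs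
      rw [Subgroup.mem_bot]
      by_contra hs1
      exact H.no6 hz (order2_of_sq (hsqS s hs.1) hs1) hs.2.symm
    have hxy : x * y = y * x := by
      have := hAcomm ⟨x, hxA⟩ ⟨y, hyA⟩
      exact congrArg Subtype.val this
    have hSbot : (S : Subgroup G) ≤ ⊥ := by
      apply Cfsg.Agent.Lib.H9.le_of_centralizers_le (p := 3) hact hScop hxA hyA hxy
        (hAcube x hxA) (hAcube y hyA) (hfree x hx3)
      intro i
      apply hfree
      apply order3_of_cube (hAcube _ (A.mul_mem (A.pow_mem hxA i) hyA))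
      intro h1
      apply hyx
      have : y = (x ^ i)⁻¹ := eq_inv_of_mul_eq_one_right h1
      rw [this]
      exact Subgroup.inv_mem _ (Subgroup.pow_mem _ (Subgroup.mem_zpowers x) i)
    apply hm1
    have := hSbot (hRS hmR)
    rwa [Subgroup.mem_bot] at this
  have hall : ∀ {d : ℕ}, d.Prime → d ∣ (S : Subgroup G).index → d = 3 := by
    intro d hd hdd
    rcases H.prime_dvd hd (hdd.trans (Subgroup.index_dvd_card _)) with h | h
    · exfalso
      rw [h] at hdd
      exact S.not_dvd_index hdd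
    · exact h
  have hidx0 : (S : Subgroup G).index ≠ 0 := Subgroup.index_ne_zero_of_finite
  have hpow := Nat.eq_prime_pow_of_unique_prime_dvd hidx0 hall
  set j := ((S : Subgroup G).index).primeFactorsList.length with hj
  have hj1 : j ≠ 0 := by
    intro h0
    rw [h0, pow_zero, Subgroup.index_eq_one] at hpow
    obtain ⟨w, hw⟩ := H.ex3
    have hwS : w ∈ (S : Subgroup G) := by rw [hpow]; exact Subgroup.mem_top w
    have := hsqS w hwS
    have h2 : orderOf w ∣ 2 := orderOf_dvd_of_pow_eq_one (by rw [pow_two]; exact this)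
    rw [hw] at h2
    norm_num at h2
  have hj2 : j < 2 := by
    by_contra hcon
    push Not at hcon
    apply hn9
    have h1 : 3 ^ 2 ∣ (S : Subgroup G).index := by
      rw [hpow]; exact pow_dvd_pow 3 hcon
    exact (by simpa using h1 : 9 ∣ (S : Subgroup G).index).trans (Subgroup.index_dvd_card _)
  have : j = 1 := by omega
  rw [hpow, this, pow_one]

/-- A finite group whose set of element orders is exactly {1, 2, 3} has either a normal elementary abelian 3-subgroup of index 2 or a normal elementary abelian 2-subgroup of index 3. -/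
theorem result {G : Type*} [Group G] [Finite G] (h : Set.range (orderOf : G → ℕ) = {k : ℕ | 1 ≤ k ∧ k ≤ 3}) :
    (∃ N : Subgroup G, N.Normal ∧ Cfsg.IsElementaryAbelian 3 N ∧ N.index = 2) ∨
      (∃ N : Subgroup G, N.Normal ∧ Cfsg.IsElementaryAbelian 2 N ∧ N.index = 3) := by
  have H : Hyp G := by
    refine ⟨?_, ?_, ?_⟩
    · intro x
      have : orderOf x ∈ Set.range (orderOf : G → ℕ) := ⟨x, rfl⟩
      rw [h] at this
      obtain ⟨h1, h2⟩ := this
      omega
    · have : (2 : ℕ) ∈ Set.range (orderOf : G → ℕ) := by rw [h]; constructor <;> norm_num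
      exact this
    · have : (3 : ℕ) ∈ Set.range (orderOf : G → ℕ) := by rw [h]; constructor <;> norm_num
      exact this
  haveI := H.solvable
  haveI : Nontrivial G := by
    obtain ⟨t, ht⟩ := H.ex2
    refine ⟨⟨t, 1, ?_⟩⟩
    intro h1
    rw [h1, orderOf_one] at ht
    norm_num at ht
  obtain ⟨p, hp, R, hRn, hRp, hRne⟩ := Cfsg.Agent.Lib.H1.exists_normal_isPGroup_ne_bot_of_isSolvable (G := G)
  have hpG : p ∣ Nat.card G := by
    have h1 : Nat.card R ≠ 1 := fun h => hRne (Subgroup.card_eq_one.mp h)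
    obtain ⟨k, hk⟩ := hRp.exists_card_eq
    have hk0 : k ≠ 0 := by
      intro h0; rw [h0, pow_zero] at hk; exact h1 hk
    have : p ∣ Nat.card R := by rw [hk]; exact dvd_pow_self p hk0
    exact this.trans (Subgroup.card_subgroup_dvd_card R)
  rcases H.prime_dvd hp.out hpG with h2 | h3
  · subst h2
    right
    exact case2 H R hRp hRne
  · subst h3
    left
    exact case3 H R hRp hRne

end Cfsg.Agent.S4005
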