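import Cfsg.Statements.S4006
import Cfsg.Agent.Lib.H20.Ord1234_7

set_option autoImplicit false
open Cfsg

namespace Cfsg.Agent.S4006

/-- A finite group whose set of element orders is exactly {1, 2, 3, 4} has a normal subgroup N such that either N is a 2-group of exponent 4 and nilpotency class at most 2 with G/N of order 3, or N is an elementary abelian 2-group with G/N isomorphic to the symmetric group of degree 3, or N is an elementary abelian 3-group with G/N cyclic of order 4 or quaternion of order 8. -/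
theorem result {G : Type*} [Group G] [Finite G] (h : Set.range (orderOf : G → ℕ) = {k : ℕ | 1 ≤ k ∧ k ≤ 4}) :
    ∃ (N : Subgroup G) (_ : N.Normal),
      (IsPGroup 2 ↥N ∧ Monoid.exponent ↥N = 4 ∧ Group.nilpotencyClass ↥N ≤ 2 ∧ N.index = 3) ∨
      (Cfsg.IsElementaryAbelian 2 N ∧ Nonempty (G ⧸ N ≃* Equiv.Perm (Fin 3))) ∨
      (Cfsg.IsElementaryAbelian 3 N ∧ ((IsCyclic (G ⧸ N) ∧ N.index = 4) ∨ Nonempty (G ⧸ N ≃* QuaternionGroup 2))) := by
  classical
  have hmem : ∀ g : G, 1 ≤ orderOf g ∧ orderOf g ≤ 4 := by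
    intro g
    have : orderOf g ∈ Set.range (orderOf : G → ℕ) := ⟨g, rfl⟩
    rw [h] at this
    exact this
  have hO : Cfsg.Agent.Lib.H20.O4.Ord4 G := by
    intro g
    obtain ⟨h1, h4⟩ := hmem g
    have hp := pow_orderOf_eq_one g
    obtain ⟨k, hk⟩ : ∃ k, k = orderOf g := ⟨_, rfl⟩
    rw [← hk] at h1 h4 hp
    interval_cases k
    · left; rw [pow_one] at hp; rw [hp, one_pow]
    · left; exact hp
    · right; left; exact hp
    · right; right; exact hp
  have hex : ∀ k : ℕ, 1 ≤ k → k ≤ 4 → ∃ g : G, orderOf g = k := by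
    intro k h1 h4
    have : k ∈ Set.range (orderOf : G → ℕ) := by rw [h]; exact ⟨h1, h4⟩
    exact this
  obtain ⟨z, hz⟩ := hex 2 (by norm_num) (by norm_num)
  obtain ⟨x3, hx3⟩ := hex 3 (by norm_num) (by norm_num)
  obtain ⟨g4, hg4⟩ := hex 4 (by norm_num) (by norm_num)
  have hz2 : z ^ 2 = 1 := by rw [← hz]; exact pow_orderOf_eq_one z
  have hz1 : z ≠ 1 := by
    intro hh; rw [hh, orderOf_one] at hz; omega
  have hx33 : x3 ^ 3 = 1 := by rw [← hx3]; exact pow_orderOf_eq_one x3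
  have hx31 : x3 ≠ 1 := by
    intro hh; rw [hh, orderOf_one] at hx3; omega
  have hg44 : g4 ^ 4 = 1 := by rw [← hg4]; exact pow_orderOf_eq_one g4
  have hg42 : g4 ^ 2 ≠ 1 := by
    apply pow_ne_one_of_lt_orderOf (by norm_num)
    rw [hg4]; norm_num
  by_cases hB : ∃ K : Subgroup G, K.Normal ∧ IsPGroup 2 K ∧ K ≠ ⊥
  · obtain ⟨K, hKn, hK2, hK1⟩ := hB
    obtain ⟨N, hNn, hcase⟩ := Cfsg.Agent.Lib.H20.O4.caseB hO hK2 hK1 hx31 hx33 hg4
    refine ⟨N, hNn, ?_⟩
    rcases hcase with hc | ⟨hsq, hφ⟩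
    · left; exact hc
    · right; left
      refine ⟨⟨⟨⟨fun a b => ?_⟩⟩, hsq⟩, hφ⟩
      have hinv : ∀ n : N, n⁻¹ = n := by
        intro n
        apply inv_eq_of_mul_eq_one_left
        apply Subtype.ext
        have := hsq n n.2
        rw [pow_two] at this
        exact this
      calc a * b = (a * b)⁻¹ := (hinv _).symm
        _ = b⁻¹ * a⁻¹ := mul_inv_rev a b
        _ = b * a := by rw [hinv a, hinv b]
  · have hO2 : ∀ K : Subgroup G, K.Normal → IsPGroup 2 K → K = ⊥ := by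
      intro K hKn hK2
      by_contra hK1
      exact hB ⟨K, hKn, hK2, hK1⟩
    haveI := hO.isSolvable
    obtain ⟨N, hNn, hab, hexp, hcase⟩ := Cfsg.Agent.Lib.H20.O4.caseA hO hO2 hz1 hz2 hg42 hg44
    refine ⟨N, hNn, Or.inr (Or.inr ⟨⟨⟨⟨fun a b => Subtype.ext (hab a a.2 b b.2)⟩⟩, hexp⟩, hcase⟩)⟩

end Cfsg.Agent.S4006
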