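import Cfsg.Statements.S4013
import Mathlib

set_option autoImplicit false
open Cfsg

namespace Cfsg.Agent.S4013

theorem arith (p a b j : ℕ) (hp : p.Prime) (hab : a < b) (h : p ^ b - p ^ a = p ^ j) :
    p = 2 ∧ b = a + 1 := by
  obtain ⟨d, rfl⟩ : ∃ d, b = a + d + 1 := ⟨b - a - 1, by omega⟩
  have hp1 : 1 < p := hp.one_lt
  have hp0 : 0 < p := hp.pos
  have h1 : p ^ (a + d + 1) - p ^ a = p ^ a * (p ^ (d + 1) - 1) := by
    rw [Nat.mul_sub, mul_one, ← pow_add]
    congr 1
  rw [h1] at h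
  have hpos : 0 < p ^ (d + 1) - 1 := by
    have : 1 < p ^ (d + 1) := Nat.one_lt_pow (by omega) hp1
    omega
  -- p^a ∣ p^j so a ≤ j
  have haj : a ≤ j := by
    by_contra hlt
    rw [not_le] at hlt
    have : p ^ j < p ^ a := Nat.pow_lt_pow_right hp1 hlt
    have h2 : p ^ a ≤ p ^ a * (p ^ (d + 1) - 1) := Nat.le_mul_of_pos_right _ hpos
    omega
  obtain ⟨e, rfl⟩ : ∃ e, j = a + e := ⟨j - a, by omega⟩
  have h' : p ^ a * (p ^ (d + 1) - 1) = p ^ a * p ^ e := by rw [h, pow_add]
  have h3 : p ^ (d + 1) - 1 = p ^ e := Nat.eq_of_mul_eq_mul_left (pow_pos hp0 a) h'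
  -- p does not divide p^(d+1) - 1
  have he : e = 0 := by
    by_contra hne
    have hdiv : p ∣ p ^ e := dvd_pow_self p hne
    rw [← h3] at hdiv
    have hdiv2 : p ∣ p ^ (d + 1) := dvd_pow_self p (by omega)
    have : p ∣ 1 := by
      have := (Nat.dvd_sub (m := p ^ (d + 1)) (n := p ^ (d + 1) - 1) hdiv2 hdiv)
      have h4 : p ^ (d + 1) - (p ^ (d + 1) - 1) = 1 := by omega
      rwa [h4] at this
    have := Nat.le_of_dvd one_pos this
    omega
  subst he
  simp only [pow_zero] at h3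
  have h5 : p ^ (d + 1) = 2 := by omega
  have hd : d = 0 := by
    by_contra hne
    have : p ^ 2 ≤ p ^ (d + 1) := Nat.pow_le_pow_right hp0 (by omega)
    have : 4 ≤ p ^ 2 := by nlinarith
    omega
  subst hd
  simp at h5
  exact ⟨h5, rfl⟩

/-- Let G be a finite p-group (p prime) and N < M normal subgroups of G such that for some g ∈ M ∖ N the conjugacy class of g is exactly M ∖ N. Then p = 2 and N has index 2 in M. -/
theorem result {G : Type*} [Group G] [Finite G] (p : ℕ) [Fact p.Prime] (hG : IsPGroup p G) (N M : Subgroup G) [N.Normal] [M.Normal] (hNM : N < M) (g : G) (hgM : g ∈ M) (hgN : g ∉ N) (hcl : {h : G | IsConj g h} = (M : Set G) \ (N : Set G)) : p = 2 ∧ N.relIndex M = 2 := by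
  have hp : p.Prime := Fact.out
  -- class size is a power of p
  have hG' : IsPGroup p (ConjAct G) := hG
  obtain ⟨j, hj⟩ := hG'.card_orbit (α := G) g
  have horb : (MulAction.orbit (ConjAct G) g) = {h : G | IsConj g h} := by
    ext h
    rw [ConjAct.mem_orbit_conjAct, Set.mem_ofPred_eq, isConj_comm]
  rw [horb, hcl] at hj
  obtain ⟨a, ha⟩ := IsPGroup.iff_card.mp (hG.to_subgroup N)
  obtain ⟨b, hb⟩ := IsPGroup.iff_card.mp (hG.to_subgroup M)
  have hsub : (N : Set G) ⊆ (M : Set G) := hNM.le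
  have hcard : Nat.card ↑((M : Set G) \ (N : Set G)) = p ^ b - p ^ a := by
    rw [Nat.card_coe_set_eq, Set.ncard_sdiff hsub (Set.toFinite _)]
    rw [← Nat.card_coe_set_eq, ← Nat.card_coe_set_eq]
    change Nat.card M - Nat.card N = _
    rw [ha, hb]
  rw [hcard] at hj
  have hab : a < b := by
    have hlt : Nat.card N < Nat.card M := by
      have hne : N ≠ M := hNM.ne
      have hle := Subgroup.card_le_of_le hNM.le
      rcases hle.lt_or_eq with h | h
      · exact h
      · exact absurd (Subgroup.eq_of_le_of_card_ge hNM.le h.ge) hne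
    rw [ha, hb] at hlt
    exact (Nat.pow_lt_pow_iff_right hp.one_lt).mp hlt
  obtain ⟨h2, hb'⟩ := arith p a b j hp hab hj
  refine ⟨h2, ?_⟩
  have hrel : N.relIndex M * Nat.card N = Nat.card M := by
    have := Subgroup.relIndex_mul_relIndex (⊥ : Subgroup G) N M bot_le hNM.le
    rw [Subgroup.relIndex_bot_left, Subgroup.relIndex_bot_left] at this
    rw [mul_comm]; exact this
  rw [ha, hb, hb', pow_succ] at hrel
  have : N.relIndex M = p := by
    have hpos : 0 < p ^ a := pow_pos hp.pos a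
    rw [mul_comm (p ^ a) p] at hrel
    exact Nat.eq_of_mul_eq_mul_right hpos hrel
  rw [this, h2]

end Cfsg.Agent.S4013
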