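import Cfsg.Statements.S4015
import Cfsg.Agent.Lib.H18.LinPGroupDLp2
import Cfsg.Agent.Lib.H18.LinWreath

set_option autoImplicit false
open Cfsg

namespace Cfsg.Agent.S4015

open Cfsg.Agent.Lib.H18

/-- Let p be an odd prime, F a finite field with q elements where p does not divide q, and e the multiplicative order of q modulo p. Let n ≥ e and write w = ⌊n/e⌋ and k = ⌊log_p w⌋. Then a Sylow p-subgroup of GL(n, F) has derived length exactly k + 1: its (k+1)-st derived subgroup is trivial and its k-th is not. -/
theorem result (p : ℕ) [Fact p.Prime] (hp : p ≠ 2) (F : Type*) [Field F] [Fintype F] (q : ℕ) (hq : Fintype.card F = q) (hpq : ¬ p ∣ q) (n : ℕ) (hn : orderOf (q : ZMod p) ≤ n) (P : Sylow p (Matrix.GeneralLinearGroup (Fin n) F)) : derivedSeries ↥(P : Subgroup (Matrix.GeneralLinearGroup (Fin n) F)) (Nat.log p (n / orderOf (q : ZMod p)) + 1) = ⊥ ∧ derivedSeries ↥(P : Subgroup (Matrix.GeneralLinearGroup (Fin n) F)) (Nat.log p (n / orderOf (q : ZMod p))) ≠ ⊥ := by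
  subst hq
  have hpF : (p : F) ≠ 0 := by
    intro h0
    apply hpq
    have h1 : ringChar F ∣ p := (ringChar.spec F p).1 h0
    have h2 : ringChar F = p := by
      rcases (Nat.dvd_prime (Fact.out : p.Prime)).1 h1 with h | h
      · exact absurd h (CharP.ringChar_ne_one)
      · exact h
    have h3 : ((Fintype.card F : ℕ) : F) = 0 := FiniteField.cast_card_eq_zero F
    have h4 := (ringChar.spec F (Fintype.card F)).1 h3
    rw [h2] at h4
    exact h4
  have hcard : Nat.card F = Fintype.card F := Nat.card_eq_fintype_card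
  have key := exists_orderOf_eq_prime_GL (F := F) p hpq
  set e := orderOf ((Fintype.card F : ℕ) : ZMod p) with he
  have hepos : 0 < e := key.1
  constructor
  · have h1 := derivedSeries_le_ker_finite_p (K := F) p hpF P.isPGroup' n (Fin n → F)
      (glRep (P : Subgroup (GL (Fin n) F)).subtype) (by simp)
    rw [glRep_ker', Subgroup.ker_subtype, hcard, ← he] at h1
    unfold finDLp at h1
    rw [if_neg (not_lt.2 hn)] at h1
    exact le_bot_iff.1 h1
  · apply derivedSeries_sylow_GL_ne_bot p hpq n _ _ P
    rw [← he]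
    have h1 : n / e ≠ 0 := by
      have : 1 ≤ n / e := (Nat.one_le_div_iff hepos).2 hn
      omega
    calc e * p ^ Nat.log p (n / e) ≤ e * (n / e) :=
          Nat.mul_le_mul_left e (Nat.pow_log_le_self p h1)
      _ ≤ n := Nat.mul_div_le n e

end Cfsg.Agent.S4015
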