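import Cfsg.Statements.S4024
import Cfsg.Agent.Lib.H22.EqualOrderConj
import Cfsg.Agent.S4023

set_option autoImplicit false
open Cfsg

namespace Cfsg.Agent.S4024

open Cfsg.Agent.Lib.H22

/-- Let p be an odd prime and G a finite group in which any two p-subgroups of the same order are conjugate, with Sylow p-subgroup P. If H is a normal p-solvable subgroup of G whose order is divisible by p, then P is abelian, and either P ≤ H or P is cyclic. -/
theorem result {G : Type*} [Group G] [Finite G]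
    {p : ℕ} [Fact p.Prime] (hp : p ≠ 2) (hC : ∀ H K : Subgroup G, IsPGroup p H → IsPGroup p K → Nat.card H = Nat.card K →
      ∃ g : G, K = H.map (MulAut.conj g).toMonoidHom) (P : Sylow p G)
    (H : Subgroup G) [H.Normal] (hsolv : Cfsg.IsPSolvable p H) (hdiv : p ∣ Nat.card H) :
    IsMulCommutative P ∧ ((P : Subgroup G) ≤ H ∨ IsCyclic P) := by
  have hpp : p.Prime := Fact.out
  have hHn : H.Normal := inferInstance
  by_cases hcyc : IsCyclic P
  · refine ⟨⟨⟨fun a b => ?_⟩⟩, Or.inr hcyc⟩
    obtain ⟨g, hg⟩ := IsCyclic.exists_generator (α := P)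
    obtain ⟨m, rfl⟩ := Subgroup.mem_zpowers_iff.mp (hg a)
    obtain ⟨n, rfl⟩ := Subgroup.mem_zpowers_iff.mp (hg b)
    exact zpow_mul_comm g m n
  -- exponent `p`
  have hexp : ∀ x : P, x ^ p = 1 := by
    rcases Cfsg.Agent.S4023.key hC (P : Subgroup G) P.2 with h | h
    · exact h
    · exact absurd (isCyclic_of_atMostOne_of_odd hp (Nat.card P) ↥(P : Subgroup G) rfl P.2 h) hcyc
  have hexp' : ∀ x ∈ (P : Subgroup G), x ^ p = 1 := fun x hx => by
    simpa using congrArg Subtype.val (hexp ⟨x, hx⟩)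
  -- `P ≤ H`
  have hS1 : (P : Subgroup G) ⊓ H ≠ ⊥ := by
    obtain ⟨u, hu⟩ := exists_prime_orderOf_dvd_card' p hdiv
    have hu' : orderOf (u : G) = p := by rw [Subgroup.orderOf_coe]; exact hu
    have hzp : IsPGroup p (Subgroup.zpowers (u : G)) := by
      apply IsPGroup.of_card (n := 1)
      rw [Nat.card_zpowers, hu', pow_one]
    obtain ⟨P', hP'⟩ := hzp.exists_le_sylow
    obtain ⟨h, hh⟩ := MulAction.exists_smul_eq G P' P
    have huP' : (u : G) ∈ (P' : Subgroup G) := hP' (Subgroup.mem_zpowers _)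
    have hconj : h * (u : G) * h⁻¹ ∈ (P : Subgroup G) := by
      rw [← hh, Cfsg.Agent.Lib.H16.mem_sylow_smul_iff]
      have : h⁻¹ * (h * (u : G) * h⁻¹) * h = (u : G) := by group
      rw [this]; exact huP'
    intro hbot
    have hmem : h * (u : G) * h⁻¹ ∈ (P : Subgroup G) ⊓ H := ⟨hconj, hHn.conj_mem _ u.2 h⟩
    rw [hbot, Subgroup.mem_bot] at hmem
    have : (u : G) = 1 := by
      have : h * (u : G) * h⁻¹ = h * 1 * h⁻¹ := by rw [hmem]; group
      exact mul_left_cancel (mul_right_cancel this)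
    rw [this, orderOf_one] at hu'
    exact hpp.one_lt.ne hu'
  have hPH : (P : Subgroup G) ≤ H := by
    by_contra hnot
    have hS2 : (P : Subgroup G) ⊓ H ≠ P := by
      intro h
      apply hnot
      rw [← h]; exact inf_le_right
    obtain ⟨T, hTP, hTcard, hTne⟩ :=
      exists_ne_card_eq_of_exponent_p' (P : Subgroup G) P.2 hexp' _ inf_le_left hS1 hS2
    obtain ⟨g, hg⟩ := hC _ T (P.2.to_le inf_le_left) (P.2.to_le hTP) hTcard.symm
    apply hTne
    apply Subgroup.eq_of_le_of_card_ge _ hTcard.ge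
    apply le_inf hTP
    rw [hg]
    rintro _ ⟨s, hs, rfl⟩
    exact hHn.conj_mem s hs.2 g
  refine ⟨?_, Or.inl hPH⟩
  -- abelian, via Theorem K in `H`
  have hA : ∀ A B : Subgroup H, IsPGroup p A → IsPGroup p B → Nat.card A = Nat.card B →
      ∃ e : H ≃* H, B = A.map e.toMonoidHom := by
    intro A B hAp hBp hcard
    obtain ⟨g, hg⟩ := hC (A.map H.subtype) (B.map H.subtype) (hAp.map _) (hBp.map _) (by
      rw [Subgroup.card_map_of_injective H.subtype_injective,
        Subgroup.card_map_of_injective H.subtype_injective, hcard])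
    refine ⟨MulAut.conjNormal g, ?_⟩
    ext x
    constructor
    · intro hx
      have h1 : (x : G) ∈ B.map H.subtype := ⟨x, hx, rfl⟩
      rw [hg] at h1
      obtain ⟨_, ⟨a, ha, rfl⟩, hax⟩ := h1
      refine ⟨a, ha, ?_⟩
      apply Subtype.ext
      rw [← hax]
      exact MulAut.conjNormal_apply g a
    · rintro ⟨a, ha, rfl⟩
      have h1 : ((MulAut.conjNormal g a : H) : G) ∈ B.map H.subtype := by
        rw [hg]
        exact ⟨(a : G), ⟨a, ha, rfl⟩, (MulAut.conjNormal_apply g a).symm⟩
      obtain ⟨b, hb, hbe⟩ := h1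
      have : b = MulAut.conjNormal g a := Subtype.ext hbe
      show MulAut.conjNormal g a ∈ B
      rw [← this]; exact hb
  have hK := abelian_of_equal_order_conj_aut hsolv hA (P.subtype hPH) (by
    intro x hx
    rw [Sylow.coe_subtype, Subgroup.mem_subgroupOf] at hx
    exact Subtype.ext (by simpa using hexp' x.1 hx))
  refine ⟨⟨fun a b => ?_⟩⟩
  have h1 := hK ⟨a.1, hPH a.2⟩ (by rw [Sylow.coe_subtype, Subgroup.mem_subgroupOf]; exact a.2)
    ⟨b.1, hPH b.2⟩ (by rw [Sylow.coe_subtype, Subgroup.mem_subgroupOf]; exact b.2)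
  apply Subtype.ext
  have := congrArg (fun z : H => (z : G)) h1
  simpa using this

end Cfsg.Agent.S4024
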