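import Mathlib
import Cfsg.Agent.Lib.H20.PowDecomp
import Cfsg.Agent.Lib.H20.CoprimeConj

namespace Cfsg.Agent.S4032

open Cfsg.Agent.Lib.H20 in
theorem result {G : Type*} [Group G] [Finite G] (π : Set ℕ)
    (hirr : ∀ x : G, (∀ r : ℕ, r.Prime → r ∣ orderOf x → r ∈ π) →
      Subgroup.normalizer ((Subgroup.zpowers x : Subgroup G) : Set G) ≤ Subgroup.centralizer {x})
    (N : Subgroup G) [N.Normal] (hN : ∀ r : ℕ, r.Prime → r ∣ Nat.card N → r ∉ π) :
    ∀ y : G ⧸ N, (∀ r : ℕ, r.Prime → r ∣ orderOf y → r ∈ π) →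
      Subgroup.normalizer ((Subgroup.zpowers y : Subgroup (G ⧸ N)) : Set (G ⧸ N)) ≤ Subgroup.centralizer {y} := by
  classical
  -- prime power case
  have hpp : ∀ (p : ℕ), p.Prime → p ∈ π → ∀ (y g : G ⧸ N) (k : ℕ), orderOf y = p ^ k →
      g * y * g⁻¹ ∈ Subgroup.zpowers y → g * y = y * g := by
    intro p hp hpπ y g k hk hgy
    haveI : Fact p.Prime := ⟨hp⟩
    obtain ⟨x, rfl⟩ := QuotientGroup.mk_surjective y
    obtain ⟨g₀, rfl⟩ := QuotientGroup.mk_surjective g
    obtain ⟨a, b, hab, ⟨e, he⟩, hb⟩ := exists_pPart_pPrimePart x (isOfFinOrder_of_finite x) p hp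
    have hbN : ((x ^ b : G) : G ⧸ N) = 1 := by
      rw [← orderOf_eq_one_iff]
      have h1 : orderOf ((x ^ b : G) : G ⧸ N) ∣ orderOf (x ^ b) :=
        orderOf_map_dvd (QuotientGroup.mk' N) _
      have h2 : orderOf ((x ^ b : G) : G ⧸ N) ∣ p ^ k := by
        rw [← hk]
        have : ((x ^ b : G) : G ⧸ N) = (x : G ⧸ N) ^ b := rfl
        rw [this]; exact orderOf_pow_dvd b
      exact Nat.eq_one_of_dvd_coprimes (Nat.Coprime.pow_right k hb) h1 h2
    have hxy : (x : G ⧸ N) = ((x ^ a : G) : G ⧸ N) := by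
      conv_lhs => rw [← hab]
      rw [QuotientGroup.mk_mul, hbN, mul_one]
    rw [hxy] at hgy ⊢
    set x' := x ^ a with hx'
    have hx'π : ∀ r : ℕ, r.Prime → r ∣ orderOf x' → r ∈ π := by
      intro r hr hrd
      rw [he] at hrd
      have := (Nat.prime_dvd_prime_iff_eq hr hp).mp (hr.dvd_of_dvd_pow hrd)
      rw [this]; exact hpπ
    have hNcop : (Nat.card N).Coprime p := by
      rw [Nat.coprime_comm, Nat.Prime.coprime_iff_not_dvd hp]
      intro h
      exact hN p hp h hpπ
    set z := g₀ * x' * g₀⁻¹ with hz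
    have hzo : orderOf z = p ^ e := by
      have : z = MulAut.conj g₀ x' := by simp [hz, MulAut.conj_apply]
      rw [this, MulEquiv.orderOf_eq, he]
    have hzK : z ∈ N ⊔ Subgroup.zpowers x' := by
      obtain ⟨j, hj⟩ := Subgroup.mem_zpowers_iff.mp hgy
      have h1 : ((x' ^ j : G) : G ⧸ N) = ((z : G) : G ⧸ N) := by
        rw [hz]; exact hj
      have h2 : (x' ^ j)⁻¹ * z ∈ N := QuotientGroup.eq.mp h1
      have h3 : z = x' ^ j * ((x' ^ j)⁻¹ * z) := by group
      rw [h3]
      exact Subgroup.mul_mem _ (Subgroup.mem_sup_right (Subgroup.zpow_mem _ (Subgroup.mem_zpowers x') j))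
        (Subgroup.mem_sup_left h2)
    have hQ : IsPGroup p (Subgroup.zpowers x') := by
      rw [IsPGroup.iff_card]
      exact ⟨e, by rw [Nat.card_zpowers, he]⟩
    obtain ⟨n, hn, hnz⟩ := exists_conj_mem_of_coprime N (Subgroup.zpowers x') p hQ hNcop z hzK ⟨e, hzo⟩
    have h4 : (n * g₀) * x' * (n * g₀)⁻¹ ∈ Subgroup.zpowers x' := by
      have : (n * g₀) * x' * (n * g₀)⁻¹ = n * z * n⁻¹ := by rw [hz]; group
      rw [this]; exact hnz
    have h5 := hirr x' hx'π (mem_normalizer_zpowers_of_conj_mem x' (n * g₀) h4)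
    rw [Subgroup.mem_centralizer_singleton_iff] at h5
    have h6 : ((n * g₀ : G) : G ⧸ N) = (g₀ : G ⧸ N) := by
      rw [QuotientGroup.mk_mul, (QuotientGroup.eq_one_iff n).mpr hn, one_mul]
    have h7 := congrArg (fun t : G => (t : G ⧸ N)) h5
    simp only [QuotientGroup.mk_mul] at h7
    rw [← QuotientGroup.mk_mul N n g₀, h6] at h7
    exact h7
  -- general case
  have hgen : ∀ m : ℕ, ∀ y g : G ⧸ N, orderOf y = m →
      (∀ r : ℕ, r.Prime → r ∣ orderOf y → r ∈ π) →
      g * y * g⁻¹ ∈ Subgroup.zpowers y → g * y = y * g := by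
    intro m
    induction m using Nat.strong_induction_on with
    | _ m ih =>
      intro y g hm hπ hgy
      by_cases h1 : orderOf y = 1
      · rw [orderOf_eq_one_iff.mp h1]; simp
      · set p := (orderOf y).minFac with hp_def
        have hp : p.Prime := Nat.minFac_prime h1
        have hpd : p ∣ orderOf y := Nat.minFac_dvd _
        have hpπ : p ∈ π := hπ p hp hpd
        obtain ⟨a, b, hab, ⟨e, he⟩, hb⟩ := exists_pPart_pPrimePart y (isOfFinOrder_of_finite y) p hp
        have key : ∀ j : ℕ, g * y ^ j * g⁻¹ ∈ Subgroup.zpowers (y ^ j) := by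
          intro j
          obtain ⟨i, hi⟩ := Subgroup.mem_zpowers_iff.mp hgy
          have h2 : g * y ^ j * g⁻¹ = (g * y * g⁻¹) ^ j := by
            have e1 : g * y ^ j * g⁻¹ = MulAut.conj g (y ^ j) := by simp [MulAut.conj_apply]
            have e2 : g * y * g⁻¹ = MulAut.conj g y := by simp [MulAut.conj_apply]
            rw [e1, e2, map_pow]
          rw [h2, ← hi, Subgroup.mem_zpowers_iff]
          refine ⟨i, ?_⟩
          rw [← zpow_natCast, ← zpow_natCast, ← zpow_mul, ← zpow_mul, mul_comm]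
        have h2 : g * y ^ a = y ^ a * g := hpp p hp hpπ (y ^ a) g e he (key a)
        have hlt : orderOf (y ^ b) < m := by
          rw [← hm]
          apply lt_of_le_of_ne (Nat.le_of_dvd (orderOf_pos y) (orderOf_pow_dvd b))
          intro heq
          rw [heq] at hb
          have : p ∣ Nat.gcd (orderOf y) p := Nat.dvd_gcd hpd dvd_rfl
          rw [hb] at this
          exact hp.one_lt.ne' (Nat.dvd_one.mp this)
        have h3 : g * y ^ b = y ^ b * g :=
          ih (orderOf (y ^ b)) hlt (y ^ b) g rfl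
            (fun r hr hrd => hπ r hr (hrd.trans (orderOf_pow_dvd b))) (key b)
        calc g * y = g * (y ^ a * y ^ b) := by rw [hab]
          _ = (g * y ^ a) * y ^ b := by rw [mul_assoc]
          _ = y ^ a * (g * y ^ b) := by rw [h2, mul_assoc]
          _ = y ^ a * y ^ b * g := by rw [h3, mul_assoc]
          _ = y * g := by rw [hab]
  intro y hy g hg
  rw [Subgroup.mem_centralizer_singleton_iff]
  have h1 : g * y * g⁻¹ ∈ Subgroup.zpowers y :=
    (Subgroup.mem_normalizer_iff.mp hg y).mp (Subgroup.mem_zpowers y)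
  exact hgen (orderOf y) y g rfl hy h1

end Cfsg.Agent.S4032
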