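import Mathlib
import Cfsg.Agent.Lib.H20.PowDecomp
import Cfsg.Agent.Lib.H20.CoprimeConj
import Cfsg.Agent.Lib.H20.CyclicNormalizer
import Cfsg.Agent.Lib.H26.Basic

namespace Cfsg.Agent.S4028

open Cfsg.Agent.Lib.H20 Cfsg.Agent.Lib.H26 in
theorem result {G : Type*} [Group G] [Finite G] (P : Sylow 2 G) :
    (∀ x : G, (∀ r : ℕ, r.Prime → r ∣ orderOf x → r = 2) →
      Subgroup.normalizer ((Subgroup.zpowers x : Subgroup G) : Set G) ≤ Subgroup.centralizer {x}) ↔
    (∀ y : ↥(P : Subgroup G), Subgroup.normalizer ((Subgroup.zpowers y : Subgroup ↥(P : Subgroup G)) : Set ↥(P : Subgroup G)) ≤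
        Subgroup.centralizer {y}) := by
  classical
  constructor
  · intro h y g hg
    rw [Subgroup.mem_centralizer_singleton_iff]
    have hy2 : ∀ r : ℕ, r.Prime → r ∣ orderOf (y : G) → r = 2 := by
      intro r hr hrd
      obtain ⟨k, hk⟩ := (IsPGroup.iff_orderOf.mp P.isPGroup') y
      rw [Subgroup.orderOf_coe, hk] at hrd
      exact (Nat.prime_dvd_prime_iff_eq hr Nat.prime_two).mp (hr.dvd_of_dvd_pow hrd)
    have h1 : g * y * g⁻¹ ∈ Subgroup.zpowers y :=
      (Subgroup.mem_normalizer_iff.mp hg y).mp (Subgroup.mem_zpowers y)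
    obtain ⟨k, hk⟩ := Subgroup.mem_zpowers_iff.mp h1
    have h2 : (g : G) * (y : G) * (g : G)⁻¹ ∈ Subgroup.zpowers (y : G) := by
      rw [Subgroup.mem_zpowers_iff]
      refine ⟨k, ?_⟩
      have := congrArg Subtype.val hk
      simpa using this
    have h3 := h (y : G) hy2 (mem_normalizer_zpowers_of_conj_mem (y : G) (g : G) h2)
    rw [Subgroup.mem_centralizer_singleton_iff] at h3
    exact Subtype.ext h3
  · intro h x hx g hg
    rw [Subgroup.mem_centralizer_singleton_iff]
    have hgx : g * x * g⁻¹ ∈ Subgroup.zpowers x :=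
      (Subgroup.mem_normalizer_iff.mp hg x).mp (Subgroup.mem_zpowers x)
    -- order of x is a power of 2
    have hxo : orderOf x = 2 ^ (orderOf x).primeFactorsList.length :=
      Nat.eq_prime_pow_of_unique_prime_dvd (orderOf_pos x).ne' (fun {d} hd hdd => hx d hd hdd)
    set k := (orderOf x).primeFactorsList.length with hk_def
    obtain ⟨a, b, hab, ⟨e, he⟩, hb⟩ :=
      exists_pPart_pPrimePart g (isOfFinOrder_of_finite g) 2 Nat.prime_two
    -- the odd part centralizes x
    have hbx : g ^ b * x = x * g ^ b := by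
      apply commute_of_conj_mem_zpowers_of_coprime_totient x (g ^ b) (isOfFinOrder_of_finite x)
        _ (orderOf (g ^ b))
      · rw [pow_orderOf_eq_one, one_mul, mul_one]
      · rw [hxo]
        rcases Nat.eq_zero_or_pos k with hk0 | hkpos
        · rw [hk0, pow_zero, Nat.totient_one]; exact Nat.coprime_one_right _
        · rw [Nat.totient_prime_pow Nat.prime_two hkpos]
          simp only [Nat.add_one_sub_one, mul_one]
          exact Nat.Coprime.pow_right _ hb
      · have : g ^ b ∈ Subgroup.normalizer ((Subgroup.zpowers x : Subgroup G) : Set G) :=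
          Subgroup.pow_mem _ hg b
        exact (Subgroup.mem_normalizer_iff.mp this x).mp (Subgroup.mem_zpowers x)
    -- the 2-part
    have hax : g ^ a * x = x * g ^ a := by
      have haN : g ^ a ∈ Subgroup.normalizer ((Subgroup.zpowers x : Subgroup G) : Set G) :=
        Subgroup.pow_mem _ hg a
      have hQ1 : IsPGroup 2 (Subgroup.zpowers x) := by
        rw [IsPGroup.iff_card]
        exact ⟨k, by rw [Nat.card_zpowers]; exact hxo⟩
      have hQ2 : IsPGroup 2 (Subgroup.zpowers (g ^ a)) := by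
        rw [IsPGroup.iff_card]
        exact ⟨e, by rw [Nat.card_zpowers, he]⟩
      have hle : Subgroup.zpowers (g ^ a) ≤
          Subgroup.normalizer ((Subgroup.zpowers x : Subgroup G) : Set G) := by
        rw [Subgroup.zpowers_le]; exact haN
      have hQ : IsPGroup 2 (Subgroup.zpowers x ⊔ Subgroup.zpowers (g ^ a) : Subgroup G) :=
        hQ1.to_sup_of_normal_left' hQ2 hle
      obtain ⟨c, hc⟩ := exists_conj_mem_sylow P _ hQ
      have hx1 : c * x * c⁻¹ ∈ (P : Subgroup G) :=
        hc x (Subgroup.mem_sup_left (Subgroup.mem_zpowers x))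
      have hg1 : c * g ^ a * c⁻¹ ∈ (P : Subgroup G) :=
        hc _ (Subgroup.mem_sup_right (Subgroup.mem_zpowers _))
      have hconj : (⟨c * g ^ a * c⁻¹, hg1⟩ : (P : Subgroup G)) * ⟨c * x * c⁻¹, hx1⟩ *
          (⟨c * g ^ a * c⁻¹, hg1⟩ : (P : Subgroup G))⁻¹ ∈
          Subgroup.zpowers (⟨c * x * c⁻¹, hx1⟩ : (P : Subgroup G)) := by
        have h1 : g ^ a * x * (g ^ a)⁻¹ ∈ Subgroup.zpowers x :=
          (Subgroup.mem_normalizer_iff.mp haN x).mp (Subgroup.mem_zpowers x)
        obtain ⟨j, hj⟩ := Subgroup.mem_zpowers_iff.mp h1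
        rw [Subgroup.mem_zpowers_iff]
        refine ⟨j, ?_⟩
        apply Subtype.ext
        simp only [Subgroup.coe_zpow, Subgroup.coe_mul, Subgroup.coe_inv]
        have e1 : (c * x * c⁻¹) ^ j = c * x ^ j * c⁻¹ := by
          have e1 : c * x ^ j * c⁻¹ = MulAut.conj c (x ^ j) := by simp [MulAut.conj_apply]
          have e2 : c * x * c⁻¹ = MulAut.conj c x := by simp [MulAut.conj_apply]
          rw [e1, e2, map_zpow]
        rw [e1, hj]; group
      have h2 := h ⟨c * x * c⁻¹, hx1⟩ (mem_normalizer_zpowers_of_conj_mem _ _ hconj)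
      rw [Subgroup.mem_centralizer_singleton_iff] at h2
      have h3 : (c * g ^ a * c⁻¹) * (c * x * c⁻¹) = (c * x * c⁻¹) * (c * g ^ a * c⁻¹) :=
        congrArg Subtype.val h2
      calc g ^ a * x = c⁻¹ * ((c * g ^ a * c⁻¹) * (c * x * c⁻¹)) * c := by group
        _ = c⁻¹ * ((c * x * c⁻¹) * (c * g ^ a * c⁻¹)) * c := by rw [h3]
        _ = x * g ^ a := by group
    calc g * x = (g ^ a * g ^ b) * x := by rw [hab]
      _ = g ^ a * (g ^ b * x) := by rw [mul_assoc]
      _ = (g ^ a * x) * g ^ b := by rw [hbx, mul_assoc]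
      _ = x * (g ^ a * g ^ b) := by rw [hax, mul_assoc]
      _ = x * g := by rw [hab]

end Cfsg.Agent.S4028
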