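import Mathlib
import Cfsg.Agent.Lib.H24.CharConj
import Cfsg.Agent.Lib.L0.CharLinear
import Cfsg.Agent.Lib.H1.PGroupBasic

set_option autoImplicit false
open Cfsg
open scoped commutatorElement

namespace Cfsg.Agent.S4029

variable {P : Type*} [Group P]

/-- Under the hypothesis, a real element squares to `1`. -/
theorem sq_eq_one_of_isConj_inv
    (hirr : ∀ y : P, Subgroup.normalizer ((Subgroup.zpowers y : Subgroup P) : Set P) ≤
      Subgroup.centralizer {y}) (g : P) (h : IsConj g g⁻¹) : g ^ 2 = 1 := by
  obtain ⟨c, hc⟩ := isConj_iff.mp h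
  have hc' : c⁻¹ * g * c = g⁻¹ := by
    have : g = c⁻¹ * g⁻¹ * c := by rw [← hc]; group
    calc c⁻¹ * g * c = (c⁻¹ * g⁻¹ * c)⁻¹ := by group
      _ = g⁻¹ := by rw [← this]
  have hcN : c ∈ Subgroup.normalizer ((Subgroup.zpowers g : Subgroup P) : Set P) := by
    rw [Subgroup.mem_normalizer_iff]
    intro x
    constructor
    · intro hx
      obtain ⟨k, rfl⟩ := Subgroup.mem_zpowers_iff.mp hx
      rw [← conj_zpow, hc]
      exact Subgroup.zpow_mem _ (Subgroup.inv_mem _ (Subgroup.mem_zpowers g)) k
    · intro hx
      obtain ⟨k, hk⟩ := Subgroup.mem_zpowers_iff.mp hx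
      have : x = c⁻¹ * g ^ k * c := by rw [hk]; group
      have h2 : c⁻¹ * g ^ k * c = (c⁻¹ * g * c) ^ k := by
        have := conj_zpow (a := c⁻¹) (b := g) (i := k)
        rw [inv_inv] at this
        exact this.symm
      rw [this, h2, hc']
      exact Subgroup.zpow_mem _ (Subgroup.inv_mem _ (Subgroup.mem_zpowers g)) k
  have hcC := hirr g hcN
  rw [Subgroup.mem_centralizer_iff] at hcC
  have h3 : g * c = c * g := hcC g rfl
  have h4 : g = g⁻¹ := by
    rw [← hc, ← h3]; group
  calc g ^ 2 = g * g := pow_two g
    _ = g * g⁻¹ := by rw [← h4]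
    _ = 1 := mul_inv_cancel g


/-- The number of real classes is at most the number of involution classes plus one. -/
theorem card_real_classes_le [Finite P]
    (hirr : ∀ y : P, Subgroup.normalizer ((Subgroup.zpowers y : Subgroup P) : Set P) ≤
      Subgroup.centralizer {y}) :
    Nat.card {C : ConjClasses P // ∀ g : P, ConjClasses.mk g = C → IsConj g g⁻¹} ≤
      Nat.card {c : ConjClasses P // ∃ y : P, ConjClasses.mk y = c ∧ orderOf y = 2} + 1 := by
  classical
  rw [← Finite.card_option]
  let f : {C : ConjClasses P // ∀ g : P, ConjClasses.mk g = C → IsConj g g⁻¹} →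
      Option {c : ConjClasses P // ∃ y : P, ConjClasses.mk y = c ∧ orderOf y = 2} := fun C =>
    if h : orderOf (Quotient.out C.1) = 2 then
      some ⟨C.1, Quotient.out C.1, Quotient.out_eq C.1, h⟩
    else none
  apply Nat.card_le_card_of_injective f
  intro C C' hCC
  have hout : ∀ D : {C : ConjClasses P // ∀ g : P, ConjClasses.mk g = C → IsConj g g⁻¹},
      orderOf (Quotient.out D.1) ≠ 2 → D.1 = ConjClasses.mk 1 := by
    intro D hD
    have h1 : ConjClasses.mk (Quotient.out D.1) = D.1 := Quotient.out_eq D.1
    have h2 := sq_eq_one_of_isConj_inv hirr _ (D.2 _ h1)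
    have h3 : Quotient.out D.1 = 1 := by
      by_contra hne
      exact hD (orderOf_eq_prime h2 hne)
    rw [← h1, h3]
  apply Subtype.ext
  by_cases h : orderOf (Quotient.out C.1) = 2
  · by_cases h' : orderOf (Quotient.out C'.1) = 2
    · simp only [f, h, h', dite_true, Option.some.injEq, Subtype.mk.injEq] at hCC
      exact hCC
    · simp [f, h, h'] at hCC
  · by_cases h' : orderOf (Quotient.out C'.1) = 2
    · simp [f, h, h'] at hCC
    · rw [hout C h, hout C' h']

/-- The number of involution classes plus one is at most the order of the subgroup generated by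
the involutions. -/
theorem card_inv_classes_le [Finite P] :
    Nat.card {c : ConjClasses P // ∃ y : P, ConjClasses.mk y = c ∧ orderOf y = 2} + 1 ≤
      Nat.card (Subgroup.closure {y : P | orderOf y = 2}) := by
  classical
  rw [← Finite.card_option]
  let f : Option {c : ConjClasses P // ∃ y : P, ConjClasses.mk y = c ∧ orderOf y = 2} →
      Subgroup.closure {y : P | orderOf y = 2} := fun o =>
    match o with
    | none => 1
    | some c => ⟨c.2.choose, Subgroup.subset_closure c.2.choose_spec.2⟩
  apply Nat.card_le_card_of_injective f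
  intro o o' h
  cases o with
  | none =>
    cases o' with
    | none => rfl
    | some c' =>
      exfalso
      have h1 : (1 : P) = c'.2.choose := congrArg Subtype.val h
      have h2 := c'.2.choose_spec.2
      rw [← h1, orderOf_one] at h2
      omega
  | some c =>
    cases o' with
    | none =>
      exfalso
      have h1 : c.2.choose = (1 : P) := congrArg Subtype.val h
      have h2 := c.2.choose_spec.2
      rw [h1, orderOf_one] at h2
      omega
    | some c' =>
      have h1 : c.2.choose = c'.2.choose := congrArg Subtype.val h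
      congr 1
      apply Subtype.ext
      rw [← c.2.choose_spec.1, ← c'.2.choose_spec.1, h1]


/-- For a finite `2`-group, `#(P/Φ(P))` is at most the number of real irreducible characters. -/
theorem card_quot_le_card_real_irr [Finite P] (hP : IsPGroup 2 P) :
    Nat.card (P ⧸ frattini P) ≤
      Nat.card {χ : IrrCharacter P // ∀ g : P, ((χ : P → ℂ) g).im = 0} := by
  classical
  haveI : Fact (Nat.Prime 2) := ⟨Nat.prime_two⟩
  have hcomm : ∀ a b : P ⧸ frattini P, a * b = b * a := by
    intro a b
    induction a using QuotientGroup.induction_on with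
    | H a =>
    induction b using QuotientGroup.induction_on with
    | H b =>
    have h1 : ⁅a, b⁆ ∈ frattini P :=
      Cfsg.Agent.Lib.H1.isPGroup_commutator_le_frattini hP (Subgroup.commutator_mem_commutator
        (Subgroup.mem_top a) (Subgroup.mem_top b))
    have h2 : ((⁅a, b⁆ : P) : P ⧸ frattini P) = 1 := (QuotientGroup.eq_one_iff _).mpr h1
    rw [commutatorElement_def] at h2
    simp only [QuotientGroup.mk_mul, QuotientGroup.mk_inv] at h2
    calc (a : P ⧸ frattini P) * b = (a * b * (a : P ⧸ frattini P)⁻¹ * (b : P ⧸ frattini P)⁻¹) * (b * a) := by group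
      _ = b * a := by rw [h2, one_mul]
  have hsq : ∀ a : P ⧸ frattini P, a ^ 2 = 1 := by
    intro a
    induction a using QuotientGroup.induction_on with
    | H a =>
    rw [← QuotientGroup.mk_pow]
    exact (QuotientGroup.eq_one_iff _).mpr (Cfsg.Agent.Lib.H1.isPGroup_pow_mem_frattini hP a)
  letI : CommGroup (P ⧸ frattini P) :=
    { (inferInstance : Group (P ⧸ frattini P)) with mul_comm := hcomm }
  have hcard : Nat.card ((P ⧸ frattini P) →* ℂˣ) = Nat.card (P ⧸ frattini P) :=
    CommGroup.card_monoidHom_of_hasEnoughRootsOfUnity (P ⧸ frattini P) ℂ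
  rw [← hcard]
  let Φ : ((P ⧸ frattini P) →* ℂˣ) → {χ : IrrCharacter P // ∀ g : P, ((χ : P → ℂ) g).im = 0} :=
    fun f => ⟨⟨fun g => ((f.comp (QuotientGroup.mk' (frattini P))) g : ℂ),
      Cfsg.Agent.Lib.L0.isIrrCharacter_of_hom (f.comp (QuotientGroup.mk' (frattini P)))⟩, by
        intro g
        show (((f.comp (QuotientGroup.mk' (frattini P))) g : ℂˣ) : ℂ).im = 0
        have h1 : (f ((QuotientGroup.mk' (frattini P)) g)) ^ 2 = 1 := by
          rw [← map_pow, hsq, map_one]
        have h2 : ((f ((QuotientGroup.mk' (frattini P)) g) : ℂˣ) : ℂ) ^ 2 = 1 := by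
          have := congrArg Units.val h1
          simpa using this
        rw [pow_two] at h2
        rcases mul_self_eq_one_iff.mp h2 with h | h
        · have h3 : (((f.comp (QuotientGroup.mk' (frattini P))) g : ℂˣ) : ℂ) = 1 := h
          rw [h3]; simp
        · have h3 : (((f.comp (QuotientGroup.mk' (frattini P))) g : ℂˣ) : ℂ) = -1 := h
          rw [h3]; simp⟩
  apply Nat.card_le_card_of_injective Φ
  intro f f' hff
  have h1 := congrArg (fun χ => (χ.1.1 : P → ℂ)) hff
  simp only [Φ] at h1
  apply MonoidHom.ext
  intro q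
  induction q using QuotientGroup.induction_on with
  | H g =>
  have h2 := congrFun h1 g
  exact Units.ext h2


/-- Let P be a finite 2-group in which N_P(⟨y⟩) = C_P(y) for every y ∈ P. If s is the number of conjugacy classes of involutions of P, then #(P/Φ(P)) ≤ s + 1; in particular the subgroup generated by the involutions of P has order at least #(P/Φ(P)). -/
theorem result {P : Type*} [Group P] [Finite P] (hP : IsPGroup 2 P)
    (hirr : ∀ y : P, Subgroup.normalizer ((Subgroup.zpowers y : Subgroup P) : Set P) ≤ Subgroup.centralizer {y}) :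
    Nat.card (P ⧸ frattini P) ≤ Nat.card {c : ConjClasses P // ∃ y : P, ConjClasses.mk y = c ∧ orderOf y = 2} + 1 ∧
    Nat.card (P ⧸ frattini P) ≤ Nat.card (Subgroup.closure {y : P | orderOf y = 2}) := by
  have h1 : Nat.card (P ⧸ frattini P) ≤
      Nat.card {c : ConjClasses P // ∃ y : P, ConjClasses.mk y = c ∧ orderOf y = 2} + 1 := by
    calc Nat.card (P ⧸ frattini P)
        ≤ Nat.card {χ : IrrCharacter P // ∀ g : P, ((χ : P → ℂ) g).im = 0} :=
          card_quot_le_card_real_irr hP
      _ = Nat.card {C : ConjClasses P // ∀ g : P, ConjClasses.mk g = C → IsConj g g⁻¹} :=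
          Cfsg.Agent.Lib.H24.card_real_irr_eq_card_real_classes
      _ ≤ _ := card_real_classes_le hirr
  exact ⟨h1, h1.trans card_inv_classes_le⟩

end Cfsg.Agent.S4029
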